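import Mathlib
import Cfsg.Agent.S0205

/-!
Linear part of the structure of insoluble extremely primitive affine groups:
if a finite group acts faithfully and irreducibly on a finite abelian group, so that each
point stabiliser of a nonzero vector is maximal, and the group is insoluble, then the module
has characteristic two and the group is almost simple.
-/

set_option autoImplicit false

open MulAction Subgroup

namespace CfsgLib.ExtremelyPrimitiveAffine

variable {H : Type*} [Group H] {V : Type*} [AddCommGroup V] [DistribMulAction H V]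

/-- Invariance of an additive subgroup under a set of group elements. -/
def Inv (C : Subgroup H) (W : AddSubgroup V) : Prop := ∀ c ∈ C, ∀ w ∈ W, c • w ∈ W

lemma inv_of_normalizing (C : Subgroup H) (W : AddSubgroup V) [Finite V] {A B : Subgroup H}
    (hA : Inv A W) (hB : Inv B W) (hC : C ≤ A ⊔ B) : Inv C W := by
  let St : Subgroup H :=
    { carrier := {g | ∀ w, g • w ∈ W ↔ w ∈ W}
      one_mem' := by intro w; simp
      mul_mem' := by
        intro a b ha hb w
        rw [mul_smul]
        exact (ha _).trans (hb _)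
      inv_mem' := by
        intro a ha w
        have := ha (a⁻¹ • w)
        rw [smul_inv_smul] at this
        exact this.symm }
  have key : ∀ A' : Subgroup H, Inv A' W → A' ≤ St := by
    intro A' hA' a ha w
    refine ⟨fun h => ?_, hA' a ha w⟩
    have := hA' a⁻¹ (inv_mem ha) _ h
    rwa [inv_smul_smul] at this
  intro c hc w hw
  exact ((sup_le (key A hA) (key B hB)) (hC hc) w).2 hw

lemma inv_mono {C D : Subgroup H} {W : AddSubgroup V} (h : Inv D W) (hCD : C ≤ D) : Inv C W :=
  fun c hc => h c (hCD hc)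

/-- Fixed vectors of a subgroup. -/
def fix (R : Subgroup H) : AddSubgroup V where
  carrier := {v | ∀ r ∈ R, r • v = v}
  zero_mem' := by intro r _; exact smul_zero r
  add_mem' := by intro a b ha hb r hr; rw [smul_add, ha r hr, hb r hr]
  neg_mem' := by intro a ha r hr; rw [smul_neg, ha r hr]

lemma inv_fix {C R : Subgroup H} (h : ∀ c ∈ C, ∀ r ∈ R, c⁻¹ * r * c ∈ R) :
    Inv C (fix R : AddSubgroup V) := by
  intro c hc v hv r hr
  have := hv _ (h c hc r hr)
  calc r • c • v = c • ((c⁻¹ * r * c) • v) := by simp [mul_smul]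
    _ = c • v := by rw [this]

lemma eq_bot_of_fix_eq_top [FaithfulSMul H V] (R : Subgroup H)
    (h : (fix R : AddSubgroup V) = ⊤) : R = ⊥ := by
  rw [Subgroup.eq_bot_iff_forall]
  intro r hr
  apply FaithfulSMul.eq_of_smul_eq_smul (α := V)
  intro v
  rw [one_smul]
  exact (h ▸ AddSubgroup.mem_top v : v ∈ fix R) r hr

variable (H V)

/-- The hypotheses. -/
structure Hyp : Prop where
  finH : Finite H
  finV : Finite V
  faith : FaithfulSMul H V
  irr : ∀ W : AddSubgroup V, Inv (⊤ : Subgroup H) W → W = ⊥ ∨ W = ⊤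
  maxStab : ∀ v : V, ∀ L : Subgroup H, stabilizer H v ≤ L → L = stabilizer H v ∨ L = ⊤
  nsol : ¬ Group.IsSolvable H

variable {H V}

namespace Hyp

variable (D : Hyp H V)
include D

lemma H_ne_trivial : (⊤ : Subgroup H) ≠ ⊥ := by
  intro h
  apply D.nsol
  have : Subsingleton H := Subgroup.subsingleton_iff.mp (subsingleton_of_top_le_bot (le_of_eq h))
  infer_instance

lemma fix_eq_bot (R : Subgroup H) [R.Normal] (hR : R ≠ ⊥) : (fix R : AddSubgroup V) = ⊥ := by
  have := D.faith
  rcases D.irr (fix R) (inv_fix fun c _ r hr => Subgroup.Normal.conj_mem' inferInstance r hr c)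
    with h | h
  · exact h
  · exact absurd (eq_bot_of_fix_eq_top R h) hR

/-- A nontrivial normal subgroup is transitive on every orbit of nonzero vectors. -/
lemma trans (R : Subgroup H) [R.Normal] (hR : R ≠ ⊥) {v : V} (hv : v ≠ 0) (h : H) :
    ∃ r ∈ R, r • v = h • v := by
  rcases D.maxStab v (R ⊔ stabilizer H v) le_sup_right with hL | hL
  · exfalso
    have hle : R ≤ stabilizer H v := le_sup_left.trans hL.le
    have : v ∈ fix R := fun r hr => hle hr
    rw [D.fix_eq_bot R hR] at this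
    exact hv (AddSubgroup.mem_bot.mp this)
  · have hm : h ∈ R ⊔ stabilizer H v := hL ▸ Subgroup.mem_top h
    rw [Subgroup.mem_sup_of_normal_left] at hm
    obtain ⟨r, hr, s, hs, rfl⟩ := hm
    exact ⟨r, hr, by rw [mul_smul, MulAction.mem_stabilizer_iff.mp hs]⟩

lemma irrR (R : Subgroup H) [R.Normal] (hR : R ≠ ⊥) (W : AddSubgroup V) (hW : Inv R W) :
    W = ⊥ ∨ W = ⊤ := by
  refine D.irr W fun h _ w hw => ?_
  by_cases hw0 : w = 0
  · subst hw0; rw [smul_zero]; exact W.zero_mem
  obtain ⟨r, hr, e⟩ := D.trans R hR hw0 h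
  exact e ▸ hW r hr w hw

/-- An element commuting with a nontrivial normal subgroup and fixing a nonzero vector is one. -/
lemma eq_one_of_commute_fix (R : Subgroup H) [R.Normal] (hR : R ≠ ⊥) (c : H)
    (hc : ∀ r ∈ R, r * c = c * r) {v : V} (hv : v ≠ 0) (hcv : c • v = v) : c = 1 := by
  have := D.faith
  let F : AddSubgroup V :=
    { carrier := {w | c • w = w}
      zero_mem' := smul_zero c
      add_mem' := by
        intro a b ha hb
        show c • (a + b) = a + b
        rw [smul_add, ha, hb]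
      neg_mem' := by
        intro a ha
        show c • (-a) = -a
        rw [smul_neg, ha] }
  have hF : Inv R F := by
    intro r hr w hw
    show c • r • w = r • w
    rw [← mul_smul, ← hc r hr, mul_smul, hw]
  rcases D.irrR R hR F hF with h | h
  · exact absurd (AddSubgroup.mem_bot.mp (h ▸ (show v ∈ F from hcv))) hv
  · apply FaithfulSMul.eq_of_smul_eq_smul (α := V)
    intro w
    rw [one_smul]
    exact (h ▸ AddSubgroup.mem_top w : w ∈ F)

lemma exists_ne_zero : ∃ v : V, v ≠ 0 := by
  have := D.faith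
  by_contra hh
  push Not at hh
  refine D.H_ne_trivial ((Subgroup.eq_bot_iff_forall _).mpr fun h _ => ?_)
  apply FaithfulSMul.eq_of_smul_eq_smul (α := V)
  intro v
  rw [hh v, smul_zero, smul_zero]

omit D in
lemma exists_orderOf_two [Finite H] (R : Subgroup H) (h : ¬ Group.IsSolvable R) :
    ∃ c ∈ R, orderOf c = 2 := by
  have hev : 2 ∣ Nat.card R := by
    by_contra h2
    exact h (Cfsg.Agent.S0205.result (Nat.odd_iff.mpr (by omega)))
  have : Fact (Nat.Prime 2) := ⟨Nat.prime_two⟩
  obtain ⟨c, hc⟩ := exists_prime_orderOf_dvd_card' 2 hev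
  exact ⟨c, c.2, by rw [Subgroup.orderOf_coe]; exact hc⟩

/-- The vector group has exponent two. -/
lemma add_self (v : V) : v + v = 0 := by
  have := D.finH
  have := D.faith
  obtain ⟨z, hz⟩ : ∃ z : H, orderOf z = 2 := by
    by_contra hh
    apply D.nsol
    apply Cfsg.Agent.S0205.result
    rw [Nat.odd_iff]
    by_contra h2
    have : Fact (Nat.Prime 2) := ⟨Nat.prime_two⟩
    exact hh (exists_prime_orderOf_dvd_card' 2 (by omega))
  let T2 : AddSubgroup V :=
    { carrier := {w | w + w = 0}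
      zero_mem' := add_zero 0
      add_mem' := by
        intro a b ha hb
        show a + b + (a + b) = 0
        rw [add_add_add_comm, ha, hb, add_zero]
      neg_mem' := by
        intro a ha
        show -a + -a = 0
        rw [← neg_add, ha, neg_zero] }
  have hT2 : Inv (⊤ : Subgroup H) T2 := by
    intro h _ w hw
    show h • w + h • w = 0
    rw [← smul_add, hw, smul_zero]
  rcases D.irr T2 hT2 with hb | ht
  swap
  · exact (ht ▸ AddSubgroup.mem_top v : v ∈ T2)
  exfalso
  have hz2 : z * z = 1 := by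
    have := pow_orderOf_eq_one z
    rwa [hz, pow_two] at this
  obtain ⟨u, hu⟩ : ∃ u : V, z • u ≠ u := by
    by_contra hh
    push Not at hh
    have : z = 1 := FaithfulSMul.eq_of_smul_eq_smul (α := V) fun w => by rw [hh w, one_smul]
    rw [this, orderOf_one] at hz
    omega
  set w := u - z • u with hw
  have hw0 : w ≠ 0 := sub_ne_zero.mpr (Ne.symm hu)
  have hzw : z • w = -w := by rw [hw, smul_sub, ← mul_smul, hz2, one_smul, neg_sub]
  let L : Subgroup H :=
    { carrier := {g | g • w = w ∨ g • w = -w}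
      one_mem' := Or.inl (one_smul _ _)
      mul_mem' := by
        rintro a b (ha | ha) (hb | hb) <;> simp [mul_smul, smul_neg, ha, hb]
      inv_mem' := by
        rintro a (ha | ha)
        · left; exact inv_smul_eq_iff.mpr ha.symm
        · right; rw [inv_smul_eq_iff, smul_neg, ha, neg_neg] }
  rcases D.maxStab w L (fun g hg => Or.inl hg) with hL | hL
  · have hzs : z ∈ stabilizer H w := hL ▸ (show z ∈ L from Or.inr hzw)
    have hzw' : z • w = w := hzs
    rw [hzw] at hzw'
    have hwT : w ∈ T2 := show w + w = 0 from by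
      calc w + w = -w + w := by rw [hzw']
        _ = 0 := neg_add_cancel w
    rw [hb] at hwT
    exact hw0 (AddSubgroup.mem_bot.mp hwT)
  · have hall : ∀ g : H, g • w = w ∨ g • w = -w := fun g => (hL ▸ Subgroup.mem_top g : g ∈ L)
    have hcl : AddSubgroup.closure ({w} : Set V) = ⊤ := by
      refine (D.irr _ ?_).resolve_left
        fun h => hw0 (AddSubgroup.mem_bot.mp (h ▸ AddSubgroup.subset_closure rfl))
      intro g _ x hx
      induction hx using AddSubgroup.closure_induction with
      | mem x hx =>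
        rw [Set.mem_singleton_iff] at hx; subst hx
        rcases hall g with h | h <;> rw [h]
        · exact AddSubgroup.subset_closure rfl
        · exact neg_mem (AddSubgroup.subset_closure rfl)
      | zero => rw [smul_zero]; exact zero_mem _
      | add a b _ _ ha hb => rw [smul_add]; exact add_mem ha hb
      | neg a _ ha => rw [smul_neg]; exact neg_mem ha
    apply D.nsol
    refine Group.isSolvable_of_comm fun a b => ?_
    apply FaithfulSMul.eq_of_smul_eq_smul (α := V)
    intro x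
    have hx : x ∈ AddSubgroup.closure ({w} : Set V) := hcl ▸ AddSubgroup.mem_top x
    induction hx using AddSubgroup.closure_induction with
    | mem x hx =>
      rw [Set.mem_singleton_iff] at hx; subst hx
      rcases hall a with ha | ha <;> rcases hall b with hb | hb <;>
        simp [mul_smul, smul_neg, ha, hb]
    | zero => simp
    | add p q _ _ hp hq => rw [smul_add, smul_add, hp, hq]
    | neg p _ hp => rw [smul_neg, smul_neg, hp]

lemma neg_self (v : V) : -v = v := (eq_neg_of_add_eq_zero_left (D.add_self v)).symm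

/-- A minimal normal subgroup of an insoluble group here is nonabelian. -/
lemma not_comm (K : Subgroup H) [K.Normal] (hK : K ≠ ⊥) : ¬ IsMulCommutative K := by
  intro hc
  have := D.finH
  have := D.finV
  have := D.faith
  have hcomm : ∀ a ∈ K, ∀ b ∈ K, a * b = b * a := fun a ha b hb =>
    congrArg Subtype.val (hc.is_comm.comm ⟨a, ha⟩ ⟨b, hb⟩)
  obtain ⟨v, hv⟩ := D.exists_ne_zero
  have hsemi : ∀ c : H, (∀ r ∈ K, r * c = c * r) → c ∈ K := by
    intro c hcc
    obtain ⟨k, hk, e⟩ := D.trans K hK hv c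
    have h1 : k⁻¹ * c = 1 := D.eq_one_of_commute_fix K hK _ (fun r hr => by
        have h1 : r * k⁻¹ = k⁻¹ * r := hcomm r hr k⁻¹ (inv_mem hk)
        rw [← mul_assoc, h1, mul_assoc, hcc r hr, mul_assoc]) hv
      (by rw [mul_smul, ← e, inv_smul_smul])
    rw [inv_mul_eq_one] at h1
    exact h1 ▸ hk
  -- the ring spanned by the image of `K`
  let ρ : K →* AddMonoid.End V :=
    { toFun := fun k => DistribSMul.toAddMonoidHom V (k : H)
      map_one' := by ext x; exact one_smul H x
      map_mul' := fun a b => by ext x; exact mul_smul (a : H) (b : H) x }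
  let R : Subring (AddMonoid.End V) := Subring.closure (Set.range ρ)
  have hRK : ∀ x ∈ R, ∀ k : K, x * ρ k = ρ k * x := by
    intro x hx k
    induction hx using Subring.closure_induction with
    | mem x hx =>
      obtain ⟨j, rfl⟩ := hx
      rw [← map_mul, ← map_mul]
      exact congrArg ρ (hc.is_comm.comm j k)
    | zero => simp
    | one => simp
    | add a b _ _ ha hb => rw [add_mul, mul_add, ha, hb]
    | neg a _ ha => rw [neg_mul, mul_neg, ha]
    | mul a b _ _ ha hb => rw [mul_assoc, hb, ← mul_assoc, ha, mul_assoc]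
  have hinj : ∀ x ∈ R, ∀ u : V, u ≠ 0 → x u = 0 → x = 0 := by
    intro x hx u hu hxu
    have hI : Inv K (AddMonoidHom.ker (x : V →+ V)) := by
      intro k hk w hw
      show x (k • w) = 0
      have := DFunLike.congr_fun (hRK x hx ⟨k, hk⟩) w
      calc x (k • w) = k • (x w) := this
        _ = 0 := by rw [show x w = 0 from hw, smul_zero]
    rcases D.irrR K hK _ hI with h | h
    · exact absurd (AddSubgroup.mem_bot.mp (h ▸ (AddMonoidHom.mem_ker.mpr hxu))) hu
    · ext w
      exact AddMonoidHom.mem_ker.mp (h ▸ AddSubgroup.mem_top w)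
  have : Nontrivial R := ⟨0, 1, fun e => by
    have := congrArg (fun z : R => (z : AddMonoid.End V) v) e
    exact hv this.symm⟩
  have : NoZeroDivisors R := ⟨fun {a b} hab => by
    by_cases hb : b = 0
    · exact Or.inr hb
    left
    obtain ⟨u, hu⟩ : ∃ u, (b : AddMonoid.End V) u ≠ 0 := by
      by_contra hh; push Not at hh; exact hb (Subtype.ext (AddMonoidHom.ext hh))
    exact Subtype.ext (hinj a a.2 _ hu (congrArg (fun z : R => (z : AddMonoid.End V) u) hab))⟩
  have : IsDomain R := NoZeroDivisors.to_isDomain R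
  have : Finite (AddMonoid.End V) :=
    Finite.of_injective (fun f : AddMonoid.End V => (f : V → V)) DFunLike.coe_injective
  let F : Field R := (Finite.isDomain_to_isField R).toField
  let ι : K →* R :=
    { toFun := fun k => ⟨ρ k, Subring.subset_closure ⟨k, rfl⟩⟩
      map_one' := Subtype.ext (map_one ρ)
      map_mul' := fun a b => Subtype.ext (map_mul ρ a b) }
  have hι : Function.Injective ι := fun a b e => Subtype.ext <|
    FaithfulSMul.eq_of_smul_eq_smul (α := V) fun x =>
      congrArg (fun z : R => (z : AddMonoid.End V) x) e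
  have hcyc : IsCyclic K := isCyclic_of_injective_ringHom (R := R) ι hι
  apply D.nsol
  have : Group.IsSolvable (MulAut K) := Group.isSolvable_of_comm fun a b => by
    apply (hcyc.mulAutMulEquiv K).injective
    rw [map_mul, map_mul, mul_comm]
  have : Group.IsSolvable K := Group.isSolvable_of_comm hc.is_comm.comm
  apply Group.isSolvable_of_ker_le_range K.subtype (MulAut.conjNormal : H →* MulAut K)
  intro c hck
  rw [Subgroup.range_subtype]
  refine hsemi c fun r hr => ?_
  have := congrArg Subtype.val (DFunLike.congr_fun (MonoidHom.mem_ker.mp hck) (⟨r, hr⟩ : K))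
  simp only [MulAut.conjNormal_apply, MulAut.one_apply] at this
  calc r * c = c * r * c⁻¹ * c := by rw [this]
    _ = c * r := by group

end Hyp

/-- A minimal normal subgroup `K` which is not simple, with a minimal normal subgroup `T` of it. -/
structure Data (H : Type*) [Group H] (V : Type*) [AddCommGroup V] [DistribMulAction H V] : Type _ where
  hyp : Hyp H V
  K : Subgroup H
  T : Subgroup H
  normalK : K.Normal
  K_ne : K ≠ ⊥
  T_le : T ≤ K
  T_norm : ∀ k ∈ K, ∀ t ∈ T, k * t * k⁻¹ ∈ T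
  simpleT : IsSimpleGroup T
  ncT : ¬ IsMulCommutative T
  /-- another conjugate of `T`, centralising it -/
  h₀ : H
  h₀_comm : ∀ t ∈ T, ∀ s ∈ T, h₀ * t * h₀⁻¹ * s = s * (h₀ * t * h₀⁻¹)
  sup_eq : K ≤ T ⊔ (K ⊓ centralizer (T : Set H))
  dich : ∀ h : H, (∀ t, t ∈ T → h * t * h⁻¹ ∈ T) ∨
    (∀ t ∈ T, ∀ s ∈ T, h * t * h⁻¹ * s = s * (h * t * h⁻¹))

namespace Data

variable (E : Data H V)

/-- Centraliser in `K` of the conjugate of `T` by `h`. -/
def C (h : H) : Subgroup H :=
  E.K ⊓ centralizer ((fun t => h * t * h⁻¹) '' (E.T : Set H))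

lemma mem_C {h c : H} :
    c ∈ E.C h ↔ c ∈ E.K ∧ ∀ t ∈ E.T, h * t * h⁻¹ * c = c * (h * t * h⁻¹) := by
  simp [C, Subgroup.mem_centralizer_iff]

lemma mem_C_one {c : H} : c ∈ E.C 1 ↔ c ∈ E.K ∧ ∀ t ∈ E.T, t * c = c * t := by
  simp [E.mem_C]

lemma conj_mem_C {g h c : H} (hc : c ∈ E.C h) : g * c * g⁻¹ ∈ E.C (g * h) := by
  rw [E.mem_C] at hc ⊢
  refine ⟨E.normalK.conj_mem c hc.1 g, fun t ht => ?_⟩
  calc g * h * t * (g * h)⁻¹ * (g * c * g⁻¹) = g * (h * t * h⁻¹ * c) * g⁻¹ := by group
    _ = g * (c * (h * t * h⁻¹)) * g⁻¹ := by rw [hc.2 t ht]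
    _ = _ := by group

lemma C_eq_of_norm {h : H} (hh : ∀ t, t ∈ E.T → h * t * h⁻¹ ∈ E.T) : E.C h = E.C 1 := by
  have := E.hyp.finH
  have hsurj : ∀ t ∈ E.T, ∃ s ∈ E.T, h * s * h⁻¹ = t := by
    have hf : Function.Surjective (fun t : E.T => (⟨h * t * h⁻¹, hh t t.2⟩ : E.T)) :=
      Finite.surjective_of_injective fun a b e => Subtype.ext (by simpa using congrArg Subtype.val e)
    intro t ht
    obtain ⟨s, hs⟩ := hf ⟨t, ht⟩
    exact ⟨s, s.2, congrArg Subtype.val hs⟩
  ext c
  rw [E.mem_C, E.mem_C_one]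
  refine and_congr_right fun _ => ⟨fun H1 t ht => ?_, fun H1 t ht => H1 _ (hh t ht)⟩
  obtain ⟨s, hs, rfl⟩ := hsurj t ht
  exact H1 s hs

lemma normC {g : H} (hg : g ∈ E.K) {c : H} (hc : c ∈ E.C 1) : g * c * g⁻¹ ∈ E.C 1 := by
  have := E.conj_mem_C (g := g) hc
  rwa [mul_one, E.C_eq_of_norm (fun t ht => E.T_norm g hg t ht)] at this

/-- The span of the orbit of a vector under `C h`. -/
def M (h : H) (u : V) : AddSubgroup V :=
  AddSubgroup.closure {w | ∃ c ∈ E.C h, c • u = w}

lemma self_mem_M (h : H) (u : V) : u ∈ E.M h u :=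
  AddSubgroup.subset_closure ⟨1, one_mem _, one_smul _ _⟩

lemma M_le {h : H} {u : V} {W : AddSubgroup V} (hW : Inv (E.C h) W) (hu : u ∈ W) :
    E.M h u ≤ W := by
  rw [M, AddSubgroup.closure_le]
  rintro _ ⟨c, hc, rfl⟩
  exact hW c hc u hu

lemma inv_M (h : H) (u : V) : Inv (E.C h) (E.M h u) := by
  intro c hc x hx
  induction hx using AddSubgroup.closure_induction with
  | mem x hx =>
    obtain ⟨d, hd, rfl⟩ := hx
    exact AddSubgroup.subset_closure ⟨c * d, mul_mem hc hd, mul_smul c d u⟩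
  | zero => rw [smul_zero]; exact zero_mem _
  | add a b _ _ ha hb => rw [smul_add]; exact add_mem ha hb
  | neg a _ ha => rw [smul_neg]; exact neg_mem ha

lemma smul_mem_M {g h : H} {u x : V} (hx : x ∈ E.M h u) : g • x ∈ E.M (g * h) (g • u) := by
  induction hx using AddSubgroup.closure_induction with
  | mem x hx =>
    obtain ⟨d, hd, rfl⟩ := hx
    refine AddSubgroup.subset_closure ⟨g * d * g⁻¹, E.conj_mem_C hd, ?_⟩
    rw [mul_smul, mul_smul, inv_smul_smul]
  | zero => rw [smul_zero]; exact zero_mem _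
  | add a b _ _ ha hb => rw [smul_add]; exact add_mem ha hb
  | neg a _ ha => rw [smul_neg]; exact neg_mem ha

lemma mem_M_smul_iff {g h : H} {u x : V} :
    x ∈ E.M (g * h) (g • u) ↔ g⁻¹ • x ∈ E.M h u := by
  constructor
  · intro hx
    have := E.smul_mem_M (g := g⁻¹) hx
    rwa [inv_mul_cancel_left, inv_smul_smul] at this
  · intro hx
    have := E.smul_mem_M (g := g) hx
    rwa [smul_inv_smul] at this

lemma M_smul_congr (g h : H) {u u' : V} (e : E.M h u = E.M h u') :
    E.M (g * h) (g • u) = E.M (g * h) (g • u') := by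
  ext x
  rw [E.mem_M_smul_iff, E.mem_M_smul_iff, e]

/-- The stabiliser of the tuple of spans. -/
def L (u : V) : Subgroup H where
  carrier := {g | ∀ h, E.M h (g • u) = E.M h u}
  one_mem' := by intro h; rw [one_smul]
  mul_mem' := by
    intro a b ha hb h
    have := E.M_smul_congr a (a⁻¹ * h) (hb (a⁻¹ * h))
    rw [mul_inv_cancel_left, ← mul_smul] at this
    rw [this, ha h]
  inv_mem' := by
    intro a ha h
    have := E.M_smul_congr a⁻¹ (a * h) (ha (a * h))
    rw [inv_mul_cancel_left, inv_smul_smul] at this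
    exact this.symm

lemma mem_L {g : H} {u : V} : g ∈ E.L u ↔ ∀ h, E.M h (g • u) = E.M h u := Iff.rfl

/-- The key property. -/
lemma key {u : V} (hu : u ≠ 0) (hM : E.M 1 u ≠ ⊤) {g : H} (hg : g ∈ E.T)
    (hgM : ∀ x ∈ E.M 1 u, g • x ∈ E.M 1 u) : g • u = u := by
  have := E.hyp.finV
  have := E.normalK
  have hgL : g ∈ E.L u := by
    rw [E.mem_L]
    intro h
    have hfull : ∀ c ∈ E.C h, ∀ x ∈ E.M h u, c • x ∈ E.M h u := E.inv_M h u
    rcases E.dich h with hh | hh
    · have hC : E.C h = E.C 1 := E.C_eq_of_norm hh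
      have e : ∀ w, E.M h w = E.M 1 w := fun w => by unfold Data.M; rw [hC]
      rw [e, e]
      have hC1 : Inv (E.C 1) (E.M 1 u) := E.inv_M 1 u
      refine le_antisymm (E.M_le hC1 (hgM u (E.self_mem_M 1 u))) ?_
      have hsurj : ∀ x ∈ E.M 1 u, ∃ y ∈ E.M 1 u, g • y = x := by
        have hf : Function.Surjective
            (fun y : E.M 1 u => (⟨g • (y : V), hgM y y.2⟩ : E.M 1 u)) :=
          Finite.surjective_of_injective fun a b e =>
            Subtype.ext (smul_left_cancel g (congrArg Subtype.val e))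
        intro x hx
        obtain ⟨y, hy⟩ := hf ⟨x, hx⟩
        exact ⟨y, y.2, congrArg Subtype.val hy⟩
      intro x hx
      obtain ⟨y, hy, rfl⟩ := hsurj x hx
      have := E.smul_mem_M (g := g) hy
      rwa [mul_one, show E.M g (g • u) = E.M 1 (g • u) by
        unfold Data.M; rw [E.C_eq_of_norm (fun t ht => E.T_norm g (E.T_le hg) t ht)]] at this
    · have hgC : g ∈ E.C h := E.mem_C.mpr ⟨E.T_le hg, fun t ht => hh t ht g hg⟩
      refine le_antisymm (E.M_le (E.inv_M h u) (hfull g hgC u (E.self_mem_M h u))) ?_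
      refine E.M_le (E.inv_M h _) ?_
      have := E.inv_M h (g • u) g⁻¹ (inv_mem hgC) _ (E.self_mem_M h _)
      rwa [inv_smul_smul] at this
  rcases E.hyp.maxStab u (E.L u)
      (fun a ha => E.mem_L.mpr fun h => by rw [MulAction.mem_stabilizer_iff.mp ha]) with hL | hL
  · exact MulAction.mem_stabilizer_iff.mp (hL ▸ hgL)
  · exfalso
    have hI : Inv E.K (E.M 1 u) := by
      intro k hk x hx
      have h1 := E.smul_mem_M (g := k) hx
      rw [mul_one] at h1
      have h2 : E.M k (k • u) = E.M 1 (k • u) := by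
        unfold Data.M; rw [E.C_eq_of_norm (fun t ht => E.T_norm k hk t ht)]
      have h3 : E.M 1 (k • u) = E.M 1 u := (hL ▸ Subgroup.mem_top k : k ∈ E.L u) 1
      rwa [h2, h3] at h1
    rcases E.hyp.irrR E.K E.K_ne _ hI with h | h
    · exact hu (AddSubgroup.mem_bot.mp (h ▸ E.self_mem_M 1 u))
    · exact hM h

/-- A minimal nonzero invariant subgroup for `C 1`. -/
def MinSub (S : AddSubgroup V) : Prop :=
  S ≠ ⊥ ∧ Inv (E.C 1) S ∧ ∀ W : AddSubgroup V, W ≤ S → Inv (E.C 1) W → W ≠ ⊥ → W = S

lemma MinSub.M_eq {E : Data H V} {S : AddSubgroup V} (hS : E.MinSub S) {u : V} (hu : u ∈ S)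
    (h0 : u ≠ 0) : E.M 1 u = S :=
  hS.2.2 _ (E.M_le hS.2.1 hu) (E.inv_M 1 u)
    fun h => h0 (AddSubgroup.mem_bot.mp (h ▸ E.self_mem_M 1 u))

lemma MinSub.fixed {E : Data H V} {S : AddSubgroup V} (hS : E.MinSub S) (hne : S ≠ ⊤) {g : H}
    (hg : g ∈ E.T) (hgS : ∀ x ∈ S, g • x ∈ S) : ∀ x ∈ S, g • x = x := by
  intro x hx
  by_cases h0 : x = 0
  · subst h0; exact smul_zero g
  refine E.key h0 ?_ hg ?_
  · rw [hS.M_eq hx h0]; exact hne
  · rw [hS.M_eq hx h0]; exact hgS

lemma inv_K_of {W : AddSubgroup V} (hT : Inv E.T W) (hC : Inv (E.C 1) W) : Inv E.K W := by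
  have := E.hyp.finV
  refine inv_of_normalizing E.K W hT hC (E.sup_eq.trans (sup_le_sup le_rfl ?_))
  intro c hc
  exact E.mem_C_one.mpr ⟨hc.1, fun t ht => Subgroup.mem_centralizer_iff.mp hc.2 t ht⟩

lemma conj_T_ne (h : H) : E.T.map (MulAut.conj h).toMonoidHom ≠ ⊥ := by
  rw [Ne, Subgroup.map_eq_bot_iff_of_injective _ (MulAut.conj h).injective]
  intro hb
  refine E.ncT ⟨⟨fun a b => ?_⟩⟩
  have ha : (a : H) = 1 := Subgroup.mem_bot.mp (hb ▸ a.2)
  have hbb : (b : H) = 1 := Subgroup.mem_bot.mp (hb ▸ b.2)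
  exact Subtype.ext (by simp [ha, hbb])

/-- The contradiction: `K` has to be simple. -/
theorem false (E : Data H V) : False := by
  classical
  have := E.hyp.finH
  have := E.hyp.finV
  have := E.hyp.faith
  have := E.normalK
  have hx2 : ∀ v : V, v + v = 0 := E.hyp.add_self
  have hTne : E.T ≠ ⊥ := by
    intro hb
    refine E.ncT ⟨⟨fun a b => ?_⟩⟩
    have ha : (a : H) = 1 := Subgroup.mem_bot.mp (hb ▸ a.2)
    have hbb : (b : H) = 1 := Subgroup.mem_bot.mp (hb ▸ b.2)
    exact Subtype.ext (by simp [ha, hbb])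
  have hTns : ¬ Group.IsSolvable E.T := fun h => by
    have := E.simpleT
    exact E.ncT ⟨⟨IsSimpleGroup.comm_iff_isSolvable.mpr h⟩⟩
  obtain ⟨g, hgT, hg⟩ := Hyp.exists_orderOf_two E.T hTns
  have hgg : g * g = 1 := by
    have := pow_orderOf_eq_one g
    rwa [hg, pow_two] at this
  have hgc : ∀ c ∈ E.C 1, ∀ v : V, g • c • v = c • g • v := fun c hc v => by
    rw [← mul_smul, (E.mem_C_one.mp hc).2 g hgT, mul_smul]
  -- the map `v ↦ g • v + v`
  let ψ : V →+ V := DistribSMul.toAddMonoidHom V g + AddMonoidHom.id V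
  have hψ : ∀ v, ψ v = g • v + v := fun v => rfl
  have hψC : ∀ c ∈ E.C 1, ∀ v, ψ (c • v) = c • ψ v := fun c hc v => by
    rw [hψ, hψ, smul_add, hgc c hc v]
  have hψψ : ∀ v, g • ψ v = ψ v := fun v => by
    rw [hψ, smul_add, ← mul_smul, hgg, one_smul, add_comm]
  have hgψ : ∀ v, g • v = v + ψ v := fun v => by
    rw [hψ, ← add_assoc, add_comm v (g • v), add_assoc, hx2, add_zero]
  have hminex : ∀ W : AddSubgroup V, W ≠ ⊥ → Inv (E.C 1) W → ∃ S, E.MinSub S ∧ S ≤ W := by
    intro W
    induction W using WellFoundedLT.induction with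
    | ind W ih =>
      intro hne hinv
      by_cases hm : E.MinSub W
      · exact ⟨W, hm, le_rfl⟩
      · simp only [MinSub, hne, hinv, ne_eq, not_false_eq_true, true_and, not_forall] at hm
        obtain ⟨W', hle, hI, hne', hneq⟩ := hm
        obtain ⟨S, hS, hSW⟩ := ih W' (lt_of_le_of_ne hle hneq) hne' hI
        exact ⟨S, hS, hSW.trans hle⟩
  -- every minimal subgroup is proper
  have hproper : ∀ S : AddSubgroup V, E.MinSub S → S ≠ ⊤ := by
    intro S hS htop
    have hF : Inv (E.C 1) ψ.ker := by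
      intro c hc w hw
      rw [AddMonoidHom.mem_ker] at hw ⊢
      rw [hψC c hc, hw, smul_zero]
    by_cases hk : ψ.ker = ⊥
    · have hi := (AddMonoidHom.ker_eq_bot_iff ψ).mp hk
      have hg1 : g = 1 := FaithfulSMul.eq_of_smul_eq_smul (α := V) fun v => by
        obtain ⟨w, rfl⟩ := (Finite.injective_iff_surjective.mp hi) v
        rw [hψψ, one_smul]
      rw [hg1, orderOf_one] at hg
      omega
    · have := hS.2.2 _ (htop ▸ le_top) hF hk
      rw [htop] at this
      have hg1 : g = 1 := FaithfulSMul.eq_of_smul_eq_smul (α := V) fun v => by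
        have hv : ψ v = 0 := AddMonoidHom.mem_ker.mp (this ▸ AddSubgroup.mem_top v)
        rw [hgψ, hv, add_zero, one_smul]
      rw [hg1, orderOf_one] at hg
      omega
  -- minimal subgroups generate
  obtain ⟨S₀, hS₀, hS₀F⟩ : ∃ S, E.MinSub S ∧ ¬ S ≤ ψ.ker := by
    by_contra hh
    push Not at hh
    let U : AddSubgroup V := sSup {S | E.MinSub S}
    have hUK : Inv E.K U := by
      intro k hk x hx
      have hle : U ≤ U.comap (DistribSMul.toAddMonoidHom V k) := by
        refine sSup_le fun S hS => ?_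
        intro y hy
        have hS' : E.MinSub (S.map (DistribSMul.toAddMonoidHom V k)) := by
          refine ⟨?_, ?_, ?_⟩
          · intro hb
            apply hS.1
            rw [AddSubgroup.eq_bot_iff_forall]
            intro z hz
            have : k • z ∈ (⊥ : AddSubgroup V) := hb ▸ AddSubgroup.mem_map_of_mem _ hz
            exact (smul_eq_zero_iff_eq k).mp (AddSubgroup.mem_bot.mp this)
          · rintro c hc _ ⟨z, hz, rfl⟩
            refine ⟨(k⁻¹ * c * k⁻¹⁻¹) • z, hS.2.1 _ (E.normC (inv_mem hk) hc) z hz, ?_⟩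
            show k • (k⁻¹ * c * k⁻¹⁻¹) • z = c • k • z
            simp [mul_smul]
          · intro W hW hI hne
            have hW' : W.comap (DistribSMul.toAddMonoidHom V k) = S := by
              refine hS.2.2 _ ?_ ?_ ?_
              · intro z hz
                obtain ⟨z', hz', e⟩ := hW hz
                exact (smul_left_cancel k e : z' = z) ▸ hz'
              · intro c hc z hz
                have := hI _ (E.normC hk hc) _ hz
                rw [AddSubgroup.mem_comap]
                show k • c • z ∈ W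
                have e : (k * c * k⁻¹) • k • z = k • c • z := by simp [mul_smul]
                exact e ▸ this
              · intro hb
                apply hne
                rw [AddSubgroup.eq_bot_iff_forall]
                intro z hz
                have : k⁻¹ • z ∈ W.comap (DistribSMul.toAddMonoidHom V k) := by
                  show k • k⁻¹ • z ∈ W
                  rwa [smul_inv_smul]
                rw [hb, AddSubgroup.mem_bot] at this
                exact (smul_eq_zero_iff_eq k⁻¹).mp this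
            rw [← hW', AddSubgroup.map_comap_eq_self_of_surjective]
            exact fun z => ⟨k⁻¹ • z, smul_inv_smul k z⟩
        exact le_sSup (show _ ∈ {S | E.MinSub S} from hS') (AddSubgroup.mem_map_of_mem _ hy)
      exact hle hx
    obtain ⟨S, hS, -⟩ := hminex ⊤ (fun h => by
        obtain ⟨v, hv⟩ := E.hyp.exists_ne_zero
        exact hv (AddSubgroup.mem_bot.mp (h ▸ AddSubgroup.mem_top v)))
      (fun _ _ _ _ => AddSubgroup.mem_top _)
    rcases E.hyp.irrR E.K E.K_ne U hUK with h | h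
    · exact hS.1 (le_bot_iff.mp (h ▸ le_sSup (show S ∈ {S | E.MinSub S} from hS)))
    · have hk : (⊤ : AddSubgroup V) ≤ ψ.ker := h ▸ sSup_le fun S hS => hh S hS
      have hg1 : g = 1 := FaithfulSMul.eq_of_smul_eq_smul (α := V) fun v => by
        have hv : ψ v = 0 := AddMonoidHom.mem_ker.mp (hk (AddSubgroup.mem_top v))
        rw [hgψ, hv, add_zero, one_smul]
      rw [hg1, orderOf_one] at hg
      omega
  have hkerI : Inv (E.C 1) ψ.ker := by
    intro c hc w hw
    rw [AddMonoidHom.mem_ker] at hw ⊢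
    rw [hψC c hc, hw, smul_zero]
  have hinj0 : ∀ s ∈ S₀, ψ s = 0 → s = 0 := by
    intro s hs h
    by_contra h0
    apply hS₀F
    rw [← hS₀.M_eq hs h0]
    exact E.M_le hkerI (AddMonoidHom.mem_ker.mpr h)
  let S₁ := S₀.map ψ
  have hS₁I : Inv (E.C 1) S₁ := by
    rintro c hc _ ⟨z, hz, rfl⟩
    exact ⟨c • z, hS₀.2.1 c hc z hz, hψC c hc z⟩
  have hS₁m : ∀ W : AddSubgroup V, W ≤ S₁ → Inv (E.C 1) W → W ≠ ⊥ → W = S₁ := by
    intro W hW hI hne
    have hW' : S₀ ⊓ W.comap ψ = S₀ := by
      refine hS₀.2.2 _ inf_le_left ?_ ?_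
      · rintro c hc z ⟨hz, hz'⟩
        refine ⟨hS₀.2.1 c hc z hz, ?_⟩
        show ψ (c • z) ∈ W
        rw [hψC c hc]
        exact hI c hc _ hz'
      · intro hb
        apply hne
        rw [AddSubgroup.eq_bot_iff_forall]
        intro w hw
        obtain ⟨z, hz, rfl⟩ := hW hw
        have : z ∈ S₀ ⊓ W.comap ψ := ⟨hz, hw⟩
        rw [hb, AddSubgroup.mem_bot] at this
        rw [this, map_zero]
    refine le_antisymm hW ?_
    rintro _ ⟨z, hz, rfl⟩
    have hz' : z ∈ S₀ ⊓ W.comap ψ := hW'.symm ▸ hz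
    exact hz'.2
  have hdisj : ∀ a ∈ S₀, ∀ b ∈ S₀, a + ψ b = 0 → a = 0 ∧ b = 0 := by
    intro a ha b hb hab
    have ha' : a = ψ b := by
      rw [eq_neg_of_add_eq_zero_left hab, E.hyp.neg_self]
    have h1 : ψ a = 0 := by
      have := hψψ b
      rw [← ha'] at this
      rw [hψ, this, hx2]
    have ha0 := hinj0 a ha h1
    exact ⟨ha0, hinj0 b hb (by rw [← ha', ha0])⟩
  -- a cyclic generator of `S₀ + S₁`
  obtain ⟨u, hu, hMu⟩ : ∃ u ∈ S₀ ⊔ S₁, E.M 1 u = S₀ ⊔ S₁ ∧ g • u ≠ u := by
    by_contra hh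
    push Not at hh
    -- the action ring on `S₀` is then a finite domain
    let ρ : E.C 1 →* AddMonoid.End S₀ :=
      { toFun := fun c =>
          { toFun := fun s => ⟨(c : H) • (s : V), hS₀.2.1 c c.2 s s.2⟩
            map_zero' := Subtype.ext (smul_zero _)
            map_add' := fun a b => Subtype.ext (smul_add (c : H) (a : V) (b : V)) }
        map_one' := AddMonoidHom.ext fun s => Subtype.ext (one_smul H (s : V))
        map_mul' := fun a b => AddMonoidHom.ext fun s => Subtype.ext (mul_smul (a : H) (b : H) (s : V)) }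
    let R : Subring (AddMonoid.End S₀) := Subring.closure (Set.range ρ)
    have hR : ∀ x ∈ R, ∀ u a b, ∀ (ha : a ∈ S₀) (hb : b ∈ S₀), a + ψ b ∈ E.M 1 u →
        (x ⟨a, ha⟩ : V) + ψ (x ⟨b, hb⟩ : V) ∈ E.M 1 u := by
      intro x hx
      induction hx using Subring.closure_induction with
      | mem x hx =>
        obtain ⟨c, rfl⟩ := hx
        intro u a b ha hb hab
        show (c : H) • a + ψ ((c : H) • b) ∈ _
        rw [hψC c c.2, ← smul_add]
        exact E.inv_M 1 u c c.2 _ hab
      | zero =>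
        intro u a b ha hb hab
        show (0 : V) + ψ 0 ∈ _
        rw [map_zero, add_zero]
        exact zero_mem _
      | one => intro u a b ha hb hab; exact hab
      | add p q _ _ hp hq =>
        intro u a b ha hb hab
        show ((p ⟨a, ha⟩ : V) + q ⟨a, ha⟩) + ψ ((p ⟨b, hb⟩ : V) + q ⟨b, hb⟩) ∈ _
        rw [map_add, add_add_add_comm]
        exact add_mem (hp u a b ha hb hab) (hq u a b ha hb hab)
      | neg p _ hp =>
        intro u a b ha hb hab
        show -(p ⟨a, ha⟩ : V) + ψ (-(p ⟨b, hb⟩ : V)) ∈ _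
        rw [map_neg, ← neg_add]
        exact neg_mem (hp u a b ha hb hab)
      | mul p q _ _ hp hq =>
        intro u a b ha hb hab
        exact hp u _ _ (q ⟨a, ha⟩).2 (q ⟨b, hb⟩).2 (hq u a b ha hb hab)
    have hinj : ∀ x ∈ R, ∀ s : S₀, s ≠ 0 → x s = 0 → x = 0 := by
      intro x hx s hs hxs
      refine AddMonoidHom.ext fun s' => ?_
      by_contra hxs'
      have hs0 : (s : V) ≠ 0 := fun e => hs (Subtype.ext e)
      set w := (s : V) + ψ (s' : V) with hw
      have hwS : w ∈ S₀ ⊔ S₁ := AddSubgroup.mem_sup.mpr ⟨_, s.2, _, ⟨_, s'.2, rfl⟩, rfl⟩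
      have hmem := hR x hx w s s' s.2 s'.2 (E.self_mem_M 1 w)
      rw [show x ⟨(s : V), s.2⟩ = 0 from hxs] at hmem
      simp only [ZeroMemClass.coe_zero, zero_add] at hmem
      have hne : ψ (x s' : V) ≠ 0 := fun e => hxs' (Subtype.ext (hinj0 _ (x s').2 e))
      have hS₁le : S₁ ≤ E.M 1 w := by
        have h1 : E.M 1 w ⊓ S₁ = S₁ := by
          refine hS₁m _ inf_le_right (fun c hc z hz => ⟨E.inv_M 1 w c hc z hz.1, hS₁I c hc z hz.2⟩)
            fun hb => hne (AddSubgroup.mem_bot.mp (hb ▸ ⟨hmem, ⟨_, (x s').2, rfl⟩⟩))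
        exact h1 ▸ inf_le_left
      have hsM : (s : V) ∈ E.M 1 w := by
        have := sub_mem (E.self_mem_M 1 w) (hS₁le ⟨_, s'.2, rfl⟩)
        rwa [hw, add_sub_cancel_right] at this
      have hMw : E.M 1 w = S₀ ⊔ S₁ := by
        refine le_antisymm (E.M_le ?_ hwS) (sup_le ?_ hS₁le)
        · rintro c hc z hz
          obtain ⟨p, hp, q, hq, rfl⟩ := AddSubgroup.mem_sup.mp hz
          rw [smul_add]
          exact AddSubgroup.mem_sup.mpr ⟨_, hS₀.2.1 c hc p hp, _, hS₁I c hc q hq, rfl⟩
        · rw [← hS₀.M_eq s.2 hs0]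
          exact E.M_le (E.inv_M 1 w) hsM
      have hgw := hh w hwS hMw
      rw [hw, smul_add, hψψ] at hgw
      have : ψ (s : V) = 0 := by
        rw [hψ, add_right_cancel hgw, hx2]
      exact hs0 (hinj0 _ s.2 this)
    have : Finite (AddMonoid.End S₀) :=
      Finite.of_injective (fun f : AddMonoid.End S₀ => (f : S₀ → S₀)) DFunLike.coe_injective
    obtain ⟨s0, hs0⟩ : ∃ s : S₀, s ≠ 0 := by
      by_contra hh'
      push Not at hh'
      exact hS₀.1 ((AddSubgroup.eq_bot_iff_forall _).mpr fun z hz =>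
        congrArg Subtype.val (hh' ⟨z, hz⟩))
    have : Nontrivial R := ⟨0, 1, fun e => hs0 (by
      have := congrArg (fun z : R => (z : AddMonoid.End S₀) s0) e
      exact this.symm)⟩
    have : NoZeroDivisors R := ⟨fun {a b} hab => by
      by_cases hb : b = 0
      · exact Or.inr hb
      left
      obtain ⟨s, hs⟩ : ∃ s, (b : AddMonoid.End S₀) s ≠ 0 := by
        by_contra hh'; push Not at hh'; exact hb (Subtype.ext (AddMonoidHom.ext hh'))
      exact Subtype.ext (hinj a a.2 _ hs (congrArg (fun z : R => (z : AddMonoid.End S₀) s) hab))⟩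
    have : IsDomain R := NoZeroDivisors.to_isDomain R
    have hcomm := (Finite.isDomain_to_isField R).mul_comm
    -- so `h₀ T h₀⁻¹` acts commutatively, hence trivially, on `S₀`
    have hT'C : ∀ t ∈ E.T, E.h₀ * t * E.h₀⁻¹ ∈ E.C 1 := fun t ht =>
      E.mem_C_one.mpr ⟨E.normalK.conj_mem t (E.T_le ht) _, fun s hs => (E.h₀_comm t ht s hs).symm⟩
    let f : E.T →* R :=
      { toFun := fun t => ⟨ρ ⟨_, hT'C t t.2⟩, Subring.subset_closure ⟨_, rfl⟩⟩
        map_one' := Subtype.ext <| AddMonoidHom.ext fun s => Subtype.ext (by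
          show (E.h₀ * ((1 : E.T) : H) * E.h₀⁻¹) • (s : V) = s
          simp)
        map_mul' := fun a b => Subtype.ext <| AddMonoidHom.ext fun s => Subtype.ext (by
          show (E.h₀ * ((a * b : E.T) : H) * E.h₀⁻¹) • (s : V) =
            (E.h₀ * (a : H) * E.h₀⁻¹) • (E.h₀ * (b : H) * E.h₀⁻¹) • (s : V)
          rw [← mul_smul, Subgroup.coe_mul]
          congr 1
          group) }
    have := E.simpleT
    rcases (inferInstance : f.toHomUnits.ker.Normal).eq_bot_or_eq_top with hk | hk
    · refine E.ncT ⟨⟨fun a b => (MonoidHom.ker_eq_bot_iff _).mp hk ?_⟩⟩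
      apply Units.ext
      simp only [MonoidHom.coe_toHomUnits, map_mul]
      exact hcomm _ _
    · -- fixed vectors of the conjugate form a `K`-invariant subgroup
      let T' : Subgroup H := E.T.map (MulAut.conj E.h₀).toMonoidHom
      have hT'K : ∀ k ∈ E.K, ∀ r ∈ T', k⁻¹ * r * k ∈ T' := by
        rintro k hk' _ ⟨t, ht, rfl⟩
        refine ⟨(E.h₀⁻¹ * k⁻¹ * E.h₀) * t * (E.h₀⁻¹ * k⁻¹ * E.h₀)⁻¹, E.T_norm _ ?_ t ht, ?_⟩
        · simpa using E.normalK.conj_mem k⁻¹ (inv_mem hk') E.h₀⁻¹
        · simp only [MulEquiv.coe_toMonoidHom, MulAut.conj_apply]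
          group
      rcases E.hyp.irrR E.K E.K_ne (fix T') (inv_fix hT'K) with h | h
      · apply hS₀.1
        rw [← le_bot_iff, ← h]
        rintro z hz _ ⟨t, ht, rfl⟩
        have : f ⟨t, ht⟩ = 1 := by
          rw [← MonoidHom.coe_toHomUnits f, MonoidHom.mem_ker.mp (hk ▸ Subgroup.mem_top _), Units.val_one]
        exact congrArg (fun z' : R => (((z' : AddMonoid.End S₀) ⟨z, hz⟩ : S₀) : V)) this
      · exact E.conj_T_ne _ (eq_bot_of_fix_eq_top _ h)
  have hMI : ∀ x ∈ E.M 1 u, g • x ∈ E.M 1 u := by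
    rw [hMu.1]
    intro z hz
    rw [hgψ]
    refine add_mem hz (AddSubgroup.mem_sup_right ?_)
    obtain ⟨p, hp, q, ⟨r, hr, rfl⟩, rfl⟩ := AddSubgroup.mem_sup.mp hz
    have : ψ (ψ r) = 0 := by rw [hψ, hψψ, hx2]
    rw [map_add, this, add_zero]
    exact ⟨p, hp, rfl⟩
  have htop : S₀ ⊔ S₁ = ⊤ := by
    by_contra hne
    refine hMu.2 (E.key ?_ (hMu.1 ▸ hne) hgT hMI)
    rintro rfl
    exact hMu.2 (smul_zero g)
  -- every proper nonzero invariant subgroup is minimal
  have hallmin : ∀ X : AddSubgroup V, Inv (E.C 1) X → X ≠ ⊥ → X ≠ ⊤ → E.MinSub X := by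
    intro X hI hne hnt
    refine ⟨hne, hI, fun W hW hWI hWne => ?_⟩
    have hdec : ∀ x : V, ∃ a ∈ S₀, ∃ b ∈ S₁, a + b = x := fun x =>
      AddSubgroup.mem_sup.mp (htop ▸ AddSubgroup.mem_top x)
    by_cases hX0 : X ⊓ S₀ = ⊥
    · -- project to `S₁`
      let B : AddSubgroup V :=
        { carrier := {b | b ∈ S₁ ∧ ∃ a ∈ S₀, a + b ∈ W}
          zero_mem' := ⟨zero_mem _, 0, zero_mem _, by rw [add_zero]; exact zero_mem _⟩
          add_mem' := by
            rintro p q ⟨hp, a, ha, hap⟩ ⟨hq, a', ha', haq⟩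
            exact ⟨add_mem hp hq, a + a', add_mem ha ha', by
              rw [add_add_add_comm]; exact add_mem hap haq⟩
          neg_mem' := by
            rintro p ⟨hp, a, ha, hap⟩
            exact ⟨neg_mem hp, -a, neg_mem ha, by rw [← neg_add]; exact neg_mem hap⟩ }
      have hBle : B ≤ S₁ := fun z hz => hz.1
      have hB : B = S₁ := by
        refine hS₁m B hBle ?_ ?_
        · rintro c hc z ⟨hz, a, ha, haz⟩
          exact ⟨hS₁I c hc z hz, c • a, hS₀.2.1 c hc a ha, by
            rw [← smul_add]; exact hWI c hc _ haz⟩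
        · intro hb
          apply hWne
          rw [AddSubgroup.eq_bot_iff_forall]
          intro w hw
          obtain ⟨a, ha, b, hb', rfl⟩ := hdec w
          have hb0 : b = 0 := AddSubgroup.mem_bot.mp (hb ▸ (⟨hb', a, ha, hw⟩ : b ∈ B))
          rw [hb0, add_zero] at hw ⊢
          exact AddSubgroup.mem_bot.mp (hX0 ▸ ⟨hW hw, ha⟩)
      refine le_antisymm hW fun x hx => ?_
      obtain ⟨a, ha, b, hb, rfl⟩ := hdec x
      obtain ⟨-, a', ha', hw⟩ := (hB ▸ hb : b ∈ B)
      have h0 : a - a' ∈ X ⊓ S₀ := AddSubgroup.mem_inf.mpr ⟨by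
        have := X.sub_mem hx (hW hw)
        rwa [add_sub_add_right_eq_sub] at this, sub_mem ha ha'⟩
      rw [hX0, AddSubgroup.mem_bot, sub_eq_zero] at h0
      rw [h0]; exact hw
    · have h1 : X ⊓ S₀ = S₀ := hS₀.2.2 _ inf_le_right
        (fun c hc z hz => ⟨hI c hc z hz.1, hS₀.2.1 c hc z hz.2⟩) hX0
      have h2 : S₀ ≤ X := h1 ▸ inf_le_left
      have h3 : X = S₀ := by
        refine le_antisymm (fun x hx => ?_) h2
        obtain ⟨a, ha, b, hb, rfl⟩ := hdec x
        have hbX : b ∈ X := by simpa using sub_mem hx (h2 ha)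
        by_cases hb0 : b = 0
        · rw [hb0, add_zero]; exact ha
        · exfalso
          apply hnt
          have h4 : X ⊓ S₁ = S₁ := hS₁m _ inf_le_right
            (fun c hc z hz => ⟨hI c hc z hz.1, hS₁I c hc z hz.2⟩)
            fun hbb => hb0 (AddSubgroup.mem_bot.mp (hbb ▸ ⟨hbX, hb⟩))
          rw [eq_top_iff, ← htop]
          exact sup_le h2 (h4 ▸ inf_le_left)
      subst h3
      exact hS₀.2.2 W hW hWI hWne
  -- an element preserving a proper nonzero invariant subgroup has exponent two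
  have hexp : ∀ X : AddSubgroup V, Inv (E.C 1) X → X ≠ ⊥ → X ≠ ⊤ →
      ∀ x ∈ E.T, (∀ z ∈ X, x • z ∈ X) → x * x = 1 := by
    intro X hI hne hnt x hxT hxX
    have hfixX := (hallmin X hI hne hnt).fixed hnt hxT hxX
    let φ : V →+ V := DistribSMul.toAddMonoidHom V x + AddMonoidHom.id V
    have hφ : ∀ v, φ v = x • v + v := fun v => rfl
    have hWI : Inv (E.C 1) φ.range := by
      rintro c hc _ ⟨w, rfl⟩
      exact ⟨c • w, by rw [hφ, hφ, smul_add, ← mul_smul, (E.mem_C_one.mp hc).2 x hxT, mul_smul]⟩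
    apply FaithfulSMul.eq_of_smul_eq_smul (α := V)
    intro v
    rw [one_smul, mul_smul]
    have hxx : x • φ v = φ v := by
      by_cases hb : φ.range = ⊥
      · have : φ v = 0 := AddSubgroup.mem_bot.mp (hb ▸ ⟨v, rfl⟩)
        rw [this, smul_zero]
      · have hnt' : φ.range ≠ ⊤ := by
          intro ht
          have hi : Function.Injective φ :=
            Finite.injective_iff_surjective.mpr (AddMonoidHom.range_eq_top.mp ht)
          apply hne
          rw [AddSubgroup.eq_bot_iff_forall]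
          intro z hz
          exact hi (by rw [hφ, hfixX z hz, hx2, map_zero])
        refine (hallmin _ hWI hb hnt').fixed hnt' hxT ?_ _ ⟨v, rfl⟩
        rintro _ ⟨w, rfl⟩
        exact ⟨x • w, by rw [hφ, hφ, smul_add]⟩
    rw [hφ, smul_add] at hxx
    exact add_right_cancel (hxx.trans (add_comm _ _))
  -- Sylow 2-subgroup of `T`
  have : Fact (Nat.Prime 2) := ⟨Nat.prime_two⟩
  obtain ⟨P⟩ := (inferInstance : Nonempty (Sylow 2 E.T))
  let PH : Subgroup H := (P : Subgroup E.T).map E.T.subtype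
  have hPne : (P : Subgroup E.T) ≠ ⊥ := by
    intro h
    have hndvd : ¬ 2 ∣ (P : Subgroup E.T).index := P.not_dvd_index
    rw [h, Subgroup.index_bot] at hndvd
    refine hndvd ?_
    have ho : orderOf (⟨g, hgT⟩ : E.T) = 2 := by rw [← Subgroup.orderOf_coe]; exact hg
    exact ho ▸ orderOf_dvd_natCard _
  let X : AddSubgroup V := fix PH
  have hXI : Inv (E.C 1) X := by
    refine inv_fix ?_
    rintro c hc _ ⟨r, hr, rfl⟩
    refine ⟨r, hr, ?_⟩
    simp only [Subgroup.coe_subtype]
    rw [mul_assoc, (E.mem_C_one.mp hc).2 r r.2, inv_mul_cancel_left]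
  have hXne : X ≠ ⊥ := by
    intro hb
    have hP2 : IsPGroup 2 PH := P.2.map _
    have hV : 2 ∣ Nat.card V := by
      obtain ⟨v, hv⟩ := E.hyp.exists_ne_zero
      have : addOrderOf v = 2 := addOrderOf_eq_prime (by rw [two_nsmul]; exact hx2 v) hv
      exact this ▸ addOrderOf_dvd_natCard v
    obtain ⟨z, hz, hz0⟩ := hP2.exists_fixed_point_of_prime_dvd_card_of_fixed_point V hV
      (a := 0) (fun p => smul_zero (p : H))
    have hzX : z ∈ X := fun r hr => hz ⟨r, hr⟩
    rw [hb, AddSubgroup.mem_bot] at hzX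
    exact hz0 hzX.symm
  have hXnt : X ≠ ⊤ := fun h => hPne
    ((Subgroup.map_eq_bot_iff_of_injective _ E.T.subtype_injective).mp (eq_bot_of_fix_eq_top _ h))
  have hN2 : ∀ n : E.T, n ∈ normalizer ((P : Subgroup E.T) : Set E.T) → n * n = 1 := by
    intro n hn
    refine Subtype.ext (hexp X hXI hXne hXnt n n.2 fun z hz r hr => ?_)
    obtain ⟨r, hr, rfl⟩ := hr
    have hr' : n⁻¹ * r * n ∈ (P : Subgroup E.T) := by
      have := (Subgroup.mem_normalizer_iff'.mp hn) (n⁻¹ * r)
      rw [mul_inv_cancel_left] at this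
      exact this.mpr hr
    have := hz ((n⁻¹ * r * n : E.T) : H) ⟨_, hr', rfl⟩
    calc ((r : E.T) : H) • (n : H) • z = (n : H) • (((n⁻¹ * r * n : E.T) : H) • z) := by
          simp [mul_smul]
      _ = (n : H) • z := by rw [this]
  have hinvN : ∀ n ∈ normalizer ((P : Subgroup E.T) : Set E.T), n⁻¹ = n := fun n hn =>
    inv_eq_of_mul_eq_one_left (hN2 n hn)
  have hNC : normalizer ((P : Subgroup E.T) : Set E.T) ≤ centralizer ((P : Subgroup E.T) : Set E.T) := by
    intro n hn
    rw [Subgroup.mem_centralizer_iff]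
    intro r hr
    have hr' := Subgroup.le_normalizer hr
    calc r * n = (r * n)⁻¹ := (hinvN _ (mul_mem hr' hn)).symm
      _ = n * r := by rw [mul_inv_rev, hinvN n hn, hinvN r hr']
  have := E.simpleT
  have hc := MonoidHom.ker_transferSylow_isComplement' P hNC
  rcases (inferInstance : (MonoidHom.transferSylow P hNC).ker.Normal).eq_bot_or_eq_top with hk | hk
  · rw [hk, Subgroup.isComplement'_bot_left] at hc
    apply E.ncT
    refine ⟨⟨fun a b => ?_⟩⟩
    have hbm : b ∈ centralizer ((P : Subgroup E.T) : Set E.T) :=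
      hNC (Subgroup.le_normalizer (hc ▸ Subgroup.mem_top b))
    exact Subgroup.mem_centralizer_iff.mp hbm a (hc ▸ Subgroup.mem_top a)
  · rw [hk, Subgroup.isComplement'_top_left] at hc
    exact hPne hc

end Data

/-- Almost simplicity. -/
theorem almost_simple (D : Hyp H V) : ∃ T : Subgroup H, T.Normal ∧ IsSimpleGroup T ∧
    ¬ IsMulCommutative T ∧ centralizer (T : Set H) = ⊥ := by
  classical
  have := D.finH
  -- minimal normal subgroup
  obtain ⟨K, ⟨hKn, hKne⟩, hKmin⟩ := exists_minimal_of_wellFoundedLT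
    (fun K : Subgroup H => K.Normal ∧ K ≠ ⊥) ⟨⊤, inferInstance, D.H_ne_trivial⟩
  have := hKn
  have hKmin' : ∀ R : Subgroup H, R.Normal → R ≠ ⊥ → R ≤ K → R = K := fun R h1 h2 h3 =>
    le_antisymm h3 (hKmin ⟨h1, h2⟩ h3)
  have hKnc := D.not_comm K hKne
  have hKns : ¬ Group.IsSolvable K := by
    intro hs
    have hlt : ⁅K, K⁆ < K := by
      have : Nontrivial K := (Subgroup.nontrivial_iff_ne_bot K).mpr hKne
      have h1 := Group.IsSolvable.commutator_lt_top_of_nontrivial K
      refine lt_of_le_of_ne (Subgroup.commutator_le_self K) fun e => h1.ne ?_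
      apply Subgroup.map_injective K.subtype_injective
      rw [Subgroup.map_subtype_commutator, e, ← MonoidHom.range_eq_map, Subgroup.range_subtype]
    have hb : ⁅K, K⁆ = ⊥ := by
      by_contra h
      exact hlt.ne (hKmin' _ inferInstance h hlt.le)
    refine hKnc ⟨⟨fun a b => Subtype.ext ?_⟩⟩
    exact Subgroup.mem_centralizer_iff.mp
      ((Subgroup.commutator_eq_bot_iff_le_centralizer.mp hb) b.2) a a.2
  have hCK : centralizer (K : Set H) = ⊥ := by
    by_contra hC
    obtain ⟨v, hv⟩ := D.exists_ne_zero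
    obtain ⟨k, hk, hk2⟩ := Hyp.exists_orderOf_two K hKns
    have hkk : k * k = 1 := by
      have := pow_orderOf_eq_one k
      rwa [hk2, pow_two] at this
    -- `k` fixes a nonzero vector
    obtain ⟨w, hw, hkw⟩ : ∃ w : V, w ≠ 0 ∧ k • w = w := by
      by_cases h : k • v + v = 0
      · exact ⟨v, hv, by rw [eq_neg_of_add_eq_zero_left h, D.neg_self]⟩
      · exact ⟨_, h, by rw [smul_add, ← mul_smul, hkk, one_smul, add_comm]⟩
    have := D.eq_one_of_commute_fix (centralizer (K : Set H)) hC k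
      (fun r hr => (Subgroup.mem_centralizer_iff.mp hr k hk).symm) hw hkw
    rw [this, orderOf_one] at hk2
    omega
  by_cases hKs : IsSimpleGroup K
  · exact ⟨K, hKn, hKs, hKnc, hCK⟩
  exfalso
  obtain ⟨T, ⟨hTle, hTne, hTn⟩, hTmin⟩ := exists_minimal_of_wellFoundedLT
    (fun T : Subgroup H => T ≤ K ∧ T ≠ ⊥ ∧ ∀ k ∈ K, ∀ t ∈ T, k * t * k⁻¹ ∈ T)
    ⟨K, le_rfl, hKne, fun k hk t ht => mul_mem (mul_mem hk ht) (inv_mem hk)⟩
  have hTmin' : ∀ R : Subgroup H, R ≤ T → R ≠ ⊥ → (∀ k ∈ K, ∀ t ∈ R, k * t * k⁻¹ ∈ R) → R = T :=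
    fun R h1 h2 h3 => le_antisymm h1 (hTmin ⟨h1.trans hTle, h2, h3⟩ h1)
  have hdich : ∀ h : H, (∀ t, t ∈ T → h * t * h⁻¹ ∈ T) ∨
      (∀ t ∈ T, ∀ s ∈ T, h * t * h⁻¹ * s = s * (h * t * h⁻¹)) := by
    intro h
    set T' : Subgroup H := T.map (MulAut.conj h).toMonoidHom with hT'
    have hT'n : ∀ k ∈ K, ∀ t ∈ T', k * t * k⁻¹ ∈ T' := by
      rintro k hk _ ⟨t, ht, rfl⟩
      refine ⟨(h⁻¹ * k * h) * t * (h⁻¹ * k * h)⁻¹, hTn _ (hKn.conj_mem' k hk h) t ht, ?_⟩
      simp only [MulEquiv.coe_toMonoidHom, MulAut.conj_apply]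
      group
    by_cases hI : T ⊓ T' = ⊥
    · right
      intro t ht s hs
      have hT'K : h * t * h⁻¹ ∈ K := hKn.conj_mem t (hTle ht) h
      have hm : h * t * h⁻¹ * s * (h * t * h⁻¹)⁻¹ * s⁻¹ ∈ T ⊓ T' := by
        refine Subgroup.mem_inf.mpr ⟨mul_mem (hTn _ hT'K s hs) (inv_mem hs), ?_⟩
        have h2 := hT'n s (hTle hs) _ (inv_mem ⟨t, ht, rfl⟩ : (h * t * h⁻¹)⁻¹ ∈ T')
        have := mul_mem (show h * t * h⁻¹ ∈ T' from ⟨t, ht, rfl⟩) h2
        have e : h * t * h⁻¹ * s * (h * t * h⁻¹)⁻¹ * s⁻¹ =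
            h * t * h⁻¹ * (s * (h * t * h⁻¹)⁻¹ * s⁻¹) := by group
        rw [e]; exact this
      rw [hI, Subgroup.mem_bot, mul_inv_eq_one, mul_inv_eq_iff_eq_mul] at hm
      exact hm
    · left
      have hT1 : T ⊓ T' = T := hTmin' _ inf_le_left hI
        fun k hk t ht => ⟨hTn k hk t ht.1, hT'n k hk t ht.2⟩
      have hle : T ≤ T' := hT1 ▸ inf_le_right
      have : T = T' := Subgroup.eq_of_le_of_card_ge hle (by
        rw [hT', Subgroup.card_map_of_injective (MulAut.conj h).injective])
      intro t ht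
      rw [this]
      exact ⟨t, ht, rfl⟩
  have hsup : K ≤ T ⊔ (K ⊓ centralizer (T : Set H)) := by
    let U : Subgroup H := Subgroup.normalClosure (T : Set H)
    have hUK : U = K := hKmin' _ Subgroup.normalClosure_normal
      (fun hb => hTne (le_bot_iff.mp (hb ▸ Subgroup.le_normalClosure)))
      (Subgroup.normalClosure_le_normal hTle)
    rw [← hUK]
    show Subgroup.closure _ ≤ _
    rw [Subgroup.closure_le]
    intro x hx
    obtain ⟨t, ht, hconj⟩ := Group.mem_conjugatesOfSet_iff.mp hx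
    obtain ⟨c, rfl⟩ := isConj_iff.mp hconj
    rcases hdich c with hc | hc
    · exact Subgroup.mem_sup_left (hc t ht)
    · refine Subgroup.mem_sup_right ⟨?_, ?_⟩
      · rw [hUK]; exact hKn.conj_mem t (hTle ht) c
      · exact Subgroup.mem_centralizer_iff.mpr fun s hs => (hc t ht s hs).symm
  have hTnc : ¬ IsMulCommutative T := by
    intro hc
    apply hKnc
    have hTT : ∀ a ∈ T, ∀ b ∈ T, a * b = b * a := fun a ha b hb =>
      congrArg Subtype.val (hc.is_comm.comm ⟨a, ha⟩ ⟨b, hb⟩)
    have hTcen : T ≤ centralizer (K : Set H) := by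
      intro t ht
      have : K ≤ centralizer ({t} : Set H) := hsup.trans (sup_le
        (fun s hs => Subgroup.mem_centralizer_iff.mpr fun y hy => by
          rw [Set.mem_singleton_iff] at hy; subst hy; exact hTT y ht s hs)
        (fun s hs => Subgroup.mem_centralizer_iff.mpr fun y hy => by
          rw [Set.mem_singleton_iff] at hy; subst hy
          exact Subgroup.mem_centralizer_iff.mp hs.2 y ht))
      exact Subgroup.mem_centralizer_iff.mpr fun k hk =>
        (Subgroup.mem_centralizer_iff.mp (this hk) t rfl).symm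
    rw [hCK, le_bot_iff] at hTcen
    exact absurd hTcen hTne
  have hTs : IsSimpleGroup T := by
    have hntT : Nontrivial T := (Subgroup.nontrivial_iff_ne_bot T).mpr hTne
    refine ⟨fun M hM => ?_⟩
    by_cases hb : M = ⊥
    · exact Or.inl hb
    right
    let MH : Subgroup H := M.map T.subtype
    have hNK : K ≤ normalizer (MH : Set H) := hsup.trans (sup_le
      (fun t ht => by
        have h1 : (⊤ : Subgroup T).map T.subtype ≤ normalizer ((M.map T.subtype : Subgroup H) : Set H) :=
          le_trans (Subgroup.map_mono (Subgroup.normalizer_eq_top (H := M)).ge)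
            (Subgroup.le_normalizer_map T.subtype)
        exact h1 ⟨⟨t, ht⟩, Subgroup.mem_top _, rfl⟩)
      (fun c hc => Subgroup.mem_normalizer_iff.mpr fun x => by
        have hcc : ∀ y ∈ T, c * y * c⁻¹ = y := fun y hy => by
          rw [← Subgroup.mem_centralizer_iff.mp hc.2 y hy, mul_inv_cancel_right]
        have hle : MH ≤ T := Subgroup.map_subtype_le M
        constructor
        · intro hx; rw [hcc x (hle hx)]; exact hx
        · intro hx
          have h1 := hcc _ (hle hx)
          have : c * x * c⁻¹ = x := mul_left_cancel (mul_right_cancel h1)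
          rwa [this] at hx))
    have : MH = T := hTmin' MH (Subgroup.map_subtype_le M)
      (fun h => hb ((Subgroup.map_eq_bot_iff_of_injective _ T.subtype_injective).mp h))
      (fun k hk t ht => (Subgroup.mem_normalizer_iff.mp (hNK hk) t).mp ht)
    apply Subgroup.map_injective T.subtype_injective
    rw [show M.map T.subtype = T from this, ← MonoidHom.range_eq_map, Subgroup.range_subtype]
  obtain ⟨h₀, hh₀⟩ : ∃ h, ∀ t ∈ T, ∀ s ∈ T, h * t * h⁻¹ * s = s * (h * t * h⁻¹) := by
    by_contra hh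
    push Not at hh
    have hTN : T.Normal := ⟨fun t ht c => ((hdich c).resolve_right (fun h2 => by
      obtain ⟨a, ha, b, hb, hne⟩ := hh c
      exact hne (h2 a ha b hb))) t ht⟩
    have hTK : T = K := hKmin' T hTN hTne hTle
    exact hKs (hTK ▸ hTs)
  exact Data.false
    { hyp := D, K := K, T := T, normalK := hKn, K_ne := hKne, T_le := hTle, T_norm := hTn
      simpleT := hTs, ncT := hTnc, h₀ := h₀, h₀_comm := hh₀, sup_eq := hsup, dich := hdich }

end CfsgLib.ExtremelyPrimitiveAffine
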