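import Cfsg.Statements.S0200
import Cfsg.Agent.Lib.Subnormal
import Cfsg.Agent.Lib.Components
import Cfsg.Agent.Lib.Involutions
-- import your own Cfsg.Agent.* helpers here

set_option autoImplicit false
open Cfsg

namespace Cfsg.Agent.S0200

/-- An involution lying in no normal 2-subgroup of a finite group inverts a nontrivial element of odd order (a consequence of the Baer–Suzuki Theorem). -/
theorem result {G : Type*} [Group G] [Finite G] (t : G) (ht : orderOf t = 2) (hO : ∀ N : Subgroup G, N.Normal → IsPGroup 2 N → t ∉ N) : ∃ h : G, h ≠ 1 ∧ Odd (orderOf h) ∧ t * h * t⁻¹ = h⁻¹ := by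
  haveI : Fact (Nat.Prime 2) := ⟨Nat.prime_two⟩
  by_contra hno
  push Not at hno
  have ht2 := CfsgLib.Involutions.mul_self_eq_one_of_orderOf ht
  have ht' := CfsgLib.Involutions.inv_eq_self_of_orderOf ht
  have hX : IsPGroup 2 ↥(Subgroup.zpowers t) :=
    IsPGroup.of_card (n := 1) (by rw [Nat.card_zpowers, ht, pow_one])
  have h : ∀ g : G, IsPGroup 2 ↥(Subgroup.zpowers t ⊔ (Subgroup.zpowers t).map (MulAut.conj g).toMonoidHom) := by
    intro g
    set w := g * t * g⁻¹ with hw
    have hw2 : w * w = 1 := by rw [hw, show g * t * g⁻¹ * (g * t * g⁻¹) = g * (t * t) * g⁻¹ by group, ht2]; group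
    have hle : Subgroup.zpowers t ⊔ (Subgroup.zpowers t).map (MulAut.conj g).toMonoidHom ≤
        Subgroup.closure ({t, w} : Set G) := by
      refine sup_le (Subgroup.zpowers_le.mpr (Subgroup.subset_closure (Or.inl rfl))) ?_
      rw [MonoidHom.map_zpowers, Subgroup.zpowers_le]
      exact Subgroup.subset_closure (Or.inr rfl)
    obtain ⟨k, m, hm, hk⟩ := Nat.exists_eq_pow_mul_and_not_dvd (orderOf_pos (t * w)).ne' 2 (by norm_num)
    have hodd : Odd (orderOf ((t * w) ^ 2 ^ k)) := by
      rw [orderOf_pow, hk, Nat.gcd_mul_right_left, Nat.mul_div_cancel_left _ (by positivity)]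
      exact Nat.not_even_iff_odd.mp (fun h => hm h.two_dvd)
    have hinv : t * (t * w) ^ 2 ^ k * t⁻¹ = ((t * w) ^ 2 ^ k)⁻¹ := by
      rw [← conj_pow, CfsgLib.Involutions.conj_mul_eq_inv ht2 hw2, inv_pow]
    have hone : (t * w) ^ 2 ^ k = 1 := by
      by_contra h1
      exact hno _ h1 hodd hinv
    refine IsPGroup.to_le (K := Subgroup.closure ({t, w} : Set G)) ?_ hle
    intro d
    obtain ⟨i, hi | hi⟩ := CfsgLib.Involutions.mem_closure_pair ht2 hw2 d.2
    · refine ⟨k, Subtype.ext ?_⟩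
      push_cast
      rw [hi, ← zpow_natCast, ← zpow_mul, mul_comm, zpow_mul, zpow_natCast, hone, one_zpow]
    · refine ⟨1, Subtype.ext ?_⟩
      push_cast
      rw [hi, pow_two, show t * (t * w) ^ i * (t * (t * w) ^ i) = t * (t * w) ^ i * t⁻¹ * (t * w) ^ i by
        rw [ht']; group, CfsgLib.Involutions.conj_zpow_eq_inv ht2 hw2, ← zpow_add, neg_add_cancel, zpow_zero]
  refine hO (Cfsg.pCore 2 G) (Subgroup.sSup_normal _ (fun _ h => h.1)) (CfsgLib.isPGroup_pCore 2) ?_
  refine CfsgLib.isSubnormal_isPGroup_le_pCore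
    (CfsgLib.le_fitting_of_sup_conj_nilpotent _ (fun g => ?_)).1 hX (Subgroup.mem_zpowers t)
  rw [Subgroup.pointwise_smul_def]
  exact (h g).isNilpotent

end Cfsg.Agent.S0200
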