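import Cfsg.Statements.S0016
import Cfsg.Agent.Lib.UniqueSubgroup

set_option autoImplicit false
open Cfsg

namespace Cfsg.Agent.S0016

/-- A finite p-group in which only one subgroup has order p is either cyclic or (with p = 2) isomorphic to a generalized quaternion group. -/
theorem result {G : Type*} [Group G] [Finite G] (p : ℕ) [Fact p.Prime]
    (hG : IsPGroup p G) (huniq : ∀ H K : Subgroup G, Nat.card H = p → Nat.card K = p → H = K) :
    IsCyclic G ∨ (p = 2 ∧ ∃ n : ℕ, Nonempty (G ≃* QuaternionGroup (2 ^ n))) := by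
  have hp : p.Prime := Fact.out
  rcases eq_or_ne (Nat.card G) 1 with h1 | h1
  · left
    haveI : Subsingleton G := (Nat.card_eq_one_iff_unique.1 h1).1
    exact isCyclic_of_subsingleton
  obtain ⟨m, hm⟩ := hG.exists_card_eq
  obtain ⟨z, hz⟩ := exists_prime_orderOf_dvd_card' p
    (show p ∣ Nat.card G by
      rw [hm]; exact dvd_pow_self p (fun h => h1 (by rw [hm, h, pow_zero])))
  have hu : ∀ x : G, x ^ p = 1 → x ∈ Subgroup.zpowers z := by
    intro x hx
    rcases eq_or_ne x 1 with rfl | hx1
    · exact one_mem _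
    · rw [← huniq (Subgroup.zpowers x) (Subgroup.zpowers z)
        (by rw [Nat.card_zpowers, orderOf_eq_prime hx hx1]) (by rw [Nat.card_zpowers, hz])]
      exact Subgroup.mem_zpowers x
  rcases CfsgLib.UniqueSubgroup.cyclic_or_quaternion hG hz hu with h | ⟨h2, n, -, e⟩
  · exact Or.inl h
  · exact Or.inr ⟨h2, n, e⟩

end Cfsg.Agent.S0016
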