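import Cfsg.Statements.S4435
import Cfsg.Agent.Lib.Blocks.FongReynolds

set_option autoImplicit false
set_option linter.style.haveILetI false
open Cfsg

namespace Cfsg.Agent.S4435

open CfsgLib.Blocks CfsgLib.CharTheory

/-- Let N be a normal subgroup of the finite group G, b a block of N (relative to a maximal ideal M of the algebraic integers containing p), and T the stabilizer of b in G (the elements g such that conjugating any member of b by g gives a member of b); N ≤ T. Say that a block of T (or of G) covers b when some member has a constituent in b on restriction to N. Then: (i) every block B′ of T covering b induces a block B of G, B covers b, every ψ ∈ B′ induces to an irreducible character of G, and B consists exactly of the characters induced from members of B′; (ii) distinct blocks of T covering b induce distinct blocks of G; (iii) every block of G covering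 b is induced by some block of T covering b. -/
theorem result {G : Type*} [Group G] [Fintype G] (p : ℕ) [Fact p.Prime] (M : Ideal Cfsg.AlgInt) (hM : Cfsg.IsPModular p M) (N : Subgroup G) [hN : N.Normal] [Fintype N] (b : Set (Cfsg.IrrCharacter N)) (hb : Cfsg.IsPBlock M b) (T : Subgroup G) [Fintype T] (hT : ∀ g : G, g ∈ T ↔ ∀ θ ∈ b, ∀ θ' : Cfsg.IrrCharacter N, (∀ n : N, (θ' : N → ℂ) n = (θ : N → ℂ) ⟨g * n * g⁻¹, hN.conj_mem n n.2 g⟩) → θ' ∈ b) (hNT : N ≤ T) : (∀ B' : Set (Cfsg.IrrCharacter T), Cfsg.IsPBlock M B' → (∃ ψ ∈ B', ∃ θ ∈ b, Cfsg.classInner (fun n : N => (ψ : T → ℂ) ⟨(n : G), hNT n.2⟩) (θ : N → ℂ) ≠ 0) → ∃ B : Set (Cfsg.IrrCharacter G), Cfsg.IsInducedBlock M T B' B ∧ (∃ χ ∈ B, ∃ θ ∈ b, Cfsg.classInner (fun n : N => (χ : G → ℂ) n) (θ : N → ℂ) ≠ 0) ∧ (∀ ψ ∈ B', Cfsg.IsIrrCharacter G (Cfsg.indFun T (ψ : T → ℂ))) ∧ ∀ χ : Cfsg.IrrCharacter G, χ ∈ B ↔ ∃ ψ ∈ B',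 (χ : G → ℂ) = Cfsg.indFun T (ψ : T → ℂ)) ∧ (∀ B'₁ B'₂ : Set (Cfsg.IrrCharacter T), Cfsg.IsPBlock M B'₁ → Cfsg.IsPBlock M B'₂ → (∃ ψ ∈ B'₁, ∃ θ ∈ b, Cfsg.classInner (fun n : N => (ψ : T → ℂ) ⟨(n : G), hNT n.2⟩) (θ : N → ℂ) ≠ 0) → (∃ ψ ∈ B'₂, ∃ θ ∈ b, Cfsg.classInner (fun n : N => (ψ : T → ℂ) ⟨(n : G), hNT n.2⟩) (θ : N → ℂ) ≠ 0) → ∀ B : Set (Cfsg.IrrCharacter G), Cfsg.IsInducedBlock M T B'₁ B → Cfsg.IsInducedBlock M T B'₂ B → B'₁ = B'₂) ∧ (∀ B : Set (Cfsg.IrrCharacter G), Cfsg.IsPBlock M B → (∃ χ ∈ B, ∃ θ ∈ b, Cfsg.classInner (fun n : N => (χ : G → ℂ) n) (θ : N → ℂ) ≠ 0) → ∃ B' : Set (Cfsg.IrrCharacter T), Cfsg.IsPBlock M B' ∧ (∃ ψ ∈ B', ∃ θ ∈ b, Cfsg.classInner (fun n : N => (ψ : T → ℂ) ⟨(n : G), hNT n.2⟩) (θ : N → ℂ) ≠ 0) ∧ Cfsg.IsInducedBlock M T B' B) := by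
  have hmem : ∀ g : G, g ∈ T ↔ blockConj g b = b := by
    have key : ∀ g : G, g ∈ T ↔ blockConj g⁻¹ b ⊆ b := by
      intro g
      rw [hT g]
      constructor
      · rintro h _ ⟨θ, hθ, rfl⟩
        refine h θ hθ _ fun n => ?_
        rw [irrPull_conjE_eq, inv_inv]
        rfl
      · intro h θ hθ θ' hθ'
        refine h ⟨θ, hθ, Subtype.ext (funext fun n => ?_)⟩
        rw [irrPull_conjE_eq, inv_inv, hθ' n]
        rfl
    have hsub : ∀ g ∈ T, blockConj g b ⊆ b := fun g hg => by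
      simpa using (key g⁻¹).1 (T.inv_mem hg)
    intro g
    refine ⟨fun hg => (hsub g hg).antisymm ?_, fun h => ?_⟩
    · have h1 : blockConj g (blockConj g⁻¹ b) ⊆ blockConj g b :=
        Set.image_mono (hsub g⁻¹ (T.inv_mem hg))
      rwa [blockConj_mul, mul_inv_cancel, blockConj_one] at h1
    · have h2 : g⁻¹ ∈ T := (key g⁻¹).2 (by rw [inv_inv, h])
      simpa using T.inv_mem h2
  have hst : ∀ t ∈ T, blockConj t b = b := fun t ht => (hmem t).1 ht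
  have hout : ∀ x : G, blockConj x b = b → x ∈ T := fun x hx => (hmem x).2 hx
  have hall : ∀ B' : Set (IrrCharacter T), IsPBlock M B' →
      (∃ ψ ∈ B', ∃ θ ∈ b, classInner (fun n : N => (ψ : T → ℂ) ⟨(n : G), hNT n.2⟩) (θ : N → ℂ) ≠ 0) →
      ∀ ψ ∈ B', omega (ψ : T → ℂ) (frIdem T b) = 1 := by
    rintro B' hB' ⟨ψ₀, hψ₀, hθ⟩ ψ hψ
    exact omega_frIdem_block hM hNT hb hst hB' hψ₀ hψ ((omega_frIdem_iff hNT hst ψ₀).2 hθ)
  refine ⟨fun B' hB' hcov => ?_, fun B₁ B₂ hB₁ hB₂ hc₁ hc₂ B hi₁ hi₂ => ?_, fun B hB hcov => ?_⟩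
  · obtain ⟨B, hind, hω, hiff⟩ := fr_induced hM hNT hb hst hout hB' (hall B' hB' hcov)
    obtain ⟨χ, hχ⟩ := block_nonempty hM hind.2.1
    exact ⟨B, hind, ⟨χ, hχ, covers_of_res hM (by rw [hω χ hχ, res_one])⟩,
      fun ψ hψ => isIrr_indFun_fr hM hNT hb hst hout (hall B' hB' hcov ψ hψ), hiff⟩
  · obtain ⟨A₁, hA₁, -, hiff₁⟩ := fr_induced hM hNT hb hst hout hB₁ (hall B₁ hB₁ hc₁)
    obtain ⟨A₂, hA₂, -, hiff₂⟩ := fr_induced hM hNT hb hst hout hB₂ (hall B₂ hB₂ hc₂)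
    obtain rfl := induced_unique hM hA₁ hi₁
    obtain rfl := induced_unique hM hA₂ hi₂
    obtain ⟨ψ, hψ⟩ := block_nonempty hM hB₁
    have hirr := isIrr_indFun_fr hM hNT hb hst hout (hall B₁ hB₁ hc₁ ψ hψ)
    obtain ⟨ψ', hψ', he⟩ := (hiff₂ ⟨_, hirr⟩).1 ((hiff₁ ⟨_, hirr⟩).2 ⟨ψ, hψ, rfl⟩)
    rw [eq_blockOf hM hB₁ hψ, eq_blockOf hM hB₂ hψ']
    exact (blockOf_eq_of_mem hM ((fr_sameBlock_iff hM hNT hb hst hout (χ := ⟨_, hirr⟩)
      (χ' := ⟨_, hirr⟩) (hall B₁ hB₁ hc₁ ψ hψ) (hall B₂ hB₂ hc₂ ψ' hψ') rfl he).1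
        (sameBlock_refl hM _))).symm
  · obtain ⟨χ, hχ⟩ := block_nonempty hM hB
    obtain ⟨ψ, hψ, he⟩ := exists_fr_pre hM hNT hb hst hout (covFn_val_covers hM hB hb hcov hχ)
    have hB' : IsPBlock M (blockOf M (ψ : T → ℂ)) := blockOf_isPBlock ψ
    have hθ := (omega_frIdem_iff hNT hst ψ).1 hψ
    have hc' : ∃ φ ∈ blockOf M (ψ : T → ℂ), ∃ θ ∈ b,
        classInner (fun n : N => (φ : T → ℂ) ⟨(n : G), hNT n.2⟩) (θ : N → ℂ) ≠ 0 :=
      ⟨ψ, mem_blockOf_self hM ψ, hθ⟩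
    obtain ⟨A, hA, -, hiff⟩ := fr_induced hM hNT hb hst hout hB' (hall _ hB' hc')
    refine ⟨_, hB', hc', ?_⟩
    have hχA : χ ∈ A := (hiff χ).2 ⟨ψ, mem_blockOf_self hM ψ, he⟩
    rw [eq_blockOf hM hB hχ, ← eq_blockOf hM hA.2.1 hχA]
    exact hA

end Cfsg.Agent.S4435
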