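import Cfsg.Statements.S4436
import Cfsg.Agent.Lib.Blocks.FongReynolds

set_option autoImplicit false
set_option linter.style.haveILetI false
open Cfsg

namespace Cfsg.Agent.S4436

open CfsgLib.Blocks CfsgLib.CharTheory

/-- Let N be a normal subgroup of the finite group G, b a block of N (relative to a maximal ideal M of the algebraic integers containing p), T the stabilizer of b in G, N ≤ T, and B′ a block of T covering b (some member of B′ has a constituent in b on restriction to N) that induces the block B of G. Then every defect group of B′ is a defect group of B, and for every ψ ∈ B′ the induced character ψ^G is an irreducible character of G lying in B with the same height as ψ. -/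
theorem result {G : Type*} [Group G] [Fintype G] (p : ℕ) [Fact p.Prime] (M : Ideal Cfsg.AlgInt) (hM : Cfsg.IsPModular p M) (N : Subgroup G) [hN : N.Normal] [Fintype N] (b : Set (Cfsg.IrrCharacter N)) (hb : Cfsg.IsPBlock M b) (T : Subgroup G) [Fintype T] (hT : ∀ g : G, g ∈ T ↔ ∀ θ ∈ b, ∀ θ' : Cfsg.IrrCharacter N, (∀ n : N, (θ' : N → ℂ) n = (θ : N → ℂ) ⟨g * n * g⁻¹, hN.conj_mem n n.2 g⟩) → θ' ∈ b) (hNT : N ≤ T) (B' : Set (Cfsg.IrrCharacter T)) (hB' : Cfsg.IsPBlock M B') (hcov : (∃ ψ ∈ B', ∃ θ ∈ b, Cfsg.classInner (fun n : N => (ψ : T → ℂ) ⟨(n : G), hNT n.2⟩) (θ : N → ℂ) ≠ 0)) (B : Set (Cfsg.IrrCharacter G)) (hind : Cfsg.IsInducedBlock M T B' B) : (∀ D : Subgroup T, Cfsg.IsDefectGroup p M B' D → Cfsg.IsDefectGroup p M B (D.map T.subtype)) ∧ ∀ ψ ∈ B', ∃ χ ∈ B, (χ : G → ℂ) = Cfsg.indFun T (ψ : T → ℂ) ∧ Cfsg.blockHeight p B (χ : G → ℂ) = Cfsg.blockHeight p B' (ψ : T → ℂ) := by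
  have hmem : ∀ g : G, g ∈ T ↔ blockConj g b = b := by
    have key : ∀ g : G, g ∈ T ↔ blockConj g⁻¹ b ⊆ b := by
      intro g
      rw [hT g]
      constructor
      · rintro h _ ⟨θ, hθ, rfl⟩
        refine h θ hθ _ fun n => ?_
        rw [irrPull_conjE_eq, inv_inv]
        rfl
      · intro h θ hθ θ' hθ'
        refine h ⟨θ, hθ, Subtype.ext (funext fun n => ?_)⟩
        rw [irrPull_conjE_eq, inv_inv, hθ' n]
        rfl
    have hsub : ∀ g ∈ T, blockConj g b ⊆ b := fun g hg => by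
      simpa using (key g⁻¹).1 (T.inv_mem hg)
    intro g
    refine ⟨fun hg => (hsub g hg).antisymm ?_, fun h => ?_⟩
    · have h1 : blockConj g (blockConj g⁻¹ b) ⊆ blockConj g b :=
        Set.image_mono (hsub g⁻¹ (T.inv_mem hg))
      rwa [blockConj_mul, mul_inv_cancel, blockConj_one] at h1
    · have h2 : g⁻¹ ∈ T := (key g⁻¹).2 (by rw [inv_inv, h])
      simpa using T.inv_mem h2
  have hst : ∀ t ∈ T, blockConj t b = b := fun t ht => (hmem t).1 ht
  have hout : ∀ x : G, blockConj x b = b → x ∈ T := fun x hx => (hmem x).2 hx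
  have hall : ∀ B' : Set (IrrCharacter T), IsPBlock M B' →
      (∃ ψ ∈ B', ∃ θ ∈ b, classInner (fun n : N => (ψ : T → ℂ) ⟨(n : G), hNT n.2⟩) (θ : N → ℂ) ≠ 0) →
      ∀ ψ ∈ B', omega (ψ : T → ℂ) (frIdem T b) = 1 := by
    rintro B' hB' ⟨ψ₀, hψ₀, hθ⟩ ψ hψ
    exact omega_frIdem_block hM hNT hb hst hB' hψ₀ hψ ((omega_frIdem_iff hNT hst ψ₀).2 hθ)
  have hω := hall B' hB' hcov
  obtain ⟨A, hA, -, hiff⟩ := fr_induced hM hNT hb hst hout hB' hω
  obtain rfl := induced_unique hM hA hind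
  have hirr : ∀ ψ ∈ B', IsIrrCharacter G (indFun T (ψ : T → ℂ)) :=
    fun ψ hψ => isIrr_indFun_fr hM hNT hb hst hout (hω ψ hψ)
  refine ⟨fun D hD => ?_, fun ψ hψ => ?_⟩
  · obtain ⟨E, hE, hle⟩ := defect_le_of_induced hM hind hD
    rwa [Subgroup.eq_of_le_of_card_ge hle ?_]
    rw [Subgroup.card_map_of_injective T.subtype_injective, card_defectGroup hM hA.2.1 hE,
      card_defectGroup hM hB' hD, fr_blockDefect hM hB' hirr hiff]
  · refine ⟨⟨_, hirr ψ hψ⟩, (hiff _).2 ⟨ψ, hψ, rfl⟩, rfl, ?_⟩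
    rw [blockHeight, blockHeight, sInf_fr hM hB' hirr hiff,
      charDegree_indFun (ψ := ψ) (χ := ⟨_, hirr ψ hψ⟩) rfl,
      Nat.factorization_mul Subgroup.index_ne_zero_of_finite (irr_charDegree_pos ψ).ne',
      Finsupp.add_apply, Nat.add_sub_add_left]

end Cfsg.Agent.S4436
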