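import Cfsg.Statements.S0190
import Cfsg.Agent.Lib.CharTheory
-- import your own Cfsg.Agent.* helpers here

set_option autoImplicit false
open Cfsg

namespace Cfsg.Agent.S0190

/-- For a transitive action of a finite group on X, the permutation character g ↦ (number of fixed points of g) is the function induced from the principal character of the stabilizer of any point. -/
theorem result {G : Type*} [Group G] [Fintype G] (X : Type*) [MulAction G X] [Finite X] [MulAction.IsPretransitive G X] (x : X) : (fun g : G => (Nat.card (MulAction.fixedBy X g) : ℂ)) = Cfsg.indFun (MulAction.stabilizer G x) (fun _ => 1) := by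
  classical
  have := Fintype.ofFinite X
  set S := MulAction.stabilizer G x
  funext g
  simp only [Cfsg.indFun]
  have e : ∀ y : G, Cfsg.extendByZero S (fun _ => (1 : ℂ)) (y⁻¹ * g * y) =
      if g • y • x = y • x then 1 else 0 := fun y => by
    by_cases h : y⁻¹ * g * y ∈ S
    · rw [CfsgLib.CharTheory.extendByZero_of_mem _ _ h, if_pos]
      rwa [MulAction.mem_stabilizer_iff, mul_smul, mul_smul, inv_smul_eq_iff] at h
    · rw [CfsgLib.CharTheory.extendByZero_of_not_mem _ _ h, if_neg]
      rwa [MulAction.mem_stabilizer_iff, mul_smul, mul_smul, inv_smul_eq_iff] at h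
  simp only [e, Finset.sum_boole]
  have h2 : (Finset.univ.filter fun y : G => g • y • x = y • x).card =
      Nat.card (MulAction.fixedBy X g) * Nat.card S := by
    rw [← Fintype.card_subtype, ← Nat.card_eq_fintype_card, ← Nat.card_prod]
    choose r hr using fun z : X => MulAction.exists_smul_eq G x z
    exact Nat.card_congr
      { toFun := fun y => (⟨(y : G) • x, y.2⟩, ⟨(r ((y : G) • x))⁻¹ * y, by
          rw [MulAction.mem_stabilizer_iff, mul_smul, inv_smul_eq_iff, hr]⟩)
        invFun := fun p => ⟨r p.1 * p.2, by
          rw [mul_smul, MulAction.mem_stabilizer_iff.mp p.2.2, hr]; exact p.1.2⟩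
        left_inv := fun y => Subtype.ext (mul_inv_cancel_left _ _)
        right_inv := fun p => by
          have hp : (r p.1 * (p.2 : G)) • x = (p.1 : X) := by
            rw [mul_smul, MulAction.mem_stabilizer_iff.mp p.2.2, hr]
          refine Prod.ext (Subtype.ext hp) (Subtype.ext ?_)
          simp only [hp, inv_mul_cancel_left] }
  rw [h2, Nat.cast_mul]
  field_simp [Nat.cast_ne_zero.mpr (Nat.card_pos (α := S)).ne']

end Cfsg.Agent.S0190
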