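import Cfsg.Statements.S0910
import Cfsg.Agent.Lib.Blocks.BlockBasics
import Cfsg.Agent.Lib.CharTheory.Burnside
import Cfsg.Agent.Lib.Blocks.AlperinDade

set_option autoImplicit false
open Cfsg CfsgLib.CharTheory CfsgLib.Blocks CfsgLib.Blocks.BlockBasics
open scoped ComplexConjugate

set_option linter.unusedVariables false

namespace Cfsg.Agent.S0910

/-- Let G be a non-abelian finite simple group and p a prime. If an irreducible character χ lies in the principal block (relative to a maximal ideal of the algebraic integers containing p) and χ 1 is a power of p, then χ is the principal character. -/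
theorem result {G : Type*} [Group G] [Finite G] (p : ℕ) [Fact p.Prime] (M : Ideal Cfsg.AlgInt) (hM : Cfsg.IsPModular p M) [IsSimpleGroup G] (hna : ∃ a b : G, a * b ≠ b * a) (χ : Cfsg.IrrCharacter G) (hχ : χ ∈ Cfsg.principalBlock M G) (k : ℕ) (hdeg : (χ : G → ℂ) 1 = (p : ℂ) ^ k) : (χ : G → ℂ) = fun _ => 1 := by
  classical
  haveI := Fintype.ofFinite G
  haveI := res_isDomain hM
  by_contra hne
  have hp := (Fact.out : p.Prime)
  by_cases hpG : p ∣ Nat.card G
  swap
  · have h := block_singleton hM hpG (θ := oneIrr G) (φ := χ) hχ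
    exact hne (by rw [← h]; rfl)
  obtain ⟨P⟩ := (inferInstance : Nonempty (Sylow p G))
  haveI : Nontrivial (P : Subgroup G) := by
    refine Finite.one_lt_card_iff_nontrivial.1 ?_
    rw [Sylow.card_eq_multiplicity P]
    exact Nat.one_lt_pow (hp.factorization_pos_of_dvd Nat.card_pos.ne' hpG).ne' hp.one_lt
  haveI := P.2.center_nontrivial
  obtain ⟨w, hw⟩ := exists_ne (1 : Subgroup.center (P : Subgroup G))
  set z : G := ((w : (P : Subgroup G)) : G) with hz
  have hz1 : z ≠ 1 := fun h => hw (Subtype.ext (Subtype.ext h))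
  have hPC : (P : Subgroup G) ≤ Subgroup.centralizer ({z} : Set G) := fun u hu =>
    Subgroup.mem_centralizer_singleton_iff.2
      (congrArg Subtype.val (Subgroup.mem_center_iff.1 w.2 ⟨u, hu⟩))
  have hidx : ¬ p ∣ (Subgroup.centralizer ({z} : Set G)).index := fun h =>
    P.not_dvd_index (h.trans (Subgroup.index_dvd_of_le hPC))
  have hres := (mem_principal_iff hM χ).1 hχ z
  have hχz : (χ : G → ℂ) z ≠ 0 := by
    intro h0
    rw [show clv z χ = 0 by rw [clv, centralChar, h0, mul_zero, zero_div], res_zero] at hres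
    haveI := res_charP hM
    exact hidx ((CharP.cast_eq_zero_iff (Cfsg.AlgInt ⧸ M) p _).1 hres.symm)
  obtain ⟨χ, hirr⟩ := χ
  obtain ⟨n, ρ, hρ, rfl⟩ := hirr
  change ρ.character z ≠ 0 at hχz
  change ¬ ρ.character = fun _ => (1 : ℂ) at hne
  have hn : Module.finrank ℂ (Fin n → ℂ) = p ^ k := by
    have h1 : ρ.character 1 = ((p ^ k : ℕ) : ℂ) := by push_cast; exact hdeg
    rw [ρ.char_one] at h1
    exact_mod_cast h1
  have hcop : Nat.Coprime (Module.finrank ℂ (Fin n → ℂ)) (Subgroup.centralizer ({z} : Set G)).index := by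
    rw [hn]
    exact Nat.Coprime.pow_left k (hp.coprime_iff_not_dvd.2 hidx)
  obtain ⟨ω, hω⟩ := (norm_character_eq_iff ρ z).mp ((zero_or_norm_of_coprime ρ z hcop).resolve_left hχz)
  have hker : MonoidHom.ker ρ = ⊥ := by
    refine ((MonoidHom.normal_ker ρ).eq_bot_or_eq_top).resolve_right fun e => hne ?_
    refine irr_eq_one_of_kernel_top ⟨n, ρ, hρ, rfl⟩ fun x => ?_
    have hx : ρ x = 1 := MonoidHom.mem_ker.mp (by rw [e]; exact Subgroup.mem_top x)
    simp [Representation.character, hx]
  have hzc : z ∈ Subgroup.center G := by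
    refine Subgroup.mem_center_iff.mpr fun x => ?_
    refine ((MonoidHom.ker_eq_bot_iff ρ).mp hker) ?_
    rw [map_mul, map_mul, hω, ← Module.End.one_eq_id, mul_smul_comm, smul_mul_assoc, mul_one, one_mul]
  rcases (inferInstance : (Subgroup.center G).Normal).eq_bot_or_eq_top with h | h
  · rw [h, Subgroup.mem_bot] at hzc
    exact hz1 hzc
  · obtain ⟨a, b, hab⟩ := hna
    exact hab ((Subgroup.mem_center_iff.1 (h ▸ Subgroup.mem_top b : b ∈ Subgroup.center G)) a)

end Cfsg.Agent.S0910
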