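import Cfsg.Statements.S4504
import Cfsg.Agent.Lib.SmallRep.Equality

set_option autoImplicit false
open Cfsg

namespace Cfsg.Agent.S4504

theorem result {G : Type*} [Group G] [Finite G] (p : ℕ) (hp : p.Prime) (hdiv : p ∣ Nat.card G) (hsq : ¬ p ^ 2 ∣ Nat.card G) (hnn : ∀ H : Subgroup G, H.Normal → Nat.card H ≠ p) (χ : G → ℂ) (hχ : Cfsg.IsCharacter G χ) (hfaith : ∀ g : G, χ g = χ 1 → g = 1) (hdeg : 2 * Cfsg.charDegree χ + 1 = p) : Nonempty ((G ⧸ Subgroup.center G) ≃* Matrix.ProjectiveSpecialLinearGroup (Fin 2) (ZMod p)) := by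
  classical
  haveI : Fact p.Prime := ⟨hp⟩
  obtain ⟨n, R, rfl⟩ := hχ
  have hd : Cfsg.charDegree R.character = n := by
    unfold Cfsg.charDegree
    rw [Representation.char_one, Module.finrank_fin_fun, Complex.natCast_re, Nat.floor_natCast]
  rw [hd] at hdeg
  have hinj : Function.Injective R := by
    intro a b hab
    rw [← inv_mul_eq_one]
    apply hfaith
    show LinearMap.trace ℂ _ (R (a⁻¹ * b)) = LinearMap.trace ℂ _ (R 1)
    rw [map_mul, ← hab, ← map_mul, inv_mul_cancel]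
  obtain ⟨x, hx⟩ := exists_prime_orderOf_dvd_card' p hdiv
  exact CfsgLib.SmallRep.central_quotient_psl hdeg.symm hx hsq R hinj
    fun hN => hnn _ hN (by rw [Nat.card_zpowers, hx])

end Cfsg.Agent.S4504
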