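import Cfsg.Statements.S0998
import Cfsg.Agent.Lib.PRQPow.Main

set_option autoImplicit false
open Cfsg

namespace Cfsg.Agent.S0998

/-- A non-cyclic finite simple group whose order has the form p * r * q^b for distinct primes p, q, r is isomorphic to the projective special linear group of dimension 2 over the field with 5 or with 7 elements. -/
theorem result {G : Type*} [Group G] [Finite G] [IsSimpleGroup G] (hG : ¬ IsCyclic G) (p q r b : ℕ) (hp : p.Prime) (hq : q.Prime) (hr : r.Prime) (hpq : p ≠ q) (hpr : p ≠ r) (hqr : q ≠ r) (hG' : Nat.card G = p * r * q ^ b) : (∃ (F : Type) (_ : Field F) (_ : Fintype F), Fintype.card F = 5 ∧ Nonempty (G ≃* Matrix.ProjectiveSpecialLinearGroup (Fin 2) F)) ∨ (∃ (F : Type) (_ : Field F) (_ : Fintype F), Fintype.card F = 7 ∧ Nonempty (G ≃* Matrix.ProjectiveSpecialLinearGroup (Fin 2) F)) := by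
  classical
  haveI := Fintype.ofFinite G
  have h : CfsgLib.PRQPow.Outcome G := by
    rcases lt_or_gt_of_ne hpr with h | h
    · exact CfsgLib.PRQPow.main (b := b) hG hr hp hq hqr.symm hpq.symm h (by rw [hG']; ring)
    · exact CfsgLib.PRQPow.main hG hp hr hq hpq hqr h hG'
  haveI : Fact (Nat.Prime 5) := ⟨Nat.prime_five⟩
  haveI : Fact (Nat.Prime 7) := ⟨by norm_num⟩
  rcases h with h | h
  · exact Or.inl ⟨ZMod 5, inferInstance, inferInstance, ZMod.card 5, h⟩
  · exact Or.inr ⟨ZMod 7, inferInstance, inferInstance, ZMod.card 7, h⟩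

end Cfsg.Agent.S0998
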