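import Cfsg.Statements.S0223
import Cfsg.Agent.Lib.Involutions
import Mathlib.GroupTheory.Perm.Cycle.Type
-- import your own Cfsg.Agent.* helpers here

set_option autoImplicit false
open Cfsg

namespace Cfsg.Agent.S0223

/-- Let H be a proper subgroup of even order of the finite group G. Then H is strongly embedded if and only if (i) C_G(t) ≤ H for every involution t of H and (ii) H controls fusion of its involutions: involutions of H conjugate in G are conjugate in H. -/
theorem result {G : Type*} [Group G] [Finite G] (H : Subgroup G) (hH : H ≠ ⊤) (heven : Even (Nat.card H)) : Cfsg.IsStronglyEmbedded H ↔ ((∀ t ∈ H, orderOf t = 2 → Subgroup.centralizer ({t} : Set G) ≤ H) ∧ (∀ t ∈ H, ∀ s ∈ H, orderOf t = 2 → orderOf s = 2 → IsConj t s → ∃ h ∈ H, h * t * h⁻¹ = s)) := by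
  have hev : ∀ {K : Subgroup G} {t : G}, t ∈ K → orderOf t = 2 → ¬ Odd (Nat.card K) := fun {K t} htK ht =>
    Nat.not_odd_iff_even.mpr (even_iff_two_dvd.mpr (ht ▸ Subgroup.orderOf_dvd_natCard K htK))
  constructor
  · rintro ⟨-, -, hodd⟩
    have key : ∀ (g t : G), t ∈ H → orderOf t = 2 → g * t * g⁻¹ ∈ H → g ∈ H := by
      intro g t ht ho hg
      by_contra hgH
      exact hev (K := H ⊓ H.map (MulAut.conj g).toMonoidHom) (t := g * t * g⁻¹)
        ⟨hg, ⟨t, ht, rfl⟩⟩ (by rw [CfsgLib.Involutions.orderOf_conj, ho]) (hodd g hgH)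
    refine ⟨fun t ht ho c hc => key c t ht ho ?_, fun t ht s hs ho _ hconj => ?_⟩
    · rw [← Subgroup.mem_centralizer_singleton_iff.mp hc |>.symm, mul_inv_cancel_right]
      exact ht
    · obtain ⟨g, hg⟩ := isConj_iff.mp hconj
      exact ⟨g, key g t ht ho (hg ▸ hs), hg⟩
  · rintro ⟨hC, hF⟩
    refine ⟨hH, heven, fun g hg => ?_⟩
    by_contra hne
    haveI : Fact (Nat.Prime 2) := ⟨Nat.prime_two⟩
    obtain ⟨s, hs⟩ := exists_prime_orderOf_dvd_card' (G := ↥(H ⊓ H.map (MulAut.conj g).toMonoidHom)) 2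
      (Nat.not_odd_iff_even.mp hne).two_dvd
    obtain ⟨hsH, t, htH, hts⟩ := s.2
    replace hts : g * t * g⁻¹ = (s : G) := hts
    have hso : orderOf (s : G) = 2 := by rw [Subgroup.orderOf_coe, hs]
    have hto : orderOf t = 2 := by rw [← hso, ← hts, CfsgLib.Involutions.orderOf_conj]
    obtain ⟨h, hhH, hh⟩ := hF t htH s hsH hto hso (isConj_iff.mpr ⟨g, hts⟩)
    have h1 : h⁻¹ * g ∈ Subgroup.centralizer ({t} : Set G) := by
      rw [Subgroup.mem_centralizer_singleton_iff]
      calc h⁻¹ * g * t = h⁻¹ * (g * t * g⁻¹) * g := by group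
        _ = t * (h⁻¹ * g) := by rw [hts, ← hh]; group
    exact hg (by simpa using mul_mem hhH (hC t htH hto h1))

end Cfsg.Agent.S0223
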