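import Cfsg.Statements.S1190
import Cfsg.Agent.Lib.QuasiDihedralSubgroups
-- import your own Cfsg.Agent.* helpers here

set_option autoImplicit false
open Cfsg

namespace Cfsg.Agent.S1190

/-- In a quasi-dihedral 2-group S, any two Klein four-subgroups are conjugate, and every Klein four-subgroup T satisfies C_S(T) = T and |N_S(T) : T| = 2. -/
theorem result {S : Type*} [Group S] [Finite S] (hS : Cfsg.IsQuasiDihedral S) : (∀ T₁ T₂ : Subgroup S, IsKleinFour T₁ → IsKleinFour T₂ → ∃ s : S, T₁.map (MulAut.conj s).toMonoidHom = T₂) ∧ (∀ T : Subgroup S, IsKleinFour T → Subgroup.centralizer (T : Set S) = T ∧ T.relIndex (Subgroup.normalizer (T : Set S)) = 2) := by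
  obtain ⟨n, -, -, d, -⟩ := CfsgLib.QD.exists_data hS
  have hmap : ∀ (s a : S), (Subgroup.centralizer ({a} : Set S)).map (MulAut.conj s).toMonoidHom
      = Subgroup.centralizer ({s * a * s⁻¹} : Set S) := by
    intro s a
    ext w
    rw [Subgroup.mem_centralizer_singleton_iff]
    constructor
    · rintro ⟨v, hv, rfl⟩
      replace hv : v ∈ Subgroup.centralizer ({a} : Set S) := hv
      rw [Subgroup.mem_centralizer_singleton_iff] at hv
      show s * v * s⁻¹ * (s * a * s⁻¹) = s * a * s⁻¹ * (s * v * s⁻¹)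
      rw [conj_mul, hv, conj_mul]
    · intro hw
      refine ⟨s⁻¹ * w * s, ?_, by simp [mul_assoc]⟩
      show s⁻¹ * w * s ∈ Subgroup.centralizer ({a} : Set S)
      rw [Subgroup.mem_centralizer_singleton_iff]
      calc s⁻¹ * w * s * a = s⁻¹ * (w * (s * a * s⁻¹)) * s := by group
        _ = a * (s⁻¹ * w * s) := by rw [hw]; group
  refine ⟨fun T₁ T₂ hT₁ hT₂ => ?_, fun T hT => ?_⟩
  · obtain ⟨j₁, -, e₁, -⟩ := CfsgLib.QD.klein_eq d hT₁
    obtain ⟨j₂, -, e₂, -⟩ := CfsgLib.QD.klein_eq d hT₂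
    obtain ⟨s, hs⟩ := isConj_iff.mp (CfsgLib.QD.isConj_shift d (2 * j₁) (j₂ - j₁))
    refine ⟨s, ?_⟩
    rw [e₁, hmap, hs, e₂, show 2 * j₁ + 2 * (j₂ - j₁) = 2 * j₂ by ring]
  · obtain ⟨j, hjT, e, hzT⟩ := CfsgLib.QD.klein_eq d hT
    refine ⟨le_antisymm ?_ ?_, ?_⟩
    · conv_rhs => rw [e]
      exact Subgroup.centralizer_le (Set.singleton_subset_iff.mpr hjT)
    · intro g hg
      rw [Subgroup.mem_centralizer_iff]
      exact fun h hh => CfsgLib.QD.klein_comm hT hh hg
    · set a := d.x ^ (2 * j) * d.y with ha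
      set k := d.x ^ (2 * (d.M : ℤ)) with hk
      have hka : k * a * k⁻¹ = d.z * a := by
        rw [hk, ha, CfsgLib.QD.conj_xy, CfsgLib.QD.Data.z, ← mul_assoc (d.x ^ (4 * (d.M : ℤ))), ← zpow_add, CfsgLib.QD.xy_eq_iff]
        exact ⟨d.M, by ring⟩
      have hmemT : ∀ {g : S}, g ∈ T ↔ g * a * g⁻¹ = a := fun {g} => by
        rw [e, Subgroup.mem_centralizer_singleton_iff, mul_inv_eq_iff_eq_mul]
      have hkN : k ∈ Subgroup.normalizer (T : Set S) := by
        rw [Subgroup.mem_normalizer_iff]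
        intro g
        rw [hmemT, hmemT]
        have hza : d.z * a = a * d.z := (Subgroup.mem_center_iff.mp (CfsgLib.QD.z_central d) a).symm
        have e1 : k⁻¹ * a * k = d.z⁻¹ * a := by
          calc k⁻¹ * a * k = d.z⁻¹ * (k⁻¹ * (d.z * a) * k) := by
                rw [show k⁻¹ * (d.z * a) * k = k⁻¹ * d.z * a * k by group,
                  Subgroup.mem_center_iff.mp (CfsgLib.QD.z_central d) k⁻¹]; group
            _ = d.z⁻¹ * a := by rw [← hka]; group
        have hzg : ∀ g : S, g * d.z⁻¹ = d.z⁻¹ * g := fun g =>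
          Subgroup.mem_center_iff.mp (inv_mem (CfsgLib.QD.z_central d)) g
        constructor <;> intro hg
        · calc k * g * k⁻¹ * a * (k * g * k⁻¹)⁻¹ = k * (g * (k⁻¹ * a * k) * g⁻¹) * k⁻¹ := by group
            _ = k * (d.z⁻¹ * (g * a * g⁻¹)) * k⁻¹ := by
                rw [e1, ← mul_assoc g, hzg]; group
            _ = a := by rw [hg, ← e1]; group
        · have h2 : g * (k⁻¹ * a * k) * g⁻¹ = k⁻¹ * a * k := by
            calc g * (k⁻¹ * a * k) * g⁻¹ = k⁻¹ * (k * g * k⁻¹ * a * (k * g * k⁻¹)⁻¹) * k := by group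
              _ = k⁻¹ * a * k := by rw [hg]
          rw [e1, ← mul_assoc g, hzg, mul_assoc d.z⁻¹, mul_assoc d.z⁻¹, mul_right_inj] at h2
          exact h2
      refine CfsgLib.QD.relIndex_eq_two_of hkN fun b hb => ?_
      have hb1 : b * a * b⁻¹ ∈ T := (Subgroup.mem_normalizer_iff.mp hb a).mp hjT
      have hzb : b * d.z = d.z * b := Subgroup.mem_center_iff.mp (CfsgLib.QD.z_central d) b
      rw [hmemT, hmemT]
      have hbk : b * k * a * (b * k)⁻¹ = d.z * (b * a * b⁻¹) := by
        calc b * k * a * (b * k)⁻¹ = b * (k * a * k⁻¹) * b⁻¹ := by group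
          _ = d.z * (b * a * b⁻¹) := by rw [hka, ← mul_assoc b, hzb]; group
      rw [hbk]
      rcases CfsgLib.QD.mem_centralizer_cases d (2 * j) (e ▸ hb1) with h | h | h | h
      · exfalso
        rw [conj_eq_one_iff] at h
        exact CfsgLib.QD.xy_ne_zpow d (2 * j) 0 (by rw [zpow_zero]; exact h)
      · exfalso
        have h2 : a = d.z := by
          calc a = b⁻¹ * (b * a * b⁻¹) * b := by group
            _ = d.z := by rw [h, mul_assoc, ← hzb]; group
        exact CfsgLib.QD.xy_ne_zpow d (2 * j) _ h2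
      · right
        refine ⟨h, fun h2 => ?_⟩
        rw [h, mul_eq_right] at h2
        exact CfsgLib.QD.z_ne_one d h2
      · left
        rw [h]
        have hzz := CfsgLib.Involutions.mul_self_eq_one_of_orderOf (CfsgLib.QD.orderOf_z d)
        refine ⟨by rw [← mul_assoc, hzz, one_mul], fun h2 => ?_⟩
        rw [mul_eq_right] at h2
        exact CfsgLib.QD.z_ne_one d h2

end Cfsg.Agent.S1190
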