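import Cfsg.Statements.S1191
import Cfsg.Agent.Lib.QuasiDihedralSubgroups
-- import your own Cfsg.Agent.* helpers here

set_option autoImplicit false
open Cfsg

namespace Cfsg.Agent.S1191

/-- In a quasi-dihedral 2-group S, any two subgroups isomorphic to the quaternion group of order 8 are conjugate, and each such subgroup Q satisfies C_S(Q) = Z(Q) and |N_S(Q) : Q| = 2. -/
theorem result {S : Type*} [Group S] [Finite S] (hS : Cfsg.IsQuasiDihedral S) : (∀ Q₁ Q₂ : Subgroup S, Nonempty (Q₁ ≃* QuaternionGroup 2) → Nonempty (Q₂ ≃* QuaternionGroup 2) → ∃ s : S, Q₁.map (MulAut.conj s).toMonoidHom = Q₂) ∧ (∀ Q : Subgroup S, Nonempty (Q ≃* QuaternionGroup 2) → Subgroup.centralizer (Q : Set S) = (Subgroup.center Q).map Q.subtype ∧ Q.relIndex (Subgroup.normalizer (Q : Set S)) = 2) := by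
  obtain ⟨n, -, -, d, -⟩ := CfsgLib.QD.exists_data hS
  have hMpos := d.hM
  refine ⟨fun Q₁ Q₂ ⟨e₁⟩ ⟨e₂⟩ => ?_, fun Q ⟨eQ⟩ => ?_⟩
  · obtain ⟨i₁, h₁⟩ := CfsgLib.QD.q8_mem d e₁
    obtain ⟨i₂, h₂⟩ := CfsgLib.QD.q8_mem d e₂
    refine ⟨d.x ^ ((1 - 2 * (d.M : ℤ)) * (i₂ - i₁)), Subgroup.eq_of_le_of_card_ge ?_ ?_⟩
    · rintro _ ⟨g, hg, rfl⟩
      obtain ⟨k, rfl | rfl⟩ := (h₁ g).mp hg
      · refine (h₂ _).mpr ⟨k, Or.inl ?_⟩
        rw [MulEquiv.coe_toMonoidHom, MulAut.conj_apply]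
        rw [((Commute.refl d.x).zpow_zpow _ _).eq, mul_inv_cancel_right]
      · refine (h₂ _).mpr ⟨k + 4 * ((d.M : ℤ) - 1) * (i₂ - i₁), Or.inr ?_⟩
        rw [MulEquiv.coe_toMonoidHom, MulAut.conj_apply]
        rw [CfsgLib.QD.conj_xy, CfsgLib.QD.xy_eq_iff]
        exact ⟨0, by ring⟩
    · rw [CfsgLib.Quat.card_of_q8 e₂,
        ← Nat.card_congr (Subgroup.equivMapOfInjective Q₁ _ (MulEquiv.injective (MulAut.conj _))).toEquiv,
        CfsgLib.Quat.card_of_q8 e₁]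
  obtain ⟨i, hQ⟩ := CfsgLib.QD.q8_mem d eQ
  have hcQ : d.x ^ (2 * (d.M : ℤ)) ∈ Q := (hQ _).mpr ⟨1, Or.inl (by rw [mul_one])⟩
  have hbQ : d.x ^ (2 * i + 1) * d.y ∈ Q := (hQ _).mpr ⟨0, Or.inr (by rw [mul_zero, add_zero])⟩
  constructor
  · apply le_antisymm
    · intro g hg
      rw [Subgroup.mem_centralizer_iff] at hg
      have hgQ : g ∈ Q := by
        obtain ⟨j, rfl | rfl⟩ := CfsgLib.QD.cases_elem d g
        · obtain ⟨t, ht⟩ := (CfsgLib.QD.commute_xy_iff d).mp (show Commute (d.x ^ j) _ from (hg _ hbQ).symm)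
          exact (hQ _).mpr ⟨2 * t, Or.inl (by rw [ht]; ring_nf)⟩
        · exfalso
          have h2 := (CfsgLib.QD.commute_xy_iff d).mp (show Commute (d.x ^ (2 * (d.M : ℤ))) _ from hg _ hcQ)
          have h3 := Int.le_of_dvd (by omega) h2
          omega
      exact ⟨⟨g, hgQ⟩, Subgroup.mem_center_iff.mpr fun q => Subtype.ext (hg q q.2), rfl⟩
    · rintro _ ⟨g, hg, rfl⟩
      exact Subgroup.mem_centralizer_iff.mpr fun q hq => congrArg Subtype.val (Subgroup.mem_center_iff.mp hg ⟨q, hq⟩)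
  · have hmemN : ∀ j : ℤ, d.x ^ j ∈ Subgroup.normalizer (Q : Set S) ↔ (d.M : ℤ) ∣ j := by
      intro j
      constructor
      · intro hj
        have h := (Subgroup.mem_normalizer_iff.mp hj _).mp hbQ
        rw [CfsgLib.QD.conj_xy] at h
        obtain ⟨k, hk | hk⟩ := (hQ _).mp h
        · exact absurd hk (CfsgLib.QD.xy_ne_zpow d _ _)
        · rw [CfsgLib.QD.xy_eq_iff] at hk
          obtain ⟨q, hq⟩ := hk
          refine (CfsgLib.QD.dvd_cancel d ⟨4, by ring⟩).mp ⟨k - 4 * q, ?_⟩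
          linarith
      · rintro ⟨q, rfl⟩
        rw [Subgroup.mem_normalizer_iff]
        have key : ∀ (q : ℤ) (g : S), g ∈ Q → d.x ^ ((d.M : ℤ) * q) * g * (d.x ^ ((d.M : ℤ) * q))⁻¹ ∈ Q := by
          intro q g hg
          obtain ⟨k, rfl | rfl⟩ := (hQ g).mp hg
          · rw [((Commute.refl d.x).zpow_zpow _ _).eq, mul_inv_cancel_right]
            exact hg
          · rw [CfsgLib.QD.conj_xy]
            refine (hQ _).mpr ⟨k + (1 - 2 * d.M) * q, Or.inr ?_⟩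
            congr 2
            ring
        refine fun g => ⟨key q g, fun hg => ?_⟩
        have h := key (-q) _ hg
        rw [mul_neg, zpow_neg] at h
        simpa [mul_assoc] using h
    have hkN := (hmemN d.M).mpr dvd_rfl
    refine CfsgLib.QD.relIndex_eq_two_of hkN fun b hb => ?_
    have hmx : ∀ j : ℤ, d.x ^ j ∈ Q ↔ 2 * (d.M : ℤ) ∣ j := by
      intro j
      constructor
      · intro h
        obtain ⟨k, hk | hk⟩ := (hQ _).mp h
        · rw [CfsgLib.QD.zpow_eq_iff] at hk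
          obtain ⟨q, hq⟩ := hk
          exact ⟨k - 4 * q, by linarith⟩
        · exact absurd hk.symm (CfsgLib.QD.xy_ne_zpow d _ _)
      · rintro ⟨k, rfl⟩
        exact (hQ _).mpr ⟨k, Or.inl rfl⟩
    have key : ∀ j : ℤ, (d.M : ℤ) ∣ j → ((d.x ^ (j + d.M) ∈ Q ∧ d.x ^ j ∉ Q) ∨ (d.x ^ j ∈ Q ∧ d.x ^ (j + d.M) ∉ Q)) := by
      rintro j ⟨q, rfl⟩
      rw [hmx, hmx, show (d.M : ℤ) * q + d.M = d.M * (q + 1) by ring, show 2 * (d.M : ℤ) = d.M * 2 by ring,
        mul_dvd_mul_iff_left (by omega), mul_dvd_mul_iff_left (by omega)]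
      omega
    obtain ⟨j, rfl | rfl⟩ := CfsgLib.QD.cases_elem d b
    · rw [← zpow_add]
      exact key j ((hmemN j).mp hb)
    · -- shift by the element `b₀` of `Q`
      set m := (4 * (d.M : ℤ) - 1) * (2 * i + 1) with hm
      have e1 : d.x ^ j * d.y = d.x ^ (j - (2 * i + 1)) * (d.x ^ (2 * i + 1) * d.y) := by
        rw [← mul_assoc, ← zpow_add, sub_add_cancel]
      have hjN : d.x ^ (j - (2 * i + 1)) ∈ Subgroup.normalizer (Q : Set S) := by
        have := mul_mem hb (inv_mem (Subgroup.le_normalizer hbQ))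
        rwa [e1, mul_inv_cancel_right] at this
      obtain ⟨r, hr⟩ := (hmemN _).mp hjN
      have e2 : d.x ^ j * d.y * d.x ^ (d.M : ℤ) =
          d.x ^ (j - (2 * i + 1) + (4 * (d.M : ℤ) - 1) * d.M) * (d.x ^ (2 * i + 1) * d.y) := by
        rw [CfsgLib.QD.xy_mul_zpow, ← mul_assoc, ← zpow_add]
        congr 2
        ring
      rw [e2, e1, Subgroup.mul_mem_cancel_right _ hbQ, Subgroup.mul_mem_cancel_right _ hbQ, hmx, hmx, hr,
        show (d.M : ℤ) * r + (4 * (d.M : ℤ) - 1) * d.M = d.M * (r + 4 * d.M - 1) by ring,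
        show 2 * (d.M : ℤ) = d.M * 2 by ring, mul_dvd_mul_iff_left (by omega), mul_dvd_mul_iff_left (by omega)]
      omega

end Cfsg.Agent.S1191
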