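import Cfsg.Statements.S1203
import Cfsg.Agent.Lib.QuatAut
import Cfsg.Agent.S1190
import Cfsg.Agent.S1191
-- import your own Cfsg.Agent.* helpers here

set_option autoImplicit false
open Cfsg

namespace Cfsg.Agent.S1203

theorem q8_center_card : Fintype.card {g : QuaternionGroup 2 // ∀ h, h * g = g * h} = 2 := by decide

theorem center_index {Q : Type*} [Group Q] (e : Q ≃* QuaternionGroup 2) : (Subgroup.center Q).index = 4 := by
  haveI : Finite Q := Finite.of_equiv _ e.symm.toEquiv
  have h1 := (Subgroup.center Q).card_mul_index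
  have h2 : Nat.card (Subgroup.center Q) = 2 := by
    rw [← q8_center_card, ← Nat.card_eq_fintype_card]
    refine Nat.card_congr ⟨fun g => ⟨e g, fun h => ?_⟩, fun g => ⟨e.symm g, ?_⟩, fun g => by simp, fun g => by simp⟩
    · rw [← e.apply_symm_apply h, ← map_mul, ← map_mul, Subgroup.mem_center_iff.mp g.2]
    · refine Subgroup.mem_center_iff.mpr fun h => e.injective ?_
      rw [map_mul, map_mul, e.apply_symm_apply]
      exact g.2 (e h)
  rw [h2, Nat.card_congr e.toEquiv, CfsgLib.Quat.nat_card] at h1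
  omega

/-- An element of 2-power order outside a normal subgroup makes the index even. -/
theorem two_dvd_index {N : Type*} [Group N] [Finite N] (K : Subgroup N) [K.Normal] {g : N} {a : ℕ}
    (hg : g ^ 2 ^ a = 1) (hgK : g ∉ K) : 2 ∣ K.index := by
  by_contra hodd
  refine hgK ((QuotientGroup.eq_one_iff g).mp ?_)
  rw [← orderOf_eq_one_iff]
  refine Nat.eq_one_of_dvd_coprimes (Nat.Coprime.pow_left a (Nat.prime_two.coprime_iff_not_dvd.mpr hodd))
    (orderOf_dvd_of_pow_eq_one ?_) (orderOf_dvd_natCard _)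
  rw [← QuotientGroup.mk_pow, hg, QuotientGroup.mk_one]

/-- An element of the Sylow subgroup normalizing but not lying in `X`. -/
theorem exists_normalizing {G : Type*} [Group G] [Finite G] (S : Sylow 2 G) (X : Subgroup G) (hXS : X ≤ S)
    (h : (X.subgroupOf (S : Subgroup G)).relIndex (Subgroup.normalizer ((X.subgroupOf (S : Subgroup G)) : Set (S : Subgroup G))) = 2) :
    ∃ g : (S : Subgroup G), (g : G) ∈ Subgroup.normalizer (X : Set G) ∧ g ∉ X.subgroupOf (S : Subgroup G) := by
  obtain ⟨g, hgN, hgX⟩ := SetLike.not_le_iff_exists.mp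
    (fun hle => absurd (Subgroup.relIndex_eq_one.mpr hle) (by omega) :
      ¬ Subgroup.normalizer ((X.subgroupOf (S : Subgroup G)) : Set (S : Subgroup G)) ≤ X.subgroupOf (S : Subgroup G))
  refine ⟨g, Subgroup.mem_normalizer_iff.mpr fun x => ⟨fun hx => ?_, fun hx => ?_⟩, hgX⟩
  · exact (Subgroup.mem_normalizer_iff.mp hgN ⟨x, hXS hx⟩).mp hx
  · have h2 : x ∈ (S : Subgroup G) := by
      have := mul_mem (mul_mem (inv_mem g.2) (hXS hx)) g.2
      simpa [mul_assoc] using this
    exact (Subgroup.mem_normalizer_iff.mp hgN ⟨x, h2⟩).mpr hx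

/-- Let G be a finite group with quasi-dihedral Sylow 2-subgroup S, T a Klein four-subgroup of S and Q a quaternion subgroup of order 8 of S. Then |N_G(T) : C_G(T)| ∈ {2, 6} and |N_G(Q) : Q C_G(Q)| ∈ {2, 6}. -/
theorem result {G : Type*} [Group G] [Finite G] (S : Sylow 2 G) (hS : Cfsg.IsQuasiDihedral (S : Subgroup G)) (T : Subgroup G) (hT : IsKleinFour T) (hTS : T ≤ S) (Q : Subgroup G) (hQS : Q ≤ S) (eQ : Q ≃* QuaternionGroup 2) : ((Subgroup.centralizer (T : Set G)).relIndex (Subgroup.normalizer (T : Set G)) = 2 ∨ (Subgroup.centralizer (T : Set G)).relIndex (Subgroup.normalizer (T : Set G)) = 6) ∧ ((Q ⊔ Subgroup.centralizer (Q : Set G)).relIndex (Subgroup.normalizer (Q : Set G)) = 2 ∨ (Q ⊔ Subgroup.centralizer (Q : Set G)).relIndex (Subgroup.normalizer (Q : Set G)) = 6) := by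
  haveI := hT
  haveI : Fact (Nat.Prime 2) := ⟨Nat.prime_two⟩
  have eTS := Subgroup.subgroupOfEquivOfLe hTS
  have hT' : IsKleinFour (T.subgroupOf (S : Subgroup G)) :=
    ⟨by rw [Nat.card_congr eTS.toEquiv, IsKleinFour.card_four],
      by rw [Monoid.exponent_eq_of_mulEquiv eTS, IsKleinFour.exponent_two]⟩
  constructor
  · obtain ⟨hC, hN⟩ := (Cfsg.Agent.S1190.result hS).2 _ hT'
    obtain ⟨g, hgN, hgT⟩ := exists_normalizing S T hTS hN
    set N := Subgroup.normalizer (T : Set G)
    set φ := T.normalizerMonoidHom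
    have hker : φ.ker = (Subgroup.centralizer (T : Set G)).subgroupOf N := Subgroup.normalizerMonoidHom_ker _
    have hdvd : (Subgroup.centralizer (T : Set G)).relIndex N ∣ 6 := by
      rw [Subgroup.relIndex, ← hker, Subgroup.index_ker, ← CfsgLib.Quat.card_aut_klein (V := T)]
      exact Subgroup.card_subgroup_dvd_card φ.range
    obtain ⟨a, ha⟩ := S.2 g
    have h2 : 2 ∣ (Subgroup.centralizer (T : Set G)).relIndex N := by
      rw [Subgroup.relIndex, ← hker]
      refine two_dvd_index φ.ker (g := ⟨g, hgN⟩) (a := a) (Subtype.ext (by simpa using congrArg Subtype.val ha)) fun h => hgT ?_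
      rw [hker] at h
      rw [← hC, Subgroup.mem_centralizer_iff]
      exact fun t ht => Subtype.ext (Subgroup.mem_centralizer_iff.mp h t.1 ht)
    have h6 := Nat.le_of_dvd (by norm_num) hdvd
    generalize (Subgroup.centralizer (T : Set G)).relIndex N = k at h2 hdvd h6 ⊢
    interval_cases k <;> omega
  · have eQS := (Subgroup.subgroupOfEquivOfLe hQS).trans eQ
    obtain ⟨hC, hN⟩ := (Cfsg.Agent.S1191.result hS).2 _ ⟨eQS⟩
    obtain ⟨g, hgN, hgQ⟩ := exists_normalizing S Q hQS hN
    set N := Subgroup.normalizer (Q : Set G) with hNdef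
    set C := Subgroup.centralizer (Q : Set G) with hCdef
    set φ := Q.normalizerMonoidHom
    have hker : φ.ker = C.subgroupOf N := Subgroup.normalizerMonoidHom_ker _
    have hCN : C ≤ N := Subgroup.centralizer_le_normalizer _
    have hQN : Q ≤ N := Subgroup.le_normalizer
    have hbar : (Q ⊔ C).subgroupOf N = Q.subgroupOf N ⊔ φ.ker := by
      rw [hker, Subgroup.subgroupOf_sup hQN hCN]
    haveI : (Q.subgroupOf N).Normal := Subgroup.normal_in_normalizer
    have h4 : φ.ker.relIndex (Q.subgroupOf N ⊔ φ.ker) = 4 := by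
      rw [Subgroup.relIndex_sup_right, hker, Subgroup.relIndex_subgroupOf hQN,
        ← center_index eQ, Subgroup.relIndex]
      congr 1
      ext q
      rw [Subgroup.mem_subgroupOf, hCdef, Subgroup.mem_centralizer_iff, Subgroup.mem_center_iff]
      exact ⟨fun h x => Subtype.ext (h x x.2), fun h x hx => congrArg Subtype.val (h ⟨x, hx⟩)⟩
    have hR : Nat.card φ.range = 4 * (Q ⊔ C).relIndex N := by
      rw [← Subgroup.index_ker, Subgroup.relIndex, hbar, ← Subgroup.relIndex_mul_index (le_sup_right : φ.ker ≤ Q.subgroupOf N ⊔ φ.ker), h4]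
    have haut : Nat.card (MulAut Q) = Nat.card (MulAut (QuaternionGroup 2)) :=
      Nat.card_congr (MulAut.congr eQ).toEquiv
    haveI : Finite (MulAut Q) := inferInstance
    have hd : 4 * (Q ⊔ C).relIndex N ∣ Nat.card (MulAut (QuaternionGroup 2)) :=
      hR ▸ haut ▸ Subgroup.card_subgroup_dvd_card φ.range
    obtain ⟨a, ha⟩ := S.2 g
    have h2 : 2 ∣ (Q ⊔ C).relIndex N := by
      rw [Subgroup.relIndex, hbar]
      refine two_dvd_index _ (g := ⟨g, hgN⟩) (a := a) (Subtype.ext (by simpa using congrArg Subtype.val ha)) fun h => hgQ ?_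
      obtain ⟨q, hq, c, hc, hqc⟩ := Subgroup.mem_sup_of_normal_right.mp h
      have hqc' : (q : G) * (c : G) = (g : G) := congrArg Subtype.val hqc
      rw [hker] at hc
      have hqQ : (q : G) ∈ Q := hq
      have hcS : (c : G) ∈ (S : Subgroup G) := by
        have := mul_mem (inv_mem (hQS hqQ)) g.2
        rwa [← hqc', inv_mul_cancel_left] at this
      have hcQ : (⟨c, hcS⟩ : (S : Subgroup G)) ∈ Subgroup.centralizer ((Q.subgroupOf (S : Subgroup G)) : Set (S : Subgroup G)) :=
        Subgroup.mem_centralizer_iff.mpr fun t ht => Subtype.ext (Subgroup.mem_centralizer_iff.mp hc t.1 ht)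
      rw [hC] at hcQ
      obtain ⟨w, -, hw⟩ := hcQ
      show (g : G) ∈ Q
      rw [← hqc', show (c : G) = ((w : (S : Subgroup G)) : G) from (congrArg Subtype.val hw).symm]
      exact mul_mem hqQ w.2
    have h3 := CfsgLib.Quat.three_dvd_card_aut
    have h24 := CfsgLib.Quat.card_aut_le
    have hpos : 0 < Nat.card (MulAut (QuaternionGroup 2)) := Nat.card_pos
    have hpos2 : 0 < (Q ⊔ C).relIndex N := Nat.pos_of_ne_zero Subgroup.index_ne_zero_of_finite
    have hle6 := Nat.le_of_dvd hpos hd
    generalize (Q ⊔ C).relIndex N = k at h2 hd hpos2 hle6 ⊢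
    generalize Nat.card (MulAut (QuaternionGroup 2)) = A at hd h3 h24 hpos hle6
    obtain ⟨c, rfl⟩ := hd
    have hk : k ≤ 6 := by omega
    interval_cases k <;> omega

end Cfsg.Agent.S1203
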