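import Cfsg.Statements.S1204
import Cfsg.Agent.Lib.QuasiDihedralClasses
-- import your own Cfsg.Agent.* helpers here

set_option autoImplicit false
open Cfsg

namespace Cfsg.Agent.S1204

open CfsgLib.LocalFusion CfsgLib.QD

/-- Let G be a finite group with quasi-dihedral Sylow 2-subgroup S, T a Klein four-subgroup and Q a quaternion subgroup of order 8 of S, with |N_G(T) : C_G(T)| = 6 and |N_G(Q) : Q C_G(Q)| = 6. Then G has no subgroup of index 2, exactly one conjugacy class of involutions and exactly one conjugacy class of elements of order 4. -/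
theorem result {G : Type*} [Group G] [Finite G] (S : Sylow 2 G) (hS : Cfsg.IsQuasiDihedral (S : Subgroup G)) (T : Subgroup G) (hT : IsKleinFour T) (hTS : T ≤ S) (Q : Subgroup G) (hQS : Q ≤ S) (eQ : Q ≃* QuaternionGroup 2) (h₁ : (Subgroup.centralizer (T : Set G)).relIndex (Subgroup.normalizer (T : Set G)) = 6) (h₂ : (Q ⊔ Subgroup.centralizer (Q : Set G)).relIndex (Subgroup.normalizer (Q : Set G)) = 6) : (∀ H : Subgroup G, H.index ≠ 2) ∧ Nat.card {C : ConjClasses G // ∃ t : G, orderOf t = 2 ∧ ConjClasses.mk t = C} = 1 ∧ Nat.card {C : ConjClasses G // ∃ t : G, orderOf t = 4 ∧ ConjClasses.mk t = C} = 1 := by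
  haveI : Fact (Nat.Prime 2) := ⟨Nat.prime_two⟩
  obtain ⟨n, -, hcard, d, -⟩ := exists_data hS
  refine ⟨no_index_two S fun H hH => ?_, ?_, ?_⟩
  · haveI := Subgroup.normal_of_index_eq_two hH
    obtain ⟨g, hg, hgC, hodd⟩ := exists_odd_klein h₁
    have hTH : T ≤ H := klein_le_of_normal hT hg hgC hodd (mem_of_index_two hH hodd)
    obtain ⟨g', hg', hgC', hodd'⟩ := exists_odd_q8 h₂
    have hQH : Q ≤ H := q8_le_of_normal eQ hg' hgC' hodd' (mem_of_index_two hH hodd')
    obtain ⟨-, j, hj⟩ := klein_reps S d hT hTS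
    obtain ⟨-, i, hi⟩ := q8_reps S d eQ hQS
    have hD : d.D ≤ H.subgroupOf (S : Subgroup G) := D_le_of_normal d (hTH hj)
    have hQ' : d.Q ≤ H.subgroupOf (S : Subgroup G) := Q_le_of_normal d (hQH hi)
    have hy : d.y ∈ H.subgroupOf (S : Subgroup G) := hD (Subgroup.subset_closure (Or.inr rfl))
    have hxy : d.x ^ (1 : ℤ) * d.y ∈ H.subgroupOf (S : Subgroup G) := hQ' (Subgroup.subset_closure (Or.inr rfl))
    have hx : d.x ∈ H.subgroupOf (S : Subgroup G) := by
      have := mul_mem hxy hy
      rwa [mul_assoc, hyy, mul_one, zpow_one] at this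
    intro s hs
    obtain ⟨k, e | e⟩ := cases_elem d (⟨s, hs⟩ : (S : Subgroup G))
    · have := zpow_mem hx k
      rwa [← e] at this
    · have := mul_mem (zpow_mem hx k) hy
      rwa [← e] at this
  · refine card_classes _ ![((d.z : (S : Subgroup G)) : G)] (fun i => ?_) (fun i j _ => Subsingleton.elim i j)
      fun t ht => ⟨0, ?_⟩
    · fin_cases i
      simp [orderOf_z]
    · rcases invol_cases S d ht with h | h
      · exact h
      · exact h.trans (y_conj_z S d hT hTS h₁)
  · refine card_classes _ ![((d.x ^ (2 * (d.M : ℤ)) : (S : Subgroup G)) : G)] (fun i => ?_)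
      (fun i j _ => Subsingleton.elim i j) fun t ht => ⟨0, ?_⟩
    · fin_cases i
      show orderOf ((d.x ^ (2 * (d.M : ℤ)) : (S : Subgroup G)) : G) = 4
      rw [Subgroup.orderOf_coe, orderOf_zpow_quarter]
    · rcases order_four_classes S d ht with h | h
      · exact h
      · exact h.trans (b_conj_c S d eQ hQS h₂)

end Cfsg.Agent.S1204
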