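import Cfsg.Statements.S1205
import Cfsg.Agent.Lib.QuasiDihedralClasses
-- import your own Cfsg.Agent.* helpers here

set_option autoImplicit false
open Cfsg

namespace Cfsg.Agent.S1205

open CfsgLib.LocalFusion CfsgLib.QD

theorem coe_mem_map {G : Type*} [Group G] {S : Subgroup G} {M : Subgroup S} {a : S} :
    (a : G) ∈ M.map S.subtype ↔ a ∈ M :=
  ⟨fun ⟨b, hb, e⟩ => (Subtype.ext e : b = a) ▸ hb, fun h => ⟨a, h, rfl⟩⟩

theorem map_conj_equiv {G : Type*} [Group G] (A : Subgroup G) (c : G) :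
    Nonempty (↥(A.map (MulAut.conj c).toMonoidHom) ≃* A) :=
  ⟨(A.equivMapOfInjective _ (MulAut.conj c).injective).symm⟩

/-- Let G be a finite group with quasi-dihedral Sylow 2-subgroup S, T a Klein four-subgroup and Q a quaternion subgroup of order 8 of S, with |N_G(T) : C_G(T)| = 2 and |N_G(Q) : Q C_G(Q)| = 6. Then G has a normal subgroup K of index 2 whose Sylow 2-subgroups are generalized quaternion and which has no subgroup of index 2; the centre of S is weakly closed in S; and G has exactly two classes of involutions and one class of elements of order 4. -/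
theorem result {G : Type*} [Group G] [Finite G] (S : Sylow 2 G) (hS : Cfsg.IsQuasiDihedral (S : Subgroup G)) (T : Subgroup G) (hT : IsKleinFour T) (hTS : T ≤ S) (Q : Subgroup G) (hQS : Q ≤ S) (eQ : Q ≃* QuaternionGroup 2) (h₁ : (Subgroup.centralizer (T : Set G)).relIndex (Subgroup.normalizer (T : Set G)) = 2) (h₂ : (Q ⊔ Subgroup.centralizer (Q : Set G)).relIndex (Subgroup.normalizer (Q : Set G)) = 6) : (∃ K : Subgroup G, K.Normal ∧ K.index = 2 ∧ (∀ P : Sylow 2 ↥K, ∃ m : ℕ, 1 ≤ m ∧ Nonempty ((P : Subgroup ↥K) ≃* QuaternionGroup (2 ^ m))) ∧ (∀ H : Subgroup ↥K, H.index ≠ 2)) ∧ Cfsg.IsWeaklyClosed ((Subgroup.center (S : Subgroup G)).map (S : Subgroup G).subtype) (S : Subgroup G) ∧ Nat.card {C : ConjClasses G // ∃ t : G, orderOf t = 2 ∧ ConjClasses.mk t = C} = 2 ∧ Nat.card {C : ConjClasses G // ∃ t : G, orderOf t = 4 ∧ ConjClasses.mk t = C} = 1 := by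
  haveI : Fact (Nat.Prime 2) := ⟨Nat.prime_two⟩
  obtain ⟨n, hn, hcard, d, hdM⟩ := exists_data hS
  have hM : d.Q.index = 2 := index_of_card d (card_Q d)
  have hTA : ∀ A : Subgroup G, A ≤ (S : Subgroup G) → IsKleinFour A →
      A.subgroupOf (S : Subgroup G) ≤ d.Q ∨ AutFromSylow S A :=
    fun A hA hAk => Or.inr (klein_autFromSylow S hS hT hTS h₁ hAk hA)
  have hQA : ∀ A : Subgroup G, A ≤ (S : Subgroup G) → (A ≃* QuaternionGroup 2) →
      A.subgroupOf (S : Subgroup G) ≤ d.Q ∨ AutFromSylow S A :=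
    fun A hA eA => Or.inl (q8_le_Q d ((Subgroup.subgroupOfEquivOfLe hA).trans eA))
  have hzQ : d.z ∈ d.Q := by
    rw [Data.z, show 4 * (d.M : ℤ) = 2 * (2 * d.M) by ring]
    exact zpow_even_mem_Q d _
  have hzy : ¬ IsConj ((d.z : (S : Subgroup G)) : G) ((d.y : (S : Subgroup G)) : G) :=
    not_isConj S hS hM hTA hQA hzQ (y_not_mem_Q d)
  refine ⟨?_, ?_, ?_, ?_⟩
  · obtain ⟨K, hKn, hKS, hK⟩ := exists_index_two S hS hM hTA hQA
    refine ⟨K, hKn, hK, fun P => ?_, no_index_two_normal S hKS fun H hH => ?_⟩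
    · refine ⟨n - 3 + 1, by omega, ?_⟩
      obtain ⟨e₁⟩ := sylow_equiv S hKS P
      obtain ⟨e₂⟩ := Q_equiv d
      have e : 2 * d.M = 2 ^ (n - 3 + 1) := by rw [hdM, pow_succ']
      rw [← e]
      exact ⟨e₁.trans ((d.Q.equivMapOfInjective _ (Subgroup.subtype_injective _)).symm.trans e₂)⟩
    · haveI := Subgroup.normal_of_index_eq_two hH
      obtain ⟨g, hg, hgC, hodd⟩ := exists_odd_q8 h₂
      obtain ⟨-, i, hi⟩ := q8_reps S d eQ hQS
      have hK2 : K.index = 2 ^ 1 := by rw [hK, pow_one]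
      have hQK : Q ≤ K := fun q hq => by
        have h := q8_le_Q d ((Subgroup.subgroupOfEquivOfLe hQS).trans eQ) (show (⟨q, hQS hq⟩ : (S : Subgroup G)) ∈ Q.subgroupOf (S : Subgroup G) from hq)
        exact (inf_le_left : K ⊓ (S : Subgroup G) ≤ K) (hKS.ge ⟨_, h, rfl⟩)
      have hall : d.Q ≤ (H.map K.subtype).subgroupOf (S : Subgroup G) := by
        refine Q_le_of_all d fun k => ?_
        obtain ⟨c, hc⟩ := odd_shift_all d i k
        obtain ⟨e'⟩ := map_conj_equiv Q (c : G)
        have hg' : (c : G) * g * (c : G)⁻¹ ∈ Subgroup.normalizer ((Q.map (MulAut.conj (c : G)).toMonoidHom : Subgroup G) : Set G) :=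
          Subgroup.le_normalizer_map _ ⟨g, hg, rfl⟩
        have hAK : Q.map (MulAut.conj (c : G)).toMonoidHom ≤ K := by
          rintro _ ⟨q, hq, rfl⟩
          exact hKn.conj_mem q (hQK hq) _
        have hodd' : Odd (orderOf ((c : G) * g * (c : G)⁻¹)) := by rwa [CfsgLib.Involutions.orderOf_conj]
        have hgK := odd_mem_normal S (M := d.Q.map (S : Subgroup G).subtype) hK2 hodd'
        have hodd'' : Odd (orderOf (⟨_, hgK⟩ : K)) := by rwa [Subgroup.orderOf_mk]
        have hle := q8_le_of_normal (H := H) ((Subgroup.subgroupOfEquivOfLe hAK).trans (e'.trans eQ))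
          (g := ⟨_, hgK⟩)
          (Subgroup.mem_normalizer_iff.mpr fun y => Subgroup.mem_normalizer_iff.mp hg' (y : G))
          (fun hcen => hgC (Subgroup.mem_centralizer_iff.mpr fun q hq => by
            have h1 := congrArg Subtype.val (Subgroup.mem_centralizer_iff.mp hcen
              (⟨_, hAK ⟨q, hq, rfl⟩⟩ : K) (show _ ∈ Q.map (MulAut.conj (c : G)).toMonoidHom from ⟨q, hq, rfl⟩))
            have h2 := congrArg (· * (c : G)) h1
            simpa [mul_assoc] using h2))
          hodd'' (mem_of_index_two hH hodd'')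
        have hmem : ((d.x ^ (2 * k + 1) * d.y : (S : Subgroup G)) : G) ∈ Q.map (MulAut.conj (c : G)).toMonoidHom :=
          ⟨_, hi, by rw [← hc]; rfl⟩
        exact ⟨⟨_, hAK hmem⟩, hle (show _ ∈ (Q.map (MulAut.conj (c : G)).toMonoidHom).subgroupOf K from hmem), rfl⟩
      rintro _ ⟨b, hb, rfl⟩
      obtain ⟨a, ha, hab⟩ := hall hb
      have hab' : (a : G) = (b : G) := hab
      have hbK : (b : G) ∈ K := hab' ▸ a.2
      have e : a = (⟨(b : G), hbK⟩ : K) := Subtype.ext hab'
      rw [e] at ha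
      exact ha
  · have hW : (Subgroup.center (S : Subgroup G)).map (S : Subgroup G).subtype = Subgroup.zpowers ((d.z : (S : Subgroup G)) : G) := by
      rw [center_eq_zpowers d, MonoidHom.map_zpowers]; rfl
    refine ⟨Subgroup.map_subtype_le _, fun g hg => ?_⟩
    rw [hW, MonoidHom.map_zpowers] at hg ⊢
    suffices h : (MulAut.conj g).toMonoidHom ((d.z : (S : Subgroup G)) : G) = ((d.z : (S : Subgroup G)) : G) by rw [h]
    have hmem : g * ((d.z : (S : Subgroup G)) : G) * g⁻¹ ∈ (S : Subgroup G) := hg (Subgroup.mem_zpowers _)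
    have ho : orderOf (⟨_, hmem⟩ : (S : Subgroup G)) = 2 := by
      rw [Subgroup.orderOf_mk, CfsgLib.Involutions.orderOf_conj, Subgroup.orderOf_coe, orderOf_z]
    have hc : IsConj ((d.z : (S : Subgroup G)) : G) (g * ((d.z : (S : Subgroup G)) : G) * g⁻¹) :=
      isConj_iff.mpr ⟨g, rfl⟩
    rcases involution_cases d ho with e | ⟨j, e⟩
    · exact congrArg Subtype.val e
    · exfalso
      have h := isConj_shift d 0 j
      rw [zpow_zero, one_mul, zero_add, ← e] at h
      exact hzy (hc.trans (MonoidHom.map_isConj (S : Subgroup G).subtype h.symm))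
  · refine card_classes _ ![((d.z : (S : Subgroup G)) : G), ((d.y : (S : Subgroup G)) : G)] (fun i => ?_)
      (fun i j h => ?_) fun t ht => ?_
    · fin_cases i
      · simp [orderOf_z]
      · simp [d.hy]
    · fin_cases i <;> fin_cases j
      · rfl
      · exact absurd h hzy
      · exact absurd h.symm hzy
      · rfl
    · rcases invol_cases S d ht with h | h
      exacts [⟨0, h⟩, ⟨1, h⟩]
  · refine card_classes _ ![((d.x ^ (2 * (d.M : ℤ)) : (S : Subgroup G)) : G)] (fun i => ?_)
      (fun i j _ => Subsingleton.elim i j) fun t ht => ⟨0, ?_⟩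
    · fin_cases i
      show orderOf ((d.x ^ (2 * (d.M : ℤ)) : (S : Subgroup G)) : G) = 4
      rw [Subgroup.orderOf_coe, orderOf_zpow_quarter]
    · rcases order_four_classes S d ht with h | h
      · exact h
      · exact h.trans (b_conj_c S d eQ hQS h₂)

end Cfsg.Agent.S1205
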