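import Cfsg.Statements.S1206
import Cfsg.Agent.Lib.QuasiDihedralClasses
-- import your own Cfsg.Agent.* helpers here

set_option autoImplicit false
open Cfsg

namespace Cfsg.Agent.S1206

open CfsgLib.LocalFusion CfsgLib.QD

theorem coe_mem_map {G : Type*} [Group G] {S : Subgroup G} {M : Subgroup S} {a : S} :
    (a : G) ∈ M.map S.subtype ↔ a ∈ M :=
  ⟨fun ⟨b, hb, e⟩ => (Subtype.ext e : b = a) ▸ hb, fun h => ⟨a, h, rfl⟩⟩

theorem map_conj_equiv {G : Type*} [Group G] (A : Subgroup G) (c : G) :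
    Nonempty (↥(A.map (MulAut.conj c).toMonoidHom) ≃* A) :=
  ⟨(A.equivMapOfInjective _ (MulAut.conj c).injective).symm⟩

/-- Let G be a finite group with quasi-dihedral Sylow 2-subgroup S, T a Klein four-subgroup and Q a quaternion subgroup of order 8 of S, with |N_G(T) : C_G(T)| = 6 and |N_G(Q) : Q C_G(Q)| = 2. Then G has a normal subgroup K of index 2 whose Sylow 2-subgroups are dihedral and which has no subgroup of index 2, and G has exactly one class of involutions and two classes of elements of order 4. -/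
theorem result {G : Type*} [Group G] [Finite G] (S : Sylow 2 G) (hS : Cfsg.IsQuasiDihedral (S : Subgroup G)) (T : Subgroup G) (hT : IsKleinFour T) (hTS : T ≤ S) (Q : Subgroup G) (hQS : Q ≤ S) (eQ : Q ≃* QuaternionGroup 2) (h₁ : (Subgroup.centralizer (T : Set G)).relIndex (Subgroup.normalizer (T : Set G)) = 6) (h₂ : (Q ⊔ Subgroup.centralizer (Q : Set G)).relIndex (Subgroup.normalizer (Q : Set G)) = 2) : (∃ K : Subgroup G, K.Normal ∧ K.index = 2 ∧ (∀ P : Sylow 2 ↥K, ∃ m : ℕ, Nonempty ((P : Subgroup ↥K) ≃* DihedralGroup m)) ∧ (∀ H : Subgroup ↥K, H.index ≠ 2)) ∧ Nat.card {C : ConjClasses G // ∃ t : G, orderOf t = 2 ∧ ConjClasses.mk t = C} = 1 ∧ Nat.card {C : ConjClasses G // ∃ t : G, orderOf t = 4 ∧ ConjClasses.mk t = C} = 2 := by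
  haveI : Fact (Nat.Prime 2) := ⟨Nat.prime_two⟩
  obtain ⟨n, hn, hcard, d, hdM⟩ := exists_data hS
  have hM : d.D.index = 2 := index_of_card d (card_D d)
  have hTA : ∀ A : Subgroup G, A ≤ (S : Subgroup G) → IsKleinFour A →
      A.subgroupOf (S : Subgroup G) ≤ d.D ∨ AutFromSylow S A :=
    fun A hA hAk => Or.inl (klein_le_D d (klein_subgroupOf S hAk hA))
  have hQA : ∀ A : Subgroup G, A ≤ (S : Subgroup G) → (A ≃* QuaternionGroup 2) →
      A.subgroupOf (S : Subgroup G) ≤ d.D ∨ AutFromSylow S A :=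
    fun A hA eA => Or.inr (q8_autFromSylow S hS eQ hQS h₂ eA hA)
  have hcD : d.x ^ (2 * (d.M : ℤ)) ∈ d.D := zpow_even_mem_D d _
  have hcb : ¬ IsConj ((d.x ^ (2 * (d.M : ℤ)) : (S : Subgroup G)) : G) ((d.x ^ (1 : ℤ) * d.y : (S : Subgroup G)) : G) :=
    not_isConj S hS hM hTA hQA hcD (xy_not_mem_D d)
  refine ⟨?_, ?_, ?_⟩
  · obtain ⟨K, hKn, hKS, hK⟩ := exists_index_two S hS hM hTA hQA
    refine ⟨K, hKn, hK, fun P => ?_, no_index_two_normal S hKS fun H hH => ?_⟩
    · refine ⟨4 * d.M, ?_⟩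
      obtain ⟨e₁⟩ := sylow_equiv S hKS P
      obtain ⟨e₂⟩ := D_equiv d
      exact ⟨e₁.trans ((d.D.equivMapOfInjective _ (Subgroup.subtype_injective _)).symm.trans e₂)⟩
    · haveI := Subgroup.normal_of_index_eq_two hH
      obtain ⟨g, hg, hgC, hodd⟩ := exists_odd_klein h₁
      obtain ⟨-, i, hi⟩ := klein_reps S d hT hTS
      have hK2 : K.index = 2 ^ 1 := by rw [hK, pow_one]
      have hQK : T ≤ K := fun q hq => by
        have h := klein_le_D d (klein_subgroupOf S hT hTS) (show (⟨q, hTS hq⟩ : (S : Subgroup G)) ∈ T.subgroupOf (S : Subgroup G) from hq)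
        exact (inf_le_left : K ⊓ (S : Subgroup G) ≤ K) (hKS.ge ⟨_, h, rfl⟩)
      have hall : d.D ≤ (H.map K.subtype).subgroupOf (S : Subgroup G) := by
        refine D_le_of_all d fun k => ?_
        obtain ⟨c, hc⟩ := even_shift_all d i k
        obtain ⟨e'⟩ := map_conj_equiv T (c : G)
        have hg' : (c : G) * g * (c : G)⁻¹ ∈ Subgroup.normalizer ((T.map (MulAut.conj (c : G)).toMonoidHom : Subgroup G) : Set G) :=
          Subgroup.le_normalizer_map _ ⟨g, hg, rfl⟩
        have hAK : T.map (MulAut.conj (c : G)).toMonoidHom ≤ K := by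
          rintro _ ⟨q, hq, rfl⟩
          exact hKn.conj_mem q (hQK hq) _
        have hodd' : Odd (orderOf ((c : G) * g * (c : G)⁻¹)) := by rwa [CfsgLib.Involutions.orderOf_conj]
        have hgK := odd_mem_normal S (M := d.D.map (S : Subgroup G).subtype) hK2 hodd'
        have hodd'' : Odd (orderOf (⟨_, hgK⟩ : K)) := by rwa [Subgroup.orderOf_mk]
        haveI := hT
        have e'' := (Subgroup.subgroupOfEquivOfLe hAK).trans e'
        have hkl : IsKleinFour ((T.map (MulAut.conj (c : G)).toMonoidHom).subgroupOf K) :=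
          ⟨by rw [Nat.card_congr e''.toEquiv, IsKleinFour.card_four],
            by rw [Monoid.exponent_eq_of_mulEquiv e'', IsKleinFour.exponent_two]⟩
        have hle := klein_le_of_normal (H := H) hkl
          (g := ⟨_, hgK⟩)
          (Subgroup.mem_normalizer_iff.mpr fun y => Subgroup.mem_normalizer_iff.mp hg' (y : G))
          (fun hcen => hgC (Subgroup.mem_centralizer_iff.mpr fun q hq => by
            have h1 := congrArg Subtype.val (Subgroup.mem_centralizer_iff.mp hcen
              (⟨_, hAK ⟨q, hq, rfl⟩⟩ : K) (show _ ∈ T.map (MulAut.conj (c : G)).toMonoidHom from ⟨q, hq, rfl⟩))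
            have h2 := congrArg (· * (c : G)) h1
            simpa [mul_assoc] using h2))
          hodd'' (mem_of_index_two hH hodd'')
        have hmem : ((d.x ^ (2 * k) * d.y : (S : Subgroup G)) : G) ∈ T.map (MulAut.conj (c : G)).toMonoidHom :=
          ⟨_, hi, by rw [← hc]; rfl⟩
        exact ⟨⟨_, hAK hmem⟩, hle (show _ ∈ (T.map (MulAut.conj (c : G)).toMonoidHom).subgroupOf K from hmem), rfl⟩
      rintro _ ⟨b, hb, rfl⟩
      obtain ⟨a, ha, hab⟩ := hall hb
      have hab' : (a : G) = (b : G) := hab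
      have hbK : (b : G) ∈ K := hab' ▸ a.2
      have e : a = (⟨(b : G), hbK⟩ : K) := Subtype.ext hab'
      rw [e] at ha
      exact ha
  · refine card_classes _ ![((d.z : (S : Subgroup G)) : G)] (fun i => ?_)
      (fun i j _ => Subsingleton.elim i j) fun t ht => ⟨0, ?_⟩
    · fin_cases i
      simp [orderOf_z]
    · rcases invol_cases S d ht with h | h
      · exact h
      · exact h.trans (y_conj_z S d hT hTS h₁)
  · refine card_classes _ ![((d.x ^ (2 * (d.M : ℤ)) : (S : Subgroup G)) : G),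
        ((d.x ^ (1 : ℤ) * d.y : (S : Subgroup G)) : G)] (fun i => ?_) (fun i j h => ?_) fun t ht => ?_
    · fin_cases i
      · show orderOf ((d.x ^ (2 * (d.M : ℤ)) : (S : Subgroup G)) : G) = 4
        rw [Subgroup.orderOf_coe, orderOf_zpow_quarter]
      · show orderOf ((d.x ^ (1 : ℤ) * d.y : (S : Subgroup G)) : G) = 4
        rw [Subgroup.orderOf_coe]
        simpa using orderOf_xy_odd d 0
    · fin_cases i <;> fin_cases j
      · rfl
      · exact absurd h hcb
      · exact absurd h.symm hcb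
      · rfl
    · rcases order_four_classes S d ht with h | h
      exacts [⟨0, h⟩, ⟨1, h⟩]

end Cfsg.Agent.S1206
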