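import Cfsg.Statements.S1207
import Cfsg.Agent.Lib.QuasiDihedralClasses
import Cfsg.Agent.Lib.Transfer
-- import your own Cfsg.Agent.* helpers here

set_option autoImplicit false
open Cfsg

namespace Cfsg.Agent.S1207

open CfsgLib.LocalFusion CfsgLib.QD

/-- Let G be a finite group with quasi-dihedral Sylow 2-subgroup S, T a Klein four-subgroup and Q a quaternion subgroup of order 8 of S, with |N_G(T) : C_G(T)| = 2 and |N_G(Q) : Q C_G(Q)| = 2. Then G has a normal 2-complement, exactly two classes of involutions and exactly two classes of elements of order 4. -/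
theorem result {G : Type*} [Group G] [Finite G] (S : Sylow 2 G) (hS : Cfsg.IsQuasiDihedral (S : Subgroup G)) (T : Subgroup G) (hT : IsKleinFour T) (hTS : T ≤ S) (Q : Subgroup G) (hQS : Q ≤ S) (eQ : Q ≃* QuaternionGroup 2) (h₁ : (Subgroup.centralizer (T : Set G)).relIndex (Subgroup.normalizer (T : Set G)) = 2) (h₂ : (Q ⊔ Subgroup.centralizer (Q : Set G)).relIndex (Subgroup.normalizer (Q : Set G)) = 2) : Cfsg.HasNormalPComplement 2 G ∧ Nat.card {C : ConjClasses G // ∃ t : G, orderOf t = 2 ∧ ConjClasses.mk t = C} = 2 ∧ Nat.card {C : ConjClasses G // ∃ t : G, orderOf t = 4 ∧ ConjClasses.mk t = C} = 2 := by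
  haveI : Fact (Nat.Prime 2) := ⟨Nat.prime_two⟩
  obtain ⟨n, -, hcard, d, -⟩ := exists_data hS
  have ctrl : ∀ x ∈ (S : Subgroup G), ∀ g : G, g * x * g⁻¹ ∈ (S : Subgroup G) →
      ∃ a ∈ (S : Subgroup G), a * x * a⁻¹ = g * x * g⁻¹ := by
    intro x hx g hg
    refine fusion_rel S hS (fun a b => ∃ s ∈ (S : Subgroup G), s * a * s⁻¹ = b)
      ⟨fun a => ⟨1, one_mem _, by simp⟩, fun {a b} ⟨s, hs, e⟩ => ⟨s⁻¹, inv_mem hs, by simp [← e, mul_assoc]⟩,
        fun {a b c} ⟨s, hs, e⟩ ⟨t, ht, e'⟩ => ⟨t * s, mul_mem ht hs, by simp [← e', ← e, mul_assoc]⟩⟩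
      (fun s hs a _ => ⟨s, hs, rfl⟩) ?_ ?_ hx hg
    · intro A hA hAk g hg a ha
      obtain ⟨t, ht, htx⟩ := klein_autFromSylow S hS hT hTS h₁ hAk hA g hg
      exact ⟨t, ht, (htx a ha).symm⟩
    · intro A hA eA g hg a ha
      obtain ⟨t, ht, htx⟩ := q8_autFromSylow S hS eQ hQS h₂ eA hA g hg
      exact ⟨t, ht, (htx a ha).symm⟩
  have sep : ∀ a b : (S : Subgroup G), a ∈ d.X → b ∉ d.X → ¬ IsConj (a : G) (b : G) := by
    intro a b ha hb h
    obtain ⟨g, hg⟩ := isConj_iff.mp h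
    obtain ⟨s, hs, e⟩ := ctrl a a.2 g (hg ▸ b.2)
    have e' : (⟨s, hs⟩ : (S : Subgroup G)) * a * (⟨s, hs⟩ : (S : Subgroup G))⁻¹ = b := Subtype.ext (e.trans hg)
    exact hb (e' ▸ (normal_X d).conj_mem a ha _)
  refine ⟨CfsgLib.Transfer.hasNormalPComplement_of_control S ctrl, ?_, ?_⟩
  · have hzy : ¬ IsConj ((d.z : (S : Subgroup G)) : G) ((d.y : (S : Subgroup G)) : G) :=
      sep _ _ (z_mem_X d) (y_not_mem d)
    refine card_classes _ ![((d.z : (S : Subgroup G)) : G), ((d.y : (S : Subgroup G)) : G)] (fun i => ?_)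
      (fun i j h => ?_) fun t ht => ?_
    · fin_cases i
      · simp [orderOf_z]
      · simp [d.hy]
    · fin_cases i <;> fin_cases j
      · rfl
      · exact absurd h hzy
      · exact absurd h.symm hzy
      · rfl
    · rcases invol_cases S d ht with h | h
      exacts [⟨0, h⟩, ⟨1, h⟩]
  · have hcb : ¬ IsConj ((d.x ^ (2 * (d.M : ℤ)) : (S : Subgroup G)) : G) ((d.x ^ (1 : ℤ) * d.y : (S : Subgroup G)) : G) :=
      sep _ _ (zpow_mem_X d _) (xy_not_mem d _)
    refine card_classes _ ![((d.x ^ (2 * (d.M : ℤ)) : (S : Subgroup G)) : G),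
        ((d.x ^ (1 : ℤ) * d.y : (S : Subgroup G)) : G)] (fun i => ?_) (fun i j h => ?_) fun t ht => ?_
    · fin_cases i
      · show orderOf ((d.x ^ (2 * (d.M : ℤ)) : (S : Subgroup G)) : G) = 4
        rw [Subgroup.orderOf_coe, orderOf_zpow_quarter]
      · show orderOf ((d.x ^ (1 : ℤ) * d.y : (S : Subgroup G)) : G) = 4
        rw [Subgroup.orderOf_coe]
        simpa using orderOf_xy_odd d 0
    · fin_cases i <;> fin_cases j
      · rfl
      · exact absurd h hcb
      · exact absurd h.symm hcb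
      · rfl
    · rcases order_four_classes S d ht with h | h
      exacts [⟨0, h⟩, ⟨1, h⟩]

end Cfsg.Agent.S1207
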