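import Cfsg.Statements.S3116
import Mathlib

set_option autoImplicit false
open Cfsg

namespace Cfsg.Agent.S3116

theorem aut_two_group {X : Type*} [Group X] [Finite X] (x : X) (e : ℕ) (hx : orderOf x = 2 ^ e)
    (hcard : Nat.card X = 2 ^ (e + 1)) (hout : ∀ g : X, g ∉ Subgroup.zpowers x → orderOf g ≠ 2 ^ e) :
    IsPGroup 2 (MulAut X) := by
  set C := Subgroup.zpowers x
  have hCi : C.index = 2 := by
    have h := C.card_mul_index
    rw [Nat.card_zpowers, hx, hcard, pow_succ] at h
    exact Nat.eq_of_mul_eq_mul_left (by positivity) h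
  intro α
  have hmem : ∀ β : MulAut X, β x ∈ C := fun β => by
    by_contra h
    exact hout _ h ((MulEquiv.orderOf_eq β x).trans hx)
  obtain ⟨j, hj⟩ := mem_powers_iff_mem_zpowers.mpr (hmem α)
  have hj' : x ^ j = α x := hj
  have hiter : ∀ i : ℕ, (α ^ i) x = x ^ (j ^ i) := by
    intro i
    induction i with
    | zero => simp
    | succ i ih => rw [pow_succ', MulAut.mul_apply, ih, map_pow, ← hj', ← pow_mul, pow_succ']
  set β := α ^ (2 ^ e) with hβ
  have hβx : β x = x := by
    rw [hβ, hiter]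
    rcases Nat.eq_zero_or_pos e with h0 | h0
    · have : x = 1 := orderOf_eq_one_iff.mp (by rw [hx, h0, pow_zero])
      rw [this, one_pow]
    have hodd : Nat.Coprime j (2 ^ e) := by
      refine Nat.Coprime.pow_right _ (Nat.coprime_comm.mp (Nat.prime_two.coprime_iff_not_dvd.mpr ?_))
      rintro ⟨t, rfl⟩
      have h1 : (α x) ^ (2 ^ (e - 1)) = 1 := by
        rw [← hj', ← pow_mul, show 2 * t * 2 ^ (e - 1) = 2 ^ e * t by
          rw [mul_comm 2 t, mul_assoc, ← pow_succ', show e - 1 + 1 = e by omega, mul_comm], pow_mul, ← hx, pow_orderOf_eq_one, one_pow]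
      have h2 := orderOf_dvd_of_pow_eq_one h1
      rw [MulEquiv.orderOf_eq, hx] at h2
      have := (Nat.pow_dvd_pow_iff_le_right (by norm_num : 1 < 2)).mp h2
      omega
    have h1 : j ^ 2 ^ e ≡ 1 [MOD 2 ^ e] := by
      have h := Nat.ModEq.pow_totient hodd
      have hd : (2 ^ e).totient ∣ 2 ^ e := by
        rw [Nat.totient_prime_pow Nat.prime_two h0]; exact Dvd.intro 2 (by rw [Nat.add_one_sub_one, mul_one, ← pow_succ]; congr 1; omega)
      obtain ⟨q, hq⟩ := hd
      calc j ^ 2 ^ e = (j ^ (2 ^ e).totient) ^ q := by rw [← pow_mul, ← hq]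
        _ ≡ 1 ^ q [MOD 2 ^ e] := h.pow q
        _ = 1 := one_pow q
    conv_rhs => rw [← pow_one x]
    rw [pow_eq_pow_iff_modEq, hx]; exact h1
  refine ⟨e + e, MulEquiv.ext fun y => ?_⟩
  rw [pow_add, pow_mul, ← hβ, MulAut.one_apply]
  by_cases hy : y ∈ C
  · obtain ⟨t, rfl⟩ := Subgroup.mem_zpowers_iff.mp hy
    have : ∀ i : ℕ, (β ^ i) x = x := by
      intro i; induction i with
      | zero => rfl
      | succ i ih => rw [pow_succ', MulAut.mul_apply, ih, hβx]
    rw [map_zpow, this]
  · have hβC : ∀ z ∈ C, β z = z := by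
      intro z hz
      obtain ⟨t, rfl⟩ := Subgroup.mem_zpowers_iff.mp hz
      rw [map_zpow, hβx]
    have hβy : β y ∉ C := fun h => hy (by
      have h2 : β (β y) = β y := hβC _ h
      rw [β.injective h2] at h; exact h)
    set c := y⁻¹ * β y with hc
    have hcC : c ∈ C := by
      rw [Subgroup.mul_mem_iff_of_index_two hCi, inv_mem_iff]
      exact ⟨fun h => absurd h hy, fun h => absurd h hβy⟩
    have : ∀ i : ℕ, (β ^ i) y = y * c ^ i := by
      intro i; induction i with
      | zero => simp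
      | succ i ih => rw [pow_succ', MulAut.mul_apply, ih, map_mul, map_pow, hβC c hcC, pow_succ', hc, ← mul_assoc, mul_inv_cancel_left]
    obtain ⟨t, ht⟩ := Subgroup.mem_zpowers_iff.mp hcC
    rw [this, ← ht, ← zpow_natCast, ← zpow_mul, mul_comm, zpow_mul, zpow_natCast, ← hx, pow_orderOf_eq_one, one_zpow, mul_one]

/-- The automorphism group of a dihedral 2-group of order at least 8, or of a quasi-dihedral (semidihedral) 2-group of order at least 16, is a 2-group. -/
theorem result {X : Type*} [Group X] [Finite X] (h2 : IsPGroup 2 X)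
    (h : (∃ n : ℕ, 4 ≤ n ∧ Nonempty (X ≃* DihedralGroup n)) ∨ Cfsg.IsQuasiDihedral X) : IsPGroup 2 (MulAut X) := by
  rcases h with ⟨n, hn, ⟨φ⟩⟩ | ⟨n, hn, hcard, x, y, hx, hy, hxy⟩
  · haveI : NeZero n := ⟨by omega⟩
    obtain ⟨k, hk⟩ := h2.exists_card_eq
    rw [Nat.card_congr φ.toEquiv, DihedralGroup.nat_card] at hk
    have hk0 : k ≠ 0 := by rintro rfl; simp at hk
    obtain ⟨e, rfl⟩ := Nat.exists_eq_succ_of_ne_zero hk0
    have hne : n = 2 ^ e := by rw [Nat.succ_eq_add_one, pow_succ] at hk; omega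
    refine aut_two_group (φ.symm (DihedralGroup.r 1)) e ?_ ?_ fun g hg => ?_
    · rw [MulEquiv.orderOf_eq, DihedralGroup.orderOf_r_one, hne]
    · rw [Nat.card_congr φ.toEquiv, DihedralGroup.nat_card, hne, pow_succ']
    · intro hord
      cases hφ : φ g with
      | r i =>
        apply hg
        refine Subgroup.mem_zpowers_iff.mpr ⟨(i.val : ℤ), φ.injective ?_⟩
        rw [zpow_natCast, map_pow, φ.apply_symm_apply, DihedralGroup.r_one_pow, hφ, ZMod.natCast_zmod_val]
      | sr i =>
        rw [← MulEquiv.orderOf_eq φ, hφ, DihedralGroup.orderOf_sr, ← hne] at hord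
        omega
  · have hpow : ∀ i : ℕ, (y * x ^ i) ^ 4 = 1 := by
      intro i
      have hy2 : y * y = 1 := by rw [← sq, ← hy, pow_orderOf_eq_one]
      have hyi : y⁻¹ = y := inv_eq_of_mul_eq_one_right hy2
      have h1 : y * x ^ i * y = x ^ ((2 ^ (n - 1) - 1) * i) := by
        conv_lhs => enter [2]; rw [← hyi]
        rw [← conj_pow, hxy, ← pow_mul]
      have hsq : (y * x ^ i) ^ 2 = x ^ (2 ^ (n - 1) * i) := by
        rw [sq, ← mul_assoc, h1, ← pow_add]
        congr 1
        have : 1 ≤ 2 ^ (n - 1) := Nat.one_le_two_pow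
        obtain ⟨t, ht⟩ := Nat.exists_eq_add_of_le' this
        rw [ht, Nat.add_sub_cancel, add_mul, one_mul]
      rw [show (4 : ℕ) = 2 * 2 from rfl, pow_mul, hsq, ← pow_mul,
        show 2 ^ (n - 1) * i * 2 = orderOf x * i by
          rw [hx]; rw [show (2:ℕ) ^ n = 2 ^ (n - 1) * 2 by rw [← pow_succ]; congr 1; omega]; ring,
        pow_mul, pow_orderOf_eq_one, one_pow]
    have h8 : 2 ^ 3 ≤ 2 ^ n := Nat.pow_le_pow_right (by norm_num) hn
    have hyx : y ∉ Subgroup.zpowers x := by
      intro h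
      obtain ⟨t, rfl⟩ := Subgroup.mem_zpowers_iff.mp h
      have h1 : x ^ 1 = x ^ (2 ^ (n - 1) - 1) := by
        rw [pow_one, ← hxy, (Commute.zpow_self x t).eq, mul_inv_cancel_right]
      rw [pow_eq_pow_iff_modEq, hx] at h1
      have h4 : 2 ^ 2 ≤ 2 ^ (n - 1) := Nat.pow_le_pow_right (by norm_num) (by omega)
      have h5 : 2 ^ n = 2 * 2 ^ (n - 1) := by rw [← pow_succ']; congr 1; omega
      rw [Nat.ModEq, Nat.mod_eq_of_lt (by omega), Nat.mod_eq_of_lt (by omega)] at h1
      omega
    refine aut_two_group x n hx hcard fun g hg hord => ?_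
    have hi : (Subgroup.zpowers x).index = 2 := by
      have h := (Subgroup.zpowers x).card_mul_index
      rw [Nat.card_zpowers, hx, hcard, pow_succ] at h
      exact Nat.eq_of_mul_eq_mul_left (by positivity) h
    have hm : y⁻¹ * g ∈ Subgroup.zpowers x := by
      rw [Subgroup.mul_mem_iff_of_index_two hi, inv_mem_iff]
      exact ⟨fun h => absurd h hyx, fun h => absurd h hg⟩
    obtain ⟨i, hi'⟩ := mem_powers_iff_mem_zpowers.mpr hm
    have hg' : g = y * x ^ i := by rw [show x ^ i = y⁻¹ * g from hi']; group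
    have h4 := orderOf_dvd_of_pow_eq_one (hpow i)
    rw [← hg', hord] at h4
    have := Nat.le_of_dvd (by norm_num) h4
    omega

end Cfsg.Agent.S3116
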