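import Cfsg.Statements.S0764
import Mathlib

set_option autoImplicit false
open Cfsg
open scoped Matrix

namespace Cfsg.Agent.S0764



/-- Symplectic transvections are isometries: for every vector v and scalar c the matrix of x ↦ x + c f(x, v) v lies in the symplectic group. -/
theorem result {F : Type*} [Field F] (m : ℕ) (v : Fin m ⊕ Fin m → F) (c : F) : Cfsg.sympTransvection m v c ∈ Matrix.symplecticGroup (Fin m) F := by
  classical
  rw [SymplecticGroup.mem_iff']
  unfold Cfsg.sympTransvection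
  set J := Matrix.J (Fin m) F with hJ
  have hJT : J.transpose = -J := Matrix.J_transpose _ _
  have hvJv : v ⬝ᵥ (J *ᵥ v) = 0 := by
    simp [hJ, Matrix.J, dotProduct, Fintype.sum_sum_type, Matrix.fromBlocks_mulVec, Matrix.neg_mulVec]
    rw [neg_add_eq_zero]
    exact Finset.sum_congr rfl fun i _ => mul_comm _ _
  have hvJ : v ᵥ* J = -(J *ᵥ v) := by
    rw [← Matrix.mulVec_transpose, hJT, Matrix.neg_mulVec]
  have h1 : J * Matrix.vecMulVec v (J *ᵥ v) = Matrix.vecMulVec (J *ᵥ v) (J *ᵥ v) :=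
    Matrix.mul_vecMulVec _ _ _
  have h2 : Matrix.vecMulVec (J *ᵥ v) v * J = - Matrix.vecMulVec (J *ᵥ v) (J *ᵥ v) := by
    rw [Matrix.vecMulVec_mul, hvJ, Matrix.vecMulVec_neg]
  have h3 : Matrix.vecMulVec (J *ᵥ v) (J *ᵥ v) * Matrix.vecMulVec v (J *ᵥ v) = 0 := by
    rw [Matrix.vecMulVec_mul_vecMulVec, dotProduct_comm, hvJv, zero_smul, Matrix.vecMulVec_zero]
  rw [Matrix.transpose_add, Matrix.transpose_one, Matrix.transpose_smul, Matrix.transpose_vecMulVec,
    add_mul, one_mul, Matrix.smul_mul, h2, mul_add, mul_one, Matrix.mul_smul, add_mul, h1,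
    Matrix.smul_mul, Matrix.neg_mul, h3]
  simp

end Cfsg.Agent.S0764
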