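import Cfsg.Statements.S0261
import Mathlib
import Cfsg.Agent.Lib.SL2Orders
import Cfsg.Agent.Lib.QuatHom
import Cfsg.Agent.Lib.UniqueSubgroup

set_option autoImplicit false
open Cfsg

namespace Cfsg.Agent.S0261



/-- For q odd, the Sylow 2-subgroups of SL_2(q) are generalised quaternion. -/
theorem result {F : Type*} [Field F] [Fintype F] (hF : Odd (Fintype.card F)) (P : Sylow 2 (Matrix.SpecialLinearGroup (Fin 2) F)) : ∃ k : ℕ, 1 ≤ k ∧ Nonempty ((P : Subgroup (Matrix.SpecialLinearGroup (Fin 2) F)) ≃* QuaternionGroup (2 ^ k)) := by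
  classical
  have h2 : (2 : F) ≠ 0 := CfsgLib.SL2Orders.two_ne_zero_of_odd hF
  haveI : Fact (Nat.Prime 2) := ⟨Nat.prime_two⟩
  obtain ⟨a, b, hab⟩ := FiniteField.exists_root_sum_quadratic
    (f := (Polynomial.X ^ 2 : Polynomial F)) (g := (Polynomial.X ^ 2 + Polynomial.C 1 : Polynomial F))
    (Polynomial.degree_X_pow 2) (Polynomial.degree_X_pow_add_C (by norm_num) 1) (Nat.odd_iff.mp hF)
  simp at hab
  let i : Matrix.SpecialLinearGroup (Fin 2) F := ⟨!![0, 1; -1, 0], by simp [Matrix.det_fin_two]⟩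
  let j : Matrix.SpecialLinearGroup (Fin 2) F :=
    ⟨!![a, b; b, -a], by simp [Matrix.det_fin_two]; linear_combination -hab⟩
  have hii : i * i = -1 := by
    apply Subtype.ext
    show (!![0, 1; -1, 0] : Matrix (Fin 2) (Fin 2) F) * !![0, 1; -1, 0] = -1
    ext r s
    fin_cases r <;> fin_cases s <;> simp
  have hjj : j * j = -1 := by
    apply Subtype.ext
    show (!![a, b; b, -a] : Matrix (Fin 2) (Fin 2) F) * !![a, b; b, -a] = -1
    ext r s
    fin_cases r <;> fin_cases s <;> simp <;>
      first | ring1 | linear_combination hab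
  have hji : j * i = -(i * j) := by
    apply Subtype.ext
    show (!![a, b; b, -a] : Matrix (Fin 2) (Fin 2) F) * !![0, 1; -1, 0] =
      -((!![0, 1; -1, 0] : Matrix (Fin 2) (Fin 2) F) * !![a, b; b, -a])
    ext r s
    fin_cases r <;> fin_cases s <;> simp
  have hi4 : i ^ (2 * 2) = 1 := by rw [pow_mul, pow_two i, hii, neg_one_sq]
  have hb' : j * j = i ^ 2 := by rw [pow_two, hii, hjj]
  have hinv : i⁻¹ = -i := inv_eq_of_mul_eq_one_right (by rw [mul_neg, hii, neg_neg])
  have hba : j * i * j⁻¹ = i⁻¹ := by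
    rw [mul_inv_eq_iff_eq_mul, hji, hinv, neg_mul]
  let K := (CfsgLib.Quat.hom i j hi4 hb' hba).range
  have hK : IsPGroup 2 K := by
    have : IsPGroup 2 (QuaternionGroup 2) := IsPGroup.of_card (n := 3) (by
      rw [Nat.card_eq_fintype_card, QuaternionGroup.card]; rfl)
    exact this.of_surjective _ (CfsgLib.Quat.hom i j hi4 hb' hba).rangeRestrict_surjective
  have hiK : i ∈ K ∧ j ∈ K := by
    show i ∈ (CfsgLib.Quat.hom i j hi4 hb' hba).range ∧ j ∈ (CfsgLib.Quat.hom i j hi4 hb' hba).range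
    rw [CfsgLib.Quat.hom_range hi4 hb' hba]
    exact ⟨Subgroup.subset_closure (Or.inl rfl), Subgroup.subset_closure (Or.inr rfl)⟩
  have hnc : ¬ IsCyclic (P : Subgroup (Matrix.SpecialLinearGroup (Fin 2) F)) := by
    intro hc
    obtain ⟨Q, hQ⟩ := hK.exists_le_sylow
    haveI : IsCyclic (Q : Subgroup (Matrix.SpecialLinearGroup (Fin 2) F)) :=
      (Sylow.equiv P Q).isCyclic.mp hc
    letI := IsCyclic.commGroup (α := (Q : Subgroup (Matrix.SpecialLinearGroup (Fin 2) F)))
    have hcomm := congrArg Subtype.val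
      (mul_comm (⟨i, hQ hiK.1⟩ : (Q : Subgroup (Matrix.SpecialLinearGroup (Fin 2) F))) ⟨j, hQ hiK.2⟩)
    change i * j = j * i at hcomm
    rw [hji] at hcomm
    have h1 : (i * j).1 0 0 = -((i * j).1 0 0) := congrFun (congrFun (congrArg Subtype.val hcomm) 0) 0
    have h2' : (i * j).1 0 1 = -((i * j).1 0 1) := congrFun (congrFun (congrArg Subtype.val hcomm) 0) 1
    rw [show (i * j).1 = (!![0, 1; -1, 0] : Matrix (Fin 2) (Fin 2) F) * !![a, b; b, -a] from rfl] at h1 h2'
    simp at h1 h2'
    have ha : a = 0 := by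
      have : 2 * a = 0 := by first | linear_combination h2' | linear_combination -h2'
      exact (mul_eq_zero.mp this).resolve_left h2
    have hb : b = 0 := by
      have : 2 * b = 0 := by first | linear_combination h1 | linear_combination -h1
      exact (mul_eq_zero.mp this).resolve_left h2
    rw [ha, hb] at hab
    simp at hab
  have hne : (-1 : Matrix.SpecialLinearGroup (Fin 2) F) ≠ 1 := by
    intro h
    have := congrFun (congrFun (congrArg Subtype.val h) 0) 0
    simp at this
    exact h2 (by linear_combination -this)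
  have hnt : Nontrivial (P : Subgroup (Matrix.SpecialLinearGroup (Fin 2) F)) := by
    rcases subsingleton_or_nontrivial (P : Subgroup (Matrix.SpecialLinearGroup (Fin 2) F)) with h | h
    · exact absurd isCyclic_of_subsingleton hnc
    · exact h
  obtain ⟨k, hk⟩ := P.2.exists_card_eq
  have hk1 : 2 ∣ Nat.card (P : Subgroup (Matrix.SpecialLinearGroup (Fin 2) F)) := by
    have hlt := Finite.one_lt_card (α := (P : Subgroup (Matrix.SpecialLinearGroup (Fin 2) F)))
    rw [hk] at hlt ⊢
    exact dvd_pow_self 2 (fun h => by simp [h] at hlt)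
  obtain ⟨z, hz⟩ := exists_prime_orderOf_dvd_card' 2 hk1
  have hinvol : ∀ x : (P : Subgroup (Matrix.SpecialLinearGroup (Fin 2) F)), x ^ 2 = 1 →
      x = 1 ∨ (x : Matrix.SpecialLinearGroup (Fin 2) F) = -1 := by
    intro x hx
    rcases CfsgLib.SL2Orders.eq_one_or_neg_one_of_sq h2 x.1 (by
      rw [← pow_two]; exact congrArg Subtype.val hx) with h | h
    · exact Or.inl (Subtype.ext h)
    · exact Or.inr h
  have hz1 : z ≠ 1 := fun h => by rw [h, orderOf_one] at hz; omega
  have hzv := (hinvol z (orderOf_dvd_iff_pow_eq_one.mp (dvd_of_eq hz))).resolve_left hz1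
  rcases CfsgLib.UniqueSubgroup.cyclic_or_quaternion P.2 hz (fun x hx => by
    rcases hinvol x hx with h | h
    · rw [h]; exact one_mem _
    · rw [show x = z from Subtype.ext (h.trans hzv.symm)]; exact Subgroup.mem_zpowers z) with h | ⟨-, k, hk, he⟩
  · exact absurd h hnc
  · exact ⟨k, hk, he⟩

end Cfsg.Agent.S0261
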