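import Cfsg.Statements.S0991
import Mathlib

set_option autoImplicit false
open Cfsg

namespace Cfsg.Agent.S0991



/-- Embedding Theorem: if a non-abelian finite simple group has a proper subgroup of index n, then it is isomorphic to a subgroup of the alternating group of degree n. -/
theorem result {G : Type*} [Group G] [Finite G] [IsSimpleGroup G] (hG : ¬ IsMulCommutative G) (H : Subgroup G) (hH : H ≠ ⊤) : ∃ f : G →* ↥(alternatingGroup (Fin H.index)), Function.Injective f := by
  classical
  let φ := MulAction.toPermHom G (G ⧸ H)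
  have hφ : φ.ker = ⊥ := by
    rcases (Subgroup.Normal.eq_bot_or_eq_top (inferInstance : φ.ker.Normal)) with h | h
    · exact h
    · exfalso; apply hH
      rw [← Subgroup.normalCore_eq_ker] at h
      exact top_le_iff.mp (h.ge.trans H.normalCore_le)
  have e : G ⧸ H ≃ Fin H.index := Finite.equivFinOfCardEq H.index_eq_card.symm
  let ψ : G →* Equiv.Perm (Fin H.index) := (Equiv.permCongrHom e).toMonoidHom.comp φ
  have hψ : Function.Injective ψ := (Equiv.permCongrHom e).injective.comp ((MonoidHom.ker_eq_bot_iff φ).mp hφ)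
  have hsign : ∀ g, Equiv.Perm.sign (ψ g) = 1 := by
    let s : G →* ℤˣ := Equiv.Perm.sign.comp ψ
    rcases (Subgroup.Normal.eq_bot_or_eq_top (inferInstance : s.ker.Normal)) with h | h
    · exfalso; apply hG
      exact ⟨⟨fun a b => (MonoidHom.ker_eq_bot_iff s).mp h (by rw [map_mul, map_mul, mul_comm])⟩⟩
    · intro g; exact MonoidHom.mem_ker.mp (h.symm ▸ Subgroup.mem_top g : g ∈ s.ker)
  exact ⟨ψ.codRestrict _ hsign, fun a b hab => hψ (congrArg Subtype.val hab)⟩

end Cfsg.Agent.S0991
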