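import Cfsg.Statements.S0494
import Mathlib
import Cfsg.Agent.Lib.SmallOrder
import Cfsg.Agent.S0991

set_option autoImplicit false
open Cfsg

namespace Cfsg.Agent.S0494

open CfsgLib.SmallOrder

/-- A simple group of order 60 is isomorphic to the alternating group of degree 5. -/
theorem result {G : Type*} [Group G] [Finite G] [IsSimpleGroup G]
    (h : Nat.card G = 60) : Nonempty (G ≃* alternatingGroup (Fin 5)) := by
  haveI : Fact (Nat.Prime 2) := ⟨Nat.prime_two⟩
  obtain ⟨P⟩ : Nonempty (Sylow 2 G) := inferInstance
  have hG : ¬ IsMulCommutative G := by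
    intro hc
    letI : CommGroup G := { (inferInstance : Group G) with mul_comm := fun a b => hc.is_comm.comm a b }
    have := IsSimpleGroup.prime_card (α := G)
    rw [h] at this
    exact absurd this (by norm_num)
  have hP : Nat.card P = 2 ^ 2 := card_sylow_eq P (by rw [h]; norm_num) (by rw [h]; norm_num)
  have hPne : (P : Subgroup G) ≠ ⊥ := fun e => by
    change Nat.card (P : Subgroup G) = _ at hP
    rw [e, Subgroup.card_bot] at hP
    norm_num at hP
  have hn := card_sylow_mem_filter P (n := 15) hP (by rw [h]; norm_num) (by norm_num)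
  have hd : (Nat.divisors 15).filter (fun d => d % 2 = 1) = {1, 3, 5, 15} := by decide
  rw [hd] at hn
  simp only [Finset.mem_insert, Finset.mem_singleton] at hn
  have hN := card_normalizer_mul_card_sylow P
  have hidx : (Subgroup.normalizer (P : Set G)).index = Nat.card (Sylow 2 G) :=
    P.card_eq_index_normalizer.symm
  rcases hn with e | e | e | e
  · exact absurd e (card_sylow_ne_one P (by rw [hP]; norm_num) (by rw [h, hP]; norm_num))
  · exfalso
    have hne : Subgroup.normalizer (P : Set G) ≠ ⊤ := fun t => by
      rw [t, Subgroup.index_top, e] at hidx; norm_num at hidx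
    have := card_dvd_factorial_index hne
    rw [hidx, e, h] at this
    exact absurd this (by decide)
  · have hne : Subgroup.normalizer (P : Set G) ≠ ⊤ := fun t => by
      rw [t, Subgroup.index_top, e] at hidx; norm_num at hidx
    have h5 := Cfsg.Agent.S0991.result hG _ hne
    rw [hidx, e] at h5
    obtain ⟨f, hf⟩ := h5
    have hcard : Nat.card G = Nat.card (alternatingGroup (Fin 5)) := by
      rw [h, nat_card_alternatingGroup, Nat.card_fin]; rfl
    exact ⟨MulEquiv.ofBijective f ((Nat.bijective_iff_injective_and_card f).mpr ⟨hf, hcard⟩)⟩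
  · exfalso
    rw [e, h] at hN
    have hN4 : Nat.card (Subgroup.normalizer (P : Set G)) = 4 := by omega
    have hle : (P : Subgroup G) = Subgroup.normalizer (P : Set G) :=
      Subgroup.eq_of_le_of_card_ge Subgroup.le_normalizer (by
        rw [hN4]; change 4 ≤ Nat.card P; rw [hP]; norm_num)
    have hab : ∀ a b : (P : Subgroup G), a * b = b * a := by
      intro a b
      exact (IsPGroup.isMulCommutative_of_card_eq_prime_sq (p := 2) hP).is_comm.comm a b
    have := card_eq_sylow_of_normalizer_le_centralizer P (by
      intro x hx y hy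
      rw [← hle] at hx
      exact congrArg Subtype.val (hab ⟨y, hy⟩ ⟨x, hx⟩)) hPne
    rw [h, hP] at this
    norm_num at this

end Cfsg.Agent.S0494
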