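import Cfsg.Statements.S0495
import Mathlib
import Cfsg.Agent.Lib.SmallSimple.Order168

set_option autoImplicit false
open Cfsg

namespace Cfsg.Agent.S0495



/-- A simple group of order 168 is isomorphic to the projective special linear group of dimension 2 over the field with
7 elements. -/
theorem result {G : Type*} [Group G] [Finite G] [IsSimpleGroup G]
    (h : Nat.card G = 168) {F : Type*} [Field F] [Fintype F] (hF : Fintype.card F = 7) :
    Nonempty (G ≃* Matrix.ProjectiveSpecialLinearGroup (Fin 2) F) := by
  haveI : IsSimpleGroup (Matrix.ProjectiveSpecialLinearGroup (Fin 2) F) :=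
    Matrix.ProjectiveSpecialLinearGroup.rank_two_simple (by rw [Nat.card_eq_fintype_card, hF]; norm_num)
  have h' := CfsgLib.SLCard.gcd_mul_card_PSL (F := F) (n := 2) (by norm_num)
  rw [CfsgLib.SLCard.card_SL_two, hF] at h'
  have h'' : 2 * Nat.card (Matrix.ProjectiveSpecialLinearGroup (Fin 2) F) = 336 := h'
  exact CfsgLib.Order168.nonempty_mulEquiv h (by omega)

end Cfsg.Agent.S0495
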