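import Cfsg.Statements.S3701
import Cfsg.Agent.Lib.ThreeCC.Cube

set_option autoImplicit false
open Cfsg

namespace Cfsg.Agent.S3701

open CfsgLib.ThreeCC

/-- The factor of a triple at a position. -/
def comp (k : K27) (i : Fin 3) : D3 := if i = 0 then k.1.1 else if i = 1 then k.1.2.1 else k.1.2.2

theorem comp_mul (k l : K27) (i : Fin 3) : comp (k * l) i = comp k i * comp l i := by
  fin_cases i <;> rfl

/-- The model acting on nine points. -/
def theta : K27 →* Equiv.Perm (Fin 9) where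
  toFun k := (finProdFinEquiv (m := 3) (n := 3)).permCongr (Equiv.prodCongrRight fun i => pointHom (comp k i))
  map_one' := by decide +kernel
  map_mul' k l := by
    ext x
    simp [comp_mul, Equiv.prodCongrRight]

def B3 : K27 := ⟨(DihedralGroup.sr 2, DihedralGroup.sr 2, 1), by decide +kernel⟩
def B2 : K27 := ⟨(DihedralGroup.sr 2, 1, DihedralGroup.sr 2), by decide +kernel⟩

theorem theta_vals : theta U1 = Equiv.swap (0 : Fin 9) 1 * Equiv.swap 1 2 ∧
    theta U2 = Equiv.swap (3 : Fin 9) 4 * Equiv.swap 4 5 ∧ theta U3 = Equiv.swap (6 : Fin 9) 7 * Equiv.swap 7 8 ∧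
    theta B3 = Equiv.swap (0 : Fin 9) 1 * Equiv.swap 3 4 ∧ theta B2 = Equiv.swap (0 : Fin 9) 1 * Equiv.swap 6 7 := by
  decide +kernel

theorem theta_ker : ∀ k, theta k = 1 → k = 1 := by decide +kernel

theorem gen_full : ∀ g : K27, ∃ i j l : Fin 3, ∃ e f : Fin 2,
    g = U1 ^ i.1 * U2 ^ j.1 * U3 ^ l.1 * B3 ^ e.1 * B2 ^ f.1 := by decide +kernel

theorem three_comm : ∀ i j l i' j' l' : Fin 3,
    (U1 ^ i.1 * U2 ^ j.1 * U3 ^ l.1) * (U1 ^ i'.1 * U2 ^ j'.1 * U3 ^ l'.1) =
    (U1 ^ i'.1 * U2 ^ j'.1 * U3 ^ l'.1) * (U1 ^ i.1 * U2 ^ j.1 * U3 ^ l.1) := by decide +kernel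

theorem cent_three : ∀ k : K27, k * U1 = U1 * k → k * U2 = U2 * k → k * U3 = U3 * k → k ^ 3 = 1 := by
  decide +kernel

theorem theta_range : theta.range = Subgroup.closure ({Equiv.swap (0 : Fin 9) 1 * Equiv.swap 1 2, Equiv.swap (3 : Fin 9) 4 * Equiv.swap 4 5, Equiv.swap (6 : Fin 9) 7 * Equiv.swap 7 8,
        Equiv.swap (0 : Fin 9) 1 * Equiv.swap 3 4, Equiv.swap (0 : Fin 9) 1 * Equiv.swap 6 7} : Set (Equiv.Perm (Fin 9))) := by
  obtain ⟨e1, e2, e3, e4, e5⟩ := theta_vals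
  rw [← e1, ← e2, ← e3, ← e4, ← e5]
  refine le_antisymm ?_ ((Subgroup.closure_le _).mpr ?_)
  · rintro _ ⟨g, rfl⟩
    obtain ⟨i, j, l, e, f, rfl⟩ := gen_full g
    simp only [map_mul, map_pow]
    refine mul_mem (mul_mem (mul_mem (mul_mem ?_ ?_) ?_) ?_) ?_ <;>
      exact pow_mem (Subgroup.subset_closure (by simp)) _
  · rintro x (rfl | rfl | rfl | rfl | rfl) <;> exact ⟨_, rfl⟩

/-- Let H₀ ≤ Sym(9) be generated by the 3-cycles (1 2 3), (4 5 6), (7 8 9) and the involutions (1 2)(4 5), (1 2)(7 8) (a group of order 108, elementary abelian of order 27 extended by a four-group). Let G be a finite group with a subgroup H ≅ H₀, and T ≤ H of order 27 (a Sylow 3-subgroup of H) with N_G(T) = H and C_G(t) ≤ H for every t ≠ 1 in T. Then G = H. -/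
theorem result {G : Type*} [Group G] [Finite G] (H : Subgroup G)
    (hH : Nonempty (↥H ≃* ↥(Subgroup.closure ({Equiv.swap (0 : Fin 9) 1 * Equiv.swap 1 2, Equiv.swap (3 : Fin 9) 4 * Equiv.swap 4 5, Equiv.swap (6 : Fin 9) 7 * Equiv.swap 7 8,
        Equiv.swap (0 : Fin 9) 1 * Equiv.swap 3 4, Equiv.swap (0 : Fin 9) 1 * Equiv.swap 6 7} : Set (Equiv.Perm (Fin 9))))))
    (T : Subgroup G) (hTH : T ≤ H) (hT : Nat.card T = 27) (hN : Subgroup.normalizer (T : Set G) = H)
    (hC : ∀ t ∈ T, t ≠ 1 → Subgroup.centralizer ({t} : Set G) ≤ H) : H = ⊤ := by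
  classical
  haveI : Fact (Nat.Prime 3) := ⟨Nat.prime_three⟩
  obtain ⟨e⟩ := hH
  rw [← theta_range] at e
  let eK : K27 ≃* H :=
    (MonoidHom.ofInjective ((injective_iff_map_eq_one theta).mpr theta_ker)).trans e.symm
  let ι : K27 →* G := H.subtype.comp eK.toMonoidHom
  have hι : Function.Injective ι := H.subtype_injective.comp eK.injective
  have hιH : ∀ k, ι k ∈ H := fun k => (eK k).2
  have hHι : ∀ x ∈ H, ∃ k, ι k = x := fun x hx =>
    ⟨eK.symm ⟨x, hx⟩, congrArg Subtype.val (eK.apply_symm_apply ⟨x, hx⟩)⟩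
  have hH108 : Nat.card H = 108 := by
    rw [← Nat.card_congr eK.toEquiv, Nat.card_eq_fintype_card, k27_card]
  have hTP : IsPGroup 3 T := IsPGroup.of_card (n := 3) (by rw [hT]; norm_num)
  have hmem : ∀ x ∈ H, IsPGroup 3 (Subgroup.zpowers x) → x ∈ T := fun x hx hp => by
    have hsup : IsPGroup 3 (Subgroup.zpowers x ⊔ T : Subgroup G) :=
      hp.to_sup_of_normal_right' hTP (by rw [hN]; exact Subgroup.zpowers_le.mpr hx)
    obtain ⟨n, hn⟩ := hsup.exists_card_eq
    have hle : Subgroup.zpowers x ⊔ T ≤ H := sup_le (Subgroup.zpowers_le.mpr hx) hTH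
    have hd : 3 ^ n ∣ 108 := hn ▸ hH108 ▸ Subgroup.card_dvd_of_le hle
    have hn3 : n ≤ 3 := by
      by_contra h
      exact absurd ((pow_dvd_pow 3 (show 4 ≤ n by omega)).trans hd) (by norm_num)
    rw [Subgroup.eq_of_le_of_card_ge (le_sup_right : T ≤ Subgroup.zpowers x ⊔ T)
      (by rw [hn, hT]; exact Nat.pow_le_pow_right (by norm_num) hn3)]
    exact Subgroup.mem_sup_left (Subgroup.mem_zpowers x)
  have hexp : ∀ t ∈ T, t ^ 3 = 1 := fun t ht => by
    obtain ⟨k, rfl⟩ := hHι t (hTH ht)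
    have h1 : ι k ^ 6 = 1 := by rw [← map_pow, k27_pow_six, map_one]
    have h2 : orderOf (ι k) ∣ 27 := hT ▸ Subgroup.orderOf_dvd_natCard T ht
    have h3 := Nat.dvd_gcd h2 (orderOf_dvd_of_pow_eq_one h1)
    exact orderOf_dvd_iff_pow_eq_one.mp h3
  have hU : ∀ k : K27, k ^ 3 = 1 → ι k ∈ T := fun k hk => hmem _ (hιH k) (by
    rintro ⟨y, m, rfl⟩
    refine ⟨1, Subtype.ext ?_⟩
    show (ι k ^ m) ^ 3 ^ 1 = 1
    rw [pow_one, ← zpow_natCast, ← zpow_mul, mul_comm, zpow_mul, zpow_natCast, ← map_pow, hk, map_one, one_zpow])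
  obtain ⟨P, hP⟩ := hTP.exists_le_sylow
  have hPT : (P : Subgroup G) = T := by
    refine le_antisymm ?_ hP
    by_contra hle
    haveI : Group.IsNilpotent (P : Subgroup G) := P.2.isNilpotent
    have hlt : T.subgroupOf (P : Subgroup G) < ⊤ :=
      lt_top_iff_ne_top.mpr fun h => hle (Subgroup.subgroupOf_eq_top.mp h)
    obtain ⟨x, hxn, hxT⟩ := SetLike.exists_of_lt (Group.normalizerCondition_of_isNilpotent _ hlt)
    refine hxT (hmem (x : G) ?_ (P.2.to_le (Subgroup.zpowers_le.mpr x.2)))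
    rw [← hN, Subgroup.mem_normalizer_iff]
    intro y
    constructor
    · intro hy
      exact (Subgroup.mem_normalizer_iff.mp hxn ⟨y, hP hy⟩).mp hy
    · intro hy
      have hyP : y ∈ (P : Subgroup G) := by
        have := mul_mem (mul_mem (inv_mem x.2) (hP hy)) x.2
        simpa [mul_assoc] using this
      exact (Subgroup.mem_normalizer_iff.mp hxn ⟨y, hyP⟩).mpr hy
  obtain ⟨g1, g2, g3, -⟩ := k27_misc
  let d : Setting G :=
    { T := P
      ab := fun s hs t ht => by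
        rw [hPT] at hs ht
        obtain ⟨a, rfl⟩ := hHι s (hTH hs)
        obtain ⟨b, rfl⟩ := hHι t (hTH ht)
        obtain ⟨i, j, l, rfl⟩ := k27_three a (hι (by rw [map_pow, hexp _ hs, map_one]))
        obtain ⟨i', j', l', rfl⟩ := k27_three b (hι (by rw [map_pow, hexp _ ht, map_one]))
        rw [← map_mul, ← map_mul, three_comm]
      exp := fun t ht => hexp t (hPT ▸ ht)
      self := fun x hx => by
        rw [hPT] at hx ⊢
        have hne : U1 ≠ 1 := by decide +kernel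
        have hxH : x ∈ H := hC _ (hU U1 g1) (fun e => hne (hι (e.trans (map_one ι).symm)))
          (Subgroup.mem_centralizer_singleton_iff.mpr (Subgroup.mem_centralizer_iff.mp hx _ (hU U1 g1)).symm)
        obtain ⟨k, rfl⟩ := hHι x hxH
        have hc : ∀ u : K27, u ^ 3 = 1 → k * u = u * k := fun u hu => hι (by
          rw [map_mul, map_mul]; exact (Subgroup.mem_centralizer_iff.mp hx _ (hU u hu)).symm)
        exact hU k (cent_three k (hc U1 g1) (hc U2 g2) (hc U3 g3))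
      cent := fun t ht ht1 => by
        rw [hPT, hN]
        exact hC t (hPT ▸ ht) ht1 }
  have hrange : ι.range = Subgroup.normalizer ((d.T : Subgroup G) : Set G) := by
    show ι.range = Subgroup.normalizer ((P : Subgroup G) : Set G)
    rw [hPT, hN]
    exact le_antisymm (by rintro _ ⟨k, rfl⟩; exact hιH k) fun x hx => hHι x hx
  have htop := CubeModel.top (d := d) ⟨ι, hι, hrange⟩
  have h2 : Subgroup.normalizer ((P : Subgroup G) : Set G) = ⊤ := htop
  rwa [hPT, hN] at h2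

end Cfsg.Agent.S3701
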