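import Cfsg.Statements.S0111
import Cfsg.Agent.Lib.PComplement

set_option autoImplicit false
open Cfsg

namespace Cfsg.Agent.S0111

/-- The Thompson transfer lemma states that an involution of a Sylow 2-subgroup P lying outside a subgroup Q of index 2 in P either lies outside some normal subgroup of index 2 in G or is conjugate to an element of Q. -/
theorem result {G : Type*} [Group G] [Finite G] (P : Sylow 2 G) (Q : Subgroup G) (hQP : Q ≤ (P : Subgroup G)) (hQi : Q.relIndex (P : Subgroup G) = 2) (u : G) (hu : orderOf u = 2) (huP : u ∈ (P : Subgroup G)) (huQ : u ∉ Q) : (∃ M : Subgroup G, M.Normal ∧ M.index = 2 ∧ u ∉ M) ∨ ∃ g : G, g * u * g⁻¹ ∈ Q := by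
  classical
  by_contra hcon
  push Not at hcon
  obtain ⟨hM, hconj⟩ := hcon
  set PG : Subgroup G := (P : Subgroup G) with hPG
  have hQ2 : (Q.subgroupOf PG).index = 2 := hQi
  let ψ : PG →* ℤˣ :=
    { toFun := fun x => if x ∈ Q.subgroupOf PG then 1 else -1
      map_one' := by simp [one_mem]
      map_mul' := fun a b => by
        have h := Subgroup.mul_mem_iff_of_index_two hQ2 (a := a) (b := b)
        by_cases ha : a ∈ Q.subgroupOf PG <;> by_cases hb : b ∈ Q.subgroupOf PG <;>
          simp [ha, hb, h] }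
  let V : G →* ℤˣ := MonoidHom.transfer ψ
  haveI : Fintype (Quotient (MulAction.orbitRel (Subgroup.zpowers u) (G ⧸ PG))) := Fintype.ofFinite _
  have hu2 : u ^ 2 = 1 := hu ▸ pow_orderOf_eq_one u
  have hm : ∀ q : G ⧸ PG, Function.minimalPeriod (u • ·) q = 1 ∨ Function.minimalPeriod (u • ·) q = 2 := by
    intro q
    refine (Nat.dvd_prime Nat.prime_two).mp (Function.IsPeriodicPt.minimalPeriod_dvd ?_)
    show (fun x : G ⧸ PG => u • x)^[2] q = q
    rw [smul_iterate, hu2]
    exact one_smul G q
  have hV : V u = (-1) ^ PG.index := by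
    rw [Subgroup.index_eq_sum_minimalPeriod PG u, ← Finset.prod_pow_eq_pow_sum]
    show MonoidHom.transfer ψ u = _
    rw [MonoidHom.transfer_eq_prod_quotient_orbitRel_zpowers_quot]
    refine Finset.prod_congr rfl fun q _ => ?_
    have hval : ∀ (m : ℕ) (g₀ : G) (hmem : g₀⁻¹ * u ^ m * g₀ ∈ PG), m = 1 ∨ m = 2 →
        ψ ⟨g₀⁻¹ * u ^ m * g₀, hmem⟩ = (-1) ^ m := by
      rintro m g₀ hmem (rfl | rfl)
      · refine (if_neg fun h => hconj g₀⁻¹ ?_).trans (pow_one (-1 : ℤˣ)).symm
        rw [Subgroup.mem_subgroupOf] at h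
        simpa using h
      · refine (if_pos ?_).trans (neg_one_sq).symm
        rw [Subgroup.mem_subgroupOf]
        simp only [hu2, mul_one, inv_mul_cancel]
        exact one_mem _
    exact hval _ _ _ (hm q.out)
  have hodd : Odd PG.index := by
    rw [Nat.odd_iff, ← Nat.two_dvd_ne_zero]
    exact P.not_dvd_index
  rw [hodd.neg_one_pow] at hV
  have hne : (-1 : ℤˣ) ≠ 1 := by decide
  refine hne ?_
  have hmem : u ∈ V.ker := hM V.ker inferInstance ?_
  · rw [MonoidHom.mem_ker] at hmem
    exact hV.symm.trans hmem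
  · rw [Subgroup.index_ker]
    have htop : V.range = ⊤ := by
      rw [eq_top_iff]
      intro x _
      rcases Int.units_eq_one_or x with rfl | rfl
      · exact one_mem _
      · exact ⟨u, hV⟩
    rw [htop, Subgroup.card_top, Nat.card_eq_fintype_card, Fintype.card_units_int]

end Cfsg.Agent.S0111
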