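import Cfsg.Statements.S0107
import Cfsg.Agent.S0111
import Cfsg.Agent.Lib.Transfer
import Mathlib.GroupTheory.SpecificGroups.Dihedral

set_option autoImplicit false
open Cfsg

namespace Cfsg.Agent.S0107

/-- A finite group with no nontrivial 2-group quotient and dihedral Sylow 2-subgroups of order at least 8 has a single class of involutions. -/
theorem result {G : Type*} [Group G] [Finite G] (T : Sylow 2 G) (n : ℕ) (hn : 2 ≤ n) (hT : Nonempty ((T : Subgroup G) ≃* DihedralGroup (2 ^ n))) (hO : Cfsg.pResidual 2 G = ⊤) (x y : G) (hx : orderOf x = 2) (hy : orderOf y = 2) : ∃ g : G, g * x * g⁻¹ = y := by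
  classical
  obtain ⟨e⟩ := hT
  have h2 : Fact (Nat.Prime 2) := ⟨Nat.prime_two⟩
  haveI : NeZero (2 ^ n) := ⟨by positivity⟩
  set Q : Subgroup G := ((Subgroup.zpowers (DihedralGroup.r (1 : ZMod (2 ^ n)))).comap e.toMonoidHom).map (T : Subgroup G).subtype with hQ
  have hQT : Q ≤ (T : Subgroup G) := Subgroup.map_subtype_le _
  have hQi : Q.relIndex (T : Subgroup G) = 2 := by
    rw [Subgroup.relIndex, hQ, Subgroup.subgroupOf, Subgroup.comap_map_eq]
    rw [show ((Subgroup.zpowers (DihedralGroup.r (1 : ZMod (2 ^ n)))).comap e.toMonoidHom ⊔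
      (T : Subgroup G).subtype.ker) = (Subgroup.zpowers (DihedralGroup.r (1 : ZMod (2 ^ n)))).comap e.toMonoidHom by
        rw [Subgroup.ker_subtype, sup_bot_eq], Subgroup.index_comap_of_surjective _ e.surjective]
    have h1 := Subgroup.card_mul_index (Subgroup.zpowers (DihedralGroup.r (1 : ZMod (2 ^ n))))
    rw [Nat.card_zpowers, DihedralGroup.orderOf_r_one, DihedralGroup.nat_card, mul_comm 2] at h1
    exact Nat.eq_of_mul_eq_mul_left (by positivity) h1
  have uniq : ∀ a ∈ Q, ∀ b ∈ Q, orderOf a = 2 → orderOf b = 2 → a = b := by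
    rintro _ ⟨a, ha, rfl⟩ _ ⟨b, hb, rfl⟩ ha2 hb2
    refine congrArg Subtype.val (e.injective ?_)
    obtain ⟨i, hi⟩ := Subgroup.mem_zpowers_iff.1 (show e a ∈ Subgroup.zpowers (DihedralGroup.r (1 : ZMod (2 ^ n))) from ha)
    obtain ⟨j, hj⟩ := Subgroup.mem_zpowers_iff.1 (show e b ∈ Subgroup.zpowers (DihedralGroup.r (1 : ZMod (2 ^ n))) from hb)
    rw [DihedralGroup.r_one_zpow] at hi hj
    have key : ∀ (q : ↥(T : Subgroup G)) (k : ZMod (2 ^ n)), orderOf (q : G) = 2 → DihedralGroup.r k = e q →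
        k.val = 2 ^ (n - 1) := by
      intro q k hq hk
      rw [Subgroup.orderOf_coe, ← e.orderOf_eq, ← hk] at hq
      have h1 := pow_orderOf_eq_one (DihedralGroup.r k)
      rw [hq, pow_two, DihedralGroup.r_mul_r, DihedralGroup.one_def, DihedralGroup.r.injEq] at h1
      have h3 : k ≠ 0 := by
        rintro rfl
        rw [← DihedralGroup.one_def, orderOf_one] at hq
        omega
      have h4 := congrArg ZMod.val h1
      rw [ZMod.val_add, ZMod.val_zero] at h4
      have h5 := ZMod.val_lt k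
      have h6 : 0 < k.val := Nat.pos_of_ne_zero (fun h => h3 ((ZMod.val_eq_zero k).1 h))
      have h7 : 2 ^ n = 2 * 2 ^ (n - 1) := by rw [← pow_succ']; congr 1; omega
      obtain ⟨t, ht⟩ := Nat.dvd_of_mod_eq_zero h4
      rcases Nat.lt_or_ge t 2 with ht2 | ht2
      · rcases (show t = 0 ∨ t = 1 by omega) with rfl | rfl <;> omega
      · have : 2 ^ n * 2 ≤ 2 ^ n * t := Nat.mul_le_mul_left _ ht2
        omega
    rw [← hi, ← hj, ZMod.val_injective _ ((key a _ ha2 hi).trans (key b _ hb2 hj).symm)]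
  have step : ∀ u : G, u ∈ (T : Subgroup G) → orderOf u = 2 → ∃ g : G, g * u * g⁻¹ ∈ Q := by
    intro u huT hu
    by_cases huQ : u ∈ Q
    · exact ⟨1, by simpa using huQ⟩
    rcases Cfsg.Agent.S0111.result T Q hQT hQi u hu huT huQ with ⟨M, hMn, hMi, huM⟩ | hg
    · haveI := hMn
      have hle : Cfsg.pResidual 2 G ≤ M := CfsgLib.Transfer.pResidual_le_of_isPGroup_quotient M
        (IsPGroup.of_card (n := 1) (by rw [pow_one]; exact hMi))
      exact absurd (hle (hO ▸ Subgroup.mem_top u)) huM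
    · exact hg
  have inT : ∀ u : G, orderOf u = 2 → ∃ g : G, g * u * g⁻¹ ∈ Q := by
    intro u hu
    have hP : IsPGroup 2 (Subgroup.zpowers u) := IsPGroup.of_card (n := 1) (by rw [Nat.card_zpowers, hu, pow_one])
    obtain ⟨S, hS⟩ := hP.exists_le_sylow
    obtain ⟨g, hg⟩ := MulAction.exists_smul_eq G S T
    have hmem : g * u * g⁻¹ ∈ (T : Subgroup G) := by
      rw [← hg, Sylow.coe_subgroup_smul]
      exact ⟨u, hS (Subgroup.mem_zpowers u), rfl⟩
    have hord : orderOf (g * u * g⁻¹) = 2 := by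
      rw [show g * u * g⁻¹ = MulAut.conj g u from rfl, MulEquiv.orderOf_eq, hu]
    obtain ⟨k, hk⟩ := step _ hmem hord
    exact ⟨k * g, by simpa [mul_assoc] using hk⟩
  obtain ⟨a, ha⟩ := inT x hx
  obtain ⟨b, hb⟩ := inT y hy
  have hab := uniq _ ha _ hb (by rw [show a * x * a⁻¹ = MulAut.conj a x from rfl, MulEquiv.orderOf_eq, hx])
    (by rw [show b * y * b⁻¹ = MulAut.conj b y from rfl, MulEquiv.orderOf_eq, hy])
  refine ⟨b⁻¹ * a, ?_⟩
  calc b⁻¹ * a * x * (b⁻¹ * a)⁻¹ = b⁻¹ * (a * x * a⁻¹) * b := by group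
    _ = y := by rw [hab]; group

end Cfsg.Agent.S0107
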