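import Cfsg.Statements.S3377
import Mathlib
import Cfsg.Agent.Lib.Triangle235

set_option autoImplicit false
open Cfsg

namespace Cfsg.Agent.S3377

def x5 : alternatingGroup (Fin 5) := ⟨Equiv.swap 0 1 * Equiv.swap 1 2, Equiv.Perm.mem_alternatingGroup.2 (by decide +kernel)⟩

def y5 : alternatingGroup (Fin 5) :=
  ⟨(finRotate 5) ^ 2, Equiv.Perm.mem_alternatingGroup.2 (by decide +kernel)⟩

theorem rel5 : x5 ^ 3 = 1 ∧ x5 ≠ 1 ∧ y5 ^ 5 = 1 ∧ y5 ≠ 1 ∧ (x5 * y5) ^ 2 = 1 ∧ x5 * y5 ≠ 1 := by decide +kernel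

theorem card_alt5 : Nat.card (alternatingGroup (Fin 5)) = 60 := by
  rw [nat_card_alternatingGroup, Nat.card_fin]; rfl

theorem gen5 (T : Subgroup (alternatingGroup (Fin 5))) (hx : x5 ∈ T) (hy : y5 ∈ T) : T = ⊤ := by
  obtain ⟨hx3, hx1, hy5, hy1, hxy2, hxy1⟩ := rel5
  haveI := Fact.mk Nat.prime_two; haveI := Fact.mk Nat.prime_three; haveI := Fact.mk (show Nat.Prime 5 by norm_num)
  have d3 : 3 ∣ Nat.card T := by
    have h := Subgroup.card_dvd_of_le (Subgroup.zpowers_le.2 hx)
    rwa [Nat.card_zpowers, orderOf_eq_prime hx3 hx1] at h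
  have d5 : 5 ∣ Nat.card T := by
    have h := Subgroup.card_dvd_of_le (Subgroup.zpowers_le.2 hy)
    rwa [Nat.card_zpowers, orderOf_eq_prime hy5 hy1] at h
  have d2 : 2 ∣ Nat.card T := by
    have h := Subgroup.card_dvd_of_le (Subgroup.zpowers_le.2 (mul_mem hx hy))
    rwa [Nat.card_zpowers, orderOf_eq_prime hxy2 hxy1] at h
  have h30 : 30 ∣ Nat.card T :=
    Nat.Coprime.mul_dvd_of_dvd_of_dvd (show Nat.Coprime (2 * 3) 5 by norm_num)
      (Nat.Coprime.mul_dvd_of_dvd_of_dvd (by norm_num) d2 d3) d5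
  have hmul := T.card_mul_index
  rw [card_alt5] at hmul
  have hle : T.index ≤ 2 := by
    have h1 := Nat.le_of_dvd Nat.card_pos h30
    nlinarith
  rcases Nat.lt_or_ge T.index 2 with h | h
  · have : T.index = 1 := by have := Subgroup.index_ne_zero_of_finite (H := T); omega
    exact Subgroup.index_eq_one.1 this
  · exfalso
    haveI := Subgroup.normal_of_index_eq_two (H := T) (le_antisymm hle h)
    haveI : IsSimpleGroup (alternatingGroup (Fin 5)) := alternatingGroup.isSimpleGroup_five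
    rcases IsSimpleGroup.eq_bot_or_eq_top_of_normal T inferInstance with h' | h'
    · rw [h', Subgroup.card_bot] at h30; norm_num at h30
    · rw [h', Subgroup.index_top] at h; omega


/-- The alternating group of degree 5 has the presentation ⟨x, y | x³ = 1, y⁵ = 1, (xy)² = 1⟩: the group so presented is isomorphic to Alt(5). -/
theorem result :
    Nonempty (PresentedGroup ({FreeGroup.of (0 : Fin 2) ^ 3, FreeGroup.of (1 : Fin 2) ^ 5,
        (FreeGroup.of (0 : Fin 2) * FreeGroup.of 1) ^ 2} : Set (FreeGroup (Fin 2))) ≃* alternatingGroup (Fin 5)) := by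
  classical
  set R : Set (FreeGroup (Fin 2)) := {FreeGroup.of 0 ^ 3, FreeGroup.of 1 ^ 5, (FreeGroup.of 0 * FreeGroup.of 1) ^ 2}
  obtain ⟨hx3, hx1, hy5, hy1, hxy2, hxy1⟩ := rel5
  have hrel : ∀ r ∈ R, FreeGroup.lift ![x5, y5] r = 1 := by
    rintro r (rfl | rfl | rfl)
    · simpa using hx3
    · simpa using hy5
    · simpa using hxy2
  let f : PresentedGroup R →* alternatingGroup (Fin 5) := PresentedGroup.toGroup hrel
  have h0 : f (PresentedGroup.of 0) = x5 := PresentedGroup.toGroup.of hrel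
  have h1 : f (PresentedGroup.of 1) = y5 := PresentedGroup.toGroup.of hrel
  have hsurj : Function.Surjective f := MonoidHom.range_eq_top.1 (gen5 _ ⟨_, h0⟩ ⟨_, h1⟩)
  obtain ⟨hfin, hle⟩ := CfsgLib.Triangle235.card_le (PresentedGroup.of (rels := R) 0) (PresentedGroup.of 1) ⊥ bot_le
    (fun T hTx hTy _ => by
      rw [eq_top_iff, ← PresentedGroup.closure_range_of R, Subgroup.closure_le]
      rintro _ ⟨i, rfl⟩
      fin_cases i
      · exact hTx
      · exact hTy)
    (Subgroup.mem_bot.2 (by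
      have := PresentedGroup.one_of_mem (rels := R) (x := FreeGroup.of 0 ^ 3) (Or.inl rfl)
      simpa [PresentedGroup.of] using this))
    (by
      have := PresentedGroup.one_of_mem (rels := R) (x := FreeGroup.of 1 ^ 5) (Or.inr (Or.inl rfl))
      simpa [PresentedGroup.of] using this)
    (Subgroup.mem_bot.2 (by
      have := PresentedGroup.one_of_mem (rels := R) (x := (FreeGroup.of 0 * FreeGroup.of 1) ^ 2) (Or.inr (Or.inr rfl))
      simpa [PresentedGroup.of] using this))
  haveI := hfin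
  rw [Subgroup.card_bot, mul_one] at hle
  refine ⟨MulEquiv.ofBijective f ((Nat.bijective_iff_surjective_and_card f).2 ⟨hsurj, ?_⟩)⟩
  have h2 := Nat.card_le_card_of_surjective f hsurj
  rw [card_alt5] at h2 ⊢
  omega

end Cfsg.Agent.S3377
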