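import Cfsg.Statements.S3341
import Cfsg.Agent.Lib.NineCC.Main
import Cfsg.Agent.S0497

set_option autoImplicit false
open Cfsg

namespace Cfsg.Agent.S3341

/-- Let G be a finite simple group whose Sylow 3-subgroup S is elementary abelian of order 9, such that G has more than one conjugacy class of elements of order 3 and C_G(s) = S for every non-identity s in S. Then G is isomorphic to the alternating group of degree 6. -/
theorem result {G : Type*} [Group G] [Finite G] [IsSimpleGroup G]
    (P : Sylow 3 G) (S : Subgroup G) (hSP : S = P) (hcomm : IsMulCommutative S) (hexp : ∀ a ∈ S, a ^ 3 = 1)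
    (hcard : Nat.card S = 9)
    (hclasses : ∃ a b : G, orderOf a = 3 ∧ orderOf b = 3 ∧ ∀ g : G, g * a * g⁻¹ ≠ b)
    (hcent : ∀ s ∈ S, s ≠ 1 → Subgroup.centralizer ({s} : Set G) = S) :
    Nonempty (G ≃* alternatingGroup (Fin 6)) := by
  subst hSP
  have hab : ∀ s ∈ (P : Subgroup G), ∀ t ∈ (P : Subgroup G), s * t = t * s := fun s hs t ht =>
    congrArg Subtype.val (hcomm.is_comm.comm ⟨s, hs⟩ ⟨t, ht⟩)
  obtain ⟨x₀, hx₀, hx₀1⟩ : ∃ x ∈ (P : Subgroup G), x ≠ 1 := by
    by_contra hno
    push Not at hno
    have : (P : Subgroup G) = ⊥ := (Subgroup.eq_bot_iff_forall _).mpr hno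
    rw [this, Subgroup.card_bot] at hcard
    omega
  let d : CfsgLib.ThreeCC.Setting G :=
    { T := P
      ab := hab
      exp := hexp
      self := by
        rw [← hcent x₀ hx₀ hx₀1]
        intro x hx
        rw [hcent x₀ hx₀ hx₀1] at hx
        exact Subgroup.mem_centralizer_singleton_iff.mpr (Subgroup.mem_centralizer_iff.mp hx x₀ hx₀).symm
      cent := fun t ht ht1 => by
        rw [hcent t ht ht1]
        exact Subgroup.le_normalizer }
  have h : CfsgLib.NineCC.Hyp d :=
    { card := hcard
      centT := fun s hs hs1 x hx => by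
        have := Subgroup.mem_centralizer_singleton_iff.mpr hx
        rwa [hcent s hs hs1] at this }
  obtain ⟨a, b, ha, hb, hne⟩ := hclasses
  have hna : ¬ IsMulCommutative G := by
    intro hG
    have hnorm : ∀ H : Subgroup G, H.Normal := fun H => ⟨fun y hy g => by
      rw [hG.is_comm.comm g y, mul_inv_cancel_right]; exact hy⟩
    rcases (hnorm (Subgroup.zpowers x₀)).eq_bot_or_eq_top with e | e
    · exact hx₀1 (Subgroup.zpowers_eq_bot.mp e)
    · have h1 : Nat.card (Subgroup.zpowers x₀) ∣ 3 := by
        rw [Nat.card_zpowers]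
        exact orderOf_dvd_of_pow_eq_one (hexp x₀ hx₀)
      rw [e, Subgroup.card_top] at h1
      have h2 := (P : Subgroup G).card_subgroup_dvd_card
      rw [hcard] at h2
      have := Nat.le_of_dvd (by norm_num) (h2.trans h1)
      omega
  refine Cfsg.Agent.S0497.result (CfsgLib.NineCC.card_eq h hna ⟨a, b, ha, hb, fun hc => ?_⟩)
  obtain ⟨g, hg⟩ := isConj_iff.mp hc
  exact hne g hg

end Cfsg.Agent.S3341
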