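import Cfsg.Statements.S1163
import Cfsg.Agent.Lib.Suzuki.Lie

set_option autoImplicit false
open Cfsg

namespace Cfsg.Agent.S1163

/-- For the Suzuki group Sz(q), q = 2^(2m+1) ≥ 8, realised as the elements g of Sp₄(F) with g* = g^θ (θ the 2^(m+1)-th power map, so that θ² is squaring): `|Sz(q)| = q² (q - 1) (q² + 1)`, and there is a Sylow 2-subgroup `S` whose normaliser `H` has order `q²(q-1)` and index `q² + 1`, the action of `Sz(q)` on the cosets of `H` is doubly transitive, and `S` acts regularly on the cosets other than `H` itself. -/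
theorem result {F : Type*} [Field F] [Fintype F] {m : ℕ} (hm : 1 ≤ m) (hF : Fintype.card F = 2 ^ (2 * m + 1)) :
    Nat.card ↥(Cfsg.Lie.Sz F (2 ^ (m + 1))) = (2 ^ (2 * m + 1)) ^ 2 * (2 ^ (2 * m + 1) - 1) * ((2 ^ (2 * m + 1)) ^ 2 + 1) ∧
    ∃ S : Sylow 2 ↥(Cfsg.Lie.Sz F (2 ^ (m + 1))),
      Nat.card (Subgroup.normalizer ((S : Subgroup ↥(Cfsg.Lie.Sz F (2 ^ (m + 1)))) : Set ↥(Cfsg.Lie.Sz F (2 ^ (m + 1))))) = (2 ^ (2 * m + 1)) ^ 2 * (2 ^ (2 * m + 1) - 1) ∧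
      (Subgroup.normalizer ((S : Subgroup ↥(Cfsg.Lie.Sz F (2 ^ (m + 1)))) : Set ↥(Cfsg.Lie.Sz F (2 ^ (m + 1))))).index = (2 ^ (2 * m + 1)) ^ 2 + 1 ∧
      MulAction.IsMultiplyPretransitive ↥(Cfsg.Lie.Sz F (2 ^ (m + 1))) (↥(Cfsg.Lie.Sz F (2 ^ (m + 1))) ⧸ Subgroup.normalizer ((S : Subgroup ↥(Cfsg.Lie.Sz F (2 ^ (m + 1)))) : Set ↥(Cfsg.Lie.Sz F (2 ^ (m + 1))))) 2 ∧
      ∀ x y : ↥(Cfsg.Lie.Sz F (2 ^ (m + 1))) ⧸ Subgroup.normalizer ((S : Subgroup ↥(Cfsg.Lie.Sz F (2 ^ (m + 1)))) : Set ↥(Cfsg.Lie.Sz F (2 ^ (m + 1)))),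
        x ≠ (QuotientGroup.mk 1) → y ≠ (QuotientGroup.mk 1) → ∃! s : ↥(S : Subgroup ↥(Cfsg.Lie.Sz F (2 ^ (m + 1)))), (s : ↥(Cfsg.Lie.Sz F (2 ^ (m + 1)))) • x = y := by
  set e := CfsgLib.Suzuki.lieEquiv hF hm
  haveI : Fact (Nat.Prime 2) := ⟨Nat.prime_two⟩
  set S₀ : Subgroup ↥(Cfsg.Sz F m) := CfsgLib.Suzuki.U hF with hS₀
  have hcard : Nat.card ↥(Cfsg.Lie.Sz F (2 ^ (m + 1))) = Nat.card ↥(Cfsg.Sz F m) :=
    (Nat.card_congr e.toEquiv).symm
  have hidx : ¬ 2 ∣ (S₀.map e.toMonoidHom).index := by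
    rw [show e.toMonoidHom = (e : ↥(Cfsg.Sz F m) →* ↥(Cfsg.Lie.Sz F (2 ^ (m + 1)))) from rfl, Subgroup.index_map_equiv]
    exact CfsgLib.Suzuki.not_two_dvd_index_U hF hm
  let S : Sylow 2 ↥(Cfsg.Lie.Sz F (2 ^ (m + 1))) :=
    IsPGroup.toSylow ((CfsgLib.Suzuki.U_isPGroup hF).map e.toMonoidHom) hidx
  set H := Subgroup.normalizer ((S : Subgroup ↥(Cfsg.Lie.Sz F (2 ^ (m + 1)))) : Set ↥(Cfsg.Lie.Sz F (2 ^ (m + 1))))
    with hH
  have hN : H = (MulAction.stabilizer (Cfsg.Sz F m) (Cfsg.suzukiPointInfinity F)).map e.toMonoidHom := by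
    rw [hH, ← CfsgLib.Suzuki.normalizer_U hF hm]
    exact (Subgroup.map_equiv_normalizer_eq S₀ e).symm
  have hcardH : Nat.card H = (2 ^ (2 * m + 1)) ^ 2 * (2 ^ (2 * m + 1) - 1) := by
    rw [hN, Subgroup.card_map_of_injective e.injective, CfsgLib.Suzuki.card_stabInf hF hm]
  have hindex : H.index = (2 ^ (2 * m + 1)) ^ 2 + 1 := by
    rw [hN, show e.toMonoidHom = (e : ↥(Cfsg.Sz F m) →* ↥(Cfsg.Lie.Sz F (2 ^ (m + 1)))) from rfl,
      Subgroup.index_map_equiv, MulAction.index_stabilizer, CfsgLib.Suzuki.orbit_inf hF,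
      ← Nat.card_coe_set_eq, CfsgLib.Suzuki.card_ovoid, hF]
  have hmem : ∀ g : ↥(Cfsg.Lie.Sz F (2 ^ (m + 1))), g ∈ H ↔
      e.symm g • Cfsg.suzukiPointInfinity F = Cfsg.suzukiPointInfinity F := by
    intro g
    rw [hN, Subgroup.mem_map_equiv, MulAction.mem_stabilizer_iff]
  let φ : ↥(Cfsg.Lie.Sz F (2 ^ (m + 1))) ⧸ H → Cfsg.suzukiOvoid F m :=
    Quotient.lift
      (fun g => ⟨e.symm g • Cfsg.suzukiPointInfinity F,
        CfsgLib.Suzuki.smul_mem_ovoid (e.symm g).2 CfsgLib.Suzuki.inf_mem⟩)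
      (fun a b hab => by
        have h := (hmem _).mp (QuotientGroup.leftRel_apply.mp hab)
        rw [map_mul, map_inv, mul_smul, inv_smul_eq_iff] at h
        exact Subtype.ext h.symm)
  have hφmk : ∀ g, (φ (QuotientGroup.mk g)).1 = e.symm g • Cfsg.suzukiPointInfinity F := fun g => rfl
  have hφs : ∀ g x, (φ (g • x)).1 = e.symm g • (φ x).1 := by
    intro g x
    induction x using QuotientGroup.induction_on with
    | H k =>
      rw [MulAction.Quotient.smul_mk, hφmk, hφmk, smul_eq_mul, map_mul, mul_smul]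
  have hφi : ∀ x y, φ x = φ y → x = y := by
    intro x y
    induction x using QuotientGroup.induction_on with
    | H a =>
      induction y using QuotientGroup.induction_on with
      | H b =>
        intro h
        rw [QuotientGroup.eq, hmem, map_mul, map_inv, mul_smul, inv_smul_eq_iff]
        exact ((hφmk a).symm.trans ((congrArg Subtype.val h).trans (hφmk b))).symm
  refine ⟨?_, S, hcardH, hindex, ?_, ?_⟩
  · rw [hcard, CfsgLib.Suzuki.card_Sz hF hm]; ring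
  · rw [MulAction.is_two_pretransitive_iff]
    intro a b c d hab hcd
    haveI := CfsgLib.Suzuki.two_transitive hF
    obtain ⟨g, h1, h2⟩ := (MulAction.is_two_pretransitive_iff (G := ↥(Cfsg.Sz F m))
      (α := Cfsg.suzukiOvoid F m)).mp inferInstance (fun h => hab (hφi a b h)) (fun h => hcd (hφi c d h))
    refine ⟨e g, hφi _ _ (Subtype.ext ?_), hφi _ _ (Subtype.ext ?_)⟩
    · rw [hφs, e.symm_apply_apply]; exact congrArg Subtype.val h1
    · rw [hφs, e.symm_apply_apply]; exact congrArg Subtype.val h2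
  · intro x y hx hy
    have hb : (φ (QuotientGroup.mk 1)).1 = Cfsg.suzukiPointInfinity F := by rw [hφmk, map_one, one_smul]
    have hpt : ∀ z, z ≠ QuotientGroup.mk 1 → ∃ a b, (φ z).1 = CfsgLib.Suzuki.pt m a b := by
      intro z hz
      rcases CfsgLib.Suzuki.mem_ovoid_iff.mp (φ z).2 with h | h
      · exact absurd (hφi _ _ (Subtype.ext (h.trans hb.symm))) hz
      · exact h
    obtain ⟨a, b, ha⟩ := hpt x hx
    obtain ⟨c, d, hc⟩ := hpt y hy
    have hu : ∀ r s : F, (e (CfsgLib.Suzuki.uS hF r s) • x = y) ↔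
        (a + r = c ∧ b + CfsgLib.Suzuki.th m r * a + s = d) := by
      intro r s
      have key : (φ (e (CfsgLib.Suzuki.uS hF r s) • x)).1 =
          CfsgLib.Suzuki.pt m (a + r) (b + CfsgLib.Suzuki.th m r * a + s) := by
        rw [hφs, e.symm_apply_apply, ha]
        exact CfsgLib.Suzuki.uEl_smul_pt hF r s a b
      constructor
      · intro h
        rw [h, hc] at key
        obtain ⟨k1, k2⟩ := CfsgLib.Suzuki.pt_injective key
        exact ⟨k1.symm, k2.symm⟩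
      · rintro ⟨k1, k2⟩
        refine hφi _ _ (Subtype.ext ?_)
        rw [key, k1, k2, hc]
    refine ⟨⟨e (CfsgLib.Suzuki.uS hF (c - a) (d - b - CfsgLib.Suzuki.th m (c - a) * a)),
      ⟨_, ⟨_, _, rfl⟩, rfl⟩⟩, (hu _ _).mpr ⟨by ring, by ring⟩, ?_⟩
    rintro ⟨s, hs⟩ h
    obtain ⟨u, ⟨r, t, rfl⟩, rfl⟩ := hs
    obtain ⟨k1, k2⟩ := (hu r t).mp h
    obtain rfl : r = c - a := by rw [← k1]; ring
    obtain rfl : t = d - b - CfsgLib.Suzuki.th m (c - a) * a := by rw [← k2]; ring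
    rfl

end Cfsg.Agent.S1163
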