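import Cfsg.Statements.S0252
import Mathlib
import Cfsg.Agent.Lib.SLCard

set_option autoImplicit false
open Cfsg

namespace Cfsg.Agent.S0252



/-- PSL_2(4) is isomorphic to A_5. -/
theorem result {F : Type*} [Field F] [Fintype F] (hF : Fintype.card F = 4) : Nonempty (Matrix.ProjectiveSpecialLinearGroup (Fin 2) F ≃* alternatingGroup (Fin 5)) := by
  classical
  haveI : Fintype (Projectivization F (Fin 2 → F)) := Fintype.ofFinite _
  have hP : Fintype.card (Projectivization F (Fin 2 → F)) = 5 := by
    rw [← Nat.card_eq_fintype_card, Projectivization.card_of_finrank_two F (Fin 2 → F) (by simp),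
      Nat.card_eq_fintype_card, hF]
  let φ : Matrix.ProjectiveSpecialLinearGroup (Fin 2) F →* Equiv.Perm (Fin 5) :=
    ((Fintype.equivFinOfCardEq hP).permCongrHom.toMonoidHom).comp Projectivization.PSLAction.toPermHom
  have hinj : Function.Injective φ := by
    show Function.Injective (⇑((Fintype.equivFinOfCardEq hP).permCongrHom) ∘
      ⇑(Projectivization.PSLAction.toPermHom (K := F) (ι := Fin 2)))
    exact Function.Injective.comp (MulEquiv.injective _) Matrix.ProjectiveSpecialLinearGroup.toPermHom_injective
  have hc : Nat.card φ.range = 60 := by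
    rw [← Nat.card_congr (MonoidHom.ofInjective hinj).toEquiv]
    have h := CfsgLib.SLCard.gcd_mul_card_PSL (F := F) (n := 2) (by norm_num)
    rw [CfsgLib.SLCard.card_SL_two, hF] at h
    have h' : 1 * Nat.card (Matrix.ProjectiveSpecialLinearGroup (Fin 2) F) = 60 := h
    omega
  have hidx : φ.range.index = 2 := by
    have h := φ.range.card_mul_index
    rw [hc, Nat.card_perm, Nat.card_fin, show Nat.factorial 5 = 120 from rfl] at h
    omega
  exact ⟨(MonoidHom.ofInjective hinj).trans
    (MulEquiv.subgroupCongr (Equiv.Perm.eq_alternatingGroup_of_index_eq_two hidx))⟩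

end Cfsg.Agent.S0252
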