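import Cfsg.Statements.S0804
import Mathlib
import Cfsg.Agent.Lib.PSL2Platonic
import Cfsg.Agent.Lib.PSL2Subfield
import Cfsg.Agent.S0252
import Cfsg.Agent.Lib.SLCard

set_option autoImplicit false
open Cfsg

namespace Cfsg.Agent.S0804



/-- PSL_2(q) has a subgroup isomorphic to A_5 iff 5 ∣ q(q² − 1). -/
theorem result {F : Type*} [Field F] [Fintype F] {q : ℕ} (hF : Fintype.card F = q) : (∃ H : Subgroup (Matrix.ProjectiveSpecialLinearGroup (Fin 2) F), Nonempty (H ≃* alternatingGroup (Fin 5))) ↔ 5 ∣ q * (q ^ 2 - 1) := by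
  classical
  subst hF
  have hp := CfsgLib.SLCard.gcd_mul_card_PSL (F := F) (n := 2) (by norm_num)
  rw [CfsgLib.SLCard.card_SL_two] at hp
  constructor
  · rintro ⟨H, ⟨e⟩⟩
    have hd := H.card_subgroup_dvd_card
    rw [Nat.card_congr e.toEquiv, nat_card_alternatingGroup, Nat.card_eq_fintype_card, Fintype.card_fin] at hd
    rw [← hp]
    exact Dvd.dvd.mul_left (Dvd.dvd.trans (by decide) hd) _
  · intro h5
    obtain ⟨p, hpc⟩ := CharP.exists F
    obtain ⟨n, hpp, hn⟩ := FiniteField.card F p
    haveI := Fact.mk hpp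
    have h5q : ¬ p = 5 → (Fintype.card F % 5 = 1 ∨ Fintype.card F % 5 = 4) := by
      intro hp5
      have hndvd : ¬ 5 ∣ Fintype.card F := by
        rw [hn]
        exact fun h => hp5 ((Nat.prime_dvd_prime_iff_eq (by norm_num) hpp).mp ((Nat.Prime.dvd_of_dvd_pow (by norm_num) h))).symm
      have h := ((Nat.Prime.dvd_mul (by norm_num)).mp h5).resolve_left hndvd
      have h1 : 1 ≤ Fintype.card F ^ 2 := Nat.one_le_pow _ _ Fintype.card_pos
      have h2 : Fintype.card F ^ 2 % 5 = 1 := by omega
      rw [Nat.pow_mod] at h2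
      have := Nat.mod_lt (Fintype.card F) (show 5 > 0 by norm_num)
      interval_cases Fintype.card F % 5 <;> omega
    by_cases hp2 : p = 2
    · subst hp2
      have hm := h5q (by norm_num)
      rw [hn, Nat.pow_mod] at hm
      obtain ⟨k, hk⟩ : Even (n : ℕ) := by
        rw [Nat.even_iff]
        by_contra hne
        obtain ⟨k, hk⟩ := Nat.odd_iff.mpr (by omega : (n : ℕ) % 2 = 1)
        rw [hk, ← Nat.pow_mod, pow_succ, pow_mul, Nat.mul_mod, Nat.pow_mod] at hm
        rcases Nat.even_or_odd k with ⟨j, rfl⟩ | ⟨j, rfl⟩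
        · rw [← two_mul, pow_mul, Nat.pow_mod] at hm
          norm_num at hm
        · rw [pow_succ, pow_mul, Nat.mul_mod, Nat.pow_mod] at hm
          norm_num at hm
          have : 16 ^ j % 5 = 1 := by simp [Nat.pow_mod]
          omega
      letI := Fintype.ofFinite (GaloisField 2 2)
      have h4 : Fintype.card (GaloisField 2 2) = 4 := by
        rw [Fintype.card_eq_nat_card, GaloisField.card 2 2 (by norm_num)]; norm_num
      have hk1 : 1 ≤ k := by have := n.pos; omega
      obtain ⟨H, ⟨e⟩⟩ := CfsgLib.PSL2Subfield.exists_sub (F := F) (K := GaloisField 2 2) k hk1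
        (by rw [h4, hn, hk, ← two_mul, pow_mul]; norm_num)
      obtain ⟨e5⟩ := Cfsg.Agent.S0252.result h4
      exact ⟨H, ⟨e.trans e5⟩⟩
    · have hr : ringChar F ≠ 2 := by rw [ringChar.eq F p]; exact hp2
      refine CfsgLib.PSL2Platonic.exists_A5 (Ring.two_ne_zero hr) ?_
      by_cases hp5 : p = 5
      · subst hp5
        rw [show (5 : F) = 0 by exact_mod_cast CharP.cast_eq_zero F 5]
        exact IsSquare.zero
      haveI : Fact (Nat.Prime 5) := ⟨by norm_num⟩
      have h := (FiniteField.isSquare_odd_prime_iff hr (p := 5) (by norm_num)).mpr ?_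
      · exact_mod_cast h
      have hodd : Fintype.card F % 2 = 1 := FiniteField.odd_card_of_char_ne_two hr
      have h5' := h5q hp5
      rw [ZMod.χ₄_nat_eq_if_mod_four]
      have hx : ((Fintype.card F : ℕ) : ZMod 5) = ((Fintype.card F % 5 : ℕ) : ZMod 5) := (ZMod.natCast_mod _ _).symm
      rw [hx]
      split_ifs <;> first | omega | (rcases h5' with e | e <;> rw [e] <;> intro hc <;>
        refine quadraticChar_neg_one_iff_not_isSquare.mp hc ?_ <;> first | exact ⟨1, by rfl⟩ | exact ⟨2, by rfl⟩)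

end Cfsg.Agent.S0804
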