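import Cfsg.Statements.S0810
import Mathlib
import Cfsg.Agent.Lib.DicksonFull.Subgroups
import Cfsg.Agent.Lib.PSL2Subfield
import Cfsg.Agent.Lib.CharTheory.Burnside
import Cfsg.Agent.S0804

set_option autoImplicit false
open Cfsg

namespace Cfsg.Agent.S0810

open CfsgLib.DicksonFull in
theorem two_primes {G : Type*} [Group G] [Finite G] {n : ℕ} (h : Nat.card G = n)
    (hn : n = 6 ∨ n = 12 ∨ n = 24) : Group.IsSolvable G := by
  rcases hn with rfl | rfl | rfl
  · exact CfsgLib.CharTheory.isSolvable_of_card_two_primes Nat.prime_two Nat.prime_three (a := 1) (b := 1) h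
  · exact CfsgLib.CharTheory.isSolvable_of_card_two_primes Nat.prime_two Nat.prime_three (a := 2) (b := 1) h
  · exact CfsgLib.CharTheory.isSolvable_of_card_two_primes Nat.prime_two Nat.prime_three (a := 3) (b := 1) h

/-- `D_k` is solvable. -/
theorem dihedral_solvable (k : ℕ) : Group.IsSolvable (DihedralGroup k) := by
  let f : DihedralGroup k →* Multiplicative (ZMod 2) :=
    { toFun := fun x => match x with
        | .r _ => 1
        | .sr _ => Multiplicative.ofAdd 1
      map_one' := rfl
      map_mul' := by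
        rintro (i | i) (j | j) <;> first | rfl | (simp only [DihedralGroup.sr_mul_sr]; decide) }
  have : IsMulCommutative f.ker := ⟨⟨by
    rintro ⟨a | a, ha⟩ ⟨b | b, hb⟩
    · exact Subtype.ext (by simp [add_comm])
    all_goals first
      | exact absurd (MonoidHom.mem_ker.mp ha) (show ¬ Multiplicative.ofAdd (1 : ZMod 2) = 1 by decide)
      | exact absurd (MonoidHom.mem_ker.mp hb) (show ¬ Multiplicative.ofAdd (1 : ZMod 2) = 1 by decide)⟩⟩
  haveI : Group.IsSolvable f.ker := Group.isSolvable_of_comm this.is_comm.comm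
  exact Group.isSolvable_of_ker_le_range f.ker.subtype f (by simp)

open CfsgLib.DicksonFull CfsgLib.PSL2 in
theorem not_solvable {K : Type*} [Field K] [Fintype K] (hK : 4 ≤ Fintype.card K) :
    ¬ Group.IsSolvable (Matrix.ProjectiveSpecialLinearGroup (Fin 2) K) := by
  intro h
  haveI : IsSimpleGroup (Matrix.ProjectiveSpecialLinearGroup (Fin 2) K) :=
    Matrix.ProjectiveSpecialLinearGroup.rank_two_simple (by rwa [Nat.card_eq_fintype_card])
  have hc := IsSimpleGroup.comm_iff_isSolvable.mpr h (mk (CfsgLib.Dickson.up 1)) (mk (CfsgLib.Dickson.lo 1))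
  have := commute_lift (c := CfsgLib.Dickson.lo (1 : K)) (d := CfsgLib.Dickson.up (1 : K))
    (by simp [Matrix.trace_fin_two, one_add_one_eq_two]) hc
  simpa [CfsgLib.Dickson.mul_entry] using congrArg (fun g => g.1 0 0) this

open CfsgLib.DicksonFull in
theorem bor_solvable {F : Type*} [Field F] [Fintype F] (p : ℕ) [Fact p.Prime] [CharP F p]
    {u : Matrix.ProjectiveSpecialLinearGroup (Fin 2) F} (hu : orderOf u = p) :
    Group.IsSolvable (bor u) := by
  set N := (cent u).subgroupOf (bor u) with hN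
  haveI : N.Normal := (Subgroup.normal_subgroupOf_iff_le_normalizer (cent_le_bor (psl p) u)).mpr le_rfl
  have hNc : IsMulCommutative N := ⟨⟨fun a b => Subtype.ext (Subtype.ext
    ((psl (F := F) p).u_cen u _ _ hu (mem_cent.mp a.2) (mem_cent.mp b.2)).1)⟩⟩
  have hQc : IsMulCommutative (bor u ⧸ N) := ⟨⟨fun a b => by
    induction a using QuotientGroup.induction_on with | H a =>
    induction b using QuotientGroup.induction_on with | H b =>
    rw [← QuotientGroup.mk_mul, ← QuotientGroup.mk_mul, QuotientGroup.eq]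
    refine Subgroup.mem_subgroupOf.mpr ?_
    have := (psl (F := F) p).borel_comm u ((b : Matrix.ProjectiveSpecialLinearGroup (Fin 2) F))⁻¹
      ((a : Matrix.ProjectiveSpecialLinearGroup (Fin 2) F))⁻¹ hu
      ((mem_bor (psl p) hu).mp (inv_mem b.2)) ((mem_bor (psl p) hu).mp (inv_mem a.2))
    refine mem_cent.mpr ?_
    simpa [mul_assoc] using this⟩⟩
  haveI : Group.IsSolvable N := Group.isSolvable_of_comm hNc.is_comm.comm
  haveI : Group.IsSolvable (bor u ⧸ N) := Group.isSolvable_of_comm hQc.is_comm.comm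
  exact Group.isSolvable_of_ker_le_range N.subtype (QuotientGroup.mk' N) (by simp)

theorem pow2_mod5 : ∀ r : ℕ, r % 2 = 1 → 2 ^ r % 5 = 2 ∨ 2 ^ r % 5 = 3 := fun r h => by
  have key : ∀ k : ℕ, 4 ^ k % 5 = 1 ∨ 4 ^ k % 5 = 4 := fun k => by
    induction k with
    | zero => simp
    | succ k ih => rw [pow_succ, Nat.mul_mod]; rcases ih with e | e <;> rw [e] <;> simp
  have e : 2 ^ r = 2 * 4 ^ (r / 2) := by
    conv_lhs => rw [show r = 2 * (r / 2) + 1 by omega, pow_succ, pow_mul]
    ring
  rw [e, Nat.mul_mod]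
  rcases key (r / 2) with e | e <;> rw [e] <;> simp

theorem pow3_mod5 : ∀ r : ℕ, r % 2 = 1 → 3 ^ r % 5 = 2 ∨ 3 ^ r % 5 = 3 := fun r h => by
  have key : ∀ k : ℕ, 9 ^ k % 5 = 1 ∨ 9 ^ k % 5 = 4 := fun k => by
    induction k with
    | zero => simp
    | succ k ih => rw [pow_succ, Nat.mul_mod]; rcases ih with e | e <;> rw [e] <;> simp
  have e : 3 ^ r = 3 * 9 ^ (r / 2) := by
    conv_lhs => rw [show r = 2 * (r / 2) + 1 by omega, pow_succ, pow_mul]
    ring
  rw [e, Nat.mul_mod]
  rcases key (r / 2) with e | e <;> rw [e] <;> simp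

theorem a5_noncomm : ∃ a b : alternatingGroup (Fin 5), a * b ≠ b * a := by decide +kernel

open CfsgLib.DicksonFull in
/-- All proper subgroups are solvable once `A₅` and larger subfield groups are excluded. -/
theorem proper_solvable {F : Type*} [Field F] [Fintype F] (p : ℕ) [Fact p.Prime] [CharP F p]
    (h5 : ¬ 5 ∣ Fintype.card F * (Fintype.card F ^ 2 - 1) ∨ Fintype.card F = 4 ∨ Fintype.card F = 5)
    (hsub : ∀ Q m : ℕ, 3 ≤ Q → 2 ≤ m → Q ^ m = Fintype.card F → Q = 3)
    (H : Subgroup (Matrix.ProjectiveSpecialLinearGroup (Fin 2) F)) (hH : H ≠ ⊤) :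
    Group.IsSolvable H := by
  rcases proper_cases p hH with ⟨k, -, ⟨hc, -⟩ | e⟩ | e | e | e | ⟨u, hu, hub⟩ |
    ⟨Q, m, K, fK, ftK, hKQ, hQ3, hm, hQm, -, -, hiso⟩
  · exact Group.isSolvable_of_comm (IsCyclic.commGroup (α := H)).mul_comm
  · obtain ⟨e⟩ := e
    haveI := dihedral_solvable k
    exact Group.isSolvable_of_isSolvable_injective (f := e.toMonoidHom) e.injective
  · obtain ⟨e⟩ := e
    exact two_primes (n := 12) (by rw [Nat.card_congr e.toEquiv, Nat.card_eq_fintype_card]; rfl) (by simp)
  · obtain ⟨e⟩ := e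
    exact two_primes (n := 24) (by
      rw [Nat.card_congr e.toEquiv, Nat.card_eq_fintype_card, Fintype.card_perm, Fintype.card_fin]; rfl) (by simp)
  · exfalso
    obtain ⟨e⟩ := e
    have hc : Nat.card H = 60 := by
      rw [Nat.card_congr e.toEquiv, Nat.card_eq_fintype_card]; rfl
    have hd := H.card_subgroup_dvd_card
    have hcard := card_psl (F := F)
    rw [hc] at hd
    rcases h5 with h | h
    · exact h (hcard ▸ Dvd.dvd.mul_left ((by norm_num : 5 ∣ 60).trans hd) _)
    · refine hH (Subgroup.eq_top_of_le_card H ?_)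
      rcases h with h | h <;> rw [h] at hcard <;> norm_num [-Nat.card_eq_fintype_card] at hcard <;> omega
  · haveI := bor_solvable p hu
    exact Group.isSolvable_of_isSolvable_injective (f := Subgroup.inclusion hub) (Subgroup.inclusion_injective hub)
  · have hQ := hsub Q m hQ3 hm hQm
    subst hQ
    have hc := CfsgLib.SLCard.card_SL_two (F := K)
    rw [hKQ] at hc
    rcases hiso with ⟨⟨e⟩⟩ | ⟨⟨e⟩⟩
    · refine two_primes (n := 12) ?_ (by simp)
      have h := CfsgLib.SLCard.gcd_mul_card_PSL (F := K) (n := 2) (by norm_num)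
      rw [hc, hKQ] at h
      norm_num [-Nat.card_eq_fintype_card] at h
      rw [Nat.card_congr e.toEquiv]
      omega
    · refine two_primes (n := 24) ?_ (by simp)
      rw [Nat.card_congr e.toEquiv, CfsgLib.SLCard.card_PGL, hc]
      norm_num


/-- PSL_2(q) is minimal simple iff q is 2^r (r prime), 3^r (r an odd prime), a prime greater than 5 congruent to 2 or 3 mod 5, or 5. -/
theorem result {F : Type*} [Field F] [Fintype F] {q : ℕ} (hF : Fintype.card F = q) : Cfsg.IsMinimalSimple (Matrix.ProjectiveSpecialLinearGroup (Fin 2) F) ↔ ((∃ r : ℕ, r.Prime ∧ q = 2 ^ r) ∨ (∃ r : ℕ, r.Prime ∧ r ≠ 2 ∧ q = 3 ^ r) ∨ (q.Prime ∧ 5 < q ∧ (q % 5 = 2 ∨ q % 5 = 3)) ∨ q = 5) := by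
  subst hF
  classical
  obtain ⟨p, hp⟩ := CharP.exists F
  haveI := Fact.mk (CharP.char_is_prime F p)
  have hpp : p.Prime := Fact.out
  obtain ⟨f, -, hf⟩ := FiniteField.card F p
  have hq1 := Fintype.one_lt_card (α := F)
  have hcard := CfsgLib.DicksonFull.card_psl (F := F)
  constructor
  · intro ⟨hs, hnc, hsol⟩
    have h4 : 4 ≤ Fintype.card F := by
      by_contra hlt
      refine hnc ⟨⟨IsSimpleGroup.comm_iff_isSolvable.mpr ?_⟩⟩
      rcases (show Fintype.card F = 2 ∨ Fintype.card F = 3 by omega) with h | h <;>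
        rw [h] at hcard <;> norm_num [-Nat.card_eq_fintype_card] at hcard
      · exact two_primes hcard (by simp)
      · exact two_primes (n := 12) (by omega) (by simp)
    -- a non-solvable proper subfield group
    have hsubf : ∀ j m : ℕ, 2 ≤ m → 4 ≤ p ^ j → (p ^ j) ^ m = Fintype.card F → False := by
      intro j m hm h4j hjm
      have hj : j ≠ 0 := by rintro rfl; norm_num at h4j
      letI := Fintype.ofFinite (GaloisField p j)
      have hK : Fintype.card (GaloisField p j) = p ^ j := by
        rw [Fintype.card_eq_nat_card, GaloisField.card p j hj]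
      obtain ⟨H, ⟨e⟩⟩ := CfsgLib.PSL2Subfield.exists_sub (F := F) (K := GaloisField p j) m (by omega)
        (by rw [hK, hjm])
      have hns := not_solvable (K := GaloisField p j) (by rw [hK]; exact h4j)
      refine hns ?_
      haveI : Group.IsSolvable H := hsol H fun htop => ?_
      · exact Group.isSolvable_of_isSolvable_injective (f := e.symm.toMonoidHom) e.symm.injective
      · subst htop
        have h := CfsgLib.DicksonFull.card_psl (F := GaloisField p j)
        rw [hK, ← Nat.card_congr e.toEquiv, Subgroup.card_top] at h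
        have hlt : p ^ j < Fintype.card F := by
          rw [← hjm]; exact lt_self_pow₀ (by omega) (by omega)
        have hd1 : Nat.gcd 2 (Fintype.card F - 1) ≤ 2 := Nat.le_of_dvd (by norm_num) (Nat.gcd_dvd_left _ _)
        have hd2 : 1 ≤ Nat.gcd 2 (p ^ j - 1) := Nat.gcd_pos_of_pos_left _ (by norm_num)
        have hpos : 0 < Nat.card (Matrix.ProjectiveSpecialLinearGroup (Fin 2) F) := Nat.card_pos
        generalize Nat.card (Matrix.ProjectiveSpecialLinearGroup (Fin 2) F) = N at h hcard hpos
        have h1 : (2 * p ^ j) * ((p ^ j) ^ 2 - 1) < Fintype.card F * (Fintype.card F ^ 2 - 1) := by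
          refine Nat.mul_lt_mul_of_le_of_lt ?_ ?_ (by omega)
          · rw [← hjm]
            calc 2 * p ^ j ≤ p ^ j * p ^ j := Nat.mul_le_mul_right _ (by omega)
              _ = (p ^ j) ^ 2 := (pow_two _).symm
              _ ≤ _ := Nat.pow_le_pow_right (by omega) hm
          · have := Nat.pow_lt_pow_left hlt (show 2 ≠ 0 by norm_num)
            have : 1 ≤ (p ^ j) ^ 2 := Nat.one_le_pow _ _ (by omega)
            omega
        rw [mul_assoc, ← h, ← hcard] at h1
        nlinarith
    have ha5 : 5 ∣ Fintype.card F * (Fintype.card F ^ 2 - 1) → Nat.card (Matrix.ProjectiveSpecialLinearGroup (Fin 2) F) ≤ 60 := by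
      intro h
      obtain ⟨H, ⟨e⟩⟩ := (Cfsg.Agent.S0804.result (F := F) rfl).mpr h
      by_contra hgt
      have hne : H ≠ ⊤ := fun htop => by
        subst htop
        have := Nat.card_congr e.toEquiv
        rw [Subgroup.card_top, nat_card_alternatingGroup, Nat.card_eq_fintype_card (α := Fin 5), Fintype.card_fin] at this
        norm_num [Nat.factorial, -Nat.card_eq_fintype_card] at this
        omega
      haveI : Group.IsSolvable H := hsol H hne
      have hA : Group.IsSolvable (alternatingGroup (Fin 5)) :=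
        Group.isSolvable_of_isSolvable_injective (f := e.symm.toMonoidHom) e.symm.injective
      obtain ⟨a, b, hab⟩ := a5_noncomm
      haveI := alternatingGroup.isSimpleGroup_five
      exact hab (IsSimpleGroup.comm_iff_isSolvable.mpr hA a b)
    rcases (show (f : ℕ) = 1 ∨ (f : ℕ).Prime ∨ (2 ≤ (f : ℕ) ∧ ¬ (f : ℕ).Prime) by
      have := f.pos
      by_cases h : (f : ℕ).Prime
      · exact Or.inr (Or.inl h)
      · by_cases h1 : (f : ℕ) = 1
        · exact Or.inl h1
        · exact Or.inr (Or.inr ⟨by omega, h⟩)) with h1 | hfp | ⟨hf2, hfn⟩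
    · rw [h1, pow_one] at hf
      by_cases h5 : Fintype.card F = 5
      · exact Or.inr (Or.inr (Or.inr h5))
      have hqp : (Fintype.card F).Prime := hf ▸ hpp
      have hqodd : Fintype.card F % 2 = 1 := hqp.eq_two_or_odd.resolve_left (by omega)
      refine Or.inr (Or.inr (Or.inl ⟨hqp, by omega, ?_⟩))
      by_contra hmod
      have h0 : Fintype.card F % 5 ≠ 0 := fun h => h5 ((Nat.prime_dvd_prime_iff_eq (by norm_num) hqp).mp (Nat.dvd_of_mod_eq_zero h)).symm
      have hd : 5 ∣ Fintype.card F ^ 2 - 1 := by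
        have h1' : 1 ≤ Fintype.card F ^ 2 := Nat.one_le_pow _ _ (by omega)
        have h2' : Fintype.card F ^ 2 % 5 = 1 := by
          rw [Nat.pow_mod]
          rcases (show Fintype.card F % 5 = 1 ∨ Fintype.card F % 5 = 4 by omega) with h | h <;> rw [h] <;> rfl
        omega
      have hle := ha5 (Dvd.dvd.mul_left hd _)
      have hg : Nat.gcd 2 (Fintype.card F - 1) ≤ 2 := Nat.le_of_dvd (by norm_num) (Nat.gcd_dvd_left _ _)
      have h11 : 11 * 120 ≤ Fintype.card F * (Fintype.card F ^ 2 - 1) := by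
        have h11' : 11 ≤ Fintype.card F := by
          by_contra hlt
          interval_cases Fintype.card F <;> first | omega | norm_num at hqp
        exact Nat.mul_le_mul h11' (by have := Nat.pow_le_pow_left h11' 2; omega)
      have := Nat.mul_le_mul hg hle
      omega
    · have hp3 : p = 2 ∨ p = 3 := by
        by_contra hne
        refine hsubf 1 f hfp.two_le ?_ (by rw [pow_one, ← hf])
        have := hpp.two_le
        rw [pow_one]
        by_contra hlt
        interval_cases p <;> omega
      rcases hp3 with rfl | rfl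
      · exact Or.inl ⟨f, hfp, hf⟩
      · refine Or.inr (Or.inl ⟨f, hfp, fun h2 => ?_, hf⟩)
        rw [h2] at hf
        rw [hf] at hcard ha5
        norm_num [-Nat.card_eq_fintype_card] at hcard ha5
        omega
    · exfalso
      obtain ⟨j, hj, hj2, hjlt⟩ := (Nat.not_prime_iff_exists_dvd_lt hf2).mp hfn
      obtain ⟨m, hm⟩ := hj
      refine hsubf j m ?_ ?_ (by rw [← pow_mul, ← hm, ← hf])
      · by_contra hlt
        rcases (show m = 0 ∨ m = 1 by omega) with rfl | rfl <;> omega
      · calc 4 = 2 ^ 2 := rfl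
          _ ≤ 2 ^ j := Nat.pow_le_pow_right (by norm_num) hj2
          _ ≤ p ^ j := Nat.pow_le_pow_left hpp.two_le j
  · intro h
    have h4 : 4 ≤ Fintype.card F := by
      rcases h with ⟨r, hr, h⟩ | ⟨r, hr, -, h⟩ | ⟨-, h, -⟩ | h
      · rw [h]; exact (Nat.pow_le_pow_right (by norm_num) hr.two_le : 2 ^ 2 ≤ 2 ^ r)
      · rw [h]
        exact le_trans (by norm_num) (Nat.pow_le_pow_right (by norm_num) hr.two_le : 3 ^ 2 ≤ 3 ^ r)
      · omega
      · omega
    haveI hs : IsSimpleGroup (Matrix.ProjectiveSpecialLinearGroup (Fin 2) F) :=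
      Matrix.ProjectiveSpecialLinearGroup.rank_two_simple (by rwa [Nat.card_eq_fintype_card])
    refine ⟨hs, fun hc => not_solvable h4 (IsSimpleGroup.comm_iff_isSolvable.mp hc.is_comm.comm), ?_⟩
    have hmod5 : Fintype.card F % 5 = 2 ∨ Fintype.card F % 5 = 3 →
        ¬ 5 ∣ Fintype.card F * (Fintype.card F ^ 2 - 1) := by
      intro hm hd
      rcases (Nat.Prime.dvd_mul (by norm_num)).mp hd with h | h
      · omega
      · have h1 : 1 ≤ Fintype.card F ^ 2 := Nat.one_le_pow _ _ (by omega)
        have h2 : Fintype.card F ^ 2 % 5 = 4 := by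
          rw [Nat.pow_mod]; rcases hm with h | h <;> rw [h] <;> rfl
        omega
    have hbase : ∀ {Q m r ℓ : ℕ}, r.Prime → ℓ.Prime → 2 ≤ m → 3 ≤ Q → Q ^ m = ℓ ^ r → Q = ℓ := by
      intro Q m r ℓ hr hl hm hQ hQm
      obtain ⟨j, -, rfl⟩ := (Nat.dvd_prime_pow hl).mp (hQm ▸ dvd_pow_self Q (by omega))
      rw [← pow_mul] at hQm
      have hjm := Nat.pow_right_injective hl.two_le hQm
      rcases (Nat.dvd_prime hr).mp ⟨m, hjm.symm⟩ with rfl | rfl
      · exact pow_one _
      · exfalso
        have : j * 2 ≤ j * m := Nat.mul_le_mul_left j hm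
        have := hr.two_le
        omega
    refine fun H hH => proper_solvable p ?_ ?_ H hH
    · rcases h with ⟨r, hr, h⟩ | ⟨r, hr, hr2, h⟩ | ⟨-, -, h⟩ | h
      · rcases hr.eq_two_or_odd with rfl | hodd
        · exact Or.inr (Or.inl (by rw [h]; norm_num))
        · exact Or.inl (hmod5 (h ▸ pow2_mod5 r hodd))
      · exact Or.inl (hmod5 (h ▸ pow3_mod5 r (hr.eq_two_or_odd.resolve_left hr2)))
      · exact Or.inl (hmod5 h)
      · exact Or.inr (Or.inr h)
    · intro Q m hQ hm hQm
      rcases h with ⟨r, hr, h⟩ | ⟨r, hr, -, h⟩ | ⟨hpr, -, -⟩ | h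
      · have := hbase hr Nat.prime_two hm hQ (hQm.trans h); omega
      · exact hbase hr Nat.prime_three hm hQ (hQm.trans h)
      · exfalso
        rw [← hQm] at hpr
        exact (Nat.not_prime_iff_exists_dvd_lt hpr.two_le).mpr ⟨Q, dvd_pow_self Q (by omega), by omega,
          lt_self_pow₀ (by omega) (by omega)⟩ hpr
      · exfalso
        have : Q ^ 2 ≤ Q ^ m := Nat.pow_le_pow_right (by omega) hm
        have : 3 ^ 2 ≤ Q ^ 2 := Nat.pow_le_pow_left hQ 2
        omega

end Cfsg.Agent.S0810
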