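import Cfsg.Statements.S2758
import Cfsg.Agent.Lib.Involutions

set_option autoImplicit false
set_option linter.unusedVariables false
open Cfsg
open scoped commutatorElement

namespace Cfsg.Agent.S2758


theorem inv_of_norm {G : Type*} [Group G] [Finite G] {p : ℕ} [Fact p.Prime] (x : G) (P : Subgroup G)
    (hx : ∃ k : ℕ, orderOf x = 2 ^ k) (hP : IsPGroup p ↥P) (hN : x ∈ Subgroup.normalizer (P : Set G))
    (hC : x ∉ Subgroup.centralizer (P : Set G)) :
    ∃ z y : G, (∃ k : ℕ, orderOf z = 2 ^ k) ∧ (∃ k : ℕ, orderOf y = p ^ k) ∧ y ≠ 1 ∧ z * y * z⁻¹ = y⁻¹ := by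
  classical
  obtain ⟨k, hk⟩ := hx
  have hex : ∃ j : ℕ, x ^ 2 ^ j ∈ Subgroup.centralizer (P : Set G) :=
    ⟨k, by rw [← hk, pow_orderOf_eq_one]; exact Subgroup.one_mem _⟩
  have h0 : Nat.find hex ≠ 0 := fun h => hC (by simpa [h] using Nat.find_spec hex)
  obtain ⟨j, hj⟩ := Nat.exists_eq_succ_of_ne_zero h0
  set z := x ^ 2 ^ j with hz
  have hzN : z ∈ Subgroup.normalizer (P : Set G) := Subgroup.pow_mem _ hN _
  have hz2 : z * z ∈ Subgroup.centralizer (P : Set G) := by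
    have := Nat.find_spec hex
    rw [hj, pow_succ, pow_mul, sq] at this
    exact this
  have hzC : z ∉ Subgroup.centralizer (P : Set G) := Nat.find_min hex (by omega)
  obtain ⟨u, hu, hne⟩ : ∃ u ∈ P, u * z ≠ z * u := by
    by_contra h
    push Not at h
    exact hzC fun u hu => h u hu
  have hw : z * u * z⁻¹ * u⁻¹ ∈ P := P.mul_mem ((Subgroup.mem_normalizer_iff.mp hzN u).mp hu) (P.inv_mem hu)
  refine ⟨z, z * u * z⁻¹ * u⁻¹, ?_, ?_, ?_, ?_⟩
  · obtain ⟨i, -, hi⟩ := (Nat.dvd_prime_pow Nat.prime_two).mp (hk ▸ (orderOf_pow_dvd (2 ^ j) : orderOf z ∣ orderOf x))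
    exact ⟨i, hi⟩
  · obtain ⟨i, hi⟩ := IsPGroup.iff_orderOf.mp hP ⟨_, hw⟩
    exact ⟨i, by rw [← hi, Subgroup.orderOf_mk]⟩
  · intro h
    rw [mul_inv_eq_one, mul_inv_eq_iff_eq_mul] at h
    exact hne h.symm
  · have h1 : z * z * u * (z * z)⁻¹ = u := by rw [← hz2 u hu]; group
    calc z * (z * u * z⁻¹ * u⁻¹) * z⁻¹ = (z * z * u * (z * z)⁻¹) * (z * u⁻¹ * z⁻¹) := by group
      _ = (z * u * z⁻¹ * u⁻¹)⁻¹ := by rw [h1]; group

theorem norm_of_onto {G : Type*} [Group G] [Finite G] {p : ℕ} [Fact p.Prime] (hp : p ≠ 2)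
    (φ : G →* DihedralGroup p) (hφ : Function.Surjective φ) :
    ∃ (x : G) (P : Subgroup G), (∃ k : ℕ, orderOf x = 2 ^ k) ∧ IsPGroup p ↥P ∧
      x ∈ Subgroup.normalizer (P : Set G) ∧ x ∉ Subgroup.centralizer (P : Set G) := by
  haveI : NeZero p := ⟨(Fact.out : p.Prime).ne_zero⟩
  set C := Subgroup.zpowers (DihedralGroup.r (1 : ZMod p)) with hC
  have hr : ∀ i : ZMod p, DihedralGroup.r i ∈ C := fun i =>
    ⟨(i.cast : ℤ), by show DihedralGroup.r 1 ^ (i.cast : ℤ) = _; rw [DihedralGroup.r_one_zpow, ZMod.intCast_zmod_cast]⟩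
  have hsr : ∀ i : ZMod p, DihedralGroup.sr i ∉ C := by
    rintro i ⟨k, hk⟩
    rw [show (fun j : ℤ => DihedralGroup.r (1 : ZMod p) ^ j) k = DihedralGroup.r (k : ZMod p) from DihedralGroup.r_one_zpow k] at hk
    cases hk
  haveI hCn : C.Normal := ⟨fun a ha b => by
    cases a with
    | sr i => exact absurd ha (hsr i)
    | r i =>
      cases b with
      | r j => rw [DihedralGroup.inv_r, DihedralGroup.r_mul_r, DihedralGroup.r_mul_r]; exact hr _
      | sr j => rw [DihedralGroup.inv_sr, DihedralGroup.sr_mul_r, DihedralGroup.sr_mul_sr]; exact hr _⟩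
  set L := C.comap φ with hL
  obtain ⟨Q⟩ : Nonempty (Sylow p ↥L) := inferInstance
  set P := (Q : Subgroup ↥L).map L.subtype with hP
  obtain ⟨s, hs⟩ := hφ (DihedralGroup.sr 0)
  obtain ⟨n, hn, l, hl, e⟩ := Subgroup.mem_sup_of_normal_right.mp
    ((Sylow.normalizer_sup_eq_top Q).symm ▸ Subgroup.mem_top s)
  obtain ⟨j, hj⟩ : ∃ j : ZMod p, φ n = DihedralGroup.sr j := by
    rcases h : φ n with i | i
    · exfalso
      refine hsr 0 ?_
      rw [← hs, ← e, map_mul, h]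
      exact C.mul_mem (hr i) hl
    · exact ⟨i, rfl⟩
  have hne : P.map φ ≠ ⊥ := by
    intro h
    let g : ↥L →* ↥C := (φ.comp L.subtype).codRestrict C fun z => z.2
    have hg : Function.Surjective g := by
      rintro ⟨c, hc⟩
      obtain ⟨z, rfl⟩ := hφ c
      exact ⟨⟨z, hc⟩, rfl⟩
    have h1 : (Q : Subgroup ↥L).map g = ⊥ := by
      rw [Subgroup.eq_bot_iff_forall]
      rintro _ ⟨z, hz, rfl⟩
      exact Subtype.ext ((Subgroup.eq_bot_iff_forall _).mp h _ ⟨z, ⟨z, hz, rfl⟩, rfl⟩)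
    have h2 := Subgroup.index_map_dvd (Q : Subgroup ↥L) hg
    rw [h1, Subgroup.index_bot, hC, Nat.card_zpowers, DihedralGroup.orderOf_r_one] at h2
    exact Q.not_dvd_index h2
  obtain ⟨z, hz, hz1⟩ : ∃ z ∈ P.map φ, z ≠ 1 := by
    by_contra h
    push Not at h
    exact hne ((Subgroup.eq_bot_iff_forall _).mpr h)
  obtain ⟨u, hu, rfl⟩ := hz
  obtain ⟨i, hi⟩ : ∃ i : ZMod p, φ u = DihedralGroup.r i := by
    rcases h : φ u with i | i
    · exact ⟨i, rfl⟩
    · obtain ⟨w, hw, e'⟩ := hu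
      exact absurd (h ▸ (show φ u ∈ C from e' ▸ w.2)) (hsr i)
  obtain ⟨a, m, hm, ha⟩ : ∃ a m : ℕ, Odd m ∧ orderOf n = 2 ^ a * m := by
    refine ⟨_, _, Nat.not_even_iff_odd.mp fun h => ?_, (Nat.ordProj_mul_ordCompl_eq_self (orderOf n) 2).symm⟩
    exact Nat.not_dvd_ordCompl Nat.prime_two (orderOf_pos n).ne' h.two_dvd
  have hφm : φ (n ^ m) = DihedralGroup.sr j := by
    obtain ⟨t, rfl⟩ := hm
    rw [map_pow, hj, pow_add, pow_one, pow_mul, sq, DihedralGroup.sr_mul_self, one_pow, one_mul]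
  refine ⟨n ^ m, P, ⟨a, ?_⟩, Q.2.map _, Subgroup.pow_mem _ hn _, fun h => hz1 ?_⟩
  · rw [orderOf_pow, ha, Nat.gcd_eq_right (dvd_mul_left m _), Nat.mul_div_cancel _ hm.pos]
  · have h1 := congrArg φ (h u hu)
    rw [map_mul, map_mul, hφm, hi, DihedralGroup.r_mul_sr, DihedralGroup.sr_mul_r, DihedralGroup.sr.injEq] at h1
    have h2 : (2 : ZMod p) * i = 0 := by linear_combination -h1
    rcases mul_eq_zero.mp h2 with h3 | h3
    · have h4 : ((2 : ℕ) : ZMod p) = 0 := by exact_mod_cast h3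
      exact absurd ((Nat.prime_dvd_prime_iff_eq Fact.out Nat.prime_two).mp ((ZMod.natCast_eq_zero_iff 2 p).mp h4)) hp
    · rw [hi, h3]; rfl

theorem involves_of_inv {G : Type*} [Group G] [Finite G] {p : ℕ} [Fact p.Prime] (hp : p ≠ 2) (x y : G)
    (hy : ∃ k : ℕ, orderOf y = p ^ k) (hy1 : y ≠ 1) (hxy : x * y * x⁻¹ = y⁻¹) :
    Cfsg.Involves (DihedralGroup p) G := by
  obtain ⟨k, hk⟩ := hy
  obtain ⟨k, rfl⟩ := Nat.exists_eq_succ_of_ne_zero (show k ≠ 0 by
    rintro rfl; exact hy1 (orderOf_eq_one_iff.mp (by simpa using hk)))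
  set u := y ^ p ^ k with hu
  have huo : orderOf u = p := by
    rw [hu, orderOf_pow, hk, Nat.gcd_eq_right (pow_dvd_pow p (Nat.le_succ k)), pow_succ,
      Nat.mul_div_cancel_left _ (pow_pos (Fact.out : p.Prime).pos k)]
  have hxu : x * u * x⁻¹ = u⁻¹ := by rw [hu, ← conj_pow, hxy, inv_pow]
  have hu1 : u ≠ 1 := fun h => (Fact.out : p.Prime).ne_one (by rw [← huo, h, orderOf_one])
  set K := Subgroup.closure ({x, u} : Set G) with hK
  set R := Subgroup.zpowers (x * x) with hR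
  have hc : Commute (x * x) u := by
    show x * x * u = u * (x * x)
    calc x * x * u = x * (x * u * x⁻¹) * x := by group
      _ = x * u⁻¹ * x := by rw [hxu]
      _ = (x * u * x⁻¹)⁻¹ * (x * x) := by group
      _ = u * (x * x) := by rw [hxu, inv_inv]
  have hcK : ∀ w ∈ K, Commute (x * x) w := by
    intro w hw
    induction hw using Subgroup.closure_induction with
    | mem w hw =>
      rcases hw with rfl | rfl
      · exact ((Commute.refl w).mul_left (Commute.refl w))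
      · exact hc
    | one => exact Commute.one_right _
    | mul a b _ _ ha hb => exact ha.mul_right hb
    | inv a _ ha => exact ha.inv_right
  haveI hRn : (R.subgroupOf K).Normal := ⟨fun r hr w => by
    rw [Subgroup.mem_subgroupOf] at hr ⊢
    obtain ⟨i, hi⟩ := hr
    push_cast
    rw [show (w : G) * r * (w : G)⁻¹ = r by
      rw [← hi, ← ((hcK w w.2).zpow_left i).eq, mul_inv_cancel_right]]
    exact ⟨i, hi⟩⟩
  refine ⟨K, R, hRn, ?_⟩
  set f := QuotientGroup.mk' (R.subgroupOf K) with hf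
  set a := f ⟨x, Subgroup.subset_closure (Or.inl rfl)⟩ with ha
  set c := f ⟨u, Subgroup.subset_closure (Or.inr rfl)⟩ with hcdef
  have hcp : c ^ p = 1 := by
    rw [hcdef, ← map_pow, show (⟨u, _⟩ : ↥K) ^ p = 1 from Subtype.ext (by push_cast; rw [← huo, pow_orderOf_eq_one]), map_one]
  have hone : ∀ (w : ↥K), f w = 1 ↔ (w : G) ∈ R := fun w => by
    rw [hf, QuotientGroup.mk'_apply, QuotientGroup.eq_one_iff, Subgroup.mem_subgroupOf]
  have hRu : u ∉ R := by
    rintro ⟨i, hi⟩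
    have h1 : Commute x u := hi ▸ ((Commute.refl x).mul_right (Commute.refl x)).zpow_right i
    have h2 : u⁻¹ = u := by rw [← hxu, h1.eq, mul_inv_cancel_right]
    have h3 : u ^ 2 = 1 := by rw [sq]; exact inv_eq_iff_mul_eq_one.mp h2
    exact hp ((Nat.prime_dvd_prime_iff_eq Fact.out Nat.prime_two).mp (huo ▸ orderOf_dvd_of_pow_eq_one h3))
  have hco : orderOf c = p := orderOf_eq_prime hcp (fun h => hRu ((hone _).mp h))
  have ha2 : a * a = 1 := by rw [ha, ← map_mul, hone]; exact Subgroup.mem_zpowers _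
  have hac : a * c * a⁻¹ = c⁻¹ := by
    rw [ha, hcdef, ← map_inv, ← map_inv, ← map_mul, ← map_mul]
    exact congrArg f (Subtype.ext hxu)
  have hb2 : a * c * (a * c) = 1 := by
    calc a * c * (a * c) = (a * c * a⁻¹) * (a * a) * c := by group
      _ = 1 := by rw [hac, ha2]; group
  have hne : a ≠ 1 := fun h => by
    rw [h] at hac
    simp only [one_mul, inv_one, mul_one] at hac
    have h3 : c ^ 2 = 1 := by rw [sq]; exact inv_eq_iff_mul_eq_one.mp hac.symm
    exact hp ((Nat.prime_dvd_prime_iff_eq Fact.out Nat.prime_two).mp (hco ▸ orderOf_dvd_of_pow_eq_one h3))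
  have hacne : a * c ≠ 1 := fun h => by
    have h1 : c = a⁻¹ := eq_inv_of_mul_eq_one_right h
    have h2 : c ^ 2 = 1 := by rw [h1, inv_pow, sq, ha2, inv_one]
    exact hp ((Nat.prime_dvd_prime_iff_eq Fact.out Nat.prime_two).mp (hco ▸ orderOf_dvd_of_pow_eq_one h2))
  have hao : orderOf a = 2 := CfsgLib.Involutions.orderOf_eq_two_iff'.mpr ⟨ha2, hne⟩
  have hbo : orderOf (a * c) = 2 := CfsgLib.Involutions.orderOf_eq_two_iff'.mpr ⟨hb2, hacne⟩
  have hab : a * (a * c) = c := by rw [← mul_assoc, ha2, one_mul]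
  have hinj := CfsgLib.Involutions.toClosure_injective hao hbo (fun h => by
    rw [left_eq_mul] at h; rw [h, orderOf_one] at hco; exact (Fact.out : p.Prime).ne_one hco.symm)
  have hsurj : Function.Surjective (CfsgLib.Involutions.toClosure a (a * c) ha2 hb2) := by
    intro q
    rw [← MonoidHom.mem_range, CfsgLib.Involutions.toClosure_range ha2 hb2]
    obtain ⟨⟨w, hw⟩, rfl⟩ := QuotientGroup.mk'_surjective _ q
    set T := Subgroup.closure ({a, a * c} : Set (↥K ⧸ R.subgroupOf K)) with hT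
    have hcT : c ∈ T := hab ▸ T.mul_mem (Subgroup.subset_closure (Or.inl rfl)) (Subgroup.subset_closure (Or.inr rfl))
    induction hw using Subgroup.closure_induction with
    | mem w hw =>
      rcases hw with rfl | rfl
      · exact Subgroup.subset_closure (Or.inl rfl)
      · exact hcT
    | one => exact (map_one f).symm ▸ T.one_mem
    | mul v w hv hw iv iw =>
      rw [show (⟨v * w, _⟩ : ↥K) = ⟨v, hv⟩ * ⟨w, hw⟩ from rfl, map_mul]; exact T.mul_mem iv iw
    | inv v hv iv =>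
      rw [show (⟨v⁻¹, _⟩ : ↥K) = (⟨v, hv⟩ : ↥K)⁻¹ from rfl, map_inv]; exact T.inv_mem iv
  have e := MulEquiv.ofBijective (CfsgLib.Involutions.toClosure a (a * c) ha2 hb2) ⟨hinj, hsurj⟩
  rw [hab, hco] at e
  exact ⟨e.symm⟩

/-- For an odd prime p and a finite group G the following are equivalent: the dihedral group of order 2p is involved in G; some element of 2-power order normalizes but does not centralize some p-subgroup of G; some element of 2-power order inverts some nonidentity element of p-power order. -/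
theorem result {G : Type*} [Group G] [Finite G] {p : ℕ} [Fact p.Prime] (hp : p ≠ 2) : (Cfsg.Involves (DihedralGroup p) G ↔ ∃ (x : G) (P : Subgroup G), (∃ k : ℕ, orderOf x = 2 ^ k) ∧ IsPGroup p ↥P ∧ x ∈ Subgroup.normalizer (P : Set G) ∧ x ∉ Subgroup.centralizer (P : Set G)) ∧ (Cfsg.Involves (DihedralGroup p) G ↔ ∃ x y : G, (∃ k : ℕ, orderOf x = 2 ^ k) ∧ (∃ k : ℕ, orderOf y = p ^ k) ∧ y ≠ 1 ∧ x * y * x⁻¹ = y⁻¹) := by
  have hba : Cfsg.Involves (DihedralGroup p) G → ∃ (x : G) (P : Subgroup G), (∃ k : ℕ, orderOf x = 2 ^ k) ∧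
      IsPGroup p ↥P ∧ x ∈ Subgroup.normalizer (P : Set G) ∧ x ∉ Subgroup.centralizer (P : Set G) := by
    rintro ⟨K, R, hRn, ⟨e⟩⟩
    haveI := hRn
    obtain ⟨x, P, ⟨k, hk⟩, hP, hN, hC⟩ := norm_of_onto hp (e.toMonoidHom.comp (QuotientGroup.mk' (R.subgroupOf K)))
      (e.surjective.comp (QuotientGroup.mk'_surjective _))
    refine ⟨x, P.map K.subtype, ⟨k, by rw [← hk, Subgroup.orderOf_coe]⟩, hP.map _,
      Subgroup.le_normalizer_map _ ⟨x, hN, rfl⟩, fun h => hC fun q hq => ?_⟩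
    exact Subtype.ext (h (q : G) ⟨q, hq, rfl⟩)
  refine ⟨⟨hba, fun ⟨x, P, hx, hP, hN, hC⟩ => ?_⟩, ⟨fun h => ?_, fun ⟨x, y, _, hy, hy1, hxy⟩ => involves_of_inv hp x y hy hy1 hxy⟩⟩
  · obtain ⟨z, y, -, hy, hy1, hzy⟩ := inv_of_norm x P hx hP hN hC
    exact involves_of_inv hp z y hy hy1 hzy
  · obtain ⟨x, P, hx, hP, hN, hC⟩ := hba h
    exact inv_of_norm x P hx hP hN hC

end Cfsg.Agent.S2758
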