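import Cfsg.Statements.S2119
import Cfsg.Agent.Lib.Perm.AutAlt

set_option autoImplicit false
open Cfsg

namespace Cfsg.Agent.S2119

/-- Automorphisms of the alternating groups: for n ≥ 4 with n ≠ 6, every automorphism of the alternating group of degree n is conjugation by a unique permutation, i.e. conjugation induces an isomorphism from the symmetric group of degree n onto the automorphism group of the alternating group (so the outer automorphism group has order 2). -/
theorem result (n : ℕ) (hn : 4 ≤ n) (h6 : n ≠ 6) : Function.Bijective (MulAut.conjNormal : Equiv.Perm (Fin n) →* MulAut ↥(alternatingGroup (Fin n))) := by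
  classical
  refine ⟨?_, ?_⟩
  · rw [injective_iff_map_eq_one]
    intro σ hσ
    refine Equiv.ext fun a => ?_
    rw [Equiv.Perm.one_apply]
    by_contra ha
    obtain ⟨b, hb, c, hc, hbc⟩ : ∃ b ∈ ({a, σ a} : Finset (Fin n))ᶜ, ∃ c ∈ ({a, σ a} : Finset (Fin n))ᶜ, b ≠ c := by
      refine Finset.one_lt_card.mp ?_
      have : ({a, σ a} : Finset (Fin n)).card ≤ 2 := Finset.card_le_two
      rw [Finset.card_compl, Fintype.card_fin]
      omega
    simp only [Finset.mem_compl, Finset.mem_insert, Finset.mem_singleton, not_or] at hb hc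
    have h3 := CfsgLib.AutAlt.isThreeCycle_cyc (Ne.symm hb.1) (Ne.symm hc.1) hbc
    have he := congrArg (fun f : MulAut (alternatingGroup (Fin n)) =>
      ((f ⟨_, h3.mem_alternatingGroup⟩ : alternatingGroup (Fin n)) : Equiv.Perm (Fin n))) hσ
    simp only [MulAut.conjNormal_apply, MulAut.one_apply] at he
    rw [CfsgLib.AutAlt.conj_cyc] at he
    have h1 := congrArg (fun f : Equiv.Perm (Fin n) => f (σ a)) he
    beta_reduce at h1
    rw [CfsgLib.AutAlt.cyc_fix ha (Ne.symm hb.2) (Ne.symm hc.2), CfsgLib.AutAlt.cyc_a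
      (fun e => hb.1 (σ.injective e).symm) (fun e => hc.1 (σ.injective e).symm)] at h1
    exact hb.1 (σ.injective h1)
  · intro φ
    set o : Fin n := ⟨0, by omega⟩ with ho
    set l : Fin n := ⟨1, by omega⟩ with hl
    have hol : o ≠ l := by simp [ho, hl, Fin.ext_iff]
    have hne : ∀ i : Fin n, 2 ≤ (i : ℕ) → i ≠ o ∧ i ≠ l := fun i hi => by
      constructor <;> (intro e; rw [e] at hi; simp [ho, hl] at hi)
    have hx : ∀ i : Fin n, 2 ≤ (i : ℕ) → Equiv.Perm.IsThreeCycle (CfsgLib.AutAlt.cyc o l i) :=
      fun i hi => CfsgLib.AutAlt.isThreeCycle_cyc hol (hne i hi).1.symm (hne i hi).2.symm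
    let y : {i : Fin n // 2 ≤ (i : ℕ)} → Equiv.Perm (Fin n) :=
      fun i => (φ ⟨_, (hx i.1 i.2).mem_alternatingGroup⟩ : alternatingGroup (Fin n))
    have hy : ∀ i, Equiv.Perm.IsThreeCycle (y i) := fun i =>
      CfsgLib.AutAlt.image_isThreeCycle (by rw [Fintype.card_fin]; omega) (by rw [Fintype.card_fin]; omega)
        φ _ (hx i.1 i.2)
    have hyinj : Function.Injective y := by
      intro i j e
      have e1 := congrArg Subtype.val (φ.injective (Subtype.ext e))
      have e2 := congrArg (fun f : Equiv.Perm (Fin n) => f l) e1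
      beta_reduce at e2
      rw [CfsgLib.AutAlt.cyc_b (hne i.1 i.2).1.symm (hne i.1 i.2).2.symm,
        CfsgLib.AutAlt.cyc_b (hne j.1 j.2).1.symm (hne j.1 j.2).2.symm] at e2
      exact Subtype.ext e2
    have hpair : ∀ i j, i ≠ j → ∃ a, y i a ≠ a ∧ y j a = y i a ∧ y j (y i a) ≠ y i (y i a) := by
      intro i j hij
      have hij' : i.1 ≠ j.1 := fun e => hij (Subtype.ext e)
      obtain ⟨hio, hil⟩ := hne i.1 i.2
      obtain ⟨hjo, hjl⟩ := hne j.1 j.2
      have e0 : ∀ z, CfsgLib.AutAlt.cyc o l i.1 (CfsgLib.AutAlt.cyc o l j.1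
          (CfsgLib.AutAlt.cyc o l i.1 (CfsgLib.AutAlt.cyc o l j.1 z))) = z := by
        intro z
        by_cases z1 : z = o
        · rw [z1, CfsgLib.AutAlt.cyc_a hol hjo.symm, CfsgLib.AutAlt.cyc_b hio.symm hil.symm,
            CfsgLib.AutAlt.cyc_fix hio hil hij', CfsgLib.AutAlt.cyc_c]
        by_cases z2 : z = l
        · rw [z2, CfsgLib.AutAlt.cyc_b hjo.symm hjl.symm, CfsgLib.AutAlt.cyc_fix hjo hjl (Ne.symm hij'),
            CfsgLib.AutAlt.cyc_c, CfsgLib.AutAlt.cyc_a hol hio.symm]
        by_cases z3 : z = i.1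
        · rw [z3, CfsgLib.AutAlt.cyc_fix hio hil hij', CfsgLib.AutAlt.cyc_c,
            CfsgLib.AutAlt.cyc_a hol hjo.symm, CfsgLib.AutAlt.cyc_b hio.symm hil.symm]
        by_cases z4 : z = j.1
        · rw [z4, CfsgLib.AutAlt.cyc_c, CfsgLib.AutAlt.cyc_a hol hio.symm,
            CfsgLib.AutAlt.cyc_b hjo.symm hjl.symm, CfsgLib.AutAlt.cyc_fix hjo hjl (Ne.symm hij')]
        rw [CfsgLib.AutAlt.cyc_fix z1 z2 z4, CfsgLib.AutAlt.cyc_fix z1 z2 z3,
          CfsgLib.AutAlt.cyc_fix z1 z2 z4, CfsgLib.AutAlt.cyc_fix z1 z2 z3]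
      set gi : alternatingGroup (Fin n) := ⟨_, (hx i.1 i.2).mem_alternatingGroup⟩
      set gj : alternatingGroup (Fin n) := ⟨_, (hx j.1 j.2).mem_alternatingGroup⟩
      have h2 : gi * gj * (gi * gj) = 1 := Subtype.ext (Equiv.ext fun z => by
        simpa [gi, gj] using e0 z)
      have h1 : gi * gj ≠ 1 := by
        intro e
        have := congrArg (fun g : alternatingGroup (Fin n) => (g : Equiv.Perm (Fin n)) o) e
        simp [gi, gj, CfsgLib.AutAlt.cyc_a hol hjo.symm, CfsgLib.AutAlt.cyc_b hio.symm hil.symm] at this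
        exact hio this
      refine CfsgLib.AutAlt.share_edge (hy i) (hy j) ?_ ?_
      · exact congrArg Subtype.val (show φ gi * φ gj * (φ gi * φ gj) = 1 by
          rw [← map_mul, ← map_mul, h2, map_one])
      · intro e
        refine h1 (φ.injective ?_)
        rw [map_mul, map_one]
        exact Subtype.ext e
    set i0 : {i : Fin n // 2 ≤ (i : ℕ)} := ⟨⟨2, by omega⟩, le_refl 2⟩ with hi0
    set i1 : {i : Fin n // 2 ≤ (i : ℕ)} := ⟨⟨3, by omega⟩, by simp⟩ with hi1
    have h01 : i0 ≠ i1 := by simp [hi0, hi1, Subtype.ext_iff, Fin.ext_iff]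
    obtain ⟨a, ha0, ha1, hcd⟩ := hpair i0 i1 h01
    obtain ⟨hab, hac, hbc, h03, -⟩ := CfsgLib.AutAlt.exists_cyc (hy i0) ha0
    have ha1' : y i1 a ≠ a := by rw [ha1]; exact ha0
    obtain ⟨-, had, hbd, h13, -⟩ := CfsgLib.AutAlt.exists_cyc (hy i1) ha1'
    rw [ha1] at had hbd h13
    set b := y i0 a with hb
    set c := y i0 b with hc
    set d := y i1 b with hd
    have hall : ∀ k, y k a = b := by
      intro k
      by_cases hk0 : k = i0
      · rw [hk0]
      by_cases hk1 : k = i1
      · rw [hk1, ha1]
      obtain ⟨p, hp, hkp, -⟩ := hpair i0 k (Ne.symm hk0)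
      obtain ⟨q, hq, hkq, -⟩ := hpair i1 k (Ne.symm hk1)
      rcases CfsgLib.AutAlt.moved_of_three (hy i0) ha0 hp with e | e | e
      · rw [e] at hkp; exact hkp
      all_goals rcases CfsgLib.AutAlt.moved_of_three (hy i1) ha1' hq with f | f | f
      all_goals subst e
      all_goals subst f
      · exact hkq.trans ha1
      · rw [ha1, ← hd] at hkq
        rw [← hc] at hkp
        exact absurd (hkq.symm.trans hkp) hcd
      · exfalso
        rw [ha1, ← hd, h13] at hkq
        rw [← hc] at hkp
        have hcard := (hy k).card_support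
        have : ({b, c, d, a} : Finset (Fin n)) ⊆ (y k).support := by
          intro z hz
          simp only [Finset.mem_insert, Finset.mem_singleton] at hz
          rw [Equiv.Perm.mem_support]
          rcases hz with rfl | rfl | rfl | rfl
          · rw [hkp]; exact hbc.symm
          · intro e; exact hbc ((y k).injective (hkp.trans e.symm))
          · rw [hkq]; exact had
          · intro e; exact had ((y k).injective (e.trans hkq.symm))
        have := Finset.card_le_card this
        rw [Finset.card_insert_of_notMem (by simp [hbc, hbd, hab.symm]),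
          Finset.card_insert_of_notMem (by simp [Ne.symm hcd, hac.symm]),
          Finset.card_insert_of_notMem (by simp [had.symm]), Finset.card_singleton] at this
        omega
      · exact hkq.trans ha1
      · exfalso
        rw [ha1, ← hd] at hkq
        rw [← hc, h03] at hkp
        have hcard := (hy k).card_support
        have : ({b, c, d, a} : Finset (Fin n)) ⊆ (y k).support := by
          intro z hz
          simp only [Finset.mem_insert, Finset.mem_singleton] at hz
          rw [Equiv.Perm.mem_support]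
          rcases hz with rfl | rfl | rfl | rfl
          · rw [hkq]; exact hbd.symm
          · rw [hkp]; exact hac
          · intro e; exact hbd ((y k).injective (hkq.trans e.symm))
          · intro e; exact hac ((y k).injective (e.trans hkp.symm))
        have := Finset.card_le_card this
        rw [Finset.card_insert_of_notMem (by simp [hbc, hbd, hab.symm]),
          Finset.card_insert_of_notMem (by simp [Ne.symm hcd, hac.symm]),
          Finset.card_insert_of_notMem (by simp [had.symm]), Finset.card_singleton] at this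
        omega
      · exfalso
        rw [ha1, ← hd, h13] at hkq
        rw [← hc, h03] at hkp
        exact hcd ((y k).injective (hkq.trans hkp.symm))
    have hcycle : ∀ k, a ≠ y k b ∧ b ≠ y k b ∧ y k = CfsgLib.AutAlt.cyc a b (y k b) := by
      intro k
      obtain ⟨-, h2, h3, -, h4⟩ := CfsgLib.AutAlt.exists_cyc (hy k) (a := a) (by rw [hall k]; exact ha0)
      rw [hall k] at h2 h3 h4
      exact ⟨h2, h3, h4⟩
    let f : Fin n → Fin n := fun i => if h : 2 ≤ (i : ℕ) then y ⟨i, h⟩ b else if i = o then a else b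
    have hlt : ∀ i : Fin n, ¬ 2 ≤ (i : ℕ) → i = o ∨ i = l := fun i hi => by
      rcases (show (i : ℕ) = 0 ∨ (i : ℕ) = 1 by omega) with e | e
      · exact Or.inl (Fin.ext (by simp [ho, e]))
      · exact Or.inr (Fin.ext (by simp [hl, e]))
    have hfo : f o = a := by simp [f, ho]
    have hfl : f l = b := by simp [f, hl, ho]
    have hfi : ∀ i : Fin n, ∀ h : 2 ≤ (i : ℕ), f i = y ⟨i, h⟩ b := fun i h => dif_pos h
    have hfinj : Function.Injective f := by
      intro i j e
      by_cases hi : 2 ≤ (i : ℕ) <;> by_cases hj : 2 ≤ (j : ℕ)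
      · rw [hfi i hi, hfi j hj] at e
        have : y ⟨i, hi⟩ = y ⟨j, hj⟩ := by rw [(hcycle _).2.2, (hcycle ⟨j, hj⟩).2.2, e]
        exact congrArg Subtype.val (hyinj this)
      · rw [hfi i hi] at e
        rcases hlt j hj with rfl | rfl
        · rw [hfo] at e; exact absurd e.symm (hcycle _).1
        · rw [hfl] at e; exact absurd e.symm (hcycle _).2.1
      · rw [hfi j hj] at e
        rcases hlt i hi with rfl | rfl
        · rw [hfo] at e; exact absurd e (hcycle _).1
        · rw [hfl] at e; exact absurd e (hcycle _).2.1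
      · rcases hlt i hi with rfl | rfl <;> rcases hlt j hj with rfl | rfl
        · rfl
        · rw [hfo, hfl] at e; exact absurd e hab
        · rw [hfo, hfl] at e; exact absurd e.symm hab
        · rfl
    set σ : Equiv.Perm (Fin n) := Equiv.ofBijective f (Finite.injective_iff_bijective.mp hfinj)
    refine ⟨σ, MulEquiv.ext fun g => ?_⟩
    set K : Subgroup (alternatingGroup (Fin n)) :=
      (MulAut.conjNormal σ).toMonoidHom.eqLocus φ.toMonoidHom
    have hK : alternatingGroup (Fin n) ≤ K.map (alternatingGroup (Fin n)).subtype := by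
      conv_lhs => rw [← CfsgLib.AutAlt.closure_base n (by omega)]
      rw [Subgroup.closure_le]
      rintro _ ⟨i, hi, rfl⟩
      refine ⟨⟨_, (hx i hi).mem_alternatingGroup⟩, ?_, rfl⟩
      show MulAut.conjNormal σ _ = φ _
      refine Subtype.ext ?_
      rw [MulAut.conjNormal_apply, CfsgLib.AutAlt.conj_cyc]
      show CfsgLib.AutAlt.cyc (f o) (f l) (f i) = y ⟨i, hi⟩
      rw [hfo, hfl, hfi i hi, ← (hcycle _).2.2]
    obtain ⟨g', hg', e⟩ := hK g.2
    obtain rfl : g' = g := Subtype.ext e
    exact hg'

end Cfsg.Agent.S2119
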