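import Cfsg.Statements.S0678
import Mathlib
import Cfsg.Agent.Lib.CharTheory.Burnside
import Cfsg.Agent.Lib.Solvable.HallSystem
-- import your own Cfsg.Agent.* helpers here

set_option autoImplicit false
open Cfsg

namespace Cfsg.Agent.S0678

open Equiv Equiv.Perm

variable {α : Type*} [Fintype α] [DecidableEq α]

/-- A subgroup of order the full `p`-part of the symmetric group contains a conjugate of any `p`-element. -/
private theorem exists_conj_mem (hα : Fintype.card α = 7) {p k : ℕ} [Fact p.Prime] (hk : (Nat.factorial 7).factorization p = k)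
    {G : Subgroup (Equiv.Perm α)} (hd : p ^ k ∣ Nat.card G) {c : Equiv.Perm α} (hc : orderOf c = p) :
    ∃ g : Equiv.Perm α, g * c * g⁻¹ ∈ G := by
  obtain ⟨Kb, hKb⟩ := Sylow.exists_subgroup_card_pow_prime (G := G) p hd
  set K := Kb.map G.subtype
  have hKc : Nat.card K = p ^ (Nat.card (Equiv.Perm α)).factorization p := by
    rw [Subgroup.card_map_of_injective G.subtype_injective, hKb, Nat.card_perm, Nat.card_eq_fintype_card, hα, hk]
  obtain ⟨P, hP⟩ := (IsPGroup.of_card (n := 1) (by rw [Nat.card_zpowers, hc, pow_one]) : IsPGroup p (Subgroup.zpowers c)).exists_le_sylow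
  obtain ⟨g, hg⟩ := MulAction.exists_smul_eq (Equiv.Perm α) P (Sylow.ofCard K hKc)
  refine ⟨g, ?_⟩
  have h1 : g * c * g⁻¹ ∈ ((g • P : Sylow p (Equiv.Perm α)) : Subgroup (Equiv.Perm α)) := by
    rw [Sylow.coe_subgroup_smul]
    exact ⟨c, hP (Subgroup.mem_zpowers c), rfl⟩
  rw [hg, Sylow.coe_ofCard] at h1
  exact Subgroup.map_subtype_le _ h1

/-- A non-solvable transitive permutation group on 7 points that does not contain the alternating group is a simple group of order 168. -/
theorem result {α : Type*} [Fintype α] [DecidableEq α] (hα : Fintype.card α = 7) (G : Subgroup (Equiv.Perm α)) [MulAction.IsPretransitive G α] (hG : ¬ Group.IsSolvable G) (hA : ¬ alternatingGroup α ≤ G) : Nat.card G = 168 ∧ IsSimpleGroup G := by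
  classical
  have hα' : Nat.card α = 7 := by rw [Nat.card_eq_fintype_card, hα]
  haveI h7 : Fact (Nat.Prime 7) := ⟨by norm_num⟩
  haveI : MulAction.IsPreprimitive G α := MulAction.IsPreprimitive.of_prime_card (by rw [hα']; norm_num)
  have hno3 : ∀ g : Equiv.Perm α, g.IsThreeCycle → g ∉ G := fun g hg hgG =>
    hA (alternatingGroup_le_of_isPreprimitive_of_isThreeCycle_mem inferInstance hg hgG)
  have hno2 : ∀ g : Equiv.Perm α, g.IsSwap → g ∉ G := fun g hg hgG =>
    hA ((subgroup_eq_top_of_isPreprimitive_of_isSwap_mem inferInstance g hg hgG).symm ▸ le_top)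
  obtain ⟨a, b, c, hab, hac, hbc⟩ : ∃ a b c : α, a ≠ b ∧ a ≠ c ∧ b ≠ c := Fintype.two_lt_card_iff.mp (by omega)
  have h9 : ¬ 3 ^ 2 ∣ Nat.card G := fun h => by
    haveI : Fact (Nat.Prime 3) := ⟨Nat.prime_three⟩
    have hcyc : (Equiv.swap a b * Equiv.swap a c).IsThreeCycle := Equiv.Perm.isThreeCycle_swap_mul_swap_same hab hac hbc
    obtain ⟨g, hg⟩ := exists_conj_mem hα (p := 3) (k := 2) (by decide +kernel) h hcyc.orderOf
    refine hno3 _ ?_ hg
    unfold Equiv.Perm.IsThreeCycle at hcyc ⊢
    rw [Equiv.Perm.cycleType_conj]; exact hcyc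
  have h16 : ¬ 2 ^ 4 ∣ Nat.card G := fun h => by
    haveI : Fact (Nat.Prime 2) := ⟨Nat.prime_two⟩
    obtain ⟨g, hg⟩ := exists_conj_mem hα (p := 2) (k := 4) (by decide +kernel) h (c := Equiv.swap a b)
      (orderOf_eq_prime (by rw [pow_two, Equiv.swap_mul_self]) fun e => hab (by simpa using congrFun (congrArg DFunLike.coe e) b))
    refine hno2 _ ?_ hg
    exact ⟨g a, g b, g.injective.ne hab, by rw [← Equiv.swap_apply_apply]⟩
  -- orders
  have hdvd : Nat.card G ∣ 5040 := by
    have := Subgroup.card_subgroup_dvd_card G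
    rwa [Nat.card_perm, hα'] at this
  have h7G : 7 ∣ Nat.card G := by
    obtain ⟨x⟩ : Nonempty α := ⟨a⟩
    rw [← hα', ← MulAction.index_stabilizer_of_transitive G x]
    exact Subgroup.index_dvd_card _
  obtain ⟨P⟩ : Nonempty (Sylow 7 G) := inferInstance
  have hPc : Nat.card (P : Subgroup G) = 7 := by
    rw [P.card_eq_multiplicity]
    have h1 : (Nat.card G).factorization 7 ≤ 1 := by
      have := (Nat.factorization_le_iff_dvd Nat.card_pos.ne' (by norm_num)).mpr hdvd 7
      have e : (5040 : ℕ).factorization 7 = 1 := by decide +kernel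
      omega
    have h2 : 0 < (Nat.card G).factorization 7 := h7.out.factorization_pos_of_dvd Nat.card_pos.ne' h7G
    rw [show (Nat.card G).factorization 7 = 1 by omega, pow_one]
  haveI : IsCyclic (P : Subgroup G) := isCyclic_of_prime_card hPc
  -- the normalizer of `P` is solvable, of order `7 d`, `d ∣ 6`
  set N := Subgroup.normalizer ((P : Subgroup G) : Set G) with hN
  obtain ⟨σ, hσ⟩ := IsCyclic.exists_generator (α := (P : Subgroup G))
  have hσ7 : orderOf σ = 7 := by rw [orderOf_eq_card_of_forall_mem_zpowers hσ, hPc]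
  have hσcyc : ((σ : G) : Equiv.Perm α).IsCycle ∧ ((σ : G) : Equiv.Perm α).support = Finset.univ := by
    have ho : orderOf ((σ : G) : Equiv.Perm α) = 7 := by rw [Subgroup.orderOf_coe, Subgroup.orderOf_coe, hσ7]
    have hcy := Equiv.Perm.isCycle_of_prime_order'' (by rw [hα]; norm_num) (by rw [ho, hα])
    exact ⟨hcy, Finset.eq_univ_of_card _ (by rw [← hcy.orderOf, ho, hα])⟩
  let ι : N →* MulAut (P : Subgroup G) := Subgroup.normalizerMonoidHom (P : Subgroup G)
  have hker : ∀ n : N, ι n = 1 → (n : G) ∈ (P : Subgroup G) := fun n hn => by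
    have hc : (n : G) * (σ : G) * (n : G)⁻¹ = (σ : G) := congrArg Subtype.val (DFunLike.congr_fun hn σ)
    have hcomm : ∀ y, ((n : G) : Equiv.Perm α) (((σ : G) : Equiv.Perm α) y) = ((σ : G) : Equiv.Perm α) (((n : G) : Equiv.Perm α) y) := fun y =>
      congrArg (fun g : G => (g : Equiv.Perm α) y) (mul_inv_eq_iff_eq_mul.mp hc)
    have hmem : ∀ y, y ∈ ((σ : G) : Equiv.Perm α).support := fun y => hσcyc.2 ▸ Finset.mem_univ y
    obtain ⟨i, hi⟩ := hσcyc.1.sameCycle (Equiv.Perm.mem_support.mp (hmem a)) (Equiv.Perm.mem_support.mp (hmem (((n : G) : Equiv.Perm α) a)))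
    have hpow : ∀ (j : ℤ) y, ((n : G) : Equiv.Perm α) ((((σ : G) : Equiv.Perm α) ^ j) y) = (((σ : G) : Equiv.Perm α) ^ j) (((n : G) : Equiv.Perm α) y) := fun j y => by
      have h : Commute ((n : G) : Equiv.Perm α) ((σ : G) : Equiv.Perm α) := Equiv.ext hcomm
      exact congrArg (fun g : Equiv.Perm α => g y) (h.zpow_right j).eq
    have e : (n : G) = (σ : G) ^ i := by
      refine Subtype.ext (Equiv.ext fun y => ?_)
      obtain ⟨j, rfl⟩ := hσcyc.1.sameCycle (Equiv.Perm.mem_support.mp (hmem a)) (Equiv.Perm.mem_support.mp (hmem y))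
      rw [Subgroup.coe_zpow, hpow, ← hi, ← Equiv.Perm.mul_apply, ← Equiv.Perm.mul_apply, ← zpow_add, ← zpow_add, add_comm]
    rw [e]
    exact Subgroup.zpow_mem _ σ.2 i
  have hkerc : Nat.card ι.ker ∣ 7 := by
    refine dvd_trans ?_ hPc.dvd
    rw [← Nat.card_congr (ι.ker.equivMapOfInjective N.subtype N.subtype_injective).toEquiv.symm]
    exact Subgroup.card_dvd_of_le (by rintro _ ⟨n, hn, rfl⟩; exact hker n hn)
  have hNd : ∃ d, d ∣ 6 ∧ Nat.card N = 7 * d := by
    have h1 : Nat.card N = Nat.card ι.ker * Nat.card ι.range := by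
      rw [← ι.ker.card_mul_index, Subgroup.index_ker]
    have h2 : Nat.card ι.range ∣ 6 := by
      have h3 := Subgroup.card_subgroup_dvd_card ι.range
      rwa [IsCyclic.card_mulAut, hPc, Nat.totient_prime h7.out] at h3
    have h7N : 7 ∣ Nat.card N := hPc ▸ Subgroup.card_dvd_of_le Subgroup.le_normalizer
    rcases (Nat.dvd_prime h7.out).mp hkerc with e | e
    · rw [e, one_mul] at h1
      rw [h1] at h7N
      exact absurd (Nat.le_of_dvd (by norm_num) (h7N.trans h2)) (by norm_num)
    · exact ⟨_, h2, by rw [h1, e]⟩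
  haveI hNsolv : Group.IsSolvable N := by
    haveI : Group.IsSolvable ι.ker := by
      rcases (Nat.dvd_prime h7.out).mp hkerc with e | e
      · haveI := (Nat.card_eq_one_iff_unique.mp e).1
        infer_instance
      · haveI : IsCyclic ι.ker := isCyclic_of_prime_card e
        exact Group.isSolvable_of_comm fun u v => ((IsCyclic.commutative (α := _)).is_comm.comm u v)
    haveI : Group.IsSolvable (MulAut (P : Subgroup G)) := Group.isSolvable_of_comm fun u v => by
      let f := IsCyclic.mulAutMulEquiv (P : Subgroup G)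
      refine f.injective ?_
      simp only [map_mul, mul_comm]
    exact Group.isSolvable_of_ker_le_range ι.ker.subtype ι (by simp)
  obtain ⟨d, hd6, hNc⟩ := hNd
  set n7 := Nat.card (Sylow 7 G) with hn7
  have hG' : Nat.card G = n7 * (7 * d) := by
    rw [← hNc, hn7, Sylow.card_eq_index_normalizer P, mul_comm]
    exact N.card_mul_index.symm
  have hmod : n7 % 7 = 1 := by
    have := card_sylow_modEq_one 7 G
    exact this
  have hn1 : n7 ≠ 1 := fun e => hG (by
    haveI := (Nat.card_eq_one_iff_unique.mp e).1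
    have hPn : (P : Subgroup G).Normal := Sylow.normal_of_subsingleton P
    have htop : N = ⊤ := Subgroup.normalizer_eq_top_iff.mpr hPn
    have : Group.IsSolvable (⊤ : Subgroup G) := htop ▸ hNsolv
    exact Group.isSolvable_of_surjective (f := (⊤ : Subgroup G).subtype) fun x => ⟨⟨x, trivial⟩, rfl⟩)
  have hpq : ∀ {X : Type _} [Group X] [Finite X] {p q u v : ℕ}, p.Prime → q.Prime → Nat.card X = p ^ u * q ^ v → Group.IsSolvable X :=
    fun hp hq h => CfsgLib.CharTheory.isSolvable_of_card_two_primes hp hq h
  have h720 : n7 ∣ 720 := by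
    have h1 : n7 * 7 ∣ 720 * 7 := by
      have h2 : n7 * 7 ∣ Nat.card G := ⟨d, by rw [hG', mul_assoc]⟩
      exact h2.trans hdvd
    exact (Nat.mul_dvd_mul_iff_right (by norm_num)).mp h1
  -- `G` has order 168
  have h168 : Nat.card G = 168 := by
    have hn : n7 = 8 ∨ n7 = 15 ∨ n7 = 36 ∨ n7 = 120 := by
      have hmem : n7 ∈ Nat.divisors 720 := Nat.mem_divisors.mpr ⟨h720, by norm_num⟩
      have key : ∀ x ∈ Nat.divisors 720, x % 7 = 1 → x = 1 ∨ x = 8 ∨ x = 15 ∨ x = 36 ∨ x = 120 := by decide +kernel
      exact (key n7 hmem hmod).resolve_left hn1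
    have hd : d = 1 ∨ d = 2 ∨ d = 3 ∨ d = 6 := by
      have := Nat.le_of_dvd (by norm_num) hd6
      interval_cases d <;> omega
    have hsq : Nat.card G = 105 ∨ Nat.card G = 210 → False := fun h => hG (by
      have : Squarefree (Nat.card G) := by rcases h with e | e <;> rw [e] <;> decide +kernel
      haveI := IsZGroup.of_squarefree this
      infer_instance)
    have h56 : Nat.card G ≠ 56 := fun e => hG (hpq Nat.prime_two h7.out (u := 3) (v := 1) (by rw [e]; norm_num))
    have h840 : ∀ e : ℕ, Nat.card G = 840 * e → False := by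
      intro e he
      haveI : (alternatingGroup α).Normal := inferInstance
      exact (show False by
        have h2 : (G.subgroupOf (alternatingGroup α)).index ≤ 6 := by
          have h3 : (G.subgroupOf (alternatingGroup α)).index ≤ G.index := by
            refine Nat.le_of_dvd (Nat.pos_of_ne_zero Subgroup.index_ne_zero_of_finite) ?_
            exact CfsgLib.HallSystem.relIndex_dvd_index' G (alternatingGroup α)
          have h4 := G.card_mul_index
          rw [Nat.card_perm, hα', show Nat.factorial 7 = 5040 by rfl, he] at h4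
          rcases Nat.eq_zero_or_pos e with rfl | he0
          · simp at h4
          · nlinarith
        have h5 : 5 ≤ Nat.card α := by omega
        haveI := alternatingGroup.isSimpleGroup h5
        set U := G.subgroupOf (alternatingGroup α)
        have hne : U ≠ ⊤ := fun e' => hA (Subgroup.subgroupOf_eq_top.mp e')
        have hcore : U.normalCore = ⊥ := (IsSimpleGroup.eq_bot_or_eq_top_of_normal _ inferInstance).resolve_right
          fun e' => hne (top_unique (e' ▸ U.normalCore_le))
        have hinj : Function.Injective (MulAction.toPermHom (alternatingGroup α) (alternatingGroup α ⧸ U)) := by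
          rw [← MonoidHom.ker_eq_bot_iff, ← Subgroup.normalCore_eq_ker, hcore]
        have hcard := Nat.card_le_card_of_injective _ hinj
        rw [Nat.card_perm, ← Subgroup.index_eq_card] at hcard
        have hle : Nat.factorial U.index ≤ Nat.factorial 6 := Nat.factorial_le h2
        haveI : Nontrivial α := ⟨a, b, hab⟩
        have hA7 := two_mul_card_alternatingGroup (α := α)
        rw [← Nat.card_eq_fintype_card, ← Nat.card_eq_fintype_card, Nat.card_perm, hα', show Nat.factorial 7 = 5040 by rfl] at hA7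
        rw [show Nat.factorial 6 = 720 by rfl] at hle
        omega)
    rcases hn with e | e | e | e <;> rcases hd with f | f | f | f <;> rw [e, f] at hG'
    all_goals simp only [Nat.reduceMul] at hG'
    all_goals first
      | exact hG'
      | exact absurd hG' h56
      | exact absurd (Nat.dvd_of_mod_eq_zero (by omega)) h16
      | exact absurd (Nat.dvd_of_mod_eq_zero (by omega)) h9
      | exact False.elim (hsq (by omega))
      | exact False.elim (h840 1 (by omega))
      | exact False.elim (h840 2 (by omega))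
      | exact False.elim (h840 3 (by omega))
      | exact False.elim (h840 6 (by omega))
  refine ⟨h168, ?_⟩
  haveI : Nontrivial G := Finite.one_lt_card_iff_nontrivial.mp (by omega)
  refine IsSimpleGroup.mk fun M hM => ?_
  by_contra hcon
  rw [not_or] at hcon
  haveI := hM
  haveI : MulAction.IsPretransitive M α := MulAction.IsQuasiPreprimitive.isPretransitive_of_normal (fun h => hcon.1 (by
    rw [eq_bot_iff]
    intro m hm
    refine Subgroup.mem_bot.mpr (Subtype.ext (Equiv.ext fun x => ?_))
    have hx : x ∈ MulAction.fixedPoints M α := by rw [h]; trivial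
    exact hx ⟨m, hm⟩))
  have h7M : 7 ∣ Nat.card M := by
    rw [← hα', ← MulAction.index_stabilizer_of_transitive M a]
    exact Subgroup.index_dvd_card _
  have hMd : Nat.card M ∣ 168 := h168 ▸ Subgroup.card_subgroup_dvd_card M
  have hMlt : Nat.card M < 168 := h168 ▸ lt_of_le_of_ne (Nat.le_of_dvd Nat.card_pos (Subgroup.card_subgroup_dvd_card M)) fun e => hcon.2 (Subgroup.eq_top_of_card_eq M e)
  -- all Sylow 7-subgroups lie in `M`
  obtain ⟨Q⟩ : Nonempty (Sylow 7 M) := inferInstance
  have h8 : 56 ∣ Nat.card M := by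
    have hPM : (P : Subgroup G) ≤ M := by
      obtain ⟨x, hx⟩ := exists_prime_orderOf_dvd_card' (G := M) 7 h7M
      obtain ⟨R, hR⟩ := (IsPGroup.of_card (n := 1) (by rw [Nat.card_zpowers, Subgroup.orderOf_coe, hx, pow_one]) : IsPGroup 7 (Subgroup.zpowers (x : G))).exists_le_sylow
      obtain ⟨g, hg⟩ := MulAction.exists_smul_eq G R P
      have hR' : (R : Subgroup G) = Subgroup.zpowers (x : G) := (Subgroup.eq_of_le_of_card_ge hR (by
        rw [Nat.card_zpowers, Subgroup.orderOf_coe, hx, R.card_eq_multiplicity, ← P.card_eq_multiplicity, hPc])).symm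
      rw [← hg, Sylow.coe_subgroup_smul, hR']
      rintro _ ⟨y, hy, rfl⟩
      exact hM.conj_mem y (Subgroup.zpowers_le.mpr x.2 hy) g
    have hsurj : Nat.card (Sylow 7 G) ∣ Nat.card M := by
      have htr : MulAction.IsPretransitive M (Sylow 7 G) := by
        refine ⟨fun R S => ?_⟩
        have hle : ∀ T : Sylow 7 G, (T : Subgroup G) ≤ M := fun T => by
          obtain ⟨g, hg⟩ := MulAction.exists_smul_eq G P T
          rw [← hg, Sylow.coe_subgroup_smul]
          rintro _ ⟨y, hy, rfl⟩
          exact hM.conj_mem y (hPM hy) g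
        obtain ⟨g, hg⟩ := MulAction.exists_smul_eq M (R.subtype (hle R)) (S.subtype (hle S))
        exact ⟨g, Sylow.subtype_injective ((Sylow.smul_subtype (hle R) g).symm.trans hg)⟩
      rw [← MulAction.index_stabilizer_of_transitive M P]
      exact Subgroup.index_dvd_card _
    have hn8 : n7 = 8 := by
      have hh := hG'
      rw [h168] at hh
      have := Nat.le_of_dvd (by norm_num) hd6
      have hmem : n7 ∈ Nat.divisors 720 := Nat.mem_divisors.mpr ⟨h720, by norm_num⟩
      have key : ∀ x ∈ Nat.divisors 720, ∀ e < 7, x % 7 = 1 → 168 = x * (7 * e) → x = 1 ∨ x = 8 := by decide +kernel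
      exact (key n7 hmem d (by omega) hmod hh).resolve_left hn1
    rw [show Nat.card (Sylow 7 G) = 8 from hn8] at hsurj
    exact (Nat.Coprime.mul_dvd_of_dvd_of_dvd (by norm_num : Nat.Coprime 8 7) hsurj h7M)
  have hM56 : Nat.card M = 56 := by
    obtain ⟨t, ht⟩ := h8
    have : t ≤ 2 := by omega
    interval_cases t
    · exact absurd ht Nat.card_pos.ne'
    · exact ht
    · exact absurd (ht ▸ hMd) (by norm_num)
  refine hG ?_
  haveI : Group.IsSolvable M := hpq Nat.prime_two h7.out (u := 3) (v := 1) (by rw [hM56]; norm_num)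
  haveI : Group.IsSolvable (G ⧸ M) := by
    have e := M.card_mul_index
    rw [hM56, h168] at e
    haveI : IsCyclic (G ⧸ M) := by
      haveI : Fact (Nat.Prime 3) := ⟨Nat.prime_three⟩
      exact isCyclic_of_prime_card (p := 3) (by rw [← Subgroup.index_eq_card]; omega)
    exact Group.isSolvable_of_comm fun u v => ((IsCyclic.commutative (α := _)).is_comm.comm u v)
  exact Group.isSolvable_of_ker_le_range M.subtype (QuotientGroup.mk' M) (by simp)

end Cfsg.Agent.S0678
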