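import Cfsg.Statements.S0738
import Mathlib
-- import your own Cfsg.Agent.* helpers here

set_option autoImplicit false
open Cfsg

namespace Cfsg.Agent.S0738

/-- A subgroup acting freely on an invariant set has order dividing its cardinality. -/
theorem freeDvd {G Ω : Type*} [Group G] [MulAction G Ω] (K : Subgroup G) (S : Set Ω)
    (hinv : ∀ k ∈ K, ∀ x ∈ S, k • x ∈ S) (hfree : ∀ k ∈ K, ∀ x ∈ S, k • x = x → k = 1) :
    Nat.card K ∣ Nat.card S := by
  letI : MulAction K S :=
    { smul := fun k x => ⟨(k : G) • (x : Ω), hinv k k.2 x x.2⟩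
      one_smul := fun x => Subtype.ext (one_smul G (x : Ω))
      mul_smul := fun k l x => Subtype.ext (mul_smul (k : G) (l : G) (x : Ω)) }
  have hs : ∀ x : S, MulAction.stabilizer K x = ⊥ := fun x => eq_bot_iff.2 fun k hk =>
    Subgroup.mem_bot.2 (Subtype.ext (hfree k k.2 x x.2 (congrArg Subtype.val (MulAction.mem_stabilizer_iff.1 hk))))
  exact ⟨_, (Nat.card_congr (MulAction.selfEquivOrbitsQuotientProd hs)).trans (by rw [Nat.card_prod, mul_comm])⟩

/-- A group in which the nontrivial elements of a normal subgroup have large classes and few of them. -/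
theorem elementaryOfLargeClasses {M : Type*} [Group M] [Finite M] (F : Subgroup M) [F.Normal] (d : ℕ) (hd : 0 < d)
    (hsz : Nat.card F ≤ 2 * d + 1) (hcard : Nat.card M = Nat.card F * d) (hcop : Nat.Coprime (Nat.card F) d)
    (hcent : ∀ u ∈ F, u ≠ 1 → Nat.card (Subgroup.centralizer {u}) ∣ Nat.card F) :
    (∀ u ∈ F, ∀ v ∈ F, u * v = v * u) ∧ ∃ p f : ℕ, p.Prime ∧ (∀ u ∈ F, u ^ p = 1) ∧ Nat.card F = p ^ f := by
  classical
  let cl : M → Set M := fun u => MulAction.orbit (ConjAct M) u
  have hclF : ∀ u ∈ F, cl u ⊆ (F : Set M) := by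
    rintro u hu _ ⟨g, rfl⟩
    exact ‹F.Normal›.conj_mem u hu (ConjAct.ofConjAct g)
  have hclsz : ∀ u, u ≠ 1 → u ∈ F → (cl u).ncard * Nat.card (Subgroup.centralizer {u}) = Nat.card F * d := fun u _ _ => by
    rw [← hcard, ← Subgroup.index_mul_card (Subgroup.centralizer {u}),
      show (cl u).ncard = (Subgroup.centralizer {u}).index from ?_]
    rw [← MulAction.index_stabilizer, ConjAct.stabilizer_eq_centralizer]
    rfl
  have hclge : ∀ u, u ≠ 1 → u ∈ F → d ≤ (cl u).ncard := fun u h1 h2 => by
    obtain ⟨c, hc⟩ := hcent u h2 h1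
    have h3 := hclsz u h1 h2
    rw [hc, mul_assoc, mul_comm] at h3
    have h4 := Nat.eq_of_mul_eq_mul_left Nat.card_pos h3
    rw [h4]
    exact Nat.le_mul_of_pos_left d (Nat.pos_of_ne_zero fun e => (Nat.card_pos (α := F)).ne' (by rw [hc, e, mul_zero]))
  -- three classes do not fit
  have hfit : ∀ L : List M, (∀ u ∈ L, u ∈ F ∧ u ≠ 1) → L.Pairwise (fun u v => Disjoint (cl u) (cl v)) →
      (L.map fun u => (cl u).ncard).sum + 1 ≤ Nat.card F := by
    intro L hL hp
    suffices h : (L.map fun u => (cl u).ncard).sum = (⋃ u ∈ L, cl u).ncard ∧ (⋃ u ∈ L, cl u) ⊆ (F : Set M) \ {1} by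
      rw [h.1]
      have := Set.ncard_le_ncard h.2
      rw [Set.ncard_diff_singleton_of_mem F.one_mem] at this
      have h5 : (F : Set M).ncard = Nat.card F := rfl
      have := Nat.card_pos (α := F)
      omega
    induction L with
    | nil => simp
    | cons u L ih =>
      rw [List.pairwise_cons] at hp
      obtain ⟨h1, h2⟩ := ih (fun v hv => hL v (List.mem_cons_of_mem _ hv)) hp.2
      have hu := hL u List.mem_cons_self
      have hU : (⋃ v ∈ u :: L, cl v) = cl u ∪ ⋃ v ∈ L, cl v := by simp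
      refine ⟨?_, ?_⟩
      · rw [List.map_cons, List.sum_cons, h1, hU, Set.ncard_union_eq]
        exact Set.disjoint_iUnion₂_right.2 fun v hv => hp.1 v hv
      · rw [hU]
        refine Set.union_subset (fun z hz => ⟨hclF u hu.1 hz, ?_⟩) h2
        obtain ⟨g, rfl⟩ := hz
        exact fun e => hu.2 (smul_left_cancel g ((Set.mem_singleton_iff.1 e).trans (smul_one g).symm))
  -- invariant subgroups are trivial or everything
  have hnorm : ∀ K : Subgroup M, K.Normal → K ≤ F → K ≠ ⊥ → K = F := by
    intro K hK hKF hK1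
    by_contra hne
    obtain ⟨x, hxK, hx1⟩ := (Subgroup.bot_or_exists_ne_one K).resolve_left hK1
    obtain ⟨y, hyF, hyK⟩ := SetLike.exists_of_lt (lt_of_le_of_ne hKF hne)
    have hy1 : y ≠ 1 := fun e => hyK (e ▸ K.one_mem)
    have hclK : cl x ⊆ (K : Set M) \ {1} := by
      rintro _ ⟨g, rfl⟩
      exact ⟨hK.conj_mem x hxK (ConjAct.ofConjAct g), fun e => hx1 (smul_left_cancel g ((Set.mem_singleton_iff.1 e).trans (smul_one g).symm))⟩
    have hcly : cl y ⊆ (F : Set M) \ (K : Set M) := by
      rintro _ ⟨g, rfl⟩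
      refine ⟨hclF y hyF ⟨g, rfl⟩, fun e => hyK ?_⟩
      have := hK.conj_mem _ e (ConjAct.ofConjAct g⁻¹)
      simpa [ConjAct.smul_def, mul_assoc] using this
    have h1 := Set.ncard_le_ncard hclK
    have h2 := Set.ncard_le_ncard hcly
    rw [Set.ncard_diff_singleton_of_mem K.one_mem] at h1
    rw [Set.ncard_diff (SetLike.coe_subset_coe.2 hKF)] at h2
    have h3 := hclge x hx1 (hKF hxK)
    have h4 := hclge y hy1 hyF
    have h5 : (K : Set M).ncard = Nat.card K := rfl
    have h6 : (F : Set M).ncard = Nat.card F := rfl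
    obtain ⟨c, hc⟩ := Subgroup.card_dvd_of_le hKF
    have := Nat.card_pos (α := K)
    rcases c with _ | _ | c
    · omega
    · omega
    · have h7 : Nat.card K * 2 ≤ Nat.card F := hc ▸ Nat.mul_le_mul_left _ (by omega)
      omega
  by_cases hF1 : F = ⊥
  · subst hF1
    refine ⟨fun u hu v hv => by rw [Subgroup.mem_bot.1 hu, Subgroup.mem_bot.1 hv], 2, 0, Nat.prime_two,
      fun u hu => by rw [Subgroup.mem_bot.1 hu, one_pow], by rw [Subgroup.card_bot, pow_zero]⟩
  set p := (Nat.card F).minFac
  have hp : p.Prime := Nat.minFac_prime fun e => hF1 (Subgroup.card_eq_one.1 e)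
  haveI : Fact p.Prime := ⟨hp⟩
  have hP : IsPGroup p F := by
    rw [IsPGroup.iff_card]
    refine ⟨_, Nat.eq_prime_pow_of_unique_prime_dvd Nat.card_pos.ne' fun {q} hq hqd => ?_⟩
    by_contra hqp
    haveI : Fact q.Prime := ⟨hq⟩
    obtain ⟨x, hx⟩ := exists_prime_orderOf_dvd_card' (G := F) p (Nat.minFac_dvd _)
    obtain ⟨y, hy⟩ := exists_prime_orderOf_dvd_card' (G := F) q hqd
    rw [← Subgroup.orderOf_coe] at hx hy
    have hx1 : (x : M) ≠ 1 := fun e => by rw [e, orderOf_one] at hx; exact hp.ne_one hx.symm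
    have hy1 : (y : M) ≠ 1 := fun e => by rw [e, orderOf_one] at hy; exact hq.ne_one hy.symm
    have hord : ∀ u z : M, z ∈ cl u → orderOf z = orderOf u := by
      rintro u _ ⟨g, rfl⟩
      exact orderOf_injective (MulDistribMulAction.toMonoidEnd (ConjAct M) M g) (MulAction.injective g) u
    have hdisj : ∀ u v : M, orderOf u ≠ orderOf v → Disjoint (cl u) (cl v) := fun u v h =>
      Set.disjoint_left.2 fun z hu hv => h ((hord u z hu).symm.trans (hord v z hv))
    -- both classes have size `d`
    have hxy := hfit [(x : M), (y : M)] (by simp [hx1, hy1]) (by simp [hdisj _ _ (show orderOf (x : M) ≠ orderOf (y : M) by rw [hx, hy]; exact Ne.symm hqp)])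
    simp only [List.map_cons, List.map_nil, List.sum_cons, List.sum_nil, add_zero] at hxy
    have h3 := hclge _ hx1 x.2
    have h4 := hclge _ hy1 y.2
    have hC : Nat.card (Subgroup.centralizer {(x : M)}) = Nat.card F := by
      have h5 := hclsz _ hx1 x.2
      rw [show (cl (x : M)).ncard = d by omega, mul_comm (Nat.card F)] at h5
      exact Nat.eq_of_mul_eq_mul_left hd h5
    -- a commuting element of order `q`
    obtain ⟨w, hw⟩ := exists_prime_orderOf_dvd_card' (G := Subgroup.centralizer {(x : M)}) q (hC.symm ▸ hqd)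
    rw [← Subgroup.orderOf_coe] at hw
    have hwF : (w : M) ∈ F := by
      rw [← QuotientGroup.eq_one_iff (N := F), ← orderOf_eq_one_iff]
      refine Nat.eq_one_of_dvd_coprimes hcop ((orderOf_map_dvd (QuotientGroup.mk' F) (w : M)).trans (hw.symm ▸ hqd)) ?_
      have h6 := F.card_mul_index
      rw [hcard] at h6
      rw [← Nat.eq_of_mul_eq_mul_left Nat.card_pos h6]
      exact orderOf_dvd_natCard _
    have hcomm : Commute (x : M) w := (Subgroup.mem_centralizer_singleton_iff.1 w.2).symm
    have hxw : orderOf ((x : M) * w) = p * q := by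
      rw [hcomm.orderOf_mul_eq_mul_orderOf_of_coprime (by rw [hx, hw]; exact (Nat.coprime_primes hp hq).2 (Ne.symm hqp)), hx, hw]
    have hxw1 : (x : M) * w ≠ 1 := fun e => by
      rw [e, orderOf_one] at hxw
      exact hp.ne_one (Nat.eq_one_of_mul_eq_one_right hxw.symm)
    have hne1 : p * q ≠ p := fun e => hq.ne_one ((Nat.mul_eq_left hp.ne_zero).1 e)
    have hne2 : p * q ≠ q := fun e => hp.ne_one ((Nat.mul_eq_right hq.ne_zero).1 e)
    have h7 := hfit [(x : M), (y : M), (x : M) * w] (by simp [hx1, hy1, hxw1, F.mul_mem x.2 hwF]) (by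
      simp [hdisj _ _ (show orderOf (x : M) ≠ orderOf (y : M) by rw [hx, hy]; exact Ne.symm hqp),
        hdisj _ _ (show orderOf (x : M) ≠ orderOf ((x : M) * w) by rw [hx, hxw]; exact hne1.symm),
        hdisj _ _ (show orderOf (y : M) ≠ orderOf ((x : M) * w) by rw [hy, hxw]; exact hne2.symm)])
    simp only [List.map_cons, List.map_nil, List.sum_cons, List.sum_nil, add_zero] at h7
    have h8 := hclge _ hxw1 (F.mul_mem x.2 hwF)
    omega
  haveI : Nontrivial F := F.bot_or_nontrivial.resolve_left hF1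
  haveI := hP.center_nontrivial
  have hZ : (Subgroup.center F).map F.subtype = F := hnorm _ inferInstance (Subgroup.map_subtype_le _) fun e => by
    rw [Subgroup.map_eq_bot_iff_of_injective _ F.subtype_injective] at e
    exact absurd (inferInstance : Nontrivial (Subgroup.center F)) (by rw [e]; exact not_nontrivial _)
  have hab : ∀ u ∈ F, ∀ v ∈ F, u * v = v * u := fun u hu v hv => by
    have hu' := hu
    rw [← hZ] at hu'
    obtain ⟨u', hu', rfl⟩ := hu'
    exact (congrArg Subtype.val (Subgroup.mem_center_iff.1 hu' ⟨v, hv⟩)).symm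
  obtain ⟨f, hf⟩ := IsPGroup.iff_card.1 hP
  let K : Subgroup M :=
    { carrier := {u | u ∈ F ∧ u ^ p = 1}
      one_mem' := ⟨F.one_mem, one_pow p⟩
      mul_mem' := fun {a b} ha hb => ⟨F.mul_mem ha.1 hb.1, by rw [(show Commute a b from hab a ha.1 b hb.1).mul_pow, ha.2, hb.2, one_mul]⟩
      inv_mem' := fun {a} ha => ⟨F.inv_mem ha.1, by rw [inv_pow, ha.2, inv_one]⟩ }
  have hKn : K.Normal := ⟨fun u hu g => ⟨‹F.Normal›.conj_mem u hu.1 g, by rw [conj_pow, hu.2]; simp⟩⟩
  obtain ⟨x, hx⟩ := exists_prime_orderOf_dvd_card' (G := F) p (Nat.minFac_dvd _)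
  rw [← Subgroup.orderOf_coe] at hx
  have hK : K = F := hnorm K hKn (fun u hu => hu.1) fun e => by
    have : (x : M) ∈ K := ⟨x.2, hx ▸ pow_orderOf_eq_one _⟩
    rw [e, Subgroup.mem_bot] at this
    rw [this, orderOf_one] at hx
    exact hp.ne_one hx.symm
  exact ⟨hab, p, f, hp, fun u hu => (hK.symm ▸ hu : u ∈ K).2, hf⟩

/-- Let a finite Zassenhaus group of degree `n + 1` have two-point stabilisers of order `d` with `2d ≥ n - 1`. Then a normal subgroup of a point stabiliser acting regularly on the remaining points is elementary abelian, and the degree is a prime power plus one. -/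
theorem result {G Ω : Type*} [Group G] [Finite G] [MulAction G Ω] [Fintype Ω] (hZ : Cfsg.IsZassenhausGroup G Ω) {a b : Ω} (hab : a ≠ b) (hd : Fintype.card Ω - 2 ≤ 2 * Nat.card ↥(MulAction.stabilizer G a ⊓ MulAction.stabilizer G b)) (F : Subgroup G) (hFle : F ≤ MulAction.stabilizer G a) (hFn : (F.subgroupOf (MulAction.stabilizer G a)).Normal) (hreg : ∀ y z : Ω, y ≠ a → z ≠ a → ∃! u : F, (u : G) • y = z) : IsMulCommutative F ∧ ∃ p f : ℕ, p.Prime ∧ (∀ u ∈ F, u ^ p = 1) ∧ Fintype.card Ω = p ^ f + 1 := by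
  classical
  obtain ⟨hfaith, h2, h3, -, -⟩ := hZ
  haveI := h2
  haveI : MulAction.IsPretransitive G Ω := MulAction.isPretransitive_of_is_two_pretransitive
  set H := MulAction.stabilizer G a ⊓ MulAction.stabilizer G b with hH
  set M := MulAction.stabilizer G a with hM
  have hΩ : Fintype.card Ω = Nat.card F + 1 := by
    have hb : Function.Bijective (fun u : F => (⟨(u : G) • b, fun e => hab ((MulAction.injective (u : G)) ((show (u : G) • a = a from hFle u.2).trans e.symm))⟩ : {y : Ω // y ≠ a})) := by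
      refine ⟨fun u v e => ?_, fun y => ?_⟩
      · exact (hreg b ((v : G) • b) hab.symm (fun e' => hab ((MulAction.injective (v : G)) ((show (v : G) • a = a from hFle v.2).trans e'.symm)))).unique (congrArg Subtype.val e) rfl
      · obtain ⟨u, hu, -⟩ := hreg b y.1 hab.symm y.2
        exact ⟨u, Subtype.ext hu⟩
    rw [Nat.card_congr (Equiv.ofBijective _ hb), Nat.card_eq_fintype_card, Fintype.card_subtype_compl, Fintype.card_subtype_eq]
    have := Fintype.card_pos_iff.2 ⟨a⟩
    omega
  have hfix2 : ∀ g : G, ∀ y z, y ≠ a → z ≠ a → y ≠ z → g • a = a → g • y = y → g • z = z → g = 1 :=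
    fun g y z hy hz hyz => h3 g a y z hy.symm hyz hz.symm
  have hdn : Nat.card H ∣ Nat.card F - 1 := by
    have h := freeDvd H ({a, b} : Set Ω)ᶜ (fun k hk x hx e => hx ?_) (fun k hk x hx e => ?_)
    · rwa [Nat.card_coe_set_eq, Set.ncard_compl, Set.ncard_pair hab, Nat.card_eq_fintype_card (α := Ω), hΩ,
        show Nat.card F + 1 - 2 = Nat.card F - 1 by omega] at h
    · rcases e with e | e
      · exact Or.inl (MulAction.injective k (e.trans (MulAction.mem_stabilizer_iff.1 hk.1).symm))
      · exact Or.inr (MulAction.injective k (e.trans (MulAction.mem_stabilizer_iff.1 hk.2).symm))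
    · simp only [Set.mem_compl_iff, Set.mem_insert_iff, Set.mem_singleton_iff, not_or] at hx
      exact hfix2 k b x hab.symm hx.1 (Ne.symm hx.2) hk.1 hk.2 e
  have hcardM : Nat.card M = Nat.card F * Nat.card H := by
    rw [← Subgroup.index_mul_card (MulAction.stabilizer M b), MulAction.index_stabilizer, ← Nat.card_coe_set_eq]
    congr 1
    · have horb : MulAction.orbit M b = {a}ᶜ := by
        ext y
        constructor
        · rintro ⟨g, rfl⟩ e
          exact hab ((MulAction.injective (g : G)) ((show (g : G) • a = a from g.2).trans (Set.mem_singleton_iff.1 e).symm))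
        · intro hy
          obtain ⟨g, hg1, hg2⟩ := MulAction.is_two_pretransitive_iff.1 h2 hab (fun e => hy e.symm)
          exact ⟨⟨g, hg1⟩, hg2⟩
      rw [horb, Nat.card_coe_set_eq, Set.ncard_compl, Set.ncard_singleton, Nat.card_eq_fintype_card (α := Ω), hΩ]
      omega
    · exact Nat.card_congr
        { toFun := fun g => ⟨g.1.1, g.1.2, g.2⟩
          invFun := fun g => ⟨⟨g.1, g.2.1⟩, g.2.2⟩
          left_inv := fun _ => rfl
          right_inv := fun _ => rfl }
  haveI := hFn
  have hcardF : Nat.card (F.subgroupOf M) = Nat.card F := Nat.card_congr (Subgroup.subgroupOfEquivOfLe hFle).toEquiv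
  obtain ⟨hab', p, f, hp, hexp, hpf⟩ := elementaryOfLargeClasses (F.subgroupOf M) (Nat.card H) Nat.card_pos
    (by rw [hcardF]; omega) (by rw [hcardF, hcardM]) (by
      rw [hcardF]
      obtain ⟨c, hc⟩ := hdn
      refine Nat.coprime_of_dvd fun q hq hqF hqH => hq.one_lt.ne' (Nat.dvd_one.1 ?_)
      have h1 : q ∣ Nat.card F - 1 := hc ▸ hqH.mul_right c
      have h2 := Nat.dvd_sub hqF h1
      rwa [Nat.sub_sub_self Nat.card_pos] at h2) (fun u hu hu1 => by
      rw [hcardF]
      have h := freeDvd ((Subgroup.centralizer {u}).map M.subtype) ({a}ᶜ : Set Ω) (fun k hk x hx e => hx ?_) (fun k hk x hx e => ?_)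
      · rwa [Subgroup.card_map_of_injective M.subtype_injective, Nat.card_coe_set_eq, Set.ncard_compl, Set.ncard_singleton,
          Nat.card_eq_fintype_card (α := Ω), hΩ, Nat.add_sub_cancel] at h
      · obtain ⟨m, -, rfl⟩ := hk
        exact MulAction.injective (m : G) ((Set.mem_singleton_iff.1 e).trans (show (m : G) • a = a from m.2).symm)
      · obtain ⟨m, hm, rfl⟩ := hk
        have hcomm : (m : G) * u = u * m := congrArg Subtype.val (Subgroup.mem_centralizer_singleton_iff.1 hm)
        have hua : (u : G) • x ≠ a := fun e' => hx (MulAction.injective (u : G) (e'.trans (show (u : G) • a = a from u.2).symm))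
        have hux : (u : G) • x ≠ x := fun e' => hu1 (Subtype.ext (congrArg (fun w : F => (w : G))
          ((hreg x x hx hx).unique (show ((⟨(u : G), hu⟩ : F) : G) • x = x from e') (show ((1 : F) : G) • x = x by simp))))
        refine hfix2 _ x ((u : G) • x) hx hua hux.symm m.2 e ?_
        show (m : G) • (u : G) • x = _
        rw [← mul_smul, hcomm, mul_smul]
        exact congrArg _ e)
  refine ⟨⟨⟨fun u v => Subtype.ext (congrArg Subtype.val (hab' ⟨u, hFle u.2⟩ u.2 ⟨v, hFle v.2⟩ v.2) :)⟩⟩, p, f, hp,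
    fun u hu => congrArg Subtype.val (hexp ⟨u, hFle hu⟩ hu), by rw [hΩ, ← hpf, hcardF]⟩

end Cfsg.Agent.S0738
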