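import Cfsg.Statements.S0740
import Mathlib
import Cfsg.Agent.Lib.Perm.Zassenhaus
-- import your own Cfsg.Agent.* helpers here

set_option autoImplicit false
open Cfsg

namespace Cfsg.Agent.S0740

/-- In a finite Zassenhaus group any two points `a ≠ b` are swapped by an involution; every such involution has exactly one fixed point when the degree is odd and 0 or 2 fixed points when the degree is even; and if the two-point stabiliser has even order, some such involution has exactly 2 fixed points. -/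
theorem result {G Ω : Type*} [Group G] [Finite G] [MulAction G Ω] [Fintype Ω] (hZ : Cfsg.IsZassenhausGroup G Ω) {a b : Ω} (hab : a ≠ b) : (∃ s : G, orderOf s = 2 ∧ s • a = b ∧ s • b = a) ∧ (∀ s : G, orderOf s = 2 → s • a = b → s • b = a → (Odd (Fintype.card Ω) → Nat.card (MulAction.fixedBy Ω s) = 1) ∧ (Even (Fintype.card Ω) → Nat.card (MulAction.fixedBy Ω s) = 0 ∨ Nat.card (MulAction.fixedBy Ω s) = 2)) ∧ (Even (Fintype.card Ω) → Even (Nat.card ↥(MulAction.stabilizer G a ⊓ MulAction.stabilizer G b)) → ∃ s : G, orderOf s = 2 ∧ s • a = b ∧ s • b = a ∧ Nat.card (MulAction.fixedBy Ω s) = 2) := by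
  classical
  haveI := hZ.1
  obtain ⟨n, hn⟩ : ∃ n, Fintype.card Ω = n := ⟨_, rfl⟩
  have h3 := CfsgLib.Zassenhaus.card_ge_three hZ
  have hfix_le : ∀ s : G, s ≠ 1 → Nat.card (MulAction.fixedBy Ω s) ≤ 2 := fun s hs => by
    by_contra h
    rw [Nat.card_eq_fintype_card, ← Set.toFinset_card, not_le, Finset.two_lt_card] at h
    obtain ⟨x, hx, y, hy, z, hz, hxy, hxz, hyz⟩ := h
    simp only [Set.mem_toFinset, MulAction.mem_fixedBy] at hx hy hz
    exact hs (CfsgLib.Zassenhaus.eq_one_of_three hZ hxy hyz hxz hx hy hz)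
  -- an involution fixing two points has no more fixed points, and some conjugate swaps `a` and `b`
  have hmove : ∀ z : G, orderOf z = 2 → ∀ u v : Ω, u ≠ v → z • u = u → z • v = v →
      ∃ s : G, orderOf s = 2 ∧ s • a = b ∧ s • b = a ∧ Nat.card (MulAction.fixedBy Ω s) = 2 := by
    intro z hz u v huv hu hv
    have hz1 : z ≠ 1 := fun e => by rw [e, orderOf_one] at hz; omega
    obtain ⟨c, -, hc⟩ : ∃ c ∈ (Finset.univ : Finset Ω), c ∉ ({u, v} : Finset Ω) :=
      Finset.exists_mem_notMem_of_card_lt_card (by rw [Finset.card_univ]; exact lt_of_le_of_lt Finset.card_le_two (by omega))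
    simp only [Finset.mem_insert, Finset.mem_singleton, not_or] at hc
    have hcz : z • c ≠ c := fun e => hz1 (CfsgLib.Zassenhaus.eq_one_of_three hZ huv (Ne.symm hc.2) (Ne.symm hc.1) hu hv e)
    obtain ⟨g, hg1, hg2⟩ := CfsgLib.Zassenhaus.exists_smul_pair hZ (Ne.symm hcz) hab
    have hzz : z • z • c = c := by rw [← mul_smul, ← pow_two, ← hz, pow_orderOf_eq_one, one_smul]
    refine ⟨g * z * g⁻¹, ?_, ?_, ?_, ?_⟩
    · rw [← MulAut.conj_apply, ← hz]; exact orderOf_injective (MulAut.conj g).toMonoidHom (MulAut.conj g).injective z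
    · rw [mul_smul, mul_smul, show g⁻¹ • a = c by rw [← hg1, inv_smul_smul], hg2]
    · rw [mul_smul, mul_smul, show g⁻¹ • b = z • c by rw [← hg2, inv_smul_smul], hzz, hg1]
    · refine le_antisymm (hfix_le _ fun e => hz1 (conj_eq_one_iff.mp e)) ?_
      rw [Nat.card_eq_fintype_card, ← Set.toFinset_card]
      have hsub : ({g • u, g • v} : Finset Ω) ⊆ (MulAction.fixedBy Ω (g * z * g⁻¹)).toFinset := by
        intro w hw
        simp only [Set.mem_toFinset, MulAction.mem_fixedBy, Finset.mem_insert, Finset.mem_singleton] at hw ⊢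
        rcases hw with rfl | rfl <;> simp [mul_smul, hu, hv]
      exact (Finset.card_pair fun e => huv (smul_left_cancel g e)).symm.le.trans (Finset.card_le_card hsub)
  refine ⟨?_, ?_, ?_⟩
  · -- existence
    obtain ⟨t, hta, htb⟩ := CfsgLib.Zassenhaus.exists_smul_pair hZ hab hab.symm
    by_cases heven : 2 ∣ Nat.card ↥(MulAction.stabilizer G a ⊓ MulAction.stabilizer G b)
    · haveI := Fact.mk Nat.prime_two
      obtain ⟨z, hz⟩ := exists_prime_orderOf_dvd_card' (G := ↥(MulAction.stabilizer G a ⊓ MulAction.stabilizer G b)) 2 heven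
      obtain ⟨s, h1, h2, h3, -⟩ := hmove z (by rw [Subgroup.orderOf_coe]; exact hz) a b hab z.2.1 z.2.2
      exact ⟨s, h1, h2, h3⟩
    · -- an odd power of `t` of two-power order
      obtain ⟨j, m, hm, hjm⟩ := Nat.exists_eq_pow_mul_and_not_dvd (orderOf_pos t).ne' 2 (by norm_num)
      have hodd : Odd m := Nat.odd_iff.mpr (Nat.two_dvd_ne_zero.mp hm)
      have ht2a : (t ^ 2) • a = a := by rw [pow_two, mul_smul, hta, htb]
      have ht2b : (t ^ 2) • b = b := by rw [pow_two, mul_smul, htb, hta]
      obtain ⟨r, hr⟩ := hodd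
      have hsa : (t ^ m) • a = b := by
        rw [hr, pow_succ', pow_mul, mul_smul, show ((t ^ 2) ^ r) • a = a from (pow_mem (show t ^ 2 ∈ MulAction.stabilizer G a from ht2a) r : _), hta]
      have hsb : (t ^ m) • b = a := by
        rw [hr, pow_succ', pow_mul, mul_smul, show ((t ^ 2) ^ r) • b = b from (pow_mem (show t ^ 2 ∈ MulAction.stabilizer G b from ht2b) r : _), htb]
      refine ⟨t ^ m, ?_, hsa, hsb⟩
      haveI := Fact.mk Nat.prime_two
      refine orderOf_eq_prime ?_ fun e => hab ((one_smul G a).symm.trans (e ▸ hsa))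
      have hmem : (t ^ m) ^ 2 ∈ MulAction.stabilizer G a ⊓ MulAction.stabilizer G b := Subgroup.mem_inf.mpr
        ⟨show _ • a = a by rw [pow_two, mul_smul, hsa, hsb], show _ • b = b by rw [pow_two, mul_smul, hsb, hsa]⟩
      have h2 : orderOf ((t ^ m) ^ 2) ∣ 2 ^ j := by
        refine (orderOf_pow_dvd 2).trans (orderOf_dvd_of_pow_eq_one ?_)
        rw [← pow_mul, mul_comm, ← hjm, pow_orderOf_eq_one]
      rw [← orderOf_eq_one_iff]
      exact Nat.eq_one_of_dvd_coprimes (((Nat.prime_two.coprime_iff_not_dvd).mpr heven).pow_left j) h2 (Subgroup.orderOf_dvd_natCard _ hmem)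
  · intro s hs hsa hsb
    haveI := Fact.mk Nat.prime_two
    have hs1 : s ≠ 1 := fun e => by rw [e, orderOf_one] at hs; omega
    have hle := hfix_le s hs1
    have hp : IsPGroup 2 (Subgroup.zpowers s) := IsPGroup.iff_card.mpr ⟨1, by rw [Nat.card_zpowers, hs, pow_one]⟩
    have hmod := hp.card_modEq_card_fixedPoints Ω
    have heq : MulAction.fixedPoints (Subgroup.zpowers s) Ω = MulAction.fixedBy Ω s := by
      ext w
      constructor
      · exact fun h => h ⟨s, Subgroup.mem_zpowers s⟩
      · rintro h ⟨g, hg⟩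
        exact (Subgroup.zpowers_le.mpr (show s ∈ MulAction.stabilizer G w from h)) hg
    rw [heq, Nat.card_eq_fintype_card] at hmod
    unfold Nat.ModEq at hmod
    constructor
    · intro h; rw [Nat.odd_iff] at h; omega
    · intro h; rw [Nat.even_iff] at h; omega
  · intro _ heven
    haveI := Fact.mk Nat.prime_two
    obtain ⟨z, hz⟩ := exists_prime_orderOf_dvd_card' (G := ↥(MulAction.stabilizer G a ⊓ MulAction.stabilizer G b)) 2 heven.two_dvd
    exact hmove z (by rw [Subgroup.orderOf_coe]; exact hz) a b hab z.2.1 z.2.2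

end Cfsg.Agent.S0740
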