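import Cfsg.Statements.S0739
import Mathlib
import Cfsg.Agent.Lib.Perm.ZassenhausOdd
-- import your own Cfsg.Agent.* helpers here

set_option autoImplicit false
open Cfsg

namespace Cfsg.Agent.S0739

/-- In a finite Zassenhaus group whose two-point stabiliser `H = G_{a,b}` has odd order `d`, and which has no normal `q`-complement for any prime `q ∣ d`, `H` is cyclic, `C_G(H) = H`, and every element swapping `a` and `b` inverts each element of `H`. -/
theorem result {G Ω : Type*} [Group G] [Finite G] [MulAction G Ω] [Fintype Ω] (hZ : Cfsg.IsZassenhausGroup G Ω) {a b : Ω} (hab : a ≠ b) (hodd : Odd (Nat.card ↥(MulAction.stabilizer G a ⊓ MulAction.stabilizer G b))) (hnil : ∀ q : ℕ, q.Prime → q ∣ Nat.card ↥(MulAction.stabilizer G a ⊓ MulAction.stabilizer G b) → ¬ ∃ N : Subgroup G, N.Normal ∧ N.index = q ^ (Nat.card G).factorization q) : IsCyclic ↥(MulAction.stabilizer G a ⊓ MulAction.stabilizer G b) ∧ Subgroup.centralizer ((MulAction.stabilizer G a ⊓ MulAction.stabilizer G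 b : Subgroup G) : Set G) = MulAction.stabilizer G a ⊓ MulAction.stabilizer G b ∧ ∀ s : G, s • a = b → s • b = a → ∀ h ∈ MulAction.stabilizer G a ⊓ MulAction.stabilizer G b, s * h * s⁻¹ = h⁻¹ := by
  classical
  open CfsgLib.ZassenhausOdd in
  have hodd' : ∀ c d : Ω, c ≠ d → Odd (Nat.card (D (G := G) c d)) := fun c d hcd => by
    rw [CfsgLib.ZassenhausOdd.card_D_eq hZ hcd hab]; exact hodd
  obtain ⟨w, hww, hwa, hwb⟩ := CfsgLib.ZassenhausOdd.exists_swap hZ hodd' hab
  have hinv := CfsgLib.ZassenhausOdd.swap_inverts' hZ hodd' hab hww hwa hwb hnil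
  set H := MulAction.stabilizer G a ⊓ MulAction.stabilizer G b with hH
  have hcomm : ∀ x ∈ H, ∀ y ∈ H, x * y = y * x := by
    intro x hx y hy
    have h := hinv _ (mul_mem hx hy)
    rw [show w * (x * y) * w⁻¹ = w * x * w⁻¹ * (w * y * w⁻¹) by group, hinv x hx, hinv y hy, mul_inv_rev] at h
    calc x * y = (y⁻¹ * x⁻¹)⁻¹ := by group
      _ = (x⁻¹ * y⁻¹)⁻¹ := by rw [h]
      _ = y * x := by group
  refine ⟨?_, ?_, ?_⟩
  · haveI : IsZGroup ↥H := ⟨fun p hp P => by
      haveI : Fact p.Prime := ⟨hp⟩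
      exact CfsgLib.ZassenhausOdd.sylow_cyclic hZ hodd' hab P⟩
    haveI : Group.IsNilpotent ↥H := by
      letI : CommGroup ↥H := { (inferInstance : Group ↥H) with mul_comm := fun x y => Subtype.ext (hcomm x x.2 y y.2) }
      exact CommGroup.isNilpotent
    infer_instance
  · refine le_antisymm (fun g hg => ?_) (fun g hg => Subgroup.mem_centralizer_iff.2 fun x hx => hcomm x hx g hg)
    have hgN : g ∈ Subgroup.normalizer (H : Set G) := Subgroup.centralizer_le_normalizer _ hg
    obtain ⟨x₀, hx₀, hx₀1⟩ := (Subgroup.bot_or_exists_ne_one H).resolve_left (CfsgLib.Zassenhaus.two_point_ne_bot hZ hab)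
    rcases CfsgLib.Zassenhaus.pair_of_mem_normalizer hZ hab ⟨x₀, hx₀, hx₀1, (Subgroup.mem_normalizer_iff.1 hgN x₀).1 hx₀⟩ with h | h
    · exact Subgroup.mem_inf.2 ⟨h.1, h.2⟩
    · exfalso
      have hwg : w * g ∈ H := Subgroup.mem_inf.2 ⟨MulAction.mem_stabilizer_iff.2 (by rw [mul_smul, h.1, hwb]),
        MulAction.mem_stabilizer_iff.2 (by rw [mul_smul, h.2, hwa])⟩
      obtain ⟨x, hx, hx1⟩ := (Subgroup.bot_or_exists_ne_one H).resolve_left (CfsgLib.Zassenhaus.two_point_ne_bot hZ hab)
      have h1 : Commute w x := by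
        have h2 : Commute (w * g) x := hcomm _ hwg x hx
        have h3 : Commute g x := (Subgroup.mem_centralizer_iff.1 hg x hx).symm
        have := h2.mul_left h3.inv_left
        rwa [mul_inv_cancel_right] at this
      have h4 := hinv x hx
      rw [h1.eq, mul_inv_cancel_right] at h4
      have h5 : x ^ 2 = 1 := by rw [sq]; nth_rw 2 [h4]; exact mul_inv_cancel x
      have h6 := orderOf_dvd_of_pow_eq_one h5
      have h7 : orderOf x = 2 := ((Nat.dvd_prime Nat.prime_two).1 h6).resolve_left fun e => hx1 (orderOf_eq_one_iff.1 e)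
      exact hodd.not_two_dvd_nat (h7 ▸ H.orderOf_dvd_natCard hx)
  · intro s hsa hsb h hh
    have hws : w * s ∈ H := Subgroup.mem_inf.2 ⟨MulAction.mem_stabilizer_iff.2 (by rw [mul_smul, hsa, hwb]),
      MulAction.mem_stabilizer_iff.2 (by rw [mul_smul, hsb, hwa])⟩
    have e : s = w * (w * s) := by rw [← mul_assoc, hww, one_mul]
    rw [e, show w * (w * s) * h * (w * (w * s))⁻¹ = w * ((w * s) * h * (w * s)⁻¹) * w⁻¹ by group,
      hcomm _ hws h hh, mul_inv_cancel_right, hinv h hh]

end Cfsg.Agent.S0739
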