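import Cfsg.Statements.S0741
import Mathlib
-- import your own Cfsg.Agent.* helpers here

set_option autoImplicit false
open Cfsg

namespace Cfsg.Agent.S0741

/-- If the two-point stabilisers of a finite Zassenhaus group of degree `n + 1` have even order `d`, then `2d ≥ n - 1`. -/
theorem result {G Ω : Type*} [Group G] [Finite G] [MulAction G Ω] [Fintype Ω] (hZ : Cfsg.IsZassenhausGroup G Ω) {a b : Ω} (hab : a ≠ b) (heven : Even (Nat.card ↥(MulAction.stabilizer G a ⊓ MulAction.stabilizer G b))) : Fintype.card Ω - 2 ≤ 2 * Nat.card ↥(MulAction.stabilizer G a ⊓ MulAction.stabilizer G b) := by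
  classical
  obtain ⟨-, h2, h3, -, -⟩ := hZ
  haveI := h2
  set d := Nat.card ↥(MulAction.stabilizer G a ⊓ MulAction.stabilizer G b) with hd
  -- all two-point stabilisers have the same order
  have hconj : ∀ x y : Ω, x ≠ y → Nat.card ↥(MulAction.stabilizer G x ⊓ MulAction.stabilizer G y) = d ∧
      ∃ z : G, z * z = 1 ∧ z ≠ 1 ∧ z • x = x ∧ z • y = y := by
    intro x y hxy
    obtain ⟨g, hgx, hgy⟩ := MulAction.is_two_pretransitive_iff.1 h2 hab hxy
    have hiff : ∀ k : G, k ∈ MulAction.stabilizer G a ⊓ MulAction.stabilizer G b ↔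
        g * k * g⁻¹ ∈ MulAction.stabilizer G x ⊓ MulAction.stabilizer G y := fun k => by
      simp only [Subgroup.mem_inf, MulAction.mem_stabilizer_iff, mul_smul, ← hgx, ← hgy, inv_smul_smul, smul_left_cancel_iff]
    refine ⟨(Nat.card_congr ((MulAut.conj g).toEquiv.subtypeEquiv fun k => by
      rw [hiff]; rfl)).symm, ?_⟩
    obtain ⟨⟨k, hk⟩, hk2⟩ := exists_prime_orderOf_dvd_card' (G := ↥(MulAction.stabilizer G a ⊓ MulAction.stabilizer G b)) 2 heven.two_dvd
    rw [Subgroup.orderOf_mk] at hk2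
    have hkk : k * k = 1 := by rw [← sq, ← hk2, pow_orderOf_eq_one]
    refine ⟨g * k * g⁻¹, ?_, ?_, ((hiff k).1 hk).1, ((hiff k).1 hk).2⟩
    · rw [show g * k * g⁻¹ * (g * k * g⁻¹) = g * (k * k) * g⁻¹ by group, hkk]; group
    · rw [Ne, conj_eq_one_iff]
      intro e
      rw [e, orderOf_one] at hk2
      norm_num at hk2
  choose hcard z hzz hz1 hzx hzy using hconj
  let U : Type _ := Σ q : {q : Ω × Ω // q.1 ≠ q.2}, {g : G // g • q.1.1 = q.1.2 ∧ g • q.1.2 = q.1.1}
  have hU : Nat.card U ≤ Fintype.card Ω * (Fintype.card Ω - 1) * d := by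
    have hq : Nat.card {q : Ω × Ω // q.1 ≠ q.2} = Fintype.card Ω * (Fintype.card Ω - 1) := by
      rw [Nat.card_congr (show {q : Ω × Ω // q.1 ≠ q.2} ≃ Σ x : Ω, {y : Ω // x ≠ y} from
        { toFun := fun q => ⟨q.1.1, q.1.2, q.2⟩, invFun := fun q => ⟨(q.1, q.2.1), q.2.2⟩,
          left_inv := fun _ => rfl, right_inv := fun _ => rfl }), Nat.card_sigma]
      simp [Fintype.card_subtype_compl, Nat.card_eq_fintype_card]
    rw [Nat.card_sigma, ← hq, ← smul_eq_mul, Nat.card_eq_fintype_card (α := {q : Ω × Ω // q.1 ≠ q.2}), ← Finset.card_univ]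
    refine Finset.sum_le_card_nsmul _ _ _ fun q _ => ?_
    by_cases hne : Nonempty {g : G // g • q.1.1 = q.1.2 ∧ g • q.1.2 = q.1.1}
    · obtain ⟨g₀, hg₁, hg₂⟩ := hne
      rw [← hcard q.1.1 q.1.2 q.2]
      refine Nat.card_le_card_of_injective (fun g => ⟨g₀⁻¹ * g.1, ?_⟩) fun g g' e => ?_
      · refine Subgroup.mem_inf.2 ⟨MulAction.mem_stabilizer_iff.2 ?_, MulAction.mem_stabilizer_iff.2 ?_⟩
        · rw [mul_smul, g.2.1, inv_smul_eq_iff, hg₁]
        · rw [mul_smul, g.2.2, inv_smul_eq_iff, hg₂]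
      · exact Subtype.ext (mul_left_cancel (congrArg Subtype.val e))
    · haveI := not_nonempty_iff.1 hne
      simp
  let T : Type _ := Σ q : {q : Ω × Ω // q.1 ≠ q.2}, {c : Ω // c ≠ q.1.1 ∧ c ≠ q.1.2}
  have hT : Nat.card T = Fintype.card Ω * (Fintype.card Ω - 1) * (Fintype.card Ω - 2) := by
    have hq : Nat.card {q : Ω × Ω // q.1 ≠ q.2} = Fintype.card Ω * (Fintype.card Ω - 1) := by
      rw [Nat.card_congr (show {q : Ω × Ω // q.1 ≠ q.2} ≃ Σ x : Ω, {y : Ω // x ≠ y} from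
        { toFun := fun q => ⟨q.1.1, q.1.2, q.2⟩, invFun := fun q => ⟨(q.1, q.2.1), q.2.2⟩,
          left_inv := fun _ => rfl, right_inv := fun _ => rfl }), Nat.card_sigma]
      simp [Fintype.card_subtype_compl, Nat.card_eq_fintype_card]
    rw [Nat.card_sigma, Finset.sum_const_nat (m := Fintype.card Ω - 2) fun q _ => ?_, Finset.card_univ, ← Nat.card_eq_fintype_card, hq]
    rw [Nat.card_congr (Equiv.subtypeEquivRight (p := fun c : Ω => c ≠ q.1.1 ∧ c ≠ q.1.2) (q := fun c => c ∈ ({q.1.1, q.1.2} : Finset Ω)ᶜ) fun c => by simp),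
      Nat.card_eq_fintype_card, Fintype.card_coe, Finset.card_compl, Finset.card_pair q.2]
  let w : {q : Ω × Ω // q.1 ≠ q.2} → G := fun q => z q.1.1 q.1.2 q.2
  have hfix : ∀ (q : {q : Ω × Ω // q.1 ≠ q.2}) (c : Ω), w q • c = c ↔ c = q.1.1 ∨ c = q.1.2 := fun q c => by
    refine ⟨fun hc => ?_, ?_⟩
    · by_contra hh
      push Not at hh
      exact hz1 _ _ q.2 (h3 _ c q.1.1 q.1.2 hh.1 q.2 hh.2 hc (hzx _ _ q.2) (hzy _ _ q.2))
    · rintro (rfl | rfl)
      · exact hzx _ _ q.2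
      · exact hzy _ _ q.2
  let Φ : T → U × Bool := fun t =>
    (⟨⟨(t.2.1, w t.1 • t.2.1), fun e => by
        rcases (hfix t.1 t.2.1).1 e.symm with h | h
        · exact t.2.2.1 h
        · exact t.2.2.2 h⟩, w t.1, rfl, by rw [← mul_smul, hzz, one_smul]⟩,
      decide (Fintype.equivFin Ω t.1.1.1 < Fintype.equivFin Ω t.1.1.2))
  have hΦ : Function.Injective Φ := by
    rintro ⟨q, c⟩ ⟨q', c'⟩ e
    have hc : c.1 = c'.1 := congrArg (fun u : U × Bool => u.1.1.1.1) e
    have hw : w q = w q' := congrArg (fun u : U × Bool => u.1.2.1) e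
    have hb : decide (Fintype.equivFin Ω q.1.1 < Fintype.equivFin Ω q.1.2) = decide (Fintype.equivFin Ω q'.1.1 < Fintype.equivFin Ω q'.1.2) :=
      congrArg (fun u : U × Bool => u.2) e
    rw [decide_eq_decide] at hb
    have h1 := (hfix q' q.1.1).1 (hw ▸ (hfix q q.1.1).2 (Or.inl rfl))
    have h2' := (hfix q' q.1.2).1 (hw ▸ (hfix q q.1.2).2 (Or.inr rfl))
    have hqq : q = q' := by
      rcases h1 with h1 | h1 <;> rcases h2' with h2' | h2'
      · exact absurd (h1.trans h2'.symm) q.2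
      · exact Subtype.ext (Prod.ext h1 h2')
      · exfalso
        rw [h1, h2'] at hb
        rcases lt_or_gt_of_ne ((Fintype.equivFin Ω).injective.ne q'.2) with hlt | hlt
        · exact lt_asymm hlt (hb.2 hlt)
        · exact lt_asymm hlt (hb.1 hlt)
      · exact absurd (h1.trans h2'.symm) q.2
    subst hqq
    exact congrArg (Sigma.mk q) (Subtype.ext hc)
  have h := Nat.card_le_card_of_injective Φ hΦ
  rw [hT, Nat.card_prod, Nat.card_eq_fintype_card (α := Bool), Fintype.card_bool] at h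
  have h4 : Fintype.card Ω * (Fintype.card Ω - 1) * (Fintype.card Ω - 2) ≤ Fintype.card Ω * (Fintype.card Ω - 1) * (2 * d) :=
    h.trans ((Nat.mul_le_mul_right 2 hU).trans (le_of_eq (by ring)))
  refine Nat.le_of_mul_le_mul_left h4 ?_
  have h5 := Fintype.one_lt_card_iff_nontrivial.2 ⟨a, b, hab⟩
  exact Nat.mul_pos (by omega) (by omega)

end Cfsg.Agent.S0741
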