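import Cfsg.Statements.S0742
import Mathlib
import Cfsg.Agent.S0738
import Cfsg.Agent.S0740
import Cfsg.Agent.S0741
import Cfsg.Agent.Lib.Perm.ZassenhausOdd
import Cfsg.Agent.Lib.Perm.ZassenhausNormal
import Cfsg.Agent.Lib.Dickson.Basic
import Cfsg.Agent.Lib.SLCard
-- import your own Cfsg.Agent.* helpers here

set_option autoImplicit false
open Cfsg

namespace Cfsg.Agent.S0742

theorem mv_ne {K : Type} [Field K] (g : Matrix.SpecialLinearGroup (Fin 2) K) {v : Fin 2 → K} (hv : v ≠ 0) :
    Matrix.mulVec (g : Matrix (Fin 2) (Fin 2) K) v ≠ 0 := fun e => hv (by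
  have h := congrArg (fun u => Matrix.mulVec ((g⁻¹ : Matrix.SpecialLinearGroup (Fin 2) K) : Matrix (Fin 2) (Fin 2) K) u) e
  rw [Matrix.mulVec_mulVec, ← Matrix.SpecialLinearGroup.coe_mul, inv_mul_cancel, Matrix.SpecialLinearGroup.coe_one,
    Matrix.one_mulVec, Matrix.mulVec_zero] at h
  exact h)

theorem pj_congr {K : Type} [Field K] {v w : Fin 2 → K} (hv : v ≠ 0) (hw : w ≠ 0) (e : v = w) :
    Projectivization.mk K v hv = Projectivization.mk K w hw := by subst e; rfl

open MulAction in
/-- Projective transformations realised in `G`. -/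
def realised {G Ω : Type*} [Group G] [MulAction G Ω] {K : Type} [Field K]
    (Φ : Projectivization K (Fin 2 → K) → Ω) : Subgroup (Matrix.SpecialLinearGroup (Fin 2) K) where
  carrier := {g | ∃ h : G, ∀ (v : Fin 2 → K) (hv : v ≠ 0), h • Φ (Projectivization.mk K v hv) =
    Φ (Projectivization.mk K (Matrix.mulVec (g : Matrix (Fin 2) (Fin 2) K) v) (mv_ne g hv))}
  one_mem' := ⟨1, fun v hv => by
    rw [one_smul]
    exact congrArg Φ (pj_congr _ _ (by rw [Matrix.SpecialLinearGroup.coe_one, Matrix.one_mulVec]))⟩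
  mul_mem' := by
    rintro g g' ⟨h, hh⟩ ⟨h', hh'⟩
    refine ⟨h * h', fun v hv => ?_⟩
    rw [mul_smul, hh' v hv, hh]
    exact congrArg Φ (pj_congr _ _ (by rw [Matrix.mulVec_mulVec, Matrix.SpecialLinearGroup.coe_mul]))
  inv_mem' := by
    rintro g ⟨h, hh⟩
    refine ⟨h⁻¹, fun v hv => ?_⟩
    rw [inv_smul_eq_iff, hh]
    exact congrArg Φ (pj_congr _ _ (by rw [Matrix.mulVec_mulVec, ← Matrix.SpecialLinearGroup.coe_mul, mul_inv_cancel,
      Matrix.SpecialLinearGroup.coe_one, Matrix.one_mulVec]))

set_option maxHeartbeats 2000000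

/-- A finite Zassenhaus group of degree `n + 1` with two-point stabilisers of even order `d` satisfying `2d ≤ n - 1` has `n = p^f` for an odd prime `p` and is isomorphic to `PSL(2, p^f)`. -/
theorem result {G Ω : Type*} [Group G] [Finite G] [MulAction G Ω] [Fintype Ω] (hZ : Cfsg.IsZassenhausGroup G Ω) {a b : Ω} (hab : a ≠ b) (heven : Even (Nat.card ↥(MulAction.stabilizer G a ⊓ MulAction.stabilizer G b))) (hd : 2 * Nat.card ↥(MulAction.stabilizer G a ⊓ MulAction.stabilizer G b) ≤ Fintype.card Ω - 2) : ∃ (p f : ℕ) (K : Type) (_ : Field K) (_ : Fintype K), p.Prime ∧ p ≠ 2 ∧ Fintype.card K = p ^ f ∧ Fintype.card Ω = p ^ f + 1 ∧ Nonempty (G ≃* Matrix.ProjectiveSpecialLinearGroup (Fin 2) K) := by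
  classical
  open MulAction in
  have key : ∃ (p f : ℕ) (K : Type) (_ : Field K) (_ : Fintype K), p.Prime ∧ p ≠ 2 ∧ Fintype.card K = p ^ f ∧ Fintype.card Ω = p ^ f + 1 ∧ Nonempty (G ≃* Matrix.ProjectiveSpecialLinearGroup (Fin 2) K) := by
    have hZ' := hZ
    obtain ⟨hfaith, h2, h3, hfixe, -⟩ := hZ'
    haveI := hfaith
    haveI := h2
    set d := Nat.card ↥(stabilizer G a ⊓ stabilizer G b) with hdd
    have hge := CfsgLib.Zassenhaus.card_ge_three hZ
    have hn2 : Fintype.card Ω = 2 * d + 2 := by
      have h41 := Cfsg.Agent.S0741.result hZ hab heven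
      have hd0 : 0 < d := Nat.card_pos
      omega
    obtain ⟨F, hFa, hFn, hFfix, hFtrans, -⟩ := CfsgLib.ZassenhausNormal.exists_Q (G := G) h2 h3 hfixe a
    have hFreg : ∀ y z : Ω, y ≠ a → z ≠ a → ∃! u : F, (u : G) • y = z := by
      intro y z hy hz
      obtain ⟨q, hq, hqe⟩ := hFtrans y z hy hz
      refine ⟨⟨q, hq⟩, hqe, fun v hv => Subtype.ext ?_⟩
      by_contra hne
      refine hy (hFfix (q⁻¹ * v) (mul_mem (inv_mem hq) v.2) (fun e => hne (inv_mul_eq_one.mp e).symm) y ?_)
      rw [mul_smul, hv, inv_smul_eq_iff, hqe]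
    have hFn' : (F.subgroupOf (stabilizer G a)).Normal := ⟨fun x hx h => hFn h h.2 x hx⟩
    obtain ⟨hFab, p, f, hp, hFp, hcardΩ⟩ := Cfsg.Agent.S0738.result hZ hab (by omega) F hFa hFn' hFreg
    haveI := Fact.mk hp
    set q := p ^ f with hqdef
    have hf0 : f ≠ 0 := fun e => by rw [hqdef, e, pow_zero] at hcardΩ; omega
    have hp2 : p ≠ 2 := fun e => by
      obtain ⟨r, hr⟩ : 2 ∣ q := e ▸ dvd_pow_self p hf0
      omega
    have hqd : q = 2 * d + 1 := by omega
    -- every involution has two fixed points; swaps are involutions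
    have hcardD : ∀ u v : Ω, u ≠ v → Nat.card ↥(stabilizer G u ⊓ stabilizer G v) = d := fun u v huv =>
      (CfsgLib.ZassenhausOdd.card_D_eq hZ huv hab)
    obtain ⟨z, hz2, hza, hzb⟩ : ∃ z : G, orderOf z = 2 ∧ z • a = a ∧ z • b = b := by
      obtain ⟨⟨z, hz⟩, hz2⟩ := exists_prime_orderOf_dvd_card' (G := ↥(stabilizer G a ⊓ stabilizer G b)) 2 heven.two_dvd
      exact ⟨z, by rwa [Subgroup.orderOf_mk] at hz2, hz.1, hz.2⟩
    have hmulF : ∀ x ∈ F, ∀ y ∈ F, x * y = y * x := fun x hx y hy => congrArg Subtype.val (hFab.is_comm.comm ⟨x, hx⟩ ⟨y, hy⟩)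
    have hcentF : ∀ k : G, k • a = a → k • b = b → (∀ u ∈ F, k * u = u * k) → k = 1 := by
      intro k hka hkb hk
      refine FaithfulSMul.eq_of_smul_eq_smul (α := Ω) fun c => ?_
      rw [one_smul]
      by_cases hc : c = a
      · rw [hc, hka]
      · obtain ⟨⟨u, hu⟩, hub, -⟩ := hFreg b c hab.symm hc
        rw [← hub, ← mul_smul, hk u hu, mul_smul, hkb]
    have hinvert : ∀ k : G, orderOf k = 2 → k • a = a → k • b = b → ∀ u ∈ F, k * u * k⁻¹ = u⁻¹ := by
      intro k hk hka hkb u hu
      have hk1 : k ≠ 1 := fun e => by rw [e, orderOf_one] at hk; omega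
      have hkk : k * k = 1 := by rw [← sq, ← hk, pow_orderOf_eq_one]
      set w := u * (k * u * k⁻¹) with hw
      have hwF : w ∈ F := mul_mem hu (hFn k hka u hu)
      have hwk : k * w * k⁻¹ = w := by
        calc k * w * k⁻¹ = (k * u * k⁻¹) * (k * k * u * (k * k)⁻¹) := by rw [hw]; group
          _ = (k * u * k⁻¹) * u := by rw [hkk]; group
          _ = w := hmulF _ (hFn k hka u hu) u hu
      have hw1 : w = 1 := by
        by_contra hne
        have hwb : w • b ≠ b := fun e => hab.symm (hFfix w hwF hne b e)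
        have hwa : w • b ≠ a := fun e => hab.symm (MulAction.injective w (e.trans (hFa hwF).symm))
        refine hk1 (h3 k a b (w • b) hab hwb.symm hwa.symm hka hkb ?_)
        rw [← mul_smul, show k * w = w * k by rw [← mul_inv_eq_iff_eq_mul]; exact hwk, mul_smul, hkb]
      exact eq_inv_of_mul_eq_one_right hw1
    have huniq : ∀ u v : Ω, u ≠ v → ∀ x y : G, orderOf x = 2 → orderOf y = 2 → x • u = u → x • v = v → y • u = u → y • v = v → x = y := by
      intro u v huv x y hx hy hxu hxv hyu hyv
      obtain ⟨g, hgu, hgv⟩ := CfsgLib.Zassenhaus.exists_smul_pair hZ huv hab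
      have key : ∀ x : G, orderOf x = 2 → x • u = u → x • v = v →
          orderOf (g * x * g⁻¹) = 2 ∧ (g * x * g⁻¹) • a = a ∧ (g * x * g⁻¹) • b = b := fun x hx hxu hxv =>
        ⟨by rw [← MulAut.conj_apply, ← hx]; exact orderOf_injective (MulAut.conj g).toMonoidHom (MulAut.conj g).injective x,
          by rw [mul_smul, mul_smul, inv_smul_eq_iff.mpr hgu.symm, hxu, hgu],
          by rw [mul_smul, mul_smul, inv_smul_eq_iff.mpr hgv.symm, hxv, hgv]⟩
      obtain ⟨x1, xa, xb⟩ := key x hx hxu hxv
      obtain ⟨y1, ya, yb⟩ := key y hy hyu hyv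
      have h := hcentF ((g * x * g⁻¹)⁻¹ * (g * y * g⁻¹)) (by rw [mul_smul, ya, inv_smul_eq_iff, xa])
        (by rw [mul_smul, yb, inv_smul_eq_iff, xb]) (fun w hw => by
          have e1 := hinvert _ x1 xa xb w hw
          have e2 := hinvert _ y1 ya yb w hw
          rw [← mul_inv_eq_iff_eq_mul]
          calc (g * x * g⁻¹)⁻¹ * (g * y * g⁻¹) * w * ((g * x * g⁻¹)⁻¹ * (g * y * g⁻¹))⁻¹
              = (g * x * g⁻¹)⁻¹ * ((g * y * g⁻¹) * w * (g * y * g⁻¹)⁻¹) * (g * x * g⁻¹) := by group
            _ = (g * x * g⁻¹)⁻¹ * ((g * x * g⁻¹) * w * (g * x * g⁻¹)⁻¹) * (g * x * g⁻¹) := by rw [e2, e1]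
            _ = w := by group)
      exact mul_left_cancel (mul_right_cancel (inv_mul_eq_one.mp h))
    let T := {x : G // orderOf x = 2}
    haveI := Fintype.ofFinite T
    haveI := Fintype.ofFinite G
    let Pr := {uv : Ω × Ω // uv.1 ≠ uv.2}
    have hPr : Fintype.card Pr = Fintype.card Ω * (Fintype.card Ω - 1) := by
      rw [Fintype.card_subtype, show (Finset.univ.filter fun uv : Ω × Ω => uv.1 ≠ uv.2) = Finset.univ.offDiag by ext; simp,
        Finset.offDiag_card, Finset.card_univ, Nat.mul_sub, mul_one]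
    have hTsq : ∀ x : T, x.1 * x.1 = 1 := fun x => by
      rw [← sq]; exact orderOf_dvd_iff_pow_eq_one.mp x.2.dvd
    set fx : T → ℕ := fun x => (Finset.univ.filter fun c : Ω => x.1 • c = c).card with hfx
    have hfx02 : ∀ x : T, fx x = 0 ∨ fx x = 2 := by
      intro x
      obtain ⟨c, hc⟩ : ∃ c : Ω, x.1 • c ≠ c := by
        by_contra hall
        push_neg at hall
        have : x.1 = 1 := FaithfulSMul.eq_of_smul_eq_smul (α := Ω) fun c => by rw [hall c, one_smul]
        have h := x.2; rw [this, orderOf_one] at h; omega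
      have hcc : x.1 • x.1 • c = c := by rw [← mul_smul, hTsq, one_smul]
      have h := ((Cfsg.Agent.S0740.result hZ (Ne.symm hc)).2.1 x.1 x.2 rfl hcc).2 ⟨d + 1, by omega⟩
      have e : Nat.card (fixedBy Ω x.1) = fx x := by
        rw [Nat.card_eq_fintype_card, hfx, ← Set.toFinset_card]; congr 1; ext; simp
      rwa [e] at h
    -- pairs of fixed points
    have hsumfix : ∑ x : T, fx x = Fintype.card Pr := by
      let FS := Σ x : T, {uv : Ω × Ω // uv ∈ (Finset.univ.filter fun c : Ω => x.1 • c = c).offDiag}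
      have hbij : Function.Bijective (fun s : FS => (⟨s.2.1, (Finset.mem_offDiag.mp s.2.2).2.2⟩ : Pr)) := by
        refine ⟨fun s t e => ?_, fun uv => ?_⟩
        · obtain ⟨x, uv, huv⟩ := s
          obtain ⟨y, uv', huv'⟩ := t
          obtain rfl : uv = uv' := congrArg Subtype.val e
          have h1 := Finset.mem_offDiag.mp huv
          have h1' := Finset.mem_offDiag.mp huv'
          simp only [Finset.mem_filter, Finset.mem_univ, true_and] at h1 h1'
          obtain rfl : x = y := Subtype.ext (huniq _ _ h1.2.2 _ _ x.2 y.2 h1.1 h1.2.1 h1'.1 h1'.2.1)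
          rfl
        · obtain ⟨⟨u, v⟩, huv⟩ := uv
          obtain ⟨g, hgu, hgv⟩ := CfsgLib.Zassenhaus.exists_smul_pair hZ hab huv
          refine ⟨⟨⟨g * z * g⁻¹, by rw [← MulAut.conj_apply, ← hz2]; exact orderOf_injective (MulAut.conj g).toMonoidHom (MulAut.conj g).injective z⟩,
            ⟨(u, v), ?_⟩⟩, rfl⟩
          refine Finset.mem_offDiag.mpr ⟨Finset.mem_filter.mpr ⟨Finset.mem_univ _, ?_⟩, Finset.mem_filter.mpr ⟨Finset.mem_univ _, ?_⟩, huv⟩
          · show (g * z * g⁻¹) • u = u
            simp only at hgu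
            rw [← hgu, mul_smul, mul_smul, inv_smul_smul, hza]
          · show (g * z * g⁻¹) • v = v
            simp only at hgv
            rw [← hgv, mul_smul, mul_smul, inv_smul_smul, hzb]
      rw [← Fintype.card_of_bijective hbij, Fintype.card_sigma]
      refine Finset.sum_congr rfl fun x _ => ?_
      rw [Fintype.card_coe, Finset.offDiag_card]
      show fx x = fx x * fx x - fx x
      rcases hfx02 x with e | e <;> rw [e]
    -- swaps
    let MV := Σ x : T, {c : Ω // ¬ x.1 • c = c}
    let SW := Σ uv : Pr, {g : G // g • uv.1.1 = uv.1.2 ∧ g • uv.1.2 = uv.1.1}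
    have hswap_card : ∀ uv : Pr, Fintype.card {g : G // g • uv.1.1 = uv.1.2 ∧ g • uv.1.2 = uv.1.1} = d := by
      rintro ⟨⟨u, v⟩, huv⟩
      obtain ⟨g₀, hg1, hg2⟩ := CfsgLib.Zassenhaus.exists_smul_pair hZ huv (Ne.symm huv)
      rw [← hcardD u v huv, ← Nat.card_eq_fintype_card]
      refine Nat.card_congr ((Equiv.mulLeft g₀⁻¹).subtypeEquiv fun g => ?_)
      simp only [Subgroup.mem_inf, mem_stabilizer_iff, Equiv.coe_mulLeft, mul_smul, inv_smul_eq_iff, hg1, hg2]
    let toSW : MV → SW := fun s => ⟨⟨(s.2.1, s.1.1 • s.2.1), fun e => s.2.2 e.symm⟩, ⟨s.1.1, rfl, by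
      show s.1.1 • s.1.1 • s.2.1 = s.2.1
      rw [← mul_smul, hTsq, one_smul]⟩⟩
    have htoinj : Function.Injective toSW := by
      rintro ⟨x, c, hc⟩ ⟨y, c', hc'⟩ e
      obtain rfl : c = c' := congrArg (fun s : SW => s.1.1.1) e
      obtain rfl : x = y := Subtype.ext (congrArg (fun s : SW => s.2.1) e)
      rfl
    have hSW : Fintype.card SW = Fintype.card Pr * d := by
      rw [Fintype.card_sigma, Finset.sum_congr rfl fun uv _ => hswap_card uv, Finset.sum_const, Finset.card_univ, smul_eq_mul]
    have hMV : Fintype.card MV + Fintype.card Pr = Fintype.card T * Fintype.card Ω := by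
      rw [← hsumfix, Fintype.card_sigma, ← Finset.sum_add_distrib, ← smul_eq_mul, ← Finset.card_univ (α := T),
        ← Finset.sum_const]
      refine Finset.sum_congr rfl fun x _ => ?_
      rw [Fintype.card_subtype, hfx]
      show _ + (Finset.univ.filter fun c : Ω => x.1 • c = c).card = _
      rw [add_comm, Finset.card_filter_add_card_filter_not, Finset.card_univ]
    have hle := Fintype.card_le_of_injective toSW htoinj
    set I2 := (Finset.univ.filter fun x : T => fx x = 2).card with hI2
    have hI2e : 2 * I2 = Fintype.card Pr := by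
      rw [← hsumfix, hI2, Finset.card_filter, Finset.mul_sum]
      refine Finset.sum_congr rfl fun x _ => ?_
      rcases hfx02 x with e | e <;> simp [e]
    have hTI : I2 = Fintype.card T ∧ Fintype.card MV = Fintype.card SW := by
      have hI2le : I2 ≤ Fintype.card T := Finset.card_le_univ _
      rw [hSW] at hle ⊢
      rw [hPr, hn2, show 2 * d + 2 - 1 = 2 * d + 1 by omega] at hle hI2e hMV ⊢
      generalize Fintype.card T = t at hle hMV hI2le ⊢
      generalize Fintype.card MV = m at hle hMV ⊢
      have e1 : I2 = (d + 1) * (2 * d + 1) := by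
        refine Nat.eq_of_mul_eq_mul_left (show 0 < 2 by norm_num) ?_
        rw [hI2e]; ring
      have e2 : t * (2 * d + 2) ≤ I2 * (2 * d + 2) := by rw [← hMV, e1]; nlinarith
      have e3 : t = I2 := le_antisymm (Nat.le_of_mul_le_mul_right e2 (by omega)) hI2le
      refine ⟨e3.symm, ?_⟩
      rw [e3, e1] at hMV
      nlinarith
    have hT2 : ∀ x : G, orderOf x = 2 → (Finset.univ.filter fun c : Ω => x • c = c).card = 2 := fun x hx => by
      have h := Finset.eq_of_subset_of_card_le (Finset.filter_subset (fun x : T => fx x = 2) Finset.univ)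
        (by rw [Finset.card_univ, ← hTI.1])
      have hm := Finset.mem_univ (⟨x, hx⟩ : T)
      rw [← h, Finset.mem_filter] at hm
      exact hm.2
    have hswap_sq : ∀ g : G, ∀ u v : Ω, u ≠ v → g • u = v → g • v = u → g * g = 1 := by
      intro g u v huv h1 h2'
      obtain ⟨⟨x, c⟩, e⟩ := ((Fintype.bijective_iff_injective_and_card toSW).mpr ⟨htoinj, hTI.2⟩).2 ⟨⟨(u, v), huv⟩, ⟨g, h1, h2'⟩⟩
      have : x.1 = g := congrArg (fun s : SW => s.2.1) e
      rw [← this]; exact hTsq x
    -- the linear structure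
    letI : CommGroup F := { (inferInstance : Group F) with mul_comm := fun x y => Subtype.ext (hmulF _ x.2 _ y.2) }
    have hVp : ∀ x : Additive F, p • x = 0 := fun x =>
      congrArg Additive.ofMul (Subtype.ext (hFp _ (Additive.toMul x).2) : (Additive.toMul x) ^ p = 1)
    obtain ⟨modV⟩ : Nonempty (Module (ZMod p) (Additive F)) := ⟨AddCommGroup.zmodModule hVp⟩
    letI := modV
    set Dg := stabilizer G a ⊓ stabilizer G b with hDg
    let act : Dg → (Additive F) →+ (Additive F) := fun h =>
      { toFun := fun v => Additive.ofMul (⟨h * (Additive.toMul v : F) * (h : G)⁻¹, hFn h h.2.1 _ (Additive.toMul v).2⟩ : F)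
        map_zero' := congrArg Additive.ofMul (Subtype.ext (by simp))
        map_add' := fun x y => congrArg Additive.ofMul (Subtype.ext (by
          show (h : G) * (((Additive.toMul x : F) * (Additive.toMul y : F) : F) : G) * (h : G)⁻¹ =
            (h : G) * (Additive.toMul x : F) * (h : G)⁻¹ * ((h : G) * (Additive.toMul y : F) * (h : G)⁻¹)
          rw [Subgroup.coe_mul]; group)) }
    let ψ0 : Dg → Module.End (ZMod p) (Additive F) := fun h => (act h).toZModLinearMap p
    have hψ1 : ψ0 1 = 1 := by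
      refine LinearMap.ext fun v => ?_
      rw [Module.End.one_apply]
      refine congrArg Additive.ofMul (Subtype.ext ?_ : (⟨_, _⟩ : F) = Additive.toMul v)
      simp
    have hψm : ∀ h k : Dg, ψ0 (h * k) = ψ0 h * ψ0 k := fun h k => by
      refine LinearMap.ext fun v => congrArg Additive.ofMul (Subtype.ext ?_)
      show ((h * k : Dg) : G) * (Additive.toMul v : F) * ((h * k : Dg) : G)⁻¹ =
        (h : G) * ((k : G) * (Additive.toMul v : F) * (k : G)⁻¹) * (h : G)⁻¹
      simp; group
    let ψ : Dg →* Module.End (ZMod p) (Additive F) := { toFun := ψ0, map_one' := hψ1, map_mul' := hψm }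
    have hψ : ∀ (h : Dg) (v : (Additive F)), ((Additive.toMul (ψ h v) : F) : G) = h * (Additive.toMul v : F) * (h : G)⁻¹ := fun h v => rfl
    have hψfree : ∀ (h : Dg) (v : (Additive F)), v ≠ 0 → ψ h v = v → h = 1 := by
      intro h v hv he
      have e := congrArg (fun x : (Additive F) => ((Additive.toMul x : F) : G)) he
      simp only [hψ] at e
      have hw : ((Additive.toMul v : F) : G) ≠ 1 := fun e1 => hv (congrArg Additive.ofMul (Subtype.ext e1 : Additive.toMul v = 1))
      set w := ((Additive.toMul v : F) : G) with hwdef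
      have hwF : w ∈ F := (Additive.toMul v).2
      have hwb : w • b ≠ b := fun e => hab.symm (hFfix w hwF hw b e)
      have hwa : w • b ≠ a := fun e => hab.symm (MulAction.injective w (e.trans (hFa hwF).symm))
      refine Subtype.ext (h3 h a b (w • b) hab hwb.symm hwa.symm h.2.1 h.2.2 ?_)
      rw [← mul_smul, mul_inv_eq_iff_eq_mul.mp e, mul_smul, show (h : G) • b = b from h.2.2]
    obtain ⟨s₀, ⟨hs₀, hs₀a, hs₀b⟩⟩ := (Cfsg.Agent.S0740.result hZ hab).1
    have hs₀inv : ∀ h : Dg, s₀ * h * s₀⁻¹ = (h : G)⁻¹ := by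
      intro h
      have hss : s₀ * s₀ = 1 := by rw [← sq, ← hs₀, pow_orderOf_eq_one]
      have := hswap_sq (s₀ * h) a b hab (by rw [mul_smul, show (h : G) • a = a from h.2.1, hs₀a])
        (by rw [mul_smul, show (h : G) • b = b from h.2.2, hs₀b])
      calc s₀ * h * s₀⁻¹ = (s₀ * h * (s₀ * h)) * (h : G)⁻¹ * (s₀ * s₀)⁻¹ := by group
        _ = _ := by rw [this, hss]; group
    have hDcomm : ∀ h k : Dg, h * k = k * h := fun h k => by
      have e := hs₀inv (h * k)
      rw [Subgroup.coe_mul, show s₀ * ((h : G) * k) * s₀⁻¹ = s₀ * h * s₀⁻¹ * (s₀ * k * s₀⁻¹) by group, hs₀inv, hs₀inv] at e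
      have e2 := congrArg (·⁻¹) e
      simp only [mul_inv_rev, inv_inv] at e2
      exact Subtype.ext e2.symm
    haveI : Finite (Additive F) := Finite.of_equiv F Additive.ofMul
    have hcardV : Nat.card (Additive F) = q := by
      have hb' : Function.Bijective (fun u : F => (⟨(u : G) • b, fun e => hab.symm (MulAction.injective (u : G) (e.trans (hFa u.2).symm))⟩ : {c : Ω // c ≠ a})) := by
        refine ⟨fun u v e => ?_, fun ⟨c, hc⟩ => ?_⟩
        · obtain ⟨w, -, hw⟩ := hFreg b ((u : G) • b) hab.symm (fun e' => hab.symm (MulAction.injective (u : G) (e'.trans (hFa u.2).symm)))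
          exact (hw u rfl).trans (hw v (congrArg Subtype.val e).symm).symm
        · obtain ⟨u, hu, -⟩ := hFreg b c hab.symm hc
          exact ⟨u, Subtype.ext hu⟩
      rw [← Nat.card_congr (Additive.ofMul : F ≃ Additive F), Nat.card_congr (Equiv.ofBijective _ hb'), Nat.card_eq_fintype_card,
        Fintype.card_subtype_compl, Fintype.card_subtype_eq]
      omega
    have hDge : ∀ W : Submodule (ZMod p) (Additive F), (∀ h, ∀ v ∈ W, ψ h v ∈ W) → W = ⊥ ∨ W = ⊤ := by
      intro W hW
      by_contra hh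
      push_neg at hh
      obtain ⟨v, hv, hv0⟩ := Submodule.exists_mem_ne_zero_of_ne_bot hh.1
      haveI := Fintype.ofFinite W
      have h1 : Nat.card Dg ≤ Nat.card {w : W // w ≠ 0} :=
        Nat.card_le_card_of_injective (fun h => ⟨⟨ψ h v, hW h v hv⟩, fun e => by
          have e1 : ψ h v = 0 := congrArg Subtype.val e
          have e2 : ψ (h⁻¹ * h) v = 0 := by rw [map_mul, Module.End.mul_apply, e1, map_zero]
          rw [inv_mul_cancel, map_one, Module.End.one_apply] at e2
          exact hv0 e2⟩) (fun h k e => by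
          have e1 : ψ h v = ψ k v := congrArg (fun w : {w : W // w ≠ 0} => ((w.1 : W) : (Additive F))) e
          refine (inv_mul_eq_one.mp (hψfree (k⁻¹ * h) v hv0 ?_)).symm
          rw [map_mul, Module.End.mul_apply, e1, ← Module.End.mul_apply, ← map_mul, inv_mul_cancel, map_one, Module.End.one_apply])
      rw [Nat.card_eq_fintype_card (α := {w : W // w ≠ 0}), Fintype.card_subtype_compl, Fintype.card_subtype_eq,
        ← Nat.card_eq_fintype_card, Module.natCard_eq_pow_finrank (K := ZMod p) (V := W), Nat.card_zmod] at h1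
      have h2 := Submodule.finrank_lt hh.2
      have h3' : p ^ (Module.finrank (ZMod p) W + 1) ≤ q := by
        rw [← hcardV, Module.natCard_eq_pow_finrank (K := ZMod p) (V := Additive F), Nat.card_zmod]
        exact Nat.pow_le_pow_right hp.pos h2
      rw [pow_succ] at h3'
      have h4 : 3 ≤ p := by have := hp.two_le; omega
      have h5 : p ^ Module.finrank (ZMod p) W * 3 ≤ q := (Nat.mul_le_mul_left _ h4).trans h3'
      rw [← hdd] at h1
      have h6 : 0 < d := Nat.card_pos
      omega
    -- the field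
    let S := Algebra.adjoin (ZMod p) (Set.range ψ)
    letI : CommRing S := Algebra.adjoinCommRingOfComm (ZMod p) (by
      rintro _ ⟨h, rfl⟩ _ ⟨k, rfl⟩; rw [← map_mul, hDcomm, map_mul])
    let ψS : Dg →* S := ψ.codRestrict S fun h => Algebra.subset_adjoin ⟨h, rfl⟩
    obtain ⟨c0, hc0⟩ : ∃ c0 : (Additive F), c0 ≠ 0 := by
      haveI : Nontrivial (Additive F) := Finite.one_lt_card_iff_nontrivial.mp (by rw [hcardV]; omega)
      exact exists_ne 0
    have hinjS : ∀ r : S, r ≠ 0 → Function.Injective (r : Module.End (ZMod p) (Additive F)) := fun r hr => by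
      rcases hDge (LinearMap.ker (r : Module.End (ZMod p) (Additive F))) (fun h x hx => by
        rw [LinearMap.mem_ker] at hx ⊢
        have := LinearMap.congr_fun (congrArg Subtype.val (mul_comm r (ψS h))) x
        simp only [Subalgebra.coe_mul, Module.End.mul_apply, hx, map_zero] at this
        exact this) with e | e
      · exact LinearMap.ker_eq_bot.1 e
      · exact absurd (Subtype.ext (LinearMap.ker_eq_top.1 e)) hr
    let ev : S →ₗ[ZMod p] (Additive F) := (LinearMap.applyₗ c0).comp S.val.toLinearMap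
    have hev : Function.Bijective ev := by
      refine ⟨(injective_iff_map_eq_zero ev).2 fun r hr => ?_, LinearMap.range_eq_top.1 ?_⟩
      · by_contra h0
        exact hc0 (hinjS r h0 (hr.trans (map_zero _).symm))
      · rcases hDge (LinearMap.range ev) (fun h x hx => by
          obtain ⟨r, rfl⟩ := hx
          exact ⟨ψS h * r, rfl⟩) with e | e
        · exfalso
          have hm : c0 ∈ LinearMap.range ev := ⟨1, rfl⟩
          rw [e, Submodule.mem_bot] at hm
          exact hc0 hm
        · exact e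
    haveI : Finite S := Finite.of_injective ev hev.1
    haveI : Fintype S := Fintype.ofFinite S
    haveI : Nontrivial S := ⟨⟨1, 0, fun e => hc0 (LinearMap.congr_fun (congrArg Subtype.val e) c0)⟩⟩
    haveI : NoZeroDivisors S := ⟨fun {r t} h => by
      by_contra hh
      push_neg at hh
      exact hc0 (hinjS t hh.2 ((hinjS r hh.1 ((LinearMap.congr_fun (congrArg Subtype.val h) c0).trans (map_zero _).symm)).trans (map_zero _).symm))⟩
    haveI : IsDomain S := NoZeroDivisors.to_isDomain S
    letI : Field S := (Finite.isField_of_domain S).toField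
    obtain ⟨K, _, _, _, hcardK⟩ : ∃ (K : Type) (_ : Field K) (_ : Fintype K) (_ : CharP K p), Fintype.card K = q :=
      ⟨GaloisField p f, inferInstance, Fintype.ofFinite _, inferInstance, by
        rw [@Fintype.card_eq_nat_card, GaloisField.card p f hf0]⟩
    have hcardS : Fintype.card S = q := by rw [← Nat.card_eq_fintype_card, Nat.card_congr (Equiv.ofBijective ev hev), hcardV]
    let κ : S ≃+* K := FiniteField.ringEquivOfCardEq (hcardS.trans hcardK.symm)
    let τ0 : (Additive F) ≃+ K := (LinearEquiv.ofBijective ev hev).symm.toAddEquiv.trans κ.toAddEquiv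
    let ε : Dg →* K := κ.toRingHom.toMonoidHom.comp ψS
    have hτ0 : ∀ (h : Dg) (v : (Additive F)), τ0 (ψ h v) = ε h * τ0 v := by
      intro h v
      obtain ⟨r, rfl⟩ := hev.2 v
      have e : ψ h (ev r) = ev (ψS h * r) := rfl
      rw [e]
      show κ ((LinearEquiv.ofBijective ev hev).symm (ev (ψS h * r))) = κ (ψS h) * κ ((LinearEquiv.ofBijective ev hev).symm (ev r))
      rw [show ev (ψS h * r) = LinearEquiv.ofBijective ev hev (ψS h * r) from rfl,
        show ev r = LinearEquiv.ofBijective ev hev r from rfl, LinearEquiv.symm_apply_apply, LinearEquiv.symm_apply_apply, map_mul]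
    -- the swap and the normalisation
    have hss : s₀ * s₀ = 1 := by rw [← sq, ← hs₀, pow_orderOf_eq_one]
    obtain ⟨r, hra, hrb, hr⟩ : ∃ r, r ≠ a ∧ r ≠ b ∧ s₀ • r = r := by
      obtain ⟨r, hr⟩ := Finset.card_pos.mp (show 0 < (Finset.univ.filter fun c : Ω => s₀ • c = c).card by rw [hT2 s₀ hs₀]; norm_num)
      rw [Finset.mem_filter] at hr
      exact ⟨r, fun e => hab (by rw [e] at hr; exact hr.2.symm.trans hs₀a), fun e => hab (by rw [e] at hr; exact (hr.2.symm.trans hs₀b).symm), hr.2⟩
    obtain ⟨⟨ur, hur⟩, hurb, -⟩ := hFreg b r hab.symm hra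
    set c1 := τ0 (Additive.ofMul ⟨ur, hur⟩) with hc1
    have hc1' : c1 ≠ 0 := by
      intro e
      have e0 : (Additive.ofMul (⟨ur, hur⟩ : F) : (Additive F)) = 0 := τ0.injective (e.trans (map_zero τ0).symm)
      have e1 : ur = 1 := congrArg Subtype.val (congrArg Additive.toMul e0 : (⟨ur, hur⟩ : F) = 1)
      have hurb' : ur • b = r := hurb
      rw [e1, one_smul] at hurb'
      exact hrb hurb'.symm
    let τ : F → K := fun u => τ0 (Additive.ofMul u) * c1⁻¹
    have hτadd : ∀ u v : F, τ (u * v) = τ u + τ v := fun u v => by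
      show τ0 (Additive.ofMul (u * v)) * c1⁻¹ = _
      rw [ofMul_mul, map_add, add_mul]
    have hτbij : Function.Bijective τ := ((mul_left_injective₀ (inv_ne_zero hc1')).bijective_of_finite).comp
      (τ0.bijective.comp Additive.ofMul.bijective)
    choose t ht using hτbij.2
    have hτinj : ∀ u v : F, τ u = τ v → u = v := fun u v e => hτbij.1 e
    have ht_add : ∀ x y : K, t (x + y) = t x * t y := fun x y => hτinj _ _ (by rw [hτadd, ht, ht, ht])
    have ht0 : t 0 = 1 := hτinj _ _ (by
      rw [ht]; show (0 : K) = τ0 (Additive.ofMul (1 : F)) * c1⁻¹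
      rw [ofMul_one, map_zero, zero_mul])
    have ht1 : t 1 = ⟨ur, hur⟩ := hτinj _ _ (by
      rw [ht]; show (1 : K) = τ0 _ * c1⁻¹
      rw [← hc1, mul_inv_cancel₀ hc1'])
    have htconj : ∀ (h : Dg) (x : K), (h : G) * (t x : G) * (h : G)⁻¹ = (t (ε h * x) : G) := by
      intro h x
      have e : τ (⟨_, hFn h h.2.1 _ (t x).2⟩ : F) = ε h * x := by
        show τ0 (ψ h (Additive.ofMul (t x))) * c1⁻¹ = _
        rw [hτ0, mul_assoc]
        congr 1
        exact ht x
      exact congrArg Subtype.val (hτinj _ _ (e.trans (ht _).symm))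
    let P : K → Ω := fun x => (t x : G) • b
    have hP0 : P 0 = b := by show (t 0 : G) • b = b; rw [ht0, Subgroup.coe_one, one_smul]
    have hP1 : P 1 = r := by show (t 1 : G) • b = r; rw [ht1]; exact hurb
    have hPa : ∀ x, P x ≠ a := fun x e => hab.symm (MulAction.injective (t x : G) (e.trans (hFa (t x).2).symm))
    have hPinj : Function.Injective P := fun x y e => by
      obtain ⟨w, -, hw⟩ := hFreg b (P x) hab.symm (hPa x)
      rw [← ht x, ← ht y, (hw (t x) rfl).trans (hw (t y) e.symm).symm]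
    have hPsurj : ∀ c, c ≠ a → ∃ x, P x = c := fun c hc => by
      obtain ⟨u, hu, -⟩ := hFreg b c hab.symm hc
      exact ⟨τ u, by show (t (τ u) : G) • b = c; rw [hτinj (t (τ u)) u (ht _)]; exact hu⟩
    have hPt : ∀ x y, (t y : G) • P x = P (y + x) := fun x y => by
      show (t y : G) • (t x : G) • b = (t (y + x) : G) • b
      rw [ht_add, Subgroup.coe_mul, mul_smul]
    have hPh : ∀ (h : Dg) x, (h : G) • P x = P (ε h * x) := fun h x => by
      show (h : G) • (t x : G) • b = (t (ε h * x) : G) • b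
      rw [← htconj h x, mul_smul, mul_smul, show (h : G)⁻¹ • b = b from inv_smul_eq_iff.mpr (h.2.2).symm]
    have hεinj : Function.Injective ε := fun h k e => by
      have e1 : ψS h = ψS k := κ.injective e
      have e2 : ψ h c0 = ψ k c0 := LinearMap.congr_fun (congrArg Subtype.val e1) c0
      refine (inv_mul_eq_one.mp (hψfree (k⁻¹ * h) c0 hc0 ?_)).symm
      rw [map_mul, Module.End.mul_apply, e2, ← Module.End.mul_apply, ← map_mul, inv_mul_cancel, map_one, Module.End.one_apply]
    have hεne : ∀ h : Dg, ε h ≠ 0 := fun h e => by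
      have := map_mul ε h⁻¹ h
      rw [inv_mul_cancel, map_one, e, mul_zero] at this
      exact one_ne_zero this
    have hchar : ringChar K ≠ 2 := by rw [ringChar.eq K p]; exact hp2
    have hsq : ∀ x : K, x ≠ 0 → IsSquare x → ∃ h : Dg, ε h = x := by
      intro x hx hxs
      haveI := Fintype.ofFinite Dg
      have hsub : Finset.univ.image ε ⊆ Finset.univ.filter (fun y : K => y ≠ 0 ∧ IsSquare y) := fun y hy => by
        obtain ⟨h, -, rfl⟩ := Finset.mem_image.mp hy
        refine Finset.mem_filter.mpr ⟨Finset.mem_univ _, hεne h, (FiniteField.isSquare_iff hchar (hεne h)).mpr ?_⟩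
        rw [← map_pow, show Fintype.card K / 2 = Nat.card Dg by rw [← hdd]; omega, pow_card_eq_one', map_one]
      have hroots : (Finset.univ.filter (fun y : K => y ≠ 0 ∧ IsSquare y)).card ≤ d := by
        have hs : Finset.univ.filter (fun y : K => y ≠ 0 ∧ IsSquare y) ⊆ (Polynomial.nthRoots d (1 : K)).toFinset := fun y hy => by
          simp only [Finset.mem_filter, Finset.mem_univ, true_and] at hy
          rw [Multiset.mem_toFinset, Polynomial.mem_nthRoots (show 0 < d from Nat.card_pos)]
          have := (FiniteField.isSquare_iff hchar hy.1).mp hy.2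
          rwa [show Fintype.card K / 2 = d by omega] at this
        exact (Finset.card_le_card hs).trans ((Multiset.toFinset_card_le _).trans (Polynomial.card_nthRoots d 1))
      have heq := Finset.eq_of_subset_of_card_le hsub (by
        rw [Finset.card_image_of_injective _ hεinj, Finset.card_univ, ← Nat.card_eq_fintype_card, ← hdd]; exact hroots)
      have : x ∈ Finset.univ.image ε := by rw [heq]; simp [hx, hxs]
      obtain ⟨h, -, rfl⟩ := Finset.mem_image.mp this
      exact ⟨h, rfl⟩
    have hεsq : ∀ h : Dg, IsSquare (ε h) := fun h => (FiniteField.isSquare_iff hchar (hεne h)).mpr (by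
      rw [← map_pow, show Fintype.card K / 2 = Nat.card Dg by rw [← hdd]; omega, pow_card_eq_one', map_one])
    have hm1 : IsSquare (-1 : K) := by
      rw [FiniteField.isSquare_iff hchar (neg_ne_zero.mpr one_ne_zero), show Fintype.card K / 2 = d by omega]
      exact heven.neg_one_pow
    have hσ0 : ∀ x : K, x ≠ 0 → ∃ y, y ≠ 0 ∧ s₀ • P x = P y := fun x hx => by
      obtain ⟨y, hy⟩ := hPsurj (s₀ • P x) (fun e => hx (hPinj (by
        rw [hP0]; exact MulAction.injective s₀ (e.trans hs₀b.symm))))
      exact ⟨y, fun e => hPa x (MulAction.injective s₀ (by show s₀ • P x = s₀ • a; rw [← hy, e, hP0, hs₀a])), hy.symm⟩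
    choose! σ hσne hσ using hσ0
    have hσε : ∀ (h : Dg) x, x ≠ 0 → σ (ε h * x) = (ε h)⁻¹ * σ x := by
      intro h x hx
      apply hPinj
      have hinv : ε h⁻¹ = (ε h)⁻¹ := eq_inv_of_mul_eq_one_left (by rw [← map_mul, inv_mul_cancel, map_one])
      rw [← hσ _ (mul_ne_zero (hεne h) hx), ← hPh, ← mul_smul, show s₀ * (h : G) = (h : G)⁻¹ * s₀ by
        rw [← hs₀inv h]; group, mul_smul, hσ x hx, ← Subgroup.coe_inv, hPh, hinv]
    have hσ1 : σ 1 = 1 := hPinj (by rw [← hσ 1 one_ne_zero, hP1, hr])
    have hσσ : ∀ x, x ≠ 0 → σ (σ x) = x := fun x hx => hPinj (by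
      rw [← hσ _ (hσne x hx), ← hσ x hx, ← mul_smul, hss, one_smul])
    have hsq_inv : ∀ x, x ≠ 0 → IsSquare x → σ x = x⁻¹ := fun x hx hxs => by
      obtain ⟨h, rfl⟩ := hsq x hx hxs
      have := hσε h 1 one_ne_zero
      rwa [mul_one, hσ1, mul_one] at this
    obtain ⟨g, hg⟩ := FiniteField.exists_nonsquare hchar
    have hg0 : g ≠ 0 := fun e => hg (e ▸ IsSquare.zero)
    set c := g * σ g with hc
    have hns : ∀ x, x ≠ 0 → ¬ IsSquare x → σ x = c * x⁻¹ := fun x hx hxs => by
      obtain ⟨h, hh⟩ := hsq (x * g⁻¹) (mul_ne_zero hx (inv_ne_zero hg0)) (by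
        rw [FiniteField.isSquare_iff hchar (mul_ne_zero hx (inv_ne_zero hg0)), mul_pow, inv_pow,
          (FiniteField.pow_dichotomy hchar hx).resolve_left (fun e => hxs ((FiniteField.isSquare_iff hchar hx).mpr e)),
          (FiniteField.pow_dichotomy hchar hg0).resolve_left (fun e => hg ((FiniteField.isSquare_iff hchar hg0).mpr e))]
        norm_num)
      have := hσε h g hg0
      rw [hh] at this
      rw [show x * g⁻¹ * g = x by field_simp] at this
      rw [this, hc]; field_simp
    -- the identity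
    have hgen : ∀ k : G, k • a = a → ∃ (h : Dg) (β : K), ∀ x, k • P x = P (ε h * x + β) := by
      intro k hk
      obtain ⟨β, hβ⟩ := hPsurj (k • b) (fun e => hab.symm (MulAction.injective k (e.trans hk.symm)))
      refine ⟨⟨(t β : G)⁻¹ * k, ?_, ?_⟩, β, fun x => ?_⟩
      · show ((t β : G)⁻¹ * k) • a = a
        rw [mul_smul, hk, inv_smul_eq_iff]; exact (hFa (t β).2).symm
      · show ((t β : G)⁻¹ * k) • b = b
        rw [mul_smul, ← hβ, inv_smul_eq_iff]
      · rw [add_comm, ← hPt, ← hPh]
        refine Eq.trans ?_ (mul_smul _ _ _)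
        congr 1
        show k = (t β : G) * ((t β : G)⁻¹ * k)
        group
    set k₀ := s₀ * (t (-1) : G) * s₀ * (t 1 : G) * s₀ with hk₀
    have hσm1 : σ (-1) = -1 := by rw [hsq_inv _ (neg_ne_zero.mpr one_ne_zero) hm1, inv_neg, inv_one]
    have hsP0 : s₀ • P 0 = a := by rw [hP0, hs₀b]
    have hsa : s₀ • a = P 0 := by rw [hP0, hs₀a]
    obtain ⟨h₀, β₀, hk⟩ := hgen k₀ (by
      rw [hk₀, mul_smul, mul_smul, mul_smul, mul_smul, hsa, hPt, add_zero, hσ 1 one_ne_zero, hσ1, hPt, neg_add_cancel, hsP0])
    have hβ : β₀ = -1 := by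
      apply hPinj
      have := hk 0
      rw [mul_zero, zero_add] at this
      rw [← this, hk₀, mul_smul, mul_smul, mul_smul, mul_smul, hsP0, show (t 1 : G) • a = a from hFa (t 1).2, hsa, hPt, add_zero,
        hσ _ (neg_ne_zero.mpr one_ne_zero), hσm1]
    have hε0 : ε h₀ = -1 := by
      have h1 := hk (-1)
      rw [hβ, hk₀, mul_smul, mul_smul, mul_smul, mul_smul, hσ _ (neg_ne_zero.mpr one_ne_zero), hσm1, hPt, add_neg_cancel, hsP0,
        show (t (-1) : G) • a = a from hFa (t (-1)).2, hsa] at h1
      have := hPinj h1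
      linear_combination this
    have hid : ∀ x, x ≠ 0 → x ≠ -1 → σ x + 1 ≠ 0 → σ (σ x + 1) = 1 + σ (-x - 1) := by
      intro x hx hx1 hy
      have h1 := hk x
      rw [hε0, hβ, show -1 * x + -1 = -x - 1 by ring, hk₀, mul_smul, mul_smul, mul_smul, mul_smul, hσ x hx, hPt,
        add_comm 1 (σ x), hσ _ hy, hPt] at h1
      have h2 : -x - 1 ≠ 0 := fun e => hx1 (by linear_combination -e)
      have h3' : -1 + σ (σ x + 1) ≠ 0 := fun e => by
        rw [e, hsP0] at h1
        exact hPa _ h1.symm
      rw [hσ _ h3'] at h1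
      have h4 := hσσ _ h3'
      rw [hPinj h1] at h4
      linear_combination -h4
    have hc1eq : c = 1 := by
      by_contra hcne
      have hroot : ∀ x, x ≠ 0 → ¬ IsSquare x → x * x + x + c = 0 := by
        intro x hx hxs
        have hx1 : x ≠ -1 := fun e => hxs (e ▸ hm1)
        have hy : σ x + 1 ≠ 0 := fun e => hxs (by
          have e1 : σ x = -1 := by linear_combination e
          have := hσσ x hx
          rw [e1, hσm1] at this
          exact this ▸ hm1)
        have hc0 : c ≠ 0 := mul_ne_zero hg0 (hσne g hg0)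
        have hid' := hid x hx hx1 hy
        have hcx : c + x ≠ 0 := fun e => hy (by rw [hns x hx hxs]; field_simp; linear_combination e)
        have hw : -x - 1 ≠ 0 := fun e => hx1 (by linear_combination -e)
        have hinvy : (σ x + 1)⁻¹ = x / (c + x) := by rw [hns x hx hxs]; field_simp
        have key : ∀ k1 k2 : K, k1 * (x / (c + x)) = 1 + k2 * (-x - 1)⁻¹ → k1 * x * (x + 1) = (x + c) * (x + 1 - k2) := by
          intro k1 k2 h
          field_simp at h
          linear_combination -h
        have L : σ (σ x + 1) = 1 * (x / (c + x)) ∨ σ (σ x + 1) = c * (x / (c + x)) := by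
          by_cases e : IsSquare (σ x + 1)
          · exact Or.inl (by rw [hsq_inv _ hy e, hinvy, one_mul])
          · exact Or.inr (by rw [hns _ hy e, hinvy])
        have R : σ (-x - 1) = 1 * (-x - 1)⁻¹ ∨ σ (-x - 1) = c * (-x - 1)⁻¹ := by
          by_cases e : IsSquare (-x - 1)
          · exact Or.inl (by rw [hsq_inv _ hw e, one_mul])
          · exact Or.inr (hns _ hw e)
        have hc1' : c - 1 ≠ 0 := sub_ne_zero.mpr hcne
        rcases L with l | l <;> rcases R with r' | r' <;> rw [l, r'] at hid' <;> have h := key _ _ hid'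
        · exact absurd (show (c - 1) * x = 0 by linear_combination -h) (mul_ne_zero hc1' hx)
        · exact absurd (show (c - 1) * c = 0 by linear_combination h) (mul_ne_zero hc1' hc0)
        · exact absurd (show (c - 1) * (x * x) = 0 by linear_combination h) (mul_ne_zero hc1' (mul_ne_zero hx hx))
        · exact (mul_eq_zero.mp (show (c - 1) * (x * x + x + c) = 0 by linear_combination h)).resolve_left hc1'
      have h1 := hroot g hg0 hg
      have h2' := hroot (-g) (neg_ne_zero.mpr hg0) (fun e => hg (by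
        have := hm1.mul e
        rwa [neg_mul_neg, one_mul] at this))
      have h5 : (2 : K) * g = 0 := by linear_combination h1 - h2'
      exact hg0 ((mul_eq_zero.mp h5).resolve_left (Ring.two_ne_zero hchar))
    have hσinv : ∀ x, x ≠ 0 → σ x = x⁻¹ := fun x hx => by
      by_cases e : IsSquare x
      · exact hsq_inv x hx e
      · rw [hns x hx e, hc1eq, one_mul]
    -- the isomorphism
    let Φ : Projectivization K (Fin 2 → K) → Ω := Projectivization.lift
      (fun v : {v : Fin 2 → K // v ≠ 0} => if v.1 1 = 0 then a else P (v.1 0 / v.1 1))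
      (by
        intro v w c hvw
        have e0 : v.1 0 = c * w.1 0 := by rw [hvw]; rfl
        have e1 : v.1 1 = c * w.1 1 := by rw [hvw]; rfl
        have hc : c ≠ 0 := fun e => v.2 (by rw [hvw, e, zero_smul])
        simp only [e0, e1, mul_eq_zero, hc, false_or, mul_div_mul_left _ _ hc])
    have hΦ : ∀ (v : Fin 2 → K) (hv : v ≠ 0), Φ (Projectivization.mk K v hv) = if v 1 = 0 then a else P (v 0 / v 1) := fun v hv => rfl
    have hup : ∀ x : K, (⟨!![1, x; 0, 1], by simp [Matrix.det_fin_two]⟩ : Matrix.SpecialLinearGroup (Fin 2) K) ∈ realised (G := G) Φ := by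
      intro x
      refine ⟨t x, fun v hv => ?_⟩
      rw [hΦ, hΦ]
      simp only [Matrix.mulVec, dotProduct, Fin.sum_univ_two, Matrix.of_apply, Matrix.cons_val', Matrix.cons_val_zero,
        Matrix.cons_val_one, Matrix.cons_val_fin_one, one_mul, zero_mul, zero_add]
      by_cases h0 : v 1 = 0
      · rw [if_pos h0, if_pos h0]; exact hFa (t x).2
      · rw [if_neg h0, if_neg h0, hPt]; congr 1; field_simp; ring
    obtain ⟨hm, hhm⟩ := hsq (-1) (neg_ne_zero.mpr one_ne_zero) hm1
    have hw : (⟨!![0, -1; 1, 0], by simp [Matrix.det_fin_two]⟩ : Matrix.SpecialLinearGroup (Fin 2) K) ∈ realised (G := G) Φ := by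
      refine ⟨(hm : G) * s₀, fun v hv => ?_⟩
      rw [hΦ, hΦ]
      simp only [Matrix.mulVec, dotProduct, Fin.sum_univ_two, Matrix.of_apply, Matrix.cons_val', Matrix.cons_val_zero,
        Matrix.cons_val_one, Matrix.cons_val_fin_one, one_mul, zero_mul, zero_add, add_zero, neg_one_mul, mul_smul]
      by_cases h1 : v 1 = 0
      · have h0 : v 0 ≠ 0 := fun e => hv (by funext i; fin_cases i <;> assumption)
        rw [if_pos h1, if_neg h0, hsa, hPh, h1, mul_zero, neg_zero, zero_div]
      · rw [if_neg h1]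
        by_cases h0 : v 0 = 0
        · rw [if_pos h0, h0, zero_div, hsP0]; exact hm.2.1
        · rw [if_neg h0, hσ _ (div_ne_zero h0 h1), hPh, hhm, hσinv _ (div_ne_zero h0 h1)]; congr 1; field_simp
    have htop : realised (G := G) Φ = ⊤ := by
      rw [eq_top_iff]
      intro g _
      have hlo : ∀ y : K, (CfsgLib.Dickson.lo y) ∈ realised (G := G) Φ := fun y => by
        have eW : ∀ W : Matrix.SpecialLinearGroup (Fin 2) K, W.1 = !![0, -1; 1, 0] →
            W * CfsgLib.Dickson.up (-y) * W⁻¹ = CfsgLib.Dickson.lo y := fun W e => by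
          obtain ⟨i0, i1, i2, i3⟩ := CfsgLib.Dickson.inv_entries W
          apply CfsgLib.Dickson.ext_entries <;> simp [CfsgLib.Dickson.mul_entry, i0, i1, i2, i3, e]
        rw [← eW ⟨!![0, -1; 1, 0], by simp [Matrix.det_fin_two]⟩ rfl]
        exact mul_mem (mul_mem hw (hup (-y))) (inv_mem hw)
      have hupd : ∀ y : K, (CfsgLib.Dickson.up y) ∈ realised (G := G) Φ := hup
      have key : ∀ g : Matrix.SpecialLinearGroup (Fin 2) K, g.1 1 0 ≠ 0 → g ∈ realised (G := G) Φ := by
        intro g hc
        have hd := CfsgLib.Dickson.det_eq g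
        have : g = CfsgLib.Dickson.up ((g.1 0 0 - 1) / g.1 1 0) * CfsgLib.Dickson.lo (g.1 1 0) * CfsgLib.Dickson.up ((g.1 1 1 - 1) / g.1 1 0) := by
          apply CfsgLib.Dickson.ext_entries <;> simp [CfsgLib.Dickson.mul_entry] <;> field_simp
          · ring
          · linear_combination -hd
          · ring
        rw [this]
        exact mul_mem (mul_mem (hupd _) (hlo _)) (hupd _)
      by_cases hc : g.1 1 0 = 0
      · have h11 : g.1 1 1 ≠ 0 := fun e => by
          have := CfsgLib.Dickson.det_eq g; rw [hc, e] at this; simp at this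
        have h1 := key (g * CfsgLib.Dickson.lo 1) (by simp [CfsgLib.Dickson.mul_entry, hc, h11])
        simpa using mul_mem h1 (inv_mem (hlo 1))
      · exact key g hc
    have hΦsurj : Function.Surjective Φ := fun o => by
      by_cases ho : o = a
      · exact ⟨Projectivization.mk K ![1, 0] (by simp), by rw [hΦ]; simp [ho]⟩
      · obtain ⟨x, hx⟩ := hPsurj o ho
        exact ⟨Projectivization.mk K ![x, 1] (by simp), by rw [hΦ]; simp [hx]⟩
    choose φ0 hφ0 using fun g : Matrix.SpecialLinearGroup (Fin 2) K => (htop.ge (Subgroup.mem_top g) :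
      g ∈ realised (G := G) Φ)
    have hext : ∀ h k : G, (∀ (v : Fin 2 → K) (hv : v ≠ 0), h • Φ (Projectivization.mk K v hv) = k • Φ (Projectivization.mk K v hv)) → h = k := fun h k e =>
      FaithfulSMul.eq_of_smul_eq_smul (α := Ω) fun o => by
        obtain ⟨pt, rfl⟩ := hΦsurj o
        rw [← Projectivization.mk_rep pt]; exact e _ _
    let φ : Matrix.SpecialLinearGroup (Fin 2) K →* G := MonoidHom.mk' φ0 fun g g' => hext _ _ fun v hv => by
      rw [hφ0, mul_smul, hφ0 g', hφ0 g]
      exact congrArg Φ (pj_congr _ _ (by rw [Matrix.mulVec_mulVec, Matrix.SpecialLinearGroup.coe_mul]))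
    have hker : φ.ker ≤ Subgroup.center (Matrix.SpecialLinearGroup (Fin 2) K) := fun g hg => by
      have hfix : ∀ (v : Fin 2 → K) (hv : v ≠ 0) hgv, Φ (Projectivization.mk K (Matrix.mulVec g.1 v) hgv) = Φ (Projectivization.mk K v hv) := fun v hv hgv => by
        rw [← hφ0 g v hv, show φ0 g = 1 from hg, one_smul]
      have hmul : ∀ v : Fin 2 → K, v ≠ 0 → Matrix.mulVec g.1 v ≠ 0 := fun v hv => mv_ne g hv
      have e0 := hfix ![1, 0] (by simp) (hmul _ (by simp))
      have e1 := hfix ![0, 1] (by simp) (hmul _ (by simp))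
      have e2 := hfix ![1, 1] (by simp) (hmul _ (by simp))
      rw [hΦ, hΦ] at e0 e1 e2
      simp only [Matrix.mulVec, dotProduct, Fin.sum_univ_two, Matrix.cons_val_zero, Matrix.cons_val_one,
        Matrix.cons_val_fin_one, mul_one, mul_zero, add_zero, zero_add, if_true, one_ne_zero, if_false, zero_div, div_one] at e0 e1 e2
      have h10 : g.1 1 0 = 0 := by
        by_contra h; rw [if_neg h] at e0; exact hPa _ e0
      have h11 : g.1 1 1 ≠ 0 := fun e => by
        have := CfsgLib.Dickson.det_eq g; rw [h10, e] at this; simp at this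
      rw [if_neg h11] at e1
      have h01 : g.1 0 1 = 0 := (div_eq_zero_iff.mp (hPinj e1)).resolve_right h11
      rw [h10, zero_add, if_neg h11, h01, add_zero] at e2
      have h00 : g.1 0 0 = g.1 1 1 := (div_eq_one_iff_eq h11).mp (hPinj e2)
      rw [Subgroup.mem_center_iff]
      intro k
      apply CfsgLib.Dickson.ext_entries <;> simp [CfsgLib.Dickson.mul_entry, h10, h01, h00] <;> ring
    have hcen : Subgroup.center (Matrix.SpecialLinearGroup (Fin 2) K) ≤ φ.ker := fun g hg => by
      rw [MonoidHom.mem_ker]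
      refine hext _ _ fun v hv => ?_
      show φ0 g • _ = _
      rw [hφ0, one_smul]
      congr 1
      rw [Projectivization.mk_eq_mk_iff']
      refine ⟨g.1 0 0, ?_⟩
      have hu := Subgroup.mem_center_iff.mp hg (CfsgLib.Dickson.up 1)
      have hl := Subgroup.mem_center_iff.mp hg (CfsgLib.Dickson.lo 1)
      have u00 := congrArg (fun m : Matrix.SpecialLinearGroup (Fin 2) K => m.1 0 0) hu
      have u01 := congrArg (fun m : Matrix.SpecialLinearGroup (Fin 2) K => m.1 0 1) hu
      have l00 := congrArg (fun m : Matrix.SpecialLinearGroup (Fin 2) K => m.1 0 0) hl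
      simp [CfsgLib.Dickson.mul_entry] at u00 u01 l00
      have h11 : g.1 1 1 = g.1 0 0 := by linear_combination u01
      funext i
      fin_cases i <;> simp [Matrix.mulVec, dotProduct, Fin.sum_univ_two, u00, l00, h11]
    have hG : Nat.card G = (q + 1) * q * d := by
      rw [CfsgLib.ZassenhausOdd.card_group hZ hab, hcardΩ, Nat.add_sub_cancel]
    have hPSL : Nat.card (Matrix.ProjectiveSpecialLinearGroup (Fin 2) K) = (q + 1) * q * d := by
      have h1 := CfsgLib.SLCard.gcd_mul_card_PSL (F := K) (n := 2) (by norm_num)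
      rw [CfsgLib.SLCard.card_SL_two, hcardK, show q - 1 = 2 * d by omega, Nat.gcd_mul_right_right] at h1
      have h2' : q * (q ^ 2 - 1) = 2 * ((q + 1) * q * d) := by
        rw [show q ^ 2 - 1 = (q + 1) * (q - 1) by rw [← Nat.sq_sub_sq, one_pow], show q - 1 = 2 * d by omega]; ring
      omega
    let φb : Matrix.ProjectiveSpecialLinearGroup (Fin 2) K →* G := QuotientGroup.lift _ φ hcen
    have hφbinj : Function.Injective φb := (injective_iff_map_eq_one φb).mpr fun x hx => by
      obtain ⟨g, rfl⟩ := QuotientGroup.mk_surjective x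
      exact (QuotientGroup.eq_one_iff g).mpr (hker hx)
    have hbij : Function.Bijective φb := hφbinj.bijective_of_nat_card_le (by rw [hG, hPSL])
    exact ⟨p, f, K, inferInstance, inferInstance, hp, hp2, hcardK, hcardΩ, ⟨(MulEquiv.ofBijective φb hbij).symm⟩⟩
  exact key

end Cfsg.Agent.S0742
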