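import Cfsg.Statements.S0161
import Cfsg.Agent.Lib.CharTheory
import Cfsg.Agent.Lib.CharTheory.Linear
import Cfsg.Agent.Lib.CharTheory.Burnside
-- import your own Cfsg.Agent.* helpers here

set_option autoImplicit false
open Cfsg

namespace Cfsg.Agent.S0161

/-- In a finite group of odd order, a real-valued irreducible complex character is the trivial character. -/
theorem result {G : Type*} [Group G] [Finite G] (hodd : Odd (Nat.card G)) (χ : Cfsg.IrrCharacter G) (hreal : ∀ g : G, ((χ : G → ℂ) g).im = 0) : (χ : G → ℂ) = fun _ => 1 := by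
  classical
  have := Fintype.ofFinite G
  by_contra hne
  have hχ := χ.2
  obtain ⟨d, hd, hd1⟩ := CfsgLib.CharTheory.irr_degree_pos hχ
  have hinv : ∀ g : G, (χ : G → ℂ) g⁻¹ = (χ : G → ℂ) g := fun g => by
    rw [CfsgLib.CharTheory.char_apply_inv (CfsgLib.CharTheory.isCharacter_of_irr hχ)]
    exact Complex.conj_eq_iff_im.mpr (hreal g)
  have horth := CfsgLib.CharTheory.classInner_irr_ne hχ CfsgLib.CharTheory.isIrrCharacter_one hne
  simp only [Cfsg.classInner, map_one, mul_one, mul_eq_zero, inv_eq_zero, Nat.cast_eq_zero,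
    Nat.card_pos.ne', false_or] at horth
  obtain ⟨m, hm⟩ := hodd
  have hsq : ∀ g : G, g = g⁻¹ → g = 1 := fun g hg => by
    have h2 : g ^ 2 = 1 := by
      rw [sq]; nth_rewrite 2 [hg]; exact mul_inv_cancel g
    have h3 : g ^ Nat.card G = 1 := pow_card_eq_one'
    rwa [hm, pow_succ, pow_mul, h2, one_pow, one_mul] at h3
  obtain ⟨P, hP⟩ : ∃ P : Finset G, ∀ g : G, g ≠ 1 → (g ∈ P ↔ g⁻¹ ∉ P) := by
    obtain ⟨⟨f⟩⟩ : Nonempty (Nonempty (G ≃ Fin (Fintype.card G))) := ⟨⟨Fintype.equivFin G⟩⟩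
    refine ⟨Finset.univ.filter fun g => f g < f g⁻¹, fun g hg => ?_⟩
    simp only [Finset.mem_filter, Finset.mem_univ, true_and, inv_inv, not_lt]
    exact ⟨fun h => h.le, fun h => lt_of_le_of_ne h fun e => hg (hsq g (f.injective e))⟩
  have h1P : ∀ S : Finset G, S = (P.erase 1) → ∑ g : G, (χ : G → ℂ) g = (χ : G → ℂ) 1 + 2 * ∑ g ∈ S, (χ : G → ℂ) g := by
    intro S hS
    rw [← Finset.add_sum_erase _ _ (Finset.mem_univ (1 : G)), two_mul]
    congr 1
    have hsplit : (Finset.univ.erase (1 : G)) = S ∪ S.map (Equiv.inv G).toEmbedding := by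
      ext g
      simp only [hS, Finset.mem_erase, Finset.mem_univ, and_true, Finset.mem_union, Finset.mem_map,
        Equiv.coe_toEmbedding, Equiv.inv_apply]
      constructor
      · intro hg
        by_cases hgP : g ∈ P
        · exact Or.inl ⟨hg, hgP⟩
        · refine Or.inr ⟨g⁻¹, ⟨fun e => hg (inv_eq_one.mp e), ?_⟩, inv_inv g⟩
          by_contra hc
          exact hgP ((hP g hg).mpr hc)
      · rintro (⟨hg, -⟩ | ⟨x, ⟨hx, -⟩, rfl⟩)
        · exact hg
        · exact fun e => hx (inv_eq_one.mp e)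
    have hdisj : Disjoint S (S.map (Equiv.inv G).toEmbedding) := by
      rw [Finset.disjoint_left]
      intro g hg hg'
      simp only [hS, Finset.mem_erase, Finset.mem_map, Equiv.coe_toEmbedding, Equiv.inv_apply] at hg hg'
      obtain ⟨x, ⟨hx, hxP⟩, rfl⟩ := hg'
      exact (hP x hx).mp hxP hg.2
    rw [hsplit, Finset.sum_union hdisj, Finset.sum_map]
    simp [hinv]
  have key := h1P _ rfl
  rw [horth, hd1] at key
  set Z := ∑ g ∈ P.erase 1, (χ : G → ℂ) g
  have hZ : IsIntegral ℤ Z := IsIntegral.sum _ fun g _ =>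
    CfsgLib.CharTheory.isIntegral_of_char (CfsgLib.CharTheory.isCharacter_of_irr hχ) g
  have hddvd : d ∣ Nat.card G := by
    obtain ⟨n, ρ, hρ, e⟩ := hχ
    have : d = Module.finrank ℂ (Fin n → ℂ) := by
      have := hd1.symm.trans ((congrFun e 1).symm.trans ρ.char_one)
      exact_mod_cast this
    rw [this]
    exact CfsgLib.CharTheory.finrank_dvd_card ρ
  have hq : IsIntegral ℤ ((-(d : ℚ) / 2 : ℚ) : ℂ) := by
    convert hZ using 1
    push_cast
    linear_combination (1 / 2 : ℂ) * key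
  obtain ⟨k, hk⟩ := CfsgLib.CharTheory.exists_int_of_isIntegral_ratCast hq
  rw [div_eq_iff two_ne_zero] at hk
  have hk' : -(d : ℤ) = k * 2 := by exact_mod_cast hk
  obtain ⟨e, he⟩ := hddvd
  have : 2 ∣ Nat.card G := by
    have : (2 : ℤ) ∣ (d : ℤ) := ⟨-k, by linear_combination -hk'⟩
    rw [he]; exact dvd_mul_of_dvd_left (by exact_mod_cast this) e
  omega

end Cfsg.Agent.S0161
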