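import Cfsg.Statements.S1523
import Mathlib
import Cfsg.Agent.Lib.CharTheory.TI
import Cfsg.Agent.Lib.CharTheory.Degree
import Cfsg.Agent.Lib.CharTheory.Integral
-- import your own Cfsg.Agent.* helpers here

set_option autoImplicit false
open Cfsg

namespace Cfsg.Agent.S1523

/-- Let G be a finite group, p a prime, P a Sylow p-subgroup whose underlying set is a TI-subset of G, with L the set normaliser of P of odd order. Let Z ≠ ⊥ be a subgroup of P, normal in L and central in P, such that the centralisers in L of any two non-identity elements of Z have the same order. If ψ is an irreducible character of G taking the same value at all non-identity elements of Z, then for z ∈ Z, z ≠ 1, the value ψ z is an integer n with Nat.card P dividing ψ(1) − n (as integers, ψ 1 being the degree). -/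
theorem result {G : Type*} [Group G] [Finite G] (p : ℕ) [Fact p.Prime] (P : Sylow p G) (hTI : Cfsg.IsTISubset ((P : Subgroup G) : Set G)) (hodd : Odd (Nat.card (Subgroup.normalizer ((P : Subgroup G) : Set G)))) (Z : Subgroup G) (hZ1 : Z ≠ ⊥) (hZP : Z ≤ P) (hZn : ∀ x ∈ Subgroup.normalizer ((P : Subgroup G) : Set G), ∀ z ∈ Z, x * z * x⁻¹ ∈ Z) (hZc : ∀ z ∈ Z, ∀ y ∈ (P : Subgroup G), z * y = y * z) (hCL : ∀ z ∈ Z, ∀ z' ∈ Z, z ≠ 1 → z' ≠ 1 → Nat.card ↥(Subgroup.normalizer ((P : Subgroup G) : Set G) ⊓ Subgroup.centralizer ({z} : Set G)) = Nat.card ↥(Subgroup.normalizer ((P : Subgroup G) : Set G) ⊓ Subgroup.centralizer ({z'} : Set G))) (ψ : G → ℂ) (hψ : Cfsg.IsIrrCharacter G ψ) (hconst : ∀ z ∈ Z, ∀ z' ∈ Z, z ≠ 1 → z' ≠ 1 → ψ z = ψ z') (z : G) (hz : z ∈ Z) (hz1 : z ≠ 1) : ∃ n d : ℤ, ψ z = n ∧ ψ 1 = d ∧ (Nat.card (P : Subgroup G) : ℤ) ∣ d - n := by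
    classical
    have := Fintype.ofFinite G
    set N := Subgroup.normalizer ((P : Subgroup G) : Set G) with hN
    obtain ⟨m, ρ, hρ, rfl⟩ := hψ
    obtain ⟨d, hd0, hd⟩ := CfsgLib.CharTheory.irr_degree_pos (G := G) (χ := ρ.character) ⟨m, ρ, hρ, rfl⟩
    set c := ρ.character z with hc
    have hcZ : ∀ w ∈ Z, w ≠ 1 → ρ.character w = c := fun w hw hw1 => hconst w hw z hz hw1 hz1
    have hint : ∀ g, IsIntegral ℤ (ρ.character g) := fun g => CfsgLib.CharTheory.isIntegral_character ρ g
    -- rationality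
    have hcint : ∃ n : ℤ, c = n := by
      obtain ⟨t, ht⟩ := CfsgLib.CharTheory.classInner_char_nat (G := Z)
        (CfsgLib.CharTheory.isCharacter_restrict (CfsgLib.CharTheory.isCharacter_character ρ) Z)
        CfsgLib.CharTheory.isCharacter_one
      simp only [Cfsg.classInner, map_one, mul_one] at ht
      rw [inv_mul_eq_iff_eq_mul₀ (Nat.cast_ne_zero.mpr Nat.card_pos.ne'), ← Finset.add_sum_erase _ _ (Finset.mem_univ (1 : Z)),
        Finset.sum_congr rfl fun (w : Z) hw => hcZ (w : G) w.2 (fun e => Finset.ne_of_mem_erase hw (Subtype.ext e)),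
        Finset.sum_const, Finset.card_erase_of_mem (Finset.mem_univ _), Finset.card_univ, ← Nat.card_eq_fintype_card,
        Subgroup.coe_one, hd, nsmul_eq_mul] at ht
      have hpos : 2 ≤ Nat.card Z := (Subgroup.one_lt_card_iff_ne_bot _).mpr hZ1
      have hq : c = ((((Nat.card Z * t : ℕ) : ℚ) - d) / ((Nat.card Z - 1 : ℕ) : ℚ) : ℚ) := by
        push_cast
        rw [eq_div_iff (Nat.cast_ne_zero.mpr (by omega))]
        linear_combination ht
      have h2 := hint z
      rw [← hc, hq] at h2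
      obtain ⟨n, hn⟩ := CfsgLib.CharTheory.exists_int_of_isIntegral_ratCast h2
      exact ⟨n, by rw [hq, hn]; push_cast; rfl⟩
    obtain ⟨n, hn⟩ := hcint
    -- classes
    let C : G → Finset G := fun w => Finset.univ.image fun g : G => g * w * g⁻¹
    have hCmem : ∀ {w x : G}, x ∈ C w ↔ ∃ g : G, g * w * g⁻¹ = x := fun {w x} => by simp [C]
    have hCconj : ∀ (w g x : G), x ∈ C w → g * x * g⁻¹ ∈ C w := fun w g x hx => by
      obtain ⟨a, rfl⟩ := hCmem.mp hx
      exact hCmem.mpr ⟨g * a, by group⟩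
    have hCZ : ∀ w ∈ Z, w ≠ 1 → ∀ x ∈ C w, x ∈ (P : Subgroup G) → x ∈ Z := fun w hw hw1 x hx hxP => by
      obtain ⟨g, rfl⟩ := hCmem.mp hx
      by_cases hg : g ∈ N
      · exact hZn g hg w hw
      · exact absurd (hTI g hg w (hZP hw) hxP) hw1
    have hfix : ∀ w ∈ Z, w ≠ 1 → ∀ x ∈ C w, ∀ q ∈ (P : Subgroup G), q ≠ 1 → q * x * q⁻¹ = x → x ∈ Z := by
      intro w hw hw1 x hx q hq hq1 hqx
      refine hCZ w hw hw1 x hx ?_
      have hxq : x * q * x⁻¹ = q := mul_inv_eq_iff_eq_mul.mpr (mul_inv_eq_iff_eq_mul.mp hqx).symm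
      have hxN : x ∈ N := by
        by_contra h
        exact hq1 (hTI x h q hq (by rw [hxq]; exact hq))
      obtain ⟨g, rfl⟩ := hCmem.mp hx
      have hpg : IsPGroup p (Subgroup.zpowers (g * w * g⁻¹)) := by
        obtain ⟨j, hj⟩ := P.isPGroup' ⟨w, hZP hw⟩
        intro y
        obtain ⟨i, hi⟩ := Subgroup.mem_zpowers_iff.mp y.2
        refine ⟨j, Subtype.ext ?_⟩
        have hj' : w ^ p ^ j = 1 := congrArg Subtype.val hj
        rw [Subgroup.coe_pow, ← hi, ← zpow_natCast, ← zpow_mul, mul_comm, zpow_mul, zpow_natCast, conj_pow, hj',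
          mul_one, mul_inv_cancel, one_zpow, Subgroup.coe_one]
      have h := hpg.inf_normalizer_sylow P
      exact (h.le ⟨Subgroup.mem_zpowers _, hxN⟩).2
    -- scalar class sums
    have hscal : ∀ w : G, ∃ a : ℂ, (∑ x ∈ C w, ρ x) = a • (1 : Module.End ℂ (Fin m → ℂ)) := by
      intro w
      have hcomm : ∀ k : G, (∑ x ∈ C w, ρ x) * ρ k = ρ k * ∑ x ∈ C w, ρ x := fun k => by
        rw [Finset.sum_mul, Finset.mul_sum]
        refine Finset.sum_bij (fun x _ => k⁻¹ * x * k) (fun x hx => by simpa using hCconj w k⁻¹ x hx)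
          (fun a _ b _ e => by simpa using e) (fun y hy => ⟨k * y * k⁻¹, hCconj w k y hy, by group⟩) (fun x _ => ?_)
        rw [← map_mul, ← map_mul]; congr 1; group
      let T : Representation.IntertwiningMap ρ ρ := ⟨∑ x ∈ C w, ρ x, fun k => hcomm k⟩
      obtain ⟨a, ha⟩ := (Representation.IsIrreducible.algebraMap_intertwiningMap_bijective_of_isAlgClosed).2 T
      exact ⟨a, LinearMap.ext fun v => by
        have := congrArg (fun S : Representation.IntertwiningMap ρ ρ => S v) ha
        simpa [T] using this.symm⟩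
    have hT : ∀ w w' : G, (∑ q ∈ C w ×ˢ C w', ρ.character (q.1 * q.2)) * (d : ℂ) =
        ((C w).card : ℂ) * ρ.character w * (((C w').card : ℂ) * ρ.character w') := by
      intro w w'
      obtain ⟨a, ha⟩ := hscal w
      have hcl : ∀ u, ∀ x ∈ C u, ρ.character x = ρ.character u := fun u x hx => by
        obtain ⟨g, rfl⟩ := hCmem.mp hx; exact ρ.char_conj u g
      have h1 : (∑ x ∈ C w, ρ.character x) = a * (d : ℂ) := by
        simp only [Representation.character]
        rw [← map_sum, ha, map_smul, smul_eq_mul, ← hd]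
        simp [Representation.character]
      rw [Finset.sum_product, Finset.sum_comm]
      have h2 : ∀ y, ∑ x ∈ C w, ρ.character (x * y) = a * ρ.character y := fun y => by
        simp only [Representation.character, map_mul]
        rw [← map_sum, ← Finset.sum_mul, ha, smul_one_mul, map_smul, smul_eq_mul]
      rw [Finset.sum_congr rfl fun y _ => h2 y, ← Finset.mul_sum, Finset.sum_congr rfl (hcl w'), Finset.sum_const, nsmul_eq_mul]
      rw [Finset.sum_congr rfl (hcl w), Finset.sum_const, nsmul_eq_mul] at h1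
      rw [h1]; ring
    -- the two products
    have key : ∀ w' ∈ Z, w' ≠ 1 → ∃ s : ℂ, IsIntegral ℤ s ∧ ∑ q ∈ C z ×ˢ C w', ρ.character (q.1 * q.2) =
        (∑ q ∈ (C z).filter (· ∈ Z) ×ˢ (C w').filter (· ∈ Z), ρ.character (q.1 * q.2)) + (Nat.card (P : Subgroup G) : ℂ) * s := by
      intro w' hw' hw'1
      let α := {q : G × G // q ∈ C z ×ˢ C w'}
      letI : MulAction (P : Subgroup G) α :=
        { smul := fun g q => ⟨((g : G) * q.1.1 * (g : G)⁻¹, (g : G) * q.1.2 * (g : G)⁻¹), by
            obtain ⟨h1, h2⟩ := Finset.mem_product.mp q.2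
            exact Finset.mem_product.mpr ⟨hCconj _ _ _ h1, hCconj _ _ _ h2⟩⟩
          one_smul := fun q => Subtype.ext (by show ((1 : G) * q.1.1 * (1 : G)⁻¹, (1 : G) * q.1.2 * (1 : G)⁻¹) = q.1; simp)
          mul_smul := fun g h q => Subtype.ext (Prod.ext
            (by show (g : G) * h * q.1.1 * ((g : G) * h)⁻¹ = (g : G) * ((h : G) * q.1.1 * (h : G)⁻¹) * (g : G)⁻¹; group)
            (by show (g : G) * h * q.1.2 * ((g : G) * h)⁻¹ = (g : G) * ((h : G) * q.1.2 * (h : G)⁻¹) * (g : G)⁻¹; group)) }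
      let F : α → ℂ := fun q => if q.1.1 ∈ Z ∧ q.1.2 ∈ Z then 0 else ρ.character (q.1.1 * q.1.2)
      have hinvZ : ∀ g : (P : Subgroup G), ∀ x, (g : G) * x * (g : G)⁻¹ ∈ Z ↔ x ∈ Z := fun g x => by
        refine ⟨fun h => ?_, fun h => by rw [show (g : G) * x = x * g from (hZc x h g g.2).symm, mul_inv_cancel_right]; exact h⟩
        have h2 := hZn (g : G)⁻¹ (N.inv_mem (Subgroup.le_normalizer g.2)) _ h
        simpa [mul_assoc] using h2
      obtain ⟨s, hs, hsum⟩ := CfsgLib.CharTheory.sum_eq_card_mul (Z := (P : Subgroup G)) F (fun g q => by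
          show (if (g : G) * q.1.1 * (g : G)⁻¹ ∈ Z ∧ (g : G) * q.1.2 * (g : G)⁻¹ ∈ Z then (0 : ℂ)
            else ρ.character ((g : G) * q.1.1 * (g : G)⁻¹ * ((g : G) * q.1.2 * (g : G)⁻¹))) = F q
          rw [hinvZ, hinvZ, show (g : G) * q.1.1 * (g : G)⁻¹ * ((g : G) * q.1.2 * (g : G)⁻¹) =
            (g : G) * (q.1.1 * q.1.2) * (g : G)⁻¹ by group, ρ.char_conj])
        (fun q hq g hg => by
          by_contra hg1
          have hg' : (g : G) ≠ 1 := fun e => hg1 (Subtype.ext e)
          have e1 : (g : G) * q.1.1 * (g : G)⁻¹ = q.1.1 := congrArg (fun t : α => t.1.1) hg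
          have e2 : (g : G) * q.1.2 * (g : G)⁻¹ = q.1.2 := congrArg (fun t : α => t.1.2) hg
          obtain ⟨h1, h2⟩ := Finset.mem_product.mp q.2
          exact hq (if_pos ⟨hfix z hz hz1 _ h1 g g.2 hg' e1, hfix w' hw' hw'1 _ h2 g g.2 hg' e2⟩))
        (fun q => by dsimp only [F]; split; exacts [isIntegral_zero, hint _])
      refine ⟨s, hs, ?_⟩
      rw [← Finset.filter_product (fun x => x ∈ Z) (fun x => x ∈ Z), ← hsum,
        ← Finset.sum_filter_add_sum_filter_not (C z ×ˢ C w') (fun q => q.1 ∈ Z ∧ q.2 ∈ Z) (fun q => ρ.character (q.1 * q.2))]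
      congr 1
      rw [Finset.sum_filter, Finset.univ_eq_attach, ← Finset.sum_attach (C z ×ˢ C w')]
      exact Finset.sum_congr rfl fun q _ => by by_cases h : q.1.1 ∈ Z <;> by_cases h' : q.1.2 ∈ Z <;> simp [F, h, h']
    have hNodd : ∀ x ∈ C z, x ∈ Z → x⁻¹ ∉ C z := by
      intro x hx hxZ hx'
      obtain ⟨a, rfl⟩ := hCmem.mp hx
      obtain ⟨b, hb⟩ := hCmem.mp hx'
      set g := a⁻¹ * b
      have hgz : g * z * g⁻¹ = z⁻¹ := by
        show a⁻¹ * b * z * (a⁻¹ * b)⁻¹ = z⁻¹
        calc a⁻¹ * b * z * (a⁻¹ * b)⁻¹ = a⁻¹ * (b * z * b⁻¹) * a := by group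
          _ = _ := by rw [hb]; group
      have hgN : g ∈ N := by
        by_contra h
        exact hz1 (hTI g h z (hZP hz) (by rw [hgz]; exact (P : Subgroup G).inv_mem (hZP hz)))
      have hcomm : Commute (g ^ 2) z := by
        show g ^ 2 * z = z * g ^ 2
        rw [← mul_inv_eq_iff_eq_mul]
        calc g ^ 2 * z * (g ^ 2)⁻¹ = g * (g * z * g⁻¹) * g⁻¹ := by rw [pow_two]; group
          _ = g * z⁻¹ * g⁻¹ := by rw [hgz]
          _ = (g * z * g⁻¹)⁻¹ := by group
          _ = z := by rw [hgz, inv_inv]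
      have ho : Odd (orderOf g) := hodd.of_dvd_nat (Subgroup.orderOf_coe (⟨g, hgN⟩ : N) ▸ orderOf_dvd_natCard _)
      obtain ⟨i, hi⟩ := ho
      have hg : g = (g ^ 2) ^ (i + 1) := by
        rw [← pow_mul, show 2 * (i + 1) = orderOf g + 1 by omega, pow_succ, pow_orderOf_eq_one, one_mul]
      have h2 : g * z * g⁻¹ = z := by
        rw [mul_inv_eq_iff_eq_mul, hg]; exact (hcomm.pow_left (i + 1)).eq
      have hzz : z * z = 1 := by
        nth_rw 2 [← h2]
        rw [hgz, mul_inv_cancel]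
      have hoz : orderOf z ∣ 2 := orderOf_dvd_of_pow_eq_one (by rw [pow_two, hzz])
      have hoodd : Odd (orderOf z) :=
        hodd.of_dvd_nat (Subgroup.orderOf_coe (⟨z, Subgroup.le_normalizer (hZP hz)⟩ : N) ▸ orderOf_dvd_natCard _)
      rcases (Nat.dvd_prime Nat.prime_two).mp hoz with h | h
      · exact hz1 (orderOf_eq_one_iff.mp h)
      · rw [h] at hoodd; exact absurd hoodd (by decide)
    set A := (C z).filter (· ∈ Z) with hA
    have hinvC : C z⁻¹ = (C z).image (fun x => x⁻¹) := by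
      ext x; simp [C, mul_assoc]
    have hB : (C z⁻¹).filter (· ∈ Z) = A.image (fun x => x⁻¹) := by
      rw [hA, hinvC, Finset.filter_image]; simp
    have hne1 : ∀ x ∈ A, x ≠ 1 := fun x hx e => by
      obtain ⟨g, hg⟩ := hCmem.mp (Finset.mem_filter.mp hx).1
      exact hz1 (by simpa [e] using hg)
    obtain ⟨s1, hs1, e1⟩ := key z hz hz1
    obtain ⟨s2, hs2, e2⟩ := key z⁻¹ (Z.inv_mem hz) (inv_ne_one.mpr hz1)
    rw [← hA] at e1
    rw [hB] at e2
    have f1 : ∑ q ∈ A ×ˢ A, ρ.character (q.1 * q.2) = (A.card : ℂ) * A.card * c := by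
      rw [Finset.sum_congr rfl fun q hq => ?_, Finset.sum_const, Finset.card_product, nsmul_eq_mul, Nat.cast_mul]
      obtain ⟨h1, h2⟩ := Finset.mem_product.mp hq
      refine hcZ _ (Z.mul_mem (Finset.mem_filter.mp h1).2 (Finset.mem_filter.mp h2).2) fun e => ?_
      exact hNodd _ (Finset.mem_filter.mp h1).1 (Finset.mem_filter.mp h1).2
        ((inv_eq_of_mul_eq_one_right e) ▸ (Finset.mem_filter.mp h2).1)
    have f2 : ∑ q ∈ A ×ˢ A.image (fun x => x⁻¹), ρ.character (q.1 * q.2) = (A.card : ℂ) * ((A.card : ℂ) - 1) * c + A.card * d := by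
      rw [Finset.sum_product]
      rw [Finset.sum_congr rfl fun x hx => show ∑ y ∈ A.image (fun x => x⁻¹), ρ.character (x * y) = ((A.card : ℂ) - 1) * c + d by
        rw [Finset.sum_image (fun a _ b _ e => inv_injective e), ← Finset.add_sum_erase _ _ hx, mul_inv_cancel, hd,
          Finset.sum_congr rfl fun y hy => hcZ (x * y⁻¹)
            (Z.mul_mem (Finset.mem_filter.mp hx).2 (Z.inv_mem (Finset.mem_filter.mp (Finset.mem_of_mem_erase hy)).2))
            (fun e => Finset.ne_of_mem_erase hy (mul_inv_eq_one.mp e).symm),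
          Finset.sum_const, Finset.card_erase_of_mem hx, nsmul_eq_mul, Nat.cast_sub (Finset.card_pos.mpr ⟨x, hx⟩)]
        push_cast; ring]
      rw [Finset.sum_const, nsmul_eq_mul]; ring
    have hTeq : ∑ q ∈ C z ×ˢ C z, ρ.character (q.1 * q.2) = ∑ q ∈ C z ×ˢ C z⁻¹, ρ.character (q.1 * q.2) := by
      apply mul_right_cancel₀ (show (d : ℂ) ≠ 0 from Nat.cast_ne_zero.mpr hd0.ne')
      rw [hT, hT, hinvC, Finset.card_image_of_injective _ inv_injective, hcZ z⁻¹ (Z.inv_mem hz) (inv_ne_one.mpr hz1)]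
    rw [e1, e2, f1, f2, hn] at hTeq
    -- the number of N-conjugates is prime to p
    have hk : Nat.Coprime (Nat.card (P : Subgroup G)) A.card := by
      set st : Subgroup N := (Subgroup.centralizer ({z} : Set G)).subgroupOf N
      have hcard : A.card = st.index := by
        rw [Subgroup.index, ← Nat.card_eq_finsetCard]
        refine (Nat.card_congr (Equiv.ofBijective
          (Quotient.lift (fun a : N => (⟨(a : G) * z * (a : G)⁻¹,
              Finset.mem_filter.mpr ⟨hCmem.mpr ⟨a, rfl⟩, hZn a a.2 z hz⟩⟩ : A)) ?_) ⟨?_, ?_⟩)).symm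
        · intro a b hab
          have h : a⁻¹ * b ∈ st := QuotientGroup.leftRel_apply.mp hab
          have h' : (a : G)⁻¹ * b * z = z * ((a : G)⁻¹ * b) := Subgroup.mem_centralizer_singleton_iff.mp h
          refine Subtype.ext ?_
          show (a : G) * z * (a : G)⁻¹ = (b : G) * z * (b : G)⁻¹
          calc (a : G) * z * (a : G)⁻¹ = (a : G) * (z * ((a : G)⁻¹ * b)) * (b : G)⁻¹ := by group
            _ = _ := by rw [← h']; group
        · intro q q'
          induction q using QuotientGroup.induction_on with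
          | _ a =>
            induction q' using QuotientGroup.induction_on with
            | _ b =>
              intro h
              have h' : (a : G) * z * (a : G)⁻¹ = (b : G) * z * (b : G)⁻¹ := congrArg Subtype.val h
              refine QuotientGroup.eq.mpr (Subgroup.mem_centralizer_singleton_iff.mpr ?_)
              show (a : G)⁻¹ * b * z = z * ((a : G)⁻¹ * b)
              calc (a : G)⁻¹ * b * z = (a : G)⁻¹ * ((b : G) * z * (b : G)⁻¹) * b := by group
                _ = _ := by rw [← h']; group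
        · rintro ⟨x, hx⟩
          obtain ⟨hxC, hxZ⟩ := Finset.mem_filter.mp hx
          obtain ⟨g, rfl⟩ := hCmem.mp hxC
          have hgN : g ∈ N := by
            by_contra h
            exact hz1 (hTI g h z (hZP hz) (hZP hxZ))
          exact ⟨QuotientGroup.mk ⟨g, hgN⟩, rfl⟩
      rw [hcard]
      have hle : (P : Subgroup G).subgroupOf N ≤ st := fun x hx => Subgroup.mem_centralizer_singleton_iff.mpr (hZc z hz x hx).symm
      have h1 : st.index ∣ (P : Subgroup G).index :=
        (Subgroup.index_dvd_of_le hle).trans (Subgroup.relIndex_dvd_index_of_le Subgroup.le_normalizer)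
      obtain ⟨j, hj⟩ := IsPGroup.iff_card.mp P.isPGroup'
      rw [hj]
      exact Nat.Coprime.pow_left j ((Fact.out : p.Prime).coprime_iff_not_dvd.mpr fun h => P.not_dvd_index (h.trans h1))
    refine ⟨n, d, hn, by rw [hd]; push_cast; rfl, ?_⟩
    have hdvd : (Nat.card (P : Subgroup G) : ℤ) ∣ (A.card : ℤ) * ((d : ℤ) - n) := by
      have hq : s1 - s2 = ((((A.card : ℤ) * ((d : ℤ) - n) : ℤ) : ℚ) / (Nat.card (P : Subgroup G) : ℕ) : ℚ) := by
        push_cast
        rw [eq_div_iff (Nat.cast_ne_zero.mpr Nat.card_pos.ne')]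
        linear_combination hTeq
      obtain ⟨t, ht⟩ := CfsgLib.CharTheory.exists_int_of_isIntegral_ratCast (hq ▸ hs1.sub hs2)
      refine ⟨t, ?_⟩
      have h' := ht
      rw [div_eq_iff (Nat.cast_ne_zero.mpr Nat.card_pos.ne')] at h'
      have h2 : ((((A.card : ℤ) * ((d : ℤ) - n)) : ℤ) : ℚ) = ((((Nat.card (P : Subgroup G) : ℤ) * t) : ℤ) : ℚ) := by
        rw [h']; push_cast; ring
      exact_mod_cast h2
    exact (Int.isCoprime_iff_gcd_eq_one.mpr (by simpa [Int.gcd_natCast_natCast] using hk)).dvd_of_dvd_mul_left hdvd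

end Cfsg.Agent.S1523
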