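import Cfsg.Statements.S1520
import Mathlib
import Cfsg.Agent.Lib.CharTheory.CoherenceDescend
-- import your own Cfsg.Agent.* helpers here

set_option autoImplicit false
open Cfsg

namespace Cfsg.Agent.S1520

open scoped commutatorElement

/-- Let K be a solvable normal subgroup of the finite group L and (S, τ, R) a coherence system from L to G with S the functions induced from non-principal irreducible characters of K; S(A) the members of S induced from characters whose kernel contains A. Let M ≤ H₁ ≤ H ≤ K be normal subgroups of L such that every term of the lower central series of H eventually lies in M (H/M nilpotent), S(H₁) is coherent and [H:H₁] > 4 * [L:K]^2 + 1. Then S(M) is coherent. -/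
theorem result {L : Type*} [Group L] [Fintype L] {G : Type*} [Group G] [Fintype G] (K : Subgroup L) [hK : K.Normal] (hsolv : Group.IsSolvable K) (τ : (L → ℂ) → (G → ℂ)) (R : (L → ℂ) → Finset (G → ℂ)) (hS : Cfsg.IsCoherenceSystem (Cfsg.inducedIrrAbove K ⊥) τ R) (M H₁ H : Subgroup L) [M.Normal] [H₁.Normal] [H.Normal] (hMH₁ : M ≤ H₁) (hH₁H : H₁ ≤ H) (hHK : H ≤ K) [(M.subgroupOf H).Normal] (hnil : Group.IsNilpotent (↥H ⧸ M.subgroupOf H)) (hcoh : Cfsg.IsCoherent (Cfsg.inducedIrrAbove K H₁) {1}ᶜ τ) (hbig : 4 * K.index ^ 2 + 1 < H₁.relIndex H) : Cfsg.IsCoherent (Cfsg.inducedIrrAbove K M) {1}ᶜ τ := by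
    classical
    suffices hP : ∀ B : Subgroup L, B.Normal → M ≤ B → B ≤ H₁ →
        Cfsg.IsCoherent (Cfsg.inducedIrrAbove K B) {1}ᶜ τ → Cfsg.IsCoherent (Cfsg.inducedIrrAbove K M) {1}ᶜ τ from
      hP H₁ inferInstance hMH₁ le_rfl hcoh
    intro B
    induction B using WellFoundedLT.induction with
    | ind B ih =>
      intro hBn hMB hB1 hB
      by_cases hBM : B = M
      · rwa [hBM] at hB
      obtain ⟨D, hD⟩ := Set.Finite.exists_maximal (s := {D : Subgroup L | D.Normal ∧ M ≤ D ∧ D < B}) (Set.toFinite _)
        ⟨M, inferInstance, le_rfl, lt_of_le_of_ne hMB (Ne.symm hBM)⟩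
      obtain ⟨hDn, hMD, hDB⟩ := hD.1
      have hBH : B ≤ H := hB1.trans hH₁H
      have hne : ⁅B, H⁆ ⊔ D ≠ B := by
        intro heq
        have h1 : ⁅B, H⁆ ≤ B := Subgroup.commutator_le_left B H
        -- push into the nilpotent section
        let π := QuotientGroup.mk' (M.subgroupOf H)
        let f : Subgroup L → Subgroup (↥H ⧸ M.subgroupOf H) := fun X => (X.subgroupOf H).map π
        have hfB : f B = ⁅f B, ⊤⁆ ⊔ f D := by
          have e : B.subgroupOf H = ⁅B.subgroupOf H, (⊤ : Subgroup H)⁆ ⊔ D.subgroupOf H := by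
            apply Subgroup.map_injective H.subtype_injective
            rw [Subgroup.map_sup, Subgroup.map_commutator, ← MonoidHom.range_eq_map, Subgroup.range_subtype,
              Subgroup.map_subgroupOf_eq_of_le hBH, Subgroup.map_subgroupOf_eq_of_le (hDB.le.trans hBH), heq]
          conv_lhs => simp only [f]; rw [e, Subgroup.map_sup, Subgroup.map_commutator,
            Subgroup.map_top_of_surjective π (QuotientGroup.mk'_surjective _)]
        have hnilT : Group.IsNilpotent (⊤ : Subgroup (↥H ⧸ M.subgroupOf H)) := inferInstance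
        obtain ⟨m, hm⟩ := (Subgroup.isNilpotent_iff_lowerCentralSeries (S := (⊤ : Subgroup (↥H ⧸ M.subgroupOf H)))).1 hnilT
        have hDnQ : (f D).Normal := by
          have : (D.subgroupOf H).Normal := inferInstance
          exact this.map π (QuotientGroup.mk'_surjective _)
        have hle : ∀ i, f B ≤ (⊤ : Subgroup (↥H ⧸ M.subgroupOf H)).lowerCentralSeries i ⊔ f D := by
          intro i
          induction i with
          | zero => simp [Subgroup.lowerCentralSeries_zero]
          | succ i hi =>
            conv_lhs => rw [hfB]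
            refine sup_le ?_ le_sup_right
            refine Subgroup.commutator_le.mpr fun g hg q hq => ?_
            obtain ⟨a, ha, b, hb, rfl⟩ := Subgroup.mem_sup_of_normal_right.mp (hi hg)
            have e : ⁅a * b, q⁆ = (a * ⁅b, q⁆ * a⁻¹) * ⁅a, q⁆ := by simp [commutatorElement_def]; group
            rw [e]
            refine Subgroup.mul_mem _ (Subgroup.mem_sup_right (hDnQ.conj_mem _ ?_ a))
              (Subgroup.mem_sup_left (by
                rw [Subgroup.lowerCentralSeries_succ]
                exact Subgroup.commutator_mem_commutator ha (Subgroup.mem_top q)))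
            have : b * (q * b⁻¹ * q⁻¹) ∈ f D := (f D).mul_mem hb (hDnQ.conj_mem _ ((f D).inv_mem hb) q)
            simpa [commutatorElement_def, mul_assoc] using this
        have hfle := hle m
        rw [hm, bot_sup_eq] at hfle
        refine hDB.not_ge fun x hx => ?_
        obtain ⟨y, hy, hyx⟩ := hfle (Subgroup.mem_map_of_mem π (show (⟨x, hBH hx⟩ : H) ∈ B.subgroupOf H from hx))
        have h2 := (QuotientGroup.eq).mp hyx
        have h3 : (y : L) * ((y : L)⁻¹ * x) ∈ D := D.mul_mem hy (hMD h2)
        simpa using h3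
      have hcomm : ⁅B, H⁆ ≤ D := by
        have hle : D ≤ ⁅B, H⁆ ⊔ D := le_sup_right
        have hlt : ⁅B, H⁆ ⊔ D < B := lt_of_le_of_ne (sup_le (Subgroup.commutator_le_left B H) hDB.le) hne
        exact le_sup_left.trans (hD.2 (y := ⁅B, H⁆ ⊔ D) ⟨inferInstance, hMD.trans hle, hlt⟩ hle)
      have hB1H : 2 ≤ H₁.relIndex H := by omega
      have hBK : B < K := lt_of_le_of_ne (hBH.trans hHK) fun e => by
        have h' : H ≤ H₁ := hHK.trans (e ▸ hB1)
        rw [Subgroup.relIndex_eq_one.mpr h'] at hB1H
        omega
      refine ih D hDB hDn hMD (hDB.le.trans hB1) ?_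
      refine CfsgLib.CharTheory.coherence_descends K hsolv hS B D H B hBK (hDB.trans hBK) hBH hHK (fun x hx y hy => ?_) hB ?_
      · exact hcomm (Subgroup.commutator_mem_commutator hx hy)
      · have hHi : H.index = H.relIndex K * K.index := (Subgroup.relIndex_mul_index hHK).symm
        have hBK' : B.relIndex K = B.relIndex H * H.relIndex K := (Subgroup.relIndex_mul_relIndex B H K hBH hHK).symm
        have hmono : H₁.relIndex H ≤ B.relIndex H := by
          rw [← Subgroup.relIndex_mul_relIndex B H₁ H hB1 hH₁H]
          exact Nat.le_mul_of_pos_left _ (Nat.pos_of_ne_zero Subgroup.index_ne_zero_of_finite)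
        have hk : 0 < H.relIndex K := Nat.pos_of_ne_zero Subgroup.index_ne_zero_of_finite
        rw [hHi, hBK']
        set k := H.relIndex K
        set e := K.index
        set b := B.relIndex H
        have hb : 4 * e ^ 2 + 2 ≤ b := by omega
        have h1 : 1 ≤ b * k := Nat.one_le_iff_ne_zero.mpr (Nat.mul_ne_zero (by omega) hk.ne')
        zify [h1] at hb ⊢
        have h2 : (4 * (e : ℤ) ^ 2 + 2) * k ≤ (b : ℤ) * k := mul_le_mul_of_nonneg_right hb (by positivity)
        nlinarith [mul_nonneg (show (0 : ℤ) ≤ (b : ℤ) * k by positivity) (show (0 : ℤ) ≤ (b : ℤ) * k - 4 * e ^ 2 * k - 2 by nlinarith)]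

end Cfsg.Agent.S1520
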