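import Cfsg.Statements.S1521
import Mathlib
import Cfsg.Agent.Lib.CharTheory.FrobSection
import Cfsg.Agent.S1520
-- import your own Cfsg.Agent.* helpers here

set_option autoImplicit false
open Cfsg

namespace Cfsg.Agent.S1521

open scoped commutatorElement

/-- Let K be a solvable normal subgroup of the finite group L of odd order and (S, τ, R) a coherence system from L to G with S the functions induced from non-principal irreducible characters of K; S(A) as before. Let M ≤ K be normal in L with K/M nilpotent, H₁ = [K, K] ⊔ M, H₁ < K < L, and suppose every element of K outside H₁ is centralised modulo H₁ only from inside K (L/H₁ is a Frobenius group with kernel K/H₁). Suppose one of the following: some normal subgroup of L lies strictly between H₁ and K; or [K:H₁] > 4[L:K]^2 + 1; or [K:M] is not a prime power; or [K,K] ≤ M; or [K:M] is a power of a prime p with [L:K] dividing p − 1. Then S(M) is coherent. -/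
theorem result {L : Type*} [Group L] [Fintype L] {G : Type*} [Group G] [Fintype G] (K : Subgroup L) [hK : K.Normal] (hsolv : Group.IsSolvable K) (τ : (L → ℂ) → (G → ℂ)) (R : (L → ℂ) → Finset (G → ℂ)) (hS : Cfsg.IsCoherenceSystem (Cfsg.inducedIrrAbove K ⊥) τ R) (hodd : Odd (Nat.card L)) (M : Subgroup L) [M.Normal] (hMK : M ≤ K) [(M.subgroupOf K).Normal] (hnil : Group.IsNilpotent (↥K ⧸ M.subgroupOf K)) (H₁ : Subgroup L) (hH₁ : H₁ = ⁅K, K⁆ ⊔ M) (hH₁K : H₁ < K) (hKL : K < ⊤) (hfrob : ∀ k ∈ K, k ∉ H₁ → ∀ x : L, x * k * x⁻¹ * k⁻¹ ∈ H₁ → x ∈ K) (hgood : (∃ N : Subgroup L, N.Normal ∧ H₁ < N ∧ N < K) ∨ 4 * K.index ^ 2 + 1 < H₁.relIndex K ∨ (¬ ∃ p m : ℕ, p.Prime ∧ M.relIndex K = p ^ m) ∨ ⁅K, K⁆ ≤ M ∨ (∃ p m : ℕ, p.Prime ∧ M.relIndex K = p ^ m ∧ K.index ∣ p - 1)) : Cfsg.IsCoherent (Cfsg.inducedIrrAbove K M) {1}ᶜ τ := by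
    classical
    subst hH₁
    set H₁ := ⁅K, K⁆ ⊔ M with hH₁def
    have hab : ⁅K, K⁆ ≤ H₁ := le_sup_left
    have hMH₁ : M ≤ H₁ := le_sup_right
    have hcoh := CfsgLib.CharTheory.coherent_above_derived K hsolv hS H₁ hab hH₁K
    have big : 4 * K.index ^ 2 + 1 < H₁.relIndex K → Cfsg.IsCoherent (Cfsg.inducedIrrAbove K M) {1}ᶜ τ := fun h =>
      Cfsg.Agent.S1520.result K hsolv τ R hS M H₁ K hMH₁ hH₁K.le le_rfl hnil hcoh h
    have hoddd : ∀ n : ℕ, n ∣ Nat.card L → n % 2 = 1 := fun n h => Nat.odd_iff.mp (hodd.of_dvd_nat h)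
    have hrd : ∀ A B : Subgroup L, A.relIndex B ∣ Nat.card L := fun A B =>
      (Subgroup.index_dvd_card _).trans (Subgroup.card_subgroup_dvd_card B)
    have he : 3 ≤ K.index := by
      have h1 : K.index ≠ 1 := fun h => hKL.ne (Subgroup.index_eq_one.mp h)
      have h2 := hoddd K.index (Subgroup.index_dvd_card K)
      omega
    have hdvd : ∀ N : Subgroup L, N.Normal → H₁ ≤ N → N ≤ K → K.index ∣ H₁.relIndex N - 1 := fun N hN h1 h2 =>
      CfsgLib.CharTheory.relIndex_dvd_sub_one K H₁ N hab h1 h2 hfrob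
    have step : ∀ a, a ∣ Nat.card L → K.index ∣ a - 1 → a ≠ 1 → 2 * K.index + 1 ≤ a := by
      intro a ha ⟨t, ht⟩ ha1
      have h2 := hoddd a ha
      have h3 := hoddd K.index (Subgroup.index_dvd_card K)
      have ht0 : t ≠ 0 := fun e => by rw [e, mul_zero] at ht; omega
      have ht1 : t ≠ 1 := fun e => by rw [e, mul_one] at ht; omega
      have : K.index * 2 ≤ K.index * t := Nat.mul_le_mul_left _ (by omega)
      omega
    have chief : (∃ N : Subgroup L, N.Normal ∧ H₁ < N ∧ N < K) → 4 * K.index ^ 2 + 1 < H₁.relIndex K := by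
      rintro ⟨N, hN, h1, h2⟩
      have hab' := Subgroup.relIndex_mul_relIndex H₁ N K h1.le h2.le
      set a := H₁.relIndex N with ha
      set b := N.relIndex K with hb
      have ha1 : a ≠ 1 := fun e => not_le_of_gt h1 (Subgroup.relIndex_eq_one.mp e)
      have hb1 : b ≠ 1 := fun e => not_le_of_gt h2 (Subgroup.relIndex_eq_one.mp e)
      have ha0 : a ≠ 0 := Subgroup.index_ne_zero_of_finite
      have hb0 : b ≠ 0 := Subgroup.index_ne_zero_of_finite
      have hda := hdvd N hN h1.le h2.le
      have hdab := hdvd K inferInstance hH₁K.le le_rfl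
      rw [← hab'] at hdab
      have hdb : K.index ∣ b - 1 := by
        have e1 : (K.index : ℤ) ∣ (a : ℤ) - 1 := by
          have := Int.natCast_dvd_natCast.mpr hda
          rwa [Nat.cast_sub (by omega), Nat.cast_one] at this
        have e2 : (K.index : ℤ) ∣ (a : ℤ) * b - 1 := by
          have := Int.natCast_dvd_natCast.mpr hdab
          rwa [Nat.cast_sub (Nat.one_le_iff_ne_zero.mpr (Nat.mul_ne_zero ha0 hb0)), Nat.cast_one, Nat.cast_mul] at this
        rw [← Int.natCast_dvd_natCast, Nat.cast_sub (by omega), Nat.cast_one,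
          show (b : ℤ) - 1 = ((a : ℤ) * b - 1) - ((a : ℤ) - 1) * b by ring]
        exact dvd_sub e2 (e1.mul_right _)
      have g1 := step a (hrd _ _) hda ha1
      have g2 := step b (hrd _ _) hdb hb1
      rw [← hab']
      calc 4 * K.index ^ 2 + 1 < (2 * K.index + 1) * (2 * K.index + 1) := by nlinarith
        _ ≤ a * b := Nat.mul_le_mul g1 g2
    -- the abelianization of the nilpotent section
    let π := QuotientGroup.mk' (M.subgroupOf K)
    have hH' : H₁.subgroupOf K = ⁅(⊤ : Subgroup K), (⊤ : Subgroup K)⁆ ⊔ M.subgroupOf K := by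
      apply Subgroup.map_injective K.subtype_injective
      rw [Subgroup.map_sup, Subgroup.map_commutator, ← MonoidHom.range_eq_map, Subgroup.range_subtype,
        Subgroup.map_subgroupOf_eq_of_le hMK, Subgroup.map_subgroupOf_eq_of_le hH₁K.le]
    have hQidx : (commutator (↥K ⧸ M.subgroupOf K)).index = H₁.relIndex K := by
      have e : commutator (↥K ⧸ M.subgroupOf K) = (H₁.subgroupOf K).map π := by
        rw [hH', Subgroup.map_sup, Subgroup.map_commutator,
          Subgroup.map_top_of_surjective π (QuotientGroup.mk'_surjective _),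
          show (M.subgroupOf K).map π = ⊥ from (Subgroup.map_eq_bot_iff _).mpr (by rw [QuotientGroup.ker_mk']),
          sup_bot_eq, commutator_def]
      rw [e, Subgroup.index_map_eq _ (QuotientGroup.mk'_surjective _)
        (by rw [QuotientGroup.ker_mk']; exact fun x hx => hMH₁ hx)]
      rfl
    rcases hgood with hN | hb | hnp | hKM | ⟨p, m, hp, hpm, hep⟩
    · exact big (chief hN)
    · exact big hb
    · -- not a prime power
      refine big (chief ?_)
      have hr1 : H₁.relIndex K ≠ 1 := fun e => not_le_of_gt hH₁K (Subgroup.relIndex_eq_one.mp e)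
      obtain ⟨p, hp, hpd⟩ := Nat.exists_prime_and_dvd hr1
      have := Fact.mk hp
      let q := QuotientGroup.mk' H₁
      have hcomm : ∀ a ∈ K, ∀ b ∈ K, Commute (q a) (q b) := fun a ha b hb => by
        rw [← commutatorElement_eq_one_iff_commute, ← map_commutatorElement]
        exact (QuotientGroup.eq_one_iff _).mpr (hab (Subgroup.commutator_mem_commutator ha hb))
      let N : Subgroup L :=
        { carrier := {k | k ∈ K ∧ ∃ j : ℕ, q k ^ p ^ j = 1}
          one_mem' := ⟨K.one_mem, 0, by simp⟩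
          mul_mem' := by
            rintro a b ⟨ha, i, hi⟩ ⟨hb, j, hj⟩
            refine ⟨K.mul_mem ha hb, i + j, ?_⟩
            rw [map_mul, (hcomm a ha b hb).mul_pow, pow_add, pow_mul, hi, one_pow, one_mul, mul_comm, pow_mul, hj, one_pow]
          inv_mem' := by
            rintro a ⟨ha, i, hi⟩
            exact ⟨K.inv_mem ha, i, by rw [map_inv, inv_pow, hi, inv_one]⟩ }
      have hNn : N.Normal := ⟨by
        rintro a ⟨ha, i, hi⟩ x
        exact ⟨hK.conj_mem a ha x, i, by rw [map_mul, map_mul, map_inv, conj_pow, hi, mul_one, mul_inv_cancel]⟩⟩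
      have hH1N : H₁ ≤ N := fun h hh => ⟨hH₁K.le hh, 0, by rw [pow_zero, pow_one]; exact (QuotientGroup.eq_one_iff h).mpr hh⟩
      have hcard := CfsgLib.CharTheory.relIndex_eq_card_map H₁ K hH₁K.le
      refine ⟨N, hNn, lt_of_le_of_ne hH1N fun e => ?_, lt_of_le_of_ne (fun k hk => hk.1) fun e => ?_⟩
      · obtain ⟨y, hy⟩ := exists_prime_orderOf_dvd_card' (G := K.map q) p (hcard ▸ hpd)
        obtain ⟨k, hk, hky⟩ := y.2
        have hkN : k ∈ N := ⟨hk, 1, by rw [pow_one, hky, ← Subgroup.coe_pow, ← hy, pow_orderOf_eq_one, Subgroup.coe_one]⟩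
        rw [← e] at hkN
        have : (y : L ⧸ H₁) = 1 := by rw [← hky]; exact (QuotientGroup.eq_one_iff k).mpr hkN
        rw [show y = 1 from Subtype.ext this, orderOf_one] at hy
        exact hp.ne_one hy.symm
      · refine hnp ?_
        have hpg : IsPGroup p (K.map q) := fun y => by
          obtain ⟨k, hk, hky⟩ := y.2
          obtain ⟨-, j, hj⟩ : k ∈ N := e ▸ hk
          exact ⟨j, Subtype.ext (by rw [Subgroup.coe_pow, ← hky, hj, Subgroup.coe_one])⟩
        obtain ⟨n, hn⟩ := IsPGroup.iff_card.mp hpg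
        obtain ⟨n', hn'⟩ := IsPGroup.iff_card.mp
          (CfsgLib.CharTheory.isPGroup_of_commutator_index (Q := ↥K ⧸ M.subgroupOf K) (p := p) (m := n) (hQidx.trans (hcard.trans hn)))
        exact ⟨p, n', hp, hn'⟩
    · rwa [show M = H₁ from le_antisymm hMH₁ (sup_le hKM le_rfl)]
    · by_cases hbig' : 4 * K.index ^ 2 + 1 < H₁.relIndex K
      · exact big hbig'
      have := Fact.mk hp
      have hd : H₁.relIndex K ∣ p ^ m := hpm ▸ Subgroup.relIndex_dvd_of_le_left K hMH₁
      obtain ⟨k, -, hk⟩ := (Nat.dvd_prime_pow hp).mp hd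
      have hk0 : k ≠ 0 := fun e => not_le_of_gt hH₁K (Subgroup.relIndex_eq_one.mp (by rw [hk, e, pow_zero]))
      have hm0 : m ≠ 0 := fun e => by
        rw [e, pow_zero] at hd
        exact not_le_of_gt hH₁K (Subgroup.relIndex_eq_one.mp (Nat.dvd_one.mp hd))
      have hp2 : p % 2 = 1 := hoddd p ((dvd_pow_self p hm0).trans (hpm ▸ hrd M K))
      have hep' : 2 * K.index + 1 ≤ p := step p ((dvd_pow_self p hm0).trans (hpm ▸ hrd M K)) hep hp.ne_one
      have hk1 : k = 1 := by
        by_contra hne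
        have h1 : p ^ 2 ≤ p ^ k := Nat.pow_le_pow_right hp.pos (by omega)
        have h2 : (2 * K.index + 1) ^ 2 ≤ p ^ 2 := Nat.pow_le_pow_left hep' 2
        rw [hk] at hbig'
        nlinarith
      rw [hk1, pow_one] at hk
      have hbot := CfsgLib.CharTheory.commutator_eq_bot_of_cyclic_abelianization (Q := ↥K ⧸ M.subgroupOf K) (p := p) (hQidx.trans hk)
      have hle : H₁ ≤ M := by
        refine sup_le (Subgroup.commutator_le.mpr fun a ha b hb => ?_) le_rfl
        have : π ⁅(⟨a, ha⟩ : K), (⟨b, hb⟩ : K)⁆ ∈ commutator (↥K ⧸ M.subgroupOf K) := by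
          rw [map_commutatorElement, commutator_def]
          exact Subgroup.commutator_mem_commutator (Subgroup.mem_top _) (Subgroup.mem_top _)
        rw [hbot, Subgroup.mem_bot] at this
        exact (QuotientGroup.eq_one_iff ⁅(⟨a, ha⟩ : K), (⟨b, hb⟩ : K)⁆).mp this
      rwa [le_antisymm hle hMH₁] at hcoh

end Cfsg.Agent.S1521
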