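import Cfsg.Statements.S0881
import Mathlib
import Cfsg.Agent.Lib.Perm.ZassenhausOdd
import Cfsg.Agent.Lib.CharTheory.Linear
-- import your own Cfsg.Agent.* helpers here

set_option autoImplicit false
open Cfsg
open MulAction CfsgLib.ZassenhausOdd

namespace Cfsg.Agent.S0881

/-- Let G be a finite simple Zassenhaus group on Ω with n points, a ≠ b points with two-point stabilizer E of odd order less than n - 2, and let H be the subgroup of the stabilizer of a consisting of the identity and the elements fixing no point other than a (given here as a subgroup of the stabilizer of order one less than the number of points whose non-identity elements fix only a; it is the Frobenius kernel of the stabilizer). Let μ be a character of degree 1 of the stabilizer of a that is identically 1 on H but not identically 1. Then the function induced from μ to G is an irreducible character of G, and it takes the value 1 at every non-identity element of H. -/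
theorem result {G Ω : Type*} [Group G] [Fintype G] [MulAction G Ω] [Fintype Ω] (hZ : Cfsg.IsZassenhausGroup G Ω) {a b : Ω} (hab : a ≠ b) [IsSimpleGroup G] (hodd : Odd (Nat.card ↥(MulAction.stabilizer G a ⊓ MulAction.stabilizer G b : Subgroup G))) (hlt : Nat.card ↥(MulAction.stabilizer G a ⊓ MulAction.stabilizer G b : Subgroup G) < Fintype.card Ω - 2) (H : Subgroup G) (hHa : H ≤ MulAction.stabilizer G a) (hHcard : Nat.card H + 1 = Fintype.card Ω) (hHfix : ∀ u ∈ H, u ≠ 1 → ∀ c : Ω, u • c = c → c = a) (μ : MulAction.stabilizer G a → ℂ) (hμ : Cfsg.IsCharacter (MulAction.stabilizer G a) μ ∧ μ 1 = 1) (hμH : ∀ u : MulAction.stabilizer G a, (u : G) ∈ H → μ u = 1) (hμne : μ ≠ fun _ => 1) : Cfsg.IsIrrCharacter G (Cfsg.indFun (MulAction.stabilizer G a) μ) ∧ ∀ u ∈ H, u ≠ 1 → Cfsg.indFun (MulAction.stabilizer G a) μ u = 1 := by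
  classical
  set e := Nat.card (D (G := G) a b) with he'
  have hoddall : ∀ c d : Ω, c ≠ d → Odd (Nat.card (D (G := G) c d)) := fun c d hcd => card_D_eq hZ hab hcd ▸ hodd
  set A := stabilizer G a with hA
  obtain ⟨hμc, hμ1⟩ := hμ
  obtain ⟨φ, hφ⟩ := CfsgLib.CharTheory.exists_hom_of_degree_one hμc hμ1
  subst hφ
  letI : Fintype A := Fintype.ofFinite A
  have hk : ∀ c : Ω, ∃ k : G, k • a = c ∧ (c = a → k = 1) ∧
      (c ≠ a → ∀ d ∈ D (G := G) a c, k⁻¹ * d * k = d⁻¹) := by
    intro c
    by_cases hc : c = a
    · exact ⟨1, by rw [one_smul, hc], fun _ => rfl, fun h => absurd hc h⟩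
    obtain ⟨w, hww, hwa, hwc⟩ := exists_swap hZ hoddall (Ne.symm hc)
    refine ⟨w, hwa, fun h => absurd h hc, fun _ d hd => ?_⟩
    have := swap_inverts hZ hoddall (Ne.symm hc) hww hwa hwc d hd
    rwa [inv_eq_of_mul_eq_one_right hww] at this ⊢
  choose k hka hk1 hkinv using hk
  set μ : A → ℂ := fun g => (φ g : ℂ) with hμdef
  set F : Ω → G → ℂ := fun c g => extendByZero A μ ((k c)⁻¹ * g * k c) with hF
  have hinvariant : ∀ α : A, ∀ y : G, extendByZero A μ ((α : G)⁻¹ * y * α) = extendByZero A μ y := by
    intro α y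
    by_cases hy : y ∈ A
    · rw [CfsgLib.CharTheory.extendByZero_of_mem A μ (mul_mem (mul_mem (inv_mem α.2) hy) α.2),
        CfsgLib.CharTheory.extendByZero_of_mem A μ hy]
      show (φ (α⁻¹ * ⟨y, hy⟩ * α) : ℂ) = φ ⟨y, hy⟩
      rw [map_mul, map_mul, map_inv, mul_comm (φ α)⁻¹, inv_mul_cancel_right]
    · rw [CfsgLib.CharTheory.extendByZero_of_not_mem A μ hy, CfsgLib.CharTheory.extendByZero_of_not_mem A μ]
      intro h
      have := mul_mem (mul_mem α.2 h) (inv_mem α.2)
      simp [mul_assoc] at this
      exact hy this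
  have hval : ∀ g : G, Cfsg.indFun A μ g = ∑ c : Ω, F c g := by
    intro g
    simp only [Cfsg.indFun]
    rw [← Finset.sum_fiberwise_of_maps_to (g := fun x : G => x • a) (t := (Finset.univ : Finset Ω)) (fun x _ => Finset.mem_univ _),
      Finset.mul_sum]
    refine Finset.sum_congr rfl fun c _ => ?_
    have hconst : ∀ x ∈ Finset.univ.filter (fun x : G => x • a = c), extendByZero A μ (x⁻¹ * g * x) = F c g := by
      intro x hx
      have hα : (k c)⁻¹ * x ∈ A := by
        rw [hA, mem_stabilizer_iff, mul_smul, (Finset.mem_filter.mp hx).2, inv_smul_eq_iff, hka]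
      have := hinvariant ⟨_, hα⟩ ((k c)⁻¹ * g * k c)
      show _ = extendByZero A μ ((k c)⁻¹ * g * k c)
      rw [← this]
      congr 1
      group
    rw [Finset.sum_congr rfl hconst, Finset.sum_const, nsmul_eq_mul, ← mul_assoc]
    have hcard : ((Finset.univ : Finset G).filter fun x => x • a = c).card = Nat.card A := by
      rw [← Fintype.card_subtype, ← Nat.card_eq_fintype_card]
      exact Nat.card_congr
        { toFun := fun x => ⟨(k c)⁻¹ * x.1, by rw [hA, mem_stabilizer_iff, mul_smul, x.2, inv_smul_eq_iff, hka]⟩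
          invFun := fun x => ⟨k c * x.1, by rw [mul_smul, mem_stabilizer_iff.mp x.2, hka]⟩
          left_inv := fun x => Subtype.ext (mul_inv_cancel_left _ _)
          right_inv := fun x => Subtype.ext (inv_mul_cancel_left _ _) }
    rw [hcard, inv_mul_cancel₀ (Nat.cast_ne_zero.mpr Nat.card_pos.ne'), one_mul]
  have hF0 : ∀ c g, F c g ≠ 0 → g • c = c := by
    intro c g h
    by_contra hne
    refine h (CfsgLib.CharTheory.extendByZero_of_not_mem A μ fun hm => hne ?_)
    rw [hA, mem_stabilizer_iff, mul_smul, mul_smul, hka, inv_smul_eq_iff, hka] at hm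
    exact hm
  have hFa : ∀ α : A, F a α = μ α := fun α => by
    simp only [hF, hk1 a rfl, inv_one, one_mul, mul_one]
    exact CfsgLib.CharTheory.extendByZero_coe A μ α
  have hunit : ∀ α : A, μ α * (starRingEnd ℂ) (μ α) = 1 := fun α => by
    have h1 : μ α ^ Nat.card A = 1 := by
      rw [hμdef, ← Units.val_pow_eq_pow_val, ← map_pow, pow_card_eq_one', map_one, Units.val_one]
    rw [Complex.mul_conj', Complex.norm_eq_one_of_pow_eq_one h1 Nat.card_pos.ne']
    norm_num
  refine ⟨CfsgLib.CharTheory.irr_of_char_norm_one (CfsgLib.CharTheory.isCharacter_indFun A hμc) ?_, ?_⟩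
  swap
  · intro u hu hu1
    rw [hval, Finset.sum_eq_single a]
    · rw [show u = ((⟨u, hHa hu⟩ : A) : G) from rfl, hFa]
      exact hμH _ hu
    · intro c _ hc
      by_contra hne
      exact hc (hHfix u hu hu1 c (hF0 c u hne))
    · exact fun h => absurd (Finset.mem_univ a) h
  rw [CfsgLib.CharTheory.frobenius_reciprocity A μ (CfsgLib.CharTheory.indFun_isClassFunction A μ)]
  simp only [Cfsg.classInner, hval, map_sum]
  have hA0 : (Nat.card A : ℂ) ≠ 0 := Nat.cast_ne_zero.mpr Nat.card_pos.ne'
  rw [inv_mul_eq_iff_eq_mul₀ hA0, mul_one]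
  simp only [Finset.mul_sum]
  rw [Finset.sum_comm, Finset.sum_eq_single a]
  · simp only [hFa, hunit, Finset.sum_const, Finset.card_univ, nsmul_eq_mul, mul_one, Nat.card_eq_fintype_card]
  · intro c _ hc
    set Dc := (D (G := G) a c).subgroupOf A with hDc
    letI : Fintype Dc := Fintype.ofFinite Dc
    rw [← Finset.sum_filter_add_sum_filter_not Finset.univ (fun α : A => α ∈ Dc),
      Finset.sum_eq_zero (s := Finset.univ.filter fun α : A => ¬ α ∈ Dc) (fun α hα => ?_), add_zero]
    · have e1 : ∀ α ∈ Finset.univ.filter (fun α : A => α ∈ Dc), μ α * (starRingEnd ℂ) (F c α) = μ α * μ α := by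
        intro α hα
        have hαD : (α : G) ∈ D a c := Subgroup.mem_subgroupOf.mp (Finset.mem_filter.mp hα).2
        have : F c α = μ α⁻¹ := by
          rw [hF]
          show extendByZero A μ ((k c)⁻¹ * α * k c) = μ α⁻¹
          rw [hkinv c hc _ hαD]
          exact CfsgLib.CharTheory.extendByZero_coe A μ α⁻¹
        have hu' := hunit α⁻¹
        have hi : μ α * μ α⁻¹ = 1 := by
          rw [hμdef, ← Units.val_mul, ← map_mul, mul_inv_cancel, map_one, Units.val_one]
        rw [this]
        congr 1
        calc (starRingEnd ℂ) (μ α⁻¹) = (μ α * μ α⁻¹) * (starRingEnd ℂ) (μ α⁻¹) := by rw [hi, one_mul]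
          _ = μ α := by rw [mul_assoc, hu', mul_one]
      rw [Finset.sum_congr rfl e1, Finset.sum_subtype (p := (· ∈ Dc)) _ (fun x => by simp)]
      let ψ : Dc →* ℂ := (Units.coeHom ℂ).comp ((φ * φ).comp Dc.subtype)
      have hψ : ψ ≠ 1 := by
        intro h1
        apply hμne
        funext x
        show (φ x : ℂ) = 1
        have hDone : ∀ d : A, (d : G) ∈ D a c → φ d = 1 := by
          intro d hd
          have h2 : φ d * φ d = 1 := Units.ext (DFunLike.congr_fun h1 ⟨d, Subgroup.mem_subgroupOf.mpr hd⟩)
          have hodd' : Odd (orderOf (φ d)) := by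
            refine (hoddall a c (Ne.symm hc)).of_dvd_nat ((orderOf_map_dvd φ d).trans ?_)
            rw [← Subgroup.orderOf_coe]
            exact (D (G := G) a c).orderOf_dvd_natCard hd
          obtain ⟨j, hj⟩ := hodd'
          have := pow_orderOf_eq_one (φ d)
          rwa [hj, pow_succ, pow_mul, pow_two, h2, one_pow, one_mul] at this
        obtain ⟨u, hu, huc⟩ : ∃ u ∈ H, u • c = (x : G) • c := by
          have hxc : (x : G) • c ≠ a := fun e1 => hc (MulAction.injective (x : G) (e1.trans (mem_stabilizer_iff.mp x.2).symm))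
          let T : H → {z : Ω // z ≠ a} := fun u => ⟨(u : G) • c, fun e1 => hc (MulAction.injective (u : G)
            (e1.trans (mem_stabilizer_iff.mp (hHa u.2)).symm))⟩
          have hinj : Function.Injective T := fun u v e1 => by
            by_contra hne
            have e2 : (u : G) • c = (v : G) • c := congrArg Subtype.val e1
            exact hc (hHfix _ (mul_mem (inv_mem v.2) u.2) (fun e3 => hne (Subtype.ext (inv_mul_eq_one.mp e3).symm))
              c (by rw [mul_smul, e2, inv_smul_smul]))
          have hcardT : Nat.card {z : Ω // z ≠ a} ≤ Nat.card H := by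
            rw [Nat.card_eq_fintype_card, Fintype.card_subtype_compl, Fintype.card_subtype_eq]
            omega
          obtain ⟨⟨u, hu⟩, hT⟩ := (hinj.bijective_of_nat_card_le hcardT).2 ⟨_, hxc⟩
          exact ⟨u, hu, congrArg Subtype.val hT⟩
        have hxd : ((⟨u, hHa hu⟩ : A)⁻¹ * x : A).1 ∈ D a c := mem_D.mpr
          ⟨mem_stabilizer_iff.mp ((⟨u, hHa hu⟩ : A)⁻¹ * x).2, by
            show (u⁻¹ * (x : G)) • c = c
            rw [mul_smul, ← huc, inv_smul_smul]⟩
        have h3 := hDone _ hxd
        rw [map_mul, map_inv, inv_mul_eq_one] at h3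
        rw [← h3]
        exact hμH _ hu
      exact sum_hom_units_eq_zero ψ hψ
    · rw [show F c α = 0 from by
        by_contra hne
        exact (Finset.mem_filter.mp hα).2 (Subgroup.mem_subgroupOf.mpr
          (mem_D.mpr ⟨mem_stabilizer_iff.mp α.2, hF0 c α hne⟩)), map_zero, mul_zero]
  · exact fun h => absurd (Finset.mem_univ a) h

end Cfsg.Agent.S0881
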