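import Cfsg.Statements.S4691
import Cfsg.Agent.Lib.Blocks.Nilpotent
import Cfsg.Agent.Lib.PComplement

set_option autoImplicit false
set_option linter.style.haveILetI false
open Cfsg

namespace Cfsg.Agent.S4691

open CfsgLib.Blocks CfsgLib.CharTheory

/-- Fix a prime p and a maximal ideal M of the algebraic integers containing p. A finite group G has a normal p-complement if and only if its principal p-block is nilpotent. -/
theorem result {G : Type*} [Group G] [Fintype G] (p : ℕ) [Fact p.Prime] (M : Ideal Cfsg.AlgInt) (hM : Cfsg.IsPModular p M) : Cfsg.HasNormalPComplement p G ↔ Cfsg.IsNilpotentBlock p M (Cfsg.principalBlock M G) := by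
  classical
  rw [CfsgLib.hasNormalPComplement_iff_frobeniusCond]
  constructor
  · intro h
    refine ⟨principalBlock_isPBlock, fun Q e hQe x hxN _ hreg => ?_⟩
    exact h Q hQe.1.1 x hxN ((hM.1.coprime_iff_not_dvd.2 hreg).symm)
  · intro h Q hQ g hg hgp
    have hpr : Cfsg.IsPBlock M (Cfsg.principalBlock M (Subgroup.centralizer (Q : Set G))) := by
      haveI := Fintype.ofFinite (Subgroup.centralizer (Q : Set G))
      exact principalBlock_isPBlock
    refine h.2 Q _ ((pairOf_principal_iff hM hQ hpr).2 rfl) g hg ?_ (hM.1.coprime_iff_not_dvd.1 hgp.symm)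
    exact (stabilizesBlock_iff (normalizer_le_normalizer_cent Q hg)).2 (image_principalBlock _)

end Cfsg.Agent.S4691
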