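import Cfsg.Statements.S4646
import Cfsg.Agent.Lib.Blocks.Nilpotent
import Cfsg.Agent.S4691
import Cfsg.Agent.Lib.PComplement
import Cfsg.Agent.Lib.Blocks.Rank

set_option autoImplicit false
set_option linter.style.haveILetI false
open Cfsg

namespace Cfsg.Agent.S4646

open CfsgLib.Blocks CfsgLib.CharTheory

/-- For a finite group G, a prime p and a maximal ideal M of the algebraic integers containing p: the principal block of G is nilpotent if and only if its p-regular rank is 1 (the trivial Brauer character is its only irreducible Brauer character). -/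
theorem result {G : Type*} [Group G] [Finite G] (p : ℕ) [Fact p.Prime] (M : Ideal Cfsg.AlgInt) (hM : Cfsg.IsPModular p M) : Cfsg.IsNilpotentBlock p M (Cfsg.principalBlock M G) ↔ Cfsg.blockRank p (Cfsg.principalBlock M G) = 1 := by
  classical
  haveI : Fintype G := Fintype.ofFinite G
  have key : Cfsg.HasNormalPComplement p G ↔
      Cfsg.IsNilpotentBlock p M (Cfsg.principalBlock M G) := Cfsg.Agent.S4691.result p M hM
  rw [← key]
  constructor
  · intro h
    obtain ⟨P, N, hN, hc⟩ := h
    haveI := hN
    have hNp : ¬ p ∣ Nat.card N := by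
      rw [← hc.index_eq_card]; exact P.not_dvd_index
    have hidx : ∃ k : ℕ, N.index = p ^ k := by
      obtain ⟨k, hk⟩ := P.2.exists_card_eq
      exact ⟨k, by rw [hc.symm.index_eq_card]; exact hk⟩
    have hreg : ∀ x : G, ¬ p ∣ orderOf x → x ∈ N := by
      intro x hx
      obtain ⟨k, hk⟩ := hidx
      rw [← QuotientGroup.eq_one_iff, ← orderOf_eq_one_iff]
      refine Nat.eq_one_of_dvd_coprimes ((hM.1.coprime_iff_not_dvd.2 hx).pow_left k) ?_
        (orderOf_map_dvd (QuotientGroup.mk' N) x)
      rw [← hk]
      exact orderOf_dvd_natCard _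
    have hpr := principalBlock_of_complement (M := M) hM (N := N) hNp hidx
    refine le_antisymm ?_ ?_
    · refine (Submodule.finrank_mono (t := Submodule.span ℂ
        {Cfsg.pRegularPart p (fun _ : G => (1 : ℂ))}) ?_).trans (((finrank_span_le_card _).trans (by simp)))
      rw [Submodule.span_le]
      rintro _ ⟨χ, hχ, rfl⟩
      refine Submodule.mem_span_singleton.2 ⟨(χ : G → ℂ) 1, funext fun x => ?_⟩
      rw [hpr] at hχ
      simp only [Pi.smul_apply, smul_eq_mul, pRegularPart_apply]
      by_cases hx : p ∣ orderOf x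
      · simp [hx]
      · simp [hx, hχ x (hreg x hx)]
    · rw [Cfsg.blockRank, Nat.one_le_iff_ne_zero, Ne, Submodule.finrank_eq_zero, Submodule.eq_bot_iff]
      intro h0
      have := congrFun (h0 _ (Submodule.subset_span ⟨oneIrr G, oneIrr_mem hM, rfl⟩)) 1
      simp [pRegularPart_apply, oneIrr, hM.1.ne_one] at this
  · intro h
    have hsp : ∀ χ ∈ Cfsg.principalBlock M G, ∀ x : G, ¬ p ∣ orderOf x →
        (χ : G → ℂ) x = (χ : G → ℂ) 1 := by
      intro χ hχ x hx
      set v : G → ℂ := Cfsg.pRegularPart p (fun _ : G => (1 : ℂ)) with hv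
      have hv1 : v 1 = 1 := by simp [hv, pRegularPart_apply, hM.1.ne_one]
      set W := Submodule.span ℂ ((fun χ : Cfsg.IrrCharacter G =>
        Cfsg.pRegularPart p (χ : G → ℂ)) '' Cfsg.principalBlock M G) with hW
      have hvW : v ∈ W := Submodule.subset_span ⟨oneIrr G, oneIrr_mem hM, rfl⟩
      obtain ⟨c, hc⟩ := exists_smul_eq_of_finrank_eq_one (K := ℂ) (V := W) h
        (x := ⟨v, hvW⟩) (fun h0 => by
          have := congrFun (congrArg Subtype.val h0) 1
          simp [hv1] at this)
        ⟨_, Submodule.subset_span ⟨χ, hχ, rfl⟩⟩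
      have hcv : ∀ y, c * v y = Cfsg.pRegularPart p (χ : G → ℂ) y := fun y =>
        congrFun (congrArg Subtype.val hc) y
      have h1 := hcv 1
      have h2 := hcv x
      rw [hv1, mul_one, pRegularPart_apply, if_neg (by simpa using hM.1.ne_one)] at h1
      rw [show v x = 1 by simp [hv, pRegularPart_apply, hx], mul_one, pRegularPart_apply,
        if_neg hx] at h2
      rw [← h2, h1]
    obtain ⟨N, hN, hmem⟩ := normal_of_rank_one hM hsp
    haveI := hN
    refine CfsgLib.hasNormalPComplement_of_normal (N := N) ?_ ?_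
    · refine (hM.1.coprime_iff_not_dvd.2 fun hd => ?_).symm
      obtain ⟨x, hx⟩ := exists_prime_orderOf_dvd_card' (G := N) p hd
      exact (hmem (x : G)).1 x.2 (by rw [Subgroup.orderOf_coe, hx])
    · intro q
      obtain ⟨x, rfl⟩ := QuotientGroup.mk_surjective q
      refine ⟨(Nat.card G).factorization p, ?_⟩
      rw [← QuotientGroup.mk_pow, QuotientGroup.eq_one_iff, hmem]
      intro hd
      refine Nat.not_dvd_ordCompl hM.1 (Nat.card_pos (α := G)).ne' (hd.trans ?_)
      rw [orderOf_dvd_iff_pow_eq_one, ← pow_mul, Nat.ordProj_mul_ordCompl_eq_self, pow_card_eq_one']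

end Cfsg.Agent.S4646
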