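import Cfsg.Statements.S0225
import Cfsg.Agent.Lib.ZStar.Main

set_option autoImplicit false
open Cfsg

namespace Cfsg.Agent.S0225

/-- If a finite group G has even order but contains no Klein four-subgroup (2-rank 1), then some involution z of G is central modulo a normal subgroup of odd order: there is a normal subgroup N of odd order containing every commutator z g z⁻¹ g⁻¹. -/
theorem result {G : Type*} [Group G] [Finite G] (heven : Even (Nat.card G)) (hrank : ∀ E : Subgroup G, ¬ IsKleinFour E) : ∃ z : G, orderOf z = 2 ∧ ∃ N : Subgroup G, N.Normal ∧ Odd (Nat.card N) ∧ ∀ g : G, z * g * z⁻¹ * g⁻¹ ∈ N := by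
  haveI : Fact (Nat.Prime 2) := ⟨Nat.prime_two⟩
  obtain ⟨S⟩ := (inferInstance : Nonempty (Sylow 2 G))
  haveI hnt : Nontrivial (S : Subgroup G) := by
    refine (Subgroup.nontrivial_iff_ne_bot _).2 fun h => ?_
    have h1 := S.not_dvd_index
    rw [h, Subgroup.index_bot] at h1
    exact h1 heven.two_dvd
  haveI := S.2.center_nontrivial
  obtain ⟨⟨⟨z, hzS⟩, hzc⟩, hz'⟩ : ∃ c : Subgroup.center (S : Subgroup G), orderOf c = 2 := by
    refine exists_prime_orderOf_dvd_card' 2 ?_
    obtain ⟨m, hm⟩ := (S.2.to_subgroup (Subgroup.center (S : Subgroup G))).exists_card_eq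
    rw [hm]
    refine dvd_pow_self 2 fun h => ?_
    rw [h, pow_zero] at hm
    exact (Finite.one_lt_card (α := Subgroup.center (S : Subgroup G))).ne' hm
  rw [Subgroup.orderOf_mk, Subgroup.orderOf_mk] at hz'
  have hu : ∀ x ∈ (S : Subgroup G), orderOf x = 2 → x = z := by
    intro x hx hx2
    by_contra hne
    have hc : x * z = z * x :=
      congrArg Subtype.val (Subgroup.mem_center_iff.1 hzc ⟨x, hx⟩)
    have hxx := CfsgLib.ZStar.sq_eq_one hx2
    have hzz := CfsgLib.ZStar.sq_eq_one hz'
    have hx1 : x ≠ 1 := fun e => by rw [e, orderOf_one] at hx2; norm_num at hx2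
    have hz1 : z ≠ 1 := fun e => by rw [e, orderOf_one] at hz'; norm_num at hz'
    have hx1' : (x * z) * (x * z) = 1 := by
      calc (x * z) * (x * z) = x * (z * x) * z := by group
        _ = x * (x * z) * z := by rw [hc]
        _ = (x * x) * (z * z) := by group
        _ = 1 := by rw [hxx, hzz, mul_one]
    have hxz1 : x * z ≠ 1 := fun e => hne (by rw [eq_inv_of_mul_eq_one_left e, CfsgLib.ZStar.inv_eq_self hz'])
    have hxzx : x * z ≠ x := fun e => hz1 (mul_eq_left.1 e)
    have hxzz : x * z ≠ z := fun e => hx1 (mul_eq_right.1 e)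
    set E : Subgroup G :=
      { carrier := {1, x, z, x * z}
        one_mem' := Or.inl rfl
        mul_mem' := fun {a b} ha hb => by
          have e1 : x * (x * z) = z := by rw [← mul_assoc, hxx, one_mul]
          have e2 : (x * z) * z = x := by rw [mul_assoc, hzz, mul_one]
          have e3 : (x * z) * x = z := by rw [hc, mul_assoc, hxx, mul_one]
          have e4 : z * (x * z) = x := by rw [hc, ← mul_assoc, hzz, one_mul]
          rcases ha with rfl | rfl | rfl | rfl <;> rcases hb with rfl | rfl | rfl | rfl <;>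
            simp [hxx, hzz, e1, e2, e3, e4, hx1', ← hc]
        inv_mem' := fun {a} ha => by
          rcases ha with rfl | rfl | rfl | rfl
          · simp
          · rw [CfsgLib.ZStar.inv_eq_self hx2]; exact Or.inr (Or.inl rfl)
          · rw [CfsgLib.ZStar.inv_eq_self hz']; exact Or.inr (Or.inr (Or.inl rfl))
          · rw [inv_eq_of_mul_eq_one_right hx1']; exact Or.inr (Or.inr (Or.inr rfl)) } with hE
    have hcard : Nat.card E = 4 := by
      show Nat.card ({1, x, z, x * z} : Set G) = 4
      rw [Nat.card_coe_set_eq]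
      exact Set.ncard_eq_four.2 ⟨1, x, z, x * z, Ne.symm hx1, Ne.symm hz1, Ne.symm hxz1, hne,
        Ne.symm hxzx, Ne.symm hxzz, rfl⟩
    refine hrank E ⟨hcard, ?_⟩
    have hexp : ∀ a : E, a ^ 2 = 1 := by
      rintro ⟨a, ha⟩
      refine Subtype.ext ?_
      show a ^ 2 = 1
      rcases ha with rfl | rfl | rfl | rfl
      · simp
      · rw [pow_two, hxx]
      · rw [pow_two, hzz]
      · rw [pow_two, hx1']
    refine Nat.Prime.eq_one_or_self_of_dvd Nat.prime_two _ (Monoid.exponent_dvd_of_forall_pow_eq_one hexp)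
      |>.resolve_left fun h => ?_
    have := Monoid.exp_eq_one_iff.1 h
    exact absurd (Finite.card_le_one_iff_subsingleton.2 this) (by rw [hcard]; norm_num)
  have hiso : IsIsolated z := CfsgLib.ZStar.isolated_of_sylow S hz' hzS fun g hg =>
    hu _ hg (by rw [CfsgLib.ZStar.orderOf_conj, hz'])
  exact ⟨z, hz', pPrimeCore 2 G, inferInstance,
    Nat.coprime_two_right.1 (CfsgLib.card_pPrimeCore_coprime 2),
    CfsgLib.ZStar.commutator_mem hz' hiso⟩

end Cfsg.Agent.S0225
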