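import Cfsg.Statements.S4593
import Cfsg.Agent.Lib.ZStar.Powers
import Cfsg.Agent.Lib.Basic

set_option autoImplicit false
open Cfsg

namespace Cfsg.Agent.S4593

theorem result {G : Type*} [Group G] [Finite G] (hZ : Subgroup.center G = ⊥) (hcore : Cfsg.pPrimeCore 2 G = ⊥) (P : Sylow 2 G) (hab : IsMulCommutative (P : Subgroup G))
    (α : MulAut G) (h2 : ∃ j : ℕ, orderOf α = 2 ^ j) (hfix : ∀ x ∈ (P : Subgroup G), α x = x) :
    ∃ g : G, ∀ x : G, α x = g * x * g⁻¹ := by
  classical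
  haveI := Fact.mk Nat.prime_two
  let ι : G →* MulAut G := MulAut.conj
  have hι : Function.Injective ι := by
    rw [injective_iff_map_eq_one]
    intro g hg
    rw [← Subgroup.mem_bot, ← hZ, Subgroup.mem_center_iff]
    intro x
    have h := DFunLike.congr_fun hg x
    simp only [ι, MulAut.conj_apply, MulAut.one_apply] at h
    exact (mul_inv_eq_iff_eq_mul.1 h).symm
  have hca : ∀ (β : MulAut G) (x : G), β * ι x * β⁻¹ = ι (β x) := fun β x => by
    ext y; simp [ι]
  haveI hIn : ι.range.Normal := ⟨by rintro _ ⟨x, rfl⟩ β; exact ⟨β x, (hca β x).symm⟩⟩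
  obtain ⟨j, hj⟩ := h2
  have hαp : ∀ x ∈ (P : Subgroup G), Commute α (ι x) := fun x hx => by
    have h := hca α x
    rw [hfix x hx] at h
    exact mul_inv_eq_iff_eq_mul.1 h
  let S0 : Subgroup (MulAut G) := (P : Subgroup G).map ι ⊔ Subgroup.zpowers α
  have hA : IsPGroup 2 (Subgroup.zpowers α) := IsPGroup.of_card (n := j) (by rw [Nat.card_zpowers, hj])
  have hnormA : Subgroup.zpowers α ≤ Subgroup.normalizer (((P : Subgroup G).map ι) : Set (MulAut G)) := by
    rw [Subgroup.zpowers_le, Subgroup.mem_normalizer_iff]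
    intro y
    constructor
    · rintro ⟨x, hx, rfl⟩
      exact ⟨x, hx, by rw [(hαp x hx).eq, mul_inv_cancel_right]⟩
    · rintro ⟨x, hx, e⟩
      refine ⟨x, hx, ?_⟩
      have h := (hαp x hx).inv_left.eq
      calc ι x = α⁻¹ * ι x * α := by rw [h, inv_mul_cancel_right]
        _ = y := by rw [e]; group
  have hS0p : IsPGroup 2 S0 := by
    have := hA.to_sup_of_normal_right' (P.isPGroup'.map ι) hnormA
    rwa [sup_comm] at this
  let X : Subgroup (MulAut G) := ι.range ⊔ Subgroup.zpowers α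
  have hS0X : S0 ≤ X := sup_le_sup_right (Subgroup.map_le_range ι _) _
  obtain ⟨S, hS⟩ := IsPGroup.exists_le_sylow (p := 2) (G := X) (P := S0.subgroupOf X)
    (hS0p.of_equiv (Subgroup.subgroupOfEquivOfLe hS0X).symm)
  have hPmax : ∀ x : G, (∃ h : ι x ∈ X, (⟨ι x, h⟩ : X) ∈ (S : Subgroup X)) → x ∈ (P : Subgroup G) := by
    let Q : Subgroup G := ((S : Subgroup X).map X.subtype).comap ι
    have hQ : IsPGroup 2 Q := (S.isPGroup'.map X.subtype).comap_of_injective ι hι
    have hPQ : (P : Subgroup G) ≤ Q := fun x hx =>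
      ⟨⟨ι x, hS0X ((le_sup_left : _ ≤ S0) ⟨x, hx, rfl⟩)⟩, hS ((le_sup_left : _ ≤ S0) ⟨x, hx, rfl⟩), rfl⟩
    rintro x ⟨h, hx⟩
    rw [← P.is_maximal' hQ hPQ]
    exact ⟨⟨ι x, h⟩, hx, rfl⟩
  have hdec : ∀ n : X, ∃ x : G, ∃ k : ℤ, ι x * α ^ k = (n : MulAut G) := by
    intro n
    obtain ⟨_, ⟨x, rfl⟩, a, ha, e⟩ := Subgroup.mem_sup_of_normal_left.1 n.2
    obtain ⟨k, rfl⟩ := Subgroup.mem_zpowers_iff.1 ha
    exact ⟨x, k, e⟩
  let a : X := ⟨α, (le_sup_right : _ ≤ X) (Subgroup.mem_zpowers α)⟩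
  have haS : a ∈ (S : Subgroup X) := hS ((le_sup_right : _ ≤ S0) (Subgroup.mem_zpowers α))
  -- the Sylow subgroup is commutative
  have hScomm : ∀ s ∈ (S : Subgroup X), ∀ t ∈ (S : Subgroup X), s * t = t * s := by
    have hsplit : ∀ s ∈ (S : Subgroup X), ∃ x ∈ (P : Subgroup G), ∃ k : ℤ, ι x * α ^ k = (s : MulAut G) := by
      intro s hs
      obtain ⟨x, k, e⟩ := hdec s
      have hxX : ι x ∈ X := (le_sup_left : _ ≤ X) ⟨x, rfl⟩
      refine ⟨x, hPmax x ⟨hxX, ?_⟩, k, e⟩
      have h : (⟨ι x, hxX⟩ : X) = s * (a ^ k)⁻¹ := Subtype.ext (by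
        rw [Subgroup.coe_mul, Subgroup.coe_inv, SubgroupClass.coe_zpow, ← e, mul_inv_cancel_right])
      rw [h]
      exact Subgroup.mul_mem _ hs (Subgroup.inv_mem _ (Subgroup.zpow_mem _ haS k))
    intro s hs t ht
    obtain ⟨x, hx, k, e⟩ := hsplit s hs
    obtain ⟨y, hy, l, f⟩ := hsplit t ht
    have hxy : Commute (ι x) (ι y) :=
      (congrArg Subtype.val (mul_comm' (⟨x, hx⟩ : (P : Subgroup G)) ⟨y, hy⟩) : x * y = y * x) |>
        fun h => (show Commute x y from h).map ι
    have h : Commute (ι x * α ^ k) (ι y * α ^ l) :=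
      (hxy.mul_right ((hαp x hx).symm.zpow_right l)).mul_left
        (((hαp y hy).zpow_left k).mul_right (Commute.zpow_zpow_self α k l))
    rw [e, f] at h
    exact Subtype.ext h
  -- the product of the conjugates of `a`
  let I : Subgroup X := ι.range.subgroupOf X
  haveI : I.Normal := hIn.subgroupOf X
  letI : CommGroup (S : Subgroup X) :=
    { (inferInstance : Group (S : Subgroup X)) with
      mul_comm := fun s t => Subtype.ext (hScomm s s.2 t t.2) }
  let N : Subgroup X := Subgroup.normalizer ((S : Subgroup X) : Set X)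
  let K : Subgroup N := (S : Subgroup X).subgroupOf N
  haveI := Fintype.ofFinite (N ⧸ K)
  let f : N → (S : Subgroup X) := fun n => ⟨(n : X) * a * (n : X)⁻¹, (Subgroup.mem_normalizer_iff.1 n.2 a).1 haS⟩
  have hfK : ∀ (n : N) (k : K), f (n * k) = f n := by
    intro n k
    apply Subtype.ext
    show (n : X) * ((k : N) : X) * a * ((n : X) * ((k : N) : X))⁻¹ = (n : X) * a * (n : X)⁻¹
    have h : ((k : N) : X) * a = a * ((k : N) : X) := hScomm _ k.2 a haS
    rw [_root_.mul_inv_rev, mul_assoc (n : X), h]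
    group
  let c : (S : Subgroup X) := ∏ q : N ⧸ K, f q.out
  have hcfix : ∀ n : N, (n : X) * (c : X) * (n : X)⁻¹ = (c : X) := by
    intro n
    let φ : (S : Subgroup X) →* (S : Subgroup X) :=
      { toFun := fun s => ⟨(n : X) * s * (n : X)⁻¹, (Subgroup.mem_normalizer_iff.1 n.2 s).1 s.2⟩
        map_one' := Subtype.ext (by simp)
        map_mul' := fun s t => Subtype.ext (by simp [mul_assoc]) }
    show ((φ c : (S : Subgroup X)) : X) = c
    congr 1
    simp only [c, map_prod]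
    refine Fintype.prod_equiv (MulAction.toPerm n) _ _ fun q => ?_
    rw [MulAction.toPerm_apply]
    obtain ⟨g, rfl⟩ := QuotientGroup.mk_surjective q
    rw [MulAction.Quotient.smul_mk, smul_eq_mul]
    obtain ⟨k, hk⟩ := QuotientGroup.mk_out_eq_mul K g
    obtain ⟨k', hk'⟩ := QuotientGroup.mk_out_eq_mul K (n * g)
    rw [hk, hk', hfK, hfK]
    apply Subtype.ext
    simp [φ, f, mul_assoc]
  -- it is central
  have hweak : ∀ (i : ℕ) (g : X), g * (c : X) ^ i * g⁻¹ ∈ S → g * (c : X) ^ i * g⁻¹ = (c : X) ^ i := by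
    intro i g hg
    have hcent : ∀ s ∈ (S : Subgroup X), s ∈ Subgroup.centralizer ((S : Subgroup X) : Set X) :=
      fun s hs t ht => hScomm t ht s hs
    obtain ⟨n, hn, e⟩ := S.conj_eq_normalizer_conj_of_mem_centralizer ((c : X) ^ i) g⁻¹
      (hcent _ (Subgroup.pow_mem _ c.2 i)) (by rw [inv_inv]; exact hcent _ hg)
    rw [inv_inv] at e
    rw [e]
    have h := hcfix ⟨n, hn⟩⁻¹
    simp only [Subgroup.coe_inv, inv_inv] at h
    rw [show n⁻¹ * (c : X) ^ i * n = (n⁻¹ * (c : X) * n) ^ i by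
      simpa using (conj_pow (i := i) (a := n⁻¹) (b := (c : X))).symm, h]
  have hO : Cfsg.pPrimeCore 2 X = ⊥ := by
    rw [eq_bot_iff]
    intro o ho
    let O : Subgroup X := Cfsg.pPrimeCore 2 X
    have hmeet : ∀ g : G, ∀ h : ι g ∈ X, (⟨ι g, h⟩ : X) ∈ O → g = 1 := by
      let η : G →* X := ι.codRestrict X fun g => (le_sup_left : _ ≤ X) ⟨g, rfl⟩
      have hη : Function.Injective η := fun x y h => hι (congrArg Subtype.val h)
      haveI : O.Normal := by
        show (Cfsg.pPrimeCore 2 X).Normal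
        infer_instance
      haveI : (O.comap η).Normal := Subgroup.Normal.comap inferInstance η
      have hle : O.comap η ≤ Cfsg.pPrimeCore 2 G := by
        refine CfsgLib.le_pPrimeCore ?_
        refine Nat.Coprime.coprime_dvd_left ?_ (CfsgLib.card_pPrimeCore_coprime (G := X) 2)
        exact Subgroup.card_comap_dvd_of_injective O η hη
      intro g h hg
      have := hle (show g ∈ O.comap η from hg)
      rwa [hcore, Subgroup.mem_bot] at this
    rw [Subgroup.mem_bot]
    apply Subtype.ext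
    refine MulEquiv.ext fun x => ?_
    have hxX : ι x ∈ X := (le_sup_left : _ ≤ X) ⟨x, rfl⟩
    have hoX : ι ((o : MulAut G) x * x⁻¹) ∈ X := (le_sup_left : _ ≤ X) ⟨_, rfl⟩
    have h1 : (⟨ι ((o : MulAut G) x * x⁻¹), hoX⟩ : X) ∈ O := by
      haveI : O.Normal := by
        show (Cfsg.pPrimeCore 2 X).Normal
        infer_instance
      have e : (⟨ι ((o : MulAut G) x * x⁻¹), hoX⟩ : X)
          = o * ((⟨ι x, hxX⟩ : X) * o⁻¹ * (⟨ι x, hxX⟩ : X)⁻¹) := Subtype.ext (by
        simp only [Subgroup.coe_mul, Subgroup.coe_inv, map_mul, map_inv, ← hca (o : MulAut G) x]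
        group)
      rw [e]
      exact O.mul_mem ho ((inferInstance : O.Normal).conj_mem _ (O.inv_mem ho) _)
    simpa using mul_inv_eq_one.1 (hmeet _ hoX h1)
  have hc1 : (c : X) = 1 := by
    have hz := CfsgLib.ZStar.inZStar_of_powers _ X rfl S c c.2 hweak
    apply Subtype.ext
    refine MulEquiv.ext fun x => ?_
    have h := hz ⟨ι x, (le_sup_left : _ ≤ X) ⟨x, rfl⟩⟩
    rw [hO, Subgroup.mem_bot, mul_inv_eq_one, mul_inv_eq_iff_eq_mul] at h
    have h' : ι x * ((c : X) : MulAut G) = ((c : X) : MulAut G) * ι x := congrArg Subtype.val h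
    have h3 := hca ((c : X) : MulAut G) x
    rw [← h', mul_inv_cancel_right] at h3
    simpa using (hι h3).symm
  -- hence an odd power of `a` is inner
  have hq : ∀ n : X, ((n * a * n⁻¹ : X) : X ⧸ I) = (a : X ⧸ I) := by
    intro n
    obtain ⟨x, k, e⟩ := hdec n
    rw [QuotientGroup.eq]
    show ((n * a * n⁻¹)⁻¹ * a : X).val ∈ ι.range
    simp only [Subgroup.coe_mul, Subgroup.coe_inv, ← e]
    refine ⟨x * (α⁻¹ x⁻¹), ?_⟩
    rw [map_mul, ← hca α⁻¹ x⁻¹, map_inv]
    simp only [a]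
    group
  have hpow : (a : X ⧸ I) ^ Nat.card (N ⧸ K) = 1 := by
    let ψ : (S : Subgroup X) →* X ⧸ I := (QuotientGroup.mk' I).comp (S : Subgroup X).subtype
    have hab : ∀ s t : ψ.range, s * t = t * s := by
      rintro ⟨_, s, rfl⟩ ⟨_, t, rfl⟩
      exact Subtype.ext (by
        show ψ s * ψ t = ψ t * ψ s
        rw [← map_mul, mul_comm, map_mul])
    have h := congrArg ψ (show c = 1 from Subtype.ext hc1)
    letI : CommGroup ψ.range := { (inferInstance : Group ψ.range) with mul_comm := hab }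
    have h2 : ψ.rangeRestrict c = 1 := Subtype.ext (by simpa using h)
    simp only [c, map_prod] at h2
    rw [Finset.prod_congr rfl (fun q _ => show ψ.rangeRestrict (f q.out) = ψ.rangeRestrict ⟨a, haS⟩ from
      Subtype.ext (hq _)), Finset.prod_const, Finset.card_univ] at h2
    rw [Nat.card_eq_fintype_card]
    exact congrArg Subtype.val h2
  have hodd : Odd (Nat.card (N ⧸ K)) := by
    refine Nat.not_even_iff_odd.1 fun h => ?_
    refine S.not_dvd_index (h.two_dvd.trans ?_)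
    exact Subgroup.relIndex_dvd_index_of_le Subgroup.le_normalizer
  have hord : orderOf (a : X ⧸ I) ∣ 2 ^ j := by
    rw [← hj]
    exact (orderOf_map_dvd (QuotientGroup.mk' I) a).trans (dvd_of_eq (Subgroup.orderOf_mk _ _))
  have hone : (a : X ⧸ I) = 1 := orderOf_eq_one_iff.1 (Nat.eq_one_of_dvd_coprimes
    ((Nat.coprime_two_left.2 hodd).pow_left j) hord (orderOf_dvd_of_pow_eq_one hpow))
  obtain ⟨g, hg⟩ := (QuotientGroup.eq_one_iff a).1 hone
  exact ⟨g, fun x => by rw [← show ι g = α from hg]; simp [ι]⟩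

end Cfsg.Agent.S4593
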