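import Cfsg.Statements.S0912
import Cfsg.Agent.Lib.Blocks.Principal

set_option autoImplicit false
set_option linter.style.haveILetI false
open Cfsg

namespace Cfsg.Agent.S0912

open CfsgLib.Blocks CfsgLib.CharTheory

/-- Let B be a block of the finite group G relative to a maximal ideal M of the algebraic integers containing the prime p. Every defect group of B contains the largest normal p-subgroup O_p(G). -/
theorem result {G : Type*} [Group G] [Finite G] (p : ℕ) [Fact p.Prime] (M : Ideal Cfsg.AlgInt) (hM : Cfsg.IsPModular p M) (B : Set (Cfsg.IrrCharacter G)) (hB : Cfsg.IsPBlock M B) (D : Subgroup G) (hD : Cfsg.IsDefectGroup p M B D) : Cfsg.pCore p G ≤ D := by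
  classical
  haveI := Fintype.ofFinite G
  obtain ⟨g, hg, S, rfl⟩ := hD
  have hP := CfsgLib.isPGroup_pCore (G := G) p
  have hgC := mem_centralizer_normal hM hB hP hg.2.1
  have hle : Cfsg.pCore p G ≤ Subgroup.centralizer ({g} : Set G) := fun r hr =>
    Subgroup.mem_centralizer_singleton_iff.2 (hgC r hr)
  obtain ⟨c, hc, hcle⟩ := exists_conj_le_sylow _ S hP hle
  haveI : (Cfsg.pCore p G).Normal := inferInstance
  intro y hy
  refine hcle (conjMap_mem_iff.2 ?_)
  simpa using Subgroup.Normal.conj_mem inferInstance y hy c⁻¹

end Cfsg.Agent.S0912
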