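import Cfsg.Statements.S0920
import Cfsg.Agent.Lib.Blocks.Induced

set_option autoImplicit false
set_option linter.style.haveILetI false
open Cfsg

namespace Cfsg.Agent.S0920

open CfsgLib.Blocks CfsgLib.CharTheory

/-- Brauer's First Main Theorem. Let D be a p-subgroup of the finite group G with normalizer N, and fix a maximal ideal M of the algebraic integers containing p. Then (i) every block b of N having D as a defect group induces some block B of G having D as a defect group; (ii) every block of G with defect group D is induced by exactly one block of N with defect group D. -/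
theorem result {G : Type*} [Group G] [Finite G] (p : ℕ) [Fact p.Prime] (M : Ideal Cfsg.AlgInt) (hM : Cfsg.IsPModular p M) (D : Subgroup G) (hD : IsPGroup p D) : (∀ b : Set (Cfsg.IrrCharacter (Subgroup.normalizer (D : Set G))), Cfsg.IsPBlock M b → Cfsg.IsDefectGroup p M b (D.subgroupOf (Subgroup.normalizer (D : Set G))) → ∃ B : Set (Cfsg.IrrCharacter G), Cfsg.IsPBlock M B ∧ Cfsg.IsDefectGroup p M B D ∧ Cfsg.IsInducedBlock M (Subgroup.normalizer (D : Set G)) b B) ∧ (∀ B : Set (Cfsg.IrrCharacter G), Cfsg.IsPBlock M B → Cfsg.IsDefectGroup p M B D → ∃! b : Set (Cfsg.IrrCharacter (Subgroup.normalizer (D : Set G))), Cfsg.IsPBlock M b ∧ Cfsg.IsDefectGroup p M b (D.subgroupOf (Subgroup.normalizer (D : Set G))) ∧ Cfsg.IsInducedBlock M (Subgroup.normalizer (D : Set G)) b B) := by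
  haveI := Fintype.ofFinite G
  haveI := Fintype.ofFinite (Subgroup.normalizer (D : Set G))
  have hC := Subgroup.centralizer_le_normalizer (s := (D : Set G))
  refine ⟨fun b hb hbD => ?_, fun B hB hBD => ?_⟩
  · obtain ⟨B, ⟨hB, hBD, hx⟩, -⟩ := firstMain_up hM le_rfl hb hbD
    exact ⟨B, hB, hBD, induced_of_congr hM Subgroup.le_normalizer hC le_rfl hb hbD hB hx⟩
  · obtain ⟨c, ⟨hc, hcD, hx⟩, huniq⟩ :=
      firstMain_down (H := Subgroup.normalizer (D : Set G)) hM le_rfl hB hBD
    refine ⟨c, ⟨hc, hcD, induced_of_congr hM Subgroup.le_normalizer hC le_rfl hc hcD hB hx⟩, ?_⟩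
    rintro b ⟨hb, hbD, hind⟩
    obtain ⟨B', ⟨hB', -, hx'⟩, -⟩ := firstMain_up hM le_rfl hb hbD
    have he := isInducedBlock_unique hM hind
      (induced_of_congr hM Subgroup.le_normalizer hC le_rfl hb hbD hB' hx')
    exact huniq b ⟨hb, hbD, he ▸ hx'⟩

end Cfsg.Agent.S0920
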