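import Cfsg.Statements.S4765
import Cfsg.Agent.Lib.SL2Char.DegreeGraph

set_option autoImplicit false
open Cfsg
open CfsgLib.SL2Char CfsgLib.CharTheory

namespace Cfsg.Agent.S4765

theorem result (p : ℕ) [Fact p.Prime] (F : Type*) [Field F] [Fintype F] [CharP F p] (hF : 4 ≤ Fintype.card F) : Nat.card {χ : Cfsg.IrrCharacter (Matrix.ProjectiveSpecialLinearGroup (Fin 2) F) // p ∣ Cfsg.charDegree (χ : Matrix.ProjectiveSpecialLinearGroup (Fin 2) F → ℂ)} = 1 ∧ ∀ χ : Cfsg.IrrCharacter (Matrix.ProjectiveSpecialLinearGroup (Fin 2) F), p ∣ Cfsg.charDegree (χ : Matrix.ProjectiveSpecialLinearGroup (Fin 2) F → ℂ) → Cfsg.charDegree (χ : Matrix.ProjectiveSpecialLinearGroup (Fin 2) F → ℂ) = Fintype.card F := by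
  classical
  obtain ⟨n, hn, hq⟩ := FiniteField.card F p
  have hpq : p ∣ Fintype.card F := hq ▸ dvd_pow_self p n.ne_zero
  have hn1 : ∀ m : ℕ, (m + 1 = Fintype.card F ∨ m = Fintype.card F + 1 ∨ m = 1 ∨
      2 * m = Fintype.card F + 1 ∨ 2 * m + 1 = Fintype.card F) → ¬ p ∣ m := by
    intro m hm hd
    have hp1 := hn.one_lt
    rcases hm with e | e | e | e | e
    · have := (Nat.dvd_add_right hd).mp (e ▸ hpq)
      exact absurd (Nat.le_of_dvd Nat.one_pos this) (by omega)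
    · have := (Nat.dvd_add_right hpq).mp (e ▸ hd)
      exact absurd (Nat.le_of_dvd Nat.one_pos this) (by omega)
    · exact absurd (Nat.le_of_dvd Nat.one_pos (e ▸ hd)) (by omega)
    · have := (Nat.dvd_add_right hpq).mp (e ▸ hd.mul_left 2)
      exact absurd (Nat.le_of_dvd Nat.one_pos this) (by omega)
    · have := (Nat.dvd_add_right (hd.mul_left 2)).mp (e ▸ hpq)
      exact absurd (Nat.le_of_dvd Nat.one_pos this) (by omega)
  set Z := Subgroup.center (Matrix.SpecialLinearGroup (Fin 2) F)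
  have key : ∀ χ : Cfsg.IrrCharacter (Matrix.ProjectiveSpecialLinearGroup (Fin 2) F),
      p ∣ Cfsg.charDegree (χ : Matrix.ProjectiveSpecialLinearGroup (Fin 2) F → ℂ) →
      (fun g => (χ : Matrix.ProjectiveSpecialLinearGroup (Fin 2) F → ℂ) (QuotientGroup.mk' Z g)) = st ∧
      Cfsg.charDegree (χ : Matrix.ProjectiveSpecialLinearGroup (Fin 2) F → ℂ) = Fintype.card F := by
    intro χ hd
    have hirr := isIrrCharacter_comp_surjective χ.2 (QuotientGroup.mk' Z) (QuotientGroup.mk'_surjective Z)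
    have hdeg : Cfsg.charDegree (fun g => (χ : Matrix.ProjectiveSpecialLinearGroup (Fin 2) F → ℂ) (QuotientGroup.mk' Z g)) =
        Cfsg.charDegree (χ : Matrix.ProjectiveSpecialLinearGroup (Fin 2) F → ℂ) := by
      simp [Cfsg.charDegree]
    rcases charDegree_cases hirr with h | ⟨e, h⟩ | h | h | h | h
    · exact absurd (hdeg ▸ hd) (hn1 _ (by tauto))
    · exact ⟨e, hdeg ▸ h⟩
    all_goals exact absurd (hdeg ▸ hd) (hn1 _ (by tauto))
  refine ⟨?_, fun χ hd => (key χ hd).2⟩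
  obtain ⟨ψ, hψ, e⟩ := exists_quotient_irr Z (isIrr_st (F := F)) fun z hz => st_center hz
  refine Nat.card_eq_one_iff_unique.mpr ⟨⟨fun a b => ?_⟩, ⟨⟨⟨ψ, hψ⟩, ?_⟩⟩⟩
  · refine Subtype.ext (Subtype.ext (funext fun x => ?_))
    obtain ⟨g, rfl⟩ := QuotientGroup.mk'_surjective Z x
    exact congrFun ((key a.1 a.2).1.trans (key b.1 b.2).1.symm) g
  · have h1 : ψ 1 = (Fintype.card F : ℂ) := by
      have := congrFun e 1
      rw [st_one] at this
      exact this.symm
    show p ∣ Cfsg.charDegree ψ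
    rw [charDegree_of_eq h1]
    exact hpq

end Cfsg.Agent.S4765
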