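import Cfsg.Statements.S5134
import Cfsg.Agent.Lib.Fusion.Factor
-- import your own Cfsg.Agent.* helpers here

set_option autoImplicit false
open Cfsg

namespace Cfsg.Agent.S5134

/-- Let F be a saturated fusion system over a finite p-group S, S₀ a subgroup strongly closed in F, and E the factor system of F modulo S₀ read through θ (a homomorphism on S with kernel S₀ and image the group of E). Then θ is a surjective morphism of fusion systems from F onto E: in particular every map of F, and not only the maps whose source contains S₀, induces along θ a map of E. -/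
theorem result {Ω : Type*} [Group Ω] {S : Subgroup Ω} [Finite S] (p : ℕ) [Fact p.Prime] (hS : IsPGroup p S) (F : Cfsg.FusionSystem S) (hF : F.IsSaturated p) (S₀ : Subgroup Ω) (hS₀ : F.StronglyClosed S₀) {Ω' : Type*} [Group Ω'] {S' : Subgroup Ω'} (θ : S →* Ω') (E : Cfsg.FusionSystem S') (hE : F.IsFactorSystem S₀ θ E) : F.IsSurjectiveMorphism E θ := by
  obtain ⟨hle, hker, hr, hE'⟩ := hE
  refine ⟨⟨fun s => hr.le ⟨s, rfl⟩, fun P φ hφ => ?_⟩, hr, fun P' hP' φ' hφ' => ((hE' P' φ').mp hφ').2⟩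
  obtain ⟨ψ, hψ, hψe⟩ := hF.exists_congr_mod hS hS₀ hφ
  have hPS : P ≤ S := F.source_le hφ
  have himg : Cfsg.FusionSystem.imageAlong θ P ≤ S' := by
    rintro _ ⟨s, -, rfl⟩
    exact hr.le ⟨s, rfl⟩
  obtain ⟨φ', hX, hψS, hmem, hφ'⟩ := Cfsg.FusionSystem.exists_inducedAlong hker hS₀ hψ
  have himg' : Cfsg.FusionSystem.imageAlong θ P ≤ Cfsg.FusionSystem.imageAlong θ (P ⊔ S₀) :=
    Subgroup.map_mono (fun x hx => Subgroup.mem_sup_left hx)
  have hpre : Cfsg.FusionSystem.preimageAlong θ (Cfsg.FusionSystem.imageAlong θ P) ≤ P ⊔ S₀ := by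
    intro z hz
    obtain ⟨hzS, w, hw, hwz⟩ := Cfsg.FusionSystem.mem_preimageAlong.mp hz
    have h1 : ((w : S) : Ω)⁻¹ * z ∈ S₀ := (hker (w⁻¹ * ⟨z, hzS⟩)).mp (by
      rw [map_mul, map_inv, hwz, inv_mul_cancel])
    have := Subgroup.mul_mem_sup (show (w : Ω) ∈ P from hw) h1
    rwa [mul_inv_cancel_left] at this
  refine ⟨φ'.comp (Subgroup.inclusion himg'), (hE' _ _).mpr ⟨himg, _, F.restrict_mem hψ hpre,
    Cfsg.FusionSystem.preimageAlong_le, F.apply_mem (F.restrict_mem hψ hpre),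
    fun x => (Cfsg.FusionSystem.mem_preimageAlong.mp x.2).2, fun x => ?_⟩, hPS, F.apply_mem hφ,
    fun x => ⟨Subgroup.inclusion hPS x, x.2, rfl⟩, fun x => ?_⟩
  · exact hφ' (Subgroup.inclusion hpre x)
  · refine (hφ' ⟨x, Subgroup.mem_sup_left x.2⟩).trans ?_
    rw [← inv_mul_eq_one, ← map_inv, ← map_mul]
    exact (hker _).mpr (hψe x)

end Cfsg.Agent.S5134
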