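import Cfsg.Statements.S2925
import Cfsg.Agent.Lib.Comp.LayerMore

set_option autoImplicit false
set_option linter.unusedVariables false
open Cfsg
open scoped commutatorElement

namespace Cfsg.Agent.S2925


universe u

theorem sylow_inf_subnormal {X : Type u} [Group X] [Finite X] {p : ℕ} [Fact p.Prime] {K : Subgroup X}
    (hK : K.IsSubnormal) (T : Sylow p X) : ¬ p ∣ ((T : Subgroup X) ⊓ K).relIndex K := by
  induction hn : Nat.card X using Nat.strong_induction_on generalizing X with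
  | h n ih =>
    subst hn
    rcases hK.lt_normal with rfl | ⟨M, hM, hKM, hMlt⟩
    · rw [inf_top_eq, Subgroup.relIndex_top_right]
      exact T.not_dvd_index
    · have hdvd : ¬ p ∣ ((T : Subgroup X).subgroupOf M).index := by
        obtain ⟨P⟩ : Nonempty (Sylow p ↥M) := inferInstance
        obtain ⟨T₁, hT₁⟩ := (P.2.map M.subtype).exists_le_sylow
        obtain ⟨g, hg⟩ := MulAction.exists_smul_eq X T₁ T
        have hle : ((P : Subgroup ↥M).map M.subtype).map (MulAut.conj g).toMonoidHom ≤ (T : Subgroup X) ⊓ M := by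
          rintro _ ⟨_, ⟨z, hz, rfl⟩, rfl⟩
          refine Subgroup.mem_inf.mpr ⟨?_, hM.conj_mem _ z.2 g⟩
          rw [← hg, Sylow.coe_subgroup_smul]
          exact Subgroup.smul_mem_pointwise_smul _ _ _ (hT₁ ⟨z, hz, rfl⟩)
        have h2 := Subgroup.card_le_of_le hle
        rw [Subgroup.card_map_of_injective (MulAut.conj g).injective,
          Subgroup.card_map_of_injective M.subtype_injective] at h2
        have hp' := (T.isPGroup'.comap_of_injective M.subtype M.subtype_injective)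
        obtain ⟨Q, hQ⟩ := hp'.exists_le_sylow
        have e : ((T : Subgroup X).subgroupOf M) = (Q : Subgroup ↥M) := by
          refine Subgroup.eq_of_le_of_card_ge hQ ?_
          rw [Q.card_eq_multiplicity, ← P.card_eq_multiplicity]
          refine h2.trans (le_of_eq ?_)
          rw [← Subgroup.card_map_of_injective (K := (T : Subgroup X).subgroupOf M) M.subtype_injective,
            Subgroup.subgroupOf_map_subtype]
        rw [e]
        exact Q.not_dvd_index
      set T' : Sylow p ↥M := ((T.isPGroup'.comap_of_injective M.subtype M.subtype_injective).toSylow hdvd) with hT'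
      have h1 := ih _ (CfsgLib.card_lt_of_lt_top hMlt) (hK.subgroupOf (K := M)) T' rfl
      intro h
      refine h1 ?_
      have e : ((T' : Subgroup ↥M) ⊓ K.subgroupOf M).relIndex (K.subgroupOf M) = ((T : Subgroup X) ⊓ K).relIndex K := by
        have e1 : (T' : Subgroup ↥M) ⊓ K.subgroupOf M = ((T : Subgroup X) ⊓ K).subgroupOf M := rfl
        rw [e1, Subgroup.relIndex_subgroupOf hKM]
      rwa [e]

/-- Let K be a component of the finite group X and T a Sylow 2-subgroup of X. If some abelian normal subgroup Y of T does not normalize K, then K ⧸ Z(K) has abelian Sylow 2-subgroups. -/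
theorem result {X : Type*} [Group X] [Finite X] (K : Subgroup X) (hK : Cfsg.IsComponent K) (T : Sylow 2 X) (Y : Subgroup X) (hYT : Y ≤ (T : Subgroup X)) (hYn : (Y.subgroupOf (T : Subgroup X)).Normal) (hYab : IsMulCommutative ↥Y) (hnot : ¬ Y ≤ Subgroup.normalizer (K : Set X)) (P : Sylow 2 (↥K ⧸ Subgroup.center ↥K)) : IsMulCommutative ↥(P : Subgroup (↥K ⧸ Subgroup.center ↥K)) := by
  set S := (T : Subgroup X) ⊓ K with hS
  set f := QuotientGroup.mk' (Subgroup.center ↥K) with hf
  obtain ⟨y, hy, hyK⟩ := SetLike.not_le_iff_exists.mp hnot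
  set Ky := K.map (MulAut.conj y).toMonoidHom with hKy
  have hne : K ≠ Ky := fun e => hyK (by
    rw [Subgroup.mem_normalizer_iff]
    intro z
    conv_rhs => rw [e]
    exact (Subgroup.mem_map_iff_mem (MulAut.conj y).injective).symm)
  have hcomm : ⁅K, Ky⁆ = ⊥ := (CfsgLib.components_eq_or_commute hK
    (CfsgLib.isComponent_map_equiv (MulAut.conj y) hK)).resolve_left hne
  have hcYT : ∀ s ∈ S, s * (y * s⁻¹ * y⁻¹) ∈ Y := fun s hs => by
    have h1 : s * y * s⁻¹ ∈ Y :=
      (Subgroup.mem_normalizer_iff.mp ((Subgroup.normal_subgroupOf_iff_le_normalizer hYT).mp hYn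
        (Subgroup.mem_inf.mp hs).1) y).mp hy
    have := Y.mul_mem h1 (Y.inv_mem hy)
    simpa [mul_assoc] using this
  have hab : ∀ s ∈ S, ∀ t ∈ S, ∀ k ∈ K, (s * t * s⁻¹ * t⁻¹) * k = k * (s * t * s⁻¹ * t⁻¹) := by
    intro s hs t ht k hk
    have h1 : s * (y * s⁻¹ * y⁻¹) * (t * (y * t⁻¹ * y⁻¹)) = t * (y * t⁻¹ * y⁻¹) * (s * (y * s⁻¹ * y⁻¹)) :=
      congrArg Subtype.val (hYab.is_comm.comm ⟨_, hcYT s hs⟩ ⟨_, hcYT t ht⟩)
    set s' := y * s⁻¹ * y⁻¹ with hs'
    set t' := y * t⁻¹ * y⁻¹ with ht'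
    have hs'y : s' ∈ Ky := ⟨s⁻¹, K.inv_mem (Subgroup.mem_inf.mp hs).2, rfl⟩
    have ht'y : t' ∈ Ky := ⟨t⁻¹, K.inv_mem (Subgroup.mem_inf.mp ht).2, rfl⟩
    have c1 := CfsgLib.Comp.comm_of_commutator_eq_bot hcomm (Subgroup.mem_inf.mp ht).2 hs'y
    have c2 := CfsgLib.Comp.comm_of_commutator_eq_bot hcomm (Subgroup.mem_inf.mp hs).2 ht'y
    have h2 : s * t * (s' * t') = t * s * (t' * s') := by
      calc s * t * (s' * t') = s * (t * s') * t' := by group
        _ = s * (s' * t) * t' := by rw [c1]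
        _ = s * s' * (t * t') := by group
        _ = t * t' * (s * s') := h1
        _ = t * (t' * s) * s' := by group
        _ = t * (s * t') * s' := by rw [c2]
        _ = t * s * (t' * s') := by group
    have h3 : s * t * s⁻¹ * t⁻¹ ∈ Ky := by
      have h4 : (t * s)⁻¹ * (s * t) = t' * s' * (s' * t')⁻¹ := by
        calc (t * s)⁻¹ * (s * t) = (t * s)⁻¹ * (s * t * (s' * t')) * (s' * t')⁻¹ := by group
          _ = (t * s)⁻¹ * (t * s * (t' * s')) * (s' * t')⁻¹ := by rw [h2]
          _ = t' * s' * (s' * t')⁻¹ := by group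
      have h5 : (t * s)⁻¹ * (s * t) ∈ Ky := by
        rw [h4]; exact Ky.mul_mem (Ky.mul_mem ht'y hs'y) (Ky.inv_mem (Ky.mul_mem hs'y ht'y))
      have hc : (t * s) * ((t * s)⁻¹ * (s * t)) = ((t * s)⁻¹ * (s * t)) * (t * s) :=
        CfsgLib.Comp.comm_of_commutator_eq_bot hcomm (K.mul_mem (Subgroup.mem_inf.mp ht).2 (Subgroup.mem_inf.mp hs).2) h5
      have e : s * t * s⁻¹ * t⁻¹ = (t * s) * ((t * s)⁻¹ * (s * t)) * (t * s)⁻¹ := by group
      rw [e, hc, mul_inv_cancel_right]
      exact h5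
    exact (CfsgLib.Comp.comm_of_commutator_eq_bot hcomm hk h3).symm
  have hSK : S ≤ K := inf_le_right
  have hSp : IsPGroup 2 ↥(S.subgroupOf K) :=
    (T.isPGroup'.to_le (inf_le_left : S ≤ (T : Subgroup X))).comap_of_injective K.subtype K.subtype_injective
  set S₀ : Sylow 2 ↥K := hSp.toSylow (sylow_inf_subnormal hK.1 T) with hS₀
  have hsurj : Function.Surjective f := QuotientGroup.mk'_surjective _
  obtain ⟨g, hg⟩ := MulAction.exists_smul_eq (↥K ⧸ Subgroup.center ↥K) P (S₀.mapSurjective hsurj)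
  have hcom : ∀ q ∈ (S₀.mapSurjective hsurj : Subgroup (↥K ⧸ Subgroup.center ↥K)),
      ∀ r ∈ (S₀.mapSurjective hsurj : Subgroup (↥K ⧸ Subgroup.center ↥K)), q * r = r * q := by
    rw [Sylow.coe_mapSurjective]
    rintro _ ⟨q, hq, rfl⟩ _ ⟨r, hr, rfl⟩
    rw [← commutatorElement_eq_one_iff_mul_comm, ← map_commutatorElement, hf, QuotientGroup.mk'_apply,
      QuotientGroup.eq_one_iff, Subgroup.mem_center_iff]
    intro k
    exact Subtype.ext (hab q hq r hr k k.2).symm
  refine ⟨⟨fun q r => Subtype.ext ?_⟩⟩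
  have hm : ∀ q : ↥(P : Subgroup (↥K ⧸ Subgroup.center ↥K)),
      (MulAut.conj g) (q : ↥K ⧸ Subgroup.center ↥K) ∈ (S₀.mapSurjective hsurj : Subgroup (↥K ⧸ Subgroup.center ↥K)) := by
    intro q
    rw [← hg, Sylow.coe_subgroup_smul]
    exact Subgroup.smul_mem_pointwise_smul _ _ _ q.2
  refine (MulAut.conj g).injective ?_
  show (MulAut.conj g) ((q : ↥K ⧸ Subgroup.center ↥K) * r) = (MulAut.conj g) ((r : ↥K ⧸ Subgroup.center ↥K) * q)
  rw [map_mul, map_mul]
  exact hcom _ (hm q) _ (hm r)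

end Cfsg.Agent.S2925
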