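import Cfsg.Statements.S3184
import Mathlib
import Cfsg.Agent.Lib.ZStar.Main

set_option autoImplicit false
open Cfsg

open scoped Pointwise

namespace Cfsg.Agent.S3184

theorem sylow_smul_eq_self {G : Type*} [Group G] {p : ℕ} {S : Sylow p G} {k : G} (hk : k • S = S) :
    k ∈ Subgroup.normalizer ((S : Subgroup G) : Set G) :=
  Sylow.smul_eq_iff_mem_normalizer.1 hk

/-- Let G be a finite group in which the intersection of any two distinct Sylow 2-subgroups is contained in the centre of some Sylow 2-subgroup, and let S be a Sylow 2-subgroup. If C is a nontrivial cyclic characteristic subgroup of S, then the involution of C is central modulo the largest normal subgroup of odd order of G: each of its conjugates has the same image in G/O(G). -/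
theorem result {G : Type*} [Group G] [Finite G]
    (hCI : ∀ S T : Sylow 2 G, S ≠ T → ∃ U : Sylow 2 G,
      (S : Subgroup G) ⊓ (T : Subgroup G) ≤ (Subgroup.center ↥(U : Subgroup G)).map (U : Subgroup G).subtype)
    (S : Sylow 2 G) (C : Subgroup ↥(S : Subgroup G)) (hC : C ≠ ⊥) (hCc : IsCyclic ↥C) (hCh : C.Characteristic)
    (c : ↥(S : Subgroup G)) (hc : c ∈ C) (hc2 : orderOf c = 2) :
    ∀ g : G, (QuotientGroup.mk (s := Cfsg.oddCore G) (g * (c : G) * g⁻¹)) =
      QuotientGroup.mk (s := Cfsg.oddCore G) (c : G) := by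
  classical
  haveI : Fact (Nat.Prime 2) := ⟨Nat.prime_two⟩
  have hc1 : c ≠ 1 := fun e => by rw [e, orderOf_one] at hc2; norm_num at hc2
  -- the involution of C is fixed by every automorphism of S
  have hauto : ∀ φ : ↥(S : Subgroup G) ≃* ↥(S : Subgroup G), φ c = c := by
    intro φ
    have h1 : φ c ∈ C := by
      have h := hCh.fixed φ
      rw [← h] at hc; exact hc
    have h2 : orderOf (φ c) = 2 := by rw [MulEquiv.orderOf_eq, hc2]
    haveI := hCc
    haveI := Fintype.ofFinite ↥C
    have key := IsCyclic.card_pow_eq_one_le (α := ↥C) (n := 2) (by norm_num)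
    by_contra hne
    have hs : ({1, ⟨c, hc⟩, ⟨φ c, h1⟩} : Finset ↥C) ⊆
        Finset.univ.filter (fun a : ↥C => a ^ 2 = 1) := by
      intro a ha
      simp only [Finset.mem_insert, Finset.mem_singleton] at ha
      simp only [Finset.mem_filter, Finset.mem_univ, true_and]
      rcases ha with rfl | rfl | rfl
      · exact one_pow _
      · exact Subtype.ext (by
          push_cast
          exact (congrArg (c ^ ·) hc2.symm).trans (pow_orderOf_eq_one c))
      · exact Subtype.ext (by
          push_cast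
          exact (congrArg (φ c ^ ·) h2.symm).trans (pow_orderOf_eq_one (φ c)))
    have h3 := (Finset.card_le_card hs).trans key
    have hn1 : φ c ≠ 1 := fun e => by rw [e, orderOf_one] at h2; norm_num at h2
    rw [Finset.card_insert_of_notMem, Finset.card_insert_of_notMem, Finset.card_singleton] at h3
    · omega
    · rw [Finset.mem_singleton]
      exact fun e => hne (congrArg Subtype.val e).symm
    · simp only [Finset.mem_insert, Finset.mem_singleton]
      rintro (e | e)
      · exact hc1 (congrArg Subtype.val e).symm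
      · exact hn1 (congrArg Subtype.val e).symm
  -- normalizer of S fixes c
  have hN : ∀ k ∈ Subgroup.normalizer ((S : Subgroup G) : Set G), k * (c : G) * k⁻¹ = c := by
    intro k hk
    have hm : ∀ x : G, x ∈ (S : Subgroup G) ↔ k * x * k⁻¹ ∈ (S : Subgroup G) :=
      Subgroup.mem_normalizer_iff.1 hk
    let φ : ↥(S : Subgroup G) ≃* ↥(S : Subgroup G) :=
      { toFun := fun x => ⟨k * x * k⁻¹, (hm x).1 x.2⟩
        invFun := fun x => ⟨k⁻¹ * x * k, (hm _).2 (by
          rw [show k * (k⁻¹ * (x : G) * k) * k⁻¹ = x by group]; exact x.2)⟩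
        left_inv := fun x => Subtype.ext (by simp only; group)
        right_inv := fun x => Subtype.ext (by simp only; group)
        map_mul' := fun x y => Subtype.ext (by push_cast; group) }
    exact congrArg Subtype.val (hauto φ)
  -- c is central in S
  have hcen : ∀ s ∈ (S : Subgroup G), Commute s (c : G) := fun s hs => by
    have h := hN s (Subgroup.le_normalizer hs)
    show s * (c : G) = c * s
    exact mul_inv_eq_iff_eq_mul.1 h
  have hiso : IsIsolated (c : G) := by
    refine CfsgLib.ZStar.isolated_of_sylow S (by rwa [Subgroup.orderOf_coe]) c.2 fun g hg => ?_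
    set c' := g * (c : G) * g⁻¹ with hc'
    -- a Sylow subgroup centralising c' and containing S ∩ C(c')
    have hTC : ((g • S : Sylow 2 G) : Subgroup G) ≤ Subgroup.centralizer ({c'} : Set G) := by
      intro x hx
      obtain ⟨s, hs, rfl⟩ : x ∈ MulAut.conj g • (S : Subgroup G) := hx
      rw [Subgroup.mem_centralizer_singleton_iff]
      show (MulAut.conj g • s) * c' = c' * (MulAut.conj g • s)
      rw [MulAut.smul_def, MulAut.conj_apply, hc']
      calc g * s * g⁻¹ * (g * (c : G) * g⁻¹) = g * (s * c) * g⁻¹ := by group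
        _ = g * ((c : G) * s) * g⁻¹ := by rw [(hcen s hs).eq]
        _ = g * (c : G) * g⁻¹ * (g * s * g⁻¹) := by group
    let H := Subgroup.centralizer ({c'} : Set G)
    let T₀ : Sylow 2 ↥H := (g • S : Sylow 2 G).subtype hTC
    have hR : IsPGroup 2 ↥((S : Subgroup G).subgroupOf H) :=
      S.isPGroup'.of_injective ((H.subtype.comp ((S : Subgroup G).subgroupOf H).subtype).codRestrict
        (S : Subgroup G) fun y => y.2) (fun a b h => by
          apply Subtype.ext; apply Subtype.ext
          exact (congrArg Subtype.val h :))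
    obtain ⟨T₁, hT₁⟩ := hR.exists_le_sylow
    obtain ⟨k, hk⟩ := MulAction.exists_smul_eq ↥H T₀ T₁
    let T : Sylow 2 G := ((k : G) * g) • S
    have hRT : ∀ x ∈ (S : Subgroup G), x * c' = c' * x → x ∈ (T : Subgroup G) := by
      intro x hxS hxc
      have hxH : x ∈ H := Subgroup.mem_centralizer_singleton_iff.2 hxc
      have h1 : (⟨x, hxH⟩ : ↥H) ∈ (T₁ : Subgroup ↥H) := hT₁ (show (⟨x, hxH⟩ : ↥H) ∈ _ from hxS)
      rw [← hk] at h1
      obtain ⟨y, hy, hyx⟩ : (⟨x, hxH⟩ : ↥H) ∈ MulAut.conj k • (T₀ : Subgroup ↥H) := h1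
      obtain ⟨s, hs, hsy⟩ : (y : G) ∈ MulAut.conj g • (S : Subgroup G) := hy
      show x ∈ MulAut.conj ((k : G) * g) • (S : Subgroup G)
      refine ⟨s, hs, ?_⟩
      have h2 := congrArg Subtype.val hyx
      simp only at h2
      show MulAut.conj ((k : G) * g) • s = x
      rw [map_mul, mul_smul, MulAut.smul_def]
      rw [show MulAut.conj g • s = (y : G) from hsy]
      exact h2
    have hkc : (k : G) * g * c * ((k : G) * g)⁻¹ = c' := by
      have h := Subgroup.mem_centralizer_singleton_iff.1 k.2
      calc (k : G) * g * c * ((k : G) * g)⁻¹ = (k : G) * c' * (k : G)⁻¹ := by rw [hc']; group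
        _ = c' := by rw [h]; group
    by_cases hTS : T = S
    · rw [← hkc]; exact hN _ (sylow_smul_eq_self hTS)
    obtain ⟨U, hU⟩ := hCI S T (fun e => hTS e.symm)
    obtain ⟨h, hh⟩ := MulAction.exists_smul_eq G S U
    have hUmem : ∀ x : G, x ∈ (S : Subgroup G) → h * x * h⁻¹ ∈ (U : Subgroup G) := fun x hx => by
      rw [← hh]; exact Subgroup.smul_mem_pointwise_smul x (MulAut.conj h) _ hx
    have hUinv : ∀ u ∈ (U : Subgroup G), h⁻¹ * u * h ∈ (S : Subgroup G) := fun u hu => by
      rw [← hh] at hu
      obtain ⟨s, hs, rfl⟩ : u ∈ MulAut.conj h • (S : Subgroup G) := hu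
      show h⁻¹ * (MulAut.conj h • s) * h ∈ _
      rw [MulAut.smul_def, MulAut.conj_apply, show h⁻¹ * (h * s * h⁻¹) * h = s by group]
      exact hs
    have hcU : h * (c : G) * h⁻¹ ∈ Subgroup.centralizer ((U : Subgroup G) : Set G) := by
      rw [Subgroup.mem_centralizer_iff]
      intro u hu
      have := (hcen _ (hUinv u hu)).eq
      calc u * (h * (c : G) * h⁻¹) = h * (h⁻¹ * u * h * c) * h⁻¹ := by group
        _ = h * ((c : G) * (h⁻¹ * u * h)) * h⁻¹ := by rw [this]
        _ = h * (c : G) * h⁻¹ * u := by group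
    -- Burnside fusion in C(U)
    have huniq : ∀ a : G, a * (c : G) * a⁻¹ ∈ Subgroup.centralizer ((U : Subgroup G) : Set G) →
        a * (c : G) * a⁻¹ = h * (c : G) * h⁻¹ := by
      intro a ha
      have e : (h * a⁻¹)⁻¹ * (h * (c : G) * h⁻¹) * (h * a⁻¹) = a * (c : G) * a⁻¹ := by group
      obtain ⟨m, hmN, hm⟩ := Sylow.conj_eq_normalizer_conj_of_mem_centralizer U
        (h * (c : G) * h⁻¹) (h * a⁻¹) hcU (by rw [e]; exact ha)
      rw [e] at hm
      rw [hm]
      have hn' : h⁻¹ * m⁻¹ * h ∈ Subgroup.normalizer ((S : Subgroup G) : Set G) := by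
        have hm' : m⁻¹ • U = U := Sylow.smul_eq_iff_mem_normalizer.2 (inv_mem hmN)
        apply sylow_smul_eq_self
        rw [mul_smul, mul_smul, hh, hm', ← hh, inv_smul_smul]
      have := hN _ hn'
      calc m⁻¹ * (h * (c : G) * h⁻¹) * m
          = h * (h⁻¹ * m⁻¹ * h * c * (h⁻¹ * m⁻¹ * h)⁻¹) * h⁻¹ := by group
        _ = h * (c : G) * h⁻¹ := by rw [this]
    have hZU : ∀ x ∈ (S : Subgroup G), x ∈ (T : Subgroup G) →
        x ∈ Subgroup.centralizer ((U : Subgroup G) : Set G) := by
      intro x hxS hxT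
      obtain ⟨z, hz, rfl⟩ := hU ⟨hxS, hxT⟩
      rw [Subgroup.mem_centralizer_iff]
      intro u hu
      exact congrArg Subtype.val (Subgroup.mem_center_iff.1 hz ⟨u, hu⟩)
    have h1 := huniq 1 (by
      rw [one_mul, inv_one, mul_one]
      exact hZU c c.2 (hRT c c.2 (hcen c' hg).eq.symm))
    have h2 := huniq g (hZU c' hg (hRT c' hg rfl))
    show g * (c : G) * g⁻¹ = c
    rw [h2, ← h1, one_mul, inv_one, mul_one]
  intro g
  rw [QuotientGroup.eq]
  have h := CfsgLib.ZStar.inZStar (by rwa [Subgroup.orderOf_coe]) hiso g⁻¹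
  have h' := (Subgroup.Normal.conj_mem (inferInstance : (Cfsg.oddCore G).Normal) _
    ((Cfsg.oddCore G).inv_mem (CfsgLib.ZStar.inZStar (by rwa [Subgroup.orderOf_coe]) hiso g)) ((c:G))⁻¹)
  convert h' using 1
  group

end Cfsg.Agent.S3184
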