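import Cfsg.Statements.S4040
import Mathlib
import Cfsg.Agent.Lib.ZJ.Complement
import Cfsg.Agent.Lib.Coprime
import Cfsg.Agent.Lib.PComplement
import Cfsg.Agent.Lib.NilpotentCommute
-- import your own Cfsg.Agent.* helpers here

set_option autoImplicit false
open Cfsg

namespace Cfsg.Agent.S4040

open scoped Pointwise

universe w

theorem isSolvable_of_nilpotent {A : Type w} [Group A] (h : Group.IsNilpotent A) : Group.IsSolvable A := by
  infer_instance

theorem main : ∀ (n : ℕ) (G : Type w) [Group G] [Finite G], Nat.card G = n → ∀ M : Subgroup G,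
    IsCoatom M → Group.IsNilpotent M → Odd (Nat.card M) → Group.IsSolvable G := by
  intro n
  induction n using Nat.strong_induction_on with
  | _ n ih =>
  intro G _ _ hn M hmax hnil hodd
  classical
  have hcore : ∀ C : Subgroup G, C.Normal → C ≤ M → C ≠ ⊥ → Group.IsSolvable G := by
    intro C hC hCM hne
    set f := QuotientGroup.mk' C
    have hs : Function.Surjective f := QuotientGroup.mk'_surjective C
    have hker : f.ker ≤ M := by rw [QuotientGroup.ker_mk']; exact hCM
    have hlt : Nat.card (G ⧸ C) < n := by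
      rw [← hn, ← C.card_mul_index, Subgroup.index]
      have h1 : 1 < Nat.card C := C.one_lt_card_iff_ne_bot.mpr hne
      have h2 : 0 < Nat.card (G ⧸ C) := Nat.card_pos
      nlinarith
    have hco : IsCoatom (M.map f) := by
      refine ⟨fun e => hmax.1 ?_, fun K hK => ?_⟩
      · rw [← Subgroup.comap_map_eq_self hker, e, Subgroup.comap_top]
      · rw [← Subgroup.map_comap_eq_self_of_surjective hs K, hmax.2 (K.comap f) ?_,
          Subgroup.map_top_of_surjective f hs]
        exact lt_of_le_of_ne (Subgroup.map_le_iff_le_comap.mp hK.le) fun e => hK.ne (by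
          rw [e, Subgroup.map_comap_eq_self_of_surjective hs])
    have hn' : Group.IsNilpotent (M.map f) :=
      Group.nilpotent_of_surjective (f.subgroupMap M) (f.subgroupMap_surjective M)
    have hodd' : Odd (Nat.card (M.map f)) :=
      hodd.of_dvd_nat (Subgroup.card_map_dvd M f)
    have h1 := ih _ hlt (G ⧸ C) rfl _ hco hn' hodd'
    have h2 : Group.IsSolvable C := by
      have : Group.IsNilpotent (C.subgroupOf M) := Subgroup.isNilpotent _
      exact isSolvable_of_nilpotent ((Group.isNilpotent_congr (Subgroup.subgroupOfEquivOfLe hCM)).mp this)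
    refine Group.isSolvable_of_ker_le_range C.subtype f ?_
    rw [QuotientGroup.ker_mk', Subgroup.range_subtype]
  by_contra hG
  have hMne : M ≠ ⊥ := by
    intro h
    subst h
    have : IsSimpleOrder (Subgroup G) := by
      have : Nontrivial (Subgroup G) := ⟨⊥, ⊤, hmax.1⟩
      refine ⟨fun K => ?_⟩
      rcases eq_or_ne K ⊥ with h | h
      · exact Or.inl h
      · exact Or.inr (hmax.2 K (bot_lt_iff_ne_bot.mpr h))
    refine hG ?_
    obtain ⟨x, hx⟩ : ∃ x : G, x ≠ 1 := by
      by_contra hc
      push Not at hc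
      exact hmax.1 (eq_top_iff.mpr fun y _ => (Subgroup.mem_bot).mpr (hc y))
    have htop : Subgroup.zpowers x = ⊤ :=
      (IsSimpleOrder.eq_bot_or_eq_top _).resolve_left (by simpa using hx)
    have : IsCyclic G := ⟨x, fun y => (htop ▸ Subgroup.mem_top y : y ∈ Subgroup.zpowers x)⟩
    let : CommGroup G := IsCyclic.commGroup
    infer_instance
  have hself : ∀ D : Subgroup G, D ≠ ⊥ → D ≤ M → M ≤ Subgroup.normalizer (D : Set G) →
      Subgroup.normalizer (D : Set G) = M := by
    intro D hD hDM hle
    refine (eq_or_lt_of_le hle).elim (fun e => e.symm) fun hlt => ?_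
    exact absurd (hcore D (Subgroup.normalizer_eq_top_iff.mp (hmax.2 _ hlt)) hDM hD) hG
  -- p-nilpotency for the prime divisors of the maximal subgroup
  have hpn : ∀ p : ℕ, ∀ [Fact p.Prime], p ∣ Nat.card M → Cfsg.HasNormalPComplement p G := by
    intro p _ hpM
    have hp : p.Prime := Fact.out
    have hp2 : p ≠ 2 := fun e => by
      subst e; exact absurd hodd (Nat.not_odd_iff_even.mpr (even_iff_two_dvd.mpr hpM))
    obtain ⟨S⟩ : Nonempty (Sylow p M) := inferInstance
    have hSn : (S : Subgroup M).Normal :=
      Sylow.normal_of_normalizerCondition Group.normalizerCondition_of_isNilpotent S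
    set P := (S : Subgroup M).map M.subtype with hPdef
    have hPp : IsPGroup p P := S.2.map _
    have hPne : P ≠ ⊥ := by
      intro e
      have h1 := congrArg (fun H : Subgroup G => Nat.card H) e
      rw [hPdef, Subgroup.card_map_of_injective M.subtype_injective, Subgroup.card_bot] at h1
      have h2 := S.dvd_card_of_dvd_card hpM
      rw [h1, Nat.dvd_one] at h2
      exact hp.ne_one h2
    have hMP : M ≤ Subgroup.normalizer (P : Set G) := by
      intro m hm
      rw [Subgroup.mem_normalizer_iff]
      intro z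
      constructor
      · rintro ⟨w, hw, rfl⟩
        exact ⟨⟨m, hm⟩ * w * ⟨m, hm⟩⁻¹, hSn.conj_mem w hw _, rfl⟩
      · rintro ⟨w, hw, e⟩
        refine ⟨⟨m, hm⟩⁻¹ * w * ⟨m, hm⟩, ?_, ?_⟩
        · have := hSn.conj_mem w hw (⟨m, hm⟩ : M)⁻¹
          rw [inv_inv] at this
          exact this
        · show m⁻¹ * (w : G) * m = z
          simp only [Subgroup.coe_subtype] at e
          rw [e]; group
    have hNP := hself P hPne (Subgroup.map_subtype_le _) hMP
    -- P is a Sylow subgroup of G
    obtain ⟨T, hT⟩ := hPp.exists_le_sylow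
    have hPT : P = (T : Subgroup G) := by
      by_contra hne
      have := T.2.isNilpotent
      have hlt := Group.normalizerCondition_of_isNilpotent (P.subgroupOf (T : Subgroup G))
        (lt_top_iff_ne_top.mpr fun e => hne (le_antisymm hT (Subgroup.subgroupOf_eq_top.mp e)))
      obtain ⟨x, hx, hxP⟩ := SetLike.exists_of_lt hlt
      have hxN : (x : G) ∈ Subgroup.normalizer (P : Set G) := by
        rw [Subgroup.mem_normalizer_iff]
        intro z
        rw [Subgroup.mem_normalizer_iff] at hx
        constructor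
        · intro hz
          exact (hx ⟨z, hT hz⟩).mp hz
        · intro hz
          have hzT : z ∈ (T : Subgroup G) := by
            simpa [mul_assoc] using mul_mem (mul_mem (inv_mem x.2) (hT hz)) x.2
          exact (hx ⟨z, hzT⟩).mpr hz
      rw [hNP] at hxN
      have hXp : IsPGroup p ((T : Subgroup G).subgroupOf M) :=
        T.2.comap_of_injective _ M.subtype_injective
      have hle : (S : Subgroup M) ≤ (T : Subgroup G).subgroupOf M := fun y hy => hT ⟨y, hy, rfl⟩
      have := S.3 hXp hle
      exact hxP ⟨⟨x, hxN⟩, this ▸ (x.2 : (x : G) ∈ (T : Subgroup G)), rfl⟩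
    have hz := CfsgLib.ZJ.zj_ne_bot (e := 0) (Or.inl rfl) T.2 (hPT ▸ hPne)
    have hzN : M ≤ Subgroup.normalizer (CfsgLib.ZJ.zj 0 (T : Subgroup G) : Set G) := by
      intro m hm
      have hmT : m ∈ Subgroup.normalizer ((T : Subgroup G) : Set G) := by rw [← hPT, hNP]; exact hm
      have e1 : MulAut.conj m • (T : Subgroup G) = (T : Subgroup G) := by
        ext z
        rw [Subgroup.mem_pointwise_smul_iff_inv_smul_mem, MulAut.smul_def, MulAut.inv_def,
          MulAut.conj_symm_apply]
        have := Subgroup.mem_normalizer_iff.mp hmT (m⁻¹ * z * m)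
        rw [show m * (m⁻¹ * z * m) * m⁻¹ = z by group] at this
        exact this
      have e2 := CfsgLib.ZJ.zj_conj 0 m (T : Subgroup G)
      rw [e1] at e2
      rw [Subgroup.mem_normalizer_iff]
      intro z
      conv_rhs => rw [e2, Subgroup.mem_pointwise_smul_iff_inv_smul_mem, MulAut.smul_def,
        MulAut.inv_def, MulAut.conj_symm_apply]
      simp [mul_assoc]
    refine CfsgLib.ZJ.hasNormalPComplement_of_normalizer_zj hp2 (e := 0) (Or.inl rfl) T ?_
    rw [hself _ hz ((CfsgLib.ZJ.zj_le 0 _).trans (hPT ▸ Subgroup.map_subtype_le _)) hzN]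
    exact CfsgLib.hasNormalPComplement_of_isNilpotent hnil
  -- the stable term of the derived series
  obtain ⟨_, ⟨⟨k, rfl⟩, hmin⟩⟩ := (Set.toFinite (Set.range (derivedSeries G))).exists_minimal
    (Set.range_nonempty _)
  set D := derivedSeries G k with hD
  have hperf : ⁅D, D⁆ = D := by
    refine le_antisymm (derivedSeries_antitone G k.le_succ) (hmin ⟨k + 1, rfl⟩ ?_)
    exact derivedSeries_antitone G k.le_succ
  have hDne : D ≠ ⊥ := fun e => hG ⟨⟨k, e⟩⟩
  have hDn : D.Normal := derivedSeries_normal G k
  have hDtop : D ⊔ M = ⊤ := by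
    refine hmax.2 _ (lt_of_le_of_ne le_sup_right fun e => ?_)
    exact hG (hcore D hDn (e ▸ le_sup_left) hDne)
  have hcop : (Nat.card M).Coprime (Nat.card D) := by
    refine Nat.coprime_of_dvd fun p hp hpM hpD => ?_
    have : Fact p.Prime := ⟨hp⟩
    have h := CfsgLib.isPGroup_quotient_of_hasNormalPComplement (hpn p hpM)
    have hs : Group.IsSolvable (G ⧸ Cfsg.pPrimeCore p G) := isSolvable_of_nilpotent h.isNilpotent
    obtain ⟨j, hj⟩ := hs.solvable
    have hDle : D ≤ Cfsg.pPrimeCore p G := by
      have h1 : derivedSeries G j ≤ Cfsg.pPrimeCore p G := by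
        have := map_derivedSeries_le_derivedSeries (QuotientGroup.mk' (Cfsg.pPrimeCore p G)) j
        rw [hj, le_bot_iff, Subgroup.map_eq_bot_iff, QuotientGroup.ker_mk'] at this
        exact this
      refine le_trans ?_ h1
      rcases le_total j k with hjk | hkj
      · exact derivedSeries_antitone G hjk
      · exact hmin ⟨j, rfl⟩ (derivedSeries_antitone G hkj)
    exact hp.coprime_iff_not_dvd.mp (CfsgLib.card_pPrimeCore_coprime p).symm
      (hpD.trans (Subgroup.card_dvd_of_le hDle))
  obtain ⟨q, hq, hqD⟩ := Nat.exists_prime_and_dvd (n := Nat.card D)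
    (fun e => hDne (Subgroup.card_eq_one.mp e))
  have : Fact q.Prime := ⟨hq⟩
  obtain ⟨Q, hQ⟩ := CfsgLib.coprime_exists_invariant_sylow (A := M) (K := D)
    (by rw [Subgroup.normalizer_eq_top]; exact le_top) hcop (Or.inl (isSolvable_of_nilpotent hnil)) q
  set Q' := (Q : Subgroup D).map D.subtype
  have hQne : Nat.card Q' ≠ 1 := by
    rw [Subgroup.card_map_of_injective D.subtype_injective]
    intro e
    have := Q.dvd_card_of_dvd_card hqD
    rw [e, Nat.dvd_one] at this
    exact hq.ne_one this
  have hQD : Q' ≤ D := Subgroup.map_subtype_le _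
  have htop : Q' ⊔ M = ⊤ := by
    refine hmax.2 _ (lt_of_le_of_ne le_sup_right fun e => hQne ?_)
    refine Nat.eq_one_of_dvd_coprimes hcop ?_ (Subgroup.card_dvd_of_le hQD)
    exact Subgroup.card_dvd_of_le (e ▸ le_sup_left)
  have hDQ : D ≤ Q' := by
    intro d hd
    obtain ⟨w, hw, m, hm, rfl⟩ := CfsgLib.mem_sup_of_le_normalizer hQ (htop ▸ Subgroup.mem_top d)
    have hmD : m ∈ D := by simpa using D.mul_mem (D.inv_mem (hQD hw)) hd
    have : m = 1 := by
      rw [← orderOf_eq_one_iff]
      exact Nat.eq_one_of_dvd_coprimes hcop (Subgroup.orderOf_dvd_natCard M hm)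
        (Subgroup.orderOf_dvd_natCard D hmD)
    rw [this, mul_one]
    exact hw
  have hDs : Group.IsSolvable D := isSolvable_of_nilpotent
    (((Q.2.map _).to_le hDQ).isNilpotent)
  obtain ⟨j, hj⟩ := hDs.solvable
  refine hDne ?_
  have hall : ∀ i, (derivedSeries D i).map D.subtype = D := by
    intro i
    induction i with
    | zero => simp [← MonoidHom.range_eq_map]
    | succ i ihi => rw [derivedSeries_succ, Subgroup.map_commutator, ihi, hperf]
  rw [← hall j, hj, Subgroup.map_bot]

/-- A finite group possessing a maximal subgroup that is nilpotent of odd order is solvable. -/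
theorem result {G : Type*} [Group G] [Finite G]
    (M : Subgroup G) (hmax : IsCoatom M) (hnil : Group.IsNilpotent M) (hodd : Odd (Nat.card M)) :
    Group.IsSolvable G := by
  exact main _ G rfl M hmax hnil hodd

end Cfsg.Agent.S4040
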