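import Cfsg.Statements.S0015
import Cfsg.Agent.Lib.Elementary

set_option autoImplicit false
open Cfsg

namespace Cfsg.Agent.S0015

/-- In a finite nilpotent group, an abelian normal subgroup that is maximal among abelian normal subgroups equals its own centralizer. -/
theorem result {G : Type*} [Group G] [Finite G] [Group.IsNilpotent G]
    (N : Subgroup G) [N.Normal] [IsMulCommutative N]
    (hmax : ∀ M : Subgroup G, M.Normal → IsMulCommutative M → N ≤ M → M = N) :
    Subgroup.centralizer (N : Set G) = N := by
  set C := Subgroup.centralizer (N : Set G) with hC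
  have hCn : C.Normal := Subgroup.normal_centralizer
  have hNC : N ≤ C := fun x hx y hy =>
    congrArg Subtype.val ((IsMulCommutative.is_comm (M := N)).comm ⟨y, hy⟩ ⟨x, hx⟩)
  refine le_antisymm ?_ hNC
  by_contra hne
  have hI : (C.map (QuotientGroup.mk' N)).Normal :=
    hCn.map _ (QuotientGroup.mk'_surjective _)
  have h0 : C.map (QuotientGroup.mk' N) ≠ ⊥ := by
    rw [Ne, Subgroup.map_eq_bot_iff, QuotientGroup.ker_mk']
    exact hne
  obtain ⟨z, hz, hz1⟩ := (Subgroup.bot_or_exists_ne_one _).resolve_left
    (CfsgLib.inf_center_ne_bot_of_nilpotent h0)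
  obtain ⟨⟨x, hxC, hxz⟩, hzc⟩ := hz
  let M := Subgroup.closure (insert x (N : Set G))
  have hNM : N ≤ M := fun y hy => Subgroup.subset_closure (Set.mem_insert_of_mem _ hy)
  have hxM : x ∈ M := Subgroup.subset_closure (Set.mem_insert _ _)
  have hMn : M.Normal := by
    refine ⟨fun m hm g => ?_⟩
    revert g
    induction hm using Subgroup.closure_induction with
    | mem y hy =>
      intro g
      rcases hy with hy | hy
      · rw [hy]
        have h1 : g * x * g⁻¹ * x⁻¹ ∈ N := by
          rw [← QuotientGroup.eq_one_iff]
          have hc : (g : G ⧸ N) * z = z * (g : G ⧸ N) := Subgroup.mem_center_iff.mp hzc _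
          rw [← hxz] at hc
          simp only [QuotientGroup.mk_mul, QuotientGroup.mk_inv]
          simp only [QuotientGroup.mk'_apply] at hc
          rw [hc]
          group
        have := M.mul_mem (hNM h1) hxM
        simpa using this
      · exact hNM ((inferInstance : N.Normal).conj_mem y hy g)
    | one => intro g; simp
    | mul a b _ _ ha hb =>
      intro g
      have := M.mul_mem (ha g) (hb g)
      simpa [mul_assoc] using this
    | inv a _ ha =>
      intro g
      have := M.inv_mem (ha g)
      simpa [mul_assoc] using this
  have hMc : IsMulCommutative M := by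
    refine Subgroup.isMulCommutative_closure ?_
    intro a ha b hb
    rcases ha with rfl | ha <;> rcases hb with rfl | hb
    · rfl
    · exact (hxC b hb).symm
    · exact hxC a ha
    · exact congrArg Subtype.val ((IsMulCommutative.is_comm (M := N)).comm ⟨a, ha⟩ ⟨b, hb⟩)
  have hMN := hmax M hMn hMc hNM
  rw [hMN] at hxM
  refine hz1 ?_
  rw [← hxz]
  exact (QuotientGroup.eq_one_iff x).mpr hxM

end Cfsg.Agent.S0015
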