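import Cfsg.Statements.S0646
import Cfsg.Agent.Lib.PGroup.CyclicMax

set_option autoImplicit false
open Cfsg
open scoped commutatorElement

namespace Cfsg.Agent.S0646

/-- Classification of non-abelian 2-groups with a cyclic maximal subgroup: dihedral, generalized quaternion, and for order at least 16 the modular group and the semidihedral group, each given by generators a (of index 2) and b with the stated relations. -/
theorem result {G : Type*} [Group G] [Finite G] (n : ℕ) (hn : 3 ≤ n) (hG : Nat.card G = 2 ^ n) (C : Subgroup G) (hC : IsCyclic C) (hCi : C.index = 2) (hna : ∃ x y : G, x * y ≠ y * x) : ∃ a b : G, orderOf a = 2 ^ (n - 1) ∧ b ∉ Subgroup.zpowers a ∧ ((b ^ 2 = 1 ∧ b * a * b⁻¹ = a⁻¹) ∨ (b ^ 2 = a ^ (2 ^ (n - 2)) ∧ b * a * b⁻¹ = a⁻¹) ∨ (4 ≤ n ∧ b ^ 2 = 1 ∧ b * a * b⁻¹ = a ^ (1 + 2 ^ (n - 2))) ∨ (4 ≤ n ∧ b ^ 2 = 1 ∧ b * a * b⁻¹ = a ^ (2 ^ (n - 2) - 1))) := by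
  have hR : IsPGroup 2 G := IsPGroup.of_card hG
  haveI : Fact (Nat.Prime 2) := ⟨Nat.prime_two⟩
  haveI := CfsgLib.CyclicMax.normal_of_index_prime hR hCi
  obtain ⟨a, ha⟩ := (Subgroup.isCyclic_iff_exists_zpowers_eq_top (H := C)).mp hC
  obtain ⟨b, hb⟩ : ∃ b, b ∉ C := by
    by_contra h
    push Not at h
    rw [Subgroup.index_eq_one.mpr (eq_top_iff.mpr fun x _ => h x)] at hCi
    omega
  obtain ⟨m, rfl⟩ : ∃ m, n = m + 3 := ⟨n - 3, by omega⟩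
  have hord : orderOf a = 2 ^ (m + 2) := by
    have h1 := C.card_mul_index
    rw [hCi, hG, ← ha, Nat.card_zpowers, pow_succ _ (m + 2)] at h1
    exact Nat.eq_of_mul_eq_mul_right two_pos h1
  simp only [show m + 3 - 1 = m + 2 from rfl, show m + 3 - 2 = m + 1 from rfl]
  have hz : ∀ i j : ℤ, a ^ i = a ^ j ↔ (2 : ℤ) ^ (m + 2) ∣ j - i := fun i j => by
    rw [zpow_eq_zpow_iff_modEq, Int.modEq_iff_dvd, hord]; norm_num
  obtain ⟨r, hr⟩ : ∃ r : ℤ, b * a * b⁻¹ = a ^ r := by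
    have h1 : b * a * b⁻¹ ∈ C := (inferInstance : C.Normal).conj_mem a (ha ▸ Subgroup.mem_zpowers a) b
    rw [← ha] at h1
    obtain ⟨r, hr⟩ := Subgroup.mem_zpowers_iff.mp h1
    exact ⟨r, hr.symm⟩
  obtain ⟨k, hk⟩ : ∃ k : ℤ, a ^ k = b ^ 2 := by
    have h1 : b ^ 2 ∈ C := by
      rw [← QuotientGroup.eq_one_iff, QuotientGroup.mk_pow, ← hCi, Subgroup.index_eq_card, pow_card_eq_one']
    rw [← ha] at h1
    exact Subgroup.mem_zpowers_iff.mp h1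
  have hconj : ∀ i : ℤ, b * a ^ i * b⁻¹ = a ^ (r * i) := fun i => by rw [zpow_mul, ← hr, conj_zpow]
  have hrr : (2 : ℤ) ^ (m + 2) ∣ r * r - 1 := by
    refine (hz 1 (r * r)).mp ?_
    calc a ^ (1 : ℤ) = b ^ 2 * a * (b ^ 2)⁻¹ := by rw [← hk]; group
      _ = b * (b * a * b⁻¹) * b⁻¹ := by rw [pow_two]; group
      _ = _ := by rw [hr, hconj]
  have hkr : (2 : ℤ) ^ (m + 2) ∣ r * k - k := by
    refine (hz k (r * k)).mp ?_
    rw [← hconj, hk]; group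
  have hr1 : ¬ (2 : ℤ) ^ (m + 2) ∣ r - 1 := by
    intro h
    have hab : Commute b a := by
      show b * a = a * b
      rw [← mul_inv_eq_iff_eq_mul, hr, (hz r 1).mpr (by rw [← dvd_neg]; simpa using h), zpow_one]
    obtain ⟨x, y, hxy⟩ := hna
    obtain ⟨i, j, rfl⟩ := CfsgLib.CyclicMax.exists_decomp hCi ha.symm hb x
    obtain ⟨k', l, rfl⟩ := CfsgLib.CyclicMax.exists_decomp hCi ha.symm hb y
    exact hxy ((((Commute.refl a).zpow_zpow i k').mul_left (hab.zpow_zpow j k')).mul_right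
      ((hab.symm.zpow_zpow i l).mul_left ((Commute.refl b).zpow_zpow j l))).eq
  have hrodd : ∃ t : ℤ, r = 2 * t + 1 := by
    obtain ⟨t, ht | ht⟩ := Int.even_or_odd' r
    · obtain ⟨c, hc⟩ := (dvd_pow_self (2 : ℤ) (show m + 2 ≠ 0 by omega)).trans hrr
      rw [ht, show 2 * t * (2 * t) = 2 * (2 * (t * t)) by ring] at hc
      omega
    · exact ⟨t, ht⟩
  have h2ne : (2 : ℤ) ≠ 0 := two_ne_zero
  obtain ⟨t, ht⟩ := hrodd
  -- shifting `b`
  have hbi : ∀ i : ℤ, (b * a ^ i) ^ 2 = a ^ (k + i * (r + 1)) ∧ b * a ^ i * a * (b * a ^ i)⁻¹ = a ^ r ∧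
      b * a ^ i ∉ Subgroup.zpowers a := fun i => by
    refine ⟨?_, ?_, fun h => hb ?_⟩
    · calc (b * a ^ i) ^ 2 = (b * a ^ i * b⁻¹) * b ^ 2 * a ^ i := by rw [pow_two, pow_two]; group
        _ = a ^ (r * i) * a ^ k * a ^ i := by rw [hconj, hk]
        _ = _ := by rw [← zpow_add, ← zpow_add]; congr 1; ring
    · rw [← hr]; group
    · rw [← ha]
      have := Subgroup.mul_mem _ h (Subgroup.inv_mem _ (Subgroup.zpow_mem _ (Subgroup.mem_zpowers a) i))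
      rwa [mul_inv_cancel_right] at this
  -- the possible values of `r`
  have hcases : (2 : ℤ) ^ (m + 2) ∣ r + 1 ∨ (1 ≤ m ∧ ((2 : ℤ) ^ (m + 2) ∣ r - (1 + 2 ^ (m + 1)) ∨
      (2 : ℤ) ^ (m + 2) ∣ r - (2 ^ (m + 1) - 1))) := by
    have h1 : (2 : ℤ) ^ m ∣ t * (t + 1) := by
      rw [ht, show (2 * t + 1) * (2 * t + 1) - 1 = t * (t + 1) * 2 ^ 2 by ring, pow_add] at hrr
      exact (mul_dvd_mul_iff_right (pow_ne_zero 2 h2ne)).mp hrr
    have hco : ∀ s : ℤ, ¬ (2 : ℤ) ∣ s → IsCoprime ((2 : ℤ) ^ m) s := fun s hs =>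
      ((Int.prime_two.coprime_iff_not_dvd).mpr hs).pow_left
    have hdisj : (2 : ℤ) ^ (m + 2) ∣ r - 1 ∨ (2 : ℤ) ^ (m + 2) ∣ r - (1 + 2 ^ (m + 1)) ∨
        (2 : ℤ) ^ (m + 2) ∣ r + 1 ∨ (2 : ℤ) ^ (m + 2) ∣ r - (2 ^ (m + 1) - 1) := by
      by_cases h : (2 : ℤ) ∣ t
      · obtain ⟨u, hu⟩ := (hco (t + 1) (by omega)).dvd_of_dvd_mul_right h1
        rcases Int.even_or_odd' u with ⟨w, hw | hw⟩
        · exact Or.inl ⟨w, by rw [ht, hu, hw]; ring⟩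
        · exact Or.inr (Or.inl ⟨w, by rw [ht, hu, hw]; ring⟩)
      · obtain ⟨u, hu⟩ := (hco t h).dvd_of_dvd_mul_left h1
        rcases Int.even_or_odd' u with ⟨w, hw | hw⟩
        · exact Or.inr (Or.inr (Or.inl ⟨w, by rw [ht, show t = 2 ^ m * u - 1 by omega, hw]; ring⟩))
        · exact Or.inr (Or.inr (Or.inr ⟨w, by rw [ht, show t = 2 ^ m * u - 1 by omega, hw]; ring⟩))
    rcases Nat.eq_zero_or_pos m with hm | hm
    · left
      subst hm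
      norm_num at hdisj hr1 ⊢
      omega
    · rcases hdisj with h | h | h | h
      · exact absurd h hr1
      · exact Or.inr ⟨hm, Or.inl h⟩
      · exact Or.inl h
      · exact Or.inr ⟨hm, Or.inr h⟩
  have hN : ∀ j : ℕ, a ^ j = a ^ (j : ℤ) := fun j => (zpow_natCast a j).symm
  rcases hcases with h | ⟨hm, h | h⟩
  · have hinv : b * a * b⁻¹ = a⁻¹ := by
      rw [hr, (hz r (-1)).mpr (by rw [show (-1 : ℤ) - r = -(r + 1) by ring, dvd_neg]; exact h), zpow_neg_one]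
    have h2 : (2 : ℤ) ^ (m + 1) ∣ k := by
      have h3 : (2 : ℤ) ^ (m + 2) ∣ 2 * k := by
        have := dvd_sub (h.mul_right k) hkr
        rwa [show (r + 1) * k - (r * k - k) = 2 * k by ring] at this
      rw [pow_succ'] at h3
      exact (mul_dvd_mul_iff_left h2ne).mp h3
    obtain ⟨w, hw⟩ := h2
    refine ⟨a, b, hord, ha ▸ hb, ?_⟩
    rcases Int.even_or_odd' w with ⟨v, hv | hv⟩
    · refine Or.inl ⟨?_, hinv⟩
      rw [← hk, (hz k 0).mpr ⟨-v, by rw [hw, hv]; ring⟩, zpow_zero]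
    · refine Or.inr (Or.inl ⟨?_, hinv⟩)
      rw [← hk, hN, (hz k ((2 ^ (m + 1) : ℕ) : ℤ)).mpr ⟨-v, by rw [hw, hv]; push_cast; ring⟩]
  · obtain ⟨m', rfl⟩ : ∃ m', m = m' + 1 := ⟨m - 1, by omega⟩
    obtain ⟨w, hw⟩ := h
    obtain ⟨l, hl⟩ := hkr
    rw [show r * k - k = (r - 1) * k by ring, show r - 1 = 2 ^ (m' + 2) * (2 * w + 1) by rw [pow_succ _ (m' + 2)] at hw; linarith] at hl
    have hkeven : ∃ k', k = 2 * k' := by
      obtain ⟨k', hk' | hk'⟩ := Int.even_or_odd' k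
      · exact ⟨k', hk'⟩
      · exfalso
        rw [show (2 : ℤ) ^ (m' + 1 + 2) = 2 ^ (m' + 2) * 2 by ring, mul_assoc, mul_assoc,
          mul_right_inj' (pow_ne_zero _ h2ne), hk', show (2 * w + 1) * (2 * k' + 1) = 2 * (2 * w * k' + w + k') + 1 by ring] at hl
        omega
    obtain ⟨k', hk'⟩ := hkeven
    -- `r + 1 = 2 * u` with `u` odd
    obtain ⟨u, hu, hucop⟩ : ∃ u : ℤ, r + 1 = 2 * u ∧ IsCoprime u ((2 : ℤ) ^ (m' + 1 + 2)) := by
      refine ⟨1 + 2 ^ (m' + 1) * (1 + 2 * w), by linear_combination hw, ?_⟩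
      refine ((Int.prime_two.coprime_iff_not_dvd).mpr fun hd => ?_).symm.pow_right
      rw [pow_succ', mul_assoc] at hd
      omega
    obtain ⟨x, y, hxy⟩ := hucop
    obtain ⟨h1, h2, h3⟩ := hbi (-k' * x)
    refine ⟨a, b * a ^ (-k' * x), hord, h3, Or.inr (Or.inr (Or.inl ⟨by omega, ?_, ?_⟩))⟩
    · rw [h1, (hz _ 0).mpr ⟨-2 * k' * y, by rw [hu, hk']; linear_combination (2 * k') * hxy⟩, zpow_zero]
    · rw [h2, hN, (hz r ((1 + 2 ^ (m' + 1 + 1) : ℕ) : ℤ)).mpr ⟨-w, by push_cast; linear_combination (-1) * hw⟩]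
  · obtain ⟨m', rfl⟩ : ∃ m', m = m' + 1 := ⟨m - 1, by omega⟩
    obtain ⟨w, hw⟩ := h
    obtain ⟨l, hl⟩ := hkr
    have hk2 : (2 : ℤ) ^ (m' + 2) ∣ k := by
      obtain ⟨u, hu, hun⟩ : ∃ u : ℤ, r - 1 = 2 * u ∧ ¬ (2 : ℤ) ∣ u := by
        refine ⟨2 ^ (m' + 1) * (1 + 2 * w) - 1, by linear_combination hw, fun hd => ?_⟩
        rw [pow_succ', mul_assoc] at hd
        omega
      refine IsCoprime.dvd_of_dvd_mul_left (((Int.prime_two.coprime_iff_not_dvd).mpr hun).pow_left) ?_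
      refine ⟨l, ?_⟩
      rw [show r * k - k = 2 * u * k by linear_combination k * hu, show (2 : ℤ) ^ (m' + 1 + 2) = 2 * 2 ^ (m' + 2) by ring,
        mul_assoc, mul_assoc, mul_right_inj' h2ne] at hl
      exact hl
    obtain ⟨v, hv⟩ := hk2
    obtain ⟨h1, h2, h3⟩ := hbi v
    refine ⟨a, b * a ^ v, hord, h3, Or.inr (Or.inr (Or.inr ⟨by omega, ?_, ?_⟩))⟩
    · rw [h1, (hz _ 0).mpr ⟨-v * (w + 1), by linear_combination (-1) * hv + (-v) * hw⟩, zpow_zero]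
    · have e : ((2 ^ (m' + 1 + 1) - 1 : ℕ) : ℤ) = 2 ^ (m' + 1 + 1) - 1 := by
        rw [Nat.cast_sub (Nat.one_le_two_pow)]; push_cast; ring
      rw [h2, hN, e, (hz r (2 ^ (m' + 1 + 1) - 1)).mpr ⟨-w, by linear_combination (-1) * hw⟩]

end Cfsg.Agent.S0646
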