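import Cfsg.Statements.S0519
import Cfsg.Agent.Lib.Metacyclic
import Cfsg.Agent.Lib.OrthBinary
import Cfsg.Agent.Lib.QuatHom
import Cfsg.Agent.S0015
import Cfsg.Agent.S0127
import Cfsg.Agent.S0646
-- import your own Cfsg.Agent.* helpers here

set_option autoImplicit false
open Cfsg

namespace Cfsg.Agent.S0519

/-- A normal subgroup of modular shape contains a normal noncyclic abelian subgroup. -/
theorem exists_four {P : Type*} [Group P] [Finite P] {q : ℕ} {a x : P} (ha : orderOf a = 2 ^ (q + 3))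
    (hx : x * a * x⁻¹ = a ^ (1 + 2 ^ (q + 2))) (hx2 : x * x ∈ Subgroup.zpowers a)
    (hxA : x ∉ Subgroup.zpowers a) [(Subgroup.zpowers a).Normal]
    (hT : ∀ g : P, g * x * g⁻¹ * x⁻¹ ∈ Subgroup.zpowers a) :
    ∃ E : Subgroup P, E.Normal ∧ IsMulCommutative E ∧ ¬ IsCyclic E := by
  classical
  obtain ⟨j, hj⟩ := mem_powers_iff_mem_zpowers.2 hx2
  have hj' : a ^ j = x * x := hj
  have hconjpow : ∀ k : ℕ, x * a ^ k * x⁻¹ = a ^ (k * (1 + 2 ^ (q + 2))) := fun k => by
    rw [← conj_pow, hx, ← pow_mul, mul_comm]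
  have ha0 : ∀ k : ℕ, a ^ k = 1 ↔ 2 ^ (q + 3) ∣ k := fun k => by rw [← orderOf_dvd_iff_pow_eq_one, ha]
  obtain ⟨i, hi⟩ : 2 ∣ j := by
    have h1 : a ^ (j * (1 + 2 ^ (q + 2))) = a ^ j := by
      rw [← hconjpow, hj']; group
    rw [mul_add, mul_one, pow_add, mul_eq_left, ha0, show 2 ^ (q + 3) = 2 * 2 ^ (q + 2) by ring] at h1
    exact (Nat.mul_dvd_mul_iff_right (Nat.two_pow_pos _)).1 h1
  obtain ⟨k, hk⟩ : ∃ k : ℕ, 2 ^ (q + 2) ∣ k * (1 + 2 ^ (q + 1)) + i := by
    refine ⟨((-(i : ZMod (2 ^ (q + 2)))) * ((1 + 2 ^ (q + 1) : ℕ) : ZMod (2 ^ (q + 2)))⁻¹).val, ?_⟩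
    rw [← ZMod.natCast_eq_zero_iff, Nat.cast_add, Nat.cast_mul, ZMod.natCast_zmod_val, mul_assoc,
      ZMod.inv_mul_of_unit _ ((ZMod.isUnit_iff_coprime _ _).2 ?_), mul_one, neg_add_cancel]
    exact ((Nat.coprime_two_right).2 (Nat.odd_iff.2 (by
      rw [pow_succ]; omega))).pow_right _
  have hsq : ∀ l : ℕ, a ^ l * x * (a ^ l * x) = a ^ (2 * (l * (1 + 2 ^ (q + 1))) + 2 * i) := by
    intro l
    calc a ^ l * x * (a ^ l * x) = a ^ l * (x * a ^ l * x⁻¹) * (x * x) := by group
      _ = a ^ (l + l * (1 + 2 ^ (q + 2)) + j) := by rw [hconjpow, ← hj', ← pow_add, ← pow_add]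
      _ = _ := by rw [hi]; congr 1; ring
  obtain ⟨v, hv⟩ : ∃ v : P, v = a ^ k * x := ⟨_, rfl⟩
  have hv2 : v * v = 1 := by
    rw [hv, hsq, ha0, ← mul_add, show 2 ^ (q + 3) = 2 * 2 ^ (q + 2) by ring]
    exact mul_dvd_mul_left 2 hk
  have hvA : v ∉ Subgroup.zpowers a := by
    intro h
    rw [hv] at h
    exact hxA ((Subgroup.mul_mem_cancel_left _ (pow_mem (Subgroup.mem_zpowers a) k)).1 h)
  obtain ⟨z, hz⟩ : ∃ z : P, z = a ^ 2 ^ (q + 2) := ⟨_, rfl⟩
  have hz2 : z * z = 1 := by rw [hz, ← pow_add, ha0]; exact dvd_of_eq (by ring)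
  have hz1 : z ≠ 1 := by
    rw [hz, Ne, ha0]
    intro h
    have := Nat.le_of_dvd (Nat.two_pow_pos _) h
    have : 2 ^ (q + 2) < 2 ^ (q + 3) := Nat.pow_lt_pow_right one_lt_two (by omega)
    omega
  have hzA : z ∈ Subgroup.zpowers a := hz ▸ pow_mem (Subgroup.mem_zpowers a) _
  have huniq : ∀ y ∈ Subgroup.zpowers a, y * y = 1 → y = 1 ∨ y = z := by
    intro y hy hy2
    obtain ⟨l, rfl⟩ := mem_powers_iff_mem_zpowers.2 hy
    simp only [← pow_add, ← two_mul, ha0] at hy2
    rw [show 2 ^ (q + 3) = 2 * 2 ^ (q + 2) by ring] at hy2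
    obtain ⟨c, rfl⟩ := (Nat.mul_dvd_mul_iff_left two_pos).1 hy2
    rcases Nat.even_or_odd c with ⟨d, rfl⟩ | ⟨d, rfl⟩
    · left
      simp only [ha0]
      exact ⟨d, by ring⟩
    · right
      simp only [hz, pow_mul]
      rw [← hz, pow_add, pow_mul, pow_two, hz2, one_pow, one_mul, pow_one]
  have hzc : ∀ g : P, g * z * g⁻¹ = z := by
    intro g
    refine (huniq _ ((inferInstance : (Subgroup.zpowers a).Normal).conj_mem z hzA g) ?_).resolve_left
      fun h => hz1 (by simpa using h)
    calc g * z * g⁻¹ * (g * z * g⁻¹) = g * (z * z) * g⁻¹ := by group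
      _ = 1 := by rw [hz2]; group
  have hzv : Commute z v := (mul_inv_eq_iff_eq_mul.1 (hzc v)).symm
  -- the conjugates of `v`
  have hvconj : ∀ g : P, g * v * g⁻¹ = v ∨ g * v * g⁻¹ = z * v := by
    intro g
    have h1 : g * v * g⁻¹ * v⁻¹ ∈ Subgroup.zpowers a := by
      have e : g * v * g⁻¹ * v⁻¹ = (g * a ^ k * g⁻¹) * (g * x * g⁻¹ * x⁻¹) * (a ^ k)⁻¹ := by rw [hv]; group
      rw [e]
      exact Subgroup.mul_mem _ (Subgroup.mul_mem _
        ((inferInstance : (Subgroup.zpowers a).Normal).conj_mem _ (pow_mem (Subgroup.mem_zpowers a) k) g) (hT g))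
        (Subgroup.inv_mem _ (pow_mem (Subgroup.mem_zpowers a) k))
    obtain ⟨l, hl⟩ := mem_powers_iff_mem_zpowers.2 h1
    have hl' : g * v * g⁻¹ = a ^ (l + k) * x := by
      rw [pow_add, show a ^ l = g * v * g⁻¹ * v⁻¹ from hl, hv]; group
    have h2 : a ^ (l + k) * x * (a ^ (l + k) * x) = 1 := by
      rw [← hl']
      calc g * v * g⁻¹ * (g * v * g⁻¹) = g * (v * v) * g⁻¹ := by group
        _ = 1 := by rw [hv2]; group
    have h3 : 2 ^ (q + 2) ∣ l := by
      rw [hsq, ha0, ← mul_add, show 2 ^ (q + 3) = 2 * 2 ^ (q + 2) by ring, Nat.mul_dvd_mul_iff_left two_pos,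
        add_mul, add_assoc] at h2
      have h4 := (Nat.dvd_add_left hk).1 h2
      exact (((Nat.coprime_two_left).2 (Nat.odd_iff.2 (by rw [pow_succ]; omega))).pow_left _).dvd_of_dvd_mul_right h4
    obtain ⟨c, rfl⟩ := h3
    have h5 : (a ^ (2 ^ (q + 2) * c)) = 1 ∨ (a ^ (2 ^ (q + 2) * c)) = z := by
      refine huniq _ (pow_mem (Subgroup.mem_zpowers a) _) ?_
      rw [← pow_add, ha0]
      exact ⟨c, by ring⟩
    rw [pow_add, mul_assoc _ (a ^ k) x, ← hv] at hl'
    rcases h5 with h | h <;> rw [h] at hl'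
    · left; rwa [one_mul] at hl'
    · exact Or.inr hl'
  refine ⟨Subgroup.closure {z, v}, ⟨fun n hn g => ?_⟩, ?_, ?_⟩
  · induction hn using Subgroup.closure_induction with
    | mem y hy =>
      rcases hy with rfl | rfl
      · rw [hzc]; exact Subgroup.subset_closure (by simp)
      · rcases hvconj g with h | h <;> rw [h]
        · exact Subgroup.subset_closure (by simp)
        · exact mul_mem (Subgroup.subset_closure (by simp)) (Subgroup.subset_closure (by simp))
    | one => simp
    | mul y w _ _ hy hw =>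
      rw [show g * (y * w) * g⁻¹ = (g * y * g⁻¹) * (g * w * g⁻¹) by group]
      exact mul_mem hy hw
    | inv y _ hy =>
      rw [show g * y⁻¹ * g⁻¹ = (g * y * g⁻¹)⁻¹ by group]
      exact inv_mem hy
  · refine Subgroup.isMulCommutative_closure ?_
    intro y hy w hw
    rcases hy with rfl | rfl <;> rcases hw with rfl | rfl
    exacts [rfl, hzv.eq, hzv.eq.symm, rfl]
  · intro hc
    have h1 : v ∈ Subgroup.closure ({z, v} : Set P) := Subgroup.subset_closure (by simp)
    have h2 : z ∈ Subgroup.closure ({z, v} : Set P) := Subgroup.subset_closure (by simp)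
    haveI : Fact (Nat.Prime 2) := ⟨Nat.prime_two⟩
    haveI := hc
    have h3 := CfsgLib.Metacyclic.mem_zpowers_of_isCyclic (p := 2) (a := (⟨z, h2⟩ : Subgroup.closure ({z, v} : Set P)))
      (b := ⟨v, h1⟩) (Subtype.ext (by simpa [pow_two] using hz2)) (fun h => hz1 (congrArg Subtype.val h))
      (Subtype.ext (by simpa [pow_two] using hv2))
    obtain ⟨l, hl⟩ := h3
    have hl' : z ^ l = v := congrArg Subtype.val hl
    exact hvA (hl' ▸ Subgroup.zpow_mem _ hzA l)

/-- Residues whose square is one modulo a power of two. -/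
theorem sq_one_cases {q : ℕ} {r : ℤ} (h : (2 : ℤ) ^ (q + 3) ∣ r * r - 1) :
    (2 : ℤ) ^ (q + 2) ∣ r - 1 ∨ (2 : ℤ) ^ (q + 2) ∣ r + 1 := by
  have hodd : Odd r := by
    rw [← Int.not_even_iff_odd]
    rintro ⟨c, rfl⟩
    have h2 : (2 : ℤ) ∣ (c + c) * (c + c) - 1 := (dvd_pow_self 2 (Nat.succ_ne_zero (q + 2))).trans h
    obtain ⟨d, hd⟩ := h2
    ring_nf at hd
    omega
  obtain ⟨c, rfl⟩ := hodd
  rcases Int.even_or_odd c with hc | hc
  · left
    obtain ⟨d, rfl⟩ := hc
    have e : (2 * (d + d) + 1) * (2 * (d + d) + 1) - 1 = 2 * ((2 * (d + d)) * (2 * d + 1)) := by ring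
    rw [e, show (2 : ℤ) ^ (q + 3) = 2 * 2 ^ (q + 2) by ring, mul_dvd_mul_iff_left two_ne_zero] at h
    have := IsCoprime.dvd_of_dvd_mul_right (IsCoprime.pow_left ⟨-d, 1, by ring⟩) h
    simpa using this
  · right
    obtain ⟨d, rfl⟩ := hc
    have e : (2 * (2 * d + 1) + 1) * (2 * (2 * d + 1) + 1) - 1 = 2 * ((2 * (2 * d + 1) + 1 + 1) * (2 * d + 1)) := by ring
    rw [e, show (2 : ℤ) ^ (q + 3) = 2 * 2 ^ (q + 2) by ring, mul_dvd_mul_iff_left two_ne_zero] at h
    exact IsCoprime.dvd_of_dvd_mul_right (IsCoprime.pow_left ⟨-d, 1, by ring⟩) h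


/-- Let P be a finite p-group in which every abelian normal subgroup is cyclic, but which has a non-cyclic abelian
subgroup. Then p = 2 and P is generalized quaternion, dihedral of order at least 16, or quasi-dihedral. -/
theorem result {P : Type*} [Group P] [Finite P] (p : ℕ) [Fact p.Prime]
    (hP : IsPGroup p P) (hn : ∀ A : Subgroup P, A.Normal → IsMulCommutative A → IsCyclic A)
    (hm : ∃ B : Subgroup P, IsMulCommutative B ∧ ¬ IsCyclic B) :
    p = 2 ∧ ((∃ n : ℕ, Nonempty (P ≃* QuaternionGroup n)) ∨ (∃ n : ℕ, 8 ≤ n ∧ Nonempty (P ≃* DihedralGroup n)) ∨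
      Cfsg.IsQuasiDihedral P) := by
  classical
  obtain ⟨B, hB, hBc⟩ := hm
  haveI : Group.IsNilpotent P := hP.isNilpotent
  obtain ⟨A, hA⟩ : ∃ A, Maximal (fun A : Subgroup P => A.Normal ∧ IsMulCommutative A) A :=
    (Set.toFinite {A : Subgroup P | A.Normal ∧ IsMulCommutative A}).exists_maximal ⟨⊥, inferInstance, inferInstance⟩
  haveI := hA.1.1
  haveI := hA.1.2
  have hAmax : ∀ M : Subgroup P, M.Normal → IsMulCommutative M → A ≤ M → M = A :=
    fun M h1 h2 h3 => le_antisymm (hA.2 ⟨h1, h2⟩ h3) h3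
  have hCA : Subgroup.centralizer (A : Set P) = A := Cfsg.Agent.S0015.result A hAmax
  haveI hAc : IsCyclic A := hn A inferInstance inferInstance
  obtain ⟨⟨a, haA⟩, hgen⟩ := IsCyclic.exists_generator (α := A)
  have hAa : A = Subgroup.zpowers a := by
    refine le_antisymm (fun x hx => ?_) (Subgroup.zpowers_le.2 haA)
    obtain ⟨i, hi⟩ := hgen ⟨x, hx⟩
    exact ⟨i, congrArg Subtype.val hi⟩
  have hcenA : ∀ x : P, x * a * x⁻¹ = a → x ∈ A := by
    intro x hx
    rw [← hCA, hAa, Subgroup.mem_centralizer_iff]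
    rintro _ ⟨i, rfl⟩
    exact ((show Commute x a from mul_inv_eq_iff_eq_mul.1 hx).zpow_right i).eq.symm
  have hAne : A ≠ ⊤ := by
    intro h
    apply hBc
    haveI : IsCyclic P := by
      rw [h] at hAc
      exact Subgroup.topEquiv.isCyclic.1 hAc
    infer_instance
  obtain ⟨m, hma⟩ := (IsPGroup.iff_orderOf).1 hP a
  -- commutators lie in `A`
  have hexp : ∀ g : P, ∃ r : ℤ, g * a * g⁻¹ = a ^ r := fun g => by
    obtain ⟨i, hi⟩ := (hAa ▸ hA.1.1.conj_mem a haA g : g * a * g⁻¹ ∈ Subgroup.zpowers a)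
    exact ⟨i, hi.symm⟩
  have hcomm : ∀ g h : P, g * h * g⁻¹ * h⁻¹ ∈ A := by
    intro g h
    apply hcenA
    obtain ⟨r, hr⟩ := hexp g
    obtain ⟨s, hs⟩ := hexp h
    have hgh : g * h * a * (g * h)⁻¹ = a ^ (s * r) := by
      calc g * h * a * (g * h)⁻¹ = g * (h * a * h⁻¹) * g⁻¹ := by group
        _ = a ^ (s * r) := by rw [hs, ← conj_zpow, hr, ← zpow_mul, mul_comm r s]
    have hhg : h * g * a * (h * g)⁻¹ = a ^ (s * r) := by
      calc h * g * a * (h * g)⁻¹ = h * (g * a * g⁻¹) * h⁻¹ := by group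
        _ = a ^ (s * r) := by rw [hr, ← conj_zpow, hs, ← zpow_mul]
    have ha' : (h * g)⁻¹ * a ^ (s * r) * (h * g) = a := by rw [← hhg]; group
    calc g * h * g⁻¹ * h⁻¹ * a * (g * h * g⁻¹ * h⁻¹)⁻¹
        = g * h * ((h * g)⁻¹ * a * (h * g)) * (g * h)⁻¹ := by group
      _ = g * h * ((h * g)⁻¹ * a * (h * g)) * (g * h)⁻¹ := rfl
      _ = a := by
        have e : (h * g)⁻¹ * a * (h * g) = (g * h)⁻¹ * a * (g * h) := by
          have h1 : (g * h) * ((h * g)⁻¹ * a ^ (s * r) * (h * g)) * (g * h)⁻¹ = a ^ (s * r) := by rw [ha', hgh]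
          have h2 : Commute ((g * h) * (h * g)⁻¹) (a ^ (s * r)) := by
            show _ = _
            calc g * h * (h * g)⁻¹ * a ^ (s * r)
                = g * h * ((h * g)⁻¹ * a ^ (s * r) * (h * g)) * (g * h)⁻¹ * (g * h * (h * g)⁻¹) := by group
              _ = a ^ (s * r) * (g * h * (h * g)⁻¹) := by rw [h1]
          have h3 : Commute ((g * h) * (h * g)⁻¹) a := by
            have hmem : a ∈ Subgroup.zpowers (a ^ (s * r)) := by
              have h5 : Subgroup.zpowers (a ^ (s * r)) = Subgroup.zpowers a := by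
                refine Subgroup.eq_of_le_of_card_ge (Subgroup.zpowers_le.2 (Subgroup.zpow_mem _ (Subgroup.mem_zpowers a) _)) ?_
                rw [← hgh, Nat.card_zpowers, Nat.card_zpowers]
                exact (orderOf_injective (MulAut.conj (g * h)).toMonoidHom (MulAut.conj (g * h)).injective a).ge
              rw [h5]; exact Subgroup.mem_zpowers a
            obtain ⟨l, hl⟩ := hmem
            have hl' : (a ^ (s * r)) ^ l = a := hl
            rw [← hl']
            exact h2.zpow_right l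
          calc (h * g)⁻¹ * a * (h * g) = (g * h)⁻¹ * ((g * h) * (h * g)⁻¹ * a) * (h * g) := by group
            _ = (g * h)⁻¹ * (a * ((g * h) * (h * g)⁻¹)) * (h * g) := by rw [h3.eq]
            _ = (g * h)⁻¹ * a * (g * h) := by group
        rw [e]; group
  have hnormal : ∀ T : Subgroup P, A ≤ T → T.Normal := fun T hT => ⟨fun y hy g => by
    have := T.mul_mem (hT (hcomm g y)) hy
    simpa using this⟩
  -- an element of order `p` modulo `A`
  obtain ⟨x, hxA, hxp⟩ : ∃ x, x ∉ A ∧ x ^ p ∈ A := by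
    obtain ⟨y, hy⟩ := not_forall.1 fun h => hAne (Subgroup.eq_top_iff' A |>.2 h)
    obtain ⟨k, hk⟩ := hP y
    by_contra hno
    push Not at hno
    have : ∀ j, y ^ p ^ j ∉ A := by
      intro j
      induction j with
      | zero => simpa using hy
      | succ j ih => rw [pow_succ, pow_mul]; exact hno _ ih
    exact this k (hk ▸ A.one_mem)
  have hp2 : p = 2 := by
    by_contra hp
    set T := A ⊔ Subgroup.zpowers x with hT
    have hAT : A ≤ T := le_sup_left
    haveI := hnormal T hAT
    have hTnc : ¬ IsCyclic T := by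
      intro hc
      haveI := hc
      letI : CommGroup T := IsCyclic.commGroup
      refine hxA (hcenA x ?_)
      have h := congrArg Subtype.val (mul_comm (⟨x, Subgroup.mem_sup_right (Subgroup.mem_zpowers x)⟩ : T) ⟨a, hAT haA⟩)
      have h' : x * a = a * x := h
      rw [h', mul_inv_cancel_right]
    have hidx : (A.subgroupOf T).index = p := by
      have h1 : (A.subgroupOf T).index ≠ 1 := fun h => hxA
        (Subgroup.relIndex_eq_one.1 h (Subgroup.mem_sup_right (Subgroup.mem_zpowers x)))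
      have h2 : A.relIndex T ∣ p := by
        rw [hT, sup_comm, Subgroup.relIndex_sup_right]
        show (A.subgroupOf (Subgroup.zpowers x)).index ∣ p
        have hle : Subgroup.zpowers (⟨x ^ p, Subgroup.pow_mem _ (Subgroup.mem_zpowers x) p⟩ : Subgroup.zpowers x) ≤
            A.subgroupOf (Subgroup.zpowers x) := Subgroup.zpowers_le.2 hxp
        refine (Subgroup.index_dvd_of_le hle).trans ?_
        have h3 := Subgroup.card_mul_index (Subgroup.zpowers (⟨x ^ p, Subgroup.pow_mem _ (Subgroup.mem_zpowers x) p⟩ : Subgroup.zpowers x))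
        rw [Nat.card_zpowers, Nat.card_zpowers, Subgroup.orderOf_mk, orderOf_pow' _ (Fact.out : p.Prime).ne_zero] at h3
        have hd : (orderOf x).gcd p ∣ orderOf x := Nat.gcd_dvd_left _ _
        have h4 : orderOf x / (orderOf x).gcd p * (orderOf x).gcd p = orderOf x := Nat.div_mul_cancel hd
        have hpos : 0 < orderOf x / (orderOf x).gcd p :=
          Nat.div_pos (Nat.le_of_dvd (orderOf_pos x) hd) (Nat.gcd_pos_of_pos_left _ (orderOf_pos x))
        rw [← Nat.eq_of_mul_eq_mul_left hpos (h4.trans h3.symm)]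
        exact Nat.gcd_dvd_right _ _
      exact ((Nat.dvd_prime (Fact.out : p.Prime)).1 h2).resolve_left h1
    haveI hATc : IsCyclic (A.subgroupOf T) := (Subgroup.subgroupOfEquivOfLe hAT).isCyclic.2 hAc
    obtain ⟨⟨hΩc, hΩp⟩, hΩcard⟩ := Cfsg.Agent.S0127.result hp (hP.to_subgroup T) hTnc (A.subgroupOf T) hATc hidx
    set Ω := (Subgroup.closure {y : T | y ^ p = 1}).map T.subtype with hΩ
    have hΩn : Ω.Normal := by
      haveI : (Subgroup.closure {y : T | y ^ p = 1}).Characteristic := Subgroup.characteristic_iff_map_le.2 fun φ => by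
        rw [MonoidHom.map_closure, Subgroup.closure_le]
        rintro _ ⟨y, hy, rfl⟩
        refine Subgroup.subset_closure ?_
        show (φ.toMonoidHom y) ^ p = 1
        rw [← map_pow, hy, map_one]
      infer_instance
    haveI := hΩc
    have hΩcyc : IsCyclic Ω := hn Ω hΩn inferInstance
    obtain ⟨g, hg⟩ := hΩcyc.exists_generator
    have hcard : Nat.card Ω = p ^ 2 := (Subgroup.card_subtype _ _).trans hΩcard
    have hgo : orderOf g = p ^ 2 := by rw [← hcard]; exact orderOf_eq_card_of_forall_mem_zpowers hg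
    have hdvd : orderOf g ∣ p := by
      refine orderOf_dvd_of_pow_eq_one (Subtype.ext ?_)
      obtain ⟨y, hy, hye⟩ := g.2
      rw [SubgroupClass.coe_pow, ← hye, ← map_pow, hΩp y hy, map_one]; rfl
    rw [hgo] at hdvd
    have := Nat.le_of_dvd (Fact.out : p.Prime).pos hdvd
    nlinarith [(Fact.out : p.Prime).two_le]
  subst hp2
  refine ⟨rfl, ?_⟩
  -- the action has order two
  have hfour : ∀ (q : ℕ) (y : P), orderOf a = 2 ^ (q + 3) → y * a * y⁻¹ = a ^ (1 + 2 ^ (q + 2)) → False := by
    intro q y hq hy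
    haveI : (Subgroup.zpowers a).Normal := hAa ▸ hA.1.1
    have hyA : y ∉ Subgroup.zpowers a := by
      rintro ⟨i, rfl⟩
      have h1 : a ^ i * a * (a ^ i)⁻¹ = a := by group
      have h0 : a ^ (1 + 2 ^ (q + 2)) = a := hy.symm.trans h1
      rw [pow_add, pow_one, mul_eq_left, ← orderOf_dvd_iff_pow_eq_one, hq] at h0
      have := Nat.le_of_dvd (Nat.two_pow_pos _) h0
      have : 2 ^ (q + 2) < 2 ^ (q + 3) := Nat.pow_lt_pow_right one_lt_two (by omega)
      omega
    have hy2 : y * y ∈ Subgroup.zpowers a := by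
      rw [← hAa]
      apply hcenA
      calc y * y * a * (y * y)⁻¹ = y * (y * a * y⁻¹) * y⁻¹ := by group
        _ = a := by
          rw [hy, ← conj_pow, hy, ← pow_mul]
          conv_rhs => rw [← pow_one a]
          rw [pow_eq_pow_iff_modEq, hq]
          apply Nat.ModEq.symm
          rw [Nat.modEq_iff_dvd' (Nat.one_le_iff_ne_zero.2 (by positivity))]
          refine ⟨1 + 2 ^ (q + 1), ?_⟩
          rw [show (1 + 2 ^ (q + 2)) * (1 + 2 ^ (q + 2)) = 1 + 2 ^ (q + 3) * (1 + 2 ^ (q + 1)) by ring]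
          omega
    obtain ⟨E, hE1, hE2, hE3⟩ := exists_four hq hy hy2 hyA (fun g => hAa ▸ hcomm g y)
    exact hE3 (hn E hE1 hE2)
  have hm2 : 2 ≤ m := by
    by_contra hlt
    have ha2 : a * a = 1 := by
      rw [← pow_two, ← orderOf_dvd_iff_pow_eq_one, hma]
      exact pow_dvd_pow 2 (n := 1) (by omega)
    refine hxA (hcenA x ?_)
    obtain ⟨r, hr⟩ := hexp x
    rcases Int.even_or_odd r with ⟨c, rfl⟩ | ⟨c, rfl⟩
    · rw [← two_mul, zpow_mul, zpow_ofNat, pow_two, ha2, one_zpow, mul_inv_eq_one, mul_eq_left] at hr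
      simp [hr]
    · rw [zpow_add, zpow_mul, zpow_ofNat, pow_two, ha2, one_zpow, one_mul, zpow_one] at hr
      exact hr
  have ha0 : ∀ k : ℤ, a ^ k = 1 ↔ (2 : ℤ) ^ m ∣ k := fun k => by
    rw [← orderOf_dvd_iff_zpow_eq_one, hma]; norm_num
  have hidx2 : A.index = 2 := by
    -- every element outside `A` acts as `x`
    have hact : ∀ g : P, g ∉ A → ∀ h : P, h ∉ A → g⁻¹ * h ∈ A := by
      -- the square of every action is trivial
      have hsq : ∀ g : P, g * g ∈ A := by
        by_contra hno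
        push Not at hno
        obtain ⟨g₀, hg₀⟩ := hno
        obtain ⟨k, hk⟩ := hP g₀
        obtain ⟨g, hg4, hg2⟩ : ∃ g : P, g * g * (g * g) ∈ A ∧ g * g ∉ A := by
          by_contra hno'
          push Not at hno'
          have : ∀ j, g₀ ^ 2 ^ (j + 1) ∉ A := by
            intro j
            induction j with
            | zero => simpa [pow_two] using hg₀
            | succ j ih =>
              intro hmem
              refine ih ?_
              have e : g₀ ^ 2 ^ j * g₀ ^ 2 ^ j = g₀ ^ 2 ^ (j + 1) := by rw [← pow_add]; congr 1; ring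
              rw [← e]
              refine hno' (g₀ ^ 2 ^ j) ?_
              rw [e, ← pow_add]
              convert hmem using 2
              ring
          exact this k (by rw [pow_succ, pow_mul, hk, one_pow]; exact A.one_mem)
        obtain ⟨r, hr⟩ := hexp g
        have hr2 : g * g * a * (g * g)⁻¹ = a ^ (r * r) := by
          calc g * g * a * (g * g)⁻¹ = g * (g * a * g⁻¹) * g⁻¹ := by group
            _ = a ^ (r * r) := by rw [hr, ← conj_zpow, hr, ← zpow_mul]
        have hr4 : (2 : ℤ) ^ m ∣ r * r * (r * r) - 1 := by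
          rw [← ha0, zpow_sub_one, mul_inv_eq_one]
          have h1 : g * g * (g * g) * a * (g * g * (g * g))⁻¹ = a := by
            have := (hCA.ge hg4 : g * g * (g * g) ∈ Subgroup.centralizer (A : Set P)) a haA
            rw [← this, mul_inv_cancel_right]
          calc a ^ (r * r * (r * r)) = g * g * (g * g * a * (g * g)⁻¹) * (g * g)⁻¹ := by
                rw [hr2, ← conj_zpow, hr2, ← zpow_mul]
            _ = a := by conv_rhs => rw [← h1]
                        group
        have hr2n : ¬ (2 : ℤ) ^ m ∣ r * r - 1 := by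
          intro h
          apply hg2
          apply hcenA
          rw [hr2]
          rw [← ha0, zpow_sub_one, mul_inv_eq_one] at h
          exact h
        have hrodd : Odd r := by
          rw [← Int.not_even_iff_odd]
          rintro ⟨c, rfl⟩
          obtain ⟨d, hd⟩ := (dvd_pow_self (2 : ℤ) (by omega : m ≠ 0)).trans hr4
          ring_nf at hd
          omega
        obtain ⟨c, rfl⟩ := hrodd
        obtain ⟨d, hd⟩ := Int.even_mul_succ_self c
        have e1 : (2 * c + 1) * (2 * c + 1) = 8 * d + 1 := by linear_combination 4 * hd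
        rw [e1] at hr4 hr2n hr2
        have hm4 : ∃ q, m = q + 4 := ⟨m - 4, by
          by_contra hlt
          exact hr2n ((pow_dvd_pow 2 (show m ≤ 3 by omega)).trans ⟨d, by ring⟩)⟩
        obtain ⟨q, rfl⟩ := hm4
        have h8 : (2 : ℤ) ^ (q + 3) ∣ 8 * d := by
          have e2 : (8 * d + 1) * (8 * d + 1) - 1 = 2 * ((4 * d + 1) * (8 * d)) := by ring
          rw [e2, show (2 : ℤ) ^ (q + 4) = 2 * 2 ^ (q + 3) by ring, mul_dvd_mul_iff_left two_ne_zero] at hr4
          exact IsCoprime.dvd_of_dvd_mul_left (IsCoprime.pow_left ⟨-(2 * d), 1, by ring⟩) hr4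
        obtain ⟨f, hf⟩ := h8
        rcases Int.even_or_odd f with ⟨f', rfl⟩ | ⟨f', rfl⟩
        · exact hr2n ⟨f', by rw [add_sub_cancel_right, hf]; ring⟩
        refine hfour (q + 1) (g * g) hma ?_
        rw [hr2, hf, ← zpow_natCast a (1 + 2 ^ (q + 1 + 2)), ← mul_inv_eq_one, ← zpow_sub, ha0]
        exact ⟨f', by push_cast; ring⟩
      have hcls : ∀ g : P, g ∉ A → ∀ r : ℤ, g * a * g⁻¹ = a ^ r →
          (2 : ℤ) ^ (m - 1) ∣ r + 1 := by
        intro g hg r hr
        rcases Nat.lt_or_ge m 3 with hlt | hge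
        · obtain rfl : m = 2 := by omega
          norm_num
          have hodd : Odd r := by
            rw [← Int.not_even_iff_odd]
            rintro ⟨c, rfl⟩
            have h1 : (g * a * g⁻¹) ^ 2 = 1 := by
              rw [hr, ← zpow_natCast, ← zpow_mul, ha0]
              exact ⟨c, by push_cast; ring⟩
            rw [conj_pow, mul_inv_eq_one, mul_eq_left, ← orderOf_dvd_iff_pow_eq_one, hma] at h1
            norm_num at h1
          obtain ⟨c, rfl⟩ := hodd
          exact ⟨c + 1, by ring⟩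
        obtain ⟨q, rfl⟩ : ∃ q, m = q + 3 := ⟨m - 3, by omega⟩
        have h1 : (2 : ℤ) ^ (q + 3) ∣ r * r - 1 := by
          rw [← ha0, zpow_sub_one, mul_inv_eq_one]
          calc a ^ (r * r) = g * (g * a * g⁻¹) * g⁻¹ := by rw [hr, ← conj_zpow, hr, ← zpow_mul]
            _ = a := by
              have := (hCA.ge (hsq g) : g * g ∈ Subgroup.centralizer (A : Set P)) a haA
              calc g * (g * a * g⁻¹) * g⁻¹ = g * g * a * (g * g)⁻¹ := by group
                _ = a := by rw [← this, mul_inv_cancel_right]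
        rcases sq_one_cases h1 with h | h
        · exfalso
          obtain ⟨c, hc⟩ := h
          rcases Int.even_or_odd c with ⟨c', rfl⟩ | ⟨c', rfl⟩
          · apply hg
            apply hcenA
            rw [hr, ← mul_inv_eq_one, ← zpow_sub_one, ha0]
            exact ⟨c', by rw [hc]; ring⟩
          · refine hfour q g hma ?_
            rw [hr, ← zpow_natCast a (1 + 2 ^ (q + 2)), ← mul_inv_eq_one, ← zpow_sub, ha0]
            exact ⟨c', by push_cast; linear_combination hc⟩
        · simpa using h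
      intro g hg h hh
      obtain ⟨r, hr⟩ := hexp g
      obtain ⟨s, hs⟩ := hexp h
      have d1 := hcls g hg r hr
      have d2 := hcls h hh s hs
      by_cases heq : (2 : ℤ) ^ m ∣ s - r
      · apply hcenA
        have : g * a * g⁻¹ = h * a * h⁻¹ := by
          rw [hr, hs, eq_comm, ← mul_inv_eq_one, ← zpow_sub, ha0]; exact heq
        calc g⁻¹ * h * a * (g⁻¹ * h)⁻¹ = g⁻¹ * (h * a * h⁻¹) * g := by group
          _ = a := by rw [← this]; group
      exfalso
      rcases Nat.lt_or_ge m 3 with hlt | hge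
      · obtain rfl : m = 2 := by omega
        norm_num at d1 d2 heq
        -- modulo four only one nontrivial unit
        have hr3 : ¬ (4 : ℤ) ∣ r - 1 := fun h4 => hg (hcenA g (by
          rw [hr, ← mul_inv_eq_one, ← zpow_sub_one, ha0]; norm_num; exact h4))
        have hs3 : ¬ (4 : ℤ) ∣ s - 1 := fun h4 => hh (hcenA h (by
          rw [hs, ← mul_inv_eq_one, ← zpow_sub_one, ha0]; norm_num; exact h4))
        omega
      obtain ⟨q, rfl⟩ : ∃ q, m = q + 3 := ⟨m - 3, by omega⟩
      simp only [show q + 3 - 1 = q + 2 by omega] at d1 d2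
      obtain ⟨c, hc⟩ := d1
      obtain ⟨d, hd⟩ := d2
      refine hfour q (g * h) hma ?_
      have hgh : g * h * a * (g * h)⁻¹ = a ^ (r * s) := by
        calc g * h * a * (g * h)⁻¹ = g * (h * a * h⁻¹) * g⁻¹ := by group
          _ = a ^ (r * s) := by rw [hs, ← conj_zpow, hr, ← zpow_mul]
      rw [hgh, ← zpow_natCast a (1 + 2 ^ (q + 2)), ← mul_inv_eq_one, ← zpow_sub, ha0]
      have hcd : Odd (c + d) := by
        rw [← Int.not_even_iff_odd]
        rintro ⟨e, he⟩
        apply heq
        exact ⟨d - e, by rw [show s - r = (2 : ℤ) ^ (q + 2) * d - 2 ^ (q + 2) * c by linarith, show c = e + e - d by linarith]; ring⟩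
      obtain ⟨e, he⟩ := hcd
      refine ⟨-e - 1 + 2 ^ (q + 1) * c * d, ?_⟩
      rw [show r = 2 ^ (q + 2) * c - 1 by linarith, show s = 2 ^ (q + 2) * d - 1 by linarith]
      push_cast
      linear_combination (-(2 : ℤ) ^ (q + 2)) * he
    refine Subgroup.index_eq_two_iff.2 ⟨x, fun g => ?_⟩
    by_cases hg : g ∈ A
    · exact Or.inr ⟨hg, fun h => hxA (((Subgroup.mul_mem_cancel_left A hg).1 h))⟩
    · refine Or.inl ⟨?_, hg⟩
      have h1 : g⁻¹ * x ∈ A := hact g hg x hxA
      have h2 : g * g ∈ A := by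
        have := hact g hg g⁻¹ (fun h => hg (by simpa using A.inv_mem h))
        have := A.inv_mem this
        simpa [mul_inv_rev] using this
      have := A.mul_mem h2 h1
      simpa [mul_assoc] using this
  -- classification
  have hcard : Nat.card P = 2 ^ (m + 1) := by
    rw [← Subgroup.card_mul_index A, hidx2, hAa, Nat.card_zpowers, hma, pow_succ]
  have hna : ∃ u v : P, u * v ≠ v * u := ⟨x, a, fun h => hxA (hcenA x (by rw [h, mul_inv_cancel_right]))⟩
  obtain ⟨a', b, ha', hb, hcases⟩ := Cfsg.Agent.S0646.result (m + 1) (by omega) hcard A hAc hidx2 hna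
  rw [show m + 1 - 1 = m by omega] at ha'
  rw [show m + 1 - 2 = m - 1 by omega] at hcases
  have hpow : 2 ^ m = 2 * 2 ^ (m - 1) := by rw [← pow_succ']; congr 1; omega
  rcases hcases with ⟨hb2, hba⟩ | ⟨hb2, hba⟩ | ⟨hm4, hb2, hba⟩ | ⟨hm4, hb2, hba⟩
  · -- dihedral
    refine Or.inr (Or.inl ⟨2 ^ m, ?_, CfsgLib.OrthBinary.dihedral_of_card (Nat.two_pow_pos m) (by rw [hcard, pow_succ']) a' b ha' hb2 hba hb⟩)
    by_contra hlt
    obtain rfl : m = 2 := by
      by_contra hne
      exact hlt ((show 8 = 2 ^ 3 by norm_num).le.trans (Nat.pow_le_pow_right two_pos (by omega)))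
    -- the dihedral group of order eight has a normal four-group
    have ha4 : a' ^ 4 = 1 := by rw [show (4 : ℕ) = orderOf a' by rw [ha']; norm_num]; exact pow_orderOf_eq_one a'
    have hcom : Commute (a' ^ 2) b := by
      have h1 : b * a' ^ 2 * b⁻¹ = a' ^ 2 := by
        rw [← conj_pow, hba, inv_pow, inv_eq_iff_mul_eq_one, ← pow_add]; exact ha4
      exact (mul_inv_eq_iff_eq_mul.1 h1).symm
    set E := Subgroup.closure ({a' ^ 2, b} : Set P) with hE
    haveI hEc : IsMulCommutative E := Subgroup.isMulCommutative_closure (by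
      intro y hy w hw
      rcases hy with rfl | rfl <;> rcases hw with rfl | rfl
      exacts [rfl, hcom.eq, hcom.eq.symm, rfl])
    have hEsq : ∀ y ∈ E, y ^ 2 = 1 := by
      intro y hy
      induction hy using Subgroup.closure_induction with
      | mem w hw => rcases hw with rfl | rfl; exacts [by rw [← pow_mul]; exact ha4, hb2]
      | one => simp
      | mul u v hu hv iu iv =>
        have hc : Commute u v := congrArg Subtype.val (mul_comm' (⟨u, hu⟩ : E) ⟨v, hv⟩)
        rw [hc.mul_pow, iu, iv, one_mul]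
      | inv u _ iu => rw [inv_pow, iu, inv_one]
    have ha2 : a' ^ 2 ∈ E := Subgroup.subset_closure (by simp)
    have hbE : b ∈ E := Subgroup.subset_closure (by simp)
    have hEn : E.Normal := by
      refine Subgroup.normal_of_index_eq_two ?_
      have hd := Subgroup.card_mul_index E
      rw [hcard] at hd
      have hle : 3 ≤ Nat.card E := by
        have hne : a' ^ 2 ≠ 1 := fun h => by
          have := Nat.le_of_dvd two_pos (orderOf_dvd_of_pow_eq_one h)
          rw [ha'] at this; norm_num at this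
        haveI : Fintype P := Fintype.ofFinite P
        have hsub : ({1, a' ^ 2, b} : Finset P) ⊆ (E : Set P).toFinset := by
          intro w hw
          simp only [Finset.mem_insert, Finset.mem_singleton] at hw
          rw [Set.mem_toFinset]
          rcases hw with rfl | rfl | rfl
          exacts [E.one_mem, ha2, hbE]
        have h3 : ({1, a' ^ 2, b} : Finset P).card = 3 := by
          rw [Finset.card_eq_three]
          exact ⟨1, a' ^ 2, b, hne.symm, fun h => hb (by rw [← h]; exact one_mem _), fun h => hb (by rw [← h]; exact pow_mem (Subgroup.mem_zpowers a') 2), rfl⟩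
        have := Finset.card_le_card hsub
        rw [h3, ← Set.ncard_eq_toFinset_card', ← Nat.card_coe_set_eq] at this
        exact this
      have hlt8 : Nat.card E ≠ 8 := by
        intro h8
        have htop : E = ⊤ := Subgroup.eq_top_of_card_eq E (by rw [h8, hcard]; norm_num)
        obtain ⟨u, v, huv⟩ := hna
        exact huv (congrArg Subtype.val (mul_comm' (⟨u, htop ▸ Subgroup.mem_top u⟩ : E) ⟨v, htop ▸ Subgroup.mem_top v⟩))
      have hdd : Nat.card E ∣ 8 := ⟨E.index, by norm_num at hd ⊢; omega⟩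
      have h4 : Nat.card E = 4 := by
        have := Nat.le_of_dvd (by norm_num) hdd
        interval_cases (Nat.card E) <;> first | rfl | omega
      rw [h4] at hd; norm_num at hd; omega
    haveI := hEn
    haveI := hn E hEn hEc
    obtain ⟨g, hg⟩ := IsCyclic.exists_generator (α := E)
    obtain ⟨i, hi⟩ := hg ⟨b, hbE⟩
    obtain ⟨j, hj⟩ := hg ⟨a' ^ 2, ha2⟩
    have hg2 : (g : P) * g = 1 := by rw [← pow_two]; exact hEsq g g.2
    have key : ∀ l : ℤ, (g : P) ^ l = 1 ∨ (g : P) ^ l = g := by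
      intro l
      rcases Int.even_or_odd l with ⟨c, rfl⟩ | ⟨c, rfl⟩
      · left; rw [← two_mul, zpow_mul, zpow_ofNat, pow_two, hg2, one_zpow]
      · right; rw [zpow_add, zpow_mul, zpow_ofNat, pow_two, hg2, one_zpow, one_mul, zpow_one]
    have hi' : (g : P) ^ i = b := congrArg Subtype.val hi
    have hj' : (g : P) ^ j = a' ^ 2 := congrArg Subtype.val hj
    rcases key i with h | h <;> rw [h] at hi'
    · exact hb (hi' ▸ one_mem _)
    rcases key j with h' | h' <;> rw [h'] at hj'
    · have := Nat.le_of_dvd two_pos (orderOf_dvd_of_pow_eq_one hj'.symm)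
      rw [ha'] at this; norm_num at this
    · exact hb (by rw [← hi', hj']; exact pow_mem (Subgroup.mem_zpowers a') 2)
  · -- quaternion
    refine Or.inl ⟨2 ^ (m - 1), ?_⟩
    have h4 : a' ^ (2 * 2 ^ (m - 1)) = 1 := by rw [← hpow, ← ha']; exact pow_orderOf_eq_one a'
    have hinj := CfsgLib.Quat.hom_injective (n := 2 ^ (m - 1)) h4 (by rw [← pow_two]; exact hb2) hba (ha'.trans hpow) hb
    haveI : NeZero (2 ^ (m - 1)) := ⟨(Nat.two_pow_pos _).ne'⟩
    have hbij := hinj.bijective_of_nat_card_le (le_of_eq (by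
      rw [hcard, CfsgLib.Quat.nat_card, pow_succ, hpow]; ring))
    exact ⟨(MulEquiv.ofBijective _ hbij).symm⟩
  · -- modular
    exfalso
    obtain ⟨q, rfl⟩ : ∃ q, m = q + 3 := ⟨m - 3, by omega⟩
    rw [show q + 3 - 1 = q + 2 by omega] at hba
    have hidx' : (Subgroup.zpowers a').index = 2 := by
      have h := Subgroup.card_mul_index (Subgroup.zpowers a')
      rw [Nat.card_zpowers, ha', hcard, pow_succ _ (q + 3)] at h
      exact Nat.eq_of_mul_eq_mul_left (Nat.two_pow_pos _) h
    haveI := Subgroup.normal_of_index_eq_two hidx'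
    obtain ⟨E, hE1, hE2, hE3⟩ := exists_four ha' hba (by rw [← pow_two, hb2]; exact one_mem _) hb (fun g => by
      have hh : ∀ u : P, (QuotientGroup.mk' (Subgroup.zpowers a')) u = 1 ↔ u ∈ Subgroup.zpowers a' :=
        fun u => QuotientGroup.eq_one_iff u
      rw [← hh, map_mul, map_mul, map_mul, map_inv, map_inv]
      haveI : IsCyclic (P ⧸ Subgroup.zpowers a') := isCyclic_of_prime_card (p := 2) (by
        rw [← Subgroup.index_eq_card]; exact hidx')
      haveI : IsMulCommutative (P ⧸ Subgroup.zpowers a') := IsCyclic.isMulCommutative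
      rw [mul_comm' (QuotientGroup.mk' (Subgroup.zpowers a') g), mul_inv_cancel_right, mul_inv_cancel])
    exact hE3 (hn E hE1 hE2)
  · -- semidihedral
    refine Or.inr (Or.inr ⟨m, by omega, hcard, a', b, ha', ?_, hba⟩)
    exact orderOf_eq_prime hb2 (fun h => hb (h ▸ one_mem _))

end Cfsg.Agent.S0519
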