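import Cfsg.Statements.S3305
import Mathlib
import Cfsg.Agent.Lib.Local

set_option autoImplicit false
open Cfsg
open scoped Pointwise

namespace Cfsg.Agent.S3305



/-- If any two distinct Sylow 2-subgroups of the finite group G intersect in a cyclic group, then the same holds in every quotient group G/H, H a normal subgroup of G. -/
theorem result {G : Type*} [Group G] [Finite G]
    (hC : ∀ S T : Sylow 2 G, S ≠ T → IsCyclic ↥((S : Subgroup G) ⊓ (T : Subgroup G))) (H : Subgroup G) [H.Normal] :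
    ∀ S T : Sylow 2 (G ⧸ H), S ≠ T → IsCyclic ↥((S : Subgroup (G ⧸ H)) ⊓ (T : Subgroup (G ⧸ H))) := by
  classical
  intro S T hne
  haveI : Fact (Nat.Prime 2) := ⟨Nat.prime_two⟩
  have hq : Function.Surjective (QuotientGroup.mk' H) := QuotientGroup.mk'_surjective H
  obtain ⟨S₀, hS₀⟩ := Sylow.mapSurjective_surjective hq 2 S
  obtain ⟨T₀, hT₀⟩ := Sylow.mapSurjective_surjective hq 2 T
  set X := ((S : Subgroup (G ⧸ H)) ⊓ T).comap (QuotientGroup.mk' H)
  obtain ⟨Q⟩ : Nonempty (Sylow 2 X) := inferInstance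
  -- every 2-subgroup of the preimage of a Sylow lies in a Sylow mapping onto it
  have hlift : ∀ (U : Sylow 2 (G ⧸ H)) (U₀ : Sylow 2 G), U₀.mapSurjective hq = U →
      ∀ A : Subgroup G, IsPGroup 2 A → A ≤ (U : Subgroup (G ⧸ H)).comap (QuotientGroup.mk' H) →
      ∃ U₁ : Sylow 2 G, U₁.mapSurjective hq = U ∧ A ≤ U₁ := by
    intro U U₀ hU₀ A hA hAU
    set M := (U : Subgroup (G ⧸ H)).comap (QuotientGroup.mk' H)
    have hU₀M : (U₀ : Subgroup G) ≤ M := fun u hu => by
      show (QuotientGroup.mk' H) u ∈ (U : Subgroup (G ⧸ H))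
      rw [← hU₀, Sylow.coe_mapSurjective]; exact Subgroup.mem_map_of_mem _ hu
    obtain ⟨R, hR⟩ := (IsPGroup.of_equiv hA (Subgroup.subgroupOfEquivOfLe hAU).symm).exists_le_sylow
    obtain ⟨m, hm⟩ := MulAction.exists_smul_eq M (U₀.subtype hU₀M) R
    refine ⟨(m : G) • U₀, ?_, fun a ha => ?_⟩
    · apply Sylow.ext
      rw [Sylow.coe_mapSurjective, Sylow.coe_subgroup_smul]
      apply Subgroup.eq_of_le_of_card_ge
      · rintro _ ⟨u, hu, rfl⟩
        rw [SetLike.mem_coe, Subgroup.mem_pointwise_smul_iff_inv_smul_mem] at hu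
        have : u ∈ M := by
          have h2 := M.mul_mem (M.mul_mem m.2 (hU₀M hu)) (M.inv_mem m.2)
          simpa [mul_assoc] using h2
        exact this
      · rw [show (MulAut.conj (m:G) • (U₀ : Subgroup G)).map (QuotientGroup.mk' H) = MulAut.conj (QuotientGroup.mk' H (m:G)) • (U₀ : Subgroup G).map (QuotientGroup.mk' H) from ?_]
        · rw [← Sylow.coe_mapSurjective hq U₀, hU₀]
          exact le_of_eq (Nat.card_congr (Subgroup.equivSMul _ _).toEquiv)
        · rw [Subgroup.pointwise_smul_def, Subgroup.pointwise_smul_def]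
          erw [Subgroup.map_map, Subgroup.map_map]
          congr 1
    · have := hR (Subgroup.mem_subgroupOf.mpr ha : (⟨a, hAU ha⟩ : M) ∈ A.subgroupOf M)
      rw [← hm, Sylow.coe_subgroup_smul, Subgroup.mem_pointwise_smul_iff_inv_smul_mem] at this
      rw [Sylow.coe_subgroup_smul, Subgroup.mem_pointwise_smul_iff_inv_smul_mem]
      simpa [Sylow.coe_subtype, Subgroup.mem_subgroupOf, mul_assoc] using this
  set A := (Q : Subgroup X).map X.subtype
  have hA : IsPGroup 2 A := Q.2.map _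
  have hAX : A ≤ X := Subgroup.map_subtype_le _
  obtain ⟨S₁, hS₁, hAS⟩ := hlift S S₀ hS₀ A hA (hAX.trans (Subgroup.comap_mono inf_le_left))
  obtain ⟨T₁, hT₁, hAT⟩ := hlift T T₀ hT₀ A hA (hAX.trans (Subgroup.comap_mono inf_le_right))
  haveI := hC S₁ T₁ (fun e => hne (by rw [← hS₁, ← hT₁, e]))
  haveI : IsCyclic A := Subgroup.isCyclic_of_le (le_inf hAS hAT)
  let φ : X →* ↥((S : Subgroup (G ⧸ H)) ⊓ T) := (QuotientGroup.mk' H).subgroupComap _
  have hφ : Function.Surjective φ := MonoidHom.subgroupComap_surjective_of_surjective _ _ hq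
  set Qi := Q.mapSurjective hφ
  have htop : (Qi : Subgroup ↥((S : Subgroup (G ⧸ H)) ⊓ T)) = ⊤ := by
    have hp : IsPGroup 2 ↥((S : Subgroup (G ⧸ H)) ⊓ T) := CfsgLib.Local.isPGroup_of_le inf_le_left S.2
    exact (Qi.3 (hp.of_equiv Subgroup.topEquiv.symm) le_top).symm
  haveI : IsCyclic (Q : Subgroup X) := isCyclic_of_injective ((Q : Subgroup X).equivMapOfInjective _ X.subtype_injective).toMonoidHom (MulEquiv.injective _)
  refine isCyclic_of_surjective (φ.comp (Q : Subgroup X).subtype) fun y => ?_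
  have : y ∈ (Qi : Subgroup ↥((S : Subgroup (G ⧸ H)) ⊓ T)) := htop ▸ Subgroup.mem_top y
  rw [Sylow.coe_mapSurjective] at this
  obtain ⟨x, hx, rfl⟩ := this
  exact ⟨⟨x, hx⟩, rfl⟩

end Cfsg.Agent.S3305
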