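import Cfsg.Statements.S4207
import Mathlib
-- import your own Cfsg.Agent.* helpers here

set_option autoImplicit false
open Cfsg

namespace Cfsg.Agent.S4207


open scoped Pointwise

theorem exists_generating_tuple {Q : Type*} [Group Q] [Finite Q] {p : ℕ} [Fact p.Prime] :
    ∀ (r : ℕ), Nat.card Q = p ^ r → ∃ f : Fin r → Q, Subgroup.closure (Set.range f) = ⊤ := by
  intro r hr
  have main : ∀ k ≤ r, ∃ f : Fin k → Q, Subgroup.closure (Set.range f) = ⊤ ∨
      p ^ k ∣ Nat.card (Subgroup.closure (Set.range f)) := by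
    intro k
    induction k with
    | zero => intro _; exact ⟨Fin.elim0, Or.inr (by simp)⟩
    | succ k ih =>
      intro hk
      obtain ⟨f, hf⟩ := ih (by omega)
      rcases hf with htop | hdvd
      · exact ⟨Fin.snoc f 1, Or.inl (top_le_iff.mp (htop.ge.trans (Subgroup.closure_mono (by
          rintro _ ⟨i, rfl⟩; exact ⟨i.castSucc, Fin.snoc_castSucc _ _ _⟩))))⟩
      · by_cases htop : Subgroup.closure (Set.range f) = ⊤
        · exact ⟨Fin.snoc f 1, Or.inl (top_le_iff.mp (htop.ge.trans (Subgroup.closure_mono (by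
            rintro _ ⟨i, rfl⟩; exact ⟨i.castSucc, Fin.snoc_castSucc _ _ _⟩))))⟩
        obtain ⟨g, -, hg⟩ := SetLike.exists_of_lt (lt_top_iff_ne_top.mpr htop)
        refine ⟨Fin.snoc f g, Or.inr ?_⟩
        set A := Subgroup.closure (Set.range f)
        set B := Subgroup.closure (Set.range (Fin.snoc f g : Fin (k + 1) → Q))
        have hAB : A < B := by
          refine lt_of_le_of_ne (Subgroup.closure_mono (by
            rintro _ ⟨i, rfl⟩; exact ⟨i.castSucc, Fin.snoc_castSucc _ _ _⟩)) fun e => hg ?_
          rw [e]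
          exact Subgroup.subset_closure ⟨Fin.last k, Fin.snoc_last _ _⟩
        have hP : IsPGroup p Q := IsPGroup.of_card hr
        obtain ⟨a, ha⟩ := (hP.to_subgroup A).exists_card_eq
        obtain ⟨b, hb⟩ := (hP.to_subgroup B).exists_card_eq
        have hlt : Nat.card A < Nat.card B := by
          rcases lt_or_eq_of_le (Nat.le_of_dvd Nat.card_pos (Subgroup.card_dvd_of_le hAB.le)) with h | h
          · exact h
          · exact absurd (Subgroup.eq_of_le_of_card_ge hAB.le h.ge) hAB.ne
        rw [ha, hb] at hlt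
        have hab := (Nat.pow_lt_pow_iff_right (Fact.out : p.Prime).one_lt).mp hlt
        rw [ha] at hdvd
        have hka := (Nat.pow_dvd_pow_iff_le_right (Fact.out : p.Prime).one_lt).mp hdvd
        rw [hb]
        exact pow_dvd_pow p (by omega)
  obtain ⟨f, hf⟩ := main r le_rfl
  refine ⟨f, hf.elim id fun h => Subgroup.eq_top_of_card_eq _ ?_⟩
  rw [hr]
  exact Nat.dvd_antisymm (hr ▸ Subgroup.card_subgroup_dvd_card _) h

theorem aut_card_dvd {P : Type*} [Group P] [Finite P] {p n r : ℕ} [Fact p.Prime] (hP : Nat.card P = p ^ n)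
    (hr : (frattini P).index = p ^ r) (A : Subgroup (MulAut P))
    (hA : ∀ α ∈ A, ∀ x : P, α x * x⁻¹ ∈ frattini P) : Nat.card A ∣ p ^ (r * (n - r)) := by
  classical
  set F := frattini P
  set π := QuotientGroup.mk' F
  obtain ⟨f, hf⟩ := exists_generating_tuple (Q := P ⧸ F) (p := p) r hr
  let X := {v : Fin r → P // ∀ i, π (v i) = f i}
  letI : MulAction A X :=
    { smul := fun α v => ⟨fun i => (α : MulAut P) (v.1 i), fun i => by
        rw [← v.2 i]
        refine (QuotientGroup.mk'_eq_mk' F).mpr ⟨((α : MulAut P) (v.1 i))⁻¹ * v.1 i, ?_, by group⟩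
        have h1 := (inferInstance : F.Normal).conj_mem _ (inv_mem (hA α α.2 (v.1 i))) ((α : MulAut P) (v.1 i))⁻¹
        simpa [mul_assoc] using h1⟩
      one_smul := fun v => Subtype.ext (funext fun i => rfl)
      mul_smul := fun a b v => Subtype.ext (funext fun i => rfl) }
  have hgen : ∀ v : X, Subgroup.closure (Set.range v.1) = ⊤ := fun v => by
    refine frattini_nongenerating ?_
    have h1 : (Subgroup.closure (Set.range v.1)).map π = ⊤ := by
      rw [MonoidHom.map_closure, ← Set.range_comp, show π ∘ v.1 = f from funext v.2, hf]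
    have h2 := congrArg (Subgroup.comap π) h1
    rwa [Subgroup.comap_map_eq, QuotientGroup.ker_mk', Subgroup.comap_top] at h2
  have hfree : ∀ v : X, MulAction.stabilizer A v = ⊥ := fun v => by
    rw [Subgroup.eq_bot_iff_forall]
    intro α hα
    have h1 : ∀ i, (α : MulAut P) (v.1 i) = v.1 i := fun i =>
      congrFun (congrArg Subtype.val (MulAction.mem_stabilizer_iff.mp hα)) i
    apply Subtype.ext
    apply MulEquiv.toMonoidHom_injective
    refine MonoidHom.eq_of_eqOn_dense (hgen v) ?_
    rintro _ ⟨i, rfl⟩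
    exact h1 i
  have hX : Nat.card X = p ^ (r * (n - r)) := by
    rw [Nat.card_congr (Equiv.subtypePiEquivPi (p := fun i x => π x = f i)), Nat.card_pi]
    have h1 : ∀ i, Nat.card {x : P // π x = f i} = Nat.card F := fun i => by
      obtain ⟨a, ha⟩ := QuotientGroup.mk'_surjective F (f i)
      rw [← ha]
      refine Nat.card_congr ((Equiv.subtypeEquiv (Equiv.mulLeft a⁻¹) fun x => ?_))
      rw [QuotientGroup.mk'_apply, QuotientGroup.mk'_apply, eq_comm, QuotientGroup.eq]
      rfl
    simp only [h1, Finset.prod_const, Finset.card_univ, Fintype.card_fin]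
    have h2 : Nat.card F * p ^ r = p ^ n := by rw [← hr, F.card_mul_index, hP]
    have hrn : r ≤ n := (Nat.pow_dvd_pow_iff_le_right (Fact.out : p.Prime).one_lt).mp (h2 ▸ dvd_mul_left _ _)
    have h3 : Nat.card F = p ^ (n - r) := by
      refine mul_right_cancel₀ (pow_ne_zero r (Fact.out : p.Prime).ne_zero) ?_
      rw [h2, ← pow_add, Nat.sub_add_cancel hrn]
    rw [h3, ← pow_mul, mul_comm]
  rw [← hX]
  have := Fintype.ofFinite X
  have e := MulAction.selfEquivSigmaOrbitsQuotientStabilizer A X
  rw [Nat.card_congr e, Nat.card_sigma]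
  refine Finset.dvd_sum fun o _ => dvd_of_eq ?_
  rw [← Subgroup.index_eq_card, hfree, Subgroup.index_bot]

/-- Let `P` be a group of order `p^n` whose Frattini subgroup has index `p^r`. Then any group of automorphisms of `P` each of which induces the identity on the Frattini quotient has order dividing `p^(r(n-r))`; in particular it is a `p`-group. -/
theorem result {P : Type*} [Group P] [Finite P] {p n r : ℕ} [Fact p.Prime] (hP : Nat.card P = p ^ n) (hr : (frattini P).index = p ^ r) (A : Subgroup (MulAut P)) (hA : ∀ α ∈ A, ∀ x : P, α x * x⁻¹ ∈ frattini P) : Nat.card A ∣ p ^ (r * (n - r)) := by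
  exact aut_card_dvd hP hr A hA

end Cfsg.Agent.S4207
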