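import Cfsg.Statements.S4143
import Mathlib
-- import your own Cfsg.Agent.* helpers here

set_option autoImplicit false
open Cfsg

namespace Cfsg.Agent.S4143

open scoped commutatorElement

theorem isMulCommutative_of_central_index_le {X : Type*} [Group X] [Finite X] {p : ℕ} [hp : Fact p.Prime]
    (B C : Subgroup X) (hC : C ≤ B) (hcent : ∀ c ∈ C, ∀ b ∈ B, b * c = c * b)
    (hidx : Nat.card B ≤ Nat.card C * p) (hBp : IsPGroup p B := by exact (IsPGroup.to_subgroup (by assumption) _)) :
    IsMulCommutative B := by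
  have hle : C.subgroupOf B ≤ Subgroup.center B := fun c hc =>
    Subgroup.mem_center_iff.mpr fun b => Subtype.ext (hcent c hc b b.2)
  have hcyc : IsCyclic (B ⧸ Subgroup.center B) := by
    obtain ⟨k, hk⟩ := IsPGroup.iff_card.mp (hBp.to_quotient (Subgroup.center B))
    have hk1 : k ≤ 1 := by
      have h := Subgroup.card_eq_card_quotient_mul_card_subgroup (Subgroup.center B)
      rw [hk] at h
      have h1 : Nat.card C ≤ Nat.card (Subgroup.center B) :=
        (Nat.card_congr (Subgroup.subgroupOfEquivOfLe hC).toEquiv).ge.trans (Subgroup.card_le_of_le hle)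
      have h2 : p ^ k * Nat.card (Subgroup.center B) ≤ p ^ 1 * Nat.card (Subgroup.center B) := by
        rw [← h, pow_one]
        exact hidx.trans (by rw [Nat.mul_comm p]; exact Nat.mul_le_mul_right p h1)
      exact (Nat.pow_le_pow_iff_right hp.out.one_lt).mp (Nat.le_of_mul_le_mul_right h2 Nat.card_pos)
    rcases Nat.le_one_iff_eq_zero_or_eq_one.mp hk1 with rfl | rfl
    · rw [pow_zero] at hk
      have := (Nat.card_eq_one_iff_unique.mp hk).1
      infer_instance
    · exact isCyclic_of_prime_card (p := p) (by rw [hk, pow_one])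
  exact ⟨⟨fun a b => commutative_of_cyclic_center_quotient (QuotientGroup.mk' (Subgroup.center B))
    (QuotientGroup.ker_mk' _).le a b⟩⟩

theorem card_map_mk {G : Type*} [Group G] [Finite G] (N H : Subgroup G) [N.Normal] (h : N ≤ H) :
    Nat.card H = Nat.card N * Nat.card (H.map (QuotientGroup.mk' N)) := by
  let f := (QuotientGroup.mk' N).subgroupMap H
  rw [← f.ker.card_mul_index, Subgroup.index_ker, MonoidHom.range_eq_top.mpr (MonoidHom.subgroupMap_surjective _ _),
    Subgroup.card_top]
  congr 1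
  have : f.ker = N.subgroupOf H := by
    ext x
    rw [MonoidHom.mem_ker, Subgroup.mem_subgroupOf, ← QuotientGroup.eq_one_iff (N := N), Subtype.ext_iff]
    rfl
  rw [this]
  exact Nat.card_congr (Subgroup.subgroupOfEquivOfLe h).toEquiv

theorem comm_mul_left {X : Type*} [Group X] (g h b : X) (hz : ⁅h, b⁆ ∈ Subgroup.center X) :
    ⁅g * h, b⁆ = ⁅g, b⁆ * ⁅h, b⁆ := by
  have hc := Subgroup.mem_center_iff.mp hz
  calc ⁅g * h, b⁆ = g * ⁅h, b⁆ * (b * g⁻¹ * b⁻¹) := by simp only [commutatorElement_def]; group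
    _ = ⁅g, b⁆ * ⁅h, b⁆ := by
      rw [mul_assoc g, ← hc (b * g⁻¹ * b⁻¹), ← mul_assoc]
      congr 1
      simp only [commutatorElement_def]; group

theorem exists_small_centralizer {X : Type*} [Group X] [Finite X] {p : ℕ} [hp : Fact p.Prime] {n : ℕ}
    (hX : Nat.card X = p ^ n) (A : Subgroup X) (hA : Nat.card A = p ^ 2)
    (hself : Subgroup.centralizer (A : Set X) ≤ A) : ∃ x : X, Nat.card (Subgroup.centralizer ({x} : Set X)) = p ^ 2 := by
  have hcomm : ∀ a ∈ A, ∀ b ∈ A, a * b = b * a := fun a ha b hb =>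
    congrArg Subtype.val ((IsPGroup.commGroupOfCardEqPrimeSq hA).mul_comm ⟨a, ha⟩ ⟨b, hb⟩)
  have heq : Subgroup.centralizer (A : Set X) = A :=
    le_antisymm hself fun a ha => Subgroup.mem_centralizer_iff.mpr fun b hb => hcomm b hb a ha
  by_cases hZ : A ≤ Subgroup.center X
  · refine ⟨1, ?_⟩
    rw [← hA]
    congr 2
    refine le_antisymm (fun g _ => hself (Subgroup.mem_centralizer_iff.mpr fun a ha =>
      (Subgroup.mem_center_iff.mp (hZ ha) g).symm)) fun g _ => Subgroup.mem_centralizer_singleton_iff.mpr (by simp)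
  obtain ⟨x, hxA, hxZ⟩ := SetLike.not_le_iff_exists.mp hZ
  refine ⟨x, ?_⟩
  rw [← hA]
  congr 2
  refine le_antisymm (fun g hg => hself (Subgroup.mem_centralizer_iff.mpr fun a ha => ?_))
    fun g hg => Subgroup.mem_centralizer_singleton_iff.mpr (hcomm g hg x hxA)
  have hne : (A : Subgroup X) ≠ ⊥ := fun e => by
    rw [e, Subgroup.card_bot] at hA
    exact absurd hA.symm (Nat.one_lt_pow (by norm_num) hp.out.one_lt).ne'
  have hPX : IsPGroup p X := IsPGroup.of_card hX
  have : Nontrivial X := ⟨⟨x, 1, fun e => hxZ (e ▸ one_mem _)⟩⟩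
  have hZA : Subgroup.center X ≤ A := (Subgroup.center_le_centralizer _).trans hself
  have hsup : Subgroup.center X ⊔ Subgroup.zpowers x = A := by
    set S := Subgroup.center X ⊔ Subgroup.zpowers x with hS
    have hSA : S ≤ A := sup_le hZA (Subgroup.zpowers_le.mpr hxA)
    obtain ⟨k, hk, hk'⟩ := (Nat.dvd_prime_pow hp.out).mp (hA ▸ Subgroup.card_dvd_of_le hSA)
    obtain ⟨l, hl, hl'⟩ := (Nat.dvd_prime_pow hp.out).mp (hA ▸ Subgroup.card_dvd_of_le hZA)
    have hl0 : l ≠ 0 := fun e => (Subgroup.nontrivial_iff_ne_bot _).mp hPX.center_nontrivial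
      (Subgroup.card_eq_one.mp (by rw [hl', e, pow_zero]))
    have hlk : l < k := by
      rw [← Nat.pow_lt_pow_iff_right hp.out.one_lt, ← hl', ← hk']
      refine lt_of_le_of_ne (Subgroup.card_le_of_le le_sup_left) fun e => hxZ ?_
      rw [Subgroup.eq_of_le_of_card_ge le_sup_left e.ge]
      exact Subgroup.mem_sup_right (Subgroup.mem_zpowers x)
    exact Subgroup.eq_of_le_of_card_ge hSA (by rw [hk', hA, show k = 2 by omega])
  have hle : A ≤ Subgroup.centralizer ({g} : Set X) := by
    rw [← hsup, sup_le_iff, Subgroup.zpowers_le]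
    exact ⟨fun z hz => Subgroup.mem_centralizer_singleton_iff.mpr (Subgroup.mem_center_iff.mp hz g).symm,
      Subgroup.mem_centralizer_singleton_iff.mpr (Subgroup.mem_centralizer_singleton_iff.mp hg).symm⟩
  exact Subgroup.mem_centralizer_singleton_iff.mp (hle ha)

theorem class_eq {p : ℕ} [hp : Fact p.Prime] : ∀ (n : ℕ) {X : Type*} [Group X] [Finite X] (_ : Nat.card X = p ^ n)
    (x : X) (_ : Nat.card (Subgroup.centralizer ({x} : Set X)) = p ^ 2), Group.nilpotencyClass X = n - 1 := by
  intro n
  induction n using Nat.strong_induction_on with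
  | _ n ih =>
  intro X _ _ hX x hx
  have hp1 := hp.out.one_lt
  have hn : 2 ≤ n := (Nat.pow_le_pow_iff_right hp1).mp (hX ▸ hx ▸ Subgroup.card_le_card_group _)
  have hPX : IsPGroup p X := IsPGroup.of_card hX
  have := hPX.isNilpotent
  have : Nontrivial X := by
    rw [← Finite.one_lt_card_iff_nontrivial, hX]
    exact Nat.one_lt_pow (by omega) hp1
  rcases eq_or_lt_of_le hn with rfl | hn3
  · have h1 : Group.nilpotencyClass X ≤ 1 := by
      rw [← Subgroup.upperCentralSeries_eq_top_iff_nilpotencyClass_le, Subgroup.upperCentralSeries_one, eq_top_iff]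
      exact fun g _ => Subgroup.mem_center_iff.mpr fun h => (IsPGroup.commGroupOfCardEqPrimeSq hX).mul_comm h g
    have h2 : Group.nilpotencyClass X ≠ 0 := fun e => not_subsingleton X (nilpotencyClass_zero_iff_subsingleton.mp e)
    omega
  set Z := Subgroup.center X with hZdef
  set C := Subgroup.centralizer ({x} : Set X) with hCdef
  have hxZ : x ∉ Z := fun hxZ => by
    have h : C = ⊤ := eq_top_iff.mpr fun g _ => Subgroup.mem_centralizer_singleton_iff.mpr (Subgroup.mem_center_iff.mp hxZ g)
    rw [h, Subgroup.card_top, hX] at hx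
    exact absurd (Nat.pow_right_injective hp.out.two_le hx) (by omega)
  have hZC : Z ≤ C := Subgroup.center_le_centralizer _
  have hxC : x ∈ C := Subgroup.mem_centralizer_singleton_iff.mpr rfl
  have hZc : Nat.card Z = p := by
    obtain ⟨l, hl, hl'⟩ := (Nat.dvd_prime_pow hp.out).mp (hx ▸ Subgroup.card_dvd_of_le hZC)
    have hl0 : l ≠ 0 := fun e => (Subgroup.nontrivial_iff_ne_bot _).mp hPX.center_nontrivial
      (Subgroup.card_eq_one.mp (by rw [hl', e, pow_zero]))
    have hl2 : l ≠ 2 := fun e => hxZ ((Subgroup.eq_of_le_of_card_ge hZC (by rw [hl', hx, e])).symm ▸ hxC)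
    rw [hl', show l = 1 by omega, pow_one]
  let π := QuotientGroup.mk' Z
  set D := (Subgroup.centralizer ({π x} : Set (X ⧸ Z))).comap π with hD
  have hmap : ∀ g : X, g ∈ D → ⁅g, x⁆ ∈ Z := fun g hg => by
    refine (QuotientGroup.eq_one_iff _).mp ?_
    show π ⁅g, x⁆ = 1
    rw [map_commutatorElement, commutatorElement_eq_one_iff_mul_comm]
    exact Subgroup.mem_centralizer_singleton_iff.mp hg
  let f : D →* Z :=
    { toFun := fun g => ⟨⁅(g : X), x⁆, hmap g g.2⟩
      map_one' := Subtype.ext (commutatorElement_one_left _)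
      map_mul' := fun g h => Subtype.ext (comm_mul_left (g : X) h x (hmap h h.2)) }
  have hker : f.ker.map D.subtype ≤ C := by
    rintro _ ⟨g, hg, rfl⟩
    exact Subgroup.mem_centralizer_singleton_iff.mpr
      (commutatorElement_eq_one_iff_mul_comm.mp (congrArg Subtype.val hg))
  have hZD : Z ≤ D := fun z hz => Subgroup.mem_centralizer_singleton_iff.mpr
    (by rw [(QuotientGroup.eq_one_iff z).mpr hz |> fun h => (show π z = 1 from h), one_mul, mul_one])
  have hDle : Nat.card D ≤ p ^ 2 * p := by
    rw [← f.ker.card_mul_index, Subgroup.index_ker]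
    refine Nat.mul_le_mul ?_ ((Subgroup.card_le_card_group _).trans hZc.le)
    rw [← hx, ← Subgroup.card_map_of_injective D.subtype_injective]
    exact Subgroup.card_le_of_le hker
  have hQ : Nat.card (X ⧸ Z) = p ^ (n - 1) := by
    have h := Subgroup.card_eq_card_quotient_mul_card_subgroup Z
    rw [hX, hZc, show n = n - 1 + 1 by omega, pow_succ] at h
    exact (Nat.eq_of_mul_eq_mul_right hp.out.pos h).symm
  set E := Subgroup.centralizer ({π x} : Set (X ⧸ Z)) with hE
  have hDE : Nat.card D = p * Nat.card E := by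
    have h := card_map_mk Z D hZD
    rw [hZc, hD, Subgroup.map_comap_eq_self_of_surjective (QuotientGroup.mk'_surjective Z)] at h
    exact h
  have hQp : IsPGroup p (X ⧸ Z) := IsPGroup.of_card hQ
  have hEle : Nat.card E ≤ p ^ 2 := by
    refine Nat.le_of_mul_le_mul_left ?_ hp.out.pos
    rw [← hDE, Nat.mul_comm p]
    exact hDle
  have hxE : π x ∈ E := Subgroup.mem_centralizer_singleton_iff.mpr rfl
  have hE2 : Nat.card E = p ^ 2 := by
    obtain ⟨l, hl, hl'⟩ := (Nat.dvd_prime_pow hp.out).mp (hQ ▸ Subgroup.card_subgroup_dvd_card E)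
    have hl2 : l ≤ 2 := (Nat.pow_le_pow_iff_right hp1).mp (hl' ▸ hEle)
    have hx1 : π x ≠ 1 := fun e => hxZ ((QuotientGroup.eq_one_iff x).mp e)
    have : Nontrivial (X ⧸ Z) := ⟨⟨π x, 1, hx1⟩⟩
    by_contra hne
    have hl1 : l ≤ 1 := by
      by_contra h
      exact hne (by rw [hl', show l = 2 by omega])
    have hzE : Subgroup.center (X ⧸ Z) ≤ E := Subgroup.center_le_centralizer _
    obtain ⟨k, hk, hk'⟩ := (Nat.dvd_prime_pow hp.out).mp (hl' ▸ Subgroup.card_dvd_of_le hzE)
    have hk0 : k ≠ 0 := fun e => (Subgroup.nontrivial_iff_ne_bot _).mp hQp.center_nontrivial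
      (Subgroup.card_eq_one.mp (by rw [hk', e, pow_zero]))
    have heq := Subgroup.eq_of_le_of_card_ge hzE (by rw [hl', hk', show k = l by omega])
    rw [← heq] at hxE
    have htop : E = ⊤ := eq_top_iff.mpr fun g _ =>
      Subgroup.mem_centralizer_singleton_iff.mpr (Subgroup.mem_center_iff.mp hxE g)
    rw [htop, Subgroup.card_top, hQ] at hl'
    have := Nat.pow_right_injective hp.out.two_le hl'
    omega
  have h := ih (n - 1) (by omega) hQ (π x) hE2
  have h' := Group.nilpotencyClass_quotient_center (G := X)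
  rw [h] at h'
  omega

/-- Let X be a finite p-group of order p^n containing a non-abelian subgroup B of order p³ with C_X(B) ≤ B. Then X has nilpotency class n − 1 (maximal class). -/
theorem result {X : Type*} [Group X] [Finite X] {p : ℕ} [Fact p.Prime] (n : ℕ) (hX : Nat.card X = p ^ n)
    (B : Subgroup X) (hB : Nat.card B = p ^ 3) (hBna : ¬ IsMulCommutative B) (hC : Subgroup.centralizer (B : Set X) ≤ B) :
    Group.nilpotencyClass X = n - 1 := by
  classical
  have hp := (Fact.out : p.Prime)
  have hPX : IsPGroup p X := IsPGroup.of_card hX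
  have hB1 : 1 < Nat.card B := by rw [hB]; exact Nat.one_lt_pow (by norm_num) hp.one_lt
  have : Nontrivial X := by
    rw [← Finite.one_lt_card_iff_nontrivial]
    exact hB1.trans_le (Subgroup.card_le_card_group B)
  have := hPX.isNilpotent
  have hZne : Subgroup.center X ≠ ⊥ := fun e => (Subgroup.nontrivial_iff_ne_bot _).mp hPX.center_nontrivial e
  set C := Subgroup.centralizer (B : Set X) with hCdef
  have hZC : Subgroup.center X ≤ C := Subgroup.center_le_centralizer _
  -- the centralizer of `B` has order `p`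
  have hCc : Nat.card C ≤ p := by
    obtain ⟨k, hk, hk'⟩ := (Nat.dvd_prime_pow hp).mp (hB ▸ Subgroup.card_dvd_of_le hC)
    by_contra hlt
    have hk2 : 2 ≤ k := by
      by_contra h
      exact hlt (hk' ▸ (Nat.pow_le_pow_right hp.pos (by omega : k ≤ 1)).trans (pow_one p).le)
    refine hBna (isMulCommutative_of_central_index_le B C hC (fun c hc b hb => Subgroup.mem_centralizer_iff.mp hc b hb) ?_)
    rw [hB, hk', show p ^ 3 = p ^ 2 * p from pow_succ p 2]
    exact Nat.mul_le_mul_right p (Nat.pow_le_pow_right hp.pos hk2)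
  have hZc : Nat.card (Subgroup.center X) = p := by
    refine le_antisymm ((Subgroup.card_le_of_le hZC).trans hCc) ?_
    obtain ⟨k, hk, hk'⟩ := (Nat.dvd_prime_pow hp).mp (hX ▸ Subgroup.card_subgroup_dvd_card (Subgroup.center X))
    rcases Nat.eq_zero_or_pos k with rfl | hkpos
    · exact absurd (Subgroup.card_eq_one.mp hk') hZne
    · exact hk' ▸ Nat.le_self_pow hkpos.ne' p
  set Z := Subgroup.center X with hZdef
  have hCZ : C = Z := (Subgroup.eq_of_le_of_card_ge hZC (hCc.trans hZc.ge)).symm
  have hZB : Z ≤ B := hZC.trans hC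
  -- two generators of `B` over `Z`
  have hlt : Z < B := lt_of_le_of_ne hZB fun e => by
    have := congrArg (fun H : Subgroup X => Nat.card H) e
    simp only [hZc, hB] at this
    exact absurd this (lt_self_pow₀ hp.one_lt (by norm_num)).ne
  obtain ⟨b, hb, hbZ⟩ := SetLike.exists_of_lt hlt
  obtain ⟨c, hc, hbc⟩ : ∃ c ∈ B, b * c ≠ c * b := by
    by_contra h
    push Not at h
    exact hbZ (hCZ ▸ Subgroup.mem_centralizer_iff.mpr fun x hx => (h x hx).symm)
  have hgen : Subgroup.closure ({b, c} : Set X) ⊔ Z = B := by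
    set W := Subgroup.closure ({b, c} : Set X) ⊔ Z with hW
    have hWB : W ≤ B := sup_le ((Subgroup.closure_le _).mpr (by rintro x (rfl | rfl); exacts [hb, hc])) hZB
    by_contra hne
    have hmem : ∀ x ∈ ({b, c} : Set X), x ∈ W := fun x hx => Subgroup.mem_sup_left (Subgroup.subset_closure hx)
    obtain ⟨k, hk, hk'⟩ := (Nat.dvd_prime_pow hp).mp (hB ▸ Subgroup.card_dvd_of_le hWB)
    have hk3 : k ≠ 3 := fun e => hne (Subgroup.eq_of_le_of_card_ge hWB (by rw [hk', hB, e]))
    have hcomm : IsMulCommutative W := isMulCommutative_of_central_index_le W Z le_sup_right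
      (fun z hz x _ => Subgroup.mem_center_iff.mp hz x) (by
        rw [hk', hZc, ← pow_two]
        exact Nat.pow_le_pow_right hp.pos (by omega))
    exact hbc (congrArg Subtype.val (hcomm.is_comm.comm ⟨b, hmem b (by simp)⟩ ⟨c, hmem c (by simp)⟩))
  -- the image of `B` is self-centralizing of order `p ^ 2`
  let π := QuotientGroup.mk' Z
  set A := B.map π with hA
  have hcardmap : ∀ H : Subgroup X, Z ≤ H → Nat.card H = p * Nat.card (H.map π) := fun H hH => by
    rw [← hZc]; exact card_map_mk Z H hH
  have hAc : Nat.card A = p ^ 2 := by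
    have h := hcardmap B hZB
    rw [hB, pow_succ'] at h
    exact (Nat.eq_of_mul_eq_mul_left hp.pos h).symm
  have hDB : (Subgroup.centralizer (A : Set (X ⧸ Z))).comap π ≤ B := by
    set D := (Subgroup.centralizer (A : Set (X ⧸ Z))).comap π with hD
    have hmap : ∀ x ∈ B, ∀ g : X, g ∈ D → ⁅g, x⁆ ∈ Z := by
      intro x hx g hg
      refine (QuotientGroup.eq_one_iff _).mp ?_
      show π ⁅g, x⁆ = 1
      rw [map_commutatorElement, commutatorElement_eq_one_iff_mul_comm]
      exact (Subgroup.mem_centralizer_iff.mp hg _ ⟨x, hx, rfl⟩).symm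
    let f : D →* Z × Z :=
      { toFun := fun g => (⟨⁅(g : X), b⁆, hmap b hb g g.2⟩, ⟨⁅(g : X), c⁆, hmap c hc g g.2⟩)
        map_one' := by
          refine Prod.ext (Subtype.ext ?_) (Subtype.ext ?_) <;> exact commutatorElement_one_left _
        map_mul' := fun g h => by
          refine Prod.ext (Subtype.ext ?_) (Subtype.ext ?_)
          · exact comm_mul_left (g : X) h b (hmap b hb h h.2)
          · exact comm_mul_left (g : X) h c (hmap c hc h h.2) }
    have hker : f.ker.map D.subtype ≤ Z := by
      rintro _ ⟨g, hg, rfl⟩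
      have hg' : f g = 1 := hg
      rw [← hCZ]
      refine Subgroup.mem_centralizer_iff.mpr fun x hx => ?_
      have hle : B ≤ Subgroup.centralizer ({(g : X)} : Set X) := by
        rw [← hgen, sup_le_iff, Subgroup.closure_le]
        refine ⟨?_, fun z hz => Subgroup.mem_centralizer_singleton_iff.mpr (Subgroup.mem_center_iff.mp hz _).symm⟩
        rintro y (rfl | rfl)
        · exact Subgroup.mem_centralizer_singleton_iff.mpr
            (commutatorElement_eq_one_iff_mul_comm.mp (congrArg Subtype.val (congrArg Prod.fst hg'))).symm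
        · exact Subgroup.mem_centralizer_singleton_iff.mpr
            (commutatorElement_eq_one_iff_mul_comm.mp (congrArg Subtype.val (congrArg Prod.snd hg'))).symm
      exact Subgroup.mem_centralizer_singleton_iff.mp (hle hx)
    have hBD : B ≤ D := by
      intro g hg
      refine Subgroup.mem_centralizer_iff.mpr ?_
      rintro _ ⟨x, hx, rfl⟩
      have hcomm : IsMulCommutative A := ⟨⟨(IsPGroup.commGroupOfCardEqPrimeSq hAc).mul_comm⟩⟩
      exact congrArg Subtype.val (hcomm.is_comm.comm (⟨π x, ⟨x, hx, rfl⟩⟩ : A) ⟨π g, ⟨g, hg, rfl⟩⟩)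
    refine (Subgroup.eq_of_le_of_card_ge hBD ?_).ge
    rw [← f.ker.card_mul_index, hB, pow_succ' p 2, Subgroup.index_ker]
    refine Nat.mul_le_mul ?_ ?_
    · rw [← hZc, ← Subgroup.card_map_of_injective D.subtype_injective]
      exact Subgroup.card_le_of_le hker
    · exact ((Subgroup.card_le_card_group f.range).trans (by rw [Nat.card_prod, hZc, pow_two]))
  have hsurj : Function.Surjective π := QuotientGroup.mk'_surjective Z
  have hself : Subgroup.centralizer (A : Set (X ⧸ Z)) ≤ A := by
    rw [← Subgroup.map_comap_eq_self_of_surjective hsurj (Subgroup.centralizer (A : Set (X ⧸ Z))), hA]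
    exact Subgroup.map_mono hDB
  -- conclude
  have hn3 : 3 ≤ n := (Nat.pow_le_pow_iff_right hp.one_lt).mp (hB ▸ hX ▸ Subgroup.card_le_card_group B)
  have hQ : Nat.card (X ⧸ Z) = p ^ (n - 1) := by
    have h := Subgroup.card_eq_card_quotient_mul_card_subgroup Z
    rw [hX, hZc, show n = n - 1 + 1 by omega, pow_succ] at h
    exact (Nat.eq_of_mul_eq_mul_right hp.pos h).symm
  obtain ⟨x, hx⟩ := exists_small_centralizer hQ A hAc hself
  have h := class_eq (n - 1) hQ x hx
  have h' := Group.nilpotencyClass_quotient_center (G := X)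
  rw [h] at h'
  omega

end Cfsg.Agent.S4143
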