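import Cfsg.Statements.S4399
import Mathlib
import Cfsg.Agent.Lib.TausskyTwo
-- import your own Cfsg.Agent.* helpers here

set_option autoImplicit false
open Cfsg

namespace Cfsg.Agent.S4399

/-- Let S be a finite 2-group whose commutator quotient S/[S,S] is a Klein four-group (order 4 and exponent 2). Then S itself has order 4, or S is dihedral of order at least 8, semidihedral of order at least 16 (order 2^(k+4) with an element a of order 2^(k+3) and an involution b with b a b⁻¹ = a^(2^(k+2)−1)), or generalized quaternion of order at least 8. -/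
theorem result {S : Type*} [Group S] [Finite S] (h2 : IsPGroup 2 S) (hab : Nat.card (Abelianization S) = 4)
    (hexp : ∀ x : Abelianization S, x ^ 2 = 1) :
    Nat.card S = 4 ∨
    ((∃ k : ℕ, Nonempty (S ≃* DihedralGroup (2 ^ (k + 2)))) ∨
      (∃ k : ℕ, Nat.card S = 2 ^ (k + 4) ∧ ∃ a b : S, orderOf a = 2 ^ (k + 3) ∧ orderOf b = 2 ∧ b * a * b⁻¹ = a ^ (2 ^ (k + 2) - 1)) ∨
      (∃ k : ℕ, Nonempty (S ≃* QuaternionGroup (2 ^ (k + 1))))) := by
  have := Fact.mk Nat.prime_two
  have h4 : (commutator S).index = 4 := hab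
  have hsq : ∀ g : S, g ^ 2 ∈ commutator S := fun g => by
    have := hexp (Abelianization.of g)
    rwa [← map_pow, ← MonoidHom.mem_ker, Abelianization.ker_of] at this
  obtain ⟨k, hk⟩ := h2.exists_card_eq
  by_cases h8 : 8 ≤ Nat.card S
  swap
  · left
    have h5 := (commutator S).card_mul_index
    rw [h4] at h5
    have h6 : 0 < Nat.card (commutator S) := Nat.card_pos
    omega
  right
  obtain ⟨m, a, b, hm, ha, hcard, hb, hgen, hshape⟩ := CfsgLib.TausskyTwo.cases_taussky h2 h4 hsq h8
  rcases hshape with ⟨hconj, hs | hs⟩ | ⟨hm3, hconj, hs⟩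
  · exact Or.inl ⟨m - 2, CfsgLib.TausskyTwo.dihedral_iso (pow_pos two_pos _) a b
      (by rw [ha, show m - 2 + 2 = m by omega]) hs hconj hb hgen⟩
  · exact Or.inr (Or.inr ⟨m - 2, CfsgLib.Frob.quaternion_iso (pow_pos two_pos _) a b
      (by rw [ha, ← pow_succ', show m - 2 + 1 + 1 = m by omega]) (by rw [hs, show m - 2 + 1 = m - 1 by omega]) hconj hb hgen⟩)
  · refine Or.inr (Or.inl ⟨m - 3, by rw [hcard, show m - 3 + 4 = m + 1 by omega], a, b,
      by rw [ha, show m - 3 + 3 = m by omega], ?_, by rw [hconj, show m - 3 + 2 = m - 1 by omega]⟩)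
    refine orderOf_eq_prime hs fun e => hb ?_
    rw [e]; exact one_mem _

end Cfsg.Agent.S4399
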