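import Cfsg.Statements.S5212
import Cfsg.Agent.Lib.MetacyclicTwoAut
import Cfsg.Agent.Lib.Metacyclic
import Cfsg.Agent.Lib.MaximalClass
import Cfsg.Agent.Lib.Fusion.Inner
import Cfsg.Agent.Lib.Fusion.EssentialSmall.Basic
import Cfsg.Agent.S4143
import Cfsg.Agent.S4399
-- import your own Cfsg.Agent.* helpers here

set_option autoImplicit false
open Cfsg

namespace Cfsg.Agent.S5212

open Cfsg.FusionSystem

/-- A subgroup of a metacyclic group is metacyclic. -/
theorem metacyclic_of_injective {E X : Type*} [Group E] [Group X] (f : E →* X) (hf : Function.Injective f)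
    {N : Subgroup X} [N.Normal] [IsCyclic N] [IsCyclic (X ⧸ N)] :
    IsCyclic (N.comap f) ∧ IsCyclic (E ⧸ N.comap f) := by
  refine ⟨isCyclic_of_injective ((f.comp (N.comap f).subtype).codRestrict N (fun x => x.2))
    (fun a b h => Subtype.ext (hf (congrArg Subtype.val h))), ?_⟩
  refine isCyclic_of_injective (QuotientGroup.map (N.comap f) N f le_rfl) ?_
  rw [injective_iff_map_eq_one]
  intro q
  induction q using QuotientGroup.induction_on with
  | H y => exact fun h => (QuotientGroup.eq_one_iff y).2 ((QuotientGroup.eq_one_iff (f y)).1 h)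

/-- An automorphism of odd order of an abelian `2`-group fixing its involutions is trivial. -/
theorem eq_one_of_fix_involutions {E : Type*} [Group E] [Finite E] (hE : IsPGroup 2 E)
    (hab : ∀ a b : E, a * b = b * a) (β : MulAut E) (hodd : Odd (orderOf β))
    (h : ∀ x : E, x * x = 1 → β x = x) : β = 1 := by
  have key : ∀ (n : ℕ) (x : E), x ^ 2 ^ n = 1 → β x = x := by
    intro n
    induction n with
    | zero => intro x hx; simp at hx; simp [hx]
    | succ n ih =>
      intro x hx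
      have h2 : β (x * x) = x * x := ih _ (by rw [← pow_two, ← pow_mul, ← pow_succ']; exact hx)
      obtain ⟨w, hw⟩ : ∃ w, β x = x * w := ⟨x⁻¹ * β x, by rw [mul_inv_cancel_left]⟩
      have hw2 : w * w = 1 := by
        rw [map_mul, hw] at h2
        have e : x * x * (w * w) = x * x := by
          calc x * x * (w * w) = x * (x * w) * w := by group
            _ = x * (w * x) * w := by rw [hab x w]
            _ = x * x := by rw [← mul_assoc, mul_assoc]; exact h2
        exact mul_eq_left.1 e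
      have hit : ∀ m : ℕ, (β ^ m) x = x * w ^ m := by
        intro m
        induction m with
        | zero => simp
        | succ m ihm =>
          rw [pow_succ', MulAut.mul_apply, ihm, map_mul, map_pow, h w hw2, hw, pow_succ', mul_assoc]
      have h1 := hit (orderOf β)
      rw [pow_orderOf_eq_one, MulAut.one_apply, eq_comm, mul_eq_left] at h1
      obtain ⟨r, hr⟩ := hodd
      rw [hr, pow_succ, pow_mul, pow_two, hw2, one_pow, one_mul] at h1
      rw [hw, h1, mul_one]
  refine MulEquiv.ext fun x => ?_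
  obtain ⟨n, hn⟩ := hE x
  exact key n x hn


/-- Let S be a finite metacyclic 2-group that is not homocyclic abelian (a direct product of cyclic groups of one common order), not dihedral, not semidihedral and not generalized quaternion. Then every saturated fusion system over S is the inner fusion system of S. -/
theorem result {Ω : Type*} [Group Ω] {S : Subgroup Ω} [Finite S] (hS : IsPGroup 2 S) (F : Cfsg.FusionSystem S) (hF : F.IsSaturated 2) (hm : Cfsg.IsMetacyclic ↥S) (hh : ¬ ∃ n k : ℕ, Nonempty (↥S ≃* Multiplicative (Fin k → ZMod (2 ^ n)))) (hd : ¬ ∃ m : ℕ, Nonempty (↥S ≃* DihedralGroup m)) (hq : ¬ ∃ m : ℕ, Nonempty (↥S ≃* QuaternionGroup m)) (hsd : ¬ Cfsg.IsQuasiDihedral ↥S) : ∀ P : Subgroup Ω, F.Hom P = (Cfsg.innerFusionSystem S).Hom P := by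
  classical
  haveI : Fact (Nat.Prime 2) := ⟨Nat.prime_two⟩
  have hhom : ∀ n : ℕ, ¬ Nonempty (↥S ≃* Multiplicative (ZMod (2 ^ n)) × Multiplicative (ZMod (2 ^ n))) := by
    rintro n ⟨e⟩
    exact hh ⟨n, 2, ⟨e.trans (((LinearEquiv.piFinTwo ℕ (fun _ => ZMod (2 ^ n))).toAddEquiv.symm.toMultiplicative
      : Multiplicative (ZMod (2 ^ n) × ZMod (2 ^ n)) ≃* Multiplicative (Fin 2 → ZMod (2 ^ n))) |>
        fun e' => (MulEquiv.prodMultiplicative (ZMod (2 ^ n)) (ZMod (2 ^ n))).symm.trans e')⟩⟩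
  -- `S` is not of maximal class
  have hclass : ∀ k : ℕ, 3 ≤ k → Nat.card S = 2 ^ k → Group.nilpotencyClass ↥S ≠ k - 1 := by
    intro k hk hcard hcl
    have h4 : (commutator S).index = 4 := CfsgLib.MaximalClass.index_commutator (p := 2) hk hcard hcl
    have hexp : ∀ x : Abelianization S, x ^ 2 = 1 := by
      intro x
      induction x using QuotientGroup.induction_on with
      | H y => exact (QuotientGroup.eq_one_iff _).2 (CfsgLib.MaximalClass.pow_mem_commutator hk hcard hcl y)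
    rcases Cfsg.Agent.S4399.result hS h4 hexp with h | ⟨m, e⟩ | ⟨m, hm', x, y, hx, hy, hxy⟩ | ⟨m, e⟩
    · rw [hcard] at h
      have : 2 ^ 3 ≤ 2 ^ k := Nat.pow_le_pow_right two_pos hk
      omega
    · exact hd ⟨_, e⟩
    · refine hsd ⟨m + 3, by omega, by rw [hm'], x, y, hx, hy, ?_⟩
      rwa [show m + 3 - 1 = m + 2 by omega]
    · exact hq ⟨_, e⟩
  obtain ⟨N, hNn, hNc, hNq⟩ := id hm
  haveI := hNn
  haveI := hNc
  haveI := hNq
  suffices hle : F ≤ innerFusionSystem S from fun P => Set.Subset.antisymm (hle P) (innerFusionSystem_le F P)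
  refine hF.le_of_autGroup_le hS _ fun E hE => ?_
  rcases hE with rfl | hE
  · rw [hF.autGroup_self_eq_inn hS ?_, autGroup_innerFusionSystem le_rfl, inn_eq_autInducedBy]
    by_contra hA
    have hA' : ¬ IsPGroup 2 (MulAut ↥E) := fun h => hA (h.to_subgroup _)
    rcases CfsgLib.MetacyclicTwo.quaternion_or_homocyclic hS hm hA' with e | ⟨n, e⟩
    · exact hq ⟨_, e⟩
    · exact hhom n e
  exfalso
  have hES : E ≤ S := hE.1.1
  haveI : Finite E := finite_of_le hES
  haveI := finite_autGroup (F := F) hES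
  have hEp : IsPGroup 2 E := hS.to_le hES
  have hA : ¬ IsPGroup 2 (MulAut ↥E) := by
    intro hp
    obtain ⟨hc, -, hnorm, D, hD⟩ := id hE
    have hp' : IsPGroup 2 (⊤ : Subgroup (F.autGroup E ⧸ (Inn E).subgroupOf (F.autGroup E))) :=
      (((hp.to_subgroup _).to_quotient _)).of_equiv Subgroup.topEquiv.symm
    have htop := Cfsg.IsStronglyPEmbedded.eq_bot_of_normal_pGroup hD ⊤ hp'
    obtain ⟨hdvd, -⟩ := hD
    have h1 : Nat.card (F.autGroup E ⧸ (Inn E).subgroupOf (F.autGroup E)) = 1 := by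
      rw [← Subgroup.card_top, htop, Subgroup.card_bot]
    rw [h1] at hdvd
    exact Nat.prime_two.not_dvd_one hdvd
  obtain ⟨hNEc, hNEq⟩ := metacyclic_of_injective (N := N) (Subgroup.inclusion hES) (Subgroup.inclusion_injective hES)
  haveI := hNEc
  haveI := hNEq
  have hEm : Cfsg.IsMetacyclic ↥E := ⟨_, inferInstance, hNEc, hNEq⟩
  obtain ⟨k, hk⟩ := hS.exists_card_eq
  have hlt : E < S := hE.lt hS hF
  have hcardlt : Nat.card E < Nat.card S := by
    rcases lt_or_eq_of_le (Subgroup.card_le_of_le hlt.le) with h | h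
    · exact h
    · exact absurd (Subgroup.eq_of_le_of_card_ge hlt.le h.ge) hlt.ne
  have hcen : Subgroup.centralizer ((E.subgroupOf S : Subgroup S) : Set S) ≤ E.subgroupOf S := by
    intro x hx
    refine hE.1.centralizerIn_le_self ⟨x.2, Subgroup.mem_centralizer_iff.2 fun w hw => ?_⟩
    exact congrArg Subtype.val (Subgroup.mem_centralizer_iff.1 hx ⟨w, hES hw⟩ hw)
  have hEcard : Nat.card (E.subgroupOf S) = Nat.card E := Nat.card_congr (Subgroup.subgroupOfEquivOfLe hES).toEquiv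
  rcases CfsgLib.MetacyclicTwo.quaternion_or_homocyclic hEp hEm hA with eQ' | ⟨n, eH'⟩
  · -- the quaternion group
    obtain ⟨eQ⟩ := eQ'
    have h8 : Nat.card E = 2 ^ 3 := by
      rw [Nat.card_congr eQ.toEquiv, Nat.card_eq_fintype_card, QuaternionGroup.card]; norm_num
    have hk3 : 3 ≤ k := by
      rw [hk, h8] at hcardlt
      exact (Nat.pow_lt_pow_iff_right one_lt_two).1 hcardlt |>.le
    refine hclass k hk3 hk (Cfsg.Agent.S4143.result (p := 2) k hk (E.subgroupOf S) (hEcard.trans h8) ?_ hcen)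
    intro hc
    have h := mul_comm' (M := E.subgroupOf S) ((Subgroup.subgroupOfEquivOfLe hES).symm (eQ.symm (QuaternionGroup.a 1)))
      ((Subgroup.subgroupOfEquivOfLe hES).symm (eQ.symm (QuaternionGroup.xa 0)))
    rw [← map_mul, ← map_mul, ← map_mul, ← map_mul] at h
    exact absurd (eQ.symm.injective ((Subgroup.subgroupOfEquivOfLe hES).symm.injective h)) (by decide)
  -- the homocyclic case
  obtain ⟨eH⟩ := eH'
  have hab : ∀ a b : E, a * b = b * a := fun a b => eH.injective (by rw [map_mul, map_mul, mul_comm])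
  have hEcard' : Nat.card E = 2 ^ n * 2 ^ n := by
    rw [Nat.card_congr eH.toEquiv, Nat.card_prod, Nat.card_congr Multiplicative.toAdd, Nat.card_zmod]
  have hexp : ∀ x : E, x ^ 2 ^ n = 1 := by
    intro x
    apply eH.injective
    rw [map_pow, map_one]
    refine Prod.ext ?_ ?_
    · have h := pow_card_eq_one' (G := Multiplicative (ZMod (2 ^ n))) (x := (eH x).1)
      rwa [Nat.card_congr Multiplicative.toAdd, Nat.card_zmod] at h
    · have h := pow_card_eq_one' (G := Multiplicative (ZMod (2 ^ n))) (x := (eH x).2)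
      rwa [Nat.card_congr Multiplicative.toAdd, Nat.card_zmod] at h
  set N' := N.comap (Subgroup.inclusion hES) with hN'
  obtain ⟨⟨e, he⟩, hgen⟩ := IsCyclic.exists_generator (α := N')
  obtain ⟨fq, hfgen⟩ := IsCyclic.exists_generator (α := E ⧸ N')
  obtain ⟨f, rfl⟩ := QuotientGroup.mk'_surjective N' fq
  have hN'card : Nat.card N' = orderOf e := by
    rw [← orderOf_eq_card_of_forall_mem_zpowers hgen, ← Subgroup.orderOf_coe]
  have hQcard : Nat.card (E ⧸ N') = orderOf (QuotientGroup.mk' N' f) :=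
    (orderOf_eq_card_of_forall_mem_zpowers hfgen).symm
  have hd1 : orderOf e ∣ 2 ^ n := orderOf_dvd_of_pow_eq_one (hexp e)
  have hd2 : orderOf (QuotientGroup.mk' N' f) ∣ 2 ^ n :=
    (orderOf_map_dvd _ f).trans (orderOf_dvd_of_pow_eq_one (hexp f))
  have hprod := Subgroup.card_eq_card_quotient_mul_card_subgroup N'
  rw [hEcard', hN'card, hQcard] at hprod
  have hpos : 0 < 2 ^ n := Nat.two_pow_pos n
  have hoe : orderOf e = 2 ^ n := le_antisymm (Nat.le_of_dvd hpos hd1) (by
    by_contra hlt'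
    push Not at hlt'
    have h1 : orderOf (QuotientGroup.mk' N' f) * orderOf e ≤ 2 ^ n * orderOf e :=
      Nat.mul_le_mul_right _ (Nat.le_of_dvd hpos hd2)
    have h2 : 2 ^ n * orderOf e < 2 ^ n * 2 ^ n := Nat.mul_lt_mul_of_pos_left hlt' hpos
    omega)
  have hof : orderOf (QuotientGroup.mk' N' f) = 2 ^ n := by
    rw [hoe] at hprod
    exact (Nat.eq_of_mul_eq_mul_right hpos hprod).symm
  have hfe : ∀ x : E, ∃ i j : ℤ, x = e ^ i * f ^ j := by
    intro x
    obtain ⟨j, hj⟩ := hfgen (QuotientGroup.mk' N' x)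
    have hj' : QuotientGroup.mk' N' f ^ j = QuotientGroup.mk' N' x := hj
    have h1 : x * (f ^ j)⁻¹ ∈ N' := by
      apply (QuotientGroup.eq_one_iff (N := N') _).1
      show QuotientGroup.mk' N' _ = 1
      rw [map_mul, map_inv, map_zpow, hj', mul_inv_cancel]
    obtain ⟨i, hi⟩ := hgen ⟨_, h1⟩
    have hi' : e ^ i = x * (f ^ j)⁻¹ := congrArg Subtype.val hi
    exact ⟨i, j, by rw [hi', inv_mul_cancel_right]⟩
  have he0 : ∀ i : ℤ, e ^ i = 1 ↔ (2 ^ n : ℤ) ∣ i := by
    intro i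
    rw [← orderOf_dvd_iff_zpow_eq_one, hoe]
    norm_num
  have hf0 : ∀ j : ℤ, f ^ j ∈ N' → (2 ^ n : ℤ) ∣ j := by
    intro j hj
    have h1 : QuotientGroup.mk' N' f ^ j = 1 := by
      rw [← map_zpow]; exact (QuotientGroup.eq_one_iff _).2 hj
    rw [← orderOf_dvd_iff_zpow_eq_one, hof] at h1
    simpa using h1
  -- an element moving an involution
  obtain ⟨g, hg, hgE, hg2⟩ : ∃ g ∈ normalizerIn S E, g ∉ E ∧ g * g ∈ E := by
    obtain ⟨g, hg, hgE⟩ := Cfsg.EssentialSmall.exists_moved hS hF hE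
    obtain ⟨m, hm'⟩ := hS ⟨g, hg.1⟩
    have hm'' : g ^ 2 ^ m = 1 := congrArg Subtype.val hm'
    obtain ⟨j, hj, hjmin⟩ : ∃ j, g ^ 2 ^ j ∉ E ∧ g ^ 2 ^ (j + 1) ∈ E := by
      by_contra hno
      push Not at hno
      have : ∀ j, g ^ 2 ^ j ∉ E := by
        intro j
        induction j with
        | zero => simpa using hgE
        | succ j ih => exact hno j ih
      exact this m (hm''.symm ▸ one_mem E)
    refine ⟨g ^ 2 ^ j, pow_mem hg _, hj, ?_⟩
    rw [← pow_two, ← pow_mul, ← pow_succ]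
    exact hjmin
  let c : MulAut E := E.normalizerMonoidHom ⟨g, hg.2⟩
  have hcA : c ∈ F.autGroup E :=
    autInducedBy_le_autGroup (F := F) hES (mem_autInducedBy_iff.2 ⟨g, hg.1, hg.2, fun _ => rfl⟩)
  obtain ⟨x₀, hx₀, hmove⟩ : ∃ x : E, x * x = 1 ∧ c x ≠ x := by
    by_contra hno
    push Not at hno
    let T : Subgroup (F.autGroup E) :=
      { carrier := {a | ∀ x : E, x * x = 1 → (a : MulAut E) x = x}
        one_mem' := fun x _ => rfl
        mul_mem' := fun {a b} ha hb x hx => by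
          show (a : MulAut E) ((b : MulAut E) x) = x
          rw [hb x hx, ha x hx]
        inv_mem' := fun {a} ha x hx => by
          show (a : MulAut E)⁻¹ x = x
          conv_lhs => rw [← ha x hx]
          simp }
    have hTn : T.Normal := ⟨fun a ha b x hx => by
      show (b : MulAut E) ((a : MulAut E) ((b : MulAut E)⁻¹ x)) = x
      rw [ha _ (by rw [← map_mul, hx, map_one])]
      simp⟩
    have hTp : IsPGroup 2 T := by
      intro a
      obtain ⟨i, m, hm2, hi⟩ := Nat.exists_eq_pow_mul_and_not_dvd (orderOf_pos a).ne' 2 (by norm_num)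
      refine ⟨i, ?_⟩
      set β := a ^ 2 ^ i with hβ
      have hodd : Odd (orderOf β) := by
        rw [hβ, orderOf_pow' _ (pow_ne_zero _ two_ne_zero), hi, Nat.gcd_mul_right_left,
          Nat.mul_div_cancel_left _ (Nat.two_pow_pos _)]
        exact Nat.odd_iff.2 (Nat.two_dvd_ne_zero.1 hm2)
      rw [← Subgroup.orderOf_coe, ← Subgroup.orderOf_coe] at hodd
      exact Subtype.ext (Subtype.ext (eq_one_of_fix_involutions hEp hab _ hodd β.2))
    have h1 := congrArg Subtype.val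
      (Cfsg.EssentialSmall.eq_one_of_normal_pgroup hS hF hE hab hTn hTp (α := ⟨c, hcA⟩) hno)
    refine hgE (hE.1.centralizerIn_le_self ⟨hg.1, Subgroup.mem_centralizer_iff.2 fun w hw => ?_⟩)
    have h2 := congrArg (fun a : MulAut E => ((a ⟨w, hw⟩ : E) : Ω)) h1
    exact (mul_inv_eq_iff_eq_mul.mp (show g * w * g⁻¹ = w from h2)).symm
  have hn1 : 1 ≤ n := by
    by_contra h
    have hn0 : n = 0 := by omega
    subst hn0
    have : x₀ = 1 := by simpa using hexp x₀
    exact hmove (by rw [this, map_one])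
  -- the action of `g`
  let gS : S := ⟨g, hg.1⟩
  let ι := Subgroup.inclusion hES
  have hconj : ∀ x : E, ι (c x) = gS * ι x * gS⁻¹ := fun x => Subtype.ext rfl
  let π := QuotientGroup.mk' N
  haveI hcq : IsMulCommutative (S ⧸ N) := IsCyclic.isMulCommutative
  have hπc : ∀ x : E, π (ι (c x)) = π (ι x) := by
    intro x
    rw [hconj, map_mul, map_mul, map_inv, mul_comm' (π gS), mul_inv_cancel_right]
  obtain ⟨s, hs⟩ : ∃ s : ℤ, c e = e ^ s := by
    have h1 : c e ∈ N' := (QuotientGroup.eq_one_iff (N := N) _).1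
      ((hπc e).trans ((QuotientGroup.eq_one_iff (N := N) _).2 he))
    obtain ⟨i, hi⟩ := hgen ⟨_, h1⟩
    exact ⟨i, (congrArg Subtype.val hi).symm⟩
  obtain ⟨r, hr⟩ : ∃ r : ℤ, c f = e ^ r * f := by
    have h1 : c f * f⁻¹ ∈ N' := (QuotientGroup.eq_one_iff (N := N) _).1 (by
      show π (ι (c f * f⁻¹)) = 1
      rw [map_mul, map_mul, hπc f, map_inv, map_inv, mul_inv_cancel])
    obtain ⟨i, hi⟩ := hgen ⟨_, h1⟩
    have hi' : e ^ i = c f * f⁻¹ := congrArg Subtype.val hi
    exact ⟨i, by rw [hi', inv_mul_cancel_right]⟩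
  have hcij : ∀ i j : ℤ, c (e ^ i * f ^ j) = e ^ (s * i + r * j) * f ^ j := by
    intro i j
    rw [map_mul, map_zpow, map_zpow, hs, hr, ← zpow_mul, (show Commute (e ^ r) f from hab _ _).mul_zpow,
      ← zpow_mul, ← mul_assoc, ← zpow_add]
  obtain ⟨p2, hp2⟩ : ∃ p2, n = p2 + 1 := ⟨n - 1, by omega⟩
  have hsodd : Odd s := by
    rw [← Int.not_even_iff_odd]
    rintro ⟨q, hq'⟩
    have h1 : c (e ^ ((2 : ℤ) ^ p2)) = 1 := by
      rw [map_zpow, hs, ← zpow_mul, he0, hp2, hq']
      exact ⟨q, by ring⟩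
    have h2 : e ^ ((2 : ℤ) ^ p2) = 1 := c.injective (h1.trans (map_one c).symm)
    rw [he0, hp2] at h2
    have h3 := Int.le_of_dvd (by positivity) h2
    rw [pow_succ] at h3
    have : (0 : ℤ) < 2 ^ p2 := by positivity
    linarith
  have hrodd : Odd r := by
    rw [← Int.not_even_iff_odd]
    rintro ⟨q, rfl⟩
    apply hmove
    obtain ⟨i, j, rfl⟩ := hfe x₀
    have h1 : e ^ (2 * i) * f ^ (2 * j) = 1 := by
      rw [← hx₀, two_mul, two_mul, zpow_add, zpow_add]
      exact ((show Commute (f ^ j) (e ^ i) from hab _ _).mul_mul_mul_comm _ _).symm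
    have hfN : f ^ (2 * j) ∈ N' := by
      rw [eq_inv_of_mul_eq_one_right h1]
      exact N'.inv_mem (N'.zpow_mem he _)
    have hj := hf0 _ hfN
    have hj1 : f ^ (2 * j) = 1 := by
      obtain ⟨t, ht⟩ := hj
      rw [ht, zpow_mul, show ((2 : ℤ) ^ n) = ((2 ^ n : ℕ) : ℤ) by norm_num, zpow_natCast, hexp, one_zpow]
    rw [hj1, mul_one, he0] at h1
    rw [hcij]
    congr 1
    rw [← mul_inv_eq_one, ← zpow_sub, he0]
    obtain ⟨u, hu⟩ := h1
    obtain ⟨v, hv⟩ := hj
    obtain ⟨w, rfl⟩ := hsodd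
    exact ⟨w * u + q * v, by linear_combination w * hu + q * hv⟩
  -- the case division in the cyclic quotient
  obtain ⟨b, a, hba⟩ := hfe ⟨g * g, hg2⟩
  have hgg : c (e ^ b * f ^ a) = e ^ b * f ^ a := by
    rw [← hba]; exact Subtype.ext (show g * (g * g) * g⁻¹ = g * g by group)
  have haeven : Even a := by
    rw [← Int.not_odd_iff_even]
    intro hao
    rw [hcij, mul_left_inj, ← mul_inv_eq_one, ← zpow_sub, he0, hp2] at hgg
    have h2 : (2 : ℤ) ∣ s * b + r * a - b := (dvd_pow_self 2 (Nat.succ_ne_zero p2)).trans hgg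
    obtain ⟨w, rfl⟩ := hsodd
    obtain ⟨v, rfl⟩ := hrodd
    obtain ⟨u, rfl⟩ := hao
    obtain ⟨q, hq'⟩ := h2
    ring_nf at hq'
    omega
  obtain ⟨a', rfl⟩ := haeven
  have hπe : π (ι e) = 1 := (QuotientGroup.eq_one_iff (N := N) _).2 he
  have hw1 : π (ι f) ^ ((2 : ℕ) ^ p2) ≠ 1 := by
    intro h
    rw [← map_pow, ← map_pow] at h
    have h1 : f ^ ((2 ^ p2 : ℕ) : ℤ) ∈ N' := by
      rw [zpow_natCast]; exact (QuotientGroup.eq_one_iff (N := N) _).1 h
    have h2 := hf0 _ h1
    push_cast at h2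
    rw [hp2] at h2
    have h3 := Int.le_of_dvd (by positivity) h2
    rw [pow_succ] at h3
    have : (0 : ℤ) < 2 ^ p2 := by positivity
    linarith
  have hw2 : (π (ι f) ^ ((2 : ℕ) ^ p2)) ^ 2 = 1 := by
    rw [← pow_mul, ← pow_succ, ← hp2, ← map_pow, ← map_pow, hexp, map_one, map_one]
  have hu2 : (π gS * (π (ι f) ^ a')⁻¹) ^ 2 = 1 := by
    rw [(show Commute (π gS) ((π (ι f) ^ a')⁻¹) from mul_comm' _ _).mul_pow, inv_pow, ← zpow_natCast (π (ι f) ^ a'),
      ← zpow_mul, mul_inv_eq_one, pow_two, ← map_mul,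
      show gS * gS = ι ⟨g * g, hg2⟩ from rfl, hba, map_mul, map_zpow, map_zpow, map_mul, map_zpow, map_zpow,
      hπe, one_zpow, one_mul]
    congr 1
    push_cast
    ring
  obtain ⟨i, hi⟩ : ∃ i : ℤ, π gS = π (ι (f ^ i)) := by
    obtain ⟨m, hm'⟩ := CfsgLib.Metacyclic.mem_zpowers_of_isCyclic hw2 hw1 hu2
    refine ⟨((2 : ℕ) ^ p2 : ℕ) * m + a', ?_⟩
    have hm'' : (π (ι f) ^ ((2 : ℕ) ^ p2)) ^ m = π gS * (π (ι f) ^ a')⁻¹ := hm'
    rw [map_zpow, map_zpow, zpow_add, zpow_mul, zpow_natCast, hm'', inv_mul_cancel_right]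
  set kk : S := gS * (ι (f ^ i))⁻¹ with hkk
  have hkN : kk ∈ N := (QuotientGroup.eq_one_iff (N := N) _).1 (by
    show π kk = 1
    rw [hkk, map_mul, map_inv, hi, mul_inv_cancel])
  have hkconj : kk * ι f * kk⁻¹ = ι (e ^ r * f) := by
    rw [← hr, hconj, hkk]
    have : (ι (f ^ i))⁻¹ * ι f * ι (f ^ i) = ι f := by
      rw [← map_inv, ← map_mul, ← map_mul]
      congr 1
      group
    calc gS * (ι (f ^ i))⁻¹ * ι f * (gS * (ι (f ^ i))⁻¹)⁻¹
        = gS * ((ι (f ^ i))⁻¹ * ι f * ι (f ^ i)) * gS⁻¹ := by group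
      _ = gS * ι f * gS⁻¹ := by rw [this]
  have hk2 : ∃ y : E, kk * kk = ι y := by
    refine ⟨⟨g * g, hg2⟩ * (c⁻¹ (f ^ (-i))) * f ^ (-i), ?_⟩
    have e1 : ι (c⁻¹ (f ^ (-i))) = gS⁻¹ * ι (f ^ (-i)) * gS := by
      have := hconj (c⁻¹ (f ^ (-i)))
      rw [show c (c⁻¹ (f ^ (-i))) = f ^ (-i) from c.apply_symm_apply _] at this
      rw [this]
      group
    rw [map_mul, map_mul, e1, hkk, zpow_neg, map_inv, show ι ⟨g * g, hg2⟩ = gS * gS from rfl]
    group
  obtain ⟨y, hy⟩ := hk2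
  letI : CommGroup N := IsCyclic.commGroup
  have hke : ι e * kk = kk * ι e :=
    congrArg Subtype.val (mul_comm (⟨ι e, he⟩ : N) ⟨kk, hkN⟩)
  have her : ι (e ^ r) * kk = kk * ι (e ^ r) := by
    rw [map_zpow]; exact ((show Commute (ι e) kk from hke).zpow_left r).eq
  have hfk : ι f * kk * (ι f)⁻¹ = ι (e ^ (-r)) * kk := by
    have h0 : kk * ι f = ι (e ^ r) * ι f * kk := by rw [← map_mul, ← hkconj, inv_mul_cancel_right]
    have h1 : ι (e ^ r) * ι f = ι f * ι (e ^ r) := by rw [← map_mul, ← map_mul, hab]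
    rw [zpow_neg, map_inv, eq_inv_mul_iff_mul_eq]
    calc ι (e ^ r) * (ι f * kk * (ι f)⁻¹) = (ι (e ^ r) * ι f * kk) * (ι f)⁻¹ := by group
      _ = kk := by rw [← h0, mul_inv_cancel_right]
  have hfinal : e ^ (-(2 * r)) = 1 := by
    have h1 : ι f * (kk * kk) * (ι f)⁻¹ = kk * kk := by
      rw [hy, ← map_inv, ← map_mul, ← map_mul, hab f y, mul_inv_cancel_right]
    have h2 : ι f * (kk * kk) * (ι f)⁻¹ = (ι f * kk * (ι f)⁻¹) * (ι f * kk * (ι f)⁻¹) := by group
    rw [h2, hfk] at h1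
    have hc : Commute (ι (e ^ (-r))) kk := by
      rw [map_zpow]; exact (show Commute (ι e) kk from hke).zpow_left (-r)
    rw [hc.symm.mul_mul_mul_comm, mul_eq_right, ← map_mul, ← zpow_add] at h1
    rw [show -(2 * r) = -r + -r by ring]
    exact Subgroup.inclusion_injective hES (h1.trans (map_one ι).symm)
  rw [he0, dvd_neg] at hfinal
  have hn_eq : n = 1 := by
    by_contra hne
    obtain ⟨v, rfl⟩ := hrodd
    have h4 : (4 : ℤ) ∣ 2 * (2 * v + 1) := by
      refine dvd_trans ?_ hfinal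
      obtain ⟨q, hq'⟩ : ∃ q, n = q + 2 := ⟨n - 2, by omega⟩
      exact ⟨2 ^ q, by rw [hq']; ring⟩
    omega
  subst hn_eq
  have h4 : Nat.card E = 2 ^ 2 := by rw [hEcard']; norm_num
  have hk3 : 3 ≤ k := by
    rw [hk, h4] at hcardlt
    exact (Nat.pow_lt_pow_iff_right one_lt_two).1 hcardlt
  exact hclass k hk3 hk (CfsgLib.MaximalClass.class_of_self_centralizing (p := 2) hk (E.subgroupOf S)
    (hEcard.trans h4) hcen)

end Cfsg.Agent.S5212
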