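import Cfsg.Statements.S5234
import Cfsg.Agent.Lib.Fusion.OmegaSeries
import Cfsg.Agent.Lib.Metacyclic
import Mathlib.GroupTheory.FixedPointFree
-- import your own Cfsg.Agent.* helpers here

set_option autoImplicit false
open Cfsg

namespace Cfsg.Agent.S5234

open scoped commutatorElement

open Cfsg.FusionSystem CfsgLib.Metacyclic

theorem stronglyClosed_bot {Ω : Type*} [Group Ω] {S : Subgroup Ω} (F : Cfsg.FusionSystem S) :
    F.StronglyClosed ⊥ := by
  refine ⟨bot_le, fun R hR φ hφ x => ?_⟩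
  have hx : x = 1 := Subtype.ext (Subgroup.mem_bot.mp (hR x.2))
  simp [hx]

/-- Let p be an odd prime, F a saturated fusion system over a finite p-group S and P a metacyclic subgroup of S strongly closed in F. Then P is normal in F. -/
theorem result {Ω : Type*} [Group Ω] {S : Subgroup Ω} [Finite S] (p : ℕ) [Fact p.Prime] (hS : IsPGroup p S) (F : Cfsg.FusionSystem S) (hF : F.IsSaturated p) (P : Subgroup Ω) (hP : F.StronglyClosed P) (hp : p ≠ 2) (hm : Cfsg.IsMetacyclic ↥P) : F.IsNormal P := by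
  haveI : Finite P := finite_of_le hP.1
  obtain ⟨N, hNn, hNc, hQc⟩ := hm
  have hX : IsPGroup p P := hS.to_le hP.1
  set E := Cfsg.omegaOne p P with hEdef
  have hEP : E ≤ P := omegaOne_le
  have hEmem : ∀ x, x ∈ E → x ^ p = 1 := by
    intro x hx
    have h1 : E ≤ ((({ carrier := {y : P | y ^ p = 1}
                       one_mem' := one_pow p
                       mul_mem' := fun {b c} hb hc => by
                         show (b * c) ^ p = 1
                         rw [(commute_of_pow_eq_one (N := N) hX hp hb hc).mul_pow, hb, hc, one_mul]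
                       inv_mem' := fun {b} hb => by show b⁻¹ ^ p = 1; rw [inv_pow, hb, inv_one] } :
        Subgroup P)).map P.subtype) := by
      refine (Subgroup.closure_le _).mpr ?_
      rintro y ⟨hy, hy'⟩
      exact ⟨⟨y, hy⟩, Subtype.ext (by simpa using hy'), rfl⟩
    obtain ⟨y, hy, rfl⟩ := h1 hx
    exact congrArg Subtype.val hy
  have hEin : ∀ {x : Ω}, x ∈ P → x ^ p = 1 → x ∈ E := fun h1 h2 => Subgroup.subset_closure ⟨h1, h2⟩
  have hEsc : F.StronglyClosed E := by
    refine ⟨hEP.trans hP.1, fun R hR φ hφ x => hEin (hP.apply_mem_of_mem hφ (hEP (hR x.2))) ?_⟩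
    rw [← map_pow, show x ^ p = 1 from Subtype.ext (hEmem _ (hR x.2)), map_one]
  have hEcomm : ∀ b c : E, b * c = c * b := fun b c => Subtype.ext (congrArg Subtype.val
    (commute_of_pow_eq_one (N := N) hX hp (a := (⟨b, hEP b.2⟩ : P)) (b := ⟨c, hEP c.2⟩)
      (Subtype.ext (hEmem _ b.2)) (Subtype.ext (hEmem _ c.2))).eq :)
  have hmono1 : Monotone ![⊥, E] := by
    intro i j h
    fin_cases i <;> fin_cases j <;> simp at h ⊢
  by_cases hc : ∀ x ∈ E, ∀ y ∈ P, ⁅x, y⁆ = 1
  · refine hF.isNormal_of_omega_series hS hp hP ![⊥, E] rfl rfl hmono1 (fun i => ?_) fun i => ?_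
    · fin_cases i
      · exact stronglyClosed_bot F
      · exact hEsc
    · fin_cases i
      exact Subgroup.commutator_le.mpr fun x hx y hy => Subgroup.mem_bot.mpr (hc x hx y hy)
  simp only [not_forall] at hc
  obtain ⟨a', ha', g', hg', hag'⟩ := hc
  set a : P := ⟨a', hEP ha'⟩ with hadef
  set g : P := ⟨g', hg'⟩ with hgdef
  have ha : a ^ p = 1 := Subtype.ext (hEmem _ ha')
  have hag : ⁅a, g⁆ ≠ 1 := fun h => hag' (congrArg Subtype.val h)
  obtain ⟨hzp, hzc, hcm, hgenX⟩ := exists_structure (N := N) hX hp ha hag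
  set z : P := ⁅a, g⁆ with hzdef
  have hzE : (z : Ω) ∈ E := hEin z.2 (by simpa using congrArg Subtype.val hzp)
  set Z := Subgroup.zpowers (z : Ω) with hZdef
  have hZE : Z ≤ E := Subgroup.zpowers_le.mpr hzE
  have hcmZ : ∀ x ∈ E, ∀ y ∈ P, ⁅x, y⁆ ∈ Z := by
    intro x hx y hy
    obtain ⟨k, hk⟩ := hcm ⟨x, hEP hx⟩ ⟨y, hy⟩ (Subtype.ext (hEmem _ hx))
    have hk' : (z : Ω) ^ k = ((⁅(⟨x, hEP hx⟩ : P), ⟨y, hy⟩⁆ : P) : Ω) :=
      (P.coe_zpow z k).symm.trans (congrArg Subtype.val hk)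
    exact ⟨k, hk'⟩
  have hzcomm : ∀ y ∈ P, y * (z : Ω) = z * y := fun y hy => congrArg Subtype.val (hzc ⟨y, hy⟩).eq
  by_cases hZsc : F.StronglyClosed Z
  · refine hF.isNormal_of_omega_series hS hp hP ![⊥, Z, E] rfl rfl ?_ (fun i => ?_) fun i => ?_
    · intro i j h
      fin_cases i <;> fin_cases j <;> simp at h ⊢
      exact hZE
    · fin_cases i
      · exact stronglyClosed_bot F
      · exact hZsc
      · exact hEsc
    · fin_cases i
      · refine Subgroup.commutator_le.mpr fun x hx y hy => Subgroup.mem_bot.mpr ?_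
        obtain ⟨k, rfl⟩ := Subgroup.mem_zpowers_iff.mp hx
        exact commutatorElement_eq_one_iff_commute.mpr (Commute.zpow_left (hzcomm y hy).symm k)
      · exact Subgroup.commutator_le.mpr hcmZ
  exfalso
  have hES : E ≤ S := hEsc.1
  haveI : Finite E := finite_of_le hES
  haveI := finite_mulAut_of_le hES
  have hEnorm : F.IsNormal E := by
    refine hF.isNormal_of_series hS ![⊥, E] rfl rfl hmono1 fun i => ?_
    fin_cases i
    exact ⟨hEsc, Subgroup.commutator_le.mpr fun x hx y hy => Subgroup.mem_bot.mpr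
      (commutatorElement_eq_one_iff_commute.mpr (congrArg Subtype.val (hEcomm ⟨x, hx⟩ ⟨y, hy⟩)))⟩
  simp only [Cfsg.FusionSystem.StronglyClosed, not_and, not_forall] at hZsc
  obtain ⟨R, hRZ, φ, hφ, r, hr⟩ := hZsc (hZE.trans hES)
  obtain ⟨ψ, hψ, hψe, -⟩ := hEnorm.2 R φ hφ
  have hEmap : ∀ {Q : Subgroup Ω} {χ : E →* Ω}, χ ∈ F.Hom E → χ.range = Q → Q = E := by
    intro Q χ hχ hQ
    subst hQ
    refine Subgroup.eq_of_le_of_card_ge ?_ ?_
    · rintro _ ⟨x, rfl⟩
      exact hEsc.apply_mem_of_mem hχ x.2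
    · exact (Nat.card_range_of_injective (F.injective_of_mem hχ)).ge
  set χ := ψ.comp (Subgroup.inclusion (le_sup_right : E ≤ R ⊔ E)) with hχdef
  have hχ : χ ∈ F.Hom E := F.restrict_mem hψ le_sup_right
  set α : MulAut E := F.isoOf hχ (hEmap hχ rfl) with hαdef
  have hα : α ∈ F.autGroup E := F.isoOf_mem_autGroup hχ (hEmap hχ rfl)
  set zE : E := ⟨z, hzE⟩ with hzEdef
  have hαz : ((α zE : E) : Ω) ∉ Z := by
    intro h
    refine hr ?_
    obtain ⟨k, hk⟩ := Subgroup.mem_zpowers_iff.mp (hRZ r.2)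
    have h1 : φ r = ((α (zE ^ k) : E) : Ω) := by
      rw [← hψe r, hαdef, coe_isoOf]
      exact congrArg ψ (Subtype.ext hk.symm)
    rw [h1, map_zpow]
    exact Z.zpow_mem h k
  set aE : E := ⟨a', ha'⟩ with haEdef
  have hexp : ∀ b : E, b ^ p = 1 := fun b => Subtype.ext (by simpa using hEmem _ b.2)
  haveI : (Subgroup.zpowers zE).Normal := ⟨fun b hb c => by rwa [hEcomm c b, mul_inv_cancel_right]⟩
  have hgenA : Subgroup.closure ({aE, zE} : Set E) = ⊤ := by
    refine eq_top_iff.mpr fun b _ => ?_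
    have h1 : ((⟨b, hEP b.2⟩ : P) : Ω) ∈ (Subgroup.closure ({a, z} : Set P)).map P.subtype :=
      Subgroup.mem_map_of_mem P.subtype (hgenX ⟨b, hEP b.2⟩ (Subtype.ext (hEmem _ b.2)))
    have h2 : (b : Ω) ∈ (Subgroup.closure ({aE, zE} : Set E)).map E.subtype := by
      rw [MonoidHom.map_closure, Set.image_pair] at h1 ⊢
      exact h1
    obtain ⟨c, hc, he⟩ := h2
    exact (E.subtype_injective he) ▸ hc
  have hgen : Subgroup.closure ({zE, α zE} : Set E) = ⊤ := by
    set K := Subgroup.closure ({zE, α zE} : Set E)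
    have hzK : zE ∈ K := Subgroup.subset_closure (Set.mem_insert _ _)
    have hsup : α zE ∈ Subgroup.zpowers aE ⊔ Subgroup.zpowers zE := by
      have h1 : Subgroup.closure ({aE, zE} : Set E) ≤ Subgroup.zpowers aE ⊔ Subgroup.zpowers zE := by
        refine (Subgroup.closure_le _).mpr ?_
        rintro _ (rfl | rfl)
        · exact Subgroup.mem_sup_left (Subgroup.mem_zpowers _)
        · exact Subgroup.mem_sup_right (Subgroup.mem_zpowers _)
      exact h1 (hgenA ▸ Subgroup.mem_top _)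
    obtain ⟨b, hb, c, hc, hbc⟩ := Subgroup.mem_sup_of_normal_right.mp hsup
    have hb1 : b ≠ 1 := by
      rintro rfl
      obtain ⟨k, hk⟩ := Subgroup.mem_zpowers_iff.mp hc
      refine hαz ⟨k, ?_⟩
      rw [← hbc, one_mul, ← hk]
      rfl
    have haK : aE ∈ K := by
      have h1 : b ∈ K := by
        rw [show b = α zE * c⁻¹ by rw [← hbc, mul_inv_cancel_right]]
        exact mul_mem (Subgroup.subset_closure (Set.mem_insert_of_mem _ (Set.mem_singleton _)))
          (inv_mem (Subgroup.zpowers_le.mpr hzK hc))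
      exact Subgroup.zpowers_le.mpr h1 (mem_zpowers_swap (hexp aE) hb hb1)
    refine top_le_iff.mp (hgenA ▸ (Subgroup.closure_le K).mpr ?_)
    rintro _ (rfl | rfl)
    exacts [haK, hzK]
  have hgN : g' ∈ Subgroup.normalizer (E : Set Ω) := hEsc.le_normalizer (hP.1 hg')
  set u : MulAut E := E.normalizerMonoidHom ⟨g', hgN⟩ with hudef
  have hu : u ∈ F.autGroup E :=
    autInducedBy_le_autGroup hES (mem_autInducedBy_iff.mpr ⟨g', hP.1 hg', hgN, fun _ => rfl⟩)
  obtain ⟨τ, hτ, hτe⟩ := exists_inversion (p := p) hEcomm hexp (F.autGroup E) hu hα (z0 := zE) hgen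
    (Subtype.ext (show g' * (z : Ω) * g'⁻¹ = z by rw [hzcomm g' hg', mul_inv_cancel_right]))
    (fun y => by
      obtain ⟨k, hk⟩ := hcmZ y y.2 g' hg'
      refine ⟨-k, Subtype.ext ?_⟩
      have hk' : (z : Ω) ^ k = ⁅(y : Ω), g'⁆ := hk
      show (((zE ^ (-k) : E)) : Ω) = g' * (y : Ω) * g'⁻¹ * (y : Ω)⁻¹
      rw [SubgroupClass.coe_zpow, zpow_neg, show ((zE : E) : Ω) = z from rfl, hk', commutatorElement_def]
      group)
    (fun h => hag' (by
      have h1 : g' * a' * g'⁻¹ = a' := congrArg (fun f : MulAut E => ((f aE : E) : Ω)) h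
      exact commutatorElement_eq_one_iff_commute.mpr (mul_inv_eq_iff_eq_mul.mp h1).symm))
  have hfn : F.IsFullyNormalized E := by
    refine ⟨hES, fun Q ⟨χ', hχ', hQ⟩ => ?_⟩
    rw [hEmap hχ' hQ]
  have hM : S ≤ normalizerIn S E := fun x hx => ⟨hx, hEsc.le_normalizer hx⟩
  obtain ⟨ψ', hψ', hψe'⟩ := exists_extension_of_normalizes (hF.isReceptive_of_isFullyNormalized hS hfn) hτ hM
    (fun x hx hxN => by
      have h1 : τ * E.normalizerMonoidHom ⟨x, hxN⟩ * τ⁻¹ = E.normalizerMonoidHom ⟨x, hxN⟩ := by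
        rw [mul_inv_eq_iff_eq_mul]
        refine MulEquiv.ext fun y => ?_
        simp only [MulAut.mul_apply, hτe, map_inv]
      rw [h1]
      exact mem_autInducedBy_iff.mpr ⟨x, hx, hxN, fun _ => rfl⟩)
  have hPle : P ≤ E ⊔ S := hP.1.trans le_sup_right
  let σ : MulAut P := MulEquiv.ofBijective
    ((ψ'.comp (Subgroup.inclusion hPle)).codRestrict P fun y => hP.apply_mem_of_mem hψ' (x := ⟨y, hPle y.2⟩) y.2)
    (Finite.injective_iff_bijective.mp fun y y' h =>
      Subgroup.inclusion_injective hPle (F.injective_of_mem hψ' (congrArg Subtype.val h)))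
  have hσW : ∀ y : P, y ^ p = 1 → σ y = y⁻¹ := by
    intro y hy
    have hyE : (y : Ω) ∈ E := hEin y.2 (by simpa using congrArg Subtype.val hy)
    refine Subtype.ext ((hψe' ⟨y, hyE⟩).trans ?_)
    rw [hτe]
    rfl
  have hσk : ∀ (k : ℕ) (y : P), y ^ p = 1 → (σ ^ k) y = y ^ ((-1 : ℤ) ^ k) := by
    intro k
    induction k with
    | zero => simp
    | succ k ih =>
      intro y hy
      rw [pow_succ, MulAut.mul_apply, hσW y hy, ih _ (by rw [inv_pow, hy, inv_one]), pow_succ, mul_neg_one,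
        zpow_neg, inv_zpow]
  obtain ⟨e, m, hm', hord⟩ := Nat.exists_eq_pow_mul_and_not_dvd (orderOf_pos σ).ne' p (Fact.out : p.Prime).ne_one
  set γ := σ ^ p ^ e with hγdef
  have hodd : Odd (p ^ e) := ((Fact.out : p.Prime).odd_of_ne_two hp).pow
  have hγW : ∀ y : P, y ^ p = 1 → γ y = y⁻¹ := by
    intro y hy
    rw [hγdef, hσk _ y hy, hodd.neg_one_pow, zpow_neg_one]
  have hγord : (orderOf γ).Coprime p := by
    rw [hγdef, orderOf_pow' σ (pow_ne_zero _ (Fact.out : p.Prime).ne_zero), hord, Nat.gcd_eq_right (dvd_mul_right _ _),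
      Nat.mul_div_cancel_left _ (pow_pos (Fact.out : p.Prime).pos _)]
    exact ((Fact.out : p.Prime).coprime_iff_not_dvd.mpr hm').symm
  have hsq : γ * γ = 1 := by
    refine CfsgLib.Small.eq_one_of_fixes_small hX ?_ fun y hy => ?_
    · rw [← pow_two]
      exact Nat.Coprime.coprime_dvd_left (orderOf_pow_dvd 2) hγord
    · rw [CfsgLib.Small.smallExp, if_neg hp] at hy
      rw [MulAut.mul_apply, hγW y hy, map_inv, hγW y hy, inv_inv]
  have hfpf : MonoidHom.FixedPointFree (γ : P → P) := by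
    intro y hy
    by_contra hy1
    obtain ⟨k, hk⟩ := IsPGroup.iff_orderOf.mp hX y
    cases k with
    | zero => exact hy1 (orderOf_eq_one_iff.mp (by simpa using hk))
    | succ k =>
      have h1 : (y ^ p ^ k) ^ p = 1 := by rw [← pow_mul, ← pow_succ, ← hk, pow_orderOf_eq_one]
      have h2 : y ^ p ^ k ≠ 1 := by
        intro h
        have h5 := orderOf_dvd_of_pow_eq_one h
        rw [hk, Nat.pow_dvd_pow_iff_le_right (Fact.out : p.Prime).one_lt] at h5
        omega
      have h3 : γ (y ^ p ^ k) = y ^ p ^ k := by rw [map_pow, hy]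
      rw [hγW _ h1] at h3
      have h4 : (y ^ p ^ k) ^ 2 = 1 := by
        rw [pow_two]
        nth_rw 1 [← h3]
        rw [inv_mul_cancel]
      have hg1 := pow_gcd_eq_one.mpr ⟨h1, h4⟩
      rw [Nat.Coprime.gcd_eq_one ((Nat.coprime_primes (Fact.out : p.Prime) Nat.prime_two).mpr hp), pow_one] at hg1
      exact h2 hg1
  refine hag (commutatorElement_eq_one_iff_commute.mpr (hfpf.commute_all_of_involutive ?_ a g))
  exact fun y => congrArg (fun f : MulAut P => f y) hsq

end Cfsg.Agent.S5234
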