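import Cfsg.Statements.S0011

set_option autoImplicit false
open Cfsg

namespace Cfsg.Agent.S0011

/-- If the Frattini quotient of a finite group is nilpotent then the group is nilpotent. -/
theorem result {G : Type*} [Group G] [Finite G]
    (h : Group.IsNilpotent (G ⧸ frattini G)) : Group.IsNilpotent G := by
  refine ((Group.isNilpotent_of_finite_tfae (G := G)).out 0 2).mpr fun M hM => ?_
  have hle : frattini G ≤ M := frattini_le_coatom hM
  have hM' : IsCoatom (M.map (QuotientGroup.mk' (frattini G))) := by
    have hcm : (M.map (QuotientGroup.mk' (frattini G))).comap (QuotientGroup.mk' (frattini G)) = M :=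
      Subgroup.comap_map_eq_self (by rwa [QuotientGroup.ker_mk'])
    refine ⟨fun h => hM.1 ?_, fun K hK => ?_⟩
    · rw [← hcm, h, Subgroup.comap_top]
    · have h1 : M < K.comap (QuotientGroup.mk' (frattini G)) := by
        rw [← hcm]
        exact (Subgroup.comap_lt_comap_of_surjective (QuotientGroup.mk'_surjective _)).mpr hK
      have := congrArg (Subgroup.map (QuotientGroup.mk' (frattini G))) (hM.2 _ h1)
      rwa [Subgroup.map_comap_eq_self_of_surjective (QuotientGroup.mk'_surjective _),
        Subgroup.map_top_of_surjective _ (QuotientGroup.mk'_surjective _)] at this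
  have hall : ∀ H : Subgroup (G ⧸ frattini G), IsCoatom H → H.Normal :=
    ((Group.isNilpotent_of_finite_tfae (G := G ⧸ frattini G)).out 0 2).mp h
  have := hall _ hM'
  rw [← Subgroup.comap_map_eq_self (f := QuotientGroup.mk' (frattini G)) (H := M) (by rwa [QuotientGroup.ker_mk'])]
  exact this.comap _

end Cfsg.Agent.S0011
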