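import Cfsg.Statements.S3911
import Mathlib
import Cfsg.Agent.S0016
import Cfsg.Agent.S0011
-- import your own Cfsg.Agent.* helpers here

set_option autoImplicit false
open Cfsg

namespace Cfsg.Agent.S3911

open Subgroup
open scoped IsMulCommutative commutatorElement

theorem cyclic_le {Q : Type*} [Group Q] [Finite Q] [IsCyclic Q] {H K : Subgroup Q} (h : Nat.card H ∣ Nat.card K) :
    H ≤ K := by
  classical
  haveI := Fintype.ofFinite Q
  intro x hx
  have hx' : x ^ Nat.card K = 1 := orderOf_dvd_iff_pow_eq_one.mp ((Subgroup.orderOf_dvd_natCard H hx).trans h)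
  by_contra hxK
  have hsub : insert x (K : Set Q).toFinset ⊆ Finset.univ.filter (fun y : Q => y ^ Nat.card K = 1) := by
    intro y hy
    rw [Finset.mem_insert, Set.mem_toFinset] at hy
    simp only [Finset.mem_filter, Finset.mem_univ, true_and]
    rcases hy with rfl | hy
    · exact hx'
    · exact congrArg Subtype.val (pow_card_eq_one' (x := (⟨y, hy⟩ : K)))
  have h1 := (Finset.card_le_card hsub).trans (IsCyclic.card_pow_eq_one_le Nat.card_pos)
  rw [Finset.card_insert_of_notMem (by rwa [Set.mem_toFinset]), Set.toFinset_card, ← Nat.card_eq_fintype_card] at h1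
  have e : Nat.card ↥(K : Set Q) = Nat.card K := rfl
  omega

theorem comm_of_cyclic {G : Type*} [Group G] {H : Subgroup G} (h : IsCyclic H) : IsMulCommutative H :=
  ⟨⟨fun a b => (IsCyclic.commGroup (α := H)).mul_comm a b⟩⟩

theorem sylow_cyclic {G : Type*} [Group G] [Finite G]
    (hB : ∀ A B : Subgroup G, IsMulCommutative ↥A → IsMulCommutative ↥B → Nat.card ↥A = Nat.card ↥B →
      ∃ g : G, B = A.map (MulAut.conj g).toMonoidHom)
    (M : Subgroup G) [M.Normal] (p : ℕ) [Fact p.Prime] (hp2 : p ≠ 2) (hpM : p ∣ Nat.card M) (hpi : p ∣ M.index)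
    (P : Sylow p G) : IsCyclic (P : Subgroup G) := by
  have hp := (Fact.out : p.Prime)
  obtain ⟨m₀, hm₀⟩ := exists_prime_orderOf_dvd_card' p hpM
  have hordM : ∀ x : G, orderOf x = p → x ∈ M := by
    intro x hx
    obtain ⟨g, hg⟩ := hB (zpowers (m₀ : G)) (zpowers x) (comm_of_cyclic inferInstance) (comm_of_cyclic inferInstance)
      (by rw [Nat.card_zpowers, Nat.card_zpowers, hx, Subgroup.orderOf_coe, hm₀])
    obtain ⟨y, hy, e⟩ := (hg ▸ mem_zpowers x : x ∈ (zpowers (m₀ : G)).map (MulAut.conj g).toMonoidHom)
    rw [← e]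
    exact (inferInstance : M.Normal).conj_mem y (zpowers_le.mpr m₀.2 hy) g
  by_contra hnc
  -- a noncyclic abelian subgroup of order `p ^ 2`
  have hne : ¬ ∀ H K : Subgroup P, Nat.card H = p → Nat.card K = p → H = K := fun hu =>
    hnc ((Cfsg.Agent.S0016.result p P.2 hu).resolve_right fun h => hp2 h.1)
  obtain ⟨E, hEc, hEn, hE⟩ : ∃ E : Subgroup G, IsMulCommutative E ∧ Nat.card E = p ^ 2 ∧ ∀ x ∈ E, x ^ p = 1 := by
    push Not at hne
    obtain ⟨H, K, hH, hK, hHK⟩ := hne
    haveI : Nontrivial (P : Subgroup G) := by
      have h1 := Subgroup.card_subgroup_dvd_card H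
      rw [hH] at h1
      exact (Finite.one_lt_card_iff_nontrivial).mp (lt_of_lt_of_le hp.one_lt (Nat.le_of_dvd Nat.card_pos h1))
    haveI := P.2.center_nontrivial
    have hcp : p ∣ Nat.card (center (P : Subgroup G)) := by
      obtain ⟨k, hk⟩ := IsPGroup.iff_card.mp (P.2.to_subgroup (center (P : Subgroup G)))
      rcases k with _ | k
      · rw [pow_zero] at hk
        exact absurd (Finite.one_lt_card (α := center (P : Subgroup G))) (by omega)
      · rw [hk]; exact dvd_pow_self p (Nat.succ_ne_zero k)
    obtain ⟨z, hz⟩ := exists_prime_orderOf_dvd_card' p hcp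
    obtain ⟨X, hX, hXz⟩ : ∃ X : Subgroup (P : Subgroup G), Nat.card X = p ∧ X ≠ zpowers (z : (P : Subgroup G)) := by
      by_cases h : H = zpowers (z : (P : Subgroup G))
      · exact ⟨K, hK, fun e => hHK (h.trans e.symm)⟩
      · exact ⟨H, hH, h⟩
    have hzc : Nat.card (zpowers (z : (P : Subgroup G))) = p := by rw [Nat.card_zpowers, Subgroup.orderOf_coe, hz]
    obtain ⟨⟨x, hxX⟩, hx⟩ := exists_prime_orderOf_dvd_card' (G := X) p (by rw [hX])
    rw [Subgroup.orderOf_mk] at hx
    set u : G := ((x : (P : Subgroup G)) : G)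
    set v : G := ((z : (P : Subgroup G)) : G)
    have huv : Commute u v := congrArg Subtype.val (mem_center_iff.mp z.2 x)
    have hu : orderOf u = p := by rw [Subgroup.orderOf_coe, hx]
    have hv : orderOf v = p := by rw [Subgroup.orderOf_coe, Subgroup.orderOf_coe, hz]
    have hdis : zpowers u ⊓ zpowers v = ⊥ := by
      rw [eq_bot_iff]
      intro y hy
      by_contra hy1
      rw [mem_bot] at hy1
      have hyo : orderOf y = p := ((Nat.dvd_prime hp).mp (hu ▸ orderOf_dvd_of_mem_zpowers hy.1)).resolve_left
        fun h => hy1 (orderOf_eq_one_iff.mp h)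
      have h1 : zpowers y = zpowers u := eq_of_le_of_card_ge (zpowers_le.mpr hy.1)
        (by rw [Nat.card_zpowers, Nat.card_zpowers, hyo, hu])
      have h2 : zpowers y = zpowers v := eq_of_le_of_card_ge (zpowers_le.mpr hy.2)
        (by rw [Nat.card_zpowers, Nat.card_zpowers, hyo, hv])
      have h3 : zpowers x = zpowers (z : (P : Subgroup G)) := by
        refine map_injective (Subgroup.subtype_injective _) ?_
        rw [MonoidHom.map_zpowers, MonoidHom.map_zpowers]
        exact h1.symm.trans h2
      exact hXz ((eq_of_le_of_card_ge (zpowers_le.mpr hxX) (by rw [hX, Nat.card_zpowers, hx])).symm.trans h3)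
    set E := closure ({u, v} : Set G) with hEdef
    have hEc : IsMulCommutative E := Subgroup.isMulCommutative_closure (by
      rintro a (rfl | rfl) b (rfl | rfl)
      · rfl
      · exact huv.eq
      · exact huv.eq.symm
      · rfl)
    have huE : u ∈ E := subset_closure (Set.mem_insert _ _)
    have hvE : v ∈ E := subset_closure (Set.mem_insert_of_mem _ rfl)
    have hEsup : E = zpowers u ⊔ zpowers v := by
      refine le_antisymm ((closure_le _).mpr ?_) (sup_le (zpowers_le.mpr huE) (zpowers_le.mpr hvE))
      rintro a (rfl | rfl)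
      · exact mem_sup_left (mem_zpowers _)
      · exact mem_sup_right (mem_zpowers _)
    refine ⟨E, hEc, ?_, ?_⟩
    · haveI := hEc
      have h1 : IsComplement' ((zpowers u).subgroupOf E) ((zpowers v).subgroupOf E) := by
        refine isComplement'_of_disjoint_and_mul_eq_univ ?_ ?_
        · rw [disjoint_iff, eq_bot_iff]
          intro t ht
          exact Subtype.ext ((eq_bot_iff.mp hdis) ⟨ht.1, ht.2⟩)
        · rw [← normal_mul, ← subgroupOf_sup (zpowers_le.mpr huE) (zpowers_le.mpr hvE), ← hEsup, subgroupOf_self]
          rfl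
      rw [← h1.card_mul, Nat.card_congr (subgroupOfEquivOfLe (zpowers_le.mpr huE)).toEquiv,
        Nat.card_congr (subgroupOfEquivOfLe (zpowers_le.mpr hvE)).toEquiv, Nat.card_zpowers, Nat.card_zpowers, hu, hv,
        pow_two]
    · intro y hy
      induction hy using closure_induction with
      | mem a ha =>
        rcases ha with rfl | rfl
        · exact hu ▸ pow_orderOf_eq_one u
        · exact hv ▸ pow_orderOf_eq_one v
      | one => exact one_pow p
      | mul a b ha hb iha ihb =>
        rw [(show Commute a b from congrArg Subtype.val (hEc.1.comm ⟨a, ha⟩ ⟨b, hb⟩)).mul_pow, iha, ihb, mul_one]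
      | inv a ha iha => rw [inv_pow, iha, inv_one]
  -- no elements of order `p ^ 2`, so `P ≤ M`
  have hle : (P : Subgroup G) ≤ M := by
    intro x hx
    obtain ⟨j, hj⟩ := IsPGroup.iff_orderOf.mp P.2 ⟨x, hx⟩
    rw [Subgroup.orderOf_mk] at hj
    rcases j with _ | _ | j
    · rw [pow_zero, orderOf_eq_one_iff] at hj; rw [hj]; exact one_mem M
    · exact hordM x (by rw [hj, zero_add, pow_one])
    · exfalso
      have ho : orderOf (x ^ p ^ j) = p ^ 2 := by
        rw [orderOf_pow' x (pow_ne_zero _ hp.ne_zero), hj, show p ^ (j + 1 + 1) = p ^ j * p ^ 2 by rw [← pow_add],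
          Nat.gcd_eq_right (dvd_mul_right _ _), Nat.mul_div_cancel_left _ (pow_pos hp.pos j)]
      obtain ⟨g, hg⟩ := hB E (zpowers (x ^ p ^ j)) hEc (comm_of_cyclic inferInstance) (by rw [hEn, Nat.card_zpowers, ho])
      obtain ⟨y, hy, e⟩ := (hg ▸ mem_zpowers (x ^ p ^ j) : x ^ p ^ j ∈ E.map (MulAut.conj g).toMonoidHom)
      have h1 : (x ^ p ^ j) ^ p = 1 := by rw [← e, ← map_pow, hE y hy, map_one]
      have h2 := Nat.le_of_dvd hp.pos (ho ▸ orderOf_dvd_of_pow_eq_one h1)
      nlinarith [hp.two_le]
  exact P.not_dvd_index (hpi.trans (Subgroup.index_dvd_of_le hle))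

theorem lift {G : Type*} [Group G] [Finite G]
    (hB : ∀ A B : Subgroup G, IsMulCommutative ↥A → IsMulCommutative ↥B → Nat.card ↥A = Nat.card ↥B →
      ∃ g : G, B = A.map (MulAut.conj g).toMonoidHom)
    (M : Subgroup G) [M.Normal] (hM : Odd (Nat.card M)) (A : Subgroup (G ⧸ M)) (hA : IsMulCommutative A) :
    ∃ L : Subgroup G, IsMulCommutative L ∧ L.map (QuotientGroup.mk' M) = A ∧ ∀ p : ℕ, p.Prime →
      (Nat.card L).factorization p =
        if p ∣ Nat.card A then (Nat.card A).factorization p + (Nat.card M).factorization p else 0 := by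
  classical
  set π := QuotientGroup.mk' M with hπ
  have hπs : Function.Surjective π := QuotientGroup.mk'_surjective M
  obtain ⟨L, hLA, hmin⟩ : ∃ L : Subgroup G, L.map π = A ∧ ∀ L' : Subgroup G, L'.map π = A → Nat.card L ≤ Nat.card L' := by
    have hex : ∃ n, ∃ L : Subgroup G, L.map π = A ∧ Nat.card L = n :=
      ⟨_, A.comap π, map_comap_eq_self_of_surjective hπs A, rfl⟩
    obtain ⟨L, hL, hLn⟩ := Nat.find_spec hex
    exact ⟨L, hL, fun L' h' => hLn ▸ Nat.find_min' hex ⟨L', h', rfl⟩⟩
  have hπA : ∀ x ∈ L, π x ∈ A := fun x hx => hLA ▸ mem_map_of_mem π hx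
  set K := M.subgroupOf L with hK
  have hKΦ : K ≤ frattini L := by
    simp only [frattini, Order.radical, le_iInf_iff]
    intro C hC
    by_contra hKC
    have htop : C ⊔ K = ⊤ := hC.2 _ (left_lt_sup.mpr hKC)
    have hmap : (C.map L.subtype).map π = A := by
      refine le_antisymm (hLA ▸ map_mono (map_subtype_le C)) fun a ha => ?_
      obtain ⟨l, hl, rfl⟩ := (hLA.symm ▸ ha : a ∈ L.map π)
      obtain ⟨c, hc, k, hk, e⟩ := mem_sup_of_normal_right.mp (htop ▸ mem_top (⟨l, hl⟩ : L))
      refine ⟨(c : G), ⟨c, hc, rfl⟩, ?_⟩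
      have e' : (c : G) * (k : G) = l := congrArg Subtype.val e
      rw [← e', map_mul, show π (k : G) = 1 from (QuotientGroup.eq_one_iff _).mpr hk, mul_one]
    have h1 := hmin _ hmap
    rw [card_subtype] at h1
    exact hC.1 (eq_top_of_le_card C h1)
  have hcommK : commutator L ≤ K := by
    rw [_root_.commutator_def, commutator_le]
    intro a _ b _
    rw [hK, mem_subgroupOf, ← QuotientGroup.eq_one_iff]
    show π ((⁅a, b⁆ : L) : G) = 1
    rw [commutatorElement_def, Subgroup.coe_mul, Subgroup.coe_mul, Subgroup.coe_mul, Subgroup.coe_inv, Subgroup.coe_inv,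
      ← commutatorElement_def, map_commutatorElement, commutatorElement_eq_one_iff_mul_comm]
    exact congrArg Subtype.val (hA.1.comm ⟨_, hπA a a.2⟩ ⟨_, hπA b b.2⟩)
  have hnil : Group.IsNilpotent L := by
    refine Cfsg.Agent.S0011.result ?_
    letI : CommGroup (L ⧸ frattini L) :=
      { (inferInstance : Group (L ⧸ frattini L)) with
        mul_comm := (Subgroup.Normal.quotient_commutative_iff_commutator_le.mpr (hcommK.trans hKΦ)).is_comm.comm }
    infer_instance
  let f := π.subgroupMap L
  have hfker : f.ker = K := by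
    ext l
    rw [MonoidHom.mem_ker, hK, mem_subgroupOf, ← QuotientGroup.eq_one_iff]
    exact ⟨fun h => congrArg Subtype.val h, fun h => Subtype.ext h⟩
  have hcardL : Nat.card L = Nat.card A * Nat.card K := by
    have h1 := Subgroup.card_eq_card_quotient_mul_card_subgroup f.ker
    rw [Nat.card_congr (QuotientGroup.quotientKerEquivOfSurjective f (π.subgroupMap_surjective L)).toEquiv, hfker,
      hLA] at h1
    exact h1
  have hKM : Nat.card K ∣ Nat.card M := by
    rw [← Subgroup.card_map_of_injective L.subtype_injective, hK]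
    exact card_dvd_of_le (map_le_iff_le_comap.mpr le_rfl)
  have hfac : ∀ p, (Nat.card L).factorization p = (Nat.card A).factorization p + (Nat.card K).factorization p := by
    intro p
    rw [hcardL, Nat.factorization_mul Nat.card_pos.ne' Nat.card_pos.ne', Finsupp.add_apply]
  have hnorm : ∀ (p : ℕ) [Fact p.Prime] (S : Sylow p L), (S : Subgroup L).Normal := by
    have h := (((Group.isNilpotent_of_finite_tfae (G := L)).out 0 3 :) ).mp hnil
    exact fun p hp S => h p hp S
  -- the Sylow subgroups of `L`
  have key : ∀ (p : ℕ) [Fact p.Prime] (S : Sylow p L), IsMulCommutative (S : Subgroup L) ∧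
      (Nat.card L).factorization p =
        if p ∣ Nat.card A then (Nat.card A).factorization p + (Nat.card M).factorization p else 0 := by
    intro p hpf S
    have hp : p.Prime := hpf.out
    haveI := hnorm p S
    by_cases hpA : p ∣ Nat.card A
    · rw [if_pos hpA]
      by_cases hpM : p ∣ Nat.card M
      · have hp2 : p ≠ 2 := fun h => (Nat.not_even_iff_odd.mpr hM) (even_iff_two_dvd.mpr (h ▸ hpM))
        have hpi : p ∣ M.index := hpA.trans (card_subgroup_dvd_card A)
        obtain ⟨P, hP⟩ := (S.2.map L.subtype).exists_le_sylow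
        haveI := sylow_cyclic hB M p hp2 hpM hpi P
        haveI hSc : IsCyclic ((S : Subgroup L).map L.subtype) := isCyclic_of_injective (inclusion hP) (inclusion_injective hP)
        haveI : IsCyclic (S : Subgroup L) := isCyclic_of_injective
          (L.subtype.subgroupMap (S : Subgroup L)) (by
            intro a b h
            apply Subtype.ext
            apply L.subtype_injective
            have h2 := congrArg Subtype.val h
            exact h2)
        refine ⟨comm_of_cyclic inferInstance, ?_⟩
        rw [hfac]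
        congr 1
        refine le_antisymm ((Nat.factorization_le_iff_dvd Nat.card_pos.ne' Nat.card_pos.ne').mpr hKM p) ?_
        set PM := (P : Subgroup G) ⊓ M with hPM
        have hPMc : (Nat.card M).factorization p ≤ (Nat.card PM).factorization p := by
          have h1 : ¬ p ∣ PM.relIndex M := by
            intro hd
            refine P.not_dvd_index (hd.trans ?_)
            rw [← relIndex_mul_index (le_sup_left : (P : Subgroup G) ≤ (P : Subgroup G) ⊔ M)]
            refine dvd_mul_of_dvd_left (dvd_of_eq ?_) _
            have e1 : Nat.card PM * PM.relIndex M = Nat.card M := by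
              rw [← card_mul_index (PM.subgroupOf M), Nat.card_congr (subgroupOfEquivOfLe (inf_le_right : PM ≤ M)).toEquiv,
                relIndex]
            have e2 : Nat.card PM * M.relIndex (P : Subgroup G) = Nat.card (P : Subgroup G) := by
              rw [← card_mul_index (M.subgroupOf (P : Subgroup G)), relIndex]
              congr 1
              rw [hPM, ← Subgroup.card_map_of_injective (f := (P : Subgroup G).subtype) (K := M.subgroupOf (P : Subgroup G)) (P : Subgroup G).subtype_injective,
                subgroupOf_map_subtype, inf_comm]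
            have e3 : Nat.card M * M.relIndex (P : Subgroup G) = Nat.card ↥((P : Subgroup G) ⊔ M) := by
              rw [← card_mul_index (M.subgroupOf ((P : Subgroup G) ⊔ M)), Nat.card_congr (subgroupOfEquivOfLe le_sup_right).toEquiv,
                ← relIndex, relIndex_sup_right]
            have e4 : Nat.card (P : Subgroup G) * (P : Subgroup G).relIndex ((P : Subgroup G) ⊔ M) = Nat.card ↥((P : Subgroup G) ⊔ M) := by
              rw [← card_mul_index ((P : Subgroup G).subgroupOf ((P : Subgroup G) ⊔ M)),
                Nat.card_congr (subgroupOfEquivOfLe le_sup_left).toEquiv, relIndex]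
            have hpos : 0 < Nat.card PM * M.relIndex (P : Subgroup G) := by rw [e2]; exact Nat.card_pos
            refine Nat.eq_of_mul_eq_mul_left hpos ?_
            calc Nat.card PM * M.relIndex (P : Subgroup G) * PM.relIndex M
                = Nat.card PM * PM.relIndex M * M.relIndex (P : Subgroup G) := by ring
              _ = Nat.card M * M.relIndex (P : Subgroup G) := by rw [e1]
              _ = Nat.card (P : Subgroup G) * (P : Subgroup G).relIndex ((P : Subgroup G) ⊔ M) := by rw [e3, e4]
              _ = _ := by rw [e2]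
          have h2 : Nat.card M = Nat.card PM * PM.relIndex M := by
            rw [← card_mul_index (PM.subgroupOf M), Nat.card_congr (subgroupOfEquivOfLe (inf_le_right : PM ≤ M)).toEquiv,
              relIndex]
          rw [h2, Nat.factorization_mul Nat.card_pos.ne' (fun h => h1 (by rw [h]; exact dvd_zero p)), Finsupp.add_apply,
            Nat.factorization_eq_zero_of_not_dvd h1, add_zero]
        refine hPMc.trans ?_
        suffices hle : PM ≤ (S : Subgroup L).map L.subtype by
          refine (Nat.factorization_le_iff_dvd Nat.card_pos.ne' Nat.card_pos.ne').mpr ?_ p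
          rw [← Subgroup.card_map_of_injective (f := L.subtype) (K := K) L.subtype_injective]
          refine card_dvd_of_le fun x hx => ?_
          obtain ⟨y, -, rfl⟩ := hle hx
          exact ⟨y, hx.2, rfl⟩
        set S' := (S : Subgroup L).map L.subtype with hS'
        obtain ⟨a, ha⟩ := IsPGroup.iff_card.mp (P.2.to_le (inf_le_left : PM ≤ (P : Subgroup G)))
        obtain ⟨b, hb⟩ := IsPGroup.iff_card.mp (S.2.map L.subtype)
        have hsub : ∀ {U V : Subgroup G}, U ≤ (P : Subgroup G) → V ≤ (P : Subgroup G) → Nat.card U ∣ Nat.card V → U ≤ V := by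
          intro U V hU hV h x hx
          have := cyclic_le (H := U.subgroupOf (P : Subgroup G)) (K := V.subgroupOf (P : Subgroup G))
            (by rwa [Nat.card_congr (subgroupOfEquivOfLe hU).toEquiv, Nat.card_congr (subgroupOfEquivOfLe hV).toEquiv])
            (show (⟨x, hU hx⟩ : (P : Subgroup G)) ∈ _ from hx)
          exact this
        rcases le_total a b with hab | hab
        · exact hsub inf_le_left hP (by rw [ha, hb]; exact pow_dvd_pow p hab)
        · exfalso
          have hle : S' ≤ PM := hsub hP inf_le_left (by rw [ha, hS', hb]; exact pow_dvd_pow p hab)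
          have hSK : (S : Subgroup L) ≤ K := fun s hs => (hle (mem_map_of_mem L.subtype hs)).2
          have h1 := (Nat.factorization_le_iff_dvd Nat.card_pos.ne' Nat.card_pos.ne').mpr (card_dvd_of_le hSK) p
          rw [S.card_eq_multiplicity, Nat.Prime.factorization_pow hp, Finsupp.single_eq_same, hfac] at h1
          have h2 := hp.factorization_pos_of_dvd Nat.card_pos.ne' hpA
          omega
      · have hinj : Function.Injective (f.comp (S : Subgroup L).subtype) := by
          rw [← MonoidHom.ker_eq_bot_iff, eq_bot_iff]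
          intro s hs
          have hsK : (s : L) ∈ K := hfker ▸ hs
          obtain ⟨k, hk⟩ := IsPGroup.iff_orderOf.mp S.2 s
          rw [mem_bot, ← orderOf_eq_one_iff, hk]
          rcases k with _ | k
          · rfl
          · exfalso
            refine hpM ((dvd_pow_self p (Nat.succ_ne_zero k)).trans (hk ▸ ?_))
            rw [← Subgroup.orderOf_coe]
            exact (Subgroup.orderOf_dvd_natCard K hsK).trans hKM
        refine ⟨⟨⟨fun a b => hinj (Subtype.ext ?_)⟩⟩, ?_⟩
        · rw [map_mul, map_mul, Subgroup.coe_mul, Subgroup.coe_mul]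
          exact congrArg Subtype.val (hA.1.comm ⟨_, hπA _ (a : L).2⟩ ⟨_, hπA _ (b : L).2⟩)
        · rw [hfac, Nat.factorization_eq_zero_of_not_dvd (fun h => hpM (h.trans hKM)),
            Nat.factorization_eq_zero_of_not_dvd hpM]
    · rw [if_neg hpA]
      have hSK : (S : Subgroup L) ≤ K := by
        intro s hs
        obtain ⟨k, hk⟩ := IsPGroup.iff_orderOf.mp S.2 ⟨s, hs⟩
        rw [Subgroup.orderOf_mk] at hk
        have hs' : f s = 1 := orderOf_eq_one_iff.mp (Nat.eq_one_of_dvd_coprimes
          ((hp.coprime_iff_not_dvd.mpr hpA).pow_left k) ((orderOf_map_dvd f s).trans (dvd_of_eq hk))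
          (by
            rw [← Subgroup.orderOf_coe]
            exact Subgroup.orderOf_dvd_natCard A (hπA s s.2)))
        rw [← hfker]
        exact hs'
      obtain ⟨C, hC⟩ := exists_right_complement'_of_coprime S.card_coprime_index
      have hCtop : C = ⊤ := by
        refine frattini_nongenerating (eq_top_iff.mpr ?_)
        rw [← hC.sup_eq_top, sup_comm]
        exact sup_le_sup_left (hSK.trans hKΦ) C
      have hSbot : (S : Subgroup L) = ⊥ := by
        have := hC.disjoint
        rw [hCtop, disjoint_top] at this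
        exact this
      haveI : Subsingleton (S : Subgroup L) := by rw [hSbot]; infer_instance
      refine ⟨⟨⟨fun a b => Subsingleton.elim _ _⟩⟩, ?_⟩
      have := S.card_eq_multiplicity
      rw [hSbot, card_bot] at this
      exact (Nat.pow_eq_one.mp this.symm).resolve_left hp.ne_one
  refine ⟨L, ⟨⟨fun a b => ?_⟩⟩, hLA, fun p hp => by
    haveI := Fact.mk hp
    exact (key p (Classical.arbitrary _)).2⟩
  let e := Sylow.directProductOfNormal (G := L) (fun {p} _ S => hnorm p S)
  obtain ⟨a, rfl⟩ := e.surjective a
  obtain ⟨b, rfl⟩ := e.surjective b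
  rw [← map_mul, ← map_mul]
  congr 1
  funext p S
  haveI := Fact.mk (Nat.prime_of_mem_primeFactors p.2)
  exact (key p S).1.1.comm (a p S) (b p S)

/-- Let G be a finite group in which any two abelian subgroups of the same order are conjugate. If M is a normal subgroup of G of odd order, then any two abelian subgroups of G/M of the same order are conjugate in G/M. -/
theorem result {G : Type*} [Group G] [Finite G] (hB : ∀ A B : Subgroup G, IsMulCommutative ↥A → IsMulCommutative ↥B → Nat.card ↥A = Nat.card ↥B → ∃ g : G, B = A.map (MulAut.conj g).toMonoidHom) (M : Subgroup G) [M.Normal] (hM : Odd (Nat.card ↥M)) :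
    ∀ A B : Subgroup (G ⧸ M), IsMulCommutative ↥A → IsMulCommutative ↥B → Nat.card ↥A = Nat.card ↥B →
      ∃ g : G ⧸ M, B = A.map (MulAut.conj g).toMonoidHom := by
  intro A B hA hB' hcard
  obtain ⟨L₁, h1, h1m, h1f⟩ := lift hB M hM A hA
  obtain ⟨L₂, h2, h2m, h2f⟩ := lift hB M hM B hB'
  have hc : Nat.card L₁ = Nat.card L₂ := Nat.eq_of_factorization_eq Nat.card_pos.ne' Nat.card_pos.ne' fun p => by
    by_cases hp : p.Prime
    · rw [h1f p hp, h2f p hp, hcard]
    · rw [Nat.factorization_eq_zero_of_not_prime _ hp, Nat.factorization_eq_zero_of_not_prime _ hp]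
  obtain ⟨g, hg⟩ := hB L₁ L₂ h1 h2 hc
  refine ⟨QuotientGroup.mk' M g, ?_⟩
  rw [← h2m, ← h1m, hg, Subgroup.map_map, Subgroup.map_map]
  congr 1

end Cfsg.Agent.S3911
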