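import Cfsg.Statements.S4023
import Mathlib
import Cfsg.Agent.Lib.EqualOrderConj
-- import your own Cfsg.Agent.* helpers here

set_option autoImplicit false
open Cfsg

namespace Cfsg.Agent.S4023

/-- Let p be a prime and G a finite group in which any two p-subgroups of the same order are conjugate, with Sylow p-subgroup P. Then P is cyclic, or elementary abelian, or p = 2 and P is a quaternion group of order 8, or p is odd and P is non-abelian of order p³ and exponent p. -/
theorem result {G : Type*} [Group G] [Finite G]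
    {p : ℕ} [Fact p.Prime] (hC : ∀ H K : Subgroup G, IsPGroup p H → IsPGroup p K → Nat.card H = Nat.card K →
      ∃ g : G, K = H.map (MulAut.conj g).toMonoidHom) (P : Sylow p G) :
    IsCyclic P ∨ Cfsg.IsElementaryAbelian p (P : Subgroup G) ∨
      (p = 2 ∧ Nonempty ((P : Subgroup G) ≃* QuaternionGroup 2)) ∨
      (p ≠ 2 ∧ ¬ IsMulCommutative P ∧ Nat.card P = p ^ 3 ∧ Monoid.exponent P = p) := by
  have hB : ∀ A B : Subgroup G, A ≤ (P : Subgroup G) → B ≤ (P : Subgroup G) → IsMulCommutative ↥A →
      IsMulCommutative ↥B → Nat.card ↥A = Nat.card ↥B → ∃ g : G, B = A.map (MulAut.conj g).toMonoidHom :=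
    fun A B hA hB _ _ hc => hC A B (P.2.to_le hA) (P.2.to_le hB) hc
  rcases CfsgLib.EqualOrder.cyclic_or_exponent (p := p) (P : Subgroup G) P.2 hB with h | ⟨hp2, n, hn, ⟨e⟩⟩ | h
  · exact Or.inl h
  · refine Or.inr (Or.inr (Or.inl ⟨hp2, ?_⟩))
    rcases hn.eq_or_lt with rfl | hn2
    · exact ⟨e⟩
    exfalso
    -- a cyclic and a noncyclic subgroup of index two
    set M := 2 ^ n with hM
    haveI : NeZero M := ⟨by positivity⟩
    have h2M : 2 ∣ 2 * M := dvd_mul_right 2 M
    let c : ZMod (2 * M) →+* ZMod 2 := ZMod.castHom h2M (ZMod 2)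
    have hcM : c (M : ZMod (2 * M)) = 0 := by
      rw [map_natCast, ZMod.natCast_eq_zero_iff_even, hM, Nat.even_pow]
      exact ⟨even_two, by omega⟩
    let φ : QuaternionGroup M →* Multiplicative (ZMod 2) :=
      { toFun := fun q => match q with
          | QuaternionGroup.a i => Multiplicative.ofAdd (c i)
          | QuaternionGroup.xa i => Multiplicative.ofAdd (c i)
        map_one' := by
          change Multiplicative.ofAdd (c 0) = 1
          rw [map_zero]; rfl
        map_mul' := by
          have h2 : ∀ u v : ZMod 2, v - u = u + v := by decide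
          rintro (i | i) (j | j)
          · simp only [QuaternionGroup.a_mul_a, map_add, ofAdd_add]
          · simp only [QuaternionGroup.a_mul_xa, map_sub, h2, ofAdd_add]
          · simp only [QuaternionGroup.xa_mul_a, map_add, ofAdd_add]
          · simp only [QuaternionGroup.xa_mul_xa, map_sub, map_add, hcM, zero_add, h2, ofAdd_add] }
    have hsurj : Function.Surjective φ := by
      intro t
      obtain ⟨i, hi⟩ := ZMod.castHom_surjective h2M (Multiplicative.toAdd t)
      exact ⟨QuaternionGroup.a i, show Multiplicative.ofAdd (c i) = t by rw [show c i = _ from hi]; rfl⟩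
    have hker : Nat.card φ.ker = 2 * M := by
      have h1 := Subgroup.card_eq_card_quotient_mul_card_subgroup φ.ker
      rw [Nat.card_congr (QuotientGroup.quotientKerEquivOfSurjective φ hsurj).toEquiv, Nat.card_eq_fintype_card,
        QuaternionGroup.card, show Nat.card (Multiplicative (ZMod 2)) = 2 from Nat.card_zmod 2] at h1
      omega
    let ψ : QuaternionGroup M →* G := ((P : Subgroup G).subtype).comp e.symm.toMonoidHom
    have hψ : Function.Injective ψ := Subtype.coe_injective.comp e.symm.injective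
    have hle : ∀ H : Subgroup (QuaternionGroup M), H.map ψ ≤ (P : Subgroup G) := by
      rintro H _ ⟨q, -, rfl⟩
      exact (e.symm q).2
    obtain ⟨g, hg⟩ := hC ((Subgroup.zpowers (QuaternionGroup.a (1 : ZMod (2 * M)))).map ψ) (φ.ker.map ψ)
      (P.2.to_le (hle _)) (P.2.to_le (hle _))
      (by rw [Subgroup.card_map_of_injective hψ, Subgroup.card_map_of_injective hψ, hker, Nat.card_zpowers,
        QuaternionGroup.orderOf_a_one])
    have hab : ∀ u ∈ φ.ker, ∀ v ∈ φ.ker, u * v = v * u := by
      intro u hu v hv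
      apply hψ
      have hu' : ψ u ∈ φ.ker.map ψ := ⟨u, hu, rfl⟩
      have hv' : ψ v ∈ φ.ker.map ψ := ⟨v, hv, rfl⟩
      rw [hg] at hu' hv'
      obtain ⟨_, ⟨a, ⟨i, rfl⟩, rfl⟩, ea⟩ := hu'
      obtain ⟨_, ⟨b, ⟨j, rfl⟩, rfl⟩, eb⟩ := hv'
      rw [map_mul, map_mul, ← ea, ← eb, ← map_mul, ← map_mul, ← map_mul, ← map_mul, ← zpow_add, ← zpow_add,
        add_comm]
    have h := hab (QuaternionGroup.a 2) (show Multiplicative.ofAdd (c 2) = 1 by rw [map_ofNat]; rfl)
      (QuaternionGroup.xa 0) (show Multiplicative.ofAdd (c 0) = 1 by rw [map_zero]; rfl)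
    rw [QuaternionGroup.a_mul_xa, QuaternionGroup.xa_mul_a, zero_add, zero_sub] at h
    have h4 : (4 : ZMod (2 * M)) = 0 := by
      have h' := QuaternionGroup.xa.inj h
      calc (4 : ZMod (2 * M)) = 2 - (-2) := by norm_num
        _ = 0 := by rw [h', sub_self]
    have h4' : 2 * M ∣ 4 := (ZMod.natCast_eq_zero_iff 4 (2 * M)).mp (by exact_mod_cast h4)
    have := Nat.le_of_dvd (by norm_num) h4'
    have : 4 ≤ M := hM ▸ (show 2 ^ 2 ≤ 2 ^ n from Nat.pow_le_pow_right (by norm_num) hn2)
    omega
  · have hp : p.Prime := Fact.out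
    by_cases hab : IsMulCommutative ↥(P : Subgroup G)
    · exact Or.inr (Or.inl ⟨hab, h⟩)
    have hexp : ∀ x : ↥(P : Subgroup G), x ^ p = 1 := fun x => Subtype.ext (by simpa using h x x.2)
    have hp2 : p ≠ 2 := by
      rintro rfl
      refine hab ⟨⟨fun a b => ?_⟩⟩
      have key : ∀ t : ↥(P : Subgroup G), t⁻¹ = t := fun t =>
        inv_eq_of_mul_eq_one_right (by simpa [pow_two] using hexp t)
      calc a * b = (a * b)⁻¹ := (key _).symm
        _ = b * a := by rw [mul_inv_rev, key, key]
    have hcard : Nat.card ↥(P : Subgroup G) = p ^ 3 := by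
      refine CfsgLib.EqualOrder.card_eq_cube P.2 hexp hab fun A B hA hB' hAab => ?_
      obtain ⟨g, hg⟩ := hC (A.map (P : Subgroup G).subtype) (B.map (P : Subgroup G).subtype)
        (P.2.to_le (Subgroup.map_subtype_le _)) (P.2.to_le (Subgroup.map_subtype_le _))
        (by rw [Subgroup.card_map_of_injective (P : Subgroup G).subtype_injective,
          Subgroup.card_map_of_injective (P : Subgroup G).subtype_injective, hA, hB'])
      refine ⟨⟨fun a b => ?_⟩⟩
      have ha : ((a : ↥(P : Subgroup G)) : G) ∈ B.map (P : Subgroup G).subtype := ⟨a, a.2, rfl⟩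
      have hb : ((b : ↥(P : Subgroup G)) : G) ∈ B.map (P : Subgroup G).subtype := ⟨b, b.2, rfl⟩
      rw [hg] at ha hb
      obtain ⟨_, ⟨u, hu, rfl⟩, eu⟩ := ha
      obtain ⟨_, ⟨v, hv, rfl⟩, ev⟩ := hb
      refine Subtype.ext (Subtype.ext ?_)
      change ((a : ↥(P : Subgroup G)) : G) * ((b : ↥(P : Subgroup G)) : G) =
        ((b : ↥(P : Subgroup G)) : G) * ((a : ↥(P : Subgroup G)) : G)
      rw [← eu, ← ev, ← map_mul, ← map_mul, ← map_mul, ← map_mul,
        CfsgLib.EqualOrder.mem_centralizer_self hAab hu hv]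
    refine Or.inr (Or.inr (Or.inr ⟨hp2, hab, hcard, ?_⟩))
    rcases (Nat.dvd_prime hp).mp (Monoid.exponent_dvd_of_forall_pow_eq_one (fun x : ↥(P : Subgroup G) => hexp x)) with h1 | h1
    · haveI := Monoid.exp_eq_one_iff.mp h1
      exact absurd ⟨⟨fun a b => Subsingleton.elim _ _⟩⟩ hab
    · exact h1

end Cfsg.Agent.S4023
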