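import Cfsg.Statements.S4024
import Mathlib
import Cfsg.Agent.S4023
import Cfsg.Agent.Lib.Blocks.HallHigman
import Cfsg.Agent.Lib.Fusion.PSolvable
-- import your own Cfsg.Agent.* helpers here

set_option autoImplicit false
open Cfsg

namespace Cfsg.Agent.S4024

namespace Aux

variable {G : Type*} [Group G] [Finite G] {p : ℕ} [Fact p.Prime]

theorem mem_of_pow (hC : ∀ H K : Subgroup G, IsPGroup p H → IsPGroup p K → Nat.card H = Nat.card K →
      ∃ g : G, K = H.map (MulAut.conj g).toMonoidHom) (N : Subgroup G) [N.Normal] (hdiv : p ∣ Nat.card N)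
    (x : G) (hx : x ^ p = 1) : x ∈ N := by
  rcases eq_or_ne x 1 with rfl | hx1
  · exact one_mem _
  have hxo : orderOf x = p := orderOf_eq_prime hx hx1
  obtain ⟨⟨y, hy⟩, hyo⟩ := exists_prime_orderOf_dvd_card' p hdiv
  rw [Subgroup.orderOf_mk] at hyo
  have h1 : IsPGroup p (Subgroup.zpowers x) := IsPGroup.of_card (n := 1) (by rw [Nat.card_zpowers, hxo, pow_one])
  have h2 : IsPGroup p (Subgroup.zpowers y) := IsPGroup.of_card (n := 1) (by rw [Nat.card_zpowers, hyo, pow_one])
  obtain ⟨g, hg⟩ := hC _ _ h2 h1 (by rw [Nat.card_zpowers, Nat.card_zpowers, hxo, hyo])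
  have hxm : x ∈ (Subgroup.zpowers y).map (MulAut.conj g).toMonoidHom := hg ▸ Subgroup.mem_zpowers x
  obtain ⟨_, ⟨i, rfl⟩, rfl⟩ := hxm
  exact ‹N.Normal›.conj_mem _ (zpow_mem hy i) g

theorem no_extraspecial (hC : ∀ H K : Subgroup G, IsPGroup p H → IsPGroup p K → Nat.card H = Nat.card K →
      ∃ g : G, K = H.map (MulAut.conj g).toMonoidHom) (P : Sylow p G) (H : Subgroup G) [H.Normal]
    (hsolv : Cfsg.IsPSolvable p H) (hdiv : p ∣ Nat.card H) (hna : ¬ IsMulCommutative P)
    (hexp : Monoid.exponent P = p) : False := by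
  have hp : p.Prime := Fact.out
  haveI := CfsgLib.pPrimeCore_characteristic (G := H) p
  set K : Subgroup G := (Cfsg.pPrimeCore p H).map H.subtype with hK
  haveI hKn : K.Normal := by rw [hK]; infer_instance
  set π := QuotientGroup.mk' K with hπ
  have hKc : (Nat.card K).Coprime p := by
    rw [hK, Subgroup.card_map_of_injective H.subtype_injective]
    exact CfsgLib.card_pPrimeCore_coprime p
  -- the image of `H`
  set f := π.subgroupMap H with hf
  have hfker : f.ker = Cfsg.pPrimeCore p H := by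
    ext x
    rw [MonoidHom.mem_ker, Subtype.ext_iff]
    change π (x : G) = 1 ↔ _
    rw [hπ, QuotientGroup.mk'_apply, QuotientGroup.eq_one_iff, hK]
    exact Subgroup.mem_map_iff_mem H.subtype_injective
  let e : ↥H ⧸ Cfsg.pPrimeCore p H ≃* ↥(H.map π) :=
    (QuotientGroup.quotientMulEquivOfEq hfker.symm).trans
      (QuotientGroup.quotientKerEquivOfSurjective f (π.subgroupMap_surjective H))
  have hO : Cfsg.pPrimeCore p ↥(H.map π) = ⊥ := by
    rw [← CfsgLib.pPrimeCore_map_equiv p e, CfsgLib.pPrimeCore_quotient_eq_bot, Subgroup.map_bot]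
  have hsolv' : Cfsg.IsPSolvable p ↥(H.map π) :=
    CfsgLib.PSolvableClosure.of_surjective f (π.subgroupMap_surjective H) hsolv
  haveI : (H.map π).Normal := Subgroup.Normal.map ‹H.Normal› π (QuotientGroup.mk'_surjective K)
  set R : Subgroup (G ⧸ K) := (Cfsg.pCore p ↥(H.map π)).map (H.map π).subtype with hR
  haveI : R.Normal := by rw [hR]; infer_instance
  have hRp : IsPGroup p R := (CfsgLib.isPGroup_pCore p).map _
  have hRne : R ≠ ⊥ := by
    intro h
    rw [hR, Subgroup.map_eq_bot_iff_of_injective _ (H.map π).subtype_injective] at h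
    have hh := CfsgLib.Blocks.hall_higman hsolv' hO
    rw [h] at hh
    obtain ⟨⟨y, hy⟩, hyo⟩ := exists_prime_orderOf_dvd_card' p hdiv
    rw [Subgroup.orderOf_mk] at hyo
    have hmem : (⟨π y, ⟨y, hy, rfl⟩⟩ : ↥(H.map π)) ∈ (⊥ : Subgroup ↥(H.map π)) :=
      hh (Subgroup.mem_centralizer_iff.mpr fun z hz => by
        rw [SetLike.mem_coe, Subgroup.mem_bot] at hz
        rw [hz, one_mul, mul_one])
    have hyK : y ∈ K := (QuotientGroup.eq_one_iff y).mp (congrArg Subtype.val (Subgroup.mem_bot.mp hmem))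
    have := orderOf_dvd_natCard (⟨y, hyK⟩ : K)
    rw [Subgroup.orderOf_mk, hyo] at this
    exact hp.one_lt.ne' (Nat.eq_one_of_dvd_coprimes hKc this dvd_rfl)
  -- an element of order `p` in the preimage
  have hdivR : p ∣ Nat.card (R.comap π) := by
    obtain ⟨n, hn⟩ := IsPGroup.iff_card.mp hRp
    rw [CfsgLib.card_comap_mk, hn]
    refine Dvd.dvd.mul_left (dvd_pow_self p fun h => hRne ?_) _
    rw [h, pow_zero] at hn
    exact Subgroup.card_eq_one.mp hn
  have hPR : ∀ u ∈ (P : Subgroup G), π u ∈ R := fun u hu =>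
    Subgroup.mem_comap.mp (mem_of_pow hC (R.comap π) hdivR u (by
      have := Monoid.pow_exponent_eq_one (G := P) ⟨u, hu⟩
      rw [hexp] at this
      exact congrArg Subtype.val this))
  have hinj : ∀ u ∈ (P : Subgroup G), π u = 1 → u = 1 := by
    intro u hu h
    have huK : u ∈ K := (QuotientGroup.eq_one_iff u).mp h
    obtain ⟨k, hk⟩ := IsPGroup.iff_orderOf.mp P.2 ⟨u, hu⟩
    rw [Subgroup.orderOf_mk] at hk
    have := orderOf_dvd_natCard (⟨u, huK⟩ : K)
    rw [Subgroup.orderOf_mk] at this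
    exact orderOf_eq_one_iff.mp (Nat.eq_one_of_dvd_coprimes (hKc.pow_right k) this (hk ▸ dvd_rfl))
  -- `R` is the image of `P`
  obtain ⟨S, hS⟩ := hRp.exists_le_sylow
  have hle : (P : Subgroup G).map π ≤ (S : Subgroup (G ⧸ K)) := by
    rintro _ ⟨u, hu, rfl⟩
    exact hS (hPR u hu)
  have heq : (P : Subgroup G).map π = S := by
    refine ((P.mapSurjective (QuotientGroup.mk'_surjective K)).3 S.2 ?_).symm
    exact hle
  have hRP : ∀ r ∈ R, ∃ u ∈ (P : Subgroup G), π u = r := fun r hr => by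
    have := hS hr
    rw [← heq] at this
    exact this
  -- the centre and a non-central element
  obtain ⟨y, z, hy, hz, hz1, hzc, hync⟩ : ∃ y z : G, y ∈ (P : Subgroup G) ∧ z ∈ (P : Subgroup G) ∧ z ≠ 1 ∧
      (∀ u ∈ (P : Subgroup G), u * z = z * u) ∧ ¬ ∀ u ∈ (P : Subgroup G), u * y = y * u := by
    haveI : Nontrivial (P : Subgroup G) := not_subsingleton_iff_nontrivial.mp fun h =>
      hna ⟨⟨fun a b => h.elim _ _⟩⟩
    haveI := P.2.center_nontrivial
    obtain ⟨z, hz⟩ := exists_ne (1 : Subgroup.center ↥(P : Subgroup G))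
    by_contra hcon
    push Not at hcon
    refine hna ⟨⟨fun a b => Subtype.ext ?_⟩⟩
    exact hcon (b : G) ((z : P) : G) b.2 (z : P).2 (fun h => hz (Subtype.ext (Subtype.ext h)))
      (fun u hu => congrArg Subtype.val (Subgroup.mem_center_iff.mp z.2 ⟨u, hu⟩)) a a.2
  have ho : ∀ u ∈ (P : Subgroup G), u ≠ 1 → orderOf u = p := fun u hu h1 => orderOf_eq_prime (by
      have := Monoid.pow_exponent_eq_one (G := P) ⟨u, hu⟩
      rw [hexp] at this
      exact congrArg Subtype.val this) h1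
  have hy1 : y ≠ 1 := fun h => hync fun u _ => by rw [h, mul_one, one_mul]
  have hcy : ∀ v : G, orderOf v = p → IsPGroup p (Subgroup.zpowers v) := fun v hv =>
    IsPGroup.of_card (n := 1) (by rw [Nat.card_zpowers, hv, pow_one])
  obtain ⟨g, hg⟩ := hC _ _ (hcy z (ho z hz hz1)) (hcy y (ho y hy hy1))
    (by rw [Nat.card_zpowers, Nat.card_zpowers, ho z hz hz1, ho y hy hy1])
  have hym : y ∈ (Subgroup.zpowers z).map (MulAut.conj g).toMonoidHom := hg ▸ Subgroup.mem_zpowers y
  obtain ⟨_, ⟨i, rfl⟩, hyg⟩ := hym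
  simp only [MulEquiv.coe_toMonoidHom, MulAut.conj_apply] at hyg
  apply hync
  intro u hu
  have hc : u⁻¹ * y⁻¹ * u * y = 1 := by
    refine hinj _ (mul_mem (mul_mem (mul_mem (inv_mem hu) (inv_mem hy)) hu) hy) ?_
    obtain ⟨v, hv, hvu⟩ := hRP _ (‹R.Normal›.conj_mem _ (hPR u hu) (π g⁻¹))
    have h1 : π v * π (z ^ i) = π (z ^ i) * π v := by
      have h := ((show Commute v z from hzc v hv).zpow_right i).eq
      rw [← map_mul, ← map_mul, h]
    rw [hvu] at h1
    have h2 : π u * π y = π y * π u := by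
      rw [← hyg]
      simp only [map_mul, map_inv] at h1 ⊢
      generalize π u = U, π g = g', π (z ^ i) = w at h1 ⊢
      calc U * (g' * w * g'⁻¹) = g' * (g'⁻¹ * U * g'⁻¹⁻¹ * w) * g'⁻¹ := by group
        _ = g' * (w * (g'⁻¹ * U * g'⁻¹⁻¹)) * g'⁻¹ := by rw [h1]
        _ = g' * w * g'⁻¹ * U := by group
    simp only [map_mul, map_inv]
    rw [mul_assoc, h2]
    group
  calc u * y = y * u * (u⁻¹ * y⁻¹ * u * y) := by group
    _ = y * u := by rw [hc, mul_one]

end Aux

/-- Let p be an odd prime and G a finite group in which any two p-subgroups of the same order are conjugate, with Sylow p-subgroup P. If H is a normal p-solvable subgroup of G whose order is divisible by p, then P is abelian, and either P ≤ H or P is cyclic. -/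
theorem result {G : Type*} [Group G] [Finite G]
    {p : ℕ} [Fact p.Prime] (hp : p ≠ 2) (hC : ∀ H K : Subgroup G, IsPGroup p H → IsPGroup p K → Nat.card H = Nat.card K →
      ∃ g : G, K = H.map (MulAut.conj g).toMonoidHom) (P : Sylow p G)
    (H : Subgroup G) [H.Normal] (hsolv : Cfsg.IsPSolvable p H) (hdiv : p ∣ Nat.card H) :
    IsMulCommutative P ∧ ((P : Subgroup G) ≤ H ∨ IsCyclic P) := by

  have hp' : p.Prime := Fact.out
  rcases Cfsg.Agent.S4023.result hC P with hc | ⟨hab, hE⟩ | ⟨h2, -⟩ | ⟨-, hna, hcard, hexp⟩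
  · haveI := hc
    exact ⟨⟨⟨IsCyclic.commGroup.mul_comm⟩⟩, Or.inr hc⟩
  · refine ⟨hab, Or.inl fun x hx => ?_⟩
    exact Aux.mem_of_pow (p := p) hC H hdiv x (by simpa using hE x hx)
  · exact absurd h2 hp
  · exact (Aux.no_extraspecial hC P H hsolv hdiv hna hexp).elim

end Cfsg.Agent.S4024
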