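import Cfsg.Statements.S4022
import Mathlib
import Cfsg.Agent.S4023
import Cfsg.Agent.S4024
import Cfsg.Agent.Lib.Elementary
import Cfsg.Agent.Lib.Coprime
import Cfsg.Agent.Lib.PSolvable
import Cfsg.Agent.Lib.PLocal.SolvableSeparable
-- import your own Cfsg.Agent.* helpers here

set_option autoImplicit false
open Cfsg

namespace Cfsg.Agent.S4022

namespace Aux

open scoped Pointwise

universe u

/-- All `p`-subgroups are cyclic. -/
def Cyc (p : ℕ) (G : Type u) [Group G] : Prop := ∀ Q : Subgroup G, IsPGroup p Q → IsCyclic Q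

theorem cyclic_of_sylow {G : Type u} [Group G] [Finite G] {p : ℕ} (hp : p.Prime) (h : ∀ P : Sylow p G, IsCyclic P)
    {Q : Subgroup G} (hQ : IsPGroup p Q) : IsCyclic Q := by
  obtain ⟨P, hP⟩ := hQ.exists_le_sylow
  haveI := h P
  exact isCyclic_of_injective (Subgroup.inclusion hP) (Subgroup.inclusion_injective hP)

theorem Cyc.subgroup {G : Type u} [Group G] {p : ℕ} (h : Cyc p G) (L : Subgroup G) : Cyc p L := fun Q hQ => by
  haveI := h (Q.map L.subtype) (hQ.map _)
  exact (Q.equivMapOfInjective L.subtype L.subtype_injective).isCyclic.mpr inferInstance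

theorem Cyc.quotient {G : Type u} [Group G] [Finite G] {p : ℕ} (hp : p.Prime) (h : Cyc p G) (N : Subgroup G) [N.Normal] :
    Cyc p (G ⧸ N) := by
  haveI := Fact.mk hp
  intro Q hQ
  refine cyclic_of_sylow hp (fun P' => ?_) hQ
  obtain ⟨P⟩ : Nonempty (Sylow p G) := inferInstance
  haveI := h P P.2
  let S := P.mapSurjective (QuotientGroup.mk'_surjective N)
  haveI : IsCyclic S := isCyclic_of_surjective ((QuotientGroup.mk' N).subgroupMap P) (MonoidHom.subgroupMap_surjective _ _)
  exact (S.equiv P').isCyclic.mp inferInstance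

/-- Equal orders up to conjugacy. -/
def PConj (G : Type u) [Group G] : Prop :=
  ∀ p : ℕ, p.Prime → ∀ H K : Subgroup G, IsPGroup p H → IsPGroup p K → Nat.card H = Nat.card K →
    ∃ g : G, K = H.map (MulAut.conj g).toMonoidHom

theorem conj_card {G : Type u} [Group G] (H : Subgroup G) (g : G) :
    Nat.card (H.map (MulAut.conj g).toMonoidHom) = Nat.card H :=
  Subgroup.card_map_of_injective (MulAut.conj g).injective

theorem PConj.quotient {G : Type u} [Group G] [Finite G] (h : PConj G) {q : ℕ} (hq : q.Prime) (N : Subgroup G) [N.Normal]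
    (hN : IsPGroup q N) : PConj (G ⧸ N) := by
  intro p hp A B hA hB hAB
  haveI := Fact.mk hp
  haveI := Fact.mk hq
  set π := QuotientGroup.mk' N
  have lift : ∀ C : Subgroup (G ⧸ N), IsPGroup p C → ∃ P : Subgroup G, IsPGroup p P ∧ P.map π = C ∧
      Nat.card P = (if p = q then Nat.card N else 1) * Nat.card C := by
    intro C hC
    by_cases hpq : p = q
    · subst hpq
      refine ⟨C.comap π, ?_, Subgroup.map_comap_eq_self_of_surjective (QuotientGroup.mk'_surjective N) C, ?_⟩
      · refine hC.comap_of_ker_isPGroup π ?_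
        rw [QuotientGroup.ker_mk']; exact hN
      · rw [if_pos rfl, CfsgLib.card_comap_mk]
    · obtain ⟨P⟩ : Nonempty (Sylow p ↥(C.comap π)) := inferInstance
      obtain ⟨a, ha⟩ := IsPGroup.iff_card.mp hN
      obtain ⟨b, hb⟩ := IsPGroup.iff_card.mp hC
      have hcard : Nat.card P = Nat.card C := by
        rw [Sylow.card_eq_multiplicity, CfsgLib.card_comap_mk, ha, hb,
          Nat.factorization_mul (pow_ne_zero _ hq.ne_zero) (pow_ne_zero _ hp.ne_zero), hq.factorization_pow,
          hp.factorization_pow, Finsupp.add_apply, Finsupp.single_eq_of_ne hpq, Finsupp.single_eq_same, zero_add]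
      refine ⟨(P : Subgroup ↥(C.comap π)).map (C.comap π).subtype, P.2.map _, ?_, ?_⟩
      · have hinj : Function.Injective (π.comp ((C.comap π).subtype.comp (P : Subgroup ↥(C.comap π)).subtype)) := by
          rw [← MonoidHom.ker_eq_bot_iff, eq_bot_iff]
          rintro ⟨x, hx⟩ hx1
          have hxN : (x : G) ∈ N := (QuotientGroup.eq_one_iff (x : G)).mp hx1
          obtain ⟨i, hi⟩ := IsPGroup.iff_orderOf.mp P.2 ⟨x, hx⟩
          rw [Subgroup.orderOf_mk, ← Subgroup.orderOf_coe] at hi
          obtain ⟨j, hj⟩ := IsPGroup.iff_orderOf.mp hN ⟨_, hxN⟩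
          rw [Subgroup.orderOf_mk, hi] at hj
          rw [Subgroup.mem_bot]
          refine Subtype.ext (Subtype.ext (orderOf_eq_one_iff.mp ?_))
          rw [hi]
          exact Nat.eq_one_of_dvd_coprimes
            (Nat.Coprime.pow i j ((Nat.coprime_primes hp hq).mpr hpq)) dvd_rfl (hj ▸ dvd_rfl)
        refine Subgroup.eq_of_le_of_card_ge ?_ ?_
        · rintro _ ⟨_, ⟨x, -, rfl⟩, rfl⟩
          exact x.2
        · rw [← hcard, Subgroup.map_map]
          refine le_of_eq ?_
          rw [Nat.card_congr (MonoidHom.ofInjective hinj).toEquiv, MonoidHom.range_eq_map]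
          conv_rhs => rw [← Subgroup.range_subtype (P : Subgroup ↥(C.comap π)), MonoidHom.range_eq_map, Subgroup.map_map]
          rw [MonoidHom.comp_assoc]
      · rw [if_neg hpq, one_mul, Subgroup.card_map_of_injective (C.comap π).subtype_injective, hcard]
  obtain ⟨P, hP, hPA, hPc⟩ := lift A hA
  obtain ⟨P', hP', hPB, hPc'⟩ := lift B hB
  obtain ⟨g, hg⟩ := h p hp P P' hP hP' (by rw [hPc, hPc', hAB])
  refine ⟨π g, ?_⟩
  rw [← hPB, hg, ← hPA, Subgroup.map_map, Subgroup.map_map]
  congr 1

/-- Schur–Zassenhaus inside a subgroup. -/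
theorem conj_of_sup {G : Type u} [Group G] [Finite G] [Group.IsSolvable G] {N : Subgroup G} [N.Normal]
    {H K : Subgroup G} (hc : (Nat.card N).Coprime (Nat.card H)) (hcard : Nat.card H = Nat.card K)
    (h : N ⊔ H = N ⊔ K) : ∃ g : G, K = H.map (MulAut.conj g).toMonoidHom := by
  set L := N ⊔ H with hL
  have hNL : N ≤ L := le_sup_left
  have hHL : H ≤ L := le_sup_right
  have hKL : K ≤ L := h ▸ le_sup_right
  have hcomp : ∀ X : Subgroup G, X ≤ L → N ⊔ X = L → Nat.card X = Nat.card H →
      (N.subgroupOf L).IsComplement' (X.subgroupOf L) := by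
    intro X hX hsup hXc
    refine Subgroup.isComplement'_of_disjoint_and_mul_eq_univ ?_ ?_
    · rw [disjoint_iff]
      refine Subgroup.eq_bot_iff_forall _ |>.mpr fun y hy => ?_
      refine Subtype.ext (orderOf_eq_one_iff.mp ?_)
      have h1 := orderOf_dvd_natCard (⟨(y : G), hy.1⟩ : N)
      have h2 := orderOf_dvd_natCard (⟨(y : G), hy.2⟩ : X)
      rw [← Subgroup.orderOf_coe] at h1 h2
      exact Nat.eq_one_of_dvd_coprimes (hXc ▸ hc) h1 h2
    · rw [← Subgroup.normal_mul, ← Subgroup.subgroupOf_sup hNL hX, hsup, Subgroup.subgroupOf_self, Subgroup.coe_top]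
  have hCH := hcomp H hHL rfl rfl
  have hidx : (N.subgroupOf L).index = Nat.card H := by
    rw [hCH.symm.index_eq_card, Nat.card_congr (Subgroup.subgroupOfEquivOfLe hHL).toEquiv]
  obtain ⟨n, hn⟩ := CfsgLib.complements_conj (N := N.subgroupOf L)
    (by rw [hidx, Nat.card_congr (Subgroup.subgroupOfEquivOfLe hNL).toEquiv]; exact hc)
    (Or.inl inferInstance) hCH (hcomp K hKL h.symm hcard.symm)
  refine ⟨n, ?_⟩
  ext y
  constructor
  · intro hy
    have : (⟨y, hKL hy⟩ : L) ∈ MulAut.conj n • H.subgroupOf L := hn ▸ (hy : (⟨y, hKL hy⟩ : L) ∈ K.subgroupOf L)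
    rw [Subgroup.mem_smul_pointwise_iff_exists] at this
    obtain ⟨z, hz, hzy⟩ := this
    exact ⟨z, hz, congrArg Subtype.val hzy⟩
  · rintro ⟨z, hz, rfl⟩
    have : n * ⟨z, hHL hz⟩ * n⁻¹ ∈ K.subgroupOf L := by
      rw [← hn, Subgroup.mem_smul_pointwise_iff_exists]
      exact ⟨⟨z, hHL hz⟩, hz, rfl⟩
    exact this

/-- Conjugacy modulo a normal subgroup. -/
theorem lift_quotient {G : Type u} [Group G] {N : Subgroup G} [N.Normal] {H K : Subgroup G} {g : G ⧸ N}
    (h : K.map (QuotientGroup.mk' N) = (H.map (QuotientGroup.mk' N)).map (MulAut.conj g).toMonoidHom) :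
    ∃ x : G, N ⊔ H.map (MulAut.conj x).toMonoidHom = N ⊔ K := by
  obtain ⟨x, rfl⟩ := QuotientGroup.mk'_surjective N g
  refine ⟨x, ?_⟩
  have h' := congrArg (Subgroup.comap (QuotientGroup.mk' N)) h
  rw [Subgroup.comap_map_eq, QuotientGroup.ker_mk', Subgroup.map_map] at h'
  rw [sup_comm N K, h', show (MulAut.conj ((QuotientGroup.mk' N) x)).toMonoidHom.comp (QuotientGroup.mk' N) =
      (QuotientGroup.mk' N).comp (MulAut.conj x).toMonoidHom from rfl, ← Subgroup.map_map, Subgroup.comap_map_eq,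
    QuotientGroup.ker_mk', sup_comm]

theorem quotient_card_lt {G : Type u} [Group G] [Finite G] {N : Subgroup G} [N.Normal] (hN : N ≠ ⊥) :
    Nat.card (G ⧸ N) < Nat.card G := by
  haveI := (Subgroup.nontrivial_iff_ne_bot N).mpr hN
  rw [Subgroup.card_eq_card_quotient_mul_card_subgroup N]
  exact lt_mul_of_one_lt_right Nat.card_pos Finite.one_lt_card

theorem exists_elementary_normal {G : Type u} [Group G] [Finite G] [Group.IsSolvable G] [Nontrivial G] :
    ∃ N : Subgroup G, N.Normal ∧ N ≠ ⊥ ∧ ∃ q : ℕ, q.Prime ∧ IsPGroup q N ∧ Cfsg.IsElementaryAbelian q N := by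
  obtain ⟨N, hN, -, hN1, hmin⟩ := CfsgLib.exists_minimal_normal (G := G) (N := ⊤) top_ne_bot
  haveI := hN
  obtain ⟨hab, q, hq, hqN⟩ := CfsgLib.minimal_normal_elementary hN1 inferInstance hmin
  exact ⟨N, hN, hN1, q, hq, fun x => ⟨1, Subtype.ext (by simpa using hqN x x.2)⟩, hab, hqN⟩

theorem map_mk_card {G : Type u} [Group G] [Finite G] (N H : Subgroup G) [N.Normal] :
    Nat.card (H.map (QuotientGroup.mk' N)) * Nat.card (N ⊓ H : Subgroup G) = Nat.card H := by
  have h := Subgroup.card_eq_card_quotient_mul_card_subgroup ((QuotientGroup.mk' N).comp H.subtype).ker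
  rw [Nat.card_congr (QuotientGroup.quotientKerEquivRange ((QuotientGroup.mk' N).comp H.subtype)).toEquiv,
    MonoidHom.range_comp, Subgroup.range_subtype] at h
  rw [h]
  congr 1
  rw [Nat.card_congr (Subgroup.equivMapOfInjective ((QuotientGroup.mk' N).comp H.subtype).ker H.subtype H.subtype_injective).toEquiv,
    ← MonoidHom.comap_ker, Subgroup.map_comap_eq, Subgroup.range_subtype, QuotientGroup.ker_mk', inf_comm]

/-- The induction step. -/
theorem step {G : Type u} [Group G] [Finite G] [Group.IsSolvable G] {N : Subgroup G} [N.Normal] {H K : Subgroup G}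
    (hcard : Nat.card H = Nat.card K)
    (hN : (N ≤ H ∧ N ≤ K) ∨ (Nat.card N).Coprime (Nat.card H))
    (ih : ∀ H' K' : Subgroup (G ⧸ N), Nat.card H' = Nat.card K' →
      Nat.card H' * Nat.card (N ⊓ H : Subgroup G) = Nat.card H → ∃ g, K' = H'.map (MulAut.conj g).toMonoidHom) :
    ∃ g : G, K = H.map (MulAut.conj g).toMonoidHom := by
  set π := QuotientGroup.mk' N
  have hH := map_mk_card N H
  have hK := map_mk_card N K
  have hH0 := hH
  rcases hN with ⟨hNH, hNK⟩ | hc
  · rw [inf_eq_left.mpr hNH] at hH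
    rw [inf_eq_left.mpr hNK] at hK
    obtain ⟨g, hg⟩ := ih (H.map π) (K.map π) (Nat.eq_of_mul_eq_mul_right Nat.card_pos (by rw [hH, hK, hcard]))
      hH0
    obtain ⟨x, hx⟩ := lift_quotient hg
    refine ⟨x, ?_⟩
    rw [sup_eq_right.mpr hNK, sup_eq_right.mpr] at hx
    · exact hx.symm
    · intro n hn
      exact ⟨x⁻¹ * n * x, hNH (by simpa using ‹N.Normal›.conj_mem n hn x⁻¹), by simp [mul_assoc]⟩
  · have hd : ∀ X : Subgroup G, Nat.card X = Nat.card H → (N ⊓ X : Subgroup G) = ⊥ := fun X hX =>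
      Subgroup.card_eq_one.mp (Nat.eq_one_of_dvd_coprimes hc (Subgroup.card_dvd_of_le inf_le_left)
        (hX ▸ Subgroup.card_dvd_of_le inf_le_right))
    rw [hd H rfl, Subgroup.card_bot, mul_one] at hH
    rw [hd K hcard.symm, Subgroup.card_bot, mul_one] at hK
    obtain ⟨g, hg⟩ := ih (H.map π) (K.map π) (by rw [hH, hK, hcard]) hH0
    obtain ⟨x, hx⟩ := lift_quotient hg
    obtain ⟨y, hy⟩ := conj_of_sup (H := H.map (MulAut.conj x).toMonoidHom) (K := K) (by rwa [conj_card])
      (by rw [conj_card, hcard]) hx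
    refine ⟨y * x, ?_⟩
    rw [hy, Subgroup.map_map]
    congr 1
    ext z
    simp [mul_assoc]

theorem normal_card_prime_le_center {S : Type u} [Group S] [Finite S] {q : ℕ} [Fact q.Prime] (hS : IsPGroup q S)
    {N : Subgroup S} [N.Normal] (hc : Nat.card N = q) : N ≤ Subgroup.center S := by
  haveI := hS.isNilpotent
  have hN : N ≠ ⊥ := fun h => by rw [h, Subgroup.card_bot] at hc; exact (Fact.out : q.Prime).one_lt.ne hc
  have h1 := CfsgLib.inf_center_ne_bot_of_nilpotent hN
  rcases (Nat.dvd_prime Fact.out).mp (hc ▸ Subgroup.card_dvd_of_le (inf_le_left : N ⊓ Subgroup.center S ≤ N)) with h | h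
  · exact absurd (Subgroup.card_eq_one.mp h) h1
  · exact inf_eq_left.mp (Subgroup.eq_of_le_of_card_ge inf_le_left (by rw [h, hc]))

theorem unique_order_q {G : Type u} [Group G] [Finite G] {q : ℕ} [Fact q.Prime] {N : Subgroup G} [N.Normal]
    (hN1 : N ≠ ⊥) (hE : Cfsg.IsElementaryAbelian q N)
    (hP : ∀ E : Subgroup G, IsPGroup q E → Cfsg.IsElementaryAbelian q E → IsCyclic E)
    {H : Subgroup G} (hH : q ∣ Nat.card H) : N ≤ H := by
  haveI := hE.1
  have hNp : IsPGroup q N := fun x => ⟨1, Subtype.ext (by simpa using hE.2 x x.2)⟩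
  haveI := hP N hNp hE
  haveI := (Subgroup.nontrivial_iff_ne_bot N).mpr hN1
  have hNc : Nat.card N = q := by
    obtain ⟨z, hz⟩ := IsCyclic.exists_ofOrder_eq_natCard (α := N)
    refine hz ▸ orderOf_eq_prime (Subtype.ext (by simpa using hE.2 z z.2)) fun h => ?_
    rw [h, orderOf_one] at hz
    exact Finite.one_lt_card.ne hz
  obtain ⟨⟨x, hx⟩, hxo⟩ := exists_prime_orderOf_dvd_card' q hH
  rw [Subgroup.orderOf_mk] at hxo
  have hsup : N ⊔ Subgroup.zpowers x ≤ N := by
    obtain ⟨S, hS⟩ := (IsPGroup.of_card (n := 1) (by rw [Nat.card_zpowers, hxo, pow_one]) :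
      IsPGroup q (Subgroup.zpowers x)).exists_le_sylow
    have hNS : N ≤ (S : Subgroup G) := by
      obtain ⟨T, hT⟩ := hNp.exists_le_sylow
      obtain ⟨g, hg⟩ := MulAction.exists_smul_eq G T S
      intro n hn
      rw [← hg, Sylow.coe_subgroup_smul, Subgroup.mem_pointwise_smul_iff_inv_smul_mem]
      refine hT ?_
      rw [← map_inv]
      exact ‹N.Normal›.conj_mem n hn g⁻¹
    have hx' : x ∈ (S : Subgroup G) := hS (Subgroup.mem_zpowers x)
    haveI : Nontrivial (S : Subgroup G) := ⟨⟨⟨x, hx'⟩, 1, fun h => by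
      rw [show x = 1 from congrArg Subtype.val h, orderOf_one] at hxo
      exact (Fact.out : q.Prime).one_lt.ne hxo⟩⟩
    set E := Subgroup.zpowers x ⊔ N with hEdef
    have hEp : IsPGroup q E := S.2.to_le (sup_le hS hNS)
    -- `x` centralizes the subgroup `N` of order `q`
    have hcomm : ∀ n ∈ N, Commute x n := by
      intro n hn
      haveI : ((N.subgroupOf (S : Subgroup G))).Normal := inferInstance
      have hc : Nat.card (N.subgroupOf (S : Subgroup G)) = q := by
        rw [Nat.card_congr (Subgroup.subgroupOfEquivOfLe hNS).toEquiv, hNc]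
      have := normal_card_prime_le_center S.2 hc (show (⟨n, hNS hn⟩ : (S : Subgroup G)) ∈ N.subgroupOf _ from hn)
      exact congrArg Subtype.val (Subgroup.mem_center_iff.mp this ⟨x, hx'⟩)
    have hmem : ∀ e ∈ E, ∃ (i : ℤ), ∃ n ∈ N, e = x ^ i * n := fun e he => by
      obtain ⟨a, ⟨i, rfl⟩, n, hn, rfl⟩ := Subgroup.mem_sup_of_normal_right.mp he
      exact ⟨i, n, hn, rfl⟩
    have hEel : Cfsg.IsElementaryAbelian q E := by
      constructor
      · refine ⟨⟨fun a b => Subtype.ext ?_⟩⟩
        obtain ⟨i, n, hn, ha⟩ := hmem a a.2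
        obtain ⟨j, m, hm, hb⟩ := hmem b b.2
        show (a : G) * b = b * a
        rw [ha, hb]
        refine (Commute.mul_left (Commute.mul_right (Commute.zpow_zpow_self x i j) ((hcomm m hm).zpow_left i))
          (Commute.mul_right ((hcomm n hn).zpow_left j).symm ?_)).eq
        exact congrArg Subtype.val (hE.1.is_comm.comm ⟨n, hn⟩ ⟨m, hm⟩)
      · intro e he
        obtain ⟨i, n, hn, rfl⟩ := hmem e he
        have hxq : x ^ q = 1 := hxo ▸ pow_orderOf_eq_one x
        rw [((hcomm n hn).zpow_left i).mul_pow, hE.2 n hn, mul_one, ← zpow_natCast, ← zpow_mul, mul_comm,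
          zpow_mul, zpow_natCast, hxq, one_zpow]
    haveI := hP E hEp hEel
    obtain ⟨z, hz⟩ := IsCyclic.exists_ofOrder_eq_natCard (α := E)
    refine le_of_eq ((sup_comm _ _).trans (Subgroup.eq_of_le_of_card_ge (le_sup_right : N ≤ E) ?_).symm)
    rw [← hz, hNc]
    exact orderOf_le_of_pow_eq_one (Fact.out : q.Prime).pos (Subtype.ext (by simpa using hEel.2 z z.2))
  have hxN : x ∈ N := hsup (Subgroup.mem_sup_right (Subgroup.mem_zpowers x))
  refine le_trans (le_of_eq (Subgroup.eq_of_le_of_card_ge (Subgroup.zpowers_le.mpr hxN) ?_).symm) (Subgroup.zpowers_le.mpr hx)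
  rw [hNc, Nat.card_zpowers, hxo]

/-- Subgroups all of whose primes have cyclic Sylow subgroups. -/
theorem zconj : ∀ (m : ℕ) (G : Type u) [Group G] [Finite G], Nat.card G = m → Group.IsSolvable G →
    ∀ H K : Subgroup G, Nat.card H = Nat.card K → (∀ p : ℕ, p.Prime → p ∣ Nat.card H → Cyc p G) →
      ∃ g : G, K = H.map (MulAut.conj g).toMonoidHom := by
  intro m
  induction m using Nat.strong_induction_on with
  | _ m ih =>
    intro G _ _ hm hs H K hcard hcyc
    rcases subsingleton_or_nontrivial G with hG | hG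
    · exact ⟨1, Subsingleton.elim _ _⟩
    obtain ⟨N, hN, hN1, q, hq, hNq, hNe⟩ := exists_elementary_normal (G := G)
    haveI := hN
    haveI := Fact.mk hq
    refine step (N := N) hcard ?_ fun H' K' hc hd => ih _ (hm ▸ quotient_card_lt hN1) _ rfl inferInstance H' K' hc
      (fun p hp hpd => (hcyc p hp (hpd.trans ⟨_, hd.symm⟩)).quotient hp N)
    by_cases hqd : q ∣ Nat.card H
    · exact Or.inl ⟨unique_order_q hN1 hNe (fun E hE _ => hcyc q hq hqd E hE) hqd,
        unique_order_q hN1 hNe (fun E hE _ => hcyc q hq hqd E hE) (hcard ▸ hqd)⟩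
    · obtain ⟨a, ha⟩ := IsPGroup.iff_card.mp hNq
      exact Or.inr (ha ▸ Nat.Coprime.pow_left a ((hq.coprime_iff_not_dvd).mpr hqd))

theorem quat_two (x y : QuaternionGroup 2) (hx : x * x = 1) (hy : y * y = 1) (hx1 : x ≠ 1) (hy1 : y ≠ 1) : x = y := by
  revert x y; decide

theorem main : ∀ (m : ℕ) (G : Type u) [Group G] [Finite G], Nat.card G = m → Group.IsSolvable G → PConj G →
    ∀ r : ℕ, (∀ p : ℕ, p.Prime → p ≠ r → Cyc p G) →
    ∀ H K : Subgroup G, Nat.card H = Nat.card K → ∃ g : G, K = H.map (MulAut.conj g).toMonoidHom := by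
  intro m
  induction m using Nat.strong_induction_on with
  | _ m ih =>
    intro G _ _ hm hs hD r hcyc H K hcard
    rcases subsingleton_or_nontrivial G with hG | hG
    · exact ⟨1, Subsingleton.elim _ _⟩
    obtain ⟨N, hN, hN1, q, hq, hNq, hNe⟩ := exists_elementary_normal (G := G)
    haveI := hN
    haveI := Fact.mk hq
    have hquot : ∀ H' K' : Subgroup (G ⧸ N), Nat.card H' = Nat.card K' →
        ∃ g, K' = H'.map (MulAut.conj g).toMonoidHom :=
      ih _ (hm ▸ quotient_card_lt hN1) _ rfl inferInstance (hD.quotient hq N hNq) r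
        (fun p hp hpr => (hcyc p hp hpr).quotient hp N)
    have hone : (q ∣ Nat.card H → ∀ E : Subgroup G, IsPGroup q E → Cfsg.IsElementaryAbelian q E → IsCyclic E) →
        ∃ g : G, K = H.map (MulAut.conj g).toMonoidHom := by
      intro hcase
      refine step (N := N) hcard ?_ fun H' K' hc _ => hquot H' K' hc
      by_cases hqd : q ∣ Nat.card H
      · exact Or.inl ⟨unique_order_q hN1 hNe (hcase hqd) hqd, unique_order_q hN1 hNe (hcase hqd) (hcard ▸ hqd)⟩
      · obtain ⟨a, ha⟩ := IsPGroup.iff_card.mp hNq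
        exact Or.inr (ha ▸ Nat.Coprime.pow_left a ((hq.coprime_iff_not_dvd).mpr hqd))
    by_cases hqr : q = r
    swap
    · exact hone fun _ E hE _ => hcyc q hq hqr E hE
    by_cases hqdiv : ¬ q ∣ Nat.card H
    · exact hone fun h => absurd h hqdiv
    push Not at hqdiv
    obtain ⟨P⟩ : Nonempty (Sylow q G) := inferInstance
    rcases Cfsg.Agent.S4023.result (hD q hq) P with hc | hel | ⟨hq2, ⟨e⟩⟩ | ⟨hq2, hna, -, -⟩
    · refine hone fun _ E hE _ => cyclic_of_sylow hq (fun S => ?_) hE
      exact (P.equiv S).isCyclic.mp hc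
    · -- the Sylow subgroup is elementary abelian and equals `N`
      have hNdiv : q ∣ Nat.card N := by
        obtain ⟨a, ha⟩ := IsPGroup.iff_card.mp hNq
        rcases Nat.eq_zero_or_pos a with rfl | ha0
        · exact absurd (Subgroup.card_eq_one.mp (ha.trans (pow_zero q))) hN1
        · rw [ha]; exact dvd_pow_self q ha0.ne'
      have hall : ∀ S : Sylow q G, (S : Subgroup G) ≤ N := fun S u hu =>
        Cfsg.Agent.S4024.Aux.mem_of_pow (p := q) (hD q hq) N hNdiv u (by
          have h2 := hel.2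
          have : ((P.equiv S).symm ⟨u, hu⟩) ^ q = 1 := Subtype.ext (h2 _ ((P.equiv S).symm ⟨u, hu⟩).2)
          rw [← map_pow, MulEquiv.map_eq_one_iff] at this
          exact congrArg Subtype.val this)
      have hPN : (P : Subgroup G) = N := le_antisymm (hall P) fun n hn => by
        have := P.3 hNq (hall P)
        exact this ▸ hn
      have hpow : ∀ x : G, x ^ q = 1 → x ∈ N := fun x hx =>
        Cfsg.Agent.S4024.Aux.mem_of_pow (p := q) (hD q hq) N hNdiv x hx
      have hnot : ¬ q ∣ N.index := hPN ▸ P.not_dvd_index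
      -- the intersections
      have hq' : ∀ X : Subgroup G, Nat.card (X.map (QuotientGroup.mk' N)) * Nat.card (N ⊓ X : Subgroup G) = Nat.card X ∧
          ¬ q ∣ Nat.card (X.map (QuotientGroup.mk' N)) ∧ IsPGroup q (N ⊓ X : Subgroup G) := fun X =>
        ⟨map_mk_card N X, fun h => hnot (h.trans (Subgroup.card_subgroup_dvd_card _)), hNq.to_le inf_le_left⟩
      obtain ⟨h1, h2, h3⟩ := hq' H
      obtain ⟨k1, k2, k3⟩ := hq' K
      obtain ⟨a, ha⟩ := IsPGroup.iff_card.mp h3
      obtain ⟨b, hb⟩ := IsPGroup.iff_card.mp k3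
      have hab : a = b := by
        have e1 := congrArg (fun n : ℕ => n.factorization q) h1
        have e2 := congrArg (fun n : ℕ => n.factorization q) k1
        simp only [ha, hb, Nat.factorization_mul Nat.card_pos.ne' (pow_ne_zero _ hq.ne_zero), Finsupp.add_apply,
          Nat.factorization_eq_zero_of_not_dvd h2, Nat.factorization_eq_zero_of_not_dvd k2, zero_add,
          hq.factorization_pow, Finsupp.single_eq_same] at e1 e2
        rw [e1, e2, hcard]
      obtain ⟨g, hg⟩ := hD q hq _ _ h3 k3 (by rw [ha, hb, hab])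
      set H₁ := H.map (MulAut.conj g).toMonoidHom with hH₁
      have hB : (N ⊓ H₁ : Subgroup G) = N ⊓ K := by
        rw [hg]
        ext y
        constructor
        · rintro ⟨hy, ⟨z, hz, rfl⟩⟩
          exact ⟨z, ⟨by simpa [mul_assoc] using ‹N.Normal›.conj_mem _ hy g⁻¹, hz⟩, rfl⟩
        · rintro ⟨z, ⟨hzN, hzH⟩, rfl⟩
          exact ⟨‹N.Normal›.conj_mem z hzN g, z, hzH, rfl⟩
      -- work in the normalizer of the intersection
      set B := (N ⊓ K : Subgroup G) with hBdef
      have hnorm : ∀ X : Subgroup G, N ⊓ X = B → X ≤ Subgroup.normalizer (B : Set G) := fun X hX x hx => by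
        rw [Subgroup.mem_normalizer_iff, ← hX]
        intro y
        constructor
        · rintro ⟨hy, hyX⟩
          exact ⟨‹N.Normal›.conj_mem y hy x, X.mul_mem (X.mul_mem hx hyX) (X.inv_mem hx)⟩
        · rintro ⟨hy, hyX⟩
          exact ⟨by simpa [mul_assoc] using ‹N.Normal›.conj_mem _ hy x⁻¹,
            by simpa [mul_assoc] using X.mul_mem (X.mul_mem (X.inv_mem hx) hyX) hx⟩
      set L := Subgroup.normalizer (B : Set G) with hLdef
      have hBL : B ≤ L := Subgroup.le_normalizer
      haveI : (B.subgroupOf L).Normal := Subgroup.normal_subgroupOf_iff_le_normalizer hBL |>.mpr le_rfl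
      have hH₁L : H₁ ≤ L := hnorm H₁ hB
      have hKL : K ≤ L := hnorm K rfl
      have hH₁c : Nat.card H₁ = Nat.card H := conj_card H g
      obtain ⟨x, hx⟩ := step (G := L) (N := B.subgroupOf L) (H := H₁.subgroupOf L) (K := K.subgroupOf L)
        (by rw [Nat.card_congr (Subgroup.subgroupOfEquivOfLe hH₁L).toEquiv,
          Nat.card_congr (Subgroup.subgroupOfEquivOfLe hKL).toEquiv, hH₁c, hcard])
        (Or.inl ⟨fun y hy => ((hB ▸ hy : (y : G) ∈ N ⊓ H₁)).2, fun y (hy : (y : G) ∈ N ⊓ K) => hy.2⟩) (fun H' K' hc hd => by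
          have hdq : ¬ q ∣ Nat.card H' := by
            have hBe : Nat.card (B.subgroupOf L ⊓ H₁.subgroupOf L : Subgroup L) = q ^ b := by
              have hle : B.subgroupOf L ≤ H₁.subgroupOf L := fun y hy => ((hB ▸ hy : (y : G) ∈ N ⊓ H₁)).2
              rw [inf_eq_left.mpr hle,
                Nat.card_congr (Subgroup.subgroupOfEquivOfLe hBL).toEquiv, hb]
            rw [hBe, Nat.card_congr (Subgroup.subgroupOfEquivOfLe hH₁L).toEquiv, hH₁c, ← h1, ha, hab] at hd
            rwa [Nat.eq_of_mul_eq_mul_right (pow_pos hq.pos _) hd]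
          exact zconj _ _ rfl inferInstance H' K' hc fun p hp hpd =>
              (((hcyc p hp fun h => hdq ((h.trans hqr.symm) ▸ hpd)).subgroup L).quotient hp _))
      refine ⟨(x : G) * g, ?_⟩
      ext y
      constructor
      · intro hy
        have : (⟨y, hKL hy⟩ : L) ∈ K.subgroupOf L := hy
        rw [hx] at this
        obtain ⟨z, hz, hzy⟩ := this
        obtain ⟨w, hw, hwz⟩ := (hz : (z : G) ∈ H₁)
        refine ⟨w, hw, ?_⟩
        simp only [MulEquiv.coe_toMonoidHom, MulAut.conj_apply] at hwz hzy ⊢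
        rw [show (x : G) * g * w * ((x : G) * g)⁻¹ = x * (g * w * g⁻¹) * (x : G)⁻¹ by group, hwz]
        exact congrArg Subtype.val hzy
      · rintro ⟨w, hw, rfl⟩
        have h' : g * w * g⁻¹ ∈ H₁ := ⟨w, hw, rfl⟩
        have : x * ⟨g * w * g⁻¹, hH₁L h'⟩ * x⁻¹ ∈ K.subgroupOf L := by
          rw [hx]; exact ⟨⟨g * w * g⁻¹, hH₁L h'⟩, h', rfl⟩
        simpa [Subgroup.mem_subgroupOf, mul_assoc] using this
    · refine hone fun _ E hE hEel => ?_
      subst hq2
      haveI : ∀ S : Sylow 2 G, Subsingleton {s : (S : Subgroup G) // s * s = 1 ∧ s ≠ 1} := fun S => ⟨fun a b => by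
        let e' := ((P.equiv S).symm).trans e
        refine Subtype.ext (e'.injective (quat_two _ _ ?_ ?_ ?_ ?_))
        · rw [← map_mul, a.2.1, map_one]
        · rw [← map_mul, b.2.1, map_one]
        · exact fun h => a.2.2 (e'.map_eq_one_iff.mp h)
        · exact fun h => b.2.2 (e'.map_eq_one_iff.mp h)⟩
      obtain ⟨S, hS⟩ := hE.exists_le_sylow
      have hle : Nat.card E ≤ 2 := by
        by_contra hgt
        classical
        haveI := Fintype.ofFinite E
        rw [Nat.card_eq_fintype_card] at hgt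
        obtain ⟨a, b, hab, ha1, hb1⟩ : ∃ a b : E, a ≠ b ∧ a ≠ 1 ∧ b ≠ 1 := by
          obtain ⟨s, hs⟩ := Finset.exists_subset_card_eq (s := (Finset.univ : Finset E).erase 1) (n := 2)
            (by rw [Finset.card_erase_of_mem (Finset.mem_univ _), Finset.card_univ]; omega)
          obtain ⟨a, b, hab, rfl⟩ := Finset.card_eq_two.mp hs.2
          exact ⟨a, b, hab, Finset.ne_of_mem_erase (hs.1 (by simp)), Finset.ne_of_mem_erase (hs.1 (by simp))⟩
        have key := Subsingleton.elim
          (⟨⟨a, hS a.2⟩, Subtype.ext (by simpa [pow_two] using hEel.2 a a.2), fun h => ha1 (Subtype.ext (congrArg Subtype.val h :))⟩ :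
            {s : (S : Subgroup G) // s * s = 1 ∧ s ≠ 1})
          ⟨⟨b, hS b.2⟩, Subtype.ext (by simpa [pow_two] using hEel.2 b b.2), fun h => hb1 (Subtype.ext (congrArg Subtype.val h :))⟩
        exact hab (Subtype.ext (congrArg (fun s => ((s.1 : (S : Subgroup G)) : G)) key))
      rcases Nat.lt_or_ge (Nat.card E) 2 with h | h
      · haveI : Subsingleton E := Finite.card_le_one_iff_subsingleton.mp (by omega)
        infer_instance
      · exact isCyclic_of_prime_card (p := 2) (by omega)
    · exact absurd ((Cfsg.Agent.S4024.result hq2 (hD q hq) P ⊤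
        (CfsgLib.PSolvableClosure.of_surjective (Subgroup.topEquiv (G := G)).symm.toMonoidHom (Subgroup.topEquiv (G := G)).symm.surjective
          (CfsgLib.PLocal.isPSolvable_of_isSolvable (Nat.card G) G rfl inferInstance)) (by rw [Subgroup.card_top]; exact hqdiv.trans (Subgroup.card_subgroup_dvd_card H))).1) hna

end Aux

/-- Let G be a finite solvable group in which, for every prime p, any two p-subgroups of the same order are conjugate, and suppose the Sylow p-subgroups of G are cyclic for all primes p with at most one exception. Then any two subgroups of G of the same order are conjugate. -/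
theorem result {G : Type*} [Group G] [Finite G]
    [Group.IsSolvable G] (hD : ∀ p : ℕ, p.Prime → ∀ H K : Subgroup G, IsPGroup p H → IsPGroup p K → Nat.card H = Nat.card K →
      ∃ g : G, K = H.map (MulAut.conj g).toMonoidHom)
    (r : ℕ) (hcyc : ∀ p : ℕ, p.Prime → p ≠ r → ∀ P : Sylow p G, IsCyclic P) :
    ∀ H K : Subgroup G, Nat.card H = Nat.card K → ∃ g : G, K = H.map (MulAut.conj g).toMonoidHom := by

  intro H K hHK
  exact Aux.main (Nat.card G) G rfl inferInstance hD r
    (fun p hp hpr Q hQ => Aux.cyclic_of_sylow hp (hcyc p hp hpr) hQ) H K hHK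

end Cfsg.Agent.S4022
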