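import Cfsg.Statements.S3912
import Mathlib
import Mathlib
import Cfsg.Agent.Lib.EqualOrder.Solvable
-- import your own Cfsg.Agent.* helpers here

set_option autoImplicit false
open Cfsg

namespace Cfsg.Agent.S3912


open Subgroup
open CfsgLib.EqualOrder.Solv
open scoped IsMulCommutative commutatorElement

universe u

theorem quot_of_coprime {G : Type u} [Group G] [Finite G] (hB : HB G) (M : Subgroup G) [M.Normal]
    (hc : (Nat.card M).Coprime M.index) : HB (G ⧸ M) := by
  intro A B hA hB' hcard
  set π := QuotientGroup.mk' M with hπ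
  have key : ∀ C : Subgroup (G ⧸ M), IsMulCommutative C →
      ∃ L : Subgroup G, IsMulCommutative L ∧ Nat.card L = Nat.card C ∧ L.map π = C := by
    intro C hC
    set H := C.comap π with hH
    have hMH : M ≤ H := fun x hx => by
      rw [hH, mem_comap, show π x = 1 from (QuotientGroup.eq_one_iff _).mpr hx]; exact one_mem C
    have hidx : (M.subgroupOf H).index = Nat.card C := by
      have h1 := (M.subgroupOf H).card_mul_index
      rw [Nat.card_congr (subgroupOfEquivOfLe hMH).toEquiv, hH, CfsgLib.card_comap_mk] at h1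
      exact Nat.eq_of_mul_eq_mul_left Nat.card_pos h1
    obtain ⟨K, hK⟩ := exists_right_complement'_of_coprime (N := M.subgroupOf H) (by
      rw [hidx, Nat.card_congr (subgroupOfEquivOfLe hMH).toEquiv]
      exact hc.coprime_dvd_right (card_subgroup_dvd_card C))
    set L := K.map H.subtype with hL
    have hLC : Nat.card L = Nat.card C := by
      rw [hL, Subgroup.card_map_of_injective H.subtype_injective, ← hK.symm.index_eq_card, hidx]
    have hinj : ∀ x ∈ L, π x = 1 → x = 1 := by
      rintro x ⟨k, hk, rfl⟩ hx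
      have h1 : k ∈ M.subgroupOf H := (QuotientGroup.eq_one_iff (k : G)).mp hx
      rw [show k = 1 from (disjoint_def.mp hK.disjoint) h1 hk, map_one]
    have hle : ∀ x ∈ L, π x ∈ C := by
      rintro x ⟨k, -, rfl⟩; exact k.2
    refine ⟨L, ⟨⟨fun a b => Subtype.ext ?_⟩⟩, hLC, ?_⟩
    · change (a : G) * b = b * a
      have h1 := CfsgLib.EqualOrder.mem_centralizer_self hC (hle a a.2) (hle b b.2)
      rw [← map_mul, ← map_mul] at h1
      refine mul_inv_eq_one.mp (hinj _ (mul_mem (mul_mem a.2 b.2) (inv_mem (mul_mem b.2 a.2))) ?_)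
      rw [map_mul, map_inv, h1, mul_inv_cancel]
    · refine eq_of_le_of_card_ge (map_le_iff_le_comap.mpr fun x hx => hle x hx) ?_
      rw [← hLC]
      refine Nat.card_le_card_of_injective (π.subgroupMap L) ?_
      rw [← MonoidHom.ker_eq_bot_iff, eq_bot_iff]
      intro x hx
      exact Subtype.ext (hinj x x.2 (congrArg Subtype.val hx))
  obtain ⟨L₁, h1, h1c, h1m⟩ := key A hA
  obtain ⟨L₂, h2, h2c, h2m⟩ := key B hB'
  obtain ⟨g, hg⟩ := hB L₁ L₂ h1 h2 (by rw [h1c, h2c, hcard])
  refine ⟨π g, ?_⟩
  rw [← h2m, ← h1m, hg, Subgroup.map_map, Subgroup.map_map]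
  congr 1

theorem quot_of_card_two {G : Type u} [Group G] [Finite G] (hB : HB G) (M : Subgroup G) [M.Normal]
    (hM : Nat.card M = 2) (P : Sylow 2 G) (hP : IsCyclic (P : Subgroup G) ∨ Nat.card (P : Subgroup G) = 8) :
    HB (G ⧸ M) := by
  classical
  intro A B hA hB' hcard
  set π := QuotientGroup.mk' M with hπ
  have hMc : ∀ z ∈ M, ∀ g : G, g * z = z * g := by
    intro z hz g
    obtain ⟨w, hw⟩ := Nat.card_eq_two_iff' (1 : M) |>.mp hM
    rcases eq_or_ne (⟨z, hz⟩ : M) 1 with h | h
    · have : z = 1 := congrArg Subtype.val h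
      subst this; simp
    · have e1 : (⟨g * z * g⁻¹, ‹M.Normal›.conj_mem z hz g⟩ : M) ≠ 1 := fun h' => by
        have : g * z * g⁻¹ = 1 := congrArg Subtype.val h'
        exact h (Subtype.ext (conj_eq_one_iff.mp this))
      have := congrArg Subtype.val ((hw.2 _ e1).trans (hw.2 _ h).symm)
      exact mul_inv_eq_iff_eq_mul.mp this
  have hM2 : ∀ z ∈ M, z ^ 2 = 1 := fun z hz => by
    have := congrArg Subtype.val (pow_card_eq_one' (x := (⟨z, hz⟩ : M)))
    rw [hM] at this
    exact this
  -- the odd part of the preimage of an abelian subgroup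
  have key : ∀ D : Subgroup (G ⧸ M), IsMulCommutative D →
      ∃ C S : Subgroup G, IsMulCommutative C ∧ IsPGroup 2 S ∧ C ≤ centralizer (S : Set G) ∧
        S ⊔ C = D.comap π ∧ Nat.card C = (2 * Nat.card D) / 2 ^ (2 * Nat.card D).factorization 2 ∧
        Nat.card S = 2 ^ (2 * Nat.card D).factorization 2 := by
    intro D hD
    set H := D.comap π with hH
    have hcardH : Nat.card H = 2 * Nat.card D := by rw [hH, CfsgLib.card_comap_mk, hM]
    set m := Nat.card H / 2 ^ (Nat.card H).factorization 2 with hm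
    have hm0 : ¬ 2 ∣ m := Nat.not_dvd_ordCompl Nat.prime_two Nat.card_pos.ne'
    have hmdvd : m ∣ Nat.card H := Nat.ordCompl_dvd _ _
    have hcent : ∀ x ∈ H, x ^ m = 1 → ∀ y ∈ H, x * y = y * x := by
      intro x hx hxm y hy
      set z := y * x * y⁻¹ * x⁻¹ with hz
      have hzM : z ∈ M := by
        refine (QuotientGroup.eq_one_iff z).mp ?_
        change π z = 1
        have h1 := CfsgLib.EqualOrder.mem_centralizer_self hD (mem_comap.mp hy) (mem_comap.mp hx)
        rw [hz, map_mul, map_mul, map_mul, map_inv, map_inv, h1]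
        group
      have h2 : (y * x * y⁻¹) ^ m = 1 := by rw [conj_pow, hxm, mul_one, mul_inv_cancel]
      rw [show y * x * y⁻¹ = z * x by rw [hz]; group,
        (show Commute z x from (hMc z hzM x).symm).mul_pow, hxm, mul_one] at h2
      have hz1 : z = 1 := orderOf_eq_one_iff.mp (Nat.eq_one_of_dvd_coprimes
        (Nat.prime_two.coprime_iff_not_dvd.mpr hm0)
        (orderOf_dvd_of_pow_eq_one (hM2 z hzM)) (orderOf_dvd_of_pow_eq_one h2))
      rw [hz, mul_inv_eq_one, mul_inv_eq_iff_eq_mul] at hz1
      exact hz1.symm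
    let C : Subgroup G :=
      { carrier := {x | x ∈ H ∧ x ^ m = 1}
        one_mem' := ⟨one_mem H, one_pow m⟩
        mul_mem' := fun {a b} ha hb => ⟨mul_mem ha.1 hb.1, by
          rw [(show Commute a b from hcent a ha.1 ha.2 b hb.1).mul_pow, ha.2, hb.2, one_mul]⟩
        inv_mem' := fun {a} ha => ⟨inv_mem ha.1, by rw [inv_pow, ha.2, inv_one]⟩ }
    obtain ⟨S⟩ : Nonempty (Sylow 2 H) := inferInstance
    set S' := (S : Subgroup H).map H.subtype with hS'
    have hSc : Nat.card S' = 2 ^ (Nat.card H).factorization 2 := by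
      rw [hS', Subgroup.card_map_of_injective H.subtype_injective, S.card_eq_multiplicity]
    have hCH : C ≤ H := fun x hx => hx.1
    have hSH : S' ≤ H := map_subtype_le _
    have hCodd : ¬ 2 ∣ Nat.card C := by
      intro h
      obtain ⟨c, hc⟩ := exists_prime_orderOf_dvd_card' (G := C) 2 h
      have := orderOf_dvd_of_pow_eq_one c.2.2
      rw [Subgroup.orderOf_coe, hc] at this
      exact hm0 this
    have hsup : S' ⊔ C = H := by
      refine eq_of_le_of_card_ge (sup_le hSH hCH) (Nat.le_of_dvd Nat.card_pos ?_)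
      refine (Nat.factorization_le_iff_dvd Nat.card_pos.ne' Nat.card_pos.ne').mp fun q => ?_
      by_cases hq : q.Prime
      · haveI := Fact.mk hq
        rcases eq_or_ne q 2 with rfl | hq2
        · have h1 := (Nat.factorization_le_iff_dvd Nat.card_pos.ne' Nat.card_pos.ne').mpr
            (card_dvd_of_le (le_sup_left : S' ≤ S' ⊔ C)) 2
          rwa [hSc, Nat.prime_two.factorization_pow, Finsupp.single_eq_same] at h1
        · obtain ⟨Q⟩ : Nonempty (Sylow q H) := inferInstance
          have hQC : (Q : Subgroup H).map H.subtype ≤ C := by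
            rintro _ ⟨x, hx, rfl⟩
            refine ⟨x.2, orderOf_dvd_iff_pow_eq_one.mp ?_⟩
            obtain ⟨k, hk⟩ := IsPGroup.iff_orderOf.mp Q.2 ⟨x, hx⟩
            rw [Subgroup.orderOf_mk] at hk
            have h1 : orderOf x ∣ Nat.card H := orderOf_dvd_natCard x
            rw [Subgroup.coe_subtype, Subgroup.orderOf_coe, hk]
            rw [hk, ← Nat.ordProj_mul_ordCompl_eq_self (Nat.card H) 2] at h1
            exact (Nat.Coprime.pow _ _ ((Nat.coprime_primes hq Nat.prime_two).mpr hq2)).dvd_of_dvd_mul_left h1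
          have h1 := (Nat.factorization_le_iff_dvd Nat.card_pos.ne' Nat.card_pos.ne').mpr
            (card_dvd_of_le (hQC.trans (le_sup_right : C ≤ S' ⊔ C))) q
          rwa [Subgroup.card_map_of_injective H.subtype_injective, Q.card_eq_multiplicity,
            hq.factorization_pow, Finsupp.single_eq_same] at h1
      · rw [Nat.factorization_eq_zero_of_not_prime _ hq]; exact Nat.zero_le _
    have hCm : Nat.card C = m := by
      have h1 : Nat.card C ∣ m := by
        have h2 := card_dvd_of_le hCH
        rw [← Nat.ordProj_mul_ordCompl_eq_self (Nat.card H) 2] at h2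
        exact ((Nat.prime_two.coprime_iff_not_dvd.mpr hCodd).symm.pow_right _).dvd_of_dvd_mul_left h2
      have hn : C ≤ normalizer (S' : Set G) := by
        intro c hc
        refine (centralizer_le_normalizer _) ?_
        rw [mem_centralizer_iff]
        intro s hs
        exact (hcent c hc.1 hc.2 s (hSH hs)).symm
      have h3 : Nat.card ↥(S' ⊔ C) ≤ Nat.card S' * Nat.card C := by
        rw [← Nat.card_prod]
        refine Nat.card_le_card_of_surjective
          (fun t : S' × C => (⟨(t.1 : G) * t.2, mul_mem_sup t.1.2 t.2.2⟩ : ↥(S' ⊔ C))) ?_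
        rintro ⟨e, he⟩
        obtain ⟨a, ha, b, hb, h⟩ := CfsgLib.mem_sup_of_le_normalizer hn he
        exact ⟨(⟨a, ha⟩, ⟨b, hb⟩), Subtype.ext h⟩
      rw [hsup, hSc] at h3
      refine le_antisymm (Nat.le_of_dvd (Nat.pos_of_ne_zero fun h => hm0 (h ▸ dvd_zero 2)) h1) ?_
      refine Nat.le_of_mul_le_mul_left ?_ (Nat.two_pow_pos ((Nat.card H).factorization 2))
      rwa [hm, Nat.ordProj_mul_ordCompl_eq_self]
    refine ⟨C, S', ⟨⟨fun a b => Subtype.ext (hcent a a.2.1 a.2.2 b b.2.1)⟩⟩, S.2.map _, ?_, hsup, ?_, ?_⟩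
    · intro c hc
      rw [mem_centralizer_iff]
      exact fun s hs => (hcent c hc.1 hc.2 s (hSH hs)).symm
    · rw [← hcardH]; exact hCm
    · rw [← hcardH]; exact hSc
  obtain ⟨CA, SA, hCA, hSA, hcA, hsupA, hnA, hmA⟩ := key A hA
  obtain ⟨CB, SB, hCB, hSB, hcB, hsupB, hnB, hmB⟩ := key B hB'
  rw [← hcard] at hnB hmB
  suffices h : ∃ g : G, B.comap π = (A.comap π).map (MulAut.conj g).toMonoidHom by
    obtain ⟨g, hg⟩ := h
    refine ⟨π g, ?_⟩
    rw [← map_comap_eq_self_of_surjective (QuotientGroup.mk'_surjective M) B, hg]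
    conv_rhs => rw [← map_comap_eq_self_of_surjective (QuotientGroup.mk'_surjective M) A]
    rw [Subgroup.map_map, Subgroup.map_map]
    congr 1
  by_cases hab : IsMulCommutative SA ∧ IsMulCommutative SB
  · have hcm : ∀ {S C : Subgroup G}, IsMulCommutative S → IsMulCommutative C → C ≤ centralizer (S : Set G) →
        IsMulCommutative ↥(S ⊔ C) := by
      intro S C hS hC hc
      have h1 : S ⊔ C = closure ((S : Set G) ∪ C) := by rw [Subgroup.closure_union, closure_eq, closure_eq]
      rw [h1]
      refine Subgroup.isMulCommutative_closure ?_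
      rintro a (ha | ha) b (hb | hb)
      · exact CfsgLib.EqualOrder.mem_centralizer_self hS ha hb
      · exact mem_centralizer_iff.mp (hc hb) a ha
      · exact (mem_centralizer_iff.mp (hc ha) b hb).symm
      · exact CfsgLib.EqualOrder.mem_centralizer_self hC ha hb
    exact hB _ _ (hsupA ▸ hcm hab.1 hCA hcA) (hsupB ▸ hcm hab.2 hCB hcB)
      (by rw [CfsgLib.card_comap_mk, CfsgLib.card_comap_mk, hcard])
  · -- a non-abelian part is a Sylow subgroup of order `8`
    have hP8 : ∀ S : Subgroup G, IsPGroup 2 S → ¬ IsMulCommutative S → Nat.card S = 8 ∧ Nat.card (P : Subgroup G) = 8 := by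
      intro S hS hna
      obtain ⟨Q, hQ⟩ := hS.exists_le_sylow
      let e := Q.equiv P
      rcases hP with hc | h8
      · exfalso
        haveI : IsCyclic (Q : Subgroup G) := e.isCyclic.mpr hc
        haveI : IsCyclic S := isCyclic_of_injective (inclusion hQ) (inclusion_injective hQ)
        exact hna ⟨⟨(IsCyclic.commGroup (α := S)).mul_comm⟩⟩
      · refine ⟨?_, h8⟩
        obtain ⟨k, hk⟩ := IsPGroup.iff_card.mp hS
        have h1 : 2 ^ k ∣ 2 ^ 3 := by
          have := card_dvd_of_le hQ
          rwa [hk, Nat.card_congr e.toEquiv, h8] at this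
        have h2 := (Nat.pow_dvd_pow_iff_le_right (by norm_num)).mp h1
        rcases h2.lt_or_eq with h3 | h3
        · exfalso
          apply hna
          haveI := Fact.mk Nat.prime_two
          have h4 : k ≤ 2 := by omega
          interval_cases k
          · haveI := (Nat.card_eq_one_iff_unique.mp hk).1
            exact ⟨⟨fun a b => Subsingleton.elim _ _⟩⟩
          · haveI := isCyclic_of_prime_card (p := 2) (by rw [hk, pow_one])
            exact ⟨⟨IsCyclic.commGroup.mul_comm⟩⟩
          · exact ⟨⟨(IsPGroup.commGroupOfCardEqPrimeSq hk).mul_comm⟩⟩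
        · rw [hk, h3]; rfl
    obtain ⟨hA8, h8⟩ : Nat.card SA = 8 ∧ Nat.card (P : Subgroup G) = 8 := by
      rcases not_and_or.mp hab with h | h
      · exact hP8 SA hSA h
      · obtain ⟨a, b⟩ := hP8 SB hSB h
        exact ⟨by rw [hmA, ← hmB]; exact a, b⟩
    have hB8 : Nat.card SB = 8 := by rw [hmB, ← hmA]; exact hA8
    obtain ⟨g, hg⟩ := hB CA CB hCA hCB (by rw [hnA, hnB])
    set SA' := SA.map (MulAut.conj g).toMonoidHom with hSA'
    set K := centralizer (CB : Set G) with hK
    have hSB' : SB ≤ K := fun s hs => mem_centralizer_iff.mpr fun c hc => (mem_centralizer_iff.mp (hcB hc) s hs).symm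
    have hSA'K : SA' ≤ K := by
      rintro _ ⟨s, hs, rfl⟩
      rw [mem_centralizer_iff]
      intro c hc
      obtain ⟨d, hd, rfl⟩ := (hg ▸ hc : c ∈ CA.map (MulAut.conj g).toMonoidHom)
      rw [← map_mul, ← map_mul, mem_centralizer_iff.mp (hcA hd) s hs]
    have hidx : ∀ S : Subgroup G, Nat.card S = 8 → S ≤ K → ¬ 2 ∣ (S.subgroupOf K).index := by
      intro S hS hSK hd
      refine P.not_dvd_index (hd.trans ?_)
      have h1 : S.index = (P : Subgroup G).index := Nat.eq_of_mul_eq_mul_left (show 0 < 8 by norm_num)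
        (by conv_lhs => rw [← hS, card_mul_index]
            conv_rhs => rw [← h8, card_mul_index])
      rw [← h1]
      exact relIndex_dvd_index_of_le hSK
    have hpg : ∀ S : Subgroup G, Nat.card S = 8 → S ≤ K → IsPGroup 2 (S.subgroupOf K) := fun S hS hSK =>
      IsPGroup.of_card (n := 3) (by rw [Nat.card_congr (subgroupOfEquivOfLe hSK).toEquiv, hS]; rfl)
    haveI := Fact.mk Nat.prime_two
    have hA8' : Nat.card SA' = 8 := by rw [hSA', Subgroup.card_map_of_injective (MulAut.conj g).injective, hA8]
    obtain ⟨c, hc⟩ := MulAction.exists_smul_eq K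
      ((hpg SA' hA8' hSA'K).toSylow (hidx SA' hA8' hSA'K)) ((hpg SB hB8 hSB').toSylow (hidx SB hB8 hSB'))
    refine ⟨(c : G) * g, ?_⟩
    rw [← hsupA, ← hsupB, Subgroup.map_sup]
    have hcomp : ∀ X : Subgroup G, X.map (MulAut.conj ((c : G) * g)).toMonoidHom =
        (X.map (MulAut.conj g).toMonoidHom).map (MulAut.conj (c : G)).toMonoidHom := by
      intro X
      rw [Subgroup.map_map]
      congr 1
      ext x
      simp [mul_assoc]
    rw [hcomp, hcomp, ← hg]
    have h1 : (SA'.map (MulAut.conj (c : G)).toMonoidHom) = SB := by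
      have h2 := congrArg (fun Q : Sylow 2 K => (Q : Subgroup K).map K.subtype) hc
      simp only [Sylow.coe_subgroup_smul, IsPGroup.toSylow_coe] at h2
      rw [subgroupOf_map_subtype, inf_eq_left.mpr hSB'] at h2
      rw [← h2, Subgroup.pointwise_smul_def]
      ext y
      constructor
      · rintro ⟨s, hs, rfl⟩
        exact ⟨c * ⟨s, hSA'K hs⟩ * c⁻¹, ⟨⟨s, hSA'K hs⟩, hs, rfl⟩, rfl⟩
      · rintro ⟨_, ⟨s, hs, rfl⟩, rfl⟩
        exact ⟨s, hs, rfl⟩
    have h3 : CB.map (MulAut.conj (c : G)).toMonoidHom = CB := by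
      have e : ∀ x ∈ CB, (c : G) * x * (c : G)⁻¹ = x := fun x hx => by
        rw [← mem_centralizer_iff.mp c.2 x hx, mul_inv_cancel_right]
      ext y
      constructor
      · rintro ⟨x, hx, rfl⟩
        change (c : G) * x * (c : G)⁻¹ ∈ CB
        rw [e x hx]; exact hx
      · intro hy
        exact ⟨y, hy, e y hy⟩
    rw [h1, h3]

theorem quotient_closed : ∀ {G : Type u} [Group G] [Finite G], HB G → Group.IsSolvable G →
    ∀ (M : Subgroup G) [M.Normal], HB (G ⧸ M) := by
  suffices h : ∀ (k : ℕ) (G : Type u) [Group G] [Finite G], HB G → Group.IsSolvable G →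
      ∀ (M : Subgroup G) [M.Normal], Nat.card M = k → HB (G ⧸ M) by
    intro G _ _ hB hs M _
    exact h _ G hB hs M rfl
  intro k
  induction k using Nat.strong_induction_on with
  | _ k ih =>
    intro G _ _ hB hs M hMn hk
    haveI := hs
    rcases eq_or_ne M ⊥ with rfl | hM1
    · exact HB.of_equiv (QuotientGroup.quotientBot (G := G)).symm hB
    obtain ⟨N, hN, hNM, hN1, hmin⟩ := CfsgLib.exists_minimal_normal (N := M) hM1
    haveI := hN
    rcases eq_or_ne N M with rfl | hne
    · obtain ⟨hab, q, hq, hqN⟩ := CfsgLib.minimal_normal_elementary hN1 inferInstance hmin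
      haveI := Fact.mk hq
      have hp : IsPGroup q N := fun x => ⟨1, Subtype.ext (by simpa using hqN x x.2)⟩
      obtain ⟨a, ha⟩ := IsPGroup.iff_card.mp hp
      rcases eq_or_ne q 2 with rfl | hq2
      · by_cases h2 : 2 ∣ N.index
        · obtain ⟨P⟩ : Nonempty (Sylow 2 G) := inferInstance
          have ha1 : a ≠ 0 := fun h => hN1 (card_eq_one.mp (by rw [ha, h, pow_zero]))
          have hNP : N ≤ P := le_trans (CfsgLib.le_pCore hp) (CfsgLib.pCore_le_sylow P)
          have hP : IsCyclic (P : Subgroup G) ∨ Nonempty ((P : Subgroup G) ≃* QuaternionGroup 2) := by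
            rcases sylow_two hB P with h | h | h
            · exact Or.inl h
            · exact Or.inr h
            · exact absurd (h2.trans (index_dvd_of_le (fun x hx =>
                hB.mem_normal_prime (M := N) (ha ▸ dvd_pow_self 2 ha1) (h x hx)))) P.not_dvd_index
          have hcard : Nat.card N = 2 := by
            have h3 := card_le_two_of_exponent hP (K := N.subgroupOf P)
              (fun x hx => Subtype.ext (hqN x hx))
            rw [Nat.card_congr (subgroupOfEquivOfLe hNP).toEquiv, ha] at h3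
            rw [ha]
            exact le_antisymm h3 (Nat.le_self_pow ha1 2)
          refine quot_of_card_two hB N hcard P (hP.imp id fun ⟨e⟩ => ?_)
          rw [Nat.card_congr e.toEquiv, Nat.card_eq_fintype_card, QuaternionGroup.card]
        · refine quot_of_coprime hB N ?_
          rw [ha]
          exact (Nat.prime_two.coprime_iff_not_dvd.mpr h2).pow_left a
      · exact Cfsg.Agent.S3911.result hB N (by rw [ha]; exact (hq.odd_of_ne_two hq2).pow)
    · have hlt : Nat.card N < Nat.card M := lt_of_not_ge fun h => hne (eq_of_le_of_card_ge hNM h)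
      have hBN : HB (G ⧸ N) := ih _ (hk ▸ hlt) G hB hs N rfl
      haveI : Group.IsSolvable (G ⧸ N) := Group.isSolvable_of_surjective (QuotientGroup.mk'_surjective N)
      have hc : Nat.card (M.map (QuotientGroup.mk' N)) < k := by
        have h1 := Cfsg.Agent.S4022.Aux.map_mk_card N M
        rw [inf_eq_left.mpr hNM, hk] at h1
        rw [← h1]
        haveI := (Subgroup.nontrivial_iff_ne_bot N).mpr hN1
        exact lt_mul_of_one_lt_right Nat.card_pos Finite.one_lt_card
      haveI : (M.map (QuotientGroup.mk' N)).Normal := hMn.map _ (QuotientGroup.mk'_surjective N)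
      exact HB.of_equiv (QuotientGroup.quotientQuotientEquivQuotient N M hNM)
        (ih _ hc (G ⧸ N) hBN inferInstance (M.map (QuotientGroup.mk' N)) rfl)

/-- Let G be a finite solvable group in which any two abelian subgroups of the same order are conjugate. Then every quotient of G has the same property: any two abelian subgroups of the quotient of the same order are conjugate. -/
theorem result {G : Type*} [Group G] [Finite G] (hB : ∀ A B : Subgroup G, IsMulCommutative ↥A → IsMulCommutative ↥B → Nat.card ↥A = Nat.card ↥B → ∃ g : G, B = A.map (MulAut.conj g).toMonoidHom) (hsol : Group.IsSolvable G) (M : Subgroup G) [M.Normal] :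
    ∀ A B : Subgroup (G ⧸ M), IsMulCommutative ↥A → IsMulCommutative ↥B → Nat.card ↥A = Nat.card ↥B →
      ∃ g : G ⧸ M, B = A.map (MulAut.conj g).toMonoidHom := by
  exact quotient_closed hB hsol M

end Cfsg.Agent.S3912
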