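import Cfsg.Statements.S0018
import Cfsg.Agent.Lib.PSolvable

set_option autoImplicit false
open Cfsg

namespace Cfsg.Agent.S0018

/-- A finite solvable group whose Sylow p-subgroups are abelian has p-length one: a Sylow p-subgroup together with the largest normal subgroup of order prime to p generates a normal subgroup. -/
theorem result {G : Type*} [Group G] [Finite G] [Group.IsSolvable G]
    (p : ℕ) [Fact p.Prime] (P : Sylow p G) (hP : IsMulCommutative P) :
    ((P : Subgroup G) ⊔ Cfsg.pPrimeCore p G).Normal := by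
  set N := Cfsg.pPrimeCore p G with hN
  let π := QuotientGroup.mk' N
  haveI : Group.IsSolvable (G ⧸ N) := Group.isSolvable_of_surjective (QuotientGroup.mk'_surjective N)
  have hs : Function.Surjective π := QuotientGroup.mk'_surjective N
  let Pb : Sylow p (G ⧸ N) := P.mapSurjective hs
  have hPb : (Pb : Subgroup (G ⧸ N)) = (P : Subgroup G).map π := rfl
  have hle : Cfsg.pCore p (G ⧸ N) ≤ Pb := CfsgLib.pCore_le_sylow Pb
  have hc := CfsgLib.centralizer_pCore_le (G := G ⧸ N) (p := p) Fact.out (CfsgLib.pPrimeCore_quotient_eq_bot p)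
  have hPc : (Pb : Subgroup (G ⧸ N)) ≤ Subgroup.centralizer (Cfsg.pCore p (G ⧸ N) : Set (G ⧸ N)) := by
    intro x hx y hy
    have hy' := hle hy
    rw [hPb, Subgroup.mem_map] at hx hy'
    obtain ⟨a, ha, rfl⟩ := hx
    obtain ⟨b, hb, rfl⟩ := hy'
    rw [← map_mul, ← map_mul, Subgroup.mul_comm_of_mem_isMulCommutative (P : Subgroup G) hb ha]
  have heq : (Pb : Subgroup (G ⧸ N)) = Cfsg.pCore p (G ⧸ N) := le_antisymm (hPc.trans hc) hle
  have : (P : Subgroup G) ⊔ N = (Cfsg.pCore p (G ⧸ N)).comap π := by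
    rw [← heq, hPb, Subgroup.comap_map_eq, QuotientGroup.ker_mk']
  rw [this]
  exact Subgroup.normal_comap _

end Cfsg.Agent.S0018
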