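import Cfsg.Statements.S1250
import Mathlib.GroupTheory.Sylow
-- import your own Cfsg.Agent.* helpers here

set_option autoImplicit false
open Cfsg

namespace Cfsg.Agent.S1250

/-- Let S be a Sylow p-subgroup of the finite group G, A ≤ S strongly closed in S, and N a normal subgroup. Then the image of A in G ⧸ N is strongly closed in the image of S (which is a Sylow p-subgroup of G ⧸ N). -/
theorem result {G : Type*} [Group G] [Finite G] {p : ℕ} [Fact p.Prime] (S : Sylow p G) (A : Subgroup G) (hA : Cfsg.IsStronglyClosed A (S : Subgroup G)) (N : Subgroup G) [N.Normal] : Cfsg.IsStronglyClosed (A.map (QuotientGroup.mk' N)) ((S : Subgroup G).map (QuotientGroup.mk' N)) := by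
  refine ⟨Subgroup.map_mono hA.1, ?_⟩
  rintro _ ⟨x, hx, rfl⟩ q
  obtain ⟨g, rfl⟩ := QuotientGroup.mk'_surjective N q
  intro hq
  rw [← map_inv, ← map_mul, ← map_mul] at hq ⊢
  have hy : g * x * g⁻¹ ∈ (S : Subgroup G) ⊔ N := by
    have := Subgroup.mem_comap.mpr hq
    rwa [Subgroup.comap_map_eq, QuotientGroup.ker_mk'] at this
  have hp : IsPGroup p (Subgroup.zpowers (g * x * g⁻¹)) := by
    refine (S.2.map (MulAut.conj g).toMonoidHom).to_le ?_
    rw [Subgroup.zpowers_le]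
    exact ⟨x, hA.1 hx, rfl⟩
  obtain ⟨R, hR⟩ := (hp.of_equiv (Subgroup.subgroupOfEquivOfLe (Subgroup.zpowers_le.mpr hy)).symm).exists_le_sylow
  obtain ⟨k, hk⟩ := MulAction.exists_smul_eq ↥((S : Subgroup G) ⊔ N) R (S.subtype le_sup_left)
  have hkm : (k : G) * (g * x * g⁻¹) * (k : G)⁻¹ ∈ (S : Subgroup G) := by
    have h1 : (⟨g * x * g⁻¹, hy⟩ : ↥((S : Subgroup G) ⊔ N)) ∈ (R : Subgroup _) := hR (Subgroup.mem_zpowers _)
    have h2 : k * ⟨g * x * g⁻¹, hy⟩ * k⁻¹ ∈ ((S.subtype le_sup_left : Sylow p ↥((S : Subgroup G) ⊔ N)) : Subgroup _) := by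
      rw [← hk, Sylow.coe_subgroup_smul, Subgroup.mem_pointwise_smul_iff_inv_smul_mem]
      simpa [MulAut.conj_symm_apply, mul_assoc] using h1
    exact h2
  obtain ⟨k, hk'⟩ := k
  rw [← SetLike.mem_coe, Subgroup.mul_normal] at hk'
  obtain ⟨s, hs, n, hn, rfl⟩ := hk'
  have hsn : s * n * (g * x * g⁻¹) * (s * n)⁻¹ ∈ A := by
    have := hA.2 x hx (s * n * g) (by simpa [mul_assoc] using hkm)
    simpa [mul_assoc] using this
  have h3 : n * (g * x * g⁻¹) * n⁻¹ ∈ A := by
    have h4 := hA.2 _ hsn s⁻¹ (by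
      have := (S : Subgroup G).mul_mem ((S : Subgroup G).mul_mem ((S : Subgroup G).inv_mem hs) (hA.1 hsn)) hs
      simpa [mul_assoc] using this)
    simpa [mul_assoc] using h4
  refine ⟨_, h3, ?_⟩
  rw [map_mul, map_mul, map_inv]
  have : QuotientGroup.mk' N n = 1 := (QuotientGroup.eq_one_iff n).mpr hn
  simp [this]

end Cfsg.Agent.S1250
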