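import Cfsg.Statements.S0942
import Cfsg.Agent.Lib.Blocks.Principal

set_option autoImplicit false
set_option linter.style.haveILetI false
open Cfsg

namespace Cfsg.Agent.S0942

open CfsgLib.Blocks CfsgLib.CharTheory

/-- Let u be a p-element of the finite group G, let v lie in the largest normal subgroup of C_G(u) of order prime to p, and let χ belong to the principal block (relative to a maximal ideal M of the algebraic integers containing p). Then χ (u * v) = χ u. -/
theorem result {G : Type*} [Group G] [Finite G] (p : ℕ) [Fact p.Prime] (M : Ideal Cfsg.AlgInt) (hM : Cfsg.IsPModular p M) (u : G) (hu : ∃ k : ℕ, orderOf u = p ^ k) (v : G) (hv : v ∈ Cfsg.centralizerPPrimeCore p u) (χ : Cfsg.IrrCharacter G) (hχ : χ ∈ Cfsg.principalBlock M G) : (χ : G → ℂ) (u * v) = (χ : G → ℂ) u := by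
  classical
  haveI := Fintype.ofFinite G
  haveI : Fintype (Subgroup.centralizer ({u} : Set G)) := Fintype.ofFinite _
  have hp : p.Prime := Fact.out
  obtain ⟨v', hv', rfl⟩ := hv
  have hH := isCentr_singleton u
  have hN := CfsgLib.not_dvd_card_pPrimeCore (G := Subgroup.centralizer ({u} : Set G)) hp
  have hy : ¬ p ∣ orderOf v' := fun h => hN (h.trans (Subgroup.orderOf_dvd_natCard _ hv'))
  have h1 : ¬ p ∣ orderOf (1 : Subgroup.centralizer ({u} : Set G)) := by
    rw [orderOf_one]; exact hp.not_dvd_one
  have hB := principalBlock_isPBlock (M := M) (G := G)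
  have e1 := sec_eq_overBlocks hM hH hu hB χ hy
  have e2 := sec_eq_overBlocks hM hH hu hB χ h1
  rw [ind_of_mem hχ, one_mul, overBlocks_principal hM hH hu, blockPart_apply] at e1 e2
  rw [Subgroup.coe_one, mul_one] at e2
  rw [Subgroup.coe_subtype, ← e1, ← e2]
  refine Finset.sum_congr rfl fun ψ hψ => ?_
  rw [principal_kernel hM hN (mem_bset.1 hψ) hv']

end Cfsg.Agent.S0942
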