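import Cfsg.Statements.S4738
import Cfsg.Agent.Lib.Blocks.DefectZeroCount
-- import your own Cfsg.Agent.* helpers here

set_option autoImplicit false
open Cfsg

namespace Cfsg.Agent.S4738

open CfsgLib.Blocks CfsgLib.CharTheory

set_option linter.style.haveILetI false
set_option linter.unusedSimpArgs false

theorem inv_of_order_two {G : Type*} [Group G] {s : G} (hs : orderOf s = 2) : s ≠ 1 ∧ s * s = 1 :=
  ⟨fun h => by rw [h, orderOf_one] at hs; omega, by rw [← pow_two, ← hs, pow_orderOf_eq_one]⟩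

theorem comm_of_inverted {G : Type*} [Group G] {s : G} (hs : s * s = 1) {R : Subgroup G}
    (hR : ∀ r ∈ R, s * r * s = r⁻¹) {a b : G} (ha : a ∈ R) (hb : b ∈ R) : a * b = b * a := by
  have h := hR _ (R.mul_mem ha hb)
  rw [show s * (a * b) * s = (s * a * s) * (s * b * s) by
    rw [show s * a * s * (s * b * s) = s * a * (s * s) * b * s by group, hs]; group,
    hR a ha, hR b hb] at h
  have := congrArg (fun z => z⁻¹) h
  simpa using this.symm

theorem two_mul_order {G : Type*} [Group G] {p : ℕ} [hp : Fact p.Prime]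
    (h2p : ∀ g : G, orderOf g ≠ 2 * p) (hp2 : p ≠ 2) {s z : G} (hs : orderOf s = 2)
    (hz : orderOf z = p) (hc : Commute s z) : False := by
  refine h2p (s * z) ?_
  rw [hc.orderOf_mul_eq_mul_orderOf_of_coprime, hs, hz]
  rw [hs, hz]
  exact (Nat.coprime_primes Nat.prime_two hp.out).2 (Ne.symm hp2)

theorem commute_inv_trivial {G : Type*} [Group G] [Finite G] {p : ℕ} [hp : Fact p.Prime]
    (h2p : ∀ g : G, orderOf g ≠ 2 * p) (hp2 : p ≠ 2) {s z : G} (hs : s * s = 1) (hs1 : s ≠ 1)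
    (hc : Commute z s) (hz : ∃ j, orderOf z = p ^ j) : z = 1 := by
  obtain ⟨j, hj⟩ := hz
  rcases Nat.eq_zero_or_pos j with rfl | hj0
  · exact orderOf_eq_one_iff.1 (by rw [hj, pow_zero])
  · refine (two_mul_order h2p hp2 (orderOf_eq_prime (by rw [pow_two, hs]) hs1) ?_
      (hc.symm.pow_right (p ^ (j - 1)))).elim
    rw [orderOf_pow' _ (pow_ne_zero _ hp.out.ne_zero), hj,
      Nat.gcd_eq_right (pow_dvd_pow p (Nat.sub_le j 1)), Nat.pow_div (Nat.sub_le j 1) hp.out.pos,
      show j - (j - 1) = 1 by omega, pow_one]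

theorem cent_inv_pprime {G : Type*} [Group G] [Finite G] {p : ℕ} [hp : Fact p.Prime]
    (h2p : ∀ g : G, orderOf g ≠ 2 * p) (hp2 : p ≠ 2) {s : G} (hs : s * s = 1) (hs1 : s ≠ 1) :
    ¬ p ∣ Nat.card (Subgroup.centralizer ({s} : Set G)) := by
  intro h
  obtain ⟨z, hz⟩ := exists_prime_orderOf_dvd_card' p h
  have hz' : orderOf (z : G) = p := by rw [Subgroup.orderOf_coe]; exact hz
  have := commute_inv_trivial h2p hp2 hs hs1
    (Subgroup.mem_centralizer_singleton_iff.1 z.2) ⟨1, by rw [hz', pow_one]⟩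
  rw [this, orderOf_one] at hz'
  exact hp.out.one_lt.ne hz'

theorem odd_of_commute {G : Type*} [Group G] [Finite G] {p : ℕ} [hp : Fact p.Prime]
    (h2p : ∀ g : G, orderOf g ≠ 2 * p) (hp2 : p ≠ 2) {y z : G} (hz1 : z ≠ 1)
    (hz : ∃ j, orderOf z = p ^ j) (hc : Commute y z) : Odd (orderOf y) := by
  by_contra h
  rw [Nat.not_odd_iff_even] at h
  obtain ⟨c, hc'⟩ := h.two_dvd
  have hc0 : c ≠ 0 := fun e => (orderOf_pos y).ne' (by rw [hc', e, mul_zero])
  have ho : orderOf (y ^ c) = 2 := by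
    rw [orderOf_pow' _ hc0, hc', Nat.gcd_eq_right (Dvd.intro_left 2 rfl),
      Nat.mul_div_cancel _ (Nat.pos_of_ne_zero hc0)]
  obtain ⟨h1, h2⟩ := inv_of_order_two ho
  exact hz1 (commute_inv_trivial h2p hp2 h2 h1 (hc.pow_left c).symm hz)

theorem exists_inverted {G : Type*} [Group G] [Fintype G] {p : ℕ} [hp : Fact p.Prime]
    {M : Ideal Cfsg.AlgInt} (hM : Cfsg.IsPModular p M)
    (hdz : ∀ χ : Cfsg.IrrCharacter G, ¬ IsDefZero p χ) {s : G}
    (hcent : ¬ p ∣ Nat.card (Subgroup.centralizer ({s} : Set G))) (hs : s * s = 1) :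
    ∃ R : Subgroup G, IsPGroup p R ∧ R ≠ ⊥ ∧ ∀ r ∈ R, s * r * s = r⁻¹ := by
  classical
  by_contra hno
  push Not at hno
  let P : Sylow p G := default
  have hzero : ∀ u ∈ (P : Subgroup G), u ≠ 1 → pairCount s s u = 0 := by
    intro u hu hu1
    refine (Nat.card_eq_zero).2 (Or.inl ⟨fun ⟨a, h1, h2⟩ => ?_⟩)
    obtain ⟨c, rfl⟩ := isConj_iff.1 h1
    obtain ⟨d, hd⟩ := isConj_iff.1 h2
    have hb : ((c * s * c⁻¹)⁻¹ * u) * ((c * s * c⁻¹)⁻¹ * u) = 1 := by
      rw [← hd, show d * s * d⁻¹ * (d * s * d⁻¹) = d * (s * s) * d⁻¹ by group, hs, mul_one,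
        mul_inv_cancel]
    have hu' : s * (c⁻¹ * u * c) * s = (c⁻¹ * u * c)⁻¹ := by
      have hsi : s⁻¹ = s := inv_eq_of_mul_eq_one_right hs
      refine eq_inv_of_mul_eq_one_left ?_
      have : (c * s * c⁻¹)⁻¹ = c * s * c⁻¹ := by
        rw [mul_inv_rev, mul_inv_rev, inv_inv, hsi, mul_assoc]
      rw [this] at hb
      rw [show s * (c⁻¹ * u * c) * s * (c⁻¹ * u * c) =
        c⁻¹ * ((c * s * c⁻¹ * u) * (c * s * c⁻¹ * u)) * c by group, hb, mul_one, inv_mul_cancel]
    have hne : c⁻¹ * u * c ≠ 1 := fun e => hu1 (by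
      rw [show u = c * (c⁻¹ * u * c) * c⁻¹ by group, e]; group)
    obtain ⟨r, hr, hr'⟩ := hno (Subgroup.zpowers (c⁻¹ * u * c)) (by
      have h' := (P.isPGroup'.to_le (Subgroup.zpowers_le.2 hu)).map (MulAut.conj c⁻¹).toMonoidHom
      rw [MonoidHom.map_zpowers] at h'
      have e : (MulAut.conj c⁻¹).toMonoidHom u = c⁻¹ * u * c := by
        show c⁻¹ * u * c⁻¹⁻¹ = _
        rw [inv_inv]
      rw [e] at h'
      exact h') (by rwa [Subgroup.zpowers_ne_bot])
    obtain ⟨n, rfl⟩ := Subgroup.mem_zpowers_iff.1 hr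
    apply hr'
    have hsi : s⁻¹ = s := inv_eq_of_mul_eq_one_right hs
    calc s * (c⁻¹ * u * c) ^ n * s = (s * (c⁻¹ * u * c) * s⁻¹) ^ n := by rw [conj_zpow, hsi]
      _ = ((c⁻¹ * u * c) ^ n)⁻¹ := by rw [hsi, hu', inv_zpow]
  set C := Nat.card (Subgroup.centralizer ({s} : Set G))
  set S : Finset G := Finset.univ.filter (· ∈ (P : Subgroup G))
  have hone : pairCount s s 1 = (Subgroup.centralizer ({s} : Set G)).index := by
    rw [index_centralizer_eq, pairCount]
    refine Nat.card_congr (Equiv.subtypeEquivRight fun a => ?_)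
    refine ⟨fun h => h.1, fun h => ⟨h, ?_⟩⟩
    rw [mul_one]
    have := isConj_inv h
    rwa [inv_eq_of_mul_eq_one_right hs] at this
  have hsum : ∑ u ∈ S, (pairCount s s u : ℂ) * (C : ℂ) = (Nat.card G : ℂ) := by
    rw [Finset.sum_eq_single 1]
    · rw [hone, ← Nat.cast_mul, Subgroup.index_mul_card]
    · intro u hu hu1
      rw [hzero u (Finset.mem_filter.1 hu).2 hu1]
      simp
    · exact fun h => absurd (Finset.mem_filter.2 ⟨Finset.mem_univ _, one_mem _⟩) h
  simp only [C, pairCount_mul] at hsum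
  rw [Finset.sum_comm] at hsum
  have hm : ∀ χ : Cfsg.IrrCharacter G, ∃ m : ℕ,
      ∑ u ∈ S, starRingEnd ℂ ((χ : G → ℂ) u) = (Nat.card P : ℂ) * m := by
    intro χ
    haveI := Fintype.ofFinite (P : Subgroup G)
    obtain ⟨m, hm⟩ := classInner_char_nat isCharacter_one
      (isCharacter_restrict (isCharacter_of_irr χ.2) (P : Subgroup G))
    refine ⟨m, ?_⟩
    rw [← hm, Cfsg.classInner, ← mul_assoc,
      mul_inv_cancel₀ (Nat.cast_ne_zero.2 Nat.card_pos.ne'), one_mul]
    simp only [one_mul]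
    exact (Finset.sum_subtype S (fun u => by simp [S]) (fun u => starRingEnd ℂ ((χ : G → ℂ) u)))
  choose m hm using hm
  simp only [← Finset.mul_sum, hm] at hsum
  have hP : (Nat.card P : ℂ) ≠ 0 := Nat.cast_ne_zero.2 Nat.card_pos.ne'
  have hq : ((P : Subgroup G).index : ℂ) =
      ∑ χ : Cfsg.IrrCharacter G, clv s χ * ((χ : G → ℂ) s * (m χ : ℂ)) := by
    refine mul_left_cancel₀ hP ?_
    rw [← Nat.cast_mul, Subgroup.card_mul_index, ← hsum, Finset.mul_sum]
    exact Finset.sum_congr rfl fun χ _ => by ring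
  have h1 := congrArg (res hM) hq
  rw [res_natCast, res_sum hM (fun χ _ => (loc hM).mul_mem (memRing_clv hM _ χ)
      ((loc hM).mul_mem (memRing_irr hM χ _) (memRing_natCast hM _))),
    Finset.sum_eq_zero fun χ _ => by
      rw [res_mul hM (memRing_clv hM _ χ)
        ((loc hM).mul_mem (memRing_irr hM χ _) (memRing_natCast hM _)),
        res_clv_of_not_defZero hM hcent (hdz χ), zero_mul]] at h1
  haveI := res_charP hM
  rw [CharP.cast_eq_zero_iff (Cfsg.AlgInt ⧸ M) p] at h1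
  exact P.not_dvd_index h1

theorem exists_bigger {G : Type*} [Group G] [Finite G] {p : ℕ} [hp : Fact p.Prime] {s q : G}
    {R C : Subgroup G} (hs : s * s = 1) (hsC : ∀ c ∈ C, s * c * s ∈ C) (hRp : IsPGroup p R)
    (hRC : R ≤ C) (hcent : ∀ c ∈ C, ∀ r ∈ R, r * c = c * r) (hodd : ∀ x ∈ C, Odd (orderOf x))
    (hq : ∃ j, orderOf q = p ^ j) (hqC : q ∈ C) (hqR : q ∉ R) :
    ∃ L : Subgroup G, IsPGroup p L ∧ (∀ a ∈ L, s * a * s ∈ L) ∧ L ≤ C ∧ R ≤ L ∧
      Nat.card R < Nat.card L := by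
  classical
  haveI := Fintype.ofFinite G
  let α : MulAut C :=
    { toFun := fun c => ⟨s * c * s, hsC c c.2⟩
      invFun := fun c => ⟨s * c * s, hsC c c.2⟩
      left_inv := fun c => Subtype.ext (by
        show s * (s * (c : G) * s) * s = c
        rw [show s * (s * (c : G) * s) * s = (s * s) * c * (s * s) by group, hs, one_mul, mul_one])
      right_inv := fun c => Subtype.ext (by
        show s * (s * (c : G) * s) * s = c
        rw [show s * (s * (c : G) * s) * s = (s * s) * c * (s * s) by group, hs, one_mul, mul_one])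
      map_mul' := fun b c => Subtype.ext (by
        show s * ((b : G) * c) * s = s * b * s * (s * c * s)
        rw [show s * (b : G) * s * (s * c * s) = s * b * (s * s) * c * s by group, hs]; group) }
  haveI : Fintype (Sylow p C) := Fintype.ofFinite _
  have hcard : Odd (Fintype.card (Sylow p C)) := by
    have hC : Odd (Nat.card C) := by
      rw [← Nat.not_even_iff_odd]
      intro he
      haveI : Fact (Nat.Prime 2) := ⟨Nat.prime_two⟩
      obtain ⟨t, ht⟩ := exists_prime_orderOf_dvd_card' 2 he.two_dvd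
      have := hodd t t.2
      rw [Subgroup.orderOf_coe, ht] at this
      exact absurd this (by decide)
    rw [← Nat.card_eq_fintype_card]
    exact hC.of_dvd_nat ((Sylow.card_dvd_index default).trans (Subgroup.index_dvd_card _))
  have hαα : ∀ c, α (α c) = c := fun c => α.left_inv c
  have hinvol : ∀ S : Sylow p C, α • (α • S) = S := fun S => by
    rw [smul_smul, show α * α = 1 from MulEquiv.ext hαα, one_smul]
  obtain ⟨S, hS⟩ : ∃ S : Sylow p C, α • S = S := by
    by_contra hno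
    push Not at hno
    have : ((Fintype.card (Sylow p C) : ℕ) : ZMod 2) = 0 := by
      rw [← Finset.card_univ, Finset.card_eq_sum_ones, Nat.cast_sum]
      exact Finset.sum_involution (fun S _ => α • S) (fun S _ => rfl) (fun S _ _ => hno S)
        (fun S _ => Finset.mem_univ _) (fun S _ => hinvol S)
    rw [ZMod.natCast_eq_one_iff_odd.2 hcard] at this
    exact one_ne_zero this
  haveI : (R.subgroupOf C).Normal := ⟨fun r hr c => by
    show (c : G) * r * (c : G)⁻¹ ∈ R
    rw [← hcent c c.2 r hr, mul_inv_cancel_right]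
    exact hr⟩
  have hRp' : IsPGroup p (R.subgroupOf C) := hRp.comap_of_injective C.subtype C.subtype_injective
  have hall : ∀ S : Sylow p C, R.subgroupOf C ≤ (S : Subgroup C) := fun S =>
    hRp'.le_sylow_of_normal S
  set L := (S : Subgroup C).map C.subtype with hL
  have hLC : L ≤ C := Subgroup.map_subtype_le _
  have hRL : R ≤ L := fun r hr => ⟨⟨r, hRC hr⟩, hall S hr, rfl⟩
  refine ⟨L, S.isPGroup'.map _, ?_, hLC, hRL, ?_⟩
  · rintro _ ⟨a, ha, rfl⟩
    have h1 : α a ∈ ((α • S : Sylow p C) : Subgroup C) := ⟨a, ha, rfl⟩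
    rw [hS] at h1
    exact ⟨α a, h1, rfl⟩
  · have hqp : IsPGroup p (Subgroup.zpowers (⟨q, hqC⟩ : C)) := by
      obtain ⟨j, hj⟩ := hq
      exact IsPGroup.of_card (n := j) (by rw [Nat.card_zpowers, ← Subgroup.orderOf_coe, hj])
    obtain ⟨S', hS'⟩ := hqp.exists_le_sylow
    set L' := (S' : Subgroup C).map C.subtype
    have hlt : R < L' := lt_of_le_not_ge (fun r hr => ⟨⟨r, hRC hr⟩, hall S' hr, rfl⟩)
      fun h => hqR (h ⟨⟨q, hqC⟩, hS' (Subgroup.mem_zpowers _), rfl⟩)
    have h1 : Nat.card L = Nat.card L' := by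
      rw [Subgroup.card_map_of_injective C.subtype_injective,
        Subgroup.card_map_of_injective C.subtype_injective, S.card_eq_multiplicity,
        S'.card_eq_multiplicity]
    rw [h1]
    have := Set.ncard_lt_ncard (SetLike.coe_ssubset_coe.2 hlt) (Set.toFinite _)
    rwa [← Nat.card_coe_set_eq, ← Nat.card_coe_set_eq] at this

theorem sylow_inverted {G : Type*} [Group G] [Finite G] {p : ℕ} [hp : Fact p.Prime]
    (h2p : ∀ g : G, orderOf g ≠ 2 * p) (hp2 : p ≠ 2) {s : G} (hs : s * s = 1) (hs1 : s ≠ 1)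
    (hex : ∃ R : Subgroup G, IsPGroup p R ∧ R ≠ ⊥ ∧ ∀ r ∈ R, s * r * s = r⁻¹) :
    ∃ Q : Sylow p G, (Q : Subgroup G) ≠ ⊥ ∧ ∀ r ∈ (Q : Subgroup G), s * r * s = r⁻¹ := by
  classical
  have hsi : s⁻¹ = s := inv_eq_of_mul_eq_one_right hs
  obtain ⟨R, ⟨hRp, hR1, hRi⟩, hmax⟩ :=
    Set.Finite.exists_maximal (Set.toFinite
      {R : Subgroup G | IsPGroup p R ∧ R ≠ ⊥ ∧ ∀ r ∈ R, s * r * s = r⁻¹}) hex
  obtain ⟨Q, hQ⟩ := hRp.exists_le_sylow
  suffices hRQ : R = (Q : Subgroup G) from ⟨Q, hRQ ▸ hR1, fun r hr => hRi r (hRQ ▸ hr)⟩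
  set C := Subgroup.centralizer (R : Set G) with hC
  obtain ⟨⟨z, hzR⟩, hz'⟩ := Subgroup.ne_bot_iff_exists_ne_one.1 hR1
  have hz1 : z ≠ 1 := fun e => hz' (Subtype.ext e)
  have hzp : ∀ (S : Subgroup G), IsPGroup p S → ∀ a ∈ S, ∃ j, orderOf a = p ^ j := by
    intro S hS a ha
    obtain ⟨j, hj⟩ := hS ⟨a, ha⟩
    exact ((Nat.dvd_prime_pow hp.out).1 (orderOf_dvd_iff_pow_eq_one.2
      (congrArg Subtype.val hj))).imp fun _ h => h.2
  have hoddC : ∀ y ∈ C, Odd (orderOf y) := fun y hy =>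
    odd_of_commute h2p hp2 hz1 (hzp R hRp z hzR) (Subgroup.mem_centralizer_iff.1 hy z hzR).symm
  have hRC : R ≤ C := fun r hr =>
    Subgroup.mem_centralizer_iff.2 fun a ha => comm_of_inverted hs hRi ha hr
  -- elements normalizing `R` have a power prime to `p` in `C`
  have hpow : ∀ x : G, (∀ r ∈ R, x * r * x⁻¹ ∈ R) →
      x ^ Nat.card (Subgroup.centralizer ({s} : Set G)) ∈ C := by
    intro x hx
    set y := x⁻¹ * s * x * s with hy
    have hx' : ∀ r ∈ R, x⁻¹ * r * x ∈ R := by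
      intro r hr
      have hsurj : Function.Surjective fun a : R => (⟨x * a * x⁻¹, hx a a.2⟩ : R) :=
        Finite.surjective_of_injective fun a b h =>
          Subtype.ext (by simpa using congrArg Subtype.val h)
      obtain ⟨a, ha⟩ := hsurj ⟨r, hr⟩
      have e : x⁻¹ * r * x = a := by
        rw [← show x * (a : G) * x⁻¹ = r from congrArg Subtype.val ha]; group
      rw [e]; exact a.2
    have hyC : y ∈ C := Subgroup.mem_centralizer_iff.2 fun r hr => by
      have h1 : s * r * s = r⁻¹ := hRi r hr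
      have h2 : s * (x * r⁻¹ * x⁻¹) * s = x * r * x⁻¹ := by
        rw [hRi _ (hx _ (R.inv_mem hr))]; group
      have h3 : y * r * y⁻¹ = r := by
        rw [hy, show x⁻¹ * s * x * s * r * (x⁻¹ * s * x * s)⁻¹ =
          x⁻¹ * (s⁻¹⁻¹ * (x * (s * r * s⁻¹) * x⁻¹) * s⁻¹) * x by group, hsi, hsi, h1, h2]
        group
      conv_lhs => rw [← h3]
      group
    obtain ⟨m, hm⟩ := hoddC y hyC
    have hsys : s * y * s = y⁻¹ := by
      rw [hy, show s * (x⁻¹ * s * x * s) * s = s * x⁻¹ * s * x * (s * s) by group, hs, mul_one,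
        show (x⁻¹ * s * x * s)⁻¹ = s⁻¹ * x⁻¹ * s⁻¹ * x by group, hsi]
    set w := y ^ (m + 1) with hw
    have hww : w * w = y := by
      rw [hw, ← pow_add, show m + 1 + (m + 1) = orderOf y + 1 by omega, pow_succ,
        pow_orderOf_eq_one, one_mul]
    have hsw : s * w * s = w⁻¹ := by
      rw [hw, show s * y ^ (m + 1) * s = (s * y * s⁻¹) ^ (m + 1) by rw [conj_pow, hsi],
        hsi, hsys, inv_pow]
    have hwC : w ∈ C := C.pow_mem hyC _
    have hws : w * s * w⁻¹ = x⁻¹ * s * x := by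
      rw [← hsw, show w * s * (s * w * s) = w * (s * s) * w * s by group, hs, mul_one, hww, hy,
        show x⁻¹ * s * x * s * s = x⁻¹ * s * x * (s * s) by group, hs, mul_one]
    have hh : x * w ∈ Subgroup.centralizer ({s} : Set G) := by
      rw [Subgroup.mem_centralizer_singleton_iff]
      calc x * w * s = x * (w * s * w⁻¹) * w := by group
        _ = s * (x * w) := by rw [hws]; group
    have hstab : ∀ c ∈ C, x⁻¹ * c * x ∈ C := fun c hc => Subgroup.mem_centralizer_iff.2 fun r hr => by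
      have := Subgroup.mem_centralizer_iff.1 hc _ (hx r hr)
      rw [show r * (x⁻¹ * c * x) = x⁻¹ * (x * r * x⁻¹ * c) * x by group, this]
      group
    have hn : ∀ n : ℕ, ∃ c ∈ C, (x * w) ^ n = x ^ n * c := fun n => by
      induction n with
      | zero => exact ⟨1, C.one_mem, by simp⟩
      | succ n ih =>
        obtain ⟨c, hc, he⟩ := ih
        exact ⟨x⁻¹ * c * x * w, C.mul_mem (hstab c hc) hwC,
          by rw [pow_succ, he, pow_succ]; group⟩
    obtain ⟨c, hc, he⟩ := hn (Nat.card (Subgroup.centralizer ({s} : Set G)))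
    have h1 : (x * w) ^ Nat.card (Subgroup.centralizer ({s} : Set G)) = 1 :=
      congrArg Subtype.val (pow_card_eq_one' (x := (⟨x * w, hh⟩ : Subgroup.centralizer ({s} : Set G))))
    rw [eq_mul_inv_of_mul_eq (he.symm.trans h1), one_mul]
    exact C.inv_mem hc
  by_contra hne
  have hlt : R < (Q : Subgroup G) := lt_of_le_of_ne hQ hne
  haveI : Fintype G := Fintype.ofFinite G
  haveI := Q.isPGroup'.isNilpotent
  have hR' : R.subgroupOf (Q : Subgroup G) < ⊤ := lt_top_iff_ne_top.2 fun h =>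
    hne (le_antisymm hQ (Subgroup.subgroupOf_eq_top.1 h))
  obtain ⟨q, hqN, hqR⟩ := SetLike.exists_of_lt (Group.normalizerCondition_of_isNilpotent _ hR')
  have hxR : ∀ r ∈ R, (q : G) * r * (q : G)⁻¹ ∈ R := fun r hr =>
    (Subgroup.mem_normalizer_iff.1 hqN ⟨r, hQ hr⟩).1 hr
  have hqC : (q : G) ∈ C := by
    obtain ⟨j, hj⟩ := Q.isPGroup' q
    have hcop : Nat.Coprime (Nat.card (Subgroup.centralizer ({s} : Set G))) (p ^ j) :=
      Nat.Coprime.pow_right _ ((Nat.coprime_comm.1 ((Nat.Prime.coprime_iff_not_dvd hp.out).2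
        (cent_inv_pprime h2p hp2 hs hs1))))
    obtain ⟨a, b, hab⟩ := Nat.isCoprime_iff_coprime.2 hcop
    have : (q : G) = ((q : G) ^ Nat.card (Subgroup.centralizer ({s} : Set G))) ^ a *
        ((q : G) ^ (p ^ j)) ^ b := by
      rw [← zpow_natCast, ← zpow_mul, ← zpow_natCast (q : G) (p ^ j), ← zpow_mul, ← zpow_add,
        mul_comm _ a, mul_comm _ b]
      push_cast at hab
      push_cast
      rw [hab, zpow_one]
    rw [this, show (q : G) ^ (p ^ j) = 1 from congrArg Subtype.val hj, one_zpow, mul_one]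
    exact C.zpow_mem (hpow _ hxR) a
  -- a Sylow subgroup of `C` normalized by `s`
  have hsC : ∀ c ∈ C, s * c * s ∈ C := fun c hc => Subgroup.mem_centralizer_iff.2 fun r hr => by
    have := Subgroup.mem_centralizer_iff.1 hc _ (R.inv_mem hr)
    have hr' : s * r⁻¹ * s = r := by rw [hRi _ (R.inv_mem hr), inv_inv]
    calc r * (s * c * s) = s * r⁻¹ * s * (s * c * s) := by rw [hr']
      _ = s * r⁻¹ * (s * s) * c * s := by group
      _ = s * (r⁻¹ * c) * s := by rw [hs]; group
      _ = s * (c * r⁻¹) * s := by rw [this]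
      _ = s * c * (s * s) * r⁻¹ * s := by rw [hs]; group
      _ = s * c * s * (s * r⁻¹ * s) := by group
      _ = s * c * s * r := by rw [hr']
  obtain ⟨L, hLp, hLs, hLC, hRL, hqL⟩ : ∃ L : Subgroup G, IsPGroup p L ∧
      (∀ a ∈ L, s * a * s ∈ L) ∧ L ≤ C ∧ R ≤ L ∧ Nat.card R < Nat.card L := by
    exact exists_bigger hs hsC hRp hRC (fun c hc r hr => Subgroup.mem_centralizer_iff.1 hc r hr) hoddC
      (hzp (Q : Subgroup G) Q.isPGroup' _ q.2) hqC hqR
  have hLi : ∀ a ∈ L, s * a * s = a⁻¹ := by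
    intro a ha
    let f : L →* L :=
      { toFun := fun b => ⟨s * b * s, hLs b b.2⟩
        map_one' := Subtype.ext (by simp [hs])
        map_mul' := fun b c => Subtype.ext (by
          show s * (b * c : G) * s = s * b * s * (s * c * s)
          rw [show s * (b : G) * s * (s * c * s) = s * b * (s * s) * c * s by group, hs]; group) }
    have hf : MonoidHom.FixedPointFree f := by
      intro b hb
      refine Subtype.ext (commute_inv_trivial h2p hp2 hs hs1 ?_ (hzp L hLp _ b.2))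
      have h : s * (b : G) * s = b := congrArg Subtype.val hb
      show (b : G) * s = s * b
      conv_lhs => rw [← h]
      rw [mul_assoc, hs, mul_one]
    have hinv : Function.Involutive f := fun b => Subtype.ext (by
      show s * (s * (b : G) * s) * s = b
      rw [show s * (s * (b : G) * s) * s = (s * s) * b * (s * s) by group, hs, one_mul, mul_one])
    exact congrArg Subtype.val (congrFun (hf.coe_eq_inv_of_involutive hinv) ⟨a, ha⟩)
  have := hmax ⟨hLp, fun h => hR1 (le_bot_iff.1 (h ▸ hRL)), hLi⟩ hRL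
  have := Nat.card_le_card_of_injective _ (Subgroup.inclusion_injective this)
  omega


/-- Let p be an odd prime and G a finite group of even order containing no element of order 2p. Then either G has an irreducible character of p-defect zero (its degree has the same p-part as the order of G), or every Sylow p-subgroup of G is abelian and all involutions of G are conjugate. -/
theorem result {G : Type*} [Group G] [Finite G] (p : ℕ) [Fact p.Prime] (hp2 : p ≠ 2) (hG : Even (Nat.card G)) (h2p : ∀ g : G, orderOf g ≠ 2 * p) : (∃ χ : Cfsg.IrrCharacter G, (Cfsg.charDegree (χ : G → ℂ)).factorization p = (Nat.card G).factorization p) ∨ ((∀ P : Sylow p G, IsMulCommutative ↥(P : Subgroup G)) ∧ ∀ s t : G, orderOf s = 2 → orderOf t = 2 → IsConj s t) := by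
  classical
  haveI := Fintype.ofFinite G
  by_cases hdz : ∃ χ : Cfsg.IrrCharacter G, (Cfsg.charDegree (χ : G → ℂ)).factorization p = (Nat.card G).factorization p
  · exact Or.inl hdz
  push Not at hdz
  refine Or.inr ?_
  obtain ⟨M, hM⟩ := exists_pModular (Fact.out : p.Prime)
  have hdz' : ∀ χ : Cfsg.IrrCharacter G, ¬ IsDefZero p χ := hdz
  -- the centralizer of an involution has order prime to p
  have hcinv : ∀ s z : G, s * s = 1 → s ≠ 1 → Commute z s → (∃ j, orderOf z = p ^ j) → z = 1 :=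
    fun s z hs hs1 hc hz => commute_inv_trivial h2p hp2 hs hs1 hc hz
  -- every involution inverts a nontrivial p-element
  have hex : ∀ s : G, s * s = 1 → s ≠ 1 →
      ∃ R : Subgroup G, IsPGroup p R ∧ R ≠ ⊥ ∧ ∀ r ∈ R, s * r * s = r⁻¹ :=
    fun s hs hs1 => exists_inverted hM hdz' (cent_inv_pprime h2p hp2 hs hs1) hs
  have hsyl : ∀ s : G, s * s = 1 → s ≠ 1 →
      ∃ Q : Sylow p G, (Q : Subgroup G) ≠ ⊥ ∧ ∀ r ∈ (Q : Subgroup G), s * r * s = r⁻¹ :=
    fun s hs hs1 => sylow_inverted h2p hp2 hs hs1 (hex s hs hs1)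
  refine ⟨fun P => ?_, fun s t hs ht => ?_⟩
  · haveI : Fact (Nat.Prime 2) := ⟨Nat.prime_two⟩
    obtain ⟨s, hs⟩ := exists_prime_orderOf_dvd_card' (G := G) 2 hG.two_dvd
    obtain ⟨hs1, hs2⟩ := inv_of_order_two hs
    obtain ⟨Q, -, hQ⟩ := hsyl s hs2 hs1
    refine ⟨⟨fun a b => ?_⟩⟩
    obtain ⟨g, hg⟩ := MulAction.exists_smul_eq G Q P
    have hP : ∀ a : G, a ∈ (P : Subgroup G) → ∃ q ∈ (Q : Subgroup G), g * q * g⁻¹ = a := by
      intro a ha
      rw [← hg, Sylow.coe_subgroup_smul] at ha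
      exact ha
    obtain ⟨u, hu, hua⟩ := hP a a.2
    obtain ⟨v, hv, hvb⟩ := hP b b.2
    have huv : u * v = v * u := comm_of_inverted hs2 hQ hu hv
    refine Subtype.ext ?_
    show (a : G) * b = b * a
    rw [← hua, ← hvb, show g * u * g⁻¹ * (g * v * g⁻¹) = g * (u * v) * g⁻¹ by group, huv]
    group
  · obtain ⟨hs1, hs2⟩ := inv_of_order_two hs
    obtain ⟨ht1, ht2⟩ := inv_of_order_two ht
    obtain ⟨Q, hQ1, hQ⟩ := hsyl s hs2 hs1
    obtain ⟨R, -, hR⟩ := hsyl t ht2 ht1
    obtain ⟨g, hg⟩ := MulAction.exists_smul_eq G R Q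
    obtain ⟨⟨z, hzQ⟩, hz0⟩ := Subgroup.ne_bot_iff_exists_ne_one.1 hQ1
    have hz1 : z ≠ 1 := fun e => hz0 (Subtype.ext e)
    have hz' := hzQ
    rw [← hg, Sylow.coe_subgroup_smul] at hz'
    obtain ⟨r, hr, hrz⟩ := hz'
    have hrz' : g * r * g⁻¹ = z := hrz
    have ht' : (g * t * g⁻¹) * z * (g * t * g⁻¹) = z⁻¹ := by
      rw [← hrz', show g * t * g⁻¹ * (g * r * g⁻¹) * (g * t * g⁻¹) = g * (t * r * t) * g⁻¹ by group,
        hR r hr]
      group
    have ht2' : (g * t * g⁻¹) * (g * t * g⁻¹) = 1 := by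
      rw [show g * t * g⁻¹ * (g * t * g⁻¹) = g * (t * t) * g⁻¹ by group, ht2, mul_one, mul_inv_cancel]
    have hzp : ∃ j, orderOf z = p ^ j := by
      obtain ⟨j, hj⟩ := Q.isPGroup' ⟨z, hzQ⟩
      exact ((Nat.dvd_prime_pow (Fact.out : p.Prime)).1 (orderOf_dvd_iff_pow_eq_one.2
        (congrArg Subtype.val hj))).imp fun _ h => h.2
    refine (isConj_of_odd_product hs2 ht2' ?_).trans (isConj_iff.2 ⟨g, rfl⟩).symm
    refine odd_of_commute h2p hp2 hz1 hzp ?_
    show g * t * g⁻¹ * s * z = z * (g * t * g⁻¹ * s)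
    calc g * t * g⁻¹ * s * z = g * t * g⁻¹ * (s * z * s) * s := by
          rw [show g * t * g⁻¹ * (s * z * s) * s = g * t * g⁻¹ * s * z * (s * s) by group, hs2, mul_one]
      _ = g * t * g⁻¹ * (g * t * g⁻¹ * z * (g * t * g⁻¹)) * s := by rw [hQ z hzQ, ht']
      _ = (g * t * g⁻¹) * (g * t * g⁻¹) * z * (g * t * g⁻¹) * s := by group
      _ = _ := by rw [ht2', one_mul, mul_assoc]

end Cfsg.Agent.S4738
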