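import Cfsg.Statements.S2904
import Mathlib

set_option autoImplicit false
set_option linter.unusedVariables false
open Cfsg
open scoped commutatorElement

namespace Cfsg.Agent.S2904

open Polynomial

/-- `Φ_n(a)` as a natural number. -/
noncomputable def phiVal (n a : ℕ) : ℕ := ((cyclotomic n ℤ).eval (a : ℤ)).natAbs

theorem zmod_root {n a r : ℕ} (h : r ∣ phiVal n a) : (cyclotomic n (ZMod r)).IsRoot (a : ZMod r) := by
  have h1 : (r : ℤ) ∣ (cyclotomic n ℤ).eval (a : ℤ) := by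
    rw [Int.natCast_dvd]; exact h
  rw [IsRoot.def, show (a : ZMod r) = Int.castRingHom (ZMod r) (a : ℤ) by simp, cyclotomic.eval_apply]
  exact (ZMod.intCast_zmod_eq_zero_iff_dvd _ r).mpr h1

theorem primitive_of_root {n a r : ℕ} (hr : r.Prime) (hn : 0 < n) (h : r ∣ phiVal n a) (hrn : ¬ r ∣ n) :
    IsPrimitiveRoot (a : ZMod r) n := by
  haveI := Fact.mk hr
  haveI : NeZero ((n : ZMod r)) := ⟨fun e => hrn ((ZMod.natCast_eq_zero_iff n r).mp e)⟩
  exact isRoot_cyclotomic_iff.mp (zmod_root h)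

theorem order_of_root {n a r i d : ℕ} (hr : r.Prime) (hd : n = r ^ i * d) (hi : 0 < i) (hrd : ¬ r ∣ d) (h : r ∣ phiVal n a) :
    IsPrimitiveRoot (a : ZMod r) d ∧ d ∣ r - 1 := by
  haveI := Fact.mk hr
  haveI : NeZero ((d : ZMod r)) := ⟨fun e => hrd ((ZMod.natCast_eq_zero_iff d r).mp e)⟩
  have h1 := zmod_root h
  rw [hd, cyclotomic_mul_prime_pow_eq (ZMod r) hrd hi, IsRoot.def, eval_pow] at h1
  have h2 := isRoot_cyclotomic_iff.mp (eq_zero_of_pow_eq_zero h1 : (cyclotomic d (ZMod r)).eval (a : ZMod r) = 0)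
  refine ⟨h2, ?_⟩
  have hd0 : d ≠ 0 := fun e => hrd (e ▸ dvd_zero r)
  have ha : (a : ZMod r) ≠ 0 := fun e => by
    have := h2.pow_eq_one
    rw [e, zero_pow hd0] at this
    exact zero_ne_one this
  exact h2.dvd_of_pow_eq_one _ (ZMod.pow_card_sub_one_eq_one ha)

theorem geom_mod (r : ℕ) (t : ℤ) : ∀ k : ℕ, ((r : ℤ) ^ 2) ∣ (∑ j ∈ Finset.range k, (1 + r * t) ^ j) - (k + r * t * (k.choose 2)) := by
  have hpow : ∀ j : ℕ, ((r : ℤ) ^ 2) ∣ (1 + r * t) ^ j - (1 + j * (r * t)) := by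
    intro j
    induction j with
    | zero => simp
    | succ j ih =>
      have : (1 + (r : ℤ) * t) ^ (j + 1) - (1 + ((j + 1 : ℕ) : ℤ) * (r * t)) =
          (1 + r * t) * ((1 + r * t) ^ j - (1 + j * (r * t))) + (r : ℤ) ^ 2 * (j * t ^ 2) := by push_cast; ring
      rw [this]
      exact dvd_add (ih.mul_left _) (dvd_mul_right _ _)
  intro k
  induction k with
  | zero => simp
  | succ k ih =>
    rw [Finset.sum_range_succ, Nat.choose_succ_succ, Nat.choose_one_right]
    have : (∑ j ∈ Finset.range k, (1 + (r : ℤ) * t) ^ j) + (1 + r * t) ^ k - (((k + 1 : ℕ) : ℤ) + r * t * ((k + k.choose 2 : ℕ) : ℤ)) =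
        ((∑ j ∈ Finset.range k, (1 + (r : ℤ) * t) ^ j) - (k + r * t * (k.choose 2))) + ((1 + r * t) ^ k - (1 + k * (r * t))) := by
      push_cast; ring
    rw [this]
    exact dvd_add ih (hpow k)

theorem not_sq_dvd {n a r : ℕ} (ha : 1 < a) (hn : 3 ≤ n) (hr : r.Prime) (hrn : r ∣ n) (h : r ∣ phiVal n a) :
    ¬ r ^ 2 ∣ phiVal n a := by
  intro h2
  haveI := Fact.mk hr
  obtain ⟨i, d, hrd, hd⟩ := Nat.exists_eq_pow_mul_and_not_dvd (by omega : n ≠ 0) r hr.ne_one
  have hi : 0 < i := by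
    by_contra h0
    rw [Nat.eq_zero_of_not_pos h0, pow_zero, one_mul] at hd
    exact hrd (hd ▸ hrn)
  obtain ⟨hord, -⟩ := order_of_root hr hd hi hrd h
  obtain ⟨m, hm⟩ := hrn
  have hm0 : 0 < m := Nat.pos_of_ne_zero fun e => by simp [e] at hm; omega
  have hdm : d ∣ m := by
    obtain ⟨j, rfl⟩ := Nat.exists_eq_succ_of_ne_zero hi.ne'
    refine ⟨r ^ j, Nat.eq_of_mul_eq_mul_left hr.pos ?_⟩
    rw [← hm, hd, pow_succ]; ring
  have hdvd := X_pow_sub_one_mul_cyclotomic_dvd_X_pow_sub_one_of_dvd ℤ (d := m) (n := n)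
    (Nat.mem_properDivisors.mpr ⟨⟨r, by rw [hm, mul_comm]⟩, by rw [hm]; exact lt_mul_of_one_lt_left hm0 hr.one_lt⟩)
  have h3 := eval_dvd (x := (a : ℤ)) hdvd
  rw [eval_mul, eval_sub, eval_sub, eval_pow, eval_pow, eval_X, eval_one, hm, mul_comm r m, pow_mul, ← geom_sum_mul ((a : ℤ) ^ m) r] at h3
  have hb : (a : ℤ) ^ m - 1 ≠ 0 := sub_ne_zero.mpr (by exact_mod_cast (Nat.one_lt_pow hm0.ne' ha).ne')
  have h4 := (mul_dvd_mul_iff_left hb).mp (h3.trans (mul_comm _ _).dvd)
  have h5 : (r : ℤ) ^ 2 ∣ ∑ j ∈ Finset.range r, ((a : ℤ) ^ m) ^ j := by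
    rw [mul_comm m r, ← hm] at h4
    refine dvd_trans ?_ h4
    have := Int.natCast_dvd.mpr h2
    exact_mod_cast this
  have hb1 : (r : ℤ) ∣ (a : ℤ) ^ m - 1 := by
    rw [← ZMod.intCast_zmod_eq_zero_iff_dvd]
    push_cast
    obtain ⟨e, rfl⟩ := hdm
    rw [pow_mul, hord.pow_eq_one, one_pow, sub_self]
  obtain ⟨t, ht⟩ := hb1
  rcases hr.eq_two_or_odd' with rfl | hodd
  · -- r = 2
    have hev : Even m := by
      rw [even_iff_two_dvd]
      have hd1 : d = 1 := Nat.dvd_one.mp (order_of_root hr hd hi hrd h).2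
      subst hd1
      rw [mul_one] at hd
      obtain ⟨j, rfl⟩ := Nat.exists_eq_succ_of_ne_zero hi.ne'
      rcases j with _ | j
      · simp at hd; omega
      · exact ⟨2 ^ j, Nat.eq_of_mul_eq_mul_left two_pos (by rw [← hm, hd, pow_succ, pow_succ]; ring)⟩
    obtain ⟨k, rfl⟩ := hev
    rw [Finset.sum_range_succ, Finset.sum_range_succ, Finset.sum_range_zero, zero_add, pow_zero, pow_one] at h5
    have hodd : ¬ (2 : ℤ) ∣ (a : ℤ) ^ k := by
      intro h'
      have h'' : (2 : ℤ) ∣ (a : ℤ) ^ (k + k) := by rw [pow_add]; exact h'.mul_right _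
      push_cast at ht
      omega
    obtain ⟨u, hu⟩ : ∃ u : ℤ, (a : ℤ) ^ k = 2 * u + 1 := ⟨(a : ℤ) ^ k / 2, by omega⟩
    rw [pow_add, hu, show (1 : ℤ) + (2 * u + 1) * (2 * u + 1) = 4 * (u * u + u) + 2 by ring] at h5
    norm_num at h5
  · have h6 := geom_mod r t r
    rw [← ht, add_sub_cancel] at h6
    obtain ⟨c, hc⟩ : r ∣ r.choose 2 := hr.dvd_choose_self (by norm_num) (by
      have := hr.two_le; have := Nat.odd_iff.mp hodd; omega)
    have h7 : (r : ℤ) ^ 2 ∣ (r : ℤ) + r * t * (r.choose 2) := by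
      have := dvd_sub h5 h6
      rw [← ht]
      simpa [ht] using this
    rw [hc, Nat.cast_mul, show (r : ℤ) * t * (r * c) = (r : ℤ) ^ 2 * (t * c) by ring, dvd_add_left (dvd_mul_right _ _)] at h7
    have h8 : r ^ 2 ∣ r := by exact_mod_cast h7
    have := Nat.le_of_dvd hr.pos h8
    nlinarith [hr.two_le]

theorem two_pow_gt (m : ℕ) (hm : 5 ≤ m) : 3 * m + 1 < 2 ^ m := by
  induction m, hm using Nat.le_induction with
  | base => norm_num
  | succ m hm ih => rw [pow_succ]; omega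

theorem not_prime_value {n a r : ℕ} (ha : 1 < a) (hn : 3 ≤ n) (h6 : ¬ (a = 2 ∧ n = 6)) (hr : r.Prime) (hrn : r ∣ n)
    (h : phiVal n a = r) : False := by
  obtain ⟨i, d, hrd, hd⟩ := Nat.exists_eq_pow_mul_and_not_dvd (by omega : n ≠ 0) r hr.ne_one
  have hi : 0 < i := by
    by_contra h0
    rw [Nat.eq_zero_of_not_pos h0, pow_zero, one_mul] at hd
    exact hrd (hd ▸ hrn)
  haveI := Fact.mk hr
  obtain ⟨hord, hdr⟩ := order_of_root hr hd hi hrd h.symm.dvd
  have hφ : r - 1 ≤ n.totient := by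
    refine Nat.le_of_dvd (Nat.totient_pos.mpr (by omega)) ?_
    rw [← Nat.totient_prime hr]
    exact Nat.totient_dvd_of_dvd hrn
  rcases Nat.lt_or_ge 2 a with ha3 | ha3
  · have h1 := sub_one_pow_totient_lt_natAbs_cyclotomic_eval (n := n) (q := a) (by omega) (by omega)
    rw [show ((cyclotomic n ℤ).eval (a : ℤ)).natAbs = r from h] at h1
    have h2 : 2 ^ (r - 1) ≤ (a - 1) ^ n.totient :=
      (Nat.pow_le_pow_right (by norm_num) hφ).trans (Nat.pow_le_pow_left (by omega) _)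
    have h3 := Nat.lt_two_pow_self (n := r - 1)
    omega
  · obtain rfl : a = 2 := by omega
    obtain ⟨j, rfl⟩ := Nat.exists_eq_succ_of_ne_zero hi.ne'
    rcases j with _ | j
    · -- r exactly divides n
      rw [pow_one] at hd
      have hmul := congrArg (eval (2 : ℤ)) (cyclotomic_expand_eq_cyclotomic_mul hr hrd ℤ)
      rw [expand_eval, eval_mul, mul_comm d r, ← hd] at hmul
      have habs := congrArg Int.natAbs hmul
      rw [Int.natAbs_mul, show ((cyclotomic n ℤ).eval (2 : ℤ)).natAbs = r from h] at habs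
      have hd0 : 0 < d := Nat.pos_of_ne_zero fun e => hrd (e ▸ dvd_zero r)
      -- bounds
      have hlow : ((2 ^ r - 1) ^ d.totient : ℕ) ≤ ((cyclotomic d ℤ).eval ((2 : ℤ) ^ r)).natAbs := by
        rcases Nat.lt_or_ge 1 d with h1 | h1
        · have := sub_one_pow_totient_lt_natAbs_cyclotomic_eval (n := d) (q := 2 ^ r) h1 (Nat.one_lt_two_pow hr.ne_zero).ne'
          push_cast at this
          exact this.le
        · obtain rfl : d = 1 := by omega
          have h2 : (1 : ℕ) ≤ 2 ^ r := Nat.one_le_two_pow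
          rw [cyclotomic_one, eval_sub, eval_X, eval_one, Nat.totient_one, pow_one,
            show ((2 : ℤ) ^ r - 1) = ((2 ^ r - 1 : ℕ) : ℤ) by push_cast [h2]; ring, Int.natAbs_natCast]
      have hup : ((cyclotomic d ℤ).eval (2 : ℤ)).natAbs ≤ 3 ^ d.totient := by
        have h2 := cyclotomic_eval_le_add_one_pow_totient (q := (2 : ℝ)) (by norm_num) d
        have h3 := cyclotomic_nonneg d (R := ℤ) (x := 2) (by norm_num)
        rw [show ((2 : ℝ)) = Int.castRingHom ℝ 2 by simp, cyclotomic.eval_apply] at h2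
        simp only [eq_intCast, Int.cast_ofNat] at h2
        norm_num at h2
        have h4 : (cyclotomic d ℤ).eval 2 ≤ 3 ^ d.totient := by exact_mod_cast h2
        zify
        rw [abs_of_nonneg h3]
        exact h4
      have hmain : (2 ^ r - 1) ^ d.totient ≤ r * 3 ^ d.totient := hlow.trans (habs.le.trans (Nat.mul_le_mul_left r hup))
      rcases Nat.lt_or_ge r 5 with hr5 | hr5
      · have hr2 : r = 2 ∨ r = 3 := by
          have := hr.two_le
          rcases (by omega : r = 2 ∨ r = 3 ∨ r = 4) with h' | h' | h'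
          · exact Or.inl h'
          · exact Or.inr h'
          · subst h'; exact absurd hr (by norm_num)
        rcases hr2 with rfl | rfl
        · have hd1 : d = 1 := Nat.dvd_one.mp hdr
          omega
        · have hd2 : d ∣ 2 := hdr
          rcases (Nat.dvd_prime Nat.prime_two).mp hd2 with rfl | rfl
          · have : n = 3 := by omega
            subst this
            rw [phiVal, cyclotomic_three] at h
            norm_num at h
          · exact h6 ⟨rfl, by omega⟩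
      · have hlt : 3 * r < 2 ^ r - 1 := by
          have := two_pow_gt r hr5; omega
        have h9 : r * 3 ^ d.totient ≤ (3 * r) ^ d.totient := by
          rw [mul_pow, mul_comm]
          exact Nat.mul_le_mul_left _ (Nat.le_self_pow (Nat.totient_pos.mpr hd0).ne' r)
        have h10 : (3 * r) ^ d.totient < (2 ^ r - 1) ^ d.totient := Nat.pow_lt_pow_left hlt (Nat.totient_pos.mpr hd0).ne'
        omega
    · -- a higher power of r divides n
      set m := r ^ (j + 1) * d with hm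
      have hnm : n = m * r := by rw [hd, hm, Nat.succ_eq_add_one]; ring
      have hrm : r ∣ m := (dvd_pow_self r (Nat.succ_ne_zero j)).mul_right d
      have hmul := congrArg (eval (2 : ℤ)) (cyclotomic_expand_eq_cyclotomic hr hrm ℤ)
      rw [expand_eval, ← hnm] at hmul
      have hm1 : 1 < m := lt_of_lt_of_le hr.one_lt (Nat.le_of_dvd (Nat.pos_of_ne_zero fun e => by
        rw [e, zero_mul] at hnm; omega) hrm)
      have h1 := sub_one_pow_totient_lt_natAbs_cyclotomic_eval (n := m) (q := 2 ^ r) hm1 (Nat.one_lt_two_pow hr.ne_zero).ne'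
      push_cast at h1
      rw [hmul, show ((cyclotomic n ℤ).eval (2 : ℤ)).natAbs = r from h] at h1
      have hφm : r - 1 ≤ m.totient := by
        refine Nat.le_of_dvd (Nat.totient_pos.mpr (by omega)) ?_
        rw [← Nat.totient_prime hr]
        exact Nat.totient_dvd_of_dvd hrm
      have h4 : 4 ≤ 2 ^ r := by
        calc 4 = 2 ^ 2 := by norm_num
          _ ≤ 2 ^ r := Nat.pow_le_pow_right (by norm_num) hr.two_le
      have h2 : 2 ^ (r - 1) ≤ (2 ^ r - 1) ^ m.totient :=
        (Nat.pow_le_pow_right (by norm_num) hφm).trans (Nat.pow_le_pow_left (by omega) _)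
      have h3 := Nat.lt_two_pow_self (n := r - 1)
      omega

/-- Zsigmondy's Theorem: for natural numbers a > 1 and n > 1 there is a prime dividing aⁿ − 1 that divides aᵏ − 1 for no natural number 0 < k < n, unless a = 2 and n = 6, or n = 2 and a + 1 is a power of two. -/
theorem result (a n : ℕ) (ha : 1 < a) (hn : 1 < n) (h6 : ¬ (a = 2 ∧ n = 6)) (h2 : ¬ (n = 2 ∧ ∃ m : ℕ, a + 1 = 2 ^ m)) : ∃ r : ℕ, r.Prime ∧ r ∣ a ^ n - 1 ∧ ∀ k : ℕ, 0 < k → k < n → ¬ r ∣ a ^ k - 1 := by
  rcases Nat.lt_or_ge 2 n with hn3 | hn3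
  swap
  · obtain rfl : n = 2 := by omega
    by_contra hcon
    push Not at hcon
    apply h2
    refine ⟨rfl, (Nat.eq_two_pow_or_exists_odd_prime_and_dvd (a + 1)).elim id fun ⟨r, hr, hrd, hodd⟩ => ?_⟩
    obtain ⟨k, hk0, hk2, hk⟩ := hcon r hr (by
      refine hrd.trans ⟨a - 1, ?_⟩
      have := Nat.sq_sub_sq a 1; rw [one_pow] at this; exact this)
    obtain rfl : k = 1 := by omega
    rw [pow_one] at hk
    exfalso
    have h22 : r ∣ (a + 1) - (a - 1) := Nat.dvd_sub hrd hk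
    rw [show a + 1 - (a - 1) = 2 by omega] at h22
    have := (Nat.prime_dvd_prime_iff_eq hr Nat.prime_two).mp h22
    rw [this] at hodd
    exact absurd hodd (by decide)
  by_contra hcon
  push Not at hcon
  have hdiv : ∀ r : ℕ, r.Prime → r ∣ phiVal n a → r ∣ n := by
    intro r hr hrv
    by_contra hrn
    haveI := Fact.mk hr
    have hp := primitive_of_root hr (by omega) hrv hrn
    have hdvd : r ∣ a ^ n - 1 := by
      rw [← ZMod.natCast_eq_zero_iff, Nat.cast_sub (Nat.one_le_pow _ _ (by omega)), Nat.cast_pow, Nat.cast_one, hp.pow_eq_one, sub_self]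
    obtain ⟨k, hk0, hkn, hk⟩ := hcon r hr hdvd
    rw [← ZMod.natCast_eq_zero_iff, Nat.cast_sub (Nat.one_le_pow _ _ (by omega)), Nat.cast_pow, Nat.cast_one, sub_eq_zero] at hk
    exact absurd (Nat.le_of_dvd hk0 (hp.dvd_of_pow_eq_one _ hk)) (by omega)
  have hbig : ∀ r s : ℕ, r.Prime → s.Prime → r ∣ phiVal n a → s ∣ n → s ≤ r := by
    intro r s hr hs hrv hsn
    obtain ⟨i, d, hrd, hd⟩ := Nat.exists_eq_pow_mul_and_not_dvd (by omega : n ≠ 0) r hr.ne_one
    have hi : 0 < i := by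
      by_contra h0
      rw [Nat.eq_zero_of_not_pos h0, pow_zero, one_mul] at hd
      exact hrd (hd ▸ hdiv r hr hrv)
    obtain ⟨-, hdr⟩ := order_of_root hr hd hi hrd hrv
    rcases hs.dvd_mul.mp (hd ▸ hsn) with h' | h'
    · exact ((Nat.prime_dvd_prime_iff_eq hs hr).mp (hs.dvd_of_dvd_pow h')).le
    · have := Nat.le_of_dvd (by have := hr.two_le; omega) (h'.trans hdr)
      omega
  have hgt : 1 < phiVal n a := lt_of_le_of_lt (by omega) (sub_one_lt_natAbs_cyclotomic_eval (n := n) (q := a) (by omega) (by omega))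
  set r := (phiVal n a).minFac
  have hr : r.Prime := Nat.minFac_prime (by omega)
  have hrv : r ∣ phiVal n a := Nat.minFac_dvd _
  obtain ⟨c, hc⟩ := hrv
  rcases eq_or_ne c 1 with rfl | hc1
  · exact not_prime_value ha hn3 h6 hr (hdiv r hr ⟨_, hc⟩) (by rw [hc, mul_one])
  · obtain ⟨s, hs, hsc⟩ := Nat.exists_prime_and_dvd hc1
    have hsv : s ∣ phiVal n a := hc ▸ hsc.mul_left r
    have hsr : s = r := le_antisymm (hbig r s hr hs ⟨c, hc⟩ (hdiv s hs hsv)) (hbig s r hs hr hsv (hdiv r hr ⟨c, hc⟩))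
    exact not_sq_dvd ha hn3 hr (hdiv r hr ⟨c, hc⟩) ⟨c, hc⟩ (by rw [hc, pow_two]; exact mul_dvd_mul_left r (hsr ▸ hsc))

end Cfsg.Agent.S2904
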