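import Cfsg.Statements.S0514
import Cfsg.Agent.Lib.DihedralTransfer
import Mathlib.GroupTheory.Complement
-- import your own Cfsg.Agent.* helpers here

set_option autoImplicit false
open Cfsg

namespace Cfsg.Agent.S0514

/-- In a finite group whose Sylow 2-subgroups are dihedral of order at least 4, the centralizer of any involution has a
normal subgroup of odd order whose index in the centralizer is a power of 2. -/
theorem result {X : Type*} [Group X] [Finite X]
    (S : Sylow 2 X) (n : ℕ) (hn : 2 ≤ n) (hS : Nonempty ((S : Subgroup X) ≃* DihedralGroup n)) (t : X)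
    (ht : orderOf t = 2) :
    ∃ N : Subgroup (Subgroup.centralizer ({t} : Set X)), N.Normal ∧ Odd (Nat.card N) ∧ ∃ k : ℕ, N.index = 2 ^ k := by
  classical
  haveI : Fact (Nat.Prime 2) := ⟨Nat.prime_two⟩
  obtain ⟨eS⟩ := hS
  set C := Subgroup.centralizer ({t} : Set X) with hC
  obtain ⟨T⟩ := (inferInstance : Nonempty (Sylow 2 C))
  suffices hcomp : Cfsg.HasNormalPComplement 2 C by
    obtain ⟨P, N, hN, hc⟩ := hcomp
    refine ⟨N, hN, ?_, ?_⟩
    · rw [← hc.index_eq_card]
      exact Nat.not_even_iff_odd.1 (fun h => P.not_dvd_index (even_iff_two_dvd.1 h))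
    · obtain ⟨k, hk⟩ := P.2.exists_card_eq
      exact ⟨k, hc.symm.index_eq_card.trans hk⟩
  refine Cfsg.FusionSystem.hasNormalPComplement_of_centralizes T fun Q hQ g hg hgp => ?_
  have hodd : Odd (orderOf g) := Nat.coprime_two_right.mp hgp
  obtain ⟨S', hS'⟩ := (T.2.map C.subtype).exists_le_sylow
  obtain ⟨x, rfl⟩ := MulAction.exists_smul_eq X S S'
  set eS' : ((x • S : Sylow 2 X) : Subgroup X) ≃* DihedralGroup n := (Sylow.equiv (x • S) S).trans eS with heS'
  set U := Q.map C.subtype with hUdef
  have hUS : U ≤ ((x • S : Sylow 2 X) : Subgroup X) := (Subgroup.map_mono hQ).trans hS'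
  have hgU : (g : X) ∈ Subgroup.normalizer (U : Set X) :=
    Subgroup.le_normalizer_map C.subtype ⟨g, hg, rfl⟩
  have hgord : Odd (orderOf (g : X)) := by rwa [Subgroup.orderOf_coe]
  have hgt : ∀ m : ℤ, (g : X) ^ m * t * ((g : X) ^ m)⁻¹ = t := by
    intro m
    rw [Subgroup.mem_centralizer_singleton_iff.1 (C.zpow_mem g.2 m), mul_inv_cancel_right]
  suffices hkey : ∀ u ∈ U, (g : X) * u * (g : X)⁻¹ = u by
    refine Subgroup.mem_centralizer_iff.2 fun q hq => Subtype.ext ?_
    exact (mul_inv_eq_iff_eq_mul.1 (hkey q ⟨q, hq, rfl⟩)).symm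
  by_cases hK : IsKleinFour U
  · haveI := hK
    have hsq : ∀ u ∈ U, u * u = 1 := fun u hu => congrArg Subtype.val (IsKleinFour.mul_self (⟨u, hu⟩ : U))
    by_cases htU : t ∈ U
    · -- `g` fixes `t` and permutes the two other involutions
      intro u hu
      by_cases hu1 : u = 1
      · simp [hu1]
      by_cases hut : u = t
      · rw [hut]; simpa using hgt 1
      have hsub : ∀ v ∈ U, v ≠ 1 → v ≠ t → v = u ∨ v = t * u := by
        intro v hv hv1 hvt
        haveI : Fintype U := Fintype.ofFinite U
        by_contra hno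
        push Not at hno
        have hne1 : t ≠ 1 := fun h => by rw [h, orderOf_one] at ht; omega
        have hfive : ({1, t, u, t * u, v} : Finset X).card = 5 := by
          rw [Finset.card_insert_of_notMem, Finset.card_insert_of_notMem, Finset.card_insert_of_notMem,
            Finset.card_insert_of_notMem, Finset.card_singleton]
          · simp [Ne.symm hno.2]
          · simp only [Finset.mem_insert, Finset.mem_singleton, not_or]
            exact ⟨fun h => hne1 (mul_eq_right.1 h.symm), Ne.symm hno.1⟩
          · simp only [Finset.mem_insert, Finset.mem_singleton, not_or]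
            exact ⟨Ne.symm hut, fun h => hu1 (mul_eq_left.1 h.symm), Ne.symm hvt⟩
          · simp only [Finset.mem_insert, Finset.mem_singleton, not_or]
            refine ⟨Ne.symm hne1, Ne.symm hu1, fun h => hut ?_, Ne.symm hv1⟩
            exact (eq_inv_of_mul_eq_one_right h.symm).trans (inv_eq_of_mul_eq_one_right (hsq t htU))
        have hle : ({1, t, u, t * u, v} : Finset X) ⊆ (U : Set X).toFinset := by
          intro w hw
          simp only [Finset.mem_insert, Finset.mem_singleton] at hw
          rw [Set.mem_toFinset]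
          rcases hw with rfl | rfl | rfl | rfl | rfl
          exacts [U.one_mem, htU, hu, U.mul_mem htU hu, hv]
        have h4 : (U : Set X).toFinset.card = 4 := by
          rw [← Set.ncard_eq_toFinset_card', ← Nat.card_coe_set_eq]; exact hK.card_four
        have := Finset.card_le_card hle
        omega
      have htne : ∀ w : X, w ≠ t → (g : X) * w * (g : X)⁻¹ ≠ t := by
        intro w hw h
        apply hw
        have h1 : (g : X) * w * (g : X)⁻¹ = (g : X) * t * (g : X)⁻¹ := by
          rw [h]; simpa using (hgt 1).symm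
        exact mul_left_cancel (mul_right_cancel h1)
      have h1 := (Subgroup.mem_normalizer_iff.1 hgU u).1 hu
      have hu1' : (g : X) * u * (g : X)⁻¹ ≠ 1 := fun h => hu1 (by simpa [mul_inv_eq_one] using h)
      rcases hsub _ h1 hu1' (htne u hut) with h | h
      · exact h
      exfalso
      have h2 : (g : X) ^ 2 * u * ((g : X) ^ 2)⁻¹ = u := by
        calc (g : X) ^ 2 * u * ((g : X) ^ 2)⁻¹ = (g : X) * ((g : X) * u * (g : X)⁻¹) * (g : X)⁻¹ := by
              rw [pow_two]; group
          _ = (g : X) * (t * u) * (g : X)⁻¹ := by rw [h]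
          _ = ((g : X) * t * (g : X)⁻¹) * ((g : X) * u * (g : X)⁻¹) := by group
          _ = u := by rw [h, show (g : X) * t * (g : X)⁻¹ = t by simpa using hgt 1, ← mul_assoc, hsq t htU, one_mul]
      obtain ⟨r, hr⟩ := hgord
      have h3 : ∀ i : ℕ, ((g : X) ^ 2) ^ i * u * (((g : X) ^ 2) ^ i)⁻¹ = u := by
        intro i
        induction i with
        | zero => simp
        | succ i ih =>
          calc ((g : X) ^ 2) ^ (i + 1) * u * (((g : X) ^ 2) ^ (i + 1))⁻¹
              = ((g : X) ^ 2) ^ i * ((g : X) ^ 2 * u * ((g : X) ^ 2)⁻¹) * (((g : X) ^ 2) ^ i)⁻¹ := by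
                rw [pow_succ]; group
            _ = u := by rw [h2, ih]
      have h4 := h3 (r + 1)
      rw [← pow_mul, show 2 * (r + 1) = (2 * r + 1) + 1 by ring, ← hr, pow_succ, pow_orderOf_eq_one, one_mul] at h4
      have hne1 : t ≠ 1 := fun h => by rw [h, orderOf_one] at ht; omega
      exact hne1 (mul_eq_right.1 (h.symm.trans h4))
    · -- no elementary abelian subgroup of order eight in a dihedral group
      exfalso
      obtain ⟨k, hk, -⟩ := CfsgLib.DihedralFusion.exists_pow_index (S := x • S) hn eS'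
      have hm : n = 2 * 2 ^ k := by rw [hk, pow_succ']
      obtain ⟨i, hi⟩ := CfsgLib.DihedralFusion.klein_iff hm (Nat.two_pow_pos k)
        (U := CfsgLib.DihedralFusion.toD eS' U)
        (CfsgLib.DihedralFusion.isKleinFour_of_equiv (CfsgLib.DihedralFusion.equivD eS' hUS))
      have htT : t ∈ ((x • S : Sylow 2 X) : Subgroup X) := by
        apply hS'
        have hmax : Subgroup.zpowers (⟨t, Subgroup.mem_centralizer_singleton_iff.2 rfl⟩ : C) ≤ (T : Subgroup C) := by
          have hz : IsPGroup 2 (Subgroup.zpowers (⟨t, Subgroup.mem_centralizer_singleton_iff.2 rfl⟩ : C)) :=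
            IsPGroup.of_card (n := 1) (by rw [Nat.card_zpowers, Subgroup.orderOf_mk, ht, pow_one])
          haveI : (Subgroup.zpowers (⟨t, Subgroup.mem_centralizer_singleton_iff.2 rfl⟩ : C)).Normal := by
            refine ⟨fun a ha c => ?_⟩
            obtain ⟨j, rfl⟩ := ha
            have hc : Commute c (⟨t, Subgroup.mem_centralizer_singleton_iff.2 rfl⟩ : C) :=
              Subtype.ext (Subgroup.mem_centralizer_singleton_iff.1 c.2)
            show c * _ * c⁻¹ ∈ _
            rw [(hc.zpow_right j).eq, mul_inv_cancel_right]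
            exact ⟨j, rfl⟩
          obtain ⟨T', hT'⟩ := hz.exists_le_sylow
          obtain ⟨c, rfl⟩ := MulAction.exists_smul_eq C T' T
          intro a ha
          have h1 : c⁻¹ * a * c ∈ (T' : Subgroup C) := by
            apply hT'
            simpa using Subgroup.Normal.conj_mem inferInstance a ha c⁻¹
          exact ⟨c⁻¹ * a * c, h1, show c * (c⁻¹ * a * c) * c⁻¹ = a by group⟩
        exact ⟨_, hmax (Subgroup.mem_zpowers _), rfl⟩
      set d := eS' ⟨t, htT⟩ with hd
      have hd2 : d * d = 1 := by
        rw [hd, ← map_mul, show (⟨t, htT⟩ : ((x • S : Sylow 2 X) : Subgroup X)) * ⟨t, htT⟩ = 1 from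
          Subtype.ext (show t * t = 1 by rw [← pow_two]; exact orderOf_dvd_iff_pow_eq_one.1 ht.dvd), map_one]
      have hsr : DihedralGroup.sr i ∈ CfsgLib.DihedralFusion.toD eS' U := (hi _).2 (by simp)
      obtain ⟨⟨u, huS⟩, hu, hue⟩ := hsr
      have hut : u * t = t * u := by
        obtain ⟨q, hq, rfl⟩ := (hu : u ∈ U)
        exact Subgroup.mem_centralizer_singleton_iff.1 q.2
      have hc : d * DihedralGroup.sr i = DihedralGroup.sr i * d := by
        rw [← hue, hd]
        show eS' _ * eS' _ = eS' _ * eS' _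
        rw [← map_mul, ← map_mul]
        exact congrArg eS' (Subtype.ext hut.symm)
      have hdU : d ∈ CfsgLib.DihedralFusion.toD eS' U :=
        (hi d).2 (CfsgLib.DihedralFusion.four_cases hm (Nat.two_pow_pos k) hd2 hc)
      exact htU ((CfsgLib.DihedralFusion.mem_toD eS' hUS htT).1 hdU)
  · intro u hu
    obtain ⟨j, hj⟩ := (CfsgLib.DihedralFusion.isPGroup_mulAut_of_not_klein eS' hn hUS hK) (U.normalizerMonoidHom ⟨g, hgU⟩)
    have h1 : orderOf (U.normalizerMonoidHom ⟨g, hgU⟩) ∣ orderOf (g : X) := by
      rw [← Subgroup.orderOf_mk (g : X) hgU]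
      exact orderOf_map_dvd _ _
    have h2 : U.normalizerMonoidHom ⟨g, hgU⟩ = 1 := orderOf_eq_one_iff.mp (Nat.eq_one_of_dvd_coprimes
      (Nat.Coprime.pow_right j (Nat.coprime_two_right.mpr hgord)) h1 (orderOf_dvd_of_pow_eq_one hj))
    exact congrArg (fun f : MulAut U => ((f ⟨u, hu⟩ : U) : X)) h2

end Cfsg.Agent.S0514
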