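import Cfsg.Statements.S3278
import Mathlib
import Cfsg.Agent.Lib.KleinCent.Chars
import Cfsg.Agent.Lib.KleinCent.Sylow
import Cfsg.Agent.S0991

set_option autoImplicit false
open Cfsg
open scoped Pointwise

namespace Cfsg.Agent.S3278

variable {G : Type*} [Group G] [Finite G]

theorem alt_five_of_index [IsSimpleGroup G] (hab : ¬ IsMulCommutative G) (N : Subgroup G) (hN : N ≠ ⊤)
    (h12 : 12 ≤ Nat.card N) (h60 : 60 ≤ N.index * Nat.card N ∨ N.index ≤ 4) (h5 : N.index ≤ 5) :
    Nonempty (G ≃* alternatingGroup (Fin 5)) := by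
  obtain ⟨f, hf⟩ := S0991.result hab N hN
  have hi1 : N.index ≠ 1 := fun e => hN (Subgroup.index_eq_one.mp e)
  have hi0 : N.index ≠ 0 := Subgroup.index_ne_zero_of_finite
  haveI : Nontrivial (Fin N.index) := Fin.nontrivial_iff_two_le.mpr (by omega)
  have hle := Nat.card_le_card_of_injective f hf
  have hA := two_mul_card_alternatingGroup (α := Fin N.index)
  rw [Fintype.card_perm, Fintype.card_fin, ← Nat.card_eq_fintype_card] at hA
  have hG := N.index_mul_card
  have h5' : N.index = 5 := by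
    by_contra hne
    have h4 : N.index ≤ 4 := by omega
    have hfac : N.index.factorial ≤ 24 := by
      calc N.index.factorial ≤ Nat.factorial 4 := Nat.factorial_le h4
        _ = 24 := rfl
    have : 2 ≤ N.index := by omega
    nlinarith
  let e : alternatingGroup (Fin N.index) ≃* alternatingGroup (Fin 5) :=
    Equiv.altCongrHom (finCongr h5')
  have hb : Function.Bijective (e.toMonoidHom.comp f) := by
    refine (Nat.bijective_iff_injective_and_card _).mpr ⟨e.injective.comp hf, ?_⟩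
    rw [Nat.card_congr e.symm.toEquiv]
    have hfac : N.index.factorial = 120 := by rw [h5']; rfl
    rw [hfac] at hA
    rcases h60 with h | h
    · omega
    · omega
  exact ⟨MulEquiv.ofBijective _ hb⟩

theorem q_bound (e₁ e₂ e₃ : ℤ) (f₁ f₂ f₃ : ℕ) (he₁ : e₁ = 1 ∨ e₁ = -1) (he₂ : e₂ = 1 ∨ e₂ = -1) (he₃ : e₃ = 1 ∨ e₃ = -1)
    (h₁ : 3 ≤ f₁) (h₂ : 3 ≤ f₂) (h₃ : 3 ≤ f₃) (o₁ : Odd f₁) (o₂ : Odd f₂) (o₃ : Odd f₃)
    (hsum : e₁ * f₁ + e₂ * f₂ + e₃ * f₃ = -1) :
    (7 : ℚ) / 15 ≤ 1 + e₁ / f₁ + e₂ / f₂ + e₃ / f₃ := by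
  have core : ∀ a b c : ℕ, 3 ≤ b → 3 ≤ c → Odd b → Odd c → a + 1 = b + c →
      (7 : ℚ) / 15 ≤ 1 + 1 / (a : ℚ) + -1 / (b : ℚ) + -1 / (c : ℚ) := by
    intro a b c hb hc ob oc habc
    have ha0 : (0 : ℚ) < 1 / (a : ℚ) := by
      have : 0 < a := by omega
      positivity
    by_cases h33 : b = 3 ∧ c = 3
    · obtain ⟨rfl, rfl⟩ := h33
      obtain rfl : a = 5 := by omega
      norm_num
    · have h5 : 5 ≤ b ∨ 5 ≤ c := by
        obtain ⟨i, hi⟩ := ob
        obtain ⟨j, hj⟩ := oc
        omega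
      rcases h5 with h | h
      · have e1 : (1 : ℚ) / b ≤ 1 / 5 := by apply one_div_le_one_div_of_le; norm_num; exact_mod_cast h
        have e2 : (1 : ℚ) / c ≤ 1 / 3 := by apply one_div_le_one_div_of_le; norm_num; exact_mod_cast hc
        simp only [neg_div]; linarith
      · have e1 : (1 : ℚ) / b ≤ 1 / 3 := by apply one_div_le_one_div_of_le; norm_num; exact_mod_cast hb
        have e2 : (1 : ℚ) / c ≤ 1 / 5 := by apply one_div_le_one_div_of_le; norm_num; exact_mod_cast h
        simp only [neg_div]; linarith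
  have pos : ∀ a : ℕ, (0 : ℚ) ≤ 1 / (a : ℚ) := fun a => by positivity
  have third : ∀ a : ℕ, 3 ≤ a → (1 : ℚ) / (a : ℚ) ≤ 1 / 3 := fun a ha => by
    apply one_div_le_one_div_of_le; norm_num; exact_mod_cast ha
  rcases he₁ with rfl | rfl <;> rcases he₂ with rfl | rfl <;> rcases he₃ with rfl | rfl <;> push_cast
  · omega
  · have := pos f₁; have := pos f₂; have := third f₃ h₃; simp only [neg_div]; linarith
  · have := pos f₁; have := pos f₃; have := third f₂ h₂; simp only [neg_div]; linarith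
  · exact core f₁ f₂ f₃ h₂ h₃ o₂ o₃ (by omega)
  · have := pos f₂; have := pos f₃; have := third f₁ h₁; simp only [neg_div]; linarith
  · have := core f₂ f₁ f₃ h₁ h₃ o₁ o₃ (by omega); linarith
  · have := core f₃ f₁ f₂ h₁ h₂ o₁ o₂ (by omega); linarith
  · omega

open CfsgLib.CharTheory CfsgLib.KleinCent in
theorem index_bound [IsSimpleGroup G] (hab : ¬ IsMulCommutative G) (d : Data G) :
    (Nat.card G : ℚ) * (7 / 15) ≤ 32 * (Nat.card d.O : ℚ) := by
  classical
  letI := Fintype.ofFinite G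
  have hne1 : ∀ χ : IrrCharacter G, (χ : G → ℂ) 1 = 1 → (χ : G → ℂ) = fun _ => 1 := by
    intro χ h
    obtain ⟨φ, hφ⟩ := exists_hom_of_degree_one (isCharacter_of_irr χ.2) h
    rcases Subgroup.Normal.eq_bot_or_eq_top (inferInstance : φ.ker.Normal) with e | e
    · exfalso
      apply hab
      exact ⟨⟨fun a b => (MonoidHom.ker_eq_bot_iff φ).mp e (by rw [map_mul, map_mul, mul_comm])⟩⟩
    · funext g
      have : φ g = 1 := MonoidHom.mem_ker.mp (e.symm ▸ Subgroup.mem_top g)
      simp [hφ, this]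
  choose z hz using fun χ : IrrCharacter G => d.avg_int (isCharacter_of_irr χ.2)
  choose f hfpos hf using fun χ : IrrCharacter G => irr_degree_pos χ.2
  have h4 : ∑ χ, z χ ^ 2 = 4 := by
    have := d.four_sq
    simp only [hz] at this
    exact_mod_cast this
  let p0 : IrrCharacter G := ⟨fun _ => 1, isIrrCharacter_one⟩
  have hO : (Nat.card d.O : ℂ) ≠ 0 := Nat.cast_ne_zero.mpr Nat.card_pos.ne'
  have hz0 : z p0 = 1 := by
    have h := hz p0
    rw [show d.avg ((p0 : G → ℂ)) = 1 by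
      show (Nat.card d.O : ℂ)⁻¹ * ∑ _h : d.O, (1 : ℂ) = 1
      rw [Finset.sum_const, Finset.card_univ, ← Nat.card_eq_fintype_card, nsmul_eq_mul, mul_one, inv_mul_cancel₀ hO]] at h
    exact_mod_cast h.symm
  have hsmall : ∀ χ, χ ≠ p0 → z χ = 0 ∨ z χ = 1 ∨ z χ = -1 := by
    intro χ hχ
    have h1 := Finset.sum_le_sum_of_subset_of_nonneg (Finset.subset_univ ({p0, χ} : Finset _))
      (fun ψ _ _ => sq_nonneg (z ψ))
    rw [Finset.sum_pair hχ.symm, h4, hz0] at h1
    have : -2 < z χ ∧ z χ < 2 := ⟨by nlinarith, by nlinarith⟩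
    omega
  set s := (Finset.univ.erase p0).filter (fun χ => z χ ≠ 0)
  have hs : ∀ χ ∈ s, χ ≠ p0 ∧ (z χ = 1 ∨ z χ = -1) := by
    intro χ hχ
    simp only [s, Finset.mem_filter, Finset.mem_erase, Finset.mem_univ, and_true] at hχ
    exact ⟨hχ.1, (hsmall χ hχ.1).resolve_left hχ.2⟩
  have hrestrict : ∀ F : IrrCharacter G → ℂ, (∀ χ, z χ = 0 → F χ = 0) → ∑ χ, F χ = F p0 + ∑ χ ∈ s, F χ := by
    intro F hF
    rw [← Finset.add_sum_erase _ _ (Finset.mem_univ p0)]
    exact congrArg (F p0 + ·) (Finset.sum_filter_of_ne (p := fun χ => z χ ≠ 0) fun χ _ hne e => hne (hF χ e)).symm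
  have hcard : s.card = 3 := by
    have h := hrestrict (fun χ => ((z χ ^ 2 : ℤ) : ℂ)) (fun χ e => by simp [e])
    rw [← Int.cast_sum, h4, hz0, Finset.sum_congr rfl (fun χ hχ => show ((z χ ^ 2 : ℤ) : ℂ) = 1 by
      rcases (hs χ hχ).2 with e | e <;> simp [e])] at h
    have h' : ((4 : ℤ) : ℂ) = ((1 + (s.card : ℤ) : ℤ) : ℂ) := by
      simp only [Finset.sum_const, nsmul_eq_mul, mul_one] at h
      push_cast at h ⊢
      linear_combination h
    have := Int.cast_injective (α := ℂ) h'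
    omega
  have hval : ∀ χ ∈ s, (χ : G → ℂ) d.x = (z χ : ℂ) := fun χ hχ => by
    have := d.value_const χ.2 (fun e => (hs χ hχ).1 (Subtype.ext e)) (hz χ) (hs χ hχ).2 (1 : d.O)
    simpa using this
  have hfodd : ∀ χ ∈ s, 3 ≤ f χ ∧ Odd (f χ) := by
    intro χ hχ
    have h1 := d.modTwo_V (isCharacter_of_irr χ.2) d.hxV (Subgroup.one_mem d.H)
    rw [mul_one, hval χ hχ, hf, show ((f χ : ℕ) : ℂ) = (((f χ : ℕ) : ℤ) : ℂ) by simp, modTwo_int] at h1
    have ho : Odd (f χ) := by
      rcases (hs χ hχ).2 with e | e <;> rw [e] at h1 <;> rw [Nat.odd_iff] <;> omega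
    refine ⟨?_, ho⟩
    have hne : f χ ≠ 1 := fun e => (hs χ hχ).1 (Subtype.ext (hne1 χ (by rw [hf, e, Nat.cast_one])))
    have := hfpos χ
    obtain ⟨i, hi⟩ := ho
    omega
  obtain ⟨χ₁, χ₂, χ₃, h12, h13, h23, hseq⟩ := Finset.card_eq_three.mp hcard
  have hm : χ₁ ∈ s ∧ χ₂ ∈ s ∧ χ₃ ∈ s := by rw [hseq]; simp
  obtain ⟨m1, m2, m3⟩ := hm
  have hdeg : (1 : ℤ) + (z χ₁ * f χ₁ + z χ₂ * f χ₂ + z χ₃ * f χ₃) = 0 := by
    have h := d.sum_avg_degree
    simp only [hz] at h
    rw [hrestrict _ (fun χ e => by simp [e]), hseq, Finset.sum_insert (by simp [h12, h13]),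
      Finset.sum_pair h23, hz0] at h
    simp only [hf] at h
    have hp : ((f p0 : ℕ) : ℂ) = 1 := (hf p0).symm
    rw [hp] at h
    push_cast at h
    have h' : (((1 : ℤ) + (z χ₁ * f χ₁ + z χ₂ * f χ₂ + z χ₃ * f χ₃) : ℤ) : ℂ) = ((0 : ℤ) : ℂ) := by
      push_cast; linear_combination h
    exact_mod_cast h'
  have hid : (Nat.card G : ℚ) * (1 + z χ₁ / f χ₁ + z χ₂ / f χ₂ + z χ₃ / f χ₃) = 32 * (Nat.card d.O : ℚ) := by
    have h := d.class_identity
    rw [hrestrict _ (fun χ e => by simp [hz, e]), hseq, Finset.sum_insert (by simp [h12, h13]), Finset.sum_pair h23,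
      hz, hz, hz, hz, hz0, hval _ m1, hval _ m2, hval _ m3, hf χ₁, hf χ₂, hf χ₃,
      show (p0 : G → ℂ) d.x = 1 from rfl] at h
    have hz2 : ∀ χ ∈ s, (z χ : ℂ) * (z χ : ℂ) ^ 2 = (z χ : ℂ) := fun χ hχ => by
      rcases (hs χ hχ).2 with e | e <;> rw [e] <;> norm_num
    rw [hz2 _ m1, hz2 _ m2, hz2 _ m3] at h
    have h' : (((Nat.card G : ℚ) * (1 + z χ₁ / f χ₁ + z χ₂ / f χ₂ + z χ₃ / f χ₃) : ℚ) : ℂ) =
        ((32 * (Nat.card d.O : ℚ) : ℚ) : ℂ) := by
      push_cast
      rw [← h]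
      push_cast
      ring
    exact_mod_cast h'
  rw [← hid]
  refine mul_le_mul_of_nonneg_left ?_ (by positivity)
  exact q_bound _ _ _ _ _ _ (hs _ m1).2 (hs _ m2).2 (hs _ m3).2 (hfodd _ m1).1 (hfodd _ m2).1 (hfodd _ m3).1
    (hfodd _ m1).2 (hfodd _ m2).2 (hfodd _ m3).2 (by omega)

theorem three_le_index {M : Subgroup G} {H : Subgroup G} (hle : H ≤ M) (t : G) (ht : t ∈ M) (h1 : t ∉ H) (h2 : t * t ∉ H) :
    3 ≤ H.relIndex M := by
  have h2le : 2 ≤ H.relIndex M := by
    by_contra hcon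
    have h0 : H.relIndex M ≠ 0 := Subgroup.index_ne_zero_of_finite
    exact h1 (Subgroup.relIndex_eq_one.mp (show H.relIndex M = 1 by omega) ht)
  by_contra hcon
  have h : H.relIndex M = 2 := by omega
  have h3 : ((⟨t, ht⟩ : M) * ⟨t, ht⟩) ∈ H.subgroupOf M := Subgroup.mul_self_mem_of_index_two h _
  exact h2 h3

/-- Let G be a finite simple group with an involution x such that a Sylow 2-subgroup of C_G(x) is a Klein four-group which is normal in C_G(x). Then G is isomorphic to the alternating group of degree 5 (that is, to PSL(2, 5)). -/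
theorem result {G : Type*} [Group G] [Finite G] [IsSimpleGroup G] (x : G) (hx : orderOf x = 2)
    (S₀ : Subgroup G) (hle : S₀ ≤ Subgroup.centralizer ({x} : Set G)) (hK : IsKleinFour ↥S₀)
    (hodd : ¬ 2 ∣ S₀.relIndex (Subgroup.centralizer ({x} : Set G))) (hn : (S₀.subgroupOf (Subgroup.centralizer ({x} : Set G))).Normal) :
    Nonempty (G ≃* ↥(alternatingGroup (Fin 5))) := by
  classical
  haveI := Fact.mk Nat.prime_two
  set C := Subgroup.centralizer ({x} : Set G) with hCdef
  have hx1 : x ≠ 1 := fun e => by rw [e, orderOf_one] at hx; exact absurd hx (by norm_num)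
  have hS4 : Nat.card S₀ = 4 := hK.card_four
  have hC4 : Nat.card C = 4 * S₀.relIndex C := by
    have := (S₀.subgroupOf C).card_mul_index
    rw [Nat.card_congr (Subgroup.subgroupOfEquivOfLe hle).toEquiv, hS4] at this
    exact this.symm
  have h8 : ¬ 8 ∣ Nat.card C := by
    intro h
    rw [hC4] at h
    exact hodd (Nat.dvd_of_mul_dvd_mul_left (by norm_num : 0 < 4) (show 4 * 2 ∣ 4 * S₀.relIndex C from h))
  have hab : ¬ IsMulCommutative G := by
    intro h
    have hCtop : C = ⊤ := eq_top_iff.mpr fun g _ => Subgroup.mem_centralizer_singleton_iff.mpr (h.is_comm.comm g x)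
    have hn0 : S₀.Normal := ⟨fun a ha g => by rw [h.is_comm.comm g a, mul_inv_cancel_right]; exact ha⟩
    rcases Subgroup.Normal.eq_bot_or_eq_top hn0 with e | e
    · rw [e, Subgroup.card_bot] at hS4; omega
    · rcases Subgroup.Normal.eq_bot_or_eq_top
        (show (Subgroup.zpowers x).Normal from ⟨fun a ha g => by rw [h.is_comm.comm g a, mul_inv_cancel_right]; exact ha⟩) with e' | e'
      · exact hx1 (Subgroup.zpowers_eq_bot.mp e')
      · have := congrArg (fun H : Subgroup G => Nat.card H) e'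
        rw [Nat.card_zpowers, hx] at this
        rw [e, Subgroup.card_top] at hS4
        simp only [Subgroup.card_top] at this
        omega
  -- x ∈ S₀
  have hS2 : IsPGroup 2 S₀ := IsPGroup.of_card (n := 2) (by rw [hS4]; norm_num)
  have hxN : x ∈ Subgroup.normalizer (S₀ : Set G) := by
    refine Subgroup.le_normalizer_of_normal_subgroupOf hle ?_
    exact Subgroup.mem_centralizer_singleton_iff.mpr rfl
  have hx2 : IsPGroup 2 (Subgroup.zpowers x) := IsPGroup.of_card (n := 1) (by rw [Nat.card_zpowers, hx, pow_one])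
  obtain ⟨S, hS⟩ := (hx2.to_sup_of_normal_right' hS2 (Subgroup.zpowers_le.mpr hxN)).exists_le_sylow
  have hxS : x ∈ (S : Subgroup G) := hS (Subgroup.mem_sup_left (Subgroup.mem_zpowers x))
  have hS0S : S₀ ≤ (S : Subgroup G) := le_sup_right.trans hS
  have hScard := CfsgLib.KleinCent.sylow_card_le_four hab S hx hxS h8
  have hSeq : (S : Subgroup G) = S₀ := (Subgroup.eq_of_le_of_card_ge hS0S (by rw [hS4]; exact hScard)).symm
  have hxV : x ∈ S₀ := hSeq ▸ hxS
  have hexp : Monoid.exponent S₀ = 2 := hK.exponent_two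
  have hVsq : ∀ v ∈ S₀, v * v = 1 := fun v hv => by
    have := congrArg Subtype.val (Monoid.pow_exponent_eq_one (⟨v, hv⟩ : S₀))
    rw [hexp, sq] at this; exact this
  have hVcomm : ∀ a ∈ S₀, ∀ b ∈ S₀, a * b = b * a := fun a ha b hb => by
    have ha' := inv_eq_of_mul_eq_one_right (hVsq a ha)
    have hb' := inv_eq_of_mul_eq_one_right (hVsq b hb)
    have h := inv_eq_of_mul_eq_one_right (hVsq _ (S₀.mul_mem ha hb))
    rw [mul_inv_rev, ha', hb'] at h
    exact h.symm
  have hV3 : ∀ a ∈ S₀, ∀ b ∈ S₀, a ≠ 1 → b ≠ 1 → a ≠ b → ∀ c ∈ S₀, c = 1 ∨ c = a ∨ c = b ∨ c = a * b := by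
    intro a ha b hb a1 b1 hne c hc
    by_contra hcon
    push Not at hcon
    obtain ⟨c1, ca, cb, cab⟩ := hcon
    have hab1 : a * b ≠ 1 := fun e => hne (by rw [eq_inv_of_mul_eq_one_left e, inv_eq_of_mul_eq_one_right (hVsq b hb)])
    have hab2 : a * b ≠ a := fun e => b1 (mul_left_cancel (e.trans (mul_one a).symm))
    have hab3 : a * b ≠ b := fun e => a1 (mul_right_cancel (e.trans (one_mul b).symm))
    letI := Fintype.ofFinite S₀
    have h5 : ({1, ⟨a, ha⟩, ⟨b, hb⟩, ⟨a * b, S₀.mul_mem ha hb⟩, ⟨c, hc⟩} : Finset S₀).card = 5 := by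
      rw [Finset.card_insert_of_notMem, Finset.card_insert_of_notMem, Finset.card_insert_of_notMem,
        Finset.card_insert_of_notMem, Finset.card_singleton] <;>
      simp only [Finset.mem_insert, Finset.mem_singleton, Subtype.ext_iff, OneMemClass.coe_one, not_or] <;>
      refine ?_ <;> simp [Ne.symm a1, Ne.symm b1, Ne.symm hab1, hne, Ne.symm hab2, Ne.symm hab3, Ne.symm c1, Ne.symm ca, Ne.symm cb, Ne.symm cab]
    have := Finset.card_le_univ ({1, ⟨a, ha⟩, ⟨b, hb⟩, ⟨a * b, S₀.mul_mem ha hb⟩, ⟨c, hc⟩} : Finset S₀)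
    rw [h5, ← Nat.card_eq_fintype_card, hS4] at this
    omega
  set N := Subgroup.normalizer (S₀ : Set G)
  set H := Subgroup.centralizer (S₀ : Set G) with hHdef
  haveI hHn : (H.subgroupOf N).Normal := by
    rw [hHdef, ← Subgroup.normalizerMonoidHom_ker]; infer_instance
  have hSN : S₀ ≤ N := Subgroup.le_normalizer
  have hSH : S₀ ≤ H := fun a ha b hb => hVcomm b hb a ha
  -- odd order quotients
  have hodd' : ∀ t ∈ N, t * t ∈ H → t ∈ H := by
    intro t ht ht2
    by_contra htH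
    have h2 : orderOf ((⟨t, ht⟩ : N) : N ⧸ H.subgroupOf N) = 2 := by
      refine orderOf_eq_prime ?_ fun e => htH (show (⟨t, ht⟩ : N) ∈ H.subgroupOf N from (QuotientGroup.eq_one_iff _).mp e)
      rw [← QuotientGroup.mk_pow, QuotientGroup.eq_one_iff, sq]; exact ht2
    have hd := orderOf_dvd_natCard ((⟨t, ht⟩ : N) : N ⧸ H.subgroupOf N)
    rw [h2, ← Subgroup.index_eq_card] at hd
    have hd2 : (H.subgroupOf N).index ∣ (S₀.subgroupOf N).index :=
      Subgroup.index_dvd_of_le fun a ha => hSH ha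
    have hd3 : (S₀.subgroupOf N).index ∣ (S₀ : Subgroup G).index := Subgroup.relIndex_dvd_index_of_le hSN
    refine S.not_dvd_index ?_
    rw [hSeq]
    exact hd.trans (hd2.trans hd3)
  have hcentH : Subgroup.centralizer ({x} : Set G) = H := by
    refine le_antisymm (fun c hc => ?_) (fun c hc => Subgroup.mem_centralizer_singleton_iff.mpr (hc x hxV).symm)
    have hcN : c ∈ N := Subgroup.le_normalizer_of_normal_subgroupOf hle hc
    refine hodd' c hcN ?_
    intro v hv
    have hcx : c * x * c⁻¹ = x := mul_inv_eq_iff_eq_mul.mpr (Subgroup.mem_centralizer_singleton_iff.mp hc)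
    suffices h : c * (c * v * c⁻¹) * c⁻¹ = v by
      calc v * (c * c) = c * (c * v * c⁻¹) * c⁻¹ * (c * c) := by rw [h]
        _ = c * c * v := by group
    by_cases hv1 : v = 1
    · rw [hv1]; group
    by_cases hvx : v = x
    · rw [hvx, hcx, hcx]
    have hm : c * v * c⁻¹ ∈ S₀ := (Subgroup.mem_normalizer_iff.mp hcN v).mp hv
    rcases hV3 x hxV v hv hx1 hv1 (Ne.symm hvx) _ hm with e | e | e | e
    · exact absurd (conj_eq_one_iff.mp e) hv1
    · exact absurd (mul_left_cancel (mul_right_cancel (e.trans hcx.symm))) hvx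
    · rw [e, e]
    · rw [e, ← conj_mul, hcx, e, ← mul_assoc, hVsq x hxV, one_mul]
  obtain ⟨t, htN, htH⟩ : ∃ t ∈ N, t ∉ H := by
    by_contra hcon
    push Not at hcon
    have hGS := CfsgLib.SmallOrder.card_eq_sylow_of_normalizer_le_centralizer S
      (by
        show Subgroup.normalizer ((S : Subgroup G) : Set G) ≤ Subgroup.centralizer ((S : Subgroup G) : Set G)
        rw [hSeq]; exact hcon)
      (by rw [hSeq]; intro e; rw [e, Subgroup.card_bot] at hS4; omega)
    have hle4 : (S₀ : Subgroup G) = ⊤ := Subgroup.eq_top_of_card_eq _ (by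
      rw [hGS, show Nat.card ↥(S : Subgroup G) = Nat.card S from rfl]
      exact congrArg (fun K : Subgroup G => Nat.card K) hSeq.symm)
    exact hab ⟨⟨fun a b => hVcomm a (hle4 ▸ Subgroup.mem_top a) b (hle4 ▸ Subgroup.mem_top b)⟩⟩
  set y := t * x * t⁻¹ with hy
  have hyV : y ∈ S₀ := (Subgroup.mem_normalizer_iff.mp htN x).mp hxV
  have hy1 : y ≠ 1 := fun e => hx1 (conj_eq_one_iff.mp e)
  have hyx : y ≠ x := by
    intro e
    apply htH
    rw [← hcentH, Subgroup.mem_centralizer_singleton_iff]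
    exact mul_inv_eq_iff_eq_mul.mp e
  have hzne : t * y * t⁻¹ ≠ x := by
    intro e
    apply htH
    apply hodd' t htN
    rw [← hcentH, Subgroup.mem_centralizer_singleton_iff]
    calc t * t * x = t * (t * x * t⁻¹) * t⁻¹ * (t * t) := by group
      _ = x * (t * t) := by rw [← hy, e]
  have hz : t * y * t⁻¹ = x * y := by
    have hm : t * y * t⁻¹ ∈ S₀ := (Subgroup.mem_normalizer_iff.mp htN y).mp hyV
    rcases hV3 x hxV y hyV hx1 hy1 hyx.symm _ hm with e | e | e | e
    · exact absurd (conj_eq_one_iff.mp e) hy1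
    · exact absurd e hzne
    · exact absurd (mul_left_cancel (mul_right_cancel (e.trans hy))) hyx
    · exact e
  have horbit : ∀ v ∈ S₀, v ≠ 1 → ∃ s ∈ N, s * x * s⁻¹ = v := by
    intro v hv hv1
    rcases hV3 x hxV y hyV hx1 hy1 hyx.symm v hv with e | e | e | e
    · exact absurd e hv1
    · exact ⟨1, one_mem _, by rw [e]; group⟩
    · exact ⟨t, htN, by rw [e, hy]⟩
    · refine ⟨t * t, N.mul_mem htN htN, ?_⟩
      rw [e, ← hz, hy]; group
  have hH : ∀ v ∈ S₀, v ≠ 1 → Subgroup.centralizer ({v} : Set G) = H := by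
    intro v hv hv1
    obtain ⟨s, hs, rfl⟩ := horbit v hv hv1
    refine le_antisymm (fun c hc => ?_) (fun c hc => Subgroup.mem_centralizer_singleton_iff.mpr (hc _ hv).symm)
    have hc' := Subgroup.mem_centralizer_singleton_iff.mp hc
    have h1 : s⁻¹ * c * s ∈ H := by
      rw [← hcentH, Subgroup.mem_centralizer_singleton_iff]
      calc s⁻¹ * c * s * x = s⁻¹ * (c * (s * x * s⁻¹)) * s := by group
        _ = s⁻¹ * ((s * x * s⁻¹) * c) * s := by rw [hc']
        _ = x * (s⁻¹ * c * s) := by group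
    have h2 := hHn.conj_mem ⟨_, N.mul_mem (N.mul_mem (N.inv_mem hs) (by
      have := Subgroup.mem_centralizer_singleton_iff.mpr hc'
      have hcentle : Subgroup.centralizer (S₀ : Set G) ≤ N := Subgroup.centralizer_le_normalizer _
      have hsc : s⁻¹ * c * s ∈ N := hcentle h1
      have := N.mul_mem (N.mul_mem hs hsc) (N.inv_mem hs)
      simpa [mul_assoc] using this)) hs⟩ h1 ⟨s, hs⟩
    simpa [Subgroup.mem_subgroupOf, mul_assoc] using h2
  -- the odd part
  have hC4' : Nat.card H = 4 * S₀.relIndex H := by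
    have := (S₀.subgroupOf H).card_mul_index
    rw [Nat.card_congr (Subgroup.subgroupOfEquivOfLe hSH).toEquiv, hS4] at this
    exact this.symm
  have hoH : ¬ 2 ∣ S₀.relIndex H := by rw [← hcentH]; exact hodd
  have hcop : (Nat.card (S₀.subgroupOf H)).Coprime (S₀.subgroupOf H).index := by
    rw [Nat.card_congr (Subgroup.subgroupOfEquivOfLe hSH).toEquiv, hS4]
    show Nat.Coprime (2 ^ 2) _
    exact (Nat.prime_two.coprime_iff_not_dvd.mpr hoH).pow_left 2
  haveI : (S₀.subgroupOf H).Normal := ⟨fun a ha g => by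
    rw [Subgroup.mem_subgroupOf] at ha ⊢
    have hga : (g : G) * a = a * g := (g.2 a ha).symm
    show (g : G) * a * (g : G)⁻¹ ∈ S₀
    rw [hga, mul_inv_cancel_right]; exact ha⟩
  obtain ⟨K, hKc⟩ := Subgroup.exists_right_complement'_of_coprime hcop
  have hKcard : Nat.card K = S₀.relIndex H := hKc.symm.index_eq_card.symm
  let O : Subgroup G := K.map H.subtype
  have hOcard : Nat.card O = S₀.relIndex H := by rw [Subgroup.card_map_of_injective H.subtype_injective, hKcard]
  let d : CfsgLib.KleinCent.Data G :=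
    { x := x, V := S₀, H := H, O := O, hH := hH, hVH := hSH, hOH := Subgroup.map_subtype_le K
      hxV := hxV, hx1 := hx1, hV4 := hS4, hVsq := hVsq
      hodd := by rw [hOcard]; exact Nat.odd_iff.mpr (by have := hoH; omega)
      hcard := by rw [hOcard]; exact hC4'
      hdec := fun k hk => by
        obtain ⟨⟨a, b⟩, hp⟩ := hKc.2 ⟨k, hk⟩
        exact ⟨((a : H) : G), a.2, ((b : H) : G), ⟨_, b.2, rfl⟩, (congrArg Subtype.val hp).symm⟩
      hconj := fun v hv hv1 => by
        obtain ⟨s, -, e⟩ := horbit v hv hv1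
        exact isConj_iff.mpr ⟨s, e⟩ }
  have hbound := index_bound hab d
  have hNtop : N ≠ ⊤ := by
    intro e
    haveI : S₀.Normal := Subgroup.normalizer_eq_top_iff.mp e
    rcases Subgroup.Normal.eq_bot_or_eq_top (inferInstance : S₀.Normal) with h | h
    · rw [h, Subgroup.card_bot] at hS4; omega
    · exact hab ⟨⟨fun a b => hVcomm a (h ▸ Subgroup.mem_top a) b (h ▸ Subgroup.mem_top b)⟩⟩
  have hHN : H ≤ N := Subgroup.centralizer_le_normalizer _
  have h3 : 3 ≤ H.relIndex N := three_le_index hHN t htN htH (fun h => htH (hodd' t htN h))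
  have hNc : Nat.card N = Nat.card H * H.relIndex N := by
    have := (H.subgroupOf N).card_mul_index
    rw [Nat.card_congr (Subgroup.subgroupOfEquivOfLe hHN).toEquiv] at this
    exact this.symm
  have hN12 : 12 * Nat.card O ≤ Nat.card N := by
    rw [hNc, hC4', hOcard]; nlinarith
  have hOpos : 0 < Nat.card O := Nat.card_pos
  have hbound' : Nat.card G * 7 ≤ 480 * Nat.card O := by
    have h : ((Nat.card G * 7 : ℕ) : ℚ) ≤ ((480 * Nat.card O : ℕ) : ℚ) := by
      push_cast
      linarith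
    exact_mod_cast h
  have hidx : N.index ≤ 5 := by
    have hG := N.index_mul_card
    by_contra hcon
    push Not at hcon
    have : 6 * (12 * Nat.card O) ≤ Nat.card G := by rw [← hG]; exact Nat.mul_le_mul hcon hN12
    omega
  refine alt_five_of_index hab N hNtop (by omega) ?_ hidx
  rcases Nat.lt_or_ge N.index 5 with h | h
  · exact Or.inr (by omega)
  · left; nlinarith

end Cfsg.Agent.S3278
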