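import Cfsg.Statements.S3743
import Mathlib
import Cfsg.Agent.Lib.Basic
import Cfsg.Agent.Lib.Components
-- import your own Cfsg.Agent.* helpers here

set_option autoImplicit false
open Cfsg

namespace Cfsg.Agent.S3743


theorem card_piCore {G : Type*} [Group G] [Finite G] (π : Set ℕ) :
    ∀ p : ℕ, p.Prime → p ∣ Nat.card (Cfsg.piCore π G) → p ∈ π :=
  (CfsgLib.sSup_prop_of_closed_sup
    (fun N : Subgroup G => N.Normal ∧ ∀ p : ℕ, p.Prime → p ∣ Nat.card N → p ∈ π)
    ⟨inferInstance, fun p hp hd => by
      rw [Subgroup.card_bot] at hd; exact absurd (Nat.dvd_one.mp hd) hp.ne_one⟩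
    (fun A B hA hB => by
      have := hA.1; have := hB.1
      refine ⟨inferInstance, fun p hp hd => ?_⟩
      rcases hp.dvd_mul.mp (hd.trans (CfsgLib.card_sup_dvd_mul A B)) with h | h
      · exact hA.2 p hp h
      · exact hB.2 p hp h)
    (S := {N : Subgroup G | N.Normal ∧ ∀ p : ℕ, p.Prime → p ∣ Nat.card N → p ∈ π}) fun _ h => h).2

theorem le_piCore_of_subnormal {G : Type*} [Group G] [Finite G] (π : Set ℕ) {A : Subgroup G}
    (hA : A.IsSubnormal) (h : ∀ p : ℕ, p.Prime → p ∣ Nat.card A → p ∈ π) :
    A ≤ Cfsg.piCore π G := by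
  induction hn : Nat.card G using Nat.strong_induction_on generalizing G with
  | h n ih =>
    subst hn
    rcases hA.lt_normal with rfl | ⟨M, hM, hAM, hMlt⟩
    · exact le_sSup ⟨inferInstance, h⟩
    · have hlt : Nat.card M < Nat.card G := by
        rcases lt_or_eq_of_le (Subgroup.card_le_card_group M) with h | h
        · exact h
        · exact absurd (Subgroup.eq_top_of_card_eq M h) hMlt.ne
      have h1 := ih _ hlt (hA.subgroupOf (K := M)) (by
        rw [Nat.card_congr (Subgroup.subgroupOfEquivOfLe hAM).toEquiv]; exact h) rfl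
      have hchar : (Cfsg.piCore π M).Characteristic := by
        refine Subgroup.characteristic_iff_map_le.mpr fun φ => ?_
        have hn := (inferInstance : (Cfsg.piCore π M).Normal).map φ.toMonoidHom φ.surjective
        refine le_sSup ⟨hn, ?_⟩
        rw [Subgroup.card_map_of_injective (f := φ.toMonoidHom) φ.injective]
        exact card_piCore π
      refine le_trans ?_ (le_sSup (a := (Cfsg.piCore π M).map M.subtype) ⟨inferInstance, ?_⟩)
      · rw [← Subgroup.map_subgroupOf_eq_of_le hAM]
        exact Subgroup.map_mono h1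
      · rw [Subgroup.card_map_of_injective M.subtype_injective]
        exact card_piCore π

/-- In a finite group G, every subnormal nilpotent subgroup lies in the Fitting subgroup F(G), and, for a set of primes π, every subnormal subgroup all of whose prime divisors lie in π lies in O_π(G). -/
theorem result {G : Type*} [Group G] [Finite G] (A : Subgroup G) (hA : A.IsSubnormal) : (Group.IsNilpotent A → A ≤ Cfsg.fittingSubgroup G) ∧ ∀ π : Set ℕ, (∀ p : ℕ, p.Prime → p ∣ Nat.card A → p ∈ π) → A ≤ Cfsg.piCore π G := by
  exact ⟨fun h => CfsgLib.isSubnormal_nilpotent_le_fitting hA h, fun π h => le_piCore_of_subnormal π hA h⟩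

end Cfsg.Agent.S3743
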