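import Cfsg.Statements.S2879
import Cfsg.Agent.Lib.DihedralCoreSLTwoThree
import Cfsg.Agent.Lib.PSolvable
import Cfsg.Agent.Lib.QuasiDihedral
-- import your own Cfsg.Agent.* helpers here

set_option autoImplicit false
open Cfsg

namespace Cfsg.Agent.S2879

/-- Let G be a finite solvable group with O(G) = 1 whose Sylow 2-subgroup T is dihedral of order at least 8 or semidihedral, with G ≠ T and Z(T) normal in G. Then G has a normal subgroup isomorphic to SL₂(3). -/
theorem result {G : Type*} [Group G] [Finite G] (hsol : IsSolvable G) (hO : Cfsg.oddCore G = ⊥) (T : Sylow 2 G) (hT : (∃ n : ℕ, 4 ≤ n ∧ Nonempty (↥(T : Subgroup G) ≃* DihedralGroup n)) ∨ Cfsg.IsQuasiDihedral ↥(T : Subgroup G)) (hne : (T : Subgroup G) ≠ ⊤) (hZ : ((T : Subgroup G) ⊓ Subgroup.centralizer ((T : Subgroup G) : Set G)).Normal) : ∃ U : Subgroup G, U.Normal ∧ Nonempty (↥U ≃* Matrix.SpecialLinearGroup (Fin 2) (ZMod 3)) := by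
  classical
  haveI : Fact (Nat.Prime 2) := ⟨Nat.prime_two⟩
  haveI : Fact (Nat.Prime 3) := ⟨Nat.prime_three⟩
  haveI : Group.IsSolvable G := hsol
  set S : Subgroup G := (T : Subgroup G) with hS
  have hSp : IsPGroup 2 S := T.isPGroup'
  -- shape of the Sylow subgroup
  obtain ⟨x, y, n, m, hn, hx, hidx, hy2, hconj, hm, hm'⟩ : ∃ (x y : S) (n m : ℕ), 2 ≤ n ∧ orderOf x = 2 ^ n ∧
      (Subgroup.zpowers x).index = 2 ∧ y * y = 1 ∧ y * x * y⁻¹ = x ^ m ∧
      Nat.gcd (m - 1) (2 ^ n) = 2 ∧ 2 ^ (n - 1) ∣ m + 1 := by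
    rcases hT with ⟨k, hk, ⟨e⟩⟩ | hq
    · haveI : NeZero k := ⟨by omega⟩
      obtain ⟨j, hj⟩ := hSp.exists_card_eq
      rw [Nat.card_congr e.toEquiv, DihedralGroup.nat_card] at hj
      have hj2 : 3 ≤ j := by
        by_contra h
        push Not at h
        have := Nat.pow_le_pow_right two_pos (show j ≤ 2 by omega)
        omega
      have hk2 : k = 2 ^ (j - 1) := by
        have : 2 ^ j = 2 * 2 ^ (j - 1) := by rw [← pow_succ']; congr 1; omega
        omega
      refine ⟨e.symm (DihedralGroup.r 1), e.symm (DihedralGroup.sr 0), j - 1, k - 1, by omega, ?_, ?_, ?_, ?_, ?_, ?_⟩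
      · rw [MulEquiv.orderOf_eq, DihedralGroup.orderOf_r_one, hk2]
      · have h1 := (Subgroup.zpowers (e.symm (DihedralGroup.r 1))).card_mul_index
        rw [Nat.card_zpowers, MulEquiv.orderOf_eq, DihedralGroup.orderOf_r_one, Nat.card_congr e.toEquiv,
          DihedralGroup.nat_card, mul_comm 2 k] at h1
        exact Nat.eq_of_mul_eq_mul_left (by omega) h1
      · rw [← map_mul, DihedralGroup.sr_mul_self, map_one]
      · rw [← map_inv, ← map_mul, ← map_mul, ← map_pow, DihedralGroup.r_one_pow]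
        congr 1
        have hinv : (DihedralGroup.sr 0 : DihedralGroup k)⁻¹ = DihedralGroup.sr 0 :=
          inv_eq_of_mul_eq_one_right (DihedralGroup.sr_mul_self 0)
        rw [hinv, DihedralGroup.sr_mul_r, DihedralGroup.sr_mul_sr]
        congr 1
        rw [Nat.cast_sub (by omega), ZMod.natCast_self]
        simp
      · rw [← hk2]
        obtain ⟨t, ht⟩ : ∃ t, k = 4 * t := ⟨2 ^ (j - 3), by
          rw [hk2, show (4 : ℕ) = 2 ^ 2 by norm_num, ← pow_add]; congr 1; omega⟩
        have h2 : Nat.gcd (k - 1 - 1) k ∣ 2 := by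
          have h := Nat.dvd_sub (Nat.gcd_dvd_right (k - 1 - 1) k) (Nat.gcd_dvd_left (k - 1 - 1) k)
          rwa [show k - (k - 1 - 1) = 2 by omega] at h
        exact Nat.dvd_antisymm h2 (Nat.dvd_gcd ⟨2 * t - 1, by omega⟩ ⟨2 * t, by omega⟩)
      · rw [show k - 1 + 1 = k by omega, hk2]
        exact pow_dvd_pow 2 (by omega)
    · obtain ⟨k, hk, hcard, x, y, hx, hy, hxy⟩ := hq
      refine ⟨x, y, k, 2 ^ (k - 1) - 1, by omega, hx, ?_, ?_, hxy, ?_, ?_⟩
      · have h1 := (Subgroup.zpowers x).card_mul_index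
        rw [Nat.card_zpowers, hx, hcard, pow_succ] at h1
        exact Nat.eq_of_mul_eq_mul_left (by positivity) h1
      · rw [← pow_two, ← hy, pow_orderOf_eq_one]
      · obtain ⟨t, ht⟩ : ∃ t, 2 ^ (k - 1) = 4 * t := ⟨2 ^ (k - 3), by
          rw [show (4 : ℕ) = 2 ^ 2 by norm_num, ← pow_add]; congr 1; omega⟩
        have hpos : 0 < 2 ^ (k - 1) := by positivity
        have h2k : 2 ^ k = 8 * t := by
          rw [show k = (k - 1) + 1 by omega, pow_succ, ht]; ring
        rw [h2k, ht]
        have h4 : Nat.gcd (4 * t - 1 - 1) (8 * t) ∣ 4 := by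
          have h := Nat.dvd_sub (Nat.gcd_dvd_right (4 * t - 1 - 1) (8 * t))
            (dvd_mul_of_dvd_right (Nat.gcd_dvd_left (4 * t - 1 - 1) (8 * t)) 2)
          rwa [show 8 * t - 2 * (4 * t - 1 - 1) = 4 by omega] at h
        have h2 : 2 ∣ Nat.gcd (4 * t - 1 - 1) (8 * t) := Nat.dvd_gcd ⟨2 * t - 1, by omega⟩ ⟨4 * t, by omega⟩
        have hne : ¬ 4 ∣ Nat.gcd (4 * t - 1 - 1) (8 * t) := fun h => by
          obtain ⟨s, hs⟩ := h.trans (Nat.gcd_dvd_left _ _)
          omega
        have := Nat.le_of_dvd (by norm_num) h4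
        interval_cases hG : Nat.gcd (4 * t - 1 - 1) (8 * t) <;> omega
      · have hp : 0 < 2 ^ (k - 1) := Nat.two_pow_pos _
        rw [show 2 ^ (k - 1) - 1 + 1 = 2 ^ (k - 1) by omega]
  -- elements outside the cyclic subgroup
  have hm1 : 1 ≤ m := by
    by_contra h
    have : m = 0 := by omega
    subst this
    have := Nat.le_of_dvd one_pos hm'
    have := Nat.pow_le_pow_right two_pos (show 1 ≤ n - 1 by omega)
    omega
  have hyout : y ∉ Subgroup.zpowers x := fun hy => by
    obtain ⟨i, hi⟩ := hy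
    rw [← hi, ((Commute.refl x).zpow_left i).eq, mul_inv_cancel_right] at hconj
    have h1 : x ^ (m - 1) = 1 := by
      have : x ^ (m - 1) * x = 1 * x := by rw [← pow_succ, show m - 1 + 1 = m by omega, one_mul]; exact hconj.symm
      exact mul_right_cancel this
    have h2 := Nat.dvd_gcd (orderOf_dvd_of_pow_eq_one h1) hx.dvd
    rw [hm, hx] at h2
    have := Nat.le_of_dvd two_pos h2
    have := Nat.pow_le_pow_right two_pos hn
    omega
  have hconji : ∀ i : ℤ, y * x ^ i * y⁻¹ = x ^ ((m : ℤ) * i) := fun i => by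
    rw [← conj_zpow, hconj, ← zpow_natCast, ← zpow_mul]
  have hform : ∀ a : S, a ∉ Subgroup.zpowers x → ∃ i : ℤ, a = x ^ i * y := by
    intro a ha
    have h1 : a * y ∈ Subgroup.zpowers x := by
      rw [Subgroup.mul_mem_iff_of_index_two hidx]
      exact iff_of_false ha hyout
    obtain ⟨i, hi⟩ := h1
    exact ⟨i, by rw [show x ^ i = a * y from hi, mul_assoc, hy2, mul_one]⟩
  have hout : ∀ a : S, a ∉ Subgroup.zpowers x → a ^ 4 = 1 := by
    intro a ha
    obtain ⟨i, rfl⟩ := hform a ha
    have h1 : (x ^ i * y) ^ 2 = x ^ (((m : ℤ) + 1) * i) := by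
      rw [pow_two, show x ^ i * y * (x ^ i * y) = x ^ i * (y * x ^ i * y⁻¹) * (y * y) by group, hconji, hy2,
        mul_one, ← zpow_add]
      ring_nf
    obtain ⟨s, hs⟩ := hm'
    rw [show (4 : ℕ) = 2 * 2 from rfl, pow_mul, h1, ← zpow_natCast, ← zpow_mul, show ((m : ℤ) + 1) * i * ((2 : ℕ) : ℤ) =
      ((2 ^ n : ℕ) : ℤ) * (s * i) by
        rw [show (m : ℤ) + 1 = ((m + 1 : ℕ) : ℤ) by push_cast; ring, hs,
          show 2 ^ n = 2 ^ (n - 1) * 2 by rw [← pow_succ]; congr 1; omega]
        push_cast; ring,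
      zpow_mul, zpow_natCast, ← hx, pow_orderOf_eq_one, one_zpow]
  -- the centre
  have hcen : ∀ w : S, w ∈ Subgroup.center S → w = 1 ∨ w = x ^ (2 ^ (n - 1)) := by
    intro w hw
    have hwy := Subgroup.mem_center_iff.mp hw y
    have hwx := Subgroup.mem_center_iff.mp hw x
    by_cases hwX : w ∈ Subgroup.zpowers x
    · rw [mem_zpowers_iff_mem_range_orderOf, Finset.mem_image, hx] at hwX
      obtain ⟨i, hi, rfl⟩ := hwX
      rw [Finset.mem_range] at hi
      have h1 : x ^ (m * i) = x ^ i := by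
        rw [← mul_inv_eq_iff_eq_mul.mpr hwy, ← conj_pow, hconj, ← pow_mul]
      have h2 : 2 ^ n ∣ (m - 1) * i := by
        have := (pow_eq_pow_iff_modEq.mp h1).symm
        rw [hx] at this
        have h3 := (Nat.modEq_iff_dvd' (Nat.le_mul_of_pos_left i (by omega))).mp this
        rwa [← Nat.sub_one_mul] at h3
      have h2' : 2 ^ n ∣ 2 * i := by
        have h4 := Nat.dvd_gcd h2 (dvd_mul_right (2 ^ n) i)
        rwa [Nat.gcd_mul_right, hm] at h4
      rw [show 2 ^ n = 2 * 2 ^ (n - 1) by rw [← pow_succ']; congr 1; omega] at h2' hi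
      obtain ⟨s, hs⟩ := Nat.dvd_of_mul_dvd_mul_left two_pos h2'
      subst hs
      have hs2 : s < 2 := by
        by_contra h
        push Not at h
        have := Nat.mul_le_mul_left (2 ^ (n - 1)) h
        omega
      interval_cases s <;> simp
    · exfalso
      obtain ⟨i, rfl⟩ := hform w hwX
      have h1 : x * y = y * x := by
        have : x ^ i * (x * y) = x ^ i * (y * x) := by
          rw [← mul_assoc, ← zpow_add_one, add_comm, zpow_one_add, mul_assoc, hwx, mul_assoc]
        exact mul_left_cancel this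
      rw [← h1, mul_inv_cancel_right] at hconj
      have h2 : x ^ (m - 1) = 1 := by
        have : x ^ (m - 1) * x = 1 * x := by rw [← pow_succ, show m - 1 + 1 = m by omega, one_mul]; exact hconj.symm
        exact mul_right_cancel this
      have h3 := Nat.dvd_gcd (orderOf_dvd_of_pow_eq_one h2) hx.dvd
      rw [hm, hx] at h3
      have := Nat.le_of_dvd two_pos h3
      have := Nat.pow_le_pow_right two_pos hn
      omega
  haveI : Nontrivial S := ⟨⟨x, 1, fun h => by
    rw [h, orderOf_one] at hx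
    have := Nat.pow_le_pow_right two_pos hn
    omega⟩⟩
  haveI := hSp.center_nontrivial
  obtain ⟨⟨z, hzc⟩, hz1⟩ := exists_ne (1 : Subgroup.center S)
  have hzeq : z = x ^ (2 ^ (n - 1)) := (hcen z hzc).resolve_left (fun h => hz1 (Subtype.ext h))
  have hzord : orderOf (z : G) = 2 := by
    rw [Subgroup.orderOf_coe, hzeq, orderOf_pow, hx, Nat.gcd_eq_right (pow_dvd_pow 2 (by omega)),
      Nat.pow_div (by omega) two_pos, show n - (n - 1) = 1 by omega, pow_one]
  have hzS : (z : G) ∈ S ⊓ Subgroup.centralizer (S : Set G) :=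
    ⟨z.2, Subgroup.mem_centralizer_iff.mpr fun a ha => congrArg Subtype.val (Subgroup.mem_center_iff.mp hzc ⟨a, ha⟩)⟩
  have hzcentral : ∀ g : G, g * (z : G) * g⁻¹ = z := by
    intro g
    obtain ⟨h1, h2⟩ := Subgroup.mem_inf.mp (hZ.conj_mem _ hzS g)
    have h3 : (⟨g * z * g⁻¹, h1⟩ : S) ∈ Subgroup.center S := Subgroup.mem_center_iff.mpr fun a =>
      Subtype.ext (Subgroup.mem_centralizer_iff.mp h2 a a.2)
    rcases hcen _ h3 with h4 | h4
    · exfalso
      have h5 : g * (z : G) * g⁻¹ = 1 := congrArg Subtype.val h4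
      exact hz1 (Subtype.ext (Subtype.ext (conj_eq_one_iff.mp h5)))
    · rw [← hzeq] at h4
      exact congrArg Subtype.val h4
  -- the largest normal two-subgroup
  set Q := Cfsg.pCore 2 G with hQdef
  have hQp : IsPGroup 2 Q := CfsgLib.isPGroup_pCore 2
  haveI hQn : Q.Normal := by rw [hQdef]; infer_instance
  have hQS : Q ≤ S := hQp.le_sylow_of_normal T
  have hCQ : Subgroup.centralizer (Q : Set G) ≤ Q := CfsgLib.centralizer_pCore_le Nat.prime_two hO
  have hQnorm : ∀ g : G, g ∈ Subgroup.normalizer (Q : Set G) := fun g => by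
    rw [Subgroup.normalizer_eq_top_iff.mpr hQn]; trivial
  have hzQ : (z : G) ∈ Q := hCQ (Subgroup.mem_centralizer_iff.mpr fun a _ => mul_inv_eq_iff_eq_mul.mp (hzcentral a))
  have hnotQ : ∀ g : G, g ≠ 1 → Odd (orderOf g) → g ∉ Subgroup.centralizer (Q : Set G) := by
    intro g hg hgo hc
    obtain ⟨k, hk⟩ := IsPGroup.iff_orderOf.mp hQp ⟨g, hCQ hc⟩
    rw [Subgroup.orderOf_mk] at hk
    rcases k with _ | k
    · exact hg (orderOf_eq_one_iff.mp (by rw [hk, pow_zero]))
    · rw [hk] at hgo
      exact absurd hgo (by rw [Nat.not_odd_iff_even]; exact (Even.pow_of_ne_zero even_two k.succ_ne_zero))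
  obtain ⟨g₀, hg₀, hg₀o⟩ : ∃ g : G, g ≠ 1 ∧ Odd (orderOf g) := by
    by_contra hnone
    push Not at hnone
    refine hne (Subgroup.index_eq_one.mp ?_)
    by_contra hidx1
    obtain ⟨p, hp, hpd⟩ := Nat.exists_prime_and_dvd hidx1
    haveI : Fact p.Prime := ⟨hp⟩
    obtain ⟨g, hg⟩ := exists_prime_orderOf_dvd_card' (G := G) p (hpd.trans (Subgroup.index_dvd_card _))
    have hp2 : p ≠ 2 := fun h => T.not_dvd_index (h ▸ hpd)
    have := hnone g (fun h => hp.ne_one (by rw [← hg, h, orderOf_one]))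
    rw [hg] at this
    exact this (hp.odd_of_ne_two hp2)
  have hidx' : (Subgroup.zpowers (x : G)).relIndex S = 2 := by
    rw [← hidx, Subgroup.relIndex]
    congr 1
    ext a
    rw [Subgroup.mem_subgroupOf]
    constructor
    · rintro ⟨i, hi⟩; exact ⟨i, Subtype.ext (by simpa using hi)⟩
    · rintro ⟨i, hi⟩; exact ⟨i, by rw [← hi]; simp⟩
  obtain ⟨e⟩ := CfsgLib.DihedralCore.q8_of_cyclic_coatom hSp x.2 hidx' (fun a ha hax => by
      have h := hout ⟨a, ha⟩ fun ⟨i, hi⟩ => hax ⟨i, by simpa using congrArg Subtype.val hi⟩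
      exact congrArg Subtype.val h)
    hzord hzcentral hQS hzQ (hQnorm g₀) (hnotQ g₀ hg₀ hg₀o) hg₀o
  -- the group has order at most 48
  let φ : G →* MulAut Q := MulAut.conjNormal
  have hker : φ.ker ≤ (Subgroup.center Q).map Q.subtype := by
    intro a ha
    have hc : a ∈ Subgroup.centralizer (Q : Set G) := Subgroup.mem_centralizer_iff.mpr fun q hq => by
      have := congrArg (fun ψ : MulAut Q => ((ψ ⟨q, hq⟩ : Q) : G)) (MonoidHom.mem_ker.mp ha)
      simp only [φ, MulAut.conjNormal_apply, MulAut.one_apply] at this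
      exact (mul_inv_eq_iff_eq_mul.mp this).symm
    exact ⟨⟨a, hCQ hc⟩, Subgroup.mem_center_iff.mpr fun q => Subtype.ext (Subgroup.mem_centralizer_iff.mp hc q q.2), rfl⟩
  have hker2 : Nat.card φ.ker ≤ 2 := by
    refine (Subgroup.card_le_of_le hker).trans ?_
    rw [Subgroup.card_map_of_injective Q.subtype_injective]
    have h1 := (Subgroup.center Q).card_mul_index
    rw [CfsgLib.LocalFusion.q8_center_index e, Nat.card_congr e.toEquiv, Nat.card_eq_fintype_card (α := QuaternionGroup 2),
      QuaternionGroup.card] at h1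
    omega
  have hG48 : Nat.card G ≤ 48 := by
    have h1 := φ.ker.card_mul_index
    rw [Subgroup.index_ker] at h1
    have h2 : Nat.card φ.range ≤ 24 := by
      refine (Subgroup.card_le_card_group _).trans ?_
      rw [Nat.card_congr (MulAut.congr e).toEquiv]
      exact CfsgLib.Quat.card_aut_le
    have := Nat.mul_le_mul hker2 h2
    omega
  have h8 : 8 ∣ Nat.card G := by
    have := Subgroup.card_subgroup_dvd_card Q
    rwa [Nat.card_congr e.toEquiv, Nat.card_eq_fintype_card (α := QuaternionGroup 2), QuaternionGroup.card] at this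
  obtain ⟨g, hg3⟩ : ∃ g : G, orderOf g = 3 := by
    refine exists_prime_orderOf_dvd_card' 3 ?_
    obtain ⟨p, hp, hpd⟩ := Nat.exists_prime_and_dvd (show orderOf g₀ ≠ 1 by rwa [ne_eq, orderOf_eq_one_iff])
    have hpodd := Odd.of_dvd_nat hg₀o hpd
    have hpG : p ∣ Nat.card G := hpd.trans (orderOf_dvd_natCard g₀)
    have hp8 : 8 * p ∣ Nat.card G := Nat.Coprime.mul_dvd_of_dvd_of_dvd
      ((hpodd.coprime_two_left.pow_left 3)) h8 hpG
    have hpG' := Nat.le_of_dvd Nat.card_pos hp8
    have hp6 : p ≤ 6 := by omega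
    have h2 := hp.two_le
    interval_cases p
    · norm_num [Nat.odd_iff] at hpodd
    · exact hpG
    · norm_num at hp
    · exfalso
      -- five cannot divide the order
      have h3 := φ.ker.card_mul_index
      rw [Subgroup.index_ker] at h3
      rw [← h3] at hpG
      rcases (Nat.prime_five.dvd_mul).mp hpG with h | h
      · have := Nat.le_of_dvd Nat.card_pos h; omega
      · have h4 := h.trans (Subgroup.card_subgroup_dvd_card _)
        rw [Nat.card_congr (MulAut.congr e).toEquiv] at h4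
        have h5 := Nat.le_of_dvd Nat.card_pos h4
        obtain ⟨c, hc⟩ := h4
        have h6 := CfsgLib.Quat.card_aut_le
        obtain ⟨c', hc'⟩ := CfsgLib.Quat.three_dvd_card_aut
        have h7 : Nat.card (MulAut (QuaternionGroup 2)) = 15 := by omega
        -- inner automorphisms have order two
        have h8' : 2 ∣ Nat.card (MulAut (QuaternionGroup 2)) := by
          have hne : MulAut.conj (QuaternionGroup.a 1 : QuaternionGroup 2) ≠ 1 := fun hh => by
            have := congrArg (fun ψ : MulAut (QuaternionGroup 2) => ψ (QuaternionGroup.xa 0)) hh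
            simp only [MulAut.conj_apply, MulAut.one_apply] at this
            revert this; decide
          have : orderOf (MulAut.conj (QuaternionGroup.a 1 : QuaternionGroup 2)) = 2 := orderOf_eq_prime (by
            rw [← map_pow]
            refine MulEquiv.ext fun q => ?_
            simp only [MulAut.conj_apply, MulAut.one_apply]
            revert q; decide) hne
          have h9 := orderOf_dvd_natCard (G := MulAut (QuaternionGroup 2))
            (MulAut.conj (QuaternionGroup.a 1 : QuaternionGroup 2))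
          rw [this] at h9
          exact h9
        omega
    · norm_num at hp
  have hgo : Odd (orderOf g) := by rw [hg3]; decide
  have hg1 : g ≠ 1 := fun h => by rw [h, orderOf_one] at hg3; omega
  obtain ⟨ψ, hψ, -, hrot⟩ := CfsgLib.QuatSection.exists_param e (hQnorm g) (hnotQ g hg1 hgo) hgo
  obtain ⟨θ, hθ⟩ := CfsgLib.DihedralCore.exists_sl23 hψ (g := g) (by rw [← hg3, pow_orderOf_eq_one]) hrot
  have hcardU : Nat.card θ.range = 24 := by
    rw [← Nat.card_congr (MonoidHom.ofInjective hθ).toEquiv,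
      ← Nat.card_congr (Equiv.ofBijective _ CfsgLib.QuatSection.slMap_bijective), Nat.card_prod,
      Nat.card_eq_fintype_card (α := QuaternionGroup 2), QuaternionGroup.card, Nat.card_zmod]
  refine ⟨θ.range, ?_, ⟨(MonoidHom.ofInjective hθ).symm⟩⟩
  have h1 := θ.range.card_mul_index
  rw [hcardU] at h1
  rcases (show θ.range.index = 0 ∨ θ.range.index = 1 ∨ θ.range.index = 2 by omega) with h | h | h
  · exact absurd h Subgroup.index_ne_zero_of_finite
  · rw [Subgroup.index_eq_one.mp h]; infer_instance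
  · exact Subgroup.normal_of_index_eq_two h

end Cfsg.Agent.S2879
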