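import Cfsg.Statements.S3781
import Mathlib
-- import your own Cfsg.Agent.* helpers here

set_option autoImplicit false
open Cfsg

namespace Cfsg.Agent.S3781

section

open Subgroup

variable {G : Type*} [Group G]

/-- Iterated commutators with the whole group. -/
def it (A : Subgroup G) : ℕ → Subgroup G
  | 0 => A
  | j + 1 => ⁅it A j, (⊤ : Subgroup G)⁆

theorem it_normal (A : Subgroup G) [hA : A.Normal] : ∀ j, (it A j).Normal
  | 0 => hA
  | j + 1 => by haveI := it_normal A j; show (⁅it A j, (⊤ : Subgroup G)⁆).Normal; infer_instance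

theorem it_antitone (A : Subgroup G) [A.Normal] {i j : ℕ} (h : i ≤ j) : it A j ≤ it A i := by
  induction h with
  | refl => exact le_rfl
  | step _ ih =>
    rename_i m _
    haveI := it_normal A m
    exact le_trans (commutator_le_left (it A m) ⊤) ih

theorem it_succ (A : Subgroup G) : ∀ j, it ⁅A, (⊤ : Subgroup G)⁆ j = it A (j + 1)
  | 0 => rfl
  | j + 1 => by show ⁅it ⁅A, (⊤ : Subgroup G)⁆ j, (⊤ : Subgroup G)⁆ = _; rw [it_succ A j]; rfl

theorem commutator_lcs_le (A : Subgroup G) (k : ℕ) :
    A.Normal → ⁅A, (⊤ : Subgroup G).lowerCentralSeries k⁆ ≤ it A (k + 1) := by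
  induction k generalizing A with
  | zero => intro _; exact le_rfl
  | succ k ih =>
    intro hA
    haveI := hA
    set L := (⊤ : Subgroup G).lowerCentralSeries k
    rw [Subgroup.lowerCentralSeries_succ, commutator_comm]
    haveI := it_normal A (k + 1 + 1)
    set π := QuotientGroup.mk' (it A (k + 1 + 1))
    have hk : π.ker = it A (k + 1 + 1) := QuotientGroup.ker_mk' _
    have key : ∀ X : Subgroup G, X ≤ it A (k + 1 + 1) → X.map π = ⊥ := fun X hX =>
      (Subgroup.map_eq_bot_iff X).mpr (hk.symm ▸ hX)
    have h1 : ⁅⁅(⊤ : Subgroup G), A⁆, L⁆ ≤ it A (k + 1 + 1) := by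
      rw [commutator_comm ⊤ A]
      refine (ih ⁅A, ⊤⁆ inferInstance).trans ?_
      rw [it_succ]
    have h2 : ⁅⁅A, L⁆, (⊤ : Subgroup G)⁆ ≤ it A (k + 1 + 1) := commutator_mono (ih A hA) le_rfl
    have h3 := commutator_commutator_eq_bot_of_rotate (H₁ := L.map π) (H₂ := (⊤ : Subgroup G).map π)
      (H₃ := A.map π) (by rw [← map_commutator, ← map_commutator]; exact key _ h1)
      (by rw [← map_commutator, ← map_commutator]; exact key _ h2)
    rw [← map_commutator, ← map_commutator, Subgroup.map_eq_bot_iff, hk] at h3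
    exact h3

end

/-- Let G be a finite p-group and n ≥ 1, and write γ_1(G) = G, γ_{k+1}(G) = [γ_k(G), G], and likewise γ_k(N) for a subgroup N. Let N be a normal subgroup of G contained in γ_n(G). If i > 1 and γ_{i+1}(N) ≠ 1, then |γ_i(N) : γ_{i+1}(N)| ≥ p^n. -/
theorem result {G : Type*} [Group G] [Finite G] {p : ℕ} [Fact p.Prime] (hG : IsPGroup p G) (n : ℕ) (hn : 1 ≤ n) (N : Subgroup G) [N.Normal] (hN : N ≤ (⊤ : Subgroup G).lowerCentralSeries (n - 1)) (i : ℕ) (hi : 1 < i) (hne : N.lowerCentralSeries i ≠ ⊥) : p ^ n ≤ (N.lowerCentralSeries i).relIndex (N.lowerCentralSeries (i - 1)) := by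
  have hp : p.Prime := Fact.out
  have hit := fun k => commutator_lcs_le (N.lowerCentralSeries (i - 1)) k
  haveI := hG.isNilpotent
  set A := N.lowerCentralSeries (i - 1) with hA
  have hAn : A.Normal := by
    rw [hA]
    clear hit
    induction (i - 1) with
    | zero => exact (inferInstance : N.Normal)
    | succ k ih => haveI := ih; rw [Subgroup.lowerCentralSeries_succ]; infer_instance
  haveI := hAn
  have hle : N.lowerCentralSeries i ≤ it A n := by
    have e : i = (i - 1) + 1 := by omega
    have en : n = (n - 1) + 1 := by omega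
    rw [e, Subgroup.lowerCentralSeries_succ, ← hA]
    refine (Subgroup.commutator_mono le_rfl hN).trans ?_
    rw [en]
    exact hit (n - 1) hAn
  have hlt : ∀ j, j < n → it A (j + 1) < it A j := by
    intro j hj
    haveI := it_normal A j
    refine lt_of_le_of_ne (Subgroup.commutator_le_left (it A j) ⊤) fun e => ?_
    have hall : ∀ m, it A j ≤ (⊤ : Subgroup G).lowerCentralSeries m := by
      intro m
      induction m with
      | zero => exact le_top
      | succ m ihm => rw [← e, Subgroup.lowerCentralSeries_succ]; exact Subgroup.commutator_mono ihm le_rfl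
    obtain ⟨m, hm⟩ := Subgroup.nilpotent_iff_lowerCentralSeries.mp (inferInstance : Group.IsNilpotent G)
    have h0 : it A j ≤ ⊥ := hm ▸ hall m
    exact hne (eq_bot_iff.mpr (hle.trans ((it_antitone A hj.le).trans h0)))
  have hcard : ∀ j, j ≤ n → Nat.card (it A j) * p ^ j ≤ Nat.card A := by
    intro j
    induction j with
    | zero => intro; simp [it]
    | succ j ihj =>
      intro hj
      refine le_trans ?_ (ihj (by omega))
      obtain ⟨a, ha⟩ := IsPGroup.iff_card.mp (hG.to_subgroup (it A j))
      obtain ⟨b, hb⟩ := IsPGroup.iff_card.mp (hG.to_subgroup (it A (j + 1)))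
      have h1 : Nat.card (it A (j + 1)) < Nat.card (it A j) :=
        lt_of_le_of_ne (Subgroup.card_le_of_le (hlt j (by omega)).le) fun e =>
          (hlt j (by omega)).ne (Subgroup.eq_of_le_of_card_ge (hlt j (by omega)).le e.ge)
      rw [ha, hb] at h1 ⊢
      have h2 := (Nat.pow_lt_pow_iff_right hp.one_lt).mp h1
      rw [← pow_add, ← pow_add]
      exact Nat.pow_le_pow_right hp.pos (by omega)
  have hanti : N.lowerCentralSeries i ≤ A := hle.trans (it_antitone A (Nat.zero_le n))
  have h3 := Subgroup.relIndex_mul_relIndex (⊥ : Subgroup G) (N.lowerCentralSeries i) A bot_le hanti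
  rw [Subgroup.relIndex_bot_left, Subgroup.relIndex_bot_left] at h3
  refine Nat.le_of_mul_le_mul_left ?_ (Nat.card_pos (α := N.lowerCentralSeries i))
  rw [h3]
  exact le_trans (Nat.mul_le_mul_right _ (Subgroup.card_le_of_le hle)) (hcard n le_rfl)

end Cfsg.Agent.S3781
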