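import Cfsg.Statements.S0891
import Mathlib
-- import your own Cfsg.Agent.* helpers here

set_option autoImplicit false
open Cfsg

namespace Cfsg.Agent.S0891

open scoped commutatorElement

/-- The space of the spin representation. -/
abbrev Sp (n : ℕ) := (Fin n → Bool) → ZMod 3

/-- The sign in the Jordan-Wigner construction. -/
def sgn {n : ℕ} (i : Fin n) (x : Fin n → Bool) : ZMod 3 :=
  ∏ j : Fin n, if j < i ∧ x j = true then -1 else 1

/-- Flipping one coordinate. -/
def flp {n : ℕ} (i : Fin n) (x : Fin n → Bool) : Fin n → Bool := Function.update x i (!x i)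

/-- The Clifford generators. -/
def gA {n : ℕ} (i : Fin n) : Module.End (ZMod 3) (Sp n) where
  toFun f x := sgn i x * f (flp i x)
  map_add' f f' := funext fun x => mul_add _ _ _
  map_smul' c f := funext fun x => by simp only [Pi.smul_apply, smul_eq_mul, RingHom.id_apply]; ring

/-- The diagonal operators. -/
def gZ {n : ℕ} (i : Fin n) : Module.End (ZMod 3) (Sp n) where
  toFun f x := (if x i = true then -1 else 1) * f x
  map_add' f f' := funext fun x => mul_add _ _ _
  map_smul' c f := funext fun x => by simp only [Pi.smul_apply, smul_eq_mul, RingHom.id_apply]; ring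

theorem nmul {n : ℕ} (a b : Module.End (ZMod 3) (Sp n)) : -a * b = -(a * b) := neg_mul a b

theorem muln {n : ℕ} (a b : Module.End (ZMod 3) (Sp n)) : a * -b = -(a * b) := mul_neg a b

theorem nsmulE {n : ℕ} (c : ZMod 3) (a : Module.End (ZMod 3) (Sp n)) : -c • a = -(c • a) := neg_smul c a

theorem smulnE {n : ℕ} (c : ZMod 3) (a : Module.End (ZMod 3) (Sp n)) : c • -a = -(c • a) := smul_neg c a

theorem flp_flp {n : ℕ} (i : Fin n) (x : Fin n → Bool) : flp i (flp i x) = x := by
  simp [flp]

theorem flp_comm {n : ℕ} {i j : Fin n} (h : i ≠ j) (x : Fin n → Bool) : flp i (flp j x) = flp j (flp i x) := by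
  simp [flp, Function.update_of_ne h, Function.update_of_ne h.symm, Function.update_comm h]

theorem sgn_flp_of_le {n : ℕ} {i j : Fin n} (h : i ≤ j) (x : Fin n → Bool) : sgn i (flp j x) = sgn i x := by
  refine Finset.prod_congr rfl fun k _ => ?_
  by_cases hk : k = j
  · subst hk
    simp [not_lt.2 h]
  · simp [flp, Function.update_of_ne hk]

theorem sgn_flp_of_lt {n : ℕ} {i j : Fin n} (h : j < i) (x : Fin n → Bool) : sgn i (flp j x) = -sgn i x := by
  unfold sgn
  rw [← Finset.mul_prod_erase _ _ (Finset.mem_univ j), ← Finset.mul_prod_erase Finset.univ _ (Finset.mem_univ j)]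
  rw [Finset.prod_congr rfl fun k hk => by
    rw [flp, Function.update_of_ne (Finset.ne_of_mem_erase hk)]]
  cases hx : x j <;> simp [flp, hx, h]

theorem gA_sq {n : ℕ} (i : Fin n) : gA i * gA i = 1 := by
  refine LinearMap.ext fun f => funext fun x => ?_
  show sgn i x * (sgn i (flp i x) * f (flp i (flp i x))) = f x
  rw [sgn_flp_of_le le_rfl, flp_flp, ← mul_assoc]
  have : sgn i x * sgn i x = 1 := by
    rw [sgn, ← Finset.prod_mul_distrib]
    exact Finset.prod_eq_one fun k _ => by split_ifs <;> ring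
  rw [this, one_mul]

theorem gA_anti {n : ℕ} {i j : Fin n} (h : i ≠ j) : gA i * gA j = -(gA j * gA i) := by
  refine LinearMap.ext fun f => funext fun x => ?_
  show sgn i x * (sgn j (flp i x) * f (flp j (flp i x))) = -(sgn j x * (sgn i (flp j x) * f (flp i (flp j x))))
  rw [flp_comm h.symm x]
  rcases lt_or_gt_of_ne h with hl | hl
  · rw [sgn_flp_of_lt hl, sgn_flp_of_le hl.le]; ring
  · rw [sgn_flp_of_lt hl, sgn_flp_of_le hl.le]; ring

theorem gA_gZ_same {n : ℕ} (i : Fin n) : gA i * gZ i = -(gZ i * gA i) := by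
  refine LinearMap.ext fun f => funext fun x => ?_
  show sgn i x * ((if flp i x i = true then -1 else 1) * f (flp i x)) = -((if x i = true then -1 else 1) * (sgn i x * f (flp i x)))
  cases hx : x i <;> simp [flp, hx]

theorem gA_gZ {n : ℕ} {i j : Fin n} (h : i ≠ j) : gA i * gZ j = gZ j * gA i := by
  refine LinearMap.ext fun f => funext fun x => ?_
  show sgn i x * ((if flp i x j = true then -1 else 1) * f (flp i x)) = (if x j = true then -1 else 1) * (sgn i x * f (flp i x))
  rw [flp, Function.update_of_ne h.symm]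
  ring

/-- The fixed generators anticommute with the permuted ones. -/
theorem gB_anti {n : ℕ} (i k : Fin n) : gA i * (gA k * gZ k) = -((gA k * gZ k) * gA i) := by
  by_cases h : i = k
  · subst h
    have hB : gA i * gZ i * gA i = gA i * (gZ i * gA i) := mul_assoc _ _ _
    rw [hB, ← neg_eq_iff_eq_neg.2 (gA_gZ_same i), muln, neg_neg]
  · rw [← mul_assoc, gA_anti h, nmul, mul_assoc, gA_gZ h, ← mul_assoc]

/-- Only scalars commute with all generators. -/
theorem scalar {n : ℕ} (g : Module.End (ZMod 3) (Sp n)) (hA : ∀ i, g * gA i = gA i * g) (hZ : ∀ i, g * gZ i = gZ i * g) :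
    ∃ c : ZMod 3, g = c • 1 := by
  classical
  have hdiag : ∀ x y : Fin n → Bool, y ≠ x → g (Pi.single x 1) y = 0 := fun x y hxy => by
    obtain ⟨k, hk⟩ := Function.ne_iff.1 hxy
    have h := congrFun (LinearMap.congr_fun (hZ k) (Pi.single x 1)) y
    have hz : gZ k (Pi.single x (1 : ZMod 3)) = (if x k = true then -1 else 1 : ZMod 3) • Pi.single x 1 := funext fun z => by
      show (if z k = true then -1 else 1) * (Pi.single x (1 : ZMod 3) : Sp n) z = _
      by_cases hzx : z = x
      · subst hzx; simp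
      · simp [hzx]
    rw [Module.End.mul_apply, Module.End.mul_apply, hz, map_smul, Pi.smul_apply, smul_eq_mul] at h
    change _ = (if y k = true then -1 else 1) * g (Pi.single x 1) y at h
    cases hxk : x k <;> cases hyk : y k <;> simp [hxk, hyk] at hk h ⊢
    all_goals
      revert h
      generalize g (Pi.single x 1) y = a
      revert a
      decide
  let c : (Fin n → Bool) → ZMod 3 := fun x => g (Pi.single x 1) x
  have hf : ∀ f x, g f x = c x * f x := fun f x => by
    conv_lhs => rw [← Finset.univ_sum_single f]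
    rw [map_sum, Finset.sum_apply, Finset.sum_eq_single x (fun y _ hy => by
      rw [show (Pi.single y (f y) : Sp n) = f y • Pi.single y 1 from by simp [← Pi.single_smul'], map_smul, Pi.smul_apply, hdiag y x hy.symm, smul_zero]) (by simp)]
    rw [show (Pi.single x (f x) : Sp n) = f x • Pi.single x 1 from by simp [← Pi.single_smul'], map_smul, Pi.smul_apply, smul_eq_mul, mul_comm]
  have hc : ∀ i x, c (flp i x) = c x := fun i x => by
    have h := congrFun (LinearMap.congr_fun (hA i) (fun _ => 1)) x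
    rw [Module.End.mul_apply, Module.End.mul_apply, hf] at h
    change c x * (sgn i x * 1) = sgn i x * g (fun _ => 1) (flp i x) at h
    rw [hf, mul_one, mul_one, mul_comm (c x)] at h
    refine (mul_left_cancel₀ ?_ h).symm
    rw [sgn, Finset.prod_ne_zero_iff]
    intro k _
    split_ifs <;> decide
  have hconst : ∀ (m : ℕ) (x : Fin n → Bool), (Finset.univ.filter fun j => x j = true).card = m → c x = c fun _ => false := by
    intro m
    induction m with
    | zero => intro x hx; exact congrArg c (funext fun j => by simpa using Finset.filter_eq_empty_iff.1 (Finset.card_eq_zero.1 hx) (Finset.mem_univ j))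
    | succ m ih =>
      intro x hx
      obtain ⟨i, hi⟩ := Finset.card_pos.1 (show 0 < (Finset.univ.filter fun j => x j = true).card by rw [hx]; omega)
      rw [← hc i x]
      refine ih _ ?_
      have hset : (Finset.univ.filter fun j => flp i x j = true) = (Finset.univ.filter fun j => x j = true).erase i := by
        ext j
        have hxi : x i = true := (Finset.mem_filter.1 hi).2
        rw [Finset.mem_erase, Finset.mem_filter, Finset.mem_filter]
        unfold flp
        by_cases hj : j = i
        · subst hj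
          rw [Function.update_self, hxi]
          simp
        · rw [Function.update_of_ne hj]
          simp [hj]
      rw [hset, Finset.card_erase_of_mem hi, hx, Nat.add_sub_cancel]
  exact ⟨c fun _ => false, LinearMap.ext fun f => funext fun x => by rw [hf, hconst _ x rfl]; rfl⟩

/-- The double cover. -/
def cover (n : ℕ) : Subgroup (Module.End (ZMod 3) (Sp n))ˣ where
  carrier := {g | ∃ σ ∈ alternatingGroup (Fin n), (∀ i : Fin n, (g : Module.End (ZMod 3) (Sp n)) * gA i = gA (σ i) * g) ∧
    ∀ i : Fin n, (g : Module.End (ZMod 3) (Sp n)) * (gA i * gZ i) = (gA i * gZ i) * g}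
  one_mem' := ⟨1, one_mem _, fun i => by simp, fun i => by simp⟩
  mul_mem' := fun {g h} ⟨σ, hσ, ha, hb⟩ ⟨τ, hτ, ha', hb'⟩ => ⟨σ * τ, mul_mem hσ hτ, fun i => by
      rw [Units.val_mul, mul_assoc, ha', ← mul_assoc, ha, mul_assoc, Equiv.Perm.mul_apply], fun i => by
      rw [Units.val_mul, mul_assoc, hb', ← mul_assoc, hb, mul_assoc]⟩
  inv_mem' := fun {g} ⟨σ, hσ, ha, hb⟩ => ⟨σ⁻¹, inv_mem hσ, fun i => by
      rw [Units.inv_mul_eq_iff_eq_mul, ← mul_assoc, ha, mul_assoc, Units.mul_inv, mul_one, Equiv.Perm.coe_inv, Equiv.apply_symm_apply], fun i => by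
      rw [Units.inv_mul_eq_iff_eq_mul, ← mul_assoc, hb, mul_assoc, Units.mul_inv, mul_one]⟩

theorem gA_injective {n : ℕ} : Function.Injective (gA (n := n)) := fun i j h => by
  by_contra hne
  have h1 := congrFun (LinearMap.congr_fun h (Pi.single (flp i fun _ => false) 1)) fun _ => false
  change sgn i (fun _ => false) * (Pi.single (flp i fun _ => false) (1 : ZMod 3) : Sp n) (flp i fun _ => false) =
    sgn j (fun _ => false) * (Pi.single (flp i fun _ => false) (1 : ZMod 3) : Sp n) (flp j fun _ => false) at h1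
  have h2 : flp j (fun _ => false) ≠ flp i fun _ => false := fun e => by
    have := congrFun e i
    simp [flp, Function.update_of_ne hne] at this
  simp [sgn, h2] at h1

/-- A transposition lifts to an odd element. -/
theorem swapLift {n : ℕ} {x y : Fin n} (hxy : x ≠ y) : ∃ u : (Module.End (ZMod 3) (Sp n))ˣ,
    (u : Module.End (ZMod 3) (Sp n)) = gA x - gA y ∧
    (∀ i : Fin n, (u : Module.End (ZMod 3) (Sp n)) * gA i = -(gA (Equiv.swap x y i) * u)) ∧
    ∀ i : Fin n, (u : Module.End (ZMod 3) (Sp n)) * (gA i * gZ i) = -((gA i * gZ i) * u) := by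
  have h2 : (1 : Module.End (ZMod 3) (Sp n)) + 1 = -1 := LinearMap.ext fun f => funext fun w => by
    show f w + f w = -f w
    generalize f w = a
    revert a
    decide
  have hvv : (gA x - gA y) * (gA x - gA y) = -(1 : Module.End (ZMod 3) (Sp n)) := by
    rw [sub_mul, mul_sub, mul_sub, gA_sq, gA_sq, gA_anti hxy, ← h2]; abel
  refine ⟨⟨gA x - gA y, -(gA x - gA y), by rw [muln, hvv, neg_neg], by rw [nmul, hvv, neg_neg]⟩, rfl, fun i => ?_, fun i => ?_⟩
  · show (gA x - gA y) * gA i = -(gA (Equiv.swap x y i) * (gA x - gA y))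
    rcases eq_or_ne i x with rfl | hix
    · rw [Equiv.swap_apply_left, sub_mul, mul_sub, gA_sq, gA_sq]; abel
    rcases eq_or_ne i y with rfl | hiy
    · rw [Equiv.swap_apply_right, sub_mul, mul_sub, gA_sq, gA_sq]; abel
    rw [Equiv.swap_apply_of_ne_of_ne hix hiy, sub_mul, mul_sub, gA_anti hix.symm, gA_anti hiy.symm]; abel
  · show (gA x - gA y) * (gA i * gZ i) = -((gA i * gZ i) * (gA x - gA y))
    rw [sub_mul, mul_sub, gB_anti, gB_anti]; abel

/-- Every permutation lifts, up to its sign. -/
theorem lift {n : ℕ} (σ : Equiv.Perm (Fin n)) : ∃ g : (Module.End (ZMod 3) (Sp n))ˣ,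
    (∀ i : Fin n, (g : Module.End (ZMod 3) (Sp n)) * gA i = ((Equiv.Perm.sign σ : ℤ) : ZMod 3) • (gA (σ i) * g)) ∧
    ∀ i : Fin n, (g : Module.End (ZMod 3) (Sp n)) * (gA i * gZ i) = ((Equiv.Perm.sign σ : ℤ) : ZMod 3) • ((gA i * gZ i) * g) := by
  classical
  induction σ using Equiv.Perm.swap_induction_on with
  | one => exact ⟨1, fun i => by simp, fun i => by simp⟩
  | swap_mul f x y hxy ih =>
    obtain ⟨g, hg1, hg2⟩ := ih
    obtain ⟨u, hu, hva, hvb⟩ := swapLift hxy
    have hs : ((Equiv.Perm.sign (Equiv.swap x y * f) : ℤ) : ZMod 3) = -((Equiv.Perm.sign f : ℤ) : ZMod 3) := by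
      rw [map_mul, Equiv.Perm.sign_swap hxy]; simp
    refine ⟨u * g, fun i => ?_, fun i => ?_⟩
    · rw [Units.val_mul, mul_assoc, hg1, mul_smul_comm, hs, nsmulE, ← mul_assoc]
      show _ • ((u : Module.End (ZMod 3) (Sp n)) * gA (f i) * _) = _
      rw [hva, nmul, smulnE, mul_assoc]
      rfl
    · rw [Units.val_mul, mul_assoc, hg2, mul_smul_comm, hs, nsmulE, ← mul_assoc]
      show _ • ((u : Module.End (ZMod 3) (Sp n)) * (gA i * gZ i) * _) = _
      rw [hvb, nmul, smulnE, mul_assoc]

/-- For every n ≥ 4 there are a finite group Γ and a central element z of Γ of order 2 lying in the commutator subgroup of Γ such that the quotient of Γ by the (normal) subgroup generated by z is isomorphic to the alternating group on n letters. -/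
theorem result (n : ℕ) (hn : 4 ≤ n) : ∃ (Γ : Type) (_ : Group Γ) (_ : Finite Γ) (z : Γ) (hz : z ∈ Subgroup.center Γ), orderOf z = 2 ∧ z ∈ commutator Γ ∧ ∃ _ : (Subgroup.zpowers z).Normal, Nonempty (Γ ⧸ Subgroup.zpowers z ≃* alternatingGroup (Fin n)) := by
  classical
  haveI : Finite (Module.End (ZMod 3) (Sp n)) := Finite.of_injective (fun f => (f : Sp n → Sp n)) DFunLike.coe_injective
  haveI : Finite (Module.End (ZMod 3) (Sp n))ˣ := Finite.of_injective Units.val Units.val_injective
  have key : ∀ g : cover n, ∃ σ : alternatingGroup (Fin n), (∀ i : Fin n, (g.1 : Module.End (ZMod 3) (Sp n)) * gA i = gA ((σ : Equiv.Perm (Fin n)) i) * g.1) :=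
    fun g => let ⟨σ, hσ, ha, _⟩ := g.2; ⟨⟨σ, hσ⟩, ha⟩
  choose φ hφ using key
  have huniq : ∀ (g : cover n) (σ : Equiv.Perm (Fin n)), (∀ i : Fin n, (g.1 : Module.End (ZMod 3) (Sp n)) * gA i = gA (σ i) * g.1) → (φ g : Equiv.Perm (Fin n)) = σ :=
    fun g σ h => Equiv.ext fun i => gA_injective ((Units.mul_left_inj g.1).1 ((hφ g i).symm.trans (h i)))
  let π : cover n →* alternatingGroup (Fin n) := MonoidHom.mk' φ fun g h => Subtype.ext (huniq (g * h) _ fun i => by
    rw [Subgroup.coe_mul, Units.val_mul, mul_assoc, hφ h, ← mul_assoc, hφ g, mul_assoc]; rfl)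
  have hsurj : Function.Surjective π := fun σ => by
    obtain ⟨g, hg1, hg2⟩ := lift (σ : Equiv.Perm (Fin n))
    rw [Equiv.Perm.mem_alternatingGroup.1 σ.2] at hg1 hg2
    simp only [Units.val_one, Int.cast_one, one_smul] at hg1 hg2
    exact ⟨⟨g, σ, σ.2, hg1, hg2⟩, Subtype.ext (huniq _ _ hg1)⟩
  have hneg : (-1 : (Module.End (ZMod 3) (Sp n))ˣ) ∈ cover n := ⟨1, one_mem _, fun i => by simp, fun i => by simp⟩
  let z : cover n := ⟨-1, hneg⟩
  have hz : z ∈ Subgroup.center (cover n) := Subgroup.mem_center_iff.2 fun g => Subtype.ext (Units.ext (by simp [z]))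
  have hz1 : z ≠ 1 := fun e => by
    have h := congrFun (LinearMap.congr_fun (congrArg (fun w : cover n => ((w.1 : Module.End (ZMod 3) (Sp n)))) e) (fun _ => (1 : ZMod 3))) (fun _ => false)
    change -(1 : ZMod 3) = 1 at h
    exact absurd h (by decide)
  have hz2 : z ^ 2 = 1 := Subtype.ext (Units.ext (by simp [z]))
  have hker : π.ker = Subgroup.zpowers z := by
    refine le_antisymm (fun g hg => ?_) (Subgroup.zpowers_le.2 ?_)
    · obtain ⟨σ, hσ, ha, hb⟩ := g.2
      have h1 : σ = 1 := (huniq g σ ha).symm.trans (congrArg Subtype.val hg)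
      subst h1
      have hA' : ∀ i : Fin n, (g.1 : Module.End (ZMod 3) (Sp n)) * gA i = gA i * g.1 := ha
      obtain ⟨c, hc⟩ := scalar (g.1 : Module.End (ZMod 3) (Sp n)) hA' fun i => by
        have e : gZ i = gA i * (gA i * gZ i) := by rw [← mul_assoc, gA_sq, one_mul]
        rw [e, ← mul_assoc, hA', mul_assoc, hb, ← mul_assoc]
      have hc0 : c ≠ 0 := fun e => by
        rw [e, zero_smul] at hc
        have := congrFun (LinearMap.congr_fun ((g.1.inv_mul).symm.trans (by rw [hc, mul_zero])) (fun _ => (1 : ZMod 3))) (fun _ => false)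
        simp at this
      have hc12 : c = 1 ∨ c = -1 := by
        have key : ∀ a : ZMod 3, a ≠ 0 → a = 1 ∨ a = -1 := by decide
        exact key c hc0
      rcases hc12 with rfl | rfl
      · rw [show g = 1 from Subtype.ext (Units.ext (by rw [hc, one_smul]; rfl))]; exact one_mem _
      · rw [show g = z from Subtype.ext (Units.ext (by rw [hc, nsmulE, one_smul]; rfl))]; exact Subgroup.mem_zpowers z
    · exact Subtype.ext (huniq z 1 fun i => by simp [z])
  refine ⟨cover n, inferInstance, inferInstance, z, hz, orderOf_eq_prime hz2 hz1, ?_, hker ▸ (inferInstance : π.ker.Normal), ⟨?_⟩⟩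
  · -- two commuting double transpositions lift to anticommuting elements
    let i0 : Fin n := ⟨0, by omega⟩
    let i1 : Fin n := ⟨1, by omega⟩
    let i2 : Fin n := ⟨2, by omega⟩
    let i3 : Fin n := ⟨3, by omega⟩
    have hσ : Equiv.swap i0 i1 * Equiv.swap i2 i3 ∈ alternatingGroup (Fin n) := by
      rw [Equiv.Perm.mem_alternatingGroup, map_mul, Equiv.Perm.sign_swap (by simp [i0, i1]), Equiv.Perm.sign_swap (by simp [i2, i3])]; rfl
    have hτ : Equiv.swap i0 i2 * Equiv.swap i1 i3 ∈ alternatingGroup (Fin n) := by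
      rw [Equiv.Perm.mem_alternatingGroup, map_mul, Equiv.Perm.sign_swap (by simp [i0, i2]), Equiv.Perm.sign_swap (by simp [i1, i3])]; rfl
    obtain ⟨g, hg⟩ := hsurj ⟨_, hσ⟩
    obtain ⟨h, hh⟩ := hsurj ⟨_, hτ⟩
    -- the explicit lift of the second one
    set v := (gA i0 - gA i2) * (gA i1 - gA i3) with hv
    have hgv : (g.1 : Module.End (ZMod 3) (Sp n)) * v = -(v * g.1) := by
      have hga : ∀ i, (g.1 : Module.End (ZMod 3) (Sp n)) * gA i = gA ((Equiv.swap i0 i1 * Equiv.swap i2 i3) i) * g.1 := fun i => by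
        rw [hφ g i, show (φ g : Equiv.Perm (Fin n)) = _ from congrArg Subtype.val hg]
      have e0 := hga i0; have e1 := hga i1; have e2 := hga i2; have e3 := hga i3
      simp only [Equiv.Perm.mul_apply, Equiv.swap_apply_def, i0, i1, i2, i3, Fin.mk.injEq, OfNat.ofNat_ne_zero, OfNat.zero_ne_ofNat,
        zero_ne_one, one_ne_zero, OfNat.ofNat_ne_one, OfNat.one_ne_ofNat, Nat.reduceEqDiff, if_true, if_false, ↓reduceIte] at e0 e1 e2 e3
      rw [hv, ← mul_assoc, mul_sub (g.1 : Module.End (ZMod 3) (Sp n)) (gA i0), e0, e2, ← sub_mul, mul_assoc,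
        mul_sub (g.1 : Module.End (ZMod 3) (Sp n)) (gA i1), e1, e3, ← sub_mul, ← mul_assoc, ← nmul]
      congr 1
      simp only [sub_mul, mul_sub]
      rw [gA_anti (show i1 ≠ i0 by simp [i0, i1]), gA_anti (show i1 ≠ i2 by simp [i1, i2]),
        gA_anti (show i3 ≠ i0 by simp [i0, i3]), gA_anti (show i3 ≠ i2 by simp [i2, i3])]
      abel
    have hvu : ∃ h' : cover n, (h'.1 : Module.End (ZMod 3) (Sp n)) = v := by
      obtain ⟨u1, e1, ha1, hb1⟩ := swapLift (show i0 ≠ i2 by simp [i0, i2])
      obtain ⟨u2, e2, ha2, hb2⟩ := swapLift (show i1 ≠ i3 by simp [i1, i3])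
      refine ⟨⟨u1 * u2, _, hτ, fun i => ?_, fun i => ?_⟩, by rw [Units.val_mul, e1, e2]⟩
      · rw [Units.val_mul, mul_assoc, ha2, muln, ← mul_assoc, ha1, nmul, neg_neg, mul_assoc]
        rfl
      · rw [Units.val_mul, mul_assoc, hb2, muln, ← mul_assoc, hb1, nmul, neg_neg, mul_assoc]
    obtain ⟨h', hh'⟩ := hvu
    have e : ⁅g, h'⁆ = z := by
      have h1 : g * h' = z * (h' * g) := Subtype.ext (Units.ext (by
        simp only [Subgroup.coe_mul, Units.val_mul, hh', hgv, z, Units.val_neg, Units.val_one, nmul, one_mul]))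
      rw [commutatorElement_def, h1]; group
    exact e ▸ Subgroup.commutator_mem_commutator (Subgroup.mem_top _) (Subgroup.mem_top _)
  · haveI : (Subgroup.zpowers z).Normal := hker ▸ (inferInstance : π.ker.Normal)
    exact (QuotientGroup.quotientMulEquivOfEq hker.symm).trans (QuotientGroup.quotientKerEquivOfSurjective π hsurj)

end Cfsg.Agent.S0891
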