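import Cfsg.Statements.S0713
import Mathlib
-- import your own Cfsg.Agent.* helpers here

set_option autoImplicit false
open Cfsg

namespace Cfsg.Agent.S0713

private theorem exists_three {α : Type*} [Fintype α] [DecidableEq α] (G : Subgroup (Equiv.Perm α)) {p : ℕ} (hp : p.Prime)
    (hG : MulAction.IsPreprimitive G α) (hpn : p + 3 ≤ Fintype.card α) {g : Equiv.Perm α} (hgc : g.IsCycle)
    (hgp : g.support.card = p) (hg : g ∈ G) : ∃ h : Equiv.Perm α, h ∈ G ∧ h.IsThreeCycle := by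
  classical
  have hgc' := hgc
  set Γ := g.support with hΓ
  set s : Set α := ((Γ : Set α))ᶜ with hs
  have hscard : s.ncard = Fintype.card α - p := by
    rw [hs, Set.ncard_compl, Set.ncard_coe_finset, hgp, Nat.card_eq_fintype_card]
  set m := Fintype.card α - p with hm
  -- Jordan: high transitivity
  have htr := Equiv.Perm.isPretransitive_of_isCycle_mem (G := G) hgc hg
  have hprim : MulAction.IsPreprimitive (fixingSubgroup G s) (SubMulAction.ofFixingSubgroup G s) := by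
    have := htr
    refine MulAction.IsPreprimitive.of_prime_card ?_
    have h : Nat.card (SubMulAction.ofFixingSubgroup G s) = p := by
      rw [← hgp, ← Set.ncard_coe_finset, ← Nat.card_coe_set_eq]
      refine Nat.card_congr (Equiv.subtypeEquivRight fun x => ?_)
      simp [SubMulAction.mem_ofFixingSubgroup_iff, hs, hΓ]
    rw [h]; exact hp
  have hmp : MulAction.IsMultiplyPreprimitive G α ((m - 1) + 2) :=
    hG.isMultiplyPreprimitive (s := s) (n := m - 1) (by omega)
      (by rw [Nat.card_eq_fintype_card]; have := hp.two_le; omega) hprim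
  have hmt : MulAction.IsMultiplyPretransitive G α m := by
    have := hmp.isMultiplyPretransitive
    exact MulAction.isMultiplyPretransitive_of_le (m := m) (n := m - 1 + 2) (by omega)
      (by rw [Nat.card_eq_fintype_card]; have := hp.two_le; omega)
  -- the pointwise stabiliser of `Γᶜ`
  set F : Subgroup (Equiv.Perm α) := G ⊓ fixingSubgroup (Equiv.Perm α) s with hF
  have hFmem : ∀ f, f ∈ F ↔ f ∈ G ∧ ∀ x, x ∉ Γ → f x = x := fun f => by
    simp [hF, mem_fixingSubgroup_iff, hs, Equiv.Perm.smul_def]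
  have hgF : g ∈ F := (hFmem g).mpr ⟨hg, fun x hx => Equiv.Perm.notMem_support.mp hx⟩
  have := Fact.mk hp
  have hord : orderOf g = p := by rw [hgc.orderOf]; exact hgp
  have hcardF : Nat.card F ∣ p.factorial := by
    have hres : ∀ f : F, ∀ x, x ∈ Γ ↔ (f : Equiv.Perm α) x ∈ Γ := fun f x => by
      constructor
      · intro hx
        by_contra hfx
        have h1 := ((hFmem f).mp f.2).2 _ hfx
        rw [(f : Equiv.Perm α).injective h1] at hfx
        exact hfx hx
      · intro hfx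
        by_contra hx
        rw [((hFmem f).mp f.2).2 x hx] at hfx
        exact hx hfx
    let r : F →* Equiv.Perm Γ :=
      { toFun := fun f => Equiv.Perm.subtypePerm (f : Equiv.Perm α) (fun x => (hres f x).symm)
        map_one' := by ext x; simp
        map_mul' := fun a b => by ext x; rfl }
    have hr : Function.Injective r := fun a b hab => Subtype.ext (Equiv.ext fun x => by
      by_cases hx : x ∈ Γ
      · have := congrArg (fun q : Equiv.Perm Γ => (q ⟨x, hx⟩ : α)) hab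
        simpa [r] using this
      · rw [((hFmem a).mp a.2).2 x hx, ((hFmem b).mp b.2).2 x hx])
    have := Subgroup.card_dvd_of_injective r hr
    rwa [Nat.card_perm, Nat.card_eq_finsetCard, hgp] at this
  let gF : F := ⟨g, hgF⟩
  have hidx : ¬ p ∣ (Subgroup.zpowers gF).index := fun h => by
    have h1 : p * p ∣ p.factorial := by
      refine dvd_trans ?_ hcardF
      rw [← (Subgroup.zpowers gF).card_mul_index, Nat.card_zpowers, ← Subgroup.orderOf_coe, hord]
      exact Nat.mul_dvd_mul_left p h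
    rw [← Nat.mul_factorial_pred hp.ne_zero] at h1
    exact absurd ((hp.dvd_factorial).mp (Nat.dvd_of_mul_dvd_mul_left hp.pos h1)) (by have := hp.two_le; omega)
  have hPg : IsPGroup p (Subgroup.zpowers gF) := IsPGroup.iff_card.mpr ⟨1, by
    rw [Nat.card_zpowers, ← Subgroup.orderOf_coe, hord, pow_one]⟩
  -- every permutation of `Γᶜ` comes from an element normalising `⟨g⟩`
  have hreal : ∀ σ : Equiv.Perm α, (∀ x, x ∈ Γ → σ x = x) → ∃ y ∈ G, (∀ x, x ∉ Γ → y x = σ x) ∧ ∃ i : ℤ, y * g * y⁻¹ = g ^ i := by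
    intro σ hσ
    have hσΓ : ∀ x, x ∉ Γ → σ x ∉ Γ := fun x hx h => hx (σ.injective (hσ _ h) ▸ h)
    let e : Fin m ≃ {x // x ∉ Γ} := (Fintype.equivFinOfCardEq (by
      rw [Fintype.card_subtype_compl, Fintype.card_coe, hgp])).symm
    let u : Fin m ↪ α := e.toEmbedding.trans (Function.Embedding.subtype _)
    let v : Fin m ↪ α := u.trans σ.toEmbedding
    obtain ⟨⟨x, hx⟩, hxu⟩ := MulAction.isMultiplyPretransitive_iff.mp hmt u v
    have hxs : ∀ a, a ∉ Γ → x a = σ a := fun a ha => by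
      have := congrArg (fun w : Fin m ↪ α => w (e.symm ⟨a, ha⟩)) hxu
      simpa [u, v, Function.Embedding.smul_apply, Subgroup.smul_def, Equiv.Perm.smul_def] using this
    have hxΓ : ∀ a, a ∈ Γ → x a ∈ Γ := fun a ha => by
      by_contra hxa
      have h1 : σ⁻¹ (x a) ∉ Γ := fun h => by
        have := hσ _ h
        rw [Equiv.Perm.inv_def, Equiv.apply_symm_apply] at this
        exact hxa (this ▸ h)
      have h2 := hxs _ h1
      rw [Equiv.Perm.inv_def, Equiv.apply_symm_apply, ← Equiv.Perm.inv_def] at h2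
      exact (x.injective h2 ▸ h1) ha
    have hc : x * g * x⁻¹ ∈ F := by
      rw [hFmem]
      refine ⟨G.mul_mem (G.mul_mem hx hg) (G.inv_mem hx), fun a ha => ?_⟩
      have h1 : x⁻¹ a ∉ Γ := fun h => ha (by simpa using hxΓ _ h)
      rw [Equiv.Perm.mul_apply, Equiv.Perm.mul_apply, Equiv.Perm.notMem_support.mp h1]
      simp [Equiv.Perm.inv_def]
    let cF : F := ⟨x * g * x⁻¹, hc⟩
    have hPc : IsPGroup p (Subgroup.zpowers cF) := IsPGroup.iff_card.mpr ⟨1, by
      rw [Nat.card_zpowers, ← Subgroup.orderOf_coe, pow_one]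
      show orderOf (x * g * x⁻¹) = p
      rw [← MulAut.conj_apply, MulEquiv.orderOf_eq, hord]⟩
    obtain ⟨P₂, hP₂⟩ := hPc.exists_le_sylow
    obtain ⟨f, hf⟩ := MulAction.exists_smul_eq F P₂ (hPg.toSylow hidx)
    have hmem : f * cF * f⁻¹ ∈ Subgroup.zpowers gF := by
      have h1 : f * cF * f⁻¹ ∈ ((f • P₂ : Sylow p F) : Subgroup F) := ⟨cF, hP₂ (Subgroup.mem_zpowers cF), by simp⟩
      rw [hf] at h1
      exact h1
    obtain ⟨i, hi⟩ := Subgroup.mem_zpowers_iff.mp hmem
    refine ⟨(f : Equiv.Perm α) * x, G.mul_mem ((hFmem f).mp f.2).1 hx, fun a ha => ?_, i, ?_⟩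
    · rw [Equiv.Perm.mul_apply, hxs a ha, ((hFmem f).mp f.2).2 _ (hσΓ a ha)]
    · have := congrArg Subtype.val hi
      simp only [Subgroup.coe_zpow, Subgroup.coe_mul, Subgroup.coe_inv, gF, cF] at this
      rw [this]; group
  obtain ⟨a, b, d, ha, hb, hd, hab, had, hbd⟩ := Finset.two_lt_card_iff.mp (show 2 < Γᶜ.card by
    rw [Finset.card_compl, hgp]; omega)
  rw [Finset.mem_compl] at ha hb hd
  set σ := Equiv.swap a b with hσ
  set τ := Equiv.swap b d with hτ
  have hfixσ : ∀ x, x ∈ Γ → σ x = x := fun x hx => Equiv.swap_apply_of_ne_of_ne (fun e => ha (e ▸ hx)) (fun e => hb (e ▸ hx))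
  have hfixτ : ∀ x, x ∈ Γ → τ x = x := fun x hx => Equiv.swap_apply_of_ne_of_ne (fun e => hb (e ▸ hx)) (fun e => hd (e ▸ hx))
  obtain ⟨y, hy, hys, i, hi⟩ := hreal σ hfixσ
  obtain ⟨z, hz, hzs, j, hj⟩ := hreal τ hfixτ
  set c := (z * y)⁻¹ * (y * z) with hc
  have hyn : ∀ k : ℤ, y * g ^ k * y⁻¹ = g ^ (i * k) := fun k => by rw [← conj_zpow, hi, ← zpow_mul]
  have hzn : ∀ k : ℤ, z * g ^ k * z⁻¹ = g ^ (j * k) := fun k => by rw [← conj_zpow, hj, ← zpow_mul]
  have hswap : (y * z) * g * (y * z)⁻¹ = (z * y) * g * (z * y)⁻¹ := by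
    calc (y * z) * g * (y * z)⁻¹ = y * (z * g * z⁻¹) * y⁻¹ := by group
      _ = g ^ (i * j) := by rw [hj, hyn]
      _ = g ^ (j * i) := by rw [mul_comm]
      _ = z * (y * g * y⁻¹) * z⁻¹ := by rw [hi, hzn]
      _ = _ := by group
  have hcg : c * g * c⁻¹ = g := by
    calc c * g * c⁻¹ = (z * y)⁻¹ * ((y * z) * g * (y * z)⁻¹) * (z * y) := by rw [hc]; group
      _ = g := by rw [hswap]; group
  have hyΓ : ∀ x, x ∉ Γ → y⁻¹ x = σ x ∧ σ x ∉ Γ := fun x hx => by
    have h1 : σ x ∉ Γ := fun h => hx (by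
      have h2 := hfixσ _ h
      rw [hσ, Equiv.swap_apply_self] at h2
      rw [← hσ] at h2
      exact h2 ▸ h)
    refine ⟨?_, h1⟩
    rw [Equiv.Perm.inv_eq_iff_eq, hys _ h1, hσ, Equiv.swap_apply_self]
  have hzΓ : ∀ x, x ∉ Γ → z⁻¹ x = τ x ∧ τ x ∉ Γ := fun x hx => by
    have h1 : τ x ∉ Γ := fun h => hx (by
      have h2 := hfixτ _ h
      rw [hτ, Equiv.swap_apply_self] at h2
      rw [← hτ] at h2
      exact h2 ▸ h)
    refine ⟨?_, h1⟩
    rw [Equiv.Perm.inv_eq_iff_eq, hzs _ h1, hτ, Equiv.swap_apply_self]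
  have hcout : ∀ x, x ∉ Γ → c x = σ (τ (σ (τ x))) ∧ σ (τ (σ (τ x))) ∉ Γ := fun x hx => by
    have h1 := (hzΓ x hx).2
    have h2 := (hyΓ _ h1).2
    have h3 := (hzΓ _ h2).2
    refine ⟨?_, (hyΓ _ h3).2⟩
    simp only [hc, mul_inv_rev, Equiv.Perm.mul_apply]
    rw [hzs x hx, hys _ h1, (hzΓ _ h2).1, (hyΓ _ h3).1]
  -- on `Γ` the element `c` is a power of `g`
  obtain ⟨a₀, ha₀, -⟩ := hgc
  have ha₀Γ : a₀ ∈ Γ := Equiv.Perm.mem_support.mpr ha₀
  have hcΓ : c a₀ ∈ Γ := by
    by_contra h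
    have h1 : g (c a₀) = c a₀ := Equiv.Perm.notMem_support.mp h
    have h2 : c (g a₀) = g (c a₀) := by
      have := congrArg (fun q : Equiv.Perm α => q (c a₀)) hcg
      simpa [Equiv.Perm.mul_apply] using this
    rw [h1] at h2
    exact ha₀ (c.injective h2)
  have hsame : Equiv.Perm.SameCycle g a₀ (c a₀) := hgc'.sameCycle ha₀ (Equiv.Perm.mem_support.mp hcΓ)
  obtain ⟨k, hk⟩ := hsame
  have hcomm : Commute c g := mul_inv_eq_iff_eq_mul.mp hcg
  refine ⟨(g ^ k)⁻¹ * c, G.mul_mem (G.inv_mem (G.zpow_mem hg k)) (G.mul_mem (G.inv_mem (G.mul_mem hz hy)) (G.mul_mem hy hz)), ?_⟩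
  have hpt : (g ^ k)⁻¹ * c = σ * τ * σ * τ := by
    refine Equiv.ext fun x => ?_
    by_cases hx : x ∈ Γ
    · have hr : (σ * τ * σ * τ) x = x := by simp [Equiv.Perm.mul_apply, hfixσ _ hx, hfixτ _ hx]
      rw [hr]
      obtain ⟨l, rfl⟩ := hgc'.sameCycle ha₀ (Equiv.Perm.mem_support.mp hx)
      rw [Equiv.Perm.mul_apply, Equiv.Perm.inv_eq_iff_eq]
      have h1 : c ((g ^ l) a₀) = (g ^ l) (c a₀) := by
        rw [← Equiv.Perm.mul_apply, (hcomm.zpow_right l).eq, Equiv.Perm.mul_apply]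
      rw [h1, ← hk, ← Equiv.Perm.mul_apply, ← Equiv.Perm.mul_apply, ← zpow_add, ← zpow_add, add_comm]
    · obtain ⟨h1, h2⟩ := hcout x hx
      rw [Equiv.Perm.mul_apply, h1, Equiv.Perm.inv_eq_iff_eq]
      simp only [Equiv.Perm.mul_apply]
      exact (Equiv.Perm.notMem_support.mp fun h => h2 (Equiv.Perm.support_zpow_le g k h)).symm
  rw [hpt, show σ * τ * σ * τ = (σ * τ) * (σ * τ) by group]
  have h3 : (σ * τ).IsThreeCycle := by
    rw [hσ, hτ, Equiv.swap_comm a b]
    exact Equiv.Perm.isThreeCycle_swap_mul_swap_same hab.symm hbd had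
  have h4 : (σ * τ) * (σ * τ) = (σ * τ)⁻¹ := by
    rw [eq_inv_iff_mul_eq_one, ← pow_two, ← pow_succ, show 2 + 1 = orderOf (σ * τ) from (Equiv.Perm.IsThreeCycle.orderOf h3).symm, pow_orderOf_eq_one]
  rw [h4]
  exact Equiv.Perm.IsThreeCycle.inv h3

/-- Jordan's Theorem: a primitive permutation group of degree `n ≥ 5` containing a `p`-cycle for a prime `p ≤ n - 3` contains the alternating group. -/
theorem result {α : Type*} [Fintype α] [DecidableEq α] (G : Subgroup (Equiv.Perm α)) (hG : MulAction.IsPreprimitive G α) {p : ℕ} (hp : p.Prime) (hn : 5 ≤ Fintype.card α) (hpn : p + 3 ≤ Fintype.card α) {g : Equiv.Perm α} (hgc : g.IsCycle) (hgp : g.support.card = p) (hg : g ∈ G) : alternatingGroup α ≤ G := by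
    obtain ⟨h, hh, h3⟩ := exists_three G hp hG hpn hgc hgp hg
    exact Equiv.Perm.alternatingGroup_le_of_isPreprimitive_of_isThreeCycle_mem hG h3 hh

end Cfsg.Agent.S0713
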