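import Cfsg.Statements.S0892
import Mathlib
-- import your own Cfsg.Agent.* helpers here

set_option autoImplicit false
set_option maxHeartbeats 2000000
open Cfsg

namespace Cfsg.Agent.S0892

open scoped commutatorElement
open Equiv

theorem commute_closure {G : Type*} [Group G] {S : Set G} (hS : ∀ a ∈ S, ∀ b ∈ S, Commute a b) :
    ∀ a ∈ Subgroup.closure S, ∀ b ∈ Subgroup.closure S, Commute a b := by
  intro a ha b hb
  induction hb using Subgroup.closure_induction with
  | mem y hy =>
    induction ha using Subgroup.closure_induction with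
    | mem x hx => exact hS x hx y hy
    | one => exact Commute.one_left _
    | mul p q _ _ hp hq => exact hp.mul_left hq
    | inv p _ hp => exact hp.inv_left
  | one => exact Commute.one_right _
  | mul p q _ _ hp hq => exact hp.mul_right hq
  | inv p _ hp => exact hp.inv_right

/-- The Klein four group in degree four. -/
def klein : Subgroup (Perm (Fin 4)) where
  carrier := {σ | σ * σ = 1 ∧ Perm.sign σ = 1}
  one_mem' := ⟨one_mul 1, map_one _⟩
  mul_mem' := fun {a b} ha hb => by
    revert a b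
    decide +kernel
  inv_mem' := fun {a} ha => by
    revert a
    decide +kernel

theorem mem_klein {σ : Perm (Fin 4)} : σ ∈ klein ↔ σ * σ = 1 ∧ Perm.sign σ = 1 := Iff.rfl

theorem klein_facts :
    (∀ σ : Perm (Fin 4), Perm.sign σ = 1 → ∃ k < 3,
      ((swap (0 : Fin 4) 1 * swap 1 2) ^ k)⁻¹ * σ * (((swap (0 : Fin 4) 1 * swap 1 2) ^ k)⁻¹ * σ) = 1) ∧
    (∀ v : Perm (Fin 4), v * v = 1 ∧ Perm.sign v = 1 → ∃ u : Perm (Fin 4), (u * u = 1 ∧ Perm.sign u = 1) ∧
      (swap (0 : Fin 4) 1 * swap 1 2) * u * (swap (0 : Fin 4) 1 * swap 1 2)⁻¹ * u⁻¹ = v) ∧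
    (∀ v : Perm (Fin 4), v * v = 1 ∧ Perm.sign v = 1 → v = 1 ∨ v = swap 0 1 * swap 2 3 ∨ v = swap 0 2 * swap 1 3 ∨
      v = (swap 0 1 * swap 2 3) * (swap 0 2 * swap 1 3)) := by
  decide +kernel

theorem klein_card : Nat.card klein = 4 := by
  rw [show klein = klein from rfl, Nat.card_congr (Equiv.subtypeEquivRight fun σ => (mem_klein (σ := σ))),
    Nat.card_eq_fintype_card]
  decide +kernel

/-- Degree four, when the preimage of the four group is commutative. -/
theorem four_abelian {Γ : Type*} [Group Γ] [Finite Γ] (π : Γ →* Perm (Fin 4))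
    (hrange : ∀ σ : Perm (Fin 4), Perm.sign σ = 1 → ∃ g, π g = σ) (hrange' : ∀ g, Perm.sign (π g) = 1)
    (hc : π.ker ≤ Subgroup.center Γ) (hd : π.ker ≤ commutator Γ)
    (hW : ∀ u v : Γ, π u ∈ klein → π v ∈ klein → u * v = v * u) : π.ker = ⊥ := by
  classical
  obtain ⟨Y, hY⟩ := hrange (swap (0 : Fin 4) 1 * swap 1 2) (by decide)
  set W := klein.comap π with hWdef
  have hnW : ∀ g, ∀ w ∈ W, g * w * g⁻¹ ∈ W := fun g w hw => by
    rw [hWdef, Subgroup.mem_comap, mem_klein] at hw ⊢
    simp only [map_mul, map_inv, conj_mul, hw.1, mul_one, mul_inv_cancel, true_and, hw.2]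
  let φ : W →* Γ :=
    { toFun := fun w => Y * w * Y⁻¹ * (w : Γ)⁻¹
      map_one' := by simp
      map_mul' := fun a b => by
        have h1 := hW (Y * b * Y⁻¹) (a : Γ)⁻¹ (hnW Y b b.2) (inv_mem (show (a : Γ) ∈ W from a.2))
        have h2 := hW (b : Γ)⁻¹ (a : Γ)⁻¹ (inv_mem (show (b : Γ) ∈ W from b.2)) (inv_mem (show (a : Γ) ∈ W from a.2))
        show Y * ((a : Γ) * b) * Y⁻¹ * ((a : Γ) * b)⁻¹ = _
        calc Y * ((a : Γ) * b) * Y⁻¹ * ((a : Γ) * b)⁻¹ = Y * a * Y⁻¹ * (Y * b * Y⁻¹) * ((b : Γ)⁻¹ * (a : Γ)⁻¹) := by group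
          _ = Y * a * Y⁻¹ * ((Y * b * Y⁻¹) * (a : Γ)⁻¹) * (b : Γ)⁻¹ := by rw [h2]; group
          _ = (Y * a * Y⁻¹ * (a : Γ)⁻¹) * (Y * b * Y⁻¹ * (b : Γ)⁻¹) := by rw [h1]; group }
  set M := φ.range with hM
  have hMW : M ≤ W := by
    rintro _ ⟨w, rfl⟩
    exact mul_mem (hnW Y w w.2) (inv_mem (show (w : Γ) ∈ W from w.2))
  have hgen : ∀ g : Γ, ∃ k : ℕ, ∃ w ∈ W, g = Y ^ k * w := by
    intro g
    obtain ⟨k, -, hk⟩ := klein_facts.1 (π g) (hrange' g)
    refine ⟨k, (Y ^ k)⁻¹ * g, ?_, (mul_inv_cancel_left _ _).symm⟩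
    rw [hWdef, Subgroup.mem_comap, mem_klein, map_mul, map_inv, map_pow, hY]
    refine ⟨hk, ?_⟩
    rw [map_mul, map_inv, map_pow, hrange' g, show Perm.sign (swap (0 : Fin 4) 1 * swap 1 2) = 1 by decide, one_pow,
      inv_one, one_mul]
  haveI hMn : M.Normal := ⟨fun m hm g => by
    obtain ⟨k, w, hw, rfl⟩ := hgen g
    have hmw : w * m * w⁻¹ = m := by rw [hW w m hw (hMW hm), mul_inv_cancel_right]
    rw [show Y ^ k * w * m * (Y ^ k * w)⁻¹ = Y ^ k * (w * m * w⁻¹) * (Y ^ k)⁻¹ by group, hmw]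
    clear hmw
    induction k with
    | zero => simpa using hm
    | succ k ih =>
      obtain ⟨u, hu⟩ := ih
      refine ⟨⟨Y * u * Y⁻¹, hnW Y u u.2⟩, ?_⟩
      show Y * (Y * u * Y⁻¹) * Y⁻¹ * (Y * u * Y⁻¹)⁻¹ = _
      rw [pow_succ', show Y * Y ^ k * m * (Y * Y ^ k)⁻¹ = Y * (Y ^ k * m * (Y ^ k)⁻¹) * Y⁻¹ by group, ← hu]
      show _ = Y * (Y * (u : Γ) * Y⁻¹ * (u : Γ)⁻¹) * Y⁻¹
      group⟩
  have hcomm : commutator Γ ≤ M := by
    rw [commutator_def, Subgroup.commutator_le]
    intro p _ q _
    rw [← QuotientGroup.eq_one_iff]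
    show QuotientGroup.mk' M ⁅p, q⁆ = 1
    rw [map_commutatorElement, commutatorElement_eq_one_iff_mul_comm]
    have hall : ∀ a : Γ, QuotientGroup.mk' M a ∈
        Subgroup.closure (insert (QuotientGroup.mk' M Y) (QuotientGroup.mk' M '' (W : Set Γ))) := by
      intro a
      obtain ⟨k, w, hw, rfl⟩ := hgen a
      rw [map_mul, map_pow]
      exact mul_mem (pow_mem (Subgroup.subset_closure (Set.mem_insert _ _)) k)
        (Subgroup.subset_closure (Set.mem_insert_of_mem _ ⟨w, hw, rfl⟩))
    have hYw : ∀ w ∈ W, Commute (QuotientGroup.mk' M Y) (QuotientGroup.mk' M w) := by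
      intro w hw
      show _ * _ = _ * _
      rw [← mul_inv_eq_iff_eq_mul, ← mul_inv_eq_one, ← map_mul, ← map_inv, ← map_mul, ← map_inv, ← map_mul]
      exact (QuotientGroup.eq_one_iff _).2 ⟨⟨w, hw⟩, rfl⟩
    refine (commute_closure ?_ _ (hall p) _ (hall q)).eq
    rintro a (rfl | ⟨a, ha, rfl⟩) b (rfl | ⟨b, hb, rfl⟩)
    · exact Commute.refl _
    · exact hYw b hb
    · exact (hYw a ha).symm
    · show _ * _ = _ * _
      rw [← map_mul, ← map_mul, hW a b ha hb]
  have hkW : π.ker ≤ W := fun g hg => by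
    rw [hWdef, Subgroup.mem_comap, MonoidHom.mem_ker.1 hg]
    exact one_mem _
  have hcardW : Nat.card π.ker * 4 = Nat.card W := by
    let f : W →* Perm (Fin 4) := π.comp W.subtype
    have hf : f.range = klein := by
      ext σ
      constructor
      · rintro ⟨w, rfl⟩; exact w.2
      · intro hσ
        obtain ⟨g, hg⟩ := hrange σ hσ.2
        exact ⟨⟨g, show π g ∈ klein from hg ▸ hσ⟩, hg⟩
    have h := Subgroup.card_mul_index f.ker
    rw [Subgroup.index_ker, hf, klein_card] at h
    rw [← h]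
    congr 1
    exact (Nat.card_congr (Subgroup.subgroupOfEquivOfLe hkW).toEquiv).symm
  have hMle : Nat.card M ≤ 4 := by
    have h := Subgroup.card_mul_index φ.ker
    rw [Subgroup.index_ker, ← hM, ← hcardW] at h
    have hker : Nat.card π.ker ≤ Nat.card φ.ker := by
      rw [← Nat.card_congr (Subgroup.subgroupOfEquivOfLe hkW).toEquiv]
      refine Nat.le_of_dvd Nat.card_pos (Subgroup.card_dvd_of_le fun w hw => ?_)
      show Y * (w : Γ) * Y⁻¹ * (w : Γ)⁻¹ = 1
      rw [Subgroup.mem_center_iff.1 (hc (show (w : Γ) ∈ π.ker from hw)) Y]; group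
    have := Nat.card_pos (α := π.ker)
    nlinarith [Nat.mul_le_mul_right (Nat.card M) hker]
  have hM4 : Nat.card π.ker * 4 ≤ Nat.card M := by
    let f : M →* Perm (Fin 4) := π.comp M.subtype
    have hf : klein ≤ f.range := by
      intro v hv
      obtain ⟨u, hu, huv⟩ := klein_facts.2.1 v hv
      obtain ⟨g, hg⟩ := hrange u hu.2
      refine ⟨⟨φ ⟨g, show π g ∈ klein from hg ▸ hu⟩, ⟨_, rfl⟩⟩, ?_⟩
      show π (Y * g * Y⁻¹ * g⁻¹) = v
      rw [map_mul, map_mul, map_mul, map_inv, map_inv, hY, hg, huv]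
    have h := Subgroup.card_mul_index f.ker
    rw [Subgroup.index_ker] at h
    rw [← h]
    refine Nat.mul_le_mul (le_of_eq (Nat.card_congr (Subgroup.subgroupOfEquivOfLe (hd.trans hcomm)).toEquiv).symm) ?_
    exact klein_card.symm.le.trans (Nat.le_of_dvd Nat.card_pos (Subgroup.card_dvd_of_le hf))
  exact Subgroup.eq_bot_of_card_eq _ (by have := Nat.card_pos (α := π.ker); omega)

/-- Degree four. -/
theorem four_case {Γ : Type*} [Group Γ] [Finite Γ] (π : Γ →* Perm (Fin 4))
    (hrange : ∀ σ : Perm (Fin 4), Perm.sign σ = 1 → ∃ g, π g = σ) (hrange' : ∀ g, Perm.sign (π g) = 1)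
    (hc : π.ker ≤ Subgroup.center Γ) (hd : π.ker ≤ commutator Γ) : Nat.card π.ker ≤ 2 := by
  classical
  obtain ⟨A, hA⟩ := hrange (swap (0 : Fin 4) 1 * swap 2 3) (by decide)
  obtain ⟨B, hB⟩ := hrange (swap (0 : Fin 4) 2 * swap 1 3) (by decide)
  set z := ⁅A, B⁆ with hz
  have hzk : z ∈ π.ker := by
    rw [MonoidHom.mem_ker, hz, map_commutatorElement, hA, hB]; decide
  have hzc := Subgroup.mem_center_iff.1 (hc hzk)
  have hz2 : z * z = 1 := by
    have h1 : ⁅A * A, B⁆ = z * z := by
      rw [show ⁅A * A, B⁆ = A * ⁅A, B⁆ * A⁻¹ * ⁅A, B⁆ by simp only [commutatorElement_def]; group, ← hz, hzc A,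
        mul_inv_cancel_right]
    rw [← h1, commutatorElement_eq_one_iff_mul_comm]
    exact (Subgroup.mem_center_iff.1 (hc (by rw [MonoidHom.mem_ker, map_mul, hA]; decide)) B).symm
  set N := Subgroup.zpowers z with hN
  haveI : N.Normal := ⟨fun a ha g => by
    obtain ⟨k, rfl⟩ := ha
    have hcom : Commute g (z ^ k) := (show Commute g z from hzc g).zpow_right k
    rw [hcom.eq, mul_inv_cancel_right]
    exact ⟨k, rfl⟩⟩
  have hNk : N ≤ π.ker := Subgroup.zpowers_le.2 hzk
  let π' : Γ ⧸ N →* Perm (Fin 4) := QuotientGroup.lift N π hNk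
  let q := QuotientGroup.mk' N
  have hπ' : ∀ g, π' (q g) = π g := fun g => rfl
  have hq := QuotientGroup.mk'_surjective N
  have hker : π'.ker = π.ker.map q := by
    ext y
    obtain ⟨g, rfl⟩ := hq y
    constructor
    · exact fun h => ⟨g, h, rfl⟩
    · rintro ⟨g', hg', he⟩
      rw [MonoidHom.mem_ker, ← he, hπ']; exact hg'
  have hgens : ∀ u : Γ, π u ∈ klein → q u ∈ Subgroup.closure (q '' ({A, B} ∪ (π.ker : Set Γ))) := by
    intro u hu
    have hsub : ∀ w, w ∈ ({A, B} ∪ (π.ker : Set Γ) : Set Γ) → q w ∈ Subgroup.closure (q '' ({A, B} ∪ (π.ker : Set Γ))) :=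
      fun w hw => Subgroup.subset_closure ⟨w, hw, rfl⟩
    have hmul : ∀ g, (q g ∈ Subgroup.closure (q '' ({A, B} ∪ (π.ker : Set Γ)))) → π g = π u →
        q u ∈ Subgroup.closure (q '' ({A, B} ∪ (π.ker : Set Γ))) := by
      intro g hg he
      rw [show u = g * (g⁻¹ * u) by group, map_mul]
      exact mul_mem hg (hsub _ (Or.inr (by
        show π (g⁻¹ * u) = 1
        rw [map_mul, map_inv, he, inv_mul_cancel])))
    rcases klein_facts.2.2 _ hu with h | h | h | h
    · exact hmul 1 (by rw [map_one]; exact one_mem _) (by rw [map_one, h])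
    · exact hmul A (hsub A (Or.inl (Or.inl rfl))) (by rw [hA, h])
    · exact hmul B (hsub B (Or.inl (Or.inr rfl))) (by rw [hB, h])
    · exact hmul (A * B) (by rw [map_mul]; exact mul_mem (hsub A (Or.inl (Or.inl rfl))) (hsub B (Or.inl (Or.inr rfl))))
        (by rw [map_mul, hA, hB, h])
  have hqAB : Commute (q A) (q B) := by
    rw [← commutatorElement_eq_one_iff_commute, ← map_commutatorElement]
    exact (QuotientGroup.eq_one_iff _).2 (Subgroup.mem_zpowers z)
  have hqc : ∀ w ∈ π.ker, ∀ g, Commute (q g) (q w) := fun w hw g =>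
    (show Commute g w from Subgroup.mem_center_iff.1 (hc hw) g).map q
  have h := four_abelian π' (fun σ hσ => (hrange σ hσ).elim fun g hg => ⟨q g, hg⟩)
    (fun y => by obtain ⟨g, rfl⟩ := hq y; exact hrange' g)
    (by
      rw [hker]
      rintro _ ⟨w, hw, rfl⟩
      rw [Subgroup.mem_center_iff]
      intro y
      obtain ⟨g, rfl⟩ := hq y
      exact (hqc w hw g).eq)
    (by
      rw [hker]
      calc π.ker.map q ≤ (commutator Γ).map q := Subgroup.map_mono hd
        _ ≤ commutator (Γ ⧸ N) := by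
          rw [commutator_def, Subgroup.map_commutator]
          exact Subgroup.commutator_mono le_top le_top)
    (by
      intro y y' hy hy'
      obtain ⟨u, rfl⟩ := hq y
      obtain ⟨v, rfl⟩ := hq y'
      refine (commute_closure ?_ _ (hgens u hy) _ (hgens v hy')).eq
      rintro _ ⟨a, ha, rfl⟩ _ ⟨b, hb, rfl⟩
      rcases ha with (rfl | rfl) | ha <;> rcases hb with (rfl | rfl) | hb
      all_goals first
        | exact Commute.refl _
        | exact hqAB
        | exact hqAB.symm
        | exact hqc _ hb _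
        | exact (hqc _ ha _).symm)
  rw [hker, Subgroup.map_eq_bot_iff, QuotientGroup.ker_mk'] at h
  refine (Nat.le_of_dvd Nat.card_pos (Subgroup.card_dvd_of_le h)).trans ?_
  rw [hN, Nat.card_zpowers]
  exact orderOf_le_of_pow_eq_one two_pos (by rw [pow_two, hz2])

theorem conj_swap {n : ℕ} (g : Perm (Fin n)) (x y : Fin n) : g * swap x y * g⁻¹ = swap (g x) (g y) := by
  rw [mul_inv_eq_iff_eq_mul, Equiv.mul_swap_eq_swap_mul]

/-- Degree five and at least eight. -/
theorem big_case {Γ : Type*} [Group Γ] [Finite Γ] (n : ℕ) (hn : n = 5 ∨ 8 ≤ n) (π : Γ →* Perm (Fin n))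
    (hrange : ∀ σ : Perm (Fin n), Perm.sign σ = 1 → ∃ g, π g = σ) (hrange' : ∀ g, Perm.sign (π g) = 1)
    (hc : π.ker ≤ Subgroup.center Γ) (hd : π.ker ≤ commutator Γ) : Nat.card π.ker ≤ 2 := by
  classical
  have h5 : 5 ≤ n := by omega
  have hker : ∀ g h : Γ, π g = π h → ∃ c ∈ π.ker, g = h * c := fun g h e =>
    ⟨h⁻¹ * g, by rw [MonoidHom.mem_ker, map_mul, map_inv, e, inv_mul_cancel], by group⟩
  have hcen : ∀ c ∈ π.ker, ∀ g : Γ, g * c = c * g := fun c hc' g => Subgroup.mem_center_iff.1 (hc hc') g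
  set a : Fin n := ⟨0, by omega⟩ with ha
  set b : Fin n := ⟨1, by omega⟩ with hb
  set i0 : Fin n := ⟨2, by omega⟩ with hi0
  set x : Fin n → Perm (Fin n) := fun i => swap a b * swap b i with hx
  have hab : a ≠ b := by simp [ha, hb, Fin.ext_iff]
  let Good : Fin n → Prop := fun i => i ≠ a ∧ i ≠ b
  have hgi0 : Good i0 := by constructor <;> simp [ha, hb, hi0, Fin.ext_iff]
  have hsign : ∀ p q r s : Fin n, p ≠ q → r ≠ s → Perm.sign (swap p q * swap r s) = 1 := fun p q r s h1 h2 => by
    rw [map_mul, Perm.sign_swap h1, Perm.sign_swap h2]; rfl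
  have hxs : ∀ i, Good i → Perm.sign (x i) = 1 := fun i hi => hsign _ _ _ _ hab hi.2.symm
  have hxa : ∀ i, Good i → x i a = b := fun i hi => by
    simp [hx, swap_apply_of_ne_of_ne hab hi.1.symm]
  have hxb : ∀ i, Good i → x i b = i := fun i hi => by
    simp [hx, swap_apply_of_ne_of_ne hi.1 hi.2]
  have hxi : ∀ i, Good i → x i i = a := fun i hi => by simp [hx]
  have hxo : ∀ i, ∀ p, p ≠ a → p ≠ b → p ≠ i → x i p = p := fun i p h1 h2 h3 => by
    simp [hx, swap_apply_of_ne_of_ne h2 h3, swap_apply_of_ne_of_ne h1 h2]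
  have hconj : ∀ (g : Perm (Fin n)) i, g * x i * g⁻¹ = swap (g a) (g b) * swap (g b) (g i) := fun g i => by
    rw [← conj_swap g a b, ← conj_swap g b i]; simp only [hx]; group
  -- an element inverting the basic three-cycle
  set i1 : Fin n := ⟨3, by omega⟩ with hi1
  set i2 : Fin n := ⟨4, by omega⟩ with hi2
  have h34 : i1 ≠ i2 := by simp [hi1, hi2, Fin.ext_iff]
  obtain ⟨Y, hY⟩ := hrange (x i0) (hxs _ hgi0)
  obtain ⟨g0, hg0⟩ := hrange (swap a b * swap i1 i2) (hsign _ _ _ _ hab h34)
  have hinv0 : π g0 * x i0 * (π g0)⁻¹ = (x i0)⁻¹ := by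
    have e1 : (swap a b * swap i1 i2 : Perm (Fin n)) a = b := by
      simp [swap_apply_of_ne_of_ne (show a ≠ i1 by simp [ha, hi1, Fin.ext_iff]) (show a ≠ i2 by simp [ha, hi2, Fin.ext_iff])]
    have e2 : (swap a b * swap i1 i2 : Perm (Fin n)) b = a := by
      simp [swap_apply_of_ne_of_ne (show b ≠ i1 by simp [hb, hi1, Fin.ext_iff]) (show b ≠ i2 by simp [hb, hi2, Fin.ext_iff])]
    have e3 : (swap a b * swap i1 i2 : Perm (Fin n)) i0 = i0 := by
      simp [swap_apply_of_ne_of_ne (show i0 ≠ i1 by simp [hi0, hi1, Fin.ext_iff]) (show i0 ≠ i2 by simp [hi0, hi2, Fin.ext_iff]),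
        swap_apply_of_ne_of_ne hgi0.1 hgi0.2]
    rw [hconj, hg0, e1, e2, e3, hx, mul_inv_rev, swap_inv, swap_inv]
    have h := conj_swap (swap a b) b i0
    rw [swap_apply_right, swap_apply_of_ne_of_ne hgi0.1 hgi0.2, swap_inv] at h
    rw [← h, swap_comm b a]
    simp [← mul_assoc]
  obtain ⟨c, hck, hcY⟩ := hker (g0 * Y * g0⁻¹) Y⁻¹ (by rw [map_mul, map_mul, map_inv, map_inv, hY, hinv0])
  set z0 := Y ^ 3 with hz0
  have hx3 : x i0 ^ 3 = 1 := by
    refine Equiv.ext fun p => ?_
    simp only [pow_succ, pow_zero, one_mul, Perm.mul_apply, Perm.one_apply]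
    by_cases h1 : p = a
    · subst h1; rw [hxa _ hgi0, hxb _ hgi0, hxi _ hgi0]
    by_cases h2 : p = b
    · subst h2; rw [hxb _ hgi0, hxi _ hgi0, hxa _ hgi0]
    by_cases h3 : p = i0
    · subst h3; rw [hxi _ hgi0, hxa _ hgi0, hxb _ hgi0]
    simp [hxo _ _ h1 h2 h3]
  have hz0k : z0 ∈ π.ker := by rw [MonoidHom.mem_ker, hz0, map_pow, hY, hx3]
  have hz0c : z0⁻¹ * c ∈ π.ker := mul_mem (inv_mem hz0k) hck
  have hrel : z0 * z0 = c ^ 3 := by
    have h1 : g0 * z0 * g0⁻¹ = z0 := by rw [hcen z0 hz0k g0, mul_inv_cancel_right]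
    rw [hz0, ← conj_pow, hcY, (show Commute Y⁻¹ c from hcen c hck Y⁻¹).mul_pow, inv_pow, ← hz0] at h1
    have e := congrArg (z0 * ·) h1
    simp only [mul_inv_cancel_left] at e
    exact e.symm
  set d := z0⁻¹ * c with hdd
  set X0 := Y * d with hX0
  have hd3 : z0 * d ^ 3 = 1 := by
    rw [hdd, (show Commute z0⁻¹ c from hcen c hck z0⁻¹).mul_pow, ← hrel]
    group
  have hX03 : X0 ^ 3 = 1 := by
    rw [hX0, (show Commute Y d from hcen d hz0c Y).mul_pow, ← hz0, hd3]
  have hX0i : g0 * X0 * g0⁻¹ = X0⁻¹ := by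
    have hcd : c * (d * d) = 1 := by
      have h : c * (d * d) = c * c * c * (z0⁻¹ * z0⁻¹) := by
        rw [hdd]
        have k1 := hcen c hck z0⁻¹
        calc c * (z0⁻¹ * c * (z0⁻¹ * c)) = c * ((z0⁻¹ * c) * (c * z0⁻¹)) := by rw [k1]
          _ = c * (z0⁻¹ * (c * c)) * z0⁻¹ := by group
          _ = c * ((c * c) * z0⁻¹) * z0⁻¹ := by
            rw [(show Commute z0⁻¹ (c * c) from (show Commute z0⁻¹ c from k1).mul_right k1).eq]
          _ = c * c * c * (z0⁻¹ * z0⁻¹) := by group
      rw [h, ← pow_three' c, ← hrel]; group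
    rw [hX0, mul_inv_rev]
    calc g0 * (Y * d) * g0⁻¹ = (g0 * Y * g0⁻¹) * d := by
          rw [mul_assoc g0, mul_assoc Y, ← hcen d hz0c g0⁻¹]; group
      _ = Y⁻¹ * (c * d) := by rw [hcY, mul_assoc]
      _ = Y⁻¹ * d⁻¹ := by rw [eq_inv_of_mul_eq_one_left (show c * d * d = 1 by rw [mul_assoc]; exact hcd)]
      _ = d⁻¹ * Y⁻¹ := hcen _ (inv_mem hz0c) Y⁻¹
  have hX0π : π X0 = x i0 := by rw [hX0, map_mul, MonoidHom.mem_ker.1 hz0c, mul_one, hY]
  -- the centraliser of the three-cycle fixes the lift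
  have huniq : ∀ h : Γ, π h * x i0 = x i0 * π h → h * X0 * h⁻¹ = X0 := by
    have hmove : ∀ h h' : Γ, π h = π h' → h * X0 * h⁻¹ = h' * X0 * h'⁻¹ := fun h h' e => by
      obtain ⟨c, hc', rfl⟩ := hker h h' e
      rw [mul_inv_rev, mul_assoc h' c X0, ← hcen c hc' X0]
      group
    set T : Finset (Fin n) := {a, b, i0} with hT
    let α' := {p : Fin n // p ∉ T}
    have hcardα : Fintype.card α' = n - 3 := by
      rw [Fintype.card_subtype_compl, Fintype.card_fin, Fintype.card_coe]
      have : T.card = 3 := by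
        rw [hT, Finset.card_insert_of_notMem, Finset.card_pair hgi0.2.symm]
        simp [hab, hgi0.1.symm]
      omega
    let f : alternatingGroup α' →* Perm (Fin n) := Perm.ofSubtype.comp (alternatingGroup α').subtype
    have hlift : ∀ r, ∃ g, π g = f r := fun r => hrange _ (by
      show Perm.sign (Perm.ofSubtype (r : Perm α')) = 1
      rw [Perm.sign_ofSubtype]
      exact r.2)
    choose L hL using hlift
    have hLk : ∀ r, L r * X0 * (L r)⁻¹ * X0⁻¹ ∈ π.ker := fun r => by
      rw [MonoidHom.mem_ker, map_mul, map_mul, map_mul, map_inv, map_inv, hL, hX0π, mul_inv_eq_one,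
        mul_inv_eq_iff_eq_mul]
      refine Equiv.ext fun p => ?_
      show f r (x i0 p) = x i0 (f r p)
      by_cases hp : p ∈ T
      · have hxp : x i0 p ∈ T := by
          simp only [hT, Finset.mem_insert, Finset.mem_singleton] at hp ⊢
          rcases hp with rfl | rfl | rfl
          · right; left; exact hxa _ hgi0
          · right; right; exact hxb _ hgi0
          · left; exact hxi _ hgi0
        rw [show f r (x i0 p) = x i0 p from Perm.ofSubtype_apply_of_not_mem _ (not_not.2 hxp),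
          show f r p = p from Perm.ofSubtype_apply_of_not_mem _ (not_not.2 hp)]
      · have hfp : f r p ∉ T := by
          rw [show f r p = ((r : Perm α') ⟨p, hp⟩ : α') from Perm.ofSubtype_apply_of_mem (r : Perm α') (show (fun q => q ∉ T) p from hp)]
          exact ((r : Perm α') ⟨p, hp⟩).2
        have hfix : ∀ q, q ∉ T → x i0 q = q := fun q hq => by
          simp only [hT, Finset.mem_insert, Finset.mem_singleton, not_or] at hq
          exact hxo _ _ hq.1 hq.2.1 hq.2.2
        rw [hfix p hp, hfix _ hfp]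
    let ψ : alternatingGroup α' →* π.ker :=
      { toFun := fun r => ⟨_, hLk r⟩
        map_one' := Subtype.ext (by
          show L 1 * X0 * (L 1)⁻¹ * X0⁻¹ = 1
          rw [hmove (L 1) 1 (by rw [hL, map_one, map_one]), one_mul, inv_one, mul_one, mul_inv_cancel])
        map_mul' := fun r s => Subtype.ext (by
          show L (r * s) * X0 * (L (r * s))⁻¹ * X0⁻¹ = L r * X0 * (L r)⁻¹ * X0⁻¹ * (L s * X0 * (L s)⁻¹ * X0⁻¹)
          rw [hmove (L (r * s)) (L r * L s) (by rw [hL, map_mul, map_mul, hL, hL])]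
          have k := hcen _ (hLk s) (L r)
          calc L r * L s * X0 * (L r * L s)⁻¹ * X0⁻¹
              = L r * (L s * X0 * (L s)⁻¹ * X0⁻¹) * (X0 * (L r)⁻¹ * X0⁻¹) := by group
            _ = (L s * X0 * (L s)⁻¹ * X0⁻¹) * (L r * X0 * (L r)⁻¹ * X0⁻¹) := by rw [k]; group
            _ = _ := (hcen _ (hLk s) _).symm) }
    have hψ : ∀ r, ψ r = 1 := by
      rcases hn with h | h
      · intro r
        haveI : Subsingleton (alternatingGroup α') := by
          have hle : Fintype.card α' = 2 := by rw [hcardα]; omega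
          haveI : Nontrivial α' := Fintype.one_lt_card_iff_nontrivial.1 (by omega)
          have hc := two_mul_nat_card_alternatingGroup (α := α')
          rw [Nat.card_perm, Nat.card_eq_fintype_card (α := α'), hle, Nat.factorial_two] at hc
          exact (Nat.card_eq_one_iff_unique.1 (show Nat.card (alternatingGroup α') = 1 by omega)).1
        rw [Subsingleton.elim r 1, map_one]
      · intro r
        haveI : IsMulCommutative π.ker := ⟨⟨fun u v => Subtype.ext (hcen v v.2 u)⟩⟩
        haveI : IsSimpleGroup (alternatingGroup α') := alternatingGroup.isSimpleGroup (by rw [Nat.card_eq_fintype_card, hcardα]; omega)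
        have hle : commutator (alternatingGroup α') ≤ ψ.ker := by
          rw [commutator_def, Subgroup.commutator_le]
          intro u _ v _
          rw [MonoidHom.mem_ker, map_commutatorElement, commutatorElement_eq_one_iff_mul_comm]
          exact mul_comm' _ _
        rcases (inferInstance : (commutator (alternatingGroup α')).Normal).eq_bot_or_eq_top with h' | h'
        · exfalso
          have hc2 := alternatingGroup.center_eq_bot (α := α') (by rw [Nat.card_eq_fintype_card, hcardα]; omega)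
          rw [(commutator_eq_bot_iff_center_eq_top _).1 h'] at hc2
          exact bot_ne_top hc2.symm
        · exact MonoidHom.mem_ker.1 (hle (h'.ge (Subgroup.mem_top r)))
    intro h hh
    have hka : ∀ p, x i0 p ≠ p → π h p ∈ T := fun p hp => by
      by_contra hq
      simp only [hT, Finset.mem_insert, Finset.mem_singleton, not_or] at hq
      have h1 := congrArg (fun σ : Perm (Fin n) => σ p) hh
      simp only [Perm.mul_apply] at h1
      rw [hxo _ _ hq.1 hq.2.1 hq.2.2] at h1
      exact hp ((π h).injective h1)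
    obtain ⟨k, hk⟩ : ∃ k : ℕ, π h a = (x i0 ^ k) a := by
      have := hka a (by rw [hxa _ hgi0]; exact hab.symm)
      simp only [hT, Finset.mem_insert, Finset.mem_singleton] at this
      rcases this with e | e | e
      · exact ⟨0, by simp [e]⟩
      · exact ⟨1, by rw [pow_one, hxa _ hgi0, e]⟩
      · exact ⟨2, by rw [pow_two, Perm.mul_apply, hxa _ hgi0, hxb _ hgi0, e]⟩
    set σ := (x i0 ^ k)⁻¹ * π h with hσ
    have hσc : σ * x i0 = x i0 * σ := by
      rw [hσ, mul_assoc, hh]
      simp only [← mul_assoc]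
      rw [((Commute.refl (x i0)).pow_left k).inv_left.eq]
    have hσa : σ a = a := by rw [hσ, Perm.mul_apply, hk]; exact (x i0 ^ k).symm_apply_apply a
    have hσb : σ b = b := by
      have h1 := congrArg (fun τ : Perm (Fin n) => τ a) hσc
      simp only [Perm.mul_apply, hσa, hxa _ hgi0] at h1
      exact h1
    have hσi : σ i0 = i0 := by
      have h1 := congrArg (fun τ : Perm (Fin n) => τ b) hσc
      simp only [Perm.mul_apply, hσb, hxb _ hgi0] at h1
      exact h1
    have hfix : ∀ p, σ p ≠ p → p ∉ T := fun p hp hpT => by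
      simp only [hT, Finset.mem_insert, Finset.mem_singleton] at hpT
      rcases hpT with rfl | rfl | rfl
      · exact hp hσa
      · exact hp hσb
      · exact hp hσi
    have hinv : ∀ p, σ p ∉ T ↔ p ∉ T := fun p => by
      by_cases hp : σ p = p
      · rw [hp]
      · exact iff_of_true (hfix _ fun e => hp (σ.injective e)) (hfix p hp)
    have hσs : Perm.sign (σ.subtypePerm hinv : Perm α') = 1 := by
      rw [Perm.sign_subtypePerm _ hinv hfix, hσ, map_mul, map_inv, map_pow, hxs _ hgi0, hrange' h, one_pow, inv_one, one_mul]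
    set r : alternatingGroup α' := ⟨σ.subtypePerm hinv, hσs⟩
    have hfr : f r = σ := Perm.ofSubtype_subtypePerm hinv hfix
    have h1 : L r * X0 * (L r)⁻¹ = X0 := mul_inv_eq_one.1 (congrArg Subtype.val (hψ r))
    rw [hmove h (X0 ^ k * L r) (by rw [map_mul, map_pow, hX0π, hL, hfr, hσ, mul_inv_cancel_left]), mul_inv_rev,
      show X0 ^ k * L r * X0 * ((L r)⁻¹ * (X0 ^ k)⁻¹) = X0 ^ k * (L r * X0 * (L r)⁻¹) * (X0 ^ k)⁻¹ by group, h1,
      ← pow_succ, pow_succ', mul_inv_cancel_right]
  -- the lifts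
  have hgi : ∀ i, ∃ g : Γ, Good i → π g * x i0 * (π g)⁻¹ = x i := by
    intro i
    by_cases hi : Good i
    swap
    · exact ⟨1, fun h => absurd h hi⟩
    by_cases hii : i = i0
    · exact ⟨1, fun _ => by rw [map_one, one_mul, inv_one, mul_one, hii]⟩
    obtain ⟨k, hk⟩ : ∃ k, k ∉ ({a, b, i0, i} : Finset (Fin n)) := by
      by_contra hall
      push_neg at hall
      have h1 := Finset.card_le_card (show (Finset.univ : Finset (Fin n)) ⊆ {a, b, i0, i} from fun p _ => hall p)
      rw [Finset.card_univ, Fintype.card_fin] at h1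
      have := h1.trans Finset.card_le_four
      omega
    simp only [Finset.mem_insert, Finset.mem_singleton, not_or] at hk
    obtain ⟨g, hg⟩ := hrange (swap i0 i * swap i k) (hsign _ _ _ _ (Ne.symm hii) (Ne.symm hk.2.2.2))
    refine ⟨g, fun _ => ?_⟩
    rw [hconj, hg]
    simp [hx, swap_apply_of_ne_of_ne hi.1.symm (Ne.symm hk.1), swap_apply_of_ne_of_ne hgi0.1.symm hi.1.symm,
      swap_apply_of_ne_of_ne hi.2.symm (Ne.symm hk.2.1), swap_apply_of_ne_of_ne hgi0.2.symm hi.2.symm,
      swap_apply_of_ne_of_ne (Ne.symm hii) (Ne.symm hk.2.2.1)]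
  choose gi hgi using hgi
  set X : Fin n → Γ := fun i => gi i * X0 * (gi i)⁻¹ with hX
  have hXπ : ∀ i, Good i → π (X i) = x i := fun i hi => by rw [hX, map_mul, map_mul, map_inv, hX0π, hgi i hi]
  have hX3 : ∀ i, X i * X i * X i = 1 := fun i => by
    rw [hX, conj_mul, conj_mul, ← pow_three' X0, hX03, mul_one, mul_inv_cancel]
  have hconjX : ∀ i j, Good i → Good j → ∀ g : Γ,
      (π g * x i * (π g)⁻¹ = x j → g * X i * g⁻¹ = X j) ∧
      (π g * x i * (π g)⁻¹ = (x j)⁻¹ → g * X i * g⁻¹ = (X j)⁻¹) := by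
    intro i j hi hj g
    constructor
    · intro e
      have h := huniq ((gi j)⁻¹ * g * gi i) (by
        rw [← mul_inv_eq_iff_eq_mul]
        simp only [map_mul, map_inv, mul_inv_rev, inv_inv]
        calc _ = (π (gi j))⁻¹ * (π g * (π (gi i) * x i0 * (π (gi i))⁻¹) * (π g)⁻¹) * π (gi j) := by group
          _ = (π (gi j))⁻¹ * (π (gi j) * x i0 * (π (gi j))⁻¹) * π (gi j) := by rw [hgi i hi, e, hgi j hj]
          _ = x i0 := by group)
      calc g * X i * g⁻¹ = gi j * (((gi j)⁻¹ * g * gi i) * X0 * ((gi j)⁻¹ * g * gi i)⁻¹) * (gi j)⁻¹ := by rw [hX]; group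
        _ = X j := by rw [h]
    · intro e
      have h := huniq (g0⁻¹ * ((gi j)⁻¹ * g * gi i)) (by
        rw [← mul_inv_eq_iff_eq_mul]
        simp only [map_mul, map_inv, mul_inv_rev, inv_inv]
        calc _ = (π g0)⁻¹ * ((π (gi j))⁻¹ * (π g * (π (gi i) * x i0 * (π (gi i))⁻¹) * (π g)⁻¹) * π (gi j)) * π g0 := by group
          _ = (π g0)⁻¹ * ((π (gi j))⁻¹ * (π (gi j) * x i0 * (π (gi j))⁻¹)⁻¹ * π (gi j)) * π g0 := by
            rw [hgi i hi, e, hgi j hj]
          _ = (π g0)⁻¹ * (π g0 * x i0 * (π g0)⁻¹) * π g0 := by rw [hinv0]; group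
          _ = x i0 := by group)
      calc g * X i * g⁻¹ = gi j * (g0 * ((g0⁻¹ * ((gi j)⁻¹ * g * gi i)) * X0 * (g0⁻¹ * ((gi j)⁻¹ * g * gi i))⁻¹) * g0⁻¹) *
            (gi j)⁻¹ := by rw [hX]; group
        _ = gi j * X0⁻¹ * (gi j)⁻¹ := by rw [h, hX0i]
        _ = (X j)⁻¹ := by rw [hX]; group
  set Zp : Fin n → Fin n → Γ := fun i j => X i * X j * (X i * X j) with hZp
  have hdt : ∀ i j, Good i → Good j → i ≠ j → (x i * x j) * (x i * x j) = 1 := by
    intro i j hi hj hij
    refine Equiv.ext fun p => ?_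
    simp only [Perm.mul_apply, Perm.one_apply]
    by_cases h1 : p = a
    · subst h1
      rw [hxa j hj, hxb i hi, hxo j i hi.1 hi.2 hij, hxi i hi]
    by_cases h2 : p = b
    · subst h2
      rw [hxb j hj, hxo i j hj.1 hj.2 (Ne.symm hij), hxi j hj, hxa i hi]
    by_cases h3 : p = i
    · subst h3
      rw [hxo j p hi.1 hi.2 hij, hxi p hi, hxa j hj, hxb p hi]
    by_cases h4 : p = j
    · subst h4
      rw [hxi p hj, hxa i hi, hxb p hj, hxo i p hj.1 hj.2 (Ne.symm hij)]
    rw [hxo j p h1 h2 h4, hxo i p h1 h2 h3, hxo j p h1 h2 h4, hxo i p h1 h2 h3]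
  have hZk : ∀ i j, Good i → Good j → i ≠ j → Zp i j ∈ π.ker := fun i j hi hj hij => by
    rw [MonoidHom.mem_ker, hZp, map_mul, map_mul, hXπ i hi, hXπ j hj, hdt i j hi hj hij]
  have hsym : ∀ i j, Good i → Good j → i ≠ j → Zp j i = Zp i j := fun i j hi hj hij => by
    calc Zp j i = (X i)⁻¹ * Zp i j * X i := by simp only [hZp]; group
      _ = Zp i j := by rw [mul_assoc, ← hcen _ (hZk i j hi hj hij) (X i), inv_mul_cancel_left]
  have hflip : ∀ i j q, Good i → Good j → Good q → i ≠ j → i ≠ q → (∀ g : Γ,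
      π g * x i * (π g)⁻¹ = (x i)⁻¹ → π g * x j * (π g)⁻¹ = (x q)⁻¹ → Zp i j = (Zp q i)⁻¹) := by
    intro i j q hi hj hq hij hiq g e1 e2
    have h1 := (hconjX i i hi hi g).2 e1
    have h2 := (hconjX j q hj hq g).2 e2
    have h3 : g * Zp i j * g⁻¹ = Zp i j := by rw [hcen _ (hZk i j hi hj hij) g, mul_inv_cancel_right]
    rw [← h3]
    simp only [hZp]
    rw [← conj_mul, ← conj_mul, h1, h2]
    group
  have hswap2 : ∀ p q, p ≠ a → p ≠ b → q ≠ a → q ≠ b → p ≠ q → ∃ g : Γ, ∀ i, Good i →
      π g * x i * (π g)⁻¹ = (x (swap p q i))⁻¹ := by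
    intro p q h1 h2 h3 h4 h5
    obtain ⟨g, hg⟩ := hrange (swap a b * swap p q) (hsign _ _ _ _ hab h5)
    refine ⟨g, fun i hi => ?_⟩
    have e1 : (swap a b * swap p q : Perm (Fin n)) a = b := by simp [swap_apply_of_ne_of_ne h1.symm h3.symm]
    have e2 : (swap a b * swap p q : Perm (Fin n)) b = a := by simp [swap_apply_of_ne_of_ne h2.symm h4.symm]
    have hgood : swap p q i ≠ a ∧ swap p q i ≠ b := by
      constructor <;> intro e <;> apply_fun swap p q at e <;>
        simp [swap_apply_of_ne_of_ne h1.symm h3.symm, swap_apply_of_ne_of_ne h2.symm h4.symm] at e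
      · exact hi.1 e
      · exact hi.2 e
    have e3 : (swap a b * swap p q : Perm (Fin n)) i = swap p q i := by simp [swap_apply_of_ne_of_ne hgood.1 hgood.2]
    rw [hconj, hg, e1, e2, e3, hx, mul_inv_rev, swap_inv, swap_inv]
    have h := conj_swap (swap a b) b (swap p q i)
    rw [swap_apply_right, swap_apply_of_ne_of_ne hgood.1 hgood.2, swap_inv] at h
    rw [← h, swap_comm b a]
    simp [← mul_assoc]
  have hsq1 : ∀ i j, Good i → Good j → i ≠ j → Zp i j = (Zp i j)⁻¹ := by
    intro i j hi hj hij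
    obtain ⟨g, hg⟩ := hswap2 i j hi.1 hi.2 hj.1 hj.2 hij
    have h1 := hg i hi
    have h2 := hg j hj
    rw [swap_apply_left] at h1
    rw [swap_apply_right] at h2
    have k1 := (hconjX i j hi hj g).2 h1
    have k2 := (hconjX j i hj hi g).2 h2
    have h3 : g * Zp i j * g⁻¹ = Zp i j := by rw [hcen _ (hZk i j hi hj hij) g, mul_inv_cancel_right]
    conv_lhs => rw [← h3]
    simp only [hZp]
    rw [← conj_mul, ← conj_mul, k1, k2]
    group
  have hchange : ∀ i j q, Good i → Good j → Good q → i ≠ j → i ≠ q → Zp i j = Zp i q := by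
    intro i j q hi hj hq hij hiq
    by_cases hjq : j = q
    · rw [hjq]
    obtain ⟨g, hg⟩ := hswap2 j q hj.1 hj.2 hq.1 hq.2 hjq
    have h1 := hg i hi
    have h2 := hg j hj
    rw [swap_apply_of_ne_of_ne hij hiq] at h1
    rw [swap_apply_left] at h2
    rw [hflip i j q hi hj hq hij hiq g h1 h2, ← hsq1 q i hq hi (Ne.symm hiq), hsym i q hi hq hiq]
  have hgi1 : Good i1 := by constructor <;> simp [ha, hb, hi1, Fin.ext_iff]
  have h23 : i0 ≠ i1 := by simp [hi0, hi1, Fin.ext_iff]
  set z := Zp i0 i1 with hz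
  have hzall : ∀ i j, Good i → Good j → i ≠ j → Zp i j = z := by
    intro i j hi hj hij
    by_cases hi' : i = i0
    · subst hi'; exact hchange i0 j i1 hi hj hgi1 hij h23
    rw [hchange i j i0 hi hj hgi0 hij hi', hsym i0 i hgi0 hi (Ne.symm hi'), hchange i0 i i1 hgi0 hi hgi1 (Ne.symm hi') h23]
  have hzk : z ∈ π.ker := hZk _ _ hgi0 hgi1 h23
  have hz2 : z * z = 1 := mul_eq_one_iff_eq_inv.2 (hsq1 _ _ hgi0 hgi1 h23)
  have hXX : ∀ i j, Good i → Good j → i ≠ j → X j * X i = z * (X i * X i) * (X j * X j) := by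
    intro i j hi hj hij
    have e := hzall i j hi hj hij
    have hinvX : ∀ k, X k * X k = (X k)⁻¹ := fun k => eq_inv_of_mul_eq_one_left (hX3 k)
    rw [hinvX, hinvX, ← hcen z hzk, mul_assoc, ← e]
    simp only [hZp, hX]; group
  -- the subgroups
  let S : ℕ → Set Γ := fun m => insert z (X '' {i | Good i ∧ (i : ℕ) < m})
  let H : ℕ → Subgroup Γ := fun m => Subgroup.closure (S m)
  have hzH : ∀ m, z ∈ H m := fun m => Subgroup.subset_closure (Set.mem_insert _ _)
  have hXH : ∀ m i, Good i → (i : ℕ) < m → X i ∈ H m := fun m i hi hm =>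
    Subgroup.subset_closure (Set.mem_insert_of_mem _ ⟨i, ⟨hi, hm⟩, rfl⟩)
  have hcount : ∀ m, 2 ≤ m → m ≤ n → Nat.card (H m) ≤ m.factorial ∧
      ∀ σ : Perm (Fin n), Perm.sign σ = 1 → (∀ p : Fin n, m ≤ (p : ℕ) → σ p = p) → σ ∈ (H m).map π := by
    intro m hm2
    induction m, hm2 using Nat.le_induction with
    | base =>
      intro _
      refine ⟨?_, fun σ hs hfix => ?_⟩
      · have hle : H 2 ≤ Subgroup.zpowers z := by
          refine (Subgroup.closure_le _).2 ?_
          rintro w (rfl | ⟨i, ⟨hi, hi2⟩, rfl⟩)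
          · exact Subgroup.mem_zpowers _
          · exfalso
            have h1 : (i : ℕ) ≠ 0 := fun e => hi.1 (Fin.ext (by rw [e, ha]))
            have h2 : (i : ℕ) ≠ 1 := fun e => hi.2 (Fin.ext (by rw [e, hb]))
            omega
        refine (Nat.le_of_dvd Nat.card_pos (Subgroup.card_dvd_of_le hle)).trans ?_
        rw [Nat.card_zpowers]
        exact (orderOf_le_of_pow_eq_one two_pos (by rw [pow_two, hz2])).trans (by simp [Nat.factorial])
      · have hσ : σ = 1 := by
          have hcases : σ a = a ∨ σ a = b := by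
            by_contra h
            push_neg at h
            have h2 : 2 ≤ (σ a : ℕ) := by
              have h1 : (σ a : ℕ) ≠ 0 := fun e => h.1 (Fin.ext (by rw [e, ha]))
              have h2 : (σ a : ℕ) ≠ 1 := fun e => h.2 (Fin.ext (by rw [e, hb]))
              omega
            exact h.1 (σ.injective (hfix _ h2))
          have hrest : ∀ p, p ≠ a → p ≠ b → σ p = p := fun p h1 h2 => hfix p (by
            have h1' : (p : ℕ) ≠ 0 := fun e => h1 (Fin.ext (by rw [e, ha]))
            have h2' : (p : ℕ) ≠ 1 := fun e => h2 (Fin.ext (by rw [e, hb]))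
            omega)
          rcases hcases with h | h
          · refine Equiv.ext fun p => ?_
            rw [Perm.one_apply]
            by_cases h1 : p = a
            · rw [h1, h]
            by_cases h2 : p = b
            · subst h2
              by_contra hne
              have hσb : σ b ≠ a := fun e => hab.symm (σ.injective (e.trans h.symm))
              exact hne (σ.injective (hrest _ hσb hne))
            exact hrest p h1 h2
          · exfalso
            have hσ' : σ = swap a b := by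
              refine Equiv.ext fun p => ?_
              by_cases h1 : p = a
              · rw [h1, h, swap_apply_left]
              by_cases h2 : p = b
              · subst h2
                rw [swap_apply_right]
                by_contra hne
                have hσb : σ b ≠ b := fun e => hab (σ.injective (h.trans e.symm))
                exact hσb (σ.injective (hrest _ hne hσb))
              rw [swap_apply_of_ne_of_ne h1 h2, hrest p h1 h2]
            rw [hσ', Perm.sign_swap hab] at hs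
            exact absurd hs (by decide)
        exact ⟨1, one_mem _, by rw [map_one, hσ]⟩
    | succ m hm2 ih =>
      intro hmn
      obtain ⟨ih1, ih2⟩ := ih (by omega)
      set p : Fin n := ⟨m, by omega⟩ with hp
      have hgp : Good p := by constructor <;> (simp [ha, hb, hp, Fin.ext_iff]; omega)
      have hne : ∀ i : Fin n, (i : ℕ) < m → i ≠ p := fun i hi e => by rw [e, hp] at hi; simp at hi
      set u := X p with hu
      have hu3 : u * u * u = 1 := hX3 p
      have hsub : H m ≤ H (m + 1) := Subgroup.closure_mono (by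
        rintro w (rfl | ⟨i, ⟨hi, hi2⟩, rfl⟩)
        · exact Set.mem_insert _ _
        · exact Set.mem_insert_of_mem _ ⟨i, ⟨hi, Nat.lt_succ_of_lt hi2⟩, rfl⟩)
      let J := {i : Fin n // Good i ∧ (i : ℕ) < m}
      let rep : Fin 3 ⊕ J → Γ := fun s => Sum.elim (fun k : Fin 3 => u ^ (k : ℕ)) (fun i : J => u * u * X i.1) s
      let U : Set Γ := {g | ∃ h ∈ H m, ∃ s, g = h * rep s}
      have hUmul : ∀ (k : Γ), k ∈ H m → ∀ g ∈ U, k * g ∈ U := by
        rintro k hk _ ⟨h, hh, s, rfl⟩
        exact ⟨k * h, mul_mem hk hh, s, (mul_assoc _ _ _).symm⟩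
      have hbase : ∀ s, rep s ∈ U := fun s => ⟨1, one_mem _, s, (one_mul _).symm⟩
      have hr0 : rep (Sum.inl 0) = 1 := pow_zero u
      have hr1 : rep (Sum.inl 1) = u := pow_one u
      have hr2 : rep (Sum.inl 2) = u * u := pow_two u
      have hzc := hcen z hzk
      have hstepX : ∀ i : J, ∀ s, rep s * X i.1 ∈ U := by
        rintro ⟨i, hi, him⟩ (k | ⟨j, hj, hjm⟩)
        · fin_cases k
          · refine ⟨X i, hXH m i hi him, Sum.inl 0, ?_⟩
            show u ^ 0 * X i = X i * rep (Sum.inl 0)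
            rw [hr0, pow_zero, mul_one, one_mul]
          · refine ⟨z * (X i * X i), mul_mem (hzH m) (mul_mem (hXH m i hi him) (hXH m i hi him)), Sum.inl 2, ?_⟩
            show u ^ 1 * X i = _
            rw [hr2, pow_one, hu, hXX i p hi hgp (hne i him)]
          · show u ^ 2 * X i ∈ U
            rw [pow_two]
            exact hbase (Sum.inr ⟨i, hi, him⟩)
        · show u * u * X j * X i ∈ U
          by_cases hij : i = j
          · subst hij
            refine ⟨z * X i, mul_mem (hzH m) (hXH m i hi him), Sum.inl 1, ?_⟩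
            rw [hr1]
            have e := hXX p i hgp hi (Ne.symm (hne i him))
            -- `X i * u = z * u² * X i²`
            calc u * u * X i * X i = (z * z) * (u * u * (X i * X i)) := by rw [hz2, one_mul]; group
              _ = z * (z * (u * u) * (X i * X i)) := by group
              _ = z * (X i * u) := by rw [hu, e]
              _ = z * X i * u := (mul_assoc _ _ _).symm
          · have e1 := hXX i j hi hj hij
            have e2 := hXX p i hgp hi (Ne.symm (hne i him))
            have e3 := hXX j p hj hgp (hne j hjm)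
            refine ⟨X i * (z * (X j * X j)), mul_mem (hXH m i hi him) (mul_mem (hzH m) (mul_mem (hXH m j hj hjm) (hXH m j hj hjm))),
              Sum.inr ⟨j, hj, hjm⟩, ?_⟩
            show _ = _ * (u * u * X j)
            calc u * u * X j * X i = u * u * (z * (X i * X i) * (X j * X j)) := by rw [mul_assoc (u * u), e1]
              _ = (z * (u * u) * (X i * X i)) * (X j * X j) := by
                rw [← mul_assoc (u * u), ← mul_assoc (u * u), hzc (u * u)]
              _ = X i * u * (X j * X j) := by rw [hu, e2]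
              _ = X i * ((u * X j) * X j) := by group
              _ = X i * ((z * (X j * X j) * (u * u)) * X j) := by rw [hu, e3]
              _ = _ := by group
      have hstepu : ∀ s, rep s * u ∈ U := by
        rintro (k | ⟨j, hj, hjm⟩)
        · fin_cases k
          · refine ⟨1, one_mem _, Sum.inl 1, ?_⟩
            show u ^ 0 * u = 1 * rep (Sum.inl 1)
            rw [hr1, pow_zero]
          · refine ⟨1, one_mem _, Sum.inl 2, ?_⟩
            show u ^ 1 * u = 1 * rep (Sum.inl 2)
            rw [hr2, pow_one, one_mul]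
          · refine ⟨1, one_mem _, Sum.inl 0, ?_⟩
            show u ^ 2 * u = 1 * rep (Sum.inl 0)
            rw [hr0, pow_two, hu3, one_mul]
        · show u * u * X j * u ∈ U
          have e1 := hXX p j hgp hj (Ne.symm (hne j hjm))
          have e3 := hXX j p hj hgp (hne j hjm)
          refine ⟨(z * z) * (X j * X j), mul_mem (mul_mem (hzH m) (hzH m)) (mul_mem (hXH m j hj hjm) (hXH m j hj hjm)),
            Sum.inr ⟨j, hj, hjm⟩, ?_⟩
          show _ = _ * (u * u * X j)
          calc u * u * X j * u = u * u * (z * (u * u) * (X j * X j)) := by rw [mul_assoc (u * u), hu, e1]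
            _ = z * (u * u) * (u * u) * (X j * X j) := by
              rw [← mul_assoc (u * u), ← mul_assoc (u * u), hzc (u * u)]
            _ = z * (u * X j) * X j := by
              rw [show z * (u * u) * (u * u) = z * ((u * u * u) * u) by group, hu3, one_mul]; group
            _ = z * (z * (X j * X j) * (u * u)) * X j := by rw [hu, e3]
            _ = _ := by group
      have hsubU : ∀ g ∈ H (m + 1), g ∈ U := by
        have hS : ∀ y ∈ S (m + 1), ∀ g ∈ U, g * y ∈ U := by
          rintro y hy _ ⟨h, hh, s, rfl⟩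
          rw [mul_assoc]
          refine hUmul h hh _ ?_
          rcases hy with rfl | ⟨i, ⟨hi, hi2⟩, rfl⟩
          · rw [hzc (rep s)]; exact hUmul z (hzH m) _ (hbase s)
          · rcases (Nat.lt_succ_iff.1 hi2).lt_or_eq with h' | h'
            · exact hstepX ⟨i, hi, h'⟩ s
            · rw [show i = p from Fin.ext h']; exact hstepu s
        have hS2 : ∀ y ∈ S (m + 1), ∀ g ∈ U, g * y⁻¹ ∈ U := by
          intro y hy g hg
          rcases hy with rfl | ⟨i, hi, rfl⟩
          · rw [inv_eq_of_mul_eq_one_left hz2]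
            exact hS _ (Set.mem_insert _ _) g hg
          · rw [← eq_inv_of_mul_eq_one_left (hX3 i), ← mul_assoc]
            exact hS _ (Set.mem_insert_of_mem _ ⟨i, hi, rfl⟩) _ (hS _ (Set.mem_insert_of_mem _ ⟨i, hi, rfl⟩) g hg)
        intro g hg
        induction hg using Subgroup.closure_induction_right with
        | one => exact ⟨1, one_mem _, Sum.inl 0, by rw [hr0, one_mul]⟩
        | mul_right g hg y hy ihg => exact hS y hy g ihg
        | mul_inv_cancel g hg y hy ihg => exact hS2 y hy g ihg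
      have hJcard : Nat.card J ≤ m - 2 := by
        let F : J → Fin (m - 2) := fun i => ⟨(i.1 : ℕ) - 2, by
          have h1 : (i.1 : ℕ) ≠ 0 := fun e => i.2.1.1 (Fin.ext (by rw [e, ha]))
          have h2 : (i.1 : ℕ) ≠ 1 := fun e => i.2.1.2 (Fin.ext (by rw [e, hb]))
          have := i.2.2
          omega⟩
        have hF : Function.Injective F := fun i k e => Subtype.ext (Fin.ext (by
          have e' := congrArg Fin.val e
          simp only [F] at e'
          have h1 : (i.1 : ℕ) ≠ 0 := fun e => i.2.1.1 (Fin.ext (by rw [e, ha]))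
          have h2 : (i.1 : ℕ) ≠ 1 := fun e => i.2.1.2 (Fin.ext (by rw [e, hb]))
          have h3 : (k.1 : ℕ) ≠ 0 := fun e => k.2.1.1 (Fin.ext (by rw [e, ha]))
          have h4 : (k.1 : ℕ) ≠ 1 := fun e => k.2.1.2 (Fin.ext (by rw [e, hb]))
          omega))
        simpa using Nat.card_le_card_of_injective F hF
      constructor
      · let G' : H m × (Fin 3 ⊕ J) → H (m + 1) := fun hs => ⟨hs.1 * rep hs.2, mul_mem (hsub hs.1.2) (by
          obtain ⟨-, s⟩ := hs
          rcases s with k | i
          · exact pow_mem (hXH _ p hgp (by simp [hp])) _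
          · exact mul_mem (mul_mem (hXH _ p hgp (by simp [hp])) (hXH _ p hgp (by simp [hp])))
              (hXH _ i.1 i.2.1 (Nat.lt_succ_of_lt i.2.2)))⟩
        have hG' : Function.Surjective G' := fun g => by
          obtain ⟨h, hh, s, hgs⟩ := hsubU g g.2
          exact ⟨(⟨h, hh⟩, s), Subtype.ext hgs.symm⟩
        refine (Nat.card_le_card_of_surjective G' hG').trans ?_
        rw [Nat.card_prod, Nat.card_sum, Nat.card_fin, Nat.factorial_succ, mul_comm (m + 1)]
        exact Nat.mul_le_mul ih1 (by omega)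
      · intro σ hs hfix
        -- a representative moving `p` to `σ p`
        obtain ⟨g, hg, hgp'⟩ : ∃ g ∈ H (m + 1), π g p = σ p := by
          have hpm := hXH (m + 1) p hgp (by simp [hp])
          by_cases h0 : σ p = p
          · exact ⟨1, one_mem _, by rw [map_one, h0, Perm.one_apply]⟩
          have hlt : (σ p : ℕ) < m := by
            have h1 : (σ p : ℕ) < m + 1 := by
              by_contra h
              exact h0 (σ.injective (hfix _ (not_lt.1 h)))
            have h2 : (σ p : ℕ) ≠ m := fun e => h0 (Fin.ext e)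
            omega
          by_cases h1 : σ p = a
          · exact ⟨u, hpm, by rw [hu, hXπ p hgp, hxi p hgp, h1]⟩
          by_cases h2 : σ p = b
          · exact ⟨u * u, mul_mem hpm hpm, by rw [map_mul, Perm.mul_apply, hu, hXπ p hgp, hxi p hgp, hxa p hgp, h2]⟩
          · refine ⟨X (σ p) * (u * u), mul_mem (hXH (m + 1) _ ⟨h1, h2⟩ (Nat.lt_succ_of_lt hlt)) (mul_mem hpm hpm), ?_⟩
            rw [map_mul π (X (σ p)) (u * u), map_mul π u u, Perm.mul_apply, Perm.mul_apply, hu, hXπ p hgp, hXπ _ ⟨h1, h2⟩, hxi p hgp, hxa p hgp,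
              hxb _ ⟨h1, h2⟩]
        have hgfix' : ∀ g ∈ H (m + 1), ∀ q : Fin n, m + 1 ≤ (q : ℕ) → π g q = q := by
          intro g hg q hq
          induction hg using Subgroup.closure_induction with
          | mem y hy =>
            rcases hy with rfl | ⟨i, ⟨hi, hi2⟩, rfl⟩
            · rw [MonoidHom.mem_ker.1 hzk, Perm.one_apply]
            · rw [hXπ i hi, hxo i q ?_ ?_ ?_]
              · intro e; rw [e, ha] at hq; simp at hq
              · intro e; rw [e, hb] at hq; simp at hq; omega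
              · intro e; rw [e] at hq; omega
          | one => simp
          | mul y w _ _ hy hw => rw [map_mul, Perm.mul_apply, hw, hy]
          | inv y _ hy => rw [map_inv, Perm.inv_eq_iff_eq, hy]
        have hgfix := hgfix' g hg
        obtain ⟨h, hh, hhσ⟩ := ih2 ((π g)⁻¹ * σ) (by rw [map_mul, map_inv, hrange', hs, inv_one, one_mul]) (fun q hq => by
          rw [Perm.mul_apply, Perm.inv_eq_iff_eq]
          rcases hq.lt_or_eq with h' | h'
          · rw [hfix q h', hgfix q h']
          · rw [show q = p from Fin.ext h'.symm, hgp'])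
        exact ⟨g * h, mul_mem hg (hsub hh), by rw [map_mul, hhσ, mul_inv_cancel_left]⟩
  obtain ⟨hcard, honto⟩ := hcount n (by omega) le_rfl
  have hKH : π.ker ≤ H n := by
    refine hd.trans ?_
    rw [commutator_def, Subgroup.commutator_le]
    intro g _ k _
    obtain ⟨g', hg', eg⟩ := honto (π g) (hrange' g) (fun q hq => absurd q.2 (not_lt.2 hq))
    obtain ⟨k', hk', ek⟩ := honto (π k) (hrange' k) (fun q hq => absurd q.2 (not_lt.2 hq))
    obtain ⟨c1, hc1, rfl⟩ := hker g g' eg.symm
    obtain ⟨c2, hc2, rfl⟩ := hker k k' ek.symm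
    have h1 := hcen c1 hc1
    have h2 := hcen c2 hc2
    have e : ⁅g' * c1, k' * c2⁆ = ⁅g', k'⁆ := by
      simp only [commutatorElement_def]
      calc g' * c1 * (k' * c2) * (g' * c1)⁻¹ * (k' * c2)⁻¹
          = g' * (c1 * k') * c2 * c1⁻¹ * g'⁻¹ * c2⁻¹ * k'⁻¹ := by group
        _ = g' * k' * (c1 * (c2 * c1⁻¹)) * g'⁻¹ * c2⁻¹ * k'⁻¹ := by rw [← h1 k']; group
        _ = g' * k' * (c2 * g'⁻¹) * c2⁻¹ * k'⁻¹ := by rw [← h1 (c2 * c1⁻¹)]; group
        _ = g' * k' * g'⁻¹ * k'⁻¹ := by rw [← h2 g'⁻¹]; group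
    rw [e, commutatorElement_def]
    exact mul_mem (mul_mem (mul_mem hg' hk') (inv_mem hg')) (inv_mem hk')
  let f : H n →* Perm (Fin n) := π.comp (H n).subtype
  have hf : alternatingGroup (Fin n) ≤ f.range := fun σ hσ => by
    obtain ⟨g, hg, e⟩ := honto σ hσ (fun q hq => absurd q.2 (not_lt.2 hq))
    exact ⟨⟨g, hg⟩, e⟩
  have h := Subgroup.card_mul_index f.ker
  rw [Subgroup.index_ker, show Nat.card f.ker = Nat.card π.ker from
    Nat.card_congr (Subgroup.subgroupOfEquivOfLe hKH).toEquiv] at h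
  have h3 : Nat.card (alternatingGroup (Fin n)) ≤ Nat.card f.range :=
    Nat.le_of_dvd Nat.card_pos (Subgroup.card_dvd_of_le hf)
  haveI : Nontrivial (Fin n) := ⟨⟨a, b, hab⟩⟩
  have h4 : 2 * Nat.card (alternatingGroup (Fin n)) = n.factorial := by
    rw [two_mul_nat_card_alternatingGroup, Nat.card_perm, Nat.card_fin]
  have h5' := Nat.mul_le_mul_left (Nat.card π.ker) h3
  have hpos := Nat.card_pos (α := alternatingGroup (Fin n))
  refine Nat.le_of_mul_le_mul_right (?_ : Nat.card π.ker * Nat.card (alternatingGroup (Fin n)) ≤ 2 * Nat.card (alternatingGroup (Fin n))) hpos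
  rw [h4]
  exact h5'.trans (h.le.trans hcard)

/-- Let n ≥ 4 with n ≠ 6 and n ≠ 7, and let Γ be a finite group with a subgroup Z contained in both the centre and the commutator subgroup of Γ such that Γ / Z is isomorphic to the alternating group on n letters. Then Z has order at most 2. -/
theorem result (n : ℕ) (hn : 4 ≤ n) (h6 : n ≠ 6) (h7 : n ≠ 7) {Γ : Type*} [Group Γ] [Finite Γ] (Z : Subgroup Γ) [Z.Normal] (hZc : Z ≤ Subgroup.center Γ) (hZd : Z ≤ commutator Γ) (e : Γ ⧸ Z ≃* alternatingGroup (Fin n)) : Nat.card Z ≤ 2 := by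
  classical
  let π : Γ →* Equiv.Perm (Fin n) :=
    (alternatingGroup (Fin n)).subtype.comp (e.toMonoidHom.comp (QuotientGroup.mk' Z))
  have hker : π.ker = Z := by
    ext g
    rw [MonoidHom.mem_ker, ← QuotientGroup.eq_one_iff]
    constructor
    · intro h
      exact (map_eq_one_iff e e.injective).1 (Subtype.ext h)
    · intro h
      show ((e (g : Γ ⧸ Z) : alternatingGroup (Fin n)) : Equiv.Perm (Fin n)) = 1
      rw [h, map_one]; rfl
  have hrange : ∀ σ : Equiv.Perm (Fin n), Equiv.Perm.sign σ = 1 → ∃ g, π g = σ := by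
    intro σ hσ
    obtain ⟨g, hg⟩ := QuotientGroup.mk'_surjective Z (e.symm ⟨σ, hσ⟩)
    exact ⟨g, by show ((e (QuotientGroup.mk' Z g) : alternatingGroup (Fin n)) : Equiv.Perm (Fin n)) = σ; rw [hg, e.apply_symm_apply]⟩
  have hrange' : ∀ g, Equiv.Perm.sign (π g) = 1 := fun g => (e (g : Γ ⧸ Z)).2
  rw [← hker] at hZc hZd ⊢
  by_cases h4 : n = 4
  · subst h4; exact four_case π hrange hrange' hZc hZd
  · exact big_case n (by omega) π hrange hrange' hZc hZd

end Cfsg.Agent.S0892
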