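import Cfsg.Statements.S0319
import Cfsg.Agent.Lib.BN.Basic

set_option autoImplicit false
open Cfsg

namespace Cfsg.Agent.S0319

/-- Simplicity criterion for groups with a (B,N)-pair: if the distinguished generators admit no
splitting into two non-empty mutually commuting parts, `B` is solvable, `G` is perfect and the intersection
of all conjugates of `B` is trivial, then `G` is simple. -/
theorem result {G : Type*} [Group G] [Nontrivial G]
    (P : Cfsg.BNPair G) (hirr : P.Irreducible) (hsolv : Group.IsSolvable P.B) (hperf : commutator G = ⊤)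
    (hcore : P.B.normalCore = ⊥) : IsSimpleGroup G := by
  refine ⟨fun H hH => ?_⟩
  have hM : P.B ≤ P.B ⊔ H := le_sup_left
  set J := P.S ∩ ((P.B ⊔ H : Subgroup G) : Set G) with hJdef
  have hJeq : P.B ⊔ H = P.parabolic J := CfsgLib.BN.eq_parabolic P hM
  by_cases hJ0 : J = ∅
  · left
    have hle : H ≤ P.B := by
      intro x hx
      have hx' : x ∈ P.B ⊔ H := Subgroup.mem_sup_right hx
      rw [hJeq, hJ0] at hx'
      simpa [Cfsg.BNPair.parabolic] using hx'
    rw [eq_bot_iff, ← hcore]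
    exact fun x hx g => hle (hH.conj_mem x hx g)
  by_cases hJS : P.S ⊆ J
  · right
    have htop : P.B ⊔ H = ⊤ := by
      rw [hJeq, show J = P.S from Set.Subset.antisymm Set.inter_subset_left hJS, CfsgLib.BN.parabolic_S]
    have hs : Group.IsSolvable (G ⧸ H) := by
      refine solvable_of_surjective (f := (QuotientGroup.mk' H).comp P.B.subtype) ?_
      intro x
      obtain ⟨g, rfl⟩ := QuotientGroup.mk'_surjective H x
      have hg : g ∈ P.B ⊔ H := by rw [htop]; trivial
      obtain ⟨b, hb, h, hh, rfl⟩ := Subgroup.mem_sup_of_normal_right.1 hg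
      exact ⟨⟨b, hb⟩, by simp [hh]⟩
    by_contra hne
    have : Nontrivial (G ⧸ H) := QuotientGroup.nontrivial_iff.2 hne
    have hlt := IsSolvable.commutator_lt_top_of_nontrivial (G ⧸ H)
    have hsur := QuotientGroup.mk'_surjective H
    rw [commutator_def, ← Subgroup.map_top_of_surjective _ hsur, ← Subgroup.map_commutator,
      ← commutator_def, hperf, Subgroup.map_top_of_surjective _ hsur] at hlt
    exact lt_irrefl _ hlt
  exfalso
  obtain ⟨s, hsJ, s', hs', hcomm⟩ := hirr J Set.inter_subset_left (Set.nonempty_iff_ne_empty.2 hJ0)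
    (by simpa [Set.nonempty_def, Set.not_subset] using hJS)
  have hJsub : J ⊆ P.S := Set.inter_subset_left
  have hs'P : s' ∉ P.parabolic J := fun h =>
    hs'.2 ((CfsgLib.BN.mem_parabolic_iff_mem P hJsub hs'.1).1 h)
  let a : P.S := ⟨s, hsJ.1⟩
  let c : P.S := ⟨s', hs'.1⟩
  -- an element of `H` in the cell of `s`
  obtain ⟨b, hb, h, hh, hbh⟩ := Subgroup.mem_sup_of_normal_right.1 hsJ.2
  have hx : h ∈ CfsgLib.BN.cell P (CfsgLib.BN.σ P a) := by
    rw [show h = b⁻¹ * s by rw [← hbh]; group]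
    exact CfsgLib.BN.B_mul_cell P (inv_mem hb) (CfsgLib.BN.self_mem_cell_σ P a)
  have hy : s' * h * s'⁻¹ ∈ P.parabolic J := by
    rw [← hJeq]; exact Subgroup.mem_sup_right (hH.conj_mem h hh s')
  have hsig : CfsgLib.BN.σ P a * CfsgLib.BN.σ P c ≠ 1 := fun e => by
    have e' := eq_inv_of_mul_eq_one_left e
    rw [CfsgLib.BN.σ_inv] at e'
    exact hs'.2 (by
      have := congrArg Subtype.val (CfsgLib.BN.σ_injective P e')
      simp only [a, c] at this
      rwa [← this])
  have h2 : CfsgLib.BN.len P (CfsgLib.BN.σ P c * CfsgLib.BN.σ P a) = 2 := by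
    rcases CfsgLib.BN.len_σ_mul_cases P c (CfsgLib.BN.σ P a) with h | h
    · rw [h, CfsgLib.BN.len_σ]
    · rw [CfsgLib.BN.len_σ] at h
      have := CfsgLib.BN.len_eq_zero P (q := CfsgLib.BN.σ P c * CfsgLib.BN.σ P a) (by omega)
      refine absurd ?_ hsig
      have h' := congrArg (·⁻¹) this
      simpa using h'
  have h1 : s' * h ∈ CfsgLib.BN.cell P (CfsgLib.BN.σ P c * CfsgLib.BN.σ P a) :=
    CfsgLib.BN.σ_mul_cell_of_le P c (by rw [CfsgLib.BN.len_σ, h2]; omega)
      (CfsgLib.BN.self_mem_cell_σ P c) hx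
  have hc : s'⁻¹ ∈ CfsgLib.BN.cell P (CfsgLib.BN.σ P c) := by
    simpa using CfsgLib.BN.inv_mem_cell P (CfsgLib.BN.self_mem_cell_σ P c)
  -- a word with value in the parabolic of `J`
  have hred2 : CfsgLib.BN.Red P [c, a] := by simp [CfsgLib.BN.Red, h2]
  rcases CfsgLib.BN.cell_mul_σ P c h1 hc with h3 | h3
  swap
  · exact hs'P (CfsgLib.BN.letters_mem_of_cell P (M := P.parabolic J) le_sup_left hred2
      (by simpa using h3) hy c (by simp))
  have hred3 : ¬ CfsgLib.BN.Red P [c, a, c] := fun hr =>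
    hs'P (CfsgLib.BN.letters_mem_of_cell P (M := P.parabolic J) le_sup_left hr
      (by simpa [mul_assoc] using h3) hy c (by simp))
  have hredac : CfsgLib.BN.Red P [a, c] := by
    rcases CfsgLib.BN.len_σ_mul_cases P a (CfsgLib.BN.σ P c) with h | h
    · simp [CfsgLib.BN.Red, h, CfsgLib.BN.len_σ]
    · rw [CfsgLib.BN.len_σ] at h
      exact absurd (CfsgLib.BN.len_eq_zero P (by omega)) hsig
  have hlt : CfsgLib.BN.len P (CfsgLib.BN.σ P c * CfsgLib.BN.wd P [a, c]) < 2 := by
    rcases CfsgLib.BN.len_σ_mul_cases P c (CfsgLib.BN.wd P [a, c]) with h | h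
    · exfalso; apply hred3
      simp only [CfsgLib.BN.Red] at hredac ⊢
      rw [CfsgLib.BN.wd_cons, h, hredac]; rfl
    · simp only [CfsgLib.BN.Red] at hredac
      rw [hredac] at h; simp only [List.length_cons, List.length_nil] at h; omega
  obtain ⟨i, hi, e⟩ := CfsgLib.BN.exchange P c hredac hlt
  simp only [List.length_cons, List.length_nil] at hi
  have : CfsgLib.BN.σ P c * (CfsgLib.BN.σ P a * CfsgLib.BN.σ P c) = CfsgLib.BN.σ P a := by
    obtain rfl | rfl : i = 0 ∨ i = 1 := by omega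
    · exfalso
      simp only [CfsgLib.BN.wd_cons, CfsgLib.BN.wd_nil, List.eraseIdx_cons_zero, mul_one] at e
      exact hsig (mul_eq_left.1 e)
    · simpa using e
  apply hcomm
  have e2 : CfsgLib.BN.σ P a * CfsgLib.BN.σ P c = CfsgLib.BN.σ P c * CfsgLib.BN.σ P a := by
    calc CfsgLib.BN.σ P a * CfsgLib.BN.σ P c
        = CfsgLib.BN.σ P c * (CfsgLib.BN.σ P c * (CfsgLib.BN.σ P a * CfsgLib.BN.σ P c)) := by simp
      _ = _ := by rw [this]
  let A : P.N := ⟨s, P.subset hsJ.1⟩
  let C : P.N := ⟨s', P.subset hs'.1⟩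
  have e3 : CfsgLib.BN.cls P (A * C * A⁻¹ * C⁻¹) = 1 := by
    simp only [CfsgLib.BN.cls_mul, CfsgLib.BN.cls_inv]
    show CfsgLib.BN.σ P a * CfsgLib.BN.σ P c * (CfsgLib.BN.σ P a)⁻¹ * (CfsgLib.BN.σ P c)⁻¹ = 1
    rw [e2]; group
  exact (CfsgLib.BN.cls_eq_one_iff P).1 e3

end Cfsg.Agent.S0319
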