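import Cfsg.Statements.S3992
import Mathlib
import Cfsg.Agent.Lib.HallSolvable
import Cfsg.Agent.Lib.Frobenius.Complement
import Cfsg.Agent.Lib.Elementary
import Cfsg.Agent.Lib.Basic
-- import your own Cfsg.Agent.* helpers here

set_option autoImplicit false
open Cfsg

namespace Cfsg.Agent.S3992

namespace Aux

open Subgroup
open scoped IsMulCommutative commutatorElement

universe u

/-- All element orders are prime powers. -/
def Epo (G : Type u) [Group G] : Prop := ∀ g : G, g ≠ 1 → IsPrimePow (orderOf g)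

variable {G : Type u} [Group G] [Finite G]

theorem no_commute (hpp : Epo G) {a b : G} {p q : ℕ} (hp : p.Prime) (hq : q.Prime) (hne : p ≠ q)
    (ha : p ∣ orderOf a) (hb : q ∣ orderOf b) (hab : Commute a b) : False := by
  have h1 : orderOf (a ^ (orderOf a / p)) = p := orderOf_pow_orderOf_div (orderOf_pos a).ne' ha
  have h2 : orderOf (b ^ (orderOf b / q)) = q := orderOf_pow_orderOf_div (orderOf_pos b).ne' hb
  have h3 := (hab.pow_pow (orderOf a / p) (orderOf b / q)).orderOf_mul_eq_mul_orderOf_of_coprime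
    (by rw [h1, h2]; exact (Nat.coprime_primes hp hq).mpr hne)
  rw [h1, h2] at h3
  set c := a ^ (orderOf a / p) * b ^ (orderOf b / q)
  have hc1 : c ≠ 1 := fun e => by
    rw [e, orderOf_one] at h3
    exact hp.ne_one (Nat.eq_one_of_mul_eq_one_right h3.symm)
  have h4 := hpp c hc1
  rw [h3, isPrimePow_iff_unique_prime_dvd] at h4
  exact hne (h4.unique ⟨hp, dvd_mul_right p q⟩ ⟨hq, dvd_mul_left q p⟩)

theorem epo_subgroup (hpp : Epo G) (H : Subgroup G) : Epo H := fun g hg => by
  rw [← Subgroup.orderOf_coe]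
  exact hpp g fun e => hg (Subtype.ext e)

theorem epo_quotient (hpp : Epo G) (N : Subgroup G) [N.Normal] : Epo (G ⧸ N) := by
  intro x hx
  obtain ⟨g, rfl⟩ := QuotientGroup.mk'_surjective N x
  have hg : g ≠ 1 := fun e => hx (by rw [e, map_one])
  obtain ⟨p, k, hp, hk, hpk⟩ := (isPrimePow_nat_iff _).mp (hpp g hg)
  obtain ⟨j, hj, hjk⟩ := (Nat.dvd_prime_pow hp).mp (hpk.symm ▸ orderOf_map_dvd (QuotientGroup.mk' N) g)
  refine (isPrimePow_nat_iff _).mpr ⟨p, j, hp, ?_, hjk.symm⟩
  by_contra h0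
  rw [show j = 0 by omega, pow_zero, orderOf_eq_one_iff] at hjk
  exact hx hjk

theorem fpf (hpp : Epo G) {s : ℕ} (hs : s.Prime) {V : Subgroup G} (hV : ∀ v ∈ V, v ^ s = 1) {x : G} (hx : x ≠ 1)
    (hxs : ¬ s ∣ orderOf x) : V ⊓ centralizer {x} = ⊥ := by
  rw [eq_bot_iff]
  rintro v ⟨hv, hc⟩
  rw [mem_bot]
  by_contra hv1
  haveI := Fact.mk hs
  have hvo : orderOf v = s := orderOf_eq_prime (hV v hv) hv1
  obtain ⟨t, ht, htx⟩ := Nat.exists_prime_and_dvd (show orderOf x ≠ 1 from fun e => hx (orderOf_eq_one_iff.mp e))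
  exact no_commute hpp hs ht (fun e => hxs (e ▸ htx)) hvo.symm.dvd htx (mem_centralizer_singleton_iff.mp hc)

theorem minimal_normal_solvable [Group.IsSolvable G] [Nontrivial G] :
    ∃ N : Subgroup G, N.Normal ∧ N ≠ ⊥ ∧ IsMulCommutative N ∧ ∃ p : ℕ, p.Prime ∧ ∀ x ∈ N, x ^ p = 1 := by
  obtain ⟨N, hn, -, hN0, hmin⟩ := CfsgLib.exists_minimal_normal (N := (⊤ : Subgroup G)) top_ne_bot
  obtain ⟨h1, h2⟩ := CfsgLib.minimal_normal_elementary hN0 inferInstance hmin
  exact ⟨N, hn, hN0, h1, h2⟩

theorem two_primes (hpp : Epo G) [Group.IsSolvable G] : (Nat.card G).primeFactors.card ≤ 2 := by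
  classical
  by_contra h3
  push Not at h3
  haveI : Nontrivial G := by
    rcases subsingleton_or_nontrivial G with hs | hs
    · rw [Nat.card_of_subsingleton (1 : G)] at h3; simp at h3
    · exact hs
  obtain ⟨N, hNn, hN0, hNc, s, hs, hNs⟩ := minimal_normal_solvable (G := G)
  haveI := Fact.mk hs
  haveI := hNc
  set n := Nat.card G with hn
  have hn0 : n ≠ 0 := Nat.card_pos.ne'
  obtain ⟨L, hL⟩ := (CfsgLib.hall_main (G := G) (m := n / s ^ n.factorization s) (n := s ^ n.factorization s)
    (by rw [Nat.div_mul_cancel (Nat.ordProj_dvd n s)]) (Nat.Coprime.pow_right _ (Nat.coprime_ordCompl hs hn0).symm)).1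
  have hLs : ¬ s ∣ Nat.card L := by rw [hL]; exact Nat.not_dvd_ordCompl hs hn0
  have hfix : ∀ x ∈ L, x ≠ 1 → N ⊓ centralizer {x} = ⊥ := fun x hx hx1 =>
    fpf hpp hs hNs hx1 fun h => hLs (h.trans (L.orderOf_dvd_natCard hx))
  have hLN : L ≤ normalizer (N : Set G) := by rw [Subgroup.normalizer_eq_top]; exact le_top
  haveI : Nontrivial L := by
    rw [Subgroup.nontrivial_iff_ne_bot]
    intro e
    rw [e, Subgroup.card_bot] at hL
    have : n = s ^ n.factorization s := by
      have := Nat.div_mul_cancel (Nat.ordProj_dvd n s)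
      rw [← hL, one_mul] at this
      exact this.symm
    rw [this] at h3
    rcases Nat.eq_zero_or_pos (n.factorization s) with h | h
    · simp [h] at h3
    · rw [Nat.primeFactors_prime_pow h.ne' hs] at h3; simp at h3
  obtain ⟨V, hVn, hV0, hVc, q, hq, hVq⟩ := minimal_normal_solvable (G := L)
  haveI := Fact.mk hq
  haveI := hVc
  set V' := V.map L.subtype with hV'
  haveI : IsMulCommutative V' := ⟨⟨by
    rintro ⟨_, a, ha, rfl⟩ ⟨_, b, hb, rfl⟩
    refine Subtype.ext ?_
    show L.subtype a * L.subtype b = L.subtype b * L.subtype a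
    rw [← map_mul, ← map_mul, show a * b = b * a from congrArg Subtype.val ((IsMulCommutative.is_comm (M := V)).comm ⟨a, ha⟩ ⟨b, hb⟩)]⟩⟩
  have hcyc : IsCyclic V' := CfsgLib.Frob.isCyclic_of_fpf_comm hN0 ((Subgroup.map_subtype_le V).trans hLN)
    (fun x hx hx1 => hfix x (Subgroup.map_subtype_le V hx) hx1)
  obtain ⟨v, hv⟩ := isCyclic_iff_exists_zpowers_eq_top.mp hcyc
  have hv1 : v ≠ 1 := fun e => hV0 ((Subgroup.map_eq_bot_iff_of_injective V L.subtype_injective).mp (by
    rw [e, zpowers_one_eq_bot] at hv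
    exact eq_bot_iff.mpr fun x hx => by
      have := (show (⟨x, hx⟩ : V') ∈ (⊥ : Subgroup V') from hv ▸ mem_top _)
      rw [mem_bot] at this ⊢
      exact congrArg Subtype.val this))
  have hvq : orderOf v = q := by
    refine orderOf_eq_prime ?_ hv1
    obtain ⟨w', hw', e⟩ := v.2
    refine Subtype.ext ?_
    rw [SubgroupClass.coe_pow, ← e, ← map_pow, hVq _ hw', map_one, OneMemClass.coe_one]
  have hcardV : Nat.card V' = q := by rw [← Subgroup.card_top (G := V'), ← hv, Nat.card_zpowers, hvq]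
  obtain ⟨r, hr, hrL, hrq⟩ : ∃ r : ℕ, r.Prime ∧ r ∣ Nat.card L ∧ r ≠ q := by
    by_contra h
    push Not at h
    have : n.primeFactors ⊆ {s, q} := by
      intro r hr
      rw [Nat.mem_primeFactors] at hr
      rw [Finset.mem_insert, Finset.mem_singleton]
      by_cases hrs : r = s
      · exact Or.inl hrs
      · refine Or.inr (h r hr.1 ?_)
        rw [hL]
        refine (Nat.Coprime.dvd_of_dvd_mul_right (Nat.Coprime.pow_right (n.factorization s)
          ((Nat.coprime_primes hr.1 hs).mpr hrs)) ?_)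
        rw [Nat.div_mul_cancel (Nat.ordProj_dvd n s)]
        exact hr.2.1
    have := Finset.card_le_card this
    have := Finset.card_le_two (a := s) (b := q)
    omega
  haveI := Fact.mk hr
  obtain ⟨x, hx⟩ := exists_prime_orderOf_dvd_card' (G := L) r hrL
  set X := zpowers (x : G) with hX
  have hXcard : Nat.card X = r := by rw [hX, Nat.card_zpowers, Subgroup.orderOf_coe, hx]
  have hXV : X ≤ normalizer (V' : Set G) := zpowers_le.mpr (le_normalizer_map L.subtype ⟨x, by
    rw [Subgroup.normalizer_eq_top]; trivial, rfl⟩)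
  have hdis : V' ⊓ X = ⊥ := disjoint_iff.mp (Subgroup.disjoint_of_coprime_natCard (by
    rw [hcardV, hXcard]; exact (Nat.coprime_primes hq hr).mpr hrq.symm))
  have hcard : Nat.card (V' ⊔ X : Subgroup G) = q * r := by
    have h1 : (V'.subgroupOf (V' ⊔ X)).Normal := by
      rw [normal_subgroupOf_iff_le_normalizer le_sup_left]
      exact sup_le le_normalizer hXV
    have h2 := IsComplement'.card_mul (isComplement'_of_disjoint_and_mul_eq_univ
      (H := V'.subgroupOf (V' ⊔ X)) (K := X.subgroupOf (V' ⊔ X)) ?_ ?_)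
    · rw [Nat.card_congr (subgroupOfEquivOfLe (le_sup_left : V' ≤ V' ⊔ X)).toEquiv,
        Nat.card_congr (subgroupOfEquivOfLe (le_sup_right : X ≤ V' ⊔ X)).toEquiv, hcardV, hXcard] at h2
      exact h2.symm
    · exact Subgroup.disjoint_def.mpr fun {x} h1 h2 => Subtype.ext (mem_bot.mp (hdis.le ⟨h1, h2⟩))
    · rw [Set.eq_univ_iff_forall]
      intro y
      obtain ⟨a, ha, b, hb, hab⟩ := CfsgLib.mem_sup_of_le_normalizer hXV y.2
      exact ⟨⟨a, mem_sup_left ha⟩, ha, ⟨b, mem_sup_right hb⟩, hb, Subtype.ext hab⟩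
  have hle : V' ⊔ X ≤ L := sup_le (Subgroup.map_subtype_le V) (zpowers_le.mpr x.2)
  have hB := CfsgLib.Frob.isCyclic_of_fpf_pq hN0 (hle.trans hLN) (fun y hy hy1 => hfix y (hle hy) hy1) hq hr hcard
  obtain ⟨c, hc⟩ := isCyclic_iff_exists_orderOf_eq_natCard.mp hB
  rw [hcard, ← Subgroup.orderOf_coe] at hc
  exact no_commute hpp hq hr hrq.symm (hc ▸ dvd_mul_right q r) (hc ▸ dvd_mul_left r q) (Commute.refl (c : G))

theorem solvable_pgroup {M : Type u} [Group M] [Finite M] {p : ℕ} [Fact p.Prime] (h : IsPGroup p M) : Group.IsSolvable M :=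
  haveI := h.isNilpotent
  inferInstance

theorem radical (hpp : Epo G) (hns : ¬ Group.IsSolvable G) (R : Subgroup G) [R.Normal] (hRs : Group.IsSolvable R) :
    ∃ p : ℕ, p.Prime ∧ IsPGroup p R := by
  classical
  by_cases hR : R = ⊥
  · exact ⟨2, Nat.prime_two, by rw [hR]; exact IsPGroup.of_bot⟩
  obtain ⟨N, hNn, hNR, hN0, hmin⟩ := CfsgLib.exists_minimal_normal hR
  haveI : Group.IsSolvable N :=
    Group.isSolvable_of_isSolvable_injective (f := Subgroup.inclusion hNR) (Subgroup.inclusion_injective _)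
  obtain ⟨hNc, p, hp, hNp⟩ := CfsgLib.minimal_normal_elementary hN0 inferInstance hmin
  haveI := hNc
  haveI := Fact.mk hp
  refine ⟨p, hp, ?_⟩
  obtain ⟨M, hNM, hM⟩ := Finite.exists_le_maximal
    (p := fun M : Subgroup G => M.Normal ∧ M ≤ R ∧ IsPGroup p M) (a := N)
    ⟨hNn, hNR, fun x => ⟨1, Subtype.ext (by simpa using hNp _ x.2)⟩⟩
  obtain ⟨hMn, hMR, hMp⟩ := hM.prop
  by_contra hRp
  have hne : R.map (QuotientGroup.mk' M) ≠ ⊥ := fun e => hRp (hMp.to_le (by
    rw [Subgroup.map_eq_bot_iff, QuotientGroup.ker_mk'] at e; exact e))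
  haveI : (R.map (QuotientGroup.mk' M)).Normal :=
    Subgroup.Normal.map inferInstance _ (QuotientGroup.mk'_surjective M)
  obtain ⟨V, hVn, hVR, hV0, hVmin⟩ := CfsgLib.exists_minimal_normal hne
  haveI : Group.IsSolvable V := by
    haveI := hRs
    haveI : Group.IsSolvable (R.map (QuotientGroup.mk' M)) :=
      Group.isSolvable_of_surjective (MonoidHom.subgroupMap_surjective (QuotientGroup.mk' M) R)
    exact Group.isSolvable_of_isSolvable_injective (f := Subgroup.inclusion hVR) (Subgroup.inclusion_injective _)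
  obtain ⟨hVc, q, hq, hVq⟩ := CfsgLib.minimal_normal_elementary hV0 inferInstance hVmin
  haveI := hVc
  haveI := Fact.mk hq
  set V₀ := V.comap (QuotientGroup.mk' M) with hV₀
  haveI : V₀.Normal := Subgroup.Normal.comap inferInstance _
  have hMV₀ : M ≤ V₀ := fun x hx => by
    rw [hV₀, mem_comap, QuotientGroup.mk'_apply, (QuotientGroup.eq_one_iff x).mpr hx]; exact one_mem V
  have hV₀R : V₀ ≤ R := by
    intro x hx
    obtain ⟨r, hr, hrx⟩ := hVR hx
    have h1 : r⁻¹ * x ∈ M := QuotientGroup.eq.mp hrx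
    have := mul_mem hr (hMR h1)
    rwa [mul_inv_cancel_left] at this
  have hqp : q ≠ p := by
    rintro rfl
    apply hV0
    have hV₀p : IsPGroup q V₀ := by
      intro x
      have h1 : (x : G) ^ q ∈ M := by
        rw [← QuotientGroup.eq_one_iff, QuotientGroup.mk_pow]
        exact hVq _ x.2
      obtain ⟨k, hk⟩ := hMp ⟨_, h1⟩
      exact ⟨k + 1, Subtype.ext (by
        have := congrArg Subtype.val hk
        simp only [SubgroupClass.coe_pow, OneMemClass.coe_one] at this ⊢
        rw [pow_succ', pow_mul, this])⟩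
    have hle : V₀ ≤ M := hM.2 ⟨inferInstance, hV₀R, hV₀p⟩ hMV₀
    rw [← Subgroup.map_comap_eq_self_of_surjective (QuotientGroup.mk'_surjective M) V, eq_bot_iff]
    rintro _ ⟨x, hx, rfl⟩
    exact mem_bot.mpr ((QuotientGroup.eq_one_iff x).mpr (hle hx))
  obtain ⟨Q⟩ : Nonempty (Sylow q V₀) := inferInstance
  set Q' := (Q : Subgroup V₀).map V₀.subtype with hQ'
  have hQ'p : IsPGroup q Q' := Q.2.map _
  have hQM : ∀ x ∈ Q', x ∈ M → x = 1 := fun x hx hxM => by
    have := IsPGroup.disjoint_of_ne q p hqp Q' M hQ'p hMp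
    exact Subgroup.disjoint_def.mp this hx hxM
  have hcomm : ∀ a ∈ Q', ∀ b ∈ Q', a * b = b * a := by
    intro a ha b hb
    rw [← commutatorElement_eq_one_iff_mul_comm]
    have hc : ⁅a, b⁆ ∈ Q' := by
      rw [commutatorElement_def]; exact mul_mem (mul_mem (mul_mem ha hb) (inv_mem ha)) (inv_mem hb)
    refine hQM _ hc ?_
    rw [← QuotientGroup.eq_one_iff, ← QuotientGroup.mk'_apply, map_commutatorElement, commutatorElement_eq_one_iff_mul_comm]
    exact congrArg Subtype.val ((IsMulCommutative.is_comm (M := V)).comm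
      ⟨_, (Subgroup.map_subtype_le _ ha : a ∈ V₀)⟩ ⟨_, (Subgroup.map_subtype_le _ hb : b ∈ V₀)⟩)
  haveI : IsMulCommutative Q' := ⟨⟨fun a b => Subtype.ext (hcomm a a.2 b b.2)⟩⟩
  have hQq : ∀ x ∈ Q', x ^ q = 1 := fun x hx => hQM _ (pow_mem hx q) (by
    rw [← QuotientGroup.eq_one_iff, QuotientGroup.mk_pow]
    exact hVq _ (Subgroup.map_subtype_le _ hx : x ∈ V₀))
  haveI hcyc : IsCyclic Q' := CfsgLib.Frob.isCyclic_of_fpf_comm hN0
    (by rw [Subgroup.normalizer_eq_top]; exact le_top)
    (fun x hx hx1 => fpf hpp hp hNp hx1 fun h => hqp ((Nat.prime_dvd_prime_iff_eq hp hq).mp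
      (h.trans (orderOf_dvd_of_pow_eq_one (hQq x hx)))).symm)
  have hQ1 : Q' ≠ ⊥ := by
    intro e
    rw [Subgroup.map_eq_bot_iff_of_injective _ V₀.subtype_injective] at e
    have hd : q ∣ Nat.card V := by
      obtain ⟨v, hv, hv1⟩ : ∃ v ∈ V, v ≠ 1 := by
        by_contra h
        push Not at h
        exact hV0 (eq_bot_iff.mpr fun v hv => mem_bot.mpr (h v hv))
      exact orderOf_eq_prime (hVq v hv) hv1 ▸ V.orderOf_dvd_natCard hv
    have hsurj : Function.Surjective ((QuotientGroup.mk' M).subgroupComap V) :=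
      MonoidHom.subgroupComap_surjective_of_surjective _ V (QuotientGroup.mk'_surjective M)
    have h2 : q ∣ Nat.card V₀ := hd.trans (Subgroup.card_dvd_of_surjective _ hsurj)
    exact Q.not_dvd_index (by rw [e, index_bot]; exact h2)
  -- the normaliser is solvable
  set N₁ := normalizer (Q' : Set G) with hN₁
  have hsup : V₀ ⊔ N₁ = ⊤ := by
    rw [sup_comm]; exact Sylow.normalizer_sup_eq_top Q
  have hV₀N : V₀ ≤ M ⊔ N₁ := by
    have hQN : Q' ≤ M ⊔ N₁ := le_normalizer.trans le_sup_right
    obtain ⟨k, hk⟩ := IsPGroup.iff_card.mp hMp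
    have hc : (M ⊔ Q').subgroupOf V₀ = ⊤ := by
      rw [← index_eq_one]
      have h1 : ((M ⊔ Q').subgroupOf V₀).index ∣ (Q : Subgroup V₀).index := index_dvd_of_le fun x hx =>
        (mem_sup_right ⟨x, hx, rfl⟩ : (x : G) ∈ M ⊔ Q')
      have h2 : ((M ⊔ Q').subgroupOf V₀).index ∣ (M.subgroupOf V₀).index :=
        index_dvd_of_le fun x hx => (mem_sup_left hx : (x : G) ∈ M ⊔ Q')
      have h3 : (M.subgroupOf V₀).index = Nat.card V := by
        have hsurj : Function.Surjective ((QuotientGroup.mk' M).subgroupComap V) :=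
          MonoidHom.subgroupComap_surjective_of_surjective _ V (QuotientGroup.mk'_surjective M)
        have hker : ((QuotientGroup.mk' M).subgroupComap V).ker = M.subgroupOf V₀ := by
          ext x
          rw [MonoidHom.mem_ker, mem_subgroupOf, ← QuotientGroup.eq_one_iff]
          exact Subtype.ext_iff
        rw [← hker, Subgroup.index_ker, MonoidHom.range_eq_top.mpr hsurj, Subgroup.card_top]
      have h4 : ∃ j, Nat.card V = q ^ j := IsPGroup.iff_card.mp (fun x => ⟨1, Subtype.ext (by simpa using hVq _ x.2)⟩)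
      obtain ⟨j, hj⟩ := h4
      obtain ⟨i, -, hi⟩ := (Nat.dvd_prime_pow hq).mp (hj ▸ h3 ▸ h2)
      rw [hi] at h1 ⊢
      rcases Nat.eq_zero_or_pos i with rfl | hi0
      · rw [pow_zero]
      · exact absurd ((dvd_pow_self q hi0.ne').trans h1) Q.not_dvd_index
    exact (subgroupOf_eq_top.mp hc).trans (sup_le le_sup_left hQN)
  have htop : M ⊔ N₁ = ⊤ := top_le_iff.mp (hsup ▸ sup_le hV₀N le_sup_right)
  apply hns
  haveI := solvable_pgroup hMp
  have hCq : IsPGroup q (centralizer (Q' : Set G)) := by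
    refine IsPGroup.of_card (Nat.eq_prime_pow_of_unique_prime_dvd Nat.card_pos.ne' fun {r} hr hd => ?_)
    by_contra hrq
    haveI := Fact.mk hr
    obtain ⟨c, hc⟩ := exists_prime_orderOf_dvd_card' (G := centralizer (Q' : Set G)) r hd
    obtain ⟨a, ha, ha1⟩ : ∃ a ∈ Q', a ≠ 1 := by
      by_contra h
      push Not at h
      exact hQ1 (eq_bot_iff.mpr fun a ha => mem_bot.mpr (h a ha))
    exact no_commute hpp hr hq hrq (a := (c : G)) (b := a) (by rw [Subgroup.orderOf_coe, hc])
      (by rw [orderOf_eq_prime (hQq a ha) ha1]) ((c.2 a ha).symm)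
  haveI := solvable_pgroup hCq
  haveI hN₁s : Group.IsSolvable N₁ := by
    haveI : Group.IsSolvable (MulAut Q') :=
      Group.isSolvable_of_comm fun a b => ((IsCyclic.mulAutMulEquiv Q').injective (by
        rw [map_mul, map_mul, mul_comm]))
    refine Group.isSolvable_of_ker_le_range (Subgroup.inclusion (centralizer_le_normalizer (Q' : Set G)))
      (Subgroup.normalizerMonoidHom Q') ?_
    intro x hx
    rw [Subgroup.normalizerMonoidHom_ker] at hx
    exact ⟨⟨x, hx⟩, rfl⟩
  haveI : Group.IsSolvable (G ⧸ M) := by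
    refine Group.isSolvable_of_surjective (f := (QuotientGroup.mk' M).comp N₁.subtype) fun y => ?_
    obtain ⟨g, rfl⟩ := QuotientGroup.mk'_surjective M y
    have hg : g ∈ M ⊔ N₁ := htop ▸ mem_top g
    obtain ⟨m, hm, x, hx, rfl⟩ := CfsgLib.mem_sup_of_le_normalizer
      (by rw [Subgroup.normalizer_eq_top]; exact le_top) hg
    refine ⟨⟨x, hx⟩, ?_⟩
    rw [map_mul, QuotientGroup.mk'_apply, QuotientGroup.mk'_apply, (QuotientGroup.eq_one_iff m).mpr hm, one_mul]
    rfl
  exact (Group.isSolvable_iff_subgroup_quotient M).mpr ⟨inferInstance, inferInstance⟩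

theorem socle (hpp : Epo G) [Nontrivial G] (hrad : ∀ N : Subgroup G, N.Normal → Group.IsSolvable N → N = ⊥) :
    ∃ M : Subgroup G, M.Normal ∧ IsSimpleGroup M ∧ ¬ IsMulCommutative M ∧
      ∀ N : Subgroup G, N.Normal → N ≠ ⊥ → M ≤ N := by
  obtain ⟨M, hMn, -, hM0, hmin⟩ := CfsgLib.exists_minimal_normal (N := (⊤ : Subgroup G)) top_ne_bot
  have hMs : ¬ Group.IsSolvable M := fun h => hM0 (hrad M hMn h)
  have pair : ∀ A B : Subgroup G, ¬ Group.IsSolvable A → ¬ Group.IsSolvable B →
      (∀ a ∈ A, ∀ b ∈ B, Commute a b) → False := by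
    intro A B hA hB hc
    have hA1 : Nat.card A ≠ 1 := fun h => hA (by
      haveI := (Nat.card_eq_one_iff_unique.mp h).1
      exact Group.isSolvable_of_comm fun a b => Subsingleton.elim _ _)
    obtain ⟨p, hp, hpA⟩ := Nat.exists_prime_and_dvd hA1
    obtain ⟨q, hq, hqB, hqp⟩ : ∃ q : ℕ, q.Prime ∧ q ∣ Nat.card B ∧ q ≠ p := by
      by_contra h
      push Not at h
      haveI := Fact.mk hp
      exact hB (solvable_pgroup (IsPGroup.of_card (Nat.eq_prime_pow_of_unique_prime_dvd Nat.card_pos.ne'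
        fun {r} hr hd => h r hr hd)))
    haveI := Fact.mk hp
    haveI := Fact.mk hq
    obtain ⟨a, ha⟩ := exists_prime_orderOf_dvd_card' (G := A) p hpA
    obtain ⟨b, hb⟩ := exists_prime_orderOf_dvd_card' (G := B) q hqB
    exact no_commute hpp hp hq hqp.symm (by rw [Subgroup.orderOf_coe, ha]) (by rw [Subgroup.orderOf_coe, hb])
      (hc a a.2 b b.2)
  haveI : Nontrivial M := (Subgroup.nontrivial_iff_ne_bot M).mpr hM0
  refine ⟨M, hMn, ⟨fun T hT => ?_⟩, fun h => hMs (Group.isSolvable_of_comm h.is_comm.comm), fun N hNn hN => ?_⟩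
  · by_contra hcon
    push Not at hcon
    obtain ⟨S, hSn, hST, hS0, hSmin⟩ := CfsgLib.exists_minimal_normal (hn := hT) hcon.1
    set S' := S.map M.subtype with hS'
    have hS'M : S' ≤ M := Subgroup.map_subtype_le S
    by_cases hnor : S'.Normal
    · rcases hmin S' hnor hS'M with h | h
      · exact hS0 ((Subgroup.map_eq_bot_iff_of_injective S M.subtype_injective).mp h)
      · refine hcon.2 (top_le_iff.mp ((le_of_eq ?_).trans hST))
        refine Subgroup.map_injective M.subtype_injective ?_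
        rw [← hS', h, ← MonoidHom.range_eq_map, Subgroup.range_subtype]
    · have hSs : ¬ Group.IsSolvable S' := by
        intro hs
        obtain ⟨hSc, s, hs', hSexp⟩ := CfsgLib.minimal_normal_elementary hS0 (by
          haveI := hs
          exact Group.isSolvable_of_surjective (f := (Subgroup.equivMapOfInjective S M.subtype M.subtype_injective).symm.toMonoidHom)
            (MulEquiv.surjective _)) hSmin
        haveI := Fact.mk hs'
        have hSp : IsPGroup s S := fun x => ⟨1, Subtype.ext (by simpa using hSexp _ x.2)⟩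
        have hle : S ≤ Cfsg.pCore s M := le_sSup ⟨hSn, hSp⟩
        haveI : (Cfsg.pCore s M).Characteristic := CfsgLib.pCore_characteristic s
        have h0 := hrad ((Cfsg.pCore s M).map M.subtype) inferInstance
          (solvable_pgroup ((CfsgLib.isPGroup_pCore (G := M) s).map _))
        rw [Subgroup.map_eq_bot_iff_of_injective _ M.subtype_injective] at h0
        exact hS0 (eq_bot_iff.mpr (hle.trans h0.le))
      obtain ⟨g, hg⟩ : ∃ g : G, S'.map (MulAut.conj g).toMonoidHom ≠ S' := by
        by_contra h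
        push Not at h
        exact hnor ⟨fun x hx g => (h g).le ⟨x, hx, rfl⟩⟩
      set T' := S'.map (MulAut.conj g).toMonoidHom with hT'
      refine pair S' T' hSs ?_ ?_
      · intro hs
        haveI := hs
        exact hSs (Group.isSolvable_of_surjective
          (f := (Subgroup.equivMapOfInjective S' (MulAut.conj g).toMonoidHom (MulAut.conj g).injective).symm.toMonoidHom)
          (MulEquiv.surjective _))
      · have hT'M : T' ≤ M := by
          rintro _ ⟨x, hx, rfl⟩
          exact hMn.conj_mem x (hS'M hx) g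
        have hSnM : ∀ s ∈ S', ∀ m ∈ M, m * s * m⁻¹ ∈ S' := by
          rintro _ ⟨s, hs, rfl⟩ m hm
          exact ⟨⟨m, hm⟩ * s * ⟨m, hm⟩⁻¹, hSn.conj_mem s hs _, by simp⟩
        have hTnM : ∀ t ∈ T', ∀ m ∈ M, m * t * m⁻¹ ∈ T' := by
          rintro _ ⟨s, hs, rfl⟩ m hm
          refine ⟨g⁻¹ * m * g * s * (g⁻¹ * m * g)⁻¹, hSnM s hs _ (by simpa using hMn.conj_mem m hm g⁻¹), ?_⟩
          simp [mul_assoc]
        have hbot : ∀ x ∈ S', x ∈ T' → x = 1 := by
          intro x hx hx'
          rcases hSmin ((S' ⊓ T').subgroupOf M) ⟨fun y hy m => by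
              rw [mem_subgroupOf] at hy ⊢
              push_cast
              exact ⟨hSnM _ hy.1 m m.2, hTnM _ hy.2 m m.2⟩⟩
            (fun y hy => by
              obtain ⟨s, hs, e⟩ := (mem_subgroupOf.mp hy).1
              exact (Subtype.ext e : s = y) ▸ hs) with h | h
          · have : (⟨x, hS'M hx⟩ : M) ∈ (S' ⊓ T').subgroupOf M := ⟨hx, hx'⟩
            rw [h, mem_bot] at this
            exact congrArg Subtype.val this
          · exfalso
            have hle : S' ≤ T' := by
              rintro _ ⟨s, hs, rfl⟩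
              exact (mem_subgroupOf.mp (h.ge hs)).2
            exact hg (eq_of_le_of_card_ge hle (Subgroup.card_map_of_injective (MulAut.conj g).injective).le).symm
        intro a ha b hb
        show a * b = b * a
        rw [← commutatorElement_eq_one_iff_mul_comm]
        refine hbot _ ?_ ?_
        · rw [commutatorElement_def, show a * b * a⁻¹ * b⁻¹ = a * (b * a⁻¹ * b⁻¹) by group]
          exact mul_mem ha (hSnM _ (inv_mem ha) b (hT'M hb))
        · rw [commutatorElement_def]
          exact mul_mem (hTnM b hb a (hS'M ha)) (inv_mem hb)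
  · rcases hmin (M ⊓ N) inferInstance inf_le_left with h | h
    · exfalso
      refine pair M N hMs (fun h' => hN (hrad N hNn h')) fun a ha b hb => ?_
      show a * b = b * a
      rw [← commutatorElement_eq_one_iff_mul_comm, ← mem_bot (G := G), ← h]
      exact Subgroup.commutator_le_inf M N (commutator_mem_commutator ha hb)
    · exact inf_eq_left.mp h

theorem goal (hns : ¬ Group.IsSolvable G) (hpp : Epo G) (R : Subgroup G) [R.Normal] (hRs : Group.IsSolvable R)
    (hRmax : ∀ N : Subgroup G, N.Normal → Group.IsSolvable N → N ≤ R) :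
    (∃ p : ℕ, p.Prime ∧ IsPGroup p R) ∧
      (∃ M : Subgroup (G ⧸ R), M.Normal ∧ IsSimpleGroup M ∧ ¬ IsMulCommutative M ∧
        ∀ N : Subgroup (G ⧸ R), N.Normal → N ≠ ⊥ → M ≤ N) ∧
      ∀ H : Subgroup G, Group.IsSolvable H → (Nat.card H).primeFactors.card ≤ 2 := by
  refine ⟨radical hpp hns R hRs, ?_, fun H hH => by haveI := hH; exact two_primes (epo_subgroup hpp H)⟩
  haveI : Nontrivial (G ⧸ R) := by
    rw [← not_subsingleton_iff_nontrivial]
    intro h
    exact hns ((Group.isSolvable_iff_subgroup_quotient R).mpr ⟨hRs, inferInstance⟩)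
  refine socle (epo_quotient hpp R) fun N hN hNs => ?_
  haveI : (N.comap (QuotientGroup.mk' R)).Normal := hN.comap _
  have hle := hRmax (N.comap (QuotientGroup.mk' R)) inferInstance (by
    haveI := hRs
    haveI := hNs
    refine Group.isSolvable_of_ker_le_range (Subgroup.inclusion (show R ≤ N.comap (QuotientGroup.mk' R) from fun x hx => by
        rw [mem_comap, QuotientGroup.mk'_apply, (QuotientGroup.eq_one_iff x).mpr hx]; exact one_mem N))
      ((QuotientGroup.mk' R).subgroupComap N) ?_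
    intro x hx
    exact ⟨⟨x, (QuotientGroup.eq_one_iff (x : G)).mp (congrArg Subtype.val hx)⟩, rfl⟩)
  rw [← Subgroup.map_comap_eq_self_of_surjective (QuotientGroup.mk'_surjective R) N, eq_bot_iff]
  rintro _ ⟨x, hx, rfl⟩
  exact mem_bot.mpr ((QuotientGroup.eq_one_iff x).mpr (hle hx))

end Aux

/-- Let G be a finite non-solvable group in which every element has prime-power order, and let R be its largest solvable normal subgroup. Then R is a p-group for some prime p; G/R has a non-abelian simple normal subgroup contained in every nontrivial normal subgroup of G/R (its unique minimal normal subgroup); and the order of every solvable subgroup of G has at most two prime divisors. -/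
theorem result {G : Type*} [Group G] [Finite G] (hns : ¬ Group.IsSolvable G) (hpp : ∀ g : G, g ≠ 1 → IsPrimePow (orderOf g))
    (R : Subgroup G) [R.Normal] (hRs : Group.IsSolvable ↥R) (hRmax : ∀ N : Subgroup G, N.Normal → Group.IsSolvable ↥N → N ≤ R) :
    (∃ p : ℕ, p.Prime ∧ IsPGroup p ↥R) ∧
      (∃ M : Subgroup (G ⧸ R), M.Normal ∧ IsSimpleGroup ↥M ∧ ¬ IsMulCommutative ↥M ∧
        ∀ N : Subgroup (G ⧸ R), N.Normal → N ≠ ⊥ → M ≤ N) ∧
      ∀ H : Subgroup G, Group.IsSolvable ↥H → (Nat.card ↥H).primeFactors.card ≤ 2 := by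
  exact Aux.goal hns hpp R hRs hRmax

end Cfsg.Agent.S3992
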