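import Cfsg.Statements.S0606
import Cfsg.Agent.Lib.Products

set_option autoImplicit false
open Cfsg

namespace Cfsg.Agent.S0606

/-- Elementary abelian p-subgroups of maximal order are best offenders on any normal elementary abelian p-subgroup. -/
theorem result {G : Type*} [Group G] [Finite G] {p : ℕ} [Fact p.Prime] (V : Subgroup G) [V.Normal] (hV : Cfsg.IsElementaryAbelian p V) (A : Subgroup G) (hA : A ∈ Cfsg.maxElementaryAbelianSubgroups p G) : Cfsg.IsBestOffenderOn p V A := by
  obtain ⟨⟨hAc, hAp⟩, hmax⟩ := hA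
  have hcom : ∀ a ∈ A, ∀ b ∈ A, a * b = b * a := fun a ha b hb =>
    Subgroup.mul_comm_of_mem_isMulCommutative A ha hb
  refine ⟨fun B hB => ?_, ?_, fun a ha => by rw [hAp a ha]; exact one_mem _⟩
  · let W := V ⊓ Subgroup.centralizer (B : Set G)
    have hWB : ∀ w ∈ W, ∀ b ∈ B, b * w = w * b := fun w hw b hb => hw.2 b hb
    have hVc : ∀ u ∈ V, ∀ v ∈ V, u * v = v * u := fun u hu v hv =>
      haveI := hV.1; Subgroup.mul_comm_of_mem_isMulCommutative V hu hv
    let J := Subgroup.closure ((B : Set G) ∪ W)
    have hJc : IsMulCommutative J := Subgroup.isMulCommutative_closure fun u hu v hv => by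
      rcases hu with hu | hu <;> rcases hv with hv | hv
      · exact hcom u (hB hu) v (hB hv)
      · exact hWB v hv u hu
      · exact (hWB u hu v hv).symm
      · exact hVc u hu.1 v hv.1
    have hJ : Cfsg.IsElementaryAbelian p J := ⟨hJc, fun a ha => by
      induction ha using Subgroup.closure_induction with
      | mem y hy =>
        rcases hy with hy | hy
        · exact hAp y (hB hy)
        · exact hV.2 y hy.1
      | one => exact one_pow _
      | mul y z hy hz h1 h2 =>
        rw [(show Commute y z from Subgroup.mul_comm_of_mem_isMulCommutative J hy hz).mul_pow, h1, h2,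
          one_mul]
      | inv y _ h1 => rw [inv_pow, h1, inv_one]⟩
    have h1 := hmax J hJ
    have hle : B ⊔ W ≤ J := sup_le (fun b hb => Subgroup.subset_closure (Or.inl hb))
      (fun b hb => Subgroup.subset_closure (Or.inr hb))
    have h2 : Nat.card B * Nat.card W ≤ Nat.card J * Nat.card ↥(B ⊓ W) :=
      (CfsgLib.Products.card_mul_card_le B W).trans (Nat.mul_le_mul_right _ (Subgroup.card_le_of_le hle))
    have h3 : Nat.card ↥(B ⊓ W) ≤ Nat.card ↥(V ⊓ Subgroup.centralizer (A : Set G)) :=
      Subgroup.card_le_of_le fun x hx => ⟨hx.2.1, fun a ha => hcom a ha x (hB hx.1)⟩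
    calc Nat.card B * Nat.card W ≤ Nat.card J * Nat.card ↥(B ⊓ W) := h2
      _ ≤ _ := Nat.mul_le_mul h1 h3
  · rw [(Subgroup.commutator_eq_bot_iff_le_centralizer).2 fun a ha b hb => (hcom a ha b hb).symm]
    exact bot_le

end Cfsg.Agent.S0606
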