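import Cfsg.Statements.S3732
import Cfsg.Agent.Lib.TwoTransPlane.Exists
import Cfsg.Agent.Lib.TwoTransPlane.Desargues
-- import your own Cfsg.Agent.* helpers here

set_option autoImplicit false
open Cfsg

namespace Cfsg.Agent.S3732

theorem exists_line_through {P L : Type*} [Membership P L] [Configuration.ProjectivePlane P L] (x : P) :
    ∃ a : L, x ∈ a := by
  obtain ⟨p₁, p₂, p₃, l₁, l₂, l₃, h1, h2, h3, h4, -⟩ := Configuration.ProjectivePlane.exists_config (P := P) (L := L)
  by_cases h : x = p₁
  · have hne : p₁ ≠ p₂ := fun e => h1 (e ▸ h4)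
    exact ⟨Configuration.HasLines.mkLine hne, by rw [h]; exact (Configuration.HasLines.mkLine_ax hne).1⟩
  · exact ⟨Configuration.HasLines.mkLine h, (Configuration.HasLines.mkLine_ax h).1⟩

theorem exists_point_on {P L : Type*} [Membership P L] [Configuration.ProjectivePlane P L] (a : L) :
    ∃ x : P, x ∈ a :=
  exists_line_through (P := Configuration.Dual L) (L := Configuration.Dual P) a

/-- The Ostrom–Wagner Theorem. Let Π be a finite projective plane (points P, lines L) whose collineation group is 2-transitive on points: for any two ordered pairs of distinct points there is a permutation of the points, together with a compatible permutation of the lines preserving incidence, carrying the first pair to the second. Then Π is Desarguesian: there is a finite field F and a bijection from P onto the points of the projective plane over F (the 1-dimensional subspaces of F³) under which the lines of Π correspond exactly to the 2-dimensional subspaces of F³. -/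
theorem result
    {P L : Type*} [Membership P L] [Fintype P] [Fintype L] [Configuration.ProjectivePlane P L]
    (h2t : ∀ p₁ p₂ q₁ q₂ : P, p₁ ≠ p₂ → q₁ ≠ q₂ →
      ∃ (σ : Equiv.Perm P) (τ : Equiv.Perm L), (∀ (p : P) (l : L), σ p ∈ τ l ↔ p ∈ l) ∧ σ p₁ = q₁ ∧ σ p₂ = q₂) :
    ∃ (F : Type) (_ : Field F) (_ : Fintype F) (φ : P ≃ Projectivization F (Fin 3 → F)),
      (∀ l : L, ∃ W : Submodule F (Fin 3 → F), Module.finrank F W = 2 ∧
          ∀ p : P, p ∈ l ↔ (φ p).submodule ≤ W) ∧
      (∀ W : Submodule F (Fin 3 → F), Module.finrank F W = 2 →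
          ∃ l : L, ∀ p : P, p ∈ l ↔ (φ p).submodule ≤ W) := by
  classical
  let π : CfsgLib.TTP.Pl P L :=
    { I := fun x a => x ∈ a
      join := fun x y =>
        if h : x = y then (exists_line_through x).choose
        else Configuration.HasLines.mkLine h
      meet := fun a b => if h : a = b then (exists_point_on a).choose else Configuration.HasPoints.mkPoint h
      join_left := fun x y => by
        by_cases h : x = y
        · simp only [dif_pos h]; exact (exists_line_through x).choose_spec
        · simp only [dif_neg h]; exact (Configuration.HasLines.mkLine_ax h).1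
      join_right := fun x y => by
        by_cases h : x = y
        · simp only [dif_pos h]; exact h ▸ (exists_line_through x).choose_spec
        · simp only [dif_neg h]; exact (Configuration.HasLines.mkLine_ax h).2
      meet_left := fun a b => by
        by_cases h : a = b
        · simp only [dif_pos h]; exact (exists_point_on a).choose_spec
        · simp only [dif_neg h]; exact (Configuration.HasPoints.mkPoint_ax h).1
      meet_right := fun a b => by
        by_cases h : a = b
        · simp only [dif_pos h]; exact h ▸ (exists_point_on a).choose_spec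
        · simp only [dif_neg h]; exact (Configuration.HasPoints.mkPoint_ax h).2
      unique := fun h₁ h₂ h₃ h₄ => Configuration.Nondegenerate.eq_or_eq h₁ h₂ h₃ h₄
      config := Configuration.ProjectivePlane.exists_config }
  let C : Subgroup (Equiv.Perm P × Equiv.Perm L) :=
    { carrier := {g | ∀ p l, g.1 p ∈ g.2 l ↔ p ∈ l}
      one_mem' := fun p l => Iff.rfl
      mul_mem' := fun {g h} hg hh p l => (hg (h.1 p) (h.2 l)).trans (hh p l)
      inv_mem' := fun {g} hg p l => by
        rw [← hg (g⁻¹.1 p) (g⁻¹.2 l)]
        simp }
  let A : CfsgLib.TTP.Act π C :=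
    { p := (MonoidHom.fst _ _).comp C.subtype
      l := (MonoidHom.snd _ _).comp C.subtype
      inc := fun g x a => g.2 x a
      faith := fun g hg => by
        have h1 : ∀ x, g.1.1 x = x := fun x => Equiv.congr_fun hg x
        refine Subtype.ext (Prod.ext (Equiv.ext h1) (Equiv.ext fun l => ?_))
        change g.1.2 l = l
        obtain ⟨x, hx, -⟩ := π.exists_other l (π.meet l l)
        obtain ⟨y, hy, hyx⟩ := π.exists_other l x
        refine π.eq_of_two_points hyx ?_ ?_ hy hx
        · have := (g.2 y l).mpr hy; rwa [h1] at this
        · have := (g.2 x l).mpr hx; rwa [h1] at this }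
  have hTwo : A.Two := fun x y x' y' h h' => by
    obtain ⟨σ, τ, hinc, e1, e2⟩ := h2t x y x' y' h h'
    exact ⟨⟨(σ, τ), hinc⟩, e1, e2⟩
  have hfull : A.Full := fun a => hTwo.full hTwo.exists_persp a
  obtain ⟨ℓ, -⟩ := π.exists_line_off π.config.choose
  obtain ⟨O, hO⟩ := π.exists_off ℓ
  obtain ⟨X, hX, -⟩ := π.exists_other ℓ (π.meet ℓ ℓ)
  obtain ⟨Y, hY, hYX⟩ := π.exists_other ℓ X
  obtain ⟨Z, hZ, hZX, hZY⟩ := π.exists_third ℓ X Y
  exact CfsgLib.TTP.Frame.desargues
    (⟨hfull, ℓ, O, X, Y, Z, hO, hX, hY, hZ, hYX.symm, hZX, hZY⟩ : CfsgLib.TTP.Frame π A)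

end Cfsg.Agent.S3732
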