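import Cfsg.Statements.S0322
import Cfsg.Agent.Lib.BN.Basic

set_option autoImplicit false
open Cfsg

namespace Cfsg.Agent.S0322

/-- A group with a (B,N)-pair of rank one acts doubly transitively on the left cosets of `B`. -/
theorem result {G : Type*} [Group G] (P : Cfsg.BNPair G) (h : P.rank = 1) : MulAction.IsMultiplyPretransitive G (G ⧸ P.B) 2 := by
  obtain ⟨hsub, ⟨s⟩⟩ := Nat.card_eq_one_iff_unique.1 h
  rw [MulAction.is_two_pretransitive_iff]
  intro a b c d hab hcd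
  obtain ⟨x, rfl⟩ := QuotientGroup.mk_surjective a
  obtain ⟨y, rfl⟩ := QuotientGroup.mk_surjective b
  obtain ⟨z, rfl⟩ := QuotientGroup.mk_surjective c
  obtain ⟨w, rfl⟩ := QuotientGroup.mk_surjective d
  have key : ∀ u v : G, u ∉ P.B → v ∉ P.B → ∃ k ∈ P.B, (k * u)⁻¹ * v ∈ P.B := by
    have hcell : ∀ u : G, u ∉ P.B → u ∈ CfsgLib.BN.cell P (CfsgLib.BN.σ P s) := by
      intro u hu
      obtain ⟨q, hq⟩ := CfsgLib.BN.bruhat P u
      obtain ⟨l, hl, rfl⟩ := CfsgLib.BN.exists_reduced P q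
      rcases l with _ | ⟨a, _ | ⟨b, t⟩⟩
      · rw [CfsgLib.BN.wd_nil, CfsgLib.BN.cell_one] at hq
        exact absurd hq hu
      · obtain rfl : a = s := Subsingleton.elim _ _
        simpa using hq
      · exfalso
        obtain rfl : a = b := Subsingleton.elim _ _
        have h1 := CfsgLib.BN.len_le P t
        simp at hl
        omega
    intro u v hu hv
    obtain ⟨a1, ha1, b1, hb1, rfl⟩ := (CfsgLib.BN.mem_cell_cls P).1 (hcell u hu)
    obtain ⟨a2, ha2, b2, hb2, rfl⟩ := (CfsgLib.BN.mem_cell_cls P).1 (hcell v hv)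
    refine ⟨a2 * a1⁻¹, mul_mem ha2 (inv_mem ha1), ?_⟩
    simpa [mul_assoc] using mul_mem (inv_mem hb1) hb2
  have h1 : x⁻¹ * y ∉ P.B := fun h => hab (QuotientGroup.eq.2 h)
  have h2 : z⁻¹ * w ∉ P.B := fun h => hcd (QuotientGroup.eq.2 h)
  obtain ⟨k, hk, hk'⟩ := key _ _ h1 h2
  refine ⟨z * k * x⁻¹, ?_, ?_⟩ <;>
    (show ((_ * _ : G) : G ⧸ P.B) = _; rw [QuotientGroup.eq])
  · simpa [mul_assoc] using inv_mem hk
  · convert hk' using 1; group

end Cfsg.Agent.S0322
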