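import Cfsg.Statements.S0165
import Cfsg.Agent.Lib.CharTheory.Brauer
-- import your own Cfsg.Agent.* helpers here

set_option autoImplicit false
open Cfsg

namespace Cfsg.Agent.S0165

open CfsgLib.CharTheory
open scoped ComplexConjugate

/-- If p ^ n is the exact power of the prime p dividing the order of a finite group and p ^ n divides the degree of an irreducible complex representation, then its character vanishes at every element of order divisible by p. -/
theorem result {G : Type*} [Group G] [Finite G] {V : Type*} [AddCommGroup V] [Module ℂ V] [FiniteDimensional ℂ V] (ρ : Representation ℂ G V) [ρ.IsIrreducible] (p n : ℕ) (hp : p.Prime) (hn : p ^ n ∣ Nat.card G) (hn' : ¬ p ^ (n + 1) ∣ Nat.card G) (hdeg : p ^ n ∣ Module.finrank ℂ V) (x : G) (hx : p ∣ orderOf x) : ρ.character x = 0 := by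
    classical
    have := Fintype.ofFinite G
    have hχ : Cfsg.IsIrrCharacter G ρ.character := isIrrCharacter_character ρ
    have := Fact.mk hp
    let reg : G → ℂ := fun y => if Nat.Coprime (orderOf y) p then 1 else 0
    let f : G → ℂ := fun y => reg y * ρ.character y
    have hord : ∀ h y : G, orderOf (h * y * h⁻¹) = orderOf y := fun h y => by
      rw [← orderOf_injective (MulAut.conj h).toMonoidHom (MulAut.conj h).injective y]; rfl
    have hfc : Cfsg.IsClassFunction G f := by
      intro y h
      simp only [f, reg]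
      rw [hord h y, ρ.char_conj]
    obtain ⟨g', hg'⟩ := hn
    have hg'p : ¬ p ∣ g' := fun ⟨c, hc⟩ => hn' ⟨c, by rw [hg', hc, pow_succ]; ring⟩
    obtain ⟨d, hd⟩ := hdeg
    have hgen : Cfsg.IsGeneralizedCharacter G f := by
      refine isGenChar_of_elementary hfc fun E q hq hE => ?_
      obtain ⟨Q, ⟨j, hj, P, hPc, hPcent⟩, hQc, hreg⟩ := exists_regular_part hp hq hE
      have := Fintype.ofFinite E
      have := Fintype.ofFinite Q
      have hQp : ∀ v : Q, Nat.Coprime (orderOf ((v : E) : G)) p := fun v => by
        rw [Subgroup.orderOf_coe, Subgroup.orderOf_coe]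
        exact hQc.coprime_dvd_left (orderOf_dvd_natCard v)
      refine isGenChar_iff_coeff_int.mpr ⟨?_, fun ψ hψ => ?_⟩
      · intro e h
        exact hfc e h
      -- the multiplicity on the regular part
      obtain ⟨I, hI⟩ := classInner_char_nat
        (isCharacter_restrict (isCharacter_restrict (isCharacter_of_irr hχ) E) Q)
        (isCharacter_restrict (isCharacter_of_irr hψ) Q)
      have hval : classInner (fun e : E => f e) ψ =
          (Nat.card Q : ℂ) / (Nat.card E : ℂ) * (I : ℂ) := by
        rw [← hI]
        simp only [Cfsg.classInner]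
        rw [← mul_assoc, div_mul_eq_mul_div, mul_inv_cancel₀ (Nat.cast_ne_zero.mpr Nat.card_pos.ne'),
          one_div]
        congr 1
        rw [← Finset.sum_subtype (Finset.univ.filter (fun e : E => e ∈ Q)) (by simp)
          (fun e : E => ρ.character e * conj (ψ e)), Finset.sum_filter]
        refine Finset.sum_congr rfl fun e _ => ?_
        by_cases he : e ∈ Q
        · have h1 := hQp ⟨e, he⟩
          simp only [f, reg, if_pos he, if_pos h1, one_mul]
        · have h1 : ¬ Nat.Coprime (orderOf (e : G)) p := fun h => he (hreg e (by rwa [← Subgroup.orderOf_coe]))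
          simp only [f, reg, if_neg he, if_neg h1, zero_mul]
      have hint : IsIntegral ℤ ((Nat.card Q : ℂ) * (g' : ℂ) / (p : ℂ) ^ j * (I : ℂ)) := by
        rw [← hI]
        simp only [Cfsg.classInner]
        have hQ0 : (Nat.card Q : ℂ) ≠ 0 := Nat.cast_ne_zero.mpr Nat.card_pos.ne'
        rw [show ∀ S : ℂ, (Nat.card Q : ℂ) * (g' : ℂ) / (p : ℂ) ^ j * ((Nat.card Q : ℂ)⁻¹ * S) =
          (g' : ℂ) / (p : ℂ) ^ j * S from fun S => by field_simp, Finset.mul_sum]
        refine IsIntegral.sum _ fun v _ => ?_
        rw [← mul_assoc]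
        refine IsIntegral.mul ?_ (by
          rw [← char_apply_inv (isCharacter_of_irr hψ)]
          exact isIntegral_of_char (isCharacter_of_irr hψ) _)
        set w : G := ((v : E) : G) with hw
        obtain ⟨c, hc⟩ : p ^ j ∣ Nat.card (Subgroup.centralizer ({w} : Set G)) := by
          rw [← hPc, Nat.card_congr (Subgroup.equivMapOfInjective P E.subtype E.subtype_injective).toEquiv]
          refine Subgroup.card_dvd_of_le ?_
          rintro _ ⟨a, ha, rfl⟩
          exact Subgroup.mem_centralizer_singleton_iff.mpr
            (congrArg Subtype.val (Subgroup.mem_centralizer_iff.mp (hPcent ha) v v.2)).symm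
        have hcls := card_isConj_mul_card_centralizer (G := G) w
        rw [hc, hg'] at hcls
        have key := (isIntegral_centralChar ρ w).mul
          ((isIntegral_algebraMap (R := ℤ) (A := ℂ) (x := (c : ℤ) * (d : ℤ))))
        convert key using 1
        rw [hd]
        have hp0 : (p : ℂ) ≠ 0 := Nat.cast_ne_zero.mpr hp.ne_zero
        have hd0 : (d : ℂ) ≠ 0 := by
          intro h
          have h1 : ρ.character 1 = 0 := by
            rw [ρ.char_one, hd, Nat.cast_mul, h, mul_zero]
          exact irr_ne_zero hχ h1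
        have hcls' : (Nat.card {x : G // IsConj w x} : ℂ) * ((p : ℂ) ^ j * (c : ℂ)) =
            (p : ℂ) ^ n * (g' : ℂ) := by exact_mod_cast hcls
        simp only [map_mul, map_natCast, Nat.cast_mul, Nat.cast_pow]
        field_simp
        linear_combination (-(ρ.character w)) * hcls'
      obtain ⟨z, hz⟩ : ∃ z : ℤ, ((Nat.card Q : ℚ) * g' / (p : ℚ) ^ j * I) = (z : ℚ) :=
        exists_int_of_isIntegral_ratCast (by push_cast; exact hint)
      have hdvd : p ^ j ∣ I := by
        have h1 : ((Nat.card Q * g' * I : ℕ) : ℤ) = z * (p ^ j : ℕ) := by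
          have hp0 : (p : ℚ) ^ j ≠ 0 := pow_ne_zero _ (Nat.cast_ne_zero.mpr hp.ne_zero)
          field_simp at hz
          have : ((Nat.card Q * g' * I : ℕ) : ℚ) = ((z * (p ^ j : ℕ) : ℤ) : ℚ) := by
            push_cast; linear_combination hz
          exact_mod_cast this
        have h2 : p ^ j ∣ Nat.card Q * g' * I := Int.natCast_dvd_natCast.mp ⟨z, h1.trans (mul_comm _ _)⟩
        exact (Nat.Coprime.pow_left j (Nat.Coprime.mul_right hQc.symm
          (hp.coprime_iff_not_dvd.mpr hg'p))).dvd_of_dvd_mul_left h2
      obtain ⟨k, hk⟩ := hdvd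
      refine ⟨k, ?_⟩
      rw [hval, ← Subgroup.card_mul_index Q, hj, hk]
      have hQ0 : (Nat.card Q : ℂ) ≠ 0 := Nat.cast_ne_zero.mpr Nat.card_pos.ne'
      have hp0 : (p : ℂ) ≠ 0 := Nat.cast_ne_zero.mpr hp.ne_zero
      push_cast
      field_simp
    obtain ⟨z, hz⟩ := (isGenChar_iff_coeff_int.mp hgen).2 ρ.character hχ
    have hsq : ∀ y : G, ρ.character y * conj (ρ.character y) = ((Complex.normSq (ρ.character y) : ℝ) : ℂ) :=
      fun y => Complex.mul_conj _
    let a : G → ℝ := fun y => Complex.normSq (ρ.character y)
    have hcard : (0 : ℝ) < Nat.card G := Nat.cast_pos.mpr Nat.card_pos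
    have hall : ∑ y, a y = (Nat.card G : ℝ) := by
      have h := classInner_irr_self hχ
      simp only [Cfsg.classInner, hsq] at h
      rw [inv_mul_eq_one₀ (Nat.cast_ne_zero.mpr Nat.card_pos.ne'), ← Complex.ofReal_sum,
        ← Complex.ofReal_natCast, Complex.ofReal_inj] at h
      exact h.symm
    have hzr : ∑ y, (if Nat.Coprime (orderOf y) p then a y else 0) = (z : ℝ) * Nat.card G := by
      have h := hz
      simp only [Cfsg.classInner, f, reg, mul_assoc, hsq, ite_mul, one_mul, zero_mul] at h
      rw [inv_mul_eq_iff_eq_mul₀ (Nat.cast_ne_zero.mpr Nat.card_pos.ne')] at h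
      apply Complex.ofReal_injective
      simp only [a, Complex.ofReal_sum, apply_ite Complex.ofReal, Complex.ofReal_zero, Complex.ofReal_mul,
        Complex.ofReal_intCast, Complex.ofReal_natCast]
      rw [h, mul_comm]
    have hle : ∀ y, (if Nat.Coprime (orderOf y) p then a y else 0) ≤ a y := fun y => by
      split <;> [exact le_rfl; exact Complex.normSq_nonneg _]
    have hge : ∀ y, 0 ≤ (if Nat.Coprime (orderOf y) p then a y else 0) := fun y => by
      split <;> [exact Complex.normSq_nonneg _; exact le_rfl]
    have hpos : (0 : ℝ) < ∑ y, (if Nat.Coprime (orderOf y) p then a y else 0) :=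
      Finset.sum_pos' (fun y _ => hge y) ⟨1, Finset.mem_univ _, by
        rw [if_pos (by simp)]; exact Complex.normSq_pos.mpr (irr_ne_zero hχ)⟩
    have hz1 : z = 1 := by
      have h1 : (z : ℝ) * Nat.card G ≤ 1 * Nat.card G := by
        rw [← hzr, one_mul, ← hall]; exact Finset.sum_le_sum fun y _ => hle y
      have h2 : (0 : ℝ) < z := by
        rw [hzr] at hpos
        exact pos_of_mul_pos_left hpos hcard.le
      have h3 : z ≤ 1 := by exact_mod_cast le_of_mul_le_mul_right h1 hcard
      have h4 : 0 < z := by exact_mod_cast h2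
      omega
    rw [hz1, Int.cast_one, one_mul] at hzr
    have := (Finset.sum_eq_sum_iff_of_le (fun y _ => hle y)).mp (hzr.trans hall.symm) x (Finset.mem_univ x)
    rw [if_neg (fun h : Nat.Coprime (orderOf x) p => hp.coprime_iff_not_dvd.mp h.symm hx)] at this
    exact Complex.normSq_eq_zero.mp this.symm

end Cfsg.Agent.S0165
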