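import Cfsg.Statements.S0731
import Mathlib
import Cfsg.Agent.Lib.Perm.ZassenhausAbelian
-- import your own Cfsg.Agent.* helpers here

set_option autoImplicit false
open Cfsg

namespace Cfsg.Agent.S0731

/-- A finite Zassenhaus group whose point stabiliser has an abelian regular normal subgroup on the remaining points is sharply triply transitive or isomorphic to `PSL(2, F)` for a finite field `F` of odd characteristic. -/
theorem result {G Ω : Type*} [Group G] [Finite G] [MulAction G Ω] [Finite Ω] (hZ : Cfsg.IsZassenhausGroup G Ω) (x : Ω) (F : Subgroup G) (hFle : F ≤ MulAction.stabilizer G x) (hFn : (F.subgroupOf (MulAction.stabilizer G x)).Normal) (hFab : IsMulCommutative F) (hreg : ∀ y z : Ω, y ≠ x → z ≠ x → ∃! u : F, (u : G) • y = z) : (MulAction.IsMultiplyPretransitive G Ω 3 ∧ ∀ t : Fin 3 ↪ Ω, MulAction.stabilizer G t = ⊥) ∨ ∃ (K : Type) (_ : Field K) (_ : Fintype K), ringChar K ≠ 2 ∧ Nonempty (G ≃* Matrix.ProjectiveSpecialLinearGroup (Fin 2) K) := by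
  haveI := Fintype.ofFinite Ω
  rcases CfsgLib.ZassenhausAbelian.cases hZ x F hFle hFn hFab hreg with ⟨-, -, -, h⟩ | ⟨-, -, -, p, f, K, _, _, hp, hp2, hK, -, hiso⟩
  · exact Or.inl h
  · refine Or.inr ⟨K, inferInstance, inferInstance, ?_, hiso⟩
    obtain ⟨m, hrp, hcard⟩ := FiniteField.card K (ringChar K)
    rw [hK] at hcard
    intro e
    rw [e] at hcard
    have h2p : 2 ∣ p ^ f := by rw [hcard]; exact dvd_pow_self 2 m.ne_zero
    exact hp2 ((Nat.prime_dvd_prime_iff_eq Nat.prime_two hp).mp (Nat.prime_two.dvd_of_dvd_pow h2p)).symm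

end Cfsg.Agent.S0731
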