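import Cfsg.Statements.S3380
import Mathlib
import Cfsg.Agent.S0519
import Cfsg.Agent.Lib.UniqueSubgroup
import Cfsg.Agent.Lib.Elementary

set_option autoImplicit false
open Cfsg

namespace Cfsg.Agent.S3380

theorem sum_pow_apply {q : ℕ} {V : Type*} [AddCommGroup V] [Module (ZMod q) V] {G : Type*} [Group G]
    (ρ : G →* (V ≃ₗ[ZMod q] V)) {g : G} {p : ℕ} [NeZero p] (hg : g ^ p = 1) (v : V) :
    ρ g (∑ i ∈ Finset.range p, ρ (g ^ i) v) = ∑ i ∈ Finset.range p, ρ (g ^ i) v := by
  obtain ⟨m, hm⟩ := Nat.exists_eq_succ_of_ne_zero (NeZero.ne p)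
  subst hm
  rw [map_sum]
  have : ∀ i, ρ g (ρ (g ^ i) v) = ρ (g ^ (i + 1)) v := fun i => by rw [pow_succ', map_mul]; rfl
  simp only [this]
  conv_lhs => rw [Finset.sum_range_succ, hg]
  conv_rhs => rw [Finset.sum_range_succ']
  simp

/-- Commuting elements of order `p` with no fixed points on their cyclic subgroups. -/
theorem no_pair {q : ℕ} [Fact q.Prime] {V : Type*} [AddCommGroup V] [Module (ZMod q) V] {G : Type*} [Group G]
    (ρ : G →* (V ≃ₗ[ZMod q] V)) {p : ℕ} [Fact p.Prime] (hpq : p ≠ q) {a b : G} (hab : Commute a b)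
    (hb : b ^ p = 1) (hbfix : ∀ v : V, ρ b v = v → v = 0)
    (hfix : ∀ k : ℕ, (a * b ^ k) ^ p = 1 ∧ ∀ v : V, ρ (a * b ^ k) v = v → v = 0) (v : V) : v = 0 := by
  classical
  haveI : NeZero p := ⟨(Fact.out : p.Prime).ne_zero⟩
  have hz : ∀ k u, ∑ i ∈ Finset.range p, ρ ((a * b ^ k) ^ i) u = 0 := fun k u =>
    (hfix k).2 _ (sum_pow_apply ρ (hfix k).1 u)
  have hzb : ∀ u, ∑ i ∈ Finset.range p, ρ (b ^ i) u = 0 := fun u => hbfix _ (sum_pow_apply ρ hb u)
  have h0 : ∑ k ∈ Finset.range p, ∑ i ∈ Finset.range p, ρ ((a * b ^ k) ^ i) v = 0 :=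
    Finset.sum_eq_zero fun k _ => hz k v
  rw [Finset.sum_comm] at h0
  have hi : ∀ i ∈ Finset.range p, i ≠ 0 → ∑ k ∈ Finset.range p, ρ ((a * b ^ k) ^ i) v = 0 := by
    intro i hi hi0
    have hco : Nat.Coprime i p := ((Fact.out : p.Prime).coprime_iff_not_dvd.2
      (Nat.not_dvd_of_pos_of_lt (Nat.pos_of_ne_zero hi0) (Finset.mem_range.1 hi))).symm
    have e : ∀ k, ρ ((a * b ^ k) ^ i) v = ρ (a ^ i) (ρ (b ^ ((k * i) % p)) v) := fun k => by
      rw [(hab.pow_right k).mul_pow, ← pow_mul, pow_eq_pow_mod (k * i) hb, map_mul]; rfl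
    simp only [e]
    rw [← map_sum]
    suffices h : ∑ k ∈ Finset.range p, ρ (b ^ ((k * i) % p)) v = ∑ j ∈ Finset.range p, ρ (b ^ j) v by
      rw [h, hzb, map_zero]
    have hinj : Set.InjOn (fun k => (k * i) % p) ↑(Finset.range p) := fun x hx y hy e => by
      have h1 : x ≡ y [MOD p] := Nat.ModEq.cancel_right_of_coprime hco.symm e
      exact Nat.ModEq.eq_of_lt_of_lt h1 (Finset.mem_range.1 hx) (Finset.mem_range.1 hy)
    rw [← Finset.sum_image (f := fun j => ρ (b ^ j) v) hinj]
    refine Finset.sum_congr (Finset.eq_of_subset_of_card_le ?_ ?_) fun _ _ => rfl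
    · intro j hj
      obtain ⟨k, -, rfl⟩ := Finset.mem_image.1 hj
      exact Finset.mem_range.2 (Nat.mod_lt _ (Fact.out : p.Prime).pos)
    · rw [Finset.card_image_of_injOn hinj]
  rw [Finset.sum_eq_single 0 hi (fun h => absurd (Finset.mem_range.2 (Fact.out : p.Prime).pos) h)] at h0
  simp only [pow_zero, map_one, LinearEquiv.coe_one, id_eq, Finset.sum_const, Finset.card_range] at h0
  rw [← Nat.cast_smul_eq_nsmul (ZMod q)] at h0
  refine (smul_eq_zero.1 h0).resolve_left fun h => hpq ?_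
  rw [ZMod.natCast_eq_zero_iff] at h
  exact ((Nat.prime_dvd_prime_iff_eq (Fact.out : q.Prime) (Fact.out : p.Prime)).1 h).symm

/-- Let a finite p-group G act faithfully and irreducibly on a non-trivial finite vector space V over the field with q elements (q prime), and suppose G is not cyclic, generalized quaternion, dihedral or semidihedral. Then G has a subgroup H of index p and V is the direct sum of p subspaces, each invariant under H, on none of which H acts faithfully, and which every element of G outside H permutes in a single p-cycle. -/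
theorem result
    (q : ℕ) [Fact q.Prime] {V : Type*} [AddCommGroup V] [Module (ZMod q) V] [Finite V] [Nontrivial V]
    {G : Type*} [Group G] [Finite G] (p : ℕ) [Fact p.Prime] (hG : IsPGroup p G)
    (ρ : G →* (V ≃ₗ[ZMod q] V)) (hρ : Function.Injective ρ)
    (hirr : ∀ W : Submodule (ZMod q) V, (∀ g : G, ∀ w ∈ W, ρ g w ∈ W) → W = ⊥ ∨ W = ⊤)
    (hnc : ¬ IsCyclic G) (hnq : ∀ n : ℕ, ¬ Nonempty (G ≃* QuaternionGroup n))
    (hnd : ∀ n : ℕ, ¬ Nonempty (G ≃* DihedralGroup n)) (hnsd : ¬ Cfsg.IsQuasiDihedral G) :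
    ∃ (H : Subgroup G) (W : Fin p → Submodule (ZMod q) V), H.index = p ∧
      iSup W = ⊤ ∧ iSupIndep W ∧
      (∀ h ∈ H, ∀ i, ∀ w ∈ W i, ρ h w ∈ W i) ∧
      (∀ i, ∃ h ∈ H, h ≠ 1 ∧ ∀ w ∈ W i, ρ h w = w) ∧
      ∀ g : G, g ∉ H → ∃ σ : Equiv.Perm (Fin p), orderOf σ = p ∧ ∀ i, (W i).map (ρ g : V →ₗ[ZMod q] V) = W (σ i) := by
  classical
  have hp : p.Prime := Fact.out
  haveI : NeZero p := ⟨hp.ne_zero⟩
  haveI := hG.isNilpotent
  -- fixed points of central elements
  have hcfix : ∀ z ∈ Subgroup.center G, z ≠ 1 → ∀ v : V, ρ z v = v → v = 0 := by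
    intro z hz hz1
    let W : Submodule (ZMod q) V := LinearMap.eqLocus (ρ z : V →ₗ[ZMod q] V) LinearMap.id
    have hW : ∀ g : G, ∀ w ∈ W, ρ g w ∈ W := by
      intro g w hw
      show ρ z (ρ g w) = ρ g w
      have e : ρ z (ρ g w) = ρ g (ρ z w) := by
        show (ρ z * ρ g) w = (ρ g * ρ z) w
        rw [← map_mul, ← map_mul, Subgroup.mem_center_iff.1 hz g]
      rw [e, show ρ z w = w from hw]
    rcases hirr W hW with h | h
    · intro v hv
      exact (Submodule.mem_bot _).1 (h ▸ (show v ∈ W from hv))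
    · exfalso
      apply hz1
      apply hρ
      ext v
      have : v ∈ W := h ▸ Submodule.mem_top
      simpa [W] using this
  have hpq : p ≠ q := by
    intro hpq
    subst hpq
    apply hnc
    have h1 : ∀ g : G, g = 1 := by
      let _act : MulAction G V := MulAction.compHom V ρ
      have hd : p ∣ Nat.card V := by
        haveI := Fintype.ofFinite V
        rw [Module.natCard_eq_pow_finrank (K := ZMod p), Nat.card_zmod]
        exact dvd_pow_self p (Module.finrank_pos (R := ZMod p) (M := V)).ne'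
      obtain ⟨v, hv, hv0⟩ := hG.exists_fixed_point_of_prime_dvd_card_of_fixed_point V hd (a := (0 : V))
        (fun g => map_zero (ρ g))
      let W : Submodule (ZMod p) V := ⨅ g : G, LinearMap.eqLocus (ρ g : V →ₗ[ZMod p] V) LinearMap.id
      have hW : ∀ g : G, ∀ w ∈ W, ρ g w ∈ W := by
        intro g w hw
        simp only [W, Submodule.mem_iInf] at hw ⊢
        intro h
        have e1 : ρ g w = w := hw g
        show ρ h (ρ g w) = ρ g w
        rw [e1]; exact hw h
      rcases hirr W hW with h | h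
      · refine absurd ((Submodule.mem_bot (ZMod p)).1 (h ▸ ?_)).symm hv0
        simp only [W, Submodule.mem_iInf]
        exact fun g => hv g
      · intro g
        apply hρ
        ext w
        have hw : w ∈ W := h ▸ Submodule.mem_top
        simp only [W, Submodule.mem_iInf] at hw
        simpa using hw g
    haveI : Subsingleton G := ⟨fun a b => (h1 a).trans (h1 b).symm⟩
    exact isCyclic_of_subsingleton
  have hord : ∀ {a : G}, a ^ p = 1 → a ≠ 1 → orderOf a = p := fun h h1 => orderOf_eq_prime h h1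
  -- no two independent central elements of order p
  have hcen : ∀ a b : G, a ∈ Subgroup.center G → b ∈ Subgroup.center G → a ^ p = 1 → b ^ p = 1 → b ≠ 1 →
      a ∈ Subgroup.zpowers b := by
    intro a b ha hb hap hbp hb1
    by_contra hab
    obtain ⟨v, hv⟩ := exists_ne (0 : V)
    refine hv (no_pair ρ hpq (Subgroup.mem_center_iff.1 hb a) hbp (hcfix b hb hb1) (fun k => ?_) v)
    have hk : a * b ^ k ≠ 1 := fun e => hab (by
      rw [eq_inv_of_mul_eq_one_left e]; exact inv_mem (pow_mem (Subgroup.mem_zpowers b) k))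
    refine ⟨?_, hcfix _ (mul_mem ha (pow_mem hb k)) hk⟩
    rw [(Commute.pow_right (Subgroup.mem_center_iff.1 hb a) k).mul_pow, hap, ← pow_mul, mul_comm, pow_mul, hbp,
      one_pow, one_mul]
  -- a normal abelian noncyclic subgroup
  obtain ⟨A, hAn, hAc, hA⟩ : ∃ A : Subgroup G, A.Normal ∧ IsMulCommutative A ∧ ¬ IsCyclic A := by
    by_contra hall
    push Not at hall
    by_cases hm : ∃ B : Subgroup G, IsMulCommutative B ∧ ¬ IsCyclic B
    · obtain ⟨-, h | ⟨n, -, h⟩ | h⟩ := Cfsg.Agent.S0519.result p hG hall hm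
      · obtain ⟨n, hn⟩ := h; exact hnq n hn
      · exact hnd n h
      · exact hnsd h
    push Not at hm
    haveI : Nontrivial G := not_subsingleton_iff_nontrivial.1 fun h => hnc (@isCyclic_of_subsingleton _ _ h)
    haveI := hG.center_nontrivial
    obtain ⟨n, hn⟩ := IsPGroup.iff_card.1 (hG.to_subgroup (Subgroup.center G))
    have hpd : p ∣ Nat.card (Subgroup.center G) := by
      rw [hn]
      refine dvd_pow_self p fun e => ?_
      have := Finite.one_lt_card (α := Subgroup.center G)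
      rw [hn, e, pow_zero] at this
      omega
    obtain ⟨z, hz⟩ := exists_prime_orderOf_dvd_card' (G := Subgroup.center G) p hpd
    suffices huniq : ∀ w : G, w ^ p = 1 → w ∈ Subgroup.zpowers (z : G) by
      rcases CfsgLib.UniqueSubgroup.cyclic_or_quaternion hG (z := (z : G)) (by rw [Subgroup.orderOf_coe, hz]) huniq
        with h | ⟨-, m, -, h⟩
      · exact hnc h
      · exact hnq _ h
    intro w hw
    set B := Subgroup.closure {(z : G), w}
    haveI hBc : IsMulCommutative B := Subgroup.isMulCommutative_closure fun u hu v hv => by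
      have hzw : Commute (z : G) w := (Subgroup.mem_center_iff.1 z.2 w).symm
      rcases hu with rfl | rfl <;> rcases hv with rfl | rfl
      exacts [rfl, hzw.eq, hzw.symm.eq, rfl]
    obtain ⟨c, hc⟩ := (hm B hBc).exists_generator
    have hB : ∀ b : B, b ^ p = 1 := by
      rintro ⟨b, hb⟩
      apply Subtype.ext
      show b ^ p = 1
      induction hb using Subgroup.closure_induction with
      | mem u hu =>
        rcases hu with rfl | rfl
        · exact orderOf_dvd_iff_pow_eq_one.1 (by rw [Subgroup.orderOf_coe, hz])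
        · exact hw
      | one => exact one_pow p
      | mul u v hu hv ihu ihv =>
        have huv : Commute u v := congrArg Subtype.val (mul_comm' (⟨u, hu⟩ : B) ⟨v, hv⟩)
        rw [huv.mul_pow, ihu, ihv, one_mul]
      | inv u _ ihu => rw [inv_pow, ihu, inv_one]
    have hcard : Nat.card B ≤ p := by
      rw [← orderOf_eq_card_of_forall_mem_zpowers hc]
      exact Nat.le_of_dvd hp.pos (orderOf_dvd_of_pow_eq_one (hB c))
    have : Subgroup.zpowers (z : G) = B := Subgroup.eq_of_le_of_card_ge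
      (Subgroup.zpowers_le.2 (Subgroup.subset_closure (by simp)))
      (by rw [Nat.card_zpowers, Subgroup.orderOf_coe, hz]; exact hcard)
    rw [this]
    exact Subgroup.subset_closure (by simp)
  haveI := hAn
  haveI := hAc
  -- its elements killed by p
  letI : CommGroup A := { (inferInstance : Group A) with mul_comm := fun a b => mul_comm' a b }
  let Ω : Subgroup G := (powMonoidHom (α := A) p).ker.map A.subtype
  have hΩmem : ∀ w : G, w ∈ Ω ↔ w ∈ A ∧ w ^ p = 1 := by
    intro w
    constructor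
    · rintro ⟨a, ha, rfl⟩
      exact ⟨a.2, congrArg Subtype.val (show a ^ p = 1 from ha)⟩
    · rintro ⟨hw, hw'⟩
      exact ⟨⟨w, hw⟩, Subtype.ext hw', rfl⟩
  haveI hΩn : Ω.Normal := ⟨fun w hw g => by
    rw [hΩmem] at hw ⊢
    exact ⟨hAn.conj_mem w hw.1 g, by rw [conj_pow, hw.2]; group⟩⟩
  have hA1 : A ≠ ⊥ := fun e => hA (by subst e; exact isCyclic_of_subsingleton)
  have hΩ1 : Ω ≠ ⊥ := by
    haveI : Nontrivial A := A.nontrivial_iff_ne_bot.2 hA1
    obtain ⟨n, hn⟩ := IsPGroup.iff_card.1 (hG.to_subgroup A)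
    have hpd : p ∣ Nat.card A := by
      rw [hn]
      refine dvd_pow_self p fun e => ?_
      have := Finite.one_lt_card (α := A)
      rw [hn, e, pow_zero] at this
      omega
    obtain ⟨a, ha⟩ := exists_prime_orderOf_dvd_card' (G := A) p hpd
    intro e
    have : (a : G) ∈ Ω := (hΩmem _).2 ⟨a.2, orderOf_dvd_iff_pow_eq_one.1 (by rw [Subgroup.orderOf_coe, ha])⟩
    rw [e, Subgroup.mem_bot] at this
    rw [← Subgroup.orderOf_coe, this, orderOf_one] at ha
    exact hp.one_lt.ne ha
  obtain ⟨z, hz, hz1⟩ := (Subgroup.bot_or_exists_ne_one (Ω ⊓ Subgroup.center G)).resolve_left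
    (CfsgLib.inf_center_ne_bot_of_nilpotent hΩ1)
  obtain ⟨hzΩ, hzc⟩ := Subgroup.mem_inf.1 hz
  have hzp := ((hΩmem z).1 hzΩ).2
  haveI hZn : (Subgroup.zpowers z).Normal := ⟨fun w hw g => by
    have : w ∈ Subgroup.center G := Subgroup.zpowers_le.2 hzc hw
    rwa [Subgroup.mem_center_iff.1 this g, mul_inv_cancel_right]⟩
  have hΩZ : ¬ Ω ≤ Subgroup.zpowers z := by
    intro hle
    refine hA ?_
    -- all elements of order p of A lie in one cyclic group
    have huniq : ∀ w : A, w ^ p = 1 → w ∈ Subgroup.zpowers (⟨z, ((hΩmem z).1 hzΩ).1⟩ : A) := by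
      intro w hw
      have : (w : G) ∈ Subgroup.zpowers z := hle ((hΩmem _).2 ⟨w.2, by simpa using congrArg Subtype.val hw⟩)
      obtain ⟨i, hi⟩ := Subgroup.mem_zpowers_iff.1 this
      exact Subgroup.mem_zpowers_iff.2 ⟨i, Subtype.ext (by simpa using hi)⟩
    rcases CfsgLib.UniqueSubgroup.cyclic_or_quaternion (hG.to_subgroup A) (z := (⟨z, ((hΩmem z).1 hzΩ).1⟩ : A))
      (by rw [Subgroup.orderOf_mk]; exact hord hzp hz1) huniq with h | ⟨-, m, hm, h⟩
    · exact h
    · exfalso
      obtain ⟨e⟩ := h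
      haveI : NeZero (2 ^ m) := ⟨pow_ne_zero _ two_ne_zero⟩
      have h2 : (QuaternionGroup.a 1 : QuaternionGroup (2 ^ m)) * QuaternionGroup.xa 0 =
          QuaternionGroup.xa 0 * QuaternionGroup.a 1 := e.symm.injective (by rw [map_mul, map_mul]; exact mul_comm' _ _)
      simp only [QuaternionGroup.a_mul_xa, QuaternionGroup.xa_mul_a, QuaternionGroup.xa.injEq, zero_sub, zero_add] at h2
      have h3 : ((2 : ℕ) : ZMod (2 * 2 ^ m)) = 0 := by
        push_cast; linear_combination -h2
      rw [ZMod.natCast_eq_zero_iff] at h3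
      have := Nat.le_of_dvd (by norm_num) h3
      have h4 : 2 ≤ 2 ^ m := Nat.le_self_pow (by omega) 2
      omega
  haveI : Group.IsNilpotent (G ⧸ Subgroup.zpowers z) := inferInstance
  have hN : (Ω.map (QuotientGroup.mk' (Subgroup.zpowers z))) ≠ ⊥ := by
    rw [Ne, Subgroup.map_eq_bot_iff, QuotientGroup.ker_mk']; exact hΩZ
  haveI : (Ω.map (QuotientGroup.mk' (Subgroup.zpowers z))).Normal :=
    Subgroup.Normal.map inferInstance _ (QuotientGroup.mk'_surjective _)
  obtain ⟨ē, hē, hē1⟩ := (Subgroup.bot_or_exists_ne_one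
    (Ω.map (QuotientGroup.mk' (Subgroup.zpowers z)) ⊓ Subgroup.center _)).resolve_left
    (CfsgLib.inf_center_ne_bot_of_nilpotent hN)
  obtain ⟨hēN, hēc⟩ := Subgroup.mem_inf.1 hē
  obtain ⟨e, heΩ, rfl⟩ := hēN
  have hez : e ∉ Subgroup.zpowers z := fun h => hē1 ((QuotientGroup.eq_one_iff e).2 h)
  have hep := ((hΩmem e).1 heΩ).2
  have hcomm : ∀ g : G, g * e * g⁻¹ * e⁻¹ ∈ Subgroup.zpowers z := fun g => by
    rw [← QuotientGroup.eq_one_iff]
    show QuotientGroup.mk' _ (g * e * g⁻¹ * e⁻¹) = 1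
    rw [map_mul, map_mul, map_mul, map_inv, map_inv, Subgroup.mem_center_iff.1 hēc]
    group
  have hec : e ∉ Subgroup.center G := fun h => hez (hcen e z h hzc hep hzp hz1)
  let χ : G →* Subgroup.zpowers z :=
    { toFun := fun g => ⟨g * e * g⁻¹ * e⁻¹, hcomm g⟩
      map_one' := Subtype.ext (by simp)
      map_mul' := fun g h => Subtype.ext (by
        show g * h * e * (g * h)⁻¹ * e⁻¹ = (g * e * g⁻¹ * e⁻¹) * (h * e * h⁻¹ * e⁻¹)
        have hc : (h * e * h⁻¹ * e⁻¹) ∈ Subgroup.center G := Subgroup.zpowers_le.2 hzc (hcomm h)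
        have hc' := Subgroup.mem_center_iff.1 hc
        calc g * h * e * (g * h)⁻¹ * e⁻¹ = g * (h * e * h⁻¹ * e⁻¹) * e * g⁻¹ * e⁻¹ := by group
          _ = (h * e * h⁻¹ * e⁻¹) * (g * e * g⁻¹ * e⁻¹) := by rw [hc' g]; group
          _ = _ := (hc' _).symm) }
  have hZcard : Nat.card (Subgroup.zpowers z) = p := by rw [Nat.card_zpowers, hord hzp hz1]
  have hχ : Function.Surjective χ := by
    rw [← MonoidHom.range_eq_top]
    haveI := Fact.mk hp
    rcases (Nat.dvd_prime hp).1 (hZcard ▸ χ.range.card_subgroup_dvd_card) with h | h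
    · exfalso
      apply hec
      rw [Subgroup.mem_center_iff]
      intro g
      have : χ g ∈ χ.range := ⟨g, rfl⟩
      rw [Subgroup.card_eq_one.1 h, Subgroup.mem_bot] at this
      have e' : g * e * g⁻¹ * e⁻¹ = 1 := congrArg Subtype.val this
      rw [mul_inv_eq_one, mul_inv_eq_iff_eq_mul] at e'
      exact e'
    · exact Subgroup.eq_top_of_card_eq _ (h.trans hZcard.symm)
  have hidx : χ.ker.index = p := by
    rw [Subgroup.index_ker, MonoidHom.range_eq_top.2 hχ, Subgroup.card_top, hZcard]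
  have hzH : z ∈ χ.ker := Subtype.ext (by
    show z * e * z⁻¹ * e⁻¹ = 1
    rw [← Subgroup.mem_center_iff.1 hzc e]; group)
  have heH : e ∈ χ.ker := Subtype.ext (by show e * e * e⁻¹ * e⁻¹ = 1; group)
  have hcHe : ∀ h ∈ χ.ker, h * e * h⁻¹ = e := fun h hh => by
    have e' : h * e * h⁻¹ * e⁻¹ = 1 := congrArg Subtype.val hh
    exact mul_inv_eq_one.1 e'
  let W : Fin p → Submodule (ZMod q) V := fun i =>
    LinearMap.eqLocus (ρ (e * z ^ (i : ℕ)) : V →ₗ[ZMod q] V) LinearMap.id
  have hWmem : ∀ i v, v ∈ W i ↔ ρ (e * z ^ (i : ℕ)) v = v := fun i v => Iff.rfl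
  have hpow : ∀ i : ℕ, (e * z ^ i) ^ p = 1 := fun i => by
    rw [(Commute.pow_right (Subgroup.mem_center_iff.1 hzc e) i).mul_pow, hep, ← pow_mul, mul_comm, pow_mul, hzp,
      one_pow, one_mul]
  have hzsum : ∀ v : V, ∑ j ∈ Finset.range p, ρ (z ^ j) v = 0 := fun v => hcfix z hzc hz1 _ (sum_pow_apply ρ hzp v)
  have hpne : (p : ZMod q) ≠ 0 := fun h => hpq ((Nat.prime_dvd_prime_iff_eq (Fact.out : q.Prime) hp).1
    ((ZMod.natCast_eq_zero_iff p q).1 h)).symm
  refine ⟨χ.ker, W, hidx, ?_, ?_, ?_, ?_, ?_⟩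
  · -- the spaces span
    rw [eq_top_iff]
    intro v _
    have h0 : ∑ k ∈ Finset.range p, ∑ i ∈ Finset.range p, ρ ((e * z ^ k) ^ i) v = (p : ZMod q) • v := by
      rw [Finset.sum_comm, Finset.sum_eq_single 0 ?_ (fun h => absurd (Finset.mem_range.2 hp.pos) h)]
      · simp only [pow_zero, map_one, LinearEquiv.coe_one, id_eq, Finset.sum_const, Finset.card_range]
        rw [← Nat.cast_smul_eq_nsmul (ZMod q)]
      intro i hi hi0
      have hco : Nat.Coprime i p := (hp.coprime_iff_not_dvd.2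
        (Nat.not_dvd_of_pos_of_lt (Nat.pos_of_ne_zero hi0) (Finset.mem_range.1 hi))).symm
      have e' : ∀ k, ρ ((e * z ^ k) ^ i) v = ρ (e ^ i) (ρ (z ^ ((k * i) % p)) v) := fun k => by
        rw [(Commute.pow_right (Subgroup.mem_center_iff.1 hzc e) k).mul_pow, ← pow_mul, pow_eq_pow_mod (k * i) hzp,
          map_mul]; rfl
      simp only [e']
      rw [← map_sum]
      suffices h : ∑ k ∈ Finset.range p, ρ (z ^ ((k * i) % p)) v = ∑ j ∈ Finset.range p, ρ (z ^ j) v by
        rw [h, hzsum, map_zero]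
      have hinj : Set.InjOn (fun k => (k * i) % p) ↑(Finset.range p) := fun x hx y hy e =>
        Nat.ModEq.eq_of_lt_of_lt (Nat.ModEq.cancel_right_of_coprime hco.symm e) (Finset.mem_range.1 hx)
          (Finset.mem_range.1 hy)
      rw [← Finset.sum_image (f := fun j => ρ (z ^ j) v) hinj]
      refine Finset.sum_congr (Finset.eq_of_subset_of_card_le ?_ ?_) fun _ _ => rfl
      · intro j hj
        obtain ⟨k, -, rfl⟩ := Finset.mem_image.1 hj
        exact Finset.mem_range.2 (Nat.mod_lt _ hp.pos)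
      · rw [Finset.card_image_of_injOn hinj]
    have hmem : (p : ZMod q) • v ∈ iSup W := by
      rw [← h0]
      refine Submodule.sum_mem _ fun k hk => Submodule.mem_iSup_of_mem ⟨k, Finset.mem_range.1 hk⟩ ?_
      exact sum_pow_apply ρ (hpow k) v
    have := Submodule.smul_mem (iSup W) (p : ZMod q)⁻¹ hmem
    rwa [smul_smul, inv_mul_cancel₀ hpne, one_smul] at this
  · -- they are independent
    rw [iSupIndep_def]
    intro k
    rw [Submodule.disjoint_def]
    intro v hv hv'
    let P : V →ₗ[ZMod q] V := ∑ i ∈ Finset.range p, (ρ ((e * z ^ (k : ℕ)) ^ i) : V →ₗ[ZMod q] V)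
    have hPv : ∀ u, P u = ∑ i ∈ Finset.range p, ρ ((e * z ^ (k : ℕ)) ^ i) u := fun u => by
      simp only [P, LinearMap.sum_apply]; rfl
    have h1 : P v = (p : ZMod q) • v := by
      rw [hPv]
      have : ∀ i, ρ ((e * z ^ (k : ℕ)) ^ i) v = v := by
        intro i
        induction i with
        | zero => simp
        | succ i ih =>
          rw [pow_succ, map_mul]
          show ρ ((e * z ^ (k : ℕ)) ^ i) (ρ (e * z ^ (k : ℕ)) v) = v
          rw [show ρ (e * z ^ (k : ℕ)) v = v from hv, ih]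
      rw [Finset.sum_congr rfl fun i _ => this i, Finset.sum_const, Finset.card_range, ← Nat.cast_smul_eq_nsmul (ZMod q)]
    have h2 : (⨆ l, ⨆ _ : l ≠ k, W l) ≤ LinearMap.ker P := by
      refine iSup₂_le fun l hl u hu => ?_
      rw [LinearMap.mem_ker, hPv]
      set d := z ^ ((k : ℕ) + (p - (l : ℕ))) with hd
      have hdc : d ∈ Subgroup.center G := pow_mem hzc _
      have hd1 : d ≠ 1 := by
        intro h
        have h' := orderOf_dvd_of_pow_eq_one h
        rw [hord hzp hz1] at h'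
        have hl' := l.2; have hk' := k.2
        obtain ⟨c, hc⟩ := h'
        have : c < 2 := by
          by_contra hc2
          have : p * 2 ≤ p * c := Nat.mul_le_mul_left p (by omega)
          omega
        interval_cases c
        · omega
        · exact hl (Fin.ext (by omega))
      have hek : e * z ^ (k : ℕ) = d * (e * z ^ (l : ℕ)) := by
        rw [hd, ← mul_assoc, ← Subgroup.mem_center_iff.1 hdc e, hd, mul_assoc, ← pow_add,
          show (k : ℕ) + (p - (l : ℕ)) + l = k + p by have := l.2; omega, pow_add, hzp, mul_one]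
      have hui : ∀ i, ρ ((e * z ^ (k : ℕ)) ^ i) u = ρ (d ^ i) u := by
        intro i
        rw [hek, Commute.mul_pow (show Commute d (e * z ^ (l : ℕ)) from (Subgroup.mem_center_iff.1 hdc _).symm),
          map_mul]
        show ρ (d ^ i) (ρ ((e * z ^ (l : ℕ)) ^ i) u) = ρ (d ^ i) u
        congr 1
        induction i with
        | zero => simp
        | succ i ih =>
          rw [pow_succ, map_mul]
          show ρ ((e * z ^ (l : ℕ)) ^ i) (ρ (e * z ^ (l : ℕ)) u) = u
          rw [show ρ (e * z ^ (l : ℕ)) u = u from hu, ih]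
      rw [Finset.sum_congr rfl fun i _ => hui i]
      exact hcfix d hdc hd1 _ (sum_pow_apply ρ (by rw [hd, ← pow_mul, mul_comm, pow_mul, hzp, one_pow]) u)
    have h3 := LinearMap.mem_ker.1 (h2 hv')
    rw [h1] at h3
    exact (smul_eq_zero.1 h3).resolve_left hpne
  · intro h hh i w hw
    show ρ (e * z ^ (i : ℕ)) (ρ h w) = ρ h w
    have hcom : e * z ^ (i : ℕ) * h = h * (e * z ^ (i : ℕ)) := by
      have h1 := hcHe h hh
      rw [mul_inv_eq_iff_eq_mul] at h1
      calc e * z ^ (i : ℕ) * h = e * (h * z ^ (i : ℕ)) := by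
            rw [mul_assoc, Subgroup.mem_center_iff.1 (pow_mem hzc _) h]
        _ = _ := by rw [← mul_assoc, ← h1, mul_assoc]
    calc ρ (e * z ^ (i : ℕ)) (ρ h w) = ρ (e * z ^ (i : ℕ) * h) w := by
          rw [map_mul ρ (e * z ^ (i : ℕ)) h]; rfl
      _ = ρ h (ρ (e * z ^ (i : ℕ)) w) := by rw [hcom, map_mul ρ h (e * z ^ (i : ℕ))]; rfl
      _ = ρ h w := by rw [show ρ (e * z ^ (i : ℕ)) w = w from hw]
  · intro i
    refine ⟨e * z ^ (i : ℕ), mul_mem heH (pow_mem hzH _), fun h => hez ?_, fun w hw => hw⟩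
    rw [eq_inv_of_mul_eq_one_left h]
    exact inv_mem (pow_mem (Subgroup.mem_zpowers z) _)
  · intro g hg
    obtain ⟨j, hj, hje⟩ : ∃ j : ℕ, ¬ p ∣ j ∧ g * e * g⁻¹ = e * z ^ j := by
      obtain ⟨j, hj⟩ := mem_powers_iff_mem_zpowers.2 (hcomm g)
      have hj' : z ^ j = g * e * g⁻¹ * e⁻¹ := hj
      refine ⟨j, fun hd => hg ?_, ?_⟩
      · obtain ⟨c, rfl⟩ := hd
        refine Subtype.ext ?_
        show g * e * g⁻¹ * e⁻¹ = 1
        rw [← hj', pow_mul, hzp, one_pow]
      · rw [Subgroup.mem_center_iff.1 (pow_mem hzc j) e, hj']; group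
    refine ⟨Equiv.addRight (⟨j % p, Nat.mod_lt _ hp.pos⟩ : Fin p), ?_, fun i => ?_⟩
    · refine orderOf_eq_prime ?_ ?_
      · ext i
        have : ∀ n : ℕ, (((Equiv.addRight (⟨j % p, Nat.mod_lt _ hp.pos⟩ : Fin p)) ^ n) i : ℕ) = ((i : ℕ) + n * j) % p := by
          intro n
          induction n with
          | zero => simp [Nat.mod_eq_of_lt i.2]
          | succ n ih =>
            rw [pow_succ', Equiv.Perm.mul_apply]
            simp only [Equiv.coe_addRight, Fin.val_add, ih]
            rw [← Nat.add_mod, Nat.succ_mul, add_assoc]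
        rw [this p]
        simp [Nat.mod_eq_of_lt i.2]
      · intro h
        have h' := congrArg (fun σ : Equiv.Perm (Fin p) => ((σ ⟨0, hp.pos⟩ : Fin p) : ℕ)) h
        simp [Fin.val_add] at h'
        exact hj (Nat.dvd_of_mod_eq_zero h')
    · have hconj : g * (e * z ^ (i : ℕ)) * g⁻¹ = e * z ^ ((((Equiv.addRight
          (⟨j % p, Nat.mod_lt _ hp.pos⟩ : Fin p)) i : Fin p)) : ℕ) := by
        simp only [Equiv.coe_addRight, Fin.val_add]
        rw [show g * (e * z ^ (i : ℕ)) * g⁻¹ = (g * e * g⁻¹) * (g * z ^ (i : ℕ) * g⁻¹) by group, hje,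
          Subgroup.mem_center_iff.1 (pow_mem hzc (i : ℕ)) g, mul_inv_cancel_right, mul_assoc, ← pow_add,
          ← pow_eq_pow_mod _ hzp, pow_add, pow_add, ← pow_eq_pow_mod _ hzp, ← pow_add, ← pow_add, add_comm]
      ext v
      rw [Submodule.mem_map, hWmem, ← hconj]
      have happ : ∀ w : V, ρ (g * (e * z ^ (i : ℕ)) * g⁻¹) (ρ g w) = ρ g (ρ (e * z ^ (i : ℕ)) w) := fun w => by
        show (ρ (g * (e * z ^ (i : ℕ)) * g⁻¹) * ρ g) w = (ρ g * ρ (e * z ^ (i : ℕ))) w
        rw [← map_mul, ← map_mul, inv_mul_cancel_right]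
      constructor
      · rintro ⟨w, hw, rfl⟩
        show ρ (g * (e * z ^ (i : ℕ)) * g⁻¹) (ρ g w) = ρ g w
        rw [happ, (hWmem i w).1 hw]
      · intro hv
        refine ⟨(ρ g).symm v, (hWmem i _).2 ((ρ g).injective ?_), (ρ g).apply_symm_apply v⟩
        rw [← happ, LinearEquiv.apply_symm_apply, hv]

end Cfsg.Agent.S3380
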