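import Cfsg.Statements.S3371
import Mathlib
import Cfsg.Agent.S3380
import Cfsg.Agent.Lib.UniqueSubgroup

set_option autoImplicit false
set_option linter.style.haveILetI false
open Cfsg

namespace Cfsg.Agent.S3371

theorem sq_dvd_pow_odd (x : ℤ) : ∀ j : ℕ,
    x ^ 2 ∣ (x - 1) ^ (2 * j + 1) + 1 - (2 * j + 1) * x ∧ x ^ 2 ∣ (x + 1) ^ (2 * j + 1) - 1 - (2 * j + 1) * x := by
  intro j
  induction j with
  | zero => simp
  | succ j ih =>
    obtain ⟨⟨c, hc⟩, c', hc'⟩ := ih
    constructor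
    · refine ⟨(x - 1) ^ 2 * c + (-1 + (2 * j + 1) * (x - 2)), ?_⟩
      push_cast
      rw [show 2 * (j + 1) + 1 = 2 * j + 1 + 2 by ring, pow_add]
      linear_combination (x - 1) ^ 2 * hc
    · refine ⟨(x + 1) ^ 2 * c' + (1 + (2 * j + 1) * (x + 2)), ?_⟩
      push_cast
      rw [show 2 * (j + 1) + 1 = 2 * j + 1 + 2 by ring, pow_add]
      linear_combination (x + 1) ^ 2 * hc'

theorem lt_two_mul {a k j : ℕ} (ha : 1 ≤ a)
    (h : ((2 : ℤ) ^ a) ^ 2 ∣ (2 : ℤ) ^ k - (2 * j + 1) * 2 ^ a) : k < 2 * a := by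
  by_contra hk
  have h1 : ((2 : ℤ) ^ a) ^ 2 ∣ (2 : ℤ) ^ k := by rw [← pow_mul]; exact pow_dvd_pow _ (by omega)
  have h2 := (dvd_sub_right h1).1 h
  rw [sq] at h2
  have h3 : (2 : ℤ) ^ a ∣ (2 * j + 1) := (mul_dvd_mul_iff_right (pow_ne_zero a two_ne_zero)).1 h2
  have h4 : (2 : ℤ) ∣ 2 * j + 1 := (dvd_pow_self 2 (by omega : a ≠ 0)).trans h3
  omega

theorem pow_add_one_eq_two_pow {q d k : ℕ} (hq : 3 ≤ q) (hodd : Odd q) (hd : 1 ≤ d) (h : q ^ d + 1 = 2 ^ k) :
    d = 1 := by
  rcases Nat.even_or_odd d with ⟨i, rfl⟩ | ⟨j, rfl⟩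
  · exfalso
    obtain ⟨r, hr⟩ := hodd.pow (n := i)
    have e : q ^ (i + i) + 1 = 4 * (r * r + r) + 2 := by rw [pow_add, hr]; ring
    rw [e] at h
    rcases k with _ | _ | k
    · simp at h
    · have : 2 ≤ q ^ i := le_trans (by omega) (Nat.le_self_pow (by omega : i ≠ 0) q)
      have : r = 0 := by simp at h; exact h
      omega
    · rw [pow_succ, pow_succ] at h; omega
  · have hdvd : q + 1 ∣ 2 ^ k := by
      rw [← h]; simpa using (odd_two_mul_add_one j).nat_add_dvd_pow_add_pow q 1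
    obtain ⟨a, -, ha⟩ := (Nat.dvd_prime_pow Nat.prime_two).1 hdvd
    have ha1 : 1 ≤ a := by
      rcases a with _ | a
      · simp at ha; omega
      · omega
    have hk : k < 2 * a := by
      refine lt_two_mul ha1 (j := j) ?_
      have := (sq_dvd_pow_odd ((2 : ℤ) ^ a) j).1
      have hq' : (q : ℤ) = 2 ^ a - 1 := by
        have : ((q + 1 : ℕ) : ℤ) = ((2 ^ a : ℕ) : ℤ) := by rw [ha]
        push_cast at this; linarith
      rwa [← hq', show (q : ℤ) ^ (2 * j + 1) + 1 = 2 ^ k by exact_mod_cast congrArg (Nat.cast : ℕ → ℤ) h] at this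
    by_contra hj
    have h1 : (q + 1) ^ 2 ≤ q ^ (2 * j + 1) + 1 := by
      have : q ^ 3 ≤ q ^ (2 * j + 1) := Nat.pow_le_pow_right (by omega) (by omega)
      nlinarith [Nat.mul_le_mul_left (q * q) hq]
    rw [h, ha, ← pow_mul] at h1
    have := (Nat.pow_le_pow_iff_right (by norm_num : 1 < 2)).1 h1
    omega

theorem pow_sub_one_eq_two_pow {q d k : ℕ} (hq : 3 ≤ q) (hd : 1 ≤ d) (h : q ^ d = 2 ^ k + 1) :
    d = 1 ∨ (q = 3 ∧ d = 2) := by
  rcases Nat.even_or_odd d with ⟨i, rfl⟩ | ⟨j, rfl⟩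
  · right
    have hi : 1 ≤ i := by omega
    have hi2 : q ≤ q ^ i := Nat.le_self_pow (by omega) q
    have e : (q ^ i - 1) * (q ^ i + 1) = 2 ^ k := by
      rw [pow_add] at h
      obtain ⟨c, hc⟩ : ∃ c, q ^ i = c + 1 := ⟨q ^ i - 1, by omega⟩
      rw [hc] at h ⊢
      rw [Nat.add_sub_cancel]; nlinarith
    obtain ⟨a, -, ha⟩ := (Nat.dvd_prime_pow Nat.prime_two).1 (Dvd.intro _ e)
    obtain ⟨b, -, hb⟩ := (Nat.dvd_prime_pow Nat.prime_two).1 (Dvd.intro_left _ e)
    have ha1 : a = 1 := by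
      rcases a with _ | _ | a
      · simp at ha; omega
      · rfl
      · rcases b with _ | _ | b
        · simp at hb; omega
        · simp at hb; omega
        · rw [pow_succ, pow_succ] at ha hb; omega
    subst ha1
    have h3 : q ^ i = 3 := by simp at ha; omega
    have hq3 : q = 3 := by omega
    subst hq3
    have : i = 1 := (Nat.pow_eq_self_iff (by norm_num)).1 h3
    exact ⟨rfl, by omega⟩
  · left
    have hdvd : q - 1 ∣ 2 ^ k := by
      rw [show 2 ^ k = q ^ (2 * j + 1) - 1 ^ (2 * j + 1) by rw [one_pow, h]; rfl]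
      exact Nat.sub_dvd_pow_sub_pow q 1 _
    obtain ⟨a, -, ha⟩ := (Nat.dvd_prime_pow Nat.prime_two).1 hdvd
    have ha1 : 1 ≤ a := by
      rcases a with _ | a
      · simp at ha; omega
      · omega
    have hk : k < 2 * a := by
      refine lt_two_mul ha1 (j := j) ?_
      have := (sq_dvd_pow_odd ((2 : ℤ) ^ a) j).2
      have hq' : (q : ℤ) = 2 ^ a + 1 := by
        have : q = 2 ^ a + 1 := by omega
        exact_mod_cast congrArg (Nat.cast : ℕ → ℤ) this
      rw [← hq', show (q : ℤ) ^ (2 * j + 1) = 2 ^ k + 1 by exact_mod_cast congrArg (Nat.cast : ℕ → ℤ) h] at this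
      simpa using this
    by_contra hj
    have h1 : (q - 1) ^ 2 + 1 ≤ q ^ (2 * j + 1) := by
      have h2 : q ^ 2 ≤ q ^ (2 * j + 1) := Nat.pow_le_pow_right (by omega) (by omega)
      have h3 : (q - 1) ^ 2 < q ^ 2 := Nat.pow_lt_pow_left (by omega) two_ne_zero
      omega
    rw [h, ha, ← pow_mul] at h1
    have := (Nat.pow_le_pow_iff_right (by norm_num : 1 < 2)).1 (Nat.le_of_add_le_add_right h1)
    omega

/-- The stabiliser of a vector. -/
def stab {q : ℕ} {V : Type*} [AddCommGroup V] [Module (ZMod q) V] {G : Type*} [Group G]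
    (ρ : G →* (V ≃ₗ[ZMod q] V)) (v : V) : Subgroup G where
  carrier := {g | ρ g v = v}
  one_mem' := by simp
  mul_mem' {g h} hg hh := by
    show ρ (g * h) v = v
    rw [map_mul]
    show ρ g (ρ h v) = v
    rw [show ρ h v = v from hh]; exact hg
  inv_mem' {g} hg := by
    show ρ g⁻¹ v = v
    conv_lhs => rw [← show ρ g v = v from hg]
    show (ρ g⁻¹ * ρ g) v = v
    rw [← map_mul, inv_mul_cancel, map_one]; rfl

section
variable {q : ℕ} [Fact q.Prime] {V : Type*} [AddCommGroup V] [Module (ZMod q) V] [Finite V]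
  {G : Type*} [Group G] [Finite G] {ρ : G →* (V ≃ₗ[ZMod q] V)}

theorem mem_stab {g : G} {v : V} : g ∈ stab ρ v ↔ ρ g v = v := Iff.rfl

theorem stab_zero : stab ρ (0 : V) = ⊤ := eq_top_iff.2 fun g _ => map_zero (ρ g)

theorem mul_app (g h : G) (v : V) : ρ (g * h) v = ρ g (ρ h v) := by rw [map_mul]; rfl

theorem one_app (v : V) : ρ 1 v = v := by rw [map_one]; rfl

theorem inv_app (g : G) (v : V) : ρ g⁻¹ (ρ g v) = v := by rw [← mul_app, inv_mul_cancel, one_app]

theorem app_inv (g : G) (v : V) : ρ g (ρ g⁻¹ v) = v := by rw [← mul_app, mul_inv_cancel, one_app]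

theorem card_stab_eq (hhalf : ∀ v w : V, v ≠ 0 → w ≠ 0 →
      Nat.card {u : V | ∃ g : G, ρ g v = u} = Nat.card {u : V | ∃ g : G, ρ g w = u})
    {v w : V} (hv : v ≠ 0) (hw : w ≠ 0) : Nat.card (stab ρ v) = Nat.card (stab ρ w) := by
  let _act : MulAction G V := MulAction.compHom V ρ
  have key : ∀ v : V, Nat.card {u : V | ∃ g : G, ρ g v = u} * Nat.card (stab ρ v) = Nat.card G := fun v => by
    have h1 : (stab ρ v) = MulAction.stabilizer G v := rfl
    have h2 : {u : V | ∃ g : G, ρ g v = u} = MulAction.orbit G v := rfl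
    rw [h1, h2, Nat.card_coe_set_eq, ← MulAction.index_stabilizer, Subgroup.index_mul_card]
  have h1 := key v
  rw [hhalf v w hv hw, ← key w] at h1
  refine Nat.eq_of_mul_eq_mul_left ?_ h1
  refine Nat.pos_of_ne_zero fun h => ?_
  have := key w
  rw [h, zero_mul] at this
  exact Nat.card_pos.ne this

theorem eq_of_le_stab (hhalf : ∀ v w : V, v ≠ 0 → w ≠ 0 →
      Nat.card {u : V | ∃ g : G, ρ g v = u} = Nat.card {u : V | ∃ g : G, ρ g w = u})
    {v w : V} (hv : v ≠ 0) (hw : w ≠ 0) (h : stab ρ v ≤ stab ρ w) : stab ρ v = stab ρ w :=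
  Subgroup.eq_of_le_of_card_ge h (card_stab_eq hhalf hv hw).ge

/-- Maschke. -/
theorem exists_compl (hco : (Nat.card G : ZMod q) ≠ 0) (U : Submodule (ZMod q) V)
    (hU : ∀ g : G, ∀ u ∈ U, ρ g u ∈ U) :
    ∃ W : Submodule (ZMod q) V, IsCompl U W ∧ ∀ g : G, ∀ w ∈ W, ρ g w ∈ W := by
  classical
  haveI := Fintype.ofFinite G
  obtain ⟨π, hπ⟩ := LinearMap.exists_leftInverse_of_injective U.subtype U.ker_subtype
  have hπU : ∀ u ∈ U, ((π u : U) : V) = u := fun u hu => by
    have := LinearMap.congr_fun hπ ⟨u, hu⟩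
    exact congrArg Subtype.val this
  let P : V →ₗ[ZMod q] V :=
    ∑ g : G, (ρ g : V →ₗ[ZMod q] V) ∘ₗ (U.subtype ∘ₗ π) ∘ₗ (ρ g⁻¹ : V →ₗ[ZMod q] V)
  have hP : ∀ v, P v = ∑ g : G, ρ g (π (ρ g⁻¹ v) : V) := fun v => by
    simp only [P, LinearMap.sum_apply, LinearMap.comp_apply]; rfl
  have hPmem : ∀ v, P v ∈ U := fun v => by
    rw [hP]; exact Submodule.sum_mem _ fun g _ => hU g _ (π (ρ g⁻¹ v)).2
  have hPU : ∀ u ∈ U, P u = (Nat.card G : ZMod q) • u := fun u hu => by
    rw [hP, Finset.sum_congr rfl fun g _ => by rw [hπU _ (hU g⁻¹ u hu), app_inv], Finset.sum_const,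
      Finset.card_univ, ← Nat.card_eq_fintype_card, ← Nat.cast_smul_eq_nsmul (ZMod q)]
  have hPc : ∀ h v, P (ρ h v) = ρ h (P v) := fun h v => by
    rw [hP, hP, map_sum, ← Equiv.sum_comp (Equiv.mulLeft h)]
    refine Finset.sum_congr rfl fun g _ => ?_
    simp only [Equiv.coe_mulLeft]
    rw [mul_app, mul_inv_rev, mul_app, inv_app]
  refine ⟨LinearMap.ker P, ⟨?_, ?_⟩, fun g w hw => ?_⟩
  · rw [Submodule.disjoint_def]
    intro u hu hk
    rw [LinearMap.mem_ker, hPU u hu] at hk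
    exact (smul_eq_zero.1 hk).resolve_left hco
  · rw [codisjoint_iff, eq_top_iff]
    intro v _
    refine Submodule.mem_sup.2 ⟨(Nat.card G : ZMod q)⁻¹ • P v, U.smul_mem _ (hPmem v),
      v - (Nat.card G : ZMod q)⁻¹ • P v, ?_, add_sub_cancel _ _⟩
    rw [LinearMap.mem_ker, map_sub, map_smul, hPU _ (hPmem v), smul_smul, inv_mul_cancel₀ hco, one_smul, sub_self]
  · rw [LinearMap.mem_ker] at hw ⊢
    rw [hPc, hw, map_zero]

/-- If nothing else moves it, a sum over two disjoint invariant spaces splits the stabiliser. -/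
theorem split_fix {U W : Submodule (ZMod q) V} (hd : Disjoint U W) {u w : V} (hu : u ∈ U) (hw : w ∈ W) {g : G}
    (hgu : ρ g u ∈ U) (hgw : ρ g w ∈ W) (h : ρ g (u + w) = u + w) : ρ g u = u ∧ ρ g w = w := by
  rw [map_add] at h
  have h1 : ρ g u - u = w - ρ g w := by
    rw [sub_eq_sub_iff_add_eq_add, h, add_comm]
  have h0 : ρ g u - u = 0 :=
    Submodule.disjoint_def.1 hd _ (U.sub_mem hgu hu) (h1 ▸ W.sub_mem hw hgw)
  refine ⟨sub_eq_zero.1 h0, ?_⟩
  rw [h0] at h1
  exact (sub_eq_zero.1 h1.symm).symm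

theorem neg_one_of_central {z : G} (hz2 : z * z = 1) (hfix : ∀ v : V, ρ z v = v → v = 0) (v : V) : ρ z v = -v := by
  refine eq_neg_of_add_eq_zero_left (hfix _ ?_)
  rw [map_add, ← mul_app, hz2, one_app, add_comm]

/-- Counting when each vector is fixed by exactly one noncentral involution. -/
theorem count_case (hq2 : q ≠ 2) (hρ : Function.Injective ρ)
    (hfix : ∀ z ∈ Subgroup.center G, z ≠ 1 → ∀ v : V, ρ z v = v → v = 0)
    (hst : ∀ v : V, v ≠ 0 → stab ρ v ≠ ⊥) [Nontrivial V]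
    (x : G) {h : ℕ} (hx : orderOf x = 2 * h) (hh : ∃ a, h = 2 ^ a)
    (hzc : x ^ h ∈ Subgroup.center G) (hidx : (Subgroup.zpowers x).index = 2)
    (hmove : ∀ t : G, t ∉ Subgroup.zpowers x → t * t = 1 → ∃ g : G, g * t * g⁻¹ ≠ t)
    {N : ℕ} (hN : Nat.card {t : G // t ∉ Subgroup.zpowers x ∧ t * t = 1} = N) {k : ℕ} (hk : N = 2 ^ k) :
    Nat.card V = q ^ 2 ∧ q + 1 = N := by
  classical
  obtain ⟨a, rfl⟩ := hh
  set z := x ^ 2 ^ a with hz
  have hz2 : z * z = 1 := by rw [hz, ← pow_add, ← two_mul, ← hx, pow_orderOf_eq_one]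
  have hz1 : z ≠ 1 := by
    rw [hz]; exact pow_ne_one_of_lt_orderOf (Nat.two_pow_pos a).ne' (by rw [hx]; have := Nat.two_pow_pos a; omega)
  have hneg := neg_one_of_central hz2 (hfix z hzc hz1)
  have hzx : z ∈ Subgroup.zpowers x := pow_mem (Subgroup.mem_zpowers x) _
  haveI : (Subgroup.zpowers x).Normal := Subgroup.normal_of_index_eq_two hidx
  have hC : ∀ c ∈ Subgroup.zpowers x, ∀ v : V, v ≠ 0 → ρ c v = v → c = 1 := by
    intro c hc v hv hcv
    by_contra hc1
    obtain ⟨i, hi⟩ : ∃ i, orderOf c = 2 ^ i := by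
      obtain ⟨j, hj, hj'⟩ := (Nat.dvd_prime_pow Nat.prime_two).1
        (show orderOf c ∣ 2 ^ (a + 1) from by
          rw [pow_succ', ← hx]
          exact orderOf_dvd_of_pow_eq_one (by
            obtain ⟨n, rfl⟩ := Subgroup.mem_zpowers_iff.1 hc
            rw [← zpow_natCast, zpow_comm, zpow_natCast, pow_orderOf_eq_one, one_zpow]))
      exact ⟨j, hj'⟩
    rcases i with _ | i
    · exact hc1 (orderOf_eq_one_iff.1 hi)
    have hw : orderOf (c ^ 2 ^ i) = 2 := by
      rw [orderOf_pow' _ (Nat.two_pow_pos i).ne', hi, Nat.gcd_eq_right (pow_dvd_pow 2 (by omega)), pow_succ,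
        Nat.mul_div_cancel_left _ (Nat.two_pow_pos i)]
    obtain ⟨n, hn⟩ := mem_powers_iff_mem_zpowers.2 (pow_mem hc (2 ^ i))
    have hn' : x ^ n = c ^ 2 ^ i := hn
    have hd : 2 * 2 ^ a ∣ n * 2 := by
      rw [← hx]; apply orderOf_dvd_of_pow_eq_one
      rw [pow_mul, hn']; exact orderOf_dvd_iff_pow_eq_one.1 (dvd_of_eq hw)
    obtain ⟨r, rfl⟩ : 2 ^ a ∣ n := by
      rw [mul_comm n 2] at hd; exact Nat.dvd_of_mul_dvd_mul_left two_pos hd
    have hv' : ρ (c ^ 2 ^ i) v = v := mem_stab.1 ((stab ρ v).pow_mem hcv _)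
    rw [← hn', pow_mul, ← hz] at hv' hw
    rcases Nat.even_or_odd r with ⟨s, rfl⟩ | ⟨s, rfl⟩
    · rw [← two_mul, pow_mul, sq, hz2, one_pow, orderOf_one] at hw; omega
    · rw [pow_succ, pow_mul, sq, hz2, one_pow, one_mul] at hv'
      exact hv (hfix z hzc hz1 v hv')
  let T := {t : G // t ∉ Subgroup.zpowers x ∧ t * t = 1}
  have huniq : ∀ v : V, v ≠ 0 → ∀ s t : G, s ∉ Subgroup.zpowers x → t ∉ Subgroup.zpowers x →
      ρ s v = v → ρ t v = v → s = t := by
    intro v hv s t hs ht hsv htv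
    have hmem : s * t⁻¹ ∈ Subgroup.zpowers x :=
      (Subgroup.mul_mem_iff_of_index_two hidx).2 (iff_of_false hs (by simpa using ht))
    exact mul_inv_eq_one.1 (hC _ hmem v hv ((stab ρ v).mul_mem hsv ((stab ρ v).inv_mem htv)))
  have hex : ∀ v : V, v ≠ 0 → ∃ t : T, ρ t.1 v = v := by
    intro v hv
    obtain ⟨g, hg, hg1⟩ := (Subgroup.bot_or_exists_ne_one (stab ρ v)).resolve_left (hst v hv)
    have hgC : g ∉ Subgroup.zpowers x := fun hgC => hg1 (hC g hgC v hv hg)
    exact ⟨⟨g, hgC, hC _ (Subgroup.mul_self_mem_of_index_two hidx g) v hv ((stab ρ v).mul_mem hg hg)⟩, hg⟩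
  let F : G → Submodule (ZMod q) V := fun t => LinearMap.eqLocus (ρ t : V →ₗ[ZMod q] V) LinearMap.id
  have hF : ∀ t v, v ∈ F t ↔ ρ t v = v := fun t v => Iff.rfl
  let f : G → ℕ := fun t => Module.finrank (ZMod q) (F t)
  set D := Module.finrank (ZMod q) V with hD
  have h2 : (2 : ZMod q) ≠ 0 := by
    intro h
    have h' : ((2 : ℕ) : ZMod q) = 0 := by simpa using h
    rw [ZMod.natCast_eq_zero_iff] at h'
    exact hq2 ((Nat.prime_dvd_prime_iff_eq (Fact.out : q.Prime) Nat.prime_two).1 h')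
  have hzt : ∀ t : T, z * t.1 ∉ Subgroup.zpowers x ∧ (z * t.1) * (z * t.1) = 1 := fun t =>
    ⟨fun hm => t.2.1 (((Subgroup.zpowers x).mul_mem_cancel_left hzx).1 hm), by
      rw [mul_assoc, ← mul_assoc t.1 z, Subgroup.mem_center_iff.1 hzc t.1, mul_assoc z t.1, t.2.2, mul_one, hz2]⟩
  have hdim : ∀ t : T, f t.1 + f (z * t.1) = D := by
    intro t
    refine Submodule.finrank_add_eq_of_isCompl ⟨?_, ?_⟩
    · rw [Submodule.disjoint_def]
      intro v hv hv'
      rw [hF] at hv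
      rw [hF, mul_app, hv, hneg] at hv'
      have : (2 : ZMod q) • v = 0 := by rw [two_smul]; nth_rewrite 1 [← hv']; exact neg_add_cancel v
      exact (smul_eq_zero.1 this).resolve_left h2
    · rw [codisjoint_iff, eq_top_iff]
      intro v _
      refine Submodule.mem_sup.2 ⟨(2 : ZMod q)⁻¹ • (v + ρ t.1 v), ?_, (2 : ZMod q)⁻¹ • (v - ρ t.1 v), ?_, ?_⟩
      · rw [hF, map_smul, map_add, ← mul_app, t.2.2, one_app, add_comm]
      · rw [hF, map_smul, map_sub, mul_app, mul_app, ← mul_app t.1 t.1, t.2.2, one_app, hneg, hneg, neg_sub_neg]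
      · rw [← smul_add, add_add_sub_cancel, ← two_smul (ZMod q) v, smul_smul, inv_mul_cancel₀ h2, one_smul]
  have hle : ∀ t : T, 2 * f t.1 ≤ D := by
    intro t
    obtain ⟨g, hg⟩ := hmove t.1 t.2.1 t.2.2
    have he : f (g * t.1 * g⁻¹) = f t.1 := by
      have : F (g * t.1 * g⁻¹) = (F t.1).map (ρ g : V →ₗ[ZMod q] V) := by
        ext v
        rw [hF, Submodule.mem_map]
        constructor
        · intro hv
          refine ⟨ρ g⁻¹ v, ?_, app_inv g v⟩
          rw [hF]
          have := congrArg (ρ g⁻¹) hv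
          rwa [← mul_app, show g⁻¹ * (g * t.1 * g⁻¹) = t.1 * g⁻¹ by group, mul_app] at this
        · rintro ⟨w, hw, rfl⟩
          show ρ (g * t.1 * g⁻¹) (ρ g w) = ρ g w
          rw [← mul_app, inv_mul_cancel_right, mul_app, show ρ t.1 w = w from hw]
      simp only [f]; rw [this]; exact LinearEquiv.finrank_map_eq _ _
    have hd : Disjoint (F (g * t.1 * g⁻¹)) (F t.1) := by
      rw [Submodule.disjoint_def]
      intro v hv hv'
      by_contra hv0
      exact hg (huniq v hv0 _ _ (fun hm => t.2.1 (by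
        have := (inferInstance : (Subgroup.zpowers x).Normal).conj_mem _ hm g⁻¹
        rwa [show g⁻¹ * (g * t.1 * g⁻¹) * g⁻¹⁻¹ = t.1 by group] at this)) t.2.1 hv hv')
    have := Submodule.finrank_add_finrank_le_of_disjoint hd
    simp only [f] at he ⊢
    omega
  obtain ⟨v0, hv0⟩ := exists_ne (0 : V)
  obtain ⟨t0, -⟩ := hex v0 hv0
  obtain ⟨d, hd⟩ : ∃ d, D = 2 * d := ⟨f t0.1, by
    have := hdim t0; have := hle t0; have : 2 * f (z * t0.1) ≤ D := hle ⟨_, hzt t0⟩; omega⟩
  have hfd : ∀ t : T, f t.1 = d := fun t => by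
    have := hdim t; have := hle t; have : 2 * f (z * t.1) ≤ D := hle ⟨_, hzt t⟩; omega
  have hd1 : 1 ≤ d := by
    have : 0 < D := Module.finrank_pos
    omega
  have hcardV : Nat.card V = q ^ D := by rw [Module.natCard_eq_pow_finrank (K := ZMod q), Nat.card_zmod]
  have hsum : Nat.card {v : V // v ≠ 0} = N * (q ^ d - 1) := by
    have e : (Σ t : T, {v : F t.1 // (v : V) ≠ 0}) ≃ {v : V // v ≠ 0} := Equiv.ofBijective
      (fun s => ⟨s.2.1, s.2.2⟩) ⟨by
        rintro ⟨s, ⟨v, hv⟩, hv0⟩ ⟨t, ⟨w, hw⟩, hw0⟩ h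
        obtain rfl : v = w := congrArg Subtype.val h
        obtain rfl : s = t := Subtype.ext (huniq v hv0 _ _ s.2.1 t.2.1 hv hw)
        rfl, fun v => by
        obtain ⟨t, ht⟩ := hex v.1 v.2
        exact ⟨⟨t, ⟨v.1, ht⟩, v.2⟩, rfl⟩⟩
    haveI := Fintype.ofFinite T
    rw [← Nat.card_congr e, Nat.card_sigma]
    have : ∀ t : T, Nat.card {v : F t.1 // (v : V) ≠ 0} = q ^ d - 1 := fun t => by
      haveI := Fintype.ofFinite (F t.1)
      have h1 : Nat.card (F t.1) = q ^ d := by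
        rw [Module.natCard_eq_pow_finrank (K := ZMod q), Nat.card_zmod]
        exact congrArg (q ^ ·) (hfd t)
      rw [← h1, Nat.card_eq_fintype_card, Nat.card_eq_fintype_card]
      simp only [ne_eq, Submodule.coe_eq_zero]
      rw [Fintype.card_subtype_compl, Fintype.card_subtype_eq]
    rw [Finset.sum_congr rfl fun t _ => this t, Finset.sum_const, Finset.card_univ, smul_eq_mul,
      ← Nat.card_eq_fintype_card, hN]
  have htot : Nat.card {v : V // v ≠ 0} = q ^ D - 1 := by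
    haveI := Fintype.ofFinite V
    rw [← hcardV, Nat.card_eq_fintype_card, Nat.card_eq_fintype_card]
    simp only [ne_eq]
    rw [Fintype.card_subtype_compl, Fintype.card_subtype_eq]
  have hqd : 2 ≤ q ^ d := le_trans (Fact.out : q.Prime).two_le (Nat.le_self_pow (by omega) q)
  have hN' : N = q ^ d + 1 := by
    rw [htot, hd, two_mul, pow_add] at hsum
    obtain ⟨c, hc⟩ : ∃ c, q ^ d = c + 1 := ⟨q ^ d - 1, by omega⟩
    rw [hc] at hsum ⊢
    rw [Nat.add_sub_cancel, show (c + 1) * (c + 1) - 1 = c * (c + 2) by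
      have : (c + 1) * (c + 1) = c * (c + 2) + 1 := by ring
      omega, mul_comm] at hsum
    exact Nat.eq_of_mul_eq_mul_right (show 0 < c by omega) hsum.symm
  obtain rfl := pow_add_one_eq_two_pow (by have := (Fact.out : q.Prime).two_le; omega)
    ((Fact.out : q.Prime).odd_of_ne_two hq2) hd1 (hN'.symm.trans hk)
  exact ⟨by rw [hcardV, hd], by rw [hN', pow_one]⟩

/-- The monomial case with two summands. -/
theorem two_case (hq2 : q ≠ 2) (hG : IsPGroup 2 G) (hρ : Function.Injective ρ)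
    (hhalf : ∀ v w : V, v ≠ 0 → w ≠ 0 →
      Nat.card {u : V | ∃ g : G, ρ g v = u} = Nat.card {u : V | ∃ g : G, ρ g w = u})
    (H : Subgroup G) (hH : H.index = 2) (W0 W1 : Submodule (ZMod q) V) (hc : IsCompl W0 W1)
    (hW0 : W0 ≠ ⊥) (hW1 : W1 ≠ ⊥)
    (hH0 : ∀ h ∈ H, ∀ w ∈ W0, ρ h w ∈ W0) (hH1 : ∀ h ∈ H, ∀ w ∈ W1, ρ h w ∈ W1)
    (hg0 : ∀ g, g ∉ H → ∀ w ∈ W0, ρ g w ∈ W1) (hg1 : ∀ g, g ∉ H → ∀ w ∈ W1, ρ g w ∈ W0)
    (hA : ∃ h ∈ H, h ≠ 1 ∧ ∀ w ∈ W0, ρ h w = w) :
    (Nat.card V = q ^ 2 ∧ (∃ m : ℕ, q = 2 ^ m + 1) ∧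
      ∃ e : V ≃ₗ[ZMod q] (Fin 2 → ZMod q), ∀ f : (Fin 2 → ZMod q) ≃ₗ[ZMod q] (Fin 2 → ZMod q),
        (∃ g : G, f = e.symm.trans ((ρ g).trans e)) ↔
        ∃ a s : ZMod q, a ≠ 0 ∧ (s = 1 ∨ s = -1) ∧
          ((∀ v, f v = ![a * v 0, s * a⁻¹ * v 1]) ∨ (∀ v, f v = ![s * a⁻¹ * v 1, a * v 0]))) ∨
    (Nat.card V = 81 ∧ q = 3) := by
  classical
  have h2 : (2 : ZMod q) ≠ 0 := by
    intro h
    have h' : ((2 : ℕ) : ZMod q) = 0 := by simpa using h
    rw [ZMod.natCast_eq_zero_iff] at h'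
    exact hq2 ((Nat.prime_dvd_prime_iff_eq (Fact.out : q.Prime) Nat.prime_two).1 h')
  have hdis := Submodule.disjoint_def.1 hc.disjoint
  have hbot : ∀ v : V, v + v = 0 → v = 0 := fun v hv => by
    rw [← two_smul (ZMod q)] at hv; exact (smul_eq_zero.1 hv).resolve_left h2
  obtain ⟨v1, hv1, hv1'⟩ := Submodule.exists_mem_ne_zero_of_ne_bot hW0
  have hsub0 : ∀ v ∈ W0, v ≠ 0 → stab ρ v ≤ H := fun v hv hv' g hg => by
    by_contra hgH
    exact hv' (hdis v hv (by have := hg0 g hgH v hv; rwa [show ρ g v = v from hg] at this))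
  -- for each pair of vectors the stabiliser of one meets that of the other in index at most 2
  have hne : ∀ v ∈ W0, ∀ w ∈ W1, v ≠ 0 → v + w ≠ 0 := fun v hv w hw hv' h => hv'
    (hdis v hv (by rw [eq_neg_of_add_eq_zero_left h]; exact W1.neg_mem hw))
  have hsplit : ∀ v ∈ W0, ∀ w ∈ W1, ∀ h ∈ H, ρ h (v + w) = v + w → ρ h v = v ∧ ρ h w = w :=
    fun v hv w hw h hh e => split_fix hc.disjoint hv hw (hH0 h hh v hv) (hH1 h hh w hw) e
  have hidx : ∀ v ∈ W0, ∀ w ∈ W1, v ≠ 0 → Nat.card (stab ρ v) ≤ 2 * Nat.card ↥(stab ρ v ⊓ stab ρ w) := by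
    intro v hv w hw hv'
    rw [card_stab_eq hhalf hv' (hne v hv w hw hv')]
    have h1 : (H.subgroupOf (stab ρ (v + w))).index ≤ 2 := by
      show H.relIndex (stab ρ (v + w)) ≤ 2
      rw [← hH]
      haveI : H.Normal := Subgroup.normal_of_index_eq_two hH
      exact Nat.le_of_dvd (by rw [hH]; norm_num) (Subgroup.relIndex_dvd_index_of_normal H _)
    rw [← (H.subgroupOf (stab ρ (v + w))).index_mul_card]
    refine le_trans (Nat.mul_le_mul_right _ h1) (Nat.mul_le_mul_left 2 ?_)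
    refine Nat.card_le_card_of_injective
      (fun g => (⟨g.1.1, hsplit v hv w hw _ g.2 g.1.2⟩ : ↥(stab ρ v ⊓ stab ρ w))) ?_
    intro g g' e
    exact Subtype.ext (Subtype.ext (congrArg (fun u : ↥(stab ρ v ⊓ stab ρ w) => (u : G)) e))
  have htwo : ∀ v ∈ W0, ∀ w ∈ W1, v ≠ 0 → ∀ g g' : G, ρ g v = v → ρ g' v = v → ρ g w ≠ w → ρ g' w ≠ w →
      ρ (g * g') w = w ∧ ρ g w = ρ g' w := by
    intro v hv w hw hv' g g' hg hg' hgw hg'w
    let S := stab ρ v
    let M : Subgroup S := (stab ρ w).subgroupOf S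
    have hM : M.index = 2 := by
      have h1 : M.index * Nat.card M = Nat.card S := M.index_mul_card
      have h3 : Nat.card M = Nat.card ↥(stab ρ v ⊓ stab ρ w) := by
        exact Nat.card_congr (Equiv.mk (fun g => ⟨g.1.1, ⟨g.1.2, g.2⟩⟩) (fun g => ⟨⟨g.1, g.2.1⟩, g.2.2⟩)
          (fun g => rfl) (fun g => rfl))
      have h4 := hidx v hv w hw hv'
      rw [← h3] at h4
      have h5 : M.index ≠ 1 := fun h => hgw (by
        have : (⟨g, hg⟩ : S) ∈ M := Subgroup.index_eq_one.1 h ▸ Subgroup.mem_top _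
        exact this)
      have h6 : 0 < Nat.card M := Nat.card_pos
      have h7 : M.index ≠ 0 := Subgroup.index_ne_zero_of_finite
      have h8 : M.index ≤ 2 := Nat.le_of_mul_le_mul_right (h1 ▸ h4) h6
      omega
    have e1 : ρ (g * g') w = w := (Subgroup.mul_mem_iff_of_index_two hM
      (a := (⟨g, hg⟩ : S)) (b := ⟨g', hg'⟩)).2 (iff_of_false hgw hg'w)
    have e2 : ρ (g' * g') w = w := Subgroup.mul_self_mem_of_index_two hM (⟨g', hg'⟩ : S)
    refine ⟨e1, ?_⟩
    rw [mul_app] at e1 e2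
    exact (ρ g).injective.eq_iff.2 rfl |>.trans (by
      have e3 : ρ g⁻¹ w = ρ g' w := by conv_lhs => rw [← e1, inv_app]
      have e4 : ρ (g * g) w = w := Subgroup.mul_self_mem_of_index_two hM (⟨g, hg⟩ : S)
      rw [← e3]
      rw [mul_app] at e4
      conv_rhs => rw [← e4, inv_app])
  -- the kernel on `W0`
  have hAext : ∀ c c' : G, (∀ w ∈ W0, ρ c w = ρ c' w) → (∀ w ∈ W1, ρ c w = ρ c' w) → c = c' := by
    intro c c' h0 h1
    apply hρ
    ext v
    obtain ⟨x, hx, y, hy, rfl⟩ := Submodule.mem_sup.1 (hc.sup_eq_top ▸ Submodule.mem_top : v ∈ W0 ⊔ W1)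
    rw [map_add, map_add, h0 x hx, h1 y hy]
  have hAH : ∀ c, (∀ w ∈ W0, ρ c w = w) → c ∈ H := fun c h => hsub0 v1 hv1 hv1' (h v1 hv1)
  have hA2 : ∀ c, (∀ w ∈ W0, ρ c w = w) → c * c = 1 := by
    intro c h
    refine hAext _ _ (fun w hw => by rw [mul_app, h w hw, h w hw, one_app]) fun w hw => ?_
    rw [one_app]
    by_cases hcw : ρ c w = w
    · rw [mul_app, hcw, hcw]
    · exact (htwo v1 hv1 w hw hv1' c c (h v1 hv1) (h v1 hv1) hcw hcw).1
  obtain ⟨a, haH, ha1, ha⟩ := hA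
  obtain ⟨u, hu, hu0, hua⟩ : ∃ u ∈ W1, u ≠ 0 ∧ ρ a u = -u := by
    obtain ⟨w, hw, hw'⟩ : ∃ w ∈ W1, ρ a w ≠ w := by
      by_contra h
      push Not at h
      exact ha1 (hAext a 1 (fun w hw => by rw [ha w hw, one_app]) fun w hw => by rw [h w hw, one_app])
    refine ⟨w - ρ a w, W1.sub_mem hw (hH1 a haH w hw), sub_ne_zero.2 (Ne.symm hw'), ?_⟩
    rw [map_sub, ← mul_app, hA2 a ha, one_app, neg_sub]
  have hAuniq : ∀ c, (∀ w ∈ W0, ρ c w = w) → c = 1 ∨ c = a := by
    intro c hc0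
    -- reduce to an element fixing `u`
    obtain ⟨c', hc', hc'u, hcc⟩ : ∃ c', (∀ w ∈ W0, ρ c' w = w) ∧ ρ c' u = u ∧ (c' = 1 → c = 1 ∨ c = a) := by
      by_cases hcu : ρ c u = u
      · exact ⟨c, hc0, hcu, fun h => Or.inl h⟩
      · refine ⟨a * c, fun w hw => by rw [mul_app, hc0 w hw, ha w hw], (htwo v1 hv1 u hu hv1' a c (ha v1 hv1)
          (hc0 v1 hv1) (fun h => hu0 (hbot u ?_)) hcu).1, fun h => Or.inr ?_⟩
        · nth_rewrite 1 [← h]; rw [hua, neg_add_cancel]
        · rw [eq_inv_of_mul_eq_one_right h, inv_eq_of_mul_eq_one_right (hA2 a ha)]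
    apply hcc
    refine hAext c' 1 (fun w hw => by rw [hc' w hw, one_app]) fun w hw => ?_
    rw [one_app]
    by_contra hcw
    -- push `w` into the fixed space of `a`
    have hc'H := hAH c' hc'
    by_cases hfix : ρ c' (w + ρ a w) = w + ρ a w
    · -- the anti-fixed part moves
      set w' := w - ρ a w with hw'
      have hw'W : w' ∈ W1 := W1.sub_mem hw (hH1 a haH w hw)
      clear_value w'
      have ha' : ρ a w' = -w' := by rw [hw', map_sub, ← mul_app, hA2 a ha, one_app, neg_sub]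
      have hcw' : ρ c' w' ≠ w' := fun h => hcw (by
        have h3 : ρ c' (w + ρ a w) + ρ c' w' = (w + ρ a w) + w' := by rw [hfix, h]
        rw [← map_add, hw', add_add_sub_cancel, map_add] at h3
        have h4 : (ρ c' w - w) + (ρ c' w - w) = 0 := by
          rw [sub_add_sub_comm, h3, sub_self]
        exact sub_eq_zero.1 (hbot _ h4))
      have hw'0 : w' ≠ 0 := fun h => hcw' (by rw [h, map_zero])
      have haw' : ρ a w' ≠ w' := fun h => hw'0 (hbot w' (by nth_rewrite 1 [← h]; rw [ha', neg_add_cancel]))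
      have h3 := (htwo v1 hv1 w' hw'W hv1' a c' (ha v1 hv1) (hc' v1 hv1) haw' hcw').2
      rw [ha'] at h3
      -- now `c'` negates `w'` and fixes `u`, while `a` negates both
      have hs : w' + u ∈ W1 := W1.add_mem hw'W hu
      have hsa : ρ a (w' + u) ≠ w' + u := fun h => by
        rw [map_add, ha', hua, ← neg_add] at h
        have := hbot _ (by nth_rewrite 1 [← h]; rw [neg_add_cancel] : (w' + u) + (w' + u) = 0)
        rw [add_eq_zero_iff_eq_neg] at this
        rw [this, map_neg, hc'u, neg_neg] at h3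
        rw [this] at hcw'
        exact hcw' (by rw [map_neg, hc'u])
      have hsc : ρ c' (w' + u) ≠ w' + u := fun h => by
        rw [map_add, hc'u, ← h3] at h
        exact hw'0 (hbot w' (by nth_rewrite 1 [← add_right_cancel h]; rw [neg_add_cancel]))
      have h5 := (htwo v1 hv1 _ hs hv1' a c' (ha v1 hv1) (hc' v1 hv1) hsa hsc).2
      rw [map_add, map_add, ha', hua, hc'u, ← h3, add_right_inj] at h5
      exact hu0 (hbot u (by nth_rewrite 1 [← h5]; rw [neg_add_cancel]))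
    · set w' := w + ρ a w with hw'
      have hw'W : w' ∈ W1 := W1.add_mem hw (hH1 a haH w hw)
      clear_value w'
      have ha' : ρ a w' = w' := by rw [hw', map_add, ← mul_app, hA2 a ha, one_app, add_comm]
      have hs : w' + u ∈ W1 := W1.add_mem hw'W hu
      have hsa : ρ a (w' + u) ≠ w' + u := fun h => by
        rw [map_add, ha', hua, add_right_inj] at h
        exact hu0 (hbot u (by nth_rewrite 1 [← h]; rw [neg_add_cancel]))
      have hsc : ρ c' (w' + u) ≠ w' + u := fun h => by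
        rw [map_add, hc'u, add_left_inj] at h
        exact hfix h
      have h5 := (htwo v1 hv1 _ hs hv1' a c' (ha v1 hv1) (hc' v1 hv1) hsa hsc).2
      rw [map_add, map_add, ha', hua, hc'u] at h5
      have hac : ρ a (ρ c' w') = ρ c' w' := by
        rw [← mul_app, show a * c' = c' * a from ?_, mul_app, ha']
        have e := hA2 (a * c') (fun x hx => by rw [mul_app, hc' x hx, ha x hx])
        calc a * c' = a * ((a * c') * (a * c')) * c' := by rw [e, mul_one]
          _ = (a * a) * (c' * a) * (c' * c') := by group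
          _ = _ := by rw [hA2 a ha, hA2 c' hc', one_mul, mul_one]
      have h6 := congrArg (ρ a) h5
      rw [map_add, map_add, map_neg, hac, ha', hua, neg_neg] at h6
      -- adding the two equations
      have h7 : (ρ c' w' + u) + (ρ c' w' + -u) = (w' + -u) + (w' + u) := by rw [h5, h6]
      have h8 : (ρ c' w' - w') + (ρ c' w' - w') = 0 := by
        rw [← sub_eq_zero] at h7; rw [← h7]; abel
      exact hfix (sub_eq_zero.1 (hbot _ h8))
  obtain ⟨g, hgH⟩ : ∃ g : G, g ∉ H := by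
    by_contra h
    push Not at h
    rw [(Subgroup.eq_top_iff' H).2 h, Subgroup.index_top] at hH
    omega
  -- `a` negates `W1`
  have hpair : ∀ v ∈ W0, ∀ w ∈ W1, v ≠ 0 → ρ a w ≠ w → ∃ x : G, x ∉ H ∧ ρ x v = w ∧ ρ x w = v := by
    intro v hv w hw hv' haw
    by_contra hall
    push Not at hall
    have hle : stab ρ (v + w) ≤ stab ρ v ⊓ stab ρ w := fun x hx => by
      by_cases hxH : x ∈ H
      · exact hsplit v hv w hw x hxH hx
      · exfalso
        have e : ρ x v + ρ x w = w + v := by rw [← map_add]; exact (mem_stab.1 hx).trans (add_comm _ _)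
        have e' : ρ x v - w = v - ρ x w := by rw [sub_eq_sub_iff_add_eq_add, e, add_comm]
        have h0 : ρ x v - w = 0 := hdis _ (e' ▸ W0.sub_mem hv (hg1 x hxH w hw)) (W1.sub_mem (hg0 x hxH v hv) hw)
        refine hall x hxH (sub_eq_zero.1 h0) ?_
        rw [h0] at e'; exact (sub_eq_zero.1 e'.symm).symm
    have hlt : stab ρ v ⊓ stab ρ w < stab ρ v := by
      refine lt_of_le_of_ne inf_le_left fun h => haw ?_
      exact (h.symm ▸ (ha v hv : a ∈ stab ρ v) : a ∈ stab ρ v ⊓ stab ρ w).2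
    have := card_stab_eq hhalf hv' (hne v hv w hw hv')
    have h1 := Subgroup.card_le_of_le hle
    have h2 : Nat.card ↥(stab ρ v ⊓ stab ρ w) < Nat.card (stab ρ v) := by
      by_contra hle'
      exact hlt.ne (Subgroup.eq_of_le_of_card_ge inf_le_left (not_lt.1 hle'))
    omega
  have haneg : ∀ w ∈ W1, ρ a w = -w := by
    intro w hw
    by_contra hne'
    set w' := w + ρ a w with hw'
    have hw'W : w' ∈ W1 := W1.add_mem hw (hH1 a haH w hw)
    have hw'0 : w' ≠ 0 := fun h => hne' (eq_neg_of_add_eq_zero_right h)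
    have ha' : ρ a w' = w' := by rw [hw', map_add, ← mul_app, hA2 a ha, one_app, add_comm]
    have hvW : ρ g⁻¹ w' ∈ W0 := hg1 g⁻¹ (fun h => hgH (by simpa using H.inv_mem h)) w' hw'W
    set v := ρ g⁻¹ w' with hv
    have hv0 : v ≠ 0 := fun h => hw'0 (by rw [← app_inv (ρ := ρ) g w', ← hv, h, map_zero])
    obtain ⟨x, hxH, hxv, -⟩ := hpair v hvW u hu hv0 (fun h => hu0 (hbot u (by nth_rewrite 1 [← h]; rw [hua, neg_add_cancel])))
    set c := x * g⁻¹ * a * (x * g⁻¹)⁻¹ with hc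
    have hy : x * g⁻¹ ∈ H := (Subgroup.mul_mem_iff_of_index_two hH).2 (iff_of_false hxH (by simpa using hgH))
    have hc0 : ∀ z ∈ W0, ρ c z = z := fun z hz => by
      rw [hc, mul_app, mul_app (x * g⁻¹) a, ha _ (hH0 _ (H.inv_mem hy) z hz), app_inv]
    have hcu : ρ c u = u := by
      have e : ρ (x * g⁻¹) w' = u := by rw [mul_app, ← hv, hxv]
      rw [hc, ← e, mul_app, inv_app, mul_app (x * g⁻¹) a, ha']
    rcases hAuniq c hc0 with h | h
    · apply ha1
      rw [hc, mul_inv_eq_one, mul_eq_left] at h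
      exact h
    · rw [h, hua] at hcu
      exact hu0 (hbot u (by nth_rewrite 1 [← hcu]; rw [neg_add_cancel]))
  have hamove : ∀ w ∈ W1, w ≠ 0 → ρ a w ≠ w := fun w hw hw0 h =>
    hw0 (hbot w (by nth_rewrite 1 [← h]; rw [haneg w hw, neg_add_cancel]))
  -- the stabiliser of a vector in `W0`
  have hstab : ∀ v ∈ W0, v ≠ 0 → ∀ x : G, ρ x v = v → x = 1 ∨ x = a := by
    intro v hv hv0 x hx
    have hxH := hsub0 v hv hv0 hx
    have hpm : ∀ w ∈ W1, ρ x w = w ∨ ρ x w = -w := fun w hw => by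
      by_cases h : ρ x w = w
      · exact Or.inl h
      · have hw0 : w ≠ 0 := fun e => h (by rw [e, map_zero])
        exact Or.inr ((htwo v hv w hw hv0 x a hx (ha v hv) h (hamove w hw hw0)).2.trans (haneg w hw))
    -- `x` or `x a` fixes `W1`
    obtain ⟨c, hc, hcv, hcx⟩ : ∃ c, (∀ w ∈ W1, ρ c w = w) ∧ ρ c v = v ∧ (c = 1 → x = 1 ∨ x = a) := by
      by_cases h : ∀ w ∈ W1, ρ x w = w
      · exact ⟨x, h, hx, Or.inl⟩
      push Not at h
      obtain ⟨w, hw, hxw⟩ := h
      have hw0 : w ≠ 0 := fun e => hxw (by rw [e, map_zero])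
      have hneg : ∀ w' ∈ W1, ρ x w' = -w' := by
        intro w' hw'
        rcases hpm w' hw' with e | e
        · have e2 := (hpm w hw).resolve_left hxw
          rcases hpm (w + w') (W1.add_mem hw hw') with e3 | e3 <;> rw [map_add, e, e2] at e3
          · exact absurd (hbot w (by nth_rewrite 1 [← add_right_cancel e3]; rw [neg_add_cancel])) hw0
          · rw [neg_add, add_right_inj] at e3
            rw [e]; exact e3
        · exact e
      exact ⟨a * x, fun w' hw' => by rw [mul_app, hneg w' hw', map_neg, haneg w' hw', neg_neg],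
        by rw [mul_app, hx, ha v hv], fun e => Or.inr (by
          rw [eq_inv_of_mul_eq_one_right e, inv_eq_of_mul_eq_one_right (hA2 a ha)])⟩
    apply hcx
    -- the kernel on `W1` is conjugate to `{1, a}`
    have hc0 : ∀ z ∈ W0, ρ (g * c * g⁻¹) z = z := fun z hz => by
      rw [mul_app, mul_app g c, hc _ (hg0 g⁻¹ (by simpa using hgH) z hz), app_inv]
    rcases hAuniq _ hc0 with h | h
    · rwa [mul_inv_eq_one, mul_eq_left] at h
    · exfalso
      have e : ρ (g * c * g⁻¹) (ρ g v) = ρ g v := by rw [mul_app, inv_app, mul_app, hcv]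
      rw [h] at e
      exact hamove _ (hg0 g hgH v hv) (fun e' => hv0 ((ρ g).injective (e'.trans (map_zero _).symm))) e
  -- `H` is transitive on the nonzero vectors of `W0`
  obtain ⟨w1, hw1, hw1'⟩ := Submodule.exists_mem_ne_zero_of_ne_bot hW1
  have htr : ∀ v ∈ W0, v ≠ 0 → ∃ h ∈ H, ρ h v1 = v := by
    intro v hv hv0
    obtain ⟨x, hx, hx1, -⟩ := hpair v1 hv1 w1 hw1 hv1' (hamove w1 hw1 hw1')
    obtain ⟨y, hy, -, hy1⟩ := hpair v hv w1 hw1 hv0 (hamove w1 hw1 hw1')
    exact ⟨y * x, (Subgroup.mul_mem_iff_of_index_two hH).2 (iff_of_false hy hx), by rw [mul_app, hx1, hy1]⟩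
  set d := Module.finrank (ZMod q) W0 with hd
  have hd1 : 1 ≤ d := by
    have : W0 ≠ ⊥ := hW0
    rw [Ne, ← Submodule.finrank_eq_zero] at this
    omega
  have hcardV : Nat.card V = q ^ (2 * d) := by
    rw [Module.natCard_eq_pow_finrank (K := ZMod q), Nat.card_zmod, ← Submodule.finrank_add_eq_of_isCompl hc,
      show W1 = W0.map (ρ g : V →ₗ[ZMod q] V) from le_antisymm (fun w hw => ⟨ρ g⁻¹ w,
        hg1 g⁻¹ (by simpa using hgH) w hw, app_inv g w⟩) (by rintro _ ⟨w, hw, rfl⟩; exact hg0 g hgH w hw),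
      LinearEquiv.finrank_map_eq, two_mul]
  obtain ⟨n, hn⟩ := IsPGroup.iff_card.1 (hG.to_subgroup H)
  have hcnt : Nat.card H = 2 * (q ^ d - 1) := by
    haveI := Fintype.ofFinite W0
    have hW0card : Nat.card W0 = q ^ d := by rw [Module.natCard_eq_pow_finrank (K := ZMod q), Nat.card_zmod]
    have hnz : Nat.card {v : W0 // v ≠ 0} = q ^ d - 1 := by
      rw [← hW0card, Nat.card_eq_fintype_card, Nat.card_eq_fintype_card]
      simp only [ne_eq]
      rw [Fintype.card_subtype_compl, Fintype.card_subtype_eq]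
    rw [← hnz]
    let Φ : H → {v : W0 // v ≠ 0} := fun h => ⟨⟨ρ h.1 v1, hH0 _ h.2 _ hv1⟩, fun e =>
      hv1' ((ρ h.1).injective ((congrArg Subtype.val e).trans (map_zero _).symm))⟩
    have hfib : ∀ v, Nat.card {h : H // Φ h = v} = 2 := by
      intro v
      obtain ⟨h0, hh0, e0⟩ := htr v.1.1 v.1.2 (fun e => v.2 (Subtype.ext e))
      rw [Nat.card_eq_two_iff]
      refine ⟨⟨⟨h0, hh0⟩, Subtype.ext (Subtype.ext e0)⟩, ⟨⟨h0 * a, H.mul_mem hh0 haH⟩, Subtype.ext (Subtype.ext
        (show ρ (h0 * a) v1 = _ by rw [mul_app, ha v1 hv1, e0]))⟩, fun e => ha1 ?_, ?_⟩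
      · have e' : h0 = h0 * a := congrArg (fun z : {h : H // Φ h = v} => ((z : H) : G)) e
        exact mul_eq_left.1 e'.symm
      · rw [Set.eq_univ_iff_forall]
        rintro ⟨⟨h, hh⟩, e⟩
        have e' : ρ h v1 = v.1.1 := congrArg (fun z : {v : W0 // v ≠ 0} => ((z : W0) : V)) e
        rcases hstab v1 hv1 hv1' (h0⁻¹ * h) (by rw [mul_app, e', ← e0, inv_app]) with r | r
        · left
          exact Subtype.ext (Subtype.ext (inv_mul_eq_one.1 r).symm)
        · right
          exact Subtype.ext (Subtype.ext (eq_mul_of_inv_mul_eq r))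
    rw [← Nat.card_congr (Equiv.sigmaFiberEquiv Φ), Nat.card_sigma, Finset.sum_congr rfl fun v _ => hfib v,
      Finset.sum_const, Finset.card_univ, smul_eq_mul, mul_comm, Nat.card_eq_fintype_card]
  have hq3 : 3 ≤ q := by have := (Fact.out : q.Prime).two_le; omega
  have hqd : 2 ≤ q ^ d := le_trans (by omega) (Nat.le_self_pow (by omega) q)
  rcases n with _ | n
  · rw [hn, pow_zero] at hcnt; omega
  have hqn : q ^ d = 2 ^ n + 1 := by rw [hn, pow_succ] at hcnt; omega
  rcases pow_sub_one_eq_two_pow hq3 hd1 hqn with hd' | ⟨hq, hd'⟩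
  swap
  · right; exact ⟨by rw [hcardV, hq, hd']; norm_num, hq⟩
  left
  refine ⟨by rw [hcardV, hd'], ⟨n, by rw [← hqn, hd', pow_one]⟩, ?_⟩
  -- coordinates
  obtain ⟨g1, hg1H, hg1v, hg1w⟩ := hpair v1 hv1 w1 hw1 hv1' (hamove w1 hw1 hw1')
  let L : (Fin 2 → ZMod q) →ₗ[ZMod q] V :=
    (LinearMap.proj 0).smulRight v1 + (LinearMap.proj 1).smulRight w1
  have hL : ∀ u, L u = u 0 • v1 + u 1 • w1 := fun u => by simp [L]
  have hLi : Function.Injective L := by
    rw [← LinearMap.ker_eq_bot, LinearMap.ker_eq_bot']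
    intro u hu
    rw [hL] at hu
    have h0 : u 0 • v1 = 0 := hdis _ (W0.smul_mem _ hv1)
      (by rw [eq_neg_of_add_eq_zero_left hu]; exact W1.neg_mem (W1.smul_mem _ hw1))
    rw [h0, zero_add] at hu
    ext i; fin_cases i
    · exact (smul_eq_zero.1 h0).resolve_right hv1'
    · exact (smul_eq_zero.1 hu).resolve_right hw1'
  have hLb : Function.Bijective L := (Nat.bijective_iff_injective_and_card L).2 ⟨hLi, by
    rw [hcardV, hd', Nat.card_fun, Nat.card_zmod, Nat.card_fin]⟩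
  refine ⟨(LinearEquiv.ofBijective L hLb).symm, fun f => ?_⟩
  have hfeq : ∀ x : G, (f = ((LinearEquiv.ofBijective L hLb).symm).symm.trans
      ((ρ x).trans (LinearEquiv.ofBijective L hLb).symm)) ↔ ∀ u, L (f u) = ρ x (L u) := by
    intro x
    constructor
    · intro h u
      rw [h]
      simp only [LinearEquiv.symm_symm, LinearEquiv.trans_apply, LinearEquiv.ofBijective_apply]
      exact (LinearEquiv.ofBijective L hLb).apply_symm_apply _
    · intro h
      ext1 u
      apply hLi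
      rw [h u]
      simp only [LinearEquiv.symm_symm, LinearEquiv.trans_apply, LinearEquiv.ofBijective_apply]
      exact ((LinearEquiv.ofBijective L hLb).apply_symm_apply _).symm
  have hswap : ∀ c : ZMod q, c ≠ 0 → ∃ x : G, x ∉ H ∧ ρ x v1 = c • w1 ∧ ρ x w1 = c⁻¹ • v1 := by
    intro c hc
    obtain ⟨x, hxH, hxv, hxw⟩ := hpair v1 hv1 (c • w1) (W1.smul_mem c hw1) hv1'
      (hamove _ (W1.smul_mem c hw1) (smul_ne_zero hc hw1'))
    refine ⟨x, hxH, hxv, ?_⟩
    rw [map_smul] at hxw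
    rw [← hxw, smul_smul, inv_mul_cancel₀ hc, one_smul]
  have hdiag : ∀ c : ZMod q, c ≠ 0 → ρ a v1 = v1 ∧ ∃ x : G, x ∈ H ∧ ρ x v1 = c • v1 ∧ ρ x w1 = c⁻¹ • w1 := by
    intro c hc
    refine ⟨ha v1 hv1, ?_⟩
    obtain ⟨x, hxH, hxv, hxw⟩ := hswap c hc
    exact ⟨g1 * x, (Subgroup.mul_mem_iff_of_index_two hH).2 (iff_of_false hg1H hxH),
      by rw [mul_app, hxv, map_smul, hg1w], by rw [mul_app, hxw, map_smul, hg1v]⟩
  have hline0 : ∀ v ∈ W0, ∃ c : ZMod q, c • v1 = v := by
    intro v hv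
    obtain ⟨c, hc⟩ := (finrank_eq_one_iff_of_nonzero' (⟨v1, hv1⟩ : W0) (fun e => hv1' (congrArg Subtype.val e))).1
      hd' ⟨v, hv⟩
    exact ⟨c, congrArg Subtype.val hc⟩
  constructor
  · rintro ⟨x, hx⟩
    rw [hfeq] at hx
    by_cases hxH : x ∈ H
    · obtain ⟨c, hc⟩ := hline0 _ (hH0 x hxH v1 hv1)
      have hc0 : c ≠ 0 := fun e => hv1' ((ρ x).injective (by rw [← hc, e, zero_smul, map_zero]))
      obtain ⟨-, y, hyH, hyv, hyw⟩ := hdiag c hc0
      obtain ⟨s, hs, hxw⟩ : ∃ s : ZMod q, (s = 1 ∨ s = -1) ∧ ρ x w1 = (s * c⁻¹) • w1 := by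
        rcases hstab v1 hv1 hv1' (y⁻¹ * x) (by rw [mul_app, ← hc, ← hyv, inv_app]) with r | r
        · refine ⟨1, Or.inl rfl, ?_⟩
          rw [← inv_mul_eq_one.1 r, hyw, one_mul]
        · refine ⟨-1, Or.inr rfl, ?_⟩
          rw [eq_mul_of_inv_mul_eq r, mul_app, haneg w1 hw1, map_neg, hyw, neg_mul, one_mul, neg_smul]
      refine ⟨c, s, hc0, hs, Or.inl fun v => hLi ?_⟩
      rw [hx, hL, hL, map_add, map_smul, map_smul, ← hc, hxw, smul_smul, smul_smul]
      simp [mul_comm]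
    · obtain ⟨c, hc⟩ := hline0 _ (hg1 g1 hg1H _ (hg0 x hxH v1 hv1))
      have hxv : ρ x v1 = c • w1 := (ρ g1).injective (by rw [← hc, map_smul, hg1w])
      have hc0 : c ≠ 0 := fun e => hv1' ((ρ x).injective (by rw [hxv, e, zero_smul, map_zero]))
      obtain ⟨y, hyH, hyv, hyw⟩ := hswap c hc0
      obtain ⟨s, hs, hxw⟩ : ∃ s : ZMod q, (s = 1 ∨ s = -1) ∧ ρ x w1 = (s * c⁻¹) • v1 := by
        rcases hstab v1 hv1 hv1' (y⁻¹ * x) (by rw [mul_app, hxv, ← hyv, inv_app]) with r | r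
        · refine ⟨1, Or.inl rfl, ?_⟩
          rw [← inv_mul_eq_one.1 r, hyw, one_mul]
        · refine ⟨-1, Or.inr rfl, ?_⟩
          rw [eq_mul_of_inv_mul_eq r, mul_app, haneg w1 hw1, map_neg, hyw, neg_mul, one_mul, neg_smul]
      refine ⟨c, s, hc0, hs, Or.inr fun v => hLi ?_⟩
      rw [hx, hL, hL, map_add, map_smul, map_smul, hxv, hxw, smul_smul, smul_smul]
      simp [mul_comm, add_comm]
  · rintro ⟨c, s, hc0, hs, hf⟩
    rcases hf with hf | hf
    · obtain ⟨hav, x, -, hxv, hxw⟩ := hdiag c hc0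
      rcases hs with rfl | rfl
      · refine ⟨x, (hfeq x).2 fun u => ?_⟩
        rw [hf, hL, hL, map_add, map_smul, map_smul, hxv, hxw, smul_smul, smul_smul]
        simp [mul_comm]
      · refine ⟨x * a, (hfeq _).2 fun u => ?_⟩
        rw [hf, hL, hL, map_add, map_smul, map_smul, mul_app, mul_app, hav, haneg w1 hw1, map_neg, hxv, hxw,
          ← neg_smul, smul_smul, smul_smul]
        simp [mul_comm]
    · obtain ⟨x, -, hxv, hxw⟩ := hswap c hc0
      rcases hs with rfl | rfl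
      · refine ⟨x, (hfeq x).2 fun u => ?_⟩
        rw [hf, hL, hL, map_add, map_smul, map_smul, hxv, hxw, smul_smul, smul_smul]
        simp [mul_comm, add_comm]
      · refine ⟨x * a, (hfeq _).2 fun u => ?_⟩
        rw [hf, hL, hL, map_add, map_smul, map_smul, mul_app, mul_app, ha v1 hv1, haneg w1 hw1, map_neg, hxv, hxw,
          ← neg_smul, smul_smul, smul_smul]
        simp [mul_comm, add_comm]

end

set_option maxHeartbeats 1600000 in
/-- Let q be a prime, V a non-trivial finite vector space over the field with q elements, and G a finite p-group (p prime) acting faithfully and linearly on V such that all G-orbits on the non-zero vectors have the same size. Then one of the following holds: G is cyclic or generalized quaternion and acts semiregularly on the non-zero vectors; or V has q² elements with q = 2^m − 1 and G is dihedral of order 2^(m+1) or semidihedral of order 2^(m+2); or V has q² elements with q = 2^m + 1 and, in suitable coordinates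 V = F_q², G is exactly the group of maps (x, y) ↦ (a x, ± a⁻¹ y) and (x, y) ↦ (± a⁻¹ y, a x) with a ≠ 0; or V has 81 elements (q = 3) and G is a 2-group. -/
theorem result (q : ℕ) [Fact q.Prime] {V : Type*} [AddCommGroup V] [Module (ZMod q) V] [Finite V] [Nontrivial V]
    {G : Type*} [Group G] [Finite G] (p : ℕ) [Fact p.Prime] (hG : IsPGroup p G)
    (ρ : G →* (V ≃ₗ[ZMod q] V)) (hρ : Function.Injective ρ)
    (hhalf : ∀ v w : V, v ≠ 0 → w ≠ 0 → Nat.card {u : V | ∃ g : G, ρ g v = u} = Nat.card {u : V | ∃ g : G, ρ g w = u}) :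
    ((IsCyclic G ∨ ∃ n : ℕ, Nonempty (G ≃* QuaternionGroup n)) ∧ ∀ v : V, v ≠ 0 → ∀ g : G, ρ g v = v → g = 1) ∨
    (Nat.card V = q ^ 2 ∧ ∃ m : ℕ, q = 2 ^ m - 1 ∧
      (Nonempty (G ≃* DihedralGroup (2 ^ m)) ∨ (Cfsg.IsQuasiDihedral G ∧ Nat.card G = 2 ^ (m + 2)))) ∨
    (Nat.card V = q ^ 2 ∧ (∃ m : ℕ, q = 2 ^ m + 1) ∧
      ∃ e : V ≃ₗ[ZMod q] (Fin 2 → ZMod q), ∀ f : (Fin 2 → ZMod q) ≃ₗ[ZMod q] (Fin 2 → ZMod q),
        (∃ g : G, f = e.symm.trans ((ρ g).trans e)) ↔
        ∃ a s : ZMod q, a ≠ 0 ∧ (s = 1 ∨ s = -1) ∧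
          ((∀ v, f v = ![a * v 0, s * a⁻¹ * v 1]) ∨ (∀ v, f v = ![s * a⁻¹ * v 1, a * v 0]))) ∨
    (Nat.card V = 81 ∧ q = 3 ∧ p = 2) := by
  classical
  have hp : p.Prime := Fact.out
  obtain ⟨v0, hv0⟩ := exists_ne (0 : V)
  by_cases htriv : Subsingleton G
  · exact Or.inl ⟨Or.inl isCyclic_of_subsingleton, fun _ _ g _ => Subsingleton.elim g 1⟩
  haveI : Nontrivial G := not_subsingleton_iff_nontrivial.1 htriv
  have hpq : p ≠ q := by
    intro hpq
    subst hpq
    let _act : MulAction G V := MulAction.compHom V ρ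
    have hd : p ∣ Nat.card V := by
      rw [Module.natCard_eq_pow_finrank (K := ZMod p), Nat.card_zmod]
      exact dvd_pow_self p (Module.finrank_pos (R := ZMod p) (M := V)).ne'
    obtain ⟨v, hv, hv'⟩ := hG.exists_fixed_point_of_prime_dvd_card_of_fixed_point V hd (a := (0 : V))
      (fun g => map_zero (ρ g))
    obtain ⟨g, hg⟩ := exists_ne (1 : G)
    refine hg (hρ ?_)
    ext w
    rcases eq_or_ne w 0 with rfl | hw
    · simp
    have e : stab ρ v = ⊤ := eq_top_iff.2 fun x _ => hv x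
    have h1 := card_stab_eq hhalf hv'.symm hw
    rw [e, Subgroup.card_top] at h1
    have h2 : stab ρ w = ⊤ := Subgroup.eq_top_of_card_eq _ h1.symm
    have h3' : g ∈ stab ρ w := by rw [h2]; trivial
    have h3 : ρ g w = w := h3'
    simp [h3]
  obtain ⟨N, hN⟩ := IsPGroup.iff_card.1 hG
  have hco : (Nat.card G : ZMod q) ≠ 0 := by
    rw [hN, Ne, ZMod.natCast_eq_zero_iff]
    exact fun h => hpq ((Nat.prime_dvd_prime_iff_eq (Fact.out : q.Prime) hp).1
      ((Fact.out : q.Prime).dvd_of_dvd_pow h)).symm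
  by_cases hsemi : ∀ v : V, v ≠ 0 → ∀ g : G, ρ g v = v → g = 1
  · refine Or.inl ⟨?_, hsemi⟩
    haveI := hG.center_nontrivial
    obtain ⟨n, hn⟩ := IsPGroup.iff_card.1 (hG.to_subgroup (Subgroup.center G))
    have hpd : p ∣ Nat.card (Subgroup.center G) := by
      rw [hn]
      refine dvd_pow_self p fun e => ?_
      have := Finite.one_lt_card (α := Subgroup.center G)
      rw [hn, e, pow_zero] at this
      omega
    obtain ⟨z, hz⟩ := exists_prime_orderOf_dvd_card' (G := Subgroup.center G) p hpd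
    have hzo : orderOf (z : G) = p := by rw [Subgroup.orderOf_coe, hz]
    rcases CfsgLib.UniqueSubgroup.cyclic_or_quaternion hG hzo (fun w hw => by
      by_contra hwz
      have hzp : (z : G) ^ p = 1 := hzo ▸ pow_orderOf_eq_one _
      have hz1 : (z : G) ≠ 1 := fun e => by rw [e, orderOf_one] at hzo; exact hp.one_lt.ne hzo
      have hwz' : Commute w (z : G) := Subgroup.mem_center_iff.1 z.2 w
      refine hv0 (Cfsg.Agent.S3380.no_pair ρ hpq hwz' hzp
        (fun v hv => by_contra fun h => hz1 (hsemi v h _ hv)) (fun k => ⟨?_, fun v hv => ?_⟩) v0)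
      · rw [(hwz'.pow_right k).mul_pow, hw, ← pow_mul, mul_comm, pow_mul, hzp, one_pow, one_mul]
      · by_contra h
        refine hwz ?_
        rw [eq_inv_of_mul_eq_one_left (hsemi v h _ hv)]
        exact inv_mem (pow_mem (Subgroup.mem_zpowers _) k)) with h | ⟨-, m, -, h⟩
    · exact Or.inl h
    · exact Or.inr ⟨_, h⟩
  right
  push Not at hsemi
  obtain ⟨v₁, hv₁, g₁, hg₁, hg₁'⟩ := hsemi
  have hst : ∀ v : V, v ≠ 0 → stab ρ v ≠ ⊥ := fun v hv e => by
    have h1 := card_stab_eq hhalf hv₁ hv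
    rw [e, Subgroup.card_bot, Subgroup.card_eq_one] at h1
    have : g₁ ∈ (⊥ : Subgroup G) := h1 ▸ (mem_stab.2 hg₁)
    exact hg₁' this
  -- irreducibility
  have hirr : ∀ W : Submodule (ZMod q) V, (∀ g : G, ∀ w ∈ W, ρ g w ∈ W) → W = ⊥ ∨ W = ⊤ := by
    intro U hU
    by_contra hUn
    push Not at hUn
    obtain ⟨W, hc, hW⟩ := exists_compl hco U hU
    have hWb : W ≠ ⊥ := fun e => hUn.2 (by have := hc.sup_eq_top; rwa [e, sup_bot_eq] at this)
    obtain ⟨u₀, hu₀, hu₀'⟩ := Submodule.exists_mem_ne_zero_of_ne_bot hUn.1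
    obtain ⟨w₀, hw₀, hw₀'⟩ := Submodule.exists_mem_ne_zero_of_ne_bot hWb
    have key : ∀ u ∈ U, ∀ w ∈ W, u ≠ 0 → w ≠ 0 → stab ρ u = stab ρ w := by
      intro u hu w hw hu' hw'
      have hs : u + w ≠ 0 := fun e => hu' (Submodule.disjoint_def.1 hc.disjoint u hu
        (by rw [eq_neg_of_add_eq_zero_left e]; exact W.neg_mem hw))
      have h1 : ∀ g, g ∈ stab ρ (u + w) → g ∈ stab ρ u ∧ g ∈ stab ρ w := fun g hg =>
        split_fix hc.disjoint hu hw (hU g u hu) (hW g w hw) hg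
      rw [← eq_of_le_stab hhalf hs hu' (fun g hg => (h1 g hg).1), ← eq_of_le_stab hhalf hs hw' (fun g hg => (h1 g hg).2)]
    obtain ⟨g, hg, hg'⟩ := (Subgroup.bot_or_exists_ne_one (stab ρ u₀)).resolve_left (hst u₀ hu₀')
    refine hg' (hρ ?_)
    ext v
    obtain ⟨x, hx, y, hy, rfl⟩ := Submodule.mem_sup.1 (hc.sup_eq_top ▸ Submodule.mem_top : v ∈ U ⊔ W)
    have hgy : ρ g y = y := by
      rcases eq_or_ne y 0 with rfl | hy'
      · exact map_zero _
      · exact (key u₀ hu₀ y hy hu₀' hy' ▸ hg :)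
    have hgx : ρ g x = x := by
      rcases eq_or_ne x 0 with rfl | hx'
      · exact map_zero _
      · exact ((key x hx w₀ hw₀ hx' hw₀').trans (key u₀ hu₀ w₀ hw₀ hu₀' hw₀').symm ▸ hg :)
    simp [map_add, hgx, hgy]
  have hcfix : ∀ z ∈ Subgroup.center G, z ≠ 1 → ∀ v : V, ρ z v = v → v = 0 := by
    intro z hz hz1 v hv
    let W : Submodule (ZMod q) V := LinearMap.eqLocus (ρ z : V →ₗ[ZMod q] V) LinearMap.id
    rcases hirr W (fun g w hw => show ρ z (ρ g w) = ρ g w by
      rw [← mul_app, ← Subgroup.mem_center_iff.1 hz g, mul_app, show ρ z w = w from hw]) with h | h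
    · exact (Submodule.mem_bot _).1 (h ▸ (show v ∈ W from hv))
    · refine absurd (hρ ?_) hz1
      ext u
      have : u ∈ W := h ▸ Submodule.mem_top
      simpa [W] using this
  have hnoab : ∀ {g : G}, g ∈ stab ρ v₁ → g ∈ Subgroup.center G → g = 1 := fun {g} hg hgc =>
    by_contra fun h => hv₁ (hcfix g hgc h v₁ hg)
  have hnc : ¬ IsCyclic G := fun h => by
    haveI := h
    exact hg₁' (hnoab hg₁ (Subgroup.mem_center_iff.2 fun y => IsMulCommutative.is_comm.comm y g₁))
  have hnq : ∀ n : ℕ, ¬ Nonempty (G ≃* QuaternionGroup n) := by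
    rintro n ⟨e⟩
    obtain ⟨k, hk⟩ := IsPGroup.iff_card.1 (hG.to_subgroup (stab ρ v₁))
    have hpd : p ∣ Nat.card (stab ρ v₁) := by
      rw [hk]
      refine dvd_pow_self p fun h => hst v₁ hv₁ ?_
      rw [h, pow_zero] at hk
      exact Subgroup.card_eq_one.1 hk
    obtain ⟨w, hw⟩ := exists_prime_orderOf_dvd_card' p hpd
    have hn : n ≠ 0 := by
      rintro rfl
      haveI : Finite (QuaternionGroup 0) := Finite.of_equiv _ e.toEquiv
      haveI : Infinite (QuaternionGroup 0) := Infinite.of_injective (fun i : ℕ => QuaternionGroup.a (i : ZMod (2 * 0)))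
        (fun i j h => by simpa using h)
      exact not_finite (QuaternionGroup 0)
    haveI : NeZero n := ⟨hn⟩
    have hp2 : p = 2 := by
      have h4 : 2 ∣ p ^ N := by
        rw [← hN, Nat.card_congr e.toEquiv, Nat.card_eq_fintype_card, QuaternionGroup.card]
        exact Dvd.dvd.mul_right (by norm_num) n
      exact ((Nat.prime_dvd_prime_iff_eq Nat.prime_two hp).1 (Nat.prime_two.dvd_of_dvd_pow h4)).symm
    have hw2 : e (w : G) * e (w : G) = 1 := by
      rw [← map_mul, ← sq, ← hp2, ← hw, ← Subgroup.orderOf_coe, pow_orderOf_eq_one, map_one]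
    have hcen : ∀ y, y * e (w : G) = e (w : G) * y := by
      intro y
      rcases h : e (w : G) with i | i <;> rw [h] at hw2
      · simp only [QuaternionGroup.a_mul_a, QuaternionGroup.one_def, QuaternionGroup.a.injEq] at hw2
        rcases y with j | j
        · simp [add_comm]
        · simp only [QuaternionGroup.xa_mul_a, QuaternionGroup.a_mul_xa, QuaternionGroup.xa.injEq]
          linear_combination hw2
      · exfalso
        simp only [QuaternionGroup.xa_mul_xa, QuaternionGroup.one_def, QuaternionGroup.a.injEq, add_sub_cancel_right] at hw2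
        rw [ZMod.natCast_eq_zero_iff] at hw2
        have := Nat.le_of_dvd (Nat.pos_of_ne_zero hn) hw2
        omega
    have h1 := hnoab w.2 (Subgroup.mem_center_iff.2 fun y => e.injective (by rw [map_mul, map_mul]; exact hcen _))
    rw [← Subgroup.orderOf_coe, h1, orderOf_one] at hw
    exact hp.one_lt.ne hw
  by_cases hnd : ∃ n : ℕ, Nonempty (G ≃* DihedralGroup n)
  · left
    obtain ⟨n, ⟨e⟩⟩ := hnd
    have hn : n ≠ 0 := by
      rintro rfl
      haveI : Finite (DihedralGroup 0) := Finite.of_equiv _ e.toEquiv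
      exact not_finite (DihedralGroup 0)
    haveI : NeZero n := ⟨hn⟩
    have hcard : Nat.card G = 2 * n := by rw [Nat.card_congr e.toEquiv, DihedralGroup.nat_card]
    have hp2 : p = 2 := by
      have h4 : 2 ∣ p ^ N := by rw [← hN, hcard]; exact Dvd.intro n rfl
      exact ((Nat.prime_dvd_prime_iff_eq Nat.prime_two hp).1 (Nat.prime_two.dvd_of_dvd_pow h4)).symm
    subst hp2
    obtain ⟨k, -, rfl⟩ := (Nat.dvd_prime_pow Nat.prime_two).1 (show n ∣ 2 ^ N from by rw [← hN, hcard]; exact Dvd.intro_left 2 rfl)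
    have hcomm : ¬ ∀ x y : DihedralGroup (2 ^ k), x * y = y * x := fun h =>
      hg₁' (hnoab hg₁ (Subgroup.mem_center_iff.2 fun y => e.injective (by rw [map_mul, map_mul]; exact h _ _)))
    obtain ⟨a, rfl⟩ : ∃ a, k = a + 2 := by
      refine ⟨k - 2, ?_⟩
      rcases k with _ | _ | k
      · exact absurd (by decide : ∀ x y : DihedralGroup (2 ^ 0), x * y = y * x) hcomm
      · exact absurd (by decide : ∀ x y : DihedralGroup (2 ^ 1), x * y = y * x) hcomm
      · omega
    set r1 : DihedralGroup (2 ^ (a + 2)) := DihedralGroup.r 1 with hr1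
    set x := e.symm r1 with hx
    have hzp : ∀ g : G, g ∈ Subgroup.zpowers x ↔ ∃ i, e g = DihedralGroup.r i := by
      intro g
      rw [Subgroup.mem_zpowers_iff]
      constructor
      · rintro ⟨i, rfl⟩
        exact ⟨(i : ZMod _), by rw [map_zpow, hx, e.apply_symm_apply, hr1, DihedralGroup.r_one_zpow]⟩
      · rintro ⟨i, hi⟩
        refine ⟨((i.val : ℕ) : ℤ), ?_⟩
        apply e.injective
        rw [zpow_natCast, map_pow, hx, e.apply_symm_apply, hr1, DihedralGroup.r_one_pow, hi, ZMod.natCast_zmod_val]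
    have hsr : ∀ g : G, g ∉ Subgroup.zpowers x ↔ ∃ i, e g = DihedralGroup.sr i := by
      intro g
      rw [hzp]
      rcases h : e g with i | i <;> simp
    have hxo : orderOf x = 2 * 2 ^ (a + 1) := by
      rw [hx, e.symm.orderOf_eq, hr1, DihedralGroup.orderOf_r_one, ← pow_succ']
    have hxc : x ^ 2 ^ (a + 1) ∈ Subgroup.center G := by
      rw [Subgroup.mem_center_iff]
      intro y
      apply e.injective
      rw [map_mul, map_mul, map_pow, hx, e.apply_symm_apply, hr1, DihedralGroup.r_one_pow]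
      have h2 : ((2 ^ (a + 1) : ℕ) : ZMod (2 ^ (a + 2))) + ((2 ^ (a + 1) : ℕ) : ZMod (2 ^ (a + 2))) = 0 := by
        rw [← Nat.cast_add, ← two_mul, ← pow_succ', ZMod.natCast_self]
      rcases e y with j | j
      · rw [DihedralGroup.r_mul_r, DihedralGroup.r_mul_r]; exact congrArg _ (add_comm _ _)
      · rw [DihedralGroup.sr_mul_r, DihedralGroup.r_mul_sr, DihedralGroup.sr.injEq]
        linear_combination h2
    have hidx : (Subgroup.zpowers x).index = 2 := by
      have h := (Subgroup.zpowers x).index_mul_card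
      rw [Nat.card_zpowers, hxo, hcard, ← pow_succ'] at h
      exact Nat.eq_of_mul_eq_mul_right (Nat.two_pow_pos _) h
    have hmove : ∀ t : G, t ∉ Subgroup.zpowers x → t * t = 1 → ∃ g : G, g * t * g⁻¹ ≠ t := by
      intro t ht _
      obtain ⟨i, hi⟩ := (hsr t).1 ht
      refine ⟨x, fun h => ?_⟩
      have h' := congrArg e h
      rw [map_mul, map_mul, map_inv, hi, hx, e.apply_symm_apply, hr1, DihedralGroup.inv_r, DihedralGroup.r_mul_sr,
        DihedralGroup.sr_mul_r, DihedralGroup.sr.injEq] at h'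
      have h2 : ((2 : ℕ) : ZMod (2 ^ (a + 2))) = 0 := by push_cast; linear_combination -h'
      rw [ZMod.natCast_eq_zero_iff] at h2
      have := Nat.le_of_dvd two_pos h2
      have : 2 ^ 2 ≤ 2 ^ (a + 2) := Nat.pow_le_pow_right two_pos (by omega)
      omega
    have hT : Nat.card {t : G // t ∉ Subgroup.zpowers x ∧ t * t = 1} = 2 ^ (a + 2) := by
      rw [← Nat.card_zmod (2 ^ (a + 2))]
      symm
      refine Nat.card_congr (Equiv.ofBijective (fun i => ⟨e.symm (DihedralGroup.sr i),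
        (hsr _).2 ⟨i, e.apply_symm_apply _⟩, by rw [← map_mul, DihedralGroup.sr_mul_self, map_one]⟩) ⟨?_, ?_⟩)
      · intro i j h
        have h' := e.symm.injective (congrArg Subtype.val h)
        exact DihedralGroup.sr.inj h'
      · intro t
        obtain ⟨i, hi⟩ := (hsr t.1).1 t.2.1
        exact ⟨i, Subtype.ext (by show e.symm _ = t.1; rw [← hi, e.symm_apply_apply])⟩
    obtain ⟨h1, h2⟩ := count_case hpq.symm hρ hcfix hst x hxo ⟨_, rfl⟩ hxc hidx hmove hT rfl
    exact ⟨h1, a + 2, by omega, Or.inl ⟨e⟩⟩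
  push Not at hnd
  by_cases hsd : Cfsg.IsQuasiDihedral G
  · left
    have hsd' := hsd
    obtain ⟨n, hn, hcard, x, y, hx, hy, hrel⟩ := hsd'
    have hp2 : p = 2 := by
      have h4 : 2 ∣ p ^ N := by rw [← hN, hcard]; exact dvd_pow_self 2 (by omega)
      exact ((Nat.prime_dvd_prime_iff_eq Nat.prime_two hp).1 (Nat.prime_two.dvd_of_dvd_pow h4)).symm
    subst hp2
    obtain ⟨a, rfl⟩ : ∃ a, n = a + 3 := ⟨n - 3, by omega⟩
    set h := 2 ^ (a + 2) with hh
    have hrel' : y * x * y⁻¹ = x ^ (h - 1) := by rw [hrel, hh]; congr 1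
    have hy2 : y * y = 1 := by rw [← sq, ← hy, pow_orderOf_eq_one]
    have hh4 : 4 ≤ h := by rw [hh]; exact le_trans (by norm_num) (Nat.pow_le_pow_right two_pos (show 2 ≤ a + 2 by omega))
    have hxo : orderOf x = 2 * h := by rw [hx, hh, ← pow_succ']
    have hconj : ∀ i : ℤ, y * x ^ i * y⁻¹ = x ^ ((h - 1 : ℤ) * i) := by
      intro i
      rw [← conj_zpow, hrel', ← zpow_natCast, ← zpow_mul, Nat.cast_sub (by omega), Nat.cast_one]
    have hxe : ∀ i j : ℤ, x ^ i = x ^ j ↔ (2 * h : ℤ) ∣ j - i := by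
      intro i j
      rw [zpow_eq_zpow_iff_modEq, Int.modEq_iff_dvd, hxo]
      push_cast
      rfl
    have hidx : (Subgroup.zpowers x).index = 2 := by
      have h' := (Subgroup.zpowers x).index_mul_card
      rw [Nat.card_zpowers, hx, hcard, pow_succ' 2 (a + 3)] at h'
      exact Nat.eq_of_mul_eq_mul_right (Nat.two_pow_pos _) h'
    have hyC : y ∉ Subgroup.zpowers x := by
      intro hyC
      obtain ⟨i, rfl⟩ := Subgroup.mem_zpowers_iff.1 hyC
      rw [← zpow_add_one, ← zpow_neg, ← zpow_add, show i + 1 + -i = 1 by ring, zpow_one] at hrel'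
      have h' := (hxe 1 ((h - 1 : ℕ) : ℤ)).1 (by rw [zpow_one, zpow_natCast]; exact hrel')
      rw [Nat.cast_sub (by omega)] at h'
      obtain ⟨c, hc⟩ := h'
      rcases lt_trichotomy c 0 with hc0 | hc0 | hc0
      · have : (2 * h : ℤ) * c ≤ (2 * h : ℤ) * (-1) := mul_le_mul_of_nonneg_left (by omega) (by omega)
        omega
      · subst hc0; omega
      · have : (2 * h : ℤ) * 1 ≤ (2 * h : ℤ) * c := mul_le_mul_of_nonneg_left (by omega) (by omega)
        omega
    have hdec : ∀ t : G, t ∉ Subgroup.zpowers x → ∃ i : ℤ, t = x ^ i * y := by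
      intro t ht
      have := (Subgroup.mul_mem_iff_of_index_two hidx (a := t) (b := y⁻¹)).2 (iff_of_false ht (by simpa using hyC))
      obtain ⟨i, hi⟩ := Subgroup.mem_zpowers_iff.1 this
      exact ⟨i, by rw [hi, inv_mul_cancel_right]⟩
    have hsq : ∀ i : ℤ, x ^ i * y * (x ^ i * y) = x ^ ((h : ℤ) * i) := by
      intro i
      have e : y * x ^ i = x ^ ((h - 1 : ℤ) * i) * y := by rw [← hconj, inv_mul_cancel_right]
      rw [mul_assoc, ← mul_assoc y, e, mul_assoc (x ^ _), hy2, mul_one, ← zpow_add]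
      congr 1; ring
    have hxc : x ^ h ∈ Subgroup.center G := by
      rw [Subgroup.mem_center_iff]
      intro g
      have hyh : y * x ^ h = x ^ h * y := by
        have e := hconj (h : ℤ)
        rw [zpow_natCast, mul_inv_eq_iff_eq_mul] at e
        rw [e]
        congr 1
        rw [← zpow_natCast x h, hxe]
        refine ⟨-(2 ^ (a + 1) - 1), ?_⟩
        have : (h : ℤ) = 2 * 2 ^ (a + 1) := by rw [hh]; push_cast; ring
        rw [this]; ring
      by_cases hg : g ∈ Subgroup.zpowers x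
      · obtain ⟨i, rfl⟩ := Subgroup.mem_zpowers_iff.1 hg
        exact ((Commute.refl x).zpow_left i).pow_right h
      · obtain ⟨i, rfl⟩ := hdec g hg
        rw [mul_assoc, hyh, ← mul_assoc, ((Commute.refl x).zpow_left i |>.pow_right h).eq, mul_assoc]
    have hmove : ∀ t : G, t ∉ Subgroup.zpowers x → t * t = 1 → ∃ g : G, g * t * g⁻¹ ≠ t := by
      intro t ht _
      obtain ⟨i, rfl⟩ := hdec t ht
      refine ⟨x, fun e => ?_⟩
      have e2 : y * x⁻¹ = x ^ (-(h - 1 : ℤ)) * y := by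
        have := hconj (-1)
        rw [zpow_neg_one, mul_inv_eq_iff_eq_mul] at this
        rw [this]; ring_nf
      rw [← mul_assoc, mul_assoc (x * x ^ i), e2, ← mul_assoc, mul_left_inj, ← zpow_one_add, ← zpow_add, hxe] at e
      obtain ⟨c, hc⟩ := e
      rcases lt_trichotomy c 0 with hc0 | hc0 | hc0
      · have : (2 * h : ℤ) * c ≤ (2 * h : ℤ) * (-1) := mul_le_mul_of_nonneg_left (by omega) (by omega)
        omega
      · subst hc0; omega
      · have : (2 * h : ℤ) * 1 ≤ (2 * h : ℤ) * c := mul_le_mul_of_nonneg_left (by omega) (by omega)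
        omega
    have hT : Nat.card {t : G // t ∉ Subgroup.zpowers x ∧ t * t = 1} = h := by
      rw [← Nat.card_fin h]
      symm
      refine Nat.card_congr (Equiv.ofBijective (fun i : Fin h => ⟨x ^ (2 * (i : ℕ) : ℤ) * y, fun hm => hyC
        (((Subgroup.zpowers x).mul_mem_cancel_left (zpow_mem (Subgroup.mem_zpowers x) _)).1 hm), by
          rw [hsq, ← zpow_zero x, hxe]; exact ⟨-(i : ℕ), by ring⟩⟩) ⟨?_, ?_⟩)
      · intro i j e
        have e' := mul_right_cancel (congrArg Subtype.val e)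
        rw [hxe] at e'
        obtain ⟨c, hc⟩ := e'
        have hi := i.2; have hj := j.2
        apply Fin.ext
        rcases lt_trichotomy c 0 with hc0 | hc0 | hc0
        · have : (2 * h : ℤ) * c ≤ (2 * h : ℤ) * (-1) := mul_le_mul_of_nonneg_left (by omega) (by omega)
          omega
        · subst hc0; omega
        · have : (2 * h : ℤ) * 1 ≤ (2 * h : ℤ) * c := mul_le_mul_of_nonneg_left (by omega) (by omega)
          omega
      · intro t
        obtain ⟨i, hi⟩ := hdec t.1 t.2.1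
        have h' := t.2.2
        rw [hi, hsq, ← zpow_zero x, hxe] at h'
        obtain ⟨c, hc⟩ := h'
        obtain ⟨j, rfl⟩ : ∃ j, i = 2 * j := ⟨-c, by
          have : (h : ℤ) * (i + 2 * c) = 0 := by linear_combination -hc
          rcases mul_eq_zero.1 this with h0 | h0
          · omega
          · linarith⟩
        refine ⟨⟨(j % (h : ℤ)).toNat, by
          have := Int.emod_lt_of_pos j (show (0 : ℤ) < h by omega)
          have := Int.emod_nonneg j (show (h : ℤ) ≠ 0 by omega)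
          omega⟩, Subtype.ext ?_⟩
        show x ^ (2 * (((j % (h : ℤ)).toNat : ℕ) : ℤ)) * y = t.1
        rw [hi, mul_left_inj, hxe, Int.toNat_of_nonneg (Int.emod_nonneg j (by omega))]
        exact ⟨j / (h : ℤ), by rw [Int.emod_def]; ring⟩
    obtain ⟨h1, h2⟩ := count_case hpq.symm hρ hcfix hst x hxo ⟨_, hh⟩ hxc hidx hmove hT hh
    exact ⟨h1, a + 2, by omega, Or.inr ⟨hsd, by rw [hcard]⟩⟩
  obtain ⟨H, W, hidx, hsup, hind, hinv, hker, hperm⟩ :=
    Cfsg.Agent.S3380.result q p hG ρ hρ hirr hnc hnq (fun n h => (hnd n).false h.some) hsd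
  haveI : NeZero p := ⟨hp.ne_zero⟩
  have hdj : ∀ i j, i ≠ j → Disjoint (W i) (W j) := fun i j h => hind.pairwiseDisjoint h
  obtain ⟨g₀, hg₀⟩ : ∃ g : G, g ∉ H := by
    by_contra h
    push Not at h
    rw [(Subgroup.eq_top_iff' H).2 h, Subgroup.index_top] at hidx
    exact hp.one_lt.ne hidx
  have hcyc : ∀ g, g ∉ H → ∃ σ : Equiv.Perm (Fin p), σ.IsCycle ∧ orderOf σ = p ∧ (∀ i, σ i ≠ i) ∧
      ∀ i, ∀ w ∈ W i, ρ g w ∈ W (σ i) := by
    intro g hg
    obtain ⟨σ, hσ, hmap⟩ := hperm g hg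
    have hc : σ.IsCycle := Equiv.Perm.isCycle_of_prime_order' (hσ.symm ▸ hp) (by
      rw [Fintype.card_fin, hσ]; have := hp.pos; omega)
    refine ⟨σ, hc, hσ, fun i => ?_, fun i w hw => by rw [← hmap i]; exact ⟨w, hw, rfl⟩⟩
    have hs : σ.support = Finset.univ := Finset.eq_univ_of_card _ (by rw [← hc.orderOf, hσ, Fintype.card_fin])
    exact Equiv.Perm.mem_support.1 (hs ▸ Finset.mem_univ i)
  have hWne : ∀ i, W i ≠ ⊥ := by
    intro i hi
    obtain ⟨σ, hσ, hmap⟩ := hperm g₀ hg₀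
    obtain ⟨σ', hc', hσ', hfix', hmap'⟩ := hcyc g₀ hg₀
    have hstep : ∀ j, W j = ⊥ → W (σ j) = ⊥ := fun j hj => by rw [← hmap j, hj, Submodule.map_bot]
    have hc : σ.IsCycle := Equiv.Perm.isCycle_of_prime_order' (hσ.symm ▸ hp) (by
      rw [Fintype.card_fin, hσ]; have := hp.pos; omega)
    have hs : σ.support = Finset.univ := Finset.eq_univ_of_card _ (by rw [← hc.orderOf, hσ, Fintype.card_fin])
    have hpow : ∀ n : ℕ, W ((σ ^ n) i) = ⊥ := fun n => by
      induction n with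
      | zero => simpa using hi
      | succ n ih => rw [pow_succ', Equiv.Perm.mul_apply]; exact hstep _ ih
    have : iSup W = ⊥ := iSup_eq_bot.2 fun j => by
      obtain ⟨n, rfl⟩ := hc.exists_pow_eq (Equiv.Perm.mem_support.1 (hs ▸ Finset.mem_univ i))
        (Equiv.Perm.mem_support.1 (hs ▸ Finset.mem_univ j))
      exact hpow n
    rw [this] at hsup
    exact hv0 ((Submodule.mem_bot (ZMod q)).1 (hsup ▸ Submodule.mem_top))
  by_cases hp2 : p = 2
  · right
    subst hp2
    have hW01 : IsCompl (W 0) (W 1) := by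
      refine ⟨hdj 0 1 (by simp), codisjoint_iff.2 (eq_top_iff.2 ?_)⟩
      rw [← hsup]
      refine iSup_le fun i => ?_
      fin_cases i
      · exact le_sup_left
      · exact le_sup_right
    obtain ⟨h, hh, hh1, hhfix⟩ := hker 0
    have hsw : ∀ g, g ∉ H → ∀ i, ∀ w ∈ W i, ρ g w ∈ W (i + 1) := fun g hg i w hw => by
      obtain ⟨σ, -, -, hfix, hmap⟩ := hcyc g hg
      have : σ i = i + 1 := (show ∀ i j : Fin 2, j ≠ i → j = i + 1 from fun i j h => by fin_cases i <;> fin_cases j <;> simp_all) i (σ i) (hfix i)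
      exact this ▸ hmap i w hw
    rcases two_case hpq.symm hG hρ hhalf H hidx (W 0) (W 1) hW01 (hWne 0) (hWne 1) (fun g hg => hinv g hg 0)
      (fun g hg => hinv g hg 1) (fun g hg w hw => hsw g hg 0 w hw) (fun g hg w hw => hsw g hg 1 w hw)
      ⟨h, hh, hh1, hhfix⟩ with r | ⟨r1, r2⟩
    · exact Or.inl r
    · exact Or.inr ⟨r1, r2, rfl⟩
  · exfalso
    have hout : ∀ g, g ∉ H → ∀ i, ∀ w ∈ W i, ρ g w = w → w = 0 := fun g hg i w hw e => by
      obtain ⟨σ, -, -, hfix, hmap⟩ := hcyc g hg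
      exact Submodule.disjoint_def.1 (hdj _ _ (hfix i).symm) w hw (by have := hmap i w hw; rwa [e] at this)
    have key : ∀ i j, i ≠ j → ∀ u ∈ W i, ∀ w ∈ W j, u ≠ 0 → w ≠ 0 → stab ρ u = stab ρ w := by
      intro i j hij u hu w hw hu' hw'
      have hs : u + w ≠ 0 := fun e => hu' (Submodule.disjoint_def.1 (hdj i j hij) u hu
        (by rw [eq_neg_of_add_eq_zero_left e]; exact (W j).neg_mem hw))
      have h1 : ∀ g, g ∈ stab ρ (u + w) → g ∈ stab ρ u ∧ g ∈ stab ρ w := by
        intro g hg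
        by_cases hgH : g ∈ H
        · exact split_fix (hdj i j hij) hu hw (hinv g hgH i u hu) (hinv g hgH j w hw) hg
        exfalso
        obtain ⟨σ, hc, hσ, hfix, hmap⟩ := hcyc g hgH
        have hne : σ i ≠ j ∨ σ j ≠ i := by
          by_contra hb
          push Not at hb
          have h2 : σ ^ 2 = 1 := (hc.pow_eq_one_iff' (hfix i)).2 (by rw [sq, Equiv.Perm.mul_apply, hb.1, hb.2])
          have := orderOf_dvd_of_pow_eq_one h2
          rw [hσ] at this
          exact hp2 ((Nat.prime_dvd_prime_iff_eq hp Nat.prime_two).1 this)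
        -- one image lies outside the two spaces
        have main : ∀ i j, i ≠ j → σ i ≠ j → ∀ u ∈ W i, ∀ w ∈ W j, ρ g (u + w) = u + w → u = 0 := by
          intro i j hij hne u hu w hw he
          have hmem : ρ g u ∈ ⨆ k, ⨆ _ : k ≠ σ i, W k := by
            rw [map_add] at he
            rw [eq_sub_of_add_eq he]
            refine Submodule.sub_mem _ (Submodule.add_mem _ ?_ ?_) ?_
            · exact Submodule.mem_iSup_of_mem i (Submodule.mem_iSup_of_mem (hfix i).symm hu)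
            · exact Submodule.mem_iSup_of_mem j (Submodule.mem_iSup_of_mem hne.symm hw)
            · exact Submodule.mem_iSup_of_mem (σ j)
                (Submodule.mem_iSup_of_mem (fun e => hij (σ.injective e).symm) (hmap j w hw))
          have := Submodule.disjoint_def.1 (hind (σ i)) _ (hmap i u hu) hmem
          exact (ρ g).injective (this.trans (map_zero _).symm)
        rcases hne with h | h
        · exact hu' (main i j hij h u hu w hw hg)
        · exact hw' (main j i hij.symm h w hw u hu (by rw [add_comm]; exact hg))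
      rw [← eq_of_le_stab hhalf hs hu' (fun g hg => (h1 g hg).1), ← eq_of_le_stab hhalf hs hw' (fun g hg => (h1 g hg).2)]
    haveI : Nontrivial (Fin p) := Fin.nontrivial_iff_two_le.2 hp.two_le
    obtain ⟨i₀, i₁, hi⟩ := exists_pair_ne (Fin p)
    obtain ⟨u₀, hu₀, hu₀'⟩ := Submodule.exists_mem_ne_zero_of_ne_bot (hWne i₀)
    obtain ⟨u₁, hu₁, hu₁'⟩ := Submodule.exists_mem_ne_zero_of_ne_bot (hWne i₁)
    obtain ⟨g, hg, hg'⟩ := (Subgroup.bot_or_exists_ne_one (stab ρ u₀)).resolve_left (hst u₀ hu₀')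
    refine hg' (hρ ?_)
    have hall : ∀ i, ∀ w ∈ W i, ρ g w = w := by
      intro i w hw
      rcases eq_or_ne w 0 with rfl | hw'
      · exact map_zero _
      rcases eq_or_ne i i₀ with rfl | hne
      · exact ((key _ _ hi w hw u₁ hu₁ hw' hu₁').trans (key _ _ hi u₀ hu₀ u₁ hu₁ hu₀' hu₁').symm ▸ hg :)
      · exact (key _ _ hne.symm u₀ hu₀ w hw hu₀' hw' ▸ hg :)
    ext v
    have hv : v ∈ LinearMap.eqLocus (ρ g : V →ₗ[ZMod q] V) LinearMap.id := by
      have : iSup W ≤ LinearMap.eqLocus (ρ g : V →ₗ[ZMod q] V) LinearMap.id := iSup_le fun i w hw => hall i w hw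
      exact this (hsup ▸ Submodule.mem_top)
    simpa using hv

end Cfsg.Agent.S3371
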