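import Cfsg.Statements.S0699
import Mathlib
import Cfsg.Agent.Lib.Perm.NormalTrans
import Cfsg.Agent.Lib.Perm.Fixing
-- import your own Cfsg.Agent.* helpers here

set_option autoImplicit false
open Cfsg

namespace Cfsg.Agent.S0699

/-- Wagner's Theorem: a non-trivial normal subgroup of a triply transitive permutation group of odd degree at least 5 is triply transitive. -/
theorem result {α : Type*} [Fintype α] [DecidableEq α] (G : Subgroup (Equiv.Perm α)) (hodd : Odd (Fintype.card α)) (h5 : 5 ≤ Fintype.card α) (hG : MulAction.IsMultiplyPretransitive G α 3) (N : Subgroup G) [N.Normal] (hN : N ≠ ⊥) : MulAction.IsMultiplyPretransitive N α 3 := by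
  classical
  set n := Fintype.card α with hn
  haveI : Finite N := inferInstance
  have h2N : MulAction.IsMultiplyPretransitive N α 2 := by
    rcases CfsgLib.PermNormal.jordan_normal (k := 3) (by norm_num) (by omega) hG N hN with h | ⟨-, hc, hsq⟩
    · exact h
    exfalso
    haveI := hG
    have h1 : MulAction.IsPreprimitive G α := MulAction.isPreprimitive_of_is_two_pretransitive
      (MulAction.isMultiplyPretransitive_of_le (n := 3) (by norm_num) (by rw [Nat.card_eq_fintype_card]; omega))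
    have htr := CfsgLib.PermNormal.pretransitive_of_normal h1 N hN
    have hreg : ∀ a : α, MulAction.stabilizer N a = ⊥ := fun a => (Subgroup.eq_bot_iff_forall _).mpr fun x hx => by
      refine Subtype.ext (Subtype.ext (Equiv.ext fun y => ?_))
      obtain ⟨m, rfl⟩ := htr.exists_smul_eq a y
      have h := congrArg (fun z : N => z • a) (hc.is_comm.comm x m)
      simp only [mul_smul, (MulAction.mem_stabilizer_iff.mp hx)] at h
      exact h
    obtain ⟨x, hx, hx1⟩ := (Subgroup.bot_or_exists_ne_one N).resolve_left hN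
    have hd : 2 ∣ Nat.card N := by
      haveI := Fact.mk Nat.prime_two
      have := orderOf_eq_prime (hsq x hx) hx1
      exact this ▸ Subgroup.orderOf_dvd_natCard _ hx
    obtain ⟨a⟩ : Nonempty α := Fintype.card_pos_iff.mp (by omega)
    have hcard : Nat.card N = Fintype.card α := by
      have := MulAction.index_stabilizer_of_transitive N a
      rw [hreg a, Subgroup.index_bot, Nat.card_eq_fintype_card (α := α)] at this
      exact this
    rw [hcard] at hd
    exact Nat.not_even_iff_odd.mpr hodd (even_iff_two_dvd.mpr hd)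
  haveI := Fact.mk Nat.prime_two
  have h2' : ∀ {x y z w : α}, x ≠ y → z ≠ w → ∃ g : N, g • x = z ∧ g • y = w := MulAction.is_two_pretransitive_iff.mp h2N
  have h3 : ∀ x y : Fin 3 ↪ α, ∃ g : G, g • x = y := MulAction.isMultiplyPretransitive_iff.mp hG
  have h3' : ∀ a b c a' b' c' : α, a ≠ b → a ≠ c → b ≠ c → a' ≠ b' → a' ≠ c' → b' ≠ c' →
      ∃ g : G, g • a = a' ∧ g • b = b' ∧ g • c = c' := by
    intro a b c a' b' c' h1 h2 h3' h4 h5 h6
    obtain ⟨g, hg⟩ := h3 ⟨![a, b, c], fun i j e => by fin_cases i <;> fin_cases j <;> simp_all⟩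
      ⟨![a', b', c'], fun i j e => by fin_cases i <;> fin_cases j <;> simp_all⟩
    exact ⟨g, DFunLike.congr_fun hg 0, DFunLike.congr_fun hg 1, DFunLike.congr_fun hg 2⟩
  have hconj : ∀ (g : G) (m : N) (z : α), (⟨g * m * g⁻¹, (inferInstance : N.Normal).conj_mem m m.2 g⟩ : N) • (g • z) = g • (m • z) := fun g m z => by
    show (g * (m : G) * g⁻¹) • g • z = g • (m : G) • z
    rw [← mul_smul, ← mul_smul, inv_mul_cancel_right]
  -- an element of `N` swapping two points and fixing a given third one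
  have hswap : ∀ a b c : α, a ≠ b → a ≠ c → b ≠ c → ∃ u : N, u • a = b ∧ u • b = a ∧ u • c = c := by
    obtain ⟨a₁, b₁, hab₁⟩ := Fintype.exists_pair_of_one_lt_card (by omega : 1 < Fintype.card α)
    obtain ⟨w, hw1, hw2⟩ := h2' hab₁ hab₁.symm
    have hw : 2 ∣ orderOf w := by
      by_contra hodd'
      obtain ⟨r, hr⟩ := Nat.odd_iff.mpr (Nat.two_dvd_ne_zero.mp hodd')
      have hwa : ∀ i : ℕ, ((w ^ 2) ^ i) • a₁ = a₁ := fun i =>
        (pow_mem (show w ^ 2 ∈ MulAction.stabilizer N a₁ by rw [MulAction.mem_stabilizer_iff, pow_two, mul_smul, hw1, hw2]) i : _)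
      have h0 := hwa r
      have h1 : (w ^ orderOf w) • a₁ = a₁ := by rw [pow_orderOf_eq_one, one_smul]
      rw [hr, pow_succ', pow_mul, mul_smul, h0, hw1] at h1
      exact hab₁ h1.symm
    obtain ⟨t, ht⟩ := exists_prime_orderOf_dvd_card' (G := N) 2 (hw.trans (orderOf_dvd_natCard w))
    obtain ⟨c₀, hc₀⟩ : ∃ c₀, t • c₀ = c₀ := by
      have hp : IsPGroup 2 (Subgroup.zpowers t) := IsPGroup.iff_card.mpr ⟨1, by rw [Nat.card_zpowers, ht, pow_one]⟩
      obtain ⟨c₀, hc₀⟩ := hp.nonempty_fixed_point_of_prime_not_dvd_card α (by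
        rw [Nat.card_eq_fintype_card]; exact fun h => Nat.not_even_iff_odd.mpr hodd (even_iff_two_dvd.mpr h))
      exact ⟨c₀, hc₀ ⟨t, Subgroup.mem_zpowers t⟩⟩
    obtain ⟨a₀, ha₀⟩ : ∃ a₀, t • a₀ ≠ a₀ := by
      by_contra hall
      push Not at hall
      have : t = 1 := Subtype.ext (Subtype.ext (Equiv.ext fun x => hall x))
      rw [this, orderOf_one] at ht; omega
    have htt : t • t • a₀ = a₀ := by rw [← mul_smul, ← pow_two, ← ht, pow_orderOf_eq_one, one_smul]
    intro a b c hab hac hbc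
    obtain ⟨g, hga, hgb, hgc⟩ := h3' a₀ (t • a₀) c₀ a b c (Ne.symm ha₀) (fun e => ha₀ (by rw [e]; exact hc₀))
      (fun e => by have e' := congrArg (fun z => t • z) e; simp only [htt, hc₀] at e'; exact ha₀ (by rw [e']; exact hc₀)) hab hac hbc
    refine ⟨⟨g * t * g⁻¹, (inferInstance : N.Normal).conj_mem t t.2 g⟩, ?_, ?_, ?_⟩
    · rw [← hga, hconj, hgb]
    · rw [← hgb, hconj, htt, hga]
    · rw [← hgc, hconj, hc₀]
  refine CfsgLib.PermFixing.isMultiplyPretransitive_of_fixTrans fun j hj => ?_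
  refine CfsgLib.PermFixing.fixTrans_of_le (Nat.le_of_lt_succ hj) (by omega) ?_
  intro r hr c d hc hd
  obtain ⟨a, b, hab, rfl⟩ := Finset.card_eq_two.mp hr
  simp only [Finset.mem_insert, Finset.mem_singleton, not_or] at hc hd
  set P0 : Subgroup N := MulAction.stabilizer N a ⊓ MulAction.stabilizer N b with hP0
  by_contra hne
  have hne' : ∀ p ∈ P0, p • c ≠ d := fun p hp e => hne ⟨p, fun z hz => by
    simp only [Finset.mem_insert, Finset.mem_singleton] at hz
    rcases hz with rfl | rfl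
    exacts [hp.1, hp.2], e⟩
  -- the orbit of `c` has odd size
  have horb_eq : ∀ z, z ≠ a → z ≠ b → (MulAction.orbit P0 z).ncard = (MulAction.orbit P0 c).ncard := by
    intro z hza hzb
    obtain ⟨g, hga, hgb, hgc⟩ := h3' a b c a b z hab (Ne.symm hc.1) (Ne.symm hc.2) hab (Ne.symm hza) (Ne.symm hzb)
    have : MulAction.orbit P0 z = (g • ·) '' MulAction.orbit P0 c := by
      have hmem : ∀ (k : G), k • a = a → k • b = b → ∀ p : P0, (⟨k * (p : N) * k⁻¹, (inferInstance : N.Normal).conj_mem _ (p : N).2 k⟩ : N) ∈ P0 := by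
        intro k ka kb p
        refine Subgroup.mem_inf.mpr ⟨?_, ?_⟩
        · show _ • a = a
          conv_lhs => rw [← ka]
          rw [hconj, show (p : N) • a = a from p.2.1, ka]
        · show _ • b = b
          conv_lhs => rw [← kb]
          rw [hconj, show (p : N) • b = b from p.2.2, kb]
      ext y
      constructor
      · rintro ⟨p, rfl⟩
        refine ⟨g⁻¹ • (p : N) • z, ⟨⟨_, hmem g⁻¹ (inv_smul_eq_iff.mpr hga.symm) (inv_smul_eq_iff.mpr hgb.symm) p⟩, ?_⟩, smul_inv_smul g _⟩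
        show (_ : N) • c = _
        rw [show c = g⁻¹ • z by rw [← hgc, inv_smul_smul]]
        exact hconj _ _ _
      · rintro ⟨_, ⟨p, rfl⟩, rfl⟩
        refine ⟨⟨_, hmem g hga hgb p⟩, ?_⟩
        show (_ : N) • z = _
        rw [← hgc]
        exact hconj _ _ _
    rw [this, Set.ncard_image_of_injective _ (MulAction.injective g)]
  have hodd_orb : ¬ 2 ∣ (MulAction.orbit P0 c).ncard := by
    intro h2
    have := CfsgLib.PermFixing.dvd_ncard_of_orbits P0 ({a, b}ᶜ : Set α) (d := 2) (fun p hp z hz => by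
      simp only [Set.mem_compl_iff, Set.mem_insert_iff, Set.mem_singleton_iff, not_or] at hz ⊢
      exact ⟨fun e => hz.1 (smul_left_cancel p (e.trans hp.1.symm)), fun e => hz.2 (smul_left_cancel p (e.trans hp.2.symm))⟩)
      (fun z hz => by
        simp only [Set.mem_compl_iff, Set.mem_insert_iff, Set.mem_singleton_iff, not_or] at hz
        rw [horb_eq z hz.1 hz.2]; exact h2)
    rw [Set.ncard_compl, Set.ncard_pair hab, Nat.card_eq_fintype_card, ← hn] at this
    obtain ⟨i, hi⟩ := this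
    obtain ⟨l, hl⟩ := hodd
    omega
  -- the setwise stabiliser of the pair
  let E : Subgroup N :=
    { carrier := {m | (m • a = a ∧ m • b = b) ∨ (m • a = b ∧ m • b = a)}
      one_mem' := Or.inl ⟨one_smul _ _, one_smul _ _⟩
      mul_mem' := fun {m m'} hm hm' => by
        rcases hm with ⟨h1, h2⟩ | ⟨h1, h2⟩ <;> rcases hm' with ⟨h3, h4⟩ | ⟨h3, h4⟩ <;>
          simp [mul_smul, h1, h2, h3, h4]
      inv_mem' := fun {m} hm => by
        rcases hm with ⟨h1, h2⟩ | ⟨h1, h2⟩
        · exact Or.inl ⟨inv_smul_eq_iff.mpr h1.symm, inv_smul_eq_iff.mpr h2.symm⟩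
        · exact Or.inr ⟨inv_smul_eq_iff.mpr h2.symm, inv_smul_eq_iff.mpr h1.symm⟩ }
  have hPE : P0 ≤ E := fun p hp => Or.inl ⟨hp.1, hp.2⟩
  obtain ⟨w, hw1, hw2⟩ := h2' hab hab.symm
  have hEcard : Nat.card E = 2 * Nat.card P0 := by
    have hidx : (P0.subgroupOf E).index = 2 := by
      rw [Subgroup.index_eq_two_iff]
      refine ⟨⟨w, Or.inr ⟨hw1, hw2⟩⟩, fun m => ?_⟩
      have hmem : ∀ x : E, x ∈ P0.subgroupOf E ↔ (x : N) • a = a := fun x => by
        constructor
        · exact fun h => h.1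
        · intro h
          rcases x.2 with ⟨h1, h2⟩ | ⟨h1, h2⟩
          · exact Subgroup.mem_inf.mpr ⟨h1, h2⟩
          · exact absurd (h.symm.trans h1) hab
      rw [hmem, hmem]
      rcases m.2 with ⟨h1, h2⟩ | ⟨h1, h2⟩
      · refine Or.inr ⟨h1, ?_⟩
        show ¬ ((m : N) * w) • a = a
        rw [mul_smul, hw1, h2]; exact hab.symm
      · refine Or.inl ⟨?_, fun h => hab (h.symm.trans h1)⟩
        show ((m : N) * w) • a = a
        rw [mul_smul, hw1, h2]
    rw [← Subgroup.card_mul_index (P0.subgroupOf E), hidx, Nat.card_congr (Subgroup.subgroupOfEquivOfLe hPE).toEquiv, mul_comm]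
  -- each orbit is invariant under `E`
  have horbE : ∀ z, z ≠ a → z ≠ b → ∀ m ∈ E, ∀ y ∈ MulAction.orbit P0 z, m • y ∈ MulAction.orbit P0 z := by
    rintro z hza hzb m hm _ ⟨p, rfl⟩
    obtain ⟨u, hu1, hu2, hu3⟩ := hswap a b z hab (Ne.symm hza) (Ne.symm hzb)
    rcases hm with ⟨h1, h2⟩ | ⟨h1, h2⟩
    · exact ⟨⟨m, Subgroup.mem_inf.mpr ⟨h1, h2⟩⟩ * p, (mul_smul _ _ _)⟩
    · refine ⟨⟨m * p * u, Subgroup.mem_inf.mpr ⟨?_, ?_⟩⟩, ?_⟩
      · show _ • a = a
        rw [mul_smul, mul_smul, hu1, show (p : N) • b = b from p.2.2, h2]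
      · show _ • b = b
        rw [mul_smul, mul_smul, hu2, show (p : N) • a = a from p.2.1, h1]
      · show (m * (p : N) * u) • z = m • ((p : N) • z)
        rw [mul_smul, mul_smul, hu3]
  obtain ⟨R⟩ : Nonempty (Sylow 2 E) := inferInstance
  set R' : Subgroup N := (R : Subgroup E).map E.subtype with hR'
  have hR'p : IsPGroup 2 R' := R.2.map _
  have hfix : ∀ z, z ≠ a → z ≠ b → (MulAction.orbit P0 z).ncard = (MulAction.orbit P0 c).ncard →
      ∃ y ∈ MulAction.orbit P0 z, ∀ m ∈ R', m • y = y := by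
    intro z hza hzb hzc
    let T : SubMulAction R' α :=
      { carrier := MulAction.orbit P0 z
        smul_mem' := fun m y hy => horbE z hza hzb m (Subgroup.map_subtype_le _ m.2) y hy }
    obtain ⟨y, hy⟩ := hR'p.nonempty_fixed_point_of_prime_not_dvd_card T (by
      show ¬ 2 ∣ Nat.card (MulAction.orbit P0 z)
      rw [Nat.card_coe_set_eq, hzc]; exact hodd_orb)
    exact ⟨y.1, y.2, fun m hm => congrArg Subtype.val (hy ⟨m, hm⟩)⟩
  obtain ⟨c', hc', hc'f⟩ := hfix c hc.1 hc.2 rfl
  obtain ⟨d', hd', hd'f⟩ := hfix d hd.1 hd.2 (horb_eq d hd.1 hd.2)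
  have hcd' : c' ≠ d' := by
    intro e
    obtain ⟨p, hp⟩ := hc'
    obtain ⟨q, hq⟩ := hd'
    refine hne' _ (q⁻¹ * p).2 ?_
    show (q⁻¹ * p : P0) • c = d
    rw [mul_smul, inv_smul_eq_iff]
    exact hp.trans (e.trans hq.symm)
  -- the two point stabiliser of `c'`, `d'` is conjugate to `P0`
  obtain ⟨m, hma, hmb⟩ := h2' hab hcd'
  have hle : R'.map (MulAut.conj m⁻¹).toMonoidHom ≤ P0 := by
    rintro _ ⟨x, hx, rfl⟩
    refine Subgroup.mem_inf.mpr ⟨?_, ?_⟩
    · show (m⁻¹ * x * m⁻¹⁻¹) • a = a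
      rw [inv_inv, mul_smul, mul_smul, hma, hc'f x hx, ← hma, inv_smul_smul]
    · show (m⁻¹ * x * m⁻¹⁻¹) • b = b
      rw [inv_inv, mul_smul, mul_smul, hmb, hd'f x hx, ← hmb, inv_smul_smul]
  have hd2 := Subgroup.card_dvd_of_le hle
  rw [Subgroup.card_map_of_injective (MulAut.conj m⁻¹).injective, Subgroup.card_subtype, R.card_eq_multiplicity, hEcard,
    Nat.factorization_mul two_ne_zero Nat.card_pos.ne', Finsupp.add_apply, Nat.prime_two.factorization_self, add_comm] at hd2
  exact Nat.pow_succ_factorization_not_dvd Nat.card_pos.ne' Nat.prime_two hd2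

end Cfsg.Agent.S0699
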