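import Cfsg.Statements.S0706
import Mathlib
import Cfsg.Agent.Lib.HallPi
-- import your own Cfsg.Agent.* helpers here

set_option autoImplicit false
open Cfsg

namespace Cfsg.Agent.S0706

universe u
variable {α : Type u} [Fintype α] [DecidableEq α] {G : Subgroup (Equiv.Perm α)} {k : ℕ}

private theorem exists_move (hgen : ∀ s : Finset α, s.card = k + 1 → ∀ σ : Equiv.Perm ↥s, ∃ g ∈ G, ∀ x : ↥s, g (x : α) = σ x)
    (s : Finset α) (hs : s.card = k + 1) (τ : Equiv.Perm α) (hτ : ∀ x ∈ s, τ x ∈ s) :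
    ∃ g : G, ∀ x ∈ s, (g : Equiv.Perm α) x = τ x := by
  let σ : Equiv.Perm ↥s := Equiv.ofBijective (fun x => ⟨τ x, hτ x x.2⟩)
    (Finite.injective_iff_bijective.mp fun x y h => Subtype.ext (τ.injective (congrArg Subtype.val h)))
  obtain ⟨g, hg, h⟩ := hgen s hs σ
  exact ⟨⟨g, hg⟩, fun x hx => h ⟨x, hx⟩⟩

private theorem sets_conj (hgen : ∀ s : Finset α, s.card = k + 1 → ∀ σ : Equiv.Perm ↥s, ∃ g ∈ G, ∀ x : ↥s, g (x : α) = σ x)
    {Γ : Finset α} (hΓ : Γ.card = k) : ∀ (n : ℕ) (Δ : Finset α), Δ.card = k → (Δ \ Γ).card = n →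
      ∃ g : G, ∀ x ∈ Δ, (g : Equiv.Perm α) x ∈ Γ := by
  intro n
  induction n with
  | zero =>
    intro Δ _ h
    rw [Finset.card_eq_zero, Finset.sdiff_eq_empty_iff_subset] at h
    exact ⟨1, fun x hx => by simpa using h hx⟩
  | succ n ih =>
    intro Δ hΔ h
    obtain ⟨a, ha⟩ := Finset.card_pos.mp (by omega : 0 < (Δ \ Γ).card)
    obtain ⟨b, hb⟩ : (Γ \ Δ).Nonempty := by
      rw [← Finset.card_pos, Finset.card_sdiff_comm (hΓ.trans hΔ.symm)]; omega
    rw [Finset.mem_sdiff] at ha hb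
    set s := insert b Δ with hs
    obtain ⟨g, hg⟩ := exists_move hgen s (by rw [hs, Finset.card_insert_of_notMem hb.2, hΔ]) (Equiv.swap a b) (fun x hx => by
      rcases eq_or_ne x a with rfl | hxa
      · rw [Equiv.swap_apply_left, hs]; exact Finset.mem_insert_self _ _
      rcases eq_or_ne x b with rfl | hxb
      · rw [Equiv.swap_apply_right, hs]; exact Finset.mem_insert_of_mem ha.1
      · rwa [Equiv.swap_apply_of_ne_of_ne hxa hxb])
    set Δ' := Δ.image (g : Equiv.Perm α) with hΔ'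
    have hcard : Δ'.card = k := by rw [hΔ', Finset.card_image_of_injective _ (Equiv.injective _), hΔ]
    have he : Δ' = insert b (Δ.erase a) := by
      refine (Finset.eq_of_subset_of_card_le ?_ ?_)
      · intro y hy
        obtain ⟨x, hx, rfl⟩ := Finset.mem_image.mp hy
        rw [hg x (hs ▸ Finset.mem_insert_of_mem hx)]
        rcases eq_or_ne x a with rfl | hxa
        · rw [Equiv.swap_apply_left]; exact Finset.mem_insert_self _ _
        · rw [Equiv.swap_apply_of_ne_of_ne hxa (fun (e : x = b) => hb.2 (e ▸ hx))]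
          exact Finset.mem_insert_of_mem (Finset.mem_erase.mpr ⟨hxa, hx⟩)
      · have := Finset.card_pos.mpr ⟨a, ha.1⟩
        rw [hcard, Finset.card_insert_of_notMem (fun h => hb.2 (Finset.mem_of_mem_erase h)), Finset.card_erase_of_mem ha.1, hΔ]
        omega
    have hdiff : (Δ' \ Γ) = (Δ \ Γ).erase a := by
      ext y
      simp only [he, Finset.mem_sdiff, Finset.mem_insert, Finset.mem_erase]
      constructor
      · rintro ⟨rfl | ⟨h1, h2⟩, h3⟩
        · exact absurd hb.1 h3
        · exact ⟨h1, h2, h3⟩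
      · rintro ⟨h1, h2, h3⟩
        exact ⟨Or.inr ⟨h1, h2⟩, h3⟩
    obtain ⟨t, ht⟩ := ih Δ' hcard (by rw [hdiff, Finset.card_erase_of_mem (Finset.mem_sdiff.mpr ha)]; omega)
    exact ⟨t * g, fun x hx => by simpa using ht _ (Finset.mem_image_of_mem _ hx)⟩

/-- In a generously `k`-transitive permutation group, for a prime `p ≤ k` and a `k`-set `Γ`, there are no `p` points outside `Γ` lying in distinct orbits of the pointwise stabiliser of `Γ` all of length prime to `p` (at most `p - 1` such orbits). -/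
theorem result {α : Type*} [Fintype α] [DecidableEq α] (G : Subgroup (Equiv.Perm α)) {k : ℕ} (hk : k < Fintype.card α) (hgen : ∀ s : Finset α, s.card = k + 1 → ∀ σ : Equiv.Perm ↥s, ∃ g ∈ G, ∀ x : ↥s, g (x : α) = σ x) {p : ℕ} (hp : p.Prime) (hpk : p ≤ k) (Γ : Finset α) (hΓ : Γ.card = k) (f : Fin p → α) (hf : ∀ i, f i ∉ Γ) (hdist : ∀ i j, i ≠ j → f j ∉ MulAction.orbit (fixingSubgroup G (Γ : Set α)) (f i)) : ∃ i, p ∣ Nat.card (MulAction.orbit (fixingSubgroup G (Γ : Set α)) (f i)) := by
  classical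
  by_contra hcon
  push Not at hcon
  haveI := Fact.mk hp
  set H := fixingSubgroup G (Γ : Set α) with hH
  have hfix : ∀ {g : G}, g ∈ H ↔ ∀ x ∈ Γ, (g : Equiv.Perm α) x = x := fun {g} => by
    rw [hH, mem_fixingSubgroup_iff]; rfl
  -- elements stabilising `Γ` preserve the orbits of `H` outside `Γ`
  have horb : ∀ n : G, (∀ x ∈ Γ, (n : Equiv.Perm α) x ∈ Γ) → ∀ x : α, x ∉ Γ → n • x ∈ MulAction.orbit H x := by
    intro n hn x hx
    have hnx : (n : Equiv.Perm α) x ∉ Γ := fun h => by
      have hsurj : Set.SurjOn (n : Equiv.Perm α) Γ Γ := (Γ.finite_toSet.injOn_iff_bijOn_of_mapsTo hn).mp ((n : Equiv.Perm α).injective.injOn) |>.surjOn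
      obtain ⟨y, hy, e⟩ := hsurj h
      exact hx ((n : Equiv.Perm α).injective e ▸ hy)
    have hswap : ∀ z ∈ Γ, Equiv.swap ((n : Equiv.Perm α) x) x z = z := fun z hz =>
      Equiv.swap_apply_of_ne_of_ne (fun (e : z = _) => hnx (e ▸ hz)) (fun (e : z = x) => hx (e ▸ hz))
    obtain ⟨g, hg⟩ := exists_move hgen (insert x Γ) (by rw [Finset.card_insert_of_notMem hx, hΓ])
      (Equiv.swap ((n : Equiv.Perm α) x) x * (n : Equiv.Perm α)) (fun y hy => by
        rw [Equiv.Perm.mul_apply]
        rcases Finset.mem_insert.mp hy with rfl | hy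
        · rw [Equiv.swap_apply_left]; exact Finset.mem_insert_self _ _
        · have h1 := hn y hy
          rw [hswap _ h1]
          exact Finset.mem_insert_of_mem h1)
    have hgx : (g : Equiv.Perm α) x = x := by rw [hg x (Finset.mem_insert_self _ _), Equiv.Perm.mul_apply, Equiv.swap_apply_left]
    refine ⟨⟨n * g⁻¹, hfix.mpr fun y hy => ?_⟩, ?_⟩
    · obtain ⟨z, hz, rfl⟩ : ∃ z ∈ Γ, (g : Equiv.Perm α) z = y := by
        have hmap : ∀ z ∈ Γ, (g : Equiv.Perm α) z ∈ Γ := fun z hz => by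
          have h1 := hn z hz
          rw [hg z (Finset.mem_insert_of_mem hz), Equiv.Perm.mul_apply,
            hswap _ h1]
          exact h1
        exact ((Γ.finite_toSet.injOn_iff_bijOn_of_mapsTo hmap).mp ((g : Equiv.Perm α).injective.injOn)).surjOn hy
      have h1 := hn z hz
      have h2 : (g : Equiv.Perm α) z = (n : Equiv.Perm α) z := by
        rw [hg z (Finset.mem_insert_of_mem hz), Equiv.Perm.mul_apply, hswap _ h1]
      show ((n : G) : Equiv.Perm α) (((g : G) : Equiv.Perm α).symm (((g : G) : Equiv.Perm α) z)) = _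
      rw [Equiv.symm_apply_apply]
      exact h2.symm
    · show (n * g⁻¹) • x = n • x
      rw [mul_smul, inv_smul_eq_iff.mpr (hgx.symm : x = g • x)]
  -- a `p`-element of the setwise stabiliser moving `p` points of `Γ`
  obtain ⟨P, hPΓ, hPc⟩ := Finset.exists_subset_card_eq (hpk.trans hΓ.ge)
  set c := P.toList.formPerm with hc
  have hcsupp : c.support = P := by
    rw [hc, List.support_formPerm_of_nodup _ P.nodup_toList, Finset.toList_toFinset]
    intro x h
    have := congrArg List.length h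
    simp [hPc] at this
    exact hp.ne_one this
  have hcorder : orderOf c = p := by
    have hcy : c.IsCycle := List.isCycle_formPerm P.nodup_toList (by rw [Finset.length_toList, hPc]; exact hp.two_le)
    rw [hcy.orderOf, hcsupp, hPc]
  have hcfix : ∀ x, x ∉ P → c x = x := fun x hx => Equiv.Perm.notMem_support.mp (hcsupp ▸ hx)
  have hcP : ∀ x ∈ P, c x ∈ P := fun x hx => by
    rw [← hcsupp] at hx ⊢
    exact Equiv.Perm.apply_mem_support.mpr hx
  obtain ⟨x₀, hx₀⟩ : ∃ x₀, x₀ ∉ Γ := ⟨f ⟨0, hp.pos⟩, hf _⟩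
  obtain ⟨g, hg⟩ := exists_move hgen (insert x₀ Γ) (by rw [Finset.card_insert_of_notMem hx₀, hΓ]) c (fun x hx => by
    by_cases hxP : x ∈ P
    · exact Finset.mem_insert_of_mem (hPΓ (hcP x hxP))
    · rwa [hcfix x hxP])
  have hgΓ : ∀ j : ℕ, ∀ x ∈ Γ, ((g ^ j : G) : Equiv.Perm α) x = (c ^ j) x ∧ (c ^ j) x ∈ Γ := by
    intro j
    induction j with
    | zero => exact fun x hx => ⟨rfl, hx⟩
    | succ j ih =>
      intro x hx
      have h1 : c x ∈ Γ := by
        by_cases hxP : x ∈ P
        · exact hPΓ (hcP x hxP)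
        · rwa [hcfix x hxP]
      rw [pow_succ, pow_succ, Subgroup.coe_mul, Equiv.Perm.mul_apply, Equiv.Perm.mul_apply, hg x (Finset.mem_insert_of_mem hx)]
      exact ih _ h1
  set m := orderOf g / p ^ (orderOf g).factorization p with hm
  have hog : orderOf g ≠ 0 := (orderOf_pos g).ne'
  have hpm : ¬ p ∣ m := Nat.not_dvd_ordCompl hp hog
  set y := g ^ m with hy
  have hyp : orderOf y ∣ p ^ (orderOf g).factorization p := orderOf_dvd_of_pow_eq_one (by
    rw [hy, hm, ← pow_mul, Nat.div_mul_cancel (Nat.ordProj_dvd _ _), pow_orderOf_eq_one])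
  have hyne : y ∉ H := fun h => by
    refine hpm (hcorder ▸ orderOf_dvd_of_pow_eq_one (Equiv.ext fun x => ?_))
    by_cases hx : x ∈ Γ
    · rw [← (hgΓ m x hx).1, ← hy, hfix.mp h x hx]; rfl
    · exact Equiv.Perm.pow_apply_eq_self_of_apply_eq_self (hcfix x fun hxP => hx (hPΓ hxP)) m
  set M := H ⊔ Subgroup.zpowers y with hM
  have hMst : ∀ n ∈ M, (∀ x ∈ Γ, (n : Equiv.Perm α) x ∈ Γ) ∧ ∀ x ∈ Γ, x ∉ P → (n : Equiv.Perm α) x = x := by
    intro n hn
    have hgen1 : ∀ z, z ∈ ((H : Set G) ∪ (Subgroup.zpowers y : Set G)) →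
        (∀ x ∈ Γ, (z : Equiv.Perm α) x ∈ Γ) ∧ ∀ x ∈ Γ, x ∉ P → (z : Equiv.Perm α) x = x := by
      intro z hz
      rcases hz with hz | hz
      · exact ⟨fun x hx => by rw [hfix.mp hz x hx]; exact hx, fun x hx _ => hfix.mp hz x hx⟩
      · rw [SetLike.mem_coe, ← mem_powers_iff_mem_zpowers] at hz
        obtain ⟨j, rfl⟩ := hz
        simp only [hy, ← pow_mul]
        exact ⟨fun x hx => by rw [(hgΓ _ x hx).1]; exact (hgΓ _ x hx).2, fun x hx hxP => by
          rw [(hgΓ _ x hx).1]; exact Equiv.Perm.pow_apply_eq_self_of_apply_eq_self (hcfix x hxP) _⟩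
    rw [hM, Subgroup.sup_eq_closure] at hn
    induction hn using Subgroup.closure_induction'' with
    | mem z hz => exact hgen1 z hz
    | inv_mem z hz => exact hgen1 _ (hz.imp H.inv_mem (Subgroup.inv_mem _))
    | one => exact ⟨fun x hx => hx, fun x _ _ => rfl⟩
    | mul a b _ _ ha hb =>
      exact ⟨fun x hx => ha.1 _ (hb.1 x hx), fun x hx hxP => by
        show (a : Equiv.Perm α) ((b : Equiv.Perm α) x) = x
        rw [hb.2 x hx hxP, ha.2 x hx hxP]⟩
  -- a Sylow subgroup containing `y`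
  obtain ⟨S, hS⟩ := (IsPGroup.iff_card.mpr (show ∃ j, Nat.card (Subgroup.zpowers (⟨y, Subgroup.mem_sup_right (Subgroup.mem_zpowers y)⟩ : M)) = p ^ j by
    rw [Nat.card_zpowers, Subgroup.orderOf_mk]
    obtain ⟨j, -, hj⟩ := (Nat.dvd_prime_pow hp).mp hyp
    exact ⟨j, hj⟩)).exists_le_sylow
  set R := (S : Subgroup M).map M.subtype with hR
  have hRM : R ≤ M := Subgroup.map_subtype_le _
  have hRc : Nat.card R = p ^ (Nat.card M).factorization p := by
    rw [hR, Subgroup.card_map_of_injective M.subtype_injective, S.card_eq_multiplicity]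
  have hfp : ∀ i, ∃ z ∈ MulAction.orbit H (f i), ∀ r ∈ R, r • z = z := by
    intro i
    have hinv : ∀ (r : R) (z : α), z ∈ MulAction.orbit H (f i) → (r : G) • z ∈ MulAction.orbit H (f i) := fun r z hz => by
      have hzΓ : z ∉ Γ := fun h => by
        obtain ⟨t, rfl⟩ := hz
        have e := hfix.mp t.2 _ h
        exact hf i (((t : G) : Equiv.Perm α).injective e ▸ h)
      rw [← MulAction.orbit_eq_iff.mpr hz]
      exact horb _ (hMst _ (hRM r.2)).1 z hzΓ
    letI : MulAction R (MulAction.orbit H (f i)) :=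
      { smul := fun r z => ⟨(r : G) • (z : α), hinv r z z.2⟩
        one_smul := fun z => Subtype.ext (one_smul G (z : α))
        mul_smul := fun r r' z => Subtype.ext (mul_smul (r : G) (r' : G) (z : α)) }
    obtain ⟨z, hz⟩ := (IsPGroup.of_card hRc).nonempty_fixed_point_of_prime_not_dvd_card (MulAction.orbit H (f i)) (hcon i)
    exact ⟨z, z.2, fun r hr => congrArg Subtype.val (hz ⟨r, hr⟩)⟩
  choose z hzorb hzfix using hfp
  have hzinj : Function.Injective z := fun i j e => by
    by_contra hne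
    refine hdist i j hne ?_
    rw [← MulAction.orbit_eq_iff.mpr (hzorb i), e, MulAction.orbit_eq_iff.mpr (hzorb j)]
    exact MulAction.mem_orbit_self _
  have hzΓ : ∀ i, z i ∉ Γ := fun i h => by
    obtain ⟨t, ht⟩ := hzorb i
    have e := hfix.mp t.2 _ h
    rw [← ht] at e h
    exact hf i (((t : G) : Equiv.Perm α).injective e ▸ h)
  set Δ := (Γ \ P) ∪ Finset.univ.image z with hΔ
  have hΔc : Δ.card = k := by
    rw [hΔ, Finset.card_union_of_disjoint, Finset.card_sdiff_of_subset hPΓ, Finset.card_image_of_injective _ hzinj, Finset.card_univ, Fintype.card_fin, hΓ, hPc]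
    · omega
    · rw [Finset.disjoint_left]
      intro x hx hx'
      obtain ⟨i, -, rfl⟩ := Finset.mem_image.mp hx'
      exact hzΓ i (Finset.mem_sdiff.mp hx).1
  obtain ⟨t, ht⟩ := sets_conj hgen hΓ _ Δ hΔc rfl
  have hmapΔ : Δ.image (t : Equiv.Perm α) = Γ := Finset.eq_of_subset_of_card_le (Finset.image_subset_iff.mpr ht)
    (by rw [Finset.card_image_of_injective _ (Equiv.injective _), hΔc, hΓ])
  have hRH : R.map (MulAut.conj t).toMonoidHom ≤ H := by
    rintro _ ⟨r, hr, rfl⟩
    refine hfix.mpr fun x hx => ?_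
    obtain ⟨w, hw, rfl⟩ := Finset.mem_image.mp (hmapΔ.symm ▸ hx : x ∈ Δ.image (t : Equiv.Perm α))
    have hrw : (r : Equiv.Perm α) w = w := by
      rcases Finset.mem_union.mp hw with hw | hw
      · exact (hMst r (hRM hr)).2 w (Finset.mem_sdiff.mp hw).1 (Finset.mem_sdiff.mp hw).2
      · obtain ⟨i, -, rfl⟩ := Finset.mem_image.mp hw
        exact hzfix i r hr
    simp [hrw]
  have hlt : (Nat.card M).factorization p ≤ (Nat.card H).factorization p := by
    have h1 : p ^ (Nat.card M).factorization p ∣ Nat.card H := by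
      rw [← hRc, Nat.card_congr (Subgroup.equivMapOfInjective R (MulAut.conj t).toMonoidHom (MulAut.conj t).injective).toEquiv]
      exact Subgroup.card_dvd_of_le hRH
    exact (hp.pow_dvd_iff_le_factorization Nat.card_pos.ne').mp h1
  -- but `H` has index divisible by `p` in `M`
  have hnorm : (H.subgroupOf M).Normal := by
    constructor
    intro h hh n
    refine hfix.mpr fun x hx => ?_
    have h1 := (hMst _ (inv_mem n.2)).1 x hx
    show ((n : G) : Equiv.Perm α) ((((h : G)) : Equiv.Perm α) (((n : G) : Equiv.Perm α)⁻¹ x)) = x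
    exact (congrArg _ (hfix.mp hh _ h1)).trans ((((n : G) : Equiv.Perm α)).apply_symm_apply x)
  have hpi : p ∣ H.relIndex M := by
    haveI := hnorm
    set q : M ⧸ H.subgroupOf M := QuotientGroup.mk (⟨y, Subgroup.mem_sup_right (Subgroup.mem_zpowers y)⟩ : M)
    have hq1 : q ≠ 1 := fun e => hyne ((QuotientGroup.eq_one_iff (N := H.subgroupOf M) _).mp e)
    have hqd : orderOf q ∣ p ^ (orderOf g).factorization p :=
      (orderOf_map_dvd (QuotientGroup.mk' _) _).trans (by rw [Subgroup.orderOf_mk]; exact hyp)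
    obtain ⟨j, -, hj⟩ := (Nat.dvd_prime_pow hp).mp hqd
    have hj0 : j ≠ 0 := fun e => hq1 (orderOf_eq_one_iff.mp (by rw [hj, e, pow_zero]))
    exact (dvd_pow_self p hj0).trans (hj ▸ orderOf_dvd_natCard q)
  have hcard := CfsgLib.card_mul_relIndex (le_sup_left : H ≤ M)
  have h2 : (H.relIndex M).factorization p ≠ 0 := fun e => by
    rcases Nat.factorization_eq_zero_iff _ _ |>.mp e with h | h | h
    · exact h hp
    · exact h hpi
    · exact Subgroup.index_ne_zero_of_finite h
  have e : (Nat.card M).factorization p = (Nat.card H).factorization p + (H.relIndex M).factorization p := by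
    rw [← hcard, Nat.factorization_mul Nat.card_pos.ne' (fun h => h2 (by rw [h]; simp)), Finsupp.add_apply]
  omega

end Cfsg.Agent.S0706
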