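import Cfsg.Statements.S0949
import Cfsg.Agent.Lib.Blocks.AbelianFreeTwo

set_option autoImplicit false
open Cfsg CfsgLib.Blocks.AbelianFree

namespace Cfsg.Agent.S0949

/-- Let the finite group G have a Sylow 2-subgroup P isomorphic to Z/2^m × Z/2^m with m ≥ 2, and suppose G has no nontrivial normal subgroup of odd order. Then P is normal in G, C_G(P) = P, and the index of P is 1 or 3. -/
theorem result {G : Type*} [Group G] [Finite G] (P : Sylow 2 G) (m : ℕ) (hm : 2 ≤ m) (e : (P : Subgroup G) ≃* Multiplicative (ZMod (2 ^ m) × ZMod (2 ^ m))) (hO : ∀ N : Subgroup G, N.Normal → Odd (Nat.card N) → N = ⊥) : (P : Subgroup G).Normal ∧ Subgroup.centralizer (P : Set G) = (P : Subgroup G) ∧ ((P : Subgroup G).index = 1 ∨ (P : Subgroup G).index = 3) := by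
  classical
  haveI : NeZero (2 ^ m) := ⟨by positivity⟩
  set h : ZMod (2 ^ m) := ((2 ^ (m - 1) : ℕ) : ZMod (2 ^ m)) with hh
  have hlt : 2 ^ (m - 1) < 2 ^ m := Nat.pow_lt_pow_right (by norm_num) (by omega)
  have hh0 : h ≠ 0 := fun e0 => by
    rw [hh, ZMod.natCast_eq_zero_iff] at e0
    have := Nat.le_of_dvd (by positivity) e0
    omega
  have hdbl : ∀ a : ZMod (2 ^ m), a + a = 0 ↔ a = 0 ∨ a = h := by
    intro a
    constructor
    · intro ha
      have h1 : 2 ^ m ∣ a.val + a.val := by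
        rw [← ZMod.natCast_eq_zero_iff, Nat.cast_add, ZMod.natCast_zmod_val, ha]
      have h2 := ZMod.val_lt a
      have h3 : 2 ^ m = 2 * 2 ^ (m - 1) := by rw [← pow_succ', Nat.sub_add_cancel (by omega)]
      obtain ⟨c, hc⟩ := h1
      have hc2 : c < 2 := by nlinarith
      interval_cases c
      · left; rw [← ZMod.natCast_zmod_val a, show a.val = 0 by omega, Nat.cast_zero]
      · right; rw [hh, ← ZMod.natCast_zmod_val a, show a.val = 2 ^ (m - 1) by omega]
    · rintro (rfl | rfl)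
      · simp
      · rw [hh, ← Nat.cast_add, ZMod.natCast_eq_zero_iff, ← mul_two, ← pow_succ,
          Nat.sub_add_cancel (by omega)]
  have hcomm : ∀ x ∈ (P : Subgroup G), ∀ y ∈ (P : Subgroup G), x * y = y * x := fun x hx y hy =>
    congrArg Subtype.val (e.injective (show e (⟨x, hx⟩ * ⟨y, hy⟩) = e (⟨y, hy⟩ * ⟨x, hx⟩) by
      rw [map_mul, map_mul, mul_comm]))
  have hT : ThreeInv P := by
    refine ⟨hcomm, ?_⟩
    rw [Nat.card_congr (Equiv.subtypeEquiv
      (q := fun v : ZMod (2 ^ m) × ZMod (2 ^ m) =>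
        v ∈ ({(h, 0), (0, h), (h, h)} : Finset (ZMod (2 ^ m) × ZMod (2 ^ m))))
      (e.toEquiv.trans Multiplicative.toAdd) fun x => ?_)]
    · rw [Nat.card_eq_fintype_card, Fintype.card_coe]
      exact Finset.card_eq_three.2 ⟨_, _, _, fun q => hh0 (Prod.ext_iff.1 q).1,
        fun q => hh0 (Prod.ext_iff.1 q).2.symm, fun q => hh0 (Prod.ext_iff.1 q).1.symm, rfl⟩
    · rw [← map_eq_one_iff e e.injective, ne_eq, ← map_eq_one_iff e e.injective (x := x), map_mul]
      show (e x * e x = 1 ∧ ¬ e x = 1) ↔ Multiplicative.toAdd (e x) ∈ _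
      have key : ∀ v : Multiplicative (ZMod (2 ^ m) × ZMod (2 ^ m)),
          (v * v = 1 ∧ ¬ v = 1) ↔ Multiplicative.toAdd v ∈
            ({(h, 0), (0, h), (h, h)} : Finset (ZMod (2 ^ m) × ZMod (2 ^ m))) := by
        intro v
        obtain ⟨⟨a, b⟩, rfl⟩ := Multiplicative.ofAdd.surjective v
        rw [← ofAdd_add, ofAdd_eq_one, ofAdd_eq_one, toAdd_ofAdd, Prod.mk_add_mk]
        simp only [Prod.mk_eq_zero, hdbl, Finset.mem_insert, Finset.mem_singleton, Prod.mk.injEq]
        constructor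
        · rintro ⟨⟨rfl | rfl, rfl | rfl⟩, hne⟩ <;> simp_all
        · rintro (⟨rfl, rfl⟩ | ⟨rfl, rfl⟩ | ⟨rfl, rfl⟩) <;> simp [hh0]
      exact key (e x)
  have hcard : Nat.card P = 2 ^ m * 2 ^ m := by
    rw [Nat.card_congr (e.toEquiv.trans Multiplicative.toAdd), Nat.card_prod, Nat.card_zmod]
  have hbig : 4 < Nat.card P := by
    have h4 : 4 ≤ 2 ^ m := by
      calc 4 = 2 ^ 2 := by norm_num
        _ ≤ 2 ^ m := Nat.pow_le_pow_right (by norm_num) hm
    rw [hcard]
    nlinarith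
  refine brauer_rank_two hT hbig ⟨e.symm (Multiplicative.ofAdd (1, 0)), fun q => ?_⟩ hO
  rw [← map_mul, map_eq_one_iff e.symm e.symm.injective, ← ofAdd_add, ofAdd_eq_one, Prod.mk_add_mk,
    Prod.mk_eq_zero] at q
  have h11 : ((2 : ℕ) : ZMod (2 ^ m)) = 0 := by exact_mod_cast (one_add_one_eq_two (R := ZMod (2 ^ m))) ▸ q.1
  rw [ZMod.natCast_eq_zero_iff] at h11
  have := Nat.le_of_dvd (by norm_num) h11
  have : 4 ≤ 2 ^ m := by
    calc 4 = 2 ^ 2 := by norm_num
      _ ≤ 2 ^ m := Nat.pow_le_pow_right (by norm_num) hm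
  omega

end Cfsg.Agent.S0949
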