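import Cfsg.Statements.S1237
import Cfsg.Agent.Lib.SuzukiTwo.RankTwo
import Cfsg.Agent.Lib.SuzukiTwo.RankTwoAbelian
import Cfsg.Agent.Lib.SuzukiTwo.SixtyFourIso
import Cfsg.Agent.Lib.SuzukiTwo.UnitarySixty
-- import your own Cfsg.Agent.* helpers here

set_option autoImplicit false
open Cfsg

namespace Cfsg.Agent.S1237

/-- Let T be a finite 2-group of 2-rank exactly 2 (it has a Klein four-subgroup but no elementary abelian subgroup of order 8) admitting an automorphism φ such that any two involutions of T are carried to one another by a power of φ. Then T ≅ Z_{2^n} × Z_{2^n} for some n ≥ 1, or T is isomorphic to a Sylow 2-subgroup of PSU(3) over the field with 16 elements. -/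
theorem result {T : Type*} [Group T] [Finite T] (hT : IsPGroup 2 T) (h2 : Cfsg.PRankLE 2 2 T) (h1 : ¬ Cfsg.PRankLE 2 1 T) (φ : MulAut T) (htrans : ∀ s t : T, orderOf s = 2 → orderOf t = 2 → ∃ k : ℕ, (φ ^ k) s = t) {F : Type*} [Field F] [Fintype F] (hF : Fintype.card F = 16) (P : Sylow 2 (Cfsg.PSU 3 F 4)) : (∃ n : ℕ, 1 ≤ n ∧ Nonempty (T ≃* Multiplicative (ZMod (2 ^ n) × ZMod (2 ^ n)))) ∨ Nonempty (T ≃* (P : Subgroup (Cfsg.PSU 3 F 4))) := by
  classical
  haveI : Fact (Nat.Prime 2) := ⟨Nat.prime_two⟩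
  have hord : ∀ x : T, x ≠ 1 → x * x = 1 → orderOf x = 2 := fun x hx hxx =>
    orderOf_eq_prime (by rw [pow_two]; exact hxx) hx
  obtain ⟨A, hAc, hA2, hAcard⟩ : ∃ A : Subgroup T, IsMulCommutative A ∧ (∀ a ∈ A, a ^ 2 = 1) ∧ 2 < Nat.card A := by
    unfold Cfsg.PRankLE at h1
    push Not at h1
    obtain ⟨A, hA, hA2, hc⟩ := h1
    exact ⟨A, hA, hA2, by simpa using hc⟩
  have htwo : ∃ x y : T, x ≠ y ∧ x ≠ 1 ∧ x * x = 1 ∧ y ≠ 1 ∧ y * y = 1 := by
    by_contra hno
    push Not at hno
    have hinj : Function.Injective (fun a : A => decide ((a : T) = 1)) := by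
      intro a b hab
      have hab' : (a : T) = 1 ↔ (b : T) = 1 := by simpa using hab
      apply Subtype.ext
      by_cases ha : (a : T) = 1
      · rw [ha, hab'.mp ha]
      · by_contra hne
        exact hno a b hne ha (by rw [← pow_two]; exact hA2 a a.2) (fun hb => ha (hab'.mpr hb))
          (by rw [← pow_two]; exact hA2 b b.2)
    have := Nat.card_le_card_of_injective _ hinj
    simp at this
    omega
  have h : CfsgLib.SuzukiTwo.Hyp T φ := ⟨hT, fun x y hx1 hx hy1 hy => htrans x y (hord x hx1 hx) (hord y hy1 hy), htwo⟩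
  let Om : Subgroup T :=
    { carrier := {x | x * x = 1}
      one_mem' := one_mul 1
      mul_mem' := fun {x y} hx hy => by
        show x * y * (x * y) = 1
        rw [show x * y * (x * y) = x * (y * x) * y by group, h.comm hx y,
          show x * (x * y) * y = (x * x) * (y * y) by group, hx, hy, one_mul]
      inv_mem' := fun {x} hx => by
        show x⁻¹ * x⁻¹ = 1
        rw [← mul_inv_rev, hx, inv_one] }
  have hOm4 : Nat.card Om ≤ 4 := h2 Om ⟨⟨fun x y => Subtype.ext (h.comm y.2 x)⟩⟩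
    fun a ha => by rw [pow_two]; exact ha
  have hOm3 : 2 < Nat.card Om := hAcard.trans_le (Subgroup.card_le_of_le fun a ha => by
    show a * a = 1
    rw [← pow_two]; exact hA2 a ha)
  obtain ⟨m, hm⟩ := IsPGroup.iff_card.mp (hT.to_subgroup Om)
  have hfour : Nat.card {x : T // x * x = 1} = 4 := by
    show Nat.card Om = 4
    rw [hm] at hOm3 hOm4 ⊢
    rcases m with _ | _ | _ | m
    · simp at hOm3
    · simp at hOm3
    · rfl
    · exfalso
      have : 2 ^ 3 ≤ 2 ^ (m + 1 + 1 + 1) := Nat.pow_le_pow_right (by norm_num) (by omega)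
      omega
  by_cases hne : ∃ x y : T, x * y ≠ y * x
  · right
    exact (h.sixty (CfsgLib.SuzukiTwo.good T φ h hne) hne hfour).iso (CfsgLib.SuzukiTwo.sixty hF P)
  · push Not at hne
    exact Or.inl (h.homocyclic hne hfour)

end Cfsg.Agent.S1237
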