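import Cfsg.Statements.S1238
import Cfsg.Agent.Lib.RankTwoSylow.Main
import Cfsg.Agent.S1237

set_option autoImplicit false
open Cfsg

namespace Cfsg.Agent.S1238

/-- Let G be a finite group of 2-rank 2 (a Klein four-subgroup but no elementary abelian subgroup of order 8) which is fusion simple: G has no subgroup of index 2 and no isolated involution. Let S be a Sylow 2-subgroup. Then S is dihedral, quasi-dihedral, wreathed, isomorphic to Z_{2^n} × Z_{2^n} for some n ≥ 2, or isomorphic to a Sylow 2-subgroup of PSU(3) over the field with 16 elements. -/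
theorem result {G : Type*} [Group G] [Finite G] (h2 : Cfsg.PRankLE 2 2 G) (h1 : ¬ Cfsg.PRankLE 2 1 G) (hidx : ∀ H : Subgroup G, H.index ≠ 2) (hiso : ∀ z : G, ¬ Cfsg.IsIsolatedInvolution z) (S : Sylow 2 G) {F : Type*} [Field F] [Fintype F] (hF : Fintype.card F = 16) (P : Sylow 2 (Cfsg.PSU 3 F 4)) : (∃ m : ℕ, 2 ≤ m ∧ Nonempty ((S : Subgroup G) ≃* DihedralGroup m)) ∨ Cfsg.IsQuasiDihedral (S : Subgroup G) ∨ Cfsg.IsWreathed (S : Subgroup G) ∨ (∃ n : ℕ, 2 ≤ n ∧ Nonempty ((S : Subgroup G) ≃* Multiplicative (ZMod (2 ^ n) × ZMod (2 ^ n)))) ∨ Nonempty ((S : Subgroup G) ≃* (P : Subgroup (Cfsg.PSU 3 F 4))) := by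
  classical
  obtain ⟨hr, hr1, hshape | ⟨φ, hφ⟩⟩ := CfsgLib.RankTwoSylow.main h2 h1 hiso S
  · rcases hshape with hd | hq | hw
    exacts [Or.inl hd, Or.inr (Or.inl hq), Or.inr (Or.inr (Or.inl hw))]
  · rcases Cfsg.Agent.S1237.result S.2 hr hr1 φ hφ hF P with ⟨n, hn, ⟨e⟩⟩ | hP
    · rcases hn.eq_or_lt with rfl | hn2
      · have hK : IsKleinFour (Multiplicative (ZMod (2 ^ 1) × ZMod (2 ^ 1))) := by
          refine ⟨?_, ?_⟩
          · rw [Nat.card_congr Multiplicative.toAdd, Nat.card_prod, Nat.card_zmod]; norm_num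
          · refine ((Nat.dvd_prime Nat.prime_two).mp (Monoid.exponent_dvd_of_forall_pow_eq_one ?_)).resolve_left ?_
            · decide
            · intro h
              have := Monoid.exp_eq_one_iff.mp h
              exact absurd (Subsingleton.elim (Multiplicative.ofAdd ((1 : ZMod (2 ^ 1)), (0 : ZMod (2 ^ 1)))) 1) (by decide)
        haveI := hK
        obtain ⟨f⟩ := (IsKleinFour.nonempty_mulEquiv : Nonempty (Multiplicative (ZMod (2 ^ 1) × ZMod (2 ^ 1)) ≃* DihedralGroup 2))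
        exact Or.inl ⟨2, le_rfl, ⟨e.trans f⟩⟩
      · exact Or.inr (Or.inr (Or.inr (Or.inl ⟨n, hn2, ⟨e⟩⟩)))
    · exact Or.inr (Or.inr (Or.inr (Or.inr hP)))

end Cfsg.Agent.S1238
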