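import Cfsg.Statements.S0516
import Cfsg.Agent.S1238
import Cfsg.Agent.S0949
import Cfsg.Agent.S0225
import Cfsg.Agent.S0205
import Cfsg.Agent.Lib.ZStar.Main

set_option autoImplicit false
open Cfsg

namespace Cfsg.Agent.S0516

/-- In a non-abelian finite simple group of 2-rank at most 2, a Sylow 2-subgroup is dihedral (of order at least 4),
quasi-dihedral, wreathed, or isomorphic to a Sylow 2-subgroup of the projective special unitary group of dimension 3
over the field with 16 elements. -/
theorem result {G : Type*} [Group G] [Finite G] [IsSimpleGroup G]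
    (hG : ¬ IsMulCommutative G) (h2 : Cfsg.PRankLE 2 2 G) (S : Sylow 2 G) {F : Type*} [Field F] [Fintype F]
    (hF : Fintype.card F = 16) (P : Sylow 2 (Cfsg.PSU 3 F 4)) :
    (∃ n : ℕ, 2 ≤ n ∧ Nonempty ((S : Subgroup G) ≃* DihedralGroup n)) ∨ Cfsg.IsQuasiDihedral (S : Subgroup G) ∨
      Cfsg.IsWreathed (S : Subgroup G) ∨ Nonempty ((S : Subgroup G) ≃* (P : Subgroup (Cfsg.PSU 3 F 4))) := by
  classical
  -- the order is even
  have heven : Even (Nat.card G) := by
    rcases Nat.even_or_odd (Nat.card G) with h | h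
    · exact h
    · haveI := Cfsg.Agent.S0205.result h
      exact absurd ⟨⟨fun a b => IsSimpleGroup.comm_iff_isSolvable.mpr inferInstance a b⟩⟩ hG
  have hodd : ∀ N : Subgroup G, N.Normal → Odd (Nat.card N) → N = ⊥ := fun N hN hNo =>
    hN.eq_bot_or_eq_top.resolve_right fun e => by
      rw [e, Subgroup.card_top] at hNo
      exact Nat.not_odd_iff_even.mpr heven hNo
  have hcen : ∀ z : G, (∀ g : G, z * g = g * z) → z = 1 := by
    intro z hz
    by_contra hz1
    have hmem : z ∈ Subgroup.center G := Subgroup.mem_center_iff.mpr fun g => (hz g).symm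
    rcases (inferInstance : (Subgroup.center G).Normal).eq_bot_or_eq_top with e | e
    · exact hz1 (Subgroup.mem_bot.mp (e ▸ hmem))
    · exact hG ⟨⟨fun a b => (Subgroup.mem_center_iff.mp (e.symm.le (Subgroup.mem_top a)) b).symm⟩⟩
  have hZ : ∀ (z : G) (N : Subgroup G), N.Normal → Odd (Nat.card N) → (∀ g : G, z * g * z⁻¹ * g⁻¹ ∈ N) → z = 1 := by
    intro z N hN hNo hc
    refine hcen z fun g => ?_
    have e := hc g
    rw [hodd N hN hNo, Subgroup.mem_bot] at e
    exact mul_inv_eq_iff_eq_mul.mp (mul_inv_eq_one.mp e)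
  have h1 : ¬ Cfsg.PRankLE 2 1 G := by
    intro hr
    obtain ⟨z, hz, N, hN, hNo, hc⟩ := Cfsg.Agent.S0225.result heven fun E hE => by
      haveI := hE
      have := hr E IsKleinFour.isMulCommutative fun a ha => by
        have e := Monoid.pow_exponent_eq_one (⟨a, ha⟩ : E)
        rw [hE.exponent_two] at e
        exact congrArg Subtype.val e
      rw [hE.card_four] at this
      norm_num at this
    rw [hZ z N hN hNo hc, orderOf_one] at hz
    norm_num at hz
  have hidx : ∀ H : Subgroup G, H.index ≠ 2 := fun H hH => by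
    rcases (Subgroup.normal_of_index_eq_two hH).eq_bot_or_eq_top with e | e
    · rw [e, Subgroup.index_bot] at hH
      haveI : Fact (Nat.Prime 2) := ⟨Nat.prime_two⟩
      haveI := isCyclic_of_prime_card hH
      exact hG inferInstance
    · rw [e, Subgroup.index_top] at hH; omega
  have hiso : ∀ z : G, ¬ Cfsg.IsIsolatedInvolution z := fun z hz => by
    have := hZ z (Cfsg.pPrimeCore 2 G) inferInstance
      (Nat.coprime_two_right.1 (CfsgLib.card_pPrimeCore_coprime 2))
      (CfsgLib.ZStar.commutator_mem hz.1 hz.2)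
    have h2 := hz.1
    rw [this, orderOf_one] at h2
    norm_num at h2
  rcases Cfsg.Agent.S1238.result h2 h1 hidx hiso S hF P with h | h | h | ⟨n, hn, ⟨e⟩⟩ | h
  · exact Or.inl h
  · exact Or.inr (Or.inl h)
  · exact Or.inr (Or.inr (Or.inl h))
  · exfalso
    obtain ⟨hSn, -, -⟩ := Cfsg.Agent.S0949.result S n hn e hodd
    rcases hSn.eq_bot_or_eq_top with e' | e'
    · have hc := Nat.card_congr e.toEquiv
      rw [e', Subgroup.card_bot, Nat.card_congr Multiplicative.toAdd, Nat.card_prod, Nat.card_zmod] at hc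
      have := Nat.pow_le_pow_right (show 0 < 2 by norm_num) hn
      nlinarith
    · refine hG ⟨⟨fun a b => ?_⟩⟩
      have ha : a ∈ (S : Subgroup G) := e'.symm.le (Subgroup.mem_top a)
      have hb : b ∈ (S : Subgroup G) := e'.symm.le (Subgroup.mem_top b)
      have := e.injective (show e (⟨a, ha⟩ * ⟨b, hb⟩) = e (⟨b, hb⟩ * ⟨a, ha⟩) by rw [map_mul, map_mul, mul_comm])
      exact congrArg Subtype.val this
  · exact Or.inr (Or.inr (Or.inr h))

end Cfsg.Agent.S0516
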