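import Cfsg.Statements.S2793
import Cfsg.Agent.Lib.ZJFailure.Induction
import Cfsg.Agent.Lib.ZJFailure.Scalar

set_option autoImplicit false
open Cfsg

namespace Cfsg.Agent.S2793

/-- Let p be an odd prime, S a Sylow p-subgroup of the finite group G, J(S) the subgroup generated by the abelian subgroups of S of largest order, and suppose Z(J(S)) does not control strong fusion in G. Put H = N_G(Z(J(S))). Then the group F(p) of upper triangular 3 × 3 matrices (a b c; 0 a⁻¹ d; 0 0 1) over the field with p elements is involved in H, and Z(J(S)) contains a subgroup C of order p with |N_H(C) : C_H(C)| = p − 1. -/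
theorem result {G : Type*} [Group G] [Finite G] {p : ℕ} [Fact p.Prime] (hp : p ≠ 2) (S : Sylow p G) (h : ¬ Cfsg.ControlsStrongFusion p (Cfsg.centerThompsonAOf (S : Subgroup G))) (H : Subgroup G) (hH : H = Subgroup.normalizer ((Cfsg.centerThompsonAOf (S : Subgroup G)) : Set G)) : Cfsg.Involves ↥(Cfsg.fOver (ZMod p)) ↥H ∧ ∃ C : Subgroup G, C ≤ (Cfsg.centerThompsonAOf (S : Subgroup G)) ∧ Nat.card C = p ∧ (H ⊓ Subgroup.centralizer (C : Set G)).relIndex (H ⊓ Subgroup.normalizer (C : Set G)) = p - 1 := by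
  set B := Cfsg.centerThompsonAOf (S : Subgroup G) with hB
  have hBzj : CfsgLib.ZJ.zj 0 (S : Subgroup G) = B := CfsgLib.ZJ.zj_zero _
  have hBS : B ≤ (S : Subgroup G) := hBzj ▸ CfsgLib.ZJ.zj_le 0 _
  have hSB : (S : Subgroup G) ≤ Subgroup.normalizer (B : Set G) :=
    hBzj ▸ CfsgLib.ZJFailure.le_normalizer_zj 0 _
  have hD : CfsgLib.ZJFailure.Data p (S : Subgroup G) B := by
    rcases CfsgLib.ZJFailure.ctl_or_data hp S B hBzj.ge hSB (by rw [hBzj]) with hc | hd
    · refine absurd ⟨S, hBS, fun A hA => ⟨hA, fun g hg => ?_⟩⟩ h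
      obtain ⟨x, hx, hxe⟩ := hc (Subgroup.closure A) ((Subgroup.closure_le _).2 hA) g (by
        rw [CfsgLib.StrongFusion.cm, MonoidHom.map_closure]
        refine (Subgroup.closure_le _).2 ?_
        rintro _ ⟨a, ha, rfl⟩
        exact hg ⟨a, ha, rfl⟩)
      exact ⟨x, hx, fun a ha => (hxe a (Subgroup.subset_closure ha)).symm⟩
    · exact hd
  refine ⟨hH ▸ hD.involves hSB, ?_⟩
  obtain ⟨P, n, -, -, hnB, hnc, -, A₁, A₂, k, hlt, hA, hk, h2, hsc⟩ := hD
  obtain ⟨c, hcB, hc, hnck⟩ := CfsgLib.ZJFailure.exists_eigen (S.2.to_le hBS)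
    (fun x hx y hy => CfsgLib.ZJ.zj_comm (hBzj.ge hx) (hBzj.ge hy)) hnB hnc hlt (hA.trans inf_le_left) hk h2 hsc
  exact ⟨Subgroup.zpowers c, Subgroup.zpowers_le.2 hcB, by rw [Nat.card_zpowers, hc],
    CfsgLib.ZJFailure.relIndex_automizer (hH ▸ hnB) hc hk hnck⟩

end Cfsg.Agent.S2793
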