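import Cfsg.Statements.S0054
import Cfsg.Agent.Lib.Elementary

set_option autoImplicit false
open Cfsg

namespace Cfsg.Agent.S0054

/-- A regular normal subgroup of a finite 2-transitive group is elementary abelian: it is commutative and all its elements have order dividing one prime. -/
theorem result {G : Type*} [Group G] [Finite G]
    {X : Type*} [Nonempty X] [MulAction G X] (h2 : MulAction.IsMultiplyPretransitive G X 2)
    (N : Subgroup G) [N.Normal] (htrans : MulAction.IsPretransitive N X) (hreg : ∀ x : X, MulAction.stabilizer N x = ⊥) :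
    IsMulCommutative N ∧ ∃ p : ℕ, p.Prime ∧ ∀ n ∈ N, n ^ p = 1 := by
  classical
  obtain ⟨x₀⟩ := ‹Nonempty X›
  have hcent : ∀ n : G, n ∈ N → n ≠ 1 → n • x₀ ≠ x₀ := fun n hn hn1 h => by
    have h2 : (⟨n, hn⟩ : N) ∈ MulAction.stabilizer N x₀ := h
    rw [hreg x₀, Subgroup.mem_bot] at h2
    exact hn1 (congrArg Subtype.val h2)
  -- G acts transitively on N \ {1} by conjugation
  have hconj : ∀ m n : G, m ∈ N → n ∈ N → m ≠ 1 → n ≠ 1 → ∃ g : G, g * m * g⁻¹ = n := by
    intro m n hm hn hm1 hn1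
    obtain ⟨g, hg1, hg2⟩ := MulAction.is_two_pretransitive_iff.1 h2
      (hcent m hm hm1).symm (hcent n hn hn1).symm
    refine ⟨g, ?_⟩
    have hmem : g * m * g⁻¹ ∈ N := (inferInstance : N.Normal).conj_mem m hm g
    have he : (g * m * g⁻¹) • x₀ = n • x₀ := by
      have hgi : g⁻¹ • x₀ = x₀ := inv_smul_eq_iff.2 hg1.symm
      rw [mul_smul, mul_smul, hgi, hg2]
    by_contra hne
    refine hcent (n⁻¹ * (g * m * g⁻¹)) (mul_mem (inv_mem hn) hmem) (fun e => hne (inv_mul_eq_one.1 e).symm) ?_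
    rw [mul_smul, he, inv_smul_smul]
  by_cases hN1 : N = ⊥
  · subst hN1
    exact ⟨inferInstance, 2, Nat.prime_two, fun n hn => by rw [Subgroup.mem_bot.1 hn, one_pow]⟩
  obtain ⟨p, hp, hd⟩ := Nat.exists_prime_and_dvd (fun h => hN1 (Subgroup.eq_bot_of_card_eq N h))
  have := Fact.mk hp
  obtain ⟨⟨a, ha⟩, hao⟩ := exists_prime_orderOf_dvd_card' p hd
  rw [Subgroup.orderOf_mk] at hao
  have ha1 : a ≠ 1 := fun e => by rw [e, orderOf_one] at hao; exact hp.one_lt.ne hao
  have hall : ∀ n ∈ N, n ^ p = 1 := by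
    intro n hn
    by_cases hn1 : n = 1
    · rw [hn1, one_pow]
    obtain ⟨g, rfl⟩ := hconj a n ha hn ha1 hn1
    rw [conj_pow, ← hao, pow_orderOf_eq_one, mul_one, mul_inv_cancel]
  have hNp : IsPGroup p N := fun x => ⟨1, Subtype.ext (by simpa using hall x x.2)⟩
  refine ⟨?_, p, hp, hall⟩
  have : Nontrivial N := (Subgroup.nontrivial_iff_ne_bot N).2 hN1
  obtain ⟨⟨⟨z, hz⟩, hzc⟩, hz1⟩ := @exists_ne (Subgroup.center N) hNp.center_nontrivial 1
  have hz1' : z ≠ 1 := fun e => hz1 (Subtype.ext (Subtype.ext e))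
  refine ⟨⟨fun u v => Subtype.ext ?_⟩⟩
  by_cases hu : (u : G) = 1
  · simp [hu]
  obtain ⟨g, hg⟩ := hconj z u hz u.2 hz1' hu
  have hvc : g⁻¹ * v * g ∈ N := by
    simpa using (inferInstance : N.Normal).conj_mem v v.2 g⁻¹
  have := congrArg Subtype.val (Subgroup.mem_center_iff.1 hzc ⟨_, hvc⟩)
  simp only [Subgroup.coe_mul] at this ⊢
  rw [← hg]
  calc g * z * g⁻¹ * v = g * (z * (g⁻¹ * v * g)) * g⁻¹ := by group
    _ = g * ((g⁻¹ * v * g) * z) * g⁻¹ := by rw [this]
    _ = v * (g * z * g⁻¹) := by group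

end Cfsg.Agent.S0054
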