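import Cfsg.Statements.S0700
import Mathlib
import Cfsg.Agent.Lib.Perm.NormalTrans
import Cfsg.Agent.Lib.Frobenius.More
import Cfsg.Agent.Lib.Elementary
-- import your own Cfsg.Agent.* helpers here

set_option autoImplicit false
open Cfsg

namespace Cfsg.Agent.S0700

open scoped Pointwise
universe u v

/-- Translates of a block of a normal subgroup are blocks. -/
private theorem smul_block {G : Type u} [Group G] {X : Type v} [MulAction G X] (N : Subgroup G) [N.Normal] {B : Set X}
    (hB : MulAction.IsBlock N B) (g : G) : MulAction.IsBlock N (g • B) := by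
  rw [MulAction.isBlock_iff_smul_eq_or_disjoint] at hB ⊢
  intro n
  have h := hB ⟨g⁻¹ * n * g, by simpa using (inferInstance : N.Normal).conj_mem n n.2 g⁻¹⟩
  have e : n • g • B = g • ((⟨g⁻¹ * n * g, by simpa using (inferInstance : N.Normal).conj_mem n n.2 g⁻¹⟩ : N) • B) := by
    show (n : G) • g • B = g • ((g⁻¹ * (n : G) * g) • B)
    rw [← mul_smul, ← mul_smul, mul_assoc g⁻¹, mul_inv_cancel_left]
  rw [e]
  rcases h with h | h
  · left; rw [h]
  · right; exact Set.disjoint_smul_set.mpr h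

/-- A nonregular transitive normal subgroup of a 2-transitive group is primitive or has trivial two-point stabilisers. -/
private theorem primitive_or_sharp {G : Type u} [Group G] {X : Type v} [MulAction G X] [Finite X] (N : Subgroup G) [N.Normal]
    (h2 : ∀ a b c d : X, a ≠ b → c ≠ d → ∃ g : G, g • a = c ∧ g • b = d) [MulAction.IsPretransitive N X] :
    MulAction.IsPreprimitive N X ∨ ∀ (n : N) (x y : X), x ≠ y → n • x = x → n • y = y → ∀ z : X, n • z = z := by
  classical
  by_contra hcon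
  push Not at hcon
  obtain ⟨hnp, n, x₁, x₂, hx12, hn1, hn2, z₀, hz₀⟩ := hcon
  -- a nontrivial block
  obtain ⟨B, hB, hBns, hBu⟩ : ∃ B : Set X, MulAction.IsBlock N B ∧ ¬ B.Subsingleton ∧ B ≠ Set.univ := by
    by_contra h
    push Not at h
    exact hnp { isTrivialBlock_of_isBlock := fun {B} hB => or_iff_not_imp_left.mpr fun hs => h B hB (Set.not_subsingleton_iff.mp hs) }
  let L : X → X → Set X := fun a b => ⋂ (C : {C : Set X // MulAction.IsBlock N C ∧ a ∈ C ∧ b ∈ C}), C.1
  have hLblock : ∀ a b, MulAction.IsBlock N (L a b) := fun a b => MulAction.IsBlock.iInter fun C => C.2.1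
  have hLmem : ∀ a b, a ∈ L a b ∧ b ∈ L a b := fun a b =>
    ⟨Set.mem_iInter.mpr fun C => C.2.2.1, Set.mem_iInter.mpr fun C => C.2.2.2⟩
  have hLmin : ∀ a b C, MulAction.IsBlock N C → a ∈ C → b ∈ C → L a b ⊆ C := fun a b C hC ha hb =>
    Set.iInter_subset (fun C : {C : Set X // MulAction.IsBlock N C ∧ a ∈ C ∧ b ∈ C} => C.1) ⟨C, hC, ha, hb⟩
  have hLg : ∀ (g : G) a b, g • L a b = L (g • a) (g • b) := by
    have key : ∀ (g : G) a b, L (g • a) (g • b) ⊆ g • L a b := fun g a b =>
      hLmin _ _ _ (smul_block N (hLblock a b) g) (Set.smul_mem_smul_set (hLmem a b).1) (Set.smul_mem_smul_set (hLmem a b).2)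
    intro g a b
    refine Set.Subset.antisymm ?_ (key g a b)
    rw [Set.smul_set_subset_iff_subset_inv_smul_set]
    refine le_trans (le_of_eq ?_) (key g⁻¹ (g • a) (g • b))
    rw [inv_smul_smul, inv_smul_smul]
  have hLeq : ∀ a b c d, c ≠ d → c ∈ L a b → d ∈ L a b → a ≠ b → L c d = L a b := by
    intro a b c d hcd hc hd hab
    refine Set.eq_of_subset_of_ncard_le (hLmin c d _ (hLblock a b) hc hd) ?_ (Set.toFinite _)
    obtain ⟨g, hg1, hg2⟩ := h2 a b c d hab hcd
    rw [← hg1, ← hg2, ← hLg, Set.ncard_smul_set]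
  have hLne : ∀ a b, a ≠ b → L a b ≠ Set.univ := by
    intro a b hab h
    obtain ⟨c, hc, d, hd, hcd⟩ := Set.not_subsingleton_iff.mp hBns
    obtain ⟨g, hg1, hg2⟩ := h2 a b c d hab hcd
    refine hBu (Set.univ_subset_iff.mp ?_)
    calc (Set.univ : Set X) = g • L a b := by rw [h, Set.smul_set_univ]
      _ = L c d := by rw [hLg, hg1, hg2]
      _ ⊆ B := hLmin c d B hB hc hd
  -- an element fixing `x` maps every line through `x` to itself
  have hline : ∀ x y, x ≠ y → n • x = x → n • y ∈ L x y := by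
    intro x y hxy hnx
    have := hLblock x y
    rw [MulAction.isBlock_iff_smul_eq_of_mem] at this
    have e := this (g := n) (hLmem x y).1 (by rw [hnx]; exact (hLmem x y).1)
    rw [← e]; exact Set.smul_mem_smul_set (hLmem x y).2
  have hoff : ∀ p q, p ≠ q → n • p = p → n • q = q → ∀ y, y ∉ L p q → n • y = y := by
    intro p q hpq hp hq y hy
    by_contra hne
    have hyp : p ≠ y := fun e => hy (e ▸ (hLmem p q).1)
    have hyq : q ≠ y := fun e => hy (e ▸ (hLmem p q).2)
    have e1 := hLeq p y y (n • y) (Ne.symm hne) (hLmem p y).2 (hline p y hyp hp) hyp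
    have e2 := hLeq q y y (n • y) (Ne.symm hne) (hLmem q y).2 (hline q y hyq hq) hyq
    have hp' : p ∈ L q y := e2 ▸ e1.symm ▸ (hLmem p y).1
    have e3 := hLeq q y p q hpq hp' (hLmem q y).1 hyq
    exact hy (e3 ▸ (hLmem q y).2)
  obtain ⟨y₀, hy₀⟩ := (Set.ne_univ_iff_exists_notMem _).mp (hLne x₁ x₂ hx12)
  have hny := hoff x₁ x₂ hx12 hn1 hn2 y₀ hy₀
  have h1y : x₁ ≠ y₀ := fun e => hy₀ (e ▸ (hLmem x₁ x₂).1)
  by_cases hz1 : z₀ = x₁
  · exact hz₀ (hz1 ▸ hn1)
  refine hz₀ (if h : z₀ ∈ L x₁ x₂ then ?_ else hoff x₁ x₂ hx12 hn1 hn2 z₀ h)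
  refine hoff x₁ y₀ h1y hn1 hny z₀ fun h' => ?_
  have e1 := hLeq x₁ x₂ x₁ z₀ (Ne.symm hz1) (hLmem x₁ x₂).1 h hx12
  have e2 := hLeq x₁ y₀ x₁ z₀ (Ne.symm hz1) (hLmem x₁ y₀).1 h' h1y
  exact hy₀ (e1 ▸ e2.symm ▸ (hLmem x₁ y₀).2)

/-- Elements of two commuting transitive subgroups are semiregular. -/
private theorem semiregular {G : Type u} [Group G] {X : Type v} [MulAction G X] [FaithfulSMul G X] {B : Subgroup G}
    (hB : ∀ x y : X, ∃ b ∈ B, b • x = y) {m : G} (hc : ∀ b ∈ B, m * b = b * m) {a : X} (ha : m • a = a) : m = 1 := by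
  refine eq_of_smul_eq_smul (α := X) fun z => ?_
  obtain ⟨b, hb, rfl⟩ := hB a z
  rw [one_smul, ← mul_smul, hc b hb, mul_smul, ha]

/-- Burnside's Theorem on doubly transitive groups: a minimal normal subgroup of a finite doubly transitive permutation group is elementary abelian and regular, or simple and primitive. -/
theorem result {α : Type*} [Fintype α] [DecidableEq α] (G : Subgroup (Equiv.Perm α)) (hG : MulAction.IsMultiplyPretransitive G α 2) (N : Subgroup G) [N.Normal] (hN : N ≠ ⊥) (hmin : ∀ M : Subgroup G, M.Normal → M ≤ N → M = ⊥ ∨ M = N) : (IsMulCommutative N ∧ (∃ p : ℕ, p.Prime ∧ ∀ n ∈ N, n ^ p = 1) ∧ ∀ a : α, MulAction.stabilizer N a = ⊥) ∨ (IsSimpleGroup N ∧ MulAction.IsPreprimitive N α) := by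
  classical
  haveI := hG
  have hprim : MulAction.IsPreprimitive G α := MulAction.isPreprimitive_of_is_two_pretransitive hG
  haveI htr : MulAction.IsPretransitive N α := CfsgLib.PermNormal.pretransitive_of_normal hprim N hN
  have h2 : ∀ a b c d : α, a ≠ b → c ≠ d → ∃ g : G, g • a = c ∧ g • b = d := fun a b c d hab hcd =>
    MulAction.is_two_pretransitive_iff.mp hG hab hcd
  by_cases hreg : ∀ a : α, MulAction.stabilizer N a = ⊥
  · left
    obtain ⟨n₀, hn₀, hn₀1⟩ := (Subgroup.bot_or_exists_ne_one N).resolve_left hN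
    obtain ⟨a⟩ : Nonempty α := by
      by_contra h
      exact hn₀1 (Subtype.ext (Equiv.ext fun x => (h ⟨x⟩).elim))
    have hinj := CfsgLib.PermRegular.smul_injective N hreg a
    have hconj : ∀ n m : N, n ≠ 1 → m ≠ 1 → orderOf n = orderOf m := by
      intro n m hn hm
      have hne : ∀ k : N, k ≠ 1 → a ≠ k • a := fun k hk e => hk (hinj (by simpa using e.symm))
      obtain ⟨g, hg1, hg2⟩ := h2 a (n • a) a (m • a) (hne n hn) (hne m hm)
      have := CfsgLib.PermRegular.smul_eq_conj N hg1 n.2 m.2 hreg hg2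
      rw [← Subgroup.orderOf_coe n, ← Subgroup.orderOf_coe m, ← this]
      exact (orderOf_injective (MulAut.conj g).toMonoidHom (MulAut.conj g).injective n).symm
    haveI : Nontrivial N := (Subgroup.nontrivial_iff_ne_bot N).mpr hN
    set p := (Nat.card N).minFac with hp
    have hp' : p.Prime := Nat.minFac_prime Finite.one_lt_card.ne'
    haveI := Fact.mk hp'
    obtain ⟨x, hx⟩ := exists_prime_orderOf_dvd_card' (G := N) p (Nat.minFac_dvd _)
    have hx1 : x ≠ 1 := fun e => by rw [e, orderOf_one] at hx; exact hp'.ne_one hx.symm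
    have hexp : ∀ n : N, n ^ p = 1 := fun n => by
      by_cases hn : n = 1
      · rw [hn, one_pow]
      · rw [← hx, ← hconj n x hn hx1, pow_orderOf_eq_one]
    have hpg : IsPGroup p N := fun n => ⟨1, by rw [pow_one]; exact hexp n⟩
    have hZ := hpg.center_nontrivial
    have hZN : (Subgroup.center N).map N.subtype = N := by
      refine (hmin _ inferInstance (Subgroup.map_subtype_le _)).resolve_left fun e => ?_
      rw [Subgroup.map_eq_bot_iff_of_injective _ N.subtype_injective] at e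
      exact (Subgroup.nontrivial_iff_ne_bot _).mp hZ e
    refine ⟨⟨⟨fun u v => ?_⟩⟩, ⟨p, hp', fun n hn => congrArg Subtype.val (hexp ⟨n, hn⟩)⟩, hreg⟩
    have hu : u ∈ Subgroup.center N := by
      obtain ⟨w, hw, e⟩ := (hZN.symm ▸ u.2 : (u : G) ∈ (Subgroup.center N).map N.subtype)
      exact Subtype.ext e ▸ hw
    exact (Subgroup.mem_center_iff.mp hu v).symm
  right
  push Not at hreg
  obtain ⟨a, ha⟩ := hreg
  haveI : FaithfulSMul N α := ⟨fun {g g'} h => Subtype.ext (eq_of_smul_eq_smul (α := α) h)⟩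
  have hNprim : MulAction.IsPreprimitive N α := by
    rcases primitive_or_sharp N h2 with h | hsharp
    · exact h
    exfalso
    set H := MulAction.stabilizer N a with hH
    have hF : Cfsg.IsFrobeniusComplement H := by
      refine ⟨ha, fun e => ?_, fun g hg => (Subgroup.eq_bot_iff_forall _).mpr fun x hx => ?_⟩
      · have : ∀ y : α, y = a := fun y => by
          obtain ⟨n, hn⟩ := MulAction.exists_smul_eq N a y
          rw [← hn]; exact (e ▸ Subgroup.mem_top n : n ∈ H)
        exact ha ((Subgroup.eq_bot_iff_forall _).mpr fun n _ => Subtype.ext (Subtype.ext (Equiv.ext fun y => (this _).trans (this y).symm)))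
      · obtain ⟨hxa, hxg⟩ := Subgroup.mem_inf.mp hx
        obtain ⟨h', hh', rfl⟩ := hxg
        refine eq_of_smul_eq_smul (α := α) fun z => ?_
        rw [one_smul]
        refine hsharp _ a (g • a) (Ne.symm hg) hxa ?_ z
        show ((MulAut.conj g) h') • g • a = g • a
        rw [MulAut.conj_apply, mul_smul, mul_smul, inv_smul_smul, show h' • a = a from hh']
    obtain ⟨K, hK, hKn, hKc⟩ := CfsgLib.Frob.exists_kernel hF
    haveI := hKn
    haveI := CfsgLib.Frob.kernel_characteristic hF hKc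
    rcases hmin (K.map N.subtype) inferInstance (Subgroup.map_subtype_le _) with e | e
    · rw [Subgroup.map_eq_bot_iff_of_injective _ N.subtype_injective] at e
      exact CfsgLib.Frob.kernel_ne_bot hF hKc e
    · have hKtop : K = ⊤ := by
        refine eq_top_iff.mpr fun x _ => ?_
        obtain ⟨y, hy, e'⟩ := (e.symm ▸ x.2 : (x : G) ∈ K.map N.subtype)
        exact Subtype.ext e' ▸ hy
      exact ha (Subgroup.isComplement'_top_left.mp (hKtop ▸ hKc))
  refine ⟨?_, hNprim⟩
  haveI : Nontrivial N := (Subgroup.nontrivial_iff_ne_bot N).mpr hN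
  refine ⟨fun M₀ hM₀ => ?_⟩
  by_contra hcon
  push Not at hcon
  obtain ⟨M₁, hM₁n, hM₁le, hM₁0, hM₁min⟩ := CfsgLib.exists_minimal_normal (N := M₀) hcon.1
  set M := M₁.map N.subtype with hMdef
  have hMN : M ≤ N := Subgroup.map_subtype_le _
  have hMne : M ≠ N := fun e => hcon.2 (eq_top_iff.mpr fun x _ => by
    obtain ⟨y, hy, e'⟩ := (show (x : G) ∈ M from e.symm ▸ x.2 : (x : G) ∈ M₁.map N.subtype)
    exact hM₁le (Subtype.ext e' ▸ hy))
  have hM0 : M ≠ ⊥ := fun e => hM₁0 ((Subgroup.map_eq_bot_iff_of_injective _ N.subtype_injective).mp e)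
  -- properties shared by all conjugates of `M`
  have hmem : ∀ (g x : G), x ∈ M.map (MulAut.conj g).toMonoidHom ↔ g⁻¹ * x * g ∈ M := fun g x => by
    rw [Subgroup.mem_map_equiv, MulAut.conj_symm_apply]
  have hnorm : ∀ (g : G), ∀ n ∈ N, ∀ x ∈ M.map (MulAut.conj g).toMonoidHom, n * x * n⁻¹ ∈ M.map (MulAut.conj g).toMonoidHom := by
    intro g n hn x hx
    rw [hmem] at hx ⊢
    obtain ⟨y, hy, e⟩ := hx
    refine ⟨⟨g⁻¹ * n * g, by simpa using (inferInstance : N.Normal).conj_mem n hn g⁻¹⟩ * y * ⟨g⁻¹ * n * g, by simpa using (inferInstance : N.Normal).conj_mem n hn g⁻¹⟩⁻¹, hM₁n.conj_mem y hy _, ?_⟩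
    show (g⁻¹ * n * g) * (y : G) * (g⁻¹ * n * g)⁻¹ = _
    rw [show (y : G) = g⁻¹ * x * g from e]; group
  have hleN : ∀ g : G, M.map (MulAut.conj g).toMonoidHom ≤ N := by
    intro g x hx
    rw [hmem] at hx
    have := (inferInstance : N.Normal).conj_mem _ (hMN hx) g
    rwa [show g * (g⁻¹ * x * g) * g⁻¹ = x by group] at this
  have hM1 : M.map (MulAut.conj (1 : G)).toMonoidHom = M := by ext x; rw [hmem]; simp
  have hnormM : ∀ n ∈ N, ∀ x ∈ M, n * x * n⁻¹ ∈ M := fun n hn x hx => by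
    have := hnorm 1 n hn x (by rw [hM1]; exact hx)
    rwa [hM1] at this
  have hcard : ∀ g : G, Nat.card (M.map (MulAut.conj g).toMonoidHom) = Nat.card M := fun g =>
    Subgroup.card_map_of_injective (MulAut.conj g).injective
  have htrans : ∀ g : G, ∀ x y : α, ∃ m ∈ M.map (MulAut.conj g).toMonoidHom, m • x = y := by
    intro g x y
    set L := (M.map (MulAut.conj g).toMonoidHom).subgroupOf N with hL
    haveI : L.Normal := ⟨fun z hz n => hnorm g n n.2 z hz⟩
    have hL0 : L ≠ ⊥ := fun e => by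
      rw [Subgroup.subgroupOf_eq_bot, disjoint_iff, inf_eq_left.mpr (hleN g)] at e
      have := hcard g
      rw [e, Subgroup.card_bot] at this
      exact hM0 (Subgroup.eq_bot_of_card_eq _ this.symm)
    haveI := CfsgLib.PermNormal.pretransitive_of_normal hNprim L hL0
    obtain ⟨m, hm⟩ := MulAction.exists_smul_eq L x y
    exact ⟨((m : N) : G), m.2, hm⟩
  have hdich : ∀ g : G, M.map (MulAut.conj g).toMonoidHom = M ∨ M ⊓ M.map (MulAut.conj g).toMonoidHom = ⊥ := by
    intro g
    have hn : ((M ⊓ M.map (MulAut.conj g).toMonoidHom).subgroupOf N).Normal := ⟨fun z hz n =>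
      Subgroup.mem_inf.mpr ⟨hnormM n n.2 _ (Subgroup.mem_inf.mp hz).1, hnorm g n n.2 _ (Subgroup.mem_inf.mp hz).2⟩⟩
    have hle : (M ⊓ M.map (MulAut.conj g).toMonoidHom).subgroupOf N ≤ M₁ := by
      intro z hz
      obtain ⟨y, hy, e⟩ := (Subgroup.mem_inf.mp hz).1
      exact Subtype.ext e ▸ hy
    rcases hM₁min _ hn hle with h | h
    · right
      rw [Subgroup.subgroupOf_eq_bot, disjoint_iff, inf_eq_left.mpr (inf_le_left.trans hMN)] at h
      exact h
    · left
      have hMle : M ≤ M.map (MulAut.conj g).toMonoidHom := by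
        rintro _ ⟨y, hy, rfl⟩
        exact (Subgroup.mem_inf.mp (h.symm ▸ hy : y ∈ (M ⊓ M.map (MulAut.conj g).toMonoidHom).subgroupOf N)).2
      exact (Subgroup.eq_of_le_of_card_ge hMle (hcard g).le).symm
  have hcomm : ∀ g : G, M ⊓ M.map (MulAut.conj g).toMonoidHom = ⊥ → ∀ x ∈ M, ∀ y ∈ M.map (MulAut.conj g).toMonoidHom, x * y = y * x := by
    intro g hd x hx y hy
    have h1 : x * y * x⁻¹ * y⁻¹ ∈ M := by
      have := hnormM y (hleN g hy) x⁻¹ (inv_mem hx)
      have := mul_mem hx this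
      simpa [mul_assoc] using this
    have h2' : x * y * x⁻¹ * y⁻¹ ∈ M.map (MulAut.conj g).toMonoidHom := mul_mem (hnorm g x (hMN hx) y hy) (inv_mem hy)
    have := Subgroup.mem_bot.mp (hd ▸ Subgroup.mem_inf.mpr ⟨h1, h2'⟩)
    calc x * y = (x * y * x⁻¹ * y⁻¹) * (y * x) := by group
      _ = y * x := by rw [this, one_mul]
  obtain ⟨g₁, hg₁⟩ : ∃ g : G, M ⊓ M.map (MulAut.conj g).toMonoidHom = ⊥ := by
    by_contra h
    push Not at h
    have hn : M.Normal := ⟨fun x hx g => by
      rw [← (hdich g).resolve_right (h g)]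
      exact Subgroup.mem_map_of_mem _ hx⟩
    exact (hmin M hn hMN).elim hM0 hMne
  have hreg1 : ∀ m ∈ M, ∀ x : α, m • x = x → m = 1 := fun m hm x hx =>
    semiregular (htrans g₁) (fun b hb => hcomm g₁ hg₁ m hm b hb) hx
  -- elements of the two groups sending `a` to the same point have equal orders
  have hord : ∀ g : G, ∀ m ∈ M, ∀ m' ∈ M.map (MulAut.conj g).toMonoidHom, m • a = m' • a → orderOf m' = orderOf m := by
    intro g m hm m' hm' e
    rcases hdich g with h | h
    · rw [h] at hm'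
      have : m⁻¹ * m' = 1 := hreg1 _ (mul_mem (inv_mem hm) hm') a (by rw [mul_smul, ← e, inv_smul_smul])
      rw [inv_mul_eq_one.mp this]
    · have hc : ∀ i : ℕ, m' ^ i • a = m ^ i • a := fun i => by
        induction i with
        | zero => simp
        | succ i ih =>
          rw [pow_succ', mul_smul, ih, ← mul_smul, ← hcomm g h _ (pow_mem hm i) _ hm', mul_smul, ← e, ← mul_smul, ← pow_succ]
      have hreg' : ∀ i, m' ^ i • a = a → m' ^ i = 1 := fun i hi =>
        semiregular (fun x y => by simpa [hM1] using htrans 1 x y) (fun b hb => (hcomm g h b hb _ (pow_mem hm' i)).symm) hi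
      refine Nat.dvd_antisymm ?_ ?_
      · exact orderOf_dvd_of_pow_eq_one (hreg' _ (by rw [hc, pow_orderOf_eq_one, one_smul]))
      · exact orderOf_dvd_of_pow_eq_one (hreg1 _ (pow_mem hm _) a (by rw [← hc, pow_orderOf_eq_one, one_smul]))
  haveI : Nontrivial M := (Subgroup.nontrivial_iff_ne_bot M).mpr hM0
  have hordM : ∀ m m' : M, m ≠ 1 → m' ≠ 1 → orderOf m = orderOf m' := by
    intro m m' hm hm'
    have hne : ∀ k : M, k ≠ 1 → a ≠ (k : G) • a := fun k hk e => hk (Subtype.ext (hreg1 k k.2 a e.symm))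
    obtain ⟨g, hg1, hg2⟩ := h2 a ((m : G) • a) a ((m' : G) • a) (hne m hm) (hne m' hm')
    have hga : g⁻¹ • a = a := inv_smul_eq_iff.mpr hg1.symm
    have := hord g m' m'.2 (g * m * g⁻¹) (by rw [hmem]; simpa [mul_assoc] using m.2) (by rw [mul_smul, mul_smul, hga, hg2])
    rw [← Subgroup.orderOf_coe m, ← Subgroup.orderOf_coe m', ← this]
    exact (orderOf_injective (MulAut.conj g).toMonoidHom (MulAut.conj g).injective m).symm
  set p := (Nat.card M).minFac with hp
  have hp' : p.Prime := Nat.minFac_prime Finite.one_lt_card.ne'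
  haveI := Fact.mk hp'
  obtain ⟨x₀, hx₀⟩ := exists_prime_orderOf_dvd_card' (G := M) p (Nat.minFac_dvd _)
  have hx₀1 : x₀ ≠ 1 := fun e => by rw [e, orderOf_one] at hx₀; exact hp'.ne_one hx₀.symm
  have hpg : IsPGroup p M := fun m => ⟨1, by
    rw [pow_one]
    by_cases hm : m = 1
    · rw [hm, one_pow]
    · rw [← hx₀, ← hordM m x₀ hm hx₀1, pow_orderOf_eq_one]⟩
  -- `M` is abelian
  have hMc : ∀ x ∈ M, ∀ y ∈ M, x * y = y * x := by
    set Z := ((Subgroup.center M).map M.subtype) with hZ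
    have hZle : Z ≤ M := Subgroup.map_subtype_le _
    have hn : (Z.subgroupOf N).Normal := ⟨fun z hz n => by
      obtain ⟨w, hw, e⟩ := hz
      have e' : (w : G) = (z : G) := e
      refine ⟨⟨(n : G) * w * (n : G)⁻¹, hnormM n n.2 w w.2⟩, Subgroup.mem_center_iff.mpr fun u => Subtype.ext ?_, ?_⟩
      · have hu : (n : G)⁻¹ * u * ((n : G)⁻¹)⁻¹ ∈ M := hnormM _ (inv_mem n.2) u u.2
        have := congrArg Subtype.val (Subgroup.mem_center_iff.mp hw ⟨_, hu⟩)
        simp only [Subgroup.coe_mul, inv_inv] at this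
        show (u : G) * ((n : G) * w * (n : G)⁻¹) = (n : G) * w * (n : G)⁻¹ * u
        calc (u : G) * ((n : G) * w * (n : G)⁻¹) = (n : G) * ((n : G)⁻¹ * u * n * w) * (n : G)⁻¹ := by group
          _ = (n : G) * (w * ((n : G)⁻¹ * u * n)) * (n : G)⁻¹ := by rw [this]
          _ = _ := by group
      · show (n : G) * w * (n : G)⁻¹ = _
        rw [e']; rfl⟩
    have hle : Z.subgroupOf N ≤ M₁ := fun z hz => by
      obtain ⟨y, hy, e⟩ := hZle hz
      exact Subtype.ext e ▸ hy
    rcases hM₁min _ hn hle with h | h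
    · exfalso
      rw [Subgroup.subgroupOf_eq_bot, disjoint_iff, inf_eq_left.mpr (hZle.trans hMN), hZ, Subgroup.map_eq_bot_iff_of_injective _ M.subtype_injective] at h
      exact (Subgroup.nontrivial_iff_ne_bot _).mp hpg.center_nontrivial h
    · intro x hx y hy
      obtain ⟨z, hz, e⟩ := hx
      obtain ⟨w, hw, e'⟩ := (h.symm ▸ hz : z ∈ Z.subgroupOf N)
      exact (congrArg Subtype.val (Subgroup.mem_center_iff.mp hw ⟨y, hy⟩)).symm.trans (by rfl) |> fun h' => by
        rw [← e, show (N.subtype z : G) = (w : G) from e'.symm]; exact h'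
  -- the conjugate lies in `M`
  have hsub : M.map (MulAut.conj g₁).toMonoidHom ≤ M := by
    intro m' hm'
    obtain ⟨m, hm, e⟩ := htrans 1 a (m' • a)
    rw [hM1] at hm
    have : m⁻¹ * m' = 1 := semiregular (fun x y => by simpa [hM1] using htrans 1 x y) (fun b hb => by
      calc m⁻¹ * m' * b = m⁻¹ * (b * m') := by rw [mul_assoc, ← hcomm g₁ hg₁ b hb m' hm']
        _ = (m⁻¹ * b) * m' := by group
        _ = (b * m⁻¹) * m' := by rw [hMc _ (inv_mem hm) b hb]
        _ = b * (m⁻¹ * m') := by group) (a := a) (by rw [mul_smul, ← e, inv_smul_smul])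
    rw [← inv_mul_eq_one.mp this]; exact hm
  have := hcard g₁
  rw [inf_eq_right.mpr hsub] at hg₁
  rw [hg₁, Subgroup.card_bot] at this
  exact hM0 (Subgroup.eq_bot_of_card_eq _ this.symm)

end Cfsg.Agent.S0700
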