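import Cfsg.Statements.S2208
import Cfsg.Agent.Lib.RankOnePoint.EvenDegree
import Cfsg.Agent.Lib.RankOnePoint.OddGold
import Cfsg.Agent.Lib.RankOnePoint.FactsModel
import Cfsg.Agent.Lib.RankOnePoint.HOne
import Cfsg.Agent.Lib.RankOnePoint.OneFixed
import Cfsg.Agent.S0252

set_option autoImplicit false
open Cfsg

namespace Cfsg.Agent.S2208

/-- Let a finite group G act faithfully and 2-transitively on a finite set Ω, and suppose the stabilizer of a point has a normal subgroup N isomorphic to PSL₂(q), to a Suzuki group Sz(q), or to PSU₃(q), with q = 2^n ≥ 4. Then either Ω has 6 points, G is isomorphic to A₆ or S₆ and N ≅ PSL₂(4); or Ω has 11 points, G ≅ PSL₂(11) and N ≅ PSL₂(4); or G has a normal subgroup acting regularly on Ω. -/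
theorem result {G Ω : Type*} [Group G] [Finite G] [Fintype Ω] [MulAction G Ω] [FaithfulSMul G Ω] (h2 : MulAction.IsMultiplyPretransitive G Ω 2) (a : Ω) (N : Subgroup G) (hNle : N ≤ MulAction.stabilizer G a) (hNnormal : ∀ g ∈ MulAction.stabilizer G a, ∀ n ∈ N, g * n * g⁻¹ ∈ N)
    (hN : ∃ (F : Type) (_ : Field F) (_ : Fintype F) (m : ℕ), Fintype.card F = 2 ^ m ∧ 2 ≤ m ∧
      (Nonempty (↥N ≃* Matrix.ProjectiveSpecialLinearGroup (Fin 2) F) ∨ (Odd m ∧ Nonempty (↥N ≃* ↥(Cfsg.Lie.Sz F (2 ^ ((m + 1) / 2))))) ∨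
       (∃ (K : Type) (_ : Field K) (_ : Fintype K), Fintype.card K = (2 ^ m) ^ 2 ∧ Nonempty (↥N ≃* Cfsg.PSU 3 K (2 ^ m))))) :
    (Fintype.card Ω = 6 ∧ (Nonempty (G ≃* ↥(alternatingGroup (Fin 6))) ∨ Nonempty (G ≃* Equiv.Perm (Fin 6))) ∧ ∃ (F : Type) (_ : Field F) (_ : Fintype F), Fintype.card F = 4 ∧ Nonempty (↥N ≃* Matrix.ProjectiveSpecialLinearGroup (Fin 2) F)) ∨
    (Fintype.card Ω = 11 ∧ (∃ (F : Type) (_ : Field F) (_ : Fintype F), Fintype.card F = 11 ∧ Nonempty (G ≃* Matrix.ProjectiveSpecialLinearGroup (Fin 2) F)) ∧ ∃ (F : Type) (_ : Field F) (_ : Fintype F), Fintype.card F = 4 ∧ Nonempty (↥N ≃* Matrix.ProjectiveSpecialLinearGroup (Fin 2) F)) ∨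
    (∃ R : Subgroup G, R.Normal ∧ (∀ x y : Ω, ∃ r ∈ R, r • x = y) ∧ ∀ x : Ω, ∀ r ∈ R, r • x = x → r = 1) := by
  classical
  have hfam : CfsgLib.RankOnePoint.Fam ↥N := hN
  have h := CfsgLib.RankOnePoint.pt_of_fam h2 hNle hNnormal hfam
  obtain ⟨m, p, e, hF⟩ := hfam.toFacts
  haveI := hF.simple
  have h1 := h.h1 hF
  have hpsl : p = 4 → ∃ (F : Type) (_ : Field F) (_ : Fintype F), Fintype.card F = 4 ∧
      Nonempty (↥N ≃* Matrix.ProjectiveSpecialLinearGroup (Fin 2) F) := by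
    intro hp
    haveI : Fact (Nat.Prime 2) := ⟨Nat.prime_two⟩
    haveI : Fintype (GaloisField 2 2) := Fintype.ofFinite _
    have hc : Fintype.card (GaloisField 2 2) = 4 := by
      rw [← Nat.card_eq_fintype_card, GaloisField.card 2 2 two_ne_zero]; rfl
    obtain ⟨f⟩ := hF.alt_five hp
    obtain ⟨g⟩ := Cfsg.Agent.S0252.result (F := GaloisField 2 2) hc
    exact ⟨GaloisField 2 2, inferInstance, inferInstance, hc, ⟨f.trans g.symm⟩⟩
  rw [← Nat.card_eq_fintype_card]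
  rcases Nat.even_or_odd (Nat.card Ω) with hn | hn
  · have hev : ¬ CfsgLib.RankOnePoint.Ev a N := fun hev => Nat.not_even_iff_odd.mpr (h.ev_odd hev) hn
    rcases h.even_degree hF h1 hev hn with ⟨h6, hG, hp⟩ | hR
    · exact Or.inl ⟨h6, hG, hpsl hp⟩
    · exact Or.inr (Or.inr hR)
  · obtain ⟨x, hx, hxi, c, hxc, hca⟩ := CfsgLib.RankOnePoint.exists_fix_two h
    have hxm := h.mem_cls hx hxi
    have hf : ∀ z ∈ CfsgLib.RankOnePoint.cls N, 2 ≤ CfsgLib.RankOnePoint.numF Ω z := fun z hz => by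
      rw [h.numF_eq hz hxm]
      show 2 ≤ Nat.card {d : Ω // x • d = d}
      haveI : Nontrivial {d : Ω // x • d = d} :=
        ⟨⟨⟨c, hxc⟩, ⟨a, h.fix hx⟩, fun e1 => hca (congrArg Subtype.val e1)⟩⟩
      exact Finite.one_lt_card
    rcases h.odd_degree hF h1 hn hf with ⟨h11, hG, hp⟩ | hR
    · exact Or.inr (Or.inl ⟨h11, hG, hpsl hp⟩)
    · exact Or.inr (Or.inr hR)

end Cfsg.Agent.S2208
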