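import Cfsg.Statements.S3836
import Mathlib
import Cfsg.Agent.Lib.Basic
-- import your own Cfsg.Agent.* helpers here

set_option autoImplicit false
open Cfsg

namespace Cfsg.Agent.S3836

/-- Let G be a finite group that is p-stable in the normalizer form: for every p-subgroup Q and every x ∈ N_G(Q) with [Q, x, x] = 1, the image of x in N_G(Q)/C_G(Q) lies in O_p(N_G(Q)/C_G(Q)). Then every subgroup of G is p-stable in the same sense. -/
theorem result {G : Type*} [Group G] [Finite G] {p : ℕ} [Fact p.Prime] (hst : Cfsg.IsNormalizerPStable p G) (H : Subgroup G) : Cfsg.IsNormalizerPStable p ↥H := by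
  classical
  intro Q hQ g hg hquad
  set Q' : Subgroup G := Q.map H.subtype with hQ'
  have hinj := H.subtype_injective
  have hmem : ∀ h : H, h ∈ Subgroup.normalizer (Q : Set H) ↔ (h : G) ∈ Subgroup.normalizer (Q' : Set G) := by
    intro h
    rw [Subgroup.mem_normalizer_iff, Subgroup.mem_normalizer_iff]
    constructor
    · intro hh w
      constructor
      · rintro ⟨v, hv, rfl⟩
        exact ⟨_, (hh v).mp hv, rfl⟩
      · rintro ⟨v, hv, hve⟩
        refine ⟨h⁻¹ * v * h, (hh _).mpr (by simpa [mul_assoc] using hv), ?_⟩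
        rw [map_mul, map_mul, hve, map_inv]
        simp [mul_assoc]
    · intro hh v
      constructor
      · intro hv
        obtain ⟨w, hw, hwe⟩ := (hh v).mp ⟨v, hv, rfl⟩
        have e : w = h * v * h⁻¹ := Subtype.ext hwe
        exact e ▸ hw
      · intro hv
        obtain ⟨w, hw, hwe⟩ := (hh v).mpr ⟨_, hv, rfl⟩
        exact (Subtype.ext hwe : w = v) ▸ hw
  let NH := Subgroup.normalizer (Q : Set H)
  let NG := Subgroup.normalizer (Q' : Set G)
  let ι : NH →* NG := (H.subtype.comp NH.subtype).codRestrict NG (fun h => (hmem h).mp h.2)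
  let CH := (Subgroup.centralizer (Q : Set H)).subgroupOf NH
  let CG := (Subgroup.centralizer (Q' : Set G)).subgroupOf NG
  have hc : ∀ h : NH, h ∈ CH ↔ ι h ∈ CG := by
    intro h
    rw [Subgroup.mem_subgroupOf, Subgroup.mem_subgroupOf, Subgroup.mem_centralizer_iff, Subgroup.mem_centralizer_iff]
    constructor
    · rintro hh _ ⟨v, hv, rfl⟩
      exact congrArg Subtype.val (hh v hv)
    · intro hh v hv
      exact Subtype.ext (hh _ ⟨v, hv, rfl⟩)
  let ψ : NH ⧸ CH →* NG ⧸ CG := QuotientGroup.map CH CG ι (fun h hh => (hc h).mp hh)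
  have hψ : Function.Injective ψ := by
    rw [injective_iff_map_eq_one]
    intro q hq
    obtain ⟨h, rfl⟩ := QuotientGroup.mk_surjective q
    have hq : ((ι h : NG) : NG ⧸ CG) = 1 := hq
    rw [QuotientGroup.eq_one_iff] at hq
    rw [QuotientGroup.eq_one_iff]
    exact (hc h).mpr hq
  have h1 := hst Q' (hQ.map _) g ((hmem g).mp hg) (by
    have e : Subgroup.zpowers (g : G) = (Subgroup.zpowers g).map H.subtype := (MonoidHom.map_zpowers H.subtype g).symm
    rw [e, hQ', ← Subgroup.map_commutator, ← Subgroup.map_commutator, hquad, Subgroup.map_bot])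
  have hpc : IsPGroup p ((Cfsg.pCore p (NG ⧸ CG)).comap ψ) :=
    (CfsgLib.isPGroup_pCore (G := NG ⧸ CG) p).comap_of_injective ψ hψ
  exact CfsgLib.le_pCore hpc (show ψ (QuotientGroup.mk ⟨g, hg⟩) ∈ Cfsg.pCore p (NG ⧸ CG) from h1)

end Cfsg.Agent.S3836
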