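import Cfsg.Statements.S0749
import Mathlib

set_option autoImplicit false
open Cfsg

namespace Cfsg.Agent.S0749

theorem move {F V : Type*} [Field F] [AddCommGroup V] [Module F V] [FiniteDimensional F V]
    (B : LinearMap.BilinForm F V) (hB : B.Nondegenerate) (hA : B.IsAlt) (X : Submodule F V)
    {x y : V} (hx : x ∉ X) (hy : y ∉ X) (hxy : ∀ z ∈ X, B z x = B z y) :
    ∃ g : V ≃ₗ[F] V, (∀ u v : V, B (g u) (g v) = B u v) ∧ (∀ z ∈ X, g z = z) ∧ g x = y := by
  have step : ∀ x y : V, (∀ z ∈ X, B z x = B z y) → B x y ≠ 0 →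
      ∃ g : V ≃ₗ[F] V, (∀ u v : V, B (g u) (g v) = B u v) ∧ (∀ z ∈ X, g z = z) ∧ g x = y := by
    intro x y hxy hne
    set d := y - x with hd
    set c := (B x y)⁻¹ with hc
    let f : V →ₗ[F] V := LinearMap.id - c • (B d).smulRight d
    have hf : ∀ u, f u = u - (c * B d u) • d := fun u => by simp [f, mul_smul]
    let f' : V →ₗ[F] V := LinearMap.id + c • (B d).smulRight d
    have hf' : ∀ u, f' u = u + (c * B d u) • d := fun u => by simp [f', mul_smul]
    refine ⟨LinearEquiv.ofLinearMap f f' ?_ ?_, fun u v => ?_, fun z hz => ?_, ?_⟩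
    · ext u; simp [hf, hf', hA d]
    · ext u; simp [hf, hf', hA d]
    · show B (f u) (f v) = B u v
      simp only [hf, map_sub, map_smul, LinearMap.sub_apply, LinearMap.smul_apply, smul_eq_mul,
        hA d, ← LinearMap.IsAlt.neg hA d u]
      ring
    · show f z = z
      have : B d z = 0 := hA.isRefl _ _ (by rw [hd, map_sub, hxy z hz, sub_self])
      simp [hf, this]
    · show f x = y
      have : B d x = -(B x y) := by rw [hd, map_sub, LinearMap.sub_apply, hA x, sub_zero, LinearMap.IsAlt.neg hA]
      rw [hf, this, hc, mul_neg, inv_mul_cancel₀ hne, neg_smul, one_smul, hd]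
      abel
  by_cases hne : B x y ≠ 0
  · exact step x y hxy hne
  push Not at hne
  have hh : ∀ w : V, w ∉ X → ∃ p ∈ B.orthogonal X, B w p ≠ 0 := by
    intro w hw
    by_contra h
    push Not at h
    apply hw
    rw [← LinearMap.BilinForm.orthogonal_orthogonal hB hA.isRefl X]
    exact fun p hp => hA.isRefl _ _ (h p hp)
  obtain ⟨p, hp, hp1, hp2⟩ : ∃ p ∈ B.orthogonal X, B x p ≠ 0 ∧ B y p ≠ 0 := by
    obtain ⟨p, hp, h1⟩ := hh x hx
    obtain ⟨q, hq, h2⟩ := hh y hy
    by_cases h3 : B y p = 0
    · by_cases h4 : B x q = 0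
      · exact ⟨p + q, add_mem hp hq, by simp [h1, h4], by simp [h2, h3]⟩
      · exact ⟨q, hq, h4, h2⟩
    · exact ⟨p, hp, h1, h3⟩
  have hzp : ∀ z ∈ X, B z p = 0 := hp
  obtain ⟨g₁, h₁, h₁X, h₁x⟩ := step x (x + p) (fun z hz => by simp [hzp z hz])
    (by simp [hA x, hp1])
  obtain ⟨g₂, h₂, h₂X, h₂x⟩ := step (x + p) y (fun z hz => by simp [hzp z hz, hxy z hz])
    (by rw [map_add, LinearMap.add_apply, hne, zero_add, ← LinearMap.IsAlt.neg hA y p]; exact neg_ne_zero.mpr hp2)
  exact ⟨g₁.trans g₂, fun u v => by simp [h₁, h₂], fun z hz => by simp [h₁X z hz, h₂X z hz],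
    by simp [h₁x, h₂x]⟩

theorem aux {F V : Type*} [Field F] [AddCommGroup V] [Module F V] [FiniteDimensional F V]
    (B : LinearMap.BilinForm F V) (hB : B.Nondegenerate) (hA : B.IsAlt) :
    ∀ (n : ℕ) (X : Submodule F V) (φ : X →ₗ[F] V), Module.finrank F X = n → Function.Injective φ →
      (∀ x x' : X, B (φ x) (φ x') = B (x : V) (x' : V)) →
      ∃ g : V ≃ₗ[F] V, (∀ u v : V, B (g u) (g v) = B u v) ∧ ∀ x : X, g (x : V) = φ x := by
  intro n
  induction n with
  | zero =>
    intro X φ hn _ _
    refine ⟨LinearEquiv.refl F V, fun _ _ => rfl, fun x => ?_⟩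
    have : X = ⊥ := Submodule.finrank_eq_zero.mp hn
    have hx : x = 0 := Subtype.ext ((Submodule.mem_bot F).mp (this ▸ x.2))
    simp [hx]
  | succ n ih =>
    intro X φ hn hinj hφ
    let b := Module.finBasisOfFinrankEq F X hn
    set x₀ : X := b 0
    let X' : Submodule F V := (Submodule.span F (Set.range fun i : Fin n => b i.succ)).map X.subtype
    have hle : X' ≤ X := Submodule.map_subtype_le _ _
    have hX' : Module.finrank F X' = n := by
      rw [Submodule.finrank_map_subtype_eq, finrank_span_eq_card (b := fun i : Fin n => b i.succ)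
        (b.linearIndependent.comp _ (Fin.succ_injective _)), Fintype.card_fin]
    have hx0 : (x₀ : V) ∉ X' := by
      intro h
      obtain ⟨w, hw, hwe⟩ := Submodule.mem_map.mp h
      have : w = x₀ := Subtype.ext hwe
      subst this
      rw [show (Set.range fun i : Fin n => b i.succ) = b '' Set.range Fin.succ by
        rw [← Set.range_comp]; rfl] at hw
      exact b.linearIndependent.notMem_span_image (by simp [Fin.succ_ne_zero]) hw
    obtain ⟨g, hg, hgX⟩ := ih X' (φ.comp (Submodule.inclusion hle)) hX'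
      (hinj.comp (Submodule.inclusion_injective hle)) (fun a c => hφ _ _)
    set y := g.symm (φ x₀)
    have hy : y ∉ X' := fun h => by
      have h1 := hgX ⟨y, h⟩
      simp only [y, LinearEquiv.apply_symm_apply, LinearMap.comp_apply] at h1
      have h2 := hinj h1
      exact hx0 ((congrArg Subtype.val h2) ▸ h)
    obtain ⟨t, ht, htX, htx⟩ := move B hB hA X' hx0 hy fun z hz => by
      have h1 := hgX ⟨z, hz⟩
      simp only [LinearMap.comp_apply] at h1
      have hgy : g y = φ x₀ := g.apply_symm_apply _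
      rw [← hg z y, h1, hgy, hφ]
      rfl
    refine ⟨t.trans g, fun u v => by simp [hg, ht], ?_⟩
    have : ((t.trans g : V ≃ₗ[F] V) : V →ₗ[F] V).comp X.subtype = φ := by
      refine b.ext fun i => ?_
      refine Fin.cases ?_ (fun i => ?_) i
      · simp [htx, y, x₀]
      · have hm : (b i.succ : V) ∈ X' :=
          Submodule.mem_map_of_mem (Submodule.subset_span ⟨i, rfl⟩)
        have h1 := hgX ⟨_, hm⟩
        simp only [LinearMap.comp_apply] at h1
        simp only [LinearMap.comp_apply, LinearEquiv.coe_coe, LinearEquiv.trans_apply,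
          Submodule.subtype_apply, htX _ hm, h1]
        rfl
    exact fun x => LinearMap.congr_fun this x


/-- Witt's Lemma for alternating forms. If B is a non-degenerate alternating bilinear form on a finite-dimensional vector space V (over any field) and φ is a linear equivalence between subspaces X and Y of V preserving B, then φ extends to a B-preserving linear automorphism of V. -/
theorem result {F V : Type*} [Field F] [AddCommGroup V] [Module F V] [FiniteDimensional F V] (B : LinearMap.BilinForm F V) (hB : B.Nondegenerate) (hA : B.IsAlt) (X Y : Submodule F V) (φ : X ≃ₗ[F] Y) (hφ : ∀ x x' : X, B (φ x : V) (φ x' : V) = B (x : V) (x' : V)) : ∃ g : V ≃ₗ[F] V, (∀ u v : V, B (g u) (g v) = B u v) ∧ ∀ x : X, g (x : V) = (φ x : V) := by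
  obtain ⟨g, hg, hgX⟩ := aux B hB hA _ X (Y.subtype.comp φ.toLinearMap) rfl
    (Subtype.val_injective.comp φ.injective) hφ
  exact ⟨g, hg, hgX⟩

end Cfsg.Agent.S0749
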