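import Cfsg.Statements.S0684
import Mathlib
-- import your own Cfsg.Agent.* helpers here

set_option autoImplicit false
open Cfsg

namespace Cfsg.Agent.S0684

/-- A commutative group acting faithfully on a minimal invariant subspace and semiregularly on it is cyclic. -/
theorem cyclicOfMinimal {p : ℕ} [Fact p.Prime] {V : Type*} [AddCommGroup V] [Module (ZMod p) V] [Finite V]
    {A : Type*} [Group A] (hcomm : ∀ a b : A, a * b = b * a) (ρ : A →* (V ≃ₗ[ZMod p] V))
    (hfree : ∀ a v, v ≠ 0 → ρ a v = v → a = 1)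
    (W : Submodule (ZMod p) V) (hW : W ≠ ⊥) (hinv : ∀ a, ∀ v ∈ W, ρ a v ∈ W)
    (hmin : ∀ W' : Submodule (ZMod p) V, W' ≤ W → (∀ a, ∀ v ∈ W', ρ a v ∈ W') → W' = ⊥ ∨ W' = W) :
    IsCyclic A ∧ Nat.card A ∣ p ^ Module.finrank (ZMod p) W - 1 := by
  classical
  let ψ : A →* Module.End (ZMod p) W :=
    { toFun := fun a => (ρ a).toLinearMap.restrict (hinv a)
      map_one' := by ext x; simp
      map_mul' := fun a b => by ext x; simp }
  have hψ : ∀ a (x : W), ((ψ a x : W) : V) = ρ a x := fun a x => rfl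
  let S := Algebra.adjoin (ZMod p) (Set.range ψ)
  have hc : ∀ f ∈ Set.range ψ, ∀ g ∈ Set.range ψ, f * g = g * f := by
    rintro _ ⟨a, rfl⟩ _ ⟨b, rfl⟩
    rw [← map_mul, hcomm, map_mul]
  letI : CommRing S := Algebra.adjoinCommRingOfComm (ZMod p) hc
  have hcent : ∀ (r : S) (a : A), ψ a * (r : Module.End (ZMod p) W) = (r : Module.End (ZMod p) W) * ψ a := fun r a =>
    congrArg Subtype.val (mul_comm (⟨ψ a, Algebra.subset_adjoin ⟨a, rfl⟩⟩ : S) r)
  -- invariant subspaces of `W`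
  have hbot : ∀ U : Submodule (ZMod p) W, (∀ a, ∀ x ∈ U, ψ a x ∈ U) → U = ⊥ ∨ U = ⊤ := fun U hU => by
    have hU' : ∀ a, ∀ v ∈ U.map W.subtype, ρ a v ∈ U.map W.subtype := by
      rintro a _ ⟨x, hx, rfl⟩
      exact ⟨ψ a x, hU a x hx, rfl⟩
    rcases hmin _ (Submodule.map_subtype_le W U) hU' with h | h
    · left; exact Submodule.map_injective_of_injective W.injective_subtype (by rw [h, Submodule.map_bot])
    · right; exact Submodule.map_injective_of_injective W.injective_subtype (by rw [h, Submodule.map_subtype_top])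
  obtain ⟨v₀, hv₀W, hv₀⟩ := Submodule.exists_mem_ne_zero_of_ne_bot hW
  let w₀ : W := ⟨v₀, hv₀W⟩
  have hw₀ : w₀ ≠ 0 := fun e => hv₀ (congrArg Subtype.val e)
  have hinjS : ∀ r : S, r ≠ 0 → Function.Injective (r : Module.End (ZMod p) W) := fun r hr => by
    rcases hbot (LinearMap.ker (r : Module.End (ZMod p) W)) (fun a x hx => by
      rw [LinearMap.mem_ker] at hx ⊢
      have := LinearMap.congr_fun (hcent r a) x
      simp only [Module.End.mul_apply, hx, map_zero] at this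
      exact this.symm) with h | h
    · exact LinearMap.ker_eq_bot.1 h
    · exact absurd (Subtype.ext (LinearMap.ker_eq_top.1 h)) hr
  haveI : Nontrivial W := ⟨⟨w₀, 0, hw₀⟩⟩
  haveI : Nontrivial S := ⟨⟨1, 0, fun e => one_ne_zero (α := Module.End (ZMod p) W) (congrArg Subtype.val e)⟩⟩
  haveI : NoZeroDivisors S := ⟨fun {r s} h => by
    by_contra hh
    push Not at hh
    have h2 := LinearMap.congr_fun (congrArg Subtype.val h) w₀
    have h3 : (s : Module.End (ZMod p) W) w₀ = 0 :=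
      hinjS r hh.1 (a₁ := (s : Module.End (ZMod p) W) w₀) (a₂ := 0) (by rw [map_zero]; simpa using h2)
    exact hw₀ (hinjS s hh.2 (h3.trans (map_zero _).symm))⟩
  haveI : IsDomain S := NoZeroDivisors.to_isDomain S
  let ev : S →ₗ[ZMod p] W :=
    { toFun := fun r => (r : Module.End (ZMod p) W) w₀
      map_add' := fun _ _ => rfl
      map_smul' := fun _ _ => rfl }
  have hev : Function.Bijective ev := by
    refine ⟨(injective_iff_map_eq_zero ev).2 fun r hr => ?_, LinearMap.range_eq_top.1 ?_⟩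
    · by_contra h0
      exact hw₀ (hinjS r h0 (hr.trans (map_zero _).symm))
    · rcases hbot (LinearMap.range ev) (fun a x hx => by
        obtain ⟨r, rfl⟩ := hx
        exact ⟨⟨ψ a, Algebra.subset_adjoin ⟨a, rfl⟩⟩ * r, rfl⟩) with h | h
      · exact absurd ((Submodule.mem_bot _).1 (h ▸ LinearMap.mem_range_self ev 1)) hw₀
      · exact h
  haveI : Finite S := Finite.of_injective ev hev.1
  let f : A →* S := ψ.codRestrict S fun a => Algebra.subset_adjoin ⟨a, rfl⟩
  have hf : Function.Injective f := (injective_iff_map_eq_one f).2 fun a ha =>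
    hfree a v₀ hv₀ (congrArg (fun q : Module.End (ZMod p) W => ((q w₀ : W) : V)) (congrArg Subtype.val ha))
  haveI : Finite A := Finite.of_injective f hf
  refine ⟨isCyclic_of_subgroup_isDomain f hf, ?_⟩
  letI : Field S := (Finite.isField_of_domain S).toField
  have h := Subgroup.card_dvd_of_injective f.toHomUnits fun a b e => hf (congrArg Units.val e)
  rwa [Nat.card_units, Nat.card_congr (Equiv.ofBijective ev hev), Module.natCard_eq_pow_finrank (K := ZMod p) (V := W),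
    Nat.card_zmod] at h

/-- A nonzero invariant subspace contains a minimal one. -/
theorem existsMinimal {p : ℕ} [Fact p.Prime] {V : Type*} [AddCommGroup V] [Module (ZMod p) V] [Finite V]
    {A : Type*} (f : A → V → V) (W₀ : Submodule (ZMod p) V) (h₀ : W₀ ≠ ⊥) (hinv : ∀ a, ∀ v ∈ W₀, f a v ∈ W₀) :
    ∃ W, W ≤ W₀ ∧ W ≠ ⊥ ∧ (∀ a, ∀ v ∈ W, f a v ∈ W) ∧
      ∀ W' : Submodule (ZMod p) V, W' ≤ W → (∀ a, ∀ v ∈ W', f a v ∈ W') → W' = ⊥ ∨ W' = W := by
  obtain ⟨W, ⟨hle, hne, hi⟩, hm⟩ := WellFounded.has_min wellFounded_lt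
    {W : Submodule (ZMod p) V | W ≤ W₀ ∧ W ≠ ⊥ ∧ ∀ a, ∀ v ∈ W, f a v ∈ W} ⟨W₀, le_rfl, h₀, hinv⟩
  refine ⟨W, hle, hne, hi, fun W' hW' hi' => ?_⟩
  by_contra hh
  push Not at hh
  exact hm W' ⟨hW'.trans hle, hh.1, hi'⟩ (lt_of_le_of_ne hW' hh.2)

/-- Point stabiliser of a sharply doubly transitive group not of semilinear type: a maximal normal abelian subgroup `A` of a linear group `H` that is regular on non-zero vectors and has no irreducible cyclic normal subgroup is cyclic and reducible, and the order of `A` divides `p ^ k - 1` for `k` the dimension of a minimal `A`-invariant subspace. -/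
theorem result {p : ℕ} [Fact p.Prime] {V : Type*} [AddCommGroup V] [Module (ZMod p) V] [Finite V] (H : Subgroup (V ≃ₗ[ZMod p] V)) (hreg : ∀ v w : V, v ≠ 0 → w ≠ 0 → ∃! h : H, (h : V ≃ₗ[ZMod p] V) v = w) (hI : ∀ A : Subgroup H, A.Normal → IsCyclic A → ∃ W : Submodule (ZMod p) V, W ≠ ⊥ ∧ W ≠ ⊤ ∧ ∀ a ∈ A, ∀ v ∈ W, ((a : H) : V ≃ₗ[ZMod p] V) v ∈ W) (A : Subgroup H) (hAn : A.Normal) (hAc : IsMulCommutative A) (hAmax : ∀ B : Subgroup H, B.Normal → IsMulCommutative B → A ≤ B → B = A) : IsCyclic A ∧ ∃ W : Submodule (ZMod p) V, W ≠ ⊥ ∧ W ≠ ⊤ ∧ (∀ a ∈ A, ∀ v ∈ W, ((a : H) : V ≃ₗ[ZMod p] V) v ∈ W) ∧ (∀ W' : Submodule (ZMod p) V, W' ≤ W → (∀ a ∈ A, ∀ v ∈ W', ((a : H) : V ≃ₗ[ZMod p] V) v ∈ W') → W' = ⊥ ∨ W' = W) ∧ Nat.card A ∣ p ^ Module.finrank (ZMod p) W - 1 := by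
  classical
  let ρ : A →* (V ≃ₗ[ZMod p] V) := H.subtype.comp A.subtype
  have hfree : ∀ (a : A) v, v ≠ 0 → ρ a v = v → a = 1 := fun a v hv e =>
    Subtype.ext ((hreg v v hv hv).unique e (by simp))
  have hcomm : ∀ a b : A, a * b = b * a := fun a b => hAc.is_comm.comm a b
  haveI : Nontrivial V := by
    by_contra hn
    rw [not_nontrivial_iff_subsingleton] at hn
    obtain ⟨W, hW, -, -⟩ := hI ⊥ inferInstance inferInstance
    exact hW (Subsingleton.elim _ _)
  obtain ⟨W₁, -, hW₁, hi₁, hm₁⟩ := existsMinimal (p := p) (fun (a : A) v => ρ a v) ⊤ top_ne_bot (fun _ _ _ => trivial)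
  have hcyc : IsCyclic A := (cyclicOfMinimal hcomm ρ hfree W₁ hW₁ hi₁ hm₁).1
  obtain ⟨W₀, hW₀, hW₀', hW₀i⟩ := hI A hAn hcyc
  obtain ⟨W, hle, hW, hi, hm⟩ := existsMinimal (p := p) (fun (a : A) v => ρ a v) W₀ hW₀ (fun a v hv => hW₀i a a.2 v hv)
  exact ⟨hcyc, W, hW, fun e => hW₀' (top_le_iff.1 (e ▸ hle)), fun a ha v hv => hi ⟨a, ha⟩ v hv,
    fun W' h1 h2 => hm W' h1 (fun a v hv => h2 a a.2 v hv), (cyclicOfMinimal hcomm ρ hfree W hW hi hm).2⟩

end Cfsg.Agent.S0684
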