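import Cfsg.Statements.S3360
import Mathlib
import Cfsg.Agent.Lib.TransitiveLinear.Large
import Cfsg.Agent.Lib.TransitiveLinear.Two

set_option autoImplicit false
open Cfsg

namespace Cfsg.Agent.S3360



/-- Let q be a prime and V a non-trivial finite vector space over the field with q elements, and let G be a finite solvable group acting faithfully and linearly on V and transitively on the non-zero vectors. Then either V can be identified with the additive group of a finite field F in such a way that every element of G acts as x ↦ a·σ(x) for some a ∈ F and some field automorphism σ, or the number of elements of V is one of 3^2, 5^2, 7^2, 11^2, 23^2, 3^4. -/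
theorem result
    (q : ℕ) [Fact q.Prime] {V : Type*} [AddCommGroup V] [Module (ZMod q) V] [Finite V] [Nontrivial V]
    {G : Type*} [Group G] [Finite G] (hsol : Group.IsSolvable G)
    (ρ : G →* (V ≃ₗ[ZMod q] V)) (hρ : Function.Injective ρ)
    (htrans : ∀ v w : V, v ≠ 0 → w ≠ 0 → ∃ g : G, ρ g v = w) :
    (∃ (F : Type) (_ : Field F) (_ : Fintype F) (e : V ≃+ F),
        ∀ g : G, ∃ (a : F) (σ : F ≃+* F), ∀ v : V, e (ρ g v) = a * σ (e v)) ∨
    Nat.card V ∈ ({9, 25, 49, 121, 529, 81} : Set ℕ) := by
----
  haveI : Group.IsSolvable G := hsol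
  have hV : Nat.card V = q ^ Module.finrank (ZMod q) V := by
    rw [Module.natCard_eq_pow_finrank (K := ZMod q), Nat.card_zmod]
  rcases Nat.lt_or_ge 2 (Module.finrank (ZMod q) V) with h3 | h3
  · rcases CfsgLib.TransitiveLinear.semi_or_81 hρ htrans h3 with h | h
    · exact Or.inl h
    · right; rw [h]; simp
  rcases Nat.lt_or_ge 1 (Module.finrank (ZMod q) V) with h1 | h1
  · have hn : Module.finrank (ZMod q) V = 2 := by omega
    rcases CfsgLib.TransitiveLinear.two_dim hρ htrans hn with h | h
    · exact Or.inl h
    · right
      rw [hV, hn]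
      simp only [Set.mem_insert_iff, Set.mem_singleton_iff] at h
      rcases h with rfl | rfl | rfl | rfl | rfl <;> simp
  · left
    refine CfsgLib.TransitiveLinear.semi_of_comm hρ htrans ⊥ (fun a ha b hb => ?_) fun i hi hin => by omega
    rw [Subgroup.mem_bot.mp ha, Subgroup.mem_bot.mp hb]

end Cfsg.Agent.S3360
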