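import Cfsg.Statements.S1138
import Cfsg.Agent.Lib.SuzukiTwo.Order
-- import your own Cfsg.Agent.* helpers here

set_option autoImplicit false
open Cfsg

namespace Cfsg.Agent.S1138

/-- Let `P` be a Suzuki 2-group with `|Z(P)| = q`. Then every square lies in `Z(P)` and `P/Z(P)` is abelian (so elementary abelian), `|P| = q²` or `|P| = q³`, and `P` has exponent 4. -/
theorem result {P : Type*} [Group P] (hP : Cfsg.IsSuzukiTwoGroup P) :
    (∀ x : P, x * x ∈ Subgroup.center P) ∧ (∀ x y : P, x⁻¹ * y⁻¹ * x * y ∈ Subgroup.center P) ∧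
      (Nat.card P = Nat.card (Subgroup.center P) ^ 2 ∨ Nat.card P = Nat.card (Subgroup.center P) ^ 3) ∧
      Monoid.exponent P = 4 := by
  obtain ⟨hfin, k, h, hreg, hne⟩ := CfsgLib.SuzukiTwo.exists_hyp hP
  haveI := hfin
  have hg := CfsgLib.SuzukiTwo.good P k h hne
  refine ⟨hg.1, fun x y => ?_, h.card_eq hreg hne, ?_⟩
  · have h1 := hg.commutator_mem x⁻¹ y⁻¹
    rw [commutatorElement_def, inv_inv, inv_inv] at h1
    exact h1
  · have hdvd : Monoid.exponent P ∣ 4 := Monoid.exponent_dvd_of_forall_pow_eq_one fun x => by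
      rw [show (4 : ℕ) = 2 * 2 from rfl, pow_mul, pow_two, pow_two]
      exact hg.2 _ (hg.1 x)
    obtain ⟨j, hj, hje⟩ := (Nat.dvd_prime_pow Nat.prime_two).mp (show Monoid.exponent P ∣ 2 ^ 2 from hdvd)
    by_contra hne4
    obtain ⟨a, b, hab⟩ := hne
    have hall : ∀ x : P, x * x = 1 := fun x => by
      have h1 := Monoid.pow_exponent_eq_one x
      rw [hje] at h1
      obtain rfl | rfl | rfl : j = 0 ∨ j = 1 ∨ j = 2 := by omega
      · rw [pow_zero, pow_one] at h1; rw [h1, one_mul]
      · rwa [pow_one, pow_two] at h1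
      · exact absurd hje hne4
    exact hab (h.comm (hall b) a)

end Cfsg.Agent.S1138
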