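import Cfsg.Statements.S0281
import Mathlib
import Cfsg.Agent.Lib.UnitaryTransvection
import Cfsg.Agent.Lib.PSL2Subfield

set_option autoImplicit false
open Cfsg

namespace Cfsg.Agent.S0281

open Matrix

/-- SU_2(q) is isomorphic to SL_2(q). -/
theorem result {F K : Type*} [Field F] [Fintype F] [Field K] [Fintype K] {q : ℕ} (hF : Fintype.card F = q ^ 2) (hK : Fintype.card K = q) : Nonempty (Cfsg.SU 2 F q ≃* Matrix.SpecialLinearGroup (Fin 2) K) := by
  classical
  obtain ⟨φ⟩ := CfsgLib.PSL2Subfield.exists_emb (F := F) (K := K) 2 (by norm_num) (by rw [hK, hF])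
  let σ := CfsgLib.UnitaryTransvection.frob hF
  have hσ : ∀ x, σ x = x ^ q := CfsgLib.UnitaryTransvection.frob_apply hF
  have hσσ : ∀ x, σ (σ x) = x := CfsgLib.UnitaryTransvection.frob_frob hF
  have hq : 1 < q := (CfsgLib.UnitaryBasic.frob_exists hF).1
  -- the fixed field
  have hfix : ∀ x : F, σ x = x ↔ ∃ k, φ k = x := by
    intro x
    constructor
    · intro hx
      by_contra hne
      push Not at hne
      let T : Finset F := insert x (Finset.univ.image φ)
      have hT : T.card = q + 1 := by
        rw [Finset.card_insert_of_notMem (by simpa using hne), Finset.card_image_of_injective _ φ.injective,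
          Finset.card_univ, hK]
      have hle : T.card ≤ (Polynomial.X ^ q - Polynomial.X : Polynomial F).natDegree := by
        refine Polynomial.card_le_degree_of_subset_roots fun y hy => ?_
        rw [Polynomial.mem_roots (FiniteField.X_pow_card_sub_X_ne_zero F hq)]
        have hy' : y ^ q = y := by
          have hy2 : y ∈ T := hy
          simp only [T, Finset.mem_insert, Finset.mem_image, Finset.mem_univ, true_and] at hy2
          rcases hy2 with rfl | ⟨k, rfl⟩
          · rw [← hσ]; exact hx
          · rw [← map_pow, ← hK, FiniteField.pow_card]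
        simp [hy']
      rw [FiniteField.X_pow_card_sub_X_natDegree_eq F hq] at hle
      omega
    · rintro ⟨k, rfl⟩
      rw [hσ, ← map_pow, ← hK, FiniteField.pow_card]
  -- a hyperbolic basis
  obtain ⟨δ, hδ0, hδ⟩ := CfsgLib.UnitaryTransvection.exists_skew hF
  obtain ⟨i, hi⟩ := CfsgLib.UnitaryTransvection.exists_norm_eq hF (c := (-1 : F)) (by rw [map_neg, map_one])
  change δ + σ δ = 0 at hδ
  change i * σ i = -1 at hi
  obtain ⟨ζ, hζ⟩ := CfsgLib.UnitaryBasic.exists_zeta hF
  have hζn : (ζ : F) * σ (ζ : F) = 1 := by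
    rw [hσ, ← pow_succ', ← Units.val_pow_eq_pow_val, ← hζ, pow_orderOf_eq_one, Units.val_one]
  have hζ1 : (ζ : F) ≠ 1 := fun e => by
    rw [Units.val_eq_one] at e
    rw [e, orderOf_one] at hζ
    omega
  have hi0 : i ≠ 0 := fun e => by rw [e, zero_mul] at hi; exact neg_ne_zero.mpr one_ne_zero hi.symm
  obtain ⟨j, hj⟩ : ∃ j, j = i * (ζ : F) := ⟨_, rfl⟩
  have hjn : j * σ j = -1 := by rw [hj, map_mul]; linear_combination ((ζ : F) * σ (ζ : F)) * hi - hζn
  have hji : j - i ≠ 0 := fun e => hζ1 (mul_left_cancel₀ hi0 (by linear_combination e - hj))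
  have hη : 1 + i * σ j ≠ 0 := fun e => hji (by linear_combination j * e - i * hjn)
  obtain ⟨c, hc⟩ : ∃ c, c = σ (δ / (1 + i * σ j)) := ⟨_, rfl⟩
  have hc0 : c ≠ 0 := by
    rw [hc]
    exact (map_ne_zero σ).mpr (div_ne_zero hδ0 hη)
  have hcη : σ c * (1 + i * σ j) = δ := by rw [hc, hσσ, div_mul_cancel₀ _ hη]
  have hcη' : c * (1 + j * σ i) = -δ := by
    have e := congrArg σ hcη
    rw [map_mul, map_add, map_one, map_mul, hσσ, hσσ] at e
    linear_combination e + hδ
  let B : Matrix (Fin 2) (Fin 2) F := !![1, c; i, c * j]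
  let J : Matrix (Fin 2) (Fin 2) F := !![0, 1; -1, 0]
  have hB : B.det ≠ 0 := by
    rw [show B.det = c * (j - i) by simp only [B, Matrix.det_fin_two_of]; ring]
    exact mul_ne_zero hc0 hji
  have hBu : IsUnit B.det := isUnit_iff_ne_zero.mpr hB
  have hG : B.transpose * B.map σ = δ • J := by
    ext a b
    fin_cases a <;> fin_cases b <;> simp [B, J, Matrix.mul_apply, Fin.sum_univ_two]
    · linear_combination hi
    · linear_combination hcη
    · linear_combination hcη'
    · linear_combination (c * σ c) * hjn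
  have hJ : J * J = -1 := by
    ext a b
    fin_cases a <;> fin_cases b <;> simp [J, Matrix.mul_apply, Fin.sum_univ_two]
  have hJdet : ∀ N : Matrix (Fin 2) (Fin 2) F, N.transpose * J * N = N.det • J := by
    intro N
    ext a b
    fin_cases a <;> fin_cases b <;> simp [J, Matrix.mul_apply, Fin.sum_univ_two, Matrix.det_fin_two] <;> ring
  have hherm : ∀ M : Matrix (Fin 2) (Fin 2) F,
      (∀ u v, Cfsg.hermForm 2 F q (M *ᵥ u) (M *ᵥ v) = Cfsg.hermForm 2 F q u v) ↔ M.transpose * M.map σ = 1 := by
    intro M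
    have e : ∀ u v : Fin 2 → F, Cfsg.hermForm 2 F q (M *ᵥ u) (M *ᵥ v) = u ⬝ᵥ ((M.transpose * M.map σ) *ᵥ fun t => σ (v t)) := by
      intro u v
      simp only [Cfsg.hermForm, ← hσ, dotProduct, Matrix.mulVec, Matrix.mul_apply, Fin.sum_univ_two,
        Matrix.transpose_apply, Matrix.map_apply, map_add, map_mul]
      ring
    constructor
    · intro hM
      refine Matrix.ext fun a b => ?_
      have := hM (Pi.single a 1) (Pi.single b 1)
      rw [e] at this
      have hs : (fun t => σ ((Pi.single b (1 : F) : Fin 2 → F) t)) = Pi.single b 1 := by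
        funext t
        by_cases ht : t = b <;> simp [ht]
      rw [hs] at this
      simp only [Cfsg.hermForm, ← hσ, Fin.sum_univ_two] at this
      simp at this
      rw [this]
      fin_cases a <;> fin_cases b <;> simp
    · intro hM u v
      rw [e, hM, Matrix.one_mulVec]
      simp only [Cfsg.hermForm, ← hσ, dotProduct]
  have hmap : ∀ X Y : Matrix (Fin 2) (Fin 2) F, (X * Y).map σ = X.map σ * Y.map σ := fun X Y => Matrix.map_mul
  have hBt : IsUnit B.transpose.det := by rwa [Matrix.det_transpose]
  have hBs : IsUnit (B.map σ).det := by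
    rw [← RingHom.mapMatrix_apply, ← RingHom.map_det]
    exact hBu.map σ
  have hkey : ∀ N : Matrix (Fin 2) (Fin 2) F, N.det = 1 →
      ((B * N * B⁻¹).transpose * (B * N * B⁻¹).map σ = 1 ↔ N.map σ = N) := by
    intro N hN
    set Bi := B⁻¹
    have h1 : Bi * B = 1 := Matrix.nonsing_inv_mul B hBu
    have h1' : B * Bi = 1 := Matrix.mul_nonsing_inv B hBu
    have h2 : (B * N * Bi).transpose * (B * N * Bi).map σ =
        δ • (Bi.transpose * (N.transpose * J * N.map σ) * Bi.map σ) := by
      rw [hmap, hmap, Matrix.transpose_mul, Matrix.transpose_mul]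
      calc Bi.transpose * (N.transpose * B.transpose) * (B.map σ * N.map σ * Bi.map σ)
          = Bi.transpose * (N.transpose * (B.transpose * B.map σ) * N.map σ) * Bi.map σ := by
            simp only [Matrix.mul_assoc]
        _ = _ := by rw [hG]; simp [Matrix.mul_assoc]
    have h3 : δ • (Bi.transpose * J * Bi.map σ) = 1 := by
      calc δ • (Bi.transpose * J * Bi.map σ) = Bi.transpose * (B.transpose * B.map σ) * Bi.map σ := by
            rw [hG]; simp [Matrix.mul_assoc]
        _ = (B * Bi).transpose * (B * Bi).map σ := by rw [hmap, Matrix.transpose_mul]; simp only [Matrix.mul_assoc]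
        _ = 1 := by rw [h1']; simp
    rw [h2]
    constructor
    · intro h
      have h4 := congrArg (fun X => B.transpose * X * B.map σ) (h.trans h3.symm)
      have e1 : B.transpose * Bi.transpose = 1 := by rw [← Matrix.transpose_mul, h1, Matrix.transpose_one]
      have e2 : Bi.map σ * B.map σ = 1 := by rw [← hmap, h1]; simp
      have e3 : ∀ X, B.transpose * (δ • (Bi.transpose * X * Bi.map σ)) * B.map σ = δ • X := fun X => by
        rw [Matrix.mul_smul, Matrix.smul_mul, ← Matrix.mul_assoc, ← Matrix.mul_assoc, e1, Matrix.one_mul,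
          Matrix.mul_assoc, e2, Matrix.mul_one]
      simp only [e3] at h4
      have h5 : N.transpose * J * N.map σ = N.transpose * J * N := by
        rw [hJdet, hN, one_smul]
        exact smul_right_injective _ hδ0 h4
      have hu : IsUnit (N.transpose * J).det := by
        rw [Matrix.det_mul, Matrix.det_transpose, hN, show J.det = 1 by simp [J, Matrix.det_fin_two_of]]
        simp
      have := congrArg (fun X => (N.transpose * J)⁻¹ * X) h5
      simp only [← Matrix.mul_assoc, Matrix.nonsing_inv_mul _ hu, Matrix.one_mul] at this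
      exact this
    · intro h
      rw [h, hJdet, hN, one_smul, h3]
  -- the isomorphism
  let f : Matrix.SpecialLinearGroup (Fin 2) K →* Cfsg.SU 2 F q :=
    { toFun := fun g => ⟨⟨B * g.1.map φ * B⁻¹, by
          rw [Matrix.det_conj ((Matrix.isUnit_iff_isUnit_det B).mpr hBu), ← RingHom.mapMatrix_apply, ← RingHom.map_det, g.2, map_one]⟩,
        (hherm _).mpr ((hkey _ (by rw [← RingHom.mapMatrix_apply, ← RingHom.map_det, g.2, map_one])).mpr
          (Matrix.ext fun a b => (hfix _).mpr ⟨_, rfl⟩))⟩
      map_one' := Subtype.ext (Subtype.ext (by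
        show B * (1 : Matrix (Fin 2) (Fin 2) K).map φ * B⁻¹ = 1
        simp [Matrix.mul_nonsing_inv B hBu]))
      map_mul' := fun g k => Subtype.ext (Subtype.ext (by
        show B * (g.1 * k.1).map φ * B⁻¹ = (B * g.1.map φ * B⁻¹) * (B * k.1.map φ * B⁻¹)
        rw [Matrix.map_mul]
        simp only [Matrix.mul_assoc]
        rw [← Matrix.mul_assoc B⁻¹ B, Matrix.nonsing_inv_mul B hBu, Matrix.one_mul])) }
  refine ⟨(MulEquiv.ofBijective f ⟨fun g k e => ?_, fun M => ?_⟩).symm⟩
  · have e' : B * g.1.map φ * B⁻¹ = B * k.1.map φ * B⁻¹ := congrArg (fun x : Cfsg.SU 2 F q => x.1.1) e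
    have e'' := congrArg (fun X => B⁻¹ * X * B) e'
    simp [Matrix.mul_assoc, Matrix.nonsing_inv_mul B hBu, ← Matrix.mul_assoc B⁻¹] at e''
    exact Subtype.ext (Matrix.ext fun a b => φ.injective (congrFun (congrFun e'' a) b))
  · set N := B⁻¹ * M.1.1 * B with hNdef
    have hBNB : B * N * B⁻¹ = M.1.1 := by
      simp only [hNdef, Matrix.mul_assoc, Matrix.mul_nonsing_inv B hBu, Matrix.mul_one]
      rw [← Matrix.mul_assoc, Matrix.mul_nonsing_inv B hBu, Matrix.one_mul]
    have hNd : N.det = 1 := by
      rw [hNdef, Matrix.det_conj' ((Matrix.isUnit_iff_isUnit_det B).mpr hBu)]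
      exact M.1.2
    have hN := (hkey N hNd).mp (by rw [hBNB]; exact (hherm _).mp M.2)
    choose g hg using fun a b => (hfix (N a b)).mp (congrFun (congrFun hN a) b)
    have hgN : (Matrix.of g).map φ = N := Matrix.ext fun a b => hg a b
    refine ⟨⟨Matrix.of g, φ.injective ?_⟩, Subtype.ext (Subtype.ext ?_)⟩
    · rw [RingHom.map_det, RingHom.mapMatrix_apply, hgN, hNd, map_one]
    · show B * (Matrix.of g).map φ * B⁻¹ = M.1.1
      rw [hgN, hBNB]

end Cfsg.Agent.S0281
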