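import Cfsg.Statements.S2530
import Mathlib.GroupTheory.Perm.Cycle.Type
import Mathlib.GroupTheory.Coxeter.Basic

set_option autoImplicit false
open Cfsg

namespace Cfsg.Agent.S2530

/-- The braid relations of type `A` for `s 0, …, s (n - 1)`. -/
def Rels {G : Type*} [Group G] (s : ℕ → G) (n : ℕ) : Prop :=
  (∀ i, i < n → s i * s i = 1) ∧ (∀ i, i + 1 < n → (s i * s (i + 1)) ^ 3 = 1) ∧
    ∀ i j, i + 1 < j → j < n → (s i * s j) ^ 2 = 1

theorem Rels.comm {G : Type*} [Group G] {s : ℕ → G} {n : ℕ} (h : Rels s n) {i j : ℕ}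
    (hij : i + 1 < j) (hj : j < n) : s i * s j = s j * s i := by
  have e := h.2.2 i j hij hj
  rw [sq, mul_eq_one_iff_eq_inv, mul_inv_rev, inv_eq_of_mul_eq_one_right (h.1 j hj),
    inv_eq_of_mul_eq_one_right (h.1 i (by omega))] at e
  exact e

theorem Rels.braid {G : Type*} [Group G] {s : ℕ → G} {n : ℕ} (h : Rels s n) {i : ℕ}
    (hi : i + 1 < n) : s (i + 1) * s i * s (i + 1) = s i * s (i + 1) * s i := by
  have e := h.2.1 i hi
  rw [pow_succ, pow_two, show s i * s (i + 1) * (s i * s (i + 1)) * (s i * s (i + 1)) =
    s i * s (i + 1) * s i * (s (i + 1) * s i * s (i + 1)) by simp only [mul_assoc],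
    mul_eq_one_iff_eq_inv, ] at e
  rw [← inv_inj, ← e, mul_inv_rev, mul_inv_rev, inv_eq_of_mul_eq_one_right (h.1 i (by omega)),
    inv_eq_of_mul_eq_one_right (h.1 (i + 1) hi), mul_assoc]

theorem card_closure_le {G : Type*} [Group G] (n : ℕ) (s : ℕ → G) (h : Rels s n) :
    ((Subgroup.closure (s '' Set.Iio n) : Subgroup G) : Set G).Finite ∧
      ((Subgroup.closure (s '' Set.Iio n) : Subgroup G) : Set G).ncard ≤ (n + 1).factorial := by
  induction n with
  | zero => simp [Subgroup.closure_empty]
  | succ n ih =>
    obtain ⟨hfin, hcard⟩ := ih ⟨fun i hi => h.1 i (by omega), fun i hi => h.2.1 i (by omega),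
      fun i j hij hj => h.2.2 i j hij (by omega)⟩
    set H := Subgroup.closure (s '' Set.Iio n) with hH
    let c : ℕ → G := fun k => ((List.range' k (n + 1 - k)).map s).prod
    have hc : ∀ k, k ≤ n → c k = s k * c (k + 1) := fun k hk => by
      simp only [c]
      rw [show n + 1 - k = (n - k) + 1 by omega, List.range'_succ, List.map_cons, List.prod_cons,
        show n + 1 - (k + 1) = n - k by omega]
    have hc0 : c (n + 1) = 1 := by simp [c]
    have keyA : ∀ d k, d + k = n + 1 → ∀ i, i + 1 < k → s i * c k = c k * s i := by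
      intro d
      induction d with
      | zero =>
        intro k hk i _
        rw [show k = n + 1 by omega, hc0]
        simp
      | succ d ihd =>
        intro k hk i hik
        rw [hc k (by omega), ← mul_assoc, h.comm hik (by omega), mul_assoc,
          ihd (k + 1) (by omega) i (by omega), mul_assoc]
    have keyB : ∀ d k, d + k = n + 1 → ∀ i, k < i → i ≤ n → s i * c k = c k * s (i - 1) := by
      intro d
      induction d with
      | zero => intro k hk i hki hi; omega
      | succ d ihd =>
        intro k hk i hki hi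
        rcases Nat.lt_or_ge (k + 1) i with h1 | h1
        · rw [hc k (by omega), ← mul_assoc, ← h.comm h1 (by omega), mul_assoc,
            ihd (k + 1) (by omega) i h1 hi, mul_assoc]
        · obtain rfl : i = k + 1 := by omega
          rw [hc k (by omega), hc (k + 1) (by omega), Nat.add_sub_cancel, ← mul_assoc, ← mul_assoc,
            h.braid (by omega), mul_assoc (s k * s (k + 1)) (s k),
            keyA (n + 1 - (k + 2)) (k + 2) (by omega) k (by omega)]
          simp only [mul_assoc]
    let U : Set G := Set.image2 (· * ·) (Set.range fun k : Fin (n + 2) => c k.val) (H : Set G)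
    have hstep : ∀ i, i ≤ n → ∀ u ∈ U, s i * u ∈ U := by
      rintro i hi _ ⟨_, ⟨k, rfl⟩, y, hy, rfl⟩
      have hk := k.2
      simp only [← mul_assoc]
      rcases lt_trichotomy (i + 1) k.val with h1 | h1 | h1
      · rw [keyA (n + 1 - k.val) k.val (by omega) i h1, mul_assoc]
        exact ⟨_, ⟨k, rfl⟩, _, H.mul_mem (Subgroup.subset_closure
          ⟨i, Set.mem_Iio.mpr (by omega), rfl⟩) hy, rfl⟩
      · rw [← h1, ← hc i hi]
        exact ⟨_, ⟨⟨i, by omega⟩, rfl⟩, y, hy, rfl⟩
      · rcases eq_or_lt_of_le (show k.val ≤ i by omega) with h2 | h2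
        · rw [h2, hc i hi, ← mul_assoc, h.1 i (by omega), one_mul]
          exact ⟨_, ⟨⟨i + 1, by omega⟩, rfl⟩, y, hy, rfl⟩
        · rw [keyB (n + 1 - k.val) k.val (by omega) i h2 hi, mul_assoc]
          exact ⟨_, ⟨k, rfl⟩, _, H.mul_mem (Subgroup.subset_closure
            ⟨i - 1, Set.mem_Iio.mpr (by omega), rfl⟩) hy, rfl⟩
    have hsub : ((Subgroup.closure (s '' Set.Iio (n + 1)) : Subgroup G) : Set G) ⊆ U := by
      intro x hx
      induction hx using Subgroup.closure_induction_left with
      | one => exact ⟨_, ⟨⟨n + 1, by omega⟩, rfl⟩, 1, H.one_mem, by simp [hc0]⟩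
      | mul_left x hx y hy ihy =>
        obtain ⟨i, hi, rfl⟩ := hx
        exact hstep i (Nat.lt_succ_iff.mp hi) y ihy
      | inv_mul_cancel x hx y hy ihy =>
        obtain ⟨i, hi, rfl⟩ := hx
        rw [inv_eq_of_mul_eq_one_right (h.1 i hi)]
        exact hstep i (Nat.lt_succ_iff.mp hi) y ihy
    have hUfin : U.Finite := (Set.finite_range _).image2 _ hfin
    refine ⟨hUfin.subset hsub, (Set.ncard_le_ncard hsub hUfin).trans ?_⟩
    have hU : U = (fun p : G × G => p.1 * p.2) '' ((Set.range fun k : Fin (n + 2) => c k.val) ×ˢ (H : Set G)) :=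
      (Set.image_prod _).symm
    rw [hU]
    refine (Set.ncard_image_le ((Set.finite_range _).prod hfin)).trans ?_
    rw [Set.ncard_prod, Nat.factorial_succ]
    refine Nat.mul_le_mul ?_ hcard
    rw [← Set.image_univ]
    refine (Set.ncard_image_le Set.finite_univ).trans ?_
    simp [Set.ncard_univ]


/-- The Coxeter presentation of the symmetric group: for every n, the symmetric group on n+1 letters is the Coxeter group of type A_n with the adjacent transpositions (i, i+1) as simple reflections; that is, it is presented by generators r_1, …, r_n subject to r_i² = 1, (r_i r_j)² = 1 for |i − j| > 1 and (r_i r_{i+1})³ = 1, with r_i mapping to (i, i+1). -/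
theorem result (n : ℕ) :
    ∃ cs : CoxeterSystem (CoxeterMatrix.A n) (Equiv.Perm (Fin (n + 1))), ∀ i : Fin n, cs.simple i = Equiv.swap i.castSucc i.succ := by
  classical
  let cs0 := (CoxeterMatrix.A n).toCoxeterSystem
  let f : Fin n → Equiv.Perm (Fin (n + 1)) := fun i => Equiv.swap i.castSucc i.succ
  have hA : ∀ i j : Fin n, CoxeterMatrix.A n i j =
      if i = j then 1 else (if (j : ℕ) + 1 = i ∨ (i : ℕ) + 1 = j then 3 else 2) := fun i j => rfl
  have hf : (CoxeterMatrix.A n).IsLiftable f := by
    intro i j
    rw [hA]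
    split_ifs with h1 h2
    · rw [h1, pow_one, Equiv.swap_mul_self]
    · have h3 : (f i * f j).IsThreeCycle := by
        rcases h2 with h | h
        · have e : j.succ = i.castSucc := Fin.ext (by simp; omega)
          simp only [f]
          rw [Equiv.swap_comm j.castSucc, e]
          exact Equiv.Perm.isThreeCycle_swap_mul_swap_same (by simp [Fin.ext_iff])
            (by simp [Fin.ext_iff]; omega) (by simp [Fin.ext_iff]; omega)
        · have e : i.succ = j.castSucc := Fin.ext (by simp; omega)
          simp only [f]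
          rw [Equiv.swap_comm i.castSucc, e]
          exact Equiv.Perm.isThreeCycle_swap_mul_swap_same (by simp [Fin.ext_iff]; omega)
            (by simp [Fin.ext_iff]) (by simp [Fin.ext_iff]; omega)
      exact orderOf_dvd_iff_pow_eq_one.mp (dvd_of_eq h3.orderOf)
    · push Not at h2
      have h1' : i.val ≠ j.val := fun e => h1 (Fin.ext e)
      have hc : Commute (f i) (f j) := by
        refine Equiv.Perm.Disjoint.commute fun x => ?_
        simp only [f]
        by_cases hx : x = i.castSucc ∨ x = i.succ
        · right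
          apply Equiv.swap_apply_of_ne_of_ne <;>
            rcases hx with rfl | rfl <;> simp [Fin.ext_iff] <;> omega
        · left
          push Not at hx
          exact Equiv.swap_apply_of_ne_of_ne hx.1 hx.2
      rw [hc.mul_pow, sq, sq, Equiv.swap_mul_self, Equiv.swap_mul_self, one_mul]
  let φ : (CoxeterMatrix.A n).Group →* Equiv.Perm (Fin (n + 1)) := cs0.lift ⟨f, hf⟩
  have hφ : ∀ i, φ (cs0.simple i) = f i := fun i => cs0.lift_apply_simple hf i
  have hsurj : Function.Surjective φ := by
    intro x
    have hx : x ∈ Submonoid.closure (Set.range f) := by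
      rw [show (Set.range f) = Set.range (fun i : Fin n => Equiv.swap i.castSucc i.succ) from rfl,
        Equiv.Perm.mclosure_swap_castSucc_succ]
      trivial
    induction hx using Submonoid.closure_induction with
    | mem x hx => obtain ⟨i, rfl⟩ := hx; exact ⟨cs0.simple i, hφ i⟩
    | one => exact ⟨1, map_one φ⟩
    | mul x y _ _ ihx ihy =>
      obtain ⟨a, rfl⟩ := ihx
      obtain ⟨b, rfl⟩ := ihy
      exact ⟨a * b, map_mul φ a b⟩
  let s : ℕ → (CoxeterMatrix.A n).Group := fun i => if h : i < n then cs0.simple ⟨i, h⟩ else 1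
  have hrel : Rels s n := by
    refine ⟨fun i hi => ?_, fun i hi => ?_, fun i j hij hj => ?_⟩
    · simp only [s, dif_pos hi]
      exact cs0.simple_mul_simple_self _
    · simp only [s, dif_pos hi, dif_pos (show i < n by omega)]
      have h := cs0.simple_mul_simple_pow ⟨i, by omega⟩ ⟨i + 1, hi⟩
      rw [hA, if_neg (by simp [Fin.ext_iff]), if_pos (Or.inr rfl)] at h
      exact h
    · simp only [s, dif_pos hj, dif_pos (show i < n by omega)]
      have h := cs0.simple_mul_simple_pow ⟨i, by omega⟩ ⟨j, hj⟩
      rw [hA, if_neg (by simp [Fin.ext_iff]; omega), if_neg (by simp; omega)] at h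
      exact h
  obtain ⟨hfin, hcard⟩ := card_closure_le n s hrel
  have htop : Subgroup.closure (s '' Set.Iio n) = ⊤ := by
    rw [eq_top_iff, ← cs0.subgroup_closure_range_simple, Subgroup.closure_le]
    rintro _ ⟨i, rfl⟩
    exact Subgroup.subset_closure ⟨i.val, i.2, by simp [s]⟩
  rw [htop, Subgroup.coe_top] at hfin hcard
  have : Finite (CoxeterMatrix.A n).Group := Set.finite_univ_iff.mp hfin
  rw [Set.ncard_univ] at hcard
  have hbij : Function.Bijective φ := by
    refine Function.Surjective.bijective_of_nat_card_le hsurj ?_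
    rwa [Nat.card_eq_fintype_card (α := Equiv.Perm (Fin (n + 1))), Fintype.card_perm, Fintype.card_fin]
  refine ⟨⟨(MulEquiv.ofBijective φ hbij).symm⟩, fun i => ?_⟩
  show (MulEquiv.ofBijective φ hbij).symm.symm (PresentedGroup.of i) = _
  rw [MulEquiv.symm_symm]
  exact hφ i

end Cfsg.Agent.S2530
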