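import Cfsg.Statements.S0266
import Mathlib

set_option autoImplicit false
open scoped MatrixGroups
open Cfsg

namespace Cfsg.Agent.S0266

theorem mk_rep_smul {F : Type*} [Field F] (a : Projectivization F (Fin 2 → F)) (t : F)
    (h : t • a.rep ≠ 0) : Projectivization.mk F (t • a.rep) h = a := by
  conv_rhs => rw [← Projectivization.mk_rep a]
  rw [Projectivization.mk_eq_mk_iff']
  exact ⟨t, rfl⟩

theorem exists_std {F : Type*} [Field F] (a b c : Projectivization F (Fin 2 → F))
    (hab : a ≠ b) (hac : a ≠ c) (hbc : b ≠ c) (e₀ e₁ e₂ : Projectivization F (Fin 2 → F))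
    (h₀ : e₀ = Projectivization.mk F ![1, 0] (by simp))
    (h₁ : e₁ = Projectivization.mk F ![0, 1] (by simp))
    (h₂ : e₂ = Projectivization.mk F ![1, 1] (by simp)) :
    ∃ g : Matrix.ProjGenLinGroup (Fin 2) F, g • e₀ = a ∧ g • e₁ = b ∧ g • e₂ = c := by
  have hli : LinearIndependent F ![a.rep, b.rep] :=
    Projectivization.linearIndependent_pair_iff_ne.mpr hab
  have hsp : c.rep ∈ Submodule.span F (Set.range ![a.rep, b.rep]) := by
    rw [hli.span_eq_top_of_card_eq_finrank (by simp)]
    trivial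
  rw [Matrix.range_cons, Matrix.range_cons, Matrix.range_empty, Set.union_empty,
    Set.singleton_union, Submodule.mem_span_pair] at hsp
  obtain ⟨α, β, hw⟩ := hsp
  have hα : α ≠ 0 := by
    intro h
    rw [h, zero_smul, zero_add] at hw
    apply hbc
    rw [← Projectivization.mk_rep b, ← Projectivization.mk_rep c, eq_comm, Projectivization.mk_eq_mk_iff']
    exact ⟨β, hw⟩
  have hβ : β ≠ 0 := by
    intro h
    rw [h, zero_smul, add_zero] at hw
    apply hac
    rw [← Projectivization.mk_rep a, ← Projectivization.mk_rep c, eq_comm, Projectivization.mk_eq_mk_iff']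
    exact ⟨α, hw⟩
  have hdet : (Matrix.of ![α • a.rep, β • b.rep]).transpose.det ≠ 0 := by
    intro h
    obtain ⟨x, hx, hxM⟩ := Matrix.exists_mulVec_eq_zero_iff.mpr h
    have e : (x 0 * α) • a.rep + (x 1 * β) • b.rep = 0 := by
      ext i
      have := congrFun hxM i
      simp [Matrix.mulVec, dotProduct, Fin.sum_univ_two] at this
      simp
      linear_combination this
    obtain ⟨h0, h1⟩ := LinearIndependent.pair_iff.mp hli _ _ e
    apply hx
    ext i
    fin_cases i
    · simpa [hα] using h0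
    · simpa [hβ] using h1
  refine ⟨Matrix.ProjGenLinGroup.mk (Matrix.GeneralLinearGroup.mkOfDetNeZero _ hdet), ?_, ?_, ?_⟩
  · rw [h₀, Projectivization.PGL.mk_smul_mk]
    conv_rhs => rw [← Projectivization.mk_rep a]
    rw [Projectivization.mk_eq_mk_iff']
    refine ⟨α, ?_⟩
    show α • a.rep = (Matrix.of ![α • a.rep, β • b.rep]).transpose.mulVec ![1, 0]
    ext i; simp [Matrix.mulVec, dotProduct, Fin.sum_univ_two]
  · rw [h₁, Projectivization.PGL.mk_smul_mk]
    conv_rhs => rw [← Projectivization.mk_rep b]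
    rw [Projectivization.mk_eq_mk_iff']
    refine ⟨β, ?_⟩
    show β • b.rep = (Matrix.of ![α • a.rep, β • b.rep]).transpose.mulVec ![0, 1]
    ext i; simp [Matrix.mulVec, dotProduct, Fin.sum_univ_two]
  · rw [h₂, Projectivization.PGL.mk_smul_mk]
    conv_rhs => rw [← Projectivization.mk_rep c]
    rw [Projectivization.mk_eq_mk_iff']
    refine ⟨1, ?_⟩
    show (1 : F) • c.rep = (Matrix.of ![α • a.rep, β • b.rep]).transpose.mulVec ![1, 1]
    rw [one_smul, ← hw]
    ext i; simp [Matrix.mulVec, dotProduct, Fin.sum_univ_two]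

theorem std_fixed {F : Type*} [Field F] (g : Matrix.ProjGenLinGroup (Fin 2) F)
    (h₀ : g • Projectivization.mk F ![(1 : F), 0] (by simp) = Projectivization.mk F ![(1 : F), 0] (by simp))
    (h₁ : g • Projectivization.mk F ![(0 : F), 1] (by simp) = Projectivization.mk F ![(0 : F), 1] (by simp))
    (h₂ : g • Projectivization.mk F ![(1 : F), 1] (by simp) = Projectivization.mk F ![(1 : F), 1] (by simp)) :
    g = 1 := by
  cases g with | mk M =>
  rw [Projectivization.PGL.mk_smul_mk, Projectivization.mk_eq_mk_iff'] at h₀ h₁ h₂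
  obtain ⟨a, ha⟩ := h₀
  obtain ⟨b, hb⟩ := h₁
  obtain ⟨c, hc⟩ := h₂
  change a • ![(1 : F), 0] = M.1.mulVec ![1, 0] at ha
  change b • ![(0 : F), 1] = M.1.mulVec ![0, 1] at hb
  change c • ![(1 : F), 1] = M.1.mulVec ![1, 1] at hc
  have a0 := congrFun ha 0
  have a1 := congrFun ha 1
  have b0 := congrFun hb 0
  have b1 := congrFun hb 1
  have c0 := congrFun hc 0
  have c1 := congrFun hc 1
  simp [Matrix.mulVec, dotProduct, Fin.sum_univ_two] at a0 a1 b0 b1 c0 c1
  rw [Matrix.ProjGenLinGroup.mk_eq_one, Matrix.GeneralLinearGroup.center_eq_range_scalar]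
  have hane : a ≠ 0 := by
    intro h
    have := M.det_ne_zero
    apply this
    rw [Matrix.det_fin_two, ← a0, ← a1, h]
    ring
  refine ⟨Units.mk0 a hane, ?_⟩
  apply Units.ext
  ext i j
  fin_cases i <;> fin_cases j <;> simp [Matrix.GeneralLinearGroup.coe_scalar] <;>
    first
      | linear_combination a0 | linear_combination b0 | linear_combination a1
      | linear_combination a0 + b0 - c0 + c1 - a1

/-- PGL_2(F) is sharply 3-transitive on the projective line: it is 3-transitive and the stabiliser of three distinct points is trivial. -/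
theorem result {F : Type*} [Field F] : MulAction.IsMultiplyPretransitive (Matrix.ProjGenLinGroup (Fin 2) F) (Projectivization F (Fin 2 → F)) 3 ∧ ∀ (g : Matrix.ProjGenLinGroup (Fin 2) F) (a b c : Projectivization F (Fin 2 → F)), a ≠ b → a ≠ c → b ≠ c → g • a = a → g • b = b → g • c = c → g = 1 := by
  refine ⟨?_, ?_⟩
  · refine ⟨fun x y => ?_⟩
    have nex : ∀ (z : Fin 3 ↪ Projectivization F (Fin 2 → F)) (i j : Fin 3), i ≠ j → z i ≠ z j :=
      fun z i j h e => h (z.injective e)
    obtain ⟨g, g0, g1, g2⟩ := exists_std (x 0) (x 1) (x 2) (nex x 0 1 (by decide)) (nex x 0 2 (by decide))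
      (nex x 1 2 (by decide)) _ _ _ rfl rfl rfl
    obtain ⟨h, e0, e1, e2⟩ := exists_std (y 0) (y 1) (y 2) (nex y 0 1 (by decide)) (nex y 0 2 (by decide))
      (nex y 1 2 (by decide)) _ _ _ rfl rfl rfl
    refine ⟨h * g⁻¹, ?_⟩
    apply DFunLike.ext
    intro i
    show (h * g⁻¹) • x i = y i
    fin_cases i
    · show (h * g⁻¹) • x 0 = y 0
      rw [← g0, mul_smul, inv_smul_smul, e0]
    · show (h * g⁻¹) • x 1 = y 1
      rw [← g1, mul_smul, inv_smul_smul, e1]
    · show (h * g⁻¹) • x 2 = y 2
      rw [← g2, mul_smul, inv_smul_smul, e2]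
  · intro g a b c hab hac hbc ha hb hc
    obtain ⟨h, h0, h1, h2⟩ := exists_std a b c hab hac hbc _ _ _ rfl rfl rfl
    have : h⁻¹ * g * h = 1 := std_fixed _
      (by rw [mul_smul, mul_smul, h0, ha, ← h0, inv_smul_smul])
      (by rw [mul_smul, mul_smul, h1, hb, ← h1, inv_smul_smul])
      (by rw [mul_smul, mul_smul, h2, hc, ← h2, inv_smul_smul])
    calc g = h * (h⁻¹ * g * h) * h⁻¹ := by group
      _ = 1 := by rw [this, mul_one, mul_inv_cancel]

end Cfsg.Agent.S0266
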