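import Cfsg.Statements.S0727
import Mathlib
import Cfsg.Agent.S0266
import Cfsg.Agent.Lib.Perm.SharpThree
import Cfsg.Agent.Lib.Perm.SharplyTwo
-- import your own Cfsg.Agent.* helpers here

set_option autoImplicit false
open Cfsg

namespace Cfsg.Agent.S0727

/-- A sharply three-transitive group containing all projectivities of a line is the projective group. -/
theorem pglIso {F : Type} [Field F] {α : Type*} [Fintype α] [DecidableEq α] (G : Subgroup (Equiv.Perm α))
    (hsharp : ∀ x : Fin 3 ↪ α, MulAction.stabilizer G x = ⊥)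
    (Φ : Projectivization F (Fin 2 → F) → α) (hΦ : Function.Bijective Φ)
    (hG : ∀ g : Matrix.GeneralLinearGroup (Fin 2) F, ∃ h : G, ∀ (v : Fin 2 → F) (hv : v ≠ 0),
      h • Φ (Projectivization.mk F v hv) = Φ (Matrix.ProjGenLinGroup.mk g • Projectivization.mk F v hv)) :
    Nonempty (G ≃* Matrix.ProjGenLinGroup (Fin 2) F) := by
  classical
  have hG' : ∀ g : Matrix.ProjGenLinGroup (Fin 2) F, ∃ h : G, ∀ p, h • Φ p = Φ (g • p) := fun g => by
    obtain ⟨g₀, rfl⟩ := Matrix.ProjGenLinGroup.mk_surjective g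
    obtain ⟨h, hh⟩ := hG g₀
    exact ⟨h, fun p => by rw [← Projectivization.mk_rep p]; exact hh _ _⟩
  choose φ hφ using hG'
  have huniq : ∀ g (h : G), (∀ p, h • Φ p = Φ (g • p)) → φ g = h := fun g h hh => by
    refine Subtype.ext (Equiv.ext fun x => ?_)
    obtain ⟨p, rfl⟩ := hΦ.2 x
    exact (hφ g p).trans (hh p).symm
  let ψ : Matrix.ProjGenLinGroup (Fin 2) F →* G := MonoidHom.mk' φ fun g g' => huniq _ _ fun p => by
    rw [mul_smul, hφ, hφ, mul_smul]
  let e₀ : Projectivization F (Fin 2 → F) := Projectivization.mk F ![1, 0] (by simp)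
  let e₁ : Projectivization F (Fin 2 → F) := Projectivization.mk F ![0, 1] (by simp)
  let e₂ : Projectivization F (Fin 2 → F) := Projectivization.mk F ![1, 1] (by simp)
  have h01 : e₀ ≠ e₁ := fun e => by
    obtain ⟨t, ht⟩ := (Projectivization.mk_eq_mk_iff' _ _ _ _ _).1 e
    simpa using congrFun ht 0
  have h02 : e₀ ≠ e₂ := fun e => by
    obtain ⟨t, ht⟩ := (Projectivization.mk_eq_mk_iff' _ _ _ _ _).1 e
    have h0 := congrFun ht 0
    have h1 := congrFun ht 1
    simp at h0 h1
    rw [h1] at h0; exact one_ne_zero h0.symm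
  have h12 : e₁ ≠ e₂ := fun e => by
    obtain ⟨t, ht⟩ := (Projectivization.mk_eq_mk_iff' _ _ _ _ _).1 e
    have h0 := congrFun ht 0
    have h1 := congrFun ht 1
    simp at h0 h1
    rw [h0] at h1; exact one_ne_zero h1.symm
  refine ⟨(MulEquiv.ofBijective ψ ⟨(injective_iff_map_eq_one ψ).2 fun g hg => ?_, fun h => ?_⟩).symm⟩
  · have hfix : ∀ p, g • p = p := fun p => hΦ.1 (by
      rw [← hφ g p, show φ g = 1 from hg, one_smul])
    exact Cfsg.Agent.S0266.std_fixed g (hfix _) (hfix _) (hfix _)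
  · obtain ⟨p, hp⟩ := hΦ.2 (h • Φ e₀)
    obtain ⟨q, hq⟩ := hΦ.2 (h • Φ e₁)
    obtain ⟨r, hr⟩ := hΦ.2 (h • Φ e₂)
    have hne : ∀ {x y : Projectivization F (Fin 2 → F)} {x' y'}, Φ x' = h • Φ x → Φ y' = h • Φ y → x ≠ y → x' ≠ y' :=
      fun {x y x' y'} hx hy hxy e => hxy (hΦ.1 (MulAction.injective h (hx.symm.trans (e ▸ hy))))
    obtain ⟨g, g0, g1, g2⟩ := Cfsg.Agent.S0266.exists_std p q r (hne hp hq h01) (hne hp hr h02) (hne hq hr h12) e₀ e₁ e₂ rfl rfl rfl
    refine ⟨g, inv_mul_eq_one.1 (CfsgLib.SharpThree.eq_one_of_three hsharp (a := Φ e₀) (b := Φ e₁) (c := Φ e₂)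
      (hΦ.1.ne h01) (hΦ.1.ne h02) (hΦ.1.ne h12) ?_ ?_ ?_)⟩
    · show ((φ g)⁻¹ * h) • _ = _
      rw [mul_smul, inv_smul_eq_iff, hφ, g0, hp]
    · show ((φ g)⁻¹ * h) • _ = _
      rw [mul_smul, inv_smul_eq_iff, hφ, g1, hq]
    · show ((φ g)⁻¹ * h) • _ = _
      rw [mul_smul, inv_smul_eq_iff, hφ, g2, hr]

/-- Field coordinates of a sharply three-transitive group of degree `2 ^ f + 1`. -/
theorem fieldCoords {α : Type*} [Fintype α] [DecidableEq α] {f : ℕ} (hf : 1 ≤ f) (hα : Fintype.card α = 2 ^ f + 1)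
    (G : Subgroup (Equiv.Perm α)) (h3 : MulAction.IsMultiplyPretransitive G α 3)
    (hsharp : ∀ x : Fin 3 ↪ α, MulAction.stabilizer G x = ⊥) :
    ∃ (F : Type) (_ : Field F) (_ : Fintype F) (a : α) (ι : F ≃ {x : α // x ≠ a}), Fintype.card F = 2 ^ f ∧
      (∀ u v : F, u ≠ 0 → ∃ h : G, h • a = a ∧ ∀ z, h • (ι z : α) = ι (z * u + v)) ∧
      ∃ s : G, s • a = ι 0 ∧ s • (ι 0 : α) = a ∧ ∀ z : F, z ≠ 0 → s • (ι z : α) = ι z⁻¹ := by
  classical
  have h2f : 2 ≤ 2 ^ f := le_trans (le_of_eq (pow_one 2).symm) (Nat.pow_le_pow_right two_pos hf)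
  obtain ⟨a⟩ : Nonempty α := Fintype.card_pos_iff.1 (by omega)
  have hcard : Fintype.card {x : α // x ≠ a} = 2 ^ f := by
    rw [Fintype.card_subtype_compl, Fintype.card_subtype_eq]; omega
  let φ : MulAction.stabilizer G a →* Equiv.Perm {x : α // x ≠ a} := MonoidHom.mk'
    (fun g => ((g : G) : Equiv.Perm α).subtypePerm (fun x => by
      have hg : ((g : G) : Equiv.Perm α) a = a := g.2
      constructor
      · exact fun h e => h (by rw [e, hg])
      · exact fun h e => h (((g : G) : Equiv.Perm α).injective (e.trans hg.symm))))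
    (fun g g' => Equiv.ext fun x => Subtype.ext rfl)
  have hval : ∀ (g : MulAction.stabilizer G a) (x : {x : α // x ≠ a}), ((φ g x : {x : α // x ≠ a}) : α) = (g : G) • (x : α) :=
    fun g x => rfl
  haveI h2 : MulAction.IsMultiplyPretransitive φ.range {x : α // x ≠ a} 2 := by
    rw [MulAction.is_two_pretransitive_iff]
    rintro ⟨x, hx⟩ ⟨y, hy⟩ ⟨z, hz⟩ ⟨w, hw⟩ hxy hzw
    obtain ⟨g, hga, hgx, hgy⟩ := CfsgLib.SharpThree.exists_move h3 (Ne.symm hx) (Ne.symm hy) (fun e => hxy (Subtype.ext e))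
      (Ne.symm hz) (Ne.symm hw) (fun e => hzw (Subtype.ext e))
    exact ⟨⟨φ ⟨g, hga⟩, ⟨g, hga⟩, rfl⟩, Subtype.ext ((hval _ _).trans hgx), Subtype.ext ((hval _ _).trans hgy)⟩
  have hsh : ∀ x : Fin 2 ↪ {x : α // x ≠ a}, MulAction.stabilizer φ.range x = ⊥ := fun x => by
    rw [Subgroup.eq_bot_iff_forall]
    rintro ⟨_, g, rfl⟩ hg
    rw [MulAction.mem_stabilizer_iff] at hg
    have e : ∀ i, (g : G) • ((x i : {x : α // x ≠ a}) : α) = x i := fun i =>
      (hval g (x i)).symm.trans (congrArg Subtype.val (DFunLike.congr_fun hg i))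
    have h1 : (g : G) = 1 := CfsgLib.SharpThree.eq_one_of_three hsharp (a := a) (x 0).2.symm (x 1).2.symm
      (fun e => by exact absurd (x.injective (Subtype.ext e)) (by decide)) g.2 (e 0) (e 1)
    apply Subtype.ext
    show φ g = 1
    rw [show g = 1 from Subtype.ext h1, map_one]
  obtain ⟨nf, hnf⟩ := CfsgLib.SharplyTwo.exists_nearField φ.range hsh (by rw [hcard]; exact h2f)
  letI := nf
  have haff : ∀ u v : {x : α // x ≠ a}, u ≠ 0 → ∃ h : G, h • a = a ∧ ∀ z : {x : α // x ≠ a}, h • (z : α) = ((z * u + v : {x : α // x ≠ a}) : α) := by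
    intro u v hu
    have hinj : Function.Injective fun z : {x : α // x ≠ a} => z * u + v := fun z z' e => by
      obtain ⟨w, hw, -⟩ := Cfsg.NearField.exists_inv u hu
      simpa [mul_assoc, hw] using congrArg (· * w) (add_right_cancel e)
    obtain ⟨g, hg⟩ := (hnf (Equiv.ofBijective _ (Finite.injective_iff_bijective.1 hinj))).2 ⟨u, v, hu, fun _ => rfl⟩
    exact ⟨g, g.2, fun z => (hval g z).symm.trans (congrArg Subtype.val (by rw [hg]; rfl))⟩
  -- the multiplications
  set b : α := ((0 : {x : α // x ≠ a}) : α) with hb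
  set c : α := ((1 : {x : α // x ≠ a}) : α) with hc
  have hab : a ≠ b := (0 : {x : α // x ≠ a}).2.symm
  have hac : a ≠ c := (1 : {x : α // x ≠ a}).2.symm
  have hbc : b ≠ c := fun e => Cfsg.NearField.zero_ne_one (Subtype.ext e)
  have hzmul : ∀ x : {x : α // x ≠ a}, (0 : {x : α // x ≠ a}) * x = 0 := fun x => by
    have h := Cfsg.NearField.right_distrib (0 : {x : α // x ≠ a}) 0 x
    rw [add_zero] at h
    exact add_eq_left.1 h.symm
  have hD : ∀ u : {x : α // x ≠ a}, u ≠ 0 → ∃ h : G, h • a = a ∧ h • b = b ∧ h • c = u ∧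
      ∀ z : {x : α // x ≠ a}, h • (z : α) = ((z * u : {x : α // x ≠ a}) : α) := fun u hu => by
    obtain ⟨h, h1, h2⟩ := haff u 0 hu
    simp only [add_zero] at h2
    exact ⟨h, h1, by rw [hb, h2, hzmul], by rw [hc, h2, one_mul], h2⟩
  obtain ⟨s, hsa, hsb, hsc⟩ := CfsgLib.SharpThree.exists_move h3 hab hac hbc hab.symm hbc hac
  have hss : s * s = 1 := CfsgLib.SharpThree.eq_one_of_three hsharp hab hac hbc
    (by rw [mul_smul, hsa, hsb]) (by rw [mul_smul, hsb, hsa]) (by rw [mul_smul, hsc, hsc])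
  have hfix : ∀ x, s • x = x → x = c := by
    intro x hx
    by_contra hxc
    have hs1 : s ≠ 1 := fun e => hab (by rw [← hsa, e, one_smul])
    have hset : (MulAction.toPerm s : Equiv.Perm α).supportᶜ = {x, c} := by
      ext y
      rw [Finset.mem_compl, Equiv.Perm.mem_support, not_not, Finset.mem_insert, Finset.mem_singleton]
      show s • y = y ↔ _
      refine ⟨fun hy => ?_, ?_⟩
      · by_contra hh
        push Not at hh
        exact hs1 (CfsgLib.SharpThree.eq_one_of_three hsharp hh.1 hh.2 hxc hy hx hsc)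
      · rintro (rfl | rfl)
        · exact hx
        · exact hsc
    have hmod := Equiv.Perm.card_compl_support_modEq (p := 2) (n := 1) (σ := (MulAction.toPerm s : Equiv.Perm α))
      (Equiv.ext fun y => by
        rw [pow_one, sq, Equiv.Perm.mul_apply]
        show s • s • y = y
        rw [← mul_smul, hss, one_smul])
    rw [hset, Finset.card_pair hxc, hα, Nat.ModEq] at hmod
    obtain ⟨k, rfl⟩ : ∃ k, f = k + 1 := ⟨f - 1, by omega⟩
    rw [pow_succ] at hmod
    omega
  let D : Subgroup G := MulAction.stabilizer G a ⊓ MulAction.stabilizer G b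
  have hsD : ∀ d ∈ D, s * d * s ∈ D := fun d hd => by
    obtain ⟨ha', hb'⟩ := Subgroup.mem_inf.1 hd
    rw [MulAction.mem_stabilizer_iff] at ha' hb'
    exact Subgroup.mem_inf.2 ⟨MulAction.mem_stabilizer_iff.2 (by rw [mul_smul, mul_smul, hsa, hb', hsb]),
      MulAction.mem_stabilizer_iff.2 (by rw [mul_smul, mul_smul, hsb, ha', hsa])⟩
  have hinvert : ∀ d ∈ D, s * d * s = d⁻¹ := by
    let ψ : D → D := fun d => ⟨(d : G)⁻¹ * (s * d * s), D.mul_mem (D.inv_mem d.2) (hsD d d.2)⟩
    have hψ : Function.Injective ψ := fun d d' e => by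
      have e' : (d : G)⁻¹ * (s * d * s) = (d' : G)⁻¹ * (s * d' * s) := congrArg Subtype.val e
      have hcom : s * ((d' : G) * (d : G)⁻¹) * s = (d' : G) * (d : G)⁻¹ := by
        have : (d' : G) * (d : G)⁻¹ = (s * d' * s) * (s * d * s)⁻¹ := by
          calc (d' : G) * (d : G)⁻¹ = d' * ((d : G)⁻¹ * (s * d * s)) * (s * d * s)⁻¹ := by group
            _ = _ := by rw [e']; group
        conv_rhs => rw [this]
        rw [mul_inv_rev, mul_inv_rev, inv_eq_of_mul_eq_one_right hss]
        simp only [mul_assoc]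
        rw [← mul_assoc s s, hss, one_mul]
      set k := (d' : G) * (d : G)⁻¹
      obtain ⟨hka, hkb⟩ := Subgroup.mem_inf.1 (D.mul_mem d'.2 (D.inv_mem d.2))
      have hkc : k • c = c := hfix _ (by
        rw [← mul_smul]
        have : s * k = k * s := by
          calc s * k = s * k * (s * s) := by rw [hss, mul_one]
            _ = (s * k * s) * s := by group
            _ = k * s := by rw [hcom]
        rw [this, mul_smul, hsc])
      exact Subtype.ext (mul_inv_eq_one.1 (CfsgLib.SharpThree.eq_one_of_three hsharp hab hac hbc hka hkb hkc)).symm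
    intro d hd
    obtain ⟨d₀, hd₀⟩ := (Finite.injective_iff_surjective.1 hψ) ⟨d, hd⟩
    have e : (d₀ : G)⁻¹ * (s * d₀ * s) = d := congrArg Subtype.val hd₀
    rw [← e, mul_inv_rev, mul_inv_rev, mul_inv_rev, inv_inv, inv_eq_of_mul_eq_one_right hss]
    simp only [mul_assoc]
    rw [hss, mul_one]
  have hcomm : ∀ u v : {x : α // x ≠ a}, u * v = v * u := fun u v => by
    by_cases hu : u = 0
    · rw [hu, hzmul, Cfsg.NearField.mul_zero]
    by_cases hv : v = 0
    · rw [hv, hzmul, Cfsg.NearField.mul_zero]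
    obtain ⟨g, hga, hgb, hgc, hg⟩ := hD u hu
    obtain ⟨k, hka, hkb, hkc, hk⟩ := hD v hv
    have hgD : g ∈ D := Subgroup.mem_inf.2 ⟨hga, hgb⟩
    have hkD : k ∈ D := Subgroup.mem_inf.2 ⟨hka, hkb⟩
    have e : g * k = k * g := by
      have := hinvert _ (D.mul_mem hgD hkD)
      rw [show s * (g * k) * s = (s * g * s) * (s * k * s) by
        simp only [mul_assoc]; rw [← mul_assoc s s, hss, one_mul], hinvert g hgD, hinvert k hkD, mul_inv_rev] at this
      calc g * k = (k⁻¹ * g⁻¹)⁻¹ := by group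
        _ = (g⁻¹ * k⁻¹)⁻¹ := by rw [this]
        _ = k * g := by group
    have := congrArg (fun w : G => w • c) e
    simp only [mul_smul, hkc, hgc] at this
    rw [hg, hk] at this
    exact (Subtype.ext this).symm
  have hldist : ∀ x y z : {x : α // x ≠ a}, x * (y + z) = x * y + x * z := fun x y z => by
    rw [hcomm, Cfsg.NearField.right_distrib, hcomm y, hcomm z]
  have haddc : ∀ x y : {x : α // x ≠ a}, x + y = y + x := fun x y => by
    have e1 : (1 + 1) * (x + y) = x + x + (y + y) := by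
      rw [hldist, Cfsg.NearField.right_distrib, Cfsg.NearField.right_distrib, one_mul, one_mul]
    rw [Cfsg.NearField.right_distrib, one_mul] at e1
    simp only [add_assoc] at e1
    have e2 := add_left_cancel e1
    rw [← add_assoc, ← add_assoc] at e2
    exact (add_right_cancel e2).symm
  letI crK : CommRing {x : α // x ≠ a} := CommRing.ofMinimalAxioms add_assoc zero_add neg_add_cancel mul_assoc hcomm one_mul hldist
  have hfield : IsField {x : α // x ≠ a} :=
    ⟨⟨0, 1, Cfsg.NearField.zero_ne_one⟩, mul_comm, fun {x} hx => let ⟨w, hw, _⟩ := Cfsg.NearField.exists_inv x hx; ⟨w, hw⟩⟩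
  letI fK : Field {x : α // x ≠ a} := hfield.toField
  haveI : Fact (Nat.Prime 2) := ⟨Nat.prime_two⟩
  letI : Fintype (GaloisField 2 f) := Fintype.ofFinite _
  have hFc : Fintype.card (GaloisField 2 f) = 2 ^ f := by
    rw [← Nat.card_eq_fintype_card, GaloisField.card 2 f (by omega)]
  let e : GaloisField 2 f ≃+* {x : α // x ≠ a} := FiniteField.ringEquivOfCardEq (hFc.trans hcard.symm)
  refine ⟨GaloisField 2 f, inferInstance, inferInstance, a, e.toEquiv, hFc, fun u v hu => ?_, s, ?_, ?_, fun z hz => ?_⟩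
  · obtain ⟨h, h1, h2⟩ := haff (e u) (e v) ((map_ne_zero_iff e e.injective).2 hu)
    refine ⟨h, h1, fun z => ?_⟩
    show h • ((e z : {x : α // x ≠ a}) : α) = ((e (z * u + v) : {x : α // x ≠ a}) : α)
    rw [h2, map_add, map_mul]
  · show s • a = ((e 0 : {x : α // x ≠ a}) : α)
    rw [map_zero, hsa]
  · show s • ((e 0 : {x : α // x ≠ a}) : α) = a
    rw [map_zero]; exact hsb
  · show s • ((e z : {x : α // x ≠ a}) : α) = ((e z⁻¹ : {x : α // x ≠ a}) : α)
    obtain ⟨g, hga, hgb, hgc, hg⟩ := hD (e z) ((map_ne_zero_iff e e.injective).2 hz)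
    have hgD : g ∈ D := Subgroup.mem_inf.2 ⟨hga, hgb⟩
    have h5 : g⁻¹ • c = s • ((e z : {x : α // x ≠ a}) : α) := by
      rw [← hinvert g hgD, mul_smul, mul_smul, hsc, hgc]
    rw [← h5, inv_smul_eq_iff, hg, ← map_mul, inv_mul_cancel₀ hz, map_one]

/-- A sharply triply transitive permutation group of degree `2^f + 1` is isomorphic to the projective general linear group of degree 2 over the field with `2^f` elements. -/
theorem result {α : Type*} [Fintype α] [DecidableEq α] {f : ℕ} (hf : 1 ≤ f) (hα : Fintype.card α = 2 ^ f + 1) (G : Subgroup (Equiv.Perm α)) (h3 : MulAction.IsMultiplyPretransitive G α 3) (hsharp : ∀ x : Fin 3 ↪ α, MulAction.stabilizer G x = ⊥) : ∃ (F : Type) (_ : Field F) (_ : Fintype F), Fintype.card F = 2 ^ f ∧ Nonempty (G ≃* Matrix.ProjGenLinGroup (Fin 2) F) := by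
  classical
  obtain ⟨F, _, _, a, ι, hF, haff, s, hsa, hsb, hs⟩ := fieldCoords hf hα G h3 hsharp
  refine ⟨F, inferInstance, inferInstance, hF, ?_⟩
  -- coordinates on the line
  let co : (Fin 2 → F) → α := fun v => if v 1 = 0 then a else ι (v 0 / v 1)
  let Φ : Projectivization F (Fin 2 → F) → α := Projectivization.lift (fun v => co v.1) fun v w t h => by
    have ht : t ≠ 0 := fun e => v.2 (by rw [h, e, zero_smul])
    show co v.1 = co w.1
    simp only [co, h, Pi.smul_apply, smul_eq_mul, mul_eq_zero, ht, false_or]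
    split_ifs with h1
    · rfl
    · rw [mul_div_mul_left _ _ ht]
  have hΦmk : ∀ v (hv : v ≠ 0), Φ (Projectivization.mk F v hv) = co v := fun v hv => rfl
  have hΦ : Function.Bijective Φ := by
    constructor
    · intro p q
      induction p using Projectivization.ind with | h v hv => ?_
      induction q using Projectivization.ind with | h w hw => ?_
      rw [hΦmk, hΦmk]
      intro h
      rw [Projectivization.mk_eq_mk_iff']
      simp only [co] at h
      split_ifs at h with h1 h2 h2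
      · have hv0 : v 0 ≠ 0 := fun e => hv (funext fun i => by fin_cases i <;> simp [e, h1])
        have hw0 : w 0 ≠ 0 := fun e => hw (funext fun i => by fin_cases i <;> simp [e, h2])
        exact ⟨v 0 / w 0, funext fun i => by fin_cases i <;> simp [h1, h2, div_mul_cancel₀ _ hw0]⟩
      · exact absurd h.symm (ι _).2
      · exact absurd h (ι _).2
      · have h3' := ι.injective (Subtype.ext h)
        exact ⟨v 1 / w 1, funext fun i => by fin_cases i <;> simp <;> field_simp at h3' ⊢ <;> linear_combination -h3'⟩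
    · intro x
      by_cases hx : x = a
      · exact ⟨Projectivization.mk F ![1, 0] (by simp), by rw [hΦmk]; simp [co, hx]⟩
      · exact ⟨Projectivization.mk F ![ι.symm ⟨x, hx⟩, 1] (by simp), by rw [hΦmk]; simp [co]⟩
  refine pglIso G hsharp Φ hΦ fun g => ?_
  set M : Matrix (Fin 2) (Fin 2) F := g.1 with hM
  have hdet : M 0 0 * M 1 1 - M 0 1 * M 1 0 ≠ 0 := by
    rw [← Matrix.det_fin_two]; exact g.det_ne_zero
  -- reduce to a computation with coordinates
  suffices h : ∃ h : G, ∀ v : Fin 2 → F, v ≠ 0 → h • co v = co (M.mulVec v) by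
    obtain ⟨h, hh⟩ := h
    exact ⟨h, fun v hv => by rw [hΦmk, Projectivization.PGL.mk_smul_mk, hΦmk]; exact hh v hv⟩
  have hMv : ∀ v : Fin 2 → F, M.mulVec v = ![M 0 0 * v 0 + M 0 1 * v 1, M 1 0 * v 0 + M 1 1 * v 1] := fun v => by
    ext i; fin_cases i <;> simp [Matrix.mulVec, dotProduct, Fin.sum_univ_two]
  by_cases hc : M 1 0 = 0
  · have hd : M 1 1 ≠ 0 := fun e => hdet (by rw [e, hc]; ring)
    have ha : M 0 0 ≠ 0 := fun e => hdet (by rw [e, hc]; ring)
    obtain ⟨h, h1, h2⟩ := haff (M 0 0 / M 1 1) (M 0 1 / M 1 1) (div_ne_zero ha hd)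
    refine ⟨h, fun v hv => ?_⟩
    rw [hMv]
    simp only [co, Matrix.cons_val_zero, Matrix.cons_val_one, Matrix.head_cons, hc, zero_mul, zero_add, mul_eq_zero, hd, false_or]
    split_ifs with hv1
    · exact h1
    · rw [h2]; congr 2; field_simp
  · obtain ⟨h₁, h1a, h1z⟩ := haff 1 (M 1 1 / M 1 0) one_ne_zero
    obtain ⟨h₂, h2a, h2z⟩ := haff ((M 0 1 * M 1 0 - M 0 0 * M 1 1) / (M 1 0 * M 1 0)) (M 0 0 / M 1 0)
      (div_ne_zero (fun e => hdet (by linear_combination -e)) (mul_ne_zero hc hc))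
    refine ⟨h₂ * (s * h₁), fun v hv => ?_⟩
    have hinf : ∀ w : Fin 2 → F, w 1 = 0 → co w = a := fun w h => if_pos h
    have hfin : ∀ w : Fin 2 → F, w 1 ≠ 0 → co w = ι (w 0 / w 1) := fun w h => if_neg h
    rw [hMv, mul_smul, mul_smul]
    by_cases hv1 : v 1 = 0
    · have hv0 : v 0 ≠ 0 := fun e => hv (funext fun i => by fin_cases i <;> simp [e, hv1])
      have hden : M 1 0 * v 0 + M 1 1 * v 1 ≠ 0 := by simp [hv1, hc, hv0]
      rw [hinf v hv1, h1a, hsa, h2z, hfin ![_, _] hden, zero_mul, zero_add]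
      congr 2
      show M 0 0 / M 1 0 = (M 0 0 * v 0 + M 0 1 * v 1) / (M 1 0 * v 0 + M 1 1 * v 1)
      rw [hv1]; field_simp; ring
    · rw [hfin v hv1, h1z, mul_one]
      by_cases hz : M 1 0 * v 0 + M 1 1 * v 1 = 0
      · have h0 : v 0 / v 1 + M 1 1 / M 1 0 = 0 := by field_simp; linear_combination hz
        rw [h0, hsb, h2a]
        exact (hinf ![_, _] hz).symm
      · have h0 : v 0 / v 1 + M 1 1 / M 1 0 ≠ 0 := fun e => hz (by field_simp at e; linear_combination e)
        rw [hs _ h0, h2z, hfin ![_, _] hz]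
        congr 2
        show _ = (M 0 0 * v 0 + M 0 1 * v 1) / (M 1 0 * v 0 + M 1 1 * v 1)
        have h6 : v 0 * M 1 0 + v 1 * M 1 1 ≠ 0 := fun e => hz (by linear_combination e)
        field_simp
        ring

end Cfsg.Agent.S0727
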