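import Cfsg.Statements.S0572
import Mathlib
-- import your own Cfsg.Agent.* helpers here

set_option autoImplicit false
open Cfsg

namespace Cfsg.Agent.S0572

open scoped commutatorElement

/-- Itô's Theorem: if a group G is the product AB of two abelian subgroups, then the commutator subgroup of G is abelian, i.e. the second term of the derived series is trivial. -/
theorem result {G : Type*} [Group G] (A B : Subgroup G) [IsMulCommutative A] [IsMulCommutative B] (hAB : ∀ g : G, ∃ a ∈ A, ∃ b ∈ B, g = a * b) : derivedSeries G 2 = ⊥ := by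
  have hcA : ∀ a ∈ A, ∀ a' ∈ A, a * a' = a' * a := fun a ha a' ha' =>
    congrArg Subtype.val (IsMulCommutative.is_comm.comm (⟨a, ha⟩ : A) ⟨a', ha'⟩)
  have hcB : ∀ a ∈ B, ∀ a' ∈ B, a * a' = a' * a := fun a ha a' ha' =>
    congrArg Subtype.val (IsMulCommutative.is_comm.comm (⟨a, ha⟩ : B) ⟨a', ha'⟩)
  -- commutators `[a, b]` commute
  have hAB' : ∀ g : G, ∃ b ∈ B, ∃ a ∈ A, g = b * a := fun g => by
    obtain ⟨a, ha, b, hb, e⟩ := hAB g⁻¹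
    exact ⟨b⁻¹, inv_mem hb, a⁻¹, inv_mem ha, by rw [← mul_inv_rev, ← e, inv_inv]⟩
  have hcc : ∀ a ∈ A, ∀ b ∈ B, ∀ a₁ ∈ A, ∀ b₁ ∈ B, Commute ⁅a, b⁆ ⁅a₁⁻¹, b₁⁻¹⁆ := by
    intro a ha b hb a₁ ha₁ b₁ hb₁
    -- conjugating `[a, b]` by `a₁ b₁` and by `b₁ a₁` agree
    obtain ⟨b₂, hb₂, a₂, ha₂, e1⟩ := hAB' (a₁ * b * a₁⁻¹)
    obtain ⟨a₃, ha₃, b₃, hb₃, e2⟩ := hAB (b₁ * a * b₁⁻¹)
    have c1 : a₁ * ⁅a, b⁆ * a₁⁻¹ = ⁅a, b₂⁆ := by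
      calc a₁ * ⁅a, b⁆ * a₁⁻¹ = (a₁ * a) * b * (a⁻¹ * a₁⁻¹) * (a₁ * b * a₁⁻¹)⁻¹ := by
            simp only [commutatorElement_def]; group
        _ = (a * a₁) * b * (a₁⁻¹ * a⁻¹) * (b₂ * a₂)⁻¹ := by
            rw [hcA a₁ ha₁ a ha, hcA a⁻¹ (inv_mem ha) a₁⁻¹ (inv_mem ha₁), e1]
        _ = a * (b₂ * a₂) * a⁻¹ * (b₂ * a₂)⁻¹ := by rw [← e1]; group
        _ = a * b₂ * (a₂ * a⁻¹) * a₂⁻¹ * b₂⁻¹ := by group
        _ = ⁅a, b₂⁆ := by rw [hcA a₂ ha₂ a⁻¹ (inv_mem ha), commutatorElement_def]; group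
    have c2 : b₁ * ⁅a, b⁆ * b₁⁻¹ = ⁅a₃, b⁆ := by
      calc b₁ * ⁅a, b⁆ * b₁⁻¹ = (b₁ * a * b₁⁻¹) * (b₁ * b) * a⁻¹ * (b⁻¹ * b₁⁻¹) := by
            simp only [commutatorElement_def]; group
        _ = (a₃ * b₃) * (b * b₁) * a⁻¹ * (b₁⁻¹ * b⁻¹) := by
            rw [hcB b₁ hb₁ b hb, hcB b⁻¹ (inv_mem hb) b₁⁻¹ (inv_mem hb₁), e2]
        _ = a₃ * (b₃ * b) * (b₁ * a * b₁⁻¹)⁻¹ * b⁻¹ := by group
        _ = a₃ * (b * b₃) * (a₃ * b₃)⁻¹ * b⁻¹ := by rw [hcB b₃ hb₃ b hb, e2]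
        _ = ⁅a₃, b⁆ := by rw [commutatorElement_def]; group
    have c3 : b₁ * ⁅a, b₂⁆ * b₁⁻¹ = ⁅a₃, b₂⁆ := by
      calc b₁ * ⁅a, b₂⁆ * b₁⁻¹ = (b₁ * a * b₁⁻¹) * (b₁ * b₂) * a⁻¹ * (b₂⁻¹ * b₁⁻¹) := by
            simp only [commutatorElement_def]; group
        _ = (a₃ * b₃) * (b₂ * b₁) * a⁻¹ * (b₁⁻¹ * b₂⁻¹) := by
            rw [hcB b₁ hb₁ b₂ hb₂, hcB b₂⁻¹ (inv_mem hb₂) b₁⁻¹ (inv_mem hb₁), e2]
        _ = a₃ * (b₃ * b₂) * (b₁ * a * b₁⁻¹)⁻¹ * b₂⁻¹ := by group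
        _ = a₃ * (b₂ * b₃) * (a₃ * b₃)⁻¹ * b₂⁻¹ := by rw [hcB b₃ hb₃ b₂ hb₂, e2]
        _ = ⁅a₃, b₂⁆ := by rw [commutatorElement_def]; group
    have c4 : a₁ * ⁅a₃, b⁆ * a₁⁻¹ = ⁅a₃, b₂⁆ := by
      calc a₁ * ⁅a₃, b⁆ * a₁⁻¹ = (a₁ * a₃) * b * (a₃⁻¹ * a₁⁻¹) * (a₁ * b * a₁⁻¹)⁻¹ := by
            simp only [commutatorElement_def]; group
        _ = (a₃ * a₁) * b * (a₁⁻¹ * a₃⁻¹) * (b₂ * a₂)⁻¹ := by
            rw [hcA a₁ ha₁ a₃ ha₃, hcA a₃⁻¹ (inv_mem ha₃) a₁⁻¹ (inv_mem ha₁), e1]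
        _ = a₃ * (b₂ * a₂) * a₃⁻¹ * (b₂ * a₂)⁻¹ := by rw [← e1]; group
        _ = a₃ * b₂ * (a₂ * a₃⁻¹) * a₂⁻¹ * b₂⁻¹ := by group
        _ = ⁅a₃, b₂⁆ := by rw [hcA a₂ ha₂ a₃⁻¹ (inv_mem ha₃), commutatorElement_def]; group
    have key : a₁ * b₁ * ⁅a, b⁆ * (a₁ * b₁)⁻¹ = b₁ * a₁ * ⁅a, b⁆ * (b₁ * a₁)⁻¹ := by
      calc a₁ * b₁ * ⁅a, b⁆ * (a₁ * b₁)⁻¹ = a₁ * (b₁ * ⁅a, b⁆ * b₁⁻¹) * a₁⁻¹ := by group
        _ = b₁ * (a₁ * ⁅a, b⁆ * a₁⁻¹) * b₁⁻¹ := by rw [c2, c1, c3, c4]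
        _ = b₁ * a₁ * ⁅a, b⁆ * (b₁ * a₁)⁻¹ := by group
    have h5 : Commute ⁅a, b⁆ ⁅a₁⁻¹, b₁⁻¹⁆ := by
      have h6 := congrArg (fun t => (b₁ * a₁)⁻¹ * t * (a₁ * b₁)) key
      simp only [commutatorElement_def, inv_inv] at h6 ⊢
      unfold Commute SemiconjBy
      calc _ = (b₁ * a₁)⁻¹ * (b₁ * a₁ * (a * b * a⁻¹ * b⁻¹) * (b₁ * a₁)⁻¹) * (a₁ * b₁) := by group
        _ = _ := by rw [← h6]; group
    exact h5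
  have hcc' : ∀ a ∈ A, ∀ b ∈ B, ∀ a₁ ∈ A, ∀ b₁ ∈ B, Commute ⁅a, b⁆ ⁅a₁, b₁⁆ := by
    intro a ha b hb a₁ ha₁ b₁ hb₁
    simpa using hcc a ha b hb a₁⁻¹ (inv_mem ha₁) b₁⁻¹ (inv_mem hb₁)
  set C : Set G := {c | ∃ a ∈ A, ∃ b ∈ B, c = ⁅a, b⁆} with hC
  set T := Subgroup.closure C with hT
  have hgen : ∀ g : G, ∀ c ∈ C, (g ∈ A ∨ g ∈ B) → g * c * g⁻¹ ∈ T := by
    rintro g _ ⟨a, ha, b, hb, rfl⟩ (hg | hg)
    · have h1 : ∀ x ∈ A, ∀ y ∈ B, ⁅x, y⁆ ∈ T := fun x hx y hy => Subgroup.subset_closure ⟨x, hx, y, hy, rfl⟩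
      rw [show g * ⁅a, b⁆ * g⁻¹ = ⁅g * a, b⁆ * ⁅g, b⁆⁻¹ by simp only [commutatorElement_def]; group]
      exact mul_mem (h1 _ (mul_mem hg ha) b hb) (inv_mem (h1 g hg b hb))
    · have h1 : ∀ x ∈ A, ∀ y ∈ B, ⁅x, y⁆ ∈ T := fun x hx y hy => Subgroup.subset_closure ⟨x, hx, y, hy, rfl⟩
      rw [show g * ⁅a, b⁆ * g⁻¹ = ⁅a, g⁆⁻¹ * ⁅a, g * b⁆ by simp only [commutatorElement_def]; group]
      exact mul_mem (inv_mem (h1 a ha g hg)) (h1 a ha _ (mul_mem hg hb))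
  have hTn : T.Normal := by
    refine ⟨fun t ht g => ?_⟩
    have h1 : ∀ g, g ∈ A ∨ g ∈ B → ∀ t ∈ T, g * t * g⁻¹ ∈ T := fun g hg t ht => by
      have h2 : T ≤ T.comap (MulAut.conj g).toMonoidHom := by
        rw [hT, Subgroup.closure_le]
        exact fun c hc => hgen g c hc hg
      exact h2 ht
    obtain ⟨a, ha, b, hb, rfl⟩ := hAB g
    rw [show a * b * t * (a * b)⁻¹ = a * (b * t * b⁻¹) * a⁻¹ by group]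
    exact h1 a (Or.inl ha) _ (h1 b (Or.inr hb) t ht)
  have hG' : derivedSeries G 1 ≤ T := by
    rw [derivedSeries_one, commutator_def, Subgroup.commutator_le]
    intro x _ y _
    rw [← QuotientGroup.eq_one_iff]
    show QuotientGroup.mk' T ⁅x, y⁆ = 1
    rw [map_commutatorElement, commutatorElement_eq_one_iff_mul_comm]
    obtain ⟨a, ha, b, hb, rfl⟩ := hAB x
    obtain ⟨c, hc, d, hd, rfl⟩ := hAB y
    have hq : ∀ u ∈ A, ∀ v ∈ B, Commute (QuotientGroup.mk' T u) (QuotientGroup.mk' T v) := fun u hu v hv => by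
      have h1 : QuotientGroup.mk' T ⁅u, v⁆ = 1 :=
        (QuotientGroup.eq_one_iff _).mpr (Subgroup.subset_closure ⟨u, hu, v, hv, rfl⟩)
      rwa [map_commutatorElement, commutatorElement_eq_one_iff_mul_comm] at h1
    rw [map_mul, map_mul]
    exact ((Commute.map (hcA a ha c hc) _).mul_right (hq a ha d hd)).mul_left
      ((hq c hc b hb).symm.mul_right (Commute.map (hcB b hb d hd) _))
  rw [derivedSeries_succ, eq_bot_iff]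
  refine (Subgroup.commutator_mono hG' hG').trans (le_of_eq ?_)
  rw [Subgroup.commutator_eq_bot_iff_le_centralizer, hT, Subgroup.closure_le, Subgroup.centralizer_closure]
  rintro _ ⟨a, ha, b, hb, rfl⟩
  rw [SetLike.mem_coe, Subgroup.mem_centralizer_iff]
  rintro _ ⟨a₁, ha₁, b₁, hb₁, rfl⟩
  exact (hcc' a₁ ha₁ b₁ hb₁ a ha b hb).eq

end Cfsg.Agent.S0572
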