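import Cfsg.Statements.S1447
import Mathlib
import Cfsg.Agent.Lib.PGroup.MetacyclicAction
import Cfsg.Agent.Lib.PGroup.RankTwoNormal
import Cfsg.Agent.Lib.Coprime
import Cfsg.Agent.Lib.CoprimeGen
import Cfsg.Agent.Lib.UniqueSubgroup
-- import your own Cfsg.Agent.* helpers here

set_option autoImplicit false
open Cfsg

namespace Cfsg.Agent.S1447

open scoped commutatorElement

/-- Let G be a finite group, p an odd prime, R a metacyclic p-subgroup and A a subgroup of order coprime to p normalizing R. Then [R, A] is abelian; R is generated by [R, A] and R ∩ C_G(A), which meet trivially; and if R is non-abelian and A does not centralize R, then [R, A] and R ∩ C_G(A) are nontrivial cyclic groups and [R, R] ≤ [R, A]. -/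
theorem result {G : Type*} [Group G] [Finite G] (p : ℕ) [Fact p.Prime] (hp : p ≠ 2) (R A : Subgroup G) (hR : IsPGroup p R) (hRm : Cfsg.IsMetacyclic R)
    (hA : (A ≤ Subgroup.normalizer (R : Set G))) (hcop : (Nat.card A).Coprime p) :
    IsMulCommutative ↥⁅R, A⁆ ∧ ⁅R, A⁆ ⊔ (R ⊓ Subgroup.centralizer (A : Set G)) = R ∧ ⁅R, A⁆ ⊓ (R ⊓ Subgroup.centralizer (A : Set G)) = ⊥ ∧
      (¬ IsMulCommutative R → ¬ A ≤ Subgroup.centralizer (R : Set G) →
        ⁅R, A⁆ ≠ ⊥ ∧ IsCyclic ↥⁅R, A⁆ ∧ (R ⊓ Subgroup.centralizer (A : Set G)) ≠ ⊥ ∧ IsCyclic ↥(R ⊓ Subgroup.centralizer (A : Set G)) ∧ ⁅R, R⁆ ≤ ⁅R, A⁆) := by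
  classical
  have hpp := (Fact.out : p.Prime)
  set B := ⁅R, A⁆ with hBdef
  set C := R ⊓ Subgroup.centralizer (A : Set G) with hCdef
  have hBR : B ≤ R := CfsgLib.commutator_le_of_le_normalizer hA
  have hcopR : (Nat.card A).Coprime (Nat.card R) := by
    obtain ⟨k, hk⟩ := IsPGroup.iff_card.1 hR
    rw [hk]; exact hcop.pow_right k
  have hsolv : Group.IsSolvable A ∨ Group.IsSolvable R := by
    haveI := hR.isNilpotent
    exact Or.inr inferInstance
  have hsup : B ⊔ C = R := CfsgLib.coprime_commutator_sup hA hcopR hsolv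
  have hBA : ⁅B, A⁆ = B := CfsgLib.coprime_commutator_commutator hA hcopR hsolv
  have hAB : A ≤ Subgroup.normalizer (B : Set G) := CfsgLib.right_le_normalizer_commutator A R
  have hRB : R ≤ Subgroup.normalizer (B : Set G) := CfsgLib.left_le_normalizer_commutator A R
  have hBc : IsMulCommutative B := by
    set S := B.subgroupOf R with hS
    let e : S ≃* B := Subgroup.subgroupOfEquivOfLe hBR
    let φ : A →* MulAut S := ((MulAut.congr e.symm).toMonoidHom).comp
      ((Subgroup.normalizerMonoidHom B).comp (Subgroup.inclusion hAB))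
    have hgen : ∀ H : Subgroup S, (∀ a r, r⁻¹ * φ a r ∈ H) → H = ⊤ := by
      intro H hH
      have hle : B ≤ H.map (R.subtype.comp S.subtype) := by
        conv_lhs => rw [← hBA]
        rw [Subgroup.commutator_le]
        intro b hb a ha
        refine ⟨((⟨⟨b⁻¹, inv_mem (hBR hb)⟩, inv_mem hb⟩ : S))⁻¹ *
          φ ⟨a, ha⟩ ⟨⟨b⁻¹, inv_mem (hBR hb)⟩, inv_mem hb⟩, hH _ _, ?_⟩
        show b⁻¹⁻¹ * (a * b⁻¹ * a⁻¹) = ⁅b, a⁆
        rw [commutatorElement_def]
        group
      rw [eq_top_iff]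
      intro s _
      obtain ⟨h, hh, heq⟩ := hle (Subgroup.mem_subgroupOf.1 s.2)
      exact (Subtype.ext (Subtype.ext heq) : h = s) ▸ hh
    have hab := CfsgLib.MetaAction.commutative_of_generated hp (hR.to_subgroup S)
      (CfsgLib.MetaAction.isMetacyclic_subgroup hRm S) φ hcop hgen
    exact ⟨⟨fun a b => Subtype.ext (congrArg (fun z : S => ((z : R) : G)) (hab ⟨⟨a, hBR a.2⟩, a.2⟩ ⟨⟨b, hBR b.2⟩, b.2⟩) :)⟩⟩
  haveI := hBc
  have hdisj : B ⊓ C = ⊥ := by
    have h := CfsgLib.coprime_abelian_disjoint A B hAB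
      (hcopR.coprime_dvd_right (Subgroup.card_dvd_of_le hBR))
    rw [hBA] at h
    rw [eq_bot_iff, ← h]
    intro x hx
    exact Subgroup.mem_inf.2 ⟨Subgroup.mem_inf.2 ⟨(Subgroup.mem_inf.1 hx).1, (Subgroup.mem_inf.1 (Subgroup.mem_inf.1 hx).2).2⟩,
      (Subgroup.mem_inf.1 hx).1⟩
  refine ⟨hBc, hsup, hdisj, fun hnab hncen => ?_⟩
  have hBne : B ≠ ⊥ := fun h => hncen
    (Subgroup.le_centralizer_iff.1 (Subgroup.commutator_eq_bot_iff_le_centralizer.1 h))
  have hCne : C ≠ ⊥ := by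
    intro h
    rw [h, sup_bot_eq] at hsup
    exact hnab (hsup ▸ hBc)
  set Bs := B.subgroupOf R with hBs
  set Cs := C.subgroupOf R with hCs
  haveI hBn : Bs.Normal := (Subgroup.normal_subgroupOf_iff_le_normalizer hBR).2 hRB
  have hdisj' : ∀ x : R, x ∈ Bs → x ∈ Cs → x = 1 := fun x h1 h2 =>
    Subtype.ext (Subgroup.mem_bot.1 (hdisj.le (Subgroup.mem_inf.2 ⟨h1, h2⟩)))
  have hBsne : Bs ≠ ⊥ := fun h => hBne (by
    rw [← Subgroup.map_subgroupOf_eq_of_le hBR, ← hBs, h, Subgroup.map_bot])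
  have hCsne : Cs ≠ ⊥ := fun h => hCne (by
    rw [← Subgroup.map_subgroupOf_eq_of_le (show C ≤ R from inf_le_left), ← hCs, h, Subgroup.map_bot])
  have hBscomm : ∀ a ∈ Bs, ∀ b ∈ Bs, a * b = b * a := fun a ha b hb =>
    Subtype.ext (congrArg Subtype.val (hBc.is_comm.comm (⟨(a : G), ha⟩ : B) ⟨(b : G), hb⟩) :)
  obtain ⟨c, hcC, hc⟩ : ∃ c ∈ Cs, orderOf c = p := by
    haveI : Nontrivial Cs := (Subgroup.nontrivial_iff_ne_bot _).2 hCsne
    obtain ⟨n, hn⟩ := IsPGroup.iff_card.1 (hR.to_subgroup Cs)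
    obtain ⟨x, hx⟩ := exists_prime_orderOf_dvd_card' (G := Cs) p (by
      rw [hn]
      rcases n with _ | n
      · rw [pow_zero] at hn
        exact absurd hn (Finite.one_lt_card).ne'
      · exact dvd_pow_self p n.succ_ne_zero)
    exact ⟨x, x.2, by rw [Subgroup.orderOf_coe, hx]⟩
  have hBcyc : IsCyclic Bs := by
    by_contra hnc
    haveI : IsMulCommutative Bs := ⟨⟨fun a b => Subtype.ext (hBscomm a a.2 b b.2)⟩⟩
    obtain ⟨q, hq, a, b, haq, hbq, hba⟩ := CfsgLib.exists_two_generators_of_not_cyclic (A := Bs) hnc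
    obtain rfl : q = p := by
      obtain ⟨k, hk⟩ := IsPGroup.iff_orderOf.1 (hR.to_subgroup Bs) a
      rw [haq] at hk
      exact (Nat.prime_dvd_prime_iff_eq hq hpp).1 (hq.dvd_of_dvd_pow hk.dvd)
    let W0 : Subgroup R :=
      { carrier := {x | x ∈ Bs ∧ x ^ q = 1}
        one_mem' := ⟨one_mem Bs, one_pow _⟩
        mul_mem' := fun {x y} hx hy => ⟨mul_mem hx.1 hy.1, by
          rw [(show Commute x y from hBscomm x hx.1 y hy.1).mul_pow, hx.2, hy.2, one_mul]⟩
        inv_mem' := fun {x} hx => ⟨inv_mem hx.1, by rw [inv_pow, hx.2, inv_one]⟩ }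
    haveI hW0n : W0.Normal := ⟨fun x hx g => ⟨hBn.conj_mem x hx.1 g, by rw [conj_pow, hx.2, mul_one, mul_inv_cancel]⟩⟩
    have haW : (a : R) ∈ W0 := ⟨a.2, by rw [← haq, ← Subgroup.orderOf_coe, pow_orderOf_eq_one]⟩
    have hbW : (b : R) ∈ W0 := ⟨b.2, by rw [← hbq, ← Subgroup.orderOf_coe, pow_orderOf_eq_one]⟩
    set W := Subgroup.zpowers c ⊔ W0 with hW
    have hWcard : Nat.card W ≤ q ^ 3 := by
      refine (CfsgLib.PGroupOmega.card_sup_le _ _).trans ?_
      rw [Nat.card_zpowers, hc, pow_succ' q 2]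
      exact Nat.mul_le_mul_left _ (CfsgLib.MetaAction.card_exp_le hRm W0 (fun w hw => hw.2))
    have hcl2 := CfsgLib.PGroupOmega.class_two_of_card_le (hR.to_subgroup W) hWcard
    have hcW0 : ∀ x y : W, (⁅(x : R), (y : R)⁆) ∈ W0 := by
      intro x y
      obtain ⟨x1, hx1, x2, hx2, hxe⟩ := Subgroup.mem_sup_of_normal_right.1 x.2
      obtain ⟨y1, hy1, y2, hy2, hye⟩ := Subgroup.mem_sup_of_normal_right.1 y.2
      obtain ⟨i, rfl⟩ := Subgroup.mem_zpowers_iff.1 hx1
      obtain ⟨j, rfl⟩ := Subgroup.mem_zpowers_iff.1 hy1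
      rw [← QuotientGroup.eq_one_iff, ← hxe, ← hye]
      show QuotientGroup.mk' W0 ⁅c ^ i * x2, c ^ j * y2⁆ = 1
      rw [map_commutatorElement, map_mul, map_mul]
      simp only [QuotientGroup.mk'_apply]
      rw [(QuotientGroup.eq_one_iff x2).2 hx2, (QuotientGroup.eq_one_iff y2).2 hy2, mul_one, mul_one,
        commutatorElement_eq_one_iff_mul_comm, ← QuotientGroup.mk_mul, ← QuotientGroup.mk_mul,
        ((Commute.refl c).zpow_zpow i j).eq]
    have hcen : commutator W ≤ Subgroup.center W := by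
      intro d hd
      rw [Subgroup.mem_center_iff]
      intro g
      exact (commutatorElement_eq_one_iff_mul_comm.1
        (Subgroup.mem_bot.1 (hcl2.le (Subgroup.commutator_mem_commutator hd (Subgroup.mem_top g))))).symm
    have hdle : commutator W ≤ W0.subgroupOf W := by
      rw [commutator_def, Subgroup.commutator_le]
      intro x _ y _
      rw [Subgroup.mem_subgroupOf]
      exact hcW0 x y
    have hmul := CfsgLib.CyclicMax.mul_pow_of_central_commutators (R := W) hp hcen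
      (fun d hd => Subtype.ext ((Subgroup.mem_subgroupOf.1 (hdle hd)).2))
    have hWe : ∀ w ∈ W, w ^ q = 1 := by
      intro w hw
      obtain ⟨x1, hx1, x2, hx2, hxe⟩ := Subgroup.mem_sup_of_normal_right.1 hw
      have h := congrArg Subtype.val (hmul ⟨x1, Subgroup.mem_sup_left hx1⟩ ⟨x2, Subgroup.mem_sup_right hx2⟩)
      push_cast at h
      rw [← hxe, h, hx2.2, mul_one]
      obtain ⟨i, rfl⟩ := Subgroup.mem_zpowers_iff.1 hx1
      rw [← zpow_natCast, ← zpow_mul, mul_comm, zpow_mul, zpow_natCast, ← hc, pow_orderOf_eq_one, one_zpow]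
    have h2 := CfsgLib.MetaAction.card_exp_le hRm W hWe
    obtain ⟨k, hk⟩ := IsPGroup.iff_card.1 (hR.to_subgroup W0)
    have hk2 : 2 ≤ k := by
      by_contra hlt
      have heq : Subgroup.zpowers (a : R) = W0 := Subgroup.eq_of_le_of_card_ge (Subgroup.zpowers_le.2 haW) (by
        rw [hk, Nat.card_zpowers, Subgroup.orderOf_coe, haq]
        calc q ^ k ≤ q ^ 1 := Nat.pow_le_pow_right hpp.pos (by omega)
          _ = q := pow_one q)
      obtain ⟨i, hi⟩ := Subgroup.mem_zpowers_iff.1 (heq.ge hbW)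
      exact hba (Subgroup.mem_zpowers_iff.2 ⟨i, Subtype.ext (by rw [Subgroup.coe_zpow]; exact hi)⟩)
    have heq : W0 = W := Subgroup.eq_of_le_of_card_ge le_sup_right (h2.trans (by
      rw [hk]; exact Nat.pow_le_pow_right hpp.pos hk2))
    have hc1 := hdisj' c (heq.ge (Subgroup.mem_sup_left (Subgroup.mem_zpowers c))).1 hcC
    rw [hc1, orderOf_one] at hc
    exact hpp.one_lt.ne hc
  have hCcyc : IsCyclic Cs := by
    haveI : Nontrivial Cs := (Subgroup.nontrivial_iff_ne_bot _).2 hCsne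
    haveI := (hR.to_subgroup Cs).center_nontrivial
    obtain ⟨z, hz⟩ := exists_prime_orderOf_dvd_card' (G := Subgroup.center Cs) p (by
      obtain ⟨n, hn⟩ := IsPGroup.iff_card.1 ((hR.to_subgroup Cs).to_subgroup (Subgroup.center Cs))
      rw [hn]
      rcases n with _ | n
      · rw [pow_zero] at hn
        exact absurd hn (Finite.one_lt_card).ne'
      · exact dvd_pow_self p n.succ_ne_zero)
    refine (CfsgLib.UniqueSubgroup.cyclic_or_quaternion (hR.to_subgroup Cs) (z := (z : Cs))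
      (by rw [Subgroup.orderOf_coe, hz]) (fun x hx => ?_)).resolve_right (fun h => hp h.1)
    haveI : Nontrivial Bs := (Subgroup.nontrivial_iff_ne_bot _).2 hBsne
    obtain ⟨M, hMn, hMB, hMc⟩ := CfsgLib.PGroupRankTwo.exists_normal_card hR Bs 1 (by
      obtain ⟨n, hn⟩ := IsPGroup.iff_card.1 (hR.to_subgroup Bs)
      rw [hn]
      rcases n with _ | n
      · rw [pow_zero] at hn
        exact absurd hn (Finite.one_lt_card).ne'
      · exact Nat.pow_le_pow_right hpp.pos (by omega))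
    rw [pow_one] at hMc
    haveI := hMn
    have hMcen : ∀ m ∈ M, ∀ g : R, g * m = m * g := by
      intro m hm g
      have h := CfsgLib.PGroupRankTwo.step_central hR (bot_le : (⊥ : Subgroup R) ≤ M) (by rw [hMc]; simp) g hm
      rw [Subgroup.mem_bot, inv_mul_eq_one] at h
      exact (mul_inv_eq_iff_eq_mul.1 h.symm)
    have hzp : ((z : Cs) : R) ^ p = 1 := by
      rw [← Subgroup.coe_pow, ← Subgroup.coe_pow, ← hz, pow_orderOf_eq_one]; rfl
    have hxp : (x : R) ^ p = 1 := by rw [← Subgroup.coe_pow, hx]; rfl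
    have hzx : ((z : Cs) : R) * (x : R) = (x : R) * ((z : Cs) : R) :=
      congrArg Subtype.val (Subgroup.mem_center_iff.1 z.2 x).symm
    set T := Subgroup.closure ((M : Set R) ∪ {((z : Cs) : R), (x : R)}) with hT
    have hgens : ∀ u ∈ (M : Set R) ∪ {((z : Cs) : R), (x : R)}, ∀ v ∈ (M : Set R) ∪ {((z : Cs) : R), (x : R)}, u * v = v * u := by
      simp only [Set.mem_union, Set.mem_insert_iff, Set.mem_singleton_iff, SetLike.mem_coe]
      rintro u (hu | hu | hu) v (hv | hv | hv)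
      all_goals first
        | exact (hMcen u hu v).symm
        | exact hMcen v hv u
        | (rw [hu, hv])
      · exact hzx
      · exact hzx.symm
    haveI := Subgroup.isMulCommutative_closure hgens
    have hTc : ∀ u ∈ T, ∀ v ∈ T, u * v = v * u :=
      fun u hu v hv => congrArg Subtype.val (mul_comm' (⟨u, hu⟩ : T) ⟨v, hv⟩)
    have hTe : ∀ u ∈ T, u ^ p = 1 := by
      intro u hu
      induction hu using Subgroup.closure_induction with
      | mem u hu =>
        rcases hu with hu | hu | hu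
        · have h := congrArg Subtype.val (pow_card_eq_one' (G := M) (x := ⟨u, hu⟩))
          rwa [hMc] at h
        · rw [hu]; exact hzp
        · rw [Set.mem_singleton_iff.1 hu]; exact hxp
      | one => exact one_pow _
      | mul u v hu hv h1 h2 => rw [(show Commute u v from hTc u hu v hv).mul_pow, h1, h2, one_mul]
      | inv u _ h => rw [inv_pow, h, inv_one]
    set T2 := Subgroup.zpowers ((z : Cs) : R) ⊔ M with hT2
    have hzord : orderOf ((z : Cs) : R) = p := by rw [Subgroup.orderOf_coe, Subgroup.orderOf_coe, hz]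
    have hT2le : T2 ≤ T := sup_le (Subgroup.zpowers_le.2 (Subgroup.subset_closure (Or.inr (Or.inl rfl))))
      (fun m hm => Subgroup.subset_closure (Or.inl hm))
    have heq : T2 = T := by
      refine Subgroup.eq_of_le_of_card_ge hT2le ((CfsgLib.MetaAction.card_exp_le hRm T hTe).trans ?_)
      obtain ⟨k, hk⟩ := IsPGroup.iff_card.1 (hR.to_subgroup T2)
      rw [hk]
      refine Nat.pow_le_pow_right hpp.pos ?_
      by_contra hlt
      have heq : M = T2 := Subgroup.eq_of_le_of_card_ge le_sup_right (by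
        rw [hk, hMc]
        calc p ^ k ≤ p ^ 1 := Nat.pow_le_pow_right hpp.pos (by omega)
          _ = p := pow_one p)
      have h1 := hdisj' _ (hMB (heq.ge (Subgroup.mem_sup_left (Subgroup.mem_zpowers _)))) (z : Cs).2
      rw [h1, orderOf_one] at hzord
      exact hpp.one_lt.ne hzord
    obtain ⟨u, hu, m, hm, hum⟩ := Subgroup.mem_sup_of_normal_right.1
      (heq.ge (Subgroup.subset_closure (Or.inr (Or.inr rfl)) : (x : R) ∈ T))
    obtain ⟨k, hk⟩ := Subgroup.mem_zpowers_iff.1 hu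
    have hm1 : m = 1 := by
      refine hdisj' m (hMB hm) ?_
      have h : m = u⁻¹ * (x : R) := by rw [← hum, inv_mul_cancel_left]
      rw [h, ← hk]
      exact mul_mem (inv_mem (zpow_mem (z : Cs).2 k)) x.2
    refine Subgroup.mem_zpowers_iff.2 ⟨k, Subtype.ext ?_⟩
    rw [Subgroup.coe_zpow, hk, ← hum, hm1, mul_one]
  haveI := hBcyc
  haveI := hCcyc
  refine ⟨hBne, isCyclic_of_surjective (Subgroup.subgroupOfEquivOfLe hBR).toMonoidHom (MulEquiv.surjective _),
    hCne, isCyclic_of_surjective (Subgroup.subgroupOfEquivOfLe (inf_le_left : C ≤ R)).toMonoidHom (MulEquiv.surjective _), ?_⟩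
  rw [Subgroup.commutator_le]
  intro r hr s hs
  have hdec : ∀ r' : R, ∃ c' : Cs, (QuotientGroup.mk r' : R ⧸ Bs) = QuotientGroup.mk (c' : R) := by
    intro r'
    obtain ⟨u, hu, v, hv, huv⟩ := CfsgLib.coprime_decomp hA hcopR hsolv r'.2
    refine ⟨⟨⟨v, hv.1⟩, hv⟩, ?_⟩
    have h : (⟨u, hBR hu⟩ : R) * ⟨v, hv.1⟩ = r' := Subtype.ext huv.symm
    rw [← h, QuotientGroup.mk_mul, (QuotientGroup.eq_one_iff (⟨u, hBR hu⟩ : R)).2 hu, one_mul]
  obtain ⟨u, hu⟩ := hdec ⟨r, hr⟩
  obtain ⟨v, hv⟩ := hdec ⟨s, hs⟩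
  letI := IsCyclic.commGroup (α := Cs)
  have h1 : QuotientGroup.mk' Bs ⁅(⟨r, hr⟩ : R), ⟨s, hs⟩⁆ = 1 := by
    rw [map_commutatorElement]
    simp only [QuotientGroup.mk'_apply]
    rw [hu, hv, commutatorElement_eq_one_iff_mul_comm, ← QuotientGroup.mk_mul, ← QuotientGroup.mk_mul,
      ← Subgroup.coe_mul, ← Subgroup.coe_mul, mul_comm u v]
  have h2 := Subgroup.mem_subgroupOf.1 ((QuotientGroup.eq_one_iff _).1 h1)
  rwa [← Subgroup.coe_subtype, map_commutatorElement] at h2

end Cfsg.Agent.S1447
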