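import Cfsg.Statements.S3888
import Mathlib
import Cfsg.Agent.Lib.PGroup.Blackburn.Main
-- import your own Cfsg.Agent.* helpers here

set_option autoImplicit false
open Cfsg

namespace Cfsg.Agent.S3888

/-- The classification of the p-groups of rank at most two for odd p. Let p be an odd prime and G a group of order p^n with no elementary abelian subgroup of order p³. Then one of the following holds: G is metacyclic; n ≥ 3 and G is generated by elements x, y, z with x^p = y^p = z^(p^(n−2)) = 1, z commuting with x and y, and x⁻¹yx = y z^(p^(n−3)); n ≥ 4 and G is generated by elements x, y, z with x^p = y^p = z^(p^(n−2)) = 1, yz = zy, x⁻¹yx = y z^(s p^(n−3)) and x⁻¹zx = yz, where s = 1 or s is a quadratic non-residue modulo p; or p = 3 and G has maximal class (nilpotency class n − 1). -/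
theorem result {G : Type*} [Group G] [Finite G] {p : ℕ} [Fact p.Prime] (hp : p ≠ 2) (n : ℕ) (hG : Nat.card G = p ^ n)
    (hrk : Cfsg.PRankLE p 2 G) :
    Cfsg.IsMetacyclic G ∨
    (3 ≤ n ∧ ∃ x y z : G, Subgroup.closure ({x, y, z} : Set G) = ⊤ ∧ x ^ p = 1 ∧ y ^ p = 1 ∧ z ^ p ^ (n - 2) = 1 ∧
        x * z = z * x ∧ y * z = z * y ∧ x⁻¹ * y * x = y * z ^ p ^ (n - 3)) ∨
    (4 ≤ n ∧ ∃ (s : ℕ) (x y z : G), (s = 1 ∨ ¬ IsSquare (s : ZMod p)) ∧ Subgroup.closure ({x, y, z} : Set G) = ⊤ ∧
        x ^ p = 1 ∧ y ^ p = 1 ∧ z ^ p ^ (n - 2) = 1 ∧ y * z = z * y ∧ x⁻¹ * y * x = y * z ^ (s * p ^ (n - 3)) ∧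
        x⁻¹ * z * x = y * z) ∨
    (p = 3 ∧ 2 ≤ n ∧ (⊤ : Subgroup G).lowerCentralSeries (n - 2) ≠ ⊥) := by
  have hpp := (Fact.out : p.Prime)
  have hR : IsPGroup p G := IsPGroup.of_card hG
  by_cases hcyc : IsCyclic G
  · exact Or.inl ⟨⊥, inferInstance, Subgroup.isCyclic _, isCyclic_of_surjective _ (QuotientGroup.mk'_surjective _)⟩
  obtain ⟨A, -, hAn, hA, hA2⟩ := CfsgLib.CyclicMax.exists_normal_sq hR hp (⊤ : Subgroup G)
    (fun hc => hcyc (isCyclic_of_surjective Subgroup.topEquiv.toMonoidHom Subgroup.topEquiv.surjective))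
  haveI := hAn
  have hom : ∀ x ∈ Subgroup.centralizer (A : Set G), x ^ p = 1 → x ∈ A := by
    intro x hx hxp
    by_contra hxA
    set B := Subgroup.closure ((A : Set G) ∪ {x}) with hB
    have hcm : ∀ a ∈ (A : Set G) ∪ {x}, ∀ b ∈ (A : Set G) ∪ {x}, a * b = b * a := by
      rintro a (ha | rfl) b (hb | rfl)
      · exact congrArg Subtype.val (hA.1.is_comm.comm ⟨a, ha⟩ ⟨b, hb⟩)
      · exact Subgroup.mem_centralizer_iff.mp hx a ha
      · exact (Subgroup.mem_centralizer_iff.mp hx b hb).symm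
      · rfl
    haveI hBc : IsMulCommutative B := Subgroup.isMulCommutative_closure hcm
    have hBe : ∀ b ∈ B, b ^ p = 1 := by
      intro b hb
      induction hb using Subgroup.closure_induction with
      | mem b hb =>
        rcases hb with hb | rfl
        · exact hA.2 b hb
        · exact hxp
      | one => exact one_pow p
      | mul a b ha hb iha ihb =>
        have hc : Commute a b := congrArg Subtype.val (hBc.is_comm.comm ⟨a, ha⟩ ⟨b, hb⟩)
        rw [hc.mul_pow, iha, ihb, one_mul]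
      | inv a _ iha => rw [inv_pow, iha, inv_one]
    have hle : A ≤ B := fun a ha => Subgroup.subset_closure (Or.inl ha)
    have hlt := hrk B hBc hBe
    have heq : A = B := Subgroup.eq_of_le_of_card_ge hle (by rw [hA2]; exact hlt)
    exact hxA (heq.symm ▸ Subgroup.subset_closure (Or.inr rfl))
  rcases CfsgLib.Blackburn.main hp n G hG hR A hAn hA.2 hA2 hom with h | ⟨-, h | h⟩ | ⟨h3, -, hcl⟩
  · exact Or.inl h
  · exact Or.inr (Or.inl h)
  · exact Or.inr (Or.inr (Or.inl h))
  · refine Or.inr (Or.inr (Or.inr ⟨h3, ?_, fun hbot => ?_⟩))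
    · rw [← Nat.pow_dvd_pow_iff_le_right hpp.one_lt, ← hG, ← hA2]
      exact Subgroup.card_subgroup_dvd_card A
    · haveI : Group.IsNilpotent G := hR.isNilpotent
      have := Subgroup.lowerCentralSeries_eq_bot_iff_nilpotencyClass_le.mp hbot
      have h2 : 2 ≤ n := by
        rw [← Nat.pow_dvd_pow_iff_le_right hpp.one_lt, ← hG, ← hA2]
        exact Subgroup.card_subgroup_dvd_card A
      omega

end Cfsg.Agent.S3888
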