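import Cfsg.Statements.S0638
import Cfsg.Agent.Lib.PGroup.CyclicMax
import Cfsg.Agent.S0016

set_option autoImplicit false
open Cfsg

namespace Cfsg.Agent.S0638

/-- For odd p, in a non-cyclic metacyclic p-group the elements of order dividing p generate an elementary abelian subgroup of order p². -/
theorem result {R : Type*} [Group R] [Finite R] {p : ℕ} [Fact p.Prime] (hp : p ≠ 2) (hR : IsPGroup p R) (hm : Cfsg.IsMetacyclic R) (hnc : ¬ IsCyclic R) : Cfsg.IsElementaryAbelian p (Cfsg.omegaOne p (⊤ : Subgroup R)) ∧ Nat.card ↥(Cfsg.omegaOne p (⊤ : Subgroup R)) = p ^ 2 := by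
  obtain ⟨N, hN, hNc, hQc⟩ := hm
  haveI := hN
  have hpr : p.Prime := Fact.out
  set π := QuotientGroup.mk' N with hπ
  let R1 : Subgroup R := {
    carrier := {x | π x ^ p = 1}
    one_mem' := by simp
    mul_mem' := fun {x y} hx hy => by
      haveI := hQc
      show π (x * y) ^ p = 1
      rw [map_mul, (show Commute (π x) (π y) from (inferInstance : IsMulCommutative (R ⧸ N)).is_comm.comm (π x) (π y)).mul_pow,
        show π x ^ p = 1 from hx, show π y ^ p = 1 from hy, mul_one]
    inv_mem' := fun {x} hx => by
      show π x⁻¹ ^ p = 1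
      rw [map_inv, inv_pow, show π x ^ p = 1 from hx, inv_one] }
  have hNR : N ≤ R1 := fun x hx => by
    show π x ^ p = 1
    rw [show π x = 1 from (QuotientGroup.eq_one_iff x).mpr hx, one_pow]
  have homega : ∀ x, x ^ p = 1 → x ∈ R1 := fun x hx => by
    show π x ^ p = 1
    rw [← map_pow, hx, map_one]
  have hnc1 : ¬ IsCyclic R1 := by
    intro hc
    rcases S0016.result p hR (fun H K hH hK => by
      have hle : ∀ J : Subgroup R, Nat.card J = p → J ≤ R1 := fun J hJ x hx => homega x (by
        have := pow_card_eq_one' (G := J) (x := ⟨x, hx⟩)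
        rw [hJ] at this
        exact congrArg Subtype.val this)
      rcases subsingleton_or_nontrivial R1 with hs | hs
      · have : Nat.card H ≤ 1 := by
          refine (Subgroup.card_le_of_le (hle H hH)).trans ?_
          rw [Nat.card_eq_one_iff_unique.mpr ⟨hs, ⟨1⟩⟩]
        rw [hH] at this
        exact absurd this (not_le.mpr hpr.one_lt)
      · classical
        have := Fintype.ofFinite R1
        have hW : Set.ncard {x : R1 | x ^ p = 1} ≤ p := by
          rw [Set.ncard_eq_toFinset_card']
          convert IsCyclic.card_pow_eq_one_le (α := R1) hpr.pos using 2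
          ext x; simp
        have hsub : ∀ J : Subgroup R, Nat.card J = p → ((J.subgroupOf R1 : Subgroup R1) : Set R1) = {x : R1 | x ^ p = 1} := by
          intro J hJ
          refine Set.eq_of_subset_of_ncard_le (fun x hx => ?_) ?_
          · have := pow_card_eq_one' (G := J) (x := ⟨(x : R), hx⟩)
            rw [hJ] at this
            exact Subtype.ext (congrArg Subtype.val this : ((x : R)) ^ p = 1)
          · refine hW.trans (le_of_eq ?_)
            rw [← Nat.card_coe_set_eq]
            exact (hJ.symm.trans (Nat.card_congr (Subgroup.subgroupOfEquivOfLe (hle J hJ)).toEquiv).symm)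
        have h1 : H.subgroupOf R1 = K.subgroupOf R1 := SetLike.coe_injective ((hsub H hH).trans (hsub K hK).symm)
        have h2 := congrArg (Subgroup.map R1.subtype) h1
        rwa [Subgroup.map_subgroupOf_eq_of_le (hle H hH), Subgroup.map_subgroupOf_eq_of_le (hle K hK)] at h2) with h | ⟨h, -⟩
    · exact hnc h
    · exact hp h
  have hrel : N.relIndex R1 = p := by
    have h1 : ∀ y ∈ R1.map π, y ^ p = 1 := by rintro _ ⟨x, hx, rfl⟩; exact hx
    haveI := hQc
    haveI : IsCyclic (R1.map π) := inferInstance
    obtain ⟨g, hg⟩ := IsCyclic.exists_generator (α := R1.map π)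
    have h2 : Nat.card (R1.map π) ∣ p := by
      rw [← orderOf_eq_card_of_forall_mem_zpowers hg]
      exact orderOf_dvd_of_pow_eq_one (Subtype.ext (h1 _ g.2))
    have h3 : N.relIndex R1 = Nat.card (R1.map π) := by
      calc N.relIndex R1 = (π.comp R1.subtype).ker.index := by
            show (N.subgroupOf R1).index = _
            congr 1; ext x; simp [π, Subgroup.mem_subgroupOf]
        _ = _ := by rw [Subgroup.index_ker, MonoidHom.range_comp, Subgroup.range_subtype]
    rcases (Nat.dvd_prime hpr).mp h2 with h4 | h4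
    · exfalso
      have hle : R1 ≤ N := Subgroup.relIndex_eq_one.mp (h3.trans h4)
      rw [le_antisymm hle hNR] at hnc1
      exact hnc1 hNc
    · rw [h3, h4]
  obtain ⟨K, hK, ⟨hKab, hKe⟩, hKc⟩ := CfsgLib.CyclicMax.omega_cyclic_index (hR.to_subgroup R1) hp hnc1
    ((Subgroup.subgroupOfEquivOfLe hNR).isCyclic.mpr hNc) hrel
  have hom : Cfsg.omegaOne p (⊤ : Subgroup R) = K.map R1.subtype := by
    refine le_antisymm ((Subgroup.closure_le _).mpr fun x hx => ⟨⟨x, homega x hx.2⟩, (hK _).mpr (Subtype.ext hx.2), rfl⟩) ?_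
    rintro _ ⟨x, hx, rfl⟩
    exact Subgroup.subset_closure ⟨trivial, congrArg Subtype.val (hKe x hx)⟩
  rw [hom]
  refine ⟨⟨Subgroup.map_isMulCommutative _ _, ?_⟩, by rw [Subgroup.card_map_of_injective R1.subtype_injective, hKc]⟩
  rintro _ ⟨x, hx, rfl⟩
  exact congrArg Subtype.val (hKe x hx)

end Cfsg.Agent.S0638
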