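import Cfsg.Statements.S3559
import Mathlib
import Cfsg.Agent.Lib.SchurRing.Cyclic

set_option autoImplicit false
open Cfsg

namespace Cfsg.Agent.S3559



/-- Let G act faithfully and transitively on a finite set whose number of points n ≥ 2 is not a prime power, and suppose G has a cyclic subgroup acting regularly (transitively with trivial point stabilizers). Then G is imprimitive or doubly transitive. -/
theorem result {G Ω : Type*} [Group G] [Finite G] [MulAction G Ω] [FaithfulSMul G Ω] [Finite Ω]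
    (htrans : MulAction.IsPretransitive G Ω) (hn : 2 ≤ Nat.card Ω) (hnp : ¬ IsPrimePow (Nat.card Ω))
    (C : Subgroup G) (hcyc : IsCyclic ↥C) (hC : MulAction.IsPretransitive ↥C Ω ∧ ∀ a : Ω, MulAction.stabilizer ↥C a = ⊥) :
    ¬ MulAction.IsPreprimitive G Ω ∨ MulAction.IsMultiplyPretransitive G Ω 2 := by
----
  by_cases hprim : MulAction.IsPreprimitive G Ω
  swap
  · exact Or.inl hprim
  right
  haveI := htrans
  haveI := hC.1
  haveI : Nontrivial Ω := Finite.one_lt_card_iff_nontrivial.mp (by omega)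
  obtain ⟨a⟩ := (inferInstance : Nonempty Ω)
  have hb : Function.Bijective fun c : C => (c : G) • a := by
    refine ⟨fun c c' e => ?_, fun w => ?_⟩
    · have hm : c'⁻¹ * c ∈ MulAction.stabilizer C a := by
        rw [MulAction.mem_stabilizer_iff, mul_smul, inv_smul_eq_iff]
        exact e
      rw [hC.2 a, Subgroup.mem_bot] at hm
      exact (inv_mul_eq_one.mp hm).symm
    · exact MulAction.exists_smul_eq C a w
  have hH : IsCoatom (MulAction.stabilizer G a) := (MulAction.isCoatom_stabilizer_iff_preprimitive G a).mpr hprim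
  have hcard : Nat.card C = Nat.card Ω := Nat.card_eq_of_bijective _ hb
  obtain ⟨p, hp, hpn⟩ := Nat.exists_prime_and_dvd (n := Nat.card Ω) (by omega)
  obtain ⟨r, hr, hrn, hrp⟩ : ∃ r, r.Prime ∧ r ∣ Nat.card Ω ∧ r ≠ p := by
    by_contra hcon
    push Not at hcon
    exact hnp (isPrimePow_iff_unique_prime_dvd.mpr ⟨p, ⟨hp, hpn⟩, fun r hr => hcon r hr.1 hr.2⟩)
  rw [← hcard] at hpn hrn
  haveI := Fact.mk hp
  haveI := Fact.mk hr
  obtain ⟨y, hy⟩ := exists_prime_orderOf_dvd_card' p hpn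
  obtain ⟨z, hz⟩ := exists_prime_orderOf_dvd_card' r hrn
  have hy1 : y ≠ 1 := fun e => hp.ne_one (by rw [← hy, e, orderOf_one])
  have hz1 : z ≠ 1 := fun e => hr.ne_one (by rw [← hz, e, orderOf_one])
  have key : ∀ c : C, c ≠ 1 → CfsgLib.SchurRing.Rel a c z := fun c hc =>
    CfsgLib.SchurRing.rel_of_ne hb hH hrp.symm hpn hrn hc (hy ▸ pow_orderOf_eq_one y) hy1
      (hz ▸ pow_orderOf_eq_one z) hz1
  have hpt : ∀ w, w ≠ a → ∃ h : G, h • a = a ∧ h • w = (z : G) • a := fun w hw => by
    obtain ⟨c, rfl⟩ := hb.2 w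
    exact key c (fun e => hw (by subst e; simp))
  refine MulAction.is_two_pretransitive_iff.mpr fun {b b' d d'} hbb hdd => ?_
  obtain ⟨g, hg⟩ := MulAction.exists_smul_eq G b a
  obtain ⟨k, hk⟩ := MulAction.exists_smul_eq G d a
  obtain ⟨h, ha, hh⟩ := hpt (g • b') (fun e => hbb (smul_left_cancel g (hg.trans e.symm)))
  obtain ⟨m, ma, hm⟩ := hpt (k • d') (fun e => hdd (smul_left_cancel k (hk.trans e.symm)))
  refine ⟨k⁻¹ * m⁻¹ * h * g, ?_, ?_⟩
  · rw [mul_smul, mul_smul, mul_smul, hg, ha, inv_smul_eq_iff.mpr ma.symm, inv_smul_eq_iff]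
    exact hk.symm
  · rw [mul_smul, mul_smul, mul_smul, hh, ← hm, inv_smul_smul, inv_smul_smul]

end Cfsg.Agent.S3559
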