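import Cfsg.Statements.S0263
import Mathlib

set_option autoImplicit false
open Cfsg

namespace Cfsg.Agent.S0263



/-- A Sylow p-subgroup of GL_n(q), p the characteristic, has order q^(n(n-1)/2). -/
theorem result {F : Type*} [Field F] [Fintype F] {q : ℕ} (hF : Fintype.card F = q) (p : ℕ) [Fact p.Prime] [CharP F p] (n : ℕ) (P : Sylow p (Matrix.GeneralLinearGroup (Fin n) F)) : Nat.card P = q ^ (n * (n - 1) / 2) := by
  classical
  obtain ⟨f, -, hf⟩ := FiniteField.card F p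
  have hpp : p.Prime := Fact.out
  have h2 : Nat.card (Matrix.GeneralLinearGroup (Fin n) F) =
      q ^ (n * (n - 1) / 2) * ∏ i : Fin n, (q ^ (n - (i : ℕ)) - 1) := by
    rw [Matrix.card_GL_field, hF]
    have e : q ^ (n * (n - 1) / 2) = ∏ i : Fin n, q ^ (i : ℕ) := by
      rw [Finset.prod_pow_eq_pow_sum, Fin.sum_univ_eq_sum_range (fun i => i) n, Finset.sum_range_id]
    rw [e, ← Finset.prod_mul_distrib]
    refine Finset.prod_congr rfl fun i _ => ?_
    rw [Nat.mul_sub, mul_one, ← pow_add, Nat.add_sub_cancel' i.2.le]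
  have hqp : q = p ^ (f : ℕ) := hF ▸ hf
  have hndvd : ¬ p ∣ ∏ i : Fin n, (q ^ (n - (i : ℕ)) - 1) := by
    intro h
    obtain ⟨i, -, hi⟩ := (Nat.prime_iff.mp hpp).exists_mem_finset_dvd h
    have hne : (f : ℕ) * (n - (i : ℕ)) ≠ 0 := Nat.mul_ne_zero f.ne_zero (Nat.sub_ne_zero_of_lt i.2)
    rw [hqp, ← pow_mul] at hi
    have h5 := Nat.dvd_sub (dvd_pow_self p hne) hi
    rw [Nat.sub_sub_self (Nat.one_le_pow _ _ hpp.pos)] at h5
    exact hpp.not_dvd_one h5
  have h0 : (∏ i : Fin n, (q ^ (n - (i : ℕ)) - 1)) ≠ 0 := fun h => hndvd (h ▸ dvd_zero p)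
  rw [Sylow.card_eq_multiplicity, h2, hqp, ← pow_mul] at *
  rw [Nat.factorization_mul (pow_ne_zero _ hpp.ne_zero) h0, Finsupp.add_apply,
    Nat.factorization_pow_self hpp, Nat.factorization_eq_zero_of_not_dvd hndvd, add_zero]

end Cfsg.Agent.S0263
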