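import Cfsg.Statements.S4633
import Cfsg.Agent.Lib.Blocks.CyclicPairs

set_option autoImplicit false
open Cfsg CfsgLib.Blocks CfsgLib.CharTheory
open scoped ComplexConjugate

set_option linter.unusedVariables false

namespace Cfsg.Agent.S4633

/-- Let B be a block of the finite group G relative to a maximal ideal M of the algebraic integers containing the prime p, with a nontrivial cyclic defect group P. Let c be a block of C_G(P) inducing B and T the stabilizer of c in N_G(P) (the elements of N_G(P) conjugating c to itself); T contains C_G(P). Then T/C_G(P) is cyclic of order dividing p − 1, and it acts freely on the non-identity elements of P: an element of T fixing some non-identity element of P under conjugation lies in C_G(P). -/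
theorem result {G : Type*} [Group G] [Finite G] (p : ℕ) [Fact p.Prime] (M : Ideal Cfsg.AlgInt) (hM : Cfsg.IsPModular p M) (B : Set (Cfsg.IrrCharacter G)) (hB : Cfsg.IsPBlock M B) (P : Subgroup G) (hPD : Cfsg.IsDefectGroup p M B P) (hP1 : P ≠ ⊥) (hcyc : IsCyclic P) (c : Set (Cfsg.IrrCharacter (Subgroup.centralizer (P : Set G)))) (hc : Cfsg.IsInducedBlock M (Subgroup.centralizer (P : Set G)) c B) (T : Subgroup G) (hT : ∀ g : G, g ∈ T ↔ (g ∈ Subgroup.normalizer (P : Set G) ∧ Cfsg.StabilizesBlock (Subgroup.centralizer (P : Set G)) c g)) [hn : ((Subgroup.centralizer (P : Set G)).subgroupOf T).Normal] : IsCyclic (T ⧸ (Subgroup.centralizer (P : Set G)).subgroupOf T) ∧ (Subgroup.centralizer (P : Set G)).relIndex T ∣ p - 1 ∧ ∀ g ∈ T, ∀ x ∈ P, x ≠ 1 → g * x * g⁻¹ = x → g ∈ Subgroup.centralizer (P : Set G) := by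
  classical
  haveI := Fintype.ofFinite G
  haveI := Fintype.ofFinite (Subgroup.centralizer (P : Set G))
  have hp : IsPGroup p P := defectGroup_isPGroup hPD
  have hmax := pair_at_defect_maximal hM ((induced_centralizer_iff hM hp).1 hc) hPD
  obtain rfl : T = pairStab P c :=
    Subgroup.ext fun g => (hT g).trans (mem_pairStab g).symm
  haveI := hcyc
  obtain ⟨x, hxP, hx1⟩ : ∃ x ∈ P, orderOf x = p := by
    haveI : Nontrivial P := (Subgroup.nontrivial_iff_ne_bot P).2 hP1
    obtain ⟨n, hn⟩ := IsPGroup.exists_card_eq hp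
    have hdvd : p ∣ Nat.card P := by
      rw [hn]
      refine dvd_pow_self p fun h => ?_
      rw [h, pow_zero] at hn
      exact absurd hn (Finite.one_lt_card).ne'
    obtain ⟨y, hy⟩ := exists_prime_orderOf_dvd_card' p hdvd
    exact ⟨y, y.2, by rw [Subgroup.orderOf_coe, hy]⟩
  set X := Subgroup.zpowers x with hX
  have hXP : X ≤ P := Subgroup.zpowers_le.2 hxP
  have hX1 : X ≠ ⊥ := Subgroup.zpowers_ne_bot.2 fun h => (Fact.out : p.Prime).ne_one (by
    rw [← hx1, h, orderOf_one])
  have hXc : Nat.card X = p := by rw [hX, Nat.card_zpowers, hx1]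
  have hN : pairStab P c ≤ Subgroup.normalizer (X : Set G) := fun t ht =>
    normalizes_of_cyclic hXP ((mem_pairStab t).1 ht).1
  let φ : pairStab P c →* MulAut X := X.normalizerMonoidHom.comp (Subgroup.inclusion hN)
  have hker : φ.ker = (Subgroup.centralizer (P : Set G)).subgroupOf (pairStab P c) := by
    ext t
    rw [MonoidHom.mem_ker, show φ t = X.normalizerMonoidHom ⟨t, hN t.2⟩ from rfl,
      ← MonoidHom.mem_ker, Subgroup.normalizerMonoidHom_ker, Subgroup.mem_subgroupOf,
      Subgroup.mem_subgroupOf]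
    exact ⟨fun h => free_of_cyclic hM hmax hXP hX1 ⟨t.2, h⟩,
      fun h => Subgroup.centralizer_le hXP h⟩
  haveI : IsCyclic X := isCyclic_of_prime_card hXc
  haveI : IsCyclic (MulAut X) := by
    haveI : Fact (Nat.card X).Prime := ⟨by rw [hXc]; exact Fact.out⟩
    exact isCyclic_of_injective (IsCyclic.mulAutMulEquiv X).toMonoidHom
      (IsCyclic.mulAutMulEquiv X).injective
  refine ⟨?_, ?_, ?_⟩
  · haveI : IsCyclic (pairStab P c ⧸ φ.ker) :=
      isCyclic_of_injective (QuotientGroup.kerLift φ) (QuotientGroup.kerLift_injective φ)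
    exact isCyclic_of_surjective (QuotientGroup.quotientMulEquivOfEq hker).toMonoidHom
      (QuotientGroup.quotientMulEquivOfEq hker).surjective
  · rw [show (Subgroup.centralizer (P : Set G)).relIndex (pairStab P c) = φ.ker.index by
      rw [hker]; rfl, Subgroup.index_ker]
    refine (Subgroup.card_subgroup_dvd_card φ.range).trans ?_
    rw [IsCyclic.card_mulAut, hXc, Nat.totient_prime Fact.out]
  · intro g hg y hy hy1 hgy
    refine free_of_cyclic hM hmax (Q := Subgroup.zpowers y) (Subgroup.zpowers_le.2 hy)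
      (Subgroup.zpowers_ne_bot.2 hy1) ⟨hg, ?_⟩
    rintro _ ⟨i, rfl⟩
    exact ((show Commute g y from mul_inv_eq_iff_eq_mul.1 hgy).zpow_right i).eq.symm

end Cfsg.Agent.S4633
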