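import Cfsg.Statements.S4672
import Cfsg.Agent.Lib.Blocks.Covering

set_option autoImplicit false
set_option linter.style.haveILetI false
open Cfsg

namespace Cfsg.Agent.S4672

open CfsgLib.Blocks CfsgLib.CharTheory

/-- Fix a prime p and a maximal ideal M of the algebraic integers containing p. Let N be a normal subgroup of the finite group G of p-power index and c a p-block of N stable under conjugation by G. Then the idempotent of c is a block idempotent of G: there is a p-block B of G whose idempotent coefficients agree with those of c on N and vanish off N; and for every defect group P of such a block B, G = NP and P ∩ N is a defect group of c. -/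
theorem result {G : Type*} [Group G] [Fintype G] (p : ℕ) [Fact p.Prime] (M : Ideal Cfsg.AlgInt) (hM : Cfsg.IsPModular p M) (N : Subgroup G) [N.Normal] (hN : ∃ k : ℕ, N.index = p ^ k) (c : Set (Cfsg.IrrCharacter N)) (hc : Cfsg.IsPBlock M c) (hst : ∀ x : G, Cfsg.StabilizesBlock N c x) : (∃ B : Set (Cfsg.IrrCharacter G), Cfsg.IsPBlock M B ∧ ∀ g : G, Cfsg.blockCoeff B g = Cfsg.subgroupBlockCoeff N c g) ∧ ∀ B : Set (Cfsg.IrrCharacter G), Cfsg.IsPBlock M B → (∀ g : G, Cfsg.blockCoeff B g = Cfsg.subgroupBlockCoeff N c g) → ∀ P : Subgroup G, Cfsg.IsDefectGroup p M B P → N ⊔ P = ⊤ ∧ Cfsg.IsDefectGroup p M c ((P ⊓ N).subgroupOf N) := by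
  classical
  haveI : Fintype N := Fintype.ofFinite _
  refine ⟨exists_block_eq hM hN hc hst, fun B hB hBc P hP => ?_⟩
  obtain ⟨t, ⟨htR, htI, htχ⟩, hS⟩ := hP
  set CT := Subgroup.centralizer ({t} : Set G) with hCT
  obtain ⟨S, hPS⟩ := hS
  have hcf : blockCoeff B = covFn c := by
    rw [covFn_of_stable hst, ← subgroupBlockCoeff_eq]; exact funext hBc
  have htN : t ∈ N := by
    by_contra h
    apply htI
    rw [hcf, covFn_off c h]
    exact memIdeal_zero hM
  have hcoef : blockCoeff c (⟨t, htN⟩ : N) = blockCoeff B t := by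
    rw [hcf, covFn_of_stable hst]; exact (sext_coe N _ (⟨t, htN⟩ : N)).symm
  obtain ⟨χ, hχ⟩ := block_nonempty hM hB
  have hone : res hM (omega (χ : G → ℂ) (covFn c)) = 1 := by
    rw [← hcf, ← cf_ind, omega_cf, ind_of_mem hχ, res_one]
  obtain ⟨θ, hθ, hcon⟩ := covers_of_res hM hone
  -- the value of `ω_θ` is the same on all conjugates of `t`
  have hval : ∀ (φ : IrrCharacter N), φ ∈ c → ∀ (x : G) (k : N), (k : G) = x * t * x⁻¹ →
      res hM (clv k φ) = res hM (clv (⟨t, htN⟩ : N) φ) := by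
    intro φ hφ x k hk
    have hm := mem_normalizer_normal (N := N) x⁻¹
    have e1 : clv k φ = clv (⟨t, htN⟩ : N) (irrPull (conjE hm) φ) := by
      rw [show clv (⟨t, htN⟩ : N) (irrPull (conjE hm) φ) = clv (conjE hm ⟨t, htN⟩) φ from
        centralChar_comp (conjE hm) _ _]
      exact congrArg (fun j => clv j φ) (Subtype.ext (by simp [hk]))
    rw [e1]
    refine (sameBlock_iff_res hM _ _).1 (sameBlock_of_mem hM hc ?_ hφ) _
    have hs := (stabilizesBlock_iff hm).1 (hst x⁻¹)
    rw [← hs]
    exact ⟨φ, hφ, rfl⟩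
  haveI : Fintype (ConjClasses N) := Fintype.ofFinite _
  let T : Finset (ConjClasses N) := Finset.univ.filter fun C => IsConj t ((crep C : N) : G)
  have hr : res hM (clv t χ) = (T.card : AlgInt ⧸ M) * res hM (clv (⟨t, htN⟩ : N) θ) := by
    have hTcl : IsClassFunction N (fun k : N => if IsConj t (k : G) then (1 : ℂ) else 0) :=
      fun a b => isClassFunction_classInd t (a : G) (b : G)
    have hTm : ∀ k : N, MemLocalRing M (if IsConj t (k : G) then (1 : ℂ) else 0) :=
      fun k => memRing_classInd hM t k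
    rw [show clv t χ = centralChar (χ : G → ℂ) t from rfl, ← omega_classInd t χ,
      res_omega_covers hM hB hc ⟨χ, hχ, θ, hθ, hcon⟩ hχ hθ (isClassFunction_classInd t)
        (memRing_classInd hM t) (supp_classInd htN),
      omega_eq_sum_classes hTcl θ,
      res_sum hM fun C _ => (loc hM).mul_mem (hTm _)
        (show MemLocalRing M (centralChar (θ : N → ℂ) (crep C)) from memRing_clv hM _ θ),
      ← nsmul_eq_mul, ← Finset.sum_const, Finset.sum_filter]
    refine Finset.sum_congr rfl fun C _ => ?_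
    by_cases hC : IsConj t ((crep C : N) : G)
    · rw [if_pos hC, if_pos hC, one_mul]
      obtain ⟨x, hx⟩ := isConj_iff.1 hC
      exact hval θ hθ x _ hx.symm
    · rw [if_neg hC, if_neg hC, zero_mul, res_zero]
  have hne : res hM (clv t χ) ≠ 0 :=
    fun h => htχ χ hχ ((res_eq_zero_iff hM (memRing_clv hM t χ)).1 h)
  have hT0 : (T.card : AlgInt ⧸ M) ≠ 0 := fun h => hne (by rw [hr, h, zero_mul])
  -- the conjugates of `t` in `G` are conjugate in `N`
  let K : Subgroup G := N ⊔ CT
  have hwd : ∀ a b : G, a⁻¹ * b ∈ K →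
      ConjClasses.mk (⟨a * t * a⁻¹, (‹N.Normal›).conj_mem t htN a⟩ : N) =
        ConjClasses.mk (⟨b * t * b⁻¹, (‹N.Normal›).conj_mem t htN b⟩ : N) := by
    intro a b hab
    obtain ⟨y, hy, z, hz, hyz⟩ := Subgroup.mem_sup_of_normal_left.1 hab
    have hzt : z * t = t * z := Subgroup.mem_centralizer_singleton_iff.1 hz
    rw [ConjClasses.mk_eq_mk_iff_isConj, isConj_iff]
    refine ⟨⟨a * y * a⁻¹, (‹N.Normal›).conj_mem y hy a⟩, Subtype.ext ?_⟩
    have hb : b = a * y * z := by rw [mul_assoc, hyz, mul_inv_cancel_left]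
    have hzz : z * t * z⁻¹ = t := by rw [hzt, mul_inv_cancel_right]
    simp only [Subgroup.coe_mul, Subgroup.coe_inv]
    calc a * y * a⁻¹ * (a * t * a⁻¹) * (a * y * a⁻¹)⁻¹
        = a * y * t * y⁻¹ * a⁻¹ := by group
      _ = a * y * (z * t * z⁻¹) * y⁻¹ * a⁻¹ := by rw [hzz]
      _ = b * t * b⁻¹ := by rw [hb]; group
  have hinj : ∀ a b : G,
      ConjClasses.mk (⟨a * t * a⁻¹, (‹N.Normal›).conj_mem t htN a⟩ : N) =
        ConjClasses.mk (⟨b * t * b⁻¹, (‹N.Normal›).conj_mem t htN b⟩ : N) →
      a⁻¹ * b ∈ K := by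
    intro a b hab
    rw [ConjClasses.mk_eq_mk_iff_isConj, isConj_iff] at hab
    obtain ⟨n, hn⟩ := hab
    have hn' : (n : G) * (a * t * a⁻¹) * (n : G)⁻¹ = b * t * b⁻¹ := congrArg Subtype.val hn
    have hz : b⁻¹ * n * a ∈ CT := by
      rw [hCT, Subgroup.mem_centralizer_singleton_iff]
      calc b⁻¹ * n * a * t = b⁻¹ * ((n : G) * (a * t * a⁻¹) * (n : G)⁻¹) * (n * a) := by group
        _ = t * (b⁻¹ * n * a) := by rw [hn']; group
    have : a⁻¹ * b = (a⁻¹ * n * a) * (b⁻¹ * n * a)⁻¹ := by group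
    rw [this]
    exact K.mul_mem (Subgroup.mem_sup_left
      ((‹N.Normal›).conj_mem' n n.2 a)) (K.inv_mem (Subgroup.mem_sup_right hz))
  have hcard : T.card = K.index := by
    rw [Subgroup.index, ← Fintype.card_coe, ← Nat.card_eq_fintype_card]
    let F : G ⧸ K → T := fun q => Quotient.liftOn' q
      (fun a => (⟨ConjClasses.mk (⟨a * t * a⁻¹, (‹N.Normal›).conj_mem t htN a⟩ : N),
        by
          refine Finset.mem_filter.2 ⟨Finset.mem_univ _, ?_⟩
          have h1 := ConjClasses.mk_eq_mk_iff_isConj.1 (mk_crep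
            (ConjClasses.mk (⟨a * t * a⁻¹, (‹N.Normal›).conj_mem t htN a⟩ : N)))
          have h2 : IsConj t (a * t * a⁻¹) := isConj_iff.2 ⟨a, rfl⟩
          exact h2.trans (N.subtype.map_isConj h1).symm⟩ : T))
      (fun a b h => Subtype.ext (hwd a b (QuotientGroup.leftRel_apply.1 h)))
    refine (Nat.card_eq_of_bijective F ⟨?_, ?_⟩).symm
    · intro q q'
      induction q using QuotientGroup.induction_on with
      | H a =>
        induction q' using QuotientGroup.induction_on with
        | H b =>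
          intro h
          exact QuotientGroup.eq.2 (hinj a b (congrArg Subtype.val h))
    · rintro ⟨C, hC⟩
      obtain ⟨a, ha⟩ := isConj_iff.1 (Finset.mem_filter.1 hC).2
      refine ⟨QuotientGroup.mk a, Subtype.ext ?_⟩
      show ConjClasses.mk _ = C
      conv_rhs => rw [← mk_crep C]
      exact congrArg ConjClasses.mk (Subtype.ext ha)
  have hK : K = ⊤ := by
    rw [← Subgroup.index_eq_one]
    obtain ⟨k, hk⟩ := hN
    obtain ⟨j, -, hj⟩ := (Nat.dvd_prime_pow hM.1).1
      (hk ▸ Subgroup.index_dvd_of_le (le_sup_left : N ≤ K))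
    rcases j with _ | j
    · simpa using hj
    · exfalso
      apply hT0
      haveI := res_charP hM
      rw [hcard, hj, pow_succ, Nat.cast_mul, CharP.cast_eq_zero (AlgInt ⧸ M) p, mul_zero]
  -- `P` covers `G ⧸ N`
  have hNP : N ⊔ P = ⊤ := by
    have h1 : (S : Subgroup CT) ⊔ N.subgroupOf CT = ⊤ := by
      rw [← Subgroup.index_eq_one]
      obtain ⟨k, hk⟩ := hN
      refine Nat.eq_one_of_dvd_coprimes
        ((hM.1.coprime_iff_not_dvd.2 S.not_dvd_index).pow_left k) ?_
        (Subgroup.index_dvd_of_le le_sup_left)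
      rw [← hk]
      exact (Subgroup.index_dvd_of_le le_sup_right).trans (N.relIndex_dvd_index_of_normal CT)
    have h2 : CT ≤ N ⊔ P := by
      intro z hz
      have h3 : (⟨z, hz⟩ : CT) ∈ (S : Subgroup CT) ⊔ N.subgroupOf CT := h1 ▸ Subgroup.mem_top _
      have h4 := Subgroup.mem_map_of_mem CT.subtype h3
      rw [Subgroup.map_sup, Subgroup.subgroupOf_map_subtype, ← hPS] at h4
      exact sup_le (le_sup_right : P ≤ N ⊔ P) (inf_le_left.trans le_sup_left) h4
    exact top_le_iff.1 (hK ▸ sup_le le_sup_left h2)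
  refine ⟨hNP, ⟨t, htN⟩, ⟨hcoef ▸ htR, hcoef ▸ htI, fun φ hφ h => ?_⟩, ?_⟩
  · apply hne
    have hφ0 : res hM (clv (⟨t, htN⟩ : N) φ) = 0 := (res_eq_zero_iff hM (memRing_clv hM _ φ)).2 h
    rw [hr, (sameBlock_iff_res hM θ φ).1 (sameBlock_of_mem hM hc hθ hφ) _, hφ0, mul_zero]
  · set CN := Subgroup.centralizer ({⟨t, htN⟩} : Set N) with hCN
    have hR : (P ⊓ N).subgroupOf N ≤ CN := by
      intro k hk
      have h1 : (k : G) ∈ CT := Subgroup.map_subtype_le _ (hPS.le (Subgroup.mem_inf.1
        (Subgroup.mem_subgroupOf.1 hk)).1)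
      rw [hCN, Subgroup.mem_centralizer_singleton_iff]
      exact Subtype.ext (Subgroup.mem_centralizer_singleton_iff.1 h1)
    have hPp : IsPGroup p ↥((P ⊓ N).subgroupOf N) :=
      ((S.isPGroup'.map CT.subtype).to_le (inf_le_left.trans hPS.le)).comap_of_injective N.subtype
        N.subtype_injective
    obtain ⟨S', hS'⟩ :=
      (hPp.comap_of_injective CN.subtype CN.subtype_injective).exists_le_sylow
    refine ⟨S', ?_⟩
    have hle : (P ⊓ N).subgroupOf N ≤ (S' : Subgroup CN).map CN.subtype := by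
      have h1 : ((P ⊓ N).subgroupOf N).subgroupOf CN ≤ (S' : Subgroup CN) := hS'
      have h2 := Subgroup.map_mono (f := CN.subtype) h1
      rwa [Subgroup.subgroupOf_map_subtype, inf_eq_left.2 hR] at h2
    refine Subgroup.eq_of_le_of_card_ge hle ?_
    set Q := ((S' : Subgroup CN).map CN.subtype).map N.subtype with hQ
    have hQC : Q ≤ CT := by
      rintro _ ⟨k, hk, rfl⟩
      have h1 := Subgroup.map_subtype_le _ hk
      rw [hCN, Subgroup.mem_centralizer_singleton_iff] at h1
      rw [hCT, Subgroup.mem_centralizer_singleton_iff]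
      exact congrArg Subtype.val h1
    obtain ⟨z, hz, hzQ⟩ := exists_conj_le_sylow CT S
      (((S'.isPGroup').map CN.subtype).map N.subtype) hQC
    have h3 : Q.map (MulAut.conj z).toMonoidHom ≤ P ⊓ N := by
      refine le_inf (hzQ.trans hPS.ge) ?_
      rintro _ ⟨k, hk, rfl⟩
      exact (‹N.Normal›).conj_mem k (Subgroup.map_subtype_le _ hk) z
    calc Nat.card ↥((S' : Subgroup CN).map CN.subtype)
        = Nat.card Q := (Subgroup.card_map_of_injective N.subtype_injective).symm
      _ = Nat.card ↥(Q.map (MulAut.conj z).toMonoidHom) :=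
          (Subgroup.card_map_of_injective (MulAut.conj z).injective).symm
      _ ≤ Nat.card ↥(P ⊓ N) := Subgroup.card_le_of_le h3
      _ = Nat.card ↥((P ⊓ N).subgroupOf N) :=
          (Nat.card_congr (Subgroup.subgroupOfEquivOfLe inf_le_right).toEquiv).symm

end Cfsg.Agent.S4672
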