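import Cfsg.Statements.S4511
import Cfsg.Agent.Lib.Blocks.Rank

set_option autoImplicit false
set_option linter.style.haveILetI false
open Cfsg

namespace Cfsg.Agent.S4511

open CfsgLib.Blocks CfsgLib.CharTheory

/-- Brauer's count of the irreducible characters in a block by subsections. Let M be a maximal ideal of the algebraic integers containing the prime p, B a p-block of the finite group G, and X a set of representatives of the conjugacy classes of p-elements of G (elements of p-power order, the identity included: every p-element is conjugate to exactly one member of X). Then the number of irreducible characters in B is the sum, over x ∈ X and over the blocks b of C_G(x) that induce B, of the p-regular rank of b (the number of irreducible Brauer characters of b, here the dimension of the span of the restrictions of the members of b to the p-regular elements of C_G(x)). -/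
theorem result {G : Type*} [Group G] [Finite G] (p : ℕ) (M : Ideal Cfsg.AlgInt) (hM : Cfsg.IsPModular p M)
    (B : Set (Cfsg.IrrCharacter G)) (hB : Cfsg.IsPBlock M B) (X : Finset G)
    (hX : ∀ x ∈ X, ∃ k : ℕ, orderOf x = p ^ k)
    (hXrep : ∀ g : G, (∃ k : ℕ, orderOf g = p ^ k) → ∃! x, x ∈ X ∧ IsConj g x) :
    Nat.card B = ∑ x ∈ X, ∑ᶠ b ∈ {b : Set (Cfsg.IrrCharacter ↥(Subgroup.centralizer ({x} : Set G))) | Cfsg.IsInducedBlock M (Subgroup.centralizer ({x} : Set G)) b B},
      Cfsg.blockRank p b := by
  classical
  haveI := Fintype.ofFinite G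
  haveI : ∀ x : G, Fintype (Subgroup.centralizer ({x} : Set G)) := fun x => Fintype.ofFinite _
  have hp : p.Prime := hM.1
  have hG : (Nat.card G : ℂ) ≠ 0 := Nat.cast_ne_zero.2 Nat.card_pos.ne'
  set F : G → ℂ := fun g => ∑ χ ∈ bset B, (χ : G → ℂ) g * (starRingEnd ℂ) ((χ : G → ℂ) g) with hF
  have hFcl : ∀ g h : G, F (h * g * h⁻¹) = F g := fun g h => by
    simp only [hF, irr_isClassFun _ g h]
  choose pp ww hpw hcpw hpp hww hppm hwwm using fun g : G => exists_pPart hp g
  -- the total
  have htot : ∑ g, F g = (Nat.card G : ℂ) * (Nat.card B : ℂ) := by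
    simp only [hF]
    rw [Finset.sum_comm]
    have h1 : ∀ χ : Cfsg.IrrCharacter G,
        ∑ g, (χ : G → ℂ) g * (starRingEnd ℂ) ((χ : G → ℂ) g) = (Nat.card G : ℂ) := by
      intro χ
      have := classInner_irr_self χ.2
      rw [Cfsg.classInner, inv_mul_eq_iff_eq_mul₀ hG, mul_one] at this
      exact this
    simp only [h1, Finset.sum_const, nsmul_eq_mul]
    rw [mul_comm, Nat.card_coe_set_eq, Set.ncard_eq_toFinset_card _ (Set.toFinite B)]
    congr 3
  -- one section
  have hsec : ∀ x : G, (∃ k : ℕ, orderOf x = p ^ k) →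
      ∑ g ∈ Finset.univ.filter (fun g => IsConj x (pp g)), F g =
        (Nat.card G : ℂ) / (Nat.card (Subgroup.centralizer ({x} : Set G)) : ℂ) *
          ∑ y ∈ Finset.univ.filter
            (fun y : Subgroup.centralizer ({x} : Set G) => ¬ p ∣ orderOf y), F (x * y) := by
    intro x hx
    set C := Subgroup.centralizer ({x} : Set G)
    have hC : (Nat.card C : ℂ) ≠ 0 := Nat.cast_ne_zero.2 Nat.card_pos.ne'
    rw [div_mul_eq_mul_div, eq_div_iff hC]
    have hcount : ∀ g : G, ((Finset.univ.filter fun h : G => pp g = h * x * h⁻¹).card : ℂ) =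
        if IsConj x (pp g) then (Nat.card C : ℂ) else 0 := by
      intro g
      by_cases hc : IsConj x (pp g)
      · rw [if_pos hc]
        obtain ⟨a, ha⟩ := isConj_iff.1 hc
        congr 1
        rw [Nat.card_eq_fintype_card, ← Finset.card_univ]
        refine Finset.card_nbij' (fun h => (if hm : a⁻¹ * h ∈ C then (⟨a⁻¹ * h, hm⟩ : C) else 1))
          (fun c => a * (c : G)) (fun h _ => Finset.mem_coe.2 (Finset.mem_univ _)) (fun c _ => ?_)
          (fun h hh => ?_) (fun c _ => ?_)
        · refine Finset.mem_coe.2 (Finset.mem_filter.2 ⟨Finset.mem_univ _, ?_⟩)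
          rw [← ha]
          have hcx : (c : G) * x = x * c := Subgroup.mem_centralizer_singleton_iff.1 c.2
          calc a * x * a⁻¹ = a * (x * c) * (c : G)⁻¹ * a⁻¹ := by group
            _ = a * ((c : G) * x) * (c : G)⁻¹ * a⁻¹ := by rw [hcx]
            _ = a * (c : G) * x * (a * (c : G))⁻¹ := by group
        · have hh' : pp g = h * x * h⁻¹ := (Finset.mem_filter.1 (Finset.mem_coe.1 hh)).2
          have hm : a⁻¹ * h ∈ C := by
            refine Subgroup.mem_centralizer_singleton_iff.2 ?_
            calc a⁻¹ * h * x = a⁻¹ * (h * x * h⁻¹) * h := by group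
              _ = a⁻¹ * (a * x * a⁻¹) * h := by rw [← hh', ha]
              _ = x * (a⁻¹ * h) := by group
          simp only [dif_pos hm, mul_inv_cancel_left]
        · simp
      · rw [if_neg hc, Nat.cast_eq_zero, Finset.card_eq_zero, Finset.filter_eq_empty_iff]
        exact fun h _ he => hc (isConj_iff.2 ⟨h, he.symm⟩)
    calc (∑ g ∈ Finset.univ.filter (fun g => IsConj x (pp g)), F g) * (Nat.card C : ℂ)
        = ∑ g, ∑ h : G, if pp g = h * x * h⁻¹ then F g else 0 := by
          rw [Finset.sum_filter, Finset.sum_mul]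
          refine Finset.sum_congr rfl fun g _ => ?_
          rw [← Finset.sum_filter (fun h : G => pp g = h * x * h⁻¹), Finset.sum_const,
            nsmul_eq_mul, hcount g]
          split_ifs <;> ring
      _ = ∑ h : G, ∑ y ∈ Finset.univ.filter (fun y : C => ¬ p ∣ orderOf y), F (x * y) := by
          rw [Finset.sum_comm]
          refine Finset.sum_congr rfl fun h _ => ?_
          rw [← Finset.sum_filter]
          symm
          refine Finset.sum_bij (fun (y : C) _ => h * (x * y) * h⁻¹) (fun y hy => ?_)
            (fun y _ y' _ e => Subtype.ext (mul_left_cancel (mul_left_cancel (mul_right_cancel e))))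
            (fun g hg => ?_) (fun y _ => (hFcl _ h).symm)
          · refine Finset.mem_filter.2 ⟨Finset.mem_univ _, ?_⟩
            have hyx : Commute (y : G) x := Subgroup.mem_centralizer_singleton_iff.1 y.2
            refine (pPart_unique hp (hcpw _) (hyx.symm.map (MulAut.conj h).toMonoidHom) (hpp _) ?_
              (hww _) ?_ ?_).1
            · exact hx.imp fun k hk => by
                show orderOf (h * x * h⁻¹) = _
                rw [conj_orderOf, hk]
            · show ¬ p ∣ orderOf (h * (y : G) * h⁻¹)
              rw [conj_orderOf, Subgroup.orderOf_coe]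
              exact (Finset.mem_filter.1 hy).2
            · rw [hpw]
              show h * (x * (y : G)) * h⁻¹ = (h * x * h⁻¹) * (h * (y : G) * h⁻¹)
              group
          · have hg' : pp g = h * x * h⁻¹ := (Finset.mem_filter.1 hg).2
            have hc1 := hcpw g
            rw [hg'] at hc1
            have hm : h⁻¹ * ww g * h ∈ C := by
              refine Subgroup.mem_centralizer_singleton_iff.2 ?_
              calc h⁻¹ * ww g * h * x = h⁻¹ * (ww g * (h * x * h⁻¹)) * h := by group
                _ = h⁻¹ * ((h * x * h⁻¹) * ww g) * h := by rw [hc1.eq]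
                _ = x * (h⁻¹ * ww g * h) := by group
            refine ⟨⟨_, hm⟩, Finset.mem_filter.2 ⟨Finset.mem_univ _, ?_⟩, ?_⟩
            · rw [Subgroup.orderOf_mk]
              have e := conj_orderOf h⁻¹ (ww g)
              rw [inv_inv] at e
              rw [e]
              exact hww g
            · show h * (x * (h⁻¹ * ww g * h)) * h⁻¹ = g
              conv_rhs => rw [← hpw g, hg']
              group
      _ = _ := by
          rw [Finset.sum_const, Finset.card_univ, nsmul_eq_mul, Nat.card_eq_fintype_card]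
  -- assemble
  have hrank : ∀ x ∈ X, (∑ y ∈ Finset.univ.filter
      (fun y : Subgroup.centralizer ({x} : Set G) => ¬ p ∣ orderOf y), F (x * y)) =
      (Nat.card (Subgroup.centralizer ({x} : Set G)) : ℂ) *
      ((∑ᶠ b ∈ {b : Set (Cfsg.IrrCharacter (Subgroup.centralizer ({x} : Set G))) |
        Cfsg.IsInducedBlock M (Subgroup.centralizer ({x} : Set G)) b B}, Cfsg.blockRank p b : ℕ) : ℂ) := by
    intro x hx
    set C := Subgroup.centralizer ({x} : Set G)
    have h1 : ∀ y ∈ Finset.univ.filter (fun y : C => ¬ p ∣ orderOf y),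
        F (x * y) = ∑ ψ ∈ bset (overBlocks M C B), (ψ : C → ℂ) y * (starRingEnd ℂ) ((ψ : C → ℂ) y) :=
      fun y hy => sum_sq_section hM (isCentr_singleton x) (hX x hx) hB
        (Finset.mem_filter.1 hy).2 (Finset.mem_filter.1 hy).2
    rw [Finset.sum_congr rfl h1, Finset.sum_comm,
      Finset.sum_congr rfl fun ψ _ => sum_reg_norm p ψ,
      finsum_mem_eq_finite_toFinset_sum _ (Set.toFinite _), Nat.cast_sum, Finset.mul_sum,
      ← Finset.sum_fiberwise_of_maps_to
        (t := (Set.toFinite {b : Set (Cfsg.IrrCharacter C) | Cfsg.IsInducedBlock M C b B}).toFinset)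
        (g := fun ψ : Cfsg.IrrCharacter C => blockOf M (ψ : C → ℂ))
        (fun ψ hψ => by rw [Set.Finite.mem_toFinset]; exact mem_bset.1 hψ)]
    refine Finset.sum_congr rfl fun b hb => ?_
    rw [Set.Finite.mem_toFinset] at hb
    have hbB : Cfsg.IsPBlock M b := hb.1
    rw [card_mul_blockRank hM hbB]
    refine Finset.sum_congr ?_ fun _ _ => rfl
    ext ψ
    simp only [Finset.mem_filter, mem_bset]
    refine ⟨fun h => h.2 ▸ mem_blockOf_self hM ψ, fun h => ?_⟩
    have e := eq_blockOf hM hbB h
    exact ⟨show Cfsg.IsInducedBlock M C (blockOf M (ψ : C → ℂ)) B from e ▸ hb, e.symm⟩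
  have h2 : ∑ g, F g = ∑ x ∈ X, ∑ g ∈ Finset.univ.filter (fun g => IsConj x (pp g)), F g := by
    simp only [Finset.sum_filter]
    conv_rhs => rw [Finset.sum_comm]
    refine Finset.sum_congr rfl fun g _ => ?_
    obtain ⟨x₀, ⟨hx₀X, hx₀⟩, huniq⟩ := hXrep (pp g) (hpp g)
    rw [Finset.sum_eq_single_of_mem x₀ hx₀X fun x hxX hne =>
      if_neg fun hc => hne (huniq x ⟨hxX, hc.symm⟩), if_pos hx₀.symm]
  rw [htot, Finset.sum_congr rfl fun x hx => hsec x (hX x hx)] at h2
  have h3 : (Nat.card B : ℂ) = ((∑ x ∈ X, ∑ᶠ b ∈ {b : Set (Cfsg.IrrCharacter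
      (Subgroup.centralizer ({x} : Set G))) | Cfsg.IsInducedBlock M
      (Subgroup.centralizer ({x} : Set G)) b B}, Cfsg.blockRank p b : ℕ) : ℂ) := by
    refine mul_left_cancel₀ hG ?_
    rw [h2, Nat.cast_sum, Finset.mul_sum]
    refine Finset.sum_congr rfl fun x hx => ?_
    rw [hrank x hx, ← mul_assoc, div_mul_cancel₀ _ (Nat.cast_ne_zero.2 Nat.card_pos.ne')]
  exact_mod_cast h3

end Cfsg.Agent.S4511
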