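import Cfsg.Statements.S0970
import Cfsg.Agent.Lib.Blocks.Knorr

set_option autoImplicit false
set_option linter.style.haveILetI false
open Cfsg

namespace Cfsg.Agent.S0970

open CfsgLib.Blocks CfsgLib.CharTheory

/-- Let N be a normal subgroup of the finite group G and fix a maximal ideal M of the algebraic integers containing the prime p. Let b be a block of N that is invariant under conjugation by G, and B a block of G covering b (some χ ∈ B has a constituent in b) whose defect is at least that of every block covering b. If P is a defect group of B, then p does not divide the index of P ⊔ N, the subgroup P ∩ N of N is a defect group of b, and the defect of B equals the defect of b plus the exponent of p in the index of N. -/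
theorem result {G : Type*} [Group G] [Fintype G] (p : ℕ) [Fact p.Prime] (M : Ideal Cfsg.AlgInt) (hM : Cfsg.IsPModular p M) (N : Subgroup G) [hN : N.Normal] [Fintype N] (b : Set (Cfsg.IrrCharacter N)) (hb : Cfsg.IsPBlock M b) (hinv : ∀ g : G, ∀ θ ∈ b, ∀ θ' : Cfsg.IrrCharacter N, (∀ n : N, (θ' : N → ℂ) n = (θ : N → ℂ) ⟨g * n * g⁻¹, hN.conj_mem n n.2 g⟩) → θ' ∈ b) (B : Set (Cfsg.IrrCharacter G)) (hB : Cfsg.IsPBlock M B) (hcov : ∃ χ ∈ B, ∃ θ ∈ b, Cfsg.classInner (fun n : N => (χ : G → ℂ) n) (θ : N → ℂ) ≠ 0) (hmax : ∀ B' : Set (Cfsg.IrrCharacter G), Cfsg.IsPBlock M B' → (∃ χ ∈ B', ∃ θ ∈ b, Cfsg.classInner (fun n : N => (χ : G → ℂ) n) (θ : N → ℂ) ≠ 0) → Cfsg.blockDefect p B' ≤ Cfsg.blockDefect p B) (P : Subgroup G) (hP : Cfsg.IsDefectGroup p M B P) : ¬ p ∣ (P ⊔ N).index ∧ Cfsg.IsDefectGroup p M b ((P ⊓ N).subgroupOf N) ∧ Cfsg.blockDefect p B = Cfsg.blockDefect p b + N.index.factorization p := by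
  classical
  haveI := res_isDomain hM
  have hsub : ∀ x : G, blockConj x b ⊆ b := by
    rintro x _ ⟨θ, hθ, rfl⟩
    refine hinv x⁻¹ θ hθ _ fun n => ?_
    rw [irrPull_conjE_eq]
    rfl
  have hst : ∀ x : G, blockConj x b = b := fun x => by
    refine (hsub x).antisymm ?_
    have h1 : blockConj x (blockConj x⁻¹ b) ⊆ blockConj x b := Set.image_mono (hsub x⁻¹)
    rwa [blockConj_mul, mul_inv_cancel, blockConj_one] at h1
  obtain ⟨θ, hθ⟩ := block_nonempty hM hb
  haveI : Fintype (ConjClasses G) := Fintype.ofFinite _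
  have hE := omega_restrict_expand (θ : N → ℂ) (covFn_cls b)
  rw [omega_covFn_of_mem hM hb (self_mem_covOrb b) hθ] at hE
  have h1 := congrArg (res hM) hE
  rw [res_one, res_sum hM fun C _ => (loc hM).mul_mem (covFn_mem hM hb _)
    (memRing_inducedCentralChar N hM θ _)] at h1
  obtain ⟨C, -, hC⟩ := Finset.exists_ne_zero_of_sum_ne_zero (h1 ▸ one_ne_zero)
  rw [res_mul hM (covFn_mem hM hb _) (memRing_inducedCentralChar N hM θ _)] at hC
  set l := crep C with hl
  have hlE := left_ne_zero_of_mul hC
  have hlN : l ∈ N := by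
    by_contra h; rw [covFn_off b h, res_zero] at hlE; exact hlE rfl
  have hlU := right_ne_zero_of_mul hC
  rw [res_induced_stable hM hb hst hθ hlN] at hlU
  set K := N ⊔ Subgroup.centralizer ({l} : Set G) with hK
  have hKp : ¬ p ∣ K.index := fun h => left_ne_zero_of_mul hlU (by
    haveI := res_charP hM
    exact (CharP.cast_eq_zero_iff (AlgInt ⧸ M) p _).2 h)
  set l' : N := ⟨l, hlN⟩ with hl'
  have hbl : res hM (blockCoeff b l') ≠ 0 := by
    rw [covFn_of_stable (fun x => (stabilizesBlock_iff_blockConj x b).2 (hst x))] at hlE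
    rwa [show l = (l' : G) from rfl, sext_coe] at hlE
  have hdc : IsDefectClass M b l' := by
    refine ⟨memRing_blockCoeff hM hb _, fun h => hbl ((res_eq_zero_iff hM
      (memRing_blockCoeff hM hb _)).2 h), fun φ hφ h => right_ne_zero_of_mul hlU ?_⟩
    have h2 : res hM (clv l' φ) = 0 := (res_eq_zero_iff hM (memRing_clv hM l' φ)).2 h
    exact ((sameBlock_iff_res hM θ φ).1 (sameBlock_of_mem hM hb hθ hφ) l').trans h2
  obtain ⟨S⟩ : Nonempty (Sylow p (Subgroup.centralizer ({l'} : Set N))) := inferInstance
  have hd : Nat.card S = p ^ blockDefect p b := by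
    rw [← card_defectGroup hM hb ⟨l', hdc, S, rfl⟩]
    exact (Subgroup.card_map_of_injective (Subgroup.subtype_injective _)).symm
  obtain ⟨Q⟩ : Nonempty (Sylow p (Subgroup.centralizer ({l} : Set G))) := inferInstance
  set CT := Subgroup.centralizer ({l} : Set G) with hCT
  have hcardN : Nat.card (Subgroup.centralizer ({l'} : Set N)) = Nat.card ↥(N.subgroupOf CT) := by
    refine Nat.card_congr
      { toFun := fun k => ⟨⟨(k.1 : G), ?_⟩, k.1.2⟩
        invFun := fun k => ⟨⟨(k.1 : G), k.2⟩, ?_⟩
        left_inv := fun k => rfl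
        right_inv := fun k => rfl }
    · exact Subgroup.mem_centralizer_singleton_iff.2
        (congrArg Subtype.val (Subgroup.mem_centralizer_singleton_iff.1 k.2))
    · exact Subgroup.mem_centralizer_singleton_iff.2
        (Subtype.ext (Subgroup.mem_centralizer_singleton_iff.1 k.1.2))
  have hvindex : N.index.factorization p = (N.relIndex CT).factorization p := by
    have h2 : N.relIndex K * K.index = N.index := Subgroup.relIndex_mul_index le_sup_left
    rw [hK, sup_comm, Subgroup.relIndex_sup_right, ← sup_comm, ← hK] at h2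
    rw [← h2, Nat.factorization_mul (show N.relIndex _ ≠ 0 from Subgroup.index_ne_zero_of_finite)
      Subgroup.index_ne_zero_of_finite, Finsupp.add_apply,
      Nat.factorization_eq_zero_of_not_dvd hKp, add_zero]
  have hQcard : Nat.card Q = p ^ (blockDefect p b + N.index.factorization p) := by
    rw [Q.card_eq_multiplicity, hvindex, Subgroup.relIndex]
    congr 1
    rw [← Subgroup.card_mul_index (N.subgroupOf CT), Nat.factorization_mul Nat.card_pos.ne'
      Subgroup.index_ne_zero_of_finite, Finsupp.add_apply, ← hcardN]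
    congr 1
    have h3 := S.card_eq_multiplicity
    rw [hd] at h3
    exact (Nat.pow_right_injective hM.1.two_le h3).symm
  obtain ⟨B', hB', hcov', hu'⟩ := exists_covering_unit hM hb (g := l) hlE
  obtain ⟨P', hP', hQP⟩ := exists_defectGroup_ge hM hB'
    (fun h => hu' ((res_eq_zero_iff hM (memRing_blockCoeff hM hB' l)).2 h))
    (Q.isPGroup'.map CT.subtype) (Subgroup.map_subtype_le _)
  have hlow : blockDefect p b + N.index.factorization p ≤ blockDefect p B := by
    refine le_trans ?_ (hmax B' hB' hcov')
    have h4 := Subgroup.card_le_of_le hQP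
    rw [Subgroup.card_map_of_injective CT.subtype_injective, hQcard, card_defectGroup hM hB' hP']
      at h4
    exact (Nat.pow_le_pow_iff_right hM.1.one_lt).1 h4
  have hvPN : (N.relIndex P).factorization p + blockDefect p b = blockDefect p B := by
    have h5 := Subgroup.card_mul_index (N.subgroupOf P)
    have h6 : Nat.card ↥(N.subgroupOf P) = Nat.card ↥(P ⊓ N) := by
      rw [← Subgroup.card_map_of_injective (f := P.subtype) P.subtype_injective,
        Subgroup.subgroupOf_map_subtype, inf_comm]
    rw [h6, card_inter_defect hM hB hb hcov hP, card_defectGroup hM hB hP] at h5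
    have h7 := congrArg (fun n : ℕ => n.factorization p) h5
    simp only [Nat.factorization_mul (pow_ne_zero _ hM.1.ne_zero)
      Subgroup.index_ne_zero_of_finite, Finsupp.add_apply, Nat.Prime.factorization_pow hM.1,
      Finsupp.single_eq_same] at h7
    rw [← h7, Subgroup.relIndex]
    ring
  have hsplit : (N.relIndex P).factorization p + (P ⊔ N).index.factorization p =
      N.index.factorization p := by
    have h8 : N.relIndex (P ⊔ N) * (P ⊔ N).index = N.index :=
      Subgroup.relIndex_mul_index le_sup_right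
    rw [Subgroup.relIndex_sup_right] at h8
    rw [← h8, Nat.factorization_mul (show N.relIndex _ ≠ 0 from Subgroup.index_ne_zero_of_finite)
      Subgroup.index_ne_zero_of_finite, Finsupp.add_apply]
  refine ⟨fun h => ?_, ?_, by omega⟩
  · have := hM.1.factorization_pos_of_dvd Subgroup.index_ne_zero_of_finite h
    omega
  · obtain ⟨c, hc, -, hD⟩ := knorr_inter hM hB hb hcov hP
    obtain ⟨x, rfl⟩ := mem_covOrb.1 hc
    rwa [hst x] at hD

end Cfsg.Agent.S0970
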