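import Cfsg.Statements.S4493
import Cfsg.Agent.Lib.CharTheory.More
import Cfsg.Agent.Lib.CharTheory.DegreeComplement
import Cfsg.Agent.Lib.CharTheory.Degree
import Mathlib.GroupTheory.Sylow
import Mathlib.GroupTheory.Solvable

set_option autoImplicit false
open Cfsg

namespace Cfsg.Agent.S4493

universe u

theorem degree_dvd_of_pullback {G Q : Type*} [Group G] [Finite G] [Group Q] [Finite Q] (π : G →* Q)
    (hπ : Function.Surjective π) {p : ℕ}
    (h : ∀ χ : Cfsg.IrrCharacter G, ¬ p ∣ Cfsg.charDegree (χ : G → ℂ)) (φ : Cfsg.IrrCharacter Q) :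
    ¬ p ∣ Cfsg.charDegree (φ : Q → ℂ) := by
  have := h ⟨_, CfsgLib.CharTheory.isIrrCharacter_comp_surjective φ.2 π hπ⟩
  simpa [Cfsg.charDegree] using this

theorem ito_solvable (p : ℕ) (hp : p.Prime) : ∀ (n : ℕ) {G : Type u} [Group G] [Finite G],
    Nat.card G ≤ n → Group.IsSolvable G →
    (∀ χ : Cfsg.IrrCharacter G, ¬ p ∣ Cfsg.charDegree (χ : G → ℂ)) →
    ∃ P : Subgroup G, P.Normal ∧ (∀ x ∈ P, ∀ y ∈ P, x * y = y * x) ∧ IsPGroup p P ∧ ¬ p ∣ P.index := by
  intro n
  induction n with
  | zero => intro G _ _ h; exact absurd h (by have := Nat.card_pos (α := G); omega)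
  | succ n ih =>
    intro G _ _ hle hsolv hdeg
    classical
    haveI := Fact.mk hp
    by_cases hpG : ¬ p ∣ Nat.card G
    · exact ⟨⊥, inferInstance, fun x hx y hy => by simp [Subgroup.mem_bot.mp hx, Subgroup.mem_bot.mp hy],
        IsPGroup.of_bot, by rwa [Subgroup.index_bot]⟩
    haveI := hsolv
    have hnt : Nontrivial G := Finite.one_lt_card_iff_nontrivial.mp
      (hp.one_lt.trans_le (Nat.le_of_dvd Nat.card_pos (not_not.mp hpG)))
    obtain ⟨N, hNn, hNne, hNab⟩ : ∃ N : Subgroup G, N.Normal ∧ N ≠ ⊥ ∧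
        ∀ x ∈ N, ∀ y ∈ N, x * y = y * x := by
      have hex : ∃ m, derivedSeries G m = ⊥ := (Group.isSolvable_def G).mp hsolv
      obtain ⟨m, hm⟩ : ∃ m, Nat.find hex = m + 1 := Nat.exists_eq_succ_of_ne_zero fun h => by
        have := Nat.find_spec hex
        rw [h, derivedSeries_zero] at this
        exact top_ne_bot this
      refine ⟨derivedSeries G m, derivedSeries_normal G m, Nat.find_min hex (by omega), fun x hx y hy => ?_⟩
      have h1 : x * y * x⁻¹ * y⁻¹ ∈ derivedSeries G (m + 1) := by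
        rw [derivedSeries_succ]; exact Subgroup.commutator_mem_commutator hx hy
      rw [show derivedSeries G (m + 1) = ⊥ from hm ▸ Nat.find_spec hex, Subgroup.mem_bot] at h1
      calc x * y = x * y * x⁻¹ * y⁻¹ * (y * x) := by group
        _ = y * x := by rw [h1, one_mul]
    have hlt : Nat.card (G ⧸ N) < Nat.card G := by
      have h1 : 1 < Nat.card N := (Subgroup.one_lt_card_iff_ne_bot N).mpr hNne
      have h2 := N.card_eq_card_quotient_mul_card_subgroup
      have h3 : 0 < Nat.card (G ⧸ N) := Nat.card_pos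
      nlinarith
    obtain ⟨P', hP'n, -, hP'p, hP'i⟩ := ih (G := G ⧸ N) (by omega) inferInstance
      (degree_dvd_of_pullback (QuotientGroup.mk' N) (QuotientGroup.mk'_surjective N) hdeg)
    set K := P'.comap (QuotientGroup.mk' N) with hK
    haveI : K.Normal := hP'n.comap _
    have hKi : ¬ p ∣ K.index := by
      rwa [hK, Subgroup.index_comap_of_surjective _ (QuotientGroup.mk'_surjective N)]
    by_cases hKtop : K = ⊤
    · have hPtop : P' = ⊤ := by
        rw [← Subgroup.map_comap_eq_self_of_surjective (QuotientGroup.mk'_surjective N) P', ← hK, hKtop,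
          Subgroup.map_top_of_surjective _ (QuotientGroup.mk'_surjective N)]
      obtain ⟨a, ha⟩ := IsPGroup.iff_card.mp hP'p
      rw [hPtop, Subgroup.card_top] at ha
      have hab : ∀ x y : G, x * y = y * x := by
        refine CfsgLib.CharTheory.commutative_iff_degree_one.mpr fun χ => ?_
        obtain ⟨m, ρ, hρ, hρc⟩ := χ.2
        have hd := CfsgLib.CharTheory.degree_dvd_index_of_abelian_normal ρ N hNab
        rw [show N.index = p ^ a from ha, show Module.finrank ℂ (Fin m → ℂ) = Cfsg.charDegree (χ : G → ℂ) by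
          rw [Cfsg.charDegree, ← hρc, ρ.char_one]; simp] at hd
        obtain ⟨j, -, hj⟩ := (Nat.dvd_prime_pow hp).mp hd
        rcases j with _ | j
        · rw [(CfsgLib.CharTheory.charDegree_spec' χ.2).1, hj, pow_zero, Nat.cast_one]
        · exact absurd (hj ▸ dvd_pow_self p (Nat.succ_ne_zero j)) (hdeg χ)
      let P : Sylow p G := default
      refine ⟨P, ⟨fun x hx g => ?_⟩, fun x _ y _ => hab x y, P.isPGroup', P.not_dvd_index⟩
      rw [hab g x, mul_inv_cancel_right]
      exact hx
    · have hKlt : Nat.card K < Nat.card G :=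
        lt_of_le_of_ne (Subgroup.card_le_card_group K) fun he => hKtop (Subgroup.eq_top_of_card_eq K he)
      haveI := Fintype.ofFinite G
      haveI := Fintype.ofFinite K
      obtain ⟨P, hPn, hPab, hPp, hPi⟩ := ih (G := K) (by omega) inferInstance fun θ hθ => by
        obtain ⟨χ, hχ, hne⟩ := CfsgLib.CharTheory.exists_irr_above θ.2
        obtain ⟨e, he, -⟩ := CfsgLib.CharTheory.degree_ratio_dvd hχ θ.2 hne
        rw [(CfsgLib.CharTheory.charDegree_spec' hχ).1, (CfsgLib.CharTheory.charDegree_spec' θ.2).1] at he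
        have he' : Cfsg.charDegree χ = e * Cfsg.charDegree θ.1 := by exact_mod_cast he
        exact hdeg ⟨χ, hχ⟩ (he' ▸ hθ.mul_left e)
      refine ⟨P.map K.subtype, ⟨?_⟩, ?_, hPp.map _, ?_⟩
      · rintro _ ⟨x, hx, rfl⟩ g
        haveI := hPn
        let y : K := ⟨g * x * g⁻¹, Subgroup.Normal.conj_mem inferInstance _ x.2 g⟩
        refine ⟨y, ?_, rfl⟩
        obtain ⟨k, hk⟩ := IsPGroup.iff_orderOf.mp hPp ⟨x, hx⟩
        rw [← Subgroup.orderOf_coe, Subgroup.coe_mk] at hk
        have hyk : y ^ p ^ k = 1 := by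
          refine Subtype.ext ?_
          show (g * (x : G) * g⁻¹) ^ p ^ k = 1
          rw [conj_pow, ← hk, show (x : G) ^ orderOf x = 1 by
            rw [← Subgroup.orderOf_coe]; exact pow_orderOf_eq_one _]
          group
        rw [SetLike.mem_coe, ← QuotientGroup.eq_one_iff, ← orderOf_eq_one_iff]
        refine Nat.eq_one_of_dvd_coprimes ((hp.coprime_iff_not_dvd.mpr hPi).pow_left k)
          ((orderOf_map_dvd (QuotientGroup.mk' P) y).trans (orderOf_dvd_of_pow_eq_one hyk)) ?_
        exact orderOf_dvd_natCard _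
      · rintro _ ⟨x, hx, rfl⟩ _ ⟨y, hy, rfl⟩
        exact congrArg Subtype.val (hPab x hx y hy)
      · rw [Subgroup.index_map_subtype]
        exact hp.not_dvd_mul hPi hKi

/-- Let G be a finite solvable group and p a prime. Then G has a normal abelian Sylow p-subgroup if and only if no irreducible character degree of G is divisible by p. -/
theorem result {G : Type*} [Group G] [Finite G] (hsolv : Group.IsSolvable G) (p : ℕ) (hp : p.Prime) : (∃ P : Subgroup G, P.Normal ∧ (∀ x ∈ P, ∀ y ∈ P, x * y = y * x) ∧ IsPGroup p P ∧ ¬ p ∣ P.index) ↔ ∀ χ : Cfsg.IrrCharacter G, ¬ p ∣ Cfsg.charDegree (χ : G → ℂ) := by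
  constructor
  · rintro ⟨P, hPn, hPab, hPp, hPi⟩ χ hd
    obtain ⟨m, ρ, hρ, hρc⟩ := χ.2
    have h1 := CfsgLib.CharTheory.degree_dvd_index_of_abelian_normal ρ P hPab
    rw [show Module.finrank ℂ (Fin m → ℂ) = Cfsg.charDegree (χ : G → ℂ) by
      rw [Cfsg.charDegree, ← hρc, ρ.char_one]; simp] at h1
    exact hPi (hd.trans h1)
  · exact ito_solvable p hp _ le_rfl hsolv

end Cfsg.Agent.S4493
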