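import Cfsg.Statements.S4529
import Cfsg.Agent.Lib.Blocks.TameBlock.Gens

set_option autoImplicit false
open Cfsg

namespace Cfsg.Agent.S4529

/-- Let B be a 2-block of the finite group G (relative to a maximal ideal M of the algebraic integers containing 2) whose defect group D is semidihedral (quasi-dihedral) of order 2 ^ n, n ≥ 4. Then the number of irreducible characters in B is 2 ^ (n - 2) + 3 or 2 ^ (n - 2) + 4, its 2-regular rank l is between 1 and 3, with l = 3 forcing 2 ^ (n - 2) + 4 characters and l = 1 forcing 2 ^ (n - 2) + 3; exactly four members have height zero, exactly 2 ^ (n - 2) - 1 have height one, and every other member has height n - 2. -/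
theorem result {G : Type*} [Group G] [Finite G] (M : Ideal Cfsg.AlgInt) (hM : Cfsg.IsPModular 2 M) (B : Set (Cfsg.IrrCharacter G)) (hB : Cfsg.IsPBlock M B) (D : Subgroup G) (hD : Cfsg.IsDefectGroup 2 M B D) (n : ℕ) (hn : 4 ≤ n) (hcard : Nat.card D = 2 ^ n) (hsd : Cfsg.IsQuasiDihedral D) : (Nat.card B = 2 ^ (n - 2) + 3 ∨ Nat.card B = 2 ^ (n - 2) + 4) ∧ 1 ≤ Cfsg.blockRank 2 B ∧ Cfsg.blockRank 2 B ≤ 3 ∧ (Cfsg.blockRank 2 B = 3 → Nat.card B = 2 ^ (n - 2) + 4) ∧ (Cfsg.blockRank 2 B = 1 → Nat.card B = 2 ^ (n - 2) + 3) ∧ Nat.card {χ : Cfsg.IrrCharacter G // χ ∈ B ∧ Cfsg.blockHeight 2 B (χ : G → ℂ) = 0} = 4 ∧ Nat.card {χ : Cfsg.IrrCharacter G // χ ∈ B ∧ Cfsg.blockHeight 2 B (χ : G → ℂ) = 1} = 2 ^ (n - 2) - 1 ∧ ∀ χ ∈ B, Cfsg.blockHeight 2 B (χ : G → ℂ) = 0 ∨ Cfsg.blockHeight 2 B (χ : G → ℂ) = 1 ∨ Cfsg.blockHeight 2 B (χ : G → ℂ) = n - 2 := by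
  classical
  haveI := Fintype.ofFinite G
  obtain ⟨σ, τ, hd⟩ := CfsgLib.Blocks.Tame.exists_semi hn hcard hsd
  obtain ⟨e, hmax⟩ := CfsgLib.Blocks.exists_maximal_at hM hB hD
  obtain ⟨h1, h2, -, h3, h4, h5, h6⟩ := hd.invariants hM hmax
  obtain ⟨h7, h8, h9⟩ := h3 rfl
  rw [CfsgLib.Blocks.card_bset] at h7 h8 h9
  have h4' : 4 ≤ 2 ^ (n - 2) :=
    le_trans (by norm_num) (Nat.pow_le_pow_right two_pos (show 2 ≤ n - 2 by omega))
  have h10 := h6 h4'
  refine ⟨h7, h1, h2, h8, h9, h4, by omega, fun χ hχ => ?_⟩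
  rcases h5 χ hχ with e1 | e1 | e1
  · exact Or.inl e1
  · exact Or.inr (Or.inl e1)
  · exact Or.inr (Or.inr (Nat.pow_right_injective le_rfl e1))

end Cfsg.Agent.S4529
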