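import Cfsg.Statements.S4541
import Cfsg.Agent.Lib.Blocks.TwoBlocks
-- import your own Cfsg.Agent.* helpers here

set_option autoImplicit false
open Cfsg

namespace Cfsg.Agent.S4541

open CfsgLib.Blocks CfsgLib.CharTheory

set_option linter.style.haveILetI false
set_option linter.unusedSimpArgs false

theorem sqrt_bound {ι : Type*} (S : Finset ι) (q l : ℕ) (A : ι → ℤ) (hne : S.Nonempty)
    (hA : ∀ i ∈ S, 0 < A i ∧ Odd (A i) ∧ (S.card : ℤ) ≤ q * A i)
    (hsum : ∑ i ∈ S, A i ≤ q * l) :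
    (Odd (Nat.sqrt l) → S.card ≤ Nat.sqrt l * q) ∧
    (¬ Odd (Nat.sqrt l) → (Nat.sqrt l + 1) * S.card ≤ l * q) ∧
    (l ≤ 3 → S.card ≤ q) := by
  obtain ⟨i, hi, hmin⟩ := Finset.exists_min_image S A hne
  obtain ⟨h0, hodd, h1⟩ := hA i hi
  have h2 : (S.card : ℤ) * A i ≤ q * l := by
    refine le_trans ?_ hsum
    rw [← nsmul_eq_mul]
    exact Finset.card_nsmul_le_sum _ _ _ hmin
  obtain ⟨m, hm⟩ := Int.eq_ofNat_of_zero_le h0.le
  rw [hm] at h0 hodd h1 h2
  norm_cast at h0 h1 h2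
  have hmodd : m % 2 = 1 := by
    obtain ⟨t, ht⟩ := hodd
    omega
  set s := Nat.sqrt l with hs
  have hs1 : s * s ≤ l := Nat.sqrt_le l
  have hs2 : l ≤ s * s + s + s := by
    have := Nat.lt_succ_sqrt l
    rw [← hs, Nat.succ_eq_add_one] at this
    nlinarith
  refine ⟨fun ho => ?_, fun he => ?_, fun hl => ?_⟩
  · have := Nat.odd_iff.1 ho
    by_cases hms : m ≤ s
    · exact h1.trans (by rw [mul_comm]; exact Nat.mul_le_mul_right _ hms)
    · have hm2 : s + 2 ≤ m := by omega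
      have h3 : S.card * (s + 2) ≤ (s * q) * (s + 2) :=
        (Nat.mul_le_mul_left _ hm2).trans (h2.trans (le_trans (Nat.mul_le_mul_left q hs2) (le_of_eq (by ring))))
      exact Nat.le_of_mul_le_mul_right h3 (by omega)
  · have := Nat.not_odd_iff.1 he
    by_cases hms : m < s
    · calc (s + 1) * S.card ≤ (s + 1) * (q * m) := Nat.mul_le_mul_left _ h1
        _ = q * (m * (s + 1)) := by ring
        _ ≤ q * (s * s) := Nat.mul_le_mul_left _ (by nlinarith)
        _ ≤ q * l := Nat.mul_le_mul_left _ hs1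
        _ = l * q := mul_comm _ _
    · have hm2 : s + 1 ≤ m := by omega
      calc (s + 1) * S.card ≤ m * S.card := Nat.mul_le_mul_right _ hm2
        _ ≤ q * l := by rw [mul_comm]; exact h2
        _ = l * q := mul_comm _ _
  · by_cases hm3 : m = 1
    · subst hm3; simpa using h1
    · have hm3 : 3 ≤ m := by omega
      have h3 : S.card * 3 ≤ q * 3 := (Nat.mul_le_mul_left _ hm3).trans (h2.trans (Nat.mul_le_mul_left _ hl))
      exact Nat.le_of_mul_le_mul_right h3 (by omega)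


/-- Let B be a 2-block of the finite group G (relative to a maximal ideal M of the algebraic integers containing 2), u a 2-element, and b a block of the centralizer of u inducing B (a subsection (u, b)), of defect q and 2-regular rank l; write s for the integer square root of l and k₀(B) for the number of members of B of height zero. If s is odd then k₀(B) ≤ s·2 ^ q, and otherwise (s + 1)·k₀(B) ≤ l·2 ^ q; in particular k₀(B) ≤ 2 ^ q when l ≤ 3. -/
theorem result {G : Type*} [Group G] [Finite G] (M : Ideal Cfsg.AlgInt) (hM : Cfsg.IsPModular 2 M) (B : Set (Cfsg.IrrCharacter G)) (hB : Cfsg.IsPBlock M B) (u : G) (hu : ∃ j : ℕ, orderOf u = 2 ^ j) (b : Set (Cfsg.IrrCharacter ↥(Subgroup.centralizer ({u} : Set G)))) (hb : Cfsg.IsInducedBlock M (Subgroup.centralizer ({u} : Set G)) b B) : (Odd (Nat.sqrt (Cfsg.blockRank 2 b)) → Nat.card {χ : Cfsg.IrrCharacter G // χ ∈ B ∧ Cfsg.blockHeight 2 B (χ : G → ℂ) = 0} ≤ Nat.sqrt (Cfsg.blockRank 2 b)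 * 2 ^ Cfsg.blockDefect 2 b) ∧ (¬ Odd (Nat.sqrt (Cfsg.blockRank 2 b)) → (Nat.sqrt (Cfsg.blockRank 2 b) + 1) * Nat.card {χ : Cfsg.IrrCharacter G // χ ∈ B ∧ Cfsg.blockHeight 2 B (χ : G → ℂ) = 0} ≤ Cfsg.blockRank 2 b * 2 ^ Cfsg.blockDefect 2 b) ∧ (Cfsg.blockRank 2 b ≤ 3 → Nat.card {χ : Cfsg.IrrCharacter G // χ ∈ B ∧ Cfsg.blockHeight 2 B (χ : G → ℂ) = 0} ≤ 2 ^ Cfsg.blockDefect 2 b) := by
  classical
  haveI := Fintype.ofFinite G
  haveI := Fintype.ofFinite (Subgroup.centralizer ({u} : Set G))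
  obtain ⟨A, hA, hsum⟩ := exists_k0_data hM (isCentr_singleton u) hu hb
  rw [natCard_height_zero]
  obtain ⟨χ0, hχ0, hχ00⟩ := exists_height_zero hM hB
  exact sqrt_bound _ (2 ^ blockDefect 2 b) (blockRank 2 b) A
    ⟨χ0, Finset.mem_filter.2 ⟨mem_bset.2 hχ0, hχ00⟩⟩
    (fun χ hχ => by exact_mod_cast hA χ hχ) (by exact_mod_cast hsum)

end Cfsg.Agent.S4541
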