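import Cfsg.Statements.S0867
import Cfsg.Agent.Lib.CharTheory
import Cfsg.Agent.Lib.CharTheory.ExtCriteria
-- import your own Cfsg.Agent.* helpers here

set_option autoImplicit false
open Cfsg

namespace Cfsg.Agent.S0867

open CfsgLib.CharTheory
open scoped ComplexConjugate

/-- Let N be a normal subgroup of the finite group G and ϑ an irreducible character of N of degree d, invariant under conjugation by G, such that the index of N is coprime to the product of d and the determinantal order of ϑ. Then there is an irreducible character χ of G restricting to ϑ whose determinantal order equals that of ϑ, and χ is the only irreducible character of G restricting to ϑ whose determinantal order is coprime to the index of N. -/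
theorem result {G : Type*} [Group G] [Finite G] (N : Subgroup G) [hN : N.Normal] (ϑ : N → ℂ) (hϑ : Cfsg.IsIrrCharacter N ϑ) (hinv : ∀ (g : G) (n : N), ϑ ⟨g * n * g⁻¹, hN.conj_mem (n : G) n.2 g⟩ = ϑ n) (d : ℕ) (hd : ϑ 1 = d) (hcop : Nat.Coprime N.index (Cfsg.detOrder ϑ * d)) : ∃ χ : G → ℂ, (Cfsg.IsIrrCharacter G χ ∧ (∀ n : N, χ n = ϑ n) ∧ Cfsg.detOrder χ = Cfsg.detOrder ϑ) ∧ ∀ χ' : G → ℂ, Cfsg.IsIrrCharacter G χ' → (∀ n : N, χ' n = ϑ n) → Nat.Coprime N.index (Cfsg.detOrder χ') → χ' = χ := by
  obtain ⟨n₀, ρ, hρ, hρe⟩ := id hϑ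
  have hcopd : Nat.Coprime N.index d := Nat.Coprime.coprime_mul_left_right hcop
  have hcopo : Nat.Coprime N.index (orderOf (detHom ρ)) := by
    have h := Nat.Coprime.coprime_mul_right_right hcop
    rwa [← hρe, detOrder_eq] at h
  have hinvφ : ∀ (g : G) (x : N), detHom ρ (MulAut.conjNormal g x) = detHom ρ x := by
    intro g x
    apply Units.ext
    have h := detChar_eq (ρ.comp (MulAut.conjNormal g : N ≃* N).toMonoidHom :
      Representation ℂ N (Fin n₀ → ℂ))
    have e : Representation.character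
        (ρ.comp (MulAut.conjNormal g : N ≃* N).toMonoidHom : Representation ℂ N (Fin n₀ → ℂ)) =
        ρ.character := funext fun y => invariant_of_rep hρe hinv g y
    rw [e, detChar_eq ρ] at h
    exact (congrFun h x).symm
  obtain ⟨μ, hμ, hord, huniq⟩ := exists_hom_extending_coprime (detHom ρ) hinvφ hcopo
  have hdetϑ : Cfsg.detChar ϑ = fun x => (detHom ρ x : ℂ) := by rw [← hρe, detChar_eq]
  obtain ⟨χ, hχ, hχN, hdet⟩ := exists_extension_det hϑ hinv hd hcopd μ fun n => by
    rw [hdetϑ, hμ]
  refine ⟨χ, ⟨hχ, hχN, ?_⟩, fun χ' hχ' hχ'N hcop' => ?_⟩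
  · rw [Cfsg.detOrder, hdet, orderOf_homFun, hord, ← hρe, detOrder_eq]
  · obtain ⟨μ', hμ', hμ'N⟩ := exists_det_of_extension (isCharacter_of_irr hϑ) (isCharacter_of_irr hχ') hχ'N
    rw [Cfsg.detOrder, hμ', orderOf_homFun] at hcop'
    have h := huniq μ' (fun n => Units.ext (by rw [hμ'N, hdetϑ])) hcop'
    exact extension_det_unique hϑ hd hcopd hχ hχN hχ' hχ'N (by rw [hμ', hdet, h])

end Cfsg.Agent.S0867
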