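import Cfsg.Statements.S0157
import Cfsg.Agent.Lib.CharTheory
import Cfsg.Agent.S0190
-- import your own Cfsg.Agent.* helpers here

set_option autoImplicit false
open Cfsg

namespace Cfsg.Agent.S0157

open CfsgLib.CharTheory
open scoped ComplexConjugate

/-- For a transitive action of a finite group on a finite set with at least two points: the action is 2-transitive if and only if the function sending g to (number of fixed points of g) − 1 is an irreducible character. -/
theorem result {G : Type*} [Group G] [Finite G] (X : Type*) [MulAction G X] [Finite X] [MulAction.IsPretransitive G X] (hX : 2 ≤ Nat.card X) : Cfsg.IsIrrCharacter G (fun g => (Nat.card (MulAction.fixedBy X g) : ℂ) - 1) ↔ MulAction.IsMultiplyPretransitive G X 2 := by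
  classical
  have := Fintype.ofFinite G
  have := Fintype.ofFinite X
  obtain ⟨x, y₀, hxy₀⟩ := Finite.one_lt_card_iff_nontrivial.mp (by omega : 1 < Nat.card X)
  set S := MulAction.stabilizer G x
  have := Fintype.ofFinite S
  set π : G → ℂ := fun g => (Nat.card (MulAction.fixedBy X g) : ℂ) with hπdef
  have hπ : π = Cfsg.indFun S (fun _ => 1) := Cfsg.Agent.S0190.result X x
  have hπchar : Cfsg.IsCharacter G π := hπ ▸ isCharacter_indFun S isCharacter_one
  have hfun : (fun g : G => (Nat.card (MulAction.fixedBy X g) : ℂ) - 1) = π - (fun _ => 1) := rfl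
  rw [hfun]
  have h1 : Cfsg.classInner π (fun _ => 1) = 1 := by
    rw [hπ, frobenius_reciprocity S _ (isClassFunction_irr isIrrCharacter_one)]
    exact classInner_irr_self (χ := fun _ : S => (1 : ℂ)) isIrrCharacter_one
  let Ω := Quotient (MulAction.orbitRel S X)
  have := Fintype.ofFinite Ω
  have hππ : Cfsg.classInner π π = (Nat.card Ω : ℂ) := by
    conv_lhs => rw [hπ, frobenius_reciprocity S _ (indFun_isClassFunction S _)]
    have hb : (∑ h : S, Nat.card (MulAction.fixedBy X h)) = Nat.card Ω * Nat.card S := by
      simp only [Nat.card_eq_fintype_card]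
      exact MulAction.sum_card_fixedBy_eq_card_orbits_mul_card_group S X
    simp only [Cfsg.classInner, one_mul]
    rw [← hπ, ← map_sum]
    have : (∑ h : S, π h) = ((Nat.card Ω * Nat.card S : ℕ) : ℂ) := by
      rw [← hb, Nat.cast_sum]
      rfl
    rw [this, Complex.conj_natCast, Nat.cast_mul]
    field_simp [Nat.cast_ne_zero.mpr (Nat.card_pos (α := S)).ne']
  have hnorm : Cfsg.classInner (π - fun _ => 1) (π - fun _ => 1) = (Nat.card Ω : ℂ) - 1 := by
    rw [classInner_sub_left, classInner_sub_right, classInner_sub_right, hππ, h1,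
      classInner_irr_self isIrrCharacter_one, ← classInner_comm, h1, map_one]
    ring
  have hiff : Cfsg.IsIrrCharacter G (π - fun _ => 1) ↔ Nat.card Ω = 2 := by
    constructor
    · intro h
      have := classInner_irr_self h
      rw [hnorm] at this
      exact_mod_cast (by linear_combination this : (Nat.card Ω : ℂ) = 2)
    · intro h
      refine irr_of_norm_one (isGenChar_sub (isGenChar_of_char hπchar)
        (isGenChar_of_char isCharacter_one)) (by rw [hnorm, h]; norm_num) ?_
      have hX1 : π 1 = (Nat.card X : ℂ) := by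
        simp [π]
      simp only [Pi.sub_apply, hX1, Complex.sub_re, Complex.natCast_re, Complex.one_re, sub_pos]
      exact_mod_cast (by omega : 1 < Nat.card X)
  rw [hiff, MulAction.is_two_pretransitive_iff]
  have hx_orbit : ∀ y, (Quotient.mk (MulAction.orbitRel S X) y : Ω) = Quotient.mk _ x → y = x := by
    intro y h
    obtain ⟨g, hg⟩ := MulAction.orbitRel_apply.mp (Quotient.exact h)
    rw [← hg]
    exact g.2
  constructor
  · intro h2 a b c d hab hcd
    have key : ∀ y z : X, y ≠ x → z ≠ x → ∃ g : S, g • y = z := by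
      intro y z hy hz
      by_contra hno
      have hne : (Quotient.mk (MulAction.orbitRel S X) y : Ω) ≠ Quotient.mk _ z := fun e => by
        obtain ⟨g, hg⟩ := MulAction.orbitRel_apply.mp (Quotient.exact e.symm)
        exact hno ⟨g, hg⟩
      have h3 := Finset.card_le_univ ({Quotient.mk _ x, Quotient.mk _ y, Quotient.mk _ z} : Finset Ω)
      rw [Finset.card_insert_of_notMem (by
          simp only [Finset.mem_insert, Finset.mem_singleton, not_or]
          exact ⟨fun e => hy (hx_orbit y e.symm), fun e => hz (hx_orbit z e.symm)⟩),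
        Finset.card_insert_of_notMem (by simpa using hne), Finset.card_singleton,
        ← Nat.card_eq_fintype_card, h2] at h3
      omega
    obtain ⟨g₁, hg₁⟩ := MulAction.exists_smul_eq G a x
    obtain ⟨g₂, hg₂⟩ := MulAction.exists_smul_eq G c x
    obtain ⟨s, hs⟩ := key (g₁ • b) (g₂ • d)
      (fun e => hab (smul_left_cancel g₁ (hg₁.trans e.symm)))
      (fun e => hcd (smul_left_cancel g₂ (hg₂.trans e.symm)))
    refine ⟨g₂⁻¹ * s * g₁, ?_, ?_⟩
    · rw [mul_smul, mul_smul, hg₁, MulAction.mem_stabilizer_iff.mp s.2, inv_smul_eq_iff, hg₂]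
    · rw [mul_smul, mul_smul, show (s : G) • g₁ • b = g₂ • d from hs, inv_smul_smul]
  · intro h2
    rw [Nat.card_eq_two_iff]
    refine ⟨Quotient.mk _ x, Quotient.mk _ y₀, fun e => hxy₀ (hx_orbit y₀ e.symm).symm, ?_⟩
    refine Set.eq_univ_of_forall fun q => ?_
    induction q using Quotient.inductionOn with
    | h y =>
      by_cases hy : y = x
      · exact Or.inl (by rw [hy])
      · obtain ⟨g, hgx, hgy⟩ := h2 (Ne.symm hy) hxy₀
        refine Or.inr (Quotient.sound (MulAction.orbitRel_apply.mpr ⟨⟨g, hgx⟩⁻¹, ?_⟩))
        show g⁻¹ • y₀ = y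
        rw [← hgy, inv_smul_smul]

end Cfsg.Agent.S0157
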