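import Cfsg.Statements.S1215
import Cfsg.Agent.Lib.ZStar.CenterCentral
-- import your own Cfsg.Agent.* helpers here

set_option autoImplicit false
open Cfsg

namespace Cfsg.Agent.S1215

/-- Let H be a finite group with quasi-dihedral or wreathed Sylow 2-subgroup S such that H has a normal subgroup K of index a power of 2 with no subgroup of index 2 and with generalized quaternion Sylow 2-subgroups, and such that every subgroup of Z(S) is weakly closed in S with respect to H. Then H = O(H) C_H(Z(S)): every element of H is the product of an element of the largest normal odd-order subgroup and an element centralizing Z(S). -/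
theorem result {H : Type*} [Group H] [Finite H] (S : Sylow 2 H) (hS : Cfsg.IsQuasiDihedral (S : Subgroup H) ∨ Cfsg.IsWreathed (S : Subgroup H)) (hQ : (∃ K : Subgroup H, K.Normal ∧ (∃ a : ℕ, K.index = 2 ^ a) ∧ (∀ M : Subgroup ↥K, M.index ≠ 2) ∧ (∀ P : Sylow 2 ↥K, ∃ m : ℕ, 1 ≤ m ∧ Nonempty ((P : Subgroup ↥K) ≃* QuaternionGroup (2 ^ m)))) ∧ (∀ Z₀ : Subgroup H, Z₀ ≤ ((Subgroup.center (S : Subgroup H)).map (S : Subgroup H).subtype) → Cfsg.IsWeaklyClosed Z₀ (S : Subgroup H))) (h : H) : ∃ o ∈ Cfsg.oddCore H, ∃ c ∈ Subgroup.centralizer (((Subgroup.center (S : Subgroup H)).map (S : Subgroup H).subtype : Subgroup H) : Set H), h = o * c := by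
  set Z := (Subgroup.center (S : Subgroup H)).map (S : Subgroup H).subtype with hZdef
  have hZS : Z ≤ (S : Subgroup H) := Subgroup.map_subtype_le _
  have hzc : ∀ c ∈ Z, ∀ s ∈ (S : Subgroup H), s * c * s⁻¹ = c := by
    rintro _ ⟨a, ha, rfl⟩ s hs
    exact mul_inv_eq_iff_eq_mul.mpr (congrArg Subtype.val (Subgroup.mem_center_iff.mp ha ⟨s, hs⟩))
  refine CfsgLib.ZStarCenter.exists_split Z (S.2.to_le hZS) (fun c hc => ?_) h
  refine CfsgLib.ZStar.inZStar_of_powers _ H rfl S c (hZS hc) (fun i g hg => ?_)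
  have hci : c ^ i ∈ Z := pow_mem hc i
  refine CfsgLib.ZStarCenter.eq_of_conj_central S (hZS hci) (hzc _ hci) ?_
  have hle : (Subgroup.zpowers (c ^ i)).map (MulAut.conj g).toMonoidHom ≤ (S : Subgroup H) := by
    rw [MonoidHom.map_zpowers, Subgroup.zpowers_le]
    exact hg
  have := (hQ.2 _ (Subgroup.zpowers_le.mpr hci)).2 g hle
  rw [← this]
  exact ⟨c ^ i, Subgroup.mem_zpowers _, rfl⟩

end Cfsg.Agent.S1215
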