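import Cfsg.Statements.S0588
import Mathlib
-- import your own Cfsg.Agent.* helpers here

set_option autoImplicit false
open Cfsg

namespace Cfsg.Agent.S0588

/-- If a subgroup H of a finite group G contains the centralizer of every non-identity element of H, then the order of H is coprime to its index. -/
theorem result {G : Type*} [Group G] [Finite G] (H : Subgroup G) (h : ∀ x ∈ H, x ≠ 1 → Subgroup.centralizer ({x} : Set G) ≤ H) : (Nat.card H).Coprime H.index := by
  classical
  by_contra hco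
  obtain ⟨p, hp, hp1, hp2⟩ := Nat.Prime.not_coprime_iff_dvd.mp hco
  haveI : Fact p.Prime := ⟨hp⟩
  obtain ⟨S⟩ : Nonempty (Sylow p H) := inferInstance
  obtain ⟨P, hP⟩ := (S.2.map H.subtype).exists_le_sylow
  obtain ⟨⟨x, hxH⟩, hxS, hx1⟩ := (S : Subgroup H).bot_or_exists_ne_one.resolve_left (S.ne_bot_of_dvd_card hp1)
  have hxP : x ∈ (P : Subgroup G) := hP ⟨_, hxS, rfl⟩
  have hx : x ≠ 1 := fun e => hx1 (Subtype.ext e)
  haveI : Nontrivial (P : Subgroup G) := (Subgroup.nontrivial_iff_exists_ne_one _).mpr ⟨x, hxP, hx⟩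
  haveI := P.2.center_nontrivial
  obtain ⟨⟨⟨z, hzP⟩, hzZ⟩, hz1⟩ := exists_ne (1 : Subgroup.center (P : Subgroup G))
  have hzc : ∀ u ∈ (P : Subgroup G), u * z = z * u := fun u hu =>
    congrArg Subtype.val (Subgroup.mem_center_iff.mp hzZ ⟨u, hu⟩)
  have hzH : z ∈ H := h x hxH hx (Subgroup.mem_centralizer_singleton_iff.mpr (hzc x hxP).symm)
  have hz : z ≠ 1 := fun e => hz1 (Subtype.ext (Subtype.ext e))
  have hPH : (P : Subgroup G) ≤ H := fun u hu =>
    h z hzH hz (Subgroup.mem_centralizer_singleton_iff.mpr (hzc u hu))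
  exact P.not_dvd_index (hp2.trans (Subgroup.index_dvd_of_le hPH))

end Cfsg.Agent.S0588
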