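import Cfsg.Statements.S3007
import Cfsg.Agent.Lib.CentrallyLarge

set_option autoImplicit false
set_option linter.unusedVariables false
open Cfsg
open scoped commutatorElement

namespace Cfsg.Agent.S3007

open CfsgLib.CentrallyLarge

theorem abelian_iff {P : Type*} [Group P] [Finite P] {Q : Subgroup P}
    (hQ : Cfsg.IsMinimalCentrallyLarge Q) (hab : IsMulCommutative Q) (X : Subgroup P) :
    Cfsg.IsMinimalCentrallyLarge X ↔ X ∈ Cfsg.maxAbelianSubgroups P := by
  obtain ⟨hZ, hcc⟩ := isMinimalCentrallyLarge_iff.1 hQ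
  obtain ⟨hL, hc⟩ := isCentrallyLarge_iff.1 hQ.1
  have hQa := le_centralizer_iff_isMulCommutative.1 hab
  have hQeq : Subgroup.centralizer (Q : Set P) = Q := le_antisymm hc hQa
  have hm : CfsgLib.Products.cdMeasure Q = Nat.card Q * Nat.card Q := by
    rw [CfsgLib.Products.cdMeasure, hQeq]
  have hmax : MaxAb Q := by
    refine ⟨hQa, fun B hB => ?_⟩
    have := hL B
    rw [hm] at this
    exact Nat.mul_self_le_mul_self_iff.1 ((Nat.mul_le_mul_left _ (Subgroup.card_le_of_le hB)).trans this)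
  rw [hQeq] at hZ
  rw [maxAb_iff]
  constructor
  · intro hX
    obtain ⟨hZX, hccX⟩ := isMinimalCentrallyLarge_iff.1 hX
    obtain ⟨hXL, hXc⟩ := isCentrallyLarge_iff.1 hX.1
    have he := (hZX.compare hZ).2
    have hme := eq_of_large hXL hL
    rw [hm, CfsgLib.Products.cdMeasure, he] at hme
    have hXQ : Nat.card X = Nat.card Q := Nat.eq_of_mul_eq_mul_right Nat.card_pos hme
    have heq : Subgroup.centralizer (X : Set P) = X :=
      Subgroup.eq_of_le_of_card_ge hXc (by rw [hXQ, he])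
    exact ⟨heq.ge, fun B hB => (hmax.2 B hB).trans hXQ.ge⟩
  · intro hX
    have hXL : Large X := by
      refine large_of_ge hL ?_
      rw [hm, CfsgLib.Products.cdMeasure, hX.centralizer_eq]
      exact Nat.mul_self_le_mul_self_iff.2 (hX.2 Q hQa)
    refine isMinimalCentrallyLarge_iff.2 ⟨⟨hXL.centralizer, ?_, fun D _ hD hle => ?_⟩, hXL.centralizer_centralizer⟩
    · rw [hX.centralizer_eq, hX.centralizer_eq]
    · rw [hX.centralizer_eq] at hle ⊢
      exact (Subgroup.eq_of_le_of_card_ge hle (hX.2 D hD)).symm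

/-- Let P be a finite p-group and Q, R minimal centrally large subgroups of P (centrally large: |Q|·|Z(Q)| maximal among subgroups of P; minimal among such under inclusion). Then Q = (Q ∩ R)·Z(Q), the derived subgroups [Q, Q] and [R, R] coincide, |Q| = |R| and |Z(Q)| = |Z(R)|; and if Q is abelian then the minimal centrally large subgroups of P are exactly the abelian subgroups of P of largest order. -/
theorem result {p : ℕ} [Fact p.Prime] (P : Type*) [Group P] [Finite P] (hP : IsPGroup p P) (Q R : Subgroup P) (hQ : Cfsg.IsMinimalCentrallyLarge Q) (hR : Cfsg.IsMinimalCentrallyLarge R) : (Q ⊓ R) ⊔ (Q ⊓ Subgroup.centralizer (Q : Set P)) = Q ∧ ⁅Q, Q⁆ = ⁅R, R⁆ ∧ Nat.card ↥Q = Nat.card ↥R ∧ Nat.card ↥(Q ⊓ Subgroup.centralizer (Q : Set P)) = Nat.card ↥(R ⊓ Subgroup.centralizer (R : Set P)) ∧ (IsMulCommutative ↥Q → ∀ X : Subgroup P, Cfsg.IsMinimalCentrallyLarge X ↔ X ∈ Cfsg.maxAbelianSubgroups P) := by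
  obtain ⟨hZ, hQcc⟩ := isMinimalCentrallyLarge_iff.1 hQ
  obtain ⟨hZ', hRcc⟩ := isMinimalCentrallyLarge_iff.1 hR
  obtain ⟨hL, hc⟩ := isCentrallyLarge_iff.1 hQ.1
  obtain ⟨hL', hc'⟩ := isCentrallyLarge_iff.1 hR.1
  have hcmp := hZ.compare hZ'
  rw [hQcc, hRcc] at hcmp
  have hcomm := hZ.commutator_eq hZ'
  rw [hQcc, hRcc] at hcomm
  rw [inf_eq_right.2 hc, inf_eq_right.2 hc']
  refine ⟨hcmp.1, hcomm, ?_, hcmp.2, fun hab X => S3007.abelian_iff hQ hab X⟩
  have hm : Nat.card Q * Nat.card ↥(Subgroup.centralizer (Q : Set P)) =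
      Nat.card R * Nat.card ↥(Subgroup.centralizer (R : Set P)) := eq_of_large hL hL'
  rw [hcmp.2] at hm
  exact Nat.eq_of_mul_eq_mul_right Nat.card_pos hm

end Cfsg.Agent.S3007
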