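import Cfsg.Statements.S0115
import Mathlib
import Cfsg.Agent.Lib.MaximalClass
-- import your own Cfsg.Agent.* helpers here

set_option autoImplicit false
open Cfsg

namespace Cfsg.Agent.S0115

/-- A 2-group of order 2^n, n ≥ 3, is of maximal class exactly when its commutator quotient is a Klein four-group. -/
theorem result {X : Type*} [Group X] [Finite X] (n : ℕ) (hn : 3 ≤ n) (hX : Nat.card X = 2 ^ n) : Group.nilpotencyClass X = n - 1 ↔ IsKleinFour (X ⧸ commutator X) := by
  have := Fact.mk Nat.prime_two
  constructor
  · intro hc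
    have h4 : Nat.card (X ⧸ commutator X) = 4 := (CfsgLib.MaximalClass.index_commutator hn hX hc).trans (by norm_num)
    have : Nontrivial (X ⧸ commutator X) := Finite.one_lt_card_iff_nontrivial.mp (by rw [h4]; norm_num)
    refine ⟨h4, Monoid.exponent_eq_prime_iff Nat.prime_two |>.mpr fun q hq => ?_⟩
    obtain ⟨g, rfl⟩ := QuotientGroup.mk'_surjective _ q
    refine orderOf_eq_prime ?_ hq
    rw [← map_pow]
    exact (QuotientGroup.eq_one_iff _).mpr (CfsgLib.MaximalClass.pow_mem_commutator hn hX hc g)
  · intro h
    refine CfsgLib.MaximalClass.class_of_index_four hn hX h.card_four fun g => (QuotientGroup.eq_one_iff _).mp ?_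
    have := Monoid.pow_exponent_eq_one (g : X ⧸ commutator X)
    rwa [h.exponent_two] at this

end Cfsg.Agent.S0115
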