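import Cfsg.Statements.S0345
import Mathlib
import Cfsg.Agent.S0738
import Cfsg.Agent.S0739
import Cfsg.Agent.S0740
import Cfsg.Agent.S0741
import Cfsg.Agent.Lib.Perm.ZassenhausAbelian
import Cfsg.Agent.Lib.Perm.ZassenhausHalfEven
import Cfsg.Agent.Lib.Perm.SharpThreeAbstract
-- import your own Cfsg.Agent.* helpers here

set_option autoImplicit false
open Cfsg

namespace Cfsg.Agent.S0345

/-- In a finite simple Zassenhaus group the stabiliser `H` of two points `a ≠ b` is cyclic, and some involution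
interchanging `a` and `b` inverts every element of `H`. -/
theorem result {G Ω : Type*} [Group G] [Finite G] [MulAction G Ω] [Finite Ω]
    (hZ : Cfsg.IsZassenhausGroup G Ω) [IsSimpleGroup G]
    {a b : Ω} (hab : a ≠ b) :
    IsCyclic ↥(MulAction.stabilizer G a ⊓ MulAction.stabilizer G b) ∧
      ∃ v : G, orderOf v = 2 ∧ v • a = b ∧ v • b = a ∧ ∀ h ∈ MulAction.stabilizer G a ⊓ MulAction.stabilizer G b, v * h * v⁻¹ = h⁻¹ := by
  classical
  haveI := Fintype.ofFinite Ω
  rcases Nat.even_or_odd (Nat.card ↥(MulAction.stabilizer G a ⊓ MulAction.stabilizer G b)) with hev | hod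
  · obtain ⟨hfaith, h2, h3, hfixe, -⟩ := id hZ
    haveI := hfaith
    haveI := h2
    obtain ⟨F, hFa, hFn, hFfix, hFtrans, -⟩ := CfsgLib.ZassenhausNormal.exists_Q (G := G) h2 h3 hfixe a
    have hFreg : ∀ y z : Ω, y ≠ a → z ≠ a → ∃! u : F, (u : G) • y = z := by
      intro y z hy hz
      obtain ⟨q, hq, hqe⟩ := hFtrans y z hy hz
      refine ⟨⟨q, hq⟩, hqe, fun v hv => Subtype.ext ?_⟩
      by_contra hne
      refine hy (hFfix (q⁻¹ * v) (mul_mem (inv_mem hq) v.2) (fun e => hne (inv_mul_eq_one.mp e).symm) y ?_)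
      rw [mul_smul, hv, inv_smul_eq_iff, hqe]
    have hFn' : (F.subgroupOf (MulAction.stabilizer G a)).Normal := ⟨fun x hx h => hFn h h.2 x hx⟩
    have hFab := (Cfsg.Agent.S0738.result hZ hab (Cfsg.Agent.S0741.result hZ hab hev) F hFa hFn' hFreg).1
    rcases CfsgLib.ZassenhausAbelian.cases hZ a F hFa hFn' hFab hFreg with ⟨y, hy, hd, hm3, hsharp⟩ | ⟨y, hy, hd, -⟩
    · have hd' : Nat.card ↥(MulAction.stabilizer G a ⊓ MulAction.stabilizer G b) = Fintype.card Ω - 2 :=
        (CfsgLib.ZassenhausOdd.card_D_eq hZ hy hab).symm.trans hd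
      exfalso
      obtain ⟨k, hk⟩ := hev
      have hk1 : 0 < Nat.card ↥(MulAction.stabilizer G a ⊓ MulAction.stabilizer G b) := Nat.card_pos
      exact CfsgLib.SharpThreeAbstract.not_simple hsharp hm3 ⟨k + 1, by omega⟩ (by omega)
    · rw [CfsgLib.ZassenhausOdd.card_D_eq hZ hy hab] at hd
      exact CfsgLib.ZassenhausHalfEven.cyclic_inverted hZ hab hev hd.le
  · have hnil : ∀ q : ℕ, q.Prime → q ∣ Nat.card ↥(MulAction.stabilizer G a ⊓ MulAction.stabilizer G b) →
        ¬ ∃ N : Subgroup G, N.Normal ∧ N.index = q ^ (Nat.card G).factorization q := by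
      rintro q hq hqd ⟨N, hN, hidx⟩
      haveI := Fact.mk hq
      have hqG : q ∣ Nat.card G := hqd.trans (Subgroup.card_subgroup_dvd_card _)
      rcases hN.eq_bot_or_eq_top with rfl | rfl
      · rw [Subgroup.index_bot] at hidx
        obtain ⟨s, hs, -, -⟩ := (Cfsg.Agent.S0740.result hZ hab).1
        have h2G : 2 ∣ Nat.card G := hs ▸ orderOf_dvd_natCard s
        rw [hidx] at h2G
        exact hod.not_two_dvd_nat ((Nat.prime_dvd_prime_iff_eq Nat.prime_two hq).mp (Nat.prime_two.dvd_of_dvd_pow h2G) ▸ hqd)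
      · rw [Subgroup.index_top, eq_comm, Nat.pow_eq_one] at hidx
        rcases hidx with h | h
        · exact hq.ne_one h
        · exact (hq.factorization_pos_of_dvd Nat.card_pos.ne' hqG).ne' h
    obtain ⟨hc, -, hinv⟩ := Cfsg.Agent.S0739.result hZ hab hod hnil
    obtain ⟨s, hs, hsa, hsb⟩ := (Cfsg.Agent.S0740.result hZ hab).1
    exact ⟨hc, s, hs, hsa, hsb, hinv s hsa hsb⟩

end Cfsg.Agent.S0345
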