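import Cfsg.Statements.S0231
import Cfsg.Agent.Lib.Involutions
import Mathlib.GroupTheory.Sylow
import Mathlib.Tactic.Group
-- import your own Cfsg.Agent.* helpers here

set_option autoImplicit false
open scoped Pointwise
open Cfsg

namespace Cfsg.Agent.S0231

variable {G : Type*} [Group G] [Finite G]

theorem sylow_inf_eq {T : Sylow 2 G}
    (hTI : ∀ g : G, MulAut.conj g • (T : Subgroup G) ≠ T → MulAut.conj g • (T : Subgroup G) ⊓ T = ⊥)
    {A B : Sylow 2 G} {w : G} (hw : w ≠ 1) (hA : w ∈ A) (hB : w ∈ B) : A = B := by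
  obtain ⟨a, ha⟩ := MulAction.exists_smul_eq G A T
  obtain ⟨b, hb⟩ := MulAction.exists_smul_eq G (a • B) T
  have h1 : a * w * a⁻¹ ∈ (T : Subgroup G) := by
    rw [← ha, Sylow.coe_subgroup_smul]
    exact ⟨w, hA, by simp⟩
  have h2 : ((a • B : Sylow 2 G) : Subgroup G) = MulAut.conj b⁻¹ • (T : Subgroup G) := by
    rw [← hb, Sylow.coe_subgroup_smul (g := b), ← mul_smul, ← map_mul, inv_mul_cancel, map_one, one_smul]
  have h3 : a * w * a⁻¹ ∈ ((a • B : Sylow 2 G) : Subgroup G) := by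
    rw [Sylow.coe_subgroup_smul]
    exact ⟨w, hB, by simp⟩
  have h4 : a • B = T := by
    apply Sylow.ext
    rw [h2]
    by_contra hne
    have h5 : a * w * a⁻¹ ∈ MulAut.conj b⁻¹ • (T : Subgroup G) ⊓ T := ⟨h2 ▸ h3, h1⟩
    rw [hTI b⁻¹ hne, Subgroup.mem_bot, mul_inv_eq_one, mul_eq_left] at h5
    exact hw h5
  exact MulAction.injective a (ha.trans h4.symm)

theorem exists_sylow_commute {s w : G} (hs : orderOf s = 2) (hw : orderOf w = 2) (h : Commute s w) :
    ∃ A : Sylow 2 G, s ∈ A ∧ w ∈ A := by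
  have hp : ∀ {v : G}, orderOf v = 2 → IsPGroup 2 (Subgroup.zpowers v) := fun hv =>
    IsPGroup.of_card (n := 1) (by rw [Nat.card_zpowers, hv, pow_one])
  have hle : Subgroup.zpowers s ≤ Subgroup.normalizer ((Subgroup.zpowers w : Subgroup G) : Set G) := by
    refine le_trans ?_ (Subgroup.centralizer_le_normalizer _)
    rw [Subgroup.zpowers_le, Subgroup.mem_centralizer_iff]
    rintro _ ⟨n, rfl⟩
    exact (h.symm.zpow_left n).eq
  obtain ⟨R, hR⟩ := ((hp hs).to_sup_of_normal_right' (hp hw) hle).exists_le_sylow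
  exact ⟨R, hR (Subgroup.mem_sup_left (Subgroup.mem_zpowers _)), hR (Subgroup.mem_sup_right (Subgroup.mem_zpowers _))⟩

theorem same_sylow {T : Sylow 2 G}
    (hTI : ∀ g : G, MulAut.conj g • (T : Subgroup G) ≠ T → MulAut.conj g • (T : Subgroup G) ⊓ T = ⊥)
    {s t : G} (hs : orderOf s = 2) (ht : orderOf t = 2) (hnc : ¬ IsConj s t)
    {A B : Sylow 2 G} (hA : s ∈ A) (hB : t ∈ B) : A = B := by
  have hs' := CfsgLib.Involutions.mul_self_eq_one_of_orderOf hs
  have ht' := CfsgLib.Involutions.mul_self_eq_one_of_orderOf ht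
  have ne1 : ∀ {v : G}, orderOf v = 2 → v ≠ 1 := fun hv e => by simp [e] at hv
  rcases Nat.even_or_odd (orderOf (s * t)) with he | ho
  · obtain ⟨h1, h2⟩ := CfsgLib.Involutions.central_half hs' ht' he
    have hw := CfsgLib.Involutions.orderOf_half (x := s) (y := t) he
    obtain ⟨P, hsP, hwP⟩ := exists_sylow_commute hs hw h1.symm
    obtain ⟨Q, htQ, hwQ⟩ := exists_sylow_commute ht hw h2.symm
    calc A = P := sylow_inf_eq hTI (ne1 hs) hA hsP
      _ = Q := sylow_inf_eq hTI (ne1 hw) hwP hwQ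
      _ = B := sylow_inf_eq hTI (ne1 ht) htQ hB
  · obtain ⟨d, -, hd⟩ := CfsgLib.Involutions.exists_conj_eq_of_odd hs' ht' ho
    exact absurd (isConj_iff.mpr ⟨d, hd⟩) hnc

/-- Let T be a Sylow 2-subgroup of the finite group G which is not normal and which intersects every other Sylow 2-subgroup trivially. Then G has a single conjugacy class of involutions. -/
theorem result {G : Type*} [Group G] [Finite G] (T : Sylow 2 G) (hnn : ¬ (T : Subgroup G).Normal) (hTI : ∀ g : G, MulAut.conj g • (T : Subgroup G) ≠ T → MulAut.conj g • (T : Subgroup G) ⊓ T = ⊥) (s t : G) (hs : orderOf s = 2) (ht : orderOf t = 2) : IsConj s t := by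
  by_contra hnc
  have hp : IsPGroup 2 (Subgroup.zpowers s) := IsPGroup.of_card (n := 1) (by rw [Nat.card_zpowers, hs, pow_one])
  obtain ⟨A, hA⟩ := hp.exists_le_sylow
  have hp' : IsPGroup 2 (Subgroup.zpowers t) := IsPGroup.of_card (n := 1) (by rw [Nat.card_zpowers, ht, pow_one])
  obtain ⟨B, hB⟩ := hp'.exists_le_sylow
  have hAB := same_sylow hTI hs ht hnc (hA (Subgroup.mem_zpowers s)) (hB (Subgroup.mem_zpowers t))
  refine hnn ⟨fun n hn g => ?_⟩
  -- every conjugate of `B` is equal to `A`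
  have hfix : ∀ g : G, g • B = A := by
    intro g
    refine (same_sylow hTI hs (CfsgLib.Involutions.orderOf_conj g t ▸ ht)
      (fun h => hnc (h.trans (isConj_iff.mpr ⟨g, rfl⟩).symm)) (hA (Subgroup.mem_zpowers s)) ?_).symm
    show g * t * g⁻¹ ∈ ((g • B : Sylow 2 G) : Subgroup G)
    rw [Sylow.coe_subgroup_smul]
    exact ⟨t, hB (Subgroup.mem_zpowers t), by simp⟩
  obtain ⟨k, hk⟩ := MulAction.exists_smul_eq G B T
  have hT : g • T = T := by rw [← hk, smul_smul, hfix, hfix]
  have h1 := congrArg (fun P : Sylow 2 G => (P : Subgroup G)) hT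
  simp only [Sylow.coe_subgroup_smul] at h1
  rw [← h1]
  exact ⟨n, hn, by simp⟩

end Cfsg.Agent.S0231
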