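import Cfsg.Statements.S0262
import Mathlib
import Cfsg.Agent.Lib.PSL2Spectrum

set_option autoImplicit false
open Cfsg

namespace Cfsg.Agent.S0262

open Matrix

/-- For an odd prime r different from the characteristic, the Sylow r-subgroups of SL_2(q) are cyclic. -/
theorem result {F : Type*} [Field F] [Fintype F] (p : ℕ) [Fact p.Prime] [CharP F p] (r : ℕ) [Fact r.Prime] (hr : r ≠ 2) (hrp : r ≠ p) (R : Sylow r (Matrix.SpecialLinearGroup (Fin 2) F)) : IsCyclic (R : Subgroup (Matrix.SpecialLinearGroup (Fin 2) F)) := by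
  classical
  obtain ⟨e, he⟩ := R.2.exists_card_eq
  -- some cyclic group contains a Sylow subgroup
  suffices h : ∃ g : SpecialLinearGroup (Fin 2) F, r ^ e ∣ orderOf g by
    obtain ⟨g, hg⟩ := h
    obtain ⟨c, hc⟩ := hg
    have hc0 : c ≠ 0 := fun h0 => (orderOf_pos g).ne' (by rw [hc, h0, mul_zero])
    have ho : orderOf (g ^ c) = r ^ e := by
      rw [orderOf_pow, hc, Nat.gcd_eq_right (dvd_mul_left c _), Nat.mul_div_cancel _ (Nat.pos_of_ne_zero hc0)]
    obtain ⟨Q, hQ⟩ := (IsPGroup.of_card (p := r) (n := e) (by rw [Nat.card_zpowers, ho] : Nat.card (Subgroup.zpowers (g ^ c)) = r ^ e)).exists_le_sylow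
    have hQe : Subgroup.zpowers (g ^ c) = (Q : Subgroup _) := Subgroup.eq_of_le_of_card_ge hQ (by
      rw [Nat.card_zpowers, ho, ← he, Q.card_eq_multiplicity, R.card_eq_multiplicity])
    haveI : IsCyclic (Q : Subgroup (SpecialLinearGroup (Fin 2) F)) := by
      rw [← hQe]; infer_instance
    exact (Q.equiv R).isCyclic.mp inferInstance
  obtain ⟨f, hp, hq⟩ := FiniteField.card F p
  have hrP : r.Prime := Fact.out
  rcases Nat.eq_zero_or_pos e with rfl | hepos
  · exact ⟨1, by simp⟩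
  have hd : r ^ e ∣ Fintype.card F * ((Fintype.card F + 1) * (Fintype.card F - 1)) := by
    rw [← Nat.sq_sub_sq, one_pow, ← CfsgLib.SLCard.card_SL_two, ← he]
    exact Subgroup.card_subgroup_dvd_card _
  have hd2 : r ^ e ∣ (Fintype.card F + 1) * (Fintype.card F - 1) := by
    refine Nat.Coprime.dvd_of_dvd_mul_left ?_ hd
    refine Nat.Coprime.pow_left _ ?_
    rw [hq]
    exact Nat.Coprime.pow_right _ ((Nat.coprime_primes hrP hp).mpr hrp)
  by_cases h1 : r ∣ Fintype.card F - 1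
  · obtain ⟨g, hg⟩ := CfsgLib.PSL2Spectrum.exists_orderOf_card_sub_one (F := F)
    refine ⟨g, hg ▸ Nat.Coprime.dvd_of_dvd_mul_left ?_ hd2⟩
    refine Nat.Coprime.pow_left _ (hrP.coprime_iff_not_dvd.mpr fun h2 => hr ?_)
    have h3 := Nat.dvd_sub h2 h1
    rw [show Fintype.card F + 1 - (Fintype.card F - 1) = 2 by have := Fintype.card_pos (α := F); omega] at h3
    exact (Nat.prime_dvd_prime_iff_eq hrP Nat.prime_two).mp h3
  · obtain ⟨g, hg⟩ := CfsgLib.NonSplitTorus.exists_orderOf_card_add_one (F := F) p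
    exact ⟨g, hg ▸ (Nat.Coprime.pow_left _ (hrP.coprime_iff_not_dvd.mpr h1)).dvd_of_dvd_mul_right hd2⟩

end Cfsg.Agent.S0262
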