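import Cfsg.Statements.S2202
import Cfsg.Agent.Lib.AbInvCent.Main
import Cfsg.Agent.S1230
import Cfsg.Agent.S0262
import Cfsg.Agent.Lib.PrimeGraphExt
import Mathlib

set_option autoImplicit false
set_option linter.style.haveILetI false
open Cfsg
open scoped commutatorElement

namespace Cfsg.Agent.S2202

/-- A group whose central quotient is `SL(2, 2^f)`, with centre of odd order, is their direct product. -/
theorem split {G : Type*} [Group G] [Finite G] {F : Type} [Field F] [Fintype F] [CharP F 2]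
    (hF : 4 ≤ Nat.card F) (hZ : ∀ z ∈ Subgroup.center G, Odd (orderOf z))
    (φ : G ⧸ Subgroup.center G ≃* Matrix.SpecialLinearGroup (Fin 2) F)
    (hnc : ¬ ∀ a b : G ⧸ Subgroup.center G, a * b = b * a) :
    Nonempty (G ≃* Matrix.SpecialLinearGroup (Fin 2) F × ↥(Subgroup.center G)) := by
  classical
  haveI : Fact (Nat.Prime 2) := ⟨Nat.prime_two⟩
  haveI : IsSimpleGroup (Matrix.ProjectiveSpecialLinearGroup (Fin 2) F) :=
    Matrix.ProjectiveSpecialLinearGroup.rank_two_simple hF
  haveI : IsSimpleGroup (Matrix.SpecialLinearGroup (Fin 2) F) :=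
    CfsgLib.PrimeGraphExt.pslEquiv.symm.isSimpleGroup
  set π : G →* Matrix.SpecialLinearGroup (Fin 2) F := φ.toMonoidHom.comp (QuotientGroup.mk' _) with hπ
  have hπs : Function.Surjective π := φ.surjective.comp (QuotientGroup.mk'_surjective _)
  have hπk : ∀ g : G, π g = 1 ↔ g ∈ Subgroup.center G := fun g => by
    rw [hπ, MonoidHom.comp_apply, MulEquiv.coe_toMonoidHom, MulEquiv.map_eq_one_iff]
    exact QuotientGroup.eq_one_iff g
  have hperf : commutator (Matrix.SpecialLinearGroup (Fin 2) F) = ⊤ := by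
    rcases (inferInstance : (commutator (Matrix.SpecialLinearGroup (Fin 2) F)).Normal).eq_bot_or_eq_top with h | h
    · refine absurd (fun a b => φ.injective ?_) hnc
      rw [map_mul, map_mul]
      have : ⁅φ a, φ b⁆ ∈ commutator (Matrix.SpecialLinearGroup (Fin 2) F) :=
        Subgroup.commutator_mem_commutator (Subgroup.mem_top _) (Subgroup.mem_top _)
      rw [h, Subgroup.mem_bot, commutatorElement_eq_one_iff_mul_comm] at this
      exact this
    · exact h
  set L := commutator G with hL
  have hLmap : L.map π = ⊤ := by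
    rw [hL, commutator_def, Subgroup.map_commutator, Subgroup.map_top_of_surjective π hπs, ← commutator_def, hperf]
  have hdis : ∀ z ∈ L, z ∈ Subgroup.center G → z = 1 := by
    intro z₀ hz₀L hz₀Z
    by_contra hz₀1
    obtain ⟨r, hr, hrd⟩ := Nat.exists_prime_and_dvd (show orderOf z₀ ≠ 1 by simpa using hz₀1)
    haveI : Fact r.Prime := ⟨hr⟩
    set z := z₀ ^ (orderOf z₀ / r) with hz
    have hzo : orderOf z = r := by
      rw [hz, orderOf_pow_orderOf_div (orderOf_pos z₀).ne' hrd]
    have hzL : z ∈ L := pow_mem hz₀L _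
    have hzZ : z ∈ Subgroup.center G := pow_mem hz₀Z _
    have hr2 : r ≠ 2 := fun e => by
      have := hZ z hzZ
      rw [hzo, e] at this
      exact absurd this (by decide)
    obtain ⟨R, hR⟩ := (IsPGroup.of_card (n := 1) (by rw [Nat.card_zpowers, hzo, pow_one]) :
      IsPGroup r ↥(Subgroup.zpowers z)).exists_le_sylow
    have hcyc := Cfsg.Agent.S0262.result 2 r hr2 hr2 (R.mapSurjective hπs)
    let f : ↥(R : Subgroup G) →* ↥((R.mapSurjective hπs : Sylow r (Matrix.SpecialLinearGroup (Fin 2) F)) :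
        Subgroup (Matrix.SpecialLinearGroup (Fin 2) F)) :=
      (π.comp (R : Subgroup G).subtype).codRestrict _ fun x => ⟨x, x.2, rfl⟩
    have hfk : f.ker ≤ Subgroup.center ↥(R : Subgroup G) := fun x hx => Subgroup.mem_center_iff.mpr fun y =>
      Subtype.ext (Subgroup.mem_center_iff.mp ((hπk x).mp (congrArg Subtype.val hx)) y)
    letI : CommGroup ↥(R : Subgroup G) :=
      { (inferInstance : Group ↥(R : Subgroup G)) with
        mul_comm := fun a b => commutative_of_cyclic_center_quotient f hfk a b }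
    have key : ∀ (k : ℕ) (g₀ : G), g₀⁻¹ * z ^ k * g₀ ∈ (R : Subgroup G) → g₀⁻¹ * z ^ k * g₀ = z ^ k := fun k g₀ _ => by
      rw [mul_assoc, ← Subgroup.mem_center_iff.mp (pow_mem hzZ k) g₀, inv_mul_cancel_left]
    have h1 : MonoidHom.transfer (MonoidHom.id ↥(R : Subgroup G)) z = 1 :=
      Abelianization.commutator_subset_ker _ hzL
    rw [MonoidHom.transfer_eq_pow _ z key] at h1
    have h2 : z ^ (R : Subgroup G).index = 1 := congrArg Subtype.val h1
    have h3 := orderOf_dvd_of_pow_eq_one h2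
    rw [hzo] at h3
    exact R.not_dvd_index h3
  let πL : ↥L →* Matrix.SpecialLinearGroup (Fin 2) F := π.comp L.subtype
  have hbij : Function.Bijective πL := by
    refine ⟨(injective_iff_map_eq_one πL).mpr fun x hx => Subtype.ext (hdis x x.2 ((hπk x).mp hx)), fun y => ?_⟩
    obtain ⟨x, hx, e⟩ := (hLmap ▸ Subgroup.mem_top y : y ∈ L.map π)
    exact ⟨⟨x, hx⟩, e⟩
  let σ := MulEquiv.ofBijective πL hbij
  have hcomm : ∀ (x : Matrix.SpecialLinearGroup (Fin 2) F) (z : ↥(Subgroup.center G)),
      Commute ((L.subtype.comp σ.symm.toMonoidHom) x) ((Subgroup.center G).subtype z) :=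
    fun x z => Subgroup.mem_center_iff.mp z.2 _
  let ψ := MonoidHom.noncommCoprod (L.subtype.comp σ.symm.toMonoidHom) (Subgroup.center G).subtype hcomm
  have hψ : Function.Bijective ψ := by
    refine ⟨(injective_iff_map_eq_one ψ).mpr ?_, fun g => ?_⟩
    · rintro ⟨x, z⟩ e
      have e' : ((σ.symm x : ↥L) : G) * (z : G) = 1 := e
      have h1 : ((σ.symm x : ↥L) : G) = 1 := hdis _ (σ.symm x).2 (by
        rw [eq_inv_of_mul_eq_one_left e']
        exact inv_mem z.2)
      have hx : x = 1 := by
        have := congrArg σ (show σ.symm x = 1 from Subtype.ext h1)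
        rwa [σ.apply_symm_apply, map_one] at this
      rw [h1, one_mul] at e'
      exact Prod.ext hx (Subtype.ext e')
    · have hl : π ((σ.symm (π g) : ↥L) : G) = π g := σ.apply_symm_apply (π g)
      have hz : ((σ.symm (π g) : ↥L) : G)⁻¹ * g ∈ Subgroup.center G :=
        (hπk _).mp (by rw [map_mul, map_inv, hl, inv_mul_cancel])
      refine ⟨(π g, ⟨_, hz⟩), ?_⟩
      show ((σ.symm (π g) : ↥L) : G) * (((σ.symm (π g) : ↥L) : G)⁻¹ * g) = g
      rw [mul_inv_cancel_left]
  exact ⟨(MulEquiv.ofBijective ψ hψ).symm⟩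

/-- Finite groups in which the centralizer of every involution is abelian. Let G be a finite group of even order in which the centralizer of every element of order 2 is abelian. Then the Sylow 2-subgroups of G are cyclic, or a Sylow 2-subgroup of G is normal, or G is isomorphic to the direct product of SL₂(F) for a finite field F of characteristic two and an abelian group of odd order. -/
theorem result {G : Type*} [Group G] [Finite G] (heven : Even (Nat.card G)) (h : ∀ t : G, orderOf t = 2 → IsMulCommutative ↥(Subgroup.centralizer ({t} : Set G))) :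
    (∀ P : Sylow 2 G, IsCyclic ↥P) ∨ (∀ P : Sylow 2 G, (P : Subgroup G).Normal) ∨
    (∃ (F : Type) (_ : Field F) (_ : Fintype F) (A : Type) (_ : CommGroup A) (_ : Finite A), CharP F 2 ∧ Odd (Nat.card A) ∧ Nonempty (G ≃* Matrix.SpecialLinearGroup (Fin 2) F × A)) := by
  classical
  haveI : Fact (Nat.Prime 2) := ⟨Nat.prime_two⟩
  by_cases hcyc : ∀ P : Sylow 2 G, IsCyclic ↥P
  · exact Or.inl hcyc
  refine Or.inr ?_
  push Not at hcyc
  obtain ⟨T, hnc⟩ := hcyc
  by_cases hn : (T : Subgroup G).Normal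
  · haveI := Sylow.unique_of_normal T hn
    exact Or.inl fun P => by rw [Subsingleton.elim P T]; exact hn
  refine Or.inr ?_
  have hT : CfsgLib.AbInvCent.Hyp T := ⟨hnc, hn, h⟩
  have hCA := CfsgLib.AbInvCent.caHyp hT fun c hc => CfsgLib.AbInvCent.sq_central hT hc
  obtain ⟨F, iF, iFt, hF, ⟨e⟩⟩ := Cfsg.Agent.S1230.result (CfsgLib.AbInvCent.Tbar T) hCA.nc hCA.nn hCA.cent
  have h4 : 4 ≤ Nat.card F := by rw [Nat.card_eq_fintype_card, hF]; exact CfsgLib.CAGroup.card_T hCA
  haveI : CharP F 2 := by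
    obtain ⟨p, hp⟩ := CharP.exists F
    haveI := hp
    obtain ⟨k, hpp, hk⟩ := FiniteField.card F p
    obtain ⟨n, hn2⟩ := IsPGroup.iff_card.mp (CfsgLib.AbInvCent.Tbar T).2
    rw [hF, hn2] at hk
    have hn0 : n ≠ 0 := fun e => by
      rw [Nat.card_eq_fintype_card, hF, hn2, e] at h4
      omega
    have h2 : (2 : ℕ) ∣ p ^ (k : ℕ) := hk ▸ dvd_pow_self 2 hn0
    rw [(Nat.prime_dvd_prime_iff_eq Nat.prime_two hpp).mp (Nat.prime_two.dvd_of_dvd_pow h2)]
    exact hp
  obtain ⟨ψ⟩ := split h4 (fun z hz => CfsgLib.AbInvCent.center_odd hT hz)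
    (e.trans CfsgLib.PrimeGraphExt.pslEquiv)
    (fun hab => hCA.nn ⟨fun t ht g => by rwa [hab g t, mul_inv_cancel_right]⟩)
  let eZ : {_x : Fin (Nat.card ↥(Subgroup.center G)) // True} ≃ ↥(Subgroup.center G) :=
    (Equiv.subtypeUnivEquiv fun _ => trivial).trans (Finite.equivFin _).symm
  letI : CommGroup ↥(Subgroup.center G) :=
    { (inferInstance : Group ↥(Subgroup.center G)) with
      mul_comm := fun a b => Subtype.ext (Subgroup.mem_center_iff.mp b.2 a) }
  letI : CommGroup {_x : Fin (Nat.card ↥(Subgroup.center G)) // True} := eZ.commGroup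
  refine ⟨F, iF, iFt, {_x : Fin (Nat.card ↥(Subgroup.center G)) // True}, inferInstance, inferInstance, inferInstance, ?_, ⟨?_⟩⟩
  · rw [Nat.card_congr eZ, ← Nat.not_even_iff_odd]
    intro he
    obtain ⟨z, hz⟩ := exists_prime_orderOf_dvd_card' (G := ↥(Subgroup.center G)) 2 he.two_dvd
    have := CfsgLib.AbInvCent.center_odd hT z.2
    rw [Subgroup.orderOf_coe, hz] at this
    exact absurd this (by decide)
  · exact ψ.trans ((MulEquiv.refl _).prodCongr eZ.mulEquiv.symm)

end Cfsg.Agent.S2202
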