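import Cfsg.Statements.S2739
import Cfsg.Agent.Lib.SLCard
import Mathlib.LinearAlgebra.Matrix.Charpoly.Minpoly
import Mathlib.LinearAlgebra.Matrix.Charpoly.Coeff

set_option autoImplicit false
open scoped Pointwise
open Cfsg
open scoped Matrix Pointwise

namespace Cfsg.Agent.S2739

theorem two_eq_zero {F : Type*} [Field F] [Fintype F] (hF : Fintype.card F = 4) : (2 : F) = 0 := by
  have h := FiniteField.cast_card_eq_zero F
  rw [hF] at h
  have : (2 : F) * 2 = 0 := by rw [← h]; norm_num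
  exact mul_self_eq_zero.mp this

theorem eq_one_or_w {F : Type*} [Field F] {w c : F} (hw : w ^ 3 = 1) (hw1 : w ≠ 1) (hc : c ^ 3 = 1) :
    c = 1 ∨ c = w ∨ c = w ^ 2 := by
  have hsum : w ^ 2 + w + 1 = 0 := by
    have : (w - 1) * (w ^ 2 + w + 1) = 0 := by linear_combination hw
    exact (mul_eq_zero.mp this).resolve_left (sub_ne_zero.mpr hw1)
  have : (c - 1) * ((c - w) * (c - w ^ 2)) = 0 := by
    linear_combination hc - hw - (c ^ 2 - c * w) * hsum
  rcases mul_eq_zero.mp this with e | e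
  · exact Or.inl (sub_eq_zero.mp e)
  · rcases mul_eq_zero.mp e with e | e
    · exact Or.inr (Or.inl (sub_eq_zero.mp e))
    · exact Or.inr (Or.inr (sub_eq_zero.mp e))

/-- Every eigenvalue triple of determinant one is constant or runs over all cube roots of unity. -/
theorem exists_perm {F : Type*} [Field F] {w : F} (hw : w ^ 3 = 1) (hw1 : w ≠ 1) {s : Fin 3 → F}
    (hs : ∀ j, s j ^ 3 = 1) (hprod : s 0 * s 1 * s 2 = 1) (hne : ¬ ∀ j, s j = s 0) :
    ∃ σ : Equiv.Perm (Fin 3), ∀ j, s (σ j) = ![1, w, w ^ 2] j := by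
  classical
  have hw0 : w ≠ 0 := fun e => by simp [e] at hw
  have hw2 : w ^ 2 ≠ 1 := fun e => hw1 (by linear_combination hw - w * e)
  have hww : w ^ 2 ≠ w := fun e => hw1 (mul_left_cancel₀ hw0 (by linear_combination e))
  have hinj : Function.Injective s := by
    have hnn : ∀ u v : F, u ^ 3 = 1 → u * u * v = 1 → v = u := fun u v hu huv => by
      have hu0 : u ≠ 0 := fun e => by simp [e] at hu
      exact mul_left_cancel₀ (mul_ne_zero hu0 hu0) (by linear_combination huv - hu)
    have h01 : s 0 ≠ s 1 := fun e => hne (by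
      have := hnn (s 0) (s 2) (hs 0) (by rw [← hprod, e])
      intro j; fin_cases j
      · rfl
      · exact e.symm
      · exact this)
    have h02 : s 0 ≠ s 2 := fun e => hne (by
      have := hnn (s 0) (s 1) (hs 0) (by rw [← hprod, e]; ring)
      intro j; fin_cases j
      · rfl
      · exact this
      · exact e.symm)
    have h12 : s 1 ≠ s 2 := fun e => hne (by
      have := hnn (s 1) (s 0) (hs 1) (by rw [← hprod, e]; ring)
      intro j; fin_cases j
      · rfl
      · exact this.symm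
      · exact (this.trans e).symm)
    intro i j h
    fin_cases i <;> fin_cases j <;> first | rfl | (exfalso; first | exact h01 h | exact h01 h.symm | exact h02 h | exact h02 h.symm | exact h12 h | exact h12 h.symm)
  have hr : Finset.univ.image s = {1, w, w ^ 2} := by
    refine Finset.eq_of_subset_of_card_le ?_ ?_
    · intro c hc
      obtain ⟨j, -, rfl⟩ := Finset.mem_image.mp hc
      simpa using eq_one_or_w hw hw1 (hs j)
    · rw [Finset.card_image_of_injective _ hinj, Finset.card_univ, Fintype.card_fin]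
      exact (Finset.card_insert_le _ _).trans (Nat.add_le_add_right ((Finset.card_insert_le _ _).trans (by simp)) 1)
  have hmem : ∀ j, ∃ i, s i = ![1, w, w ^ 2] j := fun j => by
    have : ![1, w, w ^ 2] j ∈ Finset.univ.image s := by
      rw [hr]; fin_cases j <;> simp
    simpa using this
  choose σ hσ using hmem
  have hinjv : Function.Injective ![(1 : F), w, w ^ 2] := by
    intro i j h
    fin_cases i <;> fin_cases j <;>
      first | rfl | exact absurd h hw1.symm | exact absurd h hw1 | exact absurd h hw2.symm | exact absurd h hw2 | exact absurd h hww.symm | exact absurd h hww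
  have hσi : Function.Injective σ := fun i j h => hinjv (by rw [← hσ, ← hσ, h])
  exact ⟨Equiv.ofBijective σ (Finite.injective_iff_bijective.mp hσi), hσ⟩

open Matrix in
theorem span_eigen {F : Type*} [Field F] (h2 : (2 : F) = 0) {w : F} (hw : w ^ 3 = 1) (hw1 : w ≠ 1)
    (g : Matrix (Fin 3) (Fin 3) F) (hg : g * g * g = 1) :
    Submodule.span F {v : Fin 3 → F | ∃ c : F, c ^ 3 = 1 ∧ g *ᵥ v = c • v} = ⊤ := by
  have hsum : w ^ 2 + w + 1 = 0 := by
    have : (w - 1) * (w ^ 2 + w + 1) = 0 := by linear_combination hw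
    exact (mul_eq_zero.mp this).resolve_left (sub_ne_zero.mpr hw1)
  rw [eq_top_iff]
  intro v _
  let P : F → (Fin 3 → F) := fun c => v + c ^ 2 • (g *ᵥ v) + c • (g *ᵥ (g *ᵥ v))
  have hP : ∀ c, c ^ 3 = 1 → P c ∈ Submodule.span F {v : Fin 3 → F | ∃ c : F, c ^ 3 = 1 ∧ g *ᵥ v = c • v} :=
    fun c hc => Submodule.subset_span ⟨c, hc, by
      simp only [P, mulVec_add, mulVec_smul]
      rw [mulVec_mulVec v g g, mulVec_mulVec v g (g * g), ← Matrix.mul_assoc, hg, one_mulVec]
      funext i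
      simp only [Pi.add_apply, Pi.smul_apply, smul_eq_mul]
      linear_combination (-(g *ᵥ v) i) * hc⟩
  have e : v = P 1 + P w + P (w ^ 2) := by
    funext i
    simp only [P, Pi.add_apply, Pi.smul_apply, smul_eq_mul]
    linear_combination (-(g *ᵥ v) i * (w ^ 2 - w + 1) - (g *ᵥ (g *ᵥ v)) i) * hsum - v i * h2
  rw [e]
  exact Submodule.add_mem _ (Submodule.add_mem _ (hP 1 (one_pow 3)) (hP w hw))
    (hP (w ^ 2) (by rw [← pow_mul, mul_comm, pow_mul, hw, one_pow]))

open Matrix in
/-- An element of order dividing three, not scalar, is conjugate to `diag(1, w, w²)`. -/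
theorem exists_normal_form {F : Type*} [Field F] [Fintype F] (hF : Fintype.card F = 4) {w : F}
    (hw : w ^ 3 = 1) (hw1 : w ≠ 1) (g : Matrix.SpecialLinearGroup (Fin 3) F) (hg : g ^ 3 = 1)
    (hns : ∀ c : F, g.1 ≠ c • (1 : Matrix (Fin 3) (Fin 3) F)) :
    ∃ a : Matrix.SpecialLinearGroup (Fin 3) F, g.1 * a.1 = a.1 * Matrix.diagonal ![1, w, w ^ 2] := by
  classical
  have hg' : g.1 * g.1 * g.1 = 1 := by
    rw [← Matrix.SpecialLinearGroup.coe_mul, ← Matrix.SpecialLinearGroup.coe_mul, ← sq, ← pow_succ, hg,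
      Matrix.SpecialLinearGroup.coe_one]
  obtain ⟨b, hbS, hspan, hind⟩ := exists_linearIndependent F
    {v : Fin 3 → F | ∃ c : F, c ^ 3 = 1 ∧ g.1 *ᵥ v = c • v}
  rw [span_eigen (two_eq_zero hF) hw hw1 g.1 hg'] at hspan
  let B := Module.Basis.mk hind (by rw [Subtype.range_coe_subtype]; exact hspan.ge)
  have : Fintype b := FiniteDimensional.fintypeBasisIndex B
  have hcard : Fintype.card b = 3 := by
    rw [← Module.finrank_eq_card_basis B, Module.finrank_fin_fun]
  let e : Fin 3 ≃ b := (Fintype.equivFinOfCardEq hcard).symm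
  have hval : ∀ j : Fin 3, ∃ c : F, c ^ 3 = 1 ∧ g.1 *ᵥ (e j : Fin 3 → F) = c • (e j : Fin 3 → F) :=
    fun j => hbS (e j).2
  choose s hs hgs using hval
  let M : (Fin 3 → b) → Matrix (Fin 3) (Fin 3) F := fun f => Matrix.of fun i j => (f j : Fin 3 → F) i
  have hM : ∀ σ : Equiv.Perm (Fin 3), IsUnit (M (fun j => e (σ j))) ∧
      g.1 * M (fun j => e (σ j)) = M (fun j => e (σ j)) * Matrix.diagonal (fun j => s (σ j)) := fun σ => by
    refine ⟨?_, ?_⟩
    · rw [← Matrix.linearIndependent_cols_iff_isUnit]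
      exact (linearIndependent_equiv (σ.trans e)).mpr hind
    · ext k j
      rw [Matrix.mul_diagonal]
      have := congrFun (hgs (σ j)) k
      simp only [Pi.smul_apply, smul_eq_mul] at this
      rw [show (g.1 * M (fun j => e (σ j))) k j = (g.1 *ᵥ (e (σ j) : Fin 3 → F)) k from rfl, this, mul_comm]
      rfl
  obtain ⟨hu, heq⟩ := hM 1
  have hd0 : (M (fun j => e ((1 : Equiv.Perm (Fin 3)) j))).det ≠ 0 :=
    ((Matrix.isUnit_iff_isUnit_det _).mp hu).ne_zero
  have hdet := congrArg Matrix.det heq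
  rw [Matrix.det_mul, g.2, Matrix.det_mul, Matrix.det_diagonal, Fin.prod_univ_three, one_mul] at hdet
  have hprod : s 0 * s 1 * s 2 = 1 := by
    have := mul_left_cancel₀ hd0 ((mul_one _).trans hdet)
    simpa using this.symm
  have hne : ¬ ∀ j, s j = s 0 := by
    intro hall
    refine hns (s 0) ?_
    obtain ⟨u, hu'⟩ := hu
    have h1 : Matrix.diagonal (fun j => s ((1 : Equiv.Perm (Fin 3)) j)) = s 0 • (1 : Matrix (Fin 3) (Fin 3) F) := by
      rw [show (fun j => s ((1 : Equiv.Perm (Fin 3)) j)) = fun _ => s 0 from funext hall]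
      ext i j
      by_cases h : i = j
      · subst h; simp
      · simp [h]
    rw [h1, Matrix.mul_smul, Matrix.mul_one, ← hu'] at heq
    calc g.1 = g.1 * u.1 * (u⁻¹).1 := by simp [Matrix.mul_assoc]
      _ = _ := by rw [heq]; simp
  obtain ⟨σ, hσ⟩ := exists_perm hw hw1 hs hprod hne
  obtain ⟨hu2, heq2⟩ := hM σ
  rw [show (fun j => s (σ j)) = ![1, w, w ^ 2] from funext hσ] at heq2
  set Mσ := M (fun j => e (σ j))
  have hdσ : Mσ.det ≠ 0 := ((Matrix.isUnit_iff_isUnit_det _).mp hu2).ne_zero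
  refine ⟨⟨Mσ * Matrix.diagonal ![Mσ.det⁻¹, 1, 1], by
    rw [Matrix.det_mul, Matrix.det_diagonal, Fin.prod_univ_three]; simp [hdσ]⟩, ?_⟩
  show g.1 * (Mσ * Matrix.diagonal ![Mσ.det⁻¹, 1, 1]) = _
  rw [← Matrix.mul_assoc, heq2, Matrix.mul_assoc, Matrix.mul_assoc, Matrix.diagonal_mul_diagonal,
    Matrix.diagonal_mul_diagonal]
  congr 2
  funext i
  ring

open Matrix in
/-- An element of order three of `PSL₃(4)` lifts to a non-scalar element of order three. -/
theorem exists_lift {F : Type*} [Field F] [Fintype F] (hF : Fintype.card F = 4)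
    (x : Matrix.ProjectiveSpecialLinearGroup (Fin 3) F) (hx : orderOf x = 3) :
    ∃ g : Matrix.SpecialLinearGroup (Fin 3) F, QuotientGroup.mk' _ g = x ∧ g ^ 3 = 1 ∧
      ∀ c : F, g.1 ≠ c • (1 : Matrix (Fin 3) (Fin 3) F) := by
  obtain ⟨g, rfl⟩ := QuotientGroup.mk'_surjective _ x
  have hns : ∀ c : F, g.1 ≠ c • (1 : Matrix (Fin 3) (Fin 3) F) := fun c e => by
    have : g ∈ Subgroup.center (Matrix.SpecialLinearGroup (Fin 3) F) := by
      rw [Subgroup.mem_center_iff]
      intro y
      refine Subtype.ext ?_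
      rw [Matrix.SpecialLinearGroup.coe_mul, Matrix.SpecialLinearGroup.coe_mul, e]
      simp
    rw [show QuotientGroup.mk' _ g = 1 from (QuotientGroup.eq_one_iff g).mpr this, orderOf_one] at hx
    omega
  have hmem : g ^ 3 ∈ Subgroup.center (Matrix.SpecialLinearGroup (Fin 3) F) := by
    rw [← QuotientGroup.eq_one_iff]
    exact (map_pow (QuotientGroup.mk' _) g 3).trans (orderOf_dvd_iff_pow_eq_one.mp (dvd_of_eq hx))
  obtain ⟨r, hr3, hr⟩ := Matrix.SpecialLinearGroup.mem_center_iff.mp hmem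
  refine ⟨g, rfl, ?_, hns⟩
  by_cases hr1 : r = 1
  · refine Subtype.ext ?_
    rw [← hr, hr1, map_one, Matrix.SpecialLinearGroup.coe_one]
  exfalso
  rw [Fintype.card_fin] at hr3
  -- `r` is not a cube, so `X³ - r` is the characteristic polynomial and `det g = r`
  have hnr : ∀ c : F, c ^ 3 ≠ r := fun c hc => by
    by_cases hc0 : c = 0
    · rw [hc0, zero_pow (by norm_num)] at hc
      rw [← hc, zero_pow (by norm_num)] at hr3
      exact zero_ne_one hr3
    · exact hr1 (by rw [← hc, ← FiniteField.pow_card_sub_one_eq_one c hc0, hF])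
  set q : Polynomial F := Polynomial.X ^ 3 - Polynomial.C r with hq
  have hqm : q.Monic := Polynomial.monic_X_pow_sub_C r (by norm_num)
  have hqd : q.natDegree = 3 := Polynomial.natDegree_X_pow_sub_C
  have hirr : Irreducible q := by
    rw [hqm.irreducible_iff_roots_eq_zero_of_degree_le_three (by omega) (by omega)]
    refine Multiset.eq_zero_of_forall_notMem fun c hc => hnr c ?_
    have := Polynomial.isRoot_of_mem_roots hc
    simpa [hq, sub_eq_zero] using this
  have hzero : Polynomial.aeval g.1 q = 0 := by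
    rw [hq, map_sub, map_pow, Polynomial.aeval_X, Polynomial.aeval_C, ← Matrix.SpecialLinearGroup.coe_pow, ← hr,
      Matrix.algebraMap_eq_diagonal, Matrix.scalar_apply]
    simp [Pi.algebraMap_def]
  have hmin : minpoly F g.1 = q := (minpoly.eq_of_irreducible_of_monic hirr hzero hqm).symm
  have hchar : g.1.charpoly = q := by
    refine (Polynomial.eq_of_monic_of_dvd_of_natDegree_le hqm (Matrix.charpoly_monic g.1)
      (hmin ▸ Matrix.minpoly_dvd_charpoly g.1) ?_)
    rw [Matrix.charpoly_natDegree_eq_dim, Fintype.card_fin, hqd]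
  have hd := Matrix.det_eq_sign_charpoly_coeff g.1
  rw [g.2, hchar, Fintype.card_fin, hq] at hd
  simp [Polynomial.coeff_sub, Polynomial.coeff_X_pow] at hd
  exact hr1 (by linear_combination -hd)


/-- In the projective special linear group PSL(3, 4) all subgroups of order 3 are conjugate. -/
theorem result (F : Type*) [Field F] [Fintype F] (hF : Fintype.card F = 4) (X Y : Subgroup (Matrix.ProjectiveSpecialLinearGroup (Fin 3) F)) (hX : Nat.card ↥X = 3) (hY : Nat.card ↥Y = 3) : ∃ g : Matrix.ProjectiveSpecialLinearGroup (Fin 3) F, MulAut.conj g • X = Y := by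
  classical
  haveI : Fact (Nat.Prime 3) := ⟨Nat.prime_three⟩
  have key : ∀ Z : Subgroup (Matrix.ProjectiveSpecialLinearGroup (Fin 3) F), Nat.card ↥Z = 3 →
      ∃ x, orderOf x = 3 ∧ Z = Subgroup.zpowers x := by
    intro Z hZ
    have : IsCyclic Z := isCyclic_of_prime_card hZ
    obtain ⟨z, hz⟩ := IsCyclic.exists_ofOrder_eq_natCard (α := Z)
    rw [hZ] at hz
    refine ⟨z.1, by rw [Subgroup.orderOf_coe, hz], (Subgroup.eq_of_le_of_card_ge
      (Subgroup.zpowers_le.mpr z.2) (by rw [hZ, Nat.card_zpowers, Subgroup.orderOf_coe, hz])).symm⟩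
  obtain ⟨x, hx, rfl⟩ := key X hX
  obtain ⟨y, hy, rfl⟩ := key Y hY
  obtain ⟨w, hw⟩ : ∃ w : F, w ^ 3 = 1 ∧ w ≠ 1 := by
    have hcard : Nat.card Fˣ = 3 := by rw [Nat.card_units, Nat.card_eq_fintype_card, hF]
    have : Nontrivial Fˣ := Finite.one_lt_card_iff_nontrivial.mp (by omega)
    obtain ⟨w, hw⟩ := exists_ne (1 : Fˣ)
    exact ⟨w, by rw [← hcard, ← Units.val_pow_eq_pow_val, pow_card_eq_one', Units.val_one],
      fun e => hw (Units.ext e)⟩
  obtain ⟨g, hgx, hg3, hgns⟩ := exists_lift hF x hx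
  obtain ⟨h, hhy, hh3, hhns⟩ := exists_lift hF y hy
  obtain ⟨a, ha⟩ := exists_normal_form hF hw.1 hw.2 g hg3 hgns
  obtain ⟨b, hb⟩ := exists_normal_form hF hw.1 hw.2 h hh3 hhns
  refine ⟨QuotientGroup.mk' _ (b * a⁻¹), ?_⟩
  have hxy : MulAut.conj (QuotientGroup.mk' _ (b * a⁻¹)) x = y := by
    have hconj : (b * a⁻¹) * g * (b * a⁻¹)⁻¹ = h := by
      rw [mul_inv_eq_iff_eq_mul]
      refine Subtype.ext ?_
      have hai : (a⁻¹).1 * g.1 = Matrix.diagonal ![1, w, w ^ 2] * (a⁻¹).1 := by
        have h1 : (a⁻¹).1 * a.1 = 1 := congrArg Subtype.val (inv_mul_cancel a)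
        have h2 : a.1 * (a⁻¹).1 = 1 := congrArg Subtype.val (mul_inv_cancel a)
        calc (a⁻¹).1 * g.1 = (a⁻¹).1 * (g.1 * a.1) * (a⁻¹).1 := by
              rw [Matrix.mul_assoc, Matrix.mul_assoc g.1, h2, Matrix.mul_one]
          _ = _ := by rw [ha, ← Matrix.mul_assoc, h1, Matrix.one_mul]
      show b.1 * (a⁻¹).1 * g.1 = h.1 * (b.1 * (a⁻¹).1)
      rw [Matrix.mul_assoc, hai, ← Matrix.mul_assoc, ← hb, Matrix.mul_assoc]
    rw [← hgx, ← hhy, ← hconj, MulAut.conj_apply, map_mul, map_mul, map_inv]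
    rfl
  show (Subgroup.zpowers x).map (MulAut.conj (QuotientGroup.mk' _ (b * a⁻¹))).toMonoidHom = _
  rw [MonoidHom.map_zpowers]
  show Subgroup.zpowers (MulAut.conj (QuotientGroup.mk' _ (b * a⁻¹)) x) = _
  rw [hxy]

end Cfsg.Agent.S2739
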