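import Cfsg.Statements.S1477
import Mathlib
import Cfsg.Agent.Lib.Solvable.CN
-- import your own Cfsg.Agent.* helpers here

set_option autoImplicit false
open Cfsg

namespace Cfsg.Agent.S1477

open Subgroup in
private theorem eq_top_of_sylows {K : Type*} [Group K] [Finite K] (L : Subgroup K)
    (h : ∀ q : ℕ, q.Prime → ∃ Q : Sylow q K, (Q : Subgroup K) ≤ L) : L = ⊤ := by
  rw [← Subgroup.index_eq_one]
  by_contra hne
  obtain ⟨q, hq, hd⟩ := Nat.exists_prime_and_dvd hne
  obtain ⟨Q, hQ⟩ := h q hq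
  haveI := Fact.mk hq
  exact Q.not_dvd_index (hd.trans (Subgroup.index_dvd_of_le hQ))

open Subgroup in
private theorem central_of_central_sylow {G : Type*} [Group G] [Finite G] {H : Subgroup G} (hH : Group.IsNilpotent H)
    {p : ℕ} [Fact p.Prime] (P : Sylow p H) {z : G} (hz : z ∈ (P : Subgroup H).map H.subtype)
    (hc : ∀ u ∈ (P : Subgroup H).map H.subtype, u * z = z * u) : ∀ h ∈ H, h * z = z * h := by
  obtain ⟨z', hz', rfl⟩ := hz
  suffices centralizer ({z'} : Set H) = ⊤ by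
    intro h hh
    have h1 : (⟨h, hh⟩ : H) ∈ centralizer ({z'} : Set H) := by rw [this]; exact mem_top _
    exact congrArg (Subtype.val) (mem_centralizer_singleton_iff.mp h1)
  refine eq_top_of_sylows _ fun q hq => ?_
  haveI := Fact.mk hq
  by_cases hqp : q = p
  · subst hqp
    exact ⟨P, fun u hu => mem_centralizer_singleton_iff.mpr (Subtype.ext (hc _ ⟨u, hu, rfl⟩))⟩
  · obtain ⟨Q⟩ : Nonempty (Sylow q H) := inferInstance
    refine ⟨Q, fun u hu => mem_centralizer_singleton_iff.mpr ?_⟩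
    haveI := hH
    refine (CfsgLib.Frob.commute_of_nilpotent_coprime ?_).eq
    refine CfsgLib.CN.coprime_orderOf_of_pGroup P.2 ?_ hz'
    obtain ⟨k, hk⟩ := IsPGroup.exists_card_eq Q.2
    refine Nat.Coprime.coprime_dvd_left ((Q : Subgroup H).orderOf_dvd_natCard hu) ?_
    rw [hk]
    exact ((Nat.coprime_primes hq Fact.out).mpr hqp).pow_left k

open Subgroup in
private theorem sylow_of_maxNil {G : Type*} [Group G] [Finite G] (hG : Cfsg.IsCNGroup G) {H : Subgroup G}
    (hH : Group.IsNilpotent H) (hmax : ∀ L : Subgroup G, Group.IsNilpotent L → H ≤ L → L = H)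
    {p : ℕ} [Fact p.Prime] (hp : p ∣ Nat.card H) (P : Sylow p H) :
    ∃ S : Sylow p G, (S : Subgroup G) = (P : Subgroup H).map H.subtype := by
  set Pg := (P : Subgroup H).map H.subtype with hPg
  obtain ⟨S, hS⟩ := (P.2.map H.subtype).exists_le_sylow
  refine ⟨S, le_antisymm ?_ hS⟩
  by_contra hnle
  haveI : Group.IsNilpotent (S : Subgroup G) := S.2.isNilpotent
  have hlt : Pg.subgroupOf (S : Subgroup G) < ⊤ := lt_top_iff_ne_top.mpr fun e =>
    hnle (Subgroup.subgroupOf_eq_top.mp e)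
  obtain ⟨⟨g, hgS⟩, hgN, hgP⟩ := SetLike.exists_of_lt (Group.normalizerCondition_of_isNilpotent _ hlt)
  have hgnorm : ∀ a, a ∈ Pg ↔ g * a * g⁻¹ ∈ Pg := by
    intro a
    constructor <;> intro ha
    · exact (Subgroup.mem_normalizer_iff.mp hgN ⟨a, hS ha⟩).mp ha
    · have haS : a ∈ (S : Subgroup G) := by
        have := (S : Subgroup G).mul_mem ((S : Subgroup G).mul_mem ((S : Subgroup G).inv_mem hgS) (hS ha)) hgS
        simpa [mul_assoc] using this
      exact (Subgroup.mem_normalizer_iff.mp hgN ⟨a, haS⟩).mpr ha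
  set Nn := (S : Subgroup G) ⊓ normalizer (Pg : Set G) with hNn
  set Z := Pg ⊓ centralizer (Pg : Set G) with hZ
  haveI : Group.IsNilpotent Nn := CfsgLib.CN.isNilpotent_of_le inf_le_left inferInstance
  have hPgN : Pg ≤ Nn := le_inf hS Subgroup.le_normalizer
  have hZn : (Z.subgroupOf Nn).Normal := by
    refine ⟨fun a ha n => ?_⟩
    obtain ⟨ha1, ha2⟩ := Subgroup.mem_inf.mp (show (a : G) ∈ Z from ha)
    have hn := Subgroup.mem_normalizer_iff.mp (Subgroup.mem_inf.mp n.2).2
    refine Subgroup.mem_inf.mpr ⟨(hn _).mp ha1, fun b hb => ?_⟩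
    have hb' : (n : G)⁻¹ * b * n ∈ Pg := (hn _).mpr (by simpa [mul_assoc] using hb)
    have h3 : (n : G)⁻¹ * b * n * a = a * ((n : G)⁻¹ * b * n) := ha2 _ hb'
    show b * ((n : G) * a * (n : G)⁻¹) = (n : G) * a * (n : G)⁻¹ * b
    calc b * ((n : G) * a * (n : G)⁻¹) = (n : G) * ((n : G)⁻¹ * b * n * a) * (n : G)⁻¹ := by group
      _ = _ := by rw [h3]; group
  have hP1 : (P : Subgroup H) ≠ ⊥ := P.ne_bot_of_dvd_card hp
  have hZ1 : Z.subgroupOf Nn ≠ ⊥ := by
    rw [Ne, Subgroup.subgroupOf_eq_bot, disjoint_iff, inf_eq_left.mpr (inf_le_left.trans hPgN)]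
    haveI : Nontrivial (P : Subgroup H) := (nontrivial_iff_ne_bot _).mpr hP1
    obtain ⟨⟨z, hzP⟩, hzc, hz1⟩ := (bot_or_exists_ne_one _).resolve_left
      ((nontrivial_iff_ne_bot _).mp P.2.center_nontrivial)
    intro e
    have hmem : (z : G) ∈ Z := Subgroup.mem_inf.mpr ⟨⟨z, hzP, rfl⟩, by
      rintro _ ⟨b, hb, rfl⟩
      exact congrArg (fun w : (P : Subgroup H) => ((w : H) : G)) (Subgroup.mem_center_iff.mp hzc ⟨b, hb⟩)⟩
    have h' : Z = ⊥ := e
    rw [h', Subgroup.mem_bot] at hmem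
    exact hz1 (Subtype.ext (Subtype.ext hmem))
  haveI := hZn
  obtain ⟨⟨z, hzN⟩, ⟨hzZ, hzc⟩, hz1⟩ := (bot_or_exists_ne_one _).resolve_left
    (CfsgLib.inf_center_ne_bot_of_nilpotent (G := Nn) (N := Z.subgroupOf Nn) hZ1)
  replace hzZ : z ∈ Z := hzZ
  have hz : z ≠ 1 := fun e => hz1 (Subtype.ext e)
  have hcH := central_of_central_sylow hH P (Subgroup.mem_inf.mp hzZ).1 fun u hu =>
    (Subgroup.mem_inf.mp hzZ).2 u hu
  have hCH := hmax _ (hG z hz) fun h hh => mem_centralizer_singleton_iff.mpr (hcH h hh)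
  have hgNn : g ∈ Nn := Subgroup.mem_inf.mpr ⟨hgS, Subgroup.mem_normalizer_iff.mpr hgnorm⟩
  have hgH : g ∈ H := by
    rw [← hCH, mem_centralizer_singleton_iff]
    exact congrArg Subtype.val (Subgroup.mem_center_iff.mp hzc ⟨g, hgNn⟩)
  have hSH : (S : Subgroup G).subgroupOf H = P := P.3 S.2.comap_subtype fun a ha => hS ⟨a, ha, rfl⟩
  exact hgP (show g ∈ Pg from ⟨⟨g, hgH⟩, hSH ▸ (hgS : (⟨g, hgH⟩ : H) ∈ (S : Subgroup G).subgroupOf H), rfl⟩)

/-- Let G be a finite group in which every non-identity element has nilpotent centralizer, and H a nilpotent subgroup not properly contained in any nilpotent subgroup. Then the order of H is coprime to its index; if the order of H is not a prime power then H ∩ gHg⁻¹ = 1 whenever gHg⁻¹ ≠ H; and if H ∩ gHg⁻¹ = 1 whenever gHg⁻¹ ≠ H, then C_G(x) ≤ H for every non-identity x ∈ H. -/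
theorem result {G : Type*} [Group G] [Finite G] (hCN : Cfsg.IsCNGroup G) (H : Subgroup G) (hH : Group.IsNilpotent H)
    (hmax : ∀ L : Subgroup G, Group.IsNilpotent L → H ≤ L → L = H) :
    (Nat.card H).Coprime H.index ∧
      (¬ IsPrimePow (Nat.card H) → Nat.card H ≠ 1 → ∀ g : G, H.map (MulAut.conj g).toMonoidHom ≠ H → H ⊓ H.map (MulAut.conj g).toMonoidHom = ⊥) ∧
      ((∀ g : G, H.map (MulAut.conj g).toMonoidHom ≠ H → H ⊓ H.map (MulAut.conj g).toMonoidHom = ⊥) → ∀ x ∈ H, x ≠ 1 → Subgroup.centralizer ({x} : Set G) ≤ H) := by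
  have hcop : (Nat.card H).Coprime H.index := by
    refine Nat.coprime_of_dvd fun p hp h1 h2 => ?_
    haveI := Fact.mk hp
    obtain ⟨P⟩ : Nonempty (Sylow p H) := inferInstance
    obtain ⟨S, hS⟩ := sylow_of_maxNil hCN hH hmax h1 P
    exact S.not_dvd_index (h2.trans (Subgroup.index_dvd_of_le (hS.le.trans (Subgroup.map_subtype_le _))))
  have hcomm : ∀ a ∈ H, ∀ b ∈ H, (orderOf a).Coprime (orderOf b) → a * b = b * a := fun a ha b hb h => by
    haveI := hH
    exact congrArg Subtype.val (CfsgLib.Frob.commute_of_nilpotent_coprime (a := (⟨a, ha⟩ : H)) (b := ⟨b, hb⟩)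
      (by rwa [Subgroup.orderOf_mk, Subgroup.orderOf_mk])).eq
  refine ⟨hcop, fun hnp hne1 g hg => ?_, fun hTI x hx hx1 => ?_⟩
  · rw [Subgroup.eq_bot_iff_forall]
    intro x0 hx0
    by_contra hx01
    obtain ⟨p, hp, hpd⟩ := Nat.exists_prime_and_dvd (mt orderOf_eq_one_iff.mp hx01)
    haveI := Fact.mk hp
    set x := x0 ^ (orderOf x0 / p) with hxdef
    have hxo : orderOf x = p := orderOf_pow_orderOf_div (orderOf_pos x0).ne' hpd
    obtain ⟨hxH, hxHg⟩ := Subgroup.mem_inf.mp (pow_mem hx0 (orderOf x0 / p))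
    have hx1 : x ≠ 1 := fun e => by rw [e, orderOf_one] at hxo; exact hp.ne_one hxo.symm
    obtain ⟨q, hq, hqd, hqp⟩ : ∃ q, q.Prime ∧ q ∣ Nat.card H ∧ q ≠ p := by
      by_contra hcon
      push Not at hcon
      have hcp := Nat.eq_prime_pow_of_unique_prime_dvd Nat.card_pos.ne' (fun {d} hd hdd => hcon d hd hdd)
      refine hnp ?_
      rw [hcp]
      refine hp.prime.isPrimePow.pow fun e => hne1 ?_
      rw [hcp, e, pow_zero]
    haveI := Fact.mk hq
    obtain ⟨Q⟩ : Nonempty (Sylow q H) := inferInstance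
    obtain ⟨S, hS⟩ := sylow_of_maxNil hCN hH hmax hqd Q
    have hSH : (S : Subgroup G) ≤ H := hS.le.trans (Subgroup.map_subtype_le _)
    have hord : ∀ a ∈ (S : Subgroup G), (orderOf a).Coprime p := fun a ha => by
      obtain ⟨k, hk⟩ := IsPGroup.exists_card_eq S.2
      refine Nat.Coprime.coprime_dvd_left ((S : Subgroup G).orderOf_dvd_natCard ha) ?_
      rw [hk]
      exact ((Nat.coprime_primes hq hp).mpr hqp).pow_left k
    have hSC : (S : Subgroup G) ≤ Subgroup.centralizer ({x} : Set G) := fun a ha =>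
      Subgroup.mem_centralizer_singleton_iff.mpr (hcomm a (hSH ha) x hxH (by rw [hxo]; exact hord a ha))
    have hSgC : ((g • S : Sylow q G) : Subgroup G) ≤ Subgroup.centralizer ({x} : Set G) := by
      obtain ⟨b, hb, hbx⟩ := hxHg
      replace hbx : g * b * g⁻¹ = x := hbx
      intro y hy
      obtain ⟨a, ha, rfl⟩ := hy
      have hbo : orderOf b = p := by
        rw [← hxo, ← hbx]; exact ((MulAut.conj g).orderOf_eq b).symm
      have hab := hcomm a (hSH ha) b hb (by rw [hbo]; exact hord a ha)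
      rw [Subgroup.mem_centralizer_singleton_iff, ← hbx]
      show g * a * g⁻¹ * (g * b * g⁻¹) = g * b * g⁻¹ * (g * a * g⁻¹)
      calc g * a * g⁻¹ * (g * b * g⁻¹) = g * (a * b) * g⁻¹ := by group
        _ = _ := by rw [hab]; group
    haveI := hCN x hx1
    have heq : S.subtype hSC = (g • S).subtype hSgC := by
      have hn : (S.subtype hSC : Subgroup (Subgroup.centralizer ({x} : Set G))).Normal :=
        (Group.isNilpotent_of_finite_tfae (G := Subgroup.centralizer ({x} : Set G))).out 0 3 rfl rfl |>.mp inferInstance q inferInstance _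
      obtain ⟨c, hc⟩ := MulAction.exists_smul_eq (Subgroup.centralizer ({x} : Set G)) (S.subtype hSC) ((g • S).subtype hSgC)
      rw [← hc, Sylow.smul_eq_of_normal]
    have hgS : g • S = S := (Sylow.subtype_injective heq).symm
    haveI : Nontrivial (Q : Subgroup H) := (Subgroup.nontrivial_iff_ne_bot _).mpr (Q.ne_bot_of_dvd_card hqd)
    obtain ⟨⟨w, hwQ⟩, hwc, hw1⟩ := (Subgroup.bot_or_exists_ne_one _).resolve_left
      ((Subgroup.nontrivial_iff_ne_bot _).mp Q.2.center_nontrivial)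
    have hwS : ∀ u ∈ (S : Subgroup G), u * (w : G) = (w : G) * u := by
      rw [hS]
      rintro _ ⟨b, hb, rfl⟩
      exact congrArg (fun v : (Q : Subgroup H) => ((v : H) : G)) (Subgroup.mem_center_iff.mp hwc ⟨b, hb⟩)
    have hw0 : (w : G) ≠ 1 := fun e => hw1 (Subtype.ext (Subtype.ext e))
    set w' := g * (w : G) * g⁻¹ with hw'
    have hmemg : ∀ u ∈ (S : Subgroup G), g * u * g⁻¹ ∈ (S : Subgroup G) := fun u hu => by
      have : g * u * g⁻¹ ∈ ((g • S : Sylow q G) : Subgroup G) := ⟨u, hu, rfl⟩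
      rwa [hgS] at this
    have hwS' : (w : G) ∈ (S : Subgroup G) := hS ▸ ⟨w, hwQ, rfl⟩
    have hw'H := central_of_central_sylow hH Q (z := w') (hS ▸ hmemg _ hwS') (by
      rw [← hS]
      intro u hu
      have hu2 : u ∈ ((g • S : Sylow q G) : Subgroup G) := by rwa [hgS]
      obtain ⟨a, ha, rfl⟩ := hu2
      show g * a * g⁻¹ * (g * (w : G) * g⁻¹) = g * (w : G) * g⁻¹ * (g * a * g⁻¹)
      calc g * a * g⁻¹ * (g * (w : G) * g⁻¹) = g * (a * w) * g⁻¹ := by group
        _ = _ := by rw [hwS a ha]; group)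
    have hwH := central_of_central_sylow hH Q (z := (w : G)) ⟨w, hwQ, rfl⟩ (hS ▸ hwS)
    have hC' := hmax _ (hCN w' (fun e => hw0 (conj_eq_one_iff.mp e)))
      fun a ha => Subgroup.mem_centralizer_singleton_iff.mpr (hw'H a ha)
    apply hg
    refine Subgroup.eq_of_le_of_card_ge ?_ ?_
    · rintro _ ⟨a, ha, rfl⟩
      rw [← hC', Subgroup.mem_centralizer_singleton_iff]
      show g * a * g⁻¹ * (g * (w : G) * g⁻¹) = g * (w : G) * g⁻¹ * (g * a * g⁻¹)
      calc g * a * g⁻¹ * (g * (w : G) * g⁻¹) = g * (a * w) * g⁻¹ := by group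
        _ = _ := by rw [hwH a ha]; group
    · exact (Subgroup.card_map_of_injective (MulAut.conj g).injective).ge
  · haveI := hH
    haveI : Nontrivial H := ⟨⟨⟨x, hx⟩, 1, fun e => hx1 (congrArg Subtype.val e)⟩⟩
    have h2 := CfsgLib.inf_center_ne_bot_of_nilpotent (G := H) (N := ⊤) (bot_lt_top.ne')
    rw [top_inf_eq] at h2
    obtain ⟨⟨z, hzH⟩, hzc, hz1⟩ := (Subgroup.bot_or_exists_ne_one _).resolve_left h2
    have hz : z ≠ 1 := fun e => hz1 (Subtype.ext e)
    have hzcomm : ∀ u ∈ H, u * z = z * u := fun u hu =>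
      congrArg Subtype.val (Subgroup.mem_center_iff.mp hzc ⟨u, hu⟩)
    have hCz := hmax _ (hCN z hz) fun u hu => Subgroup.mem_centralizer_singleton_iff.mpr (hzcomm u hu)
    set L := Subgroup.centralizer ({x} : Set G) with hL
    haveI := hCN x hx1
    have hcop' : ∀ a ∈ L, (orderOf a).Coprime (Nat.card H) → a = 1 := by
      intro a haL hac
      have hza : a * z = z * a := CfsgLib.CN.commute_of_mem_centralizer hCN hx1
        (Subgroup.mem_centralizer_singleton_iff.mp haL) (hzcomm x hx).symm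
        (hac.coprime_dvd_right (H.orderOf_dvd_natCard hzH))
      have haH : a ∈ H := hCz ▸ Subgroup.mem_centralizer_singleton_iff.mpr hza
      exact orderOf_eq_one_iff.mp (Nat.eq_one_of_dvd_coprimes hac dvd_rfl (H.orderOf_dvd_natCard haH))
    by_contra hnle
    have hlt : H.subgroupOf L < ⊤ := lt_top_iff_ne_top.mpr fun e => hnle (Subgroup.subgroupOf_eq_top.mp e)
    obtain ⟨⟨g, hgL⟩, hgN, hgH⟩ := SetLike.exists_of_lt (Group.normalizerCondition_of_isNilpotent _ hlt)
    replace hgH : g ∉ H := hgH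
    have hgx : g * x * g⁻¹ = x := by
      rw [Subgroup.mem_centralizer_singleton_iff.mp hgL, mul_inv_cancel_right]
    have hHg : H.map (MulAut.conj g).toMonoidHom = H := by
      by_contra hne
      have : x ∈ H ⊓ H.map (MulAut.conj g).toMonoidHom := Subgroup.mem_inf.mpr ⟨hx, x, hx, hgx⟩
      rw [hTI g hne, Subgroup.mem_bot] at this
      exact hx1 this
    have hgNH : g ∈ Subgroup.normalizer (H : Set G) := by
      rw [Subgroup.mem_normalizer_iff]
      intro a
      constructor <;> intro ha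
      · rw [← hHg]; exact ⟨a, ha, rfl⟩
      · have ha' : g * a * g⁻¹ ∈ H.map (MulAut.conj g).toMonoidHom := by rw [hHg]; exact ha
        obtain ⟨b, hb, hb'⟩ := ha'
        have : b = a := (MulAut.conj g).injective hb'
        exact this ▸ hb
    set m := (H.subgroupOf (Subgroup.normalizer (H : Set G))).index with hm
    have hgm : g ^ m ∈ H := Subgroup.pow_index_mem (H.subgroupOf (Subgroup.normalizer (H : Set G))) ⟨g, hgNH⟩
    have hmd : m ∣ H.index := Subgroup.relIndex_dvd_index_of_le Subgroup.le_normalizer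
    have hgcd : (orderOf g).Coprime m := by
      refine Nat.coprime_of_dvd fun r hr hr1 hr2 => ?_
      have h3 := hcop' (g ^ (orderOf g / r)) (pow_mem hgL _) (by
        rw [orderOf_pow_orderOf_div (orderOf_pos g).ne' hr1]
        exact (hcop.coprime_dvd_right (hr2.trans hmd)).symm)
      rw [← orderOf_eq_one_iff, orderOf_pow_orderOf_div (orderOf_pos g).ne' hr1] at h3
      exact hr.ne_one h3
    obtain ⟨j, hj⟩ := exists_pow_eq_self_of_coprime (x := g) (n := m) hgcd.symm
    exact hgH (hj ▸ pow_mem hgm j)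

end Cfsg.Agent.S1477
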