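import Cfsg.Statements.S2117
import Cfsg.Agent.Lib.StSL.Two
import Cfsg.Agent.Lib.StSL.Small
-- import your own Cfsg.Agent.* helpers here

set_option autoImplicit false
open Cfsg

namespace Cfsg.Agent.S2117

/-- For a finite field with q elements, q ≠ 4 and q ≠ 9, the special linear group SL₂ has trivial Schur multiplier (here the Schur multiplier is described through stem extensions, as in the definitions). -/
theorem result {F : Type*} [Field F] [Fintype F] (h4 : Fintype.card F ≠ 4) (h9 : Fintype.card F ≠ 9) : Cfsg.HasCyclicSchurMultiplier (Matrix.SpecialLinearGroup (Fin 2) F) 1 := by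
  classical
  obtain ⟨p, hp⟩ := CharP.exists F
  by_cases h5 : 5 ≤ Fintype.card F
  · exact CfsgLib.StSL.trivial_of_split (CfsgLib.StSL.splitG_SL2 h5 h9)
  have hc : Fintype.card F = 2 ∨ Fintype.card F = 3 := by
    have := Fintype.one_lt_card (α := F)
    omega
  have hpr : (Fintype.card F).Prime := by rcases hc with h | h <;> rw [h] <;> norm_num
  haveI : Fact (Fintype.card F).Prime := ⟨hpr⟩
  let e : ZMod (Fintype.card F) ≃+* F := ZMod.ringEquivOfPrime F hpr rfl
  rcases hc with h | h
  · let e' : F ≃+* ZMod 2 := e.symm.trans (ZMod.ringEquivCongr h)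
    have hbij : Function.Bijective (Matrix.SpecialLinearGroup.map (n := Fin 2) (e' : F →+* ZMod 2)) :=
      ⟨fun a b hab => Subtype.ext (Matrix.map_injective e'.injective (congrArg Subtype.val hab)),
       fun b => ⟨Matrix.SpecialLinearGroup.map (e'.symm : ZMod 2 →+* F) b,
         Subtype.ext (Matrix.ext fun i j => e'.apply_symm_apply _)⟩⟩
    exact CfsgLib.StSL.trivial_multiplier_of_equiv (MulEquiv.ofBijective _ hbij)
      fun Γ _ _ σ hσ => CfsgLib.StSL.stem_SL2_two hσ
  · let e' : F ≃+* ZMod 3 := e.symm.trans (ZMod.ringEquivCongr h)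
    have hbij : Function.Bijective (Matrix.SpecialLinearGroup.map (n := Fin 2) (e' : F →+* ZMod 3)) :=
      ⟨fun a b hab => Subtype.ext (Matrix.map_injective e'.injective (congrArg Subtype.val hab)),
       fun b => ⟨Matrix.SpecialLinearGroup.map (e'.symm : ZMod 3 →+* F) b,
         Subtype.ext (Matrix.ext fun i j => e'.apply_symm_apply _)⟩⟩
    exact CfsgLib.StSL.trivial_multiplier_of_equiv (MulEquiv.ofBijective _ hbij)
      fun Γ _ _ σ hσ => CfsgLib.StSL.stem_SL2_three hσ

end Cfsg.Agent.S2117
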