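import Cfsg.Statements.S0790
import Mathlib
import Cfsg.Agent.Lib.SpinorMatrix
import Cfsg.Agent.Lib.Lagrangian
import Cfsg.Agent.Lib.OrthOrderBase
import Cfsg.Agent.Lib.FiniteForms.Standard

set_option autoImplicit false
open Cfsg

namespace Cfsg.Agent.S0790

theorem count {F : Type*} [Field F] [Fintype F] (m : ℕ) :
    (Nat.card {v : Fin m ⊕ Fin m → F // Cfsg.quadFormPlus m F v = 1} : ℤ) * Fintype.card F =
      (Fintype.card F : ℤ) ^ m * ((Fintype.card F : ℤ) ^ m - 1) := by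
  classical
  set q := Fintype.card F with hq
  have hq1 : 1 < q := Fintype.one_lt_card
  induction m with
  | zero =>
    have : IsEmpty {v : Fin 0 ⊕ Fin 0 → F // Cfsg.quadFormPlus 0 F v = 1} :=
      ⟨fun v => by simpa [Cfsg.quadFormPlus] using v.2⟩
    simp
  | succ m ih =>
    have e : {v : Fin (m + 1) ⊕ Fin (m + 1) → F // Cfsg.quadFormPlus (m + 1) F v = 1} ≃
        {p : (F × F) × (Fin m ⊕ Fin m → F) // p.1.1 * p.1.2 + Cfsg.quadFormPlus m F p.2 = 1} :=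
      (CfsgLib.QuadCount.splitHyp m F).subtypeEquiv fun v => by
        simp [CfsgLib.QuadCount.splitHyp, Cfsg.quadFormPlus, Fin.sum_univ_succ]
    rw [Nat.card_congr e, CfsgLib.QuadCount.card_hyp, Fintype.card_fun, Fintype.card_sum,
      Fintype.card_fin, ← hq]
    push_cast [Nat.cast_sub (show 1 ≤ q by omega)]
    linear_combination (q : ℤ) * ih

theorem mem_iff {F : Type*} [Field F] [Fintype F] {ι : Type} [Fintype ι] [DecidableEq ι]
    (f : (ι → F) → F) (Q : QuadraticForm F (ι → F)) (hf : ∀ v, f v = Q v) (h2 : (2 : F) ≠ 0)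
    (hn : 2 ≤ Fintype.card ι) (he : Even (Fintype.card ι))
    (hQ : (QuadraticMap.polarBilin Q).Nondegenerate) :
    (∃ g : ↥(Cfsg.isometryGroup F f), g ∈ Cfsg.Omega F f ∧ g.1.1 = -1) ↔
      Even (Nat.card {x : ι → F // f x = 1} / 2) := by
  classical
  obtain rfl : f = ⇑Q := funext hf
  exact CfsgLib.SpinorMatrix.neg_one_mem_iff Q h2 hn he hQ


/-- −1 ∈ Ω⁺_2m(q) iff q^m ≡ 1 (mod 4), for q odd and m ≥ 1 (so that in the other case SO⁺_2m(q) = 2 × Ω⁺_2m(q)). -/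
theorem result {F : Type*} [Field F] [Fintype F] {q : ℕ} (hF : Fintype.card F = q) (hodd : Odd q) (m : ℕ) (hm : 1 ≤ m) : (∃ g : ↥(Cfsg.isometryGroup F (Cfsg.quadFormPlus m F)), g ∈ Cfsg.Omega F (Cfsg.quadFormPlus m F) ∧ ((g : Matrix.GeneralLinearGroup (Fin m ⊕ Fin m) F) : Matrix (Fin m ⊕ Fin m) (Fin m ⊕ Fin m) F) = -1) ↔ q ^ m % 4 = 1 := by
  classical
  subst hF
  have h2 := CfsgLib.FiniteForms.two_ne_zero_of_odd (F := F) rfl hodd
  rw [mem_iff _ (CfsgLib.Lagrangian.Qp m F) (fun v => (CfsgLib.Lagrangian.Qp_apply v).symm) h2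
    (by simp; omega) ⟨m, by simp⟩ CfsgLib.Lagrangian.Qp_nondeg]
  set q := Fintype.card F with hq
  have hq1 : 1 < q := Fintype.one_lt_card
  obtain ⟨k, rfl⟩ : ∃ k, m = k + 1 := ⟨m - 1, by omega⟩
  set N := Nat.card {v : Fin (k + 1) ⊕ Fin (k + 1) → F // Cfsg.quadFormPlus (k + 1) F v = 1}
  have hN : N = q ^ k * (q ^ (k + 1) - 1) := by
    have h := count (F := F) (k + 1)
    zify [Nat.one_le_pow (k + 1) q (by omega)]
    refine mul_left_cancel₀ (show (q : ℤ) ≠ 0 by exact_mod_cast (by omega : q ≠ 0)) ?_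
    linear_combination h
  obtain ⟨a, ha⟩ : Odd (q ^ k) := hodd.pow
  obtain ⟨b, hb⟩ : Odd (q ^ (k + 1)) := hodd.pow
  have h' : N / 2 = (2 * a + 1) * b := by
    rw [hN, ha, hb, Nat.add_sub_cancel, show (2 * a + 1) * (2 * b) = 2 * ((2 * a + 1) * b) by ring,
      Nat.mul_div_cancel_left _ two_pos]
  rw [h', Nat.even_mul, hb, Nat.even_iff, Nat.even_iff]
  omega

end Cfsg.Agent.S0790
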