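import Cfsg.Statements.S0293
import Mathlib
import Cfsg.Agent.Lib.POmegaCard
import Cfsg.Agent.Lib.OrthOrderBase
import Cfsg.Agent.Lib.FiniteForms.Standard
import Cfsg.Agent.Lib.Lagrangian
import Cfsg.Agent.S0790

set_option autoImplicit false
open Cfsg

namespace Cfsg.Agent.S0293



/-- gcd(4, q^m - 1) |PΩ^+_{2m}(q)| = q^(m(m-1)) (q^m - 1) prod_{i=1}^{m-1} (q^(2i) - 1), m at least 4 (type D_m). -/
theorem result {F : Type*} [Field F] [Fintype F] {q : ℕ} (hF : Fintype.card F = q) (m : ℕ) (hm : 4 ≤ m) : Nat.gcd 4 (q ^ m - 1) * Nat.card (Cfsg.POmega F (Cfsg.quadFormPlus m F)) = q ^ (m * (m - 1)) * (q ^ m - 1) * ∏ i ∈ Finset.range (m - 1), (q ^ (2 * (i + 1)) - 1) := by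
  subst hF
  obtain ⟨c2, codd⟩ := CfsgLib.POmegaCard.main (CfsgLib.Lagrangian.Qp m F) (Cfsg.quadFormPlus m F)
    (fun v => (CfsgLib.Lagrangian.Qp_apply v).symm) (by simp; omega) CfsgLib.Lagrangian.Qp_nondeg
  have hO := CfsgLib.OrthOrder.card_O_plus (F := F) m (by omega)
  have hq1 : 1 ≤ Fintype.card F ^ m := Nat.one_le_pow _ _ Fintype.card_pos
  generalize (∏ i ∈ Finset.range (m - 1), (Fintype.card F ^ (2 * (i + 1)) - 1)) = B at hO ⊢
  generalize Fintype.card F ^ (m * (m - 1)) = A at hO ⊢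
  rcases Nat.even_or_odd (Fintype.card F) with he | hodd
  · have hc : ringChar F = 2 :=
      (FiniteField.even_card_iff_char_two (F := F)).mpr (Nat.even_iff.mp he)
    haveI : CharP F 2 := ringChar.of_eq hc
    have h := c2 CharTwo.two_eq_zero
    have hgcd : Nat.gcd 4 (Fintype.card F ^ m - 1) = 1 := by
      have h4 : Nat.Coprime 2 (Fintype.card F ^ m - 1) := by
        rw [Nat.coprime_two_left, Nat.odd_iff]
        have := Nat.even_iff.mp (Nat.even_pow.mpr ⟨he, show m ≠ 0 by omega⟩)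
        omega
      simpa using h4.pow_left 2
    rw [hgcd, one_mul]
    linarith
  · have h2 := CfsgLib.FiniteForms.two_ne_zero_of_odd (F := F) rfl hodd
    obtain ⟨hn0, hn1⟩ := codd h2
    have h4 := Cfsg.Agent.S0790.result (F := F) rfl hodd m (by omega)
    have hodd' := Nat.odd_iff.mp (hodd.pow (n := m))
    by_cases hm4 : Fintype.card F ^ m % 4 = 1
    · have hgcd : Nat.gcd 4 (Fintype.card F ^ m - 1) = 4 :=
        Nat.gcd_eq_left (by omega)
      have h := hn1 (h4.mpr hm4)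
      rw [hgcd]
      linarith
    · have hgcd : Nat.gcd 4 (Fintype.card F ^ m - 1) = 2 := by
        rw [Nat.gcd_rec, show (Fintype.card F ^ m - 1) % 4 = 2 by omega]
        rfl
      have h := hn0 (fun hn => hm4 (h4.mp hn))
      rw [hgcd]
      linarith

end Cfsg.Agent.S0293
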