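import Cfsg.Statements.S0344
import Cfsg.Agent.Lib.ZassenhausDegree.EvenSharp
import Cfsg.Agent.Lib.ZassenhausDegree.EvenCase
import Cfsg.Agent.S0742

set_option autoImplicit false
open Cfsg

namespace Cfsg.Agent.S0344

/-- A finite simple Zassenhaus group with a two-point stabiliser of even order is isomorphic to `PSL₂(F)` for a finite
field `F` with more than three elements. -/
theorem result {G Ω : Type*} [Group G] [Finite G] [MulAction G Ω] [Finite Ω]
    (hZ : Cfsg.IsZassenhausGroup G Ω) [IsSimpleGroup G]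
    {a b : Ω} (hab : a ≠ b) (heven : Even (Nat.card ↥(MulAction.stabilizer G a ⊓ MulAction.stabilizer G b))) :
    ∃ (F : Type) (_ : Field F) (_ : Fintype F), 3 < Fintype.card F ∧ Nonempty (G ≃* Matrix.ProjectiveSpecialLinearGroup (Fin 2) F) := by
  classical
  letI := Fintype.ofFinite G
  letI := Fintype.ofFinite Ω
  obtain ⟨Q⟩ := CfsgLib.ZassenhausDegree.exists_datum hZ
  have hE : Nat.card Q.E = Nat.card ↥(MulAction.stabilizer G a ⊓ MulAction.stabilizer G b : Subgroup G) :=
    CfsgLib.ZassenhausOdd.card_D_eq hZ Q.hab hab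
  have hle := Q.le_of_even (hE ▸ heven)
  by_cases hgt : Nat.card Q.H - 1 < 2 * Nat.card Q.E
  · exact absurd (inferInstance : IsSimpleGroup G) (Q.not_simple_of_gt hgt (hE ▸ heven))
  · have hc := Q.card
    obtain ⟨p, f, K, iK, iKf, hp, hp2, hcard, hΩ, hiso⟩ := Cfsg.Agent.S0742.result hZ hab heven (by omega)
    refine ⟨K, iK, iKf, ?_, hiso⟩
    rw [hcard]
    have := Q.two_le_E
    have h2 : 2 ≤ Nat.card ↥(MulAction.stabilizer G a ⊓ MulAction.stabilizer G b : Subgroup G) := hE ▸ this
    omega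

end Cfsg.Agent.S0344
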