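import Cfsg.Statements.S1245
import Cfsg.Agent.Lib.AbCentMax.Main

set_option autoImplicit false
open Cfsg

namespace Cfsg.Agent.S1245

/-- Let G be a non-abelian finite simple group with commutative Sylow 2-subgroups, and t an involution whose centralizer is the internal direct product of ⟨t⟩ and a subgroup E which has a normal subgroup E₀ ≅ PSL(2,F), |F| odd, with C_E(E₀) = 1 (so PSL(2,q) ≤ E ≤ Aut PSL(2,q)). Then C_G(t) is a maximal subgroup of G. -/
theorem result {G : Type*} [Group G] [Finite G] [IsSimpleGroup G] (hna : ¬ IsMulCommutative G) (S : Sylow 2 G) (hS : IsMulCommutative (S : Subgroup G)) (t : G) (ht : orderOf t = 2) (E E₀ : Subgroup G) (hprod : Cfsg.IsInternalDirectProduct (Subgroup.zpowers t) E (Subgroup.centralizer ({t} : Set G))) (hE₀E : E₀ ≤ E) (hE₀n : (E₀.subgroupOf E).Normal) (hE₀ : ∃ (F : Type) (_ : Field F) (_ : Fintype F), Odd (Fintype.card F) ∧ Nonempty (E₀ ≃* Matrix.ProjectiveSpecialLinearGroup (Fin 2) F)) (hCE : E ⊓ Subgroup.centralizer (E₀ :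 Set G) = ⊥) : IsCoatom (Subgroup.centralizer ({t} : Set G)) := by
  classical
  haveI : Fact (Nat.Prime 2) := ⟨Nat.prime_two⟩
  obtain ⟨F, iF, iFin, hF, ⟨i⟩⟩ := hE₀
  set C := Subgroup.centralizer ({t} : Set G) with hC
  have htC : t ∈ C := Subgroup.mem_centralizer_singleton_iff.mpr rfl
  -- a Sylow subgroup containing `t`
  obtain ⟨Q, hQ⟩ := (IsPGroup.of_card (n := 1) (by rw [Nat.card_zpowers, ht, pow_one]) :
    IsPGroup 2 (Subgroup.zpowers t)).exists_le_sylow
  have hQab : IsMulCommutative (Q : Subgroup G) := by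
    obtain ⟨g, rfl⟩ := MulAction.exists_smul_eq G S Q
    let e := (S : Subgroup G).equivMapOfInjective (MulAut.conj g).toMonoidHom (MulAut.conj g).injective
    refine ⟨⟨fun a b => ?_⟩⟩
    obtain ⟨a, rfl⟩ := e.surjective a
    obtain ⟨b, rfl⟩ := e.surjective b
    show e a * e b = e b * e a
    rw [← map_mul, ← map_mul, hS.is_comm.comm a b]
  have tcomm : ∀ e ∈ E, t * e = e * t := fun e he => hprod.2.2.1 t (Subgroup.mem_zpowers t) e he
  have En : ∀ e ∈ E, ∀ x ∈ E₀, e * x * e⁻¹ ∈ E₀ := fun e he x hx =>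
    hE₀n.conj_mem ⟨x, hE₀E hx⟩ hx ⟨e, he⟩
  let D : CfsgLib.JankoReeMult.Data G :=
    { t := t, ht := ht, S := Q, tS := hQ (Subgroup.mem_zpowers t), N := E₀, NC := hE₀E.trans hprod.2.1
      Nn := fun c hc x hx => by
        obtain ⟨e, he, rfl | rfl⟩ := CfsgLib.JankoReeMult.mem_product ht hprod hc
        · exact En _ he x hx
        · have h := En e he x hx
          rw [show t * e * x * (t * e)⁻¹ = t * (e * x * e⁻¹) * t⁻¹ by group, tcomm _ (hE₀E h), mul_inv_cancel_right]
          exact h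
      cent := fun c hc h => by
        have key : ∀ e ∈ E, (∀ x ∈ E₀, e * x = x * e) → e = 1 := fun e he h' => by
          have h1 : e ∈ E ⊓ Subgroup.centralizer (E₀ : Set G) :=
            ⟨he, Subgroup.mem_centralizer_iff.mpr fun x hx => (h' x hx).symm⟩
          rwa [hCE, Subgroup.mem_bot] at h1
        obtain ⟨e, he, rfl | rfl⟩ := CfsgLib.JankoReeMult.mem_product ht hprod hc
        · exact Or.inl (key _ he h)
        · refine Or.inr ?_
          rw [key e he fun x hx => ?_, mul_one]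
          refine mul_left_cancel (a := t) ?_
          calc t * (e * x) = t * e * x := (mul_assoc _ _ _).symm
            _ = x * (t * e) := h x hx
            _ = t * (x * e) := by rw [← mul_assoc, ← tcomm x (hE₀E hx), mul_assoc]
      ab := hQab }
  have fr : CfsgLib.AbCentMax.Fr D := by
    have hc1 : 2 ≤ Fintype.card F := Fintype.one_lt_card
    by_cases h3 : Fintype.card F = 3
    · exact CfsgLib.AbCentMax.fr_of_three D h3 i
    · refine CfsgLib.AbCentMax.fr_of_gt D hF ?_ i
      obtain ⟨k, hk⟩ := hF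
      omega
  let A : CfsgLib.AbCentMax.Setting G := ⟨D, fr, E, hprod, hE₀E⟩
  refine ⟨fun htop => ?_, fun M hM => ?_⟩
  · have hz : t ∈ Subgroup.center G := Subgroup.mem_center_iff.mpr fun g =>
      Subgroup.mem_centralizer_singleton_iff.mp (htop ▸ Subgroup.mem_top g : g ∈ C)
    rcases (inferInstance : (Subgroup.center G).Normal).eq_bot_or_eq_top with e | e
    · rw [e, Subgroup.mem_bot] at hz
      rw [hz, orderOf_one] at ht
      omega
    · exact hna ⟨⟨fun a b => Subgroup.mem_center_iff.mp (e ▸ Subgroup.mem_top b) a⟩⟩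
  by_contra hMtop
  by_cases hw : ∃ g ∈ M, g * t * g⁻¹ ∈ Q ∧ g * t * g⁻¹ ≠ t
  · obtain ⟨g, hg, hgQ, hne⟩ := hw
    obtain ⟨n, hn, he⟩ := CfsgLib.AbCentMax.fusion Q hQab (D.S_le.trans hM.le) D.tS hg hgQ
    have hx : g * t * g⁻¹ ∈ CfsgLib.AbCentMax.cls (M ⊓ Subgroup.normalizer ((Q : Subgroup G) : Set G)) t :=
      ⟨n, hn, he⟩
    exact A.false_of_fused hM.le hMtop (A.all_of_moved hM.le hx hne)
  · push Not at hw
    exact absurd (le_antisymm hM.le (A.le_cent_of_isolated hF i hna hM.le hw)) hM.ne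

end Cfsg.Agent.S1245
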