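import Cfsg.Statements.S3766
import Mathlib
import Cfsg.Agent.Lib.Basic
-- import your own Cfsg.Agent.* helpers here

set_option autoImplicit false
open Cfsg

namespace Cfsg.Agent.S3766

open scoped commutatorElement

/-- Let G be a finite solvable group and N a normal subgroup of G. Call a pair V < U of normal subgroups of G a chief factor of G when no normal subgroup of G lies strictly between them; an element g centralizes the chief factor U/V when u g u⁻¹ g⁻¹ ∈ V for all u ∈ U. Then an element of G lies in the Fitting subgroup F(N) if and only if it lies in N and centralizes every chief factor of G; and also if and only if it lies in N and centralizes every chief factor U/V of G with U ≤ F(N). -/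
theorem result {G : Type*} [Group G] [Finite G] (hG : Group.IsSolvable G) (N : Subgroup G) [N.Normal] (g : G) : (g ∈ (Cfsg.fittingSubgroup ↥N).map N.subtype ↔ g ∈ N ∧ ∀ U V : Subgroup G, (U.Normal ∧ V.Normal ∧ V < U ∧ ∀ W : Subgroup G, W.Normal → V ≤ W → W ≤ U → W = V ∨ W = U) → ∀ u ∈ U, u * g * u⁻¹ * g⁻¹ ∈ V) ∧ (g ∈ (Cfsg.fittingSubgroup ↥N).map N.subtype ↔ g ∈ N ∧ ∀ U V : Subgroup G, (U.Normal ∧ V.Normal ∧ V < U ∧ ∀ W : Subgroup G, W.Normal → V ≤ W → W ≤ U → W = V ∨ W = U) → U ≤ (Cfsg.fittingSubgroup ↥N).map N.subtype → ∀ u ∈ U, u * g * u⁻¹ * g⁻¹ ∈ V) := by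
  set F := (fittingSubgroup ↥N).map N.subtype with hF
  have hFn : F.Normal := by
    refine ⟨?_⟩
    rintro _ ⟨x, hx, rfl⟩ y
    refine ⟨MulAut.conjNormal y x, ?_, MulAut.conjNormal_apply y x⟩
    have := CfsgLib.fittingSubgroup_normal (G := ↥N)
    have := Subgroup.Normal.map (H := fittingSubgroup ↥N) inferInstance (MulAut.conjNormal y : MulAut N).toMonoidHom
      (MulAut.conjNormal y : MulAut N).surjective
    refine CfsgLib.le_fittingSubgroup
      (N := (fittingSubgroup ↥N).map (MulAut.conjNormal y : MulAut N).toMonoidHom) ?_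
      (Subgroup.mem_map_of_mem (MulAut.conjNormal y : MulAut N).toMonoidHom hx)
    have := CfsgLib.isNilpotent_fittingSubgroup (G := ↥N)
    exact Group.nilpotent_of_mulEquiv
      (Subgroup.equivMapOfInjective (fittingSubgroup ↥N) _ (MulAut.conjNormal y : MulAut N).injective)
  have hFnil : Group.IsNilpotent F := by
    have := CfsgLib.isNilpotent_fittingSubgroup (G := ↥N)
    exact Group.nilpotent_of_mulEquiv (Subgroup.equivMapOfInjective _ N.subtype N.subtype_injective)
  have hFN : F ≤ N := Subgroup.map_subtype_le _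
  have hlcsn : ∀ (S : Subgroup G), S.Normal → ∀ k, (S.lowerCentralSeries k).Normal := by
    intro S hS k
    induction k with
    | zero => exact hS
    | succ k ih => rw [Subgroup.lowerCentralSeries_succ]; exact Subgroup.commutator_normal _ _
  -- the Fitting subgroup centralises every chief factor
  have hfwd : ∀ U V : Subgroup G, U.Normal → V.Normal → V < U →
      (∀ W : Subgroup G, W.Normal → V ≤ W → W ≤ U → W = V ∨ W = U) → ⁅U, F⁆ ≤ V := by
    intro U V hU hV hVU hchief
    rcases hchief (⁅U, F⁆ ⊔ V) (Subgroup.sup_normal _ _) le_sup_right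
      (sup_le (Subgroup.commutator_le_left U F) hVU.le) with h | h
    · exact h ▸ le_sup_left
    · exfalso
      obtain ⟨n, hn⟩ := (Subgroup.isNilpotent_iff_lowerCentralSeries F).mp hFnil
      have key : ∀ k, U ≤ F.lowerCentralSeries k ⊔ V := by
        intro k
        induction k with
        | zero =>
          rw [← h, Subgroup.lowerCentralSeries_zero]
          exact sup_le_sup_right (Subgroup.commutator_le_right U F) V
        | succ k ih =>
          have := hlcsn F hFn k
          rw [← h]
          refine sup_le ?_ le_sup_right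
          refine (Subgroup.commutator_mono ih le_rfl).trans (Subgroup.commutator_le.mpr fun x hx f hf => ?_)
          obtain ⟨a, ha, v, hv, rfl⟩ := Subgroup.mem_sup_of_normal_left.mp hx
          rw [show ⁅a * v, f⁆ = a * ⁅v, f⁆ * a⁻¹ * ⁅a, f⁆ by simp only [commutatorElement_def]; group]
          refine mul_mem (Subgroup.mem_sup_right (hV.conj_mem _ ?_ a)) (Subgroup.mem_sup_left ?_)
          · exact Subgroup.commutator_le_left V F (Subgroup.commutator_mem_commutator hv hf)
          · rw [Subgroup.lowerCentralSeries_succ]; exact Subgroup.commutator_mem_commutator ha hf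
      refine hVU.not_ge ((key n).trans ?_)
      rw [hn, bot_sup_eq]
  -- conversely
  have hback : ∀ x ∈ N, (∀ U V : Subgroup G, (U.Normal ∧ V.Normal ∧ V < U ∧
      ∀ W : Subgroup G, W.Normal → V ≤ W → W ≤ U → W = V ∨ W = U) → U ≤ F → ∀ u ∈ U, u * x * u⁻¹ * x⁻¹ ∈ V) → x ∈ F := by
    intro x hx hcx
    let K : Subgroup G := N ⊓ ⨅ (U : Subgroup G) (V : Subgroup G) (hV : V.Normal) (_ : U.Normal ∧ V < U ∧
      (∀ W : Subgroup G, W.Normal → V ≤ W → W ≤ U → W = V ∨ W = U) ∧ U ≤ F),
      (Subgroup.centralizer ((U.map (QuotientGroup.mk' V) : Subgroup (G ⧸ V)) : Set (G ⧸ V))).comap (QuotientGroup.mk' V)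
    have hKmem : ∀ y, y ∈ K → y ∈ N ∧ ∀ U V : Subgroup G, U.Normal → V.Normal → V < U →
        (∀ W : Subgroup G, W.Normal → V ≤ W → W ≤ U → W = V ∨ W = U) → U ≤ F → ∀ u ∈ U, u * y * u⁻¹ * y⁻¹ ∈ V := by
      intro y hy
      refine ⟨hy.1, fun U V hU hV hlt hc hUF u hu => ?_⟩
      have h1 := (Subgroup.mem_inf.mp hy).2
      simp only [Subgroup.mem_iInf, Subgroup.mem_comap] at h1
      have h2 := h1 U V hV ⟨hU, hlt, hc, hUF⟩ _ ⟨u, hu, rfl⟩
      rw [← QuotientGroup.eq_one_iff]
      simp only [QuotientGroup.mk'_apply] at h2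
      rw [QuotientGroup.mk_mul, QuotientGroup.mk_mul, QuotientGroup.mk_mul, QuotientGroup.mk_inv, QuotientGroup.mk_inv, h2]
      group
    have hxK : x ∈ K := by
      refine Subgroup.mem_inf.mpr ⟨hx, ?_⟩
      simp only [Subgroup.mem_iInf, Subgroup.mem_comap]
      rintro U V hV ⟨hU, hlt, hc, hUF⟩ _ ⟨u, hu, rfl⟩
      have h1 := (QuotientGroup.eq_one_iff _).mpr (hcx U V ⟨hU, hV, hlt, hc⟩ hUF u hu)
      rw [QuotientGroup.mk_mul, QuotientGroup.mk_mul, QuotientGroup.mk_mul, QuotientGroup.mk_inv, QuotientGroup.mk_inv,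
        mul_inv_eq_one, mul_inv_eq_iff_eq_mul] at h1
      exact h1
    have hKn : K.Normal := by
      refine @Subgroup.normal_inf_normal _ _ _ _ ‹N.Normal› (Subgroup.normal_iInf_normal fun U =>
        Subgroup.normal_iInf_normal fun V => Subgroup.normal_iInf_normal fun hV => Subgroup.normal_iInf_normal fun h => ?_)
      have : (U.map (QuotientGroup.mk' V)).Normal := h.1.map _ (QuotientGroup.mk'_surjective _)
      exact Subgroup.Normal.comap inferInstance _
    by_contra hxF
    -- the derived series of `K` gives a normal subgroup, abelian modulo `F`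
    obtain ⟨M, hMn, hMK, hMF, hMF'⟩ : ∃ M : Subgroup G, M.Normal ∧ M ≤ K ∧ ¬ M ≤ F ∧ ⁅M, M⁆ ≤ F := by
      obtain ⟨M, ⟨hMn, hMK, hMF⟩, hmin⟩ := (Set.toFinite {M : Subgroup G | M.Normal ∧ M ≤ K ∧ ¬ M ≤ F}).exists_minimal
        ⟨K, hKn, le_rfl, fun h => hxF (h hxK)⟩
      refine ⟨M, hMn, hMK, hMF, ?_⟩
      by_contra h
      have hlt : ⁅M, M⁆ < M := Group.IsSolvable.commutator_lt_of_ne_bot (fun e => hMF (by rw [e]; exact bot_le))
      exact hlt.not_ge (hmin ⟨Subgroup.commutator_normal M M, (hlt.le).trans hMK, h⟩ hlt.le)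
    refine hMF ?_
    have hMN : M ≤ N := hMK.trans inf_le_left
    have hnil : Group.IsNilpotent M := by
      rw [Subgroup.isNilpotent_iff_lowerCentralSeries]
      by_contra hne
      push Not at hne
      have hstep : ∀ k, M.lowerCentralSeries (k + 2) < M.lowerCentralSeries (k + 1) := by
        intro k
        set W := M.lowerCentralSeries (k + 1) with hW
        have hWn : W.Normal := hlcsn M hMn _
        have hWF : W ≤ F := (M.lowerCentralSeries_antitone (Nat.le_add_left 1 k)).trans hMF'
        obtain ⟨V, ⟨hVn, hVW⟩, hVmax⟩ := (Set.toFinite {V : Subgroup G | V.Normal ∧ V < W}).exists_maximal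
          ⟨⊥, inferInstance, bot_lt_iff_ne_bot.mpr (hne _)⟩
        have hchief : ∀ X : Subgroup G, X.Normal → V ≤ X → X ≤ W → X = V ∨ X = W := by
          intro X hX hVX hXW
          by_cases h : X = W
          · exact Or.inr h
          · exact Or.inl (le_antisymm (hVmax ⟨hX, lt_of_le_of_ne hXW h⟩ hVX) hVX)
        refine lt_of_le_of_lt ?_ hVW
        rw [Subgroup.lowerCentralSeries_succ, Subgroup.commutator_le]
        intro u hu m hm
        exact (hKmem m (hMK hm)).2 W V hWn hVn hVW hchief hWF u hu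
      have hanti : ∀ k, Nat.card (M.lowerCentralSeries (k + 1)) + k ≤ Nat.card (M.lowerCentralSeries 1) := by
        intro k
        induction k with
        | zero => exact le_rfl
        | succ k ih =>
          have := (Subgroup.card_le_of_le (hstep k).le).lt_of_ne fun e =>
            (hstep k).ne (Subgroup.eq_of_le_of_card_ge (hstep k).le e.ge)
          have e2 : k + 2 = k + 1 + 1 := rfl
          rw [e2] at this
          omega
      have := hanti (Nat.card (M.lowerCentralSeries 1))
      have := Nat.card_pos (α := (M.lowerCentralSeries (Nat.card (M.lowerCentralSeries 1) + 1) : Subgroup G))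
      omega
    have hMn' : (M.subgroupOf N).Normal := Subgroup.normal_subgroupOf
    intro m hm
    exact ⟨⟨m, hMN hm⟩, CfsgLib.le_fittingSubgroup
      (Group.nilpotent_of_mulEquiv (Subgroup.subgroupOfEquivOfLe hMN).symm) (Subgroup.mem_subgroupOf.mpr hm), rfl⟩
  refine ⟨⟨fun hg' => ⟨hFN hg', fun U V h u hu => ?_⟩, fun h => hback g h.1 fun U V hc _ => h.2 U V hc⟩,
    ⟨fun hg' => ⟨hFN hg', fun U V h _ u hu => ?_⟩, fun h => hback g h.1 h.2⟩⟩
  all_goals exact hfwd U V h.1 h.2.1 h.2.2.1 h.2.2.2 (Subgroup.commutator_mem_commutator hu hg')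

end Cfsg.Agent.S3766
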