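import Cfsg.Statements.S1445
import Mathlib
import Cfsg.Agent.Lib.FrobAction.QGroupModule
import Cfsg.Agent.Lib.Coprime
import Cfsg.Agent.Lib.PSolvable
import Cfsg.Agent.S3766
-- import your own Cfsg.Agent.* helpers here

set_option autoImplicit false
set_option maxHeartbeats 1000000
open Cfsg

namespace Cfsg.Agent.S1445

open scoped commutatorElement

theorem core_central {H : Type*} [Group H] [Finite H] [Group.IsSolvable H] (K : Subgroup H) [K.Normal] (x : H)
    (hcop : (orderOf x).Coprime (Nat.card K)) (l : ℕ) (hl : Cfsg.pCore l K = ⊥)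
    (hsyl : ∀ q : ℕ, q.Prime → q ≠ l → ∃ P : Sylow q K, ∀ a ∈ (P : Subgroup K), x * (a : H) = (a : H) * x) :
    ∀ k ∈ K, x * k = k * x := by
  classical
  let T : Subgroup K := (Subgroup.centralizer ({x} : Set H)).subgroupOf K
  have hT : ∀ a : K, a ∈ T ↔ x * (a : H) = (a : H) * x := fun a => by
    show (a : H) ∈ Subgroup.centralizer ({x} : Set H) ↔ _
    rw [Subgroup.mem_centralizer_iff]
    exact ⟨fun h => h x rfl, fun h y hy => by rw [Set.mem_singleton_iff.1 hy]; exact h⟩
  have hF : Cfsg.fittingSubgroup K ≤ T := by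
    rw [CfsgLib.fittingSubgroup_eq_iSup_pCore]
    refine iSup_le fun q => ?_
    haveI := Fact.mk q.2
    by_cases hq : (q : ℕ) = l
    · rw [hq, hl]; exact bot_le
    · obtain ⟨P, hP⟩ := hsyl q q.2 hq
      exact (CfsgLib.pCore_le_sylow P).trans fun a ha => (hT a).2 (hP a ha)
  intro k hk
  have hc : x * k * x⁻¹ * k⁻¹ ∈ K := mul_mem (Subgroup.Normal.conj_mem inferInstance k hk x) (inv_mem hk)
  have hcF : (⟨_, hc⟩ : K) ∈ Cfsg.fittingSubgroup K := by
    refine CfsgLib.centralizer_fitting_le (Subgroup.mem_centralizer_iff.2 fun f hf => Subtype.ext ?_)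
    have hf' := Subgroup.Normal.conj_mem (H := Cfsg.fittingSubgroup K) inferInstance f hf (⟨k, hk⟩ : K)⁻¹
    have h1 := (hT _).1 (hF hf')
    have h2 := (hT _).1 (hF hf)
    simp only [Subgroup.coe_mul, Subgroup.coe_inv, inv_inv] at h1
    show (f : H) * (x * k * x⁻¹ * k⁻¹) = x * k * x⁻¹ * k⁻¹ * f
    calc (f : H) * (x * k * x⁻¹ * k⁻¹) = (f : H) * x * (k * x⁻¹ * k⁻¹) := by group
      _ = x * f * (k * x⁻¹ * k⁻¹) := by rw [h2]
      _ = x * k * ((k⁻¹ * f * k * x⁻¹)) * k⁻¹ := by group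
      _ = x * k * (x⁻¹ * (x * (k⁻¹ * f * k)) * x⁻¹) * k⁻¹ := by group
      _ = x * k * (x⁻¹ * (k⁻¹ * f * k * x) * x⁻¹) * k⁻¹ := by rw [h1]
      _ = x * k * x⁻¹ * k⁻¹ * f := by group
  set c := x * k * x⁻¹ * k⁻¹ with hcdef
  have hxc : Commute x c := (hT _).1 (hF hcF)
  have h1 : x * k * x⁻¹ = c * k := by rw [hcdef, inv_mul_cancel_right]
  have hpow : ∀ n : ℕ, x ^ n * k * (x ^ n)⁻¹ = c ^ n * k := by
    intro n
    induction n with
    | zero => simp
    | succ n ih =>
      calc x ^ (n + 1) * k * (x ^ (n + 1))⁻¹ = x * (x ^ n * k * (x ^ n)⁻¹) * x⁻¹ := by rw [pow_succ']; group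
        _ = x * (c ^ n * k) * x⁻¹ := by rw [ih]
        _ = (x * c ^ n) * (k * x⁻¹) := by group
        _ = (c ^ n * x) * (k * x⁻¹) := by rw [(hxc.pow_right n).eq]
        _ = c ^ n * (x * k * x⁻¹) := by group
        _ = c ^ (n + 1) * k := by rw [pow_succ, mul_assoc (c ^ n) c k, ← h1]
  have h2 := hpow (orderOf x)
  rw [pow_orderOf_eq_one, one_mul, inv_one, mul_one, right_eq_mul] at h2
  have h3 : orderOf c ∣ Nat.gcd (orderOf x) (Nat.card K) :=
    Nat.dvd_gcd (orderOf_dvd_of_pow_eq_one h2) (by rw [← Subgroup.orderOf_mk c hc]; exact orderOf_dvd_natCard _)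
  rw [hcop, Nat.dvd_one, orderOf_eq_one_iff] at h3
  rw [h3, one_mul, mul_inv_eq_iff_eq_mul] at h1
  exact h1

theorem minimal_normal {H : Type*} [Group H] [Finite H] [Group.IsSolvable H] (hodd : Odd (Nat.card H))
    (K : Subgroup H) [K.Normal] (x : H) (r : ℕ) (hr : r.Prime) (hx : orderOf x = r) (hrK : r.Coprime (Nat.card K))
    (W : Subgroup H) (hWn : W.Normal) (hWK : W ≤ K) (hW1 : W ≠ ⊥)
    (hmin : ∀ M : Subgroup H, M.Normal → M ≤ W → M = ⊥ ∨ M = W)
    (hfix : ∀ w ∈ W, x * w = w * x → w = 1) :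
    ∀ k ∈ K, x * k * x⁻¹ * k⁻¹ ∈ Subgroup.centralizer (W : Set H) := by
  classical
  haveI := hWn
  haveI := Fact.mk hr
  -- `W` is elementary abelian
  have hWc : IsMulCommutative W := by
    haveI : Nontrivial W := (Subgroup.nontrivial_iff_ne_bot W).2 hW1
    have h := hmin ((commutator W).map W.subtype) inferInstance (Subgroup.map_subtype_le _)
    rcases h with h | h
    · refine ⟨⟨fun a b => commutatorElement_eq_one_iff_mul_comm.1 (Subgroup.mem_bot.1 ?_)⟩⟩
      rw [← (Subgroup.map_eq_bot_iff_of_injective _ W.subtype_injective).1 h]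
      exact Subgroup.commutator_mem_commutator (Subgroup.mem_top a) (Subgroup.mem_top b)
    · exfalso
      apply (Group.IsSolvable.commutator_lt_top_of_nontrivial W).ne
      refine Subgroup.map_injective W.subtype_injective ?_
      rw [h, ← MonoidHom.range_eq_map, Subgroup.range_subtype]
  obtain ⟨l, hl, hldvd⟩ := Nat.exists_prime_and_dvd (n := Nat.card W)
    (fun h => hW1 (Subgroup.eq_bot_of_card_eq _ h))
  haveI := Fact.mk hl
  have hWl : ∀ w ∈ W, w ^ l = 1 := by
    let M : Subgroup H :=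
      { carrier := {w | w ∈ W ∧ w ^ l = 1}
        one_mem' := ⟨one_mem W, one_pow l⟩
        mul_mem' := fun {a b} ha hb => ⟨mul_mem ha.1 hb.1, by
          have hc : Commute a b := congrArg Subtype.val (hWc.is_comm.comm ⟨a, ha.1⟩ ⟨b, hb.1⟩)
          rw [hc.mul_pow, ha.2, hb.2, one_mul]⟩
        inv_mem' := fun {a} ha => ⟨inv_mem ha.1, by rw [inv_pow, ha.2, inv_one]⟩ }
    have hM : M.Normal := ⟨fun w hw g => ⟨hWn.conj_mem w hw.1 g, by rw [conj_pow, hw.2, mul_one, mul_inv_cancel]⟩⟩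
    rcases hmin M hM (fun w hw => hw.1) with h | h
    · exfalso
      obtain ⟨w, hw⟩ := exists_prime_orderOf_dvd_card' l hldvd
      have hmem : (w : H) ∈ M := ⟨w.2, by rw [← SubgroupClass.coe_pow, ← hw, pow_orderOf_eq_one]; rfl⟩
      rw [h, Subgroup.mem_bot] at hmem
      rw [show w = 1 from Subtype.ext hmem, orderOf_one] at hw
      exact hl.one_lt.ne hw
    · exact fun w hw => (h.ge hw).2
  -- the quotient by the centraliser
  set C := K ⊓ Subgroup.centralizer (W : Set H) with hC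
  let φ : H →* MulAut W := MulAut.conjNormal
  have hCker : C ≤ φ.ker := by
    intro c hc
    rw [MonoidHom.mem_ker]
    refine MulEquiv.ext fun w => Subtype.ext ?_
    show c * (w : H) * c⁻¹ = w
    rw [← Subgroup.mem_centralizer_iff.1 (Subgroup.mem_inf.1 hc).2 w w.2, mul_inv_cancel_right]
  let π := QuotientGroup.mk' C
  set Kt := K.map π with hKt
  haveI : Kt.Normal := Subgroup.Normal.map inferInstance π (QuotientGroup.mk'_surjective C)
  set xt := π x with hxt
  have hlK : l ∣ Nat.card K := hldvd.trans (Subgroup.card_dvd_of_le hWK)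
  have hlr : l ≠ r := fun h => Nat.Prime.not_coprime_iff_dvd.2 ⟨l, hl, h ▸ dvd_rfl, hlK⟩ hrK
  have hcopt : (orderOf xt).Coprime (Nat.card Kt) :=
    ((hx ▸ hrK : (orderOf x).Coprime (Nat.card K)).coprime_dvd_left (orderOf_map_dvd π x)).coprime_dvd_right
      (Subgroup.card_map_dvd K π)
  have hcore : Cfsg.pCore l Kt = ⊥ := by
    set M := (Cfsg.pCore l Kt).map Kt.subtype with hM
    haveI : M.Normal := inferInstance
    have hMp : IsPGroup l M := (CfsgLib.isPGroup_pCore (G := Kt) l).map _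
    have hMK : M ≤ Kt := Subgroup.map_subtype_le _
    set M' := M.comap π with hM'
    haveI : M'.Normal := Subgroup.Normal.comap inferInstance π
    let ψ : M →* MulAut W := (QuotientGroup.lift C φ hCker).comp M.subtype
    letI : MulAction M W := MulAction.compHom W ψ
    obtain ⟨b, hb, hb1⟩ := hMp.exists_fixed_point_of_prime_dvd_card_of_fixed_point W hldvd (a := (1 : W))
      (fun m => map_one (ψ m))
    haveI hCn : (W ⊓ Subgroup.centralizer (M' : Set H) : Subgroup H).Normal := inferInstance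
    have hbmem : (b : H) ∈ W ⊓ Subgroup.centralizer (M' : Set H) := by
      refine Subgroup.mem_inf.2 ⟨b.2, Subgroup.mem_centralizer_iff.2 fun g hg => ?_⟩
      have h : φ g b = b := hb ⟨π g, hg⟩
      exact mul_inv_eq_iff_eq_mul.1 (congrArg Subtype.val h)
    rcases hmin (W ⊓ Subgroup.centralizer (M' : Set H)) hCn inf_le_left with h | h
    · exfalso
      rw [h, Subgroup.mem_bot] at hbmem
      exact hb1 (Subtype.ext hbmem).symm
    · have hM'C : M' ≤ C := by
        refine le_inf (fun g hg => ?_) (Subgroup.le_centralizer_iff.1 (h.ge.trans inf_le_right))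
        obtain ⟨k, hk, hkg⟩ := hMK (show π g ∈ M from hg)
        have h1 : k⁻¹ * g ∈ C := QuotientGroup.eq.1 hkg
        rw [show g = k * (k⁻¹ * g) by group]
        exact mul_mem hk (Subgroup.mem_inf.1 h1).1
      refine (Subgroup.map_eq_bot_iff_of_injective _ Kt.subtype_injective).1 ?_
      rw [← hM, Subgroup.eq_bot_iff_forall]
      intro y hy
      obtain ⟨g, rfl⟩ := QuotientGroup.mk'_surjective C y
      exact (QuotientGroup.eq_one_iff g).2 (hM'C hy)
  have hcent := core_central Kt xt hcopt l hcore (fun q hq hql => by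
    haveI := Fact.mk hq
    set R0 := Subgroup.zpowers x with hR0
    have hR0card : Nat.card R0 = r := by rw [hR0, Nat.card_zpowers, hx]
    have hRK : R0 ≤ Subgroup.normalizer (K : Set H) := by rw [Subgroup.normalizer_eq_top]; exact le_top
    obtain ⟨P, hP⟩ := CfsgLib.coprime_exists_invariant_sylow hRK (hR0card.symm ▸ hrK)
      (Or.inr inferInstance) q
    have key : ∀ a ∈ (P : Subgroup K), x * (a : H) * x⁻¹ * (a : H)⁻¹ ∈ Subgroup.centralizer (W : Set H) := by
      intro a ha
      by_cases hqK : q ∣ Nat.card K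
      swap
      · have : a = 1 := by
          obtain ⟨n, hn⟩ := P.isPGroup' ⟨a, ha⟩
          have h1 : orderOf a ∣ q ^ n := orderOf_dvd_of_pow_eq_one (congrArg Subtype.val hn)
          have h2 := Nat.dvd_gcd h1 (orderOf_dvd_natCard a)
          rwa [Nat.Coprime.pow_left n ((Nat.Prime.coprime_iff_not_dvd hq).2 hqK), Nat.dvd_one,
            orderOf_eq_one_iff] at h2
        rw [this, OneMemClass.coe_one, mul_one, mul_inv_cancel, inv_one, mul_one]
        exact one_mem _
      have hfix' : W ⊓ Subgroup.centralizer (R0 : Set H) = ⊥ := (Subgroup.eq_bot_iff_forall _).2 fun w hw =>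
        hfix w (Subgroup.mem_inf.1 hw).1 (Subgroup.mem_centralizer_iff.1 (Subgroup.mem_inf.1 hw).2 x
          (Subgroup.mem_zpowers x))
      haveI := hWc
      refine CfsgLib.QGroupModule.commutator_centralizes (p := l) (q := q) (r := r) (fun h => hql h.symm) hlr
        (fun h => Nat.Prime.not_coprime_iff_dvd.2 ⟨q, hq, h ▸ dvd_rfl, hqK⟩ hrK)
        R0 ((P : Subgroup K).map K.subtype) W hR0card (P.isPGroup'.map _) hWl hP
        (by rw [Subgroup.normalizer_eq_top]; exact le_top) (by rw [Subgroup.normalizer_eq_top]; exact le_top) hfix'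
        (fun h2 _ => ?_) x (Subgroup.mem_zpowers x) a ⟨a, ha, rfl⟩
      obtain ⟨m, hm⟩ := hodd
      have h3 := hqK.trans (Subgroup.card_subgroup_dvd_card K)
      rw [h2] at h3
      omega
    refine ⟨P.mapSurjective (MonoidHom.subgroupMap_surjective π K), ?_⟩
    rintro _ ⟨a, ha, rfl⟩
    have hmem : x * (a : H) * x⁻¹ * (a : H)⁻¹ ∈ C :=
      Subgroup.mem_inf.2 ⟨mul_mem (Subgroup.Normal.conj_mem inferInstance _ a.2 x) (inv_mem a.2), key a ha⟩
    show π x * π (a : H) = π (a : H) * π x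
    have h1 : π (x * (a : H) * x⁻¹ * (a : H)⁻¹) = 1 := (QuotientGroup.eq_one_iff _).2 hmem
    rwa [map_mul, map_mul, map_mul, map_inv, map_inv, mul_inv_eq_one, mul_inv_eq_iff_eq_mul] at h1)
  intro k hk
  have h1 := hcent (π k) ⟨k, hk, rfl⟩
  have h2 : π (x * k * x⁻¹ * k⁻¹) = 1 := by
    rw [map_mul, map_mul, map_mul, map_inv, map_inv, mul_inv_eq_one, mul_inv_eq_iff_eq_mul]
    exact h1
  exact (Subgroup.mem_inf.1 ((QuotientGroup.eq_one_iff _).1 h2)).2

/-- Let G be a solvable group of odd order, K a normal subgroup and R a subgroup with G = KR and the orders of K and R coprime. Suppose K ∩ C_G(x) = K ∩ C_G(R) for every non-identity x ∈ R, and F(K) ∩ C_G(R) = 1. Then [K, R] is contained in the Fitting subgroup of K. -/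
theorem result {G : Type*} [Group G] [Finite G] [Group.IsSolvable G] (hodd : Odd (Nat.card G)) (K R : Subgroup G) [K.Normal] (hKR : K ⊔ R = ⊤) (hcop : (Nat.card K).Coprime (Nat.card R))
    (hprime : ∀ x ∈ R, x ≠ 1 → K ⊓ Subgroup.centralizer ({x} : Set G) = (K ⊓ Subgroup.centralizer (R : Set G)))
    (hF : Cfsg.fittingOf K ⊓ Subgroup.centralizer (R : Set G) = ⊥) :
    ⁅K, R⁆ ≤ Cfsg.fittingOf K := by
  classical
  intros
  by_cases hR : R = ⊥
  · rw [hR, Subgroup.commutator_bot_right]; exact bot_le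
  obtain ⟨r, hr, hrdvd⟩ := Nat.exists_prime_and_dvd (n := Nat.card R) (fun h => hR (Subgroup.eq_bot_of_card_eq _ h))
  haveI := Fact.mk hr
  obtain ⟨⟨x, hxR⟩, hx'⟩ := exists_prime_orderOf_dvd_card' r hrdvd
  have hx : orderOf x = r := by rw [← hx', Subgroup.orderOf_mk]
  have hx1 : x ≠ 1 := fun h => hr.one_lt.ne (by rw [← hx, h, orderOf_one])
  have hrK : r.Coprime (Nat.card K) := (hcop.coprime_dvd_right hrdvd).symm
  set F := Cfsg.fittingOf K with hFdef
  have hFK : F ≤ K := Subgroup.map_subtype_le _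
  haveI hFn : F.Normal := by
    rw [hFdef, Cfsg.fittingOf, CfsgLib.fittingSubgroup_eq_iSup_pCore, Subgroup.map_iSup]
    exact Subgroup.sSup_normal _ (by rintro _ ⟨q, rfl⟩; infer_instance)
  have hFfix : ∀ f ∈ F, x * f = f * x → f = 1 := by
    intro f hf hxf
    have h1 : f ∈ K ⊓ Subgroup.centralizer ({x} : Set G) :=
      Subgroup.mem_inf.2 ⟨hFK hf, Subgroup.mem_centralizer_iff.2 fun y hy => by rw [Set.mem_singleton_iff.1 hy]; exact hxf⟩
    rw [hprime x hxR hx1] at h1
    exact Subgroup.mem_bot.1 (hF.le (Subgroup.mem_inf.2 ⟨hf, (Subgroup.mem_inf.1 h1).2⟩))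
  set R0 := Subgroup.zpowers x with hR0
  have hR0card : Nat.card R0 = r := by rw [hR0, Nat.card_zpowers, hx]
  have hcomF : ∀ k ∈ K, x * k * x⁻¹ * k⁻¹ ∈ F := by
    intro k hk
    refine (Cfsg.Agent.S3766.result inferInstance K (x * k * x⁻¹ * k⁻¹)).2.2
      ⟨mul_mem (Subgroup.Normal.conj_mem inferInstance k hk x) (inv_mem hk), ?_⟩
    intro U V hUV hUF u hu
    obtain ⟨hU, hV, hlt, hchief⟩ := hUV
    haveI := hU
    haveI := hV
    let π := QuotientGroup.mk' V
    have hπ := QuotientGroup.mk'_surjective V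
    haveI : (K.map π).Normal := Subgroup.Normal.map inferInstance π hπ
    have hVU : V ≤ U := hlt.le
    have hUK : U ≤ K := hUF.trans (Subgroup.map_subtype_le _)
    have hfix : ∀ w ∈ U.map π, π x * w = w * π x → w = 1 := by
      rintro _ ⟨w, hw, rfl⟩ he
      have hmem : x * w * x⁻¹ * w⁻¹ ∈ V := by
        refine (QuotientGroup.eq_one_iff _).1 ?_
        show π (x * w * x⁻¹ * w⁻¹) = 1
        rw [map_mul, map_mul, map_mul, map_inv, map_inv, mul_inv_eq_one, mul_inv_eq_iff_eq_mul]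
        exact he
      let T : Subgroup G :=
        { carrier := {a | π a * π w = π w * π a}
          one_mem' := by simp
          mul_mem' := fun {a b} ha hb => by
            show π (a * b) * π w = π w * π (a * b)
            rw [map_mul]; exact Commute.mul_left ha hb
          inv_mem' := fun {a} ha => by
            show π a⁻¹ * π w = π w * π a⁻¹
            rw [map_inv]; exact Commute.inv_left ha }
      have hxT : R0 ≤ T := Subgroup.zpowers_le.2 he
      have hfixall : ∀ a ∈ R0, a * w * a⁻¹ * w⁻¹ ∈ V := fun a ha => (QuotientGroup.eq_one_iff _).1 (by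
        show π (a * w * a⁻¹ * w⁻¹) = 1
        rw [map_mul, map_mul, map_mul, map_inv, map_inv, mul_inv_eq_one, mul_inv_eq_iff_eq_mul]
        exact hxT ha)
      obtain ⟨c, hc, hcw⟩ := CfsgLib.coprime_fixed_quotient (A := R0) (K := U) (N := V)
        (by rw [Subgroup.normalizer_eq_top]; exact le_top)
        (hR0card.symm ▸ hrK.coprime_dvd_right (Subgroup.card_dvd_of_le hUK)) (Or.inr inferInstance) hVU
        (by rw [Subgroup.normalizer_eq_top]; exact le_top) (by rw [Subgroup.normalizer_eq_top]; exact le_top) hw hfixall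
      have hc1 : c = 1 := hFfix c (hUF (Subgroup.mem_inf.1 hc).1)
        (Subgroup.mem_centralizer_iff.1 (Subgroup.mem_inf.1 hc).2 x (Subgroup.mem_zpowers x))
      rw [hc1, mul_one] at hcw
      exact (QuotientGroup.eq_one_iff w).2 (inv_mem_iff.1 hcw)
    have hrπ : orderOf (π x) = r := by
      rcases (Nat.dvd_prime hr).1 (hx ▸ orderOf_map_dvd π x) with h | h
      · exfalso
        rw [orderOf_eq_one_iff] at h
        have hxV : x ∈ V := (QuotientGroup.eq_one_iff x).1 h
        have hxK : x ∈ K := hUK (hVU hxV)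
        have h2 := Subgroup.orderOf_mk x hxK ▸ orderOf_dvd_natCard (⟨x, hxK⟩ : K)
        rw [hx] at h2
        exact (Nat.Prime.coprime_iff_not_dvd hr).1 hrK h2
      · exact h
    have h := minimal_normal (hodd.of_dvd_nat (Subgroup.card_quotient_dvd_card V)) (K.map π) (π x) r hr hrπ
      (hrK.coprime_dvd_right (Subgroup.card_map_dvd K π)) (U.map π) (Subgroup.Normal.map hU π hπ)
      (Subgroup.map_mono hUK) (fun h => hlt.not_ge (by
        rwa [Subgroup.map_eq_bot_iff, QuotientGroup.ker_mk'] at h))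
      (fun M hM hMU => by
        rcases hchief (M.comap π) (hM.comap π)
          (fun v hv => by rw [Subgroup.mem_comap, show π v = 1 from (QuotientGroup.eq_one_iff v).2 hv]; exact one_mem M)
          (fun g hg => by
            obtain ⟨w, hw, hwg⟩ := hMU hg
            rw [show g = w * (w⁻¹ * g) by group]
            exact mul_mem hw (hVU (QuotientGroup.eq.1 hwg))) with h | h
        · left
          rw [Subgroup.eq_bot_iff_forall]
          intro y hy
          obtain ⟨g, rfl⟩ := hπ y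
          exact (QuotientGroup.eq_one_iff g).2 (h.le hy)
        · right
          rw [← h, Subgroup.map_comap_eq_self_of_surjective hπ])
      hfix (π k) ⟨k, hk, rfl⟩
    have h1 := Subgroup.mem_centralizer_iff.1 h (π u) ⟨u, hu, rfl⟩
    refine (QuotientGroup.eq_one_iff _).1 ?_
    show π (u * (x * k * x⁻¹ * k⁻¹) * u⁻¹ * (x * k * x⁻¹ * k⁻¹)⁻¹) = 1
    rw [map_mul, map_mul, map_mul, map_inv, map_inv, mul_inv_eq_one, mul_inv_eq_iff_eq_mul]
    simpa [map_mul, map_inv] using h1
  rw [Subgroup.commutator_le]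
  intro k hk y hy
  let T : Subgroup G :=
    { carrier := {a | a * k * a⁻¹ * k⁻¹ ∈ F}
      one_mem' := by simp
      mul_mem' := fun {a b} (ha : a * k * a⁻¹ * k⁻¹ ∈ F) (hb : b * k * b⁻¹ * k⁻¹ ∈ F) => by
        show a * b * k * (a * b)⁻¹ * k⁻¹ ∈ F
        rw [show a * b * k * (a * b)⁻¹ * k⁻¹ = (a * (b * k * b⁻¹ * k⁻¹) * a⁻¹) * (a * k * a⁻¹ * k⁻¹) by group]
        exact mul_mem (hFn.conj_mem _ hb a) ha
      inv_mem' := fun {a} (ha : a * k * a⁻¹ * k⁻¹ ∈ F) => by
        show a⁻¹ * k * a⁻¹⁻¹ * k⁻¹ ∈ F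
        rw [show a⁻¹ * k * a⁻¹⁻¹ * k⁻¹ = a⁻¹ * (a * k * a⁻¹ * k⁻¹)⁻¹ * a⁻¹⁻¹ by group]
        exact hFn.conj_mem _ (inv_mem ha) _ }
  have hR0T : R0 ≤ T := Subgroup.zpowers_le.2 (hcomF k hk)
  obtain ⟨c, hc, hcf⟩ := CfsgLib.coprime_fixed_quotient (A := R0) (K := K) (N := F)
    (by rw [Subgroup.normalizer_eq_top]; exact le_top) (hR0card.symm ▸ hrK) (Or.inr inferInstance) hFK
    (by rw [Subgroup.normalizer_eq_top]; exact le_top) (by rw [Subgroup.normalizer_eq_top]; exact le_top) hk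
    (fun a ha => hR0T ha)
  have hcx : c ∈ K ⊓ Subgroup.centralizer ({x} : Set G) := Subgroup.mem_inf.2 ⟨(Subgroup.mem_inf.1 hc).1,
    Subgroup.centralizer_le (Set.singleton_subset_iff.2 (Subgroup.mem_zpowers x)) (Subgroup.mem_inf.1 hc).2⟩
  rw [hprime x hxR hx1] at hcx
  have hcy := Subgroup.mem_centralizer_iff.1 (Subgroup.mem_inf.1 hcx).2 y hy
  set f := k⁻¹ * c with hf
  have hk' : k = c * f⁻¹ := by rw [hf]; group
  rw [hk', show ⁅c * f⁻¹, y⁆ = c * (f⁻¹ * (y * f * y⁻¹)) * c⁻¹ * ⁅c, y⁆ by simp only [commutatorElement_def]; group,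
    commutatorElement_eq_one_iff_mul_comm.2 hcy.symm, mul_one]
  exact hFn.conj_mem _ (mul_mem (inv_mem hcf) (hFn.conj_mem _ hcf y)) c

end Cfsg.Agent.S1445
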