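import Cfsg.Statements.S2872
import Mathlib
import Cfsg.Agent.Lib.YoshidaTransfer
import Cfsg.Agent.Lib.Transfer

set_option autoImplicit false
set_option linter.unusedVariables false
open Cfsg
open scoped commutatorElement

namespace Cfsg.Agent.S2872

open CfsgLib CfsgLib.HallWielandt

abbrev A2 := Multiplicative (ZMod 2)

theorem a2_cases (a : A2) : a = 1 ∨ a = Multiplicative.ofAdd 1 := by revert a; decide

theorem a2_sq (a : A2) : a * a = 1 := by revert a; decide

theorem exists_hom {H : Type*} [Group H] {L : Subgroup H} (hL : L.index = 2) :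
    ∃ φ : H →* A2, ∀ h, h ∉ L → φ h = Multiplicative.ofAdd 1 := by
  classical
  refine ⟨MonoidHom.mk' (fun h => if h ∈ L then (1 : A2) else Multiplicative.ofAdd 1) fun a b => ?_, fun h hh => if_neg hh⟩
  have h := Subgroup.mul_mem_iff_of_index_two hL (a := a) (b := b)
  by_cases ha : a ∈ L <;> by_cases hb : b ∈ L <;> simp [ha, hb, h, a2_sq]

theorem transfer_ne_one {G : Type*} [Group G] [Finite G] (S : Sylow 2 G) (φ : ↥(S : Subgroup G) →* A2) {z : G}
    (hz : z ∈ (S : Subgroup G)) (hz2 : z * z = 1) (hzc : ∀ s ∈ (S : Subgroup G), s * z = z * s)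
    (hφ : φ ⟨z, hz⟩ = Multiplicative.ofAdd 1)
    (hfix : ∀ g ∈ Subgroup.normalizer ((S : Subgroup G) : Set G), g * z * g⁻¹ = z) :
    MonoidHom.transfer φ z ≠ 1 := by
  classical
  have := Fintype.ofFinite (G ⧸ (S : Subgroup G))
  let o : G ⧸ (S : Subgroup G) → G := Quotient.out
  have ho : ∀ q, (o q : G ⧸ (S : Subgroup G)) = q := QuotientGroup.out_eq'
  have hsm : ∀ (x : G) (q : G ⧸ (S : Subgroup G)), (o (x • q))⁻¹ * x * o q ∈ (S : Subgroup G) := fun x q => by
    rw [mul_assoc, ← QuotientGroup.eq, ho]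
    conv_lhs => rw [← ho q]
    rfl
  rw [transfer_eq_prod_section φ o ho]
  set F : G ⧸ (S : Subgroup G) → A2 := fun q => ext φ ((o (z • q))⁻¹ * z * o q) with hF
  set T : Set (G ⧸ (S : Subgroup G)) := {q | z • q = q ∧ F q = Multiplicative.ofAdd 1} with hT
  have hprod : ∏ q, F q = (Multiplicative.ofAdd 1 : A2) ^ Nat.card T := by
    rw [← Finset.prod_filter_mul_prod_filter_not Finset.univ (fun q => z • q = q)]
    have h1 : ∏ q ∈ Finset.univ.filter (fun q : G ⧸ (S : Subgroup G) => ¬ z • q = q), F q = 1 := by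
      refine Finset.prod_involution (fun q _ => z • q) (fun q hq => ?_) (fun q hq _ => (Finset.mem_filter.mp hq).2)
        (fun q hq => Finset.mem_filter.mpr ⟨Finset.mem_univ _, fun e => (Finset.mem_filter.mp hq).2 ?_⟩)
        (fun q _ => by rw [smul_smul, hz2, one_smul])
      · simp only [hF]
        rw [← ext_mul φ (hsm z q) (hsm z (z • q)), smul_smul, hz2, one_smul]
        rw [show (o (z • q))⁻¹ * z * o q * ((o q)⁻¹ * z * o (z • q)) = (o (z • q))⁻¹ * (z * z) * o (z • q) by group,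
          hz2, mul_one, inv_mul_cancel, ext_one]
      · exact MulAction.injective z e
    rw [h1, mul_one, ← Finset.prod_filter_mul_prod_filter_not _ (fun q => F q = Multiplicative.ofAdd 1)]
    rw [Finset.prod_eq_pow_card (b := (Multiplicative.ofAdd 1 : A2)) (fun q hq => (Finset.mem_filter.mp hq).2),
      Finset.prod_eq_one (fun q hq => (a2_cases (F q)).resolve_right (Finset.mem_filter.mp hq).2), mul_one]
    congr 1
    rw [Nat.card_eq_card_toFinset]
    refine congrArg Finset.card ?_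
    ext q
    simp [hT]
  have hinv : ∀ s : ↥(S : Subgroup G), ∀ q ∈ T, (s : G) • q ∈ T := by
    rintro s q ⟨h1, h2⟩
    have e : z • ((s : G) • q) = (s : G) • q := by rw [smul_smul, ← hzc s s.2, mul_smul, h1]
    refine ⟨e, ?_⟩
    rw [← h2]
    simp only [hF]
    rw [e, h1]
    set t := (o q)⁻¹ * (s : G)⁻¹ * o ((s : G) • q) with ht
    have htS : t ∈ (S : Subgroup G) := by
      rw [ht]; simpa [mul_assoc] using (S : Subgroup G).inv_mem (hsm (s : G) q)
    have hw : (o q)⁻¹ * z * o q ∈ (S : Subgroup G) := by have := hsm z q; rwa [h1] at this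
    rw [show (o ((s : G) • q))⁻¹ * z * o ((s : G) • q) = t⁻¹ * ((o q)⁻¹ * ((s : G)⁻¹ * (z * (s : G))) * o q) * t by
      rw [ht]; group]
    rw [← hzc s s.2, inv_mul_cancel_left]
    rw [ext_mul φ ((S : Subgroup G).mul_mem ((S : Subgroup G).inv_mem htS) hw) htS,
      ext_mul φ ((S : Subgroup G).inv_mem htS) hw, ext_inv φ htS, inv_mul_cancel_comm]
  let act : MulAction ↥(S : Subgroup G) ↥T :=
    { smul := fun s q => ⟨(s : G) • (q : G ⧸ (S : Subgroup G)), hinv s q q.2⟩
      one_smul := fun q => Subtype.ext (one_smul G (q : G ⧸ (S : Subgroup G)))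
      mul_smul := fun s t q => Subtype.ext (mul_smul (s : G) (t : G) (q : G ⧸ (S : Subgroup G))) }
  have hfp : ∀ q : G ⧸ (S : Subgroup G), q ∈ MulAction.fixedPoints ↥(S : Subgroup G) (G ⧸ (S : Subgroup G)) → q ∈ T := by
    intro q hq
    have h1 : z • q = q := hq ⟨z, hz⟩
    refine ⟨h1, ?_⟩
    have hn : (o q)⁻¹ ∈ Subgroup.normalizer ((S : Subgroup G) : Set G) := by
      refine Sylow.smul_eq_iff_mem_normalizer.mp (Sylow.ext ?_)
      rw [Sylow.coe_subgroup_smul]
      refine Subgroup.eq_of_le_of_card_ge ?_ (le_of_eq (Subgroup.card_map_of_injective (MulEquiv.injective (MulAut.conj (o q)⁻¹))).symm)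
      rintro _ ⟨s, hs, rfl⟩
      show (o q)⁻¹ * s * (o q)⁻¹⁻¹ ∈ (S : Subgroup G)
      have h2 := hsm s q
      rw [show s • q = q from hq ⟨s, hs⟩] at h2
      rwa [inv_inv]
    have h3 := hfix _ hn
    rw [inv_inv] at h3
    simp only [hF]
    rw [h1, h3, ext_of_mem φ hz, hφ]
  have hodd : ¬ 2 ∣ Nat.card ↥T := by
    intro hd
    have e1 := S.2.card_modEq_card_fixedPoints (↥T)
    have e2 := S.2.card_modEq_card_fixedPoints (G ⧸ (S : Subgroup G))
    have e3 : Nat.card ↥(MulAction.fixedPoints ↥(S : Subgroup G) ↥T) =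
        Nat.card ↥(MulAction.fixedPoints ↥(S : Subgroup G) (G ⧸ (S : Subgroup G))) := by
      refine Nat.card_congr ⟨fun q => ⟨((q : ↥T) : G ⧸ (S : Subgroup G)), fun s => congrArg Subtype.val (q.2 s)⟩,
        fun q => ⟨⟨q.1, hfp _ q.2⟩, fun s => Subtype.ext (q.2 s)⟩, fun q => rfl, fun q => rfl⟩
    rw [e3] at e1
    exact S.not_dvd_index (Nat.modEq_zero_iff_dvd.mp ((e2.trans e1.symm).trans (Nat.modEq_zero_iff_dvd.mpr hd)))
  rw [hprod, Nat.card_congr (Equiv.refl _)]
  obtain ⟨m, hm⟩ := Nat.not_even_iff_odd.mp (fun h => hodd h.two_dvd)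
  rw [hm, pow_succ, pow_mul, pow_two, a2_sq, one_pow, one_mul]
  decide

/-- Let S be a Sylow 2-subgroup of the finite group G. Then G has a proper normal subgroup of 2-power index (O²(G) ≠ G), or Ω₁(Z(S)) is contained in the Frattini subgroup of S, or N_G(S) acts nontrivially on Ω₁(Z(S)) by conjugation. -/
theorem result {G : Type*} [Group G] [Finite G] (S : Sylow 2 G) : Cfsg.pResidual 2 G ≠ ⊤ ∨ Cfsg.omegaOne 2 ((S : Subgroup G) ⊓ Subgroup.centralizer ((S : Subgroup G) : Set G)) ≤ (frattini ↥(S : Subgroup G)).map (S : Subgroup G).subtype ∨ ∃ g ∈ Subgroup.normalizer ((S : Subgroup G) : Set G), ∃ z ∈ Cfsg.omegaOne 2 ((S : Subgroup G) ⊓ Subgroup.centralizer ((S : Subgroup G) : Set G)), g * z * g⁻¹ ≠ z := by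
  by_contra hcon
  simp only [not_or, not_exists, not_and, ne_eq, not_not] at hcon
  obtain ⟨hres, hle, hfix⟩ := hcon
  obtain ⟨z, hzΩ, hzΦ⟩ : ∃ z, (z ∈ (S : Subgroup G) ⊓ Subgroup.centralizer ((S : Subgroup G) : Set G) ∧ z ^ 2 = 1) ∧
      z ∉ (frattini ↥(S : Subgroup G)).map (S : Subgroup G).subtype := by
    by_contra h
    push Not at h
    exact hle ((Subgroup.closure_le _).mpr fun x hx => h x hx)
  obtain ⟨⟨hzS, hzC⟩, hz2⟩ := hzΩ
  have hnotall : ∃ L : Subgroup ↥(S : Subgroup G), IsCoatom L ∧ (⟨z, hzS⟩ : ↥(S : Subgroup G)) ∉ L := by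
    by_contra h
    push Not at h
    refine hzΦ ⟨⟨z, hzS⟩, ?_, rfl⟩
    rw [SetLike.mem_coe, frattini, Order.radical]
    simp only [Subgroup.mem_iInf]
    exact fun L hL => h L hL
  obtain ⟨L, hL, hzL⟩ := hnotall
  obtain ⟨φ, hφ⟩ := exists_hom (CfsgLib.YoshidaTransfer.coatom_data S.2 hL).2
  refine transfer_ne_one S φ hzS (by rw [← pow_two, hz2]) (fun s hs => Subgroup.mem_centralizer_iff.mp hzC s hs) (hφ _ hzL)
    (fun g hg => hfix g hg z (Subgroup.subset_closure ⟨⟨hzS, hzC⟩, hz2⟩)) ?_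
  exact MonoidHom.mem_ker.mp (CfsgLib.Transfer.le_ker_of_isPGroup (p := 2) (IsPGroup.of_card (n := 1) (by simp)) _ (hres ▸ Subgroup.mem_top z))

end Cfsg.Agent.S2872
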