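import Cfsg.Statements.S2911
import Mathlib
import Cfsg.Agent.S2872

set_option autoImplicit false
set_option linter.unusedVariables false
open Cfsg
open scoped commutatorElement

namespace Cfsg.Agent.S2911

open Cfsg.Agent.S2872

abbrev Mod := Multiplicative (ZMod 2) × DihedralGroup 4

theorem mod_center : ∀ m : Mod, (∀ n : Mod, m * n = n * m) →
    m = 1 ∨ m = (1, DihedralGroup.r 2) ∨ m = (Multiplicative.ofAdd 1, 1) ∨ m = (Multiplicative.ofAdd 1, DihedralGroup.r 2) := by
  decide

theorem mod_sq : ∀ n : Mod, n * n = 1 ∨ n * n = (1, DihedralGroup.r 2) := by decide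

/-- A finite group whose Sylow 2-subgroups are isomorphic to the direct product of a group of order 2 and a dihedral group of order 8 has a subgroup of index two. -/
theorem result {G : Type*} [Group G] [Finite G] (S : Sylow 2 G) (hS : Nonempty (↥(S : Subgroup G) ≃* Multiplicative (ZMod 2) × DihedralGroup 4)) : ∃ H : Subgroup G, H.index = 2 := by
  obtain ⟨e⟩ := hS
  set a : ↥(S : Subgroup G) := e.symm (Multiplicative.ofAdd 1, 1) with ha
  set c : ↥(S : Subgroup G) := e.symm (1, DihedralGroup.r 2) with hc
  set r : ↥(S : Subgroup G) := e.symm (1, DihedralGroup.r 1) with hr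
  have hea : e a = (Multiplicative.ofAdd 1, 1) := e.apply_symm_apply _
  have hec : e c = (1, DihedralGroup.r 2) := e.apply_symm_apply _
  have hrr : r * r = c := by rw [hr, hc, ← map_mul]; rfl
  have hcen : ∀ s : ↥(S : Subgroup G), s * a = a * s := fun s => e.injective (by
    rw [map_mul, map_mul, hea]
    refine Prod.ext (mul_comm _ _) ?_
    show (e s).2 * 1 = 1 * (e s).2
    rw [mul_one, one_mul])
  have ha2 : (a : G) * a = 1 := by
    rw [← Subgroup.coe_mul, ← OneMemClass.coe_one (S : Subgroup G)]
    exact congrArg Subtype.val (e.injective (by rw [map_mul, map_one, hea]; rfl))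
  have hfix : ∀ g ∈ Subgroup.normalizer ((S : Subgroup G) : Set G), g * (a : G) * g⁻¹ = a := by
    intro g hg
    have hcj : ∀ h ∈ Subgroup.normalizer ((S : Subgroup G) : Set G), h * (c : G) * h⁻¹ = c := by
      intro h hh
      have hm : h * (r : G) * h⁻¹ ∈ (S : Subgroup G) := (Subgroup.mem_normalizer_iff.mp hh _).mp r.2
      set t : ↥(S : Subgroup G) := ⟨_, hm⟩
      have e1 : h * (c : G) * h⁻¹ = ((t * t : ↥(S : Subgroup G)) : G) := by
        rw [← hrr]; simp [t, mul_assoc]
      rcases mod_sq (e t) with h1 | h1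
      · exfalso
        have h2 : t * t = 1 := e.injective (by rw [map_mul, map_one, h1])
        rw [h2, OneMemClass.coe_one, conj_eq_one_iff] at e1
        have h3 : c = 1 := Subtype.ext e1
        rw [h3, map_one] at hec
        revert hec; decide
      · rw [e1, show t * t = c from e.injective (by rw [map_mul, h1, hec])]
    have key : ∀ h ∈ Subgroup.normalizer ((S : Subgroup G) : Set G),
        h * (a : G) * h⁻¹ = a ∨ h * (a : G) * h⁻¹ = a * c := by
      intro h hh
      have hm : h * (a : G) * h⁻¹ ∈ (S : Subgroup G) := (Subgroup.mem_normalizer_iff.mp hh _).mp a.2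
      set t : ↥(S : Subgroup G) := ⟨_, hm⟩ with ht
      have hct : ∀ s : ↥(S : Subgroup G), t * s = s * t := fun s => Subtype.ext (by
        have hm' : h⁻¹ * (s : G) * h ∈ (S : Subgroup G) := by
          simpa using (Subgroup.mem_normalizer_iff.mp ((Subgroup.normalizer _).inv_mem hh) _).mp s.2
        have h1 := congrArg Subtype.val (hcen ⟨_, hm'⟩)
        simp only [Subgroup.coe_mul] at h1
        show h * (a : G) * h⁻¹ * s = s * (h * (a : G) * h⁻¹)
        calc h * (a : G) * h⁻¹ * s = h * ((a : G) * (h⁻¹ * s * h)) * h⁻¹ := by group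
          _ = h * ((h⁻¹ * s * h) * (a : G)) * h⁻¹ := by rw [h1]
          _ = s * (h * (a : G) * h⁻¹) := by group)
      rcases mod_center (e t) (fun n => by rw [← e.apply_symm_apply n, ← map_mul, ← map_mul, hct]) with h1 | h1 | h1 | h1
      · exfalso
        have h2 : t = 1 := e.injective (h1.trans (map_one e).symm)
        have h3 : (a : G) = 1 := conj_eq_one_iff.mp (congrArg Subtype.val h2)
        have h4 : a = 1 := Subtype.ext h3
        rw [h4, map_one] at hea
        revert hea; decide
      · exfalso
        have h2 : h * (a : G) * h⁻¹ = c := congrArg Subtype.val (e.injective (h1.trans hec.symm) : t = c)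
        rw [← hcj h hh] at h2
        have h3 : a = c := Subtype.ext (mul_left_cancel (mul_right_cancel h2))
        rw [h3, hec] at hea
        revert hea; decide
      · exact Or.inl (congrArg Subtype.val (e.injective (h1.trans hea.symm) : t = a))
      · refine Or.inr (congrArg Subtype.val (e.injective (h1.trans ?_) : t = a * c))
        rw [map_mul, hea, hec]; rfl
    rcases key g hg with h | h
    · exact h
    exfalso
    have hpow : ∀ n : ℕ, g ^ n * (a : G) * (g ^ n)⁻¹ = if Even n then (a : G) else a * c := by
      intro n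
      induction n with
      | zero => simp
      | succ n ih =>
        rw [pow_succ', show g * g ^ n * (a : G) * (g * g ^ n)⁻¹ = g * (g ^ n * a * (g ^ n)⁻¹) * g⁻¹ by group, ih]
        by_cases hn : Even n
        · rw [if_pos hn, if_neg (Nat.not_even_iff_odd.mpr hn.add_one), h]
        · rw [if_neg hn, if_pos (Nat.not_even_iff_odd.mp hn).add_one, show g * ((a : G) * c) * g⁻¹ = (g * a * g⁻¹) * (g * c * g⁻¹) by group,
            h, hcj g hg, mul_assoc, ← Subgroup.coe_mul (S : Subgroup G) c c,
            show c * c = 1 from e.injective (by rw [map_mul, map_one, hec]; rfl), OneMemClass.coe_one, mul_one]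
    obtain ⟨m, hm, hmS⟩ : ∃ m : ℕ, ¬ Even m ∧ g ^ m ∈ (S : Subgroup G) := by
      set N := Subgroup.normalizer ((S : Subgroup G) : Set G)
      refine ⟨Nat.card (↥N ⧸ (S : Subgroup G).subgroupOf N), fun h => ?_, ?_⟩
      · exact S.not_dvd_index (h.two_dvd.trans (Subgroup.relIndex_dvd_index_of_le (Subgroup.le_normalizer)))
      · haveI : ((S : Subgroup G).subgroupOf N).Normal := Subgroup.normal_in_normalizer
        exact Subgroup.mem_subgroupOf.mp ((QuotientGroup.eq_one_iff (N := (S : Subgroup G).subgroupOf N) ((⟨g, hg⟩ : ↥N) ^ _)).mp (by rw [QuotientGroup.mk_pow, pow_card_eq_one']))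
    have h1 := hpow m
    rw [if_neg hm] at h1
    have h2 := congrArg Subtype.val (hcen ⟨_, hmS⟩)
    simp only [Subgroup.coe_mul] at h2
    rw [h2, mul_inv_cancel_right] at h1
    have h3 : c = 1 := Subtype.ext (mul_eq_left.mp h1.symm)
    rw [h3, map_one] at hec
    revert hec; decide
  have hne := transfer_ne_one S ((MonoidHom.fst _ _).comp e.toMonoidHom) a.2 ha2
    (fun s hs => congrArg Subtype.val (hcen ⟨s, hs⟩)) (by show (e a).1 = _; rw [hea]) hfix
  set τ := MonoidHom.transfer ((MonoidHom.fst (Multiplicative (ZMod 2)) (DihedralGroup 4)).comp e.toMonoidHom)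
  refine ⟨τ.ker, ?_⟩
  rw [Subgroup.index_ker]
  have hsurj : τ.range = ⊤ := eq_top_iff.mpr fun x _ => by
    rcases a2_cases x with rfl | rfl
    · exact one_mem _
    · exact ⟨(a : G), (a2_cases (τ a)).resolve_left hne⟩
  rw [hsurj, Subgroup.card_top]
  simp

end Cfsg.Agent.S2911
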