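import Cfsg.Statements.S0254
import Mathlib
import Cfsg.Agent.S0804
import Cfsg.Agent.Lib.SLCard

set_option autoImplicit false
open Cfsg

namespace Cfsg.Agent.S0254



/-- PSL_2(9) is isomorphic to A_6. -/
theorem result {F : Type*} [Field F] [Fintype F] (hF : Fintype.card F = 9) : Nonempty (Matrix.ProjectiveSpecialLinearGroup (Fin 2) F ≃* alternatingGroup (Fin 6)) := by
  classical
  haveI : IsSimpleGroup (Matrix.ProjectiveSpecialLinearGroup (Fin 2) F) :=
    Matrix.ProjectiveSpecialLinearGroup.rank_two_simple (by rw [Nat.card_eq_fintype_card, hF]; norm_num)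
  have hG : Nat.card (Matrix.ProjectiveSpecialLinearGroup (Fin 2) F) = 360 := by
    have h := CfsgLib.SLCard.gcd_mul_card_PSL (F := F) (n := 2) (by norm_num)
    rw [CfsgLib.SLCard.card_SL_two, hF] at h
    have h' : 2 * Nat.card (Matrix.ProjectiveSpecialLinearGroup (Fin 2) F) = 720 := h
    omega
  obtain ⟨H, ⟨e⟩⟩ := (Cfsg.Agent.S0804.result hF).mpr (by norm_num)
  have hH : Nat.card H = 60 := by
    rw [Nat.card_congr e.toEquiv, nat_card_alternatingGroup, Nat.card_eq_fintype_card, Fintype.card_fin]
    rfl
  have hidx : H.index = 6 := by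
    have := H.card_mul_index
    rw [hH, hG] at this
    omega
  let Ω := Matrix.ProjectiveSpecialLinearGroup (Fin 2) F ⧸ H
  let ε : Ω ≃ Fin 6 := Finite.equivFinOfCardEq hidx
  let f : Matrix.ProjectiveSpecialLinearGroup (Fin 2) F →* Equiv.Perm (Fin 6) :=
    ε.permCongrHom.toMonoidHom.comp (MulAction.toPermHom _ Ω)
  have hker : f.ker = ⊥ := by
    refine (Subgroup.Normal.eq_bot_or_eq_top (inferInstance : f.ker.Normal)).resolve_right fun h => ?_
    have hall : H = ⊤ := by
      refine eq_top_iff.mpr fun g _ => ?_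
      have h1 : f g = 1 := MonoidHom.mem_ker.mp (h ▸ Subgroup.mem_top g)
      have h2 : MulAction.toPermHom (Matrix.ProjectiveSpecialLinearGroup (Fin 2) F) Ω g = 1 :=
        ε.permCongrHom.injective (h1.trans (map_one _).symm)
      have h3 := Equiv.ext_iff.mp h2 (QuotientGroup.mk 1)
      simp at h3
      have h4 := QuotientGroup.eq.mp h3
      simpa using h4
    rw [hall, Subgroup.index_top] at hidx
    omega
  have hinj : Function.Injective f := (MonoidHom.ker_eq_bot_iff f).mp hker
  have hcr : Nat.card f.range = 360 := by rw [← hG]; exact (Nat.card_congr (MonoidHom.ofInjective hinj).toEquiv).symm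
  have hri : f.range.index = 2 := by
    have := f.range.card_mul_index
    rw [hcr, Nat.card_perm, Nat.card_eq_fintype_card, Fintype.card_fin, show Nat.factorial 6 = 720 from rfl] at this
    omega
  exact ⟨(MonoidHom.ofInjective hinj).trans (MulEquiv.subgroupCongr (Equiv.Perm.eq_alternatingGroup_of_index_eq_two hri))⟩

end Cfsg.Agent.S0254
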