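import Cfsg.Statements.S0948
import Cfsg.Agent.Lib.Blocks.KleinFour
-- import your own Cfsg.Agent.* helpers here

set_option autoImplicit false
open Cfsg

namespace Cfsg.Agent.S0948

open CfsgLib.Blocks CfsgLib.CharTheory

set_option linter.style.haveILetI false
set_option linter.unusedSimpArgs false


/-- Let the finite group G have a Sylow 2-subgroup P that is a Klein four-group, suppose all involutions of G are conjugate, and fix a maximal ideal M of the algebraic integers containing 2. Then the principal block consists of exactly four irreducible characters, the principal character and ζ₂, ζ₃, ζ₄, and there is a sign ε such that for every involution z: ζ₂ z = 1, ζ₃ z = ε, ζ₄ z = -1; moreover ζ₂ 1 ≡ 1, ζ₃ 1 ≡ ε, ζ₄ 1 ≡ -1 (mod 4), and 1 + ζ₂ y + ε ζ₃ y - ζ₄ y = 0 for every y of odd order. -/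
theorem result {G : Type*} [Group G] [Finite G] (M : Ideal Cfsg.AlgInt) (hM : Cfsg.IsPModular 2 M) (P : Sylow 2 G) (hP : IsKleinFour (P : Subgroup G)) (hone : ∀ s t : G, orderOf s = 2 → orderOf t = 2 → IsConj s t) : ∃ ζ₂ ζ₃ ζ₄ : Cfsg.IrrCharacter G, ∃ ε : ℤ, (ε = 1 ∨ ε = -1) ∧ (ζ₂ : G → ℂ) ≠ (fun _ => 1) ∧ (ζ₃ : G → ℂ) ≠ (fun _ => 1) ∧ ζ₂ ≠ ζ₃ ∧ ζ₂ ≠ ζ₄ ∧ ζ₃ ≠ ζ₄ ∧ Cfsg.principalBlock M G = {χ : Cfsg.IrrCharacter G | (χ : G → ℂ) = (fun _ => 1) ∨ χ = ζ₂ ∨ χ = ζ₃ ∨ χ = ζ₄} ∧ (∀ z : G, orderOf z = 2 → (ζ₂ : G → ℂ) z = 1 ∧ (ζ₃ : G → ℂ) z = (ε : ℂ) ∧ (ζ₄ : G → ℂ) z = -1) ∧ (4 : ℤ) ∣ (Cfsg.charDegree (ζ₂ : G → ℂ) : ℤ) - 1 ∧ (4 : ℤ) ∣ (Cfsg.charDegree (ζ₃ : G → ℂ) : ℤ) - ε ∧ (4 : ℤ) ∣ (Cfsg.charDegree (ζ₄ : G → ℂ) : ℤ) + 1 ∧ ∀ y : G, Odd (orderOf y) → 1 + (ζ₂ : G → ℂ) y + (ε : ℂ) * (ζ₃ : G → ℂ) y - (ζ₄ : G → ℂ) y = 0 := by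
  classical
  letI := Fintype.ofFinite G
  have hcardP : Nat.card P = 4 := hP.card_four
  have hexp : ∀ x : P, x * x = 1 := fun x => by
    have h := Monoid.pow_exponent_eq_one (G := (P : Subgroup G)) x
    rw [hP.exponent_two, sq] at h
    exact h
  obtain ⟨a, hcard, hone', hval, hrel⟩ := klein_principal hM P hcardP hexp hone
  set s := (bset (Cfsg.principalBlock M G)).erase (oneIrr G) with hs
  have hs3 : s.card = 3 := by
    rw [hs, Finset.card_erase_of_mem (mem_bset.2 (oneIrr_mem hM)), hcard]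
  have hmem : ∀ χ ∈ s, χ ≠ oneIrr G ∧ χ ∈ Cfsg.principalBlock M G := fun χ hχ =>
    ⟨(Finset.mem_erase.1 hχ).1, mem_bset.1 (Finset.mem_erase.1 hχ).2⟩
  have h1 := hrel 1 (by simp)
  rw [← Finset.add_sum_erase _ _ (mem_bset.2 (oneIrr_mem hM)), ← hs, hone'] at h1
  have h1' : (1 : ℤ) + ∑ χ ∈ s, a χ * (Cfsg.charDegree (χ : G → ℂ) : ℤ) = 0 := by
    simp only [← irr_charDegree_cast] at h1
    have hd1 : Cfsg.charDegree ((oneIrr G : Cfsg.IrrCharacter G) : G → ℂ) = 1 := by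
      simp [Cfsg.charDegree, oneIrr]
    rw [hd1] at h1
    simp only [Int.cast_one, Nat.cast_one, one_mul] at h1
    exact_mod_cast h1
  have hdpos : ∀ χ : Cfsg.IrrCharacter G, 1 ≤ (Cfsg.charDegree (χ : G → ℂ) : ℤ) := fun χ => by
    have : Cfsg.charDegree (χ : G → ℂ) ≠ 0 := fun h =>
      irr_one_ne_zero χ (by rw [← irr_charDegree_cast, h, Nat.cast_zero])
    omega
  obtain ⟨ζ₂, hζ₂, h2⟩ : ∃ χ ∈ s, a χ = 1 := by
    by_contra hno
    push Not at hno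
    have hle : ∑ χ ∈ s, a χ * (Cfsg.charDegree (χ : G → ℂ) : ℤ) ≤ ∑ _χ ∈ s, (-1 : ℤ) := by
      refine Finset.sum_le_sum fun χ hχ => ?_
      rw [(hval χ (hmem χ hχ).2).1.resolve_left (hno χ hχ)]
      linarith [hdpos χ]
    simp [hs3] at hle
    omega
  obtain ⟨ζ₄, hζ₄, h4⟩ : ∃ χ ∈ s, a χ = -1 := by
    by_contra hno
    push Not at hno
    have hle : 0 ≤ ∑ χ ∈ s, a χ * (Cfsg.charDegree (χ : G → ℂ) : ℤ) := by
      refine Finset.sum_nonneg fun χ hχ => ?_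
      rw [(hval χ (hmem χ hχ).2).1.resolve_right (hno χ hχ)]
      linarith [hdpos χ]
    omega
  have h24 : ζ₂ ≠ ζ₄ := fun h => by rw [h, h4] at h2; omega
  obtain ⟨ζ₃, hζ₃⟩ : ∃ χ, χ ∈ (s.erase ζ₂).erase ζ₄ := by
    refine Finset.card_pos.1 ?_
    rw [Finset.card_erase_of_mem (Finset.mem_erase.2 ⟨h24.symm, hζ₄⟩),
      Finset.card_erase_of_mem hζ₂, hs3]
    norm_num
  rw [Finset.mem_erase, Finset.mem_erase] at hζ₃
  obtain ⟨h34, h32, hζ₃⟩ := hζ₃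
  have hset : s = {ζ₂, ζ₃, ζ₄} := by
    refine (Finset.eq_of_subset_of_card_le ?_ ?_).symm
    · intro x hx
      simp only [Finset.mem_insert, Finset.mem_singleton] at hx
      rcases hx with rfl | rfl | rfl <;> assumption
    · rw [hs3, Finset.card_insert_of_notMem, Finset.card_pair h34]
      simp only [Finset.mem_insert, Finset.mem_singleton, not_or]
      exact ⟨h32.symm, h24⟩
  have hfun : ∀ χ : Cfsg.IrrCharacter G, ((χ : G → ℂ) = fun _ => 1) ↔ χ = oneIrr G :=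
    fun χ => ⟨fun h => Subtype.ext h, fun h => h ▸ rfl⟩
  refine ⟨ζ₂, ζ₃, ζ₄, a ζ₃, (hval ζ₃ (hmem _ hζ₃).2).1, fun h => (hmem _ hζ₂).1 ((hfun _).1 h),
    fun h => (hmem _ hζ₃).1 ((hfun _).1 h), h32.symm, h24, h34, ?_, fun z hz => ?_, ?_, ?_, ?_, ?_⟩
  · ext χ
    rw [Set.mem_setOf_eq, hfun, ← mem_bset,
      ← Finset.insert_erase (mem_bset.2 (oneIrr_mem hM) : oneIrr G ∈ bset _), ← hs, hset]
    simp
  · refine ⟨?_, (hval _ (hmem _ hζ₃).2).2.2.1 z hz, ?_⟩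
    · rw [(hval _ (hmem _ hζ₂).2).2.2.1 z hz, h2, Int.cast_one]
    · rw [(hval _ (hmem _ hζ₄).2).2.2.1 z hz, h4, Int.cast_neg, Int.cast_one]
  · have := (hval _ (hmem _ hζ₂).2).2.1
    rwa [h2] at this
  · exact (hval _ (hmem _ hζ₃).2).2.1
  · have := (hval _ (hmem _ hζ₄).2).2.1
    rwa [h4, sub_neg_eq_add] at this
  · intro y hy
    have h := hrel y (fun hd => Nat.not_even_iff_odd.2 hy (even_iff_two_dvd.2 hd))
    rw [← Finset.add_sum_erase _ _ (mem_bset.2 (oneIrr_mem hM)), ← hs, hset, hone',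
      Finset.sum_insert (by simp [h32.symm, h24]), Finset.sum_pair h34, h2, h4] at h
    rw [← h]
    push_cast
    simp [oneIrr]
    ring

end Cfsg.Agent.S0948
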