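import Cfsg.Statements.S0992
import Mathlib
import Cfsg.Agent.Lib.PComplement
-- import your own Cfsg.Agent.* helpers here

set_option autoImplicit false
open Cfsg

namespace Cfsg.Agent.S0992

/-- Let G be a non-abelian finite simple group of even order not divisible by 8, and T a Sylow 2-subgroup. Then T is a Klein four-group and the centralizer of T has index 3 in the normalizer of T. -/
theorem result {G : Type*} [Group G] [Finite G] [IsSimpleGroup G] (hG : ¬ IsMulCommutative G) (h2 : Even (Nat.card G)) (h8 : ¬ 8 ∣ Nat.card G) (T : Sylow 2 G) : IsKleinFour ↥(T : Subgroup G) ∧ (Subgroup.centralizer ((T : Subgroup G) : Set G)).relIndex (Subgroup.normalizer ((T : Subgroup G) : Set G)) = 3 := by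
  classical
  haveI : Fact (Nat.Prime 2) := ⟨Nat.prime_two⟩
  set TS : Subgroup G := (T : Subgroup G) with hTS
  obtain ⟨k, hk⟩ := (T.isPGroup').exists_card_eq
  have hk1 : 1 ≤ k := by
    by_contra h
    have h2' := T.dvd_card_of_dvd_card (even_iff_two_dvd.1 h2)
    rw [hk, Nat.lt_one_iff.1 (not_le.1 h), pow_zero] at h2'
    omega
  have hk2 : k ≤ 2 := by
    by_contra h
    refine h8 (Dvd.dvd.trans ?_ (Subgroup.card_subgroup_dvd_card (T : Subgroup G)))
    rw [hk]
    exact (show (8 : ℕ) = 2 ^ 3 by norm_num) ▸ pow_dvd_pow 2 (by omega)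
  have hnp : ¬ Cfsg.HasNormalPComplement 2 G := by
    rintro ⟨P, N, hN, hc⟩
    rcases hN.eq_bot_or_eq_top with h | h
    · subst h
      have hP : (P : Subgroup G) = ⊤ := Subgroup.isComplement'_bot_left.1 hc
      have hcard : Nat.card G = 2 ^ k := by
        rw [← hk]
        have e := Sylow.card_eq_multiplicity T
        have e' := Sylow.card_eq_multiplicity P
        rw [e, ← e', hP, Subgroup.card_top]
      apply hG
      rcases (show k = 1 ∨ k = 2 by omega) with rfl | rfl
      · haveI := isCyclic_of_prime_card (α := G) (p := 2) (by rw [hcard, pow_one])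
        exact ⟨⟨fun a b => (IsCyclic.commGroup (α := G)).mul_comm a b⟩⟩
      · exact ⟨⟨fun a b => (IsPGroup.commGroupOfCardEqPrimeSq hcard).mul_comm a b⟩⟩
    · subst h
      have hP : (P : Subgroup G) = ⊥ := Subgroup.isComplement'_top_left.1 hc
      have e' := Sylow.card_eq_multiplicity P
      rw [hP, Subgroup.card_bot, ← Sylow.card_eq_multiplicity T, hk] at e'
      exact (Nat.one_lt_pow (by omega) one_lt_two).ne e'
  have hNC : (Subgroup.centralizer (TS : Set G)).relIndex (Subgroup.normalizer (TS : Set G)) ≠ 1 := by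
    intro h
    exact hnp (CfsgLib.hasNormalPComplement_of_normalizer_le_centralizer T (Subgroup.relIndex_eq_one.1 h))
  have hdvd : (Subgroup.centralizer (TS : Set G)).relIndex (Subgroup.normalizer (TS : Set G)) ∣
      Nat.card (MulAut TS) := by
    show ((Subgroup.centralizer (TS : Set G)).subgroupOf (Subgroup.normalizer (TS : Set G))).index ∣ _
    rw [← Subgroup.normalizerMonoidHom_ker, Subgroup.index_ker]
    exact Subgroup.card_subgroup_dvd_card _
  have hab : ∀ a ∈ TS, ∀ b ∈ TS, a * b = b * a := by
    intro a ha b hb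
    have hcard : Nat.card TS = 2 ^ k := hk
    rcases (show k = 1 ∨ k = 2 by omega) with rfl | rfl
    · haveI := isCyclic_of_prime_card (α := TS) (p := 2) (by rw [hcard, pow_one])
      exact congrArg Subtype.val ((IsCyclic.commGroup (α := TS)).mul_comm ⟨a, ha⟩ ⟨b, hb⟩)
    · exact congrArg Subtype.val ((IsPGroup.commGroupOfCardEqPrimeSq hcard).mul_comm ⟨a, ha⟩ ⟨b, hb⟩)
  have hodd : ¬ 2 ∣ (Subgroup.centralizer (TS : Set G)).relIndex (Subgroup.normalizer (TS : Set G)) := by
    have hle : TS ≤ Subgroup.centralizer (TS : Set G) := fun a ha b hb => hab b hb a ha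
    have h : (Subgroup.centralizer (TS : Set G)).relIndex (Subgroup.normalizer (TS : Set G)) ∣ TS.index :=
      (Subgroup.relIndex_dvd_of_le_left _ hle).trans (Subgroup.relIndex_dvd_index_of_le Subgroup.le_normalizer)
    exact fun h' => T.not_dvd_index (h'.trans h)
  have hnc : ¬ IsCyclic TS := by
    intro hc
    have h := hdvd
    rw [IsCyclic.card_mulAut, hk] at h
    rcases (show k = 1 ∨ k = 2 by omega) with rfl | rfl
    · exact hNC (Nat.eq_one_of_dvd_one (by simpa using h))
    · rw [show Nat.totient (2 ^ 2) = 2 by decide] at h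
      rcases (Nat.dvd_prime Nat.prime_two).1 h with h' | h'
      · exact hNC h'
      · exact hodd h'.symm.dvd
  have hcard4 : Nat.card TS = 4 := by
    rcases (show k = 1 ∨ k = 2 by omega) with rfl | rfl
    · exact absurd (isCyclic_of_prime_card (α := TS) (p := 2) (by rw [hk, pow_one])) hnc
    · rw [hk]; norm_num
  have hklein : IsKleinFour TS := by
    refine ⟨hcard4, ?_⟩
    have hsq : ∀ x : TS, x ^ 2 = 1 := by
      intro x
      have hd : orderOf x ∣ 2 ^ 2 := by
        have := orderOf_dvd_natCard x
        rw [hcard4] at this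
        exact this
      obtain ⟨i, hi, hio⟩ := (Nat.dvd_prime_pow Nat.prime_two).1 hd
      interval_cases i
      · rw [pow_zero, orderOf_eq_one_iff] at hio; rw [hio, one_pow]
      · rw [pow_one] at hio; rw [← hio, pow_orderOf_eq_one]
      · exact absurd (isCyclic_of_orderOf_eq_card x (by rw [hio, hcard4]; norm_num)) hnc
    refine (Nat.prime_two.eq_one_or_self_of_dvd _ (Monoid.exponent_dvd_of_forall_pow_eq_one hsq)).resolve_left ?_
    intro h
    haveI := Monoid.exp_eq_one_iff.1 h
    have : Nat.card TS = 1 := Nat.card_unique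
    omega
  refine ⟨hklein, ?_⟩
  have h6 : Nat.card (MulAut TS) ∣ 6 := by
    let X := {x : TS // x ≠ 1}
    haveI := Fintype.ofFinite X
    let f : MulAut TS →* Equiv.Perm X :=
      { toFun := fun φ => φ.toEquiv.subtypeEquiv fun x => (φ.map_ne_one_iff).symm
        map_one' := Equiv.ext fun x => rfl
        map_mul' := fun φ ψ => Equiv.ext fun x => rfl }
    have hf : Function.Injective f := by
      intro φ ψ h
      refine MulEquiv.ext fun x => ?_
      by_cases hx : x = 1
      · rw [hx, map_one, map_one]
      · exact congrArg Subtype.val (Equiv.congr_fun h ⟨x, hx⟩)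
    have hX : Fintype.card X = 3 := by
      haveI := Fintype.ofFinite TS
      have h4 : Fintype.card TS = 4 := by rw [← Nat.card_eq_fintype_card]; exact hcard4
      rw [Fintype.card_subtype_compl, Fintype.card_subtype_eq, h4]
    refine (Subgroup.card_dvd_of_injective f hf).trans ?_
    rw [Nat.card_eq_fintype_card, Fintype.card_perm, hX]
    decide
  have hd6 := hdvd.trans h6
  have := Nat.le_of_dvd (by norm_num) hd6
  revert hNC hodd hd6
  generalize (Subgroup.centralizer (TS : Set G)).relIndex (Subgroup.normalizer (TS : Set G)) = r at this ⊢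
  intro h1 h2' h3
  change r = 3
  interval_cases r <;> omega

end Cfsg.Agent.S0992
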