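import Cfsg.Statements.S4479
import Cfsg.Agent.Lib.Blocks.KleinSylow

set_option autoImplicit false
open Cfsg

namespace Cfsg.Agent.S4479

/-- An order formula from the principal 2-block. Let G be a finite group of order 4·g₀ with g₀ odd having no normal 2-complement (no normal subgroup of order g₀); let P be a Sylow 2-subgroup, J an involution of P, and fix a maximal ideal M of the algebraic integers containing 2. Suppose the principal 2-block consists of the principal character and three further distinct characters χ₁, χ₂, χ₃ of degrees x₁, x₂, x₃, with χ_i(J) = ε_i = ±1. Then, writing c(J) and c(P) for the orders of the centralizers of J and of P, the order of G equals 8·α·c(J)³/c(P)² with α = x₁x₂x₃ / ((x₁ + ε₁)(x₂ + ε₂)(x₃ + ε₃)). -/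
theorem result {G : Type*} [Group G] [Finite G] (M : Ideal Cfsg.AlgInt) (hM : Cfsg.IsPModular 2 M) (g₀ : ℕ) (hg₀ : Odd g₀) (hG : Nat.card G = 4 * g₀) (hnc : ¬ ∃ N : Subgroup G, N.Normal ∧ Nat.card N = g₀) (P : Sylow 2 G) (J : G) (hJ : J ∈ (P : Subgroup G)) (hJ2 : orderOf J = 2) (χ₁ χ₂ χ₃ : Cfsg.IrrCharacter G) (ε₁ ε₂ ε₃ : ℤ) (hB : Cfsg.principalBlock M G = {χ : Cfsg.IrrCharacter G | (χ : G → ℂ) = (fun _ => 1) ∨ χ = χ₁ ∨ χ = χ₂ ∨ χ = χ₃}) (hdist : (χ₁ : G → ℂ) ≠ (fun _ => 1) ∧ (χ₂ : G → ℂ) ≠ (fun _ => 1) ∧ (χ₃ : G → ℂ) ≠ (fun _ => 1) ∧ χ₁ ≠ χ₂ ∧ χ₁ ≠ χ₃ ∧ χ₂ ≠ χ₃) (hε : (ε₁ = 1 ∨ ε₁ = -1) ∧ (ε₂ = 1 ∨ ε₂ = -1) ∧ (ε₃ = 1 ∨ ε₃ = -1)) (hval : (χ₁ : G → ℂ) J = ε₁ ∧ (χ₂ : G → ℂ) J = ε₂ ∧ (χ₃ : G → ℂ) J = ε₃) : (Nat.card G : ℚ) = 8 * (((Cfsg.charDegree (χ₁ : G → ℂ) : ℚ) * Cfsg.charDegree (χ₂ : G → ℂ) * Cfsg.charDegree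 (χ₃ : G → ℂ)) / ((Cfsg.charDegree (χ₁ : G → ℂ) + ε₁) * (Cfsg.charDegree (χ₂ : G → ℂ) + ε₂) * (Cfsg.charDegree (χ₃ : G → ℂ) + ε₃))) * (Nat.card (Subgroup.centralizer ({J} : Set G)) : ℚ) ^ 3 / (Nat.card (Subgroup.centralizer ((P : Subgroup G) : Set G)) : ℚ) ^ 2 := by
  classical
  haveI := Fintype.ofFinite G
  obtain ⟨hlin, ⟨d1, d2, d3⟩, ⟨n, hn, hord⟩, -, -⟩ :=
    CfsgLib.Blocks.klein_data hM hg₀ hG hnc P hJ hJ2 χ₁ χ₂ χ₃ ε₁ ε₂ ε₃ hB hdist hε hval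
  have hpos : ∀ χ : Cfsg.IrrCharacter G, 0 < Cfsg.charDegree (χ : G → ℂ) := fun χ =>
    CfsgLib.Blocks.irr_charDegree_pos χ
  have key : ∀ (x : ℕ) (e : ℤ), 0 < x → (e = 1 ∨ e = -1) → (4 : ℤ) ∣ (x : ℤ) - e →
      (x : ℚ) + (e : ℚ) ≠ 0 := by
    intro x e hx he hd h
    have h' : (x : ℤ) + e = 0 := by exact_mod_cast h
    omega
  have k1 := key _ _ (hpos χ₁) hε.1 d1
  have k2 := key _ _ (hpos χ₂) hε.2.1 d2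
  have k3 := key _ _ (hpos χ₃) hε.2.2 d3
  have hlin' : 1 + (ε₁ : ℚ) * (Cfsg.charDegree (χ₁ : G → ℂ) : ℚ) +
      (ε₂ : ℚ) * (Cfsg.charDegree (χ₂ : G → ℂ) : ℚ) +
      (ε₃ : ℚ) * (Cfsg.charDegree (χ₃ : G → ℂ) : ℚ) = 0 := by exact_mod_cast hlin
  have hc : (Nat.card (Subgroup.centralizer ({J} : Set G)) : ℚ) =
      (n : ℚ) * (Nat.card (Subgroup.centralizer ((P : Subgroup G) : Set G)) : ℚ) := by
    exact_mod_cast hn.symm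
  have hcP : (Nat.card (Subgroup.centralizer ((P : Subgroup G) : Set G)) : ℚ) ≠ 0 :=
    Nat.cast_ne_zero.2 Nat.card_pos.ne'
  set x₁ := (Cfsg.charDegree (χ₁ : G → ℂ) : ℚ) with hx₁
  set x₂ := (Cfsg.charDegree (χ₂ : G → ℂ) : ℚ) with hx₂
  set x₃ := (Cfsg.charDegree (χ₃ : G → ℂ) : ℚ) with hx₃
  have p1 : x₁ ≠ 0 := Nat.cast_ne_zero.2 (hpos χ₁).ne'
  have p2 : x₂ ≠ 0 := Nat.cast_ne_zero.2 (hpos χ₂).ne'
  have p3 : x₃ ≠ 0 := Nat.cast_ne_zero.2 (hpos χ₃).ne'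
  have hsq : ∀ e : ℤ, e = 1 ∨ e = -1 → (e : ℚ) ^ 2 = 1 := by rintro e (rfl | rfl) <;> norm_num
  rw [hc] at hord ⊢
  field_simp at hord ⊢
  linear_combination ((ε₁ : ℚ) * ε₂ * ε₃ * Nat.card G) * hlin' + hord -
    ((ε₂ : ℚ) * ε₃ * Nat.card G * x₁) * hsq ε₁ hε.1 -
    ((ε₁ : ℚ) * ε₃ * Nat.card G * x₂) * hsq ε₂ hε.2.1 -
    ((ε₁ : ℚ) * ε₂ * Nat.card G * x₃) * hsq ε₃ hε.2.2

end Cfsg.Agent.S4479
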