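import Cfsg.Statements.S0549
import Mathlib
-- import your own Cfsg.Agent.* helpers here

set_option autoImplicit false
open Cfsg
open scoped commutatorElement Pointwise

namespace Cfsg.Agent.S0549

/-- Let U be a maximal subgroup of a finite group G whose normal core is trivial, and N a nontrivial normal subgroup with centralizer C. Then C ∩ U = 1, and either C = 1 or C is a minimal normal subgroup of G. -/
theorem result {G : Type*} [Group G] [Finite G] (U : Subgroup G) (hU : IsCoatom U) (hcore : U.normalCore = ⊥) (N : Subgroup G) [N.Normal] (hN : N ≠ ⊥) : Subgroup.centralizer (N : Set G) ⊓ U = ⊥ ∧ (Subgroup.centralizer (N : Set G) = ⊥ ∨ (Subgroup.centralizer (N : Set G) ≠ ⊥ ∧ ∀ K : Subgroup G, K.Normal → K ≤ Subgroup.centralizer (N : Set G) → K = ⊥ ∨ K = Subgroup.centralizer (N : Set G))) := by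
  set C := Subgroup.centralizer (N : Set G) with hC
  have hCn : C.Normal := inferInstance
  have hNU : ¬ N ≤ U := fun h => hN (le_bot_iff.mp (hcore ▸ Subgroup.normal_le_normalCore.mpr h))
  have hUN : U ⊔ N = ⊤ := hU.2 _ (lt_of_le_of_ne le_sup_left fun e => hNU (e ▸ le_sup_right))
  have hzero : C ⊓ U = ⊥ := by
    have hnorm : (C ⊓ U).Normal := by
      rw [← Subgroup.normalizer_eq_top_iff, ← top_le_iff, ← hUN]
      refine sup_le (Subgroup.le_normalizer_iff.mpr fun u hu x hx =>
        ⟨hCn.conj_mem x hx.1 u, U.mul_mem (U.mul_mem hu hx.2) (U.inv_mem hu)⟩) ?_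
      refine Subgroup.le_normalizer_iff.mpr fun n hn x hx => ?_
      have : n * x * n⁻¹ = x := by
        rw [show n * x = x * n from (Subgroup.mem_centralizer_iff.mp hx.1 n hn)]
        group
      rwa [this]
    exact le_bot_iff.mp (hcore ▸ (Subgroup.normal_le_normalCore (H := U)).mpr inf_le_right)
  refine ⟨hzero, ?_⟩
  by_cases h0 : C = ⊥
  · exact Or.inl h0
  refine Or.inr ⟨h0, fun K hK hKC => ?_⟩
  by_cases hK0 : K = ⊥
  · exact Or.inl hK0
  refine Or.inr (le_antisymm hKC fun c hc => ?_)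
  have hKU : ¬ K ≤ U := fun h => hK0 (le_bot_iff.mp (hzero ▸ le_inf hKC h))
  have htop : U ⊔ K = ⊤ := hU.2 _ (lt_of_le_of_ne le_sup_left fun e => hKU (e ▸ le_sup_right))
  have hcm : c ∈ (U : Set G) * (K : Set G) := by
    rw [← Subgroup.mul_normal, htop]; exact Set.mem_univ c
  obtain ⟨u, hu, k, hk, rfl⟩ := hcm
  have : u ∈ C ⊓ U := ⟨by simpa using mul_mem hc (inv_mem (hKC hk)), hu⟩
  rw [hzero, Subgroup.mem_bot] at this
  show u * k ∈ K
  rw [this, one_mul]; exact hk

end Cfsg.Agent.S0549
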