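import Cfsg.Statements.S3277
import Mathlib
import Cfsg.Agent.Lib.Basic
import Cfsg.Agent.Lib.Elementary
import Cfsg.Agent.Lib.Solvable.CoreFree
import Cfsg.Agent.Lib.PSolvable
import Cfsg.Agent.Lib.CharTheory.Burnside
import Cfsg.Agent.S3278

set_option autoImplicit false
open Cfsg

namespace Cfsg.Agent.S3277

open Cfsg

variable {X : Type*} [Group X] [Finite X]

/-- A perfect centreless group has no automorphism of order two with at most two fixed points. -/
theorem no_perfect {T : Subgroup X} {x : X} (hx : x * x = 1) (hnorm : ∀ t ∈ T, x * t * x⁻¹ ∈ T)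
    (hC : Nat.card ↥(T ⊓ Subgroup.centralizer {x}) ≤ 2) (hperf : ⁅T, T⁆ = T) (hZ : Subgroup.center T = ⊥) (hT : T ≠ ⊥) :
    False := by
  classical
  have := Fintype.ofFinite T
  haveI : Nontrivial T := (Subgroup.nontrivial_iff_ne_bot T).mpr hT
  have hns : ¬ Group.IsSolvable T := by
    intro h
    exact hT ((Subgroup.eq_bot_iff_forall _).mpr fun g hg => by
      have h1 : commutator T < ⊤ := Group.IsSolvable.commutator_lt_top_of_nontrivial T
      refine absurd (Subgroup.map_injective T.subtype_injective ?_) h1.ne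
      rw [Subgroup.map_subtype_commutator, hperf, ← MonoidHom.range_eq_map, Subgroup.range_subtype])
  -- no subgroups of index at most four
  have hidx : ∀ H : Subgroup T, H ≠ ⊤ → 5 ≤ H.index := by
    intro H hH
    by_contra hlt
    let f := MulAction.toPermHom T (T ⧸ H)
    haveI : Group.IsSolvable f.range := by
      have hd : Nat.card f.range ∣ 24 := by
        refine (Subgroup.card_subgroup_dvd_card _).trans ?_
        rw [Nat.card_perm, ← Subgroup.index_eq_card]
        exact (show Nat.factorial 4 = 24 from rfl) ▸ Nat.factorial_dvd_factorial (by omega)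
      have h24 : Nat.card f.range ∣ 2 ^ 3 * 3 ^ 1 := (show (2 : ℕ) ^ 3 * 3 ^ 1 = 24 by rfl).symm ▸ hd
      obtain ⟨a, b, ha, hb, hab⟩ := (Nat.dvd_mul).mp h24
      obtain ⟨i, -, rfl⟩ := (Nat.dvd_prime_pow Nat.prime_two).mp ha
      obtain ⟨j, -, rfl⟩ := (Nat.dvd_prime_pow Nat.prime_three).mp hb
      exact CfsgLib.CharTheory.isSolvable_of_card_two_primes Nat.prime_two Nat.prime_three hab.symm
    have htr : commutator T ≤ f.ker := by
      by_contra hk
      have hnt : Nontrivial f.range := by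
        rw [Subgroup.nontrivial_iff_ne_bot, Ne, MonoidHom.range_eq_bot_iff]
        intro e; exact hk (by rw [e, MonoidHom.ker_one]; exact le_top)
      have h1 : commutator f.range < ⊤ := Group.IsSolvable.commutator_lt_top_of_nontrivial _
      refine absurd ?_ h1.ne
      have h2 : commutator T = ⊤ := Subgroup.map_injective T.subtype_injective (by
        rw [Subgroup.map_subtype_commutator, hperf, ← MonoidHom.range_eq_map, Subgroup.range_subtype])
      rw [← Subgroup.map_top_of_surjective _ f.rangeRestrict_surjective, ← h2, commutator_def, commutator_def,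
        Subgroup.map_commutator, Subgroup.map_top_of_surjective _ f.rangeRestrict_surjective]
    refine hH (eq_top_iff.mpr ?_)
    rw [show (⊤ : Subgroup T) = commutator T from (Subgroup.map_injective T.subtype_injective (by
      rw [Subgroup.map_subtype_commutator, hperf, ← MonoidHom.range_eq_map, Subgroup.range_subtype])).symm]
    refine htr.trans ?_
    rw [← Subgroup.normalCore_eq_ker]
    exact Subgroup.normalCore_le H
  -- counting
  obtain ⟨c, hc⟩ : ∃ c, c = Nat.card ↥(T ⊓ Subgroup.centralizer {x}) := ⟨_, rfl⟩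
  have hval : ∀ a b : T, (a : X) * x * (a : X)⁻¹ * ((b : X) * x * (b : X)⁻¹) ∈ T := fun a b => by
    rw [show (a : X) * x * (a : X)⁻¹ * ((b : X) * x * (b : X)⁻¹) = a * (x * ((a : X)⁻¹ * b) * x⁻¹) * (x * x) * (b : X)⁻¹ by group, hx, mul_one]
    exact mul_mem (mul_mem a.2 (hnorm _ (mul_mem (inv_mem a.2) b.2))) (inv_mem b.2)
  let Φ : T × T → T := fun ab => ⟨_, hval ab.1 ab.2⟩
  let conjs : T → X := fun a => (a : X) * x * (a : X)⁻¹
  have hfib : ∀ y : X, (Finset.univ.filter fun a : T => conjs a = y).card ≤ c := by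
    intro y
    rcases Finset.eq_empty_or_nonempty (Finset.univ.filter fun a : T => conjs a = y) with h | ⟨a₀, ha₀⟩
    · rw [h]; simp
    simp only [Finset.mem_filter, Finset.mem_univ, true_and] at ha₀
    have := Fintype.ofFinite ↥(T ⊓ Subgroup.centralizer {x})
    rw [hc, Nat.card_eq_fintype_card, ← Finset.card_univ]
    have hmem : ∀ a ∈ Finset.univ.filter (fun a : T => conjs a = y), (((a₀⁻¹ * a : T) : X)) ∈ T ⊓ Subgroup.centralizer {x} := by
      intro a ha
      simp only [Finset.mem_filter, Finset.mem_univ, true_and] at ha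
      refine ⟨(a₀⁻¹ * a).2, Subgroup.mem_centralizer_singleton_iff.mpr ?_⟩
      have e : (a : X) * x * (a : X)⁻¹ = (a₀ : X) * x * (a₀ : X)⁻¹ := ha.trans ha₀.symm
      rw [Subgroup.coe_mul, Subgroup.coe_inv, show (a₀ : X)⁻¹ * a * x = (a₀ : X)⁻¹ * ((a : X) * x * (a : X)⁻¹) * a by group, e]
      group
    refine Finset.card_le_card_of_injOn (fun a => if h : conjs a = y then ⟨_, hmem a (by simp [h])⟩ else 1) (fun a _ => Finset.mem_univ _) ?_
    intro a ha b hb hab
    simp only [Finset.mem_coe, Finset.mem_filter, Finset.mem_univ, true_and] at ha hb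
    simp only [ha, hb, dite_true] at hab
    exact mul_left_cancel (Subtype.ext (congrArg (fun z : ↥(T ⊓ Subgroup.centralizer {x}) => (z : X)) hab) : a₀⁻¹ * a = a₀⁻¹ * b)
  have hcount : ∀ g : T, (Finset.univ.filter fun ab => Φ ab = g).card ≤ c * c * Nat.card (Subgroup.centralizer ({g} : Set T)) := by
    intro g
    -- the possible first conjugates
    obtain ⟨Y, hY⟩ : ∃ Y : Finset X, Y = (Finset.univ.filter fun ab => Φ ab = g).image fun ab => conjs ab.1 := ⟨_, rfl⟩
    have hinv : ∀ y ∈ Y, y * y = 1 ∧ y * (g : X) * y = (g : X)⁻¹ ∧ ∃ a : T, y = conjs a := by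
      intro y hy
      rw [hY, Finset.mem_image] at hy
      obtain ⟨⟨a, b⟩, hab, rfl⟩ := hy
      simp only [Finset.mem_filter, Finset.mem_univ, true_and] at hab
      have e : (g : X) = (a : X) * x * (a : X)⁻¹ * ((b : X) * x * (b : X)⁻¹) := (congrArg Subtype.val hab).symm
      have sq : ∀ u : X, u * x * u⁻¹ * (u * x * u⁻¹) = 1 := fun u => by
        rw [show u * x * u⁻¹ * (u * x * u⁻¹) = u * (x * x) * u⁻¹ by group, hx]; group
      refine ⟨sq a, ?_, a, rfl⟩
      rw [e, eq_inv_iff_mul_eq_one]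
      calc conjs a * ((a : X) * x * (a : X)⁻¹ * ((b : X) * x * (b : X)⁻¹)) * conjs a * ((a : X) * x * (a : X)⁻¹ * ((b : X) * x * (b : X)⁻¹))
          = (conjs a * conjs a) * (conjs b * (conjs a * conjs a) * conjs b) := by simp only [conjs]; group
        _ = 1 := by rw [sq a, mul_one, sq b, mul_one]
    have hYc : Y.card ≤ Nat.card (Subgroup.centralizer ({g} : Set T)) := by
      rcases Y.eq_empty_or_nonempty with h | ⟨y₀, hy₀⟩
      · rw [h]; simp
      rw [Nat.card_eq_fintype_card, ← Finset.card_univ]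
      have hmem : ∀ y ∈ Y, ∃ u : Subgroup.centralizer ({g} : Set T), ((u : T) : X) = y₀ * y := by
        intro y hy
        obtain ⟨h1, h2, a, rfl⟩ := hinv y hy
        obtain ⟨h10, h20, a0, rfl⟩ := hinv y₀ hy₀
        refine ⟨⟨⟨_, hval a0 a⟩, Subgroup.mem_centralizer_singleton_iff.mpr (Subtype.ext ?_)⟩, rfl⟩
        show conjs a0 * conjs a * (g : X) = (g : X) * (conjs a0 * conjs a)
        calc conjs a0 * conjs a * (g : X) = conjs a0 * (conjs a * g * conjs a) * (conjs a)⁻¹ := by group
          _ = conjs a0 * (conjs a0 * g * conjs a0) * (conjs a)⁻¹ := by rw [h2, h20]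
          _ = (conjs a0 * conjs a0) * g * conjs a0 * (conjs a)⁻¹ := by group
          _ = (g : X) * (conjs a0 * conjs a) := by rw [h10, one_mul, inv_eq_of_mul_eq_one_right h1, mul_assoc]
      choose u hu using hmem
      refine Finset.card_le_card_of_injOn (fun y => if h : y ∈ Y then u y h else 1) (fun y _ => Finset.mem_univ _) ?_
      intro y hy y' hy' e
      simp only [Finset.mem_coe] at hy hy'
      simp only [hy, hy', dite_true] at e
      have := congrArg (fun w : Subgroup.centralizer ({g} : Set T) => ((w : T) : X)) e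
      simp only [hu] at this
      exact mul_left_cancel this
    refine (Finset.card_le_mul_card_image (f := fun ab => conjs ab.1) _ (c * c) ?_).trans ?_
    · intro y _
      refine (Finset.card_le_card (t := (Finset.univ.filter fun a : T => conjs a = y) ×ˢ
        (Finset.univ.filter fun b : T => conjs b = y⁻¹ * g)) ?_).trans ?_
      · intro ab hab
        simp only [Finset.mem_filter, Finset.mem_univ, true_and] at hab
        simp only [Finset.mem_product, Finset.mem_filter, Finset.mem_univ, true_and]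
        refine ⟨hab.2, ?_⟩
        rw [← hab.2, ← congrArg Subtype.val hab.1]
        exact (inv_mul_cancel_left _ _).symm
      · rw [Finset.card_product]
        exact Nat.mul_le_mul (hfib _) (hfib _)
    · rw [← hY]
      exact Nat.mul_le_mul_left _ hYc
  have hbig : ∀ g : T, g ≠ 1 → 5 * Nat.card (Subgroup.centralizer ({g} : Set T)) ≤ Nat.card T := by
    intro g hg
    rw [← (Subgroup.centralizer ({g} : Set T)).card_mul_index, mul_comm 5]
    refine Nat.mul_le_mul_left _ (hidx _ fun e => hg ?_)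
    rw [← Subgroup.mem_bot, ← hZ, Subgroup.mem_center_iff]
    exact fun h => Subgroup.mem_centralizer_singleton_iff.mp (e ▸ Subgroup.mem_top h)
  have htot : Nat.card T * Nat.card T ≤ ∑ g : T, c * c * Nat.card (Subgroup.centralizer ({g} : Set T)) := by
    rw [← Nat.card_prod, Nat.card_eq_fintype_card, ← Finset.card_univ,
      Finset.card_eq_sum_card_fiberwise (f := Φ) (t := Finset.univ) (fun _ _ => Finset.mem_univ _)]
    exact Finset.sum_le_sum fun g _ => hcount g
  have hsum : 5 * ∑ g : T, Nat.card (Subgroup.centralizer ({g} : Set T)) ≤ 5 * Nat.card T + Nat.card T * Nat.card T := by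
    rw [Finset.mul_sum, ← Finset.add_sum_erase _ _ (Finset.mem_univ (1 : T))]
    refine Nat.add_le_add ?_ ((Finset.sum_le_sum (g := fun _ => Nat.card T) fun g hg => hbig g (Finset.ne_of_mem_erase hg)).trans ?_)
    · exact Nat.mul_le_mul_left 5 (Nat.le_of_dvd Nat.card_pos (Subgroup.card_subgroup_dvd_card _))
    · rw [Finset.sum_const, smul_eq_mul]
      refine Nat.mul_le_mul_right _ ?_
      rw [Nat.card_eq_fintype_card, ← Finset.card_univ]
      exact Finset.card_le_card (Finset.erase_subset _ _)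
  have hc4 : c * c ≤ 4 := by
    have : c ≤ 2 := hc ▸ hC
    nlinarith
  have hn : Nat.card T ≤ 20 := by
    rw [← Finset.mul_sum] at htot
    have h1 := htot.trans (Nat.mul_le_mul_right _ hc4)
    by_contra h
    nlinarith
  apply hns
  have hcard := (Nat.card T).factorization
  obtain ⟨p, q, a, b, hp, hq, hpq⟩ : ∃ p q a b, p.Prime ∧ q.Prime ∧ Nat.card T = p ^ a * q ^ b := by
    have hpos : 0 < Nat.card T := Nat.card_pos
    generalize Nat.card T = n at hn hpos
    interval_cases n
    · exact ⟨2, 3, 0, 0, by norm_num⟩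
    · exact ⟨2, 3, 1, 0, by norm_num⟩
    · exact ⟨2, 3, 0, 1, by norm_num⟩
    · exact ⟨2, 3, 2, 0, by norm_num⟩
    · exact ⟨5, 3, 1, 0, by norm_num⟩
    · exact ⟨2, 3, 1, 1, by norm_num⟩
    · exact ⟨7, 3, 1, 0, by norm_num⟩
    · exact ⟨2, 3, 3, 0, by norm_num⟩
    · exact ⟨2, 3, 0, 2, by norm_num⟩
    · exact ⟨2, 5, 1, 1, by norm_num⟩
    · exact ⟨11, 3, 1, 0, by norm_num⟩
    · exact ⟨2, 3, 2, 1, by norm_num⟩
    · exact ⟨13, 3, 1, 0, by norm_num⟩
    · exact ⟨2, 7, 1, 1, by norm_num⟩
    · exact ⟨5, 3, 1, 1, by norm_num⟩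
    · exact ⟨2, 3, 4, 0, by norm_num⟩
    · exact ⟨17, 3, 1, 0, by norm_num⟩
    · exact ⟨2, 3, 1, 2, by norm_num⟩
    · exact ⟨19, 3, 1, 0, by norm_num⟩
    · exact ⟨2, 5, 2, 1, by norm_num⟩
  exact CfsgLib.CharTheory.isSolvable_of_card_two_primes hp hq hpq

/-- A nontrivial abelian normal subgroup gives a nontrivial core for some prime. -/
theorem exists_pCore {Y : Type*} [Group Y] [Finite Y] {A : Subgroup Y} [A.Normal] (hA : A ≠ ⊥) (hc : IsMulCommutative A) :
    ∃ p : ℕ, p.Prime ∧ pCore p Y ≠ ⊥ := by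
  by_contra h
  push Not at h
  letI : CommGroup A := { (inferInstance : Group A) with mul_comm := fun a b => hc.is_comm.comm a b }
  have h1 := (CfsgLib.le_fittingSubgroup (N := A) inferInstance).trans CfsgLib.fittingSubgroup_le_iSup_pCore
  exact hA (le_bot_iff.mp (h1.trans (iSup_le fun q => (h q.1 q.2).le)))

/-- An involution has an even number of fixed points on an invariant set of even size. -/
theorem exists_fixed {K : Subgroup X} {x : X} (hx : orderOf x = 2) (hK : ∀ k ∈ K, x * k * x⁻¹ ∈ K) (h2 : 2 ∣ Nat.card K) :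
    ∃ k ∈ K, k ≠ 1 ∧ k * x = x * k := by
  haveI := Fact.mk Nat.prime_two
  let f : Subgroup.zpowers x →* MulAut X := MulAut.conj.comp (Subgroup.zpowers x).subtype
  have hKx : ∀ a ∈ Subgroup.zpowers x, ∀ k ∈ K, a * k * a⁻¹ ∈ K := by
    intro a ha k hk
    obtain ⟨i, rfl⟩ := mem_powers_iff_mem_zpowers.mpr ha
    induction i with
    | zero => simpa using hk
    | succ i ih =>
      show x ^ (i + 1) * k * (x ^ (i + 1))⁻¹ ∈ K
      rw [show x ^ (i + 1) * k * (x ^ (i + 1))⁻¹ = x * (x ^ i * k * (x ^ i)⁻¹) * x⁻¹ by rw [pow_succ']; group]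
      exact hK _ (ih (Subgroup.npow_mem_zpowers x i))
  letI : MulAction (Subgroup.zpowers x) K :=
    { smul := fun a k => ⟨(a : X) * k * (a : X)⁻¹, hKx a a.2 k k.2⟩
      one_smul := fun k => Subtype.ext (show ((1 : Subgroup.zpowers x) : X) * k * ((1 : Subgroup.zpowers x) : X)⁻¹ = k by simp)
      mul_smul := fun a b k => Subtype.ext (show ((a * b : Subgroup.zpowers x) : X) * k * ((a * b : Subgroup.zpowers x) : X)⁻¹ =
        (a : X) * ((b : X) * k * (b : X)⁻¹) * (a : X)⁻¹ by rw [Subgroup.coe_mul]; group) }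
  have hP : IsPGroup 2 (Subgroup.zpowers x) := IsPGroup.of_card (n := 1) (by rw [Nat.card_zpowers, hx, pow_one])
  obtain ⟨k, hk, hk1⟩ := hP.exists_fixed_point_of_prime_dvd_card_of_fixed_point K h2
    (a := (1 : K)) (fun a => Subtype.ext (show (a : X) * ((1 : K) : X) * (a : X)⁻¹ = ((1 : K) : X) by simp))
  exact ⟨k, k.2, fun e => hk1 (Subtype.ext e.symm),
    (mul_inv_eq_iff_eq_mul.mp (congrArg Subtype.val (hk ⟨x, Subgroup.mem_zpowers x⟩))).symm⟩

/-- An odd-order subgroup on which the involution has no fixed point is inverted. -/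
theorem odd_inverted {K : Subgroup X} {x : X} (hx : x * x = 1) (hK : ∀ k ∈ K, x * k * x⁻¹ ∈ K)
    (hfix : ∀ k ∈ K, k * x = x * k → k = 1) : ∀ k ∈ K, x * k * x⁻¹ = k⁻¹ := by
  have hxi : x⁻¹ = x := inv_eq_of_mul_eq_one_right hx
  let f : K → K := fun k => ⟨(k : X)⁻¹ * (x * k * x⁻¹), mul_mem (inv_mem k.2) (hK k k.2)⟩
  have hf : Function.Bijective f := by
    refine Finite.injective_iff_bijective.mp fun a b e => ?_
    have e' : (a : X)⁻¹ * (x * a * x⁻¹) = (b : X)⁻¹ * (x * b * x⁻¹) := congrArg Subtype.val e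
    refine Subtype.ext (mul_inv_eq_one.mp (hfix _ (mul_mem a.2 (inv_mem b.2)) ?_))
    calc (a : X) * (b : X)⁻¹ * x = (a : X) * ((b : X)⁻¹ * (x * b * x⁻¹)) * (x * (b : X)⁻¹) := by group
      _ = (a : X) * ((a : X)⁻¹ * (x * a * x⁻¹)) * (x * (b : X)⁻¹) := by rw [e']
      _ = x * ((a : X) * (b : X)⁻¹) := by group
  intro k hk
  obtain ⟨m, hm⟩ := hf.2 ⟨k, hk⟩
  have hm' : (m : X)⁻¹ * (x * m * x⁻¹) = k := congrArg Subtype.val hm
  rw [← hm']
  calc x * ((m : X)⁻¹ * (x * m * x⁻¹)) * x⁻¹ = (x * (m : X)⁻¹ * x⁻¹) * (x * x) * m * (x⁻¹ * x⁻¹) := by group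
    _ = ((m : X)⁻¹ * (x * m * x⁻¹))⁻¹ := by rw [hxi, hx, mul_one, mul_one, mul_inv_rev, mul_inv_rev, mul_inv_rev, hxi, inv_inv]; group

/-- The case of trivial odd core. -/
theorem core_free (x : X) (hx : orderOf x = 2) (hC4 : Nat.card ↥(Subgroup.centralizer ({x} : Set X)) = 4)
    (hCe : ∀ c ∈ Subgroup.centralizer ({x} : Set X), c ^ 2 = 1) (hO : oddCore X = ⊥) :
    Nonempty (X ≃* alternatingGroup (Fin 5)) ∨
      ∃ E : Subgroup X, E.Normal ∧ IsElementaryAbelian 2 E ∧ (Nat.card E = 2 ∨ Nat.card E = 4) := by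
  classical
  haveI := Fact.mk Nat.prime_two
  have hxx : x * x = 1 := by rw [← pow_two, ← hx]; exact pow_orderOf_eq_one x
  have hxC : x ∈ Subgroup.centralizer ({x} : Set X) := Subgroup.mem_centralizer_singleton_iff.mpr rfl
  have hx1 : x ≠ 1 := fun e => by rw [e, orderOf_one] at hx; norm_num at hx
  haveI : Nontrivial X := ⟨⟨x, 1, hx1⟩⟩
  obtain ⟨M, hMn, -, hM0, hmin⟩ := CfsgLib.exists_minimal_normal (N := (⊤ : Subgroup X)) top_ne_bot
  haveI := hMn
  -- small intersections with the centralizer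
  have hcap : ∀ W : Subgroup X, x ∉ W → Nat.card ↥(W ⊓ Subgroup.centralizer {x}) ≤ 2 := by
    intro W hW
    have hd := Subgroup.card_dvd_of_le (inf_le_right : W ⊓ Subgroup.centralizer {x} ≤ _)
    rw [hC4] at hd
    rcases (Nat.dvd_prime_pow Nat.prime_two).mp (show _ ∣ 2 ^ 2 from hd) with ⟨i, hi, e⟩
    rw [e]
    by_contra hlt
    obtain rfl : i = 2 := by
      by_contra h
      exact hlt (Nat.pow_le_pow_right two_pos (show i ≤ 1 by omega))
    have := Subgroup.eq_of_le_of_card_ge (inf_le_right : W ⊓ Subgroup.centralizer {x} ≤ _) (by rw [hC4, e]; norm_num)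
    exact hW ((this.symm ▸ hxC : x ∈ W ⊓ Subgroup.centralizer {x})).1
  have hCc : IsMulCommutative (Subgroup.centralizer ({x} : Set X)) :=
    ⟨⟨fun a b => Subtype.ext ((Commute.of_orderOf_dvd_two (fun c : Subgroup.centralizer ({x} : Set X) => by
      refine orderOf_dvd_of_pow_eq_one (Subtype.ext ?_)
      exact hCe c c.2) a b).eq ▸ rfl)⟩⟩
  by_cases hMp : ⁅M, M⁆ = M
  swap
  · -- abelian: elementary of order 2 or 4
    right
    have hbot : ⁅M, M⁆ = ⊥ := (hmin _ inferInstance (Subgroup.commutator_le_self M)).resolve_right hMp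
    have hMc : IsMulCommutative M := ⟨⟨fun a b => Subtype.ext ((Subgroup.commutator_eq_bot_iff_le_centralizer.mp hbot a.2) b b.2).symm⟩⟩
    letI : CommGroup M := { (inferInstance : Group M) with mul_comm := fun a b => hMc.is_comm.comm a b }
    haveI : Group.IsSolvable M := inferInstance
    obtain ⟨-, r, hr, hpow⟩ := CfsgLib.minimal_normal_elementary hM0 inferInstance hmin
    obtain rfl : r = 2 := by
      by_contra hr2
      haveI := Fact.mk hr
      have hMp' : IsPGroup r M := fun m => ⟨1, by rw [pow_one]; exact Subtype.ext (hpow m m.2)⟩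
      obtain ⟨k, hk⟩ := hMp'.exists_card_eq
      exact hM0 (le_bot_iff.mp (hO ▸ CfsgLib.le_oddCore (by rw [hk]; exact (hr.odd_of_ne_two hr2).pow)))
    have hle4 : Nat.card M ≤ 4 := by
      by_cases hxM : x ∈ M
      · have : M ≤ Subgroup.centralizer {x} := fun m hm => Subgroup.mem_centralizer_singleton_iff.mpr
          (congrArg Subtype.val (hMc.is_comm.comm ⟨m, hm⟩ ⟨x, hxM⟩))
        rw [← hC4]
        exact Nat.le_of_dvd Nat.card_pos (Subgroup.card_dvd_of_le this)
      · let f : M →* M :=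
          { toFun := fun m => m * ⟨x * m * x⁻¹, hMn.conj_mem m m.2 x⟩
            map_one' := Subtype.ext (by simp)
            map_mul' := fun a b => by
              rw [mul_mul_mul_comm]; congr 1; exact Subtype.ext (by simp [mul_assoc]) }
        have hinvM : ∀ m : M, (m : X)⁻¹ = m := fun m =>
          inv_eq_of_mul_eq_one_right (by rw [← pow_two]; exact hpow m m.2)
        have hker : Nat.card f.ker ≤ 2 := by
          refine le_trans ?_ (hcap M hxM)
          refine Nat.card_le_card_of_injective (fun m => ⟨((m : M) : X), (m : M).2, Subgroup.mem_centralizer_singleton_iff.mpr ?_⟩)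
            fun a b e => Subtype.ext (Subtype.ext (congrArg (fun z : ↥(M ⊓ Subgroup.centralizer {x}) => (z : X)) e))
          have h1 : ((m : M) : X) * (x * ((m : M) : X) * x⁻¹) = 1 := congrArg Subtype.val m.2
          have h2 := (inv_eq_of_mul_eq_one_right h1).symm
          rw [hinvM, mul_inv_eq_iff_eq_mul] at h2
          exact h2.symm
        have hrange : Nat.card f.range ≤ 2 := by
          refine le_trans ?_ (hcap M hxM)
          refine Nat.card_le_card_of_injective (fun m => ⟨((m : M) : X), (m : M).2, Subgroup.mem_centralizer_singleton_iff.mpr ?_⟩)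
            fun a b e => Subtype.ext (Subtype.ext (congrArg (fun z : ↥(M ⊓ Subgroup.centralizer {x}) => (z : X)) e))
          obtain ⟨_, u, rfl⟩ := m
          show (u : X) * (x * u * x⁻¹) * x = x * ((u : X) * (x * u * x⁻¹))
          have hc' : (u : X) * (x * u * x⁻¹) = (x * u * x⁻¹) * u :=
            congrArg Subtype.val (hMc.is_comm.comm u ⟨_, hMn.conj_mem u u.2 x⟩)
          calc (u : X) * (x * u * x⁻¹) * x = (x * u * x⁻¹) * u * x := by rw [hc']
            _ = x * ((u : X) * (x * u * x⁻¹)) := by rw [inv_eq_of_mul_eq_one_right hxx]; group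
        have := f.ker.card_mul_index
        rw [Subgroup.index_ker] at this
        rw [← this]
        exact le_trans (Nat.mul_le_mul hker hrange) le_rfl
    refine ⟨M, hMn, ⟨hMc, hpow⟩, ?_⟩
    have hMp' : IsPGroup 2 M := fun m => ⟨1, by rw [pow_one]; exact Subtype.ext (hpow m m.2)⟩
    obtain ⟨k, hk⟩ := hMp'.exists_card_eq
    rw [hk] at hle4 ⊢
    have hk2 : k ≤ 2 := (Nat.pow_le_pow_iff_right one_lt_two).mp (show 2 ^ k ≤ 2 ^ 2 from hle4)
    interval_cases k
    · exact absurd (Subgroup.card_eq_one.mp (by simpa using hk)) hM0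
    · exact Or.inl rfl
    · exact Or.inr rfl
  -- the perfect case
  left
  have hcomm : commutator M = ⊤ := Subgroup.map_injective M.subtype_injective (by
    rw [Subgroup.map_subtype_commutator, hMp, ← MonoidHom.range_eq_map, Subgroup.range_subtype])
  have hcharM : ∀ C : Subgroup M, C.Characteristic → C = ⊥ ∨ C = ⊤ := by
    intro C hC
    rcases hmin (C.map M.subtype) inferInstance (Subgroup.map_subtype_le C) with h | h
    · exact Or.inl ((Subgroup.map_eq_bot_iff_of_injective C M.subtype_injective).mp h)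
    · exact Or.inr (Subgroup.map_injective M.subtype_injective (by rw [h, ← MonoidHom.range_eq_map, Subgroup.range_subtype]))
  haveI : Nontrivial M := (Subgroup.nontrivial_iff_ne_bot M).mpr hM0
  have hnoab : ∀ A : Subgroup M, A.Normal → IsMulCommutative A → A = ⊥ := by
    intro A hA hAc
    by_contra hA0
    haveI := hA
    obtain ⟨p, hp, hpc⟩ := exists_pCore hA0 hAc
    haveI := Fact.mk hp
    have h1 := CfsgLib.isPGroup_pCore (G := M) p
    rw [(hcharM _ inferInstance).resolve_left hpc] at h1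
    have hMp' : IsPGroup p M := h1.of_equiv Subgroup.topEquiv
    haveI := hMp'.isNilpotent
    exact (Group.IsSolvable.commutator_lt_top_of_nontrivial M).ne hcomm
  have hZM : Subgroup.center M = ⊥ := hnoab _ inferInstance ⟨⟨fun a b => Subtype.ext (Subgroup.mem_center_iff.mp b.2 a)⟩⟩
  have hxM : x ∈ M := by
    by_contra hxM
    exact no_perfect hxx (fun t ht => hMn.conj_mem t ht x) (hcap M hxM) hMp hZM hM0
  -- `M` is simple
  have hCM : ∀ W : Subgroup M, (⟨x, hxM⟩ : M) ∉ W → Nat.card ↥(W ⊓ Subgroup.centralizer {(⟨x, hxM⟩ : M)}) ≤ 2 := by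
    intro W hW
    refine le_trans (Nat.card_le_card_of_injective (fun w => (⟨((w : M) : X), Subgroup.mem_map_of_mem M.subtype w.2.1,
      Subgroup.mem_centralizer_singleton_iff.mpr (congrArg Subtype.val (Subgroup.mem_centralizer_singleton_iff.mp w.2.2))⟩ :
        ↥(W.map M.subtype ⊓ Subgroup.centralizer {x}))) fun a b e => Subtype.ext (Subtype.ext (congrArg (fun z : ↥(W.map M.subtype ⊓ Subgroup.centralizer {x}) => (z : X)) e))) (hcap _ ?_)
    rintro ⟨w, hw, hwx⟩
    exact hW (by rwa [← show w = ⟨x, hxM⟩ from Subtype.ext hwx])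
  obtain ⟨T, hTn, -, hT0, hTmin⟩ := CfsgLib.exists_minimal_normal (N := (⊤ : Subgroup M)) top_ne_bot
  haveI := hTn
  have hTperf : ⁅T, T⁆ = T := (hTmin _ inferInstance (Subgroup.commutator_le_self T)).resolve_left fun h => hT0 (hnoab T hTn
    ⟨⟨fun a b => Subtype.ext ((Subgroup.commutator_eq_bot_iff_le_centralizer.mp h a.2) b b.2).symm⟩⟩)
  have hZT : Subgroup.center T = ⊥ := (Subgroup.map_eq_bot_iff_of_injective _ T.subtype_injective).mp
    (hnoab _ inferInstance ⟨⟨fun ⟨_, a, ha, e1⟩ ⟨_, b, hb, e2⟩ => Subtype.ext (by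
      subst e1 e2; show (a : M) * b = b * a; rw [← Subgroup.coe_mul, ← Subgroup.coe_mul, Subgroup.mem_center_iff.mp hb a])⟩⟩)
  have hxT : (⟨x, hxM⟩ : M) ∈ T := by
    by_contra h
    exact no_perfect (x := (⟨x, hxM⟩ : M)) (Subtype.ext hxx) (fun t ht => hTn.conj_mem t ht _) (hCM T h) hTperf hZT hT0
  have hU : Subgroup.centralizer (T : Set M) = ⊥ := by
    refine hnoab _ inferInstance ⟨⟨fun a b => Subtype.ext (Subtype.ext ?_)⟩⟩
    have hmem : ∀ u : Subgroup.centralizer (T : Set M), ((u : M) : X) ∈ Subgroup.centralizer ({x} : Set X) := fun u =>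
      Subgroup.mem_centralizer_singleton_iff.mpr (congrArg Subtype.val (Subgroup.mem_centralizer_iff.mp u.2 _ hxT)).symm
    show ((a : M) : X) * ((b : M) : X) = ((b : M) : X) * ((a : M) : X)
    exact congrArg Subtype.val (hCc.is_comm.comm ⟨_, hmem a⟩ ⟨_, hmem b⟩)
  have hTtop : T = ⊤ := by
    have hn : (T.map M.subtype).Normal := by
      refine ⟨fun t ht g => ?_⟩
      obtain ⟨t, ht, rfl⟩ := ht
      -- the conjugate of `T` is `T`
      let φ : M ≃* M := MulAut.conjNormal g
      haveI : (T.map φ.toMonoidHom).Normal := Subgroup.Normal.map hTn φ.toMonoidHom φ.surjective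
      have hle : T ≤ T.map φ.toMonoidHom := by
        rcases hTmin (T ⊓ T.map φ.toMonoidHom) inferInstance inf_le_left with h | h
        · exfalso
          refine hT0 ((Subgroup.map_eq_bot_iff_of_injective T (f := φ.toMonoidHom) φ.injective).mp (le_bot_iff.mp (hU ▸ ?_)))
          intro u hu
          exact Subgroup.mem_centralizer_iff.mpr fun v hv =>
            Subgroup.commute_of_normal_of_disjoint T _ hTn inferInstance (disjoint_iff.mpr h) v u hv hu
        · exact inf_eq_left.mp h
      have heq : T = T.map φ.toMonoidHom :=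
        Subgroup.eq_of_le_of_card_ge hle (Subgroup.card_map_of_injective (f := φ.toMonoidHom) φ.injective).le
      exact ⟨φ t, heq.symm ▸ Subgroup.mem_map_of_mem φ.toMonoidHom ht, rfl⟩
    rcases hmin _ hn (Subgroup.map_subtype_le T) with h | h
    · exact absurd ((Subgroup.map_eq_bot_iff_of_injective T M.subtype_injective).mp h) hT0
    · exact Subgroup.map_injective M.subtype_injective (by rw [h, ← MonoidHom.range_eq_map, Subgroup.range_subtype])
  haveI : IsSimpleGroup M := ⟨fun H hH => by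
    rcases hTmin (T ⊓ H) inferInstance inf_le_left with h | h
    · rw [hTtop, top_inf_eq] at h; exact Or.inl h
    · rw [hTtop, top_inf_eq] at h; exact Or.inr h⟩
  have hnab : ¬ IsMulCommutative M := fun h => by
    have := hnoab ⊤ inferInstance ⟨⟨fun a b => Subtype.ext (h.is_comm.comm (a : M) b)⟩⟩
    exact top_ne_bot this
  obtain ⟨xM, hxMd⟩ : ∃ u : M, u = ⟨x, hxM⟩ := ⟨_, rfl⟩
  have hxMo : orderOf xM = 2 := by rw [← Subgroup.orderOf_coe, hxMd, hx]
  obtain ⟨C, hC⟩ : ∃ C, C = Subgroup.centralizer ({xM} : Set M) := ⟨_, rfl⟩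
  have hCle : C.map M.subtype ≤ Subgroup.centralizer ({x} : Set X) := by
    rintro _ ⟨c, hc, rfl⟩
    rw [hC, hxMd] at hc
    exact Subgroup.mem_centralizer_singleton_iff.mpr (congrArg Subtype.val (Subgroup.mem_centralizer_singleton_iff.mp hc))
  have hCd : Nat.card C ∣ 4 := by
    rw [← Subgroup.card_map_of_injective (f := M.subtype) M.subtype_injective, ← hC4]
    exact Subgroup.card_dvd_of_le hCle
  have hCcard : Nat.card C = 4 := by
    obtain ⟨i, hi, e⟩ := (Nat.dvd_prime_pow Nat.prime_two).mp (show Nat.card C ∣ 2 ^ 2 from hCd)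
    rcases hi.eq_or_lt with rfl | hlt
    · rw [e]; norm_num
    exfalso
    have hxP : IsPGroup 2 (Subgroup.zpowers xM) := IsPGroup.of_card (n := 1) (by rw [Nat.card_zpowers, hxMo, pow_one])
    obtain ⟨S, hS⟩ := hxP.exists_le_sylow
    have hxS : xM ∈ (S : Subgroup M) := hS (Subgroup.mem_zpowers xM)
    have h4 := CfsgLib.KleinCent.sylow_card_le_four hnab S hxMo hxS (fun h8 => by
      rw [← hC] at h8
      exact absurd (Nat.le_of_dvd (by norm_num) (h8.trans hCd)) (by norm_num))
    obtain ⟨j, hj⟩ := S.2.exists_card_eq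
    have hj2 : j ≤ 2 := (Nat.pow_le_pow_iff_right one_lt_two).mp (show 2 ^ j ≤ 2 ^ 2 by rw [← hj]; exact h4)
    haveI hSc : IsMulCommutative (S : Subgroup M) := by
      interval_cases j
      · haveI := (Nat.card_eq_one_iff_unique.mp (hj.trans (pow_zero 2))).1
        exact ⟨⟨fun a b => Subsingleton.elim _ _⟩⟩
      · haveI := isCyclic_of_prime_card (hj.trans (pow_one 2))
        infer_instance
      · exact IsPGroup.isMulCommutative_of_card_eq_prime_sq (p := 2) hj
    have hSle : (S : Subgroup M) ≤ C := fun s hs => hC ▸ Subgroup.mem_centralizer_singleton_iff.mpr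
      (congrArg Subtype.val (hSc.is_comm.comm ⟨s, hs⟩ ⟨xM, hxS⟩))
    have hScard : Nat.card (S : Subgroup M) = 2 := by
      have h1 := Subgroup.card_dvd_of_le hSle
      have h2 := Subgroup.card_dvd_of_le hS
      rw [Nat.card_zpowers, hxMo] at h2
      rw [hj, e] at h1
      rw [hj] at h2 ⊢
      have := (Nat.pow_dvd_pow_iff_le_right one_lt_two).mp h1
      have : 1 ≤ j := by
        by_contra h
        obtain rfl : j = 0 := by omega
        norm_num at h2
      obtain rfl : j = 1 := by omega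
      norm_num
    haveI : IsCyclic (S : Subgroup M) := isCyclic_of_prime_card hScard
    -- Burnside
    have hmin : (Nat.card M).minFac = 2 := (Nat.minFac_eq_two_iff _).mpr (hScard ▸ Subgroup.card_subgroup_dvd_card _)
    have hcompl := MonoidHom.ker_transferSylow_isComplement' S (IsCyclic.normalizer_le_centralizer hmin ‹_›)
    rcases Subgroup.Normal.eq_bot_or_eq_top (inferInstance : (MonoidHom.transferSylow S (IsCyclic.normalizer_le_centralizer hmin ‹_›)).ker.Normal) with h | h
    · have := hcompl.card_mul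
      rw [h, Subgroup.card_bot, one_mul, hScard] at this
      haveI := isCyclic_of_prime_card this.symm
      exact hnab inferInstance
    · have := hcompl.card_mul
      rw [h, Subgroup.card_top, hScard] at this
      have := Nat.card_pos (α := M)
      omega
  have hklein : IsKleinFour C := by
    refine ⟨hCcard, ?_⟩
    haveI : Nontrivial C := Finite.one_lt_card_iff_nontrivial.mp (by rw [hCcard]; norm_num)
    refine ((Nat.dvd_prime Nat.prime_two).mp (Monoid.exponent_dvd_of_forall_pow_eq_one fun c => ?_)).resolve_left ?_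
    · exact Subtype.ext (Subtype.ext (hCe _ (hCle (Subgroup.mem_map_of_mem _ c.2))))
    · exact fun e => not_subsingleton C (Monoid.exp_eq_one_iff.mp e)
  obtain ⟨eA⟩ := Cfsg.Agent.S3278.result xM hxMo C hC.le hklein (by rw [← hC, Subgroup.relIndex_self]; norm_num)
    (by rw [← hC, Subgroup.subgroupOf_self]; infer_instance)
  -- all involutions of `M` are conjugate
  have hcl : ∀ u : M, orderOf u = 2 → ∃ m : M, m * xM * m⁻¹ = u := by
    intro u hu
    have := Fintype.ofFinite M
    have hclass : (Finset.univ.filter fun w : M => ∃ m : M, m * xM * m⁻¹ = w).card = 15 := by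
      let Y : Set M := {w | ∃ m : M, m * xM * m⁻¹ = w}
      have h1 : Nat.card (MulAction.orbit (ConjAct M) xM) = 15 := by
        rw [Nat.card_coe_set_eq, ← MulAction.index_stabilizer]
        have h2 : MulAction.stabilizer (ConjAct M) xM = C.map (ConjAct.toConjAct : M ≃* ConjAct M).toMonoidHom := by
          ext g
          rw [MulAction.mem_stabilizer_iff, ConjAct.smul_def, Subgroup.mem_map_equiv, hC, Subgroup.mem_centralizer_singleton_iff,
            mul_inv_eq_iff_eq_mul]
          rfl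
        have h3 := (MulAction.stabilizer (ConjAct M) xM).card_mul_index
        have h5 : Nat.card M = 60 := by rw [Nat.card_congr eA.toEquiv, Nat.card_eq_fintype_card]; rfl
        rw [h2, Subgroup.card_map_of_injective (MulEquiv.injective _), hCcard, ← h2,
          show Nat.card (ConjAct M) = 60 from h5] at h3
        omega
      rw [← h1, Nat.card_eq_fintype_card, ← Set.toFinset_card]
      congr 1
      ext w
      simp only [Finset.mem_filter, Finset.mem_univ, true_and, Set.mem_toFinset, MulAction.mem_orbit_iff]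
      exact ⟨fun ⟨m, hm⟩ => ⟨ConjAct.toConjAct m, by rw [ConjAct.toConjAct_smul, hm]⟩,
        fun ⟨m, hm⟩ => ⟨ConjAct.ofConjAct m, by rw [← hm, ConjAct.smul_def]⟩⟩
    have hinv : (Finset.univ.filter fun w : M => orderOf w = 2).card = 15 := by
      rw [Finset.card_bij (t := Finset.univ.filter fun w : alternatingGroup (Fin 5) => w * w = 1 ∧ w ≠ 1) (fun w _ => eA w)]
      · decide
      · intro w hw
        simp only [Finset.mem_filter, Finset.mem_univ, true_and] at hw ⊢
        refine ⟨?_, fun e => ?_⟩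
        · rw [← map_mul, ← pow_two, ← hw, pow_orderOf_eq_one, map_one]
        · rw [← map_one eA, eA.injective.eq_iff] at e
          rw [e, orderOf_one] at hw; norm_num at hw
      · exact fun a _ b _ e => eA.injective e
      · intro w hw
        simp only [Finset.mem_filter, Finset.mem_univ, true_and] at hw ⊢
        refine ⟨eA.symm w, orderOf_eq_prime ?_ ?_, eA.apply_symm_apply w⟩
        · rw [pow_two, ← map_mul, hw.1, map_one]
        · exact fun e => hw.2 (by rw [← eA.apply_symm_apply w, e, map_one])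
    have heq := Finset.eq_of_subset_of_card_le (s := Finset.univ.filter fun w : M => ∃ m : M, m * xM * m⁻¹ = w)
      (t := Finset.univ.filter fun w : M => orderOf w = 2) (fun w hw => by
        simp only [Finset.mem_filter, Finset.mem_univ, true_and] at hw ⊢
        obtain ⟨m, rfl⟩ := hw
        rw [← MulAut.conj_apply, MulEquiv.orderOf_eq, hxMo]) (by rw [hclass, hinv])
    have hmem : u ∈ Finset.univ.filter (fun w : M => orderOf w = 2) := by simp [hu]
    rw [← heq] at hmem
    simpa using hmem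
  have hVM : Subgroup.centralizer ({x} : Set X) ≤ M := by
    rw [← Subgroup.eq_of_le_of_card_ge hCle (by rw [Subgroup.card_map_of_injective M.subtype_injective, hCcard, hC4])]
    exact Subgroup.map_subtype_le C
  have hMtop : M = ⊤ := by
    rw [eq_top_iff]
    intro g _
    obtain ⟨m, hm⟩ := hcl ⟨g * x * g⁻¹, hMn.conj_mem x hxM g⟩ (by
      rw [← Subgroup.orderOf_coe]
      show orderOf (g * x * g⁻¹) = 2
      rw [← MulAut.conj_apply, MulEquiv.orderOf_eq, hx])
    have hm' : (m : X) * x * (m : X)⁻¹ = g * x * g⁻¹ := by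
      rw [hxMd] at hm
      exact congrArg Subtype.val hm
    have h2 : (m : X)⁻¹ * g ∈ Subgroup.centralizer ({x} : Set X) := Subgroup.mem_centralizer_singleton_iff.mpr (by
      calc (m : X)⁻¹ * g * x = (m : X)⁻¹ * (g * x * g⁻¹) * g := by group
        _ = x * ((m : X)⁻¹ * g) := by rw [← hm']; group)
    have := mul_mem m.2 (hVM h2)
    rwa [mul_inv_cancel_left] at this
  exact ⟨(Subgroup.topEquiv.symm.trans (MulEquiv.subgroupCongr hMtop.symm)).trans eA⟩


/-- Let G be a finite group containing an involution whose centralizer is elementary abelian of order 4. If G has no normal 2-complement and no normal elementary abelian 2-subgroup of order 2 or 4, then G is isomorphic to the alternating group of degree 5 (that is, to PSL(2, 5)). -/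
theorem result {G : Type*} [Group G] [Finite G] (x : G) (hx : orderOf x = 2)
    (hC4 : Nat.card ↥(Subgroup.centralizer ({x} : Set G)) = 4) (hCe : ∀ c ∈ Subgroup.centralizer ({x} : Set G), c ^ 2 = 1)
    (hnc : ¬ Cfsg.HasNormalPComplement 2 G)
    (hne : ∀ E : Subgroup G, E.Normal → Cfsg.IsElementaryAbelian 2 E → Nat.card ↥E ≠ 2 ∧ Nat.card ↥E ≠ 4) :
    Nonempty (G ≃* ↥(alternatingGroup (Fin 5))) := by
  classical
  haveI := Fact.mk Nat.prime_two
  obtain ⟨O, hOd⟩ : ∃ O, O = oddCore G := ⟨_, rfl⟩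
  by_cases hO : O = ⊥
  · rcases core_free x hx hC4 hCe (hOd ▸ hO) with h | ⟨E, hEn, hEe, hE⟩
    · exact h
    · exact absurd hE (not_or.mpr (hne E hEn hEe))
  exfalso
  haveI hOn : O.Normal := hOd ▸ inferInstanceAs (pPrimeCore 2 G).Normal
  have hOodd : Odd (Nat.card O) := hOd ▸ CfsgLib.odd_card_oddCore
  have hxx : x * x = 1 := by rw [← pow_two, ← hx]; exact pow_orderOf_eq_one x
  have hx1 : x ≠ 1 := fun e => by rw [e, orderOf_one] at hx; norm_num at hx
  have hodd1 : ∀ o ∈ O, o * o = 1 → o = 1 := by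
    intro o ho h
    have h1 : orderOf o ∣ 2 := orderOf_dvd_of_pow_eq_one (by rw [pow_two]; exact h)
    have h2 : orderOf o ∣ Nat.card O := O.orderOf_dvd_natCard ho
    exact orderOf_eq_one_iff.mp (Nat.eq_one_of_dvd_coprimes hOodd.coprime_two_left h1 h2)
  have hVsq : ∀ v ∈ Subgroup.centralizer ({x} : Set G), v * v = 1 := fun v hv => by rw [← pow_two]; exact hCe v hv
  have hinv : ∀ o ∈ O, x * o * x⁻¹ = o⁻¹ := odd_inverted hxx (fun o ho => hOn.conj_mem o ho x) fun o ho e =>
    hodd1 o ho (hVsq o (Subgroup.mem_centralizer_singleton_iff.mpr e))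
  obtain ⟨K, hKd⟩ : ∃ K, K = Subgroup.centralizer (O : Set G) := ⟨_, rfl⟩
  haveI hKn : K.Normal := hKd ▸ inferInstance
  have hxK : x ∉ K := by
    intro h
    refine hO ((Subgroup.eq_bot_iff_forall _).mpr fun o ho => hodd1 o ho ?_)
    have e := hinv o ho
    rw [← (Subgroup.mem_centralizer_iff.mp (hKd ▸ h) o ho), mul_inv_cancel_right] at e
    rw [mul_eq_one_iff_eq_inv]; exact e
  have hcomm : ∀ g : G, g * x * g⁻¹ * x⁻¹ ∈ K := by
    intro g
    rw [hKd]
    refine Subgroup.mem_centralizer_iff.mpr fun o ho => (mul_inv_eq_iff_eq_mul.mp ?_).symm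
    have h1 := hinv _ (hOn.conj_mem _ (inv_mem ho) g⁻¹)
    rw [inv_inv] at h1
    calc g * x * g⁻¹ * x⁻¹ * o * (g * x * g⁻¹ * x⁻¹)⁻¹ = g * x * g⁻¹ * (x⁻¹ * o * x⁻¹⁻¹) * g * x⁻¹ * g⁻¹ := by group
      _ = g * (x * (g⁻¹ * o⁻¹ * g) * x⁻¹) * g⁻¹ := by
        rw [show x⁻¹ * o * x⁻¹⁻¹ = o⁻¹ by rw [inv_inv, inv_eq_of_mul_eq_one_right hxx]; have := hinv o ho; rwa [inv_eq_of_mul_eq_one_right hxx] at this]
        group
      _ = o := by rw [h1]; group
  obtain ⟨π, hπd⟩ : ∃ π : G →* G ⧸ O, π = QuotientGroup.mk' O := ⟨_, rfl⟩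
  have hπs : Function.Surjective π := hπd ▸ QuotientGroup.mk'_surjective O
  have hπ1 : ∀ g, π g = 1 ↔ g ∈ O := fun g => by rw [hπd]; exact QuotientGroup.eq_one_iff g
  have hπeq : ∀ {a b : G}, π a = π b → a⁻¹ * b ∈ O := fun {a b} h => (hπ1 _).mp (by rw [map_mul, map_inv, h, inv_mul_cancel])
  have hOK : O ≤ K := by
    intro o ho
    rw [hKd]
    refine Subgroup.mem_centralizer_iff.mpr fun u hu => ?_
    have h1 := hinv (o * u) (mul_mem ho hu)
    rw [show x * (o * u) * x⁻¹ = (x * o * x⁻¹) * (x * u * x⁻¹) by group, hinv o ho, hinv u hu, ← mul_inv_rev, inv_inj] at h1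
    exact h1
  have hVinj : ∀ v ∈ Subgroup.centralizer ({x} : Set G), π v = 1 → v = 1 := fun v hv h => hodd1 v ((hπ1 v).mp h) (hVsq v hv)
  have hπx : orderOf (π x) = 2 := orderOf_eq_prime (by rw [← map_pow, pow_two, hxx, map_one])
    fun h => hx1 (hVinj x (Subgroup.mem_centralizer_singleton_iff.mpr rfl) h)
  have hlift : Subgroup.centralizer ({π x} : Set (G ⧸ O)) = (Subgroup.centralizer ({x} : Set G)).map π := by
    refine le_antisymm (fun q hq => ?_) ?_
    · obtain ⟨g, rfl⟩ := hπs q
      have e := Subgroup.mem_centralizer_singleton_iff.mp hq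
      rw [← map_mul, ← map_mul] at e
      obtain ⟨o, hod⟩ : ∃ o, o = x⁻¹ * (g * x * g⁻¹) := ⟨_, rfl⟩
      have hoO : o ∈ O := by
        have h1 := hπeq e
        have := hOn.conj_mem _ (inv_mem h1) g
        rwa [show g * ((g * x)⁻¹ * (x * g))⁻¹ * g⁻¹ = o by rw [hod]; group] at this
      -- a square root
      obtain ⟨w, hw, hwo⟩ : ∃ w ∈ O, w * w = o := by
        refine ⟨o ^ ((Nat.card O + 1) / 2), pow_mem hoO _, ?_⟩
        obtain ⟨k, hk⟩ := hOodd
        rw [← pow_add, show (Nat.card O + 1) / 2 + (Nat.card O + 1) / 2 = Nat.card O + 1 by omega, pow_succ,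
          orderOf_dvd_iff_pow_eq_one.mp (O.orderOf_dvd_natCard hoO), one_mul]
      refine ⟨w * g, Subgroup.mem_centralizer_singleton_iff.mpr ?_, by rw [map_mul, (hπ1 w).mpr hw, one_mul]⟩
      have hw' : x * w⁻¹ * x⁻¹ = w := by rw [hinv _ (inv_mem hw), inv_inv]
      calc w * g * x = w * x * o * g := by rw [hod]; group
        _ = (x * w⁻¹ * x⁻¹) * x * (w * w) * g := by rw [hw', hwo]
        _ = x * (w * g) := by group
    · rintro _ ⟨v, hv, rfl⟩
      exact Subgroup.mem_centralizer_singleton_iff.mpr (by rw [← map_mul, ← map_mul, Subgroup.mem_centralizer_singleton_iff.mp hv])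
  have hQ4 : Nat.card ↥(Subgroup.centralizer ({π x} : Set (G ⧸ O))) = 4 := by
    rw [hlift, ← hC4]
    refine (Nat.card_congr (Equiv.ofBijective (fun v : Subgroup.centralizer ({x} : Set G) =>
      (⟨π v, Subgroup.mem_map_of_mem π v.2⟩ : (Subgroup.centralizer ({x} : Set G)).map π)) ⟨fun a b e => ?_, ?_⟩)).symm
    · have e' : π a = π b := congrArg Subtype.val e
      exact Subtype.ext (inv_mul_eq_one.mp (hVinj _ (mul_mem (inv_mem a.2) b.2) (by rw [map_mul, map_inv, e', inv_mul_cancel])))
    · rintro ⟨_, v, hv, rfl⟩; exact ⟨⟨v, hv⟩, rfl⟩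
  have hQe : ∀ c ∈ Subgroup.centralizer ({π x} : Set (G ⧸ O)), c ^ 2 = 1 := by
    rw [hlift]; rintro _ ⟨v, hv, rfl⟩; rw [← map_pow, hCe v hv, map_one]
  have hQO : oddCore (G ⧸ O) = ⊥ := by
    subst hOd; exact CfsgLib.pPrimeCore_quotient_eq_bot 2
  obtain ⟨W, hWd⟩ : ∃ W, W = K.map π := ⟨_, rfl⟩
  haveI hWn : W.Normal := hWd ▸ hKn.map π hπs
  have hxW : π x ∉ W := by
    rw [hWd]
    rintro ⟨k, hk, e⟩
    exact hxK (by have := mul_mem hk (hOK (hπeq e)); rwa [mul_inv_cancel_left] at this)
  have hcW : ∀ q : G ⧸ O, q * π x * q⁻¹ * (π x)⁻¹ ∈ W := fun q => by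
    obtain ⟨g, rfl⟩ := hπs q
    rw [hWd]; exact ⟨_, hcomm g, by simp⟩
  have hnotcentral : ¬ ∀ q : G ⧸ O, q * π x = π x * q := by
    intro hc
    have htop : Subgroup.centralizer ({π x} : Set (G ⧸ O)) = ⊤ :=
      eq_top_iff.mpr fun q _ => Subgroup.mem_centralizer_singleton_iff.mpr (hc q)
    rw [htop, Subgroup.card_top] at hQ4
    -- then `O` is a normal 2-complement
    refine hnc ?_
    have hidx : O.index = 4 := hQ4
    have hcop : Nat.Coprime (Nat.card O) O.index := by
      rw [hidx]
      exact (Nat.Coprime.pow_right 2 hOodd.coprime_two_right : Nat.Coprime (Nat.card O) (2 ^ 2))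
    obtain ⟨P, hP⟩ := Subgroup.exists_right_complement'_of_coprime hcop
    have hPc : Nat.card P = 4 := by rw [← hidx, hP.symm.index_eq_card]
    have hS : ∀ S : Sylow 2 G, Nat.card S = 4 := by
      intro S
      rw [S.card_eq_multiplicity, ← O.card_mul_index, hidx, Nat.factorization_mul Nat.card_pos.ne' (by norm_num)]
      rw [show (4 : ℕ) = 2 ^ 2 by norm_num, Finsupp.add_apply, Nat.prime_two.factorization_pow, Finsupp.single_eq_same,
        Nat.factorization_eq_zero_of_not_dvd hOodd.not_two_dvd_nat, zero_add]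
    obtain ⟨S⟩ : Nonempty (Sylow 2 G) := inferInstance
    refine ⟨S, O, hOn, Subgroup.isComplement'_of_coprime ?_ ?_⟩
    · rw [hS, ← hidx, O.card_mul_index]
    · rw [hS]; exact (Nat.Coprime.pow_right 2 hOodd.coprime_two_right : Nat.Coprime (Nat.card O) (2 ^ 2))
  -- a central involution of the quotient gives a contradiction
  have hcentral : ∀ a : G ⧸ O, a ≠ 1 → a * a = 1 → (∀ q, q * a = a * q) → False := by
    intro a ha1 haa hac
    have haV : a ∈ (Subgroup.centralizer ({x} : Set G)).map π :=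
      hlift ▸ Subgroup.mem_centralizer_singleton_iff.mpr (hac (π x)).symm
    obtain ⟨v, hv, rfl⟩ := haV
    have haW : π v ∉ W := by
      intro h
      rw [hWd] at h
      obtain ⟨k, hk, e⟩ := h
      have hvK : v ∈ K := by have := mul_mem hk (hOK (hπeq e)); rwa [mul_inv_cancel_left] at this
      have hvc : ∀ g, g * v * g⁻¹ = v := by
        intro g
        obtain ⟨o, hod⟩ : ∃ o, o = g * v * g⁻¹ * v⁻¹ := ⟨_, rfl⟩
        have ho : o ∈ O := (hπ1 o).mp (by rw [hod, map_mul, map_mul, map_mul, map_inv, map_inv, hac, mul_inv_cancel_right, mul_inv_cancel])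
        have h2 : (o * v) * (o * v) = 1 := by
          rw [hod, inv_mul_cancel_right, show g * v * g⁻¹ * (g * v * g⁻¹) = g * (v * v) * g⁻¹ by group, hVsq v hv]; group
        have h3 : o = 1 := hodd1 o ho (by
          have hov : o * v = v * o := Subgroup.mem_centralizer_iff.mp (hKd ▸ hvK) o ho
          calc o * o = o * o * (v * v) := by rw [hVsq v hv, mul_one]
            _ = o * (o * v) * v := by group
            _ = o * (v * o) * v := by rw [hov]
            _ = (o * v) * (o * v) := by group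
            _ = 1 := h2)
        rw [h3] at hod
        exact mul_inv_eq_one.mp hod.symm
      have hv1 : v ≠ 1 := fun e => ha1 (by rw [e, map_one])
      refine (hne (Subgroup.zpowers v) ⟨fun u hu g => ?_⟩ ⟨inferInstance, fun u hu => ?_⟩).1 ?_
      · obtain ⟨i, rfl⟩ := hu
        exact ⟨i, by show v ^ i = g * v ^ i * g⁻¹; rw [← conj_zpow, hvc]⟩
      · obtain ⟨i, rfl⟩ := hu
        show (v ^ i) ^ 2 = 1
        rw [← zpow_natCast, ← zpow_mul, mul_comm, zpow_mul, zpow_natCast, hCe v hv, one_zpow]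
      · rw [Nat.card_zpowers]; exact orderOf_eq_prime (hCe v hv) hv1
    have hW0 : W ≠ ⊥ := fun h => hnotcentral fun q => by
      have := hcW q
      rwa [h, Subgroup.mem_bot, mul_inv_eq_one, mul_inv_eq_iff_eq_mul] at this
    have hW2 : 2 ∣ Nat.card W := by
      by_contra h
      refine hW0 (le_bot_iff.mp (hQO ▸ CfsgLib.le_oddCore ?_))
      rwa [Nat.odd_iff, ← Nat.two_dvd_ne_zero]
    obtain ⟨y, hyW, hy1, hyx⟩ := exists_fixed hπx (fun k hk => hWn.conj_mem k hk _) hW2
    have hcases : ∀ q, q * π x = π x * q → q ∈ W → q = 1 ∨ q = y := by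
      have h2 : Nat.card ↥(W ⊓ Subgroup.centralizer {π x}) ≤ 2 := by
        by_contra hlt
        have hd := Subgroup.card_dvd_of_le (inf_le_right : W ⊓ Subgroup.centralizer {π x} ≤ _)
        rw [hQ4] at hd
        obtain ⟨i, hi, e⟩ := (Nat.dvd_prime_pow Nat.prime_two).mp (show _ ∣ 2 ^ 2 from hd)
        rw [e] at hlt
        obtain rfl : i = 2 := by
          by_contra h
          exact hlt (Nat.pow_le_pow_right two_pos (show i ≤ 1 by omega))
        have := Subgroup.eq_of_le_of_card_ge (inf_le_right : W ⊓ Subgroup.centralizer {π x} ≤ _) (by rw [hQ4, e]; norm_num)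
        exact hxW ((this.symm ▸ Subgroup.mem_centralizer_singleton_iff.mpr rfl : π x ∈ W ⊓ Subgroup.centralizer {π x})).1
      intro q hq hqW
      by_contra hcon
      push Not at hcon
      have := Fintype.ofFinite ↥(W ⊓ Subgroup.centralizer {π x})
      have h3 : ({1, ⟨y, hyW, Subgroup.mem_centralizer_singleton_iff.mpr hyx⟩,
          ⟨q, hqW, Subgroup.mem_centralizer_singleton_iff.mpr hq⟩} : Finset ↥(W ⊓ Subgroup.centralizer {π x})).card = 3 :=
        Finset.card_eq_three.mpr ⟨_, _, _, fun e => hy1 (congrArg Subtype.val e).symm, fun e => hcon.1 (congrArg Subtype.val e).symm,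
          fun e => hcon.2 (congrArg Subtype.val e).symm, rfl⟩
      have := Finset.card_le_univ ({1, ⟨y, hyW, Subgroup.mem_centralizer_singleton_iff.mpr hyx⟩,
          ⟨q, hqW, Subgroup.mem_centralizer_singleton_iff.mpr hq⟩} : Finset ↥(W ⊓ Subgroup.centralizer {π x}))
      rw [h3, ← Nat.card_eq_fintype_card] at this
      omega
    have hyy : y * y = 1 := by rw [← pow_two]; exact hQe y (Subgroup.mem_centralizer_singleton_iff.mpr hyx)
    -- `y = x * a`
    have hyeq : y = π x * π v := by
      have hy : y ∈ (Subgroup.centralizer ({x} : Set G)).map π := hlift ▸ Subgroup.mem_centralizer_singleton_iff.mpr hyx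
      obtain ⟨u, hu, rfl⟩ := hy
      have := Fintype.ofFinite (Subgroup.centralizer ({x} : Set G))
      have hxC : x ∈ Subgroup.centralizer ({x} : Set G) := Subgroup.mem_centralizer_singleton_iff.mpr rfl
      by_contra hne'
      have hvx : v ≠ x := fun e => hnotcentral (e ▸ hac)
      have hd : ∀ {a b : G}, π a ≠ π b → a ≠ b := fun {a b} h e => h (congrArg π e)
      have hv1 : v ≠ 1 := hd (by rw [map_one]; exact ha1)
      have h5 : ({1, ⟨x, hxC⟩, ⟨v, hv⟩, ⟨x * v, mul_mem hxC hv⟩, ⟨u, hu⟩} : Finset (Subgroup.centralizer ({x} : Set G))).card = 5 := by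
        have e1 : u ≠ 1 := hd (by rw [map_one]; exact hy1)
        have e2 : u ≠ x := hd fun e => hxW (e ▸ hyW)
        have e3 : u ≠ v := hd fun e => haW (e ▸ hyW)
        have e4 : u ≠ x * v := fun e => hne' (by rw [e, map_mul])
        have e5 : x * v ≠ 1 := fun e => hvx (by rw [eq_inv_of_mul_eq_one_right e, inv_eq_of_mul_eq_one_right hxx])
        have e6 : x * v ≠ x := fun e => hv1 (mul_left_cancel (e.trans (mul_one x).symm))
        have e7 : x * v ≠ v := fun e => hx1 (mul_right_cancel (e.trans (one_mul v).symm))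
        rw [Finset.card_insert_of_notMem, Finset.card_insert_of_notMem, Finset.card_insert_of_notMem,
          Finset.card_insert_of_notMem, Finset.card_singleton] <;>
        simp [Subtype.ext_iff, e1.symm, e2.symm, e3.symm, e4.symm, e5.symm, e6.symm, e7.symm, hx1.symm, hv1.symm, hvx.symm]
      have := Finset.card_le_univ ({1, ⟨x, hxC⟩, ⟨v, hv⟩, ⟨x * v, mul_mem hxC hv⟩, ⟨u, hu⟩} : Finset (Subgroup.centralizer ({x} : Set G)))
      rw [h5, ← Nat.card_eq_fintype_card, hC4] at this
      omega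
    have hyc : ∀ q ∈ W, q * y = y * q → q = 1 ∨ q = y := fun q hq e => hcases q (by
      rw [hyeq] at e
      refine mul_right_cancel (b := π v) ?_
      calc q * π x * π v = π x * π v * q := by rw [mul_assoc, e]
        _ = π x * q * π v := by rw [mul_assoc, ← hac q, ← mul_assoc]) hq
    -- so `W` has a Sylow 2-subgroup of order 2
    obtain ⟨yW, hyWd⟩ : ∃ u : W, u = ⟨y, hyW⟩ := ⟨_, rfl⟩
    have hyWo : orderOf yW = 2 := orderOf_eq_prime (by rw [pow_two, hyWd]; exact Subtype.ext hyy)
      fun e => hy1 (by rw [hyWd] at e; exact congrArg Subtype.val e)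
    obtain ⟨S, hS⟩ := (IsPGroup.of_card (n := 1) (by rw [Nat.card_zpowers, hyWo, pow_one]) : IsPGroup 2 (Subgroup.zpowers yW)).exists_le_sylow
    have hS2 : (S : Subgroup W) = Subgroup.zpowers yW := by
      have hcent : ∀ u : W, u * yW = yW * u → u ∈ Subgroup.zpowers yW := fun u hu => by
        have hu' : (u : G ⧸ O) * y = y * u := by rw [hyWd] at hu; exact congrArg Subtype.val hu
        rcases hyc _ u.2 hu' with h | h
        · rw [show u = 1 from Subtype.ext h]; exact one_mem _
        · rw [show u = yW from hyWd ▸ Subtype.ext h]; exact Subgroup.mem_zpowers _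
      have hyS : yW ∈ (S : Subgroup W) := hS (Subgroup.mem_zpowers yW)
      haveI : Nontrivial (S : Subgroup W) := ⟨⟨⟨yW, hyS⟩, 1, fun e => by
        have := congrArg Subtype.val e; rw [show yW = 1 from this, orderOf_one] at hyWo; norm_num at hyWo⟩⟩
      haveI := S.2.center_nontrivial
      obtain ⟨⟨z, hz⟩, hz1⟩ := exists_ne (1 : Subgroup.center (S : Subgroup W))
      have hyW2 : yW ^ 2 = 1 := by rw [hyWd, pow_two]; exact Subtype.ext hyy
      have hzy : (z : W) = yW := by
        obtain ⟨i, hi⟩ := hcent z (congrArg Subtype.val (Subgroup.mem_center_iff.mp hz ⟨yW, hyS⟩)).symm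
        have hi' : (z : W) = yW ^ i := hi.symm
        rcases Int.even_or_odd' i with ⟨k, rfl | rfl⟩
        · exfalso
          refine hz1 (Subtype.ext (Subtype.ext ?_))
          rw [hi', zpow_mul, show (2 : ℤ) = ((2 : ℕ) : ℤ) from rfl, zpow_natCast, hyW2, one_zpow]; rfl
        · rw [hi', zpow_add, zpow_mul, show (2 : ℤ) = ((2 : ℕ) : ℤ) from rfl, zpow_natCast, hyW2, one_zpow, one_mul, zpow_one]
      refine le_antisymm (fun s hs => hcent s ?_) hS
      rw [← hzy]
      exact congrArg Subtype.val (Subgroup.mem_center_iff.mp hz ⟨s, hs⟩)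
    have hScard : Nat.card (S : Subgroup W) = 2 := by rw [hS2, Nat.card_zpowers, hyWo]
    haveI : IsCyclic (S : Subgroup W) := isCyclic_of_prime_card hScard
    have hmin : (Nat.card W).minFac = 2 := (Nat.minFac_eq_two_iff _).mpr hW2
    have hcompl := MonoidHom.ker_transferSylow_isComplement' S (IsCyclic.normalizer_le_centralizer hmin ‹_›)
    have hker : (MonoidHom.transferSylow S (IsCyclic.normalizer_le_centralizer hmin ‹_›)).ker = ⊥ := by
      obtain ⟨N, hNd⟩ : ∃ N, N = (MonoidHom.transferSylow S (IsCyclic.normalizer_le_centralizer hmin ‹_›)).ker := ⟨_, rfl⟩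
      rw [← hNd] at hcompl ⊢
      haveI : N.Normal := hNd ▸ inferInstance
      have hodd : Odd (Nat.card N) := by
        have hcop := S.not_dvd_index
        rw [hcompl.index_eq_card] at hcop
        rwa [Nat.odd_iff, ← Nat.two_dvd_ne_zero]
      have h1 : N ≤ pPrimeCore 2 W := CfsgLib.le_pPrimeCore hodd.coprime_two_right
      refine le_bot_iff.mp (h1.trans ?_)
      have h2 : (pPrimeCore 2 W).map W.subtype ≤ oddCore (G ⧸ O) := CfsgLib.map_pPrimeCore_le 2 W
      rw [hQO] at h2
      exact ((Subgroup.map_eq_bot_iff_of_injective _ W.subtype_injective).mp (le_bot_iff.mp h2)).le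
    rw [hker] at hcompl
    have hWy : ∀ u ∈ W, u = 1 ∨ u = y := fun u hu => hyc u hu (by
      have h1 := Subgroup.isComplement'_bot_left.mp hcompl
      have hmem : (⟨u, hu⟩ : W) ∈ Subgroup.zpowers yW := by rw [← hS2]; rw [h1]; trivial
      obtain ⟨i, hi⟩ := hmem
      have hi' : u = y ^ i := by
        refine (congrArg Subtype.val hi).symm.trans ?_
        rw [hyWd]; simp
      rw [hi']
      exact ((Commute.refl y).zpow_left i).eq)
    refine hnotcentral fun q => ?_
    have h1 : q * y * q⁻¹ = y := (hWy _ (hWn.conj_mem y hyW q)).resolve_left fun e => hy1 (conj_eq_one_iff.mp e)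
    rw [mul_inv_eq_iff_eq_mul, hyeq] at h1
    refine mul_right_cancel (b := π v) ?_
    calc q * π x * π v = π x * π v * q := by rw [mul_assoc, h1]
      _ = π x * q * π v := by rw [mul_assoc, ← hac q, ← mul_assoc]
  rcases core_free (π x) hπx hQ4 hQe hQO with ⟨⟨eA⟩⟩ | ⟨E, hEn, ⟨hEc, hEp⟩, hE⟩
  · haveI : IsSimpleGroup (alternatingGroup (Fin 5)) := alternatingGroup.isSimpleGroup_five
    haveI : Nontrivial (G ⧸ O) := ⟨⟨π x, 1, fun e => by rw [e, orderOf_one] at hπx; norm_num at hπx⟩⟩
    haveI : IsSimpleGroup (G ⧸ O) := IsSimpleGroup.isSimpleGroup_of_surjective eA.symm.toMonoidHom eA.symm.surjective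
    rcases Subgroup.Normal.eq_bot_or_eq_top hWn with h | h
    · refine hnotcentral fun q => ?_
      have := hcW q
      rwa [h, Subgroup.mem_bot, mul_inv_eq_one, mul_inv_eq_iff_eq_mul] at this
    · exact hxW (h ▸ Subgroup.mem_top _)
  have hsq : ∀ e ∈ E, e * e = 1 := fun e he => by rw [← pow_two]; exact hEp e he
  have hnocent : ∀ Z : Subgroup (G ⧸ O), Z.Normal → Z ≤ E → Nat.card Z ≠ 2 := by
    intro Z hZn hZE hZ2
    obtain ⟨⟨a, ha⟩, hane, hu⟩ := (Nat.card_eq_two_iff' (1 : Z)).mp hZ2
    refine hcentral a (fun e => hane (Subtype.ext e)) (hsq a (hZE ha)) fun q => mul_inv_eq_iff_eq_mul.mp ?_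
    exact congrArg Subtype.val (hu ⟨q * a * q⁻¹, hZn.conj_mem a ha q⟩ fun e => hane (Subtype.ext (conj_eq_one_iff.mp (congrArg Subtype.val e))))
  rcases hE with hE | hE
  · exact hnocent E hEn le_rfl hE
  -- `E` lies in the image of `K`
  have hEW : E ≤ W := by
    haveI := hEn
    have hd := Subgroup.card_dvd_of_le (inf_le_left : E ⊓ W ≤ E)
    rw [hE] at hd
    obtain ⟨i, hi, e⟩ := (Nat.dvd_prime_pow Nat.prime_two).mp (show _ ∣ 2 ^ 2 from hd)
    interval_cases i
    · exfalso
      have hbot : E ⊓ W = ⊥ := Subgroup.card_eq_one.mp (by rw [e]; norm_num)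
      have hfix : ∀ u ∈ E, u * π x = π x * u := fun u hu => by
        have h1 : u * π x * u⁻¹ * (π x)⁻¹ ∈ E ⊓ W := ⟨by
          rw [show u * π x * u⁻¹ * (π x)⁻¹ = u * (π x * u⁻¹ * (π x)⁻¹) by group]
          exact E.mul_mem hu (hEn.conj_mem _ (E.inv_mem hu) _), hcW u⟩
        rwa [hbot, Subgroup.mem_bot, mul_inv_eq_one, mul_inv_eq_iff_eq_mul] at h1
      have heq : E = Subgroup.centralizer {π x} := Subgroup.eq_of_le_of_card_ge
        (fun u hu => Subgroup.mem_centralizer_singleton_iff.mpr (hfix u hu)) (by rw [hQ4, hE])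
      have hxE : π x ∈ E := heq ▸ Subgroup.mem_centralizer_singleton_iff.mpr rfl
      refine hnotcentral fun q => ?_
      have h1 : q * π x * q⁻¹ * (π x)⁻¹ ∈ E ⊓ W := ⟨E.mul_mem (hEn.conj_mem _ hxE q) (E.inv_mem hxE), hcW q⟩
      rwa [hbot, Subgroup.mem_bot, mul_inv_eq_one, mul_inv_eq_iff_eq_mul] at h1
    · exact absurd (by rw [e]; norm_num) (hnocent _ inferInstance inf_le_left)
    · exact inf_eq_left.mp (Subgroup.eq_of_le_of_card_ge inf_le_left (by rw [hE, e]; norm_num))
  -- lift `E`
  have hpre : ∀ l, π l ∈ E → l ∈ K := fun l hl => by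
    obtain ⟨k, hk, e⟩ := (hWd ▸ hEW hl : π l ∈ K.map π)
    have := mul_mem hk (hOK (hπeq e)); rwa [mul_inv_cancel_left] at this
  have hcom : ∀ l m, π l ∈ E → π m ∈ E → l * l = 1 → m * m = 1 → l * m = m * l := by
    intro l m hl hm hll hmm
    have hc : π l * π m = π m * π l := congrArg Subtype.val (hEc.is_comm.comm ⟨_, hl⟩ ⟨_, hm⟩)
    obtain ⟨o, hod⟩ : ∃ o, o = (m * l)⁻¹ * (l * m) := ⟨_, rfl⟩
    have ho : o ∈ O := hod ▸ hπeq (by rw [map_mul, map_mul, hc])
    have e1 : l * o = o * l := (Subgroup.mem_centralizer_iff.mp (hKd ▸ hpre l hl) o ho).symm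
    have hlm : l * m = m * l * o := by rw [hod]; group
    have e2 : o * o = 1 := by
      have h1 : m = m * (o * o) := by
        calc m = (l * l) * m * 1 := by rw [hll, one_mul, mul_one]
          _ = l * (l * m) := by group
          _ = (l * m) * l * o := by rw [hlm]; rw [show l * (m * l * o) = (l * m) * l * o by group, hlm]
          _ = m * l * (o * l) * o := by rw [hlm]; group
          _ = m * l * (l * o) * o := by rw [e1]
          _ = m * (l * l) * (o * o) := by group
          _ = m * (o * o) := by rw [hll, mul_one]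
      exact mul_left_cancel (h1.symm.trans (mul_one m).symm)
    rw [hlm, hodd1 o ho e2, mul_one]
  let E' : Subgroup G :=
    { carrier := {l | π l ∈ E ∧ l * l = 1}
      mul_mem' := fun {l m} hl hm => ⟨by rw [map_mul]; exact mul_mem hl.1 hm.1, by
        rw [show l * m * (l * m) = l * (m * l) * m by group, ← hcom l m hl.1 hm.1 hl.2 hm.2,
          show l * (l * m) * m = (l * l) * (m * m) by group, hl.2, hm.2, one_mul]⟩
      one_mem' := ⟨by rw [map_one]; exact one_mem _, one_mul 1⟩
      inv_mem' := fun {l} hl => ⟨by rw [map_inv]; exact inv_mem hl.1, by rw [← mul_inv_rev, hl.2, inv_one]⟩ }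
  have hE'n : E'.Normal := ⟨fun l hl g => ⟨by rw [map_mul, map_mul, map_inv]; exact hEn.conj_mem _ hl.1 _,
    by rw [show g * l * g⁻¹ * (g * l * g⁻¹) = g * (l * l) * g⁻¹ by group, hl.2]; group⟩⟩
  have hE'4 : Nat.card E' = 4 := by
    rw [← hE]
    refine Nat.card_congr (Equiv.ofBijective (fun l : E' => (⟨π l, l.2.1⟩ : E)) ⟨fun a b e => ?_, ?_⟩)
    · have e' : π a = π b := congrArg Subtype.val e
      exact Subtype.ext (inv_mul_eq_one.mp (hodd1 _ (hπeq e') ((E'.mul_mem (E'.inv_mem a.2) b.2).2)))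
    · rintro ⟨u, hu⟩
      obtain ⟨l, rfl⟩ := hπs u
      have h1 : l * l ∈ O := (hπ1 _).mp (by rw [map_mul]; exact hsq _ hu)
      have h2 : (l ^ Nat.card O) * (l ^ Nat.card O) = 1 := by
        rw [← (Commute.refl l).mul_pow, orderOf_dvd_iff_pow_eq_one.mp (O.orderOf_dvd_natCard h1)]
      have h3 : π (l ^ Nat.card O) = π l := by
        obtain ⟨k, hk⟩ := hOodd
        rw [map_pow, hk, pow_succ, pow_mul, pow_two, hsq _ hu, one_pow, one_mul]
      exact ⟨⟨_, by rw [h3]; exact hu, h2⟩, Subtype.ext h3⟩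
  exact (hne E' hE'n ⟨⟨⟨fun a b => Subtype.ext (hcom a b a.2.1 b.2.1 a.2.2 b.2.2)⟩⟩,
    fun a ha => by rw [pow_two]; exact ha.2⟩).2 hE'4

end Cfsg.Agent.S3277
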