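import Cfsg.Statements.S3287
import Cfsg.Agent.Lib.BG.VEnd
import Cfsg.Agent.S3278
import Cfsg.Agent.S3035
import Cfsg.Agent.S0984
import Cfsg.Agent.S0254

set_option autoImplicit false
open Cfsg

namespace Cfsg.Agent.S3287

open CfsgLib.BG CfsgLib.GW

universe u

/-- A group whose involution centralizer is dihedral of order eight. -/
theorem small_centralizer {G : Type u} [Group G] [Finite G] (hs : Simp G) {t : G} (ht : orderOf t = 2)
    (hne : Subgroup.centralizer ({t} : Set G) ≠ ⊤)
    (hC : Nonempty (↥(Subgroup.centralizer ({t} : Set G)) ≃* DihedralGroup 4)) :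
    (∃ (F : Type) (_ : Field F) (_ : Fintype F), Fintype.card F = 2 ∧
        Nonempty (G ≃* Matrix.ProjectiveSpecialLinearGroup (Fin 3) F)) ∨
      (∃ (F : Type) (_ : Field F) (_ : Fintype F), Fintype.card F = 9 ∧
        Nonempty (G ≃* Matrix.ProjectiveSpecialLinearGroup (Fin 2) F)) := by
  classical
  have hperm : ∀ k : ℕ, Nontrivial (Fin k) → ¬ Nonempty (G ≃* Equiv.Perm (Fin k)) := fun k _ ⟨e⟩ =>
    hs.index_ne_two ((alternatingGroup (Fin k)).comap e.toMonoidHom) (by
      rw [Subgroup.index_comap_of_surjective _ e.surjective]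
      exact alternatingGroup.index_eq_two)
  rcases Cfsg.Agent.S3035.result t ht hC with h | h | h | ⟨⟨e⟩⟩ | ⟨⟨e⟩⟩
  · exfalso
    rcases hs.simple.eq_bot_or_eq_top_of_normal (oddCore G) inferInstance with ho | ho
    · rw [ho, sup_bot_eq] at h
      exact hne h
    · have := CfsgLib.odd_card_oddCore (G := G)
      rw [ho, Subgroup.card_top] at this
      exact hs.dihedral.not_odd this
  · exact absurd h (hperm 4 inferInstance)
  · exact absurd h (hperm 5 inferInstance)
  · left
    haveI : Fact (Nat.Prime 2) := ⟨Nat.prime_two⟩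
    have hz : Subgroup.center (Matrix.SpecialLinearGroup (Fin 3) (ZMod 2)) = ⊥ := by
      rw [eq_bot_iff]
      intro z hz
      have hmem : e.symm z ∈ Subgroup.center G := Subgroup.mem_center_iff.2 fun g => e.injective (by
        simpa using Subgroup.mem_center_iff.1 hz (e g))
      rcases hs.simple.eq_bot_or_eq_top_of_normal (Subgroup.center G) inferInstance with hc | hc
      · rw [hc, Subgroup.mem_bot] at hmem
        rw [Subgroup.mem_bot, ← e.apply_symm_apply z, hmem, map_one]
      · exact absurd ⟨⟨fun a b => Subgroup.mem_center_iff.1 (hc ▸ Subgroup.mem_top b : b ∈ Subgroup.center G) a⟩⟩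
          hs.noncomm
    exact ⟨ZMod 2, inferInstance, inferInstance, ZMod.card 2,
      ⟨e.trans ((QuotientGroup.quotientBot).symm.trans (QuotientGroup.quotientMulEquivOfEq hz.symm))⟩⟩
  · right
    haveI : Fact (Nat.Prime 3) := ⟨Nat.prime_three⟩
    letI : Fintype (GaloisField 3 2) := Fintype.ofFinite _
    have hF : Fintype.card (GaloisField 3 2) = 9 := by
      rw [← Nat.card_eq_fintype_card, GaloisField.card 3 2 (by norm_num)]
      norm_num
    obtain ⟨e'⟩ := Cfsg.Agent.S0254.result hF
    exact ⟨GaloisField 3 2, inferInstance, inferInstance, hF, ⟨e.trans e'.symm⟩⟩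


/-- Let G be a finite simple group whose Sylow 2-subgroups are dihedral, and suppose the centralizer of some involution of G is properly contained in a subgroup whose generalized Fitting subgroup equals its Fitting subgroup (a subgroup without components). Then G is isomorphic to the alternating group of degree 5 or 7, to PSL(3, 2), or to PSL(2, 9). -/
theorem result {G : Type*} [Group G] [Finite G] [IsSimpleGroup G] (S : Sylow 2 G) (m : ℕ) (eS : ↥(S : Subgroup G) ≃* DihedralGroup m)
    (t : G) (ht : orderOf t = 2) (K : Subgroup G) (hlt : Subgroup.centralizer ({t} : Set G) < K)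
    (hK : Cfsg.generalizedFittingSubgroup ↥K = Cfsg.fittingSubgroup ↥K) :
    Nonempty (G ≃* ↥(alternatingGroup (Fin 5))) ∨ Nonempty (G ≃* ↥(alternatingGroup (Fin 7))) ∨
      (∃ (F : Type) (_ : Field F) (_ : Fintype F), Fintype.card F = 2 ∧ Nonempty (G ≃* Matrix.ProjectiveSpecialLinearGroup (Fin 3) F)) ∨
      (∃ (F : Type) (_ : Field F) (_ : Fintype F), Fintype.card F = 9 ∧ Nonempty (G ≃* Matrix.ProjectiveSpecialLinearGroup (Fin 2) F)) := by
  haveI : Fact (Nat.Prime 2) := ⟨Nat.prime_two⟩
  have hna : ¬ IsMulCommutative G := fun h => hlt.not_ge fun k _ =>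
    Subgroup.mem_centralizer_singleton_iff.2 (Std.Commutative.comm k t)
  haveI : Group.IsPerfect G := ⟨(IsSimpleGroup.eq_bot_or_eq_top_of_normal (commutator G) inferInstance).resolve_left
    fun e => hna ⟨⟨fun a b => commutatorElement_eq_one_iff_mul_comm.1 (Subgroup.mem_bot.1 (e ▸
      Subgroup.commutator_mem_commutator (Subgroup.mem_top a) (Subgroup.mem_top b)))⟩⟩⟩
  have hm : 2 ≤ m := by
    rcases Nat.lt_or_ge m 2 with h | h
    · exfalso
      interval_cases m
      · haveI : Finite (DihedralGroup 0) := Finite.of_equiv _ eS.toEquiv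
        exact not_finite (DihedralGroup 0)
      · have hc : Nat.card (S : Subgroup G) = 2 := by
          rw [Nat.card_congr eS.toEquiv, DihedralGroup.nat_card]
        haveI : IsCyclic (S : Subgroup G) := isCyclic_of_prime_card hc
        rw [sylow_eq_bot_of_cyclic S inferInstance, Subgroup.card_bot] at hc
        norm_num at hc
    · exact h
  have hs : Simp G := ⟨inferInstance, hna, ⟨S, m, hm, ⟨eS⟩⟩⟩
  obtain ⟨v, hv, hc, hne, hVK, hnormK⟩ := core_four hs ht hlt hK
  have hnorm : ∀ c, c * t = t * c → ∀ x ∈ four t v, c * x * c⁻¹ ∈ four t v :=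
    fun c hc' => hnormK c (hlt.le (mem_cent.2 hc'))
  obtain ⟨P, htP, hPc⟩ := hs.exists_sylow ht
  obtain ⟨n, hn, ⟨eP⟩⟩ := hs.dihedral.shape P
  have hcard : Nat.card (P : Subgroup G) = 2 * n := (Nat.card_congr eP.toEquiv).trans DihedralGroup.nat_card
  have hle := sylow_le_eight hs ht hv hc hne P hPc hnorm
  have hV := isKleinFour_four ht hv hc hne
  have hVC : four t v ≤ Subgroup.centralizer ({t} : Set G) := four_le (mem_cent_self t) (mem_cent.2 hc.symm)
  have hVP : four t v ≤ (P : Subgroup G) := by
    have hPN : (P : Subgroup G) ≤ Subgroup.normalizer ((four t v : Subgroup G) : Set G) :=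
      fun s hs' => Subgroup.mem_normalizer_fintype fun x hx => hnorm s (hPc s hs') x hx
    exact le_sup_right.trans (P.is_maximal'
      (P.2.to_sup_of_normal_right' (CfsgLib.DihedralFusion.isPGroup_klein hV) hPN) le_sup_left).le
  obtain ⟨k, hk⟩ := IsPGroup.iff_card.1 P.2
  have hk' : k = 2 ∨ k = 3 := by
    have h4 : 4 ≤ 2 ^ k := by rw [← hk, hcard]; omega
    have h8 : 2 ^ k ≤ 8 := hk ▸ hle
    have h1 : k ≤ 3 := by
      by_contra h
      have := Nat.pow_le_pow_right two_pos (show 4 ≤ k by omega)
      omega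
    interval_cases k <;> omega
  rcases hk' with rfl | rfl
  · -- a four group
    left
    have e : four t v = (P : Subgroup G) := Subgroup.eq_of_le_of_card_ge hVP (by rw [hk, hV.card_four]; norm_num)
    refine Cfsg.Agent.S3278.result t ht (four t v) hVC hV (fun h2 => ?_) ?_
    · refine P.not_dvd_index ?_
      rw [← e]
      exact h2.trans ⟨_, (Subgroup.relIndex_mul_index hVC).symm⟩
    · exact ⟨fun x hx c => hnorm c (Subgroup.mem_centralizer_singleton_iff.1 c.2) x hx⟩
  · right
    haveI := Fintype.ofFinite G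
    obtain ⟨σ, τ, O, hE, hσt⟩ := exists_eight hs ht hv hc hne P htP hPc hk hnorm
    rcases hE.small with hO | hG
    · right
      refine small_centralizer hs ht (fun e => hlt.not_ge (e ▸ le_top)) ?_
      have hPC : (P : Subgroup G) ≤ Subgroup.centralizer ({t} : Set G) := fun s hs' => mem_cent.2 (hPc s hs')
      have e : (P : Subgroup G) = Subgroup.centralizer ({t} : Set G) := Subgroup.eq_of_le_of_card_ge hPC (by
        rw [← hσt, hE.card_cent, hO, hk]
        norm_num)
      obtain rfl : n = 4 := by omega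
      exact ⟨(MulEquiv.subgroupCongr e.symm).trans eP⟩
    · exact Or.inl (Cfsg.Agent.S0984.result hG)

end Cfsg.Agent.S3287
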