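import Cfsg.Statements.S3864
import Mathlib
import Cfsg.Agent.Lib.DihedralTransfer
import Cfsg.Agent.Lib.DihedralClasses
-- import your own Cfsg.Agent.* helpers here

set_option autoImplicit false
open Cfsg

namespace Cfsg.Agent.S3864

namespace Aux

universe a

open DihedralGroup CfsgLib.DihedralFusion CfsgLib.LocalFusion

variable {X : Type a} [Group X] [Finite X]

theorem par_conj {m : ℕ} [NeZero m] (hd : 2 ∣ m) (x : DihedralGroup m) :
    x * sr 0 * x⁻¹ ≠ sr 1 := by
  intro e
  refine not_evenIdx hd (map_one (ZMod.castHom hd (ZMod 2))) ?_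
  cases x with
  | r k =>
    rw [inv_r, r_mul_sr, sr_mul_r, sr.injEq] at e
    exact ⟨-k, by rw [← e]; ring⟩
  | sr k =>
    rw [inv_sr, sr_mul_sr, r_mul_sr, sr.injEq] at e
    exact ⟨k, by rw [← e]; ring⟩

theorem conj_r_shape {m : ℕ} (x : DihedralGroup m) (j i : ZMod m) : x * r j * x⁻¹ ≠ sr i := by
  cases x with
  | r k => rw [inv_r, r_mul_r, r_mul_r]; exact fun e => by cases e
  | sr k => rw [inv_sr, sr_mul_r, sr_mul_sr]; exact fun e => by cases e

theorem main (P : Sylow 2 X) (n : ℕ) (hn : 3 ≤ n) (eS : (P : Subgroup X) ≃* DihedralGroup (2 ^ (n - 1))) :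
    (Nat.card {C : ConjClasses X // ∃ g : X, ConjClasses.mk g = C ∧ orderOf g = 2} = 1 ∧
      ∀ N : Subgroup X, N.Normal → N.index ≠ 2) ∨
    (Nat.card {C : ConjClasses X // ∃ g : X, ConjClasses.mk g = C ∧ orderOf g = 2} = 2 ∧
      (∃ N : Subgroup X, N.Normal ∧ N.index = 2) ∧ ∀ N : Subgroup X, N.Normal → N.index ≠ 4) ∨
    (Nat.card {C : ConjClasses X // ∃ g : X, ConjClasses.mk g = C ∧ orderOf g = 2} = 3 ∧
      Cfsg.HasNormalPComplement 2 X) := by
  haveI : Fact (Nat.Prime 2) := ⟨Nat.prime_two⟩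
  generalize hm : 2 ^ (n - 1) = m at eS
  have hm4 : 4 ≤ m := by
    rw [← hm]; exact le_trans (by norm_num) (Nat.pow_le_pow_right two_pos (show 2 ≤ n - 1 by omega))
  have hm4' : 4 ∣ m := hm ▸ (show 4 = 2 ^ 2 by norm_num) ▸ Nat.pow_dvd_pow 2 (show 2 ≤ n - 1 by omega)
  haveI : NeZero m := ⟨by omega⟩
  obtain ⟨h2, hdvd⟩ := even_shape eS (show 2 ≤ m by omega)
  set h := ((m / 2 : ℕ) : ZMod m) with hh'
  have hh : h ≠ 0 := fun e => by
    have := Nat.le_of_dvd (by omega) ((ZMod.natCast_eq_zero_iff _ m).mp e)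
    omega
  set z := pt eS (r h)
  set a := pt eS (sr 0)
  set b := pt eS (sr 1)
  have hzo : orderOf z = 2 :=
    orderOf_pt eS (fun e => hh (r.inj (e.trans one_def))) ((sq_r _).mpr (half_add_half h2.symm))
  have hso : ∀ i : ZMod m, orderOf (pt eS (sr i)) = 2 := fun i =>
    orderOf_pt eS (fun e => by rw [one_def] at e; cases e) (sr_mul_self i)
  have hpar : ∀ i : ZMod m, IsConj (pt eS (sr i)) a ∨ IsConj (pt eS (sr i)) b := fun i => by
    have hc : ∀ c j : ZMod m, i = c + (j + j) → IsConj (pt eS (sr i)) (pt eS (sr c)) := fun c j e => by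
      refine isConj_iff.mpr ⟨pt eS (r j), ?_⟩
      rw [← pt_inv, ← pt_mul, ← pt_mul, inv_r, r_mul_sr, sr_mul_r, e]
      exact congrArg (fun t => pt eS (sr t)) (by ring)
    rcases evenIdx_or i with ⟨j, hj⟩ | ⟨j, hj⟩
    · exact Or.inl (hc 0 j (by rw [zero_add]; exact hj))
    · exact Or.inr (hc 1 j hj)
  have hall : ∀ t : X, orderOf t = 2 → IsConj t z ∨ IsConj t a ∨ IsConj t b := fun t ht => by
    obtain ⟨g, hg⟩ := exists_conj_le (S := P) (T := Subgroup.zpowers t)
      (IsPGroup.of_card (n := 1) (by rw [Nat.card_zpowers, ht]; rfl))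
    have htS : g * t * g⁻¹ ∈ (P : Subgroup X) := hg ⟨t, Subgroup.mem_zpowers t, rfl⟩
    have h1 : IsConj t (g * t * g⁻¹) := isConj_iff.mpr ⟨g, rfl⟩
    have hsq : (⟨g * t * g⁻¹, htS⟩ : (P : Subgroup X)) * ⟨g * t * g⁻¹, htS⟩ = 1 := Subtype.ext (by
      show g * t * g⁻¹ * (g * t * g⁻¹) = 1
      rw [show g * t * g⁻¹ * (g * t * g⁻¹) = g * (t * t) * g⁻¹ by group, ← sq,
        orderOf_dvd_iff_pow_eq_one.mp ht.dvd]
      group)
    rcases hc : eS ⟨g * t * g⁻¹, htS⟩ with j | j
    · have h2' := congrArg eS hsq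
      rw [map_mul, map_one, hc] at h2'
      rcases two_torsion h2.symm (by omega) ((sq_r j).mp h2') with rfl | rfl
      · exfalso
        have : g * t * g⁻¹ = 1 := by rw [← pt_eq eS htS, hc]; exact pt_one eS
        have : t = 1 := by simpa using this
        rw [this, orderOf_one] at ht
        omega
      · left
        rw [show z = g * t * g⁻¹ by rw [← pt_eq eS htS, hc]]
        exact h1
    · rcases hpar j with h3 | h3
      · exact Or.inr (Or.inl (h1.trans (by rwa [← pt_eq eS htS, hc])))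
      · exact Or.inr (Or.inr (h1.trans (by rwa [← pt_eq eS htS, hc])))
  have hcard : ∀ s : Set (ConjClasses X), s = {ConjClasses.mk z, ConjClasses.mk a, ConjClasses.mk b} →
      Nat.card {C : ConjClasses X // ∃ g : X, ConjClasses.mk g = C ∧ orderOf g = 2} = s.ncard := fun s hs => by
    rw [show {C : ConjClasses X // ∃ g : X, ConjClasses.mk g = C ∧ orderOf g = 2} =
      ↥{C : ConjClasses X | ∃ g : X, ConjClasses.mk g = C ∧ orderOf g = 2} from rfl, Nat.card_coe_set_eq, hs]
    congr 1
    ext C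
    constructor
    · rintro ⟨g, rfl, hg⟩
      rcases hall g hg with h | h | h <;> simp [ConjClasses.mk_eq_mk_iff_isConj.mpr h]
    · rintro (rfl | rfl | rfl)
      exacts [⟨z, rfl, hzo⟩, ⟨a, rfl, hso 0⟩, ⟨b, rfl, hso 1⟩]
  by_cases hone : IsConj a z ∧ IsConj b z
  · refine Or.inl ⟨?_, fun N _ => (fusion_simple_of_all_conj eS (by omega) fun s t hs ht => ?_).1 N⟩
    · rw [hcard _ rfl, ConjClasses.mk_eq_mk_iff_isConj.mpr hone.1, ConjClasses.mk_eq_mk_iff_isConj.mpr hone.2]
      simp
    · have key : ∀ u : X, orderOf u = 2 → IsConj u z := fun u hu => by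
        rcases hall u hu with h | h | h
        exacts [h, h.trans hone.1, h.trans hone.2]
      exact (key s hs).trans (key t ht).symm
  -- some four subgroup lacks an odd automorphism
  obtain ⟨U, hU, hUK, hUL⟩ : ∃ U : Subgroup X, U ≤ (P : Subgroup X) ∧ IsKleinFour U ∧ Lacking U := by
    by_contra hcon
    push Not at hcon
    have := all_conj_of_not_lacking eS (show 2 ≤ m by omega) hcon
    exact hone ⟨this a z (hso 0) hzo, this b z (hso 1) hzo⟩
  obtain ⟨H, hH⟩ := exists_index_two_of_lacking eS (by omega) hU hUK hUL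
  by_cases hsome : IsConj a z ∨ IsConj b z
  · refine Or.inr (Or.inl ⟨?_, ⟨H, Subgroup.normal_of_index_eq_two hH, hH⟩, fun N hN hN4 => ?_⟩)
    · rcases hsome with h | h
      · have hne : ConjClasses.mk z ≠ ConjClasses.mk b := fun e =>
          hone ⟨h, (ConjClasses.mk_eq_mk_iff_isConj.mp e).symm⟩
        rw [hcard _ rfl, ConjClasses.mk_eq_mk_iff_isConj.mpr h, Set.insert_eq_of_mem (Set.mem_insert _ _)]
        exact Set.ncard_pair hne
      · have hne : ConjClasses.mk a ≠ ConjClasses.mk z := fun e =>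
          hone ⟨ConjClasses.mk_eq_mk_iff_isConj.mp e, h⟩
        rw [hcard _ rfl, ConjClasses.mk_eq_mk_iff_isConj.mpr h, Set.insert_comm, Set.pair_eq_singleton]
        exact Set.ncard_pair hne
    · have hQ4 : Nat.card (X ⧸ N) = 4 := by rw [← N.index_eq_card, hN4]
      have hQc : IsMulCommutative (X ⧸ N) := IsPGroup.isMulCommutative_of_card_eq_prime_sq (p := 2) hQ4
      have hcomm : ∀ u v : X ⧸ N, u * v = v * u := fun u v => hQc.is_comm.comm u v
      let ψ : DihedralGroup m →* X ⧸ N :=
        (QuotientGroup.mk' N).comp ((P : Subgroup X).subtype.comp eS.symm.toMonoidHom)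
      have hψs : Function.Surjective ψ := by
        rw [← MonoidHom.range_eq_top, ← Subgroup.index_eq_one]
        have hr : ψ.range = (P : Subgroup X).map (QuotientGroup.mk' N) := by
          ext y
          constructor
          · rintro ⟨d, rfl⟩; exact ⟨_, (eS.symm d).2, rfl⟩
          · rintro ⟨x, hx, rfl⟩; exact ⟨eS ⟨x, hx⟩, by simp [ψ]⟩
        rw [hr]
        have hcop4 : (P : Subgroup X).index.Coprime 4 :=
          Nat.Coprime.pow_right 2 (Nat.coprime_comm.mp (Nat.prime_two.coprime_iff_not_dvd.mpr P.not_dvd_index))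
        exact Nat.eq_one_of_dvd_coprimes hcop4
          (Subgroup.index_map_dvd (P : Subgroup X) (QuotientGroup.mk'_surjective N)) (hQ4 ▸ Subgroup.index_dvd_card _)
      have hflip : ∀ t : ZMod m, ψ (r (-t)) = ψ (r t) := fun t => by
        have e : (r (-t) : DihedralGroup m) = sr 0 * r t * sr 0 := by
          rw [sr_mul_r, sr_mul_sr]; exact congrArg r (by ring)
        rw [e, map_mul, map_mul, hcomm (ψ (sr 0)) (ψ (r t)), mul_assoc, ← map_mul ψ (sr 0), sr_mul_self, map_one,
          mul_one]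
      have hdbl : ∀ t : ZMod m, ψ (r (t + t)) = 1 := fun t => by
        rw [← r_mul_r, map_mul]
        nth_rw 1 [← hflip t]
        rw [← map_mul, r_mul_r, neg_add_cancel, ← one_def, map_one]
      have hz1 : ψ (r h) = 1 := by
        obtain ⟨q, hq⟩ := hm4'
        rw [show h = (q : ZMod m) + q by rw [hh', ← Nat.cast_add]; congr 1; omega]
        exact hdbl _
      obtain ⟨c, hc⟩ : ∃ c : ZMod m, ψ (sr c) = 1 := by
        have key : ∀ c : ZMod m, IsConj (pt eS (sr c)) z → ψ (sr c) = 1 := fun c hc => by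
          obtain ⟨x, hx⟩ := isConj_iff.mp hc
          have e := congrArg (QuotientGroup.mk' N) hx
          rw [map_mul, map_mul, hcomm (QuotientGroup.mk' N x), mul_assoc, ← map_mul, mul_inv_cancel, map_one,
            mul_one] at e
          exact e.trans hz1
        rcases hsome with h | h
        exacts [⟨0, key 0 h⟩, ⟨1, key 1 h⟩]
      have himg : ∀ d, ψ d = 1 ∨ ψ d = ψ (r 1) := by
        have hr : ∀ i : ℕ, ψ (r (i : ZMod m)) = 1 ∨ ψ (r (i : ZMod m)) = ψ (r 1) := by
          intro i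
          obtain ⟨q, rfl | rfl⟩ := i.even_or_odd'
          · left; rw [show ((2 * q : ℕ) : ZMod m) = (q : ZMod m) + q by push_cast; ring]; exact hdbl _
          · right
            rw [show ((2 * q + 1 : ℕ) : ZMod m) = ((q : ZMod m) + q) + 1 by push_cast; ring, ← r_mul_r, map_mul,
              hdbl, one_mul]
        intro d
        cases d with
        | r i => rw [← ZMod.natCast_zmod_val i]; exact hr _
        | sr i =>
          rw [show (sr i : DihedralGroup m) = sr c * r (i - c) by rw [sr_mul_r]; exact congrArg sr (by ring), map_mul,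
            hc, one_mul, ← ZMod.natCast_zmod_val (i - c)]
          exact hr _
      have h5 : (Set.univ : Set (X ⧸ N)).ncard ≤ ({1, ψ (r 1)} : Set (X ⧸ N)).ncard :=
        Set.ncard_le_ncard (fun y _ => by
          obtain ⟨d, rfl⟩ := hψs y
          rcases himg d with e | e <;> simp [e])
      have h6 : ({1, ψ (r 1)} : Set (X ⧸ N)).ncard ≤ 2 := (Set.ncard_insert_le _ _).trans (by simp)
      rw [Set.ncard_univ, hQ4] at h5
      omega
  -- every four subgroup lacks an odd automorphism
  push Not at hsome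
  have hcomp : Cfsg.HasNormalPComplement 2 X := by
    refine hasNormalPComplement_of_lacking eS (by omega) fun V hV hVK => ?_
    by_contra hVL
    rw [Lacking] at hVL
    push Not at hVL
    obtain ⟨g, hg, hodd, hgC⟩ := hVL
    obtain ⟨i, hi⟩ := klein_shape eS (show 2 ≤ m by omega) hV hVK
    have h1 : pt eS (sr i) ∈ V :=
      (hi _ (pt_mem eS _) (pt_mem eS _)).mpr (Or.inr (Or.inr (Or.inl (eS_pt eS _ _))))
    have h2' : z ∈ V := (hi _ (pt_mem eS _) (pt_mem eS _)).mpr (Or.inr (Or.inl (eS_pt eS _ _)))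
    have h3 := klein_isConj hVK hg hgC hodd h1 (fun e => by have := hso i; rw [e, orderOf_one] at this; omega) h2'
      (fun e => by rw [e, orderOf_one] at hzo; omega)
    rcases hpar i with h4 | h4
    exacts [hsome.1 (h4.symm.trans h3), hsome.2 (h4.symm.trans h3)]
  refine Or.inr (Or.inr ⟨?_, hcomp⟩)
  have hne : ConjClasses.mk a ≠ ConjClasses.mk b := fun e => by
    obtain ⟨Q, N, hN, hNQ⟩ := hcomp
    haveI := hN
    obtain ⟨g, hg⟩ := isConj_iff.mp (ConjClasses.mk_eq_mk_iff_isConj.mp e)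
    have hcop : (Nat.card N).Coprime (Nat.card (P : Subgroup X)) := by
      rw [Sylow.card_eq_multiplicity P]
      refine Nat.Coprime.pow_right _ (Nat.coprime_comm.mp (Nat.prime_two.coprime_iff_not_dvd.mpr ?_))
      rw [← hNQ.index_eq_card]
      exact Q.not_dvd_index
    have hNP : N.IsComplement' (P : Subgroup X) := Subgroup.isComplement'_of_coprime (by
      rw [← hNQ.card_mul, Sylow.card_eq_multiplicity P, Sylow.card_eq_multiplicity Q]) hcop
    obtain ⟨u, hu, s, hs, rfl⟩ := Subgroup.mem_sup_of_normal_left.mp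
      (hNP.sup_eq_top ▸ Subgroup.mem_top g : g ∈ N ⊔ (P : Subgroup X))
    set v := s * a * s⁻¹
    have hv : v ∈ (P : Subgroup X) := mul_mem (mul_mem hs (pt_mem eS _)) (inv_mem hs)
    have hb : u * v * u⁻¹ = b := by rw [← hg]; simp only [v]; group
    have h1 : b * v⁻¹ ∈ N := by
      rw [← hb, show u * v * u⁻¹ * v⁻¹ = u * (v * u⁻¹ * v⁻¹) by group]
      exact mul_mem hu (hN.conj_mem _ (inv_mem hu) v)
    have h2' : b = v := mul_inv_eq_one.mp (Subgroup.mem_bot.mp
      (hNP.disjoint.le_bot (Subgroup.mem_inf.mpr ⟨h1, mul_mem (pt_mem eS _) (inv_mem hv)⟩)))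
    refine par_conj hdvd (eS ⟨s, hs⟩) ?_
    apply pt_injective eS
    rw [pt_mul, pt_mul, pt_inv, pt_eq]
    exact h2'.symm
  rw [hcard _ rfl, Set.ncard_eq_three]
  exact ⟨_, _, _, fun e => hsome.1 (ConjClasses.mk_eq_mk_iff_isConj.mp e).symm,
    fun e => hsome.2 (ConjClasses.mk_eq_mk_iff_isConj.mp e).symm, hne, rfl⟩

end Aux

/-- Let G be a finite group whose Sylow 2-subgroups are dihedral of order 2 ^ n with n ≥ 3, and count the conjugacy classes of involutions of G. Then exactly one of the following holds: there is one class of involutions and no normal subgroup of index 2; there are two classes of involutions, a normal subgroup of index 2 and none of index 4; there are three classes of involutions and G has a normal 2-complement. -/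
theorem result {G : Type*} [Group G] [Finite G] (P : Sylow 2 G) (n : ℕ) (hn : 3 ≤ n) (hdih : Nonempty (↥(P : Subgroup G) ≃* DihedralGroup (2 ^ (n - 1)))) : (Nat.card {C : ConjClasses G // ∃ g : G, ConjClasses.mk g = C ∧ orderOf g = 2} = 1 ∧ ∀ N : Subgroup G, N.Normal → N.index ≠ 2) ∨ (Nat.card {C : ConjClasses G // ∃ g : G, ConjClasses.mk g = C ∧ orderOf g = 2} = 2 ∧ (∃ N : Subgroup G, N.Normal ∧ N.index = 2) ∧ ∀ N : Subgroup G, N.Normal → N.index ≠ 4) ∨ (Nat.card {C : ConjClasses G // ∃ g : G, ConjClasses.mk g = C ∧ orderOf g = 2} = 3 ∧ Cfsg.HasNormalPComplement 2 G) := by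

  exact Aux.main P n hn hdih.some

end Cfsg.Agent.S3864
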