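import Cfsg.Statements.S4039
import Mathlib
import Cfsg.Agent.Lib.LocalFusion
import Cfsg.Agent.Lib.Transfer
import Cfsg.Agent.Lib.NilpotentCommute
import Cfsg.Agent.Lib.Local
import Cfsg.Agent.Lib.Coprime
-- import your own Cfsg.Agent.* helpers here

set_option autoImplicit false
open Cfsg

namespace Cfsg.Agent.S4039

open scoped commutatorElement

universe uu

private theorem normal_complement_of_maximal {G : Type uu} [Group G] [Finite G] {p : ℕ} [hp : Fact p.Prime] (M : Subgroup G)
    (hmax : IsCoatom M) (hnil : Group.IsNilpotent M)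
    (hcl : ∀ a ∈ M, ∀ b ∈ M, ∀ c ∈ M, Commute ⁅a, b⁆ c)
    (hcore : ∀ N : Subgroup G, N.Normal → Group.IsSolvable N → N = ⊥) (hd : p ∣ Nat.card M) :
    Cfsg.HasNormalPComplement p G := by
  obtain ⟨S₀⟩ : Nonempty (Sylow p M) := inferInstance
  have hS₀n : (S₀ : Subgroup M).Normal := Sylow.normal_of_all_max_subgroups_normal
    (fun H hH => Subgroup.NormalizerCondition.normal_of_coatom H Group.normalizerCondition_of_isNilpotent hH) S₀
  set S : Subgroup G := (S₀ : Subgroup M).map M.subtype with hS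
  have hSM : S ≤ M := Subgroup.map_subtype_le _
  have hSp : IsPGroup p S := S₀.2.map _
  have hne : ∀ X : Subgroup G, X ≤ S → X ≠ ⊥ → M ≤ Subgroup.normalizer (X : Set G) →
      Subgroup.normalizer (X : Set G) = M := by
    intro X hX hX1 hM
    refine ((hmax.le_iff.mp hM).resolve_left fun htop => hX1 ?_)
    have := (hSp.to_le hX).isNilpotent
    exact hcore X (Subgroup.normalizer_eq_top_iff.mp htop) inferInstance
  have hSne : S ≠ ⊥ := by
    intro e
    rw [hS, Subgroup.map_eq_bot_iff_of_injective _ M.subtype_injective] at e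
    exact S₀.ne_bot_of_dvd_card hd e
  have hNS : Subgroup.normalizer (S : Set G) = M := by
    refine hne S le_rfl hSne ?_
    intro m hm
    refine CfsgLib.Local.mem_normalizer_of_map_conj_eq ?_
    refine Subgroup.eq_of_le_of_card_ge ?_ ((Subgroup.card_map_of_injective (MulAut.conj m).injective).ge)
    rintro _ ⟨_, ⟨w, hw, rfl⟩, rfl⟩
    exact ⟨⟨m, hm⟩ * w * ⟨m, hm⟩⁻¹, hS₀n.conj_mem w hw _, rfl⟩
  -- S is a Sylow subgroup of G
  obtain ⟨T, hT⟩ := hSp.exists_le_sylow
  have hTS : (T : Subgroup G) = S := by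
    by_contra hne'
    have hlt : S.subgroupOf (T : Subgroup G) < ⊤ := lt_top_iff_ne_top.mpr fun e =>
      hne' (le_antisymm (Subgroup.subgroupOf_eq_top.mp e) hT)
    have := T.2.isNilpotent
    obtain ⟨t, ht, htn⟩ := SetLike.exists_of_lt (Group.normalizerCondition_of_isNilpotent _ hlt)
    have htM : (t : G) ∈ M := by
      rw [← hNS, Subgroup.mem_normalizer_iff]
      intro y
      have h1 := Subgroup.mem_normalizer_iff.mp ht
      by_cases hy : y ∈ (T : Subgroup G)
      · simpa [Subgroup.mem_subgroupOf] using h1 ⟨y, hy⟩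
      · refine ⟨fun h => absurd (hT h) hy, fun h => absurd ?_ hy⟩
        have h2 := (T : Subgroup G).mul_mem ((T : Subgroup G).mul_mem ((T : Subgroup G).inv_mem t.2) (hT h)) t.2
        convert h2 using 1
        group
    have hle := S₀.3 (T.2.comap_of_injective M.subtype M.subtype_injective) (fun w hw => hT ⟨w, hw, rfl⟩)
    have : (⟨(t : G), htM⟩ : M) ∈ (S₀ : Subgroup M) := hle.le (show (⟨(t : G), htM⟩ : M) ∈ (T : Subgroup G).comap M.subtype from t.2)
    exact htn (Subgroup.mem_subgroupOf.mpr ⟨_, this, rfl⟩)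
  refine CfsgLib.Transfer.hasNormalPComplement_of_control T ?_
  let r : G → G → Prop := fun x y => ∃ s ∈ (T : Subgroup G), s * x * s⁻¹ = y
  have hr : Equivalence r := ⟨fun x => ⟨1, one_mem _, by simp⟩,
    fun {x y} ⟨s, hs, e⟩ => ⟨s⁻¹, inv_mem hs, by rw [← e]; group⟩,
    fun {x y z} ⟨s, hs, e⟩ ⟨t, ht, e'⟩ => ⟨t * s, mul_mem ht hs, by rw [← e', ← e]; group⟩⟩
  intro x hx g hg
  refine CfsgLib.LocalFusion.fusion_rel T r hr (fun s hs y _ => ⟨s, hs, rfl⟩) ?_ hx hg
  intro P hPT hPc _ g hgN y hy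
  rw [hTS] at hPT hPc
  -- P is normal in M
  have hdec : ∀ m ∈ M, ∃ s ∈ S, ∃ c ∈ Subgroup.centralizer (S : Set G), m = s * c := by
    intro m hm
    set μ : M := ⟨m, hm⟩
    obtain ⟨a, k, hk, hak⟩ := Nat.exists_eq_pow_mul_and_not_dvd (orderOf_pos μ).ne' p hp.out.ne_one
    obtain ⟨u, v, huv⟩ : IsCoprime (k : ℤ) ((p : ℤ) ^ a) :=
      IsCoprime.pow_right (((Nat.prime_iff_prime_int.mp hp.out).coprime_iff_not_dvd.mpr (by exact_mod_cast hk)).symm)
    have h1 : μ ^ k ∈ (S₀ : Subgroup M) := by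
      have hp' : IsPGroup p (Subgroup.zpowers (μ ^ k)) := by
        refine IsPGroup.of_card (n := a) ?_
        rw [Nat.card_zpowers, orderOf_pow μ, hak, Nat.gcd_eq_right (dvd_mul_left k _),
          Nat.mul_div_cancel _ (Nat.pos_of_ne_zero fun (h0 : k = 0) => hk (h0 ▸ dvd_zero _))]
      exact (S₀.3 (hp'.to_sup_of_normal_right S₀.2) le_sup_right).le (Subgroup.mem_sup_left (Subgroup.mem_zpowers _))
    refine ⟨(((μ ^ k) ^ u : M) : G), ⟨_, zpow_mem h1 u, rfl⟩, (((μ ^ p ^ a) ^ v : M) : G), ?_, ?_⟩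
    · rw [Subgroup.mem_centralizer_iff]
      rintro _ ⟨w, hw, rfl⟩
      have hc : Commute w (μ ^ p ^ a) := by
        refine CfsgLib.commute_of_nilpotent _ _ ?_
        obtain ⟨j, hj⟩ := IsPGroup.iff_orderOf.mp S₀.2 ⟨w, hw⟩
        rw [Subgroup.orderOf_mk] at hj
        rw [hj, orderOf_pow μ, hak, Nat.gcd_eq_right (dvd_mul_right _ k), Nat.mul_div_cancel_left _ (pow_pos hp.out.pos _)]
        exact ((hp.out.coprime_iff_not_dvd).mpr hk).pow_left j
      exact congrArg Subtype.val (hc.zpow_right v).eq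
    · have e : μ = (μ ^ k) ^ u * (μ ^ p ^ a) ^ v := by
        rw [← zpow_natCast μ k, ← zpow_natCast μ (p ^ a), ← zpow_mul, ← zpow_mul, ← zpow_add, mul_comm _ u, mul_comm _ v]
        push_cast
        rw [huv, zpow_one]
      exact congrArg Subtype.val e
  have hPn : ∀ s ∈ S, ∀ z ∈ P, s * z * s⁻¹ ∈ P := by
    intro s hs z hz
    have hcomm : ⁅s, z⁆ ∈ P := by
      refine hPc (Subgroup.mem_inf.mpr ⟨?_, ?_⟩)
      · rw [commutatorElement_def]
        exact S.mul_mem (S.mul_mem (S.mul_mem hs (hPT hz)) (S.inv_mem hs)) (S.inv_mem (hPT hz))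
      · rw [Subgroup.mem_centralizer_iff]
        intro c hc
        exact (hcl s (hSM hs) z (hSM (hPT hz)) c (hSM (hPT hc))).eq.symm
    have := P.mul_mem hcomm hz
    rwa [commutatorElement_def, inv_mul_cancel_right] at this
  by_cases hP1 : P = ⊥
  · subst hP1
    rw [Subgroup.mem_bot] at hy
    subst hy
    exact ⟨1, one_mem _, by simp⟩
  have hgM : g ∈ M := by
    rw [← hne P hPT hP1 fun m hm => ?_]; exact hgN
    refine CfsgLib.Local.mem_normalizer_of_map_conj_eq ?_
    refine Subgroup.eq_of_le_of_card_ge ?_ ((Subgroup.card_map_of_injective (MulAut.conj m).injective).ge)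
    rintro _ ⟨z, hz, rfl⟩
    obtain ⟨s, hs, c, hc, rfl⟩ := hdec m hm
    show s * c * z * (s * c)⁻¹ ∈ P
    rw [mul_inv_rev, show s * c * z * (c⁻¹ * s⁻¹) = s * (c * z * c⁻¹) * s⁻¹ by group,
      ← Subgroup.mem_centralizer_iff.mp hc z (hPT hz), mul_inv_cancel_right]
    exact hPn s hs z hz
  obtain ⟨s, hs, c, hc, rfl⟩ := hdec g hgM
  refine ⟨s, hTS ▸ hs, ?_⟩
  rw [mul_inv_rev, show s * c * y * (c⁻¹ * s⁻¹) = s * (c * y * c⁻¹) * s⁻¹ by group,
    ← Subgroup.mem_centralizer_iff.mp hc y (hPT hy), mul_inv_cancel_right]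

private theorem main : ∀ (n : ℕ) (G : Type uu) [Group G] [Finite G], Nat.card G = n → ∀ M : Subgroup G, IsCoatom M →
    Group.IsNilpotent M → (∀ a ∈ M, ∀ b ∈ M, ∀ c ∈ M, Commute ⁅a, b⁆ c) → Group.IsSolvable G := by
  intro n
  induction n using Nat.strong_induction_on with
  | _ n IH =>
  intro G _ _ hn M hmax hnil hcl
  subst hn
  have := hnil
  by_cases hcore : ∀ N : Subgroup G, N.Normal → Group.IsSolvable N → N = ⊥
  swap
  · push Not at hcore
    obtain ⟨N, hN, hNs, hN1⟩ := hcore
    have hq : Group.IsSolvable (G ⧸ N) := by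
      by_cases hNM : N ≤ M
      · refine IH _ ?_ (G ⧸ N) rfl (M.map (QuotientGroup.mk' N)) ?_ ?_ ?_
        · rw [Subgroup.card_eq_card_quotient_mul_card_subgroup N]
          exact lt_mul_of_one_lt_right Nat.card_pos (Finite.one_lt_card_iff_nontrivial.mpr ((Subgroup.nontrivial_iff_ne_bot N).mpr hN1))
        · have hcm : (M.map (QuotientGroup.mk' N)).comap (QuotientGroup.mk' N) = M :=
            Subgroup.comap_map_eq_self (by rwa [QuotientGroup.ker_mk'])
          refine ⟨fun e => hmax.1 ?_, fun L hL => ?_⟩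
          · rw [← hcm, e, Subgroup.comap_top]
          · have hL' : L.comap (QuotientGroup.mk' N) = ⊤ :=
              hmax.2 _ (hcm.symm.trans_lt ((Subgroup.comap_lt_comap_of_surjective (QuotientGroup.mk'_surjective N)).mpr hL))
            rw [← Subgroup.map_comap_eq_self_of_surjective (QuotientGroup.mk'_surjective N) L, hL',
              Subgroup.map_top_of_surjective _ (QuotientGroup.mk'_surjective N)]
        · exact Group.nilpotent_of_surjective ((QuotientGroup.mk' N).subgroupMap M) ((QuotientGroup.mk' N).subgroupMap_surjective M)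
        · rintro _ ⟨a, ha, rfl⟩ _ ⟨b, hb, rfl⟩ _ ⟨c, hc, rfl⟩
          rw [← map_commutatorElement]
          exact (hcl a ha b hb c hc).map _
      · have htop : M ⊔ N = ⊤ := hmax.2 _ (left_lt_sup.mpr hNM)
        refine Group.isSolvable_of_surjective (f := (QuotientGroup.mk' N).comp M.subtype) fun q => ?_
        obtain ⟨g, rfl⟩ := QuotientGroup.mk'_surjective N q
        obtain ⟨m, hm, z, hz, rfl⟩ := Subgroup.mem_sup_of_normal_right.mp (htop ▸ Subgroup.mem_top g)
        exact ⟨⟨m, hm⟩, by simp [map_mul, (QuotientGroup.eq_one_iff z).mpr hz]⟩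
    exact Group.isSolvable_of_ker_le_range N.subtype (QuotientGroup.mk' N) (by rw [QuotientGroup.ker_mk', Subgroup.range_subtype])
  by_cases hM1 : M = ⊥
  · subst hM1
    rcases subsingleton_or_nontrivial G with hs | hnt
    · infer_instance
    · obtain ⟨g, hg⟩ := exists_ne (1 : G)
      have htop := hmax.2 (Subgroup.zpowers g) (bot_lt_iff_ne_bot.mpr (Subgroup.zpowers_ne_bot.mpr hg))
      have : IsCyclic G := ⟨g, fun x => (htop.symm ▸ Subgroup.mem_top x : x ∈ Subgroup.zpowers g)⟩
      have := IsCyclic.isMulCommutative (α := G)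
      exact Group.isSolvable_of_comm fun a b => this.is_comm.comm a b
  -- intersection of the normal complements
  have hcompl : ∀ p : {p : ℕ // p.Prime ∧ p ∣ Nat.card M}, ∃ N : Subgroup G, N.Normal ∧ (∀ q : ℕ, q.Prime → q = p → ¬ q ∣ Nat.card N) ∧
      Group.IsSolvable (G ⧸ (N.normalCore)) ∧ N.normalCore = N := by
    intro p
    have := Fact.mk p.2.1
    obtain ⟨P, N, hN, hc⟩ := normal_complement_of_maximal M hmax hnil hcl hcore p.2.2
    refine ⟨N, hN, fun q _ e => ?_, ?_, Subgroup.normalCore_eq_self N⟩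
    · subst e
      rw [← hc.index_eq_card]
      exact P.not_dvd_index
    · have hpg : IsPGroup p (G ⧸ N.normalCore) := by
        obtain ⟨j, hj⟩ := P.2.exists_card_eq
        refine IsPGroup.of_card (n := j) ?_
        rw [← hj, Subgroup.normalCore_eq_self N, ← hc.symm.index_eq_card]
        rfl
      have := hpg.isNilpotent
      infer_instance
  choose N hN hNp hNq hNc using hcompl
  set K := ⨅ p, N p with hK
  have hKn : K.Normal := Subgroup.normal_iInf_normal hN
  have hKM : (Nat.card M).Coprime (Nat.card K) := by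
    refine Nat.coprime_of_dvd fun q hq hqM hqK => hNp ⟨q, hq, hqM⟩ q hq rfl (hqK.trans (Subgroup.card_dvd_of_le (iInf_le _ _)))
  have hGK : Group.IsSolvable (G ⧸ K) := by
    have : ∀ p, Group.IsSolvable (G ⧸ (N p).normalCore) := hNq
    have : Group.IsSolvable ((p : {p : ℕ // p.Prime ∧ p ∣ Nat.card M}) → G ⧸ (N p).normalCore) := by
      have hd : ∀ p, ∃ d, derivedSeries (G ⧸ (N p).normalCore) d = ⊥ := fun p => (Group.isSolvable_def _).mp (hNq p)
      choose d hd using hd
      have hfin : Finite {p : ℕ // p.Prime ∧ p ∣ Nat.card M} :=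
        Finite.of_injective (fun p => (⟨p.1, Nat.lt_succ_of_le (Nat.le_of_dvd Nat.card_pos p.2.2)⟩ : Fin (Nat.card M + 1)))
          (fun a b h => Subtype.ext (Fin.mk.inj h))
      obtain ⟨D, hD⟩ : ∃ D, ∀ p, d p ≤ D := by
        obtain ⟨D, hD⟩ := Set.Finite.bddAbove (Set.finite_range d)
        exact ⟨D, fun p => hD ⟨p, rfl⟩⟩
      refine (Group.isSolvable_def _).mpr ⟨D, eq_bot_iff.mpr fun f hf => ?_⟩
      rw [Subgroup.mem_bot]
      funext p
      have h1 := map_derivedSeries_le_derivedSeries (Pi.evalMonoidHom (fun p => G ⧸ (N p).normalCore) p) D ⟨f, hf, rfl⟩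
      have h2 : derivedSeries (G ⧸ (N p).normalCore) D ≤ ⊥ := hd p ▸ derivedSeries_antitone _ (hD p)
      exact Subgroup.mem_bot.mp (h2 h1)
    let φ : G →* ((p : {p : ℕ // p.Prime ∧ p ∣ Nat.card M}) → G ⧸ (N p).normalCore) := MonoidHom.pi fun p => QuotientGroup.mk' _
    have hker : φ.ker = K := by
      ext g
      rw [MonoidHom.mem_ker, hK, Subgroup.mem_iInf]
      constructor
      · intro h p
        rw [← hNc p]
        exact (QuotientGroup.eq_one_iff g).mp (congrFun h p)
      · intro h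
        funext p
        exact (QuotientGroup.eq_one_iff g).mpr ((hNc p).symm ▸ h p)
    exact Group.isSolvable_of_isSolvable_injective (f := (QuotientGroup.kerLift φ).comp (QuotientGroup.quotientMulEquivOfEq hker.symm).toMonoidHom)
      ((QuotientGroup.kerLift_injective φ).comp (QuotientGroup.quotientMulEquivOfEq hker.symm).injective)
  have hKbot : K = ⊥ := by
    by_contra hK1
    obtain ⟨q, hq, hqK⟩ := Nat.exists_prime_and_dvd (n := Nat.card K) (fun e => hK1 (Subgroup.card_eq_one.mp e))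
    have := Fact.mk hq
    obtain ⟨R, hR⟩ := CfsgLib.coprime_exists_invariant_sylow (A := M) (K := K) ((Subgroup.normalizer_eq_top K).symm ▸ le_top) hKM (Or.inl inferInstance) q
    set R' := (R : Subgroup K).map K.subtype
    have hR1 : R' ≠ ⊥ := fun e => R.ne_bot_of_dvd_card hqK ((Subgroup.map_eq_bot_iff_of_injective _ K.subtype_injective).mp e)
    have hNR : Subgroup.normalizer (R' : Set G) = M := (hmax.le_iff.mp hR).resolve_left fun htop => hR1 (by
      have := (R.2.map K.subtype).isNilpotent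
      exact hcore R' (Subgroup.normalizer_eq_top_iff.mp htop) inferInstance)
    exact hR1 (eq_bot_iff.mpr fun z hz => by
      have hzM : z ∈ M := hNR ▸ Subgroup.le_normalizer hz
      exact Subgroup.mem_bot.mpr (Subgroup.disjoint_def.mp (Subgroup.disjoint_of_coprime_natCard hKM) hzM (Subgroup.map_subtype_le _ hz)))
  exact Group.isSolvable_of_isSolvable_injective (f := (QuotientGroup.mk' K)) ((MonoidHom.ker_eq_bot_iff _).mp (by rw [QuotientGroup.ker_mk', hKbot]))

/-- A finite group possessing a maximal subgroup that is nilpotent of class at most 2 is solvable. -/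
theorem result {G : Type*} [Group G] [Finite G]
    (M : Subgroup G) (hmax : IsCoatom M) (hnil : Group.IsNilpotent M) (hcl : Group.nilpotencyClass ↥M ≤ 2) :
    Group.IsSolvable G := by
  refine main _ G rfl M hmax hnil fun a ha b hb c hc => ?_
  have := hnil
  have h2 : (⊤ : Subgroup M).lowerCentralSeries 2 = ⊥ := Subgroup.lowerCentralSeries_eq_bot_iff_nilpotencyClass_le.mpr hcl
  have h : ⁅⁅(⟨a, ha⟩ : M), (⟨b, hb⟩ : M)⁆, (⟨c, hc⟩ : M)⁆ ∈ (⊤ : Subgroup M).lowerCentralSeries 2 := by
    rw [Subgroup.lowerCentralSeries_succ, Subgroup.lowerCentralSeries_succ, Subgroup.lowerCentralSeries_zero]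
    exact Subgroup.commutator_mem_commutator (Subgroup.commutator_mem_commutator (Subgroup.mem_top _) (Subgroup.mem_top _)) (Subgroup.mem_top _)
  rw [h2, Subgroup.mem_bot, commutatorElement_eq_one_iff_commute] at h
  exact congrArg Subtype.val h.eq

end Cfsg.Agent.S4039
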