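import Cfsg.Statements.S3744
import Mathlib
import Cfsg.Agent.Lib.HallPi
import Cfsg.Agent.Lib.PSolvable
-- import your own Cfsg.Agent.* helpers here

set_option autoImplicit false
open Cfsg

namespace Cfsg.Agent.S3744

universe u

open scoped Pointwise

/-- Domination form of the `p`-complement theorem. -/
def Dom (p : ℕ) (G : Type u) [Group G] : Prop :=
  (∃ H : Subgroup G, (Nat.card H).Coprime p ∧ ∃ n : ℕ, H.index = p ^ n) ∧
    ∀ H : Subgroup G, (Nat.card H).Coprime p → (∃ n : ℕ, H.index = p ^ n) →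
      ∀ U : Subgroup G, (Nat.card U).Coprime p → ∃ g : G, MulAut.conj g • U ≤ H

theorem isPSolvable_quotient {G : Type u} [Group G] [Finite G] {p : ℕ} [Fact p.Prime]
    (h : Cfsg.IsPSolvable p G) (N : Subgroup G) [N.Normal] : Cfsg.IsPSolvable p (G ⧸ N) := by
  obtain ⟨n, H, h0, h1, hm, hn, hf⟩ := h
  set f := QuotientGroup.mk' N with hf'
  refine ⟨n, fun i => (H i).map f, by simp only [h0, Subgroup.map_bot],
    by simp only [h1]; exact Subgroup.map_top_of_surjective _ (QuotientGroup.mk'_surjective N),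
    fun i j hij => Subgroup.map_mono (hm hij),
    fun i => (hn i).map f (QuotientGroup.mk'_surjective N), fun i => ?_⟩
  set A := H i.castSucc
  set B := H i.succ
  have hdvd : (A.map f).relIndex (B.map f) ∣ A.relIndex B := by
    have hmap : (A.subgroupOf B).map (f.subgroupMap B) = (A.map f).subgroupOf (B.map f) := by
      ext ⟨z, hz⟩
      constructor
      · rintro ⟨y, hy, hyz⟩
        exact ⟨y, hy, congrArg Subtype.val hyz⟩
      · rintro ⟨y, hy, hyz⟩
        exact ⟨⟨y, hm (Fin.castSucc_le_succ i) hy⟩, hy, Subtype.ext hyz⟩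
    show ((A.map f).subgroupOf (B.map f)).index ∣ _
    rw [← hmap]
    exact Subgroup.index_map_dvd _ (f.subgroupMap_surjective B)
  rcases hf i with ⟨m, hm'⟩ | hc
  · obtain ⟨m', -, hm''⟩ := (Nat.dvd_prime_pow (Fact.out : p.Prime)).mp (hm' ▸ hdvd)
    exact Or.inl ⟨m', hm''⟩
  · exact Or.inr (hc.coprime_dvd_left hdvd)

theorem dom {G : Type u} [Group G] [Finite G] {p : ℕ} [Fact p.Prime] (hG : Cfsg.IsPSolvable p G) :
    Dom p G := by
  induction hc : Nat.card G using Nat.strong_induction_on generalizing G with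
  | h c ih =>
  subst hc
  have hp := (Fact.out : p.Prime)
  obtain ⟨n, S, h0, h1, hm, hn, hf⟩ := id hG
  rcases subsingleton_or_nontrivial G with hs | hs
  · refine ⟨⟨⊤, ?_, 0, ?_⟩, fun H _ _ U _ => ⟨1, fun x _ => ?_⟩⟩
    · rw [Nat.card_of_subsingleton (1 : (⊤ : Subgroup G))]; exact Nat.coprime_one_left p
    · rw [Subgroup.index_top, pow_zero]
    · rw [Subsingleton.elim x 1]; exact one_mem _
  -- a nontrivial normal `p`- or `p'`-subgroup
  obtain ⟨N, hNn, hN0, hNp⟩ : ∃ N : Subgroup G, N.Normal ∧ N ≠ ⊥ ∧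
      ((∃ m, Nat.card N = p ^ m) ∨ (Nat.card N).Coprime p) := by
    by_contra hcon
    push Not at hcon
    have hall : ∀ i : Fin (n + 1), S i = ⊥ := by
      intro i
      induction i using Fin.induction with
      | zero => exact h0
      | succ i ihi =>
        by_contra hne
        rcases hf i with ⟨m, hm'⟩ | hc'
        · rw [ihi, Subgroup.relIndex_bot_left] at hm'
          exact (hcon _ (hn i.succ) hne).1 m hm'
        · rw [ihi, Subgroup.relIndex_bot_left] at hc'
          exact (hcon _ (hn i.succ) hne).2 hc'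
    exact bot_ne_top ((hall (Fin.last n)).symm.trans h1)
  have hlt := CfsgLib.card_quotient_lt_of_ne_bot hN0
  set f := QuotientGroup.mk' N with hf'
  have hsurj : Function.Surjective f := QuotientGroup.mk'_surjective N
  obtain ⟨⟨Hq, hHq, nq, hnq⟩, hdom⟩ := ih _ hlt (isPSolvable_quotient hG N) rfl
  set L := Hq.comap f with hL
  have hLc : Nat.card L = Nat.card N * Nat.card Hq := CfsgLib.card_comap_mk N Hq
  have hLi : L.index = p ^ nq := by rw [hL, Subgroup.index_comap_of_surjective _ hsurj, hnq]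
  have hmapU : ∀ H U : Subgroup G, (∃ g : G ⧸ N, MulAut.conj g • U.map f ≤ H.map f) →
      ∃ g : G, MulAut.conj g • U ≤ N ⊔ H := by
    rintro H U ⟨g, hg⟩
    obtain ⟨g, rfl⟩ := hsurj g
    refine ⟨g, fun x hx => ?_⟩
    have h2 : f x ∈ MulAut.conj (f g) • U.map f := by
      rw [CfsgLib.mem_conj_smul_iff] at hx ⊢
      rw [← map_inv, ← map_mul, ← map_mul]
      exact Subgroup.mem_map_of_mem _ hx
    have h3 : x ∈ (H.map f).comap f := hg h2
    rwa [Subgroup.comap_map_eq, QuotientGroup.ker_mk', sup_comm] at h3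
  have hqdom : ∀ H : Subgroup G, (Nat.card H).Coprime p → (∃ k : ℕ, H.index = p ^ k) →
      ∀ U : Subgroup G, (Nat.card U).Coprime p → ∃ g : G, MulAut.conj g • U ≤ N ⊔ H := by
    rintro H hH ⟨k, hk⟩ U hU
    refine hmapU H U (hdom _ (hH.coprime_dvd_left (Subgroup.card_map_dvd _ _)) ?_ _
      (hU.coprime_dvd_left (Subgroup.card_map_dvd _ _)))
    obtain ⟨k', -, hk'⟩ := (Nat.dvd_prime_pow hp).mp (hk ▸ Subgroup.index_map_dvd H hsurj)
    exact ⟨k', hk'⟩
  rcases hNp with ⟨m, hm'⟩ | hNc
  · -- `N` is a `p`-group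
    have hcopN : ∀ U : Subgroup G, (Nat.card U).Coprime p → (Nat.card N).Coprime (Nat.card U) :=
      fun U hU => by rw [hm']; exact hU.symm.pow_left m
    have hNsolv : Group.IsSolvable N := by
      have := (IsPGroup.of_card hm').isNilpotent
      infer_instance
    constructor
    · obtain ⟨C, hC⟩ := Subgroup.exists_right_complement'_of_coprime (N := N.subgroupOf L) (by
        have hNL : N ≤ L := by
          rw [hL]; intro x hx
          rw [Subgroup.mem_comap, hf', QuotientGroup.mk'_apply, (QuotientGroup.eq_one_iff x).mpr hx]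
          exact one_mem _
        have hidx : (N.subgroupOf L).index = Nat.card Hq := by
          refine mul_left_cancel₀ (Nat.card_pos (α := N)).ne' ?_
          rw [← hLc, ← Nat.card_congr (Subgroup.subgroupOfEquivOfLe hNL).toEquiv]
          exact Subgroup.card_mul_index _
        rw [hidx, Nat.card_congr (Subgroup.subgroupOfEquivOfLe hNL).toEquiv, hm']
        exact hHq.symm.pow_left m)
      have hNL : N ≤ L := by
        rw [hL]; intro x hx
        rw [Subgroup.mem_comap, hf', QuotientGroup.mk'_apply, (QuotientGroup.eq_one_iff x).mpr hx]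
        exact one_mem _
      have hCc : Nat.card C = Nat.card Hq := by
        have h2 := hC.card_mul
        rw [Nat.card_congr (Subgroup.subgroupOfEquivOfLe hNL).toEquiv, hLc] at h2
        exact mul_left_cancel₀ (Nat.card_pos (α := N)).ne' h2
      refine ⟨C.map L.subtype, by rw [Subgroup.card_map_of_injective L.subtype_injective, hCc]; exact hHq,
        m + nq, ?_⟩
      have h3 := Subgroup.card_mul_index (C.map L.subtype)
      rw [Subgroup.card_map_of_injective L.subtype_injective, hCc, ← L.card_mul_index, hLc, hLi, hm',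
        mul_comm (p ^ m), mul_assoc, ← pow_add] at h3
      exact mul_left_cancel₀ (Nat.card_pos (α := Hq)).ne' h3
    · intro H hH hHi U hU
      obtain ⟨g, hg⟩ := hqdom H hH hHi U hU
      set U' := MulAut.conj g • U with hU'
      have hU'c : (Nat.card U').Coprime p := by rw [hU', CfsgLib.card_conj_smul]; exact hU
      set V := N ⊔ U' with hV
      set H' := H ⊓ V with hH'
      have hH'c : (Nat.card H').Coprime p := hH.coprime_dvd_left (Subgroup.card_dvd_of_le inf_le_left)
      have hNnorm : ∀ Y : Subgroup G, Y ≤ Subgroup.normalizer (N : Set G) := fun Y => by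
        rw [Subgroup.normalizer_eq_top_iff.mpr hNn]; exact le_top
      have hsup : V = N ⊔ H' := by
        refine le_antisymm (fun x hx => ?_) (sup_le le_sup_left inf_le_right)
        have hxH : x ∈ N ⊔ H := (sup_le le_sup_left hg) hx
        obtain ⟨a, ha, b, hb, rfl⟩ := CfsgLib.mem_sup_of_le_normalizer (hNnorm H) hxH
        have hbV : b ∈ V := by
          have := mul_mem (inv_mem (Subgroup.mem_sup_left ha : a ∈ V)) hx
          rwa [inv_mul_cancel_left] at this
        exact Subgroup.mul_mem_sup ha (Subgroup.mem_inf.mpr ⟨hb, hbV⟩)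
      have hcard : ∀ Y : Subgroup G, (Nat.card Y).Coprime p → V = N ⊔ Y →
          Nat.card V = Nat.card N * Nat.card Y := by
        intro Y hY hVY
        have hd : Disjoint N Y := Subgroup.disjoint_of_coprime_natCard (hcopN Y hY)
        let m : N × Y → V := fun z => ⟨z.1 * z.2, (le_of_eq hVY.symm) (Subgroup.mul_mem_sup z.1.2 z.2.2)⟩
        rw [← Nat.card_eq_of_bijective m ⟨fun u v huv =>
          Subgroup.mul_injective_of_disjoint hd (congrArg Subtype.val huv), fun x => by
            obtain ⟨a, ha, b, hb, hab⟩ := CfsgLib.mem_sup_of_le_normalizer (hNnorm Y) ((le_of_eq hVY) x.2)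
            exact ⟨(⟨a, ha⟩, ⟨b, hb⟩), Subtype.ext hab⟩⟩, Nat.card_prod]
      have hHU : Nat.card H' = Nat.card U' :=
        mul_left_cancel₀ (Nat.card_pos (α := N)).ne' ((hcard H' hH'c hsup).symm.trans (hcard U' hU'c rfl))
      obtain ⟨a, ha, haU⟩ := CfsgLib.exists_conj_complement (A := U') (G := N) (B := H')
        (hNnorm U') (hcopN U' hU'c).symm (Or.inr hNsolv) inf_le_right hHU
      refine ⟨a * g, ?_⟩
      rw [← CfsgLib.conj_smul_mul, ← hU', haU]
      exact inf_le_left
  · -- `N` is a `p'`-group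
    constructor
    · exact ⟨L, by rw [hLc]; exact hNc.mul_left hHq, nq, hLi⟩
    · intro H hH hHi U hU
      obtain ⟨g, hg⟩ := hqdom H hH hHi U hU
      refine ⟨g, hg.trans (le_of_eq ?_)⟩
      obtain ⟨k, hk⟩ := hHi
      symm
      refine Subgroup.eq_of_le_of_card_ge le_sup_right ?_
      have hd : Nat.card (N ⊔ H : Subgroup G) ∣ Nat.card H := by
        have h2 : (Nat.card (N ⊔ H : Subgroup G)).Coprime p := by
          rw [sup_comm]
          exact (hH.mul_left hNc).coprime_dvd_left (CfsgLib.card_sup_dvd_mul H N)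
        refine (h2.pow_right k).dvd_of_dvd_mul_right ?_
        rw [← hk, H.card_mul_index]
        exact Subgroup.card_subgroup_dvd_card _
      exact Nat.le_of_dvd Nat.card_pos hd

/-- A finite p-soluble group has a p-complement, all its p-complements are conjugate, and every subgroup of order prime to p lies in one of them. Here a p-complement is a subgroup of order prime to p whose index is a power of p. -/
theorem result {G : Type*} [Group G] [Finite G] {p : ℕ} [Fact p.Prime] (hG : Cfsg.IsPSolvable p G) : (∃ H : Subgroup G, (Nat.card H).Coprime p ∧ ∃ n : ℕ, H.index = p ^ n) ∧ (∀ H₁ H₂ : Subgroup G, (Nat.card H₁).Coprime p → (∃ n : ℕ, H₁.index = p ^ n) → (Nat.card H₂).Coprime p → (∃ n : ℕ, H₂.index = p ^ n) → ∃ g : G, H₂ = H₁.map (MulAut.conj g).toMonoidHom) ∧ (∀ U : Subgroup G, (Nat.card U).Coprime p → ∃ H : Subgroup G, (Nat.card H).Coprime p ∧ (∃ n : ℕ, H.index = p ^ n) ∧ ∃ g : G, U.map (MulAut.conj g).toMonoidHom ≤ H) := by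
  obtain ⟨hex, hdom⟩ := dom hG
  have hmap : ∀ (c : G) (H : Subgroup G), H.map (MulAut.conj c).toMonoidHom = MulAut.conj c • H :=
    fun c H => by rw [Subgroup.pointwise_smul_def]; rfl
  refine ⟨hex, fun H₁ H₂ h1 h1i h2 h2i => ?_, fun U hU => ?_⟩
  · obtain ⟨g, hg⟩ := hdom H₂ h2 h2i H₁ h1
    have hc : Nat.card H₁ = Nat.card H₂ := by
      obtain ⟨m, hm⟩ := h1i
      obtain ⟨k, hk⟩ := h2i
      have e := H₁.card_mul_index.trans H₂.card_mul_index.symm
      rw [hm, hk] at e
      exact Nat.dvd_antisymm ((h1.pow_right k).dvd_of_dvd_mul_right (e ▸ dvd_mul_right _ _))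
        ((h2.pow_right m).dvd_of_dvd_mul_right (e.symm ▸ dvd_mul_right _ _))
    exact ⟨g, by rw [hmap]; exact (Subgroup.eq_of_le_of_card_ge hg (by rw [CfsgLib.card_conj_smul, hc])).symm⟩
  · obtain ⟨H, hH, hHi⟩ := hex
    obtain ⟨g, hg⟩ := hdom H hH hHi U hU
    exact ⟨H, hH, hHi, g, by rw [hmap]; exact hg⟩

end Cfsg.Agent.S3744
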