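import Cfsg.Statements.S1696
import Cfsg.Agent.Lib.CosetEnum.Simple
import Cfsg.Agent.Lib.CosetEnum.Fi14080.Main
import Cfsg.Agent.Lib.CosetEnum.Fi3510.Main
import Cfsg.Agent.Lib.CosetEnum.Fi22Chain.Levels
import Cfsg.Agent.Lib.CosetEnum.Fi22A.Main
import Cfsg.Agent.Lib.CosetEnum.Fi22B.Main
import Cfsg.Agent.Lib.CosetEnum.Fi22C.Main
import Cfsg.Agent.Lib.CosetEnum.Fi22D.Main
import Cfsg.Agent.Lib.CosetEnum.Fi22E.Main
import Cfsg.Agent.Lib.CosetEnum.Fi22Z.Main

set_option autoImplicit false
open Cfsg CfsgLib.CosetEnum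

namespace Cfsg.Agent.S1696

theorem upper : Finite presFi22.Grp ∧ Nat.card presFi22.Grp ≤ 64561751654400 := by
  have h0 := presFi22.card_step Fi22E.sheet Fi22E.sel rfl [] presFi22.der_nil (by decide +kernel) (by decide +kernel)
    (wordsSub_nil _)
  have h1 := presFi22.card_step Fi22D.sheet Fi22D.sel rfl [] presFi22.der_nil (by decide +kernel)
    (by decide +kernel) h0
  have h2 := presFi22.card_step Fi22C.sheet Fi22C.sel rfl [] presFi22.der_nil (by decide +kernel)
    (by decide +kernel) h1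
  have h3 := presFi22.card_step Fi22B.sheet Fi22B.sel rfl [] presFi22.der_nil (by decide +kernel)
    (by decide +kernel) h2
  have h4 := presFi22.card_step Fi22A.sheet Fi22A.sel rfl [] presFi22.der_nil (by decide +kernel)
    (by decide +kernel) h3
  exact Fi14080.cert.card_top Fi14080.hlt (by decide) Fi14080.hhw h4

theorem lower [Finite presFi22.Grp] {K : ℕ}
    (h : K ≤ Nat.card (Fi3510.cert.fixSub Fi3510.hlt [5, 0, 9, 13, 1, 8])) :
    64561751654400 * K ≤ Nat.card (Fi3510.cert.fixSub Fi3510.hlt []) := by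
  have hid : ∀ i < presFi22.k, presFi22.idx (presFi22.gen i) = i := by decide
  have h5 := Fi3510.cert.level_step Fi3510.hlt hid [5, 0, 9, 13, 1] Fi22Chain.lev5 Fi22Chain.lev5_ok
    (show 8 < 3510 by decide) h
  have h4 := Fi3510.cert.level_step Fi3510.hlt hid [5, 0, 9, 13] Fi22Chain.lev4 Fi22Chain.lev4_ok
    (show 1 < 3510 by decide) h5
  have h3 := Fi3510.cert.level_step Fi3510.hlt hid [5, 0, 9] Fi22Chain.lev3 Fi22Chain.lev3_ok
    (show 13 < 3510 by decide) h4
  have h2 := Fi3510.cert.level_step Fi3510.hlt hid [5, 0] Fi22Chain.lev2 Fi22Chain.lev2_ok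
    (show 9 < 3510 by decide) h3
  have h1 := Fi3510.cert.level_step Fi3510.hlt hid [5] Fi22Chain.lev1 Fi22Chain.lev1_ok
    (show 0 < 3510 by decide) h2
  have h0 := Fi3510.cert.level_step Fi3510.hlt hid [] Fi22Chain.lev0 Fi22Chain.lev0_ok
    (show 5 < 3510 by decide) h1
  refine le_trans (le_of_eq ?_) h0
  show _ = (3510 * (2816 * (567 * (120 * (24 * (4 * K))))))
  ring

/-- The presented Fischer group Fi22 is simple of the expected order (that is, it is a simple group of the order of the Fischer group Fi₂₂). -/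
theorem result : Cfsg.IsFi22 Cfsg.Spor.Fi22 := by
  have : Finite presFi22.Grp := upper.1
  have hlow := Fi3510.cert.card_le_of_fixSub Fi3510.hlt
    (lower (Fi3510.cert.ker_le_fixSub Fi3510.hlt _))
  have hinj : Function.Injective (Fi3510.cert.hom Fi3510.hlt) :=
    Fi3510.cert.hom_injective Fi3510.hlt hlow upper.2
  have hcard : Nat.card presFi22.Grp = 64561751654400 :=
    le_antisymm upper.2 ((Nat.le_mul_of_pos_right _ Nat.card_pos).trans hlow)
  show IsSimpleGroup presFi22.Grp ∧ Nat.card presFi22.Grp = 64561751654400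
  exact ⟨Fi3510.cert.isSimple Fi3510.hlt (by decide) Fi3510.hhw hinj Fi3510.orb Fi3510.roots Fi3510.hwR
    (by decide +kernel) Fi3510.orbs [1, 2816, 693] (by decide +kernel) (by decide +kernel) (by decide +kernel) rfl
    (by decide +kernel) (q := 13) (show 1 < 3510 by decide) (by rw [hcard]; decide +kernel)
    [8, 3, 4, 5, 0, 1, 7, 2] (by decide +kernel) (by decide +kernel) Fi22Z.sheet rfl rfl rfl (by decide +kernel), hcard⟩

end Cfsg.Agent.S1696
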