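import Cfsg.Statements.S1685
import Cfsg.Agent.Lib.CosetEnum.Fi14080.Main

set_option autoImplicit false
set_option linter.unusedSimpArgs false
open Cfsg CfsgLib.CosetEnum

namespace Cfsg.Agent.S1685

theorem sub_eq : (Subgroup.closure ({Cfsg.Spor.Fi22.b, Cfsg.Spor.Fi22.c, Cfsg.Spor.Fi22.d, Cfsg.Spor.Fi22.e, Cfsg.Spor.Fi22.f, Cfsg.Spor.Fi22.g, Cfsg.Spor.Fi22.h, Cfsg.Spor.Fi22.i} : Set (FreeGroup Cfsg.Spor.Fi22.Gen))).map (PresentedGroup.mk presFi22.relSet) = Fi14080.cert.sub := by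
  have hσ : ∀ i, i < 9 → presFi22.σ i = PresentedGroup.mk presFi22.relSet (FreeGroup.of (presFi22.gen i)) := fun i hi => if_pos hi
  rw [MonoidHom.map_closure, Cert.sub]
  congr 1
  ext g
  simp only [Fi14080.cert, Fi14080.hw, List.mem_cons, List.not_mem_nil, or_false, Set.mem_ofPred_eq, exists_eq_or_imp,
    exists_eq_left, List.map_cons, List.map_nil, List.prod_cons, List.prod_nil, mul_one,
    hσ 0 (by norm_num), hσ 1 (by norm_num), hσ 2 (by norm_num), hσ 3 (by norm_num), hσ 4 (by norm_num), hσ 5 (by norm_num), hσ 6 (by norm_num), hσ 7 (by norm_num), hσ 8 (by norm_num)]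
  simp [presFi22, Cfsg.Spor.Fi22.a, Cfsg.Spor.Fi22.b, Cfsg.Spor.Fi22.c, Cfsg.Spor.Fi22.d, Cfsg.Spor.Fi22.e, Cfsg.Spor.Fi22.f, Cfsg.Spor.Fi22.g, Cfsg.Spor.Fi22.h, Cfsg.Spor.Fi22.i, pow_succ, mul_assoc, eq_comm]

/-- In the presented Fischer group Fi₂₂ (generators a, …, i), the subgroup generated by the images of b, c, d, e, f, g, h, i has index 14080. -/
theorem result : (((Subgroup.closure ({Cfsg.Spor.Fi22.b, Cfsg.Spor.Fi22.c, Cfsg.Spor.Fi22.d, Cfsg.Spor.Fi22.e, Cfsg.Spor.Fi22.f, Cfsg.Spor.Fi22.g, Cfsg.Spor.Fi22.h, Cfsg.Spor.Fi22.i} : Set (FreeGroup Cfsg.Spor.Fi22.Gen))).map (PresentedGroup.mk (Cfsg.Spor.coxRelators Cfsg.Spor.Fi22.edges ∪ {r | r ∈ Cfsg.Spor.Fi22.extra})))).index = 14080 := by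
  have h := sub_eq
  obtain ⟨e, he⟩ := Fi14080.cert.exists_equiv Fi14080.hlt (by decide) Fi14080.hhw
  unfold CfsgLib.CosetEnum.Pres.relSet at h
  show (_ : Subgroup presFi22.Grp).index = 14080
  erw [h]
  exact index_eq_of_equiv e

end Cfsg.Agent.S1685
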