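import Cfsg.Statements.S3952
import Mathlib
import Cfsg.Agent.Lib.SchurTheory.Hopf
import Cfsg.Agent.Lib.CharTheory
import Cfsg.Agent.Lib.CharTheory.Degree
-- import your own Cfsg.Agent.* helpers here

set_option autoImplicit false
open Cfsg

namespace Cfsg.Agent.S3952

namespace Aux

universe u v

open CfsgLib.CharTheory

theorem main {Q : Type u} [Group Q] [Finite Q] {A : Type v} [CommGroup A] (hA : Cfsg.HasSchurMultiplier Q A) :
    Monoid.exponent A ^ 2 ∣ Nat.card Q := by
  classical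
  haveI := CfsgLib.Schur.finite_of_hasSchur hA
  obtain ⟨Γ, _, _, σ, hσ, ⟨e⟩⟩ := hA.1
  haveI := Fintype.ofFinite Γ
  haveI := Fintype.ofFinite A
  haveI : NeZero (Monoid.exponent A) := ⟨Monoid.exponent_ne_zero_of_finite⟩
  obtain ⟨iso⟩ := CommGroup.monoidHom_mulEquiv_of_hasEnoughRootsOfUnity A ℂ
  obtain ⟨x, hx⟩ := Monoid.exists_orderOf_eq_exponent (Monoid.ExponentExists.of_finite (G := A))
  set χ : A →* ℂˣ := iso.symm x with hχ
  have hχo : orderOf χ = Monoid.exponent A := by rw [hχ, MulEquiv.orderOf_eq, hx]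
  let ι : A →* Γ := σ.ker.subtype.comp e.symm.toMonoidHom
  have hι : Function.Injective ι := Subtype.val_injective.comp e.symm.injective
  have hsum : ∀ a : A, ∑ ψ : IrrCharacter Γ, (ψ : Γ → ℂ) (ι a) * (ψ : Γ → ℂ) 1 = if a = 1 then (Nat.card Γ : ℂ) else 0 := by
    intro a
    rw [sum_irr_apply_mul_degree]
    exact if_congr (map_eq_one_iff ι hι) rfl rfl
  have key : ∀ ψ : IrrCharacter Γ, ∃ t : ℕ, (∑ a : A, ((χ a : ℂˣ) : ℂ)⁻¹ * (ψ : Γ → ℂ) (ι a)) * (ψ : Γ → ℂ) 1 =
      (Nat.card A : ℂ) * ((Monoid.exponent A ^ 2 * t : ℕ) : ℂ) := by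
    rintro ⟨f, n, ρ, hρ, rfl⟩
    have hd : ρ.character 1 = (Module.finrank ℂ (Fin n → ℂ) : ℂ) := ρ.char_one
    simp only [hd]
    set d := Module.finrank ℂ (Fin n → ℂ)
    have hd0 : d ≠ 0 := fun h => irr_ne_zero (isIrrCharacter_character ρ) (by rw [ρ.char_one]; exact_mod_cast h)
    have hs : ∀ a, ∃ w : ℂ, ρ (ι a) = w • (LinearMap.id : (Fin n → ℂ) →ₗ[ℂ] (Fin n → ℂ)) := fun a =>
      exists_scalar_of_mem_center ρ (hσ.2.1 (e.symm a).2)
    choose w hw using hs
    have hchar : ∀ a, ρ.character (ι a) = w a * d := fun a => by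
      simp [Representation.character, hw a, d]
    have hwm : ∀ a b, w (a * b) = w a * w b := fun a b => by
      have h := hchar (a * b)
      rw [Representation.character, map_mul, map_mul, hw a, hw b, ← Module.End.one_eq_id, smul_mul_smul_comm, one_mul,
        map_smul, LinearMap.trace_one, smul_eq_mul] at h
      exact mul_right_cancel₀ (Nat.cast_ne_zero.mpr hd0) h.symm
    have hw1 : w 1 = 1 := by
      have h := hchar 1
      rw [map_one, hd] at h
      exact (mul_right_cancel₀ (Nat.cast_ne_zero.mpr hd0) (by rw [← h, one_mul]))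
    let ω : A →* ℂˣ := ({ toFun := w, map_one' := hw1, map_mul' := hwm } : A →* ℂ).toHomUnits
    have hdet : ∀ a, w a ^ d = 1 := fun a => by
      have h1 : (LinearMap.det.comp (ρ : Γ →* _)).toHomUnits (ι a) = 1 :=
        MonoidHom.mem_ker.mp (Abelianization.commutator_subset_ker _ (hσ.2.2 (e.symm a).2))
      have h2 := congrArg Units.val h1
      change LinearMap.det (ρ (ι a)) = 1 at h2
      rwa [hw a, LinearMap.det_smul, LinearMap.det_id, mul_one] at h2
    by_cases hωχ : ω = χ
    · have hdiv : Monoid.exponent A ∣ d := by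
        rw [← hχo, ← hωχ]
        exact orderOf_dvd_of_pow_eq_one (MonoidHom.ext fun a => Units.ext (by
          simp only [MonoidHom.pow_apply, Units.val_pow_eq_pow_val, MonoidHom.one_apply, Units.val_one]
          exact hdet a))
      obtain ⟨t, ht⟩ := hdiv
      refine ⟨t ^ 2, ?_⟩
      rw [Finset.sum_congr rfl (fun a _ => show ((χ a : ℂˣ) : ℂ)⁻¹ * ρ.character (ι a) = (d : ℂ) by
        rw [hchar, ← hωχ, show ((ω a : ℂˣ) : ℂ) = w a from rfl, ← mul_assoc, inv_mul_cancel₀ (show w a ≠ 0 from Units.ne_zero (ω a)), one_mul])]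
      rw [Finset.sum_const, Finset.card_univ, nsmul_eq_mul, ← Nat.card_eq_fintype_card, ht]
      push_cast
      ring
    · refine ⟨0, ?_⟩
      let η : A →* ℂ := (Units.coeHom ℂ).comp (χ⁻¹ * ω)
      have hη : η ≠ 1 := fun h => hωχ (inv_mul_eq_one.mp (MonoidHom.ext fun a => Units.ext (DFunLike.congr_fun h a))).symm
      have h0 := sum_hom_units_eq_zero η hη
      rw [Finset.sum_congr rfl (fun a _ => show ((χ a : ℂˣ) : ℂ)⁻¹ * ρ.character (ι a) = (d : ℂ) * η a by
        rw [hchar]; simp [η, ω]; ring), ← Finset.mul_sum, h0]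
      simp
  choose t ht using key
  have htot : (Nat.card Γ : ℂ) = (Nat.card A : ℂ) * ((Monoid.exponent A ^ 2 * ∑ ψ, t ψ : ℕ) : ℂ) := by
    rw [Finset.mul_sum, Nat.cast_sum, Finset.mul_sum, ← Finset.sum_congr rfl fun ψ _ => ht ψ]
    simp only [Finset.sum_mul]
    rw [Finset.sum_comm]
    simp only [mul_assoc, ← Finset.mul_sum, hsum, mul_ite, mul_zero, Finset.sum_ite_eq', Finset.mem_univ, if_true,
      map_one, Units.val_one, inv_one, one_mul]
  have hcard : Nat.card Γ = Nat.card Q * Nat.card A := by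
    rw [Subgroup.card_eq_card_quotient_mul_card_subgroup σ.ker,
      Nat.card_congr (QuotientGroup.quotientKerEquivOfSurjective σ hσ.1).toEquiv, Nat.card_congr e.toEquiv]
  have h2 : Nat.card Q * Nat.card A = Nat.card A * (Monoid.exponent A ^ 2 * ∑ ψ, t ψ) := by
    rw [← hcard]; exact_mod_cast htot
  rw [mul_comm] at h2
  exact ⟨_, mul_left_cancel₀ Nat.card_pos.ne' h2⟩

end Aux

/-- If `A` is the Schur multiplier of the finite group `Q`, then the square of the exponent of `A` divides the order of `Q`. -/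
theorem result {Q : Type*} [Group Q] [Finite Q] {A : Type*} [CommGroup A] (hA : Cfsg.HasSchurMultiplier Q A) : Monoid.exponent A ^ 2 ∣ Nat.card Q := by

  exact Aux.main hA

end Cfsg.Agent.S3952
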