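import Cfsg.Statements.S3224
import Mathlib
import Cfsg.Agent.Lib.MaximalClass
import Cfsg.Agent.Lib.TausskyTwo

set_option autoImplicit false
open Cfsg

namespace Cfsg.Agent.S3224



/-- A finite 2-group containing an involution whose centralizer has order 4 is dihedral, quasi-dihedral (semidihedral), or of order 4. -/
theorem result {S : Type*} [Group S] [Finite S] (hS : IsPGroup 2 S)
    (x : S) (hx : orderOf x = 2) (hC : Nat.card ↥(Subgroup.centralizer ({x} : Set S)) = 4) :
    (∃ n : ℕ, Nonempty (S ≃* DihedralGroup n)) ∨ Cfsg.IsQuasiDihedral S ∨ Nat.card S = 4 := by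
  haveI := Fact.mk Nat.prime_two
  obtain ⟨n, hn⟩ := IsPGroup.iff_card.mp hS
  have h4le : 2 ^ 2 ≤ 2 ^ n := by
    rw [← hn]; norm_num; rw [← hC]; exact Nat.card_le_card_of_injective _ (Subgroup.subtype_injective _)
  have hn2 : 2 ≤ n := (Nat.pow_le_pow_iff_right (by norm_num)).mp h4le
  rcases hn2.eq_or_lt with rfl | hn3
  · exact Or.inr (Or.inr (by rw [hn]; norm_num))
  have hc := CfsgLib.MaximalClass.class_of_centralizer (p := 2) hn (by rw [hC]; norm_num)
  have h4 : (commutator S).index = 4 := by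
    rw [CfsgLib.MaximalClass.index_commutator hn3 hn hc]; norm_num
  have hsq : ∀ g : S, g ^ 2 ∈ commutator S := CfsgLib.MaximalClass.pow_mem_commutator hn3 hn hc
  have h8 : 8 ≤ Nat.card S := by
    rw [hn]; exact le_trans (by norm_num : 8 ≤ 2 ^ 3) (Nat.pow_le_pow_right (by norm_num) hn3)
  obtain ⟨m, a, b, hm, ha, hcard, hb, hgen, hshape⟩ := CfsgLib.TausskyTwo.cases_taussky hS h4 hsq h8
  rcases hshape with ⟨hconj, hs | hs⟩ | ⟨hm3, hconj, hs⟩
  · exact Or.inl ⟨2 ^ m, CfsgLib.TausskyTwo.dihedral_iso (pow_pos two_pos _) a b ha hs hconj hb hgen⟩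
  · exfalso
    have hx2 : x ^ 2 = 1 := hx ▸ pow_orderOf_eq_one x
    have hxa : x ∈ Subgroup.zpowers a := by
      by_contra h
      obtain ⟨i, hi⟩ := Subgroup.mem_zpowers_iff.mp ((hgen x).resolve_left h)
      have hxb : x = b * a ^ i := by rw [hi]; group
      have h1 : b * a ^ i * b⁻¹ = a ^ (-i) := by rw [← conj_zpow, hconj, inv_zpow, zpow_neg]
      have h2 : x ^ 2 = b ^ 2 := by
        rw [hxb, sq, sq, show b * a ^ i * (b * a ^ i) = b * a ^ i * b⁻¹ * (b * b) * a ^ i by group, h1, ← sq, hs,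
          ← zpow_natCast a, ← zpow_add, ← zpow_add]
        congr 1
        ring
      rw [hx2, hs] at h2
      exact pow_ne_one_of_lt_orderOf (by positivity) (by rw [ha]; exact Nat.pow_lt_pow_right (by norm_num) (by omega)) h2.symm
    have hcomm : ∀ g : S, g * x = x * g := by
      obtain ⟨i, rfl⟩ := Subgroup.mem_zpowers_iff.mp hxa
      have hxinv : (a ^ i)⁻¹ = a ^ i := inv_eq_of_mul_eq_one_right (by rw [← sq]; exact hx2)
      have hbx : b * a ^ i = a ^ i * b := by
        have : b * a ^ i * b⁻¹ = a ^ i := by rw [← conj_zpow, hconj, inv_zpow, hxinv]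
        exact mul_inv_eq_iff_eq_mul.mp this
      have hax : ∀ g ∈ Subgroup.zpowers a, g * a ^ i = a ^ i * g := by
        rintro g ⟨j, rfl⟩
        exact (Commute.zpow_zpow (Commute.refl a) j i).eq
      intro g
      rcases hgen g with h | h
      · exact hax g h
      · have := hax _ h
        calc g * a ^ i = b * (b⁻¹ * g * a ^ i) := by group
          _ = b * a ^ i * (b⁻¹ * g) := by rw [this]; group
          _ = a ^ i * g := by rw [hbx]; group
    have hall : Subgroup.centralizer ({x} : Set S) = ⊤ :=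
      eq_top_iff.mpr fun g _ => Subgroup.mem_centralizer_singleton_iff.mpr (hcomm g)
    rw [hall, Subgroup.card_top] at hC
    omega
  · refine Or.inr (Or.inl ⟨m, hm3, hcard, a, b, ha, orderOf_eq_prime hs (fun e => hb ?_), hconj⟩)
    rw [e]; exact one_mem _

end Cfsg.Agent.S3224
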