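import Cfsg.Statements.S3784
import Mathlib
-- import your own Cfsg.Agent.* helpers here

set_option autoImplicit false
open Cfsg

namespace Cfsg.Agent.S3784

/-- Let p, q be primes and a, b positive integers with p^a = q^b + 1. Then either p = 2, b = 1, a is prime and q = 2^a − 1; or q = 2, a = 1, b is a power of 2 and p = 2^b + 1; or p^a = 9 and q^b = 8. -/
theorem result (p q a b : ℕ) (hp : p.Prime) (hq : q.Prime) (ha : 1 ≤ a) (hb : 1 ≤ b) (h : p ^ a = q ^ b + 1) : (p = 2 ∧ b = 1 ∧ a.Prime ∧ q + 1 = 2 ^ a) ∨ (q = 2 ∧ a = 1 ∧ (∃ m : ℕ, b = 2 ^ m) ∧ p = 2 ^ b + 1) ∨ (p ^ a = 9 ∧ q ^ b = 8) := by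
  have := hq.two_le; have := hp.two_le
  rcases hq.eq_two_or_odd' with rfl | hqo
  · rcases eq_or_ne a 1 with rfl | ha1
    · rw [pow_one] at h
      refine Or.inr (Or.inl ⟨rfl, rfl, ?_, h⟩)
      obtain ⟨m, hm⟩ := Nat.pow_of_pow_add_prime (a := 2) (by norm_num) (by omega) (h ▸ hp)
      exact ⟨m, hm⟩
    have hpo : Odd p := hp.eq_two_or_odd'.resolve_left fun h2 => by
      subst h2
      have h1 : 2 ∣ 2 ^ a := dvd_pow_self 2 (by omega)
      have h2 : 2 ∣ 2 ^ b := dvd_pow_self 2 (by omega)
      omega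
    rcases Nat.even_or_odd a with ⟨c, rfl⟩ | hao
    · refine Or.inr (Or.inr ?_)
      have hc : 1 ≤ p ^ c := Nat.one_le_pow _ _ hp.pos
      have h8 : (p ^ c - 1) * (p ^ c + 1) = 2 ^ b := by
        have : (p ^ c - 1) * (p ^ c + 1) + 1 = p ^ c * p ^ c := by
          obtain ⟨d, hd⟩ := Nat.exists_eq_add_of_le hc
          rw [hd, Nat.add_sub_cancel_left]; ring
        rw [pow_add] at h
        omega
      obtain ⟨i, -, hi⟩ := (Nat.dvd_prime_pow Nat.prime_two).mp (Dvd.intro _ h8)
      obtain ⟨j, -, hj⟩ := (Nat.dvd_prime_pow Nat.prime_two).mp (Dvd.intro_left _ h8)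
      have hpc : 3 ≤ p ^ c := by
        have h1 : p ≤ p ^ c := Nat.le_self_pow (by omega) p
        have h2 : p % 2 = 1 := Nat.odd_iff.mp hpo
        omega
      have hi1 : i = 1 := by
        rcases Nat.lt_or_ge i 2 with h2 | h2
        · rcases i with _ | _ | i
          · rw [pow_zero] at hi; omega
          · rfl
          · omega
        · exfalso
          have h4 : 4 ∣ 2 ^ i := pow_dvd_pow 2 h2
          have hj2 : 2 ≤ j := by
            by_contra hj2
            have : 2 ^ j ≤ 2 ^ 1 := Nat.pow_le_pow_right (by norm_num) (by omega)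
            omega
          have h5 : 4 ∣ 2 ^ j := pow_dvd_pow 2 hj2
          omega
      subst hi1
      rw [pow_add]
      have h3 : p ^ c = 3 := by rw [pow_one] at hi; omega
      refine ⟨by rw [h3]; norm_num, ?_⟩
      rw [pow_add, h3] at h
      omega
    · exfalso
      have hgeom : (∑ i ∈ Finset.range a, p ^ i) * (p - 1) = 2 ^ b := by
        rw [geom_sum_mul_of_one_le hp.one_le, h, Nat.add_sub_cancel]
      have hodd : Odd (∑ i ∈ Finset.range a, p ^ i) := by
        rw [Finset.odd_sum_iff_odd_card_odd, Finset.filter_true_of_mem fun i _ => hpo.pow, Finset.card_range]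
        exact hao
      have h1 := Nat.eq_one_of_dvd_coprimes ((Nat.coprime_two_left.mpr hodd).pow_left b)
        (Dvd.intro _ hgeom) dvd_rfl
      rw [h1, one_mul] at hgeom
      have : p ^ a = p ^ 1 := by
        rw [h, pow_one, ← hgeom]; omega
      exact ha1 (Nat.pow_right_injective hp.two_le this)
  · have hp2 : p = 2 := by
      rcases hp.eq_two_or_odd' with h2 | h2
      · exact h2
      · exfalso
        have h3 : Odd (p ^ a) := h2.pow
        have h4 : Odd (q ^ b) := hqo.pow
        rw [h, Nat.odd_iff] at h3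
        rw [Nat.odd_iff] at h4
        omega
    subst hp2
    rcases Nat.even_or_odd b with ⟨c, rfl⟩ | hbo
    · exfalso
      obtain ⟨d, hd⟩ := (hqo.pow (n := c))
      rw [pow_add, hd] at h
      rcases Nat.lt_or_ge a 2 with ha2 | ha2
      · obtain rfl : a = 1 := by omega
        have : 2 * d + 1 = 1 := by nlinarith
        have h5 : q ^ c = 1 := by omega
        rcases Nat.pow_eq_one.mp h5 with h6 | h6 <;> omega
      · obtain ⟨e, he⟩ := pow_dvd_pow 2 ha2
        rw [he] at h
        have : (2 * d + 1) * (2 * d + 1) = 4 * (d * d + d) + 1 := by ring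
        omega
    rcases eq_or_ne b 1 with rfl | hb1
    · rw [pow_one] at h
      refine Or.inl ⟨rfl, rfl, ?_, h.symm⟩
      have hqm : (2 ^ a - 1).Prime := by rw [h, Nat.add_sub_cancel]; exact hq
      have ha1 : a ≠ 1 := fun e => by subst e; simp at h; omega
      exact (Nat.prime_of_pow_sub_one_prime ha1 hqm).2
    exfalso
    have hgeom : (∑ i ∈ Finset.range b, (-(q : ℤ)) ^ i) * ((q : ℤ) + 1) = 2 ^ a := by
      have h1 := geom_sum_mul (-(q : ℤ)) b
      rw [hbo.neg_pow] at h1
      have h2 : (2 : ℤ) ^ a = (q : ℤ) ^ b + 1 := by exact_mod_cast h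
      linarith
    set S := ∑ i ∈ Finset.range b, (-(q : ℤ)) ^ i with hS
    have hodd : Odd S := by
      rw [hS, Int.odd_iff, Finset.sum_int_mod, Finset.sum_congr rfl (fun i _ =>
        Int.odd_iff.mp ((((Int.odd_coe_nat q).mpr hqo).neg).pow (n := i))), Finset.sum_const, Finset.card_range]
      simp only [nsmul_eq_mul, mul_one]
      have := Nat.odd_iff.mp hbo
      omega
    have hS1 : S.natAbs = 1 := by
      refine Nat.eq_one_of_dvd_coprimes ((Nat.coprime_two_left.mpr (Int.natAbs_odd.mpr hodd)).pow_left a) ?_ dvd_rfl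
      have := congrArg Int.natAbs hgeom
      rw [Int.natAbs_mul, Int.natAbs_pow] at this
      exact Dvd.intro _ this
    have h2 : (2 : ℤ) ^ a = (q : ℤ) ^ b + 1 := by exact_mod_cast h
    have hlt : (q : ℤ) < (q : ℤ) ^ b := by
      have := Nat.pow_lt_pow_right hq.one_lt (show 1 < b by omega)
      rw [pow_one] at this
      exact_mod_cast this
    rcases Int.natAbs_eq S with hs | hs <;> rw [hS1] at hs <;> rw [hs] at hgeom <;> push_cast at hgeom <;> nlinarith

end Cfsg.Agent.S3784
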