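import Cfsg.Statements.S3835
import Mathlib
import Cfsg.Agent.Lib.QdSection
import Cfsg.Agent.Lib.PGroup.CyclicMax
import Cfsg.Agent.Lib.SL2Hom
-- import your own Cfsg.Agent.* helpers here

set_option autoImplicit false
open Cfsg

namespace Cfsg.Agent.S3835

namespace Aux

open scoped Matrix commutatorElement

variable {p : ℕ} [hp : Fact p.Prime]

theorem last_row (g : Cfsg.qd p) (w : Fin 3 → ZMod p) :
    ((g : Matrix.SpecialLinearGroup (Fin 3) (ZMod p)) : Matrix (Fin 3) (Fin 3) (ZMod p)).mulVec w 2 = w 2 := by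
  obtain ⟨h0, h1, h2⟩ := CfsgLib.Qd.mem_qd.mp g.2
  simp [Matrix.mulVec, dotProduct, Fin.sum_univ_three, h0, h1, h2]

/-- The action on the affine plane. -/
noncomputable def affineHom : Cfsg.qd p →* Equiv.Perm {w : Fin 3 → ZMod p // w 2 = 1} :=
  letI : MulAction (Cfsg.qd p) {w : Fin 3 → ZMod p // w 2 = 1} :=
    { smul := fun g w => ⟨((g : Matrix.SpecialLinearGroup (Fin 3) (ZMod p)) : Matrix (Fin 3) (Fin 3) (ZMod p)).mulVec w.1,
        (last_row g w.1).trans w.2⟩
      one_smul := fun w => Subtype.ext (by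
        show Matrix.mulVec (((1 : Cfsg.qd p) : Matrix.SpecialLinearGroup (Fin 3) (ZMod p)) : Matrix (Fin 3) (Fin 3) (ZMod p)) w.1 = w.1
        simp)
      mul_smul := fun g h w => Subtype.ext (by
        show Matrix.mulVec (((g * h : Cfsg.qd p) : Matrix.SpecialLinearGroup (Fin 3) (ZMod p)) : Matrix (Fin 3) (Fin 3) (ZMod p)) w.1 =
          Matrix.mulVec ((g : Matrix.SpecialLinearGroup (Fin 3) (ZMod p)) : Matrix (Fin 3) (Fin 3) (ZMod p))
            (Matrix.mulVec ((h : Matrix.SpecialLinearGroup (Fin 3) (ZMod p)) : Matrix (Fin 3) (Fin 3) (ZMod p)) w.1)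
        rw [Matrix.mulVec_mulVec]
        rfl) }
  MulAction.toPermHom _ _

theorem affineHom_apply (g : Cfsg.qd p) (w : {w : Fin 3 → ZMod p // w 2 = 1}) :
    (affineHom g w).1 = ((g : Matrix.SpecialLinearGroup (Fin 3) (ZMod p)) : Matrix (Fin 3) (Fin 3) (ZMod p)).mulVec w.1 :=
  rfl

theorem affineHom_injective : Function.Injective (affineHom (p := p)) := by
  rw [injective_iff_map_eq_one]
  intro g hg
  set M : Matrix (Fin 3) (Fin 3) (ZMod p) := ((g : Matrix.SpecialLinearGroup (Fin 3) (ZMod p)) : Matrix (Fin 3) (Fin 3) (ZMod p)) with hM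
  have hfix : ∀ w : Fin 3 → ZMod p, w 2 = 1 → M.mulVec w = w := fun w hw => by
    have := congrArg Subtype.val (Equiv.Perm.congr_fun hg ⟨w, hw⟩)
    rwa [affineHom_apply] at this
  have hall : ∀ w : Fin 3 → ZMod p, M.mulVec w = w := fun w => by
    have h1 := hfix (w + Pi.single 2 (1 - w 2)) (by simp)
    have h2 : M.mulVec (Pi.single 2 1) = Pi.single 2 1 := hfix _ (by simp)
    have h3 : (Pi.single 2 (1 - w 2) : Fin 3 → ZMod p) = (1 - w 2) • (Pi.single 2 1 : Fin 3 → ZMod p) := by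
      rw [← Pi.single_smul, smul_eq_mul, mul_one]
    rw [h3, Matrix.mulVec_add, Matrix.mulVec_smul, h2] at h1
    exact add_right_cancel h1
  refine Subtype.ext (Subtype.ext (Matrix.ext_iff_mulVec.mpr fun w => ?_))
  rw [← hM, hall]
  simp

theorem sign_affineHom (h2 : p ≠ 2) (g : Cfsg.qd p) : Equiv.Perm.sign (affineHom g) = 1 := by
  classical
  let s : Cfsg.qd p →* ℤˣ := Equiv.Perm.sign.comp affineHom
  have hodd : ∀ x : Cfsg.qd p, x ^ p = 1 → s x = 1 := fun x hx => by
    have h1 : s x ^ p = 1 := by rw [← map_pow, hx, map_one]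
    rcases Int.units_eq_one_or (s x) with h | h
    · exact h
    · rw [h, Odd.neg_one_pow (hp.out.odd_of_ne_two h2)] at h1
      exact h.trans h1
  have hsl : ∀ M : Matrix.SpecialLinearGroup (Fin 2) (ZMod p), s (CfsgLib.QdSection.linHom M) = 1 := by
    intro M
    refine Matrix.SL2.transvection_induction (fun M => s (CfsgLib.QdSection.linHom M) = 1) (fun i j h c => ?_)
      (fun A B hA hB => by rw [map_mul, map_mul, hA, hB, mul_one]) M
    refine hodd _ ?_
    rw [← map_pow, CfsgLib.SL2Hom.transvection_pow, ZMod.natCast_self, zero_mul,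
      Matrix.SpecialLinearGroup.transvection_coeff_zero, map_one]
  obtain ⟨v, M, rfl⟩ := CfsgLib.QdSection.exists_eq_mul g
  show s _ = 1
  rw [map_mul, hsl M, mul_one]
  refine hodd _ ?_
  rw [← map_pow, show v ^ p = 1 from ?_, map_one]
  apply Multiplicative.toAdd.injective
  rw [toAdd_pow, toAdd_one]
  funext i
  simp

theorem card_plane : Fintype.card {w : Fin 3 → ZMod p // w 2 = 1} = p ^ 2 := by
  let e : {w : Fin 3 → ZMod p // w 2 = 1} ≃ (Fin 2 → ZMod p) :=
    { toFun := fun w => ![w.1 0, w.1 1]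
      invFun := fun v => ⟨![v 0, v 1, 1], rfl⟩
      left_inv := fun w => Subtype.ext (funext fun i => by
        match i with
        | 0 => rfl
        | 1 => rfl
        | 2 => exact w.2.symm)
      right_inv := fun v => funext fun i => by
        match i with
        | 0 => rfl
        | 1 => rfl }
  rw [Fintype.card_congr e]
  simp [ZMod.card]

theorem exists_hom (h2 : p ≠ 2) (n : ℕ) (hn : p ^ 2 ≤ n) :
    ∃ f : Cfsg.qd p →* alternatingGroup (Fin n), Function.Injective f := by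
  classical
  obtain ⟨ι⟩ : Nonempty ({w : Fin 3 → ZMod p // w 2 = 1} ↪ Fin n) :=
    Function.Embedding.nonempty_of_card_le (by rw [card_plane, Fintype.card_fin]; exact hn)
  refine ⟨((Equiv.Perm.viaEmbeddingHom ι).comp affineHom).codRestrict _ fun g => ?_, fun a b h => ?_⟩
  · rw [Equiv.Perm.mem_alternatingGroup, MonoidHom.comp_apply, Equiv.Perm.viaEmbeddingHom_apply,
      Equiv.Perm.viaEmbedding]
    convert (Equiv.Perm.sign_extendDomain (affineHom g) (Equiv.ofInjective ι.1 ι.2)).trans (sign_affineHom h2 g)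
  · exact affineHom_injective (Equiv.Perm.viaEmbeddingHom_injective ι (congrArg Subtype.val h))

theorem commute_of_lt (n : ℕ) (hn : n < p ^ 2) (K : Subgroup (Equiv.Perm (Fin n))) (hK : IsPGroup p K)
    (x y : K) : x * y = y * x := by
  rw [← commutatorElement_eq_one_iff_mul_comm]
  refine Subtype.ext (Equiv.ext fun i => ?_)
  show ⁅x, y⁆ • i = i
  obtain ⟨j, hj⟩ := hK.card_orbit i
  have hle : Nat.card (MulAction.orbit K i) ≤ n := (Nat.card_le_card_of_injective _ Subtype.val_injective).trans (Nat.card_fin n).le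
  have hj1 : j ≤ 1 := by
    by_contra h
    rw [hj] at hle
    exact absurd (hle.trans_lt hn) (not_lt.mpr (Nat.pow_le_pow_right hp.out.pos (by omega)))
  have hidx : (MulAction.stabilizer K i).index = p ^ j := by
    rw [MulAction.index_stabilizer, ← Nat.card_coe_set_eq, hj]
  suffices h : ⁅x, y⁆ ∈ MulAction.stabilizer K i from h
  rcases Nat.le_one_iff_eq_zero_or_eq_one.mp hj1 with rfl | rfl
  · rw [Subgroup.index_eq_one.mp hidx]; exact Subgroup.mem_top _
  · rw [pow_one] at hidx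
    haveI := CfsgLib.CyclicMax.normal_of_index_prime hK hidx
    have hc : Nat.card (K ⧸ MulAction.stabilizer K i) = p := hidx
    haveI := isCyclic_of_prime_card hc
    letI := IsCyclic.commGroup (α := K ⧸ MulAction.stabilizer K i)
    rw [← QuotientGroup.eq_one_iff]
    show QuotientGroup.mk' _ _ = 1
    rw [map_commutatorElement, commutatorElement_eq_one_iff_mul_comm]
    exact mul_comm _ _

theorem not_involves (n : ℕ) (hn : n < p ^ 2) : ¬ Cfsg.Involves ↥(Cfsg.qd p) ↥(alternatingGroup (Fin n)) := by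
  rintro ⟨K, R, hR, ⟨e⟩⟩
  haveI := hR
  let f : K →* Cfsg.qd p := e.toMonoidHom.comp (QuotientGroup.mk' _)
  have hf : Function.Surjective f := e.surjective.comp (QuotientGroup.mk'_surjective _)
  obtain ⟨T⟩ : Nonempty (Sylow p K) := inferInstance
  have hcomm : ∀ a b : T.mapSurjective hf, a * b = b * a := by
    rintro ⟨a, a', ha', rfl⟩ ⟨b, b', hb', rfl⟩
    refine Subtype.ext ?_
    show f a' * f b' = f b' * f a'
    rw [← map_mul, ← map_mul]
    congr 1
    have h := commute_of_lt n hn ((T : Subgroup K).map ((alternatingGroup (Fin n)).subtype.comp K.subtype))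
      (T.2.map _) ⟨_, a', ha', rfl⟩ ⟨_, b', hb', rfl⟩
    exact Subtype.ext (Subtype.ext (by simpa using congrArg Subtype.val h))
  let a : Cfsg.qd p := CfsgLib.Qd.up 1
  let b : Cfsg.qd p := CfsgLib.Qd.tr 0 1
  have hne : a * b * a⁻¹ ≠ b := fun h => by
    rw [CfsgLib.Qd.up_tr] at h
    simpa using (CfsgLib.Qd.tr_injective h).1
  have hY : IsPGroup p (CfsgLib.Qd.W p ⊔ Subgroup.zpowers a : Subgroup (Cfsg.qd p)) := by
    refine IsPGroup.to_sup_of_normal_left CfsgLib.Qd.isPGroup_W ?_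
    intro x
    obtain ⟨x, i, rfl⟩ := x
    exact ⟨1, Subtype.ext (by
      show (a ^ i) ^ p ^ 1 = 1
      rw [pow_one, ← zpow_natCast, ← zpow_mul, mul_comm, zpow_mul, zpow_natCast, CfsgLib.Qd.up_pow_p, one_zpow])⟩
  obtain ⟨S, hS⟩ := hY.exists_le_sylow
  obtain ⟨g, hg⟩ := MulAction.exists_smul_eq (Cfsg.qd p) (T.mapSurjective hf) S
  have haS : a ∈ (S : Subgroup (Cfsg.qd p)) := hS (Subgroup.mem_sup_right (Subgroup.mem_zpowers a))
  have hbS : b ∈ (S : Subgroup (Cfsg.qd p)) := hS (Subgroup.mem_sup_left (CfsgLib.Qd.tr_mem 0 1))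
  rw [← hg, Sylow.coe_subgroup_smul, Subgroup.pointwise_smul_def] at haS hbS
  obtain ⟨a', ha', ha⟩ := haS
  obtain ⟨b', hb', hb⟩ := hbS
  refine hne (mul_inv_eq_iff_eq_mul.mpr ?_)
  rw [← ha, ← hb]
  refine (map_mul _ a' b').symm.trans (Eq.trans ?_ (map_mul _ b' a'))
  exact congrArg _ (congrArg Subtype.val (hcomm ⟨a', ha'⟩ ⟨b', hb'⟩))

end Aux

/-- Let p be an odd prime and n a natural number. The alternating group of degree n has a subgroup isomorphic to Qd(p) (the natural semidirect product of an elementary abelian group of order p² by SL₂(p)) if and only if n ≥ p²; and if n < p² then Qd(p) is not even involved in it. -/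
theorem result {p : ℕ} [Fact p.Prime] (hp : p ≠ 2) (n : ℕ) : ((∃ H : Subgroup (alternatingGroup (Fin n)), Nonempty (↥H ≃* ↥(Cfsg.qd p))) ↔ p ^ 2 ≤ n) ∧ (n < p ^ 2 → ¬ Cfsg.Involves ↥(Cfsg.qd p) ↥(alternatingGroup (Fin n))) := by
  have hfree : n < p ^ 2 → ¬ Cfsg.Involves ↥(Cfsg.qd p) ↥(alternatingGroup (Fin n)) :=
    fun hn => Aux.not_involves n hn
  refine ⟨⟨?_, ?_⟩, hfree⟩
  · rintro ⟨H, ⟨e⟩⟩
    by_contra hlt
    exact hfree (not_le.mp hlt) (CfsgLib.QdSection.involves_of_surjective H e.toMonoidHom e.surjective)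
  · intro hn
    obtain ⟨f, hf⟩ := Aux.exists_hom hp n hn
    exact ⟨f.range, ⟨(MonoidHom.ofInjective hf).symm⟩⟩

end Cfsg.Agent.S3835
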