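import Cfsg.Statements.S4231
import Mathlib
import Cfsg.Agent.S2119
import Cfsg.Agent.Lib.Perm.AutAltGen
import Cfsg.Agent.S3835
-- import your own Cfsg.Agent.* helpers here

set_option autoImplicit false
open Cfsg

namespace Cfsg.Agent.S4231

namespace Aux

open Equiv Equiv.Perm

set_option maxRecDepth 100000 in
theorem count_three : ((Finset.univ : Finset (alternatingGroup (Fin 6))).filter
    fun x : alternatingGroup (Fin 6) => (x : Perm (Fin 6)).support.card = 3).card = 40 := by decide +kernel

set_option maxRecDepth 100000 in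
theorem count_six : ((Finset.univ : Finset (alternatingGroup (Fin 6))).filter
    fun x : alternatingGroup (Fin 6) => x ^ 3 = 1 ∧ (x : Perm (Fin 6)).support.card = 6).card = 40 := by decide +kernel

theorem support_cases (x : alternatingGroup (Fin 6)) (h : x ^ 3 = 1) (h1 : x ≠ 1) :
    (x : Perm (Fin 6)).support.card = 3 ∨ (x : Perm (Fin 6)).support.card = 6 := by
  have hne : (x : Perm (Fin 6)) ≠ 1 := fun e => h1 (Subtype.ext e)
  have hx : (x : Perm (Fin 6)) ^ 3 = 1 := congrArg Subtype.val h
  have hfin : Fact (Nat.Prime 3) := ⟨Nat.prime_three⟩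
  have hct := cycleType_of_pow_prime_eq_one hx
  have hs := (x : Perm (Fin 6)).sum_cycleType
  rw [hct, Multiset.sum_replicate, smul_eq_mul] at hs
  have := Finset.card_le_univ (x : Perm (Fin 6)).support
  rw [Fintype.card_fin] at this
  have h0 : (x : Perm (Fin 6)).support.card ≠ 0 := fun e => hne (by rwa [Finset.card_eq_zero, support_eq_empty_iff] at e)
  omega

/-- An odd-order automorphism of the alternating group of degree six preserves the three-cycles. -/
theorem six_threeCycle (φ : MulAut (alternatingGroup (Fin 6))) (hodd : Odd (orderOf φ)) (x : alternatingGroup (Fin 6))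
    (hx : IsThreeCycle (x : Perm (Fin 6))) : IsThreeCycle (φ x : Perm (Fin 6)) := by
  classical
  set T := (Finset.univ : Finset (alternatingGroup (Fin 6))).filter fun x : alternatingGroup (Fin 6) => (x : Perm (Fin 6)).support.card = 3 with hT
  set D := (Finset.univ : Finset (alternatingGroup (Fin 6))).filter
    fun x : alternatingGroup (Fin 6) => x ^ 3 = 1 ∧ (x : Perm (Fin 6)).support.card = 6 with hD
  have hmemT : ∀ y, y ∈ T ↔ IsThreeCycle (y : Perm (Fin 6)) := fun y => by
    rw [hT, Finset.mem_filter, card_support_eq_three_iff]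
    exact and_iff_right (Finset.mem_univ y)
  have hord : ∀ y, y ∈ T → y ^ 3 = 1 ∧ y ≠ 1 := fun y hy => by
    have h := ((hmemT y).mp hy).orderOf
    rw [Subgroup.orderOf_coe] at h
    exact ⟨h ▸ pow_orderOf_eq_one y, fun e => by rw [e, orderOf_one] at h; omega⟩
  by_contra hne
  have hTD : T.image φ ⊆ D := by
    intro y hy
    obtain ⟨z, hz, rfl⟩ := Finset.mem_image.mp hy
    obtain ⟨h3, h1⟩ := hord z hz
    have h3' : φ z ^ 3 = 1 := by rw [← map_pow, h3, map_one]
    have h1' : φ z ≠ 1 := fun e => h1 (φ.injective (e.trans (map_one φ).symm))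
    rcases support_cases _ h3' h1' with h | h
    · exfalso
      have hzc : IsThreeCycle (φ z : Perm (Fin 6)) := card_support_eq_three_iff.mp h
      obtain ⟨g, hg⟩ := isConj_iff.mp (alternatingGroup.isThreeCycle_isConj
        (by simp) ((hmemT z).mp hz) hx)
      refine hne ?_
      have h2 : φ x = φ g * φ z * (φ g)⁻¹ := by
        rw [← map_inv, ← map_mul, ← map_mul]
        congr 1
        exact Subtype.ext (congrArg Subtype.val hg).symm
      rw [h2, Subgroup.coe_mul, Subgroup.coe_mul, Subgroup.coe_inv, IsThreeCycle, cycleType_conj]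
      exact hzc
    · exact Finset.mem_filter.mpr ⟨Finset.mem_univ _, h3', h⟩
  have heq : T.image φ = D := Finset.eq_of_subset_of_card_le hTD (by
    rw [Finset.card_image_of_injective _ φ.injective, count_six, count_three])
  have hDT : ∀ d ∈ D, φ d ∈ T := by
    intro d hd
    have hd' := (Finset.mem_filter.mp hd).2
    have h3' : φ d ^ 3 = 1 := by rw [← map_pow, hd'.1, map_one]
    have h1' : φ d ≠ 1 := fun e => by
      rw [φ.injective (e.trans (map_one φ).symm), Subgroup.coe_one, support_one] at hd'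
      simp at hd'
    rcases support_cases _ h3' h1' with h | h
    · exact Finset.mem_filter.mpr ⟨Finset.mem_univ _, h⟩
    · exfalso
      have : φ d ∈ T.image φ := by rw [heq]; exact Finset.mem_filter.mpr ⟨Finset.mem_univ _, h3', h⟩
      obtain ⟨t, ht, e⟩ := Finset.mem_image.mp this
      rw [φ.injective e] at ht
      have := (Finset.mem_filter.mp ht).2
      omega
  have halt : ∀ k : ℕ, ∀ t ∈ T, (φ ^ (2 * k + 1)) t ∈ D := by
    intro k
    induction k with
    | zero => intro t ht; rw [mul_zero, zero_add, pow_one]; exact hTD (Finset.mem_image_of_mem _ ht)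
    | succ k ih =>
      intro t ht
      rw [show 2 * (k + 1) + 1 = 1 + (1 + (2 * k + 1)) by ring, pow_add, pow_add, pow_one, MulAut.mul_apply,
        MulAut.mul_apply]
      exact hTD (Finset.mem_image_of_mem _ (hDT _ (ih t ht)))
  obtain ⟨k, hk⟩ := hodd
  have h := halt k x ((hmemT x).mpr hx)
  rw [← hk, pow_orderOf_eq_one, MulAut.one_apply] at h
  have h6 := (Finset.mem_filter.mp h).2.2
  rw [hx.card_support] at h6
  omega

theorem odd_sylow {n : ℕ} (hn : 5 ≤ n) (G : Subgroup (MulAut (alternatingGroup (Fin n)))) {q : ℕ} [Fact q.Prime]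
    (hq : q ≠ 2) (hlt : n < q ^ 2) (Q : Sylow q G) : IsMulCommutative (Q : Subgroup G) := by
  classical
  let C : Perm (Fin n) →* MulAut (alternatingGroup (Fin n)) := MulAut.conjNormal
  have hC := CfsgLib.AutAltGen.conjNormal_injective n (by omega)
  set K := ((Q : Subgroup G).map G.subtype).comap C with hK
  have hKp : IsPGroup q K := (Q.2.map _).comap_of_injective C hC
  have hsurj : ∀ φ ∈ (Q : Subgroup G), ∃ σ ∈ K, C σ = (φ : MulAut (alternatingGroup (Fin n))) := by
    intro φ hφ
    obtain ⟨j, hj⟩ := IsPGroup.iff_orderOf.1 Q.2 ⟨φ, hφ⟩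
    have hodd : Odd (orderOf (φ : MulAut (alternatingGroup (Fin n)))) := by
      rw [Subgroup.orderOf_coe, ← Subgroup.orderOf_mk φ hφ, hj]
      exact ((Fact.out : q.Prime).odd_of_ne_two hq).pow
    obtain ⟨σ, hσ⟩ : ∃ σ, C σ = (φ : MulAut (alternatingGroup (Fin n))) := by
      rcases eq_or_ne n 6 with rfl | h6
      · exact CfsgLib.AutAltGen.exists_conjNormal 6 (by norm_num) _ (six_threeCycle _ hodd)
      · exact (Cfsg.Agent.S2119.result n (by omega) h6).2 _
    exact ⟨σ, ⟨φ, hφ, hσ.symm⟩, hσ⟩
  refine ⟨⟨fun a b => ?_⟩⟩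
  obtain ⟨σ, hσK, hσ⟩ := hsurj a.1 a.2
  obtain ⟨τ, hτK, hτ⟩ := hsurj b.1 b.2
  have h := congrArg (fun z : K => C z.1) (Cfsg.Agent.S3835.Aux.commute_of_lt (p := q) n hlt K hKp ⟨σ, hσK⟩ ⟨τ, hτK⟩)
  simp only [Subgroup.coe_mul, map_mul, hσ, hτ] at h
  exact Subtype.ext (Subtype.ext h)

theorem exists_element {n p q : ℕ} (hp : p.Prime) (hq : q.Prime) (hpq : p ≠ q) (hq2 : q ≠ 2)
    (hn : (if p = 2 then 4 else p) + q ≤ n) :
    ∃ g : alternatingGroup (Fin n), orderOf g = p * q := by
  classical
  set m : Multiset ℕ := if p = 2 then {2, 2, q} else {p, q} with hm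
  have hm1 : m.sum ≤ Fintype.card (Fin n) := by
    rw [Fintype.card_fin, hm]
    split <;> rename_i h <;> simp [h] at hn ⊢ <;> omega
  have hm2 : ∀ a ∈ m, 2 ≤ a := by
    intro a ha
    rw [hm] at ha
    split at ha <;> simp at ha <;> rcases ha with rfl | rfl <;> first | exact le_rfl | exact hp.two_le | exact hq.two_le
  obtain ⟨g, hg⟩ := (Equiv.Perm.exists_with_cycleType_iff (Fin n)).mpr ⟨hm1, hm2⟩
  have hsign : sign g = 1 := by
    rw [sign_of_cycleType, hg, hm]
    split
    · simp only [Multiset.insert_eq_cons, Multiset.sum_cons, Multiset.sum_singleton, Multiset.card_cons,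
        Multiset.card_singleton]
      obtain ⟨k, rfl⟩ := hq.odd_of_ne_two hq2
      exact Even.neg_one_pow ⟨k + 4, by ring⟩
    · rename_i h
      simp only [Multiset.insert_eq_cons, Multiset.sum_cons, Multiset.sum_singleton, Multiset.card_cons,
        Multiset.card_singleton]
      obtain ⟨k, rfl⟩ := hq.odd_of_ne_two hq2
      obtain ⟨l, rfl⟩ := hp.odd_of_ne_two h
      exact Even.neg_one_pow ⟨l + k + 2, by ring⟩
  refine ⟨⟨g, mem_alternatingGroup.mpr hsign⟩, ?_⟩
  rw [Subgroup.orderOf_mk, ← lcm_cycleType, hg, hm]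
  have hcop : Nat.Coprime p q := (Nat.coprime_primes hp hq).mpr hpq
  split
  · rename_i h
    subst h
    simp only [Multiset.insert_eq_cons, Multiset.lcm_cons, Multiset.lcm_singleton, normalize_eq]
    rw [lcm_eq_nat_lcm, lcm_eq_nat_lcm, hcop.lcm_eq_mul]
    exact Nat.lcm_eq_right (dvd_mul_right 2 q)
  · simp only [Multiset.insert_eq_cons, Multiset.lcm_cons, Multiset.lcm_singleton, normalize_eq]
    exact hcop.lcm_eq_mul

theorem dichotomy (n : ℕ) (hn : 5 ≤ n) (G : Subgroup (MulAut (alternatingGroup (Fin n))))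
    (hG : (MulAut.conj : alternatingGroup (Fin n) →* MulAut (alternatingGroup (Fin n))).range ≤ G)
    (p q : ℕ) [Fact p.Prime] [Fact q.Prime] (hpq : p ≠ q) (h : ∀ g : G, orderOf g ≠ p * q) (hq2 : q ≠ 2) :
    (∀ P : Sylow p G, IsMulCommutative (P : Subgroup G)) ∨ (∀ Q : Sylow q G, IsMulCommutative (Q : Subgroup G)) := by
  classical
  by_contra hcon
  rw [not_or, not_forall, not_forall] at hcon
  obtain ⟨⟨P, hP⟩, ⟨Q, hQ⟩⟩ := hcon
  have hq : q ^ 2 ≤ n := not_lt.mp fun hlt => hQ (odd_sylow hn G hq2 hlt Q)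
  have hq3 : 3 ≤ q := by
    have := (Fact.out : q.Prime).two_le
    omega
  have hle : (if p = 2 then 4 else p) + q ≤ n := by
    split
    · nlinarith
    · rename_i hp2
      have hp' : p ^ 2 ≤ n := not_lt.mp fun hlt => hP (odd_sylow hn G hp2 hlt P)
      have hp3 : 3 ≤ p := by
        have := (Fact.out : p.Prime).two_le
        omega
      nlinarith
  obtain ⟨g, hg⟩ := exists_element (Fact.out : p.Prime) (Fact.out : q.Prime) hpq hq2 hle
  refine h ⟨MulAut.conj g, hG ⟨g, rfl⟩⟩ ?_
  rw [Subgroup.orderOf_mk, orderOf_injective MulAut.conj ?_ g, hg]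
  rw [← MonoidHom.ker_eq_bot_iff, eq_bot_iff]
  intro x hx
  have h4 : 4 ≤ Nat.card (Fin n) := by rw [Nat.card_fin]; omega
  rw [← alternatingGroup.center_eq_bot h4, Subgroup.mem_center_iff]
  intro y
  have hxy := congrArg (fun f : MulAut (alternatingGroup (Fin n)) => f y) (MonoidHom.mem_ker.mp hx)
  simp only [MulAut.conj_apply, MulAut.one_apply] at hxy
  exact (mul_inv_eq_iff_eq_mul.mp hxy).symm

end Aux

/-- Let n ≥ 5 and let G be a group of automorphisms of the alternating group of degree n containing all inner automorphisms. If p ≠ q are primes and G has no element of order pq, then every Sylow p-subgroup of G is abelian or every Sylow q-subgroup of G is abelian. -/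
theorem result (n : ℕ) (hn : 5 ≤ n) (G : Subgroup (MulAut (alternatingGroup (Fin n))))
    (hG : (MulAut.conj : alternatingGroup (Fin n) →* MulAut (alternatingGroup (Fin n))).range ≤ G)
    (p q : ℕ) [Fact p.Prime] [Fact q.Prime] (hpq : p ≠ q) (h : ∀ g : G, orderOf g ≠ p * q) :
    (∀ P : Sylow p G, IsMulCommutative (P : Subgroup G)) ∨ (∀ Q : Sylow q G, IsMulCommutative (Q : Subgroup G)) := by
  classical
  rcases eq_or_ne p 2 with rfl | hp2
  · exact Aux.dichotomy n hn G hG 2 q hpq h (by
      intro hq2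
      exact hpq hq2.symm)
  rcases eq_or_ne q 2 with rfl | hq2
  · exact (Aux.dichotomy n hn G hG 2 p hpq.symm (fun g => by rw [mul_comm]; exact h g) (fun e => hp2 e)).symm
  exact Aux.dichotomy n hn G hG p q hpq h hq2

end Cfsg.Agent.S4231
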