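import Cfsg.Statements.S4033
import Cfsg.Agent.Lib.RegularTwoSizes.Final
-- import your own Cfsg.Agent.* helpers here

set_option autoImplicit false
open Cfsg

namespace Cfsg.Agent.S4033

open Subgroup CfsgLib.RegularTwoSizes

/-- Let G be a finite group and p a prime, and suppose the conjugacy classes of p-regular elements of G (elements of order prime to p) have exactly two distinct sizes. Then either G has an abelian p-complement (an abelian subgroup of order prime to p and p-power index), or there are a prime q ≠ p, a Sylow p-subgroup P, a Sylow q-subgroup Q and a central subgroup A such that PQ is a normal subgroup of order #P·#Q and G is the internal direct product PQ × A. -/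
theorem result {G : Type*} [Group G] [Finite G] {p : ℕ} (hp : p.Prime)
    (h2 : Set.ncard (Set.range fun x : {x : G // (orderOf x).Coprime p} => (ConjClasses.mk (x : G)).carrier.ncard) = 2) :
    (∃ H : Subgroup G, IsMulCommutative H ∧ ¬ p ∣ Nat.card H ∧ ∃ k : ℕ, H.index = p ^ k) ∨
    (∃ (q : ℕ) (_ : Fact q.Prime) (P : Sylow p G) (Q : Sylow q G) (A : Subgroup G), q ≠ p ∧
        A ≤ Subgroup.center G ∧ Nat.card ↥((P : Subgroup G) ⊔ (Q : Subgroup G)) = Nat.card P * Nat.card Q ∧
        ((P : Subgroup G) ⊔ (Q : Subgroup G)).Normal ∧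
        ((P : Subgroup G) ⊔ (Q : Subgroup G)) ⊓ A = ⊥ ∧ ((P : Subgroup G) ⊔ (Q : Subgroup G)) ⊔ A = ⊤) := by
  classical
  haveI := Fact.mk hp
  -- the two sizes are `1` and `m`
  have hset := Set.ncard_eq_two.1 h2
  obtain ⟨s₁, s₂, hne, hs⟩ := hset
  have hsize : ∀ x : G, (orderOf x).Coprime p →
      (centralizer ({x} : Set G)).index ∈ ({s₁, s₂} : Set ℕ) := fun x hx => by
    rw [← hs, ← CfsgLib.ncard_carrier_eq_index_centralizer]
    exact ⟨⟨x, hx⟩, rfl⟩
  have hone : (1 : ℕ) ∈ ({s₁, s₂} : Set ℕ) := by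
    have h := hsize 1 (by rw [orderOf_one]; exact Nat.coprime_one_left p)
    rwa [index_eq_one.2] at h
    exact eq_top_iff.2 fun g _ => mem_centralizer_singleton_iff.2 (by simp)
  obtain ⟨m, hm1, hm⟩ : ∃ m, m ≠ 1 ∧ ({s₁, s₂} : Set ℕ) = {1, m} := by
    rcases hone with h | h
    · exact ⟨s₂, by rw [h]; exact hne.symm, by rw [← h]⟩
    · rw [Set.mem_singleton_iff] at h
      exact ⟨s₁, by rw [h]; exact hne, by rw [← h, Set.pair_comm]⟩
  have hidx : ∀ x : G, NC p x → (cz x).index = m := fun x hx => by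
    have h := hsize x hx.1
    rw [hm] at h
    rcases h with h | h
    · refine absurd (Subgroup.mem_center_iff.2 fun g => ?_) hx.2
      exact mem_cz.1 ((index_eq_one.1 h : cz x = ⊤) ▸ mem_top g)
    · exact h
  obtain ⟨x, hx⟩ : ∃ x : G, NC p x := by
    have hmem : m ∈ ({s₁, s₂} : Set ℕ) := by rw [hm]; exact Or.inr rfl
    rw [← hs] at hmem
    obtain ⟨⟨y, hy⟩, hym⟩ := hmem
    refine ⟨y, hy, fun hc => hm1 ?_⟩
    rw [← hym]
    show (ConjClasses.mk y).carrier.ncard = 1
    rw [CfsgLib.ncard_carrier_eq_index_centralizer, index_eq_one]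
    exact eq_top_iff.2 fun g _ => mem_centralizer_singleton_iff.2 (Subgroup.mem_center_iff.1 hc g)
  by_cases htwo : ∀ q : ℕ, ∃ r : ℕ, r ≠ q ∧ NCP p r G
  · left
    have H : Hyp G p m := ⟨hp, hidx, htwo⟩
    exact exists_complement_of_odd H fun q hq hqp => not_dvd_of_ne H hq hqp
  · right
    push Not at htwo
    obtain ⟨q, hq⟩ := htwo
    have honly : ∀ r, NCP p r G → r = q := fun r hr => by_contra fun h => hq r h hr
    obtain ⟨r, j, hr, hrp, hrel, hrc⟩ := exists_qel_power hp hx
    obtain rfl := honly r ⟨hr, hrp, x ^ j, hrel, hrc⟩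
    haveI := Fact.mk hr
    obtain ⟨P⟩ : Nonempty (Sylow p G) := inferInstance
    obtain ⟨Q⟩ : Nonempty (Sylow r G) := inferInstance
    -- the central elements of order prime to `p` and `q`
    let A : Subgroup G :=
      { carrier := {g | g ∈ center G ∧ Reg p g ∧ Reg r g}
        one_mem' := ⟨one_mem _, Reg.one, Reg.one⟩
        mul_mem' := fun {a b} ha hb => ⟨mul_mem ha.1 hb.1,
          ha.2.1.mul hb.2.1 (Subgroup.mem_center_iff.1 hb.1 a),
          ha.2.2.mul hb.2.2 (Subgroup.mem_center_iff.1 hb.1 a)⟩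
        inv_mem' := fun {a} ha => ⟨inv_mem ha.1, ha.2.1.inv, ha.2.2.inv⟩ }
    have hAc : A ≤ center G := fun g hg => hg.1
    haveI hAn : A.Normal := ⟨fun a ha g => by
      rw [Subgroup.mem_center_iff.1 ha.1 g, mul_inv_cancel_right]; exact ha⟩
    have hAp : ∀ s : ℕ, s.Prime → s ∣ Nat.card A → s ≠ p ∧ s ≠ r := by
      intro s hsp hd
      haveI := Fact.mk hsp
      obtain ⟨a, ha⟩ := exists_prime_orderOf_dvd_card' s hd
      have h1 := a.2.2.1
      have h2' := a.2.2.2
      rw [Reg, orderOf_coe, ha] at h1 h2'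
      exact ⟨fun e => hsp.ne_one (by rwa [← e, Nat.coprime_self] at h1),
        fun e => hsp.ne_one (by rwa [← e, Nat.coprime_self] at h2')⟩
    have hAi : ∀ s : ℕ, s.Prime → s ∣ A.index → s = p ∨ s = r := by
      intro s hsp hd
      by_contra hcon
      push Not at hcon
      haveI := Fact.mk hsp
      obtain ⟨S⟩ : Nonempty (Sylow s G) := inferInstance
      refine S.not_dvd_index (hd.trans (index_dvd_of_le fun g hg => ?_))
      have hge : IsQEl s g := IsQEl.of_mem S.2 hg
      exact ⟨by_contra fun h => hcon.2 (honly s ⟨hsp, hcon.1, g, hge, h⟩),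
        reg_of_isQEl hp hsp hcon.1 hge, reg_of_isQEl hr hsp hcon.2 hge⟩
    have hcop : (Nat.card A).Coprime A.index := Nat.coprime_of_dvd fun s hsp h1 h2' =>
      (hAi s hsp h2').elim (hAp s hsp h1).1 (hAp s hsp h1).2
    obtain ⟨K, hK⟩ := Subgroup.exists_right_complement'_of_coprime hcop
    have hKn : K.Normal := ⟨fun k hk g => by
      obtain ⟨⟨⟨a, ha⟩, ⟨b, hb⟩⟩, hab⟩ := (show Function.Surjective fun w : A × K => (w.1 : G) * w.2 from hK.2) g
      rw [← hab]
      show a * b * k * (a * b)⁻¹ ∈ K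
      rw [show a * b * k * (a * b)⁻¹ = a * (b * k * b⁻¹) * a⁻¹ by group,
        ← Subgroup.mem_center_iff.1 (hAc ha) (b * k * b⁻¹), mul_inv_cancel_right]
      exact mul_mem (mul_mem hb hk) (inv_mem hb)⟩
    have hKi : K.index = Nat.card A := hK.index_eq_card
    have hle : ∀ (s : ℕ) (hs' : s.Prime) (S : Sylow s G), (s = p ∨ s = r) → (S : Subgroup G) ≤ K := by
      intro s hs' S hsr g hg
      rw [← QuotientGroup.eq_one_iff]
      have h1 : IsQEl s (QuotientGroup.mk' K g) := qel_map _ (IsQEl.of_mem S.2 hg)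
      have h2' : (QuotientGroup.mk' K g) ^ Nat.card A = 1 := by
        rw [← hKi, Subgroup.index, pow_card_eq_one']
      exact h1.eq_one hs' h2' fun hd => hsr.elim (hAp s hs' hd).1 (hAp s hs' hd).2
    have hPK := hle p hp P (Or.inl rfl)
    have hQK := hle r hr Q (Or.inr rfl)
    have hcardK : Nat.card K = A.index := hK.symm.index_eq_card.symm
    have hco : (Nat.card (P : Subgroup G)).Coprime (Nat.card (Q : Subgroup G)) := by
      rw [P.card_eq_multiplicity, Q.card_eq_multiplicity]
      exact ((Nat.coprime_primes hp hr).2 (Ne.symm hrp)).pow _ _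
    have hmul : Nat.card (P : Subgroup G) * Nat.card (Q : Subgroup G) = Nat.card K := by
      refine Nat.dvd_antisymm (hco.mul_dvd_of_dvd_of_dvd (card_dvd_of_le hPK) (card_dvd_of_le hQK)) ?_
      rw [← Nat.factorization_le_iff_dvd Nat.card_pos.ne' (mul_ne_zero Nat.card_pos.ne' Nat.card_pos.ne')]
      intro s
      rw [Nat.factorization_mul Nat.card_pos.ne' Nat.card_pos.ne', Finsupp.add_apply]
      by_cases hs0 : s ∈ (Nat.card K).primeFactors
      swap
      · rw [← Nat.support_factorization, Finsupp.notMem_support_iff] at hs0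
        omega
      obtain ⟨hs', hsd, -⟩ := Nat.mem_primeFactors.1 hs0
      have hle' := (Nat.factorization_le_iff_dvd Nat.card_pos.ne' Nat.card_pos.ne').2
        K.card_subgroup_dvd_card s
      rcases hAi s hs' (hcardK ▸ hsd) with rfl | rfl
      · rw [P.card_eq_multiplicity, hp.factorization_pow, Finsupp.single_eq_same]
        omega
      · rw [Q.card_eq_multiplicity, hr.factorization_pow, Finsupp.single_eq_same]
        omega
    have hsup : (P : Subgroup G) ⊔ (Q : Subgroup G) = K := by
      refine Subgroup.eq_of_le_of_card_ge (sup_le hPK hQK) ?_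
      rw [← hmul]
      exact Nat.le_of_dvd Nat.card_pos
        (hco.mul_dvd_of_dvd_of_dvd (card_dvd_of_le le_sup_left) (card_dvd_of_le le_sup_right))
    refine ⟨r, Fact.mk hr, P, Q, A, hrp, hAc, ?_, ?_, ?_, ?_⟩
    · rw [hsup, ← hmul]
    · rw [hsup]; exact hKn
    · rw [hsup, inf_comm]; exact hK.disjoint.eq_bot
    · rw [hsup, sup_comm]; exact hK.sup_eq_top

end Cfsg.Agent.S4033
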