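import Cfsg.Statements.S4034
import Cfsg.Agent.Lib.PRegularClass
-- import your own Cfsg.Agent.* helpers here

set_option autoImplicit false
open Cfsg

namespace Cfsg.Agent.S4034

open Subgroup CfsgLib
open scoped IsMulCommutative

universe u

variable {p : ℕ}

/-- Every `p`-regular element has a centraliser of `p`-power index. -/
def RegularClasses (p : ℕ) (G : Type u) [Group G] : Prop :=
  ∀ x : G, (orderOf x).Coprime p → ∃ k : ℕ, (Subgroup.centralizer ({x} : Set G)).index = p ^ k

theorem regularClasses_quotient {G : Type u} [Group G] [Finite G] (hp : p.Prime)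
    (h : RegularClasses p G) (N : Subgroup G) [N.Normal] : RegularClasses p (G ⧸ N) := by
  intro z hz
  obtain ⟨y, rfl, hy⟩ := exists_coprime_preimage hp N z hz
  obtain ⟨k, hk⟩ := h y hy
  exact exists_primePow_index_of_dvd hp (index_centralizer_quotient_dvd N y) hk

theorem regularClasses_normal {G : Type u} [Group G] [Finite G] (hp : p.Prime)
    (h : RegularClasses p G) (N : Subgroup G) [N.Normal] : RegularClasses p N := by
  intro x hx
  rw [← Subgroup.orderOf_coe] at hx
  obtain ⟨k, hk⟩ := h x hx
  refine exists_primePow_index_of_dvd hp (dvd_trans ?_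
    (relIndex_dvd_index_of_normal_top (Subgroup.centralizer ({(x : G)} : Set G)) N)) hk
  refine Subgroup.index_dvd_of_le ?_
  intro c hc
  rw [Subgroup.mem_subgroupOf, Subgroup.mem_centralizer_singleton_iff] at hc
  rw [Subgroup.mem_centralizer_singleton_iff]
  exact Subtype.ext hc

theorem isSolvable_of_regularClasses (hp : p.Prime) :
    ∀ n, ∀ (G : Type u) [Group G] [Finite G], Nat.card G = n → RegularClasses p G →
      Group.IsSolvable G := by
  intro n
  induction n using Nat.strong_induction_on with
  | _ n ih =>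
  intro G _ _ hn h
  subst hn
  have := Fact.mk hp
  rcases subsingleton_or_nontrivial G with hG | hG
  · infer_instance
  by_cases hs : IsSimpleGroup G
  · by_cases hpg : IsPGroup p G
    · have := hpg.isNilpotent
      infer_instance
    · obtain ⟨q, hq, hqd, hqp⟩ : ∃ q : ℕ, q.Prime ∧ q ∣ Nat.card G ∧ q ≠ p := by
        by_contra hc
        push Not at hc
        exact hpg (IsPGroup.of_card (Nat.eq_prime_pow_of_unique_prime_dvd Nat.card_pos.ne'
          (fun {d} hd hdd => hc d hd hdd)))
      have := Fact.mk hq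
      obtain ⟨x, hx⟩ := exists_prime_orderOf_dvd_card' q hqd
      obtain ⟨k, hk⟩ := h x (by rw [hx]; exact (Nat.coprime_primes hq hp).mpr hqp)
      have hpr := CfsgLib.CharTheory.prime_card_of_simple_class_prime_pow hp
        (fun e => hq.ne_one (by rw [← hx, e, orderOf_one])) hk
      have := Fact.mk hpr
      have := isCyclic_of_prime_card (α := G) rfl
      let _ := IsCyclic.commGroup (α := G)
      infer_instance
  · obtain ⟨N, hN, hN1, hN2⟩ : ∃ N : Subgroup G, N.Normal ∧ N ≠ ⊥ ∧ N ≠ ⊤ := by
      by_contra hc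
      push Not at hc
      exact hs ⟨fun N hN => (em (N = ⊥)).imp id (hc N hN)⟩
    exact (Group.isSolvable_iff_subgroup_quotient N).mpr
      ⟨ih _ (card_lt_of_ne_top hN2) N rfl (regularClasses_normal hp h N),
      ih _ (card_quotient_lt_of_ne_bot hN1) (G ⧸ N) rfl (regularClasses_quotient hp h N)⟩

theorem complement_of_regularClasses (hp : p.Prime) :
    ∀ n, ∀ (G : Type u) [Group G] [Finite G], Nat.card G = n → RegularClasses p G →
      ∃ H : Subgroup G, IsMulCommutative H ∧ ¬ p ∣ Nat.card H ∧ ∃ k : ℕ, H.index = p ^ k := by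
  intro n
  induction n using Nat.strong_induction_on with
  | _ n ih =>
  intro G _ _ hn h
  subst hn
  have := Fact.mk hp
  have := isSolvable_of_regularClasses hp _ G rfl h
  by_cases hO : pCore p G = ⊥
  · set F := fittingSubgroup G with hF
    have hpF : ¬ p ∣ Nat.card F := not_dvd_card_fitting_of_pCore_eq_bot hO
    have hreg : ∀ x : G, (orderOf x).Coprime p →
        F ≤ Subgroup.centralizer ({x} : Set G) := by
      intro x hx
      obtain ⟨k, hk⟩ := h x hx
      rw [← Subgroup.relIndex_eq_one]
      exact Nat.eq_one_of_dvd_coprimes ((hp.coprime_iff_not_dvd.mpr hpF).symm.pow_right k)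
        (((Subgroup.centralizer ({x} : Set G)).subgroupOf F).index_dvd_card)
        ((relIndex_dvd_index_of_normal_top _ F).trans hk.dvd)
    have hmem : ∀ x : G, (orderOf x).Coprime p → x ∈ F := fun x hx =>
      centralizer_fitting_le_of_solvable fun f hf =>
        Subgroup.mem_centralizer_singleton_iff.mp (hreg x hx hf)
    refine ⟨F, ?_, hpF, ?_⟩
    · refine IsMulCommutative.mk ⟨fun a b => Subtype.ext ?_⟩
      have hb : (orderOf (b : G)).Coprime p :=
        ((hp.coprime_iff_not_dvd.mpr hpF).symm).coprime_dvd_left (Subgroup.orderOf_dvd_natCard F b.2)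
      exact Subgroup.mem_centralizer_singleton_iff.mp (hreg b hb a.2)
    · refine ⟨_, Nat.eq_prime_pow_of_unique_prime_dvd Subgroup.index_ne_zero_of_finite fun {q} hq hqd => ?_⟩
      by_contra hqp
      have := Fact.mk hq
      obtain ⟨S⟩ : Nonempty (Sylow q G) := inferInstance
      have hSF : (S : Subgroup G) ≤ F := by
        intro x hx
        obtain ⟨j, hj⟩ := IsPGroup.iff_orderOf.mp S.2 ⟨x, hx⟩
        rw [Subgroup.orderOf_mk] at hj
        exact hmem x (by rw [hj]; exact ((Nat.coprime_primes hq hp).mpr hqp).pow_left j)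
      exact S.not_dvd_index (hqd.trans (Subgroup.index_dvd_of_le hSF))
  · obtain ⟨N, hN, hNc, hNp, hN1⟩ := exists_abelian_normal_pSubgroup hO
    obtain ⟨Hb, hHc, hHp, k, hk⟩ :=
      ih _ (card_quotient_lt_of_ne_bot hN1) (G ⧸ N) rfl (regularClasses_quotient hp h N)
    set M := Hb.comap (QuotientGroup.mk' N) with hM
    have hNM : N ≤ M := fun x hx => by
      rw [hM, Subgroup.mem_comap, show QuotientGroup.mk' N x = 1 from (QuotientGroup.eq_one_iff x).mpr hx]
      exact one_mem _
    have hcardN : Nat.card (N.subgroupOf M) = Nat.card N :=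
      Nat.card_congr (Subgroup.subgroupOfEquivOfLe hNM).toEquiv
    have hidxN : (N.subgroupOf M).index = Nat.card Hb := by
      change N.relIndex M = _
      have h1 := Subgroup.relIndex_comap (⊥ : Subgroup (G ⧸ N)) (QuotientGroup.mk' N) M
      rw [MonoidHom.comap_bot, QuotientGroup.ker_mk', Subgroup.relIndex_bot_left] at h1
      rw [h1, hM, Subgroup.map_comap_eq_self_of_surjective (QuotientGroup.mk'_surjective N)]
    obtain ⟨a, ha⟩ := hNp.exists_card_eq
    have hcop : Nat.Coprime (Nat.card (N.subgroupOf M)) (N.subgroupOf M).index := by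
      rw [hcardN, hidxN, ha]
      exact (hp.coprime_iff_not_dvd.mpr hHp).pow_left a
    obtain ⟨K, hK⟩ := Subgroup.exists_right_complement'_of_coprime hcop
    have hKcard : Nat.card K = Nat.card Hb := by
      rw [← hK.symm.index_eq_card, hidxN]
    refine ⟨K.map M.subtype, ?_, ?_, a + k, ?_⟩
    · refine IsMulCommutative.mk ⟨?_⟩
      rintro ⟨_, y, hy, rfl⟩ ⟨_, z, hz, rfl⟩
      have hq : y * z * (z * y)⁻¹ = 1 := by
        have h1 : y * z * (z * y)⁻¹ ∈ N.subgroupOf M := by
          rw [Subgroup.mem_subgroupOf, ← QuotientGroup.eq_one_iff, ← QuotientGroup.mk'_apply]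
          push_cast
          simp only [map_mul, map_inv]
          rw [mul_inv_eq_one]
          exact congrArg Subtype.val
            (mul_comm (⟨_, y.2⟩ : Hb) ⟨QuotientGroup.mk' N (z : G), z.2⟩)
        exact Subgroup.disjoint_def.mp hK.disjoint h1
          (mul_mem (mul_mem hy hz) (inv_mem (mul_mem hz hy)))
      exact Subtype.ext (congrArg (M.subtype) (mul_inv_eq_one.mp hq))
    · rw [Subgroup.card_map_of_injective (Subgroup.subtype_injective M), hKcard]
      exact hHp
    · rw [Subgroup.index_map_subtype, hK.index_eq_card, hcardN, ha, hM,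
        Subgroup.index_comap_of_surjective _ (QuotientGroup.mk'_surjective N), hk, pow_add]

theorem regularClasses_of_complement (hp : p.Prime) :
    ∀ n, ∀ (G : Type u) [Group G] [Finite G], Nat.card G = n → ∀ H : Subgroup G,
      IsMulCommutative H → ¬ p ∣ Nat.card H → (∃ k : ℕ, H.index = p ^ k) → RegularClasses p G := by
  intro n
  induction n using Nat.strong_induction_on with
  | _ n ih =>
  intro G _ _ hn H hHc hHp ⟨k, hk⟩
  subst hn
  have := Fact.mk hp
  have := isSolvable_of_abelian_primePow_index hp G H hHc ⟨k, hk⟩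
  intro x hx
  by_cases hO : pCore p G = ⊥
  · set F := fittingSubgroup G with hF
    have hpF : ¬ p ∣ Nat.card F := not_dvd_card_fitting_of_pCore_eq_bot hO
    have hFH : F ≤ H := by
      rw [← Subgroup.relIndex_eq_one]
      exact Nat.eq_one_of_dvd_coprimes ((hp.coprime_iff_not_dvd.mpr hpF).symm.pow_right k)
        ((H.subgroupOf F).index_dvd_card) ((relIndex_dvd_index_of_normal_top _ F).trans hk.dvd)
    have hHF : H = F := le_antisymm (fun a ha => centralizer_fitting_le_of_solvable fun f hf =>
      congrArg Subtype.val (mul_comm (⟨f, hFH hf⟩ : H) ⟨a, ha⟩)) hFH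
    have hxH : x ∈ H := by
      rw [hHF, ← QuotientGroup.eq_one_iff (N := F) x, ← orderOf_eq_one_iff]
      refine Nat.eq_one_of_dvd_coprimes (hx.pow_right k) (orderOf_map_dvd (QuotientGroup.mk' F) x) ?_
      rw [← hk, hHF]
      exact orderOf_dvd_natCard _
    exact exists_primePow_index_of_dvd hp (Subgroup.index_dvd_of_le fun a ha =>
      Subgroup.mem_centralizer_singleton_iff.mpr
        (congrArg Subtype.val (mul_comm (⟨a, ha⟩ : H) ⟨x, hxH⟩))) hk
  · obtain ⟨N, hN, hNc, hNp, hN1⟩ := exists_abelian_normal_pSubgroup hO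
    obtain ⟨j, hj⟩ := ih _ (card_quotient_lt_of_ne_bot hN1) (G ⧸ N) rfl
      (H.map (QuotientGroup.mk' N)) inferInstance
      (fun hd => hHp (hd.trans (Subgroup.card_map_dvd H _)))
      (exists_primePow_index_of_dvd hp (Subgroup.index_map_dvd _ (QuotientGroup.mk'_surjective N)) hk)
      (QuotientGroup.mk' N x) (hx.coprime_dvd_left (orderOf_map_dvd _ x))
    exact index_centralizer_eq_pow_of_quotient N hNp hx hj

/-- Let G be a finite group and p a prime. Every conjugacy class of p-regular elements of G (elements of order prime to p) has p-power size if and only if G has an abelian p-complement, i.e. an abelian subgroup of order prime to p and p-power index. -/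
theorem result {G : Type*} [Group G] [Finite G] {p : ℕ} (hp : p.Prime) :
    (∀ x : G, (orderOf x).Coprime p → ∃ k : ℕ, (ConjClasses.mk x).carrier.ncard = p ^ k) ↔
    (∃ H : Subgroup G, IsMulCommutative H ∧ ¬ p ∣ Nat.card H ∧ ∃ k : ℕ, H.index = p ^ k) := by
  simp only [CfsgLib.ncard_carrier_eq_index_centralizer]
  exact ⟨complement_of_regularClasses hp _ G rfl,
    fun ⟨H, hc, hd, hi⟩ => regularClasses_of_complement hp _ G rfl H hc hd hi⟩

end Cfsg.Agent.S4034
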