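import Cfsg.Statements.S4201
import Mathlib
-- import your own Cfsg.Agent.* helpers here

set_option autoImplicit false
open Cfsg

namespace Cfsg.Agent.S4201

/-- If N is a normal subgroup of the finite group X then k(X) ≤ k(N)·k(X ⧸ N), where k denotes the number of conjugacy classes. -/
theorem result {X : Type*} [Group X] [Finite X] (N : Subgroup X) [N.Normal] : Nat.card (ConjClasses X) ≤ Nat.card (ConjClasses N) * Nat.card (ConjClasses (X ⧸ N)) := by
  classical
  let y0 : X → (X ⧸ N) → X := fun x b => Classical.epsilon fun y : X => (y : X ⧸ N) = b ∧ Commute x y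
  let x0 : (X ⧸ N) → X → X := fun a n => Classical.epsilon fun x : X => (x : X ⧸ N) = a ∧ Commute x n
  have hy0 : ∀ x y : X, Commute x y → ((y0 x y : X) : X ⧸ N) = y ∧ Commute x (y0 x y) := fun x y h =>
    Classical.epsilon_spec (p := fun y' : X => (y' : X ⧸ N) = y ∧ Commute x y') ⟨y, rfl, h⟩
  have hx0 : ∀ x n : X, Commute x n → ((x0 x n : X) : X ⧸ N) = x ∧ Commute (x0 x n) n := fun x n h =>
    Classical.epsilon_spec (p := fun x' : X => (x' : X ⧸ N) = x ∧ Commute x' n) ⟨x, rfl, h⟩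
  let nn : {z : X × X // Commute z.1 z.2} → N := fun z => ⟨(y0 z.1.1 z.1.2)⁻¹ * z.1.2,
    QuotientGroup.eq.mp (hy0 _ _ z.2).1⟩
  have hn : ∀ z : {z : X × X // Commute z.1 z.2}, Commute z.1.1 (nn z : X) := fun z =>
    ((hy0 _ _ z.2).2.inv_right).mul_right z.2
  let mm : {z : X × X // Commute z.1 z.2} → N := fun z => ⟨(x0 z.1.1 (nn z))⁻¹ * z.1.1,
    QuotientGroup.eq.mp (hx0 _ _ (hn z)).1⟩
  have hm : ∀ z : {z : X × X // Commute z.1 z.2}, Commute (nn z) (mm z) := fun z =>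
    Subtype.ext (((hx0 _ _ (hn z)).2.symm.inv_right).mul_right (hn z).symm).eq
  let Φ : {z : X × X // Commute z.1 z.2} →
      {w : (X ⧸ N) × (X ⧸ N) // Commute w.1 w.2} × {w : N × N // Commute w.1 w.2} := fun z =>
    (⟨((z.1.1 : X ⧸ N), (z.1.2 : X ⧸ N)), z.2.map (QuotientGroup.mk' N)⟩, ⟨(nn z, mm z), hm z⟩)
  have hinj : Function.Injective Φ := by
    intro u v huv
    have h1 := congrArg (fun w => w.1.1) huv
    have h2 := congrArg (fun w => w.2.1) huv
    simp only [Φ, Prod.mk.injEq] at h1 h2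
    obtain ⟨ha, hb⟩ := h1
    obtain ⟨hnn, hmm⟩ := h2
    have hmv : (x0 u.1.1 (nn u))⁻¹ * u.1.1 = (x0 v.1.1 (nn v))⁻¹ * v.1.1 := congrArg Subtype.val hmm
    rw [ha, hnn] at hmv
    have hx : u.1.1 = v.1.1 := mul_left_cancel hmv
    have hnv : (y0 u.1.1 u.1.2)⁻¹ * u.1.2 = (y0 v.1.1 v.1.2)⁻¹ * v.1.2 := congrArg Subtype.val hnn
    rw [hb, hx] at hnv
    exact Subtype.ext (Prod.ext hx (mul_left_cancel hnv))
  have h := Nat.card_le_card_of_injective Φ hinj
  rw [Nat.card_prod, card_comm_eq_card_conjClasses_mul_card, card_comm_eq_card_conjClasses_mul_card,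
    card_comm_eq_card_conjClasses_mul_card, Subgroup.card_eq_card_quotient_mul_card_subgroup N] at h
  refine Nat.le_of_mul_le_mul_right ?_ (Nat.mul_pos (Nat.card_pos (α := X ⧸ N)) (Nat.card_pos (α := N)))
  refine h.trans (le_of_eq ?_)
  ring

end Cfsg.Agent.S4201
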