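import Cfsg.Statements.S4200
import Mathlib
-- import your own Cfsg.Agent.* helpers here

set_option autoImplicit false
open Cfsg

namespace Cfsg.Agent.S4200

theorem card_mul_relIndex' {X : Type*} [Group X] {H K : Subgroup X} (h : H ≤ K) :
    Nat.card H * H.relIndex K = Nat.card K := by
  have := Subgroup.relIndex_mul_relIndex ⊥ H K bot_le h
  rwa [Subgroup.relIndex_bot_left, Subgroup.relIndex_bot_left] at this

theorem relIndex_le_index' {X : Type*} [Group X] [Finite X] (H K : Subgroup X) :
    H.relIndex K ≤ H.index := by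
  rw [← Subgroup.relIndex_top_right]
  exact Subgroup.relIndex_le_of_le_right le_top (by rw [Subgroup.relIndex_top_right]; exact Subgroup.index_ne_zero_of_finite)

/-- Let Y be a subgroup of the finite group X, of index m. Then the numbers of conjugacy classes satisfy k(Y) ≤ m·k(X) and k(X) ≤ m·k(Y), and the second inequality is strict unless Y is normal in X. -/
theorem result {X : Type*} [Group X] [Finite X] (Y : Subgroup X) : Nat.card (ConjClasses Y) ≤ Y.index * Nat.card (ConjClasses X) ∧ Nat.card (ConjClasses X) ≤ Y.index * Nat.card (ConjClasses Y) ∧ (¬ Y.Normal → Nat.card (ConjClasses X) < Y.index * Nat.card (ConjClasses Y)) := by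
  classical
  have := Fintype.ofFinite X
  let c : X → Subgroup X := fun x => Subgroup.centralizer ({x} : Set X)
  have hX : Nat.card (ConjClasses X) * Nat.card X = ∑ x : X, Nat.card (c x) := by
    rw [← card_comm_eq_card_conjClasses_mul_card,
      Nat.card_congr (Equiv.subtypeProdEquivSigmaSubtype fun a b : X => Commute a b), Nat.card_sigma]
    refine Finset.sum_congr rfl fun x _ => Nat.card_congr (Equiv.subtypeEquivRight fun b => ?_)
    rw [Subgroup.mem_centralizer_singleton_iff]
    exact ⟨fun h => h.eq.symm, fun h => Eq.symm h⟩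
  have hY : Nat.card (ConjClasses Y) * Nat.card Y = ∑ y : Y, Nat.card ↥(c y ⊓ Y) := by
    rw [← card_comm_eq_card_conjClasses_mul_card,
      Nat.card_congr (Equiv.subtypeProdEquivSigmaSubtype fun a b : Y => Commute a b), Nat.card_sigma]
    refine Finset.sum_congr rfl fun y _ => Nat.card_congr
      { toFun := fun b => ⟨b.1.1, Subgroup.mem_centralizer_singleton_iff.mpr
          (congrArg Subtype.val b.2.eq.symm), b.1.2⟩
        invFun := fun b => ⟨⟨b.1, b.2.2⟩,
          (Subtype.ext (Subgroup.mem_centralizer_singleton_iff.mp b.2.1).symm : _)⟩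
        left_inv := fun _ => rfl
        right_inv := fun _ => rfl }
  have hM : ∑ x : X, Nat.card ↥(c x ⊓ Y) = ∑ y : Y, Nat.card (c y) := by
    rw [← Nat.card_sigma, ← Nat.card_sigma]
    exact Nat.card_congr
      { toFun := fun q => ⟨⟨q.2.1, q.2.2.2⟩, ⟨q.1, Subgroup.mem_centralizer_singleton_iff.mpr
          (Subgroup.mem_centralizer_singleton_iff.mp q.2.2.1).symm⟩⟩
        invFun := fun q => ⟨q.2.1, ⟨q.1.1, Subgroup.mem_centralizer_singleton_iff.mpr
          (Subgroup.mem_centralizer_singleton_iff.mp q.2.2).symm, q.1.2⟩⟩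
        left_inv := fun _ => rfl
        right_inv := fun _ => rfl }
  have hfac : ∀ x : X, Nat.card (c x) = Nat.card ↥(c x ⊓ Y) * Y.relIndex (c x) := by
    intro x
    rw [← Subgroup.inf_relIndex_left, mul_comm]
    rw [mul_comm]; exact (card_mul_relIndex' inf_le_left).symm
  have hbd : ∀ x : X, Nat.card (c x) ≤ Y.index * Nat.card ↥(c x ⊓ Y) := by
    intro x
    rw [hfac x, mul_comm]
    exact Nat.mul_le_mul_right _ ((relIndex_le_index' _ _))
  have hXY := Y.card_mul_index
  have hYpos : 0 < Nat.card Y := Nat.card_pos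
  have hmpos : 0 < Y.index := Nat.pos_of_ne_zero Subgroup.index_ne_zero_of_finite
  have h2 : ∑ y : Y, Nat.card (c y) ≤ Y.index * ∑ y : Y, Nat.card ↥(c y ⊓ Y) := by
    rw [Finset.mul_sum]; exact Finset.sum_le_sum fun y _ => hbd y
  have h1 : ∑ x : X, Nat.card (c x) ≤ Y.index * ∑ y : Y, Nat.card (c y) := by
    rw [← hM, Finset.mul_sum]; exact Finset.sum_le_sum fun x _ => hbd x
  refine ⟨?_, ?_, fun hn => ?_⟩
  · have h0 : ∑ y : Y, Nat.card ↥(c y ⊓ Y) ≤ ∑ x : X, Nat.card (c x) := by
      calc ∑ y : Y, Nat.card ↥(c y ⊓ Y) ≤ ∑ y : Y, Nat.card (c y) :=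
            Finset.sum_le_sum fun y _ => Subgroup.card_le_of_le inf_le_left
        _ = ∑ x ∈ Finset.univ.map (Function.Embedding.subtype (· ∈ Y)), Nat.card (c x) := by
            rw [Finset.sum_map]; rfl
        _ ≤ _ := Finset.sum_le_sum_of_subset (Finset.subset_univ _)
    rw [← hY, ← hX, ← hXY] at h0
    exact Nat.le_of_mul_le_mul_right (by linarith) hYpos
  · have h := h1.trans (Nat.mul_le_mul_left _ h2)
    rw [← hY, ← hX, ← hXY] at h
    refine Nat.le_of_mul_le_mul_right ?_ (Nat.mul_pos hYpos hmpos)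
    linarith
  · obtain ⟨y, hy, g, hg⟩ : ∃ y ∈ Y, ∃ g, g * y * g⁻¹ ∉ Y := by
      by_contra h
      push Not at h
      exact hn ⟨fun y hy g => h y hy g⟩
    have hlt : Nat.card (c y) < Y.index * Nat.card ↥(c y ⊓ Y) := by
      rw [hfac y, mul_comm]
      refine Nat.mul_lt_mul_of_pos_right (lt_of_le_of_ne (relIndex_le_index' _ _) fun e => hg ?_) Nat.card_pos
      -- the centralizer is transitive on the cosets of `Y`
      have hsub : MulAction.orbit (c y) ((1 : X) : X ⧸ Y) = Set.univ := by
        rw [Set.eq_univ_iff_ncard, ← MulAction.index_stabilizer]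
        have : MulAction.stabilizer (c y) ((1 : X) : X ⧸ Y) = Y.subgroupOf (c y) := by
          ext u
          rw [MulAction.mem_stabilizer_iff, Subgroup.mem_subgroupOf]
          show ((((u : X) * 1 : X) : X ⧸ Y) = ((1 : X) : X ⧸ Y)) ↔ _
          rw [mul_one, QuotientGroup.eq, mul_one, inv_mem_iff]
        rw [this]
        exact e.trans Y.index_eq_card
      obtain ⟨u, hu⟩ := (hsub ▸ Set.mem_univ _ : ((g⁻¹ : X) : X ⧸ Y) ∈ MulAction.orbit (c y) ((1 : X) : X ⧸ Y))
      have hu' : (((u : X) * 1 : X) : X ⧸ Y) = ((g⁻¹ : X) : X ⧸ Y) := hu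
      rw [mul_one, QuotientGroup.eq] at hu'
      have hcu : (u : X) * y = y * u := Subgroup.mem_centralizer_singleton_iff.mp u.2
      have := Y.mul_mem (Y.mul_mem (Y.inv_mem hu') hy) hu'
      have e2 : g * y * g⁻¹ = ((u : X)⁻¹ * g⁻¹)⁻¹ * y * ((u : X)⁻¹ * g⁻¹) := by
        have e3 : (u : X) * y * (u : X)⁻¹ = y := by rw [hcu, mul_inv_cancel_right]
        nth_rw 1 [← e3]
        group
      rwa [e2]
    have h2' : ∑ y : Y, Nat.card (c y) < Y.index * ∑ y : Y, Nat.card ↥(c y ⊓ Y) := by
      rw [Finset.mul_sum]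
      exact Finset.sum_lt_sum (fun y _ => hbd y) ⟨⟨y, hy⟩, Finset.mem_univ _, hlt⟩
    have h := h1.trans_lt (Nat.mul_lt_mul_of_pos_left h2' hmpos)
    rw [← hY, ← hX, ← hXY] at h
    refine Nat.lt_of_mul_lt_mul_right (a := Nat.card Y * Y.index) ?_
    linarith

end Cfsg.Agent.S4200
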