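import Cfsg.Statements.S1249
import Mathlib.GroupTheory.Sylow
-- import your own Cfsg.Agent.* helpers here

set_option autoImplicit false
open Cfsg

namespace Cfsg.Agent.S1249

/-- Let P and Q be Sylow p-subgroups of the finite group G both containing the subgroup A. If A is strongly closed in P, then A is strongly closed in Q. -/
theorem result {G : Type*} [Group G] [Finite G] {p : ℕ} [Fact p.Prime] (P Q : Sylow p G) (A : Subgroup G) (hAQ : A ≤ Q) (hA : Cfsg.IsStronglyClosed A (P : Subgroup G)) : Cfsg.IsStronglyClosed A (Q : Subgroup G) := by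
  obtain ⟨h, hh⟩ := MulAction.exists_smul_eq G P Q
  have hQ : ∀ x, x ∈ (Q : Subgroup G) → h⁻¹ * x * h ∈ (P : Subgroup G) := fun x hx => by
    rw [← hh, Sylow.coe_subgroup_smul, Subgroup.mem_pointwise_smul_iff_inv_smul_mem] at hx
    simpa [MulAut.conj_symm_apply] using hx
  have hin : A.map (MulAut.conj h⁻¹).toMonoidHom = A := by
    refine Subgroup.eq_of_le_of_card_ge ?_ (Subgroup.card_map_of_injective (f := (MulAut.conj h⁻¹ : G ≃* G).toMonoidHom) (MulEquiv.injective _)).ge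
    rintro _ ⟨a, ha, rfl⟩
    exact hA.2 a ha h⁻¹ (by simpa using hQ a (hAQ ha))
  refine ⟨hAQ, fun x hx g hgx => ?_⟩
  have h1 := hA.2 x hx (h⁻¹ * g) (by simpa [mul_assoc] using hQ _ hgx)
  rw [← hin] at h1
  obtain ⟨a, ha, hae⟩ := h1
  have h2 : g * x * g⁻¹ = a := by
    have hae' : h⁻¹ * a * h⁻¹⁻¹ = h⁻¹ * g * x * (h⁻¹ * g)⁻¹ := hae
    calc g * x * g⁻¹ = h * (h⁻¹ * g * x * (h⁻¹ * g)⁻¹) * h⁻¹ := by group
      _ = a := by rw [← hae']; group
  rw [h2]
  exact ha

end Cfsg.Agent.S1249
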