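import Cfsg.Statements.S4441
import Cfsg.Agent.Lib.Blocks.DefectOneBlocks

set_option autoImplicit false
open Cfsg
open CfsgLib.Blocks CfsgLib.Blocks.DefectOne CfsgLib.CharTheory CfsgLib.CharTheory.SmallDegree

namespace Cfsg.Agent.S4441

/-- Let p be an odd prime and G a finite group whose Sylow p-subgroup P has order p; let C = C_G(P), N = N_G(P), e the index of C in N and t = (p − 1)/e; fix a maximal ideal M of the algebraic integers containing p and let B₀ be the principal block. Then B₀ is the disjoint union of a set X of e characters and a set Y of t characters such that: each χ ∈ X has a sign ε_χ with χ(1) ≡ ε_χ (mod p) and χ(x y) = ε_χ for every non-identity x ∈ P and every p-regular y ∈ C; all members of Y agree on the p-regular elements of G; there is one sign ε with θ(1) ≡ ε e (mod p) for every θ ∈ Y; and for every θ ∈ Y and every p-regular g, ε θ(g) = Σ_{χ ∈ X} ε_χ χ(g). -/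
theorem result {G : Type*} [Group G] [Fintype G] (p : ℕ) [Fact p.Prime] (M : Ideal Cfsg.AlgInt) (hM : Cfsg.IsPModular p M) (hodd : p ≠ 2) (P : Sylow p G) (hP : Nat.card P = p) (e : ℕ) (he : (Subgroup.centralizer ((P : Subgroup G) : Set G)).relIndex (Subgroup.normalizer ((P : Subgroup G) : Set G)) = e) : ∃ X Y : Set (Cfsg.IrrCharacter G), Cfsg.principalBlock M G = X ∪ Y ∧ Disjoint X Y ∧ Nat.card X = e ∧ Nat.card Y = (p - 1) / e ∧ ∃ (εX : Cfsg.IrrCharacter G → ℤ) (ε : ℤ), (∀ χ ∈ X, (εX χ = 1 ∨ εX χ = -1) ∧ (Cfsg.charDegree (χ : G → ℂ) : ℤ) ≡ εX χ [ZMOD p] ∧ ∀ x : G, x ∈ (P : Subgroup G) → x ≠ 1 → ∀ y : G, y ∈ Subgroup.centralizer ((P : Subgroup G) : Set G) → ¬ p ∣ orderOf y → (χ : G → ℂ) (x * y) = (εX χ : ℂ)) ∧ (ε = 1 ∨ ε = -1) ∧ (∀ θ ∈ Y, (Cfsg.charDegree (θ : G → ℂ) : ℤ) ≡ ε * (e : ℤ) [ZMOD p]) ∧ (∀ θ ∈ Y, ∀ θ' ∈ Y, ∀ g : G, ¬ p ∣ orderOf g → (θ : G → ℂ) g = (θ' : G → ℂ) g) ∧ ∀ θ ∈ Y, ∀ g : G, ¬ p ∣ orderOf g → (ε : ℂ) * (θ : G → ℂ) g = ∑ᶠ χ ∈ X,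 (εX χ : ℂ) * (χ : G → ℂ) g := by
  classical
  haveI : Fintype (P : Subgroup G) := Fintype.ofFinite _
  haveI : Fintype (cen (P : Subgroup G)) := Fintype.ofFinite _
  have h := setup_sylow P hP
  obtain ⟨H, hH⟩ := exists_Compl h
  haveI : Fintype H := Fintype.ofFinite _
  letI : Fintype (Subgroup.normalizer ((P : Subgroup G) : Set G)) := Fintype.ofFinite _
  have hr := root_principal hM P hP hH
  obtain ⟨X, Y, ε, a, τ, S⟩ := exists_shape hM h hH hr
  have he' : (cen (P : Subgroup G)).relIndex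
      (stab (⟨fun _ => 1, isIrrCharacter_one⟩ : IrrCharacter (cen (P : Subgroup G)))) = e := by
    rw [stab_one]; exact he
  have hX : X.card = e := S.cardX.trans he'
  have he0 : 0 < e := by
    rw [← he]; exact Nat.pos_of_ne_zero Subgroup.index_ne_zero_of_finite
  have hY : Y.card = (p - 1) / e := by
    rw [← S.cardY, he', Nat.mul_div_cancel _ he0]
  refine ⟨(X : Set _), (Y : Set _), S.union.symm, Finset.disjoint_coe.2 S.disj, (card_coe X).trans hX,
    (card_coe Y).trans hY, fun χ => -a χ, ε, fun χ hχ => ⟨?_, ?_, fun x hx hx1 y hy hyreg => ?_⟩,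
    S.hε, fun ψ hψ => ?_, fun ψ hψ ψ' hψ' g hg => S.agree hM hr hψ hψ' hg, fun η hη g hg => ?_⟩
  · rcases S.ha χ hχ with e1 | e1 <;> simp [e1]
  · have h1 := S.degX hM hr hχ
    rw [he', show (cen (P : Subgroup G)).relIndex (Subgroup.normalizer ((P : Subgroup G) : Set G)) = e from he,
      charDegree_one_cen, Nat.div_self he0, mul_one, Nat.cast_one, mul_one] at h1
    exact h1
  · have h1 := S.valueX hM hr hχ ⟨x, hx⟩ hx1 ⟨y, mem_H_of_regular h hH hP hy hyreg⟩
    rw [Finset.sum_congr rfl fun (n : Subgroup.normalizer ((P : Subgroup G) : Set G)) _ => show resH hH (cConj n.2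
        (⟨fun _ => 1, isIrrCharacter_one⟩ : IrrCharacter (cen (P : Subgroup G)))) _ = 1 from rfl,
      Finset.sum_const, Finset.card_univ, nsmul_eq_mul, mul_one, ← Nat.card_eq_fintype_card, stab_one,
      mul_comm (-(a χ : ℂ))] at h1
    rw [Int.cast_neg]
    exact mul_left_cancel₀ (Nat.cast_ne_zero.2 Nat.card_pos.ne') h1
  · have h1 := S.degY hM hr hψ
    rw [show (cen (P : Subgroup G)).relIndex (Subgroup.normalizer ((P : Subgroup G) : Set G)) = e from he,
      charDegree_one_cen, mul_one] at h1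
    exact h1
  · have h1 := S.relation hM hr hη hg
    rw [finsum_mem_coe_finset]
    push_cast
    rw [Finset.sum_congr rfl fun χ _ => neg_mul (a χ : ℂ) _, Finset.sum_neg_distrib]
    linear_combination h1

end Cfsg.Agent.S4441
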