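import Cfsg.Statements.S0947
import Cfsg.Agent.Lib.Blocks.Principal

set_option autoImplicit false
set_option linter.style.haveILetI false
open Cfsg

namespace Cfsg.Agent.S0947

open CfsgLib.Blocks CfsgLib.CharTheory

/-- Let z ≠ 1 be a p-element of the finite group G with centralizer H, and fix a maximal ideal M of the algebraic integers containing p. (i) For every y ∈ H of order prime to p, the sum over ζ in the principal block of G of |ζ (z * y)|² equals the sum over χ in the principal block of H of |χ y|². (ii) If moreover H has a normal p-complement (its largest normal subgroup of order prime to p has p-power index), that common value is the largest power of p dividing the order of H. -/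
theorem result {G : Type*} [Group G] [Finite G] (p : ℕ) [Fact p.Prime] (M : Ideal Cfsg.AlgInt) (hM : Cfsg.IsPModular p M) (z : G) (hz : ∃ k : ℕ, orderOf z = p ^ k) (hz1 : z ≠ 1) (y : Subgroup.centralizer ({z} : Set G)) (hy : ¬ p ∣ orderOf y) : (∑ᶠ ζ ∈ Cfsg.principalBlock M G, ‖(ζ : G → ℂ) (z * (y : G))‖ ^ 2 = ∑ᶠ χ ∈ Cfsg.principalBlock M (Subgroup.centralizer ({z} : Set G)), ‖(χ : Subgroup.centralizer ({z} : Set G) → ℂ) y‖ ^ 2) ∧ ((∃ k : ℕ, (Cfsg.pPrimeCore p (Subgroup.centralizer ({z} : Set G))).index = p ^ k) → ∑ᶠ ζ ∈ Cfsg.principalBlock M G, ‖(ζ : G → ℂ) (z * (y : G))‖ ^ 2 = ((p ^ (Nat.card (Subgroup.centralizer ({z} : Set G))).factorization p : ℕ) : ℝ)) := by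
  classical
  haveI := Fintype.ofFinite G
  haveI : Fintype (Subgroup.centralizer ({z} : Set G)) := Fintype.ofFinite _
  have hp : p.Prime := Fact.out
  have hH := isCentr_singleton z
  have hB := principalBlock_isPBlock (M := M) (G := G)
  have h := sum_sq_section hM hH hz hB hy hy
  rw [overBlocks_principal hM hH hz] at h
  have hnn : ∀ w : ℂ, w * (starRingEnd ℂ) w = ((‖w‖ ^ 2 : ℝ) : ℂ) := fun w => by
    rw [Complex.mul_conj']; push_cast; rfl
  simp only [hnn] at h
  have h' : ∑ ζ ∈ bset (Cfsg.principalBlock M G), ‖(ζ : G → ℂ) (z * (y : G))‖ ^ 2 =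
      ∑ ψ ∈ bset (Cfsg.principalBlock M (Subgroup.centralizer ({z} : Set G))),
        ‖(ψ : Subgroup.centralizer ({z} : Set G) → ℂ) y‖ ^ 2 := by
    exact_mod_cast h
  have hL : ∀ {K : Type _} [Group K] [Fintype K] (B : Set (Cfsg.IrrCharacter K))
      (f : Cfsg.IrrCharacter K → ℝ), ∑ᶠ χ ∈ B, f χ = ∑ χ ∈ bset B, f χ := by
    intro K _ _ B f
    rw [finsum_mem_eq_finite_toFinset_sum _ (Set.toFinite B)]
    congr 1
  rw [hL, hL]
  refine ⟨h', fun hnc => ?_⟩
  rw [h', principalBlock_of_complement hM (CfsgLib.not_dvd_card_pPrimeCore hp) hnc]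
  obtain ⟨k, hk⟩ := hnc
  set N := Cfsg.pPrimeCore p (Subgroup.centralizer ({z} : Set G)) with hNdef
  have hN : ¬ p ∣ Nat.card N := CfsgLib.not_dvd_card_pPrimeCore hp
  have hyN : y ∈ N := by
    rw [← QuotientGroup.eq_one_iff, ← orderOf_eq_one_iff]
    refine Nat.eq_one_of_dvd_coprimes ((hp.coprime_iff_not_dvd.2 hy).pow_left k) ?_
      (orderOf_map_dvd (QuotientGroup.mk' N) y)
    rw [← hk]
    exact orderOf_dvd_natCard _
  have hval : (Nat.card (Subgroup.centralizer ({z} : Set G))).factorization p = k := by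
    rw [← N.index_mul_card, hk, Nat.factorization_mul (pow_ne_zero _ hp.ne_zero) Nat.card_pos.ne',
      Finsupp.add_apply, Nat.Prime.factorization_pow hp, Finsupp.single_eq_same,
      Nat.factorization_eq_zero_of_not_dvd hN, add_zero]
  rw [hval, ← hk]
  have h2 := sum_sq_kernel N
  have h3 : ((∑ ψ ∈ bset {χ : Cfsg.IrrCharacter (Subgroup.centralizer ({z} : Set G)) |
      ∀ n ∈ N, (χ : Subgroup.centralizer ({z} : Set G) → ℂ) n =
        (χ : Subgroup.centralizer ({z} : Set G) → ℂ) 1},
      ‖(ψ : Subgroup.centralizer ({z} : Set G) → ℂ) y‖ ^ 2 : ℝ) : ℂ) = ((N.index : ℝ) : ℂ) := by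
    rw [Complex.ofReal_sum, Complex.ofReal_natCast, ← h2]
    refine Finset.sum_congr rfl fun ψ hψ => ?_
    rw [← hnn, (mem_bset.1 hψ) y hyN, irr_one_conj]
  exact Complex.ofReal_injective h3

end Cfsg.Agent.S0947
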