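import Cfsg.Statements.S0051
import Mathlib

set_option autoImplicit false
open Cfsg

namespace Cfsg.Agent.S0051

/-- Gaschütz's Theorem, existence: an abelian normal subgroup K that is complemented inside a subgroup U ≥ K whose index is coprime to the order of K is complemented in the whole group. -/
theorem result {G : Type*} [Group G] [Finite G] (K U : Subgroup G) [K.Normal] [IsMulCommutative K]
    (hKU : K ≤ U) (hcop : (Nat.card K).Coprime U.index)
    (A : Subgroup G) (hAU : A ≤ U) (hAK : A ⊓ K = ⊥) (hKA : K ⊔ A = U) :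
    ∃ H : Subgroup G, Subgroup.IsComplement' K H := by
  classical
  obtain ⟨t, ht⟩ : ∃ t : G ⧸ U → G, ∀ x, (QuotientGroup.mk (t x) : G ⧸ U) = x :=
    ⟨Quotient.out, fun x => QuotientGroup.out_eq' x⟩
  have hdec : ∀ u : U, ∃ k : K, ∃ a ∈ A, (u : G) = k * a := fun u => by
    have h1 : (u : G) ∈ ((K ⊔ A : Subgroup G) : Set G) := hKA.symm ▸ u.2
    rw [Subgroup.normal_mul] at h1
    obtain ⟨k, hk, a, ha, e⟩ := h1
    exact ⟨⟨k, hk⟩, a, ha, e.symm⟩
  choose d a ha hd using hdec
  have huniq : ∀ (u : U) (k : K) (b : G), b ∈ A → (u : G) = k * b → d u = k := fun u k b hb e => by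
    have h1 : (k : G)⁻¹ * d u = b * (a u)⁻¹ := by
      rw [eq_mul_inv_iff_mul_eq, mul_assoc, inv_mul_eq_iff_eq_mul, ← hd u, e]
    have h2 : (k : G)⁻¹ * d u ∈ A ⊓ K :=
      Subgroup.mem_inf.mpr ⟨h1 ▸ A.mul_mem hb (A.inv_mem (ha u)), K.mul_mem (K.inv_mem k.2) (d u).2⟩
    rw [hAK, Subgroup.mem_bot, inv_mul_eq_one] at h2
    exact Subtype.ext h2.symm
  letI : CommGroup K := { (inferInstance : Group K) with mul_comm := IsMulCommutative.is_comm.comm }
  have hdmul : ∀ u v : U, d (u * v) = d u * MulAut.conjNormal (u : G) (d v) := fun u v => by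
    refine huniq _ _ (a u * a v) (mul_mem (ha u) (ha v)) ?_
    have hc : ((MulAut.conjNormal (u : G) (d v) : K) : G) = a u * d v * (a u)⁻¹ := by
      have h1 : MulAut.conjNormal ((d u : G)) (MulAut.conjNormal (a u) (d v) : K) = MulAut.conjNormal (a u) (d v) := by
        refine Subtype.ext ?_
        rw [MulAut.conjNormal_apply, mul_inv_eq_iff_eq_mul]
        exact congrArg Subtype.val (mul_comm (d u) (MulAut.conjNormal (a u) (d v)))
      rw [hd u, map_mul, MulAut.mul_apply, h1, MulAut.conjNormal_apply]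
    rw [Subgroup.coe_mul, Subgroup.coe_mul, hc, hd u, hd v]
    group
  have hu : ∀ (g : G) (x : G ⧸ U), (t (g • x))⁻¹ * (g * t x) ∈ U := fun g x => by
    apply QuotientGroup.eq.mp
    rw [ht]
    exact (congrArg (g • ·) (ht x)).symm
  letI := Fintype.ofFinite (G ⧸ U)
  let F : G → K := fun g => ∏ x, MulAut.conjNormal (t (g • x)) (d ⟨_, hu g x⟩)
  have hFmul : ∀ g h : G, F (g * h) = F g * MulAut.conjNormal g (F h) := fun g h => by
    have e : ∀ x : G ⧸ U, MulAut.conjNormal (t ((g * h) • x)) (d ⟨_, hu (g * h) x⟩) =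
        MulAut.conjNormal (t (g • (h • x))) (d ⟨_, hu g (h • x)⟩) *
          MulAut.conjNormal g (MulAut.conjNormal (t (h • x)) (d ⟨_, hu h x⟩)) := fun x => by
      have e1 : (⟨_, hu (g * h) x⟩ : U) = ⟨_, hu g (h • x)⟩ * ⟨_, hu h x⟩ := Subtype.ext (by
        simp only [mul_smul, Subgroup.coe_mul]; group)
      rw [e1, hdmul, map_mul, ← MulAut.mul_apply, ← map_mul, ← MulAut.mul_apply, ← map_mul, mul_smul]
      congr 3
      group
    show ∏ x, _ = _
    rw [Finset.prod_congr rfl fun x _ => e x, Finset.prod_mul_distrib, map_prod]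
    congr 1
    exact Equiv.prod_comp (MulAction.toPerm h) fun y => MulAut.conjNormal (t (g • y)) (d ⟨_, hu g y⟩)
  have hFK : ∀ k : K, F (k : G) = k ^ U.index := fun k => by
    have e : ∀ x : G ⧸ U, MulAut.conjNormal (t ((k : G) • x)) (d ⟨_, hu (k : G) x⟩) = k := fun x => by
      have hx : (k : G) • x = x := by
        conv_lhs => rw [← ht x]
        conv_rhs => rw [← ht x]
        refine QuotientGroup.eq.mpr (hKU ?_)
        have := (inferInstance : K.Normal).conj_mem _ (inv_mem k.2) (t x)⁻¹
        simpa [mul_assoc] using this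
      have h2 : d ⟨_, hu (k : G) x⟩ = MulAut.conjNormal (t x)⁻¹ k := by
        refine huniq _ _ 1 A.one_mem ?_
        simp [hx, MulAut.conjNormal_apply, mul_assoc]
      rw [h2, hx, ← MulAut.mul_apply, ← map_mul, mul_inv_cancel, map_one, MulAut.one_apply]
    show ∏ x, _ = _
    rw [Finset.prod_congr rfl fun x _ => e x, Finset.prod_const, Finset.card_univ, ← Nat.card_eq_fintype_card]
    rfl
  let c : G → K := fun g => (powCoprime hcop).symm (F g)
  have hsymm : ∀ g h : G, c (g * h) = c g * MulAut.conjNormal g (c h) := fun g h => by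
    have hc : ∀ g : G, c g ^ U.index = F g := fun g => (powCoprime hcop).apply_symm_apply (F g)
    apply (powCoprime hcop).injective
    show c (g * h) ^ U.index = (c g * MulAut.conjNormal g (c h)) ^ U.index
    rw [hc (g * h), mul_pow, hc g, ← map_pow, hc h, hFmul]
  have hck : ∀ k : K, c (k : G) = k := fun k => by
    show (powCoprime hcop).symm (F k) = k
    rw [hFK, Equiv.symm_apply_eq, powCoprime_apply]
  have h1 : c 1 = 1 := by simpa using hck 1
  let H : Subgroup G :=
    { carrier := {g | c g = 1}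
      one_mem' := h1
      mul_mem' := fun {g h} hg hh => by
        show c (g * h) = 1
        rw [hsymm, show c g = 1 from hg, show c h = 1 from hh, map_one, mul_one]
      inv_mem' := fun {g} hg => by
        show c g⁻¹ = 1
        have e := hsymm g⁻¹ g
        rwa [inv_mul_cancel, h1, show c g = 1 from hg, map_one, mul_one, eq_comm] at e }
  refine ⟨H, Subgroup.isComplement'_of_disjoint_and_mul_eq_univ ?_ (Set.eq_univ_of_forall fun g => ?_)⟩
  · rw [Subgroup.disjoint_def]
    intro x hxK (hxH : c x = 1)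
    have h2 := hck ⟨x, hxK⟩
    rw [show ((⟨x, hxK⟩ : K) : G) = x from rfl, hxH] at h2
    exact (congrArg Subtype.val h2).symm
  · refine ⟨(c g : G), (c g).2, (c g : G)⁻¹ * g, ?_, mul_inv_cancel_left _ _⟩
    show c ((c g : G)⁻¹ * g) = 1
    rw [← Subgroup.coe_inv, hsymm, hck]
    have e : MulAut.conjNormal (((c g)⁻¹ : K) : G) (c g) = c g := Subtype.ext (by
      simp [MulAut.conjNormal_apply, mul_assoc])
    rw [e, inv_mul_cancel]

end Cfsg.Agent.S0051
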