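import Cfsg.Statements.S2508
import Cfsg.Agent.Lib.SL2Centralizer
import Cfsg.Agent.Lib.NonSplitTorus
import Cfsg.Agent.Lib.PSL2.Aut
import Mathlib.NumberTheory.LegendreSymbol.QuadraticChar.Basic

set_option autoImplicit false
open Cfsg

namespace Cfsg.Agent.S2508

open Matrix in
theorem mem_K_iff {F : Type*} [Field F] (g x : SpecialLinearGroup (Fin 2) F) :
    x ∈ (Subgroup.centralizer ({QuotientGroup.mk' (Subgroup.center (SpecialLinearGroup (Fin 2) F)) g} :
        Set (ProjectiveSpecialLinearGroup (Fin 2) F))).comap (QuotientGroup.mk' _) ↔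
      x * g = g * x ∨ x * g = -(g * x) := by
  rw [Subgroup.mem_comap, Subgroup.mem_centralizer_singleton_iff, ← map_mul, ← map_mul, eq_comm]
  refine (CfsgLib.PSL2.mk_eq_mk (A := g * x) (B := x * g)).trans ?_
  exact or_congr ⟨fun h => Subtype.ext h, fun h => congrArg Subtype.val h⟩
    ⟨fun h => Subtype.ext h, fun h => congrArg Subtype.val h⟩

open Matrix in
theorem K_eq_centralizer {F : Type*} [Field F] (h2 : (2 : F) ≠ 0) (g : SpecialLinearGroup (Fin 2) F)
    (h : g.1.trace ≠ 0) :
    (Subgroup.centralizer ({QuotientGroup.mk' (Subgroup.center (SpecialLinearGroup (Fin 2) F)) g} :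
        Set (ProjectiveSpecialLinearGroup (Fin 2) F))).comap (QuotientGroup.mk' _) =
      Subgroup.centralizer ({g} : Set (SpecialLinearGroup (Fin 2) F)) := by
  ext x
  rw [mem_K_iff, Subgroup.mem_centralizer_singleton_iff]
  refine ⟨fun hx => hx.resolve_right fun e => h ?_, Or.inl⟩
  have e' : x * g * x⁻¹ = -g := by rw [e, neg_mul, mul_inv_cancel_right]
  have e'' : x.1 * g.1 * (x⁻¹).1 = -g.1 := congrArg Subtype.val e'
  have hinv : (x⁻¹).1 * x.1 = 1 := congrArg Subtype.val (inv_mul_cancel x)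
  have e3 := congrArg Matrix.trace e''
  rw [Matrix.trace_mul_comm, ← Matrix.mul_assoc, hinv, Matrix.one_mul, Matrix.trace_neg] at e3
  exact mul_left_cancel₀ h2 (by linear_combination e3)

open Matrix in
theorem card_K_trace_zero {F : Type*} [Field F] [Fintype F] (h2 : (2 : F) ≠ 0)
    (g : SpecialLinearGroup (Fin 2) F) (h : g.1.trace = 0)
    (hns : ∀ a : F, g.1 ≠ a • (1 : Matrix (Fin 2) (Fin 2) F)) :
    Nat.card ((Subgroup.centralizer ({QuotientGroup.mk' (Subgroup.center (SpecialLinearGroup (Fin 2) F)) g} :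
        Set (ProjectiveSpecialLinearGroup (Fin 2) F))).comap (QuotientGroup.mk' _)) =
      2 * Nat.card (Subgroup.centralizer ({g} : Set (SpecialLinearGroup (Fin 2) F))) := by
  obtain ⟨y, hy⟩ := CfsgLib.SL2Centralizer.exists_conj_neg h2 h
  rw [neg_mul] at hy
  set C := Subgroup.centralizer ({g} : Set (SpecialLinearGroup (Fin 2) F))
  set K := (Subgroup.centralizer ({QuotientGroup.mk' (Subgroup.center (SpecialLinearGroup (Fin 2) F)) g} :
        Set (ProjectiveSpecialLinearGroup (Fin 2) F))).comap (QuotientGroup.mk' _)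
  have hC : ∀ x, x ∈ C ↔ x * g = g * x := fun x => Subgroup.mem_centralizer_singleton_iff
  let f : C ⊕ C → K := Sum.elim
    (fun c => ⟨c.1, (mem_K_iff g _).mpr (Or.inl ((hC _).mp c.2))⟩)
    (fun c => ⟨c.1 * y, (mem_K_iff g _).mpr (Or.inr (by
      rw [mul_assoc, hy, mul_neg, ← mul_assoc, (hC _).mp c.2, mul_assoc]))⟩)
  have hneg : ∀ z : SpecialLinearGroup (Fin 2) F, z ≠ -z := fun z e => by
    have e' : z.1 = -z.1 := congrArg Subtype.val e
    have hz : z.1 = 0 := by
      ext i j
      have := congrFun (congrFun e' i) j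
      rw [Matrix.neg_apply] at this
      exact mul_left_cancel₀ h2 (by rw [Matrix.zero_apply]; linear_combination this)
    have := z.2
    rw [hz] at this
    simp at this
  have hyC : y ∉ C := fun hy' => hneg (g * y) (((hC y).mp hy').symm.trans hy)
  have hf : Function.Bijective f := by
    refine ⟨?_, ?_⟩
    · rintro (a | a) (b | b) e <;> have e' := congrArg Subtype.val e <;>
        simp only [f, Sum.elim_inl, Sum.elim_inr] at e'
      · exact congrArg _ (Subtype.ext e')
      · exact absurd ((C.mul_mem_cancel_left b.2).mp (e' ▸ a.2)) hyC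
      · exact absurd ((C.mul_mem_cancel_left a.2).mp (e' ▸ b.2)) hyC
      · exact congrArg _ (Subtype.ext (mul_right_cancel e'))
    · rintro ⟨x, hx⟩
      rcases (mem_K_iff g x).mp hx with e | e
      · exact ⟨Sum.inl ⟨x, (hC x).mpr e⟩, rfl⟩
      · refine ⟨Sum.inr ⟨x * y⁻¹, (hC _).mpr ?_⟩, Subtype.ext (inv_mul_cancel_right x y)⟩
        have e2 : y⁻¹ * g = -(g * y⁻¹) := by
          have := congrArg (fun z => y⁻¹ * z * y⁻¹) hy
          simp only [mul_neg, neg_mul, mul_assoc, mul_inv_cancel, inv_mul_cancel_left, mul_one] at this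
          rw [this, neg_neg]
        rw [mul_assoc, e2, mul_neg, ← mul_assoc, e, neg_mul, neg_neg, mul_assoc]
  rw [← Nat.card_congr (Equiv.ofBijective f hf), Nat.card_sum, two_mul]

open Matrix in
theorem card_centralizer_unipotent {F : Type*} [Field F] [Fintype F] (h2 : (2 : F) ≠ 0)
    {g : SpecialLinearGroup (Fin 2) F} (hns : ∀ a : F, g.1 ≠ a • (1 : Matrix (Fin 2) (Fin 2) F))
    (h : g.1.trace ^ 2 = 4) :
    Nat.card (Subgroup.centralizer ({g} : Set (SpecialLinearGroup (Fin 2) F))) = 2 * Fintype.card F := by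
  rw [CfsgLib.SL2Centralizer.card_centralizer_eq_conic hns]
  obtain ⟨ε, hε, hε1⟩ : ∃ ε : F, g.1.trace = 2 * ε ∧ ε * ε = 1 := by
    refine ⟨g.1.trace / 2, by field_simp, ?_⟩
    field_simp
    linear_combination h
  let f : {p : F × F // p.1 * p.1 + g.1.trace * p.1 * p.2 + p.2 * p.2 = 1} ≃
      {a : F // a * a = 1} × F :=
    { toFun := fun p => (⟨p.1.1 + ε * p.1.2, by
        obtain ⟨⟨x, y⟩, hp⟩ := p
        simp only [hε] at hp
        show (x + ε * y) * (x + ε * y) = 1
        linear_combination hp + (y * y) * hε1⟩, p.1.2)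
      invFun := fun x => ⟨(x.1.1 - ε * x.2, x.2), by
        show (x.1.1 - ε * x.2) * (x.1.1 - ε * x.2) + g.1.trace * (x.1.1 - ε * x.2) * x.2 + x.2 * x.2 = 1
        rw [hε]
        linear_combination x.1.2 - (x.2 * x.2) * hε1⟩
      left_inv := fun p => Subtype.ext (Prod.ext (by simp) rfl)
      right_inv := fun x => Prod.ext (Subtype.ext (by simp)) rfl }
  rw [Nat.card_congr f, Nat.card_prod, Nat.card_eq_fintype_card (α := F)]
  congr 1
  show Nat.card ↥{a : F | a * a = 1} = 2
  have hs : {a : F | a * a = 1} = {1, -1} := by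
    ext a
    simp [mul_self_eq_one_iff]
  rw [hs, Nat.card_coe_set_eq, Set.ncard_pair]
  intro e
  exact h2 (by linear_combination e)


/-- Let F be a finite field with q elements, q odd and q ≥ 7. If q ≡ 1 (mod 4) the conjugacy class sizes of PSL(2,F) are exactly 1, (q² − 1)/2, q(q + 1)/2, q(q − 1) and q(q + 1); if q ≡ 3 (mod 4) they are exactly 1, (q² − 1)/2, q(q − 1)/2, q(q + 1) and q(q − 1). -/
theorem result {F : Type*} [Field F] [Fintype F]
    (hodd : ¬ 2 ∣ Fintype.card F) (h7 : 7 ≤ Fintype.card F) :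
    (Fintype.card F % 4 = 1 →
      Set.range (fun g : (Matrix.ProjectiveSpecialLinearGroup (Fin 2) F) => (Subgroup.centralizer ({g} : Set (Matrix.ProjectiveSpecialLinearGroup (Fin 2) F))).index) =
        {1, (Fintype.card F ^ 2 - 1) / 2, Fintype.card F * (Fintype.card F + 1) / 2,
          Fintype.card F * (Fintype.card F - 1), Fintype.card F * (Fintype.card F + 1)}) ∧
    (Fintype.card F % 4 = 3 →
      Set.range (fun g : (Matrix.ProjectiveSpecialLinearGroup (Fin 2) F) => (Subgroup.centralizer ({g} : Set (Matrix.ProjectiveSpecialLinearGroup (Fin 2) F))).index) =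
        {1, (Fintype.card F ^ 2 - 1) / 2, Fintype.card F * (Fintype.card F - 1) / 2,
          Fintype.card F * (Fintype.card F + 1), Fintype.card F * (Fintype.card F - 1)}) := by
  classical
  have hodd' : Odd (Fintype.card F) := Nat.odd_iff.mpr (Nat.two_dvd_ne_zero.mp hodd)
  obtain ⟨p, hp⟩ := CharP.exists F
  haveI : Fact p.Prime := ⟨CharP.char_is_prime F p⟩
  have h2 : (2 : F) ≠ 0 := CfsgLib.SL2Orders.two_ne_zero_of_odd hodd'
  have h4 : (4 : F) ≠ 0 := fun e => mul_ne_zero h2 h2 (by linear_combination e)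
  have hring : ringChar F ≠ 2 := fun e => h2 (by
    have := ringChar.Nat.cast_ringChar (R := F); rw [e] at this; exact_mod_cast this)
  set π := QuotientGroup.mk' (Subgroup.center (Matrix.SpecialLinearGroup (Fin 2) F)) with hπ
  let K : Matrix.SpecialLinearGroup (Fin 2) F → Subgroup (Matrix.SpecialLinearGroup (Fin 2) F) :=
    fun g => (Subgroup.centralizer ({π g} : Set (Matrix.ProjectiveSpecialLinearGroup (Fin 2) F))).comap π
  have hidx : ∀ g, (Subgroup.centralizer
      ({π g} : Set (Matrix.ProjectiveSpecialLinearGroup (Fin 2) F))).index = (K g).index := fun g =>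
    (Subgroup.index_comap_of_surjective _ (QuotientGroup.mk'_surjective _)).symm
  set q := Fintype.card F with hqdef
  have hq1 : 1 < q := by omega
  have hG : Nat.card (Matrix.SpecialLinearGroup (Fin 2) F) = q * (q ^ 2 - 1) :=
    CfsgLib.SLCard.card_SL_two
  have hfac : q ^ 2 - 1 = (q + 1) * (q - 1) := Nat.sq_sub_sq q 1
  obtain ⟨k, hk⟩ := hodd'
  have hsolve : ∀ (I c r : ℕ), I * c = q * (q ^ 2 - 1) → 0 < c → r * c = q * (q ^ 2 - 1) → I = r :=
    fun I c r h hc h' => Nat.eq_of_mul_eq_mul_right hc (h.trans h'.symm)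
  have hmain : ∀ g : Matrix.SpecialLinearGroup (Fin 2) F,
      (∀ a : F, g.1 ≠ a • (1 : Matrix (Fin 2) (Fin 2) F)) →
      (g.1.trace ^ 2 = 4 → (K g).index = (q ^ 2 - 1) / 2) ∧
      (g.1.trace = 0 → (q % 4 = 1 → (K g).index = q * (q + 1) / 2) ∧
        (q % 4 = 3 → (K g).index = q * (q - 1) / 2)) ∧
      (g.1.trace ≠ 0 → g.1.trace ^ 2 ≠ 4 →
        (Nat.card {s : F // s * s + g.1.trace * s + 1 = 0} = 0 ∧ (K g).index = q * (q - 1)) ∨
        (Nat.card {s : F // s * s + g.1.trace * s + 1 = 0} = 2 ∧ (K g).index = q * (q + 1))) := by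
    intro g hns
    have hm := (K g).index_mul_card
    rw [hG] at hm
    refine ⟨fun h => ?_, fun h => ?_, fun h h' => ?_⟩
    · have h0 : g.1.trace ≠ 0 := fun e => h4 (by rw [← h, e]; ring)
      rw [show K g = _ from K_eq_centralizer h2 g h0, card_centralizer_unipotent h2 hns h, ← hqdef] at hm
      rw [show K g = _ from K_eq_centralizer h2 g h0]
      refine hsolve _ (2 * q) _ hm (by omega) ?_
      have hev : (q ^ 2 - 1) / 2 * 2 = q ^ 2 - 1 := by
        refine Nat.div_mul_cancel ?_
        rw [hfac]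
        exact Dvd.dvd.mul_left ⟨k, by omega⟩ _
      rw [← mul_assoc, hev, mul_comm]
    · have hne : g.1.trace ^ 2 ≠ 4 := by rw [h]; simpa [eq_comm] using h4
      have hc := CfsgLib.SL2Centralizer.card_centralizer hne
      rw [← hqdef] at hc
      rw [show Nat.card (K g) = _ from card_K_trace_zero h2 g h hns] at hm
      have hroots : (Nat.card {s : F // s * s + g.1.trace * s + 1 = 0} = 2) ↔ q % 4 ≠ 3 := by
        rw [hqdef, ← FiniteField.isSquare_neg_one_iff]
        constructor
        · intro hr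
          obtain ⟨⟨s, hs⟩⟩ : Nonempty {s : F // s * s + g.1.trace * s + 1 = 0} :=
            (Nat.card_pos_iff.mp (by omega)).1
          exact ⟨s, by rw [h] at hs; linear_combination -hs⟩
        · rintro ⟨s, hs⟩
          refine (CfsgLib.SL2Centralizer.card_roots hne).resolve_left fun h0 => ?_
          have : Nonempty {s : F // s * s + g.1.trace * s + 1 = 0} :=
            ⟨⟨s, by rw [h]; linear_combination -hs⟩⟩
          exact Nat.card_pos.ne' h0
      refine ⟨fun h1 => ?_, fun h3 => ?_⟩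
      · rw [hroots.mpr (by omega)] at hc
        rw [show Nat.card (Subgroup.centralizer ({g} : Set (Matrix.SpecialLinearGroup (Fin 2) F))) =
          q - 1 by omega] at hm
        refine hsolve _ _ _ hm (by omega) ?_
        rw [← mul_assoc, Nat.div_mul_cancel (Dvd.dvd.mul_left ⟨k + 1, by omega⟩ q), hfac, mul_assoc]
      · have hr0 := (CfsgLib.SL2Centralizer.card_roots hne).resolve_right (fun e => hroots.mp e h3)
        rw [hr0] at hc
        rw [show Nat.card (Subgroup.centralizer ({g} : Set (Matrix.SpecialLinearGroup (Fin 2) F))) =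
          q + 1 by omega] at hm
        refine hsolve _ _ _ hm (by omega) ?_
        rw [← mul_assoc, Nat.div_mul_cancel (Dvd.dvd.mul_left ⟨k, by omega⟩ q), hfac, mul_assoc,
          mul_comm (q - 1)]
    · have hc := CfsgLib.SL2Centralizer.card_centralizer h'
      rw [← hqdef] at hc
      rw [show K g = _ from K_eq_centralizer h2 g h] at hm
      rw [show K g = _ from K_eq_centralizer h2 g h]
      rcases CfsgLib.SL2Centralizer.card_roots h' with hr | hr <;> rw [hr] at hc
      · refine Or.inl ⟨hr, hsolve _ _ _ hm Nat.card_pos ?_⟩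
        rw [show Nat.card _ = q + 1 by omega, hfac]
        ring
      · refine Or.inr ⟨hr, hsolve _ _ _ hm Nat.card_pos ?_⟩
        rw [show Nat.card _ = q - 1 by omega, hfac]
        ring
  -- scalars give index 1
  have hone : ∀ g : Matrix.SpecialLinearGroup (Fin 2) F, π g = 1 → (Subgroup.centralizer
      ({π g} : Set (Matrix.ProjectiveSpecialLinearGroup (Fin 2) F))).index = 1 := fun g hg => by
    rw [hg, Subgroup.index_eq_one, eq_top_iff]
    intro y _
    exact Subgroup.mem_centralizer_singleton_iff.mpr (by simp)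
  have hrange : ∀ g : Matrix.SpecialLinearGroup (Fin 2) F,
      (K g).index ∈ Set.range (fun g : Matrix.ProjectiveSpecialLinearGroup (Fin 2) F =>
        (Subgroup.centralizer ({g} : Set (Matrix.ProjectiveSpecialLinearGroup (Fin 2) F))).index) :=
    fun g => ⟨π g, hidx g⟩
  -- witnesses
  have hU : (K (CfsgLib.PSL2.uSL 1)).index = (q ^ 2 - 1) / 2 :=
    (hmain _ (fun a e => by
      have := congrFun (congrFun e 0) 1
      simp [CfsgLib.PSL2.coe_uSL] at this)).1 (by simp [CfsgLib.PSL2.coe_uSL, Matrix.trace_fin_two]; norm_num)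
  let J : Matrix.SpecialLinearGroup (Fin 2) F := ⟨!![0, -1; 1, 0], by simp [Matrix.det_fin_two_of]⟩
  have hJ := (hmain J (fun a e => by
      have := congrFun (congrFun e 1) 0
      simp [J] at this)).2.1 (by simp [J, Matrix.trace_fin_two])
  have hN : q * (q - 1) ∈ Set.range (fun g : Matrix.ProjectiveSpecialLinearGroup (Fin 2) F =>
      (Subgroup.centralizer ({g} : Set (Matrix.ProjectiveSpecialLinearGroup (Fin 2) F))).index) := by
    obtain ⟨g, hg⟩ := CfsgLib.NonSplitTorus.exists_orderOf_card_add_one (F := F) p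
    rw [← hqdef] at hg
    have hns : ∀ a : F, g.1 ≠ a • (1 : Matrix (Fin 2) (Fin 2) F) := fun a e => by
      have hd := g.2
      rw [e] at hd
      simp at hd
      have : g ^ 2 = 1 := by
        refine Subtype.ext ?_
        rw [sq, Matrix.SpecialLinearGroup.coe_mul, e, Matrix.SpecialLinearGroup.coe_one]
        rcases hd with rfl | rfl <;> simp
      have := Nat.le_of_dvd two_pos (orderOf_dvd_of_pow_eq_one this)
      omega
    have hdvd : q + 1 ∣ Nat.card (Subgroup.centralizer ({g} : Set (Matrix.SpecialLinearGroup (Fin 2) F))) := by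
      rw [← hg, ← Nat.card_zpowers]
      exact Subgroup.card_dvd_of_le (Subgroup.zpowers_le.mpr
        (Subgroup.mem_centralizer_singleton_iff.mpr rfl))
    have h0 : g.1.trace ≠ 0 := fun h => by
      have : g * g = -1 := Subtype.ext (by
        show g.1 * g.1 = -1
        rw [CfsgLib.SL2Orders.sq_eq g, h, zero_smul, zero_sub])
      have h4' : g ^ 4 = 1 := by
        rw [show (4 : ℕ) = 2 * 2 by norm_num, pow_mul, sq g, this, neg_one_sq]
      have := Nat.le_of_dvd (by norm_num) (orderOf_dvd_of_pow_eq_one h4')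
      omega
    have h1 : g.1.trace ^ 2 ≠ 4 := fun h => by
      rw [card_centralizer_unipotent h2 hns h, ← hqdef] at hdvd
      have h3 : q + 1 ∣ 2 * (q + 1) := Dvd.intro_left _ rfl
      have := Nat.le_of_dvd two_pos ((Nat.dvd_add_right hdvd).mp (show q + 1 ∣ 2 * q + 2 by
        rw [show 2 * q + 2 = 2 * (q + 1) by ring]; exact h3))
      omega
    rcases (hmain g hns).2.2 h0 h1 with ⟨-, h⟩ | ⟨hr, -⟩
    · exact h ▸ hrange g
    · exfalso
      have hc := CfsgLib.SL2Centralizer.card_centralizer h1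
      rw [hr] at hc
      have := Nat.le_of_dvd Nat.card_pos hdvd
      omega
  have hS : q * (q + 1) ∈ Set.range (fun g : Matrix.ProjectiveSpecialLinearGroup (Fin 2) F =>
      (Subgroup.centralizer ({g} : Set (Matrix.ProjectiveSpecialLinearGroup (Fin 2) F))).index) := by
    obtain ⟨w, hw⟩ := IsCyclic.exists_ofOrder_eq_natCard (α := Fˣ)
    rw [Nat.card_units, Nat.card_eq_fintype_card, ← hqdef] at hw
    have hwne : ∀ m, 0 < m → m < q - 1 → (w : F) ^ m ≠ 1 := fun m hm0 hm h => by
      rw [← Units.val_pow_eq_pow_val, Units.val_eq_one] at h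
      have := Nat.le_of_dvd hm0 (orderOf_dvd_of_pow_eq_one h)
      omega
    set g := CfsgLib.PSL2.dSL (w : F) w.ne_zero with hgdef
    have htr : g.1.trace = (w : F) + (w : F)⁻¹ := by
      simp [hgdef, CfsgLib.PSL2.coe_dSL, Matrix.trace_fin_two]
    have hmul : (w : F) * (w : F)⁻¹ = 1 := mul_inv_cancel₀ w.ne_zero
    have h0 : g.1.trace ≠ 0 := fun h => by
      rw [htr] at h
      have h' : (w : F) ^ 2 = -1 := by linear_combination (w : F) * h - hmul
      exact hwne 4 (by norm_num) (by omega) (by rw [show (4 : ℕ) = 2 * 2 by norm_num, pow_mul, h', neg_one_sq])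
    have h1 : g.1.trace ^ 2 ≠ 4 := fun h => by
      rw [htr] at h
      have h' : ((w : F) ^ 2 - 1) ^ 2 = 0 := by
        linear_combination (w : F) ^ 2 * h - (2 * (w : F) ^ 2 + 1 + (w : F) * (w : F)⁻¹) * hmul
      exact hwne 2 two_pos (by omega) (sub_eq_zero.mp (sq_eq_zero_iff.mp h'))
    rcases (hmain g (CfsgLib.SL2Centralizer.not_scalar_of_trace h1)).2.2 h0 h1 with ⟨hr, -⟩ | ⟨-, h⟩
    · exfalso
      have : Nonempty {s : F // s * s + g.1.trace * s + 1 = 0} :=
        ⟨⟨-(w : F), by rw [htr]; linear_combination -hmul⟩⟩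
      exact Nat.card_pos.ne' hr
    · exact h ▸ hrange g
  have h1mem : 1 ∈ Set.range (fun g : Matrix.ProjectiveSpecialLinearGroup (Fin 2) F =>
      (Subgroup.centralizer ({g} : Set (Matrix.ProjectiveSpecialLinearGroup (Fin 2) F))).index) :=
    ⟨π 1, hone 1 (map_one π)⟩
  have hall : ∀ x : Matrix.ProjectiveSpecialLinearGroup (Fin 2) F,
      (Subgroup.centralizer ({x} : Set (Matrix.ProjectiveSpecialLinearGroup (Fin 2) F))).index ∈
        ({1, (q ^ 2 - 1) / 2, q * (q - 1), q * (q + 1)} : Set ℕ) ∨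
      ((q % 4 = 1 → (Subgroup.centralizer ({x} : Set (Matrix.ProjectiveSpecialLinearGroup (Fin 2) F))).index = q * (q + 1) / 2) ∧
        (q % 4 = 3 → (Subgroup.centralizer ({x} : Set (Matrix.ProjectiveSpecialLinearGroup (Fin 2) F))).index = q * (q - 1) / 2)) := by
    intro x
    obtain ⟨g, rfl⟩ := QuotientGroup.mk'_surjective _ x
    by_cases hs : ∃ a : F, g.1 = a • (1 : Matrix (Fin 2) (Fin 2) F)
    · left; left
      refine hone g ((QuotientGroup.eq_one_iff g).mpr ?_)
      obtain ⟨a, ha⟩ := hs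
      rw [Subgroup.mem_center_iff]
      intro y
      refine Subtype.ext ?_
      rw [Matrix.SpecialLinearGroup.coe_mul, Matrix.SpecialLinearGroup.coe_mul, ha]
      simp
    push Not at hs
    rw [hidx g]
    by_cases h0 : g.1.trace = 0
    · exact Or.inr ((hmain g hs).2.1 h0)
    by_cases h1 : g.1.trace ^ 2 = 4
    · exact Or.inl (Or.inr (Or.inl ((hmain g hs).1 h1)))
    rcases (hmain g hs).2.2 h0 h1 with ⟨-, h⟩ | ⟨-, h⟩
    · exact Or.inl (Or.inr (Or.inr (Or.inl h)))
    · exact Or.inl (Or.inr (Or.inr (Or.inr h)))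
  refine ⟨fun hq => ?_, fun hq => ?_⟩ <;> refine Set.Subset.antisymm ?_ ?_
  · rintro _ ⟨x, rfl⟩
    rcases hall x with (h | h | h | h) | h
    · exact Or.inl h
    · exact Or.inr (Or.inl h)
    · exact Or.inr (Or.inr (Or.inr (Or.inl h)))
    · exact Or.inr (Or.inr (Or.inr (Or.inr h)))
    · exact Or.inr (Or.inr (Or.inl (h.1 hq)))
  · rintro _ (rfl | rfl | rfl | rfl | rfl)
    exacts [h1mem, hU ▸ hrange _, hJ.1 hq ▸ hrange J, hN, hS]
  · rintro _ ⟨x, rfl⟩
    rcases hall x with (h | h | h | h) | h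
    · exact Or.inl h
    · exact Or.inr (Or.inl h)
    · exact Or.inr (Or.inr (Or.inr (Or.inr h)))
    · exact Or.inr (Or.inr (Or.inr (Or.inl h)))
    · exact Or.inr (Or.inr (Or.inl (h.2 hq)))
  · rintro _ (rfl | rfl | rfl | rfl | rfl)
    exacts [h1mem, hU ▸ hrange _, hJ.2 hq ▸ hrange J, hS, hN]

end Cfsg.Agent.S2508
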