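import Cfsg.Statements.S2302
import Cfsg.Agent.Lib.TwoByTwo
import Cfsg.Agent.Lib.SLCard

set_option autoImplicit false
open Cfsg

namespace Cfsg.Agent.S2302

/-- Over a finite field with q elements of characteristic 2, the involutions of SL₂ (the non-identity unipotent elements) form a single conjugacy class, of size q² − 1. -/
theorem result {F : Type*} [Field F] [Fintype F] [CharP F 2] (g h : Matrix.SpecialLinearGroup (Fin 2) F) (hg : orderOf g = 2) (hh : orderOf h = 2) :
    IsConj g h ∧ Nat.card (ConjClasses.mk g).carrier = Fintype.card F ^ 2 - 1 := by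
  classical
  have hq1 := Fintype.one_lt_card (α := F)
  have h21 : ∀ x : Matrix.SpecialLinearGroup (Fin 2) F, orderOf x = 2 →
      IsConj (CfsgLib.PSL2.uSL (1 : F)) x := fun x hx => by
    have hne : x ≠ 1 := fun e => by simp [e] at hx
    have hgl : (Matrix.SpecialLinearGroup.toGL x) ^ 2 = 1 := by
      rw [← map_pow, orderOf_dvd_iff_pow_eq_one.mp (dvd_of_eq hx), map_one]
    obtain ⟨d, hd, hc⟩ := CfsgLib.TwoByTwo.exists_isConj_uSL (g := x)
      (CfsgLib.TwoByTwo.sub_one_sq 2 hgl) hne
    obtain ⟨s, hs⟩ : IsSquare d := FiniteField.isSquare_of_char_two (ringChar.eq F 2) d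
    have hs0 : s ≠ 0 := fun e => hd (by rw [hs, e, zero_mul])
    have h1 := CfsgLib.TwoByTwo.isConj_uSL_sq hs0 (1 : F)
    rw [mul_one, sq, ← hs] at h1
    exact h1.trans hc
  refine ⟨(h21 g hg).symm.trans (h21 h hh), ?_⟩
  have hc := CfsgLib.TwoByTwo.card_carrier_mul_centralizer (CfsgLib.PSL2.uSL (1 : F))
  have hone : Nat.card {a : F // a * a = 1} = 1 := by
    have e : ∀ a : F, a * a = 1 ↔ a = 1 := fun a => by
      rw [mul_self_eq_one_iff]
      simp [CharTwo.neg_eq]
    simp [e]
  rw [CfsgLib.TwoByTwo.card_centralizer_uSL one_ne_zero, hone, one_mul, CfsgLib.SLCard.card_SL_two,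
    mul_comm (Fintype.card F)] at hc
  rw [← CfsgLib.TwoByTwo.card_carrier_eq_of_isConj (h21 g hg)]
  exact Nat.eq_of_mul_eq_mul_right (by omega) hc

end Cfsg.Agent.S2302
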