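import Cfsg.Statements.S2507
import Cfsg.Agent.Lib.SL2Centralizer
import Cfsg.Agent.Lib.NonSplitTorus
import Cfsg.Agent.Lib.TwoByTwo
import Cfsg.Agent.S2302

set_option autoImplicit false
open Cfsg

namespace Cfsg.Agent.S2507

/-- Let F be a finite field with q = 2^f ≥ 4 elements. The conjugacy class sizes of PSL(2,F) are exactly 1, q(q − 1), q² − 1 and q(q + 1). -/
theorem result {F : Type*} [Field F] [Fintype F]
    (h2 : 2 ∣ Fintype.card F) (h4 : 4 ≤ Fintype.card F) :
    Set.range (fun g : (Matrix.ProjectiveSpecialLinearGroup (Fin 2) F) => (Subgroup.centralizer ({g} : Set (Matrix.ProjectiveSpecialLinearGroup (Fin 2) F))).index) =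
      {1, Fintype.card F * (Fintype.card F - 1), Fintype.card F ^ 2 - 1, Fintype.card F * (Fintype.card F + 1)} := by
  classical
  have hq : 1 < Fintype.card F := Fintype.one_lt_card
  obtain ⟨p, hp⟩ := CharP.exists F
  haveI : Fact p.Prime := ⟨CharP.char_is_prime F p⟩
  have hp2 : p = 2 := by
    obtain ⟨n, -, hn⟩ := FiniteField.card F p
    exact ((Nat.prime_dvd_prime_iff_eq Nat.prime_two (Fact.out : p.Prime)).mp
      (Nat.prime_two.dvd_of_dvd_pow (hn ▸ h2))).symm
  subst hp2
  set q := Fintype.card F with hqdef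
  have hcenter : Subgroup.center (Matrix.SpecialLinearGroup (Fin 2) F) = ⊥ := by
    refine Subgroup.card_eq_one.mp ?_
    rw [CfsgLib.SLCard.card_SL_center (by norm_num), ← hqdef]
    obtain ⟨k, hk⟩ := h2
    exact Nat.coprime_two_left.mpr ⟨k - 1, by omega⟩
  set π := QuotientGroup.mk' (Subgroup.center (Matrix.SpecialLinearGroup (Fin 2) F)) with hπ
  have hinj : Function.Injective π := by
    rw [← MonoidHom.ker_eq_bot_iff, hπ, QuotientGroup.ker_mk', hcenter]
  let e := MulEquiv.ofBijective π ⟨hinj, QuotientGroup.mk'_surjective _⟩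
  -- indices transfer to `SL₂`
  have hidx : ∀ g : Matrix.SpecialLinearGroup (Fin 2) F,
      (Subgroup.centralizer ({π g} : Set (Matrix.ProjectiveSpecialLinearGroup (Fin 2) F))).index =
        (Subgroup.centralizer ({g} : Set (Matrix.SpecialLinearGroup (Fin 2) F))).index := fun g => by
    rw [← Subgroup.index_comap_of_surjective _ (f := π) (QuotientGroup.mk'_surjective _)]
    congr 1
    ext x
    rw [Subgroup.mem_comap, Subgroup.mem_centralizer_singleton_iff, Subgroup.mem_centralizer_singleton_iff,
      ← map_mul, ← map_mul]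
    exact hinj.eq_iff
  have hG : Nat.card (Matrix.SpecialLinearGroup (Fin 2) F) = q * (q ^ 2 - 1) :=
    CfsgLib.SLCard.card_SL_two
  have hfour : (4 : F) = 0 := by
    have : (2 : F) = 0 := CharTwo.two_eq_zero
    linear_combination (2 : F) * this
  have htr : ∀ g : Matrix.SpecialLinearGroup (Fin 2) F, g.1.trace ≠ 0 → g.1.trace ^ 2 ≠ 4 := fun g h => by
    rw [hfour]; exact pow_ne_zero 2 h
  have hsq1 : ∀ g : Matrix.SpecialLinearGroup (Fin 2) F, g.1.trace = 0 → g * g = 1 := fun g h => by
    refine Subtype.ext ?_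
    show g.1 * g.1 = 1
    rw [CfsgLib.SL2Orders.sq_eq g, h, zero_smul, zero_sub]
    ext i j
    simp [CharTwo.neg_eq]
  -- the three class sizes
  have hinv : ∀ g : Matrix.SpecialLinearGroup (Fin 2) F, g ≠ 1 → g.1.trace = 0 →
      (Subgroup.centralizer ({g} : Set (Matrix.SpecialLinearGroup (Fin 2) F))).index = q ^ 2 - 1 := by
    intro g hne h0
    have hg2 : orderOf g = 2 := orderOf_eq_prime (by rw [sq, hsq1 g h0]) hne
    have hone : orderOf (CfsgLib.PSL2.uSL (1 : F)) = 2 := CfsgLib.TwoByTwo.orderOf_uSL 2 one_ne_zero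
    obtain ⟨-, hc⟩ := Cfsg.Agent.S2302.result g _ hg2 hone
    have h := CfsgLib.TwoByTwo.card_carrier_mul_centralizer g
    rw [hc, ← hqdef, ← Subgroup.index_mul_card
      (Subgroup.centralizer ({g} : Set (Matrix.SpecialLinearGroup (Fin 2) F)))] at h
    exact (Nat.eq_of_mul_eq_mul_right Nat.card_pos h).symm
  have hss : ∀ g : Matrix.SpecialLinearGroup (Fin 2) F, g.1.trace ≠ 0 →
      ((Subgroup.centralizer ({g} : Set (Matrix.SpecialLinearGroup (Fin 2) F))).index = q * (q - 1) ∧
        Nat.card (Subgroup.centralizer ({g} : Set (Matrix.SpecialLinearGroup (Fin 2) F))) = q + 1) ∨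
      ((Subgroup.centralizer ({g} : Set (Matrix.SpecialLinearGroup (Fin 2) F))).index = q * (q + 1) ∧
        Nat.card {s : F // s * s + g.1.trace * s + 1 = 0} = 2) := by
    intro g h0
    have h := CfsgLib.SL2Centralizer.card_centralizer (htr g h0)
    rw [← hqdef] at h
    have hm := (Subgroup.centralizer ({g} : Set (Matrix.SpecialLinearGroup (Fin 2) F))).index_mul_card
    rw [hG] at hm
    have hfac : q ^ 2 - 1 = (q + 1) * (q - 1) := Nat.sq_sub_sq q 1
    rcases CfsgLib.SL2Centralizer.card_roots (htr g h0) with hr | hr <;> rw [hr] at h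
    · left
      rw [Nat.add_zero] at h
      refine ⟨?_, h⟩
      rw [h, hfac, ← mul_assoc, mul_comm (q * (q + 1))] at hm
      exact Nat.eq_of_mul_eq_mul_right (show 0 < q + 1 by omega) (hm.trans (by ring))
    · right
      refine ⟨?_, hr⟩
      rw [show Nat.card _ = q - 1 by omega, hfac, ← mul_assoc] at hm
      exact Nat.eq_of_mul_eq_mul_right (show 0 < q - 1 by omega) hm
  ext m
  constructor
  · rintro ⟨x, rfl⟩
    obtain ⟨g, rfl⟩ := QuotientGroup.mk'_surjective _ x
    show (Subgroup.centralizer ({π g} : Set (Matrix.ProjectiveSpecialLinearGroup (Fin 2) F))).index ∈ _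
    rw [hidx]
    by_cases hone : g = 1
    · subst hone
      left
      rw [Subgroup.index_eq_one, eq_top_iff]
      intro y _
      exact Subgroup.mem_centralizer_singleton_iff.mpr (by simp)
    by_cases h0 : g.1.trace = 0
    · exact Or.inr (Or.inr (Or.inl (hinv g hone h0)))
    · rcases hss g h0 with ⟨h, -⟩ | ⟨h, -⟩
      · exact Or.inr (Or.inl h)
      · exact Or.inr (Or.inr (Or.inr h))
  · rintro (rfl | rfl | rfl | rfl)
    · refine ⟨1, ?_⟩
      simp only [Subgroup.index_eq_one, eq_top_iff]
      intro y _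
      exact Subgroup.mem_centralizer_singleton_iff.mpr (by simp)
    · obtain ⟨g, hg⟩ := CfsgLib.NonSplitTorus.exists_orderOf_card_add_one (F := F) 2
      have h0 : g.1.trace ≠ 0 := fun h => by
        have := Nat.le_of_dvd two_pos (orderOf_dvd_of_pow_eq_one (show g ^ 2 = 1 by rw [sq, hsq1 g h]))
        omega
      refine ⟨π g, ?_⟩
      simp only [hidx]
      rcases hss g h0 with ⟨h, -⟩ | ⟨-, hr⟩
      · exact h
      · exfalso
        have h := CfsgLib.SL2Centralizer.card_centralizer (htr g h0)
        rw [hr] at h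
        have hle : orderOf g ∣ Nat.card (Subgroup.centralizer ({g} : Set (Matrix.SpecialLinearGroup (Fin 2) F))) := by
          rw [← Nat.card_zpowers]
          exact Subgroup.card_dvd_of_le (Subgroup.zpowers_le.mpr
            (Subgroup.mem_centralizer_singleton_iff.mpr rfl))
        have := Nat.le_of_dvd Nat.card_pos hle
        omega
    · refine ⟨π (CfsgLib.PSL2.uSL 1), ?_⟩
      simp only [hidx]
      exact hinv _ (CfsgLib.TwoByTwo.uSL_ne_one one_ne_zero) (by
        simp [CfsgLib.PSL2.coe_uSL, Matrix.trace_fin_two, CharTwo.add_self_eq_zero])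
    · obtain ⟨a, ha0, ha1⟩ : ∃ a : F, a ≠ 0 ∧ a ≠ 1 := by
        by_contra hh
        push Not at hh
        have : (Finset.univ : Finset F) ⊆ {0, 1} := fun a _ => by
          rw [Finset.mem_insert, Finset.mem_singleton]
          rcases eq_or_ne a 0 with h | h
          · exact Or.inl h
          · exact Or.inr (hh a h)
        have := (Finset.card_le_card this).trans Finset.card_le_two
        rw [Finset.card_univ] at this
        omega
      have hinv : a⁻¹ ≠ a := fun e => ha1 (by
        have h1 : a * a = 1 := by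
          conv_lhs => arg 2; rw [← e]
          exact mul_inv_cancel₀ ha0
        rcases mul_self_eq_one_iff.mp h1 with h | h
        · exact h
        · rw [h, CharTwo.neg_eq])
      have htrace : (CfsgLib.PSL2.dSL a ha0).1.trace = a + a⁻¹ := by
        simp [CfsgLib.PSL2.coe_dSL, Matrix.trace_fin_two]
      have h0 : (CfsgLib.PSL2.dSL a ha0).1.trace ≠ 0 := fun h => by
        rw [htrace, ← CharTwo.sub_eq_add, sub_eq_zero] at h
        exact hinv h.symm
      refine ⟨π (CfsgLib.PSL2.dSL a ha0), ?_⟩
      simp only [hidx]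
      rcases hss _ h0 with ⟨-, hc⟩ | ⟨h, -⟩
      · exfalso
        have h := CfsgLib.SL2Centralizer.card_centralizer (htr _ h0)
        rw [hc] at h
        have hroot : 0 < Nat.card {s : F // s * s + (CfsgLib.PSL2.dSL a ha0).1.trace * s + 1 = 0} := by
          have : Nonempty {s : F // s * s + (CfsgLib.PSL2.dSL a ha0).1.trace * s + 1 = 0} := ⟨⟨a, by
            rw [htrace, add_mul, inv_mul_cancel₀ ha0]
            linear_combination (a * a + 1) * (CharTwo.two_eq_zero : (2 : F) = 0)⟩⟩
          exact Nat.card_pos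
        omega
      · exact h

end Cfsg.Agent.S2507
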