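import Cfsg.Statements.S3192
import Cfsg.Agent.Lib.ConjRankThree.Main
import Cfsg.Agent.S5748
import Cfsg.Agent.S2507

set_option autoImplicit false
open Cfsg

namespace Cfsg.Agent.S3192

/-- Simple groups of conjugate type rank three. For a finite group G consider the set of indices of the centralizers of the non-central elements of G. Then G is a non-abelian simple group for which this set has exactly three members if and only if G is isomorphic to PSL(2, 2^m) for some m ≥ 2. -/
theorem result (G : Type*) [Group G] [Finite G] :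
    (IsSimpleGroup G ∧ ¬ IsMulCommutative G ∧
        Set.ncard {m : ℕ | ∃ x : G, x ∉ Subgroup.center G ∧ m = (Subgroup.centralizer ({x} : Set G)).index} = 3) ↔
      ∃ (m : ℕ) (F : Type) (_ : Field F) (_ : Fintype F), 2 ≤ m ∧ Fintype.card F = 2 ^ m ∧
        Nonempty (G ≃* Matrix.ProjectiveSpecialLinearGroup (Fin 2) F) := by
  constructor
  · rintro ⟨hs, hna, h3⟩
    have h := CfsgLib.ConjRankThree.orders_ncard hna h3
    obtain ⟨F, iF, iFt, f, hf, hF, e⟩ :=
      (Cfsg.Agent.S5748.result hna).mp (CfsgLib.ConjRankThree.comm_trans hna h)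
    exact ⟨f, F, iF, iFt, hf, hF, e⟩
  · rintro ⟨m, F, iF, iFt, hm, hF, ⟨e⟩⟩
    have h4 : 4 ≤ Fintype.card F := by
      rw [hF]
      exact (show 4 = 2 ^ 2 by norm_num) ▸ Nat.pow_le_pow_right (by norm_num) hm
    haveI : IsSimpleGroup (Matrix.ProjectiveSpecialLinearGroup (Fin 2) F) :=
      Matrix.ProjectiveSpecialLinearGroup.rank_two_simple (by rwa [Nat.card_eq_fintype_card])
    haveI : IsSimpleGroup G := e.isSimpleGroup
    have hrange := Cfsg.Agent.S2507.result (F := F) (hF ▸ dvd_pow_self 2 (by omega)) h4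
    have hidx : ∀ x : G, (Subgroup.centralizer ({x} : Set G)).index =
        (Subgroup.centralizer ({e x} : Set (Matrix.ProjectiveSpecialLinearGroup (Fin 2) F))).index := by
      intro x
      rw [← Subgroup.index_comap_of_surjective (f := e.toMonoidHom) _ e.surjective]
      congr 1
      ext y
      rw [Subgroup.mem_comap, Subgroup.mem_centralizer_singleton_iff, Subgroup.mem_centralizer_singleton_iff,
        MulEquiv.coe_toMonoidHom, ← map_mul, ← map_mul, e.injective.eq_iff]
    set q := Fintype.card F
    have hall : ∀ v : ℕ, (∃ x : G, (Subgroup.centralizer ({x} : Set G)).index = v) ↔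
        v ∈ ({1, q * (q - 1), q ^ 2 - 1, q * (q + 1)} : Set ℕ) := by
      intro v
      rw [← hrange]
      constructor
      · rintro ⟨x, rfl⟩
        exact ⟨e x, (hidx x).symm⟩
      · rintro ⟨y, rfl⟩
        exact ⟨e.symm y, by rw [hidx, e.apply_symm_apply]⟩
    obtain ⟨k, hk⟩ : ∃ k, q = k + 4 := ⟨q - 4, by omega⟩
    have hsq : q * q = q ^ 2 := (pow_two q).symm
    have h1 : q * (q - 1) + q = q ^ 2 := by rw [← Nat.mul_succ, ← hsq]; congr 1; omega
    have h2 : q * (q + 1) = q ^ 2 + q := by rw [← hsq]; ring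
    have hq2 : 4 * q ≤ q ^ 2 := by rw [← hsq]; exact Nat.mul_le_mul_right q h4
    have hone : ∀ x : G, (Subgroup.centralizer ({x} : Set G)).index = 1 ↔ x ∈ Subgroup.center G := fun x => by
      rw [Subgroup.index_eq_one]
      refine ⟨fun h => Subgroup.mem_center_iff.mpr fun g =>
        Subgroup.mem_centralizer_singleton_iff.mp (h ▸ Subgroup.mem_top g), fun h => ?_⟩
      exact (Subgroup.eq_top_iff' _).mpr fun g =>
        Subgroup.mem_centralizer_singleton_iff.mpr (Subgroup.mem_center_iff.mp h g)
    have hset : {v : ℕ | ∃ x : G, x ∉ Subgroup.center G ∧ v = (Subgroup.centralizer ({x} : Set G)).index} =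
        {q * (q - 1), q ^ 2 - 1, q * (q + 1)} := by
      ext v
      constructor
      · rintro ⟨x, hx, rfl⟩
        have hv := (hall _).mp ⟨x, rfl⟩
        simp only [Set.mem_insert_iff, Set.mem_singleton_iff] at hv ⊢
        exact hv.resolve_left fun h => hx ((hone x).mp h)
      · intro hv
        obtain ⟨x, hx⟩ := (hall v).mpr (Or.inr hv)
        refine ⟨x, fun hc => ?_, hx.symm⟩
        rw [(hone x).mpr hc] at hx
        simp only [Set.mem_insert_iff, Set.mem_singleton_iff] at hv
        omega
    refine ⟨inferInstance, fun hcomm => ?_, ?_⟩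
    · obtain ⟨x, hx⟩ := (hall (q * (q + 1))).mpr (by simp)
      rw [(hone x).mpr (Subgroup.mem_center_iff.mpr fun g => hcomm.is_comm.comm g x)] at hx
      omega
    · rw [hset, Set.ncard_eq_three]
      exact ⟨_, _, _, by omega, by omega, by omega, rfl⟩

end Cfsg.Agent.S3192
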