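import Cfsg.Statements.S1534
import Mathlib
import Cfsg.Agent.Lib.CharTheory.SibleyKernel
import Cfsg.Agent.Lib.CharTheory.FeitTheorem
-- import your own Cfsg.Agent.* helpers here

set_option autoImplicit false
open Cfsg

namespace Cfsg.Agent.S1534

private theorem commutator_index_transfer {A : Type*} [Group A] (H M : Subgroup A) (hHM : H ≤ M) :
    (⁅H.subgroupOf M, H.subgroupOf M⁆.subgroupOf (H.subgroupOf M)).index = (⁅H, H⁆.subgroupOf H).index := by
  have key : ∀ {B : Type _} [Group B] (U : Subgroup B), ⁅U, U⁆.subgroupOf U = commutator U := fun U => by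
    rw [← Subgroup.map_subtype_commutator, Subgroup.subgroupOf, Subgroup.comap_map_eq_self_of_injective U.subtype_injective]
  let e := Subgroup.subgroupOfEquivOfLe hHM
  rw [key, key, ← (show (commutator (H.subgroupOf M)).map e.toMonoidHom = commutator H by
    rw [commutator_def, Subgroup.map_commutator, Subgroup.map_top_of_surjective _ e.surjective, commutator_def])]
  exact (Subgroup.index_map_equiv _ e).symm

/-- Let G be a finite group and K a nontrivial nilpotent subgroup whose underlying set is a TI-subset of G, properly contained in its set normaliser N, with C_G(k) ≤ K for every non-identity k ∈ K; let e be the index of K in N and S the set of irreducible characters χ of N with χ k ≠ χ 1 for some k ∈ K. Then one of: S has exactly one member, Nat.card K = e + 1 and K is an elementary abelian p-group for some prime p; or K is a Sylow 2-subgroup of G (Nat.card K is the largest power of 2 dividing Nat.card G) and [K : [K,K]] < 4e²; or (S, N minus 1, induction to G) is coherent. -/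
theorem result {G : Type*} [Group G] [Fintype G] (K : Subgroup G) (hK1 : K ≠ ⊥) (hnil : Group.IsNilpotent K) (hTI : Cfsg.IsTISubset (K : Set G)) (hlt : K < Subgroup.normalizer (K : Set G)) (hC : ∀ k ∈ K, k ≠ 1 → Subgroup.centralizer ({k} : Set G) ≤ K) [Fintype ↥(Subgroup.normalizer (K : Set G))] : (Nat.card {χ : ↥(Subgroup.normalizer (K : Set G)) → ℂ // Cfsg.IsIrrCharacter ↥(Subgroup.normalizer (K : Set G)) χ ∧ ∃ k : ↥(Subgroup.normalizer (K : Set G)), (k : G) ∈ K ∧ χ k ≠ χ 1} = 1 ∧ Nat.card K = (K.subgroupOf (Subgroup.normalizer (K : Set G))).index + 1 ∧ ∃ p : ℕ, p.Prime ∧ Cfsg.IsElementaryAbelian p K) ∨ (Nat.card K = 2 ^ (Nat.card G).factorization 2 ∧ (⁅K, K⁆.subgroupOf K).index < 4 * (K.subgroupOf (Subgroup.normalizer (K : Set G))).index ^ 2) ∨ Cfsg.IsCoherent {χ : ↥(Subgroup.normalizer (K : Set G)) → ℂ | Cfsg.IsIrrCharacter ↥(Subgroup.normalizer (K : Set G)) χ ∧ ∃ k : ↥(Subgroup.normalizer (K : Set G)), (k : G) ∈ K ∧ χ k ≠ χ 1} {1}ᶜ (fun α => Cfsg.indFun (Subgroup.normalizer (K : Set G)) α) := by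
    classical
    set N := Subgroup.normalizer (K : Set G) with hN
    have hKN : K ≤ N := Subgroup.le_normalizer
    set M : Subgroup N := K.subgroupOf N with hMdef
    have hMn : M.Normal := Subgroup.normal_in_normalizer
    have hMC : ∀ k ∈ M, k ≠ 1 → Subgroup.centralizer ({k} : Set N) ≤ M := fun k hk hk1 x hx =>
      hC k hk (fun e => hk1 (Subtype.ext e)) (Subgroup.mem_centralizer_singleton_iff.mpr
        (congrArg Subtype.val (Subgroup.mem_centralizer_singleton_iff.mp hx)))
    have hMtop : M < ⊤ := lt_top_iff_ne_top.mpr fun h => not_le_of_gt hlt (Subgroup.subgroupOf_eq_top.mp h)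
    have hM1 : M ≠ ⊥ := fun h => hK1 (by
      rw [Subgroup.subgroupOf_eq_bot, disjoint_iff, inf_eq_left.mpr hKN] at h; exact h)
    let e := Subgroup.subgroupOfEquivOfLe hKN
    have hcard : Nat.card M = Nat.card K := Nat.card_congr e.toEquiv
    have hT : (K : Set G) = Subtype.val '' (M : Set N) := by
      ext x; exact ⟨fun h => ⟨⟨x, hKN h⟩, h, rfl⟩, fun ⟨y, hy, e⟩ => e ▸ hy⟩
    have hset : Cfsg.inducedIrrAbove M ⊥ = {χ : N → ℂ | Cfsg.IsIrrCharacter N χ ∧ ∃ x : N, (x : G) ∈ K ∧ χ x ≠ χ 1} := by
      rw [CfsgLib.CharTheory.irr_nontrivial_on_eq M hMC]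
      ext χ
      exact ⟨fun ⟨h1, z, hz, hne⟩ => ⟨h1, z, hz, hne⟩, fun ⟨h1, z, hz, hne⟩ => ⟨h1, z, hz, hne⟩⟩
    obtain ⟨hτ, hτ1⟩ := CfsgLib.CharTheory.induced_isometry N M hT (fun g hg => hTI g hg)
    by_cases hab : IsMulCommutative K
    · have hab' : ∀ x ∈ M, ∀ y ∈ M, x * y = y * x := fun x hx y hy =>
        Subtype.ext (congrArg (fun q : K => (q : G)) (hab.is_comm.comm (⟨x.1, hx⟩ : K) ⟨y.1, hy⟩))
      rcases CfsgLib.CharTheory.abelian_kernel_dichotomy M hM1 hMtop hab' hMC hτ hτ1 with ⟨h1, h2, p, hp, -, hp2⟩ | h
      · left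
        refine ⟨?_, hcard ▸ h2, p, hp, hab, fun x hx => ?_⟩
        · rw [← h1]
          exact Nat.card_congr (Equiv.subtypeEquivRight fun χ => (Set.ext_iff.mp hset χ).symm)
        · have := congrArg Subtype.val (hp2 ⟨x, hKN hx⟩ hx)
          rwa [Subgroup.coe_pow, Subgroup.coe_one] at this
      · right; right
        rw [hset] at h
        convert h using 1
    · -- nonabelian: the index is odd
      have habM : ¬ IsMulCommutative M := fun h => hab ⟨⟨fun a b => e.symm.injective (by
        rw [map_mul, map_mul]; exact h.is_comm.comm _ _)⟩⟩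
      have hodde : Odd M.index := by
        rw [Nat.odd_iff]
        by_contra hev
        have h2 : 2 ∣ M.index := by omega
        have := Fact.mk Nat.prime_two
        obtain ⟨q, hq⟩ := exists_prime_orderOf_dvd_card' (G := N ⧸ M) 2 h2
        obtain ⟨g, rfl⟩ := QuotientGroup.mk_surjective q
        have hgM : g ∉ M := fun h => by
          rw [(QuotientGroup.eq_one_iff g).mpr h, orderOf_one] at hq; exact absurd hq (by norm_num)
        have hg2 : g * g ∈ M := by
          rw [← QuotientGroup.eq_one_iff, QuotientGroup.mk_mul, ← pow_two, ← hq, pow_orderOf_eq_one]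
        have hfix : ∀ u ∈ M, g * u * g⁻¹ = u → u = 1 := fun u hu h => by
          by_contra hu1
          exact hgM (hMC u hu hu1 (Subgroup.mem_centralizer_singleton_iff.mpr (mul_inv_eq_iff_eq_mul.mp h)))
        have hgg : g * g = 1 := hfix _ hg2 (by group)
        let φ : M →* M := (MulAut.conjNormal g : MulAut M).toMonoidHom
        have hval : ∀ u, ((φ u : M) : N) = g * u * g⁻¹ := fun u => MulAut.conjNormal_apply g u
        have hfpf : MonoidHom.FixedPointFree φ := fun u hu =>
          Subtype.ext (hfix u u.2 ((hval u).symm.trans (congrArg Subtype.val hu)))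
        have hinv : Function.Involutive φ := fun u => Subtype.ext (by
          rw [hval, hval]
          calc g * (g * u * g⁻¹) * g⁻¹ = (g * g) * u * (g * g)⁻¹ := by group
            _ = _ := by rw [hgg]; group)
        exact habM ⟨⟨fun x y => MonoidHom.FixedPointFree.commute_all_of_involutive hfpf hinv x y⟩⟩
      rcases CfsgLib.CharTheory.feit_coherence M hM1 (ne_of_lt hMtop) hMC (fun h => absurd h habM) hτ hτ1 with h | ⟨p, hp, ⟨m, hm⟩, -, hle⟩
      · right; right
        rw [hset] at h
        convert h using 1
      · have := Fact.mk hp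
        by_cases hp2 : p = 2
        · subst hp2
          right; left
          have hm0 : m ≠ 0 := fun h => hM1 (Subgroup.card_eq_one.mp (by rw [hm, h, pow_zero]))
          have hcop : ¬ 2 ∣ M.index := fun h => by rw [Nat.odd_iff] at hodde; omega
          have hKcard : Nat.card K = 2 ^ m := hcard ▸ hm
          have hnd : ¬ 2 ∣ K.index := fun h => by
            have h1 : 2 ^ (m + 1) ∣ Nat.card G := by
              rw [← K.card_mul_index, hKcard, pow_succ]; exact Nat.mul_dvd_mul_left _ h
            have h2 := (Sylow.card_normalizer_modEq_card (p := 2) hKcard).dvd_iff dvd_rfl |>.mpr h1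
            rw [← hN, ← Subgroup.card_mul_index M, hm, pow_succ] at h2
            exact hcop (Nat.dvd_of_mul_dvd_mul_left (pow_pos (by norm_num) m) h2)
          refine ⟨?_, ?_⟩
          · rw [hKcard, ← K.card_mul_index, Nat.factorization_mul Nat.card_pos.ne' Subgroup.index_ne_zero_of_finite,
              Finsupp.add_apply, hKcard, Nat.Prime.factorization_pow Nat.prime_two,
              Nat.factorization_eq_zero_of_not_dvd hnd]
            simp
          · have hi : (⁅M, M⁆.subgroupOf M).index = (⁅K, K⁆.subgroupOf K).index := commutator_index_transfer K N hKN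
            rw [← hi]
            obtain ⟨j, -, hj⟩ := (Nat.dvd_prime_pow Nat.prime_two).mp (hm ▸ Subgroup.index_dvd_card (⁅M, M⁆.subgroupOf M))
            have he1 : 1 < M.index := Subgroup.one_lt_index_of_ne_top (ne_of_lt hMtop)
            rw [hj] at hle ⊢
            have he2 : Odd (M.index ^ 2) := hodde.pow
            have h4 : 4 < 4 * M.index ^ 2 := by nlinarith
            rcases Nat.lt_or_ge (2 ^ j) (4 * M.index ^ 2) with h | h
            · exact h
            exfalso
            rcases Nat.lt_or_ge j 2 with hj2 | hj2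
            · have : 2 ^ j ≤ 4 := (Nat.pow_le_pow_right (by norm_num) hj2.le).trans (by norm_num)
              omega
            · obtain ⟨i, rfl⟩ := Nat.exists_eq_add_of_le hj2
              rw [pow_add] at h hle
              have h5 : 2 ^ i = M.index ^ 2 := by omega
              rcases Nat.eq_zero_or_pos i with rfl | hi0
              · nlinarith
              · have : Even (2 ^ i) := (Nat.even_pow' hi0.ne').mpr even_two
                rw [h5] at this
                exact (Nat.not_even_iff_odd.mpr he2) this
        · right; right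
          have hodd : Odd (Nat.card N) := by
            rw [← M.card_mul_index, Nat.odd_mul, hm]
            exact ⟨(hp.odd_of_ne_two hp2).pow, hodde⟩
          have h := CfsgLib.CharTheory.sibley_ti_kernel K N hKN hN.symm hodd hK1 hMtop hnil hTI hMC
          rw [hset] at h
          convert h using 1

end Cfsg.Agent.S1534
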