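import Cfsg.Statements.S1442
import Mathlib
-- import your own Cfsg.Agent.* helpers here

set_option autoImplicit false
open Cfsg

namespace Cfsg.Agent.S1442

/-- Let G be a finite group, H a nilpotent subgroup and A a subgroup normalizing H with the orders of A and H coprime. Put C = H ∩ C_G(A). If H ∩ C_G(C) ≤ C then A centralizes H. -/
theorem result {G : Type*} [Group G] [Finite G] (H A : Subgroup G) (hH : Group.IsNilpotent H) (hA : (A ≤ Subgroup.normalizer (H : Set G))) (hcop : (Nat.card A).Coprime (Nat.card H))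
    (hC : H ⊓ Subgroup.centralizer (((H ⊓ Subgroup.centralizer (A : Set G)) : Subgroup G) : Set G) ≤ (H ⊓ Subgroup.centralizer (A : Set G))) :
    A ≤ Subgroup.centralizer (H : Set G) := by
  classical
  set C := H ⊓ Subgroup.centralizer (A : Set G) with hCdef
  have hstep : ∀ n ∈ H, n ∈ Subgroup.normalizer (C : Set G) → n ∈ C := by
    intro n hn hnN
    refine Subgroup.mem_inf.mpr ⟨hn, Subgroup.mem_centralizer_iff.mpr fun a ha => ?_⟩
    have hanH : a * n * a⁻¹ ∈ H := (Subgroup.mem_normalizer_iff.mp (hA ha) n).mp hn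
    set m := n⁻¹ * (a * n * a⁻¹) with hm
    have hmC : m ∈ C := hC (Subgroup.mem_inf.mpr ⟨mul_mem (inv_mem hn) hanH, Subgroup.mem_centralizer_iff.mpr fun c hc => by
      have hca : a * c = c * a := Subgroup.mem_centralizer_iff.mp (Subgroup.mem_inf.mp hc).2 a ha
      have hnc : n * c * n⁻¹ ∈ C := (Subgroup.mem_normalizer_iff.mp hnN c).mp hc
      have hfix : a * (n * c * n⁻¹) = (n * c * n⁻¹) * a := Subgroup.mem_centralizer_iff.mp (Subgroup.mem_inf.mp hnc).2 a ha
      have hca' : a⁻¹ * c = c * a⁻¹ := (Commute.inv_left hca).eq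
      symm
      calc m * c = n⁻¹ * a * n * (a⁻¹ * c) := by rw [hm]; group
        _ = n⁻¹ * (a * (n * c * n⁻¹)) * n * a⁻¹ := by rw [hca']; group
        _ = c * m := by rw [hfix, hm]; group⟩)
    have ham : a * m = m * a := Subgroup.mem_centralizer_iff.mp (Subgroup.mem_inf.mp hmC).2 a ha
    have hiter : ∀ k : ℕ, a ^ k * n * (a ^ k)⁻¹ = n * m ^ k := fun k => by
      induction k with
      | zero => simp
      | succ k ih =>
        calc a ^ (k + 1) * n * (a ^ (k + 1))⁻¹ = a * (a ^ k * n * (a ^ k)⁻¹) * a⁻¹ := by rw [pow_succ']; group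
          _ = (a * n * a⁻¹) * (a * m ^ k) * a⁻¹ := by rw [ih]; group
          _ = (n * m) * (m ^ k * a) * a⁻¹ := by rw [(Commute.pow_right ham k).eq, hm, mul_inv_cancel_left]
          _ = _ := by rw [pow_succ']; group
    have h1 := hiter (Nat.card A)
    rw [show a ^ Nat.card A = 1 from congrArg Subtype.val (pow_card_eq_one' (x := (⟨a, ha⟩ : A))), one_mul, inv_one, mul_one, left_eq_mul] at h1
    have hm1 : m = 1 := by
      rw [← orderOf_eq_one_iff]
      exact Nat.eq_one_of_dvd_coprimes hcop (orderOf_dvd_of_pow_eq_one h1) (Subgroup.orderOf_dvd_natCard _ (Subgroup.mem_inf.mp hmC).1)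
    rw [hm, inv_mul_eq_one] at hm1
    calc a * n = (a * n * a⁻¹) * a := by group
      _ = n * a := by rw [← hm1]
  haveI := hH
  have htop : C.subgroupOf H = ⊤ := by
    by_contra hne
    obtain ⟨n, hn, hnC⟩ := SetLike.exists_of_lt (Group.normalizerCondition_of_isNilpotent _ (lt_top_iff_ne_top.mpr hne))
    refine hnC (hstep n n.2 (Subgroup.mem_normalizer_iff.mpr fun c => ?_))
    have h := Subgroup.mem_normalizer_iff.mp hn
    constructor
    · intro hc; exact (h ⟨c, (Subgroup.mem_inf.mp hc).1⟩).mp hc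
    · intro hc
      have hcH : c ∈ H := by
        have := mul_mem (mul_mem (inv_mem n.2) (Subgroup.mem_inf.mp hc).1) n.2
        simpa [mul_assoc] using this
      exact (h ⟨c, hcH⟩).mpr hc
  intro a ha
  exact Subgroup.mem_centralizer_iff.mpr fun x hx => (Subgroup.mem_centralizer_iff.mp (Subgroup.mem_inf.mp (Subgroup.subgroupOf_eq_top.mp htop hx)).2 a ha).symm

end Cfsg.Agent.S1442
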