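import Cfsg.Statements.S2969
import Cfsg.Agent.Lib.Isolated

set_option autoImplicit false
set_option linter.unusedVariables false
open Cfsg
open scoped commutatorElement

namespace Cfsg.Agent.S2969

open CfsgLib.Local

/-- Let G be a finite group, p a prime and x ∈ G an element of p-power order which is isolated in G. If R is a p-subgroup of G containing x, then N_G(R) ≤ C_G(x); in particular x lies in the centre of R. Moreover, if x lies in a normal subgroup N of a subgroup H of G, then H = N·C_H(x). -/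
theorem result {G : Type*} [Group G] [Finite G] {p : ℕ} [Fact p.Prime] (x : G) (hx : ∃ k : ℕ, orderOf x = p ^ k) (hiso : Cfsg.IsIsolated x) : (∀ R : Subgroup G, IsPGroup p ↥R → x ∈ R → Subgroup.normalizer (R : Set G) ≤ Subgroup.centralizer ({x} : Set G)) ∧ (∀ H N : Subgroup G, N ≤ H → H ≤ Subgroup.normalizer (N : Set G) → x ∈ N → N ⊔ (H ⊓ Subgroup.centralizer ({x} : Set G)) = H) := by
  refine ⟨fun R hR hxR g hg => ?_, fun H N hNH hHN hxN => ?_⟩
  · rw [Subgroup.mem_centralizer_singleton_iff]
    exact mul_inv_eq_iff_eq_mul.1 (isolated_unique hR hxR hiso ((Subgroup.mem_normalizer_iff.1 hg x).1 hxR))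
  · refine le_antisymm (sup_le hNH inf_le_left) fun h hh => ?_
    have hxp : IsPGroup p (Subgroup.zpowers x) := by
      obtain ⟨k, hk⟩ := hx
      exact IsPGroup.of_card (by rw [Nat.card_zpowers, hk])
    have hxp' : IsPGroup p (Subgroup.zpowers (h * x * h⁻¹)) := by
      have e : Subgroup.zpowers (h * x * h⁻¹) = (Subgroup.zpowers x).map (MulAut.conj h).toMonoidHom := by
        rw [MonoidHom.map_zpowers]; simp
      rw [e]; exact hxp.map _
    obtain ⟨c, hc, Q, hQ, -, hxQ, hcQ⟩ := exists_conj_isPGroup hxp hxp' (Subgroup.zpowers_le.2 hxN)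
      (Subgroup.zpowers_le.2 ((Subgroup.mem_normalizer_iff.1 (hHN hh) x).1 hxN))
    have h2 : (c * h) * x * (c * h)⁻¹ = x := by
      refine isolated_unique hQ (hxQ (Subgroup.mem_zpowers x)) hiso (hcQ ⟨_, Subgroup.mem_zpowers _, ?_⟩)
      simp [mul_assoc]
    have h3 : c * h ∈ H ⊓ Subgroup.centralizer ({x} : Set G) :=
      ⟨H.mul_mem (hNH hc) hh, Subgroup.mem_centralizer_singleton_iff.2 (mul_inv_eq_iff_eq_mul.1 h2)⟩
    simpa using (N ⊔ (H ⊓ Subgroup.centralizer ({x} : Set G))).mul_mem
      (Subgroup.mem_sup_left (N.inv_mem hc)) (Subgroup.mem_sup_right h3)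

end Cfsg.Agent.S2969
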