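import Cfsg.Statements.S4035
import Mathlib
import Cfsg.Agent.Lib.JordanCover
import Cfsg.Agent.Lib.PSplit
import Cfsg.Agent.Lib.SylowExtra
import Cfsg.Agent.Lib.PRegularClass
-- import your own Cfsg.Agent.* helpers here

set_option autoImplicit false
open Cfsg

namespace Cfsg.Agent.S4035

open scoped Pointwise

/-- Let G be a finite group and p a prime such that p divides the size of no conjugacy class of p-regular elements (elements of order prime to p). Then G is the internal direct product of a Sylow p-subgroup P and a normal subgroup H of order prime to p: P is normal, P ⊓ H = 1 and PH = G. -/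
theorem result {G : Type*} [Group G] [Finite G] {p : ℕ} [Fact p.Prime]
    (h : ∀ x : G, (orderOf x).Coprime p → ¬ p ∣ (ConjClasses.mk x).carrier.ncard) (P : Sylow p G) :
    (P : Subgroup G).Normal ∧ ∃ H : Subgroup G, H.Normal ∧ ¬ p ∣ Nat.card H ∧
      (P : Subgroup G) ⊓ H = ⊥ ∧ (P : Subgroup G) ⊔ H = ⊤ := by
  classical
  have hp : p.Prime := Fact.out
  -- every p'-element centralizes a conjugate of P
  have hcen : ∀ b : G, (orderOf b).Coprime p → ∃ Q : Sylow p G,
      (Q : Subgroup G) ≤ Subgroup.centralizer ({b} : Set G) := fun b hb =>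
    CfsgLib.exists_sylow_le_of_not_dvd_index _
      (CfsgLib.ncard_carrier_eq_index_centralizer b ▸ h b hb)
  have hconj : ∀ (x : G) (z : G), z ∈ (P : Subgroup G) →
      x * z * x⁻¹ ∈ ((x • P : Sylow p G) : Subgroup G) := by
    intro x z hz
    rw [Sylow.coe_subgroup_smul, Subgroup.mem_pointwise_smul_iff_inv_smul_mem, MulAut.smul_def,
      MulAut.inv_def, MulAut.conj_symm_apply]
    simpa [mul_assoc] using hz
  set L := (P : Subgroup G) ⊔ Subgroup.centralizer ((P : Subgroup G) : Set G)
  have hL : L = ⊤ := by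
    refine CfsgLib.eq_top_of_conj_cover L fun g => ?_
    obtain ⟨a, b, rfl, hab, ⟨k, hk⟩, hb, -, -⟩ := CfsgLib.exists_p_split (p := p) g
    obtain ⟨Q, hQ⟩ := hcen b hb
    set C := Subgroup.centralizer ({b} : Set G) with hC
    have haC : a ∈ C := Subgroup.mem_centralizer_singleton_iff.mpr hab.eq
    have hA : IsPGroup p (Subgroup.zpowers (⟨a, haC⟩ : C)) := by
      rintro ⟨y, j, rfl⟩
      refine ⟨k, Subtype.ext (Subtype.ext ?_)⟩
      show (a ^ j) ^ p ^ k = 1
      rw [← zpow_natCast, ← zpow_mul, mul_comm, zpow_mul, zpow_natCast, hk, one_zpow]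
    obtain ⟨R, hR⟩ := hA.exists_le_sylow
    obtain ⟨c, hc⟩ := MulAction.exists_smul_eq C R (Q.subtype hQ)
    have h1 : c * ⟨a, haC⟩ * c⁻¹ ∈ ((Q.subtype hQ : Sylow p C) : Subgroup C) := by
      rw [← hc, Sylow.coe_subgroup_smul, Subgroup.mem_pointwise_smul_iff_inv_smul_mem,
        MulAut.smul_def, MulAut.inv_def, MulAut.conj_symm_apply]
      simpa [mul_assoc] using hR (Subgroup.mem_zpowers _)
    rw [Sylow.coe_subtype, Subgroup.mem_subgroupOf] at h1
    obtain ⟨x, rfl⟩ := MulAction.exists_smul_eq G P Q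
    refine ⟨x⁻¹ * (c : G), ?_⟩
    have hcb : (c : G) * b = b * (c : G) := Subgroup.mem_centralizer_singleton_iff.mp c.2
    have e : x⁻¹ * (c : G) * (a * b) * (x⁻¹ * (c : G))⁻¹ =
        (x⁻¹ * ((c : G) * a * (c : G)⁻¹) * x) * (x⁻¹ * b * x) := by
      simp only [mul_inv_rev, inv_inv, mul_assoc, mul_inv_cancel_left]
      rw [← mul_assoc b (c : G)⁻¹, ← mul_assoc (c : G)⁻¹ b x]
      rw [show b * (c : G)⁻¹ = (c : G)⁻¹ * b from
        ((show Commute (c : G) b from hcb).inv_left.eq).symm]
    rw [e]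
    refine mul_mem (Subgroup.mem_sup_left ?_) (Subgroup.mem_sup_right ?_)
    · have := h1
      simp only [Subgroup.coe_mul, Subgroup.coe_inv] at this
      rw [Sylow.coe_subgroup_smul, Subgroup.mem_pointwise_smul_iff_inv_smul_mem, MulAut.smul_def,
        MulAut.inv_def, MulAut.conj_symm_apply] at this
      simpa [mul_assoc] using this
    · rw [Subgroup.mem_centralizer_iff]
      intro z hz
      have := Subgroup.mem_centralizer_singleton_iff.mp (hQ (hconj x z hz))
      have h2 := congrArg (fun w => x⁻¹ * w * x) this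
      simpa [mul_assoc] using h2
  have hPn : (P : Subgroup G).Normal := by
    refine Subgroup.normalizer_eq_top_iff.mp (top_le_iff.mp (hL ▸ sup_le Subgroup.le_normalizer ?_))
    exact fun x hx => Subgroup.centralizer_le_normalizer _ hx
  refine ⟨hPn, ?_⟩
  have hco : (Nat.card (P : Subgroup G)).Coprime (P : Subgroup G).index := by
    obtain ⟨n, hn⟩ := P.2.exists_card_eq
    rw [hn]
    exact ((hp.coprime_iff_not_dvd).mpr P.not_dvd_index).pow_left n
  obtain ⟨H, hH⟩ := Subgroup.exists_right_complement'_of_coprime hco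
  have hHp : ¬ p ∣ Nat.card H := hH.symm.index_eq_card ▸ P.not_dvd_index
  have hHC : ∀ y ∈ H, ∀ z ∈ (P : Subgroup G), z * y = y * z := by
    intro y hy z hz
    have hyp : (orderOf y).Coprime p := by
      refine Nat.Coprime.coprime_dvd_left ?_ ((hp.coprime_iff_not_dvd).mpr hHp).symm
      exact Subgroup.orderOf_dvd_natCard H hy
    obtain ⟨Q, hQ⟩ := hcen y hyp
    obtain ⟨x, rfl⟩ := MulAction.exists_smul_eq G P Q
    have hz' : z ∈ ((x • P : Sylow p G) : Subgroup G) := by
      have := hconj x (x⁻¹ * z * x) (by simpa using hPn.conj_mem z hz x⁻¹)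
      simpa [mul_assoc] using this
    exact Subgroup.mem_centralizer_singleton_iff.mp (hQ hz')
  refine ⟨H, ?_, hHp, disjoint_iff.mp hH.disjoint, hH.sup_eq_top⟩
  refine Subgroup.normalizer_eq_top_iff.mp (top_le_iff.mp ?_)
  rw [← hH.sup_eq_top]
  refine sup_le (fun z hz => Subgroup.centralizer_le_normalizer _
    (Subgroup.mem_centralizer_iff.mpr fun y hy => (hHC y hy z hz).symm)) Subgroup.le_normalizer

end Cfsg.Agent.S4035
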