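import Cfsg.Statements.S3214
import Cfsg.Agent.Lib.ChzTwoNil.Embedded
import Cfsg.Agent.Lib.ChzTwoNil.RankTwo
import Cfsg.Agent.Lib.SuzukiUnique.CIT
-- import your own Cfsg.Agent.* helpers here

set_option autoImplicit false
open Cfsg

namespace Cfsg.Agent.S3214

/-- Let G be a finite non-abelian simple group in which the centralizer of every involution has a normal 2-complement. Then G is isomorphic to PSL₂(q) for some prime power q > 3, to a Suzuki group Sz(2ⁿ) with n ≥ 3 odd, to the alternating group A₇, or to PSL₃(4). -/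
theorem result {G : Type*} [Group G] [Finite G] [IsSimpleGroup G]
    (hG : ¬ IsMulCommutative G)
    (hI : ∀ t : G, orderOf t = 2 → Cfsg.HasNormalPComplement 2 ↥(Subgroup.centralizer ({t} : Set G))) :
    (∃ (F : Type) (_ : Field F) (_ : Fintype F), 3 < Fintype.card F ∧
        Nonempty (G ≃* Matrix.ProjectiveSpecialLinearGroup (Fin 2) F)) ∨
      Cfsg.Lie.IsoSuzuki G ∨ Nonempty (G ≃* ↥(alternatingGroup (Fin 7))) ∨
      (∃ (F : Type) (_ : Field F) (_ : Fintype F), Fintype.card F = 4 ∧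
        Nonempty (G ≃* Matrix.ProjectiveSpecialLinearGroup (Fin 3) F)) := by
  classical
  haveI : Fact (Nat.Prime 2) := ⟨Nat.prime_two⟩
  have hno := CfsgLib.ChzTwoNil.no_index_two hG
  by_cases h2 : Cfsg.PRankLE 2 2 G
  · rcases CfsgLib.ChzTwoNil.rank_two hG hI h2 with h | h
    · exact Or.inl h
    · exact Or.inr (Or.inr (Or.inl h))
  · obtain ⟨S, U, z, hF⟩ := CfsgLib.ChzTwoNil.exists_frame h2
    have hbot := CfsgLib.ChzTwoNil.sig_eq_bot hI hno hF
    have hna : ∃ a b : G, a * b ≠ b * a := by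
      by_contra h
      push Not at h
      exact hG ⟨⟨h⟩⟩
    have hC : CfsgLib.CIT.IsCIT G := by
      intro t ht g
      obtain ⟨k, hk⟩ := CfsgLib.ChzTwoNil.exists_pow_mem_th hI (CfsgLib.ChzTwoNil.isInv_iff.mpr ht)
        (Subgroup.mem_centralizer_singleton_iff.mp g.2)
      rw [CfsgLib.ChzTwoNil.th_bot hI hF hno hbot (CfsgLib.ChzTwoNil.isInv_iff.mpr ht), Subgroup.mem_bot] at hk
      exact ⟨k, Subtype.ext hk⟩
    rcases CfsgLib.CIT.classification hna hC with ⟨hTI, hl | hs⟩ | h | h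
    · obtain ⟨F, iF, iFt, n, hn, hc, he⟩ := hl
      refine Or.inl ⟨F, iF, iFt, ?_, he⟩
      rw [hc]
      exact lt_of_lt_of_le (by norm_num : 3 < 2 ^ 2) (Nat.pow_le_pow_right (by norm_num) hn)
    · obtain ⟨F, iF, iFt, m, hm, hc, -, he⟩ := CfsgLib.SuzukiUnique.exists_equiv_of_suzType hna hC hTI hs
      exact Or.inr (Or.inl ⟨F, iF, iFt, m, hm, hc, he⟩)
    · obtain ⟨F, iF, iFt, hc, he⟩ := h
      refine Or.inl ⟨F, iF, iFt, ?_, he⟩
      rcases hc with hc | ⟨hc, -⟩ <;> omega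
    · exact Or.inr (Or.inr (Or.inr h))

end Cfsg.Agent.S3214
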