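import Cfsg.Statements.S4355
import Cfsg.Agent.Lib.TwoCentral.Main

set_option autoImplicit false
open Cfsg

namespace Cfsg.Agent.S4355

/-- If every element of 2-power order of a finite group has a conjugacy class of odd size, then the Sylow 2-subgroups of the group are abelian. -/
theorem result {G : Type*} [Group G] [Finite G]
    (h : ∀ x : G, (∃ k : ℕ, orderOf x = 2 ^ k) → ¬ 2 ∣ (Subgroup.centralizer ({x} : Set G)).index) (P : Sylow 2 G) :
    IsMulCommutative P := by
  refine CfsgLib.TwoCentral.comm_of_central P fun x hx => ?_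
  obtain ⟨R⟩ : Nonempty (Sylow 2 ↥(Subgroup.centralizer ({x} : Set G))) := inferInstance
  haveI : Fact (Nat.Prime 2) := ⟨Nat.prime_two⟩
  obtain ⟨Q, hQ⟩ := (R.2.map (Subgroup.centralizer ({x} : Set G)).subtype).exists_le_sylow
  refine ⟨Q, ?_⟩
  have e : (R : Subgroup _).map (Subgroup.centralizer ({x} : Set G)).subtype = (Q : Subgroup G) := by
    refine Subgroup.eq_of_le_of_card_ge hQ ?_
    rw [Subgroup.card_map_of_injective (Subgroup.subtype_injective _), Sylow.card_eq_multiplicity,
      Sylow.card_eq_multiplicity]
    have hm := Subgroup.card_mul_index (Subgroup.centralizer ({x} : Set G))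
    rw [← hm, Nat.factorization_mul Nat.card_pos.ne' Subgroup.index_ne_zero_of_finite]
    simp [Nat.factorization_eq_zero_of_not_dvd (h x hx)]
  rw [← e]
  exact Subgroup.map_subtype_le _

end Cfsg.Agent.S4355
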