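import Cfsg.Statements.S0581
import Mathlib
import Cfsg.Agent.Lib.Solvable.Schmidt
-- import your own Cfsg.Agent.* helpers here

set_option autoImplicit false
open Pointwise
open Cfsg

namespace Cfsg.Agent.S0581

universe u

private theorem split_off {K : Type*} [Group K] [Finite K] [Nontrivial K]
    (h : ∀ H : Subgroup K, H ≠ ⊤ → Group.IsNilpotent H) :
    ∃ (p : ℕ) (_ : p.Prime) (Q : Sylow p K) (L : Subgroup K), (Q : Subgroup K).Normal ∧ p ∣ Nat.card K ∧
      (Q : Subgroup K) ⊔ L = ⊤ ∧ L ≠ ⊤ ∧ ¬ p ∣ Nat.card L := by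
  classical
  by_cases hn : Group.IsNilpotent K
  · obtain ⟨p, hp, hpd⟩ := Nat.exists_prime_and_dvd (n := Nat.card K) (Finite.one_lt_card).ne'
    have := Fact.mk hp
    obtain ⟨P, L, hLn, hc⟩ := CfsgLib.Frob.hasNormalPComplement_of_nilpotent (p := p) hn
    have hL : ¬ p ∣ Nat.card L := by rw [← hc.index_eq_card]; exact P.not_dvd_index
    have hs := ((Group.isNilpotent_of_finite_tfae (G := K)).out 0 3 rfl rfl).mp hn
    refine ⟨p, hp, P, L, hs p ⟨hp⟩ P, hpd, ?_, fun e => hL ?_, hL⟩
    · rw [eq_top_iff]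
      intro x _
      obtain ⟨⟨l, q⟩, rfl⟩ := hc.2 x
      exact mul_mem (Subgroup.mem_sup_right l.2) (Subgroup.mem_sup_left q.2)
    · rw [e, Subgroup.card_top]; exact hpd
  · obtain ⟨p, q, hp, hq, hpq, P, Q, g, hP, hQn, htop, x, hx, hxg⟩ := CfsgLib.Schmidt.schmidt_sylows ⟨hn, h⟩
    have := Fact.mk hp
    have := Fact.mk hq
    obtain ⟨a, ha⟩ := IsPGroup.iff_card.mp P.isPGroup'
    have hqP : ¬ q ∣ Nat.card (P : Subgroup K) := fun h' => hpq
      ((Nat.prime_dvd_prime_iff_eq hq hp).mp (hq.dvd_of_dvd_pow (ha ▸ h'))).symm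
    have hqK : q ∣ Nat.card K := by
      obtain ⟨b, hb⟩ := IsPGroup.iff_card.mp Q.isPGroup'
      refine (hb ▸ dvd_pow_self q fun h0 => hxg ?_).trans (Q : Subgroup K).card_subgroup_dvd_card
      rw [Subgroup.card_eq_one.mp (by rw [hb, h0, pow_zero] : Nat.card (Q : Subgroup K) = 1), Subgroup.mem_bot] at hx
      rw [hx, one_mul, mul_one]
    exact ⟨q, hq, Q, P, hQn, hqK, by rw [sup_comm]; exact htop,
      fun e => hqP (by rw [e, Subgroup.card_top]; exact hqK), hqP⟩

private theorem main : ∀ n : ℕ, ∀ (G : Type u) [Group G] [Finite G] (H K : Subgroup G), Nat.card K = n →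
    Group.IsNilpotent H → (Nat.card H).Coprime H.index → (∀ p : ℕ, p.Prime → p ∣ Nat.card K → p ∣ Nat.card H) →
    ∃ x : G, K ≤ MulAut.conj x • H := by
  intro n
  induction n using Nat.strong_induction_on with
  | _ n ih =>
  intro G _ _ H K hn hH hHall hK
  classical
  by_cases hK1 : K = ⊥
  · exact ⟨1, hK1 ▸ bot_le⟩
  have : Nontrivial K := (Subgroup.nontrivial_iff_ne_bot K).mpr hK1
  have hprop : ∀ S : Subgroup K, S ≠ ⊤ → Group.IsNilpotent S := by
    intro S hS
    have hlt : Nat.card (S.map K.subtype) < n := by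
      rw [← hn, Subgroup.card_map_of_injective K.subtype_injective]
      exact lt_of_le_of_ne (Subgroup.card_le_card_group S) fun e => hS (Subgroup.card_eq_iff_eq_top S |>.mp e)
    obtain ⟨x, hx⟩ := ih _ hlt G H (S.map K.subtype) rfl hH hHall fun p hp hpd =>
      hK p hp (hpd.trans (Subgroup.card_dvd_of_le (Subgroup.map_subtype_le S)))
    have hHx : Group.IsNilpotent (MulAut.conj x • H : Subgroup G) := Group.nilpotent_of_mulEquiv (Subgroup.equivSMul (MulAut.conj x) H)
    have h1 : Group.IsNilpotent (S.map K.subtype : Subgroup G) :=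
      Group.nilpotent_of_mulEquiv (Subgroup.subgroupOfEquivOfLe hx)
    exact Group.nilpotent_of_mulEquiv (S.equivMapOfInjective _ K.subtype_injective).symm
  obtain ⟨p, hp, Q, L, hQn, hpK, htop, hLtop, hpL⟩ := split_off hprop
  have := Fact.mk hp
  obtain ⟨P, M, hMn, hc⟩ := CfsgLib.Frob.hasNormalPComplement_of_nilpotent (p := p) hH
  obtain ⟨a, ha⟩ := IsPGroup.iff_card.mp P.isPGroup'
  -- the Sylow subgroup of `H` is Sylow in `G`
  set P0 := (P : Subgroup H).map H.subtype with hP0
  have hidx : ¬ p ∣ P0.index := by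
    rw [hP0, Subgroup.index_map_subtype]
    refine hp.not_dvd_mul P.not_dvd_index fun h => hp.ne_one ?_
    exact Nat.eq_one_of_dvd_coprimes hHall (hK p hp hpK) h
  obtain ⟨S, hS⟩ := (Q.isPGroup'.map K.subtype).exists_le_sylow
  obtain ⟨g, hg⟩ := MulAction.exists_smul_eq G ((P.isPGroup'.map H.subtype).toSylow hidx) S
  set H' : Subgroup G := MulAut.conj g • H with hH'
  have hSH : (S : Subgroup G) ≤ H' := by
    rw [← hg]
    exact Subgroup.pointwise_smul_le_pointwise_smul_iff.mpr (Subgroup.map_subtype_le _)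
  set Q0 := (Q : Subgroup K).map K.subtype with hQ0
  set M0 : Subgroup G := MulAut.conj g • (M.map H.subtype) with hM0
  have hMH : M0 ≤ H' := Subgroup.pointwise_smul_le_pointwise_smul_iff.mpr (Subgroup.map_subtype_le _)
  have hMcard : Nat.card M0 = Nat.card M := by
    rw [hM0, Nat.card_congr (Subgroup.equivSMul (MulAut.conj g) _).toEquiv.symm, Subgroup.card_map_of_injective H.subtype_injective]
  have hMnil : Group.IsNilpotent M0 :=
    Group.nilpotent_of_mulEquiv ((M.equivMapOfInjective _ H.subtype_injective).trans (Subgroup.equivSMul (MulAut.conj g) _))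
  have hMp : ¬ p ∣ Nat.card M := by rw [← hc.index_eq_card]; exact P.not_dvd_index
  have hH'nil : Group.IsNilpotent H' := Group.nilpotent_of_mulEquiv (Subgroup.equivSMul (MulAut.conj g) H)
  set N := Subgroup.normalizer (Q0 : Set G) with hN
  have hMN : M0 ≤ N := fun m hm => Subgroup.centralizer_le_normalizer _ (Subgroup.mem_centralizer_iff.mpr fun q hq => by
    obtain ⟨i, hi⟩ := IsPGroup.iff_orderOf.mp S.isPGroup' ⟨q, hS hq⟩
    rw [Subgroup.orderOf_mk] at hi
    exact CfsgLib.Schmidt.nilpotent_commute hH'nil (hSH (hS hq)) (hMH hm) (by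
      rw [hi]
      exact (hp.coprime_iff_not_dvd.mpr fun h => hMp (hMcard ▸ h.trans (M0.orderOf_dvd_natCard hm))).pow_left i))
  set L0 := L.map K.subtype with hL0
  have hKN : K ≤ N := by
    intro k hk
    rw [hN, Subgroup.mem_normalizer_iff]
    intro y
    constructor
    · rintro ⟨w, hw, rfl⟩
      exact ⟨⟨k, hk⟩ * w * ⟨k, hk⟩⁻¹, hQn.conj_mem w hw ⟨k, hk⟩, rfl⟩
    · rintro ⟨w, hw, e⟩
      have h1 := hQn.conj_mem w hw (⟨k, hk⟩ : K)⁻¹
      rw [inv_inv] at h1
      refine ⟨(⟨k, hk⟩ : K)⁻¹ * w * ⟨k, hk⟩, h1, ?_⟩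
      simp only [Subgroup.coe_subtype] at e
      simp [e, mul_assoc]
  have hLN : L0 ≤ N := (Subgroup.map_subtype_le L).trans hKN
  have hlt : Nat.card (L0.subgroupOf N) < n := by
    rw [Nat.card_congr (Subgroup.subgroupOfEquivOfLe hLN).toEquiv, hL0, Subgroup.card_map_of_injective K.subtype_injective, ← hn]
    exact lt_of_le_of_ne (Subgroup.card_le_card_group L) fun e => hLtop (Subgroup.card_eq_iff_eq_top L |>.mp e)
  have hHcard : Nat.card H = Nat.card M * p ^ a := by rw [← ha, hc.card_mul]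
  obtain ⟨⟨x, hxN⟩, hx⟩ := ih _ hlt N (M0.subgroupOf N) (L0.subgroupOf N) rfl
    (Group.nilpotent_of_mulEquiv (Subgroup.subgroupOfEquivOfLe hMN).symm) (by
      rw [Nat.card_congr (Subgroup.subgroupOfEquivOfLe hMN).toEquiv, hMcard]
      refine Nat.Coprime.coprime_dvd_right (show (M0.subgroupOf N).index ∣ p ^ a * H.index from ?_) ?_
      · have h1 : M0.index = p ^ a * H.index := by
          refine Nat.eq_of_mul_eq_mul_left (Nat.card_pos (α := M0)) ?_
          rw [M0.card_mul_index, ← mul_assoc, hMcard, ← hHcard, H.card_mul_index]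
        rw [← h1]; exact Subgroup.relIndex_dvd_index_of_le hMN
      · exact Nat.Coprime.mul_right ((hp.coprime_iff_not_dvd.mpr hMp).symm.pow_right a)
          (hHall.coprime_dvd_left (hHcard ▸ dvd_mul_right _ _)))
    (fun q hq hqd => by
      rw [Nat.card_congr (Subgroup.subgroupOfEquivOfLe hLN).toEquiv, hL0, Subgroup.card_map_of_injective K.subtype_injective] at hqd
      rw [Nat.card_congr (Subgroup.subgroupOfEquivOfLe hMN).toEquiv, hMcard]
      have h1 := hK q hq (hqd.trans L.card_subgroup_dvd_card)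
      rw [hHcard] at h1
      rcases hq.dvd_mul.mp h1 with h2 | h2
      · exact h2
      · exact absurd ((Nat.prime_dvd_prime_iff_eq hq hp).mp (hq.dvd_of_dvd_pow h2) ▸ hqd) hpL)
  refine ⟨x * g, ?_⟩
  have hxH : MulAut.conj (x * g) • H = MulAut.conj x • H' := by rw [hH', map_mul, mul_smul]
  have hKeq : K = Q0 ⊔ L0 := by
    rw [hQ0, hL0, ← Subgroup.map_sup, htop, ← MonoidHom.range_eq_map, Subgroup.range_subtype]
  rw [hxH, hKeq]
  refine sup_le (fun q hq => ?_) (fun l hl => ?_)
  · rw [Subgroup.mem_smul_pointwise_iff_exists]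
    refine ⟨x⁻¹ * q * x, hSH (hS ((Subgroup.mem_normalizer_iff.mp hxN _).mpr ?_)), by simp [MulAut.smul_def]; group⟩
    rwa [show x * (x⁻¹ * q * x) * x⁻¹ = q by group]
  · have h1 := hx (show (⟨l, hLN hl⟩ : N) ∈ L0.subgroupOf N from hl)
    rw [Subgroup.mem_smul_pointwise_iff_exists] at h1 ⊢
    obtain ⟨m, hm, e⟩ := h1
    exact ⟨(m : G), hMH hm, congrArg Subtype.val e⟩

/-- Let H be a nilpotent subgroup of a finite group G whose order is coprime to its index, and K a subgroup every prime divisor of whose order divides the order of H. Then K lies in some conjugate of H. -/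
theorem result {G : Type*} [Group G] [Finite G] (H K : Subgroup G) (hH : Group.IsNilpotent H) (hHall : (Nat.card H).Coprime H.index) (hK : ∀ p : ℕ, p.Prime → p ∣ Nat.card K → p ∣ Nat.card H) : ∃ x : G, K ≤ MulAut.conj x • H := by
    exact main _ G H K rfl hH hHall hK

end Cfsg.Agent.S0581
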