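import Cfsg.Statements.S4127
import Mathlib
import Cfsg.Agent.Lib.SylowExtra
import Cfsg.Agent.Lib.Coprime
import Cfsg.Agent.Lib.JordanCover
import Cfsg.Agent.Lib.PComplement
import Cfsg.Agent.Lib.Fusion.Hyperfocal
-- import your own Cfsg.Agent.* helpers here

set_option autoImplicit false
open Cfsg

namespace Cfsg.Agent.S4127

/-- Let G be a finite group, p a prime and p^a the largest power of p dividing the size of any conjugacy class of G. If some element of p-power order has a conjugacy class of size exactly p^a, then G has a normal p-complement. -/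
theorem result {G : Type*} [Group G] [Finite G] (p : ℕ) [Fact p.Prime]
    (a : ℕ) (hmax : ∀ y : G, ¬ p ^ (a + 1) ∣ (Subgroup.centralizer ({y} : Set G)).index)
    (hx : ∃ x : G, (∃ k : ℕ, orderOf x = p ^ k) ∧ (Subgroup.centralizer ({x} : Set G)).index = p ^ a) :
    Cfsg.HasNormalPComplement p G := by
  classical
  have hp : p.Prime := Fact.out
  obtain ⟨x, ⟨k, hxo⟩, hxi⟩ := hx
  set M := Subgroup.centralizer ({x} : Set G) with hM
  have hxM : x ∈ M := Subgroup.mem_centralizer_singleton_iff.mpr rfl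
  obtain ⟨P0⟩ : Nonempty (Sylow p M) := inferInstance
  set P0' := (P0 : Subgroup M).map M.subtype with hP0'
  have hxP0 : x ∈ P0' := by
    refine ⟨⟨x, hxM⟩, CfsgLib.mem_sylow_of_mem_centralizer P0 ⟨k, ?_⟩ (fun y _ => ?_), rfl⟩
    · exact Subtype.ext (by rw [SubgroupClass.coe_pow, ← hxo, pow_orderOf_eq_one]; rfl)
    · exact Subtype.ext (Subgroup.mem_centralizer_singleton_iff.mp y.2).symm
  obtain ⟨P, hP⟩ := (P0.isPGroup'.map M.subtype).exists_le_sylow
  -- `G = P M`
  have hPM : (P : Subgroup G) ⊓ M = P0' := by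
    refine le_antisymm ?_ (le_inf hP (Subgroup.map_subtype_le _))
    have h1 : ((P : Subgroup G) ⊓ M).subgroupOf M = (P0 : Subgroup M) :=
      P0.is_maximal' ((P.isPGroup'.to_le inf_le_left).comap_subtype) fun y hy => ⟨hP ⟨y, hy, rfl⟩, y.2⟩
    rw [hP0', ← h1, Subgroup.map_subgroupOf_eq_of_le inf_le_right]
  have hcov : ∀ g : G, ∃ u ∈ (P : Subgroup G), u⁻¹ * g ∈ M := by
    let f : (P : Subgroup G) ⧸ M.subgroupOf (P : Subgroup G) → G ⧸ M := Quotient.map' (fun u => (u : G)) fun u v huv => by
      rw [QuotientGroup.leftRel_apply] at huv ⊢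
      exact huv
    have hinj : Function.Injective f := by
      intro a b
      induction a using Quotient.inductionOn' with
      | h a =>
        induction b using Quotient.inductionOn' with
        | h b =>
          intro hab
          refine Quotient.sound' ?_
          have := Quotient.exact' hab
          rw [QuotientGroup.leftRel_apply] at this ⊢
          exact this
    have hcard : Nat.card ((P : Subgroup G) ⧸ M.subgroupOf (P : Subgroup G)) = Nat.card (G ⧸ M) := by
      rw [← Subgroup.index_eq_card, ← Subgroup.index_eq_card]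
      show M.relIndex (P : Subgroup G) = M.index
      rw [hxi, ← Subgroup.inf_relIndex_left, hPM]
      have h1 := Subgroup.relIndex_mul_relIndex ⊥ P0' (P : Subgroup G) bot_le hP
      rw [Subgroup.relIndex_bot_left, Subgroup.relIndex_bot_left, Subgroup.card_map_of_injective M.subtype_injective,
        P0.card_eq_multiplicity, P.card_eq_multiplicity] at h1
      have h2 : (Nat.card G).factorization p = (Nat.card M).factorization p + a := by
        rw [← M.card_mul_index, hxi, Nat.factorization_mul Nat.card_pos.ne' (pow_pos hp.pos a).ne', Finsupp.add_apply,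
          hp.factorization_pow, Finsupp.single_eq_same]
      rw [h2, pow_add] at h1
      exact Nat.eq_of_mul_eq_mul_left (pow_pos hp.pos _) h1
    intro g
    obtain ⟨q, hq⟩ := ((Nat.bijective_iff_injective_and_card f).mpr ⟨hinj, hcard⟩).2 (g : G ⧸ M)
    induction q using Quotient.inductionOn' with
    | h u =>
      refine ⟨u, u.2, ?_⟩
      exact QuotientGroup.eq.mp hq
  set R := Subgroup.normalClosure ({x} : Set G) with hR
  have hRP : R ≤ (P : Subgroup G) := by
    rw [hR, Subgroup.normalClosure, Subgroup.closure_le]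
    intro z hz
    obtain ⟨w, hw, hwz⟩ := Group.mem_conjugatesOfSet_iff.mp hz
    obtain ⟨g, rfl⟩ := isConj_iff.mp hwz
    obtain rfl : w = x := hw
    obtain ⟨u, hu, hum⟩ := hcov g
    have e : g * w * g⁻¹ = u * w * u⁻¹ := by
      calc g * w * g⁻¹ = u * ((u⁻¹ * g) * w * (u⁻¹ * g)⁻¹) * u⁻¹ := by group
        _ = u * w * u⁻¹ := by rw [Subgroup.mem_centralizer_singleton_iff.mp hum, mul_inv_cancel_right]
    show g * w * g⁻¹ ∈ (P : Subgroup G)
    rw [e]
    exact (P : Subgroup G).mul_mem ((P : Subgroup G).mul_mem hu (hP hxP0)) ((P : Subgroup G).inv_mem hu)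
  -- centralizers of `p'`-elements of `M`
  have hxp : ∀ {u : M}, (orderOf u).Coprime p → ∃ S : Sylow p M, ∀ z ∈ (S : Subgroup M), Commute z u := by
    intro u hu
    have hcxu : Commute x (u : G) := (Subgroup.mem_centralizer_singleton_iff.mp u.2).symm
    set L := Subgroup.centralizer ({x * (u : G)} : Set G) with hL
    have hpk : Nat.Coprime (p ^ k) (orderOf (u : G)) := by
      rw [Subgroup.orderOf_coe]; exact (hu.symm).pow_left k
    have hLM : ∀ z ∈ L, Commute z x ∧ Commute z (u : G) := by
      intro z hz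
      have hzc : Commute z (x * (u : G)) := Subgroup.mem_centralizer_singleton_iff.mp hz
      have h1 : Commute z ((u : G) ^ p ^ k) := by
        have := hzc.pow_right (p ^ k)
        rwa [hcxu.mul_pow, ← hxo, pow_orderOf_eq_one, one_mul, hxo] at this
      have h2 : Commute z (u : G) := by
        obtain ⟨i, hi⟩ := exists_pow_eq_self_of_coprime hpk
        rw [← hi]
        exact h1.pow_right i
      refine ⟨?_, h2⟩
      have h3 := hzc.mul_right h2.inv_right
      rwa [mul_inv_cancel_right] at h3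
    have hle : L ≤ M := fun z hz => Subgroup.mem_centralizer_singleton_iff.mpr (hLM z hz).1.eq
    have hnd : ¬ p ∣ (L.subgroupOf M).index := fun hd => by
      refine hmax (x * (u : G)) ?_
      rw [← hL, ← Subgroup.relIndex_mul_index hle, hxi, pow_succ', show L.relIndex M = (L.subgroupOf M).index from rfl]
      exact mul_dvd_mul_right hd _
    obtain ⟨S, hS⟩ := CfsgLib.exists_sylow_le_of_not_dvd_index _ hnd
    exact ⟨S, fun z hz => Subtype.ext (hLM _ (hS hz)).2.eq⟩
  -- every element of `M` is conjugate into `P0 ⊔ C(P0)`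
  have htop : (P0 : Subgroup M) ⊔ Subgroup.centralizer ((P0 : Subgroup M) : Set M) = ⊤ := by
    refine CfsgLib.eq_top_of_conj_cover _ fun g => ?_
    obtain ⟨i, m, hm, hgo⟩ := Nat.exists_eq_pow_mul_and_not_dvd (orderOf_pos g).ne' p hp.ne_one
    have hm' : m.Coprime p := ((Nat.Prime.coprime_iff_not_dvd hp).mpr hm).symm
    have hy : (orderOf (g ^ p ^ i)).Coprime p := by
      rw [orderOf_pow' g (pow_pos hp.pos i).ne', hgo, Nat.gcd_eq_right (Dvd.intro m rfl),
        Nat.mul_div_cancel_left _ (pow_pos hp.pos i)]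
      exact hm'
    obtain ⟨S, hS⟩ := hxp hy
    set L := Subgroup.centralizer ({g ^ p ^ i} : Set M)
    have hSL : (S : Subgroup M) ≤ L := fun z hz => Subgroup.mem_centralizer_singleton_iff.mpr (hS z hz).eq
    -- the `p`-part lies in a Sylow subgroup of `L`
    have hu : IsPGroup p ((Subgroup.zpowers (g ^ m)).subgroupOf L) := by
      refine IsPGroup.comap_subtype (H := Subgroup.zpowers (g ^ m)) (IsPGroup.of_card (n := i) ?_)
      have hm0 : m ≠ 0 := fun e => hm (e ▸ dvd_zero p)
      rw [Nat.card_zpowers, orderOf_pow' g hm0, hgo, Nat.gcd_eq_right (Dvd.intro_left _ rfl),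
        Nat.mul_div_cancel _ (Nat.pos_of_ne_zero hm0)]
    have huL : g ^ m ∈ L := Subgroup.mem_centralizer_singleton_iff.mpr ((Commute.refl g).pow_pow m (p ^ i)).eq
    obtain ⟨T, hT⟩ := hu.exists_le_sylow
    obtain ⟨l, hl⟩ := MulAction.exists_smul_eq L T (S.subtype hSL)
    obtain ⟨w, hw⟩ := MulAction.exists_smul_eq M S P0
    have hconj : ∀ z : L, z ∈ (T : Subgroup L) → (l : M) * z * (l : M)⁻¹ ∈ (S : Subgroup M) := fun z hz => by
      have : MulAut.conj l z ∈ ((l • T : Sylow p L) : Subgroup L) := ⟨z, hz, rfl⟩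
      rw [hl] at this
      exact this
    have hconj' : ∀ z : M, z ∈ (S : Subgroup M) → w * z * w⁻¹ ∈ (P0 : Subgroup M) := fun z hz => by
      have : MulAut.conj w z ∈ ((w • S : Sylow p M) : Subgroup M) := ⟨z, hz, rfl⟩
      rw [hw] at this
      exact this
    refine ⟨w * (l : M), ?_⟩
    have e1 : g = (g ^ p ^ i) ^ Nat.gcdA (p ^ i) m * (g ^ m) ^ Nat.gcdB (p ^ i) m := by
      have h := Nat.gcd_eq_gcd_ab (p ^ i) m
      rw [(hm'.symm.pow_left i).gcd_eq_one] at h
      rw [← zpow_natCast g (p ^ i), ← zpow_natCast g m, ← zpow_mul, ← zpow_mul, ← zpow_add, ← h, Nat.cast_one, zpow_one]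
    rw [e1, ← MulAut.conj_apply, map_mul, map_zpow, map_zpow]
    refine Subgroup.mul_mem _ (Subgroup.zpow_mem _ (Subgroup.mem_sup_right ?_) _) (Subgroup.zpow_mem _ (Subgroup.mem_sup_left ?_) _)
    · rw [Subgroup.mem_centralizer_iff]
      intro z hz
      have hzS : w⁻¹ * z * w ∈ (S : Subgroup M) := by
        have hmem : z ∈ ((w • S : Sylow p M) : Subgroup M) := by rw [hw]; exact hz
        obtain ⟨s, hs, hsz⟩ := hmem
        rw [← hsz]
        show w⁻¹ * (w * s * w⁻¹) * w ∈ _
        rw [show w⁻¹ * (w * s * w⁻¹) * w = s by group]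
        exact hs
      have h1 : Commute (w⁻¹ * z * w) (g ^ p ^ i) := hS _ hzS
      have h3 := h1.map (MulAut.conj w).toMonoidHom
      have h4 : MulAut.conj (w * (l : M)) (g ^ p ^ i) = MulAut.conj w (g ^ p ^ i) := by
        rw [map_mul, MulAut.mul_apply, MulAut.conj_apply (l : M), Subgroup.mem_centralizer_singleton_iff.mp l.2, mul_inv_cancel_right]
      rw [h4]
      simp only [MulEquiv.coe_toMonoidHom, MulAut.conj_apply] at h3 ⊢
      rw [show w * (w⁻¹ * z * w) * w⁻¹ = z by group] at h3
      exact h3.eq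
    · rw [map_mul, MulAut.mul_apply, MulAut.conj_apply (l : M), MulAut.conj_apply]
      exact hconj' _ (hconj ⟨g ^ m, huL⟩ (hT (Subgroup.mem_zpowers (g ^ m))))
  have hP0n : (P0 : Subgroup M).Normal := by
    rw [← Subgroup.normalizer_eq_top_iff, eq_top_iff, ← htop]
    exact sup_le Subgroup.le_normalizer (Subgroup.centralizer_le_normalizer _)
  have := Sylow.unique_of_normal P0 hP0n
  have hyP0 : ∀ {u : M}, (orderOf u).Coprime p → ∀ z ∈ (P0 : Subgroup M), Commute z u := fun {u} hu => by
    obtain ⟨S, hS⟩ := hxp hu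
    rwa [Subsingleton.elim P0 S]
  have hMnc : HasNormalPComplement p M := Cfsg.FusionSystem.hasNormalPComplement_of_centralizes P0
    fun Q hQ g _ hg => Subgroup.mem_centralizer_iff.mpr fun z hz => (hyP0 hg z (hQ hz)).eq
  -- `p'`-elements of `M` centralize `R`
  have hyR : ∀ {u : M}, (orderOf u).Coprime p → (u : G) ∈ Subgroup.centralizer (R : Set G) := by
    intro u hu
    refine CfsgLib.thompson_PxQ (P := P0') (Q := Subgroup.zpowers (u : G)) (P0.isPGroup'.map _)
      (by rw [Nat.card_zpowers, Subgroup.orderOf_coe]; exact hu) ?_ R (P.isPGroup'.to_le hRP)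
      (le_top.trans (Subgroup.normalizer_eq_top_iff.mpr Subgroup.normalClosure_normal).ge)
      (le_top.trans (Subgroup.normalizer_eq_top_iff.mpr Subgroup.normalClosure_normal).ge) ?_ (Subgroup.mem_zpowers _)
    · rintro _ ⟨z, hz, rfl⟩
      rw [Subgroup.mem_centralizer_iff]
      intro t ht
      obtain ⟨j, rfl⟩ := Subgroup.mem_zpowers_iff.mp ht
      exact (((hyP0 hu z hz).map M.subtype).symm.zpow_left j).eq
    · intro r hr
      have hrM : r ∈ M := Subgroup.mem_centralizer_singleton_iff.mpr (Subgroup.mem_centralizer_iff.mp hr.2 x hxP0).symm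
      have hrP0 : r ∈ P0' := hPM ▸ ⟨hRP hr.1, hrM⟩
      obtain ⟨z, hz, rfl⟩ := hrP0
      rw [Subgroup.mem_centralizer_iff]
      intro t ht
      obtain ⟨j, rfl⟩ := Subgroup.mem_zpowers_iff.mp ht
      exact (((hyP0 hu z hz).map M.subtype).symm.zpow_left j).eq
  set K := Subgroup.centralizer (R : Set G) with hK
  have hKn : K.Normal := by
    have : R.Normal := Subgroup.normalClosure_normal
    infer_instance
  have hKM : K ≤ M := fun z hz => Subgroup.mem_centralizer_singleton_iff.mpr
    (Subgroup.mem_centralizer_iff.mp hz x (Subgroup.subset_normalClosure rfl)).symm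
  -- the quotient by `K` is a `p`-group
  have hquot : IsPGroup p (G ⧸ K) := by
    refine IsPGroup.of_card (n := (Nat.card (G ⧸ K)).primeFactorsList.length)
      (Nat.eq_prime_pow_of_unique_prime_dvd Nat.card_pos.ne' fun {d} hd hdd => ?_)
    by_contra hne
    have := Fact.mk hd
    obtain ⟨S⟩ : Nonempty (Sylow d M) := inferInstance
    have hSK : (S : Subgroup M).map M.subtype ≤ K := by
      rintro _ ⟨s, hs, rfl⟩
      refine hyR ?_
      obtain ⟨j, hj⟩ := IsPGroup.iff_orderOf.mp S.isPGroup' ⟨s, hs⟩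
      rw [Subgroup.orderOf_mk] at hj
      rw [hj]
      exact Nat.Coprime.pow_left j ((Nat.coprime_primes hd hp).mpr hne)
    have h1 := Subgroup.index_dvd_of_le hSK
    rw [← Subgroup.index_eq_card] at hdd
    have h2 : d ∣ ((S : Subgroup M).map M.subtype).index := hdd.trans h1
    rw [Subgroup.index_map_subtype, hxi] at h2
    rcases hd.dvd_mul.mp h2 with h | h
    · exact S.not_dvd_index h
    · exact hne ((Nat.prime_dvd_prime_iff_eq hd hp).mp (hd.dvd_of_dvd_pow h))
  obtain ⟨Q, N, hN, hc⟩ := hMnc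
  have hNp : (Nat.card N).Coprime p := by
    rw [← hc.index_eq_card]
    exact ((Nat.Prime.coprime_iff_not_dvd hp).mpr Q.not_dvd_index).symm
  rw [CfsgLib.hasNormalPComplement_iff_pResidual]
  refine Nat.Coprime.coprime_dvd_left ?_ hNp
  rw [← Subgroup.card_map_of_injective M.subtype_injective]
  refine Subgroup.card_dvd_of_le ((Subgroup.closure_le _).mpr fun g (hg : (orderOf g).Coprime p) => ?_)
  have hgK : g ∈ K := by
    rw [← QuotientGroup.eq_one_iff (N := K)]
    obtain ⟨j, hj⟩ := IsPGroup.iff_orderOf.mp hquot (g : G ⧸ K)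
    have hd : orderOf (g : G ⧸ K) ∣ orderOf g := orderOf_map_dvd (QuotientGroup.mk' K) g
    rw [hj] at hd
    have h1 : (p ^ j).Coprime p := hg.coprime_dvd_left hd
    rcases Nat.eq_zero_or_pos j with rfl | hj0
    · exact orderOf_eq_one_iff.mp (hj.trans (pow_zero p))
    · exact absurd ((Nat.coprime_pow_left_iff hj0 p p).mp h1) (by simp [hp.ne_one])
  refine ⟨⟨g, hKM hgK⟩, ?_, rfl⟩
  rw [SetLike.mem_coe, ← QuotientGroup.eq_one_iff (N := N)]
  have hdvd : orderOf ((⟨g, hKM hgK⟩ : M) : M ⧸ N) ∣ Nat.gcd (orderOf g) (Nat.card (Q : Subgroup M)) := by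
    refine Nat.dvd_gcd ?_ ?_
    · rw [← Subgroup.orderOf_mk g (hKM hgK)]
      exact orderOf_map_dvd (QuotientGroup.mk' N) _
    · rw [← hc.symm.index_eq_card, Subgroup.index_eq_card]
      exact orderOf_dvd_natCard _
  rw [Q.card_eq_multiplicity, (hg.pow_right _).gcd_eq_one, Nat.dvd_one, orderOf_eq_one_iff] at hdvd
  exact hdvd

end Cfsg.Agent.S4127
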