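import Cfsg.Statements.S4365
import Mathlib
-- import your own Cfsg.Agent.* helpers here

set_option autoImplicit false
open Cfsg

namespace Cfsg.Agent.S4365

open scoped commutatorElement IsMulCommutative

/-- Orbit sums of a two-generated elementary action force exponent `p`. -/
private theorem pow_eq_one_of_norms {V : Type*} [CommGroup V] {p : ℕ} (σ τ : MulAut V) (hc : Commute σ τ)
    (h1 : ∀ k : ℕ, k < p → ∀ v : V, ∏ i ∈ Finset.range p, ((σ * τ ^ k) ^ i) v = 1)
    (h2 : ∀ i : ℕ, 0 < i → i < p → ∀ v : V, ∏ k ∈ Finset.range p, ((τ ^ i) ^ k) v = 1) (v : V) :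
    v ^ p = 1 := by
  have h : ∏ k ∈ Finset.range p, ∏ i ∈ Finset.range p, ((σ * τ ^ k) ^ i) v = 1 :=
    Finset.prod_eq_one fun k hk => h1 k (Finset.mem_range.mp hk) v
  rw [Finset.prod_comm] at h
  rcases Nat.eq_zero_or_pos p with rfl | hp
  · simp
  rw [Finset.prod_eq_single 0 (fun i hi hi0 => ?_) (fun h0 => absurd (Finset.mem_range.mpr hp) h0)] at h
  · simpa using h
  · rw [Finset.prod_congr rfl (fun k _ => show ((σ * τ ^ k) ^ i) v = (σ ^ i) (((τ ^ i) ^ k) v) by
      rw [(hc.pow_right k).mul_pow, MulAut.mul_apply, ← pow_mul, ← pow_mul, mul_comm k]), ← map_prod,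
      h2 i (Nat.pos_of_ne_zero hi0) (Finset.mem_range.mp hi), map_one]

/-- Let P be a finite p-group whose conjugacy class sizes are exactly 1 and pᵃ for some a ≥ 1. Then every element of P has its p-th power in the center of P (P/Z(P) has exponent p). -/
theorem result {P : Type*} [Group P] [Finite P] (p : ℕ) [Fact p.Prime]
    (hP : IsPGroup p P) (a : ℕ) (ha : 1 ≤ a)
    (hcs : {k : ℕ | ∃ x : P, (Subgroup.centralizer ({x} : Set P)).index = k} = {1, p ^ a}) (x : P) :
    x ^ p ∈ Subgroup.center P := by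
  classical
  have hp : p.Prime := Fact.out
  by_contra hx
  set Z := Subgroup.center P with hZ
  let C : P → Subgroup P := fun u => Subgroup.centralizer ({u} : Set P)
  have hmem : ∀ {u w : P}, w ∈ C u ↔ Commute w u := fun {u w} => Subgroup.mem_centralizer_singleton_iff
  have hidx : ∀ u, u ∉ Z → (C u).index = p ^ a := by
    intro u hu
    have h1 : (C u).index ∈ ({1, p ^ a} : Set ℕ) := hcs ▸ ⟨u, rfl⟩
    refine h1.resolve_left fun h1 => hu (Subgroup.mem_center_iff.mpr fun w => ?_)
    rw [Subgroup.index_eq_one] at h1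
    exact hmem.mp (h1 ▸ Subgroup.mem_top w)
  have heq : ∀ {u w : P}, u ∉ Z → w ∉ Z → C u ≤ C w → C u = C w := by
    intro u w hu hw hle
    refine Subgroup.eq_of_le_of_card_ge hle (le_of_eq ?_)
    have h1 := (C u).card_mul_index
    rw [hidx u hu, ← (C w).card_mul_index, hidx w hw] at h1
    exact (Nat.eq_of_mul_eq_mul_right (pow_pos hp.pos a) h1).symm
  have hpw : ∀ {u : P}, u ^ p ∉ Z → C u = C (u ^ p) := fun {u} hu =>
    heq (fun h => hu (Z.pow_mem h p)) hu fun w hw => hmem.mpr ((hmem.mp hw).pow_right p)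
  -- a second-centre element
  obtain ⟨y, hyZ, hyp, hy2⟩ : ∃ y : P, y ∉ Z ∧ y ^ p ∈ Z ∧ ∀ g : P, ⁅g, y⁆ ∈ Z := by
    have hnt : Nontrivial (P ⧸ Z) := by
      rw [QuotientGroup.nontrivial_iff]
      exact fun e => hx (e ▸ Subgroup.mem_top _)
    have := (hP.to_quotient Z).center_nontrivial
    obtain ⟨j, hj⟩ := ((hP.to_quotient Z).to_subgroup (Subgroup.center (P ⧸ Z))).exists_card_eq
    have hd : p ∣ Nat.card (Subgroup.center (P ⧸ Z)) := by
      rw [hj]
      refine dvd_pow_self p fun h0 => ?_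
      rw [h0, pow_zero] at hj
      exact (Finite.one_lt_card_iff_nontrivial.mpr this).ne' hj
    obtain ⟨⟨z, hz⟩, hzo⟩ := exists_prime_orderOf_dvd_card' p hd
    rw [Subgroup.orderOf_mk] at hzo
    obtain ⟨y, rfl⟩ := QuotientGroup.mk'_surjective Z z
    refine ⟨y, fun h => ?_, ?_, fun g => ?_⟩
    · rw [show QuotientGroup.mk' Z y = 1 from (QuotientGroup.eq_one_iff y).mpr h, orderOf_one] at hzo
      exact hp.ne_one hzo.symm
    · rw [← QuotientGroup.eq_one_iff, ← QuotientGroup.mk'_apply, map_pow, ← hzo, pow_orderOf_eq_one]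
    · rw [← QuotientGroup.eq_one_iff, ← QuotientGroup.mk'_apply, map_commutatorElement,
        commutatorElement_eq_one_iff_mul_comm]
      exact Subgroup.mem_center_iff.mp hz _
  -- elements commuting modulo the centre with an element of large order
  have hkey : ∀ u w : P, u ^ p ∉ Z → w ∉ Z → w ^ p ∈ Z → ⁅u, w⁆ ∈ Z → C u = C w := by
    intro u w hu hw hwp hc
    set c := ⁅u, w⁆ with hcdef
    have hcc : ∀ g : P, g * c = c * g := Subgroup.mem_center_iff.mp hc
    have h1 : u * w * u⁻¹ = c * w := by rw [hcdef, commutatorElement_def, inv_mul_cancel_right]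
    have h3 : c ^ p = 1 := by
      have h2 : (u * w * u⁻¹) ^ p = w ^ p := by
        rw [conj_pow, Subgroup.mem_center_iff.mp hwp u, mul_inv_cancel_right]
      rwa [h1, (show Commute c w from (hcc w).symm).mul_pow, mul_eq_right] at h2
    have h4 : Commute w (u ^ p) := by
      have h5 : w * u * w⁻¹ = c⁻¹ * u := by rw [hcdef, commutatorElement_def]; group
      have h6 : (w * u * w⁻¹) ^ p = u ^ p := by
        rw [h5, (show Commute c⁻¹ u from (show Commute c u from (hcc u).symm).inv_left).mul_pow, inv_pow, h3, inv_one, one_mul]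
      rw [conj_pow, mul_inv_eq_iff_eq_mul] at h6
      exact h6
    have huw : Commute w u := hmem.mp (hpw hu ▸ hmem.mpr h4 : w ∈ C u)
    have hup : (u * w) ^ p ∉ Z := fun h => hu (by
      have := Z.mul_mem h (Z.inv_mem hwp)
      rwa [huw.symm.mul_pow, mul_inv_cancel_right] at this)
    have h7 : C (u * w) = C u := by
      rw [hpw hup, hpw hu]
      refine le_antisymm (fun g hg => hmem.mpr ?_) (fun g hg => hmem.mpr ?_)
      · have := (hmem.mp hg).mul_right (show Commute g (w ^ p)⁻¹ from Subgroup.mem_center_iff.mp (Z.inv_mem hwp) g)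
        rwa [huw.symm.mul_pow, mul_inv_cancel_right] at this
      · rw [huw.symm.mul_pow]
        exact (hmem.mp hg).mul_right (Subgroup.mem_center_iff.mp hwp g)
    refine heq (fun h => hu (Z.pow_mem h p)) hw fun g hg => hmem.mpr ?_
    have := (hmem.mp hg).inv_right.mul_right (hmem.mp (h7.symm ▸ hg : g ∈ C (u * w)))
    rwa [inv_mul_cancel_left] at this
  set A := C y with hA
  have hxA : C x = A := hkey x y hx hyZ hyp (hy2 x)
  have hAall : ∀ w ∈ A, w ∉ Z → C w = A := by
    intro w hw hwZ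
    by_cases hwp : w ^ p ∈ Z
    · rw [← hxA]
      refine (hkey x w hx hwZ hwp ?_).symm
      rw [← hxA] at hw
      rw [commutatorElement_eq_one_iff_mul_comm.mpr (hmem.mp hw).symm.eq]
      exact one_mem _
    · exact hkey w y hwp hyZ hyp (hy2 w)
  have hout : ∀ g, g ∉ A → g ^ p ∈ Z := fun g hg => by
    by_contra h
    exact hg (show g ∈ C y from hkey g y h hyZ hyp (hy2 g) ▸ hmem.mpr (Commute.refl g))
  have hGA : ∀ u v : P, ⁅u, v⁆ ∈ A := by
    let f : P →* Z :=
      { toFun := fun g => ⟨⁅g, y⁆, hy2 g⟩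
        map_one' := Subtype.ext (commutatorElement_one_left y)
        map_mul' := fun u v => Subtype.ext (by
          show ⁅u * v, y⁆ = ⁅u, y⁆ * ⁅v, y⁆
          calc ⁅u * v, y⁆ = u * ⁅v, y⁆ * u⁻¹ * ⁅u, y⁆ := by simp only [commutatorElement_def]; group
            _ = ⁅u, y⁆ * ⁅v, y⁆ := by
              rw [Subgroup.mem_center_iff.mp (hy2 v) u, mul_inv_cancel_right, ← Subgroup.mem_center_iff.mp (hy2 v)]) }
    intro u v
    refine hmem.mpr (commutatorElement_eq_one_iff_commute.mp ?_)
    have : f ⁅u, v⁆ = 1 := by rw [map_commutatorElement, commutatorElement_eq_one_iff_mul_comm]; exact mul_comm _ _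
    exact congrArg Subtype.val this
  have hAc : ∀ u ∈ A, ∀ v ∈ A, u * v = v * u := by
    intro u hu v hv
    by_cases huZ : u ∈ Z
    · exact (Subgroup.mem_center_iff.mp huZ v).symm
    · exact (hmem.mp ((hAall u hu huZ).symm ▸ hv)).symm.eq
  have hAn : A.Normal := ⟨fun w hw g => by
    have := A.mul_mem (hGA g w) hw
    rwa [commutatorElement_def, inv_mul_cancel_right] at this⟩
  have hZA : Z ≤ A := fun z hz => hmem.mpr (Subgroup.mem_center_iff.mp hz y).symm
  have hxmem : x ∈ A := hxA ▸ hmem.mpr (Commute.refl x)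
  obtain ⟨s, hs⟩ : ∃ s, s ∉ A := by
    by_contra hall
    push Not at hall
    exact hyZ (Subgroup.mem_center_iff.mpr fun g => hmem.mp (hall g))
  -- the quotient and the induced action
  set π := QuotientGroup.mk' Z with hπ
  set V := A.map π with hV
  have hVn : V.Normal := hAn.map π (QuotientGroup.mk'_surjective Z)
  have hVc : IsMulCommutative V := by
    refine ⟨⟨?_⟩⟩
    rintro ⟨_, u, hu, rfl⟩ ⟨_, v, hv, rfl⟩
    exact Subtype.ext (by show π u * π v = π v * π u; rw [← map_mul, ← map_mul, hAc u hu v hv])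
  let ψ : P →* MulAut V := MulAut.conjNormal.comp π
  have hnorm : ∀ g, g ∉ A → ∀ v : V, ∏ i ∈ Finset.range p, ((ψ g) ^ i) v = 1 := by
    intro g hg v
    obtain ⟨_, w, hw, rfl⟩ := v
    have hiter : ∀ n : ℕ, ((∏ i ∈ Finset.range n, ((ψ g) ^ i) ⟨π w, w, hw, rfl⟩ : V) : P ⧸ Z) = π ((w * g) ^ n * (g ^ n)⁻¹) := by
      intro n
      induction n with
      | zero => simp
      | succ n ih =>
        rw [Finset.prod_range_succ, Subgroup.coe_mul, ih, ← map_pow ψ]
        show π ((w * g) ^ n * (g ^ n)⁻¹) * (π (g ^ n) * π w * (π (g ^ n))⁻¹) = _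
        rw [← map_inv, ← map_mul, ← map_mul, ← map_mul]
        congr 1
        rw [pow_succ, pow_succ]
        group
    refine Subtype.ext ?_
    rw [hiter p, Subgroup.coe_one, hπ, QuotientGroup.mk'_apply, QuotientGroup.eq_one_iff]
    refine Z.mul_mem (hout _ fun h => hg ?_) (Z.inv_mem (hout g hg))
    exact (Subgroup.mul_mem_cancel_left A hw).mp h
  have hApow : ∀ (w : P) (hw : w ∈ A), w ^ p ∉ Z → ∀ h : ∀ v : V, v ^ p = 1, False := fun w hw hwp h => by
    have := congrArg Subtype.val (h ⟨π w, w, hw, rfl⟩)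
    rw [Subgroup.coe_pow, Subgroup.coe_one] at this
    exact hwp ((QuotientGroup.eq_one_iff _).mp (by rw [← map_pow] at this; exact this))
  by_cases hbig : ∃ t, t ∉ A ⊔ Subgroup.zpowers s
  · obtain ⟨t, ht⟩ := hbig
    have hnA : ∀ (u : P), u ∉ A → ∀ i, 0 < i → i < p → u ^ i ∉ A := fun u hu i hi0 hip h => hu (by
      obtain ⟨c, d, hcd⟩ : IsCoprime (i : ℤ) (p : ℤ) := by
        rw [Int.isCoprime_iff_nat_coprime]
        simpa using ((Nat.Prime.coprime_iff_not_dvd hp).mpr (Nat.not_dvd_of_pos_of_lt hi0 hip)).symm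
      have e : u = (u ^ i) ^ c * (u ^ p) ^ d := by
        rw [← zpow_natCast u i, ← zpow_natCast u p, ← zpow_mul, ← zpow_mul, ← zpow_add, mul_comm _ c, mul_comm _ d, hcd, zpow_one]
      rw [e]
      exact A.mul_mem (A.zpow_mem h c) (A.zpow_mem (hZA (hout u hu)) d))
    have htA : t ∉ A := fun h => ht (Subgroup.mem_sup_left h)
    have hcomm : Commute (ψ s) (ψ t) := by
      have h1 : ψ ⁅s, t⁆ = 1 := by
        refine MulEquiv.ext fun v => Subtype.ext ?_
        show π ⁅s, t⁆ * v * (π ⁅s, t⁆)⁻¹ = v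
        have := congrArg Subtype.val (hVc.is_comm.comm ⟨π ⁅s, t⁆, ⟨_, hGA s t, rfl⟩⟩ v)
        rw [show π ⁅s, t⁆ * v = v * π ⁅s, t⁆ from this, mul_inv_cancel_right]
      rwa [map_commutatorElement, commutatorElement_eq_one_iff_commute] at h1
    refine hApow x hxmem hx fun v => pow_eq_one_of_norms (ψ s) (ψ t) hcomm (fun k hk v => ?_) (fun i hi0 hip v => ?_) v
    · rw [← map_pow, ← map_mul]
      refine hnorm _ (fun h => ?_) v
      rcases Nat.eq_zero_or_pos k with rfl | hk0
      · rw [pow_zero, mul_one] at h; exact hs h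
      · refine ht ?_
        have htk : t ^ k ∈ A ⊔ Subgroup.zpowers s := by
          have := Subgroup.mul_mem _ (Subgroup.inv_mem _ (Subgroup.mem_sup_right (Subgroup.mem_zpowers s)))
            (Subgroup.mem_sup_left (T := Subgroup.zpowers s) h)
          rwa [inv_mul_cancel_left] at this
        obtain ⟨c, d, hcd⟩ : IsCoprime (k : ℤ) (p : ℤ) := by
          rw [Int.isCoprime_iff_nat_coprime]
          simpa using ((Nat.Prime.coprime_iff_not_dvd hp).mpr (Nat.not_dvd_of_pos_of_lt hk0 hk)).symm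
        rw [show t = (t ^ k) ^ c * (t ^ p) ^ d by
          rw [← zpow_natCast t k, ← zpow_natCast t p, ← zpow_mul, ← zpow_mul, ← zpow_add, mul_comm _ c, mul_comm _ d, hcd, zpow_one]]
        exact Subgroup.mul_mem _ (Subgroup.zpow_mem _ htk c)
          (Subgroup.zpow_mem _ (Subgroup.mem_sup_left (hZA (hout t htA))) d)
    · rw [← map_pow]
      exact hnorm _ (hnA t htA i hi0 hip) v
  · push Not at hbig
    -- index p
    have hidxA : A.index = p := by
      have hq : Nat.card (P ⧸ A) = p := by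
        have hgen : ∀ q : P ⧸ A, q ∈ Subgroup.zpowers (QuotientGroup.mk' A s) := fun q => by
          obtain ⟨g, rfl⟩ := QuotientGroup.mk'_surjective A q
          obtain ⟨w, hw, z, ⟨i, rfl⟩, rfl⟩ := Subgroup.mem_sup_of_normal_left.mp (hbig g)
          rw [map_mul, show QuotientGroup.mk' A w = 1 from (QuotientGroup.eq_one_iff w).mpr hw, one_mul]
          exact ⟨i, (map_zpow _ _ _).symm⟩
        rw [← orderOf_eq_card_of_forall_mem_zpowers hgen]
        refine orderOf_eq_prime ?_ fun e => hs ((QuotientGroup.eq_one_iff s).mp e)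
        rw [← map_pow]
        exact (QuotientGroup.eq_one_iff _).mpr (hZA (hout s hs))
      exact hq
    have ha1 : p ^ a = p := (hidx y hyZ).symm.trans hidxA
    have hsZ : s ∉ Z := fun h => hs (hZA h)
    set T := C s ⊓ A
    have hT : T ≤ Z := fun w hw => by
      obtain ⟨hw1, hw2⟩ := Subgroup.mem_inf.mp hw
      by_contra hwZ
      exact hs (hAall w hw2 hwZ ▸ hmem.mpr (hmem.mp hw1).symm)
    have h2 : T.relIndex A ≤ (C s).index := by
      show ((C s) ⊓ A).relIndex A ≤ _
      rw [Subgroup.inf_relIndex_right, ← Subgroup.relIndex_top_right]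
      exact Subgroup.relIndex_le_of_le_right le_top (by rw [Subgroup.relIndex_top_right]; exact Subgroup.index_ne_zero_of_finite)
    rw [hidx s hsZ, ha1] at h2
    have hvd : ∀ v : V, orderOf v ∣ p := by
      intro v
      obtain ⟨j, hj⟩ := IsPGroup.iff_orderOf.mp ((hP.to_quotient Z).to_subgroup V) v
      rw [hj]
      refine (Nat.pow_dvd_pow p (?_ : j ≤ 1)).trans (pow_one p).dvd
      by_contra hc
      have h3 : orderOf v ≤ Nat.card V := Nat.le_of_dvd Nat.card_pos (orderOf_dvd_natCard v)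
      have h4 : Nat.card V ≤ T.relIndex A := by
        have : Nat.card V = Z.relIndex A := by
          have e := (Z.subgroupOf A)
          rw [hV, Subgroup.relIndex]
          refine Nat.card_congr ((MulEquiv.subgroupCongr (MonoidHom.range_comp π A.subtype ▸ by rw [Subgroup.range_subtype])).symm.toEquiv.trans
            ((QuotientGroup.quotientKerEquivRange (π.comp A.subtype)).symm.toEquiv.trans (QuotientGroup.quotientMulEquivOfEq ?_).toEquiv))
          ext w
          rw [MonoidHom.mem_ker, Subgroup.mem_subgroupOf, MonoidHom.comp_apply, hπ, QuotientGroup.mk'_apply, QuotientGroup.eq_one_iff]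
          rfl
        rw [this]
        exact Nat.le_of_dvd (Nat.pos_of_ne_zero Subgroup.index_ne_zero_of_finite) (Subgroup.relIndex_dvd_of_le_left A hT)
      have h5 : p ^ 2 ≤ orderOf v := hj ▸ Nat.pow_le_pow_right hp.pos (by omega)
      have : p ^ 2 ≤ p := by omega
      nlinarith [hp.two_le]
    exact hApow x hxmem hx fun v => orderOf_dvd_iff_pow_eq_one.mp (hvd v)

end Cfsg.Agent.S4365
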