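import Cfsg.Statements.S4134
import Mathlib
import Cfsg.Agent.S4365
import Cfsg.Agent.Lib.JordanCover
import Cfsg.Agent.Lib.CyclicSylowAbelian.Simple
-- import your own Cfsg.Agent.* helpers here

set_option autoImplicit false
open Cfsg

namespace Cfsg.Agent.S4134

open Subgroup

/-- `x` is a `t`-element -/
private def IsPE {G : Type*} [Group G] (t : ℕ) (x : G) : Prop := ∃ k : ℕ, x ^ t ^ k = 1

private theorem center_iff_cent {G : Type*} [Group G] {x : G} :
    x ∈ center G ↔ centralizer ({x} : Set G) = ⊤ := by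
  rw [centralizer_eq_top_iff_subset, Set.singleton_subset_iff]; rfl

private theorem mem_cent {G : Type*} [Group G] {x y : G} :
    y ∈ centralizer ({x} : Set G) ↔ Commute y x := mem_centralizer_singleton_iff

/-- commuting with `y` implies commuting with its powers -/
private theorem cent_le_of_zpowers {G : Type*} [Group G] {x y : G} (h : x ∈ zpowers y) :
    centralizer ({y} : Set G) ≤ centralizer {x} := by
  obtain ⟨i, rfl⟩ := h
  exact fun w hw => mem_cent.mpr ((mem_cent.mp hw).zpow_right i)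

private theorem IsPE.coprime {G : Type*} [Group G] {t s : ℕ} {x y : G} (ht : t.Prime) (hs : s.Prime)
    (hne : s ≠ t) (hx : IsPE t x) (hy : IsPE s y) : (orderOf x).Coprime (orderOf y) := by
  obtain ⟨k, hk⟩ := hx
  obtain ⟨l, hl⟩ := hy
  exact Nat.Coprime.of_dvd (orderOf_dvd_of_pow_eq_one hk) (orderOf_dvd_of_pow_eq_one hl)
    (Nat.Coprime.pow k l ((Nat.coprime_primes ht hs).mpr hne.symm))

/-- an element whose image modulo the centre has order divisible by `r` has a non-central `r`-power -/
private theorem exists_part {G : Type*} [Group G] [Finite G] {z : G} {r : ℕ} (hr : r.Prime)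
    (hd : r ∣ orderOf (z : G ⧸ center G)) : ∃ y, y ∈ zpowers z ∧ IsPE r y ∧ y ∉ center G := by
  have h0 := (orderOf_pos z).ne'
  refine ⟨z ^ (orderOf z / r ^ (orderOf z).factorization r), pow_mem (mem_zpowers z) _,
    ⟨(orderOf z).factorization r, ?_⟩, fun h => ?_⟩
  · rw [← pow_mul, Nat.div_mul_cancel (Nat.ordProj_dvd _ _), pow_orderOf_eq_one]
  · refine Nat.not_dvd_ordCompl hr h0 (hd.trans (orderOf_dvd_of_pow_eq_one ?_))
    rw [← QuotientGroup.mk_pow]
    exact (QuotientGroup.eq_one_iff _).mpr h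

/-- Sylow subgroups of a subgroup -/
private theorem card_rpart {G : Type*} [Group G] [Finite G] {r : ℕ} [hr : Fact r.Prime]
    {A K : Subgroup G} (hA : IsPGroup r A) (hle : A ≤ K) :
    Nat.card A ∣ r ^ (Nat.card K).factorization r := by
  obtain ⟨k, hk⟩ := hA.exists_card_eq
  rw [hk]
  refine Nat.pow_dvd_pow r ((hr.out.pow_dvd_iff_le_factorization Nat.card_pos.ne').mp ?_)
  rw [← hk]
  exact card_dvd_of_le hle

section
variable {G : Type*} [Group G] [Finite G] {n : ℕ}

/-- the hypothesis on non-central elements -/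
private def Hyp (G : Type*) [Group G] (n : ℕ) : Prop :=
  ∀ x : G, x ∉ center G → (centralizer ({x} : Set G)).index = n

/-- `t` is a prime with a non-central `t`-element -/
private def NC (G : Type*) [Group G] (t : ℕ) : Prop := t.Prime ∧ ∃ x : G, IsPE t x ∧ x ∉ center G

private theorem cent_card_mul (h : Hyp G n) {x : G} (hx : x ∉ center G) :
    Nat.card (centralizer ({x} : Set G)) * n = Nat.card G := by
  rw [← h x hx]; exact card_mul_index _

/-- L1 -/
private theorem cent_eq (h : Hyp G n) {x y : G} (hx : x ∉ center G) (hy : y ∉ center G)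
    (hle : centralizer ({x} : Set G) ≤ centralizer {y}) : centralizer ({x} : Set G) = centralizer {y} := by
  refine eq_of_le_of_card_ge hle (le_of_eq ?_)
  have hn : 0 < n := h x hx ▸ Nat.pos_of_ne_zero index_ne_zero_of_finite
  exact Nat.eq_of_mul_eq_mul_right hn ((cent_card_mul h hy).trans (cent_card_mul h hx).symm)

/-- L2 -/
private theorem cent_le (h : Hyp G n) {x y : G} (hx : x ∉ center G)
    (hy : y ∈ centralizer ({x} : Set G)) (hco : (orderOf x).Coprime (orderOf y)) :
    centralizer ({x} : Set G) ≤ centralizer {y} := by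
  have hxy : Commute x y := (mem_cent.mp hy).symm
  obtain ⟨a, ha1, ha2⟩ := Nat.chineseRemainder hco 1 0
  have hmem : x ∈ zpowers (x * y) := by
    have hpow : (x * y) ^ a = x := by
      rw [hxy.mul_pow, orderOf_dvd_iff_pow_eq_one.mp (Nat.modEq_zero_iff_dvd.mp ha2), mul_one]
      conv_rhs => rw [← pow_one x]
      exact pow_eq_pow_iff_modEq.mpr ha1
    have := pow_mem (mem_zpowers (x * y)) a
    rwa [hpow] at this
  have hle := cent_le_of_zpowers hmem
  have hz : x * y ∉ center G := fun hc => hx ((zpowers_le.mpr hc) hmem)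
  have heq := cent_eq h hz hx hle
  intro w hw
  have h1 : Commute w (x * y) := mem_cent.mp (heq ▸ hw)
  have h2 : Commute w x⁻¹ := (mem_cent.mp hw).inv_right
  have := h2.mul_right h1
  rw [inv_mul_cancel_left] at this
  exact mem_cent.mpr this

private theorem cent_eq_of_coprime (h : Hyp G n) {x y : G} (hx : x ∉ center G) (hy' : y ∉ center G)
    (hy : y ∈ centralizer ({x} : Set G)) (hco : (orderOf x).Coprime (orderOf y)) :
    centralizer ({x} : Set G) = centralizer {y} := cent_eq h hx hy' (cent_le h hx hy hco)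

/-- L3 -/
private theorem exists_primary (h : Hyp G n) {x : G} (hx : x ∉ center G) :
    ∃ r y, r.Prime ∧ IsPE r y ∧ y ∉ center G ∧ centralizer ({x} : Set G) = centralizer {y} := by
  have h1 : orderOf (x : G ⧸ center G) ≠ 1 := fun e =>
    hx ((QuotientGroup.eq_one_iff x).mp (orderOf_eq_one_iff.mp e))
  obtain ⟨r, hr, hrd⟩ := Nat.exists_prime_and_dvd h1
  obtain ⟨y, hy, hyp, hyZ⟩ := exists_part hr hrd
  exact ⟨r, y, hr, hyp, hyZ, cent_eq h hx hyZ (cent_le_of_zpowers hy)⟩

private theorem card_center_dvd (x : G) : Nat.card (center G) ∣ Nat.card (centralizer ({x} : Set G)) :=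
  card_dvd_of_le (center_le_centralizer _)

/-- order of the image of a centraliser modulo the centre -/
private theorem card_map_mul {K : Subgroup G} (hK : center G ≤ K) :
    Nat.card (K.map (QuotientGroup.mk' (center G))) * Nat.card (center G) = Nat.card K := by
  have h1 : (K.map (QuotientGroup.mk' (center G))).index = K.index :=
    index_map_eq _ (QuotientGroup.mk'_surjective _) (by rwa [QuotientGroup.ker_mk'])
  have h2 := card_mul_index (K.map (QuotientGroup.mk' (center G)))
  rw [h1] at h2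
  have h3 := card_mul_index K
  have h4 := card_eq_card_quotient_mul_card_subgroup (center G)
  refine Nat.eq_of_mul_eq_mul_right (Nat.pos_of_ne_zero (index_ne_zero_of_finite (H := K))) ?_
  rw [h3, h4, ← h2]; ring

end

open CfsgLib.CycSyl in
/-- L4 -/
private theorem not_two_of_not_dvd {G : Type*} [Group G] [Finite G] {n : ℕ} (hn : 1 < n) (h : Hyp G n)
    {t s : ℕ} (hst : s ≠ t) (ht : NC G t) (hs : NC G s) : t ∣ n := by
  classical
  obtain ⟨htp, u₀, hu₀, hu₀Z⟩ := ht
  obtain ⟨hsp, v₀, hv₀, hv₀Z⟩ := hs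
  have : Fact t.Prime := ⟨htp⟩
  by_contra htn
  have hG0 : Nat.card G ≠ 0 := Nat.card_pos.ne'
  have hn0 : n ≠ 0 := by omega
  -- every centraliser contains a Sylow subgroup
  have hsyl : ∀ x : G, x ∉ center G → ∃ T : Sylow t G, (T : Subgroup G) ≤ centralizer {x} := by
    intro x hx
    obtain ⟨S⟩ := (inferInstance : Nonempty (Sylow t (centralizer ({x} : Set G))))
    have hc : Nat.card (S.toSubgroup.map (centralizer ({x} : Set G)).subtype) = t ^ (Nat.card G).factorization t := by
      rw [card_map_of_injective (subtype_injective _), Sylow.card_eq_multiplicity, ← cent_card_mul h hx,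
        Nat.factorization_mul Nat.card_pos.ne' hn0, Finsupp.add_apply,
        Nat.factorization_eq_zero_of_not_dvd htn, add_zero]
    exact ⟨Sylow.ofCard _ hc, by rw [Sylow.coe_ofCard]; exact map_subtype_le _⟩
  have hpe : ∀ {T : Sylow t G} {y : G}, y ∈ (T : Subgroup G) → IsPE t y := fun {T} {y} hy => by
    obtain ⟨k, hk⟩ := T.isPGroup' ⟨y, hy⟩
    exact ⟨k, congrArg Subtype.val hk⟩
  obtain ⟨T, hT⟩ := hsyl v₀ hv₀Z
  have hTab : ∀ a ∈ (T : Subgroup G), ∀ b ∈ (T : Subgroup G), Commute a b := fun a ha b hb =>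
    (mem_cent.mp ((cent_le h hv₀Z (hT ha) (IsPE.coprime hsp htp hst.symm hv₀ (hpe ha))) (hT hb))).symm
  obtain ⟨u, huT, huZ⟩ : ∃ u ∈ (T : Subgroup G), u ∉ center G := by
    have hA : IsPGroup t (zpowers u₀) := by
      obtain ⟨k, hk⟩ := hu₀
      rintro ⟨_, i, rfl⟩
      refine ⟨k, Subtype.ext ?_⟩
      rw [SubgroupClass.coe_pow, OneMemClass.coe_one, ← zpow_natCast, ← zpow_mul, mul_comm, zpow_mul,
        zpow_natCast, hk, one_zpow]
    obtain ⟨T', hT'⟩ := hA.exists_le_sylow
    obtain ⟨g, rfl⟩ := MulAction.exists_smul_eq G T T'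
    have h1 := hT' (mem_zpowers u₀)
    rw [Sylow.smul_def, Sylow.pointwise_smul_def, mem_pointwise_smul_iff_inv_smul_mem,
      MulAut.smul_def, ← map_inv, MulAut.conj_apply, inv_inv] at h1
    refine ⟨_, h1, fun hc => hu₀Z ?_⟩
    have := (inferInstance : (center G).Normal).conj_mem _ hc g
    rwa [show g * (g⁻¹ * u₀ * g) * g⁻¹ = u₀ by group] at this
  have hTu : (T : Subgroup G) ≤ centralizer {u} := fun a ha => mem_cent.mpr (hTab a ha u huT)
  have hC0 : ∀ u' ∈ (T : Subgroup G), u' ∉ center G →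
      centralizer ({u'} : Set G) = centralizer {u} := by
    intro u' hu' hu'Z
    by_cases hcase : ∃ w ∈ centralizer ({u} : Set G), (orderOf w).Coprime t ∧ w ∉ center G
    · obtain ⟨w, hw, hwt, hwZ⟩ := hcase
      have hco : ∀ y : G, IsPE t y → (orderOf y).Coprime (orderOf w) := fun y ⟨k, hk⟩ =>
        Nat.Coprime.coprime_dvd_left (orderOf_dvd_of_pow_eq_one hk) (hwt.symm.pow_left k)
      have h1 := cent_eq_of_coprime h huZ hwZ hw (hco u (hpe huT))
      have h2 : w ∈ centralizer ({u'} : Set G) := by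
        refine mem_cent.mpr (mem_cent.mp ?_).symm
        rw [← h1]; exact hTu hu'
      rw [h1]
      exact cent_eq_of_coprime h hu'Z hwZ h2 (hco u' (hpe hu'))
    · push Not at hcase
      set W := (T : Subgroup G) ⊔ center G with hW
      have hWle : W ≤ centralizer ({u} : Set G) := sup_le hTu (center_le_centralizer _)
      have hWle' : W ≤ centralizer ({u'} : Set G) :=
        sup_le (fun a ha => mem_cent.mpr (hTab a ha u' hu')) (center_le_centralizer _)
      have hWeq : W = centralizer ({u} : Set G) := by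
        refine eq_of_le_of_card_ge hWle (Nat.le_of_dvd Nat.card_pos ?_)
        set C := centralizer ({u} : Set G) with hC
        -- the quotient by the centre is a `t`-group
        have hq : IsPGroup t (C.map (QuotientGroup.mk' (center G))) := by
          rintro ⟨_, x, hx, rfl⟩
          obtain ⟨a, b, hab, _, hb, ⟨k, hk⟩, hbt⟩ := split (p := t) x
          refine ⟨k, Subtype.ext ?_⟩
          have hb' : b ∈ center G := hcase b ((zpowers_le.mpr hx) hb) hbt
          rw [SubgroupClass.coe_pow, ← map_pow, ← hab,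
            (show Commute a b from (mem_center_iff.mp hb' a)).mul_pow, hk, one_mul]
          exact (QuotientGroup.eq_one_iff _).mpr (pow_mem hb' _)
        obtain ⟨j, hj⟩ := hq.exists_card_eq
        have h1 := card_map_mul (K := C) (center_le_centralizer _)
        rw [hj] at h1
        -- `card C` divides both
        have h2 : Nat.card C ∣ t ^ j * Nat.card W :=
          h1 ▸ mul_dvd_mul_left _ (card_dvd_of_le (le_sup_right : center G ≤ W))
        have hTC : Nat.card T = t ^ (Nat.card C).factorization t := by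
          rw [Sylow.card_eq_multiplicity, ← cent_card_mul h huZ,
            Nat.factorization_mul Nat.card_pos.ne' hn0, Finsupp.add_apply,
            Nat.factorization_eq_zero_of_not_dvd htn, add_zero, ← hC]
        have hC0' : Nat.card C ≠ 0 := Nat.card_pos.ne'
        have h3 : t ^ (Nat.card C).factorization t ∣ Nat.card W :=
          hTC ▸ card_dvd_of_le (le_sup_left : (T : Subgroup G) ≤ W)
        have h4 : Nat.card C / t ^ (Nat.card C).factorization t ∣ Nat.card W :=
          (Nat.Coprime.pow_right j ((Nat.coprime_ordCompl htp hC0').symm)).dvd_of_dvd_mul_left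
            ((Nat.ordCompl_dvd _ _).trans h2)
        rw [← Nat.ordProj_mul_ordCompl_eq_self (Nat.card C) t]
        exact Nat.Coprime.mul_dvd_of_dvd_of_dvd ((Nat.coprime_ordCompl htp hC0').pow_left _) h3 h4
      exact (cent_eq h huZ hu'Z (hWeq ▸ hWle')).symm
  -- everything is conjugate into one centraliser
  have htop : centralizer ({u} : Set G) = ⊤ := by
    refine CfsgLib.eq_top_of_conj_cover _ fun x => ?_
    by_cases hx : x ∈ center G
    · exact ⟨1, by simpa using center_le_centralizer _ hx⟩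
    obtain ⟨r, y, hr, hy, hyZ, hxy⟩ := exists_primary h hx
    obtain ⟨T', hT'⟩ := hsyl y hyZ
    obtain ⟨g, rfl⟩ := MulAction.exists_smul_eq G T T'
    have hmem : ∀ a, a ∈ ((g • T : Sylow t G) : Subgroup G) ↔ g⁻¹ * a * g ∈ (T : Subgroup G) := fun a => by
      rw [Sylow.smul_def, Sylow.pointwise_smul_def, mem_pointwise_smul_iff_inv_smul_mem,
        MulAut.smul_def, ← map_inv, MulAut.conj_apply, inv_inv]
    have hxy' : x ∈ centralizer ({y} : Set G) := hxy ▸ mem_cent.mpr (Commute.refl x)
    -- an element of the Sylow subgroup with the same centraliser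
    obtain ⟨v, hv, hvZ, hvy⟩ : ∃ v ∈ (T : Subgroup G), v ∉ center G ∧
        centralizer ({g * v * g⁻¹} : Set G) = centralizer {y} := by
      have hconjZ : ∀ v : G, v ∉ center G → g * v * g⁻¹ ∉ center G := fun v hv hc => hv (by
        have := (inferInstance : (center G).Normal).conj_mem _ hc g⁻¹
        rwa [show g⁻¹ * (g * v * g⁻¹) * g⁻¹⁻¹ = v by group] at this)
      have hgu : g * u * g⁻¹ ∈ ((g • T : Sylow t G) : Subgroup G) :=
        (hmem _).mpr (by simpa [mul_assoc] using huT)
      by_cases hrt : r = t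
      · subst hrt
        refine ⟨g⁻¹ * y * g, (hmem y).mp (mem_sylow (g • T) ?_ hy), fun hc => hyZ ?_, by group⟩
        · refine centralizer_le_normalizer _ ?_
          exact mem_centralizer_iff.mpr fun a ha => mem_cent.mp (hT' ha)
        · have := (inferInstance : (center G).Normal).conj_mem _ hc g
          rwa [show g * (g⁻¹ * y * g) * g⁻¹ = y by group] at this
      · exact ⟨u, huT, huZ, (cent_eq_of_coprime h hyZ (hconjZ u huZ) (hT' hgu)
          (IsPE.coprime hr htp (Ne.symm hrt) hy (hpe hgu))).symm⟩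
    refine ⟨g⁻¹, ?_⟩
    rw [← hC0 v hv hvZ]
    rw [← hvy] at hxy'
    refine mem_cent.mpr ?_
    have := (mem_cent.mp hxy').map (MulAut.conj g⁻¹ : MulAut G).toMonoidHom
    simpa [mul_assoc] using this
  exact huZ (center_iff_cent.mpr htop)

/-- with two relevant primes every centraliser of a non-central element is abelian (L5) -/
private theorem cent_comm {G : Type*} [Group G] [Finite G] {n : ℕ} (h : Hyp G n) {t s : ℕ}
    (hst : s ≠ t) (ht : NC G t) (hs : NC G s) {x : G} (hx : x ∉ center G) :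
    ∀ a ∈ centralizer ({x} : Set G), ∀ b ∈ centralizer ({x} : Set G), Commute a b := by
  obtain ⟨r, y, hr, hy, hyZ, hxy⟩ := exists_primary h hx
  obtain ⟨r', hne, hr', v, hv, hvZ⟩ : ∃ r', r' ≠ r ∧ NC G r' := by
    rcases eq_or_ne r t with rfl | hrt
    · exact ⟨s, hst, hs⟩
    · exact ⟨t, Ne.symm hrt, ht⟩
  have : Fact r'.Prime := ⟨hr'⟩
  have : Fact r.Prime := ⟨hr⟩
  set π := QuotientGroup.mk' (center G) with hπ
  have hcard : Nat.card ((centralizer ({y} : Set G)).map π) = Nat.card ((centralizer ({v} : Set G)).map π) := by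
    refine Nat.eq_of_mul_eq_mul_right (Nat.card_pos (α := center G)) ?_
    rw [card_map_mul (center_le_centralizer _), card_map_mul (center_le_centralizer _)]
    exact Nat.eq_of_mul_eq_mul_right (h y hyZ ▸ Nat.pos_of_ne_zero index_ne_zero_of_finite)
      ((cent_card_mul h hyZ).trans (cent_card_mul h hvZ).symm)
  have hd : r' ∣ Nat.card ((centralizer ({y} : Set G)).map π) := by
    rw [hcard]
    have h1 : orderOf (⟨π v, mem_map_of_mem π (mem_cent.mpr (Commute.refl v))⟩ :
        (centralizer ({v} : Set G)).map π) ∣ Nat.card ((centralizer ({v} : Set G)).map π) :=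
      orderOf_dvd_natCard _
    rw [Subgroup.orderOf_mk] at h1
    refine dvd_trans ?_ h1
    obtain ⟨k, hk⟩ := hv
    obtain ⟨i, -, hi⟩ := (Nat.dvd_prime_pow hr').mp
      (orderOf_dvd_of_pow_eq_one (show π v ^ r' ^ k = 1 by rw [← map_pow, hk, map_one]))
    rw [hi]
    refine dvd_pow_self r' fun h0 => hvZ ?_
    rw [h0, pow_zero, orderOf_eq_one_iff] at hi
    exact (QuotientGroup.eq_one_iff v).mp hi
  obtain ⟨⟨_, z, hz, rfl⟩, hzo⟩ := exists_prime_orderOf_dvd_card' r' hd
  replace hzo : orderOf (π z) = r' := (Subgroup.orderOf_mk _ _).symm.trans hzo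
  obtain ⟨w, hw, hwp, hwZ⟩ := exists_part (z := z) hr' (dvd_of_eq hzo.symm)
  have hwy : w ∈ centralizer ({y} : Set G) := (zpowers_le.mpr hz) hw
  have heq := cent_eq_of_coprime h hyZ hwZ hwy (IsPE.coprime hr hr' hne hy hwp)
  rw [hxy]
  intro a ha b hb
  obtain ⟨a1, a2, rfl, ha1, ha2, ⟨k, hk⟩, ha2r⟩ := CfsgLib.CycSyl.split (p := r) a
  have ha1y := (zpowers_le.mpr ha) ha1
  have ha2y := (zpowers_le.mpr ha) ha2
  have hb1 : b ∈ centralizer ({a2} : Set G) := by
    obtain ⟨l, hl⟩ := hy
    exact cent_le h hyZ ha2y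
      ((ha2r.symm.pow_left l).coprime_dvd_left (orderOf_dvd_of_pow_eq_one hl)) hb
  have hb2 : b ∈ centralizer ({a1} : Set G) :=
    cent_le h hwZ (heq ▸ ha1y) (IsPE.coprime hr' hr hne.symm hwp ⟨k, hk⟩) (heq ▸ hb)
  exact ((mem_cent.mp hb2).mul_right (mem_cent.mp hb1)).symm

/-- the semiregular action giving `n_r < c_s` -/
private theorem part_lt {G : Type*} [Group G] [Finite G] {n : ℕ} (h : Hyp G n)
    (hab : ∀ x : G, x ∉ center G → ∀ a ∈ centralizer ({x} : Set G), ∀ b ∈ centralizer ({x} : Set G), Commute a b)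
    {c : ℕ} (hc : ∀ x : G, x ∉ center G → Nat.card (centralizer ({x} : Set G)) = c * Nat.card (center G))
    {r s : ℕ} (hrs : r ≠ s) (hr : NC G r) (hs : s.Prime) (hsc : s ∣ c) :
    r ^ n.factorization r < s ^ c.factorization s := by
  classical
  obtain ⟨hrp, u₀, hu₀, hu₀Z⟩ := hr
  have : Fact r.Prime := ⟨hrp⟩
  have : Fact s.Prime := ⟨hs⟩
  have hA : IsPGroup r (zpowers u₀) := by
    obtain ⟨k, hk⟩ := hu₀
    rintro ⟨_, i, rfl⟩
    refine ⟨k, Subtype.ext ?_⟩
    rw [SubgroupClass.coe_pow, OneMemClass.coe_one, ← zpow_natCast, ← zpow_mul, mul_comm, zpow_mul,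
      zpow_natCast, hk, one_zpow]
  obtain ⟨R, hR⟩ := hA.exists_le_sylow
  -- an element of `R` central in `R` modulo the centre
  obtain ⟨u, huR, huZ, hu⟩ : ∃ u ∈ (R : Subgroup G), u ∉ center G ∧
      ∀ g ∈ (R : Subgroup G), u⁻¹ * (g * u * g⁻¹) ∈ center G := by
    set N := (center G).subgroupOf (R : Subgroup G) with hN
    have hq := R.isPGroup'.to_quotient N
    have hnt : Nontrivial ((R : Subgroup G) ⧸ N) :=
      ⟨⟨QuotientGroup.mk ⟨u₀, hR (mem_zpowers u₀)⟩, 1, fun e => hu₀Z (mem_subgroupOf.mp ((QuotientGroup.eq_one_iff (⟨u₀, hR (mem_zpowers u₀)⟩ : (R : Subgroup G))).mp e))⟩⟩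
    have := hq.center_nontrivial
    obtain ⟨⟨q, hq'⟩, hq1⟩ := exists_ne (1 : center ((R : Subgroup G) ⧸ N))
    obtain ⟨u, rfl⟩ := QuotientGroup.mk_surjective q
    refine ⟨u, u.2, fun hc => hq1 (Subtype.ext ((QuotientGroup.eq_one_iff u).mpr hc)), fun g hg => ?_⟩
    have h1 := mem_center_iff.mp hq' (QuotientGroup.mk ⟨g, hg⟩)
    have h2 : ((u⁻¹ * (⟨g, hg⟩ * u * ⟨g, hg⟩⁻¹) : (R : Subgroup G)) : (R : Subgroup G) ⧸ N) = 1 := by
      rw [QuotientGroup.mk_mul, QuotientGroup.mk_mul, QuotientGroup.mk_mul, h1, QuotientGroup.mk_inv,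
        QuotientGroup.mk_inv, mul_inv_cancel_right, inv_mul_cancel]
    exact mem_subgroupOf.mp ((QuotientGroup.eq_one_iff (u⁻¹ * (⟨g, hg⟩ * u * ⟨g, hg⟩⁻¹) : (R : Subgroup G))).mp h2)
  set K := centralizer ({u} : Set G) with hKdef
  have hnorm : ∀ g ∈ (R : Subgroup G), ∀ k ∈ K, g * k * g⁻¹ ∈ K := by
    intro g hg k hk
    have h1 : Commute (g * k * g⁻¹) (g * u * g⁻¹) := by
      simpa using (mem_cent.mp hk).map (MulAut.conj g : MulAut G).toMonoidHom
    have h2 : Commute (g * k * g⁻¹) (u⁻¹ * (g * u * g⁻¹)) := mem_center_iff.mp (hu g hg) _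
    have := h1.mul_right h2.inv_right
    rw [mul_inv_rev, inv_inv, mul_inv_cancel_left] at this
    exact mem_cent.mpr this
  set π := QuotientGroup.mk' (center G) with hπ
  set Kb := K.map π with hKb
  have hKbc : Nat.card Kb = c :=
    Nat.eq_of_mul_eq_mul_right Nat.card_pos ((card_map_mul (center_le_centralizer _)).trans (hc u huZ))
  have hKbcomm : ∀ a b : Kb, a * b = b * a := by
    rintro ⟨_, a, ha, rfl⟩ ⟨_, b, hb, rfl⟩
    exact Subtype.ext (show π a * π b = π b * π a by rw [← map_mul, ← map_mul, (hab u huZ a ha b hb).eq])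
  obtain ⟨Q⟩ := (inferInstance : Nonempty (Sylow s Kb))
  have hQn : (Q : Subgroup Kb).Normal :=
    ⟨fun a ha b => by rwa [hKbcomm b a, mul_inv_cancel_right]⟩
  have hQc : Nat.card Q = s ^ c.factorization s := by rw [Sylow.card_eq_multiplicity, hKbc]
  obtain ⟨⟨_, z, hz, rfl⟩, hzo⟩ := exists_prime_orderOf_dvd_card' (G := Kb) s (hKbc ▸ hsc)
  have hzo' : orderOf (π z) = s := (Subgroup.orderOf_mk _ _).symm.trans hzo
  have hzs : z ^ s ∈ center G := by
    refine (QuotientGroup.eq_one_iff _).mp ?_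
    show π (z ^ s) = 1
    rw [map_pow, ← hzo', pow_orderOf_eq_one]
  have hzZ : z ∉ center G := fun hc' => hs.ne_one (by
    rw [← hzo', orderOf_eq_one_iff]; exact (QuotientGroup.eq_one_iff z).mpr hc')
  have hzK : centralizer ({z} : Set G) = K :=
    (cent_eq h huZ hzZ fun w hw => mem_cent.mpr (hab u huZ w hw z hz)).symm
  let f : ↥(R : Subgroup G) → Kb := fun g => ⟨π (g * z * (g : G)⁻¹), mem_map_of_mem π (hnorm g g.2 z hz)⟩
  -- `f` only depends on, and separates, the cosets of `R ∩ K`
  have hkey : ∀ g₁ g₂ : (R : Subgroup G), f g₁ = f g₂ ↔ g₁⁻¹ * g₂ ∈ K.subgroupOf (R : Subgroup G) := by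
    intro g₁ g₂
    set v : G := (g₁ : G)⁻¹ * (g₂ : G) with hv
    rw [mem_subgroupOf, show ((g₁⁻¹ * g₂ : (R : Subgroup G)) : G) = v from rfl]
    constructor
    · intro he
      have he' : π ((g₁ : G) * z * (g₁ : G)⁻¹) = π ((g₂ : G) * z * (g₂ : G)⁻¹) := congrArg Subtype.val he
      set e := z⁻¹ * (v * z * v⁻¹) with hedef
      have heZ : e ∈ center G := by
        refine (QuotientGroup.eq_one_iff _).mp ?_
        show π e = 1
        have e1 : v * z * v⁻¹ = (g₁ : G)⁻¹ * ((g₂ : G) * z * (g₂ : G)⁻¹) * (g₁ : G) := by rw [hv]; group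
        rw [hedef, e1]
        simp only [map_mul, map_inv] at he' ⊢
        rw [← he']; group
      have hvz : v * z * v⁻¹ = z * e := by rw [hedef]; group
      have hvR : v ∈ (R : Subgroup G) := mul_mem (inv_mem g₁.2) g₂.2
      obtain ⟨k, hk⟩ := R.isPGroup' ⟨v, hvR⟩
      have hk' : v ^ r ^ k = 1 := congrArg Subtype.val hk
      have hiter : ∀ m : ℕ, v ^ m * z * (v ^ m)⁻¹ = z * e ^ m := by
        intro m
        induction m with
        | zero => simp
        | succ m ihm =>
          calc v ^ (m + 1) * z * (v ^ (m + 1))⁻¹ = v * (v ^ m * z * (v ^ m)⁻¹) * v⁻¹ := by rw [pow_succ']; group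
            _ = v * z * (e ^ m * v⁻¹) := by rw [ihm]; group
            _ = v * z * (v⁻¹ * e ^ m) := by rw [← mem_center_iff.mp (pow_mem heZ m) v⁻¹]
            _ = z * e ^ (m + 1) := by rw [← mul_assoc, hvz, pow_succ']; group
      have her : e ^ r ^ k = 1 := by
        have := hiter (r ^ k)
        rwa [hk', one_mul, inv_one, mul_one, left_eq_mul] at this
      have hes : e ^ s = 1 := by
        have h1 : (z * e) ^ s = z ^ s := by
          rw [← hvz, conj_pow, mem_center_iff.mp hzs v, mul_inv_cancel_right]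
        rw [(show Commute z e from mem_center_iff.mp heZ z).mul_pow, mul_eq_left] at h1
        exact h1
      have he1 : e = 1 := orderOf_eq_one_iff.mp (Nat.eq_one_of_dvd_coprimes
        (Nat.Coprime.pow_left k ((Nat.coprime_primes hrp hs).mpr hrs))
        (orderOf_dvd_of_pow_eq_one her) (orderOf_dvd_of_pow_eq_one hes))
      rw [he1, mul_one] at hvz
      rw [← hzK]
      exact mem_cent.mpr (mul_inv_eq_iff_eq_mul.mp hvz)
    · intro hvK
      have hvz : Commute v z := hab u huZ v hvK z hz
      have e1 : (g₂ : G) * z * (g₂ : G)⁻¹ = (g₁ : G) * (v * z * v⁻¹) * (g₁ : G)⁻¹ := by rw [hv]; group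
      refine Subtype.ext ?_
      show π _ = π _
      rw [e1, hvz.eq, mul_inv_cancel_right]
  let F : ↥(R : Subgroup G) ⧸ K.subgroupOf (R : Subgroup G) → Kb := fun q =>
    Quotient.liftOn' q f fun a b hab' => (hkey a b).mpr (QuotientGroup.leftRel_apply.mp hab')
  have hFinj : Function.Injective F := by
    intro q₁ q₂
    induction q₁ using Quotient.inductionOn' with
    | h a => induction q₂ using Quotient.inductionOn' with
      | h b => exact fun he => QuotientGroup.eq.mpr ((hkey a b).mp he)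
  have hFmem : ∀ q, F q ∈ ((Q : Subgroup Kb) : Set Kb) \ {1} := by
    intro q
    induction q using Quotient.inductionOn' with
    | h a =>
      have ho : orderOf (f a) = s := by
        rw [← Subgroup.orderOf_coe]
        show orderOf (π ((a : G) * z * (a : G)⁻¹)) = s
        rw [map_mul, map_mul, map_inv, ← hzo']
        exact (MulAut.conj (π (a : G))).orderOf_eq (π z)
      refine ⟨CfsgLib.CycSyl.mem_sylow Q (by rw [normalizer_eq_top_iff.mpr hQn]; exact mem_top _) ⟨1, ?_⟩,
        fun he => hs.ne_one ?_⟩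
      · show (f a) ^ s ^ 1 = 1
        rw [pow_one, ← ho, pow_orderOf_eq_one]
      · rw [← ho, orderOf_eq_one_iff]; exact he
  have hle : Nat.card ((R : Subgroup G) ⧸ K.subgroupOf (R : Subgroup G)) < s ^ c.factorization s := by
    have h1 : Nat.card ((R : Subgroup G) ⧸ K.subgroupOf (R : Subgroup G)) ≤
        (((Q : Subgroup Kb) : Set Kb) \ {1}).ncard := by
      rw [← Nat.card_coe_set_eq]
      exact Nat.card_le_card_of_injective (fun q => (⟨F q, hFmem q⟩ : ↥(((Q : Subgroup Kb) : Set Kb) \ {1})))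
        fun a b he => hFinj (congrArg Subtype.val he)
    have h2 : (((Q : Subgroup Kb) : Set Kb) \ {1}).ncard < ((Q : Subgroup Kb) : Set Kb).ncard :=
      Set.ncard_sdiff_singleton_lt_of_mem (one_mem _)
    rw [← hQc]
    exact h1.trans_lt (by rwa [← Nat.card_coe_set_eq] at h2)
  refine lt_of_le_of_lt ?_ hle
  -- the index of `R ∩ K` in `R` is at least the `r`-part of `n`
  have hD : Nat.card (K.subgroupOf (R : Subgroup G)) ∣ r ^ (Nat.card K).factorization r := by
    rw [← card_map_of_injective (subtype_injective (R : Subgroup G)), subgroupOf_map_subtype]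
    exact card_rpart (R.isPGroup'.to_le inf_le_right) inf_le_left
  have hG : Nat.card (R : Subgroup G) = r ^ (Nat.card K).factorization r * r ^ n.factorization r := by
    have hn0 : n ≠ 0 := h u huZ ▸ index_ne_zero_of_finite
    rw [show Nat.card (R : Subgroup G) = r ^ (Nat.card G).factorization r from R.card_eq_multiplicity,
      ← cent_card_mul h huZ, Nat.factorization_mul Nat.card_pos.ne' hn0, Finsupp.add_apply, pow_add]
  rw [card_eq_card_quotient_mul_card_subgroup (K.subgroupOf (R : Subgroup G))] at hG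
  refine Nat.le_of_mul_le_mul_left ?_ (pow_pos hrp.pos ((Nat.card K).factorization r))
  rw [← hG, mul_comm]
  exact Nat.mul_le_mul_right _ (Nat.le_of_dvd (pow_pos hrp.pos _) hD)

/-- counting: `c ≤ n` -/
private theorem c_le {G : Type*} [Group G] [Finite G] {n : ℕ} (hn : 1 < n) (h : Hyp G n)
    (hab : ∀ x : G, x ∉ center G → ∀ a ∈ centralizer ({x} : Set G), ∀ b ∈ centralizer ({x} : Set G), Commute a b)
    {c : ℕ} (hc : ∀ x : G, x ∉ center G → Nat.card (centralizer ({x} : Set G)) = c * Nat.card (center G))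
    (hex : ∃ x : G, x ∉ center G) : c ≤ n := by
  classical
  have : Fintype G := Fintype.ofFinite G
  set Z := Nat.card (center G) with hZdef
  have hZ0 : 0 < Z := Nat.card_pos
  set S : Finset G := Finset.univ.filter (fun x => x ∉ center G) with hS
  let f : G → Subgroup G := fun x => centralizer {x}
  have hfib : ∀ K ∈ S.image f, Set.ncard {y : G | y ∈ S ∧ f y = K} = c * Z - Z := by
    intro K hK
    obtain ⟨x, hx, rfl⟩ := Finset.mem_image.mp hK
    have hx' : x ∉ center G := (Finset.mem_filter.mp hx).2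
    have he : {y : G | y ∈ S ∧ f y = f x} = (f x : Set G) \ (center G : Set G) := by
      ext y
      simp only [hS, Finset.mem_filter, Finset.mem_univ, true_and, Set.mem_setOf_eq, Set.mem_diff,
        SetLike.mem_coe]
      exact ⟨fun ⟨hy, hye⟩ => ⟨hye ▸ mem_cent.mpr (Commute.refl y), hy⟩, fun ⟨hy, hyZ⟩ =>
        ⟨hyZ, (cent_eq h hx' hyZ fun w hw => mem_cent.mpr (hab x hx' w hw y hy)).symm⟩⟩
    rw [he, Set.ncard_sdiff (show (center G : Set G) ⊆ f x from center_le_centralizer _),
      ← Nat.card_coe_set_eq, ← Nat.card_coe_set_eq]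
    show Nat.card (f x) - Nat.card (center G) = _
    rw [hc x hx']
  have hfib' : ∀ K ∈ S.image f, (S.filter fun y => f y = K).card = c * Z - Z := by
    intro K hK
    rw [← hfib K hK, ← Set.ncard_coe_finset, Finset.coe_filter]
  have hsum := Finset.card_eq_sum_card_image f S
  rw [Finset.sum_congr rfl hfib', Finset.sum_const, smul_eq_mul] at hsum
  have hScard : S.card = c * Z * n - Z := by
    obtain ⟨x, hx⟩ := hex
    have h1 : S = Finset.univ \ (center G : Set G).toFinset := by ext y; simp [hS]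
    rw [h1, Finset.card_sdiff_of_subset (Finset.subset_univ _), Finset.card_univ,
      ← Nat.card_eq_fintype_card, ← Set.ncard_eq_toFinset_card', ← Nat.card_coe_set_eq,
      ← cent_card_mul h hx, hc x hx]
    rfl
  rw [hScard] at hsum
  set m := (S.image f).card
  rcases Nat.lt_or_ge c 2 with hc2 | hc2
  · omega
  obtain ⟨d, rfl⟩ : ∃ d, c = d + 1 := ⟨c - 1, by omega⟩
  have h1 : (d + 1) * n - 1 = m * d := by
    refine Nat.eq_of_mul_eq_mul_right hZ0 ?_
    rw [Nat.sub_mul, one_mul]
    rw [Nat.add_mul d 1 Z, one_mul, Nat.add_sub_cancel] at hsum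
    calc (d + 1) * n * Z - Z = (d * Z + Z) * n - Z := by ring_nf
      _ = m * (d * Z) := hsum
      _ = m * d * Z := by ring
  have h2 : d ∣ n - 1 := by
    have h3 : d ∣ (d + 1) * n - 1 := h1 ▸ dvd_mul_left d m
    have h4 : (d + 1) * n - 1 = d * n + (n - 1) := by rw [Nat.succ_mul]; omega
    rw [h4] at h3
    exact (Nat.dvd_add_right (dvd_mul_right d n)).mp h3
  have := Nat.le_of_dvd (by omega) h2
  omega

private theorem prod_lt {S : Finset ℕ} (N C : ℕ → ℕ) (hpos : ∀ t ∈ S, 0 < N t)
    (h : ∀ r ∈ S, ∀ s ∈ S, r ≠ s → N r < C s) (hS : ∃ r ∈ S, ∃ s ∈ S, r ≠ s) :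
    ∏ t ∈ S, N t < ∏ t ∈ S, C t := by
  obtain ⟨a, ha, b, hb, hab⟩ := hS
  obtain ⟨r, hr, hmax⟩ := S.exists_max_image N ⟨a, ha⟩
  obtain ⟨s, hs, hsr⟩ : ∃ s ∈ S, s ≠ r := by
    rcases eq_or_ne a r with rfl | har
    · exact ⟨b, hb, hab.symm⟩
    · exact ⟨a, ha, har⟩
  have hs' : s ∈ S.erase r := Finset.mem_erase.mpr ⟨hsr, hs⟩
  rw [← Finset.mul_prod_erase S N hr, ← Finset.mul_prod_erase S C hr,
    ← Finset.mul_prod_erase _ N hs', ← Finset.mul_prod_erase _ C hs']
  set U := (S.erase r).erase s
  have hU : ∀ t ∈ U, t ∈ S ∧ t ≠ r := fun t ht =>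
    ⟨(Finset.mem_erase.mp (Finset.mem_erase.mp ht).2).2, (Finset.mem_erase.mp (Finset.mem_erase.mp ht).2).1⟩
  have h1 : ∏ t ∈ U, N t ≤ ∏ t ∈ U, C t := Finset.prod_le_prod' fun t ht =>
    (hmax t (hU t ht).1).trans (h r hr t (hU t ht).1 (hU t ht).2.symm).le
  have h2 : N r * N s < C r * C s := by
    have e1 := h r hr s hs hsr.symm
    have e2 := h s hs r hr hsr
    calc N r * N s = N s * N r := mul_comm _ _
      _ < C r * C s := Nat.mul_lt_mul_of_lt_of_lt e2 e1
  rw [← mul_assoc, ← mul_assoc]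
  calc N r * N s * ∏ t ∈ U, N t < C r * C s * ∏ t ∈ U, N t :=
        Nat.mul_lt_mul_of_pos_right h2 (Finset.prod_pos fun t ht => hpos t (hU t ht).1)
    _ ≤ C r * C s * ∏ t ∈ U, C t := Nat.mul_le_mul_left _ h1

/-- only one prime -/
private theorem nc_unique {G : Type*} [Group G] [Finite G] {n : ℕ} (hn : 1 < n) (h : Hyp G n)
    {t s : ℕ} (ht : NC G t) (hs : NC G s) : t = s := by
  classical
  by_contra hts
  have hab := fun x (hx : x ∉ center G) => cent_comm h (Ne.symm hts) ht hs hx
  obtain ⟨x, hx⟩ : ∃ x : G, x ∉ center G := ⟨_, ht.2.choose_spec.2⟩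
  set π := QuotientGroup.mk' (center G) with hπ
  set c := Nat.card ((centralizer ({x} : Set G)).map π) with hcdef
  have hn0 : n ≠ 0 := by omega
  have hc : ∀ y : G, y ∉ center G → Nat.card (centralizer ({y} : Set G)) = c * Nat.card (center G) := by
    intro y hy
    rw [hcdef, card_map_mul (center_le_centralizer _)]
    exact Nat.eq_of_mul_eq_mul_right (Nat.pos_of_ne_zero hn0)
      ((cent_card_mul h hy).trans (cent_card_mul h hx).symm)
  have hc0 : c ≠ 0 := Nat.card_pos.ne'
  -- prime divisors of `c` are exactly the relevant primes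
  have hdvd : ∀ r, NC G r → r ∣ c := by
    rintro r ⟨hr, y, hy, hyZ⟩
    have e : c = Nat.card ((centralizer ({y} : Set G)).map π) :=
      Nat.eq_of_mul_eq_mul_right Nat.card_pos
        ((hc y hyZ).symm.trans (card_map_mul (center_le_centralizer _)).symm)
    rw [e]
    have h1 : orderOf (⟨π y, mem_map_of_mem π (mem_cent.mpr (Commute.refl y))⟩ :
        (centralizer ({y} : Set G)).map π) ∣ _ := orderOf_dvd_natCard _
    rw [Subgroup.orderOf_mk] at h1
    refine dvd_trans ?_ h1
    obtain ⟨k, hk⟩ := hy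
    obtain ⟨i, -, hi⟩ := (Nat.dvd_prime_pow hr).mp
      (orderOf_dvd_of_pow_eq_one (show π y ^ r ^ k = 1 by rw [← map_pow, hk, map_one]))
    rw [hi]
    refine dvd_pow_self r fun h0 => hyZ ?_
    rw [h0, pow_zero, orderOf_eq_one_iff] at hi
    exact (QuotientGroup.eq_one_iff y).mp hi
  have hNC : ∀ r, r.Prime → r ∣ Nat.card G / Nat.card (center G) → NC G r := by
    intro r hr hrd
    have : Fact r.Prime := ⟨hr⟩
    rw [card_eq_card_quotient_mul_card_subgroup (center G), Nat.mul_div_cancel _ Nat.card_pos] at hrd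
    obtain ⟨q, hq⟩ := exists_prime_orderOf_dvd_card' r hrd
    obtain ⟨z, rfl⟩ := QuotientGroup.mk_surjective q
    obtain ⟨y, -, hy, hyZ⟩ := exists_part hr (dvd_of_eq hq.symm)
    exact ⟨hr, y, hy, hyZ⟩
  have hquot : Nat.card G / Nat.card (center G) = c * n := by
    rw [← cent_card_mul h hx, hc x hx, mul_right_comm, Nat.mul_div_cancel _ Nat.card_pos]
  set S := c.primeFactors with hSdef
  have hnS : n.primeFactors ⊆ S := fun r hr => by
    obtain ⟨hrp, hrn, -⟩ := Nat.mem_primeFactors.mp hr
    exact Nat.mem_primeFactors.mpr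
      ⟨hrp, hdvd r (hNC r hrp (hquot ▸ dvd_mul_of_dvd_right hrn c)), hc0⟩
  have hlt := prod_lt (S := S) (fun r => r ^ n.factorization r) (fun r => r ^ c.factorization r)
    (fun r hr => pow_pos (Nat.prime_of_mem_primeFactors hr).pos _) (fun r hr q hq hrq => by
      have hr' := Nat.mem_primeFactors.mp hr
      have hq' := Nat.mem_primeFactors.mp hq
      exact part_lt h hab hc hrq (hNC r hr'.1 (hquot ▸ dvd_mul_of_dvd_left hr'.2.1 n)) hq'.1 hq'.2.1)
    ⟨t, Nat.mem_primeFactors.mpr ⟨ht.1, hdvd t ht, hc0⟩, s, Nat.mem_primeFactors.mpr ⟨hs.1, hdvd s hs, hc0⟩, hts⟩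
  have e1 : ∏ r ∈ S, r ^ n.factorization r = n := by
    rw [← Finset.prod_subset hnS fun r _ hr => by
      rw [show n.factorization r = 0 from Finsupp.notMem_support_iff.mp hr, pow_zero]]
    exact Nat.prod_factorization_pow_eq_self hn0
  have e2 : ∏ r ∈ S, r ^ c.factorization r = c := Nat.prod_factorization_pow_eq_self hc0
  rw [e1, e2] at hlt
  exact absurd (c_le hn h hab hc ⟨x, hx⟩) (not_le.mpr hlt)

/-- Let G be a finite group whose conjugacy classes have exactly two sizes, 1 and n > 1. Then n is a power of a prime p and G is the direct product of a p-group and an abelian group of order prime to p: its Sylow p-subgroup P is normal with an abelian normal complement centralizing it; moreover P has an abelian normal subgroup A with P/A of exponent dividing p. -/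
theorem result {G : Type*} [Group G] [Finite G] (n : ℕ) (hn : 1 < n)
    (h : ∀ x : G, (Subgroup.centralizer ({x} : Set G)).index = 1 ∨ (Subgroup.centralizer ({x} : Set G)).index = n) (hex : ∃ x : G, (Subgroup.centralizer ({x} : Set G)).index = n) :
    ∃ (p : ℕ) (_ : Fact p.Prime) (a : ℕ), n = p ^ a ∧ ∀ P : Sylow p G, (P : Subgroup G).Normal ∧
      (∃ N : Subgroup G, N.Normal ∧ N.IsComplement' (P : Subgroup G) ∧ IsMulCommutative N ∧
        ∀ x ∈ N, ∀ y ∈ (P : Subgroup G), x * y = y * x) ∧
      ∃ A : Subgroup (P : Subgroup G), A.Normal ∧ IsMulCommutative A ∧ ∀ y : (P : Subgroup G), y ^ p ∈ A := by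
  classical
  have hyp : Hyp G n := fun x hx => (h x).resolve_left fun e => hx (center_iff_cent.mpr (Subgroup.index_eq_one.mp e))
  obtain ⟨x₀, hx₀⟩ := hex
  have hx₀Z : x₀ ∉ Subgroup.center G := fun e => by
    rw [center_iff_cent.mp e, Subgroup.index_top] at hx₀; omega
  obtain ⟨p, y₀, hp, hy₀, hy₀Z, -⟩ := exists_primary hyp hx₀Z
  have hNCp : NC G p := ⟨hp, y₀, hy₀, hy₀Z⟩
  have hfact : Fact p.Prime := ⟨hp⟩
  -- `p'`-elements are central
  have hb : ∀ b : G, (orderOf b).Coprime p → b ∈ Subgroup.center G := by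
    intro b hbp
    by_contra hbZ
    have h1 : orderOf (b : G ⧸ Subgroup.center G) ≠ 1 := fun e =>
      hbZ ((QuotientGroup.eq_one_iff b).mp (orderOf_eq_one_iff.mp e))
    obtain ⟨r, hr, hrd⟩ := Nat.exists_prime_and_dvd h1
    obtain ⟨y, -, hy, hyZ⟩ := exists_part hr hrd
    have e : r = p := nc_unique hn hyp ⟨hr, y, hy, hyZ⟩ hNCp
    subst e
    exact hr.ne_one (Nat.eq_one_of_dvd_coprimes hbp
      (hrd.trans (orderOf_map_dvd (QuotientGroup.mk' (Subgroup.center G)) b)) dvd_rfl)
  have hq : IsPGroup p (G ⧸ Subgroup.center G) := by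
    intro q
    obtain ⟨x, rfl⟩ := QuotientGroup.mk_surjective q
    obtain ⟨a, b, rfl, -, -, ⟨k, hk⟩, hbp⟩ := CfsgLib.CycSyl.split (p := p) x
    refine ⟨k, ?_⟩
    rw [← QuotientGroup.mk_pow, (show Commute a b from Subgroup.mem_center_iff.mp (hb b hbp) a).mul_pow,
      hk, one_mul]
    exact (QuotientGroup.eq_one_iff _).mpr (pow_mem (hb b hbp) _)
  obtain ⟨j, hj⟩ := hq.exists_card_eq
  have hnd : n ∣ p ^ j := by
    rw [← hj, ← hyp x₀ hx₀Z, ← Subgroup.index_eq_card]
    exact Subgroup.index_dvd_of_le (Subgroup.center_le_centralizer _)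
  obtain ⟨a, -, rfl⟩ := (Nat.dvd_prime_pow hp).mp hnd
  have ha : 1 ≤ a := Nat.one_le_iff_ne_zero.mpr fun e => by simp [e] at hn
  refine ⟨p, hfact, a, rfl, fun P => ?_⟩
  -- `P` is normal
  have hsup : (P : Subgroup G) ⊔ Subgroup.center G = ⊤ := by
    rw [← Subgroup.index_eq_one]
    have h1 : ((P : Subgroup G) ⊔ Subgroup.center G).index ∣ p ^ j :=
      hj ▸ Subgroup.index_eq_card (Subgroup.center G) ▸ Subgroup.index_dvd_of_le le_sup_right
    refine Nat.eq_one_of_dvd_coprimes (Nat.Coprime.pow_right j ?_)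
      (Subgroup.index_dvd_of_le le_sup_left) h1
    exact ((Nat.Prime.coprime_iff_not_dvd hp).mpr P.not_dvd_index).symm
  have hPn : (P : Subgroup G).Normal := by
    rw [← Subgroup.normalizer_eq_top_iff, eq_top_iff, ← hsup, sup_le_iff]
    exact ⟨Subgroup.le_normalizer, (Subgroup.center_le_centralizer _).trans (Subgroup.centralizer_le_normalizer _)⟩
  have hnorm : ∀ x : G, x ∈ Subgroup.normalizer ((P : Subgroup G) : Set G) := fun x => by
    rw [Subgroup.normalizer_eq_top_iff.mpr hPn]; exact Subgroup.mem_top x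
  refine ⟨hPn, ?_, ?_⟩
  · let N : Subgroup G :=
      { carrier := {x | (orderOf x).Coprime p}
        one_mem' := by simp
        mul_mem' := fun {x y} hx hy => by
          have hc : Commute x y := (Subgroup.mem_center_iff.mp (hb x hx) y).symm
          exact Nat.Coprime.coprime_dvd_left hc.orderOf_mul_dvd_mul_orderOf (Nat.Coprime.mul_left hx hy)
        inv_mem' := fun {x} hx => by simpa using hx }
    have hNc : ∀ x ∈ N, ∀ y : G, x * y = y * x := fun x hx y => (Subgroup.mem_center_iff.mp (hb x hx) y).symm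
    refine ⟨N, ⟨fun x hx g => by rwa [← hNc x hx g, mul_inv_cancel_right]⟩, ?_,
      ⟨⟨fun x y => Subtype.ext (hNc x x.2 y)⟩⟩, fun x hx y _ => hNc x hx y⟩
    refine Subgroup.isComplement'_of_disjoint_and_mul_eq_univ ?_ ?_
    · rw [Subgroup.disjoint_def]
      intro x hxN hxP
      obtain ⟨k, hk⟩ := P.isPGroup' ⟨x, hxP⟩
      exact orderOf_eq_one_iff.mp (Nat.eq_one_of_dvd_coprimes
        (Nat.Coprime.pow_right k (show (orderOf x).Coprime p from hxN)) dvd_rfl
        (orderOf_dvd_of_pow_eq_one (congrArg Subtype.val hk)))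
    · refine Set.eq_univ_of_forall fun x => ?_
      obtain ⟨u, v, rfl, -, -, hu, hv⟩ := CfsgLib.CycSyl.split (p := p) x
      exact ⟨v, hv, u, CfsgLib.CycSyl.mem_sylow P (hnorm u) hu, hNc v hv u⟩
  · -- centraliser indices inside `P`
    have hidx : ∀ y : (P : Subgroup G), (Subgroup.centralizer ({y} : Set (P : Subgroup G))).index =
        (Subgroup.centralizer ({(y : G)} : Set G)).index := by
      intro y
      have e : Subgroup.centralizer ({y} : Set (P : Subgroup G)) =
          (Subgroup.centralizer ({(y : G)} : Set G)).subgroupOf (P : Subgroup G) := by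
        ext w
        rw [Subgroup.mem_subgroupOf, Subgroup.mem_centralizer_singleton_iff, Subgroup.mem_centralizer_singleton_iff]
        exact Subtype.ext_iff
      rw [e]
      show Subgroup.relIndex _ _ = _
      have hCP : Subgroup.centralizer ({(y : G)} : Set G) ⊔ (P : Subgroup G) = ⊤ := by
        rw [eq_top_iff, ← hsup, sup_le_iff]
        exact ⟨le_sup_right, le_sup_of_le_left (Subgroup.center_le_centralizer _)⟩
      have := hPn
      set C := Subgroup.centralizer ({(y : G)} : Set G)
      have h1 : (P : Subgroup G).relIndex C = (P : Subgroup G).index := by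
        rw [← Subgroup.relIndex_sup_right, hCP, Subgroup.relIndex_top_right]
      have h2 := Subgroup.relIndex_mul_index (inf_le_left : (P : Subgroup G) ⊓ C ≤ (P : Subgroup G))
      have h3 := Subgroup.relIndex_mul_index (inf_le_right : (P : Subgroup G) ⊓ C ≤ C)
      rw [Subgroup.inf_relIndex_left] at h2
      rw [Subgroup.inf_relIndex_right, h1, ← h2, mul_comm] at h3
      exact (Nat.eq_of_mul_eq_mul_right (Nat.pos_of_ne_zero Subgroup.index_ne_zero_of_finite) h3).symm
    have hcs : {k : ℕ | ∃ y : (P : Subgroup G), (Subgroup.centralizer ({y} : Set (P : Subgroup G))).index = k} =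
        {1, p ^ a} := by
      ext k
      constructor
      · rintro ⟨y, rfl⟩
        rcases h (y : G) with h1 | h1
        · left; rw [hidx, h1]
        · right; show _ = _; rw [hidx, h1]
      · rintro (rfl | rfl)
        · exact ⟨1, by rw [hidx, OneMemClass.coe_one, center_iff_cent.mp (Subgroup.one_mem _)]; exact Subgroup.index_top⟩
        · obtain ⟨u, v, hx, -, -, hu, hv⟩ := CfsgLib.CycSyl.split (p := p) x₀
          have huP := CfsgLib.CycSyl.mem_sylow P (hnorm u) hu
          refine ⟨⟨u, huP⟩, ?_⟩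
          rw [hidx]
          exact hyp u fun e => hx₀Z (hx ▸ mul_mem e (hb v hv))
    exact ⟨Subgroup.center _, inferInstance, inferInstance,
      fun y => Cfsg.Agent.S4365.result p P.isPGroup' a ha hcs y⟩

end Cfsg.Agent.S4134
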