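import Cfsg.Statements.S0824
import Mathlib
import Cfsg.Agent.Lib.ExceptionalIso
import Cfsg.Agent.Lib.OrthOrderBase

set_option autoImplicit false
set_option maxRecDepth 8000
open Cfsg

namespace Cfsg.Agent.S0824

open Equiv

open Equiv

/-- Four coordinates. -/
abbrev V4 := (Fin 1 ⊕ Fin 1) ⊕ Fin 2 → ZMod 2

/-- Five coordinates. -/
abbrev V5 := Fin 5 → ZMod 2

/-- An even representative. -/
def emb : V4 →ₗ[ZMod 2] V5 where
  toFun v := fun k => v (.inl (.inl 0)) * (![1, 1, 1, 1, 0] : V5) k + v (.inl (.inr 0)) * (![1, 1, 1, 0, 1] : V5) k +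
    v (.inr 0) * (![1, 1, 0, 0, 0] : V5) k + v (.inr 1) * (![0, 1, 1, 0, 0] : V5) k
  map_add' u v := funext fun k => by simp [add_mul]; abel
  map_smul' c v := funext fun k => by simp [mul_add, mul_assoc]

/-- Coordinates of an even vector. -/
def pr : V5 →ₗ[ZMod 2] V4 where
  toFun w := Sum.elim (Sum.elim (fun _ => ∑ k, w k * (![1, 1, 1, 0, 1] : V5) k) (fun _ => ∑ k, w k * (![1, 1, 1, 1, 0] : V5) k))
    (![∑ k, w k * (![0, 1, 1, 0, 0] : V5) k, ∑ k, w k * (![1, 1, 0, 0, 0] : V5) k])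
  map_add' u v := funext fun s => by rcases s with (s | s) | s <;> [skip; skip; fin_cases s] <;> simp [add_mul, Finset.sum_add_distrib]
  map_smul' c v := funext fun s => by rcases s with (s | s) | s <;> [skip; skip; fin_cases s] <;> simp [Finset.mul_sum, mul_assoc]

/-- Permutation of coordinates. -/
def permL (g : Perm (Fin 5)) : V5 →ₗ[ZMod 2] V5 where
  toFun w := fun k => w (g.symm k)
  map_add' _ _ := rfl
  map_smul' _ _ := rfl

/-- Weight. -/
def wt (w : V5) : ℕ := (Finset.univ.filter fun k => w k ≠ 0).card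

/-- Parity. -/
def Even' (w : V5) : Prop := ∑ k, w k = 0

instance (w : V5) : Decidable (Even' w) := by unfold Even'; infer_instance

theorem emb_even : ∀ v : V4, Even' (emb v) := by decide +kernel
theorem pr_emb : ∀ v : V4, pr (emb v) = v := by decide +kernel
theorem emb_pr : ∀ w : V5, Even' w → emb (pr w) = w := by decide +kernel
theorem form_pr : ∀ w : V5, Even' w → Cfsg.quadFormMinus 1 (ZMod 2) 1 1 (pr w) = ((wt w / 2 : ℕ) : ZMod 2) := by
  decide +kernel
theorem pair_unique : ∀ i j k l : Fin 5, i ≠ j → k ≠ l →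
    pr (Pi.single k 1 + Pi.single l 1) = pr (Pi.single i 1 + Pi.single j 1) → k = i ∨ k = j := by decide +kernel
theorem one_add_one : (1 : ZMod 2) + 1 = 0 := by decide
theorem two_others : ∀ i : Fin 5, ∃ a b : Fin 5, a ≠ b ∧ i ≠ a ∧ i ≠ b := by decide +kernel

theorem even_perm {g : Perm (Fin 5)} {w : V5} (h : Even' w) : Even' (permL g w) := by
  unfold Even' at h ⊢
  rw [← h]
  exact Equiv.sum_comp g.symm w

theorem wt_perm (g : Perm (Fin 5)) (w : V5) : wt (permL g w) = wt w := by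
  refine Finset.card_equiv g.symm fun k => ?_
  show k ∈ (Finset.univ.filter fun k => w (g.symm k) ≠ 0) ↔ g.symm k ∈ Finset.univ.filter fun k => w k ≠ 0
  simp

/-- The action. -/
def T (g : Perm (Fin 5)) : V4 →ₗ[ZMod 2] V4 := pr ∘ₗ permL g ∘ₗ emb

theorem pr_perm_emb_pr (g : Perm (Fin 5)) {w : V5} (h : Even' w) :
    pr (permL g (emb (pr w))) = pr (permL g w) := by
  rw [emb_pr w h]

theorem T_one : T 1 = LinearMap.id := LinearMap.ext fun v => pr_emb v

theorem T_mul (g h : Perm (Fin 5)) : T (g * h) = T g ∘ₗ T h := LinearMap.ext fun v =>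
  (pr_perm_emb_pr g (even_perm (emb_even v))).symm

theorem form_T (g : Perm (Fin 5)) (v : V4) :
    Cfsg.quadFormMinus 1 (ZMod 2) 1 1 (T g v) = Cfsg.quadFormMinus 1 (ZMod 2) 1 1 v := by
  show Cfsg.quadFormMinus 1 (ZMod 2) 1 1 (pr (permL g (emb v))) = _
  rw [form_pr _ (even_perm (emb_even v)), wt_perm, ← form_pr _ (emb_even v), pr_emb]

/-- The representation. -/
noncomputable def hom : Perm (Fin 5) →* Cfsg.isometryGroup (ZMod 2) (Cfsg.quadFormMinus 1 (ZMod 2) 1 1) :=
  haveI : Fact (Nat.Prime 2) := ⟨Nat.prime_two⟩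
  CfsgLib.ExceptionalIso.homOfAct _ T T_one T_mul form_T

theorem single_perm (g : Perm (Fin 5)) (i : Fin 5) :
    permL g (Pi.single i (1 : ZMod 2)) = Pi.single (g i) 1 := by
  funext k
  simp [permL, Pi.single_apply, Equiv.symm_apply_eq]

theorem hom_injective : Function.Injective hom := by
  haveI : Fact (Nat.Prime 2) := ⟨Nat.prime_two⟩
  rw [injective_iff_map_eq_one]
  intro g hg
  have hT : T g = LinearMap.id := (CfsgLib.ExceptionalIso.homOfAct_eq_one _ _ _ _ _ g).mp hg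
  have key : ∀ i j, i ≠ j → g i = i ∨ g i = j := by
    intro i j hij
    refine pair_unique i j (g i) (g j) hij (g.injective.ne hij) ?_
    rw [← single_perm, ← single_perm, ← map_add]
    have he : Even' (Pi.single i (1 : ZMod 2) + Pi.single j 1) := by
      unfold Even'
      rw [Finset.sum_congr rfl fun k _ => Pi.add_apply _ _ k, Finset.sum_add_distrib, Finset.sum_pi_single',
        Finset.sum_pi_single', if_pos (Finset.mem_univ _), if_pos (Finset.mem_univ _)]
      exact one_add_one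
    rw [← pr_perm_emb_pr g he]
    exact LinearMap.congr_fun hT _
  refine Equiv.ext fun i => ?_
  obtain ⟨a, b, hab, ha, hb⟩ := two_others i
  rcases key i a ha with h | h
  · exact h
  rcases key i b hb with h' | h'
  · exact h'
  exact absurd (h.symm.trans h') hab

theorem hom_bijective : Function.Bijective hom := by
  haveI : Fact (Nat.Prime 2) := ⟨Nat.prime_two⟩
  refine hom_injective.bijective_of_nat_card_le ?_
  rw [show (1 : ℕ) = 2 - 1 from rfl, CfsgLib.OrthOrder.card_O_minus 2 (by norm_num) 1 1 (by decide), Nat.card_perm, Nat.card_eq_fintype_card (α := Fin 5),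
    ZMod.card, Fintype.card_fin]
  decide

/-- The isomorphism over the prime field. -/
theorem nonempty_mulEquiv : Nonempty (Perm (Fin 5) ≃* Cfsg.isometryGroup (ZMod 2) (Cfsg.quadFormMinus 1 (ZMod 2) 1 1)) :=
  ⟨MulEquiv.ofBijective hom hom_bijective⟩

/-- Transport of isometry groups of the minus form along a ring isomorphism. -/
theorem isometry_congr {F K : Type*} [Field F] [Field K] (r : K ≃+* F) (m : ℕ) :
    Nonempty (Cfsg.isometryGroup K (Cfsg.quadFormMinus m K 1 1) ≃* Cfsg.isometryGroup F (Cfsg.quadFormMinus m F 1 1)) := by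
  let Φ : GL ((Fin m ⊕ Fin m) ⊕ Fin 2) K ≃* GL ((Fin m ⊕ Fin m) ⊕ Fin 2) F := Units.mapEquiv r.mapMatrix.toMulEquiv
  have hQ : ∀ v : (Fin m ⊕ Fin m) ⊕ Fin 2 → K, Cfsg.quadFormMinus m F 1 1 (r ∘ v) = r (Cfsg.quadFormMinus m K 1 1 v) := fun v => by
    simp [Cfsg.quadFormMinus]
  have hmv : ∀ (g : GL ((Fin m ⊕ Fin m) ⊕ Fin 2) K) (v : (Fin m ⊕ Fin m) ⊕ Fin 2 → K),
      ((Φ g : GL ((Fin m ⊕ Fin m) ⊕ Fin 2) F) : Matrix ((Fin m ⊕ Fin m) ⊕ Fin 2) ((Fin m ⊕ Fin m) ⊕ Fin 2) F).mulVec (r ∘ v) =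
        r ∘ ((g : Matrix ((Fin m ⊕ Fin m) ⊕ Fin 2) ((Fin m ⊕ Fin m) ⊕ Fin 2) K).mulVec v) := fun g v => funext fun i =>
    (RingHom.map_mulVec r.toRingHom g.1 v i).symm
  refine ⟨(Φ.subgroupMap _).trans (MulEquiv.subgroupCongr ?_)⟩
  ext g
  obtain ⟨g, rfl⟩ := Φ.surjective g
  refine (Subgroup.mem_map_iff_mem (f := Φ.toMonoidHom) Φ.injective).trans ?_
  constructor
  · intro h u v
    obtain ⟨u, rfl⟩ : ∃ u', r ∘ u' = u := ⟨r.symm ∘ u, funext fun i => r.apply_symm_apply _⟩
    exact (congrArg (Cfsg.quadFormMinus m F 1 1) (hmv g u)).trans ((hQ _).trans ((congrArg r (h u u)).trans (hQ u).symm))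
  · intro h u v
    exact r.injective ((hQ _).symm.trans ((congrArg (Cfsg.quadFormMinus m F 1 1) (hmv g u)).symm.trans
      ((h (r ∘ u) (r ∘ u)).trans (hQ u))))

/-- O⁻_4(2) ≅ S_5: the isometry group of the form x y + z_1² + z_1 z_2 + z_2² over the field with 2 elements is isomorphic to the symmetric group on 5 letters. -/
theorem result {F : Type*} [Field F] [Fintype F] (hF : Fintype.card F = 2) : Nonempty (↥(Cfsg.isometryGroup F (Cfsg.quadFormMinus 1 F 1 1)) ≃* Equiv.Perm (Fin 5)) := by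
  haveI : Fact (Nat.Prime 2) := ⟨Nat.prime_two⟩
  obtain ⟨e⟩ := isometry_congr (ZMod.ringEquivOfPrime F Nat.prime_two hF) 1
  obtain ⟨e'⟩ := nonempty_mulEquiv
  exact ⟨e.symm.trans e'.symm⟩

end Cfsg.Agent.S0824
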