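import Cfsg.Statements.S5395
import Cfsg.Agent.Lib.ExtraspecialTwo

set_option autoImplicit false
open Cfsg

namespace Cfsg.Agent.S5395

/-- For a finite extraspecial 2-group E, an automorphism of E that induces the identity on E modulo its centre is inner (so these automorphisms form exactly the inner automorphism group, an elementary abelian 2-group of order |E|/2). -/
theorem result {E : Type*} [Group E] [Finite E] (hE : Cfsg.IsExtraspecial 2 E) (φ : E ≃* E) (hφ : ∀ x : E, φ x * x⁻¹ ∈ Subgroup.center E) : ∃ g : E, ∀ x : E, φ x = g * x * g⁻¹ := by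
  obtain ⟨z, h⟩ := CfsgLib.ExtraTwo.ofExtraspecial hE
  classical
  set A : Subgroup E := MonoidHom.eqLocus φ.toMonoidHom (MonoidHom.id E) with hA
  have hAmem : ∀ x, x ∈ A ↔ φ x = x := fun x => Iff.rfl
  have hcase : ∀ x, φ x = x ∨ φ x = x * z := by
    intro x
    rcases (h.center_iff _).mp (hφ x) with e | e
    · exact Or.inl (mul_inv_eq_one.mp e)
    · exact Or.inr (by rw [mul_inv_eq_iff_eq_mul.mp e, (h.z_comm x).eq])
  have hzA : z ∈ A := by
    rw [hAmem]
    rcases hcase z with e | e
    · exact e
    · exact absurd (φ.injective (e.trans (h.zz.trans (map_one φ).symm))) h.ne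
  by_cases htop : A = ⊤
  · exact ⟨1, fun x => by rw [(hAmem x).mp (htop ▸ Subgroup.mem_top x)]; simp⟩
  obtain ⟨a, ha⟩ : ∃ a, φ a = a * z := by
    by_contra hn
    push Not at hn
    exact htop (eq_top_iff.mpr fun x _ => (hAmem x).mpr ((hcase x).resolve_right (hn x)))
  have hidx : A.index = 2 := by
    refine Subgroup.index_eq_two_iff.mpr ⟨a, fun b => ?_⟩
    rw [hAmem, hAmem, map_mul, ha]
    rcases hcase b with e | e <;> rw [e]
    · refine Or.inr ⟨rfl, fun e' => h.ne ?_⟩
      exact mul_eq_left.mp (mul_left_cancel (e'.trans rfl) |> fun e'' => (mul_assoc b a z).trans e')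
    · refine Or.inl ⟨?_, fun e' => h.ne (mul_eq_left.mp e')⟩
      rw [mul_assoc b z, ← mul_assoc z a, ← (h.z_comm a).eq, mul_assoc a z, h.zz, mul_one]
  have hC := h.card_mul_card_centralizer hzA
  rw [← A.card_mul_index, hidx, mul_assoc] at hC
  have hC4 : Nat.card (Subgroup.centralizer (A : Set E)) = 4 := Nat.eq_of_mul_eq_mul_left Nat.card_pos hC
  obtain ⟨g, hg, hgc⟩ : ∃ g ∈ Subgroup.centralizer (A : Set E), g ∉ Subgroup.center E := by
    by_contra hn
    push Not at hn
    have := Subgroup.card_le_of_le (show Subgroup.centralizer (A : Set E) ≤ Subgroup.center E from hn)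
    rw [hC4, h.card_center] at this
    omega
  have hcomA : ∀ b ∈ A, g * b = b * g := fun b hb => (Subgroup.mem_centralizer_iff.mp hg b hb).symm
  refine ⟨g, fun x => ?_⟩
  by_cases hx : x ∈ A
  · rw [(hAmem x).mp hx, hcomA x hx, mul_inv_cancel_right]
  have hne : g * x ≠ x * g := by
    intro hc'
    refine hgc (Subgroup.mem_center_iff.mpr fun y => ?_)
    by_cases hy : y ∈ A
    · exact (hcomA y hy).symm
    · have hxy : x⁻¹ * y ∈ A := (Subgroup.mul_mem_iff_of_index_two hidx).mpr
        (iff_of_false (fun e => hx (inv_mem_iff.mp e)) hy)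
      calc y * g = x * (x⁻¹ * y * g) := by group
        _ = x * (g * (x⁻¹ * y)) := by rw [hcomA _ hxy]
        _ = x * g * (x⁻¹ * y) := by rw [mul_assoc]
        _ = g * y := by rw [← hc']; group
  rcases h.comm_cases g x with e | e
  · exact absurd (commutatorElement_eq_one_iff_mul_comm.mp e) hne
  · rw [(hcase x).resolve_left (fun e' => hx ((hAmem x).mpr e'))]
    rw [commutatorElement_def, mul_inv_eq_iff_eq_mul] at e
    rw [e, (h.z_comm x).eq]

end Cfsg.Agent.S5395
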