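import Cfsg.Statements.S1694
import Cfsg.Agent.Lib.CosetEnum.Simple
import Cfsg.Agent.Lib.CosetEnum.Suz1782.Main
import Cfsg.Agent.Lib.CosetEnum.SuzChain.Levels
import Cfsg.Agent.Lib.CosetEnum.SuzA.Main
import Cfsg.Agent.Lib.CosetEnum.SuzB.Main
import Cfsg.Agent.Lib.CosetEnum.SuzC.Main
import Cfsg.Agent.Lib.CosetEnum.SuzD.Main
import Cfsg.Agent.Lib.CosetEnum.SuzZ.Main

set_option autoImplicit false
open Cfsg CfsgLib.CosetEnum

namespace Cfsg.Agent.S1694

theorem upper : Finite presSuz.Grp ∧ Nat.card presSuz.Grp ≤ 448345497600 := by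
  have h0 := presSuz.card_step SuzD.sheet SuzD.sel rfl [] presSuz.der_nil (by decide +kernel) (by decide +kernel)
    (wordsSub_nil _)
  have h1 := presSuz.card_step SuzC.sheet SuzC.sel rfl [] presSuz.der_nil (by decide +kernel) (by decide +kernel) h0
  have h2 := presSuz.card_step SuzB.sheet SuzB.sel rfl [] presSuz.der_nil (by decide +kernel) (by decide +kernel) h1
  have h3 := presSuz.card_step SuzA.sheet SuzA.sel rfl [] presSuz.der_nil (by decide +kernel) (by decide +kernel) h2
  exact Suz1782.cert.card_top Suz1782.hlt (by decide) Suz1782.hhw h3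

theorem lower [Finite presSuz.Grp] {K : ℕ}
    (h : K ≤ Nat.card (Suz1782.cert.fixSub Suz1782.hlt [0, 2, 1, 4, 8, 14])) :
    448345497600 * K ≤ Nat.card (Suz1782.cert.fixSub Suz1782.hlt []) := by
  have hid : ∀ i < presSuz.k, presSuz.idx (presSuz.gen i) = i := by decide
  have h5 := Suz1782.cert.level_step Suz1782.hlt hid [0, 2, 1, 4, 8] SuzChain.lev5 SuzChain.lev5_ok
    (show 14 < 1782 by decide) h
  have h4 := Suz1782.cert.level_step Suz1782.hlt hid [0, 2, 1, 4] SuzChain.lev4 SuzChain.lev4_ok
    (show 8 < 1782 by decide) h5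
  have h3 := Suz1782.cert.level_step Suz1782.hlt hid [0, 2, 1] SuzChain.lev3 SuzChain.lev3_ok
    (show 4 < 1782 by decide) h4
  have h2 := Suz1782.cert.level_step Suz1782.hlt hid [0, 2] SuzChain.lev2 SuzChain.lev2_ok
    (show 1 < 1782 by decide) h3
  have h1 := Suz1782.cert.level_step Suz1782.hlt hid [0] SuzChain.lev1 SuzChain.lev1_ok
    (show 2 < 1782 by decide) h2
  have h0 := Suz1782.cert.level_step Suz1782.hlt hid [] SuzChain.lev0 SuzChain.lev0_ok (show 0 < 1782 by decide) h1
  refine le_trans (le_of_eq ?_) h0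
  show _ = 1782 * (1365 * (1024 * (15 * (4 * (3 * K)))))
  ring

/-- The presented sporadic Suzuki group is simple of the expected order (that is, it is a simple group of the order of the sporadic Suzuki group). -/
theorem result : Cfsg.IsSuz Cfsg.Spor.Suz := by
  have : Finite presSuz.Grp := upper.1
  have hlow := Suz1782.cert.card_le_of_fixSub Suz1782.hlt
    (lower (Suz1782.cert.ker_le_fixSub Suz1782.hlt _))
  have hinj : Function.Injective (Suz1782.cert.hom Suz1782.hlt) :=
    Suz1782.cert.hom_injective Suz1782.hlt hlow upper.2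
  have hcard : Nat.card presSuz.Grp = 448345497600 :=
    le_antisymm upper.2 ((Nat.le_mul_of_pos_right _ Nat.card_pos).trans hlow)
  show IsSimpleGroup presSuz.Grp ∧ Nat.card presSuz.Grp = 448345497600
  exact ⟨Suz1782.cert.isSimple Suz1782.hlt (by decide) Suz1782.hhw hinj Suz1782.orb Suz1782.roots Suz1782.hwR
    (by decide +kernel) Suz1782.orbs [1, 1365, 416] (by decide +kernel) (by decide +kernel) (by decide +kernel) rfl
    (by decide +kernel) (q := 11) (show 1 < 1782 by decide) (by rw [hcard]; decide +kernel) [1, 2, 3, 4, 5, 6]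
    (by decide +kernel) (by decide +kernel) SuzZ.sheet rfl rfl rfl (by decide +kernel), hcard⟩

end Cfsg.Agent.S1694
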