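import Cfsg.Statements.S0021
import Cfsg.Agent.Lib.Solvable.HallConverse

set_option autoImplicit false
open Pointwise
open Cfsg

namespace Cfsg.Agent.S0021

/-- A finite group with a family of pairwise permuting Sylow subgroups, one for each prime, is solvable (this direction rests on Burnside's two-prime Theorem). -/
theorem result {G : Type*} [Group G] [Finite G]
    (S : (p : Nat.Primes) → Sylow (p : ℕ) G)
    (hS : ∀ p q : Nat.Primes, (S p : Set G) * (S q : Set G) = (S q : Set G) * (S p : Set G)) :
    Group.IsSolvable G := by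
  classical
  refine CfsgLib.HallConverse.isSolvable_of_pComplements _ rfl fun p hp => ?_
  let f : Nat.Primes → ℕ := fun q => (q : ℕ) ^ (Nat.card G).factorization q
  have key : ∀ T : Finset Nat.Primes, ∃ H : Subgroup G, Nat.card H = ∏ q ∈ T, f q ∧
      ∀ r : Nat.Primes, (H : Set G) * (S r : Set G) = (S r : Set G) * (H : Set G) := by
    intro T
    induction T using Finset.induction with
    | empty =>
      refine ⟨⊥, by simp, fun r => ?_⟩
      simp
    | insert a T ha ih =>
      obtain ⟨H, hH, hc⟩ := ih
      obtain ⟨hset, hle⟩ := CfsgLib.HallConverse.sup_of_comm (hc a)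
      refine ⟨H ⊔ (S a : Subgroup G), ?_, fun r => ?_⟩
      · rw [Finset.prod_insert ha]
        have hca : Nat.card ↥(S a : Subgroup G) = f a := by
          haveI := Fact.mk a.2
          exact (S a).card_eq_multiplicity
        refine le_antisymm ?_ (Nat.le_of_dvd Nat.card_pos ?_)
        · rw [← hca, ← hH, mul_comm]; exact hle
        · refine Nat.Coprime.mul_dvd_of_dvd_of_dvd (Nat.Coprime.prod_right fun q hq => ?_)
            (hca ▸ Subgroup.card_dvd_of_le le_sup_right) (hH ▸ Subgroup.card_dvd_of_le le_sup_left)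
          exact Nat.Coprime.pow _ _ ((Nat.coprime_primes a.2 q.2).mpr fun e =>
            ha (Subtype.ext e ▸ hq))
      · rw [hset]
        calc (H : Set G) * (S a : Set G) * (S r : Set G) = (H : Set G) * ((S r : Set G) * (S a : Set G)) := by
              rw [mul_assoc, hS a r]
          _ = (S r : Set G) * (H : Set G) * (S a : Set G) := by rw [← mul_assoc, hc r]
          _ = _ := mul_assoc _ _ _
  obtain ⟨P, rfl⟩ : ∃ P : Nat.Primes, (P : ℕ) = p := ⟨⟨p, hp⟩, rfl⟩
  obtain ⟨T, hT, hall⟩ : ∃ T : Finset Nat.Primes, (∀ q : Nat.Primes, (q : ℕ) ∣ Nat.card G → q ∈ T) ∧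
      ∏ q ∈ T, f q = Nat.card G := by
    refine ⟨(Nat.card G).primeFactors.subtype Nat.Prime, fun q hq => Finset.mem_subtype.mpr
      (Nat.mem_primeFactors.mpr ⟨q.2, hq, (Nat.card_pos (α := G)).ne'⟩), ?_⟩
    have := Finset.prod_subtype_eq_prod_filter (fun q : ℕ => q ^ (Nat.card G).factorization q)
      (s := (Nat.card G).primeFactors) (p := Nat.Prime)
    refine this.trans ?_
    rw [Finset.filter_true_of_mem fun q hq => Nat.prime_of_mem_primeFactors hq]
    exact (Nat.prod_primeFactors_pow_factorization (Nat.card_pos (α := G)).ne').symm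
  obtain ⟨H, hH, -⟩ := key (T.erase P)
  refine ⟨H, ?_⟩
  refine Nat.eq_of_mul_eq_mul_left (Nat.card_pos (α := ↥H)) ?_
  rw [Subgroup.card_mul_index, hH]
  by_cases hmem : P ∈ T
  · conv_lhs => rw [← hall]
    exact (Finset.prod_erase_mul _ _ hmem).symm
  · rw [Finset.erase_eq_of_notMem hmem, hall, Nat.factorization_eq_zero_of_not_dvd, pow_zero, mul_one]
    exact fun hd => hmem (hT _ hd)

end Cfsg.Agent.S0021
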