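import Cfsg.Statements.S0226
import Cfsg.Agent.Lib.SolutionCount
-- import your own Cfsg.Agent.* helpers here

set_option autoImplicit false
open Cfsg

namespace Cfsg.Agent.S0226

/-- A finite group of even order has an odd number of involutions. -/
theorem result {G : Type*} [Group G] [Finite G] (heven : Even (Nat.card G)) : Odd (Nat.card {t : G // orderOf t = 2}) := by
  classical
  have h := CfsgLib.frobenius_solutions (G := G) 2
  rw [Nat.gcd_eq_left heven.two_dvd] at h
  have e : Nat.card {g : G // g ^ 2 = 1} = Nat.card {t : G // orderOf t = 2} + 1 := by
    have := Fintype.ofFinite G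
    simp only [Nat.card_eq_fintype_card, Fintype.card_subtype]
    rw [← Finset.card_insert_of_notMem (a := (1 : G)) (by simp)]
    congr 1
    ext g
    simp only [Finset.mem_filter, Finset.mem_univ, true_and, Finset.mem_insert]
    constructor
    · intro hg
      by_cases h1 : g = 1
      · exact Or.inl h1
      · exact Or.inr (orderOf_eq_prime hg h1)
    · rintro (rfl | hg)
      · simp
      · rw [← hg, pow_orderOf_eq_one]
  rw [e] at h
  rw [Nat.odd_iff]
  omega

end Cfsg.Agent.S0226
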