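import Cfsg.Statements.S1196
import Cfsg.Agent.Lib.WreathedSubgroups
-- import your own Cfsg.Agent.* helpers here

set_option autoImplicit false
open Cfsg

namespace Cfsg.Agent.S1196

/-- A wreathed 2-group S of order 2^(2n+1) has a unique commutative subgroup of order 2^(2n), and this subgroup is isomorphic to the direct product of two cyclic groups of order 2^n. -/
theorem result {S : Type*} [Group S] [Finite S] (hS : Cfsg.IsWreathed S) (n : ℕ) (hn : Nat.card S = 2 ^ (2 * n + 1)) : (∃! U : Subgroup S, IsMulCommutative U ∧ Nat.card U = 2 ^ (2 * n)) ∧ ∀ U : Subgroup S, IsMulCommutative U → Nat.card U = 2 ^ (2 * n) → Nonempty (U ≃* Multiplicative (ZMod (2 ^ n) × ZMod (2 ^ n))) := by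
  obtain ⟨m, hm, hcard, d, hdh⟩ := CfsgLib.Wr.exists_data hS
  obtain rfl : m = n := by
    have := Nat.pow_right_injective le_rfl (hcard.symm.trans hn)
    omega
  have h2N : 2 * d.h = 2 ^ m := by rw [hdh, ← pow_succ']; congr 1; omega
  have hsq : (2 : ℕ) ^ (2 * m) = 2 * d.h * (2 * d.h) := by rw [h2N, ← pow_add, two_mul]
  have huniq : ∀ U : Subgroup S, IsMulCommutative U → Nat.card U = 2 ^ (2 * m) → U = d.U := by
    intro U hU hc
    haveI := hU
    by_cases hle : U ≤ d.U
    · exact Subgroup.eq_of_le_of_card_ge hle (by rw [CfsgLib.Wr.card_U, hc, hsq])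
    exfalso
    obtain ⟨a, b, hv⟩ := CfsgLib.Wr.v_mem_of_not_le d hle
    have hsub : U ⊓ d.U ≤ Subgroup.zpowers (d.u 1 1) := by
      rintro _ ⟨hg, i, j, rfl⟩
      rw [CfsgLib.Wr.mem_zpowers_u_one, one_mul]
      exact (CfsgLib.Wr.commute_u_v_iff d).mp (setLike_mul_comm hg hv)
    have h1 := Subgroup.card_le_of_le hsub
    rw [Nat.card_zpowers, CfsgLib.Wr.orderOf_u_one] at h1
    have h3 : Nat.card U ≤ 2 * Nat.card (U ⊓ d.U : Subgroup S) := by
      haveI := Subgroup.normal_of_index_eq_two (CfsgLib.Wr.index_U d)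
      have h4 := (d.U.subgroupOf U).card_mul_index
      rw [show Nat.card (d.U.subgroupOf U) = Nat.card (U ⊓ d.U : Subgroup S) by
        rw [← Subgroup.inf_subgroupOf_right d.U U, inf_comm d.U]
        exact Nat.card_congr (Subgroup.subgroupOfEquivOfLe inf_le_left).toEquiv] at h4
      have h5 : (d.U.subgroupOf U).index ∣ 2 := CfsgLib.Wr.index_U d ▸ Subgroup.relIndex_dvd_index_of_normal d.U U
      have h6 := Nat.le_of_dvd two_pos h5
      rw [← h4, mul_comm 2]
      exact Nat.mul_le_mul_left _ h6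
    rw [hc, hsq] at h3
    have h7 := d.h2
    have h8 : 4 * (2 * d.h) ≤ 2 * d.h * (2 * d.h) := Nat.mul_le_mul_right _ (by omega)
    omega
  constructor
  · refine ⟨d.U, ⟨⟨⟨fun a b => Subtype.ext (CfsgLib.Wr.U_comm d a.2 b.2)⟩⟩, by rw [CfsgLib.Wr.card_U, hsq]⟩, ?_⟩
    rintro U ⟨h1, h2⟩
    exact huniq U h1 h2
  · intro U h1 h2
    rw [huniq U h1 h2, ← h2N]
    exact CfsgLib.Wr.U_equiv d

end Cfsg.Agent.S1196
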