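import Cfsg.Statements.S1202
import Cfsg.Agent.Lib.WreathedAut
-- import your own Cfsg.Agent.* helpers here

set_option autoImplicit false
open Cfsg

namespace Cfsg.Agent.S1202

/-- Let S be a wreathed 2-group of order 2^(2n+1) and X a subgroup with C_S(X) ≤ X such that Aut(X) is not a 2-group. Then |N_S(X) : X| = 2, and either X is the commutative subgroup of order 2^(2n), or X = Q·Z(S) for some subgroup Q ≅ Q₈; in the latter case any two such subgroups are conjugate in S. -/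
theorem result {S : Type*} [Group S] [Finite S] (hS : Cfsg.IsWreathed S) (n : ℕ) (hn : Nat.card S = 2 ^ (2 * n + 1)) (X : Subgroup S) (hC : Subgroup.centralizer (X : Set S) ≤ X) (hA : ¬ IsPGroup 2 (MulAut X)) : X.relIndex (Subgroup.normalizer (X : Set S)) = 2 ∧ ((IsMulCommutative X ∧ Nat.card X = 2 ^ (2 * n)) ∨ ∃ Q : Subgroup S, Nonempty (Q ≃* QuaternionGroup 2) ∧ X = Q ⊔ Subgroup.center S) ∧ ∀ X' : Subgroup S, Subgroup.centralizer (X' : Set S) ≤ X' → ¬ IsPGroup 2 (MulAut X') → ¬ IsMulCommutative X → ¬ IsMulCommutative X' → ∃ s : S, X.map (MulAut.conj s).toMonoidHom = X' := by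
  obtain ⟨m, hm, hcard, d, hdh⟩ := CfsgLib.Wr.exists_data hS
  obtain rfl : m = n := by
    have := Nat.pow_right_injective le_rfl (hcard.symm.trans hn)
    omega
  have hh := d.h2
  have hp : IsPGroup 2 S := IsPGroup.of_card hcard
  have h2N : 2 * d.h = 2 ^ m := by rw [hdh, ← pow_succ']; congr 1; omega
  have hk : d.h = 2 * 2 ^ (m - 2) := by rw [hdh, ← pow_succ']; congr 1; omega
  have shape : ∀ Y : Subgroup S, Subgroup.centralizer (Y : Set S) ≤ Y → ¬ IsPGroup 2 (MulAut Y) → ¬ IsMulCommutative Y →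
      (∀ i j : ℤ, d.u i j ∈ Y ↔ (d.h : ℤ) ∣ i - j) ∧
      ∃ a b : ℤ, a + b = d.h ∧
        Y = Subgroup.closure {d.u (2 ^ (m - 2) : ℕ) (-(2 ^ (m - 2) : ℕ)), d.v a b} ⊔ Subgroup.center S ∧
        Nonempty (↥(Subgroup.closure ({d.u (2 ^ (m - 2) : ℕ) (-(2 ^ (m - 2) : ℕ)), d.v a b} : Set S)) ≃* QuaternionGroup 2) := by
    intro Y hYC hYA hYc
    obtain ⟨hlev, i, j, hv, hij⟩ := CfsgLib.Wr.nonabelian_shape d h2N hp hYc hYC hYA
    exact ⟨hlev, CfsgLib.Wr.shape_equiv d hk hYC hlev hv hij⟩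
  have habel : IsMulCommutative X → X = d.U := by
    intro hXc
    by_contra hne
    by_cases hle : X ≤ d.U
    · refine hne (le_antisymm hle (le_trans ?_ hC))
      intro u hu
      exact Subgroup.mem_centralizer_iff.mpr fun x hx => CfsgLib.Wr.U_comm d (hle hx) hu
    · exact hA (CfsgLib.Wr.aut_abelian d hp (by rw [hk]; exact even_two_mul _) hXc hC hle)
  refine ⟨?_, ?_, fun X' hC' hA' hXn hXn' => ?_⟩
  · by_cases hXc : IsMulCommutative X
    · obtain rfl := habel hXc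
      haveI := Subgroup.normal_of_index_eq_two (CfsgLib.Wr.index_U d)
      rw [Subgroup.normalizer_eq_top, Subgroup.relIndex_top_right, CfsgLib.Wr.index_U]
    · obtain ⟨hlev, a, b, hab, hX, -⟩ := shape X hC hA hXc
      exact CfsgLib.Wr.shape_relIndex d hk hlev hab hX
  · by_cases hXc : IsMulCommutative X
    · refine Or.inl ⟨hXc, ?_⟩
      rw [habel hXc, CfsgLib.Wr.card_U, h2N, ← pow_add, two_mul]
    · obtain ⟨-, a, b, -, hX, e⟩ := shape X hC hA hXc
      exact Or.inr ⟨_, e, hX⟩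
  · obtain ⟨-, a, b, hab, hX, -⟩ := shape X hC hA hXn
    obtain ⟨-, a', b', hab', hX', -⟩ := shape X' hC' hA' hXn'
    obtain ⟨s, hs⟩ := CfsgLib.Wr.shape_map d (m := 2 ^ (m - 2)) hab hab'
    exact ⟨s, by rw [hX, hs, hX']⟩

end Cfsg.Agent.S1202
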