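import Cfsg.Statements.S1209
import Cfsg.Agent.Lib.WreathedFusion
-- import your own Cfsg.Agent.* helpers here

set_option autoImplicit false
open Cfsg

namespace Cfsg.Agent.S1209

open CfsgLib.Wr CfsgLib.LocalFusion

/-- Let G be a finite group whose Sylow 2-subgroup S is wreathed of order 2^(2n+1), U the commutative subgroup of index 2 in S, Q a quaternion subgroup of order 8 of S and V = Q Z(S). If |N_G(U) : C_G(U)| = 6 and |N_G(V) : V C_G(V)| = 6, then G has no subgroup of index 2 and exactly one conjugacy class of involutions. -/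
theorem result {G : Type*} [Group G] [Finite G] (S : Sylow 2 G) (hS : Cfsg.IsWreathed (S : Subgroup G)) (n : ℕ) (hn : Nat.card S = 2 ^ (2 * n + 1)) (U : Subgroup G) (hUS : U ≤ S) (hUab : IsMulCommutative U) (hUcard : Nat.card U = 2 ^ (2 * n)) (Q : Subgroup G) (hQS : Q ≤ S) (eQ : Q ≃* QuaternionGroup 2) (h₁ : (Subgroup.centralizer (U : Set G)).relIndex (Subgroup.normalizer (U : Set G)) = 6) (h₂ : ((Q ⊔ ((Subgroup.center (S : Subgroup G)).map (S : Subgroup G).subtype)) ⊔ Subgroup.centralizer ((Q ⊔ ((Subgroup.center (S : Subgroup G)).map (S : Subgroup G).subtype) : Subgroup G) : Set G)).relIndex (Subgroup.normalizer ((Q ⊔ ((Subgroup.center (S : Subgroup G)).map (S : Subgroup G).subtype) : Subgroup G) : Set G)) = 6) : (∀ H : Subgroup G, H.index ≠ 2) ∧ Nat.card {C : ConjClasses G // ∃ t : G, orderOf t = 2 ∧ ConjClasses.mk t = C} = 1 := by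
  obtain ⟨-, d, m, a, b, hm, h2n, -, rfl, hab, hX⟩ := setup S hS hn hUS hUab hUcard hQS eQ
  rw [hX] at h₂
  have hrot := fun a' b' (h : a' + b' = (d.h : ℤ)) => exists_rot S d hm hab h₂ h
  refine ⟨no_index_two S fun H hH => ?_, ?_⟩
  · haveI := Subgroup.normal_of_index_eq_two hH
    obtain ⟨g, hodd, hg⟩ := U_commutators S d h₁
    have hUH : up S d.U ≤ H := by
      intro x hx
      obtain ⟨u, hu, rfl⟩ := hg x hx
      have hgH := mem_of_index_two hH hodd
      have := mul_mem ((inferInstance : H.Normal).conj_mem g hgH u⁻¹) (inv_mem hgH)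
      simpa [mul_assoc] using this
    have hvH : ∀ a' b' : ℤ, a' + b' = d.h → ((d.v a' b' : (S : Subgroup G)) : G) ∈ H := by
      intro a' b' h'
      obtain ⟨g', hg', hgC', hodd', -⟩ := hrot a' b' h'
      obtain ⟨e⟩ := Qs_equiv d hm h'
      exact q8_le_of_normal ((upEquiv S _).trans e) hg' hgC' hodd' (mem_of_index_two hH hodd')
        ((coe_mem_up S).mpr (v_mem_Qs d m a' b'))
    intro s hs
    obtain ⟨i, j, e | e⟩ := cases_elem d (⟨s, hs⟩ : (S : Subgroup G))
    · have h := hUH ((coe_mem_up S).mpr (u_mem d i j))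
      rwa [← e] at h
    · have h := mul_mem (hUH ((coe_mem_up S).mpr (u_mem d (i + j - d.h) 0))) (hvH (d.h - j) j (by ring))
      rw [← Subgroup.coe_mul, u_mul_v, zero_add, show i + j - (d.h : ℤ) + (d.h - j) = i by ring, ← e] at h
      exact h
  · refine card_classes _ ![((d.w : (S : Subgroup G)) : G)] (fun i => ?_) (fun i j _ => Subsingleton.elim i j)
      fun t ht => ⟨0, ?_⟩
    · fin_cases i
      show orderOf ((d.w : (S : Subgroup G)) : G) = 2
      rw [Subgroup.orderOf_coe]
      exact (orderOf_half_u d).2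
    · rcases invol_cases S d ht with h | h | h
      · exact h
      · exact h.trans (T0_isConj S d h₁)
      · exact (h.trans (z_isConj_half S d hm hrot)).trans (T0_isConj S d h₁)

end Cfsg.Agent.S1209
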