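import Cfsg.Statements.S1210
import Cfsg.Agent.Lib.WreathedFusion
-- import your own Cfsg.Agent.* helpers here

set_option autoImplicit false
open Cfsg

namespace Cfsg.Agent.S1210

open CfsgLib.Wr CfsgLib.LocalFusion

theorem Qs_le_R {S : Type*} [Group S] [Finite S] (d : Data S) (m : ℕ) {a b : ℤ} (hab : a + b = d.h) :
    d.Qs m a b ≤ d.R := by
  refine (Subgroup.closure_le _).mpr ?_
  rintro x (rfl | rfl)
  · exact u_mem_R d (by rw [add_neg_cancel]; exact dvd_zero _)
  · exact v_mem_R d (by rw [hab, sub_self]; exact dvd_zero _)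

theorem comm_mem_R {S : Type*} [Group S] [Finite S] (d : Data S) (s x : S) :
    x * (s * x * s⁻¹)⁻¹ ∈ d.R := by
  obtain ⟨i, j, rfl | rfl⟩ := cases_elem d x <;> obtain ⟨a, b, rfl | rfl⟩ := cases_elem d s
  · rw [U_comm d (u_mem d a b) (u_mem d i j), mul_inv_cancel_right, mul_inv_cancel]
    exact one_mem _
  · rw [conj_u_by_v, u_inv, u_mul_u]
    exact u_mem_R d ⟨0, by ring⟩
  · rw [conj_v_by_u, show d.v i j * (d.v (i + (a - b)) (j - (a - b)))⁻¹ = d.u (-(a - b)) (a - b) by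
      rw [mul_inv_eq_iff_eq_mul, u_mul_v]; congr 1 <;> ring]
    exact u_mem_R d ⟨0, by ring⟩
  · rw [show d.v a b * d.v i j * (d.v a b)⁻¹ = d.v (a + j - b) (b + i - a) by
      rw [mul_inv_eq_iff_eq_mul, v_mul_v, v_mul_v]; congr 1 <;> ring,
      show d.v i j * (d.v (a + j - b) (b + i - a))⁻¹ = d.u (i - (a + j - b)) (j - (b + i - a)) by
      rw [mul_inv_eq_iff_eq_mul, u_mul_v]; congr 1 <;> ring]
    exact u_mem_R d ⟨0, by ring⟩

/-- Let G be a finite group whose Sylow 2-subgroup S is wreathed of order 2^(2n+1), U the commutative subgroup of index 2 in S, Q a quaternion subgroup of order 8 of S and V = Q Z(S). If |N_G(U) : C_G(U)| = 2 and |N_G(V) : V C_G(V)| = 6, then G has a normal subgroup K of index 2^n whose Sylow 2-subgroups are generalized quaternion and which has no subgroup of index 2; every subgroup of Z(S) is weakly closed in S; and G has exactly two classes of involutions. -/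
theorem result {G : Type*} [Group G] [Finite G] (S : Sylow 2 G) (hS : Cfsg.IsWreathed (S : Subgroup G)) (n : ℕ) (hn : Nat.card S = 2 ^ (2 * n + 1)) (U : Subgroup G) (hUS : U ≤ S) (hUab : IsMulCommutative U) (hUcard : Nat.card U = 2 ^ (2 * n)) (Q : Subgroup G) (hQS : Q ≤ S) (eQ : Q ≃* QuaternionGroup 2) (h₁ : (Subgroup.centralizer (U : Set G)).relIndex (Subgroup.normalizer (U : Set G)) = 2) (h₂ : ((Q ⊔ ((Subgroup.center (S : Subgroup G)).map (S : Subgroup G).subtype)) ⊔ Subgroup.centralizer ((Q ⊔ ((Subgroup.center (S : Subgroup G)).map (S : Subgroup G).subtype) : Subgroup G) : Set G)).relIndex (Subgroup.normalizer ((Q ⊔ ((Subgroup.center (S : Subgroup G)).map (S : Subgroup G).subtype) : Subgroup G) : Set G)) = 6) : (∃ K : Subgroup G, K.Normal ∧ K.index = 2 ^ n ∧ (∀ P : Sylow 2 ↥K, ∃ m : ℕ, 1 ≤ m ∧ Nonempty ((P : Subgroup ↥K) ≃* QuaternionGroup (2 ^ m))) ∧ (∀ H : Subgroup ↥K, H.index ≠ 2)) ∧ (∀ Z₀ : Subgroup G, Z₀ ≤ ((Subgroup.center (S :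 Subgroup G)).map (S : Subgroup G).subtype) → Cfsg.IsWeaklyClosed Z₀ (S : Subgroup G)) ∧ Nat.card {C : ConjClasses G // ∃ t : G, orderOf t = 2 ∧ ConjClasses.mk t = C} = 2 := by
  haveI : Fact (Nat.Prime 2) := ⟨Nat.prime_two⟩
  obtain ⟨h2n', d, m, a, b, hm, h2n, hhn, rfl, hab, hX⟩ := setup S hS hn hUS hUab hUcard hQS eQ
  rw [hX] at h₂
  have hrot := fun a' b' (h : a' + b' = (d.h : ℤ)) => exists_rot S d hm hab h₂ h
  set Z := up S (Subgroup.center (S : Subgroup G)) with hZ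
  have hrefl : ∀ x : G, x * x⁻¹ ∈ up S d.R ∧ (x ∈ Z ∨ x ∈ Z → x = x) :=
    fun x => ⟨by rw [mul_inv_cancel]; exact one_mem _, fun _ => rfl⟩
  have hRle : ∀ x y : G, x * y⁻¹ ∈ up S d.R ∧ ((x ∈ Z ∨ y ∈ Z) → x = y) →
      y * x⁻¹ ∈ up S d.R ∧ ((y ∈ Z ∨ x ∈ Z) → y = x) := fun x y h =>
    ⟨by have := inv_mem h.1; rwa [mul_inv_rev, inv_inv] at this, fun h' => (h.2 h'.symm).symm⟩
  have key : ∀ x ∈ (S : Subgroup G), ∀ g : G, g * x * g⁻¹ ∈ (S : Subgroup G) →
      x * (g * x * g⁻¹)⁻¹ ∈ up S d.R ∧ ((x ∈ Z ∨ g * x * g⁻¹ ∈ Z) → x = g * x * g⁻¹) := by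
    have hconj : ∀ s ∈ (S : Subgroup G), ∀ x ∈ (S : Subgroup G),
        x * (s * x * s⁻¹)⁻¹ ∈ up S d.R ∧ ((x ∈ Z ∨ s * x * s⁻¹ ∈ Z) → x = s * x * s⁻¹) := by
      intro s hs x hx
      refine ⟨⟨_, comm_mem_R d ⟨s, hs⟩ ⟨x, hx⟩, rfl⟩, ?_⟩
      rintro (h | h)
      · exact (center_fix S h hs).symm
      · have := center_fix S h (inv_mem hs)
        simpa [mul_assoc] using this
    intro x hx g hg
    refine fusion_rel S d hm h2n (fun x y => x * y⁻¹ ∈ up S d.R ∧ ((x ∈ Z ∨ y ∈ Z) → x = y))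
      ⟨hrefl, fun {x y} h => hRle x y h, fun {x y z} h1 h2 => ⟨?_, ?_⟩⟩ hconj ?_ ?_ hx hg
    · have := mul_mem h1.1 h2.1
      rwa [← mul_assoc, inv_mul_cancel_right] at this
    · rintro (h | h)
      · have e := h1.2 (Or.inl h)
        exact e.trans (h2.2 (Or.inl (e ▸ h)))
      · have e := h2.2 (Or.inr h)
        exact (h1.2 (Or.inr (e.symm ▸ h))).trans e
    · intro g' hg' y hy
      obtain ⟨t, ht, htx⟩ := autFromSylow_U S d h₁ g' hg'
      rw [htx y hy]
      exact hconj t ht y (up_le S _ hy)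
    · intro a' b' h' g' hg' y hy
      refine ⟨?_, ?_⟩
      · obtain ⟨y', hy', rfl⟩ := hy
        obtain ⟨q, hq, c, hc, rfl⟩ := Subgroup.mem_sup_of_normal_right.mp hy'
        have hq' : ((q : (S : Subgroup G)) : G) ∈ up S (d.Qs m a' b') := (coe_mem_up S).mpr hq
        have hfix := fix_center S d hm h' hg' _ ((coe_mem_up S).mpr hc)
        show (q * c : G) * (g' * (q * c : G) * g'⁻¹)⁻¹ ∈ _
        rw [← conj_mul, hfix, mul_inv_rev, mul_assoc, mul_inv_cancel_left]
        refine Subgroup.map_mono (Qs_le_R d m h') ?_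
        exact mul_mem hq' (inv_mem (conj_mem_of (normalizer_Xs_facts S d hm h' hg').1 hq'))
      · rintro (h | h)
        · exact (fix_center S d hm h' hg' _ h).symm
        · have := fix_center S d hm h' (inv_mem hg') _ h
          simpa [mul_assoc] using this
  refine ⟨?_, ?_, ?_⟩
  · obtain ⟨K, hKn, hKS, hK⟩ := exists_normal_inf S (M := up S d.R) (up_le S _) (fun s hs x hx => by
      obtain ⟨x, hx, rfl⟩ := hx
      exact ⟨_, (R_normal d).conj_mem x hx ⟨s, hs⟩, rfl⟩) fun x hx g hg => (key x hx g hg).1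
    have hK2 : K.index = 2 ^ n := by
      rw [hK, Subgroup.relIndex, subgroupOf_up]
      have h3 := d.R.card_mul_index
      rw [card_R, hn, show 4 * d.h = 2 ^ (n + 1) by rw [pow_succ, ← h2n]; ring,
        show 2 * n + 1 = (n + 1) + n by ring, pow_add 2 (n + 1) n] at h3
      exact Nat.eq_of_mul_eq_mul_left (by positivity) h3
    refine ⟨K, hKn, hK2, fun P => ⟨n - 1, by omega, ?_⟩, no_index_two_normal S hKS fun H hH => ?_⟩
    · obtain ⟨e₁⟩ := sylow_equiv S hKS P
      obtain ⟨e₂⟩ := R_equiv d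
      rw [← hhn]
      exact ⟨e₁.trans ((upEquiv S _).trans e₂)⟩
    · haveI := Subgroup.normal_of_index_eq_two hH
      have hRK : up S d.R ≤ K := hKS ▸ inf_le_left
      have hv : ∀ a' b' : ℤ, a' + b' = d.h → d.v a' b' ∈ (H.map K.subtype).subgroupOf (S : Subgroup G) := by
        intro a' b' h'
        obtain ⟨g, hg, hgC, hodd, -⟩ := hrot a' b' h'
        have hQK : up S (d.Qs m a' b') ≤ K := (Subgroup.map_mono (Qs_le_R d m h')).trans hRK
        have hgK := odd_mem_normal S (M := up S d.R) hK2 hodd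
        have hodd' : Odd (orderOf (⟨g, hgK⟩ : K)) := by rwa [Subgroup.orderOf_mk]
        obtain ⟨e⟩ := Qs_equiv d hm h'
        have hle := q8_le_of_normal (H := H) ((Subgroup.subgroupOfEquivOfLe hQK).trans ((upEquiv S _).trans e))
          (g := ⟨g, hgK⟩) (Subgroup.mem_normalizer_iff.mpr fun y => Subgroup.mem_normalizer_iff.mp hg (y : G))
          (fun hcen => hgC (Subgroup.mem_centralizer_iff.mpr fun q hq => congrArg Subtype.val
            (Subgroup.mem_centralizer_iff.mp hcen (⟨q, hQK hq⟩ : K) hq)))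
          hodd' (mem_of_index_two hH hodd')
        have hvQ := (coe_mem_up S).mpr (v_mem_Qs d m a' b')
        exact ⟨⟨_, hQK hvQ⟩, hle hvQ, rfl⟩
      have hall : d.R ≤ (H.map K.subtype).subgroupOf (S : Subgroup G) := by
        refine (Subgroup.closure_le _).mpr ?_
        rintro x (rfl | rfl)
        · have h3 := mul_mem (hv (d.h + 1) (-1) (by ring)) (inv_mem (hv d.h 0 (by ring)))
          rwa [show d.v ((d.h : ℤ) + 1) (-1) * (d.v d.h 0)⁻¹ = d.u 1 (-1) by
            rw [mul_inv_eq_iff_eq_mul, u_mul_v, add_zero, add_comm]] at h3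
        · exact hv _ _ (by ring)
      rintro _ ⟨x, hx, rfl⟩
      obtain ⟨y, hy, hyx⟩ := hall hx
      have hxK : (x : G) ∈ K := hRK ((coe_mem_up S).mpr hx)
      have e : y = (⟨(x : G), hxK⟩ : K) := Subtype.ext hyx
      rw [e] at hy
      exact hy
  · intro Z₀ hZ₀
    refine ⟨hZ₀.trans (up_le S _), fun g hg => ?_⟩
    have hfix : ∀ z ∈ Z₀, g * z * g⁻¹ = z := fun z hz =>
      ((key z (up_le S _ (hZ₀ hz)) g (hg ⟨z, hz, rfl⟩)).2 (Or.inl (hZ₀ hz))).symm
    refine le_antisymm ?_ fun z hz => ⟨z, hz, hfix z hz⟩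
    rintro _ ⟨z, hz, rfl⟩
    show g * z * g⁻¹ ∈ Z₀
    rw [hfix z hz]
    exact hz
  · have hne : ¬ IsConj ((d.w : (S : Subgroup G)) : G) ((d.u d.h 0 : (S : Subgroup G)) : G) := by
      intro h
      obtain ⟨g, hg⟩ := isConj_iff.mp h
      have h' := (key _ d.w.2 g (by rw [hg]; exact (d.u d.h 0).2)).2 (Or.inl ((coe_mem_up S).mpr (w_central d)))
      rw [hg] at h'
      exact (half_ne S d).1 (Subtype.ext h').symm
    refine card_classes _ ![((d.w : (S : Subgroup G)) : G), ((d.u d.h 0 : (S : Subgroup G)) : G)] (fun i => ?_)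
      (fun i j h => ?_) fun t ht => ?_
    · fin_cases i
      · show orderOf ((d.w : (S : Subgroup G)) : G) = 2
        rw [Subgroup.orderOf_coe]; exact (orderOf_half_u d).2
      · show orderOf ((d.u d.h 0 : (S : Subgroup G)) : G) = 2
        rw [Subgroup.orderOf_coe]; exact (orderOf_half_u d).1
    · fin_cases i <;> fin_cases j
      · rfl
      · exact absurd h hne
      · exact absurd h.symm hne
      · rfl
    · rcases invol_cases S d ht with h | h | h
      · exact ⟨0, h⟩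
      · exact ⟨1, h⟩
      · exact ⟨1, h.trans (z_isConj_half S d hm hrot)⟩

end Cfsg.Agent.S1210
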