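import Cfsg.Statements.S1211
import Cfsg.Agent.Lib.WreathedFusion
-- import your own Cfsg.Agent.* helpers here

set_option autoImplicit false
open Cfsg

namespace Cfsg.Agent.S1211

open CfsgLib.Wr CfsgLib.LocalFusion

/-- Let G be a finite group whose Sylow 2-subgroup S is wreathed of order 2^(2n+1), U the commutative subgroup of index 2 in S, Q a quaternion subgroup of order 8 of S and V = Q Z(S). If |N_G(U) : C_G(U)| = 6 and |N_G(V) : V C_G(V)| = 2, then G has a normal subgroup K of index 2 containing U (so U is a Sylow 2-subgroup of K) which has no subgroup of index 2, and G has exactly two classes of involutions. -/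
theorem result {G : Type*} [Group G] [Finite G] (S : Sylow 2 G) (hS : Cfsg.IsWreathed (S : Subgroup G)) (n : ℕ) (hn : Nat.card S = 2 ^ (2 * n + 1)) (U : Subgroup G) (hUS : U ≤ S) (hUab : IsMulCommutative U) (hUcard : Nat.card U = 2 ^ (2 * n)) (Q : Subgroup G) (hQS : Q ≤ S) (eQ : Q ≃* QuaternionGroup 2) (h₁ : (Subgroup.centralizer (U : Set G)).relIndex (Subgroup.normalizer (U : Set G)) = 6) (h₂ : ((Q ⊔ ((Subgroup.center (S : Subgroup G)).map (S : Subgroup G).subtype)) ⊔ Subgroup.centralizer ((Q ⊔ ((Subgroup.center (S : Subgroup G)).map (S : Subgroup G).subtype) : Subgroup G) : Set G)).relIndex (Subgroup.normalizer ((Q ⊔ ((Subgroup.center (S : Subgroup G)).map (S : Subgroup G).subtype) : Subgroup G) : Set G)) = 2) : (∃ K : Subgroup G, K.Normal ∧ K.index = 2 ∧ U ≤ K ∧ (∀ H : Subgroup ↥K, H.index ≠ 2)) ∧ Nat.card {C : ConjClasses G // ∃ t : G, orderOf t = 2 ∧ ConjClasses.mk t = C} = 2 := by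
  haveI : Fact (Nat.Prime 2) := ⟨Nat.prime_two⟩
  obtain ⟨-, d, m, a, b, hm, h2n, -, rfl, hab, hX⟩ := setup S hS hn hUS hUab hUcard hQS eQ
  rw [hX] at h₂
  haveI := Subgroup.normal_of_index_eq_two (index_U d)
  have hmem : ∀ s ∈ (S : Subgroup G), ∀ x ∈ up S d.U, s * x * s⁻¹ ∈ up S d.U := by
    rintro s hs _ ⟨x, hx, rfl⟩
    exact ⟨_, Subgroup.Normal.conj_mem inferInstance x hx ⟨s, hs⟩, rfl⟩
  have hconj : ∀ s ∈ (S : Subgroup G), ∀ x ∈ (S : Subgroup G), x ∈ up S d.U ↔ s * x * s⁻¹ ∈ up S d.U := by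
    intro s hs x _
    refine ⟨hmem s hs x, fun h => ?_⟩
    have := hmem s⁻¹ (inv_mem hs) _ h
    simpa [mul_assoc] using this
  have key : ∀ x ∈ (S : Subgroup G), ∀ g : G, g * x * g⁻¹ ∈ (S : Subgroup G) →
      (x ∈ up S d.U ↔ g * x * g⁻¹ ∈ up S d.U) := by
    intro x hx g hg
    refine fusion_rel S d hm h2n (fun a b => a ∈ up S d.U ↔ b ∈ up S d.U) ⟨fun _ => Iff.rfl, Iff.symm, Iff.trans⟩
      hconj ?_ ?_ hx hg
    · intro g' hg' y _
      exact Subgroup.mem_normalizer_iff.mp hg' y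
    · intro a' b' h' g' hg' y hy
      obtain ⟨t, ht, htx⟩ := autFromSylow_Xs S d hm hab h₂ h' g' hg'
      rw [htx y hy]
      exact hconj t ht y (up_le S _ hy)
  refine ⟨?_, ?_⟩
  · obtain ⟨K, hKn, hKS, hK⟩ := exists_normal_inf S (M := up S d.U) (up_le S _) hmem fun x hx g hg => by
      obtain ⟨y, hy⟩ : ∃ y : (S : Subgroup G), (y : G) = x := ⟨⟨x, hx⟩, rfl⟩
      obtain ⟨y', hy'⟩ : ∃ y' : (S : Subgroup G), (y' : G) = g * x * g⁻¹ := ⟨⟨_, hg⟩, rfl⟩
      have hiff := key x hx g hg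
      rw [← hy'] at hiff ⊢
      rw [← hy] at hiff ⊢
      rw [coe_mem_up, coe_mem_up] at hiff
      rw [← Subgroup.coe_inv, ← Subgroup.coe_mul, coe_mem_up]
      exact (Subgroup.mul_mem_iff_of_index_two (index_U d)).mpr (hiff.trans inv_mem_iff.symm)
    have hK2 : K.index = 2 ^ 1 := by rw [hK, Subgroup.relIndex, subgroupOf_up, index_U, pow_one]
    have hUK : up S d.U ≤ K := hKS ▸ inf_le_left
    refine ⟨K, hKn, by rw [hK2, pow_one], hUK, no_index_two_normal S hKS fun H hH => ?_⟩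
    haveI := Subgroup.normal_of_index_eq_two hH
    obtain ⟨g, hodd, hg⟩ := U_commutators S d h₁
    have hgK := odd_mem_normal S (M := up S d.U) hK2 hodd
    have hgH : (⟨g, hgK⟩ : K) ∈ H := mem_of_index_two hH (by rwa [Subgroup.orderOf_mk])
    intro x hx
    obtain ⟨u, hu, e⟩ := hg x hx
    have h3 := mul_mem ((inferInstance : H.Normal).conj_mem _ hgH (⟨u, hUK hu⟩ : K)⁻¹) (inv_mem hgH)
    convert h3 using 1
    refine Subtype.ext ?_
    show x = u⁻¹ * g * u⁻¹⁻¹ * g⁻¹
    rw [e, inv_inv]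
    group
  · have hne : ¬ IsConj ((d.w : (S : Subgroup G)) : G) ((d.z : (S : Subgroup G)) : G) := by
      intro h
      obtain ⟨g, hg⟩ := isConj_iff.mp h
      have h' := (key _ d.w.2 g (by rw [hg]; exact d.z.2)).mp ((coe_mem_up S).mpr (u_mem d _ _))
      rw [hg, coe_mem_up, show d.z = d.v 0 0 by simp [Data.v]] at h'
      exact v_not_mem d 0 0 h'
    refine card_classes _ ![((d.w : (S : Subgroup G)) : G), ((d.z : (S : Subgroup G)) : G)] (fun i => ?_)
      (fun i j h => ?_) fun t ht => ?_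
    · fin_cases i
      · show orderOf ((d.w : (S : Subgroup G)) : G) = 2
        rw [Subgroup.orderOf_coe]; exact (orderOf_half_u d).2
      · show orderOf ((d.z : (S : Subgroup G)) : G) = 2
        rw [Subgroup.orderOf_coe]; exact d.hz
    · fin_cases i <;> fin_cases j
      · rfl
      · exact absurd h hne
      · exact absurd h.symm hne
      · rfl
    · rcases invol_cases S d ht with h | h | h
      · exact ⟨0, h⟩
      · exact ⟨0, h.trans (T0_isConj S d h₁)⟩
      · exact ⟨1, h⟩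

end Cfsg.Agent.S1211
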