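import Cfsg.Statements.S1212
import Cfsg.Agent.Lib.WreathedFusion
import Cfsg.Agent.Lib.Transfer
-- import your own Cfsg.Agent.* helpers here

set_option autoImplicit false
open Cfsg

namespace Cfsg.Agent.S1212

open CfsgLib.Wr CfsgLib.LocalFusion

/-- Let G be a finite group whose Sylow 2-subgroup S is wreathed of order 2^(2n+1), U the commutative subgroup of index 2 in S, Q a quaternion subgroup of order 8 of S and V = Q Z(S). If |N_G(U) : C_G(U)| = 2 and |N_G(V) : V C_G(V)| = 2, then G has a normal 2-complement and exactly three conjugacy classes of involutions. -/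
theorem result {G : Type*} [Group G] [Finite G] (S : Sylow 2 G) (hS : Cfsg.IsWreathed (S : Subgroup G)) (n : ℕ) (hn : Nat.card S = 2 ^ (2 * n + 1)) (U : Subgroup G) (hUS : U ≤ S) (hUab : IsMulCommutative U) (hUcard : Nat.card U = 2 ^ (2 * n)) (Q : Subgroup G) (hQS : Q ≤ S) (eQ : Q ≃* QuaternionGroup 2) (h₁ : (Subgroup.centralizer (U : Set G)).relIndex (Subgroup.normalizer (U : Set G)) = 2) (h₂ : ((Q ⊔ ((Subgroup.center (S : Subgroup G)).map (S : Subgroup G).subtype)) ⊔ Subgroup.centralizer ((Q ⊔ ((Subgroup.center (S : Subgroup G)).map (S : Subgroup G).subtype) : Subgroup G) : Set G)).relIndex (Subgroup.normalizer ((Q ⊔ ((Subgroup.center (S : Subgroup G)).map (S : Subgroup G).subtype) : Subgroup G) : Set G)) = 2) : Cfsg.HasNormalPComplement 2 G ∧ Nat.card {C : ConjClasses G // ∃ t : G, orderOf t = 2 ∧ ConjClasses.mk t = C} = 3 := by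
  haveI : Fact (Nat.Prime 2) := ⟨Nat.prime_two⟩
  obtain ⟨-, d, m, a, b, hm, h2n, -, rfl, hab, hX⟩ := setup S hS hn hUS hUab hUcard hQS eQ
  rw [hX] at h₂
  have ctrl : ∀ x ∈ (S : Subgroup G), ∀ g : G, g * x * g⁻¹ ∈ (S : Subgroup G) →
      ∃ t ∈ (S : Subgroup G), t * x * t⁻¹ = g * x * g⁻¹ := by
    intro x hx g hg
    refine fusion_rel S d hm h2n (fun a b => ∃ s ∈ (S : Subgroup G), s * a * s⁻¹ = b)
      ⟨fun a => ⟨1, one_mem _, by simp⟩, fun {a b} ⟨s, hs, e⟩ => ⟨s⁻¹, inv_mem hs, by simp [← e, mul_assoc]⟩,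
        fun {a b c} ⟨s, hs, e⟩ ⟨t, ht, e'⟩ => ⟨t * s, mul_mem ht hs, by simp [← e', ← e, mul_assoc]⟩⟩
      (fun s hs a _ => ⟨s, hs, rfl⟩) ?_ ?_ hx hg
    · intro g' hg' y hy
      obtain ⟨t, ht, htx⟩ := autFromSylow_U S d h₁ g' hg'
      exact ⟨t, ht, (htx y hy).symm⟩
    · intro a' b' h' g' hg' y hy
      obtain ⟨t, ht, htx⟩ := autFromSylow_Xs S d hm hab h₂ h' g' hg'
      exact ⟨t, ht, (htx y hy).symm⟩
  have conjS : ∀ a b : (S : Subgroup G), IsConj (a : G) (b : G) → IsConj a b := by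
    intro a b h
    obtain ⟨g, hg⟩ := isConj_iff.mp h
    obtain ⟨t, ht, e⟩ := ctrl a a.2 g (hg ▸ b.2)
    exact isConj_iff.mpr ⟨⟨t, ht⟩, Subtype.ext (e.trans hg)⟩
  haveI := Subgroup.normal_of_index_eq_two (index_U d)
  have hzU : d.z ∉ d.U := by rw [show d.z = d.v 0 0 by simp [Data.v]]; exact v_not_mem d 0 0
  have n1 : ¬ IsConj ((d.w : (S : Subgroup G)) : G) ((d.u d.h 0 : (S : Subgroup G)) : G) := by
    intro h
    obtain ⟨c, hc⟩ := isConj_iff.mp (conjS _ _ h)
    rw [Subgroup.mem_center_iff.mp (w_central d) c, mul_inv_cancel_right] at hc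
    exact (half_ne S d).1 hc.symm
  have n2 : ∀ e : (S : Subgroup G), e ∈ d.U → ¬ IsConj (e : G) ((d.z : (S : Subgroup G)) : G) := by
    intro e he h
    obtain ⟨c, hc⟩ := isConj_iff.mp (conjS _ _ h)
    exact hzU (hc ▸ Subgroup.Normal.conj_mem inferInstance e he c)
  refine ⟨CfsgLib.Transfer.hasNormalPComplement_of_control S ctrl, ?_⟩
  refine card_classes _ ![((d.w : (S : Subgroup G)) : G), ((d.u d.h 0 : (S : Subgroup G)) : G),
      ((d.z : (S : Subgroup G)) : G)] (fun i => ?_) (fun i j h => ?_) fun t ht => ?_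
  · fin_cases i
    · show orderOf ((d.w : (S : Subgroup G)) : G) = 2
      rw [Subgroup.orderOf_coe]; exact (orderOf_half_u d).2
    · show orderOf ((d.u d.h 0 : (S : Subgroup G)) : G) = 2
      rw [Subgroup.orderOf_coe]; exact (orderOf_half_u d).1
    · show orderOf ((d.z : (S : Subgroup G)) : G) = 2
      rw [Subgroup.orderOf_coe]; exact d.hz
  · fin_cases i <;> fin_cases j
    · rfl
    · exact absurd h n1
    · exact absurd h (n2 _ (u_mem d _ _))
    · exact absurd h.symm n1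
    · rfl
    · exact absurd h (n2 _ (u_mem d _ _))
    · exact absurd h.symm (n2 _ (u_mem d _ _))
    · exact absurd h.symm (n2 _ (u_mem d _ _))
    · rfl
  · rcases invol_cases S d ht with h | h | h
    exacts [⟨0, h⟩, ⟨1, h⟩, ⟨2, h⟩]

end Cfsg.Agent.S1212
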