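import Cfsg.Statements.S0502
import Cfsg.Agent.Lib.Signalizer.Connectivity
-- import your own Cfsg.Agent.* helpers here

set_option autoImplicit false
open Cfsg

namespace Cfsg.Agent.S0502

/-- If a finite 2-group has a normal elementary abelian subgroup of order at least 8, then any two of its Klein
four-subgroups are joined by a chain of Klein four-subgroups with consecutive members commuting elementwise. -/
theorem result {P : Type*} [Group P] [Finite P] (hP : IsPGroup 2 P)
    (E : Subgroup P) [E.Normal] (hE : IsMulCommutative E) (hE2 : ∀ e ∈ E, e ^ 2 = 1) (hE8 : 8 ≤ Nat.card E) :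
    Cfsg.IsFourConnected P := by
  exact by
    haveI : Fact (Nat.Prime 2) := ⟨Nat.prime_two⟩
    have hconn := CfsgLib.Connectivity.isKConnected_of_normal (p := 2) hP (A := E) ⟨hE, hE2⟩
      (by norm_num; exact hE8)
    have toE : ∀ U : Subgroup P, IsKleinFour U → Cfsg.IsElementaryAbelian 2 U ∧ 2 ^ 2 ≤ Nat.card U := by
      intro U hU
      haveI := hU
      have hsq : ∀ u ∈ U, u * u = 1 := fun u hu => congrArg Subtype.val (IsKleinFour.mul_self (⟨u, hu⟩ : U))
      refine ⟨⟨⟨⟨fun a b => ?_⟩⟩, fun a ha => by rw [pow_two, hsq a ha]⟩, by rw [hU.card_four]; norm_num⟩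
      exact mul_comm_of_exponent_two hU.exponent_two a b
    have toK : ∀ A : Subgroup P, Cfsg.IsElementaryAbelian 2 A → 2 ^ 2 ≤ Nat.card A →
        ∃ U ≤ A, IsKleinFour U := by
      intro A hA hAc
      obtain ⟨k, hk⟩ := (hP.to_subgroup A).exists_card_eq
      obtain ⟨K, hK⟩ := Sylow.exists_subgroup_card_pow_prime (G := A) 2 (n := 2) (by
        rw [hk] at hAc ⊢
        exact Nat.pow_dvd_pow 2 ((Nat.pow_le_pow_iff_right (by norm_num)).1 hAc))
      refine ⟨K.map A.subtype, Subgroup.map_subtype_le K, ?_, ?_⟩
      · rw [Subgroup.card_map_of_injective A.subtype_injective, hK]; norm_num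
      · refine (Nat.prime_two.eq_one_or_self_of_dvd _
          (Monoid.exponent_dvd_of_forall_pow_eq_one fun x =>
            Subtype.ext (hA.2 _ (Subgroup.map_subtype_le K x.2)))).resolve_left fun h => ?_
        haveI := Monoid.exp_eq_one_iff.1 h
        have : Nat.card (K.map A.subtype) = 1 := Nat.card_unique
        rw [Subgroup.card_map_of_injective A.subtype_injective, hK] at this
        omega
    intro U V hU hV
    have h := hconn U V (toE U hU).1 (toE U hU).2 (toE V hV).1 (toE V hV).2
    suffices key : ∀ W : Subgroup P, IsKleinFour W → W ≤ V → Relation.ReflTransGen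
        (fun A B : Subgroup P => IsKleinFour A ∧ IsKleinFour B ∧ ∀ a ∈ A, ∀ b ∈ B, a * b = b * a) U W from
      key V hV le_rfl
    clear hV
    induction h with
    | refl =>
      intro W hW hWU
      exact .single ⟨hU, hW, fun a ha b hb =>
        CfsgLib.Connectivity.mul_comm_of_elem (toE U hU).1 ha (hWU hb)⟩
    | @tail B C _ hBC ih =>
      intro W hW hWC
      obtain ⟨W', hW'B, hW'⟩ := toK B hBC.1 hBC.2.1
      exact (ih W' hW' hW'B).tail ⟨hW', hW, fun a ha b hb => hBC.2.2.2.2 a (hW'B ha) b (hWC hb)⟩

end Cfsg.Agent.S0502
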