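import Cfsg.Statements.S3975
import Mathlib
-- import your own Cfsg.Agent.* helpers here

set_option autoImplicit false
open Cfsg

namespace Cfsg.Agent.S3975

open MulAction Pointwise

universe u

/-- A subset of size equal to the order of a subgroup and invariant under it is a right coset. -/
theorem eq_coset {G : Type u} [Group G] [Finite G] (H : Subgroup G) (S : Set G) {s : G} (hs : s ∈ S)
    (hinv : ∀ h ∈ H, h • S = S) (hcard : Nat.card S = Nat.card H) :
    S = (fun h => h * s) '' (H : Set G) := by
  have hsub : (fun h => h * s) '' (H : Set G) ⊆ S := by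
    rintro _ ⟨h, hh, rfl⟩
    show h * s ∈ S
    rw [← hinv h hh]
    exact Set.smul_mem_smul_set hs
  refine (Set.eq_of_subset_of_ncard_le hsub ?_ (Set.toFinite _)).symm
  rw [Set.ncard_image_of_injective _ (fun a b h => mul_right_cancel h), ← Nat.card_coe_set_eq,
    ← Nat.card_coe_set_eq, hcard]
  rfl

theorem count_mul_index {G : Type u} [Group G] [Finite G] {p β : ℕ} [hp : Fact p.Prime] (M : ℕ)
    (hM : Nat.card G = p ^ β * M) :
    (Nat.card G).choose (p ^ β) ≡ M * Nat.card {H : Subgroup G // Nat.card H = p ^ β} [MOD p * M] := by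
  classical
  have := Fintype.ofFinite G
  have := Fintype.ofFinite (Subgroup G)
  have hM0 : 0 < M := Nat.pos_of_ne_zero fun e => by
    rw [e, mul_zero] at hM; exact (Nat.card_pos (α := G)).ne' hM
  let X := Set.powersetCard G (p ^ β)
  let Ω := {S : Set G // S.ncard = p ^ β}
  let _ : MulAction G Ω :=
    { smul := fun g S => ⟨g • S.1, by rw [Set.ncard_smul_set]; exact S.2⟩
      one_smul := fun S => Subtype.ext (one_smul G S.1)
      mul_smul := fun g h S => Subtype.ext (mul_smul g h S.1) }
  have := Fintype.ofFinite Ω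
  have hΩ : Nat.card Ω = (Nat.card G).choose (p ^ β) := by
    have h1 : Nat.card Ω = ((Finset.univ : Finset G).powersetCard (p ^ β)).card := by
      rw [← Fintype.card_coe, Nat.card_eq_fintype_card]
      refine Fintype.card_congr
        { toFun := fun S => ⟨S.1.toFinset, by
            rw [Finset.mem_powersetCard]
            exact ⟨Finset.subset_univ _, by rw [← Set.ncard_eq_toFinset_card']; exact S.2⟩⟩
          invFun := fun F => ⟨(F.1 : Set G), by
            rw [Set.ncard_coe_finset]; exact (Finset.mem_powersetCard.mp F.2).2⟩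
          left_inv := fun S => Subtype.ext (Set.coe_toFinset _)
          right_inv := fun F => Subtype.ext (by simp) }
    rw [h1, Finset.card_powersetCard, Finset.card_univ, Nat.card_eq_fintype_card]
  let st : Ω → ℕ := fun S => Nat.card (stabilizer G S)
  have hst : ∀ S : Ω, st S ∣ p ^ β := by
    intro S
    -- the stabiliser acts freely on `S`
    let H := stabilizer G S
    have hinv : ∀ h : H, ∀ x ∈ S.1, (h : G) * x ∈ S.1 := by
      intro h x hx
      have h1 : (h : G) • S.1 = S.1 := congrArg Subtype.val h.2
      rw [← h1]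
      exact Set.smul_mem_smul_set hx
    let _ : MulAction H S.1 :=
      { smul := fun h x => ⟨(h : G) * x, hinv h x x.2⟩
        one_smul := fun x => Subtype.ext (one_mul _)
        mul_smul := fun g h x => Subtype.ext (mul_assoc _ _ _) }
    have := Fintype.ofFinite S.1
    have := Fintype.ofFinite H
    have e : Nat.card S.1 = ∑ q : orbitRel.Quotient H S.1, Nat.card H := by
      rw [Nat.card_eq_fintype_card, Fintype.card_congr (selfEquivSigmaOrbits H S.1), Fintype.card_sigma]
      refine Finset.sum_congr rfl fun q _ => ?_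
      rw [← Nat.card_eq_fintype_card]
      refine Nat.card_congr (Equiv.ofBijective (fun h : H => (⟨h • q.out, mem_orbit _ h⟩ : orbit H q.out))
        ⟨fun a b hab => ?_, fun x => ?_⟩).symm
      · have h2 : (a : G) * (q.out : G) = b * (q.out : G) :=
          congrArg (fun z : orbit H q.out => ((z : S.1) : G)) hab
        exact Subtype.ext (mul_right_cancel h2)
      · obtain ⟨h, hh⟩ := x.2
        exact ⟨h, Subtype.ext hh⟩
    have e2 : Nat.card S.1 = p ^ β := by rw [Nat.card_coe_set_eq]; exact S.2
    rw [e2, Finset.sum_const, smul_eq_mul] at e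
    exact Dvd.intro_left _ e.symm
  -- orbits of minimal size
  have horb : ∀ S : Ω, st S ≠ p ^ β → p * M ∣ Nat.card (orbit G S) := by
    intro S hS
    obtain ⟨j, hj, hje⟩ := (Nat.dvd_prime_pow hp.out).mp (hst S)
    have hjβ : j < β := lt_of_le_of_ne hj (fun e => hS (by rw [hje, e]))
    have h1 : Nat.card (orbit G S) * st S = Nat.card G := by
      simp only [st, Nat.card_eq_fintype_card]
      exact MulAction.card_orbit_mul_card_stabilizer_eq_card_group G S
    rw [hje, hM] at h1
    have h2 : Nat.card (orbit G S) = p ^ (β - j) * M := by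
      refine Nat.eq_of_mul_eq_mul_right (pow_pos hp.out.pos j) ?_
      rw [h1, mul_right_comm, ← pow_add, Nat.sub_add_cancel hjβ.le]
    rw [h2]
    exact Nat.mul_dvd_mul_right (dvd_pow_self p (by omega)) M
  -- the rest is a set of cosets
  set A := Finset.univ.filter fun S : Ω => st S = p ^ β with hA
  have hAcard : A.card = M * Nat.card {H : Subgroup G // Nat.card H = p ^ β} := by
    let T := {H : Subgroup G // Nat.card H = p ^ β}
    have key : ∀ (H : T) (g : G), ((fun h => h * g) '' (H.1 : Set G)).ncard = p ^ β := by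
      intro H g
      rw [Set.ncard_image_of_injective _ (fun a b h => mul_right_cancel h)]
      exact (Nat.card_coe_set_eq _).symm.trans H.2
    have hmemst : ∀ (S : Ω) (g : G), g ∈ stabilizer G S ↔ g • S.1 = S.1 := fun S g =>
      ⟨fun h => congrArg Subtype.val h, fun h => Subtype.ext h⟩
    have hstab : ∀ (H : T) (g : G), stabilizer G (⟨_, key H g⟩ : Ω) = H.1 := by
      intro H g
      have hle : H.1 ≤ stabilizer G (⟨_, key H g⟩ : Ω) := by
        intro h hh
        rw [hmemst]
        ext x
        simp only [Set.mem_smul_set, Set.mem_image, SetLike.mem_coe, smul_eq_mul]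
        constructor
        · rintro ⟨y, ⟨k, hk, rfl⟩, rfl⟩
          exact ⟨h * k, mul_mem hh hk, by rw [mul_assoc]⟩
        · rintro ⟨k, hk, rfl⟩
          exact ⟨h⁻¹ * k * g, ⟨h⁻¹ * k, mul_mem (inv_mem hh) hk, rfl⟩, by group⟩
      refine (Subgroup.eq_of_le_of_card_ge hle ?_).symm
      rw [H.2]
      exact Nat.le_of_dvd (pow_pos hp.out.pos β) (hst _)
    let f : (Σ H : T, Quotient (QuotientGroup.rightRel H.1)) → Ω := fun z =>
      ⟨_, key z.1 z.2.out⟩
    have hbij : Nat.card (Σ H : T, Quotient (QuotientGroup.rightRel H.1)) = A.card := by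
      rw [← Fintype.card_coe A, ← Nat.card_eq_fintype_card]
      refine Nat.card_eq_of_bijective (fun z => (⟨f z, Finset.mem_filter.mpr ⟨Finset.mem_univ _, ?_⟩⟩ : A))
        ⟨?_, ?_⟩
      · show Nat.card (stabilizer G (f z)) = p ^ β
        rw [hstab]; exact z.1.2
      · intro z w hzw
        have h1 : f z = f w := congrArg Subtype.val hzw
        have hH : z.1.1 = w.1.1 := by rw [← hstab z.1 z.2.out, ← hstab w.1 w.2.out]; exact congrArg _ h1
        obtain ⟨⟨H, hH'⟩, a⟩ := z
        obtain ⟨⟨K, hK'⟩, b⟩ := w
        dsimp only at hH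
        subst hH
        have h3 : (fun h => h * a.out) '' (H : Set G) = (fun h => h * b.out) '' (H : Set G) :=
          congrArg Subtype.val h1
        have h2 : a.out ∈ (fun h => h * a.out) '' (H : Set G) := ⟨1, one_mem _, one_mul _⟩
        rw [h3] at h2
        obtain ⟨k, hk, hka⟩ := h2
        have : a = b := by
          rw [← Quotient.out_eq a, ← Quotient.out_eq b]
          refine Quotient.sound ?_
          show (QuotientGroup.rightRel H).r a.out b.out
          rw [QuotientGroup.rightRel_apply, ← hka]
          simpa [mul_inv_rev, ← mul_assoc] using inv_mem hk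
        rw [this]
      · rintro ⟨S, hS⟩
        have hS' : Nat.card (stabilizer G S) = p ^ β := (Finset.mem_filter.mp hS).2
        obtain ⟨x, hx⟩ : S.1.Nonempty := by
          rw [← Set.ncard_pos (Set.toFinite _), S.2]; exact pow_pos hp.out.pos β
        refine ⟨⟨⟨stabilizer G S, hS'⟩, Quotient.mk'' x⟩, Subtype.ext (Subtype.ext ?_)⟩
        have hq : (Quotient.mk'' x : Quotient (QuotientGroup.rightRel (stabilizer G S))).out ∈ S.1 := by
          have h3 := Quotient.mk_out (s := QuotientGroup.rightRel (stabilizer G S)) x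
          have h4 := QuotientGroup.rightRel_apply.mp h3
          set o := (Quotient.mk'' x : Quotient (QuotientGroup.rightRel (stabilizer G S))).out
          have h5 : (x * o⁻¹)⁻¹ • S.1 = S.1 := (hmemst _ _).mp (inv_mem h4)
          rw [← h5]
          have := Set.smul_mem_smul_set (a := (x * o⁻¹)⁻¹) hx
          simpa [mul_assoc] using this
        exact (eq_coset (stabilizer G S) S.1 hq (fun h hh => (hmemst _ _).mp hh)
          (by rw [hS', Nat.card_coe_set_eq]; exact S.2)).symm
    rw [← hbij, Nat.card_sigma]
    have hidx : ∀ H : T, Nat.card (Quotient (QuotientGroup.rightRel H.1)) = M := by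
      intro H
      rw [Nat.card_congr (QuotientGroup.quotientRightRelEquivQuotientLeftRel H.1)]
      have := Subgroup.card_mul_index H.1
      rw [H.2, hM] at this
      exact Nat.eq_of_mul_eq_mul_left (pow_pos hp.out.pos β) this
    rw [Finset.sum_congr rfl (fun H _ => hidx H), Finset.sum_const, Finset.card_univ, smul_eq_mul,
      Nat.card_eq_fintype_card, mul_comm]
  have hrest : p * M ∣ (Finset.univ.filter fun S : Ω => ¬ st S = p ^ β).card := by
    rw [Finset.card_eq_sum_card_image (fun S : Ω => orbit G S)]
    refine Finset.dvd_sum fun O hO => ?_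
    obtain ⟨S, hS, rfl⟩ := Finset.mem_image.mp hO
    simp only [Finset.mem_filter, Finset.mem_univ, true_and] at hS
    refine (horb S hS).trans (dvd_of_eq ?_)
    rw [Nat.card_coe_set_eq, Set.ncard_eq_toFinset_card']
    congr 1
    ext T
    simp only [Set.mem_toFinset, Finset.mem_filter, Finset.mem_univ, true_and]
    constructor
    · intro hT
      refine ⟨?_, orbit_eq_iff.mpr hT⟩
      obtain ⟨g, rfl⟩ := hT
      intro hst'
      apply hS
      rw [← hst']
      simp only [st]
      exact Nat.card_congr (MulAction.stabilizerEquivStabilizer (g := g) (a := S) (b := g • S) rfl).toEquiv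
    · rintro ⟨-, hT⟩
      rw [← hT]
      exact mem_orbit_self T
  rw [← hΩ, Nat.card_eq_fintype_card, ← Finset.card_univ,
    ← Finset.card_filter_add_card_filter_not (s := Finset.univ) (fun S : Ω => st S = p ^ β), ← hA,
    hAcard]
  conv_rhs => rw [← add_zero (M * _)]
  exact Nat.ModEq.add_left _ (Nat.modEq_zero_iff_dvd.mpr hrest)

theorem cyclic_count {n d : ℕ} [NeZero n] (hd : d ∣ n) :
    Nat.card {H : Subgroup (Multiplicative (ZMod n)) // Nat.card H = d} = 1 := by
  classical
  have hn : Nat.card (Multiplicative (ZMod n)) = n := by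
    rw [Nat.card_congr Multiplicative.toAdd, Nat.card_zmod]
  have : Finite (Multiplicative (ZMod n)) := Finite.of_equiv _ Multiplicative.ofAdd
  rw [Nat.card_eq_one_iff_unique]
  have := Fintype.ofFinite (Multiplicative (ZMod n))
  have hd0 : 0 < d := Nat.pos_of_ne_zero fun e => NeZero.ne n (Nat.eq_zero_of_zero_dvd (e ▸ hd))
  let Kd := (powMonoidHom d : Multiplicative (ZMod n) →* Multiplicative (ZMod n)).ker
  have hKd : Nat.card Kd ≤ d := by
    rw [Nat.card_eq_fintype_card, Fintype.card_subtype]
    refine le_trans (le_of_eq ?_) (IsCyclic.card_pow_eq_one_le (α := Multiplicative (ZMod n)) hd0)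
    congr 1
    ext x
    simp [Kd]
  have huniq : ∀ H : {H : Subgroup (Multiplicative (ZMod n)) // Nat.card H = d}, H.1 = Kd := fun H =>
    Subgroup.eq_of_le_of_card_ge
      (fun x hx => MonoidHom.mem_ker.mpr (orderOf_dvd_iff_pow_eq_one.mp
        ((Subgroup.orderOf_dvd_natCard H.1 hx).trans H.2.dvd)))
      (by rw [H.2]; exact hKd)
  refine ⟨⟨fun H K => Subtype.ext ((huniq H).trans (huniq K).symm)⟩, ?_⟩
  obtain ⟨g, hg⟩ := IsCyclic.exists_generator (α := Multiplicative (ZMod n))
  have ho : orderOf g = n := by rw [orderOf_eq_card_of_forall_mem_zpowers hg, hn]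
  refine ⟨⟨Subgroup.zpowers (g ^ (n / d)), ?_⟩⟩
  rw [Nat.card_zpowers, orderOf_pow, ho, Nat.gcd_eq_right (Nat.div_dvd_of_dvd hd),
    Nat.div_div_self hd (NeZero.ne n)]

/-- Let `p` be a prime and `G` a finite group whose order is divisible by `p ^ β`. Then the number of subgroups of `G` of order `p ^ β` is congruent to `1` modulo `p`. (When `p ^ β` is the full power of `p` dividing the order, these are the Sylow `p`-subgroups and this is the usual Sylow count.) -/
theorem result {G : Type*} [Group G] [Finite G] (p β : ℕ) (hp : p.Prime) (hdiv : p ^ β ∣ Nat.card G) : Nat.card {H : Subgroup G // Nat.card H = p ^ β} ≡ 1 [MOD p] := by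
  have := Fact.mk hp
  obtain ⟨M, hM⟩ := hdiv
  have hn : NeZero (Nat.card G) := ⟨Nat.card_pos.ne'⟩
  have : Finite (Multiplicative (ZMod (Nat.card G))) := Finite.of_equiv _ Multiplicative.ofAdd
  have hc : Nat.card (Multiplicative (ZMod (Nat.card G))) = Nat.card G := by
    rw [Nat.card_congr Multiplicative.toAdd, Nat.card_zmod]
  have h1 := count_mul_index (G := G) M hM
  have h2 := count_mul_index (G := Multiplicative (ZMod (Nat.card G))) (p := p) (β := β) M (hc.trans hM)
  rw [hc, cyclic_count ⟨M, hM⟩] at h2
  have h3 := h1.symm.trans h2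
  have hM0 : M ≠ 0 := fun e => hn.out (by rw [hM, e, mul_zero])
  rw [mul_comm p M] at h3
  exact Nat.ModEq.mul_left_cancel' hM0 h3

end Cfsg.Agent.S3975
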