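import Cfsg.Statements.S1697
import Cfsg.Agent.Lib.CosetEnum.Simple
import Cfsg.Agent.Lib.CosetEnum.Fi31671.Main
import Cfsg.Agent.Lib.CosetEnum.Fi23Chain.Levels
import Cfsg.Agent.Lib.CosetEnum.Fi23Chain.Zq
import Cfsg.Agent.Lib.CosetEnum.Fi23A.Main
import Cfsg.Agent.Lib.CosetEnum.Fi23B.Main
import Cfsg.Agent.Lib.CosetEnum.Fi23C.Main
import Cfsg.Agent.Lib.CosetEnum.Fi23D.Main
import Cfsg.Agent.Lib.CosetEnum.Fi23E.Main
import Cfsg.Agent.Lib.CosetEnum.Fi23F.Main
import Cfsg.Agent.Lib.CosetEnum.Fi23Z.Main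

set_option autoImplicit false
set_option maxRecDepth 1000000
open Cfsg CfsgLib.CosetEnum

namespace Cfsg.Agent.S1697

theorem upper : Finite presFi23.Grp ∧ Nat.card presFi23.Grp ≤ 4089470473293004800 := by
  have h0 := presFi23.card_step Fi23F.sheet Fi23F.sel rfl [] presFi23.der_nil (by decide +kernel) (by decide +kernel)
    (wordsSub_nil _)
  have h1 := presFi23.card_step Fi23E.sheet Fi23E.sel rfl [] presFi23.der_nil (by decide +kernel)
    (by decide +kernel) h0
  have h2 := presFi23.card_step Fi23D.sheet Fi23D.sel rfl [] presFi23.der_nil (by decide +kernel)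
    (by decide +kernel) h1
  have h3 := presFi23.card_step Fi23C.sheet Fi23C.sel rfl [] presFi23.der_nil (by decide +kernel)
    (by decide +kernel) h2
  have h4 := presFi23.card_step Fi23B.sheet Fi23B.sel rfl [] presFi23.der_nil (by decide +kernel)
    (by decide +kernel) h3
  have h5 := presFi23.card_step Fi23A.sheet Fi23A.sel rfl [] presFi23.der_nil (by decide +kernel)
    (by decide +kernel) h4
  exact Fi31671.cert.card_top Fi31671.hlt (by decide) Fi31671.hhw h5

theorem lower [Finite presFi23.Grp] {K : ℕ}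
    (h : K ≤ Nat.card (Fi31671.cert.fixSub Fi31671.hlt [1, 6, 2, 7, 0, 3, 4, 8])) :
    4089470473293004800 * K ≤ Nat.card (Fi31671.cert.fixSub Fi31671.hlt []) := by
  have hid : ∀ i < presFi23.k, presFi23.idx (presFi23.gen i) = i := by decide
  have h7 := Fi31671.cert.level_step Fi31671.hlt hid [1, 6, 2, 7, 0, 3, 4] Fi23Chain.lev7 Fi23Chain.lev7_ok
    (show 8 < 31671 by decide) h
  have h6 := Fi31671.cert.level_step Fi31671.hlt hid [1, 6, 2, 7, 0, 3] Fi23Chain.lev6 Fi23Chain.lev6_ok
    (show 4 < 31671 by decide) h7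
  have h5 := Fi31671.cert.level_step Fi31671.hlt hid [1, 6, 2, 7, 0] Fi23Chain.lev5 Fi23Chain.lev5_ok
    (show 3 < 31671 by decide) h6
  have h4 := Fi31671.cert.level_step Fi31671.hlt hid [1, 6, 2, 7] Fi23Chain.lev4 Fi23Chain.lev4_ok
    (show 0 < 31671 by decide) h5
  have h3 := Fi31671.cert.level_step Fi31671.hlt hid [1, 6, 2] Fi23Chain.lev3 Fi23Chain.lev3_ok
    (show 7 < 31671 by decide) h4
  have h2 := Fi31671.cert.level_step Fi31671.hlt hid [1, 6] Fi23Chain.lev2 Fi23Chain.lev2_ok
    (show 2 < 31671 by decide) h3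
  have h1 := Fi31671.cert.level_step Fi31671.hlt hid [1] Fi23Chain.lev1 Fi23Chain.lev1_ok
    (show 6 < 31671 by decide) h2
  have h0 := Fi31671.cert.level_step Fi31671.hlt hid [] Fi23Chain.lev0 Fi23Chain.lev0_ok
    (show 1 < 31671 by decide) h1
  refine le_trans (le_of_eq ?_) h0
  show _ = (31671 * (28160 * (3159 * (630 * (48 * (6 * (4 * (2 * K))))))))
  ring

/-- The presented Fischer group Fi23 is simple of the expected order (that is, it is a simple group of the order of the Fischer group Fi₂₃). -/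
theorem result : Cfsg.IsFi23 Cfsg.Spor.Fi23 := by
  have : Finite presFi23.Grp := upper.1
  have hlow := Fi31671.cert.card_le_of_fixSub Fi31671.hlt
    (lower (Fi31671.cert.ker_le_fixSub Fi31671.hlt _))
  have hinj : Function.Injective (Fi31671.cert.hom Fi31671.hlt) :=
    Fi31671.cert.hom_injective Fi31671.hlt hlow upper.2
  have hcard : Nat.card presFi23.Grp = 4089470473293004800 :=
    le_antisymm upper.2 ((Nat.le_mul_of_pos_right _ Nat.card_pos).trans hlow)
  show IsSimpleGroup presFi23.Grp ∧ Nat.card presFi23.Grp = 4089470473293004800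
  exact ⟨Fi31671.cert.isSimple Fi31671.hlt (by decide) Fi31671.hhw hinj Fi31671.orb Fi31671.roots Fi31671.hwR
    (by decide +kernel) Fi31671.orbs [1, 28160, 3510] (by decide +kernel) (by decide +kernel) (by decide +kernel) rfl
    (by decide +kernel) (q := 17) (show 1 < 31671 by decide) (by rw [hcard]; decide +kernel)
    [5, 7, 3, 1, 6, 4, 1, 0, 5, 8, 2, 5, 4, 7, 4, 1, 7] (by decide +kernel) Fi23Chain.zq Fi23Z.sheet rfl rfl rfl
    (by decide +kernel), hcard⟩

end Cfsg.Agent.S1697
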