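import Cfsg.Statements.S0303
import Mathlib
import Cfsg.Agent.Lib.ExceptionalIso
import Cfsg.Agent.Lib.Plucker
import Cfsg.Agent.Lib.QuadExt
import Cfsg.Agent.Lib.StdQuadForms
import Cfsg.Agent.Lib.SpinorMatrix
import Cfsg.Agent.Lib.UnitarySimple
import Cfsg.Agent.Lib.UnitaryOrder

set_option autoImplicit false
open Cfsg

namespace Cfsg.Agent.S0303

open Matrix CfsgLib

variable {K : Type*} [Field K]

/-- The Hermitian product of Plücker coordinates, written with matrices. -/
def hform (σ : K →+* K) (u v : Fin 3 ⊕ Fin 3 → K) : K :=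
  (Plucker.U u * ((Plucker.toA v).map σ)ᵀ).trace

theorem hform_eq (σ : K →+* K) (u v : Fin 3 ⊕ Fin 3 → K) :
    hform σ u v = ∑ i, u (Sum.inl i) * σ (v (Sum.inl i)) + ∑ i, u (Sum.inr i) * σ (v (Sum.inr i)) := by
  simp only [hform, Matrix.trace, Matrix.diag_apply, Matrix.mul_apply, Matrix.transpose_apply, Matrix.map_apply,
    Fin.sum_univ_four, Fin.sum_univ_three]
  simp [Plucker.U, Plucker.toA]
  ring

theorem trace_symm_alt (σ : K →+* K) (S : Matrix (Fin 4) (Fin 4) K) (hS : Sᵀ = S)
    (v : Fin 3 ⊕ Fin 3 → K) : (S * ((Plucker.toA v).map σ)ᵀ).trace = 0 := by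
  have e : ∀ i j, S j i = S i j := fun i j => congrFun (congrFun hS i) j
  simp [Plucker.U, Plucker.toA, Matrix.trace, Matrix.mul_apply, Fin.sum_univ_succ,
    e 0 1, e 0 2, e 0 3, e 1 2, e 1 3, e 2 3]
  ring

theorem hform_T (σ : K →+* K) {g : Matrix (Fin 4) (Fin 4) K} (hg : gᵀ * g.map σ = 1)
    (u v : Fin 3 ⊕ Fin 3 → K) : hform σ (Plucker.T g u) (Plucker.T g v) = hform σ u v := by
  set A := (Plucker.toA v).map σ
  set S := Plucker.U (Plucker.T g u) - g * Plucker.U u * gᵀ with hS'
  have hS : Sᵀ = S := by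
    have e : Plucker.U (Plucker.T g u) - (Plucker.U (Plucker.T g u))ᵀ =
        g * Plucker.U u * gᵀ - (g * Plucker.U u * gᵀ)ᵀ := by
      rw [show Plucker.U (Plucker.T g u) - (Plucker.U (Plucker.T g u))ᵀ = Plucker.toA (Plucker.T g u) from rfl,
        Plucker.toA_T, Plucker.toA, Matrix.mul_sub, Matrix.sub_mul]
      simp only [Matrix.transpose_mul, Matrix.transpose_transpose, Matrix.mul_assoc]
    rw [hS', Matrix.transpose_sub]
    exact (sub_eq_sub_iff_sub_eq_sub.1 e).symm
  have h0 := trace_symm_alt σ S hS (Plucker.T g v)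
  rw [hS', Matrix.sub_mul, Matrix.trace_sub, sub_eq_zero] at h0
  rw [hform, h0, Plucker.toA_T, Matrix.map_mul, Matrix.map_mul, Matrix.transpose_map,
    Matrix.transpose_mul, Matrix.transpose_mul, Matrix.transpose_transpose, hform]
  have hg' : (g.map σ)ᵀ * g = 1 := by
    have := congrArg Matrix.transpose hg
    rwa [Matrix.transpose_mul, Matrix.transpose_transpose, Matrix.transpose_one] at this
  calc (g * Plucker.U u * gᵀ * (g.map σ * (Aᵀ * (g.map σ)ᵀ))).trace
      = (g * (Plucker.U u * (gᵀ * g.map σ) * Aᵀ * (g.map σ)ᵀ)).trace := by simp only [Matrix.mul_assoc]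
    _ = (Plucker.U u * Aᵀ * ((g.map σ)ᵀ * g)).trace := by
      rw [Matrix.trace_mul_comm, hg, Matrix.mul_one, Matrix.mul_assoc]
    _ = (Plucker.U u * Aᵀ).trace := by rw [hg', Matrix.mul_one]

theorem norm_surj {F : Type*} [Field F] [Fintype F] [Fintype K] {q : ℕ} {a b : F}
    (hF : Fintype.card F = q) (hK : Fintype.card K = q ^ 2)
    (D : QuadExt.Data (K := K) a b) (hσ : ∀ x, D.σ x = x ^ q) (c : F) :
    ∃ x : K, x * D.σ x = D.i c := by
  classical
  by_cases hc : c = 0
  · exact ⟨0, by simp [hc]⟩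
  have hq : 2 ≤ q := hF ▸ Fintype.one_lt_card
  have hN : ∀ x : K, ∃ r : F, D.i r = x * D.σ x := fun x => by
    refine (D.fixed _).1 ?_
    rw [map_mul, D.sq, mul_comm]
  choose N hN using hN
  have hN0 : ∀ x : Kˣ, N x ≠ 0 := fun x h => by
    have := hN x
    rw [h, map_zero, hσ] at this
    exact (mul_ne_zero x.ne_zero (pow_ne_zero _ x.ne_zero)) this.symm
  let φ : Kˣ →* Fˣ :=
    { toFun := fun x => Units.mk0 (N x) (hN0 x)
      map_one' := Units.ext (D.i.injective (by simp [hN]))
      map_mul' := fun x y => Units.ext (D.i.injective (by simp [hN]; ring)) }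
  have hker : Nat.card φ.ker ≤ q + 1 := by
    have hle : φ.ker ≤ (powMonoidHom (q + 1) : Kˣ →* Kˣ).ker := fun x hx => by
      have h1 : N x = 1 := congrArg Units.val (MonoidHom.mem_ker.1 hx)
      have h2 := hN x
      rw [h1, map_one, hσ, ← pow_succ'] at h2
      exact MonoidHom.mem_ker.2 (Units.ext (by simpa using h2.symm))
    refine (Subgroup.card_le_of_le hle).trans ?_
    rw [IsCyclic.card_powMonoidHom_ker, Nat.gcd_comm]
    exact Nat.le_of_dvd (by omega) (Nat.gcd_dvd_left _ _)
  have hsurj : Function.Surjective φ := by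
    rw [← MonoidHom.range_eq_top]
    refine Subgroup.eq_top_of_le_card _ ?_
    have h1 := Subgroup.card_mul_index φ.ker
    rw [Subgroup.index_ker] at h1
    rw [Nat.card_units, Nat.card_eq_fintype_card, hF]
    rw [Nat.card_units, Nat.card_eq_fintype_card (α := K), hK] at h1
    have h2 : (q + 1) * (q - 1) ≤ (q + 1) * Nat.card φ.range := by
      refine le_trans (le_of_eq ?_) (Nat.mul_le_mul_right _ hker)
      rw [h1, ← Nat.sq_sub_sq, one_pow]
    exact Nat.le_of_mul_le_mul_left h2 (by omega)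
  obtain ⟨x, hx⟩ := hsurj (Units.mk0 c hc)
  exact ⟨x, by rw [← hN, show N x = c from congrArg Units.val hx]⟩

set_option maxHeartbeats 2000000 in
theorem omega6minus {F K : Type*} [Field F] [Fintype F] [Field K] [Fintype K] {q : ℕ}
    (hF : Fintype.card F = q) (hK : Fintype.card K = q ^ 2) (a b : F)
    (hab : ∀ z₁ z₂ : F, z₁ ^ 2 + a * z₁ * z₂ + b * z₂ ^ 2 = 0 → z₁ = 0 ∧ z₂ = 0) :
    Nonempty (Cfsg.POmega F (Cfsg.quadFormMinus 2 F a b) ≃* Cfsg.PSU 4 K q) := by
  classical
  have hq2 : 2 ≤ q := hF ▸ Fintype.one_lt_card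
  obtain ⟨D, hσ⟩ := QuadExt.exists_data hF hK a b hab
  letI := D.i.toAlgebra
  have hsm : ∀ (r : F) (x : K), r • x = D.i r * x := fun r x => rfl
  have hfixi : ∀ {x : K}, D.σ x = x → ∃ r, D.i r = x := fun h => (D.fixed _).1 h
  have hτ : D.σ D.τ ≠ D.τ := fun h => by
    obtain ⟨r, hr⟩ := hfixi h
    exact one_ne_zero (D.coord_inj hab (z₀ := 0) (z₁ := 1) (y₀ := r) (y₁ := 0) (by simp [hr])).2
  -- trace one, norm minus one
  obtain ⟨κ, hκ⟩ : ∃ κ : K, κ + D.σ κ = 1 := by
    obtain ⟨z, hz⟩ : ∃ z : K, z + D.σ z ≠ 0 := by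
      by_cases h2 : (2 : F) = 0
      · exact ⟨D.τ, by rw [D.trace]; exact (map_ne_zero D.i).2 (OrthOrder.bin_a_ne_zero hab h2)⟩
      · refine ⟨1, ?_⟩
        rw [map_one, one_add_one_eq_two, ← map_ofNat D.i]
        exact (map_ne_zero D.i).2 h2
    refine ⟨z / (z + D.σ z), ?_⟩
    rw [map_div₀, map_add, D.sq, add_comm (D.σ z) z, ← add_div, div_self hz]
  obtain ⟨lam, hlam⟩ := norm_surj hF hK D hσ (-1)
  rw [map_neg, map_one] at hlam
  have hlam0 : lam ≠ 0 := fun h => by rw [h, zero_mul] at hlam; exact one_ne_zero (neg_eq_zero.1 hlam.symm)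
  -- coordinates
  choose c hc using D.coord
  have hcadd : ∀ x y, c (x + y) = c x + c y := fun x y => by
    have h := D.coord_inj hab (z₀ := c (x + y) 0) (z₁ := c (x + y) 1) (y₀ := c x 0 + c y 0) (y₁ := c x 1 + c y 1)
      (by rw [← hc, map_add, map_add]; nth_rw 1 [hc x, hc y]; ring)
    funext i; fin_cases i
    exacts [h.1, h.2]
  have hcsmul : ∀ (r : F) x, c (D.i r * x) = r • c x := fun r x => by
    have h := D.coord_inj hab (z₀ := c (D.i r * x) 0) (z₁ := c (D.i r * x) 1) (y₀ := r * c x 0) (y₁ := r * c x 1)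
      (by rw [← hc, map_mul, map_mul]; nth_rw 1 [hc x]; ring)
    funext i; fin_cases i
    exacts [h.1, h.2]
  have htr : ∀ x : K, ∃ r : F, D.i r = x + D.σ x := fun x => hfixi (by rw [map_add, D.sq, add_comm])
  choose Tr hTr using htr
  let W : (Fin 3 → K) → K := fun x => x 0 - x 1 / lam
  let Y : (Fin 3 → K) → K := fun x => x 1 / lam + κ * W x
  let Ψ : (Fin 3 → K) →ₗ[F] ((Fin 2 ⊕ Fin 2) ⊕ Fin 2 → F) :=
    { toFun := fun x => Sum.elim (Sum.elim (c (W x)) ![Tr (D.σ (Y x)), Tr (D.τ * D.σ (Y x))]) (c (x 2))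
      map_add' := fun x y => by
        have hW : W (x + y) = W x + W y := by simp only [W, Pi.add_apply]; ring
        have hY : Y (x + y) = Y x + Y y := by simp only [Y, hW, Pi.add_apply]; ring
        funext s
        rcases s with (s | s) | s
        · simp [hW, hcadd]
        · fin_cases s <;> refine D.i.injective ?_ <;> simp [hTr, hY] <;> ring
        · simp [hcadd]
      map_smul' := fun r x => by
        have hW : W (r • x) = D.i r * W x := by simp only [W, Pi.smul_apply, hsm]; ring
        have hY : Y (r • x) = D.i r * Y x := by simp only [Y, hW, Pi.smul_apply, hsm]; ring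
        funext s
        rcases s with (s | s) | s
        · simp [hW, hcsmul]
        · fin_cases s <;> refine D.i.injective ?_ <;> simp [hTr, hY, D.σ_i] <;> ring
        · simp [hsm, hcsmul] }
  let f := Cfsg.quadFormMinus 2 F a b
  have hval : ∀ x : Fin 3 → K, D.i (f (Ψ x)) = ∑ i, x i * D.σ (x i) := by
    intro x
    have hx2 : x 2 * D.σ (x 2) = D.i (c (x 2) 0 ^ 2 + a * c (x 2) 0 * c (x 2) 1 + b * c (x 2) 1 ^ 2) := by
      rw [← D.norm_coord, ← hc]
    have hW := hc (W x)
    have hx0 : x 0 = x 1 / lam + W x := by simp [W]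
    have hy : Y x = x 1 / lam + κ * W x := rfl
    have hx1 : x 1 = lam * (x 1 / lam) := by rw [mul_div_cancel₀ _ hlam0]
    have hσw : D.σ (W x) = D.i (c (W x) 0) + D.i (c (W x) 1) * D.σ D.τ := by
      nth_rw 1 [hW]; simp [D.σ_i]
    simp only [f, Cfsg.quadFormMinus, Ψ, LinearMap.coe_mk, AddHom.coe_mk, Fin.sum_univ_two, Fin.sum_univ_three,
      Sum.elim_inl, Sum.elim_inr, Matrix.cons_val_zero, Matrix.cons_val_one]
    rw [map_add, map_add, map_mul, map_mul, hTr, hTr, ← hx2]
    have hN1 : x 1 * D.σ (x 1) = lam * D.σ lam * (x 1 / lam * D.σ (x 1 / lam)) := by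
      nth_rw 1 [hx1]; nth_rw 2 [hx1]; rw [map_mul]; ring
    rw [hN1, hx0, hy]
    generalize x 1 / lam = y at hy ⊢
    generalize W x = w at hW hσw ⊢
    simp only [map_add, map_mul, D.sq]
    linear_combination (-(y * D.σ y)) * hlam + (w * D.σ w) * hκ - (D.σ y + D.σ κ * D.σ w) * hW -
      (y + κ * w) * hσw
  have hΨinj : Function.Injective Ψ := by
    rw [← LinearMap.ker_eq_bot, eq_bot_iff]
    intro x hx
    have hx' : Ψ x = 0 := LinearMap.mem_ker.1 hx
    have h0 : c (W x) = 0 := funext fun i => congrFun hx' (Sum.inl (Sum.inl i))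
    have h2 : c (x 2) = 0 := funext fun i => congrFun hx' (Sum.inr i)
    have hW0 : W x = 0 := by rw [hc (W x), h0]; simp
    have hx20 : x 2 = 0 := by rw [hc (x 2), h2]; simp
    have t0 : D.σ (Y x) + Y x = 0 := by
      have := congrArg D.i (congrFun hx' (Sum.inl (Sum.inr 0)))
      simpa [Ψ, hTr, D.sq] using this
    have t1 : D.τ * D.σ (Y x) + D.σ D.τ * Y x = 0 := by
      have := congrArg D.i (congrFun hx' (Sum.inl (Sum.inr 1)))
      simpa [Ψ, hTr, D.sq] using this
    have hY0 : Y x = 0 := mul_left_cancel₀ (sub_ne_zero.2 hτ) (by linear_combination t1 - D.τ * t0)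
    have hx1 : x 1 = 0 := by
      simp only [Y, hW0, mul_zero, add_zero, div_eq_zero_iff] at hY0
      exact hY0.resolve_right hlam0
    have hx0 : x 0 = 0 := by simpa [W, hx1] using hW0
    rw [Submodule.mem_bot]
    funext i; fin_cases i
    exacts [hx0, hx1, hx20]
  have hΨ : Function.Bijective Ψ := by
    refine ⟨hΨinj, ((Fintype.bijective_iff_injective_and_card _).2 ⟨hΨinj, ?_⟩).2⟩
    simp [hF, hK, ← pow_mul]
  let E := LinearEquiv.ofBijective Ψ hΨ
  -- the fixed space
  let emb : (Fin 3 → K) → (Fin 3 ⊕ Fin 3 → K) := fun x => Sum.elim x fun i => D.σ (x i)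
  have hQemb : ∀ x, Cfsg.quadFormPlus 3 K (emb x) = ∑ i, x i * D.σ (x i) := fun x => by
    simp [Cfsg.quadFormPlus, emb]
  let G := Cfsg.SU 4 K q
  let M : G → Matrix (Fin 4) (Fin 4) K := UnitarySimple.mat
  have hMmul : ∀ g h : G, M (g * h) = M g * M h := fun g h => rfl
  have hMdet : ∀ g : G, (M g).det = 1 := fun g => g.1.2
  have hMu : ∀ g : G, (M g)ᵀ * (M g).map D.σ = 1 := fun g => by
    ext i j
    have h := UnitarySimple.su_h g (Pi.single i 1) (Pi.single j 1)
    rw [Cfsg.hermForm, Cfsg.hermForm] at h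
    simp only [Matrix.mulVec_single_one, Matrix.col_apply, Pi.single_apply] at h
    rw [Matrix.mul_apply]
    simp only [Matrix.transpose_apply, Matrix.map_apply, hσ]
    rw [show (∑ k, M g k i * M g k j ^ q) = _ from h]
    by_cases hij : i = j
    · subst hij
      simp [Matrix.one_apply_eq, zero_pow (show q ≠ 0 by omega)]
    · simp [Matrix.one_apply_ne hij, zero_pow (show q ≠ 0 by omega), hij, Ne.symm hij]
  have hchar : ∀ u : Fin 3 ⊕ Fin 3 → K, (∀ v, QuadraticMap.polar (Lagrangian.Qp 3 K) u v = hform D.σ v u) →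
      ∀ i, u (Sum.inr i) = D.σ (u (Sum.inl i)) := by
    intro u hu i
    have := hu (Pi.single (Sum.inl i) 1)
    rw [hform_eq] at this
    fin_cases i <;>
      simpa [QuadraticMap.polar, Lagrangian.Qp_apply, Cfsg.quadFormPlus, Fin.sum_univ_three, Pi.single_apply,
        mul_add, add_mul] using this
  have hinv : ∀ (g : G) x, ∀ i, Plucker.T (M g) (emb x) (Sum.inr i) = D.σ (Plucker.T (M g) (emb x) (Sum.inl i)) := by
    intro g x
    refine hchar _ fun v => ?_
    obtain ⟨w, rfl⟩ : ∃ w, Plucker.T (M g) w = v := ⟨Plucker.T (M g⁻¹) v, by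
      rw [← LinearMap.comp_apply, ← Plucker.T_mul, ← hMmul, mul_inv_cancel,
        show M (1 : G) = 1 from rfl, Plucker.T_one]; rfl⟩
    rw [hform_T D.σ (hMu g)]
    have hp : ∀ u, Lagrangian.Qp 3 K (Plucker.T (M g) u) = Lagrangian.Qp 3 K u := fun u => by
      rw [Lagrangian.Qp_apply, Lagrangian.Qp_apply, Plucker.form_T, hMdet, one_mul]
    rw [QuadraticMap.polar, ← map_add, hp, hp, hp, ← QuadraticMap.polar, hform_eq]
    simp only [QuadraticMap.polar, Lagrangian.Qp_apply, Cfsg.quadFormPlus, emb, Pi.add_apply, Sum.elim_inl,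
      Sum.elim_inr, D.sq, Fin.sum_univ_three]
    ring
  let R : G → (Fin 3 → K) →ₗ[F] (Fin 3 → K) := fun g =>
    { toFun := fun x i => Plucker.T (M g) (emb x) (Sum.inl i)
      map_add' := fun x y => by
        have : emb (x + y) = emb x + emb y := by
          funext s; rcases s with s | s <;> simp [emb]
        funext i; simp [this]
      map_smul' := fun r x => by
        have : emb (r • x) = D.i r • emb x := by
          funext s; rcases s with s | s <;> simp [emb, hsm, D.σ_i]
        funext i; simp [this, hsm] }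
  have hR : ∀ g x, emb (R g x) = Plucker.T (M g) (emb x) := fun g x => by
    funext s
    rcases s with s | s
    · rfl
    · exact (hinv g x s).symm
  have hembinj : Function.Injective emb := fun x y h => funext fun i => congrFun h (Sum.inl i)
  let T' : G → ((Fin 2 ⊕ Fin 2) ⊕ Fin 2 → F) →ₗ[F] ((Fin 2 ⊕ Fin 2) ⊕ Fin 2 → F) := fun g =>
    E.toLinearMap ∘ₗ R g ∘ₗ E.symm.toLinearMap
  have h1 : T' 1 = LinearMap.id := LinearMap.ext fun v => by
    show E (R 1 (E.symm v)) = v
    rw [show R 1 (E.symm v) = E.symm v from hembinj (by rw [hR, show M (1 : G) = 1 from rfl, Plucker.T_one]; rfl),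
      LinearEquiv.apply_symm_apply]
  have hmul : ∀ g h, T' (g * h) = T' g ∘ₗ T' h := fun g h => LinearMap.ext fun v => by
    show E (R (g * h) (E.symm v)) = E (R g (E.symm (E (R h (E.symm v)))))
    rw [LinearEquiv.symm_apply_apply]
    refine congrArg E (hembinj ?_)
    rw [hR, hR, hR, hMmul, Plucker.T_mul]
    rfl
  have hQ : ∀ g v, f (T' g v) = f v := fun g v => by
    obtain ⟨x, rfl⟩ := E.surjective v
    refine D.i.injective ?_
    show D.i (f (Ψ (R g (E.symm (E x))))) = D.i (f (Ψ x))
    rw [LinearEquiv.symm_apply_apply, hval, hval, ← hQemb, ← hQemb, hR, Plucker.form_T, hMdet, one_mul]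
  set φ := ExceptionalIso.homOfAct f T' h1 hmul hQ
  have hker : ∀ g : G, g ∈ φ.ker ↔ ∃ r : K, r * r = 1 ∧ M g = Matrix.scalar (Fin 4) r := by
    intro g
    rw [MonoidHom.mem_ker, ExceptionalIso.homOfAct_eq_one,
      ← Plucker.T_eq_id_iff (by rw [hMdet]; exact one_ne_zero)]
    constructor
    · intro h
      have hfix : ∀ x, Plucker.T (M g) (emb x) = emb x := fun x => by
        have := LinearMap.congr_fun h (E x)
        rw [show T' g (E x) = E (R g (E.symm (E x))) from rfl, LinearEquiv.symm_apply_apply] at this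
        rw [← hR, E.injective this]
      have hne : D.τ - D.σ D.τ ≠ 0 := sub_ne_zero.2 hτ.symm
      refine LinearMap.ext fun v => ?_
      have hbasis : ∀ s, Plucker.T (M g) (Pi.single s 1) = Pi.single s 1 := by
        intro s
        rcases s with s | s
        · have hd : (Pi.single (Sum.inl s) 1 : Fin 3 ⊕ Fin 3 → K) =
              (D.τ - D.σ D.τ)⁻¹ • (emb (Pi.single s D.τ) - D.σ D.τ • emb (Pi.single s 1)) := by
            funext t
            rcases t with t | t <;> by_cases e : t = s
            · subst e; simp [emb]; field_simp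
            · simp [emb, e]
            · subst e; simp [emb]
            · simp [emb, e]
          rw [hd, map_smul, map_sub, map_smul, hfix, hfix]
        · have hd : (Pi.single (Sum.inr s) 1 : Fin 3 ⊕ Fin 3 → K) =
              (D.τ - D.σ D.τ)⁻¹ • (D.τ • emb (Pi.single s 1) - emb (Pi.single s D.τ)) := by
            funext t
            rcases t with t | t <;> by_cases e : t = s
            · subst e; simp [emb]
            · simp [emb, e]
            · subst e; simp [emb]; field_simp
            · simp [emb, e]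
          rw [hd, map_smul, map_sub, map_smul, hfix, hfix]
      rw [LinearMap.id_apply, pi_eq_sum_univ' v, map_sum]
      exact Finset.sum_congr rfl fun s _ => by rw [map_smul, hbasis]
    · intro h
      refine LinearMap.ext fun v => ?_
      obtain ⟨x, rfl⟩ := E.surjective v
      show E (R g (E.symm (E x))) = E x
      rw [LinearEquiv.symm_apply_apply]
      exact congrArg E (hembinj (by rw [hR, h]; rfl))
  have hkc : φ.ker ≤ Subgroup.center G := fun g hg => by
    obtain ⟨r, -, hr⟩ := (hker g).mp hg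
    rw [Subgroup.mem_center_iff]
    intro x
    refine Subtype.ext (Subtype.ext ?_)
    show M x * M g = M g * M x
    rw [hr]
    exact (Matrix.scalar_commute r (fun s => Commute.all r s) (M x)).eq.symm
  have hnd := StdQuadForms.Qm_nondeg (F := F) 2 hab
  have hQm : f = ⇑(StdQuadForms.Qm 2 a b) := funext fun v => (StdQuadForms.Qm_apply 2 a b v).symm
  have h2K : (2 : K) = D.i 2 := (map_ofNat D.i 2).symm
  have hidx : (Cfsg.Omega F f).index = 2 * Nat.card φ.ker := by
    by_cases h2 : (2 : F) = 0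
    · have hk1 : Nat.card φ.ker = 1 := by
        rw [Subgroup.card_eq_one, eq_bot_iff]
        intro z hz
        obtain ⟨r, hr, hz⟩ := (hker z).mp hz
        refine Subgroup.mem_bot.2 (Subtype.ext (Subtype.ext ?_))
        have hr1 : r = 1 := by
          rcases mul_self_eq_one_iff.mp hr with e | e
          · exact e
          · have h20 : (2 : K) = 0 := by rw [h2K, h2, map_zero]
            rw [e]; linear_combination -h20
        show M z = 1
        rw [hz, hr1, map_one]
      rw [hk1, hQm, SpinorMatrix.omega_index_two _ h2 (by simp) hnd (Or.inr (by simp))]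
    · have hk2 : Nat.card φ.ker = 2 := by
        have hd : ((-1 : K) • (1 : Matrix (Fin 4) (Fin 4) K)).det = 1 := by
          rw [Matrix.det_smul]; simp; norm_num
        have hneg1 : (-1 : K) * (-1) ^ q = 1 := by rw [← hσ, map_neg, map_one]; ring
        have hmem : ∀ u v : Fin 4 → K,
            Cfsg.hermForm 4 K q (((-1 : K) • (1 : Matrix (Fin 4) (Fin 4) K)) *ᵥ u)
              (((-1 : K) • (1 : Matrix (Fin 4) (Fin 4) K)) *ᵥ v) = Cfsg.hermForm 4 K q u v := fun u v => by
          simp only [Cfsg.hermForm, Matrix.smul_mulVec, Matrix.one_mulVec, Pi.smul_apply, smul_eq_mul, mul_pow]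
          refine Finset.sum_congr rfl fun i _ => ?_
          linear_combination (u i * v i ^ q) * hneg1
        have hneg : (UnitarySimple.mkSU _ hmem hd : G) ∈ φ.ker := (hker _).mpr ⟨-1, by ring, by
          show ((-1 : K) • (1 : Matrix (Fin 4) (Fin 4) K)) = _
          ext i j; by_cases e : i = j <;> simp [e]⟩
        rw [Nat.card_eq_two_iff]
        refine ⟨1, ⟨_, hneg⟩, fun h => ?_, Set.eq_univ_of_forall fun z => ?_⟩
        · have h' : M (1 : G) 0 0 = ((-1 : K) • (1 : Matrix (Fin 4) (Fin 4) K)) 0 0 :=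
            congrArg (fun z : φ.ker => M z.1 0 0) h
          rw [show M (1 : G) = 1 from rfl] at h'
          simp at h'
          refine h2 (D.i.injective ?_)
          rw [map_zero, ← h2K]
          linear_combination h'
        · obtain ⟨r, hr, hz⟩ := (hker z.1).mp z.2
          rcases mul_self_eq_one_iff.mp hr with e | e
          · exact Or.inl (Subtype.ext (Subtype.ext (Subtype.ext (by
              show M z.1 = 1
              rw [hz, e, map_one]))))
          · refine Or.inr (Subtype.ext (Subtype.ext (Subtype.ext ?_)))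
            show M z.1 = (-1 : K) • (1 : Matrix (Fin 4) (Fin 4) K)
            rw [hz, e]
            ext i j; by_cases e' : i = j <;> simp [e']
      rw [hk2, hQm, SpinorMatrix.omega_index _ h2 (by simp) hnd]
  have hperf : commutator G = ⊤ := UnitarySimple.perfect hK (by norm_num) (by omega)
  refine ExceptionalIso.iso_of_hom _ φ (ExceptionalIso.range_le_of_perfect φ hperf) ?_ hkc
    fun z hz => ExceptionalIso.central_of_perfect hperf z fun g => hkc (hz g)
  have hO := Subgroup.card_mul_index (Cfsg.Omega F f)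
  rw [hidx, OrthOrder.card_O_minus 3 (by norm_num) a b hab, hF] at hO
  have hS : (q + 1) * Nat.card G = _ :=
    (UnitaryOrder.card_GU_eq hK (show 1 ≤ 4 by norm_num)).symm.trans (UnitaryOrder.card_GU hK 4)
  generalize Nat.card G = S at hS ⊢
  generalize Nat.card φ.ker = k at hO ⊢
  generalize Nat.card (Cfsg.Omega F f) = w at hO ⊢
  simp only [Finset.prod_range_succ, Finset.prod_range_zero, Nat.reduceMul, Nat.reduceAdd, Nat.reduceSub,
    Nat.reduceDiv, one_mul, show Even 0 from ⟨0, rfl⟩, show ¬ Even 1 by decide, show Even 2 by decide,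
    show ¬ Even 3 by decide, if_true, if_false, pow_one] at hS hO
  refine Nat.eq_of_mul_eq_mul_left (show 0 < q + 1 by omega) ?_
  refine Nat.eq_of_mul_eq_mul_left (show 0 < 2 by norm_num) ?_
  rw [hS]
  nlinarith [hO]

/-- PΩ^-_6(q) is isomorphic to PSU_4(q). -/
theorem result {F K : Type*} [Field F] [Fintype F] [Field K] [Fintype K] {q : ℕ} (hF : Fintype.card F = q) (hK : Fintype.card K = q ^ 2) (a b : F) (hab : ∀ z₁ z₂ : F, z₁ ^ 2 + a * z₁ * z₂ + b * z₂ ^ 2 = 0 → z₁ = 0 ∧ z₂ = 0) : Nonempty (Cfsg.POmega F (Cfsg.quadFormMinus 2 F a b) ≃* Cfsg.PSU 4 K q) := by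
  exact omega6minus hF hK a b hab

end Cfsg.Agent.S0303
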