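import Cfsg.Statements.S0295
import Mathlib
import Cfsg.Agent.Lib.OmegaSimple
import Cfsg.Agent.Lib.StdQuadForms
import Cfsg.Agent.Lib.FiniteForms.Standard

set_option autoImplicit false
open Cfsg

namespace Cfsg.Agent.S0295



/-- PΩ_{2m+1}(q) is simple for q odd and m at least 3. -/
theorem result {F : Type*} [Field F] [Fintype F] (hodd : Odd (Fintype.card F)) (m : ℕ) (hm : 3 ≤ m) : IsSimpleGroup (Cfsg.POmega F (Cfsg.quadFormOdd m F)) := by
  exact CfsgLib.OmegaSimple.pomega_simple (CfsgLib.StdQuadForms.Qo m) _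
    (fun v => (CfsgLib.StdQuadForms.Qo_apply m v).symm)
    (CfsgLib.StdQuadForms.Qo_nondeg (CfsgLib.FiniteForms.two_ne_zero_of_odd (F := F) rfl hodd) m) (by simp; omega)

end Cfsg.Agent.S0295
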