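import Cfsg.Statements.S0292
import Mathlib
import Cfsg.Agent.Lib.POmegaCard
import Cfsg.Agent.Lib.OrthOrderBase
import Cfsg.Agent.Lib.FiniteForms.Standard
import Cfsg.Agent.Lib.StdQuadForms

set_option autoImplicit false
open Cfsg

namespace Cfsg.Agent.S0292



/-- 2 |PΩ_{2m+1}(q)| = q^(m^2) prod_{i=1}^{m} (q^(2i) - 1), for q odd and m at least 3 (type B_m). -/
theorem result {F : Type*} [Field F] [Fintype F] {q : ℕ} (hF : Fintype.card F = q) (hodd : Odd q) (m : ℕ) (hm : 3 ≤ m) : 2 * Nat.card (Cfsg.POmega F (Cfsg.quadFormOdd m F)) = q ^ (m ^ 2) * ∏ i ∈ Finset.range m, (q ^ (2 * (i + 1)) - 1) := by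
  subst hF
  have h2 := CfsgLib.FiniteForms.two_ne_zero_of_odd (F := F) rfl hodd
  have hneg : ¬ CfsgLib.POmegaCard.NegMem F (Cfsg.quadFormOdd m F) := by
    rintro ⟨g, hg, hgv⟩
    have h := Abelianization.commutator_subset_ker
      (Matrix.GeneralLinearGroup.det.comp (Cfsg.isometryGroup F (Cfsg.quadFormOdd m F)).subtype) hg
    have h' : g.1.1.det = 1 := congrArg Units.val (MonoidHom.mem_ker.mp h)
    rw [hgv, Matrix.det_neg, Matrix.det_one, mul_one] at h'
    have ho : Odd (Fintype.card (Unit ⊕ (Fin m ⊕ Fin m))) := ⟨m, by simp; ring⟩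
    rw [ho.neg_one_pow] at h'
    exact h2 (by linear_combination -h')
  have h := ((CfsgLib.POmegaCard.main (CfsgLib.StdQuadForms.Qo m) (Cfsg.quadFormOdd m F)
    (fun v => (CfsgLib.StdQuadForms.Qo_apply m v).symm) (by simp; omega)
    (CfsgLib.StdQuadForms.Qo_nondeg h2 m)).2 h2).1 hneg
  rw [CfsgLib.OrthOrder.card_O_odd hodd m] at h
  generalize Fintype.card F ^ (m ^ 2) = A at h ⊢
  generalize ∏ i ∈ Finset.range m, (Fintype.card F ^ (2 * (i + 1)) - 1) = B at h ⊢
  linarith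

end Cfsg.Agent.S0292
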