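import Cfsg.Statements.S1695
import Cfsg.Agent.Lib.CosetEnum.Simple
import Cfsg.Agent.Lib.CosetEnum.He2058.Main
import Cfsg.Agent.Lib.CosetEnum.HeChain.Levels
import Cfsg.Agent.Lib.CosetEnum.HeA.Main
import Cfsg.Agent.Lib.CosetEnum.HeB.Main
import Cfsg.Agent.Lib.CosetEnum.HeC.Main
import Cfsg.Agent.Lib.CosetEnum.HeR.Main
import Cfsg.Agent.Lib.CosetEnum.HeZ.Main

set_option autoImplicit false
open Cfsg CfsgLib.CosetEnum

namespace Cfsg.Agent.S1695

/-- A word that is trivial in the subgroup generated by `a, b, c, d, e`. -/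
def derived : List ℕ := [2, 3, 2, 3, 4, 3, 2, 3, 2, 3, 4, 3, 2, 3, 4]

theorem derived_one : ∀ w ∈ [derived], (w.map presHe.σ).prod = 1 := by
  intro w hw
  rw [List.mem_singleton.mp hw]
  have h := HeR.sheet.mem_of_run (fun x => presHe.σ (HeR.sel.getD x presHe.k)) (fun x => presHe.σ_sq _)
    (show presHe.σ _ = 1 from if_neg (by decide)) (fun w hw => ?_) derived (by decide +kernel) (by decide +kernel)
  · have e : HeR.sheet.hw = [] := rfl
    rw [e, (show wordsSub (fun x => presHe.σ (HeR.sel.getD x presHe.k)) [] = ⊥ by simp [wordsSub]),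
      Subgroup.mem_bot] at h
    exact h
  · have hc : (HeR.sheet.rels.all fun w => presHe.rels.contains (w.map fun x => HeR.sel.getD x presHe.k)) = true := by
      decide +kernel
    have h := presHe.rels_one (List.contains_iff_mem.mp (List.all_eq_true.mp hc w hw))
    rwa [List.map_map] at h

theorem upper : Finite presHe.Grp ∧ Nat.card presHe.Grp ≤ 4030387200 := by
  have h0 := presHe.card_step HeC.sheet HeC.sel rfl [derived] derived_one (by decide +kernel) (by decide +kernel)
    (wordsSub_nil _)
  have h1 := presHe.card_step HeB.sheet HeB.sel rfl [derived] derived_one (by decide +kernel) (by decide +kernel) h0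
  have h2 := presHe.card_step HeA.sheet HeA.sel rfl [] presHe.der_nil (by decide +kernel) (by decide +kernel) h1
  have e : wordsSub presHe.σ (HeA.sel.map fun i => [i]) = ⊤ := by
    rw [← presHe.closure_eq_wordsSub, eq_top_iff, ← presHe.gen_closure, Subgroup.closure_le]
    rintro _ ⟨x, hx, rfl⟩
    refine Subgroup.subset_closure ⟨x, hx, congrArg presHe.σ ?_⟩
    have key : ∀ x < 7, HeA.sel.getD x 7 = x := by decide
    exact key x hx
  rw [e, Subgroup.card_top] at h2
  have := h2.1
  exact ⟨Finite.of_equiv _ Subgroup.topEquiv.toEquiv, h2.2⟩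

theorem lower [Finite presHe.Grp] {K : ℕ}
    (h : K ≤ Nat.card (He2058.cert.fixSub He2058.hlt [0, 2, 1, 5, 18, 9])) :
    4030387200 * K ≤ Nat.card (He2058.cert.fixSub He2058.hlt []) := by
  have hid : ∀ i < presHe.k, presHe.idx (presHe.gen i) = i := by decide
  have h5 := He2058.cert.level_step He2058.hlt hid [0, 2, 1, 5, 18] HeChain.lev5 HeChain.lev5_ok
    (show 9 < 2058 by decide) h
  have h4 := He2058.cert.level_step He2058.hlt hid [0, 2, 1, 5] HeChain.lev4 HeChain.lev4_ok
    (show 18 < 2058 by decide) h5
  have h3 := He2058.cert.level_step He2058.hlt hid [0, 2, 1] HeChain.lev3 HeChain.lev3_ok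
    (show 5 < 2058 by decide) h4
  have h2 := He2058.cert.level_step He2058.hlt hid [0, 2] HeChain.lev2 HeChain.lev2_ok
    (show 1 < 2058 by decide) h3
  have h1 := He2058.cert.level_step He2058.hlt hid [0] HeChain.lev1 HeChain.lev1_ok
    (show 2 < 2058 by decide) h2
  have h0 := He2058.cert.level_step He2058.hlt hid [] HeChain.lev0 HeChain.lev0_ok
    (show 0 < 2058 by decide) h1
  refine le_trans (le_of_eq ?_) h0
  show _ = (2058 * (425 * (144 * (8 * (2 * (2 * K))))))
  ring

/-- The presented Held group is simple of the expected order (that is, it is a simple group of the order of the Held group). -/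
theorem result : Cfsg.IsHe Cfsg.Spor.He := by
  have : Finite presHe.Grp := upper.1
  have hlow := He2058.cert.card_le_of_fixSub He2058.hlt
    (lower (He2058.cert.ker_le_fixSub He2058.hlt _))
  have hinj : Function.Injective (He2058.cert.hom He2058.hlt) :=
    He2058.cert.hom_injective He2058.hlt hlow upper.2
  have hcard : Nat.card presHe.Grp = 4030387200 :=
    le_antisymm upper.2 ((Nat.le_mul_of_pos_right _ Nat.card_pos).trans hlow)
  show IsSimpleGroup presHe.Grp ∧ Nat.card presHe.Grp = 4030387200
  exact ⟨He2058.cert.isSimple He2058.hlt (by decide) He2058.hhw hinj He2058.orb He2058.roots He2058.hwR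
    (by decide +kernel) He2058.orbs [1, 1360, 425, 136, 136] (by decide +kernel) (by decide +kernel)
    (by decide +kernel) rfl (by decide +kernel) (q := 7) (show 1 < 2058 by decide) (by rw [hcard]; decide +kernel)
    [3, 6, 5] (by decide +kernel) (by decide +kernel) HeZ.sheet rfl rfl rfl (by decide +kernel), hcard⟩

end Cfsg.Agent.S1695
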