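import Cfsg.Statements.S2086
import Cfsg.Agent.Lib.StSL.Two
import Cfsg.Agent.Lib.StSL.Many
import Cfsg.Agent.Lib.SLCard
import Cfsg.Agent.Lib.SLPerfect
-- import your own Cfsg.Agent.* helpers here

set_option autoImplicit false
open Cfsg

namespace Cfsg.Agent.S2086

/-- Schur multipliers of the linear groups: for n ≥ 2 and a field F with q elements (q ≥ 4 when n = 2), apart from the five exceptional pairs (n, q) = (2, 4), (2, 9), (3, 2), (3, 4), (4, 2), the Schur multiplier of PSL_n(F) is cyclic of order gcd(n, q − 1); here the Schur multiplier is described through stem extensions, as in the definitions. -/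
theorem result {F : Type*} [Field F] [Fintype F] {q : ℕ} (hF : Fintype.card F = q) (n : ℕ) (hn : 2 ≤ n) (h2 : n = 2 → 4 ≤ q) (hexc : (n, q) ∉ ({(2, 4), (2, 9), (3, 2), (3, 4), (4, 2)} : Set (ℕ × ℕ))) : Cfsg.HasCyclicSchurMultiplier (Matrix.ProjectiveSpecialLinearGroup (Fin n) F) (Nat.gcd n (q - 1)) := by
  classical
  have hsplit : CfsgLib.StSL.SplitG (Matrix.SpecialLinearGroup (Fin n) F) ∧
      commutator (Matrix.SpecialLinearGroup (Fin n) F) = ⊤ := by
    simp only [Set.mem_insert_iff, Set.mem_singleton_iff, Prod.mk.injEq, not_or, not_and] at hexc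
    obtain ⟨e1, e2, e3, e4, e5⟩ := hexc
    rcases Nat.lt_or_ge n 3 with h | h
    · obtain rfl : n = 2 := by omega
      have h4 := h2 rfl
      exact ⟨CfsgLib.StSL.splitG_SL2 (by have := e1 rfl; omega) (by rw [hF]; exact e2 rfl),
        CfsgLib.StSL.perfect_SL2 (by omega)⟩
    · have hq := Fintype.one_lt_card (α := F)
      refine ⟨CfsgLib.StSL.splitG_SL ?_, CfsgLib.SLPerfect.commutator_eq_top h⟩
      unfold CfsgLib.StSL.Admissible
      constructor <;> intros <;> omega
  haveI : IsCyclic (Subgroup.center (Matrix.SpecialLinearGroup (Fin n) F)) :=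
    isCyclic_of_injective Matrix.SpecialLinearGroup.center_equiv_rootsOfUnity.toMonoidHom
      (MulEquiv.injective _)
  refine CfsgLib.StSL.multiplier_quotient hsplit.1 hsplit.2
    (QuotientGroup.mk' (Subgroup.center (Matrix.SpecialLinearGroup (Fin n) F)))
    (QuotientGroup.mk'_surjective _) (by rw [QuotientGroup.ker_mk']) ⟨?_⟩
  have hcard : Nat.card (Subgroup.center (Matrix.SpecialLinearGroup (Fin n) F)) =
      Nat.card (Multiplicative (ZMod (Nat.gcd n (q - 1)))) := by
    rw [CfsgLib.SLCard.card_SL_center (by omega), hF, Nat.card_congr Multiplicative.toAdd, Nat.card_zmod]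
  exact (MulEquiv.subgroupCongr (QuotientGroup.ker_mk' _)).trans (mulEquivOfCyclicCardEq hcard)

end Cfsg.Agent.S2086
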