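import Cfsg.Statements.S0102
import Mathlib

set_option autoImplicit false
open Cfsg

namespace Cfsg.Agent.S0102

/-- A finite perfect group with cyclic Sylow p-subgroups has no perfect central extension whose kernel has order divisible by p. -/
theorem result {G : Type*} {H : Type*} [Group G] [Group H] [Finite G] [Finite H] (hG : commutator G = ⊤) {p : ℕ} [Fact p.Prime] (hcyc : ∀ P : Sylow p G, IsCyclic P) (σ : H →* G) (hσ : Function.Surjective σ) (hz : σ.ker ≤ Subgroup.center H) (hH : commutator H = ⊤) : ¬ p ∣ Nat.card σ.ker := by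
  classical
  have hp := (Fact.out : p.Prime)
  have hz0 := hz
  intro hdvd
  obtain ⟨z₀, hz₀⟩ := exists_prime_orderOf_dvd_card' (G := σ.ker) p hdvd
  set z : H := (z₀ : H) with hz
  have hzo : orderOf z = p := by rw [hz, Subgroup.orderOf_coe, hz₀]
  have hzc : z ∈ Subgroup.center H := hz0 z₀.2
  obtain ⟨P, hP⟩ := (IsPGroup.of_card (n := 1) (show Nat.card (Subgroup.zpowers z) = p ^ 1 by
    rw [Nat.card_zpowers, hzo, pow_one])).exists_le_sylow
  set f := (σ.comp (P : Subgroup H).subtype)
  haveI : IsCyclic f.range := by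
    obtain ⟨Q, hQ⟩ := (IsPGroup.of_surjective P.2 f.rangeRestrict f.rangeRestrict_surjective).exists_le_sylow
    haveI := hcyc Q
    exact isCyclic_of_injective (Subgroup.inclusion hQ) (Subgroup.inclusion_injective hQ)
  letI : CommGroup (P : Subgroup H) := commGroupOfCyclicCenterQuotient f.rangeRestrict (by
    intro x hx
    rw [MonoidHom.ker_rangeRestrict] at hx
    exact Subgroup.mem_center_iff.2 fun y => Subtype.ext (Subgroup.mem_center_iff.1 (hz0 hx) (y : H)))
  set φ := MonoidHom.transfer (MonoidHom.id (P : Subgroup H))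
  have hker : φ z = 1 := by
    have h : commutator H ≤ φ.ker := Abelianization.commutator_subset_ker φ
    exact h (hH ▸ Subgroup.mem_top z)
  have hkey : ∀ (k : ℕ) (g₀ : H), g₀⁻¹ * z ^ k * g₀ ∈ (P : Subgroup H) → g₀⁻¹ * z ^ k * g₀ = z ^ k := by
    intro k g₀ _
    rw [mul_assoc, ← Subgroup.mem_center_iff.1 (Subgroup.pow_mem _ hzc k) g₀, inv_mul_cancel_left]
  rw [show φ z = MonoidHom.transfer (MonoidHom.id (P : Subgroup H)) z from rfl,
    MonoidHom.transfer_eq_pow _ z hkey] at hker
  have h1 : z ^ (P : Subgroup H).index = 1 := congrArg Subtype.val hker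
  have h2 := orderOf_dvd_of_pow_eq_one h1
  rw [hzo] at h2
  exact P.not_dvd_index h2

end Cfsg.Agent.S0102
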