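import Cfsg.Statements.S0256
import Mathlib
import Cfsg.Agent.Lib.SmallSimple.GL4A8
import Cfsg.Agent.Lib.SLCard

set_option autoImplicit false
open Cfsg

namespace Cfsg.Agent.S0256



/-- PSL_4(2) is isomorphic to A_8. -/
theorem result {F : Type*} [Field F] [Fintype F] (hF : Fintype.card F = 2) : Nonempty (Matrix.ProjectiveSpecialLinearGroup (Fin 4) F ≃* alternatingGroup (Fin 8)) := by
  classical
  obtain ⟨e⟩ := CfsgLib.GL4A8.nonempty_mulEquiv
  let S := Matrix.SpecialLinearGroup (Fin 4) F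
  have hZ : Subgroup.center S = ⊥ := by
    rw [← Subgroup.card_eq_one, CfsgLib.SLCard.card_SL_center (F := F) (n := 4) (by norm_num), hF]
    norm_num
  have hu : ∀ x : Fˣ, (x : F) = 1 := by
    intro x
    have : Fintype.card Fˣ = 1 := by rw [Fintype.card_units, hF]
    haveI := Fintype.card_le_one_iff_subsingleton.mp this.le
    rw [Subsingleton.elim x 1, Units.val_one]
  have hb : Function.Bijective (Matrix.SpecialLinearGroup.toGL : S → GL (Fin 4) F) := by
    refine ⟨Matrix.SpecialLinearGroup.toGL_injective, fun g => ⟨⟨g.1, ?_⟩, Units.ext rfl⟩⟩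
    exact hu (Matrix.GeneralLinearGroup.det g)
  haveI : Fact (Nat.Prime 2) := ⟨Nat.prime_two⟩
  let r : ZMod 2 ≃+* F := ZMod.ringEquivOfPrime F Nat.prime_two hF
  exact ⟨(QuotientGroup.quotientMulEquivOfEq hZ).trans <| QuotientGroup.quotientBot.trans <|
    (MulEquiv.ofBijective _ hb).trans <| (Units.mapEquiv r.symm.mapMatrix.toMulEquiv).trans e⟩

end Cfsg.Agent.S0256
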