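import Cfsg.Statements.S0219
import Mathlib.GroupTheory.Transfer
-- import your own Cfsg.Agent.* helpers here

set_option autoImplicit false
open Cfsg

namespace Cfsg.Agent.S0219

/-- If a finite group has even order and a cyclic Sylow 2-subgroup, then it has a subgroup of index 2 (consider the parity of permutations in the regular representation). -/
theorem result {G : Type*} [Group G] [Finite G] (heven : Even (Nat.card G)) (T : Sylow 2 G) (hT : IsCyclic (T : Subgroup G)) : ∃ H : Subgroup G, H.index = 2 := by
  have hmin : (Nat.card G).minFac = 2 := by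
    rw [Nat.minFac_eq_two_iff]
    exact heven.two_dvd
  have hN := hT.normalizer_le_centralizer hmin
  let q := MonoidHom.transferSylow T hN
  have hq : Function.Surjective q := by
    intro y
    obtain ⟨x, hx⟩ := (T.2.powEquiv' T.not_dvd_index).surjective y
    refine ⟨x, ?_⟩
    apply Subtype.ext
    rw [MonoidHom.transferSylow_eq_pow T hN x x.2]
    exact congrArg Subtype.val hx
  obtain ⟨t, ht⟩ := hT.exists_generator
  have hcard : orderOf t = Nat.card T := orderOf_eq_card_of_forall_mem_zpowers ht
  have h2 : 2 ∣ orderOf t := hcard ▸ T.dvd_card_of_dvd_card heven.two_dvd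
  refine ⟨(Subgroup.zpowers (t ^ 2)).comap q, ?_⟩
  rw [Subgroup.index_comap_of_surjective _ hq]
  have h3 := Subgroup.card_mul_index (Subgroup.zpowers (t ^ 2))
  rw [Nat.card_zpowers, orderOf_pow, Nat.gcd_eq_right h2, ← hcard] at h3
  obtain ⟨c, hc⟩ := h2
  have hc0 : 0 < c := by have := orderOf_pos t; omega
  rw [hc, Nat.mul_div_cancel_left c two_pos] at h3
  exact Nat.eq_of_mul_eq_mul_left hc0 (by omega)

end Cfsg.Agent.S0219
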