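import Cfsg.Statements.S3303
import Mathlib
import Cfsg.Agent.S3305
import Cfsg.Agent.Lib.PSolvable

set_option autoImplicit false
open Cfsg

namespace Cfsg.Agent.S3303



/-- Let G be a finite solvable group in which the intersection of any two distinct Sylow 2-subgroups is cyclic. Then G/O(G) has a normal Sylow 2-subgroup, where O(G) is the largest normal subgroup of odd order. -/
theorem result {G : Type*} [Group G] [Finite G] (hs : Group.IsSolvable G)
    (hC : ∀ S T : Sylow 2 G, S ≠ T → IsCyclic ↥((S : Subgroup G) ⊓ (T : Subgroup G))) :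
    ∃ P : Sylow 2 (G ⧸ Cfsg.oddCore G), (P : Subgroup (G ⧸ Cfsg.oddCore G)).Normal := by
  classical
  haveI := hs
  haveI := Fact.mk Nat.prime_two
  haveI : Group.IsSolvable (G ⧸ Cfsg.oddCore G) := Group.isSolvable_of_surjective (QuotientGroup.mk'_surjective _)
  obtain ⟨S⟩ : Nonempty (Sylow 2 (G ⧸ Cfsg.oddCore G)) := inferInstance
  by_cases hsub : Subsingleton (Sylow 2 (G ⧸ Cfsg.oddCore G))
  · haveI := Sylow.characteristic_of_subsingleton S
    exact ⟨S, inferInstance⟩
  exfalso
  obtain ⟨T, hT⟩ : ∃ T, T ≠ S := by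
    by_contra h
    push Not at h
    exact hsub ⟨fun a b => (h a).trans (h b).symm⟩
  set Q := G ⧸ Cfsg.oddCore G
  set O := Cfsg.pCore 2 Q with hO
  haveI hcyc := S3305.result hC (Cfsg.oddCore G) T S hT
  haveI hOn : O.Normal := inferInstance
  haveI : IsCyclic O := Subgroup.isCyclic_of_le (le_inf (CfsgLib.pCore_le_sylow T) (CfsgLib.pCore_le_sylow S))
  have hcent : Subgroup.centralizer (O : Set Q) ≤ O :=
    CfsgLib.centralizer_pCore_le Nat.prime_two (CfsgLib.pPrimeCore_quotient_eq_bot 2)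
  have key := Subgroup.card_dvd_of_injective _ (QuotientGroup.kerLift_injective O.normalizerMonoidHom)
  rw [(inferInstance : IsCyclic O).card_mulAut, Subgroup.normalizerMonoidHom_ker] at key
  obtain ⟨k, hk⟩ := (CfsgLib.isPGroup_pCore (G := Q) 2).exists_card_eq
  obtain ⟨j, hj⟩ : ∃ j, Nat.card (Subgroup.normalizer (O : Set Q) ⧸ (Subgroup.centralizer (O : Set Q)).subgroupOf (Subgroup.normalizer (O : Set Q))) = 2 ^ j := by
    have h2 : (Nat.card O).totient ∣ 2 ^ k := by
      rw [show Nat.card O = 2 ^ k from hk]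
      rcases Nat.eq_zero_or_pos k with rfl | h0
      · simp
      · rw [Nat.totient_prime_pow Nat.prime_two h0]
        exact (by simpa using pow_dvd_pow 2 (Nat.sub_le k 1) : 2 ^ (k - 1) * (2 - 1) ∣ 2 ^ k)
    obtain ⟨j, -, hj⟩ := (Nat.dvd_prime_pow Nat.prime_two).mp (key.trans h2)
    exact ⟨j, hj⟩
  have hQ : IsPGroup 2 Q := by
    obtain ⟨m, -, hm⟩ := (Nat.dvd_prime_pow Nat.prime_two).mp (show Nat.card (Subgroup.centralizer (O : Set Q)) ∣ 2 ^ k from hk ▸ Subgroup.card_dvd_of_le hcent)
    refine IsPGroup.of_card (n := j + m) ?_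
    have h1 := Subgroup.card_eq_card_quotient_mul_card_subgroup ((Subgroup.centralizer (O : Set Q)).subgroupOf (Subgroup.normalizer (O : Set Q)))
    rw [hj, Nat.card_congr (Subgroup.subgroupOfEquivOfLe (Subgroup.centralizer_le_normalizer _)).toEquiv, hm,
      Subgroup.normalizer_eq_top_iff.mpr hOn, Subgroup.card_top] at h1
    rw [h1, pow_add]
  exact hT (Sylow.ext ((hQ.to_subgroup ⊤ |> fun h => (T.is_maximal' h le_top).symm).trans (hQ.to_subgroup ⊤ |> fun h => S.is_maximal' h le_top)))

end Cfsg.Agent.S3303
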