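import Cfsg.Statements.S0357
import Cfsg.Agent.Lib.SteinerCount

set_option autoImplicit false
open Cfsg

namespace Cfsg.Agent.S0357

/-- In a Steiner system S(5, 6, 12), the complement of every block is again a block. -/
theorem result {α : Type*} [Fintype α] [DecidableEq α] (hα : Fintype.card α = 12) {B : Set (Finset α)} (hB : Cfsg.IsSteinerSystem 5 6 B) {b : Finset α} (hb : b ∈ B) : bᶜ ∈ B := by
  obtain ⟨c, hc⟩ := Finset.card_eq_one.mp (CfsgSteiner.dist_5_6_12 hα hB hb).1
  have hmem := Finset.eq_singleton_iff_unique_mem.mp hc |>.1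
  simp only [Finset.mem_filter, Finset.mem_sdiff, CfsgSteiner.mem_blocks, Finset.card_eq_zero] at hmem
  have he : bᶜ = c := by
    refine (Finset.eq_of_subset_of_card_le (fun x hx => ?_) ?_).symm
    · exact Finset.mem_compl.mpr fun hxb => by simpa [hmem.2] using (Finset.mem_inter.mpr ⟨hx, hxb⟩ : x ∈ c ∩ b)
    · rw [Finset.card_compl, hB.1 b hb, hB.1 c hmem.1.1, hα]
  exact he ▸ hmem.1.1

end Cfsg.Agent.S0357
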