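import Cfsg.Statements.S0672
import Mathlib
-- import your own Cfsg.Agent.* helpers here

set_option autoImplicit false
open Cfsg

namespace Cfsg.Agent.S0672

open scoped Pointwise in
theorem pairP_smul {G Ω : Type*} [Group G] [MulAction G Ω] [DecidableEq Ω] (g : G) (q : Set.powersetCard Ω 2) (x : Ω) :
    g • x ∈ ((g • q : Set.powersetCard Ω 2) : Finset Ω) ↔ x ∈ (q : Finset Ω) := by
  rw [Set.powersetCard.coe_smul, Finset.smul_mem_smul_finset_iff]

/-- Let a finite group act faithfully and doubly transitively with point stabilisers of even order, and let `K` have characteristic `p` dividing the degree. If the heart of the permutation module admits no non-zero equivariant map to the permutation module on unordered pairs (phrased: every intertwining map from the sum-zero functions vanishing on the constants is zero), the action is triply transitive. -/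
theorem result {G : Type*} [Group G] [Finite G] {K : Type*} [Field K] {p : ℕ} [Fact p.Prime] [CharP K p] {Ω : Type*} [Fintype Ω] [DecidableEq Ω] [MulAction G Ω] [FaithfulSMul G Ω] (h2 : MulAction.IsMultiplyPretransitive G Ω 2) (hp : p ∣ Fintype.card Ω) (heven : ∀ a : Ω, Even (Nat.card (MulAction.stabilizer G a))) (h : ∀ f : Representation.IntertwiningMap (Cfsg.permSumZero K G Ω).toRepresentation (Cfsg.permRep K G (Set.powersetCard Ω 2)), (∀ v : (Cfsg.permSumZero K G Ω).toSubmodule, (v : Ω → K) ∈ (Cfsg.permConstants K G Ω).toSubmodule → f v = 0) → f = 0) : MulAction.IsMultiplyPretransitive G Ω 3 := by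
  classical
  have hp' : p.Prime := Fact.out
  haveI htr : MulAction.IsPretransitive G Ω := MulAction.isPretransitive_of_is_two_pretransitive
  have h2' : ∀ {x y z u : Ω} (_ : x ≠ y) (_ : z ≠ u), ∃ g : G, g • x = z ∧ g • y = u := MulAction.is_two_pretransitive_iff.1 h2
  let mk : ∀ x y : Ω, x ≠ y → Set.powersetCard Ω 2 := fun x y hxy =>
    ⟨{x, y}, Finset.card_pair hxy⟩
  have hmk : ∀ q : Set.powersetCard Ω 2, ∃ x y, ∃ h : x ≠ y, q = mk x y h := fun q => by
    obtain ⟨x, y, hxy, e⟩ := Finset.card_eq_two.1 q.2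
    exact ⟨x, y, hxy, Subtype.ext e⟩
  have hmem : ∀ (x y z : Ω) (h : x ≠ y), z ∈ ((mk x y h : Set.powersetCard Ω 2) : Finset Ω) ↔ z = x ∨ z = y :=
    fun x y z h => by simp [mk]
  have hsm : ∀ (g : G) x y (h : x ≠ y), g • mk x y h = mk (g • x) (g • y) (fun e => h (smul_left_cancel g e)) := by
    intro g x y h
    apply Subtype.ext
    apply Finset.ext
    intro z
    show z ∈ ((g • mk x y h : Set.powersetCard Ω 2) : Finset Ω) ↔ z ∈ ((mk (g • x) (g • y) (fun e => h (smul_left_cancel g e)) : Set.powersetCard Ω 2) : Finset Ω)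
    rw [← smul_inv_smul g z, pairP_smul, hmem _ _ _ h, hmem _ _ _ (fun e => h (smul_left_cancel g e)), smul_left_cancel_iff, smul_left_cancel_iff]
  have hpairs : ∀ q q' : Set.powersetCard Ω 2, ∃ g : G, g • q = q' := fun q q' => by
    obtain ⟨x, y, hxy, rfl⟩ := hmk q
    obtain ⟨x', y', hxy', rfl⟩ := hmk q'
    obtain ⟨g, h1, h2⟩ := h2' hxy hxy'
    exact ⟨g, by rw [hsm g x y hxy]; simp only [h1, h2]⟩
  -- one point stabiliser is transitive on the pairs avoiding the point
  have key : ∀ (a₀ : Ω) (q₀ q₁ : Set.powersetCard Ω 2), a₀ ∉ (q₀ : Finset Ω) → a₀ ∉ (q₁ : Finset Ω) →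
      ∃ g : G, g • a₀ = a₀ ∧ g • q₀ = q₁ := by
    intro a₀ q₀ q₁ h0 h1
    by_contra hno
    push Not at hno
    let R : Ω → Set.powersetCard Ω 2 → Prop := fun a q => ∃ g : G, g • a₀ = a ∧ g • q₀ = q
    have hR : ∀ (g : G) a q, R (g • a) (g • q) ↔ R a q := fun g a q => by
      constructor
      · rintro ⟨h, e1, e2⟩
        exact ⟨g⁻¹ * h, by rw [mul_smul, e1, inv_smul_smul], by rw [mul_smul, e2, inv_smul_smul]⟩
      · rintro ⟨h, e1, e2⟩
        exact ⟨g * h, by rw [mul_smul, e1], by rw [mul_smul, e2]⟩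
    have hRavoid : ∀ a q, R a q → a ∉ (q : Finset Ω) := by
      rintro a q ⟨g, rfl, rfl⟩
      rwa [pairP_smul]
    set lam : ℕ := (Finset.univ.filter fun a => R a q₀).card
    have hlam : ∀ q, (Finset.univ.filter fun a => R a q).card = lam := fun q => by
      obtain ⟨g, rfl⟩ := hpairs q₀ q
      refine (Finset.card_nbij' (fun a => g • a) (fun a => g⁻¹ • a)
        (fun a ha => by simpa [hR] using ha) (fun a ha => ?_)
        (fun a _ => inv_smul_smul g a) (fun a _ => smul_inv_smul g a)).symm
      simp only [Finset.coe_filter, Finset.mem_univ, true_and, Set.mem_ofPred_eq] at ha ⊢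
      rw [← hR g, smul_inv_smul]; exact ha
    obtain ⟨α, β, hαβ, hnz⟩ : ∃ α β : K, α * lam = β * 2 ∧ (α = 1 ∨ (α = 0 ∧ β = 1)) := by
      by_cases h2K : (2 : K) = 0
      · exact ⟨0, 1, by rw [h2K]; simp, Or.inr ⟨rfl, rfl⟩⟩
      · exact ⟨1, (lam : K) / 2, by rw [one_mul, div_mul_cancel₀ _ h2K], Or.inl rfl⟩
    let w : Ω → Set.powersetCard Ω 2 → K := fun a q =>
      (if R a q then α else 0) - (if a ∈ (q : Finset Ω) then β else 0)
    have hw : ∀ (g : G) a q, w (g • a) (g • q) = w a q := fun g a q => by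
      simp only [w]
      rw [if_congr (hR g a q) rfl rfl, if_congr (pairP_smul g q a) rfl rfl]
    let L : (Cfsg.permSumZero K G Ω).toSubmodule →ₗ[K] (Set.powersetCard Ω 2 → K) :=
      { toFun := fun v q => ∑ a, (v : Ω → K) a * w a q
        map_add' := fun u v => funext fun q => by simp [add_mul, Finset.sum_add_distrib]
        map_smul' := fun r v => funext fun q => by simp [Finset.mul_sum, mul_assoc] }
    let f : Representation.IntertwiningMap (Cfsg.permSumZero K G Ω).toRepresentation
        (Cfsg.permRep K G (Set.powersetCard Ω 2)) :=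
      ⟨L, fun g => by
        refine LinearMap.ext fun v => funext fun q => ?_
        show ∑ a, (v : Ω → K) (g⁻¹ • a) * w a q = ∑ a, (v : Ω → K) a * w a (g⁻¹ • q)
        refine Fintype.sum_equiv (MulAction.toPerm g⁻¹) _ _ fun a => ?_
        simp only [MulAction.toPerm_apply, hw]⟩
    have hf := h f fun v hv => by
      obtain ⟨c, hc⟩ := Submodule.mem_span_singleton.1 hv
      funext q
      show ∑ a, (v : Ω → K) a * w a q = 0
      rw [← hc]
      simp only [Pi.smul_apply, smul_eq_mul, mul_one, ← Finset.mul_sum, w, Finset.sum_sub_distrib,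
        ← Finset.sum_filter, Finset.sum_const, nsmul_eq_mul]
      have hq : (Finset.univ.filter fun a => a ∈ (q : Finset Ω)) = (q : Finset Ω) := by ext; simp
      rw [hlam, hq, Set.powersetCard.card_eq, mul_comm (lam : K), Nat.cast_two, mul_comm (2 : K), hαβ,
        sub_self, mul_zero]
    have heq : ∀ x y q, w x q = w y q := by
      intro x y q
      have hv : ((Pi.single x 1 : Ω → K) - (Pi.single y 1 : Ω → K)) ∈ (Cfsg.permSumZero K G Ω).toSubmodule := by
        show ∑ z, ((Pi.single x (1 : K) : Ω → K) z - (Pi.single y 1 : Ω → K) z) = 0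
        simp [Finset.sum_sub_distrib]
      have e := congrArg (fun T : Representation.IntertwiningMap (Cfsg.permSumZero K G Ω).toRepresentation (Cfsg.permRep K G (Set.powersetCard Ω 2)) => T.toLinearMap ⟨_, hv⟩ q) hf
      change ∑ a, ((Pi.single x (1 : K) : Ω → K) a - (Pi.single y 1 : Ω → K) a) * w a q = 0 at e
      simp only [sub_mul, Finset.sum_sub_distrib, Pi.single_apply, ite_mul, one_mul, zero_mul,
        Finset.sum_ite_eq', Finset.mem_univ, if_true] at e
      exact sub_eq_zero.1 e
    rcases hnz with hα | ⟨hα, hβ⟩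
    · obtain ⟨g, hg⟩ := hpairs q₁ q₀
      have hy1 : ¬ R (g • a₀) q₀ := by
        rintro ⟨k, e1, e2⟩
        exact hno (g⁻¹ * k) (by rw [mul_smul, e1, inv_smul_smul])
          (by rw [mul_smul, e2, ← hg, inv_smul_smul])
      have hy2 : g • a₀ ∉ (q₀ : Finset Ω) := by rw [← hg, pairP_smul]; exact h1
      have := heq a₀ (g • a₀) q₀
      simp only [w] at this
      rw [if_pos ⟨1, one_smul G a₀, one_smul G q₀⟩, if_neg h0, if_neg hy1, if_neg hy2, hα] at this
      simp at this
    · obtain ⟨x, y, hxy, rfl⟩ := hmk q₀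
      have := heq x a₀ (mk x y hxy)
      simp only [w] at this
      rw [if_pos ((hmem x y x hxy).2 (Or.inl rfl)), if_neg h0, hα, hβ] at this
      simp at this
  refine ⟨fun i j => ?_⟩
  obtain ⟨g₁, hg₁⟩ := MulAction.exists_smul_eq G (i 0) (j 0)
  set a := j 0 with ha
  have hi : ∀ k l : Fin 3, k ≠ l → g₁ • i k ≠ g₁ • i l := fun k l hkl e =>
    hkl (i.injective (smul_left_cancel g₁ e))
  have hab1 : g₁ • i 1 ≠ a := hg₁ ▸ hi 1 0 (by decide)
  have hab2 : g₁ • i 2 ≠ a := hg₁ ▸ hi 2 0 (by decide)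
  have hc1 : j 1 ≠ a := fun e => absurd (j.injective e) (by decide)
  have hc2 : j 2 ≠ a := fun e => absurd (j.injective e) (by decide)
  have hc12 : j 1 ≠ j 2 := fun e => absurd (j.injective e) (by decide)
  set b := g₁ • i 1
  set c := g₁ • i 2
  have hbc : b ≠ c := hi 1 2 (by decide)
  -- an element of the stabiliser exchanging two points
  obtain ⟨t, ht⟩ := exists_prime_orderOf_dvd_card' (G := MulAction.stabilizer G a) 2
    (even_iff_two_dvd.1 (heven a))
  obtain ⟨u, hu⟩ : ∃ u : Ω, (t : G) • u ≠ u := by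
    by_contra hall
    push Not at hall
    have : (t : G) = 1 := FaithfulSMul.eq_of_smul_eq_smul fun u : Ω => by rw [hall u, one_smul]
    rw [show t = 1 from Subtype.ext this, orderOf_one] at ht
    exact absurd ht (by norm_num)
  have hta : (t : G) • a = a := t.2
  have hua : u ≠ a := fun e => hu (by rw [e, hta])
  have htua : (t : G) • u ≠ a := fun e => hua (smul_left_cancel (t : G) (e.trans hta.symm))
  have htt : (t : G) • (t : G) • u = u := by
    have : t * t = 1 := by rw [← pow_two, ← ht, pow_orderOf_eq_one]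
    rw [← mul_smul, show (t : G) * t = 1 from congrArg Subtype.val this, one_smul]
  have hau : a ∉ ((mk u ((t : G) • u) (Ne.symm hu) : Set.powersetCard Ω 2) : Finset Ω) := by
    rw [hmem _ _ _ (Ne.symm hu)]; rintro (e | e)
    · exact hua e.symm
    · exact htua e.symm
  obtain ⟨k, hka, hk⟩ : ∃ k : G, k • a = a ∧ k • b = j 1 ∧ k • c = j 2 := by
    have hab : a ∉ ((mk b c hbc : Set.powersetCard Ω 2) : Finset Ω) := by
      rw [hmem _ _ _ hbc]; rintro (e | e)
      · exact hab1 e.symm
      · exact hab2 e.symm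
    have haj : a ∉ ((mk (j 1) (j 2) hc12 : Set.powersetCard Ω 2) : Finset Ω) := by
      rw [hmem _ _ _ hc12]; rintro (e | e)
      · exact hc1 e.symm
      · exact hc2 e.symm
    obtain ⟨g, hga, hg⟩ := key a _ _ hab haj
    rw [hsm g b c hbc] at hg
    have hne : g • b ≠ g • c := fun e => hbc (smul_left_cancel g e)
    have hb' := (hmem (j 1) (j 2) (g • b) hc12).1 (by rw [← hg]; exact (hmem _ _ _ hne).2 (Or.inl rfl))
    have hc' := (hmem (j 1) (j 2) (g • c) hc12).1 (by rw [← hg]; exact (hmem _ _ _ hne).2 (Or.inr rfl))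
    by_cases e : g • b = j 1
    · exact ⟨g, hga, e, hc'.resolve_left fun e' => hne (e.trans e'.symm)⟩
    have e1 : g • b = j 2 := hb'.resolve_left e
    have e2 : g • c = j 1 := hc'.resolve_right fun e' => hne (e1.trans e'.symm)
    -- conjugate the exchange
    obtain ⟨m, hma, hm⟩ := key a _ _ hau haj
    rw [hsm m u ((t : G) • u) (Ne.symm hu)] at hm
    have hswap : (m * (t : G) * m⁻¹) • j 1 = j 2 ∧ (m * (t : G) * m⁻¹) • j 2 = j 1 := by
      have hne' : m • u ≠ m • (t : G) • u := fun e => hu (smul_left_cancel m e).symm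
      have h1 := (hmem (j 1) (j 2) (m • u) hc12).1 (by rw [← hm]; exact (hmem _ _ _ hne').2 (Or.inl rfl))
      have h2 := (hmem (j 1) (j 2) (m • (t : G) • u) hc12).1 (by rw [← hm]; exact (hmem _ _ _ hne').2 (Or.inr rfl))
      have hA : (m * (t : G) * m⁻¹) • m • u = m • (t : G) • u := by
        rw [mul_smul, mul_smul, inv_smul_smul]
      have hB : (m * (t : G) * m⁻¹) • m • (t : G) • u = m • u := by
        rw [mul_smul, mul_smul, inv_smul_smul, htt]
      rcases h1 with h1 | h1 <;> rcases h2 with h2 | h2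
      · exact absurd (h1.trans h2.symm) hne'
      · exact ⟨by rw [← h1, hA, h2], by rw [← h2, hB, h1]⟩
      · exact ⟨by rw [← h2, hB, h1], by rw [← h1, hA, h2]⟩
      · exact absurd (h1.trans h2.symm) hne'
    refine ⟨m * (t : G) * m⁻¹ * g, ?_, ?_, ?_⟩
    · rw [mul_smul, hga, mul_smul, mul_smul,
        show m⁻¹ • a = a by rw [inv_smul_eq_iff, hma], hta, hma]
    · rw [mul_smul, e1, hswap.2]
    · rw [mul_smul, e2, hswap.1]
  refine ⟨k * g₁, ?_⟩
  ext l
  fin_cases l
  · show (k * g₁) • i 0 = j 0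
    rw [mul_smul, hg₁, hka]
  · show (k * g₁) • i 1 = j 1
    rw [mul_smul]; exact hk.1
  · show (k * g₁) • i 2 = j 2
    rw [mul_smul]; exact hk.2

end Cfsg.Agent.S0672
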