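import Cfsg.Statements.S0673
import Mathlib
-- import your own Cfsg.Agent.* helpers here

set_option autoImplicit false
open Cfsg

namespace Cfsg.Agent.S0673

/-- In characteristic `p`, the translation-invariant subspaces of the space of functions on `ZMod p` are exactly the spaces of polynomial functions of degree less than `r`, one for each `r ≤ p`, of dimension `r`. -/
theorem result {p : ℕ} [Fact p.Prime] {K : Type*} [Field K] [CharP K p] (W : Submodule K (ZMod p → K)) (hW : ∀ f ∈ W, (fun j => f (j - 1)) ∈ W) : ∃ r : ℕ, r ≤ p ∧ Module.finrank K W = r ∧ ∀ f : ZMod p → K, f ∈ W ↔ ∃ P : Polynomial K, P.degree < r ∧ ∀ j : ZMod p, f j = P.eval (ZMod.cast j : K) := by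
  classical
  have hp : p.Prime := Fact.out
  let c : ZMod p →+* K := ZMod.castHom dvd_rfl K
  have hcinj : Function.Injective c := c.injective
  let L : Polynomial K →ₗ[K] (ZMod p → K) := LinearMap.pi fun j => Polynomial.leval (c j)
  have hL : ∀ P j, L P j = P.eval (c j) := fun P j => rfl
  have hinj : ∀ P : Polynomial K, P.natDegree < p → L P = 0 → P = 0 := fun P hP h =>
    Polynomial.eq_zero_of_natDegree_lt_card_of_eval_eq_zero P hcinj (fun j => congrFun h j) (by rw [ZMod.card]; exact hP)
  have hsurj : ∀ f : ZMod p → K, ∃ P : Polynomial K, P.natDegree < p ∧ L P = f := by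
    intro f
    refine ⟨Lagrange.interpolate Finset.univ c f, ?_, funext fun j => Lagrange.eval_interpolate_at_node f hcinj.injOn (Finset.mem_univ j)⟩
    rcases eq_or_ne (Lagrange.interpolate Finset.univ c f) 0 with h | h
    · rw [h, Polynomial.natDegree_zero]; exact hp.pos
    · have := Lagrange.degree_interpolate_lt f (hcinj.injOn (s := ((Finset.univ : Finset (ZMod p)) : Set (ZMod p))))
      rw [Polynomial.degree_eq_natDegree h, Finset.card_univ, ZMod.card] at this
      exact_mod_cast this
  let S : Submodule K (Polynomial K) := W.comap L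
  have hdown : ∀ P ∈ S, 0 < P.natDegree → P.natDegree < p → ∃ Q ∈ S, Q ≠ 0 ∧ Q.natDegree = P.natDegree - 1 := by
    intro P hP h0 hp'
    have hsh : L (P.comp (Polynomial.X - Polynomial.C 1)) = fun j => L P (j - 1) := funext fun j => by
      simp [hL, Polynomial.eval_comp]
    have hQ : P - P.comp (Polynomial.X - Polynomial.C 1) ∈ S := by
      show L _ ∈ W
      rw [map_sub, hsh]
      exact W.sub_mem hP (hW _ hP)
    set Q := P - P.comp (Polynomial.X - Polynomial.C 1) with hQdef
    have hcomp : P.comp (Polynomial.X - Polynomial.C 1) = Polynomial.taylor (-1) P := by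
      rw [Polynomial.taylor_apply]; simp [sub_eq_add_neg]
    set n := P.natDegree with hn
    have hcoef : Q.coeff (n - 1) = (n : K) * P.coeff n := by
      have hh : (Polynomial.hasseDeriv (n - 1) P).natDegree < 2 := by
        refine Nat.lt_succ_of_le ((Polynomial.natDegree_hasseDeriv_le P (n - 1)).trans ?_)
        omega
      rw [hQdef, hcomp, Polynomial.coeff_sub, Polynomial.taylor_coeff, Polynomial.eval_eq_sum_range' hh,
        Finset.sum_range_succ, Finset.sum_range_one, Polynomial.hasseDeriv_coeff, Polynomial.hasseDeriv_coeff,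
        show 1 + (n - 1) = n by omega, show 0 + (n - 1) = n - 1 by omega, Nat.choose_self,
        Nat.choose_symm_of_eq_add (show n = (n - 1) + 1 by omega), Nat.choose_one_right]
      push_cast
      ring
    have hne : Q.coeff (n - 1) ≠ 0 := by
      rw [hcoef]
      refine mul_ne_zero (fun h => ?_) (Polynomial.leadingCoeff_ne_zero.mpr fun h => by rw [hn, h, Polynomial.natDegree_zero] at h0; omega)
      rw [CharP.cast_eq_zero_iff K p] at h
      exact absurd (Nat.le_of_dvd h0 h) (by omega)
    refine ⟨Q, hQ, fun h => hne (by rw [h, Polynomial.coeff_zero]), le_antisymm ?_ (Polynomial.le_natDegree_of_ne_zero hne)⟩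
    refine Polynomial.natDegree_le_iff_coeff_eq_zero.mpr fun m hm => ?_
    rcases Nat.lt_or_ge n m with h | h
    · rw [hQdef, hcomp, Polynomial.coeff_sub, Polynomial.coeff_eq_zero_of_natDegree_lt (h.trans_eq rfl),
        Polynomial.coeff_eq_zero_of_natDegree_lt (by rw [Polynomial.natDegree_taylor]; exact h), sub_zero]
    · have hmn : m = n := by omega
      rw [hQdef, hcomp, Polynomial.coeff_sub, hmn]
      have hl := Polynomial.leadingCoeff_taylor (r := (-1 : K)) (f := P)
      rw [Polynomial.leadingCoeff, Polynomial.natDegree_taylor, ← hn] at hl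
      rw [hl, Polynomial.leadingCoeff, ← hn, sub_self]
  let R : Set ℕ := {m | ∃ P ∈ S, P ≠ 0 ∧ P.natDegree < p ∧ P.natDegree = m}
  obtain ⟨r, hrp, hr⟩ : ∃ r, r ≤ p ∧ ∀ m, m ∈ R ↔ m < r := by
    by_cases hR : ∀ m, m ∉ R
    · exact ⟨0, Nat.zero_le _, fun m => iff_of_false (hR m) (Nat.not_lt_zero m)⟩
    · push Not at hR
      obtain ⟨m₀, hm₀⟩ := hR
      have hb : ∀ m ∈ R, m < p := fun m ⟨P, _, _, h, e⟩ => e ▸ h
      have hfin : R.Finite := (Set.finite_Iio p).subset hb
      obtain ⟨M, hM, hMmax⟩ := hfin.exists_maximalFor id R ⟨m₀, hm₀⟩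
      refine ⟨M + 1, hb M hM, fun m => ⟨fun hm => Nat.lt_succ_of_le (le_of_not_gt fun h => absurd (hMmax hm h.le) (not_le.mpr h)), fun hm => ?_⟩⟩
      have key : ∀ j, j ≤ M → M - j ∈ R := fun j => by
        induction j with
        | zero => exact fun _ => hM
        | succ j ih =>
          intro hj
          obtain ⟨P, hPS, hP0, hPp, e⟩ := ih (by omega)
          obtain ⟨Q, hQS, hQ0, hQ⟩ := hdown P hPS (by omega) hPp
          exact ⟨Q, hQS, hQ0, by omega, by omega⟩
      have := key (M - m) (by omega)
      rwa [show M - (M - m) = m by omega] at this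
  have hmem : ∀ P : Polynomial K, P.degree < r → P ∈ S := by
    suffices ∀ d : ℕ, ∀ P : Polynomial K, P.degree < r → P.degree < (d : WithBot ℕ) → P ∈ S from fun P h => this r P h h
    intro d
    induction d with
    | zero =>
      intro P _ h
      have h0 : P = 0 := by simpa using h
      rw [h0]; exact S.zero_mem
    | succ d ih =>
      intro P hP hd
      by_cases h0 : P = 0
      · rw [h0]; exact S.zero_mem
      have hdeg := Polynomial.degree_eq_natDegree h0
      rw [hdeg] at hP hd
      obtain ⟨Q, hQS, hQ0, hQp, hQd⟩ := (hr P.natDegree).mpr (by exact_mod_cast hP)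
      set a := P.leadingCoeff / Q.leadingCoeff with ha
      have hlt : (P - a • Q).degree < P.natDegree := by
        have ha0 : a ≠ 0 := div_ne_zero (Polynomial.leadingCoeff_ne_zero.mpr h0) (Polynomial.leadingCoeff_ne_zero.mpr hQ0)
        rw [Polynomial.smul_eq_C_mul, ← hdeg]
        refine Polynomial.degree_sub_lt ?_ h0 ?_
        · rw [Polynomial.degree_C_mul ha0, Polynomial.degree_eq_natDegree hQ0, hdeg, hQd]
        · rw [Polynomial.leadingCoeff_mul, Polynomial.leadingCoeff_C, ha, div_mul_cancel₀ _ (Polynomial.leadingCoeff_ne_zero.mpr hQ0)]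
      have := ih (P - a • Q) (hlt.trans hP) (lt_of_lt_of_le hlt (by exact_mod_cast (Nat.lt_succ_iff.mp (by exact_mod_cast hd))))
      have := S.add_mem this (S.smul_mem a hQS)
      rwa [sub_add_cancel] at this
  have hiff : ∀ f, f ∈ W ↔ ∃ P : Polynomial K, P.degree < r ∧ L P = f := fun f => by
    constructor
    · intro hf
      obtain ⟨P, hPp, rfl⟩ := hsurj f
      refine ⟨P, ?_, rfl⟩
      by_cases h0 : P = 0
      · rw [h0, Polynomial.degree_zero]; exact WithBot.bot_lt_coe r
      rw [Polynomial.degree_eq_natDegree h0]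
      exact_mod_cast (hr _).mp ⟨P, hf, h0, hPp, rfl⟩
    · rintro ⟨P, hP, rfl⟩
      exact hmem P hP
  refine ⟨r, hrp, ?_, fun f => (hiff f).trans ?_⟩
  · let T := L.comp (Polynomial.degreeLT K r).subtype
    have hT : Function.Injective T := (injective_iff_map_eq_zero T).mpr fun P h => by
      refine Subtype.ext (hinj P ?_ h)
      by_cases h0 : (P : Polynomial K) = 0
      · rw [h0, Polynomial.natDegree_zero]; exact hp.pos
      · exact lt_of_lt_of_le ((Polynomial.natDegree_lt_iff_degree_lt h0).mpr (Polynomial.mem_degreeLT.mp P.2)) hrp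
    have hrange : LinearMap.range T = W := by
      ext f
      rw [hiff, LinearMap.mem_range]
      exact ⟨fun ⟨P, e⟩ => ⟨P, Polynomial.mem_degreeLT.mp P.2, e⟩, fun ⟨P, hP, e⟩ => ⟨⟨P, Polynomial.mem_degreeLT.mpr hP⟩, e⟩⟩
    rw [← hrange, LinearMap.finrank_range_of_inj hT, (Polynomial.degreeLTEquiv K r).finrank_eq, Module.finrank_fin_fun]
  · exact exists_congr fun P => and_congr_right fun _ => ⟨fun e j => (congrFun e j).symm, fun e => funext fun j => (e j).symm⟩

end Cfsg.Agent.S0673
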