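import Cfsg.Statements.S0674
import Mathlib
import Cfsg.Agent.Lib.Perm.PrimeDegree
import Cfsg.Agent.S0673
-- import your own Cfsg.Agent.* helpers here

set_option autoImplicit false
open Cfsg

namespace Cfsg.Agent.S0674

/-- Invariant polynomial spaces of small degree force affine maps. -/
theorem heartAffine {p : ℕ} [Fact p.Prime] {K : Type*} [Field K] [CharP K p] (φ : ZMod p → ZMod p) (s : ℕ)
    (hs2 : 2 ≤ s) (hsp : 2 * s ≤ p + 1)
    (h : ∀ P : Polynomial K, P.degree < s → ∃ Q : Polynomial K, Q.degree < s ∧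
      ∀ j, P.eval (ZMod.castHom dvd_rfl K (φ j)) = Q.eval (ZMod.castHom dvd_rfl K j)) :
    ∃ a b : ZMod p, ∀ x, φ x = a * x + b := by
  classical
  set c : ZMod p →+* K := ZMod.castHom dvd_rfl K
  have hX : (Polynomial.X : Polynomial K).degree < s := by
    rw [Polynomial.degree_X]; exact_mod_cast hs2
  obtain ⟨P, hP, hPe⟩ := h _ hX
  simp only [Polynomial.eval_X] at hPe
  set m := P.natDegree with hm
  have hms : m < s := by
    by_cases h0 : P = 0
    · simp [hm, h0]; omega
    · exact (Polynomial.natDegree_lt_iff_degree_lt h0).2 hP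
  by_cases hm1 : m ≤ 1
  · refine ⟨φ 1 - φ 0, φ 0, fun x => c.injective ?_⟩
    have hlin : ∀ y, P.eval y = P.coeff 1 * y + P.coeff 0 := fun y => by
      conv_lhs => rw [Polynomial.eq_X_add_C_of_natDegree_le_one hm1]
      simp
    have e0 := hPe 0
    have e1 := hPe 1
    rw [hlin, map_zero, mul_zero, zero_add] at e0
    rw [hlin, map_one, mul_one] at e1
    rw [hPe, hlin, map_add, map_mul, map_sub, e1, e0]
    ring
  · exfalso
    push Not at hm1
    set i := (s + m - 1) / m with hi
    have h1 : s ≤ i * m := by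
      have := Nat.lt_mul_div_succ (s + m - 1) (by omega : 0 < m)
      rw [← hi, Nat.mul_add, mul_one, mul_comm] at this
      omega
    have h2 : i * m ≤ s + m - 1 := Nat.div_mul_le_self _ _
    have hi_lt : i < s := by
      by_contra hh
      push Not at hh
      have := Nat.mul_le_mul hh hm1
      omega
    obtain ⟨Q, hQ, hQe⟩ := h (Polynomial.X ^ i) (by rw [Polynomial.degree_X_pow]; exact_mod_cast hi_lt)
    have hQn : Q.natDegree < s := by
      by_cases h0 : Q = 0
      · simp [h0]; omega
      · exact (Polynomial.natDegree_lt_iff_degree_lt h0).2 hQ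
    have heq : P ^ i - Q = 0 := by
      refine Polynomial.eq_zero_of_natDegree_lt_card_of_eval_eq_zero (f := c) _ c.injective (fun j => ?_) ?_
      · rw [Polynomial.eval_sub, Polynomial.eval_pow, ← hPe, ← hQe]
        simp
      · rw [ZMod.card]
        have h3 : (P ^ i).natDegree ≤ i * m := Polynomial.natDegree_pow_le
        have := Polynomial.natDegree_sub_le (P ^ i) Q
        omega
    rw [sub_eq_zero] at heq
    rw [← heq, Polynomial.natDegree_pow, ← hm] at hQn
    omega

/-- Let `G` be a non-solvable transitive permutation group of prime degree `p` and `K` a field of characteristic `p`. Then the heart of the permutation module is irreducible: an invariant subspace containing the constants and contained in the sum-zero functions is one or the other. -/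
theorem result {α : Type*} [Fintype α] [DecidableEq α] {p : ℕ} [Fact p.Prime] (hα : Fintype.card α = p) (G : Subgroup (Equiv.Perm α)) [MulAction.IsPretransitive G α] (hG : ¬ Group.IsSolvable G) {K : Type*} [Field K] [CharP K p] (W : Subrepresentation (Cfsg.permRep K G α)) (h₁ : (Cfsg.permConstants K G α).toSubmodule ≤ W.toSubmodule) (h₂ : W.toSubmodule ≤ (Cfsg.permSumZero K G α).toSubmodule) : W = Cfsg.permConstants K G α ∨ W = Cfsg.permSumZero K G α := by
  classical
  have hp : p.Prime := Fact.out
  haveI : Finite G := inferInstance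
  obtain ⟨a₀⟩ : Nonempty α := Fintype.card_pos_iff.1 (hα ▸ hp.pos)
  obtain ⟨σ, hσ⟩ := exists_prime_orderOf_dvd_card' (G := G) p (by
    rw [← hα, ← Nat.card_eq_fintype_card, ← MulAction.index_stabilizer_of_transitive G a₀]
    exact Subgroup.index_dvd_card _)
  obtain ⟨a₁, ha₁⟩ : ∃ a : α, σ • a ≠ a := by
    by_contra hh
    push Not at hh
    have : σ = 1 := Subtype.ext (Equiv.ext fun a => hh a)
    rw [this, orderOf_one] at hσ
    exact hp.ne_one hσ.symm
  have hper : Function.minimalPeriod (σ • ·) a₁ = p := by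
    have hd : Function.minimalPeriod (σ • ·) a₁ ∣ p := by
      rw [← MulAction.pow_smul_eq_iff_minimalPeriod_dvd, ← hσ, pow_orderOf_eq_one, one_smul]
    rcases (Nat.dvd_prime hp).1 hd with h | h
    · exfalso
      apply ha₁
      have h1 : σ ^ 1 • a₁ = a₁ := MulAction.pow_smul_eq_iff_minimalPeriod_dvd.2 (by rw [h])
      rwa [pow_one] at h1
    · exact h
  let f₀ : ZMod p → α := fun x => σ ^ (x.val : ℤ) • a₁
  have hfz : ∀ z : ℤ, f₀ z = σ ^ z • a₁ := fun z => by
    show σ ^ (((z : ZMod p).val : ℕ) : ℤ) • a₁ = _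
    rw [ZMod.val_intCast, ← hper, MulAction.zpow_smul_mod_minimalPeriod]
  have hinj : Function.Injective f₀ := by
    intro x y hxy
    change σ ^ (x.val : ℤ) • a₁ = σ ^ (y.val : ℤ) • a₁ at hxy
    have h1 : σ ^ ((x.val : ℤ) - y.val) • a₁ = a₁ := by
      rw [zpow_sub, (Commute.zpow_zpow_self σ _ _).inv_right.eq, mul_smul, hxy, inv_smul_smul]
    rw [MulAction.zpow_smul_eq_iff_minimalPeriod_dvd, hper, ← ZMod.intCast_zmod_eq_zero_iff_dvd,
      Int.cast_sub, sub_eq_zero, Int.cast_natCast, Int.cast_natCast, ZMod.natCast_zmod_val,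
      ZMod.natCast_zmod_val] at h1
    exact h1
  let e : ZMod p ≃ α := Equiv.ofBijective f₀ ((Fintype.bijective_iff_injective_and_card f₀).2 ⟨hinj, by rw [ZMod.card, hα]⟩)
  have hstep : ∀ x, σ • e x = e (x + 1) := fun x => by
    show σ • f₀ x = f₀ (x + 1)
    rw [show x + 1 = (((x.val : ℤ) + 1 : ℤ) : ZMod p) by simp, hfz, zpow_add, zpow_one,
      (Commute.zpow_self σ _).eq, mul_smul]
  let c : ZMod p →+* K := ZMod.castHom dvd_rfl K
  -- invariant polynomial spaces
  have hspace : ∀ U : Subrepresentation (Cfsg.permRep K G α), ∃ r : ℕ, r ≤ p ∧ Module.finrank K U.toSubmodule = r ∧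
      ∀ f : α → K, f ∈ U.toSubmodule ↔ ∃ P : Polynomial K, P.degree < r ∧ ∀ j, f (e j) = P.eval (c j) := by
    intro U
    let E : (α → K) ≃ₗ[K] (ZMod p → K) := LinearEquiv.funCongrLeft K K e
    have hU : ∀ f ∈ U.toSubmodule.map E.toLinearMap, (fun j => f (j - 1)) ∈ U.toSubmodule.map E.toLinearMap := by
      rintro _ ⟨u, hu, rfl⟩
      refine ⟨_, U.apply_mem_toSubmodule σ hu, funext fun j => ?_⟩
      show u (σ⁻¹ • e j) = u (e (j - 1))
      congr 1
      rw [inv_smul_eq_iff, hstep, sub_add_cancel]
    obtain ⟨r, hr, hrank, hmem⟩ := Cfsg.Agent.S0673.result (U.toSubmodule.map E.toLinearMap) hU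
    refine ⟨r, hr, ?_, fun f => ?_⟩
    · rw [← hrank, LinearEquiv.finrank_map_eq]
    · rw [show (∃ P : Polynomial K, P.degree < r ∧ ∀ j, f (e j) = P.eval (c j)) ↔
          E f ∈ U.toSubmodule.map E.toLinearMap from (hmem (E f)).symm]
      exact ((Submodule.mem_map_equiv (e := E) U.toSubmodule).trans (by rw [LinearEquiv.symm_apply_apply])).symm
  obtain ⟨r, hr, hrank, hW⟩ := hspace W
  set C := (Cfsg.permConstants K G α).toSubmodule with hC
  set S := (Cfsg.permSumZero K G α).toSubmodule with hS
  have h1W : (fun _ : α => (1 : K)) ∈ W.toSubmodule := h₁ (Submodule.mem_span_singleton_self _)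
  obtain ⟨x₀⟩ : Nonempty α := ⟨a₀⟩
  have hSne : S ≠ ⊤ := fun e' => by
    have : (Pi.single x₀ 1 : α → K) ∈ S := e' ▸ Submodule.mem_top
    have h3 : ∑ x, (Pi.single x₀ 1 : α → K) x = 0 := this
    simp at h3
  have hSlt : Module.finrank K S < p := by
    have := Submodule.finrank_lt hSne
    rwa [Module.finrank_fintype_fun_eq_card, hα] at this
  have hr1 : 1 ≤ r := by
    rw [← hrank]
    exact Submodule.one_le_finrank_iff.2 fun e' => by
      rw [e', Submodule.mem_bot] at h1W
      exact one_ne_zero (congrFun h1W x₀)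
  have hrp : r ≤ Module.finrank K S := hrank ▸ Submodule.finrank_mono h₂
  rcases eq_or_lt_of_le hr1 with hr1' | hr2
  · left
    apply Subrepresentation.toSubmodule_injective
    refine (Submodule.eq_of_le_of_finrank_le h₁ ?_).symm
    rw [hrank, ← hr1']
    exact Submodule.one_le_finrank_iff.2 fun e' => by
      have h1C : (fun _ : α => (1 : K)) ∈ C := Submodule.mem_span_singleton_self _
      rw [e', Submodule.mem_bot] at h1C
      exact one_ne_zero (congrFun h1C x₀)
  by_cases hrS : r = Module.finrank K S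
  · right
    apply Subrepresentation.toSubmodule_injective
    exact Submodule.eq_of_le_of_finrank_le h₂ (by rw [hrank, ← hrS])
  exfalso
  have hrp2 : r + 2 ≤ p := by omega
  -- a power sum
  have hsum : ∀ Q : Polynomial K, Q.natDegree < p - 1 → ∑ j : ZMod p, Q.eval (c j) = 0 := fun Q hQ => by
    simp only [Polynomial.eval_eq_sum_range]
    rw [Finset.sum_comm]
    refine Finset.sum_eq_zero fun i hi => ?_
    rw [← Finset.mul_sum, Finset.sum_congr rfl fun j _ => (map_pow c j i).symm, ← map_sum,
      FiniteField.sum_pow_lt_card_sub_one (K := ZMod p) i (by rw [ZMod.card]; rw [Finset.mem_range] at hi; omega), map_zero, mul_zero]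
  have htop : ∑ j : ZMod p, c j ^ (p - 1) ≠ 0 := by
    rw [← Finset.add_sum_erase _ _ (Finset.mem_univ (0 : ZMod p)), map_zero,
      zero_pow (by have := hp.two_le; omega), zero_add,
      Finset.sum_congr rfl fun j hj => by
        rw [← map_pow, ZMod.pow_card_sub_one_eq_one (Finset.ne_of_mem_erase hj), map_one],
      Finset.sum_const, Finset.card_erase_of_mem (Finset.mem_univ _), Finset.card_univ, ZMod.card, nsmul_eq_mul, mul_one,
      Nat.cast_sub hp.one_le, CharP.cast_eq_zero, Nat.cast_one, zero_sub]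
    exact neg_ne_zero.2 one_ne_zero
  let D : Subrepresentation (Cfsg.permRep K G α) :=
    { toSubmodule :=
        { carrier := {f | ∀ w ∈ W.toSubmodule, ∑ x, f x * w x = 0}
          add_mem' := fun {f f'} hf hf' w hw => by
            simp [add_mul, Finset.sum_add_distrib, hf w hw, hf' w hw]
          zero_mem' := fun w _ => by simp
          smul_mem' := fun t f hf w hw => by simp [mul_assoc, ← Finset.mul_sum, hf w hw] }
      apply_mem_toSubmodule := fun g v hv w hw => by
        refine Eq.trans ?_ (hv _ (W.apply_mem_toSubmodule g⁻¹ hw))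
        refine Fintype.sum_equiv (MulAction.toPerm g⁻¹) _ _ fun x => ?_
        show v (g⁻¹ • x) * w x = v (g⁻¹ • x) * w ((g⁻¹)⁻¹ • g⁻¹ • x)
        rw [inv_smul_smul] }
  obtain ⟨r', hr', -, hD⟩ := hspace D
  let mono : ℕ → α → K := fun i x => c (e.symm x) ^ i
  have hmono : ∀ i, i < p - r → mono i ∈ D.toSubmodule := by
    intro i hi w hw
    obtain ⟨P, hP, hPe⟩ := (hW w).1 hw
    rw [← Equiv.sum_comp e]
    simp only [mono, Equiv.symm_apply_apply, hPe]
    refine Eq.trans (Finset.sum_congr rfl fun j _ => ?_) (hsum (Polynomial.X ^ i * P) ?_)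
    · simp
    · refine lt_of_le_of_lt Polynomial.natDegree_mul_le ?_
      rw [Polynomial.natDegree_X_pow]
      rcases eq_or_ne P 0 with h0 | h0
      · simp [h0]; omega
      · have := (Polynomial.natDegree_lt_iff_degree_lt h0).2 hP
        omega
  have hmemdeg : ∀ (U : Subrepresentation (Cfsg.permRep K G α)) (s : ℕ),
      (∀ f : α → K, f ∈ U.toSubmodule ↔ ∃ P : Polynomial K, P.degree < s ∧ ∀ j, f (e j) = P.eval (c j)) →
      ∀ i, i < p → mono i ∈ U.toSubmodule → i < s := by
    intro U s hU i hi hm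
    obtain ⟨P, hP, hPe⟩ := (hU _).1 hm
    by_contra hge
    push Not at hge
    have hPn : P.natDegree < p := by
      rcases eq_or_ne P 0 with h0 | h0
      · simp [h0]; exact hp.pos
      · have := (Polynomial.natDegree_lt_iff_degree_lt h0).2 (lt_of_lt_of_le hP (Nat.cast_le.2 hge))
        omega
    have heq : P - Polynomial.X ^ i = 0 := by
      refine Polynomial.eq_zero_of_natDegree_lt_card_of_eval_eq_zero (f := c) _ c.injective (fun j => ?_) ?_
      · have := hPe j
        simp only [mono, Equiv.symm_apply_apply] at this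
        simp [← this]
      · rw [ZMod.card]
        have := Polynomial.natDegree_sub_le P (Polynomial.X ^ i)
        rw [Polynomial.natDegree_X_pow] at this
        omega
    rw [sub_eq_zero] at heq
    rw [heq, Polynomial.degree_X_pow] at hP
    have : i < s := by exact_mod_cast hP
    omega
  have hr'1 : p - r ≤ r' := by
    have := hmemdeg D r' hD (p - r - 1) (by omega) (hmono _ (by omega))
    omega
  have hr'2 : r' ≤ p - r := by
    by_contra hlt
    push Not at hlt
    have h4 : mono (p - r) ∈ D.toSubmodule := (hD _).2 ⟨Polynomial.X ^ (p - r), by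
      rw [Polynomial.degree_X_pow]; exact_mod_cast hlt, fun j => by simp [mono]⟩
    have h5 : mono (r - 1) ∈ W.toSubmodule := (hW _).2 ⟨Polynomial.X ^ (r - 1), by
      rw [Polynomial.degree_X_pow]; exact_mod_cast (by omega : r - 1 < r), fun j => by simp [mono]⟩
    have h6 := h4 _ h5
    rw [← Equiv.sum_comp e] at h6
    simp only [mono, Equiv.symm_apply_apply, ← pow_add] at h6
    rw [show p - r + (r - 1) = p - 1 by omega] at h6
    exact htop h6
  obtain ⟨s, U, hs2, hsp, hUs⟩ : ∃ (s : ℕ) (U : Subrepresentation (Cfsg.permRep K G α)), 2 ≤ s ∧ 2 * s ≤ p + 1 ∧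
      ∀ f : α → K, f ∈ U.toSubmodule ↔ ∃ P : Polynomial K, P.degree < s ∧ ∀ j, f (e j) = P.eval (c j) := by
    rcases le_or_gt (2 * r) (p + 1) with h | h
    · exact ⟨r, W, hr2, h, hW⟩
    · exact ⟨r', D, by omega, by omega, hD⟩
  refine hG (CfsgLib.PrimeDegree.isSolvable_of_affine e fun g => ?_)
  obtain ⟨a, b, hab⟩ := heartAffine (K := K) (fun j => e.symm (g • e j)) s hs2 hsp fun P hP => by
    have hm : (fun x => P.eval (c (e.symm x))) ∈ U.toSubmodule := (hUs _).2 ⟨P, hP, fun j => by simp⟩
    obtain ⟨Q, hQ, hQe⟩ := (hUs _).1 (U.apply_mem_toSubmodule g⁻¹ hm)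
    refine ⟨Q, hQ, fun j => ?_⟩
    have := hQe j
    change P.eval (c (e.symm ((g⁻¹)⁻¹ • e j))) = _ at this
    rwa [inv_inv] at this
  exact ⟨a, b, fun x => by rw [← hab x, Equiv.apply_symm_apply]⟩

end Cfsg.Agent.S0674
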