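import Cfsg.Statements.S0676
import Cfsg.Agent.S0672
import Cfsg.Agent.S0674
import Cfsg.Agent.S0675
import Cfsg.Agent.Lib.Perm.CycleCoords
import Mathlib.GroupTheory.SpecificGroups.ZGroup

set_option autoImplicit false
open Cfsg

namespace Cfsg.Agent.S0676

/-- A non-solvable transitive permutation group of prime degree `p` whose Sylow `p`-normaliser has even order is triply transitive. -/
theorem result {α : Type*} [Fintype α] [DecidableEq α] {p : ℕ} [Fact p.Prime] (hα : Fintype.card α = p) (G : Subgroup (Equiv.Perm α)) [MulAction.IsPretransitive G α] (hG : ¬ Group.IsSolvable G) (P : Sylow p G) (heven : Even (Nat.card (Subgroup.normalizer ((P : Subgroup G) : Set G)))) : MulAction.IsMultiplyPretransitive G α 3 := by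
  classical
  have hp : p.Prime := Fact.out
  have hp3 : 3 < p := by
    by_contra hle
    push Not at hle
    refine hG ?_
    have h1 : Squarefree (Nat.card G) := by
      have h := Subgroup.card_subgroup_dvd_card G
      rw [Nat.card_eq_fintype_card (α := Equiv.Perm α), Fintype.card_perm, hα] at h
      refine Squarefree.squarefree_of_dvd h ?_
      have h2 := hp.two_le
      interval_cases p <;> decide +kernel
    haveI := IsZGroup.of_squarefree h1
    infer_instance
  have hp2 : p ≠ 2 := by omega
  have h2 : MulAction.IsMultiplyPretransitive G α 2 :=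
    (Cfsg.Agent.S0675.result (hα ▸ hp) G).resolve_left hG
  obtain ⟨σ, t, e, hσ, he, ht⟩ := CfsgLib.CycleCoords.exists_reflection hα hp2 G P heven
  have h20 : (2 : ZMod p) ≠ 0 := by
    have := (ZMod.natCast_eq_zero_iff 2 p).not.2 (fun hd => hp2 ((Nat.prime_dvd_prime_iff_eq hp Nat.prime_two).1 hd))
    exact_mod_cast this
  have hstab : ∀ a : α, Even (Nat.card (MulAction.stabilizer G a)) := by
    intro a
    obtain ⟨g, hg⟩ := MulAction.exists_smul_eq G (e 0) a
    let c : MulAction.stabilizer G (e 0) := ⟨t, by rw [MulAction.mem_stabilizer_iff, ht, neg_zero]⟩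
    have hc : orderOf c = 2 := by
      refine orderOf_eq_prime ?_ fun h => ?_
      · refine Subtype.ext (Subtype.ext (Equiv.ext fun b => ?_))
        obtain ⟨x, rfl⟩ := e.surjective b
        show t • t • e x = e x
        rw [ht, ht, neg_neg]
      · have h1 : t = 1 := congrArg Subtype.val h
        have h3 := ht 1
        rw [h1, one_smul] at h3
        have h4 := e.injective h3
        exact h20 (by linear_combination h4)
    have hcard : Nat.card (MulAction.stabilizer G a) = Nat.card (MulAction.stabilizer G (e 0)) := by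
      subst hg
      exact (Nat.card_congr (MulAction.stabilizerEquivStabilizer (G := G) (g := g) (a := e 0) (b := g • e 0) rfl).toEquiv).symm
    rw [hcard]
    exact even_iff_two_dvd.mpr (hc ▸ orderOf_dvd_natCard c)
  refine Cfsg.Agent.S0672.result (K := ZMod p) h2 (hα ▸ dvd_rfl) hstab fun f hf => ?_
  let W : Subrepresentation (Cfsg.permRep (ZMod p) G α) :=
    { toSubmodule :=
        { carrier := {v | ∃ h : v ∈ (Cfsg.permSumZero (ZMod p) G α).toSubmodule, f ⟨v, h⟩ = 0}
          add_mem' := fun {u v} ⟨hu, hu'⟩ ⟨hv, hv'⟩ => ⟨Submodule.add_mem _ hu hv, by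
            rw [show (⟨u + v, Submodule.add_mem _ hu hv⟩ : (Cfsg.permSumZero (ZMod p) G α).toSubmodule) =
              ⟨u, hu⟩ + ⟨v, hv⟩ from rfl, map_add, hu', hv', add_zero]⟩
          zero_mem' := ⟨Submodule.zero_mem _, by
            rw [show (⟨0, Submodule.zero_mem _⟩ : (Cfsg.permSumZero (ZMod p) G α).toSubmodule) = 0 from rfl,
              map_zero]⟩
          smul_mem' := fun r v ⟨hv, hv'⟩ => ⟨Submodule.smul_mem _ r hv, by
            rw [show (⟨r • v, Submodule.smul_mem _ r hv⟩ : (Cfsg.permSumZero (ZMod p) G α).toSubmodule) =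
              r • ⟨v, hv⟩ from rfl, map_smul, hv', smul_zero]⟩ }
      apply_mem_toSubmodule := fun g v ⟨hv, hv'⟩ => ⟨(Cfsg.permSumZero (ZMod p) G α).apply_mem_toSubmodule g hv, by
        refine (f.isIntertwining _ _ g ⟨v, hv⟩).trans ?_
        rw [hv', map_zero]⟩ }
  have hone : (fun _ : α => (1 : ZMod p)) ∈ (Cfsg.permSumZero (ZMod p) G α).toSubmodule := by
    show ∑ _x : α, (1 : ZMod p) = 0
    rw [Finset.sum_const, Finset.card_univ, hα, nsmul_one, ZMod.natCast_self]
  have hC1 : (Cfsg.permConstants (ZMod p) G α).toSubmodule ≤ W.toSubmodule := by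
    refine Submodule.span_le.mpr (Set.singleton_subset_iff.mpr ?_)
    exact ⟨hone, hf _ (Submodule.mem_span_singleton_self _)⟩
  rcases Cfsg.Agent.S0674.result hα G hG W hC1 (fun v hv => hv.1) with hW | hW
  swap
  · refine Representation.IntertwiningMap.ext (LinearMap.ext fun v => ?_)
    have hv : (v : α → ZMod p) ∈ W.toSubmodule := by rw [hW]; exact v.2
    obtain ⟨h, h'⟩ := hv
    exact h'
  exfalso
  -- the linear function is killed
  let l : α → ZMod p := fun a => e.symm a
  have hl : l ∈ (Cfsg.permSumZero (ZMod p) G α).toSubmodule := by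
    show ∑ a, l a = 0
    rw [← Equiv.sum_comp e]
    have hs : ∑ x : ZMod p, x = 0 := by
      have h := Equiv.sum_comp (Equiv.neg (ZMod p)) (fun x : ZMod p => x)
      simp only [Equiv.neg_apply] at h
      have hn : ∑ x : ZMod p, -x = -∑ x : ZMod p, x := Finset.sum_neg_distrib _
      rw [hn] at h
      have : (2 : ZMod p) * ∑ x : ZMod p, x = 0 := by linear_combination -h
      exact (mul_eq_zero.1 this).resolve_left h20
    simpa [l] using hs
  let V := (Cfsg.permSumZero (ZMod p) G α).toRepresentation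
  let u : Set.powersetCard α 2 → ZMod p := f ⟨l, hl⟩
  have hσu : ∀ (z : ℤ) q, u ((σ ^ z)⁻¹ • q) = u q := by
    intro z q
    have e1 : V (σ ^ z) ⟨l, hl⟩ = ⟨l, hl⟩ + (-(z : ZMod p)) • ⟨_, hone⟩ := by
      refine Subtype.ext (funext fun a => ?_)
      obtain ⟨x, rfl⟩ := e.surjective a
      show e.symm ((σ ^ z)⁻¹ • e x) = e.symm (e x) + -(z : ZMod p) * 1
      rw [← zpow_neg, he, Equiv.symm_apply_apply, Equiv.symm_apply_apply, Int.cast_neg, mul_one]
    have e2 := f.isIntertwining _ _ (σ ^ z) ⟨l, hl⟩
    rw [show (Cfsg.permSumZero (ZMod p) G α).toRepresentation (σ ^ z) ⟨l, hl⟩ = _ from e1, map_add, map_smul,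
      hf ⟨_, hone⟩ (Submodule.mem_span_singleton_self _), smul_zero, add_zero] at e2
    exact (congrFun e2 q).symm
  have htu : ∀ q, u (t⁻¹ • q) = - u q := by
    intro q
    have e1 : V t ⟨l, hl⟩ = (-1 : ZMod p) • ⟨l, hl⟩ := by
      refine Subtype.ext (funext fun a => ?_)
      obtain ⟨x, rfl⟩ := e.surjective a
      show e.symm (t⁻¹ • e x) = (-1 : ZMod p) * e.symm (e x)
      have : t⁻¹ • e x = e (-x) := by rw [inv_smul_eq_iff, ht, neg_neg]
      rw [this, Equiv.symm_apply_apply, Equiv.symm_apply_apply, neg_one_mul]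
    have e2 := f.isIntertwining _ _ t ⟨l, hl⟩
    rw [show (Cfsg.permSumZero (ZMod p) G α).toRepresentation t ⟨l, hl⟩ = _ from e1, map_smul] at e2
    exact (congrFun e2 q).symm.trans (neg_one_mul _)
  have hzero : u = 0 := by
    funext q
    obtain ⟨a, b, hab, hq⟩ := Finset.card_eq_two.1 q.2
    obtain ⟨x, rfl⟩ := e.surjective a
    obtain ⟨y, rfl⟩ := e.surjective b
    have hswap : t⁻¹ • q = (σ ^ ((x + y).val : ℤ))⁻¹ • q := by
      refine Subtype.ext ?_
      erw [Set.powersetCard.coe_smul, Set.powersetCard.coe_smul]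
      rw [hq, ← zpow_neg]
      simp only [Finset.smul_finset_insert, Finset.smul_finset_singleton]
      have h1 : ∀ w, t⁻¹ • e w = e (-w) := fun w => by rw [inv_smul_eq_iff, ht, neg_neg]
      rw [h1, h1, he, he, Int.cast_neg, Int.cast_natCast, ZMod.natCast_zmod_val,
        show x + -(x + y) = -y by ring, show y + -(x + y) = -x by ring, Finset.pair_comm]
    have h1 := htu q
    rw [hswap, hσu] at h1
    show u q = 0
    have : (2 : ZMod p) * u q = 0 := by linear_combination h1
    exact (mul_eq_zero.1 this).resolve_left h20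
  have hlW : l ∈ W.toSubmodule := ⟨hl, hzero⟩
  rw [hW] at hlW
  obtain ⟨c, hc⟩ := Submodule.mem_span_singleton.1 hlW
  have h01 : l (e 0) = l (e 1) := by rw [← hc]; rfl
  simp [l] at h01

end Cfsg.Agent.S0676
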