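import Cfsg.Statements.S3681
import Mathlib

set_option autoImplicit false
open Cfsg

namespace Cfsg.Agent.S3681

open Equiv in
theorem threeCycle {Ω : Type*} [Fintype Ω] [DecidableEq Ω] (g h : Perm Ω) (α : Ω) (hg : g α ≠ α) (hh : h α ≠ α)
    (hd : ∀ x, g x ≠ x → h x ≠ x → x = α) : (g * h * g⁻¹ * h⁻¹).IsThreeCycle := by
  have hgg : ∀ x, g x ≠ x → g (g x) ≠ g x := fun x hx e => hx (g.injective e)
  have hhh : ∀ x, h x ≠ x → h (h x) ≠ h x := fun x hx e => hx (h.injective e)
  have hgfix : ∀ x, h x ≠ x → x ≠ α → g x = x := fun x hx hne => by_contra fun e => hne (hd x e hx)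
  have hhfix : ∀ x, g x ≠ x → x ≠ α → h x = x := fun x hx hne => by_contra fun e => hne (hd x hx e)
  have hgi : ∀ x, g x = x → g⁻¹ x = x := fun x hx => Perm.inv_eq_iff_eq.mpr hx.symm
  have hhi : ∀ x, h x = x → h⁻¹ x = x := fun x hx => Perm.inv_eq_iff_eq.mpr hx.symm
  have hab : g α ≠ h α := fun e => hg (hd _ (hgg α hg) (e ▸ hhh α hh))
  set β := g α with hβ
  set γ := h α with hγ
  set c := g * h * g⁻¹ * h⁻¹
  have c1 : c β = γ := by
    show g (h (g⁻¹ (h⁻¹ β))) = γ
    rw [hhi β (hhfix β (hgg α hg) hg), show g⁻¹ β = α from g.symm_apply_apply α]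
    exact hgfix γ (hhh α hh) hh
  have c2 : c α = β := by
    show g (h (g⁻¹ (h⁻¹ α))) = β
    have hy : h⁻¹ α ≠ α := fun e => hh (Perm.inv_eq_iff_eq.mp e).symm
    have hym : h (h⁻¹ α) ≠ h⁻¹ α := by rw [Equiv.Perm.coe_inv, Equiv.apply_symm_apply]; exact hy.symm
    rw [hgi _ (hgfix _ hym hy), Equiv.Perm.coe_inv, Equiv.apply_symm_apply]
  have c4 : ∀ x, x ≠ α → x ≠ β → x ≠ γ → c x = x := by
    intro x h1 h2 h3
    show g (h (g⁻¹ (h⁻¹ x))) = x
    by_cases hgx : g x = x
    · by_cases hhx : h x = x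
      · rw [hhi x hhx, hgi x hgx, hhx, hgx]
      · have hy : h⁻¹ x ≠ α := fun e => h3 (Perm.inv_eq_iff_eq.mp e)
        have hym : h (h⁻¹ x) ≠ h⁻¹ x := by
          rw [Equiv.Perm.coe_inv, Equiv.apply_symm_apply]; exact fun e => hhx (Perm.inv_eq_iff_eq.mp e.symm).symm
        rw [hgi _ (hgfix _ hym hy), Equiv.Perm.coe_inv, Equiv.apply_symm_apply, hgx]
    · have hy : g⁻¹ x ≠ α := fun e => h2 (Perm.inv_eq_iff_eq.mp e)
      have hym : g (g⁻¹ x) ≠ g⁻¹ x := by
        rw [Equiv.Perm.coe_inv, Equiv.apply_symm_apply]; exact fun e => hgx (Perm.inv_eq_iff_eq.mp e.symm).symm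
      rw [hhi x (hhfix x hgx h1), hhfix _ hym hy, Equiv.Perm.coe_inv, Equiv.apply_symm_apply]
  have c3 : c γ = α := by
    by_contra e
    by_cases e1 : c γ = β
    · exact hh (c.injective (e1.trans c2.symm))
    by_cases e2 : c γ = γ
    · exact hab (c.injective (c1.trans e2.symm))
    · exact e2 (c.injective (c4 _ e e1 e2))
  rw [← card_support_eq_three_iff]
  have : c.support = {α, β, γ} := by
    ext x
    simp only [Perm.mem_support, Finset.mem_insert, Finset.mem_singleton]
    refine ⟨fun hx => ?_, ?_⟩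
    · by_contra hne
      push Not at hne
      exact hx (c4 x hne.1 hne.2.1 hne.2.2)
    · rintro (rfl | rfl | rfl)
      · rw [c2]; exact hg
      · rw [c1]; exact hab.symm
      · rw [c3]; exact hh.symm
  rw [this, Finset.card_insert_of_notMem (by simp [hg.symm, hh.symm]), Finset.card_insert_of_notMem (by simp [hab]),
    Finset.card_singleton]

open Equiv in
theorem bochert {Ω : Type*} [Fintype Ω] [DecidableEq Ω] (H : Subgroup (Perm Ω)) (hprim : MulAction.IsPreprimitive H Ω)
    (hA : ¬ alternatingGroup Ω ≤ H) :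
    Nat.card H * Nat.factorial ((Fintype.card Ω + 1) / 2) ≤ Nat.factorial (Fintype.card Ω) := by
  classical
  -- a smallest base
  let S := (Finset.univ : Finset (Finset Ω)).filter fun Γ => ∀ g ∈ H, (∀ x ∈ Γ, g x = x) → g = 1
  have hS : S.Nonempty := ⟨Finset.univ, by
    simp only [S, Finset.mem_filter, Finset.mem_univ, true_and]
    exact fun g _ hg => Equiv.ext fun x => hg x trivial⟩
  obtain ⟨Γ, hΓ, hmin⟩ := Finset.exists_min_image S Finset.card hS
  simp only [S, Finset.mem_filter, Finset.mem_univ, true_and] at hΓ hmin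
  have hhalf : 2 * Γ.card ≤ Fintype.card Ω := by
    by_contra hbig
    have hΔ : ¬ ∀ g ∈ H, (∀ x ∈ Γᶜ, g x = x) → g = 1 := fun hc => by
      have := hmin Γᶜ hc
      rw [Finset.card_compl] at this
      omega
    push Not at hΔ
    obtain ⟨g, hgH, hgfix, hg1⟩ := hΔ
    obtain ⟨α, hgα⟩ : ∃ α, g α ≠ α := by
      by_contra hc
      push Not at hc
      exact hg1 (Equiv.ext hc)
    have hαΓ : α ∈ Γ := by
      by_contra hc
      exact hgα (hgfix α (Finset.mem_compl.mpr hc))
    have hΓ' : ¬ ∀ g ∈ H, (∀ x ∈ Γ.erase α, g x = x) → g = 1 := fun hc => by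
      have := hmin _ hc
      rw [Finset.card_erase_of_mem hαΓ] at this
      have := Finset.card_pos.mpr ⟨α, hαΓ⟩
      omega
    push Not at hΓ'
    obtain ⟨h, hhH, hhfix, hh1⟩ := hΓ'
    have hhα : h α ≠ α := by
      intro hc
      refine hh1 (hΓ h hhH fun x hx => ?_)
      rcases eq_or_ne x α with rfl | hne
      · exact hc
      · exact hhfix x (Finset.mem_erase.mpr ⟨hne, hx⟩)
    have h3 := threeCycle g h α hgα hhα fun x hgx hhx => by
      by_contra hne
      by_cases hx : x ∈ Γ
      · exact hhx (hhfix x (Finset.mem_erase.mpr ⟨hne, hx⟩))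
      · exact hgx (hgfix x (Finset.mem_compl.mpr hx))
    exact hA (Equiv.Perm.alternatingGroup_le_of_isPreprimitive_of_isThreeCycle_mem hprim h3
      (mul_mem (mul_mem (mul_mem hgH hhH) (inv_mem hgH)) (inv_mem hhH)))
  let f : H × Perm {x // x ∉ Γ} → Perm Ω := fun p => p.1.1 * Perm.ofSubtype p.2
  have hf : Function.Injective f := by
    rintro ⟨a, σ⟩ ⟨b, τ⟩ hab
    have hab' : a.1 * Perm.ofSubtype σ = b.1 * Perm.ofSubtype τ := hab
    have hab1 : a = b := by
      refine (inv_mul_eq_one.mp (Subtype.ext (hΓ _ (b⁻¹ * a).2 fun x hx => ?_))).symm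
      have := congrArg (fun p : Perm Ω => p x) hab'
      simp only [Perm.mul_apply, Perm.ofSubtype_apply_of_not_mem σ (not_not.mpr hx),
        Perm.ofSubtype_apply_of_not_mem τ (not_not.mpr hx)] at this
      simp [this]
    subst hab1
    exact Prod.ext rfl (Perm.ofSubtype_injective (mul_left_cancel hab'))
  have h1 := Nat.card_le_card_of_injective f hf
  rw [Nat.card_prod, Nat.card_perm, Nat.card_perm, Nat.card_eq_fintype_card (α := Ω),
    Nat.card_eq_fintype_card (α := {x // x ∉ Γ}), Fintype.card_subtype_compl, Fintype.card_coe] at h1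
  exact le_trans (Nat.mul_le_mul_left _ (Nat.factorial_le (by omega))) h1

/-- Bochert's bound for primitive groups. Let a finite group G act faithfully and primitively on a finite set Ω with n elements, and suppose the image of G in the symmetric group of Ω does not contain the alternating group of Ω. Then |G| · ⌊(n + 1)/2⌋! ≤ n!, that is, the index of G in the symmetric group is at least ⌊(n + 1)/2⌋!. -/
theorem result {G Ω : Type*} [Group G] [Finite G] [MulAction G Ω] [FaithfulSMul G Ω] [Fintype Ω] [DecidableEq Ω]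
    (hprim : MulAction.IsPreprimitive G Ω) (hA : ¬ alternatingGroup Ω ≤ (MulAction.toPermHom G Ω).range) :
    Nat.card G * Nat.factorial ((Fintype.card Ω + 1) / 2) ≤ Nat.factorial (Fintype.card Ω) := by
  have hinj : Function.Injective (MulAction.toPermHom G Ω) := MulAction.toPerm_injective
  rw [show Nat.card G = Nat.card (MulAction.toPermHom G Ω).range from Nat.card_congr (MonoidHom.ofInjective hinj).toEquiv]
  refine bochert _ ?_ hA
  haveI := hprim
  exact MulAction.IsPreprimitive.of_surjective (f := ({ toFun := id, map_smul' := fun g x => rfl } :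
    Ω →ₑ[((MulAction.toPermHom G Ω).rangeRestrict : G → _)] Ω)) Function.surjective_id

end Cfsg.Agent.S3681
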