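import Cfsg.Statements.S4774
import Cfsg.Agent.Lib.SL2Char.DegreeGraph

set_option autoImplicit false
open Cfsg
open CfsgLib.SL2Char

namespace Cfsg.Agent.S4774

theorem result (F : Type*) [Field F] [Fintype F] (t : ℕ) [Fact t.Prime] [CharP F t] (ht : t ≠ 2) (q : ℕ) (hq : Fintype.card F = q) (h5 : 5 < q) {S : Type*} [Group S] [Finite S] (hS : Nonempty (S ≃* Matrix.ProjectiveSpecialLinearGroup (Fin 2) F) ∨ Nonempty (S ≃* Matrix.SpecialLinearGroup (Fin 2) F)) : Cfsg.degreePrimes S = {r : ℕ | r.Prime ∧ r ∣ q * (q ^ 2 - 1)} ∧ ∀ r s : ℕ, (Cfsg.degreeGraph S).Adj r s ↔ (r ≠ s ∧ r.Prime ∧ s.Prime ∧ r ∣ q ^ 2 - 1 ∧ s ∣ q ^ 2 - 1 ∧ (r = 2 ∨ s = 2 ∨ (r ∣ q + 1 ∧ s ∣ q + 1) ∨ (r ∣ q - 1 ∧ s ∣ q - 1))) := by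
  classical
  subst hq
  obtain ⟨h1, h2⟩ := hasSL2Degrees (F := F) (Or.inr h5)
  have h : HasSL2Degrees S (Fintype.card F) := by
    rcases hS with e | e
    · exact h2.of_equiv e.some
    · exact h1.of_equiv e.some
  obtain ⟨n, hn, hq⟩ := FiniteField.card F t
  refine ⟨h.primes, fun r s => (h.adj hn hq r s).trans ?_⟩
  have hodd : ¬ 2 ∣ Fintype.card F := by
    rw [hq]
    exact fun e => ht ((Nat.prime_dvd_prime_iff_eq Nat.prime_two hn).mp (Nat.prime_two.dvd_of_dvd_pow e)).symm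
  have e1 : 2 ∣ Fintype.card F + 1 := by omega
  have e2 : 2 ∣ Fintype.card F - 1 := by omega
  constructor
  · rintro ⟨hne, hr, hs, h'⟩
    refine ⟨hne, hr, hs, (prime_dvd_sq_sub_one hr).mpr ?_, (prime_dvd_sq_sub_one hs).mpr ?_, ?_⟩
    · tauto
    · tauto
    · exact Or.inr (Or.inr h')
  · rintro ⟨hne, hr, hs, hr', hs', h'⟩
    rw [prime_dvd_sq_sub_one hr] at hr'
    rw [prime_dvd_sq_sub_one hs] at hs'
    refine ⟨hne, hr, hs, ?_⟩
    rcases h' with rfl | rfl | h'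
    · tauto
    · tauto
    · exact h'

end Cfsg.Agent.S4774
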