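import Cfsg.Statements.S0980
import Cfsg.Agent.Lib.SmallOrders.ClassEquation

set_option autoImplicit false
open Cfsg

namespace Cfsg.Agent.S0980

/-- No finite simple group has order 5760 = 2^7 * 3^2 * 5. -/
theorem result {G : Type*} [Group G] [Finite G] [IsSimpleGroup G] : Nat.card G ≠ 5760 := by
  intro h
  haveI := Fintype.ofFinite G
  haveI : Fact (Nat.Prime 5) := ⟨by norm_num⟩
  have hN : Nat.card G = 5 * 1152 := h.trans (by norm_num)
  obtain ⟨M, P, n, e, S, hM, hP, hC, hNe, hmem⟩ := CfsgLib.SmallOrders.mem_exceptions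
    (p := 5) (m := 1152) (exc := [(576, 2)]) (by norm_num) hN (by norm_num) (by norm_num)
    (by decide +kernel)
  obtain ⟨rfl, rfl⟩ : n = 576 ∧ e = 2 := by simpa using hmem
  have hcs := CfsgLib.SmallOrders.classSearch_eq_true (q := 128) (k := 7)
    (CfsgLib.SmallOrders.not_comm h (by norm_num)) hM (by norm_num) hP hN (by norm_num)
    (by omega) (by norm_num) (by norm_num) (by norm_num) hNe (by norm_num) (by norm_num) S
  have hfalse : CfsgLib.SmallOrders.classSearch 5 1152 2 128
      (CfsgLib.SmallOrders.involCents 5 (5 * 1152)) = false := by decide +kernel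
  rw [hfalse] at hcs
  exact Bool.false_ne_true hcs

end Cfsg.Agent.S0980
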