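import Cfsg.Agent.Lib.SmallOrders.OrdersBelow6233
import Cfsg.Agent.Lib.SmallOrders.RangeExceptions
import Cfsg.Agent.Lib.SmallOrders.Order5400
import Cfsg.Agent.S0976
import Cfsg.Agent.S0977
import Cfsg.Agent.S0978
import Cfsg.Agent.S0980
import Cfsg.Statements.S0983

set_option autoImplicit false
open Cfsg

namespace Cfsg.Agent.S0983

/-- A non-abelian finite simple group of order greater than 3640 and at most 6232 has order 4080, 5616, 6048 or 6072. -/
theorem result {G : Type*} [Group G] [Finite G] [IsSimpleGroup G] (hG : ¬ IsMulCommutative G) (h1 : 3640 < Nat.card G) (h2 : Nat.card G ≤ 6232) : Nat.card G = 4080 ∨ Nat.card G = 5616 ∨ Nat.card G = 6048 ∨ Nat.card G = 6072 := by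

  have hm := CfsgLib.SmallOrders.mem_mid hG (by omega) h2
  simp only [CfsgLib.SmallOrders.exceptions_mid, List.mem_cons, List.not_mem_nil, or_false] at hm
  have e1 := Cfsg.Agent.S0976.result (G := G)
  have e2 := Cfsg.Agent.S0977.result (G := G)
  have e3 := Cfsg.Agent.S0978.result (G := G)
  have e4 := Cfsg.Agent.S0980.result (G := G)
  have e5 := CfsgLib.SmallOrders.card_ne_4500 hG
  have e6 := CfsgLib.SmallOrders.card_ne_5292 hG
  have e7 := CfsgLib.SmallOrders.card_ne_6000 hG
  have e8 := CfsgLib.SmallOrders.card_ne_4620 (G := G)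
  have e9 := CfsgLib.SmallOrders.card_ne_5460 (G := G)
  have e10 : Nat.card G ≠ 5400 := CfsgLib.SmallOrders.Order5400.false_5400 hG
  omega

end Cfsg.Agent.S0983
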