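import Cfsg.Statements.S4508
import Cfsg.Agent.Lib.CharTheory.DetSelfCent
import Cfsg.Agent.Lib.CharTheory.More
import Cfsg.Agent.S4441
import Cfsg.Agent.S0947
import Cfsg.Agent.Lib.Blocks.DefectZeroCount

set_option autoImplicit false
open Cfsg CfsgLib.CharTheory CfsgLib.CharTheory.SmallDegree CfsgLib.CharTheory.DetSelfCent CfsgLib.Blocks
open scoped ComplexConjugate

set_option linter.unusedVariables false

namespace Cfsg.Agent.S4508

/-- Let the finite group G contain an element x of prime order p with C_G(x) = ⟨x⟩, and let t be the number of conjugacy classes of elements of order p. If G has an irreducible character of degree p − 1, then t is even or the commutator subgroup has even index. -/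
theorem result {G : Type*} [Group G] [Finite G] (p : ℕ) (hp : p.Prime) (x : G) (hx : orderOf x = p) (hC : Subgroup.centralizer ({x} : Set G) = Subgroup.zpowers x) (t : ℕ) (ht : Nat.card {C : ConjClasses G // ∃ g ∈ C.carrier, orderOf g = p} = t) (χ : Cfsg.IrrCharacter G) (hχ : Cfsg.charDegree (χ : G → ℂ) + 1 = p) : Even t ∨ Even (commutator G).index := by
  classical
  haveI : Fact p.Prime := ⟨hp⟩
  haveI := Fintype.ofFinite G
  have hx1 : x ≠ 1 := fun h => hp.ne_one (by rw [← hx, h, orderOf_one])
  obtain ⟨P, hPle⟩ := (IsPGroup.of_card (p := p) (n := 1)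
    (G := Subgroup.zpowers x) (by rw [Nat.card_zpowers, hx, pow_one])).exists_le_sylow
  have hxP : x ∈ (P : Subgroup G) := hPle (Subgroup.mem_zpowers x)
  have hPeq : (P : Subgroup G) = Subgroup.zpowers x := by
    refine le_antisymm ?_ hPle
    have hxc : ∀ w ∈ (P : Subgroup G), w * x = x * w := by
      haveI : Nontrivial (P : Subgroup G) :=
        ⟨⟨⟨x, hxP⟩, 1, fun h => hx1 (congrArg Subtype.val h)⟩⟩
      haveI : Nontrivial (Subgroup.center (P : Subgroup G)) :=
        IsPGroup.center_nontrivial (p := p) P.isPGroup'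
      obtain ⟨⟨z, hz⟩, hzne⟩ := exists_ne (1 : Subgroup.center (P : Subgroup G))
      have hzx : (z : G) ∈ Subgroup.zpowers x := by
        rw [← hC, Subgroup.mem_centralizer_singleton_iff]
        exact (congrArg Subtype.val (Subgroup.mem_center_iff.1 hz ⟨x, hxP⟩)).symm
      have hzne' : (z : G) ≠ 1 := fun h => hzne (Subtype.ext (Subtype.ext h))
      have hgen : Subgroup.zpowers (z : G) = Subgroup.zpowers x := by
        refine Subgroup.eq_of_le_of_card_ge (Subgroup.zpowers_le.2 hzx) ?_
        obtain ⟨k, hk⟩ := Subgroup.mem_zpowers_iff.1 hzx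
        rw [Nat.card_zpowers, Nat.card_zpowers, hx, orderOf_eq_prime (p := p) ?_ hzne']
        rw [← hk, ← zpow_natCast (x ^ k), ← zpow_mul, mul_comm, zpow_mul, zpow_natCast, ← hx,
          pow_orderOf_eq_one, one_zpow]
      intro w hw
      obtain ⟨k, hk⟩ := Subgroup.mem_zpowers_iff.1
        (hgen.ge (Subgroup.mem_zpowers x) : x ∈ Subgroup.zpowers (z : G))
      have hc : Commute w (z : G) :=
        congrArg Subtype.val (Subgroup.mem_center_iff.1 hz ⟨w, hw⟩)
      rw [← hk]
      exact (hc.zpow_right k).eq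
    intro w hw
    rw [← hC, Subgroup.mem_centralizer_singleton_iff]
    exact hxc w hw
  have hP : Nat.card P = p := by
    show Nat.card (P : Subgroup G) = p
    rw [hPeq, Nat.card_zpowers, hx]
  by_cases hodd : p = 2
  · right
    subst hodd
    refine even_index_of_involution x hx hC fun h4 => P.not_dvd_index ?_
    have h := (P : Subgroup G).card_mul_index
    rw [hP] at h
    obtain ⟨m, hm⟩ := h4
    exact ⟨m, by omega⟩
  by_cases htev : Even t
  · exact Or.inl htev
  right
  have htodd : Odd t := Nat.not_even_iff_odd.1 htev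
  have hSet := DefectOne.setup_sylow P hP
  have hgen : ∀ u ∈ (P : Subgroup G), u ≠ 1 → Subgroup.zpowers u = (P : Subgroup G) ∧ orderOf u = p :=
    fun u hu hu1 => DefectOne.zpowers_eq hSet hP hu hu1
  have hcenP : Subgroup.centralizer ((P : Subgroup G) : Set G) = (P : Subgroup G) := by
    refine le_antisymm (fun w hw => ?_) hSet.le_cent
    rw [hPeq, ← hC, Subgroup.mem_centralizer_singleton_iff]
    exact (hw x hxP).symm
  have hCu : ∀ u ∈ (P : Subgroup G), u ≠ 1 →
      Subgroup.centralizer ({u} : Set G) = (P : Subgroup G) := fun u hu hu1 => by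
    rw [hSet.star u hu hu1, hcenP]
  set N := Subgroup.normalizer ((P : Subgroup G) : Set G) with hN
  have hPN : (P : Subgroup G) ≤ N := Subgroup.le_normalizer
  set e := (Subgroup.centralizer ((P : Subgroup G) : Set G)).relIndex N with he
  have heq : ((P : Subgroup G).subgroupOf N).index = e := by rw [he, hcenP]; rfl
  haveI hnormal : ((P : Subgroup G).subgroupOf N).Normal := Subgroup.normal_in_normalizer
  -- classes of elements of order `p`
  have hte : t * e = p - 1 := by
    let T := {C : ConjClasses G // ∃ g ∈ C.carrier, orderOf g = p}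
    let U := {u : (P : Subgroup G) // u ≠ 1}
    have hUne : ∀ u : U, ((u.1 : (P : Subgroup G)) : G) ≠ 1 := fun u h => u.2 (Subtype.ext h)
    let f : U → T := fun u => ⟨ConjClasses.mk (u.1 : G), (u.1 : G), ConjClasses.mem_carrier_mk,
      (hgen _ u.1.2 (hUne u)).2⟩
    have hsurj : ∀ C : T, ∃ u : U, f u = C := by
      rintro ⟨C, g, hg, hgo⟩
      obtain ⟨S, hS⟩ := (IsPGroup.of_card (p := p) (n := 1)
        (G := Subgroup.zpowers g) (by rw [Nat.card_zpowers, hgo, pow_one])).exists_le_sylow
      obtain ⟨c, hc⟩ := MulAction.exists_smul_eq G S P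
      have hmem : c * g * c⁻¹ ∈ (P : Subgroup G) := by
        rw [← hc]
        exact ⟨g, hS (Subgroup.mem_zpowers g), rfl⟩
      have hne : g ≠ 1 := fun h => hp.ne_one (by rw [← hgo, h, orderOf_one])
      refine ⟨⟨⟨_, hmem⟩, fun h => hne (conj_eq_one_iff.1 (congrArg Subtype.val h))⟩, ?_⟩
      refine Subtype.ext ?_
      show ConjClasses.mk (c * g * c⁻¹) = C
      rw [← ConjClasses.mem_carrier_iff_mk_eq.1 hg]
      exact ConjClasses.mk_eq_mk_iff_isConj.2 (isConj_iff.2 ⟨c⁻¹, by group⟩)
    have hfib : ∀ C : T, Nat.card {u : U // f u = C} = e := by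
      intro C
      obtain ⟨u₀, rfl⟩ := hsurj C
      rw [← heq, Subgroup.index_eq_card]
      have hconj : ∀ n : N, (n : G) * (u₀.1 : G) * (n : G)⁻¹ ∈ (P : Subgroup G) := fun n =>
        (Subgroup.mem_normalizer_iff.1 n.2 _).1 u₀.1.2
      let g : N → {u : U // f u = f u₀} := fun n =>
        ⟨⟨⟨_, hconj n⟩, fun h => hUne u₀ (conj_eq_one_iff.1 (congrArg Subtype.val h))⟩,
          Subtype.ext (ConjClasses.mk_eq_mk_iff_isConj.2 (isConj_iff.2 ⟨(n : G)⁻¹, by group⟩))⟩
      have hker : ∀ a b : N, a⁻¹ * b ∈ (P : Subgroup G).subgroupOf N ↔ g a = g b := by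
        intro a b
        rw [Subgroup.mem_subgroupOf, ← hCu _ u₀.1.2 (hUne u₀),
          Subgroup.mem_centralizer_singleton_iff]
        constructor
        · intro h
          refine Subtype.ext (Subtype.ext (Subtype.ext ?_))
          show (a : G) * u₀.1 * (a : G)⁻¹ = (b : G) * u₀.1 * (b : G)⁻¹
          have h' : (a : G)⁻¹ * b * u₀.1 = u₀.1 * ((a : G)⁻¹ * b) := h
          calc (a : G) * u₀.1 * (a : G)⁻¹
              = a * (u₀.1 * ((a : G)⁻¹ * b)) * (b : G)⁻¹ := by group
            _ = a * ((a : G)⁻¹ * b * u₀.1) * (b : G)⁻¹ := by rw [h']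
            _ = b * u₀.1 * (b : G)⁻¹ := by group
        · intro h
          have h' : (a : G) * u₀.1 * (a : G)⁻¹ = (b : G) * u₀.1 * (b : G)⁻¹ :=
            congrArg (fun z : {u : U // f u = f u₀} => ((z.1.1 : (P : Subgroup G)) : G)) h
          show (a : G)⁻¹ * b * u₀.1 = u₀.1 * ((a : G)⁻¹ * b)
          calc (a : G)⁻¹ * b * u₀.1 = (a : G)⁻¹ * ((b : G) * u₀.1 * (b : G)⁻¹) * b := by group
            _ = (a : G)⁻¹ * ((a : G) * u₀.1 * (a : G)⁻¹) * b := by rw [h']
            _ = u₀.1 * ((a : G)⁻¹ * b) := by group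
      refine (Nat.card_congr (Equiv.ofBijective (Quotient.lift g (fun a b h => (hker a b).1
        (QuotientGroup.leftRel_apply.1 h))) ⟨?_, ?_⟩)).symm
      · intro a b
        induction a using QuotientGroup.induction_on
        induction b using QuotientGroup.induction_on
        exact fun h => QuotientGroup.eq.2 ((hker _ _).2 h)
      · rintro ⟨v, hv⟩
        obtain ⟨c, hc⟩ := isConj_iff.1 (ConjClasses.mk_eq_mk_iff_isConj.1
          (congrArg Subtype.val hv).symm)
        refine ⟨QuotientGroup.mk (⟨c, hSet.norm_eq u₀.1.2 (hUne u₀) (hc ▸ v.1.2)⟩ : N), ?_⟩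
        exact Subtype.ext (Subtype.ext (Subtype.ext hc))
    have hU : Nat.card U = p - 1 := by
      show Nat.card {u : (P : Subgroup G) // u ≠ 1} = p - 1
      rw [Nat.card_eq_fintype_card, Fintype.card_subtype_compl, Fintype.card_subtype_eq,
        ← Nat.card_eq_fintype_card]
      rw [show Nat.card (P : Subgroup G) = p from hP]
    rw [← hU, Nat.card_congr (Equiv.sigmaFiberEquiv f).symm, Nat.card_sigma,
      Finset.sum_congr rfl fun C _ => hfib C, Finset.sum_const, Finset.card_univ, smul_eq_mul,
      ← Nat.card_eq_fintype_card]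
    show t * e = Nat.card T * e
    rw [← ht]
  have he1 : Even e := by
    have hpodd : Odd p := hp.odd_of_ne_two hodd
    obtain ⟨k, hk⟩ := hpodd
    have h2 : Even (t * e) := by rw [hte]; exact ⟨k, by omega⟩
    exact (Nat.even_mul.1 h2).resolve_left htev
  -- the values on `P`
  obtain ⟨n₀, ρ, hρ, hχρ⟩ := χ.2
  have hχ1 : (χ : G → ℂ) 1 = (p : ℂ) - 1 := by
    rw [(charDegree_spec' χ.2).1]
    have : ((Cfsg.charDegree (χ : G → ℂ) + 1 : ℕ) : ℂ) = p := by rw [hχ]
    push_cast at this
    linear_combination this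
  obtain ⟨M, hM⟩ := exists_pModular hp
  have hresP : IsCharacter (P : Subgroup G) (fun w : ↥(P : Subgroup G) => (χ : G → ℂ) w) :=
    isCharacter_restrict (isCharacter_of_irr χ.2) _
  haveI : Fintype (P : Subgroup G) := Fintype.ofFinite _
  have hP' : Fintype.card (P : Subgroup G) = p := by rw [← Nat.card_eq_fintype_card]; exact hP
  have hinner : ∀ ν : ↥(P : Subgroup G) → ℂ, classInner (fun w : ↥(P : Subgroup G) => (χ : G → ℂ) w) ν =
      (p : ℂ)⁻¹ * ∑ w : (P : Subgroup G), (χ : G → ℂ) w * conj (ν w) := fun ν => by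
    rw [classInner, show Nat.card (P : Subgroup G) = p from hP]
  have hsplit : ∀ (v : ℂ), (∀ w : (P : Subgroup G), w ≠ 1 → (χ : G → ℂ) w = v) →
      ∀ ν : ↥(P : Subgroup G) → ℂ, ν 1 = 1 →
        classInner (fun w : ↥(P : Subgroup G) => (χ : G → ℂ) w) ν =
          (p : ℂ)⁻¹ * ((p : ℂ) - 1 - v + v * ∑ w : (P : Subgroup G), conj (ν w)) := by
    intro v hv ν hν
    rw [hinner, Finset.mul_sum (a := v), ← Finset.add_sum_erase _ _ (Finset.mem_univ 1),
      ← Finset.add_sum_erase _ (fun w => v * conj (ν w)) (Finset.mem_univ 1), Subgroup.coe_one,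
      hχ1, hν, map_one, mul_one, mul_one,
      Finset.sum_congr rfl fun w hw => by rw [hv w (Finset.ne_of_mem_erase hw)]]
    ring
  have hB0 : χ ∈ principalBlock M G := by
    by_contra hnot
    have hzero : ∀ w : (P : Subgroup G), w ≠ 1 → (χ : G → ℂ) w = 0 := by
      intro w hw
      have hw1 : (w : G) ≠ 1 := fun h => hw (Subtype.ext h)
      have hcard : Nat.card (Subgroup.centralizer ({(w : G)} : Set G)) = p := by
        rw [hCu _ w.2 hw1]; exact hP
      have h1 := (Cfsg.Agent.S0947.result p M hM (w : G) ⟨1, by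
        rw [(hgen _ w.2 hw1).2, pow_one]⟩ hw1 1 (by rw [orderOf_one]; exact hp.not_dvd_one)).2
      have hidx : ∃ k : ℕ,
          (pPrimeCore p (Subgroup.centralizer ({(w : G)} : Set G))).index = p ^ k := by
        obtain ⟨k, -, hk⟩ := (Nat.dvd_prime_pow hp).1
          (show (pPrimeCore p (Subgroup.centralizer ({(w : G)} : Set G))).index ∣ p ^ 1 by
            rw [pow_one]
            conv_rhs => rw [← hcard]
            exact Subgroup.index_dvd_card _)
        exact ⟨k, hk⟩
      have h2 := h1 hidx
      rw [hcard, hp.factorization_self, pow_one, Subgroup.coe_one, mul_one,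
        finsum_mem_eq_toFinset_sum _ (principalBlock M G)] at h2
      have h3 := sum_irr_mul_conj (w : G) (w : G)
      rw [if_pos (IsConj.refl _), hcard] at h3
      simp only [Complex.mul_conj', ← Complex.ofReal_pow] at h3
      rw [← Complex.ofReal_sum, ← Complex.ofReal_natCast, Complex.ofReal_inj,
        ← Finset.sum_add_sum_compl (principalBlock M G).toFinset, h2, add_eq_left] at h3
      have h4 := (Finset.sum_eq_zero_iff_of_nonneg fun ψ _ => sq_nonneg _).1 h3 χ (by simp [hnot])
      exact norm_eq_zero.1 (pow_eq_zero_iff two_ne_zero |>.1 h4)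
    obtain ⟨m, hm⟩ := classInner_char_nat hresP (isCharacter_one (G := (P : Subgroup G)))
    rw [hsplit 0 hzero (fun _ => 1) rfl] at hm
    have hpc : (p : ℂ) ≠ 0 := Nat.cast_ne_zero.2 hp.ne_zero
    field_simp at hm
    have h5 : ((p : ℤ) - 1 : ℤ) = p * m := by
      have : (((p : ℤ) - 1 : ℤ) : ℂ) = (((p : ℤ) * m : ℤ) : ℂ) := by
        push_cast; linear_combination hm
      exact_mod_cast this
    have h6 : (p : ℤ) ∣ 1 := ⟨1 - m, by linear_combination -h5⟩
    have h7 := Int.le_of_dvd one_pos h6
    have h8 := hp.two_le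
    omega
  -- the value is `-1`
  have hval : ∀ w : (P : Subgroup G), w ≠ 1 → (χ : G → ℂ) w = -1 := by
    obtain ⟨X, Y, hXY, -, hXc, hYc, εX, ε, hX, hε, hY, -, -⟩ :=
      Cfsg.Agent.S4441.result p M hM hodd P hP e he.symm
    have hdeg : (Cfsg.charDegree (χ : G → ℂ) : ℤ) = (p : ℤ) - 1 := by
      have : ((Cfsg.charDegree (χ : G → ℂ) + 1 : ℕ) : ℤ) = p := by rw [hχ]
      push_cast at this
      linarith
    have hp3 : 3 ≤ p := by have := hp.two_le; omega
    rw [hXY] at hB0
    rcases hB0 with hX' | hY'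
    · obtain ⟨hsgn, hmod, hv⟩ := hX χ hX'
      have hneg : εX χ = -1 := by
        rcases hsgn with h | h
        · exfalso
          rw [h, hdeg, Int.modEq_iff_dvd] at hmod
          have h6 : (p : ℤ) ∣ 2 := by
            have := hmod.add (dvd_refl (p : ℤ))
            rwa [show (1 : ℤ) - ((p : ℤ) - 1) + p = 2 by ring] at this
          have := Int.le_of_dvd two_pos h6
          omega
        · exact h
      intro w hw
      have := hv (w : G) w.2 (fun h => hw (Subtype.ext h)) 1 (Subgroup.one_mem _)
        (by rw [orderOf_one]; exact hp.not_dvd_one)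
      rw [mul_one, hneg] at this
      rw [this]; norm_num
    · have hmod := hY χ hY'
      have he0 : 0 < e := by
        rcases Nat.eq_zero_or_pos e with h | h
        · rw [h, mul_zero] at hte; omega
        · exact h
      have hele : e ≤ p - 1 := hte ▸ Nat.le_mul_of_pos_left e htodd.pos
      have hep : e = p - 1 := by
        rw [hdeg, Int.modEq_iff_dvd] at hmod
        rcases hε with h | h
        · rw [h, one_mul] at hmod
          by_contra hne
          have hlt : (e : ℤ) - ((p : ℤ) - 1) < 0 := by omega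
          have hd' : (p : ℤ) ∣ (p : ℤ) - 1 - e := by
            have h' := hmod.neg_right
            rwa [neg_sub] at h'
          have := Int.le_of_dvd (by omega : (0 : ℤ) < (p : ℤ) - 1 - e) hd'
          omega
        · exfalso
          rw [h] at hmod
          have h6 : (p : ℤ) ∣ (e : ℤ) - 1 := by
            have := hmod.neg_right.sub (dvd_refl (p : ℤ))
            rwa [show -((-1 : ℤ) * e - ((p : ℤ) - 1)) - p = (e : ℤ) - 1 by ring] at this
          obtain ⟨r, hr⟩ := he1
          have := Int.le_of_dvd (by omega : (0 : ℤ) < (e : ℤ) - 1) h6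
          omega
      have ht1 : Nat.card {C : ConjClasses G // ∃ g ∈ C.carrier, orderOf g = p} ≤ 1 := by
        rw [ht]
        rw [hep] at hte
        exact le_of_eq (Nat.eq_of_mul_eq_mul_right (by omega : 0 < p - 1) (by rw [hte, one_mul]))
      rw [Finite.card_le_one_iff_subsingleton] at ht1
      haveI := ht1
      set v := (χ : G → ℂ) x with hv
      have hconst : ∀ w : (P : Subgroup G), w ≠ 1 → (χ : G → ℂ) w = v := by
        intro w hw
        have h := Subsingleton.elim
          (⟨ConjClasses.mk (w : G), (w : G), ConjClasses.mem_carrier_mk,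
            (hgen _ w.2 (fun h => hw (Subtype.ext h))).2⟩ :
            {C : ConjClasses G // ∃ g ∈ C.carrier, orderOf g = p})
          ⟨ConjClasses.mk x, x, ConjClasses.mem_carrier_mk, hx⟩
        obtain ⟨c, hc⟩ := isConj_iff.1 (ConjClasses.mk_eq_mk_iff_isConj.1 (congrArg Subtype.val h))
        rw [hv, ← hc, isClassFunction_irr χ.2]
      obtain ⟨m0, hm0⟩ := classInner_char_nat hresP (isCharacter_one (G := (P : Subgroup G)))
      rw [hsplit v hconst (fun _ => 1) rfl] at hm0
      simp only [map_one, Finset.sum_const, Finset.card_univ, hP', nsmul_eq_mul, mul_one] at hm0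
      have hpc : (p : ℂ) ≠ 0 := Nat.cast_ne_zero.2 hp.ne_zero
      field_simp at hm0
      -- a non-trivial linear character of `P`
      obtain ⟨ν, hνirr, hν1⟩ : ∃ ν : ↥(P : Subgroup G) → ℂ,
          IsIrrCharacter (P : Subgroup G) ν ∧ ν ≠ fun _ => 1 := by
        by_contra hall
        push Not at hall
        refine hx1 (congrArg Subtype.val (isConj_one_right.1
          (isConj_of_forall_irr (g := (1 : (P : Subgroup G))) (h := ⟨x, hxP⟩) fun ψ => ?_)))
        rw [hall _ ψ.2]
      have hν11 : ν 1 = 1 := degree_one_of_commutative (fun a b => Subtype.ext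
        (hSet.comm a.2 b.2)) hνirr
      have hνsum : ∑ w : (P : Subgroup G), conj (ν w) = 0 := by
        have := classInner_irr_ne hνirr isIrrCharacter_one hν1
        simp only [classInner, map_one, mul_one, mul_eq_zero, inv_eq_zero, Nat.cast_eq_zero,
          Nat.card_pos.ne', false_or] at this
        rw [← map_sum, this, map_zero]
      obtain ⟨m1, hm1⟩ := classInner_char_nat hresP (isCharacter_of_irr hνirr)
      rw [hsplit v hconst _ hν11, hνsum, mul_zero, add_zero] at hm1
      field_simp at hm1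
      have hrel : ((m0 + (p - 1) * m1 : ℕ) : ℂ) = ((p - 1 : ℕ) : ℂ) := by
        rw [Nat.cast_add, Nat.cast_mul, Nat.cast_sub (by omega : 1 ≤ p), Nat.cast_one]
        refine mul_left_cancel₀ hpc ?_
        linear_combination -hm0 - ((p : ℂ) - 1) * hm1
      have hrel' : m0 + (p - 1) * m1 = p - 1 := by exact_mod_cast hrel
      have hm1le : m1 ≤ 1 := by
        by_contra hgt
        have := Nat.mul_le_mul_left (p - 1) (by omega : 2 ≤ m1)
        omega
      have hve : v = -1 ∨ v = (p : ℂ) - 1 := by
        interval_cases m1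
        · right; push_cast at hm1; linear_combination -hm1
        · left; push_cast at hm1; linear_combination -hm1
      intro w hw
      rw [hconst w hw]
      refine hve.resolve_right fun hbad => ?_
      -- second orthogonality bounds the value
      have h3 := sum_irr_mul_conj x x
      rw [if_pos (IsConj.refl _), hC, Nat.card_zpowers, hx] at h3
      simp only [Complex.mul_conj', ← Complex.ofReal_pow] at h3
      rw [← Complex.ofReal_sum, ← Complex.ofReal_natCast, Complex.ofReal_inj] at h3
      have h4 : ‖(χ : G → ℂ) x‖ ^ 2 ≤ (p : ℝ) := h3 ▸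
        Finset.single_le_sum (f := fun ψ : IrrCharacter G => ‖(ψ : G → ℂ) x‖ ^ 2)
          (fun ψ _ => sq_nonneg _) (Finset.mem_univ χ)
      rw [← hv, hbad, show (p : ℂ) - 1 = (((p : ℝ) - 1 : ℝ) : ℂ) by push_cast; ring,
        Complex.norm_real, Real.norm_eq_abs, sq_abs] at h4
      have : (3 : ℝ) ≤ p := by exact_mod_cast hp3
      nlinarith [h4]
  -- an element of order `e` inducing the automorphisms
  haveI : IsCyclic (N ⧸ (P : Subgroup G).subgroupOf N) := by
    haveI := DefectOne.isCyclic_mulAut hSet hP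
    let φ := (P : Subgroup G).normalizerMonoidHom
    have hker : φ.ker = (P : Subgroup G).subgroupOf N := by
      rw [Subgroup.normalizerMonoidHom_ker, hcenP]
    exact isCyclic_of_injective ((QuotientGroup.kerLift φ).comp
        (QuotientGroup.quotientMulEquivOfEq hker.symm).toMonoidHom)
      ((QuotientGroup.kerLift_injective φ).comp
        (QuotientGroup.quotientMulEquivOfEq hker.symm).injective)
  obtain ⟨q, hq⟩ := IsCyclic.exists_ofOrder_eq_natCard (α := N ⧸ (P : Subgroup G).subgroupOf N)
  obtain ⟨g, rfl⟩ := QuotientGroup.mk_surjective q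
  rw [← Subgroup.index_eq_card, heq] at hq
  have hpow_p : ∀ w ∈ (P : Subgroup G), w ^ p = 1 := fun w hw => by
    have := congrArg Subtype.val (pow_card_eq_one' (G := (P : Subgroup G)) (x := ⟨w, hw⟩))
    rw [show Nat.card (P : Subgroup G) = p from hP] at this
    simpa using this
  have hcop : p.Coprime e := by
    refine hp.coprime_iff_not_dvd.2 fun hd => ?_
    have h9 : p ∣ p - 1 := hte ▸ hd.mul_left t
    have := Nat.le_of_dvd (by have := hp.two_le; omega) h9
    have := hp.two_le
    omega
  set j : N := g ^ p with hj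
  have hje : j ^ e = 1 := by
    refine Subtype.ext ?_
    have hge : g ^ e ∈ (P : Subgroup G).subgroupOf N :=
      (QuotientGroup.eq_one_iff _).1 (by rw [QuotientGroup.mk_pow, ← hq, pow_orderOf_eq_one])
    have := hpow_p _ (Subgroup.mem_subgroupOf.1 hge)
    rw [hj, ← pow_mul, mul_comm, pow_mul]
    simpa using this
  have hjq : orderOf (j : N ⧸ (P : Subgroup G).subgroupOf N) = e := by
    rw [hj, QuotientGroup.mk_pow, Nat.Coprime.orderOf_pow (by rw [hq]; exact hcop.symm), hq]
  have hjo : orderOf (j : G) = e := by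
    rw [Subgroup.orderOf_coe]
    exact Nat.dvd_antisymm (orderOf_dvd_of_pow_eq_one hje)
      (hjq ▸ orderOf_map_dvd (QuotientGroup.mk' _) j)
  set K : Subgroup G := Subgroup.zpowers (j : G) with hK
  haveI : Fintype K := Fintype.ofFinite _
  have hKc : Fintype.card K = e := by
    rw [← Nat.card_eq_fintype_card, hK, Nat.card_zpowers, hjo]
  refine even_index_of_det ρ (j : G) ?_
  refine det_eq_neg_one (K := K) ⟨(j : G), Subgroup.mem_zpowers _⟩ ?_ (hKc ▸ he1) htodd
    (ρ.comp K.subtype) ?_ ?_
  · rintro ⟨y, hy⟩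
    obtain ⟨i, rfl⟩ := Subgroup.mem_zpowers_iff.1 hy
    exact Subgroup.mem_zpowers_iff.2 ⟨i, Subtype.ext (by simp)⟩
  · show ρ.character ((1 : K) : G) = _
    rw [Subgroup.coe_one, hχρ, hχ1, hKc, hte, Nat.cast_sub hp.one_le, Nat.cast_one]
  · intro y hy
    show ρ.character (y : G) = 0
    rw [hχρ]
    have hyN : (y : G) ∈ N := Subgroup.zpowers_le.2 j.2 y.2
    have hyP : (y : G) ∉ (P : Subgroup G) := by
      intro hmem
      refine hy (Subtype.ext (orderOf_eq_one_iff.1 (Nat.eq_one_of_dvd_coprimes hcop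
        (orderOf_dvd_of_pow_eq_one (hpow_p _ hmem)) ?_)))
      rw [← hKc, ← Nat.card_eq_fintype_card, Subgroup.orderOf_coe]
      exact orderOf_dvd_natCard y
    -- the coset of `y` is one class
    have hmemP : ∀ u : (P : Subgroup G), (u : G) * y * (u : G)⁻¹ * (y : G)⁻¹ ∈ (P : Subgroup G) :=
      fun u => by
        rw [show (u : G) * y * (u : G)⁻¹ * (y : G)⁻¹ = u * (y * (u : G)⁻¹ * (y : G)⁻¹) by group]
        exact Subgroup.mul_mem _ u.2
          ((Subgroup.mem_normalizer_iff.1 hyN _).1 ((P : Subgroup G).inv_mem u.2))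
    let φ : ↥(P : Subgroup G) → ↥(P : Subgroup G) := fun u => ⟨_, hmemP u⟩
    have hinj : Function.Injective φ := by
      intro a b h
      have h' : (a : G) * y * (a : G)⁻¹ = (b : G) * y * (b : G)⁻¹ :=
        mul_right_cancel (congrArg Subtype.val h)
      by_contra hne
      refine hyP ?_
      have hab : ((b⁻¹ * a : (P : Subgroup G)) : G) ≠ 1 := fun h1 =>
        hne (inv_mul_eq_one.1 (Subtype.ext h1 : b⁻¹ * a = 1)).symm
      rw [← hCu _ (b⁻¹ * a : (P : Subgroup G)).2 hab, Subgroup.mem_centralizer_singleton_iff]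
      show (y : G) * ((b : G)⁻¹ * a) = (b : G)⁻¹ * a * y
      calc (y : G) * ((b : G)⁻¹ * a) = (b : G)⁻¹ * ((b : G) * y * (b : G)⁻¹) * a := by group
        _ = (b : G)⁻¹ * ((a : G) * y * (a : G)⁻¹) * a := by rw [h']
        _ = (b : G)⁻¹ * a * y := by group
    have hconst : ∀ w : (P : Subgroup G), (χ : G → ℂ) ((w : G) * y) = (χ : G → ℂ) (y : G) := by
      intro w
      obtain ⟨u, hu⟩ := Finite.injective_iff_surjective.1 hinj w
      have hu' : (u : G) * y * (u : G)⁻¹ * (y : G)⁻¹ = w := congrArg Subtype.val hu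
      rw [← hu', inv_mul_cancel_right]
      exact isClassFunction_irr χ.2 _ _
    have hsum0 : ∑ w : (P : Subgroup G), (χ : G → ℂ) w = 0 := by
      rw [← Finset.add_sum_erase _ _ (Finset.mem_univ 1), Finset.sum_congr rfl fun w hw =>
        hval w (Finset.ne_of_mem_erase hw), Finset.sum_const, Finset.card_erase_of_mem
        (Finset.mem_univ _), Finset.card_univ, hP', Subgroup.coe_one, hχ1, nsmul_eq_mul,
        Nat.cast_sub hp.one_le, Nat.cast_one]
      ring
    have h := sum_translate_eq_zero ρ (P : Subgroup G) (by rw [hχρ]; exact hsum0) (y : G)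
    rw [hχρ, Finset.sum_congr rfl fun w _ => hconst w, Finset.sum_const, Finset.card_univ, hP',
      nsmul_eq_mul] at h
    exact (mul_eq_zero.1 h).resolve_left (Nat.cast_ne_zero.2 hp.ne_zero)

end Cfsg.Agent.S4508
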