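import Cfsg.Statements.S4729
import Cfsg.Agent.Lib.Blocks.Principal
import Cfsg.Agent.Lib.Blocks.SecondMain
import Cfsg.Agent.Lib.CharTheory.ExtCriteria

set_option autoImplicit false
open Cfsg CfsgLib.Blocks CfsgLib.CharTheory
open scoped ComplexConjugate

set_option linter.unusedVariables false

namespace Cfsg.Agent.S4729

/-- Let p be a prime, M a maximal ideal of the algebraic integers containing p, G a finite perfect group and P a Sylow p-subgroup. If the principal p-block of G contains a faithful irreducible character of degree less than 2p, then the centralizer of P is a p-group. -/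
theorem result {G : Type*} [Group G] [Finite G] (p : ℕ) [Fact p.Prime] (M : Ideal Cfsg.AlgInt) (hM : Cfsg.IsPModular p M) (hperf : commutator G = ⊤) (P : Sylow p G) (χ : Cfsg.IrrCharacter G) (hχ : χ ∈ Cfsg.principalBlock M G) (hfaith : ∀ g : G, (χ : G → ℂ) g = (χ : G → ℂ) 1 → g = 1) (hdeg : Cfsg.charDegree (χ : G → ℂ) < 2 * p) : IsPGroup p ↥(Subgroup.centralizer ((P : Subgroup G) : Set G)) := by
  classical
  haveI := Fintype.ofFinite G
  have hp : p.Prime := Fact.out
  haveI := res_charP hM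
  set n : ℕ := Cfsg.charDegree (χ : G → ℂ) with hn
  have hχ1 : (χ : G → ℂ) 1 = (n : ℂ) := (irr_charDegree_cast χ).symm
  have hn0 : (n : ℂ) ≠ 0 := hχ1 ▸ irr_one_ne_zero χ
  set C := Subgroup.centralizer ((P : Subgroup G) : Set G) with hC
  have hnatd : ∀ c : ℕ, Cfsg.MemLocalIdeal M (c : ℂ) → p ∣ c := by
    intro c hc
    rw [← CharP.cast_eq_zero_iff (Cfsg.AlgInt ⧸ M) p, ← res_natCast hM]
    exact (res_eq_zero_iff hM (memRing_natCast hM c)).2 hc
  -- congruence for regular elements centralizing the Sylow subgroup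
  have hω : ∀ a ∈ C, Cfsg.MemLocalIdeal M ((χ : G → ℂ) a / (n : ℂ) - 1) := by
    intro a ha
    have hle : (P : Subgroup G) ≤ Subgroup.centralizer ({a} : Set G) := fun x hx => by
      rw [Subgroup.mem_centralizer_singleton_iff]
      first | exact ha x hx | exact (ha x hx).symm
    have hc : ¬ p ∣ (Subgroup.centralizer ({a} : Set G)).index := fun h =>
      P.not_dvd_index (h.trans (Subgroup.index_dvd_of_le hle))
    have hc0 : (((Subgroup.centralizer ({a} : Set G)).index : ℕ) : ℂ) ≠ 0 :=
      Nat.cast_ne_zero.2 Subgroup.index_ne_zero_of_finite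
    have h := memIdeal_mul_left hM (natCast_inv_mem hM hc) (memIdeal_neg hM (hχ a))
    refine (congrArg (Cfsg.MemLocalIdeal M) ?_).mp h
    simp only [Cfsg.centralChar, hχ1]
    field_simp
    ring
  -- regular elements centralizing the Sylow subgroup are trivial
  have key : ∀ y ∈ C, ¬ p ∣ orderOf y → y = 1 := by
    intro y hy hyp
    refine hfaith y ?_
    set Y := Subgroup.zpowers y with hY
    haveI : Fintype Y := Fintype.ofFinite Y
    have hYC : Y ≤ C := Subgroup.zpowers_le.2 hy
    have hcomm : ∀ a b : Y, a * b = b * a := fun a b => mul_comm' a b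
    have hcY : ¬ p ∣ Nat.card Y := by rwa [hY, Nat.card_zpowers]
    have hres := isCharacter_restrict_irr Y χ
    choose c hc using fun ψ : Cfsg.IrrCharacter Y => classInner_char_nat hres (isCharacter_of_irr ψ.2)
    have hexp : ∀ a : Y, (χ : G → ℂ) (a : G) = ∑ ψ : Cfsg.IrrCharacter Y, (c ψ : ℂ) * (ψ : Y → ℂ) a :=
      fun a => by
        have := congrFun (eq_sum_irr (isClassFunction_char hres)) a
        simpa [hc] using this
    have hψ1 : ∀ ψ : Cfsg.IrrCharacter Y, (ψ : Y → ℂ) 1 = 1 := fun ψ =>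
      degree_one_of_commutative hcomm ψ.2
    have hdvd : ∀ ψ : Cfsg.IrrCharacter Y, (ψ : Y → ℂ) ≠ (fun _ => 1) → p ∣ c ψ := by
      intro ψ hψ
      refine hnatd _ ?_
      have h0 : ∑ a : Y, conj ((ψ : Y → ℂ) a) = 0 := by
        have h := classInner_irr_ne isIrrCharacter_one ψ.2 (Ne.symm hψ)
        simp only [Cfsg.classInner, one_mul, mul_eq_zero, inv_eq_zero, Nat.cast_eq_zero] at h
        exact h.resolve_left Nat.card_pos.ne'
      have e : (c ψ : ℂ) = ∑ a : Y, ((n : ℂ) * (Nat.card Y : ℂ)⁻¹ * conj ((ψ : Y → ℂ) a)) *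
          ((χ : G → ℂ) (a : G) / (n : ℂ) - 1) := by
        rw [← hc ψ, Cfsg.classInner, Finset.mul_sum]
        have e2 : ∀ a : Y, ((n : ℂ) * (Nat.card Y : ℂ)⁻¹ * conj ((ψ : Y → ℂ) a)) *
            ((χ : G → ℂ) (a : G) / (n : ℂ) - 1) =
            (Nat.card Y : ℂ)⁻¹ * ((χ : G → ℂ) (a : G) * conj ((ψ : Y → ℂ) a)) -
              (n : ℂ) * (Nat.card Y : ℂ)⁻¹ * conj ((ψ : Y → ℂ) a) := fun a => by
          field_simp
        rw [Finset.sum_congr rfl fun a _ => e2 a, Finset.sum_sub_distrib,
          ← Finset.mul_sum (a := (n : ℂ) * (Nat.card Y : ℂ)⁻¹), h0, mul_zero, sub_zero]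
      rw [e]
      refine memIdeal_sum hM fun a _ => memIdeal_mul_left hM ((loc hM).mul_mem ((loc hM).mul_mem
        (memRing_natCast hM _) (natCast_inv_mem hM hcY)) ?_) (hω _ (hYC a.2))
      rw [← irr_inv ψ a]
      exact memRing_irr hM ψ _
    have hsum : ∑ ψ : Cfsg.IrrCharacter Y, c ψ = n := by
      have h := hexp 1
      rw [Subgroup.coe_one, hχ1] at h
      simp only [hψ1, mul_one] at h
      exact_mod_cast h.symm
    by_cases hall : ∀ ψ : Cfsg.IrrCharacter Y, (ψ : Y → ℂ) ≠ (fun _ => 1) → c ψ = 0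
    · rw [show y = ((⟨y, Subgroup.mem_zpowers y⟩ : Y) : G) from rfl, hexp, hχ1, ← hsum, Nat.cast_sum]
      refine Finset.sum_congr rfl fun ψ _ => ?_
      by_cases h : (ψ : Y → ℂ) = fun _ => 1
      · rw [h, mul_one]
      · rw [hall ψ h]; simp
    exfalso
    push Not at hall
    obtain ⟨ψ, hψ, hψ0⟩ := hall
    have hcψ : p ≤ c ψ := Nat.le_of_dvd (Nat.pos_of_ne_zero hψ0) (hdvd ψ hψ)
    have hle : c ψ ≤ n := hsum ▸ Finset.single_le_sum (f := c) (fun _ _ => Nat.zero_le _) (Finset.mem_univ ψ)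
    have hcψp : c ψ = p := by
      obtain ⟨q, hq⟩ := hdvd ψ hψ
      have h2 : p * q < p * 2 := by omega
      have hq2 : q < 2 := Nat.lt_of_mul_lt_mul_left h2
      interval_cases q <;> omega
    set o : Cfsg.IrrCharacter Y := ⟨fun _ => 1, isIrrCharacter_one⟩ with ho
    have hothers : ∀ θ : Cfsg.IrrCharacter Y, θ ≠ ψ → θ ≠ o → c θ = 0 := by
      intro θ h1 h2
      by_contra h3
      have h4 : p ≤ c θ := Nat.le_of_dvd (Nat.pos_of_ne_zero h3)
        (hdvd θ (fun e => h2 (Subtype.ext e)))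
      have h5 : c ψ + c θ ≤ ∑ θ' : Cfsg.IrrCharacter Y, c θ' :=
        (Finset.sum_pair (Ne.symm h1)).symm.le.trans (Finset.sum_le_sum_of_subset (Finset.subset_univ _))
      omega
    have hψo : ψ ≠ o := fun e => hψ (congrArg Subtype.val e)
    have hco : c o + p = n := by
      rw [← hsum, ← Finset.sum_subset (Finset.subset_univ ({o, ψ} : Finset _))
        (fun θ _ h => hothers θ (fun e => h (by simp [e])) (fun e => h (by simp [e]))),
        Finset.sum_pair hψo.symm, hcψp]
    obtain ⟨lam, hlam⟩ := exists_hom_of_degree_one (isCharacter_of_irr ψ.2) (hψ1 ψ)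
    let f : Fin (c o + p) → (Y →* ℂˣ) := Fin.append (fun _ => 1) (fun _ => lam)
    let σ : Representation ℂ Y (Fin (c o + p) → ℂ) :=
      { toFun := fun a => Matrix.toLin' (Matrix.diagonal fun i => ((f i a : ℂˣ) : ℂ))
        map_one' := by simp only [map_one, Units.val_one, Matrix.diagonal_one, Matrix.toLin'_one]; rfl
        map_mul' := fun a b => by
          simp only [map_mul, Units.val_mul, ← Matrix.diagonal_mul_diagonal, Matrix.toLin'_mul]; rfl }
    have hval : ∀ a : Y, ((lam a : ℂˣ) : ℂ) = (ψ : Y → ℂ) a := fun a => by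
      rw [hlam]
    have hσχ : σ.character = fun a : Y => (χ : G → ℂ) (a : G) := by
      funext a
      rw [hexp a]
      show LinearMap.trace ℂ _ (Matrix.toLin' (Matrix.diagonal fun i => ((f i a : ℂˣ) : ℂ))) = _
      rw [Matrix.trace_toLin'_eq, Matrix.trace_diagonal, Fin.sum_univ_add]
      simp only [f, Fin.append_left, Fin.append_right, MonoidHom.one_apply, Units.val_one, hval,
        Finset.sum_const, Finset.card_univ, Fintype.card_fin, nsmul_eq_mul]
      rw [← Finset.sum_subset (Finset.subset_univ ({o, ψ} : Finset _))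
        (fun θ _ h => by rw [hothers θ (fun e => h (by simp [e])) (fun e => h (by simp [e]))]; simp),
        Finset.sum_pair hψo.symm, hcψp]
    obtain ⟨k, ρ, hρ, hρχ⟩ := χ.2
    have hdet : ∀ a : Y, LinearMap.det (ρ (a : G)) = ((lam a : ℂˣ) : ℂ) ^ p := by
      intro a
      have e1 : Representation.character (ρ.comp Y.subtype) = σ.character := by
        rw [hσχ]; funext b
        show ρ.character (b : G) = _
        rw [hρχ]
      have e2 := congrFun ((detChar_eq (ρ.comp Y.subtype)).symm.trans ((congrArg Cfsg.detChar e1).trans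
        (detChar_eq σ))) a
      simp only [coe_detHom] at e2
      refine e2.trans ?_
      show LinearMap.det (Matrix.toLin' (Matrix.diagonal fun i => ((f i a : ℂˣ) : ℂ))) = _
      rw [LinearMap.det_toLin', Matrix.det_diagonal, Fin.prod_univ_add]
      simp only [f, Fin.append_left, Fin.append_right, MonoidHom.one_apply, Units.val_one,
        Finset.prod_const, Finset.prod_const_one, Finset.card_univ, Fintype.card_fin, one_mul, one_pow]
    have hperf1 : ∀ g : G, detHom ρ g = 1 := by
      intro g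
      have h : g ∈ (detHom ρ).ker := Abelianization.commutator_subset_ker _ (hperf ▸ Subgroup.mem_top g)
      exact h
    apply hψ
    funext a
    have hpow : (lam a) ^ p = 1 := by
      apply Units.ext
      rw [Units.val_pow_eq_pow_val, ← hdet a, ← coe_detHom, hperf1]
    have hord : orderOf (lam a) ∣ Nat.card Y := (orderOf_map_dvd lam a).trans (orderOf_dvd_natCard a)
    have h1 : orderOf (lam a) = 1 :=
      Nat.eq_one_of_dvd_coprimes ((hp.coprime_iff_not_dvd).2 hcY) (orderOf_dvd_of_pow_eq_one hpow) hord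
    rw [← hval a, orderOf_eq_one_iff.1 h1]
    rfl
  refine IsPGroup.iff_orderOf.2 fun z => ?_
  obtain ⟨x, w, hxw, hc, ⟨j, hj⟩, hw, hwz⟩ : ∃ x w : G, x * w = (z : G) ∧ Commute x w ∧
      (∃ j : ℕ, orderOf x = p ^ j) ∧ ¬ p ∣ orderOf w ∧ w ∈ Subgroup.zpowers (z : G) := by
    obtain ⟨x, hx⟩ := exists_pPart (p := p) hp (z : G)
    obtain ⟨w, h1, h2, h3, h4, h5, h6⟩ := hx
    exact ⟨x, w, h1, h2, h3, h4, h6⟩
  refine ⟨j, ?_⟩
  rw [← hj, ← Subgroup.orderOf_coe, ← hxw, key w (Subgroup.zpowers_le.2 z.2 hwz) hw, mul_one]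

end Cfsg.Agent.S4729
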