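import Cfsg.Statements.S1013
import Mathlib
import Cfsg.Agent.Lib.SmallOrder

set_option autoImplicit false
open Cfsg
open scoped Pointwise

namespace Cfsg.Agent.S1013



/-- Let G be a transitive permutation group of prime degree p having more than one Sylow p-subgroup, and suppose a Sylow p-subgroup P has prime index in its normalizer. Then G is simple. -/
theorem result {α : Type*} [Fintype α] [DecidableEq α] {p : ℕ} [Fact p.Prime] (hα : Fintype.card α = p) (G : Subgroup (Equiv.Perm α)) [MulAction.IsPretransitive ↥G α] (P : Sylow p ↥G) (hn : 1 < Nat.card (Sylow p ↥G)) (ht : (((P : Subgroup ↥G).subgroupOf (Subgroup.normalizer ((P : Subgroup ↥G) : Set ↥G))).index).Prime) : IsSimpleGroup ↥G := by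
  classical
  have hp : p.Prime := Fact.out
  set N := Subgroup.normalizer ((P : Subgroup ↥G) : Set ↥G) with hNdef
  set q := ((P : Subgroup ↥G).subgroupOf N).index with hq
  have hpp : ¬ p ^ (1 + 1) ∣ Nat.card ↥G := by
    intro h
    have h1 := h.trans (Subgroup.card_subgroup_dvd_card G)
    rw [Nat.card_perm, Nat.card_eq_fintype_card, hα, ← Nat.mul_factorial_pred hp.pos.ne', pow_succ, pow_one] at h1
    have h2 := (hp.dvd_factorial).mp (Nat.dvd_of_mul_dvd_mul_left hp.pos h1)
    have := hp.one_lt
    omega
  obtain ⟨a⟩ : Nonempty α := Fintype.card_pos_iff.mp (hα ▸ hp.pos)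
  have htrans_dvd : ∀ K : Subgroup ↥G, MulAction.IsPretransitive K α → p ∣ Nat.card K := by
    intro K hK
    have := Nat.card_congr (MulAction.orbitProdStabilizerEquivGroup K a)
    rw [MulAction.orbit_eq_univ, Nat.card_prod, Nat.card_congr (Equiv.Set.univ α), Nat.card_eq_fintype_card, hα] at this
    exact Dvd.intro _ this
  have hP : Nat.card P = p := by
    have hd : p ∣ Nat.card ↥G := by
      have := htrans_dvd ⊤ ⟨fun x y => by
        obtain ⟨g, hg⟩ := MulAction.exists_smul_eq ↥G x y
        exact ⟨⟨g, Subgroup.mem_top _⟩, hg⟩⟩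
      rwa [Subgroup.card_top] at this
    simpa using CfsgLib.SmallOrder.card_sylow_eq P (k := 1) (by simpa using hd) hpp
  have hGcard : Nat.card (Sylow p ↥G) * (p * q) = Nat.card ↥G := by
    have h1 := ((P : Subgroup ↥G).subgroupOf N).card_mul_index
    rw [Nat.card_congr (Subgroup.subgroupOfEquivOfLe Subgroup.le_normalizer).toEquiv,
      show Nat.card ↥(P : Subgroup ↥G) = p from hP, ← hq] at h1
    rw [h1, mul_comm]
    exact CfsgLib.SmallOrder.card_normalizer_mul_card_sylow P
  haveI : Nontrivial ↥G := Finite.one_lt_card_iff_nontrivial.mp (by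
    calc 1 < Nat.card (Sylow p ↥G) := hn
      _ ≤ _ := by rw [← hGcard]; exact Nat.le_mul_of_pos_right _ (Nat.mul_pos hp.pos ht.pos))
  haveI : MulAction.IsPreprimitive ↥G α := MulAction.IsPreprimitive.of_prime_card (by rw [Nat.card_eq_fintype_card, hα]; exact hp)
  refine ⟨fun K hKn => ?_⟩
  by_cases hKbot : K = ⊥
  · exact Or.inl hKbot
  right
  have htr : ∀ (L : Subgroup ↥G), L.Normal → L ≠ ⊥ → p ∣ Nat.card L := by
    intro L hL hLne
    refine htrans_dvd L (MulAction.IsQuasiPreprimitive.isPretransitive_of_normal (G := ↥G) (N := L) fun h => hLne ?_)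
    rw [Subgroup.eq_bot_iff_forall]
    intro g hg
    apply Subtype.ext
    refine Equiv.ext fun x => ?_
    have hx : x ∈ MulAction.fixedPoints L α := h.symm ▸ Set.mem_univ x
    exact hx ⟨g, hg⟩
  haveI := hKn
  have hpK := htr K hKn hKbot
  -- `K` contains every Sylow subgroup
  obtain ⟨k, hk⟩ := exists_prime_orderOf_dvd_card' p hpK
  have hPK : ∀ R : Sylow p ↥G, (R : Subgroup ↥G) ≤ K := by
    have hk' : orderOf (k : ↥G) = p := by rw [Subgroup.orderOf_coe]; exact hk
    obtain ⟨R₀, hR₀⟩ := (IsPGroup.of_card (n := 1) (show Nat.card (Subgroup.zpowers (k : ↥G)) = p ^ 1 by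
      rw [Nat.card_zpowers, hk', pow_one])).exists_le_sylow
    have hR₀K : (R₀ : Subgroup ↥G) ≤ K := by
      have he : Subgroup.zpowers (k : ↥G) = R₀ := Subgroup.eq_of_le_of_card_ge hR₀ (by
        rw [Nat.card_zpowers, hk', Sylow.card_eq_multiplicity R₀, ← Sylow.card_eq_multiplicity P, hP])
      rw [← he]; exact Subgroup.zpowers_le.mpr k.2
    intro R
    obtain ⟨g, rfl⟩ := MulAction.exists_smul_eq ↥G R₀ R
    intro y hy
    rw [Sylow.coe_subgroup_smul, Subgroup.mem_pointwise_smul_iff_inv_smul_mem] at hy
    have h2 := hKn.conj_mem _ (hR₀K hy) g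
    simpa [mul_assoc] using h2
  -- the Sylow subgroups of K
  have hnK : Nat.card (Sylow p K) = Nat.card (Sylow p ↥G) := by
    refine (Nat.card_congr (Equiv.ofBijective (fun R : Sylow p ↥G => R.subtype (hPK R)) ⟨?_, ?_⟩)).symm
    · intro R R' h
      exact Sylow.subtype_injective h
    · intro S
      obtain ⟨R, hR⟩ := (S.2.map K.subtype).exists_le_sylow
      refine ⟨R, Sylow.ext ?_⟩
      rw [Sylow.coe_subtype]
      exact S.is_maximal' (IsPGroup.of_equiv R.2 (Subgroup.subgroupOfEquivOfLe (hPK R)).symm)
        (Subgroup.map_le_iff_le_comap.mp hR)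
  set PK : Sylow p K := P.subtype (hPK P)
  have hPKc : Nat.card PK = p := by
    rw [show Nat.card ↥(PK : Subgroup K) = Nat.card PK from rfl] at *
    show Nat.card ↥((P.subtype (hPK P) : Sylow p K) : Subgroup K) = p
    rw [Sylow.coe_subtype, Nat.card_congr (Subgroup.subgroupOfEquivOfLe (hPK P)).toEquiv]
    exact hP
  set NK := Subgroup.normalizer ((PK : Subgroup K) : Set K) with hNK
  set m := ((PK : Subgroup K).subgroupOf NK).index with hm
  have hKcard : Nat.card (Sylow p K) * (p * m) = Nat.card K := by
    have h1 := ((PK : Subgroup K).subgroupOf NK).card_mul_index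
    rw [Nat.card_congr (Subgroup.subgroupOfEquivOfLe Subgroup.le_normalizer).toEquiv,
      show Nat.card ↥(PK : Subgroup K) = p from hPKc, ← hm] at h1
    rw [h1, mul_comm]
    exact CfsgLib.SmallOrder.card_normalizer_mul_card_sylow PK
  have hmq : m ∣ q := by
    have h := Subgroup.card_subgroup_dvd_card K
    rw [← hKcard, ← hGcard, hnK] at h
    exact Nat.dvd_of_mul_dvd_mul_left hp.pos (Nat.dvd_of_mul_dvd_mul_left (by omega) h)
  rcases (Nat.dvd_prime ht).mp hmq with h1 | h1
  · exfalso
    -- Burnside: K has a normal p-complement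
    have hle : NK ≤ Subgroup.centralizer ((PK : Subgroup K) : Set K) :=
      CfsgLib.SmallOrder.normalizer_le_centralizer_of_coprime (PK : Subgroup K) hPKc
        (by show Nat.Coprime m (p - 1); rw [h1]; exact Nat.coprime_one_left _)
    set L := (MonoidHom.transferSylow PK hle).ker with hLdef
    have hLp : ¬ p ∣ Nat.card L := MonoidHom.not_dvd_card_ker_transferSylow PK hle
    have hLc := (MonoidHom.ker_transferSylow_isComplement' PK hle).card_mul
    change Nat.card L * _ = _ at hLc
    haveI : L.Characteristic := by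
      refine Subgroup.characteristic_iff_le_comap.mpr fun φ z hz => ?_
      rw [Subgroup.mem_comap]
      have hsurj : Function.Surjective (MonoidHom.transferSylow PK hle) := by
        intro w
        have hb : Nat.card (MonoidHom.transferSylow PK hle).range = Nat.card (PK : Subgroup K) := by
          rw [← Subgroup.index_ker]
          exact (MonoidHom.ker_transferSylow_isComplement' PK hle).symm.index_eq_card
        exact MonoidHom.range_eq_top.mp (Subgroup.eq_top_of_card_eq _ hb) w
      have hz' : (MonoidHom.transferSylow PK hle) (φ z) ^ Nat.card L = 1 := by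
        have h2 : (⟨z, hz⟩ : L) ^ Nat.card L = 1 := pow_card_eq_one'
        have h3 : z ^ Nat.card L = 1 := congrArg Subtype.val h2
        rw [← map_pow, ← map_pow, h3, map_one, map_one]
      refine MonoidHom.mem_ker.mpr ?_
      refine orderOf_eq_one_iff.mp (Nat.eq_one_of_dvd_coprimes ?_ (orderOf_dvd_of_pow_eq_one hz') (orderOf_dvd_natCard _))
      rw [show Nat.card ↥(PK : Subgroup K) = p from hPKc]
      exact Nat.coprime_comm.mp (hp.coprime_iff_not_dvd.mpr hLp)
    haveI : (L.map K.subtype).Normal := inferInstance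
    have hLbot : L.map K.subtype = ⊥ := by
      by_contra hne
      have := htr _ inferInstance hne
      rw [Subgroup.card_map_of_injective K.subtype_injective] at this
      exact hLp this
    rw [Subgroup.map_eq_bot_iff_of_injective _ K.subtype_injective] at hLbot
    rw [hLbot, Subgroup.card_bot, one_mul, show Nat.card ↥(PK : Subgroup K) = p from hPKc] at hLc
    rw [← hKcard, h1, mul_one, hnK] at hLc
    have := hp.pos
    nlinarith
  · exact Subgroup.eq_top_of_card_eq _ (by rw [← hKcard, ← hGcard, hnK, h1])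

end Cfsg.Agent.S1013
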