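import Cfsg.Statements.S4706
import Cfsg.Agent.Lib.SmallSylow.DegreeP
import Cfsg.Agent.S1013
import Cfsg.Agent.S0675

set_option autoImplicit false
open Cfsg

namespace Cfsg.Agent.S4706

/-- Let p > 2 be a prime and G a permutation group on p letters whose Sylow p-subgroup P has normalizer of order 2p. Then either P is normal in G, or p − 1 = 2^a for some a and G is isomorphic to SL(2, 2^a). -/
theorem result {α : Type*} [Fintype α] [DecidableEq α] {p : ℕ} [Fact p.Prime] (hp : 2 < p) (hα : Fintype.card α = p) (G : Subgroup (Equiv.Perm α)) (P : Sylow p G) (hN : Nat.card (Subgroup.normalizer ((P : Subgroup G) : Set G)) = 2 * p) : (P : Subgroup G).Normal ∨ ∃ (a : ℕ) (F : Type) (_ : Field F) (_ : Fintype F), p = 2 ^ a + 1 ∧ Fintype.card F = 2 ^ a ∧ Nonempty (G ≃* Matrix.SpecialLinearGroup (Fin 2) F) := by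
  classical
  haveI : Fintype G := Fintype.ofFinite G
  have hpp : p.Prime := Fact.out
  by_cases hnorm : (P : Subgroup G).Normal
  · exact Or.inl hnorm
  right
  set N := Subgroup.normalizer ((P : Subgroup G) : Set G) with hNdef
  have hPN : (P : Subgroup G) ≤ N := Subgroup.le_normalizer
  have hne : N ≠ ⊤ := fun h => hnorm (Subgroup.normalizer_eq_top_iff.1 h)
  have hP : Nat.card P = p := by
    obtain ⟨k, hk⟩ := IsPGroup.iff_card.1 P.isPGroup'
    have hd : p ^ k ∣ 2 * p := by
      rw [← hk, ← hN]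
      exact Subgroup.card_dvd_of_le hPN
    rcases (by omega : k = 0 ∨ k = 1 ∨ 2 ≤ k) with rfl | rfl | h2
    · exfalso
      apply hnorm
      rw [pow_zero] at hk
      have hbot : (P : Subgroup G) = ⊥ := Subgroup.card_eq_one.1 hk
      rw [hbot]
      infer_instance
    · simpa using hk
    · exfalso
      have h3 : p * p ∣ 2 * p := (pow_two p ▸ pow_dvd_pow p h2).trans hd
      have := Nat.le_of_dvd two_pos (Nat.dvd_of_mul_dvd_mul_right hpp.pos h3)
      omega
  have hp5 : 5 ≤ p := by
    by_contra hlt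
    have hp4 : p ≠ 4 := fun h => by rw [h] at hpp; exact absurd hpp (by norm_num)
    have hp3 : p = 3 := by omega
    refine hne (Subgroup.eq_top_of_le_card _ ?_)
    rw [hN]
    calc Nat.card G ≤ Nat.card (Equiv.Perm α) := Finite.card_subtype_le _
      _ = 2 * p := by
        rw [Nat.card_perm, Nat.card_eq_fintype_card, hα, hp3]
        rfl
  obtain ⟨x, hx, hx1⟩ := CfsgLib.SmallSylow.exists_mem_ne P hP
  have hxo : orderOf x = p := CfsgLib.SmallSylow.orderOf_mem P hP hx hx1
  have horb : ∀ a b : α, ∃ k : ℤ, (x ^ k) • a = b := by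
    intro a b
    have hcard : (MulAction.stabilizer (Subgroup.zpowers x) a).index = p := by
      have h1 : (MulAction.stabilizer (Subgroup.zpowers x) a).index ∣ p := by
        conv_rhs => rw [← hxo, ← Nat.card_zpowers x]
        exact Subgroup.index_dvd_card _
      refine ((Nat.dvd_prime hpp).1 h1).resolve_left fun h2 => ?_
      rw [Subgroup.index_eq_one] at h2
      have h3 : a ∈ MulAction.fixedBy α x :=
        MulAction.mem_stabilizer_iff.1 (h2.ge (Subgroup.mem_top (⟨x, Subgroup.mem_zpowers x⟩ : Subgroup.zpowers x)))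
      have h4 := CfsgLib.SmallSylow.DegreeP.fx_eq_zero_of_orderOf (α := α) hα hxo
      rw [CfsgLib.SmallSylow.DegreeP.fx, Nat.card_eq_zero] at h4
      rcases h4 with h4 | h4
      · exact h4.false ⟨a, h3⟩
      · exact not_finite (MulAction.fixedBy α x)
    rw [MulAction.index_stabilizer] at hcard
    have huniv : MulAction.orbit (Subgroup.zpowers x) a = Set.univ :=
      Set.eq_of_subset_of_ncard_le (Set.subset_univ _)
        (by rw [Set.ncard_univ, Nat.card_eq_fintype_card, hα, hcard])
    obtain ⟨⟨g, hg⟩, hgb⟩ := (huniv ▸ Set.mem_univ b : b ∈ MulAction.orbit (Subgroup.zpowers x) a)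
    obtain ⟨k, rfl⟩ := Subgroup.mem_zpowers_iff.1 hg
    exact ⟨k, hgb⟩
  haveI htr : MulAction.IsPretransitive G α := ⟨fun a b => by
    obtain ⟨k, hk⟩ := horb a b
    exact ⟨x ^ k, hk⟩⟩
  have hidx : ((P : Subgroup G).subgroupOf N).index = 2 := by
    have h1 := ((P : Subgroup G).subgroupOf N).card_mul_index
    rw [Nat.card_congr (Subgroup.subgroupOfEquivOfLe hPN).toEquiv, hP, hN, mul_comm 2 p] at h1
    exact Nat.eq_of_mul_eq_mul_left hpp.pos h1
  have hn : 1 < Nat.card (Sylow p G) := by
    rw [Sylow.card_eq_index_normalizer P]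
    exact Subgroup.one_lt_index_of_ne_top hne
  haveI hsimple : IsSimpleGroup G := Cfsg.Agent.S1013.result hα G P hn (hidx.symm ▸ Nat.prime_two)
  haveI h2 : MulAction.IsMultiplyPretransitive G α 2 := by
    refine (Cfsg.Agent.S0675.result (hα ▸ hpp) G).resolve_left fun hsol => hnorm ?_
    have hcomm := (IsSimpleGroup.comm_iff_isSolvable (G := G)).2 hsol
    exact ⟨fun a ha g => by rwa [hcomm g a, mul_assoc, mul_inv_cancel, mul_one]⟩
  have hC : Subgroup.centralizer ((P : Subgroup G) : Set G) = (P : Subgroup G) := by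
    set C := Subgroup.centralizer ((P : Subgroup G) : Set G)
    have hPC : (P : Subgroup G) ≤ C := (CfsgLib.Blocks.DefectOne.setup_sylow P hP).le_cent
    refine (Subgroup.eq_of_le_of_card_ge hPC ?_).symm
    rw [hP]
    by_contra hlt
    push Not at hlt
    have h1 : Nat.card C ∣ 2 * p := hN ▸ Subgroup.card_dvd_of_le (Subgroup.centralizer_le_normalizer _)
    have h2 : p ∣ Nat.card C := hP ▸ Subgroup.card_dvd_of_le hPC
    obtain ⟨c, hc⟩ := h2
    rw [hc, mul_comm 2 p] at h1
    have hc2 : c = 2 := by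
      rcases (Nat.dvd_prime Nat.prime_two).1 (Nat.dvd_of_mul_dvd_mul_left hpp.pos h1) with h | h
      · subst h; omega
      · exact h
    haveI : Fact (Nat.Prime 2) := ⟨Nat.prime_two⟩
    obtain ⟨⟨z, hz⟩, hzo⟩ := exists_prime_orderOf_dvd_card' (G := C) 2 (hc ▸ hc2 ▸ dvd_mul_left _ _)
    rw [← Subgroup.orderOf_coe] at hzo
    have hmod := (IsPGroup.of_card (p := 2) (n := 1) (G := Subgroup.zpowers z)
      (by rw [Nat.card_zpowers, hzo, pow_one])).nonempty_fixed_point_of_prime_not_dvd_card α (by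
        rw [Nat.card_eq_fintype_card, hα]
        intro hd
        have := (Nat.prime_dvd_prime_iff_eq Nat.prime_two hpp).1 hd
        omega)
    obtain ⟨a, ha⟩ := hmod
    have hza : z • a = a := ha ⟨z, Subgroup.mem_zpowers z⟩
    have hcomm : Commute x z := Subgroup.mem_centralizer_iff.1 hz x hx
    have hz1 : z = 1 := by
      refine eq_of_smul_eq_smul (α := α) fun b => ?_
      obtain ⟨k, hk⟩ := horb a b
      rw [one_smul, ← hk, ← mul_smul, ← (hcomm.zpow_left k).eq, mul_smul, hza]
    have h1z : orderOf z = 1 := orderOf_eq_one_iff.2 hz1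
    exact absurd (hzo.symm.trans h1z) (by norm_num)
  have hq : CfsgLib.SmallSylow.inIdx P = 2 := by
    show (Subgroup.centralizer ((P : Subgroup G) : Set G)).relIndex N = 2
    rw [hC]
    exact hidx
  obtain ⟨hdvd, hfix⟩ := CfsgLib.SmallSylow.DegreeP.main (α := α) hα hp5 P hP hC hq
  have hfix' : ∀ g : G, 3 ≤ Nat.card (MulAction.fixedBy α g) → g = 1 := hfix
  obtain ⟨t₀⟩ : Nonempty (Fin 3 ↪ α) := Function.Embedding.nonempty_of_card_le (by
    rw [Fintype.card_fin, hα]; omega)
  let f : G → (Fin 3 ↪ α) := fun g => g • t₀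
  have hinj : Function.Injective f := by
    intro g h hgh
    have h1 : ∀ i, (h⁻¹ * g) • t₀ i = t₀ i := fun i => by
      rw [mul_smul, inv_smul_eq_iff]
      exact DFunLike.congr_fun hgh i
    have h3 : h⁻¹ * g = 1 := by
      refine hfix' _ ?_
      refine le_trans (le_of_eq ?_) (Nat.card_le_card_of_injective
        (fun i : Fin 3 => (⟨t₀ i, h1 i⟩ : MulAction.fixedBy α (h⁻¹ * g)))
        fun i j hij => t₀.injective (congrArg Subtype.val hij))
      rw [Nat.card_fin]
    exact (inv_mul_eq_one.1 h3).symm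
  have hbij : Function.Bijective f := (Fintype.bijective_iff_injective_and_card f).2 ⟨hinj, by
    refine le_antisymm (Fintype.card_le_of_injective f hinj) ?_
    rw [Fintype.card_embedding_eq, Fintype.card_fin, hα, ← Nat.card_eq_fintype_card]
    refine le_trans (le_of_eq ?_) (Nat.le_of_dvd Nat.card_pos hdvd)
    simp only [Nat.descFactorial]
    obtain ⟨k, rfl⟩ : ∃ k, p = k + 3 := ⟨p - 3, by omega⟩
    simp
    ring⟩
  have h3 : MulAction.IsMultiplyPretransitive G α 3 := ⟨fun s t => by
    obtain ⟨g, rfl⟩ := hbij.2 s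
    obtain ⟨h, rfl⟩ := hbij.2 t
    exact ⟨h * g⁻¹, by refine DFunLike.ext _ _ fun i => ?_; show (h * g⁻¹) • g • t₀ i = h • t₀ i; rw [← mul_smul, inv_mul_cancel_right]⟩⟩
  obtain ⟨a, -, hca, F, hF, hF', hFc, hiso⟩ := Cfsg.Agent.S4702.result (by omega)
    (hα ▸ hpp.odd_of_ne_two (by omega)) G h3 hfix'
  exact ⟨a, F, hF, hF', by omega, hFc, hiso⟩

end Cfsg.Agent.S4706
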