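import Cfsg.Statements.S3761
import Mathlib
import Cfsg.Agent.Lib.PGroup.CyclicMax
import Cfsg.Agent.Lib.DihedralShape
import Cfsg.Agent.Lib.UniqueSubgroup
import Cfsg.Agent.Lib.Elementary
-- import your own Cfsg.Agent.* helpers here

set_option autoImplicit false
open Cfsg

namespace Cfsg.Agent.S3761

namespace Aux

universe a

open scoped commutatorElement

variable {G : Type a} [Group G] [Finite G] {p : ℕ}

theorem conj_mul_pow {u x : G} {c : G} (hc : x * u * x⁻¹ = c * u) (hcu : Commute c u) (hcx : Commute c x) (a m : ℕ) :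
    (u ^ a * x) ^ m = u ^ (a * m) * x ^ m * c ^ (a * m.choose 2) := by
  have hxu : ∀ a : ℕ, x * u ^ a = u ^ a * x * c ^ a := fun a => by
    have h1 : x * u ^ a * x⁻¹ = c ^ a * u ^ a := by rw [← conj_pow, hc, hcu.mul_pow]
    calc x * u ^ a = (x * u ^ a * x⁻¹) * x := by group
      _ = c ^ a * (u ^ a * x) := by rw [h1, mul_assoc]
      _ = u ^ a * x * c ^ a := ((hcu.pow_pow a a).mul_right (hcx.pow_left a)).eq
  have hpx : ∀ a j : ℕ, x ^ j * u ^ a = u ^ a * x ^ j * c ^ (a * j) := fun a j => by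
    induction j with
    | zero => simp
    | succ j ih =>
      calc x ^ (j + 1) * u ^ a = x ^ j * (x * u ^ a) := by rw [pow_succ, mul_assoc]
        _ = x ^ j * (u ^ a * x * c ^ a) := by rw [hxu]
        _ = (x ^ j * u ^ a) * (x * c ^ a) := by simp only [mul_assoc]
        _ = u ^ a * x ^ j * c ^ (a * j) * (x * c ^ a) := by rw [ih]
        _ = u ^ a * x ^ j * (c ^ (a * j) * x) * c ^ a := by simp only [mul_assoc]
        _ = u ^ a * x ^ j * (x * c ^ (a * j)) * c ^ a := by rw [(hcx.pow_left (a * j)).eq]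
        _ = u ^ a * x ^ (j + 1) * (c ^ (a * j) * c ^ a) := by rw [pow_succ]; simp only [mul_assoc]
        _ = u ^ a * x ^ (j + 1) * c ^ (a * (j + 1)) := by rw [← pow_add, mul_add_one]
  induction m with
  | zero => simp
  | succ j ih =>
    calc (u ^ a * x) ^ (j + 1) = u ^ (a * j) * x ^ j * c ^ (a * j.choose 2) * (u ^ a * x) := by rw [pow_succ, ih]
      _ = u ^ (a * j) * x ^ j * (c ^ (a * j.choose 2) * (u ^ a * x)) := by simp only [mul_assoc]
      _ = u ^ (a * j) * x ^ j * ((u ^ a * x) * c ^ (a * j.choose 2)) := by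
        rw [((hcu.pow_pow _ a).mul_right (hcx.pow_left _)).eq]
      _ = u ^ (a * j) * (x ^ j * u ^ a) * x * c ^ (a * j.choose 2) := by simp only [mul_assoc]
      _ = u ^ (a * j) * (u ^ a * x ^ j * c ^ (a * j)) * x * c ^ (a * j.choose 2) := by rw [hpx]
      _ = u ^ (a * j) * u ^ a * x ^ j * (c ^ (a * j) * x) * c ^ (a * j.choose 2) := by simp only [mul_assoc]
      _ = u ^ (a * j) * u ^ a * x ^ j * (x * c ^ (a * j)) * c ^ (a * j.choose 2) := by rw [(hcx.pow_left (a * j)).eq]
      _ = (u ^ (a * j) * u ^ a) * (x ^ j * x) * (c ^ (a * j) * c ^ (a * j.choose 2)) := by simp only [mul_assoc]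
      _ = u ^ (a * (j + 1)) * x ^ (j + 1) * c ^ (a * (j + 1).choose 2) := by
        rw [← pow_add, ← pow_add, ← pow_succ, mul_add_one, Nat.choose_succ_succ' j 1, Nat.choose_one_right, mul_add]

theorem main [Fact p.Prime] (hG : IsPGroup p G) (hna : ¬ IsMulCommutative G) (U : Subgroup G) [U.Normal]
    (hU : IsCyclic U) (n : ℕ) (hUn : Nat.card U = p ^ n) (hC : Subgroup.centralizer (U : Set G) = U) :
    (p = 2 ∧ Nat.card G = 2 ^ (n + 1) ∧ ((∃ m : ℕ, Nonempty (G ≃* DihedralGroup m)) ∨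
      (∃ m : ℕ, Nonempty (G ≃* QuaternionGroup m)) ∨ Cfsg.IsQuasiDihedral G)) ∨
    (U.relIndex (Subgroup.centralizer (Cfsg.powerClosure p 1 U : Set G)) = p ∧
      Cfsg.IsElementaryAbelian p (Cfsg.omegaOne p (Subgroup.centralizer (Cfsg.powerClosure p 1 U : Set G))) ∧
      Nat.card ↥(Cfsg.omegaOne p (Subgroup.centralizer (Cfsg.powerClosure p 1 U : Set G))) = p ^ 2 ∧
      (Cfsg.omegaOne p (Subgroup.centralizer (Cfsg.powerClosure p 1 U : Set G))).Characteristic) := by
  classical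
  have hp := (Fact.out : p.Prime)
  obtain ⟨u, rfl⟩ := (Subgroup.isCyclic_iff_exists_zpowers_eq_top (H := U)).mp hU
  set U := Subgroup.zpowers u with hUdef
  rw [Nat.card_zpowers] at hUn
  have huU : u ∈ U := Subgroup.mem_zpowers u
  have hUc : ∀ v ∈ U, ∀ w ∈ U, Commute v w := by
    rintro _ ⟨i, rfl⟩ _ ⟨j, rfl⟩; exact (Commute.refl u).zpow_zpow i j
  have hcen : ∀ g : G, Commute g u → g ∈ U := fun g hg => hC.le (Subgroup.mem_centralizer_iff.mpr fun v hv => by
    obtain ⟨i, rfl⟩ := hv; exact (hg.symm.zpow_left i).eq)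
  haveI := hG.isNilpotent
  -- `n ≥ 2`
  have hn1 : n ≠ 0 := by
    rintro rfl
    rw [pow_zero, orderOf_eq_one_iff] at hUn
    have hall : ∀ g : G, g = 1 := fun g => by
      have h1 := hcen g (by rw [hUn]; exact Commute.one_right g)
      rw [hUdef, hUn, Subgroup.zpowers_one_eq_bot, Subgroup.mem_bot] at h1
      exact h1
    exact hna ⟨⟨fun a b => by rw [hall a, hall b]⟩⟩
  set h := p ^ (n - 1) with hh
  have hpn : p ^ n = p * h := by rw [hh, ← pow_succ', show n - 1 + 1 = n by omega]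
  set z := u ^ h with hz
  have hzo : orderOf z = p := by
    rw [hz, orderOf_pow, hUn, Nat.gcd_eq_right (hpn ▸ dvd_mul_left h p), hpn,
      Nat.mul_div_cancel _ (pow_pos hp.pos _)]
  have hzp : z ^ p = 1 := orderOf_dvd_iff_pow_eq_one.mp hzo.dvd
  have hzU : z ∈ U := Subgroup.pow_mem _ huU h
  have hOm : ∀ v ∈ U, v ^ p = 1 → v ∈ Subgroup.zpowers z := by
    rintro _ ⟨i, rfl⟩ hv
    have h1 : (orderOf u : ℤ) ∣ i * p := by
      rw [orderOf_dvd_iff_zpow_eq_one, zpow_mul, zpow_natCast]; exact hv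
    rw [hUn, hpn, Nat.cast_mul, mul_comm (p : ℤ)] at h1
    obtain ⟨j, rfl⟩ := (mul_dvd_mul_iff_right (by exact_mod_cast hp.ne_zero)).mp h1
    exact ⟨j, by show z ^ j = u ^ ((h : ℤ) * j); rw [hz, ← zpow_natCast u h, ← zpow_mul]⟩
  -- a nontrivial normal subgroup contains a central element of order `p` in `U`
  have hnorm : ∀ F : Subgroup G, F.Normal → F ≠ ⊥ → z ∈ F ∧ z ∈ Subgroup.center G := fun F hF hF1 => by
    haveI := hF
    obtain ⟨w, hw, hw1⟩ := (Subgroup.bot_or_exists_ne_one _).resolve_left (CfsgLib.inf_center_ne_bot_of_nilpotent hF1)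
    obtain ⟨hwF, hwc⟩ := Subgroup.mem_inf.mp hw
    obtain ⟨k, hk⟩ := IsPGroup.iff_orderOf.mp hG w
    have hk0 : k ≠ 0 := fun e => hw1 (orderOf_eq_one_iff.mp (by rw [hk, e, pow_zero]))
    set v := w ^ (p ^ (k - 1)) with hv
    have hvo : orderOf v = p := by
      rw [hv, orderOf_pow, hk, Nat.gcd_eq_right (pow_dvd_pow p (by omega)), Nat.pow_div (by omega) hp.pos,
        show k - (k - 1) = 1 by omega, pow_one]
    have hvc : v ∈ Subgroup.center G := pow_mem hwc _
    have hvU : v ∈ U := hcen v (Subgroup.mem_center_iff.mp hvc u).symm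
    have hvz := hOm v hvU (orderOf_dvd_iff_pow_eq_one.mp hvo.dvd)
    have heq : Subgroup.zpowers v = Subgroup.zpowers z := Subgroup.eq_of_le_of_card_ge
      (Subgroup.zpowers_le.mpr hvz) (by rw [Nat.card_zpowers, Nat.card_zpowers, hvo, hzo])
    have hz' : z ∈ Subgroup.zpowers v := heq ▸ Subgroup.mem_zpowers z
    exact ⟨Subgroup.zpowers_le.mpr (pow_mem hwF _) hz', Subgroup.zpowers_le.mpr hvc hz'⟩
  have hn2 : 2 ≤ n := by
    by_contra hcon
    obtain rfl : n = 1 := by omega
    have hu1 : u ≠ 1 := fun e => by rw [e, orderOf_one, pow_one] at hUn; exact hp.ne_one hUn.symm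
    have hzu : z = u := by rw [hz, hh]; simp
    have hc := (hnorm U inferInstance (fun e => hu1 (Subgroup.mem_bot.mp (e ▸ huU)))).2
    rw [hzu] at hc
    exact hna ⟨⟨fun a b => (hUc a (hcen a (Subgroup.mem_center_iff.mp hc a)) b
      (hcen b (Subgroup.mem_center_iff.mp hc b))).eq⟩⟩
  have hzc : z ∈ Subgroup.center G := (hnorm U inferInstance (fun e => by
    have h1 : u = 1 := Subgroup.mem_bot.mp (e ▸ huU)
    rw [h1, orderOf_one] at hUn
    have := Nat.one_lt_pow hn1 hp.one_lt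
    omega)).2
  set Z := Subgroup.zpowers z with hZdef
  have hZc : Z ≤ Subgroup.center G := Subgroup.zpowers_le.mpr hzc
  -- the commutator with `u`
  set c : G → G := fun g => g * u * g⁻¹ * u⁻¹ with hcdef
  have hconj : ∀ g, g * u * g⁻¹ = c g * u := fun g => (inv_mul_cancel_right _ _).symm
  have hcU : ∀ g, c g ∈ U := fun g => mul_mem ((inferInstance : U.Normal).conj_mem u huU g) (inv_mem huU)
  set M := Subgroup.centralizer (Cfsg.powerClosure p 1 U : Set G) with hMdef
  have hMiff : ∀ g, g ∈ M ↔ c g ∈ Z := fun g => by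
    have hpc : (c g) ^ p * u ^ p = g * u ^ p * g⁻¹ := by
      rw [← (hUc _ (hcU g) u huU).mul_pow, ← hconj, conj_pow]
    constructor
    · intro hg
      refine hOm _ (hcU g) (mul_right_cancel (b := u ^ p) ?_)
      have hm : u ^ p ∈ Cfsg.powerClosure p 1 U := Subgroup.subset_closure ⟨u, huU, by rw [pow_one]⟩
      rw [hpc, one_mul, ← Subgroup.mem_centralizer_iff.mp hg _ hm, mul_inv_cancel_right]
    · intro hg
      have h1 : (c g) ^ p = 1 := by
        obtain ⟨i, hi⟩ := hg
        have hi' : z ^ i = c g := hi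
        rw [← hi', ← zpow_natCast, ← zpow_mul, mul_comm, zpow_mul, zpow_natCast, hzp, one_zpow]
      rw [h1, one_mul] at hpc
      have hgu : Commute g (u ^ p) := (mul_inv_eq_iff_eq_mul.mp hpc.symm)
      refine Subgroup.mem_centralizer_iff.mpr fun y hy => ?_
      have hle : Cfsg.powerClosure p 1 U ≤ Subgroup.centralizer ({g} : Set G) := by
        refine (Subgroup.closure_le _).mpr ?_
        rintro _ ⟨_, ⟨i, rfl⟩, rfl⟩
        rw [SetLike.mem_coe, Subgroup.mem_centralizer_singleton_iff, pow_one]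
        show (u ^ i) ^ p * g = g * (u ^ i) ^ p
        rw [← zpow_natCast, ← zpow_mul, mul_comm i, zpow_mul, zpow_natCast]
        exact (hgu.symm.zpow_left i).eq
      exact Subgroup.mem_centralizer_singleton_iff.mp (hle hy)
  have hUM : U ≤ M := fun v hv => (hMiff v).mpr (by
    have : c v = 1 := by simp only [c, (hUc v hv u huU).eq]; group
    rw [this]; exact one_mem _)
  have hker : ∀ g, c g = 1 ↔ g ∈ U := fun g => by
    constructor
    · exact fun e => hcen g (mul_inv_eq_iff_eq_mul.mp (mul_inv_eq_one.mp e))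
    · intro hg; simp only [c, (hUc g hg u huU).eq]; group
  by_cases hMU : ∃ x ∈ M, x ∉ U
  swap
  · -- dihedral, quaternion and semidihedral groups
    push Not at hMU
    left
    have hUne : ∃ g, g ∉ U ∧ g ^ p ∈ U := by
      obtain ⟨a, ha⟩ : ∃ a, a ∉ U := by
        by_contra hcon
        push Not at hcon
        exact hna ⟨⟨fun a b => (hUc a (hcon a) b (hcon b)).eq⟩⟩
      have hQ : IsPGroup p (G ⧸ U) := hG.to_quotient U
      have hd : p ∣ Nat.card (G ⧸ U) := by
        obtain ⟨i, hi⟩ := IsPGroup.iff_card.mp hQ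
        rcases i with _ | i
        · exfalso
          rw [pow_zero, Nat.card_eq_one_iff_unique] at hi
          haveI := hi.1
          exact ha ((QuotientGroup.eq_one_iff a).mp (Subsingleton.elim _ _))
        · exact hi ▸ dvd_pow_self p (Nat.succ_ne_zero i)
      obtain ⟨y, hy⟩ := exists_prime_orderOf_dvd_card' (G := G ⧸ U) p hd
      obtain ⟨g, rfl⟩ := QuotientGroup.mk'_surjective U y
      refine ⟨g, fun hg => ?_, ?_⟩
      · rw [QuotientGroup.mk'_apply, (QuotientGroup.eq_one_iff g).mpr hg, orderOf_one] at hy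
        exact hp.ne_one hy.symm
      · rw [← QuotientGroup.eq_one_iff, QuotientGroup.mk_pow]
        exact orderOf_dvd_iff_pow_eq_one.mp hy.dvd
    obtain ⟨g, hgU, hgp⟩ := hUne
    have hgn : g ∉ M := fun hm => hgU (hMU g hm)
    have hp2 : p = 2 := by
      by_contra hodd
      refine hgn ((hMiff g).mpr ?_)
      set W := Subgroup.zpowers u ⊔ Subgroup.zpowers g with hW
      have hidx : (U.subgroupOf W).index = p := by
        haveI : (U.subgroupOf W).Normal := Subgroup.Normal.subgroupOf inferInstance W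
        have hgW : g ∈ W := Subgroup.mem_sup_right (Subgroup.mem_zpowers g)
        have htop : Subgroup.zpowers ((⟨g, hgW⟩ : W) : W ⧸ U.subgroupOf W) = ⊤ := by
          refine eq_top_iff.mpr fun y _ => ?_
          obtain ⟨⟨w, hw⟩, rfl⟩ := QuotientGroup.mk'_surjective _ y
          obtain ⟨v, hv, _, ⟨i, rfl⟩, rfl⟩ := Subgroup.mem_sup_of_normal_left.mp (show w ∈ U ⊔ Subgroup.zpowers g from hw)
          refine ⟨i, ?_⟩
          show ((⟨g, hgW⟩ : W) : W ⧸ U.subgroupOf W) ^ i = _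
          rw [← QuotientGroup.mk_zpow]
          refine QuotientGroup.eq.mpr (Subgroup.mem_subgroupOf.mpr ?_)
          show (g ^ i)⁻¹ * (v * g ^ i) ∈ U
          have := (inferInstance : U.Normal).conj_mem v hv (g ^ i)⁻¹
          rwa [inv_inv, mul_assoc] at this
        rw [Subgroup.index_eq_card, ← Subgroup.card_top, ← htop, Nat.card_zpowers]
        refine orderOf_eq_prime ?_ fun e => hgU ?_
        · rw [← QuotientGroup.mk_pow, QuotientGroup.eq_one_iff, Subgroup.mem_subgroupOf]; exact hgp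
        · exact Subgroup.mem_subgroupOf.mp ((QuotientGroup.eq_one_iff _).mp e)
      haveI : IsCyclic U := hU
      obtain ⟨h1, h2⟩ := CfsgLib.CyclicMax.commutator_central (hG.to_subgroup W) hodd
        ((Subgroup.subgroupOfEquivOfLe (le_sup_left : U ≤ W)).isCyclic.mpr hU) hidx
      let g' : W := ⟨g, Subgroup.mem_sup_right (Subgroup.mem_zpowers g)⟩
      let u' : W := ⟨u, Subgroup.mem_sup_left huU⟩
      have h3 := h2 ⁅g', u'⁆ (Subgroup.commutator_mem_commutator (Subgroup.mem_top g') (Subgroup.mem_top u'))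
      exact hOm _ (hcU g) (congrArg Subtype.val h3)
    subst hp2
    -- every element acts as an inversion up to `z`
    have hz2 : z⁻¹ = z := inv_eq_of_mul_eq_one_right (by rw [← pow_two]; exact hzp)
    have hcase : ∀ a : G, a ^ 2 ∈ U → a ∈ U ∨ c a * u ^ 2 ∈ Z := fun a ha => by
      by_cases haU : a ∈ U
      · exact Or.inl haU
      right
      obtain ⟨r, hr⟩ : ∃ r : ℤ, u ^ r = a * u * a⁻¹ := (inferInstance : U.Normal).conj_mem u huU a
      have hrr : u ^ (r * r) = u := by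
        have h1 : a ^ 2 * u * (a ^ 2)⁻¹ = u := by rw [(hUc _ ha u huU).eq, mul_inv_cancel_right]
        rw [pow_two, show a * a * u * (a * a)⁻¹ = a * (a * u * a⁻¹) * a⁻¹ by group, ← hr, ← conj_zpow, ← hr,
          ← zpow_mul] at h1
        exact h1
      have h2 : ((2 : ℤ) ^ n) ∣ (r + 1) * (r - 1) := by
        have h3 : u ^ (r * r - 1) = 1 := by rw [zpow_sub, hrr, zpow_one, mul_inv_cancel]
        have := orderOf_dvd_iff_zpow_eq_one.mpr h3
        rw [hUn] at this
        push_cast at this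
        rwa [show (r + 1) * (r - 1) = r * r - 1 by ring]
      have hkey : ((2 : ℤ) ^ (n - 1)) ∣ r + 1 ∨ ((2 : ℤ) ^ (n - 1)) ∣ r - 1 := by
        obtain ⟨t, ht⟩ : ∃ t, r = 2 * t + 1 := by
          rcases Int.even_or_odd' r with ⟨t, e | e⟩
          · exfalso
            have h4 : (2 : ℤ) ∣ (r + 1) * (r - 1) := (dvd_pow_self 2 hn1).trans h2
            subst e
            rw [show (2 * t + 1) * (2 * t - 1) = 2 * (2 * t * t) - 1 by ring] at h4
            omega
          · exact ⟨t, e⟩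
        subst ht
        rw [show (2 * t + 1 + 1) * (2 * t + 1 - 1) = 4 * ((t + 1) * t) by ring] at h2
        rcases n with _ | _ | k
        · omega
        · omega
        rw [show (2 : ℤ) ^ (k + 1 + 1) = 4 * 2 ^ k by ring] at h2
        have h5 := (mul_dvd_mul_iff_left (by norm_num : (4 : ℤ) ≠ 0)).mp h2
        rw [show k + 1 + 1 - 1 = k + 1 by omega, pow_succ']
        rcases Int.even_or_odd' t with ⟨s, rfl | rfl⟩
        · right
          rw [show 2 * (2 * s) + 1 - 1 = 2 * (2 * s) by ring]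
          refine mul_dvd_mul_left 2 (IsCoprime.dvd_of_dvd_mul_left (IsCoprime.pow_left ?_) h5)
          exact ⟨-s, 1, by ring⟩
        · left
          rw [show 2 * (2 * s + 1) + 1 + 1 = 2 * (2 * s + 1 + 1) by ring]
          refine mul_dvd_mul_left 2 (IsCoprime.dvd_of_dvd_mul_right (IsCoprime.pow_left ?_) h5)
          exact ⟨-s, 1, by ring⟩
      have hhz : ∀ j : ℤ, (2 : ℤ) ^ (n - 1) ∣ j → u ^ j ∈ Z := fun j ⟨q, hq⟩ => ⟨q, by
        show z ^ q = u ^ j
        rw [hq, hz, hh, ← zpow_natCast u, ← zpow_mul]; push_cast; rfl⟩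
      rcases hkey with hk | hk
      · have hu2 : c a * u ^ 2 = u ^ (r + 1) := by
          simp only [c]
          rw [← hr, zpow_add, zpow_one, pow_two, mul_assoc, inv_mul_cancel_left]
        rw [hu2]; exact hhz _ hk
      · exfalso
        refine haU (hMU a ((hMiff a).mpr ?_))
        simp only [c]
        rw [← hr, ← zpow_sub_one]; exact hhz _ hk
    have hgc := (hcase g hgp).resolve_left hgU
    have hn3 : n = 2 → c g * u ^ 2 ∈ Z → False := fun e hcz => by
      refine hgn ((hMiff g).mpr ?_)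
      have h1 := mul_mem hcz (inv_mem (show u ^ 2 ∈ Z from ⟨1, by
        show z ^ (1 : ℤ) = u ^ 2
        rw [zpow_one, hz, hh, e]; norm_num⟩))
      rwa [mul_inv_cancel_right] at h1
    have hn3' : 3 ≤ n := by
      by_contra hcon
      exact hn3 (by omega) hgc
    -- the quotient has order two
    have hsq : ∀ a : G, a ^ 2 ∈ U := fun a => by
      by_contra ha
      obtain ⟨k, hk⟩ := hG a
      have hex : ∃ j, a ^ 2 ^ j ∈ U := ⟨k, by rw [hk]; exact one_mem U⟩
      have hj := Nat.find_spec hex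
      have hj2 : 2 ≤ Nat.find hex := by
        by_contra h2
        refine ha ?_
        interval_cases hjj : Nat.find hex
        · rw [pow_zero, pow_one] at hj; exact pow_mem hj 2
        · rwa [pow_one] at hj
      obtain ⟨i, hi⟩ : ∃ i, Nat.find hex = i + 1 + 1 := ⟨Nat.find hex - 2, by omega⟩
      have hb : (a ^ 2 ^ i) ^ 2 ∉ U := fun hm => Nat.find_min hex (show i + 1 < Nat.find hex by omega)
        (by rwa [← pow_mul, ← pow_succ] at hm)
      have hb2 : ((a ^ 2 ^ i) ^ 2) ^ 2 ∈ U := by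
        rw [show ((a ^ 2 ^ i) ^ 2) ^ 2 = a ^ 2 ^ (i + 1 + 1) by rw [← pow_mul, ← pow_mul, pow_succ, pow_succ, mul_assoc], ← hi]
        exact hj
      set b := a ^ 2 ^ i with hbdef
      have h1 := (hcase (b ^ 2) hb2).resolve_left hb
      obtain ⟨r, hr⟩ : ∃ r : ℤ, u ^ r = b * u * b⁻¹ := (inferInstance : U.Normal).conj_mem u huU b
      have hr2 : u ^ (r * r) = b ^ 2 * u * (b ^ 2)⁻¹ := by
        rw [pow_two, show b * b * u * (b * b)⁻¹ = b * (b * u * b⁻¹) * b⁻¹ by group, ← hr, ← conj_zpow, ← hr, ← zpow_mul]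
      simp only [c] at h1
      obtain ⟨q, hq⟩ := h1
      have e2 : u ^ (r * r + 1 - (2 : ℤ) ^ (n - 1) * q) = 1 := by
        rw [← hr2, pow_two, mul_assoc, inv_mul_cancel_left] at hq
        have hq' : z ^ q = u ^ (r * r) * u := hq
        have hzq : u ^ ((2 : ℤ) ^ (n - 1) * q) = z ^ q := by
          rw [hz, hh, ← zpow_natCast u, ← zpow_mul]; push_cast; rfl
        rw [zpow_sub, hzq, zpow_add, zpow_one, ← hq', mul_inv_cancel]
      have h2 := orderOf_dvd_iff_zpow_eq_one.mpr e2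
      rw [hUn] at h2
      push_cast at h2
      have h4 : (4 : ℤ) ∣ r * r + 1 := by
        have h5 : (4 : ℤ) ∣ (2 : ℤ) ^ n := ⟨2 ^ (n - 2), by rw [show (4 : ℤ) = 2 ^ 2 by norm_num, ← pow_add]; congr 1; omega⟩
        have h6 : (4 : ℤ) ∣ (2 : ℤ) ^ (n - 1) := ⟨2 ^ (n - 3), by rw [show (4 : ℤ) = 2 ^ 2 by norm_num, ← pow_add]; congr 1; omega⟩
        have := (h5.trans h2).add (h6.mul_right q)
        simpa using this
      rcases Int.even_or_odd' r with ⟨t, rfl | rfl⟩
      · rw [show 2 * t * (2 * t) + 1 = 4 * (t * t) + 1 by ring] at h4; omega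
      · rw [show (2 * t + 1) * (2 * t + 1) + 1 = 4 * (t * t + t) + 2 by ring] at h4; omega
    have hidx : U.index = 2 := by
      refine Subgroup.index_eq_two_iff_exists_notMem_and.mpr ⟨g, hgU, fun b => ?_⟩
      by_cases hb : b ∈ U
      · exact Or.inr hb
      refine Or.inl (hMU _ ((hMiff _).mpr ?_))
      have hb' := (hcase b (hsq b)).resolve_left hb
      have key : ∀ a, c a * u ^ 2 ∈ Z → a * u * a⁻¹ = (c a * u ^ 2) * u⁻¹ := fun a _ => by simp only [c]; group
      set s := c g * u ^ 2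
      set t := c b * u ^ 2
      have hs2 : b * s * b⁻¹ = s := by rw [Subgroup.mem_center_iff.mp (hZc hgc) b, mul_inv_cancel_right]
      show b * g * u * (b * g)⁻¹ * u⁻¹ ∈ Z
      rw [show b * g * u * (b * g)⁻¹ = b * (g * u * g⁻¹) * b⁻¹ by group, key g hgc,
        show b * (s * u⁻¹) * b⁻¹ = (b * s * b⁻¹) * (b * u * b⁻¹)⁻¹ by group, hs2, key b hb']
      rw [mul_inv_rev, inv_inv, Subgroup.mem_center_iff.mp (hZc (inv_mem hb')) u, ← mul_assoc, mul_inv_cancel_right]
      exact mul_mem hgc (inv_mem hb')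
    have hcard : Nat.card G = 2 ^ (n + 1) := by
      rw [← U.card_mul_index, hidx, hUdef, Nat.card_zpowers, hUn, pow_succ]
    have hgg : g ^ 2 ∈ Z := by
      obtain ⟨i, hi⟩ : ∃ i : ℤ, u ^ i = g ^ 2 := id hgp
      refine hOm _ hgp ?_
      obtain ⟨q, hq⟩ := hgc
      have hq' : z ^ q = g * u * g⁻¹ * u⁻¹ * u ^ 2 := hq
      have hfix : g * u ^ i * g⁻¹ = u ^ i := by rw [hi]; group
      have hgu : g * u * g⁻¹ = z ^ q * u⁻¹ := by rw [hq']; group
      have hzq2 : (z ^ q) ^ i = z ^ (q * i) := (zpow_mul z q i).symm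
      rw [← conj_zpow, hgu, Commute.mul_zpow (hUc _ (zpow_mem hzU q) _ (inv_mem huU)), hzq2, inv_zpow'] at hfix
      have e1 : u ^ (2 * i - (2 : ℤ) ^ (n - 1) * (q * i)) = 1 := by
        have hzq : u ^ ((2 : ℤ) ^ (n - 1) * (q * i)) = z ^ (q * i) := by
          rw [hz, hh, ← zpow_natCast u, ← zpow_mul]; push_cast; rfl
        have h0 : z ^ (q * i) = u ^ (2 * i) := by
          calc z ^ (q * i) = z ^ (q * i) * u ^ (-i) * u ^ i := by group
            _ = u ^ i * u ^ i := by rw [hfix]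
            _ = u ^ (2 * i) := by rw [← zpow_add, two_mul]
        rw [zpow_sub, hzq, h0, mul_inv_cancel]
      have h2 := orderOf_dvd_iff_zpow_eq_one.mpr e1
      rw [hUn] at h2
      push_cast at h2
      rw [← hi, ← zpow_natCast, ← zpow_mul, ← orderOf_dvd_iff_zpow_eq_one, hUn]
      push_cast
      obtain ⟨k, hk⟩ : ∃ k, n - 1 = k + 1 + 1 := ⟨n - 3, by omega⟩
      have hnk : n = k + 1 + 1 + 1 := by omega
      rw [hk, show 2 * i - (2 : ℤ) ^ (k + 1 + 1) * (q * i) = (i * 2) * (1 - (2 * 2 ^ k) * q) by ring, hnk] at h2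
      rw [hnk]
      refine IsCoprime.dvd_of_dvd_mul_right (IsCoprime.pow_left ?_) h2
      exact ⟨2 ^ k * q, 1, by ring⟩
    have hzcases : ∀ w ∈ Z, w = 1 ∨ w = z := fun w ⟨i, hi⟩ => by
      have hi' : z ^ i = w := hi
      rcases Int.even_or_odd' i with ⟨j, rfl | rfl⟩
      · left; rw [← hi', zpow_mul, zpow_ofNat, hzp, one_zpow]
      · right; rw [← hi', zpow_add, zpow_mul, zpow_ofNat, hzp, one_zpow, one_mul, zpow_one]
    refine ⟨rfl, hcard, ?_⟩
    have hgu : g * u * g⁻¹ = (c g * u ^ 2) * u⁻¹ := by simp only [c]; group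
    rcases hzcases _ hgc with h1 | h1
    · rw [h1, one_mul] at hgu
      rcases hzcases _ hgg with h2 | h2
      · exact Or.inl ⟨2 ^ n, CfsgLib.DihedralShape.equiv_dihedral hUn (by rw [hcard, pow_succ']) (by rw [← pow_two]; exact h2) hgU hgu⟩
      · right; left
        have huniq : ∀ w : G, w ^ 2 = 1 → w ∈ Subgroup.zpowers z := fun w hw => by
          by_cases hwU : w ∈ U
          · exact hOm w hwU hw
          exfalso
          have hwg : g⁻¹ * w ∈ U := by
            rw [Subgroup.mul_mem_iff_of_index_two hidx, inv_mem_iff]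
            exact iff_of_false hgU hwU
          obtain ⟨i, hi⟩ := hwg
          have hi' : u ^ i = g⁻¹ * w := hi
          have hw' : w = g * u ^ i := by rw [hi', mul_inv_cancel_left]
          have hinv : g * u ^ i * g⁻¹ = (u ^ i)⁻¹ := by rw [← conj_zpow, hgu, inv_zpow]
          have : w ^ 2 = z := by
            rw [hw', pow_two, show g * u ^ i * (g * u ^ i) = (g * u ^ i * g⁻¹) * (g ^ 2 * u ^ i) by rw [pow_two]; group,
              hinv, h2, ← Subgroup.mem_center_iff.mp hzc (u ^ i), inv_mul_cancel_left]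
          rw [this] at hw
          exact absurd hzo (by rw [hw, orderOf_one]; norm_num)
        rcases CfsgLib.UniqueSubgroup.cyclic_or_quaternion hG hzo huniq with hc | ⟨-, m, -, hm⟩
        · exact absurd (by haveI := hc; exact ⟨⟨IsCyclic.commGroup.mul_comm⟩⟩) hna
        · exact ⟨_, hm⟩
    · right; right
      rw [h1] at hgu
      have hexp : u ^ (2 ^ (n - 1) - 1) = z * u⁻¹ := by
        rw [pow_sub u (Nat.one_le_two_pow), pow_one, hz, hh]
      rcases hzcases _ hgg with h2 | h2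
      · exact ⟨n, hn3', hcard, u, g, hUn, orderOf_eq_prime h2 (fun e => hgU (e ▸ one_mem U)), by rw [hexp, hgu]⟩
      · have hgu2 : (g * u) ^ 2 = 1 := by
          rw [pow_two, show g * u * (g * u) = (g * u * g⁻¹) * (g ^ 2 * u) by rw [pow_two]; group, hgu, h2,
            ← Subgroup.mem_center_iff.mp hzc u]
          calc z * u⁻¹ * (u * z) = z * z := by group
            _ = 1 := by rw [← pow_two, hzp]
        exact ⟨n, hn3', hcard, u, g * u, hUn,
          orderOf_eq_prime hgu2 (fun e => hgU (by rw [eq_inv_of_mul_eq_one_left e]; exact inv_mem huU)),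
          by rw [hexp, show g * u * u * (g * u)⁻¹ = g * u * g⁻¹ by group, hgu]⟩
  -- the main case
  obtain ⟨x, hxM, hxU⟩ := hMU
  by_cases hD8 : p = 2 ∧ n = 2
  · -- order eight
    obtain ⟨rfl, rfl⟩ := hD8
    left
    have hMall : ∀ a, c a ∈ Z := fun a => by
      obtain ⟨i, hi⟩ := (inferInstance : U.Normal).conj_mem u huU a
      have hi' : u ^ i = a * u * a⁻¹ := hi
      rcases Int.even_or_odd' i with ⟨j, rfl | rfl⟩
      · exfalso
        have h1 : (a * u * a⁻¹) ^ 2 = 1 := by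
          rw [← hi', ← zpow_natCast, ← zpow_mul, show 2 * j * ((2 : ℕ) : ℤ) = ((4 : ℕ) : ℤ) * j by push_cast; ring, zpow_mul,
            zpow_natCast, show (4 : ℕ) = 2 ^ 2 by norm_num, ← hUn, pow_orderOf_eq_one, one_zpow]
        rw [conj_pow, mul_inv_eq_one, mul_eq_left] at h1
        have h5 := orderOf_dvd_of_pow_eq_one h1
        rw [hUn] at h5
        norm_num at h5
      · refine ⟨j, ?_⟩
        show z ^ j = a * u * a⁻¹ * u⁻¹
        rw [← hi', hz, hh, ← zpow_natCast, ← zpow_mul, ← zpow_sub_one]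
        congr 1; push_cast; ring
    have hidx : U.index = 2 := by
      refine Subgroup.index_eq_two_iff_exists_notMem_and.mpr ⟨x, hxU, fun b => ?_⟩
      by_cases hb : b ∈ U
      · exact Or.inr hb
      refine Or.inl ((hker _).mp ?_)
      have hne : ∀ a, a ∉ U → c a = z := fun a ha => by
        obtain ⟨i, hi⟩ := hMall a
        have hi' : z ^ i = c a := hi
        rcases Int.even_or_odd' i with ⟨j, rfl | rfl⟩
        · exact absurd ((hker a).mp (by rw [← hi', zpow_mul, zpow_ofNat, hzp, one_zpow])) ha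
        · rw [← hi', zpow_add, zpow_mul, zpow_ofNat, hzp, one_zpow, one_mul, zpow_one]
      calc c (b * x) = b * (x * u * x⁻¹ * u⁻¹) * b⁻¹ * (b * u * b⁻¹ * u⁻¹) := by simp only [c]; group
        _ = b * z * b⁻¹ * z := by rw [show x * u * x⁻¹ * u⁻¹ = z from hne x hxU, show b * u * b⁻¹ * u⁻¹ = z from hne b hb]
        _ = 1 := by rw [Subgroup.mem_center_iff.mp hzc b, mul_inv_cancel_right, ← pow_two, hzp]
    have hcard : Nat.card G = 2 ^ (2 + 1) := by
      rw [← U.card_mul_index, hidx, hUdef, Nat.card_zpowers, hUn]; norm_num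
    refine ⟨rfl, hcard, ?_⟩
    have hzu : z = u ^ 2 := by rw [hz, hh]; norm_num
    have hxu : x * u * x⁻¹ = u⁻¹ := by
      have hcx : c x ≠ 1 := fun e => hxU ((hker x).mp e)
      have h2 : c x = z := by
        obtain ⟨i, hi⟩ := hMall x
        have hi' : z ^ i = c x := hi
        rcases Int.even_or_odd' i with ⟨j, rfl | rfl⟩
        · exact absurd (by rw [← hi', zpow_mul, zpow_ofNat, hzp, one_zpow]) hcx
        · rw [← hi', zpow_add, zpow_mul, zpow_ofNat, hzp, one_zpow, one_mul, zpow_one]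
      rw [hconj, h2, hzu, eq_inv_iff_mul_eq_one, mul_assoc, ← pow_two, ← pow_add]
      show u ^ (2 ^ 2) = 1
      rw [← hUn, pow_orderOf_eq_one]
    by_cases hinv : ∃ w, w ∉ U ∧ w ^ 2 = 1
    · obtain ⟨w, hwU, hw⟩ := hinv
      refine Or.inl ⟨2 ^ 2, CfsgLib.DihedralShape.equiv_dihedral (c := u) (t := w) hUn (by rw [hcard, pow_succ'])
        (by rw [← pow_two]; exact hw) hwU ?_⟩
      have hv : x⁻¹ * w ∈ U := by
        rw [Subgroup.mul_mem_iff_of_index_two hidx, inv_mem_iff]; exact iff_of_false hxU hwU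
      calc w * u * w⁻¹ = x * ((x⁻¹ * w) * u * (x⁻¹ * w)⁻¹) * x⁻¹ := by group
        _ = x * u * x⁻¹ := by rw [(hUc _ hv u huU).eq, mul_inv_cancel_right]
        _ = u⁻¹ := hxu
    · push Not at hinv
      rcases CfsgLib.UniqueSubgroup.cyclic_or_quaternion hG hzo
        (fun w hw => hOm w (by by_contra hwU; exact hinv w hwU hw) hw) with hc | ⟨-, m, -, hm⟩
      · exact absurd (by haveI := hc; exact ⟨⟨IsCyclic.commGroup.mul_comm⟩⟩) hna
      · exact Or.inr (Or.inl ⟨_, hm⟩)
  right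
  -- the homomorphism to `Z`
  let f : M →* Z := MonoidHom.mk' (fun m => ⟨c m, (hMiff m).mp m.2⟩) fun a b => Subtype.ext (by
    show c ((a : G) * b) = c a * c b
    calc c ((a : G) * b) = (a : G) * c b * (a : G)⁻¹ * c a := by simp only [c]; group
      _ = c b * c a := by rw [Subgroup.mem_center_iff.mp (hZc ((hMiff b).mp b.2)) a, mul_inv_cancel_right]
      _ = c a * c b := (hUc _ (hcU b) _ (hcU a)).eq)
  have hfker : f.ker = U.subgroupOf M := by
    ext m
    rw [MonoidHom.mem_ker, Subgroup.mem_subgroupOf, ← hker]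
    exact Subtype.ext_iff
  have hZcard : Nat.card Z = p := by rw [hZdef, Nat.card_zpowers, hzo]
  have hrange : ∀ K : Subgroup M, (∃ k ∈ K, (k : G) ∉ U) → Nat.card (K.map f) = p := fun K ⟨k, hk, hkU⟩ => by
    rcases (Nat.dvd_prime hp).mp (hZcard ▸ Subgroup.card_subgroup_dvd_card (K.map f)) with h1 | h1
    · exfalso
      have : f k = 1 := Subgroup.mem_bot.mp (Subgroup.card_eq_one.mp h1 ▸ Subgroup.mem_map_of_mem f hk)
      exact hkU (Subgroup.mem_subgroupOf.mp (hfker ▸ MonoidHom.mem_ker.mpr this))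
    · exact h1
  have hrel : U.relIndex M = p := by
    rw [Subgroup.relIndex, ← hfker, Subgroup.index_ker, MonoidHom.range_eq_map]
    exact hrange ⊤ ⟨⟨x, hxM⟩, Subgroup.mem_top _, hxU⟩
  -- a root of unity outside `U`
  have hxp : x ^ p ∈ U := by
    rw [← hker]
    have h1 : f (⟨x, hxM⟩ ^ p) = 1 := by rw [map_pow, ← hZcard]; exact pow_card_eq_one'
    exact congrArg Subtype.val h1
  have hcomm : ∀ y ∈ M, Commute (c y) u ∧ Commute (c y) y := fun y hy =>
    ⟨hUc _ (hcU y) u huU, (Subgroup.mem_center_iff.mp (hZc ((hMiff y).mp hy)) y).symm⟩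
  -- `u ^ p * c y ^ C(p,2)` generates `⟨u ^ p⟩`
  have hw : ∀ y ∈ M, ∃ j : ℕ, Nat.Coprime j p ∧ u ^ p * c y ^ p.choose 2 = (u ^ p) ^ j := fun y hy => by
    by_cases hp2 : p = 2
    · subst hp2
      obtain ⟨k, hk⟩ : ∃ k : ℕ, c y = z ^ k := by
        obtain ⟨k, hk⟩ := (isOfFinOrder_of_finite z).mem_powers_iff_mem_zpowers.mpr ((hMiff y).mp hy)
        exact ⟨k, hk.symm⟩
      refine ⟨1 + 2 ^ (n - 2) * k, ?_, ?_⟩
      · obtain ⟨q, hq⟩ : ∃ q, n - 2 = q + 1 := ⟨n - 3, by omega⟩
        rw [hq, pow_succ', mul_assoc, Nat.coprime_add_mul_left_left]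
        exact Nat.coprime_one_left 2
      · rw [hk, hz, hh, Nat.choose_self, pow_one, ← pow_mul, ← pow_mul, ← pow_add]
        congr 1
        rw [show n - 1 = n - 2 + 1 by omega, pow_succ']
        ring
    · refine ⟨1, Nat.coprime_one_left p, ?_⟩
      have hd : p ∣ p.choose 2 := hp.dvd_choose_self (by norm_num) (by
        have := hp.two_le; omega)
      have hcp : c y ^ p = 1 := by
        obtain ⟨i, hi⟩ := (hMiff y).mp hy
        have hi' : z ^ i = c y := hi
        rw [← hi', ← zpow_natCast, ← zpow_mul, mul_comm, zpow_mul, zpow_natCast, hzp, one_zpow]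
      obtain ⟨q, hq⟩ := hd
      rw [hq, pow_mul, hcp, one_pow, mul_one, pow_one]
  have hpp : ∀ y ∈ M, ∀ a : ℕ, (u ^ a * y) ^ p = (u ^ p * c y ^ p.choose 2) ^ a * y ^ p := fun y hy a => by
    rw [conj_mul_pow (hconj y) (hcomm y hy).1 (hcomm y hy).2, ((hUc _ (pow_mem huU p) _ (pow_mem (hcU y) _))).mul_pow,
      ← pow_mul, ← pow_mul, mul_comm p a, mul_comm (p.choose 2) a, mul_assoc, mul_assoc,
      ((hcomm y hy).2.pow_pow (a * p.choose 2) p).eq]
  obtain ⟨x', hx'M, hx'U, hx'p⟩ : ∃ x' ∈ M, x' ∉ U ∧ x' ^ p = 1 := by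
    obtain ⟨i, hi⟩ : ∃ i : ℕ, u ^ i = (x ^ p)⁻¹ := (isOfFinOrder_of_finite u).mem_powers_iff_mem_zpowers.mpr (inv_mem hxp)
    have hpi : p ∣ i := by
      have h1 : x * u ^ i * x⁻¹ = u ^ i := by rw [hi]; group
      rw [← conj_pow, hconj, (hcomm x hxM).1.mul_pow, mul_eq_right] at h1
      have h2 : orderOf (c x) = p := orderOf_eq_prime (by
        obtain ⟨j, hj⟩ := (hMiff x).mp hxM
        have hj' : z ^ j = c x := hj
        rw [← hj', ← zpow_natCast, ← zpow_mul, mul_comm, zpow_mul, zpow_natCast, hzp, one_zpow])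
        (fun e => hxU ((hker x).mp e))
      exact h2 ▸ orderOf_dvd_of_pow_eq_one h1
    obtain ⟨i', rfl⟩ := hpi
    obtain ⟨j, hj, hje⟩ := hw x hxM
    obtain ⟨m, hm⟩ : ∃ m : ℕ, ((u ^ p) ^ j) ^ m = u ^ p := exists_pow_eq_self_of_coprime (by
      have hd : orderOf (u ^ p) ∣ p ^ n := hUn ▸ orderOf_pow_dvd p
      exact (hj.pow_right n).coprime_dvd_right hd)
    refine ⟨u ^ (m * i') * x, mul_mem (hUM (pow_mem huU _)) hxM, fun hu' => hxU ?_, ?_⟩
    · have := mul_mem (inv_mem (pow_mem huU (m * i'))) hu'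
      rwa [inv_mul_cancel_left] at this
    · rw [hpp x hxM, hje, pow_mul _ m i', hm, ← pow_mul, hi, inv_mul_cancel]
  -- elements of order `p` in a coset
  have hroot : ∀ y ∈ M, y ^ p = 1 → ∀ a : ℕ, (u ^ a * y) ^ p = 1 → u ^ a ∈ Z := fun y hy hyp a ha => by
    obtain ⟨j, hj, hje⟩ := hw y hy
    rw [hpp y hy, hje, hyp, mul_one, ← pow_mul, ← pow_mul] at ha
    have h1 := orderOf_dvd_of_pow_eq_one ha
    rw [hUn, hpn] at h1
    have h2 : h ∣ a := (Nat.Coprime.dvd_mul_left (Nat.Coprime.pow_left _ hj.symm)).mp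
      (Nat.dvd_of_mul_dvd_mul_left hp.pos h1)
    obtain ⟨q, rfl⟩ := h2
    rw [pow_mul]
    exact pow_mem (Subgroup.mem_zpowers z) q
  set E := Z ⊔ Subgroup.zpowers x' with hE
  have hZE : Z ≤ E := le_sup_left
  have hx'E : x' ∈ E := Subgroup.mem_sup_right (Subgroup.mem_zpowers x')
  have hEM : E ≤ M := sup_le ((Subgroup.zpowers_le.mpr hzU).trans hUM) (Subgroup.zpowers_le.mpr hx'M)
  have hzx0 : Commute z x' := (Subgroup.mem_center_iff.mp hzc x').symm
  have hzx : ∀ i : ℤ, ∀ j : ℤ, Commute (z ^ i) (x' ^ j) := fun i j => hzx0.zpow_zpow i j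
  haveI hZn : Z.Normal := ⟨fun w hw g => by
    rw [Subgroup.mem_center_iff.mp (hZc hw) g, mul_inv_cancel_right]; exact hw⟩
  have hEmem : ∀ e ∈ E, ∃ i j : ℤ, e = z ^ i * x' ^ j := fun e he => by
    obtain ⟨_, ⟨i, rfl⟩, _, ⟨j, rfl⟩, rfl⟩ := Subgroup.mem_sup_of_normal_left.mp he
    exact ⟨i, j, rfl⟩
  have hEexp : ∀ e ∈ E, e ^ p = 1 := fun e he => by
    obtain ⟨i, j, rfl⟩ := hEmem e he
    rw [(hzx i j).mul_pow, ← zpow_natCast, ← zpow_mul, mul_comm, zpow_mul, zpow_natCast, hzp, one_zpow, one_mul,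
      ← zpow_natCast, ← zpow_mul, mul_comm, zpow_mul, zpow_natCast, hx'p, one_zpow]
  have hEc : IsMulCommutative E := ⟨⟨fun ⟨e, he⟩ ⟨e', he'⟩ => Subtype.ext (by
    obtain ⟨i, j, rfl⟩ := hEmem e he
    obtain ⟨i', j', rfl⟩ := hEmem e' he'
    exact ((((Commute.refl z).zpow_zpow i i').mul_right (hzx i j')).mul_left
      (((hzx i' j).symm).mul_right ((Commute.refl x').zpow_zpow j j'))).eq)⟩⟩
  have hEU : ∀ e ∈ E, e ∈ U → e ∈ Z := fun e he heU => hOm e heU (hEexp e he)
  have hEcard : Nat.card E = p ^ 2 := by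
    have h1 := (f.comp (Subgroup.inclusion hEM)).ker.card_mul_index
    rw [Subgroup.index_ker] at h1
    have h2 : Nat.card (f.comp (Subgroup.inclusion hEM)).range = p := by
      rw [MonoidHom.range_eq_map, ← Subgroup.map_map]
      refine hrange _ ⟨⟨x', hx'M⟩, ⟨⟨x', hx'E⟩, Subgroup.mem_top _, rfl⟩, hx'U⟩
    have h3 : (f.comp (Subgroup.inclusion hEM)).ker = Z.subgroupOf E := by
      ext ⟨e, he⟩
      rw [MonoidHom.mem_ker, Subgroup.mem_subgroupOf]
      constructor
      · intro hf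
        have hf' : Subgroup.inclusion hEM ⟨e, he⟩ ∈ f.ker := hf
        rw [hfker] at hf'
        exact hEU e he hf'
      · intro hf
        exact MonoidHom.mem_ker.mp (hfker.symm ▸ Subgroup.mem_subgroupOf.mpr (Subgroup.zpowers_le.mpr hzU hf) :
          (Subgroup.inclusion hEM ⟨e, he⟩) ∈ f.ker)
    rw [h2, h3, Nat.card_congr (Subgroup.subgroupOfEquivOfLe hZE).toEquiv, hZcard] at h1
    rw [← h1, pow_two]
  have hOmega : Cfsg.omegaOne p M = E := by
    refine le_antisymm ((Subgroup.closure_le _).mpr ?_) fun e he => Subgroup.subset_closure ⟨hEM he, hEexp e he⟩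
    rintro e ⟨heM, hep⟩
    have hsurj : ∃ j : ℕ, f (⟨x', hx'M⟩ ^ j) = f ⟨e, heM⟩ := by
      haveI : Fact (Nat.card Z).Prime := ⟨hZcard.symm ▸ hp⟩
      have := mem_powers_of_prime_card (g := f ⟨x', hx'M⟩) (g' := f ⟨e, heM⟩) hZcard
        (fun h1 => hx'U (Subgroup.mem_subgroupOf.mp (hfker ▸ MonoidHom.mem_ker.mpr h1)))
      obtain ⟨j, hj⟩ := this
      exact ⟨j, by rw [map_pow]; exact hj⟩
    obtain ⟨j, hj⟩ := hsurj
    have hU' : e * (x' ^ j)⁻¹ ∈ U := by
      have h1 : (⟨e, heM⟩ : M) * (⟨x', hx'M⟩ ^ j)⁻¹ ∈ f.ker := by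
        rw [MonoidHom.mem_ker, map_mul, map_inv, hj, mul_inv_cancel]
      rw [hfker] at h1
      exact Subgroup.mem_subgroupOf.mp h1
    obtain ⟨a, ha⟩ : ∃ a : ℕ, u ^ a = e * (x' ^ j)⁻¹ := (isOfFinOrder_of_finite u).mem_powers_iff_mem_zpowers.mpr hU'
    have he' : e = u ^ a * x' ^ j := by rw [ha, inv_mul_cancel_right]
    rw [he'] at hep ⊢
    refine mul_mem (hZE (hroot _ (pow_mem hx'M j) ?_ a hep)) (pow_mem hx'E j)
    rw [← pow_mul, mul_comm, pow_mul, hx'p, one_pow]
  rw [hOmega]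
  refine ⟨hrel, ⟨hEc, hEexp⟩, hEcard, ?_⟩
  haveI : E.Normal := by
    haveI : M.Normal := ⟨fun m hm g => by
      refine (hMiff _).mpr ?_
      obtain ⟨k, hk⟩ := (inferInstance : U.Normal).conj_mem u huU g⁻¹
      rw [inv_inv] at hk
      have hk' : u ^ k = g⁻¹ * u * g := hk
      have hcm := (hMiff m).mp hm
      have h1 : c (g * m * g⁻¹) = g * ((c m) ^ k) * g⁻¹ := by
        calc c (g * m * g⁻¹) = g * (m * (g⁻¹ * u * g) * m⁻¹ * (g⁻¹ * u * g)⁻¹) * g⁻¹ := by simp only [c]; group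
          _ = g * (m * u ^ k * m⁻¹ * (u ^ k)⁻¹) * g⁻¹ := by rw [hk']
          _ = g * (c m) ^ k * g⁻¹ := by rw [← conj_zpow, hconj, (hcomm m hm).1.mul_zpow, mul_inv_cancel_right]
      rw [h1, Subgroup.mem_center_iff.mp (hZc (zpow_mem hcm k)) g, mul_inv_cancel_right]
      exact zpow_mem hcm k⟩
    rw [← hOmega]
    refine ⟨fun w hw g => ?_⟩
    have hle : Cfsg.omegaOne p M ≤ (Cfsg.omegaOne p M).comap (MulAut.conj g).toMonoidHom :=
      (Subgroup.closure_le _).mpr fun v hv => Subgroup.subset_closure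
        ⟨(inferInstance : M.Normal).conj_mem v hv.1 g, by rw [← map_pow, hv.2, map_one]⟩
    exact hle hw
  refine Subgroup.characteristic_iff_le_comap.mpr fun φ => ?_
  intro e he
  set F := E.comap φ.symm.toMonoidHom with hF
  have hFn : F.Normal := Subgroup.Normal.comap inferInstance _
  have hFexp : ∀ w ∈ F, w ^ p = 1 := fun w hw => φ.symm.injective (by rw [map_pow, map_one]; exact hEexp _ hw)
  have hzF : z ∈ F := (hnorm F hFn (fun hb => by
    have hm : φ x' ∈ F := by show φ.symm (φ x') ∈ E; rw [MulEquiv.symm_apply_apply]; exact hx'E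
    rw [hb, Subgroup.mem_bot, map_eq_one_iff φ φ.injective] at hm
    exact hx'U (hm ▸ one_mem U))).1
  have hFE : F ≤ E := fun w hw => by
    have hcw : c w ∈ Z := hOm _ (hcU w) (hFexp _ (by
      show w * u * w⁻¹ * u⁻¹ ∈ F
      rw [show w * u * w⁻¹ * u⁻¹ = w * (u * w⁻¹ * u⁻¹) by group]
      exact mul_mem hw (hFn.conj_mem _ (inv_mem hw) u)))
    rw [← hOmega]
    exact Subgroup.subset_closure ⟨(hMiff w).mpr hcw, hFexp w hw⟩
  have hφe : φ e ∈ F := by show φ.symm (φ e) ∈ E; rw [MulEquiv.symm_apply_apply]; exact he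
  exact hFE hφe

end Aux

/-- Let G be a finite non-abelian p-group with a cyclic normal subgroup U of order p^n such that C_G(U) = U. Then either p = 2 and G is dihedral, generalized quaternion or semidihedral of order 2^(n+1); or, writing U₁ for the subgroup generated by the p-th powers of elements of U and M = C_G(U₁), the subgroup U has index p in M and the subgroup Ω₁(M) generated by the elements of M of order dividing p is elementary abelian of order p² and characteristic in G. -/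
theorem result {G : Type*} [Group G] [Finite G] {p : ℕ} [Fact p.Prime] (hG : IsPGroup p G) (hna : ¬ IsMulCommutative G) (U : Subgroup G) [U.Normal] (hU : IsCyclic U) (n : ℕ) (hUn : Nat.card U = p ^ n) (hC : Subgroup.centralizer (U : Set G) = U) : (p = 2 ∧ Nat.card G = 2 ^ (n + 1) ∧ ((∃ m : ℕ, Nonempty (G ≃* DihedralGroup m)) ∨ (∃ m : ℕ, Nonempty (G ≃* QuaternionGroup m)) ∨ Cfsg.IsQuasiDihedral G)) ∨ (U.relIndex (Subgroup.centralizer (Cfsg.powerClosure p 1 U : Set G)) = p ∧ Cfsg.IsElementaryAbelian p (Cfsg.omegaOne p (Subgroup.centralizer (Cfsg.powerClosure p 1 U : Set G))) ∧ Nat.card ↥(Cfsg.omegaOne p (Subgroup.centralizer (Cfsg.powerClosure p 1 U : Set G))) = p ^ 2 ∧ (Cfsg.omegaOne p (Subgroup.centralizer (Cfsg.powerClosure p 1 U : Set G))).Characteristic) := by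

  exact Aux.main hG hna U hU n hUn hC

end Cfsg.Agent.S3761
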