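import Cfsg.Statements.S3762
import Mathlib
import Cfsg.Agent.Lib.SymplecticTypeP
import Cfsg.Agent.S3761
-- import your own Cfsg.Agent.* helpers here

set_option autoImplicit false
open Cfsg

namespace Cfsg.Agent.S3762

namespace Aux

universe a

open CfsgLib.SymplecticTypeP
open scoped commutatorElement

variable {G : Type a} [Group G] [Finite G] {p : ℕ} [Fact p.Prime]

theorem sub_extraspecial (hG : IsPGroup p G) {z : G} (hzo : orderOf z = p) {E : Subgroup G} (hzE : z ∈ E)
    (hpow : ∀ e ∈ E, e ^ p ∈ Subgroup.zpowers z) (hcomm : ∀ e ∈ E, ∀ f ∈ E, ⁅e, f⁆ ∈ Subgroup.zpowers z)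
    (hcen : ∀ e ∈ E, (∀ f ∈ E, Commute e f) → e ∈ Subgroup.zpowers z) (hna : ∃ e ∈ E, ∃ f ∈ E, ¬ Commute e f) :
    Cfsg.IsExtraspecial p E := by
  have hmem : ∀ w : E, (w : G) ∈ Subgroup.zpowers z → w ∈ Subgroup.zpowers (⟨z, hzE⟩ : E) := fun w ⟨i, hi⟩ =>
    ⟨i, Subtype.ext hi⟩
  refine isExtraspecial_of (hG.to_subgroup E) (z := (⟨z, hzE⟩ : E)) (by rw [← Subgroup.orderOf_coe]; exact hzo)
    (fun g => hmem _ (hpow _ g.2)) (fun g h => hmem _ (hcomm _ g.2 _ h.2))
    (fun g hg => hmem _ (hcen _ g.2 fun f hf => congrArg Subtype.val (hg ⟨f, hf⟩).eq)) ?_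
  obtain ⟨e, he, f, hf, hef⟩ := hna
  exact ⟨⟨e, he⟩, ⟨f, hf⟩, fun h => hef (congrArg Subtype.val h.eq)⟩

theorem main (hG : IsPGroup p G) (hsymp : ∀ A : Subgroup G, A.Characteristic → IsMulCommutative A → IsCyclic A) :
    ∃ E R : Subgroup G, (∀ e ∈ E, ∀ r ∈ R, e * r = r * e) ∧ E ⊔ R = ⊤ ∧
      (E = ⊥ ∨ Cfsg.IsExtraspecial p ↥E) ∧ (IsCyclic R ∨ (p = 2 ∧ 16 ≤ Nat.card R ∧
        ((∃ m : ℕ, Nonempty (↥R ≃* DihedralGroup m)) ∨ (∃ m : ℕ, Nonempty (↥R ≃* QuaternionGroup m)) ∨
          Cfsg.IsQuasiDihedral ↥R))) := by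
  classical
  have hp := (Fact.out : p.Prime)
  have hbot : ∀ R : Subgroup G, ∀ e ∈ (⊥ : Subgroup G), ∀ r ∈ R, e * r = r * e := fun R e he r _ => by
    rw [Subgroup.mem_bot.mp he, one_mul, mul_one]
  by_cases hab : IsMulCommutative G
  · refine ⟨⊥, ⊤, hbot ⊤, bot_sup_eq _, Or.inl rfl, Or.inl ?_⟩
    exact hsymp ⊤ inferInstance ⟨⟨fun a b => Subtype.ext (hab.is_comm.comm (a : G) b)⟩⟩
  haveI : Nontrivial G := not_subsingleton_iff_nontrivial.mp fun h =>
    hab ⟨⟨fun a b => Subsingleton.elim _ _⟩⟩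
  obtain ⟨D, z, hDc, hDcy, hzD, hzo, hzc, hcenD, hmax, hform, hmod⟩ := core hG hsymp
  haveI := hDc
  set C := Subgroup.centralizer (D : Set G) with hC
  set Z := Subgroup.zpowers z with hZ
  have hZD : Z ≤ D := Subgroup.zpowers_le.mpr hzD
  have hzp : z ^ p = 1 := orderOf_dvd_iff_pow_eq_one.mp hzo.dvd
  have hZp : ∀ w ∈ Z, w ^ p = 1 := fun w hw => pow_eq_one_of_mem_zpowers hzp hw
  have hZc : ∀ w ∈ Z, ∀ g : G, Commute w g := by
    rintro _ ⟨i, rfl⟩ g; exact (hzc g).zpow_left i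
  have hOm : ∀ d ∈ D, d ^ p = 1 → d ∈ Z := fun d hd hdp => mem_zpowers_of_pow hDcy hzD hzo hd hdp
  have hcD : ∀ c ∈ C, ∀ d ∈ D, Commute c d := fun c hc d hd => (Subgroup.mem_centralizer_iff.mp hc d hd).symm
  have hnaG : ∃ a ∈ (⊤ : Subgroup G), ∃ b ∈ (⊤ : Subgroup G), ¬ Commute a b := by
    by_contra hcon
    push Not at hcon
    exact hab ⟨⟨fun a b => (hcon a (Subgroup.mem_top a) b (Subgroup.mem_top b)).eq⟩⟩
  -- the extraspecial case
  have hwhole : (∀ g : G, g ^ p ∈ Z) → (∀ g h : G, ⁅g, h⁆ ∈ Z) → Subgroup.center G ≤ Z →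
      ∃ E R : Subgroup G, (∀ e ∈ E, ∀ r ∈ R, e * r = r * e) ∧ E ⊔ R = ⊤ ∧
      (E = ⊥ ∨ Cfsg.IsExtraspecial p ↥E) ∧ (IsCyclic R ∨ (p = 2 ∧ 16 ≤ Nat.card R ∧
        ((∃ m : ℕ, Nonempty (↥R ≃* DihedralGroup m)) ∨ (∃ m : ℕ, Nonempty (↥R ≃* QuaternionGroup m)) ∨
          Cfsg.IsQuasiDihedral ↥R))) := fun h1 h2 h3 =>
    ⟨⊤, ⊥, fun e _ r hr => (hbot ⊤ r hr e (Subgroup.mem_top e)).symm, top_sup_eq _,
      Or.inr (sub_extraspecial hG hzo (Subgroup.mem_top z) (fun e _ => h1 e) (fun e _ f _ => h2 e f)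
        (fun e _ he => h3 (Subgroup.mem_center_iff.mpr fun f => (he f (Subgroup.mem_top f)).symm.eq)) hnaG),
      Or.inl inferInstance⟩
  by_cases hcard : Nat.card D = p
  · have hDZ : D = Z := (Subgroup.eq_of_le_of_card_ge hZD (by rw [hcard, hZ, Nat.card_zpowers, hzo])).symm
    have hCtop : ∀ g : G, g ∈ C := fun g => Subgroup.mem_centralizer_iff.mpr fun d hd => (hZc d (hDZ ▸ hd) g).eq
    exact hwhole (fun g => hDZ ▸ hform.pow g (hCtop g)) (fun g h => hform.comm g (hCtop g) h (hCtop h))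
      (hcenD.trans hDZ.le)
  have hop := exists_order_p hG hDc hDcy hmax hform hzc hcard
  -- the extraspecial part
  let P : Subgroup G → Prop := fun E => z ∈ E ∧ E ≤ C ∧ (∀ e ∈ E, e ∈ D → e ∈ Z) ∧ (p ≠ 2 → ∀ e ∈ E, e ^ p = 1)
  obtain ⟨E, -, hE⟩ := Finite.exists_le_maximal (p := P) (a := Z)
    ⟨Subgroup.mem_zpowers z, hZD.trans hform.le, fun e he _ => he, fun _ e he => hZp e he⟩
  obtain ⟨hzE, hEC, hED, hEp⟩ := hE.prop
  have hZE : Z ≤ E := Subgroup.zpowers_le.mpr hzE
  have hEpow : ∀ e ∈ E, e ^ p ∈ Z := fun e he => hED _ (pow_mem he p) (hform.pow e (hEC he))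
  have hCe : ∀ c ∈ C, c ∈ E ⊔ D := by
    intro c hc
    obtain ⟨d, hd, hcd⟩ := hop c hc
    set c' := c * d with hc'def
    have hc'C : c' ∈ C := mul_mem hc (hform.le hd)
    suffices hmem : c' ∈ E ⊔ D by
      have := mul_mem hmem (Subgroup.mem_sup_right (inv_mem hd) : d⁻¹ ∈ E ⊔ D)
      rwa [hc'def, mul_inv_cancel_right] at this
    by_contra hnot
    have hnorm : c' ∈ Subgroup.normalizer (E : Set G) := Subgroup.mem_normalizer_fintype fun e he => by
      show c' * e * c'⁻¹ ∈ E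
      rw [show c' * e * c'⁻¹ = ⁅c', e⁆ * e by rw [commutatorElement_def, inv_mul_cancel_right]]
      exact mul_mem (hZE (hform.comm c' hc'C e (hEC he))) he
    have hel : ∀ x ∈ E ⊔ Subgroup.zpowers c', ∃ e ∈ E, ∃ i : ℕ, e * c' ^ i = x := fun x hx => by
      rw [← SetLike.mem_coe, Subgroup.coe_mul_of_right_le_normalizer_left _ _ (Subgroup.zpowers_le.mpr hnorm)] at hx
      obtain ⟨e, he, y, hy, rfl⟩ := Set.mem_mul.mp hx
      obtain ⟨i, rfl⟩ : ∃ i : ℕ, c' ^ i = y := (isOfFinOrder_of_finite c').mem_powers_iff_mem_zpowers.mpr hy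
      exact ⟨e, he, i, rfl⟩
    have hbig : P (E ⊔ Subgroup.zpowers c') := by
      refine ⟨Subgroup.mem_sup_left hzE, sup_le hEC (Subgroup.zpowers_le.mpr hc'C), fun x hx hxD => ?_, fun hodd x hx => ?_⟩
      · obtain ⟨e, he, i, rfl⟩ := hel x hx
        have hpi : p ∣ i := by
          by_contra hpi
          obtain ⟨m, hm⟩ : ∃ m : ℕ, (c' ^ i) ^ m = c' := exists_pow_eq_self_of_coprime
            ((Nat.coprime_comm.mp (hp.coprime_iff_not_dvd.mpr hpi)).coprime_dvd_right (orderOf_dvd_of_pow_eq_one hcd))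
          refine hnot (hm ▸ pow_mem ?_ m)
          have := mul_mem (Subgroup.mem_sup_left (inv_mem he) : e⁻¹ ∈ E ⊔ D) (Subgroup.mem_sup_right hxD)
          rwa [inv_mul_cancel_left] at this
        have h1 : c' ^ i = 1 := by
          obtain ⟨j, rfl⟩ := hpi
          rw [pow_mul, hcd, one_pow]
        rw [h1, mul_one] at hxD ⊢
        exact hED e he hxD
      · obtain ⟨e, he, i, rfl⟩ := hel x hx
        have hw := hform.comm _ (inv_mem (pow_mem hc'C i)) _ (inv_mem (hEC he))
        have hab' : c' ^ i * e = e * c' ^ i * ⁅(c' ^ i)⁻¹, e⁻¹⁆ := by rw [commutatorElement_def]; group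
        rw [CfsgLib.Small.mul_pow_class_two hab' (hZc _ hw e) (hZc _ hw _) p, hEp hodd e he, one_mul, ← pow_mul,
          mul_comm, pow_mul, hcd, one_pow]
        obtain ⟨k, hk⟩ : p ∣ p.choose 2 := hp.dvd_choose_self two_ne_zero (by have := hp.two_le; omega)
        rw [hk, pow_mul, hZp _ hw, one_pow, one_mul]
    exact hnot (Subgroup.mem_sup_left ((hE.2 hbig le_sup_left) (Subgroup.mem_sup_right (Subgroup.mem_zpowers c'))))
  -- centralizing `E` and `D` means centralizing `C`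
  have hcEC : ∀ r : G, (∀ e ∈ E, Commute r e) → (∀ d ∈ D, Commute r d) → ∀ c ∈ C, Commute r c := by
    intro r h1 h2 c hc
    have hle : E ⊔ D ≤ Subgroup.centralizer ({r} : Set G) := sup_le
      (fun e he => Subgroup.mem_centralizer_singleton_iff.mpr (h1 e he).symm.eq)
      (fun d hd => Subgroup.mem_centralizer_singleton_iff.mpr (h2 d hd).symm.eq)
    exact (Subgroup.mem_centralizer_singleton_iff.mp (hle (hCe c hc))).symm
  have hEcen : ∀ e ∈ E, (∀ f ∈ E, Commute e f) → e ∈ Z := fun e he hef => hED e he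
    (hform.nondeg e (hEC he) (hcEC e hef fun d hd => hcD e (hEC he) d hd))
  have hEform : Form p z E Z :=
    ⟨hZE, Subgroup.mem_zpowers z, hzo, fun w hw e _ => hZc w hw e, hEpow,
      fun a ha b hb => hform.comm a (hEC ha) b (hEC hb), hEcen⟩
  set R := Subgroup.centralizer (E : Set G) with hR
  have hER : ∀ g : G, ∃ e ∈ E, e⁻¹ * g ∈ R := fun g => by
    obtain ⟨k, hk, hkc⟩ := hEform.inner hG hzc (g := g) (fun w hw => (hZc w hw g).symm) fun e he => by
      have hd := hmod g e (hEC he)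
      refine hOm _ hd (mul_right_cancel (b := e ^ p) ?_)
      rw [one_mul, ← (hcD e (hEC he) _ hd).symm.mul_pow,
        show ⁅g, e⁆ * e = g * e * g⁻¹ by rw [commutatorElement_def, inv_mul_cancel_right], conj_pow,
        (hZc _ (hEpow e he) g).symm.eq, mul_inv_cancel_right]
    exact ⟨k, hk, Subgroup.mem_centralizer_iff.mpr fun e he => (hkc e he).symm.eq⟩
  have hDR : D ≤ R := fun d hd => Subgroup.mem_centralizer_iff.mpr fun e he => (hcD e (hEC he) d hd).eq
  have hRC : ∀ r ∈ R, r ∈ C → r ∈ D := fun r hr hrC => hform.nondeg r hrC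
    (hcEC r (fun e he => (Subgroup.mem_centralizer_iff.mp hr e he).symm) fun d hd => hcD r hrC d hd)
  -- the output subgroup
  have hfin : ∀ (hR' : IsCyclic R ∨ (p = 2 ∧ 16 ≤ Nat.card R ∧
      ((∃ m : ℕ, Nonempty (↥R ≃* DihedralGroup m)) ∨ (∃ m : ℕ, Nonempty (↥R ≃* QuaternionGroup m)) ∨
        Cfsg.IsQuasiDihedral ↥R))),
      ∃ E R : Subgroup G, (∀ e ∈ E, ∀ r ∈ R, e * r = r * e) ∧ E ⊔ R = ⊤ ∧
      (E = ⊥ ∨ Cfsg.IsExtraspecial p ↥E) ∧ (IsCyclic R ∨ (p = 2 ∧ 16 ≤ Nat.card R ∧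
        ((∃ m : ℕ, Nonempty (↥R ≃* DihedralGroup m)) ∨ (∃ m : ℕ, Nonempty (↥R ≃* QuaternionGroup m)) ∨
          Cfsg.IsQuasiDihedral ↥R))) := by
    intro hR'
    by_cases hEZ : E ≤ Z
    · refine ⟨⊥, R, hbot R, ?_, Or.inl rfl, hR'⟩
      rw [bot_sup_eq, eq_top_iff]
      intro g _
      exact Subgroup.mem_centralizer_iff.mpr fun e he => (hZc e (hEZ he) g).eq
    · refine ⟨E, R, fun e he r hr => Subgroup.mem_centralizer_iff.mp hr e he, ?_, Or.inr ?_, hR'⟩
      · rw [eq_top_iff]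
        intro g _
        obtain ⟨e, he, her⟩ := hER g
        have := mul_mem (Subgroup.mem_sup_left he : e ∈ E ⊔ R) (Subgroup.mem_sup_right her)
        rwa [mul_inv_cancel_left] at this
      · refine sub_extraspecial hG hzo hzE hEpow hEform.comm hEcen ?_
        by_contra hcon
        push Not at hcon
        exact hEZ fun e he => hEcen e he fun f hf => hcon e he f hf
  by_cases hRab : IsMulCommutative R
  · have hRD : R ≤ D := fun r hr => hRC r hr (Subgroup.mem_centralizer_iff.mpr fun d hd =>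
      congrArg Subtype.val (hRab.is_comm.comm (⟨d, hDR hd⟩ : R) ⟨r, hr⟩))
    exact hfin (Or.inl (by
      haveI := hDcy
      exact isCyclic_of_injective (Subgroup.inclusion hRD) (Subgroup.inclusion_injective hRD)))
  obtain ⟨u, hu⟩ := (Subgroup.isCyclic_iff_exists_zpowers_eq_top (H := D)).mp hDcy
  have huD : u ∈ D := hu ▸ Subgroup.mem_zpowers u
  obtain ⟨n, hn⟩ := IsPGroup.iff_orderOf.mp hG u
  have hDn : Nat.card D = p ^ n := by rw [← hu, Nat.card_zpowers, hn]
  have hucen : ∀ g, Commute g u → g ∈ C := fun g hg => Subgroup.mem_centralizer_iff.mpr fun d hd => by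
    rw [← hu] at hd
    obtain ⟨i, rfl⟩ := hd
    exact (hg.symm.zpow_left i).eq
  have hn2 : 2 ≤ n := by
    by_contra hcon
    interval_cases n
    · rw [pow_zero, Subgroup.card_eq_one] at hDn
      rw [hDn, Subgroup.mem_bot] at hzD
      rw [hzD, orderOf_one] at hzo
      exact hp.ne_one hzo.symm
    · rw [pow_one] at hDn; exact hcard hDn
  have hgER : ∀ g : G, ∃ e ∈ E, ∃ r ∈ R, g = e * r := fun g => by
    obtain ⟨e, he, her⟩ := hER g
    exact ⟨e, he, _, her, (mul_inv_cancel_left e g).symm⟩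
  have hecomm : ∀ e ∈ E, ∀ r ∈ R, Commute e r := fun e he r hr => Subgroup.mem_centralizer_iff.mp hr e he
  by_cases h22 : p = 2 ∧ n = 2
  · obtain ⟨rfl, rfl⟩ := h22
    have hu4 : u ^ (4 : ℤ) = 1 := by
      rw [show (4 : ℤ) = ((2 ^ 2 : ℕ) : ℤ) by norm_num, zpow_natCast, ← hn, pow_orderOf_eq_one]
    have hodd : ∀ i : ℤ, u ^ (2 * i) ∈ Z := fun i => hOm _ (zpow_mem huD _) (by
      rw [← zpow_natCast, ← zpow_mul, show 2 * i * ((2 : ℕ) : ℤ) = 4 * i by push_cast; ring, zpow_mul, hu4, one_zpow])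
    have hrsq : ∀ r ∈ R, r ^ 2 ∈ Z := fun r hr => by
      obtain ⟨i, hi⟩ : ∃ i : ℤ, u ^ i = r * u * r⁻¹ := by
        have := (inferInstance : D.Normal).conj_mem u huD r
        rw [← hu] at this
        exact this
      have hii : r ^ 2 * u * (r ^ 2)⁻¹ = u := by
        rw [pow_two, show r * r * u * (r * r)⁻¹ = r * (r * u * r⁻¹) * r⁻¹ by group, ← hi, ← conj_zpow, ← hi, ← zpow_mul]
        rcases Int.even_or_odd' i with ⟨j, rfl | rfl⟩
        · exfalso
          have h1 : (r * u * r⁻¹) ^ 2 = 1 := by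
            rw [← hi, ← zpow_natCast, ← zpow_mul, show 2 * j * ((2 : ℕ) : ℤ) = 4 * j by push_cast; ring, zpow_mul, hu4,
              one_zpow]
          rw [conj_pow, mul_inv_eq_one, mul_eq_left] at h1
          have h5 := orderOf_dvd_of_pow_eq_one h1
          rw [hn] at h5
          norm_num at h5
        · rw [show (2 * j + 1) * (2 * j + 1) = 4 * (j * j + j) + 1 by ring, zpow_add, zpow_mul, hu4, one_zpow, one_mul,
            zpow_one]
      have hD2 : r ^ 2 ∈ D := hRC _ (pow_mem hr 2) (hucen _ (mul_inv_eq_iff_eq_mul.mp hii))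
      rw [← hu] at hD2
      obtain ⟨k, hk⟩ := hD2
      have hk' : u ^ k = r ^ 2 := hk
      rcases Int.even_or_odd' k with ⟨j, rfl | rfl⟩
      · exact hk' ▸ hodd j
      · have hcu : Commute r u := by
          have e1 : u = (r ^ 2) * (u ^ (2 * j))⁻¹ := by rw [← hk', zpow_add, zpow_one]; group
          rw [e1]
          exact (Commute.self_pow r 2).mul_right (hZc _ (inv_mem (hodd j)) r).symm
        have hrD := hRC r hr (hucen r hcu)
        rw [← hu] at hrD
        obtain ⟨l, hl⟩ := hrD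
        have hl' : u ^ l = r := hl
        rw [← hl', ← zpow_natCast, ← zpow_mul, mul_comm]
        exact hodd l
    refine hwhole (fun g => ?_) (fun g h => ?_) fun g hg => ?_
    · obtain ⟨e, he, r, hr, rfl⟩ := hgER g
      rw [(hecomm e he r hr).mul_pow]
      exact mul_mem (hEpow e he) (hrsq r hr)
    · have hsq : ∀ x : G, x ^ 2 ∈ Z := fun x => by
        obtain ⟨e, he, r, hr, rfl⟩ := hgER x
        rw [(hecomm e he r hr).mul_pow]
        exact mul_mem (hEpow e he) (hrsq r hr)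
      haveI : Z.Normal := ⟨fun w hw x => by rw [← (hZc w hw x).eq, mul_inv_cancel_right]; exact hw⟩
      rw [← QuotientGroup.eq_one_iff]
      have key : ∀ x : G ⧸ Z, x⁻¹ = x := fun x => by
        obtain ⟨x, rfl⟩ := QuotientGroup.mk'_surjective Z x
        refine inv_eq_of_mul_eq_one_right ?_
        rw [← map_mul, QuotientGroup.mk'_apply, QuotientGroup.eq_one_iff, ← pow_two]
        exact hsq x
      show QuotientGroup.mk' Z ⁅g, h⁆ = 1
      rw [map_commutatorElement, commutatorElement_def, key, key, mul_assoc _ (QuotientGroup.mk' Z g)]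
      have := key (QuotientGroup.mk' Z g * QuotientGroup.mk' Z h)
      exact (congrArg (· * (QuotientGroup.mk' Z g * QuotientGroup.mk' Z h)) this.symm).trans (inv_mul_cancel _)
    · have hgD := hcenD hg
      rw [← hu] at hgD
      obtain ⟨k, hk⟩ := hgD
      have hk' : u ^ k = g := hk
      rcases Int.even_or_odd' k with ⟨j, rfl | rfl⟩
      · exact hk' ▸ hodd j
      · exfalso
        have hucenter : ∀ x, Commute x u := fun x => by
          have e1 : u = g * (u ^ (2 * j))⁻¹ := by rw [← hk', zpow_add, zpow_one]; group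
          rw [e1]
          exact (show Commute x g from Subgroup.mem_center_iff.mp hg x).mul_right (hZc _ (inv_mem (hodd j)) x).symm
        exact hRab ⟨⟨fun a b => Subtype.ext
          (hform.central _ (hRC a a.2 (hucen a (hucenter a))) _ (hucen b (hucenter b))).eq⟩⟩
  -- the cyclic self-centralizing subgroup of `R`
  set U := D.subgroupOf R with hU
  haveI : U.Normal := Subgroup.Normal.subgroupOf inferInstance R
  have hUcy : IsCyclic U := (Subgroup.subgroupOfEquivOfLe hDR).isCyclic.mpr hDcy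
  have hUn : Nat.card U = p ^ n := (Nat.card_congr (Subgroup.subgroupOfEquivOfLe hDR).toEquiv).trans hDn
  have hUC : Subgroup.centralizer (U : Set R) = U := by
    ext r
    constructor
    · intro hr
      refine Subgroup.mem_subgroupOf.mpr (hRC r r.2 (Subgroup.mem_centralizer_iff.mpr fun d hd => ?_))
      exact congrArg Subtype.val (Subgroup.mem_centralizer_iff.mp hr ⟨d, hDR hd⟩ (Subgroup.mem_subgroupOf.mpr hd))
    · intro hr
      exact Subgroup.mem_centralizer_iff.mpr fun d hd => Subtype.ext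
        (hform.central _ (Subgroup.mem_subgroupOf.mp hd) _ (hform.le (Subgroup.mem_subgroupOf.mp hr))).eq
  rcases Cfsg.Agent.S3761.Aux.main (hG.to_subgroup R) hRab U hUcy n hUn hUC with
    ⟨h2, hcR, hshape⟩ | ⟨hrel, hel, hOcard, -⟩
  · refine hfin (Or.inr ⟨h2, ?_, hshape⟩)
    rw [hcR]
    have h3 : 3 ≤ n := by
      by_contra hcon
      exact h22 ⟨h2, by omega⟩
    exact le_trans (by norm_num : 16 ≤ 2 ^ 4) (Nat.pow_le_pow_right two_pos (by omega))
  exfalso
  set MR := Subgroup.centralizer (Cfsg.powerClosure p 1 U : Set R) with hMR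
  have hUMR : U ≤ MR := by
    intro r hr
    refine Subgroup.mem_centralizer_iff.mpr fun y hy => ?_
    have hle : Cfsg.powerClosure p 1 U ≤ Subgroup.centralizer ({r} : Set R) := (Subgroup.closure_le _).mpr (by
      rintro _ ⟨v, hv, rfl⟩
      rw [SetLike.mem_coe, Subgroup.mem_centralizer_singleton_iff]
      exact ((show Commute v r from hUC.ge hr v hv).pow_left _).eq)
    exact Subgroup.mem_centralizer_singleton_iff.mp (hle hy)
  -- a transvection
  obtain ⟨x, hxO, hxU⟩ : ∃ x ∈ Cfsg.omegaOne p MR, (x : G) ∉ D := by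
    by_contra hcon
    push Not at hcon
    have hle : (Cfsg.omegaOne p MR).map R.subtype ≤ Z := by
      rintro _ ⟨x, hx, rfl⟩
      exact hOm _ (hcon x hx) (congrArg Subtype.val (hel.2 x hx))
    have h1 := Subgroup.card_le_of_le hle
    rw [Subgroup.card_map_of_injective R.subtype_injective, hOcard, hZ, Nat.card_zpowers, hzo] at h1
    have h2 := hp.one_lt
    rw [pow_two] at h1
    nlinarith
  have hxM : x ∈ MR := (Subgroup.closure_le _).mpr (fun y hy => hy.1) hxO
  have hxp : (x : G) ^ p = 1 := congrArg Subtype.val (hel.2 x hxO)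
  have hMmem : ∀ y : R, y ∈ MR → ∀ d ∈ D, Commute (y : G) (d ^ p) := fun y hy d hd =>
    (congrArg Subtype.val (Subgroup.mem_centralizer_iff.mp hy ((⟨d, hDR hd⟩ : R) ^ p)
      (Subgroup.subset_closure ⟨⟨d, hDR hd⟩, Subgroup.mem_subgroupOf.mpr hd, by rw [pow_one]⟩))).symm
  set c := (x : G) * u * (x : G)⁻¹ * u⁻¹ with hcdef
  have hconj : (x : G) * u * (x : G)⁻¹ = c * u := (inv_mul_cancel_right _ _).symm
  have hcD' : c ∈ D := mul_mem ((inferInstance : D.Normal).conj_mem u huD _) (inv_mem huD)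
  have hcZ : c ∈ Z := hOm c hcD' (mul_right_cancel (b := u ^ p) (by
    rw [one_mul, ← (hform.central c hcD' u (hform.le huD)).mul_pow, ← hconj, conj_pow, (hMmem x hxM u huD).eq,
      mul_inv_cancel_right]))
  have hc1 : c ≠ 1 := fun e => hxU (hRC x x.2 (hucen x (mul_inv_eq_iff_eq_mul.mp (mul_inv_eq_one.mp e))))
  have hco : orderOf c = p := orderOf_eq_prime (hZp c hcZ) hc1
  -- the generated subgroup of `MR`
  have hgen : ∀ y ∈ MR, ∃ a b : ℕ, (y : G) = u ^ a * (x : G) ^ b := by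
    intro y hy
    haveI hUMn : (U.subgroupOf MR).Normal := Subgroup.Normal.subgroupOf inferInstance MR
    have hidx : Nat.card (MR ⧸ U.subgroupOf MR) = p := by rw [← Subgroup.index_eq_card]; exact hrel
    haveI : Fact (Nat.card (MR ⧸ U.subgroupOf MR)).Prime := ⟨hidx.symm ▸ hp⟩
    obtain ⟨b, hb⟩ := mem_powers_of_prime_card (g := ((⟨x, hxM⟩ : MR) : MR ⧸ U.subgroupOf MR))
      (g' := ((⟨y, hy⟩ : MR) : MR ⧸ U.subgroupOf MR)) hidx
      (fun e => hxU (Subgroup.mem_subgroupOf.mp (Subgroup.mem_subgroupOf.mp ((QuotientGroup.eq_one_iff (⟨x, hxM⟩ : MR)).mp e))))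
    change ((⟨x, hxM⟩ : MR) : MR ⧸ U.subgroupOf MR) ^ b = _ at hb
    rw [← QuotientGroup.mk_pow] at hb
    have hd := Subgroup.mem_subgroupOf.mp (Subgroup.mem_subgroupOf.mp (QuotientGroup.eq.mp hb))
    have hd' : ((x : G) ^ b)⁻¹ * (y : G) ∈ D := hd
    have hd2 : (y : G) * ((x : G) ^ b)⁻¹ ∈ D := by
      have := (inferInstance : D.Normal).conj_mem _ hd' ((x : G) ^ b)
      rwa [mul_inv_cancel_left] at this
    rw [← hu] at hd2
    obtain ⟨a, ha⟩ : ∃ a : ℕ, u ^ a = (y : G) * ((x : G) ^ b)⁻¹ :=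
      (isOfFinOrder_of_finite u).mem_powers_iff_mem_zpowers.mpr hd2
    exact ⟨a, b, by rw [ha, inv_mul_cancel_right]⟩
  -- the characteristic subgroup generated by elements of order `p`
  set M := Subgroup.centralizer ({g : G | ∃ d ∈ D, g = d ^ p}) with hM
  have hMc : M.Characteristic := char_of_mem_iff fun φ k hk => Subgroup.mem_centralizer_iff.mpr (by
    rintro _ ⟨d, hd, rfl⟩
    obtain ⟨d, rfl⟩ := φ.surjective d
    have h1 := Subgroup.mem_centralizer_iff.mp hk (d ^ p) ⟨d, by simpa using char_mem hDc φ.symm hd, rfl⟩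
    rw [← map_pow, ← map_mul, ← map_mul, h1])
  set W := Subgroup.closure {w : G | w ∈ M ∧ w ^ p = 1} with hW
  have hWc : W.Characteristic := char_of_mem_iff fun φ k hk => by
    have hle : W ≤ W.comap φ.toMonoidHom := (Subgroup.closure_le _).mpr fun w hw =>
      Subgroup.subset_closure ⟨char_mem hMc φ hw.1, by
        show φ w ^ p = 1
        rw [← map_pow, hw.2, map_one]⟩
    exact hle hk
  set A := W ⊓ Subgroup.centralizer (W : Set G) with hA
  have hAc : A.Characteristic := char_of_mem_iff fun φ a ha => by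
    obtain ⟨h1, h2⟩ := Subgroup.mem_inf.mp ha
    refine Subgroup.mem_inf.mpr ⟨char_mem hWc φ h1, Subgroup.mem_centralizer_iff.mpr fun b hb => ?_⟩
    obtain ⟨b, rfl⟩ := φ.surjective b
    rw [← map_mul, ← map_mul, Subgroup.mem_centralizer_iff.mp h2 b (by simpa using char_mem hWc φ.symm hb)]
  have hAab : IsMulCommutative A := ⟨⟨fun a b => Subtype.ext
    (Subgroup.mem_centralizer_iff.mp (Subgroup.mem_inf.mp b.2).2 (a : G) (Subgroup.mem_inf.mp a.2).1)⟩⟩
  have hxW : (x : G) ∈ W := Subgroup.subset_closure ⟨Subgroup.mem_centralizer_iff.mpr (by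
    rintro _ ⟨d, hd, rfl⟩; exact (hMmem x hxM d hd).symm.eq), hxp⟩
  have hzW : z ∈ W := Subgroup.subset_closure ⟨Subgroup.mem_centralizer_iff.mpr (fun w _ => (hzc w).symm.eq), hzp⟩
  have hxA : (x : G) ∈ A := by
    refine Subgroup.mem_inf.mpr ⟨hxW, Subgroup.mem_centralizer_iff.mpr fun w hw => ?_⟩
    have hle : W ≤ Subgroup.centralizer ({(x : G)} : Set G) := (Subgroup.closure_le _).mpr (by
      rintro w ⟨hwM, hwp⟩
      rw [SetLike.mem_coe, Subgroup.mem_centralizer_singleton_iff]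
      obtain ⟨e, he, r, hr, rfl⟩ := hgER w
      have hrM : (⟨r, hr⟩ : R) ∈ MR := by
        refine Subgroup.mem_centralizer_iff.mpr fun y hy => ?_
        have hle' : Cfsg.powerClosure p 1 U ≤ Subgroup.centralizer ({(⟨r, hr⟩ : R)} : Set R) :=
          (Subgroup.closure_le _).mpr (by
            rintro _ ⟨v, hv, rfl⟩
            rw [SetLike.mem_coe, Subgroup.mem_centralizer_singleton_iff]
            apply Subtype.ext
            have hvp : (v : G) ^ p ∈ D := pow_mem (Subgroup.mem_subgroupOf.mp hv) p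
            show (v : G) ^ p ^ 1 * r = r * (v : G) ^ p ^ 1
            rw [pow_one]
            have h1 : Commute ((v : G) ^ p) (e * r) :=
              Subgroup.mem_centralizer_iff.mp hwM _ ⟨v, Subgroup.mem_subgroupOf.mp hv, rfl⟩
            have h2 : Commute ((v : G) ^ p) e := hform.central _ hvp e (hEC he)
            have h3 := h2.inv_right.mul_right h1
            rw [inv_mul_cancel_left] at h3
            exact h3.eq)
        exact Subgroup.mem_centralizer_singleton_iff.mp (hle' hy)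
      obtain ⟨a, b, hab'⟩ := hgen ⟨r, hr⟩ hrM
      have hab'' : r = u ^ a * (x : G) ^ b := hab'
      have hrp : r ^ p ∈ Z ∧ (p ≠ 2 → r ^ p = 1) := by
        rw [(hecomm e he r hr).mul_pow] at hwp
        refine ⟨?_, fun hodd => ?_⟩
        · rw [eq_inv_of_mul_eq_one_right hwp]; exact inv_mem (hEpow e he)
        · rwa [hEp hodd e he, one_mul] at hwp
      have hcb : (x : G) ^ b * u * ((x : G) ^ b)⁻¹ = c ^ b * u := by
        clear hab' hab''
        induction b with
        | zero => simp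
        | succ b ih =>
          calc (x : G) ^ (b + 1) * u * ((x : G) ^ (b + 1))⁻¹
              = (x : G) * ((x : G) ^ b * u * ((x : G) ^ b)⁻¹) * (x : G)⁻¹ := by rw [pow_succ']; group
            _ = ((x : G) * c ^ b * (x : G)⁻¹) * ((x : G) * u * (x : G)⁻¹) := by rw [ih]; group
            _ = c ^ b * (c * u) := by rw [← ((hZc _ (pow_mem hcZ b)) (x : G)).eq, mul_inv_cancel_right, hconj]
            _ = c ^ (b + 1) * u := by rw [← mul_assoc, ← pow_succ]
      have hform' := Cfsg.Agent.S3761.Aux.conj_mul_pow hcb (hZc _ (pow_mem hcZ b) u) (hZc _ (pow_mem hcZ b) _) a p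
      rw [← hab'', ← pow_mul (x : G) b p, mul_comm b p, pow_mul (x : G) p b, hxp, one_pow, mul_one] at hform'
      have hpa : p ∣ a := by
        by_cases hp2 : p = 2
        · have h3 : 3 ≤ n := by
            by_contra hcon
            exact h22 ⟨hp2, by omega⟩
          have h4 : u ^ (a * p) ∈ Z := by
            have := mul_mem (hform' ▸ hrp.1) (inv_mem (pow_mem (pow_mem hcZ b) (a * p.choose 2)))
            rwa [mul_inv_cancel_right] at this
          have h5 := hZp _ h4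
          rw [← pow_mul] at h5
          have h6 := orderOf_dvd_of_pow_eq_one h5
          rw [hn, hp2] at h6
          rw [hp2]
          obtain ⟨k, hk⟩ : ∃ k, n = k + 1 + 1 + 1 := ⟨n - 3, by omega⟩
          rw [hk, show a * 2 * 2 = a * 4 by ring, show 2 ^ (k + 1 + 1 + 1) = (2 * 2 ^ k) * 4 by ring] at h6
          exact (dvd_mul_right 2 (2 ^ k)).trans (Nat.dvd_of_mul_dvd_mul_right (by norm_num) h6)
        · obtain ⟨q, hq⟩ : p ∣ p.choose 2 := hp.dvd_choose_self two_ne_zero (by have := hp.two_le; omega)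
          rw [hrp.2 hp2, hq, show a * (p * q) = p * (a * q) by ring, pow_mul (c ^ b) p,
            hZp _ (pow_mem hcZ b), one_pow, mul_one] at hform'
          have h6 := orderOf_dvd_of_pow_eq_one hform'.symm
          rw [hn, show p ^ n = p ^ (n - 1) * p by rw [← pow_succ]; congr 1; omega] at h6
          exact (dvd_pow_self p (show n - 1 ≠ 0 by omega)).trans (Nat.dvd_of_mul_dvd_mul_right hp.pos h6)
      have hxu : Commute (x : G) (u ^ a) := by
        have h1 : (x : G) * u ^ a * (x : G)⁻¹ = u ^ a := by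
          obtain ⟨q, hq⟩ := hpa
          rw [← conj_pow, hconj, (hform.central c hcD' u (hform.le huD)).mul_pow, hq, pow_mul c p q, hZp c hcZ, one_pow,
            one_mul]
        exact mul_inv_eq_iff_eq_mul.mp h1
      have hxr : Commute (x : G) r := by rw [hab'']; exact hxu.mul_right (Commute.self_pow _ b)
      exact ((hecomm e he x x.2).symm.mul_right hxr).symm.eq)
    exact Subgroup.mem_centralizer_singleton_iff.mp (hle hw)
  have hzA : z ∈ A := Subgroup.mem_inf.mpr ⟨hzW, Subgroup.mem_centralizer_iff.mpr fun w _ => (hzc w).symm.eq⟩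
  exact hxU (hZD (mem_zpowers_of_pow (hsymp A hAc hAab) hzA hzo hxA hxp))

end Aux

/-- Let G be a finite p-group of symplectic type: every characteristic abelian subgroup of G is cyclic. Then G = E ∗ R is a central product of subgroups E and R (they commute elementwise and generate G) where E is extraspecial or trivial, and R is cyclic, or p = 2 and R is dihedral, semidihedral or generalized quaternion of order at least 16. -/
theorem result {G : Type*} [Group G] [Finite G] {p : ℕ} [Fact p.Prime] (hG : IsPGroup p G) (hsymp : ∀ A : Subgroup G, A.Characteristic → IsMulCommutative A → IsCyclic A) : ∃ E R : Subgroup G, (∀ e ∈ E, ∀ r ∈ R, e * r = r * e) ∧ E ⊔ R = ⊤ ∧ (E = ⊥ ∨ Cfsg.IsExtraspecial p ↥E) ∧ (IsCyclic R ∨ (p = 2 ∧ 16 ≤ Nat.card R ∧ ((∃ m : ℕ, Nonempty (↥R ≃* DihedralGroup m)) ∨ (∃ m : ℕ, Nonempty (↥R ≃* QuaternionGroup m)) ∨ Cfsg.IsQuasiDihedral ↥R))) := by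

  exact Aux.main hG hsymp

end Cfsg.Agent.S3762
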