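import Cfsg.Statements.S4025
import Cfsg.Agent.Lib.Basic
import Cfsg.Agent.Lib.TransitiveLinear.Large
import Cfsg.Agent.Lib.Chev.Aut.FieldCyclic

set_option autoImplicit false
set_option maxHeartbeats 4000000
open Cfsg

namespace Cfsg.Agent.S4025

open scoped Pointwise

section Field

variable {F F' : Type*} [Field F] [Field F'] [Finite F]

/-- The stabiliser of `0` in the semiaffine group. -/
def semilin (F : Type*) [Field F] : Subgroup (Equiv.Perm F) :=
  Cfsg.semiaffineGroup F ⊓ MulAction.stabilizer (Equiv.Perm F) (0 : F)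

theorem mem_semilin {π : Equiv.Perm F} :
    π ∈ semilin F ↔ ∃ a : Fˣ, ∃ σ : F ≃+* F, ∀ x, π x = (a : F) * σ x := by
  constructor
  · rintro ⟨⟨a, b, σ, h⟩, h0⟩
    refine ⟨a, σ, fun x => ?_⟩
    have hb : b = 0 := by
      have h0' : π 0 = 0 := h0
      have := h 0
      rw [h0', map_zero, mul_zero, zero_add] at this
      exact this.symm
    rw [h x, hb, add_zero]
  · rintro ⟨a, σ, h⟩
    refine ⟨⟨a, 0, σ, fun x => by rw [h x, add_zero]⟩, ?_⟩
    show π 0 = 0
    rw [h 0, map_zero, mul_zero]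

theorem card_semilin (p n : ℕ) [Fact p.Prime] [CharP F p] (hF : Nat.card F = p ^ n) :
    Nat.card (semilin F) = (p ^ n - 1) * n := by
  classical
  haveI := Fintype.ofFinite F
  let f : Fˣ × RingAut F → semilin F := fun aσ =>
    ⟨(aσ.2.toEquiv).trans (Equiv.mulLeft₀ (aσ.1 : F) aσ.1.ne_zero),
      mem_semilin.2 ⟨aσ.1, aσ.2, fun x => rfl⟩⟩
  have hf : Function.Bijective f := by
    constructor
    · rintro ⟨a, σ⟩ ⟨b, τ⟩ h
      have h' : ∀ x, (a : F) * σ x = (b : F) * τ x := fun x =>
        congrArg (fun π : semilin F => (π : Equiv.Perm F) x) h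
      have h1 := h' 1
      rw [map_one, map_one, mul_one, mul_one] at h1
      refine Prod.ext (Units.ext h1) (RingEquiv.ext fun x => ?_)
      have := h' x
      rw [h1] at this
      exact mul_left_cancel₀ b.ne_zero this
    · rintro ⟨π, hπ⟩
      obtain ⟨a, σ, h⟩ := mem_semilin.1 hπ
      exact ⟨(a, σ), Subtype.ext (Equiv.ext fun x => (h x).symm)⟩
  rw [← Nat.card_congr (Equiv.ofBijective f hf), Nat.card_prod, Nat.card_units, hF,
    (CfsgLib.Chev.ringAut_cyclic_card p hF).2]

theorem card_semiaffine_le (p n : ℕ) [Fact p.Prime] [CharP F p] (hF : Nat.card F = p ^ n) :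
    Nat.card (Cfsg.semiaffineGroup F) ≤ p ^ n * ((p ^ n - 1) * n) := by
  classical
  haveI := Fintype.ofFinite F
  let f : F × Fˣ × RingAut F → Cfsg.semiaffineGroup F := fun t =>
    ⟨((t.2.2.toEquiv).trans (Equiv.mulLeft₀ (t.2.1 : F) t.2.1.ne_zero)).trans (Equiv.addRight t.1),
      t.2.1, t.1, t.2.2, fun x => rfl⟩
  haveI : Finite (RingAut F) := Finite.of_injective (fun σ : RingAut F => (σ : F → F)) DFunLike.coe_injective
  have hf : Function.Surjective f := by
    rintro ⟨π, a, b, σ, h⟩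
    exact ⟨(b, a, σ), Subtype.ext (Equiv.ext fun x => (h x).symm)⟩
  refine (Nat.card_le_card_of_surjective f hf).trans (le_of_eq ?_)
  rw [Nat.card_prod, Nat.card_prod, Nat.card_units, hF, (CfsgLib.Chev.ringAut_cyclic_card p hF).2]

theorem card_affine_le (p n : ℕ) [Fact p.Prime] [CharP F p] (hF : Nat.card F = p ^ n) :
    Nat.card (Cfsg.affineGroup F) ≤ p ^ n * (p ^ n - 1) := by
  classical
  haveI := Fintype.ofFinite F
  let f : F × Fˣ → Cfsg.affineGroup F := fun t =>
    ⟨(Equiv.mulLeft₀ (t.2 : F) t.2.ne_zero).trans (Equiv.addRight t.1), t.2, t.1, fun x => rfl⟩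
  have hf : Function.Surjective f := by
    rintro ⟨π, a, b, h⟩
    exact ⟨(b, a), Subtype.ext (Equiv.ext fun x => (h x).symm)⟩
  refine (Nat.card_le_card_of_surjective f hf).trans (le_of_eq ?_)
  rw [Nat.card_prod, Nat.card_units, hF]

omit [Finite F] in
theorem semiaffine_transport (e : F ≃+* F') {π : Equiv.Perm F} (h : π ∈ Cfsg.semiaffineGroup F) :
    e.toEquiv.permCongr π ∈ Cfsg.semiaffineGroup F' := by
  obtain ⟨a, b, σ, h⟩ := h
  refine ⟨Units.map (e : F →* F') a, e b, (e.symm.trans σ).trans e, fun x => ?_⟩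
  show e (π (e.symm x)) = e (a : F) * e (σ (e.symm x)) + e b
  rw [h, map_add, map_mul]

omit [Finite F] in
theorem affine_transport (e : F ≃+* F') {π : Equiv.Perm F} (h : π ∈ Cfsg.affineGroup F) :
    e.toEquiv.permCongr π ∈ Cfsg.affineGroup F' := by
  obtain ⟨a, b, h⟩ := h
  refine ⟨Units.map (e : F →* F') a, e b, fun x => ?_⟩
  show e (π (e.symm x)) = e (a : F) * x + e b
  rw [h, map_add, map_mul, RingEquiv.apply_symm_apply]

end Field

section Linear

open CfsgLib.RegularLinear (Semi)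

variable {p : ℕ} [hp : Fact p.Prime] {V : Type*} [AddCommGroup V] [Module (ZMod p) V] [Finite V] [Nontrivial V]
  {G : Type*} [Group G] [Finite G] {ρ : G →* (V ≃ₗ[ZMod p] V)}

/-- A semilinear group has order dividing `(q - 1) * n`. -/
theorem card_dvd_of_semi (hρ : Function.Injective ρ) (hS : Semi ρ) {n : ℕ} (hn : Nat.card V = p ^ n) :
    Nat.card G ∣ (p ^ n - 1) * n := by
  obtain ⟨F, _, _, e, he⟩ := hS
  haveI : Finite F := inferInstance
  have hF : Nat.card F = p ^ n := by rw [← hn]; exact (Nat.card_congr e.toEquiv).symm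
  haveI : CharP F p := by
    obtain ⟨v, hv⟩ := exists_ne (0 : V)
    have hpv : p • v = 0 := by rw [← Nat.cast_smul_eq_nsmul (ZMod p), ZMod.natCast_self, zero_smul]
    have h1 : (p : F) * e v = 0 := by rw [← nsmul_eq_mul, ← map_nsmul, hpv, map_zero]
    have h2 : (p : F) = 0 := by
      rcases mul_eq_zero.1 h1 with h | h
      · exact h
      · exact absurd ((AddEquiv.map_eq_zero_iff e).1 h) hv
    obtain ⟨q, hq⟩ := CharP.exists F
    have hqp : q ∣ p := (CharP.cast_eq_zero_iff F q p).1 h2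
    rcases (Nat.dvd_prime hp.out).1 hqp with h | h
    · subst h; exact absurd rfl (CharP.char_ne_one F 1)
    · subst h; exact hq
  let f : G →* Equiv.Perm F :=
    { toFun := fun g => e.toEquiv.permCongr (ρ g).toEquiv
      map_one' := by ext x; simp
      map_mul' := fun a b => by ext x; simp }
  have hf : ∀ g, f g ∈ semilin F := by
    intro g
    obtain ⟨a, σ, h⟩ := he g
    have ha : a ≠ 0 := by
      rintro rfl
      have h1 := h (e.symm 1)
      rw [zero_mul, AddEquiv.map_eq_zero_iff, LinearEquiv.map_eq_zero_iff,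
        AddEquiv.map_eq_zero_iff] at h1
      exact one_ne_zero h1
    refine mem_semilin.2 ⟨Units.mk0 a ha, σ, fun x => ?_⟩
    show e (ρ g (e.symm x)) = a * σ x
    rw [h, AddEquiv.apply_symm_apply]
  have hinj : Function.Injective (f.codRestrict _ hf) := by
    intro a b h
    apply hρ
    ext v
    have h1 : f a (e v) = f b (e v) := congrArg (fun π : semilin F => (π : Equiv.Perm F) (e v)) h
    simpa [f] using h1
  rw [← card_semilin (F := F) p n hF]
  exact Subgroup.card_dvd_of_injective _ hinj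

/-- Two-dimensional subspaces: if the group permutes them transitively. -/
theorem pairs_dvd (hρ : Function.Injective ρ) {n : ℕ} (hn : 2 ≤ n) (hV : Module.finrank (ZMod p) V = n)
    (Z : Subgroup G) (hZ : Nat.card Z = p - 1) (hZs : ∀ z ∈ Z, ∃ c : ZMod p, ∀ v, ρ z v = c • v)
    (htr : ∀ W W' : Submodule (ZMod p) V, Module.finrank (ZMod p) W = 2 → Module.finrank (ZMod p) W' = 2 →
      ∃ g : G, W.map (ρ g).toLinearMap = W') :
    (p ^ n - 1) * (p ^ n - p) * (p - 1) ∣ Nat.card G * ((p ^ 2 - 1) * (p ^ 2 - p)) := by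
  classical
  haveI := Fintype.ofFinite V
  have hcp : Fintype.card (ZMod p) = p := ZMod.card p
  let L := {s : Fin 2 → V // LinearIndependent (ZMod p) s}
  have hL : Nat.card L = (p ^ n - 1) * (p ^ n - p) := by
    rw [show Nat.card L = _ from card_linearIndependent (K := ZMod p) (V := V) (k := 2) (by omega),
      hV, Fin.prod_univ_two, hcp]
    simp
  let sp : L → Submodule (ZMod p) V := fun s => Submodule.span (ZMod p) (Set.range s.1)
  have hsp : ∀ s : L, Module.finrank (ZMod p) (sp s) = 2 := fun s => by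
    show Module.finrank (ZMod p) (Submodule.span (ZMod p) (Set.range s.1)) = 2
    rw [finrank_span_eq_card s.2, Fintype.card_fin]
  obtain ⟨s₀⟩ : Nonempty L := by
    rw [← not_isEmpty_iff]
    intro h
    rw [Nat.card_of_isEmpty] at hL
    have h1 : 1 < p ^ n := Nat.one_lt_pow (by omega) hp.out.one_lt
    have h2 : p ^ 1 < p ^ n := Nat.pow_lt_pow_right hp.out.one_lt (by omega)
    rw [pow_one] at h2
    rcases Nat.mul_eq_zero.1 hL.symm with h | h <;> omega
  set W₀ := sp s₀
  letI : MulAction G (Submodule (ZMod p) V) :=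
    { smul := fun g W => W.map (ρ g).toLinearMap
      one_smul := fun W => by
        show W.map (ρ 1).toLinearMap = W
        rw [map_one]
        exact Submodule.map_id W
      mul_smul := fun a b W => by
        show W.map (ρ (a * b)).toLinearMap = (W.map (ρ b).toLinearMap).map (ρ a).toLinearMap
        rw [← Submodule.map_comp, map_mul]
        rfl }
  set S := MulAction.stabilizer G W₀
  have hmemorb : ∀ s : L, sp s ∈ MulAction.orbit G W₀ := fun s => by
    obtain ⟨g, hg⟩ := htr W₀ (sp s) (hsp s₀) (hsp s)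
    exact ⟨g, hg⟩
  let sp' : L → MulAction.orbit G W₀ := fun s => ⟨sp s, hmemorb s⟩
  -- all fibres are equivalent to the bases of `W₀`
  have hfib : ∀ W : MulAction.orbit G W₀, Nat.card {s : L // sp' s = W} = (p ^ 2 - 1) * (p ^ 2 - p) := by
    rintro ⟨W, g, hg⟩
    have hW2 : Module.finrank (ZMod p) W = 2 := by
      rw [← (show W₀.map (ρ g).toLinearMap = W from hg), LinearEquiv.finrank_map_eq]
      exact hsp s₀
    haveI := Fintype.ofFinite W
    let e : {s : L // sp' s = ⟨W, g, hg⟩} ≃ {s : Fin 2 → W // LinearIndependent (ZMod p) s} :=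
      { toFun := fun s => ⟨fun i => ⟨s.1.1 i, by
            have h : sp s.1 = W := congrArg Subtype.val s.2
            exact h.le (Submodule.subset_span ⟨i, rfl⟩)⟩,
          LinearIndependent.of_comp W.subtype s.1.2⟩
        invFun := fun s => ⟨⟨fun i => (s.1 i : V), s.2.map' W.subtype (Submodule.ker_subtype W)⟩,
          Subtype.ext (Submodule.eq_of_le_of_finrank_eq
            (Submodule.span_le.2 (by rintro _ ⟨i, rfl⟩; exact (s.1 i).2))
            (by rw [hW2]; exact hsp _))⟩
        left_inv := fun s => rfl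
        right_inv := fun s => rfl }
    rw [Nat.card_congr e, card_linearIndependent (K := ZMod p) (V := W) (k := 2) (by omega),
      hW2, Fin.prod_univ_two, hcp]
    simp
  have hcount : Nat.card L = Nat.card (MulAction.orbit G W₀) * ((p ^ 2 - 1) * (p ^ 2 - p)) := by
    haveI := Fintype.ofFinite (MulAction.orbit G W₀)
    rw [← Nat.card_congr (Equiv.sigmaFiberEquiv sp'), Nat.card_sigma, Finset.sum_congr rfl (fun W _ => hfib W),
      Finset.sum_const, Finset.card_univ, smul_eq_mul, Nat.card_eq_fintype_card]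
  have horb : Nat.card (MulAction.orbit G W₀) * Nat.card S = Nat.card G := by
    rw [Nat.card_congr (MulAction.orbitEquivQuotientStabilizer G W₀)]
    exact (Subgroup.card_eq_card_quotient_mul_card_subgroup S).symm
  have hZS : Z ≤ S := by
    intro z hz
    obtain ⟨c, hc⟩ := hZs z hz
    show W₀.map (ρ z).toLinearMap = W₀
    refine Submodule.eq_of_le_of_finrank_eq ?_ (LinearEquiv.finrank_map_eq _ _)
    rintro _ ⟨w, hw, rfl⟩
    show ρ z w ∈ W₀
    rw [hc]; exact W₀.smul_mem c hw
  obtain ⟨k, hk⟩ := hZ ▸ Subgroup.card_dvd_of_le hZS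
  refine ⟨k, ?_⟩
  rw [← horb, ← hL, hcount, hk]
  ring

omit [Finite V] [Nontrivial V] in
theorem pow_fix {x : G} {v : V} (h : ρ x v = v) : ∀ k : ℕ, ρ (x ^ k) v = v := by
  intro k; induction k with
  | zero => simp
  | succ k ih => rw [pow_succ, map_mul, LinearEquiv.mul_apply, h, ih]

/-- A solvable transitive group on `81` points has no element of order `13`. -/
theorem no_thirteen [Group.IsSolvable G] (hρ : Function.Injective ρ)
    (htrans : ∀ v w : V, v ≠ 0 → w ≠ 0 → ∃ g : G, ρ g v = w) (h3 : p = 3)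
    (hV : Module.finrank (ZMod p) V = 4) : ¬ 13 ∣ Nat.card G := by
  classical
  subst h3
  intro h13
  haveI : Fact (Nat.Prime 13) := ⟨by norm_num⟩
  obtain ⟨x, hx⟩ := exists_prime_orderOf_dvd_card' 13 h13
  -- the order of the group
  have hGdvd : Nat.card G ∣ 24261120 := by
    have e : (V ≃ₗ[ZMod 3] V) ≃* GL (Fin 4) (ZMod 3) :=
      (LinearMap.GeneralLinearGroup.generalLinearEquiv (ZMod 3) V).symm.trans
        (Matrix.GeneralLinearGroup.toLin.trans (LinearMap.GeneralLinearGroup.congrLinearEquiv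
          ((Module.finBasisOfFinrankEq (ZMod 3) V hV).equivFun.symm))).symm
    have hc : Nat.card (GL (Fin 4) (ZMod 3)) = 24261120 := by
      rw [Matrix.card_GL_field]
      simp [Fin.prod_univ_four, ZMod.card]
    rw [← hc]
    exact Subgroup.card_dvd_of_injective (e.toMonoidHom.comp ρ) (e.injective.comp hρ)
  -- `x` centralises every core
  have hcores : ∀ s : Nat.Primes, ∀ b ∈ Cfsg.pCore (s : ℕ) G, x * b = b * x := by
    intro s b hb
    haveI : Fact (s : ℕ).Prime := ⟨s.2⟩
    set S := Cfsg.pCore (s : ℕ) G with hSdef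
    haveI hSn : S.Normal := by rw [hSdef]; infer_instance
    obtain ⟨k, hk⟩ := (CfsgLib.isPGroup_pCore (G := G) (s : ℕ)).exists_card_eq
    have hdvd : (s : ℕ) ^ k ∣ 24261120 := hk ▸ (Subgroup.card_subgroup_dvd_card S).trans hGdvd
    -- fixed points
    letI : MulAction (Subgroup.zpowers x) S :=
      MulAction.compHom S ((MulAut.conjNormal (H := S)).comp (Subgroup.zpowers x).subtype)
    have hP : IsPGroup 13 (Subgroup.zpowers x) :=
      IsPGroup.of_card (n := 1) (by rw [Nat.card_zpowers, hx, pow_one])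
    have hmod := hP.card_modEq_card_fixedPoints S
    let C : Subgroup G := S ⊓ Subgroup.centralizer ({x} : Set G)
    have hCfix : Nat.card (MulAction.fixedPoints (Subgroup.zpowers x) S) = Nat.card C := by
      refine Nat.card_congr
        { toFun := fun u => ⟨((u : S) : G), (u : S).2, Subgroup.mem_centralizer_singleton_iff.2 ?_⟩
          invFun := fun u => ⟨⟨(u : G), u.2.1⟩, ?_⟩
          left_inv := fun u => rfl
          right_inv := fun u => rfl }
      · have h : x * ((u : S) : G) * x⁻¹ = ((u : S) : G) :=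
          congrArg Subtype.val (u.2 ⟨x, Subgroup.mem_zpowers x⟩)
        exact (mul_inv_eq_iff_eq_mul.1 h).symm
      · intro z
        apply Subtype.ext
        show (z : G) * (u : G) * (z : G)⁻¹ = (u : G)
        obtain ⟨i, hi⟩ := Subgroup.mem_zpowers_iff.1 z.2
        have hc : Commute x (u : G) := (Subgroup.mem_centralizer_singleton_iff.1 u.2.2).symm
        rw [← hi, (hc.zpow_left i).eq, mul_inv_cancel_right]
    rw [hCfix, hk] at hmod
    obtain ⟨c, hck, hc⟩ := (Nat.dvd_prime_pow s.2).1 (hk ▸ Subgroup.card_dvd_of_le (inf_le_left : C ≤ S))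
    rw [hc] at hmod
    suffices hkc : k = c by
      have hCS : C = S := Subgroup.eq_of_le_of_card_ge inf_le_left (by rw [hk, hc, hkc])
      have hb' : b ∈ C := hCS.symm ▸ hb
      exact (Subgroup.mem_centralizer_singleton_iff.1 hb'.2).symm
    obtain ⟨s, hs⟩ := s
    simp only at hdvd hmod hk
    rcases Nat.eq_zero_or_pos k with h0 | h0
    · omega
    have hs' : s ∣ 2 ^ 9 * (3 ^ 6 * (5 * 13)) := (dvd_pow_self s h0.ne').trans (by norm_num; exact hdvd)
    rcases (Nat.Prime.dvd_mul hs).1 hs' with h | h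
    · obtain rfl := (Nat.prime_dvd_prime_iff_eq hs Nat.prime_two).1 (hs.dvd_of_dvd_pow h)
      have hk9 : k ≤ 9 := by
        by_contra hlt
        have := (pow_dvd_pow 2 (show 10 ≤ k by omega)).trans hdvd
        norm_num at this
      have hmod' : 2 ^ k % 13 = 2 ^ c % 13 := hmod
      interval_cases k <;> interval_cases c <;> simp_all
    rcases (Nat.Prime.dvd_mul hs).1 h with h | h
    · obtain rfl := (Nat.prime_dvd_prime_iff_eq hs Nat.prime_three).1 (hs.dvd_of_dvd_pow h)
      have := CfsgLib.TransitiveLinear.pCore_eq_bot hρ htrans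
      rw [this, Subgroup.card_bot] at hk
      have : 3 ^ 1 ≤ 3 ^ k := Nat.pow_le_pow_right (by norm_num) h0
      omega
    have hk1 : ∀ r : ℕ, s = r → ¬ r ^ 2 ∣ 24261120 → k = 1 := by
      intro r hr hnd
      subst hr
      by_contra hne
      exact hnd ((pow_dvd_pow s (show 2 ≤ k by omega)).trans hdvd)
    rcases (Nat.Prime.dvd_mul hs).1 h with h | h
    · obtain rfl := (Nat.prime_dvd_prime_iff_eq hs (by norm_num)).1 h
      obtain rfl := hk1 5 rfl (by norm_num)
      have hmod' : 5 ^ 1 % 13 = 5 ^ c % 13 := hmod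
      interval_cases c <;> simp_all
    · obtain rfl := (Nat.prime_dvd_prime_iff_eq hs (by norm_num)).1 h
      obtain rfl := hk1 13 rfl (by norm_num)
      have hmod' : 13 ^ 1 % 13 = 13 ^ c % 13 := hmod
      interval_cases c
      · simp at hmod'
      · rfl
  let F := Cfsg.fittingSubgroup G
  have hF : F ≤ Subgroup.centralizer ({x} : Set G) := by
    show Cfsg.fittingSubgroup G ≤ _
    rw [CfsgLib.fittingSubgroup_eq_iSup_pCore]
    exact iSup_le fun s => fun b hb => Subgroup.mem_centralizer_singleton_iff.mpr (hcores s b hb).symm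
  haveI : F.Normal := by
    show (Cfsg.fittingSubgroup G).Normal
    infer_instance
  let A := Subgroup.centralizer (F : Set G)
  have hA : ∀ a ∈ A, ∀ b ∈ A, a * b = b * a := fun a ha b hb =>
    (Subgroup.mem_centralizer_iff.mp ha b (CfsgLib.centralizer_fitting_le hb)).symm
  have hxA : x ∈ A := Subgroup.mem_centralizer_iff.mpr fun b hb => Subgroup.mem_centralizer_singleton_iff.mp (hF hb)
  -- a fixed vector
  letI : MulAction (Subgroup.zpowers x) V :=
    MulAction.compHom V (((LinearEquiv.automorphismGroup.toLinearMapMonoidHom).comp ρ).comp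
      (Subgroup.zpowers x).subtype)
  have hP : IsPGroup 13 (Subgroup.zpowers x) :=
    IsPGroup.of_card (n := 1) (by rw [Nat.card_zpowers, hx, pow_one])
  have hcardV : Nat.card V = 81 := by
    rw [Module.natCard_eq_pow_finrank (K := ZMod 3), Nat.card_zmod, hV]
    norm_num
  obtain ⟨v, hv, hv0⟩ : ∃ v ∈ MulAction.fixedPoints (Subgroup.zpowers x) V, v ≠ 0 := by
    by_contra hc
    push Not at hc
    have hmod := hP.card_modEq_card_fixedPoints V
    have h1 : Nat.card (MulAction.fixedPoints (Subgroup.zpowers x) V) = 1 := by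
      rw [Nat.card_eq_one_iff_exists]
      exact ⟨⟨0, fun g => show ρ (g : G) 0 = 0 from map_zero _⟩, fun u => Subtype.ext (hc u u.2)⟩
    rw [hcardV, h1] at hmod
    exact absurd hmod (by decide)
  have := CfsgLib.TransitiveLinear.free_of_comm hρ htrans hA hxA hv0 (hv ⟨x, Subgroup.mem_zpowers x⟩)
  rw [this, orderOf_one] at hx
  omega

end Linear

/-- Subgroups of an abelian Sylow subgroup conjugate in `G` are conjugate in the normaliser. -/
theorem abelian_fusion {G : Type*} [Group G] [Finite G] {p : ℕ} [Fact p.Prime] (P : Sylow p G)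
    (hab : ∀ a ∈ (P : Subgroup G), ∀ b ∈ (P : Subgroup G), a * b = b * a)
    {A B : Subgroup G} (hA : A ≤ P) (hB : B ≤ P) {g : G} (hg : B = A.map (MulAut.conj g).toMonoidHom) :
    ∃ m ∈ Subgroup.normalizer ((P : Subgroup G) : Set G), B = A.map (MulAut.conj m).toMonoidHom := by
  set C := Subgroup.centralizer (B : Set G)
  have h1 : (P : Subgroup G) ≤ C := fun a ha b hb => hab b (hB hb) a ha
  have h2 : ((g • P : Sylow p G) : Subgroup G) ≤ C := by
    rw [Sylow.coe_subgroup_smul]
    intro a ha b hb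
    rw [Subgroup.mem_pointwise_smul_iff_inv_smul_mem] at ha
    rw [SetLike.mem_coe, hg] at hb
    obtain ⟨c, hc, rfl⟩ := hb
    have h := hab c (hA hc) _ ha
    have h' := congrArg (MulAut.conj g) h
    rw [map_mul, map_mul, ← map_inv, MulAut.smul_def] at h'
    simpa [mul_assoc] using h'
  obtain ⟨c, hc⟩ := MulAction.exists_smul_eq ↥C ((g • P).subtype h2) (P.subtype h1)
  refine ⟨(c : G) * g, ?_, ?_⟩
  · refine Sylow.smul_eq_iff_mem_normalizer.1 ?_
    rw [mul_smul]
    apply Sylow.subtype_injective (hP := ?_) (hQ := h1)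
    rw [← hc]
    exact (Sylow.smul_subtype h2 c).symm
  · rw [show (MulAut.conj ((c : G) * g)).toMonoidHom =
      (MulAut.conj (c : G)).toMonoidHom.comp (MulAut.conj g).toMonoidHom from by
        ext y; simp [mul_assoc], ← Subgroup.map_map, ← hg]
    symm
    ext y
    constructor
    · rintro ⟨b, hb, rfl⟩
      show (c : G) * b * (c : G)⁻¹ ∈ B
      rw [← c.2 b hb, mul_inv_cancel_right]
      exact hb
    · intro hy
      exact ⟨y, hy, by show (c : G) * y * (c : G)⁻¹ = y; rw [← c.2 y hy, mul_inv_cancel_right]⟩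

/-- Let p be a prime and G a finite group in which any two p-subgroups of the same order are conjugate, and suppose a Sylow p-subgroup P of G is elementary abelian of order pⁿ with n ≥ 3. Let N be the normalizer of P and K the largest normal subgroup of N of order prime to p, and assume N/K is solvable. Then either n = 3 and N/K embeds in the one-dimensional semi-affine group over the field with p³ elements (and for p = 2 it is isomorphic to the affine or the semi-affine group over the field with 8 elements), or n = 5, p = 2 and N/K is isomorphic to the one-dimensional semi-affine group over the field with 32 elements. -/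
theorem result {G : Type*} [Group G] [Finite G]
    {p : ℕ} [Fact p.Prime] (hC : ∀ H K : Subgroup G, IsPGroup p H → IsPGroup p K → Nat.card H = Nat.card K →
      ∃ g : G, K = H.map (MulAut.conj g).toMonoidHom) (P : Sylow p G) (n : ℕ) (hn : 3 ≤ n)
    (hel : Cfsg.IsElementaryAbelian p (P : Subgroup G)) (hcard : Nat.card P = p ^ n)
    (N : Subgroup G) (hN : N = Subgroup.normalizer ((P : Subgroup G) : Set G))
    (hsolv : Group.IsSolvable (↥N ⧸ Cfsg.pPrimeCore p ↥N)) :
    (n = 3 ∧ (∃ f : ↥N ⧸ Cfsg.pPrimeCore p ↥N →* ↥(Cfsg.semiaffineGroup (GaloisField p 3)), Function.Injective f) ∧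
      (p = 2 → Nonempty (↥N ⧸ Cfsg.pPrimeCore p ↥N ≃* Cfsg.semiaffineGroup (GaloisField 2 3)) ∨
               Nonempty (↥N ⧸ Cfsg.pPrimeCore p ↥N ≃* Cfsg.affineGroup (GaloisField 2 3)))) ∨
    (n = 5 ∧ p = 2 ∧ Nonempty (↥N ⧸ Cfsg.pPrimeCore p ↥N ≃* Cfsg.semiaffineGroup (GaloisField 2 5))) := by
  classical
  have hp : p.Prime := Fact.out
  subst hN
  set N := Subgroup.normalizer ((P : Subgroup G) : Set G) with hN
  have hPN : (P : Subgroup G) ≤ N := Subgroup.le_normalizer
  set P' : Subgroup ↥N := (P : Subgroup G).subgroupOf N with hP'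
  haveI : P'.Normal := Subgroup.normal_in_normalizer
  have hP'card : Nat.card P' = p ^ n := by
    rw [Nat.card_congr (Subgroup.subgroupOfEquivOfLe hPN).toEquiv]; exact hcard
  have hP'ab : ∀ a ∈ P', ∀ b ∈ P', a * b = b * a := fun a ha b hb => Subtype.ext (by
    haveI := hel.1
    have h := congrArg Subtype.val (mul_comm' (⟨(a : G), ha⟩ : ↥(P : Subgroup G)) ⟨(b : G), hb⟩)
    exact h)
  have hidx : ¬ p ∣ P'.index := fun h =>
    P.not_dvd_index (h.trans (Subgroup.relIndex_dvd_index_of_le hPN))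
  have hcop : Nat.Coprime (Nat.card P') P'.index := by
    rw [hP'card]; exact Nat.Coprime.pow_left n ((hp.coprime_iff_not_dvd).2 hidx)
  obtain ⟨H, hH⟩ := Subgroup.exists_right_complement'_of_coprime hcop
  have hHcard : Nat.card H = P'.index := (hH.symm.index_eq_card).symm
  have hHcop : (Nat.card H).Coprime p := by
    rw [hHcard]; exact ((hp.coprime_iff_not_dvd).2 hidx).symm
  have hdec : ∀ x : ↥N, ∃ u ∈ P', ∃ h ∈ H, x = u * h := fun x => by
    obtain ⟨⟨u, h⟩, e⟩ := hH.2 x
    exact ⟨u, u.2, h, h.2, e.symm⟩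
  set K := Cfsg.pPrimeCore p ↥N with hK
  have hKcop : (Nat.card K).Coprime p := CfsgLib.card_pPrimeCore_coprime p
  have hKH : K ≤ H := by
    have h1 : Nat.card ↥(K ⊔ H) ∣ Nat.card K * Nat.card H := by
      have e := Subgroup.relIndex_mul_relIndex ⊥ K (K ⊔ H) bot_le le_sup_left
      rw [Subgroup.relIndex_bot_left, Subgroup.relIndex_bot_left, sup_comm, Subgroup.relIndex_sup_right] at e
      rw [sup_comm, ← e]
      exact mul_dvd_mul_left _ (Subgroup.relIndex_dvd_card K H)
    have h2 : Nat.card ↥(K ⊔ H) ∣ Nat.card P' * Nat.card H :=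
      hH.card_mul ▸ Subgroup.card_subgroup_dvd_card _
    have h3 : (Nat.card ↥(K ⊔ H)).Coprime (Nat.card P') := by
      rw [hP'card]
      exact Nat.Coprime.pow_right n (Nat.Coprime.coprime_dvd_left h1 (Nat.Coprime.mul_left hKcop hHcop))
    have h4 := Nat.le_of_dvd Nat.card_pos (h3.dvd_of_dvd_mul_left h2)
    have h5 : H = K ⊔ H := Subgroup.eq_of_le_of_card_ge le_sup_right h4
    exact h5 ▸ le_sup_left
  have hKP : ∀ k ∈ K, ∀ u ∈ P', k * u = u * k := by
    intro k hk u hu
    have hdis : Disjoint K P' := disjoint_iff.2 (Subgroup.inf_eq_bot_of_coprime (by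
      rw [hP'card]; exact Nat.Coprime.pow_right n hKcop))
    exact Subgroup.commute_of_normal_of_disjoint K P' inferInstance inferInstance hdis k u hk hu
  -- the module
  letI : CommGroup ↥P' := { (inferInstance : Group ↥P') with
    mul_comm := fun a b => Subtype.ext (hP'ab _ a.2 _ b.2) }
  have hexp : ∀ v : Additive ↥P', p • v = 0 := fun v => by
    apply Additive.toMul.injective
    apply Subtype.ext
    apply Subtype.ext
    show ((((Additive.toMul v : ↥P') ^ p : ↥P') : ↥N) : G) = 1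
    simp only [SubgroupClass.coe_pow]
    exact hel.2 _ (Additive.toMul v).2
  obtain ⟨iM⟩ : Nonempty (Module (ZMod p) (Additive ↥P')) := ⟨AddCommGroup.zmodModule hexp⟩
  letI := iM
  haveI : Finite (Additive ↥P') := inferInstanceAs (Finite ↥P')
  haveI : Module.Finite (ZMod p) (Additive ↥P') := Module.Finite.of_finite
  have hVcard : Nat.card (Additive ↥P') = p ^ n := hP'card
  have hrank : Module.finrank (ZMod p) (Additive ↥P') = n := by
    have h : Nat.card (Additive ↥P') = Nat.card (ZMod p) ^ Module.finrank (ZMod p) (Additive ↥P') :=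
      @Module.natCard_eq_pow_finrank (ZMod p) (Additive ↥P') _ _ _ _
    rw [hVcard, Nat.card_zmod] at h
    exact (Nat.pow_right_injective hp.two_le h).symm
  haveI : Nontrivial (Additive ↥P') := by
    rw [← Finite.one_lt_card_iff_nontrivial, hVcard]
    exact Nat.one_lt_pow (by omega) hp.one_lt
  let lin : (Additive ↥P' ≃+ Additive ↥P') → (Additive ↥P' ≃ₗ[ZMod p] Additive ↥P') := fun e =>
    e.toLinearEquiv (fun c x => ZMod.map_smul e c x)
  obtain ⟨ρ₀, hρ₀⟩ : ∃ ρ₀ : ↥H →* (Additive ↥P' ≃ₗ[ZMod p] Additive ↥P'),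
      ∀ (h : ↥H) (v : Additive ↥P'), ((Additive.toMul (ρ₀ h v) : ↥P') : ↥N) =
      (h : ↥N) * ((Additive.toMul v : ↥P') : ↥N) * (h : ↥N)⁻¹ := by
    refine ⟨
    { toFun := fun h => lin (MulEquiv.toAdditive (MulAut.conjNormal (H := P') (h : ↥N)))
      map_one' := by
        apply LinearEquiv.ext; intro v
        rw [show (1 : Additive ↥P' ≃ₗ[ZMod p] Additive ↥P') v = v from rfl]
        apply Additive.toMul.injective
        apply Subtype.ext
        show ((1 : ↥H) : ↥N) * ((Additive.toMul v : ↥P') : ↥N) * ((1 : ↥H) : ↥N)⁻¹ = ((Additive.toMul v : ↥P') : ↥N)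
        simp
      map_mul' := fun a b => by
        apply LinearEquiv.ext; intro v
        rw [LinearEquiv.mul_apply]
        apply Additive.toMul.injective
        apply Subtype.ext
        show ((a * b : ↥H) : ↥N) * ((Additive.toMul v : ↥P') : ↥N) * ((a * b : ↥H) : ↥N)⁻¹ =
          (a : ↥N) * ((b : ↥N) * ((Additive.toMul v : ↥P') : ↥N) * (b : ↥N)⁻¹) * (a : ↥N)⁻¹
        simp [mul_assoc] }, fun h v => rfl⟩
  have hker : ρ₀.ker.map H.subtype = K := by
    apply le_antisymm
    · haveI : (ρ₀.ker.map H.subtype).Normal := ⟨fun z hz x => by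
        obtain ⟨h, hh, rfl⟩ := hz
        obtain ⟨u, hu, k, hk, rfl⟩ := hdec x
        refine ⟨⟨k, hk⟩ * h * ⟨k, hk⟩⁻¹, ρ₀.normal_ker.conj_mem h hh _, ?_⟩
        have hk' : k * (h : ↥N) * k⁻¹ = ((⟨k, hk⟩ * h * ⟨k, hk⟩⁻¹ : ↥H) : ↥N) := rfl
        show ((⟨k, hk⟩ * h * ⟨k, hk⟩⁻¹ : ↥H) : ↥N) = u * k * (h : ↥N) * (u * k)⁻¹
        have hmem : (⟨k, hk⟩ * h * ⟨k, hk⟩⁻¹ : ↥H) ∈ ρ₀.ker := ρ₀.normal_ker.conj_mem h hh _
        have e := hρ₀ (⟨k, hk⟩ * h * ⟨k, hk⟩⁻¹) (Additive.ofMul ⟨u, hu⟩)
        rw [MonoidHom.mem_ker.1 hmem] at e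
        set z := ((⟨k, hk⟩ * h * ⟨k, hk⟩⁻¹ : ↥H) : ↥N) with hz'
        have e2 : u = z * u * z⁻¹ := by
          rw [show (1 : Additive ↥P' ≃ₗ[ZMod p] Additive ↥P') (Additive.ofMul ⟨u, hu⟩) =
            Additive.ofMul ⟨u, hu⟩ from rfl] at e
          exact e
        have e' : u * z = z * u := eq_mul_inv_iff_mul_eq.1 e2
        rw [show u * k * (h : ↥N) * (u * k)⁻¹ = u * (k * (h : ↥N) * k⁻¹) * u⁻¹ by group, hk', e',
          mul_inv_cancel_right]⟩
      exact CfsgLib.le_pPrimeCore (Nat.Coprime.coprime_dvd_left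
        (Subgroup.card_dvd_of_le (Subgroup.map_subtype_le ρ₀.ker)) hHcop)
    · intro k hk
      refine ⟨⟨k, hKH hk⟩, MonoidHom.mem_ker.2 ?_, rfl⟩
      apply LinearEquiv.ext; intro v
      apply Additive.toMul.injective
      apply Subtype.ext
      rw [hρ₀]
      show k * ((Additive.toMul v : ↥P') : ↥N) * k⁻¹ = _
      rw [hKP k hk _ (Additive.toMul v).2, mul_inv_cancel_right]
      rfl
  set Hb := ρ₀.range with hHb
  haveI : Group.IsSolvable ↥Hb := by
    let π : ↥H →* ↥N ⧸ K := (QuotientGroup.mk' K).comp H.subtype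
    haveI : Group.IsSolvable (↥N ⧸ K) := hsolv
    haveI : Group.IsSolvable ↥π.range := inferInstance
    have hker' : π.ker = ρ₀.ker := by
      ext h
      rw [MonoidHom.mem_ker, MonoidHom.comp_apply, QuotientGroup.mk'_apply, QuotientGroup.eq_one_iff, ← hker]
      exact ⟨fun ⟨z, hz, e⟩ => Subtype.ext e ▸ hz, fun hh => ⟨h, hh, rfl⟩⟩
    let e : ↥π.range ≃* ↥ρ₀.range :=
      ((QuotientGroup.quotientKerEquivRange π).symm.trans
        ((QuotientGroup.quotientMulEquivOfEq hker').trans (QuotientGroup.quotientKerEquivRange ρ₀)))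
    exact solvable_of_surjective (f := e.toMonoidHom) e.surjective
  have hQcard : Nat.card (↥N ⧸ K) = p ^ n * Nat.card Hb := by
    have h1 : Nat.card (↥N ⧸ K) * Nat.card K = p ^ n * Nat.card H := by
      rw [← Subgroup.card_eq_card_quotient_mul_card_subgroup, ← hH.card_mul, hP'card]
    have h2 : Nat.card H = Nat.card Hb * Nat.card K := by
      rw [hHb, ← Nat.card_congr (QuotientGroup.quotientKerEquivRange ρ₀).toEquiv, ← hker,
        Nat.card_congr (ρ₀.ker.equivMapOfInjective H.subtype Subtype.val_injective).toEquiv.symm]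
      exact Subgroup.card_eq_card_quotient_mul_card_subgroup _
    rw [h2, ← mul_assoc] at h1
    exact Nat.eq_of_mul_eq_mul_right Nat.card_pos h1
  -- transitivity on subgroups
  have htransU : ∀ U U' : Subgroup ↥P', Nat.card U = Nat.card U' →
      ∃ h : ↥H, ∀ u ∈ U, ∀ hv : (h : ↥N) * (u : ↥N) * (h : ↥N)⁻¹ ∈ P', (⟨_, hv⟩ : ↥P') ∈ U' := by
    intro U U' hUU
    let ι : ↥P' →* G := N.subtype.comp P'.subtype
    have hι : Function.Injective ι := Subtype.val_injective.comp Subtype.val_injective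
    have hle : ∀ W : Subgroup ↥P', W.map ι ≤ P := by
      rintro W _ ⟨w, -, rfl⟩; exact w.2
    have hc : Nat.card ↥(U.map ι) = Nat.card ↥(U'.map ι) := by
      rw [← Nat.card_congr (U.equivMapOfInjective ι hι).toEquiv,
        ← Nat.card_congr (U'.equivMapOfInjective ι hι).toEquiv, hUU]
    obtain ⟨g, hg⟩ := hC _ _ (P.2.to_le (hle U)) (P.2.to_le (hle U')) hc
    obtain ⟨m, hm, hm'⟩ := abelian_fusion P (fun a ha b hb =>
      congrArg Subtype.val (hP'ab ⟨a, hPN ha⟩ ha ⟨b, hPN hb⟩ hb)) (hle U) (hle U') hg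
    obtain ⟨u₀, hu₀, h, hh, e⟩ := hdec ⟨m, hm⟩
    refine ⟨⟨h, hh⟩, fun u hu hv => ?_⟩
    have h1 : m * ((u : ↥N) : G) * m⁻¹ ∈ U'.map ι := hm'.symm ▸ ⟨_, ⟨u, hu, rfl⟩, rfl⟩
    obtain ⟨w, hw, hwe⟩ := h1
    have h2 : (⟨m, hm⟩ : ↥N) * (u : ↥N) * (⟨m, hm⟩ : ↥N)⁻¹ = h * (u : ↥N) * h⁻¹ := by
      rw [e, show u₀ * h * (u : ↥N) * (u₀ * h)⁻¹ = u₀ * (h * (u : ↥N) * h⁻¹) * u₀⁻¹ by group,
        hP'ab u₀ hu₀ _ hv, mul_inv_cancel_right]
    have h3 : w = ⟨h * (u : ↥N) * h⁻¹, hv⟩ := by
      apply Subtype.ext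
      show (w : ↥N) = h * (u : ↥N) * h⁻¹
      rw [← h2]
      exact Subtype.ext hwe
    exact h3 ▸ hw
  have htrW : ∀ W W' : Submodule (ZMod p) (Additive ↥P'), Nat.card W = Nat.card W' →
      ∃ h : ↥H, W.map (ρ₀ h).toLinearMap = W' := by
    intro W W' hWW
    obtain ⟨h, hh⟩ := htransU W.toAddSubgroup.toSubgroup' W'.toAddSubgroup.toSubgroup' hWW
    refine ⟨h, SetLike.coe_injective (Set.eq_of_subset_of_ncard_le ?_ ?_ (Set.toFinite _))⟩
    · rintro _ ⟨v, hv, rfl⟩
      have hm : (h : ↥N) * ((Additive.toMul v : ↥P') : ↥N) * (h : ↥N)⁻¹ ∈ P' := hρ₀ h v ▸ (Additive.toMul (ρ₀ h v)).2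
      have h1 := hh (Additive.toMul v) hv hm
      have h2 : Additive.toMul (ρ₀ h v) = ⟨_, hm⟩ := Subtype.ext (hρ₀ h v)
      rw [← h2] at h1
      exact h1
    · rw [← Nat.card_coe_set_eq, ← Nat.card_coe_set_eq]
      show Nat.card W' ≤ Nat.card ↥(W.map (ρ₀ h).toLinearMap)
      rw [← Nat.card_congr ((ρ₀ h).submoduleMap W).toEquiv, hWW]
  -- adjoin the scalars
  let sc : (ZMod p)ˣ →* (Additive ↥P' ≃ₗ[ZMod p] Additive ↥P') :=
    DistribMulAction.toModuleAut (ZMod p) (Additive ↥P')
  have hsc : ∀ (c : (ZMod p)ˣ) v, sc c v = (c : ZMod p) • v := fun c v => rfl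
  have hcomm : ∀ (h : ↥H) (c : (ZMod p)ˣ), Commute (ρ₀ h) (sc c) := fun h c =>
    LinearEquiv.ext fun v => by
      rw [LinearEquiv.mul_apply, LinearEquiv.mul_apply, hsc, hsc, map_smul]
  let ρ' : ↥Hb × (ZMod p)ˣ →* (Additive ↥P' ≃ₗ[ZMod p] Additive ↥P') :=
    MonoidHom.noncommCoprod Hb.subtype sc (fun a c => by
      obtain ⟨h, hh⟩ := a.2
      show Commute (a : Additive ↥P' ≃ₗ[ZMod p] Additive ↥P') (sc c)
      rw [← hh]; exact hcomm h c)
  set G' := ρ'.range with hG'
  haveI : Finite ↥H := inferInstance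
  haveI : Finite ↥Hb := Finite.of_surjective _ ρ₀.rangeRestrict_surjective
  haveI : Finite ↥G' := Finite.of_surjective _ ρ'.rangeRestrict_surjective
  haveI : Group.IsSolvable ↥G' := solvable_of_surjective ρ'.rangeRestrict_surjective
  have hρ' : ∀ (a : ↥Hb) c, ρ' (a, c) = (a : Additive ↥P' ≃ₗ[ZMod p] Additive ↥P') * sc c := fun a c => rfl
  have hmem0 : ∀ h : ↥H, ρ₀ h ∈ G' := fun h =>
    ⟨(⟨ρ₀ h, h, rfl⟩, 1), by rw [hρ', map_one, mul_one]⟩
  have hmemc : ∀ c : (ZMod p)ˣ, sc c ∈ G' := fun c => ⟨(1, c), by rw [hρ', Subgroup.coe_one, one_mul]⟩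
  have htrans : ∀ v w : Additive ↥P', v ≠ 0 → w ≠ 0 → ∃ g : ↥G', G'.subtype g v = w := by
    intro v w hv hw
    have hline : ∀ x : Additive ↥P', x ≠ 0 → Nat.card ↥(Submodule.span (ZMod p) {x}) = p := fun x hx => by
      rw [Module.natCard_eq_pow_finrank (K := ZMod p), finrank_span_singleton hx, Nat.card_zmod, pow_one]
    obtain ⟨h, hh⟩ := htrW _ _ ((hline v hv).trans (hline w hw).symm)
    have hmem : ρ₀ h v ∈ Submodule.span (ZMod p) {w} :=
      hh ▸ Submodule.mem_map_of_mem (Submodule.mem_span_singleton_self v)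
    obtain ⟨c, hc⟩ := Submodule.mem_span_singleton.1 hmem
    have hc0 : c ≠ 0 := by
      rintro rfl
      rw [zero_smul] at hc
      exact hv ((LinearEquiv.map_eq_zero_iff _).1 hc.symm)
    refine ⟨⟨sc (Units.mk0 c hc0)⁻¹ * ρ₀ h, mul_mem (hmemc _) (hmem0 h)⟩, ?_⟩
    show sc (Units.mk0 c hc0)⁻¹ (ρ₀ h v) = w
    rw [← hc, hsc, smul_smul, Units.val_inv_eq_inv_val, Units.val_mk0, inv_mul_cancel₀ hc0, one_smul]
  have hinj : Function.Injective G'.subtype := Subtype.val_injective
  let Z : Subgroup ↥G' := sc.range.subgroupOf G'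
  have hsc_inj : Function.Injective sc := by
    intro a b hab
    obtain ⟨v, hv⟩ := exists_ne (0 : Additive ↥P')
    have h := LinearEquiv.congr_fun hab v
    rw [hsc, hsc] at h
    exact Units.ext (smul_left_injective _ hv h)
  have hscle : sc.range ≤ G' := by rintro _ ⟨c, rfl⟩; exact hmemc c
  have hZcard : Nat.card Z = p - 1 := by
    rw [Nat.card_congr (Subgroup.subgroupOfEquivOfLe hscle).toEquiv,
      ← Nat.card_congr (MonoidHom.ofInjective hsc_inj).toEquiv, Nat.card_units, Nat.card_zmod]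
  have hpairs : (p ^ n - 1) * (p ^ n - p) * (p - 1) ∣ Nat.card ↥G' * ((p ^ 2 - 1) * (p ^ 2 - p)) := by
    refine pairs_dvd hinj (by omega) hrank Z hZcard ?_ ?_
    · rintro z ⟨c, hc⟩
      exact ⟨c, fun v => by rw [← hsc]; exact (LinearEquiv.congr_fun hc v).symm⟩
    · intro W W' hW hW'
      obtain ⟨h, hh⟩ := htrW W W' (by
        rw [Module.natCard_eq_pow_finrank (K := ZMod p) (V := ↥W), hW,
          Module.natCard_eq_pow_finrank (K := ZMod p) (V := ↥W'), hW'])
      exact ⟨⟨ρ₀ h, hmem0 h⟩, hh⟩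
  have hpn : p ≤ p ^ n := Nat.le_self_pow (by omega) p
  -- semilinearity
  have hsemi : CfsgLib.RegularLinear.Semi G'.subtype := by
    rcases CfsgLib.TransitiveLinear.semi_or_81 hinj htrans (by rw [hrank]; exact hn) with h | h
    · exact h
    exfalso
    rw [hVcard] at h
    have hp3 : p = 3 := by
      have h' : p ∣ 3 ^ 4 := by rw [show (3 : ℕ) ^ 4 = p ^ n by rw [h]; norm_num]; exact dvd_pow_self p (by omega)
      exact (Nat.prime_dvd_prime_iff_eq hp Nat.prime_three).1 (hp.dvd_of_dvd_pow h')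
    subst hp3
    have hn4 : n = 4 := Nat.pow_right_injective (le_of_lt (by norm_num : (2 : ℕ) < 3))
      (h.trans (by norm_num))
    subst hn4
    refine no_thirteen hinj htrans rfl hrank ?_
    norm_num at hpairs
    have h13 : 13 ∣ Nat.card ↥G' * 48 := dvd_trans (by norm_num) hpairs
    exact (Nat.Coprime.dvd_mul_right (by norm_num : Nat.Coprime 13 48)).1 h13
  have hG'dvd : Nat.card ↥G' ∣ (p ^ n - 1) * n := card_dvd_of_semi hinj hsemi hVcard
  have hkey : p ^ (n - 1) - 1 ∣ n * (p ^ 2 - 1) := by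
    obtain ⟨d, hd⟩ := hpairs
    obtain ⟨e, he⟩ := hG'dvd
    have hpn1 : p ^ n - p = p * (p ^ (n - 1) - 1) := by
      rw [Nat.mul_sub, mul_one, ← pow_succ', show n - 1 + 1 = n by omega]
    have hp2 : p ^ 2 - p = p * (p - 1) := by rw [Nat.mul_sub, mul_one, pow_two]
    refine ⟨d * e, ?_⟩
    have hpos1 : 0 < (p ^ n - 1) * p * (p - 1) := by
      have h1 : 1 < p ^ n := Nat.one_lt_pow (by omega) hp.one_lt
      have := hp.two_le
      exact Nat.mul_pos (Nat.mul_pos (by omega) hp.pos) (by omega)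
    apply Nat.eq_of_mul_eq_mul_left hpos1
    calc (p ^ n - 1) * p * (p - 1) * (n * (p ^ 2 - 1))
        = ((p ^ n - 1) * n) * ((p ^ 2 - 1) * (p ^ 2 - p)) := by rw [hp2]; ring
      _ = (Nat.card ↥G' * ((p ^ 2 - 1) * (p ^ 2 - p))) * e := by rw [he]; ring
      _ = (p ^ n - 1) * p * (p - 1) * ((p ^ (n - 1) - 1) * (d * e)) := by rw [hd, hpn1]; ring
  have hcases : n = 3 ∨ (n = 5 ∧ p = 2) := by
    have h2 := hp.two_le
    have hnpos : 0 < n * (p ^ 2 - 1) := by
      have : 4 ≤ p ^ 2 := by nlinarith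
      exact Nat.mul_pos (by omega) (by omega)
    have hle := Nat.le_of_dvd hnpos hkey
    by_cases h3 : n = 3
    · exact Or.inl h3
    by_cases h4 : n = 4
    · subst h4
      exfalso
      have h1 : p ^ 3 - 1 = (p - 1) * (p * p + p + 1) := by
        zify [Nat.one_le_pow 3 p hp.pos, hp.pos]
        push_cast [Nat.cast_sub (show 1 ≤ p by omega)]
        ring
      have h1' : p ^ 2 - 1 = (p - 1) * (p + 1) := by rw [mul_comm, ← Nat.sq_sub_sq, one_pow]
      rw [show 4 - 1 = 3 from rfl, h1, h1', show 4 * ((p - 1) * (p + 1)) = (p - 1) * (4 * (p + 1)) by ring] at hkey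
      have hd := Nat.dvd_of_mul_dvd_mul_left (by omega) hkey
      rcases Nat.lt_or_ge p 4 with hp4 | hp4
      · have hp23 : p = 2 ∨ p = 3 := by omega
        rcases hp23 with rfl | rfl <;> norm_num at hd
      · have := Nat.le_of_dvd (by omega) hd
        nlinarith
    right
    have h5 : 5 ≤ n := by omega
    by_cases h55 : n = 5
    · subst h55
      refine ⟨rfl, ?_⟩
      have h1 : p ^ 4 - 1 = (p ^ 2 - 1) * (p ^ 2 + 1) := by
        rw [show p ^ 4 = (p ^ 2) ^ 2 by ring, show (1 : ℕ) = 1 ^ 2 from rfl, Nat.sq_sub_sq]; ring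
      rw [show 5 - 1 = 4 from rfl, h1, mul_comm 5] at hkey
      have hd := Nat.dvd_of_mul_dvd_mul_left (Nat.pos_of_ne_zero (by
        have : 4 ≤ p ^ 2 := by nlinarith
        omega)) hkey
      have := Nat.le_of_dvd (by norm_num) hd
      nlinarith
    exfalso
    have hgrow : ∀ m, 6 ≤ m → m * (p ^ 2) + 1 < p ^ (m - 1) := by
      intro m hm
      induction m, hm using Nat.le_induction with
      | base =>
        show 6 * p ^ 2 + 1 < p ^ 5
        have : 8 ≤ p ^ 3 := by nlinarith [Nat.pow_le_pow_left h2 3]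
        have h22 : 4 ≤ p ^ 2 := by nlinarith
        calc 6 * p ^ 2 + 1 < 8 * p ^ 2 := by omega
          _ ≤ p ^ 3 * p ^ 2 := Nat.mul_le_mul_right _ this
          _ = p ^ 5 := by ring
      | succ m hm ih =>
        rw [show m + 1 - 1 = (m - 1) + 1 by omega, pow_succ]
        have h22 : 4 ≤ p ^ 2 := by nlinarith
        calc (m + 1) * p ^ 2 + 1 ≤ 2 * (m * p ^ 2 + 1) := by nlinarith
          _ < 2 * p ^ (m - 1) := by omega
          _ ≤ p ^ (m - 1) * p := by rw [mul_comm]; exact Nat.mul_le_mul_left _ h2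
    have h6 := hgrow n (by omega)
    have : n * (p ^ 2 - 1) ≤ n * p ^ 2 := Nat.mul_le_mul_left _ (Nat.sub_le _ _)
    omega
  -- the affine action on the cosets of `H`
  obtain ⟨F, iF, iF', e, he⟩ := hsemi
  have hFcard : Nat.card F = p ^ n := by rw [← hVcard]; exact (Nat.card_congr e.toEquiv).symm
  haveI : Fact (p ^ n).Prime → True := fun _ => trivial
  let β : Additive ↥P' → ↥N ⧸ H := fun v => QuotientGroup.mk ((Additive.toMul v : ↥P') : ↥N)
  have hβ : Function.Bijective β := by
    constructor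
    · intro a b hab
      apply Additive.toMul.injective
      apply Subtype.ext
      have h1 := QuotientGroup.eq.1 hab
      have h2 : ((Additive.toMul a : ↥P') : ↥N)⁻¹ * ((Additive.toMul b : ↥P') : ↥N) ∈ P' ⊓ H :=
        ⟨P'.mul_mem (P'.inv_mem (Additive.toMul a).2) (Additive.toMul b).2, h1⟩
      rw [hH.disjoint.eq_bot, Subgroup.mem_bot] at h2
      exact inv_mul_eq_one.1 h2
    · intro c
      induction c using QuotientGroup.induction_on with
      | H x =>
        obtain ⟨u, hu, h, hh, rfl⟩ := hdec x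
        exact ⟨Additive.ofMul ⟨u, hu⟩, QuotientGroup.eq.2 (by
          show u⁻¹ * (u * h) ∈ H
          rw [inv_mul_cancel_left]; exact hh)⟩
  let E : ↥N ⧸ H ≃ F := (Equiv.ofBijective β hβ).symm.trans e.toEquiv
  let f : ↥N →* Equiv.Perm F := E.permCongrHom.toMonoidHom.comp (MulAction.toPermHom ↥N (↥N ⧸ H))
  have hform : ∀ x : ↥N, ∃ (a : Fˣ) (b : F) (σ : F ≃+* F) (h : ↥H),
      (∀ y : F, f x y = (a : F) * σ y + b) ∧ ∀ v, e (ρ₀ h v) = (a : F) * σ (e v) := by
    intro x
    obtain ⟨u, hu, h, hh, rfl⟩ := hdec x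
    obtain ⟨a, σ, hσ⟩ := he ⟨ρ₀ ⟨h, hh⟩, hmem0 _⟩
    have ha : a ≠ 0 := by
      rintro rfl
      have h1 := hσ (e.symm 1)
      rw [zero_mul, AddEquiv.map_eq_zero_iff, LinearEquiv.map_eq_zero_iff, AddEquiv.map_eq_zero_iff] at h1
      exact one_ne_zero h1
    refine ⟨Units.mk0 a ha, e (Additive.ofMul ⟨u, hu⟩), σ, ⟨h, hh⟩, fun y => ?_, fun v => hσ v⟩
    obtain ⟨v, rfl⟩ := e.surjective y
    show E ((u * h) • E.symm (e v)) = a * σ (e v) + e (Additive.ofMul ⟨u, hu⟩)
    have hEsymm : E.symm (e v) = β v := by simp [E]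
    rw [hEsymm]
    have hstep : (u * h) • β v = β (ρ₀ ⟨h, hh⟩ v + Additive.ofMul ⟨u, hu⟩) := by
      show (QuotientGroup.mk (u * h * ((Additive.toMul v : ↥P') : ↥N)) : ↥N ⧸ H) = QuotientGroup.mk _
      refine QuotientGroup.eq.2 ?_
      rw [toMul_add, Subgroup.coe_mul, hρ₀]
      show (u * h * ((Additive.toMul v : ↥P') : ↥N))⁻¹ *
        ((h * ((Additive.toMul v : ↥P') : ↥N) * h⁻¹) * u) ∈ H
      rw [hP'ab (h * ((Additive.toMul v : ↥P') : ↥N) * h⁻¹)
        ((inferInstance : P'.Normal).conj_mem _ (Additive.toMul v).2 h) u hu]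
      have : (u * h * ((Additive.toMul v : ↥P') : ↥N))⁻¹ *
          (u * (h * ((Additive.toMul v : ↥P') : ↥N) * h⁻¹)) = h⁻¹ := by group
      rw [this]; exact inv_mem hh
    rw [hstep]
    show e ((Equiv.ofBijective β hβ).symm (β _)) = _
    rw [Equiv.ofBijective_symm_apply_apply, map_add]
    congr 1
    exact hσ v
  have hfmem : ∀ x, f x ∈ Cfsg.semiaffineGroup F := fun x => by
    obtain ⟨a, b, σ, h, h1, -⟩ := hform x
    exact ⟨a, b, σ, h1⟩
  have hfker : f.ker = K := by
    have h1 : f.ker = H.normalCore := by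
      rw [Subgroup.normalCore_eq_ker]
      ext x
      simp only [MonoidHom.mem_ker, f, MonoidHom.comp_apply]
      exact MulEquiv.map_eq_one_iff _
    rw [h1]
    exact le_antisymm (CfsgLib.le_pPrimeCore (N := H.normalCore) (Nat.Coprime.coprime_dvd_left
      (Subgroup.card_dvd_of_le (Subgroup.normalCore_le H)) hHcop)) (Subgroup.normal_le_normalCore.2 hKH)
  have hlift : ∀ (m : ℕ) (_ : m = n) (A : Subgroup (Equiv.Perm (GaloisField p m))) (i : F ≃+* GaloisField p m),
      (∀ x, i.toEquiv.permCongr (f x) ∈ A) →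
      ∃ Φ : ↥N ⧸ K →* ↥A, Function.Injective Φ := by
    intro m hm A i hi
    let g : ↥N →* ↥A := (i.toEquiv.permCongrHom.toMonoidHom.comp f).codRestrict A hi
    have hg : g.ker = K := by
      rw [← hfker]
      ext x
      show g x = 1 ↔ f x = 1
      rw [Subtype.ext_iff]
      exact MulEquiv.map_eq_one_iff i.toEquiv.permCongrHom
    exact ⟨(QuotientGroup.kerLift g).comp (QuotientGroup.quotientMulEquivOfEq hg.symm).toMonoidHom,
      (QuotientGroup.kerLift_injective g).comp (MulEquiv.injective _)⟩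
  haveI : Fintype F := iF'
  have hiso : ∀ m, m = n → 0 < m → Nonempty (F ≃+* GaloisField p m) := by
    intro m hm hm0
    haveI : Fintype (GaloisField p m) := Fintype.ofFinite _
    refine ⟨FiniteField.ringEquivOfCardEq ?_⟩
    rw [← Nat.card_eq_fintype_card, ← Nat.card_eq_fintype_card, hFcard, GaloisField.card p m (by omega), hm]
  have hbij : ∀ (m : ℕ) (A : Subgroup (Equiv.Perm (GaloisField p m))) (Φ : ↥N ⧸ K →* ↥A),
      Function.Injective Φ → Nat.card ↥A ≤ Nat.card (↥N ⧸ K) → Nonempty (↥N ⧸ K ≃* ↥A) := by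
    intro m A Φ hΦ hle
    haveI : Fintype (GaloisField p m) := Fintype.ofFinite _
    exact ⟨MulEquiv.ofBijective Φ
      ((Nat.bijective_iff_injective_and_card Φ).2 ⟨hΦ, le_antisymm (Nat.card_le_card_of_injective _ hΦ) hle⟩)⟩
  have hHbG' : Hb ≤ G' := by rintro _ ⟨h, rfl⟩; exact hmem0 h
  have hG'eq : p = 2 → Nat.card ↥Hb = Nat.card ↥G' := by
    intro h2
    subst h2
    have : G' = Hb := le_antisymm (by
      rintro _ ⟨⟨a, c⟩, rfl⟩
      rw [hρ', show c = 1 from Units.ext (by
        have hc := c.ne_zero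
        revert hc
        rw [Units.val_one]
        generalize (c : ZMod 2) = d
        fin_cases d <;> first | exact fun h => absurd rfl h | exact fun _ => rfl), map_one, mul_one]
      exact a.2) hHbG'
    rw [this]
  rcases hcases with rfl | ⟨rfl, rfl⟩
  · left
    obtain ⟨i⟩ := hiso 3 rfl (by norm_num)
    obtain ⟨Φ, hΦ⟩ := hlift 3 rfl _ i (fun x => semiaffine_transport i (hfmem x))
    refine ⟨rfl, ⟨Φ, hΦ⟩, ?_⟩
    intro h2
    subst h2
    have hQ := hQcard
    rw [hG'eq rfl] at hQ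
    have hdvd21 : Nat.card ↥G' ∣ 21 := by simpa using hG'dvd
    have h7 : 7 ∣ Nat.card ↥G' := by
      have := CfsgLib.TransitiveLinear.sub_one_dvd_card hinj htrans
      rwa [hrank] at this
    have h7or : Nat.card ↥G' = 7 ∨ Nat.card ↥G' = 21 := by
      have := Nat.le_of_dvd (by norm_num) hdvd21
      obtain ⟨k, hk⟩ := h7
      have hk3 : k ≤ 3 := by omega
      rw [hk] at hdvd21
      interval_cases k
      · simp at hk
        exact absurd hk Nat.card_pos.ne'
      · exact Or.inl hk
      · norm_num at hdvd21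
      · exact Or.inr hk
    rcases h7or with h | h
    · right
      have haff : ∀ x, f x ∈ Cfsg.affineGroup F := by
        intro x
        obtain ⟨a, b, σ, k, hf1, hk⟩ := hform x
        suffices hσ : σ = RingEquiv.refl F by
          exact ⟨a, b, fun y => by rw [hf1, hσ]; rfl⟩
        have hpow : ∀ j : ℕ, ∃ c : F, ∀ v, e ((ρ₀ k ^ j) v) = c * (σ^[j]) (e v) := by
          intro j
          induction j with
          | zero => exact ⟨1, fun v => by simp⟩
          | succ j ih =>
            obtain ⟨c, hc⟩ := ih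
            refine ⟨(a : F) * σ c, fun v => ?_⟩
            rw [pow_succ', LinearEquiv.mul_apply, hk, hc, map_mul, Function.iterate_succ_apply', mul_assoc]
        obtain ⟨c, hc⟩ := hpow 7
        have h7' : ρ₀ k ^ 7 = 1 := by
          have hg : (⟨ρ₀ k, hmem0 k⟩ : ↥G') ^ 7 = 1 := h ▸ pow_card_eq_one'
          exact congrArg Subtype.val hg
        have hc1 : c = 1 := by
          have h1 := hc (e.symm 1)
          rw [h7', LinearEquiv.coe_one, id_eq, AddEquiv.apply_symm_apply, iterate_map_one, mul_one] at h1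
          exact h1.symm
        have hid : ∀ y, (σ^[7]) y = y := fun y => by
          obtain ⟨v, rfl⟩ := e.surjective y
          have h1 := hc v
          rw [h7', LinearEquiv.coe_one, id_eq, hc1, one_mul] at h1
          exact h1.symm
        haveI : Finite F := inferInstance
        haveI : CharP F 2 := by
          obtain ⟨j⟩ := hiso 3 rfl (by norm_num)
          exact charP_of_injective_ringHom (f := (j.symm : GaloisField 2 3 →+* F)) j.symm.injective 2
        have h3 : Nat.card (RingAut F) = 3 := (CfsgLib.Chev.ringAut_cyclic_card 2 hFcard).2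
        have hpw : ∀ (τ : RingAut F) (j : ℕ) (y : F), (τ ^ j) y = ((τ : F → F)^[j]) y := by
          intro τ j
          induction j with
          | zero => intro y; rfl
          | succ j ih => intro y; rw [pow_succ', RingAut.mul_apply, ih, Function.iterate_succ_apply']
        have h31 : (σ : RingAut F) ^ 3 = 1 := h3 ▸ pow_card_eq_one'
        apply RingEquiv.ext
        intro y
        have h71 : (σ : RingAut F) ^ 7 = 1 := RingEquiv.ext fun z => by rw [hpw]; exact hid z
        have : (σ : RingAut F) = 1 := by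
          have e7 : (σ : RingAut F) ^ 7 = ((σ : RingAut F) ^ 3) ^ 2 * σ := by group
          rw [h71, h31, one_pow, one_mul] at e7
          exact e7.symm
        rw [this]
        rfl
      obtain ⟨Φ', hΦ'⟩ := hlift 3 rfl _ i (fun x => affine_transport i (haff x))
      refine hbij 3 _ Φ' hΦ' ?_
      haveI : Fintype (GaloisField 2 3) := Fintype.ofFinite _
      have := card_affine_le (F := GaloisField 2 3) 2 3 (GaloisField.card 2 3 (by norm_num))
      rw [hQ, h]
      norm_num at this ⊢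
      exact this
    · left
      refine hbij 3 _ Φ hΦ ?_
      haveI : Fintype (GaloisField 2 3) := Fintype.ofFinite _
      have := card_semiaffine_le (F := GaloisField 2 3) 2 3 (GaloisField.card 2 3 (by norm_num))
      rw [hQ, h]
      norm_num at this ⊢
      exact this
  · right
    refine ⟨rfl, rfl, ?_⟩
    obtain ⟨i⟩ := hiso 5 rfl (by norm_num)
    obtain ⟨Φ, hΦ⟩ := hlift 5 rfl _ i (fun x => semiaffine_transport i (hfmem x))
    refine hbij 5 _ Φ hΦ ?_
    haveI : Fintype (GaloisField 2 5) := Fintype.ofFinite _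
    have hs := card_semiaffine_le (F := GaloisField 2 5) 2 5 (GaloisField.card 2 5 (by norm_num))
    rw [hQcard, hG'eq rfl]
    norm_num at hpairs hs ⊢
    have h155 : 155 ∣ Nat.card ↥G' := by
      obtain ⟨d, hd⟩ := hpairs
      exact ⟨d, by omega⟩
    have := Nat.le_of_dvd Nat.card_pos h155
    omega

end Cfsg.Agent.S4025
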