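import Cfsg.Statements.S3378
import Mathlib
import Cfsg.Agent.Lib.Triangle235
import Cfsg.Agent.Lib.SLCard
import Cfsg.Agent.Lib.StSL.Presentation
import Cfsg.Agent.Lib.SmallSimple.EightSubgroups
import Cfsg.Agent.S0494

set_option autoImplicit false
open Cfsg

namespace Cfsg.Agent.S3378

def x5 : alternatingGroup (Fin 5) := ⟨Equiv.swap 0 1 * Equiv.swap 1 2, Equiv.Perm.mem_alternatingGroup.2 (by decide +kernel)⟩

def y5 : alternatingGroup (Fin 5) :=
  ⟨(finRotate 5) ^ 2, Equiv.Perm.mem_alternatingGroup.2 (by decide +kernel)⟩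

theorem rel5 : x5 ^ 3 = 1 ∧ x5 ≠ 1 ∧ y5 ^ 5 = 1 ∧ y5 ≠ 1 ∧ (x5 * y5) ^ 2 = 1 ∧ x5 * y5 ≠ 1 := by decide +kernel

theorem card_alt5 : Nat.card (alternatingGroup (Fin 5)) = 60 := by
  rw [nat_card_alternatingGroup, Nat.card_fin]; rfl

theorem gen5 (T : Subgroup (alternatingGroup (Fin 5))) (hx : x5 ∈ T) (hy : y5 ∈ T) : T = ⊤ := by
  obtain ⟨hx3, hx1, hy5, hy1, hxy2, hxy1⟩ := rel5
  haveI := Fact.mk Nat.prime_two; haveI := Fact.mk Nat.prime_three; haveI := Fact.mk (show Nat.Prime 5 by norm_num)
  have d3 : 3 ∣ Nat.card T := by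
    have h := Subgroup.card_dvd_of_le (Subgroup.zpowers_le.2 hx)
    rwa [Nat.card_zpowers, orderOf_eq_prime hx3 hx1] at h
  have d5 : 5 ∣ Nat.card T := by
    have h := Subgroup.card_dvd_of_le (Subgroup.zpowers_le.2 hy)
    rwa [Nat.card_zpowers, orderOf_eq_prime hy5 hy1] at h
  have d2 : 2 ∣ Nat.card T := by
    have h := Subgroup.card_dvd_of_le (Subgroup.zpowers_le.2 (mul_mem hx hy))
    rwa [Nat.card_zpowers, orderOf_eq_prime hxy2 hxy1] at h
  have h30 : 30 ∣ Nat.card T :=
    Nat.Coprime.mul_dvd_of_dvd_of_dvd (show Nat.Coprime (2 * 3) 5 by norm_num)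
      (Nat.Coprime.mul_dvd_of_dvd_of_dvd (by norm_num) d2 d3) d5
  have hmul := T.card_mul_index
  rw [card_alt5] at hmul
  have hle : T.index ≤ 2 := by
    have h1 := Nat.le_of_dvd Nat.card_pos h30
    nlinarith
  rcases Nat.lt_or_ge T.index 2 with h | h
  · have : T.index = 1 := by have := Subgroup.index_ne_zero_of_finite (H := T); omega
    exact Subgroup.index_eq_one.1 this
  · exfalso
    haveI := Subgroup.normal_of_index_eq_two (H := T) (le_antisymm hle h)
    haveI : IsSimpleGroup (alternatingGroup (Fin 5)) := alternatingGroup.isSimpleGroup_five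
    rcases IsSimpleGroup.eq_bot_or_eq_top_of_normal T inferInstance with h' | h'
    · rw [h', Subgroup.card_bot] at h30; norm_num at h30
    · rw [h', Subgroup.index_top] at h; omega

open Matrix in
def xs : Matrix.SpecialLinearGroup (Fin 2) (ZMod 5) := ⟨!![0, 4; 1, 4], by decide⟩

open Matrix in
def ys : Matrix.SpecialLinearGroup (Fin 2) (ZMod 5) := ⟨!![0, 1; 4, 2], by decide⟩

open Matrix in
def zs : Matrix.SpecialLinearGroup (Fin 2) (ZMod 5) := ⟨!![4, 0; 0, 4], by decide⟩

theorem rels_sl : xs ^ 3 = 1 ∧ xs ≠ 1 ∧ ys ^ 5 = 1 ∧ ys ≠ 1 ∧ zs ^ 2 = 1 ∧ zs ≠ 1 ∧ (xs * ys) ^ 2 = zs ∧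
    zs * xs = xs * zs ∧ zs * ys = ys * zs := by decide +kernel

theorem card_sl25 : Nat.card (Matrix.SpecialLinearGroup (Fin 2) (ZMod 5)) = 120 := by
  haveI := Fact.mk (show Nat.Prime 5 by norm_num)
  rw [CfsgLib.SLCard.card_SL_two, ZMod.card]
  rfl

theorem five_tv : ∀ (t : ZMod 5) (i j : Fin 2) (h : i ≠ j),
    (Matrix.SpecialLinearGroup.transvection h t) ^ 5 = 1 := by decide +kernel

theorem gen_sl (T : Subgroup (Matrix.SpecialLinearGroup (Fin 2) (ZMod 5))) (hx : xs ∈ T) (hy : ys ∈ T) : T = ⊤ := by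
  obtain ⟨hx3, hx1, hy5, hy1, hz2, hz1, hxy, -, -⟩ := rels_sl
  haveI := Fact.mk Nat.prime_two; haveI := Fact.mk Nat.prime_three; haveI := Fact.mk (show Nat.Prime 5 by norm_num)
  have d3 : 3 ∣ Nat.card T := by
    have h := Subgroup.card_dvd_of_le (Subgroup.zpowers_le.2 hx)
    rwa [Nat.card_zpowers, orderOf_eq_prime hx3 hx1] at h
  have d5 : 5 ∣ Nat.card T := by
    have h := Subgroup.card_dvd_of_le (Subgroup.zpowers_le.2 hy)
    rwa [Nat.card_zpowers, orderOf_eq_prime hy5 hy1] at h
  have d4 : 4 ∣ Nat.card T := by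
    have h := Subgroup.card_dvd_of_le (Subgroup.zpowers_le.2 (mul_mem hx hy))
    have ho : orderOf (xs * ys) = 2 ^ 2 := orderOf_eq_prime_pow (by rw [pow_one, hxy]; exact hz1)
      (by rw [show 2 ^ (1 + 1) = 2 * 2 by norm_num, pow_mul, hxy, hz2])
    rwa [Nat.card_zpowers, ho] at h
  have h60 : 60 ∣ Nat.card T :=
    Nat.Coprime.mul_dvd_of_dvd_of_dvd (show Nat.Coprime (4 * 3) 5 by norm_num)
      (Nat.Coprime.mul_dvd_of_dvd_of_dvd (by norm_num) d4 d3) d5
  have hmul := T.card_mul_index
  rw [card_sl25] at hmul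
  have hle : T.index ≤ 2 := by
    have h1 := Nat.le_of_dvd Nat.card_pos h60
    nlinarith
  rcases Nat.lt_or_ge T.index 2 with h | h
  · have : T.index = 1 := by have := Subgroup.index_ne_zero_of_finite (H := T); omega
    exact Subgroup.index_eq_one.1 this
  · -- a subgroup of index two contains the elements of order five, hence the transvections
    have h2 := le_antisymm hle h
    haveI := Subgroup.normal_of_index_eq_two h2
    rw [eq_top_iff, ← CfsgLib.StSL.closure_transvection_eq_top (K := ZMod 5) (n := 2) le_rfl, Subgroup.closure_le]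
    rintro A ⟨i, j, hij, t, rfl⟩
    have h5 := five_tv t i j hij
    refine (QuotientGroup.eq_one_iff _).1 (orderOf_eq_one_iff.1 (Nat.dvd_one.1 ?_))
    rw [show 1 = Nat.gcd 5 2 from rfl]
    refine Nat.dvd_gcd (orderOf_dvd_of_pow_eq_one ?_)
      ((orderOf_dvd_natCard _).trans (dvd_of_eq ?_))
    on_goal 2 => rw [← Subgroup.index_eq_card]; exact h2
    rw [← QuotientGroup.mk_pow, h5, QuotientGroup.mk_one]

/-- the relators -/
def R : Set (FreeGroup (Fin 3)) :=
  {FreeGroup.of (0 : Fin 3) ^ 3, FreeGroup.of (1 : Fin 3) ^ 5, FreeGroup.of (2 : Fin 3) ^ 2,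
    (FreeGroup.of (2 : Fin 3))⁻¹ * FreeGroup.of 0 * FreeGroup.of 2 * (FreeGroup.of (0 : Fin 3))⁻¹,
    (FreeGroup.of (2 : Fin 3))⁻¹ * FreeGroup.of 1 * FreeGroup.of 2 * (FreeGroup.of (1 : Fin 3))⁻¹,
    (FreeGroup.of (0 : Fin 3) * FreeGroup.of 1) ^ 2 * (FreeGroup.of (2 : Fin 3))⁻¹}

theorem pres_card : Finite (PresentedGroup R) ∧ Nat.card (PresentedGroup R) ≤ 120 := by
  classical
  let x : PresentedGroup R := PresentedGroup.of 0
  let y : PresentedGroup R := PresentedGroup.of 1
  let z : PresentedGroup R := PresentedGroup.of 2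
  have e1 : x ^ 3 = 1 := by
    have h := PresentedGroup.one_of_mem (rels := R)
      (x := FreeGroup.of 0 ^ 3) (by simp [R])
    simpa [PresentedGroup.of, x, y, z] using h
  have e2 : y ^ 5 = 1 := by
    have h := PresentedGroup.one_of_mem (rels := R)
      (x := FreeGroup.of 1 ^ 5) (by simp [R])
    simpa [PresentedGroup.of, x, y, z] using h
  have e3 : z ^ 2 = 1 := by
    have h := PresentedGroup.one_of_mem (rels := R)
      (x := FreeGroup.of 2 ^ 2) (by simp [R])
    simpa [PresentedGroup.of, x, y, z] using h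
  have e4 : z⁻¹ * x * z * x⁻¹ = 1 := by
    have h := PresentedGroup.one_of_mem (rels := R)
      (x := (FreeGroup.of (2 : Fin 3))⁻¹ * FreeGroup.of 0 * FreeGroup.of 2 * (FreeGroup.of (0 : Fin 3))⁻¹) (by simp [R])
    simpa [PresentedGroup.of, x, y, z] using h
  have e5 : z⁻¹ * y * z * y⁻¹ = 1 := by
    have h := PresentedGroup.one_of_mem (rels := R)
      (x := (FreeGroup.of (2 : Fin 3))⁻¹ * FreeGroup.of 1 * FreeGroup.of 2 * (FreeGroup.of (1 : Fin 3))⁻¹) (by simp [R])
    simpa [PresentedGroup.of, x, y, z] using h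
  have e6 : (x * y) ^ 2 * z⁻¹ = 1 := by
    have h := PresentedGroup.one_of_mem (rels := R)
      (x := (FreeGroup.of (0 : Fin 3) * FreeGroup.of 1) ^ 2 * (FreeGroup.of (2 : Fin 3))⁻¹) (by simp [R])
    simpa [PresentedGroup.of, x, y, z] using h
  have hgen : ∀ T : Subgroup (PresentedGroup R), x ∈ T → y ∈ T → z ∈ T → T = ⊤ := by
    intro T a b c
    rw [eq_top_iff, ← PresentedGroup.closure_range_of R, Subgroup.closure_le]
    rintro _ ⟨i, rfl⟩
    fin_cases i
    · exact a
    · exact b
    · exact c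
  have hcomm : ∀ w : PresentedGroup R, z⁻¹ * w * z * w⁻¹ = 1 → w * z = z * w := fun w h => by
    rw [mul_inv_eq_one, mul_assoc, inv_mul_eq_iff_eq_mul] at h
    exact h
  have hzc : z ∈ Subgroup.center (PresentedGroup R) := by
    have h := hgen (Subgroup.centralizer {z}) (Subgroup.mem_centralizer_singleton_iff.2 (hcomm x e4))
      (Subgroup.mem_centralizer_singleton_iff.2 (hcomm y e5)) (Subgroup.mem_centralizer_singleton_iff.2 rfl)
    exact Subgroup.mem_center_iff.2 fun g => Subgroup.mem_centralizer_singleton_iff.1 (h ▸ Subgroup.mem_top g)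
  have hzfin : IsOfFinOrder z := isOfFinOrder_iff_pow_eq_one.2 ⟨2, by norm_num, e3⟩
  haveI : Finite (Subgroup.zpowers z) := hzfin.finite_zpowers.to_subtype
  obtain ⟨hf, hle⟩ := CfsgLib.Triangle235.card_le x y (Subgroup.zpowers z) (Subgroup.zpowers_le.2 hzc)
    (fun T a b c => hgen T a b (c (Subgroup.mem_zpowers z))) (by rw [e1]; exact one_mem _) e2
    (by rw [mul_inv_eq_one.1 e6]; exact Subgroup.mem_zpowers z)
  refine ⟨hf, hle.trans ?_⟩
  rw [Nat.card_zpowers]
  have := Nat.le_of_dvd (by norm_num) (orderOf_dvd_of_pow_eq_one e3)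
  omega

theorem iso_of_gens {G : Type*} [Group G] [Finite G] (hG : Nat.card G = 120) (x y z : G) (h1 : x ^ 3 = 1)
    (h2 : y ^ 5 = 1) (h3 : z ^ 2 = 1) (h4 : z * x = x * z) (h5 : z * y = y * z) (h6 : (x * y) ^ 2 = z)
    (hgen : ∀ T : Subgroup G, x ∈ T → y ∈ T → z ∈ T → T = ⊤) : Nonempty (PresentedGroup R ≃* G) := by
  obtain ⟨hf, hle⟩ := pres_card
  have hrel : ∀ r ∈ R, FreeGroup.lift ![x, y, z] r = 1 := by
    intro r hr
    simp only [R, Set.mem_insert_iff, Set.mem_singleton_iff] at hr
    rcases hr with rfl | rfl | rfl | rfl | rfl | rfl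
    · simpa using h1
    · simpa using h2
    · simpa using h3
    · simp only [map_mul, map_inv, FreeGroup.lift_apply_of]
      show z⁻¹ * x * z * x⁻¹ = 1
      rw [mul_assoc z⁻¹, ← h4]; group
    · simp only [map_mul, map_inv, FreeGroup.lift_apply_of]
      show z⁻¹ * y * z * y⁻¹ = 1
      rw [mul_assoc z⁻¹, ← h5]; group
    · simp [h6]
  let f : PresentedGroup R →* G := PresentedGroup.toGroup hrel
  have hsurj : Function.Surjective f := MonoidHom.range_eq_top.1 (hgen _
    ⟨_, PresentedGroup.toGroup.of hrel (x := 0)⟩ ⟨_, PresentedGroup.toGroup.of hrel (x := 1)⟩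
    ⟨_, PresentedGroup.toGroup.of hrel (x := 2)⟩)
  haveI := hf
  refine ⟨MulEquiv.ofBijective f ((Nat.bijective_iff_surjective_and_card f).2 ⟨hsurj, ?_⟩)⟩
  have h7 := Nat.card_le_card_of_surjective f hsurj
  omega

theorem quat_sq : ∀ q : QuaternionGroup 2, q * q = 1 → q = 1 ∨ q = QuaternionGroup.a 2 := by decide

theorem fact60 : 2 ^ (Nat.factorization 60) 2 = 4 := by
  rw [show (60 : ℕ) = 2 ^ 2 * 15 by norm_num, Nat.factorization_mul (by norm_num) (by norm_num), Finsupp.add_apply,
    Nat.Prime.factorization_pow Nat.prime_two, Finsupp.single_eq_same, Nat.factorization_eq_zero_of_not_dvd (by norm_num)]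
  norm_num

theorem fact120 : (Nat.factorization 120) 5 = 1 := by
  have h5 : Nat.Prime 5 := by norm_num
  rw [show (120 : ℕ) = 5 ^ 1 * 24 by norm_num, Nat.factorization_mul (by norm_num) (by norm_num), Finsupp.add_apply,
    h5.factorization_pow, Finsupp.single_eq_same, Nat.factorization_eq_zero_of_not_dvd (by norm_num)]

theorem pf60 : Nat.primeFactors 60 = {2, 3, 5} := by
  ext p
  simp only [Nat.mem_primeFactors, Finset.mem_insert, Finset.mem_singleton]
  constructor
  · rintro ⟨hp, hd, -⟩
    have hm : p ∈ Nat.divisors 60 := Nat.mem_divisors.2 ⟨hd, by norm_num⟩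
    have key : ∀ d ∈ Nat.divisors 60, d = 2 ∨ d = 3 ∨ d = 5 ∨ d = 1 ∨ (2 ∣ d ∧ 2 < d) ∨ (3 ∣ d ∧ 3 < d) := by decide +kernel
    rcases key p hm with h | h | h | h | ⟨h, h'⟩ | ⟨h, h'⟩
    · exact Or.inl h
    · exact Or.inr (Or.inl h)
    · exact Or.inr (Or.inr h)
    · exact absurd h hp.ne_one
    · have := (Nat.prime_dvd_prime_iff_eq Nat.prime_two hp).1 h; omega
    · have := (Nat.prime_dvd_prime_iff_eq Nat.prime_three hp).1 h; omega
  · rintro (rfl | rfl | rfl) <;> norm_num

theorem div24 : (Nat.divisors 24).filter (fun d => d % 5 = 1) = {1, 6} := by decide +kernel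

theorem div20 : ∀ d ∈ Nat.divisors 20, ∃ a < 3, ∃ b < 2, d = 2 ^ a * 5 ^ b := by decide +kernel

theorem div20' : Nat.divisors 20 = {1, 2, 4, 5, 10, 20} := by decide +kernel

theorem sqf30 : Squarefree 30 := by decide +kernel


/-- Every non-solvable group of order 120 whose Sylow 2-subgroups are quaternion of order 8 is isomorphic to SL(2,5), and SL(2,5) has the presentation ⟨x, y, z | x³ = y⁵ = z² = 1, z⁻¹xz = x, z⁻¹yz = y, (xy)² = z⟩. -/
theorem result :
    (∀ (G : Type*) [Group G] [Finite G], Nat.card G = 120 → ¬ Group.IsSolvable G →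
      (∀ P : Sylow 2 G, Nonempty ((P : Subgroup G) ≃* QuaternionGroup 2)) →
      Nonempty (G ≃* Matrix.SpecialLinearGroup (Fin 2) (ZMod 5))) ∧
    Nonempty (PresentedGroup ({FreeGroup.of (0 : Fin 3) ^ 3, FreeGroup.of (1 : Fin 3) ^ 5, FreeGroup.of (2 : Fin 3) ^ 2,
        (FreeGroup.of (2 : Fin 3))⁻¹ * FreeGroup.of 0 * FreeGroup.of 2 * (FreeGroup.of (0 : Fin 3))⁻¹,
        (FreeGroup.of (2 : Fin 3))⁻¹ * FreeGroup.of 1 * FreeGroup.of 2 * (FreeGroup.of (1 : Fin 3))⁻¹,
        (FreeGroup.of (0 : Fin 3) * FreeGroup.of 1) ^ 2 * (FreeGroup.of (2 : Fin 3))⁻¹} : Set (FreeGroup (Fin 3)))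
      ≃* Matrix.SpecialLinearGroup (Fin 2) (ZMod 5)) := by
  classical
  haveI := Fact.mk Nat.prime_two; haveI := Fact.mk Nat.prime_three; haveI := Fact.mk (show Nat.Prime 5 by norm_num)
  obtain ⟨r1, -, r2, -, r3, -, r4, r5, r6⟩ := rels_sl
  obtain ⟨eS⟩ := iso_of_gens card_sl25 xs ys zs r1 r2 r3 r5 r6 r4 fun T hx hy _ => gen_sl T hx hy
  refine ⟨fun G _ _ hG hns hP => ?_, ⟨eS⟩⟩
  -- a subgroup of order 60 has cyclic Sylow two-subgroups, hence is solvable
  have hsol60 : ∀ H : Subgroup G, Nat.card H = 60 → Group.IsSolvable H := by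
    intro H hH
    haveI : IsZGroup H := ⟨fun p hp Q => by
      haveI := Fact.mk hp
      by_cases h2 : p = 2
      · subst h2
        have hQc := Q.card_eq_multiplicity
        rw [hH, fact60] at hQc
        obtain ⟨P, hle⟩ := (Q.isPGroup'.map H.subtype).exists_le_sylow
        obtain ⟨e⟩ := hP P
        have hQ4 : Nat.card ((Q : Subgroup H).map H.subtype) = 4 := by
          rw [Subgroup.card_map_of_injective H.subtype_injective]; exact hQc
        set L := (((Q : Subgroup H).map H.subtype).subgroupOf P).map e.toMonoidHom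
        have hL : Nat.card L = 4 := by
          rw [Subgroup.card_map_of_injective e.injective, Nat.card_congr (Subgroup.subgroupOfEquivOfLe hle).toEquiv]
          exact hQ4
        have hLc : IsCyclic L := by
          by_contra hc
          haveI : Fintype L := Fintype.ofFinite L
          have hsq : ∀ a : L, a * a = 1 := fun a => by
            have h4 : orderOf a ∣ 2 ^ 2 := by
              have h' := orderOf_dvd_natCard a
              rw [hL] at h'
              exact h'
            obtain ⟨i, hi, hio⟩ := (Nat.dvd_prime_pow Nat.prime_two).1 h4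
            rcases Nat.lt_or_ge i 2 with h | h
            · have : orderOf a ∣ 2 := hio ▸ (by interval_cases i <;> norm_num)
              rw [← pow_two]; exact orderOf_dvd_iff_pow_eq_one.1 this
            · exfalso
              have hi2 : i = 2 := le_antisymm hi h
              subst hi2
              exact hc (isCyclic_of_orderOf_eq_card a (by rw [hio, hL]; norm_num))
          -- two elements squaring to one in the quaternion group
          have hbig : ∀ a : L, (a : QuaternionGroup 2) = 1 ∨ (a : QuaternionGroup 2) = QuaternionGroup.a 2 := fun a =>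
            quat_sq _ (congrArg Subtype.val (hsq a))
          have hcard : Fintype.card L ≤ 2 := by
            let g : L → Bool := fun a => decide ((a : QuaternionGroup 2) = 1)
            refine (Fintype.card_le_of_injective g fun a b hab => ?_).trans_eq Fintype.card_bool
            simp only [g, decide_eq_decide] at hab
            apply Subtype.ext
            rcases hbig a with h | h <;> rcases hbig b with h' | h'
            · rw [h, h']
            · exact h.trans (hab.1 h).symm
            · exact (hab.2 h').trans h'.symm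
            · rw [h, h']
          rw [← Nat.card_eq_fintype_card, hL] at hcard
          omega
        have e1 : (Q : Subgroup H) ≃* L :=
          ((Subgroup.equivMapOfInjective _ H.subtype H.subtype_injective).trans
            (Subgroup.subgroupOfEquivOfLe hle).symm).trans (Subgroup.equivMapOfInjective _ e.toMonoidHom e.injective)
        exact e1.isCyclic.2 hLc
      · obtain ⟨a, ha⟩ := IsPGroup.iff_card.1 Q.isPGroup'
        have hle1 : a ≤ 1 := by
          have hQ := Q.card_eq_multiplicity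
          rw [hH] at hQ
          have hd : p ^ a ∣ 60 := hH ▸ ha ▸ Subgroup.card_subgroup_dvd_card (Q : Subgroup H)
          by_contra hc
          have hd2 : p ^ 2 ∣ 60 := (pow_dvd_pow p (by omega)).trans hd
          have hp60 : p ∣ 60 := (dvd_pow_self p two_ne_zero).trans hd2
          have hpm : p ∈ Nat.primeFactors 60 := Nat.mem_primeFactors.2 ⟨hp, hp60, by norm_num⟩
          rw [pf60, Finset.mem_insert, Finset.mem_insert, Finset.mem_singleton] at hpm
          rcases hpm with rfl | rfl | rfl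
          · exact h2 rfl
          · norm_num at hd2
          · norm_num at hd2
        interval_cases a
        · haveI : Subsingleton (Q : Subgroup H) := (Nat.card_eq_one_iff_unique.1 (by rw [ha, pow_zero])).1
          exact isCyclic_of_subsingleton
        · exact isCyclic_of_prime_card (p := p) (by rw [ha, pow_one])⟩
    infer_instance
  have hnot2 : ∀ H : Subgroup G, H.index ≠ 2 := by
    intro H h2
    haveI := Subgroup.normal_of_index_eq_two h2
    have hH : Nat.card H = 60 := by
      have := H.card_mul_index; rw [h2, hG] at this; omega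
    haveI := hsol60 H hH
    haveI : Group.IsSolvable (G ⧸ H) := CfsgLib.EightSubgroups.isSolvable_two 1 0 Nat.prime_two Nat.prime_three (by
      rw [← Subgroup.index_eq_card, h2]; norm_num)
    exact hns (Group.isSolvable_of_ker_le_range H.subtype (QuotientGroup.mk' H) (by simp))
  -- the action on the Sylow five-subgroups
  obtain ⟨P5⟩ : Nonempty (Sylow 5 G) := inferInstance
  have hP5 : Nat.card P5 = 5 := by rw [P5.card_eq_multiplicity, hG, fact120]; norm_num
  have hn5 : Nat.card (Sylow 5 G) = 6 := by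
    have h1 : Nat.card (Sylow 5 G) % 5 = 1 := card_sylow_modEq_one 5 G
    have h2 : Nat.card (Sylow 5 G) ∣ 24 := by
      have := P5.card_dvd_index
      rwa [show (P5 : Subgroup G).index = 24 by
        have := (P5 : Subgroup G).card_mul_index; rw [hG, show Nat.card (P5 : Subgroup G) = 5 from hP5] at this; omega] at this
    have hmem : Nat.card (Sylow 5 G) ∈ (Nat.divisors 24).filter (fun d => d % 5 = 1) :=
      Finset.mem_filter.2 ⟨Nat.mem_divisors.2 ⟨h2, by norm_num⟩, h1⟩
    rw [div24, Finset.mem_insert, Finset.mem_singleton] at hmem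
    rcases hmem with h | h
    · exfalso
      haveI : Subsingleton (Sylow 5 G) := (Nat.card_eq_one_iff_unique.1 h).1
      haveI := P5.normal_of_subsingleton
      haveI : Group.IsSolvable (P5 : Subgroup G) := CfsgLib.EightSubgroups.isSolvable_two 1 0 (show Nat.Prime 5 by norm_num)
        Nat.prime_two (by rw [show Nat.card (P5 : Subgroup G) = 5 from hP5]; norm_num)
      haveI : Group.IsSolvable (G ⧸ (P5 : Subgroup G)) := CfsgLib.EightSubgroups.isSolvable_two 3 1 Nat.prime_two
        Nat.prime_three (by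
          rw [← Subgroup.index_eq_card]
          have := (P5 : Subgroup G).card_mul_index; rw [hG, show Nat.card (P5 : Subgroup G) = 5 from hP5] at this; omega)
      exact hns (Group.isSolvable_of_ker_le_range (P5 : Subgroup G).subtype (QuotientGroup.mk' (P5 : Subgroup G)) (by simp))
    · exact h
  haveI : Fintype (Sylow 5 G) := Fintype.ofFinite _
  haveI : Nontrivial (Sylow 5 G) := Finite.one_lt_card_iff_nontrivial.1 (by omega)
  let φ : G →* Equiv.Perm (Sylow 5 G) := MulAction.toPermHom G _
  -- no odd permutations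
  have heven : φ.range ≤ alternatingGroup (Sylow 5 G) := by
    rintro _ ⟨g, rfl⟩
    rw [Equiv.Perm.mem_alternatingGroup]
    by_contra hodd
    refine hnot2 (Equiv.Perm.sign.comp φ).ker ?_
    rw [Subgroup.index_ker, MonoidHom.range_eq_top.2 ?_, Subgroup.card_top, Nat.card_eq_fintype_card]
    · rfl
    · intro u
      rcases Int.units_eq_one_or u with rfl | rfl
      · exact ⟨1, map_one _⟩
      · exact ⟨g, (Int.units_eq_one_or _).resolve_left hodd⟩
  haveI : φ.ker.Normal := inferInstance
  set K := φ.ker with hKdef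
  have hKlt : Nat.card K ∣ 20 := by
    have h1 : K ≤ MulAction.stabilizer G P5 := fun g hg => by
      rw [hKdef, MonoidHom.mem_ker] at hg
      exact MulAction.mem_stabilizer_iff.2 (DFunLike.congr_fun hg P5)
    refine (Subgroup.card_dvd_of_le h1).trans (dvd_of_eq ?_)
    have h2 := (MulAction.stabilizer G P5).card_mul_index
    rw [MulAction.index_stabilizer_of_transitive, hn5, hG] at h2
    omega
  have hKq : Nat.card K * Nat.card φ.range = 120 := by
    rw [← hG, ← K.card_mul_index, hKdef, Subgroup.index_ker]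
  have hdvd : Nat.card φ.range ∣ 360 := by
    have := Subgroup.card_dvd_of_le heven
    rwa [nat_card_alternatingGroup, hn5] at this
  haveI : Group.IsSolvable K := by
    have hmem : Nat.card K ∈ Nat.divisors 20 := Nat.mem_divisors.2 ⟨hKlt, by norm_num⟩
    obtain ⟨a, -, b, -, hab⟩ := div20 _ hmem
    exact CfsgLib.EightSubgroups.isSolvable_two a b Nat.prime_two (show Nat.Prime 5 by norm_num) hab
  have hQns : ¬ Group.IsSolvable (G ⧸ K) := fun h => by
    haveI := h
    exact hns (Group.isSolvable_of_ker_le_range K.subtype (QuotientGroup.mk' K) (by simp))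
  have hK2 : Nat.card K = 2 := by
    have hmem : Nat.card K ∈ Nat.divisors 20 := Nat.mem_divisors.2 ⟨hKlt, by norm_num⟩
    rw [show Nat.divisors 20 = {1, 2, 4, 5, 10, 20} from div20', Finset.mem_insert, Finset.mem_insert, Finset.mem_insert,
      Finset.mem_insert, Finset.mem_insert, Finset.mem_singleton] at hmem
    rcases hmem with h | h | h
    · exfalso
      rw [h, one_mul] at hKq
      set T := φ.range.subgroupOf (alternatingGroup (Sylow 5 G))
      have hT : Nat.card T = 120 := by
        rw [Nat.card_congr (Subgroup.subgroupOfEquivOfLe heven).toEquiv, hKq]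
      have hA : Nat.card (alternatingGroup (Sylow 5 G)) = 360 := by rw [nat_card_alternatingGroup, hn5]; rfl
      haveI : IsSimpleGroup (alternatingGroup (Sylow 5 G)) :=
        alternatingGroup.isSimpleGroup (by rw [hn5]; norm_num)
      have hi := T.card_mul_index
      rw [hT, hA] at hi
      have hcore : T.normalCore = ⊥ := (IsSimpleGroup.eq_bot_or_eq_top_of_normal _ inferInstance).resolve_right fun ht => by
        have h2 := Subgroup.card_le_of_le (Subgroup.normalCore_le T)
        rw [ht, Subgroup.card_top, hA, hT] at h2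
        omega
      have hinj : Function.Injective (MulAction.toPermHom (alternatingGroup (Sylow 5 G)) (alternatingGroup (Sylow 5 G) ⧸ T)) := by
        rw [← MonoidHom.ker_eq_bot_iff, ← Subgroup.normalCore_eq_ker, hcore]
      have h3 := Nat.card_le_card_of_injective _ hinj
      rw [hA, Nat.card_perm, ← Subgroup.index_eq_card, show T.index = 3 by omega] at h3
      norm_num at h3
    · exact h
    · exfalso
      apply hQns
      have h1 : Nat.card (G ⧸ K) * Nat.card K = 120 := by
        rw [← Subgroup.card_eq_card_quotient_mul_card_subgroup K, hG]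
      have hmemQ : Nat.card (G ⧸ K) ∈ ({30, 24, 12, 6} : Finset ℕ) := by
        rcases h with h | h | h | h <;> rw [h] at h1 <;> simp <;> omega
      simp only [Finset.mem_insert, Finset.mem_singleton] at hmemQ
      rcases hmemQ with h | h | h | h
      · exact CfsgLib.EightSubgroups.isSolvable_of_squarefree (h ▸ sqf30)
      · exact CfsgLib.EightSubgroups.isSolvable_two 3 1 Nat.prime_two Nat.prime_three (by rw [h]; norm_num)
      · exact CfsgLib.EightSubgroups.isSolvable_two 2 1 Nat.prime_two Nat.prime_three (by rw [h]; norm_num)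
      · exact CfsgLib.EightSubgroups.isSolvable_two 1 1 Nat.prime_two Nat.prime_three (by rw [h]; norm_num)
  have hQ60 : Nat.card (G ⧸ K) = 60 := by
    have h1 := Subgroup.card_eq_card_quotient_mul_card_subgroup K
    rw [hG, hK2] at h1; omega
  have hrf : CfsgLib.EightSubgroups.RadFree (G ⧸ K) := by
    intro N hN hNs
    haveI := hN; haveI := hNs
    by_contra hne
    apply hQns
    haveI : Group.IsSolvable ((G ⧸ K) ⧸ N) := CfsgLib.EightSubgroups.isSolvable_of_dvd (n := 60) (Or.inl rfl)
      (hQ60 ▸ Subgroup.card_quotient_dvd_card N) fun h => hne (Subgroup.card_eq_one.1 (by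
        have h1 := Subgroup.card_eq_card_quotient_mul_card_subgroup N
        rw [hQ60, h] at h1; omega))
    exact Group.isSolvable_of_ker_le_range N.subtype (QuotientGroup.mk' N) (by simp)
  haveI := CfsgLib.EightSubgroups.isSimple_of_radFree (Or.inl rfl) hQ60 hrf
  obtain ⟨eA⟩ := Cfsg.Agent.S0494.result hQ60
  obtain ⟨z, hzK, hz1⟩ := K.bot_or_exists_ne_one.resolve_left fun h => by rw [h, Subgroup.card_bot] at hK2; omega
  have hKz : ∀ k ∈ K, k = 1 ∨ k = z := by
    intro k hk
    haveI : Fintype K := Fintype.ofFinite _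
    have hS : ({(1 : K), ⟨z, hzK⟩} : Finset K) = Finset.univ := by
      apply Finset.eq_univ_of_card
      rw [← Nat.card_eq_fintype_card, hK2, Finset.card_pair]
      exact fun e => hz1 (congrArg Subtype.val e).symm
    have : (⟨k, hk⟩ : K) ∈ ({(1 : K), ⟨z, hzK⟩} : Finset K) := hS ▸ Finset.mem_univ _
    simpa [Subtype.ext_iff] using this
  have hz2 : z ^ 2 = 1 := by
    have h := pow_card_eq_one' (x := (⟨z, hzK⟩ : K))
    rw [hK2] at h
    exact congrArg Subtype.val h
  have hzc : ∀ g, z * g = g * z := fun g => by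
    rcases hKz _ ((inferInstance : K.Normal).conj_mem z hzK g) with h | h
    · exact absurd (conj_eq_one_iff.1 h) hz1
    · exact (mul_inv_eq_iff_eq_mul.1 h).symm
  have huniq : ∀ g : G, g ^ 2 = 1 → g ≠ 1 → g = z := by
    intro g hg hg1
    have hK2' : IsPGroup 2 K := IsPGroup.of_card (n := 1) (by rw [hK2, pow_one])
    have hpg : IsPGroup 2 (Subgroup.zpowers g) := IsPGroup.of_card (n := 1) (by rw [Nat.card_zpowers, orderOf_eq_prime hg hg1, pow_one])
    obtain ⟨P, hPle⟩ := (hK2'.to_sup_of_normal_left hpg).exists_le_sylow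
    obtain ⟨e⟩ := hP P
    have hgP : g ∈ P := hPle (Subgroup.mem_sup_right (Subgroup.mem_zpowers g))
    have hzP : z ∈ P := hPle (Subgroup.mem_sup_left hzK)
    have h1 : e ⟨g, hgP⟩ = e ⟨z, hzP⟩ := by
      have hh : ∀ (u : G) (hu : u ∈ P), u ^ 2 = 1 → u ≠ 1 → e ⟨u, hu⟩ = QuaternionGroup.a 2 := by
        intro u hu hu2 hu1
        refine (quat_sq _ ?_).resolve_left fun he => hu1 ?_
        · rw [← map_mul, ← map_one e]
          exact congrArg e (Subtype.ext (by rw [← pow_two]; exact hu2))
        · exact congrArg Subtype.val (e.map_eq_one_iff.1 he)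
      rw [hh g hgP hg hg1, hh z hzP hz2 hz1]
    exact congrArg Subtype.val (e.injective h1)
  let π : G →* alternatingGroup (Fin 5) := eA.toMonoidHom.comp (QuotientGroup.mk' K)
  have hπ : ∀ g, π g = 1 → g ∈ K := fun g h => (QuotientGroup.eq_one_iff g).1 (eA.map_eq_one_iff.1 h)
  have hπs : Function.Surjective π := eA.surjective.comp (QuotientGroup.mk'_surjective K)
  have hlift : ∀ {u : alternatingGroup (Fin 5)} {p : ℕ}, u ^ p = 1 → ¬ 2 ∣ p → ∃ g : G, π g = u ∧ g ^ p = 1 := by
    intro u p hu hp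
    obtain ⟨g, hg⟩ := hπs u
    refine ⟨g ^ (p + 1), by rw [map_pow, hg, pow_succ, hu, one_mul], ?_⟩
    have h2 : g ^ (p * 2) = 1 := by
      rw [pow_mul]
      rcases hKz _ (hπ _ (show π (g ^ p) = 1 by rw [map_pow, hg, hu])) with h | h <;> rw [h]
      · exact one_pow 2
      · exact hz2
    obtain ⟨j, hj⟩ : 2 ∣ p + 1 := by omega
    rw [hj, ← pow_mul, show 2 * j * p = p * 2 * j by ring, pow_mul, h2, one_pow]
  obtain ⟨hx3, hx1, hy5, hy1, hxy2, hxy1⟩ := rel5
  obtain ⟨x, hx, hx'⟩ := hlift hx3 (by norm_num)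
  obtain ⟨y, hy, hy'⟩ := hlift hy5 (by norm_num)
  have hxy : (x * y) ^ 2 = z := by
    refine (hKz _ (hπ _ (by rw [map_pow, map_mul, hx, hy, hxy2]))).resolve_left fun h => ?_
    refine hxy1 ?_
    rw [← hx, ← hy, ← map_mul, huniq _ h fun e => hxy1 (by rw [← hx, ← hy, ← map_mul, e, map_one])]
    show eA (QuotientGroup.mk' K z) = 1
    rw [show QuotientGroup.mk' K z = 1 from (QuotientGroup.eq_one_iff z).2 hzK, map_one]
  obtain ⟨eG⟩ := iso_of_gens hG x y z hx' hy' hz2 (hzc x) (hzc y) hxy fun T hTx hTy hTz => by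
    have h1 := gen5 (T.map π) ⟨x, hTx, hx⟩ ⟨y, hTy, hy⟩
    rw [eq_top_iff]
    intro g _
    obtain ⟨t, ht, htg⟩ := (h1 ▸ Subgroup.mem_top (π g) : π g ∈ T.map π)
    rcases hKz (t⁻¹ * g) (hπ _ (by rw [map_mul, map_inv, htg, inv_mul_cancel])) with h | h
    · rw [inv_mul_eq_one.1 h] at ht; exact ht
    · rw [inv_mul_eq_iff_eq_mul.1 h]; exact mul_mem ht hTz
  exact ⟨eG.symm.trans eS⟩

end Cfsg.Agent.S3378
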