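import Cfsg.Statements.S3741
import Mathlib
import Cfsg.Agent.Lib.CoprimeSeries
import Cfsg.Agent.Lib.Coprime
import Cfsg.Agent.Lib.Elementary
-- import your own Cfsg.Agent.* helpers here

set_option autoImplicit false
open Cfsg

namespace Cfsg.Agent.S3741

open scoped commutatorElement

theorem card_mul_relIndex' {X : Type*} [Group X] {H K : Subgroup X} (h : H ≤ K) :
    Nat.card H * H.relIndex K = Nat.card K := by
  have := Subgroup.relIndex_mul_relIndex ⊥ H K bot_le h
  rwa [Subgroup.relIndex_bot_left, Subgroup.relIndex_bot_left] at this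

theorem relIndex_le_index' {X : Type*} [Group X] [Finite X] (H K : Subgroup X) :
    H.relIndex K ≤ H.index := by
  rw [← Subgroup.relIndex_top_right]
  exact Subgroup.relIndex_le_of_le_right le_top (by rw [Subgroup.relIndex_top_right]; exact Subgroup.index_ne_zero_of_finite)

/-- Let A and B be subgroups of a finite p-group with [A, B] ≤ A ∩ B and [A, B] of order at most p. Then |A : C_A(B)| = |B : C_B(A)|. -/
theorem result {G : Type*} [Group G] [Finite G] {p : ℕ} [Fact p.Prime] (hG : IsPGroup p G) (A B : Subgroup G) (hAB : ⁅A, B⁆ ≤ A ⊓ B) (hcard : Nat.card ↥⁅A, B⁆ ≤ p) : (A ⊓ Subgroup.centralizer (B : Set G)).relIndex A = (B ⊓ Subgroup.centralizer (A : Set G)).relIndex B := by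
  classical
  set Z : Subgroup G := ⁅A, B⁆ with hZ
  set K : Subgroup G := A ⊔ B with hK
  have hp : p.Prime := Fact.out
  have hcen : ∀ z ∈ Z, ∀ u ∈ K, Commute u z := by
    by_cases hb : Z = ⊥
    · intro z hz u _
      rw [hb, Subgroup.mem_bot] at hz
      subst hz; exact Commute.one_right _
    have hle : K ≤ Subgroup.normalizer (Z : Set G) :=
      sup_le (CfsgLib.left_le_normalizer_commutator B A)
        (CfsgLib.right_le_normalizer_commutator B A)
    have hZK : Z ≤ K := hAB.trans (inf_le_left.trans le_sup_left)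
    have : (Z.subgroupOf K).Normal := (Subgroup.normal_subgroupOf_iff_le_normalizer hZK).mpr hle
    have : Group.IsNilpotent K := (hG.to_subgroup K).isNilpotent
    have hne : Z.subgroupOf K ≠ ⊥ := fun h =>
      hb (le_bot_iff.mp ((Subgroup.subgroupOf_eq_bot.mp h).le_bot.trans' (le_inf le_rfl hZK)))
    have hne' := CfsgLib.inf_center_ne_bot_of_nilpotent hne
    have hZp : Nat.card (Z.subgroupOf K) = p := by
      rw [Nat.card_congr (Subgroup.subgroupOfEquivOfLe hZK).toEquiv]
      obtain ⟨k, hk⟩ := IsPGroup.iff_card.mp (hG.to_subgroup Z)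
      rcases Nat.eq_zero_or_pos k with h0 | h0
      · exact absurd (Subgroup.card_eq_one.mp (by rw [hk, h0, pow_zero])) hb
      refine le_antisymm hcard ?_
      rw [hk]; exact Nat.le_self_pow h0.ne' p
    have hle2 : Z.subgroupOf K ≤ Subgroup.center K := by
      refine le_trans (le_of_eq ?_) (inf_le_right (a := Z.subgroupOf K))
      refine (Subgroup.eq_of_le_of_card_ge inf_le_left ?_).symm
      have hd := Subgroup.card_dvd_of_le (inf_le_left : Z.subgroupOf K ⊓ Subgroup.center K ≤ _)
      rw [hZp] at hd ⊢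
      rcases hp.eq_one_or_self_of_dvd _ hd with h | h
      · exact absurd (Subgroup.card_eq_one.mp h) hne'
      · exact h.ge
    intro z hz u hu
    exact congrArg Subtype.val
      (Subgroup.mem_center_iff.mp (hle2 (show (⟨z, hZK hz⟩ : K) ∈ Z.subgroupOf K from hz)) ⟨u, hu⟩)
  -- the counting identity
  have key : ∀ X Y : Subgroup G, (∀ x ∈ X, ∀ y ∈ Y, ⁅x, y⁆ ∈ Z) →
      (∀ z ∈ Z, ∀ y ∈ Y, Commute y z) →
      p * Nat.card {q : X × Y // Commute (q.1 : G) q.2} + Nat.card ↥(X ⊓ Subgroup.centralizer (Y : Set G)) * Nat.card Y =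
        Nat.card X * Nat.card Y + p * (Nat.card ↥(X ⊓ Subgroup.centralizer (Y : Set G)) * Nat.card Y) := by
    intro X Y hXY hYZ
    set C := X ⊓ Subgroup.centralizer (Y : Set G) with hC
    have := Fintype.ofFinite X
    have hsum : Nat.card {q : X × Y // Commute (q.1 : G) q.2} = ∑ x : X, Nat.card {y : Y // Commute (x : G) y} := by
      rw [← Nat.card_sigma]
      exact Nat.card_congr (Equiv.subtypeProdEquivSigmaSubtype fun (x : X) (y : Y) => Commute (x : G) y)
    have hx : ∀ x : X, p * Nat.card {y : Y // Commute (x : G) y} + (if (x : G) ∈ C then Nat.card Y else 0) =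
        Nat.card Y + p * (if (x : G) ∈ C then Nat.card Y else 0) := by
      intro x
      by_cases hxc : (x : G) ∈ C
      · rw [if_pos hxc]
        have : Nat.card {y : Y // Commute (x : G) y} = Nat.card Y :=
          Nat.card_congr (Equiv.subtypeUnivEquiv fun y =>
            ((Subgroup.mem_centralizer_iff.mp hxc.2 _ y.2).symm : _))
        rw [this, add_comm]
      rw [if_neg hxc, mul_zero, add_zero, add_zero]
      let f : Y →* Z := MonoidHom.mk' (fun y => ⟨⁅(x : G), y⁆, hXY _ x.2 _ y.2⟩) (fun a b => by
        apply Subtype.ext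
        show ⁅(x : G), (a : G) * b⁆ = ⁅(x : G), (a : G)⁆ * ⁅(x : G), (b : G)⁆
        have hab := hYZ _ (hXY _ x.2 _ b.2) _ a.2
        have e : ⁅(x : G), (a : G) * b⁆ = ⁅(x : G), (a : G)⁆ * ((a : G) * ⁅(x : G), (b : G)⁆ * (a : G)⁻¹) := by
          simp only [commutatorElement_def]; group
        rw [e, hab.eq, mul_inv_cancel_right])
      have hker : Nat.card f.ker = Nat.card {y : Y // Commute (x : G) y} :=
        Nat.card_congr (Equiv.subtypeEquivRight fun y => by
          rw [MonoidHom.mem_ker, ← Subtype.coe_inj]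
          exact commutatorElement_eq_one_iff_commute)
      have hmul := f.ker.card_mul_index
      rw [Subgroup.index_ker, hker] at hmul
      have hne : f.range ≠ ⊥ := by
        intro h
        refine hxc ⟨x.2, Subgroup.mem_centralizer_iff.mpr fun y hy => ?_⟩
        have : f ⟨y, hy⟩ = 1 := Subgroup.mem_bot.mp (h ▸ ⟨⟨y, hy⟩, rfl⟩)
        exact (commutatorElement_eq_one_iff_commute.mp (congrArg Subtype.val this)).symm.eq
      have hrp : Nat.card f.range = p := by
        obtain ⟨k, hk⟩ := IsPGroup.iff_card.mp ((hG.to_subgroup Z).to_subgroup f.range)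
        rcases Nat.eq_zero_or_pos k with h0 | h0
        · exact absurd (Subgroup.card_eq_one.mp (by rw [hk, h0, pow_zero])) hne
        refine le_antisymm ((Subgroup.card_le_card_group _).trans hcard) ?_
        rw [hk]; exact Nat.le_self_pow h0.ne' p
      rw [hrp] at hmul
      rw [← hmul, mul_comm]
    have h := Finset.sum_congr rfl (fun x (_ : x ∈ Finset.univ) => hx x)
    have hind : ∑ x : X, (if (x : G) ∈ C then Nat.card Y else 0) = Nat.card C * Nat.card Y := by
      rw [← Finset.sum_filter, Finset.sum_const, smul_eq_mul]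
      congr 1
      rw [← Fintype.card_subtype, ← Nat.card_eq_fintype_card]
      exact Nat.card_congr
        { toFun := fun x => ⟨x.1.1, x.2⟩
          invFun := fun c => ⟨⟨c.1, c.2.1⟩, c.2⟩
          left_inv := fun _ => rfl
          right_inv := fun _ => rfl }
    rw [Finset.sum_add_distrib, Finset.sum_add_distrib, ← Finset.mul_sum, ← Finset.mul_sum, ← hsum, hind,
      Finset.sum_const, Finset.card_univ, smul_eq_mul, ← Nat.card_eq_fintype_card] at h
    exact h
  have h1 := key A B (fun a ha b hb => Subgroup.commutator_mem_commutator ha hb)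
    (fun z hz y hy => hcen z hz y (Subgroup.mem_sup_right hy))
  have h2 := key B A (fun b hb a ha => by
      rw [← commutatorElement_inv]; exact inv_mem (Subgroup.commutator_mem_commutator ha hb))
    (fun z hz y hy => hcen z hz y (Subgroup.mem_sup_left hy))
  have hsym : Nat.card {q : A × B // Commute (q.1 : G) q.2} = Nat.card {q : B × A // Commute (q.1 : G) q.2} :=
    Nat.card_congr ((Equiv.prodComm _ _).subtypeEquiv fun q => ⟨Commute.symm, Commute.symm⟩)
  rw [hsym] at h1
  set CA := A ⊓ Subgroup.centralizer (B : Set G)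
  set CB := B ⊓ Subgroup.centralizer (A : Set G)
  have e : Nat.card CA * Nat.card B = Nat.card CB * Nat.card A := by
    have h2p := hp.two_le
    rw [mul_comm (Nat.card B) (Nat.card A)] at h2
    obtain ⟨q, hq⟩ : ∃ q, p = q + 1 + 1 := ⟨p - 2, by omega⟩
    subst hq
    nlinarith
  rw [← card_mul_relIndex' (inf_le_left : CA ≤ A), ← card_mul_relIndex' (inf_le_left : CB ≤ B)] at e
  have hpos : 0 < Nat.card CA * Nat.card CB := Nat.mul_pos Nat.card_pos Nat.card_pos
  apply Nat.eq_of_mul_eq_mul_left hpos
  linarith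

end Cfsg.Agent.S3741
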