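import Cfsg.Statements.S0060
import Cfsg.Agent.Lib.Basic
import Cfsg.Agent.Lib.Coprime

set_option autoImplicit false
open Pointwise
open Cfsg

namespace Cfsg.Agent.S0060

/-- Brodkey's Theorem: in a finite group with abelian Sylow p-subgroups and no nontrivial normal p-subgroup, some conjugate of a Sylow p-subgroup meets it trivially. -/
theorem result {G : Type*} [Group G] [Finite G] (p : ℕ) [Fact p.Prime]
    (S : Sylow p G) (hS : IsMulCommutative S) (hOp : Cfsg.pCore p G = ⊥) :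
    ∃ g : G, (S : Subgroup G) ⊓ MulAut.conj g • (S : Subgroup G) = ⊥ := by
  have key : ∀ T : Sylow p G, ∃ g : G, MulAut.conj g • (S : Subgroup G) = T := fun T => by
    obtain ⟨g, hg⟩ := MulAction.exists_smul_eq G S T
    exact ⟨g, by rw [← hg]; rfl⟩
  obtain ⟨T, -, hT⟩ := (Set.finite_univ (α := Sylow p G)).exists_minimalFor
    (fun T : Sylow p G => Nat.card ↥((S : Subgroup G) ⊓ (T : Subgroup G))) Set.univ ⟨S, trivial⟩
  set D := (S : Subgroup G) ⊓ (T : Subgroup G) with hD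
  obtain ⟨g, hg⟩ := key T
  refine ⟨g, ?_⟩
  rw [hg, ← hD]
  have hmin : ∀ U V : Sylow p G, (U : Subgroup G) ⊓ (V : Subgroup G) ≤ D → (U : Subgroup G) ⊓ (V : Subgroup G) = D := by
    intro U V hle
    obtain ⟨a, ha⟩ := MulAction.exists_smul_eq G U S
    refine Subgroup.eq_of_le_of_card_ge hle ?_
    have h2 := hT (j := a • V) trivial
    have e : Nat.card ↥((S : Subgroup G) ⊓ ((a • V : Sylow p G) : Subgroup G)) = Nat.card ↥((U : Subgroup G) ⊓ (V : Subgroup G)) := by
      rw [← ha]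
      show Nat.card ↥(MulAut.conj a • (U : Subgroup G) ⊓ MulAut.conj a • (V : Subgroup G)) = _
      rw [← Subgroup.smul_inf, CfsgLib.card_conj_smul]
    rw [← e]
    by_contra hlt
    push Not at hlt
    exact absurd (h2 hlt.le) (not_le.mpr hlt)
  have hab : ∀ U : Sylow p G, IsMulCommutative (U : Subgroup G) := fun U => by
    obtain ⟨c, hc⟩ := key U
    refine ⟨⟨fun a b => ?_⟩⟩
    obtain ⟨a', ha', hae⟩ : (a : G) ∈ MulAut.conj c • (S : Subgroup G) := hc.symm ▸ a.2
    obtain ⟨b', hb', hbe⟩ : (b : G) ∈ MulAut.conj c • (S : Subgroup G) := hc.symm ▸ b.2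
    apply Subtype.ext
    show (a : G) * b = b * a
    rw [← hae, ← hbe]
    show MulAut.conj c a' * MulAut.conj c b' = MulAut.conj c b' * MulAut.conj c a'
    rw [← map_mul, ← map_mul]
    exact congrArg _ (congrArg Subtype.val (hS.is_comm.comm ⟨a', ha'⟩ ⟨b', hb'⟩))
  have hSN : ∀ U : Sylow p G, D ≤ U → (U : Subgroup G) ≤ Subgroup.normalizer (D : Set G) := fun U hU =>
    (Subgroup.le_centralizer (H := (U : Subgroup G))).trans
      ((Subgroup.centralizer_le hU).trans (Subgroup.centralizer_le_normalizer _))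
  set N := Subgroup.normalizer (D : Set G) with hN
  have hall : ∀ U : Sylow p G, D ≤ U := by
    intro U
    have hUN : IsPGroup p ↥((U : Subgroup G) ⊓ N) := U.2.to_le inf_le_left
    obtain ⟨R, hR⟩ := (hUN.comap_of_injective N.subtype N.subtype_injective).exists_le_sylow
    obtain ⟨n, hn⟩ := MulAction.exists_smul_eq N (S.subtype (hSN S inf_le_left)) R
    have hUle : (U : Subgroup G) ⊓ N ≤ MulAut.conj (n : G) • (S : Subgroup G) := by
      intro u hu
      have h1 : (⟨u, hu.2⟩ : N) ∈ R := hR hu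
      rw [← hn] at h1
      obtain ⟨s, hs, e⟩ := h1
      exact ⟨s, hs, congrArg Subtype.val e⟩
    have hTn : MulAut.conj (n : G) • (T : Subgroup G) ≤ N := by
      rintro _ ⟨t, ht, rfl⟩
      exact mul_mem (mul_mem n.2 (hSN T inf_le_right ht)) (inv_mem n.2)
    have hle : (U : Subgroup G) ⊓ (((n : G) • T : Sylow p G) : Subgroup G) ≤ D := by
      intro u hu
      have h1 : u ∈ MulAut.conj (n : G) • (S : Subgroup G) := hUle ⟨hu.1, hTn hu.2⟩
      have h2 : u ∈ MulAut.conj (n : G) • D := by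
        rw [hD, Subgroup.smul_inf]; exact ⟨h1, hu.2⟩
      obtain ⟨d, hd, rfl⟩ := h2
      exact (Subgroup.mem_normalizer_iff.mp n.2 d).mp hd
    rw [← hmin U _ hle]
    exact inf_le_left
  set N' := ⨅ U : Sylow p G, (U : Subgroup G)
  have hn' : N'.Normal := by
    refine ⟨fun d hd c => Subgroup.mem_iInf.mpr fun U => ?_⟩
    obtain ⟨u, hu, e⟩ : d ∈ MulAut.conj c⁻¹ • (U : Subgroup G) :=
      (Subgroup.mem_iInf.mp hd (c⁻¹ • U : Sylow p G) :)
    rw [← e]
    show c * (c⁻¹ * u * c⁻¹⁻¹) * c⁻¹ ∈ (U : Subgroup G)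
    rw [show c * (c⁻¹ * u * c⁻¹⁻¹) * c⁻¹ = u by group]
    exact hu
  exact le_bot_iff.mp (hOp ▸ (le_iInf hall).trans (CfsgLib.le_pCore (hN := hn') (S.2.to_le (iInf_le _ S))))

end Cfsg.Agent.S0060
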