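import Cfsg.Statements.S4303
import Mathlib
import Cfsg.Agent.Lib.SylowExtra
import Cfsg.Agent.Lib.Coprime
-- import your own Cfsg.Agent.* helpers here

set_option autoImplicit false
universe u
open Cfsg

namespace Cfsg.Agent.S4303

open scoped commutatorElement

theorem relIndex_nz {G : Type u} [Group G] [Finite G] (H K : Subgroup G) : H.relIndex K ≠ 0 :=
  Subgroup.index_ne_zero_of_finite

theorem card_sylow' {G : Type u} [Group G] [Finite G] {p : ℕ} [Fact p.Prime] (P : Sylow p G) :
    Nat.card (Sylow p G) = (Subgroup.normalizer ((P : Subgroup G) : Set G)).index :=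
  P.card_eq_index_normalizer

theorem sylow_card_eq_mul {G : Type u} [Group G] [Finite G] {p : ℕ} [Fact p.Prime] (P : Sylow p G)
    (N : Subgroup G) [N.Normal] :
    Nat.card (Sylow p G) = Nat.card (Sylow p N) *
      Nat.card (Sylow p (Subgroup.normalizer (((P : Subgroup G) ⊓ N : Subgroup G) : Set G))) := by
  set D : Subgroup G := (P : Subgroup G) ⊓ N with hD
  set M := Subgroup.normalizer (D : Set G) with hM
  have hmap : ((CfsgLib.sylowInfNormal P N : Sylow p N) : Subgroup N).map N.subtype = D := by
    rw [CfsgLib.coe_sylowInfNormal, Subgroup.subgroupOf_map_subtype]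
  have hPn : Subgroup.normalizer ((P : Subgroup G) : Set G) ≤ M := by
    intro g hg
    rw [hM, Subgroup.mem_normalizer_iff]
    intro x
    simp only [hD, Subgroup.mem_inf]
    refine and_congr (Subgroup.mem_normalizer_iff.mp hg x) ⟨fun h => Subgroup.Normal.conj_mem inferInstance x h g, fun h => ?_⟩
    have := Subgroup.Normal.conj_mem (inferInstance : N.Normal) _ h g⁻¹
    simpa [mul_assoc] using this
  have hPM : (P : Subgroup G) ≤ M := Subgroup.le_normalizer.trans hPn
  have hfr : M ⊔ N = ⊤ := by
    have := Sylow.normalizer_sup_eq_top (CfsgLib.sylowInfNormal P N)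
    rwa [hmap] at this
  have h1 : Nat.card (Sylow p N) = M.index := by
    rw [card_sylow' (CfsgLib.sylowInfNormal P N), CfsgLib.coe_sylowInfNormal, ← Subgroup.inf_subgroupOf_right,
      ← Subgroup.subgroupOf_normalizer_eq (inf_le_right : D ≤ N)]
    show M.relIndex N = M.index
    have a1 := Subgroup.relIndex_mul_relIndex (M ⊓ N) M (M ⊔ N) inf_le_left le_sup_left
    have a2 := Subgroup.relIndex_mul_relIndex (M ⊓ N) N (M ⊔ N) inf_le_right le_sup_right
    rw [Subgroup.inf_relIndex_left, hfr, Subgroup.relIndex_top_right] at a1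
    rw [Subgroup.inf_relIndex_right, Subgroup.relIndex_sup_right, hfr, ← a1, mul_comm (M.relIndex N)] at a2
    exact Nat.eq_of_mul_eq_mul_left (Nat.pos_of_ne_zero Subgroup.index_ne_zero_of_finite) a2
  have h2 : Nat.card (Sylow p M) = (Subgroup.normalizer ((P : Subgroup G) : Set G)).relIndex M := by
    rw [card_sylow' (P.subtype hPM), Sylow.coe_subtype, ← Subgroup.subgroupOf_normalizer_eq hPM]
    rfl
  rw [h1, h2, card_sylow' P, mul_comm, Subgroup.relIndex_mul_index hPn]

theorem sylow_card_quot_mul {G : Type u} [Group G] [Finite G] {p : ℕ} [Fact p.Prime] (P : Sylow p G)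
    (N : Subgroup G) [N.Normal] :
    Nat.card (Sylow p G) = Nat.card (Sylow p (G ⧸ N)) * Nat.card (Sylow p ((P : Subgroup G) ⊔ N : Subgroup G)) := by
  set H : Subgroup G := (P : Subgroup G) ⊔ N with hH
  set M := Subgroup.normalizer (H : Set G) with hM
  have hPH : (P : Subgroup G) ≤ H := le_sup_left
  have hHM : H ≤ M := Subgroup.le_normalizer
  have hs := QuotientGroup.mk'_surjective N
  have h1 : Nat.card (Sylow p (G ⧸ N)) = M.index := by
    rw [card_sylow' (P.mapSurjective hs), Sylow.coe_mapSurjective,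
      ← Subgroup.index_comap_of_surjective _ hs, Subgroup.comap_normalizer_eq_of_surjective _ hs,
      QuotientGroup.comap_map_mk', sup_comm]
  have : (H.subgroupOf M).Normal := Subgroup.normal_in_normalizer
  have hPN : Subgroup.normalizer ((P : Subgroup G) : Set G) ≤ M := by
    intro g hg
    rw [hM, Subgroup.mem_normalizer_iff]
    have key : ∀ g ∈ Subgroup.normalizer ((P : Subgroup G) : Set G), ∀ x ∈ H, g * x * g⁻¹ ∈ H := by
      intro g hg x hx
      have : H ≤ H.comap (MulAut.conj g).toMonoidHom := sup_le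
        (fun y hy => Subgroup.mem_sup_left ((Subgroup.mem_normalizer_iff.mp hg y).mp hy))
        (fun y hy => Subgroup.mem_sup_right (Subgroup.Normal.conj_mem inferInstance y hy g))
      exact this hx
    intro x
    refine ⟨key g hg x, fun hx => ?_⟩
    have := key g⁻¹ (Subgroup.inv_mem _ hg) _ hx
    simpa [mul_assoc] using this
  have hfr : M = H ⊔ Subgroup.normalizer ((P : Subgroup G) : Set G) := by
    refine le_antisymm (fun m hm => ?_) (sup_le hHM hPN)
    have := Sylow.normalizer_sup_eq_top (p := p) ((P.subtype (hPH.trans hHM)).subtype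
      (show ((P.subtype (hPH.trans hHM) : Sylow p M) : Subgroup M) ≤ H.subgroupOf M from
        fun y hy => hPH (show (y : G) ∈ (P : Subgroup G) from hy)))
    rw [Sylow.coe_subtype, Sylow.coe_subtype, Subgroup.map_subgroupOf_eq_of_le (show (P : Subgroup G).subgroupOf M ≤ H.subgroupOf M from fun y hy => hPH hy)] at this
    have hm' : (⟨m, hm⟩ : M) ∈ Subgroup.normalizer (((P : Subgroup G).subgroupOf M : Subgroup M) : Set M) ⊔ H.subgroupOf M := this ▸ Subgroup.mem_top _
    obtain ⟨a, ha, b, hb, hab⟩ := Subgroup.mem_sup_of_normal_right.mp hm'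
    rw [← Subgroup.subgroupOf_normalizer_eq (hPH.trans hHM)] at ha
    rw [← show (a : G) * (b : G) = m from congrArg Subtype.val hab]
    exact mul_mem (Subgroup.mem_sup_right ha) (Subgroup.mem_sup_left hb)
  have h2 : Nat.card (Sylow p H) = (Subgroup.normalizer ((P : Subgroup G) : Set G)).relIndex M := by
    rw [card_sylow' (P.subtype hPH), Sylow.coe_subtype, ← Subgroup.subgroupOf_normalizer_eq hPH]
    show (Subgroup.normalizer ((P : Subgroup G) : Set G)).relIndex H = _
    set K := Subgroup.normalizer ((P : Subgroup G) : Set G) with hK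
    have a1 := Subgroup.relIndex_mul_relIndex (H ⊓ K) H M inf_le_left hHM
    have a2 := Subgroup.relIndex_mul_relIndex (H ⊓ K) K M inf_le_right hPN
    rw [Subgroup.inf_relIndex_left] at a1
    rw [Subgroup.inf_relIndex_right] at a2
    have a3 : H.relIndex M = H.relIndex K := by
      show (H.subgroupOf M).index = _
      rw [← Subgroup.relIndex_subgroupOf hPN, ← Subgroup.relIndex_sup_right (K.subgroupOf M) (H.subgroupOf M),
        ← Subgroup.subgroupOf_sup hPN hHM, sup_comm, ← hfr, Subgroup.subgroupOf_self, Subgroup.relIndex_top_right]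
    rw [← a2, a3, mul_comm] at a1
    exact Nat.eq_of_mul_eq_mul_left (Nat.pos_of_ne_zero (relIndex_nz _ _)) a1
  rw [h1, h2, card_sylow' P, mul_comm, Subgroup.relIndex_mul_index hPN]

/-- A list of prime powers congruent to one. -/
theorem exists_list_of_forall {m p : ℕ} (hm : m ≠ 0)
    (h : ∀ q ∈ m.primeFactors, q ^ m.factorization q % p = 1) :
    ∃ l : List ℕ, l.prod = m ∧ ∀ k ∈ l, IsPrimePow k ∧ k % p = 1 := by
  refine ⟨m.primeFactors.toList.map fun q => q ^ m.factorization q, ?_, ?_⟩
  · rw [Finset.prod_map_toList]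
    exact Nat.prod_factorization_pow_eq_self hm
  · intro k hk
    obtain ⟨q, hq, rfl⟩ := List.mem_map.mp hk
    rw [Finset.mem_toList] at hq
    exact ⟨(isPrimePow_nat_iff _).mpr ⟨q, _, Nat.prime_of_mem_primeFactors hq,
      (Nat.prime_of_mem_primeFactors hq).factorization_pos_of_dvd hm (Nat.dvd_of_mem_primeFactors hq), rfl⟩, h q hq⟩

theorem coprime_factor {G : Type u} [Group G] [Finite G] {p q : ℕ} [Fact p.Prime] [Fact q.Prime]
    {A N : Subgroup G} (hA : IsPGroup p A) (hAN : A ≤ Subgroup.normalizer (N : Set G))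
    (hp : ¬ p ∣ Nat.card N) :
    q ^ ((Subgroup.centralizer (A : Set G)).relIndex N).factorization q % p = 1 := by
  set C := Subgroup.centralizer (A : Set G) with hC
  have hcop : (Nat.card A).Coprime (Nat.card N) := by
    obtain ⟨k, hk⟩ := IsPGroup.iff_card.mp hA
    rw [hk]
    exact Nat.Coprime.pow_left _ ((Nat.Prime.coprime_iff_not_dvd Fact.out).mpr hp)
  have hsolv : Group.IsSolvable A := by
    have := hA.isNilpotent
    infer_instance
  obtain ⟨R⟩ : Nonempty (Sylow q (N ⊓ C : Subgroup G)) := inferInstance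
  set R' := (R : Subgroup (N ⊓ C : Subgroup G)).map (N ⊓ C).subtype with hR'
  have hR'le : R' ≤ N ⊓ C := Subgroup.map_subtype_le _
  have hRA : A ≤ Subgroup.normalizer (R' : Set G) := by
    intro a ha
    rw [Subgroup.mem_normalizer_iff]
    have key : ∀ a ∈ A, ∀ x ∈ R', a * x * a⁻¹ = x := fun a ha x hx => by
      rw [Subgroup.mem_centralizer_iff.mp (hR'le hx).2 a ha, mul_inv_cancel_right]
    intro x
    refine ⟨fun hx => (key a ha x hx).symm ▸ hx, fun hx => ?_⟩
    have h1 := key a⁻¹ (A.inv_mem ha) _ hx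
    rw [show a⁻¹ * (a * x * a⁻¹) * a⁻¹⁻¹ = x by group] at h1
    rwa [← h1] at hx
  obtain ⟨Q, hRQ, hQA⟩ := CfsgLib.coprime_le_invariant_sylow hAN hcop (Or.inl hsolv)
    (hR'le.trans inf_le_left) (R.isPGroup'.map _) hRA
  set Q' := (Q : Subgroup N).map N.subtype with hQ'
  have hQN : Q' ≤ N := Subgroup.map_subtype_le _
  have hQp : IsPGroup q Q' := Q.isPGroup'.map _
  -- `Q' ⊓ C` has the order of `R'`
  have hQC : Nat.card (Q' ⊓ C : Subgroup G) = Nat.card R' := by
    have hle : R' ≤ Q' ⊓ C := le_inf hRQ (hR'le.trans inf_le_right)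
    refine le_antisymm ?_ (Subgroup.card_le_of_le hle)
    have hle' : Q' ⊓ C ≤ N ⊓ C := inf_le_inf_right _ hQN
    obtain ⟨k, hk⟩ := IsPGroup.iff_card.mp ((hQp.to_le inf_le_left : IsPGroup q (Q' ⊓ C : Subgroup G)))
    rw [Subgroup.card_map_of_injective (N ⊓ C).subtype_injective, R.card_eq_multiplicity, hk]
    refine Nat.pow_le_pow_right (Nat.Prime.pos Fact.out) ((Nat.Prime.pow_dvd_iff_le_factorization Fact.out Nat.card_pos.ne').mp ?_)
    rw [← hk]
    exact Subgroup.card_dvd_of_le hle'
  have hRcard : Nat.card R' = q ^ (Nat.card (N ⊓ C : Subgroup G)).factorization q := by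
    rw [Subgroup.card_map_of_injective (N ⊓ C).subtype_injective, R.card_eq_multiplicity]
  have hQcard : Nat.card Q' = q ^ (Nat.card N).factorization q := by
    rw [Subgroup.card_map_of_injective N.subtype_injective, Q.card_eq_multiplicity]
  have hrel : Nat.card N = C.relIndex N * Nat.card (N ⊓ C : Subgroup G) := by
    rw [← Subgroup.inf_relIndex_left N C, mul_comm, ← Subgroup.relIndex_bot_left, ← Subgroup.relIndex_bot_left]
    exact (Subgroup.relIndex_mul_relIndex ⊥ _ _ bot_le inf_le_left).symm
  have hfac : (Nat.card N).factorization q = (C.relIndex N).factorization q + (Nat.card (N ⊓ C : Subgroup G)).factorization q := by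
    rw [hrel, Nat.factorization_mul (relIndex_nz _ _) Nat.card_pos.ne', Finsupp.add_apply]
  -- fixed points
  have hmod : Nat.card Q' ≡ Nat.card (Q' ⊓ C : Subgroup G) [MOD p] := by
    let φ : A →* MulAut Q' :=
      { toFun := fun a =>
          { toFun := fun x => ⟨(a : G) * x * (a : G)⁻¹, (Subgroup.mem_normalizer_iff.mp (hQA a.2) x).mp x.2⟩
            invFun := fun x => ⟨(a : G)⁻¹ * x * (a : G), by
              have := (Subgroup.mem_normalizer_iff.mp (hQA (A.inv_mem a.2)) x).mp x.2
              simpa using this⟩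
            left_inv := fun x => Subtype.ext (by simp [mul_assoc])
            right_inv := fun x => Subtype.ext (by simp [mul_assoc])
            map_mul' := fun x y => Subtype.ext (by simp [mul_assoc]) }
        map_one' := MulEquiv.ext fun x => Subtype.ext (by simp)
        map_mul' := fun a b => MulEquiv.ext fun x => Subtype.ext (by simp [mul_assoc]) }
    letI : MulAction A Q' := MulAction.compHom Q' φ
    refine (hA.card_modEq_card_fixedPoints Q').trans (congrArg (· % p) ?_)
    exact Nat.card_congr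
      { toFun := fun x => ⟨x.1.1, x.1.2, Subgroup.mem_centralizer_iff.mpr fun a ha => by
          have h : a * (x.1 : G) * a⁻¹ = x.1 := congrArg Subtype.val (x.2 ⟨a, ha⟩)
          calc a * (x.1 : G) = a * (x.1 : G) * a⁻¹ * a := (inv_mul_cancel_right _ _).symm
            _ = (x.1 : G) * a := by rw [h]⟩
        invFun := fun x => ⟨⟨x.1, x.2.1⟩, fun a => Subtype.ext (by
          show (a : G) * x.1 * (a : G)⁻¹ = x.1
          rw [Subgroup.mem_centralizer_iff.mp x.2.2 _ a.2, mul_inv_cancel_right])⟩
        left_inv := fun x => rfl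
        right_inv := fun x => rfl }
  rw [hQcard, hQC, hRcard, hfac, pow_add] at hmod
  have hqb : p.Coprime (q ^ (Nat.card (N ⊓ C : Subgroup G)).factorization q) := by
    refine (Nat.Prime.coprime_iff_not_dvd Fact.out).mpr fun h => hp (h.trans ?_)
    rw [← hRcard]
    exact (Subgroup.card_dvd_of_le hR'le).trans (Subgroup.card_dvd_of_le inf_le_left)
  have h1 : q ^ (C.relIndex N).factorization q ≡ 1 [MOD p] :=
    Nat.ModEq.cancel_right_of_coprime hqb (by rwa [one_mul])
  rw [h1, Nat.mod_eq_of_lt (Nat.Prime.one_lt Fact.out)]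

theorem hall_sylow_number (p : ℕ) [Fact p.Prime] : ∀ (m : ℕ) (G : Type u) [Group G] [Finite G], Nat.card G = m →
    ∃ l : List ℕ, l.prod = Nat.card (Sylow p G) ∧ ∀ k ∈ l, (IsPrimePow k ∧ k % p = 1) ∨
        ∃ (S : Type u) (_ : Group S) (_ : Finite S), IsSimpleGroup S ∧ k = Nat.card (Sylow p S) := by
  intro m
  induction m using Nat.strong_induction_on with
  | _ m IH =>
  intro G _ _ hm
  subst hm
  classical
  have hmul : ∀ (A B : Type u) [Group A] [Finite A] [Group B] [Finite B], Nat.card A < Nat.card G → Nat.card B < Nat.card G →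
      Nat.card (Sylow p G) = Nat.card (Sylow p A) * Nat.card (Sylow p B) →
      ∃ l : List ℕ, l.prod = Nat.card (Sylow p G) ∧ ∀ k ∈ l, (IsPrimePow k ∧ k % p = 1) ∨
        ∃ (S : Type u) (_ : Group S) (_ : Finite S), IsSimpleGroup S ∧ k = Nat.card (Sylow p S) := by
    intro A B _ _ _ _ hA hB he
    obtain ⟨la, ha1, ha2⟩ := IH _ hA A rfl
    obtain ⟨lb, hb1, hb2⟩ := IH _ hB B rfl
    exact ⟨la ++ lb, by rw [List.prod_append, ha1, hb1, he], fun k hk => (List.mem_append.mp hk).elim (ha2 k) (hb2 k)⟩
  have hsub : ∀ H : Subgroup G, H ≠ ⊤ → Nat.card H < Nat.card G := fun H hH =>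
    lt_of_le_of_ne (Subgroup.card_le_card_group H) fun e => hH (Subgroup.eq_top_of_card_eq H e)
  rcases subsingleton_or_nontrivial G with hG | hG
  · exact ⟨[], by simp [Nat.card_eq_one_iff_unique.mpr ⟨(⟨fun a b => Sylow.ext (Subgroup.ext fun x => by simp [Subsingleton.elim x 1, one_mem])⟩ : Subsingleton (Sylow p G)), inferInstance⟩], by simp⟩
  by_cases hsimp : IsSimpleGroup G
  · exact ⟨[Nat.card (Sylow p G)], by simp, fun k hk => Or.inr ⟨G, inferInstance, inferInstance, hsimp, by simpa using hk⟩⟩
  obtain ⟨P⟩ : Nonempty (Sylow p G) := inferInstance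
  by_cases hA : ∃ N : Subgroup G, N.Normal ∧ N ≠ ⊥ ∧ (P : Subgroup G) ⊔ N ≠ ⊤
  · obtain ⟨N, hN, hNb, hPN⟩ := hA
    refine hmul (G ⧸ N) ((P : Subgroup G) ⊔ N : Subgroup G) ?_ (hsub _ hPN) (sylow_card_quot_mul P N)
    rw [Subgroup.card_eq_card_quotient_mul_card_subgroup N]
    exact lt_mul_of_one_lt_right Nat.card_pos ((Subgroup.one_lt_card_iff_ne_bot N).mpr hNb)
  push Not at hA
  obtain ⟨N, hN, hNb, hNt⟩ : ∃ N : Subgroup G, N.Normal ∧ N ≠ ⊥ ∧ N ≠ ⊤ := by
    by_contra h
    push Not at h
    exact hsimp ⟨fun N hN => or_iff_not_imp_left.mpr (h N hN)⟩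
  have hDcase := sylow_card_eq_mul P N
  by_cases hM : Subgroup.normalizer (((P : Subgroup G) ⊓ N : Subgroup G) : Set G) = ⊤
  · have hDn : ((P : Subgroup G) ⊓ N).Normal := Subgroup.normalizer_eq_top_iff.mp hM
    by_cases hD : (P : Subgroup G) ⊓ N = ⊥
    · have hpN : ¬ p ∣ Nat.card N := fun hd => by
        have h1 := CfsgLib.not_dvd_relIndex_of_sylow P N
        rw [← Subgroup.inf_relIndex_right, hD, Subgroup.relIndex_bot_left] at h1
        exact h1 hd
      set C := Subgroup.centralizer ((P : Subgroup G) : Set G) with hC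
      have hn : Nat.card (Sylow p G) = C.relIndex N := by
        set K := Subgroup.normalizer ((P : Subgroup G) : Set G) with hK
        have e1 : K ⊔ N = ⊤ := eq_top_iff.mpr ((hA N hN hNb).ge.trans (sup_le_sup_right Subgroup.le_normalizer _))
        have e2 : K ⊓ N = C ⊓ N := by
          refine le_antisymm (le_inf ?_ inf_le_right) (inf_le_inf_right _ (Subgroup.centralizer_le_normalizer _))
          intro x hx
          refine Subgroup.mem_centralizer_iff.mpr fun y hy => ?_
          have : ⁅x, y⁆ ∈ (P : Subgroup G) ⊓ N := by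
            refine ⟨?_, ?_⟩
            · rw [commutatorElement_def]
              exact (P : Subgroup G).mul_mem ((Subgroup.mem_normalizer_iff.mp hx.1 y).mp hy) ((P : Subgroup G).inv_mem hy)
            · rw [commutatorElement_def, mul_assoc x y, mul_assoc x]
              exact mul_mem hx.2 (hN.conj_mem _ (N.inv_mem hx.2) y)
          rw [hD, Subgroup.mem_bot, commutatorElement_eq_one_iff_mul_comm] at this
          exact this.symm
        have a1 := Subgroup.relIndex_mul_relIndex (K ⊓ N) K (K ⊔ N) inf_le_left le_sup_left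
        have a2 := Subgroup.relIndex_mul_relIndex (K ⊓ N) N (K ⊔ N) inf_le_right le_sup_right
        rw [Subgroup.inf_relIndex_left, e1, Subgroup.relIndex_top_right] at a1
        rw [Subgroup.relIndex_sup_right, e1, ← a1, mul_comm _ (N.relIndex K), e2, Subgroup.inf_relIndex_right] at a2
        rw [card_sylow' P]
        exact (Nat.eq_of_mul_eq_mul_left (Nat.pos_of_ne_zero (relIndex_nz _ _)) a2).symm
      obtain ⟨l, hl, hl'⟩ := exists_list_of_forall (p := p) (m := C.relIndex N) (relIndex_nz _ _) fun q hq => by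
        have := Fact.mk (Nat.prime_of_mem_primeFactors hq)
        exact coprime_factor P.isPGroup' (le_top.trans (Subgroup.normalizer_eq_top_iff.mpr hN).ge) hpN
      exact ⟨l, hl.trans hn.symm, fun k hk => Or.inl (hl' k hk)⟩
    · have htop := hA _ hDn hD
      rw [sup_eq_left.mpr inf_le_left] at htop
      have : (P : Subgroup G).Normal := htop ▸ inferInstance
      exact ⟨[], by rw [card_sylow' P, Subgroup.normalizer_eq_top_iff.mpr this, Subgroup.index_top, List.prod_nil], by simp⟩
  · exact hmul _ _ (hsub N hNt) (hsub _ hM) hDcase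

/-- For a finite group `G` and a prime `p`, the number of Sylow `p`-subgroups of `G` is a product of natural numbers each of which is either a prime power congruent to 1 modulo `p` or the number of Sylow `p`-subgroups of some finite simple group. -/
theorem result {G : Type u} [Group G] [Finite G]
    (p : ℕ) [Fact p.Prime] :
    ∃ l : List ℕ, l.prod = Nat.card (Sylow p G) ∧
      ∀ m ∈ l, (IsPrimePow m ∧ m % p = 1) ∨
        ∃ (S : Type u) (_ : Group S) (_ : Finite S), IsSimpleGroup S ∧ m = Nat.card (Sylow p S) := by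
  exact hall_sylow_number p _ G rfl

end Cfsg.Agent.S4303
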