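import Cfsg.Statements.S0826
import Mathlib

set_option autoImplicit false
open Cfsg

namespace Cfsg.Agent.S0826

open Matrix in
theorem embed (m : ℕ) (hm : 2 ≤ m) :
    ∃ f : Equiv.Perm (Fin (2 * (m + 1))) →* Matrix.symplecticGroup (Fin m) (ZMod 2), Function.Injective f := by
  classical
  let N := 2 * (m + 1)
  let ev : Fin m → (Fin N → ZMod 2) := fun i k => if (k : ℕ) = 2 * i ∨ (k : ℕ) = 2 * i + 1 then 1 else 0
  let fv : Fin m → (Fin N → ZMod 2) := fun i k => if 2 * (i : ℕ) + 1 ≤ k ∧ (k : ℕ) ≤ 2 * m then 1 else 0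
  let b : Fin m ⊕ Fin m → (Fin N → ZMod 2) := Sum.elim ev fv
  let one : (Fin N → ZMod 2) := fun _ => 1
  have two : (2 : ZMod 2) = 0 := rfl
  have hev : ∀ (i : Fin m) (x : (Fin N → ZMod 2)), ev i ⬝ᵥ x =
      x ⟨2 * i, by omega⟩ + x ⟨2 * i + 1, by omega⟩ := by
    intro i x
    have hs : ∀ k : Fin N, ev i k = (if k = ⟨2 * i, by omega⟩ then 1 else 0) +
        (if k = ⟨2 * i + 1, by omega⟩ then 1 else 0) := by
      intro k
      simp only [ev, Fin.ext_iff]
      split_ifs with h1 h2 h3 <;> first | omega | simp_all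
    simp only [dotProduct, hs, add_mul, Finset.sum_add_distrib, ite_mul, one_mul, zero_mul,
      Finset.sum_ite_eq', Finset.mem_univ, if_true]
  have hfdiff : ∀ (i j : Fin m), (j : ℕ) = i + 1 → ∀ k : Fin N, fv i k = fv j k +
      ((if k = ⟨2 * i + 1, by omega⟩ then 1 else 0) + (if k = ⟨2 * i + 2, by omega⟩ then 1 else 0)) := by
    intro i j hij k
    simp only [fv, Fin.ext_iff]
    split_ifs <;> first | omega | simp_all
  have hflast : ∀ (i : Fin m), (i : ℕ) + 1 = m → ∀ k : Fin N, fv i k =
      (if k = ⟨2 * i + 1, by omega⟩ then 1 else 0) + (if k = ⟨2 * i + 2, by omega⟩ then 1 else 0) := by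
    intro i hi k
    simp only [fv, Fin.ext_iff]
    split_ifs <;> first | omega | simp_all
  -- even weight
  have hfeven : ∀ d : ℕ, ∀ i : Fin m, (i : ℕ) + d + 1 = m → ∀ x : (Fin N → ZMod 2),
      fv i ⬝ᵥ x = ∑ l ∈ Finset.Ico (i : ℕ) m, (if h : l < m then
        x ⟨2 * l + 1, by omega⟩ + x ⟨2 * l + 2, by omega⟩ else 0) := by
    intro d
    induction d with
    | zero =>
      intro i hi x
      rw [show Finset.Ico (i : ℕ) m = {(i : ℕ)} by ext l; simp; omega, Finset.sum_singleton, dif_pos i.2]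
      simp only [dotProduct, hflast i (by omega), add_mul, Finset.sum_add_distrib, ite_mul, one_mul, zero_mul,
        Finset.sum_ite_eq', Finset.mem_univ, if_true]
    | succ d ih =>
      intro i hi x
      rw [Finset.sum_eq_sum_Ico_succ_bot i.2, dif_pos i.2]
      rw [← ih ⟨i + 1, by omega⟩ (by show (i : ℕ) + 1 + d + 1 = m; omega) x]
      simp only [dotProduct, hfdiff i ⟨i + 1, by omega⟩ rfl, add_mul, Finset.sum_add_distrib, ite_mul, one_mul,
        zero_mul, Finset.sum_ite_eq', Finset.mem_univ, if_true]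
      ring
  have hfv : ∀ (i : Fin m) (x : (Fin N → ZMod 2)), fv i ⬝ᵥ x = ∑ l ∈ Finset.Ico (i : ℕ) m, (if h : l < m then
        x ⟨2 * l + 1, by omega⟩ + x ⟨2 * l + 2, by omega⟩ else 0) :=
    fun i x => hfeven (m - 1 - i) i (by omega) x
  have hbone : ∀ i, b i ⬝ᵥ one = 0 := by
    rintro (i | i)
    · show ev i ⬝ᵥ one = 0
      rw [hev]; rfl
    · show fv i ⬝ᵥ one = 0
      rw [hfv]
      refine Finset.sum_eq_zero fun l hl => ?_
      rw [dif_pos (Finset.mem_Ico.mp hl).2]; rfl
  have hgram : ∀ i j, b i ⬝ᵥ b j = if j = Sum.swap i then 1 else 0 := by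
    have hef : ∀ i j : Fin m, ev i ⬝ᵥ fv j = if i = j then 1 else 0 := by
      intro i j
      rw [hev]
      simp only [fv, Fin.ext_iff]
      split_ifs <;> first | omega | rfl | simp_all
    have hee : ∀ i j : Fin m, ev i ⬝ᵥ ev j = 0 := by
      intro i j
      rw [hev]
      simp only [ev]
      split_ifs <;> first | omega | rfl | simp_all
    have hff : ∀ i j : Fin m, fv i ⬝ᵥ fv j = 0 := by
      intro i j
      rw [hfv]
      refine Finset.sum_eq_zero fun l hl => ?_
      obtain ⟨h1, h2⟩ := Finset.mem_Ico.mp hl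
      rw [dif_pos h2]
      simp only [fv]
      split_ifs <;> first | omega | rfl | simp_all
    rintro (i | i) (j | j)
    · rw [if_neg (by simp)]; exact hee i j
    · show ev i ⬝ᵥ fv j = _; rw [hef]; simp [eq_comm]
    · show fv i ⬝ᵥ ev j = _; rw [dotProduct_comm, hef]; simp
    · rw [if_neg (by simp)]; exact hff i j
  let P : (Fin N → ZMod 2) → (Fin m ⊕ Fin m → ZMod 2) := fun x i => b (Sum.swap i) ⬝ᵥ x
  have hzero : ∀ x : (Fin N → ZMod 2), x ⬝ᵥ one = 0 → (∀ i, b i ⬝ᵥ x = 0) → ∀ k k', x k = x k' := by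
    intro x hx hp
    have cancel : ∀ a c : ZMod 2, a + c = 0 → a = c := by decide
    have h1 : ∀ l : Fin m, x ⟨2 * l, by omega⟩ = x ⟨2 * l + 1, by omega⟩ := fun l => by
      have := hp (Sum.inl l)
      change ev l ⬝ᵥ x = 0 at this
      rw [hev] at this
      exact cancel _ _ this
    have h2 : ∀ l : Fin m, x ⟨2 * l + 1, by omega⟩ = x ⟨2 * l + 2, by omega⟩ := fun l => by
      have := hp (Sum.inr l)
      change fv l ⬝ᵥ x = 0 at this
      rw [hfv, Finset.sum_eq_sum_Ico_succ_bot l.2, dif_pos l.2] at this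
      have hrest : ∑ k ∈ Finset.Ico ((l : ℕ) + 1) m, (if h : k < m then
          x ⟨2 * k + 1, by omega⟩ + x ⟨2 * k + 2, by omega⟩ else 0) = 0 := by
        rcases eq_or_lt_of_le (show (l : ℕ) + 1 ≤ m from l.2) with h | h
        · rw [h]; simp
        · have := hp (Sum.inr ⟨l + 1, h⟩)
          change fv _ ⬝ᵥ x = 0 at this
          rwa [hfv] at this
      rw [hrest, add_zero] at this
      exact cancel _ _ this
    have hstep : ∀ k, (hk : k ≤ 2 * m) → x ⟨k, by omega⟩ = x ⟨0, by omega⟩ := by
      intro k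
      induction k with
      | zero => intro _; rfl
      | succ k ih =>
        intro hk
        rw [← ih (by omega)]
        rcases Nat.even_or_odd k with ⟨l, hl⟩ | ⟨l, hl⟩
        · have := h1 ⟨l, by omega⟩
          convert this.symm using 2 <;> ext <;> simp <;> omega
        · have := h2 ⟨l, by omega⟩
          convert this.symm using 2 <;> ext <;> simp <;> omega
    have hlast : x ⟨2 * m + 1, by omega⟩ = x ⟨0, by omega⟩ := by
      have e : x ⬝ᵥ one = ∑ k, x k := Finset.sum_congr rfl fun k _ => mul_one _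
      have hsum : ∑ k : Fin (2 * m + 2), x k = 0 := e.symm.trans hx
      rw [Fin.sum_univ_castSucc] at hsum
      have hc : ∀ k : Fin (2 * m + 1), x (Fin.castSucc k) = x ⟨0, by omega⟩ := fun k => hstep k (by omega)
      rw [Finset.sum_congr rfl (fun k _ => hc k)] at hsum
      simp [two] at hsum
      exact (cancel _ _ hsum).symm
    have hall : ∀ k : Fin N, x k = x ⟨0, by omega⟩ := by
      intro k
      by_cases hk : (k : ℕ) ≤ 2 * m
      · exact hstep k hk
      · rw [← hlast]; congr 1; ext; simp; omega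
    intro k k'
    rw [hall k, hall k']
  have hdec : ∀ x : (Fin N → ZMod 2), x ⬝ᵥ one = 0 → ∃ c : ZMod 2, x = (∑ i, P x i • b i) + c • one := by
    intro x hx
    let y := x - ∑ i, P x i • b i
    have hy1 : y ⬝ᵥ one = 0 := by
      show (x - ∑ i, P x i • b i) ⬝ᵥ one = 0
      rw [sub_dotProduct, hx, sum_dotProduct, zero_sub, neg_eq_zero]
      exact Finset.sum_eq_zero fun i _ => by rw [smul_dotProduct, hbone, smul_zero]
    have hy2 : ∀ i, b i ⬝ᵥ y = 0 := by
      intro i
      show b i ⬝ᵥ (x - ∑ k, P x k • b k) = 0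
      rw [dotProduct_sub, dotProduct_sum, Finset.sum_eq_single (Sum.swap i)]
      · rw [dotProduct_smul, hgram, if_pos rfl, smul_eq_mul, mul_one]
        show _ - b (Sum.swap (Sum.swap i)) ⬝ᵥ x = 0
        rw [Sum.swap_swap, sub_self]
      · intro k _ hk
        rw [dotProduct_smul, hgram, if_neg hk, smul_zero]
      · simp
    refine ⟨y ⟨0, by omega⟩, funext fun k => ?_⟩
    have := hzero y hy1 hy2 k ⟨0, by omega⟩
    rw [Pi.add_apply, Pi.smul_apply, ← this]
    show x k = (∑ i, P x i • b i) k + (x k - (∑ i, P x i • b i) k) * 1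
    ring
  let act : Equiv.Perm (Fin N) → (Fin N → ZMod 2) → (Fin N → ZMod 2) := fun π x => x ∘ π.symm
  have hact : ∀ π x y, act π x ⬝ᵥ act π y = x ⬝ᵥ y := fun π x y =>
    Equiv.sum_comp π.symm (fun k => x k * y k)
  have hactone : ∀ π, act π one = one := fun π => rfl
  have hacteven : ∀ π x, x ⬝ᵥ one = 0 → act π x ⬝ᵥ one = 0 := fun π x hx => by
    conv_lhs => rw [← hactone π]
    rw [hact, hx]
  let M : Equiv.Perm (Fin N) → Matrix (Fin m ⊕ Fin m) (Fin m ⊕ Fin m) (ZMod 2) :=
    fun π => Matrix.of fun i j => P (act π (b j)) i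
  have hlin : ∀ π x, x ⬝ᵥ one = 0 → ∃ c : ZMod 2,
      act π x = (∑ k, P x k • act π (b k)) + c • one := by
    intro π x hx
    obtain ⟨c, hc⟩ := hdec x hx
    refine ⟨c, ?_⟩
    conv_lhs => rw [hc]
    funext r
    simp only [act, one, Function.comp_apply, Pi.add_apply, Finset.sum_apply, Pi.smul_apply]
  have hmul : ∀ π ρ, M (π * ρ) = M π * M ρ := by
    intro π ρ
    ext i j
    obtain ⟨c, hc⟩ := hlin π (act ρ (b j)) (hacteven ρ _ (hbone j))
    show b (Sum.swap i) ⬝ᵥ act (π * ρ) (b j) = _
    rw [show act (π * ρ) (b j) = act π (act ρ (b j)) from rfl, hc, dotProduct_add, dotProduct_smul, hbone,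
      smul_zero, add_zero, dotProduct_sum, Matrix.mul_apply]
    refine Finset.sum_congr rfl fun k _ => ?_
    rw [dotProduct_smul, smul_eq_mul, mul_comm]
    rfl
  have hone : M 1 = 1 := by
    ext i j
    show b (Sum.swap i) ⬝ᵥ b j = _
    rw [hgram, Sum.swap_swap, Matrix.one_apply]
    simp [eq_comm]
  have hJ : ∀ i j, Matrix.J (Fin m) (ZMod 2) i j = if j = Sum.swap i then 1 else 0 := by
    rintro (i | i) (j | j) <;> simp [Matrix.J, Matrix.one_apply, eq_comm] <;>
      split_ifs <;> first | rfl | simp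
  have hsymp : ∀ π, M π ∈ Matrix.symplecticGroup (Fin m) (ZMod 2) := by
    intro π
    rw [SymplecticGroup.mem_iff']
    ext j l
    obtain ⟨c, hc⟩ := hdec (act π (b j)) (hacteven π _ (hbone j))
    calc ((M π)ᵀ * Matrix.J (Fin m) (ZMod 2) * M π) j l
        = ∑ k, M π k j * M π (Sum.swap k) l := by
          rw [Matrix.mul_assoc, Matrix.mul_apply]
          refine Finset.sum_congr rfl fun k _ => ?_
          rw [Matrix.transpose_apply, Matrix.mul_apply]
          simp [hJ, ite_mul]
      _ = act π (b j) ⬝ᵥ act π (b l) := by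
          conv_rhs => rw [hc]
          rw [add_dotProduct, smul_dotProduct, dotProduct_comm one, hacteven π _ (hbone l), smul_zero, add_zero,
            sum_dotProduct]
          refine Finset.sum_congr rfl fun k _ => ?_
          simp [M, P, smul_dotProduct, smul_eq_mul]
      _ = _ := by rw [hact, hgram, hJ]
  let f : Equiv.Perm (Fin N) →* Matrix.symplecticGroup (Fin m) (ZMod 2) :=
    { toFun := fun π => ⟨M π, hsymp π⟩
      map_one' := Subtype.ext hone
      map_mul' := fun π ρ => Subtype.ext (hmul π ρ) }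
  refine ⟨f, ?_⟩
  rw [injective_iff_map_eq_one]
  intro π hπ
  have hM : M π = 1 := congrArg Subtype.val hπ
  have hfix : ∀ x : (Fin N → ZMod 2), x ⬝ᵥ one = 0 → ∃ c : ZMod 2, act π x = x + c • one := by
    intro x hx
    have hk : ∀ k, ∃ c : ZMod 2, act π (b k) = b k + c • one := by
      intro k
      obtain ⟨c, hc⟩ := hdec (act π (b k)) (hacteven π _ (hbone k))
      refine ⟨c, ?_⟩
      rw [hc]
      congr 1
      rw [Finset.sum_eq_single k]
      · rw [show P (act π (b k)) k = 1 from by
          show M π k k = 1; rw [hM, Matrix.one_apply_eq], one_smul]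
      · intro i _ hik
        rw [show P (act π (b k)) i = 0 from by
          show M π i k = 0; rw [hM, Matrix.one_apply_ne hik], zero_smul]
      · simp
    choose c hc using hk
    obtain ⟨c₀, hc₀⟩ := hlin π x hx
    obtain ⟨c₁, hc₁⟩ := hdec x hx
    refine ⟨(∑ k, P x k * c k) + c₀ - c₁, funext fun r => ?_⟩
    rw [hc₀, Pi.add_apply x, congrFun hc₁ r]
    simp only [Pi.add_apply, Finset.sum_apply, Pi.smul_apply, hc, one, smul_eq_mul, mul_one, mul_add,
      Finset.sum_add_distrib]
    ring
  have hpair : ∀ a c : Fin N, a ≠ c → π a = a ∨ π a = c := by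
    intro a c hac
    let x : (Fin N → ZMod 2) := fun k => if k = a ∨ k = c then 1 else 0
    have hx : x ⬝ᵥ one = 0 := by
      have : ∀ k, x k = (if k = a then 1 else 0) + (if k = c then 1 else 0) := by
        intro k
        by_cases h1 : k = a
        · simp [x, h1, hac]
        · simp [x, h1]
      simp [dotProduct, one, this, Finset.sum_add_distrib]
      rfl
    obtain ⟨d, hd⟩ := hfix x hx
    obtain ⟨z, hz⟩ : ∃ z : Fin N, z ∉ ({a, c, π a, π c} : Finset (Fin N)) := by
      by_contra h
      push Not at h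
      have h1 := Finset.card_le_card (fun k _ => h k : (Finset.univ : Finset (Fin N)) ⊆ {a, c, π a, π c})
      have h2 : ({a, c, π a, π c} : Finset (Fin N)).card ≤ 4 := Finset.card_le_four
      simp [N] at h1
      omega
    simp only [Finset.mem_insert, Finset.mem_singleton, not_or] at hz
    obtain ⟨z1, z2, z3, z4⟩ := hz
    have h3 := congrFun hd z
    have hza : ¬ π.symm z = a := fun h => z3 (by rw [← h, Equiv.apply_symm_apply])
    have hzc : ¬ π.symm z = c := fun h => z4 (by rw [← h, Equiv.apply_symm_apply])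
    have h3' : (0 : ZMod 2) = 0 + d * 1 := by simpa [act, x, one, z1, z2, hza, hzc] using h3
    rw [zero_add, mul_one] at h3'
    have h4 := congrFun hd (π a)
    rw [← h3', zero_smul, add_zero] at h4
    by_contra hne
    have e1 : x (π a) = 0 := if_neg hne
    have e2 : act π x (π a) = 1 := by simp [act, x]
    rw [e1, e2] at h4
    exact one_ne_zero h4
  apply Equiv.ext
  intro a
  obtain ⟨c, hc⟩ : ∃ c, c ∉ ({a, π a} : Finset (Fin N)) := by
    by_contra h
    push Not at h
    have h1 := Finset.card_le_card (fun k _ => h k : (Finset.univ : Finset (Fin N)) ⊆ {a, π a})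
    have h2 : ({a, π a} : Finset (Fin N)).card ≤ 2 := Finset.card_le_two
    simp [N] at h1
    omega
  simp only [Finset.mem_insert, Finset.mem_singleton, not_or] at hc
  rcases hpair a c (Ne.symm hc.1) with h | h
  · exact h
  · exact absurd h.symm hc.2

/-- S_2n ≤ Sp_(2n−2)(2) for n ≥ 3: there is an injective homomorphism from the symmetric group on 2n letters into the symplectic group of degree 2n − 2 over the field with two elements. -/
theorem result (n : ℕ) (hn : 3 ≤ n) : ∃ f : Equiv.Perm (Fin (2 * n)) →* Matrix.symplecticGroup (Fin (n - 1)) (ZMod 2), Function.Injective f := by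
  obtain ⟨m, rfl⟩ : ∃ m, n = m + 1 := ⟨n - 1, by omega⟩
  exact embed m (by omega)

end Cfsg.Agent.S0826
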