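import Cfsg.Statements.S0247
import Mathlib
import Cfsg.Agent.S0826
import Cfsg.Agent.S0245

set_option autoImplicit false
open Cfsg

namespace Cfsg.Agent.S0247



/-- Sp_4(2) is isomorphic to the symmetric group S_6. -/
theorem result {F : Type*} [Field F] [Fintype F] (hF : Fintype.card F = 2) : Nonempty (Matrix.symplecticGroup (Fin 2) F ≃* Equiv.Perm (Fin 6)) := by
  classical
  obtain ⟨f, hf⟩ := Cfsg.Agent.S0826.result 3 le_rfl
  haveI : CharP F 2 := charP_of_card_eq_prime hF
  haveI : Fact (Nat.Prime 2) := ⟨Nat.prime_two⟩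
  let e : ZMod 2 ≃+* F := ZMod.ringEquivOfPrime F Nat.prime_two hF
  let ψ : Matrix.symplecticGroup (Fin 2) (ZMod 2) →* Matrix.symplecticGroup (Fin 2) F :=
    { toFun := fun A => ⟨A.1.map e, SymplecticGroup.map_mem A.2 e.toRingHom⟩
      map_one' := Subtype.ext (Matrix.map_one _ (map_zero e) (map_one e))
      map_mul' := fun A B => Subtype.ext (Matrix.map_mul (f := e.toRingHom)) }
  have hψ : Function.Injective ψ := fun A B h =>
    Subtype.ext (Matrix.map_injective e.injective (congrArg Subtype.val h))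
  let g : Equiv.Perm (Fin 6) →* Matrix.symplecticGroup (Fin 2) F := ψ.comp f
  have hg : Function.Injective g := hψ.comp hf
  have hc : Nat.card (Equiv.Perm (Fin 6)) = Nat.card (Matrix.symplecticGroup (Fin 2) F) := by
    rw [Cfsg.Agent.S0245.result hF 2, Nat.card_perm, Nat.card_fin]
    simp [Finset.prod_range_succ, Nat.factorial]
  exact ⟨(MulEquiv.ofBijective g ((Nat.bijective_iff_injective_and_card g).mpr ⟨hg, hc⟩)).symm⟩

end Cfsg.Agent.S0247
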