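import Cfsg.Statements.S3230
import Cfsg.Agent.Lib.U6Chz.Setup
import Cfsg.Agent.Lib.U6Chz.SixBuild
import Cfsg.Agent.Lib.U6Rec.Final

set_option autoImplicit false
open Cfsg

namespace Cfsg.Agent.S3230

/-- Let G be a finite group with an involution z, H = C_G(z), such that J = O₂(H) is extraspecial of order 2⁹ with C_H(J) ≤ J and H/J ≅ PSp₄(3). Then G ≅ U₆(2) or G = H·O(G). -/
theorem result {G : Type*} [Group G] [Finite G] (z : G) (hz : orderOf z = 2)
    {F : Type*} [Field F] [Fintype F] (hF : Fintype.card F = 3) {K : Type*} [Field K] [Fintype K] (hK : Fintype.card K = 4)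
    (hJ : Cfsg.IsExtraspecial 2 ↥(Cfsg.pCore 2 ↥(Subgroup.centralizer ({z} : Set G)))) (hJc : Nat.card ↥(Cfsg.pCore 2 ↥(Subgroup.centralizer ({z} : Set G))) = 2 ^ 9)
    (hCJ : Subgroup.centralizer ((Cfsg.pCore 2 ↥(Subgroup.centralizer ({z} : Set G))) : Set ↥(Subgroup.centralizer ({z} : Set G))) ≤ Cfsg.pCore 2 ↥(Subgroup.centralizer ({z} : Set G))) [hJn : (Cfsg.pCore 2 ↥(Subgroup.centralizer ({z} : Set G))).Normal]
    (e : (↥(Subgroup.centralizer ({z} : Set G)) ⧸ Cfsg.pCore 2 ↥(Subgroup.centralizer ({z} : Set G))) ≃* Cfsg.PSp 2 F) :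
    Nonempty (G ≃* Cfsg.PSU 6 K 2) ∨ Subgroup.centralizer ({z} : Set G) ⊔ Cfsg.oddCore G = ⊤ := by
  classical
  obtain ⟨D, rfl, hJ'⟩ := CfsgLib.U6Chz.chz_of_hyp z hz hJ hJc hCJ
  set H := Subgroup.centralizer ({D.z} : Set G)
  set P := Cfsg.pCore 2 ↥H
  have cz : ∀ h : H, Commute (h : G) D.z := fun h => Subgroup.mem_centralizer_singleton_iff.mp h.2
  have hH : ∀ {h : G}, Commute h D.z → h ∈ H := fun hh => Subgroup.mem_centralizer_singleton_iff.mpr hh
  let π : H →* H ⧸ P := QuotientGroup.mk' P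
  have hπ : Function.Surjective π := QuotientGroup.mk'_surjective P
  have hk : ∀ h : H, π h = 1 ↔ (h : G) ∈ D.J := fun h => by
    rw [hJ', ← QuotientGroup.eq_one_iff]; rfl
  let A := CfsgLib.U6Chz.action D π hπ hk
  haveI : Finite (H ⧸ P) := Finite.of_surjective π hπ
  have hA : ∀ (h : G) (hh : Commute h D.z), ∀ v < 256, A.act (π ⟨h, hH hh⟩) v = D.act h v := fun h hh v hv =>
    CfsgLib.U6Chz.action_act D π hπ hk ⟨h, hH hh⟩ hv
  rcases CfsgLib.U42Act.ident hF e A with ⟨ψ, r, hψ, hq, hrU, hrs, hr⟩ | ⟨ψ, ε, hε, hψ, hq, hfix, hlow⟩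
  · -- natural coordinates
    let ρ : G → ℕ := fun h => if hh : h ∈ H then r (π ⟨h, hh⟩) else CfsgLib.U6Rec.one
    have ρe : ∀ (h : G) (hh : Commute h D.z), ρ h = r (π ⟨h, hH hh⟩) := fun h hh => dif_pos (hH hh)
    let C : CfsgLib.U6Rec.Core G :=
      { z := D.z
        hz := hz
        J := D.J
        zJ := D.zJ
        Jz := D.Jz
        Jcard := D.Jcard
        conjJ := D.conjJ
        κ := fun g => CfsgLib.U6Chz.inverse ψ (D.κ g)
        κ_lt := fun j hj => (CfsgLib.U6Chz.inverse_spec hψ (D.κ_lt j hj)).1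
        κ_mul := fun a ha b hb => by
          rw [D.κ_mul a ha b hb, CfsgLib.U6Chz.inverse_add hψ (D.κ_lt a ha) (D.κ_lt b hb)]
        κ_ker := fun j hj => by rw [CfsgLib.U6Chz.inverse_zero hψ (D.κ_lt j hj), D.κ_ker j hj]
        κ_surj := fun v hv => by
          obtain ⟨j, hj, ej⟩ := D.κ_surj _ (hψ.lt v hv)
          exact ⟨j, hj, by rw [ej, CfsgLib.U6Chz.inverse_apply hψ hv]⟩
        sq := fun j hj => by
          obtain ⟨l, el⟩ := CfsgLib.U6Chz.inverse_spec hψ (D.κ_lt j hj)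
          rw [← hq _ l]
          show j * j = if A.q (ψ (CfsgLib.U6Chz.inverse ψ (D.κ j))) = 1 then D.z else 1
          rw [el]; exact D.sq hj
        ρ := ρ
        ρ_mem := fun h hh => by rw [ρe h hh]; exact hrU _
        κ_conj := fun h hh j hj => by
          obtain ⟨l, el⟩ := CfsgLib.U6Chz.inverse_spec hψ (D.κ_lt j hj)
          rw [← D.act_κ hh hj, ← hA h hh _ (D.κ_lt j hj)]
          conv_lhs => rw [← el]
          rw [hr _ _ l, CfsgLib.U6Chz.inverse_apply hψ (CfsgLib.U6Rec.app_lt _ _), ← ρe h hh]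
        ρ_surj := fun g hg => by
          obtain ⟨x, hx⟩ := hrs g hg
          obtain ⟨h, rfl⟩ := hπ x
          exact ⟨h.1, cz h, (ρe _ (cz h)).trans hx⟩
        cent := D.cent }
    by_cases hne : C.NonIsolated
    · exact Or.inl (C.iso_psu hne hK)
    · refine Or.inr (CfsgLib.U6Chz.sup_core hz fun g hg => ?_)
      by_contra hn
      exact hne ⟨g, hg.symm, hn⟩
  · -- six plus two coordinates
    refine Or.inr (CfsgLib.U6Chz.sup_core hz fun g hg => ?_)
    have l2 : ∀ {v}, v < 64 → v < 256 := fun h => by omega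
    have isom : ∀ x, ∃ g : CfsgLib.SixTwoType.XG, ∀ v < 64, A.act x (ψ v) = ψ (CfsgLib.SixTwoType.pw g v) := by
      intro x
      choose w hw ew using hlow x
      let f : ℕ → ℕ := fun v => if hv : v < 64 then w v hv else 0
      have fe : ∀ v (hv : v < 64), f v = w v hv := fun v hv => dif_pos hv
      obtain ⟨g, hg⟩ := CfsgLib.SixTwoType.isom_psi f (fun v hv => by rw [fe v hv]; exact hw v hv)
        (fun u hu v hv => by
          have hl := Nat.xor_lt_two_pow (n := 6) hu hv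
          rw [fe _ hl, fe u hu, fe v hv]
          refine hψ.inj _ _ (l2 (hw _ hl)) (CfsgLib.U42Act.xlt (l2 (hw _ hu)) (l2 (hw _ hv))) ?_
          rw [hψ.add _ _ (l2 (hw _ hu)) (l2 (hw _ hv)), ← ew, ← ew, ← ew, hψ.add u v (l2 hu) (l2 hv),
            A.add x _ _ (hψ.lt u (l2 hu)) (hψ.lt v (l2 hv))])
        (fun v hv => by
          rw [fe v hv, ← (CfsgLib.SixTwoType.qW_split ε hε _ (l2 (hw v hv))).2.2.2.1 (hw v hv),
            ← (CfsgLib.SixTwoType.qW_split ε hε v (l2 hv)).2.2.2.1 hv, ← hq _ (l2 (hw v hv)), ← ew,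
            A.q_inv x _ (hψ.lt v (l2 hv)), hq v (l2 hv)])
      exact ⟨g, fun v hv => by rw [ew v hv, hg v hv, fe v hv]⟩
    choose s hs using isom
    have whole : ∀ x, (∀ v < 64, A.act x (ψ v) = ψ v) → x = 1 := fun x hx => A.faithful x fun w hw => by
      obtain ⟨v, hv, rfl⟩ := hψ.surj w hw
      obtain ⟨e1, l, lu, hu, -, -⟩ := CfsgLib.SixTwoType.parts v hv
      rw [e1, hψ.add _ _ (l2 l) lu, A.add x _ _ (hψ.lt _ (l2 l)) (hψ.lt _ lu), hx _ l, hfix x _ lu hu]
    have smul : ∀ x y, s (x * y) = s x * s y := by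
      intro x y
      rw [← inv_mul_eq_one]
      refine CfsgLib.SixTwoType.pw_inj fun v hv => ?_
      have : CfsgLib.SixTwoType.pw (s (x * y)) v = CfsgLib.SixTwoType.pw (s x * s y) v := by
        refine hψ.inj _ _ (CfsgLib.SixTwoType.pw_lt _ _) (CfsgLib.SixTwoType.pw_lt _ _) ?_
        rw [← hs _ v hv, A.mul x y _ (hψ.lt v (l2 hv)), hs y v hv, hs x _ (CfsgLib.SixTwoType.pw_six _ hv),
          CfsgLib.SixTwoType.pw_mul]
      rw [CfsgLib.SixTwoType.pw_mul, ← this, CfsgLib.SixTwoType.pw_inv_self _ (l2 hv)]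
    let S : (H ⧸ P) →* CfsgLib.SixTwoType.XG := MonoidHom.mk' s smul
    have Sinj : Function.Injective S := by
      rw [← MonoidHom.ker_eq_bot_iff, eq_bot_iff]
      intro x hx
      refine Subgroup.mem_bot.mpr (whole x fun v hv => ?_)
      have e1 : s x = 1 := hx
      rw [hs x v hv, e1, CfsgLib.SixTwoType.pw_one (l2 hv)]
    haveI : IsSimpleGroup (H ⧸ P) := by
      haveI := CfsgLib.U42Act.psp_simple hF
      haveI : Nontrivial (H ⧸ P) := e.toEquiv.nontrivial
      exact IsSimpleGroup.isSimpleGroup_of_surjective e.symm.toMonoidHom e.symm.surjective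
    have cardX : Nat.card (H ⧸ P) = 25920 := (Nat.card_congr e.toEquiv).trans (CfsgLib.U42Act.card_psp hF)
    have hrange : S.range = CfsgLib.SixTwoType.X0 := CfsgLib.U6Chz.range_X0 cardX S Sinj
    refine CfsgLib.U6Chz.six_isolated D hε hψ hq (fun h hh v hv => ?_) (fun h hh v hv hv0 => ⟨v, hv, hv0, ?_⟩)
      (fun g hg => ?_) (fun h hh hf => ?_) g hg.symm
    · obtain ⟨w, hw, ew⟩ := hlow (π ⟨h, hH hh⟩) v hv
      exact ⟨w, hw, by rw [← hA h hh _ (hψ.lt v (l2 hv)), ew]⟩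
    · rw [← hA h hh _ (hψ.lt v hv), hfix _ v hv hv0]
    · rw [← hrange] at hg
      obtain ⟨x, rfl⟩ := hg
      obtain ⟨h, rfl⟩ := hπ x
      exact ⟨h.1, cz h, fun v hv => (hA _ (cz h) _ (hψ.lt v (l2 hv))).symm.trans (hs _ v hv),
        fun v hv hv0 => (hA _ (cz h) _ (hψ.lt v hv)).symm.trans (hfix _ v hv hv0)⟩
    · refine (hk ⟨h, hH hh⟩).mp (whole _ fun v hv => ?_)
      rw [hA h hh _ (hψ.lt v (l2 hv)), hf v hv]

end Cfsg.Agent.S3230
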