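import Cfsg.Statements.S0814
import Cfsg.Agent.Lib.PolarAut.SpOut

set_option autoImplicit false
open Cfsg

namespace Cfsg.Agent.S0814

/-- |Aut(PSp_2m(q))| = gcd(2, q−1) · f · |PSp_2m(q)| for q = p^f, m ≥ 2, (m, q) ≠ (2, 2), with an extra factor 2 exactly when m = 2 and p = 2. -/
theorem result {F : Type*} [Field F] [Fintype F] (p f : ℕ) [Fact p.Prime] (hf : 1 ≤ f) (hF : Fintype.card F = p ^ f) (m : ℕ) (hm : 2 ≤ m) (h22 : m = 2 → 3 ≤ p ^ f) : Nat.card (MulAut (Cfsg.PSp m F)) = (if m = 2 ∧ p = 2 then 2 else 1) * Nat.gcd 2 (p ^ f - 1) * f * Nat.card (Cfsg.PSp m F) := by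
  have hF' : Nat.card F = p ^ f := by rw [Nat.card_eq_fintype_card, hF]
  haveI : CharP F p := CfsgLib.PolarAut.charP_of_natCard hF'
  have h22' : m = 2 → 3 ≤ Fintype.card F := fun h => hF.symm ▸ h22 h
  rw [← (Cfsg.Inn (Cfsg.PSp m F)).card_mul_index, CfsgLib.PSpAut.card_inn hm h22']
  by_cases h : m = 2 ∧ p = 2
  · obtain ⟨rfl, rfl⟩ := h
    have h1 : Nat.gcd 2 (2 ^ f - 1) = 1 :=
      ((Nat.Even.sub_odd Nat.one_le_two_pow (Nat.even_pow.2 ⟨even_two, by omega⟩) odd_one).coprime_two_left)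
    rw [if_pos ⟨rfl, rfl⟩, h1, Subgroup.index_eq_card, CfsgLib.PSpAut.card_out_two hf hF']
    ring
  · have h4 : m = 2 → (2 : F) ≠ 0 := fun h2 hz => h ⟨h2, by
      have hd := (CharP.cast_eq_zero_iff F p 2).mp (by exact_mod_cast hz)
      exact (Nat.prime_dvd_prime_iff_eq Fact.out Nat.prime_two).mp hd⟩
    obtain ⟨π, hs, hk, -⟩ := CfsgLib.PSpAut.exists_fieldPart hm h4 h22'
    rw [if_neg h, ← Subgroup.relIndex_mul_index CfsgLib.PSpAut.inn_le_inndiag,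
      (CfsgLib.PSpAut.inndiag_quotient hm h22').1, hF, ← hk, Subgroup.index_ker,
      MonoidHom.range_eq_top.mpr hs, Subgroup.card_top, (CfsgLib.Chev.ringAut_cyclic_card p hF').2]
    ring

end Cfsg.Agent.S0814
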