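import Cfsg.Statements.S3231
import Cfsg.Agent.S3230
import Cfsg.Agent.S0814
import Cfsg.Agent.Lib.U6Chz.Aut.Build

set_option autoImplicit false
open Cfsg

namespace Cfsg.Agent.S3231

/-- Being extraspecial passes along isomorphisms. -/
theorem extraspecial_equiv {X : Type*} {Y : Type*} [Group X] [Group Y] {p : ℕ} (e : X ≃* Y)
    (h : Cfsg.IsExtraspecial p X) : Cfsg.IsExtraspecial p Y := by
  obtain ⟨⟨hp, hf, hd⟩, hc⟩ := h
  have hcen : (Subgroup.center X).map e.toMonoidHom = Subgroup.center Y := by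
    ext y
    rw [Subgroup.mem_map_equiv, Subgroup.mem_center_iff, Subgroup.mem_center_iff]
    constructor
    · intro hh z
      apply e.symm.injective
      rw [map_mul, map_mul]
      exact hh _
    · intro hh z
      apply e.injective
      simp only [map_mul, MulEquiv.apply_symm_apply]
      exact hh _
  have hfr : (frattini X).map e.toMonoidHom = frattini Y := by
    refine le_antisymm ?_ ?_
    · exact Subgroup.map_le_iff_le_comap.mpr (frattini_le_comap_frattini_of_surjective e.surjective)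
    · intro y hy
      rw [Subgroup.mem_map_equiv]
      exact frattini_le_comap_frattini_of_surjective (φ := e.symm.toMonoidHom) e.symm.surjective hy
  refine ⟨⟨hp.of_equiv e, ?_, ?_⟩, ?_⟩
  · rw [← hfr, hf, hcen]
  · rw [← hcen, ← hd, _root_.commutator_def, _root_.commutator_def, Subgroup.map_commutator,
      Subgroup.map_top_of_surjective e.toMonoidHom e.surjective]
  · rw [← hcen, Subgroup.card_map_of_injective (f := e.toMonoidHom) e.injective, hc]

/-- The two-core of a group with a simple quotient that is not a two-group. -/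
theorem pCore_eq {H1 : Type*} [Group H1] [Finite H1] {Y : Type*} [Group Y] [Finite Y] [IsSimpleGroup Y] (f : H1 →* Y)
    (hf : Function.Surjective f) (hY : Nat.card Y = 25920) (hk : IsPGroup 2 f.ker) : Cfsg.pCore 2 H1 = f.ker := by
  haveI : Fact (Nat.Prime 2) := ⟨Nat.prime_two⟩
  refine le_antisymm ?_ (CfsgLib.le_pCore hk)
  have hn : ((Cfsg.pCore 2 H1).map f).Normal := Subgroup.Normal.map inferInstance f hf
  rcases hn.eq_bot_or_eq_top with h | h
  · exact (Subgroup.map_eq_bot_iff _).mp h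
  · exfalso
    obtain ⟨n, hn⟩ := IsPGroup.iff_card.mp (((CfsgLib.isPGroup_pCore 2 : IsPGroup 2 (Cfsg.pCore 2 H1)).map f))
    rw [h, Subgroup.card_top, hY] at hn
    have h5 : 5 ∣ 2 ^ n := ⟨5184, by omega⟩
    have := (Nat.prime_dvd_prime_iff_eq Nat.prime_five Nat.prime_two).mp (Nat.prime_five.dvd_of_dvd_pow h5)
    omega


/-- Let G be a finite group with an involution z, H = C_G(z), such that J = O₂(H) is extraspecial of order 2⁹ with C_H(J) ≤ J and H/J ≅ Aut(PSp₄(3)). Then either G has a subgroup G₀ of index 2 with G₀ ≅ U₆(2) and C_G(G₀) = 1 (so that G embeds in Aut(G₀)), or G = H·O(G). -/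
theorem result {G : Type*} [Group G] [Finite G] (z : G) (hz : orderOf z = 2)
    {F : Type*} [Field F] [Fintype F] (hF : Fintype.card F = 3) {K : Type*} [Field K] [Fintype K] (hK : Fintype.card K = 4)
    (hJ : Cfsg.IsExtraspecial 2 ↥(Cfsg.pCore 2 ↥(Subgroup.centralizer ({z} : Set G)))) (hJc : Nat.card ↥(Cfsg.pCore 2 ↥(Subgroup.centralizer ({z} : Set G))) = 2 ^ 9)
    (hCJ : Subgroup.centralizer ((Cfsg.pCore 2 ↥(Subgroup.centralizer ({z} : Set G))) : Set ↥(Subgroup.centralizer ({z} : Set G))) ≤ Cfsg.pCore 2 ↥(Subgroup.centralizer ({z} : Set G))) [hJn : (Cfsg.pCore 2 ↥(Subgroup.centralizer ({z} : Set G))).Normal]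
    (e : (↥(Subgroup.centralizer ({z} : Set G)) ⧸ Cfsg.pCore 2 ↥(Subgroup.centralizer ({z} : Set G))) ≃* MulAut (Cfsg.PSp 2 F)) :
    (∃ G₀ : Subgroup G, G₀.index = 2 ∧ Nonempty (↥G₀ ≃* Cfsg.PSU 6 K 2) ∧ Subgroup.centralizer (G₀ : Set G) = ⊥) ∨
      Subgroup.centralizer ({z} : Set G) ⊔ Cfsg.oddCore G = ⊤ := by
  classical
  obtain ⟨D, rfl, hJ'⟩ := CfsgLib.U6Chz.chz_of_hyp z hz hJ hJc hCJ
  set H := Subgroup.centralizer ({D.z} : Set G) with hH
  set P := Cfsg.pCore 2 ↥H with hP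
  have cz : ∀ h : H, Commute (h : G) D.z := fun h => Subgroup.mem_centralizer_singleton_iff.mp h.2
  let π : ↥H →* ↥H ⧸ P := QuotientGroup.mk' P
  have hπ : Function.Surjective π := QuotientGroup.mk'_surjective P
  have hk : ∀ h : H, π h = 1 ↔ (h : G) ∈ D.J := fun h => by
    rw [hJ', ← QuotientGroup.eq_one_iff]; rfl
  haveI : Finite (↥H ⧸ P) := Finite.of_surjective π hπ
  haveI := CfsgLib.U42Act.psp_simple hF
  have cPSp : Nat.card (Cfsg.PSp 2 F) = 25920 := CfsgLib.U42Act.card_psp hF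
  haveI : Finite (Cfsg.PSp 2 F) := Nat.finite_of_card_ne_zero (by rw [cPSp]; norm_num)
  have cAut : Nat.card (MulAut (Cfsg.PSp 2 F)) = 51840 := by
    haveI : Fact (Nat.Prime 3) := ⟨Nat.prime_three⟩
    rw [Cfsg.Agent.S0814.result 3 1 le_rfl (by rw [hF]; norm_num) 2 le_rfl (fun _ => by norm_num), cPSp]
    norm_num
  have conjInj : Function.Injective (MulAut.conj : Cfsg.PSp 2 F →* MulAut (Cfsg.PSp 2 F)) := by
    rw [← MonoidHom.ker_eq_bot_iff]
    rcases (MonoidHom.normal_ker (MulAut.conj : Cfsg.PSp 2 F →* MulAut (Cfsg.PSp 2 F))).eq_bot_or_eq_top with h | h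
    · exact h
    · exfalso
      have hcomm : ∀ a b : Cfsg.PSp 2 F, a * b = b * a := fun a b => by
        have h1 := DFunLike.congr_fun (MonoidHom.mem_ker.mp (h ▸ Subgroup.mem_top a : a ∈ MulAut.conj.ker)) b
        simp only [MulAut.conj_apply, MulAut.one_apply] at h1
        exact mul_inv_eq_iff_eq_mul.mp h1
      letI : CommGroup (Cfsg.PSp 2 F) := { (inferInstance : Group (Cfsg.PSp 2 F)) with mul_comm := hcomm }
      have hp := IsSimpleGroup.prime_card (α := Cfsg.PSp 2 F)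
      rw [cPSp] at hp
      norm_num at hp
  let N : Subgroup (↥H ⧸ P) := (MulAut.conj : Cfsg.PSp 2 F →* MulAut (Cfsg.PSp 2 F)).range.comap e.toMonoidHom
  let eN : Cfsg.PSp 2 F ≃* ↥N := MulEquiv.ofBijective
    (MonoidHom.mk' (fun p => (⟨e.symm (MulAut.conj p), ⟨p, (e.apply_symm_apply _).symm⟩⟩ : ↥N))
      fun a b => Subtype.ext (by simp only [map_mul]; rfl))
    ⟨fun a b h => conjInj (e.symm.injective (congrArg Subtype.val h)), fun ⟨x, p, hp⟩ => ⟨p, Subtype.ext (by
      show e.symm (MulAut.conj p) = x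
      rw [hp]; exact e.symm_apply_apply x)⟩⟩
  have cN : Nat.card N = 25920 := (Nat.card_congr eN.toEquiv).symm.trans cPSp
  have hN : N.index = 2 := by
    have := N.index_mul_card
    rw [cN, Nat.card_congr e.toEquiv, cAut] at this
    omega
  have hcent : ∀ x : ↥H ⧸ P, (∀ n ∈ N, x * n = n * x) → x = 1 := by
    intro x hx
    apply e.injective
    rw [map_one]
    refine MulEquiv.ext fun p => conjInj ?_
    have h := congrArg e (hx _ (eN p).2)
    simp only [map_mul] at h
    rw [show e ((eN p : ↥N) : ↥H ⧸ P) = MulAut.conj p from e.apply_symm_apply _] at h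
    refine MulEquiv.ext fun q => ?_
    have h' := DFunLike.congr_fun h ((e x)⁻¹ q)
    simp only [MulAut.mul_apply, MulAut.conj_apply, map_mul, map_inv, MulAut.apply_inv_self] at h'
    simp only [MulAut.conj_apply, MulAut.one_apply]
    exact h'
  have mJ : P.map H.subtype = D.J := by
    ext j
    constructor
    · rintro ⟨h, hh, rfl⟩; exact (hJ' h).mpr hh
    · intro hj
      exact ⟨⟨j, Subgroup.mem_centralizer_singleton_iff.mpr (D.Jz j hj)⟩, (hJ' _).mp hj, rfl⟩
  let eP : ↥P ≃* ↥D.J := (Subgroup.equivMapOfInjective P H.subtype H.subtype_injective).trans (MulEquiv.subgroupCongr mJ)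
  have hC : Subgroup.centralizer (D.J : Set G) ≤ D.J := fun c hc =>
    D.cent c (Subgroup.mem_centralizer_iff.mp hc D.z D.zJ).symm fun j hj => (Subgroup.mem_centralizer_iff.mp hc j hj).symm
  rcases CfsgLib.U6Chz.Aut.extend D π hπ hk N hF hN eN hcent hz (extraspecial_equiv eP hJ) hC with h | ⟨G0, hi, hG0⟩
  · exact Or.inr (CfsgLib.U6Chz.sup_core hz fun g hg => h g hg.symm)
  haveI hG0n : G0.Normal := Subgroup.normal_of_index_eq_two hi
  have hzH : D.z ∈ H := Subgroup.mem_centralizer_singleton_iff.mpr rfl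
  have zG0 : D.z ∈ G0 := (hG0 D.z hzH).mpr (by rw [(hk ⟨D.z, hzH⟩).mpr D.zJ]; exact one_mem _)
  let w : ↥G0 := ⟨D.z, zG0⟩
  set H1 := Subgroup.centralizer ({w} : Set ↥G0) with hH1
  have mH : ∀ h : H1, ((h : ↥G0) : G) ∈ H := fun h =>
    Subgroup.mem_centralizer_singleton_iff.mpr (congrArg Subtype.val (Subgroup.mem_centralizer_singleton_iff.mp h.2))
  let f : ↥H1 →* ↥N := MonoidHom.mk' (fun h => ⟨π ⟨_, mH h⟩, (hG0 _ (mH h)).mp h.1.2⟩) fun a b => Subtype.ext (by
    show π ⟨_, _⟩ = π _ * π _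
    rw [← map_mul]; rfl)
  have fin : ∀ h (hh : h ∈ H), π ⟨h, hh⟩ ∈ N → ∃ k : H1, ((k : ↥G0) : G) = h := fun h hh hn =>
    ⟨⟨⟨h, (hG0 h hh).mpr hn⟩, Subgroup.mem_centralizer_singleton_iff.mpr
      (Subtype.ext (Subgroup.mem_centralizer_singleton_iff.mp hh))⟩, rfl⟩
  have hf : Function.Surjective f := by
    rintro ⟨x, hx⟩
    obtain ⟨h, rfl⟩ := hπ x
    obtain ⟨k, hk'⟩ := fin h h.2 hx
    exact ⟨k, Subtype.ext (congrArg π (Subtype.ext hk'))⟩
  have kerf : ∀ k : H1, k ∈ f.ker ↔ ((k : ↥G0) : G) ∈ D.J := fun k => by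
    rw [MonoidHom.mem_ker, ← hk ⟨_, mH k⟩]
    exact ⟨fun h => congrArg Subtype.val h, fun h => Subtype.ext h⟩
  let eK : ↥f.ker ≃* ↥D.J :=
    MulEquiv.ofBijective (MonoidHom.mk' (fun k => (⟨((k.1 : ↥G0) : G), (kerf _).mp k.2⟩ : ↥D.J)) fun a b => rfl)
      ⟨fun a b h => Subtype.ext (Subtype.ext (Subtype.ext (congrArg Subtype.val h :))), fun j => by
        have hjH : (j : G) ∈ H := Subgroup.mem_centralizer_singleton_iff.mpr (D.Jz j.1 j.2)
        obtain ⟨k, hk'⟩ := fin j.1 hjH (by rw [(hk ⟨j.1, hjH⟩).mpr j.2]; exact one_mem _)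
        exact ⟨⟨k, (kerf k).mpr (by rw [hk']; exact j.2)⟩, Subtype.ext hk'⟩⟩
  haveI : Fact (Nat.Prime 2) := ⟨Nat.prime_two⟩
  haveI : Nontrivial ↥N := eN.symm.toEquiv.nontrivial
  haveI : IsSimpleGroup ↥N := IsSimpleGroup.isSimpleGroup_of_surjective eN.toMonoidHom eN.surjective
  have hker2 : IsPGroup 2 f.ker := IsPGroup.of_card (n := 9) (by rw [Nat.card_congr eK.toEquiv, D.Jcard]; norm_num)
  have hc1 : Cfsg.pCore 2 ↥H1 = f.ker := pCore_eq f hf cN hker2
  haveI : (Cfsg.pCore 2 ↥H1).Normal := inferInstance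
  have r := Cfsg.Agent.S3230.result w
    (by rw [← hz]; exact (Subgroup.orderOf_mk _ _)) hF hK
    (by rw [hc1]; exact extraspecial_equiv (eP.trans eK.symm) hJ)
    (by rw [hc1, Nat.card_congr eK.toEquiv, D.Jcard]; norm_num)
    (by
      intro c hc
      rw [hc1, kerf]
      refine D.cent _ (Subgroup.mem_centralizer_singleton_iff.mp (mH c)) fun j hj => ?_
      obtain ⟨k, hk'⟩ := fin j (Subgroup.mem_centralizer_singleton_iff.mpr (D.Jz j hj))
        (by rw [(hk ⟨j, Subgroup.mem_centralizer_singleton_iff.mpr (D.Jz j hj)⟩).mpr hj]; exact one_mem _)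
      have := congrArg (fun t : H1 => ((t : ↥G0) : G)) (Subgroup.mem_centralizer_iff.mp hc k (by
        rw [SetLike.mem_coe, hc1, kerf, hk']; exact hj))
      simp only [Subgroup.coe_mul, hk'] at this
      exact this.symm)
    (((QuotientGroup.quotientMulEquivOfEq hc1).trans (QuotientGroup.quotientKerEquivOfSurjective f hf)).trans eN.symm)
  have notle : ¬ H ≤ G0 := fun hle => by
    have htop : N = ⊤ := eq_top_iff.mpr fun x _ => by
      obtain ⟨h, rfl⟩ := hπ x
      exact (hG0 h h.2).mp (hle h.2)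
    rw [htop, Subgroup.index_top] at hN
    norm_num at hN
  have hsup : H ⊔ G0 = ⊤ := by
    obtain ⟨a, haH, ha⟩ := SetLike.not_le_iff_exists.mp notle
    refine eq_top_iff.mpr fun g _ => ?_
    by_cases hg : g ∈ G0
    · exact Subgroup.mem_sup_right hg
    · have h : a⁻¹ * g ∈ G0 := (Subgroup.mul_mem_iff_of_index_two hi).mpr
        (iff_of_false (fun h => ha (inv_mem_iff.mp h)) hg)
      have := Subgroup.mul_mem _ (Subgroup.mem_sup_left haH : a ∈ H ⊔ G0) (Subgroup.mem_sup_right h)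
      rwa [mul_inv_cancel_left] at this
  by_cases hcase : H ⊔ Cfsg.oddCore G = ⊤
  · exact Or.inr hcase
  rcases r with r | r
  · refine Or.inl ⟨G0, hi, r, ?_⟩
    rw [eq_bot_iff]
    intro c hc
    have cH : c ∈ H := Subgroup.mem_centralizer_singleton_iff.mpr (Subgroup.mem_centralizer_iff.mp hc D.z zG0).symm
    have cJ : c ∈ D.J := D.cent c (cz ⟨c, cH⟩) fun j hj => (Subgroup.mem_centralizer_iff.mp hc j
      ((hG0 j (Subgroup.mem_centralizer_singleton_iff.mpr (D.Jz j hj))).mpr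
        (by rw [(hk ⟨j, Subgroup.mem_centralizer_singleton_iff.mpr (D.Jz j hj)⟩).mpr hj]; exact one_mem _))).symm
    by_contra hc1'
    have hc0 : D.κ c = 0 := by
      by_contra h0
      obtain ⟨b, hb, hbc⟩ := D.nc c cJ h0
      refine hbc (Subgroup.mem_centralizer_iff.mp hc b ?_)
      exact (hG0 b (Subgroup.mem_centralizer_singleton_iff.mpr (D.Jz b hb))).mpr
        (by rw [(hk ⟨b, Subgroup.mem_centralizer_singleton_iff.mpr (D.Jz b hb)⟩).mpr hb]; exact one_mem _)
    rcases (D.κ_ker c cJ).mp hc0 with h | h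
    · exact hc1' (Subgroup.mem_bot.mpr h)
    · -- then the involution is central in the subgroup of index two
      subst h
      refine hcase (top_unique ?_)
      rw [← hsup]
      refine sup_le le_sup_left fun g hg => Subgroup.mem_sup_left (Subgroup.mem_centralizer_singleton_iff.mpr ?_)
      exact Subgroup.mem_centralizer_iff.mp hc g hg
  · refine Or.inr (top_unique ?_)
    rw [← hsup]
    refine sup_le le_sup_left fun g hg => ?_
    have h : (⟨g, hg⟩ : ↥G0) ∈ H1 ⊔ Cfsg.oddCore ↥G0 := by rw [r]; exact Subgroup.mem_top _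
    have h2 := Subgroup.mem_map_of_mem G0.subtype h
    rw [Subgroup.map_sup] at h2
    refine (show H1.map G0.subtype ⊔ (Cfsg.oddCore ↥G0).map G0.subtype ≤ H ⊔ Cfsg.oddCore G from sup_le ?_ ?_) h2
    · rintro _ ⟨k, hk', rfl⟩
      exact Subgroup.mem_sup_left (mH ⟨k, hk'⟩)
    · exact le_sup_of_le_right (CfsgLib.map_pPrimeCore_le 2 G0)

end Cfsg.Agent.S3231
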