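import Cfsg.Statements.S2994
import Cfsg.Agent.Lib.U6Three.FromHyp
import Cfsg.Agent.Lib.U6Three.Recognise
import Cfsg.Agent.Lib.ElationSpace.FromNormal

set_option autoImplicit false
open Cfsg

namespace Cfsg.Agent.S2994

/-- Say that a finite group X is similar to a 3-centralizer of type PSU₆(2) or F₄(2) if Q = F*(X) is extraspecial of order 3⁵ with Z(Q) = Z(X), and X/Q has a normal subgroup isomorphic to Q₈ × Q₈. Let G be a finite group, Z ≤ G a subgroup of order 3 and H = C_G(Z). Suppose H is similar to a 3-centralizer of type PSU₆(2) or F₄(2), and Z is weakly closed in F*(H) but not weakly closed in H with respect to G. Then F*(G) is isomorphic to PSU₆(2) and has trivial centralizer in G (so G is PSU₆(2) extended by a subgroup of its outer automorphism group, which is the symmetric group of degree 3). -/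
theorem result {G : Type*} [Group G] [Finite G] (Z : Subgroup G) (hZ3 : Nat.card ↥Z = 3) (H : Subgroup G) (hH : H = Subgroup.centralizer (Z : Set G)) (hQ : Cfsg.IsExtraspecial 3 ↥(Cfsg.generalizedFittingSubgroup ↥H)) (hQord : Nat.card ↥(Cfsg.generalizedFittingSubgroup ↥H) = 3 ^ 5) (hZ : Subgroup.center ↥(Cfsg.generalizedFittingSubgroup ↥H) = (Subgroup.center ↥H).subgroupOf (Cfsg.generalizedFittingSubgroup ↥H)) (hN : ∃ _ : (Cfsg.generalizedFittingSubgroup ↥H).Normal, ∃ N : Subgroup (↥H ⧸ Cfsg.generalizedFittingSubgroup ↥H), N.Normal ∧ Nonempty (↥N ≃* QuaternionGroup 2 × QuaternionGroup 2)) (hwc : Cfsg.IsWeaklyClosed Z ((Cfsg.generalizedFittingSubgroup ↥H).map H.subtype)) (hnwc : ¬ Cfsg.IsWeaklyClosed Z H) : (∃ (F : Type) (_ : Field F) (_ : Fintype F), Fintype.card F = 4 ∧ Nonempty (↥(Cfsg.generalizedFittingSubgroup G) ≃* Cfsg.PSU 6 F 2)) ∧ Subgroup.centralizer ((Cfsg.generalizedFittingSubgroup G : Subgroup G) : Set G) = ⊥ := by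
  classical
  obtain ⟨P⟩ := CfsgLib.U6Three.pre_of_hyp Z hZ3 H hH hQ hQord hN hwc hnwc
  obtain ⟨D⟩ := P.exists_setting
  obtain ⟨G0, hn, ⟨e⟩, hc⟩ := CfsgLib.U6Three.Setting.recognise D
  haveI := hn
  haveI := CfsgLib.U6Three.psu_simple
  rw [CfsgLib.ElSp.fstar_eq G0 (CfsgLib.U6Three.simple_of_equiv e) hc]
  haveI : Fintype CfsgLib.U6Three.F4 := Fintype.ofFinite _
  refine ⟨⟨CfsgLib.U6Three.F4, inferInstance, inferInstance, ?_, ⟨e⟩⟩, hc⟩
  rw [Fintype.card_eq_nat_card]
  exact GaloisField.card 2 2 (by norm_num)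

end Cfsg.Agent.S2994
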