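import Cfsg.Statements.S5462
import Cfsg.Agent.Lib.ThreeTrans.M22.Cliques
import Cfsg.Agent.Lib.ThreeTrans.M22.ClassUnique
-- import your own Cfsg.Agent.* helpers here

set_option autoImplicit false
open Cfsg

namespace Cfsg.Agent.S5462

open CfsgThreeTrans CfsgLib

/-- Let G be a finite group with trivial centre generated by a conjugation-invariant set D of 3-transpositions on which it acts primitively, such that for some d in D the subgroup generated by the members of D other than d commuting with d has central largest normal 2- and 3-subgroups, and suppose G with D is of type M(22). Then every automorphism of G of order 2 fixes some member of D. -/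
theorem result {G : Type*} [Group G] [Finite G] {D : Set G} (hD : Cfsg.IsThreeTranspositionGroup D) (hprim : Cfsg.IsPrimitiveUnderConj D) (d₀ : G) (hd₀ : d₀ ∈ D) (h3 : Cfsg.pCore 3 ↥(Subgroup.closure {y : G | y ∈ D ∧ y ≠ d₀ ∧ Commute d₀ y}) ≤ Subgroup.center ↥(Subgroup.closure {y : G | y ∈ D ∧ y ≠ d₀ ∧ Commute d₀ y})) (h2 : Cfsg.pCore 2 ↥(Subgroup.closure {y : G | y ∈ D ∧ y ≠ d₀ ∧ Commute d₀ y}) ≤ Subgroup.center ↥(Subgroup.closure {y : G | y ∈ D ∧ y ≠ d₀ ∧ Commute d₀ y})) (h22 : Cfsg.IsOfTypeM22 G D) (φ : MulAut G) (hφ : orderOf φ = 2) : ∃ d ∈ D, φ d = d := by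
  have hcl := cls_of_group_prim hD hprim
  obtain ⟨F, iF, iFt, iDec, hF, ⟨A⟩⟩ := M22.exists_data hcl hprim hd₀ h3 h2 h22
  have himg : φ '' D = D := by
    refine M22.class_unique hD hprim h22 _ ?_
    refine ⟨⟨?_, ?_⟩, ⟨φ d₀, ⟨d₀, hd₀, rfl⟩, ?_⟩, ?_⟩
    · rintro _ ⟨x, hx, rfl⟩
      rw [MulEquiv.orderOf_eq]
      exact hcl.1.1 x hx
    · rintro _ ⟨x, hx, rfl⟩ _ ⟨y, hy, rfl⟩
      have := hcl.1.2 x hx y hy
      simpa only [← map_mul, ← map_pow, map_eq_one_iff φ φ.injective] using this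
    · refine Set.ext fun z => ⟨?_, fun hz => ?_⟩
      · rintro ⟨x, hx, rfl⟩
        obtain ⟨g, rfl⟩ := cls_exists_conj hcl hd₀ hx
        exact isConj_iff.mpr ⟨φ g, by rw [← map_inv, ← map_mul, ← map_mul]⟩
      · obtain ⟨g, rfl⟩ := isConj_iff.mp (hz : IsConj (φ d₀) z)
        refine ⟨φ.symm g * d₀ * (φ.symm g)⁻¹, cls_conj hcl _ hd₀, ?_⟩
        simp
    · rw [show φ '' D = φ.toMonoidHom '' D from rfl, ← MonoidHom.map_closure, hcl.2.2]
      exact Subgroup.map_top_of_surjective _ φ.surjective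
  refine FreeInvol.fixes (M22.geo hcl hprim A) φ (fun w hw => himg.subset ⟨w, hw, rfl⟩) (fun w _ => ?_) ⟨d₀, hd₀⟩
  have h := pow_orderOf_eq_one φ
  rw [hφ, pow_two] at h
  exact congrArg (fun f : MulAut G => f w) h

end Cfsg.Agent.S5462
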