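import Cfsg.Statements.S5469
import Cfsg.Agent.Lib.ThreeTrans.M22.PairCentraliser
import Cfsg.Agent.S0815
-- import your own Cfsg.Agent.* helpers here

set_option autoImplicit false
open Cfsg

namespace Cfsg.Agent.S5469

open CfsgThreeTrans CfsgThreeTrans.M22 CfsgThreeTrans.M22.PairCentraliser

/-- Let G be a finite group with trivial centre generated by a conjugation-invariant set D of 3-transpositions on which it acts primitively, such that for some d in D the subgroup generated by the members of D other than d commuting with d has central largest normal 2- and 3-subgroups, and suppose G with D is of type M(22). Let d₁, d₂ be distinct commuting members of D, j = d₁ d₂, K the joint centralizer of d₁ and d₂, C the centralizer of j and V the subgroup generated by d₁ and d₂. Then K has index 2 in C, V is the centre of K, and C has a normal subgroup E containing V with E/V elementary abelian of order 2^8 and C/E isomorphic to the full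 automorphism group of the projective special unitary group of dimension 4 over the field with four elements. -/
theorem result {G : Type*} [Group G] [Finite G] {D : Set G} (hD : Cfsg.IsThreeTranspositionGroup D) (hprim : Cfsg.IsPrimitiveUnderConj D) (d₀ : G) (hd₀ : d₀ ∈ D) (h3 : Cfsg.pCore 3 ↥(Subgroup.closure {y : G | y ∈ D ∧ y ≠ d₀ ∧ Commute d₀ y}) ≤ Subgroup.center ↥(Subgroup.closure {y : G | y ∈ D ∧ y ≠ d₀ ∧ Commute d₀ y})) (h2 : Cfsg.pCore 2 ↥(Subgroup.closure {y : G | y ∈ D ∧ y ≠ d₀ ∧ Commute d₀ y}) ≤ Subgroup.center ↥(Subgroup.closure {y : G | y ∈ D ∧ y ≠ d₀ ∧ Commute d₀ y})) (h22 : Cfsg.IsOfTypeM22 G D) (d₁ d₂ : G) (h₁ : d₁ ∈ D) (h₂ : d₂ ∈ D) (hne : d₁ ≠ d₂) (hc : Commute d₁ d₂) (K C V : Subgroup G) (hK : K = Subgroup.centralizer ({d₁, d₂} : Set G)) (hC : C = Subgroup.centralizer ({d₁ * d₂} : Set G)) (hV : V = Subgroup.closure ({d₁, d₂} : Set G)) : K ≤ C ∧ (K.subgroupOf C).index = 2 ∧ (Subgroup.center ↥K).map K.subtype = V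 ∧ ∃ E : Subgroup G, V ≤ E ∧ E ≤ C ∧ (∀ c ∈ C, ∀ x ∈ E, c * x * c⁻¹ ∈ E) ∧ Nat.card E = 2 ^ 10 ∧ (∀ x ∈ E, ∀ y ∈ E, x * y * x⁻¹ * y⁻¹ ∈ V ∧ x ^ 2 ∈ V) ∧ ∃ (_ : (E.subgroupOf C).Normal) (F : Type) (_ : Field F) (_ : Fintype F), Fintype.card F = 4 ∧ Nonempty (↥C ⧸ E.subgroupOf C ≃* MulAut (Cfsg.PSU 4 F 2)) := by
  classical
  have hD' := cls_of_group_prim hD hprim
  obtain ⟨F, iF, iFt, iDec, hF, ⟨A⟩⟩ := exists_data hD' hprim hd₀ h3 h2 h22
  have hgood := good hD hprim h22 A h₁ (c := d₂) ⟨h₂, hne.symm, hc⟩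
  unfold GoodPair at hgood
  subst hK hC hV
  set K := Subgroup.centralizer ({d₁, d₂} : Set G) with hKd
  set C := Subgroup.centralizer ({d₁ * d₂} : Set G) with hCd
  set V := Subgroup.closure ({d₁, d₂} : Set G)
  obtain ⟨χ, hs, hcard, hV, hZ, hk, hout⟩ := hgood
  have hKC : K ≤ C := by
    intro k hk
    obtain ⟨k1, k2⟩ := mem_pair.mp hk
    refine mem_cent.mpr ?_
    calc k * (d₁ * d₂) * k⁻¹ = (k * d₁ * k⁻¹) * (k * d₂ * k⁻¹) := by group
      _ = _ := by rw [k1, k2]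
  have hpair : ∀ x ∈ C, x ∈ K ∨ (x * d₁ * x⁻¹ = d₂ ∧ x * d₂ * x⁻¹ = d₁) := by
    intro x hx
    have e := mem_cent.mp hx
    rw [show x * (d₁ * d₂) * x⁻¹ = (x * d₁ * x⁻¹) * (x * d₂ * x⁻¹) by group] at e
    rcases pair_unique hD' (cores_of_prim hD' hprim (has_pair A)).1 (cls_conj hD' x h₁) (cls_conj hD' x h₂) h₁ h₂
      (fun q => hne (cj_injective x q)) hne ((commute_cj_iff x).mpr hc) hc e with ⟨q1, q2⟩ | ⟨q1, q2⟩
    · exact Or.inl (mem_pair.mpr ⟨q1, q2⟩)
    · exact Or.inr ⟨q1, q2⟩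
  obtain ⟨σ, σ1, σ2⟩ : ∃ σ : G, σ * d₁ * σ⁻¹ = d₂ ∧ σ * d₂ * σ⁻¹ = d₁ := by
    obtain ⟨g, g1, g2⟩ := conj_base hD' A h₁ (b := d₂) ⟨h₂, hne.symm, hc⟩
    obtain ⟨k, k1, k2⟩ := conj_base hD' A h₂ (b := d₁) ⟨h₁, hne, hc.symm⟩
    exact ⟨k * g⁻¹, by conv_lhs => rw [← g1]
                       rw [← k1]; group, by conv_lhs => rw [← g2]
                                            rw [← k2]; group⟩
  have hσC : σ ∈ C := by
    refine mem_cent.mpr ?_
    calc σ * (d₁ * d₂) * σ⁻¹ = (σ * d₁ * σ⁻¹) * (σ * d₂ * σ⁻¹) := by group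
      _ = d₁ * d₂ := by rw [σ1, σ2, hc.eq]
  have hσK : σ ∉ K := fun q => hne ((mem_pair.mp q).1.symm.trans σ1)
  have hidx : (K.subgroupOf C).index = 2 := by
    rw [Subgroup.index_eq_two_iff']
    refine ⟨⟨σ, hσC⟩, fun x => ?_⟩
    simp only [Subgroup.mem_subgroupOf, Subgroup.coe_mul]
    rcases hpair x x.2 with q | ⟨q1, q2⟩
    · refine Or.inr ⟨q, fun q' => hσK ?_⟩
      have := mul_mem q' (inv_mem q)
      rwa [mul_inv_cancel_right] at this
    · refine Or.inl ⟨mem_pair.mpr ⟨?_, ?_⟩, fun q => hne ((mem_pair.mp q).1.symm.trans q1)⟩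
      · calc σ * x * d₁ * (σ * x)⁻¹ = σ * ((x : G) * d₁ * (x : G)⁻¹) * σ⁻¹ := by group
          _ = d₁ := by rw [q1, σ2]
      · calc σ * x * d₂ * (σ * x)⁻¹ = σ * ((x : G) * d₂ * (x : G)⁻¹) * σ⁻¹ := by group
          _ = d₂ := by rw [q2, σ1]
  have hd1K : d₁ ∈ K := mem_pair.mpr ⟨by group, by rw [hc.eq, mul_inv_cancel_right]⟩
  have hd2K : d₂ ∈ K := mem_pair.mpr ⟨by rw [← hc.eq, mul_inv_cancel_right], by group⟩
  have hVK : V ≤ K := (Subgroup.closure_le _).mpr (by rintro z (rfl | rfl); exacts [hd1K, hd2K])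
  refine ⟨hKC, hidx, ?_, ?_⟩
  · refine le_antisymm ?_ fun v hv => ?_
    · rintro _ ⟨v, hv, rfl⟩
      exact hZ v hv
    · refine ⟨⟨v, hVK hv⟩, Subgroup.mem_center_iff.mpr fun w => Subtype.ext ?_, rfl⟩
      have hle : V ≤ Subgroup.centralizer ({(w : G)} : Set G) := by
        rw [Subgroup.closure_le]
        rintro z (rfl | rfl) <;> refine Subgroup.mem_centralizer_singleton_iff.mpr ?_
        · exact (mul_inv_eq_iff_eq_mul.mp (mem_pair.mp w.2).1).symm
        · exact (mul_inv_eq_iff_eq_mul.mp (mem_pair.mp w.2).2).symm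
      exact (Subgroup.mem_centralizer_singleton_iff.mp (hle hv)).symm
  set E := χ.ker.map K.subtype with hEdef
  have hcK : ∀ c ∈ C, ∀ k ∈ K, c * k * c⁻¹ ∈ K := by
    intro c hcC k hk
    have := (Subgroup.normal_of_index_eq_two hidx).conj_mem ⟨k, hKC hk⟩ hk ⟨c, hcC⟩
    exact this
  haveI hsimple : IsSimpleGroup (PSU 4 F 2) :=
    CfsgLib.UnitarySimple.simple (F := F) (q := 2) hF (by norm_num) (by norm_num)
  have h2ker : IsPGroup 2 χ.ker := IsPGroup.of_card (n := 10) (by rw [hcard]; norm_num)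
  have hEnorm : ∀ c ∈ C, ∀ x ∈ E, c * x * c⁻¹ ∈ E := by
    intro c hcC
    set α : K →* K := MonoidHom.mk' (fun k => ⟨c * k * c⁻¹, hcK c hcC k k.2⟩) fun p q => Subtype.ext (by
      show c * ((p : G) * q) * c⁻¹ = c * p * c⁻¹ * (c * q * c⁻¹)
      group) with hα
    have hαs : Function.Surjective α := fun k => ⟨⟨c⁻¹ * k * c⁻¹⁻¹, hcK _ (inv_mem hcC) k k.2⟩, Subtype.ext (by
      show c * (c⁻¹ * (k : G) * c⁻¹⁻¹) * c⁻¹ = k
      group)⟩
    haveI : ((χ.ker.map α).map χ).Normal := Subgroup.Normal.map (Subgroup.Normal.map inferInstance α hαs) χ hs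
    have hbot : (χ.ker.map α).map χ = ⊥ := by
      refine (IsSimpleGroup.eq_bot_or_eq_top_of_normal _ inferInstance).resolve_right fun htop => ?_
      have hp2 : IsPGroup 2 (⊤ : Subgroup (PSU 4 F 2)) := htop ▸ (h2ker.map α).map χ
      obtain ⟨n, hn⟩ := IsPGroup.iff_card.mp hp2
      rw [Subgroup.card_top, Parabolic.card_psu4 hF] at hn
      have h5 : (5 : ℕ) ∣ 2 ^ n := hn ▸ by norm_num
      have := (Nat.prime_five).dvd_of_dvd_pow h5
      norm_num at this
    rintro _ ⟨k, hk, rfl⟩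
    refine ⟨α k, ?_, rfl⟩
    show χ (α k) = 1
    exact Subgroup.mem_bot.mp (hbot ▸ Subgroup.mem_map_of_mem χ (Subgroup.mem_map_of_mem α hk))
  have hEK : E ≤ K := by rintro _ ⟨k, -, rfl⟩; exact k.2
  have hVE : V ≤ E := fun v hv => ⟨⟨v, hVK hv⟩, hV _ hv, rfl⟩
  haveI hEn : (E.subgroupOf C).Normal := ⟨fun x hx c => hEnorm c c.2 x hx⟩
  refine ⟨E, hVE, hEK.trans hKC, hEnorm, ?_, ?_, hEn, F, iF, iFt, by rw [hF]; norm_num, ?_⟩
  · rw [Subgroup.card_subtype, hcard]; norm_num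
  · rintro _ ⟨x, hx, rfl⟩ _ ⟨y, hy, rfl⟩
    exact hk x hx y hy
  set q := QuotientGroup.mk' (E.subgroupOf C)
  set f : K →* ↥C ⧸ E.subgroupOf C := q.comp (Subgroup.inclusion hKC)
  have hfker : f.ker = χ.ker := by
    ext k
    rw [MonoidHom.mem_ker, MonoidHom.comp_apply, QuotientGroup.mk'_apply, QuotientGroup.eq_one_iff,
      Subgroup.mem_subgroupOf]
    refine ⟨fun ⟨k', hk', e⟩ => (Subtype.ext e : k' = k) ▸ hk', fun hk' => ⟨k, hk', rfl⟩⟩
  haveI hKn : (K.subgroupOf C).Normal := Subgroup.normal_of_index_eq_two hidx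
  have hrange : f.range = (K.subgroupOf C).map q := by
    ext x
    refine ⟨?_, ?_⟩
    · rintro ⟨k, rfl⟩; exact ⟨Subgroup.inclusion hKC k, k.2, rfl⟩
    · rintro ⟨k, hk', rfl⟩; exact ⟨⟨k, hk'⟩, rfl⟩
  haveI : f.range.Normal := hrange ▸ Subgroup.Normal.map hKn q (QuotientGroup.mk'_surjective _)
  set e : f.range ≃* PSU 4 F 2 := (QuotientGroup.quotientKerEquivRange f).symm.trans
    ((QuotientGroup.quotientMulEquivOfEq hfker).trans (QuotientGroup.quotientKerEquivOfSurjective χ hs))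
  have he : ∀ k : K, e ⟨f k, k, rfl⟩ = χ k := by
    intro k
    show (QuotientGroup.quotientMulEquivOfEq hfker).trans (QuotientGroup.quotientKerEquivOfSurjective χ hs)
      ((QuotientGroup.quotientKerEquivRange f).symm ⟨f k, k, rfl⟩) = χ k
    rw [show (QuotientGroup.quotientKerEquivRange f).symm ⟨f k, k, rfl⟩ = (k : K ⧸ f.ker) from
      (MulEquiv.symm_apply_eq _).mpr rfl]
    rfl
  set Θ : (↥C ⧸ E.subgroupOf C) →* MulAut (PSU 4 F 2) :=
    ((MulAut.congr e).toMonoidHom).comp (MulAut.conjNormal (H := f.range))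
  have hΘ : Function.Injective Θ := by
    rw [injective_iff_map_eq_one]
    intro y hy
    obtain ⟨⟨c, hcC⟩, rfl⟩ := QuotientGroup.mk'_surjective _ y
    have hy' : MulAut.conjNormal (H := f.range) (q ⟨c, hcC⟩) = 1 :=
      (MulAut.congr e).injective (by rw [map_one]; exact hy)
    have hcomm : ∀ (k : K) (hk : c * k * c⁻¹ ∈ K), χ ⟨c * k * c⁻¹, hk⟩ = χ k := by
      intro k hk
      rw [← he, ← he]
      congr 1
      refine Subtype.ext ?_
      have := congrArg (fun a : MulAut f.range => ((a ⟨f k, k, rfl⟩ : f.range) : ↥C ⧸ E.subgroupOf C)) hy'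
      simp only [MulAut.one_apply, MulAut.conjNormal_apply] at this
      refine Eq.trans ?_ this
      show q _ = q ⟨c, hcC⟩ * q _ * (q ⟨c, hcC⟩)⁻¹
      rw [← map_inv, ← map_mul, ← map_mul]
      rfl
    rcases hpair c hcC with hcK' | ⟨c1, c2⟩
    · have hcen : χ ⟨c, hcK'⟩ ∈ Subgroup.center (PSU 4 F 2) := by
        refine Subgroup.mem_center_iff.mpr fun z => ?_
        obtain ⟨k, rfl⟩ := hs z
        have := hcomm k (hcK c hcC k k.2)
        rw [show (⟨c * k * c⁻¹, hcK c hcC k k.2⟩ : K) = ⟨c, hcK'⟩ * k * ⟨c, hcK'⟩⁻¹ from rfl, map_mul, map_mul,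
          map_inv, mul_inv_eq_iff_eq_mul] at this
        exact this.symm
      have hbot : Subgroup.center (PSU 4 F 2) = ⊥ := by
        refine (Subgroup.center (PSU 4 F 2)).normal_of_characteristic.eq_bot_or_eq_top.resolve_right fun htop => ?_
        haveI : Fact (Nat.Prime 5) := ⟨Nat.prime_five⟩
        obtain ⟨x, hx⟩ := exists_prime_orderOf_dvd_card' (G := PSU 4 F 2) 5
          (by rw [Parabolic.card_psu4 hF]; norm_num)
        have hn : (Subgroup.zpowers x).Normal := ⟨fun a ha g => by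
          rw [Subgroup.mem_center_iff.mp (htop ▸ Subgroup.mem_top a : a ∈ Subgroup.center (PSU 4 F 2)) g,
            mul_inv_cancel_right]
          exact ha⟩
        have hc5 := Nat.card_zpowers x
        rw [hx] at hc5
        rcases hn.eq_bot_or_eq_top with q | q <;> rw [q] at hc5
        · rw [Subgroup.card_bot] at hc5; norm_num at hc5
        · rw [Subgroup.card_top, Parabolic.card_psu4 hF] at hc5; norm_num at hc5
      have h1 : f ⟨c, hcK'⟩ = 1 := by
        rw [← MonoidHom.mem_ker, hfker, MonoidHom.mem_ker]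
        exact Subgroup.mem_bot.mp (hbot ▸ hcen)
      exact h1
    · exact (hout c c1 c2 hcomm).elim
  have hKcard : Nat.card K = 1024 * 25920 := by
    rw [Subgroup.card_eq_card_quotient_mul_card_subgroup χ.ker,
      Nat.card_congr (QuotientGroup.quotientKerEquivOfSurjective χ hs).toEquiv, Parabolic.card_psu4 hF, hcard]
  have hCcard : Nat.card C = 2 * (1024 * 25920) := by
    rw [← Subgroup.card_mul_index (K.subgroupOf C), hidx,
      Nat.card_congr (Subgroup.subgroupOfEquivOfLe hKC).toEquiv, hKcard, mul_comm]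
  have hQ : Nat.card (↥C ⧸ E.subgroupOf C) = Nat.card (MulAut (PSU 4 F 2)) := by
    have e' := Subgroup.card_eq_card_quotient_mul_card_subgroup (E.subgroupOf C)
    rw [Nat.card_congr (Subgroup.subgroupOfEquivOfLe (hEK.trans hKC)).toEquiv, Subgroup.card_subtype, hcard, hCcard] at e'
    haveI : Fact (Nat.Prime 2) := ⟨Nat.prime_two⟩
    rw [Cfsg.Agent.S0815.result 2 1 le_rfl (q := 2) (by norm_num) hF 4 (by norm_num) (by norm_num),
      Parabolic.card_psu4 hF]
    norm_num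
    omega
  exact ⟨MulEquiv.ofBijective Θ (hΘ.bijective_of_nat_card_le hQ.ge)⟩

end Cfsg.Agent.S5469
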