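import Cfsg.Statements.S5519
import Cfsg.Agent.S5469
import Cfsg.Agent.Lib.ThreeTrans.M22.PairRadical
import Cfsg.Agent.Lib.ThreeTrans.M22.ProductFitting
import Cfsg.Agent.Lib.UnitarySimple
-- import your own Cfsg.Agent.* helpers here

set_option autoImplicit false
open Cfsg

namespace Cfsg.Agent.S5519

open CfsgThreeTrans CfsgThreeTrans.M22 CfsgThreeTrans.M22.ProductFitting Subgroup

/-- Let G be a finite group with trivial centre generated by a conjugation-invariant set D of 3-transpositions on which it acts primitively, such that for some d in D the subgroup generated by the members of D other than d commuting with d has central largest normal 2- and 3-subgroups, and suppose G with D is of type M(22). Let d₁, d₂ be distinct commuting members of D and C the centralizer of their product. Then the generalized Fitting subgroup of C is the direct product of a group of order 2 and an extraspecial 2-group of order 2^9, and C modulo it is isomorphic to the full isometry group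 of the elliptic quadratic form in dimension 6 over the field with two elements. -/
theorem result {G : Type*} [Group G] [Finite G] {D : Set G} (hD : Cfsg.IsThreeTranspositionGroup D) (hprim : Cfsg.IsPrimitiveUnderConj D) (d₀ : G) (hd₀ : d₀ ∈ D) (h3 : Cfsg.pCore 3 ↥(Subgroup.closure {y : G | y ∈ D ∧ y ≠ d₀ ∧ Commute d₀ y}) ≤ Subgroup.center ↥(Subgroup.closure {y : G | y ∈ D ∧ y ≠ d₀ ∧ Commute d₀ y})) (h2 : Cfsg.pCore 2 ↥(Subgroup.closure {y : G | y ∈ D ∧ y ≠ d₀ ∧ Commute d₀ y}) ≤ Subgroup.center ↥(Subgroup.closure {y : G | y ∈ D ∧ y ≠ d₀ ∧ Commute d₀ y})) (h22 : Cfsg.IsOfTypeM22 G D) (d₁ d₂ : G) (h₁ : d₁ ∈ D) (h₂ : d₂ ∈ D) (hne : d₁ ≠ d₂) (hc : Commute d₁ d₂) (C : Subgroup G) (hC : C = Subgroup.centralizer ({d₁ * d₂} : Set G)) [hn : (Cfsg.generalizedFittingSubgroup ↥C).Normal] : (∃ (E : Type) (_ : Group E) (_ : Finite E), Cfsg.IsExtraspecial 2 E ∧ Nat.card E = 2 ^ 9 ∧ Nonempty (↥(Cfsg.generalizedFittingSubgroup ↥C) ≃* Multiplicative (ZMod 2) × E)) ∧ Nonempty (↥C ⧸ Cfsg.generalizedFittingSubgroup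 ↥C ≃* Cfsg.isometryGroup (ZMod 2) (Cfsg.quadFormMinus 2 (ZMod 2) 1 1)) := by
    classical
    haveI : Fact (Nat.Prime 2) := ⟨Nat.prime_two⟩
    obtain ⟨F, iF, iFt, iDec, hF, ⟨A⟩⟩ := exists_data (cls_of_group_prim hD hprim) hprim hd₀ h3 h2 h22
    obtain ⟨E, hEK, hEcard, hEn, haE, hbE, hcom, hsq, ⟨x0, hx0, y0, hy0, hwit⟩, hcen, hcc⟩ :=
      PairRadical.good hD hprim h22 A h₁ (c := d₂) ⟨h₂, hne.symm, hc⟩
    subst hC
    obtain ⟨hKC, hidx, -, E', -, hE'C, hE'n, hE'card, -, hE'N, F', iF', iFt', hF', ⟨eQ⟩⟩ :=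
      Cfsg.Agent.S5469.result hD hprim d₀ hd₀ h3 h2 h22 d₁ d₂ h₁ h₂ hne hc _ _ _ rfl rfl rfl
    set K := Subgroup.centralizer ({d₁, d₂} : Set G) with hKd
    set C := Subgroup.centralizer ({d₁ * d₂} : Set G) with hCd
    obtain ⟨χ, hχs, hχcard, -⟩ := PairCentraliser.good hD hprim h22 A h₁ (c := d₂) ⟨h₂, hne.symm, hc⟩
    have hF'4 : Fintype.card F' = 2 ^ 2 := by rw [hF']; norm_num
    haveI hsimple : IsSimpleGroup (PSU 4 F 2) :=
      CfsgLib.UnitarySimple.simple (F := F) (q := 2) hF (by norm_num) (by norm_num)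
    haveI hsimple' : IsSimpleGroup (PSU 4 F' 2) :=
      CfsgLib.UnitarySimple.simple (F := F') (q := 2) hF'4 (by norm_num) (by norm_num)
    have hZ' : Subgroup.center (PSU 4 F' 2) = ⊥ := by
      refine (Subgroup.center (PSU 4 F' 2)).normal_of_characteristic.eq_bot_or_eq_top.resolve_right fun htop => ?_
      haveI : Fact (Nat.Prime 5) := ⟨Nat.prime_five⟩
      obtain ⟨x, hx⟩ := exists_prime_orderOf_dvd_card' (G := PSU 4 F' 2) 5
        (by rw [Parabolic.card_psu4 hF'4]; norm_num)
      have hn' : (Subgroup.zpowers x).Normal := ⟨fun a ha g => by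
        rw [Subgroup.mem_center_iff.mp (htop ▸ Subgroup.mem_top a : a ∈ Subgroup.center (PSU 4 F' 2)) g,
          mul_inv_cancel_right]
        exact ha⟩
      have hc5 := Nat.card_zpowers x
      rw [hx] at hc5
      rcases hn'.eq_bot_or_eq_top with q | q <;> rw [q] at hc5
      · rw [Subgroup.card_bot] at hc5; norm_num at hc5
      · rw [Subgroup.card_top, Parabolic.card_psu4 hF'4] at hc5; norm_num at hc5
    have h2E : IsPGroup 2 E := IsPGroup.of_card (n := 10) (by rw [hEcard]; norm_num)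
    have hcK : ∀ c ∈ C, ∀ k ∈ K, c * k * c⁻¹ ∈ K := fun c hcC k hk =>
      (Subgroup.normal_of_index_eq_two hidx).conj_mem ⟨k, hKC hk⟩ hk ⟨c, hcC⟩
    -- any normal 2-subgroup of the pair centraliser lies in the kernel
    have hker : ∀ P : Subgroup G, P ≤ K → IsPGroup 2 P → (∀ k ∈ K, ∀ p ∈ P, k * p * k⁻¹ ∈ P) →
        P ≤ χ.ker.map K.subtype := by
      intro P hPK hP hPn p hp
      haveI : (P.subgroupOf K).Normal := ⟨fun x hx k => hPn k k.2 x hx⟩
      haveI : ((P.subgroupOf K).map χ).Normal := Subgroup.Normal.map inferInstance χ hχs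
      have hP' : IsPGroup 2 (P.subgroupOf K) := hP.of_equiv (Subgroup.subgroupOfEquivOfLe hPK).symm
      have hbot : (P.subgroupOf K).map χ = ⊥ := by
        refine (IsSimpleGroup.eq_bot_or_eq_top_of_normal _ inferInstance).resolve_right fun htop => ?_
        have hp2 : IsPGroup 2 (⊤ : Subgroup (PSU 4 F 2)) := htop ▸ hP'.map χ
        obtain ⟨n, hn⟩ := IsPGroup.iff_card.mp hp2
        rw [Subgroup.card_top, Parabolic.card_psu4 hF] at hn
        have h5 : (5 : ℕ) ∣ 2 ^ n := hn ▸ by norm_num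
        have := (Nat.prime_five).dvd_of_dvd_pow h5
        norm_num at this
      exact ⟨⟨p, hPK hp⟩, MonoidHom.mem_ker.mpr (Subgroup.mem_bot.mp (hbot ▸
        Subgroup.mem_map_of_mem χ (show (⟨p, hPK hp⟩ : K) ∈ P.subgroupOf K from hp))), rfl⟩
    have hEeq : E = χ.ker.map K.subtype := Subgroup.eq_of_le_of_card_ge (hker E hEK h2E hEn)
      (by rw [Subgroup.card_subtype, hχcard, hEcard])
    have hEnC : ∀ c ∈ C, ∀ x ∈ E, c * x * c⁻¹ ∈ E := by
      intro c hcC x hx
      have h1 := hker (E.map (MulAut.conj c).toMonoidHom)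
        (by rintro _ ⟨p, hp, rfl⟩; exact hcK c hcC p (hEK hp)) (h2E.map _)
        (by
          rintro k hk _ ⟨p, hp, rfl⟩
          have hk' : c⁻¹ * k * c ∈ K := by simpa using hcK c⁻¹ (inv_mem hcC) k hk
          exact ⟨_, hEn _ hk' p hp, by simp [mul_assoc]⟩)
      rw [← hEeq] at h1
      exact h1 ⟨x, hx, rfl⟩
    set Y := E.subgroupOf C with hY
    haveI hYn : Y.Normal := ⟨fun x hx c => hEnC c c.2 x hx⟩
    haveI := hE'N
    set q := eQ.toMonoidHom.comp (QuotientGroup.mk' (E'.subgroupOf C))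
    have hqs : Function.Surjective q := eQ.surjective.comp (QuotientGroup.mk'_surjective _)
    have hqker : q.ker = E'.subgroupOf C := by
      ext x
      simp [q, MonoidHom.mem_ker]
    have hnil : ∀ N : Subgroup C, N.Normal → Group.IsNilpotent N → N ≤ E'.subgroupOf C := by
      intro N hN hnl
      haveI := hnl
      haveI : (N.map q).Normal := hN.map q hqs
      have hbot := aut_nilpotent_bot hZ' (N.map q)
        (Group.nilpotent_of_surjective (q.subgroupMap N) (MonoidHom.subgroupMap_surjective _ _))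
      rw [← hqker]
      exact (Subgroup.map_eq_bot_iff N).mp hbot
    have hEC : E ≤ C := hEK.trans hKC
    have h2Y : IsPGroup 2 Y := h2E.of_equiv (Subgroup.subgroupOfEquivOfLe hEC).symm
    have hYE : Y = E'.subgroupOf C := Subgroup.eq_of_le_of_card_ge (hnil Y hYn h2Y.isNilpotent)
      (by rw [Nat.card_congr (Subgroup.subgroupOfEquivOfLe hEC).toEquiv,
        Nat.card_congr (Subgroup.subgroupOfEquivOfLe hE'C).toEquiv, hEcard, hE'card]; norm_num)
    have hgf : generalizedFittingSubgroup ↥C = Y := by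
      refine le_antisymm (CfsgLib.Comp.gfit_le_of_centralizer_le Y
        (sSup_le fun N hN => hYE ▸ hnil N hN.1 hN.2) fun z hz => ?_)
        (le_sup_of_le_right (le_sSup ⟨hYn, h2Y.isNilpotent⟩))
      have hz' : ∀ y ∈ E, Commute (z : G) y := fun y hy =>
        (congrArg Subtype.val (Subgroup.mem_centralizer_iff.mp hz ⟨y, hEC hy⟩ hy)).symm
      exact hcc _ (Subgroup.mem_centralizer_iff.mpr (by
        rintro v (rfl | rfl)
        exacts [(hz' _ haE).eq.symm, (hz' _ hbE).eq.symm])) hz'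
    refine ⟨?_, ?_⟩
    · have hca : ∀ x : E, Commute (⟨d₁, haE⟩ : E) x := fun x =>
        Subtype.ext (Subgroup.mem_centralizer_iff.mp (hEK x.2) d₁ (Set.mem_insert _ _))
      have hcb : ∀ x : E, Commute (⟨d₂, hbE⟩ : E) x := fun x =>
        Subtype.ext (Subgroup.mem_centralizer_iff.mp (hEK x.2) d₂ (Set.mem_insert_of_mem _ rfl))
      have ha2 : ∀ {d : G}, d ∈ D → d * d = 1 := fun {d} hd => by
        rw [← pow_two, ← (cls_of_group_prim hD hprim).1.1 d hd, pow_orderOf_eq_one]
      have hne1 : ∀ {d : G}, d ∈ D → d ≠ 1 := fun {d} hd e => by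
        have := (cls_of_group_prim hD hprim).1.1 d hd
        rw [e, orderOf_one] at this
        norm_num at this
      obtain ⟨M, hM, hMc, ⟨eM⟩⟩ := split (n := 9) (j := (⟨d₁ * d₂, mul_mem haE hbE⟩ : E))
        (a := ⟨d₁, haE⟩) (b := ⟨d₂, hbE⟩) rfl hca hcb (Subtype.ext (ha2 h₁)) (Subtype.ext (ha2 h₂))
        (fun e => hne (congrArg Subtype.val e)) (fun e => hne1 h₁ (congrArg Subtype.val e))
        (fun e => hne1 h₂ (congrArg Subtype.val e))
        (fun x => (hsq x x.2).imp (fun e => Subtype.ext e) (fun e => Subtype.ext e))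
        (fun x y => (hcom x x.2 y y.2).imp (fun e => Subtype.ext e) (fun e => Subtype.ext e))
        ⟨⟨x0, hx0⟩, ⟨y0, hy0⟩, Subtype.ext hwit⟩
        (fun x hx => by
          have := hcen x x.2 fun y hy => congrArg Subtype.val (hx ⟨y, hy⟩).eq
          have e : (Subgroup.closure ({⟨d₁, haE⟩, ⟨d₂, hbE⟩} : Set E)).map E.subtype =
              Subgroup.closure ({d₁, d₂} : Set G) := by
            rw [MonoidHom.map_closure, Set.image_pair]; rfl
          rw [← e] at this
          obtain ⟨w, hw, hwx⟩ := this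
          exact Subtype.ext hwx ▸ hw)
        (by rw [hEcard]; norm_num)
      obtain ⟨X, iX, iXf, ⟨eX⟩⟩ := small_copy M
      refine ⟨X, iX, iXf, extraspecial_congr eX hM, ?_, ⟨?_⟩⟩
      · rw [← Nat.card_congr eX.toEquiv, hMc]
      · exact ((MulEquiv.subgroupCongr hgf).trans (Subgroup.subgroupOfEquivOfLe hEC)).trans
          (eM.trans ((MulEquiv.refl _).prodCongr eX))
    · obtain ⟨eO⟩ := o6minus_aut (K := F') hF'4
      exact ⟨((QuotientGroup.quotientMulEquivOfEq (hgf.trans hYE)).trans eQ).trans eO.symm⟩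

end Cfsg.Agent.S5519
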