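import Cfsg.Statements.S0440
import Cfsg.Agent.Lib.SympGen

set_option autoImplicit false
open Cfsg

namespace Cfsg.Agent.S0440

open Matrix CfsgLib.SympGen
open CfsgLib.SympTransvection (tv exists_dot_ne transitive J_mulVec_ne_zero)

theorem sp_ext {m : ℕ} {g h : Matrix.symplecticGroup (Fin m) (ZMod 2)}
    (e : ∀ v : Fin m ⊕ Fin m → ZMod 2, g.1 *ᵥ v = h.1 *ᵥ v) : g = h :=
  Subtype.ext (Matrix.ext_of_mulVec_single fun i => e _)

theorem tv_sub_one {m : ℕ} (u : Fin m ⊕ Fin m → ZMod 2) :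
    (tv u 1).1 - 1 = Matrix.vecMulVec u (Matrix.J (Fin m) (ZMod 2) *ᵥ u) := by
  apply Matrix.ext_of_mulVec_single
  intro i
  rw [Matrix.sub_mulVec, Matrix.one_mulVec, tv_apply, Matrix.vecMulVec_mulVec, op_smul_eq_smul,
    add_sub_cancel_left, one_mul, dotProduct_comm]

theorem rank_tv {m : ℕ} {u : Fin m ⊕ Fin m → ZMod 2} (hu : u ≠ 0) : ((tv u 1).1 - 1).rank = 1 := by
  rw [tv_sub_one]
  refine le_antisymm (Matrix.rank_vecMulVec_le _ _) (Nat.one_le_iff_ne_zero.mpr fun h => ?_)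
  obtain ⟨i, hi⟩ := Function.ne_iff.mp hu
  obtain ⟨j, hj⟩ := Function.ne_iff.mp (J_mulVec_ne_zero hu)
  have := congrFun (LinearMap.congr_fun
    (LinearMap.range_eq_bot.mp (Submodule.finrank_eq_zero.mp h)) (Pi.single j 1)) i
  simp [Matrix.vecMulVec_apply] at this hi hj
  tauto

theorem eq_tv {m : ℕ} (g : Matrix.symplecticGroup (Fin m) (ZMod 2)) (hr : (g.1 - 1).rank = 1) :
    ∃ u, u ≠ 0 ∧ g = tv u 1 := by
  obtain ⟨⟨a, ha⟩, ha0, hspan⟩ := finrank_eq_one_iff'.mp
    (show Module.finrank (ZMod 2) (LinearMap.range (g.1 - 1).mulVecLin) = 1 from hr)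
  have ha0' : a ≠ 0 := fun h => ha0 (Subtype.ext h)
  choose r hr' using fun x : Fin m ⊕ Fin m → ZMod 2 =>
    hspan ⟨(g.1 - 1).mulVecLin x, LinearMap.mem_range_self _ _⟩
  have hg : ∀ x, g.1 *ᵥ x = x + r x • a := by
    intro x
    have h : r x • a = (g.1 - 1).mulVecLin x := congrArg Subtype.val (hr' x)
    rw [h, Matrix.mulVecLin_apply, Matrix.sub_mulVec, Matrix.one_mulVec, add_sub_cancel]
  have key : ∀ x y, r y * B x a + r x * B a y = 0 := fun x y => by
    have h := B_map g x y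
    rw [hg x, hg y, B_add_left, B_add_right, B_add_right, B_smul_left, B_smul_left, B_smul_right,
      B_smul_right, B_self] at h
    linear_combination h
  refine ⟨a, ha0', sp_ext fun x => ?_⟩
  rw [hg, tv_apply, one_mul]
  congr 1
  obtain ⟨z, hz⟩ := exists_dot_ne ha0'
  have hz1 : B z a = 1 := (by decide : ∀ t : ZMod 2, t ≠ 0 → t = 1) _ hz
  have hsw : ∀ y, B a y = B y a := fun y => by rw [B_swap, ZMod.neg_eq_self_mod_two]
  have rz : ∀ y, r y = r z * B y a := fun y => by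
    have h := key z y
    rw [hsw, hz1, mul_one] at h
    exact (by decide : ∀ s t : ZMod 2, s + t = 0 → s = t) _ _ h
  have : r z = 1 := (by decide : ∀ t : ZMod 2, t ≠ 0 → t = 1) _ fun h0 => by
    refine (Nat.one_ne_zero (hr.symm.trans ?_))
    rw [show g.1 - 1 = 0 from Matrix.ext_of_mulVec_single fun i => by
      rw [Matrix.sub_mulVec, hg, rz, h0, zero_mul, zero_smul, add_zero, Matrix.one_mulVec, sub_self,
        Matrix.zero_mulVec], Matrix.rank_zero]
  rw [rz x, this, one_mul]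

theorem symp_class (n : ℕ) (hn : 1 ≤ n) : Cfsg.IsThreeTranspositionClass
    {g : Matrix.symplecticGroup (Fin n) (ZMod 2) |
      ((g : Matrix (Fin n ⊕ Fin n) (Fin n ⊕ Fin n) (ZMod 2)) - 1).rank = 1} := by
  have hz : ∀ u : Fin n ⊕ Fin n → ZMod 2, tv u (0 : ZMod 2) = 1 := fun u =>
    sp_ext fun v => by rw [tv_apply, CfsgLib.SympGen.one_apply, zero_mul, zero_smul, add_zero]
  have hsq : ∀ u : Fin n ⊕ Fin n → ZMod 2, tv u (1 : ZMod 2) * tv u 1 = 1 := fun u => by
    rw [tv_add, show (1 : ZMod 2) + 1 = 0 from rfl, hz]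
  have hinv : ∀ u : Fin n ⊕ Fin n → ZMod 2, (tv u (1 : ZMod 2))⁻¹ = tv u 1 :=
    fun u => inv_eq_of_mul_eq_one_right (hsq u)
  have hne : ∀ u : Fin n ⊕ Fin n → ZMod 2, u ≠ 0 → tv u (1 : ZMod 2) ≠ 1 := fun u hu h => by
    have := rank_tv hu
    rw [h] at this
    simp at this
  refine ⟨⟨?_, ?_⟩, ?_, ?_⟩
  · intro d hd
    obtain ⟨u, hu, rfl⟩ := eq_tv d hd
    exact orderOf_eq_prime (by rw [pow_two, hsq]) (hne u hu)
  · intro d hd e he
    obtain ⟨u, -, rfl⟩ := eq_tv d hd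
    obtain ⟨v, -, rfl⟩ := eq_tv e he
    have hc : tv u (1 : ZMod 2) * tv v 1 * tv u 1 = tv (v + B v u • u) 1 := by
      have := conj_tv (tv u (1 : ZMod 2)) v 1
      rwa [hinv, tv_apply, one_mul] at this
    have hc' : tv v (1 : ZMod 2) * tv u 1 * tv v 1 = tv (u + B u v • v) 1 := by
      have := conj_tv (tv v (1 : ZMod 2)) u 1
      rwa [hinv, tv_apply, one_mul] at this
    rcases (by decide : ∀ t : ZMod 2, t = 0 ∨ t = 1) (B v u) with h | h
    · left
      rw [h, zero_smul, add_zero] at hc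
      rw [pow_two, ← mul_assoc, hc, hsq]
    · right
      have h' : B u v = 1 := by rw [B_swap, h, ZMod.neg_eq_self_mod_two]
      rw [h, one_smul] at hc
      rw [h', one_smul, add_comm] at hc'
      calc (tv u (1 : ZMod 2) * tv v 1) ^ 3
          = (tv u 1 * tv v 1 * tv u 1) * (tv v 1 * tv u 1 * tv v 1) := by
            simp only [pow_succ, pow_zero, one_mul, mul_assoc]
        _ = 1 := by rw [hc, hc', hsq]
  · let u₀ : Fin n ⊕ Fin n → ZMod 2 := Pi.single (Sum.inl ⟨0, hn⟩) 1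
    have hu₀ : u₀ ≠ 0 := fun h => one_ne_zero ((Pi.single_eq_same _ _).symm.trans (congrFun h (Sum.inl ⟨0, hn⟩)))
    refine ⟨tv u₀ 1, rank_tv hu₀, ?_⟩
    ext g
    rw [Set.mem_ofPred_eq, conjugatesOf, Set.mem_ofPred_eq, isConj_iff]
    constructor
    · intro hg
      obtain ⟨v, hv, rfl⟩ := eq_tv g hg
      obtain ⟨c, hc⟩ := transitive hu₀ hv
      exact ⟨c, by rw [conj_tv, hc]⟩
    · rintro ⟨c, rfl⟩
      rw [conj_tv]
      refine rank_tv fun h => hu₀ ?_
      rw [← CfsgLib.SympGen.one_apply u₀, ← inv_mul_cancel c, CfsgLib.SympGen.mul_apply, h, Matrix.mulVec_zero]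
  · rw [eq_top_iff, ← TV_eq_top (F := ZMod 2) (m := n), TV, Subgroup.closure_le]
    rintro A ⟨w, c, hA⟩
    have hA' : A = tv w c := Subtype.ext hA
    subst hA'
    rcases (by decide : ∀ t : ZMod 2, t = 0 ∨ t = 1) c with rfl | rfl
    · rw [hz]; exact one_mem _
    · by_cases hw : w = 0
      · rw [show tv w (1 : ZMod 2) = 1 from sp_ext fun v => by
          rw [tv_apply, CfsgLib.SympGen.one_apply, hw, smul_zero, add_zero]]
        exact one_mem _
      · exact Subgroup.subset_closure (rank_tv hw)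

/-- In the symplectic group in dimension 2n ≥ 2 over the field with two elements, the elements g for which g - 1 has rank one (the symplectic transvections) form a conjugacy class of 3-transpositions generating the group. -/
theorem result (n : ℕ) (hn : 1 ≤ n) : Cfsg.IsThreeTranspositionClass {g : Matrix.symplecticGroup (Fin n) (ZMod 2) | ((g : Matrix (Fin n ⊕ Fin n) (Fin n ⊕ Fin n) (ZMod 2)) - 1).rank = 1} := by
  exact symp_class n hn

end Cfsg.Agent.S0440
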