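import Cfsg.Statements.S5401
import Cfsg.Agent.Lib.ThreeTrans.Exist.Type24
import Cfsg.Agent.Lib.ThreeTrans.M22.Primitive
import Cfsg.Agent.Lib.ThreeTrans.M23.Primitive
-- import your own Cfsg.Agent.* helpers here

set_option autoImplicit false
open Cfsg

namespace Cfsg.Agent.S5401

/-- Existence of the Fischer 3-transposition groups: there exist finite groups generated by a conjugacy class of 3-transpositions on which they act primitively that are of type M(22), of type M(23), and of type M(24) respectively. -/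
theorem result : (∃ (X : Type) (_ : Group X) (_ : Finite X) (E : Set X), Cfsg.IsThreeTranspositionClass E ∧ Cfsg.IsPrimitiveUnderConj E ∧ Cfsg.IsOfTypeM22 X E) ∧ (∃ (X : Type) (_ : Group X) (_ : Finite X) (E : Set X), Cfsg.IsThreeTranspositionClass E ∧ Cfsg.IsPrimitiveUnderConj E ∧ Cfsg.IsOfTypeM23 X E) ∧ (∃ (X : Type) (_ : Group X) (_ : Finite X) (E : Set X), Cfsg.IsThreeTranspositionClass E ∧ Cfsg.IsPrimitiveUnderConj E ∧ Cfsg.IsOfTypeM24 X E) := by
  haveI := CfsgThreeTrans.Exist.finite22
  haveI := CfsgThreeTrans.Exist.finite23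
  exact ⟨⟨_, inferInstance, CfsgThreeTrans.Exist.finite22, _, CfsgLib.CosetEnum.Fi22Class.facts.2.1,
      CfsgThreeTrans.M22.primitive CfsgLib.CosetEnum.Fi22Class.facts.2.1 CfsgThreeTrans.Exist.type22_pres,
      CfsgThreeTrans.Exist.type22_pres⟩,
    ⟨_, inferInstance, CfsgThreeTrans.Exist.finite23, _, CfsgLib.CosetEnum.Fi23Class.facts.2.1,
      CfsgThreeTrans.M23.primitive CfsgLib.CosetEnum.Fi23Class.facts.2.1 CfsgThreeTrans.Exist.type23_pres,
      CfsgThreeTrans.Exist.type23_pres⟩,
    ⟨_, inferInstance, CfsgThreeTrans.Exist.finite24, _, CfsgLib.CosetEnum.Fi24Table.threeTransposition,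
      CfsgThreeTrans.Exist.primitive24, CfsgThreeTrans.Exist.type24_pres⟩⟩

end Cfsg.Agent.S5401
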