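import Cfsg.Statements.S1234
import Cfsg.Agent.Lib.WreathRank.Main

set_option autoImplicit false
open Cfsg

namespace Cfsg.Agent.S1234

/-- Let S be a finite 2-group and Q ≤ S a subgroup of order 32 having an elementary abelian subgroup E of order 16 and an involution s ∉ E whose centralizer in E has order 4 (so Q ≅ (Z₂ × Z₂) ≀ Z₂). If C_S(Z(Q)) = Q, then every section of S has 2-rank at most 4. -/
theorem result {S : Type*} [Group S] [Finite S] (hS : IsPGroup 2 S) (Q E : Subgroup S) (hEQ : E ≤ Q) (hE : Cfsg.IsElementaryAbelian 2 E) (hE16 : Nat.card E = 16) (hQ32 : Nat.card Q = 32) (s : S) (hsQ : s ∈ Q) (hsE : s ∉ E) (hs : orderOf s = 2) (hfix : Nat.card ↥(E ⊓ Subgroup.centralizer ({s} : Set S)) = 4) (hC : Subgroup.centralizer (((Subgroup.center Q).map Q.subtype : Subgroup S) : Set S) = Q) : Cfsg.SectionalPRankLE 2 4 S := by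
  classical
  have hEc : ∀ a ∈ E, ∀ b ∈ E, a * b = b * a := fun a ha b hb =>
    congrArg (Subtype.val : E → S) (hE.1.is_comm.comm ⟨a, ha⟩ ⟨b, hb⟩)
  have hss : s * s = 1 := by rw [← pow_two, ← hs]; exact pow_orderOf_eq_one s
  have hi : (E.subgroupOf Q).index = 2 := by
    have := (E.subgroupOf Q).card_mul_index
    rw [Nat.card_congr (Subgroup.subgroupOfEquivOfLe hEQ).toEquiv, hE16, hQ32] at this
    omega
  have hQ' : ∀ q ∈ Q, q ∉ E → q * s ∈ E := fun q hq hqE =>
    (Subgroup.mul_mem_iff_of_index_two hi (a := ⟨q, hq⟩) (b := ⟨s, hsQ⟩)).2 (iff_of_false hqE hsE)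
  have hns : ¬ E ≤ Subgroup.centralizer ({s} : Set S) := fun hle => by
    rw [inf_eq_left.2 hle, hE16] at hfix
    omega
  have hZ : (Subgroup.center Q).map Q.subtype = E ⊓ Subgroup.centralizer ({s} : Set S) := by
    refine le_antisymm ?_ ?_
    · rintro _ ⟨⟨x, hxQ⟩, hx, rfl⟩
      have hcx : ∀ g ∈ Q, g * x = x * g := fun g hg =>
        congrArg (Subtype.val : Q → S) (Subgroup.mem_center_iff.1 hx ⟨g, hg⟩)
      refine ⟨by_contra fun hxE => hns fun e he => Subgroup.mem_centralizer_singleton_iff.2 ?_,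
        Subgroup.mem_centralizer_singleton_iff.2 (hcx s hsQ).symm⟩
      have h2 : Commute x e := (hcx e (hEQ he)).symm
      have h1 : Commute (x * s) e := hEc _ (hQ' x hxQ hxE) e he
      have h3 := h2.inv_left.mul_left h1
      rw [inv_mul_cancel_left] at h3
      exact h3.symm.eq
    · rintro x ⟨hxE, hxs⟩
      refine ⟨⟨x, hEQ hxE⟩, Subgroup.mem_center_iff.2 fun g => Subtype.ext ?_, rfl⟩
      show (g : S) * x = x * g
      by_cases hg : (g : S) ∈ E
      · exact hEc _ hg x hxE
      · have hsc : Commute s x := (Subgroup.mem_centralizer_singleton_iff.1 hxs).symm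
        have h1 : Commute ((g : S) * s) x := hEc _ (hQ' g g.2 hg) x hxE
        have h3 := h1.mul_left hsc.inv_left
        rw [mul_inv_cancel_right] at h3
        exact h3.eq
  refine CfsgLib.WreathRank.Setup.sectional_rank (Q := Q) (E := E) (s := s)
    ⟨hS, hEQ, hEc, fun a ha => by rw [← pow_two]; exact hE.2 a ha, hE16, hQ32, hsQ, hsE, hss, hfix, ?_⟩
  rw [← hZ]; exact hC

end Cfsg.Agent.S1234
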