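import Cfsg.Statements.S4221
import Cfsg.Agent.Lib.FourTransOdd.Main
import Cfsg.Agent.Lib.SharpTrans.Degrees
-- import your own Cfsg.Agent.* helpers here

set_option autoImplicit false
open Cfsg

namespace Cfsg.Agent.S4221

/-- Let `G` be a `4`-fold transitive permutation group on a finite set of `n` points in which the pointwise stabilizer of some four distinct points has odd order. Then `n = 4` or `n = 5` with `G` the full symmetric group, or `n = 6` or `n = 7` with `G` the alternating group, or `n = 11` and `G` has order `7920`. -/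
theorem result {α : Type*} [Fintype α] [DecidableEq α] (G : Subgroup (Equiv.Perm α)) (hG : MulAction.IsMultiplyPretransitive G α 4) (x : Fin 4 ↪ α) (hodd : Odd (Nat.card (MulAction.stabilizer G x))) : ((Fintype.card α = 4 ∨ Fintype.card α = 5) ∧ G = ⊤) ∨ ((Fintype.card α = 6 ∨ Fintype.card α = 7) ∧ G = alternatingGroup α) ∨ (Fintype.card α = 11 ∧ Nat.card G = 7920) := by
  classical
  haveI hpre : MulAction.IsPretransitive G (Fin 4 ↪ α) := hG
  set h := Nat.card (MulAction.stabilizer G x) with hh
  have hconst : ∀ y : Fin 4 ↪ α, Nat.card (MulAction.stabilizer G y) = h := fun y => by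
    obtain ⟨g, hg⟩ := MulAction.exists_smul_eq G x y
    exact (Nat.card_congr (MulAction.stabilizerEquivStabilizer hg.symm).toEquiv).symm
  have emb : ∀ {a b c d : α}, CfsgSharpTrans.D4 a b c d →
      ∃ e : Fin 4 ↪ α, e 0 = a ∧ e 1 = b ∧ e 2 = c ∧ e 3 = d := by
    rintro a b c d ⟨h1, h2, h3, h4, h5, h6⟩
    refine ⟨⟨![a, b, c, d], ?_⟩, rfl, rfl, rfl, rfl⟩
    intro i j e
    fin_cases i <;> fin_cases j <;>
      first
      | rfl
      | (simp at e; simp_all)
  have fin4 : ∀ {y : Fin 4 ↪ α} {g : G}, (∀ i, (g : Equiv.Perm α) (y i) = y i) → g ∈ MulAction.stabilizer G y :=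
    fun {y g} e => Function.Embedding.ext e
  have hstab : ∀ {a b c d : α}, CfsgSharpTrans.D4 a b c d →
      Nat.card (CfsgFourTransOdd.stab G a b c d) = h := by
    intro a b c d hd
    obtain ⟨y, y0, y1, y2, y3⟩ := emb hd
    rw [← hconst y]
    refine Nat.card_congr ⟨fun g => ⟨⟨g, g.2.1⟩, fin4 ?_⟩, fun g => ⟨(g : G), ?_⟩, fun g => rfl, fun g => rfl⟩
    · intro i
      fin_cases i
      · show (g : Equiv.Perm α) (y 0) = y 0
        rw [y0]; exact g.2.2.1
      · show (g : Equiv.Perm α) (y 1) = y 1
        rw [y1]; exact g.2.2.2.1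
      · show (g : Equiv.Perm α) (y 2) = y 2
        rw [y2]; exact g.2.2.2.2.1
      · show (g : Equiv.Perm α) (y 3) = y 3
        rw [y3]; exact g.2.2.2.2.2
    · have e : ∀ i, ((g : G) : Equiv.Perm α) (y i) = y i := fun i =>
        congrArg (fun f : Fin 4 ↪ α => f i) g.2
      exact ⟨(g : G).2, y0 ▸ e 0, y1 ▸ e 1, y2 ▸ e 2, y3 ▸ e 3⟩
  have S : CfsgFourTransOdd.Setting G := by
    refine ⟨fun a b c d a' b' c' d' hd hd' => ?_, fun g hg a b c d hd e1 e2 e3 e4 => ?_⟩
    · obtain ⟨y, y0, y1, y2, y3⟩ := emb hd
      obtain ⟨w, w0, w1, w2, w3⟩ := emb hd'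
      obtain ⟨g, hg⟩ := MulAction.exists_smul_eq G y w
      have e : ∀ i, (g : Equiv.Perm α) (y i) = w i := fun i => congrArg (fun f : Fin 4 ↪ α => f i) hg
      exact ⟨g, g.2, by rw [← y0, e, w0], by rw [← y1, e, w1], by rw [← y2, e, w2], by rw [← y3, e, w3]⟩
    · obtain ⟨y, y0, y1, y2, y3⟩ := emb hd
      have hmem : (⟨g, hg⟩ : G) ∈ MulAction.stabilizer G y := fin4 fun i => by
        fin_cases i
        · show g (y 0) = y 0
          rw [y0]; exact e1
        · show g (y 1) = y 1
          rw [y1]; exact e2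
        · show g (y 2) = y 2
          rw [y2]; exact e3
        · show g (y 3) = y 3
          rw [y3]; exact e4
      have := Odd.of_dvd_nat (hh ▸ hodd : Odd h) (hconst y ▸ Subgroup.orderOf_dvd_natCard _ hmem)
      rwa [Subgroup.orderOf_mk] at this
  have hn4 : 4 ≤ Fintype.card α := by simpa using Fintype.card_le_of_embedding x
  have hG : Nat.card G = (Fintype.card α).descFactorial 4 * h := by
    have e := MulAction.card_orbit_mul_card_stabilizer_eq_card_group G x
    simp only [← Nat.card_eq_fintype_card] at e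
    rw [← e, @MulAction.orbit_eq_univ G _ (Fin 4 ↪ α) _ hpre x, ← hh, Nat.card_congr (Equiv.Set.univ _), Nat.card_eq_fintype_card,
      Fintype.card_embedding_eq, Fintype.card_fin]
  have hdvd : Nat.card G ∣ (Fintype.card α).factorial :=
    (Subgroup.card_subgroup_dvd_card G).trans (dvd_of_eq (by rw [Nat.card_perm, Nat.card_eq_fintype_card]))
  have hhodd : Odd h := hodd
  have hidx : G.index * Nat.card G = (Fintype.card α).factorial := by
    rw [Subgroup.index_mul_card, Nat.card_perm, Nat.card_eq_fintype_card]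
  rcases lt_or_ge (Fintype.card α) 8 with hlt | hge
  · have hpos : 0 < h := Nat.card_pos
    have hip : 0 < G.index := Nat.pos_of_ne_zero Subgroup.index_ne_zero_of_finite
    interval_cases hn : Fintype.card α
    · left
      refine ⟨Or.inl rfl, Subgroup.index_eq_one.1 ?_⟩
      simp [Nat.descFactorial, Nat.factorial] at hG hidx
      nlinarith
    · left
      refine ⟨Or.inr rfl, Subgroup.index_eq_one.1 ?_⟩
      simp [Nat.descFactorial, Nat.factorial] at hG hidx
      nlinarith
    · right; left
      refine ⟨Or.inl rfl, Equiv.Perm.eq_alternatingGroup_of_index_eq_two ?_⟩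
      simp [Nat.descFactorial, Nat.factorial] at hG hidx
      have h2 : G.index * h = 2 := by nlinarith
      have h1 : h = 1 := by
        have hd : h ∣ 2 := Dvd.intro_left _ h2
        rcases (Nat.dvd_prime Nat.prime_two).1 hd with e | e
        · exact e
        · rw [e] at hhodd; exact absurd hhodd (by decide)
      rwa [h1, mul_one] at h2
    · right; left
      refine ⟨Or.inr rfl, Equiv.Perm.eq_alternatingGroup_of_index_eq_two ?_⟩
      simp [Nat.descFactorial, Nat.factorial] at hG hidx
      have h6 : G.index * h = 6 := by nlinarith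
      have hne : h ≠ 1 := by
        intro e
        have hb : ∀ y : Fin 4 ↪ α, MulAction.stabilizer G y = ⊥ := fun y =>
          Subgroup.card_eq_one.1 ((hconst y).trans e)
        have := CfsgSharpTrans.degree4 (CfsgSharpTrans.sharpK_of G 4 hb) (by omega)
        omega
      have hle : h ≤ 6 := Nat.le_of_dvd (by norm_num) (Dvd.intro_left _ h6)
      obtain ⟨k, hk⟩ := hhodd
      interval_cases h <;> omega
  · obtain ⟨h11, a, b, c, d, hd, hcases⟩ := CfsgFourTransOdd.eleven S hge
    rw [hstab hd] at hcases
    right; right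
    refine ⟨h11, ?_⟩
    rcases hcases with e | e
    · rw [hG, h11, e]; norm_num [Nat.descFactorial]
    · exfalso
      rw [hG, h11, e] at hdvd
      norm_num [Nat.descFactorial, Nat.factorial] at hdvd

end Cfsg.Agent.S4221
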