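import Cfsg.Statements.S0711
import Mathlib
-- import your own Cfsg.Agent.* helpers here

set_option autoImplicit false
open Cfsg

namespace Cfsg.Agent.S0711

universe u

section
variable {α : Type u} [Fintype α] [DecidableEq α]

/-- A set of moved points of given size on which `g` is, but for one point, invariant. -/
private theorem exists_arc (g : Equiv.Perm α) (j : ℕ) (hj : 1 ≤ j) (hjm : j ≤ g.support.card) :
    ∃ S : Finset α, S ⊆ g.support ∧ S.card = j ∧
      ((∀ x ∈ S, g x ∈ S) ∨ ∃ s ∈ S, g s ∉ S ∧ ∀ x ∈ S, x ≠ s → g x ∈ S) := by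
  induction j, hj using Nat.le_induction with
  | base =>
    obtain ⟨x, hx⟩ : g.support.Nonempty := Finset.card_pos.mp (by omega)
    exact ⟨{x}, by simpa using hx, Finset.card_singleton x, Or.inr ⟨x, Finset.mem_singleton_self x,
      by simpa using Equiv.Perm.mem_support.mp hx, fun y hy hyx => absurd (Finset.mem_singleton.mp hy) hyx⟩⟩
  | succ j hj ih =>
    obtain ⟨S, hS, hSc, hcl | ⟨s, hs, hgs, hrest⟩⟩ := ih (by omega)
    · obtain ⟨x, hx, hxS⟩ := Finset.exists_mem_notMem_of_card_lt_card (s := S) (t := g.support) (by omega)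
      refine ⟨insert x S, Finset.insert_subset hx hS, by rw [Finset.card_insert_of_notMem hxS, hSc], Or.inr ⟨x, Finset.mem_insert_self _ _, ?_, ?_⟩⟩
      · rw [Finset.mem_insert, not_or]
        refine ⟨Equiv.Perm.mem_support.mp hx, fun h => hxS ?_⟩
        have himg : S.image g = S := Finset.eq_of_subset_of_card_le (fun y hy => by
          obtain ⟨z, hz, rfl⟩ := Finset.mem_image.mp hy; exact hcl z hz) (by rw [Finset.card_image_of_injective _ g.injective])
        obtain ⟨z, hz, e⟩ := Finset.mem_image.mp (himg.symm ▸ h)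
        exact g.injective e ▸ hz
      · intro y hy hyx
        exact Finset.mem_insert_of_mem (hcl y ((Finset.mem_insert.mp hy).resolve_left hyx))
    · refine ⟨insert (g s) S, Finset.insert_subset (Equiv.Perm.apply_mem_support.mpr (hS hs)) hS, by rw [Finset.card_insert_of_notMem hgs, hSc], ?_⟩
      by_cases h2 : g (g s) ∈ insert (g s) S
      · left
        intro y hy
        rcases Finset.mem_insert.mp hy with rfl | hy
        · exact h2
        · by_cases hys : y = s
          · exact hys ▸ Finset.mem_insert_self _ _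
          · exact Finset.mem_insert_of_mem (hrest y hy hys)
      · right
        refine ⟨g s, Finset.mem_insert_self _ _, h2, fun y hy hyx => ?_⟩
        have hy' := (Finset.mem_insert.mp hy).resolve_left hyx
        by_cases hys : y = s
        · exact hys ▸ Finset.mem_insert_self _ _
        · exact Finset.mem_insert_of_mem (hrest y hy' hys)

/-- Support of the quotient of a permutation by a conjugate agreeing with it on `A`. -/
private theorem support_bound (g h : Equiv.Perm α) (S A : Finset α) (hA : A ⊆ g.support)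
    (hfix : ∀ x ∈ S, h x = x) (hag : ∀ x ∈ A, x ∈ S ∧ g x ∈ S) :
    (g⁻¹ * (h * g * h⁻¹)).support ⊆ (g.support ∪ (g.support \ S).image h) \ A := by
  intro x hx
  rw [Equiv.Perm.mem_support] at hx
  have hhx : ∀ y ∈ S, h⁻¹ y = y := fun y hy => h.injective (by rw [Equiv.Perm.inv_def, Equiv.apply_symm_apply, hfix y hy])
  refine Finset.mem_sdiff.mpr ⟨?_, fun hxA => hx ?_⟩
  · by_contra hcon
    rw [Finset.mem_union, not_or, Equiv.Perm.notMem_support] at hcon
    obtain ⟨h1, h2⟩ := hcon
    apply hx
    have h3 : g (h⁻¹ x) = h⁻¹ x := by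
      by_contra hne
      by_cases hS : h⁻¹ x ∈ S
      · have : x = h⁻¹ x := by
          conv_lhs => rw [show x = h (h⁻¹ x) by simp]
          exact hfix _ hS
        rw [← this] at hne
        exact hne h1
      · exact h2 (Finset.mem_image.mpr ⟨h⁻¹ x, Finset.mem_sdiff.mpr ⟨Equiv.Perm.mem_support.mpr hne, hS⟩, by simp⟩)
    rw [Equiv.Perm.mul_apply, Equiv.Perm.mul_apply, Equiv.Perm.mul_apply, h3]
    simp only [Equiv.Perm.inv_def, Equiv.apply_symm_apply]
    rw [Equiv.symm_apply_eq]; exact h1.symm
  · obtain ⟨hxS, hgxS⟩ := hag x hxA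
    rw [Equiv.Perm.mul_apply, Equiv.Perm.mul_apply, Equiv.Perm.mul_apply, hhx x hxS, hfix _ hgxS]
    simp

private theorem exists_smaller (G : Subgroup (Equiv.Perm α)) {k : ℕ}
    (hmap : ∀ (s : Finset α) (y z : α), s.card + 1 ≤ k → y ∉ s → z ∉ s → ∃ h ∈ G, (∀ x ∈ s, h x = x) ∧ h y = z)
    (g : Equiv.Perm α) (hg : g ∈ G) (hm : 4 ≤ g.support.card) (hmk : g.support.card < 2 * k - 2) :
    ∃ f ∈ G, f ≠ 1 ∧ f.support.card < g.support.card := by
  set m := g.support.card with hmdef
  have hne : ∀ h : Equiv.Perm α, ∀ z, (h * g * h⁻¹) z ≠ g z → g⁻¹ * (h * g * h⁻¹) ≠ 1 := fun h z hz e =>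
    hz (by rw [← inv_mul_eq_one.mp e])
  have hconj : ∀ h ∈ G, g⁻¹ * (h * g * h⁻¹) ∈ G := fun h hh => mul_mem (inv_mem hg) (mul_mem (mul_mem hh hg) (inv_mem hh))
  have hinv : ∀ (h : Equiv.Perm α) x, h x = x → h⁻¹ x = x := fun h x hx => by
    rw [Equiv.Perm.inv_def, Equiv.symm_apply_eq]; exact hx.symm
  by_cases hfull : g.support = Finset.univ
  · by_cases hsq : ∃ x, g (g x) ≠ x
    · obtain ⟨x, hx⟩ := hsq
      have hxm : g x ≠ x := Equiv.Perm.mem_support.mp (hfull ▸ Finset.mem_univ x)
      have hgg : g (g x) ≠ g x := Equiv.Perm.mem_support.mp (hfull ▸ Finset.mem_univ (g x))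
      obtain ⟨z, -, hz⟩ := Finset.exists_mem_notMem_of_card_lt_card (s := ({x, g x, g (g x)} : Finset α)) (t := g.support)
        (lt_of_le_of_lt Finset.card_le_three (by omega))
      simp only [Finset.mem_insert, Finset.mem_singleton, not_or] at hz
      obtain ⟨h, hh, hfix, hy⟩ := hmap {x, g x} (g (g x)) z (by rw [Finset.card_pair hxm.symm]; omega)
        (by simp [hx, hgg]) (by simp [hz.1, hz.2.1])
      refine ⟨_, hconj h hh, hne h (g x) ?_, ?_⟩
      · rw [Equiv.Perm.mul_apply, Equiv.Perm.mul_apply, hinv h _ (hfix _ (by simp)), hy]; exact hz.2.2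
      · refine lt_of_le_of_lt (Finset.card_le_card (support_bound g h {x, g x} {x} (by simp [hfull]) hfix (by simp))) ?_
        rw [hfull, Finset.union_eq_left.mpr (Finset.subset_univ _)]
        refine Finset.card_lt_card (s := Finset.univ \ {x}) (t := g.support) (by rw [hfull]; exact ⟨Finset.subset_univ _, fun h' => by simpa using h' (Finset.mem_univ x)⟩)
    · push Not at hsq
      obtain ⟨x, hx⟩ : g.support.Nonempty := Finset.card_pos.mp (by omega)
      obtain ⟨w, -, hw⟩ := Finset.exists_mem_notMem_of_card_lt_card (s := ({x, g x} : Finset α)) (t := g.support)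
        (lt_of_le_of_lt Finset.card_le_two (by omega))
      simp only [Finset.mem_insert, Finset.mem_singleton, not_or] at hw
      have hxm : g x ≠ x := Equiv.Perm.mem_support.mp hx
      have hwm : g w ≠ w := Equiv.Perm.mem_support.mp (hfull ▸ Finset.mem_univ w)
      have hgw1 : g w ≠ x := fun e => hw.2 (by rw [← e, hsq])
      have hgw2 : g w ≠ g x := fun e => hw.1 (g.injective e)
      have hcard4 : ({x, g x, w, g w} : Finset α).card = 4 := by
        rw [Finset.card_insert_of_notMem (by simp [hxm.symm, Ne.symm hw.1, hgw1.symm]), Finset.card_insert_of_notMem (by simp [hgw2.symm, Ne.symm hw.2]), Finset.card_pair hwm.symm]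
      rcases Nat.lt_or_ge 4 m with hm4 | hm4
      · obtain ⟨z, -, hz⟩ := Finset.exists_mem_notMem_of_card_lt_card (s := ({x, g x, w, g w} : Finset α)) (t := g.support) (by omega)
        simp only [Finset.mem_insert, Finset.mem_singleton, not_or] at hz
        obtain ⟨h, hh, hfix, hy⟩ := hmap {x, g x, w} (g w) z
          (by have := Finset.card_le_three (a := x) (b := g x) (c := w); omega)
          (by simp [hgw1, hgw2, hwm]) (by simp [hz.1, hz.2.1, hz.2.2.1])
        refine ⟨_, hconj h hh, hne h w ?_, ?_⟩
        · rw [Equiv.Perm.mul_apply, Equiv.Perm.mul_apply, hinv h _ (hfix _ (by simp)), hy]; exact hz.2.2.2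
        · refine lt_of_le_of_lt (Finset.card_le_card (support_bound g h {x, g x, w} {x} (by simp [hfull]) hfix (by simp))) ?_
          rw [hfull, Finset.union_eq_left.mpr (Finset.subset_univ _)]
          refine Finset.card_lt_card (s := Finset.univ \ {x}) (t := g.support) (by rw [hfull]; exact ⟨Finset.subset_univ _, fun h' => by simpa using h' (Finset.mem_univ x)⟩)
      · -- four points: a transposition
        obtain ⟨h, hh, hfix, hy⟩ := hmap {x, g x} w (g w) (by rw [Finset.card_pair hxm.symm]; omega)
          (by simp [hw.1, hw.2]) (by simp [hgw1, hgw2])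
        have hsub : h.support ⊆ {w, g w} := fun y hy' => by
          have huniv : ({x, g x, w, g w} : Finset α) = Finset.univ := hfull ▸
            Finset.eq_of_subset_of_card_le (fun _ _ => hfull ▸ Finset.mem_univ _) (by omega)
          have := huniv.symm ▸ Finset.mem_univ y
          simp only [Finset.mem_insert, Finset.mem_singleton] at this ⊢
          rcases this with rfl | rfl | h' | h'
          · exact absurd (hfix _ (by simp)) (Equiv.Perm.mem_support.mp hy')
          · exact absurd (hfix _ (by simp)) (Equiv.Perm.mem_support.mp hy')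
          · exact Or.inl h'
          · exact Or.inr h'
        exact ⟨h, hh, fun e => hwm (by rw [e] at hy; exact hy.symm), (Finset.card_le_card hsub).trans_lt (lt_of_le_of_lt Finset.card_le_two (by omega))⟩
  · obtain ⟨z₀, hz₀⟩ : ∃ z₀, z₀ ∉ g.support := by
      by_contra h; push Not at h; exact hfull (Finset.eq_univ_of_forall h)
    set k' := min k m with hk'
    obtain ⟨S, hS, hSc, hclosed | ⟨s, hs, hgs, hrest⟩⟩ := exists_arc g (k' - 1) (by omega) (by omega)
    · obtain ⟨y, hy, hyS⟩ := Finset.exists_mem_notMem_of_card_lt_card (s := S) (t := g.support) (by omega)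
      obtain ⟨h, hh, hfix, hhy⟩ := hmap S y z₀ (by omega) hyS (fun h => hz₀ (hS h))
      refine ⟨_, hconj h hh, hne h z₀ ?_, ?_⟩
      · rw [Equiv.Perm.mul_apply, Equiv.Perm.mul_apply, Equiv.Perm.notMem_support.mp hz₀,
          show h⁻¹ z₀ = y by rw [Equiv.Perm.inv_def, Equiv.symm_apply_eq]; exact hhy.symm, ← hhy]
        exact fun e => Equiv.Perm.mem_support.mp hy (h.injective e)
      · refine lt_of_le_of_lt (Finset.card_le_card (support_bound g h S S hS hfix fun x hx => ⟨hx, hclosed x hx⟩)) ?_
        rw [Finset.card_sdiff_of_subset (hS.trans Finset.subset_union_left)]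
        have h1 := Finset.card_union_le g.support ((g.support \ S).image h)
        rw [Finset.card_image_of_injective _ h.injective, Finset.card_sdiff_of_subset hS] at h1
        omega
    · have hagree : ∀ x ∈ S.erase s, x ∈ S ∧ g x ∈ S := fun x hx =>
        ⟨Finset.mem_of_mem_erase hx, hrest x (Finset.mem_of_mem_erase hx) (Finset.ne_of_mem_erase hx)⟩
      have hgsm : g s ∈ g.support := Equiv.Perm.apply_mem_support.mpr (hS hs)
      have hAsub : S.erase s ⊆ g.support := (Finset.erase_subset _ _).trans hS
      have hgne : ∀ (h : Equiv.Perm α) z, (∀ x ∈ S, h x = x) → h (g s) = z → z ≠ g s → (h * g * h⁻¹) s ≠ g s := fun h z hfix hy hzne => by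
        rw [Equiv.Perm.mul_apply, Equiv.Perm.mul_apply, hinv h _ (hfix s hs), hy]; exact hzne
      rcases Nat.lt_or_ge k m with hkm | hkm
      · obtain ⟨z, hz, hzS⟩ := Finset.exists_mem_notMem_of_card_lt_card (s := insert (g s) S) (t := g.support)
          (by rw [Finset.card_insert_of_notMem hgs]; omega)
        rw [Finset.mem_insert, not_or] at hzS
        obtain ⟨h, hh, hfix, hhy⟩ := hmap S (g s) z (by omega) hgs hzS.2
        refine ⟨_, hconj h hh, hne h s (hgne h z hfix hhy hzS.1), ?_⟩
        refine lt_of_le_of_lt (Finset.card_le_card (support_bound g h S (S.erase s) hAsub hfix hagree)) ?_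
        rw [Finset.card_sdiff_of_subset (hAsub.trans Finset.subset_union_left), Finset.card_erase_of_mem hs]
        have hsub : g.support ∪ (g.support \ S).image h = g.support ∪ ((g.support \ S).erase (g s)).image h := by
          conv_lhs => rw [← Finset.insert_erase (show g s ∈ g.support \ S from Finset.mem_sdiff.mpr ⟨hgsm, hgs⟩),
            Finset.image_insert, hhy, Finset.union_insert, Finset.insert_eq_of_mem (Finset.mem_union_left _ hz)]
        rw [hsub]
        have h1 := Finset.card_union_le g.support (((g.support \ S).erase (g s)).image h)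
        rw [Finset.card_image_of_injective _ h.injective, Finset.card_erase_of_mem (Finset.mem_sdiff.mpr ⟨hgsm, hgs⟩),
          Finset.card_sdiff_of_subset hS] at h1
        omega
      · obtain ⟨h, hh, hfix, hhy⟩ := hmap S (g s) z₀ (by omega) hgs (fun h => hz₀ (hS h))
        refine ⟨_, hconj h hh, hne h s (hgne h z₀ hfix hhy (fun e => hz₀ (e ▸ hgsm))), ?_⟩
        refine lt_of_le_of_lt (Finset.card_le_card (support_bound g h S (S.erase s) hAsub hfix hagree)) ?_
        rw [Finset.card_sdiff_of_subset (hAsub.trans Finset.subset_union_left), Finset.card_erase_of_mem hs]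
        have h1 := Finset.card_union_le g.support ((g.support \ S).image h)
        rw [Finset.card_image_of_injective _ h.injective, Finset.card_sdiff_of_subset hS] at h1
        omega

end

/-- A `k`-transitive permutation group (`k ≥ 3`) with a non-identity element of support smaller than `2k - 2` contains a non-identity element of support at most 3, and therefore contains the alternating group. -/
theorem result {α : Type*} [Fintype α] [DecidableEq α] (G : Subgroup (Equiv.Perm α)) {k : ℕ} (hk : 3 ≤ k) (hkn : k ≤ Fintype.card α) (hG : MulAction.IsMultiplyPretransitive G α k) (g : Equiv.Perm α) (hg : g ∈ G) (hg1 : g ≠ 1) (hsupp : g.support.card < 2 * k - 2) : (∃ h : Equiv.Perm α, h ∈ G ∧ h ≠ 1 ∧ h.support.card ≤ 3) ∧ alternatingGroup α ≤ G := by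
  classical
  haveI := hG
  have hmap : ∀ (s : Finset α) (y z : α), s.card + 1 ≤ k → y ∉ s → z ∉ s → ∃ h ∈ G, (∀ x ∈ s, h x = x) ∧ h y = z := by
    intro s y z hs hy hz
    haveI : MulAction.IsMultiplyPretransitive G α (s.card + 1) :=
      MulAction.isMultiplyPretransitive_of_le (n := k) hs (by rw [Nat.card_eq_fintype_card]; exact hkn)
    haveI := (MulAction.is_one_pretransitive_iff).mp
      (SubMulAction.ofFixingSubgroup.isMultiplyPretransitive G (n := s.card + 1) (m := 1) (s : Set α) (by rw [Set.ncard_coe_finset]))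
    obtain ⟨f, hf⟩ := MulAction.exists_smul_eq (fixingSubgroup G (s : Set α))
      (⟨y, fun h => hy (Finset.mem_coe.mp h)⟩ : SubMulAction.ofFixingSubgroup G (s : Set α)) ⟨z, fun h => hz (Finset.mem_coe.mp h)⟩
    exact ⟨((f : G) : Equiv.Perm α), (f : G).2, fun x hx => (mem_fixingSubgroup_iff G).mp f.2 x (Finset.mem_coe.mpr hx), congrArg Subtype.val hf⟩
  have hsmall : ∀ m, ∀ f ∈ G, f ≠ 1 → f.support.card = m → m < 2 * k - 2 → ∃ h : Equiv.Perm α, h ∈ G ∧ h ≠ 1 ∧ h.support.card ≤ 3 := by
    intro m
    induction m using Nat.strong_induction_on with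
    | h m ih =>
      intro f hf hf1 hfm hmk
      rcases Nat.lt_or_ge m 4 with h4 | h4
      · exact ⟨f, hf, hf1, by omega⟩
      · obtain ⟨f', hf', hf'1, hlt⟩ := exists_smaller G hmap f hf (by omega) (by omega)
        exact ih _ (by omega) f' hf' hf'1 rfl (by omega)
  obtain ⟨h, hh, hh1, hh3⟩ := hsmall _ g hg hg1 rfl hsupp
  refine ⟨⟨h, hh, hh1, hh3⟩, ?_⟩
  have hprim : MulAction.IsPreprimitive G α := MulAction.isPreprimitive_of_is_two_pretransitive
    (MulAction.isMultiplyPretransitive_of_le (n := k) (by omega) (by rw [Nat.card_eq_fintype_card]; exact hkn))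
  have h2 : 2 ≤ h.support.card := Equiv.Perm.one_lt_card_support_of_ne_one hh1
  rcases Nat.lt_or_ge h.support.card 3 with h' | h'
  · rw [Equiv.Perm.subgroup_eq_top_of_isPreprimitive_of_isSwap_mem hprim h (Equiv.Perm.card_support_eq_two.mp (by omega)) hh]
    exact le_top
  · exact Equiv.Perm.alternatingGroup_le_of_isPreprimitive_of_isThreeCycle_mem hprim (card_support_eq_three_iff.mp (by omega)) hh

end Cfsg.Agent.S0711
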