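import Cfsg.Statements.S1475
import Mathlib
import Cfsg.Agent.Lib.HallPi
import Cfsg.Agent.Lib.Elementary
import Cfsg.Agent.Lib.Frobenius.Complement
-- import your own Cfsg.Agent.* helpers here

set_option autoImplicit false
open Cfsg

namespace Cfsg.Agent.S1475

open scoped Pointwise
universe u
variable {G : Type u} [Group G] [Finite G]

private theorem coprime_orders (h : ∀ g : G, IsPrimePow (orderOf g) ∨ g = 1) {x y : G} (hc : Commute x y)
    {s t : ℕ} (hs : s.Prime) (ht : t.Prime) (hst : s ≠ t) (hx : orderOf x = s) (hy : t ∣ orderOf y) : False := by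
  set z := y ^ (orderOf y / t)
  have hz : orderOf z = t := orderOf_pow_orderOf_div (orderOf_pos y).ne' hy
  have ho : orderOf (x * z) = s * t := by
    rw [(hc.pow_right _).orderOf_mul_eq_mul_orderOf_of_coprime, hx, hz]
    rw [hx, hz]; exact (Nat.coprime_primes hs ht).mpr hst
  rcases h (x * z) with h1 | h1
  · rw [ho] at h1
    exact hst ((isPrimePow_iff_unique_prime_dvd (n := s * t)).mp h1 |>.unique ⟨hs, dvd_mul_right _ _⟩ ⟨ht, dvd_mul_left _ _⟩)
  · rw [h1, orderOf_one] at ho
    exact absurd (Nat.eq_one_of_mul_eq_one_right ho.symm) hs.ne_one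
private theorem card_sup_of_disjoint {X : Type u} [Group X] [Finite X] (M L : Subgroup X) [M.Normal] (hd : Disjoint M L) :
    Nat.card (M ⊔ L : Subgroup X) = Nat.card M * Nat.card L := by
  have e : ((M ⊔ L : Subgroup X) : Set X) = (M : Set X) * (L : Set X) := Subgroup.normal_mul M L
  rw [← Nat.card_prod]
  refine (Nat.card_congr ((Equiv.ofBijective (fun z : M × L => (⟨(z.1 : X) * z.2, Set.mul_mem_mul z.1.2 z.2.2⟩ : ((M : Set X) * (L : Set X) : Set X))) ⟨fun a b h => ?_, ?_⟩).trans (Equiv.setCongr e.symm))).symm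
  · exact Subgroup.mul_injective_of_disjoint hd (congrArg Subtype.val h)
  · rintro ⟨_, a, ha, b, hb, rfl⟩
    exact ⟨(⟨a, ha⟩, ⟨b, hb⟩), rfl⟩

/-- Let G be a finite solvable group such that the order of every element is a prime power (1 included). Then at most two distinct primes divide the order of G. -/
theorem result {G : Type*} [Group G] [Finite G] [Group.IsSolvable G] (h : ∀ g : G, IsPrimePow (orderOf g) ∨ g = 1) :
    (Nat.card G).primeFactors.card ≤ 2 := by
  classical
  by_contra hcon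
  rw [not_le] at hcon
  have hnt : Nontrivial G := by
    by_contra hn
    rw [not_nontrivial_iff_subsingleton] at hn
    rw [Nat.card_unique, Nat.primeFactors_one, Finset.card_empty] at hcon
    omega
  obtain ⟨N, hNn, -, hN0, hNmin⟩ := CfsgLib.exists_minimal_normal (N := (⊤ : Subgroup G)) top_ne_bot
  haveI := hNn
  obtain ⟨hNc, s, hs, hNs⟩ := CfsgLib.minimal_normal_elementary hN0 inferInstance hNmin
  haveI := hNc
  obtain ⟨q, hq, r, hr, hqr⟩ := Finset.one_lt_card.mp (show 1 < ((Nat.card G).primeFactors.erase s).card by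
    have := Finset.pred_card_le_card_erase (a := s) (s := (Nat.card G).primeFactors); omega)
  obtain ⟨hqs, hq'⟩ := Finset.mem_erase.mp hq
  obtain ⟨hrs, hr'⟩ := Finset.mem_erase.mp hr
  have hqp : q.Prime := Nat.prime_of_mem_primeFactors hq'
  have hrp : r.Prime := Nat.prime_of_mem_primeFactors hr'
  obtain ⟨K, -, hKπ, hKi⟩ := CfsgLib.exists_isPiHallOf (X := G) ({q, r} : Set ℕ) (M := ⊤) inferInstance
  have hdiv : ∀ t : ℕ, t.Prime → t ∈ ({q, r} : Set ℕ) → t ∣ Nat.card G → t ∣ Nat.card K := fun t ht htm hd => by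
    have e := K.card_mul_index
    rw [← Subgroup.relIndex_top_right] at e
    rw [← e] at hd
    exact (ht.dvd_mul.mp hd).resolve_right (hKi t ht htm)
  have hfpf : ∀ x ∈ K, x ≠ 1 → N ⊓ Subgroup.centralizer {x} = ⊥ := by
    intro x hx hx1
    rw [eq_bot_iff]
    intro v hv
    rw [Subgroup.mem_bot]
    by_contra hv1
    obtain ⟨t, ht, htd⟩ := Nat.exists_prime_and_dvd (show orderOf x ≠ 1 by rwa [Ne, orderOf_eq_one_iff])
    have hts : s ≠ t := by
      rintro rfl
      rcases hKπ s ht (htd.trans (Subgroup.orderOf_dvd_natCard K hx)) with e | e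
      · exact hqs e.symm
      · exact hrs e.symm
    exact coprime_orders h (show Commute v x from (Subgroup.mem_centralizer_singleton_iff.mp (Subgroup.mem_inf.mp hv).2)) hs ht hts
      (haveI := Fact.mk hs; orderOf_eq_prime (hNs v (Subgroup.mem_inf.mp hv).1) hv1) htd
  have hKN : K ≤ Subgroup.normalizer (N : Set G) := by rw [Subgroup.normalizer_eq_top]; exact le_top
  haveI : Nontrivial K := by
    haveI := Fact.mk hqp
    obtain ⟨z, hz⟩ := exists_prime_orderOf_dvd_card' (G := K) q (hdiv q hqp (Or.inl rfl) (Nat.dvd_of_mem_primeFactors hq'))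
    exact ⟨z, 1, fun e => hqp.ne_one (by rw [← hz, e, orderOf_one])⟩
  obtain ⟨M, hMn, -, hM0, hMmin⟩ := CfsgLib.exists_minimal_normal (N := (⊤ : Subgroup K)) top_ne_bot
  haveI := hMn
  obtain ⟨hMc, t, ht, hMt⟩ := CfsgLib.minimal_normal_elementary hM0 inferInstance hMmin
  haveI := hMc
  haveI : Nontrivial M := (Subgroup.nontrivial_iff_ne_bot M).mpr hM0
  have htK : t = q ∨ t = r := by
    obtain ⟨z, hz⟩ := exists_ne (1 : M)
    refine hKπ t ht ?_
    have e : orderOf (z : K) = t := by
      haveI := Fact.mk ht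
      exact orderOf_eq_prime (hMt z z.2) fun e => hz (Subtype.ext e)
    exact e ▸ orderOf_dvd_natCard _
  obtain ⟨o, hop, hot, hod⟩ : ∃ o : ℕ, o.Prime ∧ o ≠ t ∧ o ∣ Nat.card K := by
    rcases htK with rfl | rfl
    · exact ⟨r, hrp, Ne.symm hqr, hdiv r hrp (Or.inr rfl) (Nat.dvd_of_mem_primeFactors hr')⟩
    · exact ⟨q, hqp, hqr, hdiv q hqp (Or.inl rfl) (Nat.dvd_of_mem_primeFactors hq')⟩
  haveI := Fact.mk hop
  obtain ⟨y, hy⟩ := exists_prime_orderOf_dvd_card' (G := K) o hod
  let M' : Subgroup G := M.map K.subtype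
  haveI : IsMulCommutative M' := inferInstance
  have hM'K : M' ≤ K := Subgroup.map_subtype_le _
  have hcyc : IsCyclic M' := CfsgLib.Frob.isCyclic_of_fpf_comm hN0 (hM'K.trans hKN) fun x hx => hfpf x (hM'K hx)
  have hcM : Nat.card M = t := by
    haveI : IsCyclic M := (Subgroup.equivMapOfInjective M K.subtype K.subtype_injective).isCyclic.mpr hcyc
    obtain ⟨g, hg⟩ := IsCyclic.exists_generator (α := M)
    have e : orderOf g = t := by
      haveI := Fact.mk ht
      refine orderOf_eq_prime (Subtype.ext (by simpa using hMt g g.2)) fun e => ?_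
      obtain ⟨z, hz⟩ := exists_ne (1 : M)
      obtain ⟨i, hi⟩ := hg z
      exact hz (by rw [← hi, e]; exact one_zpow i)
    rw [← e, orderOf_eq_card_of_forall_mem_zpowers hg]
  let A : Subgroup K := M ⊔ Subgroup.zpowers y
  have hcA : Nat.card A = t * o := by
    have hd : Disjoint M (Subgroup.zpowers y) := Subgroup.disjoint_of_coprime_natCard (by
      rw [hcM, Nat.card_zpowers, hy]; exact (Nat.coprime_primes ht hop).mpr (Ne.symm hot))
    rw [card_sup_of_disjoint M (Subgroup.zpowers y) hd, hcM, Nat.card_zpowers, hy]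
  let A' : Subgroup G := A.map K.subtype
  have hA'K : A' ≤ K := Subgroup.map_subtype_le _
  have hcyA : IsCyclic A' := CfsgLib.Frob.isCyclic_of_fpf_pq hN0 (hA'K.trans hKN) (fun x hx => hfpf x (hA'K hx)) ht hop
    (by rw [Subgroup.card_map_of_injective K.subtype_injective, hcA])
  obtain ⟨m, hm⟩ := exists_ne (1 : M)
  have hmA : ((m : K) : G) ∈ A' := ⟨m, Subgroup.mem_sup_left m.2, rfl⟩
  have hyA : (y : G) ∈ A' := ⟨y, Subgroup.mem_sup_right (Subgroup.mem_zpowers y), rfl⟩
  obtain ⟨g, hg⟩ := hcyA.exists_generator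
  obtain ⟨a, ha⟩ := hg ⟨_, hmA⟩
  obtain ⟨b, hb⟩ := hg ⟨_, hyA⟩
  have hcom : Commute ((m : K) : G) (y : G) := by
    have h1 : Commute (g ^ a) (g ^ b) := ((Commute.refl g).zpow_left a).zpow_right b
    have h2 := congrArg Subtype.val h1.eq
    simp only at ha hb
    rw [ha, hb] at h2
    simpa [commute_iff_eq] using h2
  refine coprime_orders h hcom ht hop (Ne.symm hot) ?_ (by rw [Subgroup.orderOf_coe, hy])
  rw [Subgroup.orderOf_coe]
  haveI := Fact.mk ht
  exact orderOf_eq_prime (hMt m m.2) fun e => hm (Subtype.ext e)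

end Cfsg.Agent.S1475
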