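import Cfsg.Statements.S3794
import Mathlib
import Cfsg.Agent.Lib.Elementary
-- import your own Cfsg.Agent.* helpers here

set_option autoImplicit false
open Cfsg

namespace Cfsg.Agent.S3794

open scoped commutatorElement Pointwise

section
universe u

variable {G : Type u} [Group G]

/-- The subgroup generated by the `g⁻¹ · σ²(g)`. -/
def tauComm (σ : MulAut G) : Subgroup G := Subgroup.closure (Set.range fun g : G => g⁻¹ * σ (σ g))

theorem pow_four_apply {σ : MulAut G} (h4 : σ ^ 4 = 1) (g : G) : σ (σ (σ (σ g))) = g := by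
  have := DFunLike.congr_fun h4 g
  simpa [pow_succ, MulAut.mul_apply] using this

theorem tauComm_normal (σ : MulAut G) : (tauComm σ).Normal := by
  refine ⟨fun n hn h => ?_⟩
  have hle : (tauComm σ).map (MulAut.conj h).toMonoidHom ≤ tauComm σ := by
    rw [tauComm, MonoidHom.map_closure, Subgroup.closure_le]
    rintro _ ⟨_, ⟨g, rfl⟩, rfl⟩
    have e : MulAut.conj h (g⁻¹ * σ (σ g)) = ((g * h⁻¹)⁻¹ * σ (σ (g * h⁻¹))) * (h⁻¹⁻¹ * σ (σ h⁻¹))⁻¹ := by
      simp only [MulAut.conj_apply, map_mul, map_inv]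
      group
    show MulAut.conj h (g⁻¹ * σ (σ g)) ∈ _
    rw [e]
    exact mul_mem (Subgroup.subset_closure ⟨_, rfl⟩) (inv_mem (Subgroup.subset_closure ⟨_, rfl⟩))
  exact hle ⟨n, hn, rfl⟩

theorem tauComm_invariant (σ : MulAut G) : ∀ x ∈ tauComm σ, σ x ∈ tauComm σ := by
  intro x hx
  have hle : (tauComm σ).map σ.toMonoidHom ≤ tauComm σ := by
    rw [tauComm, MonoidHom.map_closure, Subgroup.closure_le]
    rintro _ ⟨_, ⟨g, rfl⟩, rfl⟩
    exact Subgroup.subset_closure ⟨σ g, by simp⟩
  exact hle ⟨x, hx, rfl⟩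

variable [Finite G]

theorem odd_card_of_fpf {σ : MulAut G} (h4 : σ ^ 4 = 1) (hfpf : ∀ g, σ g = g → g = 1) :
    Odd (Nat.card G) := by
  classical
  have hf : Function.Surjective fun g : G => g⁻¹ * σ g := by
    refine Finite.surjective_of_injective fun a b h => ?_
    have h' : a⁻¹ * σ a = b⁻¹ * σ b := h
    have : σ (b * a⁻¹) = b * a⁻¹ := by
      rw [map_mul, map_inv, show σ b = b * (a⁻¹ * σ a) by rw [h', mul_inv_cancel_left]]
      group
    exact (mul_inv_eq_one.mp (hfpf _ this)).symm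
  have : Fact (Nat.Prime 2) := ⟨Nat.prime_two⟩
  by_contra hodd
  rw [Nat.not_odd_iff_even, even_iff_two_dvd] at hodd
  obtain ⟨P⟩ : Nonempty (Sylow 2 G) := inferInstance
  obtain ⟨h, hh⟩ := MulAction.exists_smul_eq G P (σ • P)
  obtain ⟨g, hg⟩ := hf h⁻¹
  have hh' : MulAut.conj h • (P : Subgroup G) = σ • (P : Subgroup G) := by
    rw [← Sylow.coe_subgroup_smul, hh]; rfl
  set Q : Sylow 2 G := g • P with hQdef
  have hQ : ∀ x ∈ (Q : Subgroup G), σ x ∈ (Q : Subgroup G) := by
    intro x hx
    rw [hQdef, Sylow.coe_subgroup_smul, Subgroup.mem_pointwise_smul_iff_inv_smul_mem] at hx ⊢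
    have h2 : σ (g⁻¹ * x * g) ∈ MulAut.conj h • (P : Subgroup G) := by
      rw [hh']
      exact Subgroup.smul_mem_pointwise_smul _ σ _ (by simpa using hx)
    rw [Subgroup.mem_pointwise_smul_iff_inv_smul_mem] at h2
    have hg' : g⁻¹ * σ g = h⁻¹ := hg
    have hsg : σ g = g * h⁻¹ := by rw [← hg', mul_inv_cancel_left]
    simp only [MulAut.smul_def, MulAut.conj_inv_apply, map_mul, map_inv, hsg] at h2 ⊢
    convert h2 using 1
    group
  -- a `2`-group of automorphisms fixes a non-identity point of a `2`-group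
  let A : Subgroup (MulAut G) := Subgroup.zpowers σ
  have hA : IsPGroup 2 A := by
    refine fun a => ⟨2, Subtype.ext ?_⟩
    obtain ⟨i, hi⟩ := a.2
    rw [Subgroup.coe_pow, Subgroup.coe_one, ← hi, ← zpow_natCast, ← zpow_mul, mul_comm, zpow_mul,
      show ((2 ^ 2 : ℕ) : ℤ) = ((4 : ℕ) : ℤ) by norm_num, zpow_natCast, h4, one_zpow]
  have hpowQ : ∀ a : A, ∀ x ∈ (Q : Subgroup G), (a : MulAut G) x ∈ (Q : Subgroup G) := by
    intro a x hx
    obtain ⟨i, hi⟩ := a.2
    have hn : ∀ n : ℕ, ∀ x ∈ (Q : Subgroup G), (σ ^ n) x ∈ (Q : Subgroup G) := by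
      intro n
      induction n with
      | zero => intro x hx; simpa using hx
      | succ n ihn => intro x hx; rw [pow_succ, MulAut.mul_apply]; exact ihn _ (hQ x hx)
    obtain ⟨k, hk⟩ : ∃ k : ℕ, σ ^ k = σ ^ i :=
      ⟨(i % 4).toNat, by
        rw [← zpow_natCast, Int.toNat_of_nonneg (Int.emod_nonneg i (by norm_num))]
        conv_rhs => rw [← Int.emod_add_mul_ediv i 4, zpow_add, zpow_mul,
          show σ ^ (4 : ℤ) = 1 by exact_mod_cast h4, one_zpow, mul_one]⟩
    rw [← hi, show (fun n : ℤ => σ ^ n) i = σ ^ k from hk.symm]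
    exact hn k x hx
  letI : MulAction A (Q : Subgroup G) :=
    { smul := fun a x => ⟨(a : MulAut G) x, hpowQ a x x.2⟩
      one_smul := fun x => rfl
      mul_smul := fun a b x => rfl }
  have hdvd : 2 ∣ Nat.card (Q : Subgroup G) := Q.dvd_card_of_dvd_card hodd
  have h1fix : (1 : (Q : Subgroup G)) ∈ MulAction.fixedPoints A (Q : Subgroup G) := fun a =>
    Subtype.ext (map_one (a : MulAut G))
  obtain ⟨x, hx, hx1⟩ := hA.exists_fixed_point_of_prime_dvd_card_of_fixed_point _ hdvd h1fix
  exact hx1.symm (Subtype.ext (hfpf x (congrArg Subtype.val (hx ⟨σ, Subgroup.mem_zpowers σ⟩))))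

theorem eq_one_of_sq_eq_one (hodd : Odd (Nat.card G)) {t : G} (h : t * t = 1) : t = 1 :=
  orderOf_eq_one_iff.mp (Nat.eq_one_of_dvd_coprimes (Nat.coprime_two_right.mpr hodd)
    (orderOf_dvd_natCard t) (orderOf_dvd_of_pow_eq_one (by rw [pow_two]; exact h)))

/-- If `σ²` moves elements only by elements it fixes, it is trivial (odd order). -/
theorem tau_eq_of_fixed (hodd : Odd (Nat.card G)) {σ : MulAut G} (h4 : σ ^ 4 = 1)
    (h : ∀ x, σ (σ (x⁻¹ * σ (σ x))) = x⁻¹ * σ (σ x)) (x : G) : σ (σ x) = x := by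
  have h2 := h x
  rw [map_mul, map_mul, map_inv, map_inv, pow_four_apply h4] at h2
  have h3 : (x⁻¹ * σ (σ x)) * (x⁻¹ * σ (σ x)) = 1 := by
    nth_rewrite 1 [← h2]
    group
  exact (inv_mul_eq_one.mp (eq_one_of_sq_eq_one hodd h3)).symm

/-- Restriction of an automorphism to an invariant subgroup. -/
noncomputable def autRes (σ : MulAut G) (X : Subgroup G) (hX : ∀ x ∈ X, σ x ∈ X) : MulAut X :=
  MulEquiv.ofBijective
    ({ toFun := fun x => ⟨σ x, hX x x.2⟩
       map_one' := Subtype.ext (map_one σ)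
       map_mul' := fun a b => Subtype.ext (map_mul σ (a : G) b) } : X →* X)
    (Finite.injective_iff_bijective.mp fun a b h => Subtype.ext (σ.injective (congrArg Subtype.val h)))

@[simp] theorem autRes_apply (σ : MulAut G) (X : Subgroup G) (hX : ∀ x ∈ X, σ x ∈ X) (x : X) :
    ((autRes σ X hX x : X) : G) = σ x := rfl

theorem autRes_four {σ : MulAut G} (h4 : σ ^ 4 = 1) (X : Subgroup G) (hX : ∀ x ∈ X, σ x ∈ X) :
    autRes σ X hX ^ 4 = 1 :=
  MulEquiv.ext fun x => Subtype.ext (by
    simp only [pow_succ, pow_zero, one_mul, MulAut.mul_apply, MulAut.one_apply, autRes_apply]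
    exact pow_four_apply h4 _)

theorem inverts_of_fpf {α : MulAut G} (h2 : ∀ g, α (α g) = g) (hfpf : ∀ g, α g = g → g = 1) (y : G) :
    α y = y⁻¹ := by
  have hf : Function.Surjective fun g : G => g⁻¹ * α g := by
    refine Finite.surjective_of_injective fun a b h => ?_
    have h' : a⁻¹ * α a = b⁻¹ * α b := h
    have : α (b * a⁻¹) = b * a⁻¹ := by
      rw [map_mul, map_inv, show α b = b * (a⁻¹ * α a) by rw [h', mul_inv_cancel_left]]
      group
    exact (mul_inv_eq_one.mp (hfpf _ this)).symm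
  obtain ⟨g, rfl⟩ := hf y
  simp only [map_mul, map_inv, h2]
  group

end

section
universe u

theorem three_subgroups {A : Type u} [Group A] [Finite A] (hodd : Odd (Nat.card A)) (S1 S2 S3 : Subgroup A)
    (h : ∀ a, a ∈ S1 ∨ a ∈ S2 ∨ a ∈ S3) (hc : ∀ a b : A, a * b = b * a) : S1 = ⊤ ∨ S2 = ⊤ ∨ S3 = ⊤ := by
  have hsq : ∀ (S : Subgroup A) (a : A), a * a ∈ S → a ∈ S := fun S a ha => by
    obtain ⟨k, hk⟩ := hodd.of_dvd_nat (orderOf_dvd_natCard a)
    have : a = (a * a) ^ (k + 1) := by
      rw [← pow_two, ← pow_mul, show 2 * (k + 1) = orderOf a + 1 by omega, pow_succ, pow_orderOf_eq_one, one_mul]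
    rw [this]
    exact S.pow_mem ha _
  have two : ∀ S T : Subgroup A, (∀ a, a ∈ S ∨ a ∈ T) → S = ⊤ ∨ T = ⊤ := by
    intro S T hST
    by_contra hne
    push Not at hne
    obtain ⟨a, -, ha⟩ := SetLike.exists_of_lt hne.1.lt_top
    obtain ⟨b, -, hb⟩ := SetLike.exists_of_lt hne.2.lt_top
    have haT := (hST a).resolve_left ha
    have hbS := (hST b).resolve_right hb
    rcases hST (a * b) with h1 | h1
    · exact ha ((S.mul_mem_cancel_right hbS).mp h1)
    · exact hb ((T.mul_mem_cancel_left haT).mp h1)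
  by_cases h1 : ∀ a, a ∈ S2 ∨ a ∈ S3
  · rcases two S2 S3 h1 with h2 | h2
    · exact Or.inr (Or.inl h2)
    · exact Or.inr (Or.inr h2)
  push Not at h1
  obtain ⟨a, ha2, ha3⟩ := h1
  have haS : a ∈ S1 := (h a).resolve_right (by tauto)
  left
  rw [eq_top_iff]
  intro b _
  by_contra hb
  have hab : a * b ∉ S1 := fun h1 => hb ((S1.mul_mem_cancel_left haS).mp h1)
  have haab : a * a * b ∉ S1 := fun h1 => hb ((S1.mul_mem_cancel_left (S1.mul_mem haS haS)).mp h1)
  have h5 := (h b).resolve_left hb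
  have h6 := (h (a * b)).resolve_left hab
  have h7 := (h (a * a * b)).resolve_left haab
  rcases h5 with h5 | h5
  · have h6' := h6.resolve_left fun h1 => ha2 ((S2.mul_mem_cancel_right h5).mp h1)
    have h7' := h7.resolve_left fun h1 => ha2 (hsq S2 a ((S2.mul_mem_cancel_right h5).mp h1))
    refine ha3 ((S3.mul_mem_cancel_right h6').mp ?_)
    rwa [← mul_assoc]
  · have h6' := h6.resolve_right fun h1 => ha3 ((S3.mul_mem_cancel_right h5).mp h1)
    have h7' := h7.resolve_right fun h1 => ha3 (hsq S3 a ((S3.mul_mem_cancel_right h5).mp h1))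
    refine ha2 ((S2.mul_mem_cancel_right h6').mp ?_)
    rwa [← mul_assoc]

theorem elim4 {R M : Type u} [CommRing R] [AddCommGroup M] [Module R M] (x x' y y' : R) (w0 w1 w2 w3 : M)
    (e : ∀ k : ℕ, x ^ k • w0 + y ^ k • w1 + x' ^ k • w2 + y' ^ k • w3 = 0) :
    ((x - y) * (x - x') * (x - y')) • w0 = 0 := by
  have key : ((x - y) * (x - x') * (x - y')) • w0 =
      (x ^ 3 • w0 + y ^ 3 • w1 + x' ^ 3 • w2 + y' ^ 3 • w3)
        - (y + x' + y') • (x ^ 2 • w0 + y ^ 2 • w1 + x' ^ 2 • w2 + y' ^ 2 • w3)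
        + (y * x' + y * y' + x' * y') • (x ^ 1 • w0 + y ^ 1 • w1 + x' ^ 1 • w2 + y' ^ 1 • w3)
        - (y * x' * y') • (x ^ 0 • w0 + y ^ 0 • w1 + x' ^ 0 • w2 + y' ^ 0 • w3) := by
    module
  rw [key, e, e, e, e]
  simp

/-- An abelian group whose order is prime to `V`, acted on compatibly with fixed-point-free maps of order
dividing four and inverted by their square, acts trivially. -/
theorem abelian_case {A V : Type u} [Group A] [Finite A] [CommGroup V] [Finite V]
    (hc : ∀ a b : A, a * b = b * a) (hA : Odd (Nat.card A)) (hcop : (Nat.card A).Coprime (Nat.card V))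
    (ρ : A →* MulAut V) (σ : MulAut A) (s : MulAut V) (h4 : σ ^ 4 = 1) (hs4 : s ^ 4 = 1)
    (hsf : ∀ v, s v = v → v = 1) (hinv : ∀ a, σ (σ a) = a⁻¹)
    (hcomp : ∀ a v, s (ρ a v) = ρ (σ a) (s v)) : ∀ a v, ρ a v = v := by
  classical
  let W := Additive V
  let E : A →* AddMonoid.End W :=
    { toFun := fun a => (MonoidHom.toAdditive (ρ a).toMonoidHom : W →+ W)
      map_one' := by ext v; show Additive.ofMul (ρ 1 v.toMul) = v; rw [map_one]; rfl
      map_mul' := fun a b => by ext v; show Additive.ofMul (ρ (a * b) v.toMul) = _; rw [map_mul]; rfl }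
  let R : Subring (AddMonoid.End W) := Subring.closure (Set.range E)
  letI : CommRing R := Subring.closureCommRingOfComm (by
    rintro _ ⟨a, rfl⟩ _ ⟨b, rfl⟩
    rw [← map_mul, ← map_mul, hc])
  let e : A →* R :=
    { toFun := fun a => ⟨E a, Subring.subset_closure ⟨a, rfl⟩⟩
      map_one' := Subtype.ext (map_one E)
      map_mul' := fun a b => Subtype.ext (map_mul E a b) }
  have hsmul : ∀ (r : R) (w : W), r • w = (r : AddMonoid.End W) w := fun _ _ => rfl
  have heval : ∀ (a : A) (v : V), e a • Additive.ofMul v = Additive.ofMul (ρ a v) := fun _ _ => rfl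
  have hsum : ∀ v, v * s v * s (s v) * s (s (s v)) = 1 := fun v => hsf _ (by
    simp only [map_mul, pow_four_apply hs4]
    rw [mul_comm (s v * s (s v) * s (s (s v))) v, ← mul_assoc, ← mul_assoc])
  have hiter : ∀ a v, ρ a v * ρ (σ a) (s v) * ρ a⁻¹ (s (s v)) * ρ (σ a)⁻¹ (s (s (s v))) = 1 := fun a v => by
    have h := hsum (ρ a v)
    rwa [hcomp, hcomp, hcomp, hinv, map_inv σ] at h
  have hprod : ∀ a : A, (e a - e (σ a)) * (e a - e a⁻¹) * (e a - e (σ a)⁻¹) = 0 := by
    intro a
    refine Subtype.ext (AddMonoidHom.ext fun w => ?_)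
    have h := elim4 (e a) (e a⁻¹) (e (σ a)) (e (σ a)⁻¹) w (Additive.ofMul (s w.toMul))
      (Additive.ofMul (s (s w.toMul))) (Additive.ofMul (s (s (s w.toMul)))) (fun k => by
        have h2 := hiter (a ^ k) w.toMul
        rw [← inv_pow, map_pow σ, ← inv_pow] at h2
        rw [← map_pow e, ← map_pow e, ← map_pow e, ← map_pow e]
        exact congrArg Additive.ofMul h2)
    rw [hsmul] at h
    exact h
  have hRfin : Finite R := Finite.of_injective (fun (r : R) (w : W) => (r : AddMonoid.End W) w)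
    fun r r' h => Subtype.ext (AddMonoidHom.ext (congrFun h))
  have hnil : ∀ a, IsNilpotent (e a - 1) := by
    intro a0
    rw [nilpotent_iff_mem_prime]
    intro I hI
    let χ : A →* R ⧸ I := (Ideal.Quotient.mk I).toMonoidHom.comp e
    have hχσ : ∀ a, χ (σ (σ a)) * χ a = 1 := fun a => by rw [← map_mul, hinv, inv_mul_cancel, map_one]
    have hχu : ∀ a : A, χ a * χ a⁻¹ = 1 := fun a => by rw [← map_mul, mul_inv_cancel, map_one]
    let S1 : Subgroup A :=
      { carrier := {a | χ a = χ (σ a)}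
        one_mem' := by simp
        mul_mem' := fun {a b} ha hb => by
          show χ (a * b) = χ (σ (a * b))
          rw [map_mul, map_mul σ, map_mul, show χ a = χ (σ a) from ha, show χ b = χ (σ b) from hb]
        inv_mem' := fun {a} ha => by
          show χ a⁻¹ = χ (σ a⁻¹)
          rw [map_inv σ]
          have h1 := hχu a
          rw [show χ a = χ (σ a) from ha] at h1
          exact left_inv_eq_right_inv (by rw [mul_comm]; exact h1) (hχu (σ a)) }
    let S2 : Subgroup A :=
      { carrier := {a | χ (a * σ a) = 1}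
        one_mem' := by simp
        mul_mem' := fun {a b} ha hb => by
          show χ (a * b * σ (a * b)) = 1
          rw [map_mul σ, show a * b * (σ a * σ b) = (a * σ a) * (b * σ b) by
            rw [mul_assoc, ← mul_assoc b, hc b (σ a)]; group, map_mul, show χ (a * σ a) = 1 from ha,
            show χ (b * σ b) = 1 from hb, one_mul]
        inv_mem' := fun {a} ha => by
          show χ (a⁻¹ * σ a⁻¹) = 1
          rw [map_inv σ, ← mul_inv_rev, hc (σ a) a]
          have h1 := hχu (a * σ a)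
          rwa [show χ (a * σ a) = 1 from ha, one_mul] at h1 }
    let S3 : Subgroup A :=
      { carrier := {a | χ (a * a) = 1}
        one_mem' := by simp
        mul_mem' := fun {a b} ha hb => by
          show χ (a * b * (a * b)) = 1
          rw [show a * b * (a * b) = (a * a) * (b * b) by rw [mul_assoc, ← mul_assoc b, hc b a]; group,
            map_mul, show χ (a * a) = 1 from ha, show χ (b * b) = 1 from hb, one_mul]
        inv_mem' := fun {a} ha => by
          show χ (a⁻¹ * a⁻¹) = 1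
          rw [← mul_inv_rev]
          have h1 := hχu (a * a)
          rwa [show χ (a * a) = 1 from ha, one_mul] at h1 }
    have hdom : IsDomain (R ⧸ I) := (Ideal.Quotient.isDomain_iff_prime I).mpr hI
    have huse : ∀ a, a ∈ S1 ∨ a ∈ S2 ∨ a ∈ S3 := fun a => by
      have h := congrArg (Ideal.Quotient.mk I) (hprod a)
      simp only [map_mul, map_sub, map_zero] at h
      have h' : (χ a - χ (σ a)) * (χ a - χ a⁻¹) * (χ a - χ (σ a)⁻¹) = 0 := h
      rcases mul_eq_zero.mp h' with h1 | h1
      · rcases mul_eq_zero.mp h1 with h2 | h2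
        · exact Or.inl (sub_eq_zero.mp h2)
        · refine Or.inr (Or.inr ?_)
          show χ (a * a) = 1
          rw [map_mul]
          nth_rewrite 2 [sub_eq_zero.mp h2]
          exact hχu a
      · refine Or.inr (Or.inl ?_)
        show χ (a * σ a) = 1
        rw [map_mul, sub_eq_zero.mp h1, mul_comm]
        exact hχu _
    have hsq : χ (a0 * a0) = 1 → χ a0 = 1 := fun h => by
      obtain ⟨k, hk⟩ := hA.of_dvd_nat (orderOf_dvd_natCard a0)
      rw [show a0 = (a0 * a0) ^ (k + 1) by
        rw [← pow_two, ← pow_mul, show 2 * (k + 1) = orderOf a0 + 1 by omega, pow_succ, pow_orderOf_eq_one, one_mul],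
        map_pow, h, one_pow]
    have hfin : χ a0 = 1 := by
      refine hsq ?_
      rcases three_subgroups hA S1 S2 S3 huse hc with h | h | h
      · have h1 : ∀ a, χ a = χ (σ a) := fun a => (show a ∈ S1 from h ▸ Subgroup.mem_top a)
        have h2 := hχσ a0
        rw [← h1, ← h1, ← map_mul] at h2
        exact h2
      · have h1 : ∀ a, χ (a * σ a) = 1 := fun a => (show a ∈ S2 from h ▸ Subgroup.mem_top a)
        have h3 := h1 (σ a0)
        have h4' := h1 a0
        rw [map_mul] at h3 h4'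
        have h5 : χ a0 = χ (σ (σ a0)) := left_inv_eq_right_inv h4' h3
        have h2 := hχσ a0
        rw [← h5, ← map_mul] at h2
        exact h2
      · exact (show a0 ∈ S3 from h ▸ Subgroup.mem_top a0)
    rw [← Ideal.Quotient.eq_zero_iff_mem, map_sub, map_one]
    exact sub_eq_zero.mpr hfin
  intro a v
  -- the order of `a` is invertible in `R`
  have hn : IsUnit ((Nat.card A : ℕ) : R) := by
    rcases Nat.lt_or_ge 1 (Nat.card V) with hV | hV
    swap
    · have : Subsingleton V := Finite.card_le_one_iff_subsingleton.mp hV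
      have : Subsingleton R := ⟨fun r r' => Subtype.ext (AddMonoidHom.ext fun w =>
        Additive.toMul.injective (Subsingleton.elim _ _))⟩
      exact isUnit_of_subsingleton _
    obtain ⟨l, -, hl⟩ := Nat.exists_mul_mod_eq_one_of_coprime hcop hV
    refine IsUnit.of_mul_eq_one (l : R) (Subtype.ext (AddMonoidHom.ext fun w => ?_))
    rw [← Nat.cast_mul]
    show ((Nat.card A * l : ℕ) : R) • w = w
    rw [Nat.cast_smul_eq_nsmul]
    rw [← Nat.mod_add_div (Nat.card A * l) (Nat.card V), hl, add_nsmul, one_nsmul, mul_nsmul,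
      show Nat.card V • w = 0 from pow_card_eq_one' (x := w.toMul), nsmul_zero, add_zero]
  have hgs : (∑ i ∈ Finset.range (Nat.card A), e a ^ i) * (e a - 1) = 0 := by
    rw [geom_sum_mul, ← map_pow, pow_card_eq_one', map_one, sub_self]
  have hu : IsUnit (∑ i ∈ Finset.range (Nat.card A), e a ^ i) := by
    have h1 : IsNilpotent ((∑ i ∈ Finset.range (Nat.card A), e a ^ i) - (Nat.card A : R)) := by
      rw [show (Nat.card A : R) = ∑ i ∈ Finset.range (Nat.card A), (1 : R) by simp, ← Finset.sum_sub_distrib]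
      refine isNilpotent_sum fun i _ => ?_
      rw [← map_pow]
      exact hnil _
    have := h1.isUnit_add_left_of_commute hn (Commute.all _ _)
    rwa [add_sub_cancel] at this
  have h1 : e a - 1 = 0 := hu.mul_right_eq_zero.mp hgs
  have h2 := heval a v
  rw [sub_eq_zero.mp h1, one_smul] at h2
  exact (Additive.ofMul.injective h2).symm

end

section
universe u

/-- An odd `q`-group of compatible automorphisms of a module of coprime order is fixed by `σ²` if faithful. -/
theorem qgroup_case (q : ℕ) [hq : Fact q.Prime] {V : Type u} [CommGroup V] [Finite V] (hVodd : Odd (Nat.card V))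
    (hqV : q.Coprime (Nat.card V)) (s : MulAut V) (hs4 : s ^ 4 = 1) (hsf : ∀ v, s v = v → v = 1) :
    ∀ (n : ℕ) (Q : Type u) [Group Q] [Finite Q], Nat.card Q = n → IsPGroup q Q → ∀ (ρ : Q →* MulAut V)
      (σ : MulAut Q), Function.Injective ρ → σ ^ 4 = 1 → (∀ x, σ x = x → x = 1) →
      (∀ x v, s (ρ x v) = ρ (σ x) (s v)) → ∀ x, σ (σ x) = x := by
  intro n
  induction n using Nat.strong_induction_on with
  | _ n ih =>
  intro Q _ _ hn hQ ρ σ hρ h4 hfpf hcomp
  subst hn
  have hQodd := odd_card_of_fpf h4 hfpf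
  obtain ⟨m, hm⟩ := hQ.exists_card_eq
  have hQcop : (Nat.card Q).Coprime (Nat.card V) := by rw [hm]; exact hqV.pow_left m
  have hproper : ∀ (X : Subgroup Q), X ≠ ⊤ → (∀ x ∈ X, σ x ∈ X) → ∀ x ∈ X, σ (σ x) = x := by
    intro X hX hinvX x hx
    have hlt : Nat.card X < Nat.card Q := by
      by_contra hge
      exact hX (Subgroup.eq_top_of_card_eq _ (le_antisymm (Subgroup.card_le_card_group X) (not_lt.mp hge)))
    exact congrArg Subtype.val (ih _ hlt X rfl (hQ.to_subgroup X) (ρ.comp X.subtype) (autRes σ X hinvX)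
      (hρ.comp Subtype.val_injective) (autRes_four h4 X hinvX)
      (fun y hy => Subtype.ext (hfpf y (congrArg Subtype.val hy))) (fun y v => hcomp y v) ⟨x, hx⟩)
  have hT : tauComm σ ≠ ⊤ → ∀ x, σ (σ x) = x := fun h x =>
    tau_eq_of_fixed hQodd h4 (fun y =>
      hproper _ h (tauComm_invariant σ) _ (Subgroup.subset_closure ⟨y, rfl⟩)) x
  by_cases htop : tauComm σ = ⊤
  swap
  · exact hT htop
  rcases subsingleton_or_nontrivial Q with hs | hs
  · intro x; exact Subsingleton.elim _ _
  -- the Frattini subgroup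
  set Φ := frattini Q
  have hΦne : Φ ≠ ⊤ := by
    obtain ⟨M, hM, -⟩ := (eq_top_or_exists_le_coatom (⊥ : Subgroup Q)).resolve_left bot_ne_top
    exact fun h => hM.1 (top_le_iff.mp (h.ge.trans (frattini_le_coatom hM)))
  have hΦinv : ∀ x ∈ Φ, σ x ∈ Φ := fun x hx => by
    have hc : Φ.Characteristic := frattini_characteristic
    rw [Subgroup.characteristic_iff_le_comap] at hc
    exact hc σ hx
  have hΦfix : ∀ z ∈ Φ, σ (σ z) = z := hproper Φ hΦne hΦinv
  -- it is central
  have hΦc : ∀ z ∈ Φ, ∀ x, x * z = z * x := by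
    intro z hz
    have hle : tauComm σ ≤ Subgroup.centralizer ({z} : Set Q) := by
      rw [tauComm, Subgroup.closure_le]
      rintro _ ⟨g, rfl⟩
      rw [SetLike.mem_coe, Subgroup.mem_centralizer_singleton_iff]
      have hc : g * z * g⁻¹ ∈ Φ := (inferInstance : Φ.Normal).conj_mem z hz g
      have h2 := hΦfix _ hc
      rw [map_mul, map_mul, map_mul, map_mul, map_inv, map_inv, hΦfix z hz] at h2
      have h3 : σ (σ g) * z = g * z * g⁻¹ * σ (σ g) := by rw [← h2, inv_mul_cancel_right]
      calc g⁻¹ * σ (σ g) * z = g⁻¹ * (σ (σ g) * z) := mul_assoc _ _ _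
        _ = z * (g⁻¹ * σ (σ g)) := by rw [h3]; group
    intro x
    exact Subgroup.mem_centralizer_singleton_iff.mp (hle (htop ▸ Subgroup.mem_top x))
  -- it is trivial
  have hΦ1 : ∀ z ∈ Φ, z = 1 := by
    intro z hz
    have hzinv : σ z = z⁻¹ := by
      refine eq_inv_of_mul_eq_one_right (hfpf _ ?_)
      rw [map_mul, hΦfix z hz]
      exact hΦc z hz (σ z)
    refine hρ ?_
    rw [map_one]
    refine MulEquiv.ext fun v => ?_
    rw [MulAut.one_apply]
    have hτ : ∀ x v, s (s (ρ x v)) = ρ (σ (σ x)) (s (s v)) := fun x v => by rw [hcomp, hcomp]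
    have hzn : ρ z ^ Nat.card Q = 1 := by rw [← map_pow, pow_card_eq_one', map_one]
    -- fixed points of `s²` are fixed by `z`
    have hplus : ∀ w, s (s w) = w → ρ z w = w := by
      intro w hw
      have hinv' : ∀ u, s (s u) = u → s u = u⁻¹ := fun u hu =>
        eq_inv_of_mul_eq_one_right (hsf _ (by rw [map_mul, hu, mul_comm]))
      have h1 := hinv' (ρ z w) (by rw [hτ, hΦfix z hz, hw])
      rw [hcomp, hzinv, hinv' w hw, map_inv (ρ z⁻¹), inv_inj] at h1
      have h2 : ρ (z * z) w = w := by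
        rw [map_mul, MulAut.mul_apply, ← h1, ← MulAut.mul_apply, ← map_mul, mul_inv_cancel, map_one]; rfl
      obtain ⟨k, hk⟩ := hQodd.of_dvd_nat (orderOf_dvd_natCard z)
      have h3 : z = (z * z) ^ (k + 1) := by
        rw [← pow_two, ← pow_mul, show 2 * (k + 1) = orderOf z + 1 by omega, pow_succ, pow_orderOf_eq_one, one_mul]
      rw [h3, map_pow]
      exact pow_mem (show ρ (z * z) ∈ MulAction.stabilizer (MulAut V) w from h2) _
    set w := v⁻¹ * ρ z v with hwdef
    have hw : s (s w) = w⁻¹ := by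
      refine eq_inv_of_mul_eq_one_right ?_
      have h1 := hplus (v * s (s v)) (by rw [map_mul, map_mul, pow_four_apply hs4, mul_comm])
      rw [map_mul] at h1
      rw [hwdef, map_mul, map_mul, map_inv, map_inv, hτ, hΦfix z hz]
      calc v⁻¹ * ρ z v * ((s (s v))⁻¹ * ρ z (s (s v)))
          = (v * s (s v))⁻¹ * (ρ z v * ρ z (s (s v))) := by
            rw [mul_inv, mul_mul_mul_comm]
        _ = 1 := by rw [h1, inv_mul_cancel]
    -- all of `Q` fixes `w`
    have hrange : ∀ x, ∃ u, ρ x w = u⁻¹ * ρ z u ∧ True := fun x => ⟨ρ x v, by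
      rw [hwdef, map_mul, map_inv, ← MulAut.mul_apply, ← map_mul, hΦc z hz x, map_mul, MulAut.mul_apply], trivial⟩
    have hWinv : ∀ u : V, s (s (u⁻¹ * ρ z u)) = (u⁻¹ * ρ z u)⁻¹ := fun u => by
      refine eq_inv_of_mul_eq_one_right ?_
      have h1 := hplus (u * s (s u)) (by rw [map_mul, map_mul, pow_four_apply hs4, mul_comm])
      rw [map_mul] at h1
      rw [map_mul, map_mul, map_inv, map_inv, hτ, hΦfix z hz]
      calc u⁻¹ * ρ z u * ((s (s u))⁻¹ * ρ z (s (s u)))
          = (u * s (s u))⁻¹ * (ρ z u * ρ z (s (s u))) := by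
            rw [mul_inv, mul_mul_mul_comm]
        _ = 1 := by rw [h1, inv_mul_cancel]
    have hfix : tauComm σ ≤ (MulAction.stabilizer (MulAut V) w).comap ρ := by
      rw [tauComm, Subgroup.closure_le]
      rintro _ ⟨g, rfl⟩
      show ρ (g⁻¹ * σ (σ g)) w = w
      obtain ⟨u, hu, -⟩ := hrange g
      have h1 := hτ g w
      rw [hu, hWinv, ← hu, hw, map_inv, inv_inj] at h1
      rw [map_mul ρ, MulAut.mul_apply, ← h1, map_inv ρ, MulAut.inv_apply_self]
    have hzw : ρ z w = w := hfix (htop ▸ Subgroup.mem_top z)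
    have hpow : ∀ j : ℕ, (ρ z ^ j) v = v * w ^ j := fun j => by
      induction j with
      | zero => simp
      | succ j ihj =>
        rw [pow_succ', MulAut.mul_apply, ihj, map_mul, map_pow, hzw, pow_succ', ← mul_assoc, hwdef,
          mul_inv_cancel_left]
    have h2 := hpow (Nat.card Q)
    rw [hzn, MulAut.one_apply, left_eq_mul] at h2
    have hw1 : w = 1 := orderOf_eq_one_iff.mp (Nat.eq_one_of_dvd_coprimes hQcop
      (orderOf_dvd_of_pow_eq_one h2) (orderOf_dvd_natCard w))
    exact (inv_mul_eq_one.mp hw1).symm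
  -- so `Q` is elementary abelian and inverted
  have hcomm : ∀ a b : Q, a * b = b * a := fun a b =>
    commutatorElement_eq_one_iff_mul_comm.mp (hΦ1 _ (CfsgLib.commutator_le_frattini_pGroup hQ
      (Subgroup.commutator_mem_commutator (Subgroup.mem_top a) (Subgroup.mem_top b))))
  let I : Subgroup Q :=
    { carrier := {y | σ (σ y) = y⁻¹}
      one_mem' := by simp
      mul_mem' := fun {a b} ha hb => by
        show σ (σ (a * b)) = (a * b)⁻¹
        rw [map_mul, map_mul, show σ (σ a) = a⁻¹ from ha, show σ (σ b) = b⁻¹ from hb, ← mul_inv_rev, hcomm]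
      inv_mem' := fun {a} ha => by
        show σ (σ a⁻¹) = a⁻¹⁻¹
        rw [map_inv, map_inv, show σ (σ a) = a⁻¹ from ha] }
  have hI : tauComm σ ≤ I := by
    rw [tauComm, Subgroup.closure_le]
    rintro _ ⟨g, rfl⟩
    show σ (σ (g⁻¹ * σ (σ g))) = (g⁻¹ * σ (σ g))⁻¹
    rw [map_mul, map_mul, map_inv, map_inv, pow_four_apply h4, mul_inv_rev, inv_inv]
  have htriv := abelian_case hcomm hQodd hQcop ρ σ s h4 hs4 hsf
    (fun a => hI (htop ▸ Subgroup.mem_top a)) hcomp
  intro x
  have : x = 1 := hρ (by rw [map_one]; exact MulEquiv.ext (htriv x))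
  rw [this, map_one, map_one]

theorem fpf_quotient {G : Type u} [Group G] [Finite G] (σ : MulAut G) (hfpf : ∀ g, σ g = g → g = 1)
    (N : Subgroup G) [N.Normal] (hN : N.map σ.toMonoidHom = N) :
    ∀ q : G ⧸ N, QuotientGroup.congr N N σ hN q = q → q = 1 := by
  intro q hq
  induction q using QuotientGroup.induction_on with
  | _ x =>
    have hmem : x⁻¹ * σ x ∈ N := QuotientGroup.eq.mp (show (x : G ⧸ N) = ((σ x : G) : G ⧸ N) from hq.symm)
    have hinj : Function.Injective fun m : N => (⟨(m : G)⁻¹ * σ m,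
        N.mul_mem (N.inv_mem m.2) (hN.le ⟨m, m.2, rfl⟩)⟩ : N) := fun a b h => by
      have h' : (a : G)⁻¹ * σ a = (b : G)⁻¹ * σ b := congrArg Subtype.val h
      have : σ ((b : G) * (a : G)⁻¹) = b * (a : G)⁻¹ := by
        rw [map_mul, map_inv, show σ (b : G) = b * ((a : G)⁻¹ * σ a) by rw [h', mul_inv_cancel_left]]
        group
      exact Subtype.ext (mul_inv_eq_one.mp (hfpf _ this)).symm
    obtain ⟨m, hm⟩ := Finite.surjective_of_injective hinj ⟨_, hmem⟩
    have h1 : (m : G)⁻¹ * σ m = x⁻¹ * σ x := congrArg Subtype.val hm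
    have : σ (x * (m : G)⁻¹) = x * (m : G)⁻¹ := by
      rw [map_mul, map_inv, show σ x = x * ((m : G)⁻¹ * σ m) by rw [h1, mul_inv_cancel_left]]
      group
    rw [mul_inv_eq_one.mp (hfpf _ this)]
    exact (QuotientGroup.eq_one_iff _).mpr m.2

theorem tauComm_nilpotent : ∀ (n : ℕ) (G : Type u) [Group G] [Finite G], Nat.card G = n → Group.IsSolvable G →
    ∀ σ : MulAut G, σ ^ 4 = 1 → (∀ g, σ g = g → g = 1) → Group.IsNilpotent (tauComm σ) := by
  intro n
  induction n using Nat.strong_induction_on with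
  | _ n ih =>
  intro G _ _ hn hG σ h4 hfpf
  subst hn
  rcases subsingleton_or_nontrivial G with hs | hs
  · infer_instance
  have hodd := odd_card_of_fpf h4 hfpf
  have hinvmap : ∀ N : Subgroup G, (∀ x ∈ N, σ x ∈ N) → N.map σ.toMonoidHom = N := fun N hN =>
    Subgroup.eq_of_le_of_card_ge (Subgroup.map_le_iff_le_comap.mpr hN)
      (le_of_eq (Subgroup.card_map_of_injective σ.injective).symm)
  obtain ⟨V, ⟨hV0, hVn, hVi⟩, hmin⟩ := (Set.toFinite
    {V : Subgroup G | V ≠ ⊥ ∧ V.Normal ∧ ∀ x ∈ V, σ x ∈ V}).exists_minimal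
      ⟨⊤, top_ne_bot, inferInstance, fun x _ => Subgroup.mem_top _⟩
  have hsub : ∀ X : Subgroup G, X ≤ V → X.Normal → (∀ x ∈ X, σ x ∈ X) → X = ⊥ ∨ X = V := fun X hX hXn hXi =>
    or_iff_not_imp_left.mpr fun h0 => le_antisymm hX (hmin ⟨h0, hXn, hXi⟩ hX)
  have hVc : ∀ a ∈ V, ∀ b ∈ V, a * b = b * a := by
    rcases hsub ⁅V, V⁆ (Subgroup.commutator_le_right V V) inferInstance (fun x hx => by
      have := Subgroup.map_commutator V V σ.toMonoidHom
      rw [hinvmap V hVi] at this
      exact this.le ⟨x, hx, rfl⟩) with h | h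
    · intro a ha b hb
      exact commutatorElement_eq_one_iff_mul_comm.mp
        (Subgroup.mem_bot.mp (h ▸ Subgroup.commutator_mem_commutator ha hb))
    · exfalso
      obtain ⟨k, hk⟩ := hG.solvable
      refine hV0 (le_bot_iff.mp ((?_ : V ≤ derivedSeries G k).trans hk.le))
      clear hk
      induction k with
      | zero => exact le_top
      | succ k ihk => rw [derivedSeries_succ, ← h]; exact Subgroup.commutator_mono ihk ihk
  letI : CommGroup V := { (inferInstance : Group V) with mul_comm := fun a b => Subtype.ext (hVc a a.2 b b.2) }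
  obtain ⟨p, hp, hpd⟩ := Nat.exists_prime_and_dvd
    (show Nat.card V ≠ 1 from fun h => hV0 (Subgroup.eq_bot_of_card_eq _ h))
  have := Fact.mk hp
  have hexp : ∀ x ∈ V, x ^ p = 1 := by
    let X : Subgroup G :=
      { carrier := {x | x ∈ V ∧ x ^ p = 1}
        one_mem' := ⟨V.one_mem, one_pow p⟩
        mul_mem' := fun {a b} ha hb => ⟨V.mul_mem ha.1 hb.1, by
          rw [(show Commute a b from hVc a ha.1 b hb.1).mul_pow, ha.2, hb.2, one_mul]⟩
        inv_mem' := fun {a} ha => ⟨V.inv_mem ha.1, by rw [inv_pow, ha.2, inv_one]⟩ }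
    have hXn : X.Normal := ⟨fun x hx g => ⟨hVn.conj_mem x hx.1 g, by rw [conj_pow, hx.2, mul_one, mul_inv_cancel]⟩⟩
    rcases hsub X (fun x hx => hx.1) hXn (fun x hx => ⟨hVi x hx.1, by rw [← map_pow, hx.2, map_one]⟩) with h | h
    · obtain ⟨x, hx⟩ := exists_prime_orderOf_dvd_card' p hpd
      have h2 : (x : G) ∈ X := ⟨x.2, by rw [← Subgroup.coe_pow, ← hx, pow_orderOf_eq_one, Subgroup.coe_one]⟩
      rw [h, Subgroup.mem_bot] at h2
      rw [show x = 1 from Subtype.ext h2, orderOf_one] at hx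
      exact absurd hx.symm hp.ne_one
    · intro x hx
      exact (show x ∈ X from h ▸ hx).2
  have hVp : IsPGroup p V := fun x => ⟨1, Subtype.ext (by rw [pow_one, Subgroup.coe_pow]; exact hexp x x.2)⟩
  -- the faithful quotient
  set C := Subgroup.centralizer (V : Set G) with hCdef
  have hCn : C.Normal := inferInstance
  have hCi : ∀ x ∈ C, σ x ∈ C := fun x hx => by
    rw [Subgroup.mem_centralizer_iff] at hx ⊢
    intro v hv
    obtain ⟨w, hw, rfl⟩ := (hinvmap V hVi).ge hv
    show σ w * σ x = σ x * σ w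
    rw [← map_mul, ← map_mul, hx w hw]
  have hVC : V ≤ C := fun v hv => Subgroup.mem_centralizer_iff.mpr fun w hw => hVc w hw v hv
  have hCmap := hinvmap C hCi
  set σb : MulAut (G ⧸ C) := QuotientGroup.congr C C σ hCmap with hσb
  have hσb_mk : ∀ g : G, σb (g : G ⧸ C) = ((σ g : G) : G ⧸ C) := fun g => rfl
  have h4b : σb ^ 4 = 1 := MulEquiv.ext fun q => QuotientGroup.induction_on q fun x => by
    simp only [pow_succ, pow_zero, one_mul, MulAut.mul_apply, MulAut.one_apply, hσb_mk, pow_four_apply h4]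
  have hfb := fpf_quotient σ hfpf C hCmap
  have hlt : ∀ (N : Subgroup G) [N.Normal], N ≠ ⊥ → Nat.card (G ⧸ N) < Nat.card G := fun N _ hN => by
    rw [Subgroup.card_eq_card_quotient_mul_card_subgroup N]
    exact lt_mul_of_one_lt_right Nat.card_pos ((Subgroup.one_lt_card_iff_ne_bot N).mpr hN)
  have hC0 : C ≠ ⊥ := fun h => hV0 (le_bot_iff.mp (hVC.trans h.le))
  have hnilb : Group.IsNilpotent (tauComm σb) := ih _ (hlt C hC0) (G ⧸ C) rfl inferInstance σb h4b hfb
  let ρ : G ⧸ C →* MulAut V := QuotientGroup.lift C (MulAut.conjNormal (H := V)) fun c hc => MulEquiv.ext fun v =>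
    Subtype.ext (by
      rw [MulAut.conjNormal_apply, MulAut.one_apply, ← Subgroup.mem_centralizer_iff.mp hc v v.2, mul_inv_cancel_right])
  have hρmk : ∀ (g : G) (v : V), ((ρ (g : G ⧸ C) v : V) : G) = g * v * g⁻¹ := fun g v => MulAut.conjNormal_apply g v
  have hρinj : Function.Injective ρ := by
    rw [injective_iff_map_eq_one]
    intro q hq
    induction q using QuotientGroup.induction_on with
    | _ g =>
      refine (QuotientGroup.eq_one_iff g).mpr (Subgroup.mem_centralizer_iff.mpr fun v hv => ?_)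
      have h1 := congrArg Subtype.val (DFunLike.congr_fun hq (⟨v, hv⟩ : V))
      rw [hρmk] at h1
      exact (mul_inv_eq_iff_eq_mul.mp h1).symm
  set sV := autRes σ V hVi with hsV
  have hcomp : ∀ x v, sV (ρ x v) = ρ (σb x) (sV v) := fun x v => QuotientGroup.induction_on x fun g => by
    refine Subtype.ext ?_
    rw [hσb_mk, hρmk, autRes_apply, autRes_apply, hρmk, map_mul, map_mul, map_inv]
  -- a normal invariant `p`-subgroup of the quotient is trivial
  have hOp : ∀ U : Subgroup (G ⧸ C), U.Normal → (∀ x ∈ U, σb x ∈ U) → IsPGroup p U → U = ⊥ := by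
    intro U hUn hUi hU
    let X : Subgroup G :=
      { carrier := {x | x ∈ V ∧ ∀ g : G, (g : G ⧸ C) ∈ U → g * x * g⁻¹ = x}
        one_mem' := ⟨V.one_mem, fun g _ => by group⟩
        mul_mem' := fun {a b} ha hb => ⟨V.mul_mem ha.1 hb.1, fun g hg => by
          rw [show g * (a * b) * g⁻¹ = (g * a * g⁻¹) * (g * b * g⁻¹) by group, ha.2 g hg, hb.2 g hg]⟩
        inv_mem' := fun {a} ha => ⟨V.inv_mem ha.1, fun g hg => by
          rw [show g * a⁻¹ * g⁻¹ = (g * a * g⁻¹)⁻¹ by group, ha.2 g hg]⟩ }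
    have hXn : X.Normal := ⟨fun x hx h => ⟨hVn.conj_mem x hx.1 h, fun g hg => by
      have h1 := hx.2 (h⁻¹ * g * h) (by simpa [mul_assoc] using hUn.conj_mem _ hg (h : G ⧸ C)⁻¹)
      calc g * (h * x * h⁻¹) * g⁻¹ = h * ((h⁻¹ * g * h) * x * (h⁻¹ * g * h)⁻¹) * h⁻¹ := by group
        _ = h * x * h⁻¹ := by rw [h1]⟩⟩
    have hUmap : ∀ y ∈ U, ∃ y' ∈ U, σb y' = y := fun y hy => by
      obtain ⟨⟨y', hy'⟩, he⟩ := Finite.surjective_of_injective
        (f := fun u : U => (⟨σb u, hUi u u.2⟩ : U)) (fun a b h => Subtype.ext (σb.injective (congrArg Subtype.val h)))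
        ⟨y, hy⟩
      exact ⟨y', hy', congrArg Subtype.val he⟩
    have hXi : ∀ x ∈ X, σ x ∈ X := fun x hx => ⟨hVi x hx.1, fun g hg => by
      obtain ⟨y', hy', he⟩ := hUmap _ hg
      induction y' using QuotientGroup.induction_on with
      | _ g' =>
        rw [hσb_mk] at he
        have h1 := hρmk g ⟨σ x, hVi x hx.1⟩
        rw [← he, hρmk] at h1
        rw [← h1]
        show σ g' * σ x * (σ g')⁻¹ = σ x
        rw [← map_inv, ← map_mul, ← map_mul, hx.2 g' hy']⟩
    rcases hsub X (fun x hx => hx.1) hXn hXi with h | h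
    · exfalso
      letI : MulAction U V := MulAction.compHom V (ρ.comp U.subtype)
      have h1fix : (1 : V) ∈ MulAction.fixedPoints U V := fun u => map_one (ρ (u : G ⧸ C))
      obtain ⟨x, hx, hx1⟩ := hU.exists_fixed_point_of_prime_dvd_card_of_fixed_point V hpd h1fix
      refine hx1.symm (Subtype.ext (Subgroup.mem_bot.mp (h ▸ (⟨x.2, fun g hg => ?_⟩ : (x : G) ∈ X))))
      have h2 := congrArg Subtype.val (hx ⟨_, hg⟩)
      rw [← hρmk]
      exact h2
    · rw [eq_bot_iff]
      intro y hy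
      refine Subgroup.mem_bot.mpr (hρinj ?_)
      rw [map_one]
      refine MulEquiv.ext fun v => Subtype.ext ?_
      obtain ⟨g, rfl⟩ := QuotientGroup.mk_surjective y
      rw [hρmk]
      exact ((SetLike.ext_iff.mp h (v : G)).mpr v.2).2 g hy
  -- `σ²` is trivial on the quotient
  have hTn := tauComm_normal σb
  have hTi := tauComm_invariant σb
  let F : Subgroup (G ⧸ C) :=
    { carrier := {y | σb (σb y) = y}
      one_mem' := by simp
      mul_mem' := fun {a b} ha hb => by
        show σb (σb (a * b)) = a * b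
        rw [map_mul, map_mul, show σb (σb a) = a from ha, show σb (σb b) = b from hb]
      inv_mem' := fun {a} ha => by
        show σb (σb a⁻¹) = a⁻¹
        rw [map_inv, map_inv, show σb (σb a) = a from ha] }
  have hTF : tauComm σb ≤ F := by
    suffices h : F.subgroupOf (tauComm σb) = ⊤ from Subgroup.subgroupOf_eq_top.mp h
    refine Subgroup.eq_top_of_card_eq _ (Nat.dvd_antisymm (Subgroup.card_subgroup_dvd_card _) ?_)
    rw [← Nat.factorization_le_iff_dvd Nat.card_pos.ne' Nat.card_pos.ne', Finsupp.le_def]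
    intro r
    by_cases hr : r.Prime
    swap
    · rw [Nat.factorization_eq_zero_of_not_prime _ hr]; exact Nat.zero_le _
    have := Fact.mk hr
    obtain ⟨S⟩ : Nonempty (Sylow r (tauComm σb)) := inferInstance
    have hSn : (S : Subgroup (tauComm σb)).Normal :=
      (Group.isNilpotent_of_finite_tfae.out 0 3 rfl rfl).mp hnilb r ‹_› S
    have hSc : (S : Subgroup (tauComm σb)).Characteristic := Sylow.characteristic_of_normal S hSn
    set Q := (S : Subgroup (tauComm σb)).map (tauComm σb).subtype with hQdef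
    have hQn : Q.Normal := inferInstance
    have hQi : ∀ x ∈ Q, σb x ∈ Q := by
      rintro _ ⟨y, hy, rfl⟩
      refine ⟨autRes σb _ hTi y, ?_, rfl⟩
      rw [Subgroup.characteristic_iff_le_comap] at hSc
      exact hSc (autRes σb _ hTi) hy
    have hQp : IsPGroup r Q := S.isPGroup'.map _
    have hQF : ∀ x ∈ Q, σb (σb x) = x := by
      by_cases hrp : r = p
      · subst hrp
        intro x hx
        rw [hOp Q hQn hQi hQp, Subgroup.mem_bot] at hx
        rw [hx, map_one, map_one]
      · intro x hx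
        obtain ⟨k, hk⟩ := hVp.exists_card_eq
        have h1 := qgroup_case r (hodd.of_dvd_nat (Subgroup.card_subgroup_dvd_card V))
          (by rw [hk]; exact ((Nat.coprime_primes hr hp).mpr hrp).pow_right k) sV (autRes_four h4 V hVi)
          (fun v hv => Subtype.ext (hfpf v (congrArg Subtype.val hv))) _ Q rfl hQp (ρ.comp Q.subtype)
          (autRes σb Q hQi) (hρinj.comp Subtype.val_injective) (autRes_four h4b Q hQi)
          (fun y hy => Subtype.ext (hfb y (congrArg Subtype.val hy))) (fun y v => hcomp y v) ⟨x, hx⟩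
        exact congrArg Subtype.val h1
    have h2 : (S : Subgroup (tauComm σb)) ≤ F.subgroupOf (tauComm σb) := fun x hx => hQF _ ⟨x, hx, rfl⟩
    have h3 := Subgroup.card_dvd_of_le h2
    rw [S.card_eq_multiplicity] at h3
    exact (hr.pow_dvd_iff_le_factorization Nat.card_pos.ne').mp h3
  have hτb : ∀ y, σb (σb y) = y := fun y => tau_eq_of_fixed (odd_card_of_fpf h4b hfb) h4b
    (fun z => hTF (Subgroup.subset_closure ⟨z, rfl⟩)) y
  have hTC : tauComm σ ≤ C := by
    rw [tauComm, Subgroup.closure_le]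
    rintro _ ⟨g, rfl⟩
    rw [SetLike.mem_coe, ← QuotientGroup.eq_one_iff, QuotientGroup.mk_mul, QuotientGroup.mk_inv]
    have := hτb (g : G ⧸ C)
    rw [hσb_mk, hσb_mk] at this
    rw [this, inv_mul_cancel]
  -- conclude
  have hVmap := hinvmap V hVi
  set σv : MulAut (G ⧸ V) := QuotientGroup.congr V V σ hVmap with hσv
  have hσv_mk : ∀ g : G, σv (g : G ⧸ V) = ((σ g : G) : G ⧸ V) := fun g => rfl
  have h4v : σv ^ 4 = 1 := MulEquiv.ext fun q => QuotientGroup.induction_on q fun x => by
    simp only [pow_succ, pow_zero, one_mul, MulAut.mul_apply, MulAut.one_apply, hσv_mk, pow_four_apply h4]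
  have hnv : Group.IsNilpotent (tauComm σv) :=
    ih _ (hlt V hV0) (G ⧸ V) rfl inferInstance σv h4v (fpf_quotient σ hfpf V hVmap)
  have himg : ∀ x ∈ tauComm σ, (x : G ⧸ V) ∈ tauComm σv := fun x hx => by
    have hle : (tauComm σ).map (QuotientGroup.mk' V) ≤ tauComm σv := by
      rw [tauComm, MonoidHom.map_closure, Subgroup.closure_le]
      rintro _ ⟨_, ⟨g, rfl⟩, rfl⟩
      refine Subgroup.subset_closure ⟨(g : G ⧸ V), ?_⟩
      show (g : G ⧸ V)⁻¹ * σv (σv (g : G ⧸ V)) = QuotientGroup.mk' V (g⁻¹ * σ (σ g))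
      rw [hσv_mk, hσv_mk]
      rfl
    exact hle ⟨x, hx, rfl⟩
  let f : tauComm σ →* tauComm σv :=
    ((QuotientGroup.mk' V).comp (tauComm σ).subtype).codRestrict _ fun x => himg x x.2
  refine Subgroup.isNilpotent_of_ker_le_center f fun x hx => Subgroup.mem_center_iff.mpr fun y => Subtype.ext ?_
  have hxV : (x : G) ∈ V := (QuotientGroup.eq_one_iff _).mp (congrArg Subtype.val (MonoidHom.mem_ker.mp hx))
  exact (Subgroup.mem_centralizer_iff.mp (hTC y.2) (x : G) hxV).symm

end

/-- Let G be a finite solvable group with an automorphism σ satisfying σ⁴ = 1 and fixing only the identity. Then the derived subgroup G' is nilpotent. -/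
theorem result {G : Type*} [Group G] [Finite G] (hG : Group.IsSolvable G) (σ : MulAut G) (hσ : σ ^ 4 = 1) (hfpf : ∀ g : G, σ g = g → g = 1) : Group.IsNilpotent (commutator G) := by
  set T := tauComm σ with hT
  have : T.Normal := tauComm_normal σ
  have hmap : T.map σ.toMonoidHom = T := Subgroup.eq_of_le_of_card_ge
    (Subgroup.map_le_iff_le_comap.mpr (tauComm_invariant σ))
    (le_of_eq (Subgroup.card_map_of_injective σ.injective).symm)
  set α : MulAut (G ⧸ T) := QuotientGroup.congr T T σ hmap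
  have hmk : ∀ g : G, α (g : G ⧸ T) = ((σ g : G) : G ⧸ T) := fun g => rfl
  have h2 : ∀ y, α (α y) = y := fun y => QuotientGroup.induction_on y fun g => by
    rw [hmk, hmk, eq_comm, QuotientGroup.eq]
    exact Subgroup.subset_closure ⟨g, rfl⟩
  have hinv := inverts_of_fpf h2 (fpf_quotient σ hfpf T hmap)
  have hle : commutator G ≤ T := by
    rw [commutator_def, Subgroup.commutator_le]
    intro a _ b _
    rw [← QuotientGroup.eq_one_iff]
    show QuotientGroup.mk' T ⁅a, b⁆ = 1
    rw [map_commutatorElement, commutatorElement_eq_one_iff_mul_comm]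
    have h3 := hinv ((b : G ⧸ T) * (a : G ⧸ T))
    rw [map_mul, hinv, hinv, mul_inv_rev] at h3
    have h5 := congrArg (fun z => z⁻¹) h3
    simpa using h5
  have hn := tauComm_nilpotent _ G rfl hG σ hσ hfpf
  exact Group.nilpotent_of_mulEquiv (Subgroup.subgroupOfEquivOfLe hle)

end Cfsg.Agent.S3794
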