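import Cfsg.Statements.S1996
import Cfsg.Agent.Lib.StrongFusion.Functors

set_option autoImplicit false
set_option linter.unusedVariables false
universe u
open Cfsg
open scoped commutatorElement

namespace Cfsg.Agent.S1996

/-- Let p be a prime, G a finite group and W₁, W₂ two isomorphism-invariant p-group functors (W assigns to every group Q a subgroup W(Q), nontrivial whenever Q is a nontrivial finite p-group, and every isomorphism from a finite p-group Q onto a group R carries W(Q) onto W(R)). Suppose that G* = N_{G*}(W₁(S*)) N_{G*}(W₂(S*)) whenever G* = K/R is a section of G with C_{G*}(O_p(G*)) ≤ O_p(G*) and S* is a Sylow p-subgroup of G*. Then the pair {W₁, W₂} controls strong fusion in G. -/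
theorem result {G : Type u} [Group G] [Finite G] {p : ℕ} [Fact p.Prime] (W₁ W₂ : ∀ (Q : Type u) [Group Q], Subgroup Q) (hW₁ : Cfsg.IsCharPFunctor.{u} p W₁) (hW₂ : Cfsg.IsCharPFunctor.{u} p W₂) (hfac : ∀ (K R : Subgroup G) [hR : (R.subgroupOf K).Normal], Subgroup.centralizer ((Cfsg.pCore p (↥K ⧸ R.subgroupOf K) : Subgroup (↥K ⧸ R.subgroupOf K)) : Set (↥K ⧸ R.subgroupOf K)) ≤ Cfsg.pCore p (↥K ⧸ R.subgroupOf K) → ∀ T : Sylow p (↥K ⧸ R.subgroupOf K), ∀ x : (↥K ⧸ R.subgroupOf K), ∃ a ∈ Subgroup.normalizer ((Cfsg.inducedFunctor (G := (↥K ⧸ R.subgroupOf K)) W₁ (T : Subgroup (↥K ⧸ R.subgroupOf K)) : Subgroup (↥K ⧸ R.subgroupOf K)) : Set (↥K ⧸ R.subgroupOf K)), ∃ b ∈ Subgroup.normalizer ((Cfsg.inducedFunctor (G := (↥K ⧸ R.subgroupOf K)) W₂ (T : Subgroup (↥K ⧸ R.subgroupOf K)) : Subgroup (↥K ⧸ R.subgroupOf K)) : Set (↥K ⧸ R.subgroupOf K)), x = a * b) : Cfsg.FamilyControlsStrongFusionIn p {Cfsg.inducedFunctor (G := G) W₁, Cfsg.inducedFunctor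 (G := G) W₂} ⊤ := by
  obtain ⟨T⟩ := (inferInstance : Nonempty (Sylow p G))
  have hW : ∀ W ∈ ({W₁, W₂} : Set (∀ (Q : Type u) [Group Q], Subgroup Q)), Cfsg.IsCharPFunctor.{u} p W := by
    rintro W (rfl | rfl) <;> assumption
  rw [show ({Cfsg.inducedFunctor (G := G) W₁, Cfsg.inducedFunctor (G := G) W₂} : Set (Subgroup G → Subgroup G)) =
    (fun W => Cfsg.inducedFunctor (G := G) W) '' {W₁, W₂} from (Set.image_pair _ _ _).symm]
  refine CfsgLib.StrongFusion.familyControls_of_chain T fun A g hA hg => ?_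
  rw [← CfsgLib.StrongFusion.steps_famAt_self]
  refine CfsgLib.StrongFusion.ctrl_of_base {W₁, W₂} True hW (CfsgLib.StrongFusion.base_of_sections hW True
    fun K R _ hcon T' D _ hfull B x hB hx => ?_) T _ ⟨le_rfl, fun x _ g hg => hg⟩ (fun _ => rfl) A g hA hg
  rw [hfull trivial]
  have hn := fun W (hWm : W ∈ ({W₁, W₂} : Set (∀ (Q : Type u) [Group Q], Subgroup Q))) =>
    Subgroup.le_normalizer.trans (CfsgLib.StrongFusion.normalizer_le_normalizer_induced (hW W hWm) T'.2)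
  refine CfsgLib.StrongFusion.chain_of_product T' (hn W₁ (Or.inl rfl)) (hn W₂ (Or.inr rfl))
    (fun n hn => CfsgLib.StrongFusion.mem_steps_famAt.2 ⟨W₁, Or.inl rfl, by rwa [inf_idem]⟩)
    (fun n hn => CfsgLib.StrongFusion.mem_steps_famAt.2 ⟨W₂, Or.inr rfl, by rwa [inf_idem]⟩) (hfac K R hcon T') hB hx

end Cfsg.Agent.S1996
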