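import Cfsg.Statements.S1997
import Cfsg.Agent.Lib.Basic
import Cfsg.Agent.Lib.Comp.PComp
import Cfsg.Agent.Lib.Coprime
import Cfsg.Agent.Lib.Stabilizer
import Cfsg.Agent.Lib.Fusion.Group
import Cfsg.Agent.Lib.PResidual

set_option autoImplicit false
set_option linter.unusedVariables false
universe u
open Cfsg
open scoped commutatorElement

namespace Cfsg.Agent.S1997

open Subgroup CfsgLib Cfsg.FusionSystem

variable {G : Type u} [Group G] [Finite G] {p : ℕ} [Fact p.Prime]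

theorem comm_of_conj {x y : G} (h : x * y * x⁻¹ = y) : x * y = y * x := mul_inv_eq_iff_eq_mul.mp h

theorem normalizer_of_maps {A : Subgroup G} {g : G} (h : ∀ x ∈ A, g * x * g⁻¹ ∈ A) :
    g ∈ Subgroup.normalizer (A : Set G) := Comp.mem_normalizer_of_maps h

theorem conj_in {A : Subgroup G} {g x : G} (hg : g ∈ Subgroup.normalizer (A : Set G)) (hx : x ∈ A) :
    g * x * g⁻¹ ∈ A := (Subgroup.mem_normalizer_iff.mp hg x).mp hx

theorem normalizes_sup {A B : Subgroup G} {g : G} (hA : g ∈ Subgroup.normalizer (A : Set G))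
    (hB : g ∈ Subgroup.normalizer (B : Set G)) : g ∈ Subgroup.normalizer ((A ⊔ B : Subgroup G) : Set G) := by
  refine normalizer_of_maps fun x hx => ?_
  have h : (A ⊔ B).map (MulAut.conj g).toMonoidHom ≤ A ⊔ B := by
    rw [Subgroup.map_sup]
    refine sup_le ?_ ?_
    · rintro _ ⟨a, ha, rfl⟩; exact Subgroup.mem_sup_left (conj_in hA ha)
    · rintro _ ⟨a, ha, rfl⟩; exact Subgroup.mem_sup_right (conj_in hB ha)
  exact h ⟨x, hx, rfl⟩

theorem sylow_sub {T H M : Subgroup G} (h : IsSylowIn p T M) (hTH : T ≤ H) (hHM : H ≤ M) : IsSylowIn p T H :=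
  ⟨hTH, h.2.1, fun hd => h.2.2 (hd.trans ⟨_, (Subgroup.relIndex_mul_relIndex T H M hTH hHM).symm⟩)⟩

/-- `g` acts on `Q` as some element of `𝒩`. -/
def Ctl (𝒩 Q : Subgroup G) (g : G) : Prop := ∃ x ∈ 𝒩, ∀ a ∈ Q, x * a * x⁻¹ = g * a * g⁻¹

theorem Ctl.comp {𝒩 Q R : Subgroup G} {g h : G} (h1 : Ctl 𝒩 Q g) (hR : ∀ a ∈ Q, g * a * g⁻¹ ∈ R)
    (h2 : Ctl 𝒩 R h) : Ctl 𝒩 Q (h * g) := by
  obtain ⟨x, hx, hx'⟩ := h1
  obtain ⟨y, hy, hy'⟩ := h2
  refine ⟨y * x, 𝒩.mul_mem hy hx, fun a ha => ?_⟩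
  rw [show y * x * a * (y * x)⁻¹ = y * (x * a * x⁻¹) * y⁻¹ by group, hx' a ha, hy' _ (hR a ha)]
  group

theorem Ctl.mono {𝒩 Q Q' : Subgroup G} {g : G} (h : Ctl 𝒩 Q g) (hQ : Q' ≤ Q) : Ctl 𝒩 Q' g :=
  let ⟨x, hx, hx'⟩ := h
  ⟨x, hx, fun a ha => hx' a (hQ ha)⟩

theorem Ctl.congr {𝒩 Q : Subgroup G} {g h : G} (hh : Ctl 𝒩 Q g) (e : ∀ a ∈ Q, g * a * g⁻¹ = h * a * h⁻¹) :
    Ctl 𝒩 Q h :=
  let ⟨x, hx, hx'⟩ := hh
  ⟨x, hx, fun a ha => (hx' a ha).trans (e a ha)⟩

theorem Ctl.of_fix {𝒩 Q : Subgroup G} {g : G} (e : ∀ a ∈ Q, g * a * g⁻¹ = a) : Ctl 𝒩 Q g :=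
  ⟨1, 𝒩.one_mem, fun a ha => by rw [e a ha]; group⟩

theorem Ctl.inv {𝒩 Q R : Subgroup G} {g : G} (h : Ctl 𝒩 Q g) (hR : ∀ a ∈ R, g⁻¹ * a * g ∈ Q) : Ctl 𝒩 R g⁻¹ := by
  obtain ⟨x, hx, hx'⟩ := h
  refine ⟨x⁻¹, 𝒩.inv_mem hx, fun a ha => ?_⟩
  have h1 := hx' _ (hR a ha)
  rw [show g * (g⁻¹ * a * g) * g⁻¹ = a by group] at h1
  calc x⁻¹ * a * x⁻¹⁻¹ = x⁻¹ * (x * (g⁻¹ * a * g) * x⁻¹) * x⁻¹⁻¹ := by rw [h1]
    _ = g⁻¹ * a * g⁻¹⁻¹ := by group

/-- Fusion in a product of two subgroups containing the Sylow subgroup. -/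
theorem ctl_product {𝒩 T M H₁ H₂ : Subgroup G} (hT : IsSylowIn p T M) (hT1 : T ≤ H₁) (hT2 : T ≤ H₂)
    (h1M : H₁ ≤ M)
    (hc1 : ∀ g ∈ H₁, ∀ Q : Subgroup G, Q ≤ T → (∀ a ∈ Q, g * a * g⁻¹ ∈ T) → Ctl 𝒩 Q g)
    (hc2 : ∀ g ∈ H₂, ∀ Q : Subgroup G, Q ≤ T → (∀ a ∈ Q, g * a * g⁻¹ ∈ T) → Ctl 𝒩 Q g)
    {h₁ h₂ : G} (hh1 : h₁ ∈ H₁) (hh2 : h₂ ∈ H₂) {Q : Subgroup G} (hQ : Q ≤ T)
    (hmap : ∀ a ∈ Q, h₁ * h₂ * a * (h₁ * h₂)⁻¹ ∈ T) : Ctl 𝒩 Q (h₁ * h₂) := by
  have hS : IsSylowIn p T (H₁ ⊓ H₂) := sylow_sub hT (le_inf hT1 hT2) (inf_le_left.trans h1M)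
  set Q' := Q.map (MulAut.conj h₂).toMonoidHom with hQ'
  have hQ'le : Q' ≤ H₁ ⊓ H₂ := by
    rintro _ ⟨a, ha, rfl⟩
    show h₂ * a * h₂⁻¹ ∈ H₁ ⊓ H₂
    refine ⟨?_, H₂.mul_mem (H₂.mul_mem hh2 (hT2 (hQ ha))) (H₂.inv_mem hh2)⟩
    have h := H₁.mul_mem (H₁.mul_mem (H₁.inv_mem hh1) (hT1 (hmap a ha))) hh1
    rwa [show h₁⁻¹ * (h₁ * h₂ * a * (h₁ * h₂)⁻¹) * h₁ = h₂ * a * h₂⁻¹ by group] at h
  obtain ⟨d, hd, hd'⟩ := hS.exists_conj_le ((hT.2.1.to_le hQ).map _) hQ'le
  have e2 : ∀ a ∈ Q, d * h₂ * a * (d * h₂)⁻¹ ∈ T := fun a ha => by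
    rw [show d * h₂ * a * (d * h₂)⁻¹ = d * (h₂ * a * h₂⁻¹) * d⁻¹ by group]
    exact hd' _ (Subgroup.mem_map_of_mem _ ha)
  have c2 := hc2 _ (H₂.mul_mem hd.2 hh2) Q hQ e2
  set Q'' := Q.map (MulAut.conj (d * h₂)).toMonoidHom
  have hQ'' : Q'' ≤ T := by rintro _ ⟨a, ha, rfl⟩; exact e2 a ha
  have c1 := hc1 _ (H₁.mul_mem hh1 (H₁.inv_mem hd.1)) Q'' hQ'' (by
    rintro _ ⟨a, ha, rfl⟩
    show h₁ * d⁻¹ * (d * h₂ * a * (d * h₂)⁻¹) * (h₁ * d⁻¹)⁻¹ ∈ T
    rw [show h₁ * d⁻¹ * (d * h₂ * a * (d * h₂)⁻¹) * (h₁ * d⁻¹)⁻¹ = h₁ * h₂ * a * (h₁ * h₂)⁻¹ by group]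
    exact hmap a ha)
  refine (c2.comp (fun a ha => (Subgroup.mem_map_of_mem (MulAut.conj (d * h₂)).toMonoidHom ha : _ ∈ Q'')) c1).congr fun a _ => ?_
  group

/-- A normal subgroup with Sylow subgroup `U`. -/
theorem frattini {N U : Subgroup G} (hU : IsSylowIn p U N) {x : G} (hx : x ∈ Subgroup.normalizer (N : Set G)) :
    ∃ m ∈ N, ∃ y ∈ Subgroup.normalizer (U : Set G), x = m * y := by
  obtain ⟨m, hm, hm'⟩ := hU.exists_conj_le (hU.2.1.map (MulAut.conj x).toMonoidHom) (by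
    rintro _ ⟨a, ha, rfl⟩
    exact conj_in hx (hU.1 ha))
  refine ⟨m⁻¹, N.inv_mem hm, m * x, normalizer_of_maps fun a ha => ?_, by group⟩
  rw [show m * x * a * (m * x)⁻¹ = m * (x * a * x⁻¹) * m⁻¹ by group]
  exact hm' _ ⟨a, ha, rfl⟩

variable (W : ∀ (Q : Type u) [Group Q], Subgroup Q)

/-- The preimage in `T` of `W (T / V)`. -/
noncomputable def Wq (V T : Subgroup G) : Subgroup G :=
  ((W (↥T ⧸ Subgroup.normalClosure ((V.subgroupOf T : Subgroup ↥T) : Set ↥T))).comap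
    (QuotientGroup.mk' (Subgroup.normalClosure ((V.subgroupOf T : Subgroup ↥T) : Set ↥T)))).map T.subtype

variable {W}

theorem Wq_le (V T : Subgroup G) : Wq W V T ≤ T := Subgroup.map_subtype_le _

theorem nc_eq {V T : Subgroup G} (h : T ≤ Subgroup.normalizer (V : Set G)) :
    Subgroup.normalClosure ((V.subgroupOf T : Subgroup ↥T) : Set ↥T) = V.subgroupOf T := by
  haveI := Subgroup.normal_subgroupOf_of_le_normalizer h
  exact Subgroup.normalClosure_eq_self _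

theorem Wq_eq (hW : IsCharPFunctor p W) {V T : Subgroup G} (hT : IsPGroup p ↥T)
    (hV : T ≤ Subgroup.normalizer (V : Set G)) {Q : Type u} [Group Q] (f : ↥T →* Q)
    (hf : Function.Surjective f) (hker : f.ker = V.subgroupOf T) :
    Wq W V T = ((W Q).comap f).map T.subtype := by
  set N := Subgroup.normalClosure ((V.subgroupOf T : Subgroup ↥T) : Set ↥T)
  let e : (↥T ⧸ N) ≃* Q := (QuotientGroup.quotientMulEquivOfEq ((nc_eq hV).trans hker.symm)).trans
    (QuotientGroup.quotientKerEquivOfSurjective f hf)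
  unfold Wq
  congr 1
  rw [← hW.2 (↥T ⧸ N) Q (hT.to_quotient N) e]
  ext t
  simp only [Subgroup.mem_comap]
  constructor
  · intro h
    exact ⟨_, h, rfl⟩
  · rintro ⟨y, hy, hye⟩
    rwa [show y = QuotientGroup.mk' N t from e.injective hye] at hy

theorem V_le_Wq {V T : Subgroup G} (h : V ≤ T) : V ≤ Wq W V T := fun v hv => by
  refine ⟨⟨v, h hv⟩, ?_, rfl⟩
  show QuotientGroup.mk' _ (⟨v, h hv⟩ : ↥T) ∈ W _
  rw [show QuotientGroup.mk' _ (⟨v, h hv⟩ : ↥T) = 1 from (QuotientGroup.eq_one_iff _).mpr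
    (Subgroup.subset_normalClosure (show (⟨v, h hv⟩ : ↥T) ∈ V.subgroupOf T from hv))]
  exact one_mem _

theorem Wq_gt (hW : IsCharPFunctor p W) {V T : Subgroup G} (hT : IsPGroup p ↥T)
    (hV : T ≤ Subgroup.normalizer (V : Set G)) (hlt : V < T) : V < Wq W V T := by
  refine lt_of_le_of_ne (V_le_Wq hlt.le) fun e => ?_
  set N := Subgroup.normalClosure ((V.subgroupOf T : Subgroup ↥T) : Set ↥T) with hN
  have hne : N ≠ ⊤ := by
    rw [hN, nc_eq hV, Ne, Subgroup.subgroupOf_eq_top]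
    exact hlt.not_ge
  haveI : Nontrivial (↥T ⧸ N) := QuotientGroup.nontrivial_iff.mpr hne
  refine hW.1 (↥T ⧸ N) (hT.to_quotient N) inferInstance ((Subgroup.eq_bot_iff_forall _).mpr fun y hy => ?_)
  obtain ⟨t, rfl⟩ := QuotientGroup.mk'_surjective N y
  have : (t : G) ∈ V := e.ge ⟨t, hy, rfl⟩
  exact (QuotientGroup.eq_one_iff _).mpr (hN ▸ Subgroup.subset_normalClosure (show t ∈ V.subgroupOf T from this))

theorem Wq_normalizes (hW : IsCharPFunctor p W) {V T : Subgroup G} (hT : IsPGroup p ↥T)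
    (hV : T ≤ Subgroup.normalizer (V : Set G)) {g : G} (hgT : g ∈ Subgroup.normalizer (T : Set G))
    (hgV : g ∈ Subgroup.normalizer (V : Set G)) : g ∈ Subgroup.normalizer (Wq W V T : Set G) := by
  refine normalizer_of_maps fun x hx => ?_
  haveI := Subgroup.normal_subgroupOf_of_le_normalizer hV
  let φ : ↥T →* ↥T := {
    toFun := fun t => ⟨g * t * g⁻¹, conj_in hgT t.2⟩
    map_one' := Subtype.ext (by simp)
    map_mul' := fun a b => Subtype.ext (by simp [mul_assoc]) }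
  let mk := QuotientGroup.mk' (V.subgroupOf T)
  have hφ : Function.Surjective φ := fun t => ⟨⟨g⁻¹ * t * g, by
    simpa using conj_in (Subgroup.inv_mem _ hgT) t.2⟩, Subtype.ext (by show g * (g⁻¹ * t * g) * g⁻¹ = _; group)⟩
  have h1 := Wq_eq hW hT hV (mk.comp φ) ((QuotientGroup.mk'_surjective _).comp hφ) (by
    ext t
    rw [MonoidHom.mem_ker]
    exact ((QuotientGroup.eq_one_iff _).trans (Subgroup.mem_normalizer_iff.mp hgV (t : G)).symm))
  have h2 := Wq_eq hW hT hV mk (QuotientGroup.mk'_surjective _) (QuotientGroup.ker_mk' _)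
  rw [h1] at hx
  obtain ⟨t, ht, rfl⟩ := hx
  rw [h2]
  exact ⟨φ t, ht, rfl⟩

theorem Wq_bot (hW : IsCharPFunctor p W) {T : Subgroup G} (hT : IsPGroup p ↥T) :
    Wq W ⊥ T = inducedFunctor W T := by
  rw [Wq_eq hW hT (fun x _ => normalizer_of_maps fun y hy => by
    rw [Subgroup.mem_bot.mp hy]; simp) (MonoidHom.id ↥T) Function.surjective_id (by
    ext t
    simp [Subgroup.mem_subgroupOf]), Subgroup.comap_id]
  rfl

/-- The factorisation hypothesis, in the form used below. -/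
def Factors (p : ℕ) (W₁ W₂ : ∀ (Q : Type u) [Group Q], Subgroup Q) (G : Type u) [Group G] : Prop :=
  ∀ (K R : Subgroup G) [hR : (R.subgroupOf K).Normal],
    Subgroup.centralizer ((pCore p (↥K ⧸ R.subgroupOf K) : Subgroup (↥K ⧸ R.subgroupOf K)) : Set (↥K ⧸ R.subgroupOf K)) ≤
      pCore p (↥K ⧸ R.subgroupOf K) → ∀ T : Sylow p (↥K ⧸ R.subgroupOf K),
    (∀ x, ∃ a ∈ Subgroup.centralizer ((omegaOne p ((T : Subgroup (↥K ⧸ R.subgroupOf K)) ⊓
        Subgroup.centralizer ((T : Subgroup (↥K ⧸ R.subgroupOf K)) : Set (↥K ⧸ R.subgroupOf K)))) : Set (↥K ⧸ R.subgroupOf K)),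
      ∃ b ∈ Subgroup.normalizer ((inducedFunctor W₂ (T : Subgroup (↥K ⧸ R.subgroupOf K)) : Subgroup _) : Set (↥K ⧸ R.subgroupOf K)),
        x = a * b) ∧
    (∀ x, ∃ a ∈ Subgroup.normalizer ((inducedFunctor W₁ (T : Subgroup (↥K ⧸ R.subgroupOf K)) : Subgroup _) : Set (↥K ⧸ R.subgroupOf K)),
      ∃ b ∈ Subgroup.normalizer ((inducedFunctor W₂ (T : Subgroup (↥K ⧸ R.subgroupOf K)) : Subgroup _) : Set (↥K ⧸ R.subgroupOf K)),
        x = a * b)

/-- `O_{p'}(K)` inside `G`. -/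
def cop (p : ℕ) (K : Subgroup G) : Subgroup G := (pPrimeCore p ↥K).map K.subtype

theorem cop_normal (K : Subgroup G) : K ≤ Subgroup.normalizer (cop p K : Set G) := fun x hx =>
  normalizer_of_maps (by
    rintro _ ⟨y, hy, rfl⟩
    exact ⟨⟨x, hx⟩ * y * ⟨x, hx⟩⁻¹, (inferInstance : (pPrimeCore p ↥K).Normal).conj_mem y hy _, rfl⟩)

theorem cop_coprime {K : Subgroup G} {y : G} (hy : y ∈ cop p K) : (orderOf y).Coprime p := by
  obtain ⟨z, hz, rfl⟩ := hy
  have h1 : orderOf (z : G) ∣ Nat.card ↥(pPrimeCore p ↥K) := by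
    rw [Subgroup.orderOf_coe]
    exact (Subgroup.orderOf_mk z hz).symm ▸ orderOf_dvd_natCard (⟨z, hz⟩ : ↥(pPrimeCore p ↥K))
  exact (card_pPrimeCore_coprime p).coprime_dvd_left h1

theorem eq_one_of_cop {K T : Subgroup G} (hT : IsPGroup p ↥T) {y : G} (hy : y ∈ cop p K) (hyT : y ∈ T) : y = 1 := by
  obtain ⟨k, hk⟩ := hT ⟨y, hyT⟩
  rw [← orderOf_eq_one_iff]
  exact Nat.eq_one_of_dvd_coprimes ((cop_coprime hy).pow_right k) dvd_rfl
    (orderOf_dvd_of_pow_eq_one (congrArg Subtype.val hk))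

theorem cop_fixes {K P : Subgroup G} (hP : IsPGroup p ↥P) (hPK : P ≤ K) (hPn : K ≤ Subgroup.normalizer (P : Set G))
    {y : G} (hy : y ∈ cop p K) {a : G} (ha : a ∈ P) : y * a = a * y := by
  refine mul_inv_eq_iff_eq_mul.mp (mul_inv_eq_one.mp (eq_one_of_cop hP (K := K) ?_ ?_))
  · rw [show y * a * y⁻¹ * a⁻¹ = y * (a * y⁻¹ * a⁻¹) by group]
    exact (cop p K).mul_mem hy (conj_in (cop_normal K (hPK ha)) ((cop p K).inv_mem hy))
  · exact P.mul_mem (conj_in (hPn (Subgroup.map_subtype_le _ hy)) ha) (P.inv_mem ha)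

variable {W₁ W₂ : ∀ (Q : Type u) [Group Q], Subgroup Q}

/-- Local factorisation. -/
theorem factor (hW₁ : IsCharPFunctor p W₁) (hW₂ : IsCharPFunctor p W₂) (hfac : Factors p W₁ W₂ G)
    {K T V P : Subgroup G} (hT : IsSylowIn p T K) (hVn : K ≤ Subgroup.normalizer (V : Set G))
    (hPn : K ≤ Subgroup.normalizer (P : Set G)) (hVP : V ≤ P) (hPT : P ≤ T)
    (hcen : T ⊓ Subgroup.centralizer (P : Set G) ≤ P)
    (hcond : ∀ y ∈ K, (orderOf y).Coprime p → ∀ v ∈ V, y * v = v * y) :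
    (∀ x ∈ K, ∃ ρ ∈ cop p K, ∃ b₁ ∈ K ⊓ Subgroup.normalizer (Wq W₁ V T : Set G),
      ∃ b₂ ∈ K ⊓ Subgroup.normalizer (Wq W₂ V T : Set G), x = ρ * b₁ * b₂) ∧
    (V = ⊥ → ∀ Z : Subgroup G, Z ≤ P → Z ≤ Subgroup.centralizer (T : Set G) → (∀ z ∈ Z, z ^ p = 1) →
      ∀ x ∈ K, ∃ c ∈ K ⊓ Subgroup.centralizer (Z : Set G),
        ∃ b ∈ K ⊓ Subgroup.normalizer (Wq W₂ V T : Set G), x = c * b) := by
  have hPK : P ≤ K := hPT.trans hT.1
  have hVK : V ≤ K := hVP.trans hPK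
  have hVT : V ≤ T := hVP.trans hPT
  have hPp : IsPGroup p ↥P := hT.2.1.to_le hPT
  set R := cop p K with hR
  have hRK : R ≤ K := Subgroup.map_subtype_le _
  have hRn : K ≤ Subgroup.normalizer (R : Set G) := cop_normal K
  set D := R ⊔ V with hD
  have hDK : D ≤ K := sup_le hRK hVK
  have hDn : K ≤ Subgroup.normalizer (D : Set G) := fun x hx => normalizes_sup (hRn hx) (hVn hx)
  haveI hDnorm : (D.subgroupOf K).Normal := Subgroup.normal_subgroupOf_of_le_normalizer hDn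
  have hDmem : ∀ d ∈ D, ∃ ρ ∈ R, ∃ v ∈ V, ρ * v = d := fun d hd =>
    mem_sup_of_le_normalizer (hVK.trans hRn) hd
  set π := QuotientGroup.mk' (D.subgroupOf K) with hπ
  have hπs := QuotientGroup.mk'_surjective (D.subgroupOf K)
  have hπ1 : ∀ k : ↥K, π k = 1 ↔ (k : G) ∈ D := fun k => QuotientGroup.eq_one_iff k
  -- the centraliser condition
  have hconstr : Subgroup.centralizer (pCore p (↥K ⧸ D.subgroupOf K) : Set (↥K ⧸ D.subgroupOf K)) ≤
      pCore p (↥K ⧸ D.subgroupOf K) := by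
    haveI hPnn : (P.subgroupOf K).Normal := Subgroup.normal_subgroupOf_of_le_normalizer hPn
    haveI : ((P.subgroupOf K).map π).Normal := hPnn.map _ hπs
    have hPle : (P.subgroupOf K).map π ≤ pCore p (↥K ⧸ D.subgroupOf K) :=
      le_pCore ((hPp.of_equiv (Subgroup.subgroupOfEquivOfLe hPK).symm).map π)
    haveI : (Subgroup.centralizer ((P.subgroupOf K).map π : Set (↥K ⧸ D.subgroupOf K))).Normal :=
      Subgroup.normal_centralizer
    refine (Subgroup.centralizer_le hPle).trans (le_pCore ?_)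
    rintro ⟨c, hc⟩
    obtain ⟨y, rfl⟩ := hπs c
    obtain ⟨k, hk⟩ := PResidual.exists_pow_coprime (p := p) (y : G)
    refine ⟨k, Subtype.ext ?_⟩
    show π y ^ p ^ k = 1
    rw [← map_pow, hπ1]
    set z : ↥K := y ^ p ^ k with hz
    have hzc : π z ∈ Subgroup.centralizer ((P.subgroupOf K).map π : Set (↥K ⧸ D.subgroupOf K)) := by
      rw [hz, map_pow]; exact Subgroup.pow_mem _ hc _
    have hzo : (orderOf (z : G)).Coprime p := by simpa [hz] using hk
    have hzP : ∀ a ∈ P, (z : G) * a * (z : G)⁻¹ * a⁻¹ ∈ V := by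
      intro a ha
      have h1 : π z * π ⟨a, hPK ha⟩ = π ⟨a, hPK ha⟩ * π z :=
        (Subgroup.mem_centralizer_iff.mp hzc _ ⟨⟨a, hPK ha⟩, ha, rfl⟩).symm
      have h2 : (z : G) * a * (z : G)⁻¹ * a⁻¹ ∈ D := by
        refine (hπ1 (z * ⟨a, hPK ha⟩ * z⁻¹ * ⟨a, hPK ha⟩⁻¹)).mp ?_
        rw [map_mul, map_mul, map_mul, map_inv, map_inv]
        rw [h1]
        group
      have h3 : (z : G) * a * (z : G)⁻¹ * a⁻¹ ∈ P := P.mul_mem (conj_in (hPn z.2) ha) (P.inv_mem ha)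
      obtain ⟨ρ, hρ, v, hv, e⟩ := hDmem _ h2
      have hρP : ρ ∈ P := by
        have := P.mul_mem h3 (P.inv_mem (hVP hv))
        rwa [← e, mul_inv_cancel_right] at this
      rw [← e, eq_one_of_cop hPp hρ hρP, one_mul]
      exact hv
    have hzC : (z : G) ∈ Subgroup.centralizer (P : Set G) := by
      let A : ℕ → Subgroup G := fun i => match i with | 0 => ⊥ | 1 => V | _ => P
      refine Subgroup.mem_centralizer_iff.mpr fun a ha => (Stabilizer.centralizes_of_series hzo A 2 ?_ ?_ ?_ 2 le_rfl a ha).symm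
      · intro i hi
        rcases (show i = 0 ∨ i = 1 by omega) with rfl | rfl
        · exact IsPGroup.of_bot
        · exact hPp.to_le hVP
      · intro r hr; rw [Subgroup.mem_bot.mp hr]; simp
      · intro i hi r hr
        rcases (show i = 0 ∨ i = 1 by omega) with rfl | rfl
        · show (z : G) * r * (z : G)⁻¹ * r⁻¹ ∈ (⊥ : Subgroup G)
          rw [hcond _ z.2 hzo r hr]; simp
        · exact hzP r hr
    -- Burnside: `C_K(P)` has a normal `p`-complement
    set C := K ⊓ Subgroup.centralizer (P : Set G)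
    have hCn : K ≤ Subgroup.normalizer (C : Set G) := fun x hx => normalizer_of_maps fun c hc => by
      refine ⟨K.mul_mem (K.mul_mem hx hc.1) (K.inv_mem hx), Subgroup.mem_centralizer_iff.mpr fun a ha => ?_⟩
      have h2 := Subgroup.mem_centralizer_iff.mp hc.2 _ (conj_in (Subgroup.inv_mem _ (hPn hx)) ha)
      calc a * (x * c * x⁻¹) = x * (x⁻¹ * a * x⁻¹⁻¹ * c) * x⁻¹ := by group
        _ = x * (c * (x⁻¹ * a * x⁻¹⁻¹)) * x⁻¹ := by rw [h2]
        _ = x * c * x⁻¹ * a := by group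
    have hTC : IsSylowIn p (T ⊓ C) C := hT.inf_of_normal inf_le_left hCn
    obtain ⟨S, hS⟩ := (isSylowIn_iff inf_le_right).mp hTC
    have hSc : Subgroup.normalizer ((S : Subgroup ↥C) : Set ↥C) ≤ Subgroup.centralizer ((S : Subgroup ↥C) : Set ↥C) := by
      intro w _
      refine Subgroup.mem_centralizer_iff.mpr fun s hs => Subtype.ext ?_
      rw [SetLike.mem_coe, hS] at hs
      exact Subgroup.mem_centralizer_iff.mp w.2.2 _ (hcen ⟨(Subgroup.mem_inf.mp hs).1, s.2.2⟩)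
    let τ := MonoidHom.transferSylow S hSc
    have hco : ∀ w : ↥C, (orderOf w).Coprime p → τ w = 1 := fun w hw => by
      obtain ⟨j, hj⟩ := S.2 (τ w)
      rw [← orderOf_eq_one_iff]
      exact Nat.eq_one_of_dvd_coprimes (hw.pow_right j) (orderOf_map_dvd τ w) (orderOf_dvd_of_pow_eq_one hj)
    have hcard : (Nat.card ↥τ.ker).Coprime p := by
      rw [← (MonoidHom.ker_transferSylow_isComplement' S hSc).index_eq_card]
      exact ((Fact.out : p.Prime).coprime_iff_not_dvd.mpr S.not_dvd_index).symm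
    set N := τ.ker.map C.subtype with hN
    have hNK : N ≤ K := fun w hw => (Subgroup.map_subtype_le _ hw).1
    have hNn : K ≤ Subgroup.normalizer (N : Set G) := fun x hx => normalizer_of_maps (by
      rintro _ ⟨w, hw, rfl⟩
      refine ⟨⟨x * w * x⁻¹, conj_in (hCn hx) w.2⟩, hco _ ?_, rfl⟩
      rw [← Subgroup.orderOf_coe]
      show (orderOf ((MulAut.conj x) (w : G))).Coprime p
      rw [MulEquiv.orderOf_eq, Subgroup.orderOf_coe]
      exact hcard.coprime_dvd_left ((Subgroup.orderOf_mk w hw).symm ▸ orderOf_dvd_natCard (⟨w, hw⟩ : ↥τ.ker)))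
    have hNR : N ≤ R := by
      haveI : (N.subgroupOf K).Normal := Subgroup.normal_subgroupOf_of_le_normalizer hNn
      have h1 : N.subgroupOf K ≤ pPrimeCore p ↥K := le_pPrimeCore (by
        rw [Nat.card_congr (Subgroup.subgroupOfEquivOfLe hNK).toEquiv, hN,
          Subgroup.card_map_of_injective C.subtype_injective]
        exact hcard)
      intro w hw
      exact ⟨⟨w, hNK hw⟩, h1 hw, rfl⟩
    exact Subgroup.mem_sup_left (hNR ⟨⟨z, z.2, hzC⟩, hco _ (by rw [← Subgroup.orderOf_coe]; exact hzo), rfl⟩)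
  obtain ⟨S, hS⟩ := (isSylowIn_iff hT.1).mp hT
  set Tb := S.mapSurjective hπs
  have hTb : (Tb : Subgroup (↥K ⧸ D.subgroupOf K)) = (T.subgroupOf K).map π := by
    rw [Sylow.coe_mapSurjective, hS]
  have hfac' := hfac K D hconstr Tb
  rw [hTb] at hfac'
  let f₀ : ↥T →* ↥K ⧸ D.subgroupOf K := π.comp (Subgroup.inclusion hT.1)
  have hf₀ : ∀ t : ↥T, f₀ t ∈ (T.subgroupOf K).map π := fun t => ⟨Subgroup.inclusion hT.1 t, t.2, rfl⟩
  let f : ↥T →* ↥((T.subgroupOf K).map π) := f₀.codRestrict _ hf₀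
  have hfs : Function.Surjective f := by
    rintro ⟨_, k, hk, rfl⟩
    exact ⟨⟨k, hk⟩, Subtype.ext rfl⟩
  have hTn : T ≤ Subgroup.normalizer (V : Set G) := hT.1.trans hVn
  have hfk : f.ker = V.subgroupOf T := by
    ext t
    rw [MonoidHom.mem_ker, Subgroup.mem_subgroupOf]
    constructor
    · intro h
      obtain ⟨ρ, hρ, v, hv, e⟩ := hDmem _ ((hπ1 (Subgroup.inclusion hT.1 t)).mp (congrArg Subtype.val h))
      have hρT : ρ ∈ T := by
        have := T.mul_mem t.2 (T.inv_mem (hVT hv))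
        rwa [show (t : G) = ρ * v from e.symm, mul_inv_cancel_right] at this
      rw [show (t : G) = ρ * v from e.symm, eq_one_of_cop hT.2.1 hρ hρT, one_mul]
      exact hv
    · intro h
      exact Subtype.ext ((hπ1 (Subgroup.inclusion hT.1 t)).mpr (Subgroup.mem_sup_right h))
  have lift : ∀ (W : ∀ (Q : Type u) [Group Q], Subgroup Q), IsCharPFunctor p W → ∀ k : ↥K,
      π k ∈ Subgroup.normalizer ((inducedFunctor W ((T.subgroupOf K).map π) : Subgroup _) : Set (↥K ⧸ D.subgroupOf K)) →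
      ∃ ρ ∈ R, ∃ b ∈ K ⊓ Subgroup.normalizer (Wq W V T : Set G), (k : G) = ρ * b := by
    intro W hW k hk
    set U := Wq W V T with hU
    have hUeq := Wq_eq hW hT.2.1 hTn f hfs hfk
    rw [← hU] at hUeq
    have hUT : U ≤ T := Wq_le V T
    have hVU : V ≤ U := V_le_Wq hVT
    have hUn : U ≤ Subgroup.normalizer (R : Set G) := hUT.trans (hT.1.trans hRn)
    have hkN : (k : G) ∈ Subgroup.normalizer ((U ⊔ R : Subgroup G) : Set G) := by
      refine normalizer_of_maps fun x hx => ?_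
      rw [sup_comm] at hx
      obtain ⟨ρ, hρ, w, hw, rfl⟩ := mem_sup_of_le_normalizer hUn hx
      rw [show (k : G) * (ρ * w) * (k : G)⁻¹ = ((k : G) * ρ * (k : G)⁻¹) * ((k : G) * w * (k : G)⁻¹) by group]
      refine Subgroup.mul_mem _ (Subgroup.mem_sup_right (conj_in (hRn k.2) hρ)) ?_
      rw [hUeq] at hw
      obtain ⟨t, ht, rfl⟩ := hw
      obtain ⟨_, ⟨t', rfl⟩, ht'⟩ : ∃ y ∈ Set.range f, (y : ↥K ⧸ D.subgroupOf K) = π k * (f t : ↥K ⧸ D.subgroupOf K) * (π k)⁻¹ ∧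
          y ∈ W _ := by
        obtain ⟨y, hy, hye⟩ := conj_in hk (show (f t : ↥K ⧸ D.subgroupOf K) ∈ inducedFunctor W ((T.subgroupOf K).map π) from
          ⟨f t, ht, rfl⟩)
        exact ⟨y, hfs y, hye, hy⟩
      have ht'U : (t' : G) ∈ U := hUeq ▸ ⟨t', ht'.2, rfl⟩
      have hd : (t' : G)⁻¹ * ((k : G) * t * (k : G)⁻¹) ∈ D := by
        refine (hπ1 ((Subgroup.inclusion hT.1 t')⁻¹ * (k * Subgroup.inclusion hT.1 t * k⁻¹))).mp ?_
        have e1 : π (Subgroup.inclusion hT.1 t') = π k * π (Subgroup.inclusion hT.1 t) * (π k)⁻¹ := ht'.1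
        rw [map_mul, map_inv, map_mul, map_mul, map_inv, e1]
        group
      rw [show ((k : G) * T.subtype t * (k : G)⁻¹) = (t' : G) * ((t' : G)⁻¹ * ((k : G) * t * (k : G)⁻¹)) by
        rw [Subgroup.coe_subtype]; group]
      exact Subgroup.mul_mem _ (Subgroup.mem_sup_left ht'U)
        ((sup_le le_sup_right (hVU.trans le_sup_left) : D ≤ U ⊔ R) hd)
    have hbot : IsSylowIn p (⊥ : Subgroup G) R := by
      refine ⟨bot_le, IsPGroup.of_bot, fun hd => ?_⟩
      rw [Subgroup.relIndex_bot_left] at hd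
      obtain ⟨z, hz⟩ := exists_prime_orderOf_dvd_card' (G := ↥R) p hd
      have := cop_coprime z.2
      rw [Subgroup.orderOf_coe, hz] at this
      exact (Fact.out : p.Prime).coprime_iff_not_dvd.mp this dvd_rfl
    obtain ⟨m, hm, y, hy, e⟩ := frattini (hbot.sup_of_normalizes (hT.2.1.to_le hUT) bot_le hUn) hkN
    rw [sup_comm] at hm
    obtain ⟨ρ, hρ, w, hw, rfl⟩ := mem_sup_of_le_normalizer hUn hm
    refine ⟨ρ, hρ, w * y, ⟨?_, Subgroup.mul_mem _ (Subgroup.le_normalizer hw) hy⟩, by rw [e, mul_assoc]⟩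
    have : w * y = ρ⁻¹ * (k : G) := by rw [e]; group
    rw [this]
    exact K.mul_mem (K.inv_mem (hRK hρ)) k.2
  refine ⟨fun x hx => ?_, fun hV0 Z hZP hZT hZe x hx => ?_⟩
  · obtain ⟨a, ha, b, hb, e⟩ := hfac'.2 (π ⟨x, hx⟩)
    obtain ⟨k₁, rfl⟩ := hπs a
    obtain ⟨k₂, rfl⟩ := hπs b
    obtain ⟨ρ₁, hρ₁, b₁, hb₁, e₁⟩ := lift W₁ hW₁ k₁ ha
    obtain ⟨ρ₂, hρ₂, b₂, hb₂, e₂⟩ := lift W₂ hW₂ k₂ hb
    have hd : ((k₁ * k₂)⁻¹ * ⟨x, hx⟩ : ↥K).1 ∈ D := by
      rw [← hπ1, map_mul, map_inv, map_mul, e, inv_mul_cancel]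
    obtain ⟨ρ₃, hρ₃, v, hv, ed⟩ := hDmem _ hd
    have hρ' : b₁ * (ρ₂ * (b₂ * ρ₃ * b₂⁻¹)) * b₁⁻¹ ∈ R :=
      conj_in (hRn hb₁.1) (R.mul_mem hρ₂ (conj_in (hRn hb₂.1) hρ₃))
    refine ⟨ρ₁ * (b₁ * (ρ₂ * (b₂ * ρ₃ * b₂⁻¹)) * b₁⁻¹), R.mul_mem hρ₁ hρ', b₁, hb₁, b₂ * v,
      Subgroup.mul_mem _ hb₂ ⟨hVK hv, Subgroup.le_normalizer (V_le_Wq hVT hv)⟩, ?_⟩
    have ex : x = (k₁ : G) * k₂ * (ρ₃ * v) := by
      rw [ed]; simp [mul_assoc]
    rw [ex, e₁, e₂]
    group
  · subst hV0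
    obtain ⟨a, ha, b, hb, e⟩ := hfac'.1 (π ⟨x, hx⟩)
    obtain ⟨k₁, rfl⟩ := hπs a
    obtain ⟨k₂, rfl⟩ := hπs b
    obtain ⟨ρ₂, hρ₂, b₂, hb₂, e₂⟩ := lift W₂ hW₂ k₂ hb
    have hRZ : ∀ ρ ∈ R, ∀ z ∈ Z, ρ * z = z * ρ := fun ρ hρ z hz => cop_fixes hPp hPK hPn hρ (hZP hz)
    have hk1 : (k₁ : G) ∈ Subgroup.centralizer (Z : Set G) := by
      refine Subgroup.mem_centralizer_iff.mpr fun z hz => ?_
      have hzK : z ∈ K := hPK (hZP hz)
      have hzΩ : π ⟨z, hzK⟩ ∈ omegaOne p ((T.subgroupOf K).map π ⊓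
          Subgroup.centralizer ((T.subgroupOf K).map π : Set (↥K ⧸ D.subgroupOf K))) := by
        refine Subgroup.subset_closure ⟨⟨⟨⟨z, hzK⟩, hPT (hZP hz), rfl⟩, Subgroup.mem_centralizer_iff.mpr ?_⟩, ?_⟩
        · rintro _ ⟨t, ht, rfl⟩
          rw [← map_mul, ← map_mul]
          exact congrArg π (Subtype.ext (Subgroup.mem_centralizer_iff.mp (hZT hz) (t : G) ht))
        · rw [← map_pow, show (⟨z, hzK⟩ : ↥K) ^ p = 1 from Subtype.ext (by simpa using hZe z hz), map_one]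
      have h1 := (Subgroup.mem_centralizer_iff.mp ha _ hzΩ).symm
      have h2 : (k₁ : G) * z * (k₁ : G)⁻¹ * z⁻¹ ∈ D := by
        refine (hπ1 (k₁ * ⟨z, hzK⟩ * k₁⁻¹ * ⟨z, hzK⟩⁻¹)).mp ?_
        rw [map_mul, map_mul, map_mul, map_inv, map_inv]
        change π k₁ * π ⟨z, hzK⟩ = π ⟨z, hzK⟩ * π k₁ at h1
        rw [h1]
        group
      rw [hD, sup_bot_eq] at h2
      have h3 : (k₁ : G) * z * (k₁ : G)⁻¹ * z⁻¹ ∈ P :=
        P.mul_mem (conj_in (hPn k₁.2) (hZP hz)) (P.inv_mem (hZP hz))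
      exact (mul_inv_eq_iff_eq_mul.mp (mul_inv_eq_one.mp (eq_one_of_cop hPp h2 h3))).symm
    have hd : ((k₁ * k₂)⁻¹ * ⟨x, hx⟩ : ↥K).1 ∈ D := by
      rw [← hπ1, map_mul, map_inv, map_mul, e, inv_mul_cancel]
    obtain ⟨ρ₃, hρ₃, v, hv, ed⟩ := hDmem _ hd
    obtain rfl := Subgroup.mem_bot.mp hv
    refine ⟨(k₁ : G) * (ρ₂ * (b₂ * ρ₃ * b₂⁻¹)), ⟨K.mul_mem k₁.2 (hRK (R.mul_mem hρ₂ (conj_in (hRn hb₂.1) hρ₃))),
      Subgroup.mul_mem _ hk1 (Subgroup.mem_centralizer_iff.mpr fun z hz =>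
        (hRZ _ (R.mul_mem hρ₂ (conj_in (hRn hb₂.1) hρ₃)) z hz).symm)⟩, b₂, hb₂, ?_⟩
    have ex : x = (k₁ : G) * k₂ * (ρ₃ * 1) := by
      rw [ed]; simp [mul_assoc]
    rw [ex, e₂]
    group

/-- `O_p(M)` inside `G`. -/
def core (p : ℕ) (M : Subgroup G) : Subgroup G := (pCore p ↥M).map M.subtype

theorem core_normal (M : Subgroup G) : M ≤ Subgroup.normalizer (core p M : Set G) := fun x hx =>
  normalizer_of_maps (by
    rintro _ ⟨y, hy, rfl⟩
    exact ⟨⟨x, hx⟩ * y * ⟨x, hx⟩⁻¹, (inferInstance : (pCore p ↥M).Normal).conj_mem y hy _, rfl⟩)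

theorem le_core {M Q : Subgroup G} (hQ : IsPGroup p ↥Q) (hQM : Q ≤ M) (hn : M ≤ Subgroup.normalizer (Q : Set G)) :
    Q ≤ core p M := fun x hx => by
  haveI : (Q.subgroupOf M).Normal := Subgroup.normal_subgroupOf_of_le_normalizer hn
  exact ⟨⟨x, hQM hx⟩, le_pCore (hQ.of_equiv (Subgroup.subgroupOfEquivOfLe hQM).symm) hx, rfl⟩

theorem core_isPGroup (M : Subgroup G) : IsPGroup p ↥(core p M) := (isPGroup_pCore p).map _

theorem core_le_sylow {M T : Subgroup G} (hT : IsSylowIn p T M) : core p M ≤ T := by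
  obtain ⟨b, hb, hb'⟩ := hT.exists_conj_le (core_isPGroup M) (Subgroup.map_subtype_le _)
  intro x hx
  have h1 := hb' _ (conj_in (core_normal M (M.inv_mem hb)) hx)
  rwa [show b * (b⁻¹ * x * b⁻¹⁻¹) * b⁻¹ = x by group] at h1

/-- Fully normalised conjugates. -/
theorem exists_full {M T P : Subgroup G} (hT : IsSylowIn p T M) (hP : P ≤ T) :
    ∃ h ∈ M, (∀ a ∈ T ⊓ Subgroup.normalizer (P : Set G), h * a * h⁻¹ ∈ T) ∧
      IsSylowIn p (T ⊓ Subgroup.normalizer ((P.map (MulAut.conj h).toMonoidHom : Subgroup G) : Set G))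
        (M ⊓ Subgroup.normalizer ((P.map (MulAut.conj h).toMonoidHom : Subgroup G) : Set G)) := by
  set K := M ⊓ Subgroup.normalizer (P : Set G)
  obtain ⟨A, hA⟩ := exists_isSylowIn p K
  obtain ⟨k, hk, hk'⟩ := hA.exists_conj_le (X := T ⊓ Subgroup.normalizer (P : Set G)) (hT.2.1.to_le inf_le_left)
    (inf_le_inf_right _ hT.1)
  obtain ⟨m, hm, hm'⟩ := hT.exists_conj_le hA.2.1 (hA.1.trans inf_le_left)
  set h := m * k with hh
  set P' := P.map (MulAut.conj h).toMonoidHom with hP'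
  have hP'eq : P' = P.map (MulAut.conj m).toMonoidHom := by
    rw [hP']
    ext y
    constructor
    · rintro ⟨a, ha, rfl⟩
      refine ⟨k * a * k⁻¹, conj_in hk.2 ha, ?_⟩
      show m * (k * a * k⁻¹) * m⁻¹ = m * k * a * (m * k)⁻¹
      group
    · rintro ⟨a, ha, rfl⟩
      refine ⟨k⁻¹ * a * k⁻¹⁻¹, conj_in (Subgroup.inv_mem _ hk.2) ha, ?_⟩
      show m * k * (k⁻¹ * a * k⁻¹⁻¹) * (m * k)⁻¹ = m * a * m⁻¹
      group
  refine ⟨h, M.mul_mem hm hk.1, fun a ha => ?_, ?_⟩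
  · rw [show h * a * h⁻¹ = m * (k * a * k⁻¹) * m⁻¹ by rw [hh]; group]
    exact hm' _ (hk' a ha)
  · -- `A` transported
    have hA' : IsSylowIn p (A.map (MulAut.conj m).toMonoidHom) (M ⊓ Subgroup.normalizer (P' : Set G)) := by
      have hKm : K.map (MulAut.conj m).toMonoidHom = M ⊓ Subgroup.normalizer (P' : Set G) := by
        rw [hP'eq]
        ext y
        constructor
        · rintro ⟨x, hx, rfl⟩
          refine ⟨M.mul_mem (M.mul_mem hm hx.1) (M.inv_mem hm), normalizer_of_maps ?_⟩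
          rintro _ ⟨a, ha, rfl⟩
          refine ⟨x * a * x⁻¹, conj_in hx.2 ha, ?_⟩
          show m * (x * a * x⁻¹) * m⁻¹ = m * x * m⁻¹ * (m * a * m⁻¹) * (m * x * m⁻¹)⁻¹
          group
        · rintro ⟨hy1, hy2⟩
          refine ⟨m⁻¹ * y * m, ⟨M.mul_mem (M.mul_mem (M.inv_mem hm) hy1) hm, normalizer_of_maps fun a ha => ?_⟩, ?_⟩
          · obtain ⟨a', ha', e⟩ := conj_in hy2 (show m * a * m⁻¹ ∈ P.map (MulAut.conj m).toMonoidHom from ⟨a, ha, rfl⟩)
            change m * a' * m⁻¹ = y * (m * a * m⁻¹) * y⁻¹ at e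
            rwa [show m⁻¹ * y * m * a * (m⁻¹ * y * m)⁻¹ = a' by
              calc m⁻¹ * y * m * a * (m⁻¹ * y * m)⁻¹ = m⁻¹ * (y * (m * a * m⁻¹) * y⁻¹) * m := by group
                _ = a' := by rw [← e]; group]
          · show m * (m⁻¹ * y * m) * m⁻¹ = y
            group
      refine ⟨hKm ▸ Subgroup.map_mono hA.1, hA.2.1.map _, ?_⟩
      rw [← hKm, Subgroup.relIndex_map_map_of_injective _ _ (MulEquiv.injective _)]
      exact hA.2.2
    have hle : A.map (MulAut.conj m).toMonoidHom ≤ T ⊓ Subgroup.normalizer (P' : Set G) := by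
      rintro _ ⟨a, ha, rfl⟩
      exact ⟨hm' a ha, (hA'.1 ⟨a, ha, rfl⟩).2⟩
    have := hA'.eq_of_le (hT.2.1.to_le inf_le_left) (inf_le_inf_right _ hT.1) hle
    exact this ▸ hA'

theorem lt_normalizer {T P : Subgroup G} (hT : IsPGroup p ↥T) (hlt : P < T) :
    P < T ⊓ Subgroup.normalizer (P : Set G) := by
  refine lt_of_le_of_ne (le_inf hlt.le Subgroup.le_normalizer) fun e => ?_
  haveI : Group.IsNilpotent ↥T := hT.isNilpotent
  have hne : P.subgroupOf T < ⊤ := lt_top_iff_ne_top.mpr fun h => hlt.not_ge (Subgroup.subgroupOf_eq_top.mp h)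
  obtain ⟨t, ht, ht'⟩ := SetLike.exists_of_lt (normalizerCondition_of_isNilpotent (G := ↥T) _ hne)
  refine ht' (show (t : G) ∈ P from e.ge ⟨t.2, normalizer_of_maps fun a ha => ?_⟩)
  exact (Subgroup.mem_normalizer_iff.mp ht ⟨a, hlt.le ha⟩).mp ha

/-- The fusion statement. -/
def Theta (p : ℕ) (W₁ W₂ : ∀ (Q : Type u) [Group Q], Subgroup Q) (𝒩 M V₀ : Subgroup G) : Prop :=
  ∀ T : Subgroup G, IsSylowIn p T M →
    (∀ b ∈ M, (b ∈ Subgroup.normalizer (Wq W₁ V₀ T : Set G) ∨ b ∈ Subgroup.normalizer (Wq W₂ V₀ T : Set G)) →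
      ∀ Q : Subgroup G, Q ≤ T → (∀ a ∈ Q, b * a * b⁻¹ ∈ T) → Ctl 𝒩 Q b) →
    ∀ g ∈ M, ∀ Q : Subgroup G, Q ≤ T → (∀ a ∈ Q, g * a * g⁻¹ ∈ T) → Ctl 𝒩 Q g

def Adm (p : ℕ) (M V₀ : Subgroup G) : Prop :=
  V₀ ≤ M ∧ M ≤ Subgroup.normalizer (V₀ : Set G) ∧ IsPGroup p ↥V₀ ∧
    ∀ y ∈ M, (orderOf y).Coprime p → ∀ v ∈ V₀, y * v = v * y

theorem theta (hW₁ : IsCharPFunctor p W₁) (hW₂ : IsCharPFunctor p W₂) (hfac : Factors p W₁ W₂ G) (𝒩 : Subgroup G) :
    ∀ n : ℕ, ∀ M V₀ : Subgroup G, Nat.card ↥M ≤ n → Adm p M V₀ → Theta p W₁ W₂ 𝒩 M V₀ := by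
  intro n
  induction n with
  | zero => intro M V₀ h; exact absurd h (Nat.not_le.mpr Nat.card_pos)
  | succ n ihn =>
    intro M
    have hprop : ∀ M' V : Subgroup G, M' ≤ M → M' ≠ M → Nat.card ↥M ≤ n + 1 → Adm p M' V → Theta p W₁ W₂ 𝒩 M' V := by
      intro M' V hle hne hcard hadm
      refine ihn M' V ?_ hadm
      have : Nat.card ↥M' < Nat.card ↥M := lt_of_le_of_ne (Subgroup.card_le_of_le hle)
        fun e => hne (Subgroup.eq_of_le_of_card_ge hle e.ge)
      omega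
    suffices h : ∀ k : ℕ, ∀ V₀ : Subgroup G, Nat.card ↥M ≤ n + 1 → Adm p M V₀ → Nat.card G < Nat.card ↥V₀ + k →
        Theta p W₁ W₂ 𝒩 M V₀ from
      fun V₀ hM hA => h (Nat.card G + 1) V₀ hM hA (by omega)
    intro k
    induction k with
    | zero =>
      intro V₀ _ _ h
      exact absurd h (by have := Subgroup.card_le_card_group V₀; omega)
    | succ k ihk =>
      intro V₀ hcard hadm hk T hT hgen g hg Q hQ hmap
      obtain ⟨hV₀M, hV₀n, hV₀p, hcond⟩ := hadm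
      set V := core p M with hV
      have hVM : V ≤ M := Subgroup.map_subtype_le _
      have hVn : M ≤ Subgroup.normalizer (V : Set G) := core_normal M
      have hV₀V : V₀ ≤ V := le_core hV₀p hV₀M hV₀n
      have hVT : V ≤ T := core_le_sylow hT
      have hVp : IsPGroup p ↥V := core_isPGroup M
      have hTV₀ : T ≤ Subgroup.normalizer (V₀ : Set G) := hT.1.trans hV₀n
      have hTgen : ∀ t ∈ T, ∀ Q : Subgroup G, Q ≤ T → (∀ a ∈ Q, t * a * t⁻¹ ∈ T) → Ctl 𝒩 Q t := fun t ht =>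
        hgen t (hT.1 ht) (Or.inl (Wq_normalizes hW₁ hT.2.1 hTV₀ (Subgroup.le_normalizer ht) (hTV₀ ht)))
      have hsub : ∀ M' : Subgroup G, T ≤ M' → M' ≤ M → M' ≠ M →
          ∀ g ∈ M', ∀ Q : Subgroup G, Q ≤ T → (∀ a ∈ Q, g * a * g⁻¹ ∈ T) → Ctl 𝒩 Q g := by
        intro M' hTM' hle hne
        refine hprop M' V₀ hle hne hcard ⟨hV₀V.trans (hVT.trans hTM'), hle.trans hV₀n, hV₀p,
          fun y hy => hcond y (hle hy)⟩ T (sylow_sub hT hTM' hle) fun b hb => hgen b (hle hb)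
      set C := M ⊓ Subgroup.centralizer (V : Set G) with hC
      have hCn : M ≤ Subgroup.normalizer (C : Set G) := fun x hx => normalizer_of_maps fun c hc => by
        refine ⟨M.mul_mem (M.mul_mem hx hc.1) (M.inv_mem hx), Subgroup.mem_centralizer_iff.mpr fun a ha => ?_⟩
        have h2 := Subgroup.mem_centralizer_iff.mp hc.2 _ (conj_in (Subgroup.inv_mem _ (hVn hx)) ha)
        calc a * (x * c * x⁻¹) = x * (x⁻¹ * a * x⁻¹⁻¹ * c) * x⁻¹ := by group
          _ = x * (c * (x⁻¹ * a * x⁻¹⁻¹)) * x⁻¹ := by rw [h2]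
          _ = x * c * x⁻¹ * a := by group
      by_cases hcen : T ⊓ Subgroup.centralizer (V : Set G) ≤ V
      · -- the constrained case
        obtain ⟨ρ, hρ, b₁, hb₁, b₂, hb₂, e⟩ := (factor hW₁ hW₂ hfac hT hV₀n hVn hV₀V hVT hcen hcond).1 g hg
        set R := cop p M
        have hRM : R ≤ M := Subgroup.map_subtype_le _
        have hTR : ∀ h ∈ R ⊔ T, ∀ Q : Subgroup G, Q ≤ T → (∀ a ∈ Q, h * a * h⁻¹ ∈ T) → Ctl 𝒩 Q h := by
          intro h hh Q hQ hmap
          obtain ⟨ρ, hρ, t, ht, rfl⟩ := mem_sup_of_le_normalizer (hT.1.trans (cop_normal M)) hh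
          refine (hTgen t ht Q hQ fun a ha => T.mul_mem (T.mul_mem ht (hQ ha)) (T.inv_mem ht)).congr fun a ha => ?_
          have h1 : t * a * t⁻¹ ∈ T := T.mul_mem (T.mul_mem ht (hQ ha)) (T.inv_mem ht)
          have h2 : ρ * (t * a * t⁻¹) * ρ⁻¹ * (t * a * t⁻¹)⁻¹ = 1 := by
            refine eq_one_of_cop (K := M) hT.2.1 ?_ ?_
            · rw [show ρ * (t * a * t⁻¹) * ρ⁻¹ * (t * a * t⁻¹)⁻¹ = ρ * ((t * a * t⁻¹) * ρ⁻¹ * (t * a * t⁻¹)⁻¹) by group]
              exact R.mul_mem hρ (conj_in (cop_normal M (hT.1 h1)) (R.inv_mem hρ))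
            · refine T.mul_mem ?_ (T.inv_mem h1)
              rw [show ρ * (t * a * t⁻¹) * ρ⁻¹ = ρ * t * a * (ρ * t)⁻¹ by group]
              exact hmap a ha
          rw [mul_inv_eq_one] at h2
          rw [← h2]; group
        set N₁ := M ⊓ Subgroup.normalizer (Wq W₁ V₀ T : Set G)
        set N₂ := M ⊓ Subgroup.normalizer (Wq W₂ V₀ T : Set G)
        have hTN₁ : T ≤ N₁ := le_inf hT.1 fun t ht => Wq_normalizes hW₁ hT.2.1 hTV₀ (Subgroup.le_normalizer ht) (hTV₀ ht)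
        have hTN₂ : T ≤ N₂ := le_inf hT.1 fun t ht => Wq_normalizes hW₂ hT.2.1 hTV₀ (Subgroup.le_normalizer ht) (hTV₀ ht)
        have hRN : ∀ h ∈ R ⊔ N₁, ∀ Q : Subgroup G, Q ≤ T → (∀ a ∈ Q, h * a * h⁻¹ ∈ T) → Ctl 𝒩 Q h := by
          intro h hh Q hQ hmap
          obtain ⟨ρ, hρ, b, hb, rfl⟩ := mem_sup_of_le_normalizer ((inf_le_left : N₁ ≤ M).trans (cop_normal M)) hh
          exact ctl_product hT le_sup_right hTN₁ (sup_le hRM hT.1) hTR (fun b hb => hgen b hb.1 (Or.inl hb.2))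
            (Subgroup.mem_sup_left hρ) hb hQ hmap
        subst e
        exact ctl_product hT (hTN₁.trans le_sup_right) hTN₂ (sup_le hRM inf_le_left) hRN
          (fun b hb => hgen b hb.1 (Or.inr hb.2)) (Subgroup.mul_mem _ (Subgroup.mem_sup_left hρ) (Subgroup.mem_sup_right hb₁))
          hb₂ hQ hmap
      set Q₀ := V ⊔ (T ⊓ C) with hQ₀
      have hQ₀T : Q₀ ≤ T := sup_le hVT inf_le_left
      have hQ₀V : V < Q₀ := lt_of_le_of_ne le_sup_left fun e => hcen fun x hx =>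
        e.ge (Subgroup.mem_sup_right ⟨hx.1, hT.1 hx.1, hx.2⟩)
      set M₂ := M ⊓ Subgroup.normalizer (Q₀ : Set G) with hM₂
      have hM₂ne : M₂ ≠ M := fun e => hQ₀V.not_ge
        (le_core (hT.2.1.to_le hQ₀T) (hQ₀T.trans hT.1) (e.ge.trans inf_le_right))
      have hTM₂ : T ≤ M₂ := le_inf hT.1 fun t ht => normalizes_sup (hVn (hT.1 ht)) (normalizer_of_maps fun x hx =>
        ⟨T.mul_mem (T.mul_mem ht hx.1) (T.inv_mem ht), conj_in (hCn (hT.1 ht)) hx.2⟩)
      by_cases hCT : C ⊔ T = M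
      swap
      · -- product of two proper subgroups
        obtain ⟨m, hm, y, hy, e⟩ := frattini (hT.inf_of_normal inf_le_left hCn) (hCn hg)
        have hyM : y ∈ M := by
          rw [show y = m⁻¹ * g by rw [e]; group]
          exact M.mul_mem (M.inv_mem hm.1) hg
        have hy₂ : y ∈ M₂ := ⟨hyM, normalizes_sup (hVn hyM) hy⟩
        subst e
        exact ctl_product hT le_sup_right hTM₂ (sup_le inf_le_left hT.1)
          (hsub _ le_sup_right (sup_le inf_le_left hT.1) hCT) (hsub _ hTM₂ inf_le_left hM₂ne)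
          (Subgroup.mem_sup_left hm) hy₂ hQ hmap
      have hcondV : ∀ y ∈ M, (orderOf y).Coprime p → ∀ v ∈ V, y * v = v * y := by
        intro y hy hyc v hv
        haveI : (C.subgroupOf M).Normal := Subgroup.normal_subgroupOf_of_le_normalizer hCn
        obtain ⟨c, hc, t, ht, rfl⟩ := mem_sup_of_le_normalizer (hT.1.trans hCn) (hCT.ge hy)
        obtain ⟨j, hj⟩ := hT.2.1 ⟨t, ht⟩
        have hpow : (c * t) ^ p ^ j ∈ C := by
          have h1 : QuotientGroup.mk' (C.subgroupOf M) ⟨c * t, hy⟩ = QuotientGroup.mk' (C.subgroupOf M) ⟨t, hT.1 ht⟩ := by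
            rw [show (⟨c * t, hy⟩ : ↥M) = ⟨c, hc.1⟩ * ⟨t, hT.1 ht⟩ from rfl, map_mul,
              show QuotientGroup.mk' (C.subgroupOf M) ⟨c, hc.1⟩ = 1 from (QuotientGroup.eq_one_iff _).mpr hc, one_mul]
          have h2 := congrArg (· ^ p ^ j) h1
          simp only [← map_pow] at h2
          rw [show (⟨t, hT.1 ht⟩ : ↥M) ^ p ^ j = 1 from Subtype.ext (congrArg Subtype.val hj : t ^ p ^ j = 1), map_one,
            QuotientGroup.mk'_apply, QuotientGroup.eq_one_iff, Subgroup.mem_subgroupOf] at h2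
          simpa using h2
        obtain ⟨i, hi⟩ := exists_pow_eq_self_of_coprime (n := p ^ j) (x := c * t) (hyc.pow_right j).symm
        rw [← hi]
        exact (Subgroup.mem_centralizer_iff.mp (C.pow_mem hpow i).2 v hv).symm
      by_cases hVV : V = V₀
      swap
      · -- enlarge `V₀`
        have hlt : Nat.card ↥V₀ < Nat.card ↥V := lt_of_le_of_ne (Subgroup.card_le_of_le hV₀V)
          fun e => hVV (Subgroup.eq_of_le_of_card_ge hV₀V e.ge).symm
        refine ihk V hcard ⟨hVM, hVn, hVp, hcondV⟩ (by omega) T hT (fun b hb hbW => ?_) g hg Q hQ hmap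
        have hTn : T ≤ Subgroup.normalizer (V : Set G) := hT.1.trans hVn
        have hVltT : V < T := lt_of_lt_of_le hQ₀V hQ₀T
        have key : ∀ (W : ∀ (Q : Type u) [Group Q], Subgroup Q), IsCharPFunctor p W →
            b ∈ Subgroup.normalizer (Wq W V T : Set G) →
            ∀ Q : Subgroup G, Q ≤ T → (∀ a ∈ Q, b * a * b⁻¹ ∈ T) → Ctl 𝒩 Q b := fun W hW hbW =>
          hsub (M ⊓ Subgroup.normalizer (Wq W V T : Set G))
            (le_inf hT.1 fun t ht => Wq_normalizes hW hT.2.1 hTn (Subgroup.le_normalizer ht) (hTn ht)) inf_le_left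
            (fun e => (Wq_gt hW hT.2.1 hTn hVltT).not_ge
              (le_core (hT.2.1.to_le (Wq_le V T)) ((Wq_le V T).trans hT.1) (e.ge.trans inf_le_right)))
            b ⟨hb, hbW⟩
        rcases hbW with hbW | hbW
        exacts [key W₁ hW₁ hbW, key W₂ hW₂ hbW]
      rw [← hVV] at hgen
      -- downward induction on the domain
      suffices hP : ∀ j : ℕ, ∀ Q : Subgroup G, Nat.card ↥T < Nat.card ↥Q + j → Q ≤ T → ∀ g ∈ M,
          (∀ a ∈ Q, g * a * g⁻¹ ∈ T) → Ctl 𝒩 Q g from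
        hP (Nat.card ↥T + 1) Q (by omega) hQ g hg hmap
      intro j
      induction j with
      | zero => intro Q h hQ; exact absurd h (by have := Subgroup.card_le_of_le hQ; omega)
      | succ j ihj =>
        intro P hjP hPT g hg hmap
        have bigger : ∀ R : Subgroup G, Nat.card ↥P < Nat.card ↥R → R ≤ T → ∀ g ∈ M,
            (∀ a ∈ R, g * a * g⁻¹ ∈ T) → Ctl 𝒩 R g := fun R hR => ihj R (by omega)
        by_cases hVP : V ≤ P
        swap
        · have hlt : Nat.card ↥P < Nat.card ↥(P ⊔ V : Subgroup G) :=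
            lt_of_le_of_ne (Subgroup.card_le_of_le le_sup_left) fun e => hVP
              (le_sup_right.trans (Subgroup.eq_of_le_of_card_ge le_sup_left e.ge).ge)
          refine (bigger _ hlt (sup_le hPT hVT) g hg ?_).mono le_sup_left
          intro a ha
          have h : (P ⊔ V).map (MulAut.conj g).toMonoidHom ≤ T := by
            rw [Subgroup.map_sup]
            refine sup_le ?_ ?_
            · rintro _ ⟨x, hx, rfl⟩; exact hmap x hx
            · rintro _ ⟨x, hx, rfl⟩; exact hVT (conj_in (hVn hg) hx)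
          exact h ⟨a, ha, rfl⟩
        by_cases hPV : P = V
        · obtain ⟨c, hc, t, ht, rfl⟩ := mem_sup_of_le_normalizer (hT.1.trans hCn) (hCT.ge hg)
          refine (hTgen t ht P hPT fun a ha => T.mul_mem (T.mul_mem ht (hPT ha)) (T.inv_mem ht)).congr fun a ha => ?_
          have h1 : t * a * t⁻¹ ∈ V := conj_in (hVn (hT.1 ht)) (hPV ▸ ha)
          rw [show c * t * a * (c * t)⁻¹ = c * (t * a * t⁻¹) * c⁻¹ by group,
            ← Subgroup.mem_centralizer_iff.mp hc.2 _ h1, mul_inv_cancel_right]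
        have hVltP : V < P := lt_of_le_of_ne hVP (Ne.symm hPV)
        set P'' := P.map (MulAut.conj g).toMonoidHom with hP''def
        have hP''T : P'' ≤ T := by rintro _ ⟨a, ha, rfl⟩; exact hmap a ha
        have hP''c : Nat.card ↥P'' = Nat.card ↥P := Subgroup.card_map_of_injective (MulEquiv.injective _)
        have hTn : T ≤ Subgroup.normalizer (V : Set G) := hT.1.trans hVn
        by_cases hPeq : P = T
        · subst hPeq
          exact hgen g hg (Or.inl (Wq_normalizes hW₁ hT.2.1 hTn (normalizer_of_maps hmap) (hVn hg))) P le_rfl hmap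
        have hP'T : P < T := lt_of_le_of_ne hPT hPeq
        obtain ⟨h, hhM, hhT, hfull⟩ := exists_full hT hPT
        set P' := P.map (MulAut.conj h).toMonoidHom with hP'def
        have hNP := lt_normalizer hT.2.1 hP'T
        have hcardlt : ∀ {A B : Subgroup G}, A < B → Nat.card ↥A < Nat.card ↥B := fun h =>
          lt_of_le_of_ne (Subgroup.card_le_of_le h.le) fun e => h.ne (Subgroup.eq_of_le_of_card_ge h.le e.ge)
        have c_h : Ctl 𝒩 P h := (bigger _ (hcardlt hNP) inf_le_left h hhM hhT).mono hNP.le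
        -- a map from the image
        have hP''lt : P'' < T := lt_of_le_of_ne hP''T fun e => hP'T.ne
          (Subgroup.eq_of_le_of_card_ge hPT (by rw [← hP''c, e]))
        set g' := h * g⁻¹ with hg'def
        have hg'M : g' ∈ M := M.mul_mem hhM (M.inv_mem hg)
        have hP'' : P''.map (MulAut.conj g').toMonoidHom = P' := by
          rw [hP''def, hP'def, Subgroup.map_map]
          congr 1
          refine MonoidHom.ext fun a => ?_
          show g' * (g * a * g⁻¹) * g'⁻¹ = h * a * h⁻¹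
          rw [hg'def]; group
        -- the normaliser of `P''` goes into that of `P'`
        set K := M ⊓ Subgroup.normalizer (P' : Set G) with hK
        set T' := T ⊓ Subgroup.normalizer (P' : Set G) with hT'
        have hgK : ∀ a ∈ T ⊓ Subgroup.normalizer (P'' : Set G), g' * a * g'⁻¹ ∈ K := by
          rintro a ⟨haT, haN⟩
          refine ⟨M.mul_mem (M.mul_mem hg'M (hT.1 haT)) (M.inv_mem hg'M), normalizer_of_maps fun y hy => ?_⟩
          rw [← hP''] at hy ⊢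
          obtain ⟨w, hw, rfl⟩ := hy
          refine ⟨a * w * a⁻¹, conj_in haN hw, ?_⟩
          show g' * (a * w * a⁻¹) * g'⁻¹ = g' * a * g'⁻¹ * (g' * w * g'⁻¹) * (g' * a * g'⁻¹)⁻¹
          group
        obtain ⟨x, hx, hx'⟩ := hfull.exists_conj_le
          ((hT.2.1.to_le (inf_le_left : T ⊓ Subgroup.normalizer (P'' : Set G) ≤ T)).map (MulAut.conj g').toMonoidHom)
          (by rintro _ ⟨a, ha, rfl⟩; exact hgK a ha)
        have hxg : ∀ a ∈ T ⊓ Subgroup.normalizer (P'' : Set G), x * g' * a * (x * g')⁻¹ ∈ T := fun a ha => by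
          rw [show x * g' * a * (x * g')⁻¹ = x * (g' * a * g'⁻¹) * x⁻¹ by group]
          exact (hx' _ ⟨a, ha, rfl⟩).1
        have hNP'' := lt_normalizer hT.2.1 hP''lt
        have c_xg : Ctl 𝒩 P'' (x * g') :=
          (bigger _ (hP''c ▸ hcardlt hNP'') inf_le_left _ (M.mul_mem hx.1 hg'M) hxg).mono hNP''.le
        have hP'T' : P' ≤ T := by rintro _ ⟨a, ha, rfl⟩; exact hhT a (hNP.le ha)
        have hVP' : V ≤ P' := fun v hv => ⟨h⁻¹ * v * h⁻¹⁻¹, hVP (conj_in (hVn (M.inv_mem hhM)) hv),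
          show h * (h⁻¹ * v * h⁻¹⁻¹) * h⁻¹ = v by group⟩
        have hP'c : Nat.card ↥P' = Nat.card ↥P := Subgroup.card_map_of_injective (MulEquiv.injective _)
        -- subgroups of larger normaliser
        have sub : ∀ i : ℕ, ∀ M' : Subgroup G, M' ≤ M → M' ≠ M → V ≤ M' → IsSylowIn p (T ⊓ M') M' →
            Nat.card ↥P < Nat.card ↥(T ⊓ M' : Subgroup G) → Nat.card ↥T < Nat.card ↥(T ⊓ M' : Subgroup G) + i →
            ∀ g ∈ M', ∀ Q : Subgroup G, Q ≤ T ⊓ M' → (∀ a ∈ Q, g * a * g⁻¹ ∈ T ⊓ M') → Ctl 𝒩 Q g := by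
          intro i
          induction i with
          | zero =>
            intro M' _ _ _ _ _ h
            exact absurd h (by have := Subgroup.card_le_of_le (inf_le_left : T ⊓ M' ≤ T); omega)
          | succ i ihi =>
            intro M' hle hne hVM' hT' hPlt hi
            set T₀ := T ⊓ M' with hT₀
            by_cases hTM' : T₀ = T
            · have hTle : T ≤ M' := hTM'.ge.trans inf_le_right
              intro g hg Q hQ hm
              exact hsub M' hTle hle hne g hg Q (hQ.trans inf_le_left) fun a ha => (hm a ha).1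
            refine hprop M' V hle hne hcard ⟨hVM', hle.trans hVn, hVp, fun y hy => hcondV y (hle hy)⟩ T₀ hT'
              fun b hb hbW => ?_
            have hVT₀ : V < T₀ := lt_of_le_of_ne (le_inf hVT hVM') fun e => by
              rw [← e] at hPlt
              have := Subgroup.card_le_of_le hVP
              omega
            have hT₀n : T₀ ≤ Subgroup.normalizer (V : Set G) := inf_le_left.trans hTn
            have hT₀lt : T₀ < T := lt_of_le_of_ne inf_le_left hTM'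
            have key : ∀ (W : ∀ (Q : Type u) [Group Q], Subgroup Q), IsCharPFunctor p W →
                b ∈ Subgroup.normalizer (Wq W V T₀ : Set G) →
                ∀ Q : Subgroup G, Q ≤ T₀ → (∀ a ∈ Q, b * a * b⁻¹ ∈ T₀) → Ctl 𝒩 Q b := by
              intro W hW hbW Q hQ hm
              set U := Wq W V T₀
              have hUT : U ≤ T := (Wq_le V T₀).trans inf_le_left
              have hNU : T ⊓ Subgroup.normalizer (T₀ : Set G) ≤ T ⊓ Subgroup.normalizer (U : Set G) := fun t ht =>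
                ⟨ht.1, Wq_normalizes hW hT'.2.1 hT₀n ht.2 (hTn ht.1)⟩
              have hUlt := lt_of_lt_of_le (lt_normalizer hT.2.1 hT₀lt) hNU
              obtain ⟨u, huM, huT, hUfull⟩ := exists_full hT hUT
              set U₀ := U.map (MulAut.conj u).toMonoidHom
              set M'' := M ⊓ Subgroup.normalizer (U₀ : Set G) with hM''
              have hU₀T : U₀ ≤ T := by
                rintro _ ⟨a, ha, rfl⟩
                exact huT a ⟨hUT ha, Subgroup.le_normalizer ha⟩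
              have hM''ne : M'' ≠ M := by
                intro e
                have h1 : U₀ ≤ V := le_core (hT.2.1.to_le hU₀T) (hU₀T.trans hT.1) (e.ge.trans inf_le_right)
                have h2 := hcardlt (show V < U from Wq_gt hW hT'.2.1 hT₀n hVT₀)
                have h3 := Subgroup.card_le_of_le h1
                rw [show Nat.card ↥U₀ = Nat.card ↥U from Subgroup.card_map_of_injective (MulEquiv.injective _)] at h3
                omega
              have hTM'' : T ⊓ M'' = T ⊓ Subgroup.normalizer (U₀ : Set G) := by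
                rw [hM'', ← inf_assoc, inf_eq_left.mpr hT.1]
              have hconjU : ∀ a ∈ T ⊓ Subgroup.normalizer (U : Set G), u * a * u⁻¹ ∈ T ⊓ M'' := fun a ha => by
                rw [hTM'']
                refine ⟨huT a ha, normalizer_of_maps ?_⟩
                rintro _ ⟨w, hw, rfl⟩
                refine ⟨a * w * a⁻¹, conj_in ha.2 hw, ?_⟩
                show u * (a * w * a⁻¹) * u⁻¹ = u * a * u⁻¹ * (u * w * u⁻¹) * (u * a * u⁻¹)⁻¹
                group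
              have hcardM'' : Nat.card ↥T₀ < Nat.card ↥(T ⊓ M'' : Subgroup G) := by
                refine lt_of_lt_of_le (hcardlt hUlt) ?_
                refine le_trans (le_of_eq (Subgroup.card_map_of_injective (f := (MulAut.conj u).toMonoidHom)
                  (MulEquiv.injective _)).symm) (Subgroup.card_le_of_le ?_)
                rintro _ ⟨a, ha, rfl⟩
                exact hconjU a ha
              have hVM'' : V ≤ M'' := fun v hv => ⟨hVM hv, Subgroup.le_normalizer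
                ⟨u⁻¹ * v * u⁻¹⁻¹, V_le_Wq hVT₀.le (conj_in (hVn (M.inv_mem huM)) hv),
                  show u * (u⁻¹ * v * u⁻¹⁻¹) * u⁻¹ = v by group⟩⟩
              set Du := T ⊓ Subgroup.normalizer (U : Set G) with hDu
              have c_u : Ctl 𝒩 Du u := bigger _ (lt_trans hPlt (hcardlt hUlt)) inf_le_left u huM huT
              have hb' : u * b * u⁻¹ ∈ M'' := ⟨M.mul_mem (M.mul_mem huM (hle hb)) (M.inv_mem huM), normalizer_of_maps (by
                rintro _ ⟨w, hw, rfl⟩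
                refine ⟨b * w * b⁻¹, conj_in hbW hw, ?_⟩
                show u * (b * w * b⁻¹) * u⁻¹ = u * b * u⁻¹ * (u * w * u⁻¹) * (u * b * u⁻¹)⁻¹
                group)⟩
              have hT₀Du : T₀ ≤ Du := hUlt.le
              have hTs : IsSylowIn p (T ⊓ M'') M'' := by rw [hTM'']; exact hUfull
              set Qu := Q.map (MulAut.conj u).toMonoidHom
              have c_b := ihi M'' inf_le_left hM''ne hVM'' hTs (lt_trans hPlt hcardM'') (by omega) _ hb' Qu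
                (by rintro _ ⟨a, ha, rfl⟩; exact hconjU a (hT₀Du (hQ ha))) (by
                  rintro _ ⟨a, ha, rfl⟩
                  show u * b * u⁻¹ * (u * a * u⁻¹) * (u * b * u⁻¹)⁻¹ ∈ T ⊓ M''
                  rw [show u * b * u⁻¹ * (u * a * u⁻¹) * (u * b * u⁻¹)⁻¹ = u * (b * a * b⁻¹) * u⁻¹ by group]
                  exact hconjU _ (hT₀Du (hm a ha)))
              have c1 := (c_u.mono (hQ.trans hT₀Du)).comp (fun a ha => (⟨a, ha, rfl⟩ : u * a * u⁻¹ ∈ Qu)) c_b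
              have c2 := c1.comp (R := Du.map (MulAut.conj u).toMonoidHom) (h := u⁻¹) (fun a ha => ⟨b * a * b⁻¹, hT₀Du (hm a ha), by
                  show u * (b * a * b⁻¹) * u⁻¹ = u * b * u⁻¹ * u * a * (u * b * u⁻¹ * u)⁻¹
                  group⟩) (c_u.inv (by
                  rintro _ ⟨a, ha, rfl⟩
                  show u⁻¹ * (u * a * u⁻¹) * u ∈ Du
                  rw [show u⁻¹ * (u * a * u⁻¹) * u = a by group]; exact ha))
              refine c2.congr fun a _ => ?_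
              group
            rcases hbW with hbW | hbW
            exacts [key W₁ hW₁ hbW, key W₂ hW₂ hbW]
        -- the automorphism of `P'`
        have hKne : K ≠ M := by
          intro e
          have h1 : P' ≤ V := le_core (hT.2.1.to_le hP'T') (hP'T'.trans hT.1) (e.ge.trans inf_le_right)
          have := hcardlt hVltP
          have := Subgroup.card_le_of_le h1
          omega
        have hP'lt : P' < T := lt_of_le_of_ne hP'T' fun e => hP'T.ne
          (Subgroup.eq_of_le_of_card_ge hPT (by rw [← hP'c, e]))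
        have hT'P' : P' < T' := lt_normalizer hT.2.1 hP'lt
        have auto : ∀ y ∈ K, Ctl 𝒩 P' y := by
          intro y hy
          have hyP : ∀ a ∈ P', y * a * y⁻¹ ∈ T := fun a ha => hP'T' (conj_in hy.2 ha)
          by_cases hcP : T' ⊓ Subgroup.centralizer (P' : Set G) ≤ P'
          · obtain ⟨ρ, hρ, b₁, hb₁, b₂, hb₂, e⟩ := (factor hW₁ hW₂ hfac hfull (inf_le_left.trans hVn) inf_le_right hVP'
              hT'P'.le hcP (fun z hz => hcondV z hz.1)).1 y hy
            have hVT' : V < T' := lt_of_le_of_lt hVP' hT'P'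
            have hT'n : T' ≤ Subgroup.normalizer (V : Set G) := inf_le_left.trans hTn
            have bstep : ∀ (W : ∀ (Q : Type u) [Group Q], Subgroup Q), IsCharPFunctor p W →
                ∀ b ∈ K ⊓ Subgroup.normalizer (Wq W V T' : Set G), Ctl 𝒩 P' b := by
              intro W hW b hb
              set U := Wq W V T'
              have hUT : U ≤ T := (Wq_le V T').trans inf_le_left
              obtain ⟨u, huM, huT, hUfull⟩ := exists_full hT hUT
              set U₀ := U.map (MulAut.conj u).toMonoidHom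
              set M'' := M ⊓ Subgroup.normalizer (U₀ : Set G) with hM''
              have hU₀T : U₀ ≤ T := by
                rintro _ ⟨a, ha, rfl⟩
                exact huT a ⟨hUT ha, Subgroup.le_normalizer ha⟩
              have hM''ne : M'' ≠ M := by
                intro e
                have h1 : U₀ ≤ V := le_core (hT.2.1.to_le hU₀T) (hU₀T.trans hT.1) (e.ge.trans inf_le_right)
                have h2 := hcardlt (show V < U from Wq_gt hW hfull.2.1 hT'n hVT')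
                have h3 := Subgroup.card_le_of_le h1
                rw [show Nat.card ↥U₀ = Nat.card ↥U from Subgroup.card_map_of_injective (MulEquiv.injective _)] at h3
                omega
              have hTM'' : T ⊓ M'' = T ⊓ Subgroup.normalizer (U₀ : Set G) := by
                rw [hM'', ← inf_assoc, inf_eq_left.mpr hT.1]
              set Du := T ⊓ Subgroup.normalizer (U : Set G) with hDu
              have hconjU : ∀ a ∈ Du, u * a * u⁻¹ ∈ T ⊓ M'' := fun a ha => by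
                rw [hTM'']
                refine ⟨huT a ha, normalizer_of_maps ?_⟩
                rintro _ ⟨w, hw, rfl⟩
                refine ⟨a * w * a⁻¹, conj_in ha.2 hw, ?_⟩
                show u * (a * w * a⁻¹) * u⁻¹ = u * a * u⁻¹ * (u * w * u⁻¹) * (u * a * u⁻¹)⁻¹
                group
              have hT'Du : T' ≤ Du := fun t ht =>
                ⟨ht.1, Wq_normalizes hW hfull.2.1 hT'n (Subgroup.le_normalizer ht) (hTn ht.1)⟩
              have hPDu : Nat.card ↥P < Nat.card ↥Du := hP'c ▸ lt_of_lt_of_le (hcardlt hT'P') (Subgroup.card_le_of_le hT'Du)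
              have c_u : Ctl 𝒩 Du u := bigger _ hPDu inf_le_left u huM huT
              have hcardM'' : Nat.card ↥Du ≤ Nat.card ↥(T ⊓ M'' : Subgroup G) := by
                refine le_trans (le_of_eq (Subgroup.card_map_of_injective (f := (MulAut.conj u).toMonoidHom)
                  (MulEquiv.injective _)).symm) (Subgroup.card_le_of_le ?_)
                rintro _ ⟨a, ha, rfl⟩
                exact hconjU a ha
              have hVM'' : V ≤ M'' := fun v hv => ⟨hVM hv, Subgroup.le_normalizer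
                ⟨u⁻¹ * v * u⁻¹⁻¹, V_le_Wq hVT'.le (conj_in (hVn (M.inv_mem huM)) hv),
                  show u * (u⁻¹ * v * u⁻¹⁻¹) * u⁻¹ = v by group⟩⟩
              have hb' : u * b * u⁻¹ ∈ M'' := ⟨M.mul_mem (M.mul_mem huM hb.1.1) (M.inv_mem huM), normalizer_of_maps (by
                rintro _ ⟨w, hw, rfl⟩
                refine ⟨b * w * b⁻¹, conj_in hb.2 hw, ?_⟩
                show u * (b * w * b⁻¹) * u⁻¹ = u * b * u⁻¹ * (u * w * u⁻¹) * (u * b * u⁻¹)⁻¹
                group)⟩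
              have hTs : IsSylowIn p (T ⊓ M'') M'' := by rw [hTM'']; exact hUfull
              have hP'Du : P' ≤ Du := hT'P'.le.trans hT'Du
              set Qu := P'.map (MulAut.conj u).toMonoidHom
              have c_b := sub (Nat.card ↥T + 1) M'' inf_le_left hM''ne hVM'' hTs
                (lt_of_lt_of_le hPDu hcardM'') (by omega) _ hb' Qu
                (by rintro _ ⟨a, ha, rfl⟩; exact hconjU a (hP'Du ha)) (by
                  rintro _ ⟨a, ha, rfl⟩
                  show u * b * u⁻¹ * (u * a * u⁻¹) * (u * b * u⁻¹)⁻¹ ∈ T ⊓ M''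
                  rw [show u * b * u⁻¹ * (u * a * u⁻¹) * (u * b * u⁻¹)⁻¹ = u * (b * a * b⁻¹) * u⁻¹ by group]
                  exact hconjU _ (hP'Du (conj_in hb.1.2 ha)))
              have c1 := (c_u.mono hP'Du).comp (fun a ha => (⟨a, ha, rfl⟩ : u * a * u⁻¹ ∈ Qu)) c_b
              have c2 := c1.comp (R := Du.map (MulAut.conj u).toMonoidHom) (h := u⁻¹) (fun a ha => ⟨b * a * b⁻¹, hP'Du (conj_in hb.1.2 ha), by
                  show u * (b * a * b⁻¹) * u⁻¹ = u * b * u⁻¹ * u * a * (u * b * u⁻¹ * u)⁻¹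
                  group⟩) (c_u.inv (by
                  rintro _ ⟨a, ha, rfl⟩
                  show u⁻¹ * (u * a * u⁻¹) * u ∈ Du
                  rw [show u⁻¹ * (u * a * u⁻¹) * u = a by group]; exact ha))
              refine c2.congr fun a _ => ?_
              group
            subst e
            have h2 : ∀ a ∈ P', b₂ * a * b₂⁻¹ ∈ P' := fun a ha => conj_in hb₂.1.2 ha
            refine ((bstep W₂ hW₂ b₂ hb₂).comp h2 (bstep W₁ hW₁ b₁ hb₁)).congr fun a ha => ?_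
            have h3 : b₁ * b₂ * a * (b₁ * b₂)⁻¹ ∈ P' := conj_in (Subgroup.mul_mem _ hb₁.1.2 hb₂.1.2) ha
            have h4 := cop_fixes (hT.2.1.to_le hP'T') (le_inf (hP'T'.trans hT.1) Subgroup.le_normalizer) inf_le_right hρ h3
            rw [show ρ * b₁ * b₂ * a * (ρ * b₁ * b₂)⁻¹ = ρ * (b₁ * b₂ * a * (b₁ * b₂)⁻¹) * ρ⁻¹ by group, h4,
              mul_inv_cancel_right]
          · set CP := K ⊓ Subgroup.centralizer (P' : Set G) with hCP
            have hCPn : K ≤ Subgroup.normalizer (CP : Set G) := fun x hx => normalizer_of_maps fun c hc => by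
              refine ⟨K.mul_mem (K.mul_mem hx hc.1) (K.inv_mem hx), Subgroup.mem_centralizer_iff.mpr fun a ha => ?_⟩
              have h2 := Subgroup.mem_centralizer_iff.mp hc.2 _ (conj_in (Subgroup.inv_mem _ hx.2) ha)
              calc a * (x * c * x⁻¹) = x * (x⁻¹ * a * x⁻¹⁻¹ * c) * x⁻¹ := by group
                _ = x * (c * (x⁻¹ * a * x⁻¹⁻¹)) * x⁻¹ := by rw [h2]
                _ = x * c * x⁻¹ * a := by group
            obtain ⟨c, hc, w, hw, e⟩ := frattini (hfull.inf_of_normal inf_le_left hCPn) (hCPn hy)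
            have hwK : w ∈ K := by
              rw [show w = c⁻¹ * y by rw [e]; group]
              exact K.mul_mem (K.inv_mem hc.1) hy
            set Q' := P' ⊔ (T' ⊓ CP) with hQ'
            have hQ'T : Q' ≤ T := sup_le hP'T' (inf_le_left.trans inf_le_left)
            have hQ'lt : P' < Q' := lt_of_le_of_ne le_sup_left fun e => hcP fun a ha =>
              e.ge (Subgroup.mem_sup_right ⟨ha.1, ⟨⟨hT.1 ha.1.1, ha.1.2⟩, ha.2⟩⟩)
            have c_w : Ctl 𝒩 P' w := (bigger Q' (hP'c ▸ hcardlt hQ'lt) hQ'T w hwK.1 fun a ha =>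
              hQ'T (conj_in (normalizes_sup hwK.2 hw) ha)).mono hQ'lt.le
            refine c_w.congr fun a ha => ?_
            rw [e, show c * w * a * (c * w)⁻¹ = c * (w * a * w⁻¹) * c⁻¹ by group,
              ← Subgroup.mem_centralizer_iff.mp hc.2 _ (conj_in hwK.2 ha), mul_inv_cancel_right]
        -- `g = (x g')⁻¹ ∘ x ∘ h`
        have c1 := c_h.comp (fun a ha => (⟨a, ha, rfl⟩ : h * a * h⁻¹ ∈ P')) (auto x hx)
        have c3 := c1.comp (R := P''.map (MulAut.conj (x * g')).toMonoidHom) (h := (x * g')⁻¹) (fun a ha => by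
          refine ⟨g * a * g⁻¹, ⟨a, ha, rfl⟩, ?_⟩
          show x * g' * (g * a * g⁻¹) * (x * g')⁻¹ = x * h * a * (x * h)⁻¹
          rw [hg'def]; group) (c_xg.inv (by
          rintro _ ⟨a, ha, rfl⟩
          show (x * g')⁻¹ * (x * g' * a * (x * g')⁻¹) * (x * g') ∈ P''
          rw [show (x * g')⁻¹ * (x * g' * a * (x * g')⁻¹) * (x * g') = a by group]; exact ha))
        refine c3.congr fun a _ => ?_
        rw [hg'def]; group

/-- A group containing `S` with `Z` in its `p`-core factorises. -/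
theorem big_factor (hW₁ : IsCharPFunctor p W₁) (hW₂ : IsCharPFunctor p W₂) (hfac : Factors p W₁ W₂ G)
    {S Z M : Subgroup G} (hS : IsSylowIn p S M) (hZ : Z ≤ core p M) (hZS : Z ≤ Subgroup.centralizer (S : Set G))
    (hZe : ∀ z ∈ Z, z ^ p = 1) {x : G} (hx : x ∈ M) :
    ∃ c ∈ M ⊓ Subgroup.centralizer (Z : Set G), ∃ b ∈ M ⊓ Subgroup.normalizer (Wq W₂ ⊥ S : Set G), x = c * b := by
  set V := core p M
  have hVn : M ≤ Subgroup.normalizer (V : Set G) := core_normal M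
  set C := M ⊓ Subgroup.centralizer (V : Set G)
  have hCn : M ≤ Subgroup.normalizer (C : Set G) := fun x hx => normalizer_of_maps fun c hc => by
    refine ⟨M.mul_mem (M.mul_mem hx hc.1) (M.inv_mem hx), Subgroup.mem_centralizer_iff.mpr fun a ha => ?_⟩
    have h2 := Subgroup.mem_centralizer_iff.mp hc.2 _ (conj_in (Subgroup.inv_mem _ (hVn hx)) ha)
    calc a * (x * c * x⁻¹) = x * (x⁻¹ * a * x⁻¹⁻¹ * c) * x⁻¹ := by group
      _ = x * (c * (x⁻¹ * a * x⁻¹⁻¹)) * x⁻¹ := by rw [h2]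
      _ = x * c * x⁻¹ * a := by group
  obtain ⟨m, hm, y, hy, e⟩ := frattini (hS.inf_of_normal inf_le_left hCn) (hCn hx)
  have hyM : y ∈ M := by
    rw [show y = m⁻¹ * x by rw [e]; group]
    exact M.mul_mem (M.inv_mem hm.1) hx
  set Q := V ⊔ (S ⊓ C)
  set L := M ⊓ Subgroup.normalizer (Q : Set G)
  have hVS : V ≤ S := core_le_sylow hS
  have hSL : S ≤ L := le_inf hS.1 fun t ht => normalizes_sup (hVn (hS.1 ht)) (normalizer_of_maps fun a ha =>
    ⟨S.mul_mem (S.mul_mem ht ha.1) (S.inv_mem ht), conj_in (hCn (hS.1 ht)) ha.2⟩)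
  have hQS : Q ≤ S := sup_le hVS inf_le_left
  have hcen : S ⊓ Subgroup.centralizer (Q : Set G) ≤ Q := fun a ha =>
    Subgroup.mem_sup_right ⟨ha.1, hS.1 ha.1, Subgroup.centralizer_le (le_sup_left : V ≤ Q) ha.2⟩
  obtain ⟨c, hc, b, hb, e'⟩ := (factor hW₁ hW₂ hfac (sylow_sub hS hSL inf_le_left)
    (V := ⊥) (fun a _ => normalizer_of_maps fun y hy => by rw [Subgroup.mem_bot.mp hy]; simp) inf_le_right bot_le hQS hcen
    (fun y _ _ v hv => by rw [Subgroup.mem_bot.mp hv]; simp)).2 rfl Z (hZ.trans le_sup_left) hZS hZe y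
    ⟨hyM, normalizes_sup (hVn hyM) hy⟩
  refine ⟨m * c, ⟨M.mul_mem hm.1 hc.1.1, Subgroup.mul_mem _ (Subgroup.centralizer_le hZ hm.2) hc.2⟩, b,
    ⟨hb.1.1, hb.2⟩, ?_⟩
  rw [e, e', mul_assoc]

/-- Let p be a prime, G a finite group with Sylow p-subgroup S, and W₁, W₂ two isomorphism-invariant p-group functors (W assigns to every group Q a subgroup W(Q), nontrivial whenever Q is a nontrivial finite p-group, and every isomorphism from a finite p-group Q onto a group R carries W(Q) onto W(R)). Suppose that G* = C_{G*}(Ω₁Z(S*)) N_{G*}(W₁(S*)) = C_{G*}(Ω₁Z(S*)) N_{G*}(W₂(S*)) = N_{G*}(W₁(S*)) N_{G*}(W₂(S*)) whenever G* = K/R is a section of G with C_{G*}(O_p(G*)) ≤ O_p(G*) and S* is a Sylow p-subgroup of G*, where Ω₁Z denotes the subgroup generated by the elements of order dividing p in the centre. Suppose also Ω₁Z(S) ≤ W₁(S) ∩ W₂(S), and let A be the normal closure of Ω₁Z(S) in N_G(W₁(S)). Then A is an elementary abelian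 subgroup of S, strongly closed in S with respect to G, and A controls strong fusion in G. -/
theorem result {G : Type u} [Group G] [Finite G] {p : ℕ} [Fact p.Prime] (S : Sylow p G) (W₁ W₂ : ∀ (Q : Type u) [Group Q], Subgroup Q) (hW₁ : Cfsg.IsCharPFunctor.{u} p W₁) (hW₂ : Cfsg.IsCharPFunctor.{u} p W₂) (hfac : ∀ (K R : Subgroup G) [hR : (R.subgroupOf K).Normal], Subgroup.centralizer ((Cfsg.pCore p (↥K ⧸ R.subgroupOf K) : Subgroup (↥K ⧸ R.subgroupOf K)) : Set (↥K ⧸ R.subgroupOf K)) ≤ Cfsg.pCore p (↥K ⧸ R.subgroupOf K) → ∀ T : Sylow p (↥K ⧸ R.subgroupOf K), (∀ x : (↥K ⧸ R.subgroupOf K), ∃ a ∈ Subgroup.centralizer ((Cfsg.omegaOne p ((T : Subgroup (↥K ⧸ R.subgroupOf K)) ⊓ Subgroup.centralizer (((T : Subgroup (↥K ⧸ R.subgroupOf K)) : Subgroup (↥K ⧸ R.subgroupOf K)) : Set (↥K ⧸ R.subgroupOf K))) : Subgroup (↥K ⧸ R.subgroupOf K)) : Set (↥K ⧸ R.subgroupOf K)), ∃ b ∈ Subgroup.normalizer ((Cfsg.inducedFunctor (G := (↥K ⧸ R.subgroupOf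 K)) W₁ (T : Subgroup (↥K ⧸ R.subgroupOf K)) : Subgroup (↥K ⧸ R.subgroupOf K)) : Set (↥K ⧸ R.subgroupOf K)), x = a * b) ∧ (∀ x : (↥K ⧸ R.subgroupOf K), ∃ a ∈ Subgroup.centralizer ((Cfsg.omegaOne p ((T : Subgroup (↥K ⧸ R.subgroupOf K)) ⊓ Subgroup.centralizer (((T : Subgroup (↥K ⧸ R.subgroupOf K)) : Subgroup (↥K ⧸ R.subgroupOf K)) : Set (↥K ⧸ R.subgroupOf K))) : Subgroup (↥K ⧸ R.subgroupOf K)) : Set (↥K ⧸ R.subgroupOf K)), ∃ b ∈ Subgroup.normalizer ((Cfsg.inducedFunctor (G := (↥K ⧸ R.subgroupOf K)) W₂ (T : Subgroup (↥K ⧸ R.subgroupOf K)) : Subgroup (↥K ⧸ R.subgroupOf K)) : Set (↥K ⧸ R.subgroupOf K)), x = a * b) ∧ (∀ x : (↥K ⧸ R.subgroupOf K), ∃ a ∈ Subgroup.normalizer ((Cfsg.inducedFunctor (G := (↥K ⧸ R.subgroupOf K)) W₁ (T : Subgroup (↥K ⧸ R.subgroupOf K)) : Subgroup (↥K ⧸ R.subgroupOf K)) : Set (↥K ⧸ R.subgroupOf K)), ∃ b ∈ Subgroup.normalizer ((Cfsg.inducedFunctor (G := (↥K ⧸ R.subgroupOf K)) W₂ (T : Subgroup (↥K ⧸ R.subgroupOf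 K)) : Subgroup (↥K ⧸ R.subgroupOf K)) : Set (↥K ⧸ R.subgroupOf K)), x = a * b)) (hZ : Cfsg.omegaOne p ((S : Subgroup G) ⊓ Subgroup.centralizer (((S : Subgroup G) : Subgroup G) : Set G)) ≤ Cfsg.inducedFunctor (G := G) W₁ (S : Subgroup G) ⊓ Cfsg.inducedFunctor (G := G) W₂ (S : Subgroup G)) (N₁ : Subgroup G) (hN₁ : N₁ = Subgroup.normalizer ((Cfsg.inducedFunctor (G := G) W₁ (S : Subgroup G) : Subgroup G) : Set G)) (A : Subgroup G) (hA : A = (Subgroup.normalClosure (((Cfsg.omegaOne p ((S : Subgroup G) ⊓ Subgroup.centralizer (((S : Subgroup G) : Subgroup G) : Set G))).subgroupOf N₁ : Subgroup ↥N₁) : Set ↥N₁)).map N₁.subtype) : A ≤ (S : Subgroup G) ∧ Cfsg.IsElementaryAbelian p A ∧ Cfsg.IsStronglyClosed A (S : Subgroup G) ∧ Cfsg.ControlsStrongFusion p A := by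
  classical
  have hSs : IsSylowIn p (S : Subgroup G) ⊤ := ⟨le_top, S.2, by rw [Subgroup.relIndex_top_right]; exact S.not_dvd_index⟩
  set Z := Cfsg.omegaOne p ((S : Subgroup G) ⊓ Subgroup.centralizer (((S : Subgroup G) : Subgroup G) : Set G)) with hZdef
  have hZle : Z ≤ (S : Subgroup G) ⊓ Subgroup.centralizer ((S : Subgroup G) : Set G) :=
    (Subgroup.closure_le _).mpr fun x hx => hx.1
  have hZc : Z ≤ Subgroup.centralizer ((S : Subgroup G) : Set G) := hZle.trans inf_le_right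
  have hZe : ∀ z ∈ Z, z ^ p = 1 := by
    intro z hz
    have h : z ∈ Z ∧ z ^ p = 1 := by
      induction hz using Subgroup.closure_induction with
      | mem x hx => exact ⟨Subgroup.subset_closure hx, hx.2⟩
      | one => exact ⟨one_mem _, one_pow p⟩
      | mul x y _ _ ihx ihy =>
        refine ⟨mul_mem ihx.1 ihy.1, ?_⟩
        have hcxy : Commute x y := (Subgroup.mem_centralizer_iff.mp (hZc ihy.1) x (hZle ihx.1).1)
        rw [hcxy.mul_pow, ihx.2, ihy.2, one_mul]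
      | inv x _ ih => exact ⟨inv_mem ih.1, by rw [inv_pow, ih.2, inv_one]⟩
    exact h.2
  have hfacW : Factors p W₁ W₂ G := fun K R _ h T => ⟨(hfac K R h T).2.1, (hfac K R h T).2.2⟩
  have hfacW' : Factors p W₂ W₁ G := fun K R _ h T => by
    obtain ⟨h1, -, h3⟩ := hfac K R h T
    refine ⟨h1, fun x => ?_⟩
    obtain ⟨a, ha, b, hb, e⟩ := h3 x⁻¹
    exact ⟨b⁻¹, inv_mem hb, a⁻¹, inv_mem ha, by rw [← mul_inv_rev, ← e, inv_inv]⟩
  set U₁ := Cfsg.inducedFunctor (G := G) W₁ (S : Subgroup G) with hU₁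
  set U₂ := Cfsg.inducedFunctor (G := G) W₂ (S : Subgroup G) with hU₂
  have hU₁S : U₁ ≤ (S : Subgroup G) := Subgroup.map_subtype_le _
  have hU₂S : U₂ ≤ (S : Subgroup G) := Subgroup.map_subtype_le _
  subst hN₁
  have hbn : ((S : Subgroup G)) ≤ Subgroup.normalizer ((⊥ : Subgroup G) : Set G) :=
    fun _ _ => normalizer_of_maps fun y hy => by rw [Subgroup.mem_bot.mp hy]; simp
  have hn₁ : ∀ s ∈ (S : Subgroup G), s ∈ Subgroup.normalizer (U₁ : Set G) := fun s hs => by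
    rw [hU₁, ← Wq_bot hW₁ S.2]
    exact Wq_normalizes hW₁ S.2 hbn (Subgroup.le_normalizer hs) (hbn hs)
  have hn₂ : ∀ s ∈ (S : Subgroup G), s ∈ Subgroup.normalizer (U₂ : Set G) := fun s hs => by
    rw [hU₂, ← Wq_bot hW₂ S.2]
    exact Wq_normalizes hW₂ S.2 hbn (Subgroup.le_normalizer hs) (hbn hs)
  -- the two normalisers give the same closure
  have split : ∀ (U U' : Subgroup G), U ≤ (S : Subgroup G) → (∀ s ∈ (S : Subgroup G), s ∈ Subgroup.normalizer (U : Set G)) →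
      Z ≤ U → (∀ x ∈ Subgroup.normalizer (U : Set G), ∃ c ∈ Subgroup.normalizer (U : Set G) ⊓ Subgroup.centralizer (Z : Set G),
        ∃ b ∈ Subgroup.normalizer (U : Set G) ⊓ Subgroup.normalizer (U' : Set G), x = c * b) →
      ∀ x ∈ Subgroup.normalizer (U : Set G), ∃ m ∈ Subgroup.normalizer (U : Set G) ⊓ Subgroup.normalizer (U' : Set G),
        ∀ z ∈ Z, x * z * x⁻¹ = m * z * m⁻¹ := by
    intro U U' hUS hn hZU hf x hx
    obtain ⟨c, hc, b, hb, e⟩ := hf x⁻¹ (inv_mem hx)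
    refine ⟨b⁻¹, inv_mem hb, fun z hz => ?_⟩
    have hxe : x = b⁻¹ * c⁻¹ := by rw [← mul_inv_rev, ← e, inv_inv]
    have hcz : c⁻¹ * z * c⁻¹⁻¹ = z := by
      rw [← Subgroup.mem_centralizer_iff.mp (inv_mem hc.2) z hz, mul_inv_cancel_right]
    calc x * z * x⁻¹ = b⁻¹ * (c⁻¹ * z * c⁻¹⁻¹) * b⁻¹⁻¹ := by rw [hxe]; group
      _ = b⁻¹ * z * b⁻¹⁻¹ := by rw [hcz]
  have hf₁ : ∀ x ∈ Subgroup.normalizer (U₁ : Set G), ∃ c ∈ Subgroup.normalizer (U₁ : Set G) ⊓ Subgroup.centralizer (Z : Set G),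
      ∃ b ∈ Subgroup.normalizer (U₁ : Set G) ⊓ Subgroup.normalizer (U₂ : Set G), x = c * b := fun x hx => by
    have := big_factor hW₁ hW₂ hfacW (sylow_sub hSs hn₁ le_top)
      ((hZ.trans inf_le_left).trans (le_core (S.2.to_le hU₁S) Subgroup.le_normalizer le_rfl)) hZc hZe hx
    rwa [Wq_bot hW₂ S.2] at this
  have hf₂ : ∀ x ∈ Subgroup.normalizer (U₂ : Set G), ∃ c ∈ Subgroup.normalizer (U₂ : Set G) ⊓ Subgroup.centralizer (Z : Set G),
      ∃ b ∈ Subgroup.normalizer (U₂ : Set G) ⊓ Subgroup.normalizer (U₁ : Set G), x = c * b := fun x hx => by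
    have := big_factor hW₂ hW₁ hfacW' (sylow_sub hSs hn₂ le_top)
      ((hZ.trans inf_le_right).trans (le_core (S.2.to_le hU₂S) Subgroup.le_normalizer le_rfl)) hZc hZe hx
    rwa [Wq_bot hW₁ S.2] at this
  have s₁ := split U₁ U₂ hU₁S hn₁ (hZ.trans inf_le_left) hf₁
  have s₂ := split U₂ U₁ hU₂S hn₂ (hZ.trans inf_le_right) hf₂
  have hZin : Z ≤ Subgroup.normalizer (U₁ : Set G) := fun z hz => hn₁ z (hZle hz).1
  -- membership of the generators
  have hgenA : ∀ n ∈ Subgroup.normalizer (U₁ : Set G), ∀ z ∈ Z, n * z * n⁻¹ ∈ A := fun n hn z hz => by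
    rw [hA]
    refine ⟨⟨n, hn⟩ * ⟨z, hZin hz⟩ * ⟨n, hn⟩⁻¹, ?_, rfl⟩
    exact (Subgroup.normalClosure_normal).conj_mem _ (Subgroup.subset_normalClosure (show (⟨z, hZin hz⟩ : ↥(Subgroup.normalizer (U₁ : Set G))) ∈ Z.subgroupOf _ from hz)) _
  have hAclo : A = Subgroup.closure {a | ∃ n ∈ Subgroup.normalizer (U₁ : Set G), ∃ z ∈ Z, a = n * z * n⁻¹} := by
    refine le_antisymm ?_ ((Subgroup.closure_le _).mpr ?_)
    · rw [hA, Subgroup.normalClosure, MonoidHom.map_closure]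
      refine Subgroup.closure_mono ?_
      rintro _ ⟨w, hw, rfl⟩
      obtain ⟨a, ha, hc⟩ := Group.mem_conjugatesOfSet_iff.mp hw
      obtain ⟨n, rfl⟩ := isConj_iff.mp hc
      exact ⟨(n : G), n.2, (a : G), ha, rfl⟩
    · rintro _ ⟨n, hn, z, hz, rfl⟩
      exact hgenA n hn z hz
  have hgU : ∀ n ∈ Subgroup.normalizer (U₁ : Set G), ∀ z ∈ Z, n * z * n⁻¹ ∈ U₁ := fun n hn z hz =>
    conj_in hn ((hZ hz).1)
  have hAU : A ≤ U₁ := by
    rw [hAclo, Subgroup.closure_le]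
    rintro _ ⟨n, hn, z, hz, rfl⟩
    exact hgU n hn z hz
  have hAS : A ≤ (S : Subgroup G) := hAU.trans hU₁S
  have hcomm : ∀ a ∈ {a | ∃ n ∈ Subgroup.normalizer (U₁ : Set G), ∃ z ∈ Z, a = n * z * n⁻¹},
      ∀ b ∈ {a | ∃ n ∈ Subgroup.normalizer (U₁ : Set G), ∃ z ∈ Z, a = n * z * n⁻¹}, a * b = b * a := by
    rintro _ ⟨n, hn, z, hz, rfl⟩ _ ⟨m, hm, w, hw, rfl⟩
    have h1 : (n⁻¹ * m) * w * (n⁻¹ * m)⁻¹ ∈ (S : Subgroup G) := hU₁S (hgU _ (mul_mem (inv_mem hn) hm) w hw)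
    have h2 := Subgroup.mem_centralizer_iff.mp (hZc hz) _ h1
    calc n * z * n⁻¹ * (m * w * m⁻¹) = n * (z * (n⁻¹ * m * w * (n⁻¹ * m)⁻¹)) * n⁻¹ := by group
      _ = n * (n⁻¹ * m * w * (n⁻¹ * m)⁻¹ * z) * n⁻¹ := by rw [h2]
      _ = m * w * m⁻¹ * (n * z * n⁻¹) := by group
  have hAab : IsMulCommutative ↥A := by rw [hAclo]; exact Subgroup.isMulCommutative_closure hcomm
  have hAe : ∀ a ∈ A, a ^ p = 1 := by
    intro a ha
    have h : a ∈ A ∧ a ^ p = 1 := by
      refine ⟨ha, ?_⟩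
      rw [hAclo] at ha
      have : a ∈ A ∧ a ^ p = 1 := by
        induction ha using Subgroup.closure_induction with
        | mem x hx =>
          obtain ⟨n, hn, z, hz, rfl⟩ := hx
          exact ⟨hgenA n hn z hz, by rw [conj_pow, hZe z hz, mul_one, mul_inv_cancel]⟩
        | one => exact ⟨one_mem _, one_pow p⟩
        | mul x y _ _ ihx ihy =>
          refine ⟨mul_mem ihx.1 ihy.1, ?_⟩
          have hc : Commute x y := congrArg Subtype.val (hAab.is_comm.comm (⟨x, ihx.1⟩ : ↥A) ⟨y, ihy.1⟩)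
          rw [hc.mul_pow, ihx.2, ihy.2, one_mul]
        | inv x _ ih => exact ⟨inv_mem ih.1, by rw [inv_pow, ih.2, inv_one]⟩
      exact this.2
    exact h.2
  have hinv : ∀ g : G, (g ∈ Subgroup.normalizer (U₁ : Set G) ∨ g ∈ Subgroup.normalizer (U₂ : Set G)) →
      g ∈ Subgroup.normalizer (A : Set G) := by
    intro g hg
    refine normalizer_of_maps fun a ha => ?_
    have h : A.map (MulAut.conj g).toMonoidHom ≤ A := by
      conv_lhs => rw [hAclo, MonoidHom.map_closure]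
      refine (Subgroup.closure_le _).mpr ?_
      rintro _ ⟨_, ⟨n, hn, z, hz, rfl⟩, rfl⟩
      show g * (n * z * n⁻¹) * g⁻¹ ∈ A
      rcases hg with hg | hg
      · rw [show g * (n * z * n⁻¹) * g⁻¹ = (g * n) * z * (g * n)⁻¹ by group]
        exact hgenA _ (mul_mem hg hn) z hz
      · obtain ⟨m, hm, hme⟩ := s₁ n hn
        rw [hme z hz, show g * (m * z * m⁻¹) * g⁻¹ = (g * m) * z * (g * m)⁻¹ by group]
        obtain ⟨m', hm', hme'⟩ := s₂ (g * m) (mul_mem hg hm.2)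
        rw [hme' z hz]
        exact hgenA _ hm'.2 z hz
    exact h ⟨a, ha, rfl⟩
  have hθ := theta hW₁ hW₂ hfacW (Subgroup.normalizer (A : Set G)) (Nat.card ↥(⊤ : Subgroup G)) ⊤ ⊥ le_rfl
    ⟨bot_le, fun _ _ => normalizer_of_maps fun y hy => by rw [Subgroup.mem_bot.mp hy]; simp, IsPGroup.of_bot,
      fun y _ _ v hv => by rw [Subgroup.mem_bot.mp hv]; simp⟩ (S : Subgroup G) hSs (fun b _ hb Q _ _ => by
      rw [Wq_bot hW₁ S.2, Wq_bot hW₂ S.2] at hb
      exact ⟨b, hinv b hb, fun _ _ => rfl⟩)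
  refine ⟨hAS, ⟨hAab, hAe⟩, ⟨hAS, fun a ha g hg => ?_⟩, S, hAS, fun B hB => ⟨hB, fun g hg => ?_⟩⟩
  · obtain ⟨x, hx, hxe⟩ := hθ g (Subgroup.mem_top g) (Subgroup.zpowers a) (Subgroup.zpowers_le.mpr (hAS ha)) (by
      rintro _ ⟨i, rfl⟩
      show g * a ^ i * g⁻¹ ∈ (S : Subgroup G)
      rw [← conj_zpow]
      exact zpow_mem hg i)
    rw [← hxe a (Subgroup.mem_zpowers a)]
    exact conj_in hx ha
  · obtain ⟨x, hx, hxe⟩ := hθ g (Subgroup.mem_top g) (Subgroup.closure B) ((Subgroup.closure_le _).mpr hB) (by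
      intro a ha
      have h : (Subgroup.closure B).map (MulAut.conj g).toMonoidHom ≤ (S : Subgroup G) := by
        rw [MonoidHom.map_closure, Subgroup.closure_le]
        exact hg
      exact h ⟨a, ha, rfl⟩)
    exact ⟨x, hx, fun a ha => (hxe a (Subgroup.subset_closure ha)).symm⟩

end Cfsg.Agent.S1997
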