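import Cfsg.Statements.S2821
import Mathlib
import Cfsg.Agent.Lib.PReducedOf

set_option autoImplicit false
set_option linter.unusedVariables false
open Cfsg
open scoped commutatorElement

namespace Cfsg.Agent.S2821

open CfsgLib CfsgLib.PReduced CfsgLib.PReducedOf

/-- Let H be a finite group, p a prime, T a Sylow p-subgroup and L a subgroup of characteristic p containing T; let Y_L be the largest p-reduced normal subgroup of L (the join of the normal elementary abelian p-subgroups V of L with O_p(L/C_L(V)) = 1). Then T₀ := C_T(Y_L) is a Sylow p-subgroup of C_H(Y_L); moreover O_p(L) ≤ T₀ ≤ C_L(Y_L) and Ω₁(Z(T)) ≤ Z_L ≤ Y_L ≤ Ω₁(Z(O_p(L))), where Z_L is generated by the Ω₁(Z(S)) over the Sylow p-subgroups S of L. -/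
theorem result {H : Type*} [Group H] [Finite H] {p : ℕ} [Fact p.Prime] (T : Sylow p H) (L : Subgroup H) (hTL : (T : Subgroup H) ≤ L) (hL : Subgroup.centralizer (Cfsg.pCore p ↥L : Set ↥L) ≤ Cfsg.pCore p ↥L) (T₀ : Subgroup H) (hT₀ : T₀ = (T : Subgroup H) ⊓ Subgroup.centralizer (((Cfsg.largestPReducedOf p L) : Subgroup H) : Set H)) : (∃ P : Sylow p ↥(Subgroup.centralizer (((Cfsg.largestPReducedOf p L) : Subgroup H) : Set H)), (P : Subgroup ↥(Subgroup.centralizer (((Cfsg.largestPReducedOf p L) : Subgroup H) : Set H))) = T₀.subgroupOf (Subgroup.centralizer (((Cfsg.largestPReducedOf p L) : Subgroup H) : Set H))) ∧ (Cfsg.pCoreOf p L) ≤ T₀ ∧ T₀ ≤ L ⊓ Subgroup.centralizer (((Cfsg.largestPReducedOf p L) : Subgroup H) : Set H) ∧ (Cfsg.omegaOne p ((T : Subgroup H) ⊓ Subgroup.centralizer (((T : Subgroup H) : Subgroup H) : Set H))) ≤ Cfsg.sylowCenterClosure p L ∧ Cfsg.sylowCenterClosure p L ≤ (Cfsg.largestPReducedOf p L) ∧ (Cfsg.largestPReducedOf p L) ≤ (Cfsg.omegaOne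 p ((Cfsg.pCoreOf p L) ⊓ Subgroup.centralizer (((Cfsg.pCoreOf p L) : Subgroup H) : Set H))) := by
  set Y := Cfsg.largestPReducedOf p L
  set C := Subgroup.centralizer (Y : Set H) with hC
  have hidx : ¬ p ∣ ((T : Subgroup H) ⊓ C).relIndex C :=
    CfsgLib.StrongFusion.not_dvd_relIndex_inf (C := C) (N := (T : Subgroup H) ⊔ C) le_sup_left T.2
      (fun h => T.not_dvd_index (h.trans (Subgroup.relIndex_dvd_index_of_le le_sup_left))) le_sup_right
      fun y hy c hc => (Subgroup.mem_normalizer_iff.mp ((sup_le (hTL.trans (le_normalizer_centralizer L)) Subgroup.le_normalizer :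
        (T : Subgroup H) ⊔ C ≤ _) hy) c).mp hc
  subst hT₀
  refine ⟨⟨((T.2.to_le inf_le_left).of_equiv (Subgroup.subgroupOfEquivOfLe (inf_le_right : (T : Subgroup H) ⊓ C ≤ C)).symm).toSylow hidx, rfl⟩,
    le_inf (pCoreOf_le_sylow T hTL) (pCoreOf_le_centralizer L), inf_le_inf_right _ hTL, ?_, ?_, ?_⟩
  · refine le_iSup_of_le (T.subtype hTL) ?_
    rw [Sylow.coe_subtype, Subgroup.map_subgroupOf_eq_of_le hTL]
  · rw [closure_eq]
    exact Subgroup.map_mono (iSup_le fun S => omegaZ_le_largest hL S)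
  · intro y hy
    exact mem_omegaZ.mpr ⟨le_pCoreOf L hy, fun r hr => commute_pCoreOf L hy hr, (elem L).2 y hy⟩

end Cfsg.Agent.S2821
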