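import Cfsg.Statements.S2803
import Mathlib
import Cfsg.Agent.Lib.PReduced

set_option autoImplicit false
set_option linter.unusedVariables false
open Cfsg
open scoped commutatorElement

namespace Cfsg.Agent.S2803

open CfsgLib CfsgLib.PReduced

theorem core (L : Type*) [Group L] [Finite L] {p : ℕ} [Fact p.Prime] (hchar : Subgroup.centralizer (Cfsg.pCore p L : Set L) ≤ Cfsg.pCore p L)
    (T : Sylow p L) (Y : Subgroup L) (hYr : Cfsg.IsPReducedNormal p Y) (hYmax : ∀ V, Cfsg.IsPReducedNormal p V → V ≤ Y) :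
    (∀ g : L, ∃ a ∈ Subgroup.normalizer (((T : Subgroup L) ⊓ Subgroup.centralizer (Y : Set L) : Subgroup L) : Set L),
      ∃ c ∈ Subgroup.centralizer (Y : Set L), g = a * c) ∧
    (Cfsg.pCore p ↥(Subgroup.normalizer (((T : Subgroup L) ⊓ Subgroup.centralizer (Y : Set L) : Subgroup L) : Set L))).map
      (Subgroup.normalizer (((T : Subgroup L) ⊓ Subgroup.centralizer (Y : Set L) : Subgroup L) : Set L)).subtype =
      (T : Subgroup L) ⊓ Subgroup.centralizer (Y : Set L) ∧
    Y = Cfsg.omegaOne p (((T : Subgroup L) ⊓ Subgroup.centralizer (Y : Set L)) ⊓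
      Subgroup.centralizer (((T : Subgroup L) ⊓ Subgroup.centralizer (Y : Set L) : Subgroup L) : Set L)) := by
  obtain ⟨hYn, hYe, hY0⟩ := iff_forall.mp hYr
  haveI := hYn
  set C := Subgroup.centralizer (Y : Set L) with hC
  haveI : C.Normal := centralizer_normal Y
  set TL := (T : Subgroup L) ⊓ C with hTL
  set N := Subgroup.normalizer (TL : Set L) with hN
  have hsyl : ((sylowInfNormal T C : Subgroup ↥C)).map C.subtype = TL := by
    rw [coe_sylowInfNormal, Subgroup.subgroupOf_map_subtype]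
  have hmax : ∀ A : Subgroup L, IsPGroup p ↥A → A ≤ C → TL ≤ A → A = TL := by
    intro A hA hAC hle
    have e : A.subgroupOf C = (sylowInfNormal T C : Subgroup ↥C) := (sylowInfNormal T C).is_maximal'
      (hA.of_equiv (Subgroup.subgroupOfEquivOfLe hAC).symm) (by rw [coe_sylowInfNormal]; exact fun x hx => hle ⟨hx, x.2⟩)
    rw [← hsyl, ← e, Subgroup.map_subgroupOf_eq_of_le hAC]
  have htop : N ⊔ C = ⊤ := by
    have h := Sylow.normalizer_sup_eq_top (sylowInfNormal T C)
    rwa [hsyl] at h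
  have hTN : (T : Subgroup L) ≤ N := fun t ht => by
    refine Local.mem_normalizer_of_map_conj_eq (Subgroup.eq_of_le_of_card_ge (Local.map_conj_le fun x hx => ?_)
      (Subgroup.card_map_of_injective (MulEquiv.injective (MulAut.conj t))).ge)
    exact ⟨Subgroup.mul_mem _ (Subgroup.mul_mem _ ht hx.1) (Subgroup.inv_mem _ ht), Subgroup.Normal.conj_mem inferInstance x hx.2 t⟩
  have hinto : ∀ K : Subgroup L, K ≤ N → N ≤ Subgroup.normalizer (K : Set L) →
      (∀ k ∈ K, ∃ n : ℕ, k ^ p ^ n ∈ C) → K ≤ C := by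
    intro K hKN hNK hKp
    haveI : (K ⊔ C).Normal := Subgroup.normalizer_eq_top_iff.mp (top_le_iff.mp (htop ▸ sup_le
      (le_trans (le_inf hNK (by rw [Subgroup.normalizer_eq_top (H := C)]; exact le_top)) (Subgroup.normalizer_inf_normalizer_le_normalizer_sup K C))
      (le_sup_right.trans Subgroup.le_normalizer)))
    refine le_sup_left.trans (hY0 (K ⊔ C) inferInstance fun x hx => ?_)
    obtain ⟨k, hk, c, hc, rfl⟩ := Subgroup.mem_sup_of_normal_right.mp hx
    obtain ⟨n, hn⟩ := hKp k hk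
    refine ⟨n, (QuotientGroup.eq_one_iff _).mp ?_⟩
    rw [QuotientGroup.mk_pow, QuotientGroup.mk_mul, (QuotientGroup.eq_one_iff c).mpr hc, mul_one, ← QuotientGroup.mk_pow]
    exact (QuotientGroup.eq_one_iff _).mpr hn
  refine ⟨fun g => ?_, ?_, ?_⟩
  · obtain ⟨a, ha, c, hc, e⟩ := Subgroup.mem_sup_of_normal_right.mp (htop ▸ Subgroup.mem_top g)
    exact ⟨a, ha, c, hc, e.symm⟩
  · set P := (Cfsg.pCore p ↥N).map N.subtype
    have hle : TL ≤ P := fun x hx => by
      refine ⟨⟨x, Subgroup.le_normalizer hx⟩, ?_, rfl⟩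
      haveI : (TL.subgroupOf N).Normal := Subgroup.normal_in_normalizer
      exact le_pCore (((T.2.to_le inf_le_left : IsPGroup p ↥TL)).of_equiv (Subgroup.subgroupOfEquivOfLe Subgroup.le_normalizer).symm) (show (⟨x, _⟩ : ↥N) ∈ TL.subgroupOf N from hx)
    refine hmax P ((isPGroup_pCore p).map _) ?_ hle
    refine hinto P (Subgroup.map_subtype_le _) (fun n hn => Local.mem_normalizer_of_map_conj_eq (Subgroup.eq_of_le_of_card_ge
      ?_ (Subgroup.card_map_of_injective (MulEquiv.injective (MulAut.conj n))).ge)) fun k hk => ?_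
    · rintro _ ⟨_, ⟨x, hx, rfl⟩, rfl⟩
      exact ⟨_, Subgroup.Normal.conj_mem inferInstance x hx ⟨n, hn⟩, rfl⟩
    · obtain ⟨n, hn⟩ := (isPGroup_pCore p).map N.subtype ⟨k, hk⟩
      exact ⟨n, by rw [show k ^ p ^ n = 1 from congrArg Subtype.val hn]; exact C.one_mem⟩
  · set W := Cfsg.omegaOne p (TL ⊓ Subgroup.centralizer (TL : Set L))
    have hYW : Y ≤ W := fun y hy => mem_omegaZ.mpr ⟨⟨pCore_le_sylow T (le_pCore_of_normal hYn hYe hy),
      Subgroup.mem_centralizer_iff.mpr fun z hz => mem_comm hYe hz hy⟩,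
      fun t ht => (Subgroup.mem_centralizer_iff.mp ht.2 y hy).symm, hYe.2 y hy⟩
    have hWN : W ≤ N := fun w hw => Subgroup.le_normalizer (mem_omegaZ.mp hw).1
    haveI hWn : (W.subgroupOf N).Normal := ⟨fun w hw n => by
      obtain ⟨h1, h2, h3⟩ := mem_omegaZ.mp hw
      refine mem_omegaZ.mpr ⟨(Subgroup.mem_normalizer_iff.mp n.2 _).mp h1, fun t ht => ?_, ?_⟩
      · have ht' : (n : L)⁻¹ * t * n ∈ TL := by
          simpa using (Subgroup.mem_normalizer_iff.mp (N.inv_mem n.2) t).mp ht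
        have e : ((n : L)⁻¹ * t * n) * (w : L) = (w : L) * ((n : L)⁻¹ * t * n) := h2 _ ht'
        show t * ((n : L) * w * (n : L)⁻¹) = (n : L) * w * (n : L)⁻¹ * t
        calc t * ((n : L) * w * (n : L)⁻¹) = n * ((n : L)⁻¹ * t * n * w) * (n : L)⁻¹ := by group
          _ = n * (w * ((n : L)⁻¹ * t * n)) * (n : L)⁻¹ := by rw [e]
          _ = (n : L) * w * (n : L)⁻¹ * t := by group
      · show ((n : L) * w * (n : L)⁻¹) ^ p = 1
        rw [conj_pow, show (w : L) ^ p = 1 from h3, mul_one, mul_inv_cancel]⟩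
    have hWred : Cfsg.IsPReducedNormal p (W.subgroupOf N) := by
      refine iff_forall.mpr ⟨hWn, ⟨⟨⟨fun a b => Subtype.ext (Subtype.ext ?_)⟩⟩, fun v hv => Subtype.ext ?_⟩, fun K hK hKp => ?_⟩
      · exact (mem_omegaZ.mp b.2).2.1 _ (mem_omegaZ.mp a.2).1
      · rw [SubmonoidClass.coe_pow]; exact (mem_omegaZ.mp hv).2.2
      · haveI := hK
        have hcenW : ∀ x : ↥N, x ∈ Subgroup.centralizer ((W.subgroupOf N : Subgroup ↥N) : Set ↥N) → (x : L) ∈ C :=
          fun x hx => Subgroup.mem_centralizer_iff.mpr fun y hy =>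
            congrArg Subtype.val (Subgroup.mem_centralizer_iff.mp hx ⟨y, hWN (hYW hy)⟩ (hYW hy))
        have hKC : K.map N.subtype ≤ C := by
          refine hinto _ (Subgroup.map_subtype_le _) (fun n hn => Local.mem_normalizer_of_map_conj_eq (Subgroup.eq_of_le_of_card_ge
            ?_ (Subgroup.card_map_of_injective (MulEquiv.injective (MulAut.conj n))).ge)) ?_
          · rintro _ ⟨_, ⟨x, hx, rfl⟩, rfl⟩
            exact ⟨_, hK.conj_mem x hx ⟨n, hn⟩, rfl⟩
          · rintro _ ⟨k, hk, rfl⟩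
            exact (hKp k hk).imp fun n hn => by simpa using hcenW _ hn
        haveI := centralizer_normal (W.subgroupOf N)
        obtain ⟨PK⟩ := (inferInstance : Nonempty (Sylow p ↥K))
        refine (le_sylow_sup K _ PK hKp).trans (sup_le ?_ le_rfl)
        intro x hx
        have hxTL : (x : L) ∈ TL := by
          set P := (((PK : Subgroup ↥K).map K.subtype).map N.subtype) ⊔ TL
          have hP : IsPGroup p ↥P := ((PK.2.map _).map _).to_sup_of_normal_right' (T.2.to_le inf_le_left) (Subgroup.map_subtype_le _)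
          have hPC : P ≤ C := sup_le ((Subgroup.map_mono (Subgroup.map_subtype_le _)).trans hKC) inf_le_right
          rw [← hmax P hP hPC le_sup_right]
          exact Subgroup.mem_sup_left ⟨x, hx, rfl⟩
        refine Subgroup.mem_centralizer_iff.mpr fun w hw => Subtype.ext ?_
        exact ((mem_omegaZ.mp hw).2.1 _ hxTL).symm
    have h := normalClosure_reduced hchar T N hTN _ hWred
    rw [Subgroup.map_subgroupOf_eq_of_le hWN] at h
    exact le_antisymm hYW (Subgroup.le_normalClosure.trans (hYmax _ h))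

/-- Let L be a finite group and p a prime with C_L(O_p(L)) ≤ O_p(L), T a Sylow p-subgroup, and Y the largest p-reduced normal subgroup of L. Put T_L = C_T(Y) and L_T = N_L(T_L). Then L = L_T · C_L(Y) (elementwise), T_L = O_p(L_T), and Y = Ω₁(Z(T_L)). -/
theorem result {L : Type*} [Group L] [Finite L] {p : ℕ} [Fact p.Prime] (hchar : Subgroup.centralizer (Cfsg.pCore p L : Set L) ≤ Cfsg.pCore p L) (T : Sylow p L) (Y : Subgroup L) (hY : (Cfsg.IsPReducedNormal p Y ∧ ∀ V : Subgroup L, Cfsg.IsPReducedNormal p V → V ≤ Y)) (TL : Subgroup L) (hTL : TL = (T : Subgroup L) ⊓ Subgroup.centralizer (Y : Set L)) : (∀ g : L, ∃ a ∈ Subgroup.normalizer (TL : Set L), ∃ c ∈ Subgroup.centralizer (Y : Set L), g = a * c) ∧ (Cfsg.pCore p ↥(Subgroup.normalizer (TL : Set L))).map (Subgroup.normalizer (TL : Set L)).subtype = TL ∧ Y = Cfsg.omegaOne p (TL ⊓ Subgroup.centralizer (TL : Set L)) := by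
  subst hTL
  exact core L hchar T Y hY.1 hY.2

end Cfsg.Agent.S2803
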