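import Cfsg.Statements.S2824
import Mathlib
import Cfsg.Agent.Lib.PReducedOf
import Cfsg.Agent.S2803

set_option autoImplicit false
set_option linter.unusedVariables false
open Cfsg
open scoped commutatorElement

namespace Cfsg.Agent.S2824

open CfsgLib CfsgLib.PReduced CfsgLib.PReducedOf

/-- Let H be a finite group, p a prime, T a Sylow p-subgroup, L and M subgroups of characteristic p containing T, Y_L the largest p-reduced normal subgroup of L and T₀ = C_T(Y_L). If M·C_H(Y_L) = L·C_H(Y_L), then L* := N_M(T₀) has Y_{L*} = Y_L and L·C_H(Y_L) = L*·C_H(Y_L). -/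
theorem result {H : Type*} [Group H] [Finite H] {p : ℕ} [Fact p.Prime] (T : Sylow p H) (L M : Subgroup H) (hTL : (T : Subgroup H) ≤ L) (hTM : (T : Subgroup H) ≤ M) (hL : Subgroup.centralizer (Cfsg.pCore p ↥L : Set ↥L) ≤ Cfsg.pCore p ↥L) (hM : Subgroup.centralizer (Cfsg.pCore p ↥M : Set ↥M) ≤ Cfsg.pCore p ↥M) (T₀ : Subgroup H) (hT₀ : T₀ = (T : Subgroup H) ⊓ Subgroup.centralizer (((Cfsg.largestPReducedOf p L) : Subgroup H) : Set H)) (hfac : M ⊔ Subgroup.centralizer (((Cfsg.largestPReducedOf p L) : Subgroup H) : Set H) = L ⊔ Subgroup.centralizer (((Cfsg.largestPReducedOf p L) : Subgroup H) : Set H)) (Ls : Subgroup H) (hLs : Ls = M ⊓ Subgroup.normalizer ((T₀ : Subgroup H) : Set H)) : (Cfsg.largestPReducedOf p Ls) = (Cfsg.largestPReducedOf p L) ∧ L ⊔ Subgroup.centralizer (((Cfsg.largestPReducedOf p L) : Subgroup H) : Set H) = Ls ⊔ Subgroup.centralizer (((Cfsg.largestPReducedOf p L) : Subgroup H) : Set H) := by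
  set Y := Cfsg.largestPReducedOf p L with hY
  set C := Subgroup.centralizer (Y : Set H) with hC
  have hYT : Y ≤ (T : Subgroup H) := (le_pCoreOf L).trans (pCoreOf_le_sylow T hTL)
  have hLC : L ≤ Subgroup.normalizer (C : Set H) := le_normalizer_centralizer L
  have hMC : M ≤ Subgroup.normalizer (C : Set H) := (le_sup_left.trans hfac.le).trans (sup_le hLC Subgroup.le_normalizer)
  subst hT₀
  have hTLs : (T : Subgroup H) ≤ Ls := by
    rw [hLs]
    refine le_inf hTM fun t ht => Local.mem_normalizer_of_map_conj_eq (Subgroup.eq_of_le_of_card_ge (Local.map_conj_le fun x hx =>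
      ⟨Subgroup.mul_mem _ (Subgroup.mul_mem _ ht hx.1) (Subgroup.inv_mem _ ht), (Subgroup.mem_normalizer_iff.mp (hLC (hTL ht)) x).mp hx.2⟩)
      (Subgroup.card_map_of_injective (MulEquiv.injective (MulAut.conj t))).ge)
  have hLsM : Ls ≤ M := hLs ▸ inf_le_left
  haveI : (C.subgroupOf M).Normal := Subgroup.normal_subgroupOf_of_le_normalizer hMC
  have hMLs : M ≤ Ls ⊔ C := by
    set P := sylowInfNormal (T.subtype hTM) (C.subgroupOf M)
    have hP : ((P : Subgroup ↥(C.subgroupOf M)).map (C.subgroupOf M).subtype).map M.subtype = (T : Subgroup H) ⊓ C := by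
      rw [coe_sylowInfNormal, Subgroup.subgroupOf_map_subtype, Sylow.coe_subtype, ← Subgroup.inf_subgroupOf_right, Subgroup.map_inf _ _ _ M.subtype_injective]
      rw [Subgroup.inf_subgroupOf_right, Subgroup.map_subgroupOf_eq_of_le hTM, Subgroup.subgroupOf_map_subtype]
      exact le_antisymm (le_inf inf_le_left (inf_le_right.trans inf_le_left)) (le_inf inf_le_left (le_inf inf_le_right (inf_le_left.trans hTM)))
    have htop := Sylow.normalizer_sup_eq_top P
    intro m hm
    obtain ⟨a, ha, c, hc, e⟩ := Subgroup.mem_sup_of_normal_right.mp (htop ▸ Subgroup.mem_top (⟨m, hm⟩ : ↥M))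
    rw [show m = (a : H) * c from (congrArg Subtype.val e).symm]
    refine Subgroup.mul_mem_sup ?_ hc
    rw [hLs]
    refine ⟨a.2, Local.mem_normalizer_of_map_conj_eq ?_⟩
    rw [← hP]
    have h1 := Local.map_conj_eq_of_mem_normalizer ha
    conv_rhs => rw [← h1, Subgroup.map_map]
    rw [Subgroup.map_map]; rfl
  have hfac' : L ⊔ C = Ls ⊔ C := le_antisymm (sup_le ((le_sup_left.trans hfac.ge).trans (sup_le hMLs le_sup_right)) le_sup_right)
    (sup_le ((hLsM.trans le_sup_left).trans hfac.le) le_sup_right)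
  have hLs1 : Y ≤ Cfsg.largestPReducedOf p Ls :=
    largestOf_le_of_factor (hYT.trans hTLs) (le_sup_left.trans hfac'.ge) (le_sup_left.trans hfac'.le)
  refine ⟨le_antisymm ?_ hLs1, hfac'⟩
  have hP'C : Cfsg.pCoreOf p Ls ≤ C := by
    refine le_centralizer_of_factor (M := L) ((Subgroup.map_subtype_le _).trans (le_sup_left.trans hfac'.ge)) ?_
      ((Subgroup.map_subtype_le _).trans (hLsM.trans hMC)) fun k hk => ?_
    · refine (le_sup_left.trans hfac'.le).trans (sup_le ?_ (le_sup_right.trans Subgroup.le_normalizer))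
      refine le_trans (le_inf ?_ (hLsM.trans hMC)) (Subgroup.normalizer_inf_normalizer_le_normalizer_sup _ _)
      intro l hl
      refine Local.mem_normalizer_of_map_conj_eq (Subgroup.eq_of_le_of_card_ge ?_ (Subgroup.card_map_of_injective (MulEquiv.injective (MulAut.conj l))).ge)
      rintro _ ⟨_, ⟨x, hx, rfl⟩, rfl⟩
      exact ⟨_, (inferInstance : (Cfsg.pCore p ↥Ls).Normal).conj_mem x hx ⟨l, hl⟩, rfl⟩
    · obtain ⟨n, hn⟩ := pCoreOf_isPGroup (p := p) Ls ⟨k, hk⟩
      exact ⟨n, by rw [show k ^ p ^ n = 1 from congrArg Subtype.val hn]; exact Subgroup.one_mem _⟩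
  have hT0le : (T : Subgroup H) ⊓ C ≤ Cfsg.pCoreOf p Ls := by
    intro x hx
    haveI : (((T : Subgroup H) ⊓ C).subgroupOf Ls).Normal := Subgroup.normal_subgroupOf_of_le_normalizer (hLs ▸ inf_le_right)
    exact ⟨⟨x, hTLs hx.1⟩, le_pCore ((T.2.to_le inf_le_left).of_equiv
      (Subgroup.subgroupOfEquivOfLe (inf_le_left.trans hTLs : (T : Subgroup H) ⊓ C ≤ Ls)).symm) hx, rfl⟩
  intro y hy
  have hy1 := le_pCoreOf Ls hy
  have hyT0 : y ∈ (T : Subgroup H) ⊓ C := ⟨pCoreOf_le_sylow T hTLs hy1, hP'C hy1⟩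
  have hcore := (Cfsg.Agent.S2803.core ↥L hL (T.subtype hTL) (Cfsg.largestPReduced p ↥L) largest_reduced fun V hV => le_largest hV).2.2
  refine ⟨⟨y, hTL hyT0.1⟩, ?_, rfl⟩
  rw [SetLike.mem_coe, hcore]
  refine mem_omegaZ.mpr ⟨⟨hyT0.1, (mem_centralizer_iff' _).mp hyT0.2⟩, fun t ht => Subtype.ext ?_, Subtype.ext ?_⟩
  · exact commute_pCoreOf Ls hy (hT0le ⟨ht.1, (mem_centralizer_iff' t).mpr ht.2⟩)
  · rw [SubmonoidClass.coe_pow]; exact (elem Ls).2 y hy

end Cfsg.Agent.S2824
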