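import Cfsg.Statements.S2847
import Mathlib
import Cfsg.Agent.Lib.PReducedOf
import Cfsg.Agent.Lib.Large
import Cfsg.Agent.S2803
import Cfsg.Agent.S2822
import Cfsg.Agent.S2824
import Cfsg.Agent.S2821

set_option autoImplicit false
set_option linter.unusedVariables false
open Cfsg
open scoped commutatorElement

namespace Cfsg.Agent.S2847

open CfsgLib CfsgLib.PReduced CfsgLib.PReducedOf

variable {H : Type*} [Group H] [Finite H] {p : ℕ} [Fact p.Prime]

theorem charP_of_mem {K : Subgroup H} (hK : K ∈ Cfsg.charPSubgroups p H) :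
    Subgroup.centralizer (Cfsg.pCore p ↥K : Set ↥K) ≤ Cfsg.pCore p ↥K := by
  intro x hx
  have h : (x : H) ∈ Subgroup.centralizer (((Cfsg.pCore p ↥K).map K.subtype : Subgroup H) : Set H) := by
    refine Subgroup.mem_centralizer_iff.mpr ?_
    rintro _ ⟨r, hr, rfl⟩
    exact congrArg Subtype.val (Subgroup.mem_centralizer_iff.mp hx r hr)
  obtain ⟨y, hy, e⟩ := hK.2 h
  rwa [← Subtype.ext (e : (y : H) = x)]

theorem mem_of_parabolic (hH : Cfsg.IsOfParabolicCharacteristic p H) (T : Sylow p H) {K : Subgroup H}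
    (hTK : (T : Subgroup H) ≤ K) (hO : Cfsg.pCore p ↥K ≠ ⊥) : K ∈ Cfsg.charPSubgroups p H := by
  refine ⟨hO, ?_⟩
  set R := Cfsg.pCoreOf p K
  set N := Subgroup.normalizer (R : Set H)
  have hKN : K ≤ N := Large.le_normalizer_pCoreOf p K
  have hc := hH R ((isPGroup_pCore p).map _) (fun h => hO ((Subgroup.map_eq_bot_iff_of_injective _ K.subtype_injective).mp h))
    ⟨T, hTK.trans hKN⟩
  have hsub : Cfsg.pCoreOf p N ≤ R := Large.le_pCoreOf_of_normal le_rfl Subgroup.le_normalizer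
    ((PReducedOf.pCoreOf_le_sylow T (hTK.trans hKN)).trans hTK) (hKN.trans (Large.le_normalizer_pCoreOf p N))
    ((isPGroup_pCore p).map _)
  intro x hx
  have hxN : x ∈ N := Large.centralizer_le_normalizer R hx
  refine hsub ⟨⟨x, hxN⟩, hc (Subgroup.mem_centralizer_iff.mpr fun r hr => Subtype.ext ?_), rfl⟩
  exact Subgroup.mem_centralizer_iff.mp hx _ (hsub ⟨r, hr, rfl⟩)

theorem mem_of_normalizes (hH : Cfsg.IsOfParabolicCharacteristic p H) (T : Sylow p H) {K Y : Subgroup H}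
    (hTK : (T : Subgroup H) ≤ K) (hYK : Y ≤ K) (hKY : K ≤ Subgroup.normalizer (Y : Set H)) (hY : IsPGroup p ↥Y)
    (hY1 : Y ≠ ⊥) : K ∈ Cfsg.charPSubgroups p H := by
  refine mem_of_parabolic hH T hTK fun h => hY1 (le_bot_iff.mp ?_)
  refine le_trans (Large.le_pCoreOf_of_normal le_rfl Subgroup.le_normalizer hYK hKY hY) ?_
  rw [Cfsg.pCoreOf, h, Subgroup.map_bot]

theorem mono (T : Sylow p H) {L K : Subgroup H} (hTL : (T : Subgroup H) ≤ L) (hLK : L ≤ K)
    (hK : K ∈ Cfsg.charPSubgroups p H) : Cfsg.largestPReducedOf p L ≤ Cfsg.largestPReducedOf p K := by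
  let e : ↥L ≃* ↥(L.subgroupOf K) := (Subgroup.subgroupOfEquivOfLe hLK).symm
  have h := normalClosure_reduced (charP_of_mem hK) (T.subtype (hTL.trans hLK)) (L.subgroupOf K) (fun x hx => hTL hx) _
    (reduced_map_equiv e (largest_reduced (L := ↥L) (p := p)))
  rintro _ ⟨y, hy, rfl⟩
  exact ⟨⟨y, hLK y.2⟩, le_largest h (Subgroup.subset_normalClosure ⟨e y, ⟨y, hy, rfl⟩, rfl⟩), rfl⟩

theorem Y_ne_bot (T : Sylow p H) {L : Subgroup H} (hTL : (T : Subgroup H) ≤ L) (hL : L ∈ Cfsg.charPSubgroups p H) :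
    Cfsg.largestPReducedOf p L ≠ ⊥ := by
  have hT : (T : Subgroup H) ≠ ⊥ := fun h => hL.1 ((Subgroup.map_eq_bot_iff_of_injective _ L.subtype_injective).mp
    (le_bot_iff.mp (h ▸ PReducedOf.pCoreOf_le_sylow T hTL)))
  obtain ⟨w, hw, hw1, hwT⟩ := AbelianTrace.exists_fixed T.2 T.2 Subgroup.le_normalizer hT
  obtain ⟨k, hk⟩ := T.2 ⟨w, hw⟩
  obtain ⟨z, hz, hz1⟩ : ∃ z, z ∈ Cfsg.omegaOne p ((T : Subgroup H) ⊓ Subgroup.centralizer ((T : Subgroup H) : Set H)) ∧ z ≠ 1 := by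
    induction k generalizing w with
    | zero => exact absurd (by simpa using congrArg Subtype.val hk) hw1
    | succ k ih =>
      by_cases h : w ^ p = 1
      · exact ⟨w, mem_omegaZ.mpr ⟨hw, hwT, h⟩, hw1⟩
      · refine ih (w ^ p) ((T : Subgroup H).pow_mem hw p) h (fun q hq => (Commute.pow_right (hwT q hq) p).eq) (Subtype.ext ?_)
        show (w ^ p) ^ p ^ k = 1
        rw [← pow_mul, ← pow_succ']
        exact congrArg Subtype.val hk
  intro hbot
  obtain ⟨-, -, -, h1, h2, -⟩ := Cfsg.Agent.S2821.result T L hTL (charP_of_mem hL) _ rfl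
  exact hz1 (Subgroup.mem_bot.mp (hbot ▸ h2 (h1 hz)))

theorem cover_sup {K M C : Subgroup H} (hKN : K ≤ Subgroup.normalizer (C : Set H))
    (h : ∀ k ∈ K, ∃ m ∈ M, m⁻¹ * k ∈ C) : K ⊔ C ≤ M ⊔ C := by
  refine sup_le (fun k hk => ?_) le_sup_right
  obtain ⟨m, hm, hc⟩ := h k hk
  simpa using (M ⊔ C).mul_mem (Subgroup.mem_sup_left hm) (Subgroup.mem_sup_right hc)

theorem exists_max (hH : Cfsg.IsOfParabolicCharacteristic p H) (T : Sylow p H) (L : Subgroup H)
    (hTL : (T : Subgroup H) ≤ L) (hL : L ∈ Cfsg.charPSubgroups p H) :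
    ∃ M : Subgroup H, (T : Subgroup H) ≤ M ∧ Cfsg.IsInFrakM p M ∧
      Cfsg.largestPReducedOf p L ≤ Cfsg.largestPReducedOf p M ∧
      ∀ l ∈ L, ∃ m ∈ M, m⁻¹ * l ∈ Subgroup.centralizer (Cfsg.largestPReducedOf p L : Set H) := by
  classical
  set YL := Cfsg.largestPReducedOf p L with hYL
  set CL := Subgroup.centralizer (YL : Set H)
  set s : Set (Subgroup H) := {K | (T : Subgroup H) ≤ K ∧ K ∈ Cfsg.charPSubgroups p H ∧
    YL ≤ Cfsg.largestPReducedOf p K ∧ ∀ l ∈ L, ∃ k ∈ K, k⁻¹ * l ∈ CL} with hs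
  obtain ⟨K, hKs, hKmax⟩ := Set.exists_max_image s (fun K => Nat.card ↥(Cfsg.largestPReducedOf p K)) s.toFinite
    ⟨L, hTL, hL, le_rfl, fun l hl => ⟨l, hl, by simp⟩⟩
  obtain ⟨hTK, hKL, hYK, hcovK⟩ := hKs
  set Y0 := Cfsg.largestPReducedOf p K with hY0
  have hmaxY : ∀ X ∈ s, Y0 ≤ Cfsg.largestPReducedOf p X → Cfsg.largestPReducedOf p X = Y0 := fun X hX h =>
    (Subgroup.eq_of_le_of_card_ge h (hKmax X hX)).symm
  set M0 := Subgroup.normalizer (Y0 : Set H) with hM0
  set C0 := Subgroup.centralizer (Y0 : Set H)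
  have hKM0 : K ≤ M0 := PReducedOf.le_normalizer K
  have hY0p : IsPGroup p ↥Y0 := (PReducedOf.pCoreOf_isPGroup K).to_le (PReducedOf.le_pCoreOf K)
  have hY01 : Y0 ≠ ⊥ := Y_ne_bot T hTK hKL
  have hTM0 : (T : Subgroup H) ≤ M0 := hTK.trans hKM0
  have hM0L : M0 ∈ Cfsg.charPSubgroups p H := mem_of_normalizes hH T hTM0 Subgroup.le_normalizer le_rfl hY0p hY01
  have hcov0 : ∀ l ∈ L, ∃ k ∈ M0, k⁻¹ * l ∈ CL := fun l hl => (hcovK l hl).imp fun k hk => ⟨hKM0 hk.1, hk.2⟩
  have hYM0 : Cfsg.largestPReducedOf p M0 = Y0 :=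
    hmaxY M0 ⟨hTM0, hM0L, hYK.trans (mono T hTK hKM0 hM0L), hcov0⟩ (mono T hTK hKM0 hM0L)
  have hC0 : C0 ≤ M0 := Large.centralizer_le_normalizer Y0
  have hC0L : C0 ≤ CL := Subgroup.centralizer_le (SetLike.coe_subset_coe.mpr hYK)
  set t : Set (Subgroup H) := {M | (T : Subgroup H) ≤ M ∧ M ≤ M0 ∧ ∀ m0 ∈ M0, ∃ m ∈ M, m⁻¹ * m0 ∈ C0} with ht
  obtain ⟨M, hMt, hMmin⟩ := Set.exists_min_image t (fun M => Nat.card ↥M) t.toFinite
    ⟨M0, hTM0, le_rfl, fun m hm => ⟨m, hm, by simp⟩⟩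
  obtain ⟨hTM, hMM0, hcovM⟩ := hMt
  have hminle : ∀ U ∈ t, U ≤ M → U = M := fun U hU h => Subgroup.eq_of_le_of_card_ge h (hMmin U hU)
  have hY0M : Y0 ≤ M := ((PReducedOf.le_pCoreOf K).trans (PReducedOf.pCoreOf_le_sylow T hTK)).trans hTM
  have hMC0 : M ≤ Subgroup.normalizer (C0 : Set H) := hMM0.trans (CharP.normalizer_le_normalizer_centralizer Y0)
  have hMc : M ∈ Cfsg.charPSubgroups p H := mem_of_normalizes hH T hTM hY0M hMM0 hY0p hY01
  have hsup : M ⊔ C0 = M0 := le_antisymm (sup_le hMM0 hC0) fun m0 hm0 => by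
    obtain ⟨m, hm, hc⟩ := hcovM m0 hm0
    simpa using (M ⊔ C0).mul_mem (Subgroup.mem_sup_left hm) (Subgroup.mem_sup_right hc)
  have hYM : Cfsg.largestPReducedOf p M = Y0 := by
    refine le_antisymm (hYM0 ▸ mono T hTM hMM0 hM0L) ?_
    have h := Cfsg.Agent.S2822.result T M M0 hTM hTM0 (charP_of_mem hMc) (charP_of_mem hM0L)
    rw [hYM0] at h
    exact h (hsup.trans (sup_eq_left.mpr hC0).symm)
  have hcovML : ∀ l ∈ L, ∃ m ∈ M, m⁻¹ * l ∈ CL := fun l hl => by
    obtain ⟨k, hk, hc⟩ := hcov0 l hl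
    obtain ⟨m, hm, hc0⟩ := hcovM k hk
    exact ⟨m, hm, by simpa [mul_assoc] using CL.mul_mem (hC0L hc0) hc⟩
  have huniq : ∀ X ∈ Cfsg.charPSubgroups p H, M ≤ X → X ≤ M0 := by
    intro X hX hMX
    have h1 : Y0 ≤ Cfsg.largestPReducedOf p X := hYM.ge.trans (mono T hTM hMX hX)
    have h2 := hmaxY X ⟨hTM.trans hMX, hX, hYK.trans h1, fun l hl => (hcovML l hl).imp fun m hm => ⟨hMX hm.1, hm.2⟩⟩ h1
    rw [hM0, ← h2]
    exact PReducedOf.le_normalizer X
  have hmax : M0 ∈ Cfsg.maxCharPSubgroups p H := ⟨hM0L, fun X hX h => le_antisymm (huniq X hX (hMM0.trans h)) h⟩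
  have hdag : M ⊔ Subgroup.centralizer (Cfsg.largestPReducedOf p M : Set H) = M0 := by rw [hYM]; exact hsup
  refine ⟨M, hTM, ⟨hMc, by rw [hdag]; exact hmax, fun X hX hMX => ?_, by rw [hdag, hYM, hYM0], ?_, ?_⟩,
    hYK.trans hYM.ge, hcovML⟩
  · rw [hdag]; exact (hX.2 M0 hM0L (huniq X hX.1 hMX)).symm
  all_goals
    rw [hYM]
    -- the Frattini argument: `M` normalises `T ∩ C₀`
    set T0 := (T : Subgroup H) ⊓ C0 with hT0
    have hTM' : (T : Subgroup H) ≤ M := hTM
    have hnorm : M ≤ Subgroup.normalizer (T0 : Set H) := by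
      have hYs : largestPReduced p ↥M = largestPReduced p ↥M := rfl
      obtain ⟨hdec, -, -⟩ := Cfsg.Agent.S2803.result (charP_of_mem hMc) (T.subtype hTM) (largestPReduced p ↥M)
        ⟨largest_reduced, fun V hV => le_largest hV⟩ _ rfl
      set TL := (T.subtype hTM : Subgroup ↥M) ⊓ Subgroup.centralizer (largestPReduced p ↥M : Set ↥M) with hTL'
      have hTLeq : ∀ x : ↥M, x ∈ TL ↔ (x : H) ∈ T0 := by
        intro x
        have h1 := PReducedOf.mem_centralizer_iff' (p := p) x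
        rw [hYM] at h1
        exact ⟨fun h => ⟨h.1, h1.mpr h.2⟩, fun h => ⟨h.1, h1.mp h.2⟩⟩
      set U := M ⊓ Subgroup.normalizer (T0 : Set H)
      have hU : U = M := by
        refine hminle U ⟨le_inf hTM ?_, inf_le_left.trans hMM0, fun m0 hm0 => ?_⟩ inf_le_left
        · exact Large.le_normalizer_of fun x hx a ha => ⟨(T : Subgroup H).mul_mem ((T : Subgroup H).mul_mem hx ha.1)
            ((T : Subgroup H).inv_mem hx), Large.conj_mem hMC0 (hTM hx) ha.2⟩
        · obtain ⟨m, hm, hc⟩ := hcovM m0 hm0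
          obtain ⟨a, ha, c, hc', e⟩ := hdec ⟨m, hm⟩
          have hcC : (c : H) ∈ C0 := by
            have h := (PReducedOf.mem_centralizer_iff' (p := p) c).mpr hc'
            rwa [hYM] at h
          refine ⟨a, ⟨a.2, ?_⟩, ?_⟩
          · refine Subgroup.mem_normalizer_iff.mpr fun x => ?_
            constructor
            · intro hx
              exact (hTLeq (a * ⟨x, hTM hx.1⟩ * a⁻¹)).mp ((Subgroup.mem_normalizer_iff.mp ha _).mp ((hTLeq _).mpr hx))
            · intro hx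
              have hxM : x ∈ M := by
                have := M.mul_mem (M.mul_mem (M.inv_mem a.2) (hTM hx.1)) a.2
                simpa [mul_assoc] using this
              exact (hTLeq ⟨x, hxM⟩).mp ((Subgroup.mem_normalizer_iff.mp ha _).mpr ((hTLeq (a * ⟨x, hxM⟩ * a⁻¹)).mpr hx))
          · have e' : m = (a : H) * c := congrArg Subtype.val e
            have := C0.mul_mem hcC hc
            simpa [e', mul_assoc] using this
      exact inf_eq_left.mp hU
  · intro P
    have hTP : ((P : Subgroup ↥(M ⊓ C0)).map (M ⊓ C0).subtype) ≤ Subgroup.normalizer (T0 : Set H) :=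
      ((Subgroup.map_subtype_le _).trans inf_le_left).trans hnorm
    obtain ⟨S, hS⟩ : ∃ S : Sylow p ↥C0, (S : Subgroup ↥C0) = T0.subgroupOf C0 := by
      have h := (Cfsg.Agent.S2821.result T M hTM (charP_of_mem hMc) _ rfl).1
      rwa [hYM] at h
    haveI hn : (T0.subgroupOf (M ⊓ C0)).Normal := Subgroup.normal_subgroupOf_of_le_normalizer (inf_le_left.trans hnorm)
    have hPT : (P : Subgroup ↥(M ⊓ C0)) ≤ T0.subgroupOf (M ⊓ C0) := by
      have hbig : IsPGroup p ↥(T0 ⊔ (P : Subgroup ↥(M ⊓ C0)).map (M ⊓ C0).subtype) :=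
        (T.2.to_le inf_le_left).to_sup_of_normal_left' (P.2.map _) hTP
      have hle : T0 ⊔ (P : Subgroup ↥(M ⊓ C0)).map (M ⊓ C0).subtype ≤ C0 :=
        sup_le inf_le_right ((Subgroup.map_subtype_le _).trans inf_le_right)
      have h3 := S.3 (hbig.comap_of_injective C0.subtype C0.subtype_injective) (by
        rw [hS]; exact Subgroup.comap_mono le_sup_left)
      intro x hx
      have h4 : (⟨(x : H), x.2.2⟩ : ↥C0) ∈ (S : Subgroup ↥C0) := h3 ▸
        (Subgroup.mem_sup_right ⟨x, hx, rfl⟩ : (x : H) ∈ T0 ⊔ (P : Subgroup ↥(M ⊓ C0)).map (M ⊓ C0).subtype)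
      rw [hS] at h4
      exact h4
    have e := P.3 ((T.2.to_le (inf_le_left : T0 ≤ _)).comap_of_injective (M ⊓ C0).subtype (M ⊓ C0).subtype_injective) hPT
    exact e ▸ hn
  · haveI hNn : ((M ⊓ C0).subgroupOf M).Normal := Subgroup.normal_subgroupOf_of_le_normalizer
      (Large.le_normalizer_of fun m hm a ha => ⟨M.mul_mem (M.mul_mem hm ha.1) (M.inv_mem hm), Large.conj_mem hMC0 hm ha.2⟩)
    set N := (M ⊓ C0).subgroupOf M
    set π := QuotientGroup.mk' (Cfsg.pCore p ↥M)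
    refine le_iInf₂ fun U hU => ?_
    by_contra hcon
    have htop : U ⊔ N.map π = ⊤ := hU.2 _ (lt_of_le_of_ne le_sup_left fun e => hcon (e ▸ le_sup_right))
    set V := U.comap π with hV
    have hVN : V ⊔ N = ⊤ := by
      refine eq_top_iff.mpr fun x _ => ?_
      obtain ⟨u, hu, b, hb, e⟩ := Subgroup.mem_sup_of_normal_right.mp (htop ▸ Subgroup.mem_top (π x))
      obtain ⟨n, hn, rfl⟩ := hb
      obtain ⟨v, rfl⟩ := QuotientGroup.mk'_surjective _ u
      have hk : (v * n)⁻¹ * x ∈ Cfsg.pCore p ↥M := by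
        rw [← QuotientGroup.eq]
        exact e
      have hk' : (v * n)⁻¹ * x ∈ V := by
        show π _ ∈ U
        rw [show π ((v * n)⁻¹ * x) = 1 from (QuotientGroup.eq_one_iff _).mpr hk]
        exact U.one_mem
      have h := Subgroup.mul_mem (V ⊔ N) (Subgroup.mul_mem (V ⊔ N) (Subgroup.mem_sup_left (show v ∈ V from hu)) (Subgroup.mem_sup_right hn))
        (Subgroup.mem_sup_left hk')
      simpa [mul_assoc] using h
    have hT0n : (T0.subgroupOf M).Normal := Subgroup.normal_subgroupOf_of_le_normalizer hnorm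
    have hT0V : T0.subgroupOf M ≤ V := fun x hx => by
      show π x ∈ U
      rw [show π x = 1 from (QuotientGroup.eq_one_iff _).mpr
        (le_pCore (N := T0.subgroupOf M) ((T.2.to_le (inf_le_left : T0 ≤ _)).comap_of_injective M.subtype M.subtype_injective) hx)]
      exact U.one_mem
    have hidx : ¬ p ∣ V.index := by
      intro h
      refine CfsgLib.not_dvd_relIndex_of_sylow (T.subtype hTM) N ?_
      have h1 : V.index = V.relIndex N := by
        have h3 : N.relIndex (V ⊔ N) = N.relIndex V := Subgroup.relIndex_sup_right _ _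
        have a1 := Subgroup.relIndex_mul_relIndex (V ⊓ N) V (V ⊔ N) inf_le_left le_sup_left
        have a2 := Subgroup.relIndex_mul_relIndex (V ⊓ N) N (V ⊔ N) inf_le_right le_sup_right
        rw [Subgroup.inf_relIndex_left] at a1
        rw [Subgroup.inf_relIndex_right, h3, ← a1, mul_comm (V.relIndex N), hVN, Subgroup.relIndex_top_right] at a2
        exact (Nat.eq_of_mul_eq_mul_left (Nat.pos_of_ne_zero Subgroup.index_ne_zero_of_finite) a2).symm
      refine dvd_trans (h1 ▸ h) ?_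
      rw [← Subgroup.inf_relIndex_right (T.subtype hTM : Subgroup ↥M) N]
      exact Subgroup.relIndex_dvd_of_le_left N fun x hx => hT0V (show (x : H) ∈ T0 from ⟨hx.1, hx.2.2⟩)
    obtain ⟨P, hP⟩ := CfsgLib.exists_sylow_le_of_not_dvd_index V hidx
    obtain ⟨m, hm⟩ := MulAction.exists_smul_eq ↥M P (T.subtype hTM)
    set W := (V.map (MulAut.conj m).toMonoidHom).map M.subtype with hW
    have hWM : W = M := by
      refine hminle W ⟨fun x hx => ?_, (Subgroup.map_subtype_le _).trans hMM0, fun m0 hm0 => ?_⟩ (Subgroup.map_subtype_le _)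
      · have hx' : (⟨x, hTM hx⟩ : ↥M) ∈ (T.subtype hTM : Subgroup ↥M) := hx
        rw [← hm, Sylow.coe_subgroup_smul] at hx'
        obtain ⟨v, hv, e⟩ := hx'
        exact ⟨_, ⟨v, hP hv, rfl⟩, congrArg Subtype.val e⟩
      · obtain ⟨k, hk, hc⟩ := hcovM m0 hm0
        obtain ⟨v, hv, n, hn, e⟩ := Subgroup.mem_sup_of_normal_right.mp (hVN ▸ Subgroup.mem_top (m⁻¹ * (⟨k, hk⟩ : ↥M) * m))
        refine ⟨((m * v * m⁻¹ : ↥M) : H), ⟨m * v * m⁻¹, ⟨v, hv, by simp⟩, rfl⟩, ?_⟩
        have hn' : ((m * n * m⁻¹ : ↥M) : H) ∈ C0 := (hNn.conj_mem n hn m).2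
        have hk' : (⟨k, hk⟩ : ↥M) = m * v * m⁻¹ * (m * n * m⁻¹) := by
          rw [show m * v * m⁻¹ * (m * n * m⁻¹) = m * (v * n) * m⁻¹ by group, e]; group
        have hkH : k = ((m * v * m⁻¹ : ↥M) : H) * ((m * n * m⁻¹ : ↥M) : H) := congrArg Subtype.val hk'
        have := C0.mul_mem hn' hc
        rw [hkH] at this
        simpa [mul_assoc] using this
    have hVtop : V = ⊤ := by
      refine Subgroup.eq_top_of_card_eq _ ?_
      rw [← Subgroup.card_map_of_injective (f := (MulAut.conj m).toMonoidHom) (MulEquiv.injective (MulAut.conj m)),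
        ← Subgroup.card_map_of_injective M.subtype_injective]
      exact congrArg (fun A : Subgroup H => Nat.card ↥A) hWM
    refine hU.1 ?_
    rw [← Subgroup.map_comap_eq_self_of_surjective (f := π) (QuotientGroup.mk'_surjective _) U, ← hV, hVtop,
      Subgroup.map_top_of_surjective _ (QuotientGroup.mk'_surjective _)]

/-- Let H be a finite group of parabolic characteristic p, T a Sylow p-subgroup and L a subgroup containing T with O_p(L) ≠ 1 and C_H(O_p(L)) ≤ O_p(L). Then there are M ≥ T with the basic property (M ∈ 𝔐_H) and L* with T ≤ L* ≤ M, O_p(L*) ≠ 1, C_H(O_p(L*)) ≤ O_p(L*), such that Y_L = Y_{L*} ≤ Y_M and L·C_H(Y_L) = L*·C_H(Y_L), Y denoting largest p-reduced normal subgroups. -/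
theorem result {H : Type*} [Group H] [Finite H] {p : ℕ} [Fact p.Prime] (hH : Cfsg.IsOfParabolicCharacteristic p H) (T : Sylow p H) (L : Subgroup H) (hTL : (T : Subgroup H) ≤ L) (hL : L ∈ Cfsg.charPSubgroups p H) : ∃ M Ls : Subgroup H, (T : Subgroup H) ≤ M ∧ Cfsg.IsInFrakM p M ∧ (T : Subgroup H) ≤ Ls ∧ Ls ≤ M ∧ Ls ∈ Cfsg.charPSubgroups p H ∧ (Cfsg.largestPReducedOf p L) = (Cfsg.largestPReducedOf p Ls) ∧ (Cfsg.largestPReducedOf p L) ≤ (Cfsg.largestPReducedOf p M) ∧ L ⊔ Subgroup.centralizer (((Cfsg.largestPReducedOf p L) : Subgroup H) : Set H) = Ls ⊔ Subgroup.centralizer (((Cfsg.largestPReducedOf p L) : Subgroup H) : Set H) := by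
  open CfsgLib in
    obtain ⟨M, hTM, hM, hYM, hcov⟩ := exists_max hH T L hTL hL
    set Y := Cfsg.largestPReducedOf p L
    set C := Subgroup.centralizer (Y : Set H)
    have hLC : L ≤ Subgroup.normalizer (C : Set H) := PReducedOf.le_normalizer_centralizer L
    set M' := M ⊓ (L ⊔ C)
    have hTM' : (T : Subgroup H) ≤ M' := le_inf hTM (hTL.trans le_sup_left)
    have hYT : Y ≤ (T : Subgroup H) := (PReducedOf.le_pCoreOf L).trans (PReducedOf.pCoreOf_le_sylow T hTL)
    have hYp : IsPGroup p ↥Y := T.2.to_le hYT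
    have hY1 : Y ≠ ⊥ := Y_ne_bot T hTL hL
    have hLY : L ⊔ C ≤ Subgroup.normalizer (Y : Set H) :=
      sup_le (PReducedOf.le_normalizer L) (Large.centralizer_le_normalizer Y)
    have hM'c := mem_of_normalizes hH T hTM' (hYT.trans hTM') (inf_le_right.trans hLY) hYp hY1
    have hfac : M' ⊔ C = L ⊔ C := by
      refine le_antisymm (sup_le inf_le_right le_sup_right) (cover_sup hLC fun l hl => ?_)
      obtain ⟨m, hm, hc⟩ := hcov l hl
      refine ⟨m, ⟨hm, ?_⟩, hc⟩
      have := (L ⊔ C).mul_mem (Subgroup.mem_sup_left hl) ((L ⊔ C).inv_mem (Subgroup.mem_sup_right hc))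
      simpa using this
    obtain ⟨hY, hsup⟩ := Cfsg.Agent.S2824.result T L M' hTL hTM' (charP_of_mem hL) (charP_of_mem hM'c) _ rfl hfac _ rfl
    set Ls := M' ⊓ Subgroup.normalizer ((((T : Subgroup H) ⊓ C : Subgroup H)) : Set H)
    have hTLs : (T : Subgroup H) ≤ Ls := le_inf hTM' (Large.le_normalizer_of fun x hx a ha =>
      ⟨(T : Subgroup H).mul_mem ((T : Subgroup H).mul_mem hx ha.1) ((T : Subgroup H).inv_mem hx),
        Large.conj_mem hLC (hTL hx) ha.2⟩)
    exact ⟨M, Ls, hTM, hM, hTLs, inf_le_left.trans inf_le_left,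
      mem_of_normalizes hH T hTLs (hYT.trans hTLs) ((inf_le_left.trans inf_le_right).trans hLY) hYp hY1, hY.symm, hYM, hsup⟩

end Cfsg.Agent.S2847
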