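import Cfsg.Statements.S5118
import Cfsg.Agent.Lib.Fusion.Invariant
import Cfsg.Agent.Lib.Fusion.Image
import Cfsg.Agent.Lib.Fusion.Group
-- import your own Cfsg.Agent.* helpers here

set_option autoImplicit false
open Cfsg

namespace Cfsg.Agent.S5118

open Cfsg Cfsg.FusionSystem in
theorem aux {G : Type*} [Group G] [Finite G] (p : ℕ) [Fact p.Prime] (S : Sylow p G) (H : Subgroup G) [hHn : H.Normal] :
    (Cfsg.fusionSystemOfSubgroup H ((S : Subgroup G) ⊓ H) inf_le_right).IsNormalIn (Cfsg.groupFusionSystem (S : Subgroup G)) p := by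
  classical
  set T := (S : Subgroup G) ⊓ H with hTdef
  set E := Cfsg.fusionSystemOfSubgroup H T inf_le_right
  set F := Cfsg.groupFusionSystem (S : Subgroup G)
  have hF : F.IsSaturated p := groupFusionSystem_isSaturated S
  have hTsyl : IsSylowIn p T H := by
    have h1 : IsSylowIn p (S : Subgroup G) ⊤ := ⟨le_top, S.2, by
      rw [Subgroup.relIndex_top_right]; exact S.not_dvd_index⟩
    exact h1.inf_of_normal le_top (by rw [Subgroup.normalizer_eq_top])
  have hE : E.IsSaturated p := by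
    obtain ⟨R, hR⟩ := (isSylowIn_iff (inf_le_right : T ≤ H)).mp hTsyl
    refine IsRealizedBy.isSaturated (G := H) (ι := Subgroup.inclusion inf_le_right) ⟨Subgroup.inclusion_injective _, fun P hP φ hφ => ?_⟩ R ?_
    · constructor
      · rintro ⟨-, -, h, hh, he⟩
        exact ⟨⟨h, hh⟩, fun x => Subtype.ext (he x)⟩
      · rintro ⟨h, he⟩
        exact ⟨hP, hφ, h, h.2, fun x => congrArg Subtype.val (he x)⟩
    · rw [hR, Subgroup.inclusion_range]
  have hsub : E.IsSubsystemOf F := by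
    rintro P φ ⟨hP, hφ, h, -, he⟩
    exact ⟨hP.trans inf_le_left, fun x => (hφ x).1, h, he⟩
  have hT : F.StronglyClosed T := by
    refine ⟨inf_le_left, fun R hR φ hφ x => ⟨F.apply_mem hφ x, ?_⟩⟩
    obtain ⟨-, -, g, hg⟩ := hφ
    rw [hg]
    exact hHn.conj_mem _ (hR x.2).2 g
  refine ⟨⟨hE, hF, StrongInvariance.isInvariantIn hF S.2 hT hsub ?_⟩, ?_⟩
  · rintro P Q hPQ hQT φ ⟨hPT, hφT, h, hh, he⟩ hφQ ψ hψ
    obtain ⟨-, hψS, g, hg⟩ := hψ
    have hψT : ∀ y : Q, ψ y ∈ T := fun y => ⟨hψS y, by rw [hg]; exact hHn.conj_mem _ (hQT y.2).2 g⟩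
    refine ⟨conjHom _ (g * h * g⁻¹), ⟨?_, ?_, g * h * g⁻¹, hHn.conj_mem h hh g, fun _ => rfl⟩, fun x hx => ?_⟩
    · rintro _ ⟨y, -, rfl⟩
      exact hψT y
    · rintro ⟨_, y, hy, rfl⟩
      have h1 := hψT ⟨φ ⟨y, hy⟩, hφQ _⟩
      rw [hg] at h1
      show g * h * g⁻¹ * ψ y * (g * h * g⁻¹)⁻¹ ∈ T
      rw [hg]
      simp only [he] at h1
      convert h1 using 1
      group
    · show g * h * g⁻¹ * ψ (Subgroup.inclusion hPQ x) * (g * h * g⁻¹)⁻¹ = _
      rw [hg, hg]
      simp only [Subgroup.coe_inclusion, he]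
      group
  intro α hα
  obtain ⟨-, -, h, hh, he⟩ := (E.mem_autGroup_iff le_rfl).mp hα
  have he' : ∀ x : T, ((α x : T) : G) = h * (x : G) * h⁻¹ := he
  have hhN : h ∈ Subgroup.normalizer (T : Set G) := by
    refine Subgroup.mem_normalizer_iff.mpr fun z => ⟨fun hz => he' ⟨z, hz⟩ ▸ (α ⟨z, hz⟩).2, fun hz => ?_⟩
    obtain ⟨w, hw⟩ := α.surjective ⟨_, hz⟩
    have h1 := he' w
    rw [hw] at h1
    have : z = (w : G) := mul_left_cancel (mul_right_cancel h1)
    exact this ▸ w.2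
  have hSN : (S : Subgroup G) ≤ Subgroup.normalizer (T : Set G) := by
    intro s hs
    refine Subgroup.mem_normalizer_iff.mpr fun z => ⟨fun hz => hT.conj_mem_of_mem hs hz, fun hz => ?_⟩
    have := hT.conj_mem_of_mem (InvMemClass.inv_mem hs) hz
    simpa [mul_assoc] using this
  have hCS : IsSylowIn p (centralizerIn (S : Subgroup G) T) (Subgroup.centralizer (T : Set G)) := by
    refine centralizerIn_isSylowIn ?_
    have h1 : normalizerIn (S : Subgroup G) T = (S : Subgroup G) := inf_eq_left.mpr hSN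
    rw [h1]
    exact ⟨hSN, S.2, fun hd => S.not_dvd_index (hd.trans (Subgroup.relIndex_dvd_index_of_le hSN))⟩
  set CS := centralizerIn (S : Subgroup G) T with hCSdef
  set CH := H ⊓ Subgroup.centralizer (T : Set G) with hCHdef
  have hCHn : CS ≤ Subgroup.normalizer (CH : Set G) := by
    intro c hc
    refine Subgroup.mem_normalizer_iff.mpr fun z => ?_
    have key : ∀ c ∈ Subgroup.centralizer (T : Set G), ∀ z ∈ CH, c * z * c⁻¹ ∈ CH := fun c hc z hz =>
      ⟨hHn.conj_mem z hz.1 c, (Subgroup.centralizer (T : Set G)).mul_mem (mul_mem hc hz.2) ((Subgroup.centralizer (T : Set G)).inv_mem hc)⟩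
    refine ⟨key c hc.2 z, fun hz => ?_⟩
    have := key c⁻¹ (InvMemClass.inv_mem hc.2) _ hz
    simpa [mul_assoc] using this
  set D := CS ⊔ CH
  have hDC : D ≤ Subgroup.centralizer (T : Set G) := sup_le inf_le_right inf_le_right
  have hCSD : IsSylowIn p CS D := by
    refine ⟨le_sup_left, hCS.2.1, fun hd => hCS.2.2 (hd.trans ?_)⟩
    exact ⟨_, (Subgroup.relIndex_mul_relIndex CS D _ le_sup_left hDC).symm⟩
  have hconjmem : ∀ c ∈ CS, h * c * h⁻¹ ∈ D := by
    intro c hc
    have h1 : h * c * h⁻¹ = c * (c⁻¹ * h * c * h⁻¹) := by group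
    rw [h1]
    refine mul_mem (Subgroup.mem_sup_left hc) (Subgroup.mem_sup_right ⟨?_, ?_⟩)
    · have := hHn.conj_mem h hh c⁻¹
      rw [inv_inv] at this
      exact mul_mem this (H.inv_mem hh)
    · have hn := hc.2
      have h2 : h * c * h⁻¹ ∈ Subgroup.centralizer (T : Set G) := by
        refine Subgroup.mem_centralizer_iff.mpr fun t ht => ?_
        have ht' : h⁻¹ * t * h ∈ T := (Subgroup.mem_normalizer_iff''.mp hhN t).mp ht
        have h3 := Subgroup.mem_centralizer_iff.mp hn _ ht'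
        calc t * (h * c * h⁻¹) = h * (h⁻¹ * t * h * c) * h⁻¹ := by group
          _ = h * c * h⁻¹ * t := by rw [h3]; group
      have h4 : c⁻¹ * (h * c * h⁻¹) ∈ Subgroup.centralizer (T : Set G) :=
        mul_mem (InvMemClass.inv_mem hn) h2
      simpa [mul_assoc] using h4
  obtain ⟨d, hd, hdc⟩ := hCSD.exists_conj_le (hCS.2.1.map (MulAut.conj h).toMonoidHom) (by
    rintro _ ⟨c, hc, rfl⟩
    exact hconjmem c hc)
  rw [← SetLike.mem_coe, Subgroup.coe_mul_of_left_le_normalizer_right CS CH hCHn] at hd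
  obtain ⟨c₀, hc₀, k, hk, rfl⟩ := hd
  have hkey : ∀ c ∈ CS, (k * h) * c * (k * h)⁻¹ ∈ CS := by
    intro c hc
    have h1 := hdc (h * c * h⁻¹) ⟨c, hc, rfl⟩
    have := CS.mul_mem (CS.mul_mem (CS.inv_mem hc₀) h1) hc₀
    convert this using 1
    group
  have hconjT : ∀ x : T, (k * h) * (x : G) * (k * h)⁻¹ = ((α x : T) : G) := by
    intro x
    rw [he']
    have hx : h * (x : G) * h⁻¹ ∈ T := (Subgroup.mem_normalizer_iff.mp hhN x).mp x.2
    have := Subgroup.mem_centralizer_iff.mp hk.2 _ hx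
    calc k * h * (x : G) * (k * h)⁻¹ = k * (h * x * h⁻¹) * k⁻¹ := by group
      _ = h * x * h⁻¹ := by rw [← this]; group
  set X := T ⊔ CS with hXdef
  have hXS : X ≤ (S : Subgroup G) := sup_le inf_le_left inf_le_left
  have hXmap : ∀ x ∈ X, (k * h) * x * (k * h)⁻¹ ∈ X := by
    intro x hx
    suffices X ≤ X.comap (MulAut.conj (k * h)).toMonoidHom from this hx
    refine sup_le (fun t ht => ?_) fun c hc => Subgroup.mem_sup_right (hkey c hc)
    refine Subgroup.mem_sup_left ?_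
    show (k * h) * t * (k * h)⁻¹ ∈ T
    rw [hconjT ⟨t, ht⟩]
    exact SetLike.coe_mem _
  have hφ : conjHom X (k * h) ∈ F.Hom X := conjHom_mem_groupFusionSystem hXS fun x hx => hXS (hXmap x hx)
  have hr : (conjHom X (k * h)).range = X := by
    refine Subgroup.eq_of_le_of_card_ge ?_ ?_
    · rintro _ ⟨x, rfl⟩
      exact hXmap x x.2
    · exact (Nat.card_congr (MonoidHom.ofInjective (F.injective_of_mem hφ)).toEquiv).le
  refine ⟨F.isoOf hφ hr, F.isoOf_mem_autGroup hφ hr, fun x => ?_, fun c hc => ?_⟩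
  · exact (coe_isoOf hφ hr _).trans (hconjT x)
  · rw [coe_isoOf]
    show (c : G)⁻¹ * ((k * h) * (c : G) * (k * h)⁻¹) ∈ T ⊓ Subgroup.centralizer (T : Set G)
    have h1 : (c : G)⁻¹ * ((k * h) * (c : G) * (k * h)⁻¹) ∈ CS :=
      CS.mul_mem (CS.inv_mem hc) (hkey c hc)
    refine ⟨⟨h1.1, ?_⟩, h1.2⟩
    show _ ∈ H
    have := hHn.conj_mem (k * h) (H.mul_mem hk.1 hh) (c : G)⁻¹
    rw [inv_inv] at this
    convert H.mul_mem this (H.inv_mem (H.mul_mem hk.1 hh)) using 1
    group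

/-- For a finite group G with Sylow p-subgroup S and a normal subgroup H, the fusion system of H on S ∩ H is a normal subsystem of the fusion system of G on S. -/
theorem result {G : Type*} [Group G] [Finite G] (p : ℕ) [Fact p.Prime] (S : Sylow p G) (H : Subgroup G) [H.Normal] : (Cfsg.fusionSystemOfSubgroup H ((S : Subgroup G) ⊓ H) inf_le_right).IsNormalIn (Cfsg.groupFusionSystem (S : Subgroup G)) p := by
  exact aux p S H

end Cfsg.Agent.S5118
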