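import Cfsg.Statements.S5136
import Cfsg.Agent.Lib.Fusion.Basic
import Cfsg.Prelude.Def_FusionComponents
-- import your own Cfsg.Agent.* helpers here

set_option autoImplicit false
open Cfsg

namespace Cfsg.Agent.S5136

/-- Let F₁ and F₂ be fusion systems over finite p-groups S₁ and S₂ (inside ambient groups Ω₁ and Ω₂). Then their direct product exists: there is a fusion system over S₁ × S₂ inside Ω₁ × Ω₂ whose maps with source P ≤ S₁ × S₂ are exactly the restrictions to P of the homomorphisms (x₁, x₂) ↦ (φ₁ x₁, φ₂ x₂) with φ₁ a map of F₁ on the first projection of P and φ₂ a map of F₂ on the second projection. -/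
theorem result {Ω₁ Ω₂ : Type*} [Group Ω₁] [Group Ω₂] {S₁ : Subgroup Ω₁} {S₂ : Subgroup Ω₂} [Finite S₁] [Finite S₂] (p : ℕ) [Fact p.Prime] (h₁ : IsPGroup p S₁) (h₂ : IsPGroup p S₂) (F₁ : Cfsg.FusionSystem S₁) (F₂ : Cfsg.FusionSystem S₂) : ∃ E : Cfsg.FusionSystem (S₁.prod S₂), Cfsg.FusionSystem.IsProductSystem F₁ F₂ E := by
  let p1 : ∀ (P : Subgroup (Ω₁ × Ω₂)) (x : P), ↥(P.map (MonoidHom.fst Ω₁ Ω₂)) :=
    fun P x => ⟨(x : Ω₁ × Ω₂).1, ⟨x, x.2, rfl⟩⟩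
  let p2 : ∀ (P : Subgroup (Ω₁ × Ω₂)) (x : P), ↥(P.map (MonoidHom.snd Ω₁ Ω₂)) :=
    fun P x => ⟨(x : Ω₁ × Ω₂).2, ⟨x, x.2, rfl⟩⟩
  let E : Cfsg.FusionSystem (S₁.prod S₂) :=
    { Hom := fun P => {φ | P ≤ S₁.prod S₂ ∧
        ∃ φ₁ ∈ F₁.Hom (P.map (MonoidHom.fst Ω₁ Ω₂)), ∃ φ₂ ∈ F₂.Hom (P.map (MonoidHom.snd Ω₁ Ω₂)),
          ∀ (x : P) (h₁ : (x : Ω₁ × Ω₂).1 ∈ P.map (MonoidHom.fst Ω₁ Ω₂))
            (h₂ : (x : Ω₁ × Ω₂).2 ∈ P.map (MonoidHom.snd Ω₁ Ω₂)),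
            φ x = (φ₁ ⟨(x : Ω₁ × Ω₂).1, h₁⟩, φ₂ ⟨(x : Ω₁ × Ω₂).2, h₂⟩)}
      le_of_mem := by
        rintro P φ ⟨hP, φ₁, h1, φ₂, h2, he⟩
        refine ⟨hP, fun x => ?_⟩
        rw [he x (p1 P x).2 (p2 P x).2]
        exact ⟨F₁.apply_mem h1 _, F₂.apply_mem h2 _⟩
      injective_of_mem := by
        rintro P φ ⟨hP, φ₁, h1, φ₂, h2, he⟩ a b hab
        rw [he a (p1 P a).2 (p2 P a).2, he b (p1 P b).2 (p2 P b).2, Prod.mk.injEq] at hab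
        exact Subtype.ext (Prod.ext (congrArg Subtype.val (F₁.injective_of_mem h1 hab.1))
          (congrArg Subtype.val (F₂.injective_of_mem h2 hab.2)))
      conj_mem := by
        intro P g hP hg
        refine ⟨hP, _, F₁.conj_mem ?_ hg.1, _, F₂.conj_mem ?_ hg.2, fun x h₁ h₂ => rfl⟩
        · rintro _ ⟨x, hx, rfl⟩
          exact (hP hx).1
        · rintro _ ⟨x, hx, rfl⟩
          exact (hP hx).2
      comp_mem := by
        rintro P Q φ ψ ⟨hP, φ₁, h1, φ₂, h2, he⟩ ⟨hQ, ψ₁, k1, ψ₂, k2, ke⟩ h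
        have m1 : ∀ y, φ₁ y ∈ Q.map (MonoidHom.fst Ω₁ Ω₂) := by
          rintro ⟨_, x, hx, rfl⟩
          refine ⟨φ ⟨x, hx⟩, h ⟨x, hx⟩, ?_⟩
          rw [he ⟨x, hx⟩ (p1 P ⟨x, hx⟩).2 (p2 P ⟨x, hx⟩).2]
          rfl
        have m2 : ∀ y, φ₂ y ∈ Q.map (MonoidHom.snd Ω₁ Ω₂) := by
          rintro ⟨_, x, hx, rfl⟩
          refine ⟨φ ⟨x, hx⟩, h ⟨x, hx⟩, ?_⟩
          rw [he ⟨x, hx⟩ (p1 P ⟨x, hx⟩).2 (p2 P ⟨x, hx⟩).2]
          rfl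
        refine ⟨hP, _, F₁.comp_mem h1 k1 m1, _, F₂.comp_mem h2 k2 m2, fun x a b => ?_⟩
        show ψ ⟨φ x, h x⟩ = _
        have hx := he x a b
        rw [ke ⟨φ x, h x⟩ (show (φ x).1 ∈ _ from ⟨φ x, h x, rfl⟩) (show (φ x).2 ∈ _ from ⟨φ x, h x, rfl⟩)]
        simp only [Prod.mk.injEq]
        exact ⟨congrArg ψ₁ (Subtype.ext (congrArg Prod.fst hx)),
          congrArg ψ₂ (Subtype.ext (congrArg Prod.snd hx))⟩
      inv_mem := by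
        rintro P φ ⟨hP, φ₁, h1, φ₂, h2, he⟩
        obtain ⟨i₁, hi₁, -, il₁, -⟩ := F₁.exists_inv h1 rfl
        obtain ⟨i₂, hi₂, -, il₂, -⟩ := F₂.exists_inv h2 rfl
        have r1 : φ.range.map (MonoidHom.fst Ω₁ Ω₂) ≤ φ₁.range := by
          rintro _ ⟨_, ⟨x, rfl⟩, rfl⟩
          exact ⟨p1 P x, (congrArg Prod.fst (he x (p1 P x).2 (p2 P x).2)).symm⟩
        have r2 : φ.range.map (MonoidHom.snd Ω₁ Ω₂) ≤ φ₂.range := by
          rintro _ ⟨_, ⟨x, rfl⟩, rfl⟩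
          exact ⟨p2 P x, (congrArg Prod.snd (he x (p1 P x).2 (p2 P x).2)).symm⟩
        let a : φ.range →* ↥(φ.range.map (MonoidHom.fst Ω₁ Ω₂)) :=
          (MonoidHom.fst Ω₁ Ω₂).comp φ.range.subtype |>.codRestrict _ fun y => ⟨y, y.2, rfl⟩
        let b : φ.range →* ↥(φ.range.map (MonoidHom.snd Ω₁ Ω₂)) :=
          (MonoidHom.snd Ω₁ Ω₂).comp φ.range.subtype |>.codRestrict _ fun y => ⟨y, y.2, rfl⟩
        refine ⟨((i₁.comp (Subgroup.inclusion r1)).comp a).prod ((i₂.comp (Subgroup.inclusion r2)).comp b),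
          ⟨?_, _, F₁.restrict_mem hi₁ r1, _, F₂.restrict_mem hi₂ r2, fun y _ _ => rfl⟩, fun x => ?_⟩
        · rintro _ ⟨x, rfl⟩
          rw [he x (p1 P x).2 (p2 P x).2]
          exact ⟨F₁.apply_mem h1 _, F₂.apply_mem h2 _⟩
        · have hx := he x (p1 P x).2 (p2 P x).2
          refine Prod.ext ?_ ?_
          · show i₁ ⟨(φ x).1, _⟩ = _
            refine Eq.trans (congrArg i₁ (Subtype.ext (congrArg Prod.fst hx))) (il₁ (p1 P x) ⟨_, rfl⟩)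
          · show i₂ ⟨(φ x).2, _⟩ = _
            refine Eq.trans (congrArg i₂ (Subtype.ext (congrArg Prod.snd hx))) (il₂ (p2 P x) ⟨_, rfl⟩) }
  exact ⟨E, fun P φ => Iff.rfl⟩

end Cfsg.Agent.S5136
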