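import Cfsg.Statements.S5141
import Cfsg.Agent.Lib.Fusion.PrimeResidual.NormalResidual
-- import your own Cfsg.Agent.* helpers here

set_option autoImplicit false
open Cfsg

namespace Cfsg.Agent.S5141

/-- Let F be a saturated fusion system over a finite p-group S and E a weakly normal subsystem of F over T. Then the p'-residual subsystem of E (the least saturated subsystem of E over T of index prime to p) is normal in F. -/
theorem result {Ω : Type*} [Group Ω] {S : Subgroup Ω} [Finite S] (p : ℕ) [Fact p.Prime] (hS : IsPGroup p S) (F : Cfsg.FusionSystem S) (hF : F.IsSaturated p) {T : Subgroup Ω} (E : Cfsg.FusionSystem T) (hE : E.IsWeaklyNormalIn F p) (D : Cfsg.FusionSystem T) (hD : E.IsPPrimeResidual p D) : D.IsNormalIn F p := by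
  haveI := FusionSystem.finite_of_le hE.2.2.2.1.1
  have hT : IsPGroup p T := hS.to_le hE.2.2.2.1.1
  have hres := FusionSystem.PrimeResidual.residual_isPPrimeResidual (hS := hT) (hF := hE.1)
  have heq : D = FusionSystem.PrimeResidual.residual hT hE.1 := by
    have hle1 : D.IsSubsystemOf (FusionSystem.PrimeResidual.residual hT hE.1) := hD.2.2 _ hres.1 hres.2.1
    have hle2 : (FusionSystem.PrimeResidual.residual hT hE.1).IsSubsystemOf D := hres.2.2 _ hD.1 hD.2.1
    have h : D.Hom = (FusionSystem.PrimeResidual.residual hT hE.1).Hom :=
      funext fun P => Set.Subset.antisymm (hle1 P) (hle2 P)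
    revert h
    generalize FusionSystem.PrimeResidual.residual hT hE.1 = R
    intro h
    cases D
    cases R
    subst h
    rfl
  rw [heq]
  exact FusionSystem.PrimeResidual.residual_isNormalIn hS hT hE

end Cfsg.Agent.S5141
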