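import Cfsg.Statements.S5137
import Cfsg.Prelude.Def_FusionComponents
import Cfsg.Agent.Lib.Fusion.Saturation
-- import your own Cfsg.Agent.* helpers here

set_option autoImplicit false
open Cfsg

namespace Cfsg.Agent.S5137

open Cfsg Cfsg.FusionSystem

variable {Ω₁ Ω₂ : Type*} [Group Ω₁] [Group Ω₂] {S₁ : Subgroup Ω₁} {S₂ : Subgroup Ω₂}
  {F₁ : FusionSystem S₁} {F₂ : FusionSystem S₂} {E : FusionSystem (S₁.prod S₂)}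

/-- The stabiliser of `Q ≤ Q₁ × Q₂` in `Aut(Q₁) × Aut(Q₂)`. -/
def stab (Q₁ : Subgroup Ω₁) (Q₂ : Subgroup Ω₂) (Q : Subgroup (Ω₁ × Ω₂)) :
    Subgroup (MulAut Q₁ × MulAut Q₂) where
  carrier := {a | ∀ (u : Q₁) (v : Q₂), ((u : Ω₁), (v : Ω₂)) ∈ Q ↔ ((a.1 u : Ω₁), (a.2 v : Ω₂)) ∈ Q}
  one_mem' := fun u v => Iff.rfl
  mul_mem' := fun {a b} ha hb u v => (hb u v).trans (ha (b.1 u) (b.2 v))
  inv_mem' := fun {a} ha u v => by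
    have h := ha (a.1⁻¹ u) (a.2⁻¹ v)
    rw [MulAut.apply_inv_self, MulAut.apply_inv_self] at h
    exact h.symm

theorem mem_hom (hE : IsProductSystem F₁ F₂ E) {P : Subgroup (Ω₁ × Ω₂)} {Q₁ : Subgroup Ω₁} {Q₂ : Subgroup Ω₂}
    (h₁ : P.map (MonoidHom.fst Ω₁ Ω₂) = Q₁) (h₂ : P.map (MonoidHom.snd Ω₁ Ω₂) = Q₂)
    (hP : P ≤ S₁.prod S₂) {φ : P →* Ω₁ × Ω₂} :
    φ ∈ E.Hom P ↔ ∃ φ₁ ∈ F₁.Hom Q₁, ∃ φ₂ ∈ F₂.Hom Q₂,
      ∀ (x : P) (a : (x : Ω₁ × Ω₂).1 ∈ Q₁) (b : (x : Ω₁ × Ω₂).2 ∈ Q₂),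
        φ x = (φ₁ ⟨_, a⟩, φ₂ ⟨_, b⟩) := by
  subst h₁ h₂
  exact (hE P φ).trans ⟨fun h => h.2, fun h => ⟨hP, h⟩⟩

theorem le_prod_iff' {P : Subgroup (Ω₁ × Ω₂)} {Q₁ : Subgroup Ω₁} {Q₂ : Subgroup Ω₂}
    (h₁ : P.map (MonoidHom.fst Ω₁ Ω₂) = Q₁) (h₂ : P.map (MonoidHom.snd Ω₁ Ω₂) = Q₂)
    (x : P) : (x : Ω₁ × Ω₂).1 ∈ Q₁ ∧ (x : Ω₁ × Ω₂).2 ∈ Q₂ :=
  ⟨h₁ ▸ ⟨x, x.2, rfl⟩, h₂ ▸ ⟨x, x.2, rfl⟩⟩

/-- The product map on a subgroup. -/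
def pairHom {P : Subgroup (Ω₁ × Ω₂)} {Q₁ : Subgroup Ω₁} {Q₂ : Subgroup Ω₂}
    (h₁ : P.map (MonoidHom.fst Ω₁ Ω₂) = Q₁) (h₂ : P.map (MonoidHom.snd Ω₁ Ω₂) = Q₂)
    (φ₁ : Q₁ →* Ω₁) (φ₂ : Q₂ →* Ω₂) : P →* Ω₁ × Ω₂ :=
  (φ₁.comp (((MonoidHom.fst Ω₁ Ω₂).comp P.subtype).codRestrict Q₁ fun x => (le_prod_iff' h₁ h₂ x).1)).prod
    (φ₂.comp (((MonoidHom.snd Ω₁ Ω₂).comp P.subtype).codRestrict Q₂ fun x => (le_prod_iff' h₁ h₂ x).2))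

theorem pairHom_mem (hE : IsProductSystem F₁ F₂ E) {P : Subgroup (Ω₁ × Ω₂)} {Q₁ : Subgroup Ω₁} {Q₂ : Subgroup Ω₂}
    (h₁ : P.map (MonoidHom.fst Ω₁ Ω₂) = Q₁) (h₂ : P.map (MonoidHom.snd Ω₁ Ω₂) = Q₂)
    (hP : P ≤ S₁.prod S₂) {φ₁ : Q₁ →* Ω₁} (hφ₁ : φ₁ ∈ F₁.Hom Q₁) {φ₂ : Q₂ →* Ω₂} (hφ₂ : φ₂ ∈ F₂.Hom Q₂) :
    pairHom h₁ h₂ φ₁ φ₂ ∈ E.Hom P :=
  (mem_hom hE h₁ h₂ hP).mpr ⟨φ₁, hφ₁, φ₂, hφ₂, fun _ _ _ => rfl⟩

theorem pairHom_range {P : Subgroup (Ω₁ × Ω₂)} {Q₁ : Subgroup Ω₁} {Q₂ : Subgroup Ω₂}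
    (h₁ : P.map (MonoidHom.fst Ω₁ Ω₂) = Q₁) (h₂ : P.map (MonoidHom.snd Ω₁ Ω₂) = Q₂)
    (φ₁ : Q₁ →* Ω₁) (φ₂ : Q₂ →* Ω₂) :
    (pairHom h₁ h₂ φ₁ φ₂).range.map (MonoidHom.fst Ω₁ Ω₂) = φ₁.range ∧
      (pairHom h₁ h₂ φ₁ φ₂).range.map (MonoidHom.snd Ω₁ Ω₂) = φ₂.range := by
  constructor
  · ext y
    constructor
    · rintro ⟨_, ⟨x, rfl⟩, rfl⟩
      exact ⟨_, rfl⟩
    · rintro ⟨⟨u, hu⟩, rfl⟩
      rw [← h₁] at hu
      obtain ⟨x, hx, rfl⟩ := hu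
      exact ⟨_, ⟨⟨x, hx⟩, rfl⟩, rfl⟩
  · ext y
    constructor
    · rintro ⟨_, ⟨x, rfl⟩, rfl⟩
      exact ⟨_, rfl⟩
    · rintro ⟨⟨u, hu⟩, rfl⟩
      rw [← h₂] at hu
      obtain ⟨x, hx, rfl⟩ := hu
      exact ⟨_, ⟨⟨x, hx⟩, rfl⟩, rfl⟩

theorem extender_fst {P : Subgroup (Ω₁ × Ω₂)} {P₁ : Subgroup Ω₁} (h₁ : P.map (MonoidHom.fst Ω₁ Ω₂) = P₁)
    {φ : P →* Ω₁ × Ω₂} {φ₁ : P₁ →* Ω₁} (hφ : ∀ x, φ x ∈ S₁.prod S₂) (hφ₁ : ∀ x, φ₁ x ∈ S₁)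
    (he : ∀ (x : P) (a : (x : Ω₁ × Ω₂).1 ∈ P₁), (φ x).1 = φ₁ ⟨_, a⟩) {g : Ω₁ × Ω₂}
    (hg : g ∈ extender (S₁.prod S₂) P φ) : g.1 ∈ extender S₁ P₁ φ₁ := by
  obtain ⟨hgS, hgN, h, hh, hhe⟩ := (mem_extender_iff hφ).mp hg
  have hN := Subgroup.mem_normalizer_iff.mp hgN
  have hmem : ∀ x : P, g * (x : Ω₁ × Ω₂) * g⁻¹ ∈ P := fun x => (hN x).mp x.2
  refine (mem_extender_iff hφ₁).mpr ⟨hgS.1, Subgroup.mem_normalizer_iff.mpr fun u => ?_, h.1, hh.1, ?_⟩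
  · rw [← h₁]
    constructor
    · rintro ⟨x, hx, rfl⟩
      exact ⟨_, (hN x).mp hx, rfl⟩
    · rintro ⟨x, hx, hxe⟩
      refine ⟨g⁻¹ * x * g, (Subgroup.mem_normalizer_iff''.mp hgN x).mp hx, ?_⟩
      show g.1⁻¹ * x.1 * g.1 = u
      rw [show x.1 = g.1 * u * g.1⁻¹ from hxe]
      group
  · rintro ⟨u, hu⟩ hx
    obtain ⟨x, hxP, rfl⟩ : u ∈ P.map (MonoidHom.fst Ω₁ Ω₂) := h₁ ▸ hu
    have h3 := congrArg Prod.fst (hhe ⟨x, hxP⟩ (hmem ⟨x, hxP⟩))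
    have h4 := he ⟨g * x * g⁻¹, hmem ⟨x, hxP⟩⟩ hx
    have h5 := he ⟨x, hxP⟩ hu
    refine h4.symm.trans (h3.trans ?_)
    show h.1 * (φ ⟨x, hxP⟩).1 * h.1⁻¹ = _
    rw [h5]
    rfl

theorem extender_snd {P : Subgroup (Ω₁ × Ω₂)} {P₂ : Subgroup Ω₂} (h₂ : P.map (MonoidHom.snd Ω₁ Ω₂) = P₂)
    {φ : P →* Ω₁ × Ω₂} {φ₂ : P₂ →* Ω₂} (hφ : ∀ x, φ x ∈ S₁.prod S₂) (hφ₂ : ∀ x, φ₂ x ∈ S₂)
    (he : ∀ (x : P) (a : (x : Ω₁ × Ω₂).2 ∈ P₂), (φ x).2 = φ₂ ⟨_, a⟩) {g : Ω₁ × Ω₂}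
    (hg : g ∈ extender (S₁.prod S₂) P φ) : g.2 ∈ extender S₂ P₂ φ₂ := by
  obtain ⟨hgS, hgN, h, hh, hhe⟩ := (mem_extender_iff hφ).mp hg
  have hN := Subgroup.mem_normalizer_iff.mp hgN
  have hmem : ∀ x : P, g * (x : Ω₁ × Ω₂) * g⁻¹ ∈ P := fun x => (hN x).mp x.2
  refine (mem_extender_iff hφ₂).mpr ⟨hgS.2, Subgroup.mem_normalizer_iff.mpr fun u => ?_, h.2, hh.2, ?_⟩
  · rw [← h₂]
    constructor
    · rintro ⟨x, hx, rfl⟩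
      exact ⟨_, (hN x).mp hx, rfl⟩
    · rintro ⟨x, hx, hxe⟩
      refine ⟨g⁻¹ * x * g, (Subgroup.mem_normalizer_iff''.mp hgN x).mp hx, ?_⟩
      show g.2⁻¹ * x.2 * g.2 = u
      rw [show x.2 = g.2 * u * g.2⁻¹ from hxe]
      group
  · rintro ⟨u, hu⟩ hx
    obtain ⟨x, hxP, rfl⟩ : u ∈ P.map (MonoidHom.snd Ω₁ Ω₂) := h₂ ▸ hu
    have h3 := congrArg Prod.snd (hhe ⟨x, hxP⟩ (hmem ⟨x, hxP⟩))
    have h4 := he ⟨g * x * g⁻¹, hmem ⟨x, hxP⟩⟩ hx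
    have h5 := he ⟨x, hxP⟩ hu
    refine h4.symm.trans (h3.trans ?_)
    show h.2 * (φ ⟨x, hxP⟩).2 * h.2⁻¹ = _
    rw [h5]
    rfl

theorem prod_isSaturated [Finite S₁] [Finite S₂] {p : ℕ} [Fact p.Prime] (hS₁ : IsPGroup p S₁) (hS₂ : IsPGroup p S₂)
    (hF₁ : F₁.IsSaturated p) (hF₂ : F₂.IsSaturated p) (hE : IsProductSystem F₁ F₂ E) : E.IsSaturated p := by
  classical
  have hfinS : Finite (S₁.prod S₂) := Finite.of_equiv _ (Subgroup.prodEquiv S₁ S₂).symm.toEquiv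
  have hS : IsPGroup p (S₁.prod S₂) := by
    rintro ⟨⟨u, v⟩, hu, hv⟩
    obtain ⟨k, hk⟩ := hS₁ ⟨u, hu⟩
    obtain ⟨l, hl⟩ := hS₂ ⟨v, hv⟩
    refine ⟨k + l, Subtype.ext (Prod.ext ?_ ?_)⟩
    · show u ^ p ^ (k + l) = 1
      rw [pow_add, pow_mul, show u ^ p ^ k = 1 from congrArg Subtype.val hk, one_pow]
    · show v ^ p ^ (k + l) = 1
      rw [add_comm, pow_add, pow_mul, show v ^ p ^ l = 1 from congrArg Subtype.val hl, one_pow]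
  intro P hP
  set P₁ := P.map (MonoidHom.fst Ω₁ Ω₂) with hP₁
  set P₂ := P.map (MonoidHom.snd Ω₁ Ω₂) with hP₂
  have hP₁S : P₁ ≤ S₁ := by rintro _ ⟨x, hx, rfl⟩; exact (hP hx).1
  have hP₂S : P₂ ≤ S₂ := by rintro _ ⟨x, hx, rfl⟩; exact (hP hx).2
  obtain ⟨Q₁, ⟨θ₁, hθ₁, hr₁⟩, hn₁⟩ := F₁.exists_isFullyNormalized hP₁S
  obtain ⟨Q₂, ⟨θ₂, hθ₂, hr₂⟩, hn₂⟩ := F₂.exists_isFullyNormalized hP₂S
  have hΘ := pairHom_mem hE hP₁.symm hP₂.symm hP hθ₁ hθ₂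
  set Q := (pairHom hP₁.symm hP₂.symm θ₁ θ₂).range with hQdef
  have hQS : Q ≤ S₁.prod S₂ := E.range_le hΘ
  have hQ₁ : Q.map (MonoidHom.fst Ω₁ Ω₂) = Q₁ := (pairHom_range _ _ θ₁ θ₂).1.trans hr₁
  have hQ₂ : Q.map (MonoidHom.snd Ω₁ Ω₂) = Q₂ := (pairHom_range _ _ θ₁ θ₂).2.trans hr₂
  have := finite_of_le hn₁.1
  have := finite_of_le hn₂.1
  have := finite_mulAut_of_le hn₁.1
  have := finite_mulAut_of_le hn₂.1
  set A₁ := F₁.autGroup Q₁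
  set A₂ := F₂.autGroup Q₂
  set T₁ := autInducedBy S₁ Q₁
  set T₂ := autInducedBy S₂ Q₂
  set A := A₁.prod A₂
  obtain ⟨-, R₁, hR₁⟩ := hF₁.isFullyAutomized_of_isFullyNormalized hS₁ hn₁
  obtain ⟨-, R₂, hR₂⟩ := hF₂.isFullyAutomized_of_isFullyNormalized hS₂ hn₂
  have hT₁ : T₁ ≤ A₁ := autInducedBy_le_autGroup hn₁.1
  have hT₂ : T₂ ≤ A₂ := autInducedBy_le_autGroup hn₂.1
  set T := T₁.prod T₂
  have hTp : IsPGroup p T := by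
    rintro ⟨⟨u, v⟩, hu, hv⟩
    obtain ⟨k, hk⟩ := isPGroup_autInducedBy hS₁ ⟨u, hu⟩
    obtain ⟨l, hl⟩ := isPGroup_autInducedBy hS₂ ⟨v, hv⟩
    refine ⟨k + l, Subtype.ext (Prod.ext ?_ ?_)⟩
    · show u ^ p ^ (k + l) = 1
      rw [pow_add, pow_mul, show u ^ p ^ k = 1 from congrArg Subtype.val hk, one_pow]
    · show v ^ p ^ (k + l) = 1
      rw [add_comm, pow_add, pow_mul, show v ^ p ^ l = 1 from congrArg Subtype.val hl, one_pow]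
  have hTA : T ≤ A := Subgroup.prod_mono hT₁ hT₂
  have hTsyl : ∃ R : Sylow p A, (R : Subgroup A) = T.subgroupOf A := by
    refine ⟨(hTp.of_equiv (Subgroup.subgroupOfEquivOfLe hTA).symm).toSylow ?_, rfl⟩
    have h1 : T.relIndex A = T₁.relIndex A₁ * T₂.relIndex A₂ := by
      have e1 : Nat.card (T.subgroupOf A) * T.relIndex A = Nat.card A := Subgroup.card_mul_index _
      have e2 : Nat.card (T₁.subgroupOf A₁) * T₁.relIndex A₁ = Nat.card A₁ := Subgroup.card_mul_index _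
      have e3 : Nat.card (T₂.subgroupOf A₂) * T₂.relIndex A₂ = Nat.card A₂ := Subgroup.card_mul_index _
      rw [Nat.card_congr (Subgroup.subgroupOfEquivOfLe hTA).toEquiv, Nat.card_congr (Subgroup.prodEquiv T₁ T₂).toEquiv,
        Nat.card_congr (Subgroup.prodEquiv A₁ A₂).toEquiv, Nat.card_prod, Nat.card_prod] at e1
      rw [Nat.card_congr (Subgroup.subgroupOfEquivOfLe hT₁).toEquiv] at e2
      rw [Nat.card_congr (Subgroup.subgroupOfEquivOfLe hT₂).toEquiv] at e3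
      rw [← e2, ← e3, mul_mul_mul_comm] at e1
      exact Nat.eq_of_mul_eq_mul_left (Nat.mul_pos Nat.card_pos Nat.card_pos) e1
    show ¬ p ∣ T.relIndex A
    rw [h1]
    have n1 : ¬ p ∣ T₁.relIndex A₁ := by
      have := R₁.not_dvd_index
      rwa [hR₁] at this
    have n2 : ¬ p ∣ T₂.relIndex A₂ := by
      have := R₂.not_dvd_index
      rwa [hR₂] at this
    exact Nat.Prime.not_dvd_mul Fact.out n1 n2
  obtain ⟨R, hR⟩ := hTsyl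
  -- move a Sylow subgroup of the stabiliser into `T`
  set K := (stab Q₁ Q₂ Q).subgroupOf A
  obtain ⟨W⟩ : Nonempty (Sylow p K) := inferInstance
  obtain ⟨a, ha⟩ := exists_conj_mem_sylow R (W.2.map K.subtype)
  obtain ⟨⟨a₁, a₂⟩, ha₁, ha₂⟩ := a
  have hψ₁ := (F₁.mem_autGroup_iff hn₁.1).mp ha₁
  have hψ₂ := (F₂.mem_autGroup_iff hn₂.1).mp ha₂
  have hΨ := pairHom_mem hE hQ₁ hQ₂ hQS hψ₁ hψ₂
  set Q' := (pairHom hQ₁ hQ₂ (Q₁.subtype.comp a₁.toMonoidHom) (Q₂.subtype.comp a₂.toMonoidHom)).range with hQ'def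
  have hQ'S : Q' ≤ S₁.prod S₂ := E.range_le hΨ
  have hQ'₁ : Q'.map (MonoidHom.fst Ω₁ Ω₂) = Q₁ := by
    rw [hQ'def, (pairHom_range _ _ _ _).1]
    ext y
    exact ⟨fun ⟨x, hx⟩ => hx ▸ (a₁ x).2, fun hy => ⟨a₁.symm ⟨y, hy⟩, by simp⟩⟩
  have hQ'₂ : Q'.map (MonoidHom.snd Ω₁ Ω₂) = Q₂ := by
    rw [hQ'def, (pairHom_range _ _ _ _).2]
    ext y
    exact ⟨fun ⟨x, hx⟩ => hx ▸ (a₂ x).2, fun hy => ⟨a₂.symm ⟨y, hy⟩, by simp⟩⟩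
  have hQ'mem : ∀ (u : Q₁) (v : Q₂), ((a₁ u : Ω₁), (a₂ v : Ω₂)) ∈ Q' ↔ ((u : Ω₁), (v : Ω₂)) ∈ Q := by
    intro u v
    constructor
    · rintro ⟨⟨⟨x, y⟩, hxy⟩, he⟩
      have e1 : a₁ ⟨x, (le_prod_iff' hQ₁ hQ₂ ⟨(x, y), hxy⟩).1⟩ = a₁ u := Subtype.ext (congrArg Prod.fst he)
      have e2 : a₂ ⟨y, (le_prod_iff' hQ₁ hQ₂ ⟨(x, y), hxy⟩).2⟩ = a₂ v := Subtype.ext (congrArg Prod.snd he)
      rw [← a₁.injective e1, ← a₂.injective e2]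
      exact hxy
    · intro h
      exact ⟨⟨_, h⟩, rfl⟩
  refine ⟨Q', Cfsg.FusionSystem.IsConj.trans (F := E) (Q := Q) ⟨_, hΘ, rfl⟩ ⟨_, hΨ, rfl⟩, ⟨hQ'S, ?_⟩, ⟨hQ'S, ?_⟩⟩
  · -- fully automized
    set K' := (stab Q₁ Q₂ Q').subgroupOf A
    have hK' : K.map (MulAut.conj (⟨(a₁, a₂), ha₁, ha₂⟩ : A)).toMonoidHom = K' := by
      ext x
      obtain ⟨⟨x₁, x₂⟩, hx⟩ := x
      rw [Subgroup.mem_map_equiv]
      show ((a₁, a₂)⁻¹ * (x₁, x₂) * (a₁, a₂)) ∈ stab Q₁ Q₂ Q ↔ (x₁, x₂) ∈ stab Q₁ Q₂ Q'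
      constructor
      · intro h u v
        have h' := h (a₁⁻¹ u) (a₂⁻¹ v)
        rw [← hQ'mem, ← hQ'mem] at h'
        simpa [MulAut.mul_apply] using h'
      · intro h u v
        rw [← hQ'mem, ← hQ'mem]
        simpa [MulAut.mul_apply] using h (a₁ u) (a₂ v)
    let res : K' →* MulAut Q' :=
      { toFun := fun k =>
          { toFun := fun z => ⟨(((k : A).1.1 ⟨_, (le_prod_iff' hQ'₁ hQ'₂ z).1⟩ : Q₁), ((k : A).1.2 ⟨_, (le_prod_iff' hQ'₁ hQ'₂ z).2⟩ : Q₂)),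
              (k.2 _ _).mp z.2⟩
            invFun := fun z => ⟨(((k⁻¹ : K') : A).1.1 ⟨_, (le_prod_iff' hQ'₁ hQ'₂ z).1⟩, ((k⁻¹ : K') : A).1.2 ⟨_, (le_prod_iff' hQ'₁ hQ'₂ z).2⟩),
              ((k⁻¹ : K').2 _ _).mp z.2⟩
            left_inv := fun z => Subtype.ext (Prod.ext (by simp) (by simp))
            right_inv := fun z => Subtype.ext (Prod.ext (by simp) (by simp))
            map_mul' := fun z w => Subtype.ext (Prod.ext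
              (congrArg Subtype.val (map_mul (k : A).1.1 ⟨_, (le_prod_iff' hQ'₁ hQ'₂ z).1⟩ ⟨_, (le_prod_iff' hQ'₁ hQ'₂ w).1⟩))
              (congrArg Subtype.val (map_mul (k : A).1.2 ⟨_, (le_prod_iff' hQ'₁ hQ'₂ z).2⟩ ⟨_, (le_prod_iff' hQ'₁ hQ'₂ w).2⟩))) }
        map_one' := by ext z <;> rfl
        map_mul' := fun k l => by ext z <;> rfl }
    have hres : res.range = E.autGroup Q' := by
      ext β
      constructor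
      · rintro ⟨k, rfl⟩
        refine (E.mem_autGroup_iff hQ'S).mpr ((mem_hom hE hQ'₁ hQ'₂ hQ'S).mpr
          ⟨_, (F₁.mem_autGroup_iff hn₁.1).mp (k : A).2.1, _, (F₂.mem_autGroup_iff hn₂.1).mp (k : A).2.2, fun _ _ _ => rfl⟩)
      · intro hβ
        obtain ⟨φ₁, hφ₁, φ₂, hφ₂, he⟩ := (mem_hom hE hQ'₁ hQ'₂ hQ'S).mp ((E.mem_autGroup_iff hQ'S).mp hβ)
        have hr₁' : φ₁.range = Q₁ := by
          ext y
          constructor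
          · rintro ⟨⟨u, hu⟩, rfl⟩
            obtain ⟨x, hx, rfl⟩ : u ∈ Q'.map (MonoidHom.fst Ω₁ Ω₂) := hQ'₁.ge hu
            have := congrArg Prod.fst (he ⟨x, hx⟩ hu (le_prod_iff' hQ'₁ hQ'₂ ⟨x, hx⟩).2)
            exact (congrArg (· ∈ Q₁) this).mp (le_prod_iff' hQ'₁ hQ'₂ (β ⟨x, hx⟩)).1
          · intro hy
            obtain ⟨x, hx, rfl⟩ : y ∈ Q'.map (MonoidHom.fst Ω₁ Ω₂) := hQ'₁.ge hy
            have := congrArg Prod.fst (he (β.symm ⟨x, hx⟩) (le_prod_iff' hQ'₁ hQ'₂ _).1 (le_prod_iff' hQ'₁ hQ'₂ _).2)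
            simp only [MonoidHom.coe_comp, Function.comp_apply, MulEquiv.coe_toMonoidHom, MulEquiv.apply_symm_apply, Subgroup.coe_subtype] at this
            exact ⟨_, this.symm⟩
        have hr₂' : φ₂.range = Q₂ := by
          ext y
          constructor
          · rintro ⟨⟨u, hu⟩, rfl⟩
            obtain ⟨x, hx, rfl⟩ : u ∈ Q'.map (MonoidHom.snd Ω₁ Ω₂) := hQ'₂.ge hu
            have := congrArg Prod.snd (he ⟨x, hx⟩ (le_prod_iff' hQ'₁ hQ'₂ ⟨x, hx⟩).1 hu)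
            exact (congrArg (· ∈ Q₂) this).mp (le_prod_iff' hQ'₁ hQ'₂ (β ⟨x, hx⟩)).2
          · intro hy
            obtain ⟨x, hx, rfl⟩ : y ∈ Q'.map (MonoidHom.snd Ω₁ Ω₂) := hQ'₂.ge hy
            have := congrArg Prod.snd (he (β.symm ⟨x, hx⟩) (le_prod_iff' hQ'₁ hQ'₂ _).1 (le_prod_iff' hQ'₁ hQ'₂ _).2)
            simp only [MonoidHom.coe_comp, Function.comp_apply, MulEquiv.coe_toMonoidHom, MulEquiv.apply_symm_apply, Subgroup.coe_subtype] at this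
            exact ⟨_, this.symm⟩
        let k : A := ⟨(F₁.isoOf hφ₁ hr₁', F₂.isoOf hφ₂ hr₂'),
          F₁.isoOf_mem_autGroup hφ₁ hr₁', F₂.isoOf_mem_autGroup hφ₂ hr₂'⟩
        have hk : k ∈ K' := by
          intro u v
          constructor
          · intro h
            have := (β ⟨_, h⟩).2
            have e := he ⟨_, h⟩ u.2 v.2
            simp only [MonoidHom.coe_comp, Function.comp_apply, MulEquiv.coe_toMonoidHom, Subgroup.coe_subtype] at e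
            rw [e] at this
            exact this
          · intro h
            obtain ⟨z, hz⟩ := β.surjective ⟨_, h⟩
            have e := he z (le_prod_iff' hQ'₁ hQ'₂ z).1 (le_prod_iff' hQ'₁ hQ'₂ z).2
            simp only [MonoidHom.coe_comp, Function.comp_apply, MulEquiv.coe_toMonoidHom, Subgroup.coe_subtype, hz] at e
            have e1 : (⟨_, (le_prod_iff' hQ'₁ hQ'₂ z).1⟩ : Q₁) = u :=
              F₁.injective_of_mem hφ₁ (congrArg Prod.fst e).symm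
            have e2 : (⟨_, (le_prod_iff' hQ'₁ hQ'₂ z).2⟩ : Q₂) = v :=
              F₂.injective_of_mem hφ₂ (congrArg Prod.snd e).symm
            rw [← e1, ← e2]
            exact z.2
        refine ⟨⟨k, hk⟩, MulEquiv.ext fun z => Subtype.ext ?_⟩
        exact (he z (le_prod_iff' hQ'₁ hQ'₂ z).1 (le_prod_iff' hQ'₁ hQ'₂ z).2).symm
    -- Sylow subgroup of `K'` inside `T`
    set W' : Subgroup K' := ((W : Subgroup K).map K.subtype |>.map (MulAut.conj (⟨(a₁, a₂), ha₁, ha₂⟩ : A)).toMonoidHom).subgroupOf K'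
    have hWK : ((W : Subgroup K).map K.subtype).map (MulAut.conj (⟨(a₁, a₂), ha₁, ha₂⟩ : A)).toMonoidHom ≤ K' :=
      (Subgroup.map_mono (Subgroup.map_subtype_le _)).trans hK'.le
    have hW'T : ∀ k ∈ W', ((k : A) : MulAut Q₁ × MulAut Q₂) ∈ T := by
      intro k hk
      obtain ⟨z, hz, hze⟩ := hk
      have := ha z hz
      rw [hR] at this
      have h' : (k : A) = (⟨(a₁, a₂), ha₁, ha₂⟩ : A) * z * (⟨(a₁, a₂), ha₁, ha₂⟩ : A)⁻¹ := hze.symm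
      rw [h']
      exact this
    have hW'idx : ¬ p ∣ W'.index := by
      have h1 : ((W : Subgroup K).map K.subtype).relIndex K = (W : Subgroup K).index := by
        rw [Subgroup.relIndex, Subgroup.subgroupOf, Subgroup.comap_map_eq_self_of_injective K.subtype_injective]
      show ¬ p ∣ (((W : Subgroup K).map K.subtype).map (MulAut.conj (⟨(a₁, a₂), ha₁, ha₂⟩ : A)).toMonoidHom).relIndex K'
      rw [← hK', Subgroup.relIndex_map_map_of_injective _ _ (MulEquiv.injective (MulAut.conj (⟨(a₁, a₂), ha₁, ha₂⟩ : A))), h1]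
      exact W.not_dvd_index
    have hfinE := finite_autGroup (F := E) hQ'S
    have hW'le : W'.map res ≤ autInducedBy (S₁.prod S₂) Q' := by
      rintro _ ⟨k, hk, rfl⟩
      obtain ⟨hk₁, hk₂⟩ := hW'T k hk
      obtain ⟨g₁, hg₁, -, hge₁⟩ := mem_autInducedBy_iff.mp hk₁
      obtain ⟨g₂, hg₂, -, hge₂⟩ := mem_autInducedBy_iff.mp hk₂
      refine Subgroup.subset_closure ⟨(g₁, g₂), ⟨hg₁, hg₂⟩, fun z => ?_⟩
      exact Prod.ext (hge₁ _) (hge₂ _)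
    refine ⟨(((isPGroup_autInducedBy hS).of_equiv (Subgroup.subgroupOfEquivOfLe (autInducedBy_le_autGroup hQ'S)).symm)).toSylow ?_, rfl⟩
    intro hd
    have h1 : (autInducedBy (S₁.prod S₂) Q').relIndex (E.autGroup Q') ∣ W'.index := by
      refine (Subgroup.relIndex_dvd_of_le_left _ hW'le).trans ?_
      rw [← hres, MonoidHom.range_eq_map, Subgroup.relIndex_map_map, ← Subgroup.relIndex_top_right]
      simp only [top_sup_eq]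
      exact Subgroup.relIndex_dvd_of_le_left _ le_sup_left
    exact hW'idx (hd.trans h1)
  · -- receptive
    intro X φ hφ hr
    have hXS := E.source_le hφ
    obtain ⟨φ₁, hφ₁, φ₂, hφ₂, he⟩ := (mem_hom hE rfl rfl hXS).mp hφ
    have hφr : φ = pairHom rfl rfl φ₁ φ₂ :=
      MonoidHom.ext fun x => he x (le_prod_iff' rfl rfl x).1 (le_prod_iff' rfl rfl x).2
    have hφ₁r : φ₁.range = Q₁ := by rw [← hQ'₁, ← hr, hφr, (pairHom_range _ _ _ _).1]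
    have hφ₂r : φ₂.range = Q₂ := by rw [← hQ'₂, ← hr, hφr, (pairHom_range _ _ _ _).2]
    obtain ⟨ψ₁, hψ₁', he₁⟩ := (hF₁.isReceptive_of_isFullyNormalized hS₁ hn₁).2 _ φ₁ hφ₁ hφ₁r
    obtain ⟨ψ₂, hψ₂', he₂⟩ := (hF₂.isReceptive_of_isFullyNormalized hS₂ hn₂).2 _ φ₂ hφ₂ hφ₂r
    set N := extender (S₁.prod S₂) X φ
    have hN₁ : N.map (MonoidHom.fst Ω₁ Ω₂) ≤ extender S₁ _ φ₁ := by
      rintro _ ⟨g, hg, rfl⟩
      exact extender_fst rfl (E.apply_mem hφ) (F₁.apply_mem hφ₁)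
        (fun x a => congrArg Prod.fst (he x a (le_prod_iff' rfl rfl x).2)) hg
    have hN₂ : N.map (MonoidHom.snd Ω₁ Ω₂) ≤ extender S₂ _ φ₂ := by
      rintro _ ⟨g, hg, rfl⟩
      exact extender_snd rfl (E.apply_mem hφ) (F₂.apply_mem hφ₂)
        (fun x a => congrArg Prod.snd (he x (le_prod_iff' rfl rfl x).1 a)) hg
    refine ⟨_, pairHom_mem hE rfl rfl (fun g hg => ((mem_extender_iff (E.apply_mem hφ)).mp hg).1)
      (F₁.restrict_mem hψ₁' hN₁) (F₂.restrict_mem hψ₂' hN₂), fun x hX hN => ?_⟩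
    rw [he ⟨x, hX⟩ (le_prod_iff' rfl rfl ⟨x, hX⟩).1 (le_prod_iff' rfl rfl ⟨x, hX⟩).2]
    exact Prod.ext (he₁ _ _ _) (he₂ _ _ _)

/-- Let F₁ and F₂ be saturated fusion systems over finite p-groups S₁ and S₂. Then their direct product (the fusion system over S₁ × S₂ whose maps are the restrictions of the product maps (φ₁, φ₂)) is saturated. -/
theorem result {Ω₁ Ω₂ : Type*} [Group Ω₁] [Group Ω₂] {S₁ : Subgroup Ω₁} {S₂ : Subgroup Ω₂} [Finite S₁] [Finite S₂] (p : ℕ) [Fact p.Prime] (h₁ : IsPGroup p S₁) (h₂ : IsPGroup p S₂) (F₁ : Cfsg.FusionSystem S₁) (F₂ : Cfsg.FusionSystem S₂) (hF₁ : F₁.IsSaturated p) (hF₂ : F₂.IsSaturated p) (E : Cfsg.FusionSystem (S₁.prod S₂)) (hE : Cfsg.FusionSystem.IsProductSystem F₁ F₂ E) : E.IsSaturated p := by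
  exact prod_isSaturated h₁ h₂ hF₁ hF₂ hE

end Cfsg.Agent.S5137
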