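import Cfsg.Statements.S5124
import Cfsg.Agent.Lib.Fusion.Hyperfocal
-- import your own Cfsg.Agent.* helpers here

set_option autoImplicit false
open Cfsg

namespace Cfsg.Agent.S5124

theorem aux {Ω : Type*} [Group Ω] {S : Subgroup Ω} [Finite S] (p : ℕ) [Fact p.Prime] (hS : IsPGroup p S)
    (F : Cfsg.FusionSystem S) (hF : F.IsSaturated p) : F.StronglyClosed (F.hyperfocalSubgroup p) := by
  set H := F.hyperfocalSubgroup p with hHdef
  have hHS : H ≤ S := F.hyperfocalSubgroup_le
  have hnorm : ∀ s ∈ S, ∀ x ∈ H, s * x * s⁻¹ ∈ H := by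
    intro s hs
    suffices H ≤ H.comap (MulAut.conj s).toMonoidHom from fun x hx => this hx
    refine Cfsg.FusionSystem.hyperfocalSubgroup_le_iff.mpr fun P hP α hα hp x => ?_
    have hφ := F.conj_mem hP hs
    let i : P ≃* (Cfsg.conjHom P s).range := F.isoOf hφ rfl
    have hβ : (MulAut.congr i) α ∈ F.autGroup (Cfsg.conjHom P s).range := by
      rw [← F.autGroup_map_congr hφ rfl]
      exact ⟨α, hα, rfl⟩
    have h1 := Cfsg.FusionSystem.hyperfocal_gen_mem (p := p) (F.range_le hφ) hβ
      (by rwa [MulEquiv.orderOf_eq]) (i x)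
    have h2 : (MulAut.congr i α) (i x) = i (α x) := by simp [MulAut.congr]
    rw [h2, Cfsg.FusionSystem.coe_isoOf, Cfsg.FusionSystem.coe_isoOf] at h1
    show s * ((x : Ω)⁻¹ * ((α x : P) : Ω)) * s⁻¹ ∈ H
    convert h1 using 1
    simp only [Cfsg.FusionSystem.conjHom_apply]
    group
  let E : Cfsg.FusionSystem S :=
    { Hom := fun P => {φ | φ ∈ F.Hom P ∧ ∀ x : P, (x : Ω) ∈ H ↔ φ x ∈ H}
      le_of_mem := fun h => F.le_of_mem h.1
      injective_of_mem := fun h => F.injective_of_mem h.1
      conj_mem := fun {P g} hP hg => ⟨F.conj_mem hP hg, fun x => ⟨hnorm g hg x, fun h => by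
        have := hnorm g⁻¹ (InvMemClass.inv_mem hg) _ h
        simpa [Cfsg.FusionSystem.conjHom_apply, mul_assoc] using this⟩⟩
      comp_mem := fun {P Q φ ψ} hφ hψ h => ⟨F.comp_mem hφ.1 hψ.1 h,
        fun x => (hφ.2 x).trans (hψ.2 ⟨φ x, h x⟩)⟩
      inv_mem := fun {P φ} hφ => by
        obtain ⟨ψ, hψ, hl⟩ := F.inv_mem hφ.1
        refine ⟨ψ, ⟨hψ, ?_⟩, hl⟩
        rintro ⟨_, x, rfl⟩
        rw [hl]
        exact (hφ.2 x).symm }
  have key : F ≤ E := by
    refine hF.le_of_autGroup_le hS E fun P hP => ?_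
    have hPS : P ≤ S := by
      rcases hP with rfl | hP
      exacts [le_rfl, hP.2.1.1]
    have hn : F.IsFullyNormalized P := by
      rcases hP with rfl | hP
      exacts [Cfsg.FusionSystem.isFullyNormalized_self, hP.2.1]
    obtain ⟨-, R, hR⟩ := hF.isFullyAutomized_of_isFullyNormalized hS hn
    have := Cfsg.FusionSystem.finite_autGroup (F := F) hPS
    have h1 : Cfsg.pResidual p (F.autGroup P) ≤ (E.autGroup P).subgroupOf (F.autGroup P) := by
      rw [Cfsg.pResidual, Subgroup.closure_le]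
      intro β hβ
      refine (E.mem_autGroup_iff hPS).mpr ⟨(F.mem_autGroup_iff hPS).mp β.2, fun x => ?_⟩
      have hm : (x : Ω)⁻¹ * ((β : MulAut P) x : P) ∈ H :=
        Cfsg.FusionSystem.hyperfocal_gen_mem hPS β.2 (by rwa [Subgroup.orderOf_coe]) x
      constructor
      · intro hx
        have := H.mul_mem hx hm
        rwa [mul_inv_cancel_left] at this
      · intro hx
        have := H.mul_mem hx (H.inv_mem hm)
        simpa [mul_inv_rev] using this
    have h2 : (R : Subgroup (F.autGroup P)) ≤ (E.autGroup P).subgroupOf (F.autGroup P) := by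
      rw [hR]
      exact fun β hβ => Cfsg.FusionSystem.autInducedBy_le_autGroup hPS hβ
    intro α hα
    have h3 := sup_le h2 h1
    rw [CfsgLib.Transfer.sylow_sup_pResidual R] at h3
    exact h3 (x := ⟨α, hα⟩) trivial
  exact ⟨hHS, fun R hR φ hφ x => ((key R hφ).2 x).mp (hR x.2)⟩

/-- In a saturated fusion system over a finite p-group S the hyperfocal subgroup is strongly closed in the system. -/
theorem result {Ω : Type*} [Group Ω] {S : Subgroup Ω} [Finite S] (p : ℕ) [Fact p.Prime] (hS : IsPGroup p S) (F : Cfsg.FusionSystem S) (hF : F.IsSaturated p) : F.StronglyClosed (F.hyperfocalSubgroup p) := by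
  exact aux p hS F hF

end Cfsg.Agent.S5124
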