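import Cfsg.Statements.S5276
import Cfsg.Agent.Lib.Fusion.Transfer.Frattini
import Cfsg.Agent.Lib.Fusion.ZJCriterion
-- import your own Cfsg.Agent.* helpers here

set_option autoImplicit false
open Cfsg

namespace Cfsg.Agent.S5276

/-- Let p be a prime and F a saturated fusion system over a finite p-group S. Then F is the inner fusion system of S if and only if the normalizer fusion system of S itself in F is the inner fusion system (equivalently, Aut_F(S) is induced by S) and the Frattini subgroup Φ(S) is strongly closed in F. -/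
theorem result {Ω : Type*} [Group Ω] {S : Subgroup Ω} [Finite S] (p : ℕ) [Fact p.Prime] (hS : IsPGroup p ↥S) (F : Cfsg.FusionSystem S) (hF : F.IsSaturated p) : (∀ P : Subgroup Ω, F.Hom P = (Cfsg.innerFusionSystem S).Hom P) ↔ (∀ N : Cfsg.FusionSystem (Cfsg.FusionSystem.normalizerIn S S), F.IsNormalizerSystem S N → ∀ P : Subgroup Ω, N.Hom P = (Cfsg.innerFusionSystem (Cfsg.FusionSystem.normalizerIn S S)).Hom P) ∧ F.StronglyClosed ((frattini ↥S).map S.subtype) := by
  open Cfsg Cfsg.FusionSystem in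
  open scoped commutatorElement in
  have hfrS : (frattini S).map S.subtype ≤ S := Subgroup.map_subtype_le _
  refine ⟨fun h => ⟨fun N hN P => ?_, hfrS, fun R hR φ hφ x => ?_⟩, fun ⟨hN, hT⟩ => ?_⟩
  · exact (hN.isInner (normalizerInner_of_isInner (isInner_of_hom_eq h) le_rfl)).hom_eq P
  · rw [h R] at hφ
    obtain ⟨-, g, hg, hge⟩ := hφ
    obtain ⟨y, hy, e⟩ := hR x.2
    rw [hge x, ← e]
    exact ⟨⟨g, hg⟩ * y * ⟨g, hg⟩⁻¹, (inferInstance : (frattini S).Normal).conj_mem y hy _, rfl⟩
  have hcomm : ∀ a ∈ S, ∀ b ∈ S, a * b * a⁻¹ * b⁻¹ ∈ (frattini S).map S.subtype := by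
    intro a ha b hb
    refine ⟨_, CfsgLib.commutator_le_frattini_pGroup hS
      (Subgroup.commutator_mem_commutator (Subgroup.mem_top (⟨a, ha⟩ : S)) (Subgroup.mem_top (⟨b, hb⟩ : S))), ?_⟩
    simp [commutatorElement_def]
  have hTS := normalizerIn_eq_of_le_normalizer (S := S) (Q := S) Subgroup.le_normalizer
  have hsin : ∀ φ ∈ F.Hom S, ∃ g ∈ S, ∀ x : S, φ x = g * (x : Ω) * g⁻¹ := by
    intro φ hφ
    have hle : S ⊔ S ≤ S := sup_le le_rfl le_rfl
    have hφ' : φ ∈ (F.normalizerSystem S le_rfl).Hom S := by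
      refine ⟨hφ, hTS.ge, fun x => hTS.ge (F.apply_mem hφ x), φ.comp (Subgroup.inclusion hle),
        F.restrict_mem hφ hle, fun x => rfl, ?_⟩
      exact StronglyClosed.map_eq (F := F) ⟨le_rfl, fun R _ χ hχ x => F.apply_mem hχ x⟩ (F.restrict_mem hφ hle) le_sup_right
    rw [hN _ (F.normalizerSystem_isNormalizerSystem S le_rfl) S] at hφ'
    obtain ⟨-, g, hg, hge⟩ := hφ'
    exact ⟨g, hg.1, hge⟩
  intro P
  exact hF.eq_inner_of_hyperfocal_le_frattini hS
    (hyperfocalSubgroup_le_focalSubgroup.trans (hF.focalSubgroup_le_frattini hS hT hcomm hsin)) P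

end Cfsg.Agent.S5276
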