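import Cfsg.Statements.S1952
import Mathlib

set_option autoImplicit false
set_option linter.unusedVariables false
open Cfsg
open scoped commutatorElement

namespace Cfsg.Agent.S1952


open Polynomial in
theorem sub_one_pow_eq_geom (p : ℕ) [Fact p.Prime] :
    ((X : (ZMod p)[X]) - 1) ^ (p - 1) = ∑ i ∈ Finset.range p, (X : (ZMod p)[X]) ^ i := by
  have hp : p.Prime := Fact.out
  refine mul_right_cancel₀ (b := (X : (ZMod p)[X]) - 1) ?_ ?_
  · rw [← Polynomial.C_1]; exact Polynomial.X_sub_C_ne_zero 1
  · rw [geom_sum_mul, ← pow_succ, show p - 1 + 1 = p from by have := hp.one_le; omega, sub_pow_char, one_pow]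

theorem linear_indep_sub_one {p : ℕ} [Fact p.Prime] {V : Type*} [AddCommGroup V] [Module (ZMod p) V]
    (t : Module.End (ZMod p) V) (ht : t ^ p = 1) (ψ : V →ₗ[ZMod p] ZMod p) (v : V)
    (hv : ψ ((∑ i ∈ Finset.range p, t ^ i) v) ≠ 0) :
    p ≤ Module.finrank (ZMod p) (LinearMap.range (LinearMap.pi fun i : Fin p => ψ.comp (t ^ (i : ℕ)))) := by
  have hp : p.Prime := Fact.out
  set Φ := LinearMap.pi fun i : Fin p => ψ.comp (t ^ (i : ℕ)) with hΦ
  have hδp : (t - 1) ^ p = 0 := by
    have h1 := congrArg (Polynomial.aeval t) (sub_pow_char (p := p) (Polynomial.X : Polynomial (ZMod p)) 1)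
    simpa [ht] using h1
  have hδ : (t - 1) ^ (p - 1) = ∑ i ∈ Finset.range p, t ^ i := by
    have h1 := congrArg (Polynomial.aeval t) (sub_one_pow_eq_geom p)
    simpa [map_sum] using h1
  have hkert : ∀ w, Φ w = 0 → Φ (t w) = 0 := by
    intro w hw
    funext i
    show ψ ((t ^ (i : ℕ)) (t w)) = 0
    rw [← Module.End.mul_apply, ← pow_succ]
    by_cases hi : (i : ℕ) + 1 < p
    · exact congrFun hw ⟨(i : ℕ) + 1, hi⟩
    · have hi' : (i : ℕ) + 1 = p := by have := i.2; omega
      rw [hi', ht, Module.End.one_apply]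
      simpa [hΦ] using congrFun hw ⟨0, hp.pos⟩
  have hkerδ : ∀ (k : ℕ) w, Φ w = 0 → Φ (((t - 1) ^ k) w) = 0 := by
    intro k
    induction k with
    | zero => intro w hw; simpa using hw
    | succ k ih =>
      intro w hw
      rw [pow_succ, Module.End.mul_apply]
      refine ih _ ?_
      rw [LinearMap.sub_apply, Module.End.one_apply, map_sub, hkert w hw, hw, sub_zero]
  have hli : LinearIndependent (ZMod p) (fun j : Fin p => Φ (((t - 1) ^ (j : ℕ)) v)) := by
    rw [Fintype.linearIndependent_iff]
    intro c hc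
    by_contra hne
    push Not at hne
    have hex : ∃ m : ℕ, ∃ h : m < p, c ⟨m, h⟩ ≠ 0 := by
      obtain ⟨i, hi⟩ := hne; exact ⟨i, i.2, hi⟩
    classical
    obtain ⟨hm, hcm⟩ := Nat.find_spec hex
    set m := Nat.find hex with hmdef
    have h0 : Φ (∑ j : Fin p, c j • ((t - 1) ^ (j : ℕ)) v) = 0 := by simpa using hc
    have h1 := hkerδ (p - 1 - m) _ h0
    rw [map_sum, map_sum, Finset.sum_eq_single (⟨m, hm⟩ : Fin p)] at h1
    · rw [map_smul, map_smul, ← Module.End.mul_apply, ← pow_add, show p - 1 - m + m = p - 1 by omega, hδ] at h1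
      have h2 := congrFun h1 ⟨0, hp.pos⟩
      simp only [Pi.smul_apply, Pi.zero_apply, smul_eq_mul, mul_eq_zero] at h2
      rcases h2 with h2 | h2
      · exact hcm h2
      · exact hv (by simpa [hΦ] using h2)
    · intro j _ hj
      rcases lt_or_gt_of_ne (show (j : ℕ) ≠ m from fun h => hj (Fin.ext h)) with hjm | hjm
      · have hc0 : c j = 0 := by
          by_contra h
          exact Nat.find_min hex hjm ⟨j.2, h⟩
        simp [hc0]
      · rw [map_smul, ← Module.End.mul_apply, ← pow_add, show p - 1 - m + (j : ℕ) = p + ((j : ℕ) - m - 1) by omega,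
          pow_add, hδp, zero_mul, LinearMap.zero_apply, smul_zero, map_zero]
    · intro h; exact absurd (Finset.mem_univ _) h
  have h2 : Submodule.span (ZMod p) (Set.range fun j : Fin p => Φ (((t - 1) ^ (j : ℕ)) v)) ≤ LinearMap.range Φ :=
    Submodule.span_le.mpr (by rintro _ ⟨j, rfl⟩; exact LinearMap.mem_range_self Φ _)
  have h3 := Submodule.finrank_mono h2
  rwa [finrank_span_eq_card hli, Fintype.card_fin] at h3

theorem factorization_factorial_sq (p : ℕ) [Fact p.Prime] : (p ^ 2).factorial.factorization p = p + 1 := by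
  have hp : p.Prime := Fact.out
  have h1 := padicValNat_factorial_mul (p := p) p
  have h2 := padicValNat_factorial_mul (p := p) 1
  rw [mul_one] at h2
  simp only [Nat.factorial_one, padicValNat.one] at h2
  rw [Nat.factorization_def _ hp, sq, h1, h2]
  omega

open scoped IsMulCommutative

theorem core {A : Type*} [CommGroup A] [Finite A] {p : ℕ} [Fact p.Prime] [Module (ZMod p) (Additive A)]
    (s : A →* A) (hs : ∀ a, s^[p] a = a) (x : A) (hx : ((List.range p).map (fun i => s^[i] x)).prod ≠ 1) :
    ∃ B K : Subgroup A, B.index = p ∧ p ^ p ≤ K.index ∧ ∀ a, (∀ i < p, s^[i] a ∈ B) → a ∈ K := by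
  have hp : p.Prime := Fact.out
  let t : Module.End (ZMod p) (Additive A) := (MonoidHom.toAdditive s).toZModLinearMap p
  have ht : ∀ (i : ℕ) (a : A), (t ^ i) (Additive.ofMul a) = Additive.ofMul (s^[i] a) := by
    intro i
    induction i with
    | zero => intro a; simp
    | succ i ih =>
      intro a
      rw [pow_succ, Module.End.mul_apply, Function.iterate_succ_apply]
      exact ih (s a)
  have htp : t ^ p = 1 := LinearMap.ext fun a => by
    rw [← ofMul_toMul a, ht, hs, Module.End.one_apply]
  set w := (∑ i ∈ Finset.range p, t ^ i) (Additive.ofMul x) with hw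
  have hw0 : w ≠ 0 := by
    intro h
    refine hx ?_
    have h1 : ∀ n : ℕ, (∑ i ∈ Finset.range n, t ^ i) (Additive.ofMul x) =
        Additive.ofMul ((List.range n).map (fun i => s^[i] x)).prod := by
      intro n
      induction n with
      | zero => simp
      | succ n ih =>
        rw [List.range_succ, List.map_append, List.prod_append, Finset.sum_range_succ, LinearMap.add_apply, ih, ht,
          ← ofMul_mul]
        simp
    rw [hw, h1, ofMul_eq_zero] at h
    exact h
  obtain ⟨ψ, hψ⟩ : ∃ ψ : Additive A →ₗ[ZMod p] ZMod p, ψ w ≠ 0 := by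
    by_contra hno
    push Not at hno
    exact hw0 ((Module.forall_dual_apply_eq_zero_iff (ZMod p) w).mp hno)
  set Φ := LinearMap.pi fun i : Fin p => ψ.comp (t ^ (i : ℕ)) with hΦ
  have hrank := linear_indep_sub_one t htp ψ _ hψ
  let ψm : A →* Multiplicative (ZMod p) := AddMonoidHom.toMultiplicativeRight ψ.toAddMonoidHom
  let Φm : A →* Multiplicative (Fin p → ZMod p) := AddMonoidHom.toMultiplicativeRight Φ.toAddMonoidHom
  refine ⟨ψm.ker, Φm.ker, ?_, ?_, ?_⟩
  · have hψm : Function.Surjective ψm := by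
      intro c
      obtain ⟨a, ha⟩ := LinearMap.surjective_of_ne_zero (f := ψ) (fun h => hψ (by rw [h]; rfl)) (Multiplicative.toAdd c)
      exact ⟨Additive.toMul a, by
        show Multiplicative.ofAdd (ψ (Additive.ofMul (Additive.toMul a))) = c
        rw [ofMul_toMul, ha, ofAdd_toAdd]⟩
    rw [Subgroup.index_ker, MonoidHom.range_eq_top.mpr hψm, Subgroup.card_top]
    exact (Nat.card_congr Multiplicative.toAdd).trans (Nat.card_zmod p)
  · rw [Subgroup.index_ker]
    calc p ^ p ≤ Nat.card (LinearMap.range Φ) := by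
          rw [Module.natCard_eq_pow_finrank (K := ZMod p), Nat.card_zmod]
          exact Nat.pow_le_pow_right hp.pos hrank
      _ = Nat.card Φm.range := Nat.card_congr
          { toFun := fun z => ⟨Multiplicative.ofAdd z.1, by
              obtain ⟨a, ha⟩ := z.2
              exact ⟨Additive.toMul a, by
                show Multiplicative.ofAdd (Φ (Additive.ofMul (Additive.toMul a))) = _
                rw [ofMul_toMul, ha]⟩⟩
            invFun := fun z => ⟨Multiplicative.toAdd z.1, by
              obtain ⟨a, ha⟩ := z.2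
              exact ⟨Additive.ofMul a, by rw [← ha]; rfl⟩⟩
            left_inv := fun z => rfl
            right_inv := fun z => rfl }
  · intro a ha
    show Multiplicative.ofAdd (Φ (Additive.ofMul a)) = 1
    rw [ofAdd_eq_one]
    funext i
    show ψ ((t ^ (i : ℕ)) (Additive.ofMul a)) = 0
    rw [ht]
    exact ofAdd_eq_one.mp (ha i i.2)

/-- Let P be a finite p-group with a normal elementary abelian subgroup A of index p, and let x ∈ A and y ∈ P with y outside A. If the product of the p conjugates y^(-i) x y^i (i = 0, …, p−1) is not the identity, then the wreath product Z_p ≀ Z_p, realised as a Sylow p-subgroup of the symmetric group of degree p², is a homomorphic image of P. -/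
theorem result {P : Type*} [Group P] [Finite P] {p : ℕ} [Fact p.Prime] (hP : IsPGroup p P) (A : Subgroup P) [A.Normal]
    (hA : Cfsg.IsElementaryAbelian p A) (hidx : A.index = p) (x y : P) (hx : x ∈ A) (hy : y ∉ A)
    (hprod : ((List.range p).map (fun i => (y ^ i)⁻¹ * x * y ^ i)).prod ≠ 1) :
    ∃ (Q : Sylow p (Equiv.Perm (Fin (p ^ 2)))) (f : P →* ↥(Q : Subgroup (Equiv.Perm (Fin (p ^ 2))))), Function.Surjective f := by
  have hp : p.Prime := Fact.out
  obtain ⟨hcomm, hexp⟩ := hA
  haveI := hcomm
  have hyn : ∀ a ∈ A, y⁻¹ * a * y ∈ A := fun a ha => by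
    have := (inferInstance : A.Normal).conj_mem a ha y⁻¹
    simpa using this
  let s : ↥A →* ↥A := MonoidHom.mk' (fun a => ⟨y⁻¹ * a * y, hyn _ a.2⟩) (fun a b => Subtype.ext (by simp [mul_assoc]))
  have hit : ∀ (i : ℕ) (a : ↥A), ((s^[i] a : ↥A) : P) = (y ^ i)⁻¹ * a * y ^ i := by
    intro i
    induction i with
    | zero => intro a; simp
    | succ i ih =>
      intro a
      rw [Function.iterate_succ_apply, ih, pow_succ']
      show (y ^ i)⁻¹ * (y⁻¹ * a * y) * y ^ i = _
      group
  have hyp : y ^ p ∈ A := hidx ▸ Subgroup.pow_index_mem A y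
  obtain ⟨B₀, K₀, hB0, hK0, hBK⟩ := @core ↥A _ _ p _ (AddCommGroup.zmodModule fun a => Additive.toMul.injective (Subtype.ext (by simpa using hexp _ (Additive.toMul a).2))) s
    (fun a => Subtype.ext (by
      rw [hit]
      have h2 : (a : P) * y ^ p = y ^ p * a := congrArg Subtype.val (mul_comm' a ⟨y ^ p, hyp⟩)
      rw [mul_assoc, h2, inv_mul_cancel_left])) ⟨x, hx⟩ (by
    intro h
    refine hprod ?_
    have h1 := congrArg A.subtype h
    rw [map_list_prod, List.map_map, map_one] at h1
    rw [← h1]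
    congr 1
    exact List.map_congr_left fun i _ => (hit i ⟨x, hx⟩).symm)
  set B := B₀.map A.subtype with hB
  set K := K₀.map A.subtype with hK
  have hBi : B.index = p ^ 2 := by rw [hB, Subgroup.index_map_subtype, hidx, hB0, sq]
  have hKi : p ^ (p + 1) ≤ K.index := by
    rw [hK, Subgroup.index_map_subtype, hidx, pow_succ]
    exact Nat.mul_le_mul_right p hK0
  have hcore : B.normalCore ≤ K := by
    intro k hk
    obtain ⟨a, -, rfl⟩ := B.normalCore_le hk
    refine ⟨a, hBK a fun i _ => ?_, rfl⟩
    obtain ⟨b, hb, e⟩ := B.normalCore_le ((inferInstance : B.normalCore.Normal).conj_mem _ hk (y ^ i)⁻¹)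
    have e' : b = s^[i] a := by
      refine Subtype.ext ?_
      rw [hit]
      simpa using e
    exact e' ▸ hb
  have hcard : Nat.card (P ⧸ B) = p ^ 2 := hBi
  let eP : P ⧸ B ≃ Fin (p ^ 2) := Classical.choice (
    (Finite.card_eq (α := P ⧸ B) (β := Fin (p ^ 2))).mp (by rw [hcard, Nat.card_eq_fintype_card, Fintype.card_fin]))
  let f : P →* Equiv.Perm (Fin (p ^ 2)) := (eP.permCongrHom).toMonoidHom.comp (MulAction.toPermHom P (P ⧸ B))
  have hker : f.ker ≤ K := by
    refine le_trans ?_ hcore
    rw [Subgroup.normalCore_eq_ker]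
    intro k hk
    exact eP.permCongrHom.injective (by rw [map_one]; exact hk)
  have hrange : p ^ (p + 1) ≤ Nat.card f.range := by
    rw [← Subgroup.index_ker]
    exact hKi.trans (Nat.le_of_dvd (Nat.pos_of_ne_zero Subgroup.index_ne_zero_of_finite) (Subgroup.index_dvd_of_le hker))
  obtain ⟨Q, hQ⟩ := (hP.of_surjective f.rangeRestrict f.rangeRestrict_surjective).exists_le_sylow
  refine ⟨Q, f.codRestrict _ (fun z => hQ ⟨z, rfl⟩), fun q => ?_⟩
  have hQc : Nat.card (Q : Subgroup (Equiv.Perm (Fin (p ^ 2)))) = p ^ (p + 1) := by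
    rw [Sylow.card_eq_multiplicity, Nat.card_eq_fintype_card, Fintype.card_perm, Fintype.card_fin, factorization_factorial_sq]
  have heq : f.range = (Q : Subgroup (Equiv.Perm (Fin (p ^ 2)))) := Subgroup.eq_of_le_of_card_ge hQ (hQc ▸ hrange)
  obtain ⟨z, hz⟩ : (q : Equiv.Perm (Fin (p ^ 2))) ∈ f.range := by rw [heq]; exact q.2
  exact ⟨z, Subtype.ext hz⟩

end Cfsg.Agent.S1952
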