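import Cfsg.Statements.S2792
import Cfsg.Agent.Lib.YoshidaTransfer
import Cfsg.Agent.Lib.Transfer

set_option autoImplicit false
set_option linter.unusedVariables false
open Cfsg
open scoped commutatorElement

namespace Cfsg.Agent.S2792

/-- Let S be a Sylow p-subgroup of the finite group G and W a subgroup of S weakly closed in S with respect to G. If S ∩ G' ≠ S ∩ (N_G(W))', then there are x ∈ S, z ∈ W and a maximal subgroup W₀ of W such that the iterated commutator [x, z; p−1] (with [x, z] = x⁻¹z⁻¹xz and [x, z; i+1] = [[x, z; i], z]) lies in W₀ but not in the Frattini subgroup of W₀; in particular [x, z; p−1] ≠ 1. -/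
theorem result {G : Type*} [Group G] [Finite G] {p : ℕ} [Fact p.Prime] (S : Sylow p G) (W : Subgroup G) (hW : Cfsg.IsWeaklyClosed W (S : Subgroup G)) (h : (S : Subgroup G) ⊓ commutator G ≠ (S : Subgroup G) ⊓ ⁅Subgroup.normalizer (W : Set G), Subgroup.normalizer (W : Set G)⁆) : ∃ x ∈ (S : Subgroup G), ∃ z ∈ W, ∃ W₀ : Subgroup ↥W, IsCoatom W₀ ∧ (fun y : G => y⁻¹ * z⁻¹ * y * z)^[p - 1] x ∈ W₀.map W.subtype ∧ (fun y : G => y⁻¹ * z⁻¹ * y * z)^[p - 1] x ∉ ((frattini ↥W₀).map W₀.subtype).map W.subtype := by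
  classical
  by_contra hcon
  push Not at hcon
  have hgood : CfsgLib.YoshidaTransfer.Good p S W := fun x hx z hz W₀ hW₀ hv => hcon x hx z hz W₀ hW₀ hv
  have hres := CfsgLib.YoshidaTransfer.pResidualOf_normalizer_eq S hW hgood
  obtain ⟨hPH, -⟩ := CfsgLib.HallWielandt.normalizer_data S hW
  set H := Subgroup.normalizer (W : Set G) with hH
  set K := Cfsg.pResidual p G with hK
  refine h (le_antisymm ?_ (inf_le_inf_left _ ?_))
  swap
  · rw [commutator_def]; exact Subgroup.commutator_mono le_top le_top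
  intro x hx
  have hxS := (Subgroup.mem_inf.mp hx).1
  refine Subgroup.mem_inf.mpr ⟨hxS, ?_⟩
  have h1 : commutator G ≤ ⁅H, H⁆ ⊔ K := by
    have hmap : (commutator G).map (QuotientGroup.mk' K) = ⁅H, H⁆.map (QuotientGroup.mk' K) := by
      have ht : H.map (QuotientGroup.mk' K) = (⊤ : Subgroup G).map (QuotientGroup.mk' K) := by
        refine le_antisymm (Subgroup.map_mono le_top) ?_
        rw [← CfsgLib.Transfer.sylow_sup_pResidual S, Subgroup.map_sup, QuotientGroup.map_mk'_self, sup_bot_eq]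
        exact Subgroup.map_mono hPH
      rw [commutator_def, Subgroup.map_commutator, Subgroup.map_commutator, ht]
    have := Subgroup.le_comap_map (QuotientGroup.mk' K) (commutator G)
    rwa [hmap, Subgroup.comap_map_eq, QuotientGroup.ker_mk'] at this
  obtain ⟨c, hc, k, hk, e⟩ := Subgroup.mem_sup_of_normal_right.mp (h1 (Subgroup.mem_inf.mp hx).2)
  have hcH : c ∈ H := Subgroup.commutator_le_self H hc
  have hkH : k ∈ H := by
    have := H.mul_mem (H.inv_mem hcH) (hPH hxS)
    rwa [← e, inv_mul_cancel_left] at this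
  obtain ⟨k', hk', hk'e⟩ : k ∈ Cfsg.pResidualOf p H := hres.symm ▸ Subgroup.mem_inf.mpr ⟨hk, hkH⟩
  rw [← Subgroup.map_subtype_commutator] at hc ⊢
  obtain ⟨c', hc', hc'e⟩ := hc
  refine ⟨⟨x, hPH hxS⟩, ?_, rfl⟩
  obtain ⟨j, hj⟩ := S.2 ⟨x, hxS⟩
  set m := Nat.card H / p ^ (Nat.card H).factorization p with hm
  have hpk : Cfsg.pResidual p ↥H ≤ (powMonoidHom m).ker.comap (Abelianization.of (G := ↥H)) := by
    refine (Subgroup.closure_le _).mpr fun g hg => ?_
    show (Abelianization.of g) ^ m = 1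
    rw [← map_pow]
    have h1 : orderOf g ∣ p ^ (Nat.card H).factorization p * m := by rw [hm, Nat.ordProj_mul_ordCompl_eq_self]; exact orderOf_dvd_natCard g
    rw [orderOf_dvd_iff_pow_eq_one.mp ((Nat.Coprime.pow_right _ hg).dvd_of_dvd_mul_left h1), map_one]
  have h2 : Abelianization.of (⟨x, hPH hxS⟩ : ↥H) = 1 := by
    have hxm : (Abelianization.of (⟨x, hPH hxS⟩ : ↥H)) ^ m = 1 := by
      rw [show (⟨x, hPH hxS⟩ : ↥H) = c' * k' from Subtype.ext (e.symm.trans (congrArg₂ (· * ·) hc'e.symm hk'e.symm)), map_mul,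
        show Abelianization.of c' = 1 from Abelianization.commutator_subset_ker (Abelianization.of (G := ↥H)) hc', one_mul]
      exact hpk hk'
    have hxp : (Abelianization.of (⟨x, hPH hxS⟩ : ↥H)) ^ (p ^ j) = 1 := by
      rw [← map_pow, show (⟨x, hPH hxS⟩ : ↥H) ^ p ^ j = 1 from Subtype.ext (by simpa using congrArg Subtype.val hj), map_one]
    have hcop : Nat.Coprime m (p ^ j) := (Nat.coprime_ordCompl Fact.out Nat.card_pos.ne').symm.pow_right j
    exact orderOf_eq_one_iff.mp (Nat.dvd_one.mp (hcop.gcd_eq_one ▸ Nat.dvd_gcd (orderOf_dvd_of_pow_eq_one hxm) (orderOf_dvd_of_pow_eq_one hxp)))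
  rwa [← Abelianization.ker_of]

end Cfsg.Agent.S2792
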