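import Cfsg.Statements.S2807
import Cfsg.Agent.S2792
import Cfsg.Agent.S1952
import Cfsg.Agent.Lib.Elementary

set_option autoImplicit false
set_option linter.unusedVariables false
open Cfsg
open scoped commutatorElement

namespace Cfsg.Agent.S2807


theorem iterate_eq_prod {M : Type*} [CommGroup M] {p : ℕ} [Fact p.Prime] [Module (ZMod p) (Additive M)]
    (s : M →* M) (a : M) :
    (fun b => b⁻¹ * s b)^[p - 1] a = ((List.range p).map (fun i => s^[i] a)).prod := by
  let t : Module.End (ZMod p) (Additive M) := (MonoidHom.toAdditive s).toZModLinearMap p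
  have ht : ∀ (i : ℕ) (b : M), (t ^ i) (Additive.ofMul b) = Additive.ofMul (s^[i] b) := by
    intro i
    induction i with
    | zero => intro b; simp
    | succ i ih => intro b; rw [pow_succ, Module.End.mul_apply, Function.iterate_succ_apply]; exact ih (s b)
  have hd : ∀ (k : ℕ) (b : M), ((t - 1) ^ k) (Additive.ofMul b) = Additive.ofMul ((fun b => b⁻¹ * s b)^[k] b) := by
    intro k
    induction k with
    | zero => intro b; simp
    | succ k ih =>
      intro b
      rw [pow_succ, Module.End.mul_apply, Function.iterate_succ_apply, ← ih, LinearMap.sub_apply, Module.End.one_apply]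
      congr 1
      show Additive.ofMul (s b) - Additive.ofMul b = Additive.ofMul (b⁻¹ * s b)
      rw [ofMul_mul, ofMul_inv]; abel
  have h1 := congrArg (Polynomial.aeval t) (Cfsg.Agent.S1952.sub_one_pow_eq_geom p)
  simp only [map_pow, map_sub, Polynomial.aeval_X, map_one, map_sum] at h1
  have h2 := congrArg (fun f : Module.End (ZMod p) (Additive M) => f (Additive.ofMul a)) h1
  simp only [hd, LinearMap.sum_apply, ht] at h2
  refine Additive.ofMul.injective (h2.trans ?_)
  rw [← ofMul_prod]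
  rfl

universe u in
theorem maps_onto {P : Type u} [Group P] [Finite P] {p : ℕ} [Fact p.Prime] (hP : IsPGroup p P) (A : Subgroup P)
    [A.Normal] (hidx : A.index = p) (x z : P)
    (hv : (fun y : P => y⁻¹ * z⁻¹ * y * z)^[p - 1] x ∈ A)
    (hv' : (fun y : P => y⁻¹ * z⁻¹ * y * z)^[p - 1] x ∉ (frattini ↥A).map A.subtype) :
    ∃ (Q : Sylow p (Equiv.Perm (Fin (p ^ 2)))) (f : P →* ↥(Q : Subgroup (Equiv.Perm (Fin (p ^ 2))))), Function.Surjective f := by
  have hp : p.Prime := Fact.out
  set F := (frattini ↥A).map A.subtype with hF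
  haveI hFn : F.Normal := ConjAct.normal_of_characteristic_of_normal
  set q := QuotientGroup.mk' F with hq
  set Ab := A.map q with hAb
  haveI : Ab.Normal := Subgroup.Normal.map inferInstance _ (QuotientGroup.mk'_surjective F)
  have hAp : IsPGroup p ↥A := hP.to_subgroup A
  have hqF : ∀ w : P, q w = 1 ↔ w ∈ F := fun w => QuotientGroup.eq_one_iff w
  have hcomm : ∀ a ∈ A, ∀ b ∈ A, q a * q b = q b * q a := by
    intro a ha b hb
    rw [← commutatorElement_eq_one_iff_mul_comm, ← map_commutatorElement, hqF]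
    exact ⟨⁅(⟨a, ha⟩ : ↥A), ⟨b, hb⟩⁆, CfsgLib.commutator_le_frattini_pGroup hAp
      (Subgroup.commutator_mem_commutator (Subgroup.mem_top _) (Subgroup.mem_top _)), rfl⟩
  have hAbe : Cfsg.IsElementaryAbelian p Ab := by
    refine ⟨⟨⟨?_⟩⟩, ?_⟩
    · rintro ⟨_, a, ha, rfl⟩ ⟨_, b, hb, rfl⟩
      exact Subtype.ext (hcomm a ha b hb)
    · rintro _ ⟨a, ha, rfl⟩
      rw [← map_pow, hqF]
      exact ⟨(⟨a, ha⟩ : ↥A) ^ p, CfsgLib.pow_mem_frattini_pGroup hAp _, rfl⟩
  have hAbi : Ab.index = p := by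
    rw [hAb, Subgroup.index_map_eq A (QuotientGroup.mk'_surjective F) (by
      rw [QuotientGroup.ker_mk']; exact Subgroup.map_subtype_le _), hidx]
  have hmain : ∀ a y : P, a ∈ A → y ∉ A → ((List.range p).map (fun i => (q y ^ i)⁻¹ * q a * q y ^ i)).prod ≠ 1 →
      ∃ (Q : Sylow p (Equiv.Perm (Fin (p ^ 2)))) (f : P →* ↥(Q : Subgroup (Equiv.Perm (Fin (p ^ 2))))), Function.Surjective f := by
    intro a y ha hy hprod
    obtain ⟨Q, f, hf⟩ := Cfsg.Agent.S1952.result (hP.to_quotient F) Ab hAbe hAbi (q a) (q y) ⟨a, ha, rfl⟩ (by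
      rintro ⟨b, hb, e⟩
      exact hy (by
        have h1 : b⁻¹ * y ∈ F := QuotientGroup.eq.mp e
        simpa using A.mul_mem hb (Subgroup.map_subtype_le _ h1))) hprod
    exact ⟨Q, f.comp q, hf.comp (QuotientGroup.mk'_surjective F)⟩
  set cm := fun y : P => y⁻¹ * z⁻¹ * y * z with hcm
  have hquot : ∀ u w : P, u⁻¹ * w⁻¹ * u * w ∈ A := by
    intro u w
    rw [← QuotientGroup.eq_one_iff (N := A)]
    haveI : IsCyclic (P ⧸ A) := isCyclic_of_prime_card (p := p) (by rw [← Subgroup.index_eq_card, hidx])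
    letI : CommGroup (P ⧸ A) := IsCyclic.commGroup
    simp only [QuotientGroup.mk_mul, QuotientGroup.mk_inv]
    rw [mul_comm (u : P ⧸ A)⁻¹, mul_assoc (w : P ⧸ A)⁻¹, inv_mul_cancel, mul_one, inv_mul_cancel]
  have hcmA : ∀ u : P, cm u ∈ A := fun u => hquot u z
  obtain ⟨n, hn⟩ := Nat.exists_eq_succ_of_ne_zero (show p - 1 ≠ 0 by have := hp.two_le; omega)
  by_cases hz : z ∈ A
  · -- `z` in the maximal subgroup forces `p = 2`
    have hF2 : ∀ u ∈ A, cm u ∈ F := fun u hu => (hqF _).mp (by
      simp only [hcm, map_mul, map_inv]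
      rw [mul_assoc _ (q u), hcomm u hu z hz]; group)
    have hFA : ∀ u ∈ F, cm u ∈ F := fun u hu => hF2 u (Subgroup.map_subtype_le _ hu)
    rcases n with _ | n
    · have hp2 : p = 2 := by omega
      subst hp2
      rw [show (2 : ℕ) - 1 = 1 from rfl, Function.iterate_one] at hv'
      have hx : x ∉ A := fun hx => hv' (hF2 x hx)
      refine hmain z x hz hx ?_
      rw [show List.range 2 = [0, 1] from rfl]
      simp only [List.map_cons, List.map_nil, List.prod_cons, List.prod_nil, pow_zero, pow_one, inv_one, one_mul, mul_one]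
      intro h1
      refine hv' ((hqF _).mp ?_)
      have hz2 : q z * q z = 1 := by
        rw [← map_mul, hqF]
        exact ⟨(⟨z, hz⟩ : ↥A) ^ 2, CfsgLib.pow_mem_frattini_pGroup hAp _, by simp [sq]⟩
      have h3 : (q x)⁻¹ * q z * q x = q z := by
        calc (q x)⁻¹ * q z * q x = (q z * q z) * ((q x)⁻¹ * q z * q x) := by rw [hz2, one_mul]
          _ = q z * (q z * ((q x)⁻¹ * q z * q x)) := by rw [mul_assoc]
          _ = q z := by rw [h1, mul_one]
      simp only [hcm, map_mul, map_inv]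
      calc (q x)⁻¹ * (q z)⁻¹ * q x * q z = ((q x)⁻¹ * q z * q x)⁻¹ * q z := by group
        _ = 1 := by rw [h3, inv_mul_cancel]
    · exfalso
      refine hv' ?_
      rw [hn, show (n + 1).succ = n + 2 from rfl, Function.iterate_add_apply]
      have : ∀ k, cm^[k] (cm^[2] x) ∈ F := fun k => by
        induction k with
        | zero => exact hF2 _ (hcmA x)
        | succ k ih => rw [Function.iterate_succ_apply']; exact hFA _ ih
      exact this n
  · obtain ⟨a, ha, i, rfl⟩ : ∃ a ∈ A, ∃ i : ℤ, x = a * z ^ i := by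
      have hc : Nat.card (P ⧸ A) = p := hidx
      have hord : orderOf (z : P ⧸ A) = p := ((Nat.dvd_prime hp).mp (hc ▸ orderOf_dvd_natCard _)).resolve_left
        fun e => hz ((QuotientGroup.eq_one_iff z).mp (orderOf_eq_one_iff.mp e))
      have htop : Subgroup.zpowers (z : P ⧸ A) = ⊤ := Subgroup.eq_top_of_card_eq _ (by rw [Nat.card_zpowers, hord, hc])
      obtain ⟨i, hi⟩ : (x : P ⧸ A) ∈ Subgroup.zpowers (z : P ⧸ A) := htop ▸ Subgroup.mem_top _
      refine ⟨x * (z ^ i)⁻¹, ?_, i, by simp⟩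
      rw [← QuotientGroup.eq_one_iff, QuotientGroup.mk_mul, QuotientGroup.mk_inv, QuotientGroup.mk_zpow, show (z : P ⧸ A) ^ i = x from hi, mul_inv_cancel]
    have hci : ∀ k, cm^[k + 1] (a * z ^ i) = (z ^ i)⁻¹ * cm^[k + 1] a * z ^ i := by
      intro k
      induction k with
      | zero => simp only [Nat.zero_add, Function.iterate_one, hcm]; group
      | succ k ih =>
        rw [Function.iterate_succ_apply' cm (k + 1) (a * z ^ i), ih, Function.iterate_succ_apply' cm (k + 1) a]
        generalize cm^[k + 1] a = w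
        simp only [hcm]
        group
    have hne : q (cm^[p - 1] a) ≠ 1 := by
      intro e
      refine hv' ?_
      rw [hn, hci n, show n + 1 = p - 1 from hn.symm, ← hqF, map_mul, map_mul, e, mul_one, map_inv, inv_mul_cancel]
    refine hmain a z ha hz ?_
    haveI := hAbe.1
    letI : CommGroup ↥Ab := { (inferInstance : Group ↥Ab) with mul_comm := mul_comm' }
    let s : ↥Ab →* ↥Ab := MonoidHom.mk' (fun b => ⟨(q z)⁻¹ * b * q z, by
        have := (inferInstance : Ab.Normal).conj_mem _ b.2 (q z)⁻¹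
        simpa using this⟩) (fun b c => Subtype.ext (by simp [mul_assoc]))
    have key := @iterate_eq_prod ↥Ab _ p _ (AddCommGroup.zmodModule fun b => Additive.toMul.injective
      (Subtype.ext (by simpa using hAbe.2 _ (Additive.toMul b : ↥Ab).2))) s ⟨q a, a, ha, rfl⟩
    have hL : ∀ k, (((fun b => b⁻¹ * s b)^[k] (⟨q a, a, ha, rfl⟩ : ↥Ab) : ↥Ab) : P ⧸ F) = q (cm^[k] a) := by
      intro k
      induction k with
      | zero => rfl
      | succ k ih =>
        rw [Function.iterate_succ_apply', Function.iterate_succ_apply']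
        show (_ : P ⧸ F)⁻¹ * ((q z)⁻¹ * _ * q z) = _
        rw [ih]
        simp only [hcm, map_mul, map_inv]
        group
    have hR : ∀ k, ((s^[k] (⟨q a, a, ha, rfl⟩ : ↥Ab) : ↥Ab) : P ⧸ F) = (q z ^ k)⁻¹ * q a * q z ^ k := by
      intro k
      induction k with
      | zero => simp
      | succ k ih =>
        rw [Function.iterate_succ_apply']
        show (q z)⁻¹ * _ * q z = _
        rw [ih, pow_succ]
        group
    intro h1
    refine hne ?_
    rw [← hL, key, ← Ab.coe_subtype, map_list_prod, List.map_map, ← h1]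
    congr 1
    exact List.map_congr_left fun k _ => hR k

/-- Let S be a Sylow p-subgroup of the finite group G. If S ∩ G' ≠ S ∩ (N_G(S))' (derived subgroups), then the wreath product Z_p ≀ Z_p — realised as a Sylow p-subgroup of the symmetric group of degree p² — is a homomorphic image of S. -/
theorem result {G : Type*} [Group G] [Finite G] {p : ℕ} [Fact p.Prime] (S : Sylow p G) (h : (S : Subgroup G) ⊓ commutator G ≠ (S : Subgroup G) ⊓ ⁅Subgroup.normalizer ((S : Subgroup G) : Set G), Subgroup.normalizer ((S : Subgroup G) : Set G)⁆) : ∃ (P : Sylow p (Equiv.Perm (Fin (p ^ 2)))) (f : ↥(S : Subgroup G) →* ↥(P : Subgroup (Equiv.Perm (Fin (p ^ 2))))), Function.Surjective f := by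
  have hW : Cfsg.IsWeaklyClosed (S : Subgroup G) (S : Subgroup G) := ⟨le_rfl, fun g hg =>
    Subgroup.eq_of_le_of_card_ge hg (Subgroup.card_map_of_injective (MulEquiv.injective (MulAut.conj g))).ge⟩
  obtain ⟨x, hx, z, hz, W₀, hW₀, hv, hv'⟩ := Cfsg.Agent.S2792.result S (S : Subgroup G) hW h
  haveI : W₀.Normal := (CfsgLib.YoshidaTransfer.coatom_data S.2 hW₀).1
  have key : ∀ k, (((fun y : ↥(S : Subgroup G) => y⁻¹ * (⟨z, hz⟩ : ↥(S : Subgroup G))⁻¹ * y * ⟨z, hz⟩)^[k] ⟨x, hx⟩ : ↥(S : Subgroup G)) : G) =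
      (fun y : G => y⁻¹ * z⁻¹ * y * z)^[k] x := by
    intro k
    induction k with
    | zero => rfl
    | succ k ih => rw [Function.iterate_succ_apply', Function.iterate_succ_apply', ← ih]; rfl
  refine maps_onto S.2 W₀ (CfsgLib.YoshidaTransfer.coatom_data S.2 hW₀).2 ⟨x, hx⟩ ⟨z, hz⟩ ?_ ?_
  · obtain ⟨w, hw, e⟩ := hv
    rw [show _ = w from Subtype.ext ((key (p - 1)).trans e.symm)]
    exact hw
  · intro hm
    exact hv' ⟨_, hm, key (p - 1)⟩

end Cfsg.Agent.S2807
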