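import Cfsg.Statements.S0197
import Mathlib
import Cfsg.Agent.Lib.CharTheory.TI
import Cfsg.Agent.Lib.BrauerSuzukiQ.Exceptional
import Cfsg.Agent.Lib.CharTheory.Schur
import Cfsg.Agent.Lib.CharTheory.Linear
import Cfsg.Agent.Lib.TransferExtremal
-- import your own Cfsg.Agent.* helpers here

set_option autoImplicit false
set_option maxHeartbeats 2000000
open Cfsg

namespace Cfsg.Agent.S0197

open CfsgLib CfsgLib.CharTheory CfsgLib.QuaternionSylow
open scoped ComplexConjugate

theorem isChar_matrix {D : Type*} [Group D] {n : ℕ} (f : D →* Matrix (Fin n) (Fin n) ℤ) :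
    Cfsg.IsCharacter D (fun g => ((f g).trace : ℂ)) := by
  refine ⟨n, (Matrix.toLinAlgEquiv' (R := ℂ) (n := Fin n)).toMonoidHom.comp
    (((Int.castRingHom ℂ).mapMatrix.toMonoidHom).comp f), funext fun g => ?_⟩
  show LinearMap.trace ℂ _ (Matrix.toLinAlgEquiv' ((f g).map (Int.castRingHom ℂ))) = _
  rw [show Matrix.toLinAlgEquiv' ((f g).map (Int.castRingHom ℂ)) = Matrix.toLin' ((f g).map (Int.castRingHom ℂ))
    from rfl, Matrix.trace_toLin'_eq]
  simp [Matrix.trace]

theorem isChar_perm {D : Type*} [Group D] {β : Type*} [Fintype β] [DecidableEq β] (ψ : D →* Equiv.Perm β) :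
    Cfsg.IsCharacter D (fun g => (((Finset.univ.filter fun b => ψ g b = b).card : ℤ) : ℂ)) := by
  classical
  let ε := Fintype.equivFin β
  let f : D →* Matrix (Fin (Fintype.card β)) (Fin (Fintype.card β)) ℤ :=
    { toFun := fun g => Matrix.of fun i j => if ε (ψ g (ε.symm j)) = i then 1 else 0
      map_one' := by
        ext i j
        rw [Matrix.of_apply, map_one, Equiv.Perm.one_apply, ε.apply_symm_apply, Matrix.one_apply]
        by_cases h : j = i
        · rw [if_pos h, if_pos h.symm]
        · rw [if_neg h, if_neg fun h' => h h'.symm]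
      map_mul' := fun g h => by
        ext i j
        rw [Matrix.mul_apply, Finset.sum_eq_single (ε (ψ h (ε.symm j)))]
        · simp
        · intro k _ hk
          simp [Matrix.of_apply, if_neg (Ne.symm hk)]
        · exact fun h => absurd (Finset.mem_univ _) h }
  convert isChar_matrix f using 1
  funext g
  congr 1
  rw [← Finset.sum_boole]
  refine (Fintype.sum_equiv ε _ _ fun b => ?_)
  simp [f, Matrix.diag_apply]

abbrev M2 := Matrix (Fin 2) (Fin 2) (ZMod 3)
abbrev V2 := Fin 2 → ZMod 3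
abbrev GL23 := Matrix.GeneralLinearGroup (Fin 2) (ZMod 3)

def isRep (v : V2) : Bool := (v 0 == 1) || (v 0 == 0 && v 1 == 1)
def normv (v : V2) : V2 := if isRep v then v else -v
def sgn (z : ZMod 3) : ℤ := if z = 1 then 1 else -1
def P4 (m : M2) : ℤ := ((Finset.univ.filter fun v : V2 => isRep v = true ∧ normv (m.mulVec v) = v).card : ℤ)
def P8 (m : M2) : ℤ := ((Finset.univ.filter fun v : V2 => v ≠ 0 ∧ m.mulVec v = v).card : ℤ)
def fval (m : M2) : ℤ := 1 - sgn m.det + P4 m + sgn m.det * P4 m - P8 m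
def GLset : Finset M2 := Finset.univ.filter fun m => m.det ≠ 0
def invs : Finset M2 := Finset.univ.filter fun m => m * m = 1 ∧ m ≠ 1

theorem facts_vec : (∀ w : V2, w ≠ 0 → isRep (normv w) = true) ∧ (∀ w : V2, isRep w = true → normv w = w ∧ w ≠ 0) ∧
    (∀ w : V2, w ≠ 0 → normv (-w) = normv w) ∧ ∀ a b : ZMod 3, a ≠ 0 → b ≠ 0 → sgn (a * b) = sgn a * sgn b := by
  decide +kernel

theorem facts_center : ∀ m ∈ invs, (∀ x ∈ GLset, m * x = x * m) → m = -1 := by decide +kernel
theorem facts_det : ∀ m ∈ invs, m.det = 1 → m = -1 := by decide +kernel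
theorem facts_cent : ∀ m ∈ invs, m ≠ -1 → (GLset.filter fun x => m * x = x * m).card = 4 := by decide +kernel
theorem facts_supp : ∀ m ∈ GLset, fval m ≠ 0 → (∃ k ∈ Finset.range 5, m ^ k = -1) ∧
    ∀ k ∈ Finset.range 5, m ^ k * m ^ k = 1 → m ^ k ≠ 1 → m ^ k = -1 := by decide +kernel
theorem facts_sum : fval 1 = 0 ∧ fval (-1) = 8 ∧ ∑ m ∈ GLset, fval m = 48 ∧ ∑ m ∈ GLset, fval m * fval m = 144 ∧
    GLset.card = 48 ∧ (-1 : M2) ≠ 1 := by
  decide +kernel
theorem facts_W : ∑ b ∈ invs, ∑ a ∈ invs, fval (a * b) = 192 := by decide +kernel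

theorem coprime_part {G : Type*} [Group G] [Finite G] (P : Sylow 2 G) (hP : Nat.card P = 16) :
    ∃ n, Odd n ∧ Nat.card G = 16 * n := by
  refine ⟨(P : Subgroup G).index, ?_, by rw [← hP]; exact (Subgroup.card_mul_index _).symm⟩
  exact Nat.odd_iff.2 (Nat.two_dvd_ne_zero.1 (P.not_dvd_index))

theorem arith (A B : ℤ) (x y n : ℕ) (hAB : B - A = 7) (hsq : 1 + A * A + B * B ≤ 48) (hxy : (x : ℤ) = y + 1)
    (hy : 0 < y) (hn : Odd n) (heq : (16 * n : ℤ) * (x * y + B * B * x - A * A * y) = 9216 * (x * y)) :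
    16 * n = 5616 ∨ 16 * n = 7920 ∨ 16 * n = 13680 ∨ 16 * n = 10608 := by
  obtain rfl : B = A + 7 := by omega
  rw [hxy] at heq
  have hA : -6 ≤ A ∧ A ≤ -1 := ⟨by nlinarith, by nlinarith⟩
  set Q : ℤ := (y : ℤ) * y + (14 * A + 50) * y + (A + 7) * (A + 7) with hQ
  have h1 : (n : ℤ) * Q = 576 * ((y : ℤ) * (y + 1)) := by rw [hQ]; linarith
  obtain ⟨w, hw⟩ : (2 : ℤ) ∣ (y : ℤ) * (y + 1) := (Int.even_mul_succ_self (y : ℤ)).two_dvd
  have h128 : (128 : ℤ) ∣ Q := by
    have hcop : IsCoprime (128 : ℤ) (n : ℤ) := by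
      rw [show (128 : ℤ) = ((128 : ℕ) : ℤ) from rfl, Int.isCoprime_iff_gcd_eq_one, Int.gcd_natCast_natCast]
      exact Nat.Coprime.pow_left 7 (Nat.coprime_two_left.2 hn)
    exact hcop.dvd_of_dvd_mul_left ⟨9 * w, by rw [h1, hw]; ring⟩
  have hz : (Q : ZMod 128) = 0 := (ZMod.intCast_zmod_eq_zero_iff_dvd Q 128).2 h128
  rw [hQ] at hz
  push_cast at hz
  obtain ⟨hA1, hA2⟩ := hA
  interval_cases A
  · exfalso; revert hz; generalize (y : ZMod 128) = z; revert z; decide +kernel
  · exfalso; revert hz; generalize (y : ZMod 128) = z; revert z; decide +kernel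
  · -- `A = -4`
    have hQm : Q = ((y : ℤ) - 3) * ((y : ℤ) - 3) := by rw [hQ]; ring
    have h16 : (16 : ℤ) ∣ (y : ℤ) - 3 := by
      refine (ZMod.intCast_zmod_eq_zero_iff_dvd _ 16).1 ?_
      have : ∀ z : ZMod 128, z * z + (14 * (-4) + 50) * z + (-4 + 7) * (-4 + 7) = 0 →
          ZMod.castHom (show 16 ∣ 128 by norm_num) (ZMod 16) (z - 3) = 0 := by decide +kernel
      have h := this _ hz
      rw [map_sub, map_natCast, map_ofNat] at h
      push_cast
      exact h
    obtain ⟨k, hk⟩ := h16
    have hy' : (y : ℤ) = 16 * k + 3 := by omega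
    rw [hQm, hy'] at h1
    have h2 : (n : ℤ) * (k * k) = 9 * ((16 * k + 3) * (4 * k + 1)) := by linarith
    have hk27 : k ∣ 27 := ⟨(n : ℤ) * k - 576 * k - 252, by linarith⟩
    have hk0 : 0 < k := by
      by_contra h
      push_neg at h
      have : k = 0 := by omega
      subst this
      norm_num at h2
    have hkle := Int.le_of_dvd (by norm_num) hk27
    interval_cases k <;> omega
  · -- `A = -3`
    have hQm : Q = ((y : ℤ) + 4) * ((y : ℤ) + 4) := by rw [hQ]; ring
    have h16 : (16 : ℤ) ∣ (y : ℤ) + 4 := by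
      refine (ZMod.intCast_zmod_eq_zero_iff_dvd _ 16).1 ?_
      have : ∀ z : ZMod 128, z * z + (14 * (-3) + 50) * z + (-3 + 7) * (-3 + 7) = 0 →
          ZMod.castHom (show 16 ∣ 128 by norm_num) (ZMod 16) (z + 4) = 0 := by decide +kernel
      have h := this _ hz
      rw [map_add, map_natCast, map_ofNat] at h
      push_cast
      exact h
    obtain ⟨k, hk⟩ := h16
    have hy' : (y : ℤ) = 16 * k - 4 := by omega
    rw [hQm, hy'] at h1
    have h2 : (n : ℤ) * (k * k) = 9 * ((4 * k - 1) * (16 * k - 3)) := by linarith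
    have hk27 : k ∣ 27 := ⟨(n : ℤ) * k - 576 * k + 252, by linarith⟩
    have hk0 : 0 < k := by omega
    have hkle := Int.le_of_dvd (by norm_num) hk27
    interval_cases k <;> omega
  · exfalso; revert hz; generalize (y : ZMod 128) = z; revert z; decide +kernel
  · exfalso; revert hz; generalize (y : ZMod 128) = z; revert z; decide +kernel

/-- If a finite simple group has an involution whose centralizer is isomorphic to the general linear group GL(2, 3), then the group has order 5616 or 7920. -/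
theorem result {G : Type*} [Group G] [Finite G] [IsSimpleGroup G] (t : G) (ht : orderOf t = 2) (e : Subgroup.centralizer ({t} : Set G) ≃* Matrix.GeneralLinearGroup (Fin 2) (ZMod 3)) : Nat.card G = 5616 ∨ Nat.card G = 7920 := by
  classical
  haveI := Fintype.ofFinite G
  haveI := Fact.mk Nat.prime_two
  set D := Subgroup.centralizer ({t} : Set G) with hD
  have htt : t * t = 1 := by rw [← pow_two, ← ht, pow_orderOf_eq_one]
  have ht1 : t ≠ 1 := fun h => by rw [h, orderOf_one] at ht; exact absurd ht (by norm_num)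
  have hti : t⁻¹ = t := inv_eq_of_mul_eq_one_right htt
  have hmemD : ∀ g : G, g ∈ D ↔ g * t = t * g := fun g => by
    rw [hD, Subgroup.mem_centralizer_iff]
    exact ⟨fun h => (h t rfl).symm, fun h y hy => by rw [Set.mem_singleton_iff.1 hy]; exact h.symm⟩
  have htD : t ∈ D := (hmemD t).2 rfl
  let mat : D →* M2 := (Units.coeHom M2).comp e.toMonoidHom
  have hmatinj : Function.Injective mat := fun a b h => e.injective (Units.ext h)
  have hmatGL : ∀ x, mat x ∈ GLset := fun x => by
    simp only [GLset, Finset.mem_filter, Finset.mem_univ, true_and]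
    exact ((Matrix.isUnit_iff_isUnit_det _).1 (e x).isUnit).ne_zero
  have hmatsurj : ∀ m ∈ GLset, ∃ x, mat x = m := fun m hm => by
    simp only [GLset, Finset.mem_filter, Finset.mem_univ, true_and] at hm
    exact ⟨e.symm ((Matrix.isUnit_iff_isUnit_det m).2 (IsUnit.mk0 _ hm)).unit, by simp [mat]⟩
  have hmatinv : ∀ x : D, x * x = 1 → x ≠ 1 → mat x ∈ invs := fun x h h1 => by
    simp only [invs, Finset.mem_filter, Finset.mem_univ, true_and]
    exact ⟨by rw [← map_mul, h, map_one], fun h' => h1 (hmatinj (h'.trans (map_one mat).symm))⟩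
  set tD : D := ⟨t, htD⟩ with htDd
  have hmt : mat tD = -1 := by
    refine facts_center _ (hmatinv _ (Subtype.ext htt) fun h => ht1 (congrArg Subtype.val h)) fun m hm => ?_
    obtain ⟨x, rfl⟩ := hmatsurj m hm
    rw [← map_mul, ← map_mul]
    exact congrArg mat (Subtype.ext ((hmemD x).1 x.2).symm)
  have hsumD : ∀ F : M2 → ℂ, ∑ x : D, F (mat x) = ∑ m ∈ GLset, F m := fun F =>
    Finset.sum_nbij mat (fun x _ => hmatGL x) (fun a _ b _ h => hmatinj h)
      (fun m hm => by obtain ⟨x, rfl⟩ := hmatsurj m hm; exact ⟨x, Finset.mem_univ _, rfl⟩) (fun x _ => rfl)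
  have hcardD : Nat.card D = 48 := by
    have h := hsumD fun _ => 1
    rw [Finset.sum_const, Finset.sum_const, facts_sum.2.2.2.2.1, Finset.card_univ, ← Nat.card_eq_fintype_card] at h
    simp only [nsmul_eq_mul, mul_one] at h
    exact_mod_cast h
  -- a Sylow subgroup lies in the centraliser
  obtain ⟨P0⟩ : Nonempty (Sylow 2 D) := inferInstance
  have hP0 : Nat.card P0 = 16 := by
    rw [Sylow.card_eq_multiplicity, hcardD, show Nat.factorization 48 2 = 4 by
      rw [show 48 = 2 ^ 4 * 3 by norm_num, Nat.factorization_mul (by norm_num) (by norm_num), Nat.Prime.factorization_pow Nat.prime_two]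
      simp [Nat.factorization_eq_zero_of_not_dvd]]
    norm_num
  have hP0p : IsPGroup 2 ((P0 : Subgroup D).map D.subtype) := P0.isPGroup'.map _
  obtain ⟨P, hP⟩ := hP0p.exists_le_sylow
  have hPD : (P : Subgroup G) ≤ D := by
    have hP0ne : (P : Subgroup G) ≠ ⊥ := fun h => by
      have h1 := Subgroup.card_dvd_of_le hP
      rw [h, Subgroup.card_bot, Subgroup.card_map_of_injective D.subtype_injective, hP0] at h1
      norm_num at h1
    haveI : Nontrivial (P : Subgroup G) := (Subgroup.nontrivial_iff_ne_bot _).2 hP0ne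
    haveI := P.isPGroup'.center_nontrivial
    obtain ⟨w, hw⟩ := exists_prime_orderOf_dvd_card' (G := Subgroup.center (P : Subgroup G)) 2 (by
      obtain ⟨k, hk0, hk⟩ := (P.isPGroup'.to_subgroup (Subgroup.center _)).nontrivial_iff_card.1 inferInstance
      rw [hk]; exact dvd_pow_self 2 hk0.ne')
    set v : G := ((w : (P : Subgroup G)) : G) with hv
    have hv2 : orderOf v = 2 := by rw [hv, Subgroup.orderOf_coe, Subgroup.orderOf_coe, hw]
    have hvc : ∀ g ∈ (P : Subgroup G), g * v = v * g := fun g hg =>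
      congrArg Subtype.val (Subgroup.mem_center_iff.1 w.2 ⟨g, hg⟩)
    have htP0 : tD ∈ (P0 : Subgroup D) := by
      haveI hnor : (Subgroup.zpowers tD).Normal := ⟨fun a ha g => by
        obtain ⟨k, rfl⟩ := ha
        have hc : Commute g (tD ^ k) := (show Commute g tD from Subtype.ext ((hmemD g).1 g.2)).zpow_right k
        rw [hc.eq, mul_inv_cancel_right]
        exact ⟨k, rfl⟩⟩
      have hp : IsPGroup 2 (Subgroup.zpowers tD) :=
        IsPGroup.of_card (n := 1) (by rw [Nat.card_zpowers, pow_one, htDd, Subgroup.orderOf_mk, ht])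
      obtain ⟨R, hR⟩ := hp.exists_le_sylow
      obtain ⟨g, rfl⟩ := MulAction.exists_smul_eq D R P0
      have h1 := hR (Subgroup.mem_zpowers tD)
      show tD ∈ ((g • R : Sylow 2 D) : Subgroup D)
      rw [Sylow.coe_subgroup_smul]
      exact ⟨tD, h1, by
        show g * tD * g⁻¹ = tD
        rw [show g * tD = tD * g from Subtype.ext ((hmemD g).1 g.2), mul_inv_cancel_right]⟩
    have hvD : v ∈ D := (hmemD v).2 (hvc t (hP ⟨tD, htP0, rfl⟩)).symm
    have hveq : (⟨v, hvD⟩ : D) = tD := by
      by_contra hne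
      have hm : mat ⟨v, hvD⟩ ≠ -1 := fun h => hne (hmatinj (h.trans hmt.symm))
      have hc4 := facts_cent _ (hmatinv ⟨v, hvD⟩ (Subtype.ext (by show v * v = 1; rw [← pow_two, ← hv2, pow_orderOf_eq_one]))
        fun h => by rw [show v = 1 from congrArg Subtype.val h, orderOf_one] at hv2; exact absurd hv2 (by norm_num)) hm
      have hle : (Finset.univ.filter fun x : D => x ∈ (P0 : Subgroup D)).image mat ⊆
          GLset.filter fun x => mat ⟨v, hvD⟩ * x = x * mat ⟨v, hvD⟩ := by
        intro m hm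
        obtain ⟨x, hx, rfl⟩ := Finset.mem_image.1 hm
        rw [Finset.mem_filter, ← map_mul, ← map_mul]
        exact ⟨hmatGL x, congrArg mat (Subtype.ext (hvc x (hP ⟨x, (Finset.mem_filter.1 hx).2, rfl⟩)).symm)⟩
      have hc := Finset.card_le_card hle
      rw [hc4, Finset.card_image_of_injective _ hmatinj, ← Fintype.card_subtype, ← Nat.card_eq_fintype_card] at hc
      rw [show Nat.card {x : D // x ∈ (P0 : Subgroup D)} = 16 from hP0] at hc
      omega
    intro g hg
    rw [hmemD, ← show v = t from congrArg Subtype.val hveq]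
    exact hvc g hg
  have hPcard : Nat.card P = 16 := by
    have h1 : 16 ∣ Nat.card (P : Subgroup G) := by
      rw [← hP0, ← Subgroup.card_map_of_injective D.subtype_injective]
      exact Subgroup.card_dvd_of_le hP
    have h2 := Subgroup.card_dvd_of_le hPD
    rw [hcardD] at h2
    obtain ⟨k, hk⟩ := P.isPGroup'.exists_card_eq
    rw [hk] at h1 h2 ⊢
    have hk4 : 4 ≤ k := (Nat.pow_dvd_pow_iff_le_right one_lt_two).1 h1
    have hk5 : k < 5 := by
      by_contra h
      have := (Nat.pow_dvd_pow 2 (not_lt.1 h)).trans h2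
      norm_num at this
    interval_cases k
    rfl
  obtain ⟨n, hn, hnG⟩ := coprime_part P hPcard
  -- all involutions are conjugate to `t`
  have hG2 : ∀ M : Subgroup G, M.Normal → M.index ≠ 2 := by
    intro M hM h2
    rcases hM.eq_bot_or_eq_top with h | h
    · rw [h, Subgroup.index_bot] at h2
      rw [hnG] at h2
      omega
    · rw [h, Subgroup.index_top] at h2
      norm_num at h2
  let detHom : D →* ℤ :=
    { toFun := fun x => sgn (mat x).det
      map_one' := by rw [map_one, Matrix.det_one]; rfl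
      map_mul' := fun a b => by
        have ha := hmatGL a; have hb := hmatGL b
        simp only [GLset, Finset.mem_filter, Finset.mem_univ, true_and] at ha hb
        rw [map_mul, Matrix.det_mul, facts_vec.2.2.2 _ _ ha hb] }
  have hsgn : ∀ z : ZMod 3, z ≠ 0 → (sgn z = 1 → z = 1) ∧ (sgn z ≠ 1 → z = -1) := by decide
  let detU : D →* ℤˣ := detHom.toHomUnits
  have hfus : ∀ u : G, u * u = 1 → u ≠ 1 → IsConj t u := by
    intro u hu hu1
    set K0 : Subgroup G := detU.ker.map D.subtype with hK0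
    have hK0D : K0 ≤ D := Subgroup.map_subtype_le _
    have hQi : ((P : Subgroup G) ⊓ K0).relIndex (P : Subgroup G) = 2 := by
      rw [Subgroup.inf_relIndex_left]
      have hdvd : K0.relIndex (P : Subgroup G) ∣ 2 := by
        have h := Subgroup.relIndex_dvd_index_of_normal detU.ker ((P : Subgroup G).subgroupOf D)
        have hKs : detU.ker = K0.subgroupOf D := by
          rw [hK0, Subgroup.subgroupOf, Subgroup.comap_map_eq_self_of_injective D.subtype_injective]
        rw [hKs, Subgroup.relIndex_subgroupOf hPD, ← hKs, Subgroup.index_ker] at h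
        refine h.trans ?_
        rw [show (2 : ℕ) = Nat.card ℤˣ by simp]
        exact Subgroup.card_subgroup_dvd_card _
      rcases (Nat.dvd_prime Nat.prime_two).1 hdvd with h | h
      · exfalso
        rw [Subgroup.relIndex_eq_one] at h
        have h1 := Subgroup.card_dvd_of_le h
        rw [hPcard, hK0, Subgroup.card_map_of_injective D.subtype_injective] at h1
        have h2 := Subgroup.card_mul_index detU.ker
        rw [hcardD, Subgroup.index_ker] at h2
        obtain ⟨x, hx⟩ := hmatsurj (!![1, 0; 0, -1]) (by decide +kernel)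
        have hne : detU x ≠ 1 := fun h => by
          have h' : sgn (mat x).det = 1 := congrArg Units.val h
          rw [hx] at h'
          revert h'; decide +kernel
        have hr : 2 ≤ Nat.card detU.range := by
          haveI : Nontrivial detU.range := ⟨⟨⟨detU x, ⟨x, rfl⟩⟩, 1, fun h => hne (congrArg Subtype.val h)⟩⟩
          exact Finite.one_lt_card
        have hr2 : Nat.card detU.range ≤ 2 := (Nat.le_of_dvd Nat.card_pos (Subgroup.card_subgroup_dvd_card _)).trans (by simp)
        obtain ⟨q, hq⟩ := h1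
        rw [hq] at h2
        rcases q with _ | _ | q
        · simp at h2
        · nlinarith
        · nlinarith
      · exact h
    obtain ⟨g, hg, -⟩ := CfsgLib.TransferExtremal.exists_conj hG2 P _ inf_le_left hQi u (by rw [pow_two, hu])
    obtain ⟨⟨v, hvD⟩, hvk, hve⟩ := (Subgroup.mem_inf.1 hg).2
    refine isConj_iff.2 ⟨g⁻¹, ?_⟩
    have hve' : v = g * u * g⁻¹ := hve
    have hvv : (⟨v, hvD⟩ : D) * ⟨v, hvD⟩ = 1 := Subtype.ext (by
      show v * v = 1; rw [hve', conj_mul, hu, mul_one, mul_inv_cancel])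
    have hv1 : (⟨v, hvD⟩ : D) ≠ 1 := fun h => hu1 (conj_eq_one_iff.1 (hve'.symm.trans (congrArg Subtype.val h)))
    have hdet : (mat ⟨v, hvD⟩).det = 1 := (hsgn _ (by
      have := hmatGL ⟨v, hvD⟩; simpa [GLset] using this)).1 (congrArg Units.val (MonoidHom.mem_ker.1 hvk))
    have hvt : (⟨v, hvD⟩ : D) = tD := hmatinj ((facts_det _ (hmatinv _ hvv hv1) hdet).trans hmt.symm)
    rw [← show v = t from congrArg Subtype.val hvt, hve']; group
  -- the induced character
  have hmatv : ∀ (x : D) (v : V2), v ≠ 0 → (mat x).mulVec v ≠ 0 := fun x v hv h => hv (by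
    have h1 := congrArg (mat x⁻¹).mulVec h
    rwa [Matrix.mulVec_mulVec, ← map_mul, inv_mul_cancel, map_one, Matrix.one_mulVec, Matrix.mulVec_zero] at h1)
  let ψ8 : D →* Equiv.Perm {v : V2 // v ≠ 0} :=
    @MulAction.toPermHom D {v : V2 // v ≠ 0} _
      { smul := fun x v => ⟨(mat x).mulVec v.1, hmatv x v.1 v.2⟩
        one_smul := fun v => Subtype.ext (by show (mat 1).mulVec v.1 = v.1; rw [map_one, Matrix.one_mulVec])
        mul_smul := fun a b v => Subtype.ext (by
          show (mat (a * b)).mulVec v.1 = (mat a).mulVec ((mat b).mulVec v.1)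
          rw [map_mul, Matrix.mulVec_mulVec]) }
  let ψ4 : D →* Equiv.Perm {v : V2 // isRep v = true} :=
    @MulAction.toPermHom D {v : V2 // isRep v = true} _
      { smul := fun x v => ⟨normv ((mat x).mulVec v.1), facts_vec.1 _ (hmatv x _ (facts_vec.2.1 _ v.2).2)⟩
        one_smul := fun v => Subtype.ext (by
          show normv ((mat 1).mulVec v.1) = v.1
          rw [map_one, Matrix.one_mulVec, (facts_vec.2.1 _ v.2).1])
        mul_smul := fun a b v => Subtype.ext (by
          show normv ((mat (a * b)).mulVec v.1) = normv ((mat a).mulVec (normv ((mat b).mulVec v.1)))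
          rw [map_mul, ← Matrix.mulVec_mulVec]
          have hne := hmatv b _ (facts_vec.2.1 _ v.2).2
          rcases (show normv ((mat b).mulVec v.1) = (mat b).mulVec v.1 ∨ normv ((mat b).mulVec v.1) = -(mat b).mulVec v.1 by
            rw [normv]; split
            · exact Or.inl rfl
            · exact Or.inr rfl) with h | h <;> rw [h]
          rw [Matrix.mulVec_neg, facts_vec.2.2.1 _ (hmatv a _ hne)]) }
  let det1 : D →* Matrix (Fin 1) (Fin 1) ℤ :=
    ((Matrix.scalar (Fin 1)).toMonoidHom).comp detHom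
  let α : D → ℂ := fun x => (fval (mat x) : ℂ)
  have hα0 : Cfsg.IsGeneralizedCharacter D α := by
    have hP4 : Cfsg.IsCharacter D (fun x => (P4 (mat x) : ℂ)) := by
      convert isChar_perm ψ4 using 1
      funext x
      simp only [P4]
      norm_cast
      refine Finset.card_nbij' (fun v => if h : isRep v = true then ⟨v, h⟩ else ⟨![1, 0], by decide⟩) (fun v => v.1) ?_ ?_ ?_ ?_
      · intro v hv
        simp only [Finset.coe_filter, Finset.mem_univ, true_and, Set.mem_setOf_eq] at hv ⊢
        rw [dif_pos hv.1]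
        exact Subtype.ext hv.2
      · intro v hv
        simp only [Finset.coe_filter, Finset.mem_univ, true_and, Set.mem_setOf_eq] at hv ⊢
        exact ⟨v.2, congrArg Subtype.val hv⟩
      · intro v hv
        simp only [Finset.coe_filter, Finset.mem_univ, true_and, Set.mem_setOf_eq] at hv
        simp [hv.1]
      · intro v _; simp [v.2]
    have hP8 : Cfsg.IsCharacter D (fun x => (P8 (mat x) : ℂ)) := by
      convert isChar_perm ψ8 using 1
      funext x
      simp only [P8]
      norm_cast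
      refine Finset.card_nbij' (fun v => if h : v ≠ 0 then ⟨v, h⟩ else ⟨![1, 0], by decide⟩) (fun v => v.1) ?_ ?_ ?_ ?_
      · intro v hv
        simp only [Finset.coe_filter, Finset.mem_univ, true_and, Set.mem_setOf_eq] at hv ⊢
        rw [dif_pos hv.1]
        exact Subtype.ext hv.2
      · intro v hv
        simp only [Finset.coe_filter, Finset.mem_univ, true_and, Set.mem_setOf_eq] at hv ⊢
        exact ⟨v.2, congrArg Subtype.val hv⟩
      · intro v hv
        simp only [Finset.coe_filter, Finset.mem_univ, true_and, Set.mem_setOf_eq] at hv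
        simp [hv.1]
      · intro v _; simp [v.2]
    have hdet : Cfsg.IsCharacter D (fun x => (detHom x : ℂ)) := by
      convert isChar_matrix det1 using 1
      funext x
      simp [det1, Matrix.trace, Matrix.scalar_apply, Matrix.diagonal_apply, Matrix.intCast_apply]
    have h := isGenChar_sub (isGenChar_sub
      (isGenChar_of_char (isCharacter_add (isCharacter_add isCharacter_one hP4) (isCharacter_mul hdet hP4)))
      (isGenChar_of_char hdet)) (isGenChar_of_char hP8)
    convert h using 1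
    funext x
    show (fval (mat x) : ℂ) = _
    simp only [fval, Pi.sub_apply, Pi.add_apply, Pi.mul_apply, Int.cast_add, Int.cast_sub, Int.cast_one, Int.cast_mul]
    show _ = _ + (sgn (mat x).det : ℂ) * _ - (sgn (mat x).det : ℂ) - _
    ring
  set Φ := Cfsg.indFun D α with hΦ
  have hΦg : Cfsg.IsGeneralizedCharacter G Φ := isGenChar_indFun D hα0
  have hαcls : Cfsg.IsClassFunction D α := (isGenChar_iff_coeff_int.mp hα0).1
  set T : Set G := {g | ∃ x : D, fval (mat x) ≠ 0 ∧ g = x} with hT
  have hαT : ∀ x : D, (x : G) ∉ T → α x = 0 := by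
    intro x hx
    by_contra h
    exact hx ⟨x, fun h0 => h (by show (fval (mat x) : ℂ) = 0; rw [h0, Int.cast_zero]), rfl⟩
  have hTI : ∀ g : G, g ∉ D → ∀ s ∈ T, g * s * g⁻¹ ∈ T → s = 1 := by
    rintro g hg _ ⟨x, hx, rfl⟩ ⟨y, hy, hxy⟩
    exfalso
    apply hg
    obtain ⟨k, hk, hkx⟩ := (facts_supp _ (hmatGL x) hx).1
    have h1 : x ^ k = tD := hmatinj (by rw [map_pow, hkx, hmt])
    have h2 : ((y : G)) ^ k = g * t * g⁻¹ := by
      rw [← hxy, conj_pow, ← SubgroupClass.coe_pow, h1]
    have hyt : y ^ k = tD := by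
      refine hmatinj ((map_pow mat y k).trans (((facts_supp _ (hmatGL y) hy).2 k hk ?_ ?_).trans hmt.symm))
      · rw [← map_pow, ← map_mul, show y ^ k * y ^ k = 1 from Subtype.ext (by
          show (y : G) ^ k * (y : G) ^ k = 1; rw [h2, conj_mul, htt, mul_one, mul_inv_cancel]), map_one]
      · intro h
        have h' : y ^ k = 1 := hmatinj ((map_pow mat y k).trans (h.trans (map_one mat).symm))
        have := congrArg Subtype.val h'
        rw [SubgroupClass.coe_pow, h2] at this
        exact ht1 (conj_eq_one_iff.1 this)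
    have h3 := congrArg Subtype.val hyt
    rw [SubgroupClass.coe_pow, h2] at h3
    rw [hmemD]
    exact mul_inv_eq_iff_eq_mul.1 h3
  have hα1 : α 1 = 0 := by
    show (fval (mat 1) : ℂ) = 0
    rw [map_one, facts_sum.1, Int.cast_zero]
  have hΦt : Φ t = 8 := by
    have hv : fval (mat tD) = 8 := by rw [hmt]; exact facts_sum.2.1
    have h := indFun_apply_of_TI D T hTI hαcls hαT hα1 tD ⟨tD, by rw [hv]; norm_num, rfl⟩
    rw [show (t : G) = (tD : G) from rfl]
    refine h.trans ?_
    show (fval (mat tD) : ℂ) = 8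
    rw [hv]; norm_num
  have hΦ1 : Φ 1 = 0 := by rw [hΦ, indFun_apply_one, hα1, mul_zero]
  have h48 : ((Nat.card D : ℂ))⁻¹ = 48⁻¹ := by rw [hcardD]; norm_num
  have h3 : Cfsg.classInner Φ Φ = 3 := by
    rw [hΦ, classInner_indFun_of_TI D T hTI hαcls hαT hαT hα1, Cfsg.classInner, h48,
      hsumD (fun m => (fval m : ℂ) * conj (fval m : ℂ))]
    simp only [map_intCast, ← Int.cast_mul, ← Int.cast_sum, facts_sum.2.2.2.1]
    norm_num
  have hone : Cfsg.classInner Φ (fun _ => 1) = 1 := by
    rw [hΦ, frobenius_reciprocity D α isClassFunction_one, Cfsg.classInner, h48]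
    simp only [map_one, mul_one]
    rw [hsumD (fun m => (fval m : ℂ)), ← Int.cast_sum, facts_sum.2.2.1]
    norm_num
  obtain ⟨χ1, χ2, hi1, hi2, hn1, hn2, hdeg, hdec⟩ := exists_decomp_norm_three hΦg h3 hone hΦ1
  have hvals : ∀ χ : G → ℂ, Cfsg.IsIrrCharacter G χ → ∃ (x : ℕ) (A : ℤ), 0 < x ∧ χ 1 = x ∧ χ t = A := by
    intro χ hχ
    obtain ⟨x, hx, hx1⟩ := irr_degree_pos hχ
    obtain ⟨m, hm⟩ := classInner_char_nat (isCharacter_restrict (isCharacter_of_irr hχ) (Subgroup.zpowers t)) isCharacter_one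
    refine ⟨x, 2 * (m : ℤ) - x, hx, hx1, ?_⟩
    have hcard : Nat.card (Subgroup.zpowers t) = 2 := by rw [Nat.card_zpowers, ht]
    have huniv : (Finset.univ : Finset (Subgroup.zpowers t)) = {1, ⟨t, Subgroup.mem_zpowers t⟩} := by
      refine (Finset.eq_univ_of_card _ ?_).symm
      rw [Finset.card_pair (fun h => ht1 (congrArg Subtype.val h).symm), ← Nat.card_eq_fintype_card, hcard]
    rw [Cfsg.classInner, hcard, huniv, Finset.sum_pair (fun h => ht1 (congrArg Subtype.val h).symm)] at hm
    simp only [map_one, mul_one, OneMemClass.coe_one, hx1] at hm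
    push_cast at hm ⊢
    linear_combination 2 * hm
  obtain ⟨x, A, hx, hx1, hA⟩ := hvals χ1 hi1
  obtain ⟨y, B, hy, hy1, hB⟩ := hvals χ2 hi2
  have hxy : (x : ℤ) = y + 1 := by rw [hx1, hy1] at hdeg; exact_mod_cast hdeg
  have hAB : B - A = 7 := by
    have h := hdec t
    rw [hΦt, hA, hB] at h
    apply Int.cast_injective (α := ℂ)
    push_cast
    linear_combination -h
  have hne12 : χ1 ≠ χ2 := fun h => by rw [h] at hdeg; simp at hdeg
  have hsq : 1 + A * A + B * B ≤ 48 := by
    have h := sum_irr_mul_conj t t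
    rw [if_pos (IsConj.refl t)] at h
    simp only [Complex.mul_conj] at h
    have hreal : ∑ χ : Cfsg.IrrCharacter G, Complex.normSq ((χ : G → ℂ) t) = (48 : ℝ) := by
      have : ((48 : ℕ) : ℂ) = (Nat.card (Subgroup.centralizer ({t} : Set G)) : ℂ) := by rw [← hcardD]
      rw [← this] at h
      exact_mod_cast h
    have hle := Finset.sum_le_univ_sum_of_nonneg (s := ({⟨_, isIrrCharacter_one⟩, ⟨χ1, hi1⟩, ⟨χ2, hi2⟩} : Finset (Cfsg.IrrCharacter G)))
      (fun χ : Cfsg.IrrCharacter G => Complex.normSq_nonneg ((χ : G → ℂ) t))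
    rw [hreal, Finset.sum_insert (by simp [Subtype.ext_iff, hn1.symm, hn2.symm]),
      Finset.sum_pair (by simp [Subtype.ext_iff, hne12])] at hle
    simp only [hA, hB, map_one, Complex.normSq_intCast] at hle
    exact_mod_cast (by linarith : (1 : ℝ) + (A : ℝ) * A + (B : ℝ) * B ≤ 48)
  -- counting products of two involutions
  set F : G → ℂ := Cfsg.extendByZero D α with hF
  set Kc : Finset G := Finset.univ.image (fun p : G => p * t * p⁻¹) with hKc
  have hfib : ∀ f : G → ℂ, ∑ p : G, f (p * t * p⁻¹) = 48 * ∑ u ∈ Kc, f u := by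
    intro f
    rw [Finset.sum_comp, Finset.mul_sum]
    refine Finset.sum_congr rfl fun u hu => ?_
    obtain ⟨q, -, rfl⟩ := Finset.mem_image.1 hu
    rw [nsmul_eq_mul, ← Fintype.card_subtype, ← Nat.card_eq_fintype_card]
    have hh : Nat.card {p : G // p * t * p⁻¹ = q * t * q⁻¹} = 48 := by
      refine (Nat.card_congr (Equiv.subtypeEquiv (Equiv.mulLeft q⁻¹) (fun p => ?_))).trans hcardD
      rw [Equiv.coe_mulLeft, hmemD]
      constructor
      · intro h
        calc q⁻¹ * p * t = q⁻¹ * (p * t * p⁻¹) * p := by group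
          _ = t * (q⁻¹ * p) := by rw [h]; group
      · intro h
        calc p * t * p⁻¹ = q * (q⁻¹ * p * t) * p⁻¹ := by group
          _ = q * t * q⁻¹ := by rw [h]; group
    rw [hh]
    norm_num
  have hFx : ∀ z : D, F z = (fval (mat z) : ℂ) := fun z => by rw [hF, extendByZero_coe]
  have hKsq : ∀ u ∈ Kc, u * u = 1 := by
    intro u hu
    obtain ⟨q, -, rfl⟩ := Finset.mem_image.1 hu
    rw [conj_mul, htt, mul_one, mul_inv_cancel]
  have hinD : ∀ u ∈ Kc, ∀ v ∈ Kc, F (u * v) ≠ 0 → u ∈ D ∧ v ∈ D := by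
    intro u hu v hv hne
    have hmem : u * v ∈ D := by
      by_contra h
      exact hne (by rw [hF, extendByZero_of_not_mem _ _ h])
    have hne' : fval (mat ⟨u * v, hmem⟩) ≠ 0 := fun h => hne (by
      rw [show u * v = ((⟨u * v, hmem⟩ : D) : G) from rfl, hFx, h, Int.cast_zero])
    obtain ⟨k, -, hkx⟩ := (facts_supp _ (hmatGL _) hne').1
    have h1 : (⟨u * v, hmem⟩ : D) ^ k = tD := hmatinj (by rw [map_pow, hkx, hmt])
    have h2 : (u * v) ^ k = t := congrArg Subtype.val h1
    have hui : u⁻¹ = u := inv_eq_of_mul_eq_one_right (hKsq u hu)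
    have hvi : v⁻¹ = v := inv_eq_of_mul_eq_one_right (hKsq v hv)
    have hut : u * t * u⁻¹ = t := by
      rw [← h2, ← conj_pow, show u * (u * v) * u⁻¹ = (u * v)⁻¹ by
        rw [mul_inv_rev, hui, hvi, ← mul_assoc, hKsq u hu, one_mul], inv_pow, h2, hti]
    have huD : u ∈ D := (hmemD u).2 (mul_inv_eq_iff_eq_mul.1 hut)
    exact ⟨huD, by have := mul_mem (inv_mem huD) hmem; rwa [inv_mul_cancel_left] at this⟩
  have hKD : ∀ Fn : G → ℂ, (∀ u ∈ Kc, Fn u ≠ 0 → u ∈ D) → ∀ Fm : M2 → ℂ, (∀ x : D, (x : G) ∈ Kc → Fn x = Fm (mat x)) →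
      ∑ u ∈ Kc, Fn u = ∑ m ∈ invs, Fm m := by
    intro Fn hFn Fm hFm
    rw [← Finset.sum_filter_of_ne hFn]
    refine Finset.sum_bij (fun u hu => mat ⟨u, (Finset.mem_filter.1 hu).2⟩) ?_ ?_ ?_ ?_
    · intro u hu
      obtain ⟨hu1, hu2⟩ := Finset.mem_filter.1 hu
      refine hmatinv _ (Subtype.ext (hKsq u hu1)) fun h => ?_
      obtain ⟨q, -, hq⟩ := Finset.mem_image.1 hu1
      rw [show u = 1 from congrArg Subtype.val h, conj_eq_one_iff] at hq
      exact ht1 hq
    · exact fun a ha b hb h => congrArg Subtype.val (hmatinj h)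
    · intro m hm
      simp only [invs, Finset.mem_filter, Finset.mem_univ, true_and] at hm
      obtain ⟨z, rfl⟩ := hmatsurj m (by
        simp only [GLset, Finset.mem_filter, Finset.mem_univ, true_and]
        intro h0
        have := congrArg Matrix.det hm.1
        rw [Matrix.det_mul, h0, mul_zero, Matrix.det_one] at this
        exact zero_ne_one this)
      have hzz : (z : G) * z = 1 := congrArg Subtype.val (hmatinj ((map_mul mat z z).trans (hm.1.trans (map_one mat).symm)) : z * z = 1)
      have hz1 : (z : G) ≠ 1 := fun h => hm.2 (by rw [show z = 1 from Subtype.ext h, map_one])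
      obtain ⟨q, hq⟩ := isConj_iff.1 (hfus z hzz hz1)
      exact ⟨z, Finset.mem_filter.2 ⟨Finset.mem_image.2 ⟨q, Finset.mem_univ _, hq⟩, z.2⟩, rfl⟩
    · intro u hu
      exact hFm ⟨u, (Finset.mem_filter.1 hu).2⟩ (Finset.mem_filter.1 hu).1
  have hS : ∑ a : G, Φ (a * t * a⁻¹ * t) = 9216 := by
    have h1 : ∀ a : G, Φ (a * t * a⁻¹ * t) = 48⁻¹ * ∑ x : G, F (x⁻¹ * (a * t * a⁻¹ * t) * x) := fun a => by
      rw [hΦ, Cfsg.indFun, h48]
    simp only [h1]
    rw [← Finset.mul_sum, Finset.sum_comm]
    have h2 : ∀ x : G, ∑ a : G, F (x⁻¹ * (a * t * a⁻¹ * t) * x) = 48 * ∑ u ∈ Kc, F (u * (x⁻¹ * t * x)) := by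
      intro x
      rw [← hfib fun u => F (u * (x⁻¹ * t * x)), ← Equiv.sum_comp (Equiv.mulLeft x)]
      refine Finset.sum_congr rfl fun p _ => congrArg F ?_
      rw [Equiv.coe_mulLeft]; group
    simp only [h2]
    rw [← Finset.mul_sum, ← Equiv.sum_comp (Equiv.inv G)]
    simp only [Equiv.inv_apply, inv_inv]
    rw [hfib fun v => ∑ u ∈ Kc, F (u * v)]
    have h3 : ∑ v ∈ Kc, ∑ u ∈ Kc, F (u * v) = ∑ b ∈ invs, ∑ a ∈ invs, (fval (a * b) : ℂ) := by
      refine hKD _ (fun v hv hne => ?_) (fun b => ∑ a ∈ invs, (fval (a * b) : ℂ)) (fun z hz => ?_)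
      · obtain ⟨u, hu, hu'⟩ := Finset.exists_ne_zero_of_sum_ne_zero hne
        exact (hinD u hu v hv hu').2
      · refine hKD _ (fun u hu hne => (hinD u hu _ hz hne).1) (fun a => (fval (a * mat z) : ℂ)) (fun w _ => ?_)
        rw [← map_mul, ← Subgroup.coe_mul, hFx]
    rw [h3, show ∑ b ∈ invs, ∑ a ∈ invs, (fval (a * b) : ℂ) = 192 by exact_mod_cast facts_W]
    norm_num
  have hS2 : ∑ a : G, Φ (a * t * a⁻¹ * t) = (Nat.card G : ℂ) * (1 + (B : ℂ) ^ 2 / y - (A : ℂ) ^ 2 / x) := by
    simp only [hdec]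
    rw [Finset.sum_sub_distrib, Finset.sum_add_distrib, sum_conj_mul_char hi2 t t, sum_conj_mul_char hi1 t t,
      Finset.sum_const, Finset.card_univ, ← Nat.card_eq_fintype_card, nsmul_eq_mul, hA, hB, hx1, hy1]
    ring
  have heq : (16 * n : ℤ) * (x * y + B * B * x - A * A * y) = 9216 * (x * y) := by
    have hx0 : (x : ℂ) ≠ 0 := Nat.cast_ne_zero.2 hx.ne'
    have hy0 : (y : ℂ) ≠ 0 := Nat.cast_ne_zero.2 hy.ne'
    have h := hS.symm.trans hS2
    rw [hnG] at h
    push_cast at h
    field_simp at h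
    apply Int.cast_injective (α := ℂ)
    push_cast
    linear_combination -h
  rcases arith A B x y n hAB hsq hxy hy hn heq with h | h | h | h
  · exact Or.inl (hnG.trans h)
  · exact Or.inr (hnG.trans h)
  · exfalso
    haveI : Fact (Nat.Prime 19) := ⟨by norm_num⟩
    obtain ⟨S⟩ : Nonempty (Sylow 19 G) := inferInstance
    have hS19 : Nat.card S = 19 := by
      rw [Sylow.card_eq_multiplicity, hnG, h, show Nat.factorization 13680 19 = 1 by
        rw [show 13680 = 19 ^ 1 * 720 by norm_num, Nat.factorization_mul (by norm_num) (by norm_num),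
          Nat.Prime.factorization_pow (by norm_num)]
        simp [Nat.factorization_eq_zero_of_not_dvd]]
      norm_num
    have hidx : (S : Subgroup G).index = 720 := by
      have := Subgroup.card_mul_index (S : Subgroup G)
      rw [hS19, hnG, h] at this
      omega
    have hd := S.card_dvd_index
    rw [hidx] at hd
    have hmod := card_sylow_modEq_one 19 G
    have hne : Nat.card (Sylow 19 G) ≠ 1 := by
      intro h1
      haveI := (Nat.card_eq_one_iff_unique.1 h1).1
      rcases (Sylow.normal_of_subsingleton S).eq_bot_or_eq_top with h' | h'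
      · rw [h', Subgroup.card_bot] at hS19; norm_num at hS19
      · rw [h', Subgroup.card_top, hnG] at hS19; omega
    have h20 : Nat.card (Sylow 19 G) = 20 := by
      have hdiv : ∀ m ∈ Nat.divisors 720, m % 19 = 1 → m = 1 ∨ m = 20 := by decide +kernel
      exact (hdiv _ (Nat.mem_divisors.2 ⟨hd, by norm_num⟩) hmod).resolve_left hne
    set N := Subgroup.normalizer ((S : Subgroup G) : Set G) with hN
    have hN684 : Nat.card N = 684 := by
      have h1 := Subgroup.card_mul_index N
      have h2 : Nat.card (Sylow 19 G) = N.index := S.card_eq_index_normalizer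
      rw [hnG, h, ← h2, h20] at h1
      omega
    let ψ := Subgroup.normalizerMonoidHom (S : Subgroup G)
    have h18 : Nat.card (MulAut (S : Subgroup G)) = 18 := by
      haveI : IsCyclic (S : Subgroup G) := isCyclic_of_prime_card hS19
      rw [IsCyclic.card_mulAut, hS19]
      rfl
    have hker : 2 ∣ Nat.card ψ.ker := by
      have h1 := Subgroup.card_mul_index ψ.ker
      rw [Subgroup.index_ker] at h1
      have h2 : Nat.card ψ.range ∣ 18 := h18 ▸ Subgroup.card_subgroup_dvd_card _
      have h3 : Nat.card ψ.ker * Nat.card ψ.range = 684 := h1.trans hN684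
      have hle := Nat.le_of_dvd (by norm_num) h2
      interval_cases hq : Nat.card ψ.range <;> omega
    obtain ⟨⟨v, hvk⟩, hv⟩ := exists_prime_orderOf_dvd_card' 2 hker
    have hv2 : orderOf (v : G) = 2 := by rw [Subgroup.orderOf_coe, ← Subgroup.orderOf_mk v hvk]; exact hv
    obtain ⟨q, hq⟩ := isConj_iff.1 (hfus (v : G) (by rw [← pow_two, ← hv2, pow_orderOf_eq_one])
      fun h => by rw [h, orderOf_one] at hv2; norm_num at hv2)
    have hle : (S : Subgroup G).map (MulAut.conj q⁻¹).toMonoidHom ≤ D := by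
      rintro _ ⟨s, hs, rfl⟩
      show q⁻¹ * s * q⁻¹⁻¹ ∈ D
      have h0 := congrArg Subtype.val (DFunLike.congr_fun (MonoidHom.mem_ker.1 hvk) (⟨s, hs⟩ : (S : Subgroup G)))
      have h1 : (v : G) * s = s * v := mul_inv_eq_iff_eq_mul.1 h0
      rw [hmemD, show t = q⁻¹ * v * q by rw [← hq]; group]
      calc q⁻¹ * s * q⁻¹⁻¹ * (q⁻¹ * v * q) = q⁻¹ * (s * v) * q := by group
        _ = q⁻¹ * (v * s) * q := by rw [h1]
        _ = q⁻¹ * v * q * (q⁻¹ * s * q⁻¹⁻¹) := by group
    have h1 := Subgroup.card_dvd_of_le hle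
    rw [Subgroup.card_map_of_injective (MulAut.conj q⁻¹).injective, hS19, hcardD] at h1
    norm_num at h1
  · exfalso
    haveI : Fact (Nat.Prime 13) := ⟨by norm_num⟩
    obtain ⟨S⟩ : Nonempty (Sylow 13 G) := inferInstance
    have hS13 : Nat.card S = 13 := by
      rw [Sylow.card_eq_multiplicity, hnG, h, show Nat.factorization 10608 13 = 1 by
        rw [show 10608 = 13 ^ 1 * 816 by norm_num, Nat.factorization_mul (by norm_num) (by norm_num),
          Nat.Prime.factorization_pow (by norm_num)]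
        simp [Nat.factorization_eq_zero_of_not_dvd]]
      norm_num
    have hidx : (S : Subgroup G).index = 816 := by
      have := Subgroup.card_mul_index (S : Subgroup G)
      rw [hS13, hnG, h] at this
      omega
    have hd := S.card_dvd_index
    rw [hidx] at hd
    have hdiv : ∀ m ∈ Nat.divisors 816, m % 13 = 1 → m = 1 := by decide +kernel
    have h1 := hdiv _ (Nat.mem_divisors.2 ⟨hd, by norm_num⟩) (card_sylow_modEq_one 13 G)
    haveI := (Nat.card_eq_one_iff_unique.1 h1).1
    rcases (Sylow.normal_of_subsingleton S).eq_bot_or_eq_top with h' | h'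
    · rw [h', Subgroup.card_bot] at hS13; norm_num at hS13
    · rw [h', Subgroup.card_top, hnG] at hS13; omega

end Cfsg.Agent.S0197
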