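import Cfsg.Statements.S1135
import Cfsg.Agent.Lib.RankOne.Central

set_option autoImplicit false
open Cfsg

namespace Cfsg.Agent.S1135

/-- In the rank-one set-up (`G` finite and doubly transitive on `Ω`, `t` an involution moving `a`, `Q` normal in `G_a` with `G_a = Q D`, `Q ⊓ D = 1` for the two-point stabiliser `D = G_a ⊓ G_{t • a}`, `|Q|` even, `|D|` odd), with the action faithful and `G` containing two distinct commuting involutions: if `x = u v` with `u, v` involutions and `x² ≠ 1`, then `x` is conjugate to `u' t` for some involution `u'` of `G_a`, and `|C_G(x)|` is odd. -/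
theorem result {G Ω : Type*} [Group G] [Finite G] [MulAction G Ω] [FaithfulSMul G Ω] {a : Ω} {t : G} {Q : Subgroup G}
    (hS : Cfsg.IsRankOneSetup G Ω a t Q)
    (h2 : ∃ x y : G, x ≠ 1 ∧ y ≠ 1 ∧ x ≠ y ∧ x * x = 1 ∧ y * y = 1 ∧ x * y = y * x)
    (u v : G) (hu1 : u ≠ 1) (hu2 : u * u = 1) (hv1 : v ≠ 1) (hv2 : v * v = 1) (hx : (u * v) * (u * v) ≠ 1) :
    (∃ g : G, ∃ u' ∈ Cfsg.involutionsIn (MulAction.stabilizer G a : Set G), g * (u * v) * g⁻¹ = u' * t) ∧
      Odd (Nat.card ↥(Subgroup.centralizer {u * v})) := by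
  obtain ⟨g, u', hu', he⟩ := CfsgLib.RankOne.prod_invol hS h2 hu1 hu2 hv1 hv2 hx
  refine ⟨⟨g, u', hu', he⟩, ?_⟩
  have h := CfsgLib.RankOne.odd_cent hS hu'
  rw [← he] at h
  have e : (Subgroup.centralizer {u * v}).map (MulAut.conj g).toMonoidHom = Subgroup.centralizer {g * (u * v) * g⁻¹} := by
    ext y
    simp only [Subgroup.mem_map, MulEquiv.coe_toMonoidHom, MulAut.conj_apply, Subgroup.mem_centralizer_singleton_iff]
    constructor
    · rintro ⟨z, hz, rfl⟩
      calc g * z * g⁻¹ * (g * (u * v) * g⁻¹) = g * (z * (u * v)) * g⁻¹ := by group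
        _ = _ := by rw [hz]; group
    · intro hy
      refine ⟨g⁻¹ * y * g, ?_, by group⟩
      calc g⁻¹ * y * g * (u * v) = g⁻¹ * (y * (g * (u * v) * g⁻¹)) * g := by group
        _ = _ := by rw [hy]; group
  rw [← e, Subgroup.card_map_of_injective (MulAut.conj g).injective] at h
  exact h

end Cfsg.Agent.S1135
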