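import Cfsg.Statements.S4480
import Cfsg.Agent.Lib.Blocks.KleinSylow

set_option autoImplicit false
open Cfsg

namespace Cfsg.Agent.S4480

/-- Same setting as the Klein-four order formula: G of order 4·g₀ (g₀ odd) with no normal 2-complement, P a Sylow 2-subgroup, J an involution of P, M over 2, principal 2-block {1, χ₁, χ₂, χ₃} with χ_i(J) = ε_i = ±1. Suppose ε₁ε₂ε₃ = −1 and ε₃ = −1, and put q = x₃ = χ₃(1). Then there is a natural number m with 4·c(J) = m·c(P)·(q + 1), and the order of G equals (m³·c(P)/4)·(q³ − q)/2, that is 8·#G = m³·c(P)·(q³ − q). -/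
theorem result {G : Type*} [Group G] [Finite G] (M : Ideal Cfsg.AlgInt) (hM : Cfsg.IsPModular 2 M) (g₀ : ℕ) (hg₀ : Odd g₀) (hG : Nat.card G = 4 * g₀) (hnc : ¬ ∃ N : Subgroup G, N.Normal ∧ Nat.card N = g₀) (P : Sylow 2 G) (J : G) (hJ : J ∈ (P : Subgroup G)) (hJ2 : orderOf J = 2) (χ₁ χ₂ χ₃ : Cfsg.IrrCharacter G) (ε₁ ε₂ ε₃ : ℤ) (hB : Cfsg.principalBlock M G = {χ : Cfsg.IrrCharacter G | (χ : G → ℂ) = (fun _ => 1) ∨ χ = χ₁ ∨ χ = χ₂ ∨ χ = χ₃}) (hdist : (χ₁ : G → ℂ) ≠ (fun _ => 1) ∧ (χ₂ : G → ℂ) ≠ (fun _ => 1) ∧ (χ₃ : G → ℂ) ≠ (fun _ => 1) ∧ χ₁ ≠ χ₂ ∧ χ₁ ≠ χ₃ ∧ χ₂ ≠ χ₃) (hε : (ε₁ = 1 ∨ ε₁ = -1) ∧ (ε₂ = 1 ∨ ε₂ = -1) ∧ (ε₃ = 1 ∨ ε₃ = -1)) (hval : (χ₁ : G → ℂ) J = ε₁ ∧ (χ₂ : G → ℂ) J = ε₂ ∧ (χ₃ : G → ℂ) J = ε₃) (hprod : ε₁ * ε₂ * ε₃ = -1) (hε₃ : ε₃ = -1) : ∃ m : ℕ, 4 * Nat.card (Subgroup.centralizer ({J} : Set G)) = m * Nat.card (Subgroup.centralizer ((P : Subgroup G) : Set G)) * (Cfsg.charDegree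 (χ₃ : G → ℂ) + 1) ∧ 8 * Nat.card G = m ^ 3 * Nat.card (Subgroup.centralizer ((P : Subgroup G) : Set G)) * (Cfsg.charDegree (χ₃ : G → ℂ) ^ 3 - Cfsg.charDegree (χ₃ : G → ℂ)) := by
  classical
  haveI := Fintype.ofFinite G
  obtain ⟨hlin, ⟨d1, d2, d3⟩, ⟨n, hn, hord⟩, hind, hconj⟩ :=
    CfsgLib.Blocks.klein_data hM hg₀ hG hnc P hJ hJ2 χ₁ χ₂ χ₃ ε₁ ε₂ ε₃ hB hdist hε hval
  subst hε₃
  have hpos : ∀ χ : Cfsg.IrrCharacter G, 0 < Cfsg.charDegree (χ : G → ℂ) := fun χ =>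
    CfsgLib.Blocks.irr_charDegree_pos χ
  have p1 := hpos χ₁
  have p2 := hpos χ₂
  have p3 := hpos χ₃
  obtain ⟨e1, e2⟩ : ε₁ = 1 ∧ ε₂ = 1 := by
    rcases hε.1 with rfl | rfl <;> rcases hε.2.1 with rfl | rfl <;> omega
  subst e1 e2
  obtain ⟨v1, v2, v3⟩ := hval
  push_cast at v1 v2 v3 hind
  -- conjugation inside the block
  have hcases : ∀ χ, (χ = χ₁ ∨ χ = χ₂ ∨ χ = χ₃) → CfsgLib.Blocks.conjIrr χ = χ₁ ∨
      CfsgLib.Blocks.conjIrr χ = χ₂ ∨ CfsgLib.Blocks.conjIrr χ = χ₃ := by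
    intro χ hχ
    have h := hconj χ (by rw [hB]; exact Or.inr hχ)
    rw [hB] at h
    refine h.resolve_left fun h1 => ?_
    have h2 : (χ : G → ℂ) = fun _ => 1 := funext fun g => by
      have h3 := congrFun h1 g
      rw [CfsgLib.Blocks.conjIrr_apply] at h3
      simpa using congrArg (starRingEnd ℂ) h3
    rcases hχ with rfl | rfl | rfl
    · exact hdist.1 h2
    · exact hdist.2.1 h2
    · exact hdist.2.2.1 h2
  have hvalJ : ∀ χ, (CfsgLib.Blocks.conjIrr χ : G → ℂ) J = (starRingEnd ℂ) ((χ : G → ℂ) J) :=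
    fun χ => CfsgLib.Blocks.conjIrr_apply χ J
  have h3 : CfsgLib.Blocks.conjIrr χ₃ = χ₃ := by
    rcases hcases χ₃ (Or.inr (Or.inr rfl)) with h | h | h
    · exact absurd (hvalJ χ₃) (by rw [h, v1, v3]; norm_num)
    · exact absurd (hvalJ χ₃) (by rw [h, v2, v3]; norm_num)
    · exact h
  have hne3 : ∀ χ, (χ = χ₁ ∨ χ = χ₂) → CfsgLib.Blocks.conjIrr χ ≠ χ₃ := by
    rintro χ hχ h
    have h' := hvalJ χ
    rcases hχ with rfl | rfl
    · rw [h, v1, v3] at h'; norm_num at h'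
    · rw [h, v2, v3] at h'; norm_num at h'
  have hodd : ∀ (x : ℕ) (e : ℤ), (e = 1 ∨ e = -1) → (4 : ℤ) ∣ (x : ℤ) - e → Odd x := by
    intro x e he hd
    rw [Nat.odd_iff]
    omega
  have hI3 := CfsgLib.Blocks.indicator_real_odd χ₃ h3 (hodd _ _ (Or.inr rfl) d3)
  -- `χ₁` and `χ₂` are conjugate
  have h12 : CfsgLib.Blocks.conjIrr χ₁ = χ₂ := by
    rcases hcases χ₁ (Or.inl rfl) with h | h | h
    · exfalso
      have h2 : CfsgLib.Blocks.conjIrr χ₂ = χ₂ := by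
        rcases hcases χ₂ (Or.inr (Or.inl rfl)) with h' | h' | h'
        · exfalso
          apply hdist.2.2.2.1
          refine Subtype.ext (funext fun g => ?_)
          have e1 := congrFun (congrArg Subtype.val h) g
          have e2 := congrFun (congrArg Subtype.val h') g
          rw [CfsgLib.Blocks.conjIrr_apply] at e1 e2
          exact ((starRingEnd ℂ).injective (e2.trans e1.symm)).symm
        · exact h'
        · exact absurd h' (hne3 χ₂ (Or.inr rfl))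
      rw [hI3, CfsgLib.Blocks.indicator_real_odd χ₁ h (hodd _ _ (Or.inl rfl) d1),
        CfsgLib.Blocks.indicator_real_odd χ₂ h2 (hodd _ _ (Or.inl rfl) d2)] at hind
      simp only [map_natCast, one_mul, neg_mul] at hind
      have h0 : (2 : ℂ) * (Nat.card G : ℂ) = 0 := by linear_combination hind
      simp [Nat.card_pos.ne'] at h0
    · exact h
    · exact absurd h (hne3 χ₁ (Or.inl rfl))
  have hx : Cfsg.charDegree (χ₂ : G → ℂ) = Cfsg.charDegree (χ₁ : G → ℂ) := by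
    have h := hvalJ χ₁
    have e : ((Cfsg.charDegree (χ₂ : G → ℂ) : ℕ) : ℂ) = (Cfsg.charDegree (χ₁ : G → ℂ) : ℕ) := by
      rw [← h12, CfsgLib.Blocks.irr_charDegree_cast, CfsgLib.Blocks.conjIrr_apply,
        ← CfsgLib.Blocks.irr_charDegree_cast, map_natCast]
    exact_mod_cast e
  -- the arithmetic
  set q := Cfsg.charDegree (χ₃ : G → ℂ) with hq
  set x := Cfsg.charDegree (χ₁ : G → ℂ) with hxdef
  rw [hx] at hord hlin
  obtain ⟨r, hr⟩ : 4 ∣ q + 1 := by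
    have : (4 : ℤ) ∣ ((q + 1 : ℕ) : ℤ) := by push_cast; simpa using d3
    exact_mod_cast this
  have hxr : x + 1 = 2 * r := by omega
  obtain ⟨k, hk⟩ := Subgroup.card_subgroup_dvd_card (Subgroup.centralizer ({J} : Set G))
  have hc0 : (Nat.card (Subgroup.centralizer ({J} : Set G)) : ℚ) ≠ 0 :=
    Nat.cast_ne_zero.2 Nat.card_pos.ne'
  have hkey : (k : ℚ) * r ^ 2 = (n : ℚ) ^ 2 * ((q : ℚ) * x) := by
    have hq' : (q : ℚ) = 4 * r - 1 := by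
      rw [eq_sub_iff_add_eq]; exact_mod_cast hr
    have hx' : (x : ℚ) = 2 * r - 1 := by
      rw [eq_sub_iff_add_eq]; exact_mod_cast hxr
    have hx0 : (x : ℚ) ≠ 0 := Nat.cast_ne_zero.2 p1.ne'
    have hq0 : (q : ℚ) ≠ 0 := Nat.cast_ne_zero.2 p3.ne'
    rw [hk] at hord
    push_cast at hord
    field_simp at hord
    rw [hq', hx'] at hord ⊢
    linear_combination hord / 8
  have hkey' : k * r ^ 2 = n ^ 2 * (q * x) := by exact_mod_cast hkey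
  have hcop : Nat.Coprime r (q * x) := by
    refine Nat.Coprime.mul_right ?_ ?_
    · refine Nat.coprime_of_dvd' fun a ha h1 h2 => ?_
      have h3 : a ∣ q + 1 := hr ▸ h1.mul_left 4
      exact (Nat.dvd_add_right h2).1 h3
    · refine Nat.coprime_of_dvd' fun a ha h1 h2 => ?_
      have h3 : a ∣ x + 1 := hxr ▸ h1.mul_left 2
      exact (Nat.dvd_add_right h2).1 h3
  have hr2 : r ^ 2 ∣ n ^ 2 :=
    (hcop.pow_left 2).dvd_of_dvd_mul_right (hkey' ▸ dvd_mul_left (r ^ 2) k)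
  obtain ⟨m, rfl⟩ := (Nat.pow_dvd_pow_iff two_ne_zero).1 hr2
  refine ⟨m, by rw [← hn, hr]; ring, ?_⟩
  have hr0 : r ^ 2 ≠ 0 := pow_ne_zero _ (by omega)
  have hkey2 : k = m ^ 2 * (q * x) := by
    apply Nat.eq_of_mul_eq_mul_right (Nat.pos_of_ne_zero hr0)
    rw [hkey']; ring
  have hcube : q ^ 3 - q = q * ((q + 1) * (2 * x)) := by
    have e : q = 2 * x + 1 := by omega
    rw [Nat.sub_eq_iff_eq_add (Nat.le_self_pow (by norm_num) q), e]
    ring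
  rw [hk, hkey2, ← hn, hcube, hr]
  ring

end Cfsg.Agent.S4480
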