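import Cfsg.Statements.S4481
import Cfsg.Agent.Lib.Blocks.Dihedral.Main
-- import your own Cfsg.Agent.* helpers here

set_option autoImplicit false
open Cfsg

namespace Cfsg.Agent.S4481

/-- The principal 2-block of a group with dihedral Sylow 2-subgroups. Let G be a finite group whose Sylow 2-subgroup P is dihedral of order 2^n ≥ 8, let σ be an element of P of order 2^(n−1), ζ a primitive 2^(n−1)-th root of unity, and M a maximal ideal of the algebraic integers containing 2. Then the principal 2-block consists of exactly 3 + 2^(n−2) irreducible characters, which can be labelled 1, χ₁, χ₂, χ₃ and χ^(j) for 1 ≤ j ≤ 2^(n−2) − 1 (all distinct), with signs δ₁, δ₂, δ₃ such that for 0 < λ < 2^(n−1): χ₁(σ^λ) = δ₁, χ₂(σ^λ) = δ₂(−1)^(λ+1), χ₃(σ^λ) = δ₃(−1)^(λ+1) and χ^(j)(σ^λ) = δ₁(ζ^(jλ) + ζ^(−jλ)); and for every element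 ρ of odd order and every j: 1 + δ₁χ₁(ρ) = −δ₂χ₂(ρ) − δ₃χ₃(ρ) = δ₁χ^(j)(ρ). -/
theorem result {G : Type*} [Group G] [Finite G] (M : Ideal Cfsg.AlgInt) (hM : Cfsg.IsPModular 2 M) (n : ℕ) (hn : 3 ≤ n) (P : Sylow 2 G) (hP : Nonempty ((P : Subgroup G) ≃* DihedralGroup (2 ^ (n - 1)))) (σ : G) (hσ : σ ∈ (P : Subgroup G)) (hσo : orderOf σ = 2 ^ (n - 1)) (ζ : ℂ) (hζ : IsPrimitiveRoot ζ (2 ^ (n - 1))) : Nat.card (Cfsg.principalBlock M G) = 3 + 2 ^ (n - 2) ∧ ∃ (χ₁ χ₂ χ₃ : Cfsg.IrrCharacter G) (χ' : Fin (2 ^ (n - 2) - 1) → Cfsg.IrrCharacter G) (δ₁ δ₂ δ₃ : ℤ), (δ₁ = 1 ∨ δ₁ = -1) ∧ (δ₂ = 1 ∨ δ₂ = -1) ∧ (δ₃ = 1 ∨ δ₃ = -1) ∧ Function.Injective χ' ∧ (χ₁ : G → ℂ) ≠ (fun _ => 1) ∧ (χ₂ : G → ℂ) ≠ (fun _ => 1) ∧ (χ₃ : G → ℂ) ≠ (fun _ => 1) ∧ χ₁ ≠ χ₂ ∧ χ₁ ≠ χ₃ ∧ χ₂ ≠ χ₃ ∧ (∀ j, χ' j ≠ χ₁ ∧ χ' j ≠ χ₂ ∧ χ' j ≠ χ₃ ∧ (χ' j : G → ℂ) ≠ (fun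 _ => 1)) ∧ Cfsg.principalBlock M G = {χ : Cfsg.IrrCharacter G | (χ : G → ℂ) = (fun _ => 1) ∨ χ = χ₁ ∨ χ = χ₂ ∨ χ = χ₃ ∨ ∃ j, χ = χ' j} ∧ (∀ l : ℕ, 0 < l → l < 2 ^ (n - 1) → (χ₁ : G → ℂ) (σ ^ l) = δ₁ ∧ (χ₂ : G → ℂ) (σ ^ l) = δ₂ * (-1) ^ (l + 1) ∧ (χ₃ : G → ℂ) (σ ^ l) = δ₃ * (-1) ^ (l + 1) ∧ ∀ j : Fin (2 ^ (n - 2) - 1), (χ' j : G → ℂ) (σ ^ l) = δ₁ * (ζ ^ (((j : ℕ) + 1) * l) + (ζ ^ (((j : ℕ) + 1) * l))⁻¹)) ∧ ∀ ρ : G, Odd (orderOf ρ) → ∀ j : Fin (2 ^ (n - 2) - 1), 1 + δ₁ * (χ₁ : G → ℂ) ρ = -δ₂ * (χ₂ : G → ℂ) ρ - δ₃ * (χ₃ : G → ℂ) ρ ∧ 1 + δ₁ * (χ₁ : G → ℂ) ρ = δ₁ * (χ' j : G → ℂ) ρ := by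
  classical
  haveI := Fintype.ofFinite G
  obtain ⟨a, rfl⟩ : ∃ a, n = a + 3 := ⟨n - 3, by omega⟩
  have e1 : 2 ^ (a + 3 - 1) = 2 * 2 ^ (a + 3 - 2) := by
    rw [show a + 3 - 1 = (a + 3 - 2) + 1 by omega, pow_succ, mul_comm]
  have hh : CfsgLib.Blocks.Dihedral.Dih P σ (2 ^ (a + 3 - 2)) :=
    ⟨⟨a, rfl⟩, e1 ▸ hP, hσ, hσo.trans e1⟩
  obtain ⟨U, V, W, s, eU, eV, eW, hU, hV, hW, hs, ⟨oU, oV, oW, UV, UW, VW⟩, hsne, hB, hval, hreg⟩ :=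
    hh.exists_columns hM (e1 ▸ hζ)
  have hne : ∀ {χ : Cfsg.IrrCharacter G}, χ ≠ CfsgLib.Blocks.oneIrr G →
      (χ : G → ℂ) ≠ fun _ => 1 := fun h e => h (Subtype.ext e)
  refine ⟨?_, W, U, V, s, eW, eU, eV, hW, hU, hV, hs, hne oW.symm, hne oU.symm, hne oV.symm,
    UW.symm, VW.symm, UV, fun j => ⟨(hsne j).2.2.2, (hsne j).2.1, (hsne j).2.2.1, hne (hsne j).1⟩,
    ?_, ?_, ?_⟩
  · have hu : (Cfsg.principalBlock M G) = ↑((({CfsgLib.Blocks.oneIrr G, U, V, W} :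
        Finset (Cfsg.IrrCharacter G)) ∪ Finset.univ.image s)) := by
      ext χ
      rw [hB χ]
      simp [eq_comm, or_assoc]
    rw [hu, Nat.card_coe_set_eq, Set.ncard_coe_finset, Finset.card_union_of_disjoint,
      Finset.card_image_of_injective _ hs, Finset.card_univ, Fintype.card_fin]
    · have h4 : ({CfsgLib.Blocks.oneIrr G, U, V, W} : Finset (Cfsg.IrrCharacter G)).card = 4 := by
        rw [Finset.card_insert_of_notMem (by simp [oU, oV, oW]),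
          Finset.card_insert_of_notMem (by simp [UV, UW]), Finset.card_pair VW]
      rw [h4]
      have := Nat.one_le_two_pow (n := a + 3 - 2)
      omega
    · rw [Finset.disjoint_left]
      intro x hx hx'
      obtain ⟨j, -, rfl⟩ := Finset.mem_image.1 hx'
      obtain ⟨h1, h2, h3, h4⟩ := hsne j
      simp [h1, h2, h3, h4] at hx
  · ext χ
    rw [hB χ, Set.mem_setOf_eq]
    refine ⟨?_, ?_⟩
    · rintro (e | e | e | e | e)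
      · exact Or.inl (by rw [e]; rfl)
      · exact Or.inr (Or.inr (Or.inl e))
      · exact Or.inr (Or.inr (Or.inr (Or.inl e)))
      · exact Or.inr (Or.inl e)
      · exact Or.inr (Or.inr (Or.inr (Or.inr e)))
    · rintro (e | e | e | e | e)
      · exact Or.inl (Subtype.ext e)
      · exact Or.inr (Or.inr (Or.inr (Or.inl e)))
      · exact Or.inr (Or.inl e)
      · exact Or.inr (Or.inr (Or.inl e))
      · exact Or.inr (Or.inr (Or.inr (Or.inr e)))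
  · intro l hl0 hl
    obtain ⟨h1, h2, h3, h4⟩ := hval l hl0 (e1 ▸ hl)
    exact ⟨h1, h2, h3, fun j => by rw [h4 j, pow_mul]⟩
  · intro ρ hρ j
    obtain ⟨h1, h2⟩ := hreg ρ (by obtain ⟨k, hk⟩ := hρ; omega) j
    exact ⟨by rw [h1]; ring, h2⟩

end Cfsg.Agent.S4481
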