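import Cfsg.Statements.S4145
import Mathlib
import Cfsg.Agent.Lib.PComplement
import Cfsg.Agent.Lib.PSplit
import Cfsg.Agent.Lib.SylowExtra
import Cfsg.Agent.Lib.CoprimeGen
-- import your own Cfsg.Agent.* helpers here

set_option autoImplicit false
open Cfsg

namespace Cfsg.Agent.S4145

open scoped Pointwise

/-- Let G be a finite group with a cyclic Sylow p-subgroup and H a normal subgroup such that p divides both the order of H and the index of H. Then H has a normal p-complement and G is p-solvable. -/
theorem result {G : Type*} [Group G] [Finite G] (p : ℕ) [Fact p.Prime]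
    (P : Sylow p G) (hP : IsCyclic (P : Subgroup G)) (H : Subgroup G) [H.Normal] (h1 : p ∣ Nat.card H) (h2 : p ∣ H.index) :
    Cfsg.HasNormalPComplement p H ∧ Cfsg.IsPSolvable p G := by
  classical
  have hp : p.Prime := Fact.out
  let S : Sylow p H := CfsgLib.sylowInfNormal P H
  set R := H ⊓ (P : Subgroup G) with hR
  have hSR : (S : Subgroup H).map H.subtype = R := by
    rw [hR, CfsgLib.coe_sylowInfNormal, Subgroup.subgroupOf_map_subtype, inf_comm]
  have hRP : R ≤ (P : Subgroup G) := inf_le_right
  have hRne : R ≠ ⊥ := by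
    intro e
    have h3 := S.dvd_card_of_dvd_card h1
    rw [← Subgroup.card_map_of_injective H.subtype_injective (K := (S : Subgroup H)), hSR, e,
      Subgroup.card_bot, Nat.dvd_one] at h3
    exact hp.ne_one h3
  have hPH : ¬ (P : Subgroup G) ≤ H := fun h =>
    P.not_dvd_index (h2.trans (Subgroup.index_dvd_of_le h))
  obtain ⟨a, ha⟩ := hP.exists_generator
  have hgen : ∀ z ∈ (P : Subgroup G), ∃ i : ℤ, (a : G) ^ i = z := fun z hz => by
    obtain ⟨i, hi⟩ := ha ⟨z, hz⟩
    exact ⟨i, congrArg Subtype.val hi⟩
  have hPab : ∀ z ∈ (P : Subgroup G), ∀ w ∈ (P : Subgroup G), z * w = w * z := by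
    intro z hz w hw
    obtain ⟨i, rfl⟩ := hgen z hz
    obtain ⟨j, rfl⟩ := hgen w hw
    exact (Commute.zpow_zpow_self (a : G) i j).eq
  have hPC : (P : Subgroup G) ≤ Subgroup.centralizer (R : Set G) := fun z hz =>
    Subgroup.mem_centralizer_iff.mpr fun w hw => hPab w (hRP hw) z hz
  -- elements normalizing P which fix a nontrivial part or act trivially on a proper quotient
  have hfix : ∀ y ∈ Subgroup.normalizer ((P : Subgroup G) : Set G),
      (y ∈ H ∨ y ∈ Subgroup.centralizer (R : Set G)) →
      y ∈ Subgroup.centralizer ((P : Subgroup G) : Set G) := by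
    intro y hy hor
    obtain ⟨u, v, huv, -, ⟨k, hk⟩, hv, huz, hvz⟩ := CfsgLib.exists_p_split (p := p) y
    have huN := (Subgroup.zpowers_le.mpr hy) huz
    have hvN := (Subgroup.zpowers_le.mpr hy) hvz
    have huP : u ∈ (P : Subgroup G) := by
      have hA : IsPGroup p (Subgroup.zpowers u) := by
        rintro ⟨z, i, rfl⟩
        refine ⟨k, Subtype.ext ?_⟩
        show (u ^ i) ^ p ^ k = 1
        rw [← zpow_natCast, ← zpow_mul, mul_comm, zpow_mul, zpow_natCast, hk, one_zpow]
      have h6 : IsPGroup p (Subgroup.zpowers u ⊔ (P : Subgroup G) : Subgroup G) :=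
        IsPGroup.to_sup_of_normal_right' hA P.2 (Subgroup.zpowers_le.mpr huN)
      exact P.3 h6 le_sup_right ▸ Subgroup.mem_sup_left (Subgroup.mem_zpowers u)
    rw [← huv]
    refine Subgroup.mul_mem _ (Subgroup.mem_centralizer_iff.mpr fun z hz => hPab z hz u huP) ?_
    obtain ⟨s, hs⟩ := hgen _ ((Subgroup.mem_normalizer_iff.mp hvN (a : G)).mp a.2)
    -- p divides s - 1
    have hdvd : (p : ℤ) ∣ s - 1 := by
      obtain ⟨n, hn⟩ := P.2.exists_card_eq
      have hord : orderOf (a : G) = p ^ n := by
        rw [Subgroup.orderOf_coe, orderOf_eq_card_of_forall_mem_zpowers ha, hn]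
      rcases hor with hyH | hyC
      · have hvH : v ∈ H := (Subgroup.zpowers_le.mpr hyH) hvz
        have hmem : (a : G) ^ (s - 1) ∈ H := by
          rw [zpow_sub_one, hs]
          simpa [mul_assoc] using H.mul_mem hvH ((inferInstance : H.Normal).conj_mem _ (H.inv_mem hvH) (a : G))
        by_contra hnd
        refine hPH fun z hz => ?_
        obtain ⟨i, rfl⟩ := hgen z hz
        refine H.zpow_mem ?_ i
        have hcop : IsCoprime (s - 1) ((p : ℤ) ^ n) :=
          ((Nat.prime_iff_prime_int.mp hp).coprime_iff_not_dvd.mpr hnd).symm.pow_right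
        obtain ⟨x, w, hxw⟩ := hcop
        have e1 : (a : G) ^ ((p : ℤ) ^ n) = 1 := by
          rw [← Nat.cast_pow, zpow_natCast, ← hord, pow_orderOf_eq_one]
        have e2 : (a : G) = ((a : G) ^ (s - 1)) ^ x := by
          conv_lhs => rw [← zpow_one (a : G), ← hxw, zpow_add, mul_comm x, mul_comm w, zpow_mul,
            zpow_mul, e1, one_zpow, mul_one]
        rw [e2]
        exact H.zpow_mem hmem x
      · obtain ⟨r, hr, hr1⟩ := (Subgroup.bot_or_exists_ne_one R).resolve_left hRne
        obtain ⟨i, rfl⟩ := hgen r (hRP hr)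
        have hvC := (Subgroup.zpowers_le.mpr hyC) hvz
        have e1 : ((a : G) ^ i) ^ (s - 1) = 1 := by
          rw [← zpow_mul, mul_comm, zpow_mul, zpow_sub_one, hs]
          have e2 : v * (a : G) ^ i * v⁻¹ = (a : G) ^ i := by
            rw [← (Subgroup.mem_centralizer_iff.mp hvC _ hr), mul_inv_cancel_right]
          have e3 : Commute (v * (a : G) * v⁻¹) (a : G)⁻¹ := by
            rw [← hs]; exact (Commute.zpow_self _ _).inv_right
          rw [e3.mul_zpow, conj_zpow, e2, inv_zpow, mul_inv_cancel]
        have hdd := orderOf_dvd_iff_zpow_eq_one.mpr e1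
        have hP' : orderOf ((a : G) ^ i) ∣ p ^ n := hn ▸ Subgroup.orderOf_dvd_natCard _ (hRP hr)
        obtain ⟨j, -, hj⟩ := (Nat.dvd_prime_pow hp).mp hP'
        have hj0 : j ≠ 0 := fun h0 => hr1 (orderOf_eq_one_iff.mp (by rw [hj, h0, pow_zero]))
        refine dvd_trans ?_ hdd
        exact Int.natCast_dvd_natCast.mpr (hj ▸ dvd_pow_self p hj0)
    obtain ⟨n, hn⟩ := P.2.exists_card_eq
    have hpow : ∀ m : ℕ, v ^ m * (a : G) * (v ^ m)⁻¹ = (a : G) ^ (s ^ m) := by
      intro m
      induction m with
      | zero => simp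
      | succ m ihm =>
        rw [pow_succ' v, pow_succ' s, zpow_mul, hs, conj_zpow, ← ihm]
        group
    have h9 : Commute (v ^ p ^ n) (a : G) := by
      have e := hpow (p ^ n)
      have hd := dvd_sub_pow_of_dvd_sub hdvd n
      rw [one_pow] at hd
      have : (a : G) ^ (s ^ p ^ n) = a := by
        obtain ⟨t, ht⟩ := hd
        have e1 : (a : G) ^ ((p : ℤ) ^ (n + 1)) = 1 := by
          rw [← Nat.cast_pow, zpow_natCast, pow_succ, pow_mul]
          have : (a : (P : Subgroup G)) ^ (p ^ n) = 1 := hn ▸ pow_card_eq_one'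
          rw [← Subgroup.coe_pow, this, Subgroup.coe_one, one_pow]
        rw [show s ^ p ^ n = (p : ℤ) ^ (n + 1) * t + 1 by linarith, zpow_add, zpow_mul, e1,
          one_zpow, one_mul, zpow_one]
      rw [this] at e
      exact mul_inv_eq_iff_eq_mul.mp e
    obtain ⟨l, hl⟩ := exists_pow_eq_self_of_coprime (x := v) (n := p ^ n) (hv.symm.pow_left n)
    have h10 : Commute v (a : G) := hl ▸ h9.pow_left l
    refine Subgroup.mem_centralizer_iff.mpr fun z hz => ?_
    obtain ⟨i, rfl⟩ := hgen z hz
    exact ((h10.zpow_right i).symm).eq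
  -- Burnside in H
  have hNH : Subgroup.normalizer ((S : Subgroup H) : Set H) ≤
      Subgroup.centralizer ((S : Subgroup H) : Set H) := by
    intro y hy
    have hyR : (y : G) ∈ Subgroup.normalizer (R : Set G) := by
      rw [← hSR]
      exact Subgroup.le_normalizer_map H.subtype ⟨y, hy, rfl⟩
    set X := Subgroup.centralizer (R : Set G) ⊓ (H ⊔ (P : Subgroup G)) with hX
    have hPX : (P : Subgroup G) ≤ X := le_inf hPC le_sup_right
    set T := MulAut.conj (y : G) • (P : Subgroup G)
    have hTX : T ≤ X := by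
      intro z hz
      rw [Subgroup.mem_pointwise_smul_iff_inv_smul_mem, MulAut.smul_def, MulAut.inv_def,
        MulAut.conj_symm_apply] at hz
      refine Subgroup.mem_inf.mpr ⟨Subgroup.mem_centralizer_iff.mpr fun r hr => ?_, ?_⟩
      · have hr' : (y : G)⁻¹ * r * y ∈ R := by
          simpa using (Subgroup.mem_normalizer_iff.mp (inv_mem hyR) r).mp hr
        have := congrArg (fun w => (y : G) * w * (y : G)⁻¹)
          (Subgroup.mem_centralizer_iff.mp (hPC hz) _ hr')
        simpa [mul_assoc] using this
      · have hy' : (y : G) ∈ H ⊔ (P : Subgroup G) := Subgroup.mem_sup_left y.2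
        have := mul_mem (mul_mem hy' (Subgroup.mem_sup_right hz : _ ∈ H ⊔ (P : Subgroup G))) (inv_mem hy')
        simpa [mul_assoc] using this
    let P₁ : Sylow p X := P.subtype hPX
    let P₂ : Sylow p X := ((y : G) • P).subtype (by rw [Sylow.coe_subgroup_smul]; exact hTX)
    obtain ⟨c, hc⟩ := MulAction.exists_smul_eq X P₁ P₂
    obtain ⟨hcC, hcHP⟩ := Subgroup.mem_inf.mp c.2
    obtain ⟨h, hh, q, hq, hhq⟩ := Subgroup.mem_sup_of_normal_left.mp hcHP
    -- c⁻¹ y normalizes P
    have hcy : (c : G)⁻¹ * y ∈ Subgroup.normalizer ((P : Subgroup G) : Set G) := by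
      have h4 : ∀ z : X, (y : G)⁻¹ * z * y ∈ (P : Subgroup G) ↔ (c : G)⁻¹ * z * c ∈ (P : Subgroup G) := by
        intro z
        have := congrArg (fun Q : Sylow p X => z ∈ (Q : Subgroup X)) hc
        simp only [P₁, P₂, Sylow.coe_subgroup_smul, Sylow.coe_subtype,
          Subgroup.mem_pointwise_smul_iff_inv_smul_mem, MulAut.smul_def, MulAut.inv_def,
          MulAut.conj_symm_apply, Subgroup.mem_subgroupOf, eq_iff_iff, Subgroup.coe_mul,
          Subgroup.coe_inv] at this
        exact this.symm
      rw [Subgroup.mem_normalizer_iff]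
      intro z
      constructor
      · intro hz
        have hw : (y : G) * z * (y : G)⁻¹ ∈ X := hTX (by
          rw [Subgroup.mem_pointwise_smul_iff_inv_smul_mem, MulAut.smul_def, MulAut.inv_def,
            MulAut.conj_symm_apply]
          simpa [mul_assoc] using hz)
        have := (h4 ⟨_, hw⟩).mp (by simpa [mul_assoc] using hz)
        simpa [mul_assoc] using this
      · intro hz
        have hw : (y : G) * z * (y : G)⁻¹ ∈ X := by
          have := mul_mem (mul_mem c.2 (hPX hz)) (inv_mem c.2)
          simpa [mul_assoc] using this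
        have := (h4 ⟨_, hw⟩).mpr (by simpa [mul_assoc] using hz)
        simpa [mul_assoc] using this
    have hz0 : q * ((c : G)⁻¹ * y) ∈ Subgroup.normalizer ((P : Subgroup G) : Set G) :=
      mul_mem (Subgroup.le_normalizer hq) hcy
    have hzH : q * ((c : G)⁻¹ * y) ∈ H := by
      rw [← hhq, show q * ((h * q)⁻¹ * y) = h⁻¹ * y by group]
      exact mul_mem (inv_mem hh) y.2
    have hzC := hfix _ hz0 (Or.inl hzH)
    have hyC : (y : G) ∈ Subgroup.centralizer (R : Set G) := by
      have h5 : q * ((c : G)⁻¹ * y) ∈ Subgroup.centralizer (R : Set G) :=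
        Subgroup.centralizer_le (fun r hr => hRP hr) hzC
      have h6 := mul_mem (mul_mem hcC (inv_mem (hPC hq))) h5
      simpa [mul_assoc] using h6
    intro z hz
    exact Subtype.ext (hyC _ (hSR ▸ ⟨z, hz, rfl⟩))
  have hK := CfsgLib.hasNormalPComplement_of_normalizer_le_centralizer S hNH
  refine ⟨hK, ?_⟩
  -- Burnside in the centralizer of R
  set C := Subgroup.centralizer (R : Set G) with hC
  let PC : Sylow p C := P.subtype hPC
  have hNC : Subgroup.normalizer ((PC : Subgroup C) : Set C) ≤
      Subgroup.centralizer ((PC : Subgroup C) : Set C) := by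
    intro y hy
    have hyP : (y : G) ∈ Subgroup.normalizer ((P : Subgroup G) : Set G) := by
      have := Subgroup.le_normalizer_map C.subtype (H := (PC : Subgroup C)) ⟨y, hy, rfl⟩
      rwa [Sylow.coe_subtype, Subgroup.map_subgroupOf_eq_of_le hPC] at this
    intro z hz
    exact Subtype.ext (hfix _ hyP (Or.inr y.2) _ hz)
  have hCc := CfsgLib.hasNormalPComplement_of_normalizer_le_centralizer PC hNC
  set N := Subgroup.normalizer (R : Set G) with hN
  set L := (Cfsg.pPrimeCore p C).map C.subtype with hL
  set K := (Cfsg.pPrimeCore p H).map H.subtype with hKdef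
  have hCN : C ≤ N := Subgroup.centralizer_le_normalizer _
  have hfrat : H ⊔ N = ⊤ := by
    have := Sylow.normalizer_sup_eq_top S
    rwa [show ((S : Subgroup H).map H.subtype : Subgroup G) = R from hSR, sup_comm] at this
  have hnorm : ∀ D : Subgroup G, N ≤ Subgroup.normalizer (D : Set G) → (H ⊔ D).Normal := by
    intro D hD
    refine Subgroup.normalizer_eq_top_iff.mp (top_le_iff.mp ?_)
    rw [← hfrat]
    refine sup_le (le_sup_left.trans Subgroup.le_normalizer) ?_
    refine le_trans (le_inf ?_ hD) (Subgroup.normalizer_inf_normalizer_le_normalizer_sup _ _)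
    rw [Subgroup.normalizer_eq_top]; exact le_top
  have hNCn : N ≤ Subgroup.normalizer (C : Set G) := by
    have h := (Subgroup.normal_subgroupOf_iff_le_normalizer hCN).mp inferInstance
    exact h
  have hNL : N ≤ Subgroup.normalizer (L : Set G) :=
    (CfsgLib.le_normalizer_map_characteristic hNCn (Cfsg.pPrimeCore p C)).1
  let f : Fin 6 → Subgroup G := ![⊥, K, H, H ⊔ L, H ⊔ C, ⊤]
  refine ⟨5, f, rfl, rfl, ?_, ?_, ?_⟩
  · refine Fin.monotone_iff_le_succ.mpr fun i => ?_
    fin_cases i
    · exact bot_le
    · exact Subgroup.map_subtype_le _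
    · exact (le_sup_left : H ≤ H ⊔ L)
    · exact sup_le_sup_left (Subgroup.map_subtype_le _) H
    · exact le_top
  · intro i
    fin_cases i
    · show (⊥ : Subgroup G).Normal; infer_instance
    · show K.Normal; infer_instance
    · show H.Normal; infer_instance
    · exact hnorm L hNL
    · exact hnorm C hNCn
    · show (⊤ : Subgroup G).Normal; infer_instance
  · intro i
    fin_cases i
    · refine Or.inr ?_
      show (Subgroup.relIndex ⊥ K).Coprime p
      rw [Subgroup.relIndex_bot_left, Subgroup.card_map_of_injective H.subtype_injective]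
      exact CfsgLib.card_pPrimeCore_coprime p
    · refine Or.inl ?_
      show ∃ m : ℕ, K.relIndex H = p ^ m
      rw [Subgroup.relIndex, hKdef, Subgroup.subgroupOf,
        Subgroup.comap_map_eq_self_of_injective H.subtype_injective, Subgroup.index]
      exact (CfsgLib.isPGroup_quotient_of_hasNormalPComplement hK).exists_card_eq
    · refine Or.inr ?_
      show (H.relIndex (H ⊔ L)).Coprime p
      rw [sup_comm, Subgroup.relIndex_sup_right]
      refine Nat.Coprime.coprime_dvd_left (Subgroup.relIndex_dvd_card H L) ?_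
      rw [Subgroup.card_map_of_injective C.subtype_injective]
      exact CfsgLib.card_pPrimeCore_coprime p
    · refine Or.inl ?_
      show ∃ m : ℕ, (H ⊔ L).relIndex (H ⊔ C) = p ^ m
      have := hnorm L hNL
      have e : H ⊔ C = C ⊔ (H ⊔ L) := le_antisymm (sup_le (le_sup_left.trans le_sup_right) le_sup_left)
        (sup_le le_sup_right (sup_le le_sup_left ((Subgroup.map_subtype_le _).trans le_sup_right)))
      rw [e, Subgroup.relIndex_sup_right]
      obtain ⟨m, hm⟩ := (CfsgLib.isPGroup_quotient_of_hasNormalPComplement hCc).exists_card_eq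
      have h7 : L.relIndex C = p ^ m := by
        rw [Subgroup.relIndex, hL, Subgroup.subgroupOf,
          Subgroup.comap_map_eq_self_of_injective C.subtype_injective, Subgroup.index, hm]
      obtain ⟨j, -, hj⟩ := (Nat.dvd_prime_pow hp).mp ((Subgroup.relIndex_dvd_of_le_left C (le_sup_right : L ≤ H ⊔ L)).trans h7.dvd)
      exact ⟨j, hj⟩
    · refine Or.inr ?_
      show ((H ⊔ C).relIndex ⊤).Coprime p
      rw [Subgroup.relIndex_top_right]
      refine ((hp.coprime_iff_not_dvd).mpr fun hd => P.not_dvd_index ?_).symm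
      exact hd.trans (Subgroup.index_dvd_of_le (hPC.trans le_sup_right))

end Cfsg.Agent.S4145
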