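import Cfsg.Statements.S0805
import Mathlib
import Cfsg.Agent.Lib.PSL2Klein
import Cfsg.Agent.Lib.SLCard

set_option autoImplicit false
open Cfsg

namespace Cfsg.Agent.S0805

/-- Embedding of the smaller field. -/
theorem exists_emb {F K : Type*} [Field F] [Fintype F] [Field K] [Fintype K] (m : ℕ) (hm : 1 ≤ m)
    (hK : Fintype.card K ^ m = Fintype.card F) : Nonempty (K →+* F) := by
  obtain ⟨p, hp⟩ := CharP.exists K
  haveI : Fact p.Prime := ⟨CharP.char_is_prime K p⟩
  haveI : NeZero m := ⟨by omega⟩
  letI := Fintype.ofFinite (FiniteField.Extension K p m)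
  have e : FiniteField.Extension K p m ≃+* F := FiniteField.ringEquivOfCardEq (by
    rw [Fintype.card_eq_nat_card, FiniteField.natCard_extension, ← Fintype.card_eq_nat_card, hK])
  exact ⟨e.toRingHom.comp (algebraMap K (FiniteField.Extension K p m))⟩

theorem pow_decomp (r : ℕ) (hr : 1 ≤ r) : ∀ m, ∃ S, r ^ m = (r - 1) * S + 1 ∧ (r % 2 = 1 → S % 2 = m % 2) := by
  intro m
  induction m with
  | zero => exact ⟨0, by simp, fun _ => rfl⟩
  | succ m ih =>
    obtain ⟨S, hS, hS2⟩ := ih
    obtain ⟨s, rfl⟩ : ∃ s, r = s + 1 := ⟨r - 1, by omega⟩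
    refine ⟨(s + 1) ^ m + S, ?_, fun h => ?_⟩
    · rw [Nat.add_sub_cancel] at hS ⊢
      rw [pow_succ, hS]
      ring
    · have h1 : (s + 1) ^ m % 2 = 1 := by simp [Nat.pow_mod, h]
      have := hS2 h
      omega

/-- Subfield subgroups: let F be a finite field of odd order q and K a finite field with |K|^m = q, m ≥ 1. Then PSL_2(F) has a subgroup isomorphic to PSL_2(K), and has a subgroup isomorphic to PGL_2(K) if and only if m is even. -/
theorem result {F K : Type*} [Field F] [Fintype F] [Field K] [Fintype K] {q : ℕ} (hF : Fintype.card F = q) (hodd : Odd q) (m : ℕ) (hm : 1 ≤ m) (hK : Fintype.card K ^ m = q) : (∃ H : Subgroup (Matrix.ProjectiveSpecialLinearGroup (Fin 2) F), Nonempty (H ≃* Matrix.ProjectiveSpecialLinearGroup (Fin 2) K)) ∧ ((∃ H : Subgroup (Matrix.ProjectiveSpecialLinearGroup (Fin 2) F), Nonempty (H ≃* Matrix.ProjGenLinGroup (Fin 2) K)) ↔ Even m) := by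
  subst hF
  classical
  obtain ⟨φ⟩ := exists_emb m hm hK
  have h2 : (2 : F) ≠ 0 := CfsgLib.SL2Orders.two_ne_zero_of_odd hodd
  have hφ : Function.Injective (Matrix.SpecialLinearGroup.map (n := Fin 2) φ) := fun A B e => by
    refine Subtype.ext (Matrix.ext fun i j => φ.injective ?_)
    exact congrFun (congrFun (congrArg Subtype.val e) i) j
  refine ⟨?_, ?_⟩
  · let f : Matrix.SpecialLinearGroup (Fin 2) K →* Matrix.ProjectiveSpecialLinearGroup (Fin 2) F :=
      CfsgLib.PSL2.mk.comp (Matrix.SpecialLinearGroup.map φ)
    have hker : f.ker = Subgroup.center _ := by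
      ext A
      rw [MonoidHom.mem_ker]
      constructor
      · intro h
        have h' : CfsgLib.PSL2.mk (Matrix.SpecialLinearGroup.map φ A) = CfsgLib.PSL2.mk 1 := by
          rw [map_one]; exact h
        have hA : A = 1 ∨ A = -1 := by
          rcases CfsgLib.PSL2Klein.mk_eq_iff.mp h' with e | e
          · exact Or.inl (hφ (e.symm.trans (map_one _).symm))
          · refine Or.inr (hφ ?_)
            have e' : Matrix.SpecialLinearGroup.map φ A = -1 := by rw [e, neg_neg]
            rw [e']
            refine Subtype.ext (Matrix.ext fun i j => ?_)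
            show (-1 : Matrix (Fin 2) (Fin 2) F) i j = φ ((-1 : Matrix (Fin 2) (Fin 2) K) i j)
            by_cases hij : i = j <;> simp [hij]
        rw [Subgroup.mem_center_iff]
        rcases hA with rfl | rfl <;> intro g <;> simp
      · intro h
        obtain ⟨r, hr, hA⟩ := Matrix.SpecialLinearGroup.mem_center_iff.mp h
        rw [Fintype.card_fin, sq_eq_one_iff] at hr
        show CfsgLib.PSL2.mk (Matrix.SpecialLinearGroup.map φ A) = 1
        rw [← map_one (CfsgLib.PSL2.mk : _ →* Matrix.ProjectiveSpecialLinearGroup (Fin 2) F), CfsgLib.PSL2.mk_eq_mk]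
        have hval : (Matrix.SpecialLinearGroup.map φ A).1 = A.1.map φ := rfl
        rw [hval, ← hA]
        rcases hr with rfl | rfl
        · left; simp
        · right
          show (1 : Matrix (Fin 2) (Fin 2) F) = _
          ext i j
          by_cases hij : i = j <;> simp [hij, Matrix.one_apply]
    let g := QuotientGroup.lift (Subgroup.center (Matrix.SpecialLinearGroup (Fin 2) K)) f hker.ge
    have hg : Function.Injective g := (QuotientGroup.injective_lift_iff _ _ _).mpr hker.symm
    exact ⟨g.range, ⟨(MonoidHom.ofInjective hg).symm⟩⟩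
  · constructor
    · rintro ⟨H, ⟨e⟩⟩
      by_contra hev
      rw [Nat.not_even_iff_odd, Nat.odd_iff] at hev
      have hd := H.card_subgroup_dvd_card
      rw [Nat.card_congr e.toEquiv, CfsgLib.SLCard.card_PGL, CfsgLib.SLCard.card_SL_two] at hd
      have hp := CfsgLib.SLCard.gcd_mul_card_PSL (F := F) (n := 2) (by norm_num)
      rw [CfsgLib.SLCard.card_SL_two, Nat.gcd_eq_left (show 2 ∣ Fintype.card F - 1 by
        obtain ⟨t, ht⟩ := hodd; exact ⟨t, by omega⟩)] at hp
      set r := Fintype.card K
      have hr2 : 2 ≤ r := Fintype.one_lt_card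
      have hro : r % 2 = 1 := by
        rcases Nat.mod_two_eq_zero_or_one r with h0 | h1
        · exfalso
          have hq := Nat.odd_iff.mp hodd
          rw [← hK, Nat.pow_mod, h0, zero_pow (by omega)] at hq
          norm_num at hq
        · exact h1
      obtain ⟨S, hS, hS2⟩ := pow_decomp (r ^ 2) (Nat.one_le_pow _ _ (by omega)) m
      have hq2 : Fintype.card F ^ 2 - 1 = (r ^ 2 - 1) * S := by
        rw [← hK, ← pow_mul, mul_comm m 2, pow_mul, hS, Nat.add_sub_cancel]
      have hS1 : S % 2 = 1 := by rw [hS2 (by simp [Nat.pow_mod, hro]), hev]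
      have hcop : Nat.Coprime (2 * (r ^ 2 - 1)) (Fintype.card F) := by
        rw [← hK]
        refine Nat.Coprime.pow_right _ (Nat.Coprime.mul_left ?_ ?_)
        · exact Nat.prime_two.coprime_iff_not_dvd.mpr (by omega)
        · have h1 : Nat.Coprime (r ^ 2 - 1) (r ^ 2) :=
            Nat.coprime_self_sub_left (m := 1) (Nat.one_le_pow _ _ (by omega)) |>.mpr (Nat.coprime_one_left _)
          exact h1.coprime_dvd_right (dvd_pow_self r (by norm_num))
      have hr0 : 0 < r ^ 2 - 1 := by
        have : r ≤ r ^ 2 := Nat.le_self_pow (by norm_num) r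
        omega
      have h3 : 2 * (r ^ 2 - 1) ∣ Fintype.card F * ((r ^ 2 - 1) * S) := by
        rw [← hq2, ← hp]
        exact Nat.mul_dvd_mul_left 2 (Dvd.dvd.trans (dvd_mul_left _ r) hd)
      have h4 := hcop.dvd_of_dvd_mul_left h3
      rw [mul_comm 2, Nat.mul_dvd_mul_iff_left hr0] at h4
      omega
    · intro hev
      have hsq : ∀ a : K, IsSquare (φ a) := by
        intro a
        rcases eq_or_ne a 0 with rfl | ha
        · simp
        rw [FiniteField.isSquare_iff (by
          intro hc
          exact h2 (by have := ringChar.Nat.cast_ringChar (R := F); rw [hc] at this; exact_mod_cast this))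
          ((map_ne_zero φ).mpr ha), ← map_pow]
        have hd : Fintype.card K - 1 ∣ Fintype.card F / 2 := by
          obtain ⟨k, hk⟩ := hev
          obtain ⟨S, hS, -⟩ := pow_decomp (Fintype.card K ^ 2) (Nat.one_le_pow _ _ Fintype.card_pos) k
          have hF : Fintype.card F = (Fintype.card K ^ 2 - 1) * S + 1 := by
            rw [← hS, ← pow_mul, ← hK, hk]; congr 1; omega
          obtain ⟨t, ht⟩ : ∃ t, Fintype.card K + 1 = 2 * t := by
            refine ⟨(Fintype.card K + 1) / 2, ?_⟩
            rcases Nat.mod_two_eq_zero_or_one (Fintype.card K) with h0 | h1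
            · exfalso
              have hq := Nat.odd_iff.mp hodd
              rw [← hK, Nat.pow_mod, h0, zero_pow (by omega)] at hq
              norm_num at hq
            · omega
          refine ⟨t * S, ?_⟩
          have e1 : Fintype.card K ^ 2 - 1 = (Fintype.card K + 1) * (Fintype.card K - 1) := by
            rw [← Nat.sq_sub_sq, one_pow]
          rw [hF, e1, ht, show 2 * t * (Fintype.card K - 1) * S = 2 * ((Fintype.card K - 1) * (t * S)) by ring]
          omega
        obtain ⟨c, hc⟩ := hd
        rw [hc, pow_mul, FiniteField.pow_card_sub_one_eq_one a ha, one_pow, map_one]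
      choose s hs using fun g : GL (Fin 2) K => hsq (g.1.det)
      have hs0 : ∀ g, s g ≠ 0 := fun g e => by
        have := hs g
        rw [e, mul_zero, map_eq_zero] at this
        exact (Matrix.GeneralLinearGroup.det g).ne_zero this
      let lift : GL (Fin 2) K → Matrix.SpecialLinearGroup (Fin 2) F := fun g =>
        ⟨(s g)⁻¹ • g.1.map φ, by
          rw [Matrix.det_smul, Fintype.card_fin, ← RingHom.mapMatrix_apply, ← RingHom.map_det, hs g, pow_two]
          field_simp [hs0 g]⟩
      let f : GL (Fin 2) K →* Matrix.ProjectiveSpecialLinearGroup (Fin 2) F := MonoidHom.mk'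
        (fun g => CfsgLib.PSL2.mk (lift g)) fun g k => by
          rw [← map_mul, CfsgLib.PSL2.mk_eq_mk]
          have e : s (g * k) = s g * s k ∨ s (g * k) = -(s g * s k) := by
            rw [← mul_self_eq_mul_self_iff, ← hs (g * k), Units.val_mul, Matrix.det_mul, map_mul, hs g, hs k]
            ring
          show (s g)⁻¹ • g.1.map φ * ((s k)⁻¹ • k.1.map φ) = (s (g * k))⁻¹ • (g * k).1.map φ ∨
            (s g)⁻¹ • g.1.map φ * ((s k)⁻¹ • k.1.map φ) = -((s (g * k))⁻¹ • (g * k).1.map φ)
          rw [Units.val_mul, Matrix.map_mul, smul_mul_smul_comm, ← mul_inv]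
          rcases e with e | e <;> rw [e]
          · exact Or.inl rfl
          · right; rw [inv_neg, neg_smul, neg_neg]
      have hker : f.ker = Subgroup.center _ := by
        ext g
        rw [MonoidHom.mem_ker, Matrix.GeneralLinearGroup.center_eq_range_scalar, MonoidHom.mem_range]
        show CfsgLib.PSL2.mk (lift g) = 1 ↔ _
        rw [← map_one (CfsgLib.PSL2.mk : _ →* Matrix.ProjectiveSpecialLinearGroup (Fin 2) F), CfsgLib.PSL2.mk_eq_mk]
        constructor
        · intro h
          have h00 : g.1 0 1 = 0 ∧ g.1 1 0 = 0 ∧ g.1 0 0 = g.1 1 1 := by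
            have key : ∀ i j, (1 : Matrix (Fin 2) (Fin 2) F) i j = (s g)⁻¹ * φ (g.1 i j) ∨ (1 : Matrix (Fin 2) (Fin 2) F) i j = -((s g)⁻¹ * φ (g.1 i j)) :=
              fun i j => h.imp (fun e => congrFun (congrFun e i) j) (fun e => congrFun (congrFun e i) j)
            have z : ∀ i j, i ≠ j → g.1 i j = 0 := fun i j hij => by
              rcases key i j with e | e <;> simpa [hij, hs0 g] using e
            refine ⟨z 0 1 (by decide), z 1 0 (by decide), φ.injective ?_⟩
            rcases h with e | e <;>
              exact mul_left_cancel₀ (inv_ne_zero (hs0 g)) (by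
                have e0 := congrFun (congrFun e 0) 0
                have e1 := congrFun (congrFun e 1) 1
                simp [lift] at e0 e1
                first | linear_combination e1 - e0 | linear_combination e0 - e1)
          refine ⟨Units.mk0 (g.1 0 0) fun e => (Matrix.GeneralLinearGroup.det g).ne_zero (by
            show g.1.det = 0
            rw [Matrix.det_fin_two, e, h00.1]; ring), Units.ext ?_⟩
          ext i j
          fin_cases i <;> fin_cases j <;> simp [h00.1, h00.2.1, h00.2.2]
        · rintro ⟨u, rfl⟩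
          have h1 := hs (Matrix.GeneralLinearGroup.scalar (Fin 2) u)
          simp [Matrix.det_fin_two] at h1
          rw [pow_two, mul_self_eq_mul_self_iff] at h1
          rcases h1 with e | e
          · left
            ext i j
            fin_cases i <;> fin_cases j <;> simp [lift, ← e, u.ne_zero]
          · right
            ext i j
            have e' : s (Matrix.GeneralLinearGroup.scalar (Fin 2) u) = -φ (u : K) := by rw [e, neg_neg]
            fin_cases i <;> fin_cases j <;> simp [lift, e', u.ne_zero]
      let g := QuotientGroup.lift (Subgroup.center (GL (Fin 2) K)) f hker.ge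
      have hg : Function.Injective g := (QuotientGroup.injective_lift_iff _ _ _).mpr hker.symm
      exact ⟨g.range, ⟨(MonoidHom.ofInjective hg).symm⟩⟩

end Cfsg.Agent.S0805
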