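import Cfsg.Statements.S0791
import Mathlib
import Cfsg.Agent.Lib.SpinorMatrix
import Cfsg.Agent.Lib.Lagrangian
import Cfsg.Agent.Lib.OrthOrderBase
import Cfsg.Agent.Lib.FiniteForms.Standard

set_option autoImplicit false
open Cfsg

namespace Cfsg.Agent.S0791

theorem count {F : Type*} [Field F] [Fintype F] (m : ℕ) {a b : F}
    (hab : ∀ z₁ z₂ : F, z₁ ^ 2 + a * z₁ * z₂ + b * z₂ ^ 2 = 0 → z₁ = 0 ∧ z₂ = 0) :
    (Nat.card {v : (Fin m ⊕ Fin m) ⊕ Fin 2 → F // Cfsg.quadFormMinus m F a b v = 1} : ℤ) =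
      (Fintype.card F : ℤ) ^ m * ((Fintype.card F : ℤ) ^ (m + 1) + 1) := by
  classical
  set q := Fintype.card F with hq
  have hq1 : 1 < q := Fintype.one_lt_card
  induction m with
  | zero =>
    have e : {v : (Fin 0 ⊕ Fin 0) ⊕ Fin 2 → F // Cfsg.quadFormMinus 0 F a b v = 1} ≃
        {d : Fin 2 → F // CfsgLib.OrthOrder.binForm a b d = 1} :=
      ((Equiv.sumArrowEquivProdArrow _ _ _).trans (Equiv.uniqueProd _ _)).subtypeEquiv fun v => by
        simp [Cfsg.quadFormMinus, CfsgLib.OrthOrder.binForm_apply, Equiv.sumArrowEquivProdArrow]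
    rw [Nat.card_congr e, CfsgLib.OrthOrder.card_conic hab, ← hq]
    push_cast
    ring
  | succ m ih =>
    let f : ((Fin m ⊕ Fin m) ⊕ Fin 2 → F) → F := Cfsg.quadFormMinus m F a b
    have e : {v : (Fin (m + 1) ⊕ Fin (m + 1)) ⊕ Fin 2 → F // Cfsg.quadFormMinus (m + 1) F a b v = 1} ≃
        {p : (F × F) × ((Fin m ⊕ Fin m) ⊕ Fin 2 → F) // p.1.1 * p.1.2 + f p.2 = 1} :=
      ((Equiv.sumArrowEquivProdArrow _ _ _).trans
        (((CfsgLib.QuadCount.splitHyp m F).prodCongr (Equiv.refl _)).trans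
          ((Equiv.prodAssoc _ _ _).trans
            ((Equiv.refl _).prodCongr (Equiv.sumArrowEquivProdArrow _ _ _).symm)))).subtypeEquiv fun v => by
        simp [CfsgLib.QuadCount.splitHyp, Cfsg.quadFormMinus, f, Fin.sum_univ_succ,
          Equiv.sumArrowEquivProdArrow, add_assoc]
    rw [Nat.card_congr e, CfsgLib.QuadCount.card_hyp, Fintype.card_fun, Fintype.card_sum,
      Fintype.card_sum, Fintype.card_fin, Fintype.card_fin, ← hq]
    push_cast [Nat.cast_sub (show 1 ≤ q by omega)]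
    linear_combination (q : ℤ) * ih

/-- The minus form as a quadratic form. -/
def Qm {F : Type*} [Field F] (m : ℕ) (a b : F) : QuadraticForm F ((Fin m ⊕ Fin m) ⊕ Fin 2 → F) :=
  (CfsgLib.Lagrangian.Qp m F).comp (LinearMap.funLeft F F Sum.inl) +
    (CfsgLib.OrthOrder.binForm a b).comp (LinearMap.funLeft F F Sum.inr)

theorem Qm_apply {F : Type*} [Field F] (m : ℕ) (a b : F) (v : (Fin m ⊕ Fin m) ⊕ Fin 2 → F) :
    Qm m a b v = Cfsg.quadFormMinus m F a b v := by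
  simp [Qm, CfsgLib.Lagrangian.Qp_apply, CfsgLib.OrthOrder.binForm_apply, Cfsg.quadFormMinus,
    Cfsg.quadFormPlus, LinearMap.funLeft_apply]

theorem mem_iff {F : Type*} [Field F] [Fintype F] {ι : Type} [Fintype ι] [DecidableEq ι]
    (f : (ι → F) → F) (Q : QuadraticForm F (ι → F)) (hf : ∀ v, f v = Q v) (h2 : (2 : F) ≠ 0)
    (hn : 2 ≤ Fintype.card ι) (he : Even (Fintype.card ι))
    (hQ : (QuadraticMap.polarBilin Q).Nondegenerate) :
    (∃ g : ↥(Cfsg.isometryGroup F f), g ∈ Cfsg.Omega F f ∧ g.1.1 = -1) ↔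
      Even (Nat.card {x : ι → F // f x = 1} / 2) := by
  classical
  obtain rfl : f = ⇑Q := funext hf
  exact CfsgLib.SpinorMatrix.neg_one_mem_iff Q h2 hn he hQ

theorem Qm_nondeg {F : Type*} [Field F] [Fintype F] (m : ℕ) {a b : F}
    (hab : ∀ z₁ z₂ : F, z₁ ^ 2 + a * z₁ * z₂ + b * z₂ ^ 2 = 0 → z₁ = 0 ∧ z₂ = 0) :
    (QuadraticMap.polarBilin (Qm m a b)).Nondegenerate := by
  have hl : ∀ u : (Fin m ⊕ Fin m) ⊕ Fin 2 → F, (∀ v, QuadraticMap.polar (Qm m a b) u v = 0) → u = 0 := by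
    intro u h
    have hp : ∀ v, QuadraticMap.polar (Qm m a b) u v =
        QuadraticMap.polar (CfsgLib.Lagrangian.Qp m F) (u ∘ Sum.inl) (v ∘ Sum.inl) +
          QuadraticMap.polar (CfsgLib.OrthOrder.binForm a b) (u ∘ Sum.inr) (v ∘ Sum.inr) := fun v => by
      simp only [QuadraticMap.polar, Qm, QuadraticMap.add_apply, QuadraticMap.comp_apply]
      show _ = _
      simp only [LinearMap.funLeft, LinearMap.coe_mk, AddHom.coe_mk]
      rw [show (u + v) ∘ Sum.inl = u ∘ Sum.inl + v ∘ Sum.inl from rfl,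
        show (u + v) ∘ Sum.inr = u ∘ Sum.inr + v ∘ Sum.inr from rfl]
      ring
    have h1 : u ∘ Sum.inl = 0 := CfsgLib.Lagrangian.Qp_nondeg.1 _ fun y => by
      have := h (Sum.elim y 0)
      rw [hp, Sum.elim_comp_inl, Sum.elim_comp_inr, QuadraticMap.polar_zero_right, add_zero] at this
      exact this
    have h2 : u ∘ Sum.inr = 0 := CfsgLib.OrthOrder.bin_nondeg hab _ fun y => by
      have := h (Sum.elim 0 y)
      rw [hp, Sum.elim_comp_inl, Sum.elim_comp_inr, QuadraticMap.polar_zero_right, zero_add] at this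
      exact this
    funext s
    rcases s with s | s
    · exact congrFun h1 s
    · exact congrFun h2 s
  exact ⟨fun u h => hl u h, fun v h => hl v fun u => (QuadraticMap.polar_comm _ v u).trans (h u)⟩


/-- −1 ∈ Ω⁻_2m(q) iff q^m ≡ −1 (mod 4), for q odd and m ≥ 1; for the minus-type form quadFormMinus (m−1) with anisotropic binary part. -/
theorem result {F : Type*} [Field F] [Fintype F] {q : ℕ} (hF : Fintype.card F = q) (hodd : Odd q) (m : ℕ) (hm : 1 ≤ m) (a b : F) (hab : ∀ z₁ z₂ : F, z₁ ^ 2 + a * z₁ * z₂ + b * z₂ ^ 2 = 0 → z₁ = 0 ∧ z₂ = 0) : (∃ g : ↥(Cfsg.isometryGroup F (Cfsg.quadFormMinus (m - 1) F a b)), g ∈ Cfsg.Omega F (Cfsg.quadFormMinus (m - 1) F a b) ∧ ((g : Matrix.GeneralLinearGroup ((Fin (m - 1) ⊕ Fin (m - 1)) ⊕ Fin 2) F) : Matrix ((Fin (m - 1) ⊕ Fin (m - 1)) ⊕ Fin 2) ((Fin (m - 1) ⊕ Fin (m - 1)) ⊕ Fin 2) F) = -1) ↔ q ^ m % 4 = 3 := by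
  classical
  subst hF
  have h2 := CfsgLib.FiniteForms.two_ne_zero_of_odd (F := F) rfl hodd
  obtain ⟨k, rfl⟩ : ∃ k, m = k + 1 := ⟨m - 1, by omega⟩
  show (∃ g : ↥(Cfsg.isometryGroup F (Cfsg.quadFormMinus k F a b)), g ∈ Cfsg.Omega F (Cfsg.quadFormMinus k F a b) ∧
    g.1.1 = -1) ↔ _
  rw [mem_iff _ (Qm k a b) (fun v => (Qm_apply k a b v).symm) h2 (by simp)
    ⟨k + 1, by simp; ring⟩ (Qm_nondeg k hab)]
  set q := Fintype.card F with hq
  have hq1 : 1 < q := Fintype.one_lt_card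
  set N := Nat.card {v : (Fin k ⊕ Fin k) ⊕ Fin 2 → F // Cfsg.quadFormMinus k F a b v = 1}
  have hN : N = q ^ k * (q ^ (k + 1) + 1) := by
    have h := count (F := F) k hab
    zify
    exact h
  obtain ⟨c, hc⟩ : Odd (q ^ k) := hodd.pow
  obtain ⟨d, hd⟩ : Odd (q ^ (k + 1)) := hodd.pow
  have h' : N / 2 = (2 * c + 1) * (d + 1) := by
    rw [hN, hc, hd, show (2 * c + 1) * (2 * d + 1 + 1) = 2 * ((2 * c + 1) * (d + 1)) by ring,
      Nat.mul_div_cancel_left _ two_pos]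
  rw [h', Nat.even_mul, hd, Nat.even_iff, Nat.even_iff]
  omega

end Cfsg.Agent.S0791
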