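import Cfsg.Statements.S0294
import Mathlib
import Cfsg.Agent.Lib.POmegaCard
import Cfsg.Agent.Lib.OrthOrderBase
import Cfsg.Agent.Lib.FiniteForms.Standard
import Cfsg.Agent.Lib.StdQuadForms
import Cfsg.Agent.S0791

set_option autoImplicit false
open Cfsg

namespace Cfsg.Agent.S0294



/-- gcd(4, q^m + 1) |PΩ^-_{2m}(q)| = q^(m(m-1)) (q^m + 1) prod_{i=1}^{m-1} (q^(2i) - 1), m at least 4 (type ²D_m). -/
theorem result {F : Type*} [Field F] [Fintype F] {q : ℕ} (hF : Fintype.card F = q) (m : ℕ) (hm : 4 ≤ m) (a b : F) (hab : ∀ z₁ z₂ : F, z₁ ^ 2 + a * z₁ * z₂ + b * z₂ ^ 2 = 0 → z₁ = 0 ∧ z₂ = 0) : Nat.gcd 4 (q ^ m + 1) * Nat.card (Cfsg.POmega F (Cfsg.quadFormMinus (m - 1) F a b)) = q ^ (m * (m - 1)) * (q ^ m + 1) * ∏ i ∈ Finset.range (m - 1), (q ^ (2 * (i + 1)) - 1) := by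
  subst hF
  obtain ⟨k, rfl⟩ : ∃ k, m = k + 1 := ⟨m - 1, by omega⟩
  show Nat.gcd 4 (Fintype.card F ^ (k + 1) + 1) * Nat.card (Cfsg.POmega F (Cfsg.quadFormMinus k F a b)) =
    Fintype.card F ^ ((k + 1) * k) * (Fintype.card F ^ (k + 1) + 1) *
      ∏ i ∈ Finset.range k, (Fintype.card F ^ (2 * (i + 1)) - 1)
  obtain ⟨c2, codd⟩ := CfsgLib.POmegaCard.main (CfsgLib.StdQuadForms.Qm k a b)
    (Cfsg.quadFormMinus k F a b) (fun v => (CfsgLib.StdQuadForms.Qm_apply k a b v).symm)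
    (by simp; omega) (CfsgLib.StdQuadForms.Qm_nondeg k hab)
  have hO := CfsgLib.OrthOrder.card_O_minus (F := F) (k + 1) (by omega) a b hab
  simp only [Nat.add_sub_cancel] at hO
  change Nat.card (Cfsg.isometryGroup F (Cfsg.quadFormMinus k F a b)) = _ at hO
  generalize (∏ i ∈ Finset.range k, (Fintype.card F ^ (2 * (i + 1)) - 1)) = B at hO ⊢
  generalize Fintype.card F ^ ((k + 1) * k) = A at hO ⊢
  rcases Nat.even_or_odd (Fintype.card F) with he | hodd
  · have hc : ringChar F = 2 :=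
      (FiniteField.even_card_iff_char_two (F := F)).mpr (Nat.even_iff.mp he)
    haveI : CharP F 2 := ringChar.of_eq hc
    have h := c2 CharTwo.two_eq_zero
    have hgcd : Nat.gcd 4 (Fintype.card F ^ (k + 1) + 1) = 1 := by
      have h4 : Nat.Coprime 2 (Fintype.card F ^ (k + 1) + 1) := by
        rw [Nat.coprime_two_left, Nat.odd_iff]
        have := Nat.even_iff.mp (Nat.even_pow.mpr ⟨he, show k + 1 ≠ 0 by omega⟩)
        omega
      simpa using h4.pow_left 2
    rw [hgcd, one_mul]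
    linarith
  · have h2 := CfsgLib.FiniteForms.two_ne_zero_of_odd (F := F) rfl hodd
    obtain ⟨hn0, hn1⟩ := codd h2
    have h4 := Cfsg.Agent.S0791.result (F := F) rfl hodd (k + 1) (by omega) a b hab
    have hodd' := Nat.odd_iff.mp (hodd.pow (n := k + 1))
    by_cases hm4 : Fintype.card F ^ (k + 1) % 4 = 3
    · have hgcd : Nat.gcd 4 (Fintype.card F ^ (k + 1) + 1) = 4 :=
        Nat.gcd_eq_left (by omega)
      have h := hn1 (h4.mpr hm4)
      rw [hgcd]
      linarith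
    · have hgcd : Nat.gcd 4 (Fintype.card F ^ (k + 1) + 1) = 2 := by
        rw [Nat.gcd_rec, show (Fintype.card F ^ (k + 1) + 1) % 4 = 2 by omega]
        rfl
      have h := hn0 (fun hn => hm4 (h4.mp hn))
      rw [hgcd]
      linarith

end Cfsg.Agent.S0294
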