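import Cfsg.Statements.S2363
import Cfsg.Agent.S0243
import Cfsg.Agent.S0245
import Cfsg.Agent.S0246
import Cfsg.Agent.S0280
import Cfsg.Agent.S0292
import Cfsg.Agent.S0293
import Cfsg.Agent.S0294
import Cfsg.Agent.S1059
import Cfsg.Agent.S1062
import Cfsg.Agent.S1063
import Cfsg.Agent.S1064
import Cfsg.Agent.S1065
import Cfsg.Agent.S1066
import Cfsg.Agent.S1067
import Cfsg.Agent.S1068
import Cfsg.Agent.S1069
import Cfsg.Agent.S1163
import Cfsg.Agent.Lib.LieOrderBound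
-- import your own Cfsg.Agent.* helpers here

set_option autoImplicit false
open Cfsg

namespace Cfsg.Agent.S2363

/-- Let G be a finite simple group of Lie type in characteristic p and let p^k be the exact power of p dividing the order of G. Then the order of G is less than p^(3k); and unless G is isomorphic to PSL(2, F) for the field F with p^k elements, the cube of the order of G is less than p^(8k) (that is, the order is below p^(8k/3)). -/
theorem result {G : Type*} [Group G] [Finite G] (p : ℕ) (hp : p.Prime) (hG : Cfsg.IsLieTypeChar p G) :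
    Nat.card G < p ^ (3 * (Nat.card G).factorization p) ∧
      ((¬ ∃ (F : Type) (_ : Field F) (_ : Fintype F), Fintype.card F = p ^ (Nat.card G).factorization p ∧
          Nonempty (G ≃* Matrix.ProjectiveSpecialLinearGroup (Fin 2) F)) →
        Nat.card G ^ 3 < p ^ (8 * (Nat.card G).factorization p)) := by
  classical
  -- the common step
  have fin : ∀ {f n₀ c N R e : ℕ}, 1 ≤ f → Nat.card G = n₀ → 0 < c → p.Coprime c → c * n₀ = (p ^ f) ^ N * R →
      p.Coprime R → R < (p ^ f) ^ e → e ≤ 2 * N → 3 * e ≤ 5 * N →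
      Nat.card G < p ^ (3 * (Nat.card G).factorization p) ∧
        Nat.card G ^ 3 < p ^ (8 * (Nat.card G).factorization p) := by
    intro f n₀ c N R e hf hn hc hcp h hR hlt h2 h3
    have hb := CfsgLib.LieBound.bound hp hf rfl (hn ▸ Nat.card_pos (α := G)) hc hcp h hR hlt h2
    rw [hn]
    exact ⟨hb.2.1, hb.2.2 h3⟩
  have both : ∀ {P : Prop}, (Nat.card G < p ^ (3 * (Nat.card G).factorization p) ∧
        Nat.card G ^ 3 < p ^ (8 * (Nat.card G).factorization p)) →
      Nat.card G < p ^ (3 * (Nat.card G).factorization p) ∧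
        (P → Nat.card G ^ 3 < p ^ (8 * (Nat.card G).factorization p)) := fun h => ⟨h.1, fun _ => h.2⟩
  rcases hG with h | h | h | h | h | h | h | h | ⟨rfl, h⟩ | ⟨rfl, h⟩ | ⟨rfl, h⟩
  · -- linear
    obtain ⟨F, _, _, _, n, hn, hn4, ⟨ε⟩⟩ := h
    obtain ⟨-, f, hf, hq⟩ := CfsgLib.LieBound.pow_of_card (F := F) p
    have hord := Cfsg.Agent.S0243.result hq n hn
    have hq2 : 2 ≤ p ^ f := hq ▸ Fintype.one_lt_card
    obtain ⟨k, rfl⟩ : ∃ k, n = k + 1 := ⟨n - 1, by omega⟩
    have hprod : ∀ q : ℕ, ∏ i : Fin (k + 1), (q ^ (k + 1) - q ^ (i : ℕ)) =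
        q ^ (∑ i ∈ Finset.range (k + 1), i) * ((q - 1) * ∏ i ∈ Finset.range k, (q ^ (i + 2) - 1)) := by
      intro q
      rw [Fin.prod_univ_eq_prod_range (fun i => q ^ (k + 1) - q ^ i), ← Finset.prod_pow_eq_pow_sum]
      have h1 : ∀ i ∈ Finset.range (k + 1), q ^ (k + 1) - q ^ i = q ^ i * (q ^ (k + 1 - i) - 1) := by
        intro i hi
        rw [Nat.mul_sub, mul_one, ← pow_add, Nat.add_sub_cancel' (Finset.mem_range.1 hi).le]
      rw [Finset.prod_congr rfl h1, Finset.prod_mul_distrib]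
      congr 1
      rw [← Finset.prod_range_reflect, Finset.prod_range_succ', mul_comm]
      congr 1
      · simp
      · refine Finset.prod_congr rfl fun i hi => ?_
        congr 2
        have := Finset.mem_range.1 hi
        omega
    rw [hprod, ← mul_assoc, mul_comm _ (p ^ f - 1), mul_assoc] at hord
    have hord' : Nat.gcd (k + 1) (p ^ f - 1) * Nat.card (Matrix.ProjectiveSpecialLinearGroup (Fin (k + 1)) F) =
        (p ^ f) ^ (∑ i ∈ Finset.range (k + 1), i) * ∏ i ∈ Finset.range k, ((p ^ f) ^ (i + 2) - 1) := by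
      refine Nat.eq_of_mul_eq_mul_left (show 0 < p ^ f - 1 by omega) ?_
      rw [hord]
      ring
    have hc := CfsgLib.LieBound.cop_gcd (n := k + 1) hp hf (le_refl 1)
    rw [pow_one] at hc
    have hR : p.Coprime (∏ i ∈ Finset.range k, ((p ^ f) ^ (i + 2) - 1)) :=
      Nat.Coprime.prod_right fun i _ => CfsgLib.LieBound.cop_sub hp hf (by omega)
    have hlt := CfsgLib.LieBound.prod_sub_lt (q := p ^ f) (by omega) (fun i => i + 2) k (by omega)
    have hN : (∑ i ∈ Finset.range (k + 1), i) * 2 = (k + 1) * k := by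
      rw [Finset.sum_range_id_mul_two]; simp
    have he : ∑ i ∈ Finset.range k, (i + 2) = (∑ i ∈ Finset.range k, i) + 2 * k := by
      rw [Finset.sum_add_distrib, Finset.sum_const, Finset.card_range, smul_eq_mul, mul_comm]
    have hs : ∑ i ∈ Finset.range (k + 1), i = (∑ i ∈ Finset.range k, i) + k := Finset.sum_range_succ _ _
    by_cases h1 : k = 1
    · subst h1
      have hb := CfsgLib.LieBound.bound hp hf rfl (Nat.card_pos (α := Matrix.ProjectiveSpecialLinearGroup (Fin 2) F))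
        (Nat.gcd_pos_of_pos_left _ (by norm_num)) hc hord' hR hlt (by simp [Finset.sum_range_succ])
      rw [Nat.card_congr ε.toEquiv]
      refine ⟨hb.2.1, fun hne => absurd ⟨F, inferInstance, inferInstance, ?_, ⟨ε⟩⟩ hne⟩
      rw [hq, hb.1]
      simp [Finset.sum_range_succ]
    · refine both (fin hf (Nat.card_congr ε.toEquiv) (Nat.gcd_pos_of_pos_left _ (by omega)) hc hord' hR hlt ?_ ?_)
      all_goals
        rw [he]
        nlinarith [hN, hs, show 2 ≤ k by omega, Nat.mul_le_mul_left k (show 2 ≤ k by omega)]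
  · -- symplectic
    obtain ⟨F, _, _, _, m, hm, -, ⟨ε⟩⟩ := h
    obtain ⟨-, f, hf, hq⟩ := CfsgLib.LieBound.pow_of_card (F := F) p
    have hq1 : 1 ≤ p ^ f := Nat.one_le_pow _ _ hp.pos
    have hord := Cfsg.Agent.S0245.result hq m
    rw [Subgroup.card_eq_card_quotient_mul_card_subgroup (Subgroup.center _),
      Cfsg.Agent.S0246.result hq m (by omega), mul_comm] at hord
    have hc := CfsgLib.LieBound.cop_gcd (n := 2) hp hf (le_refl 1)
    rw [pow_one] at hc
    refine both (fin hf (Nat.card_congr ε.toEquiv) (Nat.gcd_pos_of_pos_left _ (by norm_num)) hc hord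
      (Nat.Coprime.prod_right fun i _ => CfsgLib.LieBound.cop_sub hp hf (by omega))
      (CfsgLib.LieBound.prod_sub_lt hq1 (fun i => 2 * (i + 1)) m (by omega)) ?_ ?_)
    all_goals
      rw [CfsgLib.LieBound.sum_even]
      nlinarith
  · -- unitary
    obtain ⟨F, _, _, _, n, q, hF, hn, -, ⟨ε⟩⟩ := h
    obtain ⟨-, f, hf, rfl⟩ := CfsgLib.LieBound.pow_of_card_pow (F := F) p two_ne_zero hF
    have hq1 : 1 ≤ p ^ f := Nat.one_le_pow _ _ hp.pos
    have hord := Cfsg.Agent.S0280.result hF n (by omega)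
    obtain ⟨k, rfl⟩ : ∃ k, n = k + 1 := ⟨n - 1, by omega⟩
    rw [CfsgLib.LieBound.uProd_spec] at hord
    have hord' : Nat.gcd (k + 1) (p ^ f + 1) * Nat.card (Cfsg.PSU (k + 1) F (p ^ f)) =
        (p ^ f) ^ ((k + 1) * (k + 1 - 1) / 2) * CfsgLib.LieBound.uProd (p ^ f) k := by
      refine Nat.eq_of_mul_eq_mul_left (show 0 < p ^ f + 1 by omega) ?_
      linarith
    have hc := CfsgLib.LieBound.cop_gcd_add (n := k + 1) hp hf (le_refl 1)
    rw [pow_one] at hc
    obtain ⟨e, he⟩ : ∃ e, 2 * e = k * (k + 3) := by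
      rcases Nat.even_or_odd k with ⟨j, hj⟩ | ⟨j, hj⟩
      · exact ⟨j * (k + 3), by rw [hj]; ring⟩
      · exact ⟨k * (j + 2), by rw [hj]; ring⟩
    obtain ⟨N, hN⟩ : ∃ N, 2 * N = (k + 1) * k := by
      obtain ⟨j, hj⟩ := Nat.even_mul_succ_self k
      exact ⟨j, by rw [mul_comm (k + 1)]; omega⟩
    rw [show (k + 1) * (k + 1 - 1) / 2 = N by rw [Nat.add_sub_cancel]; omega] at hord'
    refine both (fin hf (Nat.card_congr ε.toEquiv) (Nat.gcd_pos_of_pos_left _ (by omega)) hc hord'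
      (CfsgLib.LieBound.cop_uProd hp hf) (CfsgLib.LieBound.uProd_lt hq1 k e (by omega) he) ?_ ?_)
    all_goals nlinarith
  · -- odd orthogonal
    obtain ⟨F, _, _, _, m, hm, hodd, ⟨ε⟩⟩ := h
    obtain ⟨-, f, hf, hq⟩ := CfsgLib.LieBound.pow_of_card (F := F) p
    have hq1 : 1 ≤ p ^ f := Nat.one_le_pow _ _ hp.pos
    rw [hq] at hodd
    have hp2 : p.Coprime 2 := by
      rw [Nat.coprime_two_right]
      exact (Nat.odd_pow_iff (by omega)).1 hodd
    refine both (fin hf (Nat.card_congr ε.toEquiv) (by norm_num) hp2 (Cfsg.Agent.S0292.result hq hodd m hm)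
      (Nat.Coprime.prod_right fun i _ => CfsgLib.LieBound.cop_sub hp hf (by omega))
      (CfsgLib.LieBound.prod_sub_lt hq1 (fun i => 2 * (i + 1)) m (by omega)) ?_ ?_)
    all_goals
      rw [CfsgLib.LieBound.sum_even]
      nlinarith
  · -- plus type
    obtain ⟨F, _, _, _, m, hm, ⟨ε⟩⟩ := h
    obtain ⟨-, f, hf, hq⟩ := CfsgLib.LieBound.pow_of_card (F := F) p
    have hq1 : 1 ≤ p ^ f := Nat.one_le_pow _ _ hp.pos
    have hord := Cfsg.Agent.S0293.result hq m hm
    rw [mul_assoc] at hord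
    have hlt := Nat.mul_lt_mul'' (CfsgLib.LieBound.sub_one_lt (a := m) hq1)
      (CfsgLib.LieBound.prod_sub_lt hq1 (fun i => 2 * (i + 1)) (m - 1) (by omega))
    rw [← pow_add, CfsgLib.LieBound.sum_even] at hlt
    obtain ⟨k, rfl⟩ : ∃ k, m = k + 1 := ⟨m - 1, by omega⟩
    simp only [Nat.add_sub_cancel] at hord hlt
    refine both (fin hf (Nat.card_congr ε.toEquiv) (Nat.gcd_pos_of_pos_left _ (by norm_num))
      (CfsgLib.LieBound.cop_gcd hp hf (by omega)) hord
      (Nat.Coprime.mul_right (CfsgLib.LieBound.cop_sub hp hf (by omega))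
        (Nat.Coprime.prod_right fun i _ => CfsgLib.LieBound.cop_sub hp hf (by omega))) hlt ?_ ?_)
    all_goals nlinarith
  · -- minus type
    obtain ⟨F, _, _, _, m, a, b, hm, hab, ⟨ε⟩⟩ := h
    obtain ⟨-, f, hf, hq⟩ := CfsgLib.LieBound.pow_of_card (F := F) p
    have hq1 : 1 ≤ p ^ f := Nat.one_le_pow _ _ hp.pos
    have hord := Cfsg.Agent.S0294.result hq m hm a b hab
    rw [mul_assoc] at hord
    obtain ⟨k, rfl⟩ : ∃ k, m = k + 2 := ⟨m - 2, by omega⟩
    rw [show k + 2 - 1 = k + 1 from rfl] at hord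
    have hlt : ((p ^ f) ^ (k + 2) + 1) * ∏ i ∈ Finset.range (k + 1), ((p ^ f) ^ (2 * (i + 1)) - 1) <
        (p ^ f) ^ (2 + (k + 2) + (∑ i ∈ Finset.range k, 2 * (i + 2))) := by
      rw [Finset.prod_range_succ', mul_comm (∏ i ∈ Finset.range k, _), ← mul_assoc,
        pow_add _ (2 + (k + 2))]
      exact Nat.mul_lt_mul'' (CfsgLib.LieBound.pair_lt (a := 2) hq1 (by omega))
        (CfsgLib.LieBound.prod_sub_lt hq1 (fun i => 2 * (i + 2)) k (by omega))
    have hsum : ∀ k : ℕ, ∑ i ∈ Finset.range k, 2 * (i + 2) = k * (k + 3) := by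
      intro k
      induction k with
      | zero => rfl
      | succ k ih => rw [Finset.sum_range_succ, ih]; ring
    rw [hsum] at hlt
    refine both (fin hf (Nat.card_congr ε.toEquiv) (Nat.gcd_pos_of_pos_left _ (by norm_num))
      (CfsgLib.LieBound.cop_gcd_add hp hf (by omega)) hord
      (Nat.Coprime.mul_right (CfsgLib.LieBound.cop_add hp hf (by omega))
        (Nat.Coprime.prod_right fun i _ => CfsgLib.LieBound.cop_sub hp hf (by omega))) hlt ?_ ?_)
    all_goals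
      rw [show (k + 2) * (k + 1) = k * k + 3 * k + 2 by ring]
      nlinarith
  · -- exceptional Chevalley groups
    obtain ⟨F, _, _, _, h⟩ := h
    obtain ⟨-, f, hf, hq⟩ := CfsgLib.LieBound.pow_of_card (F := F) p
    have hq1 : 1 ≤ p ^ f := Nat.one_le_pow _ _ hp.pos
    have s := fun a => CfsgLib.LieBound.sub_one_lt (a := a) hq1
    have c := fun a (ha : 1 ≤ a) => CfsgLib.LieBound.cop_sub (a := a) hp hf ha
    rcases h with ⟨-, ⟨ε⟩⟩ | ⟨⟨ε⟩⟩ | ⟨⟨ε⟩⟩ | ⟨⟨ε⟩⟩ | ⟨⟨ε⟩⟩
    · refine both (fin (c := 1) (R := ((p ^ f) ^ 2 - 1) * ((p ^ f) ^ 6 - 1)) (N := 6) (e := 2 + 6) hf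
        (Nat.card_congr ε.toEquiv) Nat.one_pos (Nat.coprime_one_right p)
        (by rw [one_mul, Cfsg.Agent.S1059.result hq, mul_assoc]) ?_ ?_ (by norm_num) (by norm_num))
      · exact (c 2 (by norm_num)).mul_right (c 6 (by norm_num))
      · rw [pow_add]; exact Nat.mul_lt_mul'' (s 2) (s 6)
    · refine both (fin (c := 1) (N := 24) (e := 2 + 6 + 8 + 12)
        (R := ((p ^ f) ^ 2 - 1) * ((p ^ f) ^ 6 - 1) * ((p ^ f) ^ 8 - 1) * ((p ^ f) ^ 12 - 1)) hf
        (Nat.card_congr ε.toEquiv) Nat.one_pos (Nat.coprime_one_right p)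
        (by rw [one_mul, Cfsg.Agent.S1062.result hq]; simp only [mul_assoc]) ?_ ?_ (by norm_num) (by norm_num))
      · exact (((c 2 (by norm_num)).mul_right (c 6 (by norm_num))).mul_right (c 8 (by norm_num))).mul_right
          (c 12 (by norm_num))
      · simp only [pow_add]
        exact Nat.mul_lt_mul'' (Nat.mul_lt_mul'' (Nat.mul_lt_mul'' (s 2) (s 6)) (s 8)) (s 12)
    · have hc := CfsgLib.LieBound.cop_gcd (n := 3) hp hf (le_refl 1)
      rw [pow_one] at hc
      refine both (fin (c := Nat.gcd 3 (p ^ f - 1)) (N := 36) (e := 2 + 5 + 6 + 8 + 9 + 12)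
        (R := ((p ^ f) ^ 2 - 1) * ((p ^ f) ^ 5 - 1) * ((p ^ f) ^ 6 - 1) * ((p ^ f) ^ 8 - 1) *
          ((p ^ f) ^ 9 - 1) * ((p ^ f) ^ 12 - 1)) hf
        (Nat.card_congr ε.toEquiv) (Nat.gcd_pos_of_pos_left _ (by norm_num)) hc
        (by rw [Cfsg.Agent.S1063.result hq]; simp only [mul_assoc]) ?_ ?_ (by norm_num) (by norm_num))
      · exact (((((c 2 (by norm_num)).mul_right (c 5 (by norm_num))).mul_right (c 6 (by norm_num))).mul_right
          (c 8 (by norm_num))).mul_right (c 9 (by norm_num))).mul_right (c 12 (by norm_num))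
      · simp only [pow_add]
        exact Nat.mul_lt_mul'' (Nat.mul_lt_mul'' (Nat.mul_lt_mul'' (Nat.mul_lt_mul'' (Nat.mul_lt_mul''
          (s 2) (s 5)) (s 6)) (s 8)) (s 9)) (s 12)
    · have hc := CfsgLib.LieBound.cop_gcd (n := 2) hp hf (le_refl 1)
      rw [pow_one] at hc
      refine both (fin (c := Nat.gcd 2 (p ^ f - 1)) (N := 63) (e := 2 + 6 + 8 + 10 + 12 + 14 + 18)
        (R := ((p ^ f) ^ 2 - 1) * ((p ^ f) ^ 6 - 1) * ((p ^ f) ^ 8 - 1) * ((p ^ f) ^ 10 - 1) *
          ((p ^ f) ^ 12 - 1) * ((p ^ f) ^ 14 - 1) * ((p ^ f) ^ 18 - 1)) hf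
        (Nat.card_congr ε.toEquiv) (Nat.gcd_pos_of_pos_left _ (by norm_num)) hc
        (by rw [Cfsg.Agent.S1064.result hq]; simp only [mul_assoc]) ?_ ?_ (by norm_num) (by norm_num))
      · exact ((((((c 2 (by norm_num)).mul_right (c 6 (by norm_num))).mul_right (c 8 (by norm_num))).mul_right
          (c 10 (by norm_num))).mul_right (c 12 (by norm_num))).mul_right (c 14 (by norm_num))).mul_right
          (c 18 (by norm_num))
      · simp only [pow_add]
        exact Nat.mul_lt_mul'' (Nat.mul_lt_mul'' (Nat.mul_lt_mul'' (Nat.mul_lt_mul'' (Nat.mul_lt_mul''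
          (Nat.mul_lt_mul'' (s 2) (s 6)) (s 8)) (s 10)) (s 12)) (s 14)) (s 18)
    · refine both (fin (c := 1) (N := 120) (e := 2 + 8 + 12 + 14 + 18 + 20 + 24 + 30)
        (R := ((p ^ f) ^ 2 - 1) * ((p ^ f) ^ 8 - 1) * ((p ^ f) ^ 12 - 1) * ((p ^ f) ^ 14 - 1) *
          ((p ^ f) ^ 18 - 1) * ((p ^ f) ^ 20 - 1) * ((p ^ f) ^ 24 - 1) * ((p ^ f) ^ 30 - 1)) hf
        (Nat.card_congr ε.toEquiv) Nat.one_pos (Nat.coprime_one_right p)
        (by rw [one_mul, Cfsg.Agent.S1065.result hq]; simp only [mul_assoc]) ?_ ?_ (by norm_num) (by norm_num))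
      · exact (((((((c 2 (by norm_num)).mul_right (c 8 (by norm_num))).mul_right (c 12 (by norm_num))).mul_right
          (c 14 (by norm_num))).mul_right (c 18 (by norm_num))).mul_right (c 20 (by norm_num))).mul_right
          (c 24 (by norm_num))).mul_right (c 30 (by norm_num))
      · simp only [pow_add]
        exact Nat.mul_lt_mul'' (Nat.mul_lt_mul'' (Nat.mul_lt_mul'' (Nat.mul_lt_mul'' (Nat.mul_lt_mul''
          (Nat.mul_lt_mul'' (Nat.mul_lt_mul'' (s 2) (s 8)) (s 12)) (s 14)) (s 18)) (s 20)) (s 24)) (s 30)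
  · -- ²E₆ and ³D₄
    obtain ⟨K, _, _, _, q, hqp, (⟨hK, ⟨ε⟩⟩ | ⟨hK, ⟨ε⟩⟩)⟩ := h
    · obtain ⟨-, f, hf, rfl⟩ := CfsgLib.LieBound.pow_of_card_pow (F := K) p two_ne_zero hK
      have hq1 : 1 ≤ p ^ f := Nat.one_le_pow _ _ hp.pos
      have s := fun a => CfsgLib.LieBound.sub_one_lt (a := a) hq1
      have hc := CfsgLib.LieBound.cop_gcd_add (n := 3) hp hf (le_refl 1)
      rw [pow_one] at hc
      refine both (fin (c := Nat.gcd 3 (p ^ f + 1)) (N := 36) (e := (2 + 5) + (8 + 9) + 6 + 12)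
        (R := ((p ^ f) ^ 5 + 1) * ((p ^ f) ^ 2 - 1) * (((p ^ f) ^ 9 + 1) * ((p ^ f) ^ 8 - 1)) *
          ((p ^ f) ^ 6 - 1) * ((p ^ f) ^ 12 - 1)) hf
        (Nat.card_congr ε.toEquiv) (Nat.gcd_pos_of_pos_left _ (by norm_num)) hc
        (by rw [Cfsg.Agent.S1066.result hqp hK]; ring) ?_ ?_ (by norm_num) (by norm_num))
      · exact ((((CfsgLib.LieBound.cop_add hp hf (by norm_num)).mul_right
          (CfsgLib.LieBound.cop_sub hp hf (by norm_num))).mul_right
          ((CfsgLib.LieBound.cop_add hp hf (by norm_num)).mul_right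
            (CfsgLib.LieBound.cop_sub hp hf (by norm_num)))).mul_right
          (CfsgLib.LieBound.cop_sub hp hf (by norm_num))).mul_right (CfsgLib.LieBound.cop_sub hp hf (by norm_num))
      · rw [pow_add _ (2 + 5 + (8 + 9) + 6), pow_add _ (2 + 5 + (8 + 9)), pow_add _ (2 + 5)]
        exact Nat.mul_lt_mul'' (Nat.mul_lt_mul'' (Nat.mul_lt_mul'' (CfsgLib.LieBound.pair_lt hq1 (by norm_num))
          (CfsgLib.LieBound.pair_lt hq1 (by norm_num))) (s 6)) (s 12)
    · obtain ⟨-, f, hf, rfl⟩ := CfsgLib.LieBound.pow_of_card_pow (F := K) p (by norm_num : (3 : ℕ) ≠ 0) hK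
      have hq1 : 1 ≤ p ^ f := Nat.one_le_pow _ _ hp.pos
      obtain ⟨y, hy⟩ : ∃ y, (p ^ f) ^ 2 = y + 1 := ⟨(p ^ f) ^ 2 - 1, by have := Nat.one_le_pow 2 _ hq1; omega⟩
      refine both (fin (c := 1) (N := 12) (e := 10 + 6)
        (R := ((p ^ f) ^ 2 - 1) * ((p ^ f) ^ 8 + (p ^ f) ^ 4 + 1) * ((p ^ f) ^ 6 - 1)) hf
        (Nat.card_congr ε.toEquiv) Nat.one_pos (Nat.coprime_one_right p)
        (by rw [one_mul, Cfsg.Agent.S1067.result hqp hK]; ring) ?_ ?_ (by norm_num) (by norm_num))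
      · refine ((CfsgLib.LieBound.cop_sub hp hf (by norm_num)).mul_right ?_).mul_right
          (CfsgLib.LieBound.cop_sub hp hf (by norm_num))
        rw [hp.coprime_iff_not_dvd]
        intro hd
        have hpd : p ∣ p ^ f := dvd_pow_self p (by omega)
        exact hp.not_dvd_one ((Nat.dvd_add_right (Dvd.dvd.add (dvd_pow hpd (by norm_num : (8 : ℕ) ≠ 0))
          (dvd_pow hpd (by norm_num : (4 : ℕ) ≠ 0)))).1 hd)
      · rw [pow_add _ 10 6]
        refine Nat.mul_lt_mul'' ?_ (CfsgLib.LieBound.sub_one_lt hq1)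
        rw [show (p ^ f) ^ 8 = ((p ^ f) ^ 2) ^ 4 by ring, show (p ^ f) ^ 4 = ((p ^ f) ^ 2) ^ 2 by ring,
          show (p ^ f) ^ 10 = ((p ^ f) ^ 2) ^ 5 by ring, hy, Nat.add_sub_cancel,
          show (y + 1) ^ 5 = y * ((y + 1) ^ 4 + (y + 1) ^ 2 + 1) +
            (y ^ 4 + 3 * y ^ 3 + 4 * y ^ 2 + 2 * y + 1) by ring]
        omega
  · -- Suzuki
    obtain ⟨F, _, _, m, hm, hF, ⟨ε⟩⟩ := h
    have hq1 : 1 ≤ 2 ^ (2 * m + 1) := Nat.one_le_pow _ _ (by norm_num)
    have hpl := CfsgLib.LieBound.pair_lt (a := 1) (b := 2) hq1 (by norm_num)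
    rw [pow_one] at hpl
    refine both (fin (c := 1) (N := 2) (e := 1 + 2)
      (R := ((2 ^ (2 * m + 1)) ^ 2 + 1) * (2 ^ (2 * m + 1) - 1)) (by omega : 1 ≤ 2 * m + 1)
      (Nat.card_congr ε.toEquiv) Nat.one_pos (Nat.coprime_one_right 2)
      (by rw [one_mul, (Cfsg.Agent.S1163.result hm hF).1]; ring) ?_ hpl (by norm_num) (by norm_num))
    have h1 := CfsgLib.LieBound.cop_sub (f := 2 * m + 1) hp (by omega) (le_refl 1)
    rw [pow_one] at h1
    exact (CfsgLib.LieBound.cop_add hp (by omega) (by norm_num)).mul_right h1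
  · -- ²F₄
    obtain ⟨K, _, _, m, hm, hK, ⟨ε⟩⟩ := h
    have hq1 : 1 ≤ 2 ^ (2 * m + 1) := Nat.one_le_pow _ _ (by norm_num)
    have hpl := CfsgLib.LieBound.pair_lt (a := 1) (b := 3) hq1 (by norm_num)
    rw [pow_one] at hpl
    refine both (fin (c := 1) (N := 12) (e := (1 + 3) + (4 + 6))
      (R := ((2 ^ (2 * m + 1)) ^ 3 + 1) * (2 ^ (2 * m + 1) - 1) *
        (((2 ^ (2 * m + 1)) ^ 6 + 1) * ((2 ^ (2 * m + 1)) ^ 4 - 1))) (by omega : 1 ≤ 2 * m + 1)
      (Nat.card_congr ε.toEquiv) Nat.one_pos (Nat.coprime_one_right 2)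
      (by rw [one_mul, Cfsg.Agent.S1068.result hK]; ring) ?_ ?_ (by norm_num) (by norm_num))
    · have h1 := CfsgLib.LieBound.cop_sub (f := 2 * m + 1) hp (by omega) (le_refl 1)
      rw [pow_one] at h1
      exact ((CfsgLib.LieBound.cop_add hp (by omega) (by norm_num)).mul_right h1).mul_right
        ((CfsgLib.LieBound.cop_add hp (by omega) (by norm_num)).mul_right
          (CfsgLib.LieBound.cop_sub hp (by omega) (by norm_num)))
    · rw [pow_add _ (1 + 3)]
      exact Nat.mul_lt_mul'' hpl (CfsgLib.LieBound.pair_lt hq1 (by norm_num))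
  · -- ²G₂
    obtain ⟨K, _, _, m, hm, hK, ⟨ε⟩⟩ := h
    have hq1 : 1 ≤ 3 ^ (2 * m + 1) := Nat.one_le_pow _ _ (by norm_num)
    have hpl := CfsgLib.LieBound.pair_lt (a := 1) (b := 3) hq1 (by norm_num)
    rw [pow_one] at hpl
    refine both (fin (c := 1) (N := 3) (e := 1 + 3)
      (R := ((3 ^ (2 * m + 1)) ^ 3 + 1) * (3 ^ (2 * m + 1) - 1)) (by omega : 1 ≤ 2 * m + 1)
      (Nat.card_congr ε.toEquiv) Nat.one_pos (Nat.coprime_one_right 3)
      (by rw [one_mul, Cfsg.Agent.S1069.result hK]; ring) ?_ hpl (by norm_num) (by norm_num))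
    have h1 := CfsgLib.LieBound.cop_sub (f := 2 * m + 1) hp (by omega) (le_refl 1)
    rw [pow_one] at h1
    exact (CfsgLib.LieBound.cop_add hp (by omega) (by norm_num)).mul_right h1

end Cfsg.Agent.S2363
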