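import Cfsg.Statements.S2097
import Cfsg.Agent.Lib.PlusCover.Multiplier

set_option autoImplicit false
open Cfsg

namespace Cfsg.Agent.S2097

/-- Schur multipliers of the even-dimensional orthogonal groups of plus type and even rank: for even l ≥ 4 and a field F with q elements, (l, q) ≠ (4, 2), the Schur multiplier of PΩ⁺_2l(F) (for the form Σ xᵢyᵢ) is the product of two cyclic groups of order gcd(2, q^l − 1) (so trivial for q even and a four-group for q odd; here the Schur multiplier is described through stem extensions, as in the definitions). -/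
theorem result {F : Type*} [Field F] [Fintype F] {q : ℕ} (hF : Fintype.card F = q) (l : ℕ) (hl : 4 ≤ l) (heven : Even l) (hexc : ¬ (l = 4 ∧ q = 2)) : Cfsg.HasSchurMultiplier (Cfsg.POmega F (Cfsg.quadFormPlus l F)) (Multiplicative (ZMod (Nat.gcd 2 (q ^ l - 1)) × ZMod (Nat.gcd 2 (q ^ l - 1)))) := by
  obtain ⟨k, rfl⟩ : ∃ k, l = k + 4 := ⟨l - 4, by omega⟩
  have hA : CfsgLib.StSL.Admissible (k + 4) (Fintype.card F) :=
    ⟨by omega, fun h => absurd h (by omega), fun h h2 => hexc ⟨h, hF ▸ h2⟩⟩
  have h := CfsgLib.PlusCover.gcd_two_pow (q := q) (n := k + 4) (hF ▸ Fintype.card_pos) (by omega)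
  exact CfsgLib.PlusCover.multiplier hA ((CfsgLib.PlusCover.pkEven heven).trans
    (((CfsgLib.PlusCover.kerEquiv 2 _ (by subst hF; exact h)).prodCongr
      (CfsgLib.PlusCover.kerEquiv 2 _ (by subst hF; exact h))).trans (MulEquiv.prodMultiplicative _ _).symm))

end Cfsg.Agent.S2097
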