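import Cfsg.Statements.S2099
import Cfsg.Agent.Lib.OrthCover.MinusTwo
import Cfsg.Agent.Lib.OrthCover.MinusOdd

set_option autoImplicit false
open Cfsg

namespace Cfsg.Agent.S2099

/-- Schur multipliers of the even-dimensional orthogonal groups of minus type: for l ≥ 4 and a field F with q elements, the Schur multiplier of PΩ⁻_2l(F) (for the form Σ_{i<l−1} xᵢyᵢ + z₁² + a z₁z₂ + b z₂² with the binary part anisotropic) is cyclic of order gcd(4, q^l + 1); here the Schur multiplier is described through stem extensions, as in the definitions. -/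
theorem result {F : Type*} [Field F] [Fintype F] {q : ℕ} (hF : Fintype.card F = q) (l : ℕ) (hl : 4 ≤ l) (a b : F) (hab : ∀ z₁ z₂ : F, z₁ ^ 2 + a * z₁ * z₂ + b * z₂ ^ 2 = 0 → z₁ = 0 ∧ z₂ = 0) : Cfsg.HasCyclicSchurMultiplier (Cfsg.POmega F (Cfsg.quadFormMinus (l - 1) F a b)) (Nat.gcd 4 (q ^ l + 1)) := by
  subst hF
  obtain ⟨k, rfl⟩ : ∃ k, l = k + 4 := ⟨l - 4, by omega⟩
  show Cfsg.HasCyclicSchurMultiplier (Cfsg.POmega F (Cfsg.quadFormMinus (k + 3) F a b))
    (Nat.gcd 4 (Fintype.card F ^ (k + 4) + 1))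
  by_cases h2 : (2 : F) = 0
  · have heven : Fintype.card F % 2 = 0 := FiniteField.even_card_of_char_two (ringChar.eq_iff.mpr (by
      haveI := (CharP.exists F).choose_spec
      exact CharTwo.of_one_ne_zero_of_two_eq_zero one_ne_zero h2))
    have hgcd : Nat.gcd 4 (Fintype.card F ^ (k + 4) + 1) = 1 := by
      have hodd : Odd (Fintype.card F ^ (k + 4) + 1) :=
        Even.add_one (Nat.even_pow.mpr ⟨Nat.even_iff.mpr heven, by omega⟩)
      exact (Nat.coprime_two_left.mpr hodd).pow_left 2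
    rw [hgcd]
    exact CfsgLib.OrthCover.minus_two_multiplier h2 hab (by omega)
  · exact CfsgLib.OrthCover.minus_odd_multiplier h2 hab

end Cfsg.Agent.S2099
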