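import Cfsg.Statements.S2103
import Cfsg.Agent.S1078
import Cfsg.Agent.Lib.Chev.CoverFinite
import Cfsg.Agent.Lib.Chev.CoverSplit
-- import your own Cfsg.Agent.* helpers here

set_option autoImplicit false
open Cfsg

namespace Cfsg.Agent.S2103

/-- Schur multipliers of the Chevalley groups of type F₄: over a finite field with more than 2 elements the Schur multiplier of F₄(q) is trivial (here the Schur multiplier is described through stem extensions, as in the definitions); q = 2 is exceptional. -/
theorem result {F : Type*} [Field F] [Fintype F] (hF : 3 ≤ Fintype.card F) : Cfsg.HasCyclicSchurMultiplier ↥(Cfsg.Lie.chevF4.group F) 1 := by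
  refine CfsgLib.Chev.hasCyclicMultiplier_one_of_center (by simp)
    (CfsgLib.Chev.split_big (by simp) hF) (fun _ => ?_) (Cfsg.Agent.S1078.result _ (by simp))
  classical
  obtain ⟨x, -, hx⟩ := Finset.exists_mem_notMem_of_card_lt_card (s := ({0, 1} : Finset F)) (t := Finset.univ)
    (lt_of_le_of_lt Finset.card_le_two (by rw [Finset.card_univ]; omega))
  simp only [Finset.mem_insert, Finset.mem_singleton, not_or] at hx
  exact ⟨x, hx⟩

end Cfsg.Agent.S2103
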