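import Cfsg.Statements.S2107
import Cfsg.Agent.S1078
import Cfsg.Agent.Lib.Chev.CoverFinite
import Cfsg.Agent.Lib.Chev.CoverSplitE
import Cfsg.Agent.Lib.Chev.CoverTwoE8
-- import your own Cfsg.Agent.* helpers here

set_option autoImplicit false
open Cfsg

namespace Cfsg.Agent.S2107

/-- Schur multipliers of the Chevalley groups of type E₈: over every finite field the Schur multiplier of E₈(q) is trivial (here the Schur multiplier is described through stem extensions, as in the definitions). -/
theorem result {F : Type*} [Field F] [Fintype F] : Cfsg.HasCyclicSchurMultiplier ↥(Cfsg.Lie.chevE8.group F) 1 := by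
  refine CfsgLib.Chev.hasCyclicMultiplier_one_of_center (by simp) ?_ (fun h => ?_) (Cfsg.Agent.S1078.result _ (by simp))
  · by_cases h3 : 3 ≤ Fintype.card F
    · exact CfsgLib.Chev.split_big (by simp) h3
    · exact CfsgLib.Chev.split_of_two CfsgLib.Chev.chevE8 (CfsgLib.Chev.chevE8.adj_of_check CfsgLib.Chev.adjE8)
        (by have := Fintype.one_lt_card (α := F); omega) CfsgLib.Chev.slE8 CfsgLib.Chev.commuteE8 CfsgLib.Chev.connectE8
  · exfalso
    rcases h with h | h <;> exact absurd (congrArg Cfsg.Lie.ChevalleyDatum.nroots h) (by decide +kernel)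

end Cfsg.Agent.S2107
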