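import Cfsg.Statements.S2110
import Cfsg.Agent.Lib.Chev.Twist.VanD4P
import Cfsg.Agent.Lib.StemEll.Stem
import Cfsg.Agent.Lib.StSL.Small
-- import your own Cfsg.Agent.* helpers here

set_option autoImplicit false
open Cfsg

namespace Cfsg.Agent.S2110

/-- Schur multipliers of the triality-twisted groups ³D₄: for every prime power q, with the group realised over the field with q³ elements, the Schur multiplier of ³D₄(q) is trivial (here the Schur multiplier is described through stem extensions, as in the definitions). -/
theorem result {K : Type*} [Field K] [Fintype K] {q : ℕ} (hq : IsPrimePow q) (hK : Fintype.card K = q ^ 3) : Cfsg.HasCyclicSchurMultiplier ↥(Cfsg.Lie.twistedD4 K q) 1 := by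
  haveI : Finite ↥(Cfsg.Lie.twistedD4 K q) := Subgroup.instFiniteSubtypeMem _
  haveI := Fact.mk (CharP.char_is_prime K (ringChar K))
  refine CfsgLib.StSL.trivial_multiplier_of_equiv (MulEquiv.refl _)
    fun Γ _ _ σ hσ => CfsgLib.StemEll.stem_trivial_of_van (fun ℓ hℓ => ?_) σ hσ
  by_cases h : (ringChar K).Coprime ℓ
  · exact CfsgLib.Chev.T3D4.van_coprime hq hK hℓ h
  · have e : ringChar K = ℓ :=
      (Nat.prime_dvd_prime_iff_eq (Fact.out : (ringChar K).Prime) hℓ).mp ((Fact.out : (ringChar K).Prime).coprime_iff_not_dvd.not_left.mp h)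
    subst e
    exact CfsgLib.Chev.T3D4.van_p hq hK _

end Cfsg.Agent.S2110
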