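import Cfsg.Statements.S2796
import Cfsg.Agent.Lib.S3Free.StrongClosure

set_option autoImplicit false
universe u
open Cfsg

namespace Cfsg.Agent.S2796

/-- Let G be a finite group in which the symmetric group of degree 4 is not involved, such that for every section K/R of G with C(O₂(K/R)) ≤ O₂(K/R) every non-abelian composition factor of K/R is a Suzuki group Sz(2^(2n+1)) or PSL₂ over a field with 3^(2n+1) elements. Let S be a Sylow 2-subgroup, J_e(S) the subgroup generated by its elementary abelian subgroups of largest order, and A the normal closure of Ω₁(Z(S)) in N_G(J_e(S)). Then A is an elementary abelian subgroup of S, strongly closed in S with respect to G, and A controls strong fusion in G. -/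
theorem result {G : Type u} [Group G] [Finite G] (hfree : ¬ Cfsg.Involves (Equiv.Perm (Fin 4)) G) (hsec : ∀ (K R : Subgroup G) [hR : (R.subgroupOf K).Normal], Subgroup.centralizer (Cfsg.pCore 2 (K ⧸ R.subgroupOf K) : Set (K ⧸ R.subgroupOf K)) ≤ Cfsg.pCore 2 (K ⧸ R.subgroupOf K) → Cfsg.IsCompositionKGroupWith Cfsg.IsSuzukiOrPSL2OddPowerThree (K ⧸ R.subgroupOf K)) (S : Sylow 2 G) (N : Subgroup G) (hN : N = Subgroup.normalizer (Cfsg.thompsonSubgroupOf 2 (S : Subgroup G) : Set G)) (A : Subgroup G) (hA : A = (Subgroup.normalClosure (((Cfsg.omegaOne 2 ((S : Subgroup G) ⊓ Subgroup.centralizer ((S : Subgroup G) : Set G))).subgroupOf N : Subgroup ↥N) : Set ↥N)).map N.subtype) : A ≤ S ∧ Cfsg.IsElementaryAbelian 2 A ∧ Cfsg.IsStronglyClosed A (S : Subgroup G) ∧ Cfsg.ControlsStrongFusion 2 A := by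
  haveI : Fact (Nat.Prime 2) := ⟨Nat.prime_two⟩
  set J := Cfsg.thompsonSubgroupOf 2 (S : Subgroup G) with hJ
  have hSN : (S : Subgroup G) ≤ N := by
    intro s hs
    rw [hN]
    refine CfsgLib.Local.mem_normalizer_of_map_conj_eq ?_
    rw [← CfsgLib.JComp.thompsonOf_map _ (MulAut.conj s).injective,
      CfsgLib.Local.map_conj_eq_of_mem_normalizer (Subgroup.le_normalizer hs)]
  let P : Sylow 2 N := S.subtype hSN
  have hP : (P : Subgroup N).map N.subtype = S := by
    rw [Sylow.coe_subtype, Subgroup.map_subgroupOf_eq_of_le hSN]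
  have hJP : (Cfsg.thompsonSubgroupOf 2 (P : Subgroup N)).map N.subtype = J := by
    rw [← CfsgLib.JComp.thompsonOf_map _ N.subtype_injective, hP]
  haveI : (Cfsg.thompsonSubgroupOf 2 (P : Subgroup N)).Normal := by
    have e : Cfsg.thompsonSubgroupOf 2 (P : Subgroup N) = J.subgroupOf N := by
      rw [← hJP, Subgroup.subgroupOf, Subgroup.comap_map_eq_self_of_injective N.subtype_injective]
    rw [e]
    subst hN
    exact Subgroup.normal_in_normalizer
  have hgen : (Cfsg.omegaOne 2 ((S : Subgroup G) ⊓ Subgroup.centralizer ((S : Subgroup G) : Set G))).subgroupOf N =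
      Cfsg.omegaCenterOf (P : Subgroup N) := by
    rw [show Cfsg.omegaOne 2 ((S : Subgroup G) ⊓ Subgroup.centralizer ((S : Subgroup G) : Set G)) =
      Cfsg.omegaCenterOf (S : Subgroup G) from rfl, ← hP, CfsgLib.JComp.omegaCenterOf_map _ N.subtype_injective,
      Subgroup.subgroupOf, Subgroup.comap_map_eq_self_of_injective N.subtype_injective]
  rw [hgen] at hA
  obtain ⟨hel, hle⟩ := CfsgLib.S3Free.EGrp.normalClosure_le_omegaCenter_jh
    (fun h => hfree (CfsgLib.ThompsonComplement.involves_of_subgroup h))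
    (fun K R _ hcon => CfsgLib.S3Free.EGrp.sec_subgroup hsec N K R hcon) P
  have hAY : A ≤ Cfsg.omegaCenterOf (CfsgLib.S3Free.EGrp.jh (S : Subgroup G)) := by
    rw [hA, ← hP, ← CfsgLib.S3Free.EGrp.jh_map _ N.subtype_injective,
      CfsgLib.JComp.omegaCenterOf_map _ N.subtype_injective]
    exact Subgroup.map_mono hle
  have hAS : A ≤ (S : Subgroup G) := hAY.trans (((Subgroup.closure_le _).2 fun x hx => hx.1.1).trans
    (CfsgLib.S3Free.EGrp.jh_le _))
  have hAel : Cfsg.IsElementaryAbelian 2 A := by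
    rw [hA]
    exact CfsgLib.PLocal.isElementary_map (p := 2) _ hel
  have hAN : Subgroup.normalizer (J : Set G) ≤ Subgroup.normalizer (A : Set G) := by
    rw [← hN, hA]
    intro n hn
    refine Subgroup.le_normalizer_map N.subtype ⟨⟨n, hn⟩, ?_, rfl⟩
    rw [SetLike.mem_coe, Subgroup.normalizer_eq_top]
    exact Subgroup.mem_top _
  have hch := fun B g hB hg => CfsgLib.S3Free.EGrp.chain_closure hfree hsec S A hAN hAY B g hB hg
  refine ⟨hAS, hAel, ⟨hAS, fun x hx g hgx => ?_⟩,
    ⟨S, hAS, fun B hB => CfsgLib.StrongFusion.controlsOf_of_chain S le_rfl hch hB⟩⟩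
  obtain ⟨-, hex⟩ := CfsgLib.StrongFusion.controlsOf_of_chain S le_rfl hch (A := ({x} : Set G))
    (Set.singleton_subset_iff.2 (hAS hx))
  obtain ⟨y, hy, he⟩ := hex g (by rw [Set.image_singleton, Set.singleton_subset_iff]; exact hgx)
  rw [he x rfl]
  exact (Subgroup.mem_normalizer_iff.1 hy x).1 hx

end Cfsg.Agent.S2796
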