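import Cfsg.Statements.S1251
import Cfsg.Agent.Lib.ZStar.Powers
-- import your own Cfsg.Agent.* helpers here

set_option autoImplicit false
open Cfsg

namespace Cfsg.Agent.S1251

/-- Let S be a Sylow 2-subgroup of the finite group G and A ≤ S strongly closed in S. If H is a subgroup normalized by A with no nontrivial normal subgroup of odd order and A ∩ H = 1, then A ≤ C_G(H). -/
theorem result {G : Type*} [Group G] [Finite G] (S : Sylow 2 G) (A : Subgroup G) (hA : Cfsg.IsStronglyClosed A (S : Subgroup G)) (H : Subgroup G) (hAH : A ≤ Subgroup.normalizer (H : Set G)) (hO : Cfsg.oddCore ↥H = ⊥) (hdisj : A ⊓ H = ⊥) : A ≤ Subgroup.centralizer (H : Set G) := by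
  haveI : Fact (Nat.Prime 2) := ⟨Nat.prime_two⟩
  set L := A ⊔ H with hL
  have hHn : (H.subgroupOf L).Normal :=
    (Subgroup.normal_subgroupOf_iff_le_normalizer le_sup_right).mpr (sup_le hAH Subgroup.le_normalizer)
  have hAp : IsPGroup 2 A := S.2.to_le hA.1
  obtain ⟨T, hT⟩ := (hAp.of_equiv (Subgroup.subgroupOfEquivOfLe (le_sup_left : A ≤ L)).symm).exists_le_sylow
  set T' := (T : Subgroup L).map L.subtype with hT'
  have hAT : A ≤ T' := fun a ha => ⟨⟨a, Subgroup.mem_sup_left ha⟩, hT (Subgroup.mem_subgroupOf.mpr ha), rfl⟩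
  obtain ⟨S', hS'⟩ := (T.2.map L.subtype).exists_le_sylow
  obtain ⟨x, hx⟩ := MulAction.exists_smul_eq G S S'
  have hmemS' : ∀ y, y ∈ (S' : Subgroup G) ↔ x⁻¹ * y * x ∈ (S : Subgroup G) := fun y => by
    rw [← hx, Sylow.coe_subgroup_smul]
    constructor
    · rintro ⟨s, hs, rfl⟩
      show x⁻¹ * (x * s * x⁻¹) * x ∈ _
      rwa [show x⁻¹ * (x * s * x⁻¹) * x = s by group]
    · intro h; exact ⟨_, h, by show x * (x⁻¹ * y * x) * x⁻¹ = y; group⟩
  -- conjugates of elements of `A` lying in `T'` stay in `A`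
  have hAx : A.map (MulAut.conj x⁻¹).toMonoidHom = A := by
    refine Subgroup.eq_of_le_of_card_ge ?_ (Subgroup.card_map_of_injective (MulAut.conj x⁻¹).injective).ge
    rintro _ ⟨a, ha, rfl⟩
    refine hA.2 a ha x⁻¹ ?_
    have := (hmemS' a).mp (hS' (hAT ha))
    simpa using this
  have hclosed : ∀ a ∈ A, ∀ g : G, g * a * g⁻¹ ∈ T' → g * a * g⁻¹ ∈ A := by
    intro a ha g hg
    have h2 := hA.2 a ha (x⁻¹ * g) (by
      have := (hmemS' _).mp (hS' hg)
      rwa [show x⁻¹ * g * a * (x⁻¹ * g)⁻¹ = x⁻¹ * (g * a * g⁻¹) * x by group])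
    rw [← hAx] at h2
    obtain ⟨b, hb, e⟩ := h2
    have e' : x⁻¹ * b * x⁻¹⁻¹ = x⁻¹ * g * a * (x⁻¹ * g)⁻¹ := e
    have : b = g * a * g⁻¹ := by
      calc b = x * (x⁻¹ * b * x⁻¹⁻¹) * x⁻¹ := by group
        _ = x * (x⁻¹ * g * a * (x⁻¹ * g)⁻¹) * x⁻¹ := by rw [e']
        _ = _ := by group
    exact this ▸ hb
  set R := T' ⊓ H with hR
  have hcomm : ∀ a ∈ A, ∀ r ∈ R, r * a * r⁻¹ = a := by
    intro a ha r hr
    have h1 := hclosed a ha r (Subgroup.mul_mem _ (Subgroup.mul_mem _ hr.1 (hAT ha)) (Subgroup.inv_mem _ hr.1))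
    have h2 : r * a * r⁻¹ * a⁻¹ ∈ A ⊓ H := Subgroup.mem_inf.mpr ⟨A.mul_mem h1 (A.inv_mem ha), by
      rw [show r * a * r⁻¹ * a⁻¹ = r * (a * r⁻¹ * a⁻¹) by group]
      exact H.mul_mem hr.2 ((Subgroup.mem_normalizer_iff.mp (hAH ha) _).mp (H.inv_mem hr.2))⟩
    rw [hdisj, Subgroup.mem_bot, mul_inv_eq_one] at h2
    exact h2
  intro a ha
  set M := Subgroup.zpowers a ⊔ H with hM
  have haH : Subgroup.zpowers a ≤ Subgroup.normalizer (H : Set G) := Subgroup.zpowers_le.mpr (hAH ha)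
  haveI hHnM : (H.subgroupOf M).Normal :=
    (Subgroup.normal_subgroupOf_iff_le_normalizer le_sup_right).mpr (sup_le haH Subgroup.le_normalizer)
  have hML : M ≤ L := sup_le ((Subgroup.zpowers_le.mpr ha).trans le_sup_left) le_sup_right
  have hWp : IsPGroup 2 ↥((T' ⊓ M).subgroupOf M) :=
    ((T.2.map L.subtype).to_le inf_le_left).of_equiv (Subgroup.subgroupOfEquivOfLe inf_le_right).symm
  obtain ⟨U, hU⟩ := hWp.exists_le_sylow
  have haU : (⟨a, Subgroup.mem_sup_left (Subgroup.mem_zpowers a)⟩ : M) ∈ (U : Subgroup M) :=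
    hU (Subgroup.mem_subgroupOf.mpr ⟨hAT ha, Subgroup.mem_sup_left (Subgroup.mem_zpowers a)⟩)
  -- the Sylow subgroup lies in `T'`
  have hUH : ∀ u : M, u ∈ (U : Subgroup M) → (u : G) ∈ H → (u : G) ∈ T' := by
    intro u hu huH
    set V := (U : Subgroup M).map M.subtype ⊓ H with hV
    have hVp : IsPGroup 2 ↥(V.subgroupOf L) :=
      ((U.2.map M.subtype).to_le inf_le_left).of_equiv
        (Subgroup.subgroupOfEquivOfLe (inf_le_right.trans le_sup_right : V ≤ L)).symm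
    obtain ⟨W, hW⟩ := hVp.exists_le_sylow
    obtain ⟨c, hc⟩ := MulAction.exists_smul_eq ↥L W T
    have hRV : R ≤ V := fun r hr => Subgroup.mem_inf.mpr ⟨⟨⟨r, Subgroup.mem_sup_right hr.2⟩,
      hU (Subgroup.mem_subgroupOf.mpr ⟨hr.1, Subgroup.mem_sup_right hr.2⟩), rfl⟩, hr.2⟩
    have hVR : V.map (MulAut.conj (c : G)).toMonoidHom ≤ R := by
      rintro _ ⟨v, hv, rfl⟩
      have hvL : v ∈ L := Subgroup.mem_sup_right hv.2
      refine Subgroup.mem_inf.mpr ⟨⟨c * ⟨v, hvL⟩ * c⁻¹, ?_, rfl⟩, ?_⟩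
      · rw [SetLike.mem_coe, ← hc, Sylow.coe_subgroup_smul]
        exact ⟨⟨v, hvL⟩, hW (Subgroup.mem_subgroupOf.mpr hv), rfl⟩
      · exact Subgroup.mem_subgroupOf.mp (hHn.conj_mem ⟨v, hvL⟩ (Subgroup.mem_subgroupOf.mpr hv.2) c)
    have hVR' : V = R := (Subgroup.eq_of_le_of_card_ge hRV
      (le_of_eq_of_le (Subgroup.card_map_of_injective (MulAut.conj (c : G)).injective).symm
        (Subgroup.card_le_of_le hVR))).symm
    have : (u : G) ∈ V := Subgroup.mem_inf.mpr ⟨⟨u, hu, rfl⟩, huH⟩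
    rw [hVR'] at this
    exact this.1
  haveI : (H.subgroupOf M).Normal := hHnM
  have haM : a ∈ M := Subgroup.mem_sup_left (Subgroup.mem_zpowers a)
  have htop : Subgroup.zpowers (⟨a, haM⟩ : M) ⊔ H.subgroupOf M = ⊤ := by
    apply Subgroup.map_injective M.subtype_injective
    rw [Subgroup.map_sup, MonoidHom.map_zpowers, Subgroup.map_subgroupOf_eq_of_le (le_sup_right : H ≤ M),
      ← MonoidHom.range_eq_map, Subgroup.range_subtype]
    rfl
  have hdec : ∀ u : M, ∃ j : ℤ, ∃ v ∈ H.subgroupOf M, u = (⟨a, haM⟩ : M) ^ j * v := fun u => by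
    obtain ⟨y, hy, v, hv, e⟩ := Subgroup.mem_sup_of_normal_right.mp (htop.ge (Subgroup.mem_top u))
    obtain ⟨j, rfl⟩ := Subgroup.mem_zpowers_iff.mp hy
    exact ⟨j, v, hv, e.symm⟩
  have hUT : ∀ u : M, u ∈ (U : Subgroup M) → (u : G) ∈ T' := by
    intro u hu
    obtain ⟨j, v, hv, rfl⟩ := hdec u
    have hvU : v ∈ (U : Subgroup M) := ((U : Subgroup M).mul_mem_cancel_left ((U : Subgroup M).zpow_mem haU j)).mp hu
    push_cast
    exact T'.mul_mem (T'.zpow_mem (hAT ha) j) (hUH v hvU (Subgroup.mem_subgroupOf.mp hv))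
  have hz := CfsgLib.ZStar.inZStar_of_powers _ ↥M rfl U ⟨a, haM⟩ haU (by
    intro i g hg
    apply Subtype.ext
    have hgT := hUT _ hg
    push_cast at hgT ⊢
    have h1 := hclosed (a ^ i) (A.pow_mem ha i) g hgT
    obtain ⟨j, v, hv, rfl⟩ := hdec g
    push_cast at h1 ⊢
    have hv' : (v : G) ∈ H := Subgroup.mem_subgroupOf.mp hv
    have h2 : a ^ j * v * a ^ i * (a ^ j * v)⁻¹ * (a ^ i)⁻¹ ∈ A ⊓ H := by
      refine Subgroup.mem_inf.mpr ⟨A.mul_mem h1 (A.inv_mem (A.pow_mem ha i)), ?_⟩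
      have e : a ^ j * (a ^ i) = a ^ i * a ^ j := ((Commute.refl a).pow_right i).zpow_left j |>.eq
      rw [show a ^ j * (v : G) * a ^ i * (a ^ j * (v : G))⁻¹ * (a ^ i)⁻¹ =
        a ^ j * ((v : G) * (a ^ i * (v : G)⁻¹ * (a ^ i)⁻¹)) * (a ^ i * (a ^ j)⁻¹ * (a ^ i)⁻¹) by group]
      rw [show a ^ i * (a ^ j)⁻¹ * (a ^ i)⁻¹ = (a ^ j)⁻¹ by
        rw [← (show Commute (a ^ j) (a ^ i) from e).inv_left.eq, mul_inv_cancel_right]]
      refine (Subgroup.mem_normalizer_iff.mp (hAH (A.zpow_mem ha j)) _).mp (H.mul_mem hv' ?_)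
      exact (Subgroup.mem_normalizer_iff.mp (hAH (A.pow_mem ha i)) _).mp (H.inv_mem hv')
    rw [hdisj, Subgroup.mem_bot, mul_inv_eq_one] at h2
    exact h2)
  intro h hh
  have hhM : h ∈ M := Subgroup.mem_sup_right hh
  have h1 := hz ⟨h, hhM⟩
  haveI : (Cfsg.pPrimeCore 2 ↥M).Normal := Subgroup.sSup_normal _ (fun _ h => h.1)
  have hO2 : ((Cfsg.pPrimeCore 2 ↥M).map M.subtype ⊓ H).subgroupOf H ≤ Cfsg.oddCore ↥H := by
    refine le_sSup ⟨(Subgroup.normal_subgroupOf_iff_le_normalizer inf_le_right).mpr fun k hk => ?_, ?_⟩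
    · refine Subgroup.mem_normalizer_iff.mpr fun y => ?_
      have key : ∀ k ∈ H, ∀ y, y ∈ (Cfsg.pPrimeCore 2 ↥M).map M.subtype ⊓ H →
          k * y * k⁻¹ ∈ (Cfsg.pPrimeCore 2 ↥M).map M.subtype ⊓ H := by
        rintro k hk y ⟨⟨w, hw, rfl⟩, hy⟩
        exact Subgroup.mem_inf.mpr ⟨⟨⟨k, Subgroup.mem_sup_right hk⟩ * w * ⟨k, Subgroup.mem_sup_right hk⟩⁻¹,
          (inferInstance : (Cfsg.pPrimeCore 2 ↥M).Normal).conj_mem w hw _, rfl⟩,
          H.mul_mem (H.mul_mem hk hy) (H.inv_mem hk)⟩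
      refine ⟨key k hk y, fun hy => ?_⟩
      have := key _ (H.inv_mem hk) _ hy
      simpa [mul_assoc] using this
    · rw [Nat.card_congr (Subgroup.subgroupOfEquivOfLe inf_le_right).toEquiv]
      refine (CfsgLib.card_pPrimeCore_coprime (G := ↥M) 2).coprime_dvd_left ?_
      rw [← Subgroup.card_map_of_injective (f := M.subtype) M.subtype_injective]
      exact Subgroup.card_dvd_of_le inf_le_left
  have h2 : h * a * h⁻¹ * a⁻¹ ∈ H := by
    rw [show h * a * h⁻¹ * a⁻¹ = h * (a * h⁻¹ * a⁻¹) by group]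
    exact H.mul_mem hh ((Subgroup.mem_normalizer_iff.mp (hAH ha) _).mp (H.inv_mem hh))
  have h3 := hO2 (show (⟨_, h2⟩ : H) ∈ _ from Subgroup.mem_inf.mpr ⟨⟨_, h1, rfl⟩, h2⟩)
  rw [hO, Subgroup.mem_bot] at h3
  have h4 : h * a * h⁻¹ * a⁻¹ = 1 := congrArg Subtype.val h3
  rw [mul_inv_eq_one, mul_inv_eq_iff_eq_mul] at h4
  exact h4

end Cfsg.Agent.S1251
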