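import Cfsg.Statements.S0213
import Cfsg.Agent.Lib.Involutions
import Mathlib.Tactic.Linarith
import Mathlib.Tactic.Ring
import Mathlib.GroupTheory.Index
import Mathlib.GroupTheory.GroupAction.Quotient
-- import your own Cfsg.Agent.* helpers here

set_option autoImplicit false
open Cfsg

namespace Cfsg.Agent.S0213

/-- Thompson Order Formula, two-class case: if every involution of the finite group G is conjugate to exactly one of the non-conjugate involutions x₁, x₂, and nᵢ is the number of pairs (u, v) with u conjugate to x₁, v conjugate to x₂ and xᵢ in the cyclic group generated by uv, then |G| = |C(x₂)| n₁ + |C(x₁)| n₂. -/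
theorem result {G : Type*} [Group G] [Finite G] (x₁ x₂ : G) (h₁ : orderOf x₁ = 2) (h₂ : orderOf x₂ = 2) (hnc : ¬ IsConj x₁ x₂) (hall : ∀ t : G, orderOf t = 2 → IsConj x₁ t ∨ IsConj x₂ t) : Nat.card G = Nat.card (Subgroup.centralizer ({x₂} : Set G)) * Nat.card {p : G × G // IsConj x₁ p.1 ∧ IsConj x₂ p.2 ∧ x₁ ∈ Subgroup.zpowers (p.1 * p.2)} + Nat.card (Subgroup.centralizer ({x₁} : Set G)) * Nat.card {p : G × G // IsConj x₁ p.1 ∧ IsConj x₂ p.2 ∧ x₂ ∈ Subgroup.zpowers (p.1 * p.2)} := by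
  classical
  let h : G × G → G := fun p => (p.1 * p.2) ^ (orderOf (p.1 * p.2) / 2)
  let T := {p : G × G // IsConj x₁ p.1 ∧ IsConj x₂ p.2}
  have ord : ∀ x y : G, IsConj x y → orderOf x = 2 → orderOf y = 2 := fun x y hxy hx => by
    obtain ⟨g, rfl⟩ := isConj_iff.mp hxy
    rw [CfsgLib.Involutions.orderOf_conj, hx]
  have heven : ∀ p : G × G, IsConj x₁ p.1 → IsConj x₂ p.2 → Even (orderOf (p.1 * p.2)) := by
    intro p a b
    by_contra ho
    obtain ⟨d, -, hd⟩ := CfsgLib.Involutions.exists_conj_eq_of_odd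
      (CfsgLib.Involutions.mul_self_eq_one_of_orderOf (ord _ _ a h₁))
      (CfsgLib.Involutions.mul_self_eq_one_of_orderOf (ord _ _ b h₂)) (Nat.not_even_iff_odd.mp ho)
    exact hnc ((a.trans (isConj_iff.mpr ⟨d, hd⟩)).trans b.symm)
  have hhalf : ∀ p : G × G, IsConj x₁ p.1 → IsConj x₂ p.2 → orderOf (h p) = 2 := fun p a b =>
    CfsgLib.Involutions.orderOf_half (heven p a b)
  have huniq : ∀ p : G × G, IsConj x₁ p.1 → IsConj x₂ p.2 → ∀ x : G, orderOf x = 2 →
      (x ∈ Subgroup.zpowers (p.1 * p.2) ↔ h p = x) := by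
    intro p a b x hx
    refine ⟨fun hm => ?_, fun e => e ▸ Subgroup.pow_mem _ (Subgroup.mem_zpowers _) _⟩
    obtain ⟨k, hk⟩ := Subgroup.mem_zpowers_iff.mp hm
    obtain ⟨m, hm'⟩ := heven p a b
    have hdiv : (orderOf (p.1 * p.2) : ℤ) ∣ 2 * k := by
      rw [orderOf_dvd_iff_zpow_eq_one, mul_comm, zpow_mul, hk, zpow_two,
        CfsgLib.Involutions.mul_self_eq_one_of_orderOf hx]
    obtain ⟨j, hj⟩ := hdiv
    have hkj : k = (m : ℤ) * j := by
      rw [hm'] at hj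
      push_cast at hj
      linarith
    show (p.1 * p.2) ^ (orderOf (p.1 * p.2) / 2) = x
    have hm2 : orderOf (p.1 * p.2) / 2 = m := by omega
    have h2 : orderOf ((p.1 * p.2) ^ m) = 2 := by rw [← hm2]; exact hhalf p a b
    rw [hm2, ← hk, hkj, zpow_mul, zpow_natCast]
    obtain ⟨i, hi | hi⟩ := Int.even_or_odd' j
    · exfalso
      have : x = 1 := by
        rw [← hk, hkj, zpow_mul, zpow_natCast, hi, zpow_mul, zpow_two,
          CfsgLib.Involutions.mul_self_eq_one_of_orderOf h2, one_zpow]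
      rw [this, orderOf_one] at hx
      omega
    · rw [hi, zpow_add, zpow_mul, zpow_two, CfsgLib.Involutions.mul_self_eq_one_of_orderOf h2, one_zpow, zpow_one,
        one_mul]
  have key : ∀ x : G, orderOf x = 2 → Nat.card {p : T // IsConj x (h p.1)} =
      Nat.card {w : G // IsConj x w} *
        Nat.card {p : G × G // IsConj x₁ p.1 ∧ IsConj x₂ p.2 ∧ x ∈ Subgroup.zpowers (p.1 * p.2)} := by
    intro x hx
    rw [← Nat.card_prod]
    have hg : ∀ w : {w : G // IsConj x w}, ∃ g : G, g * x * g⁻¹ = w := fun w => isConj_iff.mp w.2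
    choose g hg using hg
    have hmul : ∀ (c : G) (p : G × G), h (c * p.1 * c⁻¹, c * p.2 * c⁻¹) = c * h p * c⁻¹ := by
      intro c p
      show (c * p.1 * c⁻¹ * (c * p.2 * c⁻¹)) ^ _ = _
      rw [show c * p.1 * c⁻¹ * (c * p.2 * c⁻¹) = c * (p.1 * p.2) * c⁻¹ by group, CfsgLib.Involutions.orderOf_conj,
        conj_pow]
    let F : {w : G // IsConj x w} × {p : G × G // IsConj x₁ p.1 ∧ IsConj x₂ p.2 ∧ x ∈ Subgroup.zpowers (p.1 * p.2)} →
        {p : T // IsConj x (h p.1)} := fun q =>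
      ⟨⟨(g q.1 * q.2.1.1 * (g q.1)⁻¹, g q.1 * q.2.1.2 * (g q.1)⁻¹),
        q.2.2.1.trans (isConj_iff.mpr ⟨_, rfl⟩), q.2.2.2.1.trans (isConj_iff.mpr ⟨_, rfl⟩)⟩, by
        show IsConj x (h _)
        rw [hmul, (huniq _ q.2.2.1 q.2.2.2.1 x hx).mp q.2.2.2.2]
        exact isConj_iff.mpr ⟨_, rfl⟩⟩
    refine (Nat.card_eq_of_bijective F ⟨?_, ?_⟩).symm
    · rintro ⟨w, p, hp⟩ ⟨w', p', hp'⟩ e
      have e1 : (g w * p.1 * (g w)⁻¹, g w * p.2 * (g w)⁻¹) = (g w' * p'.1 * (g w')⁻¹, g w' * p'.2 * (g w')⁻¹) :=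
        congrArg (fun z => z.1.1) e
      have e2 := congrArg h e1
      rw [hmul, hmul, (huniq p hp.1 hp.2.1 x hx).mp hp.2.2, (huniq p' hp'.1 hp'.2.1 x hx).mp hp'.2.2, hg, hg] at e2
      have e3 : w = w' := Subtype.ext e2
      subst e3
      simp only [Prod.mk.injEq, mul_left_inj, mul_right_inj] at e1
      exact Prod.ext rfl (Subtype.ext (Prod.ext e1.1 e1.2))
    · rintro ⟨⟨p, hp1, hp2⟩, hw⟩
      set w : {w : G // IsConj x w} := ⟨h p, hw⟩ with hwdef
      have hc : ∀ y z : G, IsConj y z → IsConj y ((g w)⁻¹ * z * g w) := fun y z hyz =>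
        hyz.trans (isConj_iff.mpr ⟨(g w)⁻¹, by rw [inv_inv]⟩)
      have e0 : g w * x * (g w)⁻¹ = h p := hg w
      have hx' : x ∈ Subgroup.zpowers ((g w)⁻¹ * p.1 * g w * ((g w)⁻¹ * p.2 * g w)) := by
        refine (huniq ((g w)⁻¹ * p.1 * g w, (g w)⁻¹ * p.2 * g w) (hc _ _ hp1) (hc _ _ hp2) x hx).mpr ?_
        have := hmul (g w)⁻¹ p
        rw [inv_inv] at this
        rw [this, ← e0]
        group
      refine ⟨(w, ⟨((g w)⁻¹ * p.1 * g w, (g w)⁻¹ * p.2 * g w), hc _ _ hp1, hc _ _ hp2, hx'⟩), ?_⟩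
      exact Subtype.ext (Subtype.ext (Prod.ext (show g w * ((g w)⁻¹ * p.1 * g w) * (g w)⁻¹ = p.1 by group)
        (show g w * ((g w)⁻¹ * p.2 * g w) * (g w)⁻¹ = p.2 by group)))
  have hT : Nat.card T = Nat.card {p : T // IsConj x₁ (h p.1)} + Nat.card {p : T // IsConj x₂ (h p.1)} := by
    rw [← Nat.card_sum]
    refine (Nat.card_congr (Equiv.sumCompl (fun p : T => IsConj x₁ (h p.1)))).symm.trans (Nat.card_congr ?_)
    refine Equiv.sumCongr (Equiv.refl _) (Equiv.subtypeEquivRight fun p => ⟨fun hn => ?_, fun h2 h1' => hnc (h1'.trans h2.symm)⟩)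
    exact (hall _ (hhalf _ p.2.1 p.2.2)).resolve_left hn
  have hclass : ∀ x : G, Nat.card G = Nat.card (Subgroup.centralizer ({x} : Set G)) * Nat.card {w : G // IsConj x w} := by
    intro x
    rw [← Subgroup.card_mul_index (Subgroup.centralizer ({x} : Set G)), Subgroup.index_eq_card]
    congr 1
    refine Nat.card_eq_of_bijective (fun q => ⟨q.out * x * q.out⁻¹, isConj_iff.mpr ⟨_, rfl⟩⟩) ⟨?_, ?_⟩
    · intro a b e
      have e' : a.out * x * a.out⁻¹ = b.out * x * b.out⁻¹ := congrArg Subtype.val e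
      rw [← QuotientGroup.out_eq' a, ← QuotientGroup.out_eq' b, QuotientGroup.eq, Subgroup.mem_centralizer_singleton_iff]
      calc a.out⁻¹ * b.out * x = a.out⁻¹ * (b.out * x * b.out⁻¹) * b.out := by group
        _ = a.out⁻¹ * (a.out * x * a.out⁻¹) * b.out := by rw [e']
        _ = _ := by group
    · rintro ⟨w, hw⟩
      obtain ⟨c, rfl⟩ := isConj_iff.mp hw
      refine ⟨(c : G ⧸ Subgroup.centralizer ({x} : Set G)), Subtype.ext ?_⟩
      obtain ⟨u, hu⟩ := QuotientGroup.mk_out_eq_mul (Subgroup.centralizer ({x} : Set G)) c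
      show (c : G ⧸ Subgroup.centralizer ({x} : Set G)).out * x * _ = _
      rw [hu, show c * (u : G) * x * (c * (u : G))⁻¹ = c * ((u : G) * x * (u : G)⁻¹) * c⁻¹ by group,
        Subgroup.mem_centralizer_singleton_iff.mp u.2, mul_inv_cancel_right]
  have hprod : Nat.card T = Nat.card {w : G // IsConj x₁ w} * Nat.card {w : G // IsConj x₂ w} := by
    rw [← Nat.card_prod]
    exact Nat.card_congr ⟨fun p => (⟨p.1.1, p.2.1⟩, ⟨p.1.2, p.2.2⟩), fun q => ⟨(q.1, q.2), q.1.2, q.2.2⟩,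
      fun p => rfl, fun q => rfl⟩
  rw [hT, key x₁ h₁, key x₂ h₂] at hprod
  have e1 := hclass x₁
  have e2 := hclass x₂
  set k₁ := Nat.card {w : G // IsConj x₁ w}
  set k₂ := Nat.card {w : G // IsConj x₂ w}
  set c₁ := Nat.card (Subgroup.centralizer ({x₁} : Set G))
  set c₂ := Nat.card (Subgroup.centralizer ({x₂} : Set G))
  set n₁ := Nat.card {p : G × G // IsConj x₁ p.1 ∧ IsConj x₂ p.2 ∧ x₁ ∈ Subgroup.zpowers (p.1 * p.2)}
  set n₂ := Nat.card {p : G × G // IsConj x₁ p.1 ∧ IsConj x₂ p.2 ∧ x₂ ∈ Subgroup.zpowers (p.1 * p.2)}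
  refine Nat.eq_of_mul_eq_mul_left (Nat.card_pos (α := G)) ?_
  calc Nat.card G * Nat.card G = c₁ * k₁ * (c₂ * k₂) := by nth_rw 1 [e1]; rw [e2]
    _ = c₁ * c₂ * (k₁ * k₂) := by ring
    _ = c₁ * c₂ * (k₁ * n₁ + k₂ * n₂) := by rw [hprod]
    _ = c₁ * k₁ * (c₂ * n₁) + c₂ * k₂ * (c₁ * n₂) := by ring
    _ = Nat.card G * (c₂ * n₁) + Nat.card G * (c₁ * n₂) := by rw [← e1, ← e2]
    _ = _ := by ring

end Cfsg.Agent.S0213
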