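import Cfsg.Statements.S0782
import Mathlib
import Cfsg.Agent.Lib.IsotropicHerm

set_option autoImplicit false
open Cfsg

namespace Cfsg.Agent.S0782

theorem A0_sub_one {F : Type*} [Field F] [Fintype F] {q : ℕ} (hF : Fintype.card F = q ^ 2) (r : ℕ) :
    CfsgLib.HermCount.A0 F q (r + 2) - 1 =
      (if Even r then q ^ (r + 1) + 1 else q ^ (r + 1) - 1) *
        (if Even (r + 1) then q ^ (r + 2) + 1 else q ^ (r + 2) - 1) := by
  have hq := (CfsgLib.UnitaryBasic.frob_exists hF).1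
  have h := CfsgLib.HermCount.q_mul_A0 hF (r + 2)
  have hA : 1 ≤ CfsgLib.HermCount.A0 F q (r + 2) :=
    Nat.one_le_iff_ne_zero.mpr (Nat.card_ne_zero.mpr
      ⟨⟨⟨0, by simp [Cfsg.hermForm]⟩⟩, inferInstance⟩)
  have hq0 : (q : ℤ) ≠ 0 := by exact_mod_cast (by omega : q ≠ 0)
  have h1 : 1 ≤ q ^ (r + 1) := Nat.one_le_pow _ _ (by omega)
  have h2 : 1 ≤ q ^ (r + 2) := Nat.one_le_pow _ _ (by omega)
  rcases Nat.even_or_odd r with he | ho
  · rw [if_pos he, if_neg (by rw [Nat.not_even_iff_odd]; exact he.add_one)]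
    zify [hA, h2]
    refine mul_left_cancel₀ hq0 ?_
    rw [mul_sub, h, Even.neg_pow (he.add even_two)]
    ring
  · rw [if_neg (Nat.not_even_iff_odd.mpr ho), if_pos ho.add_one]
    zify [hA, h1]
    refine mul_left_cancel₀ hq0 ?_
    rw [mul_sub, h, Odd.neg_pow (ho.add_even even_two)]
    ring

theorem prod_eq {F : Type*} [Field F] [Fintype F] {q : ℕ} (hF : Fintype.card F = q ^ 2) (l : ℕ) :
    ∀ k : ℕ, (∏ i ∈ Finset.range k, q ^ (2 * i) * (CfsgLib.HermCount.A0 F q (l + 2 * k - 2 * i) - 1)) *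
      ∏ i ∈ Finset.range l, (if Even i then q ^ (i + 1) + 1 else q ^ (i + 1) - 1) =
      q ^ (k * (k - 1)) * ∏ i ∈ Finset.range (l + 2 * k), (if Even i then q ^ (i + 1) + 1 else q ^ (i + 1) - 1) := by
  intro k
  induction k with
  | zero => simp
  | succ k ih =>
    rw [Finset.prod_range_succ', show l + 2 * (k + 1) = l + 2 * k + 1 + 1 by ring,
      Finset.prod_range_succ, Finset.prod_range_succ,
      Finset.prod_congr rfl (g := fun i => q ^ 2 * (q ^ (2 * i) * (CfsgLib.HermCount.A0 F q (l + 2 * k - 2 * i) - 1)))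
        (fun i _ => by rw [show l + 2 * k + 1 + 1 - 2 * (i + 1) = l + 2 * k - 2 * i by omega,
          show 2 * (i + 1) = 2 + 2 * i by ring, pow_add, mul_assoc]),
      Finset.prod_mul_distrib, Finset.prod_const, Finset.card_range, Nat.mul_zero, pow_zero, one_mul,
      Nat.sub_zero, A0_sub_one hF (l + 2 * k)]
    rw [show (k + 1) * (k + 1 - 1) = 2 * k + k * (k - 1) by cases k <;> simp; ring, pow_add q (2 * k), pow_mul q 2 k]
    linear_combination ((q ^ 2) ^ k * ((if Even (l + 2 * k) then q ^ (l + 2 * k + 1) + 1 else q ^ (l + 2 * k + 1) - 1) *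
        (if Even (l + 2 * k + 1) then q ^ (l + 2 * k + 2) + 1 else q ^ (l + 2 * k + 2) - 1))) * ih

open Matrix in
set_option maxHeartbeats 1200000 in
theorem det_surj {F : Type*} [Field F] [Fintype F] {q n k : ℕ} (hF : Fintype.card F = q ^ 2)
    (hn : 1 ≤ n) (W : Submodule F (Fin n → F)) (hWk : Module.finrank F W = k)
    (hW : ∀ u ∈ W, ∀ v ∈ W, Cfsg.hermForm n F q u v = 0) (u : Fˣ) (hu : u ^ (q + 1) = 1) :
    ∃ g ∈ Cfsg.stabilizing ((Units.coeHom (Matrix (Fin n) (Fin n) F)).comp (Cfsg.GU n F q).subtype)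
        (W : Set (Fin n → F)), Matrix.GeneralLinearGroup.det g.1 = u := by
  classical
  obtain ⟨hq, -⟩ := CfsgLib.UnitaryBasic.frob_exists hF
  rcases Nat.eq_zero_or_pos k with rfl | hk
  · refine ⟨⟨CfsgLib.UnitaryBasic.dgl (Function.update (1 : Fin n → Fˣ) ⟨0, hn⟩ u),
      CfsgLib.UnitaryBasic.dgl_mem _ fun i => ?_⟩, fun x => ?_, Units.ext ?_⟩
    · rcases eq_or_ne i ⟨0, hn⟩ with rfl | hi
      · rw [Function.update_self]; exact hu
      · rw [Function.update_of_ne hi, Pi.one_apply, one_pow]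
    · rw [SetLike.mem_coe, SetLike.mem_coe, Submodule.finrank_eq_zero.mp hWk, Submodule.mem_bot,
        Submodule.mem_bot]
      set g := CfsgLib.UnitaryBasic.dgl (Function.update (1 : Fin n → Fˣ) ⟨0, hn⟩ u)
      show x = 0 ↔ g.1 *ᵥ x = 0
      refine ⟨fun h => by rw [h, mulVec_zero], fun h => ?_⟩
      have := congrArg (fun w => g⁻¹.1 *ᵥ w) h
      simpa [mulVec_mulVec] using this
    · show (diagonal fun i => ((Function.update (1 : Fin n → Fˣ) ⟨0, hn⟩ u i : Fˣ) : F)).det = u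
      rw [det_diagonal, ← Units.coe_prod, Finset.prod_update_of_mem (Finset.mem_univ _)]
      simp
  obtain ⟨σ, B, hσid, hσ2, hσ, hS, hnd, hB⟩ := CfsgLib.IsotropicCount.herm_sesq hF n
  have hne : W ≠ ⊥ := fun e => by rw [e, finrank_bot] at hWk; omega
  obtain ⟨v, hvW, hv0⟩ := (Submodule.ne_bot_iff W).mp hne
  have hvv : B v v = 0 := by rw [hB]; exact hW v hvW v hvW
  obtain ⟨f₀, hf₀⟩ : ∃ f₀, B f₀ v ≠ 0 := by
    by_contra h
    push Not at h
    exact hv0 (hnd.2 v h)
  set e := σ (B f₀ v)⁻¹ • f₀ with he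
  have hev : B e v = 1 := by simp [he, hσ2, hf₀]
  obtain ⟨c, hc⟩ := CfsgLib.WittExtension.exists_trace hσid hσ2 (c := -(B e e)) (by rw [map_neg, hS.eq])
  set f := e + c • v with hf
  have hfv : B f v = 1 := by simp [hf, hev, hvv]
  have hvf : B v f = 1 := by rw [← hS.eq, hfv, map_one]
  have hff : B f f = 0 := by
    have hve : B v e = 1 := by rw [← hS.eq, hev, map_one]
    simp only [hf, map_add, LinearMap.map_smulₛₗ, LinearMap.add_apply, LinearMap.smul_apply,
      smul_eq_mul, RingHom.id_apply, hev, hve, hvv]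
    linear_combination hc
  clear_value f
  -- a scalar of the right norm
  obtain ⟨l, hl⟩ : ∃ l : Fˣ, l ^ (q - 1) = u⁻¹ := by
    have hle : (powMonoidHom (q - 1) : Fˣ →* Fˣ).range ≤ (powMonoidHom (q + 1) : Fˣ →* Fˣ).ker := by
      rintro _ ⟨a, rfl⟩
      show (a ^ (q - 1)) ^ (q + 1) = 1
      rw [← pow_mul, ← CfsgLib.HermCount.pow_sub_one_mul hF]
      exact pow_card_eq_one'
    have hcard : Nat.card (powMonoidHom (q + 1) : Fˣ →* Fˣ).ker ≤ Nat.card (powMonoidHom (q - 1) : Fˣ →* Fˣ).range := by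
      rw [IsCyclic.card_powMonoidHom_range, IsCyclic.card_powMonoidHom_ker, CfsgLib.HermCount.card_sub_one hF,
        Nat.gcd_eq_right (dvd_mul_left _ _), Nat.gcd_eq_right (dvd_mul_right _ _),
        Nat.mul_div_cancel _ (by omega)]
    have hm : u⁻¹ ∈ (powMonoidHom (q + 1) : Fˣ →* Fˣ).ker := by
      show u⁻¹ ^ (q + 1) = 1
      rw [inv_pow, hu, inv_one]
    rw [← Subgroup.eq_of_le_of_card_ge hle hcard] at hm
    exact hm
  set μ : F := (σ (l : F))⁻¹ with hμ
  have hl0 : (l : F) ≠ 0 := l.ne_zero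
  have hsl0 : σ (l : F) ≠ 0 := by simpa using hl0
  let U : Matrix (Fin n) (Fin 2) F := Matrix.of fun x j => ![((l : F) - 1) * v x, (μ - 1) * f x] j
  let V : Matrix (Fin 2) (Fin n) F := Matrix.of fun j x => ![B f (Pi.single x 1), B v (Pi.single x 1)] j
  have happ : ∀ x, (1 + U * V) *ᵥ x = x + ((((l : F) - 1) * B f x) • v + ((μ - 1) * B v x) • f) := by
    intro x
    have hlin : ∀ a, B a x = ∑ i, x i * B a (Pi.single i 1) := fun a => by
      conv_lhs => rw [pi_eq_sum_univ' x, map_sum]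
      exact Finset.sum_congr rfl fun i _ => by rw [map_smul, smul_eq_mul]
    have hV : ∀ j : Fin 2, (V *ᵥ x) j = ![B f x, B v x] j := by
      intro j
      fin_cases j
      · simp [V, Matrix.mulVec, dotProduct, hlin f, mul_comm]
      · simp [V, Matrix.mulVec, dotProduct, hlin v, mul_comm]
    rw [add_mulVec, one_mulVec, ← mulVec_mulVec]
    congr 1
    funext i
    show ∑ j, U i j * (V *ᵥ x) j = _
    simp only [hV, Fin.sum_univ_two, U, Matrix.of_apply, Matrix.cons_val_zero, Matrix.cons_val_one,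
      Pi.add_apply, Pi.smul_apply, smul_eq_mul]
    ring
  have hdet : (1 + U * V).det = (l : F) * μ := by
    have hlin : ∀ a x, B a x = ∑ i, x i * B a (Pi.single i 1) := fun a x => by
      conv_lhs => rw [pi_eq_sum_univ' x, map_sum]
      exact Finset.sum_congr rfl fun i _ => by rw [map_smul, smul_eq_mul]
    have hVU : V * U = !![((l : F) - 1) * B f v, (μ - 1) * B f f; ((l : F) - 1) * B v v, (μ - 1) * B v f] := by
      ext a b
      rw [Matrix.mul_apply]
      fin_cases a <;> fin_cases b <;>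
        simp [U, V, hlin f v, hlin f f, hlin v v, hlin v f, Finset.mul_sum] <;>
        exact Finset.sum_congr rfl fun i _ => by ring
    rw [det_one_add_mul_comm, hVU, hfv, hff, hvv, hvf, Matrix.det_fin_two]
    simp
  have hlμ : (l : F) * μ ≠ 0 := mul_ne_zero hl0 (inv_ne_zero hsl0)
  have hmem : GeneralLinearGroup.mkOfDetNeZero (1 + U * V) (by rw [hdet]; exact hlμ) ∈ Cfsg.GU n F q := by
    intro x y
    show Cfsg.hermForm n F q ((1 + U * V) *ᵥ x) ((1 + U * V) *ᵥ y) = _
    rw [happ, happ, ← hB, ← hB]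
    simp only [hμ, map_add, LinearMap.map_smulₛₗ, LinearMap.add_apply, LinearMap.smul_apply,
      smul_eq_mul, RingHom.id_apply, map_mul, map_sub, map_inv₀, map_one, hσ2, hvv, hff, hfv, hvf,
      show ∀ a b, σ (B a b) = B b a from hS.eq]
    field_simp
    ring
  refine ⟨⟨_, hmem⟩, ?_, Units.ext ?_⟩
  · have hfix : ∀ x ∈ W, (1 + U * V) *ᵥ x ∈ W := fun x hx => by
      have : B v x = 0 := by rw [hB]; exact hW x hx v hvW
      rw [happ, this, mul_zero, zero_smul, add_zero]
      exact W.add_mem hx (W.smul_mem _ hvW)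
    intro x
    refine ⟨fun hx => hfix x hx, fun hx => ?_⟩
    have hx' : (1 + U * V) *ᵥ x ∈ W := hx
    have h0 := hW _ hx' v hvW
    rw [happ, ← hB] at h0
    simp only [map_add, map_smul, smul_eq_mul, hvv, hvf, mul_zero, zero_add, mul_one] at h0
    have hvx : B v x = 0 := by
      have : μ * B v x = 0 := by linear_combination h0
      exact (mul_eq_zero.mp this).resolve_left (inv_ne_zero hsl0)
    rw [happ, hvx, mul_zero, zero_smul, add_zero] at hx'
    have := W.sub_mem hx' (W.smul_mem ((( l : F) - 1) * B f x) hvW)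
    simpa using this
  · show (1 + U * V).det = (u : F)
    rw [hdet, hμ]
    have h1 : (l : F) ^ (q - 1) = (u : F)⁻¹ := by
      rw [← Units.val_pow_eq_pow_val, hl, Units.val_inv_eq_inv_val]
    have h2 : σ (l : F) = (l : F) * (u : F)⁻¹ := by
      rw [hσ, ← h1, ← pow_succ', Nat.sub_add_cancel hq.le]
    rw [h2]
    field_simp


/-- Maximal parabolics of SU_n(q): if W is a k-dimensional subspace of F^n (n ≥ 1, |F| = q²) on which the Hermitian form vanishes, then (q + 1) times the order of its stabiliser in SU_n(q) equals q^(k(2n−3k)) · |GL_k(q²)| · |GU_(n−2k)(q)|, where |GU_m(q)| = q^(m(m−1)/2) Π_(i=1..m) (q^i − (−1)^i). -/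
theorem result {F : Type*} [Field F] [Fintype F] {q : ℕ} (hF : Fintype.card F = q ^ 2) (n k : ℕ) (hn : 1 ≤ n) (hk : 2 * k ≤ n) (W : Submodule F (Fin n → F)) (hWk : Module.finrank F W = k) (hW : ∀ u ∈ W, ∀ v ∈ W, Cfsg.hermForm n F q u v = 0) : (q + 1) * Nat.card ↥((Cfsg.stabilizing (Cfsg.slToMat n F) (W : Set (Fin n → F))).subgroupOf (Cfsg.SU n F q)) = q ^ (k * (2 * n - 3 * k)) * (∏ i : Fin k, ((q ^ 2) ^ k - (q ^ 2) ^ (i : ℕ))) * (q ^ ((n - 2 * k) * ((n - 2 * k) - 1) / 2) * ∏ i ∈ Finset.range (n - 2 * k), (if Even i then q ^ (i + 1) + 1 else q ^ (i + 1) - 1)) := by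
  classical
  open CfsgLib.IsotropicCount in
  exact by
    have hq := (CfsgLib.UnitaryBasic.frob_exists hF).1
    set ρ := (Units.coeHom (Matrix (Fin n) (Fin n) F)).comp (Cfsg.GU n F q).subtype
    set S := Cfsg.stabilizing ρ (W : Set (Fin n → F)) with hSdef
    have h := card_stab ρ (Cfsg.hermForm n F q) (fun g => g.2) (fun s t => herm_trans hF s t)
      (⟨W, hWk, hW⟩ : Sub (Cfsg.hermForm n F q) k)
    rw [card_hermFrame hF k (by omega), CfsgLib.UnitaryOrder.card_GU hF n] at h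
    -- pass to determinant one
    let d : S →* Fˣ := (Matrix.GeneralLinearGroup.det.comp (Cfsg.GU n F q).subtype).comp S.subtype
    have hr : d.range = (powMonoidHom (q + 1) : Fˣ →* Fˣ).ker := by
      refine le_antisymm ?_ fun u hu => ?_
      · rintro _ ⟨g, rfl⟩
        exact CfsgLib.UnitaryBasic.det_pow hF g.1.2
      · obtain ⟨g, hg, hgd⟩ := det_surj hF hn W hWk hW u hu
        exact ⟨⟨g, hg⟩, hgd⟩
    have E : ↥((Cfsg.stabilizing (Cfsg.slToMat n F) (W : Set (Fin n → F))).subgroupOf (Cfsg.SU n F q)) ≃ d.ker :=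
      { toFun := fun g => ⟨⟨⟨Matrix.SpecialLinearGroup.toGL g.1.1, g.1.2⟩, g.2⟩, Units.ext g.1.1.2⟩
        invFun := fun g => ⟨⟨⟨g.1.1.1.1, congrArg Units.val g.2⟩, g.1.1.2⟩, g.1.2⟩
        left_inv := fun g => rfl
        right_inv := fun g => Subtype.ext (Subtype.ext (Subtype.ext (Units.ext rfl))) }
    have hS : Nat.card S = (q + 1) * Nat.card d.ker := by
      rw [← Subgroup.card_mul_index d.ker, Subgroup.index_ker, hr, IsCyclic.card_powMonoidHom_ker,
        CfsgLib.HermCount.card_sub_one hF, Nat.gcd_eq_right (dvd_mul_right _ _), mul_comm]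
    rw [Nat.card_congr E, ← hS]
    obtain ⟨l, rfl⟩ : ∃ l, n = l + 2 * k := ⟨n - 2 * k, by omega⟩
    have hp := prod_eq hF l k
    rw [show l + 2 * k - 2 * k = l by omega]
    have hpos : 0 < ∏ i ∈ Finset.range k, q ^ (2 * i) * (CfsgLib.HermCount.A0 F q (l + 2 * k - 2 * i) - 1) := by
      refine Finset.prod_pos fun i hi => Nat.mul_pos (pow_pos (by omega) _) ?_
      have := Finset.mem_range.mp hi
      rw [show l + 2 * k - 2 * i = (l + 2 * k - 2 * i - 2) + 2 by omega, A0_sub_one hF]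
      refine Nat.mul_pos ?_ ?_ <;> split_ifs <;>
        first | omega | exact Nat.sub_pos_of_lt (Nat.one_lt_pow (by omega) hq)
    refine Nat.eq_of_mul_eq_mul_right hpos (h.trans ?_)
    set E' := ∏ i ∈ Finset.range k, q ^ (2 * i) * (CfsgLib.HermCount.A0 F q (l + 2 * k - 2 * i) - 1)
    set Pl := ∏ i ∈ Finset.range l, (if Even i then q ^ (i + 1) + 1 else q ^ (i + 1) - 1)
    set Pm := ∏ i ∈ Finset.range (l + 2 * k), (if Even i then q ^ (i + 1) + 1 else q ^ (i + 1) - 1)
    have hexp : (l + 2 * k) * (l + 2 * k - 1) / 2 =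
        k * (2 * (l + 2 * k) - 3 * k) + l * (l - 1) / 2 + k * (k - 1) := by
      rw [show 2 * (l + 2 * k) - 3 * k = 2 * l + k by omega, ← Finset.sum_range_id, ← Finset.sum_range_id,
        Finset.sum_range_add, Finset.sum_add_distrib, Finset.sum_const, Finset.card_range, smul_eq_mul,
        Finset.sum_range_id (2 * k)]
      have e1 : 2 * k * (2 * k - 1) / 2 = k * (2 * k - 1) := by
        rw [mul_assoc, Nat.mul_div_cancel_left _ two_pos]
      rw [e1]
      rcases k with _ | j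
      · simp
      · simp only [Nat.add_sub_cancel, show 2 * (j + 1) - 1 = 2 * j + 1 by omega]; ring
    rw [hexp, pow_add, pow_add, glc, hF]
    linear_combination (q ^ (k * (2 * (l + 2 * k) - 3 * k)) * q ^ (l * (l - 1) / 2) *
      ∏ i : Fin k, ((q ^ 2) ^ k - (q ^ 2) ^ (i : ℕ))) * hp.symm

end Cfsg.Agent.S0782
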