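import Cfsg.Statements.S1610
-- import your own Cfsg.Agent.* helpers here

set_option autoImplicit false
open Cfsg

namespace Cfsg.Agent.S1610

/-- Addition of the field with four elements on labels. -/
def addK : Fin 4 → Fin 4 → Fin 4 := ![![0, 1, 2, 3], ![1, 0, 3, 2], ![2, 3, 0, 1], ![3, 2, 1, 0]]

/-- Multiplication of the field with four elements on labels. -/
def mulK : Fin 4 → Fin 4 → Fin 4 := ![![0, 0, 0, 0], ![0, 1, 2, 3], ![0, 2, 3, 1], ![0, 3, 1, 2]]

/-- The hexacode word with given coefficients, on labels. -/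
def word (p : Fin 4 × Fin 4 × Fin 4) (i : Fin 6) : Fin 4 :=
  addK (mulK p.1 (![2, 3, 3, 2, 3, 2] i)) (addK (mulK p.2.1 (![3, 2, 2, 3, 3, 2] i)) (mulK p.2.2 (![3, 2, 3, 2, 2, 3] i)))

theorem word_inj : ∀ p q, word p = word q → p = q := by decide +kernel

theorem word_weight : ∀ p, p = 0 ∨ (Finset.univ.filter fun i => word p i ≠ 0).card = 4 ∨
    (Finset.univ.filter fun i => word p i ≠ 0).card = 6 := by decide +kernel

theorem word_count : (Finset.univ.filter fun p => (Finset.univ.filter fun i => word p i ≠ 0).card = 4).card = 45 ∧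
    (Finset.univ.filter fun p => (Finset.univ.filter fun i => word p i ≠ 0).card = 6).card = 18 := by decide +kernel


/-- The hexacode has 64 words, minimum weight 4, and weight distribution 0^1 4^45 6^18. -/
theorem result (F : Type*) [Field F] [Fintype F] [DecidableEq F] (hF : Fintype.card F = 4) (ω : F) (hω : ω ^ 2 + ω + 1 = 0) : Nat.card ↥(Cfsg.hexacode F ω) = 64 ∧ (∀ x ∈ Cfsg.hexacode F ω, x ≠ 0 → (Finset.univ.filter fun i => x i ≠ 0).card = 4 ∨ (Finset.univ.filter fun i => x i ≠ 0).card = 6) ∧ {x : Fin 6 → F | x ∈ Cfsg.hexacode F ω ∧ (Finset.univ.filter fun i => x i ≠ 0).card = 4}.ncard = 45 ∧ {x : Fin 6 → F | x ∈ Cfsg.hexacode F ω ∧ (Finset.univ.filter fun i => x i ≠ 0).card = 6}.ncard = 18 := by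
  classical
  have h4 : (4 : F) = 0 := by
    have := FiniteField.cast_card_eq_zero F
    rw [hF] at this
    exact_mod_cast this
  have h2 : (2 : F) = 0 := by
    have : (2 : F) * 2 = 0 := by rw [← h4]; norm_num
    exact mul_self_eq_zero.mp this
  let ι : Fin 4 → F := ![0, 1, ω, ω ^ 2]
  have hω0 : ω ≠ 0 := fun e => by rw [e] at hω; simp at hω
  have hω1 : ω ≠ 1 := fun e => by
    rw [e] at hω
    exact one_ne_zero (α := F) (by linear_combination hω - h2)
  have hsq : ω ^ 2 = ω + 1 := by linear_combination hω - (ω + 1) * h2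
  have hsq0 : ω ^ 2 ≠ 0 := pow_ne_zero 2 hω0
  have hsq1 : ω ^ 2 ≠ 1 := fun e => hω0 (by linear_combination e - hsq)
  have hsqω : ω ^ 2 ≠ ω := fun e => one_ne_zero (α := F) (by linear_combination e - hsq)
  have hinj : Function.Injective ι := by
    intro a b h
    fin_cases a <;> fin_cases b <;>
      simp [ι, hω0, Ne.symm hω0, hω1, Ne.symm hω1, hsq0, hsq0.symm, hsq1, hsq1.symm, hsqω, hsqω.symm] at h ⊢
  have hadd : ∀ a b, ι (addK a b) = ι a + ι b := by
    intro a b
    fin_cases a <;> fin_cases b <;> simp [ι, addK, hsq] <;>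
      first
        | linear_combination (0 : F) * h2
        | linear_combination h2
        | linear_combination -h2
        | linear_combination ω * h2
        | linear_combination -ω * h2
        | linear_combination (ω + 1) * h2
        | linear_combination -(ω + 1) * h2
        | linear_combination (2 : F) * h2
  have hω3 : ω ^ 3 = 1 := by linear_combination (ω - 1) * hω
  have hmul : ∀ a b, ι (mulK a b) = ι a * ι b := by
    intro a b
    fin_cases a <;> fin_cases b <;> simp [ι, mulK] <;>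
      first
        | linear_combination -hω3
        | linear_combination hω3
        | linear_combination -ω * hω3
        | ring
  let W : Fin 4 × Fin 4 × Fin 4 → (Fin 6 → F) := fun p i => ι (word p i)
  have hWinj : Function.Injective W := fun p q h => word_inj p q (funext fun i => hinj (congrFun h i))
  have hW : ∀ p, W p = ι p.1 • ![ω, ω ^ 2, ω ^ 2, ω, ω ^ 2, ω] + (ι p.2.1 • ![ω ^ 2, ω, ω, ω ^ 2, ω ^ 2, ω] +
      ι p.2.2 • ![ω ^ 2, ω, ω ^ 2, ω, ω, ω ^ 2]) := by
    intro p
    funext i
    simp only [W, word, hadd, hmul, Pi.add_apply, Pi.smul_apply, smul_eq_mul]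
    fin_cases i <;> simp [ι]
  have hsurj : Function.Surjective ι := ((Fintype.bijective_iff_injective_and_card ι).mpr ⟨hinj, by rw [hF]; rfl⟩).2
  have hcode : (Cfsg.hexacode F ω : Set (Fin 6 → F)) = Set.range W := by
    ext x
    rw [SetLike.mem_coe, Cfsg.hexacode, Submodule.mem_span_insert, Set.mem_range]
    constructor
    · rintro ⟨a, y, hy, rfl⟩
      rw [Submodule.mem_span_pair] at hy
      obtain ⟨b, c, rfl⟩ := hy
      obtain ⟨a, rfl⟩ := hsurj a
      obtain ⟨b, rfl⟩ := hsurj b
      obtain ⟨c, rfl⟩ := hsurj c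
      exact ⟨(a, b, c), hW _⟩
    · rintro ⟨⟨a, b, c⟩, rfl⟩
      exact ⟨ι a, _, Submodule.mem_span_pair.mpr ⟨ι b, ι c, rfl⟩, hW _⟩
  have hι0 : ∀ a, ι a ≠ 0 ↔ a ≠ 0 := fun a => not_congr
    ⟨fun h => hinj (h.trans (show (0 : F) = ι 0 from rfl)), fun h => h ▸ rfl⟩
  have hwt : ∀ p, (Finset.univ.filter fun i => W p i ≠ 0).card = (Finset.univ.filter fun i => word p i ≠ 0).card :=
    fun p => congrArg Finset.card (Finset.filter_congr fun i _ => hι0 _)
  refine ⟨?_, ?_, ?_, ?_⟩
  · show Nat.card ↥(Cfsg.hexacode F ω : Set (Fin 6 → F)) = 64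
    rw [hcode, Nat.card_range_of_injective hWinj]
    simp [Nat.card_eq_fintype_card]
  · intro x hx hx0
    obtain ⟨p, rfl⟩ := hcode.le hx
    rw [hwt]
    refine (word_weight p).resolve_left fun e => hx0 ?_
    subst e
    funext i
    simp [hW, ι]
  all_goals
    rw [show ({x : Fin 6 → F | x ∈ Cfsg.hexacode F ω ∧ (Finset.univ.filter fun i => x i ≠ 0).card = _} : Set _) =
        W '' {p | (Finset.univ.filter fun i => word p i ≠ 0).card = _} from ?_]
  · rw [Set.ncard_image_of_injective _ hWinj, Set.ncard_eq_toFinset_card', Set.toFinset_setOf]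
    exact word_count.1
  pick_goal 2
  · rw [Set.ncard_image_of_injective _ hWinj, Set.ncard_eq_toFinset_card', Set.toFinset_setOf]
    exact word_count.2
  all_goals
    ext x
    rw [Set.mem_setOf_eq, ← SetLike.mem_coe, hcode]
    constructor
    · rintro ⟨⟨p, rfl⟩, h⟩
      exact ⟨p, by rw [Set.mem_setOf_eq, ← hwt]; exact h, rfl⟩
    · rintro ⟨p, h, rfl⟩
      exact ⟨⟨p, rfl⟩, by rw [hwt]; exact h⟩

end Cfsg.Agent.S1610
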