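import Cfsg.Statements.S2910
import Cfsg.Agent.Lib.SmallFusion

set_option autoImplicit false
set_option linter.unusedVariables false
open Cfsg
open scoped commutatorElement

namespace Cfsg.Agent.S2910

/-- Let p be an odd prime dividing the order of the finite group G and P a Sylow p-subgroup of G. If Ω₁(P) (generated by the elements of order dividing p) is contained in the centre of G, then G has a normal p-complement. In particular, if G is quasisimple then Ω₁(P) is not central in G. -/
theorem result {G : Type*} [Group G] [Finite G] {p : ℕ} [Fact p.Prime] (hp : p ≠ 2) (hdiv : p ∣ Nat.card G) (P : Sylow p G) (hZ : Cfsg.omegaOne p (P : Subgroup G) ≤ Subgroup.center G) : Cfsg.HasNormalPComplement p G ∧ ¬ Cfsg.IsQuasisimple G := by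
    have hnpc : Cfsg.HasNormalPComplement p G := by
      refine CfsgLib.SmallFusion.hasNormalPComplement_of_filtration P
        (fun i => if i = 0 then Subgroup.center G else ⊥) (fun x hx hxs => ?_) (n := 1) (by simp) ?_
      · simp only [if_true]
        refine hZ (Subgroup.subset_closure ⟨hx, ?_⟩)
        exact ((CfsgLib.Small.pow_smallExp_eq_one_iff x).1 hxs).resolve_right fun h => hp h.1
      · intro g i x hx hxF hxs _
        simp only [Nat.succ_ne_zero, if_false, Subgroup.mem_bot]
        split at hxF
        · rw [Subgroup.mem_center_iff.1 hxF g, mul_inv_cancel_right, mul_inv_cancel]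
        · rw [Subgroup.mem_bot] at hxF
          simp [hxF]
    refine ⟨hnpc, ?_⟩
    rintro ⟨hperf, -⟩
    have hq := CfsgLib.isPGroup_quotient_of_hasNormalPComplement hnpc
    haveI : Group.IsNilpotent (G ⧸ Cfsg.pPrimeCore p G) := hq.isNilpotent
    haveI : Nontrivial (G ⧸ Cfsg.pPrimeCore p G) := by
      by_contra hn
      rw [not_nontrivial_iff_subsingleton] at hn
      have h1 : Cfsg.pPrimeCore p G = ⊤ := QuotientGroup.subgroup_eq_top_of_subsingleton _ hn
      have h2 := CfsgLib.card_pPrimeCore_coprime (G := G) p
      rw [h1, Subgroup.card_top] at h2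
      exact (Fact.out : p.Prime).ne_one (Nat.eq_one_of_dvd_coprimes h2 hdiv dvd_rfl)
    refine (Group.IsSolvable.commutator_lt_top_of_nontrivial (G ⧸ Cfsg.pPrimeCore p G)).ne ?_
    have hcomm : commutator G = ⊤ := hperf.commutator_eq_top
    rw [commutator_def, ← Subgroup.map_top_of_surjective (QuotientGroup.mk' (Cfsg.pPrimeCore p G))
      (QuotientGroup.mk'_surjective _), ← Subgroup.map_commutator, ← commutator_def, hcomm]

end Cfsg.Agent.S2910
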