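import Cfsg.Statements.S0679
import Cfsg.Agent.Lib.DegreeEleven.Main

set_option autoImplicit false
open Cfsg

namespace Cfsg.Agent.S0679

open Equiv CfsgSimpleM11 CfsgLib.DegreeEleven
open scoped Pointwise

theorem not_preserves (L : List ℕ) (g : ZMod 11 → ZMod 11) (σ : Equiv.Perm (ZMod 11)) (hg : ⇑σ = g)
    (hσ : σ ∈ setSystemAut (blockSet L))
    (h : ∃ m ∈ L, ∀ m' ∈ L, ∃ x : ZMod 11, m.testBit x.val ≠ m'.testBit (g x).val) : False := by
  obtain ⟨m, hm, hall⟩ := h
  have h1 : σ • blockSet L = blockSet L := hσ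
  have h2 : σ • maskSet m ∈ blockSet L := h1 ▸ Set.smul_mem_smul_set ⟨m, hm, rfl⟩
  obtain ⟨m', hm', he⟩ := h2
  obtain ⟨x, hx⟩ := hall m' hm'
  apply hx
  refine Bool.eq_iff_iff.mpr ?_
  rw [← mem_maskSet, ← mem_maskSet, he, ← hg, ← Finset.smul_mem_smul_finset_iff σ]
  rfl

theorem neg_cand_one : ∃ m ∈ blocks1, ∀ m' ∈ blocks1,
    ∃ x : ZMod 11, m.testBit x.val ≠ m'.testBit ((fun y => -candFun 1 (-y)) x).val := by decide +kernel

theorem neg_cand_three : ∃ m ∈ blocks3, ∀ m' ∈ blocks3,
    ∃ x : ZMod 11, m.testBit x.val ≠ m'.testBit ((fun y => -candFun 3 (-y)) x).val := by decide +kernel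

/-- A non-solvable transitive permutation group on 11 points that does not contain the alternating group is either sharply 4-transitive (of order 7920) or isomorphic to the projective special linear group of degree 2 over the field with 11 elements. -/
theorem result {α : Type*} [Fintype α] [DecidableEq α] (hα : Fintype.card α = 11) (G : Subgroup (Equiv.Perm α)) [MulAction.IsPretransitive G α] (hG : ¬ Group.IsSolvable G) (hA : ¬ alternatingGroup α ≤ G) : (MulAction.IsMultiplyPretransitive G α 4 ∧ ∀ x : Fin 4 ↪ α, MulAction.stabilizer G x = ⊥) ∨ Nonempty (G ≃* Matrix.ProjectiveSpecialLinearGroup (Fin 2) (ZMod 11)) := by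
  classical
  haveI h11 : Fact (Nat.Prime 11) := ⟨by norm_num⟩
  obtain ⟨P⟩ : Nonempty (Sylow 11 G) := inferInstance
  obtain ⟨d, hd, hNc, hd1⟩ := normalizer_card hα G P
  have hd1' : d ≠ 1 := fun e => hG (by
    haveI : IsCyclic G := isCyclic_of_prime_card (p := 11) (hd1 e)
    exact Group.isSolvable_of_comm fun u v => ((IsCyclic.commutative (α := G)).is_comm.comm u v))
  -- a coordinate system and the image there
  have hcoords : ∀ (H : Subgroup (Perm α)) (σ : Perm α) (e : ZMod 11 ≃ α), σ ∈ H → orderOf σ = 11 →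
      (∀ x, σ (e x) = e (x + 1)) → IsM11 H →
      ∃ (i : Fin 10) (L : List ℕ) (c : H), ((i = 1 ∧ L = blocks1) ∨ (i = 3 ∧ L = blocks3)) ∧
        IsSteinerSystem 4 5 (blockSet L) ∧
        H.map e.symm.permCongrHom.toMonoidHom = setSystemAut (blockSet L) ∧
        ⇑(e.symm.permCongrHom (c : Perm α)) = candFun i := by
    intro H σ e hσ ho he hH
    haveI := Fintype.ofFinite H
    let f : H →* Perm (ZMod 11) := e.symm.permCongrHom.toMonoidHom.comp H.subtype
    have hf : Function.Injective f := e.symm.permCongrHom.injective.comp H.subtype_injective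
    obtain ⟨i, L, c, hiL, hS, hr, hc⟩ := range_eq_aut hH hf (a := ⟨σ, hσ⟩) (by rw [Subgroup.orderOf_mk, ho])
      (funext fun x => by
        show e.symm (σ (e x)) = x + 1
        rw [he, Equiv.symm_apply_apply])
    refine ⟨i, L, c, hiL, hS, ?_, hc⟩
    rw [← hr, MonoidHom.range_eq_map, ← Subgroup.map_map, ← MonoidHom.range_eq_map, Subgroup.range_subtype]
  by_cases heven : Even d
  swap
  · have hd5 : d = 5 := by
      have := Nat.le_of_dvd (by norm_num) hd
      exact (by decide +kernel : ∀ d < 11, d ∣ 10 → d % 2 ≠ 0 → d ≠ 1 → d = 5) d (by omega) hd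
        (fun h => heven (Nat.even_iff.mpr h)) hd1'
    obtain ⟨hc, hsimp⟩ := simple_of_fiftyfive hα G hA hG P (by rw [hNc, hd5])
    rcases hc with hc | hc
    · exact Or.inr (Cfsg.Agent.S0498.result 11 (Or.inl rfl) (by rw [hc]; norm_num) (F := ZMod 11) (ZMod.card 11))
    left
    obtain ⟨⟨σ, hσP⟩, hσ⟩ := exists_prime_orderOf_dvd_card' (G := (P : Subgroup G)) 11
      (dvd_of_eq (sylow_card hα G P).symm)
    rw [Subgroup.orderOf_mk] at hσ
    obtain ⟨e, he, -⟩ := CfsgLib.CycleCoords.exists_coords hα G σ hσ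
    obtain ⟨i, L, c, -, hS, hmap, -⟩ := hcoords G (σ : Perm α) e σ.2 (by rw [Subgroup.orderOf_coe, hσ]) he
      ⟨hsimp, hc⟩
    obtain ⟨-, h4, hsharp⟩ := CfsgTwelve.aut11 (ZMod.card 11) hS
    have htr : ∀ g : Perm α, g ∈ G ↔ e.symm.permCongrHom g ∈ setSystemAut (blockSet L) := fun g => by
      rw [← hmap]
      exact (Subgroup.mem_map_iff_mem (f := e.symm.permCongrHom.toMonoidHom) e.symm.permCongrHom.injective).symm
    refine ⟨⟨fun x y => ?_⟩, fun x => ?_⟩
    · obtain ⟨⟨g, hg⟩, hg'⟩ := h4.exists_smul_eq (x.trans e.symm.toEmbedding) (y.trans e.symm.toEmbedding)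
      obtain ⟨g0, rfl⟩ := e.symm.permCongrHom.surjective g
      refine ⟨⟨g0, (htr g0).mpr hg⟩, Function.Embedding.ext fun k => ?_⟩
      have h := congrArg (fun z : Fin 4 ↪ ZMod 11 => z k) hg'
      change e.symm (g0 (e (e.symm (x k)))) = e.symm (y k) at h
      rw [Equiv.apply_symm_apply] at h
      exact e.symm.injective h
    · rw [eq_bot_iff]
      intro g hg
      have hk : ∀ k, (g : Perm α) (x k) = x k := fun k => congrArg (fun z : Fin 4 ↪ α => z k) hg
      have hmem : (⟨e.symm.permCongrHom (g : Perm α), (htr _).mp g.2⟩ : setSystemAut (blockSet L)) ∈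
          MulAction.stabilizer (setSystemAut (blockSet L)) (x.trans e.symm.toEmbedding) := by
        refine MulAction.mem_stabilizer_iff.mpr (Function.Embedding.ext fun k => ?_)
        show e.symm ((g : Perm α) (e (e.symm (x k)))) = e.symm (x k)
        rw [Equiv.apply_symm_apply, hk]
      rw [hsharp, Subgroup.mem_bot] at hmem
      refine Subgroup.mem_bot.mpr (Subtype.ext (e.symm.permCongrHom.injective ?_))
      rw [Subgroup.coe_one, map_one]
      exact congrArg Subtype.val hmem
  -- the even case is impossible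
  exfalso
  have hevenN : Even (Nat.card (Subgroup.normalizer ((P : Subgroup G) : Set G))) := by
    rw [hNc]; exact heven.mul_left 11
  obtain ⟨σ, t, e, hσ, he, ht⟩ := CfsgLib.CycleCoords.exists_reflection hα (by norm_num) G P hevenN
  have he1 : ∀ x, (σ : Perm α) (e x) = e (x + 1) := fun x => by
    have h := he 1 x
    rw [zpow_one, Int.cast_one] at h
    exact h
  have htsign : Equiv.Perm.sign (t : Perm α) = -1 := by
    have ht' : (t : Perm α) = e.permCongr (Equiv.neg (ZMod 11)) := Equiv.ext fun y => by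
      obtain ⟨x, rfl⟩ := e.surjective y
      simp only [Equiv.permCongr_apply, Equiv.symm_apply_apply, Equiv.neg_apply]
      exact ht x
    rw [ht', Equiv.Perm.sign_permCongr]
    decide +kernel
  set K := (G ⊓ alternatingGroup α : Subgroup (Perm α)) with hK
  have hσK : (σ : Perm α) ∈ K := by
    refine Subgroup.mem_inf.mpr ⟨σ.2, Equiv.Perm.mem_alternatingGroup.mpr ?_⟩
    have h : (Equiv.Perm.sign (σ : Perm α)) ^ 11 = 1 := by
      rw [← map_pow, ← Subgroup.coe_pow, ← hσ, pow_orderOf_eq_one]; simp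
    rcases Int.units_eq_one_or (Equiv.Perm.sign (σ : Perm α)) with e' | e'
    · exact e'
    · rw [e'] at h; exact absurd h (by decide)
  haveI : MulAction.IsPretransitive K α := ⟨fun u v => by
    obtain ⟨x, rfl⟩ := e.surjective u
    obtain ⟨y, rfl⟩ := e.surjective v
    refine ⟨⟨(σ : Perm α) ^ ((y - x).val : ℤ), K.zpow_mem hσK _⟩, ?_⟩
    show ((σ : Perm α) ^ ((y - x).val : ℤ)) (e x) = e y
    have h := he ((y - x).val : ℤ) x
    rw [Int.cast_natCast, ZMod.natCast_zmod_val, add_sub_cancel] at h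
    exact h⟩
  let s : G →* ℤˣ := Equiv.Perm.sign.comp G.subtype
  have hsker : s.ker = K.subgroupOf G := by
    ext g
    simp [s, hK, Subgroup.mem_subgroupOf, g.2]
  have hsidx : s.ker.index = 2 := by
    rw [Subgroup.index_ker]
    have : s.range = ⊤ := by
      rw [MonoidHom.range_eq_top]
      intro z
      rcases Int.units_eq_one_or z with rfl | rfl
      · exact ⟨1, map_one _⟩
      · exact ⟨t, htsign⟩
    rw [this, Subgroup.card_top, Nat.card_eq_fintype_card, Fintype.card_units_int]
  have hKc : 2 * Nat.card K = Nat.card G := by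
    rw [← s.ker.card_mul_index, hsidx, hsker, Nat.card_congr (Subgroup.subgroupOfEquivOfLe inf_le_left).toEquiv,
      mul_comm]
  have hKsolv : ¬ Group.IsSolvable K := fun h => hG (by
    haveI : Group.IsSolvable s.ker := by
      rw [hsker]
      exact Group.isSolvable_of_surjective (f := (Subgroup.subgroupOfEquivOfLe inf_le_left).symm.toMonoidHom)
        (MulEquiv.surjective _)
    haveI : Group.IsSolvable ℤˣ := Group.isSolvable_of_comm fun u v => mul_comm u v
    exact Group.isSolvable_of_ker_le_range s.ker.subtype s (by simp))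
  have hKA : ¬ alternatingGroup α ≤ K := fun h => hA (h.trans inf_le_left)
  obtain ⟨Q⟩ : Nonempty (Sylow 11 K) := inferInstance
  obtain ⟨d', hd', hNc', hd1''⟩ := normalizer_card hα K Q
  have hd'1 : d' ≠ 1 := fun e => hKsolv (by
    haveI : IsCyclic K := isCyclic_of_prime_card (p := 11) (hd1'' e)
    exact Group.isSolvable_of_comm fun u v => ((IsCyclic.commutative (α := K)).is_comm.comm u v))
  have hd'odd : ¬ Even d' := by
    intro hev
    obtain ⟨σ', t', e', -, -, ht'⟩ := CfsgLib.CycleCoords.exists_reflection hα (by norm_num) K Q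
      (by rw [hNc']; exact hev.mul_left 11)
    have hts : Equiv.Perm.sign (t' : Perm α) = -1 := by
      have h : (t' : Perm α) = e'.permCongr (Equiv.neg (ZMod 11)) := Equiv.ext fun y => by
        obtain ⟨x, rfl⟩ := e'.surjective y
        simp only [Equiv.permCongr_apply, Equiv.symm_apply_apply, Equiv.neg_apply]
        exact ht' x
      rw [h, Equiv.Perm.sign_permCongr]
      decide +kernel
    rw [Equiv.Perm.mem_alternatingGroup.mp (Subgroup.mem_inf.mp t'.2).2] at hts
    exact absurd hts (by decide)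
  have hd'5 : d' = 5 := by
    have := Nat.le_of_dvd (by norm_num) hd'
    exact (by decide +kernel : ∀ d < 11, d ∣ 10 → d % 2 ≠ 0 → d ≠ 1 → d = 5) d' (by omega) hd'
      (fun h => hd'odd (Nat.even_iff.mpr h)) hd'1
  obtain ⟨hKcard, hKsimple⟩ := simple_of_fiftyfive hα K hKA hKsolv Q (by rw [hNc', hd'5])
  rcases hKcard with hc | hc
  · have h3 := Cfsg.Agent.S0676.result hα G hG P hevenN
    obtain ⟨u, -, hu⟩ := (Set.univ : Set α).exists_subset_card_eq (n := 3)
      (by rw [Set.ncard_univ, Nat.card_eq_fintype_card, hα]; norm_num)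
    have h := h3.index_of_fixingSubgroup_mul hu
    rw [Nat.card_eq_fintype_card, hα, show Nat.factorial (11 - 3) = 40320 by rfl, factorial_eleven] at h
    have hdv := Subgroup.index_dvd_card (fixingSubgroup G u)
    rw [show (fixingSubgroup G u).index = 990 by omega, ← hKc, hc] at hdv
    norm_num at hdv
  · obtain ⟨i, L, c, hiL, -, hmap, hcand⟩ := hcoords K (σ : Perm α) e hσK (by rw [Subgroup.orderOf_coe, hσ]) he1
      ⟨hKsimple, hc⟩
    have hconj : (t : Perm α) * (c : Perm α) * (t : Perm α)⁻¹ ∈ K := by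
      obtain ⟨hcG, hcA⟩ := Subgroup.mem_inf.mp c.2
      exact Subgroup.mem_inf.mpr ⟨mul_mem (mul_mem t.2 hcG) (inv_mem t.2),
        (inferInstance : (alternatingGroup α).Normal).conj_mem _ hcA _⟩
    have hmem : e.symm.permCongrHom ((t : Perm α) * (c : Perm α) * (t : Perm α)⁻¹) ∈ setSystemAut (blockSet L) :=
      hmap ▸ ⟨_, hconj, rfl⟩
    have hfun : ⇑(e.symm.permCongrHom ((t : Perm α) * (c : Perm α) * (t : Perm α)⁻¹)) =
        fun y => -candFun i (-y) := by
      funext y
      have hcy : ∀ z, (c : Perm α) (e z) = e (candFun i z) := fun z => by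
        rw [← hcand]
        show _ = e (e.symm ((c : Perm α) (e z)))
        rw [Equiv.apply_symm_apply]
      have hti : (t : Perm α)⁻¹ (e y) = e (-y) := by
        rw [Equiv.Perm.inv_eq_iff_eq]
        have h : (t : Perm α) (e (-y)) = e (- -y) := ht (-y)
        rw [neg_neg] at h
        exact h.symm
      show e.symm ((t : Perm α) ((c : Perm α) ((t : Perm α)⁻¹ (e y)))) = _
      rw [hti, hcy, show (t : Perm α) (e (candFun i (-y))) = e (-candFun i (-y)) from ht _, Equiv.symm_apply_apply]
    rcases hiL with ⟨rfl, rfl⟩ | ⟨rfl, rfl⟩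
    · exact not_preserves _ _ _ hfun hmem neg_cand_one
    · exact not_preserves _ _ _ hfun hmem neg_cand_three

end Cfsg.Agent.S0679
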