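import Cfsg.Statements.S2916
import Cfsg.Agent.Lib.L33Invol.Action
import Cfsg.Agent.Lib.SimpleM11.Recognition
import Cfsg.Agent.Lib.M11Det.Basic

set_option autoImplicit false
open Cfsg

namespace Cfsg.Agent.S2916

/-- Let G be a finite group with O²(G) = G (no proper normal subgroup of 2-power index), and let t be an involution of G whose centralizer C_G(t) is isomorphic to GL₂(3). Then G is isomorphic to PSL₃(3) or to the Mathieu group M₁₁. -/
theorem result {G : Type*} [Group G] [Finite G] (hO : Cfsg.pResidual 2 G = ⊤) (t : G) (ht : orderOf t = 2) (hC : Nonempty (↥(Subgroup.centralizer ({t} : Set G)) ≃* GL (Fin 2) (ZMod 3))) : (∃ (F : Type) (_ : Field F) (_ : Fintype F), Fintype.card F = 3 ∧ Nonempty (G ≃* Matrix.ProjectiveSpecialLinearGroup (Fin 3) F)) ∨ Cfsg.Spor.IsoM11 G := by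
  obtain ⟨e⟩ := hC
  let C : CfsgLib.L33Invol.Ctx G := ⟨t, ht, e, CfsgLib.L33Invol.no_index_two_of_residual hO⟩
  haveI := C.simple
  rcases Cfsg.Agent.S0197.result t ht e with h | h
  · left
    obtain ⟨g⟩ := (C.hyp h).iso
    have hc : Subgroup.center CfsgLib.L33Graph.SL33 = ⊥ := (Subgroup.eq_bot_iff_forall _).mpr fun x hx =>
      CfsgLib.L33Graph.eq_one_of_commute fun f c => ((Subgroup.mem_center_iff.mp hx) _).symm
    exact ⟨ZMod 3, inferInstance, inferInstance, ZMod.card 3,
      ⟨g.trans ((QuotientGroup.quotientMulEquivOfEq hc).trans QuotientGroup.quotientBot).symm⟩⟩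
  · right
    haveI := Fintype.ofFinite G
    exact CfsgSimpleM11.unique7920 ⟨inferInstance, h⟩ CfsgM11Det.isM11_spor

end Cfsg.Agent.S2916
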