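import Cfsg.Statements.S0813
import Cfsg.Agent.Lib.PSLn.Group

set_option autoImplicit false
open Cfsg

open CfsgLib.PSLn

namespace Cfsg.Agent.S0813

/-- |Aut(PSL_n(q))|, q = p^f: for n ≥ 3 it is 2 f |PGL_n(q)|, and for n = 2 (q ≥ 4) it is f |PGL_2(q)|. -/
theorem result {F : Type*} [Field F] [Fintype F] (p f : ℕ) [Fact p.Prime] (hf : 1 ≤ f) (hF : Fintype.card F = p ^ f) (n : ℕ) (hn : 2 ≤ n) (h2 : n = 2 → 4 ≤ p ^ f) : Nat.card (MulAut (Matrix.ProjectiveSpecialLinearGroup (Fin n) F)) = (if n = 2 then 1 else 2) * f * Nat.card (Matrix.ProjGenLinGroup (Fin n) F) := by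
  have : CharP F p := charP_of_card_eq_prime_pow hF
  obtain ⟨hcyc, hcard⟩ := CfsgLib.PSLn.ringAut_cyclic (F := F) hF
  set K := (diagAut : GL (Fin n) F →* MulAut (Matrix.ProjectiveSpecialLinearGroup (Fin n) F)).range
    with hK
  have : K.Normal := diagAut_range_normal p hn
  have hKc : Nat.card K = Nat.card (Matrix.ProjGenLinGroup (Fin n) F) := by
    rw [hK, ← Nat.card_congr (QuotientGroup.quotientKerEquivRange _).toEquiv, ker_diagAut hn]
    rfl
  rw [← Subgroup.card_mul_index K, hKc, Subgroup.index_eq_card, mul_comm]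
  congr 1
  rcases eq_or_lt_of_le hn with rfl | h3
  · rw [if_pos rfl, one_mul]
    have hbij : Function.Bijective ((QuotientGroup.mk' K).comp
        (fieldAut : RingAut F →* MulAut (Matrix.ProjectiveSpecialLinearGroup (Fin 2) F))) := by
      constructor
      · rw [← MonoidHom.ker_eq_bot_iff, Subgroup.eq_bot_iff_forall]
        intro e he
        rw [MonoidHom.mem_ker, MonoidHom.comp_apply, QuotientGroup.mk'_apply,
          QuotientGroup.eq_one_iff] at he
        obtain ⟨g, hg⟩ := he
        exact (eq_one_imp le_rfl (g := g⁻¹) (e := e) (by rw [map_inv, hg, inv_mul_cancel])).1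
      · intro x
        obtain ⟨φ, rfl⟩ := QuotientGroup.mk'_surjective K x
        obtain ⟨g, e, h | ⟨h, -⟩⟩ := exists_decomposition_any p le_rfl φ
        · refine ⟨e, ?_⟩
          rw [h, MonoidHom.comp_apply, map_mul (QuotientGroup.mk' K),
            show QuotientGroup.mk' K (diagAut g) = 1 from (QuotientGroup.eq_one_iff _).mpr ⟨g, rfl⟩,
            one_mul]
        · omega
    rw [← Nat.card_congr (Equiv.ofBijective _ hbij), hcard]
  · rw [if_neg (by omega), ← Nat.card_congr (Equiv.ofBijective _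
      (fieldGraph_bijective (F := F) (n := n) p (by omega) K hK)), Nat.card_prod, hcard,
      Nat.card_congr Multiplicative.toAdd, Nat.card_zmod, mul_comm]

end Cfsg.Agent.S0813
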