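import Cfsg.Statements.S2905
import Mathlib
import Cfsg.Agent.Lib.Subnormal
import Cfsg.Agent.Lib.PResidual
import Cfsg.Agent.Lib.SylowExtra
import Cfsg.Agent.Lib.PLocal.StableNormal

set_option autoImplicit false
set_option linter.unusedVariables false
open Cfsg
open scoped commutatorElement

namespace Cfsg.Agent.S2905

open CfsgLib

variable {P : Type*} [Group P] [Finite P] {p : ℕ} [Fact p.Prime]

theorem le_M (hP : Cfsg.IsPMinimal p P) (S : Sylow p P) {M : Subgroup P} (hM : IsCoatom M) (hSM : (S : Subgroup P) ≤ M)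
    {H : Subgroup P} (hSH : (S : Subgroup P) ≤ H) (hH : H ≠ ⊤) : H ≤ M := by
  obtain ⟨-, M', -, hu⟩ := hP S
  obtain ⟨C, hC, hle⟩ := (eq_top_or_exists_le_coatom H).resolve_left hH
  rwa [hu M ⟨hM, hSM⟩, ← hu C ⟨hC, hSH.trans hle⟩]

theorem inter_normal (hP : Cfsg.IsPMinimal p P) (S : Sylow p P) {M : Subgroup P} (hM : IsCoatom M) (hSM : (S : Subgroup P) ≤ M)
    (R : Subgroup P) [R.Normal] (hR : R ≤ M) : R ⊓ (S : Subgroup P) ≤ Cfsg.pCore p P := by
  obtain ⟨Q, hQ⟩ := PLocal.exists_sylow_inf S R
  have hf := Sylow.normalizer_sup_eq_top Q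
  rw [hQ] at hf
  have hn : (S : Subgroup P) ≤ Subgroup.normalizer (((S : Subgroup P) ⊓ R : Subgroup P) : Set P) :=
    (le_inf Subgroup.le_normalizer ((Subgroup.normalizer_eq_top (H := R)).ge.trans' le_top)).trans
      (by
        intro g hg
        exact Local.mem_normalizer_of_map_conj_eq (by
          rw [Subgroup.map_inf _ _ _ (MulAut.conj g).injective, Local.map_conj_eq_of_mem_normalizer hg.1,
            Local.map_conj_eq_of_mem_normalizer hg.2]))
  have htop : Subgroup.normalizer (((S : Subgroup P) ⊓ R : Subgroup P) : Set P) = ⊤ := by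
    by_contra hne
    exact hM.1 (top_le_iff.mp (hf.ge.trans (sup_le (le_M hP S hM hSM hn hne) hR)))
  haveI := Subgroup.normalizer_eq_top_iff.mp htop
  rw [inf_comm]
  exact le_pCore (S.2.to_le inf_le_left)

theorem eq_top_or_proper_normal {G : Type*} [Group G] {H : Subgroup G} (hH : H.IsSubnormal) :
    H = ⊤ ∨ ∃ N : Subgroup G, N.Normal ∧ H ≤ N ∧ N ≠ ⊤ := by
  induction hH with
  | top => exact Or.inl rfl
  | step H K hle _ hn ih =>
    rcases ih with rfl | ⟨N, h1, h2, h3⟩
    · by_cases h : H = ⊤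
      · exact Or.inl h
      · refine Or.inr ⟨H, ?_, le_rfl, h⟩
        exact Subgroup.normalizer_eq_top_iff.mp (top_le_iff.mp
          ((Subgroup.normal_subgroupOf_iff_le_normalizer hle).mp hn))
    · exact Or.inr ⟨N, h1, hle.trans h2, h3⟩

theorem subnormal_le (hP : Cfsg.IsPMinimal p P) (S : Sylow p P) {M : Subgroup P} (hM : IsCoatom M) (hSM : (S : Subgroup P) ≤ M)
    {N : Subgroup P} (hN : N.IsSubnormal) (hNM : N ≤ M) : N ⊓ (S : Subgroup P) ≤ Cfsg.pCore p P := by
  classical
  haveI := Fintype.ofFinite ↥(S : Subgroup P)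
  set X := (Finset.univ : Finset ↥(S : Subgroup P)).sup fun s => N.map (MulAut.conj (s : P)).toMonoidHom with hX
  have hXs : X.IsSubnormal := by
    refine Finset.sup_induction (p := fun H : Subgroup P => H.IsSubnormal) ?_ ?_ ?_
    · exact Subgroup.Normal.isSubnormal inferInstance
    · exact fun a ha b hb => isSubnormal_sup ha hb
    · exact fun s _ => hN.map (MulEquiv.surjective _)
  have hNX : N ≤ X := by
    intro n hn
    exact Finset.le_sup (f := fun s : ↥(S : Subgroup P) => N.map (MulAut.conj (s : P)).toMonoidHom) (Finset.mem_univ 1)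
      ⟨n, hn, by simp⟩
  have hXM : X ≤ M := Finset.sup_le fun s _ => Local.map_conj_le fun n hn =>
    M.mul_mem (M.mul_mem (hSM s.2) (hNM hn)) (M.inv_mem (hSM s.2))
  have hSX : ∀ t ∈ (S : Subgroup P), ∀ x ∈ X, t * x * t⁻¹ ∈ X := by
    intro t ht x hx
    have hle : X ≤ X.comap (MulAut.conj t).toMonoidHom := Finset.sup_le fun s _ => by
      rintro _ ⟨n, hn, rfl⟩
      exact Finset.le_sup (f := fun s : ↥(S : Subgroup P) => N.map (MulAut.conj (s : P)).toMonoidHom)
        (Finset.mem_univ (⟨t, ht⟩ * s)) ⟨n, hn, by simp [mul_assoc]⟩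
    exact hle hx
  set R := Subgroup.normalClosure (X : Set P) with hR
  by_cases hRM : R ≤ M
  · exact (inf_le_inf_right _ (hNX.trans Subgroup.le_normalClosure)).trans (inter_normal hP S hM hSM R hRM)
  exfalso
  have hsup : R ⊔ (S : Subgroup P) = ⊤ := by
    by_contra hne
    exact hRM (le_sup_left.trans (le_M hP S hM hSM le_sup_right hne))
  have hXR : X ≤ R := Subgroup.le_normalClosure
  have hXne : X.subgroupOf R ≠ ⊤ := fun h => hRM ((Subgroup.subgroupOf_eq_top.mp h).trans hXM)
  obtain ⟨K, hK, hXK, hKne⟩ := (eq_top_or_proper_normal (hXs.comap R.subtype)).resolve_left hXne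
  set R2 := Subgroup.normalClosure ((X.subgroupOf R : Subgroup ↥R) : Set ↥R) with hR2
  have hR2K : R2 ≤ K := Subgroup.normalClosure_le_normal hXK
  have hconj : ∀ g : P, ∀ x ∈ R2.map R.subtype, g * x * g⁻¹ ∈ R2.map R.subtype := by
    intro g
    have hg : g ∈ R ⊔ (S : Subgroup P) := hsup ▸ Subgroup.mem_top g
    rw [← SetLike.mem_coe, Subgroup.normal_mul] at hg
    obtain ⟨r, hr, t, ht, rfl⟩ := hg
    rintro _ ⟨x, hx, rfl⟩
    have h1 : MulAut.conjNormal t x ∈ R2 := by
      have hle : R2 ≤ R2.comap (MulAut.conjNormal t : MulAut ↥R).toMonoidHom := by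
        haveI : R2.Normal := Subgroup.normalClosure_normal
        haveI := Subgroup.Normal.comap (H := R2) inferInstance (MulAut.conjNormal t : MulAut ↥R).toMonoidHom
        refine Subgroup.normalClosure_le_normal fun y hy => Subgroup.subset_normalClosure ?_
        show ((MulAut.conjNormal t y : ↥R) : P) ∈ X
        rw [MulAut.conjNormal_apply]
        exact hSX t ht y hy
      exact hle hx
    refine ⟨⟨r, hr⟩ * MulAut.conjNormal t x * ⟨r, hr⟩⁻¹, Subgroup.normalClosure_normal.conj_mem _ h1 _, ?_⟩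
    simp [mul_assoc]
  haveI : (R2.map R.subtype).Normal := ⟨fun x hx g => hconj g x hx⟩
  have hle : R ≤ R2.map R.subtype := Subgroup.normalClosure_le_normal fun x hx =>
    ⟨⟨x, hXR hx⟩, Subgroup.subset_normalClosure hx, rfl⟩
  refine hKne (top_le_iff.mp fun r _ => hR2K ?_)
  obtain ⟨r', hr', e⟩ := hle r.2
  rwa [← Subtype.ext (e : (r' : P) = r)]

theorem two_primes (hP : Cfsg.IsPMinimal p P) (S : Sylow p P) {M : Subgroup P} (hM : IsCoatom M) (hSM : (S : Subgroup P) ≤ M)
    (hT : ∀ T : Sylow p ↥(Cfsg.pResidual p P), (T : Subgroup ↥(Cfsg.pResidual p P)).Normal) :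
    (Nat.card P).primeFactors.card ≤ 2 := by
  set R := Cfsg.pResidual p P with hR
  haveI : R.Normal := PResidual.pResidual_normal
  obtain ⟨T⟩ : Nonempty (Sylow p ↥R) := inferInstance
  haveI := hT T
  haveI : Subsingleton (Sylow p ↥R) := @Unique.instSubsingleton _ (Sylow.unique_of_normal T (hT T))
  set T0 := (T : Subgroup ↥R).map R.subtype with hT0
  haveI hT0n : T0.Normal := by
    refine ⟨fun x hx g => ?_⟩
    obtain ⟨y, hy, rfl⟩ := hx
    have e : T.mapSurjective (f := (MulAut.conjNormal g : MulAut ↥R).toMonoidHom) (MulEquiv.surjective _) = T := Subsingleton.elim _ _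
    refine ⟨MulAut.conjNormal g y, ?_, by simp⟩
    have e' : (T : Subgroup ↥R).map (MulAut.conjNormal g : MulAut ↥R).toMonoidHom = (T : Subgroup ↥R) := congrArg (fun K : Sylow p ↥R => (K : Subgroup ↥R)) e
    exact e'.le ⟨y, hy, rfl⟩
  have hSp : ∀ r : ℕ, r.Prime → r ∣ Nat.card ↥(S : Subgroup P) → r = p := by
    intro r hr hd
    obtain ⟨k, hk⟩ := IsPGroup.iff_card.mp S.2
    exact (Nat.prime_dvd_prime_iff_eq hr Fact.out).mp (hr.dvd_of_dvd_pow (hk ▸ hd))
  have hRi : ∀ r : ℕ, r.Prime → r ∣ R.index → r = p := by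
    intro r hr hd
    refine hSp r hr (hd.trans ?_)
    rw [← Subgroup.relIndex_top_right, ← PResidual.pResidual_sup_sylow S, Subgroup.relIndex_sup_right]
    exact Subgroup.relIndex_dvd_card _ _
  have key : ∀ t : ℕ, t.Prime → t ≠ p → (Nat.card P).primeFactors ⊆ {p, t} ∨ ¬ t ∣ M.index := by
    intro t ht htp
    haveI : Fact t.Prime := ⟨ht⟩
    obtain ⟨Q⟩ : Nonempty (Sylow t ↥R) := inferInstance
    set Q0 := (Q : Subgroup ↥R).map R.subtype with hQ0
    set W := T0 ⊔ Q0 with hW
    have hWR : W ≤ R := sup_le (Subgroup.map_subtype_le _) (Subgroup.map_subtype_le _)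
    set N := Subgroup.normalizer (W : Set P) with hN
    have hfr : R ⊔ N = ⊤ := by
      refine top_le_iff.mp fun g _ => ?_
      obtain ⟨r, hr⟩ := MulAction.exists_smul_eq ↥R Q (Q.mapSurjective (f := (MulAut.conjNormal g : MulAut ↥R).toMonoidHom) (MulEquiv.surjective _))
      have hm : (r : P)⁻¹ * g ∈ N := by
        refine Local.mem_normalizer_of_map_conj_eq ?_
        rw [Subgroup.map_sup, Local.map_conj_eq_of_mem_normalizer (H := T0) ((Subgroup.normalizer_eq_top (H := T0)).ge (Subgroup.mem_top _))]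
        congr 1
        have e' : (Q : Subgroup ↥R).map (MulAut.conj r).toMonoidHom =
            (Q : Subgroup ↥R).map (MulAut.conjNormal g : MulAut ↥R).toMonoidHom :=
          congrArg (fun K : Sylow t ↥R => (K : Subgroup ↥R)) hr
        rw [← Local.map_conj_mul]
        have e1 : Q0.map (MulAut.conj g).toMonoidHom = Q0.map (MulAut.conj (r : P)).toMonoidHom := by
          ext x
          constructor
          · rintro ⟨_, ⟨y, hy, rfl⟩, rfl⟩
            obtain ⟨z, hz, ez⟩ := e'.ge ⟨y, hy, rfl⟩
            refine ⟨z, ⟨z, hz, rfl⟩, ?_⟩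
            simpa using congrArg Subtype.val ez
          · rintro ⟨_, ⟨y, hy, rfl⟩, rfl⟩
            obtain ⟨z, hz, ez⟩ := e'.le ⟨y, hy, rfl⟩
            refine ⟨z, ⟨z, hz, rfl⟩, ?_⟩
            simpa using congrArg Subtype.val ez
        rw [e1, Local.map_conj_mul, inv_mul_cancel]
        ext x
        simp [Local.mem_map_conj]
      have := Subgroup.mul_mem (R ⊔ N) (Subgroup.mem_sup_left r.2) (Subgroup.mem_sup_right hm)
      rwa [mul_inv_cancel_left] at this
    have hNi : ¬ p ∣ N.index := by
      have e1 : R.relIndex N = R.index := by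
        rw [← Subgroup.relIndex_sup_left (K := R) (H := N), hfr, Subgroup.relIndex_top_right]
      have e2 := Subgroup.relIndex_mul_index (inf_le_left : R ⊓ N ≤ R)
      have e3 := Subgroup.relIndex_mul_index (inf_le_right : R ⊓ N ≤ N)
      rw [Subgroup.inf_relIndex_left] at e2
      rw [Subgroup.inf_relIndex_right, e1] at e3
      have e4 : N.index = N.relIndex R :=
        Nat.eq_of_mul_eq_mul_left (Nat.pos_of_ne_zero Subgroup.index_ne_zero_of_finite) ((e3.trans e2.symm).trans (mul_comm _ _))
      rw [e4]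
      intro hd
      have hd2 : p ∣ T0.relIndex R := hd.trans (Subgroup.relIndex_dvd_of_le_left R (le_sup_left.trans Subgroup.le_normalizer))
      rw [Subgroup.relIndex, Subgroup.subgroupOf, hT0, Subgroup.comap_map_eq_self_of_injective R.subtype_injective] at hd2
      exact T.not_dvd_index hd2
    obtain ⟨S', hS'⟩ := exists_sylow_le_of_not_dvd_index N hNi
    obtain ⟨g, hg⟩ := MulAction.exists_smul_eq P S' S
    set W' := W.map (MulAut.conj g).toMonoidHom with hW'
    have hSW : (S : Subgroup P) ≤ Subgroup.normalizer (W' : Set P) := by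
      rw [← hg, Sylow.coe_subgroup_smul]
      exact (Subgroup.map_mono hS').trans (Subgroup.le_normalizer_map _)
    by_cases htop : W' ⊔ (S : Subgroup P) = ⊤
    · left
      intro r hr
      obtain ⟨hrp, hrd, -⟩ := Nat.mem_primeFactors.mp hr
      haveI : W'.Normal := Subgroup.normalizer_eq_top_iff.mp (top_le_iff.mp (htop.ge.trans (sup_le Subgroup.le_normalizer hSW)))
      rw [← W'.card_mul_index, ← Subgroup.relIndex_top_right W', ← htop, sup_comm, Subgroup.relIndex_sup_right] at hrd
      rcases hrp.dvd_mul.mp hrd with h | h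
      · rw [Subgroup.card_map_of_injective (f := (MulAut.conj g).toMonoidHom) (MulEquiv.injective _),
          ← Subgroup.relIndex_bot_left, ← Subgroup.relIndex_mul_relIndex ⊥ T0 W bot_le le_sup_left,
          Subgroup.relIndex_bot_left, hW, Subgroup.relIndex_sup_left] at h
        rcases hrp.dvd_mul.mp h with h | h
        · rw [Subgroup.card_map_of_injective R.subtype_injective] at h
          obtain ⟨k, hk⟩ := IsPGroup.iff_card.mp T.2
          exact Finset.mem_insert.mpr (Or.inl ((Nat.prime_dvd_prime_iff_eq hrp Fact.out).mp (hrp.dvd_of_dvd_pow (hk ▸ h))))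
        · have h' := h.trans (Subgroup.relIndex_dvd_card _ _)
          rw [Subgroup.card_map_of_injective R.subtype_injective] at h'
          obtain ⟨k, hk⟩ := IsPGroup.iff_card.mp Q.2
          exact Finset.mem_insert.mpr (Or.inr (Finset.mem_singleton.mpr ((Nat.prime_dvd_prime_iff_eq hrp ht).mp (hrp.dvd_of_dvd_pow (hk ▸ h')))))
      · exact Finset.mem_insert.mpr (Or.inl (hSp r hrp (h.trans (Subgroup.relIndex_dvd_card _ _))))
    · right
      intro hd
      have hQM : Q0.map (MulAut.conj g).toMonoidHom ≤ M :=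
        (Subgroup.map_mono le_sup_right).trans (le_sup_left.trans (le_M hP S hM hSM le_sup_right htop))
      have h1 := hd.trans (Subgroup.index_dvd_of_le hQM)
      have e : (MulAut.conj g).toMonoidHom.range = ⊤ := MonoidHom.range_eq_top.mpr (MulEquiv.surjective _)
      rw [Subgroup.index_map_of_injective _ (MulEquiv.injective (MulAut.conj g)), e, Subgroup.index_top, mul_one] at h1
      rw [hQ0, Subgroup.index_map_of_injective _ R.subtype_injective, Subgroup.range_subtype] at h1
      rcases ht.dvd_mul.mp h1 with h | h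
      · exact Q.not_dvd_index h
      · exact htp (hRi t ht h)
  by_contra hcard
  refine hM.1 (Subgroup.index_eq_one.mp ?_)
  by_contra h1
  obtain ⟨t, ht, htd⟩ := Nat.exists_prime_and_dvd h1
  have htp : t ≠ p := fun e => by subst e; exact S.not_dvd_index (htd.trans (Subgroup.index_dvd_of_le hSM))
  rcases key t ht htp with h | h
  · exact hcard ((Finset.card_le_card h).trans Finset.card_le_two)
  · exact h htd

/-- Let P be a finite p-minimal group (a Sylow p-subgroup S is not normal and lies in a unique maximal subgroup M of P) and let F be the normal core of M. Then: every subnormal subgroup N of P contained in M satisfies N ∩ S ≤ O_p(P); if O^p(P) has a normal Sylow p-subgroup then the order of P has at most two prime divisors; every normal subgroup N of P either contains O^p(P) or is contained in F; and O^p(P)F ⧸ F is a minimal normal subgroup of P ⧸ F. -/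
theorem result {P : Type*} [Group P] [Finite P] {p : ℕ} [Fact p.Prime] (hP : Cfsg.IsPMinimal p P) (S : Sylow p P) (M : Subgroup P) (hM : IsCoatom M) (hSM : (S : Subgroup P) ≤ M) [hF : M.normalCore.Normal] : (∀ N : Subgroup P, N.IsSubnormal → N ≤ M → N ⊓ (S : Subgroup P) ≤ Cfsg.pCore p P) ∧ ((∀ T : Sylow p ↥(Cfsg.pResidual p P), (T : Subgroup ↥(Cfsg.pResidual p P)).Normal) → (Nat.card P).primeFactors.card ≤ 2) ∧ (∀ N : Subgroup P, N.Normal → Cfsg.pResidual p P ≤ N ∨ N ≤ M.normalCore) ∧ (∀ N : Subgroup P, N.Normal → M.normalCore ≤ N → N ≤ Cfsg.pResidual p P ⊔ M.normalCore → N = M.normalCore ∨ N = Cfsg.pResidual p P ⊔ M.normalCore) ∧ M.normalCore < Cfsg.pResidual p P ⊔ M.normalCore := by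
  haveI : (Cfsg.pResidual p P).Normal := PResidual.pResidual_normal
  have hRtop := PResidual.pResidual_sup_sylow S
  have h3 : ∀ N : Subgroup P, N.Normal → Cfsg.pResidual p P ≤ N ∨ N ≤ M.normalCore := by
    intro N hN
    by_cases hNM : N ≤ M
    · exact Or.inr (Subgroup.normal_le_normalCore.mpr hNM)
    · refine Or.inl (PResidual.pResidual_le_of_sup_eq_top (P := (S : Subgroup P)) S.2 ?_)
      by_contra hne
      exact hNM (le_sup_right.trans (le_M hP S hM hSM le_sup_left hne))
  refine ⟨fun N hN hNM => subnormal_le hP S hM hSM hN hNM, two_primes hP S hM hSM, h3, fun N hN h1 h2 => ?_, ?_⟩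
  · rcases h3 N hN with h | h
    · exact Or.inr (le_antisymm h2 (sup_le h h1))
    · exact Or.inl (le_antisymm h h1)
  · refine lt_of_le_of_ne le_sup_right fun e => hM.1 (top_le_iff.mp (hRtop.ge.trans (sup_le hSM ?_)))
    exact (le_sup_left.trans e.ge).trans (Subgroup.normalCore_le M)

end Cfsg.Agent.S2905
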