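import Cfsg.Statements.S2906
import Mathlib
import Cfsg.Agent.S2905
import Cfsg.Agent.Lib.Components
import Cfsg.Agent.Lib.SubnormalSylow
import Cfsg.Agent.Lib.CharP

set_option autoImplicit false
set_option linter.unusedVariables false
open Cfsg
open scoped commutatorElement

namespace Cfsg.Agent.S2906

open CfsgLib Cfsg.Agent.S2905

variable {P : Type*} [Group P] [Finite P] {p : ℕ} [Fact p.Prime]

theorem pmin_prop_map {H K : Type*} [Group H] [Group K] (e : H ≃* K) (S : Subgroup H)
    (h : ¬ S.Normal ∧ ∃! M : Subgroup H, IsCoatom M ∧ S ≤ M) :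
    ¬ (S.map e.toMonoidHom).Normal ∧ ∃! M : Subgroup K, IsCoatom M ∧ S.map e.toMonoidHom ≤ M := by
  obtain ⟨hn, M, ⟨hM, hSM⟩, hu⟩ := h
  refine ⟨fun hN => hn ?_, (MulEquiv.mapSubgroup e) M, ⟨?_, ?_⟩, ?_⟩
  · have := hN.comap e.toMonoidHom
    rwa [Subgroup.comap_map_eq_self_of_injective e.injective] at this
  · exact (OrderIso.isCoatom_iff (MulEquiv.mapSubgroup e) M).2 hM
  · exact Subgroup.map_mono hSM
  · rintro M' ⟨hM', hSM'⟩
    have h1 : IsCoatom ((MulEquiv.mapSubgroup e).symm M') :=
      (OrderIso.isCoatom_iff (MulEquiv.mapSubgroup e).symm M').2 hM'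
    have h2 : S ≤ (MulEquiv.mapSubgroup e).symm M' :=
      (OrderIso.le_symm_apply (MulEquiv.mapSubgroup e)).2 hSM'
    rw [← hu _ ⟨h1, h2⟩, OrderIso.apply_symm_apply]

theorem index_eq_relIndex {G : Type*} [Group G] [Finite G] (R N : Subgroup G) [R.Normal] (hfr : R ⊔ N = ⊤) :
    N.index = N.relIndex R := by
  have e1 : R.relIndex N = R.index := by
    rw [← Subgroup.relIndex_sup_left (K := R) (H := N), hfr, Subgroup.relIndex_top_right]
  have e2 := Subgroup.relIndex_mul_index (inf_le_left : R ⊓ N ≤ R)
  have e3 := Subgroup.relIndex_mul_index (inf_le_right : R ⊓ N ≤ N)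
  rw [Subgroup.inf_relIndex_left] at e2
  rw [Subgroup.inf_relIndex_right, e1] at e3
  exact Nat.eq_of_mul_eq_mul_left (Nat.pos_of_ne_zero Subgroup.index_ne_zero_of_finite) ((e3.trans e2.symm).trans (mul_comm _ _))

theorem prime_to_p (S : Sylow p P) (N : Subgroup P) [N.Normal] (h : N ⊓ (S : Subgroup P) = ⊥) : ¬ p ∣ Nat.card ↥N := by
  obtain ⟨Q, hQ⟩ := PLocal.exists_sylow_inf S N
  intro hd
  have h1 := Q.dvd_card_of_dvd_card hd
  rw [← Subgroup.card_map_of_injective N.subtype_injective, hQ, inf_comm, h, Subgroup.card_bot] at h1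
  exact (Fact.out : p.Prime).not_dvd_one h1

theorem invariant_conj (S : Sylow p P) (N : Subgroup P) [N.Normal] (hN : ¬ p ∣ Nat.card ↥N) {r : ℕ} [Fact r.Prime]
    (Q : Sylow r ↥N) :
    ∃ g : P, (S : Subgroup P) ≤ Subgroup.normalizer (((((Q : Subgroup ↥N).map N.subtype)).map (MulAut.conj g).toMonoidHom : Subgroup P) : Set P) ∧
      N ⊔ Subgroup.normalizer (((Q : Subgroup ↥N).map N.subtype : Subgroup P) : Set P) = ⊤ := by
  have hfr : N ⊔ Subgroup.normalizer (((Q : Subgroup ↥N).map N.subtype : Subgroup P) : Set P) = ⊤ := by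
    rw [sup_comm]; exact Sylow.normalizer_sup_eq_top Q
  obtain ⟨S', hS'⟩ := exists_sylow_le_of_not_dvd_index (p := p)
    (Subgroup.normalizer (((Q : Subgroup ↥N).map N.subtype : Subgroup P) : Set P))
    (fun hd => hN (hd.trans (index_eq_relIndex N _ hfr ▸ Subgroup.relIndex_dvd_card _ _)))
  obtain ⟨g, hg⟩ := MulAction.exists_smul_eq P S' S
  refine ⟨g, ?_, hfr⟩
  rw [← hg, Sylow.coe_subgroup_smul]
  exact (Subgroup.map_mono hS').trans (Subgroup.le_normalizer_map _)

theorem nilpotent_of_le (hP : Cfsg.IsPMinimal p P) (hOp : Cfsg.pCore p P = ⊥) (S : Sylow p P) {M : Subgroup P}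
    (hM : IsCoatom M) (hSM : (S : Subgroup P) ≤ M) (N : Subgroup P) [N.Normal] (hNM : N ≤ M) : Group.IsNilpotent ↥N := by
  have h0 : N ⊓ (S : Subgroup P) = ⊥ := le_bot_iff.mp (hOp ▸ inter_normal hP S hM hSM N hNM)
  refine ((Group.isNilpotent_of_finite_tfae (G := ↥N)).out 0 3).mpr fun r hr Q => ?_
  haveI := hr
  obtain ⟨g, hg, hfr⟩ := invariant_conj S N (prime_to_p S N h0) Q
  set Q0 := (Q : Subgroup ↥N).map N.subtype
  have htop : Subgroup.normalizer ((Q0.map (MulAut.conj g).toMonoidHom : Subgroup P) : Set P) = ⊤ := by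
    by_contra hne
    have h1 := le_M hP S hM hSM hg hne
    have h2 : N ⊔ Subgroup.normalizer ((Q0.map (MulAut.conj g).toMonoidHom : Subgroup P) : Set P) = ⊤ := by
      refine top_le_iff.mp ?_
      rw [← Subgroup.map_top_of_surjective (MulAut.conj g).toMonoidHom (MulEquiv.surjective (MulAut.conj g)), ← hfr,
        Subgroup.map_sup]
      exact sup_le_sup (Local.map_conj_eq_of_mem_normalizer ((Subgroup.normalizer_eq_top (H := N)).ge (Subgroup.mem_top g))).le
        (Subgroup.le_normalizer_map _)
    exact hM.1 (top_le_iff.mp (h2.ge.trans (sup_le hNM h1)))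
  haveI := Subgroup.normalizer_eq_top_iff.mp htop
  have hQn : Q0.Normal := by
    have e : Q0 = Q0.map (MulAut.conj g).toMonoidHom := by
      have h2 := Local.map_conj_eq_of_mem_normalizer (H := Q0.map (MulAut.conj g).toMonoidHom)
        ((Subgroup.normalizer_eq_top (H := Q0.map (MulAut.conj g).toMonoidHom)).ge (Subgroup.mem_top g⁻¹))
      rw [Local.map_conj_mul, inv_mul_cancel] at h2
      rw [← h2]
      ext x; simp [Local.mem_map_conj]
    rw [e]; infer_instance
  have := hQn.comap N.subtype
  rwa [Subgroup.comap_map_eq_self_of_injective N.subtype_injective] at this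

theorem inf_sylow_eq_bot_sup (S : Sylow p P) {ι : Type*} (s : Finset ι) (f : ι → Subgroup P) (B : Subgroup P)
    (hf : ∀ i ∈ s, (f i).IsSubnormal) (hB : ∀ i ∈ s, f i ⊓ (S : Subgroup P) ≤ B) : s.sup f ⊓ (S : Subgroup P) ≤ B := by
  have h : (s.sup f).IsSubnormal ∧ s.sup f ⊓ (S : Subgroup P) ≤ B := by
    refine Finset.sup_induction (p := fun H : Subgroup P => H.IsSubnormal ∧ H ⊓ (S : Subgroup P) ≤ B) ?_ ?_ ?_
    · exact ⟨Subgroup.Normal.isSubnormal inferInstance, by rw [bot_inf_eq]; exact bot_le⟩
    · rintro a ⟨ha, ha'⟩ b ⟨hb, hb'⟩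
      exact ⟨isSubnormal_sup ha hb, by rw [SubnormalSylow.sup_inf_sylow S ha hb]; exact sup_le ha' hb'⟩
    · exact fun i hi => ⟨hf i hi, hB i hi⟩
  exact h.2

theorem sup_conj_inf_le (S : Sylow p P) (K : Subgroup P) (hK : K.IsSubnormal) (B : Subgroup P)
    (hB : ∀ s ∈ (S : Subgroup P), (K ⊓ (S : Subgroup P)).map (MulAut.conj s).toMonoidHom ≤ B) :
    (⨆ s : ↥(S : Subgroup P), K.map (MulAut.conj (s : P)).toMonoidHom) ⊓ (S : Subgroup P) ≤ B := by
  classical
  haveI := Fintype.ofFinite ↥(S : Subgroup P)
  rw [← Finset.sup_univ_eq_iSup]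
  refine inf_sylow_eq_bot_sup S _ _ B (fun s _ => hK.map (MulEquiv.surjective _)) fun s _ => ?_
  refine le_trans ?_ (hB s s.2)
  rw [Subgroup.map_inf _ _ _ (MulAut.conj (s : P)).injective, Local.map_conj_eq_of_mem_normalizer (Subgroup.le_normalizer s.2)]

/-- Let P be a finite p-minimal group with O_p(P) = 1, S a Sylow p-subgroup of P and K a component of P. Then O^p(P) = F*(P) = E(P) is generated by the S-conjugates of K, and the subgroup K·N_S(K) is again p-minimal. -/
theorem result {P : Type*} [Group P] [Finite P] {p : ℕ} [Fact p.Prime] (hP : Cfsg.IsPMinimal p P) (hOp : Cfsg.pCore p P = ⊥) (S : Sylow p P) (K : Subgroup P) (hK : Cfsg.IsComponent K) : Cfsg.pResidual p P = Cfsg.generalizedFittingSubgroup P ∧ Cfsg.generalizedFittingSubgroup P = Cfsg.layer P ∧ Cfsg.layer P = ⨆ s : ↥(S : Subgroup P), K.map (MulAut.conj (s : P)).toMonoidHom ∧ Cfsg.IsPMinimal p ↥(K ⊔ ((S : Subgroup P) ⊓ Subgroup.normalizer (K : Set P))) := by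
  obtain ⟨-, M, ⟨hM, hSM⟩, -⟩ := hP S
  set R := Cfsg.pResidual p P with hR
  haveI : R.Normal := PResidual.pResidual_normal
  have hRtop : (S : Subgroup P) ⊔ R = ⊤ := PResidual.pResidual_sup_sylow S
  have hdich : ∀ N : Subgroup P, N.Normal → K ≤ N → R ≤ N := by
    intro N hN hKN
    refine PResidual.pResidual_le_of_sup_eq_top S.2 ?_
    by_contra hne
    have hNM : N ≤ M := le_sup_right.trans (le_M hP S hM hSM le_sup_left hne)
    haveI := nilpotent_of_le hP hOp S hM hSM N hNM
    exact component_not_le_of_isSolvable hK inferInstance hKN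
  set E := Cfsg.layer P with hE
  have hEn : E.Normal := inferInstance
  have hRE : R ≤ E := hdich E hEn (le_layer hK)
  have hER : E ≤ R := by
    let π := QuotientGroup.mk' R
    have hq : IsPGroup p (P ⧸ R) := by
      intro q
      obtain ⟨x, rfl⟩ := QuotientGroup.mk'_surjective R q
      obtain ⟨k, hk⟩ := PResidual.pow_mem_pResidual (p := p) x
      exact ⟨k, by rw [← map_pow]; exact (QuotientGroup.eq_one_iff _).mpr hk⟩
    haveI := hq.isNilpotent
    rw [← QuotientGroup.ker_mk' R, ← Subgroup.map_eq_bot_iff]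
    by_contra hne
    have h1 : ⁅E.map π, E.map π⁆ = E.map π := by rw [← Subgroup.map_commutator, hE, layer_commutator_self]
    exact (Group.IsSolvable.commutator_lt_of_ne_bot hne).ne h1
  have hEeq : R = E := le_antisymm hRE hER
  have hEK : ∀ L : Subgroup P, Cfsg.IsComponent L → E ≤ Subgroup.normalizer (L : Set P) := by
    intro L hL
    refine sSup_le fun C hC => ?_
    rcases components_eq_or_commute hC hL with rfl | hc
    · exact Subgroup.le_normalizer
    · intro c hc'
      have h1 := Subgroup.mem_centralizer_iff.mp (Subgroup.commutator_eq_bot_iff_le_centralizer.mp hc hc')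
      refine Local.mem_normalizer_of_map_conj_eq ?_
      ext x
      rw [Local.mem_map_conj]
      constructor
      · intro hx
        have h2 := h1 _ hx
        have e : x = c⁻¹ * x * c := by
          have h3 := congrArg (fun y => y * c⁻¹) h2
          simp only [mul_assoc, mul_inv_cancel_left, mul_inv_cancel, mul_one] at h3
          simp only [mul_assoc]
          exact h3.symm
        rw [e]; exact hx
      · intro hx
        rw [mul_assoc, h1 x hx, inv_mul_cancel_left]
        exact hx
  have hcomp : ∀ s : P, Cfsg.IsComponent (K.map (MulAut.conj s).toMonoidHom) := fun s => isComponent_map_equiv (MulAut.conj s) hK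
  set Y := ⨆ s : ↥(S : Subgroup P), K.map (MulAut.conj (s : P)).toMonoidHom with hY
  have hKY : K ≤ Y := by
    refine le_trans ?_ (le_iSup (fun s : ↥(S : Subgroup P) => K.map (MulAut.conj (s : P)).toMonoidHom) 1)
    intro k hk
    exact ⟨k, hk, by simp⟩
  have hYE : Y ≤ E := iSup_le fun s => le_layer (hcomp s)
  have hYS : (S : Subgroup P) ≤ Subgroup.normalizer (Y : Set P) := by
    intro t ht
    refine Local.mem_normalizer_of_map_conj_eq (Subgroup.eq_of_le_of_card_ge ?_
      (Subgroup.card_map_of_injective (f := (MulAut.conj t).toMonoidHom) (MulEquiv.injective _)).ge)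
    rw [hY, Subgroup.map_iSup]
    refine iSup_le fun s => ?_
    rw [Local.map_conj_mul]
    exact le_iSup (fun s : ↥(S : Subgroup P) => K.map (MulAut.conj (s : P)).toMonoidHom) (⟨t, ht⟩ * s)
  haveI hYn : Y.Normal := by
    refine Subgroup.normalizer_eq_top_iff.mp (top_le_iff.mp (hRtop.ge.trans (sup_le hYS ?_)))
    intro e he
    refine Local.mem_normalizer_of_map_conj_eq ?_
    rw [hY, Subgroup.map_iSup]
    exact iSup_congr fun s => Local.map_conj_eq_of_mem_normalizer (hEK _ (hcomp s) (hRE he))
  have hYeq : E = Y := le_antisymm (hER.trans (hdich Y hYn hKY)) hYE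
  refine ⟨?_, ?_, hYeq, ?_⟩
  rotate_left
  · refine le_antisymm (sup_le le_rfl ?_) le_sup_left
    intro x hx
    have hFM : Cfsg.fittingSubgroup P ≤ M := by
      by_contra hne
      have h1 : (S : Subgroup P) ⊔ Cfsg.fittingSubgroup P = ⊤ := by
        by_contra h2
        exact hne (le_sup_right.trans (le_M hP S hM hSM le_sup_left h2))
      haveI := isNilpotent_fittingSubgroup (G := P)
      exact component_not_le_of_isSolvable hK inferInstance
        ((le_layer hK).trans (hER.trans (PResidual.pResidual_le_of_sup_eq_top S.2 h1)))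
    have h0 : Cfsg.fittingSubgroup P ⊓ (S : Subgroup P) = ⊥ := le_bot_iff.mp (hOp ▸ inter_normal hP S hM hSM _ hFM)
    refine hRE (Subgroup.subset_closure ?_)
    refine ((Fact.out : p.Prime).coprime_iff_not_dvd.mpr fun hd => prime_to_p S _ h0 (hd.trans ?_)).symm
    rw [← Subgroup.orderOf_mk x hx]
    exact orderOf_dvd_natCard _
  · have hEK' : E ≤ Subgroup.normalizer (K : Set P) := hEK K hK
    have hKS : K ⊓ (S : Subgroup P) ≠ ⊥ := by
      intro h0
      have hE0 : E ⊓ (S : Subgroup P) = ⊥ := by
        rw [hYeq]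
        exact le_bot_iff.mp (sup_conj_inf_le S K hK.1 ⊥ fun s _ => by rw [h0, Subgroup.map_bot])
      have hp' := prime_to_p S E hE0
      have hEM : E ≤ M := by
        rw [← Subgroup.relIndex_eq_one]
        by_contra h1
        obtain ⟨r, hr, hrd⟩ := Nat.exists_prime_and_dvd h1
        haveI : Fact r.Prime := ⟨hr⟩
        obtain ⟨Q⟩ : Nonempty (Sylow r ↥E) := inferInstance
        obtain ⟨g, hg, -⟩ := invariant_conj S E hp' Q
        set Q1 := ((Q : Subgroup ↥E).map E.subtype).map (MulAut.conj g).toMonoidHom with hQ1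
        have hne : Q1 ⊔ (S : Subgroup P) ≠ ⊤ := by
          intro htop
          haveI : Q1.Normal := Subgroup.normalizer_eq_top_iff.mp (top_le_iff.mp (htop.ge.trans (sup_le Subgroup.le_normalizer hg)))
          have hle := PResidual.pResidual_le_of_sup_eq_top S.2 (by rwa [sup_comm] at htop)
          have hn : IsPGroup r ↥Q1 := (Q.2.map _).map _
          haveI := hn.isNilpotent
          exact component_not_le_of_isSolvable hK inferInstance ((le_layer hK).trans (hER.trans hle))
        have hQM : Q1 ≤ M := le_sup_left.trans (le_M hP S hM hSM le_sup_right hne)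
        have hd2 := hrd.trans (Subgroup.relIndex_dvd_of_le_left E hQM)
        have e : Q1.relIndex E = ((Q : Subgroup ↥E).map E.subtype).relIndex E := by
          conv_lhs => rw [← Local.map_conj_eq_of_mem_normalizer ((Subgroup.normalizer_eq_top (H := E)).ge (Subgroup.mem_top g))]
          exact Subgroup.relIndex_map_map_of_injective _ _ (MulEquiv.injective (MulAut.conj g))
        rw [e, Subgroup.relIndex, Subgroup.subgroupOf, Subgroup.comap_map_eq_self_of_injective E.subtype_injective] at hd2
        exact Q.not_dvd_index hd2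
      haveI := nilpotent_of_le hP hOp S hM hSM E hEM
      exact component_not_le_of_isSolvable hK inferInstance (le_layer hK)
    set T := (S : Subgroup P) ⊓ Subgroup.normalizer (K : Set P) with hT
    set H := K ⊔ T with hH
    have hHK : H ≤ Subgroup.normalizer (K : Set P) := sup_le Subgroup.le_normalizer inf_le_right
    haveI : (K.subgroupOf H).Normal := (Subgroup.normal_subgroupOf_iff_le_normalizer le_sup_left).mpr hHK
    have hTi : ¬ p ∣ (T.subgroupOf H).index := by
      rw [index_eq_relIndex (K.subgroupOf H) (T.subgroupOf H) (by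
        rw [← Subgroup.subgroupOf_sup le_sup_left le_sup_right, Subgroup.subgroupOf_self]),
        Subgroup.relIndex_subgroupOf le_sup_left, ← Subgroup.inf_relIndex_right,
        show T ⊓ K = (S : Subgroup P) ⊓ K by
          rw [hT, inf_assoc, inf_eq_right.mpr (Subgroup.le_normalizer : K ≤ _)]]
      exact (Cfsg.FusionSystem.isSylowIn_inf_of_isSubnormal S hK.1).2.2
    let T' : Sylow p ↥H := IsPGroup.toSylow (P := T.subgroupOf H)
      ((S.2.to_le inf_le_left).comap_of_injective H.subtype H.subtype_injective) hTi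
    have hTn : ¬ (T.subgroupOf H).Normal := by
      intro hn
      refine hKS (le_bot_iff.mp (hOp ▸ isSubnormal_isPGroup_le_pCore ?_ (S.2.to_le inf_le_right)))
      refine Subgroup.IsSubnormal.step _ _ inf_le_left hK.1 ?_
      refine (Subgroup.normal_subgroupOf_iff inf_le_left).mpr fun x k hx hk => ⟨K.mul_mem (K.mul_mem hk hx.1) (K.inv_mem hk), ?_⟩
      have h1 := hn.conj_mem ⟨x, Subgroup.mem_sup_left hx.1⟩
        (Subgroup.mem_subgroupOf.mpr ⟨hx.2, Subgroup.le_normalizer hx.1⟩) ⟨k, Subgroup.mem_sup_left hk⟩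
      exact (Subgroup.mem_subgroupOf.mp h1).1
    have hMH : (M ⊓ H).subgroupOf H ≠ ⊤ := by
      intro h
      have hKM : K ≤ M := le_sup_left.trans ((Subgroup.subgroupOf_eq_top.mp h).trans inf_le_left)
      have hYM : Y ≤ M := iSup_le fun s => Local.map_conj_le fun k hk => M.mul_mem (M.mul_mem (hSM s.2) (hKM hk)) (M.inv_mem (hSM s.2))
      haveI := nilpotent_of_le hP hOp S hM hSM Y hYM
      exact component_not_le_of_isSolvable hK inferInstance hKY
    have huniq : ∀ H0 : Subgroup ↥H, IsCoatom H0 → T.subgroupOf H ≤ H0 → H0 = (M ⊓ H).subgroupOf H := by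
      intro H0 h0 hTH0
      set A := H0.map H.subtype with hA
      have hTA : T ≤ A := fun t ht => ⟨⟨t, Subgroup.mem_sup_right ht⟩, hTH0 (Subgroup.mem_subgroupOf.mpr ht), rfl⟩
      set X := A ⊓ K with hX
      have hTX : T ≤ Subgroup.normalizer (X : Set P) := by
        intro t ht
        refine Local.mem_normalizer_of_map_conj_eq ?_
        rw [hX, Subgroup.map_inf _ _ _ (MulAut.conj t).injective, Local.map_conj_eq_of_mem_normalizer (Subgroup.le_normalizer (hTA ht)),
          Local.map_conj_eq_of_mem_normalizer ht.2]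
      set L := ⨆ s : ↥(S : Subgroup P), X.map (MulAut.conj (s : P)).toMonoidHom with hL
      have hXL : X ≤ L := by
        refine le_trans ?_ (le_iSup (fun s : ↥(S : Subgroup P) => X.map (MulAut.conj (s : P)).toMonoidHom) 1)
        intro k hk
        exact ⟨k, hk, by simp⟩
      have hSL : (S : Subgroup P) ≤ Subgroup.normalizer (L : Set P) := by
        intro t ht
        refine Local.mem_normalizer_of_map_conj_eq (Subgroup.eq_of_le_of_card_ge ?_
          (Subgroup.card_map_of_injective (f := (MulAut.conj t).toMonoidHom) (MulEquiv.injective _)).ge)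
        rw [hL, Subgroup.map_iSup]
        refine iSup_le fun s => ?_
        rw [Local.map_conj_mul]
        exact le_iSup (fun s : ↥(S : Subgroup P) => X.map (MulAut.conj (s : P)).toMonoidHom) (⟨t, ht⟩ * s)
      have hAle : A ≤ H := Subgroup.map_subtype_le _
      have hTsupA : A ≤ X ⊔ T := by
        intro a ha
        have hm : a ∈ K ⊔ T := hAle ha
        rw [← SetLike.mem_coe, Subgroup.coe_mul_of_right_le_normalizer_left K T inf_le_right] at hm
        obtain ⟨k, hk, t, ht, rfl⟩ := hm
        refine Subgroup.mul_mem _ (Subgroup.mem_sup_left ⟨?_, hk⟩) (Subgroup.mem_sup_right ht)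
        have := A.mul_mem ha (A.inv_mem (hTA ht))
        rwa [mul_inv_cancel_right] at this
      by_cases htop : L ⊔ (S : Subgroup P) = ⊤
      · exfalso
        have hEL : E ≤ L := by
          intro e he
          have hm : e ∈ L ⊔ (S : Subgroup P) := htop ▸ Subgroup.mem_top e
          rw [← SetLike.mem_coe, Subgroup.coe_mul_of_right_le_normalizer_left L _ hSL] at hm
          obtain ⟨l, hl, s, hs, rfl⟩ := hm
          refine L.mul_mem hl ?_
          have hlE : l ∈ E := (iSup_le fun s => (Subgroup.map_mono inf_le_right).trans (le_layer (hcomp s)) : L ≤ E) hl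
          have hsE : s ∈ E := by simpa using E.mul_mem (E.inv_mem hlE) he
          rw [hYeq] at hsE
          refine sup_conj_inf_le S K hK.1 L (fun u hu => ?_) ⟨hsE, hs⟩
          refine le_trans (Subgroup.map_mono ?_) (le_iSup (fun s : ↥(S : Subgroup P) => X.map (MulAut.conj (s : P)).toMonoidHom) ⟨u, hu⟩)
          exact fun y hy => ⟨hTA ⟨hy.2, Subgroup.le_normalizer hy.1⟩, hy.1⟩
        set C := Subgroup.centralizer (K : Set P) with hC
        have hLXC : L ≤ X ⊔ C := by
          refine iSup_le fun s => ?_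
          by_cases hs : (s : P) ∈ Subgroup.normalizer (K : Set P)
          · exact (Local.map_conj_eq_of_mem_normalizer (hTX ⟨s.2, hs⟩)).le.trans le_sup_left
          · refine le_trans (le_trans (Subgroup.map_mono inf_le_right) ?_) le_sup_right
            rcases components_eq_or_commute (hcomp s) hK with h | h
            · exact absurd (Local.mem_normalizer_of_map_conj_eq h) hs
            · exact Subgroup.commutator_eq_bot_iff_le_centralizer.mp h
        have hXC : X ≤ Subgroup.normalizer (C : Set P) :=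
          (inf_le_right.trans Subgroup.le_normalizer).trans (CharP.normalizer_le_normalizer_centralizer K)
        have hfac : ∀ k ∈ K, ∃ x ∈ X, ∃ c : P, (∀ y ∈ K, y * c = c * y) ∧ k = x * c := by
          intro k hk
          have hm := hLXC (hEL (le_layer hK hk))
          rw [← SetLike.mem_coe, Subgroup.coe_mul_of_left_le_normalizer_right X C hXC] at hm
          obtain ⟨x, hx, c, hc, rfl⟩ := hm
          exact ⟨x, hx, c, Subgroup.mem_centralizer_iff.mp hc, rfl⟩
        have hKX : K ≤ X := by
          rw [← isComponent_commutator_self hK, Subgroup.commutator_le]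
          intro a ha b hb
          obtain ⟨x, hx, c, hc, rfl⟩ := hfac a ha
          obtain ⟨y, hy, d, hd, rfl⟩ := hfac b hb
          have e : ⁅x * c, y * d⁆ = ⁅x, y⁆ := by
            have c1 : c * (y * d) = y * d * c := (hc _ hb).symm
            have d1 : d * x = x * d := (hd x hx.2).symm
            calc ⁅x * c, y * d⁆ = x * (c * (y * d)) * c⁻¹ * x⁻¹ * (y * d)⁻¹ := by rw [commutatorElement_def]; group
              _ = x * y * (d * x⁻¹ * d⁻¹) * y⁻¹ := by rw [c1]; group
              _ = x * y * x⁻¹ * y⁻¹ := by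
                have d2 : d * x⁻¹ * d⁻¹ = x⁻¹ := by
                  rw [show d * x⁻¹ = x⁻¹ * d from by
                    rw [eq_inv_mul_iff_mul_eq, ← mul_assoc, ← d1, mul_inv_cancel_right], mul_inv_cancel_right]
                rw [d2]
              _ = _ := (commutatorElement_def x y).symm
          rw [e, commutatorElement_def]
          exact X.mul_mem (X.mul_mem (X.mul_mem hx hy) (X.inv_mem hx)) (X.inv_mem hy)
        refine h0.1 (top_le_iff.mp fun z _ => ?_)
        have hz : H ≤ A := sup_le (hKX.trans inf_le_left) hTA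
        obtain ⟨w, hw, e⟩ := hz z.2
        rwa [← Subtype.ext (e : (w : P) = z)]
      · have hXM : X ≤ M := hXL.trans (le_sup_left.trans (le_M hP S hM hSM le_sup_right htop))
        have hle : H0 ≤ (M ⊓ H).subgroupOf H := fun z hz => Subgroup.mem_subgroupOf.mpr
          ⟨sup_le hXM (inf_le_left.trans hSM) (hTsupA ⟨z, hz, rfl⟩), z.2⟩
        exact (eq_of_le_of_not_lt hle fun hlt => hMH (h0.2 _ hlt))
    intro S''
    obtain ⟨g, rfl⟩ := MulAction.exists_smul_eq ↥H T' S''
    refine pmin_prop_map (MulAut.conj g) (T' : Subgroup ↥H) ⟨hTn, ?_⟩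
    obtain ⟨H0, h0, hle⟩ := (eq_top_or_exists_le_coatom (T.subgroupOf H)).resolve_left fun h => hTn (h ▸ inferInstance)
    exact ⟨H0, ⟨h0, hle⟩, fun H1 h1 => (huniq H1 h1.1 h1.2).trans (huniq H0 h0 hle).symm⟩
  · rw [hEeq]
    refine le_antisymm le_sup_left (sup_le le_rfl ?_)
    intro x hx
    have hFM : Cfsg.fittingSubgroup P ≤ M := by
      by_contra hne
      have h1 : (S : Subgroup P) ⊔ Cfsg.fittingSubgroup P = ⊤ := by
        by_contra h2
        exact hne (le_sup_right.trans (le_M hP S hM hSM le_sup_left h2))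
      haveI := isNilpotent_fittingSubgroup (G := P)
      exact component_not_le_of_isSolvable hK inferInstance
        ((le_layer hK).trans (hER.trans (PResidual.pResidual_le_of_sup_eq_top S.2 h1)))
    have h0 : Cfsg.fittingSubgroup P ⊓ (S : Subgroup P) = ⊥ := le_bot_iff.mp (hOp ▸ inter_normal hP S hM hSM _ hFM)
    refine hRE (Subgroup.subset_closure ?_)
    refine ((Fact.out : p.Prime).coprime_iff_not_dvd.mpr fun hd => prime_to_p S _ h0 (hd.trans ?_)).symm
    rw [← Subgroup.orderOf_mk x hx]
    exact orderOf_dvd_natCard _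

end Cfsg.Agent.S2906
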