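import Cfsg.Statements.S4014
import Mathlib
import Cfsg.Agent.Lib.PLengthBound
import Cfsg.Agent.Lib.CentralizerMaximal
-- import your own Cfsg.Agent.* helpers here

set_option autoImplicit false
open Cfsg

namespace Cfsg.Agent.S4014

section

open scoped commutatorElement

theorem derived_proj {D Q : Type*} [Group D] [Group Q] {q : Q} (hq : q ≠ 1) :
    ∀ j : ℕ, ∀ a ∈ derivedSeries D j, ∃ w ∈ derivedSeries (RegularWreathProduct D Q) (j + 1),
      w.right = 1 ∧ w.left 1 = a := by
  classical
  intro j
  induction j with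
  | zero =>
    intro a _
    let δ : RegularWreathProduct D Q := ⟨Function.update 1 1 a, 1⟩
    refine ⟨⁅δ, RegularWreathProduct.inl q⁆, ?_, ?_, ?_⟩
    · rw [derivedSeries_succ, derivedSeries_zero]
      exact Subgroup.commutator_mem_commutator (Subgroup.mem_top _) (Subgroup.mem_top _)
    · simp [commutatorElement_def, δ]
    · simp [commutatorElement_def, δ, Function.update_of_ne (inv_ne_one.mpr hq), Function.update_of_ne hq]
  | succ j ih =>
    intro a ha
    let S : Subgroup D :=
      { carrier := {a | ∃ w ∈ derivedSeries (RegularWreathProduct D Q) (j + 1 + 1), w.right = 1 ∧ w.left 1 = a}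
        one_mem' := ⟨1, one_mem _, rfl, rfl⟩
        mul_mem' := fun {x y} ⟨u, hu, hur, hux⟩ ⟨v, hv, hvr, hvy⟩ =>
          ⟨u * v, mul_mem hu hv, by simp [hur, hvr], by simp [hur, hux, hvy]⟩
        inv_mem' := fun {x} ⟨u, hu, hur, hux⟩ => ⟨u⁻¹, inv_mem hu, by simp [hur], by simp [hur, hux]⟩ }
    suffices h : derivedSeries D (j + 1) ≤ S from h ha
    rw [derivedSeries_succ, Subgroup.commutator_le]
    intro x hx y hy
    obtain ⟨u, hu, hur, hux⟩ := ih x hx
    obtain ⟨v, hv, hvr, hvy⟩ := ih y hy
    refine ⟨⁅u, v⁆, ?_, ?_, ?_⟩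
    · rw [derivedSeries_succ _ (j + 1)]
      exact Subgroup.commutator_mem_commutator hu hv
    · simp [commutatorElement_def, hur, hvr]
    · simp [commutatorElement_def, hur, hvr, hux, hvy]

theorem derived_iterated {Q : Type} [Group Q] [Nontrivial Q] :
    ∀ k : ℕ, derivedSeries (IteratedWreathProduct Q (k + 1)) k ≠ ⊥ := by
  obtain ⟨q, hq⟩ := exists_ne (1 : Q)
  intro k
  induction k with
  | zero =>
    rw [derivedSeries_zero]
    intro h
    have h1 : (RegularWreathProduct.inl q : IteratedWreathProduct Q (0 + 1)) = 1 :=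
      Subgroup.mem_bot.mp (h ▸ Subgroup.mem_top _)
    exact hq (congrArg RegularWreathProduct.right h1)
  | succ k ih =>
    intro h
    refine ih ((Subgroup.eq_bot_iff_forall _).mpr fun a ha => ?_)
    obtain ⟨w, hw, -, hwl⟩ := derived_proj hq k a ha
    have h1 : w = 1 := Subgroup.mem_bot.mp (h ▸ hw)
    rw [← hwl, h1]; rfl

theorem derived_fix {P α : Type*} [Group P] [Finite P] [MulAction P α] {p : ℕ} [Fact p.Prime] (hP : IsPGroup p P) :
    ∀ (a : ℕ) (x : α), Nat.card (MulAction.orbit P x) ≤ p ^ a → ∀ g ∈ derivedSeries P a, g • x = x := by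
  intro a
  induction a generalizing P with
  | zero =>
    intro x hx g _
    have : Finite (MulAction.orbit P x) := Finite.of_surjective (fun g : P => (⟨g • x, g, rfl⟩ : MulAction.orbit P x))
      (fun ⟨_, g, rfl⟩ => ⟨g, rfl⟩)
    rw [pow_zero, Finite.card_le_one_iff_subsingleton] at hx
    exact congrArg Subtype.val (Subsingleton.elim (⟨g • x, g, rfl⟩ : MulAction.orbit P x) ⟨x, MulAction.mem_orbit_self x⟩)
  | succ a ih =>
    intro x hx g hg
    have hidx : (MulAction.stabilizer P x).index = Nat.card (MulAction.orbit P x) := by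
      rw [MulAction.index_stabilizer, Nat.card_coe_set_eq]
    obtain ⟨b, hb⟩ := hP.index (MulAction.stabilizer P x)
    by_cases hba : b ≤ a
    · refine ih hP x (by rw [← hidx, hb]; exact Nat.pow_le_pow_right (Fact.out : p.Prime).pos hba) g ?_
      exact derivedSeries_antitone P (Nat.le_succ a) hg
    · have hne : MulAction.stabilizer P x ≠ ⊤ := by
        intro e
        rw [e, Subgroup.index_top] at hb
        have := Nat.one_lt_pow (show b ≠ 0 by omega) (Fact.out : p.Prime).one_lt
        omega
      obtain ⟨M, hM, hle⟩ := (eq_top_or_exists_le_coatom _).resolve_left hne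
      haveI := hP.isNilpotent
      haveI : M.Normal := Subgroup.NormalizerCondition.normal_of_coatom M Group.normalizerCondition_of_isNilpotent hM
      obtain ⟨hp, hcomm⟩ := CfsgLib.CentMax.normal_coatom hM
      have h1 : derivedSeries P 1 ≤ M := by
        rw [derivedSeries_one]
        rw [commutator_def, Subgroup.commutator_le]
        intro u _ v _
        exact hcomm u v
      have h2 := CfsgLib.PLengthBound.derivedSeries_add_le M h1 a
      rw [Nat.add_comm 1 a] at h2
      obtain ⟨m, hm, rfl⟩ := h2 hg
      refine ih (hP.to_subgroup M) x ?_ m hm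
      have hsub : (MulAction.stabilizer M x) = (MulAction.stabilizer P x).subgroupOf M := by
        ext y; rfl
      have h3 : (MulAction.stabilizer M x).index * M.index = (MulAction.stabilizer P x).index := by
        rw [hsub]; exact Subgroup.relIndex_mul_index hle
      rw [MulAction.index_stabilizer, ← Nat.card_coe_set_eq, hidx] at h3
      obtain ⟨c, hc⟩ := hP.index M
      have hMp : p ≤ M.index := by
        rw [hc] at hp ⊢
        exact Nat.le_self_pow (fun e => hp.ne_one (by rw [e, pow_zero])) p
      by_contra hlt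
      have h4 := Nat.mul_lt_mul_of_lt_of_le (not_le.mp hlt) hMp (Nat.pos_of_ne_zero Subgroup.index_ne_zero_of_finite)
      rw [h3, ← pow_succ] at h4
      omega

end

/-- Let p be a prime, n ≥ 1, and P a Sylow p-subgroup of the symmetric group on n letters. Then the derived length of P is exactly k = ⌊log_p n⌋ (the largest k with p^k ≤ n): the k-th derived subgroup of P is trivial and, when k ≥ 1, the (k−1)-st is not. -/
theorem result (p : ℕ) [Fact p.Prime] (n : ℕ) (hn : 1 ≤ n) (P : Sylow p (Equiv.Perm (Fin n))) : derivedSeries ↥(P : Subgroup (Equiv.Perm (Fin n))) (Nat.log p n) = ⊥ ∧ (1 ≤ Nat.log p n → derivedSeries ↥(P : Subgroup (Equiv.Perm (Fin n))) (Nat.log p n - 1) ≠ ⊥) := by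
  classical
  have hp : p.Prime := Fact.out
  constructor
  · rw [Subgroup.eq_bot_iff_forall]
    intro g hg
    refine Subtype.ext (Equiv.ext fun i => ?_)
    have h := derived_fix (α := Fin n) P.isPGroup' (Nat.log p n) i ?_ g hg
    · exact h
    · obtain ⟨b, hb⟩ := P.isPGroup'.card_orbit i
      rw [hb]
      refine Nat.pow_le_pow_right hp.pos (Nat.le_log_of_pow_le hp.one_lt ?_)
      rw [← hb]
      exact (Nat.card_le_card_of_injective (fun o : MulAction.orbit (P : Subgroup (Equiv.Perm (Fin n))) i => o.1) Subtype.val_injective).trans (Nat.card_fin n).le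
  · intro hk
    obtain ⟨k, hk'⟩ := Nat.exists_eq_succ_of_ne_zero (show Nat.log p n ≠ 0 by omega)
    rw [hk', Nat.succ_sub_one]
    let Q := Multiplicative (ZMod p)
    haveI : Finite Q := Finite.of_equiv _ Multiplicative.ofAdd
    haveI : Nontrivial Q := inferInstanceAs (Nontrivial (Multiplicative (ZMod p)))
    have hQ : Nat.card Q = p := by rw [Nat.card_congr Multiplicative.toAdd, Nat.card_zmod]
    haveI : Fintype Q := Fintype.ofFinite Q
    have hemb : Nonempty ((Fin (k + 1) → Q) ↪ Fin n) := by
      refine Function.Embedding.nonempty_of_card_le ?_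
      rw [Fintype.card_fun, Fintype.card_fin, Fintype.card_fin, ← Nat.card_eq_fintype_card, hQ, ← Nat.succ_eq_add_one, ← hk']
      exact Nat.pow_log_le_self p (by omega)
    obtain ⟨ι⟩ := hemb
    let f := (Equiv.Perm.viaEmbeddingHom ι).comp (iteratedWreathToPermHom Q (k + 1))
    have hf : Function.Injective f :=
      (Equiv.Perm.viaEmbeddingHom_injective ι).comp (iteratedWreathToPermHomInj Q (k + 1))
    have hfr : IsPGroup p f.range := by
      refine IsPGroup.of_card (n := ∑ i ∈ Finset.range (k + 1), p ^ i) ?_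
      rw [Nat.card_congr (MonoidHom.ofInjective hf).toEquiv.symm, IteratedWreathProduct.card, hQ]
    obtain ⟨T, hT⟩ := hfr.exists_le_sylow
    intro h
    refine derived_iterated (Q := Q) k ?_
    have hP' : derivedSeries (T : Subgroup (Equiv.Perm (Fin n))) k = ⊥ := by
      rw [← map_derivedSeries_eq (P.equiv T).surjective (f := (P.equiv T).toMonoidHom), h, Subgroup.map_bot]
    let g : IteratedWreathProduct Q (k + 1) →* (T : Subgroup (Equiv.Perm (Fin n))) :=
      f.codRestrict _ fun x => hT ⟨x, rfl⟩
    have h2 := map_derivedSeries_le_derivedSeries g k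
    rw [hP'] at h2
    exact (Subgroup.map_eq_bot_iff_of_injective _ (fun a b e => hf (congrArg Subtype.val e))).mp (le_bot_iff.mp h2)

end Cfsg.Agent.S4014
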