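import Cfsg.Statements.S4015
import Mathlib
import Cfsg.Agent.S4014
-- import your own Cfsg.Agent.* helpers here

set_option autoImplicit false
open Cfsg

namespace Cfsg.Agent.S4015

namespace Aux

open Equiv

variable (p : ℕ) [hp : Fact p.Prime] {w : ℕ}

theorem derived_bot_iff {A B : Type*} [Group A] [Group B] (e : A ≃* B) (n : ℕ) :
    derivedSeries A n = ⊥ ↔ derivedSeries B n = ⊥ := by
  rw [← map_derivedSeries_eq (f := e.toMonoidHom) e.surjective n,
    Subgroup.map_eq_bot_iff_of_injective _ (show Function.Injective e.toMonoidHom from e.injective)]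

/-- The permutation action on tuples. -/
def act (T : Subgroup (Perm (Fin w))) (C : Type*) [Group C] : T →* MulAut (Fin w → C) where
  toFun t :=
    { toFun := fun f i => f ((t : Perm (Fin w))⁻¹ i)
      invFun := fun f i => f ((t : Perm (Fin w)) i)
      left_inv := fun f => by funext i; simp
      right_inv := fun f => by funext i; simp
      map_mul' := fun f g => rfl }
  map_one' := by ext f i; rfl
  map_mul' s t := by
    ext f i
    show f (((s * t : T) : Perm (Fin w))⁻¹ i) = f ((t : Perm (Fin w))⁻¹ ((s : Perm (Fin w))⁻¹ i))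
    rw [Subgroup.coe_mul, mul_inv_rev, Perm.mul_apply]

/-- Tuples extended by a group of permutations of the coordinates. -/
abbrev Wr (T : Subgroup (Perm (Fin w))) (C : Type*) [Group C] : Type _ :=
  SemidirectProduct (Fin w → C) T (act T C)

theorem card_wr (T : Subgroup (Perm (Fin w))) (C : Type*) [Group C] :
    Nat.card (Wr T C) = Nat.card C ^ w * Nat.card T := by
  rw [Nat.card_congr SemidirectProduct.equivProd, Nat.card_prod, Nat.card_fun, Nat.card_fin]

/-- The action on blocks of size `p`. -/
def toPerm (T : Subgroup (Perm (Fin w))) : Wr T (Multiplicative (ZMod p)) →* Perm (Fin w × ZMod p) where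
  toFun x :=
    { toFun := fun z => ((x.right : Perm (Fin w)) z.1, (x.left ((x.right : Perm (Fin w)) z.1)).toAdd + z.2)
      invFun := fun z => ((x.right : Perm (Fin w))⁻¹ z.1, -(x.left z.1).toAdd + z.2)
      left_inv := fun z => by simp
      right_inv := fun z => by simp }
  map_one' := by ext z <;> simp
  map_mul' x y := by
    refine Equiv.ext fun z => Prod.ext ?_ ?_
    · simp
    · show ((x * y).left (((x * y).right : Perm (Fin w)) z.1)).toAdd + z.2 =
        (x.left ((x.right : Perm (Fin w)) ((y.right : Perm (Fin w)) z.1))).toAdd +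
          ((y.left ((y.right : Perm (Fin w)) z.1)).toAdd + z.2)
      rw [SemidirectProduct.mul_left, SemidirectProduct.mul_right, Subgroup.coe_mul, Perm.mul_apply, Pi.mul_apply,
        toAdd_mul, add_assoc]
      show _ + ((y.left ((x.right : Perm (Fin w))⁻¹ ((x.right : Perm (Fin w)) _))).toAdd + _) = _
      rw [Perm.coe_inv, Equiv.symm_apply_apply]

theorem toPerm_injective (T : Subgroup (Perm (Fin w))) : Function.Injective (toPerm p T) := by
  refine (injective_iff_map_eq_one _).mpr fun x hx => ?_
  have h1 : x.right = 1 := Subtype.ext (Equiv.ext fun i => congrArg Prod.fst (Equiv.congr_fun hx (i, 0)))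
  refine SemidirectProduct.ext (funext fun i => ?_) h1
  have h2 : (x.left ((x.right : Perm (Fin w)) i)).toAdd + 0 = 0 := congrArg Prod.snd (Equiv.congr_fun hx (i, 0))
  rw [h1, Subgroup.coe_one, Perm.one_apply, add_zero] at h2
  exact toAdd_eq_zero.mp h2

theorem padic_factorial_eq_sum : ∀ m : ℕ, padicValNat p m.factorial = ∑ j ∈ Finset.range m, padicValNat p (j + 1)
  | 0 => by simp
  | m + 1 => by
    rw [Finset.sum_range_succ, ← padic_factorial_eq_sum m, Nat.factorial_succ,
      padicValNat.mul (Nat.succ_ne_zero m) (Nat.factorial_ne_zero m), add_comm]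

/-- The derived length of the wreath product with a Sylow subgroup of the symmetric group, lower bound. -/
theorem derived_ne_bot (hw : 1 ≤ w) (T : Sylow p (Perm (Fin w))) :
    derivedSeries (Wr (T : Subgroup (Perm (Fin w))) (Multiplicative (ZMod p))) (Nat.log p w) ≠ ⊥ := by
  let e : Fin w × ZMod p ≃ Fin (p * w) := Fintype.equivFinOfCardEq (by simp [mul_comm])
  let f : Wr (T : Subgroup (Perm (Fin w))) (Multiplicative (ZMod p)) →* Perm (Fin (p * w)) :=
    e.permCongrHom.toMonoidHom.comp (toPerm p _)
  have hf : Function.Injective f := e.permCongrHom.injective.comp (toPerm_injective p _)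
  have hcard : Nat.card f.range = p ^ (Nat.card (Perm (Fin (p * w)))).factorization p := by
    rw [← Nat.card_congr (MonoidHom.ofInjective hf).toEquiv, card_wr, T.card_eq_multiplicity,
      Nat.card_congr Multiplicative.toAdd, Nat.card_zmod, Nat.card_perm, Nat.card_perm, Nat.card_fin, Nat.card_fin,
      Nat.factorization_def _ hp.out, Nat.factorization_def _ hp.out, padicValNat_factorial_mul, ← pow_add, add_comm]
  let S : Sylow p (Perm (Fin (p * w))) := Sylow.ofCard f.range hcard
  have h := (Cfsg.Agent.S4014.result p (p * w) (Nat.one_le_iff_ne_zero.mpr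
    (Nat.mul_ne_zero hp.out.ne_zero (by omega))) S).2
  have hlog : Nat.log p (p * w) = Nat.log p w + 1 := by
    rw [mul_comm, Nat.log_mul_base hp.out.one_lt (by omega)]
  rw [hlog, Nat.add_sub_cancel] at h
  intro hbot
  exact h (by omega) ((derived_bot_iff (MonoidHom.ofInjective hf) _).mp hbot)

/-- Upper bound. -/
theorem derived_eq_bot (hw : 1 ≤ w) (T : Sylow p (Perm (Fin w))) (C : Type*) [CommGroup C] :
    derivedSeries (Wr (T : Subgroup (Perm (Fin w))) C) (Nat.log p w + 1) = ⊥ := by
  have h := (Cfsg.Agent.S4014.result p w hw T).1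
  have hle : derivedSeries (Wr (T : Subgroup (Perm (Fin w))) C) (Nat.log p w) ≤
      (SemidirectProduct.rightHom (N := Fin w → C) (φ := act (T : Subgroup (Perm (Fin w))) C)).ker := by
    intro x hx
    have hx' := map_derivedSeries_le_derivedSeries
      (f := SemidirectProduct.rightHom (N := Fin w → C) (φ := act (T : Subgroup (Perm (Fin w))) C)) _ ⟨x, hx, rfl⟩
    rw [h, Subgroup.mem_bot] at hx'
    exact hx'
  rw [derivedSeries_succ, eq_bot_iff, Subgroup.commutator_le]
  intro x hx y hy
  rw [Subgroup.mem_bot, commutatorElement_eq_one_iff_mul_comm]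
  have hx1 : x.right = 1 := hle hx
  have hy1 : y.right = 1 := hle hy
  refine SemidirectProduct.ext ?_ (by simp [hx1, hy1])
  simp [hx1, hy1, mul_comm]

section Lin

variable {F K : Type*} [Field F] [Field K] [Algebra F K]

/-- Monomial linear maps. -/
def toLin (T : Subgroup (Perm (Fin w))) (C : Subgroup Kˣ) (r : ℕ) :
    Wr T C →* Module.End F ((Fin w → K) × (Fin r → F)) where
  toFun x :=
    { toFun := fun v => (fun i => ((x.left i : Kˣ) : K) * v.1 ((x.right : Perm (Fin w))⁻¹ i), v.2)
      map_add' := fun u v => by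
        refine Prod.ext (funext fun i => ?_) rfl
        show _ * (u.1 + v.1) _ = _ * u.1 _ + _ * v.1 _
        rw [Pi.add_apply, mul_add]
      map_smul' := fun a v => by
        refine Prod.ext (funext fun i => ?_) rfl
        show _ * (a • v.1) _ = a • (_ * v.1 _)
        rw [Pi.smul_apply, mul_smul_comm] }
  map_one' := by
    refine LinearMap.ext fun v => Prod.ext (funext fun i => ?_) rfl
    show (((1 : Wr T C).left i : Kˣ) : K) * v.1 (((1 : Wr T C).right : Perm (Fin w))⁻¹ i) = v.1 i
    simp
  map_mul' x y := by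
    refine LinearMap.ext fun v => Prod.ext (funext fun i => ?_) rfl
    show (((x * y).left i : Kˣ) : K) * v.1 (((x * y).right : Perm (Fin w))⁻¹ i) =
      ((x.left i : Kˣ) : K) * (((y.left ((x.right : Perm (Fin w))⁻¹ i) : Kˣ) : K) *
        v.1 ((y.right : Perm (Fin w))⁻¹ ((x.right : Perm (Fin w))⁻¹ i)))
    rw [SemidirectProduct.mul_left, SemidirectProduct.mul_right, Subgroup.coe_mul, mul_inv_rev, Perm.mul_apply,
      Pi.mul_apply, Subgroup.coe_mul, Units.val_mul, mul_assoc]
    rfl

theorem toLin_injective (T : Subgroup (Perm (Fin w))) (C : Subgroup Kˣ) (r : ℕ) :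
    Function.Injective (toLin (F := F) T C r) := by
  classical
  refine (injective_iff_map_eq_one _).mpr fun x hx => ?_
  have key : ∀ i, (x.right : Perm (Fin w)) i = i ∧ ((x.left i : Kˣ) : K) = 1 := by
    intro i
    have h := congrFun (congrArg Prod.fst (LinearMap.congr_fun hx (Pi.single i (1 : K), 0))) ((x.right : Perm (Fin w)) i)
    have e : ((x.right : Perm (Fin w))⁻¹) ((x.right : Perm (Fin w)) i) = i := by simp
    change ((x.left ((x.right : Perm (Fin w)) i) : Kˣ) : K) * (Pi.single i (1 : K) : Fin w → K) _ =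
      (Pi.single i (1 : K) : Fin w → K) ((x.right : Perm (Fin w)) i) at h
    rw [e, Pi.single_eq_same, mul_one] at h
    by_cases hi : (x.right : Perm (Fin w)) i = i
    · rw [hi, Pi.single_eq_same] at h
      exact ⟨hi, h⟩
    · rw [Pi.single_eq_of_ne hi] at h
      exact absurd h (Units.ne_zero _)
  exact SemidirectProduct.ext (funext fun i => Subtype.ext (Units.ext (key i).2))
    (Subtype.ext (Equiv.ext fun i => (key i).1))

end Lin

theorem main {F : Type*} [Field F] [Fintype F] {q : ℕ} (hp2 : p ≠ 2) (hq : Fintype.card F = q) (hpq : ¬ p ∣ q)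
    (n : ℕ) (hn : orderOf (q : ZMod p) ≤ n) (P : Sylow p (Matrix.GeneralLinearGroup (Fin n) F)) :
    derivedSeries ↥(P : Subgroup (Matrix.GeneralLinearGroup (Fin n) F)) (Nat.log p (n / orderOf (q : ZMod p)) + 1) = ⊥ ∧
      derivedSeries ↥(P : Subgroup (Matrix.GeneralLinearGroup (Fin n) F)) (Nat.log p (n / orderOf (q : ZMod p))) ≠ ⊥ := by
  classical
  set e := orderOf (q : ZMod p) with hedef
  have hq1 : 1 < q := hq ▸ Fintype.one_lt_card
  have he : 0 < e := by
    have hne : (q : ZMod p) ≠ 0 := fun h => hpq ((ZMod.natCast_eq_zero_iff q p).mp h)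
    have hu : IsUnit (q : ZMod p) := isUnit_iff_ne_zero.mpr hne
    rw [hedef, ← hu.unit_spec, orderOf_units]
    exact orderOf_pos _
  set w := n / e with hwdef
  set r := n % e with hrdef
  have hw : 1 ≤ w := (Nat.one_le_div_iff he).mpr hn
  obtain ⟨ℓ, hℓ⟩ := CharP.exists F
  haveI := hℓ
  haveI : Fact ℓ.Prime := ⟨CharP.char_is_prime F ℓ⟩
  haveI : NeZero e := ⟨he.ne'⟩
  let K := FiniteField.Extension F ℓ e
  have hKcard : Nat.card K = q ^ e := by
    rw [FiniteField.natCard_extension, Nat.card_eq_fintype_card, hq]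
  obtain ⟨C⟩ : Nonempty (Sylow p Kˣ) := inferInstance
  have hqe : 1 < q ^ e := Nat.one_lt_pow he.ne' hq1
  have hdvd : p ∣ q ^ e - 1 := by
    rw [← ZMod.natCast_eq_zero_iff, Nat.cast_sub hqe.le, Nat.cast_pow, pow_orderOf_eq_one, Nat.cast_one, sub_self]
  set a := padicValNat p (q ^ e - 1) with hadef
  have ha : 1 ≤ a := one_le_padicValNat_of_dvd (by omega) hdvd
  have hC : Nat.card (C : Subgroup Kˣ) = p ^ a := by
    rw [C.card_eq_multiplicity, Nat.card_units, hKcard, Nat.factorization_def _ hp.out]
  -- the order of a Sylow subgroup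
  have hv : (Nat.card (GL (Fin n) F)).factorization p = w * a + padicValNat p w.factorial := by
    rw [Matrix.card_GL_field, Nat.factorization_prod_apply (fun i _ => Nat.sub_ne_zero_of_lt
      (Nat.pow_lt_pow_right (hq ▸ hq1) i.isLt)), hq,
      Fin.sum_univ_eq_sum_range (fun i : ℕ => (q ^ n - q ^ i).factorization p) n]
    have hterm : ∀ i ∈ Finset.range n, (q ^ n - q ^ i).factorization p =
        if e ∣ (n - i) then a + padicValNat p ((n - i) / e) else 0 := by
      intro i hi
      rw [Finset.mem_range] at hi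
      have he' : q ^ n - q ^ i = q ^ i * (q ^ (n - i) - 1) := by
        rw [Nat.mul_sub, ← pow_add, mul_one, Nat.add_sub_cancel' hi.le]
      have hne : q ^ (n - i) - 1 ≠ 0 := by
        have := Nat.one_lt_pow (show n - i ≠ 0 by omega) hq1
        omega
      rw [Nat.factorization_def _ hp.out, he', padicValNat.mul (pow_ne_zero _ (by omega)) hne,
        padicValNat.eq_zero_of_not_dvd (fun h => hpq (hp.out.dvd_of_dvd_pow h)), zero_add]
      split_ifs with hd
      · obtain ⟨c, hc⟩ := hd
        have hc0 : c ≠ 0 := by rintro rfl; omega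
        rw [hc, Nat.mul_div_cancel_left _ he, pow_mul]
        conv_lhs => rw [← one_pow c]
        rw [padicValNat.pow_sub_pow (hp.out.odd_of_ne_two hp2) hqe hdvd
          (fun h => hpq (hp.out.dvd_of_dvd_pow h)) hc0]
      · refine padicValNat.eq_zero_of_not_dvd fun h => hd ?_
        rw [← ZMod.natCast_eq_zero_iff, Nat.cast_sub (by omega), Nat.cast_pow, Nat.cast_one, sub_eq_zero] at h
        exact orderOf_dvd_of_pow_eq_one h
    rw [Finset.sum_congr rfl hterm, ← Finset.sum_range_reflect, padic_factorial_eq_sum p w]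
    have hrefl : ∀ i ∈ Finset.range n, (if e ∣ (n - (n - 1 - i)) then a + padicValNat p ((n - (n - 1 - i)) / e) else 0) =
        if e ∣ (i + 1) then a + padicValNat p ((i + 1) / e) else 0 := fun i hi => by
      rw [Finset.mem_range] at hi
      rw [show n - (n - 1 - i) = i + 1 by omega]
    rw [Finset.sum_congr rfl hrefl, ← Finset.sum_filter]
    have himg : (Finset.range n).filter (fun i => e ∣ i + 1) = (Finset.range w).image (fun j => e * (j + 1) - 1) := by
      ext i
      simp only [Finset.mem_filter, Finset.mem_range, Finset.mem_image]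
      constructor
      · rintro ⟨hi, c, hc⟩
        obtain ⟨j, rfl⟩ : ∃ j, c = j + 1 := ⟨c - 1, by rcases c with _ | c <;> simp_all⟩
        refine ⟨j, ?_, by omega⟩
        rw [hwdef, ← Nat.succ_le_iff, Nat.succ_eq_add_one, Nat.le_div_iff_mul_le he, mul_comm]
        omega
      · rintro ⟨j, hj, rfl⟩
        have h1 : e * (j + 1) ≤ n := (Nat.mul_le_mul_left e hj).trans (Nat.mul_div_le n e)
        have h2 : 0 < e * (j + 1) := Nat.mul_pos he (Nat.succ_pos j)
        exact ⟨by omega, ⟨j + 1, by omega⟩⟩
    rw [himg, Finset.sum_image]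
    · have hs : ∀ j ∈ Finset.range w, a + padicValNat p ((e * (j + 1) - 1 + 1) / e) = a + padicValNat p (j + 1) := by
        intro j _
        have h2 : 0 < e * (j + 1) := Nat.mul_pos he (Nat.succ_pos j)
        rw [Nat.sub_add_cancel h2, Nat.mul_div_cancel_left _ he]
      rw [Finset.sum_congr rfl hs, Finset.sum_add_distrib, Finset.sum_const, Finset.card_range, smul_eq_mul]
    · intro x _ y _ hxy
      have h2 : ∀ j : ℕ, 0 < e * (j + 1) := fun j => Nat.mul_pos he (Nat.succ_pos j)
      have h3 := h2 x
      have h4 := h2 y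
      have := Nat.eq_of_mul_eq_mul_left he (show e * (x + 1) = e * (y + 1) by simp only at hxy; omega)
      omega
  obtain ⟨T⟩ : Nonempty (Sylow p (Perm (Fin w))) := inferInstance
  let G' := Wr (T : Subgroup (Perm (Fin w))) (C : Subgroup Kˣ)
  -- the embedding
  have hfr : Module.finrank F ((Fin w → K) × (Fin r → F)) = n := by
    rw [Module.finrank_prod, Module.finrank_pi_fintype, Module.finrank_fintype_fun_eq_card, Fintype.card_fin,
      Finset.sum_const, Finset.card_univ, Fintype.card_fin, FiniteField.finrank_extension, smul_eq_mul, mul_comm,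
      hwdef, hrdef]
    exact Nat.div_add_mod n e
  let bas : Module.Basis (Fin n) F ((Fin w → K) × (Fin r → F)) := Module.finBasisOfFinrankEq F _ hfr
  let ι : G' →* GL (Fin n) F :=
    ((LinearMap.toMatrixAlgEquiv bas).toMulEquiv.toMonoidHom.comp (toLin (F := F) (T : Subgroup (Perm (Fin w))) (C : Subgroup Kˣ) r)).toHomUnits
  have hι : Function.Injective ι := fun x y h =>
    toLin_injective _ _ r ((LinearMap.toMatrixAlgEquiv bas).injective (congrArg Units.val h))
  have hcard : Nat.card ι.range = p ^ (Nat.card (GL (Fin n) F)).factorization p := by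
    rw [← Nat.card_congr (MonoidHom.ofInjective hι).toEquiv, card_wr, hC, T.card_eq_multiplicity, Nat.card_perm,
      Nat.card_fin, Nat.factorization_def _ hp.out, hv, ← pow_mul, ← pow_add, mul_comm a]
  let S : Sylow p (GL (Fin n) F) := Sylow.ofCard ι.range hcard
  let eP : G' ≃* (P : Subgroup (GL (Fin n) F)) := (MonoidHom.ofInjective hι).trans (S.equiv P)
  refine ⟨(derived_bot_iff eP _).mp ?_, fun h => ?_⟩
  · letI : CommGroup (C : Subgroup Kˣ) := Subgroup.toCommGroup _
    exact derived_eq_bot p hw T _
  · have h' := (derived_bot_iff eP _).mpr h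
    have hpC : p ∣ Nat.card (C : Subgroup Kˣ) := hC ▸ dvd_pow_self p (by omega)
    obtain ⟨c₀, hc₀⟩ := exists_prime_orderOf_dvd_card' p hpC
    have hZ : Nat.card (Multiplicative (ZMod p)) = p := by rw [Nat.card_congr Multiplicative.toAdd, Nat.card_zmod]
    have hZc : Nat.card (Subgroup.zpowers c₀) = p := by rw [Nat.card_zpowers, hc₀]
    let φ : Multiplicative (ZMod p) →* (C : Subgroup Kˣ) :=
      (Subgroup.zpowers c₀).subtype.comp (mulEquivOfPrimeCardEq hZ hZc).toMonoidHom
    have hφ : Function.Injective φ := Subtype.val_injective.comp (mulEquivOfPrimeCardEq hZ hZc).injective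
    let ψ : Wr (T : Subgroup (Perm (Fin w))) (Multiplicative (ZMod p)) →* G' :=
      SemidirectProduct.map
        ({ toFun := fun f i => φ (f i), map_one' := funext fun _ => map_one φ,
           map_mul' := fun f g => funext fun i => map_mul φ _ _ } : (Fin w → Multiplicative (ZMod p)) →* (Fin w → (C : Subgroup Kˣ)))
        (MonoidHom.id _) (fun t => MonoidHom.ext fun f => rfl)
    have hψ : Function.Injective ψ := fun x y hxy => SemidirectProduct.ext
      (funext fun i => hφ (congrFun (congrArg SemidirectProduct.left hxy) i))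
      (congrArg SemidirectProduct.right hxy : (ψ x).right = (ψ y).right)
    refine derived_ne_bot p hw T ((Subgroup.eq_bot_iff_forall _).mpr fun x hx => hψ ?_)
    have hx' := map_derivedSeries_le_derivedSeries (f := ψ) _ ⟨x, hx, rfl⟩
    rw [h', Subgroup.mem_bot] at hx'
    rw [hx', map_one]

end Aux

/-- Let p be an odd prime, F a finite field with q elements where p does not divide q, and e the multiplicative order of q modulo p. Let n ≥ e and write w = ⌊n/e⌋ and k = ⌊log_p w⌋. Then a Sylow p-subgroup of GL(n, F) has derived length exactly k + 1: its (k+1)-st derived subgroup is trivial and its k-th is not. -/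
theorem result (p : ℕ) [Fact p.Prime] (hp : p ≠ 2) (F : Type*) [Field F] [Fintype F] (q : ℕ) (hq : Fintype.card F = q) (hpq : ¬ p ∣ q) (n : ℕ) (hn : orderOf (q : ZMod p) ≤ n) (P : Sylow p (Matrix.GeneralLinearGroup (Fin n) F)) : derivedSeries ↥(P : Subgroup (Matrix.GeneralLinearGroup (Fin n) F)) (Nat.log p (n / orderOf (q : ZMod p)) + 1) = ⊥ ∧ derivedSeries ↥(P : Subgroup (Matrix.GeneralLinearGroup (Fin n) F)) (Nat.log p (n / orderOf (q : ZMod p))) ≠ ⊥ := by
  exact Aux.main p hp hq hpq n hn P

end Cfsg.Agent.S4015
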