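import Cfsg.Statements.S2972
import Cfsg.Agent.Lib.Components
import Cfsg.Agent.Lib.Isolated
import Cfsg.Agent.Lib.PComplement
import Cfsg.Agent.Lib.Comp.PCompMore

set_option autoImplicit false
set_option linter.unusedVariables false
open Cfsg
open scoped commutatorElement

namespace Cfsg.Agent.S2972

universe u

variable {G : Type u} [Group G] [Finite G] {p : ℕ} [Fact p.Prime]

/-- In a minimal configuration, a normal subgroup whose join with `x` is proper commutes with `x`. -/
theorem commute_of_proper (hcore : pPrimeCore p G = ⊥) {x : G}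
    (hmin : ∀ (H : Subgroup G) (hxH : x ∈ H), H ≠ ⊤ → InZStar p (⟨x, hxH⟩ : ↥H))
    {N : Subgroup G} [hN : N.Normal] (hne : N ⊔ Subgroup.zpowers x ≠ ⊤) : ∀ n ∈ N, Commute n x := by
  intro n hn
  set H := N ⊔ Subgroup.zpowers x
  have hxH : x ∈ H := Subgroup.mem_sup_right (Subgroup.mem_zpowers x)
  have h := hmin H hxH hne ⟨n, Subgroup.mem_sup_left hn⟩
  set c := n * x * n⁻¹ * x⁻¹ with hc
  have hcN : c ∈ N := by
    rw [hc, show n * x * n⁻¹ * x⁻¹ = n * (x * n⁻¹ * x⁻¹) by group]
    exact mul_mem hn (hN.conj_mem _ (inv_mem hn) x)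
  have hcD : c ∈ ((pPrimeCore p H).map H.subtype) := ⟨_, h, rfl⟩
  set D := ((pPrimeCore p H).map H.subtype).subgroupOf N with hD
  haveI : D.Normal := by
    refine ⟨fun d hd m => ?_⟩
    rw [hD, Subgroup.mem_subgroupOf] at hd ⊢
    obtain ⟨e, he, hed⟩ := hd
    refine ⟨⟨m, Subgroup.mem_sup_left m.2⟩ * e * ⟨m, Subgroup.mem_sup_left m.2⟩⁻¹,
      (inferInstance : (pPrimeCore p H).Normal).conj_mem e he _, ?_⟩
    simp only [map_mul, map_inv, hed]
    rfl
  have hDp : (Nat.card D).Coprime p := by
    refine Nat.Coprime.coprime_dvd_left ?_ (CfsgLib.card_pPrimeCore_coprime (G := H) p)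
    rw [← Subgroup.card_map_of_injective H.subtype_injective,
      show Nat.card D = Nat.card (D.map N.subtype) from (Subgroup.card_map_of_injective N.subtype_injective).symm]
    exact Subgroup.card_dvd_of_le (by rintro _ ⟨d, hd, rfl⟩; exact hd)
  have h0 : (⟨c, hcN⟩ : N) ∈ pPrimeCore p N := CfsgLib.le_pPrimeCore hDp (Subgroup.mem_subgroupOf.mpr hcD)
  have h1 : c ∈ (pPrimeCore p N).map N.subtype := ⟨_, h0, rfl⟩
  have h2 := CfsgLib.map_pPrimeCore_le p N h1
  rw [hcore, Subgroup.mem_bot] at h2
  show n * x = x * n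
  exact mul_inv_eq_iff_eq_mul.mp (mul_inv_eq_one.mp h2)

/-- Let G be a finite group, p a prime and x ∈ G an isolated element of order p (the only conjugate of x commuting with x is x) which is not central modulo the largest normal subgroup of order prime to p, while x is central modulo the largest normal subgroup of order prime to p in every proper subgroup containing x, and the image of x is so in every quotient of G by a nontrivial normal subgroup (a minimal counterexample to the Z*_p statement). Then the derived subgroup G' is a non-abelian simple group and G = G'⟨x⟩. -/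
theorem result {G : Type*} [Group G] [Finite G] {p : ℕ} [Fact p.Prime] (x : G) (hx : orderOf x = p) (hiso : Cfsg.IsIsolated x) (hnz : ¬ Cfsg.InZStar p x) (hmin : ∀ (H : Subgroup G) (hxH : x ∈ H), H ≠ ⊤ → Cfsg.InZStar p (⟨x, hxH⟩ : ↥H)) (hquot : ∀ (N : Subgroup G) [N.Normal], N ≠ ⊥ → Cfsg.InZStar p (QuotientGroup.mk x : G ⧸ N)) : IsSimpleGroup ↥(commutator G) ∧ ¬ IsMulCommutative ↥(commutator G) ∧ commutator G ⊔ Subgroup.zpowers x = ⊤ := by
    classical
    have hxp : IsPGroup p (Subgroup.zpowers x) :=
      IsPGroup.of_card (n := 1) (by rw [Nat.card_zpowers, hx, pow_one])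
    have hnc : x ∉ Subgroup.center G := fun h => hnz fun g => by
      rw [Subgroup.mem_center_iff.mp h g, mul_inv_cancel_right, mul_inv_cancel]
      exact one_mem _
    have hcore : pPrimeCore p G = ⊥ := by
      by_contra hne
      refine hnz fun g => ?_
      have h := hquot (pPrimeCore p G) hne (g : G)
      rw [CfsgLib.pPrimeCore_quotient_eq_bot p, Subgroup.mem_bot] at h
      rw [← QuotientGroup.eq_one_iff]
      exact h
    have hcom : ∀ g : G, g * x * g⁻¹ * x⁻¹ ∈ commutator G := fun g => by
      rw [commutator_def, ← commutatorElement_def]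
      exact Subgroup.commutator_mem_commutator (Subgroup.mem_top g) (Subgroup.mem_top x)
    have hfull : ∀ M : Subgroup G, M.Normal → (∀ g : G, g * x * g⁻¹ * x⁻¹ ∈ M) → M ⊔ Subgroup.zpowers x = ⊤ := by
      intro M hM h
      by_contra hne
      refine hnc (Subgroup.mem_center_iff.mpr fun g => mul_inv_eq_iff_eq_mul.mp (hiso g ?_))
      have h1 := commute_of_proper hcore hmin hne _ (h g)
      have : g * x * g⁻¹ = (g * x * g⁻¹ * x⁻¹) * x := by group
      rw [this]
      exact (h1.mul_left (Commute.refl x)).symm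
    have hG : commutator G ⊔ Subgroup.zpowers x = ⊤ := hfull _ inferInstance hcom
    have hcontains : ∀ N : Subgroup G, N.Normal → N ⊔ Subgroup.zpowers x = ⊤ → commutator G ≤ N := by
      intro N hN hNx
      rw [commutator_def, Subgroup.commutator_le]
      intro g _ h _
      have key : ∀ g : G, ∃ n : ℤ, (g : G ⧸ N) = (x : G ⧸ N) ^ n := by
        intro g
        have hg : g ∈ N ⊔ Subgroup.zpowers x := hNx ▸ Subgroup.mem_top g
        obtain ⟨a, ha, b, ⟨n, rfl⟩, rfl⟩ := Subgroup.mem_sup_of_normal_left.mp hg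
        exact ⟨n, by rw [QuotientGroup.mk_mul, (QuotientGroup.eq_one_iff a).mpr ha, one_mul]; rfl⟩
      obtain ⟨a, ha⟩ := key g
      obtain ⟨b, hb⟩ := key h
      rw [← QuotientGroup.eq_one_iff, ← QuotientGroup.mk'_apply, map_commutatorElement]
      simp only [QuotientGroup.mk'_apply, ha, hb]
      exact commutatorElement_eq_one_iff_commute.mpr (Commute.zpow_zpow_self _ a b)
    have hZ : Subgroup.center G = ⊥ := by
      by_contra hne
      set Z := Subgroup.center G
      set M := (pPrimeCore p (G ⧸ Z)).comap (QuotientGroup.mk' Z)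
      have hMc : ∀ g : G, g * x * g⁻¹ * x⁻¹ ∈ M := fun g => hquot Z hne (g : G ⧸ Z)
      have hZM : Z ≤ M := fun z hz => by
        show (z : G ⧸ Z) ∈ pPrimeCore p (G ⧸ Z)
        rw [(QuotientGroup.eq_one_iff z).mpr hz]
        exact one_mem _
      have hZp : IsPGroup p Z := by
        letI : CommGroup Z := { (inferInstance : Group Z) with
          mul_comm := fun u v => Subtype.ext ((Subgroup.mem_center_iff.mp v.2) u.1) }
        have h1 : Z ≤ fittingSubgroup G := CfsgLib.le_fittingSubgroup inferInstance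
        exact (CfsgLib.isPGroup_pCore (G := G) p).to_le (h1.trans (CfsgLib.fitting_eq_pCore Fact.out hcore).le)
      have hidx : ¬ p ∣ (Z.subgroupOf M).index := by
        have h1 : (Z.subgroupOf M).index = Nat.card (M.map (QuotientGroup.mk' Z)) := by
          rw [← Subgroup.relIndex_ker, QuotientGroup.ker_mk']
          rfl
        rw [h1, Subgroup.map_comap_eq_self_of_surjective (QuotientGroup.mk'_surjective Z)]
        exact CfsgLib.not_dvd_card_pPrimeCore Fact.out
      obtain ⟨Q, K, hK, hKQ⟩ := CfsgLib.hasNormalPComplement_of_normalizer_le_centralizer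
        (((hZp.of_equiv (Subgroup.subgroupOfEquivOfLe hZM).symm)).toSylow hidx) (fun n _ q hq =>
          Subtype.ext (Subgroup.mem_center_iff.mp (Subgroup.mem_subgroupOf.mp hq) n).symm)
      have hK1 : K = ⊥ := by
        have hKco : (Nat.card K).Coprime p := by
          refine ((Fact.out : p.Prime).coprime_iff_not_dvd.mpr ?_).symm
          rw [← hKQ.index_eq_card]
          exact Q.not_dvd_index
        have h1 := (Subgroup.map_mono (CfsgLib.le_pPrimeCore hKco)).trans (CfsgLib.map_pPrimeCore_le p M)
        rw [hcore, le_bot_iff, Subgroup.map_eq_bot_iff_of_injective _ M.subtype_injective] at h1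
        exact h1
      have hMp : IsPGroup p M := by
        obtain ⟨k, hk⟩ := IsPGroup.iff_card.mp Q.2
        exact IsPGroup.of_card (n := k) (by rw [← hKQ.card_mul, hK1, Subgroup.card_bot, one_mul, hk])
      have hMZ : M ≤ Z := by
        intro m hm
        have h1 : (m : G ⧸ Z) = 1 := by
          have h2 : (m : G ⧸ Z) ∈ pPrimeCore p (G ⧸ Z) := hm
          obtain ⟨k, hk⟩ := hMp ⟨m, hm⟩
          have hk' : m ^ p ^ k = 1 := congrArg Subtype.val hk
          refine orderOf_eq_one_iff.mp (Nat.eq_one_of_dvd_coprimes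
            ((CfsgLib.card_pPrimeCore_coprime (G := G ⧸ Z) p).pow_right k)
            (Subgroup.orderOf_dvd_natCard _ h2) ?_)
          exact orderOf_dvd_of_pow_eq_one (by rw [← QuotientGroup.mk_pow, hk', QuotientGroup.mk_one])
        exact (QuotientGroup.eq_one_iff m).mp h1
      refine hnc (Subgroup.mem_center_iff.mpr fun g => mul_inv_eq_iff_eq_mul.mp (hiso g ?_))
      have : g * x * g⁻¹ = (g * x * g⁻¹ * x⁻¹) * x := by group
      rw [this]
      exact ((show Commute (g * x * g⁻¹ * x⁻¹) x from
        (Subgroup.mem_center_iff.mp (hMZ (hMc g)) x).symm).mul_left (Commute.refl x)).symm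
    have hmin' : ∀ N : Subgroup G, N.Normal → N ≠ ⊥ → commutator G ≤ N := by
      intro N hN hNne
      by_contra hcon
      have hc := commute_of_proper hcore hmin (N := N) fun h => hcon (hcontains N hN h)
      set C := Subgroup.centralizer (N : Set G)
      haveI : C.Normal := Subgroup.normal_centralizer
      have hxC : x ∈ C := fun n hn => hc n hn
      have h1 := hfull C inferInstance fun g => mul_mem ((inferInstance : C.Normal).conj_mem x hxC g) (inv_mem hxC)
      rw [sup_eq_left.mpr (Subgroup.zpowers_le.mpr hxC)] at h1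
      refine hNne (le_bot_iff.mp (hZ ▸ fun n hn => Subgroup.mem_center_iff.mpr fun g => ?_))
      exact ((h1 ▸ Subgroup.mem_top g : g ∈ C) n hn).symm
    have hne : commutator G ≠ ⊥ := fun h => hnc (Subgroup.mem_center_iff.mpr fun g => by
      have := hcom g
      rw [h, Subgroup.mem_bot] at this
      exact mul_inv_eq_iff_eq_mul.mp (mul_inv_eq_one.mp this))
    have hna : ¬ IsMulCommutative (commutator G) := by
      intro hab
      letI : CommGroup (commutator G) := { (inferInstance : Group (commutator G)) with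
        mul_comm := fun u v => hab.is_comm.comm u v }
      have hp' : IsPGroup p (commutator G) := by
        have h1 : commutator G ≤ fittingSubgroup G := CfsgLib.le_fittingSubgroup inferInstance
        exact (CfsgLib.isPGroup_pCore (G := G) p).to_le (h1.trans (CfsgLib.fitting_eq_pCore Fact.out hcore).le)
      have hGp : IsPGroup p (⊤ : Subgroup G) := hG ▸ hp'.to_sup_of_normal_left hxp
      exact hnc (Subgroup.mem_center_iff.mpr fun g =>
        CfsgLib.Local.isolated_central hGp (Subgroup.mem_top x) hiso g (Subgroup.mem_top g))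
    refine ⟨?_, hna, hG⟩
    haveI : Nontrivial (commutator G) := (Subgroup.nontrivial_iff_ne_bot _).mpr hne
    -- minimal normal subgroups of `G'`
    refine ⟨fun A hA => ?_⟩
    by_cases hA1 : A = ⊥
    · exact Or.inl hA1
    right
    obtain ⟨S0, ⟨hS0n, hS0ne, hS0A⟩, hS0min⟩ := exists_minimalFor_of_wellFoundedLT
      (fun T : Subgroup (commutator G) => T.Normal ∧ T ≠ ⊥ ∧ T ≤ A) (fun T => T) ⟨A, hA, hA1, le_rfl⟩
    set S := S0.map (commutator G).subtype with hSdef
    have hS'G : S ≤ commutator G := Subgroup.map_subtype_le _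
    have hSne : S ≠ ⊥ := fun h => hS0ne
      ((Subgroup.map_eq_bot_iff_of_injective _ (Subgroup.subtype_injective _)).mp h)
    have hnS : ∀ c ∈ commutator G, ∀ s ∈ S, c * s * c⁻¹ ∈ S := by
      rintro c hc _ ⟨s, hs, rfl⟩
      exact ⟨⟨c, hc⟩ * s * ⟨c, hc⟩⁻¹, hS0n.conj_mem s hs _, rfl⟩
    have hSmin : ∀ T : Subgroup G, T ≤ S → (∀ c ∈ commutator G, ∀ s ∈ T, c * s * c⁻¹ ∈ T) → T ≠ ⊥ → T = S := by
      intro T hTS hT hTne
      have hle : T.subgroupOf (commutator G) ≤ S0 := fun s hs => by
        obtain ⟨s', hs', he⟩ := hTS (Subgroup.mem_subgroupOf.mp hs)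
        rwa [← Subtype.ext he]
      have h := hS0min (j := T.subgroupOf (commutator G)) ⟨⟨fun s hs c => hT c c.2 s hs⟩,
        fun h => hTne (le_bot_iff.mp fun t ht => by
          have h1 : (⟨t, hS'G (hTS ht)⟩ : commutator G) ∈ T.subgroupOf (commutator G) := ht
          rw [h, Subgroup.mem_bot] at h1
          exact congrArg Subtype.val h1), hle.trans hS0A⟩ hle
      exact le_antisymm hTS (by rintro _ ⟨s, hs, rfl⟩; exact Subgroup.mem_subgroupOf.mp (h hs))
    -- some power of `x` prime to `p` cannot move `S`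
    suffices hxS : ∀ s ∈ S, x * s * x⁻¹ ∈ S by
      haveI hSn : S.Normal := by
        have hle : (⊤ : Subgroup G) ≤ Subgroup.normalizer (S : Set G) := by
          rw [← hG]
          refine sup_le (fun c hc => ?_) (Subgroup.zpowers_le.mpr ?_)
          · refine Subgroup.mem_normalizer_iff.mpr fun s => ⟨hnS c hc s, fun h => ?_⟩
            simpa [mul_assoc] using hnS c⁻¹ (inv_mem hc) _ h
          · refine Subgroup.mem_normalizer_iff.mpr fun s => ⟨hxS s, fun h => ?_⟩
            have hmap : S.map (MulAut.conj x).toMonoidHom = S := Subgroup.eq_of_le_of_card_ge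
              (by rintro _ ⟨t, ht, rfl⟩; simpa using hxS t ht)
              (le_of_eq (Subgroup.card_map_of_injective (MulAut.conj x).injective).symm)
            rw [← hmap] at h
            obtain ⟨t, ht, hts⟩ := h
            simp only [MulEquiv.coe_toMonoidHom, MulAut.conj_apply, mul_left_inj, mul_right_inj] at hts
            rwa [← hts]
        exact Subgroup.normalizer_eq_top_iff.mp (top_le_iff.mp hle)
      refine top_le_iff.mp fun c _ => hS0A ?_
      obtain ⟨s, hs, hsc⟩ := hmin' S hSn hSne c.2
      rwa [← Subtype.ext hsc]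
    by_contra hxS
    push Not at hxS
    obtain ⟨s₁, hs₁, hs₁'⟩ := hxS
    have hxn : ∀ (k : ℤ) (c : G), c ∈ commutator G → x ^ k * c * (x ^ k)⁻¹ ∈ commutator G :=
      fun k c hc => (inferInstance : (commutator G).Normal).conj_mem c hc _
    have hpS : p ∣ Nat.card S := by
      by_contra h
      haveI : Fact p.Prime := inferInstance
      have hc : (Nat.card S0).Coprime p := by
        rw [← Subgroup.card_map_of_injective (commutator G).subtype_injective]
        exact ((Fact.out : p.Prime).coprime_iff_not_dvd.mpr h).symm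
      have h1 := (Subgroup.map_mono (CfsgLib.le_pPrimeCore hc)).trans (CfsgLib.map_pPrimeCore_le p (commutator G))
      rw [hcore, le_bot_iff, Subgroup.map_eq_bot_iff_of_injective _ (commutator G).subtype_injective] at h1
      exact hS0ne h1
    obtain ⟨a, ha⟩ := exists_prime_orderOf_dvd_card' (G := S) p hpS
    set f : ℤ → G := fun k => x ^ k * a * (x ^ k)⁻¹ with hf
    have hfix : ∀ k : ℤ, ¬ (p : ℤ) ∣ k → ∀ T : Subgroup G, T = S → (∀ s ∈ S, x ^ k * s * (x ^ k)⁻¹ ∈ T) → False := by
      rintro k hk T rfl hT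
      obtain ⟨m, n, hmn⟩ := ((Nat.prime_iff_prime_int.mp (Fact.out : p.Prime)).coprime_iff_not_dvd.mpr hk).symm
      have hmap : S.map (MulAut.conj (x ^ k)).toMonoidHom = S := Subgroup.eq_of_le_of_card_ge
        (by rintro _ ⟨t, ht, rfl⟩; exact hT t ht)
        (le_of_eq (Subgroup.card_map_of_injective (MulAut.conj (x ^ k)).injective).symm)
      have hkN : x ^ k ∈ Subgroup.normalizer (S : Set G) := by
        refine Subgroup.mem_normalizer_iff.mpr fun s => ⟨hT s, fun h => ?_⟩
        have h' : x ^ k * s * (x ^ k)⁻¹ ∈ S.map (MulAut.conj (x ^ k)).toMonoidHom := by rw [hmap]; exact h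
        obtain ⟨t, ht, hts⟩ := h'
        simp only [MulEquiv.coe_toMonoidHom, MulAut.conj_apply, mul_left_inj, mul_right_inj] at hts
        rwa [← hts]
      have hxN : x ∈ Subgroup.normalizer (S : Set G) := by
        have e : x = (x ^ k) ^ m := by
          rw [← zpow_mul, show k * m = 1 - (p : ℤ) * n by linarith, zpow_sub, zpow_one, zpow_mul, zpow_natCast,
            ← hx, pow_orderOf_eq_one, one_zpow, inv_one, mul_one]
        rw [e]
        exact Subgroup.zpow_mem _ hkN m
      exact hs₁' ((Subgroup.mem_normalizer_iff.mp hxN s₁).mp hs₁)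
    have hcomm : ∀ k : ℤ, Commute (a : G) (f k) := by
      intro k
      by_cases hk : (p : ℤ) ∣ k
      · obtain ⟨m, rfl⟩ := hk
        have : f ((p : ℤ) * m) = a := by
          simp only [hf]
          rw [zpow_mul, zpow_natCast, ← hx, pow_orderOf_eq_one, one_zpow, one_mul, inv_one, mul_one]
        rw [this]
      set T := S.map (MulAut.conj (x ^ k)).toMonoidHom with hT
      have hTn : ∀ c ∈ commutator G, ∀ t ∈ T, c * t * c⁻¹ ∈ T := by
        rintro c hc _ ⟨s, hs, rfl⟩
        refine ⟨(x ^ k)⁻¹ * c * x ^ k * s * ((x ^ k)⁻¹ * c * x ^ k)⁻¹, hnS _ ?_ s hs, ?_⟩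
        · have := hxn (-k) c hc
          rwa [zpow_neg, inv_inv] at this
        · show x ^ k * ((x ^ k)⁻¹ * c * x ^ k * s * ((x ^ k)⁻¹ * c * x ^ k)⁻¹) * (x ^ k)⁻¹ = c * (x ^ k * s * (x ^ k)⁻¹) * c⁻¹
          group
      have hI : S ⊓ T = ⊥ := by
        by_contra hne
        have h1 := hSmin (S ⊓ T) inf_le_left (fun c hc s hs => ⟨hnS c hc s hs.1, hTn c hc s hs.2⟩) hne
        have h2 : T = S := (Subgroup.eq_of_le_of_card_ge (inf_eq_left.mp h1)
          (le_of_eq (Subgroup.card_map_of_injective (MulAut.conj (x ^ k)).injective))).symm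
        exact hfix k hk T h2 fun s hs => ⟨s, hs, rfl⟩
      have hfT : f k ∈ T := ⟨a, a.2, rfl⟩
      have hfG : f k ∈ commutator G := hxn k a (hS'G a.2)
      rw [← commutatorElement_eq_one_iff_commute, ← Subgroup.mem_bot, ← hI]
      refine ⟨?_, ?_⟩
      · rw [SetLike.mem_coe, commutatorElement_def, show (a : G) * f k * (a : G)⁻¹ * (f k)⁻¹ = a * (f k * (a : G)⁻¹ * (f k)⁻¹) by group]
        exact Subgroup.mul_mem _ a.2 (hnS _ hfG _ (inv_mem a.2))
      · rw [SetLike.mem_coe, commutatorElement_def]
        exact Subgroup.mul_mem _ (hTn _ (hS'G a.2) _ hfT) (Subgroup.inv_mem _ hfT)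
    set A' := Subgroup.closure (Set.range f) with hA'
    have hA'c : IsMulCommutative A' := Subgroup.isMulCommutative_closure (by
      rintro _ ⟨i, rfl⟩ _ ⟨j, rfl⟩
      have h1 := (hcomm (j - i)).map (MulAut.conj (x ^ i)).toMonoidHom
      have e : ((MulAut.conj (x ^ i)).toMonoidHom (f (j - i))) = f j := by
        simp only [hf, MulEquiv.coe_toMonoidHom, MulAut.conj_apply, zpow_sub]
        group
      rw [e] at h1
      exact h1.eq)
    have hap : (a : G) ^ p = 1 := by rw [← ha, ← Subgroup.orderOf_coe, pow_orderOf_eq_one]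
    have hA'p : IsPGroup p A' := by
      rintro ⟨u, hu⟩
      refine ⟨1, Subtype.ext ?_⟩
      show u ^ p ^ 1 = 1
      rw [pow_one]
      induction hu using Subgroup.closure_induction with
      | mem w hw =>
        obtain ⟨i, rfl⟩ := hw
        simp only [hf]
        rw [conj_pow, hap, mul_one, mul_inv_cancel]
      | one => exact one_pow p
      | mul v w hv hw hv' hw' =>
        have hvw : Commute v w := congrArg Subtype.val (hA'c.is_comm.comm (⟨v, hv⟩ : A') ⟨w, hw⟩)
        rw [hvw.mul_pow, hv', hw', one_mul]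
      | inv v _ hv => rw [inv_pow, hv, inv_one]
    have hxA : x ∈ Subgroup.normalizer (A' : Set G) := by
      have hmap : A'.map (MulAut.conj x).toMonoidHom = A' := by
        rw [hA', MonoidHom.map_closure, ← Set.range_comp]
        congr 1
        ext w
        constructor
        · rintro ⟨i, rfl⟩
          exact ⟨i + 1, by simp [hf, zpow_add, zpow_one]; group⟩
        · rintro ⟨i, rfl⟩
          exact ⟨i - 1, by simp [hf, zpow_sub, zpow_one]; group⟩
      refine Subgroup.mem_normalizer_iff.mpr fun s => ⟨fun h => ?_, fun h => ?_⟩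
      · rw [← hmap]; exact ⟨s, h, by simp⟩
      · rw [← hmap] at h
        obtain ⟨t, ht, hts⟩ := h
        simp only [MulEquiv.coe_toMonoidHom, MulAut.conj_apply, mul_left_inj, mul_right_inj] at hts
        rwa [← hts]
    have hQ : IsPGroup p (A' ⊔ Subgroup.zpowers x : Subgroup G) :=
      hA'p.to_sup_of_normal_left' hxp (Subgroup.zpowers_le.mpr hxA)
    have hxa : (a : G) * x = x * a := CfsgLib.Local.isolated_central hQ
      (Subgroup.mem_sup_right (Subgroup.mem_zpowers x)) hiso a
      (Subgroup.mem_sup_left (Subgroup.subset_closure ⟨0, by simp [hf]⟩))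
    -- `a` lies in `S` and in its conjugate
    set T := S.map (MulAut.conj x).toMonoidHom with hT
    have hTn : ∀ c ∈ commutator G, ∀ t ∈ T, c * t * c⁻¹ ∈ T := by
      rintro c hc _ ⟨s, hs, rfl⟩
      refine ⟨x⁻¹ * c * x * s * (x⁻¹ * c * x)⁻¹, hnS _ ?_ s hs, by simp [mul_assoc]⟩
      have := hxn (-1) c hc
      rwa [zpow_neg_one, inv_inv] at this
    have hne' : S ⊓ T ≠ ⊥ := fun h => by
      have h1 : (a : G) ∈ S ⊓ T := ⟨a.2, ⟨a, a.2, by simp [← hxa]⟩⟩
      rw [h, Subgroup.mem_bot] at h1
      rw [orderOf_eq_one_iff.mpr (show a = 1 from Subtype.ext h1)] at ha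
      exact (Fact.out : p.Prime).ne_one ha.symm
    have h1 := hSmin (S ⊓ T) inf_le_left (fun c hc s hs => ⟨hnS c hc s hs.1, hTn c hc s hs.2⟩) hne'
    have h2 : S = T := Subgroup.eq_of_le_of_card_ge (inf_eq_left.mp h1)
      (le_of_eq (Subgroup.card_map_of_injective (MulAut.conj x).injective))
    exact hs₁' (h2 ▸ ⟨s₁, hs₁, by simp⟩)

end Cfsg.Agent.S2972
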