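import Cfsg.Statements.S3919
import Mathlib
import Cfsg.Agent.Lib.MaximalClass
import Cfsg.Agent.Lib.Frobenius.UniqueSubgroup
-- import your own Cfsg.Agent.* helpers here

set_option autoImplicit false
open Cfsg

namespace Cfsg.Agent.S3919

theorem mem_zpowers_of_sq {G : Type*} [Group G] [Finite G] [IsCyclic G] {x w : G} (hx : x ^ 2 = 1) (hw : w ^ 2 = 1)
    (hw1 : w ≠ 1) : x ∈ Subgroup.zpowers w := by
  classical
  have := Fintype.ofFinite G
  by_contra hxw
  have hsub : ({1, w, x} : Finset G) ⊆ Finset.univ.filter (fun a => a ^ 2 = 1) := by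
    intro u hu
    simp only [Finset.mem_insert, Finset.mem_singleton] at hu
    rcases hu with rfl | rfl | rfl <;> simp [hx, hw]
  have hle := (Finset.card_le_card hsub).trans (IsCyclic.card_pow_eq_one_le (show 0 < 2 by norm_num))
  have h3 : ({1, w, x} : Finset G).card = 3 :=
    Finset.card_eq_three.mpr ⟨1, w, x, hw1.symm, fun e => hxw (e ▸ one_mem _),
      fun e => hxw (e ▸ Subgroup.mem_zpowers w), rfl⟩
  omega

theorem class_le {p : ℕ} [hp : Fact p.Prime] : ∀ (n : ℕ) {G : Type*} [Group G] [Finite G] (_ : Nat.card G = p ^ n)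
    (_ : 2 ≤ n), Group.nilpotencyClass G ≤ n - 1 := by
  intro n
  induction n using Nat.strong_induction_on with
  | _ n ih =>
  intro G _ _ hG hn
  have hP : IsPGroup p G := IsPGroup.of_card hG
  have := hP.isNilpotent
  have : Nontrivial G := by
    rw [← Finite.one_lt_card_iff_nontrivial, hG]
    exact Nat.one_lt_pow (by omega) hp.out.one_lt
  obtain ⟨j, hj⟩ := IsPGroup.iff_card.mp (hP.to_subgroup (Subgroup.center G))
  have hj0 : j ≠ 0 := fun e => by
    have : Nontrivial (Subgroup.center G) := hP.center_nontrivial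
    have h := Finite.one_lt_card (α := Subgroup.center G)
    rw [hj, e, pow_zero] at h
    exact lt_irrefl _ h
  obtain ⟨i, hi⟩ := IsPGroup.iff_card.mp (hP.to_quotient (Subgroup.center G))
  have hsum : i + j = n := by
    have h := Subgroup.card_eq_card_quotient_mul_card_subgroup (Subgroup.center G)
    rw [hG, hi, hj, ← pow_add] at h
    exact (Nat.pow_right_injective hp.out.two_le h).symm
  have hq := Group.nilpotencyClass_quotient_center (G := G)
  rcases Nat.lt_or_ge i 2 with hi2 | hi2
  · have hcyc : IsCyclic (G ⧸ Subgroup.center G) := by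
      rcases Nat.le_one_iff_eq_zero_or_eq_one.mp (show i ≤ 1 by omega) with h0 | h0
      · rw [h0, pow_zero] at hi
        have := (Nat.card_eq_one_iff_unique.mp hi).1
        infer_instance
      · exact isCyclic_of_prime_card (p := p) (by rw [hi, h0, pow_one])
    have hab := (QuotientGroup.mk' (Subgroup.center G)).isMulCommutative_of_isCyclic_of_ker_le_center
      (QuotientGroup.ker_mk' _).le
    have : Group.nilpotencyClass G ≤ 1 := by
      rw [← Subgroup.upperCentralSeries_eq_top_iff_nilpotencyClass_le, Subgroup.upperCentralSeries_one, eq_top_iff]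
      exact fun g _ => Subgroup.mem_center_iff.mpr fun x => hab.is_comm.comm x g
    omega
  · have := ih i (by omega) hi hi2
    omega

/-- Say that a group has self-centralizing non-cyclic subgroups when every non-cyclic subgroup H satisfies C_G(H) ≤ H. A finite non-abelian 2-group G of order 2^n has self-centralizing non-cyclic subgroups if and only if G has nilpotency class n − 1 (that is, G is dihedral, semidihedral or generalized quaternion). -/
theorem result {G : Type*} [Group G] [Finite G] (hna : ¬ IsMulCommutative G) (n : ℕ) (hG : Nat.card G = 2 ^ n) :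
    (∀ H : Subgroup G, ¬ IsCyclic ↥H → Subgroup.centralizer (H : Set G) ≤ H) ↔ (⊤ : Subgroup G).lowerCentralSeries (n - 2) ≠ ⊥ := by
  classical
  have := Fact.mk Nat.prime_two
  have hP : IsPGroup 2 G := IsPGroup.of_card hG
  have := hP.isNilpotent
  obtain ⟨a₀, b₀, hab⟩ : ∃ a b : G, a * b ≠ b * a := by
    by_contra h
    push Not at h
    exact hna ⟨⟨h⟩⟩
  have : Nontrivial G := ⟨⟨a₀ * b₀, b₀ * a₀, hab⟩⟩
  have hn3 : 3 ≤ n := by
    by_contra h
    have h2 : n = 0 ∨ n = 1 ∨ n = 2 := by omega
    rcases h2 with rfl | rfl | rfl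
    · have h1 : 1 < Nat.card G := Finite.one_lt_card
      rw [hG, pow_zero] at h1
      exact lt_irrefl _ h1
    · have := isCyclic_of_prime_card (p := 2) (α := G) (by rw [hG, pow_one])
      exact hab (IsMulCommutative.is_comm.comm a₀ b₀)
    · exact hab ((IsPGroup.commGroupOfCardEqPrimeSq hG).mul_comm a₀ b₀)
  have hcle : Group.nilpotencyClass G ≤ n - 1 := class_le n hG (by omega)
  have hiff : (⊤ : Subgroup G).lowerCentralSeries (n - 2) ≠ ⊥ ↔ Group.nilpotencyClass G = n - 1 := by
    rw [ne_eq, Subgroup.lowerCentralSeries_eq_bot_iff_nilpotencyClass_le]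
    omega
  rw [hiff]
  constructor
  · intro h
    obtain ⟨z, hz⟩ : ∃ z : Subgroup.center G, orderOf z = 2 := by
      have : Nontrivial (Subgroup.center G) := hP.center_nontrivial
      obtain ⟨k, hk⟩ := IsPGroup.iff_card.mp (hP.to_subgroup (Subgroup.center G))
      have hk0 : k ≠ 0 := fun e => by
        have h1 : 1 < Nat.card (Subgroup.center G) := Finite.one_lt_card
        rw [hk, e, pow_zero] at h1
        exact lt_irrefl _ h1
      exact exists_prime_orderOf_dvd_card' 2 (hk ▸ dvd_pow_self 2 hk0)
    have hzo : orderOf (z : G) = 2 := by rw [Subgroup.orderOf_coe, hz]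
    have hzc : ∀ g : G, g * (z : G) = (z : G) * g := Subgroup.mem_center_iff.mp z.2
    by_cases hu : ∀ y : G, y ^ 2 = 1 → y ∈ Subgroup.zpowers (z : G)
    · have huq : CfsgLib.Frob.UniqSub 2 G := by
        intro H K hH hK
        have key : ∀ L : Subgroup G, Nat.card L = 2 → L = Subgroup.zpowers (z : G) := fun L hL => by
          refine Subgroup.eq_of_le_of_card_ge (fun y hy => hu y ?_) (by rw [Nat.card_zpowers, hzo, hL])
          exact orderOf_dvd_iff_pow_eq_one.mp (hL ▸ L.orderOf_dvd_natCard hy)
        rw [key H hH, key K hK]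
      rcases CfsgLib.Frob.cyclic_or_quaternion_two hP huq with hc | ⟨m, ⟨e⟩⟩
      · exact absurd (IsMulCommutative.is_comm.comm a₀ b₀) hab
      · refine CfsgLib.MaximalClass.class_of_centralizer (p := 2) hG (x := e.symm (QuaternionGroup.xa 0)) (le_antisymm ?_ ?_)
        · have hhalf : ∀ i : ZMod (2 * 2 ^ m), i + i = 0 → i = 0 ∨ i = ((2 ^ m : ℕ) : ZMod (2 * 2 ^ m)) := by
            intro i hi
            have : NeZero (2 * 2 ^ m) := ⟨by positivity⟩
            have h2 : ((i.val + i.val : ℕ) : ZMod (2 * 2 ^ m)) = 0 := by push_cast; rw [ZMod.natCast_zmod_val, hi]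
            rw [ZMod.natCast_eq_zero_iff, show i.val + i.val = 2 * i.val by ring] at h2
            obtain ⟨k, hk⟩ := (Nat.mul_dvd_mul_iff_left (by norm_num : 0 < 2)).mp h2
            have hlt := i.val_lt
            rw [hk, Nat.mul_comm 2 (2 ^ m)] at hlt
            have hk2 : k < 2 := Nat.lt_of_mul_lt_mul_left hlt
            rw [← ZMod.natCast_zmod_val i, hk]
            interval_cases k
            · left; simp
            · right; simp
          have hsub : (Subgroup.centralizer ({e.symm (QuaternionGroup.xa 0)} : Set G) : Set G) ⊆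
              e.symm '' {QuaternionGroup.a 0, QuaternionGroup.a ((2 ^ m : ℕ) : ZMod (2 * 2 ^ m)), QuaternionGroup.xa 0,
                QuaternionGroup.xa ((2 ^ m : ℕ) : ZMod (2 * 2 ^ m))} := by
            intro x hx
            refine ⟨e x, ?_, e.symm_apply_apply x⟩
            have h1 := congrArg e (Subgroup.mem_centralizer_singleton_iff.mp hx)
            simp only [map_mul, MulEquiv.apply_symm_apply] at h1
            rcases hex : e x with i | i <;> rw [hex] at h1
            · rw [QuaternionGroup.a_mul_xa, QuaternionGroup.xa_mul_a] at h1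
              have h2 := QuaternionGroup.xa.inj h1
              rcases hhalf i (by linear_combination -h2) with h3 | h3 <;> simp [h3]
            · rw [QuaternionGroup.xa_mul_xa, QuaternionGroup.xa_mul_xa] at h1
              have h2 := QuaternionGroup.a.inj h1
              rcases hhalf i (by linear_combination -h2) with h3 | h3 <;> simp [h3]
          rw [← SetLike.coe_sort_coe, Nat.card_coe_set_eq]
          refine (Set.ncard_le_ncard hsub (Set.toFinite _)).trans ((Set.ncard_image_le (Set.toFinite _)).trans ?_)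
          refine (Set.ncard_insert_le _ _).trans (Nat.succ_le_succ ?_)
          refine (Set.ncard_insert_le _ _).trans (Nat.succ_le_succ ?_)
          refine (Set.ncard_insert_le _ _).trans (Nat.succ_le_succ ?_)
          rw [Set.ncard_singleton]
        · have : NeZero (2 ^ m) := ⟨by positivity⟩
          have ho : orderOf (e.symm (QuaternionGroup.xa (0 : ZMod (2 * 2 ^ m)))) = 4 := by
            rw [MulEquiv.orderOf_eq, QuaternionGroup.orderOf_xa]
          rw [show 2 ^ 2 = 4 by norm_num, ← ho, ← Nat.card_zpowers]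
          exact Subgroup.card_le_of_le (Subgroup.zpowers_le.mpr (Subgroup.mem_centralizer_singleton_iff.mpr rfl))
    push Not at hu
    obtain ⟨y, hy, hyz⟩ := hu
    let V : Subgroup G :=
      { carrier := {x | ∃ s ∈ Subgroup.zpowers (z : G), ∃ t ∈ Subgroup.zpowers y, x = s * t}
        one_mem' := ⟨1, one_mem _, 1, one_mem _, (one_mul 1).symm⟩
        mul_mem' := by
          rintro _ _ ⟨s, hs, t, ht, rfl⟩ ⟨s', hs', t', ht', rfl⟩
          refine ⟨s * s', mul_mem hs hs', t * t', mul_mem ht ht', ?_⟩
          have hsc : s' ∈ Subgroup.center G := (Subgroup.zpowers_le.mpr z.2) hs'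
          rw [mul_assoc s t, ← mul_assoc t s', Subgroup.mem_center_iff.mp hsc t]
          group
        inv_mem' := by
          rintro _ ⟨s, hs, t, ht, rfl⟩
          refine ⟨s⁻¹, inv_mem hs, t⁻¹, inv_mem ht, ?_⟩
          have hsc : s⁻¹ ∈ Subgroup.center G := inv_mem ((Subgroup.zpowers_le.mpr z.2) hs)
          rw [mul_inv_rev, Subgroup.mem_center_iff.mp hsc] }
    have hyo : orderOf y = 2 := orderOf_eq_prime hy fun e => hyz (e ▸ one_mem _)
    have hVz : (z : G) ∈ V := ⟨_, Subgroup.mem_zpowers _, 1, one_mem _, (mul_one _).symm⟩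
    have hVy : y ∈ V := ⟨1, one_mem _, _, Subgroup.mem_zpowers _, (one_mul _).symm⟩
    have hnc : ¬ IsCyclic V := by
      intro hc
      have h1 := mem_zpowers_of_sq (G := V) (x := ⟨y, hVy⟩) (w := ⟨(z : G), hVz⟩) (Subtype.ext (by simpa using hy))
        (Subtype.ext (by simpa using orderOf_dvd_iff_pow_eq_one.mp hzo.dvd))
        (fun e => by rw [show (z : G) = 1 from congrArg Subtype.val e, orderOf_one] at hzo; omega)
      obtain ⟨i, hi⟩ := Subgroup.mem_zpowers_iff.mp h1
      exact hyz ⟨i, by simpa using congrArg Subtype.val hi⟩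
    have hV4 : Nat.card V = 2 ^ 2 := by
      obtain ⟨j, _, hj⟩ := (Nat.dvd_prime_pow Nat.prime_two).mp (hG ▸ Subgroup.card_subgroup_dvd_card V)
      have hle : Nat.card V ≤ 4 := by
        let f : Subgroup.zpowers (z : G) × Subgroup.zpowers y → V := fun st =>
          ⟨(st.1 : G) * st.2, st.1, st.1.2, st.2, st.2.2, rfl⟩
        have hf : Function.Surjective f := by
          rintro ⟨_, s, hs, t, ht, rfl⟩
          exact ⟨(⟨s, hs⟩, ⟨t, ht⟩), rfl⟩
        refine (Nat.card_le_card_of_surjective f hf).trans ?_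
        rw [Nat.card_prod, Nat.card_zpowers, Nat.card_zpowers, hzo, hyo]
      rcases Nat.lt_or_ge j 2 with h2 | h2
      · refine absurd ?_ hnc
        rcases Nat.le_one_iff_eq_zero_or_eq_one.mp (show j ≤ 1 by omega) with rfl | rfl
        · rw [pow_zero] at hj
          have := (Nat.card_eq_one_iff_unique.mp hj).1
          infer_instance
        · exact isCyclic_of_prime_card (p := 2) (by rw [hj, pow_one])
      · refine le_antisymm hle ?_
        rw [hj]
        exact Nat.pow_le_pow_right (by norm_num) h2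
    exact CfsgLib.MaximalClass.class_of_self_centralizing (p := 2) hG V hV4 (h V hnc)
  · intro hc H hH x hx
    obtain ⟨a, b, r, ha, hb, hgen, hconj, -, hfix, -⟩ := CfsgLib.MaximalClass.shape hn3 hG
      ((CfsgLib.MaximalClass.index_commutator hn3 hG hc).trans (by norm_num)) (CfsgLib.MaximalClass.pow_mem_commutator hn3 hG hc)
    obtain ⟨g, hgH, hg⟩ : ∃ g ∈ H, g ∉ Subgroup.zpowers a := by
      by_contra h
      push Not at h
      exact hH (isCyclic_of_injective (Subgroup.inclusion h) (Subgroup.inclusion_injective h))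
    obtain ⟨w, hwH, hwA, hw2⟩ : ∃ w ∈ H, w ∈ Subgroup.zpowers a ∧ orderOf w = 2 := by
      have hne : H ⊓ Subgroup.zpowers a ≠ ⊥ := by
        intro e
        refine hH ⟨⟨⟨g, hgH⟩, fun u => ?_⟩⟩
        by_cases hu : (u : G) ∈ Subgroup.zpowers a
        · have h0 : (u : G) = 1 := Subgroup.mem_bot.mp (e ▸ ⟨u.2, hu⟩)
          exact ⟨0, Subtype.ext (by simp [h0])⟩
        · have h1 := mul_mem (inv_mem ((hgen g).resolve_left hg)) ((hgen u).resolve_left hu)
          rw [mul_inv_rev, inv_inv, mul_assoc, mul_inv_cancel_left] at h1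
          have h0 : g⁻¹ * (u : G) = 1 := Subgroup.mem_bot.mp (e ▸ ⟨H.mul_mem (H.inv_mem hgH) u.2, h1⟩)
          exact ⟨1, Subtype.ext (by simpa using inv_mul_eq_one.mp h0)⟩
      obtain ⟨k, hk⟩ := IsPGroup.iff_card.mp (hP.to_subgroup (H ⊓ Subgroup.zpowers a))
      have hk0 : k ≠ 0 := fun e => hne (Subgroup.card_eq_one.mp (by rw [hk, e, pow_zero]))
      obtain ⟨w, hw⟩ := exists_prime_orderOf_dvd_card' 2 (hk ▸ dvd_pow_self 2 hk0)
      exact ⟨w, w.2.1, w.2.2, by rw [Subgroup.orderOf_coe, hw]⟩
    have hle : Subgroup.zpowers (a ^ 2 ^ (n - 2)) ≤ H := by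
      rw [Subgroup.zpowers_le]
      have hzo' : orderOf (a ^ 2 ^ (n - 2)) = 2 := by
        rw [orderOf_pow' a (Nat.two_pow_pos _).ne', ha, Nat.gcd_eq_right (pow_dvd_pow 2 (by omega)),
          Nat.pow_div (by omega) (by norm_num), show n - 1 - (n - 2) = 1 by omega, pow_one]
      have h1 := mem_zpowers_of_sq (G := Subgroup.zpowers a)
        (x := ⟨a ^ 2 ^ (n - 2), Subgroup.pow_mem _ (Subgroup.mem_zpowers a) _⟩) (w := ⟨w, hwA⟩)
        (Subtype.ext (by simpa using orderOf_dvd_iff_pow_eq_one.mp hzo'.dvd))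
        (Subtype.ext (by simpa using orderOf_dvd_iff_pow_eq_one.mp hw2.dvd))
        (fun e => by rw [show w = 1 from congrArg Subtype.val e, orderOf_one] at hw2; omega)
      obtain ⟨i, hi⟩ := Subgroup.mem_zpowers_iff.mp h1
      have hi' : w ^ i = a ^ 2 ^ (n - 2) := by simpa using congrArg Subtype.val hi
      exact hi' ▸ Subgroup.zpow_mem _ hwH i
    rcases CfsgLib.MaximalClass.shape_centralizer ha hgen hconj hfix hg
      (Subgroup.mem_centralizer_iff.mp hx g hgH).symm with h | h
    · exact hle h
    · have h2 := mul_mem hgH (hle h)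
      rwa [mul_inv_cancel_left] at h2

end Cfsg.Agent.S3919
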