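import Cfsg.Statements.S3814
import Cfsg.Agent.Lib.FourPrimes.Main
-- import your own Cfsg.Agent.* helpers here

set_option autoImplicit false
open Cfsg CfsgLib.FourPrimes

namespace Cfsg.Agent.S3814

/-- A criterion for nonsolvability from element orders: let G be a finite group and σ a set of at least four primes such that for all distinct p, q ∈ σ the product pq is the order of some element of G, while for all pairwise distinct p, q, r ∈ σ no element of G has order pqr. Then G is not solvable. -/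
theorem result {G : Type*} [Group G] [Finite G]
    (σ : Finset ℕ) (hσ : 4 ≤ σ.card) (hprime : ∀ p ∈ σ, p.Prime)
    (h2 : ∀ p ∈ σ, ∀ q ∈ σ, p ≠ q → ∃ g : G, orderOf g = p * q)
    (h3 : ∀ p ∈ σ, ∀ q ∈ σ, ∀ r ∈ σ, p ≠ q → q ≠ r → p ≠ r → ∀ g : G, orderOf g ≠ p * q * r) :
    ¬ Group.IsSolvable G := by
  classical
  intro hsolv
  obtain ⟨τ, hτσ, hτ⟩ := Finset.exists_subset_card_eq hσ
  have htop : Group.IsSolvable (⊤ : Subgroup G) := by have := hsolv; infer_instance
  obtain ⟨H, -, hHs, hHi⟩ := CfsgLib.exists_isPiHallOf (τ : Set ℕ) (M := (⊤ : Subgroup G)) htop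
  have hHsolv : Group.IsSolvable H := by have := hsolv; infer_instance
  have hprimeτ : ∀ p ∈ τ, p.Prime := fun p hp => hprime p (hτσ hp)
  have htri : ∀ p ∈ τ, ∀ q ∈ τ, ∀ r ∈ τ, p ≠ q → q ≠ r → p ≠ r → ∀ a b c : H, orderOf a = p → orderOf b = q →
      orderOf c = r → Commute a b → Commute b c → Commute a c → False := by
    intro p hp q hq r hr hpq hqr hpr a b c ha hb hc hab hbc hac
    have cpq := (Nat.coprime_primes (hprimeτ p hp) (hprimeτ q hq)).mpr hpq
    have h1 : orderOf (a * b) = p * q := by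
      rw [hab.orderOf_mul_eq_mul_orderOf_of_coprime (by rw [ha, hb]; exact cpq), ha, hb]
    have h4 : orderOf (a * b * c) = p * q * r := by
      rw [(hac.mul_left hbc).orderOf_mul_eq_mul_orderOf_of_coprime, h1, hc]
      rw [h1, hc]
      exact Nat.Coprime.mul_left ((Nat.coprime_primes (hprimeτ p hp) (hprimeτ r hr)).mpr hpr)
        ((Nat.coprime_primes (hprimeτ q hq) (hprimeτ r hr)).mpr hqr)
    exact h3 p (hτσ hp) q (hτσ hq) r (hτσ hr) hpq hqr hpr _ ((Subgroup.orderOf_coe (a * b * c)).trans h4)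
  have hedge : ∀ p ∈ τ, ∀ q ∈ τ, p ≠ q → ∃ a b : H, orderOf a = p ∧ orderOf b = q ∧ Commute a b := by
    intro p hp q hq hpq
    obtain ⟨g, hg⟩ := h2 p (hτσ hp) q (hτσ hq) hpq
    obtain ⟨x, -, hx⟩ := CfsgLib.pi_le_conj_hall (H := H) (U := Subgroup.zpowers g) htop
      ⟨le_top, hHs, hHi⟩ le_top (fun l hl hd => by
        rw [Nat.card_zpowers, hg] at hd
        rcases hl.dvd_mul.mp hd with e | e
        · rw [(Nat.prime_dvd_prime_iff_eq hl (hprimeτ p hp)).mp e]; exact hp
        · rw [(Nat.prime_dvd_prime_iff_eq hl (hprimeτ q hq)).mp e]; exact hq)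
    have hmem : x * g * x⁻¹ ∈ H := hx (by
      rw [CfsgLib.mem_conj_smul_iff]
      simpa [mul_assoc] using Subgroup.mem_zpowers g)
    let h : H := ⟨x * g * x⁻¹, hmem⟩
    have ho : orderOf h = p * q := by
      rw [← Subgroup.orderOf_coe, ← hg]
      exact orderOf_injective (MulAut.conj x).toMonoidHom (MulAut.conj x).injective g
    refine ⟨h ^ q, h ^ p, ?_, ?_, (Commute.refl h).pow_pow q p⟩
    · rw [orderOf_pow' _ (hprimeτ q hq).ne_zero, ho, Nat.gcd_mul_left_left, Nat.mul_div_cancel _ (hprimeτ q hq).pos]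
    · rw [orderOf_pow' _ (hprimeτ p hp).ne_zero, ho, Nat.gcd_mul_right_left, Nat.mul_div_cancel_left _ (hprimeτ p hp).pos]
  exact no_config (σ := τ) hτ hHsolv (fun p hp hd => Finset.mem_coe.mp (hHs p hp hd))
    (hyp_of hτ hprimeτ hHsolv hedge htri)

end Cfsg.Agent.S3814
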