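import Cfsg.Statements.S2135
import Cfsg.Agent.Lib.J3.Field
import Cfsg.Agent.Lib.J3.Words
import Cfsg.Agent.Lib.LargeExtra.Odd

set_option autoImplicit false
set_option maxRecDepth 1000000
open Cfsg CfsgLib.CosetEnum CfsgLib.J3

namespace Cfsg.Agent.S2135

variable {G : Type*} [Group G] (e : presJ3.Grp ≃* G)

/-- The element of a word in the group. -/
noncomputable def el (w : List ℕ) : G := e (wel w)

theorem el_append (u v : List ℕ) : el e (u ++ v) = el e u * el e v := by rw [el, wel_append, map_mul]; rfl

theorem el_reverse (u : List ℕ) : el e u.reverse = (el e u)⁻¹ := by rw [el, wel_reverse, map_inv]; rfl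

theorem el_nil : el e [] = 1 := by rw [el, wel_nil, map_one]

theorem el_eq {u v : List ℕ} (hu : okLet u = true) (hv : okLet v = true) (h : key u = key v) : el e u = el e v :=
  congrArg e (eq_of_key hu hv h)

theorem key_eq {u v : List ℕ} (hu : okLet u = true) (hv : okLet v = true) (h : el e u = el e v) : key u = key v :=
  key_of_eq hu hv (e.injective h)

/-- A product check for a table. -/
noncomputable def okMul (W S : List (List ℕ)) (tab : List (List ℕ)) : Bool :=
  (W.all okLet) && (S.all okLet) &&
    allN W.length fun i => force i fun i => allN S.length fun j => force j fun j =>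
      force ((tab.getD i []).getD j 0) fun k =>
        Nat.blt k W.length && Nat.beq (key (W.getD i [] ++ S.getD j [])) (key (W.getD k []))

theorem okMul_spec {W S tab : List (List ℕ)} (h : okMul W S tab = true) {i j : ℕ} (hi : i < W.length)
    (hj : j < S.length) :
    (tab.getD i []).getD j 0 < W.length ∧
      el e (W.getD i []) * el e (S.getD j []) = el e (W.getD ((tab.getD i []).getD j 0) []) := by
  simp only [okMul, Bool.and_eq_true, List.all_eq_true] at h
  obtain ⟨⟨hW, hS⟩, h⟩ := h
  have h1 := allN_spec h i hi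
  rw [force_eq] at h1
  have h2 := allN_spec h1 j hj
  rw [force_eq, force_eq, Bool.and_eq_true, blt_iff] at h2
  refine ⟨h2.1, ?_⟩
  have hiW : okLet (W.getD i []) = true := hW _ (List.getD_eq_getElem _ _ hi ▸ List.getElem_mem hi)
  have hjS : okLet (S.getD j []) = true := hS _ (List.getD_eq_getElem _ _ hj ▸ List.getElem_mem hj)
  have hkW : okLet (W.getD ((tab.getD i []).getD j 0) []) = true :=
    hW _ (List.getD_eq_getElem _ _ h2.1 ▸ List.getElem_mem h2.1)
  rw [← el_append]
  refine el_eq e ?_ hkW (Nat.eq_of_beq_eq_true h2.2)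
  simp only [okLet, List.all_append, Bool.and_eq_true]
  exact ⟨hiW, hjS⟩

/-- The first generator. -/
noncomputable def t : G := el e [0]

theorem nodup_keys_inj {W : List (List ℕ)} (hW : W.all okLet = true) (hn : (W.map key).Nodup) {i j : ℕ}
    (hi : i < W.length) (hj : j < W.length) (h : el e (W.getD i []) = el e (W.getD j [])) : i = j := by
  have hk := key_eq e (List.all_eq_true.mp hW _ (List.getD_eq_getElem _ _ hi ▸ List.getElem_mem hi))
    (List.all_eq_true.mp hW _ (List.getD_eq_getElem _ _ hj ▸ List.getElem_mem hj)) h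
  rw [List.getD_eq_getElem _ _ hi, List.getD_eq_getElem _ _ hj] at hk
  exact (List.Nodup.getElem_inj_iff hn (hi := by simpa using hi) (hj := by simpa using hj)).mp (by simpa using hk)

theorem q_len : qWords.length = 32 ∧ aWords.length = 60 ∧ pWords.length = 128 := by decide +kernel

theorem qMul : okMul qWords qWords qTab = true := by decide +kernel

theorem aMul : okMul aWords aWords aTab = true := by decide +kernel

theorem pMul : okMul pWords pGens pTab = true := by decide +kernel

theorem qConjOk : (allN 60 fun g => force g fun g => allN 32 fun i => force i fun i =>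
    force ((qConj.getD g []).getD i 0) fun k => Nat.blt k 32 &&
      Nat.beq (key ((aWords.getD g []).reverse ++ qWords.getD i [] ++ aWords.getD g [])) (key (qWords.getD k []))) = true := by
  decide +kernel

theorem commOk : ((qWords ++ aWords ++ pWords).all fun w =>
    okLet w && Nat.beq (key ([0] ++ w)) (key (w ++ [0]))) = true := by
  decide +kernel

theorem qaNodup : (qWords.map key).Nodup ∧ (aWords.map key).Nodup ∧
    ∀ i < 60, i ≠ 0 → key (aWords.getD i []) ∉ qWords.map key := by decide +kernel

theorem pNodup : (pWords.map key).Nodup := by decide +kernel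

theorem comm_of_mem {w : List ℕ} (h : w ∈ qWords ++ aWords ++ pWords) : el e w * t e = t e * el e w := by
  have h' := List.all_eq_true.mp commOk w h
  simp only [Bool.and_eq_true] at h'
  rw [t, ← el_append, ← el_append]
  refine (el_eq e ?_ ?_ (Nat.eq_of_beq_eq_true h'.2)).symm <;>
    simp [okLet, List.all_append] <;> simpa [okLet, List.all_eq_true] using h'.1

/-- The centraliser. -/
noncomputable def C : Subgroup G := Subgroup.centralizer ({t e} : Set G)

theorem mem_C {g : G} : g ∈ C e ↔ g * t e = t e * g := Subgroup.mem_centralizer_singleton_iff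

/-- The elements of the extraspecial subgroup in the centraliser. -/
noncomputable def qC (i : Fin 32) : C e := ⟨el e (qWords.getD i.val []), (mem_C e).mpr (comm_of_mem e (by
  have h : i.val < qWords.length := by rw [q_len.1]; exact i.2
  rw [List.getD_eq_getElem _ _ h]
  exact List.mem_append_left _ (List.mem_append_left _ (List.getElem_mem h))))⟩

theorem qC_injective : Function.Injective (qC e) := fun i j h =>
  Fin.ext (nodup_keys_inj e (by decide +kernel) qaNodup.1 (lt_of_lt_of_eq i.2 q_len.1.symm) (lt_of_lt_of_eq j.2 q_len.1.symm)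
    (congrArg Subtype.val h))

theorem qC_mul (i j : Fin 32) : ∃ h : (qTab.getD i.val []).getD j.val 0 < 32,
    qC e i * qC e j = qC e ⟨(qTab.getD i.val []).getD j.val 0, h⟩ := by
  obtain ⟨h1, h2⟩ := okMul_spec e qMul (i := i.val) (j := j.val) (lt_of_lt_of_eq i.2 q_len.1.symm) (lt_of_lt_of_eq j.2 q_len.1.symm)
  exact ⟨lt_of_lt_of_eq h1 q_len.1, Subtype.ext h2⟩

theorem qC_zero : qC e 0 = 1 := Subtype.ext ((congrArg (el e) (show qWords.getD 0 [] = [] from rfl)).trans (el_nil e))

/-- The multiplication on indices. -/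
def qm (i j : Fin 32) : Fin 32 := Fin.ofNat 32 ((qTab.getD i.val []).getD j.val 0)

theorem qC_qm (i j : Fin 32) : qC e i * qC e j = qC e (qm i j) := by
  obtain ⟨h, h'⟩ := qC_mul e i j
  rw [h']
  exact congrArg (qC e) (Fin.ext (Nat.mod_eq_of_lt h).symm)

theorem qm_inv : ∀ i : Fin 32, ∃ j : Fin 32, qm i j = 0 := by decide +kernel

/-- The extraspecial subgroup. -/
noncomputable def Q : Subgroup (C e) where
  carrier := Set.range (qC e)
  one_mem' := ⟨0, qC_zero e⟩
  mul_mem' := by
    rintro _ _ ⟨i, rfl⟩ ⟨j, rfl⟩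
    exact ⟨_, (qC_qm e i j).symm⟩
  inv_mem' := by
    rintro _ ⟨i, rfl⟩
    obtain ⟨j, hj⟩ := qm_inv i
    exact ⟨j, eq_inv_of_mul_eq_one_right (by rw [qC_qm, hj, qC_zero])⟩

/-- The elements of the subgroup as indices. -/
noncomputable def qE : Fin 32 ≃ Q e := Equiv.ofBijective (fun i => ⟨qC e i, i, rfl⟩)
  ⟨fun i j h => qC_injective e (congrArg Subtype.val h), fun x => by
    obtain ⟨i, hi⟩ := x.2
    exact ⟨i, Subtype.ext hi⟩⟩

theorem qE_mul (i j : Fin 32) : qE e i * qE e j = qE e (qm i j) := Subtype.ext (qC_qm e i j)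

theorem qE_zero : qE e 0 = 1 := Subtype.ext (qC_zero e)

theorem qE_eq {i j : Fin 32} : qE e i = qE e j ↔ i = j := (qE e).injective.eq_iff

theorem card_Q : Nat.card (Q e) = 32 := by rw [← Nat.card_congr (qE e), Nat.card_fin]

theorem extraspecial : Cfsg.IsExtraspecial 2 (Q e) := by
  have : Finite (Q e) := Finite.of_equiv _ (qE e)
  have key1 : ∀ i : Fin 32, (∀ j : Fin 32, qm i j = qm j i) ↔ i = 0 ∨ i = 1 := by decide +kernel
  have key2 : ∀ i : Fin 32, qm i i = 0 ∨ qm i i = 1 := by decide +kernel
  have hext : CfsgLib.ExtraTwo.Ext2 (Q e) (qE e 1) := by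
    refine ⟨fun h => ?_, fun g => ?_, fun g => ?_⟩
    · exact absurd ((qE_eq e).mp (h.trans (qE_zero e).symm)) (by decide)
    · obtain ⟨i, rfl⟩ := (qE e).surjective g
      rw [Subgroup.mem_center_iff, ← qE_zero e, qE_eq, qE_eq, ← key1 i]
      constructor
      · intro h j
        have := h (qE e j)
        rw [qE_mul, qE_mul, qE_eq] at this
        exact this.symm
      · intro h x
        obtain ⟨j, rfl⟩ := (qE e).surjective x
        rw [qE_mul, qE_mul, qE_eq]
        exact (h j).symm
    · obtain ⟨i, rfl⟩ := (qE e).surjective g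
      rw [qE_mul, ← qE_zero e, qE_eq, qE_eq]
      exact key2 i
  refine CfsgLargeExtra.isExtraspecial_of_ext2 hext (a := qE e 2) (b := qE e 3) ?_
  rw [qE_mul, qE_mul, ne_eq, qE_eq]
  decide +kernel

theorem elementary_le (E : Subgroup (Q e)) (hE : Cfsg.IsElementaryAbelian 2 E) : Nat.card E ≤ 2 ^ 2 := by
  classical
  have : Finite (Q e) := Finite.of_equiv _ (qE e)
  set S : Finset (Fin 32) := Finset.univ.filter fun i => qE e i ∈ E with hS
  have hcard : Nat.card E = S.card := by
    rw [← Nat.card_eq_finsetCard]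
    refine Nat.card_congr (((qE e).subtypeEquiv (p := fun i => i ∈ S) (q := fun x => x ∈ E) fun i => ?_).symm)
    simp [hS]
  have key : ∀ i j : Fin 32, i ≠ 0 → j ≠ 0 → i ≠ j → qm i i = 0 → qm j j = 0 → qm i j = qm j i →
      ∀ k : Fin 32, qm k k = 0 → qm i k = qm k i → qm j k = qm k j → k = 0 ∨ k = i ∨ k = j ∨ k = qm i j := by
    decide +kernel
  by_contra hlt
  rw [hcard, not_le] at hlt
  have hsq : ∀ i ∈ S, qm i i = 0 := by
    intro i hi
    have h := hE.2 (qE e i) (Finset.mem_filter.mp hi).2
    rwa [pow_two, qE_mul, ← qE_zero e, qE_eq] at h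
  have hcomm : ∀ i ∈ S, ∀ j ∈ S, qm i j = qm j i := by
    intro i hi j hj
    have h := congrArg Subtype.val
      (hE.1.is_comm.comm (⟨_, (Finset.mem_filter.mp hi).2⟩ : E) (⟨_, (Finset.mem_filter.mp hj).2⟩ : E))
    simpa [qE_mul, qE_eq] using h
  obtain ⟨i, hi, hi0⟩ := Finset.exists_mem_ne (show 1 < S.card by omega) (0 : Fin 32)
  obtain ⟨j, hj⟩ : (S \ {0, i}).Nonempty := by
    rw [← Finset.card_pos]
    have := Finset.card_le_card_sdiff_add_card (s := S) (t := {0, i})
    have := Finset.card_le_two (a := (0 : Fin 32)) (b := i)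
    omega
  simp only [Finset.mem_sdiff, Finset.mem_insert, Finset.mem_singleton, not_or] at hj
  have hsub : S ⊆ {0, i, j, qm i j} := by
    intro k hk
    have := key i j hi0 hj.2.1 (Ne.symm hj.2.2) (hsq i hi) (hsq j hj.1) (hcomm i hi j hj.1) k (hsq k hk)
      (hcomm i hi k hk) (hcomm j hj.1 k hk)
    simpa using this
  have := Finset.card_le_card hsub
  have := Finset.card_le_four (a := (0 : Fin 32)) (b := i) (c := j) (d := qm i j)
  omega

/-- The index of an even permutation. -/
def aIdx (σ : alternatingGroup (Fin 5)) : ℕ :=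
  aPerm.idxOf ((List.range 5).map fun i => ((σ : Equiv.Perm (Fin 5)) (Fin.ofNat 5 i)).val)

theorem aIdx_spec : (∀ σ : alternatingGroup (Fin 5), aIdx σ < 60) ∧
    ∀ σ τ : alternatingGroup (Fin 5), (aTab.getD (aIdx σ) []).getD (aIdx τ) 0 = aIdx (σ * τ) := by
  decide +kernel

theorem aIdx_inj : ∀ σ : alternatingGroup (Fin 5), aIdx σ = 0 → σ = 1 := by decide +kernel

/-- The complement as a homomorphism. -/
noncomputable def aHom : alternatingGroup (Fin 5) →* C e :=
  MonoidHom.mk' (fun σ => ⟨el e (aWords.getD (aIdx σ) []), (mem_C e).mpr (comm_of_mem e (by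
    have h : aIdx σ < aWords.length := by rw [q_len.2.1]; exact aIdx_spec.1 σ
    rw [List.getD_eq_getElem _ _ h]
    exact List.mem_append_left _ (List.mem_append_right _ (List.getElem_mem h))))⟩) fun σ τ => by
    refine Subtype.ext ?_
    show el e (aWords.getD (aIdx (σ * τ)) []) = el e (aWords.getD (aIdx σ) []) * el e (aWords.getD (aIdx τ) [])
    rw [(okMul_spec e aMul (lt_of_lt_of_eq (aIdx_spec.1 σ) q_len.2.1.symm) (lt_of_lt_of_eq (aIdx_spec.1 τ) q_len.2.1.symm)).2, aIdx_spec.2]

theorem aHom_not_mem {σ : alternatingGroup (Fin 5)} (h : aHom e σ ∈ Q e) : σ = 1 := by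
  obtain ⟨i, hi⟩ := h
  refine aIdx_inj σ (by_contra fun hne => ?_)
  refine qaNodup.2.2 _ (aIdx_spec.1 σ) hne ?_
  have hi' : el e (qWords.getD i.val []) = el e (aWords.getD (aIdx σ) []) := congrArg Subtype.val hi
  have ha : aIdx σ < aWords.length := lt_of_lt_of_eq (aIdx_spec.1 σ) q_len.2.1.symm
  have hq : i.val < qWords.length := q_len.1.symm ▸ i.2
  have hok : ∀ w ∈ qWords ++ aWords ++ pWords, okLet w = true := fun w hw => by
    have := List.all_eq_true.mp commOk w hw
    simp only [Bool.and_eq_true] at this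
    exact this.1
  rw [List.getD_eq_getElem _ _ ha, List.getD_eq_getElem _ _ hq] at hi'
  rw [List.getD_eq_getElem _ _ ha]
  exact List.mem_map.mpr ⟨_, List.getElem_mem hq, key_eq e
    (hok _ (List.mem_append_left _ (List.mem_append_left _ (List.getElem_mem hq))))
    (hok _ (List.mem_append_left _ (List.mem_append_right _ (List.getElem_mem ha)))) hi'⟩

theorem aHom_injective : Function.Injective (aHom e) := by
  rw [← MonoidHom.ker_eq_bot_iff, Subgroup.eq_bot_iff_forall]
  exact fun σ h => aHom_not_mem e ((MonoidHom.mem_ker.mp h).symm ▸ one_mem _)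

/-- The elements of the Sylow subgroup. -/
noncomputable def pg (i : ℕ) : G := el e (pWords.getD i [])

/-- The Sylow subgroup. -/
noncomputable def P : Subgroup G := Subgroup.closure (Set.range fun j : Fin 5 => el e (pGens.getD j.val []))

/-- A submonoid of a finite group as a subgroup. -/
def subgroupOfSubmonoid {H : Type*} [Group H] [Finite H] (S : Submonoid H) : Subgroup H where
  carrier := S
  one_mem' := S.one_mem
  mul_mem' := S.mul_mem
  inv_mem' {a} ha := by
    obtain ⟨n, hn, hpow⟩ := (isOfFinOrder_of_finite a).exists_pow_eq_one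
    rw [show a⁻¹ = a ^ (n - 1) from inv_eq_of_mul_eq_one_right (by
      rw [← pow_succ', Nat.sub_add_cancel hn, hpow])]
    exact S.pow_mem ha _

theorem P_carrier [Finite G] {g : G} (hg : g ∈ P e) : ∃ i < 128, g = pg e i := by
  let S : Submonoid G :=
    { carrier := {g | ∀ i < 128, ∃ k < 128, pg e i * g = pg e k}
      one_mem' := fun i hi => ⟨i, hi, mul_one _⟩
      mul_mem' := fun {a b} ha hb i hi => by
        obtain ⟨k, hk, h⟩ := ha i hi
        obtain ⟨l, hl, h'⟩ := hb k hk
        exact ⟨l, hl, by rw [← mul_assoc, h, h']⟩ }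
  have hle : P e ≤ subgroupOfSubmonoid S := by
    rw [P, Subgroup.closure_le]
    rintro _ ⟨j, rfl⟩
    show ∀ i < 128, ∃ k < 128, pg e i * el e (pGens.getD j.val []) = pg e k
    intro i hi
    have hj : j.val < pGens.length := by rw [show pGens.length = 5 from rfl]; exact j.2
    obtain ⟨h1, h2⟩ := okMul_spec e pMul (lt_of_lt_of_eq hi q_len.2.2.symm) hj
    exact ⟨_, lt_of_lt_of_eq h1 q_len.2.2, h2⟩
  obtain ⟨k, hk, h⟩ := (show ∀ i < 128, ∃ k < 128, pg e i * g = pg e k from hle hg) 0 (by norm_num)
  refine ⟨k, hk, ?_⟩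
  rwa [pg, show pWords.getD 0 [] = [] from rfl, el_nil, one_mul] at h

theorem pPar : ∀ i < 128, i ≠ 0 → ∃ p : Fin 128, p.val < i ∧ ∃ j : Fin 5, (pTab.getD p.val []).getD j.val 0 = i := by
  decide +kernel

theorem pg_mem (i : ℕ) (hi : i < 128) : pg e i ∈ P e := by
  induction i using Nat.strong_induction_on with
  | _ i ih =>
    by_cases h0 : i = 0
    · subst h0
      rw [pg, show pWords.getD 0 [] = [] from rfl, el_nil]
      exact one_mem _
    obtain ⟨p, hp, j, hj⟩ := pPar i hi h0
    have hj' : j.val < pGens.length := by rw [show pGens.length = 5 from rfl]; exact j.2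
    obtain ⟨-, h2⟩ := okMul_spec e pMul (lt_of_lt_of_eq p.2 q_len.2.2.symm) hj'
    rw [pg, ← hj, ← h2]
    exact mul_mem (ih p hp p.2) (Subgroup.subset_closure ⟨j, rfl⟩)

theorem card_P [Finite G] : Nat.card (P e) = 128 := by
  refine ((Nat.card_congr (Equiv.ofBijective (fun i : Fin 128 => (⟨pg e i, pg_mem e i i.2⟩ : P e))
    ⟨fun i j h => ?_, fun x => ?_⟩)).symm.trans (Nat.card_fin 128))
  · exact Fin.ext (nodup_keys_inj e (by decide +kernel) pNodup (lt_of_lt_of_eq i.2 q_len.2.2.symm) (lt_of_lt_of_eq j.2 q_len.2.2.symm)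
      (congrArg Subtype.val h))
  · obtain ⟨i, hi, h⟩ := P_carrier e x.2
    exact ⟨⟨i, hi⟩, Subtype.ext h.symm⟩

theorem pConj_ok : (allN 128 fun i => force i fun i =>
    !(Nat.beq (key (pWords.getD i [] ++ pWords.getD i [])) (key [])) || Nat.beq (key (pWords.getD i [])) (key []) ||
      (okLet (pConj.getD i []) &&
        Nat.beq (key ((pConj.getD i []).reverse ++ [0] ++ pConj.getD i [])) (key (pWords.getD i [])))) = true := by
  decide +kernel

theorem conj_t [Finite G] (hcard : Nat.card G = 50232960) {x : G} (hx : orderOf x = 2) : IsConj (t e) x := by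
  classical
  have : Fact (Nat.Prime 2) := ⟨Nat.prime_two⟩
  have hP : Nat.card (P e) = 2 ^ (Nat.card G).factorization 2 := by
    rw [card_P e, hcard]
    have : (50232960 : ℕ).factorization 2 = 7 := by
      rw [show (50232960 : ℕ) = 2 ^ 7 * 392445 by norm_num, Nat.factorization_mul (by norm_num) (by norm_num),
        Finsupp.add_apply, Nat.factorization_pow, Finsupp.smul_apply, Nat.Prime.factorization_self Nat.prime_two,
        Nat.factorization_eq_zero_of_not_dvd (show ¬(2 : ℕ) ∣ 392445 by norm_num)]
      rfl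
    rw [this]
    norm_num
  let S : Sylow 2 G := Sylow.ofCard (P e) hP
  have hz : IsPGroup 2 (Subgroup.zpowers x) := IsPGroup.of_card (n := 1) (by rw [Nat.card_zpowers, hx]; rfl)
  obtain ⟨T, hT⟩ := hz.exists_le_sylow
  obtain ⟨g, hg⟩ := MulAction.exists_smul_eq G T S
  have hxS : g * x * g⁻¹ ∈ P e := by
    have hxT : x ∈ (T : Subgroup G) := hT (Subgroup.mem_zpowers x)
    have : g * x * g⁻¹ ∈ ((g • T : Sylow 2 G) : Subgroup G) := by
      rw [Sylow.coe_subgroup_smul, Subgroup.mem_smul_pointwise_iff_exists]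
      exact ⟨x, hxT, by simp [MulAut.smul_def]⟩
    rw [hg] at this
    exact this
  obtain ⟨i, hi, hgi⟩ := P_carrier e hxS
  set y := g * x * g⁻¹ with hy
  have hy2 : orderOf y = 2 := by
    rw [hy, show g * x * g⁻¹ = MulAut.conj g x from rfl, MulEquiv.orderOf_eq, hx]
  have hok : okLet (pWords.getD i []) = true := by
    have := List.all_eq_true.mp commOk (pWords.getD i []) (List.mem_append_right _
      (List.getD_eq_getElem _ _ (lt_of_lt_of_eq hi q_len.2.2.symm) ▸ List.getElem_mem _))
    simp only [Bool.and_eq_true] at this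
    exact this.1
  have h := allN_spec pConj_ok i hi
  simp only [force_eq, Bool.or_eq_true, Bool.and_eq_true, Bool.not_eq_true'] at h
  have hconj : IsConj (t e) y := by
    rcases h with (h | h) | ⟨hc, h⟩
    · exfalso
      have h1 : key (pWords.getD i [] ++ pWords.getD i []) = key [] := by
        refine key_eq e (by simp [okLet, List.all_append]; simpa [okLet, List.all_eq_true] using hok) rfl ?_
        rw [el_append, el_nil, show el e (pWords.getD i []) = y from hgi.symm, ← pow_two, ← hy2, pow_orderOf_eq_one]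
      exact Nat.ne_of_beq_eq_false h h1
    · exfalso
      have h1 := el_eq e hok (show okLet [] = true from rfl) (Nat.eq_of_beq_eq_true h)
      rw [el_nil, show el e (pWords.getD i []) = y from hgi.symm] at h1
      rw [h1, orderOf_one] at hy2
      norm_num at hy2
    · have h1 := el_eq e (by simp [okLet, List.all_append]; simpa [okLet, List.all_eq_true] using hc) hok
        (Nat.eq_of_beq_eq_true h)
      rw [el_append, el_append, el_reverse, show el e (pWords.getD i []) = y from hgi.symm] at h1
      exact isConj_iff.mpr ⟨(el e (pConj.getD i []))⁻¹, by rw [inv_inv]; exact h1⟩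
  exact hconj.trans (isConj_iff.mpr ⟨g⁻¹, by rw [hy]; group⟩)

theorem orderOf_t : orderOf (t e) = 2 := by
  refine orderOf_eq_prime ?_ ?_
  · rw [pow_two, t, ← el_append, ← el_nil e]
    exact el_eq e (by decide) rfl (by decide +kernel)
  · intro h
    have := key_eq e (show okLet [0] = true by decide) (show okLet [] = true from rfl) (h.trans (el_nil e).symm)
    revert this
    decide +kernel

theorem index_ge [Finite G] : 8722 ≤ (C e).index := by
  have hf : Function.Injective fun i : Fin distinctAll.length =>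
      (QuotientGroup.mk (el e (distinctAll[i.val]))⁻¹ : G ⧸ C e) := by
    intro i j h
    have h' := QuotientGroup.eq.mp h
    rw [inv_inv, mem_C] at h'
    set a := el e (distinctAll[i.val])
    set b := el e (distinctAll[j.val])
    have hck : ckey distinctAll[i.val] = ckey distinctAll[j.val] := by
      refine ckey_of_eq (distinctAll_spec.1 _ (List.getElem_mem _)) (distinctAll_spec.1 _ (List.getElem_mem _))
        (e.injective ?_)
      rw [map_mul, map_mul, map_mul, map_mul, map_inv, map_inv]
      show a⁻¹ * t e * a = b⁻¹ * t e * b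
      calc a⁻¹ * t e * a = a⁻¹ * (t e * (a * b⁻¹)) * b := by group
        _ = a⁻¹ * (a * b⁻¹ * t e) * b := by rw [h']
        _ = b⁻¹ * t e * b := by group
    have hp := distinctAll_spec.2
    rw [List.pairwise_iff_getElem] at hp
    rcases lt_trichotomy i.val j.val with hij | hij | hij
    · exact absurd hck (hp i.val j.val i.2 j.2 hij).ne
    · exact Fin.ext hij
    · exact absurd hck.symm (hp j.val i.val j.2 i.2 hij).ne
  have := Nat.card_le_card_of_injective _ hf
  rwa [Nat.card_fin, distinctAll_length] at this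

theorem card_C [Finite G] (hcard : Nat.card G = 50232960) : Nat.card (C e) = 1920 := by
  have h1 := (C e).card_mul_index
  have h2 := index_ge e
  have hPC : P e ≤ C e := by
    rw [P, Subgroup.closure_le]
    rintro _ ⟨j, rfl⟩
    rw [SetLike.mem_coe, mem_C, t, ← el_append, ← el_append]
    have key1 : ∀ j : Fin 5, okLet (pGens.getD j.val [] ++ [0]) = true ∧ okLet ([0] ++ pGens.getD j.val []) = true ∧
        key (pGens.getD j.val [] ++ [0]) = key ([0] ++ pGens.getD j.val []) := by decide +kernel
    exact el_eq e (key1 j).1 (key1 j).2.1 (key1 j).2.2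
  have hA : (aHom e).range.map (C e).subtype ≤ C e := Subgroup.map_subtype_le _
  have d1 := Subgroup.card_dvd_of_le hPC
  rw [card_P e] at d1
  have d2 := Subgroup.card_subgroup_dvd_card (aHom e).range
  rw [← Nat.card_congr (MonoidHom.ofInjective (aHom_injective e)).toEquiv, Nat.card_eq_fintype_card,
    show Fintype.card (alternatingGroup (Fin 5)) = 60 from by decide +kernel] at d2
  have d3 : 1920 ∣ Nat.card (C e) := Nat.lcm_dvd d1 d2
  obtain ⟨k, hk⟩ := d3
  rw [hk, hcard] at h1
  have h3 : k * (C e).index = 26163 := by nlinarith [h1]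
  have h4 : k ≤ 2 := by nlinarith
  interval_cases k <;> omega

/-- The product map of the subgroup and the complement. -/
noncomputable def prodMap (p : Q e × alternatingGroup (Fin 5)) : C e := p.1 * aHom e p.2

theorem prodMap_injective : Function.Injective (prodMap e) := by
  rintro ⟨q, σ⟩ ⟨r, τ⟩ h
  have h' : (q : C e) * aHom e σ = r * aHom e τ := h
  have hm : aHom e (σ * τ⁻¹) ∈ Q e := by
    rw [map_mul, map_inv, show aHom e σ * (aHom e τ)⁻¹ = (q : C e)⁻¹ * r by
      rw [eq_inv_mul_iff_mul_eq, ← mul_assoc, h', mul_inv_cancel_right]]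
    exact mul_mem (inv_mem q.2) r.2
  have hστ : σ = τ := mul_inv_eq_one.mp (aHom_not_mem e hm)
  subst hστ
  exact Prod.ext (Subtype.ext (mul_right_cancel h')) rfl

theorem prodMap_surjective [Finite G] (hcard : Nat.card G = 50232960) : Function.Surjective (prodMap e) := by
  have : Finite (Q e) := Finite.of_equiv _ (qE e)
  refine ((Nat.bijective_iff_injective_and_card _).mpr ⟨prodMap_injective e, ?_⟩).2
  rw [Nat.card_prod, card_Q, card_C e hcard, Nat.card_eq_fintype_card (α := alternatingGroup (Fin 5)),
    show Fintype.card (alternatingGroup (Fin 5)) = 60 from by decide +kernel]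

theorem normal [Finite G] (hcard : Nat.card G = 50232960) : (Q e).Normal := by
  rw [← Subgroup.normalizer_eq_top_iff, eq_top_iff]
  rintro c -
  obtain ⟨⟨q, σ⟩, rfl⟩ := prodMap_surjective e hcard c
  refine mul_mem (Subgroup.le_normalizer q.2) ?_
  rw [Subgroup.mem_normalizer_iff]
  set a := aHom e σ
  have ha : (a : G) = el e (aWords.getD (aIdx σ) []) := rfl
  have hfwd : ∀ x ∈ Q e, a⁻¹ * x * a ∈ Q e := by
    rintro _ ⟨i, rfl⟩
    have h := allN_spec qConjOk (aIdx σ) (aIdx_spec.1 σ)
    rw [force_eq] at h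
    have h' := allN_spec h i.val i.2
    rw [force_eq, force_eq, Bool.and_eq_true, blt_iff] at h'
    refine ⟨⟨_, h'.1⟩, Subtype.ext ?_⟩
    show el e (qWords.getD _ []) = (a : G)⁻¹ * el e (qWords.getD i.val []) * (a : G)
    rw [ha, ← el_reverse, ← el_append, ← el_append]
    have hokq : ∀ k < 32, okLet (qWords.getD k []) = true := by decide +kernel
    have hoka : ∀ k < 60, okLet (aWords.getD k []) = true ∧ okLet (aWords.getD k []).reverse = true := by
      decide +kernel
    refine (el_eq e ?_ (hokq _ h'.1) (Nat.eq_of_beq_eq_true h'.2)).symm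
    simp only [okLet, List.all_append, Bool.and_eq_true]
    exact ⟨⟨(hoka _ (aIdx_spec.1 σ)).2, hokq _ i.2⟩, (hoka _ (aIdx_spec.1 σ)).1⟩
  intro x
  constructor
  · intro hx
    have : Finite (Q e) := Finite.of_equiv _ (qE e)
    let f : Q e → Q e := fun y => ⟨a⁻¹ * y * a, hfwd _ y.2⟩
    have hf : Function.Injective f := fun y y' h => by
      have := congrArg Subtype.val h
      exact Subtype.ext (mul_left_cancel (mul_right_cancel this))
    obtain ⟨y, hy⟩ := (Finite.injective_iff_surjective.mp hf) ⟨x, hx⟩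
    have hy' : a⁻¹ * (y : C e) * a = x := congrArg Subtype.val hy
    rw [← hy', show a * (a⁻¹ * (y : C e) * a) * a⁻¹ = y by group]
    exact y.2
  · intro hx
    rw [show x = a⁻¹ * (a * x * a⁻¹) * a by group]
    exact hfwd _ hx

theorem complement [Finite G] (hcard : Nat.card G = 50232960) : (Q e).IsComplement' (aHom e).range := by
  have : Finite (Q e) := Finite.of_equiv _ (qE e)
  refine Subgroup.isComplement'_of_card_mul_and_disjoint ?_ ?_
  · rw [card_Q, card_C e hcard, ← Nat.card_congr (MonoidHom.ofInjective (aHom_injective e)).toEquiv,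
      Nat.card_eq_fintype_card, show Fintype.card (alternatingGroup (Fin 5)) = 60 from by decide +kernel]
  · rw [Subgroup.disjoint_def]
    rintro x hx ⟨σ, rfl⟩
    rw [aHom_not_mem e hx, map_one]

theorem quotient [Finite G] (hcard : Nat.card G = 50232960) (hn : (Q e).Normal) :
    Nonempty (C e ⧸ Q e ≃* alternatingGroup (Fin 5)) := by
  let f : alternatingGroup (Fin 5) →* C e ⧸ Q e := (QuotientGroup.mk' (Q e)).comp (aHom e)
  have hinj : Function.Injective f := by
    rw [← MonoidHom.ker_eq_bot_iff, Subgroup.eq_bot_iff_forall]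
    exact fun σ h => aHom_not_mem e ((QuotientGroup.eq_one_iff _).mp h)
  have hsurj : Function.Surjective f := by
    intro x
    obtain ⟨c, rfl⟩ := QuotientGroup.mk'_surjective _ x
    obtain ⟨⟨q, σ⟩, rfl⟩ := prodMap_surjective e hcard c
    refine ⟨σ, ?_⟩
    show QuotientGroup.mk' (Q e) (aHom e σ) = QuotientGroup.mk' (Q e) ((q : C e) * aHom e σ)
    rw [map_mul, show QuotientGroup.mk' (Q e) (q : C e) = 1 from (QuotientGroup.eq_one_iff _).mpr q.2, one_mul]
  exact ⟨(MulEquiv.ofBijective f ⟨hinj, hsurj⟩).symm⟩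

/-- For any field with 4 elements and any element ω of it with ω² + ω + 1 = 0: in the Janko group J₃ (the group generated by explicit 9 × 9 matrices over that field built from ω, taken modulo its centre) all involutions are conjugate, and the centraliser C of an involution has a normal extraspecial subgroup Q of order 32 containing no elementary abelian subgroup of order 8, complemented in C, with C / Q isomorphic to the alternating group of degree 5 (shape 2^{1+4}_-:A₅). -/
theorem result {F : Type*} [Field F] [Fintype F] (hF : Fintype.card F = 4) (ω : F) (hω : ω ^ 2 + ω + 1 = 0) : (∀ x y : Cfsg.Spor.J3 F ω, orderOf x = 2 → orderOf y = 2 → IsConj x y) ∧ ∃ t : Cfsg.Spor.J3 F ω, orderOf t = 2 ∧ ∃ (Q : Subgroup ↥(Subgroup.centralizer ({t} : Set (Cfsg.Spor.J3 F ω)))) (_ : Q.Normal), Cfsg.IsExtraspecial 2 Q ∧ Nat.card Q = 32 ∧ (∀ E : Subgroup Q, Cfsg.IsElementaryAbelian 2 E → Nat.card E ≤ 2 ^ 2) ∧ (∃ H : Subgroup ↥(Subgroup.centralizer ({t} : Set (Cfsg.Spor.J3 F ω))), Q.IsComplement' H) ∧ Nonempty (↥(Subgroup.centralizer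 ({t} : Set (Cfsg.Spor.J3 F ω))) ⧸ Q ≃* ↥(alternatingGroup (Fin 5))) := by
  obtain ⟨f⟩ := exists_equiv_J3 hF ω hω
  let e : presJ3.Grp ≃* Cfsg.Spor.J3 F ω := iso.trans f
  have : Finite (Cfsg.Spor.J3 F ω) := Finite.of_equiv _ e.toEquiv
  have hcard : Nat.card (Cfsg.Spor.J3 F ω) = 50232960 :=
    (Nat.card_congr e.toEquiv).symm.trans J3Group.card_eq
  refine ⟨fun x y hx hy => (conj_t e hcard hx).symm.trans (conj_t e hcard hy), t e, orderOf_t e, Q e,
    normal e hcard, extraspecial e, card_Q e, elementary_le e, ⟨_, complement e hcard⟩,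
    quotient e hcard (normal e hcard)⟩

end Cfsg.Agent.S2135
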