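import Cfsg.Statements.S2286
import Cfsg.Agent.Lib.SL2Pres.Bound
import Cfsg.Agent.Lib.SLCard
import Cfsg.Agent.Lib.GLFlags.Index
import Mathlib.GroupTheory.PresentedGroup

set_option autoImplicit false
open Cfsg

namespace Cfsg.Agent.S2286

open Matrix CfsgLib.SL2Pres

section Helpers

variable {F : Type*} [Field F] [Fintype F]

local notation "SL" => Matrix.SpecialLinearGroup (Fin 2) F

/-- Upper unitriangular elements. -/
def xHom : Multiplicative F →* SL where
  toFun a := ⟨!![1, Multiplicative.toAdd a; 0, 1], by simp [Matrix.det_fin_two]⟩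
  map_one' := Subtype.ext (by simp [Matrix.one_fin_two])
  map_mul' a b := Subtype.ext (by
    show _ = !![1, Multiplicative.toAdd a; 0, 1] * !![1, Multiplicative.toAdd b; 0, 1]
    simp [Matrix.mul_fin_two, add_comm])

omit [Fintype F] in
theorem coe_xHom (a : F) : ((xHom (Multiplicative.ofAdd a) : SL) : Matrix (Fin 2) (Fin 2) F) = !![1, a; 0, 1] := rfl

/-- The Weyl element. -/
def wEl : SL := ⟨!![0, 1; -1, 0], by simp [Matrix.det_fin_two]⟩

/-- Diagonal elements. -/
def dEl (r : F) (hr : r ≠ 0) : SL := ⟨!![r, 0; 0, r⁻¹], by simp [Matrix.det_fin_two, hr]⟩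

omit [Fintype F] in
theorem coe_inv_wEl : (((wEl : SL)⁻¹ : SL) : Matrix (Fin 2) (Fin 2) F) = !![0, -1; 1, 0] := by
  rw [Matrix.SpecialLinearGroup.coe_inv]
  show Matrix.adjugate !![(0 : F), 1; -1, 0] = _
  rw [Matrix.adjugate_fin_two_of]
  simp

omit [Fintype F] in
theorem coe_inv_dEl (r : F) (hr : r ≠ 0) :
    (((dEl r hr)⁻¹ : SL) : Matrix (Fin 2) (Fin 2) F) = !![r⁻¹, 0; 0, r] := by
  rw [Matrix.SpecialLinearGroup.coe_inv]
  show Matrix.adjugate !![r, 0; 0, r⁻¹] = _
  rw [Matrix.adjugate_fin_two_of]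
  simp

omit [Fintype F] in
theorem conj_xHom (r : F) (hr : r ≠ 0) (a : F) :
    dEl r hr * xHom (Multiplicative.ofAdd a) * (dEl r hr)⁻¹ = xHom (Multiplicative.ofAdd (r * r * a)) := by
  apply Subtype.ext
  rw [Matrix.SpecialLinearGroup.coe_mul, Matrix.SpecialLinearGroup.coe_mul, coe_inv_dEl, coe_xHom, coe_xHom]
  show !![r, 0; 0, r⁻¹] * !![1, a; 0, 1] * !![r⁻¹, 0; 0, r] = _
  simp only [Matrix.mul_fin_two]
  ext i j
  fin_cases i <;> fin_cases j <;> simp [hr] <;> ring

omit [Fintype F] in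
theorem weyl_identity (a : F) (ha : a ≠ 0) :
    xHom (Multiplicative.ofAdd a) * (wEl * xHom (Multiplicative.ofAdd a⁻¹) * wEl⁻¹) * xHom (Multiplicative.ofAdd a) =
      dEl a ha * wEl := by
  apply Subtype.ext
  simp only [Matrix.SpecialLinearGroup.coe_mul, coe_inv_wEl, coe_xHom]
  show !![1, a; 0, 1] * (!![0, 1; -1, 0] * !![1, a⁻¹; 0, 1] * !![0, -1; 1, 0]) * !![1, a; 0, 1] =
    !![a, 0; 0, a⁻¹] * !![0, 1; -1, 0]
  simp only [Matrix.mul_fin_two]
  ext i j
  fin_cases i <;> fin_cases j <;> simp [ha]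

omit [Fintype F] in
theorem weyl_inverts (r : F) (hr : r ≠ 0) : wEl * dEl r hr * wEl⁻¹ = (dEl r hr)⁻¹ := by
  apply Subtype.ext
  simp only [Matrix.SpecialLinearGroup.coe_mul, coe_inv_wEl, coe_inv_dEl]
  show !![0, 1; -1, 0] * !![r, 0; 0, r⁻¹] * !![0, -1; 1, 0] = _
  simp only [Matrix.mul_fin_two]
  ext i j
  fin_cases i <;> fin_cases j <;> simp

omit [Fintype F] in
theorem dEl_one : dEl (1 : F) one_ne_zero = 1 := Subtype.ext (by simp [dEl, Matrix.one_fin_two])

omit [Fintype F] in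
theorem closure_eq_top (S : Subgroup SL) (hx : ∀ a : F, xHom (Multiplicative.ofAdd a) ∈ S) (hw : wEl ∈ S) :
    S = ⊤ := by
  let y : F → SL := fun c => wEl * xHom (Multiplicative.ofAdd (-c)) * wEl⁻¹
  have hy : ∀ c, y c ∈ S := fun c => mul_mem (mul_mem hw (hx _)) (inv_mem hw)
  have hyv : ∀ c, ((y c : SL) : Matrix (Fin 2) (Fin 2) F) = !![1, 0; c, 1] := fun c => by
    simp only [y, Matrix.SpecialLinearGroup.coe_mul, coe_inv_wEl, coe_xHom]
    show !![0, 1; -1, 0] * !![1, -c; 0, 1] * !![0, -1; 1, 0] = _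
    simp only [Matrix.mul_fin_two]
    ext i j
    fin_cases i <;> fin_cases j <;> simp
  have hne : ∀ g : SL, g.1 1 0 ≠ 0 → g ∈ S := by
    intro g hg
    have hdet := g.2
    rw [Matrix.det_fin_two] at hdet
    have e : g = xHom (Multiplicative.ofAdd ((g.1 0 0 - 1) / g.1 1 0)) * y (g.1 1 0) *
        xHom (Multiplicative.ofAdd ((g.1 1 1 - 1) / g.1 1 0)) := by
      apply Subtype.ext
      rw [Matrix.SpecialLinearGroup.coe_mul, Matrix.SpecialLinearGroup.coe_mul, hyv, coe_xHom, coe_xHom]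
      simp only [Matrix.mul_fin_two]
      ext i j
      fin_cases i <;> fin_cases j <;> simp <;> field_simp <;>
        first
          | ring1
          | linear_combination hdet
          | linear_combination -hdet
    rw [e]
    exact mul_mem (mul_mem (hx _) (hy _)) (hx _)
  rw [eq_top_iff]
  intro g _
  by_cases hg : g.1 1 0 = 0
  · have hdet := g.2
    rw [Matrix.det_fin_two, hg, mul_zero, sub_zero] at hdet
    have h1 : g * y 1 ∈ S := by
      refine hne _ ?_
      rw [Matrix.SpecialLinearGroup.coe_mul, hyv]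
      simp [Matrix.mul_apply, Fin.sum_univ_two, hg]
      exact right_ne_zero_of_mul_eq_one hdet
    simpa [mul_assoc] using mul_mem h1 (inv_mem (hy 1))
  · exact hne g hg

/-- A word for the root element. -/
noncomputable def rootWord (σ : F) (P : Polynomial ℤ) : FreeGroup (Fin 3) := ev H U 1 P

/-- The standard map. -/
noncomputable def stdHom (ρ : F) (hρ : ρ ≠ 0) : FreeGroup (Fin 3) →* SL :=
  FreeGroup.lift ![xHom (Multiplicative.ofAdd 1), wEl, dEl ρ hρ]

omit [Fintype F] in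
theorem stdHom_U (ρ : F) (hρ : ρ ≠ 0) : stdHom ρ hρ U = xHom (Multiplicative.ofAdd 1) := by
  simp [stdHom, U]

omit [Fintype F] in
theorem stdHom_T (ρ : F) (hρ : ρ ≠ 0) : stdHom ρ hρ T = wEl := by simp [stdHom, T]

omit [Fintype F] in
theorem stdHom_H (ρ : F) (hρ : ρ ≠ 0) : stdHom ρ hρ H = dEl ρ hρ := by simp [stdHom, H]

theorem presentation_of (ρ : F) (hρ : ρ ≠ 0) (hρgen : ∀ a : F, a ≠ 0 → ∃ j : ℕ, a = ρ ^ j)
    (hgen : ∀ a : F, ∃ P : Polynomial ℤ, Polynomial.aeval (ρ * ρ) P = a)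
    {K : Type*} [Group K] (g : SL →* K) (hg : Function.Surjective g) (L : List (FreeGroup (Fin 3)))
    (hsound : ∀ w ∈ L, g (stdHom ρ hρ w) = 1) (e : ℕ) (he0 : 0 < e)
    (hcomplete : ∀ (G : Type) [Group G] (f : FreeGroup (Fin 3) →* G), (∀ w ∈ L, f w = 1) →
      ∃ φ : Multiplicative F →* G, φ (Multiplicative.ofAdd 1) = f U ∧
        (∀ a, f H * φ (Multiplicative.ofAdd a) * (f H)⁻¹ = φ (Multiplicative.ofAdd (ρ * ρ * a))) ∧
        f T * f H * (f T)⁻¹ = (f H)⁻¹ ∧
        φ (Multiplicative.ofAdd 1) * (f T * φ (Multiplicative.ofAdd 1) * (f T)⁻¹) * φ (Multiplicative.ofAdd 1) = f T ∧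
        φ (Multiplicative.ofAdd ρ) * (f T * φ (Multiplicative.ofAdd ρ⁻¹) * (f T)⁻¹) * φ (Multiplicative.ofAdd ρ) =
          f H * f T ∧
        f H ^ e = 1)
    (hcard : Nat.card K = Fintype.card F * e * (Fintype.card F + 1)) (n : ℕ) (hn : L.length ≤ n) :
    ∃ rels : Finset (FreeGroup (Fin 3)), rels.card ≤ n ∧
      Nonempty (PresentedGroup (↑rels : Set (FreeGroup (Fin 3))) ≃* K) := by
  classical
  refine ⟨L.toFinset, (List.toFinset_card_le L).trans hn, ?_⟩
  set P := PresentedGroup (↑L.toFinset : Set (FreeGroup (Fin 3)))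
  let q : FreeGroup (Fin 3) →* P := PresentedGroup.mk _
  have hq : ∀ w ∈ L, q w = 1 := fun w hw => PresentedGroup.one_of_mem (by simpa using hw)
  obtain ⟨φ, h1, h2, h3, h4, h5, h6⟩ := hcomplete P q hq
  have hclos : Subgroup.closure ({q U, q T, q H} : Set P) = ⊤ := by
    rw [eq_top_iff, ← PresentedGroup.closure_range_of]
    refine Subgroup.closure_mono ?_
    rintro _ ⟨i, rfl⟩
    fin_cases i
    · exact Or.inl rfl
    · exact Or.inr (Or.inl rfl)
    · exact Or.inr (Or.inr rfl)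
  obtain ⟨hfin, hle⟩ := card_le_of_relations ρ hρ hρgen (q U) (q T) (q H) hclos φ h1 h2 h3 h4 h5 e he0 h6
  have hfun : ∀ w, FreeGroup.lift (fun i => g (stdHom ρ hρ (FreeGroup.of i))) w = g (stdHom ρ hρ w) := fun w => by
    rw [← MonoidHom.comp_apply g]
    exact DFunLike.congr_fun (FreeGroup.ext_hom _ _ fun i => by simp) w
  let Ψ : P →* K := PresentedGroup.toGroup (f := fun i => g (stdHom ρ hρ (FreeGroup.of i))) fun r hr => by
    rw [hfun]; exact hsound r (by simpa using hr)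
  have hrange : ∀ w, g (stdHom ρ hρ w) ∈ Ψ.range := fun w => ⟨q w, by rw [← hfun]; rfl⟩
  have hsurj : Function.Surjective Ψ := by
    rw [← MonoidHom.range_eq_top]
    have hx : ∀ a : F, xHom (Multiplicative.ofAdd a) ∈ Ψ.range.comap g := by
      intro a
      obtain ⟨Pa, hPa⟩ := hgen a
      have h := ev_eq_hom (xHom (F := F)) (ρ * ρ) (dEl ρ hρ) (conj_xHom ρ hρ) 1 Pa
      rw [pow_one, hPa] at h
      rw [Subgroup.mem_comap, ← h, ← stdHom_U ρ hρ, ← stdHom_H ρ hρ, ← map_ev]
      exact hrange _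
    have hw : wEl ∈ Ψ.range.comap g := by
      rw [Subgroup.mem_comap, ← stdHom_T ρ hρ]; exact hrange _
    have htop := closure_eq_top _ hx hw
    rw [eq_top_iff]
    intro k _
    obtain ⟨s, rfl⟩ := hg k
    exact (htop.ge (Subgroup.mem_top s) : s ∈ Ψ.range.comap g)
  haveI : Finite K := Finite.of_surjective Ψ hsurj
  have hbij : Function.Bijective Ψ := by
    refine (Nat.bijective_iff_surjective_and_card Ψ).mpr ⟨hsurj, ?_⟩
    exact le_antisymm (hle.trans_eq hcard.symm) (Nat.card_le_card_of_surjective Ψ hsurj)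
  exact ⟨MulEquiv.ofBijective Ψ hbij⟩

theorem card_SL2 : Nat.card SL = Fintype.card F * (Fintype.card F - 1) * (Fintype.card F + 1) := by
  have h1 := CfsgLib.SLCard.card_units_mul_card_SL (F := F) (n := 2) (by norm_num)
  rw [CfsgLib.GLFlags.card_GL_eq] at h1
  have h2 : 0 < Fintype.card F - 1 := by have := Fintype.one_lt_card (α := F); omega
  refine Nat.eq_of_mul_eq_mul_left h2 ?_
  rw [h1]
  simp [CfsgLib.GLFlags.qFac, CfsgLib.GLFlags.qInt, Finset.prod_range_succ, Finset.sum_range_succ]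
  ring

end Helpers

/-- For every finite field F, SL_2(F) and PSL_2(F) have presentations with 3 generators and at most 9 relations; when F has characteristic 2, PSL_2(F) has a presentation with 3 generators and at most 5 relations. -/
theorem result {F : Type*} [Field F] [Fintype F] :
    (∃ rels : Finset (FreeGroup (Fin 3)), rels.card ≤ 9 ∧ Nonempty (PresentedGroup (↑rels : Set (FreeGroup (Fin 3))) ≃* Matrix.SpecialLinearGroup (Fin 2) F)) ∧ (∃ rels : Finset (FreeGroup (Fin 3)), rels.card ≤ 9 ∧ Nonempty (PresentedGroup (↑rels : Set (FreeGroup (Fin 3))) ≃* Matrix.ProjectiveSpecialLinearGroup (Fin 2) F)) ∧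
    (CharP F 2 → ∃ rels : Finset (FreeGroup (Fin 3)), rels.card ≤ 5 ∧ Nonempty (PresentedGroup (↑rels : Set (FreeGroup (Fin 3))) ≃* Matrix.ProjectiveSpecialLinearGroup (Fin 2) F)) := by
  classical
  obtain ⟨p, hpc⟩ := CharP.exists F
  haveI := hpc
  haveI : Fact p.Prime := ⟨CharP.char_is_prime F p⟩
  obtain ⟨f, -, hf⟩ := FiniteField.card F p
  set q := Fintype.card F with hq
  have hq2 : 2 ≤ q := Fintype.one_lt_card
  obtain ⟨ρu, hρu⟩ := IsCyclic.exists_generator (α := Fˣ)
  set ρ : F := (ρu : F) with hρdef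
  have hρ : ρ ≠ 0 := ρu.ne_zero
  have hρgen : ∀ a : F, a ≠ 0 → ∃ j : ℕ, a = ρ ^ j := fun a ha => by
    obtain ⟨j, hj⟩ := mem_powers_iff_mem_zpowers.mpr (hρu (Units.mk0 a ha))
    exact ⟨j, by rw [hρdef, ← Units.val_pow_eq_pow_val]; exact (congrArg Units.val hj).symm⟩
  have hsq : ∀ a : F, a ≠ 0 → ∃ i : ℕ, a * a = (ρ * ρ) ^ i := fun a ha => by
    obtain ⟨j, rfl⟩ := hρgen a ha
    exact ⟨j, (mul_pow ρ ρ j).symm⟩
  have hgen : ∀ a : F, ∃ P : Polynomial ℤ, Polynomial.aeval (ρ * ρ) P = a := by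
    have hsq' : ∀ a : F, ∃ P : Polynomial ℤ, Polynomial.aeval (ρ * ρ) P = a * a := fun a => by
      rcases eq_or_ne a 0 with rfl | ha
      · exact ⟨0, by simp⟩
      · obtain ⟨i, hi⟩ := hsq a ha
        exact ⟨Polynomial.X ^ i, by rw [map_pow, Polynomial.aeval_X, hi]⟩
    intro a
    by_cases h2 : (2 : F) = 0
    · haveI : CharP F 2 := CharTwo.of_one_ne_zero_of_two_eq_zero one_ne_zero h2
      obtain ⟨b, hb⟩ := FiniteField.isSquare_of_char_two (ringChar.eq F 2) a
      obtain ⟨P, hP⟩ := hsq' b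
      exact ⟨P, hP.trans hb.symm⟩
    · obtain ⟨P, hP⟩ := hsq' ((a + 1) / 2)
      obtain ⟨Q, hQ⟩ := hsq' ((a - 1) / 2)
      exact ⟨P - Q, by rw [map_sub, hP, hQ]; field_simp; ring⟩
  obtain ⟨R, hRlen, hRcomplete, hRsound⟩ := exists_moduleRels p hf (ρ * ρ) hgen hsq
  obtain ⟨Pr, hPr⟩ := hgen ρ
  obtain ⟨Pi, hPi⟩ := hgen ρ⁻¹
  let relB : FreeGroup (Fin 3) := U * (T * U * T⁻¹) * U * T⁻¹
  let relD : FreeGroup (Fin 3) := ev H U 1 Pr * (T * ev H U 1 Pi * T⁻¹) * ev H U 1 Pr * (H * T)⁻¹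
  let relT : FreeGroup (Fin 3) := T * H * T⁻¹ * H
  let relZ : FreeGroup (Fin 3) := T * T
  have hstdR : ∀ w ∈ R, stdHom ρ hρ w = 1 := hRsound (Matrix.SpecialLinearGroup (Fin 2) F) (stdHom ρ hρ) xHom
    (stdHom_U ρ hρ).symm (fun a => by rw [stdHom_H]; exact conj_xHom ρ hρ a)
  have hstdev : ∀ P : Polynomial ℤ, stdHom ρ hρ (ev H U 1 P) =
      xHom (Multiplicative.ofAdd (Polynomial.aeval (ρ * ρ) P)) := fun P => by
    rw [map_ev, stdHom_H, stdHom_U, ev_eq_hom xHom (ρ * ρ) _ (conj_xHom ρ hρ), pow_one]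
  have hstdB : stdHom ρ hρ relB = 1 := by
    have h := weyl_identity (1 : F) one_ne_zero
    rw [inv_one, dEl_one, one_mul] at h
    simp only [relB, map_mul, map_inv, stdHom_U, stdHom_T]
    rw [h, mul_inv_cancel]
  have hstdD : stdHom ρ hρ relD = 1 := by
    simp only [relD, map_mul, map_inv, hstdev, hPr, hPi, stdHom_T, stdHom_H]
    rw [weyl_identity ρ hρ, mul_inv_cancel]
  have hstdT : stdHom ρ hρ relT = 1 := by
    simp only [relT, map_mul, map_inv, stdHom_T, stdHom_H]
    rw [weyl_inverts, inv_mul_cancel]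
  -- what the relators give in any group
  have hkey : ∀ (G : Type) [Group G] (φG : FreeGroup (Fin 3) →* G), (∀ w ∈ R, φG w = 1) → φG relB = 1 →
      φG relD = 1 → ∃ φ : Multiplicative F →* G, φ (Multiplicative.ofAdd 1) = φG U ∧
        (∀ a, φG H * φ (Multiplicative.ofAdd a) * (φG H)⁻¹ = φ (Multiplicative.ofAdd (ρ * ρ * a))) ∧
        φ (Multiplicative.ofAdd 1) * (φG T * φ (Multiplicative.ofAdd 1) * (φG T)⁻¹) * φ (Multiplicative.ofAdd 1) = φG T ∧
        φ (Multiplicative.ofAdd ρ) * (φG T * φ (Multiplicative.ofAdd ρ⁻¹) * (φG T)⁻¹) * φ (Multiplicative.ofAdd ρ) =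
          φG H * φG T := by
    intro G _ φG hR hB hD
    obtain ⟨φ, h1, h2⟩ := hRcomplete G φG hR
    have hev : ∀ P : Polynomial ℤ, φG (ev H U 1 P) =
        φ (Multiplicative.ofAdd (Polynomial.aeval (ρ * ρ) P)) := fun P => by
      rw [map_ev, ← h1, ev_eq_hom φ (ρ * ρ) _ h2, pow_one]
    refine ⟨φ, h1, h2, ?_, ?_⟩
    · simp only [relB, map_mul, map_inv, ← h1, mul_inv_eq_one] at hB
      exact hB
    · simp only [relD, map_mul, map_inv, hev, hPr, hPi, mul_inv_eq_one] at hD
      exact hD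
  have hfull : ∀ (G : Type) [Group G] (φ : Multiplicative F →* G) (t h : G),
      (∀ a, h * φ (Multiplicative.ofAdd a) * h⁻¹ = φ (Multiplicative.ofAdd (ρ * ρ * a))) →
      t * h * t⁻¹ = h⁻¹ →
      φ (Multiplicative.ofAdd 1) * (t * φ (Multiplicative.ofAdd 1) * t⁻¹) * φ (Multiplicative.ofAdd 1) = t →
      φ (Multiplicative.ofAdd ρ) * (t * φ (Multiplicative.ofAdd ρ⁻¹) * t⁻¹) * φ (Multiplicative.ofAdd ρ) = h * t →
      h ^ (q - 1) = 1 := by
    intro G _ φ t h h2 hT hB hD
    have h3 := powers_relations ρ hρ t h φ h2 hT hB hD (q - 1)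
    rw [FiniteField.pow_card_sub_one_eq_one ρ hρ, inv_one, hB] at h3
    exact (mul_eq_right.mp h3.symm)
  have hlen5 : R.length ≤ 5 := hRlen.trans (by split <;> omega)
  have hSL := card_SL2 (F := F)
  rw [← hq] at hSL
  -- in characteristic two the inversion relation follows
  have hderiveT : CharP F 2 → ∀ (G : Type) [Group G] (φ : Multiplicative F →* G) (t h : G),
      φ (Multiplicative.ofAdd 1) * (t * φ (Multiplicative.ofAdd 1) * t⁻¹) * φ (Multiplicative.ofAdd 1) = t →
      φ (Multiplicative.ofAdd ρ) * (t * φ (Multiplicative.ofAdd ρ⁻¹) * t⁻¹) * φ (Multiplicative.ofAdd ρ) = h * t →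
      t * h * t⁻¹ = h⁻¹ := by
    intro h2 G _ φ t h hB hD
    have hinv : ∀ a : F, φ (Multiplicative.ofAdd a) * φ (Multiplicative.ofAdd a) = 1 := fun a => by
      rw [← map_mul, ← ofAdd_add, CharTwo.add_self_eq_zero, ofAdd_zero, map_one]
    have hsq : ∀ a b : G, a * a = 1 → b * b = 1 → a * (t * b * t⁻¹) * a * (a * (t * b * t⁻¹) * a) = 1 := by
      intro a b ha hb
      calc a * (t * b * t⁻¹) * a * (a * (t * b * t⁻¹) * a)
          = a * (t * b * t⁻¹) * (a * a) * (t * b * t⁻¹) * a := by group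
        _ = a * (t * (b * b) * t⁻¹) * a := by rw [ha]; group
        _ = 1 := by rw [hb, mul_one, mul_inv_cancel, mul_one, ha]
    have ht : t * t = 1 := by
      have h4 := hsq _ _ (hinv 1) (hinv 1)
      rwa [hB] at h4
    have hht : h * t * (h * t) = 1 := by
      have h4 := hsq _ _ (hinv ρ) (hinv ρ⁻¹)
      rwa [hD] at h4
    rw [inv_eq_of_mul_eq_one_right ht, eq_inv_iff_mul_eq_one]
    calc t * h * t * h = h⁻¹ * (h * t * (h * t)) * h := by group
      _ = 1 := by rw [hht]; group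
  refine ⟨?_, ?_, ?_⟩
  · refine presentation_of ρ hρ hρgen hgen (MonoidHom.id _) Function.surjective_id (R ++ [relB, relD, relT]) ?_
      (q - 1) (by omega) ?_ hSL 9 (by simp only [List.length_append, List.length_cons, List.length_nil]; omega)
    · simp only [List.forall_mem_append, List.forall_mem_cons, MonoidHom.id_apply]
      exact ⟨hstdR, hstdB, hstdD, hstdT, fun _ h => by simp at h⟩
    · intro G _ φG hw
      simp only [List.forall_mem_append, List.forall_mem_cons] at hw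
      obtain ⟨hR, hB, hD, hT, -⟩ := hw
      obtain ⟨φ, h1, h2, h4, h5⟩ := hkey G φG hR hB hD
      simp only [relT, map_mul, map_inv] at hT
      have hT' := eq_inv_of_mul_eq_one_left hT
      exact ⟨φ, h1, h2, hT', h4, h5, hfull G φ _ _ h2 hT' h4 h5⟩
  · set d := Nat.gcd 2 (q - 1) with hd
    have hdpos : 0 < d := Nat.gcd_pos_of_pos_left _ (by norm_num)
    obtain ⟨e, he⟩ := Nat.gcd_dvd_right 2 (q - 1)
    rw [← hd] at he
    have he0 : 0 < e := Nat.pos_of_ne_zero fun h => by rw [h, mul_zero] at he; omega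
    have hPSL : Nat.card (Matrix.ProjectiveSpecialLinearGroup (Fin 2) F) = q * e * (q + 1) := by
      have h := CfsgLib.SLCard.gcd_mul_card_PSL (F := F) (n := 2) (by norm_num)
      rw [← hq, ← hd, hSL, he] at h
      refine Nat.eq_of_mul_eq_mul_left hdpos ?_
      rw [h]; ring
    refine presentation_of ρ hρ hρgen hgen (QuotientGroup.mk' _) (QuotientGroup.mk'_surjective _)
      (R ++ [relB, relD, relT, relZ]) ?_ e he0 ?_ hPSL 9
      (by simp only [List.length_append, List.length_cons, List.length_nil]; omega)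
    · simp only [List.forall_mem_append, List.forall_mem_cons]
      refine ⟨fun w hw => by rw [hstdR w hw, map_one], by rw [hstdB, map_one], by rw [hstdD, map_one],
        by rw [hstdT, map_one], ?_, fun _ h => by simp at h⟩
      rw [QuotientGroup.mk'_apply, QuotientGroup.eq_one_iff, Matrix.SpecialLinearGroup.mem_center_iff]
      refine ⟨-1, by simp, ?_⟩
      simp only [relZ, map_mul, stdHom_T, Matrix.SpecialLinearGroup.coe_mul]
      show Matrix.scalar (Fin 2) (-1 : F) = !![0, 1; -1, 0] * !![0, 1; -1, 0]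
      simp only [Matrix.mul_fin_two]
      ext i j
      fin_cases i <;> fin_cases j <;> simp
    · intro G _ φG hw
      simp only [List.forall_mem_append, List.forall_mem_cons] at hw
      obtain ⟨hR, hB, hD, hT, hZ, -⟩ := hw
      obtain ⟨φ, h1, h2, h4, h5⟩ := hkey G φG hR hB hD
      simp only [relT, map_mul, map_inv] at hT
      have hT' := eq_inv_of_mul_eq_one_left hT
      refine ⟨φ, h1, h2, hT', h4, h5, ?_⟩
      simp only [relZ, map_mul] at hZ
      have hall := hfull G φ _ _ h2 hT' h4 h5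
      rcases (Nat.dvd_prime Nat.prime_two).mp (Nat.gcd_dvd_left 2 (q - 1)) with hd1 | hd2
      · rw [← hd] at hd1
        rw [hd1, one_mul] at he
        rwa [← he]
      · rw [← hd] at hd2
        rw [hd2] at he
        -- `ρ ^ e = -1`
        have hpe : ρ ^ e = -1 := by
          have h1' : (ρ ^ e) * (ρ ^ e) = 1 := by
            rw [← pow_add, ← two_mul, ← he, FiniteField.pow_card_sub_one_eq_one ρ hρ]
          rcases mul_self_eq_one_iff.mp h1' with h | h
          · exfalso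
            have ho : orderOf ρu ∣ e := orderOf_dvd_of_pow_eq_one (Units.ext (by
              rw [Units.val_pow_eq_pow_val, Units.val_one]; exact h))
            rw [orderOf_eq_card_of_forall_mem_zpowers hρu, Nat.card_units, Nat.card_eq_fintype_card, ← hq, he] at ho
            have := Nat.le_of_dvd he0 ho
            omega
          · exact h
        obtain ⟨htt, -, -⟩ := half_power ρ hρ _ _ φ h2 hT' h4 h5 e hpe
        rw [← htt, hZ]
  · intro hchar
    have hp2 : p = 2 := (CharP.eq F hchar hpc).symm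
    rw [if_pos hp2] at hRlen
    have hPSL : Nat.card (Matrix.ProjectiveSpecialLinearGroup (Fin 2) F) = q * (q - 1) * (q + 1) := by
      have h := CfsgLib.SLCard.gcd_mul_card_PSL (F := F) (n := 2) (by norm_num)
      have hg1 : Nat.gcd 2 (q - 1) = 1 := by
        refine (Nat.prime_two.coprime_iff_not_dvd).mpr fun h => ?_
        have h3 : 2 ∣ q := by rw [hf, hp2]; exact dvd_pow_self 2 f.ne_zero
        omega
      rw [← hq, hg1, one_mul, hSL] at h
      exact h
    refine presentation_of ρ hρ hρgen hgen (QuotientGroup.mk' _) (QuotientGroup.mk'_surjective _)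
      (R ++ [relB, relD]) ?_ (q - 1) (by omega) ?_ hPSL 5
      (by simp only [List.length_append, List.length_cons, List.length_nil]; omega)
    · simp only [List.forall_mem_append, List.forall_mem_cons]
      exact ⟨fun w hw => by rw [hstdR w hw, map_one], by rw [hstdB, map_one], by rw [hstdD, map_one],
        fun _ h => by simp at h⟩
    · intro G _ φG hw
      simp only [List.forall_mem_append, List.forall_mem_cons] at hw
      obtain ⟨hR, hB, hD, -⟩ := hw
      obtain ⟨φ, h1, h2, h4, h5⟩ := hkey G φG hR hB hD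
      have hT' := hderiveT hchar G φ _ _ h4 h5
      exact ⟨φ, h1, h2, hT', h4, h5, hfull G φ _ _ h2 hT' h4 h5⟩

end Cfsg.Agent.S2286
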