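import Cfsg.Statements.S0371
import Cfsg.Agent.Lib.Golay.Perms

set_option autoImplicit false
open Cfsg

namespace Cfsg.Agent.S0371

/-- Multiplication by a nonzero square residue modulo 23, fixing the extra point, lies in the group of the length-24 code. -/
theorem result (u : (ZMod 23)ˣ) (hu : IsSquare u) : Equiv.optionCongr (Units.mulLeft u) ∈ Cfsg.M24 := by
  have key : ∀ v : (ZMod 23)ˣ, (∃ r : ZMod 23, (v : ZMod 23) = r * r) →
      CfsgGolay.gensKept (CfsgGolay.pack (fun i => if i < 23 then ((v : ZMod 23) * (i : ZMod 23)).val % 32 else 23) 24) = true ∧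
      CfsgGolay.Repr (CfsgGolay.pack (fun i => if i < 23 then ((v : ZMod 23) * (i : ZMod 23)).val % 32 else 23) 24)
        (Equiv.optionCongr (Units.mulLeft v)) := by
    decide +kernel
  obtain ⟨r, hr⟩ := hu
  obtain ⟨h1, h2⟩ := key u ⟨r, by rw [hr]; rfl⟩
  exact CfsgGolay.mem_M24_of_gensKept h2 h1

end Cfsg.Agent.S0371
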