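import Cfsg.Statements.S5567
import Cfsg.Agent.Lib.JankoFour.OrbSplit
import Cfsg.Agent.Lib.JankoFour.OrbClosed
import Cfsg.Agent.Lib.JankoFour.CenCenter

set_option autoImplicit false
open Cfsg

namespace Cfsg.Agent.S5567

/-- Let G be a finite non-abelian simple group of Janko-four type (an involution z whose centralizer H has an extraspecial largest normal 2-subgroup E of order 2^13 containing its centralizer in H, a normal subgroup N ≥ E of H with N/E of order 3 and H/N the automorphism group of M₂₂, and a subgroup P ≤ N of order 3 with C_E(P) = ⟨z⟩, N_H(P) ≠ C_H(P) and P ≤ C_H(P)′). Then every elementary abelian subgroup V of G of order 2^11 contains its centralizer, and its normalizer is a split extension of V by a complement isomorphic to the Mathieu group M₂₄. -/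
theorem result {G : Type*} [Group G] [Finite G] [IsSimpleGroup G] (hG : ¬ IsMulCommutative G) (hJ : Cfsg.IsOfJankoFourType G) (V : Subgroup G) (hV : Cfsg.IsElementaryAbelian 2 V) (hcard : Nat.card ↥V = 2 ^ 11) :
    Subgroup.centralizer (V : Set G) ≤ V ∧ ∃ K : Subgroup G, K ≤ Subgroup.normalizer (V : Set G) ∧ K ⊓ V = ⊥ ∧ K ⊔ V = Subgroup.normalizer (V : Set G) ∧ Cfsg.Spor.IsoM24 ↥K := by
  classical
  obtain ⟨z, P, hJ'⟩ := hJ
  obtain ⟨c⟩ := CfsgLib.JankoFour.ctx_of_type hJ'
  obtain ⟨hex, hfaith⟩ := c.outer_facts hJ'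
  obtain ⟨A, o⟩ := c.exists_orb hG (CfsgLib.JankoFour.hinv_of_type hJ')
  obtain ⟨g, hg⟩ := c.two_eleven_conj o.hA.1 hV hcard
  obtain ⟨K, hKN, hKV, hKsup, ⟨e⟩⟩ := o.exists_compl hex hfaith
  set V0 := c.vGrp A o.hA.1.1 with hV0
  set φ := MulAut.conj g with hφ
  have hN : Subgroup.normalizer (V : Set G) = (Subgroup.normalizer (V0 : Set G)).map φ.toMonoidHom := by
    rw [← hg]
    exact (Subgroup.map_equiv_normalizer_eq V0 φ).symm
  refine ⟨fun x hx => ?_, K.map φ.toMonoidHom, ?_, ?_, ?_,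
    ⟨(K.equivMapOfInjective φ.toMonoidHom φ.injective).symm.trans e⟩⟩
  · rw [← hg]
    refine ⟨φ.symm x, c.cent_vGrp o.hA fun v hv => φ.injective ?_, φ.apply_symm_apply x⟩
    rw [map_mul, map_mul, MulEquiv.apply_symm_apply]
    exact (Subgroup.mem_centralizer_iff.mp hx (φ v) (hg.le ⟨v, hv, rfl⟩)).symm
  · rw [hN]; exact Subgroup.map_mono hKN
  · rw [← hg, ← Subgroup.map_inf_eq _ _ φ.toMonoidHom φ.injective, hKV, Subgroup.map_bot]
  · rw [hN, ← hg, ← Subgroup.map_sup, hKsup]

end Cfsg.Agent.S5567
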