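import Cfsg.Statements.S5569
import Cfsg.Agent.Lib.JankoFour.OrbFuse
import Cfsg.Agent.Lib.JankoFour.OrbClosed
import Cfsg.Agent.Lib.JankoFour.OrbCent
import Cfsg.Agent.Lib.JankoFour.PairStab
import Cfsg.Agent.Lib.JankoFour.CenCenter
-- import your own Cfsg.Agent.* helpers here

set_option autoImplicit false
open Cfsg
open scoped Pointwise

namespace Cfsg.Agent.S5569

/-- Let G be a finite non-abelian simple group of Janko-four type (an involution z whose centralizer H has an extraspecial largest normal 2-subgroup E of order 2^13 containing its centralizer in H, a normal subgroup N ≥ E of H with N/E of order 3 and H/N the automorphism group of M₂₂, and a subgroup P ≤ N of order 3 with C_E(P) = ⟨z⟩, N_H(P) ≠ C_H(P) and P ≤ C_H(P)′). Then the centralizer of an involution t of G that is not conjugate to z is a split extension of an elementary abelian normal subgroup of order 2^11 by a complement isomorphic to the automorphism group of M₂₂. -/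
theorem result {G : Type*} [Group G] [Finite G] [IsSimpleGroup G] (hG : ¬ IsMulCommutative G) (z : G) (hJ : Cfsg.IsOfJankoFourTypeAt z) (t : G) (ht : orderOf t = 2) (hnc : ¬ IsConj z t) :
    ∃ V K : Subgroup G, V ≤ Subgroup.centralizer ({t} : Set G) ∧ K ≤ Subgroup.centralizer ({t} : Set G) ∧
    Subgroup.centralizer ({t} : Set G) ≤ Subgroup.normalizer (V : Set G) ∧ Cfsg.IsElementaryAbelian 2 V ∧ Nat.card ↥V = 2 ^ 11 ∧
    K ⊓ V = ⊥ ∧ K ⊔ V = Subgroup.centralizer ({t} : Set G) ∧ Nonempty (↥K ≃* MulAut ↥Cfsg.Spor.M22) := by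
  classical
  obtain ⟨P, hJ'⟩ := hJ
  obtain ⟨c⟩ := CfsgLib.JankoFour.ctx_of_type hJ'
  obtain ⟨hex, hfaith⟩ := c.outer_facts hJ'
  obtain ⟨A, o⟩ := c.exists_orb hG (CfsgLib.JankoFour.hinv_of_type hJ')
  obtain ⟨K, hKN, hKV, hKsup, -⟩ := o.exists_compl hex hfaith
  obtain ⟨d⟩ := o.duads
  set V := c.vGrp A o.hA.1.1 with hV
  have ht2 : t * t = 1 := by
    rw [← sq, ← ht]; exact pow_orderOf_eq_one t
  have ht1 : t ≠ 1 := fun h => by rw [h, orderOf_one] at ht; norm_num at ht
  obtain ⟨g, hg⟩ : ∃ g : G, g * t * g⁻¹ ∈ c.Tset V :=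
    (o.invol_class hKN hKV hKsup ht2 ht1).resolve_left fun ⟨b, hb⟩ => hnc (isConj_iff.mpr ⟨b, hb⟩)
  set s := g * t * g⁻¹ with hs
  obtain ⟨p, q, hpq, hD⟩ := d.onto s hg
  set Ks := K ⊓ Subgroup.centralizer ({s} : Set G) with hKs
  have hfix : ∀ n : ↥(Subgroup.normalizer (V : Set G)), (n : G) * s = s * (n : G) ↔
      ({p, q} : Finset GolayPt).image (d.θ n).1 = {p, q} := by
    intro n
    rw [← mul_inv_eq_iff_eq_mul, ← hD, d.conj, Finset.image_insert, Finset.image_singleton]
    constructor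
    · intro h
      rcases d.inj p q _ _ hpq h.symm with ⟨a, b⟩ | ⟨a, b⟩
      · rw [a, b]
      · rw [a, b, Finset.pair_comm]
    · intro h
      have ha : (d.θ n).1 p = p ∨ (d.θ n).1 p = q := by
        simpa using (h ▸ Finset.mem_insert_self _ _ : (d.θ n).1 p ∈ ({p, q} : Finset GolayPt))
      have hb : (d.θ n).1 q = p ∨ (d.θ n).1 q = q := by
        simpa using (h ▸ Finset.mem_insert_of_mem (Finset.mem_singleton_self _) :
          (d.θ n).1 q ∈ ({p, q} : Finset GolayPt))
      rcases ha with a | a <;> rcases hb with b | b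
      · exact absurd ((d.θ n).1.injective (a.trans b.symm)) hpq
      · rw [a, b]
      · rw [a, b, d.symm]
      · exact absurd ((d.θ n).1.injective (a.trans b.symm)) hpq
  have hVC : V ≤ Subgroup.centralizer ({s} : Set G) := fun v hv =>
    Subgroup.mem_centralizer_singleton_iff.mpr (c.vGrp_comm o.hA.1 hv hg.1)
  have hsup : Ks ⊔ V = Subgroup.centralizer ({s} : Set G) := by
    refine le_antisymm (sup_le inf_le_right hVC) fun n hn => ?_
    obtain ⟨v, hv, k, hk, rfl⟩ := o.decomp_K hKN hKsup (o.cent_T hg hn)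
    refine mul_mem (Subgroup.mem_sup_right hv) (Subgroup.mem_sup_left ⟨hk, ?_⟩)
    have h := mul_mem (inv_mem (hVC hv)) hn
    rwa [inv_mul_cancel_left] at h
  let f : ↥Ks →* ↥(CfsgGolay.stabM ({p, q} : Finset GolayPt)) :=
    { toFun := fun k => ⟨(d.θ ⟨k, hKN k.2.1⟩).1, CfsgGolay.mem_stabM.mpr ⟨(d.θ _).2,
        (hfix _).mp (Subgroup.mem_centralizer_singleton_iff.mp k.2.2)⟩⟩
      map_one' := Subtype.ext (by have h := congrArg Subtype.val (map_one d.θ); exact h)
      map_mul' := fun a b => Subtype.ext (by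
        have h := congrArg Subtype.val (map_mul d.θ ⟨a, hKN a.2.1⟩ ⟨b, hKN b.2.1⟩); exact h) }
  have hf : Function.Bijective f := by
    refine ⟨(injective_iff_map_eq_one f).mpr fun k hk => ?_, fun m => ?_⟩
    · have h : (k : G) ∈ V := (d.theta_one ⟨k, hKN k.2.1⟩).mp (Subtype.ext (by have h := congrArg Subtype.val hk; exact h))
      exact Subtype.ext (Subgroup.mem_bot.mp (hKV ▸ Subgroup.mem_inf.mpr ⟨k.2.1, h⟩))
    · obtain ⟨hm, hmS⟩ := CfsgGolay.mem_stabM.mp m.2
      obtain ⟨n, hn⟩ := d.surj ⟨m, hm⟩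
      obtain ⟨v, hv, k, hk, hnk⟩ := o.decomp_K hKN hKsup n.2
      have hθ : d.θ ⟨k, hKN hk⟩ = ⟨m, hm⟩ := by
        rw [← hn, show n = (⟨v, Subgroup.le_normalizer hv⟩ : ↥(Subgroup.normalizer (V : Set G))) * ⟨k, hKN hk⟩ from
          Subtype.ext hnk, map_mul, (d.theta_one ⟨v, Subgroup.le_normalizer hv⟩).mpr hv, one_mul]
      exact ⟨⟨k, hk, Subgroup.mem_centralizer_singleton_iff.mpr
        ((hfix ⟨k, hKN hk⟩).mpr (by rw [hθ]; exact hmS))⟩, Subtype.ext (by have h := congrArg Subtype.val hθ; exact h)⟩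
  obtain ⟨e⟩ := CfsgLib.JankoFour.pair_stab_aut hpq
  set φ := MulAut.conj g⁻¹ with hφ
  have hts : φ s = t := by rw [hφ, hs, MulAut.conj_apply]; group
  have hC : Subgroup.centralizer ({t} : Set G) = (Subgroup.centralizer ({s} : Set G)).map φ.toMonoidHom := by
    ext x
    rw [Subgroup.mem_map_equiv, Subgroup.mem_centralizer_singleton_iff, Subgroup.mem_centralizer_singleton_iff]
    constructor
    · intro h; apply φ.injective; rw [map_mul φ _ s, map_mul φ s _, φ.apply_symm_apply, hts]; exact h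
    · intro h
      have h' := congrArg φ h
      rwa [map_mul φ _ s, map_mul φ s _, φ.apply_symm_apply, hts] at h'
  obtain ⟨hVel, hVc⟩ := c.vGrp_facts o.hA.1
  refine ⟨V.map φ.toMonoidHom, Ks.map φ.toMonoidHom, ?_, ?_, ?_, CfsgLib.JankoFour.elem_map _ hVel, ?_, ?_, ?_,
    ⟨((Ks.equivMapOfInjective φ.toMonoidHom φ.injective).symm.trans (MulEquiv.ofBijective f hf)).trans e⟩⟩
  · rw [hC]; exact Subgroup.map_mono hVC
  · rw [hC]; exact Subgroup.map_mono inf_le_right
  · rw [hC, ← Subgroup.map_equiv_normalizer_eq V φ]; exact Subgroup.map_mono (o.cent_T hg)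
  · rw [Subgroup.card_map_of_injective φ.injective, hVc]
  · rw [← Subgroup.map_inf_eq _ _ φ.toMonoidHom φ.injective,
      eq_bot_iff.mpr (le_trans (inf_le_inf_right V inf_le_left) hKV.le), Subgroup.map_bot]
  · rw [hC, ← Subgroup.map_sup, hsup]

end Cfsg.Agent.S5569
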