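import Cfsg.Statements.S5570
import Cfsg.Agent.Lib.JankoFour.TenQuot
import Cfsg.Agent.Lib.JankoFour.TenSplit
import Cfsg.Agent.Lib.JankoFour.FiveOuter

set_option autoImplicit false
open Cfsg

namespace CfsgLib.JankoFour.Ctx.Ten

open Cfsg Subgroup CfsgGolay CfsgGolay.Ten

attribute [local irreducible] zMask tMask orbList

universe u

variable {G : Type u} [Group G] [Finite G] {z : G} {P E : Subgroup G} {c : Ctx z P E} {A : Subgroup MTwoTwo}
  {o : c.Orb A} (t : Ten o)

/-- The standard group is irreducible for its normalizer. -/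
theorem irred {W : Subgroup G} (hW : W ≤ t.A0) (hn : normalizer (t.A0 : Set G) ≤ normalizer (W : Set G)) :
    W = ⊥ ∨ W = t.A0 := by
  classical
  set S := (Finset.range 1024).filter (fun a => t.Ψ a ∈ W) with hS
  have hSc : S.card = Nat.card W := by
    rw [← Nat.card_eq_finsetCard]
    refine Nat.card_eq_of_bijective (fun a : ↥S => (⟨t.Ψ a, (Finset.mem_filter.mp a.2).2⟩ : W)) ⟨?_, ?_⟩
    · intro a b e
      exact Subtype.ext (t.Ψ_inj (Finset.mem_range.mp (Finset.mem_filter.mp a.2).1)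
        (Finset.mem_range.mp (Finset.mem_filter.mp b.2).1) (congrArg Subtype.val e))
    · rintro ⟨x, hx⟩
      obtain ⟨a, ha, rfl⟩ := hW hx
      exact ⟨⟨a, Finset.mem_filter.mpr ⟨Finset.mem_range.mpr ha, hx⟩⟩, rfl⟩
  have hdvd : S.card ∣ 2 ^ 10 := by rw [hSc, ← t.card_A0]; exact card_dvd_of_le hW
  obtain ⟨-, hiff, hz, ht⟩ := t.orbits
  set TZ := (Finset.range 1024).filter (fun a => zMask.testBit a = true) with hTZ
  set TT := (Finset.range 1024).filter (fun a => tMask.testBit a = true) with hTT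
  have hcl : ∀ a ∈ S, t.orbI a ⊆ S := fun a ha b hb => by
    obtain ⟨hb, n, hnN, e⟩ := t.mem_orbI.mp hb
    rw [hS, Finset.mem_filter] at ha ⊢
    exact ⟨Finset.mem_range.mpr hb, e ▸ (mem_normalizer_iff.mp (hn hnN) _).mp ha.2⟩
  by_cases hbot : ∀ a ∈ S, a = 0
  · left
    rw [eq_bot_iff]
    intro x hx
    obtain ⟨a, ha, rfl⟩ := hW hx
    rw [mem_bot, hbot a (Finset.mem_filter.mpr ⟨Finset.mem_range.mpr ha, hx⟩), t.Ψ_zero]
  right
  push Not at hbot
  obtain ⟨a, haS, ha0⟩ := hbot
  have h0 : 0 ∈ S := Finset.mem_filter.mpr ⟨Finset.mem_range.mpr (by norm_num), by rw [t.Ψ_zero]; exact one_mem _⟩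
  have hdis : ∀ b, zMask.testBit b = true → ¬ tMask.testBit b = true := fun b h1 h2 => by
    have h3 := congrArg (fun m => Nat.testBit m b) (Nat.eq_of_beq_eq_true zt_disjoint)
    simp [Nat.testBit_and, h1, h2] at h3
  have hfull : ∀ b ∈ S, b ≠ 0 → (zMask.testBit b = true → TZ ⊆ S) ∧ (tMask.testBit b = true → TT ⊆ S) := by
    intro b hb hb0
    have hblt : b < 1024 := Finset.mem_range.mp (Finset.mem_filter.mp hb).1
    constructor
    · intro hzb d hd
      obtain ⟨hd1, hd2⟩ := Finset.mem_filter.mp hd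
      have hd0 : d ≠ 0 := fun e => by
        rcases mem_zMask.mp hd2 with h | h <;> exact (orb_spec (by norm_num) h).2.1 e
      obtain ⟨n, hnN, e⟩ := t.type_conj hblt hb0 (Finset.mem_range.mp hd1) hd0
        (iff_of_true ((hiff b hblt hb0).mpr hzb) ((hiff d (Finset.mem_range.mp hd1) hd0).mpr hd2))
      exact hcl b hb (t.mem_orbI.mpr ⟨Finset.mem_range.mp hd1, n, hnN, e⟩)
    · intro htb d hd
      obtain ⟨hd1, hd2⟩ := Finset.mem_filter.mp hd
      have hd0 : d ≠ 0 := fun e => by
        rcases mem_tMask.mp hd2 with h | h <;> exact (orb_spec (by norm_num) h).2.1 e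
      obtain ⟨n, hnN, e⟩ := t.type_conj hblt hb0 (Finset.mem_range.mp hd1) hd0
        (iff_of_false (fun h => hdis b ((hiff b hblt hb0).mp h) htb)
          (fun h => hdis d ((hiff d (Finset.mem_range.mp hd1) hd0).mp h) hd2))
      exact hcl b hb (t.mem_orbI.mpr ⟨Finset.mem_range.mp hd1, n, hnN, e⟩)
  have hsplit : ∀ d ∈ S, d = 0 ∨ d ∈ TZ ∨ d ∈ TT := fun d hd => by
    obtain ⟨hd1, -⟩ := Finset.mem_filter.mp hd
    by_cases hd0 : d = 0
    · exact Or.inl hd0
    · exact Or.inr ((mask_cases (Finset.mem_range.mp hd1) hd0).imp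
        (fun h => Finset.mem_filter.mpr ⟨hd1, h⟩) (fun h => Finset.mem_filter.mpr ⟨hd1, h⟩))
  have hmasks : ∀ (k l : ℕ), k < 4 → l < 4 → (∀ x, x ∈ orbList k → x ∈ orbList l → False) →
      ((orbList k).toFinset ∪ (orbList l).toFinset).card = (orbList k).length + (orbList l).length := by
    intro k l hk hl hd
    rw [Finset.card_union_of_disjoint (Finset.disjoint_left.mpr fun x h1 h2 =>
      hd x (List.mem_toFinset.mp h1) (List.mem_toFinset.mp h2)),
      List.toFinset_card_of_nodup (nodup_of_distinctB (List.all_eq_true.mp orb_distinct k (List.mem_range.mpr hk))),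
      List.toFinset_card_of_nodup (nodup_of_distinctB (List.all_eq_true.mp orb_distinct l (List.mem_range.mpr hl)))]
  have hlow : ∀ x k l, k < 2 → 2 ≤ l → l < 4 → x ∈ orbList k → x ∈ orbList l → False := fun x k l hk hl hl' h1 h2 => by
    have := (orb_spec hl' h2).2.2.mp ((orb_spec (show k < 4 by omega) h1).2.2.mpr hk)
    omega
  obtain ⟨l0, l1, l2, l3⟩ := orb_length
  have hTZc : TZ.card = 155 := by
    rw [show TZ = (orbList 0).toFinset ∪ (orbList 2).toFinset by
      ext x
      rw [hTZ, Finset.mem_filter, Finset.mem_range, Finset.mem_union, List.mem_toFinset, List.mem_toFinset, mem_zMask]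
      exact ⟨fun h => h.2, fun h => ⟨h.elim (fun h => (orb_spec (by norm_num) h).1)
        (fun h => (orb_spec (by norm_num) h).1), h⟩⟩,
      hmasks 0 2 (by norm_num) (by norm_num) (fun x => hlow x 0 2 (by norm_num) (by norm_num) (by norm_num)), l0, l2]
  have hTTc : TT.card = 868 := by
    rw [show TT = (orbList 1).toFinset ∪ (orbList 3).toFinset by
      ext x
      rw [hTT, Finset.mem_filter, Finset.mem_range, Finset.mem_union, List.mem_toFinset, List.mem_toFinset, mem_tMask]
      exact ⟨fun h => h.2, fun h => ⟨h.elim (fun h => (orb_spec (by norm_num) h).1)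
        (fun h => (orb_spec (by norm_num) h).1), h⟩⟩,
      hmasks 1 3 (by norm_num) (by norm_num) (fun x => hlow x 1 3 (by norm_num) (by norm_num) (by norm_num)), l1, l3]
  have h0Z : 0 ∉ TZ := fun h => by
    rcases mem_zMask.mp (Finset.mem_filter.mp h).2 with h | h <;> exact (orb_spec (by norm_num) h).2.1 rfl
  have h0T : 0 ∉ TT := fun h => by
    rcases mem_tMask.mp (Finset.mem_filter.mp h).2 with h | h <;> exact (orb_spec (by norm_num) h).2.1 rfl
  have hZT : Disjoint TZ TT := Finset.disjoint_left.mpr fun x h1 h2 =>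
    hdis x (Finset.mem_filter.mp h1).2 (Finset.mem_filter.mp h2).2
  by_cases hZ : TZ ⊆ S <;> by_cases hT : TT ⊆ S
  · refine le_antisymm hW ?_
    rintro _ ⟨x, hx, rfl⟩
    by_cases hx0 : x = 0
    · subst hx0; rw [t.Ψ_zero]; exact one_mem _
    · rcases mask_cases hx hx0 with h | h
      · exact (Finset.mem_filter.mp (hZ (Finset.mem_filter.mpr ⟨Finset.mem_range.mpr hx, h⟩))).2
      · exact (Finset.mem_filter.mp (hT (Finset.mem_filter.mpr ⟨Finset.mem_range.mpr hx, h⟩))).2
  · exfalso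
    have hSeq : S = insert 0 TZ := by
      refine Finset.Subset.antisymm (fun d hd => Finset.mem_insert.mpr ?_) (Finset.insert_subset h0 hZ)
      rcases hsplit d hd with h | h | h
      · exact Or.inl h
      · exact Or.inr h
      · exact absurd ((hfull d hd fun e => h0T (e ▸ h)).2 (Finset.mem_filter.mp h).2) hT
    rw [hSeq, Finset.card_insert_of_notMem h0Z, hTZc] at hdvd
    revert hdvd; decide
  · exfalso
    have hSeq : S = insert 0 TT := by
      refine Finset.Subset.antisymm (fun d hd => Finset.mem_insert.mpr ?_) (Finset.insert_subset h0 hT)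
      rcases hsplit d hd with h | h | h
      · exact Or.inl h
      · exact absurd ((hfull d hd fun e => h0Z (e ▸ h)).1 (Finset.mem_filter.mp h).2) hZ
      · exact Or.inr h
    rw [hSeq, Finset.card_insert_of_notMem h0T, hTTc] at hdvd
    revert hdvd; decide
  · exfalso
    rcases hsplit a haS with h | h | h
    · exact ha0 h
    · exact hZ ((hfull a haS ha0).1 (Finset.mem_filter.mp h).2)
    · exact hT ((hfull a haS ha0).2 (Finset.mem_filter.mp h).2)

end CfsgLib.JankoFour.Ctx.Ten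

namespace Cfsg.Agent.S5570

open CfsgLib.JankoFour

theorem result {G : Type*} [Group G] [Finite G] [IsSimpleGroup G] (hG : ¬ IsMulCommutative G) (hJ : Cfsg.IsOfJankoFourType G) :
    (∃ A : Subgroup G, Cfsg.IsElementaryAbelian 2 A ∧ Nat.card ↥A = 2 ^ 10 ∧ Subgroup.centralizer (A : Set G) = A) ∧
    (∀ A A' : Subgroup G, Cfsg.IsElementaryAbelian 2 A → Nat.card ↥A = 2 ^ 10 → Subgroup.centralizer (A : Set G) = A → Cfsg.IsElementaryAbelian 2 A' → Nat.card ↥A' = 2 ^ 10 → Subgroup.centralizer (A' : Set G) = A' → ∃ g : G, A' = A.map (MulAut.conj g).toMonoidHom) ∧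
    ∀ A : Subgroup G, Cfsg.IsElementaryAbelian 2 A → Nat.card ↥A = 2 ^ 10 → Subgroup.centralizer (A : Set G) = A →
      (∃ B : Subgroup G, B ≤ Subgroup.normalizer (A : Set G) ∧ B ⊓ A = ⊥ ∧ B ⊔ A = Subgroup.normalizer (A : Set G) ∧
        Nonempty (↥B ≃* Matrix.SpecialLinearGroup (Fin 5) (ZMod 2))) ∧
      ∀ W : Subgroup G, W ≤ A → Subgroup.normalizer (A : Set G) ≤ Subgroup.normalizer (W : Set G) → W = ⊥ ∨ W = A := by
  obtain ⟨z, P, hJ'⟩ := hJ
  obtain ⟨c⟩ := CfsgLib.JankoFour.ctx_of_type hJ'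
  obtain ⟨A', o⟩ := c.exists_orb hG (CfsgLib.JankoFour.hinv_of_type hJ')
  obtain ⟨hex, hfaith⟩ := c.outer_facts hJ'
  obtain ⟨t⟩ := o.exists_ten hex hfaith
  refine ⟨⟨t.A0, t.elem_A0, t.card_A0, t.cent_A0⟩, fun X Y hX hXc hXs hY hYc hYs => ?_, fun X hX hXc hXs => ?_⟩
  · obtain ⟨g, hg⟩ := t.conj_A0 hX hXc hXs
    obtain ⟨h, hh⟩ := t.conj_A0 hY hYc hYs
    refine ⟨h⁻¹ * g, ?_⟩
    show Y = conjSub X (h⁻¹ * g)
    rw [← conjSub_conjSub, hg, ← hh, conjSub_conjSub, inv_mul_cancel, Ctx.Ten.conjSub_one]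
  · obtain ⟨g, hg⟩ := t.conj_A0 hX hXc hXs
    have hXeq : X = conjSub t.A0 g⁻¹ := by
      rw [← hg, conjSub_conjSub, inv_mul_cancel, Ctx.Ten.conjSub_one]
    have hN : Subgroup.normalizer (X : Set G) = conjSub (Subgroup.normalizer (t.A0 : Set G)) g⁻¹ := by
      refine le_antisymm (fun n hn => mem_conjSub.mpr ?_) (fun n hn => ?_)
      · rw [inv_inv, ← hg]
        exact norm_conjSub (by rwa [show g⁻¹ * (g * n * g⁻¹) * g = n by group])
      · rw [hXeq]
        exact norm_conjSub (mem_conjSub.mp hn)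
    refine ⟨?_, fun W hWX hWn => ?_⟩
    · obtain ⟨B, hB1, hB2, hB3, hB4⟩ := t.split
      obtain ⟨e⟩ := t.complement_iso hB1 hB2 hB4
      refine ⟨conjSub B g⁻¹, ?_, ?_, ?_, ?_⟩
      · rw [hN]; exact Subgroup.map_mono hB1
      · rw [hXeq, conjSub, conjSub, ← Subgroup.map_inf _ _ _ (MulAut.conj g⁻¹).injective, hB2, Subgroup.map_bot]
      · rw [hN, hXeq, conjSub, conjSub, conjSub, ← Subgroup.map_sup, hB3]
      · exact ⟨(Subgroup.equivMapOfInjective B _ (MulAut.conj g⁻¹).injective).symm.trans e⟩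
    · have h := t.irred (W := conjSub W g) (hg ▸ Subgroup.map_mono hWX) (fun n hn => by
        have h2 : g⁻¹ * n * g ∈ Subgroup.normalizer (W : Set G) := hWn (hN ▸ mem_conjSub.mpr (by
          rwa [inv_inv, show g * (g⁻¹ * n * g) * g⁻¹ = n by group]))
        exact norm_conjSub h2)
      rcases h with h | h
      · left
        have h2 := congrArg (fun S => conjSub S g⁻¹) h
        simp only [conjSub_conjSub, inv_mul_cancel, Ctx.Ten.conjSub_one] at h2
        rw [h2]; exact Subgroup.map_bot _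
      · right
        have h2 := congrArg (fun S => conjSub S g⁻¹) h
        simp only [conjSub_conjSub, inv_mul_cancel, Ctx.Ten.conjSub_one] at h2
        rw [h2, hXeq]

end Cfsg.Agent.S5570
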