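import Cfsg.Statements.S5572
import Cfsg.Agent.Lib.JankoFour.FiveNorm
import Cfsg.Agent.Lib.JankoFour.CenCenter

set_option autoImplicit false
open Cfsg

namespace Cfsg.Agent.S5572

/-- Let G be a finite non-abelian simple group of Janko-four type (an involution z whose centralizer H has an extraspecial largest normal 2-subgroup E of order 2^13 containing its centralizer in H, a normal subgroup N ≥ E of H with N/E of order 3 and H/N the automorphism group of M₂₂, and a subgroup P ≤ N of order 3 with C_E(P) = ⟨z⟩, N_H(P) ≠ C_H(P) and P ≤ C_H(P)′). Let Q ≤ H have order 5. Then Q is a Sylow 5-subgroup of G; its centralizer is Q × J with J a non-split extension of an elementary abelian group of order 8 by L₃(2); its normalizer contains a subgroup of order 20 containing Q in which Q is self-centralizing (a Frobenius group of order 20); and the normalizer of Q has order 2^8·3·5·7. -/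
theorem result {G : Type*} [Group G] [Finite G] [IsSimpleGroup G] (hG : ¬ IsMulCommutative G) (z : G) (hJ : Cfsg.IsOfJankoFourTypeAt z) (Q : Subgroup G) (hQ : Nat.card ↥Q = 5) (hQz : Q ≤ Subgroup.centralizer ({z} : Set G)) :
    ¬ (25 ∣ Nat.card G) ∧
    (∃ J : Subgroup G, Cfsg.IsInternalDirectProduct Q J (Subgroup.centralizer (Q : Set G)) ∧
      ∃ (E : Subgroup ↥J) (_ : E.Normal), Cfsg.IsElementaryAbelian 2 E ∧ Nat.card ↥E = 8 ∧
        Nonempty (↥J ⧸ E ≃* Matrix.SpecialLinearGroup (Fin 3) (ZMod 2)) ∧ ∀ K : Subgroup ↥J, ¬ E.IsComplement' K) ∧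
    (∃ R : Subgroup G, Q ≤ R ∧ R ≤ Subgroup.normalizer (Q : Set G) ∧ Nat.card ↥R = 20 ∧ R ⊓ Subgroup.centralizer (Q : Set G) = Q) ∧
    Nat.card ↥(Subgroup.normalizer (Q : Set G)) = 2 ^ 8 * 3 * 5 * 7 := by
  obtain ⟨P, hJ'⟩ := hJ
  obtain ⟨m⟩ := CfsgLib.JankoFour.FiveChk.exists_model
  obtain ⟨c⟩ := CfsgLib.JankoFour.ctx_of_type hJ'
  obtain ⟨hex, hfaith⟩ := c.outer_facts hJ'
  obtain ⟨d⟩ := c.exists_five m hex hfaith
  have hinv := CfsgLib.JankoFour.hinv_of_type hJ'
  haveI : Fact (Nat.Prime 5) := ⟨by norm_num⟩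
  obtain ⟨y, hyQ, hy1⟩ : ∃ y ∈ Q, y ≠ (1 : G) := (Q.bot_or_exists_ne_one).resolve_left fun h => by
    rw [h, Subgroup.card_bot] at hQ; norm_num at hQ
  have hy5 : y ^ 5 = 1 := by
    rw [← hQ]; exact congrArg Subtype.val (pow_card_eq_one' (x := (⟨y, hyQ⟩ : Q)))
  obtain ⟨h, -, k, hk, hk0, hk'⟩ := d.five_conj (hQz hyQ) hy5 hy1
  have hQeq : (Subgroup.zpowers d.q).map (MulAut.conj h⁻¹).toMonoidHom = Q := by
    refine (Subgroup.eq_of_le_of_card_ge ?_ ?_).symm
    · have hQy : Q = Subgroup.zpowers y := (Subgroup.eq_of_le_of_card_ge (Subgroup.zpowers_le.mpr hyQ) (by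
        rw [Nat.card_zpowers, orderOf_eq_prime hy5 hy1, hQ])).symm
      rw [hQy, Subgroup.zpowers_le]
      refine ⟨d.q ^ k, Subgroup.pow_mem _ (Subgroup.mem_zpowers d.q) k, ?_⟩
      rw [← hk', MulEquiv.coe_toMonoidHom, MulAut.conj_apply]
      group
    · rw [Subgroup.card_map_of_injective (MulAut.conj h⁻¹).injective, d.card_Q, hQ]
  rw [← hQeq]
  exact (d.five_local hG hinv).map (MulAut.conj h⁻¹)

end Cfsg.Agent.S5572
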