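import Cfsg.Statements.S5573
import Cfsg.Agent.Lib.JankoFour.SevenFinal
import Cfsg.Agent.Lib.JankoFour.CenCenter
-- import your own Cfsg.Agent.* helpers here

set_option autoImplicit false
open Cfsg

namespace Cfsg.Agent.S5573

/-- Let G be a finite non-abelian simple group of Janko-four type (an involution z whose centralizer H has an extraspecial largest normal 2-subgroup E of order 2^13 containing its centralizer in H, a normal subgroup N ≥ E of H with N/E of order 3 and H/N the automorphism group of M₂₂, and a subgroup P ≤ N of order 3 with C_E(P) = ⟨z⟩, N_H(P) ≠ C_H(P) and P ≤ C_H(P)′). Let S ≤ H have order 7. Then S is a Sylow 7-subgroup of G, its centralizer is S × I with I isomorphic to the symmetric group of degree 5, and its normalizer has order three times that of its centralizer, namely 2^3·3^2·5·7. -/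
theorem result {G : Type*} [Group G] [Finite G] [IsSimpleGroup G] (hG : ¬ IsMulCommutative G) (z : G) (hJ : Cfsg.IsOfJankoFourTypeAt z) (S : Subgroup G) (hS : Nat.card ↥S = 7) (hSz : S ≤ Subgroup.centralizer ({z} : Set G)) :
    ¬ (49 ∣ Nat.card G) ∧
    (∃ I : Subgroup G, Cfsg.IsInternalDirectProduct S I (Subgroup.centralizer (S : Set G)) ∧ Nonempty (↥I ≃* Equiv.Perm (Fin 5))) ∧
    Nat.card ↥(Subgroup.normalizer (S : Set G)) = 3 * Nat.card ↥(Subgroup.centralizer (S : Set G)) ∧
    Nat.card ↥(Subgroup.normalizer (S : Set G)) = 2 ^ 3 * 3 ^ 2 * 5 * 7 := by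
  obtain ⟨P, hJ'⟩ := hJ
  obtain ⟨m⟩ := CfsgLib.JankoFour.FiveChk.exists_model
  obtain ⟨c⟩ := CfsgLib.JankoFour.ctx_of_type hJ'
  obtain ⟨hex, hfaith⟩ := c.outer_facts hJ'
  obtain ⟨d⟩ := c.exists_five m hex hfaith
  have hinv := CfsgLib.JankoFour.hinv_of_type hJ'
  obtain ⟨t⟩ := CfsgLib.JankoFour.exists_pack d hG hinv
  haveI : Fact (Nat.Prime 7) := ⟨by norm_num⟩
  obtain ⟨y, hyS, hy1⟩ : ∃ y ∈ S, y ≠ (1 : G) := (S.bot_or_exists_ne_one).resolve_left fun h => by
    rw [h, Subgroup.card_bot] at hS; norm_num at hS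
  have hy7 : y ^ 7 = 1 := by
    rw [← hS]; exact congrArg Subtype.val (pow_card_eq_one' (x := (⟨y, hyS⟩ : S)))
  obtain ⟨h, -, k, hk0, hk'⟩ := t.seven_conj (hSz hyS) hy7 hy1
  have hSeq : (Subgroup.zpowers t.r).map (MulAut.conj h⁻¹).toMonoidHom = S := by
    refine (Subgroup.eq_of_le_of_card_ge ?_ ?_).symm
    · have hSy : S = Subgroup.zpowers y := (Subgroup.eq_of_le_of_card_ge (Subgroup.zpowers_le.mpr hyS) (by
        rw [Nat.card_zpowers, orderOf_eq_prime hy7 hy1, hS])).symm
      rw [hSy, Subgroup.zpowers_le]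
      refine ⟨t.r ^ k, Subgroup.pow_mem _ (Subgroup.mem_zpowers t.r) k, ?_⟩
      rw [← hk', MulEquiv.coe_toMonoidHom, MulAut.conj_apply]
      group
    · rw [Subgroup.card_map_of_injective (MulAut.conj h⁻¹).injective, t.card_R, hS]
  rw [← hSeq]
  exact (t.seven_local_at d hG hinv).map (MulAut.conj h⁻¹)

end Cfsg.Agent.S5573
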