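import Cfsg.Statements.S4965
import Mathlib.GroupTheory.GroupAction.CardCommute
import Mathlib.GroupTheory.SemidirectProduct
import Mathlib.Tactic.Group

set_option autoImplicit false
open Cfsg

namespace Cfsg.Agent.S4965

/-- Let X be a finite group with an abelian normal subgroup V (any two elements of V commute), and let φ be the action of X ⧸ V on V induced by conjugation (well defined because V is abelian; the hypothesis hφ says that the class of x acts as conjugation by x). Then X has at most as many conjugacy classes as the semidirect product of V by X ⧸ V formed with this action: the split extension has the largest class number among extensions with the given action. -/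
theorem result {X : Type*} [Group X] [Finite X] (V : Subgroup X) [V.Normal] (hab : ∀ a ∈ V, ∀ b ∈ V, a * b = b * a) (φ : X ⧸ V →* MulAut ↥V) (hφ : ∀ (x : X) (v : ↥V), ((φ (QuotientGroup.mk x) v : ↥V) : X) = x * v * x⁻¹) : Nat.card (ConjClasses X) ≤ Nat.card (ConjClasses (SemidirectProduct ↥V (X ⧸ V) φ)) := by
  classical
  set Y := SemidirectProduct ↥V (X ⧸ V) φ with hY
  haveI : Finite Y := Finite.of_equiv _ (SemidirectProduct.equivProd (φ := φ)).symm
  suffices hle : Nat.card {p : X × X // Commute p.1 p.2} ≤ Nat.card {p : Y × Y // Commute p.1 p.2} by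
    rw [card_comm_eq_card_conjClasses_mul_card, card_comm_eq_card_conjClasses_mul_card] at hle
    have hc : Nat.card Y = Nat.card X := by
      rw [SemidirectProduct.card, mul_comm, ← V.card_eq_card_quotient_mul_card_subgroup]
    rw [hc] at hle
    exact Nat.le_of_mul_le_mul_right hle Nat.card_pos
  -- a base point over every pair that lifts to a commuting pair
  let base : (X ⧸ V) × (X ⧸ V) → X × X := fun q =>
    if h : ∃ p : X × X, Commute p.1 p.2 ∧ ((p.1 : X ⧸ V), (p.2 : X ⧸ V)) = q then h.choose else 1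
  have hbase : ∀ p : X × X, Commute p.1 p.2 →
      Commute (base ((p.1 : X ⧸ V), (p.2 : X ⧸ V))).1 (base ((p.1 : X ⧸ V), (p.2 : X ⧸ V))).2 ∧
      ((base ((p.1 : X ⧸ V), (p.2 : X ⧸ V))).1 : X ⧸ V) = p.1 ∧
      ((base ((p.1 : X ⧸ V), (p.2 : X ⧸ V))).2 : X ⧸ V) = p.2 := by
    intro p hp
    have h : ∃ p' : X × X, Commute p'.1 p'.2 ∧
        ((p'.1 : X ⧸ V), (p'.2 : X ⧸ V)) = ((p.1 : X ⧸ V), (p.2 : X ⧸ V)) := ⟨p, hp, rfl⟩
    simp only [base, dif_pos h]
    exact ⟨h.choose_spec.1, congrArg Prod.fst h.choose_spec.2, congrArg Prod.snd h.choose_spec.2⟩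
  have hmem : ∀ a b : X, (a : X ⧸ V) = b → a * b⁻¹ ∈ V := fun a b h => by
    rw [← QuotientGroup.eq_one_iff, QuotientGroup.mk_mul, QuotientGroup.mk_inv, h, mul_inv_cancel]
  have key : ∀ p : {p : X × X // Commute p.1 p.2}, ∃ v w : V,
      p.1.1 = v * (base ((p.1.1 : X ⧸ V), (p.1.2 : X ⧸ V))).1 ∧
      p.1.2 = w * (base ((p.1.1 : X ⧸ V), (p.1.2 : X ⧸ V))).2 ∧
      Commute (⟨v, (p.1.1 : X ⧸ V)⟩ : Y) ⟨w, (p.1.2 : X ⧸ V)⟩ := by
    rintro ⟨⟨x, y⟩, hp⟩
    dsimp only at hp ⊢
    obtain ⟨hc, h1, h2⟩ := hbase (x, y) hp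
    set bx := (base ((x : X ⧸ V), (y : X ⧸ V))).1
    set by' := (base ((x : X ⧸ V), (y : X ⧸ V))).2
    dsimp only at h1 h2
    have f1 : ∀ u : V, ((φ (x : X ⧸ V) u : V) : X) = bx * u * bx⁻¹ := fun u => by
      rw [← hφ bx u, h1]
    have f2 : ∀ u : V, ((φ (y : X ⧸ V) u : V) : X) = by' * u * by'⁻¹ := fun u => by
      rw [← hφ by' u, h2]
    refine ⟨⟨x * bx⁻¹, hmem x bx h1.symm⟩, ⟨y * by'⁻¹, hmem y by' h2.symm⟩, by simp, by simp, ?_⟩
    refine SemidirectProduct.ext (Subtype.ext ?_) ?_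
    · simp only [SemidirectProduct.mul_left, Subgroup.coe_mul]
      rw [f1, f2]
      have e1 : x * bx⁻¹ * (bx * (y * by'⁻¹) * bx⁻¹) = x * y * (bx * by')⁻¹ := by group
      have e2 : y * by'⁻¹ * (by' * (x * bx⁻¹) * by'⁻¹) = y * x * (by' * bx)⁻¹ := by group
      simp only [e1, e2]
      rw [hp.eq, hc.eq]
    · simp only [SemidirectProduct.mul_right]
      rw [← QuotientGroup.mk_mul, ← QuotientGroup.mk_mul, hp.eq]
  choose v w hv hw hcom using key
  refine Nat.card_le_card_of_injective (fun p => (⟨((⟨v p, (p.1.1 : X ⧸ V)⟩ : Y),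
    (⟨w p, (p.1.2 : X ⧸ V)⟩ : Y)), hcom p⟩ : {q : Y × Y // Commute q.1 q.2})) fun p p' h => ?_
  have hh := congrArg Subtype.val h
  have ha : v p = v p' := congrArg (fun q : Y × Y => q.1.left) hh
  have hb : (p.1.1 : X ⧸ V) = p'.1.1 := congrArg (fun q : Y × Y => q.1.right) hh
  have hc' : w p = w p' := congrArg (fun q : Y × Y => q.2.left) hh
  have hd : (p.1.2 : X ⧸ V) = p'.1.2 := congrArg (fun q : Y × Y => q.2.right) hh
  refine Subtype.ext (Prod.ext ?_ ?_)
  · rw [hv p, hv p', ha, hb, hd]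
  · rw [hw p, hw p', hc', hb, hd]

end Cfsg.Agent.S4965
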