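import Cfsg.Statements.S0999
import Cfsg.Agent.Lib.SmallSylow.Apply

set_option autoImplicit false
open Cfsg

namespace Cfsg.Agent.S0999

/-- Let G be a non-cyclic finite simple group and p a prime divisor of its order with p^3 > |G|. Then p > 3 and G is isomorphic to the projective special linear group of dimension 2 over the field with p elements, or p - 1 is a power of 2 and G is isomorphic to that group over the field with p - 1 elements. -/
theorem result {G : Type*} [Group G] [Finite G] [IsSimpleGroup G] (hG : ¬ IsCyclic G) (p : ℕ) (hp : p.Prime) (hdvd : p ∣ Nat.card G) (hbig : Nat.card G < p ^ 3) : (∃ (F : Type) (_ : Field F) (_ : Fintype F), Fintype.card F = p ∧ 3 < p ∧ Nonempty (G ≃* Matrix.ProjectiveSpecialLinearGroup (Fin 2) F)) ∨ (∃ (m : ℕ) (F : Type) (_ : Field F) (_ : Fintype F), Fintype.card F = 2 ^ m ∧ p = 2 ^ m + 1 ∧ 3 < p ∧ Nonempty (G ≃* Matrix.ProjectiveSpecialLinearGroup (Fin 2) F)) := by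
  classical
  haveI := Fintype.ofFinite G
  haveI : Fact p.Prime := ⟨hp⟩
  haveI : NeZero p := ⟨hp.ne_zero⟩
  have hnc : ¬ ∀ a b : G, a * b = b * a := fun h => hG (by
    letI : CommGroup G := { (inferInstance : Group G) with mul_comm := h }
    infer_instance)
  have hperf : commutator G = ⊤ :=
    (Subgroup.Normal.eq_bot_or_eq_top (inferInstance : (commutator G).Normal)).resolve_left fun h =>
      hnc fun a b => commutatorElement_eq_one_iff_mul_comm.1 (by
        rw [← Subgroup.mem_bot, ← h]
        exact Subgroup.commutator_mem_commutator (Subgroup.mem_top a) (Subgroup.mem_top b))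
  let P : Sylow p G := Classical.arbitrary _
  have hP : ¬ (P : Subgroup G).Normal := by
    intro hN
    rcases hN.eq_bot_or_eq_top with h | h
    · refine P.not_dvd_index ?_
      rw [h, Subgroup.index_bot]; exact hdvd
    · haveI : IsMulCommutative G := by
        have hpg : IsPGroup p G := (h ▸ P.isPGroup' : IsPGroup p (⊤ : Subgroup G)).of_equiv Subgroup.topEquiv
        haveI := hpg.isNilpotent
        haveI : Group.IsSolvable G := inferInstance
        exact absurd hperf (Group.IsSolvable.commutator_lt_top_of_nontrivial G).ne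
      exact hnc fun a b => mul_comm' a b
  have h2 : ∀ N : Subgroup G, N.Normal → Nat.card N ≠ 2 := by
    intro N hN hc
    rcases hN.eq_bot_or_eq_top with h | h
    · rw [h, Subgroup.card_bot] at hc; omega
    · rw [h, Subgroup.card_top] at hc
      exact hG (isCyclic_of_prime_card hc)
  obtain ⟨h3, h⟩ := CfsgLib.SmallSylow.perfect_small hperf hdvd hbig P hP h2
  rcases h with h | ⟨m, F, hF, hF', hcF, hpm, ⟨e⟩⟩
  · exact Or.inl ⟨ZMod p, inferInstance, inferInstance, ZMod.card p, h3, h⟩
  · obtain ⟨e'⟩ := CfsgLib.SmallSylow.sl_mulEquiv_psl hcF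
    exact Or.inr ⟨m, F, hF, hF', hcF, hpm, h3, ⟨e.trans e'⟩⟩

end Cfsg.Agent.S0999
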