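import Cfsg.Statements.S4709
import Cfsg.Agent.Lib.Blocks.AbelianFree

set_option autoImplicit false
open Cfsg CfsgLib.CharTheory CfsgLib.Blocks CfsgLib.Blocks.AbelianFree

namespace Cfsg.Agent.S4709

/-- Let p be a prime, M a maximal ideal of the algebraic integers containing p, and G a finite group with a nontrivial abelian Sylow p-subgroup P; put N = N_G(P), C = C_G(P). Suppose N/C is cyclic of order m with 1 < m < #P − 1 (C has index m in N and N is generated by C and one element), and C_G(y) ∩ N = C for every non-identity y ∈ P. Put r = (#P − 1)/m. Then there is s ≤ m such that the principal p-block is the disjoint union of a set X of s characters containing the principal character and a set Y of r characters, with integers a_χ ≠ 0 (χ ∈ X), d and a sign δ = ±1, such that: every χ ∈ X takes the value a_χ at every element whose p-part is a non-identity element of P; there is a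 map ζ from the non-principal linear characters ψ of P onto Y, constant on N-conjugacy classes, with ζ_ψ(z) = d + δ·Σ ψ'(y) for every z whose p-part y is a non-identity element of P, the sum running over the N-conjugates ψ' of ψ; (d − δ)^2 + (r − 1) d^2 + Σ_{χ ∈ X} a_χ^2 = m + 1; all members of Y agree on p-regular elements; and (r d − δ) η(g) + Σ_{χ ∈ X} a_χ χ(g) = 0 for every η ∈ Y and every p-regular g. -/
theorem result {G : Type*} [Group G] [Finite G] (p : ℕ) [Fact p.Prime] (M : Ideal Cfsg.AlgInt) (hM : Cfsg.IsPModular p M) (P : Sylow p G) (hab : IsMulCommutative P) (hP1 : Nat.card P ≠ 1) (m : ℕ) (hm1 : 1 < m) (hm2 : m + 1 < Nat.card P) (hCN : (Subgroup.centralizer ((P : Subgroup G) : Set G)).relIndex (Subgroup.normalizer ((P : Subgroup G) : Set G)) = m) (hcyc : ∃ g : G, g ∈ Subgroup.normalizer ((P : Subgroup G) : Set G) ∧ Subgroup.centralizer ((P : Subgroup G) : Set G) ⊔ Subgroup.zpowers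 g = Subgroup.normalizer ((P : Subgroup G) : Set G)) (hfrob : ∀ y : G, y ∈ (P : Subgroup G) → y ≠ 1 → Subgroup.centralizer ({y} : Set G) ⊓ Subgroup.normalizer ((P : Subgroup G) : Set G) = Subgroup.centralizer ((P : Subgroup G) : Set G)) : ∃ (s : ℕ) (X Y : Set (Cfsg.IrrCharacter G)), s ≤ m ∧ Cfsg.principalBlock M G = X ∪ Y ∧ Disjoint X Y ∧ Nat.card X = s ∧ Nat.card Y = (Nat.card P - 1) / m ∧ (∃ χ₁ ∈ X, (χ₁ : G → ℂ) = fun _ => 1) ∧ ∃ (a : Cfsg.IrrCharacter G → ℤ) (d δ : ℤ) (ζ : (↥(P : Subgroup G) →* ℂˣ) → Cfsg.IrrCharacter G), (δ = 1 ∨ δ = -1) ∧ (∀ χ ∈ X, a χ ≠ 0 ∧ ∀ z y : G, Cfsg.IsPPart p z y → y ∈ (P : Subgroup G) → y ≠ 1 → (χ : G → ℂ) z = (a χ : ℂ)) ∧ (∀ ψ : ↥(P : Subgroup G) →* ℂˣ, ψ ≠ 1 → ζ ψ ∈ Y) ∧ (∀ η ∈ Y, ∃ ψ : ↥(P : Subgroup G) →* ℂˣ, ψ ≠ 1 ∧ ζ ψ = η) ∧ (∀ ψ ψ' : ↥(P : Subgroup G) →* ℂˣ, ψ ≠ 1 → (∃ n : G, n ∈ Subgroup.normalizer ((P : Subgroup G) : Set G) ∧ ∀ w w' : ↥(P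 : Subgroup G), (w' : G) = n * w * n⁻¹ → ψ' w' = ψ w) → ζ ψ' = ζ ψ) ∧ (∀ ψ : ↥(P : Subgroup G) →* ℂˣ, ψ ≠ 1 → ∀ (z : G) (y : ↥(P : Subgroup G)), Cfsg.IsPPart p z (y : G) → (y : G) ≠ 1 → (ζ ψ : G → ℂ) z = (d : ℂ) + (δ : ℂ) * ∑ᶠ ψ' ∈ {ψ' : ↥(P : Subgroup G) →* ℂˣ | ∃ n : G, n ∈ Subgroup.normalizer ((P : Subgroup G) : Set G) ∧ ∀ w w' : ↥(P : Subgroup G), (w' : G) = n * w * n⁻¹ → ψ' w' = ψ w}, ((ψ' y : ℂˣ) : ℂ)) ∧ ((d - δ) ^ 2 + ((Nat.card P - 1) / m - 1 : ℤ) * d ^ 2 + ∑ᶠ χ ∈ X, a χ ^ 2 = (m : ℤ) + 1) ∧ (∀ η ∈ Y, ∀ η' ∈ Y, ∀ g : G, ¬ p ∣ orderOf g → (η : G → ℂ) g = (η' : G → ℂ) g) ∧ (∀ η ∈ Y, ∀ g : G, ¬ p ∣ orderOf g → ((((Nat.card P - 1) / m : ℕ) : ℂ) * d - δ) * (η : G → ℂ) g + ∑ᶠ χ ∈ X, (a χ : ℂ) * (χ : G → ℂ) g = 0) := by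
  classical
  haveI : Fintype G := Fintype.ofFinite G
  haveI : Fintype (P : Subgroup G) := Fintype.ofFinite _
  haveI : Fintype (Subgroup.normalizer ((P : Subgroup G) : Set G)) := Fintype.ofFinite _
  have h : Free P m :=
    ⟨Fact.out, fun x hx y hy => congrArg Subtype.val (hab.1.comm ⟨x, hx⟩ ⟨y, hy⟩), hCN, hfrob⟩
  obtain ⟨ζ, δ, d, a, X, Y, S⟩ := h.exists_shape hM hm1 hm2
  have hYc : Y.card = (Nat.card P - 1) / m := by
    rw [← S.cardY, Nat.mul_div_cancel _ h.m_pos]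
  have hdiv : ((Nat.card P : ℤ) - 1) / (m : ℤ) = (Y.card : ℤ) := by
    have hpos : 1 ≤ Nat.card P := Nat.card_pos
    rw [hYc, Int.natCast_div, Nat.cast_sub hpos, Nat.cast_one]
  have hs : X.card ≤ m := by
    have h1 := S.sq
    have h2 : (X.card : ℤ) ≤ ∑ χ ∈ X, a χ ^ 2 := by
      rw [Finset.card_eq_sum_ones, Nat.cast_sum, Nat.cast_one]
      refine Finset.sum_le_sum fun χ hχ => ?_
      nlinarith [Int.one_le_abs (S.ha χ hχ), sq_abs (a χ)]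
    have h4 := S.two_le
    have h3 : (1 : ℤ) ≤ (d - δ) ^ 2 + ((Y.card : ℤ) - 1) * d ^ 2 := by
      rcases eq_or_ne d 0 with hd | hd
      · subst hd
        rcases S.hδ with e | e <;> subst e <;> norm_num
      · have h5 : (1 : ℤ) ≤ d ^ 2 := by nlinarith [Int.one_le_abs hd, sq_abs d]
        have h6 : (1 : ℤ) ≤ ((Y.card : ℤ) - 1) := by omega
        nlinarith [sq_nonneg (d - δ)]
    omega
  refine ⟨X.card, (X : Set _), (Y : Set _), hs, Set.ext fun χ => S.union χ,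
    Finset.disjoint_coe.2 S.disj, Nat.card_eq_finsetCard X,
    (Nat.card_eq_finsetCard Y).trans hYc, ⟨oneIrr G, S.one.1, rfl⟩, a, d, δ,
    fun ψ => ζ (ofHom ψ), S.hδ, fun χ hχ => ⟨S.ha χ hχ, fun z y hz hy hy1 => ?_⟩,
    fun ψ hψ => S.mem_ζ _ (ofHom_ne_one hψ), fun η hη => ?_, fun ψ ψ' hψ hrel => ?_,
    fun ψ hψ z y hz hy1 => ?_, ?_, fun η hη η' hη' g hg => S.agree hM h hη hη' hg,
    fun η hη g hg => ?_⟩
  · rw [h.value_pPart hM ((S.union χ).2 (Or.inl hχ)) hz hy hy1,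
      ← S.valueX h hχ (w := ⟨y, hy⟩) fun e => hy1 (congrArg Subtype.val e)]
  · obtain ⟨ν, hν, rfl⟩ := S.surj η hη
    obtain ⟨ψ, rfl⟩ := h.exists_ofHom ν
    exact ⟨ψ, fun e => hν (e ▸ Subtype.ext (funext fun w => by simp [ofHom, oneP])), rfl⟩
  · have hr := rel_ofHom.2 hrel
    exact (S.ζ_rel _ _ (rel_ne_one (rel_symm hr) (ofHom_ne_one hψ)) (ofHom_ne_one hψ)).2
      (rel_symm hr)
  · rw [h.value_pPart hM ((S.union _).2 (Or.inr (S.mem_ζ _ (ofHom_ne_one hψ)))) hz y.2 hy1,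
      S.valueY h (ofHom_ne_one hψ) (w := y) fun e => hy1 (congrArg Subtype.val e),
      h.finsum_orbit ψ y]
  · rw [hdiv, finsum_mem_coe_finset]
    exact S.sq
  · rw [← hYc, finsum_mem_coe_finset]
    exact S.relation hM h hη hg

end Cfsg.Agent.S4709
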