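import Cfsg.Statements.S0904
import Cfsg.Agent.Lib.Blocks.ThreePrimes

set_option autoImplicit false
open Cfsg CfsgLib.Blocks.ThreePrimes


set_option linter.unusedVariables false

namespace Cfsg.Agent.S0904

/-- Let G be a finite simple group of order p ^ a * q ^ b * r with p, q, r distinct primes. Then every Sylow r-subgroup S of G satisfies C_G(S) = S. -/
theorem result {G : Type*} [Group G] [Finite G] [IsSimpleGroup G] (p q r a b : ℕ) (hp : p.Prime) (hq : q.Prime) [Fact r.Prime] (hpq : p ≠ q) (hpr : p ≠ r) (hqr : q ≠ r) (hcard : Nat.card G = p ^ a * q ^ b * r) (S : Sylow r G) : Subgroup.centralizer (S : Set G) = (S : Subgroup G) := by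
  classical
  haveI := Fintype.ofFinite G
  have hr : r.Prime := Fact.out
  have hG0 := (Nat.card_pos (α := G)).ne'
  have hrn : (Nat.card G).factorization r = 1 := by
    rw [hcard, Nat.factorization_mul (mul_ne_zero (pow_ne_zero _ hp.ne_zero)
      (pow_ne_zero _ hq.ne_zero)) hr.ne_zero, Finsupp.add_apply,
      Nat.factorization_mul (pow_ne_zero _ hp.ne_zero) (pow_ne_zero _ hq.ne_zero),
      Finsupp.add_apply, hp.factorization_pow, hq.factorization_pow, Finsupp.single_apply,
      if_neg hpr, Finsupp.single_apply, if_neg hqr, hr.factorization_self, zero_add, zero_add]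
  have hS : Nat.card (S : Subgroup G) = r := by
    rw [Sylow.card_eq_multiplicity S, hrn, pow_one]
  haveI : IsCyclic (S : Subgroup G) := isCyclic_of_prime_card hS
  have hSC : (S : Subgroup G) ≤ Subgroup.centralizer (S : Set G) := by
    letI := IsCyclic.commGroup (α := (S : Subgroup G))
    exact fun u hu => Subgroup.mem_centralizer_iff.2 fun v hv =>
      congrArg Subtype.val (mul_comm (⟨v, hv⟩ : (S : Subgroup G)) ⟨u, hu⟩)
  refine le_antisymm ?_ hSC
  by_contra hle
  by_cases hna : ∃ u v : G, u * v ≠ v * u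
  swap
  · -- abelian simple groups have prime order
    push Not at hna
    letI : CommGroup G := { (inferInstance : Group G) with mul_comm := hna }
    have hG := IsSimpleGroup.prime_card (α := G)
    have h1 : r ∣ Nat.card G := hS ▸ Subgroup.card_subgroup_dvd_card _
    have h2 : r = Nat.card G := (hG.eq_one_or_self_of_dvd r h1).resolve_left hr.ne_one
    refine hle (le_of_le_of_eq le_top ?_)
    exact (Subgroup.card_eq_iff_eq_top _).1 (hS.trans h2) |>.symm
  set C := Subgroup.centralizer (S : Set G) with hC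
  obtain ⟨t, ht, htd⟩ : ∃ t : ℕ, t.Prime ∧ t ∣ (S : Subgroup G).relIndex C :=
    Nat.exists_prime_and_dvd fun h => hle (Subgroup.relIndex_eq_one.1 h)
  have hmul : Nat.card (S : Subgroup G) * (S : Subgroup G).relIndex C = Nat.card C :=
    by rw [Subgroup.relIndex, ← Nat.card_congr (Subgroup.subgroupOfEquivOfLe hSC).toEquiv,
      Subgroup.card_mul_index]
  have hne : t ≠ r := by
    rintro rfl
    have h1 : t * t ∣ Nat.card G := (mul_dvd_mul hS.symm.dvd htd).trans
      (hmul.dvd.trans (Subgroup.card_subgroup_dvd_card _))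
    rw [← pow_two, hr.pow_dvd_iff_le_factorization hG0, hrn] at h1
    omega
  have htC : t ∣ Nat.card C := (dvd_mul_left t _).trans ((mul_dvd_mul_left _ htd).trans hmul.dvd)
  haveI : Fact t.Prime := ⟨ht⟩
  obtain ⟨x, hx⟩ := exists_prime_orderOf_dvd_card' (G := C) t htC
  obtain ⟨u, hu⟩ := exists_prime_orderOf_dvd_card' (G := (S : Subgroup G)) r (by rw [hS])
  rw [← Subgroup.orderOf_coe] at hx hu
  have hcomm : Commute (x : G) (u : G) := (Subgroup.mem_centralizer_iff.1 x.2 u u.2).symm
  have hy : orderOf ((x : G) * (u : G)) = t * r := by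
    rw [hcomm.orderOf_mul_eq_mul_orderOf_of_coprime (by rw [hx, hu]; exact (Nat.coprime_primes ht hr).2 hne),
      hx, hu]
  have htG : t ∣ p ^ a * q ^ b * r := hcard ▸ htC.trans (Subgroup.card_subgroup_dvd_card _)
  have htr : ¬ t ∣ r := fun h => hne ((Nat.prime_dvd_prime_iff_eq ht hr).1 h)
  rcases ht.dvd_mul.1 ((ht.dvd_mul.1 htG).resolve_right htr) with h | h
  · have e := (Nat.prime_dvd_prime_iff_eq ht hp).1 (ht.dvd_of_dvd_pow h)
    exact no_element hna hp hq hr hqr hpr hcard (y := (x : G) * (u : G))
      (by rw [hy, e]; exact dvd_mul_right p r) (by rw [hy]; exact dvd_mul_left r t)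
  · have e := (Nat.prime_dvd_prime_iff_eq ht hq).1 (ht.dvd_of_dvd_pow h)
    exact no_element (a := b) (b := a) hna hq hp hr hpr hqr (by rw [hcard]; ring)
      (y := (x : G) * (u : G))
      (by rw [hy, e]; exact dvd_mul_right q r) (by rw [hy]; exact dvd_mul_left r t)

end Cfsg.Agent.S0904
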