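import Cfsg.Statements.S1001
import Cfsg.Agent.S0904
import Cfsg.Agent.Lib.CharTheory.Burnside

set_option autoImplicit false
open Cfsg

namespace Cfsg.Agent.S1001

/-- In a finite simple group whose order has the form p * 3^a * 2^b with p prime, the centralizer of any element of order p is the cyclic group it generates. -/
theorem result {G : Type*} [Group G] [Finite G] [IsSimpleGroup G] (p a b : ℕ) (hp : p.Prime) (hG : Nat.card G = p * 3 ^ a * 2 ^ b) (x : G) (hx : orderOf x = p) : Subgroup.centralizer ({x} : Set G) = Subgroup.zpowers x := by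
  classical
  haveI : Fact p.Prime := ⟨hp⟩
  have hsub : Subgroup.zpowers x ≤ Subgroup.centralizer ({x} : Set G) :=
    Subgroup.zpowers_le.2 (Subgroup.mem_centralizer_singleton_iff.2 rfl)
  have hcardx : Nat.card (Subgroup.zpowers x) = p := by rw [Nat.card_zpowers, hx]
  by_cases h23 : p = 2 ∨ p = 3
  · have hsolv : Group.IsSolvable G := by
      rcases h23 with rfl | rfl
      · exact CfsgLib.CharTheory.isSolvable_of_card_two_primes (p := 2) (q := 3) (a := b + 1) (b := a)
          Nat.prime_two Nat.prime_three (by rw [hG, pow_succ]; ring)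
      · exact CfsgLib.CharTheory.isSolvable_of_card_two_primes (p := 2) (q := 3) (a := b) (b := a + 1)
          Nat.prime_two Nat.prime_three (by rw [hG, pow_succ]; ring)
    haveI := hsolv
    have hab := IsSimpleGroup.comm_iff_isSolvable.2 hsolv
    letI : CommGroup G := { (inferInstance : Group G) with mul_comm := hab }
    have hP := IsSimpleGroup.prime_card (α := G)
    have htop : Subgroup.zpowers x = ⊤ := by
      apply Subgroup.eq_top_of_card_eq
      rw [hcardx]
      exact (hP.eq_one_or_self_of_dvd p (hx ▸ orderOf_dvd_natCard x)).resolve_left hp.ne_one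
    exact le_antisymm (htop ▸ le_top) hsub
  · rw [not_or] at h23
    have hcard : Nat.card G = 2 ^ b * 3 ^ a * p := by rw [hG]; ring
    have hfac : (Nat.card G).factorization p = 1 := by
      rw [hcard, Nat.factorization_mul (mul_ne_zero (pow_ne_zero _ two_ne_zero)
        (pow_ne_zero _ three_ne_zero)) hp.ne_zero, Finsupp.add_apply,
        Nat.factorization_mul (pow_ne_zero _ two_ne_zero) (pow_ne_zero _ three_ne_zero),
        Finsupp.add_apply, Nat.prime_two.factorization_pow, Nat.prime_three.factorization_pow,
        Finsupp.single_apply, if_neg (Ne.symm h23.1), Finsupp.single_apply, if_neg (Ne.symm h23.2),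
        hp.factorization_self, zero_add, zero_add]
    let S : Sylow p G := Sylow.ofCard (Subgroup.zpowers x) (by rw [hcardx, hfac, pow_one])
    have hS : (S : Subgroup G) = Subgroup.zpowers x := rfl
    have h := Cfsg.Agent.S0904.result 2 3 p b a Nat.prime_two Nat.prime_three (by norm_num)
      (Ne.symm h23.1) (Ne.symm h23.2) hcard S
    rw [hS] at h
    refine le_antisymm ?_ hsub
    intro y hy
    rw [← h, Subgroup.mem_centralizer_iff]
    intro z hz
    obtain ⟨k, rfl⟩ := Subgroup.mem_zpowers_iff.1 hz
    have hc : Commute x y := (Subgroup.mem_centralizer_singleton_iff.1 hy).symm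
    exact hc.zpow_left k

end Cfsg.Agent.S1001
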