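import Cfsg.Statements.S3225
import Mathlib

set_option autoImplicit false
open Cfsg

namespace Cfsg.Agent.S3225



/-- Let G be a finite group of even order with no subgroup of index 2, S a Sylow 2-subgroup of G and M a subgroup of index 2 in S such that, for some n ≥ 1, every element of S outside M has order greater than 2^(n−1). Then every element of S of order 2ⁿ is conjugate in G to an element of M. -/
theorem result {G : Type*} [Group G] [Finite G] (hev : Even (Nat.card G))
    (hG : ∀ H : Subgroup G, H.index ≠ 2) (S : Sylow 2 G) (M : Subgroup G) (hMS : M ≤ (S : Subgroup G)) (hM : M.relIndex (S : Subgroup G) = 2)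
    (n : ℕ) (hn : 1 ≤ n) (hord : ∀ y ∈ (S : Subgroup G), y ∉ M → 2 ^ (n - 1) < orderOf y)
    (x : G) (hx : x ∈ (S : Subgroup G)) (hxn : orderOf x = 2 ^ n) :
    ∃ g : G, g * x * g⁻¹ ∈ M := by
  classical
  obtain ⟨P, hP⟩ : ∃ P : Sylow 2 G, P = S := ⟨S, rfl⟩
  subst hP
  by_contra hconj
  push Not at hconj
  set PG : Subgroup G := (P : Subgroup G) with hPG
  have hQ2 : (M.subgroupOf PG).index = 2 := hM
  let ψ : PG →* ℤˣ :=
    { toFun := fun x => if x ∈ M.subgroupOf PG then 1 else -1
      map_one' := by simp [one_mem]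
      map_mul' := fun a b => by
        have h := Subgroup.mul_mem_iff_of_index_two hQ2 (a := a) (b := b)
        by_cases ha : a ∈ M.subgroupOf PG <;> by_cases hb : b ∈ M.subgroupOf PG <;>
          simp [ha, hb, h] }
  let V : G →* ℤˣ := MonoidHom.transfer ψ
  haveI : Fintype (Quotient (MulAction.orbitRel (Subgroup.zpowers x) (G ⧸ PG))) := Fintype.ofFinite _
  haveI : Fintype (G ⧸ PG) := Fintype.ofFinite _
  have hxp : x ^ 2 ^ n = 1 := hxn ▸ pow_orderOf_eq_one x
  have hm : ∀ q : G ⧸ PG, ∃ i ≤ n, Function.minimalPeriod (x • ·) q = 2 ^ i := by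
    intro q
    refine (Nat.dvd_prime_pow Nat.prime_two).mp (Function.IsPeriodicPt.minimalPeriod_dvd ?_)
    show (fun y : G ⧸ PG => x • y)^[2 ^ n] q = q
    rw [smul_iterate, hxp]
    exact one_smul G q
  have hV : V x = (-1) ^ PG.index := by
    rw [Subgroup.index_eq_sum_minimalPeriod PG x, ← Finset.prod_pow_eq_pow_sum]
    show MonoidHom.transfer ψ x = _
    rw [MonoidHom.transfer_eq_prod_quotient_orbitRel_zpowers_quot]
    refine Finset.prod_congr rfl fun q _ => ?_
    have hval : ∀ (m : ℕ) (g₀ : G) (hmem : g₀⁻¹ * x ^ m * g₀ ∈ PG), (∃ i ≤ n, m = 2 ^ i) →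
        ψ ⟨g₀⁻¹ * x ^ m * g₀, hmem⟩ = (-1) ^ m := by
      rintro m g₀ hmem ⟨i, hin, rfl⟩
      rcases Nat.eq_zero_or_pos i with rfl | hi
      · refine (if_neg fun h => hconj g₀⁻¹ ?_).trans (by norm_num)
        rw [Subgroup.mem_subgroupOf] at h
        simpa using h
      · refine (if_pos ?_).trans (Even.neg_one_pow ((Nat.even_pow.mpr ⟨even_two, by omega⟩))).symm
        rw [Subgroup.mem_subgroupOf]
        by_contra hnot
        have h1 := hord _ hmem hnot
        have h2 : orderOf (g₀⁻¹ * x ^ 2 ^ i * g₀) ∣ 2 ^ (n - 1) := by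
          apply orderOf_dvd_of_pow_eq_one
          rw [show g₀⁻¹ * x ^ 2 ^ i * g₀ = g₀⁻¹ * x ^ 2 ^ i * g₀⁻¹⁻¹ by group, conj_pow, ← pow_mul, ← pow_add,
            orderOf_dvd_iff_pow_eq_one.mp (hxn ▸ pow_dvd_pow 2 (by omega : n ≤ i + (n - 1)))]
          group
        exact absurd (Nat.le_of_dvd (by positivity) h2) (not_le.mpr h1)
    exact hval _ _ _ (hm q.out)
  have hodd : Odd PG.index := by
    rw [Nat.odd_iff, ← Nat.two_dvd_ne_zero]
    exact P.not_dvd_index
  rw [hodd.neg_one_pow] at hV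
  refine hG V.ker ?_
  rw [Subgroup.index_ker]
  have htop : V.range = ⊤ := by
    rw [eq_top_iff]
    intro u _
    rcases Int.units_eq_one_or u with rfl | rfl
    · exact one_mem _
    · exact ⟨x, hV⟩
  rw [htop, Subgroup.card_top, Nat.card_eq_fintype_card, Fintype.card_units_int]

end Cfsg.Agent.S3225
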