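import Cfsg.Statements.S3309
import Mathlib
import Cfsg.Agent.Lib.TransferExtremal

set_option autoImplicit false
open Cfsg

namespace Cfsg.Agent.S3309

abbrev D := Multiplicative (ZMod 2) × DihedralGroup 4

theorem comm_checked : ∀ a b : D, a * b * a⁻¹ * b⁻¹ = 1 ∨ a * b * a⁻¹ * b⁻¹ = (1, DihedralGroup.r 2) := by decide +kernel

theorem center_checked : ∀ w : D, w.1 = 1 → w ^ 2 = 1 → (∀ d : D, w * d = d * w) → w = 1 ∨ w = (1, DihedralGroup.r 2) := by
  decide +kernel

theorem t_central : ∀ d : D, ((Multiplicative.ofAdd 1, 1) : D) * d = d * (Multiplicative.ofAdd 1, 1) := by decide +kernel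

theorem facts : ((Multiplicative.ofAdd 1, 1) : D) ≠ 1 ∧ ((Multiplicative.ofAdd 1, 1) : D) ^ 2 = 1 ∧
    ((Multiplicative.ofAdd 1, 1) : D) ≠ (1, DihedralGroup.r 2) ∧
    ((1, DihedralGroup.r 2) : D) = (1, DihedralGroup.r 1) * (1, DihedralGroup.sr 0) * ((1, DihedralGroup.r 1) : D)⁻¹ * ((1, DihedralGroup.sr 0) : D)⁻¹ ∧
    ((1, DihedralGroup.r 2) : D) ≠ 1 := by
  decide +kernel

theorem main {G : Type*} [Group G] [Finite G] (S : Sylow 2 G) (e : ↥(S : Subgroup G) ≃* D)
    [IsSimpleGroup G] (hG : ¬ IsMulCommutative G) : False := by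
  classical
  have hno : ∀ M : Subgroup G, M.Normal → M.index ≠ 2 := by
    intro M hM hi
    rcases hM.eq_bot_or_eq_top with rfl | rfl
    · rw [Subgroup.index_bot] at hi
      haveI : Fact (Nat.Prime 2) := ⟨Nat.prime_two⟩
      haveI := isCyclic_of_prime_card hi
      exact hG ⟨⟨IsCyclic.commGroup.mul_comm⟩⟩
    · rw [Subgroup.index_top] at hi; omega
  obtain ⟨ht1, ht2, htz, hz, hz1⟩ := facts
  set P : Subgroup G := (S : Subgroup G) with hP
  let f : ↥P →* Multiplicative (ZMod 2) := (MonoidHom.fst _ _).comp e.toMonoidHom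
  let Q : Subgroup G := f.ker.map P.subtype
  have hQP : Q ≤ P := Subgroup.map_subtype_le _
  have hQi : Q.relIndex P = 2 := by
    rw [Subgroup.relIndex, Subgroup.subgroupOf, Subgroup.comap_map_eq_self_of_injective P.subtype_injective,
      Subgroup.index_ker, MonoidHom.range_eq_top.mpr, Subgroup.card_top]
    · simp
    · intro c
      exact ⟨e.symm (c, 1), by simp [f]⟩
  set u : ↥P := e.symm (Multiplicative.ofAdd 1, 1) with hu
  have hu2 : (u : G) ^ 2 = 1 := by
    have : u ^ 2 = 1 := e.injective (by rw [map_pow, hu, e.apply_symm_apply, ht2, map_one])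
    simpa using congrArg Subtype.val this
  have hucen : ∀ s : ↥P, u * s = s * u := fun s => e.injective (by
    rw [map_mul, map_mul, hu, e.apply_symm_apply]; exact t_central _)
  obtain ⟨g, hgQ, hgC⟩ := CfsgLib.TransferExtremal.exists_conj hno S Q hQP hQi (u : G) hu2
  obtain ⟨v, hv, hve⟩ := hgQ
  have hPu : P ≤ Subgroup.centralizer ({(u : G)} : Set G) := fun s hs =>
    Subgroup.mem_centralizer_singleton_iff.mpr (congrArg Subtype.val (hucen ⟨s, hs⟩)).symm
  have hPv : P ≤ Subgroup.centralizer ({g * (u : G) * g⁻¹} : Set G) := by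
    rw [inf_eq_right.mpr hPu] at hgC
    intro s hs
    exact ((Subgroup.eq_of_le_of_card_ge inf_le_right hgC).ge hs : s ∈ _ ⊓ P).1
  have hve' : (v : G) = g * (u : G) * g⁻¹ := hve
  have hvcen : ∀ s : ↥P, v * s = s * v := fun s => Subtype.ext (by
    have := Subgroup.mem_centralizer_singleton_iff.mp (hPv s.2)
    rw [← hve'] at this
    exact this.symm)
  have hv1 : v ≠ 1 := by
    intro h
    apply ht1
    rw [h, Subgroup.coe_one, eq_comm, conj_eq_one_iff] at hve'
    rw [← e.apply_symm_apply (Multiplicative.ofAdd 1, 1), ← hu, show u = 1 from Subtype.ext hve', map_one]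
  have hev : e v = (1, DihedralGroup.r 2) := by
    refine (center_checked (e v) (MonoidHom.mem_ker.mp hv) ?_ fun d => ?_).resolve_left fun h => hv1 (e.injective (h.trans (map_one e).symm))
    · have : v ^ 2 = 1 := Subtype.ext (by rw [Subgroup.coe_pow, hve', conj_pow, hu2]; simp)
      rw [← map_pow, this, map_one]
    · rw [← e.apply_symm_apply d, ← map_mul, ← map_mul, hvcen]
  haveI : Fact (Nat.Prime 2) := ⟨Nat.prime_two⟩
  obtain ⟨n, hn, hne⟩ := S.conj_eq_normalizer_conj_of_mem_centralizer (v : G) g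
    (Subgroup.mem_centralizer_iff.mpr fun s hs => (congrArg Subtype.val (hvcen ⟨s, hs⟩)).symm)
    (by
      rw [hve', show g⁻¹ * (g * (u : G) * g⁻¹) * g = (u : G) by group]
      exact Subgroup.mem_centralizer_iff.mpr fun s hs => (congrArg Subtype.val (hucen ⟨s, hs⟩)).symm)
  have hun : (u : G) = n⁻¹ * (v : G) * n := by
    rw [← hne, hve']; group
  have hn' : ∀ s : ↥P, n⁻¹ * (s : G) * n ∈ P := fun s => by
    have := (Subgroup.mem_normalizer_iff.mp (Subgroup.inv_mem _ hn) (s : G)).mp s.2
    simpa using this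
  -- `v` is a commutator in the Sylow subgroup
  set a : ↥P := e.symm (1, DihedralGroup.r 1)
  set b : ↥P := e.symm (1, DihedralGroup.sr 0)
  have hvab : v = a * b * a⁻¹ * b⁻¹ := e.injective (by
    rw [map_mul, map_mul, map_mul, map_inv, map_inv, e.apply_symm_apply, e.apply_symm_apply, hev]; exact hz)
  have hu' : u = (⟨_, hn' a⟩ : ↥P) * ⟨_, hn' b⟩ * (⟨_, hn' a⟩ : ↥P)⁻¹ * (⟨_, hn' b⟩ : ↥P)⁻¹ := Subtype.ext (by
    rw [hun, hvab]
    simp only [Subgroup.coe_mul, Subgroup.coe_inv]
    group)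
  have := congrArg e hu'
  rw [map_mul, map_mul, map_mul, map_inv, map_inv, hu, e.apply_symm_apply] at this
  rcases comm_checked (e ⟨_, hn' a⟩) (e ⟨_, hn' b⟩) with h | h <;> rw [h] at this
  · exact ht1 this
  · exact htz this

/-- A finite group whose Sylow 2-subgroups are isomorphic to the direct product of a group of order 2 and the dihedral group of order 8 is not a non-abelian simple group. -/
theorem result {G : Type*} [Group G] [Finite G] (S : Sylow 2 G) (hS : Nonempty (↥(S : Subgroup G) ≃* Multiplicative (ZMod 2) × DihedralGroup 4))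
    [IsSimpleGroup G] (hG : ¬ IsMulCommutative G) : False := by
  obtain ⟨e⟩ := hS
  exact main S e hG

end Cfsg.Agent.S3309
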