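import Cfsg.Statements.S0743
import Mathlib
import Cfsg.Agent.Lib.Perm.Fixing
-- import your own Cfsg.Agent.* helpers here

set_option autoImplicit false
open Cfsg

namespace Cfsg.Agent.S0743

/-- Gleason's Lemma: let `p` be a prime and `1 ≤ k < n`; if every `k`-subset of the `n` points is exactly the fixed-point set of some `p`-subgroup of `G`, then `G` is `k`-transitive. -/
theorem result {α : Type*} [Fintype α] [DecidableEq α] (G : Subgroup (Equiv.Perm α)) {p k : ℕ} (hp : p.Prime) (hk : 1 ≤ k) (hkn : k < Fintype.card α) (h : ∀ s : Finset α, s.card = k → ∃ P : Subgroup G, IsPGroup p P ∧ MulAction.fixedPoints P α = (s : Set α)) : MulAction.IsMultiplyPretransitive G α k := by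
  classical
  have := Fact.mk hp
  refine CfsgLib.PermFixing.isMultiplyPretransitive_of_fixTrans fun j hj =>
    CfsgLib.PermFixing.fixTrans_of_le (k := k - 1) (by omega) (by omega) ?_
  intro r hr x y hx hy
  set H := fixingSubgroup G (r : Set α) with hH
  obtain ⟨g, hg⟩ := CfsgLib.PermFixing.gleason (G := H) (S := {a | a ∉ r}) (d := p)
    (fun g a ha hga => ha (by
      replace hga : (g : G) • a ∈ r := hga
      have h1 : (g : G) • ((g : G) • a) = (g : G) • a := (mem_fixingSubgroup_iff G).mp g.2 _ hga
      rwa [smul_left_cancel _ h1] at hga))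
    hp.ne_one (fun z hz => by
      obtain ⟨P, hP, hfix⟩ := h (insert z r) (by rw [Finset.card_insert_of_notMem hz, hr]; omega)
      have hPH : P ≤ H := fun q hq => (mem_fixingSubgroup_iff G).mpr fun w hw => by
        have h1 : w ∈ MulAction.fixedPoints P α := hfix ▸ Finset.mem_coe.mpr (Finset.mem_insert_of_mem hw)
        exact h1 ⟨q, hq⟩
      refine ⟨P.subgroupOf H, fun q hq => ?_, fun T hTS hzT hT => ?_⟩
      · have h1 : z ∈ MulAction.fixedPoints P α := hfix ▸ Finset.mem_coe.mpr (Finset.mem_insert_self z r)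
        exact h1 ⟨_, hq⟩
      refine CfsgLib.PermFixing.dvd_ncard_of_orbits _ T hT fun t ht => ?_
      have hQ : IsPGroup p (P.subgroupOf H) := hP.of_equiv (Subgroup.subgroupOfEquivOfLe hPH).symm
      obtain ⟨i, hi⟩ := hQ.card_orbit t
      rw [← Nat.card_coe_set_eq, hi]
      refine dvd_pow_self p fun e => ?_
      rw [e, pow_zero, Nat.card_coe_set_eq] at hi
      obtain ⟨w, hw⟩ := Set.ncard_eq_one.mp hi
      have hall : ∀ q : P.subgroupOf H, q • t = t := fun q => by
        have h1 : q • t ∈ ({w} : Set α) := hw ▸ MulAction.mem_orbit t q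
        have h2 : t ∈ ({w} : Set α) := hw ▸ MulAction.mem_orbit_self t
        rw [Set.mem_singleton_iff] at h1 h2
        rw [h1, h2]
      have h3 : t ∈ MulAction.fixedPoints P α := fun q => hall ⟨⟨q, hPH q.2⟩, q.2⟩
      rw [hfix, Finset.mem_coe, Finset.mem_insert] at h3
      rcases h3 with rfl | h3
      · exact hzT ht
      · exact hTS ht h3) (show x ∈ {a | a ∉ r} from hx) (show y ∈ {a | a ∉ r} from hy)
  exact ⟨(g : G), fun z hz => (mem_fixingSubgroup_iff G).mp g.2 z hz, hg⟩

end Cfsg.Agent.S0743
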