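import Cfsg.Statements.S0736
import Mathlib
-- import your own Cfsg.Agent.* helpers here

set_option autoImplicit false
open Cfsg
open scoped Pointwise

namespace Cfsg.Agent.S0736

theorem not_dvd_choose {p : ℕ} [Fact p.Prime] : ∀ e k : ℕ, p ^ e ∣ k → ¬ p ∣ Nat.choose (k + p ^ e - 1) (p ^ e - 1) := by
  intro e
  induction e with
  | zero => intro k _; simpa using (Fact.out : p.Prime).not_dvd_one
  | succ e ih =>
    intro k hk h
    have hp : p.Prime := Fact.out
    obtain ⟨m, rfl⟩ := dvd_trans (dvd_pow_self p e.succ_ne_zero) hk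
    rw [pow_succ'] at hk
    have hm : p ^ e ∣ m := Nat.dvd_of_mul_dvd_mul_left hp.pos hk
    have hpe : 1 ≤ p ^ e := Nat.one_le_pow _ _ hp.pos
    have key : ∀ N, 1 ≤ N → (p * N - 1) % p = p - 1 ∧ (p * N - 1) / p = N - 1 := by
      intro N hN
      obtain ⟨j, rfl⟩ := Nat.exists_eq_add_of_le hN
      have e1 : p * (1 + j) - 1 = (p - 1) + p * j := by rw [mul_add, mul_one]; have := hp.pos; omega
      have hlt : p - 1 < p := Nat.sub_lt hp.pos one_pos
      rw [e1, Nat.add_mul_mod_self_left, Nat.add_mul_div_left _ _ hp.pos, Nat.mod_eq_of_lt hlt,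
        Nat.div_eq_of_lt hlt]
      omega
    have hc := Choose.choose_modEq_choose_mod_mul_choose_div_nat (p := p) (n := p * m + p ^ (e + 1) - 1) (k := p ^ (e + 1) - 1)
    rw [pow_succ', ← mul_add, (key _ hpe).1, (key _ hpe).2, (key _ (by omega)).1, (key _ (by omega)).2,
      Nat.choose_self, one_mul] at hc
    rw [pow_succ', ← mul_add] at h
    exact ih m hm (by simpa [Nat.ModEq, Nat.dvd_iff_mod_eq_zero, Nat.dvd_iff_mod_eq_zero.mp h] using hc.symm)

/-- A `k`-homogeneous permutation group of degree `n`, `k ≥ 2`, with `k + q - 1 ≤ n` for every prime power `q` dividing `k`, is `(k-1)`-homogeneous. -/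
theorem result {α : Type*} [Fintype α] [DecidableEq α] (G : Subgroup (Equiv.Perm α)) {k : ℕ} (hk : 2 ≤ k) (hG : MulAction.IsPretransitive G (Set.powersetCard α k)) (hq : ∀ q : ℕ, IsPrimePow q → q ∣ k → k + q - 1 ≤ Fintype.card α) : MulAction.IsPretransitive G (Set.powersetCard α (k - 1)) := by
  classical
  let n := Fintype.card α
  refine ⟨fun s t => ?_⟩
  set O : Finset (Finset α) := Finset.univ.filter (fun T => ∃ g : G, g • (s : Finset α) = T) with hO
  suffices hmem : (t : Finset α) ∈ O by
    obtain ⟨g, hg⟩ := (Finset.mem_filter.mp hmem).2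
    exact ⟨g, Subtype.ext hg⟩
  have hs : (s : Finset α).card = k - 1 := s.prop
  have ht : (t : Finset α).card = k - 1 := t.prop
  have hOcard : ∀ T ∈ O, T.card = k - 1 := fun T hT => by
    obtain ⟨g, rfl⟩ := (Finset.mem_filter.mp hT).2
    rw [Finset.card_smul_finset, hs]
  have hsO : (s : Finset α) ∈ O := Finset.mem_filter.mpr ⟨Finset.mem_univ _, 1, one_smul _ _⟩
  have hinv : ∀ (g : G), ∀ T ∈ O, g • T ∈ O := fun g T hT => by
    obtain ⟨g', rfl⟩ := (Finset.mem_filter.mp hT).2
    exact Finset.mem_filter.mpr ⟨Finset.mem_univ _, g * g', mul_smul _ _ _⟩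
  have hle : k - 1 ≤ n := hs ▸ Finset.card_le_univ _
  rcases Nat.lt_or_ge n k with hnk | hnk
  · have e1 : (s : Finset α) = Finset.univ := Finset.eq_univ_of_card _ (by omega)
    have e2 : (t : Finset α) = Finset.univ := Finset.eq_univ_of_card _ (by omega)
    rwa [e2, ← e1]
  obtain ⟨S₀, hS₀s, hS₀⟩ := Finset.exists_superset_card_eq (s := (s : Finset α)) (n := k) (by omega) hnk
  let cnt : Finset α → ℕ := fun S => (O.filter (fun T => T ⊆ S)).card
  have hconst : ∀ S : Finset α, S.card = k → cnt S = cnt S₀ := by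
    have hle2 : ∀ S S' : Finset α, S.card = k → S'.card = k → cnt S ≤ cnt S' := by
      intro S S' h1 h2
      obtain ⟨g, hg⟩ := hG.exists_smul_eq (Set.powersetCard.ofCard h1) (Set.powersetCard.ofCard h2)
      have hg' : g • S = S' := congrArg Subtype.val hg
      refine Finset.card_le_card_of_injOn (fun T => g • T) (fun T hT => ?_) (fun T _ T' _ e => smul_left_cancel g e)
      obtain ⟨hTO, hTS⟩ := Finset.mem_filter.mp hT
      exact Finset.mem_filter.mpr ⟨hinv g T hTO, hg' ▸ Finset.smul_finset_subset_smul_finset hTS⟩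
    exact fun S hS => le_antisymm (hle2 S S₀ hS hS₀) (hle2 S₀ S hS₀ hS)
  have hpos : 0 < cnt S₀ := Finset.card_pos.mpr ⟨_, Finset.mem_filter.mpr ⟨hsO, hS₀s⟩⟩
  have hsub : ∀ S : Finset α, S.card = k → O.filter (fun T => T ⊆ S) ⊆ Finset.powersetCard (k - 1) S := fun S _ T hT => by
    obtain ⟨hTO, hTS⟩ := Finset.mem_filter.mp hT
    exact Finset.mem_powersetCard.mpr ⟨hTS, hOcard T hTO⟩
  have hdvd : k ∣ cnt S₀ := by
    refine (Nat.dvd_iff_prime_pow_dvd_dvd (cnt S₀) k).mpr fun p e hp hpe => ?_
    rcases Nat.eq_zero_or_pos e with rfl | he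
    · simp
    haveI : Fact p.Prime := ⟨hp⟩
    set q := p ^ e with hqdef
    have hq1 : 1 ≤ q := Nat.one_le_pow _ _ hp.pos
    have hqn := hq q ⟨p, e, hp.prime, he, rfl⟩ hpe
    obtain ⟨Y, -, hY⟩ := Finset.exists_superset_card_eq (s := (∅ : Finset α)) (n := k + q - 1) (by simp) hqn
    set m := (O.filter (fun T => T ⊆ Y)).card with hm
    have hcount : (k + q - 1).choose k * cnt S₀ = m * q := by
      have h1 : ∑ S ∈ Finset.powersetCard k Y, cnt S = (k + q - 1).choose k * cnt S₀ := by
        rw [Finset.sum_congr rfl fun S hS => hconst S (Finset.mem_powersetCard.mp hS).2, Finset.sum_const,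
          Finset.card_powersetCard, hY, smul_eq_mul]
      rw [← h1]
      show ∑ S ∈ Finset.powersetCard k Y, (O.bipartiteAbove (fun S T => T ⊆ S) S).card = _
      rw [Finset.sum_card_bipartiteAbove_eq_sum_card_bipartiteBelow, hm, ← smul_eq_mul, ← Finset.sum_const,
        ← Finset.sum_filter_add_sum_filter_not O (fun T => T ⊆ Y)]
      rw [Finset.sum_eq_zero (s := O.filter fun T => ¬ T ⊆ Y) (fun T hT => ?_), add_zero]
      · refine Finset.sum_congr rfl fun T hT => ?_
        obtain ⟨hTO, hTY⟩ := Finset.mem_filter.mp hT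
        have hTc := hOcard T hTO
        have : (Finset.powersetCard k Y).bipartiteBelow (fun S T => T ⊆ S) T = (Y \ T).image (fun x => insert x T) := by
          ext S
          simp only [Finset.bipartiteBelow, Finset.mem_filter, Finset.mem_powersetCard, Finset.mem_image, Finset.mem_sdiff]
          constructor
          · rintro ⟨⟨hSY, hSc⟩, hTS⟩
            obtain ⟨x, hx⟩ := Finset.card_eq_one.mp (by rw [Finset.card_sdiff_of_subset hTS]; omega : (S \ T).card = 1)
            have hxm := Finset.mem_sdiff.mp (hx.symm ▸ Finset.mem_singleton_self x)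
            exact ⟨x, ⟨hSY hxm.1, hxm.2⟩, by rw [Finset.insert_eq, ← hx, Finset.sdiff_union_of_subset hTS]⟩
          · rintro ⟨x, ⟨hxY, hxT⟩, rfl⟩
            exact ⟨⟨Finset.insert_subset hxY hTY, by rw [Finset.card_insert_of_notMem hxT]; omega⟩, Finset.subset_insert _ _⟩
        rw [this, Finset.card_image_of_injOn, Finset.card_sdiff_of_subset hTY, hY, hTc]
        · omega
        · intro x hx z hz e
          exact ((Finset.insert_inj (Finset.mem_sdiff.mp hx).2).mp e)
      · rw [Finset.card_eq_zero, Finset.bipartiteBelow, Finset.filter_eq_empty_iff]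
        exact fun S hS hTS => (Finset.mem_filter.mp hT).2 (hTS.trans (Finset.mem_powersetCard.mp hS).1)
    have hnd : ¬ p ∣ (k + q - 1).choose k := by
      rw [Nat.choose_symm_of_eq_add (show k + q - 1 = k + (q - 1) by omega)]
      exact not_dvd_choose e k hpe
    exact ((hp.coprime_iff_not_dvd.mpr hnd).pow_left e).dvd_of_dvd_mul_left (hcount ▸ dvd_mul_left q m)
  obtain ⟨S, htS, hS⟩ := Finset.exists_superset_card_eq (s := (t : Finset α)) (n := k) (by omega) hnk
  have hc : (Finset.powersetCard (k - 1) S).card = k := by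
    rw [Finset.card_powersetCard, hS, Nat.choose_symm (by omega : 1 ≤ k), Nat.choose_one_right]
  have heq := Finset.eq_of_subset_of_card_le (hsub S hS) (by
    rw [hc]
    calc k ≤ cnt S₀ := Nat.le_of_dvd hpos hdvd
      _ = _ := (hconst S hS).symm)
  have : (t : Finset α) ∈ O.filter (fun T => T ⊆ S) := heq ▸ Finset.mem_powersetCard.mpr ⟨htS, ht⟩
  exact (Finset.mem_filter.mp this).1

end Cfsg.Agent.S0736
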