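import Cfsg.Statements.S0744
import Mathlib
import Cfsg.Agent.Lib.Perm.Fixing
-- import your own Cfsg.Agent.* helpers here

set_option autoImplicit false
open Cfsg

namespace Cfsg.Agent.S0744

/-- If for some `k > 1` the pointwise stabilisers of all `(k-1)`-subsets have the same order `> 1` and those of all `k`-subsets have the same order, then the group is `(k-1)`-transitive. -/
theorem result {α : Type*} [Fintype α] [DecidableEq α] (G : Subgroup (Equiv.Perm α)) {k : ℕ} (hk : 1 < k) (hkn : k ≤ Fintype.card α) (l m : ℕ) (hl : 1 < l) (hkm1 : ∀ s : Finset α, s.card = k - 1 → Nat.card (fixingSubgroup G (s : Set α)) = l) (hkm : ∀ s : Finset α, s.card = k → Nat.card (fixingSubgroup G (s : Set α)) = m) : MulAction.IsMultiplyPretransitive G α (k - 1) := by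
  classical
  refine CfsgLib.PermFixing.isMultiplyPretransitive_of_fixTrans fun j hj =>
    CfsgLib.PermFixing.fixTrans_of_le (k := k - 2) (by omega) (by omega) ?_
  intro r hr x y hx hy
  set H := fixingSubgroup G (r : Set α) with hH
  have hml : m ≠ l := by
    intro e
    obtain ⟨s, -, hs⟩ := Finset.exists_subset_card_eq (s := (Finset.univ : Finset α)) (n := k - 1) (by rw [Finset.card_univ]; omega)
    have hall : ∀ g ∈ fixingSubgroup G (s : Set α), g = 1 := by
      intro g hg
      refine Subtype.ext (Equiv.ext fun z => ?_)
      by_cases hz : z ∈ s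
      · exact (mem_fixingSubgroup_iff G).mp hg z hz
      have hle : fixingSubgroup G ((insert z s : Finset α) : Set α) ≤ fixingSubgroup G (s : Set α) :=
        fun q hq => (mem_fixingSubgroup_iff G).mpr fun w hw => (mem_fixingSubgroup_iff G).mp hq w (Finset.mem_coe.mpr (Finset.mem_insert_of_mem (Finset.mem_coe.mp hw)))
      have heq := Subgroup.eq_of_le_of_card_ge hle
        (by rw [hkm1 s hs, hkm _ (by rw [Finset.card_insert_of_notMem hz, hs]; omega), e])
      rw [← heq] at hg
      exact (mem_fixingSubgroup_iff G).mp hg z (by simp)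
    have h1 : fixingSubgroup G (s : Set α) = ⊥ := (Subgroup.eq_bot_iff_forall _).mpr hall
    have h2 := hkm1 s hs
    rw [h1, Subgroup.card_bot] at h2
    omega
  have hm0 : 0 < m := by
    obtain ⟨s, -, hs⟩ := Finset.exists_subset_card_eq (s := (Finset.univ : Finset α)) (n := k) (by rw [Finset.card_univ]; omega)
    rw [← hkm s hs]
    exact Nat.card_pos
  have hdvd : m ∣ l := by
    obtain ⟨s, -, hs⟩ := Finset.exists_subset_card_eq (s := (Finset.univ : Finset α)) (n := k) (by rw [Finset.card_univ]; omega)
    obtain ⟨t, hts, ht⟩ := Finset.exists_subset_card_eq (s := s) (n := k - 1) (by omega)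
    rw [← hkm s hs, ← hkm1 t ht]
    exact Subgroup.card_dvd_of_le fun q hq => (mem_fixingSubgroup_iff G).mpr fun w hw =>
      (mem_fixingSubgroup_iff G).mp hq w (hts hw)
  obtain ⟨g, hg⟩ := CfsgLib.PermFixing.gleason (G := H) (S := {a | a ∉ r}) (d := l / m)
    (fun g a ha hga => ha (by
      replace hga : (g : G) • a ∈ r := hga
      have h1 : (g : G) • ((g : G) • a) = (g : G) • a := (mem_fixingSubgroup_iff G).mp g.2 _ hga
      rwa [smul_left_cancel _ h1] at hga))
    (fun e => hml (by have := Nat.eq_mul_of_div_eq_right hdvd e; simpa using this.symm)) (fun z hz => by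
      set P := fixingSubgroup G ((insert z r : Finset α) : Set α) with hP
      have hPH : P ≤ H := fun q hq => (mem_fixingSubgroup_iff G).mpr fun w hw =>
        (mem_fixingSubgroup_iff G).mp hq w (Finset.mem_coe.mpr (Finset.mem_insert_of_mem (Finset.mem_coe.mp hw)))
      refine ⟨P.subgroupOf H, fun q hq => (mem_fixingSubgroup_iff G).mp (show (q : G) ∈ P from hq) z (by simp),
        fun T hTS hzT hT => CfsgLib.PermFixing.dvd_ncard_of_orbits _ T hT fun t ht => ?_⟩
      have htr : t ∉ insert z r := by
        simp only [Finset.mem_insert, not_or]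
        exact ⟨fun e => hzT (e ▸ ht), hTS ht⟩
      have hzc : (insert z r).card = k - 1 := by rw [Finset.card_insert_of_notMem hz, hr]; omega
      have hst : MulAction.stabilizer (P.subgroupOf H) t =
          ((fixingSubgroup G ((insert t (insert z r) : Finset α) : Set α)).subgroupOf H).subgroupOf (P.subgroupOf H) := by
        ext q
        simp only [MulAction.mem_stabilizer_iff, Subgroup.mem_subgroupOf]
        rw [mem_fixingSubgroup_iff]
        constructor
        · intro hq w hw
          rw [Finset.mem_coe, Finset.mem_insert] at hw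
          rcases hw with rfl | hw
          · exact hq
          · exact (mem_fixingSubgroup_iff G).mp (show ((q : H) : G) ∈ P from q.2) w hw
        · intro hq
          exact hq t (by simp)
      have h2 := MulAction.index_stabilizer (P.subgroupOf H) t
      have h3 : (MulAction.stabilizer (P.subgroupOf H) t).index * m = l := by
        have hle : fixingSubgroup G ((insert t (insert z r) : Finset α) : Set α) ≤ P := fun q hq =>
          (mem_fixingSubgroup_iff G).mpr fun w hw => (mem_fixingSubgroup_iff G).mp hq w (Finset.mem_coe.mpr (Finset.mem_insert_of_mem (Finset.mem_coe.mp hw)))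
        rw [← hkm1 _ hzc, ← hP, ← hkm _ (show (insert t (insert z r)).card = k by
          rw [Finset.card_insert_of_notMem htr, hzc]; omega), mul_comm]
        have h4 := Subgroup.card_mul_index (MulAction.stabilizer (P.subgroupOf H) t)
        rw [hst, Nat.card_congr (Subgroup.subgroupOfEquivOfLe
            (show (fixingSubgroup G ((insert t (insert z r) : Finset α) : Set α)).subgroupOf H ≤ P.subgroupOf H from fun q hq => hle hq)).toEquiv,
          Nat.card_congr (Subgroup.subgroupOfEquivOfLe (hle.trans hPH)).toEquiv,
          Nat.card_congr (Subgroup.subgroupOfEquivOfLe hPH).toEquiv] at h4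
        rw [hst]
        exact h4
      rw [← h2, ← h3, Nat.mul_div_cancel _ hm0]) (show x ∈ {a | a ∉ r} from hx) (show y ∈ {a | a ∉ r} from hy)
  exact ⟨(g : G), fun z hz => (mem_fixingSubgroup_iff G).mp g.2 z hz, hg⟩

end Cfsg.Agent.S0744
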