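import Cfsg.Statements.S4487
import Cfsg.Agent.Lib.Blocks.InducedChar
import Cfsg.Agent.Lib.Basic

set_option autoImplicit false
open Cfsg CfsgLib.CharTheory CfsgLib.Blocks CfsgLib.Blocks.BlockBasics CfsgLib.Blocks.InducedChar
open scoped ComplexConjugate

set_option linter.unusedVariables false

namespace Cfsg.Agent.S4487

/-- Let G be a finite group and p a prime such that G has no non-trivial normal subgroup of order prime to p and C_G(O_p(G)) ≤ O_p(G). Then G has a single p-block: any two irreducible characters lie in the same block relative to every maximal ideal M of the algebraic integers containing p. -/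
theorem result {G : Type*} [Group G] [Finite G] (p : ℕ) [Fact p.Prime] (M : Ideal Cfsg.AlgInt) (hM : Cfsg.IsPModular p M) (hcore : Cfsg.pPrimeCore p G = ⊥) (hconstr : Subgroup.centralizer ((Cfsg.pCore p G) : Set G) ≤ Cfsg.pCore p G) (χ ψ : Cfsg.IrrCharacter G) : Cfsg.SameBlock M (χ : G → ℂ) (ψ : G → ℂ) := by
  classical
  haveI := Fintype.ofFinite G
  haveI : Fact p.Prime := inferInstance
  have hp := (Fact.out : p.Prime)
  set Q := Cfsg.pCore p G with hQ
  haveI hQn : Q.Normal := inferInstance
  have hQp : IsPGroup p Q := CfsgLib.isPGroup_pCore p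
  have hone : ∀ g : G, ¬ p ∣ orderOf g → g ∈ Subgroup.centralizer (Q : Set G) → g = 1 := by
    intro g hg hgC
    obtain ⟨k, hk⟩ := IsPGroup.iff_orderOf.1 hQp ⟨g, hconstr hgC⟩
    rw [Subgroup.orderOf_mk] at hk
    rcases k with _ | k
    · exact orderOf_eq_one_iff.1 (by simpa using hk)
    · exact absurd (hk ▸ dvd_pow_self p (Nat.succ_ne_zero k)) hg
  set a := (Nat.card G).factorization p with ha
  have hfull : ∀ B : Set (IrrCharacter G), IsPBlock M B → a ≤ blockDefect p B := by
    intro B hB
    obtain ⟨g, hg⟩ := exists_defectClass hM hB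
    have hg1 := hone g (isDefectClass_regular hM hB hg) (mem_centralizer_normal hM hB hQp hg.2.1)
    subst hg1
    obtain ⟨S⟩ := (inferInstance : Nonempty (Sylow p (Subgroup.centralizer ({(1 : G)} : Set G))))
    have h1 := card_defectGroup hM hB ⟨1, hg, S, rfl⟩
    rw [Subgroup.card_map_of_injective (Subgroup.subtype_injective _), Sylow.card_eq_multiplicity S,
      show Subgroup.centralizer ({(1 : G)} : Set G) = ⊤ from eq_top_iff.2 fun x _ =>
        Subgroup.mem_centralizer_singleton_iff.2 (by simp), Subgroup.card_top] at h1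
    exact ((Nat.pow_right_injective hp.two_le) h1).le
  have h := card_blocks_le_classes (G := G) hM a
  have h1 : Nat.card {C : ConjClasses G // ∃ g : G, ConjClasses.mk g = C ∧ IsPRegular p g ∧
      a ≤ (Nat.card (Subgroup.centralizer ({g} : Set G))).factorization p} ≤ 1 := by
    rw [Finite.card_le_one_iff_subsingleton]
    refine ⟨fun C D => Subtype.ext ?_⟩
    have key : ∀ g : G, IsPRegular p g →
        a ≤ (Nat.card (Subgroup.centralizer ({g} : Set G))).factorization p → g = 1 := by
      intro g hg hd
      obtain ⟨S⟩ := (inferInstance : Nonempty (Sylow p (Subgroup.centralizer ({g} : Set G))))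
      obtain ⟨T, hT⟩ := (S.2.map (Subgroup.centralizer ({g} : Set G)).subtype).exists_le_sylow
      have heq : (S : Subgroup _).map (Subgroup.centralizer ({g} : Set G)).subtype = (T : Subgroup G) := by
        refine Subgroup.eq_of_le_of_card_ge hT ?_
        rw [Subgroup.card_map_of_injective (Subgroup.subtype_injective _),
          Sylow.card_eq_multiplicity S, Sylow.card_eq_multiplicity T]
        exact Nat.pow_le_pow_right hp.pos hd
      refine hone g hg (Subgroup.mem_centralizer_iff.2 fun u hu => ?_)
      have huT : u ∈ (T : Subgroup G) := by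
        obtain ⟨T0, hT0⟩ := hQp.exists_le_sylow
        obtain ⟨c, hc⟩ := MulAction.exists_smul_eq G T0 T
        rw [← hc, Sylow.coe_subgroup_smul]
        refine ⟨c⁻¹ * u * c, hT0 ?_, show c * (c⁻¹ * u * c) * c⁻¹ = u by group⟩
        simpa using hQn.conj_mem u hu c⁻¹
      rw [← heq] at huT
      obtain ⟨w, -, rfl⟩ := huT
      exact Subgroup.mem_centralizer_singleton_iff.1 w.2
    obtain ⟨g, hg, hgr, hgd⟩ := C.2
    obtain ⟨g', hg', hgr', hgd'⟩ := D.2
    rw [← hg, ← hg', key g hgr hgd, key g' hgr' hgd']
  have h2 := h.trans h1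
  rw [Finite.card_le_one_iff_subsingleton] at h2
  have h3 := @Subsingleton.elim _ h2 ⟨blockOf M (χ : G → ℂ), blockOf_isPBlock χ, hfull _ (blockOf_isPBlock χ)⟩
    ⟨blockOf M (ψ : G → ℂ), blockOf_isPBlock ψ, hfull _ (blockOf_isPBlock ψ)⟩
  have h4 : ψ ∈ blockOf M (χ : G → ℂ) := by
    have e : blockOf M (χ : G → ℂ) = blockOf M (ψ : G → ℂ) := congrArg Subtype.val h3
    rw [e]; exact mem_blockOf_self hM ψ
  exact h4

end Cfsg.Agent.S4487
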