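import Cfsg.Statements.S0188
import Cfsg.Agent.Lib.CharTheory
import Cfsg.Agent.Lib.CharTheory.Clifford
-- import your own Cfsg.Agent.* helpers here

set_option autoImplicit false
open Cfsg

namespace Cfsg.Agent.S0188

open CfsgLib.CharTheory
open scoped ComplexConjugate

/-- The irreducible complex characters of G × H are precisely the functions (g, h) ↦ φ g * ψ h with φ, ψ irreducible characters of G and H. -/
theorem result {G : Type*} [Group G] [Finite G] {H : Type*} [Group H] [Finite H] (θ : G × H → ℂ) : Cfsg.IsIrrCharacter (G × H) θ ↔ ∃ (φ : G → ℂ) (ψ : H → ℂ), Cfsg.IsIrrCharacter G φ ∧ Cfsg.IsIrrCharacter H ψ ∧ θ = fun x => φ x.1 * ψ x.2 := by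
  classical
  have := Fintype.ofFinite G
  have := Fintype.ofFinite H
  have hpos : ∀ {φ : G → ℂ} {ψ : H → ℂ}, Cfsg.IsIrrCharacter G φ → Cfsg.IsIrrCharacter H ψ →
      Cfsg.IsCharacter (G × H) (fun x => φ x.1 * ψ x.2) := fun hφ hψ =>
    isCharacter_mul (isCharacter_comp (isCharacter_of_irr hφ) (MonoidHom.fst G H))
      (isCharacter_comp (isCharacter_of_irr hψ) (MonoidHom.snd G H))
  have hinner : ∀ (φ φ' : G → ℂ) (ψ ψ' : H → ℂ),
      Cfsg.classInner (fun x : G × H => φ x.1 * ψ x.2) (fun x => φ' x.1 * ψ' x.2) =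
        Cfsg.classInner φ φ' * Cfsg.classInner ψ ψ' := by
    intro φ φ' ψ ψ'
    simp only [Cfsg.classInner, Nat.card_prod, Nat.cast_mul, mul_inv, map_mul, Fintype.sum_prod_type]
    rw [mul_mul_mul_comm, Finset.sum_mul_sum]
    congr 1
    exact Finset.sum_congr rfl fun a _ => Finset.sum_congr rfl fun b _ => by ring
  have hirr : ∀ {φ : G → ℂ} {ψ : H → ℂ}, Cfsg.IsIrrCharacter G φ → Cfsg.IsIrrCharacter H ψ →
      Cfsg.IsIrrCharacter (G × H) (fun x => φ x.1 * ψ x.2) := fun hφ hψ =>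
    irr_of_char_norm_one (hpos hφ hψ)
      (by rw [hinner, classInner_irr_self hφ, classInner_irr_self hψ, one_mul])
  refine ⟨fun hθ => ?_, fun ⟨φ, ψ, hφ, hψ, e⟩ => e ▸ hirr hφ hψ⟩
  by_contra hno
  push Not at hno
  refine irr_ne_zero hθ ?_
  have hcf := isClassFunction_irr hθ
  have horth : ∀ φ ψ, Cfsg.IsIrrCharacter G φ → Cfsg.IsIrrCharacter H ψ →
      Cfsg.classInner θ (fun x => φ x.1 * ψ x.2) = 0 := fun φ ψ hφ hψ =>
    classInner_irr_ne hθ (hirr hφ hψ) (hno φ ψ hφ hψ)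
  have hcoef : ∀ ψ, Cfsg.IsIrrCharacter H ψ →
      (fun a : G => Cfsg.classInner (fun b : H => θ (a, b)) ψ) = 0 := by
    intro ψ hψ
    refine eq_zero_of_orthogonal (fun a k => ?_) fun φ hφ => ?_
    · show Cfsg.classInner (fun b : H => θ (k * a * k⁻¹, b)) ψ = _
      congr 1
      funext b
      simpa using hcf (a, b) (k, 1)
    · rw [← horth φ ψ hφ hψ]
      simp only [Cfsg.classInner, Nat.card_prod, Nat.cast_mul, mul_inv, map_mul, Fintype.sum_prod_type]
      rw [Finset.mul_sum, Finset.mul_sum]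
      refine Finset.sum_congr rfl fun a _ => ?_
      rw [Finset.mul_sum, Finset.sum_mul, Finset.mul_sum, Finset.mul_sum]
      exact Finset.sum_congr rfl fun b _ => by ring
  have h0 : (fun b : H => θ (1, b)) = 0 :=
    eq_zero_of_orthogonal (fun b k => by simpa using hcf (1, b) (1, k))
      fun ψ hψ => congrFun (hcoef ψ hψ) 1
  exact congrFun h0 1

end Cfsg.Agent.S0188
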