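import Cfsg.Statements.S3707
import Mathlib

set_option autoImplicit false
open Cfsg

namespace Cfsg.Agent.S3707

open scoped Pointwise

variable {G Ω : Type*} [Group G] [MulAction G Ω]

/-- a set on which its pointwise complement stabiliser is transitive -/
def JSet (G : Type*) [Group G] {Ω : Type*} [MulAction G Ω] (Γ : Set Ω) : Prop :=
  ∀ x ∈ Γ, ∀ y ∈ Γ, ∃ g : G, (∀ z ∉ Γ, g • z = z) ∧ g • x = y

theorem JSet.translate {Γ : Set Ω} (h : JSet G Γ) (t : G) : JSet G (t • Γ) := by
  intro x hx y hy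
  rw [Set.mem_smul_set_iff_inv_smul_mem] at hx hy
  obtain ⟨g, hg, hgx⟩ := h _ hx _ hy
  refine ⟨t * g * t⁻¹, fun z hz => ?_, ?_⟩
  · rw [Set.mem_smul_set_iff_inv_smul_mem] at hz
    rw [mul_smul, mul_smul, hg _ hz, smul_inv_smul]
  · rw [mul_smul, mul_smul, hgx, smul_inv_smul]

theorem JSet.fixing_transitive {Γ s : Set Ω} (h : JSet G Γ) (hs : s = Γᶜ) :
    MulAction.IsPretransitive (fixingSubgroup G s) (SubMulAction.ofFixingSubgroup G s) := by
  subst hs
  constructor
  rintro ⟨x, hx⟩ ⟨y, hy⟩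
  obtain ⟨g, hg, hgx⟩ := h x (not_not.1 hx) y (not_not.1 hy)
  exact ⟨⟨g, (mem_fixingSubgroup_iff G).2 fun z hz => hg z hz⟩, Subtype.ext hgx⟩

/-- Counting in the family of translates: the point stabiliser of a two-transitive group with a Jordan set
of at most half the points is primitive. -/
theorem stab_prim [Finite Ω] (h2 : MulAction.IsMultiplyPretransitive G Ω 2) (Γ : Set Ω) (h1 : 1 < Γ.ncard)
    (hm : 2 * Γ.ncard ≤ Nat.card Ω) (hJ : JSet G Γ) (a : Ω) :
    MulAction.IsPreprimitive (MulAction.stabilizer G a) (SubMulAction.ofStabilizer G a) := by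
  classical
  haveI := Fintype.ofFinite Ω
  have h2' : ∀ {a b c d : Ω}, a ≠ b → c ≠ d → ∃ g : G, g • a = c ∧ g • b = d :=
    fun {a b c d} hab hcd => MulAction.is_two_pretransitive_iff.1 h2 hab hcd
  haveI : MulAction.IsPretransitive G Ω := by
    haveI := h2
    exact MulAction.isPretransitive_of_is_two_pretransitive
  haveI hSt : MulAction.IsPretransitive (MulAction.stabilizer G a) (SubMulAction.ofStabilizer G a) := by
    constructor
    rintro ⟨x, hx⟩ ⟨y, hy⟩
    obtain ⟨g, hga, hgx⟩ := h2' (Ne.symm hx : a ≠ x) (Ne.symm hy : a ≠ y)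
    exact ⟨⟨g, hga⟩, Subtype.ext hgx⟩
  refine { isTrivialBlock_of_isBlock := fun {B} hB => ?_ }
  by_contra hnt
  simp only [MulAction.IsTrivialBlock, not_or] at hnt
  obtain ⟨hBns, hBu⟩ := hnt
  set C : Set Ω := Subtype.val '' B with hC
  have hCa : a ∉ C := by rintro ⟨⟨x, hx⟩, -, h⟩; exact hx h
  have hCB : C.ncard = B.ncard := Set.ncard_image_of_injective _ Subtype.val_injective
  obtain ⟨⟨c, hca⟩, hc⟩ : B.Nonempty := by
    by_contra h
    exact hBns (by rw [Set.not_nonempty_iff_eq_empty.1 h]; exact Set.subsingleton_empty)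
  have hca' : c ≠ a := hca
  have hcC : c ∈ C := ⟨_, hc, rfl⟩
  set n := Nat.card Ω
  have hXcard : Nat.card (SubMulAction.ofStabilizer G a) = n - 1 := by
    have h := (Nat.card_coe_set_eq ({a}ᶜ : Set Ω))
    rw [Set.ncard_compl, Set.ncard_singleton] at h
    exact h
  have hhalf : 2 * C.ncard ≤ n - 1 := by
    rw [hCB, ← hXcard]
    obtain ⟨k, hk⟩ := hB.ncard_dvd_card ⟨_, hc⟩
    have hlt : B.ncard < Nat.card (SubMulAction.ofStabilizer G a) := by
      rw [← Set.ncard_univ]
      exact Set.ncard_lt_ncard (Set.ssubset_univ_iff.2 hBu)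
    rcases k with _ | _ | k
    · omega
    · omega
    · rw [hk]
      exact (Nat.mul_comm 2 _).trans_le (Nat.mul_le_mul_left _ (by omega))
  -- the translates
  set 𝒯 : Finset (Set Ω) := (Set.range fun g : G => g • Γ).toFinset
  have hmem : ∀ {T}, T ∈ 𝒯 ↔ ∃ g : G, g • Γ = T := by intro T; simp [𝒯]
  have hsize : ∀ T ∈ 𝒯, T.ncard = Γ.ncard := by
    intro T hT
    obtain ⟨g, rfl⟩ := hmem.1 hT
    exact Set.ncard_image_of_injective _ (MulAction.injective g)
  have hJT : ∀ T ∈ 𝒯, JSet G T := by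
    intro T hT
    obtain ⟨g, rfl⟩ := hmem.1 hT
    exact hJ.translate g
  -- a translate avoiding `a` which meets the block is nested with it
  have hnest : ∀ T ∈ 𝒯, a ∉ T → c ∈ T → T ⊆ C ∨ C ⊆ T := by
    intro T hT haT hcT
    by_cases h : C ⊆ T
    · exact Or.inr h
    left
    obtain ⟨w, hwC, hwT⟩ := Set.not_subset.1 h
    intro z hz
    obtain ⟨g, hg, hgc⟩ := hJT T hT c hcT z hz
    let g' : MulAction.stabilizer G a := ⟨g, hg a haT⟩
    obtain ⟨w', hw', rfl⟩ := hwC
    have he : g' • B = B := hB.smul_eq_of_mem hw' (by rw [show g' • w' = w' from Subtype.ext (hg _ hwT)]; exact hw')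
    have hmem' : g' • (⟨c, hca⟩ : SubMulAction.ofStabilizer G a) ∈ B := by
      rw [← he]; exact Set.smul_mem_smul_set hc
    exact ⟨_, hmem', hgc⟩
  let cnt : Ω → Ω → Finset (Set Ω) := fun x y => 𝒯.filter fun T => x ∈ T ∧ y ∈ T
  have himg : ∀ (g : G) x y, (cnt x y).card ≤ (cnt (g • x) (g • y)).card := by
    intro g x y
    refine Finset.card_le_card_of_injOn (fun T => g • T) (fun T hT => ?_) (fun T _ U _ h => smul_left_cancel g h)
    simp only [cnt, Finset.coe_filter, Set.mem_ofPred_eq] at hT ⊢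
    obtain ⟨u, rfl⟩ := hmem.1 hT.1
    exact ⟨hmem.2 ⟨g * u, mul_smul g u Γ⟩, Set.smul_mem_smul_set hT.2.1, Set.smul_mem_smul_set hT.2.2⟩
  have hlam : ∀ x y, x ≠ y → (cnt x y).card = (cnt a c).card := by
    intro x y hxy
    obtain ⟨g, hga, hgc⟩ := h2' (Ne.symm hca') hxy
    obtain ⟨u, hux, huy⟩ := h2' hxy (Ne.symm hca')
    refine le_antisymm ?_ ?_
    · have := himg u x y; rwa [hux, huy] at this
    · have := himg g a c; rwa [hga, hgc] at this
  set lam := (cnt a c).card
  -- there is a translate through `a` and `c`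
  have hlam0 : 0 < lam := by
    obtain ⟨x, hx, y, hy, hxy⟩ := (Set.one_lt_ncard (Set.toFinite Γ)).1 h1
    rw [← hlam x y hxy]
    exact Finset.card_pos.2 ⟨Γ, Finset.mem_filter.2 ⟨hmem.2 ⟨1, one_smul _ _⟩, hx, hy⟩⟩
  -- double count the translates through `c`
  set r := (𝒯.filter fun T => c ∈ T).card
  have hcount : r * (Γ.ncard - 1) = lam * (n - 1) := by
    have e1 : ∑ T ∈ 𝒯.filter (fun T => c ∈ T), ((Finset.univ.erase c).filter fun x => x ∈ T).card =
        ∑ x ∈ Finset.univ.erase c, (cnt c x).card := by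
      refine (Finset.sum_card_bipartiteAbove_eq_sum_card_bipartiteBelow (fun (T : Set Ω) x => x ∈ T)
        (s := 𝒯.filter fun T => c ∈ T) (t := Finset.univ.erase c)).trans (Finset.sum_congr rfl fun x _ => ?_)
      show ((𝒯.filter fun T => c ∈ T).filter fun T => x ∈ T).card = (cnt c x).card
      rw [Finset.filter_filter]
    have e2 : ∀ T ∈ 𝒯.filter (fun T => c ∈ T), ((Finset.univ.erase c).filter fun x => x ∈ T).card = Γ.ncard - 1 := by
      intro T hT
      rw [Finset.mem_filter] at hT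
      rw [← hsize T hT.1, ← Set.ncard_sdiff_singleton_of_mem hT.2, ← Set.ncard_coe_finset]
      congr 1
      ext x
      simp [and_comm]
    rw [Finset.sum_congr rfl e2, Finset.sum_const, smul_eq_mul] at e1
    rw [e1, Finset.sum_congr rfl (fun x hx => hlam c x (Finset.ne_of_mem_erase hx).symm), Finset.sum_const, smul_eq_mul,
      Finset.card_erase_of_mem (Finset.mem_univ _), Finset.card_univ, ← Nat.card_eq_fintype_card, mul_comm]
  obtain ⟨d, hdC, hdc⟩ : ∃ d ∈ C, d ≠ c := by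
    by_contra h
    simp only [not_exists, not_and, not_not] at h
    exact hBns fun p hp q hq => Subtype.ext ((h _ ⟨p, hp, rfl⟩).trans (h _ ⟨q, hq, rfl⟩).symm)
  rcases Nat.lt_or_ge C.ncard Γ.ncard with hlt | hge
  · have hsub : 𝒯.filter (fun T => c ∈ T) ⊆ cnt c a ∪ cnt c d := by
      intro T hT
      rw [Finset.mem_filter] at hT
      by_cases haT : a ∈ T
      · exact Finset.mem_union_left _ (Finset.mem_filter.2 ⟨hT.1, hT.2, haT⟩)
      · rcases hnest T hT.1 haT hT.2 with h | h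
        · exfalso
          have := Set.ncard_le_ncard h (Set.toFinite _)
          rw [hsize T hT.1] at this
          omega
        · exact Finset.mem_union_right _ (Finset.mem_filter.2 ⟨hT.1, hT.2, h hdC⟩)
    have hr : r ≤ 2 * lam := by
      refine (Finset.card_le_card hsub).trans ((Finset.card_union_le _ _).trans ?_)
      rw [hlam c a hca', hlam c d (Ne.symm hdc)]; omega
    have h3 : lam * (n - 1) ≤ 2 * lam * (Γ.ncard - 1) := hcount ▸ Nat.mul_le_mul_right _ hr
    rw [mul_comm 2 lam, mul_assoc] at h3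
    have := Nat.le_of_mul_le_mul_left h3 hlam0
    omega
  · have hsub : ∀ T ∈ 𝒯, a ∉ T → c ∈ T → T ⊆ C := by
      intro T hT haT hcT
      rcases hnest T hT haT hcT with h | h
      · exact h
      · rw [Set.eq_of_subset_of_ncard_le h (by rw [hsize T hT]; exact hge) (Set.toFinite _)]
    obtain ⟨T₀, hT₀⟩ := Finset.card_pos.1 (hlam0.trans_le (hlam a c (Ne.symm hca')).ge)
    simp only [cnt, Finset.mem_filter] at hT₀
    have hbig : (insert a C)ᶜ ⊆ T₀ \ {c} := by
      intro e he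
      simp only [Set.mem_compl_iff, Set.mem_insert_iff, not_or] at he
      have hec : e ≠ c := fun h => he.2 (h ▸ hcC)
      have hs : cnt c e ⊆ cnt a c := by
        intro T hT
        simp only [cnt, Finset.mem_filter] at hT ⊢
        refine ⟨hT.1, ?_, hT.2.1⟩
        by_contra haT
        exact he.2 (hsub T hT.1 haT hT.2.1 hT.2.2)
      have heq := Finset.eq_of_subset_of_card_le hs (by rw [hlam c e (Ne.symm hec)])
      have hT₀' : T₀ ∈ cnt c e := heq ▸ (Finset.mem_filter.2 hT₀)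
      simp only [cnt, Finset.mem_filter] at hT₀'
      exact ⟨hT₀'.2.2, hec⟩
    have h3 := Set.ncard_le_ncard hbig (Set.toFinite _)
    rw [Set.ncard_compl, Set.ncard_insert_of_notMem hCa, Set.ncard_sdiff_singleton_of_mem hT₀.2.2, hsize T₀ hT₀.1] at h3
    omega


/-- Let G be a finite primitive permutation group on Ω of degree n and Γ ⊂ Ω a subset with 1 < #Γ ≤ n/2 such that the pointwise stabilizer of Ω ∖ Γ is transitive on Γ. Then G is 3-transitive on Ω. -/
theorem result {G Ω : Type*} [Group G] [Finite G] [MulAction G Ω] [FaithfulSMul G Ω] [Finite Ω] (hprim : MulAction.IsPreprimitive G Ω) (Γ : Set Ω) (h1 : 1 < Γ.ncard) (h2 : 2 * Γ.ncard ≤ Nat.card Ω) (htr : ∀ x ∈ Γ, ∀ y ∈ Γ, ∃ g : G, (∀ z ∉ Γ, g • z = z) ∧ g • x = y) : MulAction.IsMultiplyPretransitive G Ω 3 := by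
  classical
  set n := Nat.card Ω
  obtain ⟨k, hk⟩ : ∃ k, Γᶜ.ncard = k + 1 := ⟨Γᶜ.ncard - 1, by rw [Set.ncard_compl]; omega⟩
  have hc : Γᶜ.ncard = n - Γ.ncard := Set.ncard_compl Γ
  have h2t := hprim.is_two_pretransitive hk (by omega) (JSet.fixing_transitive (Γ := Γ) htr rfl)
  haveI : MulAction.IsPretransitive G Ω := hprim.toIsPretransitive
  obtain ⟨a, ha⟩ : (Γᶜ).Nonempty := Set.nonempty_of_ncard_ne_zero (by omega)
  have hp := stab_prim h2t Γ h1 h2 htr a
  let Γ' : Set (SubMulAction.ofStabilizer G a) := Subtype.val ⁻¹' Γ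
  have hΓ' : Γ'.ncard = Γ.ncard := Set.ncard_preimage_of_injective_subset_range Subtype.val_injective
    (fun x hx => ⟨⟨x, fun h => ha (h ▸ hx)⟩, rfl⟩)
  have hJ' : JSet (MulAction.stabilizer G a) Γ' := by
    intro x hx y hy
    obtain ⟨g, hg, hgx⟩ := htr (x : Ω) hx (y : Ω) hy
    exact ⟨⟨g, hg a ha⟩, fun z hz => Subtype.ext (hg (z : Ω) hz), Subtype.ext hgx⟩
  have hX : Nat.card (SubMulAction.ofStabilizer G a) = n - 1 := by
    have h := (Nat.card_coe_set_eq ({a}ᶜ : Set Ω))
    rw [Set.ncard_compl, Set.ncard_singleton] at h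
    exact h
  have hc' : Γ'ᶜ.ncard = n - 1 - Γ.ncard := by rw [Set.ncard_compl, hΓ', hX]
  obtain ⟨k', hk'⟩ : ∃ k', Γ'ᶜ.ncard = k' + 1 := ⟨Γ'ᶜ.ncard - 1, by omega⟩
  have h3 := hp.is_two_pretransitive hk' (by omega) (hJ'.fixing_transitive rfl)
  exact SubMulAction.ofStabilizer.isMultiplyPretransitive.2 h3

end Cfsg.Agent.S3707
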