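import Cfsg.Statements.S5270
import Cfsg.Agent.Lib.Fusion.Alperin
import Cfsg.Agent.Lib.MaximalClass
-- import your own Cfsg.Agent.* helpers here

set_option autoImplicit false
open Cfsg

open scoped commutatorElement

namespace Cfsg.Agent.S5270

theorem class_le {p : ℕ} [Fact p.Prime] : ∀ (r : ℕ) (Q : Type*) [Group Q] [Finite Q], Nat.card Q = p ^ r → 2 ≤ r →
    Group.nilpotencyClass Q ≤ r - 1 := by
  have hpp : p.Prime := Fact.out
  intro r
  induction r using Nat.strong_induction_on with
  | _ r ih =>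
  intro Q _ _ hQc hr1
  have hQp : IsPGroup p Q := IsPGroup.of_card hQc
  haveI := hQp.isNilpotent
  haveI : Nontrivial Q := by
    rw [← Finite.one_lt_card_iff_nontrivial, hQc]
    exact Nat.one_lt_pow (by omega) hpp.one_lt
  have hZ := hQp.center_nontrivial
  obtain ⟨j, hj⟩ := IsPGroup.iff_card.mp (hQp.to_subgroup (Subgroup.center Q))
  have hj0 : j ≠ 0 := fun e' => by
    have h := Finite.one_lt_card (α := Subgroup.center Q)
    rw [hj, e', pow_zero] at h
    exact lt_irrefl _ h
  obtain ⟨i, hi⟩ := IsPGroup.iff_card.mp (hQp.to_quotient (Subgroup.center Q))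
  have hsum : i + j = r := by
    have h := Subgroup.card_eq_card_quotient_mul_card_subgroup (Subgroup.center Q)
    rw [hQc, hi, hj, ← pow_add] at h
    exact (Nat.pow_right_injective hpp.two_le h).symm
  have hq := Group.nilpotencyClass_quotient_center (G := Q)
  rcases Nat.lt_or_ge i 2 with hi2 | hi2
  · have hcyc : IsCyclic (Q ⧸ Subgroup.center Q) := by
      rcases Nat.le_one_iff_eq_zero_or_eq_one.mp (show i ≤ 1 by omega) with h0 | h0
      · rw [h0, pow_zero] at hi
        haveI := (Nat.card_eq_one_iff_unique.mp hi).1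
        infer_instance
      · exact isCyclic_of_prime_card (p := p) (by rw [hi, h0, pow_one])
    have hab := (QuotientGroup.mk' (Subgroup.center Q)).isMulCommutative_of_isCyclic_of_ker_le_center (QuotientGroup.ker_mk' _).le
    have : Group.nilpotencyClass Q ≤ 1 := by
      rw [← Subgroup.upperCentralSeries_eq_top_iff_nilpotencyClass_le, Subgroup.upperCentralSeries_one, eq_top_iff]
      exact fun g _ => Subgroup.mem_center_iff.mpr fun x => hab.is_comm.comm x g
    omega
  · have := ih i (by omega) (Q ⧸ Subgroup.center Q) hi hi2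
    omega

/-- Let p ≥ 5 be a prime, S a finite p-group of maximal class of order p^n with n ≥ 4, and F a saturated fusion system over S. If some map of F defined on the second centre Z₂(S) with image Z₂(S) does not carry Z(S) into itself, then the centralizer C_S(Z₂(S)) is an F-essential subgroup. -/
theorem result {Ω : Type*} [Group Ω] {S : Subgroup Ω} [Finite S] (p : ℕ) [Fact p.Prime] (hS : IsPGroup p ↥S) (n : ℕ) (hn : Nat.card S = p ^ n) (h4 : 4 ≤ n) (hmax : Subgroup.lowerCentralSeries S (n - 2) ≠ ⊥) (F : Cfsg.FusionSystem S) (hF : F.IsSaturated p) (hp : 5 ≤ p) (φ : ↥((Subgroup.upperCentralSeries ↥S 2).map S.subtype) →* Ω) (hφ : φ ∈ F.Hom ((Subgroup.upperCentralSeries ↥S 2).map S.subtype)) (hφZ : φ.range = ((Subgroup.upperCentralSeries ↥S 2).map S.subtype)) (hmove : ∃ (z : Ω) (hz : z ∈ ((Subgroup.upperCentralSeries ↥S 2).map S.subtype)), z ∈ ((Subgroup.center ↥S).map S.subtype) ∧ φ ⟨z, hz⟩ ∉ ((Subgroup.center ↥S).map S.subtype)) : F.IsEssential p (S ⊓ Subgroup.centralizer (((Subgroup.upperCentralSeries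 ↥S 2).map S.subtype) : Set Ω)) := by
  classical
  have hpp : p.Prime := Fact.out
  haveI : Group.IsNilpotent S := hS.isNilpotent
  have hne' : (⊤ : Subgroup S).lowerCentralSeries (n - 2) ≠ ⊥ := by
    intro e
    apply hmax
    have h := Subgroup.map_lowerCentralSeries (⊤ : Subgroup S) S.subtype (n - 2)
    rw [e, Subgroup.map_bot, ← MonoidHom.range_eq_map, Subgroup.range_subtype] at h
    exact h.symm
  have hge : n - 1 ≤ Group.nilpotencyClass S := by
    by_contra h
    exact hne' (Subgroup.lowerCentralSeries_eq_bot_iff_nilpotencyClass_le.mpr (by omega))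
  have hc : Group.nilpotencyClass S = n - 1 := le_antisymm (class_le n S hn (by omega)) hge
  have hn3 : 3 ≤ n := by omega
  set γ := fun k => (⊤ : Subgroup S).lowerCentralSeries k with hγ
  have hγlast : γ (n - 2) ≠ ⊥ := hne'
  have hidx : ∀ k, 1 ≤ k → k ≤ n - 1 → (γ k).index = p ^ (k + 1) := CfsgLib.MaximalClass.index_lcs hn3 hn hc
  have hcardγ : ∀ k, 1 ≤ k → k ≤ n - 1 → Nat.card (γ k) = p ^ (n - (k + 1)) := by
    intro k hk hk'
    have h := (γ k).card_mul_index
    rw [hidx k hk hk', hn, show p ^ n = p ^ (n - (k + 1)) * p ^ (k + 1) by rw [← pow_add, Nat.sub_add_cancel (show k + 1 ≤ n by omega)]] at h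
    exact Nat.eq_of_mul_eq_mul_right (pow_pos hpp.pos _) h
  -- a normal subgroup is small once a term of the series is missing from it
  have hsmall : ∀ (N : Subgroup S), N.Normal → ∀ a, 2 ≤ a → a ≤ n - 1 → N.index = p ^ a → N = γ (a - 1) :=
    fun N hN a ha _ h => haveI := hN; CfsgLib.MaximalClass.normal_eq_lcs hn3 hn hc N ha h
  let Z := Subgroup.center S
  have hZdef : Z = Subgroup.center S := rfl
  let Z2 := Subgroup.upperCentralSeries S 2
  have hZ2def : Z2 = Subgroup.upperCentralSeries S 2 := rfl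
  have hmem2 : ∀ x, x ∈ Z2 ↔ ∀ y : S, x * y * x⁻¹ * y⁻¹ ∈ Z := by
    intro x
    rw [hZ2def, hZdef, ← Subgroup.upperCentralSeries_one]
    exact Subgroup.mem_upperCentralSeries_succ_iff
  have hlcs : ∀ k, ∀ x ∈ γ k, ∀ y : S, x * y * x⁻¹ * y⁻¹ ∈ γ (k + 1) := by
    intro k x hx y
    show _ ∈ (⊤ : Subgroup S).lowerCentralSeries (k + 1)
    rw [Subgroup.lowerCentralSeries_succ]
    exact Subgroup.commutator_mem_commutator hx (Subgroup.mem_top y)
  have hbotlast : γ (n - 1) = ⊥ := by
    show (⊤ : Subgroup S).lowerCentralSeries (n - 1) = ⊥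
    rw [← hc]; exact Subgroup.lowerCentralSeries_nilpotencyClass
  have hpidx : ∀ N : Subgroup S, ∃ a, a ≤ n ∧ N.index = p ^ a := fun N =>
    (Nat.dvd_prime_pow hpp).mp (hn ▸ N.index_dvd_card)
  -- the centre
  have hZcard : Nat.card Z = p := by
    obtain ⟨a, han, ha⟩ := hpidx Z
    have h1 : a = n - 1 := by
      have hlo : γ (n - 2) ≤ Z := by
        intro x hx
        refine Subgroup.mem_center_iff.mpr fun y => ?_
        have := hlcs (n - 2) x hx y
        rw [show n - 2 + 1 = n - 1 by omega, hbotlast, Subgroup.mem_bot, mul_inv_eq_one, mul_inv_eq_iff_eq_mul] at this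
        exact this.symm
      have h2 : Nat.card (γ (n - 2)) ≤ Nat.card Z := Subgroup.card_le_of_le hlo
      rw [hcardγ (n - 2) (by omega) (by omega), show n - (n - 2 + 1) = 1 by omega, pow_one] at h2
      have h3 := Z.card_mul_index
      rw [ha, hn] at h3
      by_contra hne
      rcases lt_or_ge a 2 with ha2 | ha2
      · have hcyc : IsCyclic (S ⧸ Z) := by
          rcases Nat.le_one_iff_eq_zero_or_eq_one.mp (show a ≤ 1 by omega) with h0 | h0
          · haveI := (Nat.card_eq_one_iff_unique.mp (show Nat.card (S ⧸ Z) = 1 by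
              rw [← Subgroup.index_eq_card, ha, h0, pow_zero])).1
            infer_instance
          · exact isCyclic_of_prime_card (p := p) (by rw [← Subgroup.index_eq_card, ha, h0, pow_one])
        obtain ⟨u, v, huv⟩ := CfsgLib.MaximalClass.exists_noncomm hn3 hn hc
        exact huv (((QuotientGroup.mk' Z).isMulCommutative_of_isCyclic_of_ker_le_center (QuotientGroup.ker_mk' _).le).is_comm.comm u v)
      · have han' : a ≤ n - 2 := by
          by_contra h
          have : a = n := by omega
          rw [this] at h3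
          have := Nat.mul_eq_right (pow_ne_zero n hpp.ne_zero) |>.mp h3
          have := hpp.one_lt
          omega
        have hZeq := hsmall Z inferInstance a ha2 (by omega) ha
        have hsub : γ (n - 3) ≤ Z := hZeq ▸ Subgroup.lowerCentralSeries_antitone _ (show a - 1 ≤ n - 3 by omega)
        apply hγlast
        show (⊤ : Subgroup S).lowerCentralSeries (n - 2) = ⊥
        rw [show n - 2 = n - 3 + 1 by omega, Subgroup.lowerCentralSeries_succ, eq_bot_iff, Subgroup.commutator_le]
        intro x hx y _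
        rw [Subgroup.mem_bot, commutatorElement_eq_one_iff_mul_comm]
        exact (Subgroup.mem_center_iff.mp (hsub hx) y).symm
    have h3 := Z.card_mul_index
    rw [ha, hn, h1, ← Nat.sub_add_cancel (show 1 ≤ n by omega), pow_succ'] at h3
    rw [Nat.add_sub_cancel] at h3
    exact Nat.eq_of_mul_eq_mul_right (pow_pos hpp.pos _) h3
  -- the second centre
  have hZZ2 : Z ≤ Z2 := fun x hx => (hmem2 x).mpr fun y => by
    rw [← Subgroup.mem_center_iff.mp hx y, mul_inv_cancel_right, mul_inv_cancel]
    exact one_mem _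
  have hZ2card : Nat.card Z2 ≤ p ^ 2 := by
    obtain ⟨a, han, ha⟩ := hpidx Z2
    have h3 := Z2.card_mul_index
    rw [ha, hn] at h3
    have : n ≤ a + 2 := by
      by_contra hne
      rcases lt_or_ge a 2 with ha2 | ha2
      · -- `S/Z` has a central subgroup of index at most `p`
        have hcyc : IsCyclic (S ⧸ Z2) := by
          rcases Nat.le_one_iff_eq_zero_or_eq_one.mp (show a ≤ 1 by omega) with h0 | h0
          · haveI := (Nat.card_eq_one_iff_unique.mp (show Nat.card (S ⧸ Z2) = 1 by
              rw [← Subgroup.index_eq_card, ha, h0, pow_zero])).1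
            infer_instance
          · exact isCyclic_of_prime_card (p := p) (by rw [← Subgroup.index_eq_card, ha, h0, pow_one])
        obtain ⟨c, hcg⟩ := hcyc.exists_generator
        obtain ⟨w, rfl⟩ := QuotientGroup.mk'_surjective Z2 c
        haveI : Z.Normal := inferInstance
        have hcomm : ∀ u v : S ⧸ Z, u * v = v * u := by
          intro u v
          obtain ⟨u, rfl⟩ := QuotientGroup.mk'_surjective Z u
          obtain ⟨v, rfl⟩ := QuotientGroup.mk'_surjective Z v
          have hdec : ∀ u : S, ∃ (i : ℤ) (t : S), t ∈ Z2 ∧ u = w ^ i * t := by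
            intro u
            obtain ⟨i, hi⟩ := Subgroup.mem_zpowers_iff.mp (hcg (QuotientGroup.mk' Z2 u))
            rw [← map_zpow] at hi
            exact ⟨i, (w ^ i)⁻¹ * u, QuotientGroup.eq.mp hi, by group⟩
          have hcen : ∀ t ∈ Z2, ∀ s : S ⧸ Z, QuotientGroup.mk' Z t * s = s * QuotientGroup.mk' Z t := by
            intro t ht s
            obtain ⟨s, rfl⟩ := QuotientGroup.mk'_surjective Z s
            rw [← map_mul, ← map_mul]
            refine (QuotientGroup.eq (s := Z)).mpr ?_
            have := Z.inv_mem ((hmem2 t⁻¹).mp (Z2.inv_mem ht) s⁻¹)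
            simpa [mul_assoc] using this
          obtain ⟨i, t, ht, rfl⟩ := hdec u
          obtain ⟨j, t', ht', rfl⟩ := hdec v
          simp only [map_mul, map_zpow]
          calc QuotientGroup.mk' Z w ^ i * QuotientGroup.mk' Z t * (QuotientGroup.mk' Z w ^ j * QuotientGroup.mk' Z t')
              = QuotientGroup.mk' Z w ^ i * (QuotientGroup.mk' Z t * (QuotientGroup.mk' Z w ^ j * QuotientGroup.mk' Z t')) := mul_assoc _ _ _
            _ = QuotientGroup.mk' Z w ^ i * (QuotientGroup.mk' Z w ^ j * QuotientGroup.mk' Z t' * QuotientGroup.mk' Z t) := by rw [hcen t ht]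
            _ = QuotientGroup.mk' Z w ^ i * QuotientGroup.mk' Z w ^ j * (QuotientGroup.mk' Z t' * QuotientGroup.mk' Z t) := by group
            _ = QuotientGroup.mk' Z w ^ j * (QuotientGroup.mk' Z w ^ i * QuotientGroup.mk' Z t') * QuotientGroup.mk' Z t := by
                rw [← zpow_add, add_comm, zpow_add]; group
            _ = _ := by rw [← hcen t' ht']; group
        have h2 : γ 2 ≤ ⊥ := by
          show (⊤ : Subgroup S).lowerCentralSeries 2 ≤ ⊥
          rw [Subgroup.lowerCentralSeries_succ, Subgroup.commutator_le]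
          intro x hx y _
          have hxZ : x ∈ Z := by
            rw [Subgroup.top_lowerCentralSeries_one] at hx
            refine Subgroup.commutator_le.mpr (fun u _ v _ => ?_) hx
            rw [← QuotientGroup.eq_one_iff (N := Z)]
            show QuotientGroup.mk' Z ⁅u, v⁆ = 1
            rw [map_commutatorElement, commutatorElement_eq_one_iff_mul_comm]
            exact hcomm _ _
          rw [Subgroup.mem_bot, commutatorElement_eq_one_iff_mul_comm]
          exact (Subgroup.mem_center_iff.mp hxZ y).symm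
        exact hγlast (le_bot_iff.mp ((Subgroup.lowerCentralSeries_antitone _ (show 2 ≤ n - 2 by omega)).trans h2))
      · have hZ2eq := hsmall Z2 inferInstance a ha2 (by omega) ha
        have hsub : γ (n - 4) ≤ Z2 := hZ2eq ▸ Subgroup.lowerCentralSeries_antitone _ (show a - 1 ≤ n - 4 by omega)
        have h4' : γ (n - 3) ≤ Z := by
          show (⊤ : Subgroup S).lowerCentralSeries (n - 3) ≤ Z
          rw [show n - 3 = n - 4 + 1 by omega, Subgroup.lowerCentralSeries_succ, Subgroup.commutator_le]
          intro x hx y _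
          exact (hmem2 x).mp (hsub hx) y
        have := Subgroup.card_le_of_le h4'
        rw [hcardγ (n - 3) (by omega) (by omega), hZcard, show n - (n - 3 + 1) = 2 by omega] at this
        nlinarith [hpp.two_le]
    have h5 : Nat.card Z2 * p ^ a ≤ p ^ 2 * p ^ a := by
      rw [h3, ← pow_add]
      exact Nat.pow_le_pow_right hpp.pos (by omega)
    exact Nat.le_of_mul_le_mul_right h5 (pow_pos hpp.pos a)
  -- now the statement
  let V := Z2.map S.subtype
  have hVdef : V = Z2.map S.subtype := rfl
  let ZS := Z.map S.subtype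
  have hZSdef : ZS = Z.map S.subtype := rfl
  obtain ⟨z, hz, hzZ, hmoved⟩ := hmove
  have hVS : V ≤ S := Subgroup.map_subtype_le _
  have hlt : Nat.card Z < Nat.card Z2 := by
    refine Nat.lt_of_le_of_ne (Subgroup.card_le_of_le hZZ2) fun e => hmoved ?_
    have e' : Z = Z2 := Subgroup.eq_of_le_of_card_ge hZZ2 e.ge
    show _ ∈ Z.map S.subtype
    rw [e']
    exact hφZ.le ⟨_, rfl⟩
  have hZ2eq : Nat.card Z2 = p ^ 2 := by
    refine le_antisymm hZ2card ?_
    obtain ⟨k, hk⟩ := IsPGroup.iff_card.mp (hS.to_subgroup Z2)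
    rw [hk, hZcard] at hlt
    rw [hk]
    refine Nat.pow_le_pow_right hpp.pos ?_
    by_contra h
    interval_cases k
    · rw [pow_zero] at hlt; have := hpp.one_lt; omega
    · rw [pow_one] at hlt; omega
  obtain ⟨w, hw, hwZ⟩ := SetLike.exists_of_lt (lt_of_le_of_ne hZZ2 fun e => hlt.ne (by rw [e]))
  have hgen : Z2 = Z ⊔ Subgroup.zpowers w := by
    refine (Subgroup.eq_of_le_of_card_ge (sup_le hZZ2 (Subgroup.zpowers_le.mpr hw)) ?_).symm
    obtain ⟨k, hk⟩ := IsPGroup.iff_card.mp (hS.to_subgroup (Z ⊔ Subgroup.zpowers w))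
    have h1 : Nat.card Z < Nat.card (Z ⊔ Subgroup.zpowers w : Subgroup S) := by
      refine lt_of_le_of_ne (Subgroup.card_le_of_le le_sup_left) fun e => hwZ ?_
      rw [Subgroup.eq_of_le_of_card_ge (le_sup_left : Z ≤ Z ⊔ Subgroup.zpowers w) e.ge]
      exact Subgroup.mem_sup_right (Subgroup.mem_zpowers w)
    rw [hZ2eq, hk]
    refine Nat.pow_le_pow_right hpp.pos ?_
    rw [hk, hZcard] at h1
    by_contra h
    interval_cases k
    · rw [pow_zero] at h1; have := hpp.one_lt; omega
    · rw [pow_one] at h1; omega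
  let C := S ⊓ Subgroup.centralizer (V : Set Ω)
  have hCS : C ≤ S := inf_le_left
  -- the index of `C`
  let f : S →* Z :=
    { toFun := fun s => ⟨w * s * w⁻¹ * s⁻¹, (hmem2 w).mp hw s⟩
      map_one' := Subtype.ext (by simp)
      map_mul' := fun s t => by
        apply Subtype.ext
        show w * (s * t) * w⁻¹ * (s * t)⁻¹ = (w * s * w⁻¹ * s⁻¹) * (w * t * w⁻¹ * t⁻¹)
        have h := Subgroup.mem_center_iff.mp ((hmem2 w).mp hw t) (s⁻¹)
        calc w * (s * t) * w⁻¹ * (s * t)⁻¹ = w * s * w⁻¹ * ((w * t * w⁻¹ * t⁻¹) * s⁻¹) := by group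
          _ = w * s * w⁻¹ * (s⁻¹ * (w * t * w⁻¹ * t⁻¹)) := by rw [h]
          _ = _ := by group }
  have hker : C.subgroupOf S = f.ker := by
    ext s
    constructor
    · intro hs
      refine Subtype.ext (Subtype.ext ?_)
      have := Subgroup.mem_centralizer_iff.mp hs.2 _ (⟨w, hw, rfl⟩ : (w : Ω) ∈ V)
      show (w : Ω) * s * (w : Ω)⁻¹ * (s : Ω)⁻¹ = 1
      rw [show (w : Ω) * s = s * w from this]
      show (s : Ω) * w * (w : Ω)⁻¹ * (s : Ω)⁻¹ = 1
      group
    · intro hs
      refine ⟨s.2, Subgroup.mem_centralizer_iff.mpr ?_⟩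
      rintro _ ⟨v, hv, rfl⟩
      have hcw : w * s = s * w := by
        have := congrArg Subtype.val (MonoidHom.mem_ker.mp hs)
        change w * s * w⁻¹ * s⁻¹ = 1 at this
        rwa [mul_inv_eq_one, mul_inv_eq_iff_eq_mul] at this
      have hle2 : Z2 ≤ Subgroup.centralizer {s} := by
        rw [hgen]
        refine sup_le (fun x hx => Subgroup.mem_centralizer_singleton_iff.mpr (Subgroup.mem_center_iff.mp hx s).symm)
          (Subgroup.zpowers_le.mpr (Subgroup.mem_centralizer_singleton_iff.mpr hcw))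
      exact congrArg Subtype.val (Subgroup.mem_centralizer_singleton_iff.mp (hle2 hv))
  have hidxC : (C.subgroupOf S).index ≤ p := by
    rw [hker, Subgroup.index_ker, ← hZcard]
    exact Nat.card_le_card_of_injective _ Subtype.val_injective
  have hCn : S ≤ Subgroup.normalizer (C : Set Ω) := by
    refine (Subgroup.normal_subgroupOf_iff_le_normalizer hCS).mp ?_
    rw [hker]; infer_instance
  have hCfn : F.IsFullyNormalized C := by
    refine ⟨hCS, fun Q hQ => ?_⟩
    rw [show Cfsg.FusionSystem.normalizerIn S C = S from le_antisymm inf_le_left (le_inf le_rfl hCn)]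
    exact Subgroup.card_le_of_le inf_le_left
  have hVfn : F.IsFullyNormalized V := by
    refine ⟨hVS, fun Q hQ => ?_⟩
    rw [show Cfsg.FusionSystem.normalizerIn S V = S from le_antisymm inf_le_left (le_inf le_rfl
      ((Subgroup.normal_subgroupOf_iff_le_normalizer hVS).mp (by
        rw [hVdef, Subgroup.subgroupOf, Subgroup.comap_map_eq_self_of_injective S.subtype_injective]
        infer_instance)))]
    exact Subgroup.card_le_of_le inf_le_left
  have hzC : z ∈ C := by
    obtain ⟨c, hc', rfl⟩ := hzZ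
    refine ⟨c.2, Subgroup.mem_centralizer_iff.mpr ?_⟩
    rintro _ ⟨v, -, rfl⟩
    exact congrArg Subtype.val (Subgroup.mem_center_iff.mp hc' v)
  -- extend `φ` to `C`
  obtain ⟨ψ, hψ, hψe⟩ := (hF.isReceptive_of_isFullyNormalized hS hVfn).2 V φ hφ hφZ
  have hext : C ≤ Cfsg.FusionSystem.extender S V φ := Cfsg.FusionSystem.centralizerIn_le_extender (F.apply_mem hφ)
  have hψC := F.restrict_mem hψ hext
  set ψ' := ψ.comp (Subgroup.inclusion hext) with hψ'
  have hrange : ψ'.range = C := by
    have hle' : ψ'.range ≤ C := by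
      rintro _ ⟨c, rfl⟩
      refine ⟨F.apply_mem hψC c, Subgroup.mem_centralizer_iff.mpr fun v hv => ?_⟩
      obtain ⟨u, rfl⟩ := hφZ.ge hv
      have he : ψ ⟨(u : Ω), Cfsg.FusionSystem.le_extender hVS (F.apply_mem hφ) u.2⟩ = φ u :=
        hψe u u.2 _
      show φ u * ψ ⟨c, hext c.2⟩ = ψ ⟨c, hext c.2⟩ * φ u
      rw [← he, ← map_mul, ← map_mul]
      exact congrArg ψ (Subtype.ext (Subgroup.mem_centralizer_iff.mp c.2.2 u u.2))
    haveI : Finite C := Cfsg.FusionSystem.finite_of_le hCS
    exact Subgroup.eq_of_le_of_card_ge hle'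
      (le_of_eq (Nat.card_congr (MonoidHom.ofInjective (F.injective_of_mem hψC)).toEquiv))
  set β := F.isoOf hψC hrange with hβ
  have hβA : β ∈ F.autGroup C := F.isoOf_mem_autGroup hψC hrange
  have hCne : C ≠ S := by
    intro e
    have hwc : w ∈ Z := Subgroup.mem_center_iff.mpr fun g => Subtype.ext
      (Subgroup.mem_centralizer_iff.mp (e.ge g.2 : (g : Ω) ∈ C).2 _ (⟨w, hw, rfl⟩ : (w : Ω) ∈ V)).symm
    exact hwZ hwc
  have hClt : C < S := lt_of_le_of_ne hCS hCne
  rcases hF.autGroup_eq_or_isEssential hS hClt hCfn with h | h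
  swap
  · exact h.1
  exfalso
  haveI : Finite C := Cfsg.FusionSystem.finite_of_le hCS
  have hfix : ∀ α ∈ Cfsg.FusionSystem.extendableAut F C, ∀ c : C, (c : Ω) ∈ ZS → ((α c : C) : Ω) ∈ ZS := by
    intro α hα
    refine Subgroup.closure_induction
      (p := fun α _ => ∀ c : C, (c : Ω) ∈ ZS → ((α c : C) : Ω) ∈ ZS) ?_ (fun c hc => hc)
      (fun a b _ _ ha hb c hc => ha _ (hb c hc)) ?_ hα
    · rintro α ⟨R, hR, χ, hχ, he⟩ c hc
      have hRS : R = S := by
        refine le_antisymm (F.source_le hχ) ?_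
        rw [← Subgroup.subgroupOf_eq_top, ← Subgroup.index_eq_one]
        have h1 : C.subgroupOf S < R.subgroupOf S := by
          refine lt_of_le_of_ne (fun x hx => hR.le hx) fun e => ?_
          obtain ⟨r, hr, hrC⟩ := SetLike.exists_of_lt hR
          exact hrC (e.ge (show (⟨r, F.source_le hχ hr⟩ : S) ∈ R.subgroupOf S from hr))
        have h2 := Subgroup.index_strictAnti h1
        obtain ⟨a, -, ha⟩ := hpidx (R.subgroupOf S)
        rw [ha] at h2 ⊢
        rcases a with _ | a
        · exact pow_zero p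
        · exfalso
          have : p ≤ p ^ (a + 1) := Nat.le_self_pow (by omega) p
          omega
      subst hRS
      obtain ⟨c0, hc0, hce⟩ := hc
      have hcen : (⟨(c : Ω), hR.le c.2⟩ : R) ∈ Subgroup.center R := by
        rwa [show (⟨(c : Ω), hR.le c.2⟩ : R) = c0 from Subtype.ext hce.symm]
      rw [← he c]
      show χ ⟨c, hR.le c.2⟩ ∈ ZS
      refine ⟨⟨χ ⟨c, hR.le c.2⟩, F.apply_mem hχ _⟩, Subgroup.mem_center_iff.mpr fun g => ?_, rfl⟩
      have hrange' : χ.range = R := Subgroup.eq_of_le_of_card_ge (F.range_le hχ)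
        (le_of_eq (Nat.card_congr (MonoidHom.ofInjective (F.injective_of_mem hχ)).toEquiv))
      obtain ⟨u, hu⟩ := hrange'.ge g.2
      apply Subtype.ext
      show (g : Ω) * χ ⟨c, hR.le c.2⟩ = χ ⟨c, hR.le c.2⟩ * g
      rw [← hu, ← map_mul, ← map_mul]
      exact congrArg χ (Subgroup.mem_center_iff.mp hcen u)
    · intro a _ ha c hc
      let T : Set C := {c : C | (c : Ω) ∈ ZS}
      have hbij : Set.SurjOn a T T :=
        ((Set.toFinite T).injOn_iff_bijOn_of_mapsTo (fun c hc => ha c hc)).mp a.injective.injOn |>.surjOn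
      obtain ⟨d, hd, hde⟩ := hbij hc
      have e : a⁻¹ c = d := by rw [← hde]; exact a.symm_apply_apply d
      rw [e]
      exact hd
  refine hmoved ?_
  have h1 := hfix β (h.ge hβA) ⟨z, hzC⟩ hzZ
  have h2 : ((β ⟨z, hzC⟩ : C) : Ω) = φ ⟨z, hz⟩ :=
    (F.coe_isoOf hψC hrange ⟨z, hzC⟩).trans (hψe z hz _)
  rwa [h2] at h1

end Cfsg.Agent.S5270
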