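import Cfsg.Statements.S5269
import Cfsg.Agent.Lib.MaxClassEssential.Square
import Cfsg.Agent.Lib.MaxClassEssential.IndexP
import Cfsg.Agent.S5270
-- import your own Cfsg.Agent.* helpers here

set_option autoImplicit false
open Cfsg

namespace Cfsg.Agent.S5269

/-- Let p ≥ 5 be a prime, S a finite p-group of maximal class of order p^n with n ≥ 4, F a saturated fusion system over S, and E an F-essential subgroup that is normal in S. Then E has index p in S; moreover E is the two-step centralizer Γ₁ = C_S([S,S]/γ₄(S)) or E = C_S(Z₂(S)), unless S has order p^4 and E is extraspecial of order p³ and exponent p. -/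
theorem result {Ω : Type*} [Group Ω] {S : Subgroup Ω} [Finite S] (p : ℕ) [Fact p.Prime] (hS : IsPGroup p ↥S) (n : ℕ) (hn : Nat.card S = p ^ n) (h4 : 4 ≤ n) (hmax : Subgroup.lowerCentralSeries S (n - 2) ≠ ⊥) (F : Cfsg.FusionSystem S) (hF : F.IsSaturated p) (hp : 5 ≤ p) (Γ₁ : Subgroup Ω) (hΓ₁ : ∀ x : Ω, x ∈ Γ₁ ↔ x ∈ S ∧ ∀ y ∈ Subgroup.lowerCentralSeries S 1, x * y * x⁻¹ * y⁻¹ ∈ Subgroup.lowerCentralSeries S 3) (E : Subgroup Ω) (hE : F.IsEssential p E) (hEn : (E.subgroupOf S).Normal) : (E.subgroupOf S).index = p ∧ (E = Γ₁ ∨ E = (S ⊓ Subgroup.centralizer (((Subgroup.upperCentralSeries ↥S 2).map S.subtype) : Set Ω)) ∨ (n = 4 ∧ Nat.card ↥E = p ^ 3 ∧ Cfsg.IsExtraspecial p ↥E ∧ Monoid.exponent ↥E = p)) := by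
  have hpp : p.Prime := Fact.out
  haveI : Group.IsNilpotent S := hS.isNilpotent
  have hn3 : 3 ≤ n := by omega
  have hne' : (⊤ : Subgroup S).lowerCentralSeries (n - 2) ≠ ⊥ := by
    intro e
    apply hmax
    have h := Subgroup.map_lowerCentralSeries (⊤ : Subgroup S) S.subtype (n - 2)
    rw [e, Subgroup.map_bot, ← MonoidHom.range_eq_map, Subgroup.range_subtype] at h
    exact h.symm
  have hge : n - 1 ≤ Group.nilpotencyClass S := by
    by_contra h
    exact hne' (Subgroup.lowerCentralSeries_eq_bot_iff_nilpotencyClass_le.mpr (by omega))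
  have hc : Group.nilpotencyClass S = n - 1 :=
    le_antisymm (Cfsg.Agent.S5270.class_le n S hn (by omega)) hge
  have hES := hE.1.1
  obtain ⟨r, hrn, hr⟩ := (Nat.dvd_prime_pow hpp).mp (hn ▸ (E.subgroupOf S).index_dvd_card)
  have hr0 : r ≠ 0 := by
    rintro rfl
    rw [pow_zero, Subgroup.index_eq_one, Subgroup.subgroupOf_eq_top] at hr
    exact not_le_of_gt (hE.lt hS hF) hr
  have hr1 : r = 1 := by
    by_contra hne
    have hk : E.subgroupOf S = CfsgLib.PolySeq.fil S r :=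
      CfsgLib.MaximalClass.normal_eq_lcs hn3 hn hc (E.subgroupOf S) (by omega) hr
    let D : CfsgLib.MaxClassEssential.Ctx p S :=
      ⟨n, r, F, E, hp, h4, hn, hc, by omega, hrn, hF, hE, hk⟩
    rcases eq_or_lt_of_le (show 2 ≤ r by omega) with h2 | h3
    · exact D.false_of_eq_two h2.symm
    · exact D.false_of_three h3
  rw [hr1, pow_one] at hr
  refine ⟨hr, ?_⟩
  by_cases hE1 : E.subgroupOf S = CfsgLib.MaxClassGood.twoStep S 2
  · refine Or.inl (SetLike.ext fun x => ?_)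
    rw [hΓ₁]
    constructor
    · intro hx
      exact ⟨hES hx, (CfsgLib.MaxClassEssential.mem_twoStep_two_iff ⟨x, hES hx⟩).mp
        (hE1.le (Subgroup.mem_subgroupOf.mpr hx))⟩
    · rintro ⟨hxS, h⟩
      exact Subgroup.mem_subgroupOf.mp
        (hE1.ge ((CfsgLib.MaxClassEssential.mem_twoStep_two_iff ⟨x, hxS⟩).mpr h))
  by_cases hE2 : E.subgroupOf S = CfsgLib.MaxClassGood.twoStep S (n - 2)
  · refine Or.inr (Or.inl (SetLike.ext fun x => ?_))
    constructor
    · intro hx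
      exact ⟨hES hx, (CfsgLib.MaxClassEssential.mem_last_iff hn3 hn hc h4 ⟨x, hES hx⟩).mp
        (hE2.le (Subgroup.mem_subgroupOf.mpr hx))⟩
    · rintro ⟨hxS, h⟩
      exact Subgroup.mem_subgroupOf.mp
        (hE2.ge ((CfsgLib.MaxClassEssential.mem_last_iff hn3 hn hc h4 ⟨x, hxS⟩).mpr h))
  exact Or.inr (Or.inr (CfsgLib.MaxClassEssential.index_p_case hn3 hn hc h4 (by omega) hF hE hr hE1 hE2))

end Cfsg.Agent.S5269
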