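import Cfsg.Statements.S0132
import Cfsg.Agent.Lib.PComplement
import Cfsg.Agent.Lib.Frobenius.Splitting

set_option autoImplicit false
set_option linter.unusedVariables false
open Cfsg
open scoped commutatorElement

namespace Cfsg.Agent.S0132

/-- A minimal non-p-nilpotent finite group is a minimal non-nilpotent group with a normal Sylow p-subgroup. -/
theorem result {G : Type*} [Group G] [Finite G] {p : ℕ} [Fact p.Prime] (h1 : ¬ Cfsg.HasNormalPComplement p G) (h2 : ∀ H : Subgroup G, H ≠ ⊤ → Cfsg.HasNormalPComplement p H) : (∀ H : Subgroup G, H ≠ ⊤ → Group.IsNilpotent H) ∧ ¬ Group.IsNilpotent G ∧ ∀ P : Sylow p G, (P : Subgroup G).Normal := by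
    obtain ⟨Q, hQ, g, hg, hgp, hgQ⟩ : ∃ Q : Subgroup G, IsPGroup p Q ∧ ∃ g ∈ Subgroup.normalizer (Q : Set G),
        (orderOf g).Coprime p ∧ g ∉ Subgroup.centralizer (Q : Set G) := by
      by_contra hcon
      push Not at hcon
      exact h1 (CfsgLib.hasNormalPComplement_of_frobeniusCond hcon)
    have htop : ∀ H : Subgroup G, Q ≤ H → g ∈ H → H = ⊤ := by
      intro H hQH hgH
      by_contra hH
      have hf := CfsgLib.frobeniusCond_of_hasNormalPComplement (h2 H hH)
      have h3 := hf (Q.subgroupOf H) hQ.comap_subtype ⟨g, hgH⟩ (by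
        rw [Subgroup.mem_normalizer_iff]
        intro x
        exact Subgroup.mem_normalizer_iff.1 hg x) (by rwa [← Subgroup.orderOf_coe])
      exact hgQ fun q hq => congrArg Subtype.val (h3 ⟨q, hQH hq⟩ hq)
    haveI hQn : Q.Normal := Subgroup.normalizer_eq_top_iff.1 (htop _ Subgroup.le_normalizer hg)
    have hgen : Q ⊔ Subgroup.zpowers g = ⊤ :=
      htop _ le_sup_left (Subgroup.mem_sup_right (Subgroup.mem_zpowers g))
    set n := orderOf g
    have hmap : ∀ x : G, ∃ i : ℤ, (QuotientGroup.mk' Q x) = QuotientGroup.mk' Q g ^ i := by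
      intro x
      have hx : x ∈ Q ⊔ Subgroup.zpowers g := by rw [hgen]; exact Subgroup.mem_top x
      rw [← SetLike.mem_coe, Subgroup.normal_mul] at hx
      obtain ⟨q, hq, c, hc, rfl⟩ := hx
      obtain ⟨i, rfl⟩ := Subgroup.mem_zpowers_iff.1 hc
      exact ⟨i, by rw [map_mul, show QuotientGroup.mk' Q q = 1 from (QuotientGroup.eq_one_iff q).2 hq, one_mul, map_zpow]⟩
    haveI hcyc : IsCyclic (G ⧸ Q) := ⟨⟨QuotientGroup.mk' Q g, fun y => by
      obtain ⟨x, rfl⟩ := QuotientGroup.mk'_surjective Q y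
      obtain ⟨i, hi⟩ := hmap x
      exact ⟨i, hi.symm⟩⟩⟩
    have hidx : ∀ x : G, QuotientGroup.mk' Q x ^ n = 1 := by
      intro x
      obtain ⟨i, hi⟩ := hmap x
      rw [hi, ← zpow_natCast, ← zpow_mul, mul_comm, zpow_mul, zpow_natCast, ← map_pow,
        pow_orderOf_eq_one, map_one, one_zpow]
    have hmemQ : ∀ x : G, (∃ k : ℕ, x ^ p ^ k = 1) → x ∈ Q := by
      rintro x ⟨k, hk⟩
      rw [← QuotientGroup.eq_one_iff]
      refine orderOf_eq_one_iff.1 (Nat.eq_one_of_dvd_coprimes ((hgp.pow_right k) : n.Coprime (p ^ k))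
        (orderOf_dvd_of_pow_eq_one (hidx x)) (orderOf_dvd_of_pow_eq_one ?_))
      show (QuotientGroup.mk' Q x) ^ p ^ k = 1
      rw [← map_pow, hk, map_one]
    refine ⟨fun H hH => ?_, fun hnil => ?_, fun P => ?_⟩
    · -- proper subgroups embed into a nilpotent product
      set K := Cfsg.pPrimeCore p ↥H
      set f₁ := QuotientGroup.mk' K
      set f₂ : ↥H →* G ⧸ Q := (QuotientGroup.mk' Q).comp H.subtype
      haveI : Group.IsNilpotent (↥H ⧸ K) :=
        (CfsgLib.isPGroup_quotient_of_hasNormalPComplement (h2 H hH)).isNilpotent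
      haveI : Group.IsNilpotent (G ⧸ Q) := by
        letI := IsCyclic.commGroup (α := G ⧸ Q)
        infer_instance
      haveI : Group.IsNilpotent ((↥H ⧸ K) × (G ⧸ Q)) := inferInstance
      refine Subgroup.isNilpotent_of_ker_le_center (f₁.prod f₂) (fun x hx => ?_)
      suffices hx1 : x = 1 by rw [hx1]; exact Subgroup.one_mem _
      rw [MonoidHom.mem_ker] at hx
      have hxK : x ∈ K := (QuotientGroup.eq_one_iff x).1 (congrArg Prod.fst hx)
      have hxQ : (x : G) ∈ Q := (QuotientGroup.eq_one_iff (x : G)).1 (congrArg Prod.snd hx)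
      obtain ⟨k, hk⟩ := hQ ⟨_, hxQ⟩
      rw [← orderOf_eq_one_iff]
      refine Nat.eq_one_of_dvd_coprimes ((CfsgLib.card_pPrimeCore_coprime (G := ↥H) p).pow_right k)
        (Subgroup.orderOf_dvd_natCard K hxK) ?_
      rw [← Subgroup.orderOf_coe]
      exact orderOf_dvd_of_pow_eq_one (congrArg Subtype.val hk)
    · refine hgQ fun q hq => ?_
      haveI := hnil
      obtain ⟨k, hk⟩ := hQ ⟨q, hq⟩
      exact CfsgLib.Frob.commute_of_nilpotent_coprime (Nat.Coprime.coprime_dvd_left
        (orderOf_dvd_of_pow_eq_one (congrArg Subtype.val hk : q ^ p ^ k = 1)) (hgp.symm.pow_left k))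
    · have hPQ : (P : Subgroup G) ≤ Q := fun x hx => by
        obtain ⟨k, hk⟩ := P.2 ⟨x, hx⟩
        exact hmemQ x ⟨k, congrArg Subtype.val hk⟩
      rw [← P.3 hQ hPQ]
      exact hQn

end Cfsg.Agent.S0132
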