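import Cfsg.Statements.S5913


set_option autoImplicit false
open Cfsg

namespace Cfsg.Agent.S5913

/-- Let S be a non-abelian simple group and n a natural number. Every normal subgroup N of the direct power S^n (functions Fin n → S) is a subproduct: there is a set T of coordinates such that N consists exactly of the elements whose coordinates outside T are trivial. In particular the minimal normal subgroups of S^n are its n factors. -/
theorem result {S : Type*} [Group S] [IsSimpleGroup S] (hS : ¬ IsMulCommutative S) (n : ℕ)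
    (N : Subgroup (Fin n → S)) [N.Normal] :
    ∃ T : Finset (Fin n), ∀ x : Fin n → S, x ∈ N ↔ ∀ i, i ∉ T → x i = 1 := by
  classical
  refine ⟨Finset.univ.filter fun i => ∃ x ∈ N, x i ≠ 1, fun x => ⟨fun hx i hi => ?_, fun hx => ?_⟩⟩
  · by_contra hne
    exact hi (Finset.mem_filter.mpr ⟨Finset.mem_univ i, x, hx, hne⟩)
  refine Subgroup.pi_mem_of_mulSingle_mem x fun i => ?_
  by_cases hi : ∃ y ∈ N, y i ≠ 1
  · obtain ⟨y, hy, hyi⟩ := hi
    let A : Subgroup S := N.comap (MonoidHom.mulSingle (fun _ : Fin n => S) i)
    have hA : A.Normal := inferInstance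
    have hcomm : ∀ s : S, y i * s * (y i)⁻¹ * s⁻¹ ∈ A := fun s => by
      show Pi.mulSingle i (y i * s * (y i)⁻¹ * s⁻¹) ∈ N
      have h : y * Pi.mulSingle i s * y⁻¹ * (Pi.mulSingle i s)⁻¹ ∈ N := by
        have h' := (inferInstance : N.Normal).conj_mem _ (inv_mem hy) (Pi.mulSingle i s)
        rw [show y * Pi.mulSingle i s * y⁻¹ * (Pi.mulSingle i s)⁻¹
          = y * (Pi.mulSingle i s * y⁻¹ * (Pi.mulSingle i s)⁻¹) by group]
        exact mul_mem hy h'
      convert h using 1
      ext j
      rcases eq_or_ne j i with rfl | hj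
      · simp
      · simp [Pi.mulSingle_eq_of_ne hj]
    rcases hA.eq_bot_or_eq_top with e | e
    · exfalso
      have hc : y i ∈ Subgroup.center S := Subgroup.mem_center_iff.mpr fun s => by
        have h := hcomm s
        rw [e, Subgroup.mem_bot, mul_inv_eq_one, mul_inv_eq_iff_eq_mul] at h
        exact h.symm
      rcases (inferInstance : (Subgroup.center S).Normal).eq_bot_or_eq_top with e' | e'
      · rw [e', Subgroup.mem_bot] at hc; exact hyi hc
      · exact hS ⟨⟨fun u v => (Subgroup.mem_center_iff.mp (e' ▸ Subgroup.mem_top v : v ∈ Subgroup.center S) u)⟩⟩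
    · exact (e ▸ Subgroup.mem_top (x i) : x i ∈ A)
  · rw [hx i (fun h => hi (Finset.mem_filter.mp h).2), Pi.mulSingle_one]
    exact one_mem N

end Cfsg.Agent.S5913
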