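import Cfsg.Statements.S1197
import Cfsg.Agent.Lib.WreathedSubgroups
import Mathlib.GroupTheory.Abelianization.Defs
-- import your own Cfsg.Agent.* helpers here

set_option autoImplicit false
open Cfsg
open scoped commutatorElement

namespace Cfsg.Agent.S1197

/-- Let S be a wreathed 2-group of order 2^(2n+1). Then Z(S) is cyclic of order 2^n, the derived subgroup S' is cyclic of order 2^n, and S/Z(S) is isomorphic to the dihedral group of order 2^(n+1). -/
theorem result {S : Type*} [Group S] [Finite S] (hS : Cfsg.IsWreathed S) (n : ℕ) (hn : Nat.card S = 2 ^ (2 * n + 1)) : IsCyclic (Subgroup.center S) ∧ Nat.card (Subgroup.center S) = 2 ^ n ∧ IsCyclic (commutator S) ∧ Nat.card (commutator S) = 2 ^ n ∧ Nonempty (S ⧸ Subgroup.center S ≃* DihedralGroup (2 ^ n)) := by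
  obtain ⟨m, hm, hcard, d, hdh⟩ := CfsgLib.Wr.exists_data hS
  obtain rfl : m = n := by
    have := Nat.pow_right_injective le_rfl (hcard.symm.trans hn)
    omega
  have h2N : 2 ^ m = 2 * d.h := by rw [hdh, ← pow_succ']; congr 1; omega
  rw [h2N]
  have hcyc : ∀ g : S, IsCyclic (Subgroup.zpowers g) := fun g => ⟨⟨g, Subgroup.mem_zpowers _⟩, fun a => by
    obtain ⟨i, hi⟩ := a.2
    exact ⟨i, Subtype.ext (by simpa using hi)⟩⟩
  have hmem : ∀ g k : S, ⁅g, k⁆ ∈ Subgroup.zpowers (d.u 1 (-1)) := by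
    intro g k
    have key : ∀ i j : ℤ, 2 * (d.h : ℤ) ∣ i + j → d.u i j ∈ Subgroup.zpowers (d.u 1 (-1)) := fun i j h => by
      rw [CfsgLib.Wr.mem_zpowers_u_one, show j - -1 * i = i + j by ring]
      exact h
    have hvinv : ∀ i j : ℤ, (d.v i j)⁻¹ = d.v (-j) (-i) := fun i j => by
      apply inv_eq_of_mul_eq_one_right
      rw [CfsgLib.Wr.v_mul_v, add_neg_cancel, add_neg_cancel, CfsgLib.Wr.u_zero]
    rw [commutatorElement_def]
    obtain ⟨a, b, rfl | rfl⟩ := CfsgLib.Wr.cases_elem d g <;>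
      obtain ⟨c, e, rfl | rfl⟩ := CfsgLib.Wr.cases_elem d k <;>
      simp only [CfsgLib.Wr.u_inv, hvinv, CfsgLib.Wr.u_mul_u, CfsgLib.Wr.u_mul_v, CfsgLib.Wr.v_mul_u, CfsgLib.Wr.v_mul_v] <;>
      exact key _ _ ⟨0, by ring⟩
  have hcomm : commutator S = Subgroup.zpowers (d.u 1 (-1)) := by
    apply le_antisymm
    · rw [commutator_def, Subgroup.commutator_le]
      exact fun g _ k _ => hmem g k
    · rw [Subgroup.zpowers_le, commutator_def]
      have h := Subgroup.commutator_mem_commutator (Subgroup.mem_top (d.u 1 0)) (Subgroup.mem_top (d.v 0 0))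
      rw [commutatorElement_def, mul_assoc (d.u 1 0), mul_assoc (d.u 1 0), CfsgLib.Wr.u_inv, CfsgLib.Wr.conj_u_by_v,
        CfsgLib.Wr.u_mul_u] at h
      simpa using h
  refine ⟨?_, ?_, ?_, ?_, ?_⟩
  · rw [CfsgLib.Wr.center_eq d]; exact hcyc _
  · rw [CfsgLib.Wr.center_eq d, Nat.card_zpowers, CfsgLib.Wr.orderOf_u_one]
  · rw [hcomm]; exact hcyc _
  · rw [hcomm, Nat.card_zpowers, CfsgLib.Wr.orderOf_u_one]
  -- the central quotient
  set π := QuotientGroup.mk' (Subgroup.center S)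
  have hh := d.h2
  have hπ : ∀ {g : S}, π g = 1 ↔ g ∈ Subgroup.center S := fun {g} => QuotientGroup.eq_one_iff g
  set a := π (d.v 0 0) with ha
  set b := π (d.v 0 0 * d.u 1 0) with hb
  have hab : a * b = π (d.u 1 0) := by
    rw [ha, hb, ← map_mul, ← mul_assoc, CfsgLib.Wr.v_mul_v, add_zero, CfsgLib.Wr.u_zero, one_mul]
  have h1 : a * a = 1 := by
    rw [ha, ← map_mul, CfsgLib.Wr.v_mul_v, add_zero, CfsgLib.Wr.u_zero, map_one]
  have h2 : b * b = 1 := by
    rw [hb, ← map_mul, hπ, CfsgLib.Wr.v_mul_u, CfsgLib.Wr.v_mul_v, CfsgLib.Wr.u_central_iff]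
    exact ⟨0, by ring⟩
  have ha2 : orderOf a = 2 := CfsgLib.Involutions.orderOf_eq_two_iff'.mpr
    ⟨h1, fun e => CfsgLib.Wr.v_not_central d 0 0 (hπ.mp e)⟩
  have hb2 : orderOf b = 2 := CfsgLib.Involutions.orderOf_eq_two_iff'.mpr
    ⟨h2, fun e => CfsgLib.Wr.v_not_central d _ _ (hπ.mp (show π (d.v (0 + 0) (0 + 1)) = 1 by rw [← CfsgLib.Wr.v_mul_u]; exact e))⟩
  have hord : orderOf (a * b) = 2 * d.h := by
    have key : ∀ k : ℕ, (a * b) ^ k = 1 ↔ 2 * d.h ∣ k := fun k => by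
      rw [hab, ← map_pow, hπ, ← zpow_natCast, CfsgLib.Wr.u_zpow, CfsgLib.Wr.u_central_iff, zero_mul, one_mul, zero_sub, dvd_neg]
      exact_mod_cast Iff.rfl
    exact Nat.dvd_antisymm (orderOf_dvd_iff_pow_eq_one.mpr ((key _).mpr dvd_rfl)) ((key _).mp (pow_orderOf_eq_one _))
  have hne : a ≠ b := fun e => by
    rw [← e, h1, orderOf_one] at hord
    omega
  have htop : Subgroup.closure ({a, b} : Set (S ⧸ Subgroup.center S)) = ⊤ := by
    rw [eq_top_iff]
    rintro q -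
    obtain ⟨g, rfl⟩ := QuotientGroup.mk'_surjective (Subgroup.center S) q
    have hA : a ∈ Subgroup.closure ({a, b} : Set (S ⧸ Subgroup.center S)) := Subgroup.subset_closure (Or.inl rfl)
    have hB : b ∈ Subgroup.closure ({a, b} : Set (S ⧸ Subgroup.center S)) := Subgroup.subset_closure (Or.inr rfl)
    have hu : ∀ i j : ℤ, π (d.u i j) = (a * b) ^ (i - j) := fun i j => by
      rw [hab, ← map_zpow, CfsgLib.Wr.u_zpow, one_mul, zero_mul]
      apply QuotientGroup.eq.mpr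
      rw [CfsgLib.Wr.u_inv, CfsgLib.Wr.u_mul_u, CfsgLib.Wr.u_central_iff]
      exact ⟨0, by ring⟩
    obtain ⟨i, j, rfl | rfl⟩ := CfsgLib.Wr.cases_elem d g
    · rw [hu]; exact zpow_mem (mul_mem hA hB) _
    · have e : d.v i j = d.u i j * d.v 0 0 := by rw [CfsgLib.Wr.u_mul_v, add_zero, add_zero]
      rw [e, map_mul, hu]
      exact mul_mem (zpow_mem (mul_mem hA hB) _) hA
  rw [← hord]
  exact ⟨(Subgroup.topEquiv.symm.trans ((MulEquiv.subgroupCongr
      ((CfsgLib.Involutions.toClosure_range h1 h2).trans htop).symm).trans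
    (MonoidHom.ofInjective (CfsgLib.Involutions.toClosure_injective ha2 hb2 hne)).symm))⟩

end Cfsg.Agent.S1197
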