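import Cfsg.Statements.S3334
-- import your own Cfsg.Agent.* helpers here
import Cfsg.Agent.Lib.McLChar.Final
import Cfsg.Agent.Lib.McLChar.Cover
import Cfsg.Agent.Lib.ZStar.Main
import Cfsg.Agent.Lib.Leech.SporTransfer

set_option autoImplicit false
open Cfsg

namespace Cfsg.Agent.S3334

/-- Let G be a finite group with an involution t whose centralizer is a non-split double cover of the alternating group of degree 8. Then either G = C_G(t) O_{2'}(G), or G is isomorphic to the McLaughlin group. -/
theorem result {G : Type*} [Group G] [Finite G]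
    (t : G) (ht : orderOf t = 2)
    (hcov : Cfsg.IsNonsplitDoubleCover (Subgroup.centralizer ({t} : Set G)) (alternatingGroup (Fin 8))) :
    Subgroup.centralizer ({t} : Set G) ⊔ Cfsg.oddCore G = ⊤ ∨ Nonempty (G ≃* Cfsg.Spor.McL) := by
  by_cases hiso : Cfsg.IsIsolated t
  · left
    have hz := CfsgLib.ZStar.inZStar ht hiso
    refine eq_top_iff.mpr fun g _ => ?_
    have hd : g * t * g⁻¹ * t⁻¹ ∈ Cfsg.oddCore G := hz g
    set d := g * t * g⁻¹ * t⁻¹ with hddef
    have ht2 : t * t = 1 := by rw [← pow_two, ← ht]; exact pow_orderOf_eq_one t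
    have hti : t⁻¹ = t := inv_eq_of_mul_eq_one_right ht2
    have hw2 : g * t * g⁻¹ * (g * t * g⁻¹) = 1 := by
      calc g * t * g⁻¹ * (g * t * g⁻¹) = g * (t * t) * g⁻¹ := by group
        _ = 1 := by rw [ht2, mul_one, mul_inv_cancel]
    have hinv : t * d * t⁻¹ = d⁻¹ := by
      rw [hddef, mul_inv_rev, inv_inv, inv_eq_of_mul_eq_one_right hw2, hti]
      simp only [mul_assoc, ht2, mul_one]
    have hodd : Odd (orderOf d) := by
      have h2 : ¬ 2 ∣ Nat.card (Cfsg.oddCore G) := CfsgLib.not_dvd_card_pPrimeCore Nat.prime_two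
      exact Nat.not_even_iff_odd.mp fun he => h2 (he.two_dvd.trans (Subgroup.orderOf_dvd_natCard _ hd))
    obtain ⟨m, hm⟩ := hodd
    -- a power of d moves t to its conjugate
    set r := d ^ (m + 1) with hr
    have htr : t * r⁻¹ = r * t := by
      have h : t * r * t⁻¹ = r⁻¹ := by rw [hr, ← conj_pow, hinv, inv_pow]
      rw [← h, ← mul_assoc, ← mul_assoc, ht2, one_mul, hti]
    have hr2 : r * r = d := by
      rw [hr, ← pow_add, show m + 1 + (m + 1) = orderOf d + 1 by omega, pow_succ, pow_orderOf_eq_one, one_mul]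
    have hrt : r * t * r⁻¹ = g * t * g⁻¹ := by
      rw [mul_assoc, htr, ← mul_assoc, hr2, hddef, inv_mul_cancel_right]
    have hc : r⁻¹ * g ∈ Subgroup.centralizer ({t} : Set G) := by
      rw [Subgroup.mem_centralizer_singleton_iff]
      calc r⁻¹ * g * t = r⁻¹ * (g * t * g⁻¹) * g := by group
        _ = t * (r⁻¹ * g) := by rw [← hrt]; group
    have hrm : r ∈ Subgroup.centralizer ({t} : Set G) ⊔ Cfsg.oddCore G :=
      Subgroup.mem_sup_right ((Cfsg.oddCore G).pow_mem hd _)
    simpa using Subgroup.mul_mem _ hrm (Subgroup.mem_sup_left hc)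
  · right
    obtain ⟨e⟩ := CfsgMcLChar.Cover.nonempty_equiv CfsgLib.McLInvol.double_cover hcov
    obtain ⟨g, hg, hne⟩ : ∃ g : G, Commute t (g * t * g⁻¹) ∧ g * t * g⁻¹ ≠ t := by
      unfold Cfsg.IsIsolated at hiso
      push Not at hiso
      exact hiso
    have htC : t ∈ Subgroup.centralizer ({t} : Set G) := Subgroup.mem_centralizer_singleton_iff.mpr rfl
    have htau : ((e CfsgLib.McLInvol.tauC : Subgroup.centralizer ({t} : Set G)) : G) = t := by
      have hcen : (⟨t, htC⟩ : Subgroup.centralizer ({t} : Set G)) ∈ Subgroup.center _ :=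
        Subgroup.mem_center_iff.mpr fun x => Subtype.ext (Subgroup.mem_centralizer_singleton_iff.mp x.2)
      have hpre : e.symm ⟨t, htC⟩ ∈ Subgroup.center CfsgLib.McLInvol.Cent := by
        rw [Subgroup.mem_center_iff]
        intro x
        apply e.injective
        rw [map_mul, map_mul, MulEquiv.apply_symm_apply]
        exact Subgroup.mem_center_iff.mp hcen (e x)
      rw [CfsgLib.McLInvol.center_cent, Subgroup.mem_zpowers_iff] at hpre
      obtain ⟨k, hk⟩ := hpre
      have hsq : CfsgLib.McLInvol.tauC ^ (2 : ℤ) = 1 := by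
        rw [zpow_two]; exact Subtype.ext CfsgLib.McLInvol.tau_sq
      rcases Int.even_or_odd k with ⟨j, rfl⟩ | ⟨j, rfl⟩
      · exfalso
        rw [← two_mul, zpow_mul, hsq, one_zpow] at hk
        have := congrArg e hk
        rw [map_one, MulEquiv.apply_symm_apply] at this
        rw [show t = 1 from (congrArg Subtype.val this).symm, orderOf_one] at ht
        omega
      · rw [zpow_add, zpow_mul, hsq, one_zpow, one_mul, zpow_one] at hk
        rw [hk, MulEquiv.apply_symm_apply]
    have hrange : ((Subgroup.centralizer ({t} : Set G)).subtype.comp e.toMonoidHom).range =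
        Subgroup.centralizer ({t} : Set G) := by
      rw [MonoidHom.range_comp, MonoidHom.range_eq_top.mpr e.surjective, ← MonoidHom.range_eq_map,
        Subgroup.range_subtype]
    have S : CfsgMcLChar.Setting t ((Subgroup.centralizer ({t} : Set G)).subtype.comp e.toMonoidHom) :=
      CfsgMcLChar.Setting.ofRange (Subtype.val_injective.comp e.injective) hrange htau
        ⟨g, Subgroup.mem_centralizer_singleton_iff.mpr hg.eq.symm, hne⟩
    obtain ⟨f⟩ := CfsgMcLChar.exists_iso S hrange
    obtain ⟨e1⟩ := CfsgLeech.spor_mcl_equiv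
    obtain ⟨-, -, ⟨e2⟩⟩ := CfsgLeech.Models.mcl_model
    exact ⟨f.trans (e1.trans e2).symm⟩

end Cfsg.Agent.S3334
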