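import Cfsg.Statements.S1452
import Mathlib
import Cfsg.Agent.S0100
import Cfsg.Agent.S0015
-- import your own Cfsg.Agent.* helpers here

set_option autoImplicit false
open Cfsg

namespace Cfsg.Agent.S1452

/-- A join of two commuting elementary abelian subgroups is elementary abelian. -/
theorem elemSup {R : Type*} [Group R] (p : ℕ) (U W : Subgroup R) (hU : Cfsg.IsElementaryAbelian p U)
    (hW : Cfsg.IsElementaryAbelian p W) (h : W ≤ Subgroup.centralizer (U : Set R)) :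
    Cfsg.IsElementaryAbelian p (U ⊔ W : Subgroup R) := by
  have hle : ∀ x ∈ U ⊔ W, x ^ p = 1 ∧ (∀ y ∈ U, y * x = x * y) ∧ ∀ y ∈ W, y * x = x * y := by
    let S : Subgroup R :=
      { carrier := {x | (∃ u ∈ U, ∃ w ∈ W, x = u * w)}
        one_mem' := ⟨1, U.one_mem, 1, W.one_mem, (one_mul 1).symm⟩
        mul_mem' := by
          rintro _ _ ⟨u, hu, w, hw, rfl⟩ ⟨u', hu', w', hw', rfl⟩
          refine ⟨u * u', U.mul_mem hu hu', w * w', W.mul_mem hw hw', ?_⟩
          have := Subgroup.mem_centralizer_iff.1 (h hw) u' hu'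
          calc u * w * (u' * w') = u * (w * u') * w' := by group
            _ = u * (u' * w) * w' := by rw [← this]
            _ = _ := by group
        inv_mem' := by
          rintro _ ⟨u, hu, w, hw, rfl⟩
          refine ⟨u⁻¹, U.inv_mem hu, w⁻¹, W.inv_mem hw, ?_⟩
          rw [mul_inv_rev]
          exact (Subgroup.mem_centralizer_iff.1 (h (W.inv_mem hw)) u⁻¹ (U.inv_mem hu)).symm }
    intro x hx
    obtain ⟨u, hu, w, hw, rfl⟩ := (sup_le (a := U) (b := W) (c := S)
      (fun u hu => ⟨u, hu, 1, W.one_mem, (mul_one u).symm⟩) (fun w hw => ⟨1, U.one_mem, w, hw, (one_mul w).symm⟩)) hx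
    have hc : Commute u w := Subgroup.mem_centralizer_iff.1 (h hw) u hu
    refine ⟨by rw [hc.mul_pow, hU.2 u hu, hW.2 w hw, one_mul], fun y hy => ?_, fun y hy => ?_⟩
    · exact ((show Commute y u from hU.1.is_comm.comm ⟨y, hy⟩ ⟨u, hu⟩ |> congrArg Subtype.val).mul_right
        (show Commute y w from Subgroup.mem_centralizer_iff.1 (h hw) y hy)).eq
    · exact ((show Commute y u from (Subgroup.mem_centralizer_iff.1 (h hy) u hu).symm).mul_right
        (show Commute y w from hW.1.is_comm.comm ⟨y, hy⟩ ⟨w, hw⟩ |> congrArg Subtype.val)).eq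
  refine ⟨⟨⟨fun x y => Subtype.ext ?_⟩⟩, fun x hx => (hle x hx).1⟩
  exact ((sup_le (a := U) (b := W) (c := Subgroup.centralizer {(y : R)})
    (fun u hu => Subgroup.mem_centralizer_singleton_iff.2 ((hle _ y.2).2.1 u hu))
    (fun w hw => Subgroup.mem_centralizer_singleton_iff.2 ((hle _ y.2).2.2 w hw))) x.2 |> Subgroup.mem_centralizer_singleton_iff.1)

/-- Let p be an odd prime and R a finite p-group containing an elementary abelian subgroup of order p ^ 3. If E is a normal elementary abelian subgroup of R of order p ^ 2, then E ≤ A for some normal subgroup A of R with C_R(A) = A that contains an elementary abelian subgroup of order p ^ 3. -/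
theorem result {R : Type*} [Group R] [Finite R] (p : ℕ) [Fact p.Prime] (hp : p ≠ 2) (hR : IsPGroup p R) (hr : ¬ Cfsg.PRankLE p 2 R)
    (E : Subgroup R) [E.Normal] (hE : Cfsg.IsElementaryAbelian p E) (hE2 : Nat.card E = p ^ 2) :
    ∃ A : Subgroup R, E ≤ A ∧ A.Normal ∧ Subgroup.centralizer (A : Set R) = A ∧ ¬ Cfsg.PRankLE p 2 A := by
  classical
  have hpp : p.Prime := Fact.out
  haveI : Group.IsNilpotent R := hR.isNilpotent
  -- a normal elementary abelian subgroup of order `p ^ 3`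
  obtain ⟨B, hBn, hBc, hBe, hB3⟩ : ∃ B : Subgroup R, B.Normal ∧ IsMulCommutative B ∧ (∀ b ∈ B, b ^ p = 1) ∧ Nat.card B = p ^ 3 := by
    by_contra hh
    push Not at hh
    exact hr fun A hA hAe => Cfsg.Agent.S0100.result hp hR hh A hA hAe
  haveI := hBn
  set C := Subgroup.centralizer (E : Set R) with hC
  haveI : C.Normal := Subgroup.normal_centralizer
  -- a large normal elementary abelian subgroup containing `E`
  obtain ⟨D, hDn, hED, hDe, hD3⟩ : ∃ D : Subgroup R, D.Normal ∧ E ≤ D ∧ Cfsg.IsElementaryAbelian p D ∧ p ^ 2 < Nat.card D := by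
    have hpow : p ^ 2 < p ^ 3 := Nat.pow_lt_pow_right hpp.one_lt (by norm_num)
    by_cases hEB : E ≤ B
    · exact ⟨B, hBn, hEB, ⟨hBc, hBe⟩, hB3 ▸ hpow⟩
    refine ⟨E ⊔ (B ⊓ C), inferInstance, le_sup_left, elemSup p E (B ⊓ C) hE
      ⟨⟨⟨fun x y => Subtype.ext (congrArg Subtype.val (hBc.is_comm.comm ⟨x, x.2.1⟩ ⟨y, y.2.1⟩) :)⟩⟩, fun x hx => hBe x hx.1⟩ inf_le_right, ?_⟩
    refine hE2 ▸ lt_of_le_of_ne (Subgroup.card_le_of_le le_sup_left) fun e => ?_
    have hKE : B ⊓ C ≤ E := by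
      have h1 : E ⊔ (B ⊓ C) ≤ E := (Subgroup.eq_of_le_of_card_ge le_sup_left e.ge).ge
      exact le_sup_right.trans h1
    have hcardEB : Nat.card ↥(E ⊓ B) ∣ p := by
      obtain ⟨i, hi, hcard⟩ := (Nat.dvd_prime_pow hpp).1 (hE2 ▸ Subgroup.card_dvd_of_le (inf_le_left : E ⊓ B ≤ E))
      rw [hcard]
      rcases i with _ | _ | _ | i
      · simp
      · simp
      · exact absurd (inf_eq_left.1 (Subgroup.eq_of_le_of_card_ge inf_le_left (by rw [hcard, hE2]))) hEB
      · omega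
    have hKle : Nat.card ↥(B ⊓ C) ≤ p := Nat.le_of_dvd hpp.pos ((Subgroup.card_dvd_of_le (le_inf hKE inf_le_left)).trans hcardEB)
    by_cases hBC : B ≤ C
    · rw [inf_eq_left.2 hBC, hB3] at hKle
      exact absurd hKle (not_le.2 (lt_of_le_of_lt (Nat.le_self_pow two_ne_zero p) hpow))
    obtain ⟨e₀, heE, heB⟩ := SetLike.not_le_iff_exists.1 hEB
    let ψ : B →* ↥(E ⊓ B) := MonoidHom.mk' (fun b => ⟨(b : R) * e₀ * (b : R)⁻¹ * e₀⁻¹, Subgroup.mem_inf.2
        ⟨E.mul_mem (‹E.Normal›.conj_mem e₀ heE b) (E.inv_mem heE), by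
          rw [mul_assoc, mul_assoc, ← mul_assoc e₀]
          exact B.mul_mem b.2 (hBn.conj_mem _ (B.inv_mem b.2) e₀)⟩⟩)
      fun b b' => Subtype.ext (by
        have h1 : (b' : R) * e₀ * (b' : R)⁻¹ * e₀⁻¹ ∈ B := by
          rw [mul_assoc, mul_assoc, ← mul_assoc e₀]
          exact B.mul_mem b'.2 (hBn.conj_mem _ (B.inv_mem b'.2) e₀)
        have h2 : (b : R) * e₀ * (b : R)⁻¹ * e₀⁻¹ ∈ B := by
          rw [mul_assoc, mul_assoc, ← mul_assoc e₀]
          exact B.mul_mem b.2 (hBn.conj_mem _ (B.inv_mem b.2) e₀)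
        show ((b : R) * b') * e₀ * ((b : R) * b')⁻¹ * e₀⁻¹ = ((b : R) * e₀ * (b : R)⁻¹ * e₀⁻¹) * ((b' : R) * e₀ * (b' : R)⁻¹ * e₀⁻¹)
        have c1 : (b : R) * ((b' : R) * e₀ * (b' : R)⁻¹ * e₀⁻¹) = ((b' : R) * e₀ * (b' : R)⁻¹ * e₀⁻¹) * b :=
          congrArg Subtype.val (hBc.is_comm.comm b ⟨_, h1⟩)
        have c2 := congrArg Subtype.val (hBc.is_comm.comm (⟨_, h2⟩ : B) ⟨_, h1⟩)
        simp only [Subgroup.coe_mul] at c2
        calc ((b : R) * b') * e₀ * ((b : R) * b')⁻¹ * e₀⁻¹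
            = (b : R) * ((b' : R) * e₀ * (b' : R)⁻¹ * e₀⁻¹) * (e₀ * (b : R)⁻¹ * e₀⁻¹) := by group
          _ = ((b' : R) * e₀ * (b' : R)⁻¹ * e₀⁻¹) * ((b : R) * e₀ * (b : R)⁻¹ * e₀⁻¹) := by rw [c1]; group
          _ = _ := c2.symm)
    have hker : ψ.ker.map B.subtype ≤ B ⊓ C := by
      rintro _ ⟨b, hb, rfl⟩
      refine Subgroup.mem_inf.2 ⟨b.2, ?_⟩
      have hbe : (b : R) * e₀ * (b : R)⁻¹ * e₀⁻¹ = 1 := congrArg Subtype.val hb
      have hgen : (E ⊓ B) ⊔ Subgroup.zpowers e₀ = E := by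
        have hle : (E ⊓ B) ⊔ Subgroup.zpowers e₀ ≤ E := sup_le inf_le_left (Subgroup.zpowers_le.2 heE)
        refine Subgroup.eq_of_le_of_card_ge hle ?_
        obtain ⟨i, hi, hcard⟩ := (Nat.dvd_prime_pow hpp).1 (hE2 ▸ Subgroup.card_dvd_of_le hle)
        rw [hE2, hcard]
        rcases i with _ | _ | i
        · exfalso
          rw [pow_zero, Subgroup.card_eq_one, sup_eq_bot_iff, Subgroup.zpowers_eq_bot] at hcard
          exact heB (hcard.2 ▸ B.one_mem)
        · exfalso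
          rw [zero_add, pow_one] at hcard
          rcases (Nat.dvd_prime hpp).1 hcardEB with h | h
          · apply hBC
            intro y hy
            refine Subgroup.mem_centralizer_iff.2 fun x hx => ?_
            have hmem : x * y * x⁻¹ * y⁻¹ ∈ E ⊓ B := Subgroup.mem_inf.2
              ⟨by rw [mul_assoc, mul_assoc, ← mul_assoc y]; exact E.mul_mem hx (‹E.Normal›.conj_mem _ (E.inv_mem hx) y),
                B.mul_mem (hBn.conj_mem y hy x) (B.inv_mem hy)⟩
            rw [Subgroup.card_eq_one.1 h, Subgroup.mem_bot, mul_inv_eq_one, mul_inv_eq_iff_eq_mul] at hmem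
            exact hmem
          · have := Subgroup.eq_of_le_of_card_ge (le_sup_left : E ⊓ B ≤ (E ⊓ B) ⊔ Subgroup.zpowers e₀) (by rw [hcard, h])
            exact heB (Subgroup.mem_inf.1 (this ▸ Subgroup.mem_sup_right (Subgroup.mem_zpowers e₀) : e₀ ∈ E ⊓ B)).2
        · exact Nat.pow_le_pow_right hpp.pos (by omega)
      refine Subgroup.mem_centralizer_iff.2 fun x hx => ?_
      have hx' : x ∈ (E ⊓ B) ⊔ Subgroup.zpowers e₀ := hgen.symm ▸ hx
      have hsub : (E ⊓ B) ⊔ Subgroup.zpowers e₀ ≤ Subgroup.centralizer {(b : R)} :=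
        sup_le (fun w hw => Subgroup.mem_centralizer_singleton_iff.2
            (congrArg Subtype.val (hBc.is_comm.comm ⟨w, hw.2⟩ b) :))
          (Subgroup.zpowers_le.2 (Subgroup.mem_centralizer_singleton_iff.2 (by
            rw [mul_inv_eq_one, mul_inv_eq_iff_eq_mul] at hbe
            exact hbe.symm)))
      exact Subgroup.mem_centralizer_singleton_iff.1 (hsub hx')
    have h1 : Nat.card ψ.ker ≤ p := by
      refine le_trans ?_ hKle
      rw [← Subgroup.card_map_of_injective B.subtype_injective]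
      exact Subgroup.card_le_of_le hker
    have h2 : ψ.ker.index ≤ p := by
      rw [Subgroup.index_ker]
      exact (Subgroup.card_le_card_group _).trans (Nat.le_of_dvd hpp.pos hcardEB)
    have h3 := ψ.ker.card_mul_index
    rw [hB3] at h3
    have h4 := Nat.mul_le_mul h1 h2
    rw [h3, ← sq] at h4
    exact absurd h4 (not_le.2 hpow)
  haveI := hDn
  obtain ⟨A, ⟨hAn, hAc, hDA⟩, hmax⟩ := (Set.toFinite {A : Subgroup R | A.Normal ∧ IsMulCommutative A ∧ D ≤ A}).exists_maximal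
    ⟨D, hDn, hDe.1, le_rfl⟩
  haveI := hAn
  haveI := hAc
  refine ⟨A, hED.trans hDA, hAn, Cfsg.Agent.S0015.result A fun M hM hMc hAM => le_antisymm (hmax ⟨hM, hMc, hDA.trans hAM⟩ hAM) hAM, fun hrA => ?_⟩
  have h := hrA (D.subgroupOf A) ⟨⟨fun x y => Subtype.ext (hAc.is_comm.comm x.1 y.1)⟩⟩
    (fun x hx => Subtype.ext (hDe.2 x.1 hx))
  rw [Nat.card_congr (Subgroup.subgroupOfEquivOfLe hDA).toEquiv] at h
  omega

end Cfsg.Agent.S1452
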