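import Cfsg.Statements.S1453
import Mathlib
import Cfsg.Agent.S0100
import Cfsg.Agent.S1452
import Cfsg.Agent.Lib.UniqueSubgroup
-- import your own Cfsg.Agent.* helpers here

set_option autoImplicit false
open Cfsg

namespace Cfsg.Agent.S1453

/-- Powers of a product when the commutator is central. -/
theorem mulPow {R : Type*} [Group R] (a b c : R) (hc : ∀ x, c * x = x * c) (h : b * a = a * b * c) (n : ℕ) :
    (a * b) ^ n = a ^ n * b ^ n * c ^ n.choose 2 := by
  have hca : ∀ (x : R) (m : ℕ), c ^ m * x = x * c ^ m := fun x m => (Commute.pow_left (hc x) m).eq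
  have hba : ∀ m : ℕ, b ^ m * a = a * b ^ m * c ^ m := fun m => by
    induction m with
    | zero => simp
    | succ m ih =>
      calc b ^ (m + 1) * a = b ^ m * (b * a) := by rw [pow_succ, mul_assoc]
        _ = (b ^ m * a) * b * c := by rw [h]; simp only [mul_assoc]
        _ = a * b ^ m * (c ^ m * b) * c := by rw [ih]; simp only [mul_assoc]
        _ = a * b ^ m * (b * c ^ m) * c := by rw [hca b m]
        _ = a * b ^ (m + 1) * c ^ (m + 1) := by rw [pow_succ b, pow_succ c]; simp only [mul_assoc]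
  induction n with
  | zero => simp
  | succ n ih =>
    have e : (n + 1).choose 2 = n + n.choose 2 := by rw [Nat.choose_succ_succ', Nat.choose_one_right]
    calc (a * b) ^ (n + 1) = a ^ n * b ^ n * (c ^ n.choose 2 * (a * b)) := by rw [pow_succ, ih]; simp only [mul_assoc]
      _ = a ^ n * b ^ n * ((a * b) * c ^ n.choose 2) := by rw [hca]
      _ = a ^ n * (b ^ n * a) * b * c ^ n.choose 2 := by simp only [mul_assoc]
      _ = a ^ n * a * b ^ n * (c ^ n * b) * c ^ n.choose 2 := by rw [hba]; simp only [mul_assoc]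
      _ = a ^ n * a * b ^ n * (b * c ^ n) * c ^ n.choose 2 := by rw [hca b n]
      _ = _ := by rw [e, pow_succ a, pow_succ b, pow_add]; simp only [mul_assoc]

/-- Let p be an odd prime and R a finite p-group with an elementary abelian subgroup of order p ^ 3 and an elementary abelian subgroup E of order p ^ 2 contained in no larger elementary abelian subgroup. Let Z₂ be the second centre of R, W the subgroup generated by the elements of Z₂ of order dividing p, and T = C_R(W). Then E is not contained in T; the elements of order dividing p of the centre of R generate a group of order p; W is elementary abelian of order p ^ 2; and T is characteristic in R of index p. -/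
theorem result {R : Type*} [Group R] [Finite R] (p : ℕ) [Fact p.Prime] (hp : p ≠ 2) (hR : IsPGroup p R) (hr : ¬ Cfsg.PRankLE p 2 R)
    (E : Subgroup R) (hE : Cfsg.IsElementaryAbelian p E) (hE2 : Nat.card E = p ^ 2)
    (hEmax : ∀ B : Subgroup R, Cfsg.IsElementaryAbelian p B → E ≤ B → B = E) :
    ¬ E ≤ Subgroup.centralizer ((Subgroup.closure {x : R | x ∈ Subgroup.upperCentralSeries R 2 ∧ x ^ p = 1} : Subgroup R) : Set R) ∧
      Nat.card ↥(Subgroup.closure {x : R | x ∈ Subgroup.center R ∧ x ^ p = 1}) = p ∧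
      (Cfsg.IsElementaryAbelian p (Subgroup.closure {x : R | x ∈ Subgroup.upperCentralSeries R 2 ∧ x ^ p = 1}) ∧
        Nat.card ↥(Subgroup.closure {x : R | x ∈ Subgroup.upperCentralSeries R 2 ∧ x ^ p = 1}) = p ^ 2) ∧
      (Subgroup.centralizer ((Subgroup.closure {x : R | x ∈ Subgroup.upperCentralSeries R 2 ∧ x ^ p = 1} : Subgroup R) : Set R)).Characteristic ∧
      (Subgroup.centralizer ((Subgroup.closure {x : R | x ∈ Subgroup.upperCentralSeries R 2 ∧ x ^ p = 1} : Subgroup R) : Set R)).index = p := by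
  classical
  have hpp : p.Prime := Fact.out
  haveI : Group.IsNilpotent R := hR.isNilpotent
  haveI : Nontrivial R := by
    by_contra hn
    rw [not_nontrivial_iff_subsingleton] at hn
    have := Subgroup.card_eq_one.2 (Subsingleton.elim E ⊥)
    rw [hE2] at this
    exact hpp.ne_one ((Nat.pow_eq_one.1 this).resolve_right two_ne_zero)
  have hEc := hE.1
  -- a commuting element of order dividing `p` lies in `E`
  have hext : ∀ x : R, x ^ p = 1 → (∀ e ∈ E, e * x = x * e) → x ∈ E := fun x hx hxc => by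
    have h := hEmax (E ⊔ Subgroup.zpowers x) (Cfsg.Agent.S1452.elemSup p E _ hE
      ⟨inferInstance, fun y hy => by
        obtain ⟨i, rfl⟩ := Subgroup.mem_zpowers_iff.1 hy
        rw [← zpow_natCast, ← zpow_mul, mul_comm, zpow_mul, zpow_natCast, hx, one_zpow]⟩
      (Subgroup.zpowers_le.2 (Subgroup.mem_centralizer_iff.2 hxc))) le_sup_left
    exact h ▸ Subgroup.mem_sup_right (Subgroup.mem_zpowers x)
  have hrankcontra : ∀ D : Subgroup R, Cfsg.IsElementaryAbelian p D → (∀ x ∈ D, ∀ e ∈ E, e * x = x * e) → Nat.card D ≤ p ^ 2 :=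
    fun D hD hDc => hE2 ▸ Subgroup.card_le_of_le fun x hx => hext x (hD.2 x hx) (hDc x hx)
  have hEnn : ¬ E.Normal := fun hEn => by
    haveI := hEn
    obtain ⟨A, hEA, hAn, hAc, hA3⟩ := Cfsg.Agent.S1452.result p hp hR hr E hE hE2
    apply hA3
    intro D hD hDe
    have hAcomm : ∀ x ∈ A, ∀ y ∈ A, x * y = y * x := fun x hx y hy =>
      Subgroup.mem_centralizer_iff.1 (show y ∈ Subgroup.centralizer (A : Set R) by rw [hAc]; exact hy) x hx
    rw [← Subgroup.card_map_of_injective A.subtype_injective]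
    refine hrankcontra _ ⟨⟨⟨?_⟩⟩, ?_⟩ ?_
    · rintro ⟨_, ⟨x, hx, rfl⟩⟩ ⟨_, ⟨y, hy, rfl⟩⟩
      exact Subtype.ext (hAcomm _ x.2 _ y.2)
    · rintro _ ⟨x, hx, rfl⟩
      exact congrArg Subtype.val (hDe x hx)
    · rintro _ ⟨x, -, rfl⟩ e he
      exact hAcomm e (hEA he) _ x.2
  -- the centre
  set Z : Subgroup R := E ⊓ Subgroup.center R with hZdef
  have hZset : ∀ x, x ∈ Subgroup.center R → x ^ p = 1 → x ∈ Z := fun x hx hxp =>
    Subgroup.mem_inf.2 ⟨hext x hxp fun e _ => Subgroup.mem_center_iff.1 hx e, hx⟩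
  have hZ1 : Subgroup.closure {x : R | x ∈ Subgroup.center R ∧ x ^ p = 1} = Z :=
    le_antisymm ((Subgroup.closure_le _).2 fun x hx => hZset x hx.1 hx.2)
      fun x hx => Subgroup.subset_closure ⟨hx.2, hE.2 x hx.1⟩
  have hZE : ¬ E ≤ Z := fun h => by
    apply hr
    intro D hD hDe
    exact hrankcontra D ⟨hD, hDe⟩ fun x _ e he => (Subgroup.mem_center_iff.1 (h he).2 x).symm
  have hZcard : Nat.card Z = p := by
    obtain ⟨i, hi, hcard⟩ := (Nat.dvd_prime_pow hpp).1 (hE2 ▸ Subgroup.card_dvd_of_le (inf_le_left : Z ≤ E))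
    rw [hcard]
    rcases i with _ | _ | _ | i
    · exfalso
      rw [pow_zero, Subgroup.card_eq_one] at hcard
      haveI := hR.center_nontrivial
      obtain ⟨z, hz⟩ := exists_prime_orderOf_dvd_card' (G := Subgroup.center R) p (by
        obtain ⟨n, hn⟩ := (hR.to_subgroup (Subgroup.center R)).exists_card_eq
        have := Finite.one_lt_card (α := Subgroup.center R)
        rcases n with _ | n
        · rw [pow_zero] at hn; omega
        · rw [hn]; exact dvd_pow_self p (Nat.succ_ne_zero n))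
      have h1 := hZset (z : R) z.2 (by rw [← Subgroup.orderOf_coe] at hz; rw [← hz, pow_orderOf_eq_one])
      rw [show Z = ⊥ from hcard, Subgroup.mem_bot] at h1
      rw [← Subgroup.orderOf_coe, h1, orderOf_one] at hz
      exact hpp.ne_one hz.symm
    · rw [zero_add, pow_one]
    · exact absurd (Subgroup.eq_of_le_of_card_ge inf_le_left (by rw [hcard, hE2])).ge hZE
    · omega
  have hgenZ : ∀ x ∈ Z, x ≠ 1 → Subgroup.zpowers x = Z := fun x hx hx1 =>
    Subgroup.eq_of_le_of_card_ge (Subgroup.zpowers_le.2 hx) (by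
      rw [hZcard, Nat.card_zpowers, orderOf_eq_prime (hE.2 x hx.1) hx1])
  -- the second centre
  set Z2 := Subgroup.upperCentralSeries R 2
  have hcomm : ∀ x, x ∈ Z2 → ∀ y, x * y * x⁻¹ * y⁻¹ ∈ Subgroup.center R := fun x hx y => by
    have := Subgroup.mem_upperCentralSeries_succ_iff.1 hx y
    rwa [Subgroup.upperCentralSeries_one] at this
  have hcommp : ∀ x, x ∈ Z2 → x ^ p = 1 → ∀ y, x * y * x⁻¹ * y⁻¹ ∈ Z := fun x hx hxp y => by
    set c := x * y * x⁻¹ * y⁻¹ with hcdef
    have hc : c ∈ Subgroup.center R := hcomm x hx y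
    refine hZset c hc ?_
    have hc' : Commute c x⁻¹ := (Subgroup.mem_center_iff.1 hc x⁻¹).symm
    have h1 : y * x⁻¹ * y⁻¹ = c * x⁻¹ := by rw [hc'.eq, hcdef]; group
    have h2 : (y * x⁻¹ * y⁻¹) ^ p = 1 := by rw [conj_pow, inv_pow, hxp, inv_one, mul_one, mul_inv_cancel]
    rw [h1, hc'.mul_pow, inv_pow, hxp, inv_one, mul_one] at h2
    exact h2
  have hZ2p : ∀ x y, x ∈ Z2 → x ^ p = 1 → y ^ p = 1 → (x * y) ^ p = 1 := fun x y hx hxp hyp => by
    have hmem : x⁻¹ * y * x⁻¹⁻¹ * y⁻¹ ∈ Z := hcommp x⁻¹ (Z2.inv_mem hx) (by rw [inv_pow, hxp, inv_one]) y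
    rw [inv_inv] at hmem
    have hc : ∀ w, (x⁻¹ * y * x * y⁻¹) * w = w * (x⁻¹ * y * x * y⁻¹) := fun w => (Subgroup.mem_center_iff.1 hmem.2 w).symm
    rw [mulPow x y (x⁻¹ * y * x * y⁻¹) hc (by
      rw [mul_assoc x y, ← hc y]; group) p, hxp, hyp, one_mul, one_mul]
    obtain ⟨k, hk⟩ := (Nat.Prime.dvd_choose_self hpp two_ne_zero (lt_of_le_of_ne hpp.two_le (Ne.symm hp)))
    rw [hk, pow_mul, hE.2 _ hmem.1, one_pow]
  have hnotE : ∀ y, y ∈ Z2 → y ^ p = 1 → y ∉ Z → y ∉ E := fun y hy hyp hyZ hyE => by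
    apply hEnn
    have hgen : Z ⊔ Subgroup.zpowers y = E := by
      have hle : Z ⊔ Subgroup.zpowers y ≤ E := sup_le inf_le_left (Subgroup.zpowers_le.2 hyE)
      refine Subgroup.eq_of_le_of_card_ge hle ?_
      obtain ⟨i, hi, hcard⟩ := (Nat.dvd_prime_pow hpp).1 (hE2 ▸ Subgroup.card_dvd_of_le hle)
      rw [hE2, hcard]
      rcases i with _ | _ | i
      · have := Subgroup.card_le_of_le (le_sup_left : Z ≤ Z ⊔ Subgroup.zpowers y)
        rw [hcard, hZcard, pow_zero] at this
        exact absurd this (by have := hpp.two_le; omega)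
      · exact absurd ((Subgroup.eq_of_le_of_card_ge (le_sup_left : Z ≤ Z ⊔ Subgroup.zpowers y) (by rw [hcard, hZcard, zero_add, pow_one])).ge
          (Subgroup.mem_sup_right (Subgroup.mem_zpowers y))) hyZ
      · exact Nat.pow_le_pow_right hpp.pos (by omega)
    refine ⟨fun e he g => ?_⟩
    have key : (Z ⊔ Subgroup.zpowers y) ≤ E.comap (MulAut.conj g).toMonoidHom := sup_le
      (fun z hz => by
        show g * z * g⁻¹ ∈ E
        rw [Subgroup.mem_center_iff.1 hz.2 g, mul_inv_cancel_right]; exact hz.1)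
      (Subgroup.zpowers_le.2 (by
        show g * y * g⁻¹ ∈ E
        have h := E.mul_mem (E.inv_mem (hcommp y hy hyp g).1) hyE
        convert h using 1; group))
    rw [hgen] at key
    exact key he
  -- an element of the second centre
  obtain ⟨B, hBn, hBc, hBe, hB3⟩ : ∃ B : Subgroup R, B.Normal ∧ IsMulCommutative B ∧ (∀ b ∈ B, b ^ p = 1) ∧ Nat.card B = p ^ 3 := by
    by_contra hh
    push Not at hh
    exact hr fun A hA hAe => Cfsg.Agent.S0100.result hp hR hh A hA hAe
  haveI : Z.Normal := ⟨fun z hz g => by rw [Subgroup.mem_center_iff.1 hz.2 g, mul_inv_cancel_right]; exact hz⟩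
  obtain ⟨u, huB, huZ2, huZ⟩ : ∃ u ∈ B, u ∈ Z2 ∧ u ∉ Z := by
    set φ := QuotientGroup.mk' Z
    haveI : (B.map φ).Normal := Subgroup.Normal.map hBn φ (QuotientGroup.mk'_surjective Z)
    have hne : B.map φ ≠ ⊥ := by
      rw [Ne, Subgroup.map_eq_bot_iff, QuotientGroup.ker_mk']
      intro h
      have := Subgroup.card_le_of_le h
      rw [hB3, hZcard] at this
      exact absurd this (not_le.2 (lt_self_pow₀ hpp.one_lt (by norm_num)))
    obtain ⟨q, hq, hq1⟩ := (Subgroup.bot_or_exists_ne_one _).resolve_left (CfsgLib.inf_center_ne_bot_of_nilpotent hne)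
    obtain ⟨⟨u, hu, rfl⟩, huc⟩ := Subgroup.mem_inf.1 hq
    refine ⟨u, hu, Subgroup.mem_upperCentralSeries_succ_iff.2 fun y => ?_, fun h => hq1 ((QuotientGroup.eq_one_iff u).2 h)⟩
    rw [Subgroup.upperCentralSeries_one]
    have : φ (u * y * u⁻¹ * y⁻¹) = 1 := by
      rw [map_mul, map_mul, map_mul, map_inv, map_inv, (Subgroup.mem_center_iff.1 huc (φ y)).symm]; group
    exact ((QuotientGroup.eq_one_iff _).1 this).2
  have hup : u ^ p = 1 := hBe u huB
  obtain ⟨e, heE, hue⟩ : ∃ e ∈ E, u * e * u⁻¹ * e⁻¹ ≠ 1 := by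
    by_contra hh
    push Not at hh
    exact hnotE u huZ2 hup huZ (hext u hup fun e he => by
      have := hh e he
      rw [mul_inv_eq_one, mul_inv_eq_iff_eq_mul] at this
      exact this.symm)
  have hEgen : Z ⊔ Subgroup.zpowers e = E := by
    have heZ : e ∉ Z := fun h => hue (by rw [Subgroup.mem_center_iff.1 h.2 u, mul_inv_cancel_right, mul_inv_cancel])
    have hle : Z ⊔ Subgroup.zpowers e ≤ E := sup_le inf_le_left (Subgroup.zpowers_le.2 heE)
    refine Subgroup.eq_of_le_of_card_ge hle ?_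
    obtain ⟨i, hi, hcard⟩ := (Nat.dvd_prime_pow hpp).1 (hE2 ▸ Subgroup.card_dvd_of_le hle)
    rw [hE2, hcard]
    rcases i with _ | _ | i
    · have := Subgroup.card_le_of_le (le_sup_left : Z ≤ Z ⊔ Subgroup.zpowers e)
      rw [hcard, hZcard, pow_zero] at this
      exact absurd this (by have := hpp.two_le; omega)
    · exact absurd ((Subgroup.eq_of_le_of_card_ge (le_sup_left : Z ≤ Z ⊔ Subgroup.zpowers e) (by rw [hcard, hZcard, zero_add, pow_one])).ge
        (Subgroup.mem_sup_right (Subgroup.mem_zpowers e))) heZ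
    · exact Nat.pow_le_pow_right hpp.pos (by omega)
  set U : Subgroup R := Z ⊔ Subgroup.zpowers u with hU
  have hUe : Cfsg.IsElementaryAbelian p U := Cfsg.Agent.S1452.elemSup p Z _
    ⟨⟨⟨fun x y => Subtype.ext ((Subgroup.mem_center_iff.1 y.2.2 x) :)⟩⟩, fun x hx => hE.2 x hx.1⟩
    ⟨inferInstance, fun y hy => by
      obtain ⟨i, rfl⟩ := Subgroup.mem_zpowers_iff.1 hy
      rw [← zpow_natCast, ← zpow_mul, mul_comm, zpow_mul, zpow_natCast, hup, one_zpow]⟩
    (Subgroup.zpowers_le.2 (Subgroup.mem_centralizer_iff.2 fun z hz => (Subgroup.mem_center_iff.1 hz.2 u).symm))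
  have hUcard : Nat.card U = p ^ 2 := by
    have h1 : Nat.card (Subgroup.zpowers u) = p := by
      rw [Nat.card_zpowers, orderOf_eq_prime hup fun h => huZ (h ▸ Z.one_mem)]
    have h4 := (Z.subgroupOf U).card_mul_index
    have h5 : (Z.subgroupOf U).index = Z.relIndex (Subgroup.zpowers u) := by
      show Z.relIndex U = _
      rw [hU, sup_comm, Subgroup.relIndex_sup_right]
    rw [Nat.card_congr (Subgroup.subgroupOfEquivOfLe (le_sup_left : Z ≤ U)).toEquiv, h5] at h4
    have h3 : Z ⊓ Subgroup.zpowers u = ⊥ := by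
      by_contra h
      obtain ⟨x, hx, hx1⟩ := (Subgroup.bot_or_exists_ne_one _).resolve_left h
      apply huZ
      have : Subgroup.zpowers u = Subgroup.zpowers x := (Subgroup.eq_of_le_of_card_ge (Subgroup.zpowers_le.2 hx.2)
        (by rw [h1, Nat.card_zpowers, orderOf_eq_prime (hE.2 x hx.1.1) hx1])).symm
      exact (this ▸ Subgroup.zpowers_le.2 hx.1) (Subgroup.mem_zpowers u)
    rw [← Subgroup.inf_relIndex_right, h3, Subgroup.relIndex_bot_left, hZcard, h1] at h4
    rw [← h4, sq]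
  have hWU : Subgroup.closure {x : R | x ∈ Subgroup.upperCentralSeries R 2 ∧ x ^ p = 1} = U := by
    refine le_antisymm ((Subgroup.closure_le _).2 fun w hw => ?_) (sup_le (fun z hz => ?_) (Subgroup.zpowers_le.2 (Subgroup.subset_closure ⟨huZ2, hup⟩)))
    · obtain ⟨hwZ2, hwp⟩ := hw
      have hcu := hcommp u huZ2 hup e
      obtain ⟨i, hi⟩ := Subgroup.mem_zpowers_iff.1 ((hgenZ _ hcu hue).ge (hcommp w hwZ2 hwp e))
      have hu' : ∀ j : ℤ, u ^ j * e * (u ^ j)⁻¹ = (u * e * u⁻¹ * e⁻¹) ^ j * e := fun j => by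
        induction j using Int.induction_on with
        | zero => simp
        | succ j ih =>
          rw [zpow_add, zpow_one, mul_inv_rev, show u ^ (j : ℤ) * u * e * (u⁻¹ * (u ^ (j : ℤ))⁻¹) = u ^ (j : ℤ) * ((u * e * u⁻¹ * e⁻¹) * e) * (u ^ (j : ℤ))⁻¹ by group,
            ← mul_assoc (u ^ (j : ℤ)), Subgroup.mem_center_iff.1 hcu.2 (u ^ (j : ℤ)), mul_assoc, mul_assoc, ← mul_assoc (u ^ (j : ℤ)), ih, ← mul_assoc]
          group
        | pred j ih =>
          set c := u * e * u⁻¹ * e⁻¹ with hcdef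
          have hce : u⁻¹ * e * u = c⁻¹ * e := by
            have : u⁻¹ * c * u = c := by rw [mul_assoc, ← Subgroup.mem_center_iff.1 hcu.2 u, inv_mul_cancel_left]
            calc u⁻¹ * e * u = (u⁻¹ * c * u)⁻¹ * e := by rw [hcdef]; group
              _ = c⁻¹ * e := by rw [this]
          rw [zpow_sub_one, mul_inv_rev, inv_inv, show u ^ (-(j : ℤ)) * u⁻¹ * e * (u * (u ^ (-(j : ℤ)))⁻¹) = u ^ (-(j : ℤ)) * (u⁻¹ * e * u) * (u ^ (-(j : ℤ)))⁻¹ by group,
            hce, ← mul_assoc (u ^ (-(j : ℤ))), Subgroup.mem_center_iff.1 (inv_mem hcu.2) (u ^ (-(j : ℤ))), mul_assoc, mul_assoc, ← mul_assoc (u ^ (-(j : ℤ))), ih, ← mul_assoc]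
          group
      set y := w * (u ^ i)⁻¹ with hy
      have huip : ((u ^ i)⁻¹) ^ p = 1 := by
        rw [inv_pow, ← zpow_natCast, ← zpow_mul, mul_comm, zpow_mul, zpow_natCast, hup, one_zpow, inv_one]
      have hyp : y ^ p = 1 := hZ2p w _ hwZ2 hwp huip
      have hyZ2 : y ∈ Z2 := Z2.mul_mem hwZ2 (Z2.inv_mem (Z2.zpow_mem huZ2 i))
      have hye : e * y = y * e := by
        have h2 : w * e * w⁻¹ = (u * e * u⁻¹ * e⁻¹) ^ i * e := by rw [hi]; group
        have h3 : (u ^ i)⁻¹ * e * u ^ i = ((u * e * u⁻¹ * e⁻¹) ^ i)⁻¹ * e := by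
          have := hu' (-i)
          rwa [zpow_neg, inv_inv, zpow_neg] at this
        have h4 : y * e * y⁻¹ = e := by
          calc y * e * y⁻¹ = w * ((u ^ i)⁻¹ * e * u ^ i) * w⁻¹ := by rw [hy]; group
            _ = w * ((u * e * u⁻¹ * e⁻¹) ^ i)⁻¹ * e * w⁻¹ := by rw [h3]; group
            _ = ((u * e * u⁻¹ * e⁻¹) ^ i)⁻¹ * (w * e * w⁻¹) := by
              rw [Subgroup.mem_center_iff.1 ((Subgroup.center R).inv_mem ((Subgroup.center R).zpow_mem hcu.2 i)) w]; group
            _ = e := by rw [h2, inv_mul_cancel_left]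
        exact (mul_inv_eq_iff_eq_mul.1 h4).symm
      have hyE : y ∈ E := hext y hyp fun x hx => by
        have hsub : Z ⊔ Subgroup.zpowers e ≤ Subgroup.centralizer {y} :=
          sup_le (fun z hz => Subgroup.mem_centralizer_singleton_iff.2 (Subgroup.mem_center_iff.1 hz.2 y).symm)
            (Subgroup.zpowers_le.2 (Subgroup.mem_centralizer_singleton_iff.2 hye))
        exact Subgroup.mem_centralizer_singleton_iff.1 (hsub (hEgen.symm ▸ hx))
      have hyZ : y ∈ Z := by_contra fun h => hnotE y hyZ2 hyp h hyE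
      have hw' : w = y * u ^ i := by rw [hy, inv_mul_cancel_right]
      exact hw' ▸ U.mul_mem (Subgroup.mem_sup_left hyZ) (Subgroup.mem_sup_right (Subgroup.zpow_mem _ (Subgroup.mem_zpowers u) i))
    · exact Subgroup.subset_closure ⟨Subgroup.mem_upperCentralSeries_succ_iff.2 fun y => by
        rw [Subgroup.upperCentralSeries_one, commutatorElement_def, (Subgroup.mem_center_iff.1 hz.2 y).symm, mul_inv_cancel_right, mul_inv_cancel]
        exact one_mem _, hE.2 z hz.1⟩
  have hchar : (Subgroup.closure {x : R | x ∈ Subgroup.upperCentralSeries R 2 ∧ x ^ p = 1}).Characteristic := by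
    rw [Subgroup.characteristic_iff_map_le]
    intro φ
    rw [MonoidHom.map_closure]
    refine Subgroup.closure_mono ?_
    rintro _ ⟨x, ⟨hx, hxp⟩, rfl⟩
    refine ⟨?_, by rw [← map_pow, hxp, map_one]⟩
    exact (Subgroup.characteristic_iff_map_le.1 (inferInstance : (Subgroup.upperCentralSeries R 2).Characteristic) φ) ⟨x, hx, rfl⟩
  refine ⟨fun h => ?_, by rw [hZ1, hZcard], ⟨by rw [hWU]; exact hUe, by rw [hWU, hUcard]⟩, by haveI := hchar; infer_instance, ?_⟩
  · apply hue
    have := Subgroup.mem_centralizer_iff.1 (h heE) u (Subgroup.subset_closure ⟨huZ2, hup⟩)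
    rw [this]; group
  rw [hWU]
  let χ : R →* Z := MonoidHom.mk' (fun r => ⟨u * r * u⁻¹ * r⁻¹, hcommp u huZ2 hup r⟩) fun r s => Subtype.ext (by
    show u * (r * s) * u⁻¹ * (r * s)⁻¹ = (u * r * u⁻¹ * r⁻¹) * (u * s * u⁻¹ * s⁻¹)
    have h := Subgroup.mem_center_iff.1 (hcommp u huZ2 hup s).2 r
    calc u * (r * s) * u⁻¹ * (r * s)⁻¹ = (u * r * u⁻¹ * r⁻¹) * (r * (u * s * u⁻¹ * s⁻¹) * r⁻¹) := by group
      _ = _ := by rw [h, mul_inv_cancel_right])
  have hk : χ.ker = Subgroup.centralizer (U : Set R) := by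
    ext r
    rw [MonoidHom.mem_ker, Subgroup.mem_centralizer_iff]
    constructor
    · intro h x hx
      have h' : u * r * u⁻¹ * r⁻¹ = 1 := congrArg Subtype.val h
      rw [mul_inv_eq_one, mul_inv_eq_iff_eq_mul] at h'
      have hsub : U ≤ Subgroup.centralizer {r} :=
        sup_le (fun z hz => Subgroup.mem_centralizer_singleton_iff.2 (Subgroup.mem_center_iff.1 hz.2 r).symm)
          (Subgroup.zpowers_le.2 (Subgroup.mem_centralizer_singleton_iff.2 h'))
      exact Subgroup.mem_centralizer_singleton_iff.1 (hsub hx)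
    · intro h
      refine Subtype.ext ?_
      show u * r * u⁻¹ * r⁻¹ = 1
      rw [h u (Subgroup.mem_sup_right (Subgroup.mem_zpowers u))]; group
  rw [← hk, Subgroup.index_ker, show χ.range = ⊤ from ?_, Subgroup.card_top, hZcard]
  refine eq_top_iff.2 fun x _ => ?_
  obtain ⟨i, hi⟩ := Subgroup.mem_zpowers_iff.1 ((hgenZ _ (hcommp u huZ2 hup e) hue).ge x.2)
  exact ⟨e ^ i, Subtype.ext (by rw [map_zpow, SubgroupClass.coe_zpow]; exact hi)⟩

end Cfsg.Agent.S1453
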