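import Cfsg.Statements.S1455
import Mathlib
import Cfsg.Agent.Lib.OddLocal.NarrowStructure
import Cfsg.Agent.Lib.OddLocal.PLengthOne
-- import your own Cfsg.Agent.* helpers here

set_option autoImplicit false
open Cfsg

namespace Cfsg.Agent.S1455

/-- Let G be a solvable group of odd order, p a prime dividing its order, and S a Sylow p-subgroup of G that is narrow; if S has an elementary abelian subgroup of order p ^ 3 assume also G = O_{p',p,p'}(G). Then every prime dividing the index of O_{p'}(G) is at most p; if p = 3 or p is the smallest prime divisor of #G then G has a normal p-complement; G' has a normal p-complement; every subgroup of G' of order coprime to p lies in O_{p'}(G'); and G' ≤ O_{p',p}(G) with the index of O_{p',p}(G) coprime to p. -/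
theorem result {G : Type*} [Group G] [Finite G] [Group.IsSolvable G] (hodd : Odd (Nat.card G)) (p : ℕ) [Fact p.Prime] (hpG : p ∣ Nat.card G) (S : Sylow p G) (hS : Cfsg.IsNarrow p ↥(S : Subgroup G))
    (hpl : ¬ Cfsg.PRankLE p 2 ↥(S : Subgroup G) → Cfsg.PLengthLE p 1 G) :
    (∀ q : ℕ, q.Prime → q ∣ (Cfsg.pPrimeCore p G).index → q ≤ p) ∧
      ((p = 3 ∨ ∀ q : ℕ, q.Prime → q ∣ Nat.card G → p ≤ q) → Cfsg.HasNormalPComplement p G) ∧
      Cfsg.HasNormalPComplement p ↥(commutator G) ∧
      (∀ L : Subgroup ↥(commutator G), (Nat.card L).Coprime p → L ≤ Cfsg.pPrimeCore p ↥(commutator G)) ∧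
      commutator G ≤ Cfsg.pPrimePCore p G ∧ ((Cfsg.pPrimePCore p G).index).Coprime p := by
  have hp2 : p ≠ 2 := by
    intro h
    subst h
    exact (Nat.not_even_iff_odd.2 hodd) (even_iff_two_dvd.2 hpG)
  have hoddQ : Odd (Nat.card (G ⧸ Cfsg.pPrimeCore p G)) := hodd.of_dvd_nat (Subgroup.card_quotient_dvd_card _)
  have hsmall : ∃ x : ↥(Cfsg.pCore p (G ⧸ Cfsg.pPrimeCore p G)), x ^ p = 1 ∧
      Cfsg.PRankLE p 2 ↥(Subgroup.centralizer ({x} : Set ↥(Cfsg.pCore p (G ⧸ Cfsg.pPrimeCore p G)))) := by
    by_cases hr : Cfsg.PRankLE p 2 ↥(S : Subgroup G)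
    · exact CfsgLib.RankTwoTower.small_of_rank
        (CfsgLib.PStructure.pRank_pCore_quotient S _ (CfsgLib.card_pPrimeCore_coprime p) hr)
    · have h1 := hpl hr
      set π := QuotientGroup.mk' (Cfsg.pPrimeCore p G) with hπ
      have e : (S : Subgroup G).map π = Cfsg.pCore p (G ⧸ Cfsg.pPrimeCore p G) :=
        le_antisymm (CfsgLib.PLengthOne.map_le_pCore h1 S.2)
          (CfsgLib.pCore_le_sylow (S.mapSurjective (QuotientGroup.mk'_surjective _)))
      let f : ↥(S : Subgroup G) →* ↥(Cfsg.pCore p (G ⧸ Cfsg.pPrimeCore p G)) :=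
        (π.comp (S : Subgroup G).subtype).codRestrict _ (fun s => e.le ⟨s, s.2, rfl⟩)
      have hf : Function.Bijective f := by
        constructor
        · rw [injective_iff_map_eq_one]
          intro s hs
          have hs' : (s : G) ∈ Cfsg.pPrimeCore p G := (QuotientGroup.eq_one_iff (s : G)).1 (congrArg Subtype.val hs)
          exact Subtype.ext (Subgroup.disjoint_def.1 (CfsgLib.PLengthOne.disjoint_core S.2) s.2 hs')
        · intro y
          obtain ⟨s, hs, hsy⟩ := e.ge y.2
          exact ⟨⟨s, hs⟩, Subtype.ext hsy⟩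
      exact CfsgLib.NarrowStructure.small_of_equiv (MulEquiv.ofBijective f hf)
        (CfsgLib.NarrowStructure.small_of_narrow hS)
  obtain ⟨h1, h2⟩ := CfsgLib.PStructure.derived_of_small hoddQ hp2 (CfsgLib.pPrimeCore_quotient_eq_bot p) hsmall
  exact CfsgLib.PStructure.structure_of_derived hodd h1 h2

end Cfsg.Agent.S1455
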