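import Cfsg.Statements.S1443
import Mathlib
import Cfsg.Agent.Lib.SmallElements
import Cfsg.Agent.S1442
-- import your own Cfsg.Agent.* helpers here

set_option autoImplicit false
open Cfsg

namespace Cfsg.Agent.S1443

/-- Let G be a finite group, p an odd prime, H a p-subgroup, E an elementary abelian subgroup of H, and A a subgroup of order coprime to p normalizing H. If A centralizes every element of order p in H ∩ C_G(E), then A centralizes H. -/
theorem result {G : Type*} [Group G] [Finite G] (p : ℕ) [Fact p.Prime] (hp : p ≠ 2) (H E A : Subgroup G) (hH : IsPGroup p H) (hE : E ≤ H) (hEe : Cfsg.IsElementaryAbelian p E)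
    (hA : (A ≤ Subgroup.normalizer (H : Set G))) (hcop : (Nat.card A).Coprime p)
    (hfix : ∀ x ∈ (H ⊓ Subgroup.centralizer (E : Set G)), orderOf x = p → A ≤ Subgroup.centralizer ({x} : Set G)) :
    A ≤ Subgroup.centralizer (H : Set G) := by
  classical
  have hcopH : (Nat.card A).Coprime (Nat.card H) := by
    obtain ⟨k, hk⟩ := hH.exists_card_eq
    rw [hk]; exact hcop.pow_right k
  -- `A` fixes `E`
  have hEC : ∀ e ∈ E, ∀ a ∈ A, a * e = e * a := by
    intro e he a ha
    by_cases h1 : e = 1
    · rw [h1, mul_one, one_mul]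
    have hed : e ∈ H ⊓ Subgroup.centralizer (E : Set G) := Subgroup.mem_inf.mpr ⟨hE he, Subgroup.mem_centralizer_iff.mpr fun f hf =>
      congrArg Subtype.val (hEe.1.is_comm.comm (⟨f, hf⟩ : E) ⟨e, he⟩)⟩
    have := hfix e hed (orderOf_eq_prime (hEe.2 e he) h1) ha
    exact Subgroup.mem_centralizer_singleton_iff.mp this
  set D := H ⊓ Subgroup.centralizer (E : Set G) with hD
  have hEn : A ≤ Subgroup.normalizer (D : Set G) := fun a ha => Subgroup.mem_normalizer_iff.mpr fun x => by
    simp only [hD, Subgroup.mem_inf, Subgroup.mem_centralizer_iff]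
    refine and_congr (Subgroup.mem_normalizer_iff.mp (hA ha) x) (forall₂_congr fun e he => ?_)
    have h := hEC e he a ha
    have h' : a⁻¹ * e = e * a⁻¹ := (Commute.inv_left h).eq
    constructor
    · intro hx
      calc e * (a * x * a⁻¹) = (e * a) * x * a⁻¹ := by group
        _ = a * (e * x) * a⁻¹ := by rw [← h]; group
        _ = a * x * (e * a⁻¹) := by rw [hx]; group
        _ = (a * x * a⁻¹) * e := by rw [← h']; group
    · intro hx
      calc e * x = (e * a⁻¹) * (a * x * a⁻¹) * a := by group
        _ = a⁻¹ * (e * (a * x * a⁻¹)) * a := by rw [← h']; group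
        _ = x * (a⁻¹ * e) * a := by rw [hx]; group
        _ = x * e := by rw [h']; group
  -- `A` fixes `D`
  have hDC : ∀ x ∈ D, ∀ a ∈ A, a * x = x * a := by
    intro x hx a ha
    have hDp : IsPGroup p D := hH.to_le inf_le_left
    let φ : MulAut D := D.normalizerMonoidHom ⟨a, hEn ha⟩
    have hφ : φ = 1 := by
      refine CfsgLib.Small.eq_one_of_fixes_small hDp (hcop.coprime_dvd_left ((orderOf_map_dvd D.normalizerMonoidHom _).trans ((Subgroup.orderOf_mk ..).dvd.trans (Subgroup.orderOf_dvd_natCard _ ha)))) fun y hy => ?_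
      by_cases hy1 : y = 1
      · rw [hy1, map_one]
      have hsm : CfsgLib.Small.smallExp p = p := if_neg hp
      rw [hsm] at hy
      have := hfix y y.2 (by rw [Subgroup.orderOf_coe]; exact orderOf_eq_prime hy hy1) ha
      refine Subtype.ext ?_
      show a * (y : G) * a⁻¹ = y
      rw [Subgroup.mem_centralizer_singleton_iff.mp this, mul_inv_cancel_right]
    have h1 : a * x * a⁻¹ = x := congrArg Subtype.val (MulEquiv.congr_fun hφ ⟨x, hx⟩)
    exact mul_inv_eq_iff_eq_mul.mp h1
  refine Cfsg.Agent.S1442.result H A hH.isNilpotent hA hcopH ?_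
  intro x hx
  obtain ⟨hxH, hxC⟩ := Subgroup.mem_inf.mp hx
  refine Subgroup.mem_inf.mpr ⟨hxH, Subgroup.mem_centralizer_iff.mpr fun a ha => hDC x (Subgroup.mem_inf.mpr ⟨hxH, Subgroup.mem_centralizer_iff.mpr fun e he => ?_⟩) a ha⟩
  exact Subgroup.mem_centralizer_iff.mp hxC e (Subgroup.mem_inf.mpr ⟨hE he, Subgroup.mem_centralizer_iff.mpr fun a ha => hEC e he a ha⟩)

end Cfsg.Agent.S1443
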