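import Cfsg.Statements.S1416
import Mathlib
import Cfsg.Agent.Lib.MinSimpleOdd.TauTwo
-- import your own Cfsg.Agent.* helpers here

set_option autoImplicit false
open Cfsg

namespace Cfsg.Agent.S1416

/-- Let G be a minimal simple group of odd order, M a maximal subgroup, p a prime and A ≤ M elementary abelian of order p ^ 2. Then C_G(A) ≤ M. If moreover for every subgroup A₀ of A of order p, M is not the unique maximal subgroup containing N_G(A₀), then p ∈ σ(M), M_α = 1 and M_σ is nilpotent. -/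
theorem result {G : Type*} [Group G] [Finite G] (hG : Cfsg.IsMinSimpleOddOrder G)
    (M : Subgroup G) (hM : IsCoatom M) (p : ℕ) [Fact p.Prime] (A : Subgroup G) (hA : (A ≤ M ∧ Cfsg.IsElementaryAbelian p A ∧ Nat.card A = p ^ 2)) :
    Subgroup.centralizer (A : Set G) ≤ M ∧
      ((∀ A₀ : Subgroup G, A₀ ≤ A → Nat.card A₀ = p →
          ¬ (Subgroup.normalizer (A₀ : Set G) ≤ M ∧ ∀ L : Subgroup G, IsCoatom L → Subgroup.normalizer (A₀ : Set G) ≤ L → L = M)) →
        p ∈ Cfsg.sigma M ∧ Cfsg.alphaCore M = ⊥ ∧ Group.IsNilpotent (Cfsg.sigmaCore M)) := by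
  obtain ⟨hAM, hAe, hA2⟩ := hA
  refine ⟨CfsgLib.MinSimpleOdd.centralizer_two_le hG hM hAM hAe hA2, fun h => ?_⟩
  refine CfsgLib.MinSimpleOdd.NoneUnique.consequences hG hM hAM hAe hA2 fun A₀ hA₀ hA₀c => ?_
  have h1 : Subgroup.normalizer (A₀ : Set G) ≠ ⊤ := CfsgLib.MinSimpleOdd.normalizer_ne_top hG (fun e => by
    rw [e, Subgroup.card_bot] at hA₀c
    exact (Fact.out : p.Prime).one_lt.ne hA₀c)
    (CfsgLib.MinSimpleOdd.pgroup_ne_top hG (IsPGroup.of_card (n := 1) (by rw [hA₀c, pow_one])))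
  by_contra hall
  push Not at hall
  obtain ⟨L, hL, hle⟩ := CfsgLib.MinSimpleOdd.exists_coatom_ge h1
  exact h A₀ hA₀ hA₀c ⟨hall L hL hle ▸ hle, fun L' hL' hle' => hall L' hL' hle'⟩

end Cfsg.Agent.S1416
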