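import Cfsg.Statements.S1418
import Mathlib
import Cfsg.Agent.Lib.MinSimpleOdd.TauTwo
-- import your own Cfsg.Agent.* helpers here

set_option autoImplicit false
open Cfsg
open scoped Pointwise

namespace Cfsg.Agent.S1418

/-- Let G be a minimal simple group of odd order, M a maximal subgroup, E a complement to M_σ in M, p ∈ τ₂(M), and A ≤ E elementary abelian of order p ^ 2. Then A is normal in E and contains every subgroup of E of order p; C_G(A) ≤ M ∩ N_G(A) = E and N_G(A) is not contained in M; and for every subgroup X ≤ A of order p centralizing a non-identity element of M_σ, C_G(X) ≤ M and M is the unique maximal subgroup containing C_G(X). -/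
theorem result {G : Type*} [Group G] [Finite G] (hG : Cfsg.IsMinSimpleOddOrder G)
    (M : Subgroup G) (hM : IsCoatom M) (E : Subgroup G) (hE : Cfsg.IsComplIn E (Cfsg.sigmaCore M) M) (p : ℕ) [Fact p.Prime] (hp : p ∈ Cfsg.tau2 M) (A : Subgroup G) (hA : (A ≤ E ∧ Cfsg.IsElementaryAbelian p A ∧ Nat.card A = p ^ 2)) :
    (E ≤ Subgroup.normalizer (A : Set G) ∧ ∀ X : Subgroup G, X ≤ E → Nat.card X = p → X ≤ A) ∧
      (Subgroup.centralizer (A : Set G) ≤ M ⊓ Subgroup.normalizer (A : Set G) ∧ M ⊓ Subgroup.normalizer (A : Set G) = E ∧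
        ¬ Subgroup.normalizer (A : Set G) ≤ M) ∧
      ∀ X : Subgroup G, X ≤ A → Nat.card X = p → Cfsg.sigmaCore M ⊓ Subgroup.centralizer (X : Set G) ≠ ⊥ → (Subgroup.centralizer (X : Set G) ≤ M ∧ ∀ L : Subgroup G, IsCoatom L → Subgroup.centralizer (X : Set G) ≤ L → L = M) := by
  obtain ⟨hAE, hAe, hA2⟩ := hA
  have hAM : A ≤ M := hAE.trans hE.1
  obtain ⟨A₀, hexc⟩ := CfsgLib.MinSimpleOdd.exists_exc hG hM hp hAM hAe hA2
  obtain ⟨P, hAP, hPM, hPp, hPi⟩ := CfsgLib.MinSimpleOdd.exists_sylow_ge hAM hexc.two.isPGroup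
  obtain ⟨hom, hfix, -⟩ := hexc.structure' hG hM hAP hPM hPp hPi
  have hMN : M ≤ Subgroup.normalizer (Cfsg.sigmaCore M : Set G) :=
    CfsgLib.MinSimpleOdd.le_normalizer_sigmaCore hG hM le_rfl
  have hn := hexc.normal hG hM
  have hEint : (Cfsg.sigmaCore M ⊔ A) ⊓ E ≤ A := by
    rintro x ⟨hx, hxE⟩
    obtain ⟨s, hs, a, ha, rfl⟩ := Set.mem_mul.mp
      ((Subgroup.coe_mul_of_right_le_normalizer_left (Cfsg.sigmaCore M) A (hAM.trans hMN)) ▸ hx :
        x ∈ (Cfsg.sigmaCore M : Set G) * (A : Set G))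
    have hsE : s ∈ E := (Subgroup.mul_mem_cancel_right E (hAE ha)).mp hxE
    have := hE.2.2.1.le ⟨hsE, hs⟩
    rw [Subgroup.mem_bot] at this
    rwa [this, one_mul]
  have hEN : E ≤ Subgroup.normalizer (A : Set G) := fun e he =>
    CfsgLib.MinSimpleOdd.mem_normalizer_of_conj_smul (Subgroup.eq_of_le_of_card_ge (by
      rintro _ ⟨a, ha, rfl⟩
      refine hEint ⟨(Subgroup.mem_normalizer_iff.mp (hn (hE.1 he)) a).mp (Subgroup.mem_sup_right ha), ?_⟩
      exact mul_mem (mul_mem he (hAE ha)) (E.inv_mem he)) (CfsgLib.card_conj_smul e A).ge)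
  refine ⟨⟨hEN, fun X hXE hX => ?_⟩, ⟨le_inf hexc.centralizer_le (Subgroup.centralizer_le_normalizer _), ?_, ?_⟩,
    fun X hXA hX hne => ?_⟩
  · have hXp : IsPGroup p X := IsPGroup.of_card (n := 1) (by rw [hX, pow_one])
    obtain ⟨R, hR, hRM, hRp, hRi⟩ := CfsgLib.MinSimpleOdd.exists_sylow_ge
      (sup_le hAM (hXE.trans hE.1)) (hexc.two.isPGroup.to_sup_of_normal_left' hXp (hXE.trans hEN))
    obtain ⟨hom', -, -⟩ := hexc.structure' hG hM (le_sup_left.trans hR) hRM hRp hRi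
    intro x hx
    refine (hom' x (hR (Subgroup.mem_sup_right hx))).mp ?_
    have h1 : (⟨x, hx⟩ : X) ^ p = 1 := hX ▸ pow_card_eq_one'
    exact congrArg Subtype.val h1
  · refine le_antisymm ?_ (le_inf hE.1 hEN)
    rintro m ⟨hmM, hmA⟩
    obtain ⟨e, he, s, hs, rfl⟩ := hE.2.2.2 m hmM
    have hsA : s ∈ Subgroup.normalizer (A : Set G) :=
      (Subgroup.mul_mem_cancel_left (H := Subgroup.normalizer (A : Set G)) (hEN he)).mp hmA
    have hsC : s ∈ Cfsg.sigmaCore M ⊓ Subgroup.centralizer (A : Set G) := by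
      refine ⟨hs, fun a ha => ?_⟩
      have h1 : a * s * a⁻¹ * s⁻¹ ∈ Cfsg.sigmaCore M :=
        mul_mem ((Subgroup.mem_normalizer_iff.mp (hMN (hAM ha)) s).mp hs) (inv_mem hs)
      have h2 : a * s * a⁻¹ * s⁻¹ ∈ A := by
        rw [show a * s * a⁻¹ * s⁻¹ = a * (s * a⁻¹ * s⁻¹) by group]
        exact mul_mem ha ((Subgroup.mem_normalizer_iff.mp hsA a⁻¹).mp (inv_mem ha))
      have h3 : a * s * a⁻¹ * s⁻¹ = 1 := by
        have := (disjoint_iff.mp (Subgroup.disjoint_of_coprime_natCard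
          (CfsgLib.MinSimpleOdd.coprime_sigmaCore hG hM hexc.notσ hexc.two.isPGroup le_rfl))).le ⟨h2, h1⟩
        rwa [Subgroup.mem_bot] at this
      rwa [mul_inv_eq_one, mul_inv_eq_iff_eq_mul] at h3
    rw [hfix, Subgroup.mem_bot] at hsC
    rw [hsC, mul_one]
    exact he
  · intro hle
    obtain ⟨g, hgP, hgM⟩ := hexc.exists_move hG hM hPM hPp hPi
    refine hgM (hle (CfsgLib.MinSimpleOdd.mem_normalizer_of_conj_smul
      (Subgroup.eq_of_le_of_card_ge ?_ (CfsgLib.card_conj_smul g A).ge)))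
    intro y hy
    exact (hom y (((CfsgLib.MinSimpleOdd.conj_smul_mono hAP g).trans
      (CfsgLib.MinSimpleOdd.conj_smul_eq_of_mem_normalizer hgP).le) hy)).mp ((hexc.two.conj g).1.2 y hy)
  · have hAC : A ≤ Subgroup.centralizer (X : Set G) := fun a ha b hb =>
      congrArg Subtype.val (hAe.1.is_comm.comm ⟨b, hXA hb⟩ ⟨a, ha⟩)
    have key : ∀ L : Subgroup G, IsCoatom L → Subgroup.centralizer (X : Set G) ≤ L → L = M := fun L hL hle => by
      by_contra hLM
      exact hne (le_bot_iff.mp ((inf_le_inf_left _ hle).trans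
        (CfsgLib.MinSimpleOdd.sigma_meet_bot hG hM hp hAM hAe hA2 hL hLM (hAC.trans hle)).le))
    obtain ⟨L, hL, hle⟩ := CfsgLib.MinSimpleOdd.exists_coatom_ge
      (CfsgLib.MinSimpleOdd.centralizer_subgroup_ne_top hG (A := X) fun e => by
        rw [e, Subgroup.card_bot] at hX
        exact (Fact.out : p.Prime).one_lt.ne hX)
    exact ⟨key L hL hle ▸ hle, key⟩

end Cfsg.Agent.S1418
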