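import Cfsg.Statements.S1451
import Mathlib
import Cfsg.Agent.Lib.OddLocal.RankTwoTower
-- import your own Cfsg.Agent.* helpers here

set_option autoImplicit false
open Cfsg

namespace Cfsg.Agent.S1451

/-- Let G be a solvable group of odd order such that G, or its Fitting subgroup, has no elementary abelian subgroup of order q ^ 3 for any prime q. Then G' is nilpotent; for every Sylow subgroup S of G, every characteristic subgroup T of S with T ≤ [S, S] is normal in G; and for every prime p, G has a characteristic subgroup that is a Hall subgroup for the set of primes greater than p. -/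
theorem result {G : Type*} [Group G] [Finite G] [Group.IsSolvable G] (hodd : Odd (Nat.card G)) (hr : Cfsg.RankLE 2 G ∨ Cfsg.RankLE 2 (Cfsg.fittingSubgroup G)) :
    Group.IsNilpotent ↥(commutator G) ∧
      (∀ (q : ℕ) [Fact q.Prime] (S : Sylow q G) (T : Subgroup ↥(S : Subgroup G)), T.Characteristic → T.map (S : Subgroup G).subtype ≤ ⁅(S : Subgroup G), (S : Subgroup G)⁆ →
        (T.map (S : Subgroup G).subtype).Normal) ∧
      ∀ p : ℕ, ∃ N : Subgroup G, N.Characteristic ∧ Cfsg.IsPiHall {q | q.Prime ∧ p < q} N := by
  have hrF : ∀ q : ℕ, q.Prime → Cfsg.PRankLE q 2 ↥(Cfsg.pCore q G) := by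
    intro q hq
    rcases hr with h | h
    · exact CfsgLib.RankTwoTower.pRankLE_of_injective (Cfsg.pCore q G).subtype Subtype.val_injective (h q hq)
    · exact CfsgLib.RankTwoTower.pRankLE_of_injective (Subgroup.inclusion (CfsgLib.pCore_le_fittingSubgroup hq))
        (Subgroup.inclusion_injective _) (h q hq)
  have hrF' := fun q hq => CfsgLib.RankTwoTower.small_of_rank (hrF q hq)
  exact ⟨CfsgLib.RankTwoTower.derived_nilpotent hodd hrF',
    fun q _ S T hT hle => CfsgLib.RankTwoTower.char_le_derived_normal hodd hrF' q S T hT hle,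
    fun p => CfsgLib.RankTwoTower.exists_hall hodd hrF' p⟩

end Cfsg.Agent.S1451
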