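import Cfsg.Statements.S1446
import Mathlib
import Cfsg.Agent.Lib.FrobAction.PrimeComplement
import Cfsg.Agent.Lib.PGroup.MetacyclicAction
-- import your own Cfsg.Agent.* helpers here

set_option autoImplicit false
open Cfsg

namespace Cfsg.Agent.S1446

open scoped commutatorElement

/-- Let X be a finite group with subgroups K, R, M such that: K and R are nontrivial, K ∩ R = 1, R normalizes K, no non-identity element of R centralizes a non-identity element of K, K ⊔ R is solvable of odd order; M is nilpotent and nontrivial, normalized by K and by R, with order coprime to that of K ⊔ R, M ∩ C(K) = 1, and M ∩ C(x) = M ∩ C(R) for all non-identity x ∈ R. Then R has prime order p, #M = #(M ∩ C(R)) ^ p, and if M ∩ C(R) is cyclic then [K, K] centralizes M. -/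
theorem result {X : Type*} [Group X] [Finite X] (K R M : Subgroup X) (hK1 : K ≠ ⊥) (hR1 : R ≠ ⊥) (hKR : K ⊓ R = ⊥)
    (hRK : R ≤ Subgroup.normalizer (K : Set X)) (hfrob : ∀ r ∈ R, r ≠ 1 → K ⊓ Subgroup.centralizer ({r} : Set X) = ⊥)
    (hsolv : Group.IsSolvable ↥(K ⊔ R)) (hodd : Odd (Nat.card ↥(K ⊔ R)))
    (hM1 : M ≠ ⊥) (hMn : Group.IsNilpotent M) (hKM : K ≤ Subgroup.normalizer (M : Set X)) (hRM : R ≤ Subgroup.normalizer (M : Set X))
    (hcop : (Nat.card ↥(K ⊔ R)).Coprime (Nat.card M)) (hCK : M ⊓ Subgroup.centralizer (K : Set X) = ⊥)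
    (hpr : ∀ x ∈ R, x ≠ 1 → M ⊓ Subgroup.centralizer ({x} : Set X) = M ⊓ Subgroup.centralizer (R : Set X)) :
    (Nat.card R).Prime ∧ Nat.card M = Nat.card ↥(M ⊓ Subgroup.centralizer (R : Set X)) ^ Nat.card R ∧
      (IsCyclic ↥(M ⊓ Subgroup.centralizer (R : Set X)) → ⁅K, K⁆ ≤ Subgroup.centralizer (M : Set X)) := by
  classical
  have hfpf : ∀ e ∈ R, e ≠ 1 → ∀ u ∈ K, e * u = u * e → u = 1 := by
    intro e he he1 u hu hcomm
    have h : u ∈ K ⊓ Subgroup.centralizer ({e} : Set X) :=
      Subgroup.mem_inf.2 ⟨hu, Subgroup.mem_centralizer_singleton_iff.2 hcomm.symm⟩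
    rw [hfrob e he he1] at h
    exact Subgroup.mem_bot.1 h
  haveI hKnil : Group.IsNilpotent K := CfsgLib.FrobAction.isNilpotent_of_fpf_operators K R hR1 hRK hfpf
  have hMs : Group.IsSolvable M := by
    haveI := hMn
    infer_instance
  have hbot : ∀ E : Subgroup X, M ⊓ Subgroup.centralizer ((K ⊔ E : Subgroup X) : Set X) = ⊥ := fun E =>
    eq_bot_iff.2 ((inf_le_inf_left M (Subgroup.centralizer_le (fun _ hx => Subgroup.mem_sup_left hx))).trans hCK.le)
  have hform : Nat.card M = Nat.card ↥(M ⊓ Subgroup.centralizer (R : Set X)) ^ Nat.card R := by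
    have h := CfsgLib.FrobAction.order_formula K R hRK hfpf M (sup_le hKM hRM) hcop hMs
    rw [hbot R, hCK, Subgroup.card_bot, one_pow, one_mul, mul_one] at h
    exact h
  have hc1 : 1 < Nat.card ↥(M ⊓ Subgroup.centralizer (R : Set X)) := by
    by_contra h
    have h1 : Nat.card ↥(M ⊓ Subgroup.centralizer (R : Set X)) = 1 := by
      have : 0 < Nat.card ↥(M ⊓ Subgroup.centralizer (R : Set X)) := Nat.card_pos
      omega
    rw [h1, one_pow] at hform
    exact hM1 (Subgroup.eq_bot_of_card_eq _ hform)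
  refine ⟨?_, hform, fun hcyc => ?_⟩
  · have hne : Nat.card R ≠ 1 := fun h => hR1 (Subgroup.eq_bot_of_card_eq _ h)
    obtain ⟨q, hq, hqd⟩ := Nat.exists_prime_and_dvd hne
    haveI : Fact q.Prime := ⟨hq⟩
    obtain ⟨r, hr⟩ := exists_prime_orderOf_dvd_card' (G := R) q hqd
    set R1 := Subgroup.zpowers (r : X) with hR1def
    have hR1R : R1 ≤ R := Subgroup.zpowers_le.2 r.2
    have hcard : Nat.card R1 = q := by rw [Nat.card_zpowers, Subgroup.orderOf_coe, hr]
    have hr1 : (r : X) ≠ 1 := fun h => by
      rw [← Subgroup.orderOf_coe, h, orderOf_one] at hr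
      exact hq.one_lt.ne hr
    have heq : M ⊓ Subgroup.centralizer (R1 : Set X) = M ⊓ Subgroup.centralizer (R : Set X) := by
      rw [← hpr (r : X) r.2 hr1, hR1def, Subgroup.zpowers_eq_closure, Subgroup.centralizer_closure]
    have h := CfsgLib.FrobAction.order_formula K R1 (hR1R.trans hRK) (fun e he he1 u hu => hfpf e (hR1R he) he1 u hu) M
      (sup_le hKM (hR1R.trans hRM)) (hcop.coprime_dvd_left (Subgroup.card_dvd_of_le (sup_le_sup_left hR1R K))) hMs
    rw [hbot R1, hCK, heq, Subgroup.card_bot, one_pow, one_mul, mul_one, hcard, hform] at h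
    rw [Nat.pow_right_injective hc1 h]
    exact hq
  · set D := (⁅K, K⁆ : Subgroup X) with hD
    set S := (Subgroup.centralizer (D : Set X)).subgroupOf M with hS
    have hidx : S.index = 1 := by
      by_contra hne
      obtain ⟨p, hp, hpd⟩ := Nat.exists_prime_and_dvd hne
      haveI : Fact p.Prime := ⟨hp⟩
      let P : Sylow p M := default
      refine P.not_dvd_index (hpd.trans (Subgroup.index_dvd_of_le ?_))
      have hall : ∀ (r : ℕ) (_ : Fact r.Prime) (T : Sylow r ↥M), (T : Subgroup ↥M).Normal :=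
        ((Group.isNilpotent_of_finite_tfae (G := ↥M)).out 0 3).mp hMn
      haveI hPn : (P : Subgroup M).Normal := hall p inferInstance P
      haveI hPch : (P : Subgroup M).Characteristic := Sylow.characteristic_of_normal P hPn
      set P' := (P : Subgroup M).map M.subtype with hP'
      have hKP : K ≤ Subgroup.normalizer (P' : Set X) := (CfsgLib.le_normalizer_map_characteristic hKM (P : Subgroup M)).1
      have hRP : R ≤ Subgroup.normalizer (P' : Set X) := (CfsgLib.le_normalizer_map_characteristic hRM (P : Subgroup M)).1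
      have hP'p : IsPGroup p P' := P.2.map _
      set N := Subgroup.normalizer (P' : Set X) with hN
      have hP'N : P' ≤ N := Subgroup.le_normalizer
      set Φ0 := (frattini P').map P'.subtype with hΦ0
      have hΦP : Φ0 ≤ P' := Subgroup.map_subtype_le _
      obtain ⟨hΦN, hPΦ⟩ : N ≤ Subgroup.normalizer (Φ0 : Set X) ∧ P' ≤ Subgroup.normalizer (Φ0 : Set X) :=
        CfsgLib.le_normalizer_map_characteristic (le_refl N) (frattini P')
      haveI hΦn : (Φ0.subgroupOf N).Normal := (Subgroup.normal_subgroupOf_iff_le_normalizer (hΦP.trans hP'N)).2 hΦN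
      set π := QuotientGroup.mk' (Φ0.subgroupOf N) with hπ
      have hker : ∀ n : N, π n = 1 ↔ (n : X) ∈ Φ0 := fun n => (QuotientGroup.eq_one_iff n).trans Subgroup.mem_subgroupOf
      set Kb := (K.subgroupOf N).map π with hKb
      set Rb := (R.subgroupOf N).map π with hRb
      set Vb := (P'.subgroupOf N).map π with hVb
      have hfrat : ∀ x y : P', ⁅x, y⁆ ∈ frattini P' ∧ x ^ p ∈ frattini P' := by
        intro x y
        constructor
        · refine Subgroup.mem_iInf.2 fun C => Subgroup.mem_iInf.2 fun hC => ?_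
          have hall' : ∀ H : Subgroup P', IsCoatom H → H.Normal :=
            ((Group.isNilpotent_of_finite_tfae (G := ↥P')).out 0 2).mp hP'p.isNilpotent
          haveI := hall' C hC
          by_cases hxC : x ∈ C
          · rw [commutatorElement_def, mul_assoc x y x⁻¹, mul_assoc]
            exact mul_mem hxC ((inferInstance : C.Normal).conj_mem _ (inv_mem hxC) y)
          · have htop : C ⊔ Subgroup.zpowers x = ⊤ := hC.2 _ (lt_of_le_of_ne le_sup_left
              (fun h => hxC (h.ge (Subgroup.mem_sup_right (Subgroup.mem_zpowers _)))))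
            obtain ⟨c, hc, w, hw, hcw⟩ := Subgroup.mem_sup_of_normal_left.1 (htop.ge (Subgroup.mem_top y))
            obtain ⟨k, rfl⟩ := Subgroup.mem_zpowers_iff.1 hw
            rw [← QuotientGroup.eq_one_iff, ← hcw]
            show QuotientGroup.mk' C ⁅x, c * x ^ k⁆ = 1
            rw [map_commutatorElement, map_mul, show QuotientGroup.mk' C c = 1 from (QuotientGroup.eq_one_iff c).2 hc,
              one_mul, map_zpow, commutatorElement_eq_one_iff_mul_comm]
            exact ((Commute.refl _).zpow_right k).eq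
        · exact Subgroup.mem_iInf.2 fun C => Subgroup.mem_iInf.2 fun hC => CfsgLib.MetaAction.pow_mem_coatom hP'p hC x
      have hVcomm : IsMulCommutative Vb := by
        refine ⟨⟨?_⟩⟩
        rintro ⟨_, a, ha, rfl⟩ ⟨_, b, hb, rfl⟩
        refine Subtype.ext ?_
        show π a * π b = π b * π a
        rw [← commutatorElement_eq_one_iff_mul_comm, ← map_commutatorElement, hker]
        exact ⟨_, (hfrat ⟨(a : X), ha⟩ ⟨(b : X), hb⟩).1, by rw [map_commutatorElement]; exact (map_commutatorElement N.subtype a b).symm⟩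
      have hVp : ∀ v ∈ Vb, v ^ p = 1 := by
        rintro _ ⟨a, ha, rfl⟩
        rw [← map_pow, hker]
        exact ⟨_, (hfrat ⟨(a : X), ha⟩ 1).2, by simp⟩
      have hKRN : K ⊔ R ≤ N := sup_le hKP hRP
      have hcopP : (Nat.card ↥(K ⊔ R)).Coprime (Nat.card P') :=
        hcop.coprime_dvd_right (Subgroup.card_dvd_of_le (Subgroup.map_subtype_le _))
      have hdisj : ∀ x ∈ K ⊔ R, x ∈ P' → x = 1 := fun x hx hxP =>
        Subgroup.disjoint_def.1 (Subgroup.disjoint_of_coprime_natCard hcopP) hx hxP
      have hRKb : Rb ≤ Subgroup.normalizer (Kb : Set (N ⧸ Φ0.subgroupOf N)) := by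
        refine le_trans (Subgroup.map_mono ?_) (Subgroup.le_normalizer_map π)
        rintro ⟨r, hrN⟩ hr
        rw [Subgroup.mem_normalizer_iff]
        intro n
        exact Subgroup.mem_normalizer_iff.1 (hRK hr) (n : X)
      have hVnorm : ∀ S : Subgroup X, S.subgroupOf N ≤ Subgroup.normalizer ((P'.subgroupOf N : Subgroup N) : Set N) := by
        rintro S ⟨g, hgN⟩ -
        rw [Subgroup.mem_normalizer_iff]
        intro n
        exact Subgroup.mem_normalizer_iff.1 hgN (n : X)
      have hfpfb : ∀ e ∈ Rb, e ≠ 1 → ∀ u ∈ Kb, e * u = u * e → u = 1 := by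
        rintro _ ⟨e, he, rfl⟩ he1 _ ⟨u, hu, rfl⟩ h
        rw [← commutatorElement_eq_one_iff_mul_comm, ← map_commutatorElement, hker] at h
        have hm : ((⁅e, u⁆ : N) : X) ∈ K ⊔ R := by
          rw [commutatorElement_def]
          push_cast
          exact mul_mem (mul_mem (mul_mem (Subgroup.mem_sup_right he) (Subgroup.mem_sup_left hu))
            (inv_mem (Subgroup.mem_sup_right he))) (inv_mem (Subgroup.mem_sup_left hu))
        have h1 : (⁅e, u⁆ : N) = 1 := Subtype.ext (hdisj _ hm (hΦP h))
        have h2 : (e : X) ≠ 1 := fun hh => he1 (by rw [show e = 1 from Subtype.ext hh, map_one])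
        have h3 := hfpf e he h2 u hu (congrArg Subtype.val (commutatorElement_eq_one_iff_mul_comm.1 h1))
        rw [show u = 1 from Subtype.ext h3, map_one]
      haveI hKbn : Group.IsNilpotent Kb := by
        haveI : Group.IsNilpotent ↥(K.subgroupOf N) :=
          Group.nilpotent_of_surjective (Subgroup.subgroupOfEquivOfLe hKP).symm.toMonoidHom (MulEquiv.surjective _)
        exact Group.nilpotent_of_surjective (π.subgroupMap (K.subgroupOf N)) (MonoidHom.subgroupMap_surjective _ _)
      have hfix : ∀ S : Subgroup X, S ≤ K ⊔ R → ∀ v ∈ Vb ⊓ Subgroup.centralizer (((S.subgroupOf N).map π : Subgroup _) : Set (N ⧸ Φ0.subgroupOf N)),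
          ∃ c : N, (c : X) ∈ P' ⊓ Subgroup.centralizer (S : Set X) ∧ π c = v := by
        intro S hS v hv
        obtain ⟨⟨w, hwP, rfl⟩, hvC⟩ := Subgroup.mem_inf.1 hv
        have hs : Group.IsSolvable P' := by
          haveI := hP'p.isNilpotent
          infer_instance
        obtain ⟨c, hc, hwc⟩ := CfsgLib.coprime_fixed_quotient (A := S) (K := P') (N := Φ0)
          ((hS.trans hKRN).trans le_rfl) (hcopP.coprime_dvd_left (Subgroup.card_dvd_of_le hS)) (Or.inr hs) hΦP hPΦ
          ((hS.trans hKRN).trans hΦN) (k := (w : X)) hwP (fun a ha => by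
            have h := hvC (π ⟨a, hKRN (hS ha)⟩) ⟨⟨a, hKRN (hS ha)⟩, ha, rfl⟩
            rw [← commutatorElement_eq_one_iff_mul_comm, ← map_commutatorElement, hker] at h
            simpa [commutatorElement_def] using h)
        refine ⟨⟨c, hP'N (Subgroup.mem_inf.1 hc).1⟩, hc, ?_⟩
        symm
        rw [← inv_mul_eq_one, ← map_inv, ← map_mul, hker]
        exact hwc
      have hKb : Kb ⊔ Rb = ((K ⊔ R).subgroupOf N).map π := by
        rw [Subgroup.subgroupOf_sup hKP hRP, Subgroup.map_sup]
      have hcopb : (Nat.card ↥(Kb ⊔ Rb)).Coprime (Nat.card Vb) := by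
        rw [hKb]
        refine (hcopP.coprime_dvd_left ?_).coprime_dvd_right ?_
        · exact (Subgroup.card_map_dvd _ _).trans (Nat.card_congr (Subgroup.subgroupOfEquivOfLe hKRN).toEquiv).dvd
        · exact (Subgroup.card_map_dvd _ _).trans (Nat.card_congr (Subgroup.subgroupOfEquivOfLe hP'N).toEquiv).dvd
      have hCKb : Vb ⊓ Subgroup.centralizer (Kb : Set (N ⧸ Φ0.subgroupOf N)) = ⊥ := by
        rw [eq_bot_iff]
        intro v hv
        obtain ⟨c, hc, rfl⟩ := hfix K le_sup_left v hv
        have h1 : (c : X) ∈ M ⊓ Subgroup.centralizer (K : Set X) :=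
          Subgroup.mem_inf.2 ⟨Subgroup.map_subtype_le _ (Subgroup.mem_inf.1 hc).1, (Subgroup.mem_inf.1 hc).2⟩
        rw [hCK, Subgroup.mem_bot] at h1
        rw [Subgroup.mem_bot, show c = 1 from Subtype.ext h1, map_one]
      have hCRb : Nat.card ↥(Vb ⊓ Subgroup.centralizer (Rb : Set (N ⧸ Φ0.subgroupOf N))) ≤ p := by
        set W := Vb ⊓ Subgroup.centralizer (Rb : Set (N ⧸ Φ0.subgroupOf N)) with hW
        set C := (M ⊓ Subgroup.centralizer (R : Set X)) with hC
        set U := P' ⊓ Subgroup.centralizer (R : Set X) with hU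
        haveI : IsCyclic U := isCyclic_of_injective (Subgroup.inclusion (show U ≤ C from
          inf_le_inf_right _ (Subgroup.map_subtype_le _))) (Subgroup.inclusion_injective _)
        let g : U →* N ⧸ Φ0.subgroupOf N := π.comp (Subgroup.inclusion (inf_le_left.trans hP'N : U ≤ N))
        haveI : IsCyclic g.range := isCyclic_of_surjective g.rangeRestrict g.rangeRestrict_surjective
        have hle : W ≤ g.range := by
          intro v hv
          obtain ⟨c, hc, rfl⟩ := hfix R le_sup_right v hv
          exact ⟨⟨c, hc⟩, rfl⟩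
        haveI : IsCyclic W := isCyclic_of_injective (Subgroup.inclusion hle) (Subgroup.inclusion_injective _)
        obtain ⟨w, hw⟩ := (inferInstance : IsCyclic W).exists_generator
        rw [← Subgroup.card_top, ← (eq_top_iff.2 fun x _ => hw x : Subgroup.zpowers w = ⊤), Nat.card_zpowers]
        refine Nat.le_of_dvd hp.pos (orderOf_dvd_of_pow_eq_one (Subtype.ext ?_))
        rw [Subgroup.coe_pow, hVp _ (Subgroup.mem_inf.1 w.2).1]
        rfl
      haveI := hVcomm
      have hder := CfsgLib.FrobPrime.derived_centralizes p Kb Rb Vb hVp hKbn hRKb hfpfb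
        ((Subgroup.map_mono (hVnorm K)).trans (Subgroup.le_normalizer_map π))
        ((Subgroup.map_mono (hVnorm R)).trans (Subgroup.le_normalizer_map π)) hcopb hCKb hCRb
      have hDK : D ≤ K := by
        rw [hD, Subgroup.commutator_le]
        intro a ha b hb
        rw [commutatorElement_def]
        exact mul_mem (mul_mem (mul_mem ha hb) (inv_mem ha)) (inv_mem hb)
      have hcen : D ≤ Subgroup.centralizer (P' : Set X) := by
        refine CfsgLib.centralize_of_trivial_mod_frattini (hDK.trans hKP) ?_ fun a ha k hk => ?_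
        · exact (hcopP.coprime_dvd_left (Subgroup.card_dvd_of_le (hDK.trans le_sup_left))).coprime_dvd_right
            (Subgroup.card_subgroup_dvd_card _)
        have haN : a ∈ N := hKP (hDK ha)
        have h1 : π ⟨a, haN⟩ ∈ ⁅Kb, Kb⁆ := by
          rw [← Subgroup.map_commutator]
          refine ⟨⟨a, haN⟩, ?_, rfl⟩
          have h2 : (⁅K.subgroupOf N, K.subgroupOf N⁆).map N.subtype = D := by
            rw [Subgroup.map_commutator, Subgroup.map_subgroupOf_eq_of_le hKP]
          obtain ⟨a', ha', he⟩ := h2.ge ha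
          exact (Subtype.ext he : a' = ⟨a, haN⟩) ▸ ha'
        have h3 := hder h1 (π ⟨k, hP'N hk⟩) ⟨⟨k, hP'N hk⟩, hk, rfl⟩
        have h4 : π (⟨a, haN⟩ * ⟨k, hP'N hk⟩ * (⟨a, haN⟩ : N)⁻¹ * (⟨k, hP'N hk⟩ : N)⁻¹) = 1 := by
          rw [map_mul, map_mul, map_mul, map_inv, map_inv, ← h3, mul_inv_cancel_right, mul_inv_cancel]
        exact (hker _).1 h4
      intro m hm
      rw [Subgroup.mem_subgroupOf]
      exact Subgroup.le_centralizer_iff.1 hcen ⟨m, hm, rfl⟩
    exact Subgroup.le_centralizer_iff.1 (Subgroup.subgroupOf_eq_top.1 (Subgroup.index_eq_one.1 hidx))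

end Cfsg.Agent.S1446
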