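import Cfsg.Statements.S1450
import Mathlib
import Cfsg.Agent.Lib.OddLocal.PStructure
-- import your own Cfsg.Agent.* helpers here

set_option autoImplicit false
open Cfsg

namespace Cfsg.Agent.S1450

/-- Let G be a solvable group of odd order, p a prime dividing its order with G having no elementary abelian subgroup of order p ^ 3. Then every prime dividing the index of O_{p'}(G) is at most p; if p = 3 or p is the smallest prime divisor of #G then G has a normal p-complement; the derived subgroup G' has a normal p-complement; every subgroup of G' of order coprime to p lies in O_{p'}(G'); and G/O_{p',p}(G) is abelian of order coprime to p. -/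
theorem result {G : Type*} [Group G] [Finite G] [Group.IsSolvable G] (hodd : Odd (Nat.card G)) (p : ℕ) [Fact p.Prime] (hpG : p ∣ Nat.card G) (hr : Cfsg.PRankLE p 2 G) :
    (∀ q : ℕ, q.Prime → q ∣ (Cfsg.pPrimeCore p G).index → q ≤ p) ∧
      ((p = 3 ∨ ∀ q : ℕ, q.Prime → q ∣ Nat.card G → p ≤ q) → Cfsg.HasNormalPComplement p G) ∧
      Cfsg.HasNormalPComplement p ↥(commutator G) ∧
      (∀ L : Subgroup ↥(commutator G), (Nat.card L).Coprime p → L ≤ Cfsg.pPrimeCore p ↥(commutator G)) ∧
      commutator G ≤ Cfsg.pPrimePCore p G ∧ ((Cfsg.pPrimePCore p G).index).Coprime p := by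
  have hp2 : p ≠ 2 := by
    intro h
    subst h
    exact (Nat.not_even_iff_odd.2 hodd) (even_iff_two_dvd.2 hpG)
  let S : Sylow p G := default
  have hrS : Cfsg.PRankLE p 2 ↥(S : Subgroup G) := by
    intro E hEc hEe
    rw [Nat.card_congr (E.equivMapOfInjective _ (S : Subgroup G).subtype_injective).toEquiv]
    refine hr _ ⟨⟨?_⟩⟩ ?_
    · rintro ⟨_, a, ha, rfl⟩ ⟨_, b, hb, rfl⟩
      exact Subtype.ext (congrArg Subtype.val (congrArg Subtype.val (hEc.is_comm.comm ⟨a, ha⟩ ⟨b, hb⟩)) :)
    · rintro _ ⟨a, ha, rfl⟩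
      exact congrArg Subtype.val (hEe a ha)
  have hoddQ : Odd (Nat.card (G ⧸ Cfsg.pPrimeCore p G)) := hodd.of_dvd_nat (Subgroup.card_quotient_dvd_card _)
  obtain ⟨h1, h2⟩ := CfsgLib.PStructure.derived_of_rank_two hoddQ hp2 (CfsgLib.pPrimeCore_quotient_eq_bot p)
    (CfsgLib.PStructure.pRank_pCore_quotient S _ (CfsgLib.card_pPrimeCore_coprime p) hrS)
  exact CfsgLib.PStructure.structure_of_derived hodd h1 h2

end Cfsg.Agent.S1450
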