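import Cfsg.Statements.S1457
import Mathlib
import Cfsg.Agent.Lib.OddLocal.Stable
import Cfsg.Agent.Lib.ZJ.Theorem
import Cfsg.Agent.Lib.ZJ.Center
-- import your own Cfsg.Agent.* helpers here

set_option autoImplicit false
open Cfsg

namespace Cfsg.Agent.S1457

open scoped commutatorElement

/-- Let G be a solvable group of odd order, p a prime, S a Sylow p-subgroup of G and A an abelian subgroup of S normal in S. Then A ≤ O_{p',p}(G). -/
theorem result {G : Type*} [Group G] [Finite G] [Group.IsSolvable G] (hodd : Odd (Nat.card G)) (p : ℕ) [Fact p.Prime] (S : Sylow p G) (A : Subgroup G) (hA : A ≤ (S : Subgroup G)) (hAc : IsMulCommutative A)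
    (hAn : (S : Subgroup G) ≤ Subgroup.normalizer (A : Set G)) :
    A ≤ Cfsg.pPrimePCore p G := by
  by_cases hp : p = 2
  · subst hp
    obtain ⟨k, hk⟩ := IsPGroup.exists_card_eq S.2
    have hk0 : k = 0 := by
      by_contra h
      exact hodd.not_two_dvd_nat ((hk ▸ dvd_pow_self 2 h).trans (Subgroup.card_subgroup_dvd_card _))
    rw [hk0, pow_zero] at hk
    rw [show (S : Subgroup G) = ⊥ from Subgroup.eq_bot_of_card_eq _ hk, le_bot_iff] at hA
    subst hA
    exact bot_le
  set N := Cfsg.pPrimeCore p G with hN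
  set π := QuotientGroup.mk' N with hπ
  have hπs : Function.Surjective π := QuotientGroup.mk'_surjective N
  intro a ha
  show π a ∈ Cfsg.pCore p (G ⧸ N)
  refine CfsgLib.OddStable.mem_pCore_of_quad (CfsgLib.OddStable.odd_quotient hodd N) hp
    (CfsgLib.pPrimeCore_quotient_eq_bot p) ?_ ?_
  · obtain ⟨k, hk⟩ := S.2 ⟨a, hA ha⟩
    refine ⟨k, ?_⟩
    rw [← map_pow, show a ^ p ^ k = 1 by simpa using congrArg Subtype.val hk, map_one]
  · have hO : Cfsg.pCore p (G ⧸ N) ≤ (S : Subgroup G).map π := CfsgLib.pCore_le_sylow (S.mapSurjective hπs)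
    have h1 : ⁅Cfsg.pCore p (G ⧸ N), Subgroup.zpowers (π a)⁆ ≤ A.map π := by
      refine (Subgroup.commutator_mono hO (Subgroup.zpowers_le.mpr (Subgroup.mem_map_of_mem π ha))).trans ?_
      rw [← Subgroup.map_commutator]
      refine Subgroup.map_mono ?_
      rw [Subgroup.commutator_le]
      intro x hx y hy
      rw [commutatorElement_def]
      exact A.mul_mem ((Subgroup.mem_normalizer_iff.mp (hAn hx) y).mp hy) (A.inv_mem hy)
    rw [eq_bot_iff, Subgroup.commutator_le]
    intro x hx y hy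
    rw [Subgroup.mem_bot, commutatorElement_eq_one_iff_mul_comm]
    obtain ⟨u, hu, rfl⟩ := h1 hx
    obtain ⟨v, hv, rfl⟩ := (Subgroup.zpowers_le.mpr (Subgroup.mem_map_of_mem π ha) hy : y ∈ A.map π)
    rw [← map_mul, ← map_mul]
    exact congrArg π (congrArg Subtype.val ((IsMulCommutative.is_comm (M := A)).comm ⟨u, hu⟩ ⟨v, hv⟩))

end Cfsg.Agent.S1457
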