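import Cfsg.Statements.S1458
import Mathlib
import Cfsg.Agent.Lib.OddLocal.Stable
import Cfsg.Agent.Lib.ZJ.Theorem
import Cfsg.Agent.Lib.ZJ.Center
-- import your own Cfsg.Agent.* helpers here

set_option autoImplicit false
open Cfsg

namespace Cfsg.Agent.S1458

/-- Let G be a solvable group of odd order, p a prime and S a Sylow p-subgroup of G. Then the subgroup generated by the centre of the Thompson subgroup of S and O_{p'}(G) is normal in G. -/
theorem result {G : Type*} [Group G] [Finite G] [Group.IsSolvable G] (hodd : Odd (Nat.card G)) (p : ℕ) [Fact p.Prime] (S : Sylow p G) :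
    (Cfsg.centerThompsonOf p (S : Subgroup G) ⊔ Cfsg.pPrimeCore p G).Normal := by
  rw [← CfsgLib.ZJ.zj_prime]
  by_cases hp : p = 2
  · subst hp
    obtain ⟨k, hk⟩ := IsPGroup.exists_card_eq S.2
    have hk0 : k = 0 := by
      by_contra h
      exact hodd.not_two_dvd_nat ((hk ▸ dvd_pow_self 2 h).trans (Subgroup.card_subgroup_dvd_card _))
    rw [hk0, pow_zero] at hk
    have hb : CfsgLib.ZJ.zj 2 (S : Subgroup G) = ⊥ :=
      le_bot_iff.mp ((CfsgLib.ZJ.zj_le 2 _).trans (Subgroup.eq_bot_of_card_eq _ hk).le)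
    rw [hb, bot_sup_eq]
    infer_instance
  set N := Cfsg.pPrimeCore p G with hN
  set π := QuotientGroup.mk' N with hπ
  have hπs : Function.Surjective π := QuotientGroup.mk'_surjective N
  have hinj : Set.InjOn π ((S : Subgroup G) : Set G) := by
    intro x hx y hy hxy
    have hmem : x⁻¹ * y ∈ N := QuotientGroup.eq.mp hxy
    have hS : x⁻¹ * y ∈ (S : Subgroup G) := mul_mem (inv_mem hx) hy
    obtain ⟨k, hk⟩ := IsPGroup.exists_card_eq S.2
    have hd : Disjoint (S : Subgroup G) N := Subgroup.disjoint_of_coprime_natCard (by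
      rw [hk]; exact ((CfsgLib.card_pPrimeCore_coprime (G := G) p).pow_right k).symm)
    exact inv_mul_eq_one.mp (Subgroup.disjoint_def.mp hd hS hmem)
  have hZ := CfsgLib.ZJ.zj_normal hp (Or.inr rfl)
    (CfsgLib.centralizer_pCore_le Fact.out (CfsgLib.pPrimeCore_quotient_eq_bot p))
    (CfsgLib.OddStable.quadStable (CfsgLib.OddStable.odd_quotient hodd N) hp) (S.mapSurjective hπs)
  rw [show ((S.mapSurjective hπs : Sylow p (G ⧸ N)) : Subgroup (G ⧸ N)) = (S : Subgroup G).map π from rfl,
    CfsgLib.ZJ.zj_map_of_injOn p π _ hinj] at hZ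
  haveI := hZ
  have h2 : ((CfsgLib.ZJ.zj p (S : Subgroup G)).map π).comap π = CfsgLib.ZJ.zj p (S : Subgroup G) ⊔ N := by
    rw [Subgroup.comap_map_eq, hπ, QuotientGroup.ker_mk']
  rw [← h2]
  exact Subgroup.normal_comap π

end Cfsg.Agent.S1458
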