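import Cfsg.Statements.S1448
import Mathlib
import Cfsg.Agent.Lib.PGroup.RankTwoCentral
import Cfsg.Agent.Lib.PGroup.RankTwoAut
-- import your own Cfsg.Agent.* helpers here

set_option autoImplicit false
open Cfsg

namespace Cfsg.Agent.S1448

open scoped commutatorElement

/-- Let G be a finite group, p an odd prime, R a nontrivial p-subgroup with no elementary abelian subgroup of order p ^ 3, and A a subgroup of odd order coprime to p normalizing R with [R, A] = R. Then 3 < p, and either R is abelian or R is generated by two elementwise-commuting subgroups R₁, R₂ with R₁ non-abelian of order p ^ 3 and exponent p, R₂ cyclic, and the elements of R₂ of order dividing p generating exactly [R₁, R₁]. -/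
theorem result {G : Type*} [Group G] [Finite G] (p : ℕ) [Fact p.Prime] (hp : p ≠ 2) (R A : Subgroup G) (hR : IsPGroup p R) (hR1 : R ≠ ⊥) (hr : Cfsg.PRankLE p 2 R)
    (hA : (A ≤ Subgroup.normalizer (R : Set G))) (hcop : (Nat.card A).Coprime p) (hAodd : Odd (Nat.card A)) (hRA : ⁅R, A⁆ = R) :
    3 < p ∧ (IsMulCommutative R ∨ ∃ R₁ R₂ : Subgroup G, R₁ ⊔ R₂ = R ∧ (∀ a ∈ R₁, ∀ b ∈ R₂, a * b = b * a) ∧
        ¬ IsMulCommutative R₁ ∧ Nat.card R₁ = p ^ 3 ∧ Monoid.exponent R₁ = p ∧ IsCyclic R₂ ∧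
        Subgroup.closure {x : G | x ∈ R₂ ∧ x ^ p = 1} = ⁅R₁, R₁⁆) := by
  classical
  have hpp := (Fact.out : p.Prime)
  let φ : A →* MulAut R := (Subgroup.normalizerMonoidHom R).comp (Subgroup.inclusion hA)
  have hgen : ∀ H : Subgroup R, (∀ a r, r⁻¹ * φ a r ∈ H) → H = ⊤ := by
    intro H hH
    have hle : R ≤ H.map R.subtype := by
      conv_lhs => rw [← hRA]
      rw [Subgroup.commutator_le]
      intro r hr' a ha
      refine ⟨(⟨r⁻¹, inv_mem hr'⟩ : R)⁻¹ * φ ⟨a, ha⟩ ⟨r⁻¹, inv_mem hr'⟩, hH _ _, ?_⟩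
      show r⁻¹⁻¹ * (a * r⁻¹ * a⁻¹) = ⁅r, a⁆
      rw [commutatorElement_def]
      group
    rw [eq_top_iff]
    intro s _
    obtain ⟨h, hh, heq⟩ := hle s.2
    exact (Subtype.ext heq : h = s) ▸ hh
  haveI : Finite (MulAut R) := Finite.of_injective (fun f => (f : R → R)) DFunLike.coe_injective
  have hp3 : 3 < p := by
    obtain ⟨a, ha⟩ : ∃ a : A, φ a ≠ 1 := by
      by_contra hall
      push_neg at hall
      have h := hgen ⊥ fun a r => by rw [hall a, MulAut.one_apply, inv_mul_cancel]; exact one_mem _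
      apply hR1
      rw [eq_bot_iff]
      intro r hr'
      have h1 := h.ge (Subgroup.mem_top (⟨r, hr'⟩ : R))
      rw [Subgroup.mem_bot] at h1 ⊢
      exact congrArg Subtype.val h1
    obtain ⟨q, hq, hqd⟩ := Nat.exists_prime_and_dvd (fun h => ha (orderOf_eq_one_iff.1 h) : orderOf (φ a) ≠ 1)
    have hqA : q ∣ Nat.card A := hqd.trans ((orderOf_map_dvd φ a).trans (orderOf_dvd_natCard a))
    have hqp : q ≠ p := by
      intro h
      subst h
      exact hq.one_lt.ne' (Nat.eq_one_of_dvd_coprimes hcop hqA dvd_rfl)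
    have hq2 : q ≠ 2 := by
      intro h
      subst h
      exact (Nat.not_even_iff_odd.2 hAodd) (even_iff_two_dvd.2 hqA)
    have h := (CfsgLib.PGroupRankTwo.aut_prime_dvd hp hR hr q hq hqp (hqd.trans (orderOf_dvd_natCard _))).2
    have := hq.two_le
    omega
  refine ⟨hp3, ?_⟩
  rcases CfsgLib.RankTwoCentral.central_product hp3 hR hr φ hcop hAodd hgen with h | ⟨W, C, hsup, hcomm, hnab, hW3, hWe, hCc, hΩ⟩
  · exact Or.inl ⟨⟨h⟩⟩
  refine Or.inr ⟨W.map R.subtype, C.map R.subtype, ?_, ?_, ?_, ?_, ?_, ?_, ?_⟩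
  · rw [← Subgroup.map_sup, hsup, ← MonoidHom.range_eq_map, Subgroup.range_subtype]
  · rintro _ ⟨a, ha, rfl⟩ _ ⟨b, hb, rfl⟩
    rw [← map_mul, hcomm a ha b hb, map_mul]
  · intro h
    obtain ⟨a, ha, b, hb, hab⟩ := hnab
    exact hab (Subtype.ext (congrArg Subtype.val (h.is_comm.comm
      (⟨a, ⟨a, ha, rfl⟩⟩ : W.map R.subtype) ⟨b, ⟨b, hb, rfl⟩⟩) :))
  · rw [← Nat.card_congr (W.equivMapOfInjective _ R.subtype_injective).toEquiv, hW3]
  · rw [← Monoid.exponent_eq_of_mulEquiv (W.equivMapOfInjective _ R.subtype_injective)]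
    rcases (Nat.dvd_prime hpp).1 (Monoid.exponent_dvd_of_forall_pow_eq_one (fun x : W => Subtype.ext (hWe x x.2))) with h | h
    · exfalso
      haveI := Monoid.exp_eq_one_iff.1 h
      rw [Nat.card_of_subsingleton (1 : W)] at hW3
      exact (Nat.one_lt_pow (by omega) hpp.one_lt).ne hW3
    · exact h
  · haveI := hCc
    exact isCyclic_of_surjective (C.equivMapOfInjective _ R.subtype_injective).toMonoidHom (MulEquiv.surjective _)
  · have h := congrArg (Subgroup.map R.subtype) hΩ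
    rw [MonoidHom.map_closure, Subgroup.map_commutator] at h
    rw [← h]
    congr 1
    ext x
    constructor
    · rintro ⟨⟨y, hy, rfl⟩, hxp⟩
      exact ⟨y, ⟨hy, Subtype.ext hxp⟩, rfl⟩
    · rintro ⟨y, ⟨hy, hyp⟩, rfl⟩
      exact ⟨⟨y, hy, rfl⟩, congrArg Subtype.val hyp⟩

end Cfsg.Agent.S1448
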