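import Cfsg.Statements.S1459
import Mathlib
import Cfsg.Agent.Lib.Basic
import Cfsg.Agent.Lib.Elementary
import Cfsg.Agent.Lib.Coprime
-- import your own Cfsg.Agent.* helpers here

set_option autoImplicit false
open Cfsg

namespace Cfsg.Agent.S1459

open scoped commutatorElement
universe u

private theorem part_one {G : Type u} [Group G] [Finite G] [Group.IsSolvable G] (H K : Subgroup G) (hHn : H.Normal)
    (hcop : (Nat.card H).Coprime H.index) (hc : Subgroup.IsComplement' H K) (hHG : H ≤ commutator G) :
    H = ⁅H, K⁆ ∧ H ⊓ Subgroup.centralizer (K : Set G) ≤ ⁅H, H⁆ := by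
  classical
  have hHK : ∀ g : G, ∃ h ∈ H, ∃ k ∈ K, g = h * k := fun g => by
    obtain ⟨⟨h, k⟩, e⟩ := hc.2 g
    exact ⟨h, h.2, k, k.2, e.symm⟩
  set M := ⁅H, K⁆ with hM
  have hMH : M ≤ H := Subgroup.commutator_le.mpr fun h hh k _ => by
    rw [commutatorElement_def, mul_assoc, mul_assoc]
    exact mul_mem hh (by rw [← mul_assoc]; exact hHn.conj_mem _ (inv_mem hh) k)
  have hMn : M.Normal := by
    rw [← Subgroup.normalizer_eq_top_iff, eq_top_iff]
    intro g _
    obtain ⟨h, hh, k, hk, rfl⟩ := hHK g
    exact mul_mem (CfsgLib.left_le_normalizer_commutator K H hh) (CfsgLib.right_le_normalizer_commutator K H hk)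
  set N := ⁅H, H⁆ ⊔ M with hN
  haveI : N.Normal := inferInstance
  have hNH : N ≤ H := sup_le (Subgroup.commutator_le.mpr fun a ha b hb => mul_mem (mul_mem (mul_mem ha hb) (inv_mem ha)) (inv_mem hb)) hMH
  -- modulo `N`, `H` is central
  let π := QuotientGroup.mk' N
  have hcen : ∀ h ∈ H, ∀ g, π h * π g = π g * π h := by
    intro h hh g
    obtain ⟨a, ha, k, hk, rfl⟩ := hHK g
    have h1 : Commute (π h) (π a) := by
      rw [← commutatorElement_eq_one_iff_commute, ← map_commutatorElement]
      exact (QuotientGroup.eq_one_iff _).mpr (Subgroup.mem_sup_left (Subgroup.commutator_mem_commutator hh ha))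
    have h2 : Commute (π h) (π k) := by
      rw [← commutatorElement_eq_one_iff_commute, ← map_commutatorElement]
      exact (QuotientGroup.eq_one_iff _).mpr (Subgroup.mem_sup_right (Subgroup.commutator_mem_commutator hh hk))
    rw [map_mul]
    exact (h1.mul_right h2).eq
  have hHN : H ≤ N := by
    have hle : commutator G ≤ (K.map π).comap π := by
      rw [commutator_def, Subgroup.commutator_le]
      intro g _ g' _
      obtain ⟨a, ha, k, hk, rfl⟩ := hHK g
      obtain ⟨a', ha', k', hk', rfl⟩ := hHK g'
      rw [Subgroup.mem_comap, map_commutatorElement]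
      refine ⟨⁅k, k'⁆, ?_, ?_⟩
      · exact mul_mem (mul_mem (mul_mem hk hk') (inv_mem hk)) (inv_mem hk')
      · rw [map_commutatorElement]
        have e1 := hcen a ha
        have e2 := hcen a' ha'
        symm
        have c1 : ∀ x, Commute (π a) (π x) := e1
        have c2 : ∀ x, Commute (π a') (π x) := e2
        have d2 : ∀ x, Commute (π a')⁻¹ (π x) := fun x => (c2 x).inv_left
        simp only [commutatorElement_def, map_mul, mul_inv_rev]
        calc π a * π k * (π a' * π k') * ((π k)⁻¹ * (π a)⁻¹) * ((π k')⁻¹ * (π a')⁻¹)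
            = π a * (π k * π a') * (π k' * (π k)⁻¹) * (π a)⁻¹ * (π k')⁻¹ * (π a')⁻¹ := by group
          _ = π a * π a' * (π k * π k' * (π k)⁻¹) * (π a)⁻¹ * (π k')⁻¹ * (π a')⁻¹ := by rw [← (c2 k).eq]; group
          _ = π a * (π a' * π (k * k' * k⁻¹)) * (π a)⁻¹ * (π k')⁻¹ * (π a')⁻¹ := by simp only [map_mul, map_inv]; group
          _ = π (a' * (k * k' * k⁻¹)) * (π k')⁻¹ * (π a')⁻¹ := by
            rw [← map_mul π a', (c1 _).eq, mul_inv_cancel_right]
          _ = π a' * π (k * k' * k⁻¹ * k'⁻¹) * (π a')⁻¹ := by simp only [map_mul, map_inv]; group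
          _ = π (k * k' * k⁻¹ * k'⁻¹) := by rw [(c2 _).eq, mul_inv_cancel_right]
          _ = _ := by simp only [map_mul, map_inv]
    intro h hh
    obtain ⟨k, hk, e⟩ := hle (hHG hh)
    have hkN : k⁻¹ * h ∈ N := (QuotientGroup.eq (s := N)).mp e
    have hkH : k ∈ H := by
      have := mul_mem hh (inv_mem (hNH hkN))
      rwa [mul_inv_rev, inv_inv, mul_inv_cancel_left] at this
    have : k = 1 := Subgroup.mem_bot.mp (hc.disjoint.le_bot (Subgroup.mem_inf.mpr ⟨hkH, hk⟩))
    rwa [this, inv_one, one_mul] at hkN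
  have hfirst : H = M := by
    refine le_antisymm ?_ hMH
    haveI : (M.subgroupOf H).Normal := hMn.subgroupOf H
    by_contra hne
    haveI : Nontrivial (H ⧸ M.subgroupOf H) := QuotientGroup.nontrivial_iff.mpr fun e => hne (Subgroup.subgroupOf_eq_top.mp e)
    haveI : Group.IsSolvable (H ⧸ M.subgroupOf H) := Group.isSolvable_of_surjective (QuotientGroup.mk'_surjective _)
    refine (Group.IsSolvable.commutator_lt_top_of_nontrivial (H ⧸ M.subgroupOf H)).ne ?_
    have hle : (⁅H, H⁆.subgroupOf H) ≤ commutator H := by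
      intro x hx
      have : (x : G) ∈ (commutator H).map H.subtype := by
        rw [commutator_def, Subgroup.map_commutator, ← MonoidHom.range_eq_map, Subgroup.range_subtype]; exact hx
      obtain ⟨y, hy, e⟩ := this
      exact Subtype.ext e ▸ hy
    rw [eq_top_iff]
    rintro q -
    obtain ⟨x, rfl⟩ := QuotientGroup.mk'_surjective (M.subgroupOf H) q
    obtain ⟨y, hy, m, hm, e⟩ := Subgroup.mem_sup_of_normal_right.mp (hHN x.2)
    have hyH : y ∈ H := hNH (Subgroup.mem_sup_left hy)
    have hmH : m ∈ H := hMH hm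
    rw [show x = ⟨y, hyH⟩ * ⟨m, hmH⟩ from Subtype.ext e.symm, map_mul,
      show QuotientGroup.mk' (M.subgroupOf H) ⟨m, hmH⟩ = 1 from (QuotientGroup.eq_one_iff _).mpr hm, mul_one]
    have := Subgroup.mem_map_of_mem (QuotientGroup.mk' (M.subgroupOf H)) (hle (show (⟨y, hyH⟩ : H) ∈ ⁅H, H⁆.subgroupOf H from hy))
    rw [commutator_def, Subgroup.map_commutator, Subgroup.map_top_of_surjective _ (QuotientGroup.mk'_surjective _)] at this
    exact this
  refine ⟨hfirst, fun x hx => ?_⟩
  obtain ⟨hxH, hxK⟩ := Subgroup.mem_inf.mp hx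
  haveI := Fintype.ofFinite K
  haveI : (⁅H, H⁆ : Subgroup G).Normal := inferInstance
  set D := ⁅H, H⁆.subgroupOf H with hD
  haveI : D.Normal := (inferInstance : (⁅H, H⁆ : Subgroup G).Normal).subgroupOf H
  letI : CommGroup (H ⧸ D) := { (inferInstance : Group (H ⧸ D)) with
    mul_comm := fun u v => by
      obtain ⟨u, rfl⟩ := QuotientGroup.mk'_surjective D u
      obtain ⟨v, rfl⟩ := QuotientGroup.mk'_surjective D v
      show Commute (QuotientGroup.mk' D u) (QuotientGroup.mk' D v)
      rw [← commutatorElement_eq_one_iff_commute, ← map_commutatorElement]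
      exact (QuotientGroup.eq_one_iff _).mpr (Subgroup.commutator_mem_commutator u.2 v.2) }
  let cj : G → H →* H := fun g => ((MulAut.conjNormal g : MulAut H)).toMonoidHom
  let φ : H →* H ⧸ D := ∏ k : K, (QuotientGroup.mk' D).comp (cj k)
  have hφk : ∀ (k₀ : K) (h : H), φ (cj k₀ h) = φ h := fun k₀ h => by
    simp only [φ, MonoidHom.finsetProd_apply, MonoidHom.comp_apply]
    refine Fintype.prod_equiv (Equiv.mulRight k₀) _ _ fun k => ?_
    simp [cj, map_mul, MulAut.mul_apply]
  have hker : M.subgroupOf H ≤ φ.ker := by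
    have hle : M ≤ φ.ker.map H.subtype := Subgroup.commutator_le.mpr fun h hh k hk => by
      refine ⟨⟨h, hh⟩ * (cj k ⟨h, hh⟩)⁻¹, MonoidHom.mem_ker.mpr ?_, ?_⟩
      · rw [map_mul, map_inv, hφk ⟨k, hk⟩, mul_inv_cancel]
      · simp [cj, commutatorElement_def, mul_assoc]
    intro y hy
    obtain ⟨z, hz, e⟩ := hle hy
    exact Subtype.ext e ▸ hz
  have hfix : φ ⟨x, hxH⟩ = (QuotientGroup.mk' D ⟨x, hxH⟩) ^ Fintype.card K := by
    simp only [φ, MonoidHom.finsetProd_apply, MonoidHom.comp_apply]
    rw [← Finset.card_univ]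
    refine Finset.prod_eq_pow_card fun k _ => congrArg _ (Subtype.ext ?_)
    simp only [cj, MulEquiv.coe_toMonoidHom, MulAut.conjNormal_apply]
    rw [Subgroup.mem_centralizer_iff.mp hxK k k.2, mul_inv_cancel_right]
  rw [MonoidHom.mem_ker.mp (hker (show (⟨x, hxH⟩ : H) ∈ M.subgroupOf H from hfirst ▸ hxH : _))] at hfix
  have hKc : Fintype.card K = H.index := by rw [← Nat.card_eq_fintype_card, hc.symm.index_eq_card]
  have h1 : QuotientGroup.mk' D ⟨x, hxH⟩ = 1 := orderOf_eq_one_iff.mp (Nat.eq_one_of_dvd_coprimes hcop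
    ((orderOf_map_dvd _ _).trans (orderOf_dvd_natCard _)) (hKc ▸ orderOf_dvd_of_pow_eq_one hfix.symm))
  exact ((QuotientGroup.eq_one_iff (N := D) (⟨x, hxH⟩ : H)).mp h1 : _)

/-- Let G be a finite solvable group. (a) If H is a normal subgroup of order coprime to its index, K is a complement to H, and H ≤ G', then H = [H, K] and H ∩ C_G(K) ≤ [H, H]. (b) If G' is nilpotent and has prime index in G, then the order of G' is coprime to its index and G' = [G, K] (the subgroup generated by commutators of elements of G with elements of K) for every complement K of G'. -/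
theorem result {G : Type*} [Group G] [Finite G] [Group.IsSolvable G] :
    (∀ (H K : Subgroup G), H.Normal → (Nat.card H).Coprime H.index → Subgroup.IsComplement' H K → H ≤ commutator G →
        H = ⁅H, K⁆ ∧ H ⊓ Subgroup.centralizer (K : Set G) ≤ ⁅H, H⁆) ∧
      (Group.IsNilpotent ↥(commutator G) → (commutator G).index.Prime →
        (Nat.card ↥(commutator G)).Coprime (commutator G).index ∧
        ∀ K : Subgroup G, Subgroup.IsComplement' (commutator G) K → commutator G = ⁅(⊤ : Subgroup G), K⁆) := by
  classical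
  refine ⟨fun H K hHn hcop hc hH => part_one H K hHn hcop hc hH, fun hnil hq => ?_⟩
  set q := (commutator G).index with hqdef
  haveI := Fact.mk hq
  have hcop : (Nat.card ↥(commutator G)).Coprime q := by
    refine ((Nat.Prime.coprime_iff_not_dvd hq).mpr fun hdvd => ?_).symm
    set R := Cfsg.pPrimeCore q G with hR
    have hGR : commutator G ≤ Cfsg.pCore q G ⊔ R := by
      refine (CfsgLib.le_fittingSubgroup hnil).trans (CfsgLib.fittingSubgroup_le_iSup_pCore.trans (iSup_le fun r => ?_))
      by_cases hr : (r : ℕ) = q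
      · rw [hr]; exact le_sup_left
      · refine le_sup_of_le_right (CfsgLib.le_pPrimeCore ?_)
        haveI := Fact.mk r.2
        obtain ⟨j, hj⟩ := (CfsgLib.isPGroup_pCore (G := G) (r : ℕ)).exists_card_eq
        rw [hj]
        exact ((Nat.coprime_primes r.2 hq).mpr hr).pow_left j
    have hRG : R ≤ commutator G := fun x hx => by
      let π := QuotientGroup.mk' (commutator G)
      have h1 : orderOf (π x) ∣ Nat.card R := (orderOf_map_dvd π x).trans (Subgroup.orderOf_dvd_natCard _ hx)
      have h2 : orderOf (π x) ∣ q := orderOf_dvd_natCard _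
      exact (QuotientGroup.eq_one_iff x).mp (orderOf_eq_one_iff.mp (Nat.eq_one_of_dvd_coprimes (CfsgLib.card_pPrimeCore_coprime q) h1 h2))
    let π := QuotientGroup.mk' R
    have himg : IsPGroup q ((commutator G).map π) := by
      refine ((CfsgLib.isPGroup_pCore (G := G) q).map π).to_le ((Subgroup.map_mono hGR).trans ?_)
      rw [Subgroup.map_sup]
      refine sup_le le_rfl ?_
      rintro _ ⟨x, hx, rfl⟩
      rw [show π x = 1 from (QuotientGroup.eq_one_iff x).mpr hx]; exact one_mem _
    have hidx : ((commutator G).map π).index = q := Subgroup.index_map_eq _ (QuotientGroup.mk'_surjective _) (by rw [QuotientGroup.ker_mk']; exact hRG)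
    have hP : IsPGroup q (G ⧸ R) := by
      obtain ⟨j, hj⟩ := himg.exists_card_eq
      refine IsPGroup.iff_card.mpr ⟨j + 1, ?_⟩
      rw [← Subgroup.card_mul_index ((commutator G).map π), hj, hidx, pow_succ]
    have hcomm : commutator (G ⧸ R) = (commutator G).map π := by
      rw [commutator_def, commutator_def, Subgroup.map_commutator, Subgroup.map_top_of_surjective π (QuotientGroup.mk'_surjective _)]
    have hbot : commutator (G ⧸ R) = ⊥ := by
      obtain ⟨g, hg⟩ : ∃ g, g ∉ commutator (G ⧸ R) := by
        by_contra h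
        push Not at h
        rw [← hcomm, show commutator (G ⧸ R) = ⊤ from eq_top_iff.mpr fun x _ => h x, Subgroup.index_top] at hidx
        exact hq.ne_one hidx.symm
      have htop : Subgroup.zpowers g ⊔ commutator (G ⧸ R) = ⊤ := by
        have hd := Subgroup.index_dvd_of_le (le_sup_right : commutator (G ⧸ R) ≤ Subgroup.zpowers g ⊔ commutator (G ⧸ R))
        rw [hcomm] at hd ⊢
        rw [hidx] at hd
        rcases (Nat.dvd_prime hq).mp hd with h | h
        · exact Subgroup.index_eq_one.mp h
        · exfalso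
          refine hg (hcomm ▸ ?_)
          have heq : (commutator G).map π = Subgroup.zpowers g ⊔ (commutator G).map π := by
            refine Subgroup.eq_of_le_of_card_ge le_sup_right (le_of_eq (Nat.eq_of_mul_eq_mul_right hq.pos ?_))
            have e1 := Subgroup.card_mul_index ((commutator G).map π)
            have e2 := Subgroup.card_mul_index (Subgroup.zpowers g ⊔ (commutator G).map π)
            rw [hidx] at e1
            rw [h] at e2
            exact e2.trans e1.symm
          exact heq ▸ Subgroup.mem_sup_left (Subgroup.mem_zpowers g)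
      have hz : Subgroup.zpowers g = ⊤ := frattini_nongenerating (eq_top_iff.mpr (htop.ge.trans (sup_le_sup_left (CfsgLib.commutator_le_frattini_pGroup hP) _)))
      rw [Subgroup.eq_bot_iff_forall]
      intro c hc
      have : commutator (G ⧸ R) ≤ ⊥ := by
        rw [commutator_def, Subgroup.commutator_le]
        intro a _ b _
        rw [Subgroup.mem_bot, commutatorElement_eq_one_iff_mul_comm]
        obtain ⟨i, rfl⟩ := Subgroup.mem_zpowers_iff.mp (hz.symm ▸ Subgroup.mem_top a)
        obtain ⟨j, rfl⟩ := Subgroup.mem_zpowers_iff.mp (hz.symm ▸ Subgroup.mem_top b)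
        exact (Commute.zpow_zpow (Commute.refl g) i j).eq
      exact Subgroup.mem_bot.mp (this hc)
    have hle : commutator G ≤ R := fun x hx => by
      have := hcomm.symm.trans hbot
      exact (QuotientGroup.eq_one_iff x).mp (Subgroup.mem_bot.mp (this ▸ Subgroup.mem_map_of_mem π hx))
    exact (Nat.Prime.coprime_iff_not_dvd hq).mp (CfsgLib.card_pPrimeCore_coprime (G := G) q).symm (hdvd.trans (Subgroup.card_dvd_of_le hle))
  refine ⟨hcop, fun K hK => le_antisymm ?_ (commutator_def G ▸ Subgroup.commutator_mono le_rfl le_top)⟩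
  exact (part_one _ K inferInstance hcop hK le_rfl).1.le.trans (Subgroup.commutator_mono le_top le_rfl)

end Cfsg.Agent.S1459
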