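import Cfsg.Statements.S1461
import Mathlib
import Cfsg.Agent.Lib.OddLocal.PLengthOne
import Cfsg.Agent.Lib.Coprime
import Cfsg.Agent.Lib.CentralizeOmega
import Cfsg.Agent.Lib.ZJ.Center
-- import your own Cfsg.Agent.* helpers here

set_option autoImplicit false
open Cfsg

namespace Cfsg.Agent.S1461

open scoped commutatorElement

/-- Let G be a finite solvable group, p a prime with G = O_{p',p,p'}(G), and S a Sylow p-subgroup. Then: if S ≤ G' then S ≤ [N_G(S), N_G(S)]; if Y ⊆ S and xYx⁻¹ ⊆ S then x = g c for some g ∈ N_G(S) and c centralizing Y; and for every p-subgroup Q there is x ∈ C_G(Q ∩ S) with xQx⁻¹ ≤ S. -/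
theorem result {G : Type*} [Group G] [Finite G] [Group.IsSolvable G] (p : ℕ) [Fact p.Prime] (hpl : Cfsg.PLengthLE p 1 G) (S : Sylow p G) :
    ((S : Subgroup G) ≤ commutator G → (S : Subgroup G) ≤ ⁅Subgroup.normalizer ((S : Subgroup G) : Set G), Subgroup.normalizer ((S : Subgroup G) : Set G)⁆) ∧
      (∀ (Y : Set G) (x : G), Y ⊆ (S : Subgroup G) → (fun y => x * y * x⁻¹) '' Y ⊆ (S : Subgroup G) →
        ∃ g ∈ Subgroup.normalizer ((S : Subgroup G) : Set G), ∃ c ∈ Subgroup.centralizer Y, g * c = x) ∧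
      ∀ Q : Subgroup G, IsPGroup p Q → ∃ x ∈ Subgroup.centralizer ((Q ⊓ (S : Subgroup G) : Subgroup G) : Set G), Q.map (MulAut.conj x).toMonoidHom ≤ (S : Subgroup G) := by
  set O := Cfsg.pPrimeCore p G with hO
  set N := Subgroup.normalizer ((S : Subgroup G) : Set G) with hN
  have hd := CfsgLib.PLengthOne.disjoint_core (p := p) S.2
  have hOn : O.Normal := inferInstance
  have key : ∀ y ∈ (S : Subgroup G), ∀ o ∈ O, o * y * o⁻¹ ∈ (S : Subgroup G) → o * y = y * o := by
    intro y hy o ho hoy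
    have h1 : o * y * o⁻¹ * y⁻¹ ∈ (S : Subgroup G) := mul_mem hoy (inv_mem hy)
    have h2 : o * y * o⁻¹ * y⁻¹ ∈ O := by
      have := O.mul_mem ho (hOn.conj_mem _ (O.inv_mem ho) y)
      simpa [mul_assoc] using this
    have h3 := Subgroup.disjoint_def.mp hd h1 h2
    rw [mul_inv_eq_one, mul_inv_eq_iff_eq_mul] at h3
    exact h3
  refine ⟨fun hS s hs => ?_, fun Y x hY hxY => ?_, fun Q hQ => ?_⟩
  · set π := QuotientGroup.mk' O with hπ
    have hmap : (commutator G).map π ≤ (⁅N, N⁆).map π := by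
      rw [Subgroup.map_commutator, commutator_def, Subgroup.map_commutator]
      have : (⊤ : Subgroup G).map π ≤ N.map π := by
        rintro _ ⟨g, -, rfl⟩
        obtain ⟨n, hn, o, ho, rfl⟩ := CfsgLib.PLengthOne.exists_normalizer_mul hpl S g
        refine ⟨n, hn, ?_⟩
        rw [map_mul, show π o = 1 from (QuotientGroup.eq_one_iff o).mpr ho, mul_one]
      exact Subgroup.commutator_mono this this
    obtain ⟨n', hn', he⟩ := hmap (Subgroup.mem_map_of_mem π (hS hs))
    have hn'N : n' ∈ N := Subgroup.commutator_le_self N hn'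
    have hsN : s ∈ N := Subgroup.le_normalizer hs
    have ho : s * n'⁻¹ ∈ O := (QuotientGroup.eq_one_iff _).mp (by
      show π (s * n'⁻¹) = 1
      rw [map_mul, map_inv, he, mul_inv_cancel])
    set c := s * n'⁻¹ with hc
    set M := (⁅N, N⁆).subgroupOf N with hM
    haveI hMn : M.Normal := by
      rw [hM, Subgroup.commutator_def]
      refine ⟨fun a ha g => ?_⟩
      rw [Subgroup.mem_subgroupOf] at ha ⊢
      rw [← Subgroup.commutator_def] at ha ⊢
      have hNN : N ≤ Subgroup.normalizer ((⁅N, N⁆ : Subgroup G) : Set G) :=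
        CfsgLib.left_le_normalizer_commutator N N
      exact (Subgroup.mem_normalizer_iff.mp (hNN g.2) _).mp ha
    obtain ⟨k, hk⟩ := S.2 ⟨s, hs⟩
    have heq : QuotientGroup.mk' M ⟨s, hsN⟩ = QuotientGroup.mk' M ⟨c, mul_mem hsN (inv_mem hn'N)⟩ := by
      refine QuotientGroup.eq.mpr ?_
      have hx : ((⟨s, hsN⟩ : N)⁻¹ * ⟨c, mul_mem hsN (inv_mem hn'N)⟩ : N) = ⟨n', hn'N⟩⁻¹ :=
        Subtype.ext (show s⁻¹ * c = n'⁻¹ by rw [hc, inv_mul_cancel_left])
      rw [hx]
      exact inv_mem (show (⟨n', hn'N⟩ : N) ∈ M from hn')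
    have h1 : orderOf (QuotientGroup.mk' M ⟨s, hsN⟩) ∣ p ^ k := orderOf_dvd_of_pow_eq_one (by
      rw [← map_pow, show (⟨s, hsN⟩ : N) ^ p ^ k = 1 from Subtype.ext (by simpa using congrArg Subtype.val hk), map_one])
    have h2 : orderOf (QuotientGroup.mk' M ⟨s, hsN⟩) ∣ Nat.card O := by
      rw [heq]
      refine (orderOf_map_dvd _ _).trans ?_
      rw [Subgroup.orderOf_mk]
      exact O.orderOf_dvd_natCard ho
    show (⟨s, hsN⟩ : N) ∈ M
    exact (QuotientGroup.eq_one_iff _).mp (orderOf_eq_one_iff.mp (Nat.eq_one_of_dvd_coprimes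
      ((CfsgLib.card_pPrimeCore_coprime (G := G) p).pow_right k) h2 h1))
  · obtain ⟨n, hn, o, ho, rfl⟩ := CfsgLib.PLengthOne.exists_normalizer_mul hpl S x
    refine ⟨n, hn, o, fun y hy => ?_, rfl⟩
    refine (key y (hY hy) o ho ?_).symm
    refine (Subgroup.mem_normalizer_iff.mp hn _).mpr ?_
    have := hxY ⟨y, hy, rfl⟩
    simp [mul_assoc] at this ⊢
    exact this
  · obtain ⟨P, hP⟩ := hQ.exists_le_sylow
    obtain ⟨x0, hx0⟩ := MulAction.exists_smul_eq G P S
    obtain ⟨n, hn, o, ho, rfl⟩ := CfsgLib.PLengthOne.exists_normalizer_mul hpl S x0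
    have hoQ : ∀ y ∈ Q, o * y * o⁻¹ ∈ (S : Subgroup G) := by
      intro y hy
      refine (Subgroup.mem_normalizer_iff.mp hn _).mpr ?_
      have h1 : n * o * y * (n * o)⁻¹ ∈ ((n * o) • P : Sylow p G) := ⟨y, hP hy, rfl⟩
      rw [hx0] at h1
      simp [mul_assoc] at h1 ⊢
      exact h1
    refine ⟨o, fun y hy => ?_, ?_⟩
    · obtain ⟨hyQ, hyS⟩ := Subgroup.mem_inf.mp hy
      exact (key y hyS o ho (hoQ y hyQ)).symm
    · rintro _ ⟨y, hy, rfl⟩
      exact hoQ y hy

end Cfsg.Agent.S1461
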