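import Cfsg.Statements.S1369
import Mathlib
import Cfsg.Agent.Lib.MinSimpleOdd.KappaFacts2
-- import your own Cfsg.Agent.* helpers here

set_option autoImplicit false
open Cfsg

namespace Cfsg.Agent.S1369

/-- Let G be a minimal simple group of odd order, M a maximal subgroup with standard factorisation M = K U M_σ, K ≠ 1, K* = M_σ ∩ C_G(K), and M* a maximal subgroup with K = M*_σ ∩ C_G(K*) and K* a Hall κ(M*)-subgroup of M*. Then either U ≠ 1 or every K*-invariant complement of K* M*_σ in M* is nontrivial; and every maximal subgroup H of G with κ(H) nonempty is conjugate to M or to M*. -/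
theorem result {G : Type*} [Group G] [Finite G] (hG : Cfsg.IsMinSimpleOddOrder G)
    (M : Subgroup G) (hM : IsCoatom M) (K U : Subgroup G) (hKU : Cfsg.IsSigmaDecomposition M K U) (hK1 : K ≠ ⊥) (Mstar : Subgroup G) (hMstar : IsCoatom Mstar)
    (hKst : K = Cfsg.sigmaCore Mstar ⊓ Subgroup.centralizer ((Cfsg.sigmaCore M ⊓ Subgroup.centralizer (K : Set G)) : Set G))
    (hKstH : Cfsg.IsPiHallOf (Cfsg.kappa Mstar) (Cfsg.sigmaCore M ⊓ Subgroup.centralizer (K : Set G)) Mstar) :
    (U ≠ ⊥ ∨ ∀ Ustar : Subgroup G, Cfsg.IsSigmaDecomposition Mstar (Cfsg.sigmaCore M ⊓ Subgroup.centralizer (K : Set G)) Ustar → Ustar ≠ ⊥) ∧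
      ∀ H : Subgroup G, IsCoatom H → (Cfsg.kappa H).Nonempty →
        ∃ g : G, H = M.map (MulAut.conj g).toMonoidHom ∨ H = Mstar.map (MulAut.conj g).toMonoidHom := by
  open scoped Pointwise in
  open CfsgLib.MinSimpleOdd in
  exact (by
    refine ⟨?_, fun H hH hne => ?_⟩
    · by_cases hU : U = ⊥
      · exact Or.inr fun W hW => pair_not_both_bot hG hM hKU hK1 hU hMstar hKst hW
      · exact Or.inl hU
    have d := kappaData_of_hall hG hM hKU.hall hK1
    obtain ⟨L, p⟩ := d.exists_pair hG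
    obtain rfl := p.unique hG hMstar hKst
    obtain ⟨r, hr⟩ := hne
    obtain ⟨K', hK'⟩ := CfsgLib.exists_isPiHallOf (Cfsg.kappa H) (solvable_of_ne_top hG hH.1)
    have hK'1 : K' ≠ ⊥ := fun e => hK'.2.2 r hr.1 hr (by rw [e, Subgroup.relIndex_bot_left]; exact hr.2.1)
    obtain ⟨H', p'⟩ := (kappaData_of_hall hG hH hK' hK'1).exists_pair hG
    have hA := p.conj_big hG
    have hB := p'.conj_big hG
    obtain ⟨a, haA, haB⟩ : ∃ a, a ∈ {a : G | ∃ g : G, ∃ z ∈ ((↑(K ⊔ fixedCore M K) : Set G) \ ((K : Set G) ∪ (fixedCore M K : Set G))), a = g * z * g⁻¹} ∧ a ∈ {a : G | ∃ g : G, ∃ z ∈ ((↑(K' ⊔ fixedCore H K') : Set G) \ ((K' : Set G) ∪ (fixedCore H K' : Set G))), a = g * z * g⁻¹} := by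
      by_contra h
      push Not at h
      have hd := Set.ncard_union_eq (Set.disjoint_left.mpr h)
      have hle := Set.ncard_le_card ({a : G | ∃ g : G, ∃ z ∈ ((↑(K ⊔ fixedCore M K) : Set G) \ ((K : Set G) ∪ (fixedCore M K : Set G))), a = g * z * g⁻¹} ∪ {a : G | ∃ g : G, ∃ z ∈ ((↑(K' ⊔ fixedCore H K') : Set G) \ ((K' : Set G) ∪ (fixedCore H K' : Set G))), a = g * z * g⁻¹})
      rw [hd] at hle
      omega
    obtain ⟨g, z, hz, rfl⟩ := haA
    obtain ⟨g', z', hz', he⟩ := haB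
    have ho : orderOf z = orderOf z' := by rw [← orderOf_conj g z, he, orderOf_conj]
    have key : ∀ r : ℕ, r.Prime → r ∣ orderOf z → r ∈ Cfsg.sigma H ∨ r ∈ Cfsg.sigma H' := by
      intro r hr hrd
      have hd : r ∣ Nat.card ↥(K' ⊔ fixedCore H K') := (ho ▸ hrd).trans (Subgroup.orderOf_dvd_natCard _ hz'.1)
      rw [card_complIn (p'.left.compl hG)] at hd
      rcases hr.dvd_mul.mp hd with h | h
      · refine Or.inr ((sigmaCore_hall hG p'.right.hM).1.2.1 r hr ?_)
        rw [← p'.symm_eq] at h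
        exact h.trans (Subgroup.card_dvd_of_le inf_le_left)
      · exact Or.inl ((sigmaCore_hall hG hH).1.2.1 r hr (h.trans (Subgroup.card_dvd_of_le inf_le_left)))
    obtain ⟨k, hk, c, hc, rfl⟩ := (p.left.compl hG).2.2.2 z hz.1
    have hkc : Commute k c := ((d.fixed_centralizes hG) hk c hc).symm
    have hcop : (orderOf k).Coprime (orderOf c) := Nat.coprime_of_dvd fun s hs h1 h2 =>
      d.sigma' hG hs (h1.trans (Subgroup.orderOf_dvd_natCard _ hk)) (order_sigma hG hM hc.1 s hs h2)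
    have hmul := hkc.orderOf_mul_eq_mul_orderOf_of_coprime hcop
    have hk1 : k ≠ 1 := fun e => hz.2 (Or.inr (by rw [e, one_mul]; exact hc))
    have hc1 : c ≠ 1 := fun e => hz.2 (Or.inl (by rw [e, mul_one]; exact hk))
    obtain ⟨t, ht, htd⟩ := exists_prime_dvd_order hk1
    obtain ⟨s, hs, hsd⟩ := exists_prime_dvd_order hc1
    have hsM : s ∈ Cfsg.sigma M := order_sigma hG hM hc.1 s hs hsd
    have htL : t ∈ Cfsg.sigma Mstar := by
      refine (sigmaCore_hall hG p.right.hM).1.2.1 t ht ?_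
      have h := htd.trans (Subgroup.orderOf_dvd_natCard _ hk)
      rw [← p.symm_eq] at h
      exact h.trans (Subgroup.card_dvd_of_le inf_le_left)
    haveI := Fact.mk ht
    haveI := Fact.mk hs
    rcases key s hs (hmul ▸ hsd.mul_left _) with h | h
    · obtain ⟨x, hx⟩ := sigma_disjointness hG hM hH hsM h
      exact ⟨x, Or.inl hx⟩
    rcases key t ht (hmul ▸ htd.mul_right _) with h' | h'
    · obtain ⟨x, hx⟩ := sigma_disjointness hG p.right.hM hH htL h'
      exact ⟨x, Or.inr hx⟩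
    obtain ⟨x, hx⟩ := sigma_disjointness hG hM p'.right.hM hsM h
    obtain ⟨y, hy⟩ := sigma_disjointness hG p'.right.hM p.right.hM h' htL
    refine absurd ?_ ((IsNode.pair hG (d.self_node hG) (p.node hG) p.ne).1 (y * x))
    rw [hy, hx, CfsgLib.conj_smul_mul])

end Cfsg.Agent.S1369
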