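import Cfsg.Statements.S1363
import Mathlib
import Cfsg.Agent.Lib.MinSimpleOdd.TypeP2Sylow
-- import your own Cfsg.Agent.* helpers here

set_option autoImplicit false
open Cfsg

namespace Cfsg.Agent.S1363

/-- Let G be a minimal simple group of odd order and M a maximal subgroup with standard factorisation M = K U M_σ and K ≠ 1. Then U is abelian and the normalizer of U in G is not contained in M. -/
theorem result {G : Type*} [Group G] [Finite G] (hG : Cfsg.IsMinSimpleOddOrder G)
    (M : Subgroup G) (hM : IsCoatom M) (K U : Subgroup G) (hKU : Cfsg.IsSigmaDecomposition M K U) (hK1 : K ≠ ⊥) :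
    IsMulCommutative U ∧ ¬ Subgroup.normalizer (U : Set G) ≤ M := by
  open scoped Pointwise in
  open CfsgLib.MinSimpleOdd in
  exact (by
    obtain ⟨d, hs⟩ := decomp_split hG hM hKU hK1
    refine ⟨hs.comm, fun hN => ?_⟩
    by_cases hU : U = ⊥
    · refine hM.1 (top_le_iff.mp (le_trans (fun g _ => ?_) hN))
      exact mem_normalizer_of_conj_smul (by rw [hU]; exact Subgroup.smul_bot _)
    obtain ⟨L, p⟩ := d.exists_pair hG
    obtain ⟨r, hr, hrd⟩ := Nat.exists_prime_and_dvd (n := Nat.card U) (fun h => hU (Subgroup.card_eq_one.mp h))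
    haveI := Fact.mk hr
    obtain ⟨R⟩ : Nonempty (Sylow r U) := inferInstance
    have hR1 : (R : Subgroup U).map U.subtype ≠ ⊥ := fun e => not_dvd_of_sylow U R (by
      rw [e, Subgroup.relIndex_bot_left]; exact hrd)
    obtain ⟨H, hH, hNR⟩ := exists_coatom_ge (normalizer_ne_top hG hR1 (pgroup_ne_top hG (R.2.map _)))
    exact (P2Setting.overgroup ⟨hG, hKU, p, hs, hU⟩ (Subgroup.map_subtype_le _) (R.2.map _) (not_dvd_of_sylow U R) hrd hH hNR).2.2.2.1 (inf_le_right.trans hN))

end Cfsg.Agent.S1363
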