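import Cfsg.Statements.S1364
import Mathlib
import Cfsg.Agent.Lib.MinSimpleOdd.NonNilpotentCore
-- import your own Cfsg.Agent.* helpers here

set_option autoImplicit false
open Cfsg

namespace Cfsg.Agent.S1364

/-- Let G be a minimal simple group of odd order, M a maximal subgroup with standard factorisation M = K U M_σ and K ≠ 1, and put K* = M_σ ∩ C_G(K). Then K* is cyclic, nontrivial and contained in M_F, while M_F itself is not cyclic. -/
theorem result {G : Type*} [Group G] [Finite G] (hG : Cfsg.IsMinSimpleOddOrder G)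
    (M : Subgroup G) (hM : IsCoatom M) (K U : Subgroup G) (hKU : Cfsg.IsSigmaDecomposition M K U) (hK1 : K ≠ ⊥) :
    IsCyclic ↥(Cfsg.sigmaCore M ⊓ Subgroup.centralizer (K : Set G)) ∧ (Cfsg.sigmaCore M ⊓ Subgroup.centralizer (K : Set G)) ≠ ⊥ ∧ (Cfsg.sigmaCore M ⊓ Subgroup.centralizer (K : Set G)) ≤ Cfsg.fittingHallOf M ∧ ¬ IsCyclic (Cfsg.fittingHallOf M) := by
  open scoped Pointwise in
  open CfsgLib.MinSimpleOdd in
  exact (by
    obtain ⟨d, hs⟩ := decomp_split hG hM hKU hK1
    obtain ⟨q, hq, hqC⟩ := Nat.exists_prime_and_dvd fun h => d.fixed_ne (Subgroup.card_eq_one.mp h)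
    haveI := Fact.mk hq
    obtain ⟨c, hc⟩ := exists_prime_orderOf_dvd_card' q hqC
    have hX : Nat.card (Subgroup.zpowers (c : G)) = q := by rw [Nat.card_zpowers, Subgroup.orderOf_coe, hc]
    have hXC : Subgroup.zpowers (c : G) ≤ fixedCore M K := Subgroup.zpowers_le.mpr c.2
    obtain ⟨hle, P, hP⟩ : fixedCore M K ≤ Cfsg.fittingHallOf M ∧ ∃ P : Sylow q ↥(Cfsg.sigmaCore M),
        (P : Subgroup ↥(Cfsg.sigmaCore M)).map (Cfsg.sigmaCore M).subtype ≤ Cfsg.fittingHallOf M := by
      by_cases hn : Group.IsNilpotent (Cfsg.sigmaCore M)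
      · rw [fittingHallOf_eq hG hM hn]
        exact ⟨inf_le_left, Classical.arbitrary _, Subgroup.map_subtype_le _⟩
      · obtain ⟨-, q', Q, nd⟩ := exists_nonNilData hG hM hKU hn
        obtain rfl : q = q' := (Nat.prime_dvd_prime_iff_eq hq nd.hq).mp (hqC.trans nd.card.dvd)
        obtain ⟨P, hP, -⟩ := sylow_of_relIndex nd.le nd.pgroup nd.hall
        exact ⟨nd.fixed_le.trans nd.le_fitting, P, hP.le.trans nd.le_fitting⟩
    refine ⟨d.cyclic_fixed hG, d.fixed_ne, hle, fun hcyc => ?_⟩
    obtain ⟨-, hnot⟩ := d.fixed_line_uniq hG hX hXC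
    obtain ⟨-, hPM, hne⟩ := hnot P
    set R := (P : Subgroup ↥(Cfsg.sigmaCore M)).map (Cfsg.sigmaCore M).subtype with hR
    have hRs : R ≤ Cfsg.sigmaCore M := Subgroup.map_subtype_le _
    haveI := hcyc
    have hRc : IsCyclic R := isCyclic_of_injective (Subgroup.inclusion hP) (Subgroup.inclusion_injective _)
    obtain ⟨a, hgen⟩ := exists_zpowers_eq hcyc
    have hXR : Subgroup.zpowers (c : G) ≤ R := by
      obtain ⟨x', hx', hx'c⟩ : ∃ X' : Subgroup G, X' ≤ R ∧ Nat.card X' = q := by
        refine ⟨?_, ?_⟩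
        exact (exists_sub_card (P.2.map _) fun e => (not_dvd_of_sylow _ P) (by
          rw [show (P : Subgroup ↥(Cfsg.sigmaCore M)).map (Cfsg.sigmaCore M).subtype = ⊥ from e,
            Subgroup.relIndex_bot_left]
          exact hX ▸ Subgroup.card_dvd_of_le (hXC.trans inf_le_left))).choose
        exact (exists_sub_card (P.2.map _) fun e => (not_dvd_of_sylow _ P) (by
          rw [show (P : Subgroup ↥(Cfsg.sigmaCore M)).map (Cfsg.sigmaCore M).subtype = ⊥ from e,
            Subgroup.relIndex_bot_left]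
          exact hX ▸ Subgroup.card_dvd_of_le (hXC.trans inf_le_left))).choose_spec
      rw [eq_of_card_cyclic hcyc (hXC.trans hle) (hx'.trans hP) (hX.trans hx'c.symm)]
      exact hx'
    refine hne (le_inf hRs ?_)
    refine Subgroup.le_centralizer_iff.mp (centralizes_cyclic (P.2.map _) hRc ?_ ?_ hXR (ne_bot_of_card hX)
      (Subgroup.le_centralizer_iff.mp (hXC.trans inf_le_right)))
    · intro k hk
      refine mem_normalizer_of_conj_smul ?_
      have hn : MulAut.conj k • Cfsg.fittingHallOf M = Cfsg.fittingHallOf M := by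
        refine conj_smul_eq_of_mem_normalizer (?_ : k ∈ Subgroup.normalizer (Cfsg.fittingHallOf M : Set G))
        exact Subgroup.le_normalizer_map M.subtype ⟨⟨k, d.hall.1 hk⟩,
          (Subgroup.normalizer_eq_top (H := Cfsg.fittingHall ↥M)) ▸ Subgroup.mem_top _, rfl⟩
      exact eq_of_card_cyclic hcyc ((conj_smul_mono hP k).trans hn.le) hP (CfsgLib.card_conj_smul k R)
    · refine Nat.coprime_of_dvd fun r hr h1 h2 => ?_
      exact (d.hall.2.1 r hr h2).2.2.1 ((sigmaCore_hall hG hM).1.2.1 r hr (h1.trans (Subgroup.card_dvd_of_le hRs))))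

end Cfsg.Agent.S1364
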