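import Cfsg.Statements.S1357
import Mathlib
import Cfsg.Agent.Lib.MinSimpleOdd.FittingStructure
-- import your own Cfsg.Agent.* helpers here

set_option autoImplicit false
open Cfsg

namespace Cfsg.Agent.S1357

/-- Let G be a minimal simple group of odd order and M a maximal subgroup with standard factorisation M = K U M_σ. If M_F ≠ M_σ then U = 1, the Fitting subgroup F(M) meets its conjugates by elements outside its normalizer trivially, and K has prime order. -/
theorem result {G : Type*} [Group G] [Finite G] (hG : Cfsg.IsMinSimpleOddOrder G)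
    (M : Subgroup G) (hM : IsCoatom M) (K U : Subgroup G) (hKU : Cfsg.IsSigmaDecomposition M K U) (hne : Cfsg.fittingHallOf M ≠ Cfsg.sigmaCore M) :
    U = ⊥ ∧ Cfsg.IsTISubset (Cfsg.fittingOf M : Set G) ∧ (Nat.card K).Prime := by
  open CfsgLib.MinSimpleOdd in exact (by
    have hn : ¬ Group.IsNilpotent (Cfsg.sigmaCore M) := fun h => hne (fittingHallOf_eq hG hM h)
    obtain ⟨hU, q, Q, nd⟩ := exists_nonNilData hG hM hKU hn
    haveI := Fact.mk nd.hq
    obtain ⟨D, hD, hKD, hDn, hqD, hfpf, hmove⟩ := nd.exists_compl hG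
    obtain ⟨-, -, hK, -⟩ := nd.chief_factor hG hD hKD hDn hqD hfpf hmove
    exact ⟨hU, fitting_ti_of_not_nilpotent hG hM hn, hK⟩)

end Cfsg.Agent.S1357
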