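import Cfsg.Statements.S1381
import Mathlib
import Cfsg.Agent.Lib.MinSimpleOdd.TypeP
import Cfsg.Agent.S1363
import Cfsg.Agent.S1357
-- import your own Cfsg.Agent.* helpers here

set_option autoImplicit false
open Cfsg

namespace Cfsg.Agent.S1381

/-- Let G be a minimal simple group of odd order and M a maximal subgroup with standard factorisation M = K U M_σ. Then M is of Type II if and only if K ≠ 1 and U ≠ 1. -/
theorem result {G : Type*} [Group G] [Finite G] (hG : Cfsg.IsMinSimpleOddOrder G)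
    (M : Subgroup G) (hM : IsCoatom M) (K U : Subgroup G) (hKU : Cfsg.IsSigmaDecomposition M K U) :
    Cfsg.IsOfTypeII M ↔ (K ≠ ⊥ ∧ U ≠ ⊥) := by
  open scoped Pointwise in
  open CfsgLib.MinSimpleOdd in
  exact (by
    refine ⟨fun ⟨W₁, U', W₂, hP, hU', _, _, _, hN, _, _⟩ => ?_, fun ⟨hK1, hU⟩ => ?_⟩
    · obtain ⟨hK1, -, -⟩ := typeP_facts hG hM hP hKU
      exact ⟨hK1, fun e => hN (typeP_normalizer_le hG hM hP hKU e hU')⟩
    · obtain ⟨d, hs⟩ := decomp_split hG hM hKU hK1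
      obtain ⟨U', hP, h1, -⟩ := exists_typeP hG hM hKU hK1
      obtain ⟨rfl, -⟩ := h1 hU
      obtain ⟨hF, hH⟩ := derived_typeF hG hM hKU hK1 hU
      obtain ⟨hab, hN⟩ := Cfsg.Agent.S1363.result hG M hM K U' hKU hK1
      exact ⟨K, U', _, hP, hU, (hs.two hU).2.2, d.fitting_ti hG hs hU, hab, hN, hF, hH⟩)

end Cfsg.Agent.S1381
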