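import Cfsg.Statements.S1382
import Mathlib
import Cfsg.Agent.Lib.MinSimpleOdd.TypeP
import Cfsg.Agent.S1363
import Cfsg.Agent.S1357
-- import your own Cfsg.Agent.* helpers here

set_option autoImplicit false
open Cfsg

namespace Cfsg.Agent.S1382

/-- Let G be a minimal simple group of odd order and M a maximal subgroup with standard factorisation M = K U M_σ. Then M is of Type III or of Type IV if and only if K ≠ 1, U = 1 and M_F ≠ M_σ. -/
theorem result {G : Type*} [Group G] [Finite G] (hG : Cfsg.IsMinSimpleOddOrder G)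
    (M : Subgroup G) (hM : IsCoatom M) (K U : Subgroup G) (hKU : Cfsg.IsSigmaDecomposition M K U) :
    (Cfsg.IsOfTypeIII M ∨ Cfsg.IsOfTypeIV M) ↔ (K ≠ ⊥ ∧ U = ⊥ ∧ Cfsg.fittingHallOf M ≠ Cfsg.sigmaCore M) := by
  open scoped Pointwise in
  open CfsgLib.MinSimpleOdd in
  exact (by
    refine ⟨fun h => ?_, fun ⟨hK1, hU, hH⟩ => ?_⟩
    · obtain ⟨W₁, U', W₂, hP, hU', hN⟩ : ∃ W₁ U' W₂ : Subgroup G,
          Cfsg.IsTypePWith M W₁ U' W₂ ∧ U' ≠ ⊥ ∧ Subgroup.normalizer (U' : Set G) ≤ M := by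
        rcases h with ⟨a, b, c, hP, h1, -, -, -, h2⟩ | ⟨a, b, c, hP, h1, -, -, -, h2⟩
        · exact ⟨a, b, c, hP, h1, h2⟩
        · exact ⟨a, b, c, hP, h1, h2⟩
      obtain ⟨hK1, -, hiff⟩ := typeP_facts hG hM hP hKU
      have hU : U = ⊥ := by
        by_contra hU
        exact typeP_normalizer_not_le hG hM hP hKU hU (Cfsg.Agent.S1363.result hG M hM K U hKU hK1).2 hN
      exact ⟨hK1, hU, fun e => hU' (hiff.mpr ⟨hU, e⟩)⟩
    · obtain ⟨U', hP, -, h2⟩ := exists_typeP hG hM hKU hK1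
      have hU' : U' ≠ ⊥ := fun e => hH ((h2 hU).mp e)
      have hn : ¬ Group.IsNilpotent (Cfsg.sigmaCore M) := fun e => hH (fittingHallOf_eq hG hM e)
      obtain ⟨-, hti, hp⟩ := Cfsg.Agent.S1357.result hG M hM K U hKU hH
      have hN := typeP_normalizer_le hG hM hP hKU hU hU'
      by_cases hc : IsMulCommutative U'
      · exact Or.inl ⟨K, U', _, hP, hU', hp, hti, hc, hN⟩
      · exact Or.inr ⟨K, U', _, hP, hU', hp, hti, hc, hN⟩)

end Cfsg.Agent.S1382
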