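import Cfsg.Statements.S4139
import Mathlib
import Cfsg.Agent.Lib.Basic
import Mathlib
import Cfsg.Agent.Lib.Basic
-- import your own Cfsg.Agent.* helpers here

set_option autoImplicit false
open Cfsg

namespace Cfsg.Agent.S4139


open Subgroup

universe u v

section General

variable {G : Type u} [Group G] [Finite G]

/-- The class size of an element. -/
noncomputable def sz (x : G) : ℕ := (centralizer ({x} : Set G)).index

theorem sz_eq (x : G) : sz x = Nat.card (ConjClasses.mk x).carrier := by
  rw [sz, Subgroup.centralizer_eq_comap_stabilizer]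
  erw [Subgroup.index_comap_of_surjective _ (MulEquiv.surjective _)]
  rw [MulAction.index_stabilizer, ← Nat.card_coe_set_eq, ConjAct.orbit_eq_carrier_conjClasses]

theorem sz_conj (g x : G) : sz (g * x * g⁻¹) = sz x := by
  have h : ConjClasses.mk (g * x * g⁻¹) = ConjClasses.mk x :=
    ConjClasses.mk_eq_mk_iff_isConj.mpr (isConj_iff.mpr ⟨g⁻¹, by group⟩)
  rw [sz_eq, sz_eq, h]

theorem sz_pos (x : G) : 0 < sz x := Nat.pos_of_ne_zero (Subgroup.index_ne_zero_of_finite)

theorem centralizer_mul_central (x : G) {z : G} (hz : z ∈ center G) :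
    centralizer ({x * z} : Set G) = centralizer ({x} : Set G) := by
  ext g
  simp only [mem_centralizer_iff, Set.mem_singleton_iff, forall_eq]
  rw [mul_assoc, ← mem_center_iff.mp hz g, ← mul_assoc, ← mul_assoc g x z]
  exact ⟨fun h => mul_right_cancel h, fun h => by rw [h]⟩

/-- A Sylow subgroup centralised by an element, up to conjugacy. -/
theorem exists_sylow_of_not_dvd {r : ℕ} [Fact r.Prime] {x : G} (h : ¬ r ∣ sz x) :
    ∃ R : Sylow r G, x ∈ centralizer ((R : Subgroup G) : Set G) := by
  obtain ⟨R⟩ : Nonempty (Sylow r (centralizer ({x} : Set G))) := inferInstance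
  obtain ⟨R', hR'⟩ := (R.2.map (centralizer ({x} : Set G)).subtype).exists_le_sylow
  refine ⟨R', ?_⟩
  have hle : (R' : Subgroup G) ≤ (R : Subgroup (centralizer ({x} : Set G))).map (centralizer ({x} : Set G)).subtype := by
    refine (eq_of_le_of_card_ge hR' ?_).ge
    rw [Subgroup.card_map_of_injective (centralizer ({x} : Set G)).subtype_injective, R.card_eq_multiplicity,
      R'.card_eq_multiplicity, ← card_mul_index (centralizer ({x} : Set G)),
      Nat.factorization_mul Nat.card_pos.ne' index_ne_zero_of_finite, Finsupp.add_apply,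
      Nat.factorization_eq_zero_of_not_dvd (n := (centralizer ({x} : Set G)).index) h, add_zero]
  rw [mem_centralizer_iff]
  intro g hg
  exact (mem_centralizer_iff.mp (map_subtype_le _ (hle hg)) x rfl).symm

theorem not_dvd_sz_of_le {r : ℕ} [Fact r.Prime] {x : G} (R : Sylow r G)
    (h : x ∈ centralizer ((R : Subgroup G) : Set G)) : ¬ r ∣ sz x := by
  intro hd
  refine R.not_dvd_index (hd.trans (index_dvd_of_le fun g hg => ?_))
  rw [mem_centralizer_iff]
  rintro _ rfl
  exact (mem_centralizer_iff.mp h g hg).symm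

theorem mem_of_pow_mem {r : ℕ} [Fact r.Prime] (R : Sylow r G) {y : G} (hy : IsPGroup r (zpowers y))
    (h : y ∈ centralizer ((R : Subgroup G) : Set G)) : y ∈ (R : Subgroup G) := by
  have h1 : zpowers y ≤ normalizer ((R : Subgroup G) : Set G) :=
    (zpowers_le.mpr h).trans (centralizer_le_normalizer _)
  have h2 := R.3 (hy.to_sup_of_normal_right' R.2 h1) le_sup_right
  exact h2 ▸ mem_sup_left (mem_zpowers y)

theorem factorization_inf_sylow (K : Subgroup G) [hK : K.Normal] {r : ℕ} [Fact r.Prime] (R : Sylow r G) :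
    (Nat.card K).factorization r = (Nat.card ↥((R : Subgroup G) ⊓ K)).factorization r := by
  obtain ⟨S⟩ : Nonempty (Sylow r K) := inferInstance
  obtain ⟨S', hS'⟩ := (S.2.map K.subtype).exists_le_sylow
  obtain ⟨g, hg⟩ := MulAction.exists_smul_eq G S' R
  refine le_antisymm ?_ ((Nat.factorization_le_iff_dvd Nat.card_pos.ne' Nat.card_pos.ne').mpr
    (card_dvd_of_le inf_le_right) r)
  have hle : ((S : Subgroup K).map K.subtype).map (MulAut.conj g).toMonoidHom ≤ (R : Subgroup G) ⊓ K := by
    rintro _ ⟨x, hx, rfl⟩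
    refine ⟨?_, hK.conj_mem x (map_subtype_le _ hx) g⟩
    rw [← hg, Sylow.coe_subgroup_smul, Subgroup.pointwise_smul_def]
    exact ⟨x, hS' hx, rfl⟩
  have h1 := (Nat.factorization_le_iff_dvd Nat.card_pos.ne' Nat.card_pos.ne').mpr (card_dvd_of_le hle) r
  rwa [Subgroup.card_map_of_injective (MulAut.conj g).injective, Subgroup.card_map_of_injective K.subtype_injective,
    S.card_eq_multiplicity, (Fact.out : r.Prime).factorization_pow, Finsupp.single_eq_same] at h1

end General

/-- In a nilpotent group, the elements whose class size avoids a set of primes form a subgroup of known order. -/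
theorem count_nilpotent {H : Type v} [Group H] [Finite H] (hH : Group.IsNilpotent H) (s : ℕ → Prop)
    [DecidablePred s] (r : ℕ) (hr : r.Prime) :
    (Nat.card {x : H // ∀ t, t.Prime → s t → ¬ t ∣ sz x}).factorization r =
      if s r then (Nat.card (center H)).factorization r else (Nat.card H).factorization r := by
  classical
  haveI := Fact.mk hr
  have hnorm : ∀ (t : ℕ) (_ : Fact t.Prime) (T : Sylow t H), (T : Subgroup H).Normal :=
    ((Group.isNilpotent_of_finite_tfae (G := H)).out 0 3).mp hH
  have hmem : ∀ (t : ℕ) [Fact t.Prime] (T : Sylow t H) (x : H),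
      ¬ t ∣ sz x ↔ x ∈ centralizer ((T : Subgroup H) : Set H) := by
    intro t _ T x
    refine ⟨fun h => ?_, not_dvd_sz_of_le T⟩
    obtain ⟨T', hT'⟩ := exists_sylow_of_not_dvd h
    haveI := Sylow.unique_of_normal T (hnorm t inferInstance T)
    rwa [Subsingleton.elim T T']
  let K : Subgroup H := ⨅ (t : ℕ) (_ : t.Prime ∧ s t) (T : Sylow t H), centralizer ((T : Subgroup H) : Set H)
  have hKmem : ∀ x, x ∈ K ↔ ∀ t, t.Prime → s t → ¬ t ∣ sz x := by
    intro x
    simp only [K, mem_iInf]
    constructor
    · intro h t ht hst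
      haveI := Fact.mk ht
      obtain ⟨T⟩ : Nonempty (Sylow t H) := inferInstance
      exact (hmem t T x).mpr (h t ⟨ht, hst⟩ T)
    · intro h t ht T
      haveI := Fact.mk ht.1
      exact (hmem t T x).mp (h t ht.1 ht.2)
  haveI : K.Normal := ⟨fun x hx g => by
    rw [hKmem] at hx ⊢
    rwa [sz_conj]⟩
  rw [show Nat.card {x : H // ∀ t, t.Prime → s t → ¬ t ∣ sz x} = Nat.card K from
    Nat.card_congr (Equiv.subtypeEquivRight fun x => (hKmem x).symm)]
  obtain ⟨R⟩ : Nonempty (Sylow r H) := inferInstance
  rw [factorization_inf_sylow K R]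
  have hcomm : ∀ (t : ℕ) (_ : t.Prime) (T : Sylow t H), t ≠ r → (R : Subgroup H) ≤ centralizer ((T : Subgroup H) : Set H) := by
    intro t ht T hne x hx
    haveI := Fact.mk ht
    haveI := hnorm t inferInstance T
    haveI := hnorm r inferInstance R
    rw [mem_centralizer_iff]
    intro y hy
    exact commute_of_normal_of_disjoint (T : Subgroup H) (R : Subgroup H) inferInstance inferInstance
      (IsPGroup.disjoint_of_ne t r hne _ _ T.2 R.2) y x hy hx
  have hcen : (R : Subgroup H) ⊓ centralizer ((R : Subgroup H) : Set H) = (R : Subgroup H) ⊓ center H := by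
    refine le_antisymm (fun x hx => ⟨hx.1, ?_⟩) (inf_le_inf_left _ (center_le_centralizer _))
    have h1 : centralizer ({x} : Set H) = ⊤ := by
      rw [← index_eq_one]
      by_contra hne
      obtain ⟨t, ht, htd⟩ := Nat.exists_prime_and_dvd hne
      haveI := Fact.mk ht
      obtain ⟨T⟩ : Nonempty (Sylow t H) := inferInstance
      refine not_dvd_sz_of_le T ?_ htd
      rcases eq_or_ne t r with rfl | htr
      · haveI := Sylow.unique_of_normal R (hnorm t inferInstance R)
        rw [Subsingleton.elim T R]; exact hx.2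
      · exact hcomm t ht T htr hx.1
    change x ∈ center H
    rw [mem_center_iff]
    intro g
    exact (mem_centralizer_iff.mp (h1 ▸ mem_top g : g ∈ centralizer ({x} : Set H)) x rfl).symm
  by_cases hs : s r
  · rw [if_pos hs]
    have he : (R : Subgroup H) ⊓ K = (R : Subgroup H) ⊓ center H := by
      refine le_antisymm ?_ (inf_le_inf_left _ ?_)
      · intro x hx
        rw [← hcen]
        exact ⟨hx.1, (hmem r R x).mp ((hKmem x).mp hx.2 r hr hs)⟩
      · intro z hz
        simp only [K, mem_iInf]
        exact fun t _ T => center_le_centralizer _ hz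
    rw [he, ← factorization_inf_sylow (center H) R]
  · rw [if_neg hs]
    have he : (R : Subgroup H) ⊓ K = (R : Subgroup H) := by
      refine inf_eq_left.mpr fun x hx => ?_
      simp only [K, mem_iInf]
      intro t ht T
      exact hcomm t ht.1 T (fun h => hs (h ▸ ht.2)) hx
    rw [he, R.card_eq_multiplicity, hr.factorization_pow, Finsupp.single_eq_same]

section Main

variable {G : Type u} [Group G] [Finite G]

/-- If the number of elements of class size prime to `q` has `q`-part `|Z(G)|_q` then the centre of a Sylow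
`q`-subgroup is central. -/
theorem sylow_center_le {q : ℕ} [Fact q.Prime] (Q : Sylow q G)
    (hN : (Nat.card {x : G // ¬ q ∣ sz x}).factorization q = (Nat.card (center G)).factorization q)
    {z : G} (hzQ : z ∈ (Q : Subgroup G)) (hz : z ∈ centralizer ((Q : Subgroup G) : Set G)) : z ∈ center G := by
  classical
  have hq : q.Prime := Fact.out
  set Z := (Q : Subgroup G) ⊓ center G with hZdef
  haveI hZn : Z.Normal := ⟨fun x hx g => by rwa [mem_center_iff.mp hx.2 g, mul_inv_cancel_right]⟩
  have hZp : IsPGroup q Z := Q.2.to_le inf_le_left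
  have hZc : (Nat.card Z).factorization q = (Nat.card (center G)).factorization q := (factorization_inf_sylow _ Q).symm
  set π := QuotientGroup.mk' Z with hπ
  set S : Set G := {x | ¬ q ∣ sz x}
  set T : Set (G ⧸ Z) := π '' S
  have hpre : π ⁻¹' T = S := by
    refine Set.Subset.antisymm ?_ (Set.subset_preimage_image _ _)
    rintro x ⟨y, hy, hxy⟩
    have h1 : y⁻¹ * x ∈ Z := QuotientGroup.eq.mp hxy
    have h2 : sz x = sz y := by
      rw [sz, sz, show x = y * (y⁻¹ * x) by group, centralizer_mul_central y h1.2]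
    change ¬ q ∣ sz x
    rw [h2]; exact hy
  have hST : Nat.card S = Nat.card Z * Nat.card T := by
    rw [← hpre, ← Nat.card_prod]
    exact Nat.card_congr (QuotientGroup.preimageMkEquivSubgroupProdSet Z T)
  have hT0 : T.Nonempty := ⟨π 1, 1, by
    change ¬ q ∣ sz (1 : G)
    rw [sz, show centralizer ({(1 : G)} : Set G) = ⊤ by ext; simp [mem_centralizer_iff], index_top]
    exact hq.not_dvd_one, rfl⟩
  haveI : Nonempty T := hT0.to_subtype
  have hTq : ¬ q ∣ Nat.card T := by
    intro hd
    have h1 : (Nat.card S).factorization q = (Nat.card (center G)).factorization q := hN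
    rw [hST, Nat.factorization_mul Nat.card_pos.ne' Nat.card_pos.ne', Finsupp.add_apply, hZc] at h1
    have := hq.factorization_pos_of_dvd Nat.card_pos.ne' hd
    omega
  -- the action of `Q` on `T`
  have hconjS : ∀ (g : G) x, x ∈ S → g * x * g⁻¹ ∈ S := by
    intro g x hx
    change ¬ q ∣ sz (g * x * g⁻¹)
    rwa [sz_conj]
  letI : MulAction (Q : Subgroup G) T :=
    { smul := fun g t => ⟨π g * t.1 * (π g)⁻¹, by
        obtain ⟨x, hx, hxt⟩ := t.2
        exact ⟨_, hconjS g x hx, by rw [map_mul, map_mul, map_inv, hxt]⟩⟩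
      one_smul := fun t => Subtype.ext (by show π ((1 : (Q : Subgroup G)) : G) * t.1 * _ = _; simp)
      mul_smul := fun a b t => Subtype.ext (by
        show π ((a * b : (Q : Subgroup G)) : G) * t.1 * (π ((a * b : (Q : Subgroup G)) : G))⁻¹ =
          π (a : G) * (π (b : G) * t.1 * (π (b : G))⁻¹) * (π (a : G))⁻¹
        rw [Subgroup.coe_mul, map_mul, mul_inv_rev]; simp only [mul_assoc]) }
  have hmod := Q.2.card_modEq_card_fixedPoints T
  set C := centralizer ((Q : Subgroup G) : Set G) with hC
  have hZC : Z ≤ C := inf_le_right.trans (center_le_centralizer _)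
  have hfix : Nat.card (MulAction.fixedPoints (Q : Subgroup G) T) = Nat.card (C.map π) := by
    refine Nat.card_congr ⟨fun t => ⟨t.1.1, ?_⟩, fun c => ⟨⟨c.1, ?_⟩, ?_⟩, fun _ => rfl, fun _ => rfl⟩
    · obtain ⟨x, hx, hxt⟩ := t.1.2
      refine ⟨x, ?_, hxt⟩
      have hfx : ∀ g : (Q : Subgroup G), (g : G) * x * (g : G)⁻¹ * x⁻¹ ∈ Z := by
        intro g
        have h1 : π (g : G) * t.1.1 * (π (g : G))⁻¹ = t.1.1 := congrArg Subtype.val (t.2 g)
        rw [← QuotientGroup.eq_one_iff]
        change π _ = 1
        rw [map_mul, map_mul, map_mul, map_inv, map_inv, hxt, h1, mul_inv_cancel]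
      let N : Subgroup G :=
        { carrier := {g | g * x * g⁻¹ * x⁻¹ ∈ Z}
          one_mem' := by simp [one_mem]
          mul_mem' := fun {a b} ha hb => by
            change a * b * x * (a * b)⁻¹ * x⁻¹ ∈ Z
            have : a * b * x * (a * b)⁻¹ * x⁻¹ = (a * (b * x * b⁻¹ * x⁻¹) * a⁻¹) * (a * x * a⁻¹ * x⁻¹) := by group
            rw [this]
            exact mul_mem (hZn.conj_mem _ hb a) ha
          inv_mem' := fun {a} ha => by
            change a⁻¹ * x * a⁻¹⁻¹ * x⁻¹ ∈ Z
            have : a⁻¹ * x * a⁻¹⁻¹ * x⁻¹ = a⁻¹ * (a * x * a⁻¹ * x⁻¹)⁻¹ * a⁻¹⁻¹ := by group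
            rw [this]
            exact hZn.conj_mem _ (inv_mem ha) _ }
      let ψ : N →* Z :=
        { toFun := fun g => ⟨(g : G) * x * (g : G)⁻¹ * x⁻¹, g.2⟩
          map_one' := Subtype.ext (by simp)
          map_mul' := fun a b => Subtype.ext (by
            change (a : G) * b * x * ((a : G) * b)⁻¹ * x⁻¹ = ((a : G) * x * (a : G)⁻¹ * x⁻¹) * ((b : G) * x * (b : G)⁻¹ * x⁻¹)
            have hb := mem_center_iff.mp b.2.2
            calc (a : G) * b * x * ((a : G) * b)⁻¹ * x⁻¹
                = ((a : G) * ((b : G) * x * (b : G)⁻¹ * x⁻¹)) * x * (a : G)⁻¹ * x⁻¹ := by group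
              _ = ((b : G) * x * (b : G)⁻¹ * x⁻¹) * ((a : G) * x * (a : G)⁻¹ * x⁻¹) := by rw [hb]; group
              _ = _ := (hb _).symm) }
      have hker : (centralizer ({x} : Set G)).subgroupOf N ≤ ψ.ker := by
        intro g hg
        refine Subtype.ext ?_
        change (g : G) * x * (g : G)⁻¹ * x⁻¹ = 1
        rw [← mem_centralizer_iff.mp (show (g : G) ∈ centralizer ({x} : Set G) from hg) x rfl, mul_inv_cancel_right, mul_inv_cancel]
      have hidx : ¬ q ∣ ψ.ker.index := fun hd => hx ((hd.trans (index_dvd_of_le hker)).trans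
        (relIndex_dvd_index_of_le (fun g hg => by
          change g * x * g⁻¹ * x⁻¹ ∈ Z
          rw [← mem_centralizer_iff.mp hg x rfl, mul_inv_cancel_right, mul_inv_cancel]; exact one_mem Z)))
      have h1 : Nat.card ψ.range = 1 := by
        obtain ⟨k, hk⟩ := IsPGroup.iff_card.mp (hZp.to_subgroup ψ.range)
        rcases k with _ | k
        · rw [hk, pow_zero]
        · refine absurd ?_ hidx
          rw [index_ker, hk]
          exact dvd_pow_self q (Nat.succ_ne_zero k)
      change x ∈ C
      rw [hC, mem_centralizer_iff]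
      intro g hg
      have h2 : ψ ⟨g, hfx ⟨g, hg⟩⟩ = 1 := by
        have := (card_eq_one.mp h1).le ⟨⟨g, hfx ⟨g, hg⟩⟩, rfl⟩
        simpa using this
      have h3 : g * x * g⁻¹ * x⁻¹ = 1 := congrArg Subtype.val h2
      rw [mul_inv_eq_one, mul_inv_eq_iff_eq_mul] at h3
      exact h3
    · obtain ⟨x, hx, hxc⟩ := c.2
      exact ⟨x, not_dvd_sz_of_le Q hx, hxc⟩
    · intro g
      refine Subtype.ext ?_
      obtain ⟨x, hx, hxc⟩ := c.2
      change π (g : G) * c.1 * (π (g : G))⁻¹ = c.1
      rw [← hxc, ← map_mul, ← map_inv, ← map_mul, mem_centralizer_iff.mp hx g g.2, mul_inv_cancel_right]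
  rw [hfix] at hmod
  have hCq : ¬ q ∣ Nat.card (C.map π) := fun hd => hTq (hmod.dvd_iff dvd_rfl |>.mpr hd)
  -- so `z` is in `Z`
  have h1 : π z = 1 := by
    obtain ⟨k, hk⟩ := IsPGroup.iff_orderOf.mp Q.2 ⟨z, hzQ⟩
    rw [Subgroup.orderOf_mk] at hk
    have h2 : orderOf (π z) ∣ Nat.card (C.map π) := Subgroup.orderOf_dvd_natCard _ (mem_map_of_mem π hz)
    exact orderOf_eq_one_iff.mp (Nat.eq_one_of_dvd_coprimes ((hq.coprime_iff_not_dvd.mpr hCq).pow_left k)
      ((orderOf_map_dvd π z).trans (dvd_of_eq hk)) h2)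
  exact ((QuotientGroup.eq_one_iff z).mp h1).2

theorem sylow_normal {p : ℕ} [Fact p.Prime] (P : Sylow p G)
    (hcen : ∀ r : ℕ, r.Prime → r ≠ p → ∀ (R : Sylow r G) (z : G), z ∈ (R : Subgroup G) →
      z ∈ centralizer ((R : Subgroup G) : Set G) → z ∈ center G)
    (hW : ∀ r : ℕ, r.Prime → (Nat.card {x : G // ∀ t, t.Prime → t ≠ p → ¬ t ∣ sz x}).factorization r =
      if r ≠ p then (Nat.card (center G)).factorization r else (Nat.card G).factorization r) :
    (P : Subgroup G).Normal := by
  classical
  have hp : p.Prime := Fact.out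
  set W : Set G := {x | ∀ t, t.Prime → t ≠ p → ¬ t ∣ sz x}
  set K : Subgroup G := (P : Subgroup G) ⊔ center G
  -- `p`-elements of `W` lie in `P`
  have hWP : ∀ y ∈ W, IsPGroup p (zpowers y) → y ∈ (P : Subgroup G) := by
    intro y hy hyp
    obtain ⟨P', hP'⟩ := hyp.exists_le_sylow
    obtain ⟨g, hg⟩ := MulAction.exists_smul_eq G P' P
    have hgy : g * y * g⁻¹ ∈ (P : Subgroup G) := by
      rw [← hg, Sylow.coe_subgroup_smul, Subgroup.pointwise_smul_def]
      exact ⟨y, hP' (mem_zpowers y), rfl⟩
    set C := centralizer ({y} : Set G)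
    let f : (P : Subgroup G) ⧸ C.subgroupOf (P : Subgroup G) → G ⧸ C :=
      Quotient.map' (fun u => (u : G)) (fun a b hab => by
        rw [QuotientGroup.leftRel_apply] at hab ⊢
        exact hab)
    have hfinj : Function.Injective f := by
      intro a b
      induction a using Quotient.inductionOn' with
      | h a =>
        induction b using Quotient.inductionOn' with
        | h b =>
          intro hab
          exact QuotientGroup.eq.mpr (QuotientGroup.eq.mp hab :)
    have hCsz : C.index = sz y := rfl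
    have hpow : C.index = p ^ C.index.factorization p := by
      refine Nat.eq_of_factorization_eq index_ne_zero_of_finite (pow_ne_zero _ hp.ne_zero) fun t => ?_
      rw [hp.factorization_pow]
      rcases eq_or_ne t p with rfl | htp
      · rw [Finsupp.single_eq_same]
      · rw [Finsupp.single_eq_of_ne htp]
        by_cases ht : t.Prime
        · exact Nat.factorization_eq_zero_of_not_dvd (hy t ht htp)
        · exact Nat.factorization_eq_zero_of_not_prime _ ht
    have hfcard : Nat.card (G ⧸ C) ≤ Nat.card ((P : Subgroup G) ⧸ C.subgroupOf (P : Subgroup G)) := by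
      change C.index ≤ (C.subgroupOf (P : Subgroup G)).index
      obtain ⟨j, hj⟩ := IsPGroup.iff_card.mp (P.2.to_subgroup (C.subgroupOf (P : Subgroup G)))
      have hj2 : j ≤ (Nat.card C).factorization p := by
        have h1 : p ^ j ∣ Nat.card C := by
          rw [← hj, ← Subgroup.card_map_of_injective (f := (P : Subgroup G).subtype) (K := C.subgroupOf (P : Subgroup G)) (P : Subgroup G).subtype_injective]
          exact card_dvd_of_le (map_le_iff_le_comap.mpr le_rfl)
        exact (hp.pow_dvd_iff_le_factorization Nat.card_pos.ne').mp h1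
      have h3 := (C.subgroupOf (P : Subgroup G)).card_mul_index
      rw [hj, P.card_eq_multiplicity, ← card_mul_index C,
        Nat.factorization_mul Nat.card_pos.ne' index_ne_zero_of_finite, Finsupp.add_apply] at h3
      refine Nat.le_of_mul_le_mul_left ?_ (pow_pos hp.pos j)
      rw [h3, hpow, ← pow_add]
      refine Nat.pow_le_pow_right hp.pos ?_
      rw [hp.factorization_pow, Finsupp.single_eq_same]
      omega
    obtain ⟨⟨u⟩, hu⟩ := ((Function.Injective.bijective_of_nat_card_le hfinj hfcard).2) (g : G ⧸ C)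
    have hc : (u : G)⁻¹ * g ∈ C := QuotientGroup.eq.mp hu
    have hy2 : g * y * g⁻¹ = (u : G) * y * (u : G)⁻¹ := by
      have h1 : y * ((u : G)⁻¹ * g) = (u : G)⁻¹ * g * y := mem_centralizer_iff.mp hc y rfl
      calc g * y * g⁻¹ = (u : G) * ((u : G)⁻¹ * g * y) * g⁻¹ := by group
        _ = _ := by rw [← h1]; group
    rw [hy2] at hgy
    simpa [mul_assoc] using (P : Subgroup G).mul_mem ((P : Subgroup G).mul_mem (inv_mem u.2) hgy) u.2
  have hWK : ∀ y ∈ W, y ∈ K := by
    intro y hy
    suffices h : zpowers y ⊓ K = zpowers y from (inf_eq_left.mp h) (mem_zpowers y)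
    refine eq_of_le_of_card_ge inf_le_left (Nat.le_of_dvd Nat.card_pos
      ((Nat.factorization_le_iff_dvd Nat.card_pos.ne' Nat.card_pos.ne').mp fun r => ?_))
    by_cases hr : r.Prime
    swap
    · rw [Nat.factorization_eq_zero_of_not_prime _ hr]; exact Nat.zero_le _
    haveI := Fact.mk hr
    set e := (Nat.card (zpowers y)).factorization r
    set m := orderOf y / r ^ e
    have hm : r ^ e * m = orderOf y := by
      have he : e = (orderOf y).factorization r := by rw [← Nat.card_zpowers]
      simp only [m, he]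
      exact Nat.ordProj_mul_ordCompl_eq_self _ r
    have hord : orderOf (y ^ m) = r ^ e := by
      have hm0 : m ≠ 0 := fun h => (orderOf_pos y).ne' (by rw [← hm, h, mul_zero])
      rw [orderOf_pow' y hm0, ← hm, Nat.gcd_eq_right (dvd_mul_left _ _), Nat.mul_div_cancel _ (Nat.pos_of_ne_zero hm0)]
    have hpg : IsPGroup r (zpowers (y ^ m)) := IsPGroup.of_card (n := e) (by rw [Nat.card_zpowers, hord])
    have hyW : y ^ m ∈ W := fun t ht htp hd => hy t ht htp (hd.trans (index_dvd_of_le fun g hg => by
      rw [mem_centralizer_iff]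
      rintro _ rfl
      exact ((show Commute y g from mem_centralizer_iff.mp hg y rfl).pow_left m).eq))
    have hmK : y ^ m ∈ K := by
      rcases eq_or_ne r p with rfl | hrp
      · exact mem_sup_left (hWP _ hyW hpg)
      · obtain ⟨R, hR⟩ := exists_sylow_of_not_dvd (hyW r hr hrp)
        exact mem_sup_right (hcen r hr hrp R _ (mem_of_pow_mem R hpg hR) hR)
    have hle : zpowers (y ^ m) ≤ zpowers y ⊓ K := le_inf (zpowers_le.mpr (pow_mem (mem_zpowers y) m)) (zpowers_le.mpr hmK)
    have h1 := (Nat.factorization_le_iff_dvd Nat.card_pos.ne' Nat.card_pos.ne').mpr (card_dvd_of_le hle) r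
    rw [Nat.card_zpowers, hord, hr.factorization_pow, Finsupp.single_eq_same] at h1
    exact h1
  have hKW : ∀ x ∈ K, x ∈ W := by
    haveI : Nonempty W := ⟨⟨1, fun t ht _ => by
      rw [sz, show centralizer ({(1 : G)} : Set G) = ⊤ by ext; simp [mem_centralizer_iff], index_top]
      exact ht.not_dvd_one⟩⟩
    have hsub : W ⊆ (K : Set G) := hWK
    have hle : Nat.card K ≤ Nat.card W := by
      refine Nat.le_of_dvd Nat.card_pos ?_
      refine (Nat.factorization_le_iff_dvd Nat.card_pos.ne' Nat.card_pos.ne').mp fun r => ?_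
      by_cases hr : r.Prime
      swap
      · rw [Nat.factorization_eq_zero_of_not_prime _ hr]; exact Nat.zero_le _
      haveI := Fact.mk hr
      refine le_of_le_of_eq ?_ (hW r hr).symm
      rcases eq_or_ne r p with rfl | hrp
      · rw [if_neg (not_not.mpr rfl)]
        exact (Nat.factorization_le_iff_dvd Nat.card_pos.ne' Nat.card_pos.ne').mpr (card_subgroup_dvd_card _) r
      · rw [if_pos hrp]
        have h1 : Nat.card K ∣ Nat.card (P : Subgroup G) * Nat.card (center G) :=
          CfsgLib.card_sup_dvd_mul (P : Subgroup G) (center G)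
        have h2 := (Nat.factorization_le_iff_dvd Nat.card_pos.ne' (Nat.mul_pos Nat.card_pos Nat.card_pos).ne').mpr h1 r
        rwa [Nat.factorization_mul Nat.card_pos.ne' Nat.card_pos.ne', Finsupp.add_apply, P.card_eq_multiplicity,
          hp.factorization_pow, Finsupp.single_eq_of_ne hrp, zero_add] at h2
    have heq : W = (K : Set G) := Set.eq_of_subset_of_ncard_le hsub
      (by rw [← Nat.card_coe_set_eq, ← Nat.card_coe_set_eq]; exact hle) (Set.toFinite _)
    intro x hx
    rw [heq]; exact hx
  refine ⟨fun x hx g => hWP _ ?_ ?_⟩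
  · have h1 := hKW x (mem_sup_left hx)
    intro t ht htp
    rw [sz_conj]
    exact h1 t ht htp
  · obtain ⟨k, hk⟩ := IsPGroup.iff_orderOf.mp P.2 ⟨x, hx⟩
    refine IsPGroup.of_card (n := k) ?_
    rw [Nat.card_zpowers, show g * x * g⁻¹ = MulAut.conj g x from rfl, MulEquiv.orderOf_eq, ← hk, Subgroup.orderOf_mk]

end Main

theorem fiber_card {X : Type*} [Group X] (D : ConjClasses X) :
    Nat.card {x // ConjClasses.mk x = D} = Nat.card D.carrier :=
  Nat.card_congr (Equiv.subtypeEquivRight fun _ => ConjClasses.mem_carrier_iff_mk_eq.symm)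

theorem mem_center_iff_sz {X : Type*} [Group X] (x : X) : x ∈ center X ↔ sz x = 1 := by
  rw [sz, index_eq_one, centralizer_eq_top_iff_subset]
  simp

theorem main {G : Type u} {H : Type v} [Group G] [Finite G] [Group H] [Finite H] (hH : Group.IsNilpotent H)
    (h : ∀ k : ℕ, Nat.card {C : ConjClasses G // Nat.card C.carrier = k} =
      Nat.card {C : ConjClasses H // Nat.card C.carrier = k}) : Group.IsNilpotent G := by
  classical
  let e : ConjClasses G ≃ ConjClasses H :=
    Equiv.ofFiberEquiv (f := fun C => Nat.card C.carrier) (g := fun C => Nat.card C.carrier)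
      fun k => (Finite.card_eq.mp (h k)).some
  have he : ∀ C : ConjClasses G, Nat.card (e C).carrier = Nat.card C.carrier := fun C =>
    Equiv.ofFiberEquiv_map (f := fun C : ConjClasses G => Nat.card C.carrier) (g := fun C : ConjClasses H => Nat.card C.carrier)
      (fun k => (Finite.card_eq.mp (h k)).some) C
  let ψ : (Σ C : ConjClasses G, {x // ConjClasses.mk x = C}) ≃ (Σ D : ConjClasses H, {x // ConjClasses.mk x = D}) :=
    Equiv.sigmaCongr e fun C => (Finite.card_eq.mp (by rw [fiber_card, fiber_card, he])).some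
  let φ : G ≃ H := (Equiv.sigmaFiberEquiv (ConjClasses.mk (α := G))).symm.trans
    (ψ.trans (Equiv.sigmaFiberEquiv (ConjClasses.mk (α := H))))
  have hmk : ∀ x, ConjClasses.mk (φ x) = e (ConjClasses.mk x) := fun x =>
    (ψ ((Equiv.sigmaFiberEquiv (ConjClasses.mk (α := G))).symm x)).2.2
  have hsz : ∀ x, sz (φ x) = sz x := fun x => by rw [sz_eq, sz_eq, hmk, he]
  have hcard : ∀ (p : ℕ → Prop), Nat.card {x : G // p (sz x)} = Nat.card {x : H // p (sz x)} := fun p =>
    Nat.card_congr (φ.subtypeEquiv fun x => by rw [hsz])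
  have hZ : Nat.card (center G) = Nat.card (center H) := by
    rw [Nat.card_congr (Equiv.subtypeEquivRight fun x : G => mem_center_iff_sz x), hcard (fun n => n = 1),
      Nat.card_congr (Equiv.subtypeEquivRight fun x : H => mem_center_iff_sz x)]
  have hG : Nat.card G = Nat.card H := Nat.card_congr φ
  have hcen : ∀ r : ℕ, r.Prime → ∀ (R : Sylow r G) (z : G), z ∈ (R : Subgroup G) →
      z ∈ centralizer ((R : Subgroup G) : Set G) → z ∈ center G := by
    intro r hr R z hz hz'
    haveI := Fact.mk hr
    refine sylow_center_le R ?_ hz hz'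
    have h1 := count_nilpotent hH (fun t => t = r) r hr
    rw [if_pos rfl, ← hZ] at h1
    rw [← h1, hcard (fun n => ¬ r ∣ n)]
    exact congrArg (fun n : ℕ => n.factorization r) (Nat.card_congr (Equiv.subtypeEquivRight fun x =>
      ⟨fun hx t _ ht => ht ▸ hx, fun hx => hx r hr rfl⟩))
  have hnorm : ∀ (p : ℕ) (_ : Fact p.Prime) (P : Sylow p G), (P : Subgroup G).Normal := by
    intro p hp P
    haveI := hp
    refine sylow_normal P (fun r hr _ => hcen r hr) fun r hr => ?_
    rw [hcard (fun n => ∀ t, t.Prime → t ≠ p → ¬ t ∣ n), count_nilpotent hH (fun t => t ≠ p) r hr, hZ, hG]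
  exact ((Group.isNilpotent_of_finite_tfae (G := G)).out 3 0).mp hnorm

/-- Let G and H be finite groups such that for every natural number k, G and H have the same number of conjugacy classes of size k. If H is nilpotent then G is nilpotent. -/
theorem result {G H : Type*} [Group G] [Finite G] [Group H] [Finite H]
    (hH : Group.IsNilpotent H)
    (h : ∀ k : ℕ, Nat.card {C : ConjClasses G // Nat.card C.carrier = k} = Nat.card {C : ConjClasses H // Nat.card C.carrier = k}) :
    Group.IsNilpotent G := by
  exact main hH h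

end Cfsg.Agent.S4139
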