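import Cfsg.Statements.S0503
import Cfsg.Agent.Lib.Nonconn.Finish

set_option autoImplicit false
open Cfsg

namespace Cfsg.Agent.S0503

/-- A finite simple group containing an elementary abelian subgroup of order 8 whose Sylow 2-subgroups have a
disconnected commuting graph of Klein four-subgroups is simple of order 604800 or 50232960. -/
theorem result {G : Type*} [Group G] [Finite G] [IsSimpleGroup G]
    (h3 : ¬ Cfsg.PRankLE 2 2 G) (S : Sylow 2 G) (hS : ¬ Cfsg.IsFourConnected (S : Subgroup G)) :
    Cfsg.IsJ2 G ∨ Cfsg.IsJ3 G := by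
  obtain ⟨c, rfl⟩ := CfsgLib.Nonconn.exists_ctx h3 S hS
  exact c.conclude

end Cfsg.Agent.S0503
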