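import Cfsg.Statements.S4189
import Mathlib
import Cfsg.Agent.Lib.TausskyTwo
import Cfsg.Agent.Lib.Elementary
-- import your own Cfsg.Agent.* helpers here

set_option autoImplicit false
open Cfsg

namespace Cfsg.Agent.S4189

/-- Let P be a finite non-abelian 2-group whose commutator subgroup has index 4 and whose automorphism group is not a 2-group (some automorphism has order that is not a power of 2). Then P is isomorphic to the quaternion group of order 8. -/
theorem result {P : Type*} [Group P] [Finite P] (hP : IsPGroup 2 P) (hna : ¬ IsMulCommutative P) (h4 : (commutator P).index = 4) (haut : ¬ IsPGroup 2 (MulAut P)) : Nonempty (P ≃* QuaternionGroup 2) := by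
  have := Fact.mk Nat.prime_two
  have hsq : ∀ g : P, g ^ 2 ∈ commutator P := by
    intro g
    by_contra hg
    have hc : Nat.card (P ⧸ commutator P) = 4 := h4
    have hG4 : (QuotientGroup.mk' (commutator P) g) ^ 2 ≠ 1 := by
      rw [← map_pow, QuotientGroup.mk'_apply, ne_eq, QuotientGroup.eq_one_iff]; exact hg
    -- then the quotient is cyclic and P is abelian
    have hcyc : IsCyclic (P ⧸ commutator P) := by
      refine isCyclic_of_orderOf_eq_card (QuotientGroup.mk' (commutator P) g) ?_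
      have hd := orderOf_dvd_natCard (QuotientGroup.mk' (commutator P) g)
      rw [hc] at hd ⊢
      obtain ⟨i, hi, hie⟩ := (Nat.dvd_prime_pow Nat.prime_two).mp (show _ ∣ 2 ^ 2 from hd)
      interval_cases i
      · exact absurd (by rw [orderOf_eq_one_iff.mp hie, one_pow]) hG4
      · exact absurd (orderOf_dvd_iff_pow_eq_one.mp (by rw [hie]; norm_num)) hG4
      · simpa using hie
    have := hP.isNilpotent
    obtain ⟨y, hy⟩ := hcyc.exists_generator
    obtain ⟨y, rfl⟩ := QuotientGroup.mk'_surjective _ y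
    have htop : Subgroup.zpowers y ⊔ frattini P = ⊤ := by
      refine eq_top_iff.mpr fun x _ => ?_
      obtain ⟨i, hi⟩ := hy (QuotientGroup.mk' _ x)
      simp only at hi
      rw [← map_zpow, QuotientGroup.mk'_apply, QuotientGroup.mk'_apply, QuotientGroup.eq] at hi
      rw [show x = y ^ i * ((y ^ i)⁻¹ * x) by group]
      exact Subgroup.mul_mem_sup (Subgroup.zpow_mem _ (Subgroup.mem_zpowers y) i)
        (CfsgLib.commutator_le_frattini_pGroup hP hi)
    have htop' := frattini_nongenerating htop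
    refine hna ⟨⟨fun u v => ?_⟩⟩
    obtain ⟨i, rfl⟩ := Subgroup.mem_zpowers_iff.mp (htop' ▸ Subgroup.mem_top u : u ∈ Subgroup.zpowers y)
    obtain ⟨j, rfl⟩ := Subgroup.mem_zpowers_iff.mp (htop' ▸ Subgroup.mem_top v : v ∈ Subgroup.zpowers y)
    rw [← zpow_add, ← zpow_add, add_comm]
  have h8 : 8 ≤ Nat.card P := by
    have h5 := (commutator P).card_mul_index
    rw [h4] at h5
    have h6 : 1 < Nat.card (commutator P) := by
      refine Nat.lt_of_le_of_ne Nat.card_pos fun e => hna ((commutator_eq_bot_iff P).mp (Subgroup.card_eq_one.mp e.symm))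
    omega
  obtain ⟨m, a, b, hm, ha, hcard, hb, hgen, hshape⟩ := CfsgLib.TausskyTwo.cases_taussky hP h4 hsq h8
  -- either Q₈, or a characteristic cyclic subgroup of index two
  by_cases hQ : m = 2 ∧ b * a * b⁻¹ = a⁻¹ ∧ b ^ 2 = a ^ 2 ^ (m - 1)
  · obtain ⟨rfl, hconj, hs⟩ := hQ
    exact CfsgLib.Frob.quaternion_iso two_pos a b (by rw [ha]; rfl) hs hconj hb hgen
  exfalso
  have hout : ∀ g : P, g ∉ Subgroup.zpowers a → g ^ 2 ^ (m - 1) = 1 := by
    intro g hg
    obtain ⟨i, hi⟩ := Subgroup.mem_zpowers_iff.mp ((hgen g).resolve_left hg)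
    have hgb : g = b * a ^ i := by rw [hi, mul_inv_cancel_left]
    have h2m : ∀ z : P, z ^ 2 = 1 → z ^ 2 ^ (m - 1) = 1 := fun z hz => by
      rw [show m - 1 = (m - 2) + 1 by omega, pow_succ', pow_mul, hz, one_pow]
    rcases hshape with ⟨hconj, hs⟩ | ⟨hm3, hconj, hs⟩
    · have hg2 : g ^ 2 = b ^ 2 := by
        rw [hgb, pow_two, show b * a ^ i * (b * a ^ i) = b * a ^ i * b⁻¹ * (b * b) * a ^ i by group, ← conj_zpow, hconj]
        have hcomm : b * b * a = a * (b * b) := by
          calc b * b * a = (b * (b * a * b⁻¹) * b⁻¹) * (b * b) := by group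
            _ = a * (b * b) := by rw [hconj, ← conj_inv, hconj, inv_inv]
        rw [mul_assoc, (show Commute (b * b) a from hcomm).zpow_right i |>.eq, ← mul_assoc, inv_zpow,
          ← zpow_neg, zpow_neg, inv_mul_cancel, one_mul, pow_two]
      rcases hs with hs | hs
      · exact h2m g (hg2.trans hs)
      · have hm3 : 3 ≤ m := by
          by_contra hc
          exact hQ ⟨by omega, hconj, hs⟩
        rw [show m - 1 = (m - 2) + 1 by omega, pow_succ', pow_mul, hg2, hs, ← pow_mul, ← pow_add, ← orderOf_dvd_iff_pow_eq_one, ha]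
        exact pow_dvd_pow 2 (by omega)
    · have hg2 : g ^ 2 = (a ^ 2 ^ (m - 1)) ^ i := by
        rw [hgb, pow_two, show b * a ^ i * (b * a ^ i) = b * a ^ i * b⁻¹ * (b * b) * a ^ i by group, ← conj_zpow, hconj,
          ← pow_two, hs, mul_one, ← zpow_natCast, ← zpow_mul, ← zpow_add, ← zpow_natCast, ← zpow_mul]
        congr 1
        push_cast [Nat.one_le_two_pow]
        ring
      rw [show m - 1 = (m - 2) + 1 by omega, pow_succ', pow_mul, hg2, ← zpow_natCast, ← zpow_mul, mul_comm, zpow_mul, zpow_natCast, ← pow_mul, ← pow_add,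
        orderOf_dvd_iff_pow_eq_one.mp (show orderOf a ∣ _ from ha ▸ pow_dvd_pow 2 (by omega)), one_zpow]
  -- an automorphism of odd prime order
  obtain ⟨φ, hφ⟩ : ∃ φ : MulAut P, ∀ j, φ ^ 2 ^ j ≠ 1 := by
    by_contra hc
    push Not at hc
    exact haut hc
  obtain ⟨q, hq, hqo, hq2⟩ : ∃ q, q.Prime ∧ q ∣ orderOf φ ∧ q ≠ 2 := by
    by_contra hc
    push Not at hc
    have h := Nat.eq_prime_pow_of_unique_prime_dvd (orderOf_pos φ).ne' fun {d} hd hdo => hc d hd hdo
    exact hφ _ (h ▸ pow_orderOf_eq_one φ)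
  set ψ := φ ^ (orderOf φ / q) with hψ
  have hψq : ψ ^ q = 1 := by rw [hψ, ← pow_mul, Nat.div_mul_cancel hqo, pow_orderOf_eq_one]
  have hψ1 : ψ ≠ 1 := fun e => by
    have := Nat.le_of_dvd (Nat.div_pos (Nat.le_of_dvd (orderOf_pos φ) hqo) hq.pos) (orderOf_dvd_of_pow_eq_one e)
    exact absurd this (not_le.mpr (Nat.div_lt_self (orderOf_pos φ) hq.one_lt))
  obtain ⟨i, hi⟩ : ∃ i : ℕ, ψ a = a ^ i := by
    have hmem : ψ a ∈ Subgroup.zpowers a := by
      by_contra hc
      have h1 := hout _ hc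
      rw [← map_pow, ← map_one ψ] at h1
      have h3 := orderOf_dvd_of_pow_eq_one (ψ.injective h1)
      rw [ha, Nat.pow_dvd_pow_iff_le_right (by norm_num)] at h3
      omega
    obtain ⟨i, hi⟩ := mem_powers_iff_mem_zpowers.mpr hmem
    exact ⟨i, hi.symm⟩
  have hpow : ∀ n : ℕ, (ψ ^ n) a = a ^ i ^ n := by
    intro n
    induction n with
    | zero => simp
    | succ n ih => rw [pow_succ', MulAut.mul_apply, ih, map_pow, hi, ← pow_mul, pow_succ']
  have hq1 : (i : ZMod (2 ^ m)) ^ q = 1 := by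
    have := hpow q
    rw [hψq] at this
    have h2 : a ^ 1 = a ^ i ^ q := by rwa [pow_one]
    rw [pow_eq_pow_iff_modEq, ha, ← ZMod.natCast_eq_natCast_iff] at h2
    push_cast at h2
    exact h2.symm
  have hcop : Nat.Coprime i (2 ^ m) := by
    refine Nat.Coprime.pow_right _ ((Nat.prime_two.coprime_iff_not_dvd.mpr fun hd => ?_).symm)
    have h1 := hpow q
    rw [hψq] at h1
    have h2 : a ^ 1 = a ^ i ^ q := by rwa [pow_one]
    rw [pow_eq_pow_iff_modEq, ha] at h2
    have h3 := (h2.of_dvd (dvd_pow_self 2 (show m ≠ 0 by omega))).dvd_iff (d := 2) dvd_rfl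
    exact absurd (h3.mpr (dvd_pow hd hq.ne_zero)) (by norm_num)
  have htot : (i : ZMod (2 ^ m)) ^ 2 ^ (m - 1) = 1 := by
    have := Nat.ModEq.pow_totient hcop
    rw [Nat.totient_prime_pow Nat.prime_two (show 0 < m by omega), Nat.add_one_sub_one, mul_one,
      ← ZMod.natCast_eq_natCast_iff] at this
    push_cast at this
    exact this
  have hone : (i : ZMod (2 ^ m)) = 1 := by
    have := pow_gcd_eq_one.mpr ⟨hq1, htot⟩
    rwa [(((Nat.coprime_primes hq Nat.prime_two).mpr hq2).pow_right (m - 1)).gcd_eq_one, pow_one] at this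
  have hψa : ψ a = a := by
    rw [hi, ← pow_one a, ← pow_mul, one_mul, pow_eq_pow_iff_modEq, ha, ← ZMod.natCast_eq_natCast_iff, hone, Nat.cast_one]
  have hψA : ∀ x ∈ Subgroup.zpowers a, ψ x = x := fun x hx => by
    obtain ⟨l, rfl⟩ := Subgroup.mem_zpowers_iff.mp hx
    rw [map_zpow, hψa]
  have hψb : ψ b ∉ Subgroup.zpowers a := fun hc => hb (by
    have h := hψA _ hc
    exact (ψ.injective h) ▸ hc)
  have hd : b⁻¹ * ψ b ∈ Subgroup.zpowers a := (hgen _).resolve_left hψb
  have hiter : ∀ n : ℕ, (ψ ^ n) b = b * (b⁻¹ * ψ b) ^ n := by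
    intro n
    induction n with
    | zero => simp
    | succ n ih =>
      rw [pow_succ', MulAut.mul_apply, ih, map_mul, map_pow, hψA _ hd, pow_succ', ← mul_assoc b, mul_inv_cancel_left]
  have hd1 : b⁻¹ * ψ b = 1 := by
    have h1 := hiter q
    rw [hψq, MulAut.one_apply, left_eq_mul] at h1
    obtain ⟨j, hj⟩ := IsPGroup.iff_orderOf.mp hP (b⁻¹ * ψ b)
    have := Nat.eq_one_of_dvd_coprimes (((Nat.coprime_primes hq Nat.prime_two).mpr hq2).pow_right j)
      (orderOf_dvd_of_pow_eq_one h1) (hj ▸ dvd_rfl)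
    exact orderOf_eq_one_iff.mp this
  refine hψ1 (MulEquiv.ext fun g => ?_)
  show ψ g = g
  rcases hgen g with hg | hg
  · exact hψA g hg
  · calc ψ g = ψ (b * (b⁻¹ * g)) := by rw [mul_inv_cancel_left]
      _ = g := by rw [map_mul, hψA _ hg, ← (inv_mul_eq_one.mp hd1), mul_inv_cancel_left]

end Cfsg.Agent.S4189
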