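import Cfsg.Statements.S0682
import Mathlib
-- import your own Cfsg.Agent.* helpers here

set_option autoImplicit false
open Cfsg

namespace Cfsg.Agent.S0682

/-- A finite near-field has prime-power order; its additive group is commutative of prime exponent. -/
theorem result {F : Type*} [Cfsg.NearField F] [Finite F] : ∃ p j : ℕ, p.Prime ∧ 1 ≤ j ∧ Nat.card F = p ^ j ∧ (∀ x y : F, x + y = y + x) ∧ ∀ x : F, p • x = 0 := by
  classical
  have hz : ∀ c : F, 0 * c = 0 := fun c => by
    have h := Cfsg.NearField.right_distrib (0 : F) 0 c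
    rwa [add_zero, left_eq_add] at h
  let R : F → (F →+ F) := fun c => AddMonoidHom.mk' (fun a => a * c) (fun a b => Cfsg.NearField.right_distrib a b c)
  have htrans : ∀ x y : F, x ≠ 0 → y ≠ 0 → ∃ f : F →+ F, Function.Injective f ∧ f x = y := by
    intro x y hx hy
    obtain ⟨b, hb1, -⟩ := Cfsg.NearField.exists_inv x hx
    refine ⟨R (b * y), ?_, ?_⟩
    · obtain ⟨d, hd1, -⟩ := Cfsg.NearField.exists_inv (b * y) (fun e => by
        have h1 : x * (b * y) = y := by rw [← mul_assoc, hb1, one_mul]
        rw [e, Cfsg.NearField.mul_zero] at h1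
        exact hy h1.symm)
      intro u v huv
      have h2 := congrArg (· * d) (show u * (b * y) = v * (b * y) from huv)
      simpa [mul_assoc, hd1] using h2
    · show x * (b * y) = y
      rw [← mul_assoc, hb1, one_mul]
  have hne : (1 : F) ≠ 0 := Ne.symm Cfsg.NearField.zero_ne_one
  have : Nontrivial F := ⟨⟨1, 0, hne⟩⟩
  obtain ⟨p, hp, hpd⟩ := Nat.exists_prime_and_dvd (n := Nat.card F) (by have := Finite.one_lt_card (α := F); omega)
  have := Fact.mk hp
  obtain ⟨x, hx⟩ := exists_prime_addOrderOf_dvd_card' p hpd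
  have hx0 : x ≠ 0 := fun e => hp.ne_one (by rw [← hx, e, addOrderOf_zero])
  have hpx : ∀ y : F, p • y = 0 := by
    intro y
    by_cases hy : y = 0
    · simp [hy]
    obtain ⟨f, -, rfl⟩ := htrans x y hx0 hy
    rw [← map_nsmul, ← hx, addOrderOf_nsmul_eq_zero, map_zero]
  have hpg : IsPGroup p (Multiplicative F) := fun y => ⟨1, by
    rw [pow_one]; exact congrArg Multiplicative.ofAdd (hpx y.toAdd)⟩
  obtain ⟨j, hj⟩ := hpg.exists_card_eq
  have hj' : Nat.card F = p ^ j := hj
  refine ⟨p, j, hp, ?_, hj', ?_, hpx⟩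
  · by_contra h0
    have := Finite.one_lt_card (α := F)
    rw [hj', show j = 0 by omega, pow_zero] at this
    exact lt_irrefl _ this
  · haveI := hpg.center_nontrivial
    obtain ⟨⟨z, hz'⟩, hz1⟩ := exists_ne (1 : Subgroup.center (Multiplicative F))
    have hzc : ∀ w : F, w + z.toAdd = z.toAdd + w := fun w =>
      congrArg Multiplicative.toAdd (Subgroup.mem_center_iff.mp hz' (Multiplicative.ofAdd w))
    intro u v
    by_cases hv : v = 0
    · simp [hv]
    obtain ⟨f, hf, rfl⟩ := htrans z.toAdd v (fun e => hz1 (Subtype.ext e)) hv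
    obtain ⟨w, rfl⟩ := (Finite.injective_iff_surjective.mp hf) u
    rw [← map_add, ← map_add, hzc]

end Cfsg.Agent.S0682
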