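import Cfsg.Statements.S2261
import Mathlib.FieldTheory.Finite.Extension
-- import your own Cfsg.Agent.* helpers here

set_option autoImplicit false
open Cfsg

namespace Cfsg.Agent.S2261

/-- Let F be a finite field with q elements and d ≥ 1. Then every element of PGL_d(F) = GL_d(F)/Z has order at most (q^d − 1)/(q − 1), and some element (the image of a Singer cycle) has exactly this order. -/
theorem result {F : Type*} [Field F] [Fintype F] (d : ℕ) (hd : 1 ≤ d) :
    (∀ g : (GL (Fin d) F ⧸ Subgroup.center (GL (Fin d) F)), (Fintype.card F - 1) * orderOf g ≤ Fintype.card F ^ d - 1) ∧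
    (∃ g : (GL (Fin d) F ⧸ Subgroup.center (GL (Fin d) F)), (Fintype.card F - 1) * orderOf g = Fintype.card F ^ d - 1) := by
  classical
  obtain ⟨p, hp⟩ := CharP.exists F
  haveI : Fact p.Prime := ⟨CharP.char_is_prime F p⟩
  have hq : 1 < Fintype.card F := Fintype.one_lt_card
  haveI : Nonempty (Fin d) := ⟨⟨0, hd⟩⟩
  have hcen : ∀ (z : GL (Fin d) F), z ∈ Subgroup.center (GL (Fin d) F) ↔
      ∃ c : Fˣ, Matrix.GeneralLinearGroup.scalar (Fin d) c = z := fun z => by
    rw [Matrix.GeneralLinearGroup.center_eq_range_scalar]; rfl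
  constructor
  · intro x
    obtain ⟨g, rfl⟩ := QuotientGroup.mk_surjective x
    set N := orderOf (QuotientGroup.mk g : GL (Fin d) F ⧸ Subgroup.center (GL (Fin d) F))
    -- coefficient vectors for the scalar multiples of the powers of `g`
    have hrep : ∀ (c : Fˣ) (i : ℕ), ∃ a : Fin d → F,
        ∑ j, a j • g.1 ^ (j : ℕ) = (c : F) • g.1 ^ i := by
      intro c i
      set P := (Polynomial.C (c : F) * Polynomial.X ^ i) %ₘ g.1.charpoly
      have hP : Polynomial.aeval g.1 P = (c : F) • g.1 ^ i := by
        rw [Polynomial.aeval_modByMonic_eq_self_of_root (Matrix.aeval_self_charpoly _), map_mul,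
          Polynomial.aeval_C, map_pow, Polynomial.aeval_X, Algebra.smul_def]
      have hdeg : P.natDegree < d := by
        have := Polynomial.natDegree_modByMonic_lt (Polynomial.C (c : F) * Polynomial.X ^ i)
          g.1.charpoly_monic (fun h1 => by
            have h2 := g.1.charpoly_natDegree_eq_dim
            rw [h1, Polynomial.natDegree_one, Fintype.card_fin] at h2
            omega)
        rwa [Matrix.charpoly_natDegree_eq_dim, Fintype.card_fin] at this
      refine ⟨fun j => P.coeff j, ?_⟩
      rw [← hP, Polynomial.aeval_eq_sum_range' hdeg, Finset.sum_range]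
    choose a ha using hrep
    have hinj : Function.Injective (fun z : Fˣ × Fin N => a z.1 z.2) := by
      rintro ⟨c, i⟩ ⟨c', i'⟩ h
      have e : (c : F) • g.1 ^ (i : ℕ) = (c' : F) • g.1 ^ (i' : ℕ) := by
        rw [← ha, ← ha]; simp only at h; rw [h]
      have e' : Matrix.GeneralLinearGroup.scalar (Fin d) c * g ^ (i : ℕ) =
          Matrix.GeneralLinearGroup.scalar (Fin d) c' * g ^ (i' : ℕ) := by
        refine Units.ext ?_
        show Matrix.scalar (Fin d) (c : F) * (g ^ (i : ℕ)).1 =
          Matrix.scalar (Fin d) (c' : F) * (g ^ (i' : ℕ)).1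
        rw [Units.val_pow_eq_pow_val, Units.val_pow_eq_pow_val, Matrix.scalar_apply,
          Matrix.scalar_apply, ← Matrix.smul_one_eq_diagonal, ← Matrix.smul_one_eq_diagonal,
          smul_mul_assoc, smul_mul_assoc, one_mul, one_mul]
        exact e
      have hi := congrArg (QuotientGroup.mk :
        GL (Fin d) F → GL (Fin d) F ⧸ Subgroup.center (GL (Fin d) F)) e'
      simp only [QuotientGroup.mk_mul, QuotientGroup.mk_pow,
        (QuotientGroup.eq_one_iff _).mpr ((hcen _).mpr ⟨c, rfl⟩),
        (QuotientGroup.eq_one_iff _).mpr ((hcen _).mpr ⟨c', rfl⟩), one_mul] at hi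
      have hii : i = i' := Fin.ext (pow_injOn_Iio_orderOf i.2 i'.2 hi)
      subst hii
      refine Prod.ext (Units.ext ?_) rfl
      obtain ⟨k, l, hkl⟩ : ∃ k l, (g ^ (i : ℕ)).1 k l ≠ 0 := by
        by_contra hc
        push Not at hc
        exact (g ^ (i : ℕ)).ne_zero (Matrix.ext hc)
      have hkl' : (g.1 ^ (i : ℕ)) k l ≠ 0 := by rwa [← Units.val_pow_eq_pow_val]
      have := congrFun (congrFun e k) l
      simp only [Matrix.smul_apply, smul_eq_mul] at this
      exact mul_right_cancel₀ hkl' this
    have hne : ∀ z : Fˣ × Fin N, a z.1 z.2 ≠ 0 := by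
      rintro ⟨c, i⟩ h0
      have := ha c i
      simp only at h0
      rw [h0] at this
      simp only [Pi.zero_apply, zero_smul, Finset.sum_const_zero] at this
      exact (g ^ (i : ℕ)).ne_zero ((Units.val_pow_eq_pow_val g i).trans
        ((smul_eq_zero.mp this.symm).resolve_left c.ne_zero))
    have hle := Fintype.card_le_of_injective
      (fun z => (⟨a z.1 z.2, hne z⟩ : {v : Fin d → F // v ≠ 0}))
      (fun z z' h => hinj (congrArg Subtype.val h))
    rw [Fintype.card_prod, Fintype.card_units, Fintype.card_fin, Fintype.card_subtype_compl,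
      Fintype.card_fun, Fintype.card_fin, Fintype.card_subtype_eq] at hle
    exact hle
  · haveI : NeZero d := ⟨by omega⟩
    let K := FiniteField.Extension F p d
    let b := Module.finBasisOfFinrankEq F K (FiniteField.finrank_extension F p d)
    obtain ⟨ζ, hζ⟩ := IsCyclic.exists_generator (α := Kˣ)
    let ψ : Kˣ →* GL (Fin d) F := Units.map (Algebra.leftMulMatrix b).toRingHom.toMonoidHom
    let φ : Kˣ →* GL (Fin d) F ⧸ Subgroup.center (GL (Fin d) F) := (QuotientGroup.mk' _).comp ψ
    refine ⟨φ ζ, ?_⟩
    have hker : φ.ker = (Units.map (algebraMap F K).toMonoidHom).range := by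
      ext u
      rw [MonoidHom.mem_ker, MonoidHom.comp_apply, QuotientGroup.mk'_apply,
        QuotientGroup.eq_one_iff, hcen]
      constructor
      · rintro ⟨c, hc⟩
        refine ⟨c, Units.ext (Algebra.leftMulMatrix_injective b ?_)⟩
        show Algebra.leftMulMatrix b (algebraMap F K c) = Algebra.leftMulMatrix b u
        rw [AlgHom.commutes]
        exact congrArg (fun x : GL (Fin d) F => x.1) hc
      · rintro ⟨c, rfl⟩
        refine ⟨c, Units.ext ?_⟩
        exact ((Algebra.leftMulMatrix b).commutes (c : F)).symm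
    have hck : Nat.card φ.ker = Fintype.card F - 1 := by
      rw [hker, ← Fintype.card_units, ← Nat.card_eq_fintype_card]
      exact (Nat.card_congr (MonoidHom.ofInjective
        (Units.map_injective (algebraMap F K).injective)).toEquiv).symm
    have hr : φ.range = Subgroup.zpowers (φ ζ) := by
      rw [MonoidHom.range_eq_map, ← MonoidHom.map_zpowers]
      congr 1
      exact (Subgroup.eq_top_iff' _).mpr hζ |>.symm
    have h := φ.ker.card_mul_index
    rw [Subgroup.index_ker, hck, hr, Nat.card_zpowers, Nat.card_units,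
      FiniteField.natCard_extension, Nat.card_eq_fintype_card (α := F)] at h
    exact h

end Cfsg.Agent.S2261
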