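import Cfsg.Statements.S3333
import Cfsg.Agent.Lib.ThreeCC.Wreath.Six

set_option autoImplicit false
open Cfsg

namespace Cfsg.Agent.S3333

/-- Let G be a finite group with a Sylow 3-subgroup S of order 9 that is its own centralizer, with N_G(S)/S dihedral of order 8, and such that C_G(x) ≤ N_G(S) for every non-identity x in S. Then S is normal in G or G is isomorphic to the symmetric group of degree 6. -/
theorem result {G : Type*} [Group G] [Finite G]
    (P : Sylow 3 G) (S : Subgroup G) (hSP : S = P) (hcard : Nat.card S = 9)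
    (hC : Subgroup.centralizer (S : Set G) = S)
    (eN : Subgroup.normalizer (S : Set G) ⧸ S.subgroupOf (Subgroup.normalizer (S : Set G)) ≃* DihedralGroup 4)
    (hcent : ∀ x ∈ S, x ≠ 1 → Subgroup.centralizer ({x} : Set G) ≤ Subgroup.normalizer (S : Set G)) :
    S.Normal ∨ Nonempty (G ≃* Equiv.Perm (Fin 6)) := by
  classical
  haveI : Fact (Nat.Prime 2) := ⟨Nat.prime_two⟩
  haveI : Fact (Nat.Prime 3) := ⟨Nat.prime_three⟩
  haveI : Fintype G := Fintype.ofFinite G
  subst hSP
  set N := Subgroup.normalizer ((P : Subgroup G) : Set G) with hNdef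
  set SN := (P : Subgroup G).subgroupOf N with hSN
  have hle : (P : Subgroup G) ≤ N := Subgroup.le_normalizer
  haveI hab : IsMulCommutative (P : Subgroup G) :=
    IsPGroup.isMulCommutative_of_card_eq_prime_sq (p := 3) (by rw [hcard]; norm_num)
  -- the exponent
  have hexp : ∀ t ∈ (P : Subgroup G), t ^ 3 = 1 := by
    intro t ht
    by_contra ht3
    have hot : orderOf t = 9 := by
      obtain ⟨k, hk, hkc⟩ := (Nat.dvd_prime_pow Nat.prime_three).mp
        (show orderOf t ∣ 3 ^ 2 by norm_num; exact hcard ▸ Subgroup.orderOf_dvd_natCard _ ht)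
      interval_cases k
      · exact absurd (by rw [pow_zero, orderOf_eq_one_iff] at hkc; rw [hkc, one_pow]) ht3
      · exact absurd (by rw [pow_one] at hkc; rw [← hkc]; exact pow_orderOf_eq_one t) ht3
      · simpa using hkc
    have hgen : Subgroup.zpowers t = (P : Subgroup G) :=
      Subgroup.eq_of_le_of_card_ge (Subgroup.zpowers_le.mpr ht) (by rw [Nat.card_zpowers, hot, hcard])
    have hact : ∀ n : N, ∃ i : ℤ, (n : G) * t * (n : G)⁻¹ = t ^ i := fun n => by
      obtain ⟨i, hi⟩ := Subgroup.mem_zpowers_iff.mp (hgen.symm ▸ (Subgroup.mem_normalizer_iff.mp n.2 t).mp ht :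
        (n : G) * t * (n : G)⁻¹ ∈ Subgroup.zpowers t)
      exact ⟨i, hi.symm⟩
    have hcomm : ∀ a b : N, (a * b)⁻¹ * (b * a) ∈ SN := fun a b => by
      obtain ⟨i, hi⟩ := hact a
      obtain ⟨j, hj⟩ := hact b
      have e1 : ((a * b : N) : G) * t * ((a * b : N) : G)⁻¹ = t ^ (i * j) := by
        rw [Subgroup.coe_mul, show (a : G) * b * t * ((a : G) * b)⁻¹ = (a : G) * ((b : G) * t * (b : G)⁻¹) * (a : G)⁻¹ by group,
          hj, ← conj_zpow, hi, ← zpow_mul]
      have e2 : ((b * a : N) : G) * t * ((b * a : N) : G)⁻¹ = t ^ (i * j) := by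
        rw [Subgroup.coe_mul, show (b : G) * a * t * ((b : G) * a)⁻¹ = (b : G) * ((a : G) * t * (a : G)⁻¹) * (b : G)⁻¹ by group,
          hi, ← conj_zpow, hj, ← zpow_mul, mul_comm]
      rw [Subgroup.mem_subgroupOf]
      refine hC.le (Subgroup.mem_centralizer_iff.mpr fun x hx => ?_)
      obtain ⟨l, rfl⟩ := Subgroup.mem_zpowers_iff.mp (hgen.symm ▸ hx : x ∈ Subgroup.zpowers t)
      refine (Commute.zpow_left ?_ l).eq
      have h := e1.trans e2.symm
      simp only [Subgroup.coe_mul, InvMemClass.coe_inv] at h ⊢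
      set u := ((a : G) * b)
      set w := ((b : G) * a)
      show t * (u⁻¹ * w) = u⁻¹ * w * t
      calc t * (u⁻¹ * w) = u⁻¹ * (u * t * u⁻¹) * w := by group
        _ = u⁻¹ * w * t := by rw [h]; group
    have habq : ∀ x y : N ⧸ SN, x * y = y * x := by
      intro x y
      induction x using QuotientGroup.induction_on with
      | H a =>
        induction y using QuotientGroup.induction_on with
        | H b =>
          rw [← QuotientGroup.mk_mul, ← QuotientGroup.mk_mul, QuotientGroup.eq]
          exact hcomm a b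
    have h := habq (eN.symm (DihedralGroup.r 1)) (eN.symm (DihedralGroup.sr 0))
    rw [← map_mul, ← map_mul] at h
    exact absurd (eN.symm.injective h) (by decide)
  let d : CfsgLib.ThreeCC.Setting G :=
    { T := P
      ab := fun x hx y hy => congrArg Subtype.val (mul_comm' (⟨x, hx⟩ : (P : Subgroup G)) ⟨y, hy⟩)
      exp := hexp
      self := hC.le
      cent := hcent }
  have hS9 : Nat.card SN = 9 := by
    rw [Nat.card_congr (Subgroup.subgroupOfEquivOfLe hle).toEquiv, hcard]
  have hN : Nat.card N = 72 := by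
    rw [Subgroup.card_eq_card_quotient_mul_card_subgroup SN, Nat.card_congr eN.toEquiv, hS9, DihedralGroup.nat_card]
  -- a complement
  obtain ⟨R, hR⟩ := Sylow.exists_subgroup_card_pow_prime 2 (G := N) (n := 3) (by rw [hN]; norm_num)
  let q : R →* DihedralGroup 4 := eN.toMonoidHom.comp ((QuotientGroup.mk' SN).comp R.subtype)
  have hq : Function.Bijective q := by
    refine (Nat.bijective_iff_injective_and_card q).mpr ⟨?_, by rw [hR, DihedralGroup.nat_card]; norm_num⟩
    rw [injective_iff_map_eq_one]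
    intro x hx
    have hxS : (x : N) ∈ SN := (QuotientGroup.eq_one_iff _).mp (eN.map_eq_one_iff.mp hx)
    have h1 := orderOf_dvd_natCard x
    have h2 := Subgroup.orderOf_dvd_natCard SN hxS
    rw [Subgroup.orderOf_coe] at h2
    rw [hR] at h1
    rw [hS9] at h2
    have := Nat.dvd_gcd h1 h2
    norm_num at this
    exact this
  let f : DihedralGroup 4 →* G := N.subtype.comp (R.subtype.comp (MulEquiv.ofBijective q hq).symm.toMonoidHom)
  obtain ⟨m⟩ := CfsgLib.ThreeCC.Wreath.nonempty_model d hcard hN f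
    (N.subtype_injective.comp (R.subtype_injective.comp (MulEquiv.ofBijective q hq).symm.injective))
    (fun x => ((MulEquiv.ofBijective q hq).symm x : N).2)
  by_cases hnt : Subgroup.normalizer ((d.T : Subgroup G) : Set G) = ⊤
  · exact Or.inl (Subgroup.normalizer_eq_top_iff.mp hnt)
  obtain ⟨s⟩ := CfsgLib.ThreeCC.Wreath.normal_or_signed m hcard hnt
  obtain ⟨n, ⟨NN⟩, hcase, -, hval⟩ := s.numbers
  rcases hcase with ⟨rfl, hg⟩ | ⟨rfl, hg⟩
  · exact Or.inr (s.iso_six (NN.five s hg).1)
  · exact (NN.fourteen s hg (by have := hval NN; norm_num at this; exact this)).elim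

end Cfsg.Agent.S3333
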