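import Cfsg.Statements.S3343
import Cfsg.Agent.Lib.Sym9Three.Half
import Cfsg.Agent.Lib.Sym9Three.Case0
import Cfsg.Agent.Lib.Sym9Three.Case1
import Cfsg.Agent.Lib.Sym9Three.Case2
import Cfsg.Agent.Lib.Sym9Three.CaseSmall
import Cfsg.Agent.Lib.Sym9Three.CaseSix
import Cfsg.Agent.Lib.Sym9Three.ThreeQuot
import Cfsg.Agent.Lib.Sym9Three.SixCoords

set_option autoImplicit false
open Cfsg

namespace Cfsg.Agent.S3343

/-- Let G be a finite group with an element x of order 3 whose centralizer is isomorphic to the centralizer in the symmetric group of degree 9 of a product of three disjoint 3-cycles, and let J ≤ C_G(x) be elementary abelian of order 27 normalizing no non-trivial subgroup of G of order prime to 3. Then either J is normal in G or G is isomorphic to the symmetric group of degree 9. -/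
theorem result {G : Type*} [Group G] [Finite G]
    (x : G) (hx : orderOf x = 3)
    (eC : Subgroup.centralizer ({x} : Set G) ≃*
      Subgroup.centralizer ({Equiv.swap (0 : Fin 9) 1 * Equiv.swap 1 2 * Equiv.swap 3 4 * Equiv.swap 4 5 * Equiv.swap 6 7 * Equiv.swap 7 8} : Set (Equiv.Perm (Fin 9))))
    (J : Subgroup G) (hJC : J ≤ Subgroup.centralizer ({x} : Set G)) (hJcomm : IsMulCommutative J)
    (hJexp : ∀ j ∈ J, j ^ 3 = 1) (hJcard : Nat.card J = 27)
    (hJsig : ∀ K : Subgroup G, (Nat.card K).Coprime 3 → (∀ j ∈ J, K.map (MulAut.conj j).toMonoidHom = K) → K = ⊥) :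
    J.Normal ∨ Nonempty (G ≃* Equiv.Perm (Fin 9)) := by
  have hcomm : ∀ a ∈ J, ∀ b ∈ J, a * b = b * a := fun a ha b hb =>
    congrArg Subtype.val (hJcomm.is_comm.comm (⟨a, ha⟩ : J) ⟨b, hb⟩)
  obtain ⟨F, rfl⟩ := CfsgLib.Sym9Three.exists_frame_of_data x hx eC J hJC hcomm hJcard hJsig
  by_cases h0 : F.k = 0
  · exact Or.inl (F.normal_of_zero h0)
  by_cases h1 : F.k = 1
  · exact Or.inl (F.normal_of_one h1)
  by_cases h2 : F.k = 2
  · exact Or.inl (F.normal_of_two h2)
  have h3 : F.k = 3 := by revert h0 h1 h2; generalize F.k = k; decide +revert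
  rcases F.good_or_six h3 with hg | ⟨ψ, hψ, hker⟩
  · obtain ⟨H, hH, h6⟩ := F.exists_half_of_good h3 hg
    exact F.normal_or_sym9 h3 H hH h6
  · obtain ⟨D⟩ := F.exists_sixData h3 ψ hψ hker
    obtain ⟨H, hH, h6⟩ := D.exists_half h3
    exact F.normal_or_sym9 h3 H hH h6

end Cfsg.Agent.S3343
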