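import Cfsg.Statements.S3376
import Cfsg.Agent.Lib.WreathThreeSym
-- import your own Cfsg.Agent.* helpers here

set_option autoImplicit false
open Cfsg CfsgLib.WreathThreeSym

namespace Cfsg.Agent.S3376

/-- Let G be a group of order 162 = 3⁴·2 with Sylow 3-subgroup S and Sylow 2-subgroup T, having an elementary abelian normal subgroup J of order 27, such that Z = Z(S) has order 3, Z centralizes T, and C_S(T) ≠ S. Then G is isomorphic to the centralizer in Sym(9) of a product of three disjoint 3-cycles. -/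
theorem result {G : Type*} [Group G] [Finite G] (hG : Nat.card G = 162)
    (S : Sylow 3 G) (T : Sylow 2 G) (J : Subgroup G) [hJn : J.Normal] (hJcomm : IsMulCommutative J)
    (hJexp : ∀ a ∈ J, a ^ 3 = 1) (hJcard : Nat.card J = 27)
    (Z : Subgroup G) (hZ : Z = (S : Subgroup G) ⊓ Subgroup.centralizer ((S : Subgroup G) : Set G)) (hZcard : Nat.card Z = 3)
    (hZT : Z ≤ Subgroup.centralizer ((T : Subgroup G) : Set G))
    (hST : (S : Subgroup G) ⊓ Subgroup.centralizer ((T : Subgroup G) : Set G) ≠ S) :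
    Nonempty (G ≃* Subgroup.centralizer ({Equiv.swap (0 : Fin 9) 1 * Equiv.swap 1 2 * Equiv.swap 3 4 * Equiv.swap 4 5 * Equiv.swap 6 7 * Equiv.swap 7 8} : Set (Equiv.Perm (Fin 9)))) := by
  classical
  haveI : Fact (Nat.Prime 3) := ⟨Nat.prime_three⟩
  haveI : Fact (Nat.Prime 2) := ⟨Nat.prime_two⟩
  have hjc : ∀ x ∈ J, ∀ y ∈ J, x * y = y * x := fun x hx y hy =>
    congrArg Subtype.val (hJcomm.is_comm.comm ⟨x, hx⟩ ⟨y, hy⟩)
  have hcardS : Nat.card (S : Subgroup G) = 81 := by
    rw [S.card_eq_multiplicity, hG, show (162 : ℕ) = 3 ^ 4 * 2 by norm_num, Nat.factorization_mul (by norm_num)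
      (by norm_num), Finsupp.add_apply, Nat.Prime.factorization_pow Nat.prime_three, Finsupp.single_eq_same,
      Nat.factorization_eq_zero_of_not_dvd (show ¬ 3 ∣ 2 by norm_num)]
    norm_num
  have hcardT : Nat.card (T : Subgroup G) = 2 := by
    rw [T.card_eq_multiplicity, hG, show (162 : ℕ) = 3 ^ 4 * 2 by norm_num, Nat.factorization_mul (by norm_num)
      (by norm_num), Finsupp.add_apply, Nat.factorization_eq_zero_of_not_dvd (show ¬ 2 ∣ 3 ^ 4 by norm_num),
      Nat.Prime.factorization_self Nat.prime_two]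
    norm_num
  have hJS : J ≤ (S : Subgroup G) :=
    (IsPGroup.of_card (n := 3) (by rw [hJcard]; norm_num)).le_sylow_of_normal S
  have hidxS : (S : Subgroup G).index = 2 := by
    have h1 := (S : Subgroup G).card_mul_index
    rw [hcardS, hG] at h1
    omega
  haveI hSn : (S : Subgroup G).Normal := Subgroup.normal_of_index_eq_two hidxS
  -- the involution
  obtain ⟨⟨t, htT⟩, ht0⟩ := exists_prime_orderOf_dvd_card' (G := (T : Subgroup G)) 2 (by rw [hcardT])
  have ht : orderOf t = 2 := by rwa [Subgroup.orderOf_mk] at ht0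
  have htt : t * t = 1 := by rw [← pow_two, ← ht, pow_orderOf_eq_one]
  have hti : t⁻¹ = t := inv_eq_of_mul_eq_one_right htt
  have hTgen : Subgroup.zpowers t = (T : Subgroup G) :=
    Subgroup.eq_of_le_of_card_ge (Subgroup.zpowers_le.mpr htT) (by rw [hcardT, Nat.card_zpowers, ht])
  have htS : t ∉ (S : Subgroup G) := fun h => by
    have := Subgroup.orderOf_dvd_natCard _ h
    rw [ht, hcardS] at this
    norm_num at this
  -- elements outside J generate S over J
  have hgen : ∀ r ∈ (S : Subgroup G), r ∉ J → J ⊔ Subgroup.zpowers r = (S : Subgroup G) := by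
    intro r hr hrJ
    refine Subgroup.eq_of_le_of_card_ge (sup_le hJS (Subgroup.zpowers_le.mpr hr)) ?_
    have hlt : J < J ⊔ Subgroup.zpowers r :=
      lt_of_le_of_ne le_sup_left fun h => hrJ (h.ge (Subgroup.mem_sup_right (Subgroup.mem_zpowers r)))
    obtain ⟨j, hj⟩ := (S.2.to_le (sup_le hJS (Subgroup.zpowers_le.mpr hr))).exists_card_eq
    have h1 : Nat.card J < Nat.card ↥(J ⊔ Subgroup.zpowers r) := Set.ncard_lt_ncard (SetLike.coe_ssubset_coe.mpr hlt) (Set.toFinite _)
    rw [hJcard, hj] at h1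
    rw [hcardS, hj]
    have : 4 ≤ j := by
      by_contra h
      push Not at h
      have := Nat.pow_le_pow_right (show 3 > 0 by norm_num) (show j ≤ 3 by omega)
      omega
    exact (show 81 = 3 ^ 4 by norm_num) ▸ Nat.pow_le_pow_right (show 3 > 0 by norm_num) this
  have hfixZ : ∀ r ∈ (S : Subgroup G), r ∉ J → ∀ x ∈ J, r * x = x * r → x ∈ Z := by
    intro r hr hrJ x hx hrx
    rw [hZ]
    refine ⟨hJS hx, Subgroup.mem_centralizer_iff.mpr fun a ha => ?_⟩
    have hle : J ⊔ Subgroup.zpowers r ≤ Subgroup.centralizer {x} := by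
      refine sup_le (fun y hy => ?_) (Subgroup.zpowers_le.mpr ?_)
      · exact Subgroup.mem_centralizer_singleton_iff.mpr (hjc y hy x hx)
      · exact Subgroup.mem_centralizer_singleton_iff.mpr hrx
    rw [hgen r hr hrJ] at hle
    exact Subgroup.mem_centralizer_singleton_iff.mp (hle ha)
  have htZ : ∀ x ∈ Z, t * x = x * t := fun x hx => Subgroup.mem_centralizer_iff.mp (hZT hx) t htT
  have hnJ : ∀ g : G, ∀ x ∈ J, g * x * g⁻¹ ∈ J := fun g x hx => hJn.conj_mem x hx g
  -- an element outside J inverted by t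
  obtain ⟨s, hsS, hsJ, hts⟩ : ∃ s ∈ (S : Subgroup G), s ∉ J ∧ t * s * t = s⁻¹ := by
    have hinv : ∀ a, t * (t * a * t * a⁻¹) * t = (t * a * t * a⁻¹)⁻¹ := fun a => by
      simp only [mul_inv_rev, hti, inv_inv, mul_assoc]
      rw [← mul_assoc t t, htt, one_mul]
    have hSa : ∀ a ∈ (S : Subgroup G), t * a * t * a⁻¹ ∈ (S : Subgroup G) := fun a ha =>
      mul_mem (by simpa [hti] using hSn.conj_mem a ha t) (inv_mem ha)
    by_contra hno
    push Not at hno
    have hallJ : ∀ a ∈ (S : Subgroup G), t * a * t * a⁻¹ ∈ J := fun a ha => by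
      by_contra h
      exact hno _ (hSa a ha) h (hinv a)
    -- then t centralizes J
    obtain ⟨r, hr, hrJ⟩ : ∃ r ∈ (S : Subgroup G), r ∉ J := by
      refine Set.not_subset.mp fun h => ?_
      have := Subgroup.card_le_of_le (show (S : Subgroup G) ≤ J from h)
      omega
    have hactr : ∀ x ∈ J, t * (r * x * r⁻¹) * t = r * (t * x * t) * r⁻¹ := by
      intro x hx
      have hj := hallJ r hr
      have hx' : t * x * t ∈ J := by simpa [hti] using hnJ t x hx
      have h1 := hjc _ hj _ (hnJ r _ hx')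
      have e1 : t * (r * x * r⁻¹) * t =
          (t * r * t * r⁻¹) * (r * (t * x * t) * r⁻¹) * (t * r * t * r⁻¹)⁻¹ := by
        simp only [mul_inv_rev, hti, inv_inv, mul_assoc, inv_mul_cancel_left]
        simp only [← mul_assoc t t, htt, one_mul]
      rw [e1, h1, mul_inv_cancel_right]
    -- inverted elements of J are trivial
    have hinvtriv : ∀ y ∈ J, t * y * t = y⁻¹ → y = 1 := by
      have hsq : ∀ y ∈ J, y⁻¹ = y → y = 1 := fun y hy h => by
        have h3 := hJexp y hy
        rw [pow_succ, pow_two] at h3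
        have : y * y = 1 := by nth_rw 1 [← h]; exact inv_mul_cancel y
        rwa [this, one_mul] at h3
      have hZtriv : ∀ y ∈ J, y ∈ Z → t * y * t = y⁻¹ → y = 1 := fun y hy hyZ h => by
        rw [htZ y hyZ, mul_assoc, htt, mul_one] at h
        exact hsq y hy h.symm
      -- one commutation step
      have hstep : ∀ y ∈ J, t * y * t = y⁻¹ → y⁻¹ * (r * y * r⁻¹) ∈ J ∧
          t * (y⁻¹ * (r * y * r⁻¹)) * t = (y⁻¹ * (r * y * r⁻¹))⁻¹ := by
        intro y hy h
        refine ⟨mul_mem (inv_mem hy) (hnJ r y hy), ?_⟩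
        have h' : t * y⁻¹ * t = y := by
          have := congrArg (·⁻¹) h
          simpa [hti, mul_assoc] using this
        calc t * (y⁻¹ * (r * y * r⁻¹)) * t = (t * y⁻¹ * t) * (t * (r * y * r⁻¹) * t) := by
              simp only [mul_assoc]; rw [← mul_assoc t t, htt, one_mul]
          _ = y * (r * y⁻¹ * r⁻¹) := by rw [h', hactr y hy, h]
          _ = (r * y⁻¹ * r⁻¹) * y := hjc _ hy _ (hnJ r _ (inv_mem hy))
          _ = _ := by group
      -- elements whose image is fixed
      have hlow : ∀ y ∈ J, t * y * t = y⁻¹ → y⁻¹ * (r * y * r⁻¹) ∈ Z → y = 1 := by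
        intro y hy h hz
        obtain ⟨h1, h2⟩ := hstep y hy h
        have h3 := hZtriv _ h1 hz h2
        refine hZtriv y hy (hfixZ r hr hrJ y hy ?_) h
        have := (inv_mul_eq_one.mp h3).symm
        exact mul_inv_eq_iff_eq_mul.mp this
      intro y hy h
      by_contra hy1
      obtain ⟨h1, h2⟩ := hstep y hy h
      have hd1 : y⁻¹ * (r * y * r⁻¹) ≠ 1 := fun e => hy1 (hlow y hy h (e ▸ one_mem Z))
      obtain ⟨h3, h4⟩ := hstep _ h1 h2
      have hd2 : (y⁻¹ * (r * y * r⁻¹))⁻¹ * (r * (y⁻¹ * (r * y * r⁻¹)) * r⁻¹) ≠ 1 := fun e =>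
        hd1 (hlow _ h1 h2 (e ▸ one_mem Z))
      -- the third commutator is trivial since the action is unipotent
      refine hd2 (hZtriv _ h3 (hfixZ r hr hrJ _ h3 ?_) h4)
      set K : Subgroup G := Subgroup.centralizer {r} ⊓ J with hK
      have hr3 : r ^ 3 ∈ J := by
        have hsub : (J.subgroupOf (S : Subgroup G)).index = 3 := by
          have := (J.subgroupOf (S : Subgroup G)).card_mul_index
          rw [Nat.card_congr (Subgroup.subgroupOfEquivOfLe hJS).toEquiv, hJcard, hcardS] at this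
          omega
        have := Subgroup.pow_index_mem (J.subgroupOf (S : Subgroup G)) (⟨r, hr⟩ : (S : Subgroup G))
        rw [hsub] at this
        exact this
      have hr3' : r * (r * (r * y * r⁻¹) * r⁻¹) * r⁻¹ = y := by
        have : r ^ 3 * y * (r ^ 3)⁻¹ = y := by rw [hjc _ hr3 _ hy, mul_inv_cancel_right]
        conv_rhs => rw [← this]
        simp only [pow_succ, pow_zero, one_mul, mul_inv_rev, mul_assoc]
      set u := r * y * r⁻¹ with hu
      set w := r * u * r⁻¹ with hw
      have hu' : u ∈ J := hnJ r y hy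
      have hw' : w ∈ J := hnJ r u hu'
      have e : (y⁻¹ * u)⁻¹ * (r * (y⁻¹ * u) * r⁻¹) = y * u * w := by
        have e0 : r * (y⁻¹ * u) * r⁻¹ = u⁻¹ * w := by rw [hw, hu]; group
        have h3 := hJexp u hu'
        rw [pow_succ, pow_two] at h3
        have e1 : u⁻¹ * u⁻¹ = u := by rw [← mul_inv_rev]; exact inv_eq_of_mul_eq_one_right h3
        rw [e0]
        calc (y⁻¹ * u)⁻¹ * (u⁻¹ * w) = u⁻¹ * (y * u⁻¹) * w := by group
          _ = (u⁻¹ * u⁻¹) * y * w := by rw [hjc y hy _ (inv_mem hu')]; group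
          _ = y * u * w := by rw [e1, hjc u hu' y hy]
      rw [e]
      refine mul_inv_eq_iff_eq_mul.mp ?_
      calc r * (y * u * w) * r⁻¹ = (r * y * r⁻¹) * (r * u * r⁻¹) * (r * w * r⁻¹) := by group
        _ = u * w * y := by
          have e3 : r * w * r⁻¹ = y := by rw [hw, hu]; exact hr3'
          rw [← hu, ← hw, e3]
        _ = y * u * w := by rw [← hjc y hy (u * w) (mul_mem hu' hw')]; exact (mul_assoc y u w).symm
    refine hST (le_antisymm inf_le_left fun a ha => ⟨ha, ?_⟩)
    have h1 := hinvtriv _ (hallJ a ha) (hinv a)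
    refine Subgroup.mem_centralizer_iff.mpr ?_
    rw [← hTgen]
    rintro _ ⟨i, rfl⟩
    have hcom : Commute t a := by
      show t * a = a * t
      have := mul_inv_eq_one.mp h1
      calc t * a = (t * a * t) * t := by rw [mul_assoc _ t t, htt, mul_one]
        _ = a * t := by rw [this]
    exact (hcom.zpow_left i).eq
  -- its order is three
  have hs3 : s ^ 3 = 1 := by
    have hsub : (J.subgroupOf (S : Subgroup G)).index = 3 := by
      have := (J.subgroupOf (S : Subgroup G)).card_mul_index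
      rw [Nat.card_congr (Subgroup.subgroupOfEquivOfLe hJS).toEquiv, hJcard, hcardS] at this
      omega
    haveI : (J.subgroupOf (S : Subgroup G)).Normal := inferInstance
    have h3 : s ^ 3 ∈ J := by
      have := Subgroup.pow_index_mem (J.subgroupOf (S : Subgroup G)) (⟨s, hsS⟩ : (S : Subgroup G))
      rw [hsub] at this
      exact this
    have hz := hfixZ s hsS hsJ _ h3 ((Commute.refl s).pow_right 3).eq
    have h4 : t * s ^ 3 * t = (s ^ 3)⁻¹ := by
      rw [← inv_pow, ← hts]
      nth_rw 2 [← hti]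
      rw [← conj_pow, hti]
    rw [htZ _ hz, mul_assoc, htt, mul_one] at h4
    have h5 := hJexp _ h3
    rw [pow_succ, pow_two] at h5
    nth_rw 1 [h4] at h5
    rwa [inv_mul_cancel, one_mul] at h5
  -- the norm
  let Nf : G → G := fun x => x * (s * x * s⁻¹) * (s * (s * x * s⁻¹) * s⁻¹)
  have hs33 : ∀ x, s * (s * (s * x * s⁻¹) * s⁻¹) * s⁻¹ = x := fun x => by
    calc s * (s * (s * x * s⁻¹) * s⁻¹) * s⁻¹ = s ^ 3 * x * (s ^ 3)⁻¹ := by
          simp only [pow_succ, pow_zero, one_mul, mul_inv_rev, mul_assoc]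
      _ = x := by rw [hs3, one_mul, inv_one, mul_one]
  have hNmem : ∀ x ∈ J, Nf x ∈ J := fun x hx =>
    mul_mem (mul_mem hx (hnJ s x hx)) (hnJ s _ (hnJ s x hx))
  have hNfix : ∀ x ∈ J, Nf x ∈ Z := fun x hx => hfixZ s hsS hsJ _ (hNmem x hx) (by
    refine mul_inv_eq_iff_eq_mul.mp ?_
    set u := s * x * s⁻¹ with hu
    set w := s * u * s⁻¹ with hw
    have hu' : u ∈ J := hnJ s x hx
    calc s * (x * u * w) * s⁻¹ = u * w * (s * w * s⁻¹) := by rw [hw, hu]; group
      _ = u * w * x := by
        have e3 : s * w * s⁻¹ = x := by rw [hw, hu]; exact hs33 x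
        rw [e3]
      _ = x * u * w := by rw [← hjc x hx (u * w) (mul_mem hu' (hnJ s u hu'))]; exact (mul_assoc x u w).symm)
  obtain ⟨a, haJ, haN⟩ : ∃ a ∈ J, Nf a ≠ 1 := by
    by_contra hall
    push Not at hall
    let d : J →* J := MonoidHom.mk' (fun x => ⟨(x : G)⁻¹ * (s * x * s⁻¹), mul_mem (inv_mem x.2) (hnJ s x x.2)⟩)
      (fun x y => Subtype.ext (by
        show ((x : G) * y)⁻¹ * (s * ((x : G) * y) * s⁻¹) = (x : G)⁻¹ * (s * x * s⁻¹) * ((y : G)⁻¹ * (s * y * s⁻¹))
        have hc := hjc _ (inv_mem y.2) _ (mul_mem (inv_mem x.2) (hnJ s x x.2))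
        calc _ = (y : G)⁻¹ * ((x : G)⁻¹ * (s * x * s⁻¹)) * (s * y * s⁻¹) := by group
          _ = _ := by rw [hc]; group))
    have hk : Nat.card d.ker ≤ 3 := by
      rw [← hZcard]
      refine Nat.card_le_card_of_injective (fun x => (⟨x.1.1, hfixZ s hsS hsJ _ x.1.2 ?_⟩ : Z))
        (fun x y h => Subtype.ext (Subtype.ext (congrArg (fun z : Z => (z : G)) h :)))
      have : (x.1.1 : G)⁻¹ * (s * x.1.1 * s⁻¹) = 1 := congrArg Subtype.val x.2
      exact mul_inv_eq_iff_eq_mul.mp (inv_mul_eq_one.mp this).symm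
    have hr : d.range ≤ d.ker := by
      rintro _ ⟨x, rfl⟩
      refine Subtype.ext ?_
      show ((x : G)⁻¹ * (s * x * s⁻¹))⁻¹ * (s * ((x : G)⁻¹ * (s * x * s⁻¹)) * s⁻¹) = 1
      have hN := hall x x.2
      set u := s * (x : G) * s⁻¹ with hu
      set w := s * u * s⁻¹ with hw
      have hu' : u ∈ J := hnJ s x x.2
      have e : s * ((x : G)⁻¹ * u) * s⁻¹ = u⁻¹ * w := by rw [hw, hu]; group
      rw [e, mul_inv_rev, inv_inv]
      have h3 := hJexp u hu'
      rw [pow_succ, pow_two] at h3
      have hu2 : u⁻¹ = u * u := inv_eq_of_mul_eq_one_left h3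
      calc u⁻¹ * x * (u⁻¹ * w) = u⁻¹ * (x * u⁻¹) * w := by group
        _ = (u⁻¹ * u⁻¹) * x * w := by rw [hjc x x.2 _ (inv_mem hu')]; group
        _ = u * x * w := by rw [← mul_inv_rev, inv_eq_of_mul_eq_one_right h3]
        _ = x * u * w := by rw [hjc u hu' x x.2]
        _ = 1 := hN
    have h1 := d.ker.card_mul_index
    rw [Subgroup.index_ker, hJcard] at h1
    have := Nat.mul_le_mul hk ((Subgroup.card_le_of_le hr).trans hk)
    omega
  -- a generator fixed by t
  set b := t * a * t with hb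
  have hbJ : b ∈ J := by rw [hb]; simpa [hti] using hnJ t a haJ
  set v := a * b with hv
  have hvJ : v ∈ J := mul_mem haJ hbJ
  have htv : t * v = v * t := by
    have : t * v * t = v := by
      rw [hv, hb]
      calc t * (a * (t * a * t)) * t = (t * a * t) * a * (t * t) := by group
        _ = _ := by rw [htt, mul_one, ← hb, hjc b hbJ a haJ]
    calc t * v = (t * v * t) * t := by rw [mul_assoc _ t t, htt, mul_one]
      _ = v * t := by rw [this]
  set u := s * v * s⁻¹ with hu
  set w := s * u * s⁻¹ with hw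
  have huJ : u ∈ J := hnJ s v hvJ
  have hwJ : w ∈ J := hnJ s u huJ
  have hts' : t * s * t⁻¹ = s⁻¹ := by rw [hti, hts]
  have hs2 : s⁻¹ = s ^ 2 := inv_eq_of_mul_eq_one_right (by rw [← pow_succ', hs3])
  have hN : Nf v ≠ 1 := by
    intro h
    have hNb : Nf b = Nf a := by
      have hza := htZ _ (hNfix a haJ)
      have e1 : ∀ y, s * (t * y * t) * s⁻¹ = t * (s⁻¹ * y * s) * t := fun y => by
        have e2 : s * t = t * s⁻¹ := by rw [← hts, ← mul_assoc, ← mul_assoc, htt, one_mul]
        have e3 : t * s⁻¹ = s * t := e2.symm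
        have e4 : t * s = s⁻¹ * t := by rw [← hts, mul_assoc _ t t, htt, mul_one]
        calc s * (t * y * t) * s⁻¹ = (s * t) * y * (t * s⁻¹) := by group
          _ = (t * s⁻¹) * y * (s * t) := by rw [e2]
          _ = _ := by group
      show b * (s * b * s⁻¹) * (s * (s * b * s⁻¹) * s⁻¹) = _
      rw [hb, e1, e1]
      calc t * a * t * (t * (s⁻¹ * a * s) * t) * (t * (s⁻¹ * (s⁻¹ * a * s) * s) * t)
          = t * (a * (s⁻¹ * a * s) * (s⁻¹ * (s⁻¹ * a * s) * s)) * t := by
            simp only [mul_assoc]; rw [← mul_assoc t t, htt, one_mul, ← mul_assoc t t, htt, one_mul]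
        _ = t * Nf a * t := by
          have i1 : s⁻¹ * a * s = s * (s * a * s⁻¹) * s⁻¹ := by
            conv_lhs => rw [← hs33 a]
            group
          have i2 : s⁻¹ * (s⁻¹ * a * s) * s = s * a * s⁻¹ := by rw [i1]; group
          rw [i2, i1]
          congr 2
          show _ = a * (s * a * s⁻¹) * (s * (s * a * s⁻¹) * s⁻¹)
          rw [mul_assoc a, mul_assoc a, hjc _ (hnJ s _ (hnJ s a haJ)) _ (hnJ s a haJ)]
        _ = Nf a := by rw [hza, mul_assoc, htt, mul_one]
    have hmul : Nf v = Nf a * Nf b := by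
      show (a * b) * (s * (a * b) * s⁻¹) * (s * (s * (a * b) * s⁻¹) * s⁻¹) = _
      have c1 := hjc b hbJ _ (hnJ s a haJ)
      have c2 := hjc (b * (s * b * s⁻¹)) (mul_mem hbJ (hnJ s b hbJ)) _ (hnJ s _ (hnJ s a haJ))
      calc _ = a * (b * (s * a * s⁻¹)) * (s * b * s⁻¹) * (s * (s * a * s⁻¹) * s⁻¹) * (s * (s * b * s⁻¹) * s⁻¹) := by
            group
        _ = a * (s * a * s⁻¹) * (b * (s * b * s⁻¹) * (s * (s * a * s⁻¹) * s⁻¹)) * (s * (s * b * s⁻¹) * s⁻¹) := by
            rw [c1]; group
        _ = _ := by rw [c2]; show _ = (a * _ * _) * (b * _ * _); group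
    rw [hmul, hNb] at h
    have h3 := hJexp _ (hNmem a haJ)
    rw [pow_succ, pow_two, h, one_mul] at h3
    exact haN h3
  have hrel : Rel v u w s t :=
    { v3 := hJexp v hvJ, u3 := hJexp u huJ, w3 := hJexp w hwJ, s3 := hs3
      t2 := by rw [pow_two, htt]
      vu := hjc v hvJ u huJ, vw := hjc v hvJ w hwJ, uw := hjc u huJ w hwJ
      sv := by rw [hu, inv_mul_cancel_right]
      su := by rw [hw, inv_mul_cancel_right]
      sw := mul_inv_eq_iff_eq_mul.mp (by rw [hw, hu, hs33])
      tv := htv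
      tu := by
        have e : t * u * t = w := by
          rw [hu]
          calc t * (s * v * s⁻¹) * t = (t * s * t) * (t * v * t) * (t * s * t)⁻¹ := by
                simp only [mul_inv_rev, hti, mul_assoc]; simp only [← mul_assoc t t, htt, one_mul]
            _ = s⁻¹ * v * s := by rw [hts, htv, mul_assoc v t t, htt, mul_one, inv_inv]
            _ = w := by
              rw [hw, hu]
              conv_lhs => rw [← hs33 v]
              group
        calc t * u = (t * u * t) * t := by rw [mul_assoc _ t t, htt, mul_one]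
          _ = w * t := by rw [e]
      tw := by
        have e : t * w * t = u := by
          rw [hw, hu]
          calc t * (s * (s * v * s⁻¹) * s⁻¹) * t =
              (t * s * t) * ((t * s * t) * (t * v * t) * (t * s * t)⁻¹) * (t * s * t)⁻¹ := by
                simp only [mul_inv_rev, hti, mul_assoc]; simp only [← mul_assoc t t, htt, one_mul]
            _ = s⁻¹ * (s⁻¹ * v * s) * s := by rw [hts, htv, mul_assoc v t t, htt, mul_one, inv_inv]
            _ = s * v * s⁻¹ := by
              conv_lhs => rw [← hs33 v]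
              group
        calc t * w = (t * w * t) * t := by rw [mul_assoc _ t t, htt, mul_one]
          _ = u * t := by rw [e]
      ts := by rw [← hs2, ← hts, mul_assoc _ t t, htt, mul_one] }
  have hinjG : Function.Injective (val v u w s t) := by
    have hmulG := val_mul hrel
    have hshift : ∀ x y z : ZMod 3, v ^ x.val * u ^ y.val * w ^ z.val = 1 →
        v ^ z.val * u ^ x.val * w ^ y.val = 1 := by
      intro x y z h
      have h' := hmulG (0, 0, 0, 1, 0) (x, y, z, 0, 0)
      simp only [val, mul] at h'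
      simp [h, show (1 : ZMod 3).val = 1 from rfl] at h'
      exact h'
    have hzero : ∀ x y z : ZMod 3, v ^ x.val * u ^ y.val * w ^ z.val = 1 → x = 0 ∧ y = 0 ∧ z = 0 := by
      intro x y z h
      by_contra hne
      obtain ⟨i, j, l, e1, e2, e3⟩ := CfsgLib.WreathThreeSym.span_shift x y z hne
      have h1 := hshift _ _ _ h
      have h2 := hshift _ _ _ h1
      have hF : ∀ (m : ℕ) (x y z : ZMod 3), v ^ x.val * u ^ y.val * w ^ z.val = 1 →
          v ^ ((m : ZMod 3) * x).val * u ^ ((m : ZMod 3) * y).val * w ^ ((m : ZMod 3) * z).val = 1 := by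
        intro m x y z hh
        induction m with
        | zero => simp
        | succ m ih =>
          have h' := hmulG ((m : ZMod 3) * x, (m : ZMod 3) * y, (m : ZMod 3) * z, 0, 0) (x, y, z, 0, 0)
          simp only [val, mul] at h'
          simp [ih, hh] at h'
          rw [show ((m + 1 : ℕ) : ZMod 3) * x = (m : ZMod 3) * x + x by push_cast; ring,
            show ((m + 1 : ℕ) : ZMod 3) * y = (m : ZMod 3) * y + y by push_cast; ring,
            show ((m + 1 : ℕ) : ZMod 3) * z = (m : ZMod 3) * z + z by push_cast; ring]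
          exact h'.symm
      have g1 := hF i.val _ _ _ h
      have g2 := hF j.val _ _ _ h1
      have g3 := hF l.val _ _ _ h2
      rw [ZMod.natCast_zmod_val] at g1 g2 g3
      have k1 := hmulG (i * x, i * y, i * z, 0, 0) (j * z, j * x, j * y, 0, 0)
      simp only [val, mul] at k1
      simp [g1, g2] at k1
      have k2 := hmulG (i * x + j * z, i * y + j * x, i * z + j * y, 0, 0) (l * y, l * z, l * x, 0, 0)
      simp only [val, mul] at k2
      simp [g3, ← k1, e1, e2, e3, show (1 : ZMod 3).val = 1 from rfl] at k2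
      exact hN (by show v * u * w = 1; exact k2.symm)
    have htriv : ∀ x, val v u w s t x = 1 → x = (0, 0, 0, 0, 0) := by
      rintro ⟨x, y, z, k, e⟩ h
      simp only [val] at h
      have hABC : v ^ x.val * u ^ y.val * w ^ z.val ∈ J :=
        mul_mem (mul_mem (pow_mem hvJ _) (pow_mem huJ _)) (pow_mem hwJ _)
      obtain rfl | rfl := CfsgLib.WreathThreeSym.two_cases e
      · rw [show (0 : ZMod 2).val = 0 from rfl, pow_zero, mul_one] at h
        have hk : k = 0 := by
          by_contra hk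
          apply hsJ
          have hsk : s ^ k.val ∈ J := by
            rw [show s ^ k.val = (v ^ x.val * u ^ y.val * w ^ z.val)⁻¹ from eq_inv_of_mul_eq_one_right h]
            exact inv_mem hABC
          obtain rfl | rfl := CfsgLib.WreathThreeSym.three_ne_cases k hk
          · rwa [show (1 : ZMod 3).val = 1 from rfl, pow_one] at hsk
          · rw [show (2 : ZMod 3).val = 2 from rfl, ← hs2] at hsk
            simpa using inv_mem hsk
        subst hk
        rw [show (0 : ZMod 3).val = 0 from rfl, pow_zero, mul_one] at h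
        obtain ⟨rfl, rfl, rfl⟩ := hzero _ _ _ h
        rfl
      · exfalso
        rw [show (1 : ZMod 2).val = 1 from rfl, pow_one] at h
        apply htS
        rw [eq_inv_of_mul_eq_one_right h]
        exact inv_mem (mul_mem (hJS hABC) (pow_mem hsS _))
    intro x y hxy
    obtain ⟨z, hz1, hz2⟩ := CfsgLib.WreathThreeSym.left_inv_mul x
    refine hz2 y (htriv _ ?_)
    rw [← hmulG, ← hxy, hmulG, hz1]
    simp [val]
  -- the permutation group
  let σ : Equiv.Perm (Fin 9) :=
    Equiv.swap (0 : Fin 9) 1 * Equiv.swap 1 2 * Equiv.swap 3 4 * Equiv.swap 4 5 * Equiv.swap 6 7 * Equiv.swap 7 8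
  let pv : Equiv.Perm (Fin 9) := Equiv.swap (0 : Fin 9) 1 * Equiv.swap 1 2
  let pu : Equiv.Perm (Fin 9) := Equiv.swap (3 : Fin 9) 4 * Equiv.swap 4 5
  let pw : Equiv.Perm (Fin 9) := Equiv.swap (6 : Fin 9) 7 * Equiv.swap 7 8
  let ps : Equiv.Perm (Fin 9) := (Equiv.swap (0 : Fin 9) 3 * Equiv.swap 3 6) * (Equiv.swap (1 : Fin 9) 4 * Equiv.swap 4 7) *
    (Equiv.swap (2 : Fin 9) 5 * Equiv.swap 5 8)
  let pt : Equiv.Perm (Fin 9) := Equiv.swap (3 : Fin 9) 6 * Equiv.swap 4 7 * Equiv.swap 5 8
  have hmem : ∀ p : Equiv.Perm (Fin 9), p * σ = σ * p → p ∈ Subgroup.centralizer ({σ} : Set (Equiv.Perm (Fin 9))) :=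
    fun p hp => Subgroup.mem_centralizer_singleton_iff.mpr hp
  let V : Subgroup.centralizer ({σ} : Set (Equiv.Perm (Fin 9))) := ⟨pv, hmem pv (by decide +kernel)⟩
  let U : Subgroup.centralizer ({σ} : Set (Equiv.Perm (Fin 9))) := ⟨pu, hmem pu (by decide +kernel)⟩
  let W : Subgroup.centralizer ({σ} : Set (Equiv.Perm (Fin 9))) := ⟨pw, hmem pw (by decide +kernel)⟩
  let Sg : Subgroup.centralizer ({σ} : Set (Equiv.Perm (Fin 9))) := ⟨ps, hmem ps (by decide +kernel)⟩
  let Tg : Subgroup.centralizer ({σ} : Set (Equiv.Perm (Fin 9))) := ⟨pt, hmem pt (by decide +kernel)⟩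
  have hrel' : Rel V U W Sg Tg := by
    constructor <;> (first | (apply Subtype.ext) | (show _ * _ = _ * _; apply Subtype.ext)) <;>
      simp only [SubgroupClass.coe_pow, Subgroup.coe_mul, OneMemClass.coe_one, V, U, W, Sg, Tg] <;> decide +kernel
  have hinj' : Function.Injective (val V U W Sg Tg) := by
    intro x y hxy
    have h' : val pv pu pw ps pt x = val pv pu pw ps pt y := by
      have := congrArg Subtype.val hxy
      simpa [val, V, U, W, Sg, Tg] using this
    exact (show Function.Injective (val pv pu pw ps pt) by decide +kernel) h'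
  have hcardH : Nat.card (Subgroup.centralizer ({σ} : Set (Equiv.Perm (Fin 9)))) = 162 := by
    rw [Equiv.Perm.nat_card_centralizer]
    decide +kernel
  exact nonempty_equiv hrel hrel' hinjG hinj' hG hcardH

end Cfsg.Agent.S3376
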