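import Cfsg.Statements.S1054
import Cfsg.Agent.Lib.Chev.PerfectData

set_option autoImplicit false
open Cfsg

namespace Cfsg.Agent.S1054

/-- The Chevalley groups of types D₄, F₄, E₆, E₇, E₈ are simple over every field. -/
theorem result {F : Type*} [Field F] (D : Cfsg.Lie.ChevalleyDatum)
    (hD : D ∈ [Cfsg.Lie.chevD4, Cfsg.Lie.chevF4, Cfsg.Lie.chevE6, Cfsg.Lie.chevE7, Cfsg.Lie.chevE8]) :
    IsSimpleGroup ↥(D.group F) ∧ ¬ IsMulCommutative ↥(D.group F) := by
  have hperf : commutator ↥(D.group F) = ⊤ := by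
    refine CfsgLib.Chev.perfect_of_mem (by simp only [List.mem_cons, List.not_mem_nil, or_false] at hD ⊢; tauto) fun h => ?_
    exfalso
    simp only [List.mem_cons, List.not_mem_nil, or_false] at hD
    rcases h with h | h <;> rcases hD with e | e | e | e | e <;>
      · have h' := congrArg Cfsg.Lie.ChevalleyDatum.nroots (h.symm.trans e)
        revert h'; decide
  simp only [List.mem_cons, List.not_mem_nil, or_false] at hD
  rcases hD with rfl | rfl | rfl | rfl | rfl
  · exact CfsgLib.Chev.simple_of_conn CfsgLib.Chev.chevD4 CfsgLib.Chev.connD4 ⟨0, by decide⟩ hperf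
  · exact CfsgLib.Chev.simple_of_conn CfsgLib.Chev.chevF4 CfsgLib.Chev.connF4 ⟨0, by decide⟩ hperf
  · exact CfsgLib.Chev.simple_of_conn CfsgLib.Chev.chevE6 CfsgLib.Chev.connE6 ⟨0, by decide⟩ hperf
  · exact CfsgLib.Chev.simple_of_conn CfsgLib.Chev.chevE7 CfsgLib.Chev.connE7 ⟨0, by decide⟩ hperf
  · exact CfsgLib.Chev.simple_of_conn CfsgLib.Chev.chevE8 CfsgLib.Chev.connE8 ⟨0, by decide⟩ hperf

end Cfsg.Agent.S1054
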