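import Cfsg.Statements.S1082
import Cfsg.Agent.Lib.ChevClassical.D4
import Cfsg.Agent.Lib.Chev.GraphAut

set_option autoImplicit false
open Cfsg

namespace Cfsg.Agent.S1082

/-- D₄(F) ≅ PΩ₈⁺(F), the commutator subgroup of the orthogonal group of `Σ xᵢ yᵢ` modulo its centre. -/
theorem result {F : Type*} [Field F] : Nonempty (↥(Cfsg.Lie.chevD4.group F) ≃* Cfsg.POmega F (Cfsg.quadFormPlus 4 F)) := by
  obtain ⟨Φ⟩ := CfsgLib.Chev.exists_chev (D := Cfsg.Lie.chevD4) (by simp)
  have h := CfsgLib.ChevClassical.Tab.nonempty_equiv CfsgLib.ChevClassical.D4.ok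
    (R := CfsgLib.ChevClassical.qform (F := F) CfsgLib.ChevClassical.D4.tab)
    (CfsgLib.Chev.simple_of_conn CfsgLib.Chev.chevD4 CfsgLib.Chev.connD4 ⟨0, by decide⟩
      (CfsgLib.Chev.perfect_of_mem (by simp) fun h => by
        rcases h with h | h <;>
          exact absurd (congrArg Cfsg.Lie.ChevalleyDatum.nroots h) (by decide)))
    (fun r t => ⟨Φ.xg r t, by rw [Φ.xg_val]; exact (Φ.xMat_eq F r t).symm⟩)
    CfsgLib.ChevClassical.D4.omega_model
  rwa [CfsgLib.ChevClassical.D4.form_eq] at h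

end Cfsg.Agent.S1082
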