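import Cfsg.Statements.S3221
import Cfsg.Agent.Lib.PSp43.Symp

set_option autoImplicit false
open Cfsg

namespace Cfsg.Agent.S3221

open CfsgPSp43 CfsgLib.PSpFour

/-- The coordinates at a conjugate. -/
theorem dat_conj {P : Type*} [Group P] {z : P} {φ : ℕ → P} (D : Dat z φ) {g t : P} (ht : g * t * g⁻¹ = z) :
    Dat t (fun x => g⁻¹ * φ x * g) where
  mul x hx y hy := by
    show g⁻¹ * φ (mmul x y) * g = g⁻¹ * φ x * g * (g⁻¹ * φ y * g)
    rw [D.mul x hx y hy]; group
  inj x hx y hy h := D.inj x hx y hy (mul_left_cancel (mul_right_cancel h))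
  cent c := by
    have key : c * t = t * c ↔ g * c * g⁻¹ * z = z * (g * c * g⁻¹) := by
      rw [← ht]
      constructor
      · intro h
        calc g * c * g⁻¹ * (g * t * g⁻¹) = g * (c * t) * g⁻¹ := by group
          _ = g * t * g⁻¹ * (g * c * g⁻¹) := by rw [h]; group
      · intro h
        calc c * t = g⁻¹ * (g * c * g⁻¹ * (g * t * g⁻¹)) * g := by group
          _ = t * c := by rw [h]; group
    rw [key, D.cent]
    constructor
    · rintro ⟨x, hx, hxe⟩
      exact ⟨x, hx, by rw [hxe]; group⟩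
    · rintro ⟨x, hx, rfl⟩
      exact ⟨x, hx, by group⟩
  zc := by
    show g⁻¹ * φ 24 * g = t
    rw [D.zc, ← ht]; group
  noIdx := D.noIdx

/-- Coordinates pulled back along an isomorphism of centralisers. -/
theorem dat_pull {G P : Type*} [Group G] [Group P] {t₀ : P} {φ : ℕ → P} (D : Dat t₀ φ)
    (hG : ∀ H : Subgroup G, H.index ≠ 2) {t : G} (ht : orderOf t = 2)
    (e : ↥(Subgroup.centralizer ({t} : Set G)) ≃* ↥(Subgroup.centralizer ({t₀} : Set P))) :
    ∃ ψ : ℕ → G, Dat t ψ := by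
  classical
  let q : ∀ x, x < 576 → ↥(Subgroup.centralizer ({t₀} : Set P)) := fun x hx =>
    ⟨φ x, (D.range_eq _).2 ⟨x, hx, rfl⟩⟩
  let ψ : ℕ → G := fun x => if hx : x < 576 then (e.symm (q x hx) : G) else 1
  have hψ : ∀ x (hx : x < 576), ψ x = (e.symm (q x hx) : G) := fun x hx => dif_pos hx
  have ht' : t ∈ Subgroup.centralizer ({t} : Set G) := Subgroup.mem_centralizer_singleton_iff.2 rfl
  obtain ⟨x, hx, hxe⟩ := (D.range_eq _).1 (e ⟨t, ht'⟩).2
  have hcentral : ∀ g (hg : g < 576), mmul x g = mmul g x := fun g hg => by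
    refine (D.commute_iff hx hg).1 ?_
    rw [hxe]
    have h : (⟨t, ht'⟩ : ↥(Subgroup.centralizer ({t} : Set G))) * e.symm (q g hg) = e.symm (q g hg) * ⟨t, ht'⟩ :=
      Subtype.ext (Subgroup.mem_centralizer_singleton_iff.1 (e.symm (q g hg)).2).symm
    have h' := congrArg (fun y => ((e y : ↥(Subgroup.centralizer ({t₀} : Set P))) : P)) h
    simpa [q] using h'
  have hc := center_code x hx
  rw [List.all_eq_true.2 (fun g hg => beq_iff_eq.2 (hcentral g (by
    simp only [List.mem_cons, List.not_mem_nil, or_false] at hg; omega)))] at hc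
  simp only [Bool.not_true, Bool.false_or, Bool.or_eq_true, beq_iff_eq] at hc
  have h24 : q 24 (by norm_num) = e ⟨t, ht'⟩ := by
    refine Subtype.ext ?_
    rcases hc with rfl | rfl
    · exfalso
      have h1 : e ⟨t, ht'⟩ = 1 := Subtype.ext (hxe.symm.trans D.one)
      have h2 : t = 1 := congrArg Subtype.val (e.injective (h1.trans (map_one e).symm))
      rw [h2, orderOf_one] at ht
      omega
    · exact hxe
  refine ⟨ψ, ⟨fun a ha b hb => ?_, fun a ha b hb h => ?_, fun c => ?_, ?_, hG⟩⟩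
  · rw [hψ _ (mmul_lt ha hb), hψ _ ha, hψ _ hb, ← Subgroup.coe_mul, ← map_mul]
    congr 2
    exact Subtype.ext (D.mul a ha b hb)
  · rw [hψ _ ha, hψ _ hb] at h
    exact D.inj a ha b hb (congrArg Subtype.val (e.symm.injective (Subtype.ext h)))
  · constructor
    · intro hc'
      obtain ⟨a, ha, hae⟩ := (D.range_eq _).1 (e ⟨c, Subgroup.mem_centralizer_singleton_iff.2 hc'⟩).2
      refine ⟨a, ha, ?_⟩
      rw [hψ a ha, show q a ha = e ⟨c, Subgroup.mem_centralizer_singleton_iff.2 hc'⟩ from Subtype.ext hae,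
        e.symm_apply_apply]
    · rintro ⟨a, ha, rfl⟩
      rw [hψ a ha]
      exact Subgroup.mem_centralizer_singleton_iff.1 (e.symm (q a ha)).2
  · rw [hψ 24 (by norm_num), h24, e.symm_apply_apply]

/-- Let F be the field with 3 elements and t₀ an involution of PSp₄(3) = PSp₄(F) lying in the centre of a Sylow 2-subgroup. If G is a finite group of even order that has no subgroup of index 2 and contains an involution t whose centralizer C_G(t) is isomorphic to C_{PSp₄(3)}(t₀), then G ≅ PSp₄(3). -/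
theorem result {G : Type*} [Group G] [Finite G] (hev : Even (Nat.card G))
    (hG : ∀ H : Subgroup G, H.index ≠ 2) {F : Type*} [Field F] [Fintype F] (hF : Fintype.card F = 3)
    (U : Sylow 2 (Cfsg.PSp 2 F)) (t₀ : Cfsg.PSp 2 F) (ht₀ : orderOf t₀ = 2) (ht₀U : t₀ ∈ (U : Subgroup (Cfsg.PSp 2 F)))
    (ht₀c : ∀ u ∈ (U : Subgroup (Cfsg.PSp 2 F)), u * t₀ = t₀ * u) (t : G) (ht : orderOf t = 2)
    (e : ↥(Subgroup.centralizer ({t} : Set G)) ≃* ↥(Subgroup.centralizer ({t₀} : Set (Cfsg.PSp 2 F)))) :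
    Nonempty (G ≃* Cfsg.PSp 2 F) := by
  classical
  haveI : Fact (Nat.Prime 2) := ⟨Nat.prime_two⟩
  haveI : IsSimpleGroup (Cfsg.PSp 2 F) := CfsgLib.SympSimple.simple (le_refl 2) fun _ => by rw [hF]
  have hodd := odd_card hF
  obtain ⟨Q⟩ : Nonempty (Sylow 2 (Matrix.SpecialLinearGroup (Fin 2) F)) := inferInstance
  obtain ⟨d⟩ := exists_qdata hodd Q
  let π := QuotientGroup.mk' (Subgroup.center (Matrix.symplecticGroup (Fin 2) F))
  have hcard : Nat.card ((PT Q).map π) = 2 ^ (Nat.card (Cfsg.PSp 2 F)).factorization 2 := by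
    have h := card_map_PT hodd d
    rw [card_PT, Nat.card_congr (Equiv.refl _), Q.card_eq_multiplicity] at h
    rw [factorization_card hodd, mul_comm 2 ((Nat.card (Matrix.SpecialLinearGroup (Fin 2) F)).factorization 2),
      pow_mul]
    exact Nat.eq_of_mul_eq_mul_left two_pos h
  let U1 : Sylow 2 (Cfsg.PSp 2 F) := Sylow.ofCard _ hcard
  obtain ⟨g, hg⟩ := MulAction.exists_smul_eq (Cfsg.PSp 2 F) U U1
  have hmem : ∀ u ∈ (U : Subgroup (Cfsg.PSp 2 F)), g * u * g⁻¹ ∈ (U1 : Subgroup (Cfsg.PSp 2 F)) := fun u hu => by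
    rw [← hg]
    exact Subgroup.smul_mem_pointwise_smul _ (MulAut.conj g) _ hu
  have hpre : ∀ w ∈ (U1 : Subgroup (Cfsg.PSp 2 F)), g⁻¹ * w * g ∈ (U : Subgroup (Cfsg.PSp 2 F)) := fun w hw => by
    rw [← hg] at hw
    have := (Subgroup.mem_pointwise_smul_iff_inv_smul_mem).1 hw
    simpa [MulAut.smul_def, MulAut.conj_apply] using this
  obtain ⟨x, hx, hxe⟩ : g * t₀ * g⁻¹ ∈ (PT Q).map π := hmem _ ht₀U
  have hzz : g * t₀ * g⁻¹ = π z0 := by
    have h := center_lift hodd d hx (fun y hy => ?_) (fun h => ?_)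
    · exact hxe.symm.trans h
    · show π x * π y = π y * π x
      rw [hxe]
      have h' := ht₀c _ (hpre (π y) ⟨y, hy, rfl⟩)
      calc g * t₀ * g⁻¹ * π y = g * (t₀ * (g⁻¹ * π y * g)) * g⁻¹ := by group
        _ = g * (g⁻¹ * π y * g * t₀) * g⁻¹ := by rw [h']
        _ = π y * (g * t₀ * g⁻¹) := by group
    · have h1 : g * t₀ * g⁻¹ = 1 := hxe.symm.trans h
      have h2 : t₀ = 1 := by
        calc t₀ = g⁻¹ * (g * t₀ * g⁻¹) * g := by group
          _ = 1 := by rw [h1]; group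
      rw [h2, orderOf_one] at ht₀
      omega
  have D₀ := dat_conj (dat0 hF) hzz
  obtain ⟨ψ, D⟩ := dat_pull D₀ hG ht e
  obtain ⟨ψ₁, o₁, K⟩ := exists_cfg D
  obtain ⟨ψ₂, o₂, K'⟩ := exists_cfg D₀
  exact iso K K' (card_PS hF)

end Cfsg.Agent.S3221
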