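import Cfsg.Statements.S5515
import Cfsg.Agent.Lib.OutPlus.Main
import Cfsg.Agent.Lib.Components
import Mathlib.GroupTheory.Sylow

set_option autoImplicit false
open Cfsg

namespace Cfsg.Agent.S5515

theorem conj_six {H K : Subgroup (Equiv.Perm (Fin 4))} (hH : Nat.card H = 6) (hK : Nat.card K = 6) :
    ∃ σ : Equiv.Perm (Fin 4), K = H.map (MulAut.conj σ).toMonoidHom := by
  haveI : Fact (Nat.Prime 3) := ⟨Nat.prime_three⟩
  have key : ∀ H : Subgroup (Equiv.Perm (Fin 4)), Nat.card H = 6 →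
      ∃ P : Sylow 3 (Equiv.Perm (Fin 4)), H = Subgroup.normalizer (P : Set (Equiv.Perm (Fin 4))) := by
    intro H hH
    haveI : Fintype (Sylow 3 (Equiv.Perm (Fin 4))) := Fintype.ofFinite _
    have hs : ∀ P : Sylow 3 (Equiv.Perm (Fin 4)), Nat.card P = 3 := fun P => by
      rw [P.card_eq_multiplicity, Nat.card_perm, Nat.card_fin]
      rw [show Nat.factorial 4 = 3 ^ 1 * 8 by rfl,
        Nat.factorization_mul (by norm_num) (by norm_num), Finsupp.add_apply,
        Nat.Prime.factorization_pow Nat.prime_three, Finsupp.single_eq_same,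
        Nat.factorization_eq_zero_of_not_dvd (by norm_num : ¬ 3 ∣ 8)]
      rfl
    obtain ⟨c, hc⟩ := exists_prime_orderOf_dvd_card' (G := H) 3 (by rw [hH]; norm_num)
    have hcyc : IsPGroup 3 (Subgroup.zpowers (c : Equiv.Perm (Fin 4))) :=
      IsPGroup.of_card (n := 1) (by rw [Nat.card_zpowers, Subgroup.orderOf_coe, hc, pow_one])
    obtain ⟨P, hP⟩ := hcyc.exists_le_sylow
    have hPc : (P : Subgroup (Equiv.Perm (Fin 4))) = Subgroup.zpowers (c : Equiv.Perm (Fin 4)) :=
      (Subgroup.eq_of_le_of_card_ge hP (by rw [hs, Nat.card_zpowers, Subgroup.orderOf_coe, hc])).symm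
    have hPH : (P : Subgroup (Equiv.Perm (Fin 4))) ≤ H := hPc ▸ Subgroup.zpowers_le.mpr c.2
    have hidx : ((P : Subgroup (Equiv.Perm (Fin 4))).subgroupOf H).index = 2 := by
      have h := ((P : Subgroup (Equiv.Perm (Fin 4))).subgroupOf H).card_mul_index
      rw [Nat.card_congr (Subgroup.subgroupOfEquivOfLe hPH).toEquiv, hs, hH] at h
      omega
    have hle : H ≤ Subgroup.normalizer (P : Set (Equiv.Perm (Fin 4))) := by
      haveI := Subgroup.normal_of_index_eq_two hidx
      exact Subgroup.normal_subgroupOf_iff_le_normalizer hPH |>.mp inferInstance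
    have hN := Subgroup.card_mul_index (Subgroup.normalizer (P : Set (Equiv.Perm (Fin 4))))
    rw [Nat.card_perm, Nat.card_fin, ← Sylow.card_eq_index_normalizer] at hN
    have hn : 1 < Nat.card (Sylow 3 (Equiv.Perm (Fin 4))) := by
      rw [Finite.one_lt_card_iff_nontrivial]
      refine ⟨?_⟩
      by_contra! hcon
      have h1 : IsPGroup 3 (Subgroup.zpowers ((Equiv.swap 0 1 : Equiv.Perm (Fin 4)) * Equiv.swap 1 2)) :=
        IsPGroup.of_card (n := 1) (by rw [Nat.card_zpowers, pow_one, orderOf_eq_prime_iff]; decide)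
      have h2 : IsPGroup 3 (Subgroup.zpowers ((Equiv.swap 0 1 : Equiv.Perm (Fin 4)) * Equiv.swap 1 3)) :=
        IsPGroup.of_card (n := 1) (by rw [Nat.card_zpowers, pow_one, orderOf_eq_prime_iff]; decide)
      obtain ⟨A, hA⟩ := h1.exists_le_sylow
      obtain ⟨B, hB⟩ := h2.exists_le_sylow
      rw [hcon B A] at hB
      have hm := mul_mem (hA (Subgroup.mem_zpowers _)) (hB (Subgroup.mem_zpowers _))
      have h3 := orderOf_dvd_natCard (⟨_, hm⟩ : (A : Subgroup (Equiv.Perm (Fin 4))))
      rw [hs, Subgroup.orderOf_mk, orderOf_dvd_iff_pow_eq_one] at h3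
      revert h3; decide
    have hm3 := card_sylow_modEq_one 3 (Equiv.Perm (Fin 4))
    unfold Nat.ModEq at hm3
    have hge : 4 ≤ Nat.card (Sylow 3 (Equiv.Perm (Fin 4))) := by omega
    refine ⟨P, Subgroup.eq_of_le_of_card_ge hle ?_⟩
    rw [hH]
    by_contra hlt
    have h24 : Nat.factorial 4 = 24 := rfl
    have h28 : 7 * 4 ≤ Nat.card (Subgroup.normalizer (P : Set (Equiv.Perm (Fin 4)))) *
        Nat.card (Sylow 3 (Equiv.Perm (Fin 4))) := Nat.mul_le_mul (by omega) hge
    omega
  obtain ⟨P, rfl⟩ := key H hH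
  obtain ⟨P', rfl⟩ := key K hK
  obtain ⟨σ, hσ⟩ := MulAction.exists_smul_eq (Equiv.Perm (Fin 4)) P P'
  refine ⟨σ, ?_⟩
  rw [← hσ]
  exact ((P : Subgroup (Equiv.Perm (Fin 4))).map_equiv_normalizer_eq (MulAut.conj σ)).symm

theorem embed {G : Type*} [Group G] [Finite G] {T : Type*} [Group T] [Finite T]
    (hT : Function.Injective (MulAut.conj : T →* MulAut T)) (e : ↥(Cfsg.generalizedFittingSubgroup G) ≃* T)
    [hn : (Cfsg.generalizedFittingSubgroup G).Normal] :
    ∃ φ : G →* MulAut T, Function.Injective φ ∧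
      ∃ H : Subgroup (Cfsg.Out T), φ.range = H.comap (QuotientGroup.mk' (Cfsg.Inn T)) ∧
        Nat.card H = Nat.card (G ⧸ Cfsg.generalizedFittingSubgroup G) := by
  let φ : G →* MulAut T := (MulAut.congr e).toMonoidHom.comp MulAut.conjNormal
  have hφL : ∀ l : ↥(Cfsg.generalizedFittingSubgroup G), φ l = MulAut.conj (e l) := fun l =>
    MulEquiv.ext fun x => by
      show e (MulAut.conjNormal (l : G) (e.symm x)) = e l * x * (e l)⁻¹
      rw [show MulAut.conjNormal (l : G) (e.symm x) = l * e.symm x * l⁻¹ from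
        Subtype.ext (MulAut.conjNormal_apply _ _), map_mul, map_mul, map_inv, e.apply_symm_apply]
  have hinj : Function.Injective φ := (injective_iff_map_eq_one φ).mpr fun g hg => by
    have hcomm : g ∈ Subgroup.centralizer (Cfsg.generalizedFittingSubgroup G : Set G) := fun l hl => by
      have h := DFunLike.congr_fun hg (e ⟨l, hl⟩)
      have h' : MulAut.conjNormal g (⟨l, hl⟩ : ↥(Cfsg.generalizedFittingSubgroup G)) = ⟨l, hl⟩ :=
        e.injective (by simpa [φ] using h)
      have h'' := congrArg Subtype.val h'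
      rw [MulAut.conjNormal_apply] at h''
      exact (mul_inv_eq_iff_eq_mul.mp h'').symm
    have hgL := CfsgLib.centralizer_generalizedFitting_le hcomm
    have h2 := (hφL ⟨g, hgL⟩).symm.trans hg
    have h3 : e ⟨g, hgL⟩ = e 1 := by rw [hT (h2.trans (map_one MulAut.conj).symm), map_one]
    exact congrArg Subtype.val (e.injective h3)
  let ψ : G →* Cfsg.Out T := (QuotientGroup.mk' (Cfsg.Inn T)).comp φ
  have hker : ψ.ker = Cfsg.generalizedFittingSubgroup G := by
    refine le_antisymm (fun g hg => ?_) fun g hg => ?_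
    · obtain ⟨t, ht⟩ := (QuotientGroup.eq_one_iff (φ g)).mp hg
      have h1 : φ g = φ (e.symm t : G) := by rw [hφL, e.apply_symm_apply]; exact ht.symm
      rw [hinj h1]
      exact (e.symm t).2
    · exact (QuotientGroup.eq_one_iff (φ g)).mpr ⟨_, (hφL ⟨g, hg⟩).symm⟩
  refine ⟨φ, hinj, ψ.range, le_antisymm (by rintro _ ⟨g, rfl⟩; exact ⟨g, rfl⟩) ?_, ?_⟩
  · rintro β ⟨g, hg⟩
    obtain ⟨t, ht⟩ := (QuotientGroup.eq (s := Cfsg.Inn T)).mp hg
    refine ⟨g * (e.symm t : G), ?_⟩
    rw [map_mul, hφL, e.apply_symm_apply, ht, mul_inv_cancel_left]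
  · rw [← Nat.card_congr (QuotientGroup.quotientKerEquivRange ψ).toEquiv, hker]

theorem map_comap_conj {A : Type*} [Group A] {N : Subgroup A} [N.Normal] {B : Type*} [Group B] (π : A ⧸ N ≃* B)
    (H H' : Subgroup (A ⧸ N)) (β : A) (σ : B) (hπ : π (QuotientGroup.mk β) = σ)
    (hσ : H'.map π.toMonoidHom = (H.map π.toMonoidHom).map (MulAut.conj σ).toMonoidHom) :
    (H.comap (QuotientGroup.mk' N)).map (MulAut.conj β).toMonoidHom = H'.comap (QuotientGroup.mk' N) := by
  ext x
  rw [Subgroup.mem_map_equiv, Subgroup.mem_comap, Subgroup.mem_comap]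
  have h : π (QuotientGroup.mk' N x) ∈ H'.map π.toMonoidHom ↔
      π (QuotientGroup.mk' N ((MulAut.conj β).symm x)) ∈ H.map π.toMonoidHom := by
    rw [hσ, Subgroup.mem_map_equiv]
    simp [← hπ, MulAut.conj_symm_apply, map_mul, map_inv]
  exact (Subgroup.mem_map_iff_mem π.injective).symm.trans (h.symm.trans (Subgroup.mem_map_iff_mem π.injective))

/-- Let G and G′ be finite groups whose generalized Fitting subgroups are isomorphic to PΩ⁺(8, 3) (the commutator subgroup of the isometry group of the hyperbolic quadratic form in dimension 8 over the field with three elements, modulo its centre) with quotients isomorphic to the symmetric group of degree 3. Then G and G′ are isomorphic. -/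
theorem result {G G' : Type*} [Group G] [Finite G] [Group G'] [Finite G'] (hF : Nonempty (↥(Cfsg.generalizedFittingSubgroup G) ≃* Cfsg.POmega (ZMod 3) (Cfsg.quadFormPlus 4 (ZMod 3)))) (hF' : Nonempty (↥(Cfsg.generalizedFittingSubgroup G') ≃* Cfsg.POmega (ZMod 3) (Cfsg.quadFormPlus 4 (ZMod 3)))) [hn : (Cfsg.generalizedFittingSubgroup G).Normal] [hn' : (Cfsg.generalizedFittingSubgroup G').Normal] (hq : Nonempty (G ⧸ Cfsg.generalizedFittingSubgroup G ≃* Equiv.Perm (Fin 3))) (hq' : Nonempty (G' ⧸ Cfsg.generalizedFittingSubgroup G' ≃* Equiv.Perm (Fin 3))) : Nonempty (G ≃* G') := by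
  obtain ⟨eL⟩ := hF
  obtain ⟨eL'⟩ := hF'
  haveI : Fact (Nat.Prime 3) := ⟨Nat.prime_three⟩
  haveI : Finite (Cfsg.POmega (ZMod 3) (Cfsg.quadFormPlus 4 (ZMod 3))) := Finite.of_equiv _ eL.toEquiv
  have hT : Function.Injective (MulAut.conj : Cfsg.POmega (ZMod 3) (Cfsg.quadFormPlus 4 (ZMod 3)) →* _) := by
    rw [CfsgLib.OutPlus.form_eq]
    exact CfsgLib.OrthAut.conj_injective CfsgLib.Lagrangian.Qp_nondeg (by simp)
  have hO := CfsgLib.OutPlus.out_d4 (ZMod 3) (p := 3) (f := 1) le_rfl (by rw [ZMod.card, pow_one])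
  rw [if_neg (by norm_num)] at hO
  obtain ⟨eO⟩ := hO
  let π : Cfsg.Out (Cfsg.POmega (ZMod 3) (Cfsg.quadFormPlus 4 (ZMod 3))) ≃* Equiv.Perm (Fin 4) :=
    eO.trans { toFun := fun x => x.1, invFun := fun x => (x, 1),
               left_inv := fun x => Prod.ext rfl (Subsingleton.elim _ _), right_inv := fun x => rfl,
               map_mul' := fun x y => rfl }
  obtain ⟨φ, hφ, H, hH, hHc⟩ := embed hT eL
  obtain ⟨φ', hφ', H', hH', hHc'⟩ := embed hT eL'
  have h6 : ∀ {X : Type _} [Group X] (_ : X ≃* Equiv.Perm (Fin 3)), Nat.card X = 6 := fun e => by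
    rw [Nat.card_congr e.toEquiv, Nat.card_perm, Nat.card_fin]; rfl
  obtain ⟨σ, hσ⟩ := conj_six (H := H.map π.toMonoidHom) (K := H'.map π.toMonoidHom)
    (by rw [Subgroup.card_map_of_injective π.injective, hHc, h6 hq.some])
    (by rw [Subgroup.card_map_of_injective π.injective, hHc', Nat.card_congr hq'.some.toEquiv, Nat.card_perm,
      Nat.card_fin]; rfl)
  obtain ⟨β, hβ⟩ := QuotientGroup.mk_surjective (π.symm σ)
  have hπ : π (QuotientGroup.mk β) = σ := by rw [hβ, π.apply_symm_apply]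
  have key : φ.range.map (MulAut.conj β).toMonoidHom = φ'.range := by
    rw [hH, hH']
    exact map_comap_conj π H H' β σ hπ hσ
  exact ⟨((MonoidHom.ofInjective hφ).trans (φ.range.equivMapOfInjective _ (MulAut.conj β).injective)).trans
    ((MulEquiv.subgroupCongr key).trans (MonoidHom.ofInjective hφ').symm)⟩

end Cfsg.Agent.S5515
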