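import Cfsg.Statements.S5089
import Cfsg.Agent.Lib.Fusion.Normal
import Cfsg.Agent.Lib.Fusion.Center
-- import your own Cfsg.Agent.* helpers here

set_option autoImplicit false
open Cfsg

namespace Cfsg.Agent.S5089

/-- A saturated fusion system over a finite p-group has a nontrivial subgroup that is normal in the system (O_p(F) ≠ 1) if and only if some nontrivial abelian subgroup is strongly closed in the system. -/
theorem result {Ω : Type*} [Group Ω] {S : Subgroup Ω} [Finite S] (p : ℕ) [Fact p.Prime] (hS : IsPGroup p S) (F : Cfsg.FusionSystem S) (hF : F.IsSaturated p) : F.core ≠ ⊥ ↔ ∃ Q : Subgroup Ω, Q ≠ ⊥ ∧ IsMulCommutative Q ∧ F.StronglyClosed Q := by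
  constructor
  · intro hne
    have hQ := Cfsg.FusionSystem.isNormal_core F
    have hQS : F.core ≤ S := hQ.1
    have := Cfsg.FusionSystem.finite_of_le hQS
    let Z : Subgroup Ω := (Subgroup.center F.core).map F.core.subtype
    have hZn : F.IsNormal Z := by
      refine hQ.of_characteristic (Subgroup.map_subtype_le _) ?_
      rw [Subgroup.subgroupOf, Subgroup.comap_map_eq_self_of_injective F.core.subtype_injective]
      infer_instance
    refine ⟨Z, ?_, ⟨⟨?_⟩⟩, hZn.stronglyClosed⟩
    · have : Nontrivial F.core := (Subgroup.nontrivial_iff_ne_bot _).mpr hne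
      have := (hS.to_le hQS).center_nontrivial
      rw [Ne, Subgroup.map_eq_bot_iff_of_injective _ F.core.subtype_injective, ← Ne,
        ← Subgroup.nontrivial_iff_ne_bot]
      exact this
    · rintro ⟨_, a, ha, rfl⟩ ⟨_, b, -, rfl⟩
      exact Subtype.ext (congrArg Subtype.val (Subgroup.mem_center_iff.mp ha b)).symm
  · rintro ⟨Q, hQ1, hQc, hQ⟩ hcore
    refine hQ1 (le_bot_iff.mp (hcore ▸ Cfsg.FusionSystem.IsNormal.le_core ?_))
    refine hF.isNormal_of_series hS (n := 1) (fun i => if i = 0 then ⊥ else Q) ?_ ?_ ?_ ?_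
    · simp
    · simp
    · intro i j hij
      by_cases hi : i = 0
      · simp [hi]
      · have hj : j ≠ 0 := fun hj => hi (le_antisymm (hj ▸ hij) (Fin.zero_le _))
        simp [hi, hj]
    · intro i
      obtain rfl : i = 0 := Subsingleton.elim _ _
      refine ⟨by simpa using hQ, ?_⟩
      simp only [Fin.succ_ne_zero, if_false, Fin.castSucc_zero, if_true]
      refine Subgroup.commutator_le.mpr fun a ha b hb => ?_
      have h := congrArg Subtype.val (hQc.is_comm.comm ⟨a, ha⟩ ⟨b, hb⟩)
      rw [Subgroup.mem_bot, commutatorElement_eq_one_iff_mul_comm]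
      exact h

end Cfsg.Agent.S5089
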