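import Cfsg.Statements.S5892
import Cfsg.Agent.Lib.PSL2Max.Shape
import Cfsg.Agent.Lib.PSL2Max.Dih
-- import your own Cfsg.Agent.* helpers here

set_option autoImplicit false
open Cfsg

namespace Cfsg.Agent.S5892

/-- Let F be a finite field of odd order q ≥ 5 and characteristic p, and let M be a maximal subgroup of PSL₂(F). Then one of the following holds: |M| = q(q − 1)/2 (the stabiliser of a point of the projective line); q ≥ 13 and M is dihedral of order q − 1; q ∉ {7, 9} and M is dihedral of order q + 1; q = q₀² and M ≅ PGL₂(F₀) with |F₀| = q₀; q = q₀^r for an odd prime r and M ≅ PSL₂(F₀) with |F₀| = q₀; q ≡ ±1 (mod 10) with q = p or q = p², p ≡ ±3 (mod 10), and M ≅ A₅; q = p ≡ ±3 (mod 8), q ≢ ±1 (mod 10), and M ≅ A₄; or q = p ≡ ±1 (mod 8) and M ≅ S₄. -/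
theorem result {F : Type*} [Field F] [Fintype F] (p : ℕ)
    [Fact p.Prime] [CharP F p] (hodd : Odd (Fintype.card F)) (h5 : 5 ≤ Fintype.card F)
    (M : Subgroup (Matrix.ProjectiveSpecialLinearGroup (Fin 2) F)) (hM : IsCoatom M) :
    2 * Nat.card M = Fintype.card F * (Fintype.card F - 1) ∨
    (13 ≤ Fintype.card F ∧ (∃ k : ℕ, 2 * k = Fintype.card F - 1 ∧ Nonempty (M ≃* DihedralGroup k))) ∨
    (Fintype.card F ≠ 7 ∧ Fintype.card F ≠ 9 ∧ (∃ k : ℕ, 2 * k = Fintype.card F + 1 ∧ Nonempty (M ≃* DihedralGroup k))) ∨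
    (∃ (F₀ : Type) (_ : Field F₀) (_ : Fintype F₀), Fintype.card F = Fintype.card F₀ ^ 2 ∧
        Nonempty (M ≃* Matrix.ProjGenLinGroup (Fin 2) F₀)) ∨
    (∃ (F₀ : Type) (_ : Field F₀) (_ : Fintype F₀) (r : ℕ), r.Prime ∧ Odd r ∧ Fintype.card F = Fintype.card F₀ ^ r ∧
        Nonempty (M ≃* Matrix.ProjectiveSpecialLinearGroup (Fin 2) F₀)) ∨
    ((Fintype.card F % 10 = 1 ∨ Fintype.card F % 10 = 9) ∧
        (Fintype.card F = p ∨ (Fintype.card F = p ^ 2 ∧ (p % 10 = 3 ∨ p % 10 = 7))) ∧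
        Nonempty (M ≃* alternatingGroup (Fin 5))) ∨
    (Fintype.card F = p ∧ (p % 8 = 3 ∨ p % 8 = 5) ∧ ¬ (p % 10 = 1 ∨ p % 10 = 9) ∧
        Nonempty (M ≃* alternatingGroup (Fin 4))) ∨
    (Fintype.card F = p ∧ (p % 8 = 1 ∨ p % 8 = 7) ∧ Nonempty (M ≃* Equiv.Perm (Fin 4))) := by
  classical
  have hp2 : p ≠ 2 := by
    rintro rfl
    obtain ⟨k, -, hk⟩ := FiniteField.card F 2
    rw [hk] at hodd
    exact absurd hodd (by simp [Nat.odd_iff, Nat.pow_mod, k.ne_zero])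
  have hg : Nat.gcd 2 (Fintype.card F - 1) = 2 := Nat.gcd_eq_left (by
    obtain ⟨j, hj⟩ := hodd; exact ⟨j, by omega⟩)
  rcases CfsgLib.PSL2Max.coatom_shape p (by omega) hM with h | ⟨T, n, hn, hT, hN, hcM, hiso⟩ | ⟨⟨e⟩⟩ |
    ⟨⟨e⟩⟩ | ⟨⟨e⟩⟩ | ⟨K, _, _, m, φ, S, N, hm, hK3, hF, hφS, hle, hiso, hN⟩
  · rw [hg] at h
    exact Or.inl h
  · rw [hg] at hn
    have hs := CfsgLib.PSL2Max.dihedral_small p hp2 hM hT hN hcM
    rcases hn with hn | hn
    · exact Or.inr (Or.inr (Or.inl ⟨fun h => hs (Or.inr ⟨hn, Or.inl h⟩), fun h => hs (Or.inr ⟨hn, Or.inr h⟩),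
        n, hn, hiso⟩))
    · exact Or.inr (Or.inl ⟨le_of_not_gt fun h => hs (Or.inl ⟨hn, h, h5⟩), n, hn, hiso⟩)
  · rcases CfsgLib.PSL2Max.case_a4 p hp2 h5 hM e with h | ⟨h1, h2, h3⟩
    · exact Or.inr (Or.inr (Or.inr (Or.inr (Or.inl h))))
    · exact Or.inr (Or.inr (Or.inr (Or.inr (Or.inr (Or.inr (Or.inl ⟨h1, h2, h3, ⟨e⟩⟩))))))
  · rcases CfsgLib.PSL2Max.case_s4 p hp2 h5 hM e with h | ⟨h1, h2⟩
    · exact Or.inr (Or.inr (Or.inr (Or.inl h)))
    · exact Or.inr (Or.inr (Or.inr (Or.inr (Or.inr (Or.inr (Or.inr ⟨h1, h2, ⟨e⟩⟩))))))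
  · rcases CfsgLib.PSL2Max.case_a5 p hp2 h5 hM e with h | ⟨h1, h2⟩
    · exact Or.inr (Or.inr (Or.inr (Or.inr (Or.inl h))))
    · exact Or.inr (Or.inr (Or.inr (Or.inr (Or.inr (Or.inl ⟨h1, h2, ⟨e⟩⟩)))))
  · have hKo : Odd (Fintype.card K) := by
      rw [hF] at hodd
      exact (Nat.odd_pow_iff hm.ne_zero).mp hodd
    by_cases hm2 : m = 2
    · subst hm2
      refine Or.inr (Or.inr (Or.inr (Or.inl ⟨K, inferInstance, inferInstance, hF, ?_⟩)))
      have h2K : ∀ a : K, IsSquare (φ a) := fun a => by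
        rcases eq_or_ne a 0 with rfl | ha
        · simp
        rw [FiniteField.isSquare_iff (by rw [ringChar.eq F p]; exact hp2) ((map_ne_zero φ).mpr ha),
          hF, ← map_pow]
        obtain ⟨j, hj⟩ := hKo
        rw [show Fintype.card K ^ 2 / 2 = (Fintype.card K - 1) * (j + 1) by
          rw [hj, Nat.add_sub_cancel, show (2 * j + 1) ^ 2 = 1 + 2 * (2 * j * (j + 1)) by ring,
            Nat.add_mul_div_left _ _ (by norm_num : 0 < 2)]
          norm_num, pow_mul,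
          FiniteField.pow_card_sub_one_eq_one a ha, one_pow, map_one]
      obtain ⟨R, ⟨eR⟩, hRS⟩ := CfsgLib.PSL2Max.exists_pgl φ S hφS h2K
      rw [← hN] at hRS
      have hR : R = M.map (CfsgLib.PSL2.diagAut N).toMonoidHom := Subgroup.eq_of_le_of_card_ge hRS (by
        rw [Subgroup.card_map_of_injective (f := (CfsgLib.PSL2.diagAut N).toMonoidHom)
          (CfsgLib.PSL2.diagAut N).injective, Nat.card_congr eR.toEquiv, CfsgLib.SLCard.card_PGL,
          CfsgLib.SLCard.card_SL_two]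
        exact hle)
      subst hR
      exact ⟨(M.equivMapOfInjective _ (CfsgLib.PSL2.diagAut N).injective).trans eR⟩
    · have hmo : Odd m := hm.odd_of_ne_two hm2
      refine Or.inr (Or.inr (Or.inr (Or.inr (Or.inl ⟨K, inferInstance, inferInstance, m, hm, hmo, hF, ?_⟩))))
      rcases hiso with h | h
      · exact h
      · exact absurd ((Cfsg.Agent.S0805.result (K := K) rfl hodd m hm.one_le hF.symm).2.mp ⟨M, h⟩)
          (Nat.not_even_iff_odd.mpr hmo)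

end Cfsg.Agent.S5892
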