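import Cfsg.Statements.S2140
import Cfsg.Agent.Lib.SLMin.Index

set_option autoImplicit false
open Cfsg

namespace Cfsg.Agent.S2140

/-- Minimal index of a proper subgroup of the linear groups: for n ≥ 3 and a field F with q elements, (n, q) ≠ (4, 2), every proper subgroup of PSL_n(F) has index at least (q^n − 1)/(q − 1), and some subgroup has exactly that index (the stabiliser of a point of the projective space). -/
theorem result {F : Type*} [Field F] [Fintype F] {q : ℕ} (hF : Fintype.card F = q) (n : ℕ) (hn : 3 ≤ n) (hexc : ¬ (n = 4 ∧ q = 2)) : (∀ H : Subgroup (Matrix.ProjectiveSpecialLinearGroup (Fin n) F), H ≠ ⊤ → (q ^ n - 1) / (q - 1) ≤ H.index) ∧ (∃ H : Subgroup (Matrix.ProjectiveSpecialLinearGroup (Fin n) F), H.index = (q ^ n - 1) / (q - 1)) := by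
  classical
  subst hF
  have hq2 : 2 ≤ Fintype.card F := Fintype.one_lt_card
  have hgs : (Fintype.card F ^ n - 1) / (Fintype.card F - 1) = CfsgLib.SLMin.gs (Fintype.card F) n :=
    (Nat.geomSum_eq hq2 n).symm
  set Z := Subgroup.center (Matrix.SpecialLinearGroup (Fin n) F) with hZ
  rw [hgs]
  refine ⟨fun H hH => ?_, ?_⟩
  · obtain ⟨l, rfl⟩ : ∃ l, n = l + 1 := ⟨n - 1, by omega⟩
    rw [← Subgroup.index_comap_of_surjective H (QuotientGroup.mk'_surjective Z)]
    refine CfsgLib.SLMin.index_bound F (by omega) (fun h => hexc ⟨by omega, h.2⟩) _ fun h => hH ?_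
    rw [← Subgroup.map_comap_eq_self_of_surjective (QuotientGroup.mk'_surjective Z) H, h]
    exact Subgroup.map_top_of_surjective _ (QuotientGroup.mk'_surjective Z)
  · haveI : Nontrivial (Fin n) := Fin.nontrivial_iff_two_le.mpr (by omega)
    haveI : MulAction.IsPretransitive (Matrix.SpecialLinearGroup (Fin n) F)
        (Projectivization F (Fin n → F)) := by
      refine ⟨fun a b => ?_⟩
      obtain ⟨g, hg⟩ := CfsgLib.SLMin.exists_sl_vec (by simp; omega) a.rep_nonzero b.rep_nonzero
      refine ⟨g, ?_⟩
      rw [← a.mk_rep, ← b.mk_rep, Projectivization.matrixSpecialLinearGroup_smul_def,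
        Projectivization.specialLinearGroup_smul_def, Projectivization.smul_mk, Projectivization.mk_eq_mk_iff']
      exact ⟨1, by rw [one_smul]; exact hg.symm⟩
    obtain ⟨p⟩ : Nonempty (Projectivization F (Fin n → F)) := inferInstance
    refine ⟨(MulAction.stabilizer (Matrix.SpecialLinearGroup (Fin n) F) p).map (QuotientGroup.mk' Z), ?_⟩
    rw [Subgroup.index_map_eq _ (QuotientGroup.mk'_surjective Z), MulAction.index_stabilizer_of_transitive,
      Projectivization.card_of_finrank F (Fin n → F) (n := n) (by simp), Nat.card_eq_fintype_card]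
    · rfl
    rw [QuotientGroup.ker_mk']
    intro z hz
    obtain ⟨r, -, hr⟩ := Matrix.SpecialLinearGroup.mem_center_iff.1 hz
    rw [MulAction.mem_stabilizer_iff, ← p.mk_rep, Projectivization.matrixSpecialLinearGroup_smul_def,
      Projectivization.specialLinearGroup_smul_def, Projectivization.smul_mk, Projectivization.mk_eq_mk_iff']
    refine ⟨r, ?_⟩
    show r • p.rep = (z : Matrix (Fin n) (Fin n) F).mulVec p.rep
    rw [← hr]
    simp [Matrix.scalar_apply, Matrix.mulVec_diagonal, funext_iff]

end Cfsg.Agent.S2140
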