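import Cfsg.Statements.S2149
import Cfsg.Agent.Lib.U35.Main

set_option autoImplicit false
open Cfsg

namespace Cfsg.Agent.S2149

/-- Minimal index of a proper subgroup of PSU₃(5), realised over the field with 25 elements: every proper subgroup has index at least 50, and that index is attained. -/
theorem result {F : Type*} [Field F] [Fintype F] (hF : Fintype.card F = 25) : (∀ H : Subgroup (Cfsg.PSU 3 F 5), H ≠ ⊤ → 50 ≤ H.index) ∧ (∃ H : Subgroup (Cfsg.PSU 3 F 5), H.index = 50) := by
  obtain ⟨n, hp, hn⟩ := FiniteField.card F (ringChar F)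
  have h5 : ringChar F = 5 := by
    have hd : ringChar F ∣ 5 ^ 2 := by
      rw [show (5 : ℕ) ^ 2 = ringChar F ^ (n : ℕ) by rw [← hn, hF]; norm_num]
      exact dvd_pow_self _ n.pos.ne'
    exact (Nat.prime_dvd_prime_iff_eq hp Nat.prime_five).mp (hp.dvd_of_dvd_pow hd)
  haveI : CharP F 5 := h5 ▸ ringChar.charP F
  exact CfsgLib.U35.main hF

end Cfsg.Agent.S2149
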