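import Cfsg.Statements.S1466
import Mathlib
import Cfsg.Agent.Lib.OddLocal.Puig
import Cfsg.Agent.Lib.Frobenius.UniqueSubgroup
-- import your own Cfsg.Agent.* helpers here

set_option autoImplicit false
open Cfsg

namespace Cfsg.Agent.S1466

/-- Let p be a prime and R a nontrivial finite p-group. Then for every i > 0, Z(R) ≤ C_R(L_i(R)) ≤ L_i(R); likewise Z(R) ≤ C_R(L_*(R)) ≤ L_*(R) and Z(R) ≤ C_R(L(R)) ≤ L(R); and L(R) ≠ 1, L_*(R) ≠ 1. -/
theorem result {R : Type*} [Group R] [Finite R] (p : ℕ) [Fact p.Prime] (hR : IsPGroup p R) [Nontrivial R] :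
    (∀ i : ℕ, 0 < i → Subgroup.center R ≤ Subgroup.centralizer ((Cfsg.puigSeq R i : Subgroup R) : Set R) ∧
        Subgroup.centralizer ((Cfsg.puigSeq R i : Subgroup R) : Set R) ≤ Cfsg.puigSeq R i) ∧
      (Subgroup.center R ≤ Subgroup.centralizer ((Cfsg.puigLower R : Subgroup R) : Set R) ∧ Subgroup.centralizer ((Cfsg.puigLower R : Subgroup R) : Set R) ≤ Cfsg.puigLower R) ∧
      (Subgroup.center R ≤ Subgroup.centralizer ((Cfsg.puigSubgroup R : Subgroup R) : Set R) ∧ Subgroup.centralizer ((Cfsg.puigSubgroup R : Subgroup R) : Set R) ≤ Cfsg.puigSubgroup R) ∧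
      Cfsg.puigSubgroup R ≠ ⊥ ∧ Cfsg.puigLower R ≠ ⊥ := by
  haveI : Group.IsNilpotent R := hR.isNilpotent
  obtain ⟨A, hAn, hAc, hCA⟩ := CfsgLib.Frob.exists_maximal_normal_abelian (G := R)
  have hseq : ∀ i : ℕ, 0 < i → A ≤ Cfsg.puigSeq R i := fun i hi => by
    obtain ⟨j, rfl⟩ : ∃ j, i = j + 1 := ⟨i - 1, by omega⟩
    exact CfsgLib.Puig.le_step hAc
  have hgen : ∀ L : Subgroup R, A ≤ L → Subgroup.center R ≤ Subgroup.centralizer (L : Set R) ∧ Subgroup.centralizer (L : Set R) ≤ L :=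
    fun L h => ⟨Subgroup.center_le_centralizer _, ((Subgroup.centralizer_le h).trans hCA.le).trans h⟩
  have hup : A ≤ Cfsg.puigSubgroup R := le_iInf fun n => hseq _ (by omega)
  have hlo : A ≤ Cfsg.puigLower R := (hseq 2 (by omega)).trans (le_iSup (fun n => Cfsg.puigSeq R (2 * n)) 1)
  have hA : A ≠ ⊥ := fun h => by
    haveI := hR.center_nontrivial
    refine Subgroup.nontrivial_iff_ne_bot (Subgroup.center R) |>.mp inferInstance (le_bot_iff.mp ?_)
    exact ((Subgroup.center_le_centralizer _).trans hCA.le).trans h.le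
  exact ⟨fun i hi => hgen _ (hseq i hi), hgen _ hlo, hgen _ hup, fun h => hA (le_bot_iff.mp (h ▸ hup)), fun h => hA (le_bot_iff.mp (h ▸ hlo))⟩

end Cfsg.Agent.S1466
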