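import Cfsg.Statements.S1525
import Mathlib
import Cfsg.Agent.Lib.CharTheory.DadeVirtual
import Cfsg.Agent.Lib.CharTheory.TI
import Cfsg.Agent.Lib.CharTheory.Clifford
-- import your own Cfsg.Agent.* helpers here

set_option autoImplicit false
open Cfsg

namespace Cfsg.Agent.S1525

/-- Under the Dade hypothesis for (A, L, H), let χ be a class function of G and let ψ be a function on L whose value at each a ∈ A is the average of χ over the coset a·H(a). Then (1/|G|) Σ |χ g|² over the elements g of G conjugate into some coset a·H(a) with a ∈ A is at least (1/|L|) Σ_{a ∈ A ∩ L} |ψ a|². -/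
theorem result {G : Type*} [Group G] [Fintype G] (A : Set G) (L : Subgroup G) [Fintype L] (H : G → Subgroup G) (hD : Cfsg.DadeHypothesis A L H) (χ : G → ℂ) (hχ : Cfsg.IsClassFunction G χ) (ψ : L → ℂ) (hψ : ∀ a : L, (a : G) ∈ A → ψ a = (Nat.card (H a) : ℂ)⁻¹ * ∑ᶠ u ∈ (H a : Set G), χ (a * u)) : (Nat.card L : ℝ)⁻¹ * ∑ᶠ a ∈ {a : L | (a : G) ∈ A}, ‖ψ a‖ ^ 2 ≤ (Nat.card G : ℝ)⁻¹ * ∑ᶠ g ∈ {g : G | ∃ a ∈ A, ∃ u ∈ H a, ∃ x : G, x * g * x⁻¹ = a * u}, ‖χ g‖ ^ 2 := by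
  classical
  have hψinv : ∀ (a : L) (l : L), (a : G) ∈ A → ψ (l * a * l⁻¹) = ψ a := by
    intro a l ha
    have hla : ((l * a * l⁻¹ : L) : G) ∈ A := hD.conj_mem l l.2 a ha
    rw [hψ a ha, hψ _ hla]
    rw [show ((l * a * l⁻¹ : L) : G) = (l : G) * a * (l : G)⁻¹ from rfl, CfsgLib.Dade.card_H_conj hD ha l.2]
    congr 1
    refine (finsum_mem_eq_of_bijOn (fun u => (l : G) * u * (l : G)⁻¹) ⟨fun u hu => CfsgLib.Dade.conj_mem_H_of_mem hD ha l.2 hu, fun u _ v _ e => by simpa using e, fun v hv => ⟨(l : G)⁻¹ * v * l, by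
        have := CfsgLib.Dade.conj_mem_H_of_mem hD (hD.conj_mem l l.2 a ha) (L.inv_mem l.2) hv
        simpa [mul_assoc] using this, by simp [mul_assoc]⟩⟩ fun u hu => ?_).symm
    have := hχ ((a : G) * u) l
    rw [← this]
    congr 1
    group
  let α : L → ℂ := fun a => if (a : G) ∈ A then ψ a else 0
  have hα : Cfsg.IsClassFunction L α := fun g k => by
    by_cases hg : (g : G) ∈ A
    · simp only [α, if_pos hg, if_pos (show ((k * g * k⁻¹ : L) : G) ∈ A from hD.conj_mem k k.2 g hg), hψinv g k hg]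
    · have hg' : ¬ ((k * g * k⁻¹ : L) : G) ∈ A := fun h => hg (by simpa [mul_assoc] using hD.conj_mem (k⁻¹ : L) (k⁻¹).2 _ h)
      simp only [α, if_neg hg, if_neg hg']
  have hαA : ∀ x : L, (x : G) ∉ A → α x = 0 := fun x hx => if_neg hx
  have e1 := CfsgLib.Dade.classInner_dade hD hα hαA hχ ψ hψ
  have e2 := CfsgLib.Dade.classInner_dade_dade hD hα hαA hα
  set T := Cfsg.dadeIsometry A L H α with hT
  set supp : Set G := {g : G | ∃ a ∈ A, ∃ u ∈ H a, ∃ x : G, x * g * x⁻¹ = a * u} with hsupp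
  have hT0 : ∀ g, g ∉ supp → T g = 0 := fun g hg => dif_neg fun ⟨a, ha, x, u, hu, he⟩ => hg ⟨a, ha, u, hu, x, he⟩
  rw [finsum_mem_eq_finite_toFinset_sum _ (Set.toFinite _), finsum_mem_eq_finite_toFinset_sum _ (Set.toFinite _)]
  set P : ℝ := ∑ a ∈ (Set.toFinite {a : L | (a : G) ∈ A}).toFinset, ‖ψ a‖ ^ 2 with hP
  set Q : ℝ := ∑ g ∈ (Set.toFinite supp).toFinset, ‖χ g‖ ^ 2 with hQ
  have hαψ : ∑ a : L, α a * (starRingEnd ℂ) (ψ a) = (P : ℂ) := by
    rw [hP]; push_cast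
    rw [← Finset.sum_subset (Finset.subset_univ (Set.toFinite {a : L | (a : G) ∈ A}).toFinset) (fun x _ hx => by
      rw [hαA x (by simpa using hx), zero_mul])]
    exact Finset.sum_congr rfl fun a ha => by
      rw [show α a = ψ a from if_pos (by simpa using ha), Complex.mul_conj']
  have hαα : ∑ a : L, α a * (starRingEnd ℂ) (α a) = (P : ℂ) := by
    rw [← hαψ]
    refine Finset.sum_congr rfl fun a _ => ?_
    by_cases ha : (a : G) ∈ A
    · simp only [α, if_pos ha]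
    · rw [hαA a ha, zero_mul, zero_mul]
  simp only [Cfsg.classInner, hαψ, hαα] at e1 e2
  have hG : (0 : ℝ) < Nat.card G := Nat.cast_pos.mpr Nat.card_pos
  have hL : (0 : ℝ) < Nat.card L := Nat.cast_pos.mpr Nat.card_pos
  have h2 : (Nat.card G : ℝ)⁻¹ * ∑ g, ‖T g‖ ^ 2 = (Nat.card L : ℝ)⁻¹ * P := by
    have h : (((Nat.card G : ℝ)⁻¹ * ∑ g, ‖T g‖ ^ 2 : ℝ) : ℂ) = (((Nat.card L : ℝ)⁻¹ * P : ℝ) : ℂ) := by
      push_cast
      rw [← e2]
      exact congrArg _ (Finset.sum_congr rfl fun g _ => (Complex.mul_conj' _).symm)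
    exact_mod_cast h
  have h3 : (Nat.card L : ℝ)⁻¹ * P ≤ (Nat.card G : ℝ)⁻¹ * ∑ g ∈ (Set.toFinite supp).toFinset, ‖T g‖ * ‖χ g‖ := by
    have h := congrArg norm e1
    rw [norm_mul, norm_mul, norm_inv, norm_inv, Complex.norm_natCast, Complex.norm_natCast, Complex.norm_real, Real.norm_of_nonneg (by positivity)] at h
    rw [← h]
    refine mul_le_mul_of_nonneg_left ?_ (by positivity)
    rw [← Finset.sum_subset (Finset.subset_univ (Set.toFinite supp).toFinset) (fun g _ hg => by rw [hT0 g (fun h => hg ((Set.toFinite supp).mem_toFinset.mpr h)), zero_mul])]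
    exact (norm_sum_le _ _).trans (le_of_eq (Finset.sum_congr rfl fun g _ => by rw [norm_mul, RCLike.norm_conj]))
  have h4 : (∑ g ∈ (Set.toFinite supp).toFinset, ‖T g‖ * ‖χ g‖) ^ 2 ≤ (∑ g, ‖T g‖ ^ 2) * Q :=
    (Finset.sum_mul_sq_le_sq_mul_sq _ _ _).trans (mul_le_mul_of_nonneg_right (Finset.sum_le_univ_sum_of_nonneg fun g => sq_nonneg _) (by positivity))
  have hP0 : 0 ≤ P := by positivity
  rcases hP0.eq_or_lt with h | hPpos
  · rw [← h, mul_zero]; positivity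
  have h5 : ((Nat.card L : ℝ)⁻¹ * P) ^ 2 ≤ ((Nat.card L : ℝ)⁻¹ * P) * ((Nat.card G : ℝ)⁻¹ * Q) := by
    calc ((Nat.card L : ℝ)⁻¹ * P) ^ 2 ≤ ((Nat.card G : ℝ)⁻¹ * ∑ g ∈ (Set.toFinite supp).toFinset, ‖T g‖ * ‖χ g‖) ^ 2 := pow_le_pow_left₀ (by positivity) h3 2
      _ ≤ (Nat.card G : ℝ)⁻¹ ^ 2 * ((∑ g, ‖T g‖ ^ 2) * Q) := by rw [mul_pow]; exact mul_le_mul_of_nonneg_left h4 (by positivity)
      _ = ((Nat.card G : ℝ)⁻¹ * ∑ g, ‖T g‖ ^ 2) * ((Nat.card G : ℝ)⁻¹ * Q) := by ring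
      _ = _ := by rw [h2]
  rw [sq] at h5
  exact le_of_mul_le_mul_left h5 (by positivity)

end Cfsg.Agent.S1525
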