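import Cfsg.Statements.S1510
import Mathlib
-- import your own Cfsg.Agent.* helpers here

set_option autoImplicit false
open Cfsg
open scoped Pointwise

namespace Cfsg.Agent.S1510

/-- Let L be a finite group with a normal subgroup K and a nontrivial cyclic subgroup W₁ of order coprime to its index, K ⊓ W₁ = ⊥ and K ⊔ W₁ = ⊤; let W₂ ≠ ⊥ be a cyclic subgroup of K with K ⊓ C_L(x) = W₂ for every non-identity x ∈ W₁, and suppose W₁ ⊔ W₂ has odd order. Then (W₁, W₂) is a self-normalising cyclic pair in L. -/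
theorem result {L : Type*} [Group L] [Fintype L] (K W₁ W₂ : Subgroup L) [hK : K.Normal] (hKW₁ : K ⊓ W₁ = ⊥) (hKW₁' : K ⊔ W₁ = ⊤) (hW₁ : W₁ ≠ ⊥) (hW₁c : IsCyclic W₁) (hHall : Nat.Coprime (Nat.card W₁) W₁.index) (hW₂ : W₂ ≠ ⊥) (hW₂c : IsCyclic W₂) (hW₂K : W₂ ≤ K) (hC : ∀ x ∈ W₁, x ≠ 1 → K ⊓ Subgroup.centralizer ({x} : Set L) = W₂) (hodd : Odd (Nat.card ↥(W₁ ⊔ W₂))) : Cfsg.IsSelfNormalizingCyclic W₁ W₂ := by
  classical
  have hW₂c' : ∀ x ∈ W₁, ∀ b ∈ W₂, x * b = b * x := fun x hx b hb => by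
    by_cases hx1 : x = 1
    · simp [hx1]
    · exact (Subgroup.mem_centralizer_iff.mp ((hC x hx hx1).ge hb).2 x rfl)
  have hinf : W₁ ⊓ W₂ = ⊥ := le_bot_iff.mp fun x hx => hKW₁.le ⟨hW₂K hx.2, hx.1⟩
  have hcard : Nat.card K = W₁.index := by
    rw [Subgroup.IsComplement'.index_eq_card (Subgroup.isComplement'_of_disjoint_and_mul_eq_univ (disjoint_iff.mpr hKW₁) (by rw [← Subgroup.normal_mul, hKW₁']; rfl))]
  have hcyc : IsCyclic ↥(W₁ ⊔ W₂) := by
    have hcop : (Nat.card W₁).Coprime (Nat.card W₂) := Nat.Coprime.coprime_dvd_right (hcard ▸ Subgroup.card_dvd_of_le hW₂K) hHall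
    haveI := hW₁c
    haveI := hW₂c
    haveI : IsCyclic (W₁ × W₂) := Group.isCyclic_prod_iff.mpr ⟨inferInstance, inferInstance, hcop⟩
    let f : W₁ × W₂ →* ↥(W₁ ⊔ W₂) := MonoidHom.noncommCoprod (Subgroup.inclusion le_sup_left) (Subgroup.inclusion le_sup_right)
      (fun a b => Subtype.ext (hW₂c' a a.2 b b.2))
    refine isCyclic_of_surjective f ?_
    rintro ⟨w, hw⟩
    have hn : W₁ ≤ Subgroup.normalizer (W₂ : Set L) := fun a ha => Subgroup.mem_normalizer_iff.mpr fun b => by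
      constructor
      · intro hb; rw [hW₂c' a ha b hb]; simpa using hb
      · intro hb
        have := hW₂c' a⁻¹ (W₁.inv_mem ha) _ hb
        have e : b = a * b * a⁻¹ := by
          calc b = a⁻¹ * (a * b * a⁻¹) * a := by group
            _ = a * b * a⁻¹ := by rw [this]; group
        rw [e]; exact hb
    have hw' := hw
    rw [← SetLike.mem_coe, Subgroup.coe_mul_of_left_le_normalizer_right _ _ hn] at hw'
    obtain ⟨a, ha, b, hb, rfl⟩ := hw'
    exact ⟨(⟨a, ha⟩, ⟨b, hb⟩), rfl⟩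
  refine ⟨hW₁, hW₂, hinf, fun a ha b hb => hW₂c' a ha b hb, hcyc, fun X hX hne => le_antisymm ?_ ?_⟩
  · intro g hg
    obtain ⟨v, hv⟩ := hne
    have hv' := hX hv
    have hgv := hX ((Subgroup.mem_set_normalizer_iff.mp hg v).mp hv)
    haveI := hcyc
    letI := IsCyclic.commGroup (α := ↥(W₁ ⊔ W₂))
    have dec : ∀ w : L, w ∈ W₁ ⊔ W₂ → ∃ a ∈ W₁, ∃ b ∈ W₂, w = a * b := fun w hw => by
      have hn : W₁ ≤ Subgroup.normalizer (W₂ : Set L) := fun a ha => Subgroup.mem_normalizer_iff.mpr fun b => by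
        have hc : Commute (⟨a, Subgroup.mem_sup_left ha⟩ : ↥(W₁ ⊔ W₂)) (⟨a, Subgroup.mem_sup_left ha⟩ : ↥(W₁ ⊔ W₂)) := Commute.refl _
        constructor
        · intro hb; rw [hW₂c' a ha b hb]; simpa using hb
        · intro hb
          have := hW₂c' a⁻¹ (W₁.inv_mem ha) _ hb
          have e : b = a * b * a⁻¹ := by
            calc b = a⁻¹ * (a * b * a⁻¹) * a := by group
              _ = a * b * a⁻¹ := by rw [this]; group
          rw [e]; exact hb
      rw [← SetLike.mem_coe, Subgroup.coe_mul_of_left_le_normalizer_right _ _ hn] at hw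
      obtain ⟨a, ha, b, hb, rfl⟩ := hw
      exact ⟨a, ha, b, hb, rfl⟩
    obtain ⟨a, ha, b, hb, hab⟩ := dec v hv'.1
    obtain ⟨a', ha', b', hb', hab'⟩ := dec _ hgv.1
    have ha1 : a ≠ 1 := fun e => hv'.2 (Or.inr (by rw [hab, e, one_mul]; exact hb))
    -- the `W₁`-part as a power
    have hcop : (orderOf a).Coprime (Nat.card K) := hcard ▸ hHall.coprime_dvd_left (W₁.orderOf_dvd_natCard ha)
    have hcop' : (orderOf a').Coprime (Nat.card K) := hcard ▸ hHall.coprime_dvd_left (W₁.orderOf_dvd_natCard ha')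
    obtain ⟨k, hk1, hk2⟩ := Nat.chineseRemainder (hcard ▸ hHall : (Nat.card W₁).Coprime (Nat.card K)) 1 0
    have pw : ∀ c ∈ W₁, ∀ d ∈ W₂, (c * d) ^ k = c := fun c hc d hd => by
      rw [(show Commute c d from hW₂c' c hc d hd).mul_pow, orderOf_dvd_iff_pow_eq_one.mp
        (((K.orderOf_dvd_natCard (hW₂K hd))).trans (Nat.modEq_zero_iff_dvd.mp hk2)), mul_one]
      conv_rhs => rw [← pow_one c]
      exact pow_eq_pow_iff_modEq.mpr (hk1.of_dvd (W₁.orderOf_dvd_natCard hc))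
    have hga : g * a * g⁻¹ = a' := by
      rw [← pw a' ha' b' hb', ← hab', conj_pow, hab, pw a ha b hb]
    have hgm : g ∈ (K : Set L) * (W₁ : Set L) := by rw [← Subgroup.normal_mul, hKW₁']; trivial
    obtain ⟨c, hc, w, hw, rfl⟩ := hgm
    have hwa : w * a * w⁻¹ = a := by
      haveI := hW₁c
      letI := IsCyclic.commGroup (α := W₁)
      have e := congrArg Subtype.val (mul_comm (⟨w, hw⟩ : W₁) ⟨a, ha⟩)
      simp only [Subgroup.coe_mul] at e
      rw [e]; group
    have hca : c * a * c⁻¹ = a' := by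
      rw [← hga]
      calc c * a * c⁻¹ = c * (w * a * w⁻¹) * c⁻¹ := by rw [hwa]
        _ = c * w * a * (c * w)⁻¹ := by group
    have haa : a' = a := by
      have h1 : a' * a⁻¹ ∈ K ⊓ W₁ := ⟨by
        rw [← hca, show c * a * c⁻¹ * a⁻¹ = c * (a * c⁻¹ * a⁻¹) by group]
        exact K.mul_mem hc (hK.conj_mem _ (K.inv_mem hc) a), W₁.mul_mem ha' (W₁.inv_mem ha)⟩
      rw [hKW₁, Subgroup.mem_bot, mul_inv_eq_one] at h1
      exact h1
    have hcC : c ∈ W₂ := by
      refine (hC a ha ha1).le ⟨hc, Subgroup.mem_centralizer_iff.mpr fun z hz => ?_⟩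
      rw [Set.mem_singleton_iff.mp hz]
      calc a * c = (c * a * c⁻¹) * c := by rw [hca, haa]
        _ = c * a := by group
    exact Subgroup.mul_mem _ (Subgroup.mem_sup_right hcC) (Subgroup.mem_sup_left hw)
  · intro w hw
    haveI := hcyc
    letI := IsCyclic.commGroup (α := ↥(W₁ ⊔ W₂))
    rw [Subgroup.mem_set_normalizer_iff]
    intro v
    constructor
    · intro hv
      have e := congrArg Subtype.val (mul_comm (⟨w, hw⟩ : ↥(W₁ ⊔ W₂)) ⟨v, (hX hv).1⟩)
      simp only [Subgroup.coe_mul] at e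
      rw [e]; simpa using hv
    · intro hv
      have e := congrArg Subtype.val (mul_comm (⟨w, hw⟩ : ↥(W₁ ⊔ W₂)) ⟨_, (hX hv).1⟩)
      simp only [Subgroup.coe_mul] at e
      have : v = w * v * w⁻¹ := by
        calc v = w⁻¹ * (w * v * w⁻¹ * w) := by group
          _ = w⁻¹ * (w * (w * v * w⁻¹)) := by rw [e]
          _ = w * v * w⁻¹ := by group
      rw [this]; exact hv

end Cfsg.Agent.S1510
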