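import Cfsg.Statements.S1505
import Mathlib
import Cfsg.Agent.Lib.CharTheory.CyclicTI
-- import your own Cfsg.Agent.* helpers here

set_option autoImplicit false
open Cfsg

namespace Cfsg.Agent.S1505

open Classical in
/-- Let W₁, W₂ ≤ G form a self-normalising cyclic subgroup W = W₁ ⊔ W₂. For nontrivial linear characters φ, φ' of W trivial on W₂ and ψ, ψ' trivial on W₁, put α = (1 − φ)(1 − ψ) and α' = (1 − φ')(1 − ψ'). Then the function induced from α to G has inner product 1 with the principal character, and the inner product of the functions induced from α and α' is 1 + a + b + ab where a = 1 if φ = φ' (else 0) and b = 1 if ψ = ψ' (else 0). -/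
theorem result {G : Type*} [Group G] [Fintype G] (W₁ W₂ : Subgroup G) (hW : Cfsg.IsSelfNormalizingCyclic W₁ W₂) (φ φ' ψ ψ' : ↥(W₁ ⊔ W₂) →* ℂˣ) (hφ : φ ≠ 1) (hφ' : φ' ≠ 1) (hψ : ψ ≠ 1) (hψ' : ψ' ≠ 1) (hφ₂ : ∀ w : ↥(W₁ ⊔ W₂), (w : G) ∈ W₂ → φ w = 1 ∧ φ' w = 1) (hψ₁ : ∀ w : ↥(W₁ ⊔ W₂), (w : G) ∈ W₁ → ψ w = 1 ∧ ψ' w = 1) : Cfsg.classInner (Cfsg.indFun (W₁ ⊔ W₂) (fun w => 1 - (φ w : ℂ) - (ψ w : ℂ) + (φ w : ℂ) * (ψ w : ℂ))) (fun _ => 1) = 1 ∧ Cfsg.classInner (Cfsg.indFun (W₁ ⊔ W₂) (fun w => 1 - (φ w : ℂ) - (ψ w : ℂ) + (φ w : ℂ) * (ψ w : ℂ))) (Cfsg.indFun (W₁ ⊔ W₂) (fun w => 1 - (φ' w : ℂ) - (ψ' w : ℂ) + (φ' w : ℂ) * (ψ' w : ℂ))) = 1 + (if φ = φ' then 1 else 0) + (if ψ = ψ' then 1 else 0) + (if φ = φ' then 1 else 0) * (if ψ = ψ' then 1 else 0) := by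
  classical
  haveI := Fintype.ofFinite ↥(W₁ ⊔ W₂)
  have hcomm : ∀ a ∈ W₁, ∀ b ∈ W₂, a * b = b * a := hW.2.2.2.1
  have hφ₂' := fun w h => (hφ₂ w h).2
  have hψ₁' := fun w h => (hψ₁ w h).2
  have hφ₂'' := fun w h => (hφ₂ w h).1
  have hψ₁'' := fun w h => (hψ₁ w h).1
  obtain ⟨h1, h2, h3, h4, h5, h6⟩ := CfsgLib.CharTheory.cyc_prod_facts hcomm hφ' hψ' hφ₂'' hφ₂' hψ₁'' hψ₁'
  obtain ⟨k1, k2, k3, -, k5, k6⟩ := CfsgLib.CharTheory.cyc_prod_facts hcomm hφ hψ hφ₂' hφ₂'' hψ₁' hψ₁''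
  have hcl : ∀ a b : ↥(W₁ ⊔ W₂) →* ℂˣ, Cfsg.IsClassFunction ↥(W₁ ⊔ W₂) (CfsgLib.CharTheory.cycBeta a b) := fun a b g k => by
    simp [CfsgLib.CharTheory.cycBeta]
  have hval : ∀ a b : ↥(W₁ ⊔ W₂) →* ℂˣ, ∀ k g, ((a (k * g * k⁻¹) : ℂˣ) : ℂ) = (a g : ℂ) := fun a b k g => by simp
  constructor
  · show Cfsg.classInner (Cfsg.indFun (W₁ ⊔ W₂) (CfsgLib.CharTheory.cycBeta φ ψ)) (fun _ => 1) = 1
    rw [CfsgLib.CharTheory.frobenius_reciprocity _ _ CfsgLib.CharTheory.isClassFunction_one]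
    have := CfsgLib.CharTheory.classInner_cycBeta_linear φ ψ 1
    rw [if_pos rfl, if_neg hφ, if_neg hψ, if_neg k1] at this
    simpa using this
  · show Cfsg.classInner (Cfsg.indFun (W₁ ⊔ W₂) (CfsgLib.CharTheory.cycBeta φ ψ)) (Cfsg.indFun (W₁ ⊔ W₂) (CfsgLib.CharTheory.cycBeta φ' ψ')) = _
    have hS : ∀ (a b : ↥(W₁ ⊔ W₂) →* ℂˣ), (∀ w : ↥(W₁ ⊔ W₂), (w : G) ∈ W₂ → a w = 1) → (∀ w : ↥(W₁ ⊔ W₂), (w : G) ∈ W₁ → b w = 1) →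
        ∀ x : ↥(W₁ ⊔ W₂), (x : G) ∉ ((↑(W₁ ⊔ W₂) : Set G) \ (↑W₁ ∪ ↑W₂)) → CfsgLib.CharTheory.cycBeta a b x = 0 := fun a b ha hb x hx => by
      refine CfsgLib.CharTheory.cycBeta_eq_zero a b ha hb x ?_
      by_contra h
      exact hx ⟨x.2, h⟩
    rw [CfsgLib.CharTheory.classInner_indFun_of_TI _ _ (CfsgLib.CharTheory.cyclicTI_isTI hW) (hcl φ' ψ')
      (hS φ ψ hφ₂'' hψ₁'') (hS φ' ψ' hφ₂' hψ₁') (CfsgLib.CharTheory.cycBeta_eq_zero φ' ψ' hφ₂' hψ₁' 1 (Or.inl W₁.one_mem))]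
    rw [CfsgLib.CharTheory.cycBeta_eq φ' ψ']
    simp only [CfsgLib.CharTheory.classInner_add_right, CfsgLib.CharTheory.classInner_sub_right, CfsgLib.CharTheory.classInner_cycBeta_linear]
    simp only [if_true, if_neg hφ, if_neg hψ, if_neg k1, if_neg (Ne.symm hφ'), if_neg (Ne.symm h5), if_neg (Ne.symm hψ'), if_neg (Ne.symm h6), if_neg (Ne.symm h1), if_neg h2, if_neg h3, if_neg (fun e => k2 e.symm : ¬ φ * ψ = φ'), if_neg (fun e => k3 e.symm : ¬ φ * ψ = ψ')]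
    by_cases e1 : φ = φ' <;> by_cases e2 : ψ = ψ' <;> simp [e1, e2, h4] <;> norm_num

end Cfsg.Agent.S1505
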