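import Cfsg.Statements.S1502
import Mathlib
import Cfsg.Agent.Lib.CharTheory.SunflowerGrid
import Cfsg.Agent.Lib.CharTheory.CyclicTI3
import Cfsg.Agent.Lib.CharTheory.Induced
import Cfsg.Agent.S1505
-- import your own Cfsg.Agent.* helpers here

set_option autoImplicit false
open Cfsg

namespace Cfsg.Agent.S1502

/-- Let W₁, W₂ be nontrivial subgroups of the finite group G generating a cyclic subgroup W = W₁ ⊔ W₂ of odd order that is the normaliser of every nonempty set of its elements outside W₁ ∪ W₂. Then there is a family attaching to each linear character ω of W an irreducible character of G up to sign, orthonormal, sending the trivial character to the principal character, with χ ω = ω on W outside W₁ ∪ W₂, and such that inducing (1 − φ)(1 − ψ) to G gives 1 − χ φ − χ ψ + χ (φψ) whenever φ ≠ 1 is trivial on W₂ and ψ ≠ 1 is trivial on W₁. -/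
theorem result {G : Type*} [Group G] [Fintype G] (W₁ W₂ : Subgroup G) (hW : Cfsg.IsSelfNormalizingCyclic W₁ W₂) (hodd : Odd (Nat.card ↥(W₁ ⊔ W₂))) : ∃ χ : (↥(W₁ ⊔ W₂) →* ℂˣ) → (G → ℂ), Cfsg.IsCyclicTIFamily W₁ W₂ χ := by
  classical
  open CfsgLib.CharTheory in
  have key : ∃ χ : (↥(W₁ ⊔ W₂) →* ℂˣ) → (G → ℂ), Cfsg.IsCyclicTIFamily W₁ W₂ χ := by
    have hW' := hW
    obtain ⟨hne1, hne2, hdisj, hcomm, hcyc, -⟩ := hW'
    haveI := Fintype.ofFinite ↥(W₁ ⊔ W₂)
    haveI := hcyc
    have hab : ∀ u v : ↥(W₁ ⊔ W₂), u * v = v * u := fun u v => by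
      letI := IsCyclic.commGroup (α := ↥(W₁ ⊔ W₂))
      exact mul_comm u v
    haveI := Fintype.ofFinite (↥(W₁ ⊔ W₂) →* ℂˣ)
    obtain ⟨e, he⟩ := exists_prod_equiv hdisj hcomm
    let p₁ : ↥(W₁ ⊔ W₂) →* W₁ := (MonoidHom.fst W₁ W₂).comp e.symm.toMonoidHom
    let p₂ : ↥(W₁ ⊔ W₂) →* W₂ := (MonoidHom.snd W₁ W₂).comp e.symm.toMonoidHom
    have hmem2 : ∀ z : ↥(W₁ ⊔ W₂), ∀ h : (z : G) ∈ W₂, e.symm z = (1, ⟨z, h⟩) := fun z h => e.injective (by
      rw [MulEquiv.apply_symm_apply]; exact Subtype.ext (by rw [he]; simp))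
    have hmem1 : ∀ z : ↥(W₁ ⊔ W₂), ∀ h : (z : G) ∈ W₁, e.symm z = (⟨z, h⟩, 1) := fun z h => e.injective (by
      rw [MulEquiv.apply_symm_apply]; exact Subtype.ext (by rw [he]; simp))
    let R₁ : (↥(W₁ ⊔ W₂) →* ℂˣ) → Prop := fun φ => φ ≠ 1 ∧ ∀ w : ↥(W₁ ⊔ W₂), (w : G) ∈ W₂ → φ w = 1
    let R₂ : (↥(W₁ ⊔ W₂) →* ℂˣ) → Prop := fun φ => φ ≠ 1 ∧ ∀ w : ↥(W₁ ⊔ W₂), (w : G) ∈ W₁ → φ w = 1
    let I := {φ // R₁ φ}
    let J := {φ // R₂ φ}
    -- cardinalities
    haveI := Fintype.ofFinite W₁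
    haveI := Fintype.ofFinite W₂
    haveI := Fintype.ofFinite (W₁ →* ℂˣ)
    haveI := Fintype.ofFinite (W₂ →* ℂˣ)
    have hc1 : ∀ x y : W₁, x * y = y * x := fun x y =>
      Subtype.ext (congrArg Subtype.val (hab ⟨x, Subgroup.mem_sup_left x.2⟩ ⟨y, Subgroup.mem_sup_left y.2⟩) :)
    have hc2 : ∀ x y : W₂, x * y = y * x := fun x y =>
      Subtype.ext (congrArg Subtype.val (hab ⟨x, Subgroup.mem_sup_right x.2⟩ ⟨y, Subgroup.mem_sup_right y.2⟩) :)
    have hh1 : Fintype.card (W₁ →* ℂˣ) = Nat.card W₁ := by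
      have := sum_hom_abelian hc1 1
      simp at this; rw [Nat.card_eq_fintype_card]; exact_mod_cast this
    have hh2 : Fintype.card (W₂ →* ℂˣ) = Nat.card W₂ := by
      have := sum_hom_abelian hc2 1
      simp at this; rw [Nat.card_eq_fintype_card]; exact_mod_cast this
    let eI : I ≃ {α : W₁ →* ℂˣ // α ≠ 1} :=
      { toFun := fun φ => ⟨φ.1.comp (Subgroup.inclusion le_sup_left), fun h => φ.2.1 (cyc_hom_ext hcomm _ _ fun w hw => by
          rcases hw with hw | hw
          · exact DFunLike.congr_fun h ⟨w, hw⟩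
          · exact φ.2.2 w hw)⟩
        invFun := fun α => ⟨α.1.comp p₁, fun h => α.2 (MonoidHom.ext fun x => by
            have := DFunLike.congr_fun h ⟨(x : G), Subgroup.mem_sup_left x.2⟩
            simpa [p₁, hmem1 ⟨(x : G), Subgroup.mem_sup_left x.2⟩ x.2] using this),
          fun w hw => by simp [p₁, hmem2 w hw]⟩
        left_inv := fun φ => Subtype.ext (cyc_hom_ext hcomm _ _ fun w hw => by
          rcases hw with hw | hw
          · simp [p₁, hmem1 w hw, Subgroup.inclusion]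
          · simp [p₁, hmem2 w hw, φ.2.2 w hw])
        right_inv := fun α => Subtype.ext (MonoidHom.ext fun x => by
          simp [p₁, hmem1 ⟨(x : G), Subgroup.mem_sup_left x.2⟩ x.2, Subgroup.inclusion]) }
    let eJ : J ≃ {α : W₂ →* ℂˣ // α ≠ 1} :=
      { toFun := fun φ => ⟨φ.1.comp (Subgroup.inclusion le_sup_right), fun h => φ.2.1 (cyc_hom_ext hcomm _ _ fun w hw => by
          rcases hw with hw | hw
          · exact φ.2.2 w hw
          · exact DFunLike.congr_fun h ⟨w, hw⟩)⟩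
        invFun := fun α => ⟨α.1.comp p₂, fun h => α.2 (MonoidHom.ext fun x => by
            have := DFunLike.congr_fun h ⟨(x : G), Subgroup.mem_sup_right x.2⟩
            simpa [p₂, hmem2 ⟨(x : G), Subgroup.mem_sup_right x.2⟩ x.2] using this),
          fun w hw => by simp [p₂, hmem1 w hw]⟩
        left_inv := fun φ => Subtype.ext (cyc_hom_ext hcomm _ _ fun w hw => by
          rcases hw with hw | hw
          · simp [p₂, hmem1 w hw, φ.2.2 w hw]
          · simp [p₂, hmem2 w hw, Subgroup.inclusion])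
        right_inv := fun α => Subtype.ext (MonoidHom.ext fun x => by
          simp [p₂, hmem2 ⟨(x : G), Subgroup.mem_sup_right x.2⟩ x.2, Subgroup.inclusion]) }
    have hI : Fintype.card I = Nat.card W₁ - 1 := by
      rw [Fintype.card_congr eI, Fintype.card_subtype_compl, Fintype.card_subtype_eq, hh1]
    have hJ : Fintype.card J = Nat.card W₂ - 1 := by
      rw [Fintype.card_congr eJ, Fintype.card_subtype_compl, Fintype.card_subtype_eq, hh2]
    have hcard : Nat.card ↥(W₁ ⊔ W₂) = Nat.card W₁ * Nat.card W₂ := by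
      rw [← Nat.card_congr e.toEquiv, Nat.card_prod]
    rw [hcard, Nat.odd_mul] at hodd
    have h11 : 1 < Nat.card W₁ := Subgroup.one_lt_card_iff_ne_bot _ |>.mpr hne1
    have h21 : 1 < Nat.card W₂ := Subgroup.one_lt_card_iff_ne_bot _ |>.mpr hne2
    have h12 : Nat.card W₁ ≠ Nat.card W₂ := fun h => by
      have h3 := cyclic_subgroup_ext (A := ↥(W₁ ⊔ W₂)) (H := W₁.subgroupOf _) (K := W₂.subgroupOf _)
        (by rw [Nat.card_congr (Subgroup.subgroupOfEquivOfLe le_sup_left).toEquiv,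
          Nat.card_congr (Subgroup.subgroupOfEquivOfLe le_sup_right).toEquiv, h])
      have h4 := congrArg (Subgroup.map (W₁ ⊔ W₂).subtype) h3
      rw [Subgroup.map_subgroupOf_eq_of_le le_sup_left, Subgroup.map_subgroupOf_eq_of_le le_sup_right] at h4
      rw [← h4, inf_idem] at hdisj
      exact hne1 hdisj
    obtain ⟨⟨k, hk⟩, ⟨l, hl⟩⟩ := hodd
    -- the vectors
    let triv : IrrCharacter G := ⟨fun _ => 1, isIrrCharacter_one⟩
    let θ : I → J → G → ℂ := fun i j => indFun (W₁ ⊔ W₂) (cycBeta i.1 j.1)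
    have hlin : ∀ a : ↥(W₁ ⊔ W₂) →* ℂˣ, IsGeneralizedCharacter ↥(W₁ ⊔ W₂) (fun w => (a w : ℂ)) := fun a =>
      isGenChar_of_char (isCharacter_of_irr (isIrrCharacter_linear a))
    have hθg : ∀ i j, IsGeneralizedCharacter G (θ i j) := fun i j => by
      refine isGenChar_indFun _ ?_
      rw [cycBeta_eq]
      exact isGenChar_add (isGenChar_sub (isGenChar_sub (hlin _) (hlin _)) (hlin _)) (hlin _)
    have hθ1 : ∀ i j, classInner (θ i j) (fun _ => 1) = 1 := fun i j =>
      (Cfsg.Agent.S1505.result W₁ W₂ hW i.1 i.1 j.1 j.1 i.2.1 i.2.1 j.2.1 j.2.1 (fun w h => ⟨i.2.2 w h, i.2.2 w h⟩)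
        (fun w h => ⟨j.2.2 w h, j.2.2 w h⟩)).1
    have hθθ : ∀ i j i' j', classInner (θ i j) (θ i' j') = 1 + (if i = i' then 1 else 0) + (if j = j' then 1 else 0) +
        (if i = i' then 1 else 0) * (if j = j' then 1 else 0) := fun i j i' j' => by
      have := (Cfsg.Agent.S1505.result W₁ W₂ hW i.1 i'.1 j.1 j'.1 i.2.1 i'.2.1 j.2.1 j'.2.1 (fun w h => ⟨i.2.2 w h, i'.2.2 w h⟩)
        (fun w h => ⟨j.2.2 w h, j'.2.2 w h⟩)).2
      simp only [← Subtype.ext_iff] at this
      exact this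
    have hv : ∀ i j, ∃ c : IrrCharacter G → ℤ, (θ i j - (triv : G → ℂ)) = ∑ ψ : IrrCharacter G, (c ψ : ℂ) • (ψ : G → ℂ) ∧
        ∀ ψ : IrrCharacter G, classInner (θ i j - (triv : G → ℂ)) (ψ : G → ℂ) = c ψ := fun i j => by
      obtain ⟨c, h1, h2, -⟩ := classInner_self_eq_sum_sq (isGenChar_sub (hθg i j) (isGenChar_of_char (isCharacter_of_irr triv.2)))
      exact ⟨c, h1, h2⟩
    choose c hc1 hc2 using hv
    choose d hd0 hd1 using fun ψ : IrrCharacter G => irr_degree_pos ψ.2
    have htriv : ∀ i j, c i j triv = 0 := fun i j => by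
      have := hc2 i j triv
      rw [classInner_sub_left, show (triv : G → ℂ) = fun _ => 1 from rfl, hθ1] at this
      rw [classInner_irr_self isIrrCharacter_one, sub_self] at this
      exact_mod_cast this.symm
    have grid : SunflowerGrid.IsGrid (fun ψ => (d ψ : ℤ)) c := by
      refine ⟨fun i j i' j' => ?_, fun i j => ?_, fun ψ => by exact_mod_cast hd0 ψ⟩
      · have h1 : classInner (θ i j - (triv : G → ℂ)) (θ i' j' - (triv : G → ℂ)) =
            ((∑ ψ : IrrCharacter G, c i j ψ * c i' j' ψ : ℤ) : ℂ) := by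
          conv_lhs => arg 2; rw [hc1 i' j']
          rw [classInner_sum_right]
          push_cast
          refine Finset.sum_congr rfl fun ψ _ => ?_
          rw [classInner_smul_right, hc2, map_intCast, mul_comm]
        rw [classInner_sub_left, classInner_sub_right, classInner_sub_right, show (triv : G → ℂ) = fun _ => 1 from rfl,
          hθθ, hθ1, ← classInner_comm (θ i' j'), hθ1, classInner_irr_self isIrrCharacter_one, map_one] at h1
        have h2 : ((∑ ψ : IrrCharacter G, c i j ψ * c i' j' ψ : ℤ) : ℂ) = (((if i = i' then 1 else 0) + (if j = j' then 1 else 0) +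
            (if i = i' then 1 else 0) * (if j = j' then 1 else 0) : ℤ) : ℂ) := by
          rw [← h1]; push_cast [apply_ite (Int.cast : ℤ → ℂ)]; ring
        exact_mod_cast h2
      · have h1 := congrFun (hc1 i j) 1
        simp only [Pi.sub_apply, Finset.sum_apply, Pi.smul_apply, smul_eq_mul, θ, indFun_apply_one] at h1
        rw [show cycBeta i.1 j.1 1 = 0 by simp [cycBeta]] at h1
        have hdt : d triv = 1 := by
          have := hd1 triv
          rw [show (triv : G → ℂ) 1 = 1 from rfl] at this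
          exact_mod_cast this.symm
        simp only [mul_zero, hd1, hdt, Nat.cast_one, zero_sub] at h1
        exact_mod_cast h1.symm
    obtain ⟨f, s, finj, hs, hf3, hf1, hf2, hdec⟩ := grid.decompose (by omega) (by omega) (by omega)
    obtain ⟨i₀⟩ := Fintype.card_pos_iff.mp (show 0 < Fintype.card I by omega)
    obtain ⟨j₀⟩ := Fintype.card_pos_iff.mp (show 0 < Fintype.card J by omega)
    have hft : ∀ p, f p ≠ triv := by
      rintro (i | j | ⟨i, j⟩) e
      · exact hf1 i j₀ (e ▸ htriv i j₀)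
      · exact hf2 i₀ j (e ▸ htriv i₀ j)
      · exact hf3 i j (e ▸ htriv i j)
    -- classification of linear characters
    let emb : Option (I ⊕ J ⊕ I × J) → (↥(W₁ ⊔ W₂) →* ℂˣ)
      | none => 1
      | some (.inl i) => i.1
      | some (.inr (.inl j)) => j.1
      | some (.inr (.inr (i, j))) => i.1 * j.1
    have facts : ∀ (i k : I) (j l : J), k.1 * l.1 ≠ 1 ∧ i.1 ≠ k.1 * l.1 ∧ j.1 ≠ k.1 * l.1 ∧
        (i.1 * j.1 = k.1 * l.1 ↔ i.1 = k.1 ∧ j.1 = l.1) ∧ k.1 ≠ j.1 ∧ l.1 ≠ i.1 := fun i k j l =>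
      cyc_prod_facts hcomm k.2.1 l.2.1 i.2.2 k.2.2 j.2.2 l.2.2
    have einj : Function.Injective emb := by
      rintro (_ | i | j | ⟨i, j⟩) (_ | k | l | ⟨k, l⟩) h <;> simp only [emb] at h
      · rfl
      · exact absurd h.symm k.2.1
      · exact absurd h.symm l.2.1
      · exact absurd h.symm (facts k k l l).1
      · exact absurd h i.2.1
      · rw [Subtype.ext h]
      · exact absurd h (facts i i l l).2.2.2.2.1
      · exact absurd h (facts i k l l).2.1
      · exact absurd h j.2.1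
      · exact absurd h.symm (facts k k j j).2.2.2.2.1
      · rw [Subtype.ext h]
      · exact absurd h (facts k k j l).2.2.1
      · exact absurd h (facts i i j j).1
      · exact absurd h.symm (facts k i j j).2.1
      · exact absurd h.symm (facts i i l j).2.2.1
      · obtain ⟨a, b⟩ := (facts i k j l).2.2.2.1.mp h
        rw [Subtype.ext a, Subtype.ext b]
    have esurj : Function.Surjective emb := by
      intro ω
      let a : ↥(W₁ ⊔ W₂) →* ℂˣ := (ω.comp (Subgroup.inclusion le_sup_left)).comp p₁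
      let b : ↥(W₁ ⊔ W₂) →* ℂˣ := (ω.comp (Subgroup.inclusion le_sup_right)).comp p₂
      have hab' : ω = a * b := cyc_hom_ext hcomm _ _ fun w hw => by
        rcases hw with hw | hw
        · simp [a, b, p₁, p₂, hmem1 w hw, Subgroup.inclusion]
          exact map_one ω
        · simp [a, b, p₁, p₂, hmem2 w hw, Subgroup.inclusion]
          exact map_one ω
      have ha : ∀ w : ↥(W₁ ⊔ W₂), (w : G) ∈ W₂ → a w = 1 := fun w hw => by simp [a, p₁, hmem2 w hw]
      have hb : ∀ w : ↥(W₁ ⊔ W₂), (w : G) ∈ W₁ → b w = 1 := fun w hw => by simp [b, p₂, hmem1 w hw]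
      by_cases ha1 : a = 1
      · by_cases hb1 : b = 1
        · exact ⟨none, by rw [hab', ha1, hb1]; ext w; simp [emb]⟩
        · exact ⟨some (.inr (.inl ⟨b, hb1, hb⟩)), by rw [hab', ha1]; ext w; simp [emb]⟩
      · by_cases hb1 : b = 1
        · exact ⟨some (.inl ⟨a, ha1, ha⟩), by rw [hab', hb1]; ext w; simp [emb]⟩
        · exact ⟨some (.inr (.inr (⟨a, ha1, ha⟩, ⟨b, hb1, hb⟩))), by rw [hab']⟩
    let eq := Equiv.ofBijective emb ⟨einj, esurj⟩
    have eqs : ∀ q, eq.symm (emb q) = q := fun q => eq.symm_apply_apply q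
    let F : Option (I ⊕ J ⊕ I × J) → IrrCharacter G
      | none => triv
      | some p => f p
    let σ : Option (I ⊕ J ⊕ I × J) → ℤ
      | none => 1
      | some (.inl i) => -s (.inl i)
      | some (.inr (.inl j)) => -s (.inr (.inl j))
      | some (.inr (.inr p)) => s (.inr (.inr p))
    have Finj : Function.Injective F := by
      rintro (_ | p) (_ | q) h <;> simp only [F] at h
      · rfl
      · exact absurd h.symm (hft q)
      · exact absurd h (hft p)
      · rw [finj h]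
    have hσ : ∀ q, σ q = 1 ∨ σ q = -1 := by
      rintro (_ | i | j | p)
      · exact Or.inl rfl
      · rcases hs (.inl i) with h | h <;> simp [σ, h]
      · rcases hs (.inr (.inl j)) with h | h <;> simp [σ, h]
      · exact hs _
    refine ⟨fun ω => (σ (eq.symm ω) : ℂ) • (F (eq.symm ω) : G → ℂ), ?_⟩
    have orth : ∀ ω ω', classInner ((σ (eq.symm ω) : ℂ) • (F (eq.symm ω) : G → ℂ)) ((σ (eq.symm ω') : ℂ) • (F (eq.symm ω') : G → ℂ)) =
        if ω = ω' then 1 else 0 := fun ω ω' => by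
      rw [classInner_smul_left, classInner_smul_right, classInner_irr (F _).2 (F _).2, map_intCast]
      simp only [← Subtype.ext_iff, Finj.eq_iff, eq.symm.injective.eq_iff]
      by_cases h : ω = ω'
      · subst h; rcases hσ (eq.symm ω) with h | h <;> simp [h]
      · simp [h]
    have e1 : eq.symm 1 = none := eqs none
    have hone : ((σ (eq.symm 1) : ℂ) • (F (eq.symm 1) : G → ℂ)) = fun _ => 1 := by
      rw [e1]; funext g; simp [σ, F, triv]
    have hind : ∀ φ ψ : ↥(W₁ ⊔ W₂) →* ℂˣ, ∀ hφ : R₁ φ, ∀ hψ : R₂ ψ, indFun (W₁ ⊔ W₂) (cycBeta φ ψ) =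
        ((σ (eq.symm 1) : ℂ) • (F (eq.symm 1) : G → ℂ)) - ((σ (eq.symm φ) : ℂ) • (F (eq.symm φ) : G → ℂ)) -
          ((σ (eq.symm ψ) : ℂ) • (F (eq.symm ψ) : G → ℂ)) + ((σ (eq.symm (φ * ψ)) : ℂ) • (F (eq.symm (φ * ψ)) : G → ℂ)) := fun φ ψ hφ hψ => by
      rw [e1, show eq.symm φ = some (.inl ⟨φ, hφ⟩) from eqs (some (.inl ⟨φ, hφ⟩)),
        show eq.symm ψ = some (.inr (.inl ⟨ψ, hψ⟩)) from eqs (some (.inr (.inl ⟨ψ, hψ⟩))),
        show eq.symm (φ * ψ) = some (.inr (.inr (⟨φ, hφ⟩, ⟨ψ, hψ⟩))) from eqs (some (.inr (.inr (⟨φ, hφ⟩, ⟨ψ, hψ⟩))))]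
      have h1 := hc1 ⟨φ, hφ⟩ ⟨ψ, hψ⟩
      rw [sub_eq_iff_eq_add] at h1
      refine h1.trans ?_
      simp only [hdec ⟨φ, hφ⟩ ⟨ψ, hψ⟩, Int.cast_add, add_smul, Finset.sum_add_distrib, apply_ite (Int.cast : ℤ → ℂ),
        Int.cast_zero, ite_smul, zero_smul, Finset.sum_ite_eq', Finset.mem_univ, if_true, σ, F, Int.cast_one, Int.cast_neg,
        one_smul, neg_smul]
      abel
    refine ⟨fun ω => ?_, fun ω ω' => by convert orth ω ω', hone, fun ω w h1 h2 => ?_, fun φ ψ hφ hψ hφ₂ hψ₁ => ?_⟩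
    · rcases hσ (eq.symm ω) with h | h <;> simp [h, (F (eq.symm ω)).2]
    · set χω : G → ℂ := (σ (eq.symm ω) : ℂ) • (F (eq.symm ω) : G → ℂ) with hχω
      have hcl : IsClassFunction G χω := isClassFunction_smul _ (isClassFunction_char (isCharacter_of_irr (F (eq.symm ω)).2))
      suffices h0 : ((fun w : ↥(W₁ ⊔ W₂) => χω w) - (fun w => (ω w : ℂ))) w = 0 by
        exact sub_eq_zero.mp h0
      refine eq_zero_of_orthogonal_cycBeta hdisj hcomm hab (fun φ ψ hφ₂ hψ₁ => ?_) h1 h2
      by_cases hφ : φ = 1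
      · rw [show cycBeta φ ψ = 0 by funext z; simp [cycBeta, hφ], classInner_zero_right]
      by_cases hψ : ψ = 1
      · rw [show cycBeta φ ψ = 0 by funext z; simp [cycBeta, hψ], classInner_zero_right]
      rw [classInner_sub_left, ← frobenius_reciprocity' (W₁ ⊔ W₂) (cycBeta φ ψ) hcl, hind φ ψ ⟨hφ, hφ₂⟩ ⟨hψ, hψ₁⟩,
        classInner_add_right, classInner_sub_right, classInner_sub_right, hχω, orth, orth, orth, orth,
        ← classInner_comm (cycBeta φ ψ), classInner_cycBeta_linear]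
      simp only [map_add, map_sub, apply_ite (starRingEnd ℂ), map_one, map_zero, @eq_comm _ _ ω]
      ring
    · show indFun (W₁ ⊔ W₂) (cycBeta φ ψ) = _
      rw [hind φ ψ ⟨hφ, hφ₂⟩ ⟨hψ, hψ₁⟩, hone]
      rfl
  exact key

end Cfsg.Agent.S1502
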