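import Cfsg.Statements.S1511
import Mathlib
import Cfsg.Agent.Lib.CharTheory.CyclicTI3
import Cfsg.Agent.Lib.CharTheory.Induced
import Cfsg.Agent.Lib.CharTheory.Linear
import Cfsg.Agent.S1502
-- import your own Cfsg.Agent.* helpers here

set_option autoImplicit false
open Cfsg

namespace Cfsg.Agent.S1511

open CfsgLib.CharTheory in
theorem zero_of_norm {H : Type*} [Group H] [Fintype H] {D : H → ℂ} (h : Cfsg.classInner D D = 0) : D = 0 := by
  simp only [Cfsg.classInner, mul_eq_zero, inv_eq_zero, Nat.cast_eq_zero, Nat.card_pos.ne', false_or,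
    Complex.mul_conj] at h
  have h' : ∑ x : H, Complex.normSq (D x) = 0 := by exact_mod_cast h
  funext x
  exact Complex.normSq_eq_zero.mp ((Finset.sum_eq_zero_iff_of_nonneg fun y _ => Complex.normSq_nonneg _).mp h' x (Finset.mem_univ _))

/-- Let L be a finite group with K normal with complement W₁ ≠ 1 a cyclic Hall subgroup, and W₂ ≠ 1 a cyclic subgroup of K equal to C_K(x) for every non-identity x ∈ W₁, with W₁W₂ of odd order. Then there are a map μ from the linear characters of W = W₁ ⊔ W₂ to irreducible characters of L, injective, and a sign δ(ω) ∈ {1, −1} depending only on the values of ω on W₂, such that: for ω, ω' agreeing on W₂, the function induced to L from ω − ω' equals δ(ω) • (μ ω − μ ω'); μ ω x = δ(ω) ω x for x ∈ W outside W₂; every irreducible character of L not of the form μ ω vanishes on W outside W₂; and μ ω 1 − δ(ω) is an integer multiple of Nat.card W₁. -/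
theorem result {L : Type*} [Group L] [Fintype L] (K W₁ W₂ : Subgroup L) [hK : K.Normal] (hKW₁ : K ⊓ W₁ = ⊥) (hKW₁' : K ⊔ W₁ = ⊤) (hW₁ : W₁ ≠ ⊥) (hW₁c : IsCyclic W₁) (hHall : Nat.Coprime (Nat.card W₁) W₁.index) (hW₂ : W₂ ≠ ⊥) (hW₂c : IsCyclic W₂) (hW₂K : W₂ ≤ K) (hC : ∀ x ∈ W₁, x ≠ 1 → K ⊓ Subgroup.centralizer ({x} : Set L) = W₂) (hodd : Odd (Nat.card ↥(W₁ ⊔ W₂))) : ∃ (μ : (↥(W₁ ⊔ W₂) →* ℂˣ) → (L → ℂ)) (δ : (↥(W₁ ⊔ W₂) →* ℂˣ) → ℂ), Function.Injective μ ∧ (∀ ω, Cfsg.IsIrrCharacter L (μ ω)) ∧ (∀ ω, δ ω = 1 ∨ δ ω = -1) ∧ (∀ ω ω' : ↥(W₁ ⊔ W₂) →* ℂˣ, (∀ w : ↥(W₁ ⊔ W₂), (w : L) ∈ W₂ → ω w = ω' w) → δ ω = δ ω' ∧ Cfsg.indFun (W₁ ⊔ W₂) (fun w => (ω w : ℂ) - (ω' w : ℂ)) = δ ω • (μ ω - μ ω')) ∧ (∀ ω, ∀ w : ↥(W₁ ⊔ W₂), (w : L) ∉ W₂ → μ ω w = δ ω * (ω w : ℂ)) ∧ (∀ θ : L → ℂ, Cfsg.IsIrrCharacter L θ → (∀ ω, θ ≠ μ ω) → ∀ w : ↥(W₁ ⊔ W₂), (w : L) ∉ W₂ → θ w = 0) ∧ (∀ ω, ∃ n : ℤ, μ ω 1 - δ ω = n * (Nat.card W₁ : ℂ)) := by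
  classical
  open CfsgLib.CharTheory in
  have key : ∃ (μ : (↥(W₁ ⊔ W₂) →* ℂˣ) → (L → ℂ)) (δ : (↥(W₁ ⊔ W₂) →* ℂˣ) → ℂ), Function.Injective μ ∧ (∀ ω, Cfsg.IsIrrCharacter L (μ ω)) ∧ (∀ ω, δ ω = 1 ∨ δ ω = -1) ∧ (∀ ω ω' : ↥(W₁ ⊔ W₂) →* ℂˣ, (∀ w : ↥(W₁ ⊔ W₂), (w : L) ∈ W₂ → ω w = ω' w) → δ ω = δ ω' ∧ Cfsg.indFun (W₁ ⊔ W₂) (fun w => (ω w : ℂ) - (ω' w : ℂ)) = δ ω • (μ ω - μ ω')) ∧ (∀ ω, ∀ w : ↥(W₁ ⊔ W₂), (w : L) ∉ W₂ → μ ω w = δ ω * (ω w : ℂ)) ∧ (∀ θ : L → ℂ, Cfsg.IsIrrCharacter L θ → (∀ ω, θ ≠ μ ω) → ∀ w : ↥(W₁ ⊔ W₂), (w : L) ∉ W₂ → θ w = 0) ∧ (∀ ω, ∃ n : ℤ, μ ω 1 - δ ω = n * (Nat.card W₁ : ℂ)) := by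
    have hdisj : W₁ ⊓ W₂ = ⊥ := le_bot_iff.mp (le_trans (le_inf (inf_le_right.trans hW₂K) inf_le_left) (le_of_eq hKW₁))
    have hcomm : ∀ a ∈ W₁, ∀ b ∈ W₂, a * b = b * a := by
      intro a ha b hb
      by_cases h1 : a = 1
      · simp [h1]
      · rw [← hC a ha h1] at hb
        exact (Subgroup.mem_centralizer_singleton_iff.mp hb.2).symm
    let q : W₁ →* L ⧸ K := (QuotientGroup.mk' K).comp W₁.subtype
    have hq : Function.Bijective q := by
      refine ⟨(injective_iff_map_eq_one q).mpr fun a ha => ?_, fun x => ?_⟩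
      · have h1 : (a : L) ∈ K := (QuotientGroup.eq_one_iff _).mp ha
        have h2 : (a : L) ∈ K ⊓ W₁ := ⟨h1, a.2⟩
        rw [hKW₁, Subgroup.mem_bot] at h2
        exact Subtype.ext h2
      · obtain ⟨g, rfl⟩ := QuotientGroup.mk'_surjective K x
        have hg : g ∈ (↑(K ⊔ W₁) : Set L) := by rw [hKW₁']; exact Subgroup.mem_top g
        rw [Subgroup.normal_mul] at hg
        obtain ⟨k, hk, a, ha, rfl⟩ := hg
        refine ⟨⟨a, ha⟩, ?_⟩
        show QuotientGroup.mk' K a = _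
        rw [map_mul, show QuotientGroup.mk' K k = 1 from (QuotientGroup.eq_one_iff k).mpr hk, one_mul]
    let proj : L →* W₁ := (MulEquiv.ofBijective q hq).symm.toMonoidHom.comp (QuotientGroup.mk' K)
    have proj_q : ∀ g, QuotientGroup.mk' K (proj g : L) = QuotientGroup.mk' K g := fun g =>
      (MulEquiv.ofBijective q hq).apply_symm_apply (QuotientGroup.mk' K g)
    have proj_a : ∀ a : W₁, proj a = a := fun a => hq.1 (proj_q a)
    have proj_k : ∀ k ∈ K, proj k = 1 := fun k hk => hq.1 ((proj_q k).trans ((QuotientGroup.eq_one_iff k).mpr hk) |>.trans (map_one q).symm)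
    have hindex : W₁.index = Nat.card K := by
      have h1 := W₁.card_mul_index
      have h2 : Nat.card L = Nat.card W₁ * Nat.card K := by
        rw [K.card_eq_card_quotient_mul_card_subgroup, ← Nat.card_congr (MulEquiv.ofBijective q hq).toEquiv]
      rw [h2] at h1
      exact Nat.eq_of_mul_eq_mul_left Nat.card_pos h1
    have hcop : Nat.Coprime (Nat.card W₁) (Nat.card W₂) := by
      rw [hindex] at hHall
      exact hHall.coprime_dvd_right (Subgroup.card_dvd_of_le hW₂K)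
    obtain ⟨e, he⟩ := exists_prod_equiv hdisj hcomm
    haveI := hW₁c
    haveI := hW₂c
    haveI hcyc : IsCyclic ↥(W₁ ⊔ W₂) := e.isCyclic.mp (Group.isCyclic_prod_iff.mpr ⟨hW₁c, hW₂c, by
      simpa [Nat.card_eq_fintype_card] using hcop⟩)
    have hab : ∀ u v : ↥(W₁ ⊔ W₂), u * v = v * u := fun u v => by
      letI := IsCyclic.commGroup (α := ↥(W₁ ⊔ W₂))
      exact mul_comm u v
    have hc1 : ∀ x y : W₁, x * y = y * x := fun x y =>
      Subtype.ext (congrArg Subtype.val (hab ⟨x, Subgroup.mem_sup_left x.2⟩ ⟨y, Subgroup.mem_sup_left y.2⟩) :)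
    have hTI : ∀ g : L, g ∉ W₁ ⊔ W₂ → ∀ s ∈ (↑(W₁ ⊔ W₂) : Set L) \ ↑W₂, g * s * g⁻¹ ∈ (↑(W₁ ⊔ W₂) : Set L) → False := by
      intro g hg s hs hgs
      obtain ⟨⟨a, b⟩, hab0⟩ := e.surjective ⟨s, hs.1⟩
      obtain ⟨⟨a', b'⟩, hab1⟩ := e.surjective ⟨g * s * g⁻¹, hgs⟩
      have hs0 : (a : L) * b = s := by rw [← he (a, b), hab0]
      have hs1 : (a' : L) * b' = g * s * g⁻¹ := by rw [← he (a', b'), hab1]
      have pa : proj s = a := by rw [← hs0, map_mul, proj_a, proj_k _ (hW₂K b.2), mul_one]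
      have pa' : proj (g * s * g⁻¹) = a' := by rw [← hs1, map_mul, proj_a, proj_k _ (hW₂K b'.2), mul_one]
      have haa : a' = a := by
        rw [← pa', map_mul, map_mul, map_inv, pa, hc1 (proj g) a, mul_inv_cancel_right]
      have ha1 : (a : L) ≠ 1 := fun h => hs.2 (by rw [← hs0, h, one_mul]; exact b.2)
      obtain ⟨N, hN1, hN2⟩ := Nat.chineseRemainder hcop 1 0
      have hpow : ∀ (x : W₁) (y : W₂), ((x : L) * y) ^ N = x := fun x y => by
        rw [(show Commute (x : L) y from hcomm x x.2 y y.2).mul_pow]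
        have e1 : x ^ N = x ^ 1 := pow_eq_pow_iff_modEq.mpr (hN1.of_dvd (orderOf_dvd_natCard x))
        have e2 : y ^ N = y ^ 0 := pow_eq_pow_iff_modEq.mpr (hN2.of_dvd (orderOf_dvd_natCard y))
        rw [pow_one] at e1
        rw [pow_zero] at e2
        rw [← Subgroup.coe_pow, ← Subgroup.coe_pow, e1, e2, Subgroup.coe_one, mul_one]
      have hga : g * a * g⁻¹ = a := by
        calc g * a * g⁻¹ = g * s ^ N * g⁻¹ := by rw [← hs0, hpow]
          _ = (g * s * g⁻¹) ^ N := conj_pow.symm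
          _ = a := by rw [← hs1, hpow, haa]
      have hk : g * (proj g : L)⁻¹ ∈ K := by
        rw [← QuotientGroup.eq_one_iff]
        show QuotientGroup.mk' K (g * (proj g : L)⁻¹) = 1
        rw [map_mul, map_inv, proj_q, mul_inv_cancel]
      have hcg : g * (proj g : L)⁻¹ ∈ Subgroup.centralizer ({(a : L)} : Set L) := by
        refine (Subgroup.centralizer ({(a : L)} : Set L)).mul_mem (Subgroup.mem_centralizer_singleton_iff.mpr ?_)
          (Subgroup.inv_mem _ (Subgroup.mem_centralizer_singleton_iff.mpr (congrArg Subtype.val (hc1 (proj g) a))))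
        calc g * a = g * a * g⁻¹ * g := by group
          _ = a * g := by rw [hga]
      have h2 : g * (proj g : L)⁻¹ ∈ W₂ := by rw [← hC a a.2 ha1]; exact ⟨hk, hcg⟩
      refine hg ?_
      have := (W₁ ⊔ W₂).mul_mem (Subgroup.mem_sup_right h2) (Subgroup.mem_sup_left (proj g).2)
      rwa [inv_mul_cancel_right] at this
    have hW : Cfsg.IsSelfNormalizingCyclic W₁ W₂ := ⟨hW₁, hW₂, hdisj, hcomm, hcyc, fun X hX hXne => by
      ext g
      constructor
      · intro hg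
        obtain ⟨x, hx⟩ := hXne
        by_contra hgW
        exact hTI g hgW x ⟨(hX hx).1, fun h => (hX hx).2 (Or.inr h)⟩ (hX ((Subgroup.mem_set_normalizer_iff.mp hg x).mp hx)).1
      · intro hg
        rw [Subgroup.mem_set_normalizer_iff]
        intro x
        constructor
        · intro hx
          have := congrArg Subtype.val (hab ⟨g, hg⟩ ⟨x, (hX hx).1⟩)
          simp only [Subgroup.coe_mul] at this
          rwa [this, mul_inv_cancel_right]
        · intro hx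
          have h1 := congrArg Subtype.val (hab ⟨g⁻¹, inv_mem hg⟩ ⟨g * x * g⁻¹, (hX hx).1⟩)
          simp only [Subgroup.coe_mul] at h1
          have h2 : x = g * x * g⁻¹ := by
            calc x = g⁻¹ * (g * x * g⁻¹) * g := by group
              _ = g * x * g⁻¹ := by rw [h1]; group
          rwa [h2]⟩
    obtain ⟨χ, hχ⟩ := Cfsg.Agent.S1502.result W₁ W₂ hW hodd
    haveI := Fintype.ofFinite ↥(W₁ ⊔ W₂)
    haveI := Fintype.ofFinite W₁
    haveI := Fintype.ofFinite W₂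
    let p₁ : ↥(W₁ ⊔ W₂) →* W₁ := (MonoidHom.fst W₁ W₂).comp e.symm.toMonoidHom
    let p₂ : ↥(W₁ ⊔ W₂) →* W₂ := (MonoidHom.snd W₁ W₂).comp e.symm.toMonoidHom
    have hmem2 : ∀ z : ↥(W₁ ⊔ W₂), ∀ h : (z : L) ∈ W₂, e.symm z = (1, ⟨z, h⟩) := fun z h => e.injective (by
      rw [MulEquiv.apply_symm_apply]; exact Subtype.ext (by rw [he]; simp))
    have hmem1 : ∀ z : ↥(W₁ ⊔ W₂), ∀ h : (z : L) ∈ W₁, e.symm z = (⟨z, h⟩, 1) := fun z h => e.injective (by
      rw [MulEquiv.apply_symm_apply]; exact Subtype.ext (by rw [he]; simp))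
    have hS : ∀ g : L, g ∉ W₁ ⊔ W₂ → ∀ s ∈ (↑(W₁ ⊔ W₂) : Set L) \ ↑W₂,
        g * s * g⁻¹ ∈ (↑(W₁ ⊔ W₂) : Set L) \ ↑W₂ → s = 1 := fun g hg s hs h => (hTI g hg s hs h.1).elim
    have hclW : ∀ f : ↥(W₁ ⊔ W₂) → ℂ, Cfsg.IsClassFunction ↥(W₁ ⊔ W₂) f := fun f x y => by
      rw [hab y x, mul_inv_cancel_right]
    have hlinC : ∀ a : ↥(W₁ ⊔ W₂) →* ℂˣ, Cfsg.IsGeneralizedCharacter ↥(W₁ ⊔ W₂) (fun w => (a w : ℂ)) := fun a =>
      isGenChar_of_char (isCharacter_of_irr (isIrrCharacter_linear a))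
    -- characters trivial on W₂ inflate
    have hinfl : ∀ φ : ↥(W₁ ⊔ W₂) →* ℂˣ, φ ≠ 1 → (∀ w : ↥(W₁ ⊔ W₂), (w : L) ∈ W₂ → φ w = 1) →
        indFun (W₁ ⊔ W₂) ((fun w => (φ w : ℂ)) - (fun w => ((1 : ↥(W₁ ⊔ W₂) →* ℂˣ) w : ℂ))) = χ φ - χ 1 := by
      intro φ hφ hφ₂
      let ext : L →* ℂˣ := (φ.comp (Subgroup.inclusion le_sup_left)).comp proj
      have hres : (fun w : ↥(W₁ ⊔ W₂) => (ext w : ℂ)) = fun w => (φ w : ℂ) := by
        have : ext.comp (W₁ ⊔ W₂).subtype = φ := cyc_hom_ext hcomm _ _ fun w hw => by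
          rcases hw with hw | hw
          · show φ (Subgroup.inclusion le_sup_left (proj w)) = φ w
            rw [show proj (w : L) = ⟨w, hw⟩ from proj_a ⟨w, hw⟩]; rfl
          · show φ (Subgroup.inclusion le_sup_left (proj w)) = φ w
            rw [proj_k _ (hW₂K hw), map_one, map_one, hφ₂ w hw]
        exact funext fun w => congrArg Units.val (DFunLike.congr_fun this w)
      let θ : L → ℂ := fun g => (ext g : ℂ)
      have hθ : Cfsg.IsIrrCharacter L θ := isIrrCharacter_linear ext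
      have hθc : Cfsg.IsClassFunction L θ := isClassFunction_char (isCharacter_of_irr hθ)
      have hθ1 : θ ≠ fun _ => 1 := fun h => hφ (MonoidHom.ext fun w => Units.ext (by
        rw [← congrFun hres w]; exact congrFun h w))
      have hrel : ∀ a b : ↥(W₁ ⊔ W₂) →* ℂˣ, a ≠ 1 → b ≠ 1 → (∀ w : ↥(W₁ ⊔ W₂), (w : L) ∈ W₂ → a w = 1) →
          (∀ w : ↥(W₁ ⊔ W₂), (w : L) ∈ W₁ → b w = 1) → classInner θ (χ (a * b)) =
            classInner θ (χ a) + classInner θ (χ b) - (if a = φ then 1 else 0) := by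
        intro a b ha hb ha₂ hb₁
        have h := family_relation hχ hθc a b ha₂ hb₁
        obtain ⟨f1, f2, f3, -, f5, f6⟩ := cyc_prod_facts hcomm ha hb hφ₂ ha₂ hb₁ hb₁
        have h0 : classInner θ (χ 1) = 0 := by rw [hχ.map_one]; exact classInner_irr_ne hθ isIrrCharacter_one hθ1
        rw [show (fun w : ↥(W₁ ⊔ W₂) => θ w) = fun w => (φ w : ℂ) from hres, ← classInner_comm (cycBeta a b),
          classInner_cycBeta_linear, h0, if_neg hφ.symm, if_neg f6, if_neg f2.symm] at h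
        simp only [map_add, map_sub, apply_ite (starRingEnd ℂ), map_one, map_zero] at h
        linear_combination -h
      have hone : ∀ a b, a ≠ b → classInner θ (χ a) ≠ 0 → classInner θ (χ b) = 0 := by
        intro a b hne ha
        rcases hχ.irr_or_neg a with ia | ia
        · have : θ = χ a := by by_contra h; exact ha (classInner_irr_ne hθ ia h)
          rw [this, hχ.orthonormal, if_neg hne]
        · have : θ = -χ a := by
            by_contra h
            refine ha ?_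
            have := classInner_irr_ne hθ ia h
            rwa [classInner_neg_right, neg_eq_zero] at this
          rw [this, classInner_neg_left, hχ.orthonormal, if_neg hne, neg_zero]
      haveI := Fintype.ofFinite (W₂ →* ℂˣ)
      have hc2 : ∀ x y : W₂, x * y = y * x := fun x y =>
        Subtype.ext (congrArg Subtype.val (hab ⟨x, Subgroup.mem_sup_right x.2⟩ ⟨y, Subgroup.mem_sup_right y.2⟩) :)
      have hh2 : Fintype.card (W₂ →* ℂˣ) = Nat.card W₂ := by
        have := sum_hom_abelian hc2 1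
        simp at this; rw [Nat.card_eq_fintype_card]; exact_mod_cast this
      obtain ⟨β, hβ⟩ := Fintype.exists_ne_of_one_lt_card (show 1 < Fintype.card (W₂ →* ℂˣ) by
        rw [hh2]; exact (Subgroup.one_lt_card_iff_ne_bot _).mpr hW₂) 1
      let u : ↥(W₁ ⊔ W₂) →* ℂˣ := β.comp p₂
      have hu₁ : ∀ w : ↥(W₁ ⊔ W₂), (w : L) ∈ W₁ → u w = 1 := fun w hw => by simp [u, p₂, hmem1 w hw]
      have hu : u ≠ 1 := fun h => hβ (MonoidHom.ext fun x => by
        have := DFunLike.congr_fun h ⟨(x : L), Subgroup.mem_sup_right x.2⟩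
        simpa [u, p₂, hmem2 ⟨(x : L), Subgroup.mem_sup_right x.2⟩ x.2] using this)
      have hv₁ : ∀ w : ↥(W₁ ⊔ W₂), (w : L) ∈ W₁ → u⁻¹ w = 1 := fun w hw => by simp [hu₁ w hw]
      have hv : u⁻¹ ≠ 1 := fun h => hu (MonoidHom.ext fun w => inv_eq_one.mp (DFunLike.congr_fun h w))
      have huv : u ≠ u⁻¹ := fun h => hu (MonoidHom.ext fun w => by
        have h2 : u w ^ 2 = 1 := by
          rw [sq]; nth_rewrite 2 [h]
          simp
        have h3 : u w ^ Nat.card ↥(W₁ ⊔ W₂) = 1 := by rw [← map_pow, pow_card_eq_one', map_one]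
        have := pow_gcd_eq_one.mpr ⟨h2, h3⟩
        rw [Nat.coprime_two_left.mpr hodd, pow_one] at this
        exact this)
      have hne : φ * u ≠ φ * u⁻¹ := fun h => huv (mul_left_cancel h)
      have e1 := hrel φ u hφ hu hφ₂ hu₁
      have e2 := hrel φ u⁻¹ hφ hv hφ₂ hv₁
      rw [if_pos rfl] at e1 e2
      have hφ0 : classInner θ (χ φ) ≠ 0 := by
        intro h0
        rw [h0, zero_add] at e1 e2
        by_cases hu0 : classInner θ (χ u) = 0
        · rw [hu0] at e1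
          have := hone _ u⁻¹ (cyc_prod_facts hcomm hφ hu hφ₂ hφ₂ hv₁ hu₁).2.2.1.symm (by rw [e1]; norm_num)
          rw [this] at e2
          have := hone _ _ hne (by rw [e1]; norm_num)
          rw [e2] at this; norm_num at this
        · rw [hone _ _ huv hu0] at e2
          have := hone u (φ * u⁻¹) (cyc_prod_facts hcomm hφ hv hφ₂ hφ₂ hu₁ hv₁).2.2.1 hu0
          rw [e2] at this; norm_num at this
      have hφ1 : classInner θ (χ φ) = 1 := by
        rw [hone φ u (cyc_prod_facts hcomm hφ hu hφ₂ hφ₂ hu₁ hu₁).2.2.2.2.1 hφ0,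
          hone φ (φ * u) (cyc_prod_facts hcomm hφ hu hφ₂ hφ₂ hu₁ hu₁).2.1 hφ0] at e1
        linear_combination -e1
      have hθχ : χ φ = θ := by
        refine (sub_eq_zero.mp (zero_of_norm ?_)).symm
        rw [classInner_sub_left, classInner_sub_right, classInner_sub_right, classInner_irr_self hθ, hφ1,
          ← classInner_comm θ, hφ1, hχ.orthonormal, if_pos rfl, map_one]
        ring
      set f : ↥(W₁ ⊔ W₂) → ℂ := (fun w => (φ w : ℂ)) - (fun w => ((1 : ↥(W₁ ⊔ W₂) →* ℂˣ) w : ℂ)) with hf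
      have hf0 : ∀ x : ↥(W₁ ⊔ W₂), (x : L) ∉ (↑(W₁ ⊔ W₂) : Set L) \ ↑W₂ → f x = 0 := fun x hx => by
        have : (x : L) ∈ W₂ := not_not.mp fun h => hx ⟨x.2, h⟩
        simp [f, hφ₂ x this]
      refine sub_eq_zero.mp (zero_of_norm ?_)
      have hχ1 : χ φ - χ 1 = θ - fun _ => 1 := by rw [hθχ, hχ.map_one]
      have hff : classInner f f = 2 := by
        rw [hf, classInner_sub_left, classInner_sub_right, classInner_sub_right, classInner_linear, classInner_linear,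
          classInner_linear, classInner_linear, if_pos rfl, if_pos rfl, if_neg hφ, if_neg hφ.symm]
        norm_num
      have hrf : (fun w : ↥(W₁ ⊔ W₂) => (χ φ - χ 1) w) = f := by
        funext w
        rw [hχ1]
        show θ w - 1 = _
        rw [show θ w = φ w from congrFun hres w]
        simp [f]
      have hmix : classInner (indFun (W₁ ⊔ W₂) f) (χ φ - χ 1) = 2 := by
        rw [hχ1, frobenius_reciprocity (W₁ ⊔ W₂) f (isClassFunction_sub hθc isClassFunction_one), ← hχ1, hrf, hff]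
      rw [classInner_sub_left, classInner_sub_right (indFun _ f), classInner_sub_right (χ φ - χ 1),
        classInner_indFun_of_TI _ _ hS (hclW f) hf0 hf0 (hf0 1 (by simp)), hff, hmix,
        ← classInner_comm (indFun (W₁ ⊔ W₂) f), hmix, classInner_sub_left, classInner_sub_right, classInner_sub_right,
        hχ.orthonormal, hχ.orthonormal, hχ.orthonormal, hχ.orthonormal, if_pos rfl, if_pos rfl, if_neg hφ, if_neg hφ.symm]
      norm_num [map_ofNat]
    -- differences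
    have hdiff : ∀ φ ψ : ↥(W₁ ⊔ W₂) →* ℂˣ, (∀ w : ↥(W₁ ⊔ W₂), (w : L) ∈ W₂ → φ w = 1) →
        (∀ w : ↥(W₁ ⊔ W₂), (w : L) ∈ W₁ → ψ w = 1) →
        indFun (W₁ ⊔ W₂) ((fun w => ((φ * ψ) w : ℂ)) - (fun w => (ψ w : ℂ))) = χ (φ * ψ) - χ ψ := by
      intro φ ψ hφ₂ hψ₁
      by_cases hφ : φ = 1
      · subst hφ
        rw [show (1 : ↥(W₁ ⊔ W₂) →* ℂˣ) * ψ = ψ from by ext w; simp, sub_self, sub_self, indFun_zero]
      by_cases hψ : ψ = 1
      · subst hψ
        rw [show φ * (1 : ↥(W₁ ⊔ W₂) →* ℂˣ) = φ from by ext w; simp]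
        exact hinfl φ hφ hφ₂
      rw [show ((fun w => ((φ * ψ) w : ℂ)) - (fun w => (ψ w : ℂ))) =
          cycBeta φ ψ + ((fun w => (φ w : ℂ)) - (fun w => ((1 : ↥(W₁ ⊔ W₂) →* ℂˣ) w : ℂ))) by
        funext w; simp [cycBeta]; ring, indFun_add, hinfl φ hφ hφ₂]
      show indFun (W₁ ⊔ W₂) (fun w => 1 - (φ w : ℂ) - (ψ w : ℂ) + (φ w : ℂ) * (ψ w : ℂ)) + _ = _
      rw [hχ.induced_eq φ ψ hφ hψ hφ₂ hψ₁, hχ.map_one]
      funext g; simp only [Pi.add_apply, Pi.sub_apply]; ring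
    have hpair : ∀ a b : ↥(W₁ ⊔ W₂) →* ℂˣ, (∀ w : ↥(W₁ ⊔ W₂), (w : L) ∈ W₂ → a w = b w) →
        indFun (W₁ ⊔ W₂) ((fun w => (a w : ℂ)) - (fun w => (b w : ℂ))) = χ a - χ b := by
      intro a b hab2
      let fst : (↥(W₁ ⊔ W₂) →* ℂˣ) → (↥(W₁ ⊔ W₂) →* ℂˣ) := fun ω => (ω.comp (Subgroup.inclusion le_sup_left)).comp p₁
      let ψ : ↥(W₁ ⊔ W₂) →* ℂˣ := (a.comp (Subgroup.inclusion le_sup_right)).comp p₂
      have hsplit : ∀ ω : ↥(W₁ ⊔ W₂) →* ℂˣ, (∀ w : ↥(W₁ ⊔ W₂), (w : L) ∈ W₂ → a w = ω w) → fst ω * ψ = ω := fun ω hω =>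
        cyc_hom_ext hcomm _ _ fun w hw => by
          rcases hw with hw | hw
          · simp [fst, ψ, p₁, p₂, hmem1 w hw, Subgroup.inclusion]
            exact map_one a
          · simp [fst, ψ, p₁, p₂, hmem2 w hw, Subgroup.inclusion, hω w hw]
            exact map_one ω
      have h2 : ∀ ω, ∀ w : ↥(W₁ ⊔ W₂), (w : L) ∈ W₂ → fst ω w = 1 := fun ω w hw => by simp [fst, p₁, hmem2 w hw]
      have h1 : ∀ w : ↥(W₁ ⊔ W₂), (w : L) ∈ W₁ → ψ w = 1 := fun w hw => by simp [ψ, p₂, hmem1 w hw]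
      have ea := hdiff (fst a) ψ (h2 a) h1
      have eb := hdiff (fst b) ψ (h2 b) h1
      rw [hsplit a (fun _ _ => rfl), indFun_sub] at ea
      rw [hsplit b hab2, indFun_sub] at eb
      rw [indFun_sub]
      calc _ = (indFun (W₁ ⊔ W₂) (fun w => (a w : ℂ)) - indFun (W₁ ⊔ W₂) (fun w => (ψ w : ℂ))) -
          (indFun (W₁ ⊔ W₂) (fun w => (b w : ℂ)) - indFun (W₁ ⊔ W₂) (fun w => (ψ w : ℂ))) := by abel
        _ = _ := by rw [ea, eb]; abel
    -- signs
    have hsign : ∀ ω, ∃ (m : L → ℂ) (s : ℂ), Cfsg.IsIrrCharacter L m ∧ (s = 1 ∨ s = -1) ∧ χ ω = s • m := fun ω => by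
      rcases hχ.irr_or_neg ω with h | h
      · exact ⟨χ ω, 1, h, Or.inl rfl, (one_smul _ _).symm⟩
      · exact ⟨-χ ω, -1, h, Or.inr rfl, by simp⟩
    choose μ δ hμ hδ hμδ using hsign
    have hss : ∀ ω, starRingEnd ℂ (δ ω) = δ ω ∧ δ ω * δ ω = 1 := fun ω => by rcases hδ ω with h | h <;> simp [h]
    have hμχ : ∀ ω, μ ω = δ ω • χ ω := fun ω => by rw [hμδ ω, smul_smul, (hss ω).2, one_smul]
    have hinj : Function.Injective μ := fun a b h => by
      by_contra hne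
      have := hχ.orthonormal a b
      rw [if_neg hne, hμδ a, hμδ b, h, classInner_smul_left, classInner_smul_right, classInner_irr_self (hμ b),
        (hss b).1] at this
      rcases hδ a with e | e <;> rcases hδ b with e' | e' <;> simp [e, e'] at this
    have hδeq : ∀ a b, (∀ w : ↥(W₁ ⊔ W₂), (w : L) ∈ W₂ → a w = b w) → δ a = δ b := fun a b hab2 => by
      have h := congrFun (hpair a b hab2) 1
      rw [indFun_apply_one, Pi.sub_apply, Pi.sub_apply, map_one, map_one, sub_self, mul_zero, hμδ a, hμδ b] at h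
      obtain ⟨m, hm, hm'⟩ := irr_degree_pos (hμ a)
      obtain ⟨n, hn, hn'⟩ := irr_degree_pos (hμ b)
      simp only [Pi.smul_apply, smul_eq_mul, hm', hn'] at h
      rcases hδ a with e | e <;> rcases hδ b with e' | e' <;> rw [e, e'] at h ⊢
      · exfalso
        have h0 : ((m + n : ℕ) : ℂ) = 0 := by push_cast; linear_combination -h
        rw [Nat.cast_eq_zero] at h0; omega
      · exfalso
        have h0 : ((m + n : ℕ) : ℂ) = 0 := by push_cast; linear_combination h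
        rw [Nat.cast_eq_zero] at h0; omega
    -- vanishing
    have hvan : ∀ f : ↥(W₁ ⊔ W₂) → ℂ, (∀ a b : ↥(W₁ ⊔ W₂) →* ℂˣ, (∀ w : ↥(W₁ ⊔ W₂), (w : L) ∈ W₂ → a w = b w) →
        classInner f (fun w => (a w : ℂ)) = classInner f (fun w => (b w : ℂ))) →
        ∀ w : ↥(W₁ ⊔ W₂), (w : L) ∉ W₂ → f w = 0 := by
      intro f hf w hw
      haveI := Fintype.ofFinite (W₁ →* ℂˣ)
      have hp : p₁ w ≠ 1 := fun h => hw (by
        obtain ⟨⟨x, y⟩, rfl⟩ := e.surjective w
        simp only [p₁, MonoidHom.comp_apply, MulEquiv.coe_toMonoidHom, MulEquiv.symm_apply_apply, MonoidHom.coe_fst] at h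
        rw [he, show x = 1 from h, Subgroup.coe_one, one_mul]; exact y.2)
      obtain ⟨α, hα⟩ : ∃ α : W₁ →* ℂˣ, α (p₁ w) ≠ 1 := by
        by_contra hall
        push_neg at hall
        have h1 := sum_hom_abelian hc1 (p₁ w)
        rw [if_neg hp] at h1
        simp [hall] at h1
      let φ : ↥(W₁ ⊔ W₂) →* ℂˣ := α.comp p₁
      have heq : (f * fun z => (φ z : ℂ)) = f := by
        refine classFun_ext (hclW _) (hclW _) fun ψ hψ => ?_
        obtain ⟨a, rfl⟩ : ∃ a : ↥(W₁ ⊔ W₂) →* ℂˣ, ψ = fun z => (a z : ℂ) := by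
          obtain ⟨a, ha⟩ := exists_hom_of_degree_one (isCharacter_of_irr hψ) (degree_one_of_commutative hab hψ)
          exact ⟨a, ha⟩
        have h1 : classInner (f * fun z => (φ z : ℂ)) (fun z => (a z : ℂ)) = classInner f (fun z => ((a * φ⁻¹) z : ℂ)) := by
          simp only [classInner, Pi.mul_apply]
          congr 1
          refine Finset.sum_congr rfl fun z _ => ?_
          rw [MonoidHom.mul_apply, MonoidHom.inv_apply, ← map_inv, Units.val_mul, map_mul, conj_hom_apply φ z⁻¹, inv_inv]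
          ring
        rw [h1]
        exact hf _ _ fun z hz => by simp [φ, p₁, hmem2 z hz]
      have h2 := congrFun heq w
      simp only [Pi.mul_apply] at h2
      by_contra hne
      refine hα (Units.ext ?_)
      exact mul_left_cancel₀ hne (h2.trans (mul_one _).symm)
    have hfr : ∀ (θ : L → ℂ), Cfsg.IsClassFunction L θ → ∀ a b : ↥(W₁ ⊔ W₂) →* ℂˣ,
        (∀ w : ↥(W₁ ⊔ W₂), (w : L) ∈ W₂ → a w = b w) →
        classInner (fun w : ↥(W₁ ⊔ W₂) => θ w) (fun w => (a w : ℂ)) - classInner (fun w : ↥(W₁ ⊔ W₂) => θ w) (fun w => (b w : ℂ)) =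
          classInner θ (χ a) - classInner θ (χ b) := fun θ hθ a b hab2 => by
      rw [← classInner_sub_right, ← frobenius_reciprocity' (W₁ ⊔ W₂) _ hθ, hpair a b hab2, classInner_sub_right]
    have hclχ : ∀ ω, Cfsg.IsClassFunction L (χ ω) := fun ω => by
      rw [hμδ ω]; exact isClassFunction_smul _ (isClassFunction_char (isCharacter_of_irr (hμ ω)))
    have hval : ∀ ω, ∀ w : ↥(W₁ ⊔ W₂), (w : L) ∉ W₂ → χ ω w = (ω w : ℂ) := fun ω w hw => by
      refine sub_eq_zero.mp (hvan ((fun z : ↥(W₁ ⊔ W₂) => χ ω z) - fun z => (ω z : ℂ)) (fun a b hab2 => ?_) w hw)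
      have h := hfr (χ ω) (hclχ ω) a b hab2
      rw [hχ.orthonormal, hχ.orthonormal] at h
      rw [classInner_sub_left, classInner_sub_left, classInner_linear, classInner_linear]
      by_cases h1 : ω = a <;> by_cases h2 : ω = b <;> simp [h1, h2] at h ⊢ <;> linear_combination h
    refine ⟨μ, δ, hinj, hμ, hδ, fun a b hab2 => ⟨hδeq a b hab2, ?_⟩, fun ω w hw => ?_, fun θ hθ hne => ?_, fun ω => ?_⟩
    · rw [show (fun w => (a w : ℂ) - (b w : ℂ)) = (fun w => (a w : ℂ)) - (fun w => (b w : ℂ)) from rfl, hpair a b hab2,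
        hμδ a, hμδ b, hδeq a b hab2, smul_sub]
    · rw [hμχ ω, Pi.smul_apply, smul_eq_mul, hval ω w hw]
    · intro w hw
      refine hvan (fun z : ↥(W₁ ⊔ W₂) => θ z) (fun a b hab2 => sub_eq_zero.mp ?_) w hw
      rw [hfr θ (isClassFunction_char (isCharacter_of_irr hθ)) a b hab2, hμδ a, hμδ b, classInner_smul_right,
        classInner_smul_right, classInner_irr_ne hθ (hμ a) (hne a), classInner_irr_ne hθ (hμ b) (hne b)]
      ring
    · -- congruence
      have hmchar := isCharacter_restrict (isCharacter_of_irr (hμ ω)) W₁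
      let ω₁ : W₁ →* ℂˣ := ω.comp (Subgroup.inclusion le_sup_left)
      obtain ⟨n, hn⟩ := classInner_char_nat hmchar (isCharacter_of_irr (isIrrCharacter_linear ω₁))
      have hid : ∀ x : W₁, μ ω x * starRingEnd ℂ ((ω₁ x : ℂˣ) : ℂ) = δ ω + if x = 1 then μ ω 1 - δ ω else 0 := fun x => by
        by_cases hx : x = 1
        · subst hx; simp [ω₁]
        · have hx2 : (x : L) ∉ W₂ := fun h => hx (Subtype.ext (by
            have h' : (x : L) ∈ W₁ ⊓ W₂ := ⟨x.2, h⟩
            rwa [hdisj, Subgroup.mem_bot] at h'))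
          have e1 := hμχ ω
          have e2 : μ ω x = δ ω * (ω₁ x : ℂ) := by
            rw [e1, Pi.smul_apply, smul_eq_mul]
            exact congrArg (δ ω * ·) (hval ω ⟨(x : L), Subgroup.mem_sup_left x.2⟩ hx2)
          rw [if_neg hx, add_zero, e2, conj_hom_apply, mul_assoc, ← Units.val_mul, ← map_mul, mul_inv_cancel, map_one,
            Units.val_one, mul_one]
      simp only [classInner, hid, Finset.sum_add_distrib, Finset.sum_const, Finset.sum_ite_eq', Finset.mem_univ, if_true,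
        Finset.card_univ, nsmul_eq_mul] at hn
      rw [← Nat.card_eq_fintype_card] at hn
      have hc0 : (Nat.card W₁ : ℂ) ≠ 0 := Nat.cast_ne_zero.mpr Nat.card_pos.ne'
      field_simp at hn
      rcases hδ ω with e | e
      · exact ⟨(n : ℤ) - 1, by rw [e] at hn ⊢; push_cast; linear_combination hn⟩
      · exact ⟨(n : ℤ) + 1, by rw [e] at hn ⊢; push_cast; linear_combination hn⟩
  exact key

end Cfsg.Agent.S1511
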