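import Cfsg.Statements.S1491
import Mathlib
import Cfsg.Agent.Lib.CharTheory.AbelianInertia
import Cfsg.Agent.Lib.CharTheory.Degree
import Cfsg.Agent.S0867
-- import your own Cfsg.Agent.* helpers here

set_option autoImplicit false
open Cfsg

namespace Cfsg.Agent.S1491

/-- Let H be a normal subgroup of the finite group G and θ an irreducible character of H with inertia group T, where T/H is abelian (commutators of T lie in H) and the index of H in T is coprime to the order of H. Then the function induced from θ is the sum of a set of exactly [T:H] irreducible characters of G, each of degree [G:T] * θ(1). -/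
theorem result {G : Type*} [Group G] [Fintype G] (H T : Subgroup G) [hN : H.Normal] (θ : H → ℂ) (hθ : Cfsg.IsIrrCharacter H θ) (hT : ∀ g : G, g ∈ T ↔ ∀ h : H, θ ⟨g * h * g⁻¹, hN.conj_mem h h.2 g⟩ = θ h) (hab : ∀ x ∈ T, ∀ y ∈ T, x * y * x⁻¹ * y⁻¹ ∈ H) (hcop : Nat.Coprime (Nat.card H) (H.relIndex T)) : ∃ C : Finset (G → ℂ), (∀ χ ∈ C, Cfsg.IsIrrCharacter G χ) ∧ C.card = H.relIndex T ∧ Cfsg.indFun H θ = ∑ χ ∈ C, χ ∧ ∀ χ ∈ C, χ 1 = (T.index : ℂ) * θ 1 := by
  classical
  haveI := Fintype.ofFinite H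
  haveI := Fintype.ofFinite T
  open CfsgLib.CharTheory in
  have hT' : T = inertia H θ := Subgroup.ext fun g => (hT g).trans ⟨fun h => funext h, fun h => congrFun h⟩
  obtain ⟨e, C, he, hC, hcard, hsum, hdeg, hext⟩ := CfsgLib.CharTheory.exists_constituents_inertia H T hθ hT' hab
  have hHT : H ≤ T := hT' ▸ CfsgLib.CharTheory.le_inertia H (CfsgLib.CharTheory.isClassFunction_irr hθ)
  open CfsgLib.CharTheory in
  have he1 : e = 1 := by
    set θ' : H.subgroupOf T → ℂ := fun x => θ ⟨(x : T), Subgroup.mem_subgroupOf.mp x.2⟩ with hθ'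
    have hθi := isIrr_subgroupOf H hHT hθ
    obtain ⟨m, ρ, hρ, hρe⟩ := id hθi
    replace hρe : ρ.character = θ' := hρe
    haveI := hρ
    have hd : m ∣ Nat.card (H.subgroupOf T) := by
      have := degree_dvd_index_of_scalar ρ ⊥ (fun z hz => ⟨1, by rw [Subgroup.mem_bot.mp hz, map_one, one_smul]; rfl⟩)
      rwa [Subgroup.index_bot, Module.finrank_fin_fun] at this
    have ho : orderOf (detHom ρ) ∣ Nat.card (H.subgroupOf T) := orderOf_dvd_of_pow_eq_one (MonoidHom.ext fun g => by
      rw [MonoidHom.pow_apply, ← map_pow, pow_card_eq_one', map_one, MonoidHom.one_apply])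
    have hc : ((H.subgroupOf T).index).Coprime (Nat.card (H.subgroupOf T)) := by
      rw [Nat.card_congr (Subgroup.subgroupOfEquivOfLe hHT).toEquiv]; exact hcop.symm
    obtain ⟨χ, ⟨hχ, hχN, -⟩, -⟩ := Cfsg.Agent.S0867.result (H.subgroupOf T) θ' hθi
      (fun t x => congrFun ((mem_inertia H).mp (hT'.le t.2)) ⟨(x : T), Subgroup.mem_subgroupOf.mp x.2⟩)
      m (by rw [← hρe, ρ.char_one, Module.finrank_fin_fun]) (by
        rw [← hρe, detOrder_eq]; exact Nat.Coprime.mul_right (hc.coprime_dvd_right ho) (hc.coprime_dvd_right hd))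
    exact hext ⟨χ, hHT, hχ, fun n => hχN ⟨⟨n, hHT n.2⟩, Subgroup.mem_subgroupOf.mpr n.2⟩⟩
  subst he1
  refine ⟨C, hC, by simpa using hcard, by simpa using hsum, fun χ hχ => ?_⟩
  simpa using hdeg χ hχ

end Cfsg.Agent.S1491
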