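import Cfsg.Statements.S1513
import Mathlib
import Cfsg.Agent.Lib.CharTheory.OddBasics
import Cfsg.Agent.S1491
-- import your own Cfsg.Agent.* helpers here

set_option autoImplicit false
open Cfsg
open scoped Pointwise

namespace Cfsg.Agent.S1513

/-- Let L be a finite group with K normal with complement W₁ ≠ 1 a cyclic Hall subgroup, and W₂ ≠ 1 a cyclic subgroup of K equal to C_K(x) for every non-identity x ∈ W₁, with W₁W₂ of odd order. For an irreducible character θ of K: if θ is not fixed under conjugation by some element of W₁, then the function induced from θ to L is an irreducible character of L; and the irreducible characters of K fixed by all of W₁ are exactly Nat.card W₂ in number, each inducing to the sum of Nat.card W₁ pairwise distinct irreducible characters of L. -/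
theorem result {L : Type*} [Group L] [Fintype L] (K W₁ W₂ : Subgroup L) [hK : K.Normal] (hKW₁ : K ⊓ W₁ = ⊥) (hKW₁' : K ⊔ W₁ = ⊤) (hW₁ : W₁ ≠ ⊥) (hW₁c : IsCyclic W₁) (hHall : Nat.Coprime (Nat.card W₁) W₁.index) (hW₂ : W₂ ≠ ⊥) (hW₂c : IsCyclic W₂) (hW₂K : W₂ ≤ K) (hC : ∀ x ∈ W₁, x ≠ 1 → K ⊓ Subgroup.centralizer ({x} : Set L) = W₂) (hodd : Odd (Nat.card ↥(W₁ ⊔ W₂))) : (∀ θ : K → ℂ, Cfsg.IsIrrCharacter K θ → (∃ x ∈ W₁, (fun k : K => θ ⟨x * k * x⁻¹, hK.conj_mem (k : L) k.2 x⟩) ≠ θ) → Cfsg.IsIrrCharacter L (Cfsg.indFun K θ)) ∧ Nat.card {θ : Cfsg.IrrCharacter K // ∀ x ∈ W₁, (fun k : K => (θ : K → ℂ) ⟨x * k * x⁻¹, hK.conj_mem (k : L) k.2 x⟩) = θ} = Nat.card W₂ ∧ (∀ θ : K → ℂ, Cfsg.IsIrrCharacter K θ → (∀ x ∈ W₁, (fun k : K => θ ⟨x * k * x⁻¹, hK.conj_mem (k : L) k.2 x⟩) = θ) → ∃ C : Finset (L → ℂ), C.card = Nat.card W₁ ∧ (∀ μ ∈ C, Cfsg.IsIrrCharacter L μ) ∧ Cfsg.indFun K θ = ∑ μ ∈ C, μ) := by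
  classical
  have hW₂comm : ∀ a ∈ W₂, ∀ b ∈ W₂, a * b = b * a := fun a ha b hb => by
    letI := hW₂c
    letI := IsCyclic.commGroup (α := W₂)
    exact congrArg Subtype.val (mul_comm (⟨a, ha⟩ : W₂) ⟨b, hb⟩)
  have hW₁comm : ∀ a ∈ W₁, ∀ b ∈ W₁, a * b = b * a := fun a ha b hb => by
    letI := hW₁c
    letI := IsCyclic.commGroup (α := W₁)
    exact congrArg Subtype.val (mul_comm (⟨a, ha⟩ : W₁) ⟨b, hb⟩)
  have hcompl : Subgroup.IsComplement' K W₁ := Subgroup.isComplement'_of_disjoint_and_mul_eq_univ (disjoint_iff.mpr hKW₁) (by rw [← Subgroup.normal_mul, hKW₁']; rfl)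
  have hcard : Nat.card K = W₁.index := hcompl.index_eq_card.symm
  have hcop : ∀ x ∈ W₁, (orderOf x).Coprime (Nat.card K) := fun x hx => hcard ▸ hHall.coprime_dvd_left (W₁.orderOf_dvd_natCard hx)
  let fix : L → Type _ := fun x => {θ : Cfsg.IrrCharacter K // (fun k : K => (θ : K → ℂ) ⟨x * k * x⁻¹, hK.conj_mem (k : L) k.2 x⟩) = θ}
  have hfixcard : ∀ x ∈ W₁, x ≠ 1 → Nat.card (fix x) = Nat.card W₂ := by
    intro x hx hx1
    have hfix := hC x hx hx1
    let σ : K ≃* K := MulAut.conjNormal x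
    let π : ConjClasses K → ConjClasses K := ConjClasses.map σ.toMonoidHom
    let τ : IrrCharacter K → IrrCharacter K := fun χ => ⟨fun k => (χ : K → ℂ) (σ k),
      CfsgLib.CharTheory.isIrrCharacter_comp_surjective χ.2 σ.toMonoidHom σ.surjective⟩
    have hcount := CfsgLib.CharTheory.card_fixed_irr_eq_card_fixed_classes π τ (fun χ g g' hg => by
      have h1 : IsConj g' (σ g) := ConjClasses.mk_eq_mk_iff_isConj.mp hg
      exact CfsgLib.CharTheory.isClassFunction_iff_isConj.mp (CfsgLib.CharTheory.isClassFunction_irr χ.2) _ _ h1.symm)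
    have he : Nat.card (fix x) = Nat.card {χ : IrrCharacter K // τ χ = χ} := Nat.card_congr (Equiv.subtypeEquivRight fun χ => ⟨fun h => Subtype.ext h, fun h => congrArg Subtype.val h⟩)
    rw [he, hcount]
    have hxw : ∀ w : W₂, x * (w : L) = w * x := fun w => Subgroup.mem_centralizer_iff.mp ((hfix.ge) w.2).2 x rfl
    symm
    refine Nat.card_eq_of_bijective (fun w : W₂ => (⟨ConjClasses.mk ⟨(w : L), hW₂K w.2⟩, congrArg ConjClasses.mk (Subtype.ext (show x * (w : L) * x⁻¹ = w by rw [hxw]; group))⟩ : {C : ConjClasses K // π C = C})) ⟨fun w w' e => ?_, ?_⟩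
    · obtain ⟨k, hk⟩ := isConj_iff.mp (ConjClasses.mk_eq_mk_iff_isConj.mp (congrArg Subtype.val e))
      have hk' : (k : L) * w * (k : L)⁻¹ = w' := congrArg Subtype.val hk
      set Cw := K ⊓ Subgroup.centralizer ({(w : L)} : Set L) with hCw
      have hxN : x ∈ Subgroup.normalizer (Cw : Set L) := Subgroup.mem_normalizer_iff.mpr fun u => by
        simp only [hCw, Subgroup.mem_inf, Subgroup.mem_centralizer_iff, Set.mem_singleton_iff, forall_eq]
        constructor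
        · rintro ⟨hu, hu'⟩
          refine ⟨hK.conj_mem u hu x, ?_⟩
          calc (w : L) * (x * u * x⁻¹) = (w : L) * x * u * x⁻¹ := by group
            _ = x * ((w : L) * u) * x⁻¹ := by rw [← hxw]; group
            _ = x * (u * w) * x⁻¹ := by rw [hu']
            _ = x * u * x⁻¹ * (x * w * x⁻¹) := by group
            _ = x * u * x⁻¹ * w := by rw [hxw]; group
        · rintro ⟨hu, hu'⟩
          refine ⟨by simpa [mul_assoc] using hK.conj_mem _ hu x⁻¹, mul_left_cancel (a := x) ?_⟩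
          calc x * ((w : L) * u) = (w : L) * x * u := by rw [← mul_assoc, hxw]
            _ = (w : L) * (x * u * x⁻¹) * x := by group
            _ = x * u * x⁻¹ * w * x := by rw [hu']
            _ = x * u * x⁻¹ * (x * w) := by rw [hxw]; group
            _ = x * (u * w) := by group
      set c := (k : L)⁻¹ * (x * k * x⁻¹) with hc
      have hcC : c ∈ Cw := by
        refine ⟨K.mul_mem (K.inv_mem k.2) (hK.conj_mem _ k.2 x), Subgroup.mem_centralizer_iff.mpr fun y hy => ?_⟩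
        rw [Set.mem_singleton_iff.mp hy, hc]
        calc (w : L) * ((k : L)⁻¹ * (x * k * x⁻¹)) = (k : L)⁻¹ * ((k : L) * w * (k : L)⁻¹) * x * k * x⁻¹ := by group
          _ = (k : L)⁻¹ * ((w' : L) * x) * k * x⁻¹ := by rw [hk']; group
          _ = (k : L)⁻¹ * (x * ((k : L) * w * (k : L)⁻¹)) * k * x⁻¹ := by rw [← hxw, hk']
          _ = (k : L)⁻¹ * (x * k * x⁻¹) * (x * w * x⁻¹) := by group
          _ = _ := by rw [hxw]; group
      obtain ⟨u, hu, c', hc', hcx, heq⟩ := CfsgLib.CharTheory.conj_coset_coprime Cw hxN ((hcop x hx).coprime_dvd_right (Subgroup.card_dvd_of_le inf_le_left)) hcC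
      have hcx' : c * x = (k : L)⁻¹ * x * k := by rw [hc]; group
      have hc1 : c' = 1 := by
        have h1 := congrArg (· ^ orderOf x) heq
        simp only [conj_pow, hcx', (show Commute c' x from hcx).mul_pow, pow_orderOf_eq_one, mul_one] at h1
        rw [show ((k : L)⁻¹ * x * k) ^ orderOf x = 1 by rw [← inv_inv (k : L), inv_inv (k : L)⁻¹, conj_pow, pow_orderOf_eq_one]; group] at h1
        have h2 : orderOf c' ∣ orderOf x := orderOf_dvd_of_pow_eq_one (by rw [← h1]; group)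
        exact orderOf_eq_one_iff.mp (Nat.eq_one_of_dvd_coprimes (hcop x hx) h2 (K.orderOf_dvd_natCard hc'.1))
      rw [hc1, one_mul, hcx'] at heq
      have hku : (k : L) * u⁻¹ ∈ W₂ := hfix.le ⟨K.mul_mem k.2 (K.inv_mem hu.1), Subgroup.mem_centralizer_iff.mpr fun y hy => by
        rw [Set.mem_singleton_iff.mp hy]
        calc x * ((k : L) * u⁻¹) = (k : L) * u⁻¹ * (u * ((k : L)⁻¹ * x * k) * u⁻¹) := by group
          _ = (k : L) * u⁻¹ * x := by rw [heq]⟩
      have huw : (w : L) * u = u * w := Subgroup.mem_centralizer_iff.mp hu.2 (w : L) rfl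
      refine Subtype.ext ?_
      rw [← hk']
      calc (w : L) = (k : L) * u⁻¹ * w * ((k : L) * u⁻¹)⁻¹ := by rw [hW₂comm _ hku _ w.2]; group
        _ = (k : L) * u⁻¹ * ((w : L) * u) * (k : L)⁻¹ := by group
        _ = (k : L) * w * (k : L)⁻¹ := by rw [huw]; group
    · rintro ⟨C, hCx⟩
      obtain ⟨a, rfl⟩ := ConjClasses.mk_surjective C
      have ha : IsConj a ⟨x * a * x⁻¹, hK.conj_mem a a.2 x⟩ := ConjClasses.mk_eq_mk_iff_isConj.mp hCx.symm
      obtain ⟨b, hb, hbx⟩ := CfsgLib.CharTheory.exists_fixed_in_class K (hcop x hx) a ha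
      refine ⟨⟨b, hfix.le ⟨b.2, Subgroup.mem_centralizer_iff.mpr fun w hw => by rw [Set.mem_singleton_iff.mp hw]; exact hbx⟩⟩, Subtype.ext ?_⟩
      exact (ConjClasses.mk_eq_mk_iff_isConj.mpr hb).symm
  let all : Type _ := {θ : Cfsg.IrrCharacter K // ∀ x ∈ W₁, (fun k : K => (θ : K → ℂ) ⟨x * k * x⁻¹, hK.conj_mem (k : L) k.2 x⟩) = θ}
  obtain ⟨g₀, hg₀⟩ := hW₁c.exists_generator
  have hg1 : (g₀ : L) ≠ 1 := fun e => hW₁ ((Subgroup.eq_bot_iff_forall _).mpr fun y hy => by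
    obtain ⟨m, hm⟩ := Subgroup.mem_zpowers_iff.mp (hg₀ ⟨y, hy⟩)
    rw [show y = ((g₀ : L)) ^ m by rw [← Subgroup.coe_zpow, hm], e, one_zpow])
  have hgen : ∀ θ : Cfsg.IrrCharacter K, (fun k : K => (θ : K → ℂ) ⟨g₀ * k * (g₀ : L)⁻¹, hK.conj_mem (k : L) k.2 g₀⟩) = θ →
      ∀ x ∈ W₁, (fun k : K => (θ : K → ℂ) ⟨x * k * x⁻¹, hK.conj_mem (k : L) k.2 x⟩) = θ := by
    intro θ h x hx
    have hmem : (g₀ : L) ∈ CfsgLib.CharTheory.inertia K (θ : K → ℂ) := h
    obtain ⟨m, hm⟩ := Subgroup.mem_zpowers_iff.mp (hg₀ ⟨x, hx⟩)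
    have hxI : x ∈ CfsgLib.CharTheory.inertia K (θ : K → ℂ) := by
      rw [show x = ((g₀ : L)) ^ m by rw [← Subgroup.coe_zpow, hm]]
      exact Subgroup.zpow_mem _ hmem m
    exact hxI
  have hall : Nat.card all = Nat.card W₂ := by
    rw [← hfixcard g₀ g₀.2 hg1]
    exact Nat.card_congr (Equiv.subtypeEquivRight fun θ => ⟨fun h => h g₀ g₀.2, hgen θ⟩)
  have hkey : ∀ x ∈ W₁, x ≠ 1 → ∀ θ : Cfsg.IrrCharacter K, (fun k : K => (θ : K → ℂ) ⟨x * k * x⁻¹, hK.conj_mem (k : L) k.2 x⟩) = θ →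
      ∀ y ∈ W₁, (fun k : K => (θ : K → ℂ) ⟨y * k * y⁻¹, hK.conj_mem (k : L) k.2 y⟩) = θ := by
    intro x hx hx1 θ h
    let ι : all → fix x := fun t => ⟨t.1, t.2 x hx⟩
    have hι : Function.Injective ι := fun a b e => Subtype.ext (congrArg (fun t : fix x => t.1) e)
    haveI : Finite (fix x) := Subtype.finite
    obtain ⟨t, ht⟩ := (hι.bijective_of_nat_card_le (by rw [hall, hfixcard x hx hx1])).2 ⟨θ, h⟩
    have : t.1 = θ := congrArg (fun t : fix x => t.1) ht
    exact this ▸ t.2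
  haveI := Fintype.ofFinite K
  refine ⟨fun θ hθ hmove => ?_, hall, fun θ hθ hinv => ?_⟩
  · obtain ⟨x₀, hx₀, hne⟩ := hmove
    refine CfsgLib.CharTheory.isIrrCharacter_indFun_of_inertia_eq K hθ (le_antisymm (fun g hg => ?_) (CfsgLib.CharTheory.le_inertia K (CfsgLib.CharTheory.isClassFunction_irr hθ)))
    have hgm : g ∈ (K : Set L) * (W₁ : Set L) := by rw [← Subgroup.normal_mul, hKW₁']; trivial
    obtain ⟨c, hc, w, hw, rfl⟩ := hgm
    have hwI : w ∈ CfsgLib.CharTheory.inertia K θ :=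
      (Subgroup.mul_mem_cancel_left _ (CfsgLib.CharTheory.le_inertia K (CfsgLib.CharTheory.isClassFunction_irr hθ) hc)).mp hg
    by_cases hw1 : w = 1
    · show c * w ∈ K
      rw [hw1, mul_one]; exact hc
    · exact absurd (hkey w hw hw1 ⟨θ, hθ⟩ hwI x₀ hx₀) hne
  · have hidx : W₁.index = Nat.card K := hcard.symm
    have hKi : K.index = Nat.card W₁ := hcompl.symm.index_eq_card
    have hinvT : ∀ g : L, g ∈ (⊤ : Subgroup L) ↔ ∀ h : K, θ ⟨g * h * g⁻¹, hK.conj_mem h h.2 g⟩ = θ h := fun g => ⟨fun _ => by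
      have hgm : g ∈ (K : Set L) * (W₁ : Set L) := by rw [← Subgroup.normal_mul, hKW₁']; trivial
      obtain ⟨c, hc, w, hw, rfl⟩ := hgm
      have hwI : w ∈ CfsgLib.CharTheory.inertia K θ := hinv w hw
      exact congrFun (Subgroup.mul_mem _ (CfsgLib.CharTheory.le_inertia K (CfsgLib.CharTheory.isClassFunction_irr hθ) hc) hwI : c * w ∈ CfsgLib.CharTheory.inertia K θ)
      , fun _ => trivial⟩
    have habT : ∀ x ∈ (⊤ : Subgroup L), ∀ y ∈ (⊤ : Subgroup L), x * y * x⁻¹ * y⁻¹ ∈ K := fun x _ y _ => by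
      have dec : ∀ g : L, ∃ w ∈ W₁, g * w⁻¹ ∈ K := fun g => by
        have hgm : g ∈ (K : Set L) * (W₁ : Set L) := by rw [← Subgroup.normal_mul, hKW₁']; trivial
        obtain ⟨c, hc, w, hw, rfl⟩ := hgm
        exact ⟨w, hw, by simpa using hc⟩
      obtain ⟨v, hv, hvx⟩ := dec x
      obtain ⟨w, hw, hwy⟩ := dec y
      rw [← QuotientGroup.eq_one_iff]
      have ex : (x : L ⧸ K) = v := by rw [eq_comm, QuotientGroup.eq]; simpa [mul_assoc] using hK.conj_mem' _ hvx v
      have ey : (y : L ⧸ K) = w := by rw [eq_comm, QuotientGroup.eq]; simpa [mul_assoc] using hK.conj_mem' _ hwy w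
      simp only [QuotientGroup.mk_mul, QuotientGroup.mk_inv, ex, ey]
      rw [← QuotientGroup.mk_mul, hW₁comm v hv w hw, QuotientGroup.mk_mul]
      group
    obtain ⟨C, hirr, hcard', hsum, -⟩ := Cfsg.Agent.S1491.result K ⊤ θ hθ hinvT habT (by rw [Subgroup.relIndex_top_right, hKi, hcard]; exact hHall.symm)
    exact ⟨C, by rw [hcard', Subgroup.relIndex_top_right, hKi], hirr, hsum⟩

end Cfsg.Agent.S1513
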