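import Cfsg.Statements.S1508
import Mathlib
import Cfsg.Agent.S1503
import Cfsg.Agent.Lib.CharTheory.PowerMap
import Cfsg.Agent.Lib.CharTheory.CyclicTI
import Cfsg.Agent.Lib.CharTheory.Integral
-- import your own Cfsg.Agent.* helpers here

set_option autoImplicit false
open Cfsg

namespace Cfsg.Agent.S1508

/-- Let W₁, W₂ ≤ G form a self-normalising cyclic subgroup W = W₁ ⊔ W₂ of odd order and χ an orthonormal family of irreducible characters of G up to sign, indexed by the linear characters ω of W, with χ_1 = 1, χ_ω = ω on W outside W₁ ∪ W₂, and the induction identity for (1 − φ)(1 − ψ). Let ω be a linear character of W and g an element of G whose order is coprime to the order of ω. Then χ ω g is an integer. -/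
theorem result {G : Type*} [Group G] [Fintype G] (W₁ W₂ : Subgroup G) (hW : Cfsg.IsSelfNormalizingCyclic W₁ W₂) (hodd : Odd (Nat.card ↥(W₁ ⊔ W₂))) (χ : (↥(W₁ ⊔ W₂) →* ℂˣ) → (G → ℂ)) (hχ : Cfsg.IsCyclicTIFamily W₁ W₂ χ) (ω : ↥(W₁ ⊔ W₂) →* ℂˣ) (g : G) (hg : Nat.Coprime (orderOf g) (orderOf ω)) : ∃ n : ℤ, χ ω g = n := by
  classical
  obtain ⟨hW1, hW2, hdisj, hcomm, hcyc, hnorm⟩ := hW
  letI : Fintype ↥(W₁ ⊔ W₂) := Fintype.ofFinite ↥(W₁ ⊔ W₂)
  -- rationality
  have hd : orderOf ω ∣ Nat.card G := by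
    refine dvd_trans (orderOf_dvd_of_pow_eq_one ?_) (Subgroup.card_subgroup_dvd_card (W₁ ⊔ W₂))
    ext x
    rw [MonoidHom.pow_apply, ← map_pow, pow_card_eq_one', map_one]
    rfl
  -- Galois twists stay in the family
  have key : ∀ m : ℕ, m.Coprime (Nat.card G) → ω ^ m = ω → χ ω (g ^ m) = χ ω g := by
    intro m hm hωm
    set θ : G → ℂ := fun x => χ ω (x ^ m) with hθ
    have hθirr : IsIrrCharacter G θ ∨ IsIrrCharacter G (-θ) := by
      rcases hχ.irr_or_neg ω with h | h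
      · exact Or.inl (CfsgLib.CharTheory.isIrrCharacter_pow h hm)
      · exact Or.inr (by
          have := CfsgLib.CharTheory.isIrrCharacter_pow h hm
          exact this)
    have hV : ∀ w : ↥(W₁ ⊔ W₂), (w : G) ∉ W₁ → (w : G) ∉ W₂ → θ w = (ω w : ℂ) := by
      intro w h1 h2
      have e1 : ((w ^ m : ↥(W₁ ⊔ W₂)) : G) ∉ W₁ := by
        rw [SubmonoidClass.coe_pow, CfsgLib.CharTheory.pow_mem_iff_of_coprime hm]; exact h1
      have e2 : ((w ^ m : ↥(W₁ ⊔ W₂)) : G) ∉ W₂ := by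
        rw [SubmonoidClass.coe_pow, CfsgLib.CharTheory.pow_mem_iff_of_coprime hm]; exact h2
      have := hχ.eq_on ω (w ^ m) e1 e2
      rw [SubmonoidClass.coe_pow] at this
      show χ ω ((w : G) ^ m) = _
      rw [this, map_pow, ← MonoidHom.pow_apply, hωm]
    obtain ⟨a, ha, ha1⟩ := (Subgroup.bot_or_exists_ne_one W₁).resolve_left hW1
    obtain ⟨b, hb, hb1⟩ := (Subgroup.bot_or_exists_ne_one W₂).resolve_left hW2
    have hprodV : ∀ x y : G, x ∈ W₁ → x ≠ 1 → y ∈ W₂ → y ≠ 1 → x * y ∉ W₁ ∧ x * y ∉ W₂ := by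
      intro x y hx hx1 hy hy1
      refine ⟨fun h => hy1 ?_, fun h => hx1 ?_⟩
      · have : y ∈ W₁ := by simpa using W₁.mul_mem (W₁.inv_mem hx) h
        exact Subgroup.mem_bot.mp (hdisj ▸ Subgroup.mem_inf.mpr ⟨this, hy⟩)
      · have : x ∈ W₂ := by simpa using W₂.mul_mem h (W₂.inv_mem hy)
        exact Subgroup.mem_bot.mp (hdisj ▸ Subgroup.mem_inf.mpr ⟨hx, this⟩)
    -- some member is not orthogonal
    have hex : ∃ ω', classInner θ (χ ω') ≠ 0 := by
      by_contra hno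
      push Not at hno
      obtain ⟨h1, h2⟩ := hprodV a b ha ha1 hb hb1
      have hw : a * b ∈ W₁ ⊔ W₂ := (W₁ ⊔ W₂).mul_mem (Subgroup.mem_sup_left ha) (Subgroup.mem_sup_right hb)
      have hne : θ ((⟨_, hw⟩ : ↥(W₁ ⊔ W₂)) : G) ≠ 0 := by rw [hV ⟨_, hw⟩ h1 h2]; exact Units.ne_zero _
      apply hne
      rcases hθirr with h | h
      · exact Cfsg.Agent.S1503.result W₁ W₂ ⟨hW1, hW2, hdisj, hcomm, hcyc, hnorm⟩ χ hχ θ h hno ⟨_, hw⟩ h1 h2
      · have := Cfsg.Agent.S1503.result W₁ W₂ ⟨hW1, hW2, hdisj, hcomm, hcyc, hnorm⟩ χ hχ (-θ) h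
          (fun ω' => by rw [← neg_one_smul ℂ θ, CfsgLib.CharTheory.classInner_smul_left, hno, mul_zero]) ⟨_, hw⟩ h1 h2
        exact neg_eq_zero.mp this
    obtain ⟨ω', hω'⟩ := hex
    have hε : ∃ ε : ℂ, θ = ε • χ ω' := by
      rcases hθirr with h1 | h1 <;> rcases hχ.irr_or_neg ω' with h2 | h2
      all_goals
        by_contra hno
        push Not at hno
        apply hω'
      · exact CfsgLib.CharTheory.classInner_irr_ne h1 h2 (fun e => hno 1 (by rw [one_smul, e]))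
      · have := CfsgLib.CharTheory.classInner_irr_ne h1 h2 (fun e => hno (-1) (by rw [e, neg_one_smul]))
        rwa [CfsgLib.CharTheory.classInner_neg_right, neg_eq_zero] at this
      · have := CfsgLib.CharTheory.classInner_irr_ne h1 h2 (fun e => hno (-1) (by rw [← e, neg_one_smul, neg_neg]))
        rwa [← neg_one_smul ℂ θ, CfsgLib.CharTheory.classInner_smul_left, neg_one_mul, neg_eq_zero] at this
      · have := CfsgLib.CharTheory.classInner_irr_ne h1 h2 (fun e => hno 1 (by rw [one_smul]; exact neg_inj.mp e))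
        rwa [CfsgLib.CharTheory.classInner_neg_right, neg_eq_zero, ← neg_one_smul ℂ θ,
          CfsgLib.CharTheory.classInner_smul_left, neg_one_mul, neg_eq_zero] at this
    obtain ⟨ε, hε⟩ := hε
    -- compare on products
    have hrel : ∀ x y : ↥(W₁ ⊔ W₂), (x : G) ∈ W₁ → x ≠ 1 → (y : G) ∈ W₂ → y ≠ 1 →
        ((ω x : ℂ) / ω' x) * ((ω y : ℂ) / ω' y) = ε := by
      intro x y hx hx1 hy hy1
      obtain ⟨h1, h2⟩ := hprodV x y hx (fun e => hx1 (Subtype.ext e)) hy (fun e => hy1 (Subtype.ext e))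
      have e1 := hV (x * y) h1 h2
      rw [hε, Pi.smul_apply, hχ.eq_on ω' (x * y) h1 h2, smul_eq_mul, map_mul, map_mul, Units.val_mul, Units.val_mul] at e1
      have n1 : (ω' x : ℂ) ≠ 0 := Units.ne_zero _
      have n2 : (ω' y : ℂ) ≠ 0 := Units.ne_zero _
      field_simp
      linear_combination -e1
    have hsq : ∀ x : ↥(W₁ ⊔ W₂), x ≠ 1 → x ^ 2 ≠ 1 := fun x hx hx2 => by
      have h2 : orderOf x = 2 := orderOf_eq_prime hx2 hx
      exact hodd.not_two_dvd_nat (h2 ▸ orderOf_dvd_natCard x)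
    let aW : ↥(W₁ ⊔ W₂) := ⟨a, Subgroup.mem_sup_left ha⟩
    let bW : ↥(W₁ ⊔ W₂) := ⟨b, Subgroup.mem_sup_right hb⟩
    have haW : aW ≠ 1 := fun e => ha1 (congrArg Subtype.val e)
    have hbW : bW ≠ 1 := fun e => hb1 (congrArg Subtype.val e)
    have hr1 : ∀ x : ↥(W₁ ⊔ W₂), (x : G) ∈ W₁ → x ≠ 1 → (ω x : ℂ) / ω' x = 1 := by
      intro x hx hx1
      have e1 := hrel x bW hx hx1 hb hbW
      have e2 := hrel (x ^ 2) bW (by rw [SubmonoidClass.coe_pow]; exact pow_mem hx 2) (hsq x hx1) hb hbW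
      rw [← e1, map_pow, map_pow, Units.val_pow_eq_pow_val, Units.val_pow_eq_pow_val, ← div_pow, pow_two] at e2
      have n0 : ((ω x : ℂ) / ω' x) ≠ 0 := div_ne_zero (Units.ne_zero _) (Units.ne_zero _)
      have n1 : ((ω bW : ℂ) / ω' bW) ≠ 0 := div_ne_zero (Units.ne_zero _) (Units.ne_zero _)
      have := mul_right_cancel₀ n1 e2
      exact (mul_eq_left₀ n0).mp this
    have hr2 : ∀ y : ↥(W₁ ⊔ W₂), (y : G) ∈ W₂ → y ≠ 1 → (ω y : ℂ) / ω' y = 1 := by
      intro y hy hy1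
      have e1 := hrel aW y ha haW hy hy1
      have e2 := hrel aW (y ^ 2) ha haW (by rw [SubmonoidClass.coe_pow]; exact pow_mem hy 2) (hsq y hy1)
      rw [hr1 aW ha haW, one_mul] at e1 e2
      rw [← e1, map_pow, map_pow, Units.val_pow_eq_pow_val, Units.val_pow_eq_pow_val, ← div_pow, pow_two] at e2
      exact (mul_eq_left₀ (div_ne_zero (Units.ne_zero _) (Units.ne_zero _))).mp e2
    have hε1 : ε = 1 := by rw [← hrel aW bW ha haW hb hbW, hr1 aW ha haW, hr2 bW hb hbW, one_mul]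
    have hωω : ω' = ω := by
      refine CfsgLib.CharTheory.cyc_hom_ext hcomm _ _ fun w hw => ?_
      by_cases hw1 : w = 1
      · rw [hw1, map_one, map_one]
      refine Units.ext ?_
      have := hw.elim (fun h => hr1 w h hw1) (fun h => hr2 w h hw1)
      rw [div_eq_one_iff_eq (Units.ne_zero _)] at this
      exact this.symm
    have := congrFun hε g
    rw [hε1, one_smul, hωω] at this
    exact this
  have hrat : ∀ m : ℕ, m.Coprime (Nat.card G) → χ ω (g ^ m) = χ ω g := by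
    intro m hm
    set n := orderOf g with hn
    set d := orderOf ω with hdd
    have hnd : n * d ∣ Nat.card G := Nat.Coprime.mul_dvd_of_dvd_of_dvd hg (orderOf_dvd_natCard g) hd
    obtain ⟨m₁, hm1, hm2⟩ := Nat.chineseRemainder hg m 1
    have hcop : m₁.Coprime (n * d) := by
      refine Nat.Coprime.mul_right ?_ ?_
      · rw [Nat.coprime_comm, Nat.Coprime, Nat.gcd_rec, hm1, ← Nat.gcd_rec]
        exact Nat.Coprime.coprime_dvd_left (orderOf_dvd_natCard g) hm.symm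
      · rw [Nat.coprime_comm, Nat.Coprime, Nat.gcd_rec, hm2, ← Nat.gcd_rec, Nat.gcd_one_right]
    obtain ⟨u, hu⟩ := ZMod.unitsMap_surjective hnd (ZMod.unitOfCoprime m₁ hcop)
    haveI : NeZero (Nat.card G) := ⟨Nat.card_pos.ne'⟩
    set m₂ := ((u : (ZMod (Nat.card G))ˣ) : ZMod (Nat.card G)).val with hm₂
    have hc2 : m₂.Coprime (Nat.card G) := ZMod.val_coe_unit_coprime u
    have hcast : m₂ ≡ m₁ [MOD n * d] := by
      rw [← ZMod.natCast_eq_natCast_iff]
      have := congrArg Units.val hu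
      rw [ZMod.unitsMap_def, Units.coe_map, ZMod.coe_unitOfCoprime] at this
      rw [← this, MonoidHom.coe_coe, ← ZMod.natCast_zmod_val (u : ZMod (Nat.card G)), map_natCast]
    have e1 : g ^ m₂ = g ^ m := by
      have h : m₂ % n = m % n := (Nat.ModEq.of_dvd (dvd_mul_right n d) hcast).trans hm1
      rw [← pow_mod_orderOf g m₂, ← pow_mod_orderOf g m, ← hn, h]
    have e2 : ω ^ m₂ = ω := by
      have h : m₂ % d = 1 % d := (Nat.ModEq.of_dvd (dvd_mul_left d n) hcast).trans hm2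
      rw [← pow_mod_orderOf ω m₂, ← hdd, h, hdd, pow_mod_orderOf, pow_one]
    rw [← e1]
    exact key m₂ hc2 e2
  obtain ⟨ψ, s, hψ, hs, hχψ⟩ : ∃ (ψ : G → ℂ) (s : ℤ), IsIrrCharacter G ψ ∧ (s = 1 ∨ s = -1) ∧ χ ω = (s : ℂ) • ψ := by
    rcases hχ.irr_or_neg ω with h | h
    · exact ⟨_, 1, h, Or.inl rfl, by simp⟩
    · exact ⟨_, -1, h, Or.inr rfl, by simp⟩
  have hs0 : (s : ℂ) ≠ 0 := by rcases hs with rfl | rfl <;> norm_num
  obtain ⟨q, hq⟩ := CfsgLib.CharTheory.rational_of_pow_invariant (CfsgLib.CharTheory.isCharacter_of_irr hψ) g fun m hm => by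
    have := hrat m hm
    rw [hχψ] at this
    exact mul_left_cancel₀ hs0 this
  obtain ⟨k, ρ, -, rfl⟩ := hψ
  have hint := CfsgLib.CharTheory.isIntegral_character ρ g
  rw [hq, show ((q : ℂ)) = algebraMap ℚ ℂ q from (eq_ratCast (algebraMap ℚ ℂ) q).symm,
    isIntegral_algebraMap_iff (algebraMap ℚ ℂ).injective] at hint
  obtain ⟨z, hz⟩ := IsIntegrallyClosed.isIntegral_iff.mp hint
  refine ⟨s * z, ?_⟩
  rw [hχψ, Pi.smul_apply, smul_eq_mul, hq, ← hz]
  simp

end Cfsg.Agent.S1508
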