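import Cfsg.Statements.S1383
import Mathlib
import Cfsg.Agent.Lib.MinSimpleOdd.TypeFive
-- import your own Cfsg.Agent.* helpers here

set_option autoImplicit false
open Cfsg

namespace Cfsg.Agent.S1383

/-- Let G be a minimal simple group of odd order and M a maximal subgroup with standard factorisation M = K U M_σ. Then M is of Type V if and only if K ≠ 1, U = 1 and M_F = M_σ. -/
theorem result {G : Type*} [Group G] [Finite G] (hG : Cfsg.IsMinSimpleOddOrder G)
    (M : Subgroup G) (hM : IsCoatom M) (K U : Subgroup G) (hKU : Cfsg.IsSigmaDecomposition M K U) :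
    Cfsg.IsOfTypeV M ↔ (K ≠ ⊥ ∧ U = ⊥ ∧ Cfsg.fittingHallOf M = Cfsg.sigmaCore M) := by
  open scoped Pointwise in
  open CfsgLib.MinSimpleOdd in
  exact (by
    refine ⟨fun ⟨W₁, U', W₂, hP, hU', _⟩ => ?_, fun ⟨hK1, hU, hH⟩ => ?_⟩
    · obtain ⟨hK1, -, hiff⟩ := typeP_facts hG hM hP hKU
      obtain ⟨h1, h2⟩ := hiff.mp hU'
      exact ⟨hK1, h1, h2⟩
    · obtain ⟨U', hP, -, h2⟩ := exists_typeP hG hM hKU hK1
      exact ⟨K, U', _, hP, (h2 hU).mpr hH, typeV_alternatives hG hM hKU hK1 hU hH⟩)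

end Cfsg.Agent.S1383
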