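import Cfsg.Statements.S1355
import Mathlib
import Cfsg.Agent.Lib.MinSimpleOdd.NonNilpotentCore
-- import your own Cfsg.Agent.* helpers here

set_option autoImplicit false
open Cfsg

namespace Cfsg.Agent.S1355

/-- Let G be a minimal simple group of odd order and M a maximal subgroup. Then the largest normal nilpotent Hall subgroup M_F of M is nontrivial and contained in M_σ, M_σ is contained in the derived subgroup M', M' is proper in M, and the image of M' in M/M_F is nilpotent. -/
theorem result {G : Type*} [Group G] [Finite G] (hG : Cfsg.IsMinSimpleOddOrder G)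
    (M : Subgroup G) (hM : IsCoatom M) :
    Cfsg.fittingHallOf M ≠ ⊥ ∧ Cfsg.fittingHallOf M ≤ Cfsg.sigmaCore M ∧ Cfsg.sigmaCore M ≤ ⁅M, M⁆ ∧ ⁅M, M⁆ < M ∧
      Group.IsNilpotent ↥((commutator ↥M).map (QuotientGroup.mk' (Cfsg.fittingHall ↥M))) := by
  open scoped Pointwise commutatorElement in
  open CfsgLib.MinSimpleOdd in
  exact (by
    haveI := solvable_of_ne_top hG hM.1
    have hSM : Cfsg.sigmaCore M ≤ M := piCoreOf_le _ _
    have hMd : Cfsg.sigmaCore M ≤ ⁅M, M⁆ := core_le_derived hG hM subset_rfl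
    have hFS := fittingHallOf_le_sigmaCore hG hM
    have hne : (⊥ : Subgroup G) < M := bot_lt_iff_ne_bot.mpr fun e =>
      sigmaCore_ne_bot hG hM (le_bot_iff.mp (e ▸ hSM))
    have hlt : ⁅M, M⁆ < M := by
      refine lt_of_le_of_ne (Subgroup.commutator_le_self M) fun e => ?_
      haveI : Nontrivial M := (Subgroup.nontrivial_iff_ne_bot M).mpr hne.ne'
      refine (Group.IsSolvable.commutator_lt_top_of_nontrivial (G := M)).ne ?_
      apply Subgroup.map_injective M.subtype_injective
      rw [Subgroup.map_subtype_commutator, ← MonoidHom.range_eq_map, Subgroup.range_subtype]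
      exact e
    set π := QuotientGroup.mk' (Cfsg.fittingHall ↥M) with hπ
    have hker : ∀ x : M, (x : G) ∈ Cfsg.fittingHallOf M → π x = 1 := by
      rintro x ⟨y, hy, hxy⟩
      obtain rfl := Subtype.ext hxy
      exact (QuotientGroup.eq_one_iff _).mpr hy
    by_cases hn : Group.IsNilpotent (Cfsg.sigmaCore M)
    · have hF := fittingHallOf_eq hG hM hn
      refine ⟨fun e => sigmaCore_ne_bot hG hM (hF ▸ e), hFS, hMd, hlt, ?_⟩
      obtain ⟨E, hE, -⟩ := exists_complement_ge hG hM (bot_le : (⊥ : Subgroup G) ≤ M) fun r hr hd =>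
        absurd (Subgroup.card_bot (G := G) ▸ hd) hr.not_dvd_one
      haveI := complement_derived_nilpotent hG hM hE
      set φ := π.comp (Subgroup.inclusion hE.1) with hφ
      have hsurj : Function.Surjective φ := by
        intro z
        obtain ⟨m, rfl⟩ := QuotientGroup.mk'_surjective _ z
        obtain ⟨a, ha, b, hb, hab⟩ := hE.2.2.2 (m : G) m.2
        refine ⟨⟨a, ha⟩, ?_⟩
        rw [show m = (⟨a, hE.1 ha⟩ : M) * ⟨b, hE.2.1 hb⟩ from Subtype.ext hab, map_mul,
          hker ⟨b, hE.2.1 hb⟩ (hF.ge hb), mul_one]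
        rfl
      have heq : (commutator ↥M).map π = (commutator ↥E).map φ := by
        rw [commutator_def, commutator_def, Subgroup.map_commutator, Subgroup.map_commutator,
          ← MonoidHom.range_eq_map, ← MonoidHom.range_eq_map,
          MonoidHom.range_eq_top.mpr (QuotientGroup.mk'_surjective _), MonoidHom.range_eq_top.mpr hsurj]
      rw [heq]
      exact Group.nilpotent_of_surjective _ (φ.subgroupMap_surjective (commutator ↥E))
    · obtain ⟨K, hK⟩ := CfsgLib.exists_isPiHallOf (Cfsg.kappa M) (M := M) inferInstance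
      obtain ⟨U, hKU⟩ := exists_sigmaDecomposition hG hM (kappaHall_cyclic hG hM hK) hK
      obtain ⟨-, q, Q, nd⟩ := exists_nonNilData hG hM hKU hn
      refine ⟨fun e => nd.hq.ne_one ?_, hFS, hMd, hlt, ?_⟩
      · rw [← nd.card, le_bot_iff.mp ((nd.fixed_le.trans nd.le_fitting).trans e.le), Subgroup.card_bot]
      obtain ⟨D, hD, -, hDn, -⟩ := nd.exists_compl hG
      haveI := hDn
      have hM' : ⁅M, M⁆ ≤ Cfsg.sigmaCore M := by
        haveI := kappaHall_cyclic hG hM hK
        have hKc := cyclic_isCommutative ‹IsCyclic K›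
        have hle : ⁅M, M⁆ ≤ Cfsg.sigmaCore M ⊔ ⁅K, K⁆ := by
          refine derived_le_of_sup (le_normalizer_sigmaCore hG hM le_rfl) hSM nd.hE.1 fun m hm => ?_
          obtain ⟨a, ha, b, hb, rfl⟩ := nd.hE.2.2.2 m hm
          exact mul_mem (Subgroup.mem_sup_right ha) (Subgroup.mem_sup_left hb)
        rw [(Subgroup.commutator_eq_bot_iff_le_centralizer (H₁ := K) (H₂ := K)).mpr
          (@Subgroup.le_centralizer _ _ K hKc), sup_bot_eq] at hle
        exact hle
      set φ := π.comp (Subgroup.inclusion (hD.2.1.trans hSM)) with hφ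
      have hle : (commutator ↥M).map π ≤ φ.range := by
        rintro _ ⟨m, hm, rfl⟩
        have hmS : (m : G) ∈ Cfsg.sigmaCore M := hM' ((Subgroup.map_subtype_commutator M).le ⟨m, hm, rfl⟩)
        obtain ⟨a, ha, b, hb, hab⟩ := hD.2.2.2 (m : G) hmS
        refine ⟨⟨b, hb⟩, ?_⟩
        rw [show m = (⟨a, hSM (hD.1 ha)⟩ : M) * ⟨b, hSM (hD.2.1 hb)⟩ from Subtype.ext hab, map_mul,
          hker ⟨a, hSM (hD.1 ha)⟩ (nd.le_fitting ha), one_mul]
        rfl
      haveI : Group.IsNilpotent φ.range := Group.nilpotent_of_surjective _ φ.rangeRestrict_surjective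
      exact Group.nilpotent_of_mulEquiv (Subgroup.subgroupOfEquivOfLe hle))

end Cfsg.Agent.S1355
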