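import Cfsg.Statements.S1536
import Mathlib
import Cfsg.Agent.Lib.CharTheory.OddBasics
-- import your own Cfsg.Agent.* helpers here

set_option autoImplicit false
open Cfsg

namespace Cfsg.Agent.S1536

/-- Let H be a normal subgroup of the finite group M whose order is coprime to its index. For x ∈ M: some non-principal irreducible character of H is unchanged under h ↦ θ(x h x⁻¹) if and only if some non-identity element of H commutes with x. -/
theorem result {M : Type*} [Group M] [Finite M] (H : Subgroup M) [hN : H.Normal] (hHall : Nat.Coprime (Nat.card H) H.index) (x : M) : (∃ θ : H → ℂ, Cfsg.IsIrrCharacter H θ ∧ θ ≠ (fun _ => 1) ∧ (fun h : H => θ ⟨x * h * x⁻¹, hN.conj_mem h h.2 x⟩) = θ) ↔ ∃ h ∈ H, h ≠ 1 ∧ x * h = h * x := by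
  classical
  haveI := Fintype.ofFinite H
  let σ : H ≃* H := MulAut.conjNormal x
  let π : ConjClasses H → ConjClasses H := ConjClasses.map σ.toMonoidHom
  let τ : IrrCharacter H → IrrCharacter H := fun χ => ⟨fun h => (χ : H → ℂ) (σ h),
    CfsgLib.CharTheory.isIrrCharacter_comp_surjective χ.2 σ.toMonoidHom σ.surjective⟩
  have hcount := CfsgLib.CharTheory.card_fixed_irr_eq_card_fixed_classes π τ (fun χ g g' hg => by
    have h1 : IsConj g' (σ g) := ConjClasses.mk_eq_mk_iff_isConj.mp hg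
    exact CfsgLib.CharTheory.isClassFunction_iff_isConj.mp (CfsgLib.CharTheory.isClassFunction_irr χ.2) _ _ h1.symm)
  have hone : IsIrrCharacter H (fun _ => (1 : ℂ)) := CfsgLib.CharTheory.isIrrCharacter_one
  have hchar : (∃ θ : H → ℂ, Cfsg.IsIrrCharacter H θ ∧ θ ≠ (fun _ => 1) ∧ (fun h : H => θ ⟨x * h * x⁻¹, hN.conj_mem h h.2 x⟩) = θ) ↔ 1 < Nat.card {χ : IrrCharacter H // τ χ = χ} := by
    rw [Finite.one_lt_card_iff_nontrivial]
    constructor
    · rintro ⟨θ, hθ, hne, he⟩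
      exact ⟨⟨⟨θ, hθ⟩, Subtype.ext he⟩, ⟨⟨_, hone⟩, rfl⟩, fun e => hne (congrArg (fun p => p.1.1) e)⟩
    · intro h
      obtain ⟨⟨⟨θ, hθ⟩, he⟩, hne⟩ := exists_ne (⟨⟨_, hone⟩, rfl⟩ : {χ : IrrCharacter H // τ χ = χ})
      exact ⟨θ, hθ, fun e => hne (Subtype.ext (Subtype.ext e)), congrArg Subtype.val he⟩
  rw [hchar, hcount, Finite.one_lt_card_iff_nontrivial]
  constructor
  · intro h
    obtain ⟨⟨C, hC⟩, hne⟩ := exists_ne (⟨ConjClasses.mk 1, congrArg ConjClasses.mk (map_one σ.toMonoidHom)⟩ : {C : ConjClasses H // π C = C})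
    obtain ⟨a, rfl⟩ := ConjClasses.mk_surjective C
    have ha1 : a ≠ 1 := fun e => hne (Subtype.ext (show ConjClasses.mk a = ConjClasses.mk 1 from congrArg ConjClasses.mk e))
    obtain ⟨y, hy, hyp⟩ : ∃ y : M, y ∈ H ∧ (y = 1 → (orderOf x).Coprime (Nat.card H)) ∧ x * y = y * x := by
      refine ⟨x ^ H.index, ?_, fun e => ?_, (Commute.self_pow x _).eq⟩
      · exact Subgroup.pow_index_mem H x
      · exact (hHall.coprime_dvd_right (orderOf_dvd_of_pow_eq_one e)).symm
    by_cases hy1 : y = 1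
    · have ha : IsConj a ⟨x * a * x⁻¹, hN.conj_mem a a.2 x⟩ := ConjClasses.mk_eq_mk_iff_isConj.mp hC.symm
      obtain ⟨b, hb, hbx⟩ := CfsgLib.CharTheory.exists_fixed_in_class H (hyp.1 hy1) a ha
      refine ⟨b, b.2, fun e => ha1 ?_, hbx⟩
      have : b = 1 := Subtype.ext e
      subst this
      exact isConj_one_left.mp hb
    · exact ⟨y, hy, hy1, hyp.2⟩
  · rintro ⟨h, hh, h1, hc⟩
    refine ⟨⟨ConjClasses.mk ⟨h, hh⟩, congrArg ConjClasses.mk (Subtype.ext ?_)⟩,
      ⟨ConjClasses.mk 1, congrArg ConjClasses.mk (map_one σ.toMonoidHom)⟩, fun e => h1 ?_⟩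
    · show x * h * x⁻¹ = h
      rw [hc]; group
    · have := ConjClasses.mk_eq_mk_iff_isConj.mp (congrArg Subtype.val e)
      exact congrArg Subtype.val (isConj_one_left.mp this)

end Cfsg.Agent.S1536
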