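import Cfsg.Statements.S1437
import Mathlib
import Cfsg.Agent.Lib.MinSimpleOdd.NonNilpotentCore
-- import your own Cfsg.Agent.* helpers here

set_option autoImplicit false
open Cfsg

namespace Cfsg.Agent.S1437

/-- Let G be a minimal simple group of odd order and M a maximal subgroup with standard factorisation M = K U M_σ such that M_F ≠ M_σ; put K* = M_σ ∩ C_G(K), p = #K, q = #K*. Then U = 1 and M_σ = M'; p and q are prime, q divides #M_F and q ∈ β(M); M_σ has a Sylow q-subgroup Q normal in M and contained in M_F; every complement D of Q in M_σ is nilpotent, and Q₀ = Q ∩ C_G(D) is normal in M; Q₀ < Q with #Q = #Q₀ · q ^ p, every element of Q has its q-th power and all its commutators with Q in Q₀, and every subgroup strictly between Q₀ and Q fails to be normal in M. -/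
theorem result {G : Type*} [Group G] [Finite G] (hG : Cfsg.IsMinSimpleOddOrder G)
    (M : Subgroup G) (hM : IsCoatom M) (K U : Subgroup G) (hKU : Cfsg.IsSigmaDecomposition M K U) (hne : Cfsg.fittingHallOf M ≠ Cfsg.sigmaCore M) :
    U = ⊥ ∧ Cfsg.sigmaCore M = ⁅M, M⁆ ∧ (Nat.card K).Prime ∧ (Nat.card ↥(Cfsg.sigmaCore M ⊓ Subgroup.centralizer (K : Set G))).Prime ∧
      Nat.card ↥(Cfsg.sigmaCore M ⊓ Subgroup.centralizer (K : Set G)) ∣ Nat.card (Cfsg.fittingHallOf M) ∧ Nat.card ↥(Cfsg.sigmaCore M ⊓ Subgroup.centralizer (K : Set G)) ∈ Cfsg.beta M ∧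
      ∃ Q : Subgroup G, Q ≤ Cfsg.fittingHallOf M ∧ M ≤ Subgroup.normalizer (Q : Set G) ∧ IsPGroup (Nat.card ↥(Cfsg.sigmaCore M ⊓ Subgroup.centralizer (K : Set G))) Q ∧
        ¬ Nat.card ↥(Cfsg.sigmaCore M ⊓ Subgroup.centralizer (K : Set G)) ∣ Q.relIndex (Cfsg.sigmaCore M) ∧
        ∀ D : Subgroup G, Cfsg.IsComplIn Q D (Cfsg.sigmaCore M) →
          Group.IsNilpotent D ∧ M ≤ Subgroup.normalizer ((Q ⊓ Subgroup.centralizer (D : Set G) : Subgroup G) : Set G) ∧
          Q ⊓ Subgroup.centralizer (D : Set G) < Q ∧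
          Nat.card Q = Nat.card ↥(Q ⊓ Subgroup.centralizer (D : Set G)) * Nat.card ↥(Cfsg.sigmaCore M ⊓ Subgroup.centralizer (K : Set G)) ^ Nat.card K ∧
          (∀ a ∈ Q, ∀ b ∈ Q, a ^ Nat.card ↥(Cfsg.sigmaCore M ⊓ Subgroup.centralizer (K : Set G)) ∈ Q ⊓ Subgroup.centralizer (D : Set G) ∧
            a * b * a⁻¹ * b⁻¹ ∈ Q ⊓ Subgroup.centralizer (D : Set G)) ∧
          ∀ N : Subgroup G, Q ⊓ Subgroup.centralizer (D : Set G) < N → N < Q → ¬ M ≤ Subgroup.normalizer (N : Set G) := by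
  open scoped Pointwise commutatorElement in
  open CfsgLib.MinSimpleOdd in
  exact (by
    have hn : ¬ Group.IsNilpotent (Cfsg.sigmaCore M) := fun h => hne (fittingHallOf_eq hG hM h)
    obtain ⟨hU, q, Q, nd⟩ := exists_nonNilData hG hM hKU hn
    obtain ⟨D₁, hD₁, -⟩ := nd.exists_compl hG
    have hKp := (nd.structure_any hG hD₁).2.2.2.1
    obtain rfl := nd.card
    refine ⟨hU, le_antisymm (core_le_derived hG hM subset_rfl) ?_, hKp, nd.hq,
      Subgroup.card_dvd_of_le (nd.fixed_le.trans nd.le_fitting), nd.mem_beta hG, Q, nd.le_fitting, nd.normal,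
      nd.pgroup, nd.hall, fun D hD => ?_⟩
    · haveI := isCyclic_of_prime_card (α := K) (hp := ⟨hKp⟩) rfl
      have hKc : ∀ a ∈ K, ∀ b ∈ K, a * b = b * a := fun a ha b hb =>
        congrArg Subtype.val ((cyclic_isCommutative ‹IsCyclic K›).is_comm.comm (⟨a, ha⟩ : K) ⟨b, hb⟩)
      refine Subgroup.commutator_le.mpr fun m hm m' hm' => ?_
      obtain ⟨a, ha, b, hb, rfl⟩ := nd.hE.2.2.2 m hm
      obtain ⟨a', ha', b', hb', rfl⟩ := nd.hE.2.2.2 m' hm'
      have hS : ∀ x ∈ M, ∀ y ∈ Cfsg.sigmaCore M, x * y * x⁻¹ ∈ Cfsg.sigmaCore M := fun x hx y hy =>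
        (Subgroup.mem_normalizer_iff.mp (le_normalizer_sigmaCore hG hM le_rfl hx) y).mp hy
      have haM := nd.hE.1 ha
      have ha'M := nd.hE.1 ha'
      rw [commutatorElement_def, show a * b * (a' * b') * (a * b)⁻¹ * (a' * b')⁻¹ =
        (a * b * a⁻¹) * (a * a' * b' * (a * a')⁻¹) * (a * a' * b⁻¹ * (a * a')⁻¹) * (a * a' * a⁻¹ * a'⁻¹) *
          (a' * b'⁻¹ * a'⁻¹) by group, hKc a ha a' ha', show a' * a * a⁻¹ * a'⁻¹ = 1 by group]
      exact mul_mem (mul_mem (mul_mem (mul_mem (hS a haM b hb) (hS _ (mul_mem ha'M haM) b' hb'))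
        (hS _ (mul_mem ha'M haM) _ (inv_mem hb))) (one_mem _)) (hS a' ha'M _ (inv_mem hb'))
    · obtain ⟨h1, h2, h3, -, h4, h5, h6⟩ := nd.structure_any hG hD
      exact ⟨h1, h2, h3, h4, h5, h6⟩)

end Cfsg.Agent.S1437
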