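import Cfsg.Statements.S1529
import Mathlib
import Cfsg.Agent.Lib.CharTheory.Irr
-- import your own Cfsg.Agent.* helpers here

set_option autoImplicit false
open Cfsg

namespace Cfsg.Agent.S1529

/-- Let N be a subgroup of the finite group G, S a set of irreducible characters of N with at least two members, and τ₁ a linear isometry on the integer combinations of S with virtual-character values such that τ₁ α vanishes at 1 whenever α ∈ ℤ[S] does. Then there is ε ∈ {1, −1} such that ε • τ₁ χ is an irreducible character of G for every χ ∈ S, and distinct members of S give distinct characters. -/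
theorem result {G : Type*} [Group G] [Fintype G] (N : Subgroup G) [Fintype N] (S : Set (N → ℂ)) (hirr : ∀ χ ∈ S, Cfsg.IsIrrCharacter N χ) (htwo : ∃ χ ∈ S, ∃ ψ ∈ S, χ ≠ ψ) (τ₁ : (N → ℂ) → (G → ℂ)) (hτ₁ : Cfsg.IsLinearIsometryOn (Cfsg.zspan S) τ₁) (h0 : ∀ α ∈ Cfsg.zspan S, α 1 = 0 → τ₁ α 1 = 0) : ∃ ε : ℂ, (ε = 1 ∨ ε = -1) ∧ (∀ χ ∈ S, Cfsg.IsIrrCharacter G (ε • τ₁ χ)) ∧ (∀ χ ∈ S, ∀ ψ ∈ S, τ₁ χ = τ₁ ψ → χ = ψ) := by
  classical
  obtain ⟨hadd, hzs, hin, hgen⟩ := hτ₁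
  have hmem : ∀ χ ∈ S, χ ∈ Cfsg.zspan S := fun χ hχ => Submodule.subset_span hχ
  have hsi : ∀ χ ∈ S, IsIrrCharacter G (τ₁ χ) ∨ IsIrrCharacter G (-τ₁ χ) := fun χ hχ =>
    CfsgLib.CharTheory.irr_or_neg_of_norm_one (hgen χ (hmem χ hχ))
      (by rw [hin χ (hmem χ hχ) χ (hmem χ hχ), CfsgLib.CharTheory.classInner_irr_self (hirr χ hχ)])
  obtain ⟨χ₀, hχ₀, -, -, -⟩ := htwo
  obtain ⟨ε, hε, hε0⟩ : ∃ ε : ℂ, (ε = 1 ∨ ε = -1) ∧ IsIrrCharacter G (ε • τ₁ χ₀) := by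
    rcases hsi χ₀ hχ₀ with h | h
    · exact ⟨1, Or.inl rfl, by rwa [one_smul]⟩
    · exact ⟨-1, Or.inr rfl, by rwa [neg_smul, one_smul]⟩
  have hε2 : ε * ε = 1 := by rcases hε with rfl | rfl <;> norm_num
  refine ⟨ε, hε, fun χ hχ => ?_, fun χ hχ ψ hψ e => ?_⟩
  · obtain ⟨a, ha, hae⟩ := CfsgLib.CharTheory.irr_degree_pos (hirr χ hχ)
    obtain ⟨b, hb, hbe⟩ := CfsgLib.CharTheory.irr_degree_pos (hirr χ₀ hχ₀)
    obtain ⟨c, hc, hce⟩ := CfsgLib.CharTheory.irr_degree_pos hε0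
    have hz : ∀ (n : ℤ), ∀ φ ∈ S, (n • φ) ∈ Cfsg.zspan S := fun n φ hφ => Submodule.smul_mem _ n (hmem φ hφ)
    have hsum : (b : ℤ) • χ + (-(a : ℤ)) • χ₀ ∈ Cfsg.zspan S := Submodule.add_mem _ (hz _ χ hχ) (hz _ χ₀ hχ₀)
    have hzero := h0 _ hsum (by
      show (b : ℤ) • χ 1 + (-(a : ℤ)) • χ₀ 1 = 0
      rw [hae, hbe, zsmul_eq_mul, zsmul_eq_mul]; push_cast; ring)
    rw [hadd _ (hz _ χ hχ) _ (hz _ χ₀ hχ₀), hzs χ (hmem χ hχ), hzs χ₀ (hmem χ₀ hχ₀)] at hzero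
    have hzero' : (b : ℂ) * τ₁ χ 1 = (a : ℂ) * τ₁ χ₀ 1 := by
      simp only [Pi.add_apply, Pi.smul_apply, zsmul_eq_mul, Pi.mul_apply, Pi.intCast_apply] at hzero
      push_cast at hzero
      linear_combination hzero
    rcases hsi χ hχ with h | h <;> obtain ⟨d, hd, hde⟩ := CfsgLib.CharTheory.irr_degree_pos h
    · have hce' : ε * τ₁ χ₀ 1 = c := hce
      rcases hε with rfl | rfl
      · rwa [one_smul]
      · exfalso
        have h1 : ((b * d + a * c : ℕ) : ℂ) = 0 := by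
          push_cast; linear_combination hzero' + (b : ℂ) * hde.symm + (-(a : ℂ)) * hce'
        have := mul_pos hb hd
        have h2 : b * d + a * c = 0 := by exact_mod_cast h1
        omega
    · have hce' : ε * τ₁ χ₀ 1 = c := hce
      have hde' : -τ₁ χ 1 = d := hde
      rcases hε with rfl | rfl
      · exfalso
        have h1 : ((b * d + a * c : ℕ) : ℂ) = 0 := by
          push_cast; linear_combination -hzero' + (b : ℂ) * hde'.symm + (-(a : ℂ)) * hce'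
        have := mul_pos hb hd
        have h2 : b * d + a * c = 0 := by exact_mod_cast h1
        omega
      · rwa [neg_smul, one_smul]
  · have h1 := hin χ (hmem χ hχ) ψ (hmem ψ hψ)
    rw [e, hin ψ (hmem ψ hψ) ψ (hmem ψ hψ), CfsgLib.CharTheory.classInner_irr_self (hirr ψ hψ)] at h1
    by_contra hne
    rw [CfsgLib.CharTheory.classInner_irr_ne (hirr χ hχ) (hirr ψ hψ) hne] at h1
    exact one_ne_zero h1

end Cfsg.Agent.S1529
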