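import Cfsg.Statements.S1378
import Cfsg.Agent.Lib.MinSimpleOdd.SigmaDisjoint
-- import your own Cfsg.Agent.* helpers here

set_option autoImplicit false
open Cfsg

namespace Cfsg.Agent.S1378

/-- Let G be a minimal simple group of odd order. Then every prime dividing the order of G belongs to σ(M) for some maximal subgroup M, and if σ(M) and σ(N) have a prime in common for maximal subgroups M, N then N is conjugate to M; so the sets σ(M_i) over representatives of the conjugacy classes of maximal subgroups partition the prime divisors of #G. -/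
theorem result {G : Type*} [Group G] [Finite G] (hG : Cfsg.IsMinSimpleOddOrder G) :
    (∀ p : ℕ, p.Prime → p ∣ Nat.card G → ∃ M : Subgroup G, IsCoatom M ∧ p ∈ Cfsg.sigma M) ∧
      ∀ M N : Subgroup G, IsCoatom M → IsCoatom N → (Cfsg.sigma M ∩ Cfsg.sigma N).Nonempty → ∃ g : G, N = M.map (MulAut.conj g).toMonoidHom := by
  refine ⟨fun p hp hd => ?_, fun M N hM hN hne => ?_⟩
  · haveI := Fact.mk hp
    obtain ⟨P⟩ : Nonempty (Sylow p G) := inferInstance
    obtain ⟨M, hM, hPM, hNM⟩ := CfsgLib.MinSimpleOdd.exists_maximal_normalizer hG P (P.ne_bot_of_dvd_card hd)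
    refine ⟨M, hM, hp, (P.dvd_card_of_dvd_card hd).trans (Subgroup.card_dvd_of_le hPM), P.subtype hPM, ?_⟩
    rwa [Sylow.coe_subtype, Subgroup.map_subgroupOf_eq_of_le hPM]
  · obtain ⟨q, hqM, hqN⟩ := hne
    haveI := Fact.mk hqM.1
    exact CfsgLib.MinSimpleOdd.sigma_disjointness hG hM hN hqM hqN

end Cfsg.Agent.S1378
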