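import Cfsg.Statements.S1518
import Mathlib
import Cfsg.Agent.Lib.CharTheory.DadeVirtual
import Cfsg.Agent.Lib.CharTheory.TI
import Cfsg.Agent.Lib.CharTheory.Clifford
-- import your own Cfsg.Agent.* helpers here

set_option autoImplicit false
open Cfsg

namespace Cfsg.Agent.S1518

/-- Under the Dade hypothesis for (A, L, H): if χ is an irreducible character of L vanishing at every non-identity element of L outside A, then the Dade image of χ − conj χ equals μ − conj μ for some irreducible character μ of G. -/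
theorem result {G : Type*} [Group G] [Fintype G] (A : Set G) (L : Subgroup G) [Fintype L] (H : G → Subgroup G) (hD : Cfsg.DadeHypothesis A L H) (χ : L → ℂ) (hχ : Cfsg.IsIrrCharacter L χ) (hsupp : ∀ x : L, x ≠ 1 → (x : G) ∉ A → χ x = 0) : ∃ μ : G → ℂ, Cfsg.IsIrrCharacter G μ ∧ Cfsg.dadeIsometry A L H (χ - Cfsg.conjFun χ) = μ - Cfsg.conjFun μ := by
  classical
  open CfsgLib.CharTheory in
  by_cases hc : Cfsg.conjFun χ = χ
  · refine ⟨fun _ => 1, isIrrCharacter_one, ?_⟩
    rw [hc, sub_self]
    funext g
    simp [Cfsg.dadeIsometry, Cfsg.conjFun]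
  · have hc' : IsIrrCharacter L (Cfsg.conjFun χ) := isIrrCharacter_conjChar hχ
    obtain ⟨d, -, hd⟩ := irr_degree_pos hχ
    have hsuppα : ∀ x : L, (x : G) ∉ A → (χ - Cfsg.conjFun χ) x = 0 := fun x hx => by
      by_cases h1 : x = 1
      · subst h1; simp [Cfsg.conjFun, hd]
      · simp [Cfsg.conjFun, hsupp x h1 hx]
    have hgen := CfsgLib.Dade.isGenChar_dade hD (isGenChar_sub (isGenChar_of_char (isCharacter_of_irr hχ)) (isGenChar_of_char (isCharacter_of_irr hc'))) hsuppα
    have hcf := isClassFunction_sub (isClassFunction_irr hχ) (isClassFunction_irr hc')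
    have hone : Cfsg.dadeIsometry A L H (χ - Cfsg.conjFun χ) 1 = 0 := by
      rw [Cfsg.dadeIsometry, dif_neg]
      rintro ⟨a, ha, x, u, hu, he⟩
      rw [mul_one, mul_inv_cancel] at he
      have hau : (a : G) = u⁻¹ := eq_inv_of_mul_eq_one_left he.symm
      have hmem : (a : G) ∈ H (a : G) ⊓ (L ⊓ Subgroup.centralizer ({(a : G)} : Set G)) := ⟨by
        have e : u⁻¹ ∈ H (a : G) := inv_mem hu
        rwa [← hau] at e, a.2, Subgroup.mem_centralizer_iff.mpr fun y hy => by rw [Set.mem_singleton_iff.mp hy]⟩
      rw [hD.inf_eq_bot _ ha, Subgroup.mem_bot] at hmem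
      exact hD.one_not_mem (hmem ▸ ha)
    have hnorm : Cfsg.classInner (Cfsg.dadeIsometry A L H (χ - Cfsg.conjFun χ)) (Cfsg.dadeIsometry A L H (χ - Cfsg.conjFun χ)) = 2 := by
      rw [CfsgLib.Dade.classInner_dade_dade hD hcf hsuppα hcf, classInner_sub_left, classInner_sub_right, classInner_sub_right,
        classInner_irr_self hχ, classInner_irr_self hc', classInner_irr_ne hχ hc' (Ne.symm hc), classInner_irr_ne hc' hχ hc]
      norm_num
    obtain ⟨a, b, ha, hb, hab, he⟩ := exists_eq_irr_sub_irr hgen hnorm hone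
    refine ⟨a, ha, ?_⟩
    have ha' : IsIrrCharacter G (Cfsg.conjFun a) := isIrrCharacter_conjChar ha
    have hb' : IsIrrCharacter G (Cfsg.conjFun b) := isIrrCharacter_conjChar hb
    have hanti : a + Cfsg.conjFun a = b + Cfsg.conjFun b := by
      funext g
      have h1 := congrFun he g
      have h2 : (starRingEnd ℂ) (Cfsg.dadeIsometry A L H (χ - Cfsg.conjFun χ) g) = - Cfsg.dadeIsometry A L H (χ - Cfsg.conjFun χ) g := by
        simp only [Cfsg.dadeIsometry]
        split
        · simp [Cfsg.conjFun]
        · simp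
      rw [h1] at h2
      simp only [Pi.add_apply, Pi.sub_apply, Cfsg.conjFun, map_sub] at h2 ⊢
      linear_combination h2
    have h3 := congrArg (fun f => Cfsg.classInner f a) hanti
    simp only [classInner_add_left, classInner_irr_self ha, classInner_irr_ne hb ha (Ne.symm hab), classInner_irr ha' ha, classInner_irr hb' ha, zero_add] at h3
    by_cases hbb : Cfsg.conjFun b = a
    · rw [he, ← hbb]
      funext g
      simp [Cfsg.conjFun]
    · rw [if_neg hbb] at h3
      split at h3 <;> norm_num at h3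

end Cfsg.Agent.S1518
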