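import Cfsg.Statements.S1387
import Mathlib
import Cfsg.Agent.Lib.OddLocal.FittingHall
-- import your own Cfsg.Agent.* helpers here

set_option autoImplicit false
open Cfsg

namespace Cfsg.Agent.S1387

/-- Let M be a subgroup of a finite group G with type-P data (W₁, U, W₂) and H = M_F. Then the Fitting subgroup F(M) is generated by H and the centralizer of H in U. -/
theorem result {G : Type*} [Group G] [Finite G] (M W₁ U W₂ : Subgroup G) (hP : Cfsg.IsTypePWith M W₁ U W₂) :
    Cfsg.fittingOf M = Cfsg.fittingHallOf M ⊔ (U ⊓ Subgroup.centralizer (Cfsg.fittingHallOf M : Set G)) := by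
  classical
  obtain ⟨hHM', hUM', hinf, hdec⟩ := hP.U_compl
  have hM'M : ⁅M, M⁆ ≤ M := Subgroup.commutator_le.mpr fun a ha b hb => mul_mem (mul_mem (mul_mem ha hb) (inv_mem ha)) (inv_mem hb)
  refine le_antisymm ?_ (sup_le (hP.fitting_eq ▸ le_sup_left) (hP.fitting_eq ▸ (inf_le_inf_right _ (hUM'.trans hM'M)).trans le_sup_right))
  intro z hz
  obtain ⟨h, hh, u, hu, rfl⟩ := hdec z (hP.fitting_le hz)
  refine mul_mem (Subgroup.mem_sup_left hh) (Subgroup.mem_sup_right (Subgroup.mem_inf.mpr ⟨hu, ?_⟩))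
  have huF : u ∈ Cfsg.fittingOf M := by
    have := mul_mem (inv_mem ((hP.fitting_eq ▸ le_sup_left : Cfsg.fittingHallOf M ≤ _) hh)) hz
    rwa [inv_mul_cancel_left] at this
  obtain ⟨u', hu', rfl⟩ := Subgroup.mem_map.mp huF
  rw [Subgroup.mem_centralizer_iff]
  rintro _ ⟨k, hk, rfl⟩
  refine (congrArg Subtype.val (CfsgLib.FittingHall.centralizes_of_coprime hu' ?_ k hk)).symm
  -- the order of `U` is prime to that of `M_F`
  have hcop := CfsgLib.FittingHall.fittingHall_coprime (M := M)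
  refine (hcop.coprime_dvd_right ?_).symm
  let φ : U →* M ⧸ Cfsg.fittingHall M := (QuotientGroup.mk' _).comp (Subgroup.inclusion (hUM'.trans hM'M))
  have hφ : Function.Injective φ := by
    rw [← MonoidHom.ker_eq_bot_iff, Subgroup.eq_bot_iff_forall]
    intro v hv
    have : (v : G) ∈ Cfsg.fittingHallOf M := ⟨_, (QuotientGroup.eq_one_iff _).mp hv, rfl⟩
    exact Subtype.ext (Subgroup.mem_bot.mp (hinf ▸ Subgroup.mem_inf.mpr ⟨this, v.2⟩))
  rw [← Subgroup.orderOf_coe, show orderOf (u' : G) = orderOf (⟨(u' : G), hu⟩ : U) from (Subgroup.orderOf_mk ..).symm]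
  exact (orderOf_dvd_natCard _).trans (Subgroup.card_dvd_of_injective φ hφ)

end Cfsg.Agent.S1387
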