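import Cfsg.Statements.S1376
import Mathlib
import Cfsg.Agent.Lib.MinSimpleOdd.SigmaOverFrobenius
-- import your own Cfsg.Agent.* helpers here

set_option autoImplicit false
open Cfsg

namespace Cfsg.Agent.S1376

/-- Let G be a minimal simple group of odd order, M a maximal subgroup, x ≠ 1 in M_σ with C_G(x) not contained in M, and N a maximal subgroup containing C_G(x) with κ(N) nonempty. Then κ(M) is empty, M has a cyclic Frobenius complement (M is a Frobenius group), and M_F is not a TI-subset of G. -/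
theorem result {G : Type*} [Group G] [Finite G] (hG : Cfsg.IsMinSimpleOddOrder G)
    (M : Subgroup G) (hM : IsCoatom M) (x : G) (hx : x ∈ Cfsg.sigmaCore M) (hx1 : x ≠ 1) (hxM : ¬ Subgroup.centralizer ({x} : Set G) ≤ M)
    (N : Subgroup G) (hN : IsCoatom N) (hxN : Subgroup.centralizer ({x} : Set G) ≤ N) (hkN : (Cfsg.kappa N).Nonempty) :
    Cfsg.kappa M = ∅ ∧ (∃ E : Subgroup ↥M, Cfsg.IsFrobeniusComplement E ∧ IsCyclic E) ∧ ¬ Cfsg.IsTISubset (Cfsg.fittingHallOf M : Set G) := by
  open scoped Pointwise in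
  open CfsgLib.MinSimpleOdd in
  exact (by
    obtain ⟨N₀, h₀⟩ := exists_sigmaOver hG hM hx hx1 hxM
    obtain rfl := h₀.uniq N hN hxN
    obtain ⟨hκ, hnil, E, hE, hE1, hEc, hfpf⟩ := h₀.frobenius_cyclic hG hM hx hx1 hkN
    haveI := hEc
    refine ⟨hκ, ⟨E.subgroupOf M, isFrobeniusComplement_of_fpf hE (le_normalizer_sigmaCore hG hM hE.1) hE1
      (sigmaCore_ne_bot hG hM) hfpf, isCyclic_of_surjective (Subgroup.subgroupOfEquivOfLe hE.1).symm.toMonoidHom
        (MulEquiv.surjective _)⟩, fun hti => ?_⟩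
    rw [fittingHallOf_eq hG hM hnil] at hti
    obtain ⟨c, hc, hcM⟩ := SetLike.not_le_iff_exists.mp hxM
    have hne : Subgroup.normalizer (Cfsg.sigmaCore M : Set G) = M :=
      (hM.le_iff.mp (le_normalizer_sigmaCore hG hM le_rfl)).resolve_left
        (normalizer_ne_top hG (sigmaCore_ne_bot hG hM) fun e => hM.1 (top_le_iff.mp (e.ge.trans (piCoreOf_le _ _))))
    refine hx1 (hti c (fun h => hcM (hne ▸ h)) x hx ?_)
    rwa [Subgroup.mem_centralizer_singleton_iff.mp hc, mul_inv_cancel_right])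

end Cfsg.Agent.S1376
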