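import Cfsg.Statements.S1472
import Mathlib
import Cfsg.Agent.Lib.OddLocal.FieldConfig
-- import your own Cfsg.Agent.* helpers here

set_option autoImplicit false
open Cfsg

namespace Cfsg.Agent.S1472

/-- Let p, q be primes with (p^q − 1)/(p − 1) coprime to p − 1, G a finite group, F a field with p ^ q elements, and P, U, Q subgroups of G with: f : G → F bijective from P onto F and additive on P; U normalizing P and acting through ψ : G → F, injective and multiplicative on U with ψ(u) ≠ 0 and f(uxu⁻¹) = ψ(u) f(x); #U · (p − 1) = p^q − 1; Q abelian of order coprime to p, normalized by every x ∈ P with f(x) in the prime field; and some y ∈ Q such that y x y⁻¹ normalizes U for every such x. Then p ≤ q. -/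
theorem result {G : Type*} [Group G] [Finite G] (p q : ℕ) [Fact p.Prime] [Fact q.Prime] (hA : Nat.Coprime ((p ^ q - 1) / (p - 1)) (p - 1))
    (F : Type*) [Field F] [Fintype F] (hF : Fintype.card F = p ^ q) (P U Q : Subgroup G) (f ψ : G → F)
    (hf : Set.BijOn f (P : Set G) Set.univ) (hfadd : ∀ x ∈ P, ∀ z ∈ P, f (x * z) = f x + f z)
    (hUP : U ≤ Subgroup.normalizer (P : Set G)) (hψ : ∀ u ∈ U, ψ u ≠ 0 ∧ ∀ x ∈ P, f (u * x * u⁻¹) = ψ u * f x)
    (hψmul : ∀ u ∈ U, ∀ v ∈ U, ψ (u * v) = ψ u * ψ v) (hψinj : Set.InjOn ψ (U : Set G)) (hUcard : Nat.card U * (p - 1) = p ^ q - 1)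
    (hQ : IsMulCommutative Q) (hQp : (Nat.card Q).Coprime p) (hP0Q : ∀ x ∈ P, f x ^ p = f x → x ∈ Subgroup.normalizer (Q : Set G))
    (y : G) (hy : y ∈ Q) (hP0U : ∀ x ∈ P, f x ^ p = f x → y * x * y⁻¹ ∈ Subgroup.normalizer (U : Set G)) :
    p ≤ q := by
  classical
  have hp : p.Prime := Fact.out
  have hq : q.Prime := Fact.out
  haveI : CharP F p := charP_of_card_eq_prime_pow (f := q) hF
  choose g hgP hgf using fun a : F => hf.surjOn (Set.mem_univ a)
  have hg : ∀ a b, g (a + b) = g a * g b := fun a b =>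
    hf.injOn (hgP _) (P.mul_mem (hgP a) (hgP b)) (by rw [hfadd _ (hgP a) _ (hgP b), hgf, hgf, hgf])
  have hact : ∀ u ∈ U, ∀ x, u * g x * u⁻¹ = g (ψ u * x) := fun u hu x =>
    hf.injOn ((Subgroup.mem_normalizer_iff.mp (hUP hu) _).mp (hgP x)) (hgP _)
      (by rw [(hψ u hu).2 _ (hgP x), hgf, hgf])
  have hfix : ∀ x : F, x ^ p = x → f (g x) ^ p = f (g x) := fun x hx => by rw [hgf, hx]
  have hn : (p ^ q - 1) / (p - 1) = Nat.card U :=
    Nat.div_eq_of_eq_mul_left (by have := hp.two_le; omega) hUcard.symm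
  let C : CfsgLib.FieldConfig.Conf G F p q :=
    { φ := g
      φ_add := hg
      φ_inj := fun a b h => by rw [← hgf a, ← hgf b, h]
      U := U
      ψ := ψ
      act := hact
      ψ_mul := hψmul
      ψ_inj := hψinj
      ψ_ne := fun u hu => (hψ u hu).1
      card_U := hUcard
      coprime_U := hn ▸ hA
      Q := Q
      Q_comm := fun a ha b hb => congrArg Subtype.val (mul_comm' (⟨a, ha⟩ : Q) ⟨b, hb⟩)
      Q_coprime := hQp
      norm_Q := fun x hx a ha => (Subgroup.mem_normalizer_iff.mp (hP0Q _ (hgP x) (hfix x hx)) a).mp ha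
      y := y
      y_mem := hy
      norm_U := fun x hx u hu => (Subgroup.mem_normalizer_iff.mp (hP0U _ (hgP x) (hfix x hx)) u).mp hu }
  exact CfsgLib.FieldConfig.p_le_q C hF hq

end Cfsg.Agent.S1472
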