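import Cfsg.Statements.S5048
import Mathlib
import Cfsg.Agent.Lib.RootSub.RootClass
import Cfsg.Agent.Lib.Basic
-- import your own Cfsg.Agent.* helpers here

set_option autoImplicit false
open Cfsg

namespace Cfsg.Agent.S5048

open Cfsg CfsgLib.RootInv

section
variable {G : Type*} [Group G] [Finite G] {D : Set G}

theorem main (hD : Cfsg.IsRootInvolutionSet D) (hc : Cfsg.IsConnectedSet (Cfsg.OddAdj D) D)
    (hDD : (D ∩ Cfsg.commutingProducts D).Nonempty) :
    Cfsg.solvableRadical G = Cfsg.twoZCore G ∧ IsSimpleGroup (G ⧸ Cfsg.twoZCore G) := by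
  obtain ⟨c₀, hc₀, a₀, ha₀, b₀, hb₀, hab₀, -, ec₀⟩ := hDD
  subst ec₀
  -- a normal subgroup containing a member is everything
  have hfull : ∀ N : Subgroup G, N.Normal → ∀ d ∈ D, d ∈ N → N = ⊤ := by
    intro N hN d hd hdN
    rw [eq_top_iff, ← hD.generates, Subgroup.closure_le]
    intro e he
    obtain ⟨g, rfl⟩ := conj_of_connected hD hc hd he
    exact hN.conj_mem d hdN g
  -- the key statement
  have hle : ∀ N : Subgroup G, N.Normal → N ≠ ⊤ → N ≤ Cfsg.twoZCore G := by
    intro N hN hNtop
    haveI := hN
    have hND : ∀ d ∈ D, d ∉ N := fun d hd hdN => hNtop (hfull N hN d hd hdN)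
    set q := QuotientGroup.mk' N with hq
    have hq1 : ∀ x, q x = 1 ↔ x ∈ N := fun x => QuotientGroup.eq_one_iff x
    -- congruent members commute
    have hcomm : ∀ a ∈ D, ∀ x ∈ D, q a = q x → a * x = x * a := by
      intro a ha x hx hax
      obtain ⟨g, hg⟩ := conj_of_connected hD hc ha₀ ha
      set b := g * b₀ * g⁻¹ with hbdef
      set c := g * (a₀ * b₀) * g⁻¹ with hcdef
      have hb : b ∈ D := hD.conj_mem b₀ hb₀ g
      have hc' : c ∈ D := hD.conj_mem _ hc₀ g
      have hab : a * b = c := by rw [hg, hbdef, hcdef]; group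
      have hba : b * a = c := by
        calc b * a = g * (b₀ * a₀) * g⁻¹ := by rw [hg, hbdef]; group
          _ = c := by rw [← hab₀, hcdef]
      have hac : a * c = b := by rw [← hab, ← mul_assoc, mul_self hD ha, one_mul]
      have hca : c * a = b := by rw [← hba, mul_assoc, mul_self hD ha, mul_one]
      -- `x` commutes with `b` and with `c`
      have step : ∀ b' c' : G, b' ∈ D → c' ∈ D → a * b' = c' → x * b' = b' * x := by
        intro b' c' hb' hc'' e
        have hqxb : q (x * b') = q c' := by rw [map_mul, ← hax, ← map_mul, e]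
        rcases hD.pair x hx b' hb' with h | ⟨k, hk⟩ | ⟨-, h⟩
        · exact h
        · exfalso
          refine hND c' hc'' ((hq1 c').mp ?_)
          have h1 : q c' ^ (2 * k + 1) = 1 := by
            rw [← hqxb, ← map_pow, ← hk, pow_orderOf_eq_one, map_one]
          have h2 : q c' * q c' = 1 := by rw [← map_mul, mul_self hD hc'', map_one]
          rwa [pow_succ, pow_mul, sq, h2, one_pow, one_mul] at h1
        · exfalso
          refine hND _ h ((hq1 _).mp ?_)
          rw [sq, map_mul, hqxb, ← map_mul, mul_self hD hc'', map_one]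
      have hxb : x * b = b * x := step b c hb hc' hab
      have hxc : x * c = c * x := step c b hc' hb hac
      have e : a = b * c := by
        rw [← hba, ← mul_assoc, mul_self hD hb, one_mul]
      rw [e]
      exact ((show Commute x b from hxb).mul_right (show Commute x c from hxc)).symm.eq
    -- the elementary abelian normal two-subgroups of `N`
    have hsub : ∀ a ∈ D, ∀ n ∈ N, a * n * a⁻¹ * n⁻¹ ∈ Cfsg.pCore 2 G := by
      intro a ha n hn
      let C : Set G := {x | x ∈ D ∧ q x = q a}
      let P : Subgroup G := Subgroup.closure C ⊓ N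
      have hPcomm : ∀ x ∈ Subgroup.closure C, x * x = 1 ∧ ∀ y ∈ Subgroup.closure C, x * y = y * x := by
        intro x hx
        have hc2 : ∀ z ∈ C, Subgroup.closure C ≤ Subgroup.centralizer {z} := fun z hz => by
          rw [Subgroup.closure_le]
          intro w hw
          exact Subgroup.mem_centralizer_singleton_iff.mpr
            (hcomm w hw.1 z hz.1 (hw.2.trans hz.2.symm))
        induction hx using Subgroup.closure_induction with
        | mem z hz => exact ⟨mul_self hD hz.1, fun y hy => (Subgroup.mem_centralizer_singleton_iff.mp (hc2 z hz hy)).symm⟩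
        | one => exact ⟨mul_one 1, fun y _ => by rw [one_mul, mul_one]⟩
        | mul u v hu hv h1 h2 =>
          refine ⟨?_, fun y hy => ?_⟩
          · calc u * v * (u * v) = u * (v * u) * v := by group
              _ = u * (u * v) * v := by rw [h2.2 u hu]
              _ = (u * u) * (v * v) := by group
              _ = 1 := by rw [h1.1, h2.1, one_mul]
          · exact ((show Commute u y from h1.2 y hy).mul_left (h2.2 y hy)).eq
        | inv u hu h1 =>
          exact ⟨by rw [← mul_inv_rev, h1.1, inv_one], fun y hy => ((show Commute u y from h1.2 y hy).inv_left).eq⟩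
      have hnormP : (P.subgroupOf N).Normal := by
        refine ⟨fun z hz m => ?_⟩
        rw [Subgroup.mem_subgroupOf] at hz ⊢
        refine ⟨?_, N.mul_mem (N.mul_mem m.2 z.2) (N.inv_mem m.2)⟩
        have hle' : Subgroup.closure C ≤ (Subgroup.closure C).comap (MulAut.conj m.1).toMonoidHom := by
          rw [Subgroup.closure_le]
          intro w hw
          refine Subgroup.subset_closure ⟨hD.conj_mem w hw.1 m.1, ?_⟩
          have hm : q m.1 = 1 := (hq1 _).mpr m.2
          simp [hm, hw.2]
        have := hle' hz.1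
        simpa using this
      have h2 : IsPGroup 2 (P.subgroupOf N) := fun z => ⟨1, by
        apply Subtype.ext; apply Subtype.ext
        have := (hPcomm z.1.1 (Subgroup.mem_subgroupOf.mp z.2).1).1
        simpa [sq] using this⟩
      have hP : P ≤ Cfsg.pCore 2 G := by
        intro z hz
        have h3 : (⟨z, hz.2⟩ : N) ∈ Cfsg.pCore 2 N := CfsgLib.le_pCore (hN := hnormP) h2 (Subgroup.mem_subgroupOf.mpr hz)
        exact CfsgLib.map_pCore_le 2 N ⟨_, h3, rfl⟩
      refine hP ⟨?_, ?_⟩
      · have e : a * n * a⁻¹ * n⁻¹ = a * (n * a * n⁻¹) := by rw [inv_eq hD ha]; group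
        rw [e]
        refine mul_mem (Subgroup.subset_closure ⟨ha, rfl⟩) (Subgroup.subset_closure ⟨hD.conj_mem a ha n, ?_⟩)
        simp [(hq1 n).mpr hn]
      · exact N.mul_mem (hN.conj_mem n hn a) (N.inv_mem hn)
    intro n hn
    rw [Cfsg.twoZCore, Subgroup.mem_comap, Subgroup.mem_center_iff]
    intro g
    induction g using QuotientGroup.induction_on with
    | H g =>
      have hle' : Subgroup.closure D ≤
          (Subgroup.centralizer {QuotientGroup.mk' (Cfsg.pCore 2 G) n}).comap (QuotientGroup.mk' (Cfsg.pCore 2 G)) := by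
        rw [Subgroup.closure_le]
        intro a ha
        rw [SetLike.mem_coe, Subgroup.mem_comap, Subgroup.mem_centralizer_singleton_iff, ← map_mul, ← map_mul,
          ← mul_inv_eq_one, ← map_inv, ← map_mul]
        refine (QuotientGroup.eq_one_iff _).mpr ?_
        rw [show a * n * (n * a)⁻¹ = a * n * a⁻¹ * n⁻¹ by group]
        exact hsub a ha n hn
      rw [hD.generates] at hle'
      exact Subgroup.mem_centralizer_singleton_iff.mp (hle' (Subgroup.mem_top g))
  -- the group is perfect, hence not soluble
  have hperf : commutator G = ⊤ := by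
    refine hfull _ inferInstance _ hc₀ ?_
    obtain ⟨g, hg⟩ := conj_of_connected hD hc ha₀ hb₀
    have : a₀ * b₀ = a₀ * g * a₀⁻¹ * g⁻¹ := by rw [hg, inv_eq hD ha₀]; group
    rw [this, ← commutatorElement_def]
    exact Subgroup.commutator_mem_commutator (Subgroup.mem_top _) (Subgroup.mem_top _)
  have hnt : Nontrivial G := ⟨⟨a₀, 1, ne_one hD ha₀⟩⟩
  have hnsol : ¬ Group.IsSolvable G := fun h => by
    haveI := h
    exact (Group.IsSolvable.commutator_lt_top_of_nontrivial G).ne hperf
  have hsolv : Group.IsSolvable ↥(Cfsg.twoZCore G) := by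
    haveI : Fact (Nat.Prime 2) := ⟨Nat.prime_two⟩
    haveI := (CfsgLib.isPGroup_pCore (G := G) 2).isNilpotent
    let f : ↥(Cfsg.twoZCore G) →* ↥(Subgroup.center (G ⧸ Cfsg.pCore 2 G)) :=
      (QuotientGroup.mk' (Cfsg.pCore 2 G)).subgroupComap _
    haveI : Group.IsSolvable ↥(Subgroup.center (G ⧸ Cfsg.pCore 2 G)) := Group.isSolvable_of_comm fun x y => mul_comm' x y
    let g : ↥(Cfsg.pCore 2 G) →* ↥(Cfsg.twoZCore G) := Subgroup.inclusion (fun z hz => by
      rw [Cfsg.twoZCore, Subgroup.mem_comap, show QuotientGroup.mk' (Cfsg.pCore 2 G) z = 1 from (QuotientGroup.eq_one_iff z).mpr hz]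
      exact one_mem _)
    refine Group.isSolvable_of_ker_le_range g f fun z hz => ?_
    rw [MonoidHom.mem_ker] at hz
    exact ⟨⟨z.1, (QuotientGroup.eq_one_iff z.1).mp (congrArg Subtype.val hz)⟩, Subtype.ext rfl⟩
  have hne : Cfsg.twoZCore G ≠ ⊤ := fun e => by
    apply hnsol
    rw [e] at hsolv
    haveI := hsolv
    exact Group.isSolvable_of_surjective (f := (⊤ : Subgroup G).subtype) fun x => ⟨⟨x, Subgroup.mem_top x⟩, rfl⟩
  refine ⟨le_antisymm (sSup_le fun N hN => hle N hN.1 fun e => ?_) (le_sSup ⟨inferInstance, hsolv⟩), ?_⟩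
  · apply hnsol
    haveI := hN.2
    subst e
    exact Group.isSolvable_of_surjective (f := (⊤ : Subgroup G).subtype) fun x => ⟨⟨x, Subgroup.mem_top x⟩, rfl⟩
  · haveI : Nontrivial (G ⧸ Cfsg.twoZCore G) := QuotientGroup.nontrivial_iff.mpr hne
    refine ⟨fun K hK => ?_⟩
    by_cases h : K.comap (QuotientGroup.mk' (Cfsg.twoZCore G)) = ⊤
    · right
      rw [← Subgroup.map_comap_eq_self_of_surjective (QuotientGroup.mk'_surjective _) K, h,
        Subgroup.map_top_of_surjective _ (QuotientGroup.mk'_surjective _)]
    · left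
      have := hle _ (hK.comap _) h
      rw [← Subgroup.map_comap_eq_self_of_surjective (QuotientGroup.mk'_surjective _) K, eq_bot_iff]
      rintro _ ⟨z, hz, rfl⟩
      exact Subgroup.mem_bot.mpr ((QuotientGroup.eq_one_iff z).mpr (this hz))

end

/-- Let G be a finite group generated by a set D of root involutions whose odd-order-product graph is connected, with some product of two different commuting members of D again in D. Then the largest solvable normal subgroup of G is the preimage of the centre of G/O₂(G), and the quotient of G by it is a simple group. -/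
theorem result {G : Type*} [Group G] [Finite G] {D : Set G} (hD : Cfsg.IsRootInvolutionSet D)
    (hc : Cfsg.IsConnectedSet (Cfsg.OddAdj D) D) (hDD : (D ∩ Cfsg.commutingProducts D).Nonempty) :
    Cfsg.solvableRadical G = Cfsg.twoZCore G ∧ IsSimpleGroup (G ⧸ Cfsg.twoZCore G) := by
  exact main hD hc hDD

end Cfsg.Agent.S5048
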