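import Cfsg.Statements.S2279
import Cfsg.Agent.Lib.SLGen.TwoRegRegular
import Mathlib.Data.ZMod.Basic

set_option autoImplicit false
open Cfsg

namespace Cfsg.Agent.S2279

/-- Let F be a finite field with q elements and n ≥ 4. Then SL_n(F) is generated by two regular unipotent elements (elements u with u − 1 nilpotent and (u − 1)^(n−1) ≠ 0); if q is prime, the two can be taken conjugate in SL_n(F). -/
theorem result {F : Type*} [Field F] [Fintype F] (n : ℕ) (hn : 4 ≤ n) :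
    (∃ u v : Matrix.SpecialLinearGroup (Fin n) F, (IsNilpotent ((u : Matrix (Fin n) (Fin n) F) - 1) ∧ ((u : Matrix (Fin n) (Fin n) F) - 1) ^ (n - 1) ≠ 0) ∧ (IsNilpotent ((v : Matrix (Fin n) (Fin n) F) - 1) ∧ ((v : Matrix (Fin n) (Fin n) F) - 1) ^ (n - 1) ≠ 0) ∧
      Subgroup.closure ({u, v} : Set (Matrix.SpecialLinearGroup (Fin n) F)) = ⊤) ∧
    ((Fintype.card F).Prime → ∃ u g : Matrix.SpecialLinearGroup (Fin n) F, (IsNilpotent ((u : Matrix (Fin n) (Fin n) F) - 1) ∧ ((u : Matrix (Fin n) (Fin n) F) - 1) ^ (n - 1) ≠ 0) ∧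
      Subgroup.closure ({u, g * u * g⁻¹} : Set (Matrix.SpecialLinearGroup (Fin n) F)) = ⊤) := by
  classical
  obtain ⟨d, rfl⟩ : ∃ d, n = d + 4 := ⟨n - 4, by omega⟩
  obtain ⟨t, ht, hsq, hW⟩ := CfsgLib.TwoBlock.exists_singer F
  have hs : t - 2 ≠ 0 := sub_ne_zero.mpr ht
  have hW2 : CfsgLib.TwoBlock.Singer (CfsgLib.SLGen2.W2 (t - 2)) := by
    obtain ⟨h1, h2, h3⟩ := CfsgLib.SLGen2.W2_facts hs
    exact hW _ h1 (by rw [h2]; ring) h3
  refine ⟨?_, fun hp => ?_⟩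
  · refine ⟨CfsgLib.SLGen2.uS (t - 2), CfsgLib.SLGen2.vS (-(t - 2) ^ 2),
      CfsgLib.SLGen2.uS_regular hs,
      CfsgLib.SLGen2.vS_regular (neg_ne_zero.mpr (pow_ne_zero 2 hs)),
      CfsgLib.SLGen2.generate hs (neg_ne_zero.mpr (pow_ne_zero 2 hs)) hW2 ⟨1, ?_⟩⟩
    rw [neg_div, neg_neg, Nat.cast_one, one_mul, div_self (pow_ne_zero 2 hs)]
  · obtain ⟨σ, hσ⟩ := hsq hp
    have hσ0 : σ ≠ 0 := fun h => hs (by rw [hσ, h, mul_zero])
    have hprime : ∃ k : ℕ, (k : F) * -(σ / (t - 2) ^ 2) = 1 := by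
      obtain ⟨p, hchar⟩ := CharP.exists F
      obtain ⟨f, hpp, hcard⟩ := FiniteField.card F p
      haveI := Fact.mk hpp
      have hqp : Fintype.card F = p := ((Nat.prime_dvd_prime_iff_eq hpp hp).mp
        (hcard ▸ dvd_pow_self p (PNat.ne_zero f))).symm
      have hbij : Function.Bijective (ZMod.castHom dvd_rfl F : ZMod p →+* F) :=
        (Fintype.bijective_iff_injective_and_card _).mpr
          ⟨RingHom.injective _, by rw [ZMod.card, hqp]⟩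
      obtain ⟨k, hk⟩ := hbij.2 (-(σ / (t - 2) ^ 2))⁻¹
      refine ⟨k.val, ?_⟩
      rw [show ((k.val : ℕ) : F) = (ZMod.castHom dvd_rfl F : ZMod p →+* F) k by
        rw [ZMod.castHom_apply, ZMod.cast_eq_val]]
      rw [hk, inv_mul_cancel₀ (neg_ne_zero.mpr (div_ne_zero hσ0 (pow_ne_zero 2 hs)))]
    obtain ⟨g, hg⟩ := isConj_iff.mp (CfsgLib.SLGen2.isConj_uS_vS (d := d) hσ0)
    refine ⟨CfsgLib.SLGen2.uS (t - 2), g, CfsgLib.SLGen2.uS_regular hs, ?_⟩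
    rw [hσ] at hW2 hprime ⊢
    rw [hg]
    exact CfsgLib.SLGen2.generate (mul_ne_zero hσ0 hσ0) hσ0 hW2 hprime

end Cfsg.Agent.S2279
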