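import Cfsg.Statements.S4717
import Cfsg.Agent.Lib.Blocks.MaxPairs
import Cfsg.Agent.Lib.Blocks.PairDefect
import Cfsg.Agent.Lib.Blocks.SecondMain
import Cfsg.Agent.Lib.Blocks.Induced
import Cfsg.Agent.Lib.Blocks.Principal
import Cfsg.Agent.Lib.Blocks.FirstMain
-- import your own Cfsg.Agent.* helpers here

set_option autoImplicit false
open Cfsg

namespace Cfsg.Agent.S4717

open CfsgLib.Blocks CfsgLib.CharTheory

set_option linter.style.haveILetI false
set_option linter.unusedSimpArgs false


/-- Let p be a prime, M a maximal ideal of the algebraic integers containing p, and r a natural number; say that a finite group X has deficiency class r when X has no non-principal p-block of defect ≥ r. If G has deficiency class r then so does the centralizer of every p-element of G; conversely, if r > 0 and the centralizer of every element of order p has deficiency class r, then G has deficiency class r. -/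
theorem result {G : Type*} [Group G] [Finite G] (p : ℕ) [Fact p.Prime] (M : Ideal Cfsg.AlgInt) (hM : Cfsg.IsPModular p M) (r : ℕ) : ((∀ B' : Set (Cfsg.IrrCharacter G), Cfsg.IsPBlock M B' → B' ≠ Cfsg.principalBlock M G → Cfsg.blockDefect p B' < r) → ∀ y : G, (∃ k : ℕ, orderOf y = p ^ k) → (∀ B' : Set (Cfsg.IrrCharacter ↥(Subgroup.centralizer ({y} : Set G))), Cfsg.IsPBlock M B' → B' ≠ Cfsg.principalBlock M ↥(Subgroup.centralizer ({y} : Set G)) → Cfsg.blockDefect p B' < r)) ∧ (0 < r → (∀ y : G, orderOf y = p → (∀ B' : Set (Cfsg.IrrCharacter ↥(Subgroup.centralizer ({y} : Set G))), Cfsg.IsPBlock M B' → B' ≠ Cfsg.principalBlock M ↥(Subgroup.centralizer ({y} : Set G)) → Cfsg.blockDefect p B' < r)) → (∀ B' : Set (Cfsg.IrrCharacter G), Cfsg.IsPBlock M B' → B' ≠ Cfsg.principalBlock M G → Cfsg.blockDefect p B' < r)) := by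
  classical
  letI := Fintype.ofFinite G
  constructor
  · intro h y hy b hb hne
    set H := Subgroup.centralizer ({y} : Set G) with hH
    haveI := Fintype.ofFinite H
    have hc := isCentr_singleton (G := G) y
    obtain ⟨ξ, hξ⟩ := block_nonempty hM hb
    obtain ⟨χ, hχ⟩ := exists_induced_centr hM hc hy ξ
    have hind := isInducedBlock_of_congr H hM hb (blockOf_isPBlock χ) hξ (mem_blockOf_self hM χ) hχ
    have hBne : blockOf M (χ : G → ℂ) ≠ principalBlock M G := by
      intro he
      rw [he] at hind
      have h1 : ξ ∈ overBlocks M H (principalBlock M G) := by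
        show IsInducedBlock M H (blockOf M (ξ : H → ℂ)) (principalBlock M G)
        rwa [← eq_blockOf hM hb hξ]
      rw [overBlocks_principal hM hc hy] at h1
      exact hne ((eq_blockOf hM hb hξ).trans (eq_blockOf hM principalBlock_isPBlock h1).symm)
    obtain ⟨D, hD⟩ := exists_defectGroup hM hb
    obtain ⟨E, hE, hle⟩ := defect_le_of_induced hM hind hD
    have h1 := Subgroup.card_le_of_le hle
    rw [Subgroup.card_map_of_injective (Subgroup.subtype_injective _),
      card_defectGroup hM hb hD, card_defectGroup hM hind.2.1 hE] at h1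
    exact lt_of_le_of_lt ((Nat.pow_le_pow_iff_right hM.1.one_lt).1 h1) (h _ hind.2.1 hBne)
  · intro hr h B hB hne
    by_contra hlt
    obtain ⟨D, hD⟩ := exists_defectGroup hM hB
    have hDp := defectGroup_isPGroup hD
    have hcard := card_defectGroup hM hB hD
    obtain ⟨e, hmax⟩ := exists_maximal_at hM hB hD
    haveI : Nontrivial D := (hDp.nontrivial_iff_card).2 ⟨_, by omega, hcard⟩
    haveI := hDp.center_nontrivial
    obtain ⟨k, hk, hk'⟩ := ((hDp.to_subgroup (Subgroup.center D)).nontrivial_iff_card).1 inferInstance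
    obtain ⟨z, hz⟩ := exists_prime_orderOf_dvd_card' p (hk' ▸ dvd_pow_self p hk.ne')
    set y : G := ((z : D) : G) with hy
    have hyo : orderOf y = p := by rw [hy, Subgroup.orderOf_coe, Subgroup.orderOf_coe, hz]
    set Q := Subgroup.zpowers y with hQ
    have hQD : Q ≤ D := Subgroup.zpowers_le.2 (z : D).2
    obtain ⟨f, ⟨hf, hle⟩, -⟩ := existsUnique_subpair hM hDp hmax.1.1.2 Q hQD
    have hpair := (pairOf_subpair_iff hM (a := ⟨Q, f⟩) (b := ⟨D, e⟩) hle B).2 hmax.1
    have hfne : f ≠ principalBlock M _ := by
      intro he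
      exact hne (pairOf_block_unique hM hpair ((pairOf_principal_iff hM hpair.1.1 hf).2 he))
    have hDC : D ≤ Subgroup.centralizer (Q : Set G) := by
      intro d hd
      refine (isCentr_zpowers (G := G) y d).2 ?_
      have h1 := Subgroup.mem_center_iff.1 z.2 ⟨d, hd⟩
      exact congrArg Subtype.val h1
    have hb := card_centP_le hM hDp hQD hf hmax.1.1.2 hle
    rw [inf_eq_left.2 hDC, hcard] at hb
    have hd := (Nat.pow_le_pow_iff_right hM.1.one_lt).1 hb
    have key : ∀ H : Subgroup G, H = Subgroup.centralizer ({y} : Set G) →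
        ∀ B' : Set (IrrCharacter H), IsPBlock M B' → B' ≠ principalBlock M H →
          blockDefect p B' < r := by
      rintro H rfl
      exact h y hyo
    have := key _ (by
      ext g
      rw [Subgroup.mem_centralizer_singleton_iff, isCentr_zpowers (G := G) y g]; exact Iff.rfl)
      f hf hfne
    omega

end Cfsg.Agent.S4717
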