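import Cfsg.Statements.S4733
import Cfsg.Agent.Lib.Blocks.Rank
import Cfsg.Agent.Lib.Blocks.Proj

set_option autoImplicit false
set_option linter.style.haveILetI false
open Cfsg

namespace Cfsg.Agent.S4733

open CfsgLib.Blocks CfsgLib.CharTheory

/-- Let p be a prime, M a maximal ideal of the algebraic integers containing p, and B a p-block of the finite group G with k irreducible characters and p-regular rank l (the number of irreducible Brauer characters). Then l ≤ k, and the following are equivalent: B has defect 0; k = l = 1; k = l. -/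
theorem result {G : Type*} [Group G] [Finite G] (p : ℕ) [Fact p.Prime] (M : Ideal Cfsg.AlgInt) (hM : Cfsg.IsPModular p M) (B : Set (Cfsg.IrrCharacter G)) (hB : Cfsg.IsPBlock M B) : Cfsg.blockRank p B ≤ Nat.card B ∧ (Cfsg.blockDefect p B = 0 ↔ (Nat.card B = 1 ∧ Cfsg.blockRank p B = 1)) ∧ (Cfsg.blockDefect p B = 0 ↔ Nat.card B = Cfsg.blockRank p B) := by
  classical
  haveI := Fintype.ofFinite G
  have hp : p.Prime := Fact.out
  have hd0 : ∀ χ ∈ B, (Cfsg.blockDefect p B = 0 → B = {χ}) ∧
      (B = {χ} → Cfsg.blockDefect p B = 0) := by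
    intro χ hχ
    have hBχ := eq_blockOf hM hB hχ
    refine ⟨fun h => ?_, fun h => ?_⟩
    · rw [hBχ, ← defect_zero_iff hM χ]
      rw [blockDefect_eq] at h
      have h1 := minDv_le (p := p) hχ
      have h2 := minDv_le_card hM hB
      rcases h1.eq_or_lt with h3 | h3
      · omega
      · have := height_add_two_le hM hB hχ h3
        rw [blockDefect_eq] at this
        omega
    · have h' := (defect_zero_iff hM χ).2 (hBχ ▸ h)
      obtain ⟨φ, hφ, hφ0⟩ := exists_height_zero hM hB
      have hφχ : φ = χ := h.le hφ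
      rw [hφχ] at hφ0
      rw [blockDefect_eq]
      omega
  obtain ⟨χ₀, hχ₀⟩ := block_nonempty hM hB
  have hone : Cfsg.blockDefect p B = 0 → Nat.card B = 1 ∧ Cfsg.blockRank p B = 1 := by
    intro h
    rw [(hd0 χ₀ hχ₀).1 h]
    exact ⟨by simp, blockRank_singleton hM χ₀⟩
  have hback : Nat.card B = Cfsg.blockRank p B → Cfsg.blockDefect p B = 0 := by
    intro h
    obtain ⟨χ, hχ⟩ := subsingleton_of_blockRank_eq hM hB h
    exact (hd0 χ (hχ ▸ Set.mem_singleton χ)).2 hχ
  refine ⟨blockRank_le B, ⟨hone, fun h => hback (h.1.trans h.2.symm)⟩,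
    ⟨fun h => ?_, hback⟩⟩
  obtain ⟨h1, h2⟩ := hone h
  rw [h1, h2]

end Cfsg.Agent.S4733
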