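import Cfsg.Statements.S4020
import Mathlib
import Cfsg.Agent.S4023
import Cfsg.Agent.Lib.ZStar.Main
import Cfsg.Agent.Lib.BrauerSuzukiQ.Theorem

set_option autoImplicit false
open Cfsg

namespace Cfsg.Agent.S4020

theorem center_of_cube {Q : Type*} [Group Q] [Finite Q] {p : ℕ} [hp : Fact p.Prime]
    (hc : Nat.card Q = p ^ 3) (hn : ¬ IsMulCommutative Q) :
    Nat.card (Subgroup.center Q) = p ∧ ∀ a b : Q, a * b * a⁻¹ * b⁻¹ ∈ Subgroup.center Q := by
  haveI : Nontrivial Q := Finite.one_lt_card_iff_nontrivial.1 (by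
    rw [hc]; exact Nat.one_lt_pow (by norm_num) hp.out.one_lt)
  obtain ⟨k, hk3, hk⟩ := (Nat.dvd_prime_pow hp.out).1 (hc ▸ Subgroup.card_subgroup_dvd_card (Subgroup.center Q))
  have hmul := Subgroup.card_eq_card_quotient_mul_card_subgroup (Subgroup.center Q)
  rw [hc, hk] at hmul
  haveI := (IsPGroup.of_card hc).center_nontrivial
  have hk0 : k ≠ 0 := by
    rintro rfl
    exact (not_subsingleton (Subgroup.center Q)) (Finite.card_le_one_iff_subsingleton.1 (by rw [hk, pow_zero]))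
  have hq : Nat.card (Q ⧸ Subgroup.center Q) = p ^ (3 - k) := by
    have : p ^ 3 = p ^ (3 - k) * p ^ k := by rw [← pow_add]; congr 1; omega
    exact Nat.eq_of_mul_eq_mul_right (pow_pos hp.out.pos k) (hmul.symm.trans this)
  have hk1 : k = 1 := by
    by_contra hk1
    have : IsCyclic (Q ⧸ Subgroup.center Q) := by
      rcases (show k = 2 ∨ k = 3 by omega) with rfl | rfl
      · exact isCyclic_of_prime_card (by simpa using hq)
      · haveI : Subsingleton (Q ⧸ Subgroup.center Q) :=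
          Finite.card_le_one_iff_subsingleton.1 (by simp [hq])
        exact isCyclic_of_subsingleton
    exact hn ⟨⟨fun a b => commutative_of_cyclic_center_quotient (QuotientGroup.mk' (Subgroup.center Q))
      (by simp) a b⟩⟩
  subst hk1
  refine ⟨by simpa using hk, fun a b => ?_⟩
  have hc2 := IsPGroup.commutative_of_card_eq_prime_sq (G := Q ⧸ Subgroup.center Q) (p := p) hq
  rw [← QuotientGroup.eq_one_iff, QuotientGroup.mk_mul, QuotientGroup.mk_mul, QuotientGroup.mk_mul,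
    QuotientGroup.mk_inv, QuotientGroup.mk_inv, hc2 (a : Q ⧸ Subgroup.center Q) b, mul_inv_cancel_right, mul_inv_cancel]

theorem conj_pow {G : Type*} [Group G] {u x c : G} (h : u * x * u⁻¹ = c * x) (hc : u * c = c * u) (i : ℕ) :
    u ^ i * x * (u ^ i)⁻¹ = c ^ i * x := by
  induction i with
  | zero => simp
  | succ i ih =>
    have h' : u * x = c * x * u := mul_inv_eq_iff_eq_mul.1 h
    calc u ^ (i + 1) * x * (u ^ (i + 1))⁻¹ = u * (u ^ i * x * (u ^ i)⁻¹) * u⁻¹ := by rw [pow_succ']; group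
      _ = (u * c ^ i * u⁻¹) * (u * x * u⁻¹) := by rw [ih]; group
      _ = c ^ i * (c * x) := by rw [(Commute.pow_right hc i).eq, mul_inv_cancel_right, h]
      _ = c ^ (i + 1) * x := by rw [pow_succ, mul_assoc]

theorem mem_of_sq {G : Type*} [Group G] {x : G} {p : ℕ} (hx : x ^ p = 1) (hp : Odd p) {O : Subgroup G}
    (h : x * x ∈ O) : x ∈ O := by
  obtain ⟨k, hk⟩ := hp
  have : (x * x) ^ (k + 1) = x := by
    rw [← pow_two, ← pow_mul, show 2 * (k + 1) = p + 1 by omega, pow_succ, hx, one_mul]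
  exact this ▸ pow_mem h _

/-- An element inside an extraspecial Sylow subgroup and a central one are cycled with period four. -/
theorem exists_flip {G : Type*} [Group G] [Finite G] {p : ℕ} [hp : Fact p.Prime]
    (hD : ∀ H K : Subgroup G, IsPGroup p H → IsPGroup p K → Nat.card H = Nat.card K →
      ∃ g : G, K = H.map (MulAut.conj g).toMonoidHom)
    (P : Sylow p G) (hn : ¬ IsMulCommutative P) (hc : Nat.card P = p ^ 3) (he : Monoid.exponent P = p)
    {x : G} (hxP : x ∈ (P : Subgroup G)) {u : G} (huP : u ∈ (P : Subgroup G)) (hux : u * x ≠ x * u) :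
    ∃ (Q : Sylow p G) (g : G), g ∈ (P : Subgroup G) ⊔ (Q : Subgroup G) ∧
      g * (g * x * g⁻¹) * g⁻¹ = x⁻¹ := by
  have hexp : ∀ y ∈ (P : Subgroup G), y ^ p = 1 := fun y hy => by
    have h : (⟨y, hy⟩ : ↥(P : Subgroup G)) ^ Monoid.exponent ↥(P : Subgroup G) = 1 :=
      Monoid.pow_exponent_eq_one _
    rw [he] at h
    exact congrArg Subtype.val h
  have hx1 : x ≠ 1 := by rintro rfl; simp at hux
  obtain ⟨hZ, hK⟩ := center_of_cube hc hn
  obtain ⟨z, hz⟩ : ∃ z, z = u * x * u⁻¹ * x⁻¹ := ⟨_, rfl⟩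
  have hzP : z ∈ (P : Subgroup G) := hz ▸ mul_mem (mul_mem (mul_mem huP hxP) (inv_mem huP)) (inv_mem hxP)
  have hzc : ∀ y ∈ (P : Subgroup G), y * z = z * y := fun y hy => by
    rw [hz]
    exact congrArg Subtype.val (Subgroup.mem_center_iff.1 (hK ⟨u, huP⟩ ⟨x, hxP⟩) ⟨y, hy⟩)
  have hz1 : z ≠ 1 := fun h => hux (by
    rw [hz, mul_inv_eq_one] at h
    exact mul_inv_eq_iff_eq_mul.1 h)
  have hox : orderOf x = p := orderOf_eq_prime (hexp x hxP) hx1
  have hoz : orderOf z = p := orderOf_eq_prime (hexp z hzP) hz1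
  have hzx : z ∉ Subgroup.zpowers x := by
    intro hm
    have hxm : x ∈ Subgroup.zpowers z := by
      have heq : Subgroup.zpowers z = Subgroup.zpowers x := Subgroup.eq_of_le_of_card_ge
        (Subgroup.zpowers_le.2 hm) (by rw [Nat.card_zpowers, Nat.card_zpowers, hox, hoz])
      exact heq ▸ Subgroup.mem_zpowers x
    obtain ⟨j, hj⟩ := hxm
    exact hux (hj ▸ ((show Commute u z from hzc u huP).zpow_right j).eq)
  obtain ⟨k, hk⟩ := hD (Subgroup.zpowers z) (Subgroup.zpowers x)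
    (P.2.to_le (Subgroup.zpowers_le.2 hzP)) (P.2.to_le (Subgroup.zpowers_le.2 hxP))
    (by rw [Nat.card_zpowers, Nat.card_zpowers, hox, hoz])
  obtain ⟨_, ⟨j, rfl⟩, hj⟩ : x ∈ (Subgroup.zpowers z).map (MulAut.conj k).toMonoidHom :=
    hk ▸ Subgroup.mem_zpowers x
  let C := Subgroup.centralizer ({x} : Set G)
  have hPC : (P : Subgroup G).map (MulAut.conj k).toMonoidHom ≤ C := by
    rintro _ ⟨y, hy, rfl⟩
    rw [Subgroup.mem_centralizer_singleton_iff]
    rw [← hj, ← map_mul, ← map_mul]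
    exact congrArg _ ((show Commute y z from hzc y hy).zpow_right j).eq
  have hdvd : p ^ 3 ∣ Nat.card C := by
    have h := Subgroup.card_dvd_of_le hPC
    rwa [Subgroup.card_map_of_injective (MulAut.conj k).injective, hc] at h
  have hE : IsPGroup p ↥((Subgroup.closure ({x, z} : Set G)).subgroupOf C) := by
    refine (P.2.to_le ?_).comap_subtype
    rw [Subgroup.closure_le]
    rintro y (rfl | rfl) <;> assumption
  obtain ⟨S2, hS2⟩ := hE.exists_le_sylow
  obtain ⟨Q, hQ⟩ := (S2.2.map C.subtype).exists_le_sylow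
  have hcQ : Nat.card Q = p ^ 3 := by
    rw [Sylow.card_eq_multiplicity, ← hc, Sylow.card_eq_multiplicity]
  have hQeq : (S2 : Subgroup C).map C.subtype = Q := Subgroup.eq_of_le_of_card_ge hQ (by
    rw [hcQ, Subgroup.card_map_of_injective C.subtype_injective]
    refine Nat.le_of_dvd Nat.card_pos ?_
    rw [Sylow.card_eq_multiplicity]
    exact pow_dvd_pow p ((hp.out.pow_dvd_iff_le_factorization Nat.card_pos.ne').1 hdvd))
  have hQC : ∀ y ∈ (Q : Subgroup G), y * x = x * y := fun y hy => by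
    rw [← hQeq] at hy
    obtain ⟨w, -, rfl⟩ := hy
    exact Subgroup.mem_centralizer_singleton_iff.1 w.2
  have hxC : x ∈ C := Subgroup.mem_centralizer_singleton_iff.2 rfl
  have hzC : z ∈ C := Subgroup.mem_centralizer_singleton_iff.2 (hzc x hxP).symm
  have hxQ : x ∈ (Q : Subgroup G) := hQeq ▸ ⟨⟨x, hxC⟩, hS2 (Subgroup.subset_closure (Or.inl rfl)), rfl⟩
  have hzQ : z ∈ (Q : Subgroup G) := hQeq ▸ ⟨⟨z, hzC⟩, hS2 (Subgroup.subset_closure (Or.inr rfl)), rfl⟩
  have hnQ : ¬ IsMulCommutative Q := fun h => hn ⟨⟨fun a b => (P.equiv Q).injective (by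
    rw [map_mul, map_mul]; exact h.is_comm.comm _ _)⟩⟩
  obtain ⟨hZQ, hKQ⟩ := center_of_cube hcQ hnQ
  have hxZ : (⟨x, hxQ⟩ : Q) ∈ Subgroup.center Q := Subgroup.mem_center_iff.2 fun y => Subtype.ext (hQC y y.2)
  have hcen : Subgroup.center Q = Subgroup.zpowers ⟨x, hxQ⟩ := (Subgroup.eq_of_le_of_card_ge
    (Subgroup.zpowers_le.2 hxZ) (by rw [Nat.card_zpowers, Subgroup.orderOf_mk, hox]; exact hZQ.le)).symm
  obtain ⟨v, hvQ, hvz⟩ : ∃ v ∈ (Q : Subgroup G), v * z ≠ z * v := by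
    by_contra! h
    obtain ⟨i, hi⟩ := hcen ▸ (Subgroup.mem_center_iff.2 fun y => Subtype.ext (h y y.2) :
      (⟨z, hzQ⟩ : Q) ∈ Subgroup.center Q)
    exact hzx ⟨i, congrArg Subtype.val hi⟩
  set c := v * z * v⁻¹ * z⁻¹ with hcdef
  have hcx : c ∈ Subgroup.zpowers x := by
    obtain ⟨i, hi⟩ := hcen ▸ hKQ ⟨v, hvQ⟩ ⟨z, hzQ⟩
    exact ⟨i, congrArg Subtype.val hi⟩
  have hc1 : c ≠ 1 := fun h => hvz (by
    rw [hcdef, mul_inv_eq_one] at h
    exact mul_inv_eq_iff_eq_mul.1 h)
  obtain ⟨i, hi⟩ : x⁻¹ ∈ Submonoid.powers c := by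
    have hle : Subgroup.zpowers c ≤ Subgroup.zpowers x := Subgroup.zpowers_le.2 hcx
    haveI : Fact p.Prime := hp
    have heq : Subgroup.zpowers c = Subgroup.zpowers x := Subgroup.eq_of_le_of_card_ge hle (by
      rw [Nat.card_zpowers, Nat.card_zpowers, hox]
      have hd := Subgroup.card_dvd_of_le hle
      rw [Nat.card_zpowers, Nat.card_zpowers, hox] at hd
      rcases (Nat.dvd_prime hp.out).1 hd with h | h
      · exact absurd (orderOf_eq_one_iff.1 h) hc1
      · exact h.ge)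
    exact (IsOfFinOrder.mem_powers_iff_mem_zpowers (isOfFinOrder_of_finite c)).2
      (heq ▸ inv_mem (Subgroup.mem_zpowers x))
  have hvc : v * c = c * v := by
    obtain ⟨n, hn⟩ := hcx
    exact hn ▸ ((show Commute v x from hQC v hvQ).zpow_right n).eq
  have hw : (v ^ i) * z * (v ^ i)⁻¹ = x⁻¹ * z := by
    rw [conj_pow (show v * z * v⁻¹ = c * z by rw [hcdef]; group) hvc i]
    exact congrArg (· * z) hi
  have hu1 : u * x * u⁻¹ = z * x := by rw [hz]; group
  have hu2 : u * z * u⁻¹ = z := by rw [hzc u huP]; group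
  have hw2 : (v ^ i) * x * (v ^ i)⁻¹ = x := by
    rw [((show Commute v x from hQC v hvQ).pow_left i).eq]; group
  have hxzc : x * z = z * x := hzc x hxP
  refine ⟨Q, u * v ^ i * u, mul_mem (mul_mem (le_sup_left (a := (P : Subgroup G)) huP)
    (le_sup_right (a := (P : Subgroup G)) (pow_mem hvQ i))) (le_sup_left (a := (P : Subgroup G)) huP), ?_⟩
  have e1 : (u * v ^ i * u) * x * (u * v ^ i * u)⁻¹ = z := by
    calc _ = u * (v ^ i * (u * x * u⁻¹) * (v ^ i)⁻¹) * u⁻¹ := by group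
      _ = u * ((v ^ i * z * (v ^ i)⁻¹) * (v ^ i * x * (v ^ i)⁻¹)) * u⁻¹ := by rw [hu1]; group
      _ = z := by rw [hw, hw2, mul_assoc x⁻¹, ← hxzc, inv_mul_cancel_left, hu2]
  rw [e1]
  calc (u * v ^ i * u) * z * (u * v ^ i * u)⁻¹ = u * (v ^ i * (u * z * u⁻¹) * (v ^ i)⁻¹) * u⁻¹ := by group
    _ = u * (v ^ i * z * (v ^ i)⁻¹) * u⁻¹ := by rw [hu2]
    _ = (u * x * u⁻¹)⁻¹ * (u * z * u⁻¹) := by rw [hw]; group
    _ = x⁻¹ := by rw [hu1, hu2, mul_inv_rev, mul_assoc, inv_mul_cancel, mul_one]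

theorem period {G : Type*} [Group G] {g x : G} (h : g * (g * x * g⁻¹) * g⁻¹ = x⁻¹) :
    ∀ m : ℕ, Odd m → g ^ (2 * m) * x * (g ^ (2 * m))⁻¹ = x⁻¹ := by
  have h4 : ∀ k : ℕ, g ^ (4 * k) * x * (g ^ (4 * k))⁻¹ = x := by
    intro k
    induction k with
    | zero => simp
    | succ k ih =>
      calc g ^ (4 * (k + 1)) * x * (g ^ (4 * (k + 1)))⁻¹
          = g * (g * (g * (g * (g ^ (4 * k) * x * (g ^ (4 * k))⁻¹) * g⁻¹) * g⁻¹) * g⁻¹) * g⁻¹ := by
            rw [show 4 * (k + 1) = 1 + 1 + 1 + 1 + 4 * k by ring]; simp only [pow_add, pow_one]; group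
        _ = g * (g * x⁻¹ * g⁻¹) * g⁻¹ := by rw [ih, h]
        _ = (g * (g * x * g⁻¹) * g⁻¹)⁻¹ := by simp only [mul_inv_rev, inv_inv, mul_assoc]
        _ = x := by rw [h, inv_inv]
  rintro m ⟨k, rfl⟩
  calc g ^ (2 * (2 * k + 1)) * x * (g ^ (2 * (2 * k + 1)))⁻¹
      = g * (g * (g ^ (4 * k) * x * (g ^ (4 * k))⁻¹) * g⁻¹) * g⁻¹ := by
        rw [show 2 * (2 * k + 1) = 1 + 1 + 4 * k by ring]; simp only [pow_add, pow_one]; group
    _ = x⁻¹ := by rw [h4, h]

/-- A moving element lies in the odd core. -/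
theorem mem_core {G : Type*} [Group G] [Finite G]
    (hD : ∀ H K : Subgroup G, IsPGroup 2 H → IsPGroup 2 K → Nat.card H = Nat.card K →
      ∃ g : G, K = H.map (MulAut.conj g).toMonoidHom)
    {g x : G} {p : ℕ} (hp : Odd p) (hx : x ^ p = 1) (h : g * (g * x * g⁻¹) * g⁻¹ = x⁻¹) :
    x ∈ Cfsg.pPrimeCore 2 G := by
  haveI : Fact (Nat.Prime 2) := ⟨Nat.prime_two⟩
  by_cases hx2 : x * x = 1
  · exact mem_of_sq hx hp (hx2 ▸ one_mem _)
  obtain ⟨a, m, hm, ham⟩ := Nat.exists_eq_two_pow_mul_odd (orderOf_pos g).ne'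
  set s := g ^ m with hs
  have hsp : IsPGroup 2 (Subgroup.zpowers s) := IsPGroup.of_card (n := a) (by
    rw [Nat.card_zpowers, hs, orderOf_pow_of_dvd hm.pos.ne' (ham ▸ dvd_mul_left m _), ham,
      Nat.mul_div_cancel _ hm.pos])
  obtain ⟨S, hS⟩ := hsp.exists_le_sylow
  have hsS : s ∈ (S : Subgroup G) := hS (Subgroup.mem_zpowers s)
  have htx : (s * s) * x * (s * s)⁻¹ = x⁻¹ := by
    rw [hs, ← pow_add, ← two_mul]; exact period h m hm
  have hne : s * s ≠ 1 := fun h1 => hx2 (by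
    rw [h1, one_mul, inv_one, mul_one] at htx
    exact (congrArg (x * ·) htx).trans (mul_inv_cancel x))
  have key : ∀ O : Subgroup G, (s * s) * x * (s * s)⁻¹ * x⁻¹ ∈ O → x ∈ O := fun O hO => by
    rw [htx, ← mul_inv_rev] at hO
    exact mem_of_sq hx hp (inv_mem_iff.1 hO)
  rcases Cfsg.Agent.S4023.result hD S with hcy | hel | ⟨-, ⟨e⟩⟩ | ⟨h22, -⟩
  · have h2 : (Nat.card G).minFac = 2 := by
      rw [Nat.minFac_eq_two_iff]
      refine dvd_trans ?_ (orderOf_dvd_natCard g)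
      rcases Nat.eq_zero_or_pos a with rfl | ha
      · exact absurd (by rw [hs, show m = orderOf g by rw [ham]; simp, pow_orderOf_eq_one, one_mul]) hne
      · exact ham ▸ dvd_mul_of_dvd_left (dvd_pow_self 2 ha.ne') m
    let f := MonoidHom.transferSylow S (hcy.normalizer_le_centralizer h2)
    have hodd : (Nat.card f.ker).Coprime 2 :=
      ((Nat.prime_two.coprime_iff_not_dvd).2 (MonoidHom.not_dvd_card_ker_transferSylow S _)).symm
    have hmem : (s * s) * x * (s * s)⁻¹ * x⁻¹ ∈ f.ker := by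
      haveI := hcy
      haveI : IsMulCommutative (S : Subgroup G) := IsCyclic.isMulCommutative
      rw [MonoidHom.mem_ker, map_mul, map_mul, map_mul, map_inv, map_inv]
      rw [IsMulCommutative.is_comm.comm (f (s * s)) (f x), mul_inv_cancel_right, mul_inv_cancel]
    exact CfsgLib.le_pPrimeCore hodd (key _ hmem)
  · exact absurd (by simpa [pow_two] using hel.2 s hsS) hne
  · have hq4 : ∀ q : QuaternionGroup 2, (q * q) * (q * q) = 1 := by decide
    have ho : orderOf (s * s) = 2 := orderOf_eq_prime (by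
      rw [pow_two]
      exact congrArg Subtype.val (e.injective ((by simp only [map_mul]; exact hq4 _ :
        e ((⟨s, hsS⟩ * ⟨s, hsS⟩) * (⟨s, hsS⟩ * ⟨s, hsS⟩)) = 1).trans (map_one e).symm))) hne
    have htS : s * s ∈ (S : Subgroup G) := mul_mem hsS hsS
    have inv : ∀ w (hw : w ∈ (S : Subgroup G)), orderOf w = 2 →
        e ⟨w, hw⟩ = QuaternionGroup.a ((2 : ℕ) : ZMod (2 * 2)) := fun w hw h2 =>
      CfsgLib.QuaternionSylow.quaternion_involution
        ((orderOf_injective e.toMonoidHom e.injective ⟨w, hw⟩).trans ((Subgroup.orderOf_mk w hw).trans h2))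
    have hiso := CfsgLib.ZStar.isolated_of_sylow S ho htS fun y hy =>
      congrArg Subtype.val (e.injective
        ((inv _ hy (by rw [CfsgLib.ZStar.orderOf_conj, ho])).trans (inv _ htS ho).symm))
    exact key _ (CfsgLib.ZStar.commutator_mem ho hiso x)
  · exact absurd rfl h22


/-- Let G be a finite group in which, for every prime p, any two p-subgroups of the same order are conjugate. Then every Sylow subgroup of G is cyclic, elementary abelian, or a quaternion group of order 8. -/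
theorem result {G : Type*} [Group G] [Finite G]
    (hD : ∀ p : ℕ, p.Prime → ∀ H K : Subgroup G, IsPGroup p H → IsPGroup p K → Nat.card H = Nat.card K →
      ∃ g : G, K = H.map (MulAut.conj g).toMonoidHom) {p : ℕ} [Fact p.Prime] (P : Sylow p G) :
    IsCyclic P ∨ Cfsg.IsElementaryAbelian p (P : Subgroup G) ∨ Nonempty ((P : Subgroup G) ≃* QuaternionGroup 2) := by
  rcases Cfsg.Agent.S4023.result (hD p Fact.out) P with h | h | ⟨-, h⟩ | ⟨hp2, hn, hc, he⟩
  · exact Or.inl h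
  · exact Or.inr (Or.inl h)
  · exact Or.inr (Or.inr h)
  exfalso
  have hodd : Odd p := (Fact.out : p.Prime).odd_of_ne_two hp2
  have hexp : ∀ y ∈ (P : Subgroup G), y ^ p = 1 := fun y hy => by
    have h : (⟨y, hy⟩ : ↥(P : Subgroup G)) ^ Monoid.exponent ↥(P : Subgroup G) = 1 :=
      Monoid.pow_exponent_eq_one _
    rw [he] at h
    exact congrArg Subtype.val h
  let O := Cfsg.pPrimeCore 2 G
  have hP : (P : Subgroup G) ≤ O := by
    have hnc : ∀ y ∈ (P : Subgroup G), ∀ u ∈ (P : Subgroup G), u * y ≠ y * u → y ∈ O := by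
      intro y hy u hu huy
      obtain ⟨Q, g, -, hg⟩ := exists_flip (hD p Fact.out) P hn hc he hy hu huy
      exact mem_core (hD 2 Nat.prime_two) hodd (hexp y hy) hg
    obtain ⟨a, b, hab⟩ : ∃ a b : P, a * b ≠ b * a := by
      by_contra! h
      exact hn ⟨⟨h⟩⟩
    intro y hy
    have hab' : (a : G) * b ≠ b * a := fun h => hab (Subtype.ext h)
    have haO : (a : G) ∈ O := hnc a a.2 b b.2 (Ne.symm hab')
    by_cases hy' : (b : G) * y = y * b
    · have hay : (a : G) * y ∈ O := hnc _ (mul_mem a.2 hy) b b.2 fun h => hab' (by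
        apply mul_right_cancel (b := y)
        calc (a : G) * b * y = a * y * b := by rw [mul_assoc, hy', ← mul_assoc]
          _ = b * (a * y) := h.symm
          _ = b * a * y := (mul_assoc _ _ _).symm)
      have := mul_mem (inv_mem haO) hay
      rwa [inv_mul_cancel_left] at this
    · exact hnc y hy b b.2 hy'
  obtain ⟨x, u, hxu⟩ : ∃ x u : P, u * x ≠ x * u := by
    by_contra! h
    exact hn ⟨⟨fun a b => h b a⟩⟩
  obtain ⟨Q, g, hgQ, hg⟩ := exists_flip (hD p Fact.out) P hn hc he x.2 u.2 (fun h => hxu (Subtype.ext h))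
  have hQ : (Q : Subgroup G) ≤ O := by
    obtain ⟨k, hk⟩ := MulAction.exists_smul_eq G P Q
    intro y hy
    rw [← hk, Sylow.coe_subgroup_smul] at hy
    obtain ⟨w, hw, rfl⟩ := hy
    exact (inferInstance : O.Normal).conj_mem w (hP hw) k
  have hgo : Odd (orderOf g) := (Nat.coprime_two_right.1 (CfsgLib.card_pPrimeCore_coprime 2)).of_dvd_nat
    (by rw [← Subgroup.orderOf_mk g (sup_le hP hQ hgQ)]; exact orderOf_dvd_natCard _)
  have hh := period hg _ hgo
  rw [mul_comm, pow_mul, pow_orderOf_eq_one, one_pow, one_mul, inv_one, mul_one] at hh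
  refine hxu (Subtype.ext ?_)
  have h1 : (x : G) = 1 := by
    have hm := mem_of_sq (O := ⊥) (hexp x x.2) hodd (by
      rw [Subgroup.mem_bot]; exact (congrArg ((x : G) * ·) hh).trans (mul_inv_cancel _))
    exact Subgroup.mem_bot.1 hm
  simp [h1]

end Cfsg.Agent.S4020
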