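import Cfsg.Statements.S0063

set_option autoImplicit false
open Cfsg

namespace Cfsg.Agent.S0063

/-- A finite group of prime-power order p ^ m with m > 1 is nilpotent of class at most m - 1. -/
theorem result {G : Type*} [Group G] [Finite G] (p m : ℕ) [Fact p.Prime]
    (hG : Nat.card G = p ^ m) (hm : 1 < m) : Group.nilpotencyClass G ≤ m - 1 := by
  have hp : IsPGroup p G := IsPGroup.of_card hG
  have : Group.IsNilpotent G := hp.isNilpotent
  clear hp
  suffices key : ∀ (k : ℕ), ∀ (H : Type u_1) [Group H] [Finite H],
      Nat.card H = p ^ k → Group.nilpotencyClass H ≤ max 1 (k - 1) ∧ (k ≤ 1 → Group.nilpotencyClass H ≤ k) by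
    have := (key m G hG).1
    omega
  intro k
  induction k using Nat.strong_induction_on with
  | _ k ih =>
    intro H _ _ hH
    have hHp : IsPGroup p H := IsPGroup.of_card hH
    have : Group.IsNilpotent H := hHp.isNilpotent
    by_cases hk0 : k = 0
    · subst hk0
      have : Subsingleton H := (Nat.card_eq_one_iff_unique.1 (by simpa using hH)).1
      rw [Group.nilpotencyClass_zero_iff_subsingleton.2 this]
      omega
    have : Nontrivial H := Finite.one_lt_card_iff_nontrivial.1
      (hH ▸ Nat.one_lt_pow hk0 (Fact.out : p.Prime).one_lt)
    have hcl : Group.nilpotencyClass H = Group.nilpotencyClass (H ⧸ Subgroup.center H) + 1 :=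
      Group.nilpotencyClass_eq_quotient_center_plus_one
    obtain ⟨j, hj1, hj⟩ : ∃ j, 0 < j ∧ Nat.card (Subgroup.center H) = p ^ j := by
      have hc := hHp.center_nontrivial
      exact (hHp.to_subgroup _).nontrivial_iff_card.1 hc
    have hmul := (Subgroup.center H).card_eq_card_quotient_mul_card_subgroup
    obtain ⟨i, hi⟩ := IsPGroup.iff_card.1 (hHp.to_quotient (Subgroup.center H))
    rw [hH, hj, hi, ← pow_add] at hmul
    have hij : k = i + j := Nat.pow_right_injective (Fact.out : p.Prime).two_le hmul
    -- the central quotient of a non-abelian group is not cyclic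
    have hi1 : i ≠ 1 := by
      rintro rfl
      have : IsCyclic (H ⧸ Subgroup.center H) := isCyclic_of_prime_card (p := p) (by rw [hi, pow_one])
      have hab : ∀ a b : H, a * b = b * a :=
        commutative_of_cyclic_center_quotient (QuotientGroup.mk' (Subgroup.center H))
          (by rw [QuotientGroup.ker_mk'])
      have : Subgroup.center H = ⊤ := eq_top_iff.2 fun a _ =>
        Subgroup.mem_center_iff.2 fun b => hab b a
      rw [this, Subgroup.card_top, hH] at hj
      have := Nat.pow_right_injective (Fact.out : p.Prime).two_le hj
      omega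
    obtain ⟨h1, h2⟩ := ih i (by omega) (H ⧸ Subgroup.center H) hi
    constructor
    · rcases Nat.lt_or_ge i 2 with h | h
      · have := h2 (by omega)
        omega
      · omega
    · intro hk
      have := h2 (by omega)
      omega

end Cfsg.Agent.S0063
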