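import Cfsg.Statements.S0604
import Cfsg.Agent.Lib.ZJ.Center

set_option autoImplicit false
open Cfsg

namespace Cfsg.Agent.S0604

/-- The Thompson subgroup of G is the join of the Thompson subgroups of its Sylow p-subgroups. -/
theorem result {G : Type*} [Group G] [Finite G] {p : ℕ} [Fact p.Prime] : Cfsg.thompsonSubgroup p G = ⨆ S : Sylow p G, Cfsg.thompsonSubgroupOf p (S : Subgroup G) := by
  simp only [← CfsgLib.ZJ.thompsonJ_prime]
  rw [Cfsg.thompsonSubgroup, ← CfsgLib.ZJ.goodMax_top_prime]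
  -- every good subgroup is a p-group, so of no larger order than those inside one Sylow
  have hp : ∀ B : Subgroup G, CfsgLib.ZJ.IsGood p B → IsPGroup p B := fun B hB x =>
    ⟨1, Subtype.ext (by rw [pow_one, Subgroup.coe_pow]; exact hB.2 x x.2)⟩
  obtain ⟨A₀, hA₀⟩ := CfsgLib.ZJ.goodMax_nonempty p (⊤ : Subgroup G)
  refine le_antisymm (sSup_le fun A hA => ?_) (iSup_le fun S => sSup_le fun A hA => le_sSup ?_)
  · obtain ⟨S, hS⟩ := (hp A hA.2.1).exists_le_sylow
    refine le_iSup_of_le S (CfsgLib.ZJ.le_thompsonJ ?_)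
    exact ⟨hS, hA.2.1, fun B _ hB => hA.2.2 B le_top hB⟩
  · refine ⟨le_top, hA.2.1, fun B _ hB => ?_⟩
    obtain ⟨T, hT⟩ := (hp B hB).exists_le_sylow
    obtain ⟨g, hg⟩ := MulAction.exists_smul_eq G T S
    rw [Nat.card_congr (B.equivMapOfInjective (MulAut.conj g).toMonoidHom (MulAut.conj g).injective).toEquiv]
    refine hA.2.2 _ ?_ (CfsgLib.ZJ.isGood_map _ hB)
    rw [← hg]
    exact Subgroup.map_mono hT

end Cfsg.Agent.S0604
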