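import Cfsg.Statements.S0605
import Cfsg.Agent.Lib.ZJ.Center

set_option autoImplicit false
open Cfsg

namespace Cfsg.Agent.S0605

/-- Elements of order p in the centralizer of the Thompson subgroup belong to the Thompson subgroup (so to its centre). -/
theorem result {G : Type*} [Group G] [Finite G] {p : ℕ} [Fact p.Prime] (x : G) (hx : x ∈ Subgroup.centralizer (Cfsg.thompsonSubgroup p G : Set G)) (ho : orderOf x = p) : x ∈ Cfsg.thompsonSubgroup p G := by
  rw [Cfsg.thompsonSubgroup, ← CfsgLib.ZJ.goodMax_top_prime] at hx ⊢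
  obtain ⟨A, hA⟩ := CfsgLib.ZJ.goodMax_nonempty p (⊤ : Subgroup G)
  have hxA : ∀ a ∈ A, a * x = x * a := fun a ha => hx a (le_sSup hA ha)
  have hcl : IsMulCommutative (Subgroup.closure ((A : Set G) ∪ {x})) :=
    Subgroup.isMulCommutative_closure fun u hu v hv => by
      rcases hu with hu | hu <;> rcases hv with hv | hv
      · exact hA.2.1.1 u hu v hv
      · rw [hv]; exact hxA u hu
      · rw [hu]; exact (hxA v hv).symm
      · rw [hu, hv]
  let B := Subgroup.closure ((A : Set G) ∪ {x})
  have hB : CfsgLib.ZJ.IsGood p B := by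
    refine ⟨fun u hu v hv => Subgroup.mul_comm_of_mem_isMulCommutative B hu hv, fun u hu => ?_⟩
    induction hu using Subgroup.closure_induction with
    | mem y hy =>
      rcases hy with hy | hy
      · exact hA.2.1.2 y hy
      · rw [hy, ← ho]; exact pow_orderOf_eq_one x
    | one => exact one_pow _
    | mul y z hy hz h1 h2 =>
      rw [(show Commute y z from Subgroup.mul_comm_of_mem_isMulCommutative B hy hz).mul_pow, h1, h2,
        one_mul]
    | inv y _ h1 => rw [inv_pow, h1, inv_one]
  have hAB : A ≤ B := fun a ha => Subgroup.subset_closure (Or.inl ha)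
  have : A = B := Subgroup.eq_of_le_of_card_ge hAB (hA.2.2 B le_top hB)
  refine le_sSup hA ?_
  rw [this]
  exact Subgroup.subset_closure (Or.inr rfl)

end Cfsg.Agent.S0605
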