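import Cfsg.Statements.S0655
import Cfsg.Agent.S0605
import Cfsg.Agent.S0604

set_option autoImplicit false
open Cfsg

namespace Cfsg.Agent.S0655

/-- In a p-group the intersection of all elementary abelian subgroups of largest order is the subgroup generated by the elements of order dividing p in the centre (equivalently the centralizer) of the elementary-version Thompson subgroup. -/
theorem result {S : Type*} [Group S] [Finite S] {p : ℕ} [Fact p.Prime] (hS : IsPGroup p S) : sInf (Cfsg.maxElementaryAbelianSubgroups p S) = Cfsg.omegaCenterThompson p S ∧ Cfsg.omegaCenterThompson p S = Cfsg.omegaOne p (Subgroup.centralizer (Cfsg.thompsonSubgroup p S : Set S)) := by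
  set J := Cfsg.thompsonSubgroup p S with hJ
  have hle1 : Cfsg.omegaOne p (Subgroup.centralizer (J : Set S)) ≤ sInf (Cfsg.maxElementaryAbelianSubgroups p S) := by
    refine (Subgroup.closure_le _).2 fun x ⟨hx, hxp⟩ => Subgroup.mem_sInf.2 fun A hA => ?_
    have hxA : ∀ a ∈ A, a * x = x * a := fun a ha => hx a (le_sSup hA ha)
    let B := Subgroup.closure ((A : Set S) ∪ {x})
    have hBc : IsMulCommutative B := Subgroup.isMulCommutative_closure fun u hu v hv => by
      rcases hu with hu | hu <;> rcases hv with hv | hv
      · haveI := hA.1.1; exact Subgroup.mul_comm_of_mem_isMulCommutative A hu hv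
      · rw [hv]; exact hxA u hu
      · rw [hu]; exact (hxA v hv).symm
      · rw [hu, hv]
    have hB : Cfsg.IsElementaryAbelian p B := ⟨hBc, fun a ha => by
      induction ha using Subgroup.closure_induction with
      | mem y hy =>
        rcases hy with hy | hy
        · exact hA.1.2 y hy
        · rw [hy]; exact hxp
      | one => exact one_pow _
      | mul y z hy hz h1 h2 =>
        rw [(show Commute y z from Subgroup.mul_comm_of_mem_isMulCommutative B hy hz).mul_pow, h1, h2,
          one_mul]
      | inv y _ h1 => rw [inv_pow, h1, inv_one]⟩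
    have hAB : A ≤ B := fun a ha => Subgroup.subset_closure (Or.inl ha)
    rw [Subgroup.eq_of_le_of_card_ge hAB (hA.2 B hB)]
    exact Subgroup.subset_closure (Or.inr rfl)
  have hle2 : sInf (Cfsg.maxElementaryAbelianSubgroups p S) ≤ Cfsg.omegaCenterThompson p S := by
    intro x hx
    obtain ⟨A, hA⟩ : (Cfsg.maxElementaryAbelianSubgroups p S).Nonempty := by
      obtain ⟨A, hA1, hA2⟩ := Set.Finite.exists_maximalFor (fun A : Subgroup S => Nat.card A)
        {A | Cfsg.IsElementaryAbelian p A} (Set.toFinite _)
        ⟨⊥, inferInstance, fun a ha => by rw [Subgroup.mem_bot.1 ha, one_pow]⟩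
      exact ⟨A, hA1, fun B hB => (le_total (Nat.card B) (Nat.card A)).elim id (hA2 hB)⟩
    have hxA := Subgroup.mem_sInf.1 hx
    refine Subgroup.subset_closure ⟨⟨le_sSup hA (hxA A hA), fun y hy => ?_⟩, hA.1.2 x (hxA A hA)⟩
    have hle : J ≤ Subgroup.centralizer ({x} : Set S) := sSup_le fun B hB b hb =>
      Subgroup.mem_centralizer_singleton_iff.2
        (haveI := hB.1.1; Subgroup.mul_comm_of_mem_isMulCommutative B hb (hxA B hB))
    exact Subgroup.mem_centralizer_singleton_iff.1 (hle hy)
  have hle3 : Cfsg.omegaCenterThompson p S ≤ Cfsg.omegaOne p (Subgroup.centralizer (J : Set S)) :=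
    Subgroup.closure_mono fun x hx => ⟨hx.1.2, hx.2⟩
  exact ⟨le_antisymm hle2 (hle3.trans hle1), le_antisymm hle3 (hle1.trans hle2)⟩

end Cfsg.Agent.S0655
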