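import Cfsg.Statements.S0304
import Mathlib

set_option autoImplicit false
open Cfsg

namespace Cfsg.Agent.S0304

open Matrix in
theorem oddCharTwo {F : Type*} [Field F] [Finite F] [CharP F 2] (m : ℕ) :
    Nonempty (Cfsg.isometryGroup F (Cfsg.quadFormOdd m F) ≃* Matrix.symplecticGroup (Fin m) F) := by
  classical
  let P : (Fin m ⊕ Fin m → F) → F := fun w => ∑ i, w (Sum.inl i) * w (Sum.inr i)
  let J : Matrix (Fin m ⊕ Fin m) (Fin m ⊕ Fin m) F := Matrix.J (Fin m) F
  have hPadd : ∀ u v, P (u + v) = P u + P v + u ⬝ᵥ (J *ᵥ v) := by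
    intro u v
    simp only [P, J, Matrix.J, dotProduct, Fintype.sum_sum_type, fromBlocks_mulVec, Pi.add_apply,
      Sum.elim_inl, Sum.elim_inr, zero_mulVec, neg_mulVec, one_mulVec, Pi.neg_apply, Pi.zero_apply,
      Function.comp_apply, zero_add, add_zero, CharTwo.neg_eq, ← Finset.sum_add_distrib]
    exact Finset.sum_congr rfl fun i _ => by ring
  have hPsmul : ∀ (c : F) u, P (c • u) = c ^ 2 * P u := fun c u => by
    simp [P, Finset.mul_sum]; exact Finset.sum_congr rfl fun i _ => by ring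
  have hsq : ∀ x y : F, x ^ 2 = y ^ 2 → x = y := fun x y h => CharTwo.sq_injective h
  have hQ : ∀ v, Cfsg.quadFormOdd m F v = v (Sum.inl ()) ^ 2 + P (v ∘ Sum.inr) := fun v => rfl
  have hQadd : ∀ u v, Cfsg.quadFormOdd m F (u + v) = Cfsg.quadFormOdd m F u + Cfsg.quadFormOdd m F v
      + (u ∘ Sum.inr) ⬝ᵥ (J *ᵥ (v ∘ Sum.inr)) := fun u v => by
    rw [hQ, hQ, hQ, show (u + v) ∘ Sum.inr = u ∘ Sum.inr + v ∘ Sum.inr from rfl, hPadd, Pi.add_apply,
      CharTwo.add_sq]
    ring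
  have hpol : ∀ (g : Cfsg.isometryGroup F (Cfsg.quadFormOdd m F)) u v,
      ((g.1.1 *ᵥ u) ∘ Sum.inr) ⬝ᵥ (J *ᵥ ((g.1.1 *ᵥ v) ∘ Sum.inr)) =
        (u ∘ Sum.inr) ⬝ᵥ (J *ᵥ (v ∘ Sum.inr)) := by
    intro g u v
    have hi : ∀ u, Cfsg.quadFormOdd m F (g.1.1 *ᵥ u) = Cfsg.quadFormOdd m F u := fun u => g.2 u u
    have h := hi (u + v)
    rw [mulVec_add, hQadd, hQadd, hi, hi] at h
    exact add_left_cancel h
  set e : Unit ⊕ (Fin m ⊕ Fin m) → F := Pi.single (Sum.inl ()) 1 with he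
  have hfix : ∀ g : Cfsg.isometryGroup F (Cfsg.quadFormOdd m F), g.1.1 *ᵥ e = e := by
    intro g
    set x := g.1.1 *ᵥ e with hx
    have hr : x ∘ Sum.inr = 0 := by
      have h0 : ∀ w, (x ∘ Sum.inr) ⬝ᵥ (J *ᵥ w) = 0 := fun w => by
        have h := hpol g e (g⁻¹.1.1 *ᵥ Sum.elim 0 w)
        rw [mulVec_mulVec, show g.1.1 * g⁻¹.1.1 = 1 from by exact_mod_cast g.1.mul_inv,
          one_mulVec, Sum.elim_comp_inr] at h
        rw [h, show e ∘ Sum.inr = 0 from funext fun i => by simp [he], zero_dotProduct]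
      funext i
      rcases i with i | i
      · simpa [J, Matrix.J, dotProduct, fromBlocks_mulVec, Fintype.sum_sum_type, Pi.single_apply,
          neg_mulVec, Matrix.one_apply] using h0 (Pi.single (Sum.inr i) 1)
      · simpa [J, Matrix.J, dotProduct, fromBlocks_mulVec, Fintype.sum_sum_type, Pi.single_apply,
          neg_mulVec, Matrix.one_apply] using h0 (Pi.single (Sum.inl i) 1)
    have hq : Cfsg.quadFormOdd m F x = Cfsg.quadFormOdd m F e := g.2 e e
    rw [hQ, hQ, hr, show e ∘ Sum.inr = 0 from funext fun i => by simp [he]] at hq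
    funext i
    rcases i with i | i
    · exact hsq _ _ (add_right_cancel hq)
    · simpa [he] using congrFun hr i
  have h21 : ∀ g : Cfsg.isometryGroup F (Cfsg.quadFormOdd m F), g.1.1.toBlocks₂₁ = 0 := fun g => by
    ext i j
    simpa [he, toBlocks₂₁] using congrFun (hfix g) (Sum.inr i)
  have h11 : ∀ g : Cfsg.isometryGroup F (Cfsg.quadFormOdd m F), g.1.1.toBlocks₁₁ = 1 := fun g => by
    ext i j
    simpa [he, toBlocks₁₁] using congrFun (hfix g) (Sum.inl i)
  have hmv : ∀ (g : Cfsg.isometryGroup F (Cfsg.quadFormOdd m F)) (v : Unit ⊕ (Fin m ⊕ Fin m) → F),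
      g.1.1 *ᵥ v = Sum.elim (v ∘ Sum.inl + g.1.1.toBlocks₁₂ *ᵥ (v ∘ Sum.inr))
        (g.1.1.toBlocks₂₂ *ᵥ (v ∘ Sum.inr)) := fun g v => by
    conv_lhs => rw [← fromBlocks_toBlocks g.1.1, h21, h11, fromBlocks_mulVec]
    simp
  have hmem : ∀ g : Cfsg.isometryGroup F (Cfsg.quadFormOdd m F),
      g.1.1.toBlocks₂₂ ∈ Matrix.symplecticGroup (Fin m) F := fun g => by
    rw [SymplecticGroup.mem_iff']
    ext i j
    have h := hpol g (Sum.elim 0 (Pi.single i 1)) (Sum.elim 0 (Pi.single j 1))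
    simp only [hmv, Sum.elim_comp_inr] at h
    rw [mulVec_mulVec, dotProduct_mulVec, ← vecMul_transpose, vecMul_vecMul, ← dotProduct_mulVec,
      ← mul_assoc] at h
    simpa [J] using h
  let Φ : Cfsg.isometryGroup F (Cfsg.quadFormOdd m F) →* Matrix.symplecticGroup (Fin m) F :=
    { toFun := fun g => ⟨g.1.1.toBlocks₂₂, hmem g⟩
      map_one' := Subtype.ext (by
        show (1 : Matrix _ _ F).toBlocks₂₂ = 1
        rw [← fromBlocks_one, toBlocks_fromBlocks₂₂])
      map_mul' := fun g h => Subtype.ext (by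
        show (g.1.1 * h.1.1).toBlocks₂₂ = g.1.1.toBlocks₂₂ * h.1.1.toBlocks₂₂
        conv_lhs => rw [← fromBlocks_toBlocks g.1.1, ← fromBlocks_toBlocks h.1.1, fromBlocks_multiply,
          toBlocks_fromBlocks₂₂, h21]
        rw [Matrix.zero_mul, zero_add]) }
  refine ⟨MulEquiv.ofBijective Φ ⟨fun g h hgh => ?_, fun h => ?_⟩⟩
  · have h22 : g.1.1.toBlocks₂₂ = h.1.1.toBlocks₂₂ := congrArg Subtype.val hgh
    refine Subtype.ext (Units.ext (Matrix.toLin'.injective (LinearMap.ext fun v => ?_)))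
    simp only [toLin'_apply]
    rw [hmv g v, hmv h v, h22]
    congr 1
    funext i
    refine hsq _ _ ?_
    have h1 : Cfsg.quadFormOdd m F (g.1.1 *ᵥ v) = Cfsg.quadFormOdd m F (h.1.1 *ᵥ v) :=
      (g.2 v v).trans (h.2 v v).symm
    rw [hQ, hQ, hmv g v, hmv h v, h22] at h1
    exact add_right_cancel h1
  · have := Fintype.ofFinite F
    have hJ : h.1ᵀ * J * h.1 = J := SymplecticGroup.mem_iff'.mp h.2
    let D : (Fin m ⊕ Fin m → F) → F := fun w => P w + P (h.1 *ᵥ w)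
    have hDadd : ∀ u v, D (u + v) = D u + D v := fun u v => by
      have hh : (h.1 *ᵥ u) ⬝ᵥ (J *ᵥ (h.1 *ᵥ v)) = u ⬝ᵥ (J *ᵥ v) := by
        rw [mulVec_mulVec, dotProduct_mulVec, ← vecMul_transpose, vecMul_vecMul,
          ← dotProduct_mulVec, ← mul_assoc, hJ]
      simp only [D, mulVec_add, hPadd, hh]
      linear_combination (CharTwo.add_self_eq_zero (u ⬝ᵥ (J *ᵥ v)))
    let σ : F ≃+* F := (frobeniusEquiv F 2).symm
    have hσ : ∀ x : F, σ x ^ 2 = x := fun x => by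
      rw [← frobenius_def]; exact frobenius_apply_frobeniusEquiv_symm F 2 x
    let L : (Fin m ⊕ Fin m → F) →ₗ[F] F :=
      { toFun := fun w => σ (D w)
        map_add' := fun u v => by rw [hDadd, map_add]
        map_smul' := fun c w => by
          refine hsq _ _ ?_
          simp only [D, mulVec_smul, hPsmul, hσ, smul_eq_mul, RingHom.id_apply, mul_pow]
          ring }
    let r : Matrix Unit (Fin m ⊕ Fin m) F := of fun _ j => L (Pi.single j 1)
    have hr : ∀ w, (r *ᵥ w) () = L w := fun w => by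
      conv_rhs => rw [pi_eq_sum_univ' w, map_sum]
      rw [mulVec, dotProduct]
      refine Finset.sum_congr rfl fun j _ => ?_
      rw [map_smul, smul_eq_mul, mul_comm]
      rfl
    let M : Matrix (Unit ⊕ (Fin m ⊕ Fin m)) (Unit ⊕ (Fin m ⊕ Fin m)) F := fromBlocks 1 r 0 h.1
    have hMd : M.det ≠ 0 := by
      rw [det_fromBlocks_zero₂₁, det_one, one_mul]
      exact (SymplecticGroup.symplectic_det h.2).ne_zero
    refine ⟨⟨GeneralLinearGroup.mkOfDetNeZero M hMd, fun v _ => ?_⟩, Subtype.ext ?_⟩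
    · show Cfsg.quadFormOdd m F (M *ᵥ v) = Cfsg.quadFormOdd m F v
      rw [hQ, hQ, fromBlocks_mulVec, Sum.elim_inl, Sum.elim_comp_inr]
      simp only [one_mulVec, zero_mulVec, zero_add, Pi.add_apply, hr, Function.comp_apply]
      rw [CharTwo.add_sq, show L (v ∘ Sum.inr) ^ 2 = D (v ∘ Sum.inr) from hσ _]
      simp only [D]
      linear_combination (CharTwo.add_self_eq_zero (P (h.1 *ᵥ (v ∘ Sum.inr))))
    · exact toBlocks_fromBlocks₂₂ _ _ _ _

/-- In characteristic 2, O_{2m+1}(q) is isomorphic to Sp_{2m}(q). -/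
theorem result {F : Type*} [Field F] [Fintype F] [CharP F 2] (m : ℕ) : Nonempty (Cfsg.isometryGroup F (Cfsg.quadFormOdd m F) ≃* Matrix.symplecticGroup (Fin m) F) := by
  exact oddCharTwo m

end Cfsg.Agent.S0304
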