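import Cfsg.Statements.S2360
import Cfsg.Agent.Lib.SU3Inv

set_option autoImplicit false
open Cfsg

namespace Cfsg.Agent.S2360

/-- Let q be odd, F the field with q² elements and S = SU_3(F) (determinant-one isometries of the standard Hermitian form). Then all involutions of S are conjugate; there are exactly q²(q²−q+1) of them; the centralizer of an involution has order q(q+1)(q²−1), the order of the full unitary group of degree 2; and for two distinct commuting involutions t and x there is exactly one further involution commuting with both. -/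
theorem result {F : Type*} [Field F] [Fintype F] {q : ℕ} (hq : Odd q)
    (hF : Fintype.card F = q ^ 2) (t : ↥(Cfsg.SU 3 F q)) (ht : t ≠ 1) (ht2 : t * t = 1) :
    (∀ x : ↥(Cfsg.SU 3 F q), x ≠ 1 → x * x = 1 → ∃ g : ↥(Cfsg.SU 3 F q), g * t * g⁻¹ = x) ∧
    Nat.card {x : ↥(Cfsg.SU 3 F q) // x ≠ 1 ∧ x * x = 1} = q ^ 2 * (q ^ 2 - q + 1) ∧
    Nat.card ↥(Subgroup.centralizer ({t} : Set ↥(Cfsg.SU 3 F q))) = q * (q + 1) * (q ^ 2 - 1) ∧
    ∀ x : ↥(Cfsg.SU 3 F q), x ≠ 1 → x * x = 1 → x ≠ t → Commute t x →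
      Nat.card {y : ↥(Cfsg.SU 3 F q) // y ≠ 1 ∧ y * y = 1 ∧ y ≠ t ∧ y ≠ x ∧ Commute t y ∧ Commute x y} = 1 := by
  classical
  have h2 : (2 : F) ≠ 0 := CfsgLib.SU3Inv.two_ne hF hq
  obtain ⟨g, rfl⟩ := CfsgLib.SU3Inv.exists_conj_E hF h2 t ht ht2
  set e := CfsgLib.SU3Inv.E hF with he
  have h1 : ∀ x : ↥(Cfsg.SU 3 F q), g * x * g⁻¹ = 1 ↔ x = 1 := fun x => (CfsgLib.SU3Inv.conj_prop g x).1
  have h3 : ∀ x : ↥(Cfsg.SU 3 F q), g * x * g⁻¹ * (g * x * g⁻¹) = 1 ↔ x * x = 1 := fun x =>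
    (CfsgLib.SU3Inv.conj_prop g x).2
  have hi : ∀ a b : ↥(Cfsg.SU 3 F q), g * a * g⁻¹ = g * b * g⁻¹ ↔ a = b := fun a b => by simp
  have hc : ∀ a b : ↥(Cfsg.SU 3 F q), Commute (g * a * g⁻¹) (g * b * g⁻¹) ↔ Commute a b := fun a b =>
    Commute.conj_iff g
  have surj : ∀ y : ↥(Cfsg.SU 3 F q), ∃ z, y = g * z * g⁻¹ := fun y => ⟨g⁻¹ * y * g, by group⟩
  refine ⟨fun x hx hx2 => ?_, CfsgLib.SU3Inv.card_inv hF h2, CfsgLib.SU3Inv.card_centralizer hF h2 _ ht ht2,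
    fun x hx hx2 hxt hc' => ?_⟩
  · obtain ⟨k, rfl⟩ := CfsgLib.SU3Inv.exists_conj_E hF h2 x hx hx2
    exact ⟨k * g⁻¹, by rw [he]; group⟩
  · obtain ⟨z, rfl⟩ := surj x
    rw [Ne, h1] at hx
    rw [h3] at hx2
    rw [Ne, hi] at hxt
    rw [hc] at hc'
    rw [← CfsgLib.SU3Inv.third hF h2 z hx hx2 hxt hc']
    refine (CfsgLib.SU3Inv.card_transport g _ _ fun y => ?_).symm
    simp only [← he, Ne, h1, h3, hi, hc]

end Cfsg.Agent.S2360
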