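import Cfsg.Statements.S1946
import Cfsg.Agent.Lib.SmallFusion

set_option autoImplicit false
set_option linter.unusedVariables false
open Cfsg
open scoped commutatorElement

namespace Cfsg.Agent.S1946

/-- Let P be a Sylow p-subgroup of the finite group G. Then G has a normal p-complement if and only if P controls the fusion of its elements of order dividing p (dividing 4 when p = 2): whenever such an element a of P has a G-conjugate g a g⁻¹ in P, that conjugate is already x a x⁻¹ for some x in P. -/
theorem result {G : Type*} [Group G] [Finite G] {p : ℕ} [Fact p.Prime] (P : Sylow p G) :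
    Cfsg.HasNormalPComplement p G ↔
      ∀ a ∈ (P : Subgroup G), (a ^ p = 1 ∨ (p = 2 ∧ a ^ 4 = 1)) → ∀ g : G, g * a * g⁻¹ ∈ (P : Subgroup G) →
        ∃ x ∈ (P : Subgroup G), g * a * g⁻¹ = x * a * x⁻¹ := by
    constructor
    · intro h a ha _ g hga
      have hc := CfsgLib.pPrimeCore_isComplement'_sylow
        (CfsgLib.isPGroup_quotient_of_hasNormalPComplement h) P
      obtain ⟨⟨⟨k, hk⟩, ⟨s, hs⟩⟩, hks⟩ := hc.2 g
      change k * s = g at hks
      refine ⟨s, hs, ?_⟩
      have hb : s * a * s⁻¹ ∈ (P : Subgroup G) :=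
        (P : Subgroup G).mul_mem ((P : Subgroup G).mul_mem hs ha) ((P : Subgroup G).inv_mem hs)
      have hmem : g * a * g⁻¹ * (s * a * s⁻¹)⁻¹ ∈ Cfsg.pPrimeCore p G := by
        have e : g * a * g⁻¹ * (s * a * s⁻¹)⁻¹ = k * ((s * a * s⁻¹) * k⁻¹ * (s * a * s⁻¹)⁻¹) := by
          rw [← hks]; group
        rw [e]
        exact mul_mem hk ((inferInstance : (Cfsg.pPrimeCore p G).Normal).conj_mem _ (inv_mem hk) _)
      have h1 := Subgroup.disjoint_def.1 hc.disjoint hmem
        ((P : Subgroup G).mul_mem hga ((P : Subgroup G).inv_mem hb))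
      exact mul_inv_eq_one.1 h1
    · intro h
      haveI : Group.IsNilpotent ↥(P : Subgroup G) := P.2.isNilpotent
      obtain ⟨n, hn⟩ := Subgroup.nilpotent_iff_lowerCentralSeries.1
        (inferInstance : Group.IsNilpotent ↥(P : Subgroup G))
      refine CfsgLib.SmallFusion.hasNormalPComplement_of_filtration P
        (fun i => ((⊤ : Subgroup ↥(P : Subgroup G)).lowerCentralSeries i).map (P : Subgroup G).subtype)
        (fun x hx _ => ⟨⟨x, hx⟩, Subgroup.mem_top _, rfl⟩) (n := n)
        (by simp only [hn, Subgroup.map_bot]) ?_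
      intro g i x hxP hxF hxs hgx
      obtain ⟨s, hs, e⟩ := h x hxP ((CfsgLib.Small.pow_smallExp_eq_one_iff x).1 hxs) g hgx
      obtain ⟨x', hx', rfl⟩ := hxF
      rw [e]
      refine ⟨⁅(⟨s, hs⟩ : (P : Subgroup G)), x'⁆, ?_, by simp [commutatorElement_def]⟩
      rw [Subgroup.lowerCentralSeries_succ, Subgroup.commutator_comm]
      exact Subgroup.commutator_mem_commutator (Subgroup.mem_top _) hx'

end Cfsg.Agent.S1946
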