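import Cfsg.Statements.S2566


set_option autoImplicit false
open Cfsg
open scoped Matrix

namespace Cfsg.Agent.S2566

abbrev Perm3 := Equiv.Perm (Fin 3)
abbrev I4 := Fin 2 ⊕ Fin 2
abbrev V4 := I4 → ZMod 2

/-- The form. -/
def Q (v : V4) : ZMod 2 := Cfsg.quadFormPlus 2 (ZMod 2) v

/-- The six non-singular vectors: two triangles `0 1 2` and `3 4 5`. -/
def vec (i : Fin 6) : V4 :=
  Sum.elim (![![1, 0], ![0, 1], ![1, 1], ![0, 1], ![1, 1], ![1, 0]] i)
    (![![1, 0], ![1, 1], ![0, 1], ![0, 1], ![1, 0], ![1, 1]] i)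

/-- The index of a non-singular vector. -/
def idx (v : V4) : Fin 6 :=
  if v = vec 0 then 0 else if v = vec 1 then 1 else if v = vec 2 then 2 else
    if v = vec 3 then 3 else if v = vec 4 then 4 else 5

theorem Q_vec (i : Fin 6) : Q (vec i) = 1 := by revert i; decide +kernel

theorem vec_idx : ∀ v : V4, Q v = 1 → vec (idx v) = v := by decide +kernel

theorem decomp : ∀ v : V4, v = (v (.inl 0) + v (.inl 1) + v (.inr 1)) • vec 0 +
    (v (.inl 0) + v (.inr 0)) • vec 1 + (v (.inl 0) + v (.inr 0) + v (.inr 1)) • vec 3 +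
    (v (.inl 1) + v (.inr 1)) • vec 4 := by
  decide +kernel

/-- Polar relation on the six vectors: `1` inside a triangle, `0` across. -/
def pol (i j : Fin 6) : ZMod 2 := Q (vec i + vec j) - Q (vec i) - Q (vec j)

/-- Admissible images of `vec 0, vec 1, vec 3, vec 4`. -/
def Good (t : Fin 6 × Fin 6 × Fin 6 × Fin 6) : Prop :=
  pol t.1 t.2.1 = pol 0 1 ∧ pol t.1 t.2.2.1 = pol 0 3 ∧ pol t.1 t.2.2.2 = pol 0 4 ∧
    pol t.2.1 t.2.2.1 = pol 1 3 ∧ pol t.2.1 t.2.2.2 = pol 1 4 ∧ pol t.2.2.1 t.2.2.2 = pol 3 4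

instance : DecidablePred Good := fun _ => inferInstanceAs (Decidable (_ ∧ _))

theorem card_Good : Fintype.card {t // Good t} = 72 := by decide +kernel

theorem good_of_isometry (M : Matrix I4 I4 (ZMod 2)) (hM : ∀ v, Q (M *ᵥ v) = Q v) :
    Good (idx (M *ᵥ vec 0), idx (M *ᵥ vec 1), idx (M *ᵥ vec 3), idx (M *ᵥ vec 4)) := by
  have key : ∀ i j, pol (idx (M *ᵥ vec i)) (idx (M *ᵥ vec j)) = pol i j := fun i j => by
    simp only [pol]
    rw [vec_idx _ ((hM _).trans (Q_vec i)), vec_idx _ ((hM _).trans (Q_vec j)), ← Matrix.mulVec_add,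
      hM, hM, hM]
  exact ⟨key 0 1, key 0 3, key 0 4, key 1 3, key 1 4, key 3 4⟩

/-- The change of basis to the two planes, and its inverse. -/
def T : Matrix I4 I4 (ZMod 2) :=
  Matrix.of fun i j => Sum.elim (fun k : Fin 2 => vec (![0, 1] k) i) (fun k : Fin 2 => vec (![3, 4] k) i) j

def Ti : Matrix I4 I4 (ZMod 2) :=
  Matrix.of fun i j => Sum.elim
    (fun k : Fin 2 => Sum.elim (![![1, 1], ![1, 0]] k) (![![0, 1], ![1, 0]] k) j)
    (fun k : Fin 2 => Sum.elim (![![1, 0], ![0, 1]] k) (![![1, 1], ![0, 1]] k) j) i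

/-- `S₃` on a plane over `𝔽₂`. -/
def rho (σ : Perm3) : Matrix (Fin 2) (Fin 2) (ZMod 2) :=
  Matrix.of fun i j => (![![1, 0], ![0, 1], ![1, 1]] : Fin 3 → Fin 2 → ZMod 2) (σ (Fin.castSucc j)) i

/-- The elements of the wreath product. -/
def Mat : Perm3 × Perm3 × Bool → Matrix I4 I4 (ZMod 2) := fun p =>
  T * (bif p.2.2 then Matrix.fromBlocks 0 (rho p.1) (rho p.2.1) 0 else Matrix.fromBlocks (rho p.1) 0 0 (rho p.2.1)) * Ti

def Inv : Perm3 × Perm3 × Bool → Matrix I4 I4 (ZMod 2) := fun p =>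
  bif p.2.2 then Mat (p.2.1⁻¹, p.1⁻¹, true) else Mat (p.1⁻¹, p.2.1⁻¹, false)

theorem isometry_Mat : ∀ p : Perm3 × Perm3 × Bool, ∀ v : V4, Q (Mat p *ᵥ v) = Q v := by decide +kernel

theorem mul_Inv : ∀ p : Perm3 × Perm3 × Bool, Mat p * Inv p = 1 ∧ Inv p * Mat p = 1 := by decide +kernel

theorem Mat_injective : ∀ p p' : Perm3 × Perm3 × Bool, Mat p = Mat p' → p = p' := by decide +kernel

theorem Mat_mul_left : ∀ a b : Perm3, Mat (a * b, 1, false) = Mat (a, 1, false) * Mat (b, 1, false) := by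
  decide +kernel

theorem Mat_mul_right : ∀ a b : Perm3, Mat (1, a * b, false) = Mat (1, a, false) * Mat (1, b, false) := by
  decide +kernel

theorem Mat_comm : ∀ a b : Perm3, Mat (a, 1, false) * Mat (1, b, false) = Mat (a, b, false) ∧
    Mat (1, b, false) * Mat (a, 1, false) = Mat (a, b, false) := by
  decide +kernel

theorem Mat_swap : ∀ a : Perm3, Mat (1, 1, true) * Mat (a, 1, false) = Mat (1, a, false) * Mat (1, 1, true) := by
  decide +kernel


/-- The full orthogonal group of the plus-type form x₁y₁ + x₂y₂ in dimension 4 over the field of two elements has order 72 and is isomorphic to the wreath product of the symmetric group of degree 3 by a group of order 2: it has a normal subgroup isomorphic to the direct product of two symmetric groups of degree 3, of index 2, whose two direct factors are interchanged by conjugation by some element. -/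
theorem result :
    Nat.card ↥(Cfsg.isometryGroup (ZMod 2) (Cfsg.quadFormPlus 2 (ZMod 2))) = 72 ∧
    ∃ (A B : Subgroup ↥(Cfsg.isometryGroup (ZMod 2) (Cfsg.quadFormPlus 2 (ZMod 2)))),
      Nonempty (↥A ≃* Equiv.Perm (Fin 3)) ∧ Nonempty (↥B ≃* Equiv.Perm (Fin 3)) ∧ A ⊓ B = ⊥ ∧ (∀ a ∈ A, ∀ b ∈ B, a * b = b * a) ∧
      (A ⊔ B).index = 2 ∧ ∃ g : ↥(Cfsg.isometryGroup (ZMod 2) (Cfsg.quadFormPlus 2 (ZMod 2))), A.map (MulAut.conj g).toMonoidHom = B := by
  classical
  let G := Cfsg.isometryGroup (ZMod 2) (Cfsg.quadFormPlus 2 (ZMod 2))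
  have hmem : ∀ p : Perm3 × Perm3 × Bool, ∀ v, Q (Mat p *ᵥ v) = Q v := isometry_Mat
  let mkG : Perm3 × Perm3 × Bool → G := fun p =>
    ⟨⟨Mat p, Inv p, (mul_Inv p).1, (mul_Inv p).2⟩, fun u v => hmem p u⟩
  have hinj : Function.Injective mkG := fun p p' h =>
    Mat_injective p p' (congrArg (fun g : G => g.1.1) h)
  have hle : Nat.card G ≤ 72 := by
    let sel : G → {t : Fin 6 × Fin 6 × Fin 6 × Fin 6 // Good t} := fun g =>
      ⟨(idx (g.1.1 *ᵥ vec 0), idx (g.1.1 *ᵥ vec 1), idx (g.1.1 *ᵥ vec 3), idx (g.1.1 *ᵥ vec 4)),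
        good_of_isometry g.1.1 (fun v => g.2 v v)⟩
    have hsel : Function.Injective sel := by
      intro g h e
      have e' := congrArg Subtype.val e
      simp only [sel, Prod.mk.injEq] at e'
      obtain ⟨e0, e1, e3, e4⟩ := e'
      have key : ∀ i, idx (g.1.1 *ᵥ vec i) = idx (h.1.1 *ᵥ vec i) → g.1.1 *ᵥ vec i = h.1.1 *ᵥ vec i :=
        fun i hi => by
          have hg : Q (g.1.1 *ᵥ vec i) = 1 := (g.2 (vec i) (vec i)).trans (Q_vec i)
          have hh : Q (h.1.1 *ᵥ vec i) = 1 := (h.2 (vec i) (vec i)).trans (Q_vec i)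
          rw [← vec_idx _ hg, hi, vec_idx _ hh]
      refine Subtype.ext (Units.ext (Matrix.mulVec_injective (funext fun v => ?_)))
      rw [decomp v]
      simp only [Matrix.mulVec_add, Matrix.mulVec_smul, key 0 e0, key 1 e1, key 3 e3, key 4 e4]
    refine (Nat.card_le_card_of_injective sel hsel).trans (le_of_eq ?_)
    rw [Nat.card_eq_fintype_card]
    exact card_Good
  have hge : 72 ≤ Nat.card G := by
    refine le_trans (le_of_eq ?_) (Nat.card_le_card_of_injective mkG hinj)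
    simp [Nat.card_eq_fintype_card, Fintype.card_perm, Nat.factorial]
  let iA : Perm3 →* G := MonoidHom.mk' (fun σ => mkG (σ, 1, false)) fun a b =>
    Subtype.ext (Units.ext (Mat_mul_left a b))
  let iB : Perm3 →* G := MonoidHom.mk' (fun σ => mkG (1, σ, false)) fun a b =>
    Subtype.ext (Units.ext (Mat_mul_right a b))
  have hiA : Function.Injective iA := fun a b h => by
    have := hinj (show mkG (a, 1, false) = mkG (b, 1, false) from h)
    exact congrArg Prod.fst this
  have hiB : Function.Injective iB := fun a b h => by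
    have := hinj (show mkG (1, a, false) = mkG (1, b, false) from h)
    exact congrArg (fun p => p.2.1) this
  have hcomm : ∀ σ τ, iA σ * iB τ = mkG (σ, τ, false) ∧ iB τ * iA σ = mkG (σ, τ, false) :=
    fun σ τ => ⟨Subtype.ext (Units.ext (Mat_comm σ τ).1), Subtype.ext (Units.ext (Mat_comm σ τ).2)⟩
  refine ⟨le_antisymm hle hge, iA.range, iB.range, ⟨(MonoidHom.ofInjective hiA).symm⟩,
    ⟨(MonoidHom.ofInjective hiB).symm⟩, ?_, ?_, ?_, mkG (1, 1, true), ?_⟩
  · rw [Subgroup.eq_bot_iff_forall]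
    rintro x ⟨⟨σ, rfl⟩, τ, hτ⟩
    have h : mkG (1, τ, false) = mkG (σ, 1, false) := hτ
    rw [show σ = 1 from (congrArg Prod.fst (hinj h)).symm, map_one]
  · rintro _ ⟨σ, rfl⟩ _ ⟨τ, rfl⟩
    rw [(hcomm σ τ).1, (hcomm σ τ).2]
  · let iAB : Perm3 × Perm3 →* G := MonoidHom.noncommCoprod iA iB fun σ τ =>
      (hcomm σ τ).1.trans (hcomm σ τ).2.symm
    have hiAB : Function.Injective iAB := fun p p' h => by
      have h' : mkG (p.1, p.2, false) = mkG (p'.1, p'.2, false) := by
        rw [← (hcomm _ _).1, ← (hcomm _ _).1]; exact h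
      have := hinj h'
      simp only [Prod.mk.injEq, and_true] at this
      exact Prod.ext this.1 this.2
    have hsup : iA.range ⊔ iB.range = iAB.range := by
      refine le_antisymm (sup_le ?_ ?_) ?_
      · rintro _ ⟨σ, rfl⟩
        exact ⟨(σ, 1), (congrArg (iA σ * ·) (map_one iB)).trans (mul_one _)⟩
      · rintro _ ⟨τ, rfl⟩
        exact ⟨(1, τ), (congrArg (· * iB τ) (map_one iA)).trans (one_mul _)⟩
      · rintro _ ⟨p, rfl⟩
        exact Subgroup.mul_mem _ (Subgroup.mem_sup_left ⟨p.1, rfl⟩) (Subgroup.mem_sup_right ⟨p.2, rfl⟩)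
    have h := iAB.range.index_mul_card
    rw [← Nat.card_congr (MonoidHom.ofInjective hiAB).toEquiv, le_antisymm hle hge, Nat.card_prod,
      Nat.card_eq_fintype_card, Fintype.card_perm, Fintype.card_fin] at h
    simp [Nat.factorial] at h
    rw [hsup]
    omega
  · rw [MonoidHom.map_range]
    congr 1
    refine MonoidHom.ext fun σ => ?_
    show mkG (1, 1, true) * mkG (σ, 1, false) * (mkG (1, 1, true))⁻¹ = mkG (1, σ, false)
    rw [mul_inv_eq_iff_eq_mul]
    exact Subtype.ext (Units.ext (Mat_swap σ))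

end Cfsg.Agent.S2566
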