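import Cfsg.Statements.S3972
import Mathlib
-- import your own Cfsg.Agent.* helpers here

set_option autoImplicit false
open Cfsg

namespace Cfsg.Agent.S3972

section

variable {Ω : Type*} [Fintype Ω] [DecidableEq Ω] {N : ℕ} [NeZero N]

/-- A regular cyclic labelling of the points of `G`. -/
structure Lab (G : Subgroup (Equiv.Perm Ω)) (N : ℕ) where
  e : ZMod N ≃ Ω
  shift : ∀ k : ZMod N, ∃ σ ∈ G, ∀ i, σ (e i) = e (i + k)

/-- `f` gives a `G`-invariant kernel. -/
def Inv {G : Subgroup (Equiv.Perm Ω)} (L : Lab G N) {β : Type*} (f : ZMod N → β) : Prop :=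
  ∀ σ ∈ G, ∀ u v : Ω, f (L.e.symm (σ v) - L.e.symm (σ u)) = f (L.e.symm v - L.e.symm u)

/-- The suborbit relation. -/
def Rel {G : Subgroup (Equiv.Perm Ω)} (L : Lab G N) (i j : ZMod N) : Prop :=
  ∃ σ ∈ G, σ (L.e 0) = L.e 0 ∧ σ (L.e i) = L.e j

variable {G : Subgroup (Equiv.Perm Ω)} {L : Lab G N}

theorem Inv.rel {β : Type*} {f : ZMod N → β} (hf : Inv L f) {i j : ZMod N} (h : Rel L i j) : f i = f j := by
  obtain ⟨σ, hσ, h0, hij⟩ := h
  have := hf σ hσ (L.e 0) (L.e i)
  rw [h0, hij] at this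
  simpa using this.symm

theorem inv_of_rel {β : Type*} {f : ZMod N → β} (hf : ∀ i j, Rel L i j → f i = f j) : Inv L f := by
  intro σ hσ u v
  obtain ⟨i, rfl⟩ := L.e.surjective u
  obtain ⟨j, rfl⟩ := L.e.surjective v
  simp only [Equiv.symm_apply_apply]
  obtain ⟨a, ha, ha'⟩ := L.shift i
  obtain ⟨b, hb, hb'⟩ := L.shift (-(L.e.symm (σ (L.e i))))
  refine (hf _ _ ⟨b * σ * a, mul_mem (mul_mem hb hσ) ha, ?_, ?_⟩).symm
  · show b (σ (a (L.e 0))) = L.e 0
    rw [ha', zero_add, ← L.e.apply_symm_apply (σ (L.e i)), hb']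
    simp
  · show b (σ (a (L.e (j - i)))) = L.e (L.e.symm (σ (L.e j)) - L.e.symm (σ (L.e i)))
    rw [ha', sub_add_cancel, ← L.e.apply_symm_apply (σ (L.e j)), hb', sub_eq_add_neg]
    simp

theorem Rel.refl (i : ZMod N) : Rel L i i := ⟨1, one_mem _, rfl, rfl⟩

theorem Rel.symm {i j : ZMod N} : Rel L i j → Rel L j i := by
  rintro ⟨σ, hσ, h0, hij⟩
  refine ⟨σ⁻¹, inv_mem hσ, ?_, ?_⟩
  · conv_lhs => rw [← h0]
    simp
  · rw [← hij]; simp

theorem Rel.trans {i j k : ZMod N} : Rel L i j → Rel L j k → Rel L i k := by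
  rintro ⟨σ, hσ, h0, hij⟩ ⟨τ, hτ, k0, hjk⟩
  exact ⟨τ * σ, mul_mem hτ hσ, by rw [Equiv.Perm.mul_apply, h0, k0], by rw [Equiv.Perm.mul_apply, hij, hjk]⟩

theorem Rel.eq_zero {i : ZMod N} (h : Rel L i 0) : i = 0 := by
  obtain ⟨σ, -, h0, hi⟩ := h
  exact L.e.injective (σ.injective (hi.trans h0.symm))

variable (q : ℕ) [Fact q.Prime]

theorem coeff_mul' (a b : AddMonoidAlgebra (ZMod q) (ZMod N)) (x : ZMod N) :
    (a * b).coeff x = ∑ t, a.coeff t * b.coeff (x - t) := by
  classical
  induction a using AddMonoidAlgebra.induction_linear with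
  | zero => simp
  | add u v hu hv => simp [add_mul, hu, hv, Finset.sum_add_distrib]
  | single i c =>
    rw [AddMonoidAlgebra.coeff_single_mul_eq_mul_coeff (x - i) (fun m _ => (eq_sub_iff_add_eq'.symm)),
      Finset.sum_eq_single i (fun t _ ht => by simp [Finsupp.single_apply, Ne.symm ht]) (by simp)]
    simp

theorem inv_coeff_mul {a b : AddMonoidAlgebra (ZMod q) (ZMod N)} (ha : Inv L fun i => a.coeff i)
    (hb : Inv L fun i => b.coeff i) : Inv L fun i => (a * b).coeff i := by
  intro σ hσ u v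
  simp only [coeff_mul']
  have key : ∀ u v : Ω, (∑ t, a.coeff t * b.coeff (L.e.symm v - L.e.symm u - t))
      = ∑ w : Ω, a.coeff (L.e.symm w - L.e.symm u) * b.coeff (L.e.symm v - L.e.symm w) := by
    intro u v
    refine Fintype.sum_equiv ((Equiv.addRight (L.e.symm u)).trans L.e) _ _ fun t => ?_
    simp only [Equiv.trans_apply, Equiv.coe_addRight, Equiv.symm_apply_apply, add_sub_cancel_right]
    congr 2
    abel
  rw [key, key]
  refine (Fintype.sum_equiv σ _ _ fun w => ?_).symm
  have h1 := ha σ hσ u w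
  have h2 := hb σ hσ w v
  simp only [] at h1 h2
  rw [h1, h2]

theorem inv_coeff_pow {a : AddMonoidAlgebra (ZMod q) (ZMod N)} (ha : Inv L fun i => a.coeff i) :
    ∀ k : ℕ, Inv L fun i => (a ^ (k + 1)).coeff i
  | 0 => by simpa using ha
  | k + 1 => by
    rw [pow_succ]
    exact inv_coeff_mul q (inv_coeff_pow ha k) ha

/-- Multiplication by a prime, modulo that prime. -/
theorem inv_fibre {T : Finset (ZMod N)} (hT : Inv L fun i => i ∈ T) :
    Inv L fun y => (((T.filter fun t => q • t = y).card : ℕ) : ZMod q) := by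
  classical
  haveI : CharP (AddMonoidAlgebra (ZMod q) (ZMod N)) q :=
    charP_of_injective_algebraMap (FaithfulSMul.algebraMap_injective (ZMod q) _) q
  set a : AddMonoidAlgebra (ZMod q) (ZMod N) := ∑ t ∈ T, AddMonoidAlgebra.single t (1 : ZMod q) with ha
  have h1 : ∀ i, a.coeff i = if i ∈ T then 1 else 0 := fun i => by
    simp [ha, Finsupp.single_apply, AddMonoidAlgebra.coeff_sum]
  have hai : Inv L fun i => a.coeff i := by
    intro σ hσ u v
    simp only [h1]
    exact if_congr (iff_of_eq (hT σ hσ u v)) rfl rfl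
  have h2 := inv_coeff_pow q hai (q - 1)
  rw [Nat.sub_add_cancel (Fact.out : q.Prime).one_le] at h2
  have h3 : a ^ q = ∑ t ∈ T, AddMonoidAlgebra.single (q • t) (1 : ZMod q) := by
    rw [ha, sum_pow_char]
    exact Finset.sum_congr rfl fun t _ => by rw [AddMonoidAlgebra.single_pow, one_pow]
  intro σ hσ u v
  have h4 := h2 σ hσ u v
  simp only [h3] at h4
  simpa [Finsupp.single_apply, AddMonoidAlgebra.coeff_sum] using h4

end

set_option maxHeartbeats 800000 in
theorem key {Ω : Type*} [Fintype Ω] [DecidableEq Ω] (p m : ℕ) (hp : p.Prime) (hm : 2 ≤ m)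
    {G : Subgroup (Equiv.Perm Ω)} [NeZero (p ^ m)] (L : Lab G (p ^ m))
    (h2 : ¬ MulAction.IsMultiplyPretransitive G Ω 2) :
    ∃ r : Ω → Ω → Prop, Equivalence r ∧ (∀ σ ∈ G, ∀ u v, r u v → r (σ u) (σ v)) ∧
      (∃ d : ZMod (p ^ m), d ≠ 0 ∧ r (L.e 0) (L.e d)) ∧ ∃ d : ZMod (p ^ m), ¬ r (L.e 0) (L.e d) := by
  classical
  haveI := Fact.mk hp
  by_contra hno
  push Not at hno
  set R := ZMod (p ^ m)
  haveI : Fact (1 < p ^ m) := ⟨Nat.one_lt_pow (by omega) hp.one_lt⟩
  let orb : R → Finset R := fun i => Finset.univ.filter (Rel L i)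
  have horb : ∀ {i j}, j ∈ orb i ↔ Rel L i j := fun {i j} => by simp [orb]
  have hinvorb : ∀ i, Inv L fun j => j ∈ orb i := fun i => inv_of_rel fun a b hab =>
    propext ⟨fun h => horb.mpr ((horb.mp h).trans hab), fun h => horb.mpr ((horb.mp h).trans hab.symm)⟩
  -- the equivalence generated by one suborbit
  have hgen : ∀ (S : AddSubgroup R), S ≠ ⊤ → ∀ i : R, i ≠ 0 → ∃ j ∈ orb i, j ∉ S := by
    intro S hS i hi
    by_contra hall
    push Not at hall
    let E : Ω → Ω → Prop := fun u v => L.e.symm v - L.e.symm u ∈ orb i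
    refine hS (eq_top_iff.mpr fun d _ => ?_)
    have hd := hno (Relation.EqvGen E) (Relation.EqvGen.is_equivalence E) (fun σ hσ u v huv => by
      induction huv with
      | rel x y h => exact Relation.EqvGen.rel _ _ (by
          show _ ∈ orb i
          rw [show (L.e.symm (σ y) - L.e.symm (σ x) ∈ orb i) = _ from hinvorb i σ hσ x y]; exact h)
      | refl x => exact Relation.EqvGen.refl _
      | symm _ _ _ ih => exact Relation.EqvGen.symm _ _ ih
      | trans _ _ _ _ _ ih1 ih2 => exact Relation.EqvGen.trans _ _ _ ih1 ih2)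
      ⟨i, hi, Relation.EqvGen.rel _ _ (by show _ ∈ orb i; simpa using horb.mpr (Rel.refl i))⟩ d
    have hSr : ∀ u v, Relation.EqvGen E u v → L.e.symm v - L.e.symm u ∈ S := by
      intro u v huv
      induction huv with
      | rel x y h => exact hall _ h
      | refl x => simp
      | symm _ _ _ ih => simpa using S.neg_mem ih
      | trans _ _ _ _ _ ih1 ih2 => simpa using S.add_mem ih2 ih1
    simpa using hSr _ _ hd
  -- multipliers
  have hmul : ∀ k : ℕ, k.Coprime p → ∀ T : Finset R, Inv L (fun i => i ∈ T) →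
      Inv L fun i => i ∈ T.image fun t => k • t := by
    intro k
    induction k using Nat.strong_induction_on with
    | _ k ih =>
      intro hk T hT
      by_cases hk1 : k = 1
      · subst hk1; simpa using hT
      have hk0 : k ≠ 0 := by rintro rfl; exact hp.ne_one (by simpa using hk)
      obtain ⟨q, hq, hqk⟩ := Nat.exists_prime_and_dvd hk1
      obtain ⟨l, rfl⟩ := hqk
      have hl := ih l (lt_mul_of_one_lt_left (Nat.pos_of_ne_zero (right_ne_zero_of_mul hk0)) hq.one_lt)
        (Nat.Coprime.coprime_dvd_left (dvd_mul_left l q) hk) T hT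
      haveI := Fact.mk hq
      have hinj : Function.Injective fun t : R => q • t := by
        intro a b h
        simp only [nsmul_eq_mul] at h
        exact ((ZMod.isUnit_iff_coprime q (p ^ m)).mpr
          (Nat.Coprime.pow_right m (Nat.Coprime.coprime_dvd_left (dvd_mul_right q l) hk))).mul_left_cancel h
      have h5 := inv_fibre q hl
      have hiff : ∀ y : R, y ∈ T.image (fun t => (q * l) • t) ↔
          ((((T.image fun t => l • t).filter fun t => q • t = y).card : ℕ) : ZMod q) ≠ 0 := by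
        intro y
        constructor
        · intro hy
          obtain ⟨t, ht, rfl⟩ := Finset.mem_image.mp hy
          rw [show ((T.image fun t => l • t).filter fun t' => q • t' = (q * l) • t) = {l • t} from by
            ext a
            simp only [Finset.mem_filter, Finset.mem_singleton, Finset.mem_image]
            constructor
            · rintro ⟨-, h⟩; rw [mul_nsmul'] at h; exact hinj h
            · rintro rfl; exact ⟨⟨t, ht, rfl⟩, (mul_nsmul' t q l).symm⟩]
          simp
        · intro hy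
          obtain ⟨a, ha⟩ := Finset.card_ne_zero.mp (fun h => hy (by rw [h]; simp))
          obtain ⟨ha1, ha2⟩ := Finset.mem_filter.mp ha
          obtain ⟨t, ht, rfl⟩ := Finset.mem_image.mp ha1
          exact Finset.mem_image.mpr ⟨t, ht, by rw [mul_nsmul']; exact ha2⟩
      intro σ hσ u v
      simp only [hiff]
      exact congrArg (fun z : ZMod q => z ≠ 0) (h5 σ hσ u v)
  have hrelmul : ∀ k : ℕ, k.Coprime p → ∀ i j : R, Rel L i j → Rel L (k • i) (k • j) := by
    have hsub : ∀ k : ℕ, k.Coprime p → ∀ i : R, orb (k • i) ⊆ (orb i).image fun t => k • t := by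
      intro k hk i j hj
      exact ((hmul k hk _ (hinvorb i)).rel (horb.mp hj)).mp
        (Finset.mem_image.mpr ⟨i, horb.mpr (Rel.refl i), rfl⟩)
    intro k hk i j hij
    obtain ⟨k', hk'⟩ := (show ∃ k' : ℕ, ((k' : ℕ) : R) * (k : R) = 1 from by
      obtain ⟨u, hu⟩ := (ZMod.isUnit_iff_coprime k (p ^ m)).mpr (Nat.Coprime.pow_right m hk)
      exact ⟨((u⁻¹ : Rˣ) : R).val, by rw [ZMod.natCast_zmod_val, ← hu]; simp⟩)
    have hk'c : k'.Coprime p := by
      refine ((Nat.Prime.coprime_iff_not_dvd hp).mpr fun hd => ?_).symm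
      have hu : IsUnit ((k' : ℕ) : R) := IsUnit.of_mul_eq_one _ hk'
      have hc := (Nat.coprime_pow_right_iff (by omega) _ _).mp ((ZMod.isUnit_iff_coprime k' (p ^ m)).mp hu)
      exact hp.ne_one (Nat.eq_one_of_dvd_coprimes hc hd dvd_rfl)
    have hkk : ∀ z : R, k' • k • z = z := fun z => by
      simp only [nsmul_eq_mul, ← mul_assoc, hk', one_mul]
    have hle : ((orb i).image fun t => k • t) = orb (k • i) := by
      refine (Finset.eq_of_subset_of_card_le (hsub k hk i) ?_).symm
      calc ((orb i).image fun t => k • t).card ≤ (orb i).card := Finset.card_image_le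
        _ ≤ ((orb (k • i)).image fun t => k' • t).card := Finset.card_le_card (by
            have := hsub k' hk'c (k • i); rwa [hkk] at this)
        _ ≤ (orb (k • i)).card := Finset.card_image_le
    exact horb.mp (hle ▸ Finset.mem_image.mpr ⟨j, horb.mpr hij, rfl⟩)
  -- elements of order `p`
  set w0 : R := ((p ^ (m - 1) : ℕ) : R) with hw0
  let W : Finset R := Finset.univ.filter fun w => p • w = 0 ∧ w ≠ 0
  have hpm : p ^ m = p * p ^ (m - 1) := by rw [← pow_succ']; congr 1; omega
  have hpw0 : p • w0 = 0 := by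
    rw [nsmul_eq_mul, hw0, ← Nat.cast_mul, ← hpm]; exact ZMod.natCast_self _
  have hw00 : w0 ≠ 0 := by
    rw [hw0, Ne, ZMod.natCast_eq_zero_iff, Nat.pow_dvd_pow_iff_le_right hp.one_lt]
    omega
  have hker : ∀ w : R, p • w = 0 → ∃ k : ℕ, k < p ∧ w = k • w0 := by
    intro w hw
    rw [nsmul_eq_mul, ← ZMod.natCast_zmod_val w, ← Nat.cast_mul, ZMod.natCast_eq_zero_iff] at hw
    obtain ⟨k, hk⟩ := Nat.dvd_of_mul_dvd_mul_left hp.pos ((dvd_of_eq hpm.symm).trans hw)
    refine ⟨k, ?_, ?_⟩
    · have h := (ZMod.val_lt w).trans_le (hpm.trans (mul_comm p _)).le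
      rw [hk] at h
      exact Nat.lt_of_mul_lt_mul_left h
    · rw [nsmul_eq_mul, hw0, ← Nat.cast_mul, mul_comm, ← hk, ZMod.natCast_zmod_val]
  let K : AddSubgroup R := AddSubgroup.zmultiples ((p : ℕ) : R)
  have hK : K ≠ ⊤ := by
    intro h
    obtain ⟨z, hz⟩ := AddSubgroup.mem_zmultiples_iff.mp (h.ge (AddSubgroup.mem_top (1 : R)))
    rw [zsmul_eq_mul] at hz
    have hu : IsUnit ((p : ℕ) : R) := IsUnit.of_mul_eq_one _ (by rw [mul_comm]; exact hz)
    exact hp.ne_one (Nat.eq_one_of_dvd_coprimes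
      ((Nat.coprime_pow_right_iff (by omega) _ _).mp ((ZMod.isUnit_iff_coprime p (p ^ m)).mp hu)) dvd_rfl dvd_rfl)
  have hpK : ∀ z : R, p • z ∈ K := fun z => by
    rw [AddSubgroup.mem_zmultiples_iff]
    exact ⟨(z.val : ℤ), by rw [zsmul_eq_mul, nsmul_eq_mul, Int.cast_natCast, ZMod.natCast_zmod_val, mul_comm]⟩
  -- fibres
  have hfib : ∀ i : R, ∀ t ∈ orb i, p • t ≠ 0 → ∀ w : R, p • w = 0 → t + w ∈ orb i := by
    intro i t ht hpt w hw
    let cnt : R → ℕ := fun y => ((orb i).filter fun t => p • t = y).card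
    have hinv := inv_fibre (L := L) p (hinvorb i)
    have h0 : ((cnt (p • t) : ℕ) : ZMod p) = 0 := by
      obtain ⟨j, hj, hjK⟩ := hgen K hK (p • t) hpt
      have he := hinv.rel (horb.mp hj)
      show (((orb i).filter fun t' => p • t' = p • t).card : ZMod p) = 0
      rw [show (((orb i).filter fun t' => p • t' = p • t).card : ZMod p) = ((((orb i).filter fun t' => p • t' = j).card : ℕ) : ZMod p) from he, show ((orb i).filter fun t' => p • t' = j) = ∅ from Finset.filter_eq_empty_iff.mpr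
        fun a _ ha => hjK (ha ▸ hpK a)]
      simp
    let Fb : Finset R := Finset.univ.filter fun z => p • z = p • t
    have hsub : ((orb i).filter fun t' => p • t' = p • t) ⊆ Fb := fun a ha =>
      Finset.mem_filter.mpr ⟨Finset.mem_univ _, (Finset.mem_filter.mp ha).2⟩
    have hFb : Fb.card ≤ p := by
      refine le_trans (Finset.card_le_card (t := (Finset.range p).image fun k => t + k • w0) fun a ha => ?_)
        (Finset.card_image_le.trans (Finset.card_range p).le)
      obtain ⟨k, hk, hk'⟩ := hker (a - t) (by rw [nsmul_sub, (Finset.mem_filter.mp ha).2, sub_self])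
      exact Finset.mem_image.mpr ⟨k, Finset.mem_range.mpr hk, by rw [← hk']; abel⟩
    have hdvd : p ∣ cnt (p • t) := (ZMod.natCast_eq_zero_iff _ _).mp h0
    have hpos : 0 < cnt (p • t) := Finset.card_pos.mpr ⟨t, Finset.mem_filter.mpr ⟨ht, rfl⟩⟩
    have he := Finset.eq_of_subset_of_card_le hsub (hFb.trans (Nat.le_of_dvd hpos hdvd))
    have hmem : t + w ∈ Fb := Finset.mem_filter.mpr ⟨Finset.mem_univ _, by rw [nsmul_add, hw, add_zero]⟩
    exact (Finset.mem_filter.mp (he.ge hmem)).1
  have hpw : ∀ t : R, p • t = 0 → t ≠ 0 → t ∈ W := fun t h1 h2' =>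
    Finset.mem_filter.mpr ⟨Finset.mem_univ _, h1, h2'⟩
  have hrel0 : ∀ i t : R, i ≠ 0 → t ∈ orb i → t ≠ 0 := fun i t hi ht e => hi (e ▸ horb.mp ht).eq_zero
  have hmeet : ∀ i : R, i ≠ 0 → ∃ w ∈ W, w ∈ orb i := by
    intro i hi
    by_contra hne
    push Not at hne
    have hpt : ∀ t ∈ orb i, p • t ≠ 0 := fun t ht h => hne t (hpw t h (hrel0 i t hi ht)) ht
    let r : Ω → Ω → Prop := fun u v => ∀ z : Ω,
      (L.e.symm z - L.e.symm u ∈ orb i ↔ L.e.symm z - L.e.symm v ∈ orb i)
    have hd := hno r ⟨fun _ _ => Iff.rfl, fun h z => (h z).symm, fun h1 h2' z => (h1 z).trans (h2' z)⟩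
      (fun σ hσ u v huv z => by
        obtain ⟨z', rfl⟩ := σ.surjective z
        exact Iff.trans (iff_of_eq (hinvorb i σ hσ u z')) ((huv z').trans (iff_of_eq (hinvorb i σ hσ v z')).symm))
      ⟨w0, hw00, fun z => by
        simp only [Equiv.symm_apply_apply, sub_zero]
        constructor
        · intro h
          have := hfib i _ h (hpt _ h) (-w0) (by rw [neg_nsmul, hpw0, neg_zero])
          rwa [← sub_eq_add_neg] at this
        · intro h
          have := hfib i _ h (hpt _ h) w0 hpw0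
          rwa [sub_add_cancel] at this⟩ i
    have hi' := (hd (L.e i)).mp (by simpa using horb.mpr (Rel.refl i))
    simp only [Equiv.symm_apply_apply, sub_self] at hi'
    exact hrel0 i 0 hi hi' rfl
  have hWmul : ∀ w ∈ W, ∃ k : ℕ, k.Coprime p ∧ w = k • w0 := by
    intro w hw
    obtain ⟨-, hw1, hw2⟩ := Finset.mem_filter.mp hw
    obtain ⟨k, hk, rfl⟩ := hker w hw1
    exact ⟨k, ((Nat.Prime.coprime_iff_not_dvd hp).mpr fun hd => hw2 (by
      rw [Nat.eq_zero_of_dvd_of_lt hd hk, zero_nsmul])).symm, rfl⟩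
  set T := orb w0 with hT
  have hsize : ∀ i : R, i ≠ 0 → (orb i).card = T.card ∧ (W.filter (Rel L i)).card = (W.filter (Rel L w0)).card := by
    intro i hi
    obtain ⟨w, hwW, hwi⟩ := hmeet i hi
    obtain ⟨k, hk, rfl⟩ := hWmul w hwW
    obtain ⟨k', hk'⟩ := (show ∃ k' : ℕ, ((k' : ℕ) : R) * (k : R) = 1 from by
      obtain ⟨u, hu⟩ := (ZMod.isUnit_iff_coprime k (p ^ m)).mpr (Nat.Coprime.pow_right m hk)
      exact ⟨((u⁻¹ : Rˣ) : R).val, by rw [ZMod.natCast_zmod_val, ← hu]; simp⟩)
    have hk'c : k'.Coprime p :=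
      (Nat.coprime_pow_right_iff (by omega) _ _).mp ((ZMod.isUnit_iff_coprime k' (p ^ m)).mp (IsUnit.of_mul_eq_one _ hk'))
    have hkk : ∀ z : R, k • k' • z = z := fun z => by
      simp only [nsmul_eq_mul]
      rw [← mul_assoc, mul_comm (k : R), hk', one_mul]
    have hkk' : ∀ z : R, k' • k • z = z := fun z => by
      simp only [nsmul_eq_mul, ← mul_assoc, hk', one_mul]
    have himg : ∀ A : Finset R, (∀ a, a ∈ A → k • a ∈ A) → (∀ a, a ∈ A → k' • a ∈ A) →
        (A.filter (Rel L w0)).card = (A.filter (Rel L i)).card := by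
      intro A h1 h2'
      refine Finset.card_nbij' (fun a => k • a) (fun a => k' • a) (fun a ha => ?_) (fun a ha => ?_)
        (fun a _ => hkk' a) (fun a _ => hkk a)
      · obtain ⟨ha1, ha2⟩ := Finset.mem_filter.mp ha
        exact Finset.mem_filter.mpr ⟨h1 a ha1, (horb.mp hwi).trans (hrelmul k hk _ _ ha2)⟩
      · obtain ⟨ha1, ha2⟩ := Finset.mem_filter.mp ha
        have := hrelmul k' hk'c _ _ ((horb.mp hwi).symm.trans ha2)
        rw [hkk'] at this
        exact Finset.mem_filter.mpr ⟨h2' a ha1, this⟩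
    refine ⟨(himg Finset.univ (fun _ _ => Finset.mem_univ _) (fun _ _ => Finset.mem_univ _)).symm,
      (himg W (fun a ha => ?_) (fun a ha => ?_)).symm⟩
    all_goals
      obtain ⟨-, ha1, ha2⟩ := Finset.mem_filter.mp ha
      refine hpw _ (by rw [smul_comm, ha1, nsmul_zero]) fun e => ha2 ?_
    · rw [← hkk' a, e, nsmul_zero]
    · rw [← hkk a, e, nsmul_zero]
  set s := T.card with hs
  set a := (W.filter (Rel L w0)).card with hadef
  let c : R → ℕ := fun h => (T.filter fun t => t + h ∈ T).card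
  have hc : ∀ i j, Rel L i j → c i = c j := by
    intro i j ⟨σ, hσ, h0, hij⟩
    have key : ∀ i : R, c i = (Finset.univ.filter fun z : Ω =>
        L.e.symm z - L.e.symm (L.e 0) ∈ T ∧ L.e.symm z - L.e.symm (L.e i) ∈ T).card := by
      intro i
      refine Finset.card_nbij' (fun t => L.e (t + i)) (fun z => L.e.symm z - i) (fun t ht => ?_) (fun z hz => ?_)
        (fun t _ => by simp) (fun z _ => by simp)
      · obtain ⟨h1, h2'⟩ := Finset.mem_filter.mp ht
        simp only [Finset.coe_filter, Finset.mem_coe, Finset.mem_filter, Finset.mem_univ, true_and, Set.mem_setOf_eq,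
          Equiv.symm_apply_apply, sub_zero, add_sub_cancel_right]
        exact ⟨h2', h1⟩
      · simp only [Finset.coe_filter, Finset.mem_univ, true_and, Set.mem_setOf_eq, Equiv.symm_apply_apply, sub_zero] at hz
        exact Finset.mem_filter.mpr ⟨hz.2, by rw [sub_add_cancel]; exact hz.1⟩
    rw [key, key]
    refine Finset.card_equiv σ fun z => ?_
    simp only [Finset.mem_filter, Finset.mem_univ, true_and]
    rw [hT]
    have e0 := iff_of_eq (hinvorb w0 σ hσ (L.e 0) z)
    have e1 := iff_of_eq (hinvorb w0 σ hσ (L.e i) z)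
    rw [h0] at e0
    rw [hij] at e1
    exact Iff.and e0.symm e1.symm
  have hT0 : (0 : R) ∉ T := fun h => hrel0 w0 0 hw00 h rfl
  have hnz : ∀ {i j : R}, Rel L i j → i ≠ 0 → j ≠ 0 := fun hr hi e => hi (e ▸ hr).eq_zero
  -- double counting
  let U : Finset R := Finset.univ.filter (· ≠ 0)
  have hdc : ∀ f : R → ℕ, (∀ i j, Rel L i j → f i = f j) → a * ∑ x ∈ U, f x = s * ∑ w ∈ W, f w := by
    intro f hf
    have e1 : ∀ x ∈ U, a * f x = ∑ w ∈ W, if Rel L x w then f w else 0 := fun x hx => by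
      rw [← Finset.sum_filter, Finset.sum_congr rfl (fun w hw => (hf x w (Finset.mem_filter.mp hw).2).symm),
        Finset.sum_const, (hsize x (Finset.mem_filter.mp hx).2).2, smul_eq_mul]
    rw [Finset.mul_sum, Finset.sum_congr rfl e1, Finset.sum_comm, Finset.mul_sum]
    refine Finset.sum_congr rfl fun w hw => ?_
    obtain ⟨-, -, hw2⟩ := Finset.mem_filter.mp hw
    rw [← Finset.sum_filter, Finset.sum_const, smul_eq_mul, show (U.filter fun x => Rel L x w) = orb w from by
      ext x
      simp only [U, Finset.mem_filter, Finset.mem_univ, true_and, horb]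
      exact ⟨fun h => h.2.symm, fun h => ⟨hnz h hw2, h.symm⟩⟩, (hsize w hw2).1]
  have hdiff : ∀ A : Finset R, ∀ t ∈ A, (U.filter fun h => t + h ∈ A).card = A.card - 1 := by
    intro A t ht
    rw [← Finset.card_erase_of_mem ht]
    refine Finset.card_nbij' (fun h => t + h) (fun u => u - t) (fun h hh => ?_) (fun u hu => ?_)
      (fun h _ => by simp) (fun u _ => by simp)
    · obtain ⟨h1, h2'⟩ := Finset.mem_filter.mp hh
      exact Finset.mem_coe.mpr (Finset.mem_erase.mpr ⟨fun e => (Finset.mem_filter.mp h1).2 (by simpa using e), h2'⟩)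
    · obtain ⟨h1, h2'⟩ := Finset.mem_erase.mp (Finset.mem_coe.mp hu)
      exact Finset.mem_filter.mpr ⟨Finset.mem_filter.mpr ⟨Finset.mem_univ _, sub_ne_zero.mpr h1⟩, by simpa using h2'⟩
  have hsumU : ∑ x ∈ U, c x = s * (s - 1) := by
    refine (Finset.sum_card_bipartiteAbove_eq_sum_card_bipartiteBelow (fun h t => t + h ∈ T) (s := U) (t := T)).trans ?_
    simp only [Finset.bipartiteBelow]
    rw [Finset.sum_congr rfl fun t ht => hdiff T t ht, Finset.sum_const, smul_eq_mul]
  let TW : Finset R := T.filter fun t => p • t = 0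
  have hTWa : TW.card = a := by
    refine congrArg Finset.card ?_
    ext t
    simp only [TW, W, hT, Finset.mem_filter, Finset.mem_univ, true_and, horb]
    exact ⟨fun ⟨h1, h2'⟩ => ⟨⟨h2', hnz h1 hw00⟩, h1⟩, fun ⟨⟨h1, _⟩, h3⟩ => ⟨h3, h1⟩⟩
  have hWcard : W.card = p - 1 := by
    have e : W = (Finset.Ico 1 p).image fun k => k • w0 := by
      ext w
      simp only [Finset.mem_image, Finset.mem_Ico]
      constructor
      · intro hw
        obtain ⟨-, hw1, hw2⟩ := Finset.mem_filter.mp hw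
        obtain ⟨k, hk, rfl⟩ := hker w hw1
        exact ⟨k, ⟨Nat.one_le_iff_ne_zero.mpr fun e => hw2 (by rw [e, zero_nsmul]), hk⟩, rfl⟩
      · rintro ⟨k, ⟨hk1, hk2⟩, rfl⟩
        refine hpw _ (by rw [smul_comm, hpw0, nsmul_zero]) ?_
        rw [nsmul_eq_mul, hw0, ← Nat.cast_mul, Ne, ZMod.natCast_eq_zero_iff, hpm]
        intro hd
        have := Nat.le_of_dvd hk1 (Nat.dvd_of_mul_dvd_mul_right (pow_pos hp.pos _) hd)
        omega
    rw [e, Finset.card_image_of_injOn, Nat.card_Ico]
    intro k hk l hl h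
    simp only [Finset.coe_Ico, Set.mem_Ico] at hk hl
    simp only [nsmul_eq_mul, hw0, ← Nat.cast_mul] at h
    have h' := congrArg ZMod.val h
    have hb : ∀ j, j < p → j * p ^ (m - 1) < p ^ m := fun j hj => by
      rw [hpm]; exact Nat.mul_lt_mul_of_pos_right hj (pow_pos hp.pos _)
    rw [ZMod.val_natCast_of_lt (hb k hk.2), ZMod.val_natCast_of_lt (hb l hl.2)] at h'
    exact Nat.eq_of_mul_eq_mul_right (pow_pos hp.pos _) h'
  have hsumW : ∑ w ∈ W, c w = (p - 1) * (s - a) + a * (a - 1) := by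
    refine (Finset.sum_card_bipartiteAbove_eq_sum_card_bipartiteBelow (fun h t => t + h ∈ T) (s := W) (t := T)).trans ?_
    simp only [Finset.bipartiteBelow]
    rw [← Finset.sum_filter_add_sum_filter_not T (fun t => p • t = 0), add_comm]
    have hsplit : (T.filter fun t => ¬ p • t = 0).card = s - a := by
      have := Finset.card_filter_add_card_filter_not (s := T) (fun t => p • t = 0)
      change TW.card + _ = T.card at this
      omega
    congr 1
    · rw [Finset.sum_congr rfl fun t ht => (?_ : _ = W.card), Finset.sum_const, smul_eq_mul, hsplit, hWcard, mul_comm]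
      obtain ⟨ht1, ht2⟩ := Finset.mem_filter.mp ht
      refine congrArg Finset.card (Finset.filter_eq_self.mpr fun w hw => ?_)
      exact hfib w0 t ht1 ht2 w (Finset.mem_filter.mp hw).2.1
    · rw [Finset.sum_congr rfl fun t ht => (?_ : _ = a - 1), Finset.sum_const, smul_eq_mul]
      · rw [show (T.filter fun t => p • t = 0).card = a from hTWa]
      · rw [← hTWa, ← hdiff TW t ht]
        refine congrArg Finset.card ?_
        obtain ⟨ht1, ht2⟩ := Finset.mem_filter.mp ht
        ext h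
        simp only [W, U, TW, Finset.mem_filter, Finset.mem_univ, true_and]
        exact ⟨fun ⟨⟨h1, h3⟩, h4⟩ => ⟨h3, h4, by rw [nsmul_add, ht2, h1, add_zero]⟩,
          fun ⟨h3, h4, h5⟩ => ⟨⟨by rwa [nsmul_add, ht2, zero_add] at h5, h3⟩, h4⟩⟩
  have hw0K : w0 ∈ K := by
    have := hpK (((p ^ (m - 2) : ℕ)) : R)
    rwa [nsmul_eq_mul, ← Nat.cast_mul, ← pow_succ', show m - 2 + 1 = m - 1 by omega] at this
  have has : a < s := by
    rw [← hTWa]
    refine lt_of_le_of_ne (Finset.card_filter_le _ _) fun e => ?_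
    obtain ⟨j, hj, hjK⟩ := hgen K hK w0 hw00
    have hjp : j ∈ TW := (Finset.eq_of_subset_of_card_le (Finset.filter_subset _ _) e.ge).ge hj
    obtain ⟨k, -, rfl⟩ := hker j (Finset.mem_filter.mp hjp).2
    exact hjK (nsmul_mem hw0K k)
  have ha1 : 1 ≤ a := Finset.card_pos.mpr ⟨w0, Finset.mem_filter.mpr ⟨hpw _ hpw0 hw00, Rel.refl _⟩⟩
  have hap : a ≤ p - 1 := hWcard ▸ Finset.card_filter_le _ _
  have hmain := hdc c hc
  rw [hsumU, hsumW] at hmain
  have hap' : a = p - 1 := by
    have h1 : a * (s - 1) = (p - 1) * (s - a) + a * (a - 1) := by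
      refine Nat.eq_of_mul_eq_mul_left (show 0 < s by omega) ?_
      rw [← hmain]; ring
    have h2' : a * (s - 1) = a * (s - a) + a * (a - 1) := by rw [← mul_add]; congr 1; omega
    exact Nat.eq_of_mul_eq_mul_right (show 0 < s - a by omega) (by omega)
  have hone : ∀ i : R, i ≠ 0 → Rel L w0 i := by
    intro i hi
    obtain ⟨w, hw, hwi⟩ := hmeet i hi
    have := (Finset.eq_of_subset_of_card_le (Finset.filter_subset (Rel L w0) W) (by rw [hWcard, ← hap'])).ge hw
    exact (Finset.mem_filter.mp this).2.trans (horb.mp hwi).symm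
  refine h2 (MulAction.is_two_pretransitive_iff.mpr ?_)
  have key : ∀ u v : Ω, u ≠ v → ∃ σ : G, σ • L.e 0 = u ∧ σ • L.e w0 = v := by
    intro u v huv
    obtain ⟨i, rfl⟩ := L.e.surjective u
    obtain ⟨j, rfl⟩ := L.e.surjective v
    obtain ⟨σ, hσ, h0, h1⟩ := hone (j - i) (sub_ne_zero.mpr fun e => huv (by rw [e]))
    obtain ⟨τ, hτ, hτ'⟩ := L.shift i
    refine ⟨⟨τ * σ, mul_mem hτ hσ⟩, ?_, ?_⟩
    · show τ (σ (L.e 0)) = _
      rw [h0, hτ', zero_add]
    · show τ (σ (L.e w0)) = _
      rw [h1, hτ', sub_add_cancel]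
  intro a' b c' d hab hcd
  obtain ⟨σ, hσ1, hσ2⟩ := key a' b hab
  obtain ⟨τ, hτ1, hτ2⟩ := key c' d hcd
  refine ⟨τ * σ⁻¹, ?_, ?_⟩
  · rw [← hσ1, mul_smul, inv_smul_smul, hτ1]
  · rw [← hσ2, mul_smul, inv_smul_smul, hτ2]

/-- Let `p` be a prime, `m ≥ 2`, and `G` a transitive but not doubly transitive permutation group on `p ^ m` points containing a permutation of order `p ^ m` (necessarily a full cycle). Then `G` is imprimitive, and the normal closure in `G` of the `p ^ (m - 1)`-th power of that permutation is an intransitive normal subgroup. -/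
theorem result {Ω : Type*} [Fintype Ω] [DecidableEq Ω] (p m : ℕ) (hp : p.Prime) (hm : 2 ≤ m) (hΩ : Fintype.card Ω = p ^ m) (G : Subgroup (Equiv.Perm Ω)) (htr : MulAction.IsPretransitive G Ω) (h2 : ¬ MulAction.IsMultiplyPretransitive G Ω 2) (g : G) (hg : orderOf g = p ^ m) : ¬ MulAction.IsPreprimitive G Ω ∧ ¬ MulAction.IsPretransitive (Subgroup.normalClosure ({g ^ (p ^ (m - 1))} : Set G)) Ω := by
  classical
  haveI := Fact.mk hp
  haveI : NeZero (p ^ m) := ⟨pow_ne_zero _ hp.ne_zero⟩
  set h := g ^ p ^ (m - 1) with hh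
  have hh1 : (h : G) ≠ 1 := by
    intro e
    have := orderOf_dvd_of_pow_eq_one e
    rw [hg, Nat.pow_dvd_pow_iff_le_right hp.one_lt] at this
    omega
  obtain ⟨a, ha⟩ : ∃ a : Ω, (h : Equiv.Perm Ω) a ≠ a := by
    by_contra hne
    push Not at hne
    exact hh1 (Subtype.ext (Equiv.ext hne))
  have hinj : ∀ i : ℕ, ((g ^ i : G) : Equiv.Perm Ω) a = a → p ^ m ∣ i := by
    intro i hi
    by_contra hnd
    obtain ⟨j, hj, hjeq⟩ := (Nat.dvd_prime_pow hp).mp (Nat.gcd_dvd_left (p ^ m) i)
    have hjm : j ≤ m - 1 := by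
      by_contra hlt
      have h6 := Nat.gcd_dvd_right (p ^ m) i
      rw [hjeq] at h6
      exact hnd ((pow_dvd_pow p (show m ≤ j by omega)).trans h6)
    let St : Subgroup G :=
      { carrier := {x : G | (x : Equiv.Perm Ω) a = a}
        one_mem' := rfl
        mul_mem' := fun {x y} hx hy => by
          show ((x * y : G) : Equiv.Perm Ω) a = a
          rw [Subgroup.coe_mul, Equiv.Perm.mul_apply, hy, hx]
        inv_mem' := fun {x} hx => by
          show ((x⁻¹ : G) : Equiv.Perm Ω) a = a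
          rw [Subgroup.coe_inv, Equiv.Perm.inv_eq_iff_eq]; exact hx.symm }
    have hgcd : g ^ p ^ j ∈ St := by
      rw [← hjeq, ← zpow_natCast, Nat.gcd_eq_gcd_ab, zpow_add, zpow_mul, zpow_natCast, ← hg, pow_orderOf_eq_one,
        one_zpow, one_mul, zpow_mul, zpow_natCast]
      exact St.zpow_mem hi _
    refine ha ?_
    have e : h = (g ^ p ^ j) ^ p ^ (m - 1 - j) := by
      rw [hh, ← pow_mul, ← pow_add]; congr 2; omega
    rw [e]
    exact St.pow_mem hgcd _
  let f : ZMod (p ^ m) → Ω := fun i => ((g ^ i.val : G) : Equiv.Perm Ω) a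
  have hmod : ∀ i : ℕ, f (i : ZMod (p ^ m)) = ((g ^ i : G) : Equiv.Perm Ω) a := by
    intro i
    show ((g ^ (i : ZMod (p ^ m)).val : G) : Equiv.Perm Ω) a = _
    rw [ZMod.val_natCast, ← hg, pow_mod_orderOf]
  have hfi : Function.Injective f := by
    intro i j hij
    wlog hle : i.val ≤ j.val generalizing i j
    · exact (this hij.symm (le_of_not_ge hle)).symm
    have h1 : ((g ^ (j.val - i.val) : G) : Equiv.Perm Ω) a = a := by
      have e : g ^ j.val = g ^ i.val * g ^ (j.val - i.val) := by rw [← pow_add]; congr 1; omega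
      simp only [f] at hij
      rw [e, Subgroup.coe_mul, Equiv.Perm.mul_apply] at hij
      exact (Equiv.injective _ hij).symm
    have h3 := hinj _ h1
    have := ZMod.val_lt j
    refine ZMod.val_injective _ ?_
    rcases Nat.eq_zero_or_pos (j.val - i.val) with h0 | h0
    · omega
    · have := Nat.le_of_dvd h0 h3; omega
  let e : ZMod (p ^ m) ≃ Ω := Equiv.ofBijective f
    ((Fintype.bijective_iff_injective_and_card f).mpr ⟨hfi, by rw [ZMod.card, hΩ]⟩)
  let L : Lab G (p ^ m) := ⟨e, fun k => ⟨_, (g ^ k.val).2, fun i => by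
    show ((g ^ k.val : G) : Equiv.Perm Ω) (f i) = f (i + k)
    rw [← ZMod.natCast_zmod_val i, ← ZMod.natCast_zmod_val k, ← Nat.cast_add, hmod, hmod, ZMod.natCast_zmod_val k,
      ← Equiv.Perm.mul_apply, ← Subgroup.coe_mul, ← pow_add, add_comm]⟩⟩
  obtain ⟨r, hr, hrinv, ⟨d, hd0, hd⟩, ⟨d', hd'⟩⟩ := key p m hp hm L h2
  refine ⟨fun hprim => ?_, fun htr' => ?_⟩
  · let B : Set Ω := {z | r (L.e 0) z}
    have hB : MulAction.IsBlock G B := by
      rw [MulAction.isBlock_iff_smul_eq_or_disjoint]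
      intro σ
      by_cases hσ : r (L.e 0) (σ • L.e 0)
      · left
        ext z
        rw [Set.mem_smul_set_iff_inv_smul_mem]
        show r (L.e 0) (σ⁻¹ • z) ↔ r (L.e 0) z
        constructor
        · intro hz
          have := hrinv _ σ.2 _ _ hz
          rw [show (σ : Equiv.Perm Ω) (σ⁻¹ • z) = z from smul_inv_smul σ z] at this
          exact hr.trans hσ this
        · intro hz
          have := hrinv _ (σ⁻¹).2 _ _ (hr.trans (hr.symm hσ) hz)
          rwa [show ((σ⁻¹ : G) : Equiv.Perm Ω) (σ • L.e 0) = L.e 0 from inv_smul_smul σ _] at this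
      · right
        rw [Set.disjoint_left]
        intro z hz hz'
        refine hσ ?_
        rw [Set.mem_smul_set_iff_inv_smul_mem] at hz
        have := hrinv _ σ.2 _ _ hz
        rw [show (σ : Equiv.Perm Ω) (σ⁻¹ • z) = z from smul_inv_smul σ z] at this
        exact hr.trans hz' (hr.symm this)
    rcases hprim.isTrivialBlock_of_isBlock hB with h1 | h1
    · exact hd0 (L.e.injective (h1 (show L.e d ∈ B from hd) (show L.e 0 ∈ B from hr.refl _)))
    · exact hd' (h1.ge (Set.mem_univ (L.e d')))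
  · let Kr : Subgroup G :=
      { carrier := {σ | ∀ u, r u ((σ : Equiv.Perm Ω) u)}
        one_mem' := fun u => hr.refl u
        mul_mem' := fun {x y} hx hy u => hr.trans (hy u) (hx _)
        inv_mem' := fun {x} hx u => hr.symm (by
          have := hx (((x⁻¹ : G) : Equiv.Perm Ω) u)
          rwa [show (x : Equiv.Perm Ω) (((x⁻¹ : G) : Equiv.Perm Ω) u) = u from smul_inv_smul x u] at this) }
    haveI : Kr.Normal := ⟨fun x hx σ u => by
      have := hrinv _ σ.2 _ _ (hx (((σ⁻¹ : G) : Equiv.Perm Ω) u))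
      rw [show (σ : Equiv.Perm Ω) (((σ⁻¹ : G) : Equiv.Perm Ω) u) = u from smul_inv_smul σ u] at this
      exact this⟩
    let D : AddSubgroup (ZMod (p ^ m)) :=
      { carrier := {d | ∀ i, r (L.e i) (L.e (i + d))}
        zero_mem' := fun i => by rw [add_zero]; exact hr.refl _
        add_mem' := fun {x y} hx hy i => by rw [← add_assoc]; exact hr.trans (hx i) (hy _)
        neg_mem' := fun {x} hx i => hr.symm (by simpa using hx (i + -x)) }
    have hdD : d ∈ D := fun i => by
      obtain ⟨σ, hσ, hσ'⟩ := L.shift i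
      have := hrinv σ hσ _ _ hd
      rwa [hσ', hσ', zero_add, add_comm] at this
    have hw : ((p ^ (m - 1) : ℕ) : ZMod (p ^ m)) ∈ D := by
      obtain ⟨j, hj, hjeq⟩ := (Nat.dvd_prime_pow hp).mp (Nat.gcd_dvd_left (p ^ m) d.val)
      have hjm : j ≤ m - 1 := by
        by_contra hlt
        have h6 := Nat.gcd_dvd_right (p ^ m) d.val
        rw [hjeq] at h6
        have h5 : p ^ m ∣ d.val := (pow_dvd_pow p (show m ≤ j by omega)).trans h6
        exact hd0 (ZMod.val_injective _ (by
          rw [ZMod.val_zero]; exact Nat.eq_zero_of_dvd_of_lt h5 (ZMod.val_lt d)))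
      have hb := congrArg (Int.cast : ℤ → ZMod (p ^ m)) (Nat.gcd_eq_gcd_ab (p ^ m) d.val)
      rw [hjeq] at hb
      push_cast at hb
      rw [ZMod.natCast_zmod_val, show ((p : ZMod (p ^ m))) ^ m = 0 by rw [← Nat.cast_pow]; exact ZMod.natCast_self _,
        zero_mul, zero_add, mul_comm] at hb
      have hpj : ((p ^ j : ℕ) : ZMod (p ^ m)) ∈ D := by
        rw [Nat.cast_pow, hb, ← zsmul_eq_mul]; exact D.zsmul_mem hdD _
      have hmul := D.nsmul_mem hpj (p ^ (m - 1 - j))
      rwa [nsmul_eq_mul, ← Nat.cast_mul, ← pow_add, show m - 1 - j + j = m - 1 by omega] at hmul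
    have hle : Subgroup.normalClosure ({g ^ (p ^ (m - 1))} : Set G) ≤ Kr := by
      refine Subgroup.normalClosure_le_normal ?_
      rintro _ rfl u
      obtain ⟨i, rfl⟩ := L.e.surjective u
      show r (f i) (((g ^ p ^ (m - 1) : G) : Equiv.Perm Ω) (f i))
      have := hw i
      show r (f i) _
      change r (f i) (f (i + _)) at this
      rw [← ZMod.natCast_zmod_val i, ← Nat.cast_add, hmod (i.val + _), add_comm, pow_add, Subgroup.coe_mul,
        Equiv.Perm.mul_apply, ← hmod i.val] at this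
      rwa [ZMod.natCast_zmod_val] at this
    obtain ⟨⟨σ, hσ⟩, hσ'⟩ := htr'.exists_smul_eq (L.e 0) (L.e d')
    have := hle hσ (L.e 0)
    exact hd' (hσ' ▸ this)

end Cfsg.Agent.S3972
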