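import Cfsg.Statements.S4179
import Cfsg.Agent.Lib.SingerPrime.Mersenne
-- import your own Cfsg.Agent.* helpers here

set_option autoImplicit false
open Cfsg

namespace Cfsg.Agent.S4179

/-- Let V be a vector space of dimension n over the field with two elements with 2^n − 1 prime, and H a group of invertible linear maps of V. Then H is transitive on the non-zero vectors of V if and only if H is cyclic of order 2^n − 1, or H has order n·(2^n − 1) and contains a normal cyclic subgroup of order 2^n − 1, or H is the whole general linear group of V. -/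
theorem result {V : Type*} [AddCommGroup V] [Module (ZMod 2) V] [Finite V] (n : ℕ) (hn : Module.finrank (ZMod 2) V = n)
    (hprime : (2 ^ n - 1).Prime) (H : Subgroup (V ≃ₗ[ZMod 2] V)) :
    (∀ v w : V, v ≠ 0 → w ≠ 0 → ∃ h ∈ H, h v = w) ↔
      ((IsCyclic ↥H ∧ Nat.card ↥H = 2 ^ n - 1) ∨
       (Nat.card ↥H = n * (2 ^ n - 1) ∧ ∃ C : Subgroup (V ≃ₗ[ZMod 2] V), C ≤ H ∧ (C.subgroupOf H).Normal ∧
          IsCyclic ↥C ∧ Nat.card ↥C = 2 ^ n - 1) ∨
       H = ⊤) := by
  classical
  have hF : ∀ c : ZMod 2, c = 0 ∨ c = 1 := by decide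
  have hV : Nat.card {v : V // v ≠ 0} = 2 ^ n - 1 := by
    haveI := Fintype.ofFinite V
    rw [Nat.card_eq_fintype_card, Fintype.card_subtype_compl, Fintype.card_subtype_eq, ← Nat.card_eq_fintype_card,
      Module.natCard_eq_pow_finrank (K := ZMod 2) (V := V), Nat.card_zmod, hn]
  haveI : Fact (2 ^ n - 1).Prime := ⟨hprime⟩
  haveI : Finite (V ≃ₗ[ZMod 2] V) :=
    Finite.of_injective (fun g : V ≃ₗ[ZMod 2] V => (g : V → V)) DFunLike.coe_injective
  constructor
  · intro htr
    rcases CfsgLib.SingerPrime.Mersenne.classify hF (hn.symm ▸ hprime) (hn.symm ▸ hV) htr with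
      h | ⟨g, hg, ho, hnor, hc⟩
    · exact Or.inr (Or.inr h)
    · rw [hn] at ho hc
      rcases hc with hc | hc
      · exact Or.inl ⟨isCyclic_of_prime_card hc, hc⟩
      · exact Or.inr (Or.inl ⟨hc, Subgroup.zpowers g, Subgroup.zpowers_le.mpr hg, hnor, inferInstance,
          by rw [Nat.card_zpowers, ho]⟩)
  · rintro (⟨-, hc⟩ | ⟨-, C, hle, -, -, hc⟩ | rfl) v w hv hw
    · exact CfsgLib.SingerPrime.Mersenne.transitive_of_card hprime hV hc v w hv hw
    · obtain ⟨h, hh, e⟩ := CfsgLib.SingerPrime.Mersenne.transitive_of_card hprime hV hc v w hv hw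
      exact ⟨h, hle hh, e⟩
    · haveI : FiniteDimensional (ZMod 2) V := Module.Finite.of_finite
      obtain ⟨g, hg⟩ := Submodule.exists_linearEquiv_restrict_eq
        ((LinearEquiv.toSpanNonzeroSingleton (ZMod 2) V v hv).symm ≪≫ₗ
          LinearEquiv.toSpanNonzeroSingleton (ZMod 2) V w hw)
      refine ⟨g, Subgroup.mem_top g, ?_⟩
      have h1 := (hg (LinearEquiv.toSpanNonzeroSingleton (ZMod 2) V v hv 1)).symm
      rw [LinearEquiv.trans_apply, LinearEquiv.symm_apply_apply] at h1
      simpa using h1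

end Cfsg.Agent.S4179
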