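import Cfsg.Statements.S2831
import Cfsg.Agent.Lib.PResidual
import Cfsg.Agent.Lib.SylowExtra

set_option autoImplicit false
set_option linter.unusedVariables false
open Cfsg
open scoped commutatorElement

namespace Cfsg.Agent.S2831

open CfsgLib.PResidual CfsgLib

/-- Let H be a finite group with Sylow p-subgroup T such that H is T-minimal (H is generated by the conjugates of T and T lies in exactly one maximal subgroup of H). Then H is p-irreducible: H is not p-closed and O^p(H) lies in every normal subgroup of H that is not p-closed. -/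
theorem result {H : Type*} [Group H] [Finite H] {p : ℕ} [Fact p.Prime] (T : Sylow p H) (hmin : Cfsg.IsMinimalOver (T : Subgroup H)) : Cfsg.IsPIrreducible p H := by
  obtain ⟨hncl, M, ⟨hM, hTM⟩, huniq⟩ := hmin
  have key : ∀ K : Subgroup H, (T : Subgroup H) ≤ K → K ≠ ⊤ → K ≤ M := by
    intro K hTK hK
    obtain h | ⟨M', hM', hle⟩ := eq_top_or_exists_le_coatom K
    · exact absurd h hK
    · exact huniq M' ⟨hM', hTK.trans hle⟩ ▸ hle
  refine ⟨fun hc => ?_, fun N hN hNc => ?_⟩
  · haveI := hc T
    have hT : (T : Subgroup H) = ⊤ := by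
      rw [← hncl]
      exact (Subgroup.normalClosure_eq_self _).symm
    exact hM.1 (top_le_iff.1 (hT ▸ hTM))
  obtain ⟨S⟩ : Nonempty (Sylow p N) := inferInstance
  by_cases hTN : (T : Subgroup H) ⊔ N = ⊤
  · exact pResidual_le_of_sup_eq_top T.2 hTN
  exfalso
  have hle := key _ le_sup_left hTN
  haveI := hN
  set X := (T : Subgroup H) ⊓ N
  have hTX : (T : Subgroup H) ≤ Subgroup.normalizer (X : Set H) := by
    refine Subgroup.le_normalizer_iff.2 fun t ht x hx => ⟨?_, hN.conj_mem x hx.2 t⟩
    exact Subgroup.mul_mem _ (Subgroup.mul_mem _ ht hx.1) (Subgroup.inv_mem _ ht)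
  have hidx : ¬ p ∣ ((T : Subgroup H).subgroupOf N).index := not_dvd_relIndex_of_sylow T N
  set S' : Sylow p N := (T.2.comap_of_injective N.subtype N.subtype_injective).toSylow hidx
  have hfr : Subgroup.normalizer (X : Set H) ⊔ N = ⊤ := by
    have h := Sylow.normalizer_sup_eq_top S'
    have e : (S' : Subgroup N).map N.subtype = X := by
      show ((T : Subgroup H).subgroupOf N).map N.subtype = X
      rw [Subgroup.subgroupOf_map_subtype]
    rwa [e] at h
  by_cases hXn : Subgroup.normalizer (X : Set H) = ⊤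
  · haveI : X.Normal := Subgroup.normalizer_eq_top_iff.1 hXn
    refine hNc (isPClosed_subgroup fun Q hQ hQN => ?_)
    obtain ⟨n, hn⟩ := MulAction.exists_smul_eq N S' S'
    obtain ⟨P, hP⟩ := (hQ.of_injective (Subgroup.subgroupOfEquivOfLe hQN).toMonoidHom
      (MulEquiv.injective _)).exists_le_sylow
    haveI hSn : (S' : Subgroup N).Normal := by
      show ((T : Subgroup H).subgroupOf N).Normal
      rw [← Subgroup.inf_subgroupOf_right]
      exact Subgroup.normal_subgroupOf
    haveI : Unique (Sylow p N) := Sylow.unique_of_normal S' hSn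
    intro q hq
    have hq' : (⟨q, hQN hq⟩ : N) ∈ (S' : Subgroup N) := by
      rw [Subsingleton.elim S' P]
      exact hP (Subgroup.mem_subgroupOf.2 hq)
    exact le_pCore (N := X) (CfsgLib.Local.isPGroup_of_le inf_le_left T.2) ⟨Subgroup.mem_subgroupOf.1 hq', hQN hq⟩
  · exact hM.1 (top_le_iff.1 (hfr ▸ sup_le (key _ hTX hXn) (le_sup_right.trans hle)))

end Cfsg.Agent.S2831
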