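import Cfsg.Statements.S2834
import Mathlib
import Cfsg.Agent.Lib.WeakResidual
import Cfsg.Agent.S2831
import Cfsg.Agent.Lib.Subnormal

set_option autoImplicit false
set_option linter.unusedVariables false
open Cfsg
open scoped commutatorElement

namespace Cfsg.Agent.S2834

open CfsgLib

variable {H : Type*} [Group H] [Finite H] {p : ℕ} [Fact p.Prime] {M : Subgroup H}

/-- The conclusion of the L-lemma for `A` inside `K`. -/
def Good (p : ℕ) (M K A : Subgroup H) : Prop :=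
  ∃ (L : Subgroup H) (g : H), L ≤ K ∧ A ≤ L ∧
    A ⊔ Cfsg.pCoreOf p L ≤ L ⊓ M.map (MulAut.conj g).toMonoidHom ∧ L ⊓ M.map (MulAut.conj g).toMonoidHom < L ∧
    (∀ X : Subgroup H, A ⊔ Cfsg.pCoreOf p L ≤ X → X < L → X ≤ L ⊓ M.map (MulAut.conj g).toMonoidHom) ∧
    ∀ x ∈ L, x ∉ L ⊓ M.map (MulAut.conj g).toMonoidHom → A ⊔ A.map (MulAut.conj x).toMonoidHom ⊔ Cfsg.pCoreOf p L = L

theorem normal_le_core {L N : Subgroup H} (hNL : N ≤ L) (hLN : L ≤ Subgroup.normalizer (N : Set H)) (hN : IsPGroup p ↥N) :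
    N ≤ Cfsg.pCoreOf p L :=
  Large.le_pCoreOf_of_normal le_rfl Subgroup.le_normalizer hNL hLN hN

omit [Fact p.Prime] in
theorem core_pGroup (L : Subgroup H) : IsPGroup p ↥(Cfsg.pCoreOf p L) := (isPGroup_pCore (G := ↥L) p).map L.subtype

theorem conj_core (L : Subgroup H) (x : H) :
    (Cfsg.pCoreOf p L).map (MulAut.conj x).toMonoidHom ≤ Cfsg.pCoreOf p (L.map (MulAut.conj x).toMonoidHom) := by
  refine normal_le_core (Subgroup.map_mono (Large.pCoreOf_le p L)) (Large.le_normalizer_of ?_) ((core_pGroup L).map _)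
  rintro _ ⟨l, hl, rfl⟩ _ ⟨a, ha, rfl⟩
  refine ⟨l * a * l⁻¹, Large.conj_mem (Large.le_normalizer_pCoreOf p L) hl ha, ?_⟩
  simp [map_mul, mul_assoc]

omit [Finite H] in
theorem map_conj_one (Z : Subgroup H) : Z.map (MulAut.conj (1 : H)).toMonoidHom = Z := by ext z; simp

/-- `Good` is invariant under conjugation inside `K`. -/
theorem good_conj {K A : Subgroup H} {x : H} (hx : x ∈ K) (h : Good p M K A) : Good p M K (A.map (MulAut.conj x).toMonoidHom) := by
  obtain ⟨L, g, hLK, hAL, hle, hlt, huniq, hgen⟩ := h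
  set f := (MulAut.conj x).toMonoidHom with hf
  have hinj : Function.Injective f := MulEquiv.injective (MulAut.conj x)
  have hsurj : Function.Surjective f := MulEquiv.surjective (MulAut.conj x)
  have hcore : (Cfsg.pCoreOf p L).map f = Cfsg.pCoreOf p (L.map f) := by
    refine le_antisymm (conj_core L x) ?_
    have h1 := conj_core (p := p) (L.map f) x⁻¹
    have h0 : ∀ Z : Subgroup H, Z.map (MulAut.conj (1 : H)).toMonoidHom = Z := fun Z => by ext z; simp
    rw [hf, Local.map_conj_mul, inv_mul_cancel, h0] at h1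
    have h2 := Subgroup.map_mono (f := f) h1
    rw [hf, Local.map_conj_mul, mul_inv_cancel, h0] at h2
    exact h2
  have hM0 : (L ⊓ M.map (MulAut.conj g).toMonoidHom).map f = L.map f ⊓ M.map (MulAut.conj (x * g)).toMonoidHom := by
    rw [Subgroup.map_inf _ _ _ hinj, hf, Local.map_conj_mul x g M]
  refine ⟨L.map f, x * g, Local.map_conj_le fun l hl => K.mul_mem (K.mul_mem hx (hLK hl)) (K.inv_mem hx), Subgroup.map_mono hAL, ?_, ?_, ?_, ?_⟩
  · rw [← hcore, ← Subgroup.map_sup, ← hM0]; exact Subgroup.map_mono hle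
  · rw [← hM0]; exact (Subgroup.map_lt_map_iff_of_injective hinj).mpr hlt
  · intro X h1 h2
    rw [← hcore, ← Subgroup.map_sup] at h1
    rw [← Subgroup.map_comap_eq_self_of_surjective hsurj X] at h2 ⊢
    rw [← hM0]
    exact Subgroup.map_mono (huniq _ (Subgroup.map_le_iff_le_comap.mp h1) ((Subgroup.map_lt_map_iff_of_injective hinj).mp h2))
  · rintro _ ⟨y, hy, rfl⟩ hnot
    have h1 := hgen y hy fun h => hnot (hM0 ▸ ⟨y, h, rfl⟩)
    have h2 := congrArg (Subgroup.map f) h1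
    rw [Subgroup.map_sup, Subgroup.map_sup, hcore] at h2
    rw [show (A.map f).map (MulAut.conj (f y)).toMonoidHom = (A.map (MulAut.conj y).toMonoidHom).map f by
      rw [hf, Local.map_conj_mul, Local.map_conj_mul]
      congr 3
      show x * y * x⁻¹ * x = x * y
      group]
    exact h2

/-- A `p`-subgroup `U` over `A` not normalising `A` contains two distinct conjugates normalising one another. -/
theorem exists_pair {A U : Subgroup H} (hU : IsPGroup p ↥U) (hAU : A ≤ U) (hn : ¬ U ≤ Subgroup.normalizer (A : Set H)) :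
    ∃ u ∈ U, A.map (MulAut.conj u).toMonoidHom ≠ A ∧ A ⊔ A.map (MulAut.conj u).toMonoidHom ≤ U ⊓ Subgroup.normalizer (A : Set H) := by
  haveI : Group.IsNilpotent ↥U := hU.isNilpotent
  set V := (Subgroup.normalizer (A : Set H)).subgroupOf U
  have hlt : V < ⊤ := lt_top_iff_ne_top.mpr fun e => hn (Subgroup.subgroupOf_eq_top.mp e)
  obtain ⟨u, hu, huV⟩ := SetLike.exists_of_lt (normalizerCondition_of_isNilpotent V hlt)
  refine ⟨u, u.2, fun h => huV (Local.mem_normalizer_of_map_conj_eq h), sup_le (le_inf hAU Subgroup.le_normalizer) ?_⟩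
  rintro _ ⟨a, ha, rfl⟩
  exact ⟨U.mul_mem (U.mul_mem u.2 (hAU ha)) (U.inv_mem u.2),
    (Subgroup.mem_normalizer_iff.mp hu ⟨a, hAU ha⟩).mp (Subgroup.le_normalizer ha : a ∈ Subgroup.normalizer (A : Set H))⟩

theorem sylow_of_unique {K A L0 : Subgroup H} (hA : IsPGroup p ↥A) (hAK : A ≤ K) (hL0 : L0 ≤ K) (hAL0 : A ⊔ Cfsg.pCoreOf p K ≤ L0)
    (huniq : ∀ X : Subgroup H, A ⊔ Cfsg.pCoreOf p K ≤ X → X < K → X ≤ L0) (hAO : ¬ A ≤ Cfsg.pCoreOf p K) :
    ∃ P : Sylow p ↥K, (P : Subgroup ↥K).map K.subtype ≤ L0 ∧ A ⊔ Cfsg.pCoreOf p K ≤ (P : Subgroup ↥K).map K.subtype := by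
  have hB : IsPGroup p ↥(A ⊔ Cfsg.pCoreOf p K : Subgroup H) :=
    hA.to_sup_of_normal_right' (core_pGroup K) (hAK.trans (Large.le_normalizer_pCoreOf p K))
  obtain ⟨U, hU⟩ := (hB.comap_of_injective L0.subtype L0.subtype_injective).exists_le_sylow
  set U' := (U : Subgroup ↥L0).map L0.subtype with hU'
  have hBU : A ⊔ Cfsg.pCoreOf p K ≤ U' := fun x hx => ⟨⟨x, hAL0 hx⟩, hU hx, rfl⟩
  have hUK : U' ≤ K := (Subgroup.map_subtype_le _).trans hL0
  have hUp : IsPGroup p ↥U' := U.2.map _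
  obtain ⟨P, hP⟩ := (hUp.comap_of_injective K.subtype K.subtype_injective).exists_le_sylow
  set P' := (P : Subgroup ↥K).map K.subtype
  have hUP : U' ≤ P' := fun x hx => ⟨⟨x, hUK hx⟩, hP hx, rfl⟩
  have hNL : K ⊓ Subgroup.normalizer (U' : Set H) ≤ L0 := by
    refine huniq _ (le_inf (hBU.trans hUK) (hBU.trans Subgroup.le_normalizer)) (lt_of_le_of_ne inf_le_left fun e => hAO ?_)
    exact (le_sup_left.trans hBU).trans (normal_le_core hUK (e ▸ inf_le_right) hUp)
  refine ⟨P, ?_, hBU.trans hUP⟩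
  have : P' ≤ U' := by
    haveI : Group.IsNilpotent ↥P' := (P.2.map K.subtype).isNilpotent
    by_contra hne
    have hlt : U'.subgroupOf P' < ⊤ := lt_top_iff_ne_top.mpr fun e => hne (Subgroup.subgroupOf_eq_top.mp e)
    set Z := (Subgroup.normalizer ((U'.subgroupOf P' : Subgroup ↥P') : Set ↥P')).map P'.subtype
    have hZL : Z ≤ L0 := by
      refine fun z hz => hNL ?_
      obtain ⟨w, hw, rfl⟩ := hz
      refine ⟨Subgroup.map_subtype_le _ w.2, ?_⟩
      refine Local.mem_normalizer_of_map_conj_eq (Subgroup.eq_of_le_of_card_ge ?_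
        (Subgroup.card_map_of_injective (MulEquiv.injective (MulAut.conj (w : H)))).ge)
      exact Local.map_conj_le fun y hy => (Subgroup.mem_normalizer_iff.mp hw ⟨y, hUP hy⟩).mp hy
    obtain ⟨w, hw, hwU⟩ := SetLike.exists_of_lt (normalizerCondition_of_isNilpotent (U'.subgroupOf P') hlt)
    have hUZ : U' ≤ Z := fun x hx => ⟨⟨x, hUP hx⟩, Subgroup.le_normalizer hx, rfl⟩
    have h := U.3 (((P.2.map K.subtype).to_le (Subgroup.map_subtype_le _) : IsPGroup p ↥Z).comap_of_injective L0.subtype L0.subtype_injective)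
      fun t ht => hUZ ⟨t, ht, rfl⟩
    exact hwU ⟨⟨(w : H), hZL ⟨w, hw, rfl⟩⟩, h ▸ (⟨w, hw, rfl⟩ : (w : H) ∈ Z), rfl⟩
  exact this.trans (Subgroup.map_subtype_le _)

/-- The L-lemma inside `K`. -/
theorem main (n : ℕ) : ∀ K : Subgroup H, Nat.card ↥K = n → ∀ (g : H) (P : Sylow p ↥K),
    (P : Subgroup ↥K).map K.subtype ≤ M.map (MulAut.conj g).toMonoidHom → ¬ K ≤ M.map (MulAut.conj g).toMonoidHom →
    (∀ X : Subgroup H, (P : Subgroup ↥K).map K.subtype ≤ X → X < K → X ≤ M.map (MulAut.conj g).toMonoidHom) →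
    ∀ A : Subgroup H, A ≤ K → IsPGroup p ↥A → Cfsg.pCoreOf p K ≤ A → ¬ A ≤ Cfsg.pCoreOf p K → Good p M K A := by
  induction n using Nat.strong_induction_on with
  | _ n ihn =>
  intro K hn g0 P0 hP0 hKM0 huniq0 A
  induction hm : n - Nat.card ↥A using Nat.strong_induction_on generalizing A g0 P0 with
  | _ m ihm =>
  intro hAK hAp hOA hAO
  -- move the Sylow subgroup over `A`
  obtain ⟨Q, hQ⟩ := (hAp.comap_of_injective K.subtype K.subtype_injective).exists_le_sylow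
  obtain ⟨k, hk⟩ := MulAction.exists_smul_eq ↥K P0 Q
  obtain ⟨g, hg⟩ : ∃ g, g = (k : H) * g0 := ⟨_, rfl⟩
  set P := (Q : Subgroup ↥K).map K.subtype with hPdef
  have hPeq : P = ((P0 : Subgroup ↥K).map K.subtype).map (MulAut.conj (k : H)).toMonoidHom := by
    rw [hPdef, ← hk, Sylow.coe_subgroup_smul, Subgroup.pointwise_smul_def]
    ext z
    constructor
    · rintro ⟨_, ⟨y, hy, rfl⟩, rfl⟩
      exact ⟨(y : H), ⟨y, hy, rfl⟩, rfl⟩
    · rintro ⟨_, ⟨y, hy, rfl⟩, rfl⟩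
      exact ⟨k * y * k⁻¹, ⟨y, hy, rfl⟩, rfl⟩
  set M0 := M.map (MulAut.conj g).toMonoidHom with hM0
  have hM0eq : M0 = (M.map (MulAut.conj g0).toMonoidHom).map (MulAut.conj (k : H)).toMonoidHom := by
    rw [hM0, hg, Local.map_conj_mul]
  have hKk : K.map (MulAut.conj (k : H)).toMonoidHom = K := Local.map_conj_eq_of_mem_normalizer (Subgroup.le_normalizer k.2)
  have hPM : P ≤ M0 := hPeq ▸ hM0eq ▸ Subgroup.map_mono hP0
  have hinj : Function.Injective (MulAut.conj (k : H)).toMonoidHom := MulEquiv.injective (MulAut.conj (k : H))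
  have hKM : ¬ K ≤ M0 := fun h => hKM0 <| (Subgroup.map_le_map_iff_of_injective hinj).mp (hKk.le.trans (hM0eq ▸ h))
  have hPK : P ≤ K := Subgroup.map_subtype_le _
  have hAP : A ≤ P := fun a ha => ⟨⟨a, hAK ha⟩, hQ ha, rfl⟩
  have huniq : ∀ X : Subgroup H, P ≤ X → X < K → X ≤ M0 := fun X h1 h2 => by
    have hs : X = (X.comap (MulAut.conj (k : H)).toMonoidHom).map (MulAut.conj (k : H)).toMonoidHom :=
      (Subgroup.map_comap_eq_self_of_surjective (MulEquiv.surjective (MulAut.conj (k : H))) X).symm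
    rw [hs, hM0eq]
    refine Subgroup.map_mono (huniq0 _ (Subgroup.map_le_iff_le_comap.mp (hPeq ▸ h1)) ?_)
    rw [← Subgroup.map_lt_map_iff_of_injective hinj, ← hs, hKk]
    exact h2
  have hN : K ⊓ Subgroup.normalizer (P : Set H) ≤ M0 :=
    huniq _ (le_inf hPK Subgroup.le_normalizer) (lt_of_le_of_ne inf_le_left fun e =>
      hAO (hAP.trans (normal_le_core hPK (e ▸ inf_le_right) (Q.2.map _))))
  by_cases hrec : ∃ x ∈ K, A.map (MulAut.conj x).toMonoidHom ≠ A ∧
      IsPGroup p ↥(A ⊔ A.map (MulAut.conj x).toMonoidHom : Subgroup H) ∧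
      ∃ (L : Subgroup H) (g' : H), L < K ∧ A ⊔ A.map (MulAut.conj x).toMonoidHom ≤ L ∧
        (A ⊔ A.map (MulAut.conj x).toMonoidHom) ⊔ Cfsg.pCoreOf p L ≤ L ⊓ M.map (MulAut.conj g').toMonoidHom ∧
        L ⊓ M.map (MulAut.conj g').toMonoidHom < L ∧
        (∀ X : Subgroup H, (A ⊔ A.map (MulAut.conj x).toMonoidHom) ⊔ Cfsg.pCoreOf p L ≤ X → X < L →
          X ≤ L ⊓ M.map (MulAut.conj g').toMonoidHom) ∧ ¬ A ⊔ A.map (MulAut.conj x).toMonoidHom ≤ Cfsg.pCoreOf p L
  · obtain ⟨x, hx, -, hBp, L, g', hLK, hBL, hle, hlt, hu, hBO⟩ := hrec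
    set B := A ⊔ A.map (MulAut.conj x).toMonoidHom
    have hcardL : Nat.card ↥L < n := by
      rw [← hn]
      exact lt_of_le_of_ne (Subgroup.card_le_of_le hLK.le) fun e => hLK.ne (Subgroup.eq_of_le_of_card_ge hLK.le e.ge)
    obtain ⟨PL, hPL, hBPL⟩ := sylow_of_unique hBp hBL inf_le_left hle hu hBO
    have step : ∀ A' : Subgroup H, A' ≤ B → Cfsg.pCoreOf p K ≤ A' → ¬ A' ≤ Cfsg.pCoreOf p L → Good p M K A' := by
      intro A' hA'B hOA' hA'O
      obtain ⟨L', g'', hL'L, hAL', hle', hlt', hu', hgen'⟩ := ihn _ hcardL L rfl g' PL (hPL.trans inf_le_right)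
        (fun h => hlt.ne (inf_eq_left.mpr h)) (fun X h1 h2 => (hu X (hBPL.trans h1) h2).trans inf_le_right)
        (A' ⊔ Cfsg.pCoreOf p L) (sup_le (hA'B.trans hBL) (Large.pCoreOf_le p L))
        ((hBp.to_le hA'B).to_sup_of_normal_right' (core_pGroup L) ((hA'B.trans hBL).trans (Large.le_normalizer_pCoreOf p L)))
        le_sup_right (fun h => hA'O (le_sup_left.trans h))
      have hOO : Cfsg.pCoreOf p L ≤ Cfsg.pCoreOf p L' := normal_le_core (le_sup_right.trans hAL')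
        (hL'L.trans (Large.le_normalizer_pCoreOf p L)) (core_pGroup L)
      have e1 : A' ⊔ Cfsg.pCoreOf p L ⊔ Cfsg.pCoreOf p L' = A' ⊔ Cfsg.pCoreOf p L' := by
        rw [sup_assoc, sup_eq_right.mpr hOO]
      rw [e1] at hle' hu'
      refine ⟨L', g'', hL'L.trans hLK.le, le_sup_left.trans hAL', hle', hlt', hu', fun y hy hy0 => le_antisymm ?_ ?_⟩
      · exact sup_le (sup_le (le_sup_left.trans hAL') (Local.map_conj_le fun a ha =>
          L'.mul_mem (L'.mul_mem hy (hAL' (Subgroup.mem_sup_left ha))) (L'.inv_mem hy))) (Large.pCoreOf_le p L')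
      · conv_lhs => rw [← hgen' y hy hy0]
        refine sup_le (sup_le (sup_le (le_sup_left.trans le_sup_left) (hOO.trans le_sup_right)) ?_) le_sup_right
        rw [Subgroup.map_sup]
        refine sup_le (le_sup_right.trans le_sup_left) ((Subgroup.map_mono hOO).trans ?_)
        exact (Local.map_conj_eq_of_mem_normalizer (Large.le_normalizer_pCoreOf p L' hy)).le.trans le_sup_right
    by_cases h1 : A ≤ Cfsg.pCoreOf p L
    · set A' := A.map (MulAut.conj x).toMonoidHom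
      have h2 : ¬ A' ≤ Cfsg.pCoreOf p L := fun h => hBO (sup_le h1 h)
      have hOA' : Cfsg.pCoreOf p K ≤ A' := by
        conv_lhs => rw [← Local.map_conj_eq_of_mem_normalizer (Large.le_normalizer_pCoreOf p K hx)]
        exact Subgroup.map_mono hOA
      have h3 := good_conj (K.inv_mem hx) (step A' le_sup_right hOA' h2)
      rw [Local.map_conj_mul, inv_mul_cancel, map_conj_one] at h3
      exact h3
    · exact step A le_sup_left hOA h1
  -- every pair of conjugates lies in a unique maximal subgroup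
  push Not at hrec
  have single : ∀ U : Subgroup H, IsPGroup p ↥U → U ≤ K → A ≤ U → ¬ U ≤ Subgroup.normalizer (A : Set H) →
      ∃ B : Subgroup H, B ≤ U ⊓ Subgroup.normalizer (A : Set H) ∧ Cfsg.pCoreOf p K ≤ B ∧ A ≤ B ∧
        (B ≤ M0 → ∀ X : Subgroup H, B ≤ X → X < K → X ≤ M0) := by
    intro U hU hUK hAU hn'
    obtain ⟨u, hu, hne, hle⟩ := exists_pair hU hAU hn'
    set B := A ⊔ A.map (MulAut.conj u).toMonoidHom
    refine ⟨B, hle, hOA.trans le_sup_left, le_sup_left, fun hBM => ?_⟩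
    have hBp : IsPGroup p ↥B := hU.to_le (hle.trans inf_le_left)
    have hlt : Nat.card ↥A < Nat.card ↥B := by
      refine lt_of_le_of_ne (Subgroup.card_le_of_le le_sup_left) fun e => hne ?_
      have h1 : A = B := Subgroup.eq_of_le_of_card_ge le_sup_left e.ge
      exact Subgroup.eq_of_le_of_card_ge ((le_sup_right : A.map (MulAut.conj u).toMonoidHom ≤ B).trans h1.ge)
        (Subgroup.card_map_of_injective (MulEquiv.injective (MulAut.conj u))).ge
    have hBK : B ≤ K := (hle.trans inf_le_left).trans hUK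
    have hBO : ¬ B ≤ Cfsg.pCoreOf p K := fun h => hAO (le_sup_left.trans h)
    obtain ⟨L, g', hLK, hBL, hle', hlt', hu', hgen'⟩ := ihm (n - Nat.card ↥B)
      (by have := Subgroup.card_le_of_le hBK; omega) g0 P0 hP0 hKM0 huniq0 B rfl hBK hBp (hOA.trans le_sup_left) hBO
    have hLeq : L = K := by
      refine hLK.eq_or_lt.resolve_right fun hl => ?_
      have hBO' := hrec u (hUK hu) hne hBp L g' hl hBL hle' hlt' hu'
      have hgen1 : L ≤ Cfsg.pCoreOf p L := by
        obtain ⟨x, hx, hx0⟩ := SetLike.exists_of_lt hlt'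
        exact (hgen' x hx hx0).ge.trans (sup_le (sup_le hBO' ((Subgroup.map_mono hBO').trans
          (Local.map_conj_eq_of_mem_normalizer (Large.le_normalizer_pCoreOf p L hx)).le)) le_rfl)
      exact hlt'.not_ge (hgen1.trans ((le_sup_right).trans hle'))
    subst hLeq
    intro X hBX hX
    have hB' : B ⊔ Cfsg.pCoreOf p L = B := sup_eq_left.mpr (hOA.trans le_sup_left)
    rw [hB'] at hle' hu'
    have h1 : L ⊓ M0 ≤ L ⊓ M.map (MulAut.conj g').toMonoidHom :=
      hu' _ (le_inf hBK hBM) (lt_of_le_of_ne inf_le_left fun e => hKM (e ▸ inf_le_right))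
    exact (hu' X hBX hX).trans (huniq _ ((le_inf hPK hPM).trans h1) hlt')
  have hnp : ∀ U : Subgroup H, IsPGroup p ↥U → U ≠ K := fun U hU e => hAO (hAK.trans (normal_le_core le_rfl Subgroup.le_normalizer (e ▸ hU)))
  have hNA : K ⊓ Subgroup.normalizer (A : Set H) ≤ M0 := by
    have hlt : K ⊓ Subgroup.normalizer (A : Set H) < K :=
      lt_of_le_of_ne inf_le_left fun e => hAO (normal_le_core hAK (e ▸ inf_le_right) hAp)
    by_cases hn' : P ≤ Subgroup.normalizer (A : Set H)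
    · exact huniq _ (le_inf hPK hn') hlt
    · obtain ⟨B, hB, -, -, hBu⟩ := single P (Q.2.map _) hPK hAP hn'
      exact hBu ((hB.trans inf_le_left).trans hPM) _ (le_inf ((hB.trans inf_le_left).trans hPK) (hB.trans inf_le_right)) hlt
  have hpM : ∀ U : Subgroup H, IsPGroup p ↥U → U ≤ K → A ≤ U → U ≤ M0 := by
    intro U hU hUK hAU
    by_cases hn' : U ≤ Subgroup.normalizer (A : Set H)
    · exact (le_inf hUK hn').trans hNA
    · obtain ⟨B, hB, -, -, hBu⟩ := single U hU hUK hAU hn'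
      exact hBu ((hB.trans (inf_le_inf_right _ hUK)).trans hNA) U (hB.trans inf_le_left) (lt_of_le_of_ne hUK (hnp U hU))
  obtain ⟨L, ⟨hAL, hLK, hLM⟩, hmin⟩ := (Set.toFinite {X : Subgroup H | A ≤ X ∧ X ≤ K ∧ ¬ X ≤ M0}).exists_minimal
    ⟨K, hAK, le_rfl, hKM⟩
  have hOL : A ⊔ Cfsg.pCoreOf p L ≤ M0 :=
    hpM _ (hAp.to_sup_of_normal_right' (core_pGroup L) (hAL.trans (Large.le_normalizer_pCoreOf p L)))
      ((sup_le hAL (Large.pCoreOf_le p L)).trans hLK) le_sup_left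
  have hsub : ∀ X : Subgroup H, A ≤ X → X < L → X ≤ L ⊓ M0 := fun X h1 h2 => le_inf h2.le (by
    by_contra h
    exact h2.not_ge (hmin ⟨h1, h2.le.trans hLK, h⟩ h2.le))
  refine ⟨L, g, hLK, hAL, le_inf (sup_le hAL (Large.pCoreOf_le p L)) hOL,
    lt_of_le_of_ne inf_le_left fun e => hLM (e ▸ inf_le_right), fun X h1 h2 => hsub X (le_sup_left.trans h1) h2, fun x hx hx0 => ?_⟩
  set Z := A ⊔ A.map (MulAut.conj x).toMonoidHom ⊔ Cfsg.pCoreOf p L
  have hZL : Z ≤ L := sup_le (sup_le hAL (Local.map_conj_le fun a ha => L.mul_mem (L.mul_mem hx (hAL ha)) (L.inv_mem hx)))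
    (Large.pCoreOf_le p L)
  refine hZL.eq_or_lt.resolve_right fun hlt => hx0 ⟨hx, ?_⟩
  have hAx : A.map (MulAut.conj x).toMonoidHom ≤ K ⊓ M0 :=
    (le_sup_right.trans le_sup_left).trans ((hsub Z (le_sup_left.trans le_sup_left) hlt).trans (inf_le_inf_right _ hLK))
  obtain ⟨S, hS⟩ : ∃ S : Sylow p ↥(K ⊓ M0 : Subgroup H), (S : Subgroup _) = P.subgroupOf (K ⊓ M0) := by
    have hPp : IsPGroup p ↥(P.subgroupOf (K ⊓ M0)) := (Q.2.map K.subtype).comap_of_injective (K ⊓ M0).subtype (Subgroup.subtype_injective _)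
    obtain ⟨S, hS⟩ := hPp.exists_le_sylow
    refine ⟨S, le_antisymm (fun s hs => ?_) hS⟩
    have h := Q.3 (((S.2.map (K ⊓ M0).subtype)).comap_of_injective K.subtype K.subtype_injective)
      fun q hq => ⟨⟨q, ⟨q.2, hPM ⟨q, hq, rfl⟩⟩⟩, hS ⟨q, hq, rfl⟩, rfl⟩
    exact ⟨⟨(s : H), s.2.1⟩, h ▸ (⟨s, hs, rfl⟩ : (s : H) ∈ (S : Subgroup _).map (K ⊓ M0).subtype), rfl⟩
  obtain ⟨S', hS'⟩ := ((hAp.map (MulAut.conj x).toMonoidHom).comap_of_injective (K ⊓ M0).subtype (Subgroup.subtype_injective _)).exists_le_sylow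
  obtain ⟨w, hw⟩ := MulAction.exists_smul_eq ↥(K ⊓ M0 : Subgroup H) S S'
  have hxK : x ∈ K := hLK hx
  set y := x⁻¹ * (w : H)
  have hyK : y ∈ K := K.mul_mem (K.inv_mem hxK) w.2.1
  set U := P.map (MulAut.conj y).toMonoidHom with hU
  have hAU : A ≤ U := by
    intro a ha
    have h1 := hS' (show (⟨x * a * x⁻¹, hAx ⟨a, ha, rfl⟩⟩ : ↥(K ⊓ M0 : Subgroup H)) ∈ (A.map (MulAut.conj x).toMonoidHom).comap (K ⊓ M0).subtype from ⟨a, ha, rfl⟩)
    rw [← hw, Sylow.coe_subgroup_smul, Subgroup.pointwise_smul_def, hS] at h1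
    obtain ⟨s, hs, e⟩ := h1
    refine ⟨s, hs, ?_⟩
    have e' : (w : H) * (s : H) * (w : H)⁻¹ = x * a * x⁻¹ := congrArg Subtype.val e
    show x⁻¹ * (w : H) * (s : H) * (x⁻¹ * (w : H))⁻¹ = a
    rw [show x⁻¹ * (w : H) * (s : H) * (x⁻¹ * (w : H))⁻¹ = x⁻¹ * ((w : H) * s * (w : H)⁻¹) * x by group, e']
    group
  have hUK : U ≤ K := Local.map_conj_le fun s hs => K.mul_mem (K.mul_mem hyK (hPK hs)) (K.inv_mem hyK)
  have hUM := hpM U ((Q.2.map K.subtype).map _) hUK hAU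
  -- two Sylow subgroups of `K` in `M₀` differ by an element of `M₀`
  obtain ⟨S'', hS''⟩ := (((Q.2.map K.subtype).map (MulAut.conj y).toMonoidHom : IsPGroup p ↥U).comap_of_injective (K ⊓ M0).subtype (Subgroup.subtype_injective _)).exists_le_sylow
  obtain ⟨v, hv⟩ := MulAction.exists_smul_eq ↥(K ⊓ M0 : Subgroup H) S S''
  have hUeq : U = P.map (MulAut.conj (v : H)).toMonoidHom := by
    refine Subgroup.eq_of_le_of_card_ge ?_ ?_
    · intro z hz
      have h1 := hS'' (show (⟨z, ⟨hUK hz, hUM hz⟩⟩ : ↥(K ⊓ M0 : Subgroup H)) ∈ U.comap (K ⊓ M0).subtype from hz)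
      rw [← hv, Sylow.coe_subgroup_smul, Subgroup.pointwise_smul_def, hS] at h1
      obtain ⟨s, hs, e⟩ := h1
      exact ⟨s, hs, congrArg Subtype.val e⟩
    · rw [hU, Subgroup.card_map_of_injective (f := (MulAut.conj y).toMonoidHom) (MulEquiv.injective (MulAut.conj y)),
        Subgroup.card_map_of_injective (f := (MulAut.conj (v : H)).toMonoidHom) (MulEquiv.injective (MulAut.conj (v : H)))]
  have hyM : (v : H)⁻¹ * y ∈ Subgroup.normalizer (P : Set H) := by
    refine Local.mem_normalizer_of_map_conj_eq ?_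
    rw [← Local.map_conj_mul, ← hU, hUeq, Local.map_conj_mul, inv_mul_cancel, map_conj_one]
  have h5 := M0.mul_mem v.2.2 (hN ⟨K.mul_mem (K.inv_mem v.2.1) hyK, hyM⟩)
  rw [mul_inv_cancel_left] at h5
  have h6 := M0.mul_mem w.2.2 (M0.inv_mem h5)
  show x ∈ M0
  rwa [show (w : H) * y⁻¹ = x by simp [y, mul_assoc]] at h6

/-- The L-Lemma: let H be a finite group with Sylow p-subgroup T such that H is T-minimal (generated by the conjugates of T, T in exactly one maximal subgroup M), and let A ≤ T with A not contained in O_p(H). Then there is a subgroup L of H containing A·O_p(H) such that (a) A·O_p(L) lies in exactly one maximal subgroup L₀ of L, and L₀ = L ∩ gMg⁻¹ for some g ∈ H; (b) L = ⟨A, xAx⁻¹⟩·O_p(L) for every x ∈ L outside L₀. -/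
theorem result {H : Type*} [Group H] [Finite H] {p : ℕ} [Fact p.Prime] (T : Sylow p H) (hmin : Cfsg.IsMinimalOver (T : Subgroup H)) (M : Subgroup H) (hM : IsCoatom M ∧ (T : Subgroup H) ≤ M) (A : Subgroup H) (hAT : A ≤ (T : Subgroup H)) (hA : ¬ A ≤ Cfsg.pCore p H) : ∃ L : Subgroup H, A ⊔ Cfsg.pCore p H ≤ L ∧ ∃ L₀ : Subgroup H, A ⊔ (Cfsg.pCoreOf p L) ≤ L₀ ∧ L₀ < L ∧ (∀ X : Subgroup H, A ⊔ (Cfsg.pCoreOf p L) ≤ X → X < L → X ≤ L₀) ∧ (∃ g : H, L₀ = L ⊓ ((M : Subgroup H).map (MulAut.conj (g : H)).toMonoidHom)) ∧ ∀ x ∈ L, x ∉ L₀ → (A ⊔ ((A : Subgroup H).map (MulAut.conj (x : H)).toMonoidHom)) ⊔ (Cfsg.pCoreOf p L) = L := by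
  obtain ⟨hMc, hTM⟩ := hM
  set Q := Cfsg.pCore p H
  have htop : Cfsg.pCoreOf p (⊤ : Subgroup H) = Q := by
    apply le_antisymm
    · haveI : (Cfsg.pCoreOf p (⊤ : Subgroup H)).Normal := Subgroup.normalizer_eq_top_iff.mp (top_le_iff.mp (Large.le_normalizer_pCoreOf p ⊤))
      exact le_pCore (core_pGroup _)
    · exact normal_le_core le_top (by rw [Subgroup.normalizer_eq_top]) (isPGroup_pCore p)
  have hAp : IsPGroup p ↥(A ⊔ Q : Subgroup H) := (T.2.to_le hAT).to_sup_of_normal_right (isPGroup_pCore p)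
  obtain ⟨S, hS⟩ : ∃ S : Sylow p ↥(⊤ : Subgroup H), (S : Subgroup _).map (⊤ : Subgroup H).subtype = (T : Subgroup H) :=
    ⟨T.subtype le_top, by rw [Sylow.coe_subtype, Subgroup.map_subgroupOf_eq_of_le le_top]⟩
  have h1 : M.map (MulAut.conj (1 : H)).toMonoidHom = M := by ext z; simp
  obtain ⟨L, g, -, hAL, hle, hlt, hu, hgen⟩ := main (p := p) (M := M) (Nat.card ↥(⊤ : Subgroup H)) ⊤ rfl 1 S
    (by rw [hS, h1]; exact hTM) (by rw [h1]; exact fun h => hMc.1 (top_le_iff.mp h))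
    (fun X hX hlt => by
      rw [h1]
      obtain ⟨M', -, huq⟩ := hmin.2
      obtain ⟨J, hJ, hle⟩ := (eq_top_or_exists_le_coatom X).resolve_left hlt.ne
      exact hle.trans (le_of_eq ((huq J ⟨hJ, (hS ▸ hX).trans hle⟩).trans (huq M ⟨hMc, hTM⟩).symm)))
    (A ⊔ Q) le_top hAp (htop.le.trans le_sup_right) (fun h => hA (le_sup_left.trans (h.trans htop.le)))
  have hQO : Q ≤ Cfsg.pCoreOf p L := normal_le_core (le_sup_right.trans hAL) (by rw [Subgroup.normalizer_eq_top]; exact le_top) (isPGroup_pCore p)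
  have e : A ⊔ Q ⊔ Cfsg.pCoreOf p L = A ⊔ Cfsg.pCoreOf p L := by rw [sup_assoc, sup_eq_right.mpr hQO]
  rw [e] at hle hu
  refine ⟨L, hAL, _, hle, hlt, hu, ⟨g, rfl⟩, fun x hx hx0 => le_antisymm ?_ ?_⟩
  · exact sup_le (sup_le (le_sup_left.trans hAL) (Local.map_conj_le fun a ha =>
      L.mul_mem (L.mul_mem hx (hAL (Subgroup.mem_sup_left ha))) (L.inv_mem hx))) (Large.pCoreOf_le p L)
  · conv_lhs => rw [← hgen x hx hx0]
    refine sup_le (sup_le (sup_le (le_sup_left.trans le_sup_left) (hQO.trans le_sup_right)) ?_) le_sup_right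
    rw [Subgroup.map_sup]
    refine sup_le (le_sup_right.trans le_sup_left) ((Subgroup.map_mono hQO).trans ?_)
    exact (Local.map_conj_eq_of_mem_normalizer (Large.le_normalizer_pCoreOf p L hx)).le.trans le_sup_right

end Cfsg.Agent.S2834
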