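import Cfsg.Statements.S0484
import Cfsg.Agent.Lib.GL2Cent.Top
import Cfsg.Agent.Lib.GL2Cent.RBound

set_option autoImplicit false
open Cfsg

namespace Cfsg.Agent.S0484

/-- If a finite simple group has an involution whose centralizer is isomorphic to the quotient of the general linear
group of dimension 2 over a finite field of odd order by a central subgroup of odd order, then it is isomorphic to the
projective special linear group of dimension 3 over that field, or is simple of order 7920. -/
theorem result {G : Type*} [Group G] [Finite G]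
    [IsSimpleGroup G] {F : Type*} [Field F] [Fintype F] (hF : Odd (Fintype.card F)) (Z : Subgroup (GL (Fin 2) F))
    [Z.Normal] (hZc : Z ≤ Subgroup.center (GL (Fin 2) F)) (hZo : Odd (Nat.card Z)) (t : G) (ht : orderOf t = 2)
    (hC : Nonempty (Subgroup.centralizer ({t} : Set G) ≃* (GL (Fin 2) F ⧸ Z))) :
    Nonempty (G ≃* Matrix.ProjectiveSpecialLinearGroup (Fin 3) F) ∨ Cfsg.IsM11 G := by
  classical
  obtain ⟨e⟩ := hC
  have h2 : (2 : F) ≠ 0 := Ring.two_ne_zero fun hc => by
    have := FiniteField.even_card_of_char_two hc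
    rw [Nat.odd_iff] at hF
    omega
  obtain ⟨f, hf, htt, -⟩ := CfsgLib.GL2Cent.exists_hyp Z hZc hZo ht e
  obtain ⟨n, hp, hq⟩ := FiniteField.card F (ringChar F)
  haveI : Fact (ringChar F).Prime := ⟨hp⟩
  by_cases h3 : Fintype.card F = 3
  · rcases hf.of_three h3 with h | h
    · exact Or.inl h
    · exact Or.inr ⟨inferInstance, h⟩
  have h5 : 5 ≤ Fintype.card F := by
    have := Fintype.one_lt_card (α := F)
    rw [Nat.odd_iff] at hF
    omega
  have hconj : ∀ x y : G, orderOf x = 2 → orderOf y = 2 → IsConj x y := by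
    intro x y hx hy
    have key : ∀ z : G, orderOf z = 2 → IsConj z t := fun z hz => by
      obtain ⟨g, hg⟩ := hf.conj_tt h2 (x := z) (by rw [← pow_two, ← hz, pow_orderOf_eq_one])
        (fun e => by rw [e, orderOf_one] at hz; omega)
      exact isConj_iff.mpr ⟨g, hg.trans htt⟩
    exact (key x hx).trans (key y hy).symm
  exact Or.inl (hf.psl3_of_five h2 hq n.ne_zero h5 fun h4 r hr hr2 hrq =>
    CfsgLib.GL2Cent.r_part_bound Z hZc hZo ht e hconj h4 hr hr2 hrq)

end Cfsg.Agent.S0484
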