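import Cfsg.Statements.S0485
import Cfsg.Agent.Lib.U3Cent.Main

set_option autoImplicit false
open Cfsg

namespace Cfsg.Agent.S0485

open CfsgLib.U3Cent in
/-- A central element of the unitary group of a plane is scalar. -/
theorem center_isScal {F : Type*} [Field F] [Fintype F] {c : CfsgLib.PSUBorel.Conj F} (hq : Odd c.q) {k : W c}
    (hk : ∀ g : W c, k * g = g * k) : IsScal k := by
  obtain ⟨a, ha⟩ : ∃ a : Fˣ, a ∉ nrmOne c := by
    by_contra h
    push Not at h
    have h1 := card_nrmOne (c := c)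
    rw [(eq_top_iff.mpr fun a _ => h a : nrmOne c = ⊤), Subgroup.card_top, card_units_q (c := c)] at h1
    have := one_lt_q hq
    have : c.q * 3 ≤ c.q ^ 2 := by rw [pow_two]; exact Nat.mul_le_mul_left _ this
    omega
  obtain ⟨h01, h10⟩ := of_comm_dg (fun h => ha (isScal_dg.mp h)) (hk (dg a))
  have e := congrArg (fun m => ent m 0 1) (hk ww)
  simp [ent_mul] at e
  exact ⟨h01, h10, e⟩


/-- If a finite simple group has an involution whose centralizer is isomorphic to the quotient of the general unitary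
group of dimension 2 for an odd prime power q (realised over the field with q² elements) by a central subgroup of odd
order, then it is isomorphic to the projective special unitary group of dimension 3 for the same q. -/
theorem result {G : Type*} [Group G] [Finite G]
    [IsSimpleGroup G] {F : Type*} [Field F] [Fintype F] (q : ℕ) (hq : Odd q) (hF : Fintype.card F = q ^ 2)
    (Z : Subgroup (Cfsg.GU 2 F q)) [Z.Normal] (hZc : Z ≤ Subgroup.center (Cfsg.GU 2 F q)) (hZo : Odd (Nat.card Z))
    (t : G) (ht : orderOf t = 2) (hC : Nonempty (Subgroup.centralizer ({t} : Set G) ≃* (Cfsg.GU 2 F q ⧸ Z))) :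
    Nonempty (G ≃* Cfsg.PSU 3 F q) := by
  obtain ⟨σ, hσ⟩ := (CfsgLib.UnitaryBasic.frob_exists hF).2
  let c : CfsgLib.PSUBorel.Conj F := ⟨q, σ, hF, hσ⟩
  have hqc : Odd c.q := hq
  obtain ⟨e⟩ := CfsgLib.U3Cent.exists_equiv c
  obtain ⟨C⟩ := hC
  let π : Cfsg.GU 2 F q →* Cfsg.GU 2 F q ⧸ Z := QuotientGroup.mk' Z
  let f : CfsgLib.U3Cent.W c →* G :=
    (Subgroup.centralizer ({t} : Set G)).subtype.comp ((C.symm.toMonoidHom.comp π).comp e.toMonoidHom)
  have hker : ∀ g, f g = 1 ↔ e g ∈ Z := fun g => by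
    show ((C.symm (π (e g)) : Subgroup.centralizer ({t} : Set G)) : G) = 1 ↔ _
    rw [OneMemClass.coe_eq_one, MulEquiv.map_eq_one_iff]
    exact QuotientGroup.eq_one_iff _
  have hrange : f.range = Subgroup.centralizer ({t} : Set G) := by
    refine le_antisymm (fun x hx => ?_) fun x hx => ?_
    · obtain ⟨g, rfl⟩ := hx
      exact (C.symm (π (e g))).2
    · obtain ⟨y, hy⟩ := QuotientGroup.mk'_surjective Z (C ⟨x, hx⟩)
      refine ⟨e.symm y, ?_⟩
      show ((C.symm (π (e (e.symm y))) : Subgroup.centralizer ({t} : Set G)) : G) = x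
      rw [MulEquiv.apply_symm_apply, hy, MulEquiv.symm_apply_apply]
  have hscal : ∀ g ∈ f.ker, CfsgLib.U3Cent.IsScal g := fun g hg => center_isScal hqc fun g' =>
    e.injective (by
      rw [map_mul, map_mul]
      exact (Subgroup.mem_center_iff.mp (hZc ((hker g).mp hg)) (e g')).symm)
  have hkero : Odd (Nat.card f.ker) := by
    rwa [show Nat.card f.ker = Nat.card Z from Nat.card_congr
      { toFun := fun g => ⟨e g.1, (hker g.1).mp g.2⟩
        invFun := fun z => ⟨e.symm z.1, (hker _).mpr (by rw [MulEquiv.apply_symm_apply]; exact z.2)⟩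
        left_inv := fun g => Subtype.ext (e.symm_apply_apply _)
        right_inv := fun z => Subtype.ext (e.apply_symm_apply _) }]
  -- the central involution goes to `t`
  have htt : CfsgLib.U3Cent.tt f = t := by
    have ht1 : t ≠ 1 := fun h => by rw [h, orderOf_one] at ht; omega
    have ht2 : t * t = 1 := by rw [← pow_two, ← ht, pow_orderOf_eq_one]
    obtain ⟨g, hg⟩ : t ∈ f.range := by rw [hrange]; exact Subgroup.mem_centralizer_singleton_iff.mpr rfl
    -- every element of the image commutes with `t`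
    have hcen : ∀ g', f g' * f g = f g * f g' := fun g' => by
      rw [hg]; exact Subgroup.mem_centralizer_singleton_iff.mp (hrange ▸ ⟨g', rfl⟩)
    -- so `g` is a scalar
    have hgk : ∀ g', g' * g = g * g' * (g'⁻¹ * g⁻¹ * g' * g) ∧ g'⁻¹ * g⁻¹ * g' * g ∈ f.ker := fun g' =>
      ⟨by group, f.mem_ker.mpr (by
        rw [map_mul, map_mul, map_mul, map_inv, map_inv, mul_assoc, hcen g']; group)⟩
    obtain ⟨a, b, hne⟩ : ∃ a b : F, a + c.σ a ≠ 0 ∧ b + c.σ b ≠ 0 ∧
        CfsgLib.U3Cent.refl (c := c) a * CfsgLib.U3Cent.refl b ≠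
          CfsgLib.U3Cent.refl b * CfsgLib.U3Cent.refl a := by
      by_contra h
      push Not at h
      obtain ⟨b0, hb, hb0⟩ := c.exists_antifixed
      have h1 := CfsgLib.U3Cent.one_tr (c := c) hqc
      have hx : b0 ∈ CfsgLib.U3Cent.X0 c := by rw [CfsgLib.U3Cent.mem_X0, hb0, add_neg_cancel]
      have h2 : (1 : F) + b0 + c.σ (1 + b0) ≠ 0 := by rwa [CfsgLib.U3Cent.tr_add_X0 1 ⟨b0, hx⟩]
      have e := congrArg (fun m => CfsgLib.U3Cent.ent m 1 0) (h 1 (1 + b0) h1 h2)
      obtain ⟨a0, a1, a2, a3⟩ := CfsgLib.U3Cent.refl_ent h1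
      obtain ⟨d0, d1, d2, d3⟩ := CfsgLib.U3Cent.refl_ent h2
      simp only [CfsgLib.U3Cent.ent_mul, a0, a1, a2, a3, d0, d1, d2, d3, map_add, map_one, hb0] at e
      have h22 := CfsgLib.U3Cent.two_ne (c := c) hqc
      rw [show (1 : F) + b0 + (1 + -b0) = 2 by ring, one_add_one_eq_two] at e
      field_simp at e
      exact hb (mul_left_cancel₀ h22 (mul_left_cancel₀ h22 (by linear_combination e)))
    obtain ⟨ha, hb, hab⟩ := hne
    have hcomm : ∀ {r : F}, r + c.σ r ≠ 0 → g * CfsgLib.U3Cent.refl r = CfsgLib.U3Cent.refl r * g := by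
      intro r hr
      obtain ⟨h1, h2⟩ := hgk (CfsgLib.U3Cent.refl r)
      set k := (CfsgLib.U3Cent.refl (c := c) r)⁻¹ * g⁻¹ * CfsgLib.U3Cent.refl r * g with hk
      have hkc := (hscal k h2).comm
      -- the commutator is central and squares to one
      have hk2 : k * k = 1 := by
        set R := CfsgLib.U3Cent.refl (c := c) r
        have hR : R * R = 1 := CfsgLib.U3Cent.refl_sq hr
        have e2 : g * (R * R) = R * R * g := by rw [hR, one_mul, mul_one]
        calc k * k = k * k * ((R * R * g)⁻¹ * (g * (R * R))) := by rw [e2, inv_mul_cancel, mul_one]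
          _ = 1 := by
            have h3 : R * R * g = g * (R * R) * (k * k) :=
              calc R * R * g = R * (R * g) := by group
                _ = R * (g * R * k) := by rw [h1]
                _ = R * g * (R * k) := by group
                _ = g * R * k * (R * k) := by rw [h1]
                _ = g * R * (k * R) * k := by group
                _ = g * R * (R * k) * k := by rw [hkc R]
                _ = _ := by group
            rw [h3]; group
      have hk1 : k = 1 := by
        refine orderOf_eq_one_iff.mp (Nat.eq_one_of_dvd_coprimes (Nat.coprime_two_left.mpr hkero)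
          (orderOf_dvd_of_pow_eq_one (by rw [pow_two, hk2])) (Subgroup.orderOf_dvd_natCard _ h2))
      rw [hk1, mul_one] at h1
      exact h1.symm
    have hgs := CfsgLib.U3Cent.scal_of_comm hqc ha hb hab (hcomm ha) (hcomm hb)
    -- a scalar square root of the identity modulo the kernel
    obtain ⟨u, hu, rfl⟩ := CfsgLib.U3Cent.exists_nrmOne hgs
    have hk : CfsgLib.U3Cent.dg (c := c) (u * u) ∈ f.ker := f.mem_ker.mpr (by
      show f (CfsgLib.U3Cent.dgHom (u * u)) = 1
      rw [map_mul, map_mul, hg, ht2])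
    obtain ⟨m, hm⟩ := hkero
    have hpow : (u * u) ^ (2 * m + 1) = 1 := CfsgLib.U3Cent.dg_inj (c := c) (by
      show CfsgLib.U3Cent.dgHom ((u * u) ^ (2 * m + 1)) = CfsgLib.U3Cent.dgHom 1
      rw [map_pow, map_one, ← hm]
      exact congrArg Subtype.val (pow_card_eq_one' (x := (⟨_, hk⟩ : f.ker))))
    have hsign : ((u ^ (2 * m + 1) : Fˣ) : F) = 1 ∨ ((u ^ (2 * m + 1) : Fˣ) : F) = -1 :=
      mul_self_eq_one_iff.mp (by rw [← Units.val_mul, ← mul_pow, hpow, Units.val_one])
    have hft : f (CfsgLib.U3Cent.dg (u ^ (2 * m + 1))) = t := by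
      show f (CfsgLib.U3Cent.dgHom _) = t
      rw [map_pow, map_pow, hg, pow_succ, pow_mul, pow_two, ht2, one_pow, one_mul]
    rcases hsign with h | h
    · exfalso
      rw [Units.ext (h.trans Units.val_one.symm), CfsgLib.U3Cent.dg, map_one, map_one] at hft
      exact ht1 hft.symm
    · rw [CfsgLib.U3Cent.tt, CfsgLib.U3Cent.neg, show (-1 : Fˣ) = u ^ (2 * m + 1) from Units.ext (by
        rw [h, Units.val_neg, Units.val_one]), hft]
  have hf : CfsgLib.U3Cent.Hyp c f := ⟨hqc, by rw [hrange, htt], hscal, hkero⟩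
  exact hf.nonempty_iso

end Cfsg.Agent.S0485
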