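import Cfsg.Statements.S5025
import Mathlib
import Cfsg.Agent.Lib.RootSub.RootSet
-- import your own Cfsg.Agent.* helpers here

set_option autoImplicit false
open Cfsg

namespace Cfsg.Agent.S5025

/-- Let S be a set of abstract root subgroups of G, A ∈ S and B a rank one partner of A in S. If z ≠ 1 centralizes ⟨A, B⟩, then no product z a with a a non-identity element of A is a non-identity element of a member of S. -/
theorem result {G : Type*} [Group G] {S : Set (Subgroup G)} (hS : Cfsg.IsRootSubgroupSet S)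
    {A B : Subgroup G} (hA : A ∈ S) (hB : B ∈ Cfsg.rankOnePartners S A) {z : G}
    (hz : z ∈ Subgroup.centralizer ((A ⊔ B : Subgroup G) : Set G)) (hz1 : z ≠ 1) :
    ∀ a ∈ A, a ≠ 1 → z * a ∉ Cfsg.rootElements S := by
    rintro a ha ha1 ⟨hza1, C, hC, hzaC⟩
    obtain ⟨hBS, hp⟩ := hB
    have hBU : B ∈ Cfsg.unipotentSubgroups A B := CfsgLib.RootSub.right_mem_unipotent hp
    have hzn : ∀ K : Subgroup G, K ≤ A ⊔ B → z ∈ Subgroup.normalizer (K : Set G) := fun K hK => by
      rw [← CfsgLib.RootSub.conjBy_eq_self_iff]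
      ext x
      rw [CfsgLib.RootSub.conjBy_mem_iff]
      constructor
      · intro hx
        have h1 : z⁻¹ * x * z * z = z * (z⁻¹ * x * z) := Subgroup.mem_centralizer_iff.mp hz _ (hK hx)
        have h2 : z⁻¹ * x * z = x := mul_right_cancel (h1.trans (by group))
        rwa [h2] at hx
      · intro hx
        rw [mul_assoc, Subgroup.mem_centralizer_iff.mp hz x (hK hx), inv_mul_cancel_left]
        exact hx
    have hconj : ∀ g : G, g ∈ A → Cfsg.conjBy (Cfsg.conjBy B g) z = Cfsg.conjBy B g := fun g hg => by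
      refine CfsgLib.RootSub.conjBy_eq_self_iff.mpr (hzn _ ?_)
      rintro _ ⟨w, hw, rfl⟩
      exact mul_mem (mul_mem (Subgroup.mem_sup_left hg) (Subgroup.mem_sup_right hw)) (inv_mem (Subgroup.mem_sup_left hg))
    have hCB : Cfsg.IsRankOnePair C B := by
      by_contra hnr
      have h1 := CfsgLib.RootSub.normalizes_of_not_rankOne hS hC hBS hnr hp hBU hzaC (by
        rw [← CfsgLib.RootSub.conjBy_conjBy, hconj a ha]; exact CfsgLib.RootSub.conjBy_right_mem hp ha)
      have h2 := mul_mem (inv_mem (hzn B le_sup_right)) h1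
      rw [inv_mul_cancel_left] at h2
      exact ha1 (CfsgLib.RootSub.eq_one_of_normalizes hp ha h2)
    have hzinv : Cfsg.conjBy B z⁻¹ = B := CfsgLib.RootSub.conjBy_eq_self_iff.mpr (inv_mem (hzn B le_sup_right))
    have hCU := CfsgLib.RootSub.mem_unipotent_of_rankOne hp hCB hBU hzaC hza1 (by
      rw [mul_inv_rev, ← CfsgLib.RootSub.conjBy_conjBy, hzinv]
      exact CfsgLib.RootSub.conjBy_right_mem hp (inv_mem ha))
    have hAC : A = C := CfsgLib.RootSub.eq_of_normalizes hp hCU CfsgLib.RootSub.left_mem_unipotent hzaC hza1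
      (mul_mem (hzn A le_sup_left) (Subgroup.le_normalizer ha))
    have hzA : z ∈ A := by
      rw [← hAC] at hzaC
      have := mul_mem hzaC (inv_mem ha)
      rwa [mul_inv_cancel_right] at this
    exact hz1 (CfsgLib.RootSub.eq_one_of_normalizes hp hzA (hzn B le_sup_right))

end Cfsg.Agent.S5025
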