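import Cfsg.Statements.S5028
import Mathlib
import Cfsg.Agent.Lib.RootSub.RootSet
-- import your own Cfsg.Agent.* helpers here

set_option autoImplicit false
open Cfsg

namespace Cfsg.Agent.S5028

/-- Let S be a set of abstract root subgroups of G and A a member of S having a rank one partner in S. Then A meets every other member of S trivially. -/
theorem result {G : Type*} [Group G] {S : Set (Subgroup G)} (hS : Cfsg.IsRootSubgroupSet S)
    {A : Subgroup G} (hA : ¬ Cfsg.IsIsolatedIn (Cfsg.FAdj S) S A) (hAS : A ∈ S) : ∀ B ∈ S, A ⊓ B = ⊥ ∨ A = B := by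
    intro C hC
    rw [or_iff_not_imp_left]
    intro hne
    obtain ⟨⟨x, hxA, hxC⟩, hx⟩ := Subgroup.ne_bot_iff_exists_ne_one.mp hne
    have hx1 : x ≠ 1 := fun e => hx (Subtype.ext e)
    have hex : ∃ B, B ∈ S ∧ Cfsg.IsRankOnePair A B := by
      by_contra hno
      push Not at hno
      exact hA ⟨hAS, fun B => ⟨fun h => hno B h.2.1 h.2.2, fun h => hno B h.1 (Cfsg.RankOnePair_symm h.2.2)⟩⟩
    obtain ⟨B, hB, hp⟩ := hex
    have hBU : B ∈ Cfsg.unipotentSubgroups A B := CfsgLib.RootSub.right_mem_unipotent hp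
    have hCB : Cfsg.IsRankOnePair C B := by
      by_contra hnr
      exact hx1 (CfsgLib.RootSub.eq_one_of_normalizes hp hxA (CfsgLib.RootSub.normalizes_of_not_rankOne hS hC hB hnr hp hBU hxC
        (CfsgLib.RootSub.conjBy_mem_unipotent (Subgroup.mem_sup_left hxA) hBU)))
    have hCU := CfsgLib.RootSub.mem_unipotent_of_rankOne hp hCB hBU hxC hx1
      (CfsgLib.RootSub.conjBy_mem_unipotent (Subgroup.mem_sup_left (inv_mem hxA)) hBU)
    exact CfsgLib.RootSub.eq_of_normalizes hp hCU CfsgLib.RootSub.left_mem_unipotent hxC hx1 (Subgroup.le_normalizer hxA)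

end Cfsg.Agent.S5028
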