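import Cfsg.Statements.S0801
import Mathlib
import Cfsg.Agent.Lib.DicksonFull.Subgroups

set_option autoImplicit false
open Cfsg

namespace Cfsg.Agent.S0801

open Matrix

section

open CfsgLib.DicksonFull
open CfsgLib.Dickson (up lo ext_entries mul_entry det_eq inv_entries)
open CfsgLib.PSL2 (mk)

variable {F : Type*} [Field F]

local notation "SL" => Matrix.SpecialLinearGroup (Fin 2) F
local notation "PSL" => Matrix.ProjectiveSpecialLinearGroup (Fin 2) F

abbrev Code := ℕ × ℕ × ℕ × ℕ × ℕ × ℕ × ℕ × ℕ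

/-- The group generated for `λ² = -1` in characteristic `3`. -/
def codes : List Code :=
  [(0,0,1,1,1,2,0,0),
   (0,0,1,1,1,2,1,1),
   (0,0,1,1,1,2,2,2),
   (0,0,1,2,1,1,0,0),
   (0,0,1,2,1,1,1,2),
   (0,0,1,2,1,1,2,1),
   (0,0,2,1,2,2,0,0),
   (0,0,2,1,2,2,1,2),
   (0,0,2,1,2,2,2,1),
   (0,0,2,2,2,1,0,0),
   (0,0,2,2,2,1,1,1),
   (0,0,2,2,2,1,2,2),
   (0,1,0,0,0,0,0,2),
   (0,1,0,0,0,1,0,2),
   (0,1,0,0,0,2,0,2),
   (0,1,1,0,0,0,0,2),
   (0,1,1,0,0,1,1,2),
   (0,1,1,0,0,2,2,2),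
   (0,1,2,0,0,0,0,2),
   (0,1,2,0,0,1,2,2),
   (0,1,2,0,0,2,1,2),
   (0,2,0,0,0,0,0,1),
   (0,2,0,0,0,1,0,1),
   (0,2,0,0,0,2,0,1),
   (0,2,1,0,0,0,0,1),
   (0,2,1,0,0,1,2,1),
   (0,2,1,0,0,2,1,1),
   (0,2,2,0,0,0,0,1),
   (0,2,2,0,0,1,1,1),
   (0,2,2,0,0,2,2,1),
   (1,0,0,0,0,0,1,0),
   (1,0,0,0,1,0,1,0),
   (1,0,0,0,2,0,1,0),
   (1,0,0,1,0,0,1,0),
   (1,0,0,1,1,0,1,1),
   (1,0,0,1,2,0,1,2),
   (1,0,0,2,0,0,1,0),
   (1,0,0,2,1,0,1,2),
   (1,0,0,2,2,0,1,1),
   (1,1,0,1,0,2,1,2),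
   (1,1,0,1,1,0,1,0),
   (1,1,0,1,2,1,1,1),
   (1,1,0,2,0,1,1,2),
   (1,1,0,2,1,2,1,1),
   (1,1,0,2,2,0,1,0),
   (1,1,1,0,0,2,0,2),
   (1,1,1,0,1,0,1,2),
   (1,1,1,0,2,1,2,2),
   (1,1,1,1,0,1,2,2),
   (1,1,1,1,1,2,0,0),
   (1,1,1,1,2,0,1,1),
   (1,1,2,0,0,1,0,2),
   (1,1,2,0,1,2,2,2),
   (1,1,2,0,2,0,1,2),
   (1,1,2,2,0,2,2,2),
   (1,1,2,2,1,0,1,1),
   (1,1,2,2,2,1,0,0),
   (1,2,0,1,0,2,1,1),
   (1,2,0,1,1,1,1,2),
   (1,2,0,1,2,0,1,0),
   (1,2,0,2,0,1,1,1),
   (1,2,0,2,1,0,1,0),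
   (1,2,0,2,2,2,1,2),
   (1,2,1,0,0,1,0,1),
   (1,2,1,0,1,0,1,1),
   (1,2,1,0,2,2,2,1),
   (1,2,1,2,0,2,2,1),
   (1,2,1,2,1,1,0,0),
   (1,2,1,2,2,0,1,2),
   (1,2,2,0,0,2,0,1),
   (1,2,2,0,1,1,2,1),
   (1,2,2,0,2,0,1,1),
   (1,2,2,1,0,1,2,1),
   (1,2,2,1,1,0,1,2),
   (1,2,2,1,2,2,0,0),
   (2,0,0,0,0,0,2,0),
   (2,0,0,0,1,0,2,0),
   (2,0,0,0,2,0,2,0),
   (2,0,0,1,0,0,2,0),
   (2,0,0,1,1,0,2,2),
   (2,0,0,1,2,0,2,1),
   (2,0,0,2,0,0,2,0),
   (2,0,0,2,1,0,2,1),
   (2,0,0,2,2,0,2,2),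
   (2,1,0,1,0,2,2,2),
   (2,1,0,1,1,1,2,1),
   (2,1,0,1,2,0,2,0),
   (2,1,0,2,0,1,2,2),
   (2,1,0,2,1,0,2,0),
   (2,1,0,2,2,2,2,1),
   (2,1,1,0,0,1,0,2),
   (2,1,1,0,1,0,2,2),
   (2,1,1,0,2,2,1,2),
   (2,1,1,2,0,2,1,2),
   (2,1,1,2,1,1,0,0),
   (2,1,1,2,2,0,2,1),
   (2,1,2,0,0,2,0,2),
   (2,1,2,0,1,1,1,2),
   (2,1,2,0,2,0,2,2),
   (2,1,2,1,0,1,1,2),
   (2,1,2,1,1,0,2,1),
   (2,1,2,1,2,2,0,0),
   (2,2,0,1,0,2,2,1),
   (2,2,0,1,1,0,2,0),
   (2,2,0,1,2,1,2,2),
   (2,2,0,2,0,1,2,1),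
   (2,2,0,2,1,2,2,2),
   (2,2,0,2,2,0,2,0),
   (2,2,1,0,0,2,0,1),
   (2,2,1,0,1,0,2,1),
   (2,2,1,0,2,1,1,1),
   (2,2,1,1,0,1,1,1),
   (2,2,1,1,1,2,0,0),
   (2,2,1,1,2,0,2,2),
   (2,2,2,0,0,1,0,1),
   (2,2,2,0,1,2,1,1),
   (2,2,2,0,2,0,2,1),
   (2,2,2,2,0,2,1,1),
   (2,2,2,2,1,0,2,2),
   (2,2,2,2,2,1,0,0)]

def lmul : Code → Code
  | (a, a', b, b', c, c', d, d') => (a, a', b, b', (c + a) % 3, (c' + a') % 3, (d + b) % 3, (d' + b') % 3)

def umul : Code → Code
  | (a, a', b, b', c, c', d, d') => ((a + 2 * c') % 3, (a' + c) % 3, (b + 2 * d') % 3, (b' + d) % 3, c, c', d, d')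

theorem codes_closed : ∀ x ∈ codes, lmul x ∈ codes ∧ umul x ∈ codes := by decide +kernel

theorem codes_one : ((1, 0, 0, 0, 0, 0, 1, 0) : Code) ∈ codes := by decide +kernel

theorem codes_length : codes.length = 120 := by decide +kernel

def evp (lam : F) (a b : ℕ) : F := (a : F) + (b : F) * lam

def evc (lam : F) : Code → Matrix (Fin 2) (Fin 2) F
  | (a, a', b, b', c, c', d, d') => !![evp lam a a', evp lam b b'; evp lam c c', evp lam d d']

theorem exceptional_le [Fintype F] [CharP F 3] {lam : F} (hlam : lam ^ 2 = -1) :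
    Nat.card (Subgroup.closure ({lo 1, up lam} : Set SL)) ≤ 120 := by
  classical
  have hm : ∀ n : ℕ, (((n % 3 : ℕ)) : F) = (n : F) := fun n => by
    conv_rhs => rw [← Nat.mod_add_div n 3]
    push_cast
    have h3 : ((3 : ℕ) : F) = 0 := CharP.cast_eq_zero F 3
    push_cast at h3
    linear_combination (-((n / 3 : ℕ) : F)) * h3
  have h3 : (3 : F) = 0 := by exact_mod_cast CharP.cast_eq_zero F 3
  let S : Finset (Matrix (Fin 2) (Fin 2) F) := (codes.map (evc lam)).toFinset
  have hS : S.card ≤ 120 := (List.toFinset_card_le _).trans (by rw [List.length_map, codes_length])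
  have hl : ∀ x : Code, (lo 1).1 * evc lam x = evc lam (lmul x) := by
    rintro ⟨a, a', b, b', c, c', d, d'⟩
    ext i j
    fin_cases i <;> fin_cases j <;>
      simp [evc, evp, lmul, Matrix.mul_apply, Fin.sum_univ_two, hm] <;> ring
  have hu : ∀ x : Code, (up lam).1 * evc lam x = evc lam (umul x) := by
    rintro ⟨a, a', b, b', c, c', d, d'⟩
    ext i j
    fin_cases i <;> fin_cases j <;>
      simp [evc, evp, umul, Matrix.mul_apply, Fin.sum_univ_two, hm]
    · linear_combination (c' : F) * hlam - (c' : F) * h3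
    · linear_combination (d' : F) * hlam - (d' : F) * h3
  let M : Subgroup SL :=
    { carrier := {g | ∀ x ∈ S, g.1 * x ∈ S}
      one_mem' := fun x hx => by simpa using hx
      mul_mem' := fun {a b} ha hb x hx => by
        rw [Matrix.SpecialLinearGroup.coe_mul, Matrix.mul_assoc]
        exact ha _ (hb x hx)
      inv_mem' := fun {a} ha => by
        have hpow : ∀ n : ℕ, ∀ x ∈ S, (a ^ n).1 * x ∈ S := by
          intro n
          induction n with
          | zero => intro x hx; simpa using hx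
          | succ n ih =>
            intro x hx
            rw [pow_succ', Matrix.SpecialLinearGroup.coe_mul, Matrix.mul_assoc]
            exact ha _ (ih x hx)
        rw [show a⁻¹ = a ^ (orderOf a - 1) from inv_eq_of_mul_eq_one_right (by
          rw [← pow_succ', Nat.sub_add_cancel (orderOf_pos a), pow_orderOf_eq_one])]
        exact hpow _ }
  have hle : Subgroup.closure ({lo 1, up lam} : Set SL) ≤ M := by
    rw [Subgroup.closure_le]
    rintro g (rfl | rfl) x hx <;> obtain ⟨c, hc, rfl⟩ := List.mem_map.mp (List.mem_toFinset.mp hx) <;>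
      refine List.mem_toFinset.mpr (List.mem_map.mpr ?_)
    · exact ⟨_, (codes_closed c hc).1, (hl c).symm⟩
    · exact ⟨_, (codes_closed c hc).2, (hu c).symm⟩
  have h1 : (1 : Matrix (Fin 2) (Fin 2) F) ∈ S := by
    refine List.mem_toFinset.mpr (List.mem_map.mpr ⟨_, codes_one, ?_⟩)
    ext i j
    fin_cases i <;> fin_cases j <;> simp [evc, evp]
  refine le_trans ?_ hS
  rw [← Fintype.card_coe S, ← Nat.card_eq_fintype_card]
  refine Nat.card_le_card_of_injective (fun g => (⟨g.1.1 * 1, hle g.2 1 h1⟩ : S)) fun a b e => ?_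
  have e' : a.1.1 * 1 = b.1.1 * 1 := congrArg Subtype.val e
  rw [mul_one, mul_one] at e'
  exact Subtype.ext (Subtype.ext e')

set_option synthInstance.maxHeartbeats 400000 in
set_option synthInstance.maxSize 512 in
theorem a5_three : ∀ a b : alternatingGroup (Fin 5), a ^ 3 = 1 → b ^ 3 = 1 →
    (a * b) ^ 2 = 1 ∨ (a * b) ^ 3 = 1 ∨ (a * b) ^ 5 = 1 := by decide +kernel

set_option synthInstance.maxHeartbeats 400000 in
set_option synthInstance.maxSize 512 in
theorem a5_five : ∀ a b : alternatingGroup (Fin 5), a ^ 5 = 1 → b ^ 5 = 1 →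
    (a * b) ^ 2 = 1 ∨ (a * b) ^ 3 = 1 ∨ (a * b) ^ 5 = 1 := by decide +kernel

theorem s4_three : ∀ a b : Equiv.Perm (Fin 4), a ^ 3 = 1 → b ^ 3 = 1 →
    (a * b) ^ 2 = 1 ∨ (a * b) ^ 3 = 1 := by decide +kernel

theorem a4_three : ∀ a b : alternatingGroup (Fin 4), a ^ 3 = 1 → b ^ 3 = 1 →
    (a * b) ^ 2 = 1 ∨ (a * b) ^ 3 = 1 := by decide +kernel

theorem scalar_or_trace {g : SL} {α β : F} (h : α • g.1 = β • (1 : Matrix (Fin 2) (Fin 2) F)) :
    α = 0 ∨ g.1.trace = 2 ∨ g.1.trace = -2 := by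
  by_cases ha : α = 0
  · exact Or.inl ha
  right
  by_contra hne
  push Not at hne
  have ht : g.1.trace ^ 2 ≠ 4 := fun e => by
    rcases CfsgLib.Dickson.trace_sq_eq_four e with e' | e'
    · exact hne.1 e'
    · exact hne.2 e'
  refine CfsgLib.SL2Centralizer.not_scalar_of_trace ht (α⁻¹ * β) ?_
  rw [← smul_smul, ← h, smul_smul, inv_mul_cancel₀ ha, one_smul]

theorem pm_one {g : SL} {k : ℕ} (h : mk g ^ k = 1) :
    ∃ e : F, g.1 ^ k = e • (1 : Matrix (Fin 2) (Fin 2) F) := by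
  rw [← map_pow] at h
  rcases mk_eq_one h with h | h <;> have h' := congrArg Subtype.val h <;>
    rw [Matrix.SpecialLinearGroup.coe_pow] at h'
  · exact ⟨1, by rw [h', one_smul]; simp⟩
  · exact ⟨-1, by rw [h']; simp⟩

theorem trace_of_order {g : SL} {k : ℕ} (hk : k = 2 ∨ k = 3 ∨ k = 5) (h : mk g ^ k = 1) :
    g.1.trace = 0 ∨ g.1.trace = 1 ∨ g.1.trace = -1 ∨ g.1.trace = 2 ∨ g.1.trace = -2 ∨
      (k = 5 ∧ (g.1.trace ^ 2 + g.1.trace - 1) * (g.1.trace ^ 2 - g.1.trace - 1) = 0) := by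
  obtain ⟨e, he⟩ := pm_one h
  have hs := CfsgLib.SL2Orders.sq_eq g
  set A := g.1
  set τ := A.trace with hτ
  rcases hk with rfl | rfl | rfl
  · rw [pow_two, hs, sub_eq_iff_eq_add] at he
    rcases scalar_or_trace (g := g) (α := τ) (β := e + 1) (by rw [he, add_smul, one_smul]) with h | h | h
    · exact Or.inl h
    · exact Or.inr (Or.inr (Or.inr (Or.inl h)))
    · exact Or.inr (Or.inr (Or.inr (Or.inr (Or.inl h))))
  · have h3 : (τ ^ 2 - 1) • A = (e + τ) • (1 : Matrix (Fin 2) (Fin 2) F) := by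
      rw [pow_succ, pow_two, hs, Matrix.sub_mul, Matrix.smul_mul, hs, one_mul] at he
      rw [add_smul, ← he]
      module
    rcases scalar_or_trace (g := g) h3 with h | h | h
    · have : (τ - 1) * (τ + 1) = 0 := by linear_combination h
      rcases mul_eq_zero.mp this with h | h
      · exact Or.inr (Or.inl (sub_eq_zero.mp h))
      · exact Or.inr (Or.inr (Or.inl (eq_neg_of_add_eq_zero_left h)))
    · exact Or.inr (Or.inr (Or.inr (Or.inl h)))
    · exact Or.inr (Or.inr (Or.inr (Or.inr (Or.inl h))))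
  · have h5 : (τ ^ 4 - 3 * τ ^ 2 + 1) • A = (e + (τ ^ 3 - 2 * τ)) • (1 : Matrix (Fin 2) (Fin 2) F) := by
      rw [show (5 : ℕ) = 2 + 2 + 1 from rfl, pow_succ, pow_add, pow_two, hs] at he
      simp only [Matrix.sub_mul, Matrix.mul_sub, Matrix.smul_mul, Matrix.mul_smul, one_mul, mul_one,
        hs, smul_sub, smul_smul] at he
      linear_combination (norm := module) he
    rcases scalar_or_trace (g := g) h5 with h | h | h
    · exact Or.inr (Or.inr (Or.inr (Or.inr (Or.inr ⟨rfl, by linear_combination h⟩))))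
    · exact Or.inr (Or.inr (Or.inr (Or.inl h)))
    · exact Or.inr (Or.inr (Or.inr (Or.inr (Or.inl h))))

variable [Fintype F]

theorem top_of_bot {lam : F} (hlam : lam ≠ 0) (hgen : Subfield.closure ({lam} : Set F) = ⊤)
    (hb : lam ∈ (⊥ : Subfield F)) :
    Subgroup.closure ({lo 1, up lam} : Set SL) = ⊤ ∧ Fintype.card F ≠ 9 := by
  obtain ⟨p, hp⟩ := CharP.exists F
  haveI := Fact.mk (CharP.char_is_prime F p)
  have hbt : (⊥ : Subfield F) = ⊤ :=
    top_le_iff.mp (hgen.ge.trans (Subfield.closure_le.mpr (Set.singleton_subset_iff.mpr hb)))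
  let ι : ZMod p →+* F := ZMod.castHom dvd_rfl F
  have hsurj : Function.Surjective ι := fun x => by
    have hx : x ∈ (⊥ : Subfield F) := hbt ▸ Subfield.mem_top x
    exact (show (⊥ : Subfield F) ≤ ι.fieldRange from bot_le) hx
  have hcard : Fintype.card F = p := by
    rw [← ZMod.card p]
    exact (Fintype.card_of_bijective ⟨ι.injective, hsurj⟩).symm
  refine ⟨?_, fun h => ?_⟩
  swap
  · rw [h] at hcard
    exact absurd (hcard.symm ▸ (Fact.out : p.Prime) : Nat.Prime 9) (by norm_num)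
  set G := Subgroup.closure ({lo 1, up lam} : Set SL)
  have hlo : lo (1 : F) ∈ G := Subgroup.subset_closure (by simp)
  have hup : up lam ∈ G := Subgroup.subset_closure (by simp)
  rw [eq_top_iff]
  intro g _
  have hg := map_mem_of_transvections (RingHom.id F) (G := G) (fun t => ?_) (fun t => ?_) g
  · convert hg using 1
    exact Subtype.ext (Matrix.ext fun i j => rfl)
  · obtain ⟨n, hn⟩ := hsurj (t / lam)
    have := G.pow_mem hup n.val
    rw [CfsgLib.Dickson.up_pow] at this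
    rwa [show ((n.val : ℕ) : F) * lam = t by
      rw [← map_natCast ι, ZMod.natCast_zmod_val, hn, div_mul_cancel₀ _ hlam]] at this
  · obtain ⟨n, hn⟩ := hsurj t
    have := G.pow_mem hlo n.val
    rw [CfsgLib.Dickson.lo_pow, mul_one, ← map_natCast ι, ZMod.natCast_zmod_val, hn] at this
    exact this

theorem card_nine [CharP F 3] {lam : F} (hlam : lam ^ 2 = -1)
    (hgen : Subfield.closure ({lam} : Set F) = ⊤) : Fintype.card F = 9 := by
  have h8 : lam ^ 9 = lam := by
    rw [show lam ^ 9 = (lam ^ 2) ^ 4 * lam by ring, hlam]; ring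
  let S : Subfield F := (iterateFrobenius F 3 2).eqLocusField (RingHom.id F)
  have hS : S = ⊤ := top_le_iff.mp (hgen.ge.trans (Subfield.closure_le.mpr
    (Set.singleton_subset_iff.mpr (show iterateFrobenius F 3 2 lam = lam by
      rw [iterateFrobenius_def]; norm_num [h8]))))
  have hall : ∀ x : Fˣ, x ^ 8 = 1 := fun x => by
    have hx : (x : F) ∈ S := hS ▸ Subfield.mem_top _
    have hx' : (x : F) ^ 9 = x := by
      have h : iterateFrobenius F 3 2 (x : F) = x := hx
      rw [iterateFrobenius_def] at h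
      norm_num at h
      exact h
    refine mul_right_cancel (b := x) (Units.ext ?_)
    rw [← pow_succ, Units.val_pow_eq_pow_val, hx', one_mul]
  obtain ⟨x, hx⟩ := IsCyclic.exists_generator (α := Fˣ)
  have hd : Fintype.card F - 1 ∣ 8 := by
    rw [← Nat.card_eq_fintype_card, ← Nat.card_units, ← orderOf_eq_card_of_forall_mem_zpowers hx]
    exact orderOf_dvd_of_pow_eq_one (hall x)
  have hle := Nat.le_of_dvd (by norm_num) hd
  obtain ⟨n, -, hn⟩ := FiniteField.card F 3
  have hn2 : (n : ℕ) ≤ 2 := by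
    by_contra h
    have := Nat.pow_le_pow_right (show 0 < 3 by norm_num) (show 3 ≤ (n : ℕ) by omega)
    omega
  rcases (show (n : ℕ) = 1 ∨ (n : ℕ) = 2 by have := n.pos; omega) with h | h <;> rw [h] at hn
  · exfalso
    have h0 : lam ≠ 0 := fun e => by simp [e] at hlam
    have h1 : lam ^ 2 = 1 := by
      have := FiniteField.pow_card_sub_one_eq_one lam h0
      rw [hn, show 3 ^ 1 - 1 = 2 from rfl] at this
      exact this
    have : (2 : F) = 0 := by linear_combination hlam - h1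
    exact Ring.two_ne_zero (by rw [ringChar.eq F 3]; norm_num) this
  · exact hn

theorem main (h2 : (2 : F) ≠ 0) {lam : F} (hlam : lam ≠ 0)
    (hgen : Subfield.closure ({lam} : Set F) = ⊤) :
    (Subgroup.closure ({lo 1, up lam} : Set SL) = ⊤ ∧ ¬ (Fintype.card F = 9 ∧ lam ^ 2 = -1)) ∨
      (Fintype.card F = 9 ∧ lam ^ 2 = -1 ∧
        Nat.card (Subgroup.closure ({lo 1, up lam} : Set SL)) = 120) := by
  classical
  obtain ⟨p, hp⟩ := CharP.exists F
  haveI := Fact.mk (CharP.char_is_prime F p)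
  have hpp : p.Prime := Fact.out
  have hp2 : p ≠ 2 := by
    rintro rfl
    exact h2 (by exact_mod_cast CharP.cast_eq_zero F 2)
  have hqodd : Fintype.card F % 2 = 1 :=
    FiniteField.odd_card_of_char_ne_two (by rw [ringChar.eq F p]; exact hp2)
  set G := Subgroup.closure ({lo 1, up lam} : Set SL) with hG
  set H := G.map (mk : SL →* PSL) with hH
  have hloG : lo (1 : F) ∈ G := Subgroup.subset_closure (by simp)
  have hupG : up lam ∈ G := Subgroup.subset_closure (by simp)
  have hne1 : mk (lo (1 : F)) ≠ 1 := fun e => by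
    rcases mk_eq_one e with h | h
    · simpa using congrArg (fun g : SL => g.1 1 0) h
    · simpa using congrArg (fun g : SL => g.1 1 0) h
  have hne2 : mk (up lam) ≠ 1 := fun e => by
    rcases mk_eq_one e with h | h
    · exact hlam (by simpa using congrArg (fun g : SL => g.1 0 1) h)
    · exact hlam (by simpa using congrArg (fun g : SL => g.1 0 1) h)
  have htlo : (lo (1 : F)).1.trace = 2 := by simp [Matrix.trace_fin_two, one_add_one_eq_two]
  have hu : orderOf (mk (lo (1 : F))) = p :=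
    (orderOf_eq_iff_trace p hne1).mpr (by rw [htlo]; norm_num)
  have hv : orderOf (mk (up lam)) = p :=
    (orderOf_eq_iff_trace p hne2).mpr (by rw [CfsgLib.Dickson.trace_up]; norm_num)
  have huH : mk (lo (1 : F)) ∈ H := Subgroup.mem_map_of_mem _ hloG
  have hvH : mk (up lam) ∈ H := Subgroup.mem_map_of_mem _ hupG
  have huv : ¬ Commute (mk (up lam)) (mk (lo (1 : F))) := fun h => by
    have := congrArg (fun g : SL => g.1 0 0) (commute_lift htlo h)
    simp [mul_entry] at this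
    exact hlam this
  have hpH : p ∣ Nat.card H := hu ▸ Subgroup.orderOf_dvd_natCard _ huH
  have hcard := card_psl (F := F)
  have hg2 : Nat.gcd 2 (Fintype.card F - 1) = 2 := Nat.gcd_eq_left (by omega)
  rw [hg2] at hcard
  -- an even image forces `-1 ∈ G`
  have hfull : 2 ∣ Nat.card H → Nat.card G = 2 * Nat.card H := by
    intro hev
    have hsurj : Function.Surjective ((mk : SL →* PSL).subgroupMap G) :=
      MonoidHom.subgroupMap_surjective _ _
    have hevG : 2 ∣ Nat.card G := hev.trans (Subgroup.card_dvd_of_surjective _ hsurj)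
    haveI : Fact (Nat.Prime 2) := ⟨Nat.prime_two⟩
    obtain ⟨⟨x, hx⟩, hxo⟩ := exists_prime_orderOf_dvd_card' (G := G) 2 hevG
    rw [Subgroup.orderOf_mk] at hxo
    have hneg : (-1 : SL) ∈ G := by
      rcases CfsgLib.SL2Orders.eq_one_or_neg_one_of_sq h2 x
        (by rw [← pow_two]; have := pow_orderOf_eq_one x; rwa [hxo] at this) with rfl | rfl
      · rw [orderOf_one] at hxo; omega
      · exact hx
    have hne : (-1 : SL) ≠ 1 := fun e => h2 (by
      have := congrArg (fun g : SL => g.1 0 0) e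
      simp at this
      linear_combination -this)
    have hk : Nat.card ((mk : SL →* PSL).subgroupMap G).ker = 2 := by
      refine (Nat.card_eq_two_iff' (1 : ((mk : SL →* PSL).subgroupMap G).ker)).mpr
        ⟨⟨⟨-1, hneg⟩, ?_⟩, ?_, ?_⟩
      · exact Subtype.ext (by
          show mk (-1 : SL) = 1
          rw [mk_neg, map_one])
      · exact fun e => hne (congrArg (fun z : ((mk : SL →* PSL).subgroupMap G).ker => ((z : G) : SL)) e)
      · rintro ⟨⟨y, hy⟩, hy'⟩ hy1
        have h1 : mk y = 1 := congrArg Subtype.val hy'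
        rcases mk_eq_one h1 with rfl | rfl
        · exact absurd rfl hy1
        · rfl
    have := ((mk : SL →* PSL).subgroupMap G).ker.index_mul_card
    rw [Subgroup.index_ker, MonoidHom.range_eq_top.mpr hsurj, Subgroup.card_top, hk] at this
    rw [← this, mul_comm]
  have hexc : Fintype.card F = 9 → lam ^ 2 = -1 → Nat.card G ≤ 120 := by
    intro h9 hl
    obtain ⟨n, -, hn⟩ := FiniteField.card F p
    have hp3 : p = 3 := by
      have : p ∣ 3 ^ 2 := by rw [show (3 : ℕ) ^ 2 = p ^ (n : ℕ) by rw [← hn, h9]; rfl]; exact dvd_pow_self p n.ne_zero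
      exact (Nat.prime_dvd_prime_iff_eq hpp Nat.prime_three).mp (hpp.dvd_of_dvd_pow this)
    subst hp3
    exact exceptional_le hl
  have hcase : H = ⊤ → G = ⊤ ∧ ¬ (Fintype.card F = 9 ∧ lam ^ 2 = -1) := by
    intro hHt
    have hHc : Nat.card H = Nat.card PSL := by rw [hHt, Subgroup.card_top]
    have hev : 2 ∣ Nat.card PSL := by
      obtain ⟨u', -⟩ := exists_torus p (F := F) (n := (Fintype.card F + 1) / 2) (by
        have := Fintype.one_lt_card (α := F); omega) (Or.inl (by rw [hg2]))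
      have h8 : 4 ∣ Fintype.card F ^ 2 - 1 := by
        obtain ⟨j, hj⟩ : ∃ j, Fintype.card F = 2 * j + 1 := ⟨Fintype.card F / 2, by omega⟩
        rw [hj, show (2 * j + 1) ^ 2 - 1 = 4 * (j * (j + 1)) by ring_nf; omega]
        exact dvd_mul_right _ _
      have := h8.mul_left (Fintype.card F)
      rw [← hcard] at this
      omega
    have hGc := hfull (hHc ▸ hev)
    rw [hHc, hcard, ← CfsgLib.SLCard.card_SL_two] at hGc
    refine ⟨Subgroup.eq_top_of_le_card G hGc.ge, fun ⟨h9, hl⟩ => ?_⟩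
    have := hexc h9 hl
    rw [hGc, CfsgLib.SLCard.card_SL_two, h9] at this
    norm_num at this
  have hprime : lam ∈ (⊥ : Subfield F) → G = ⊤ ∧ ¬ (Fintype.card F = 9 ∧ lam ^ 2 = -1) := fun hb =>
    ⟨(top_of_bot hlam hgen hb).1, fun h => (top_of_bot hlam hgen hb).2 h.1⟩
  have t1 : (lo (1 : F) * up lam).1.trace = 2 + lam := by
    simp [Matrix.trace_fin_two, mul_entry]; ring
  have t2 : ((lo (1 : F))⁻¹ * up lam).1.trace = 2 - lam := by
    obtain ⟨i00, i01, i10, i11⟩ := inv_entries (lo (1 : F))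
    simp [Matrix.trace_fin_two, mul_entry, i00, i01, i10, i11]; ring
  -- small images
  have hsmall : ∀ {B : Type} [Group B] (e : H ≃* B),
      (∀ a b : B, a ^ p = 1 → b ^ p = 1 → (a * b) ^ 2 = 1 ∨ (a * b) ^ 3 = 1 ∨ (a * b) ^ 5 = 1) →
      ∀ g : SL, (g = lo 1 * up lam ∨ g = (lo 1)⁻¹ * up lam) →
      g.1.trace = 0 ∨ g.1.trace = 1 ∨ g.1.trace = -1 ∨ g.1.trace = 2 ∨ g.1.trace = -2 ∨
        (5 ∣ Nat.card B ∧ (g.1.trace ^ 2 + g.1.trace - 1) * (g.1.trace ^ 2 - g.1.trace - 1) = 0) := by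
    intro B _ e hB g hg
    have hu' : (e ⟨_, huH⟩) ^ p = 1 := by
      rw [← map_pow, ← map_one e]; congr 1
      exact Subtype.ext (by simpa using (hu ▸ pow_orderOf_eq_one (mk (lo (1 : F))) : mk (lo (1:F)) ^ p = 1))
    have hv' : (e ⟨_, hvH⟩) ^ p = 1 := by
      rw [← map_pow, ← map_one e]; congr 1
      exact Subtype.ext (by simpa using (hv ▸ pow_orderOf_eq_one (mk (up lam)) : mk (up lam) ^ p = 1))
    obtain ⟨a, ha, hga⟩ : ∃ a : B, a ^ p = 1 ∧ ∀ k : ℕ, (a * e ⟨_, hvH⟩) ^ k = 1 → mk g ^ k = 1 := by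
      rcases hg with rfl | rfl
      · refine ⟨_, hu', fun k hk => ?_⟩
        rw [← map_mul, ← map_pow] at hk
        have := congrArg Subtype.val (e.injective (hk.trans (map_one e).symm))
        simpa using this
      · refine ⟨(e ⟨_, huH⟩)⁻¹, by rw [inv_pow, hu', inv_one], fun k hk => ?_⟩
        rw [← map_inv, ← map_mul, ← map_pow] at hk
        have := congrArg Subtype.val (e.injective (hk.trans (map_one e).symm))
        simpa using this
    rcases hB a _ ha hv' with h | h | h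
    · rcases trace_of_order (Or.inl rfl) (hga 2 h) with t | t | t | t | t | ⟨h5, -⟩ <;>
        first | simp [t] | omega
    · rcases trace_of_order (Or.inr (Or.inl rfl)) (hga 3 h) with t | t | t | t | t | ⟨h5, -⟩ <;>
        first | simp [t] | omega
    · by_cases h1 : a * e ⟨_, hvH⟩ = 1
      · have h1' : mk g ^ 2 = 1 := hga 2 (by rw [h1, one_pow])
        rcases trace_of_order (Or.inl rfl) h1' with t | t | t | t | t | ⟨h5, -⟩ <;>
          first | simp [t] | omega
      · have h5 : 5 ∣ Nat.card B :=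
          haveI : Fact (Nat.Prime 5) := ⟨by norm_num⟩
          orderOf_eq_prime h h1 ▸ orderOf_dvd_natCard _
        rcases trace_of_order (Or.inr (Or.inr rfl)) (hga 5 h) with t | t | t | t | t | ⟨-, t⟩ <;>
          simp [t, h5]
  have two_mem : (2 : F) ∈ (⊥ : Subfield F) := ofNat_mem _ 2
  have one_mem' : (1 : F) ∈ (⊥ : Subfield F) := one_mem _
  have hint1 : ∀ g : SL, g = lo 1 * up lam →
      (g.1.trace = 0 ∨ g.1.trace = 1 ∨ g.1.trace = -1 ∨ g.1.trace = 2 ∨ g.1.trace = -2) →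
      lam ∈ (⊥ : Subfield F) := by
    rintro g rfl h
    rw [t1] at h
    rw [show lam = (2 + lam) - 2 by ring]
    refine sub_mem ?_ two_mem
    rcases h with e | e | e | e | e <;> rw [e] <;>
      first | exact zero_mem _ | exact one_mem' | exact neg_mem one_mem' | exact two_mem | exact neg_mem two_mem
  have hint2 : ∀ g : SL, g = (lo 1)⁻¹ * up lam →
      (g.1.trace = 0 ∨ g.1.trace = 1 ∨ g.1.trace = -1 ∨ g.1.trace = 2 ∨ g.1.trace = -2) →
      lam ∈ (⊥ : Subfield F) := by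
    rintro g rfl h
    rw [t2] at h
    rw [show lam = 2 - (2 - lam) by ring]
    refine sub_mem two_mem ?_
    rcases h with e | e | e | e | e <;> rw [e] <;>
      first | exact zero_mem _ | exact one_mem' | exact neg_mem one_mem' | exact two_mem | exact neg_mem two_mem
  have hsmall34 : ∀ {B : Type} [Group B] [Finite B] (_ : H ≃* B), ¬ 5 ∣ Nat.card B →
      (∀ a b : B, a ^ p = 1 → b ^ p = 1 → (a * b) ^ 2 = 1 ∨ (a * b) ^ 3 = 1 ∨ (a * b) ^ 5 = 1) →
      lam ∈ (⊥ : Subfield F) := by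
    intro B _ _ e h5 hB
    rcases hsmall e hB _ (Or.inl rfl) with t | t | t | t | t | ⟨h, -⟩
    all_goals first | exact absurd h h5 | exact hint1 _ rfl (by simp only [t, true_or, or_true])
  rcases kind (psl (F := F) p) H with h | ⟨x, hx, hxH, h⟩ | ⟨x, hx, hxH, h⟩ | h | h | h |
    ⟨u', hu'H, hu', h⟩ | ⟨u', v', hu'H, hu', hv'H, hv', huv', Q, hQ, h3, hh, hB, -⟩
  · exfalso
    exact hne1 (Subgroup.mem_bot.mp (h ▸ huH))
  · exfalso
    exact ((psl (F := F) p).T_eq x _ hx (h huH) hne1).1.2 (dvd_of_eq hu.symm)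
  · exfalso
    obtain ⟨e⟩ := h
    rw [Nat.card_congr e.toEquiv, DihedralGroup.nat_card] at hpH
    rcases hpp.dvd_mul.mp hpH with h | h
    · exact hp2 ((Nat.prime_dvd_prime_iff_eq hpp Nat.prime_two).mp h)
    · exact not_dvd_tor (psl p) hx h
  · -- A4
    obtain ⟨e⟩ := h
    have hc : Nat.card (alternatingGroup (Fin 4)) = 12 := by
      rw [Nat.card_eq_fintype_card]; rfl
    rw [Nat.card_congr e.toEquiv, hc] at hpH
    have hp3 : p = 3 := by
      rcases hpp.dvd_mul.mp (show p ∣ 2 ^ 2 * 3 from hpH) with h | h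
      · exact absurd ((Nat.prime_dvd_prime_iff_eq hpp Nat.prime_two).mp (hpp.dvd_of_dvd_pow h)) hp2
      · exact (Nat.prime_dvd_prime_iff_eq hpp Nat.prime_three).mp h
    refine Or.inl (hprime (hsmall34 e (by rw [hc]; norm_num) fun a b ha hb => ?_))
    rw [hp3] at ha hb
    rcases a4_three a b ha hb with h | h
    · exact Or.inl h
    · exact Or.inr (Or.inl h)
  · -- S4
    obtain ⟨e⟩ := h
    have hc : Nat.card (Equiv.Perm (Fin 4)) = 24 := by
      rw [Nat.card_eq_fintype_card, Fintype.card_perm, Fintype.card_fin]; rfl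
    rw [Nat.card_congr e.toEquiv, hc] at hpH
    have hp3 : p = 3 := by
      rcases hpp.dvd_mul.mp (show p ∣ 2 ^ 3 * 3 from hpH) with h | h
      · exact absurd ((Nat.prime_dvd_prime_iff_eq hpp Nat.prime_two).mp (hpp.dvd_of_dvd_pow h)) hp2
      · exact (Nat.prime_dvd_prime_iff_eq hpp Nat.prime_three).mp h
    refine Or.inl (hprime (hsmall34 e (by rw [hc]; norm_num) fun a b ha hb => ?_))
    rw [hp3] at ha hb
    rcases s4_three a b ha hb with h | h
    · exact Or.inl h
    · exact Or.inr (Or.inl h)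
  · -- A5
    obtain ⟨e⟩ := h
    have hc : Nat.card (alternatingGroup (Fin 5)) = 60 := by
      rw [Nat.card_eq_fintype_card]; rfl
    rw [Nat.card_congr e.toEquiv, hc] at hpH
    have hp35 : p = 3 ∨ p = 5 := by
      rcases hpp.dvd_mul.mp (show p ∣ 2 ^ 2 * 15 from hpH) with h | h
      · exact absurd ((Nat.prime_dvd_prime_iff_eq hpp Nat.prime_two).mp (hpp.dvd_of_dvd_pow h)) hp2
      · rcases hpp.dvd_mul.mp (show p ∣ 3 * 5 from h) with h | h
        · exact Or.inl ((Nat.prime_dvd_prime_iff_eq hpp Nat.prime_three).mp h)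
        · exact Or.inr ((Nat.prime_dvd_prime_iff_eq hpp (by norm_num)).mp h)
    have hB : ∀ a b : alternatingGroup (Fin 5), a ^ p = 1 → b ^ p = 1 →
        (a * b) ^ 2 = 1 ∨ (a * b) ^ 3 = 1 ∨ (a * b) ^ 5 = 1 := by
      intro a b ha hb
      rcases hp35 with h | h <;> rw [h] at ha hb
      · exact a5_three a b ha hb
      · exact a5_five a b ha hb
    rcases hsmall e hB _ (Or.inl rfl) with t | t | t | t | t | ⟨-, t⟩
    iterate 5 exact Or.inl (hprime (hint1 _ rfl (by simp only [t, true_or, or_true])))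
    rcases hsmall e hB _ (Or.inr rfl) with s | s | s | s | s | ⟨-, s⟩
    iterate 5 exact Or.inl (hprime (hint2 _ rfl (by simp only [s, true_or, or_true])))
    rw [t1] at t
    rw [t2] at s
    rcases hp35 with rfl | rfl
    · have h3 : (3 : F) = 0 := by exact_mod_cast CharP.cast_eq_zero F 3
      have hl : lam ^ 2 = -1 := by
        rcases mul_eq_zero.mp t with a | a
        · rcases mul_eq_zero.mp s with b | b
          · exfalso
            have : (2 : F) * lam = 0 := by linear_combination 2 * a - 2 * b - 6 * lam * h3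
            exact hlam ((mul_eq_zero.mp this).resolve_left h2)
          · linear_combination b + lam * h3
        · linear_combination a - lam * h3
      refine Or.inr ⟨card_nine hl hgen, hl, ?_⟩
      rw [hfull (by rw [Nat.card_congr e.toEquiv, hc]; norm_num), Nat.card_congr e.toEquiv, hc]
    · -- characteristic `5`: the traces are `±2`
      have h5 : (5 : F) = 0 := by exact_mod_cast CharP.cast_eq_zero F 5
      have : ((2 + lam) ^ 2 - 4) * ((2 + lam) ^ 2 - 4) = 0 := by
        linear_combination t + (3 - (2 + lam) ^ 2) * h5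
      refine Or.inl (hprime (hint1 _ rfl ?_))
      rw [t1]
      have h4 := sub_eq_zero.mp (mul_self_eq_zero.mp this)
      have : (2 + lam - 2) * (2 + lam + 2) = 0 := by linear_combination h4
      rcases mul_eq_zero.mp this with h | h
      · exact Or.inr (Or.inr (Or.inr (Or.inl (sub_eq_zero.mp h))))
      · exact Or.inr (Or.inr (Or.inr (Or.inr (eq_neg_of_add_eq_zero_left h))))
  · exfalso
    have hmem : ∀ x : PSL, orderOf x = p → x ∈ bor u' → x ∈ cent u' := by
      intro x hx hxb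
      set N := (cent u').subgroupOf (bor u') with hN
      haveI : N.Normal :=
        (Subgroup.normal_subgroupOf_iff_le_normalizer (cent_le_bor (psl p) u')).mpr le_rfl
      have hc := N.card_mul_index
      rw [Nat.card_congr (Subgroup.subgroupOfEquivOfLe (cent_le_bor (psl p) u')).toEquiv,
        card_cent p hu'] at hc
      have hb := card_bor p hu'
      rw [hg2, ← hc, show 2 * (Fintype.card F * N.index) = Fintype.card F * (2 * N.index) by ring] at hb
      have hidx : 2 * N.index = Fintype.card F - 1 :=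
        Nat.eq_of_mul_eq_mul_left (Fintype.card_pos) hb
      have hndvd : ¬ p ∣ N.index := fun hd => by
        obtain ⟨n, -, hn⟩ := FiniteField.card F p
        have h1 : p ∣ Fintype.card F - 1 := hidx ▸ hd.mul_left 2
        have h2 : p ∣ Fintype.card F := hn ▸ dvd_pow_self p n.ne_zero
        have := Nat.dvd_sub h2 h1
        rw [show Fintype.card F - (Fintype.card F - 1) = 1 by
          have := Fintype.card_pos (α := F); omega] at this
        exact hpp.ne_one (Nat.dvd_one.mp this)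
      have h1 : ((⟨x, hxb⟩ : bor u') : bor u' ⧸ N) = 1 := by
        have hd : orderOf ((⟨x, hxb⟩ : bor u') : bor u' ⧸ N) ∣ p := by
          rw [← hx, ← Subgroup.orderOf_mk x hxb]
          exact orderOf_map_dvd (QuotientGroup.mk' N) _
        rcases (Nat.dvd_prime hpp).mp hd with e | e
        · exact orderOf_eq_one_iff.mp e
        · exact absurd (e ▸ (orderOf_dvd_natCard _ : _ ∣ Nat.card (bor u' ⧸ N))) (by
            rwa [← Subgroup.index_eq_card])
      exact Subgroup.mem_subgroupOf.mp ((QuotientGroup.eq_one_iff _).mp h1)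
    exact huv ((psl (F := F) p).u_cen u' _ _ hu' (mem_cent.mp (hmem _ hv (h hvH)))
      (mem_cent.mp (hmem _ hu (h huH)))).1
  · -- field case
    obtain ⟨S, hSQ, hS⟩ := field_trace p hu'H hu' hv'H hv' huv' Q hQ hh
    have h8 : (8 : F) * lam ∈ S := by
      have a := hS _ (show mk (lo 1 * up lam) ∈ H from Subgroup.mem_map_of_mem _ (G.mul_mem hloG hupG))
      have b := hS _ (show mk ((lo 1)⁻¹ * up lam) ∈ H from
        Subgroup.mem_map_of_mem _ (G.mul_mem (G.inv_mem hloG) hupG))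
      rw [t1] at a
      rw [t2] at b
      rw [show (8 : F) * lam = (2 + lam) ^ 2 - (2 - lam) ^ 2 by ring]
      exact S.sub_mem a b
    have hl : lam ∈ S := by
      have h8' : (8 : F) ≠ 0 := by
        rw [show (8 : F) = 2 * 2 * 2 by norm_num]; exact mul_ne_zero (mul_ne_zero h2 h2) h2
      have := S.div_mem h8 (ofNat_mem S 8 : (8 : F) ∈ S)
      rwa [mul_div_cancel_left₀ _ h8'] at this
    have hStop : S = ⊤ := top_le_iff.mp (hgen.ge.trans (Subfield.closure_le.mpr (Set.singleton_subset_iff.mpr hl)))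
    have hQq : Q = Fintype.card F := by
      rw [← hSQ, hStop, Nat.card_eq_fintype_card.symm.trans rfl]
      exact Nat.card_congr (Equiv.subtypeUnivEquiv fun x => Subfield.mem_top x)
    refine Or.inl (hcase (Subgroup.eq_top_of_le_card H ?_))
    have hsq : Fintype.card F * (Fintype.card F ^ 2 - 1) =
        (Fintype.card F + 1) * (Fintype.card F * (Fintype.card F - 1)) := by
      rw [← one_pow 2, Nat.sq_sub_sq, one_pow]; ring
    rw [hsq] at hcard
    rw [hQq] at hB
    rw [hh, hQq]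
    rcases hB with hB | hB
    · rw [← hB] at hcard; nlinarith
    · rw [← hB] at hcard; nlinarith

end


/-- Let F be a finite field of odd characteristic and λ ≠ 0 an element generating F as a field. Then the lower and upper unitriangular matrices with off-diagonal entries 1 and λ generate SL_2(F), unless |F| = 9 and λ² = −1, in which case they generate a subgroup of order 120. -/
theorem result {F : Type*} [Field F] [Fintype F] (h2 : (2 : F) ≠ 0) (lam : F) (hlam : lam ≠ 0) (hgen : Subfield.closure ({lam} : Set F) = ⊤) : (Subgroup.closure {g : Matrix.SpecialLinearGroup (Fin 2) F | (g : Matrix (Fin 2) (Fin 2) F) = !![1, 0; 1, 1] ∨ (g : Matrix (Fin 2) (Fin 2) F) = !![1, lam; 0, 1]} = ⊤ ∧ ¬ (Fintype.card F = 9 ∧ lam ^ 2 = -1)) ∨ (Fintype.card F = 9 ∧ lam ^ 2 = -1 ∧ Nat.card ↥(Subgroup.closure {g : Matrix.SpecialLinearGroup (Fin 2) F | (g : Matrix (Fin 2) (Fin 2) F) = !![1, 0; 1, 1] ∨ (g : Matrix (Fin 2) (Fin 2) F) = !![1, lam; 0, 1]}) = 120) := by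
  have e : {g : Matrix.SpecialLinearGroup (Fin 2) F | (g : Matrix (Fin 2) (Fin 2) F) = !![1, 0; 1, 1] ∨
      (g : Matrix (Fin 2) (Fin 2) F) = !![1, lam; 0, 1]} =
      ({CfsgLib.Dickson.lo 1, CfsgLib.Dickson.up lam} : Set (Matrix.SpecialLinearGroup (Fin 2) F)) := by
    ext g
    simp only [Set.mem_ofPred_eq, Set.mem_insert_iff, Set.mem_singleton_iff]
    exact ⟨fun h => h.imp Subtype.ext Subtype.ext, fun h => h.imp (congrArg Subtype.val) (congrArg Subtype.val)⟩
  rw [e]
  exact main h2 hlam hgen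

end Cfsg.Agent.S0801
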