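import Cfsg.Statements.S5060
import Mathlib
import Cfsg.Agent.Lib.RootSub.GenericPade
import Cfsg.Agent.Lib.Dickson.Basic
import Cfsg.Agent.S0801
-- import your own Cfsg.Agent.* helpers here

set_option autoImplicit false
open Cfsg

namespace Cfsg.Agent.S5060

open CfsgLib.Dickson Matrix

section
variable {k K : Type*} [Field k] [Field K] [Algebra k K]

/-- Scaling of the off-diagonal entries. -/
noncomputable def tauFun (u : K) (hu : u ≠ 0) (g : Matrix.SpecialLinearGroup (Fin 2) K) : Matrix.SpecialLinearGroup (Fin 2) K :=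
  ⟨!![g.1 0 0, g.1 0 1 * u; g.1 1 0 * u⁻¹, g.1 1 1], by
    rw [Matrix.det_fin_two_of]; have := det_eq g; field_simp; linear_combination this⟩

@[simp] theorem tauFun_coe (u : K) (hu : u ≠ 0) (g : Matrix.SpecialLinearGroup (Fin 2) K) :
    (tauFun u hu g).1 = !![g.1 0 0, g.1 0 1 * u; g.1 1 0 * u⁻¹, g.1 1 1] := rfl

/-- Scaling of the off-diagonal entries, as a homomorphism. -/
noncomputable def tau (u : K) (hu : u ≠ 0) : Matrix.SpecialLinearGroup (Fin 2) K →* Matrix.SpecialLinearGroup (Fin 2) K :=
  MonoidHom.mk' (tauFun u hu) fun g h => by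
    apply ext_entries <;> simp [mul_entry] <;> field_simp

@[simp] theorem tau_coe (u : K) (hu : u ≠ 0) (g : Matrix.SpecialLinearGroup (Fin 2) K) :
    (tau u hu g).1 = !![g.1 0 0, g.1 0 1 * u; g.1 1 0 * u⁻¹, g.1 1 1] := rfl

/-- Conjugation by the antidiagonal matrix with entries one. -/
noncomputable def swapFun (g : Matrix.SpecialLinearGroup (Fin 2) K) : Matrix.SpecialLinearGroup (Fin 2) K :=
  ⟨!![g.1 1 1, g.1 1 0; g.1 0 1, g.1 0 0], by
    rw [Matrix.det_fin_two_of]; have := det_eq g; linear_combination this⟩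

@[simp] theorem swapFun_coe (g : Matrix.SpecialLinearGroup (Fin 2) K) :
    (swapFun g).1 = !![g.1 1 1, g.1 1 0; g.1 0 1, g.1 0 0] := rfl

/-- Conjugation by the antidiagonal matrix, as a homomorphism. -/
noncomputable def swapHom : Matrix.SpecialLinearGroup (Fin 2) K →* Matrix.SpecialLinearGroup (Fin 2) K :=
  MonoidHom.mk' swapFun fun g h => by
    apply ext_entries <;> simp [mul_entry] <;> ring

@[simp] theorem swapHom_coe (g : Matrix.SpecialLinearGroup (Fin 2) K) :
    (swapHom g).1 = !![g.1 1 1, g.1 1 0; g.1 0 1, g.1 0 0] := rfl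

/-- Facts shared by both cases. -/
structure Setting (H : Subgroup (Matrix.SpecialLinearGroup (Fin 2) K)) (α : K) : Prop where
  gu : ∀ c : k, up (algebraMap k K c) ∈ H
  gl : ∀ c : k, lo (algebraMap k K c * α) ∈ H
  norm : ∀ (u : k) (hu : algebraMap k K u ≠ 0), ∀ g ∈ H, tau (algebraMap k K u) hu g ∈ H

variable {H : Subgroup (Matrix.SpecialLinearGroup (Fin 2) K)} {α : K}

theorem Setting.smul (h : Setting (k := k) H α) (u : k) {z : K} (hz : up z ∈ H) : up (algebraMap k K u * z) ∈ H := by
  by_cases hu : u = 0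
  · rw [hu, map_zero, zero_mul, up_zero]; exact one_mem _
  · have := h.norm u (by simpa using hu) _ hz
    rw [show tau (algebraMap k K u) (by simpa using hu) (up z) = up (algebraMap k K u * z) by
      apply ext_entries <;> simp [mul_comm]] at this
    exact this

open Polynomial in
theorem Setting.of_pow (h : Setting (k := k) H α) (hpow : ∀ i : ℕ, up (α ^ i) ∈ H) (p : k[X]) : up (aeval α p) ∈ H := by
  induction p using Polynomial.induction_on' with
  | add p q hp hq => rw [map_add, ← up_mul]; exact mul_mem hp hq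
  | monomial i c => rw [aeval_monomial]; exact h.smul c (hpow i)

theorem Setting.finite_case [Finite k] (h : Setting (k := k) H α) (h2 : (2 : k) ≠ 0) (hk3 : Nat.card k ≠ 3)
    (hα : IsAlgebraic k α) (hα0 : α ≠ 0) (i : ℕ) : up (α ^ i) ∈ H := by
  classical
  have := Fintype.ofFinite k
  obtain ⟨d, hd0, hd⟩ : ∃ d : k, d ≠ 0 ∧ (algebraMap k K d * α) ^ 2 ≠ -1 := by
    by_cases h1 : α ^ 2 = -1
    · obtain ⟨d, hd⟩ : ∃ d, d ∉ ({0, 1, -1} : Finset k) := by
        by_contra hall
        push_neg at hall
        have hle := Finset.card_le_card (fun x _ => hall x : (Finset.univ : Finset k) ⊆ {0, 1, -1})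
        have h3 : ({0, 1, -1} : Finset k).card = 3 := by
          have hne : (1 : k) ≠ -1 := fun e => h2 (by linear_combination e)
          rw [Finset.card_insert_of_notMem (by simp), Finset.card_pair hne]
        rw [h3, Finset.card_univ] at hle
        rw [Nat.card_eq_fintype_card] at hk3
        have := Finset.card_le_univ ({0, 1, -1} : Finset k)
        omega
      simp only [Finset.mem_insert, Finset.mem_singleton, not_or] at hd
      refine ⟨d, hd.1, fun e => ?_⟩
      rw [mul_pow, h1, ← map_pow] at e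
      have e' : algebraMap k K (d ^ 2) = algebraMap k K 1 := by rw [map_one]; linear_combination -e
      rcases sq_eq_one_iff.mp ((algebraMap k K).injective e') with e | e
      · exact hd.2.1 e
      · exact hd.2.2 e
    · exact ⟨1, one_ne_zero, by simpa using h1⟩
  set lam := algebraMap k K d * α with hlam
  let F' := Subfield.closure ({lam} : Set K)
  have hmem : lam ∈ F' := Subfield.subset_closure rfl
  haveI : FiniteDimensional k (IntermediateField.adjoin k ({α} : Set K)) :=
    IntermediateField.adjoin.finiteDimensional hα.isIntegral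
  haveI : Finite (IntermediateField.adjoin k ({α} : Set K)) := Module.finite_of_finite k
  have hle : F' ≤ (IntermediateField.adjoin k ({α} : Set K)).toSubfield := Subfield.closure_le.mpr (by
    rintro x rfl
    exact mul_mem (IntermediateField.algebraMap_mem _ d) (IntermediateField.mem_adjoin_simple_self k α))
  haveI : Finite F' := Finite.of_injective (fun x => (⟨x.1, hle x.2⟩ : IntermediateField.adjoin k ({α} : Set K)))
    (fun x y e => Subtype.ext (congrArg Subtype.val e :))
  haveI := Fintype.ofFinite F'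
  have h2K : (2 : K) ≠ 0 := fun e => h2 ((algebraMap k K).injective (by rw [map_ofNat, map_zero]; exact e))
  have hgen : Subfield.closure ({(⟨lam, hmem⟩ : F')} : Set F') = ⊤ := by
    rw [eq_top_iff]
    rintro ⟨x, hx⟩ -
    have e : (Subfield.closure ({(⟨lam, hmem⟩ : F')} : Set F')).map F'.subtype = F' := by
      rw [RingHom.map_field_closure]; simp [F']
    have hx' : x ∈ (Subfield.closure ({(⟨lam, hmem⟩ : F')} : Set F')).map F'.subtype := by rwa [e]
    obtain ⟨y, hy, hyx⟩ := Subfield.mem_map.mp hx'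
    rwa [show (⟨x, hx⟩ : F') = y from Subtype.ext hyx.symm]
  have hlam0 : lam ≠ 0 := mul_ne_zero (by simpa using hd0) hα0
  rcases Cfsg.Agent.S0801.result (F := F') (fun e => h2K (congrArg (fun z : F' => (z : K)) e)) ⟨lam, hmem⟩
    (fun e => hlam0 (congrArg (fun z : F' => (z : K)) e)) hgen with ⟨htop, -⟩ | ⟨-, hbad, -⟩
  swap
  · exact absurd (congrArg (fun z : F' => (z : K)) hbad) (by simpa using hd)
  let φ := swapHom.comp (Matrix.SpecialLinearGroup.map (F'.subtype))
  have hle' : ⊤ ≤ H.comap φ := by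
    rw [← htop, Subgroup.closure_le]
    rintro g (hg | hg)
    · show φ g ∈ H
      rw [show φ g = up (algebraMap k K 1) by apply ext_entries <;> simp [φ, hg]]
      exact h.gu 1
    · show φ g ∈ H
      rw [show φ g = lo lam by apply ext_entries <;> simp [φ, hg]]
      exact h.gl d
  have hp := hle' (Subgroup.mem_top (lo (⟨lam, hmem⟩ ^ i : F')))
  rw [Subgroup.mem_comap, show φ (lo (⟨lam, hmem⟩ ^ i : F')) = up (lam ^ i) by
    apply ext_entries <;> simp [φ]] at hp
  have := h.smul (d⁻¹ ^ i) hp
  rwa [map_pow, map_inv₀, ← mul_pow, hlam, inv_mul_cancel_left₀ (by simpa using hd0)] at this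

open Polynomial CfsgLib.RootSub in
theorem Setting.infinite_case [Infinite k] (h : Setting (k := k) H α) (h2 : (2 : k) ≠ 0)
    (hα : IsAlgebraic k α) (p : k[X]) : up (aeval α p) ∈ H := by
  classical
  set f := minpoly k α with hfdef
  set n := f.natDegree with hn
  have hfm : f.Monic := minpoly.monic hα.isIntegral
  have hXm : (X * f).Monic := monic_X.mul hfm
  have hXn : (X * f).natDegree = n + 1 := natDegree_X_mul hfm.ne_zero
  let P : Bool × ℕ → k[X] := fun q => if q.1 then X * f else f
  let a : Bool × ℕ → ℕ := fun q => if q.1 then q.2 + 1 else q.2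
  let S : Finset (Bool × ℕ) := Finset.univ ×ˢ Finset.range (n + 1)
  have hPS : ∀ q ∈ S, (P q).Monic ∧ a q ≤ (P q).natDegree ∧ (P q).natDegree ≤ n + a q := by
    rintro ⟨b, j⟩ hq
    have : j ≤ n := by
      have := (Finset.mem_product.mp hq).2; rw [Finset.mem_range] at this; omega
    cases b
    · simp only [P, a, Bool.false_eq_true, if_false]; exact ⟨hfm, this, by omega⟩
    · simp only [P, a, if_true]; exact ⟨hXm, by omega, by omega⟩
  obtain ⟨r₀, hr₀, hr₀g⟩ := GenericPade.exists_common S P a n (fun q hq => (hPS q hq).1) (fun q hq => (hPS q hq).2.1)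
    (fun q hq => (hPS q hq).2.2)
  have good : ∀ r : k[X], r.natDegree ≤ n → (∀ q ∈ S, GenericPade.Generic (P q) (a q) r) → ∀ z, up z ∈ H →
      up ((aeval α r) ^ 2 * z) ∈ H := by
    intro r hr hg z hz
    have hmem : ∀ (b : Bool) (j : ℕ), j ≤ n → (b, j) ∈ S := fun b j hj =>
      Finset.mem_product.mpr ⟨Finset.mem_univ _, Finset.mem_range.mpr (by omega)⟩
    have hV := GenericPade.reach α f hfm (minpoly.aeval k α) r hr
      (fun j hj => by simpa [P, a] using hg _ (hmem false j hj)) (fun j hj => by simpa [P, a] using hg _ (hmem true j hj))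
      (fun x y => ∃ g ∈ H, ∃ c : k, c ≠ 0 ∧ algebraMap k K c * g.1 0 0 = x ∧ algebraMap k K c * g.1 1 0 = y)
      (fun c hc => ⟨1, one_mem _, c, hc, by simp, by simp⟩)
      (by rintro x y c ⟨g, hg, c', hc', rfl, rfl⟩
          exact ⟨up (algebraMap k K c) * g, mul_mem (h.gu c) hg, c', hc', by simp [mul_entry]; ring, by simp [mul_entry]⟩)
      (by rintro x y c ⟨g, hg, c', hc', rfl, rfl⟩
          exact ⟨lo (algebraMap k K c * α) * g, mul_mem (h.gl c) hg, c', hc', by simp [mul_entry], by simp [mul_entry]; ring⟩)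
      (by rintro x y u w hu hw ⟨g, hg, c', hc', rfl, rfl⟩
          have huK : algebraMap k K u ≠ 0 := by simpa using hu
          have hwK : algebraMap k K w ≠ 0 := by simpa using hw
          have hne : algebraMap k K (u / w) ≠ 0 := by simpa using div_ne_zero hu hw
          refine ⟨tau _ hne g, h.norm _ hne g hg, u * c', mul_ne_zero hu hc', ?_, ?_⟩
          · simp; ring
          · simp; field_simp)
    obtain ⟨g, hgH, c, hc, e0, e1⟩ := hV
    have hcK : algebraMap k K c ≠ 0 := by simpa using hc
    have hg10 : g.1 1 0 = 0 := (mul_eq_zero.mp e1).resolve_left hcK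
    obtain ⟨c01, c10, c00⟩ := conj_up g z
    have hconj : g * up z * g⁻¹ = up (z * g.1 0 0 ^ 2) := by
      have hd := det_eq (g * up z * g⁻¹)
      rw [c00, c01, c10, hg10] at hd
      refine ext_entries ?_ ?_ ?_ ?_
      · rw [c00, hg10]; simp
      · rw [c01]; simp
      · rw [c10, hg10]; simp
      · simp only [coe_up, Matrix.of_apply, Matrix.cons_val', Matrix.cons_val_one, Matrix.cons_val_fin_one,
          Matrix.cons_val_zero]
        linear_combination hd
    have := h.smul (c ^ 2) (hconj ▸ mul_mem (mul_mem hgH hz) (inv_mem hgH) : up (z * g.1 0 0 ^ 2) ∈ H)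
    rwa [show algebraMap k K (c ^ 2) * (z * g.1 0 0 ^ 2) = (aeval α r) ^ 2 * z by rw [← e0, map_pow]; ring] at this
  have hsq : ∀ e : k[X], e.natDegree ≤ n → ∀ z, up z ∈ H → up ((aeval α e) ^ 2 * z) ∈ H := by
    intro e he z hz
    set Q := ∏ q ∈ S, GenericPade.linePoly (P q) (a q) r₀ e with hQ
    have hQ0 : Q ≠ 0 := Finset.prod_ne_zero_iff.mpr fun q hq h0 => by
      have := congrArg (eval 0) h0
      rw [GenericPade.eval_linePoly, zero_smul, add_zero, eval_zero] at this
      exact (GenericPade.generic_iff (hPS q hq).1 (hPS q hq).2.1 _).mp (hr₀g q hq) this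
    have pick : ∀ R : k[X], R ≠ 0 → ∃ s, R.eval s ≠ 0 := fun R hR =>
      exists_eval_ne_zero_of_natDegree_lt_card R hR ((Cardinal.natCast_lt_aleph0).trans_le (Cardinal.aleph0_le_mk k))
    obtain ⟨s₁, hs₁⟩ := pick Q hQ0
    obtain ⟨s₂, hs₂⟩ := pick (Q * (X - C s₁)) (mul_ne_zero hQ0 (X_sub_C_ne_zero _))
    obtain ⟨s₃, hs₃⟩ := pick (Q * (X - C s₁) * (X - C s₂)) (mul_ne_zero (mul_ne_zero hQ0 (X_sub_C_ne_zero _)) (X_sub_C_ne_zero _))
    simp only [eval_mul, eval_sub, eval_X, eval_C, mul_ne_zero_iff] at hs₂ hs₃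
    have line : ∀ s, Q.eval s ≠ 0 → up ((aeval α r₀ + algebraMap k K s * aeval α e) ^ 2 * z) ∈ H := fun s hs => by
      rw [hQ, eval_prod, Finset.prod_ne_zero_iff] at hs
      have := good (r₀ + s • e) (natDegree_add_le_of_degree_le hr₀ ((natDegree_smul_le _ _).trans he))
        (fun q hq => by rw [GenericPade.generic_iff (hPS q hq).1 (hPS q hq).2.1, ← GenericPade.eval_linePoly]; exact hs q hq)
        z hz
      rwa [map_add, map_smul, Algebra.smul_def] at this
    have d12 : s₁ - s₂ ≠ 0 := fun h => hs₂.2 (by rw [sub_eq_zero.mp h, sub_self])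
    have d13 : s₁ - s₃ ≠ 0 := fun h => hs₃.1.2 (by rw [sub_eq_zero.mp h, sub_self])
    have d23 : s₂ - s₃ ≠ 0 := fun h => hs₃.2 (by rw [sub_eq_zero.mp h, sub_self])
    have m := mul_mem (mul_mem (h.smul ((s₁ - s₂) * (s₁ - s₃))⁻¹ (line s₁ hs₁))
      (h.smul (-((s₁ - s₂) * (s₂ - s₃))⁻¹) (line s₂ hs₂.1))) (h.smul ((s₁ - s₃) * (s₂ - s₃))⁻¹ (line s₃ hs₃.1.1))
    rw [up_mul, up_mul] at m
    convert m using 2
    have D12 : algebraMap k K s₁ - algebraMap k K s₂ ≠ 0 := fun e => d12 ((algebraMap k K).injective (by rw [map_sub, map_zero]; exact e))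
    have D13 : algebraMap k K s₁ - algebraMap k K s₃ ≠ 0 := fun e => d13 ((algebraMap k K).injective (by rw [map_sub, map_zero]; exact e))
    have D23 : algebraMap k K s₂ - algebraMap k K s₃ ≠ 0 := fun e => d23 ((algebraMap k K).injective (by rw [map_sub, map_zero]; exact e))
    simp only [map_mul, map_inv₀, map_neg, map_sub]
    field_simp
    ring
  have hall : ∀ e : k[X], ∀ z, up z ∈ H → up ((aeval α e) ^ 2 * z) ∈ H := fun e z hz => by
    rw [← aeval_modByMonic_eq_self_of_root (q := f) (minpoly.aeval k α)]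
    exact hsq (e %ₘ f) (natDegree_modByMonic_le _ hfm) z hz
  have h1 : up (1 : K) ∈ H := by simpa using h.gu 1
  have m := mul_mem (hall (C 2⁻¹ * (p + 1)) 1 h1) (h.smul (-1) (hall (C 2⁻¹ * (p - 1)) 1 h1))
  rw [up_mul] at m
  convert m using 2
  have h2K : (2 : K) ≠ 0 := fun e => h2 ((algebraMap k K).injective (by rw [map_ofNat, map_zero]; exact e))
  simp only [map_mul, map_add, map_sub, map_one, aeval_C, map_inv₀, map_ofNat, map_neg]
  field_simp
  ring

end

/-- Let k ⊆ K be fields with the characteristic of k not 2 and k not of order 3, and let α ∈ K be a non-zero element algebraic over k. Then the subgroup of SL₂(K) generated by the upper unitriangular matrices with entry c and the lower unitriangular matrices with entry cα, c ranging over k, is exactly the group of matrices of SL₂(K) with all entries in k(α). -/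
theorem result {k K : Type*} [Field k] [Field K] [Algebra k K] (hk2 : ringChar k ≠ 2) (hk3 : Nat.card k ≠ 3)
    (α : K) (hα : IsAlgebraic k α) (hα0 : α ≠ 0) :
    (Subgroup.closure ({g : Matrix.SpecialLinearGroup (Fin 2) K | ∃ c : k, (g : Matrix (Fin 2) (Fin 2) K) = !![1, algebraMap k K c; 0, 1]} ∪
        {g : Matrix.SpecialLinearGroup (Fin 2) K | ∃ c : k, (g : Matrix (Fin 2) (Fin 2) K) = !![1, 0; algebraMap k K c * α, 1]}) :
      Set (Matrix.SpecialLinearGroup (Fin 2) K)) =
    {g : Matrix.SpecialLinearGroup (Fin 2) K | ∀ i j : Fin 2, (g : Matrix (Fin 2) (Fin 2) K) i j ∈ IntermediateField.adjoin k ({α} : Set K)} := by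
  classical
  have h2 : (2 : k) ≠ 0 := Ring.two_ne_zero hk2
  set H := Subgroup.closure ({g : Matrix.SpecialLinearGroup (Fin 2) K | ∃ c : k, (g : Matrix (Fin 2) (Fin 2) K) = !![1, algebraMap k K c; 0, 1]} ∪
          {g : Matrix.SpecialLinearGroup (Fin 2) K | ∃ c : k, (g : Matrix (Fin 2) (Fin 2) K) = !![1, 0; algebraMap k K c * α, 1]}) with hH
  set L := IntermediateField.adjoin k ({α} : Set K) with hL
  have gu : ∀ c : k, up (algebraMap k K c) ∈ H := fun c => Subgroup.subset_closure (Or.inl ⟨c, rfl⟩)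
  have gl : ∀ c : k, lo (algebraMap k K c * α) ∈ H := fun c => Subgroup.subset_closure (Or.inr ⟨c, rfl⟩)
  have hS : Setting (k := k) H α := ⟨gu, gl, fun u hu g hg => by
    have hle : H ≤ H.comap (tau (algebraMap k K u) hu) := by
      rw [hH, Subgroup.closure_le]
      rintro g (⟨c, hc⟩ | ⟨c, hc⟩)
      · rw [SetLike.mem_coe, Subgroup.mem_comap, show tau (algebraMap k K u) hu g = up (algebraMap k K (c * u)) by
          apply ext_entries <;> simp [hc]]
        exact gu _
      · rw [SetLike.mem_coe, Subgroup.mem_comap, show tau (algebraMap k K u) hu g = lo (algebraMap k K (c / u) * α) by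
          apply ext_entries <;> simp [hc] <;> field_simp]
        exact gl _
    exact hle hg⟩
  have hadj : L.toSubalgebra = Algebra.adjoin k ({α} : Set K) :=
    IntermediateField.adjoin_simple_toSubalgebra_of_isAlgebraic hα
  have hup : ∀ z ∈ L, up z ∈ H := by
    intro z hz
    have hz' : z ∈ L.toSubalgebra := hz
    rw [hadj, Algebra.adjoin_singleton_eq_range_aeval] at hz'
    obtain ⟨p, rfl⟩ := hz'
    rcases finite_or_infinite k with hf | hi
    · exact hS.of_pow (hS.finite_case h2 hk3 hα hα0) p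
    · exact hS.infinite_case h2 hα p
  have hαL : α ∈ L := IntermediateField.mem_adjoin_simple_self k α
  set w := up (-α⁻¹) * lo α * up (-α⁻¹) with hw
  have hwH : w ∈ H := by
    have hl : lo α ∈ H := by simpa using gl 1
    exact mul_mem (mul_mem (hup _ (neg_mem (inv_mem hαL))) hl) (hup _ (neg_mem (inv_mem hαL)))
  have hlo : ∀ y ∈ L, lo y ∈ H := by
    intro y hy
    obtain ⟨c01, c10, c00⟩ := conj_up w (-y / α ^ 2)
    have w00 : w.1 0 0 = 0 := by simp [w, mul_entry]; field_simp; ring
    have w10 : w.1 1 0 = α := by simp [w, mul_entry]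
    have : w * up (-y / α ^ 2) * w⁻¹ = lo y := by
      have hd := det_eq (w * up (-y / α ^ 2) * w⁻¹)
      rw [c00, c01, c10, w00, w10] at hd
      refine ext_entries ?_ ?_ ?_ ?_
      · rw [c00, w00]; simp
      · rw [c01, w00]; simp
      · rw [c10, w10]; simp; field_simp
      · simp at hd ⊢
        linear_combination hd
    rw [← this]
    exact mul_mem (mul_mem hwH (hup _ (div_mem (neg_mem hy) (pow_mem hαL 2)))) (inv_mem hwH)
  apply Set.Subset.antisymm
  · let E : Subgroup (Matrix.SpecialLinearGroup (Fin 2) K) :=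
      { carrier := {g | ∀ i j : Fin 2, g.1 i j ∈ L}
        one_mem' := fun i j => by fin_cases i <;> fin_cases j <;> simp [zero_mem, one_mem]
        mul_mem' := fun {a b} ha hb i j => by
          rw [mul_entry]; exact add_mem (mul_mem (ha i 0) (hb 0 j)) (mul_mem (ha i 1) (hb 1 j))
        inv_mem' := fun {a} ha i j => by
          obtain ⟨i00, i01, i10, i11⟩ := inv_entries a
          fin_cases i <;> fin_cases j
          · exact i00 ▸ ha 1 1
          · exact i01 ▸ neg_mem (ha 0 1)
          · exact i10 ▸ neg_mem (ha 1 0)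
          · exact i11 ▸ ha 0 0 }
    show (H : Set (Matrix.SpecialLinearGroup (Fin 2) K)) ⊆ (E : Set _)
    rw [SetLike.coe_subset_coe, hH, Subgroup.closure_le]
    rintro g (⟨c, hc⟩ | ⟨c, hc⟩) i j <;> rw [hc] <;> fin_cases i <;> fin_cases j <;>
      simp [zero_mem, one_mem, IntermediateField.algebraMap_mem, mul_mem, hαL]
  · intro g hg
    have key : ∀ g : Matrix.SpecialLinearGroup (Fin 2) K, (∀ i j : Fin 2, g.1 i j ∈ L) → g.1 1 0 ≠ 0 → g ∈ H := by
      intro g hg hc
      have hd := det_eq g
      have : g = up ((g.1 0 0 - 1) / g.1 1 0) * lo (g.1 1 0) * up ((g.1 1 1 - 1) / g.1 1 0) := by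
        apply ext_entries <;> simp [mul_entry] <;> field_simp
        · ring
        · linear_combination -hd
        · ring
      rw [this]
      exact mul_mem (mul_mem (hup _ (div_mem (sub_mem (hg 0 0) (one_mem L)) (hg 1 0))) (hlo _ (hg 1 0)))
        (hup _ (div_mem (sub_mem (hg 1 1) (one_mem L)) (hg 1 0)))
    by_cases hc : g.1 1 0 = 0
    · have h11 : g.1 1 1 ≠ 0 := fun e => by
        have := det_eq g; rw [hc, e] at this; simp at this
      have h1 : g * lo 1 ∈ H := key _ (fun i j => by
        rw [mul_entry]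
        fin_cases i <;> fin_cases j <;> simp <;>
          first | exact add_mem (hg 0 0) (hg 0 1) | exact add_mem (hg 1 0) (hg 1 1) | exact hg _ _) (by simp [mul_entry, hc, h11])
      simpa using mul_mem h1 (inv_mem (hlo 1 (one_mem L)))
    · exact key g hg hc

end Cfsg.Agent.S5060
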