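import Cfsg.Statements.S5061
import Mathlib
-- import your own Cfsg.Agent.* helpers here

set_option autoImplicit false
open Cfsg

namespace Cfsg.Agent.S5061

universe u v
open Submodule in
/-- The span of the endomorphisms `g - 1`, `g ∈ H`. -/
private noncomputable def spn {k : Type u} [Field k] {M : Type v} [AddCommGroup M] [Module k M]
    (H : Subgroup (LinearMap.GeneralLinearGroup k M)) : Submodule k (Module.End k M) :=
  Submodule.span k ((fun g : LinearMap.GeneralLinearGroup k M => (g : Module.End k M) - 1) '' (H : Set (LinearMap.GeneralLinearGroup k M)))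

variable {k : Type u} [Field k] {M : Type v} [AddCommGroup M] [Module k M]

local notation "GLM" => LinearMap.GeneralLinearGroup k M

private theorem sub_one_mem {H : Subgroup GLM} {g : GLM} (hg : g ∈ H) : (g : Module.End k M) - 1 ∈ spn H :=
  Submodule.subset_span ⟨g, hg, rfl⟩

private theorem spn_mono {H K : Subgroup GLM} (h : H ≤ K) : spn H ≤ spn K :=
  Submodule.span_mono (Set.image_mono h)

private theorem mul_mem_spn {H : Subgroup GLM} : spn H * spn H ≤ spn H := by
  rw [spn, Submodule.span_mul_span, Submodule.span_le]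
  rintro _ ⟨_, ⟨g, hg, rfl⟩, _, ⟨h, hh, rfl⟩, rfl⟩
  have e : ((g : Module.End k M) - 1) * ((h : Module.End k M) - 1) = ((g * h : GLM) : Module.End k M) - 1 - ((g : Module.End k M) - 1) - ((h : Module.End k M) - 1) := by
    rw [Units.val_mul, mul_sub, sub_mul, sub_mul, one_mul, mul_one, one_mul]
    abel
  show ((g : Module.End k M) - 1) * ((h : Module.End k M) - 1) ∈ spn H
  rw [e]
  exact Submodule.sub_mem _ (Submodule.sub_mem _ (sub_one_mem (H.mul_mem hg hh)) (sub_one_mem hg)) (sub_one_mem hh)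

private theorem unip_iff {H : Subgroup GLM} : Cfsg.IsUnipotentOn H ↔ ∃ n, spn H ^ n = ⊥ := by
  constructor
  · rintro ⟨n, hn⟩
    refine ⟨n, ?_⟩
    have key : ∀ j, spn H ^ j ≤ Submodule.span k {f | ∃ l : List GLM, (∀ g ∈ l, g ∈ H) ∧ l.length = j ∧ (l.map fun g : GLM => (g : Module.End k M) - 1).prod = f} := by
      intro j
      induction j with
      | zero =>
        rw [pow_zero, Submodule.one_eq_span, Submodule.span_le]
        rintro _ rfl
        exact Submodule.subset_span ⟨[], by simp, rfl, rfl⟩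
      | succ j ih =>
        rw [pow_succ']
        refine (mul_le_mul_right ih _).trans ?_
        rw [spn, Submodule.span_mul_span, Submodule.span_le]
        rintro _ ⟨_, ⟨g, hg, rfl⟩, _, ⟨l, hl, hlen, rfl⟩, rfl⟩
        refine Submodule.subset_span ⟨g :: l, ?_, by simp [hlen], by simp⟩
        intro x hx
        rcases List.mem_cons.mp hx with rfl | hx
        · exact hg
        · exact hl x hx
    rw [eq_bot_iff]
    refine (key n).trans (Submodule.span_le.mpr ?_)
    rintro f ⟨l, hl, hlen, rfl⟩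
    rw [SetLike.mem_coe, Submodule.mem_bot]
    simpa [List.map_flatMap, ← List.map_eq_flatMap, List.flatMap_singleton', List.flatMap_pure_eq_map, Function.comp_def] using hn l hl hlen
  · rintro ⟨n, hn⟩
    refine ⟨n, fun l hl hlen => ?_⟩
    have key : ∀ l : List GLM, (∀ g ∈ l, g ∈ H) → (l.map fun g : GLM => (g : Module.End k M) - 1).prod ∈ spn H ^ l.length := by
      intro l
      induction l with
      | nil => intro _; rw [List.length_nil, pow_zero, List.map_nil, List.prod_nil]; exact Submodule.one_le.mp le_rfl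
      | cons g l ih =>
        intro h
        rw [List.length_cons, pow_succ', List.map_cons, List.prod_cons]
        exact Submodule.mul_mem_mul (sub_one_mem (h g List.mem_cons_self)) (ih fun x hx => h x (List.mem_cons_of_mem _ hx))
    have h1 := key l hl
    rw [hlen, hn, Submodule.mem_bot] at h1
    simpa [List.map_flatMap, ← List.map_eq_flatMap, List.flatMap_singleton', List.flatMap_pure_eq_map, Function.comp_def] using h1

private theorem pow_le_spn {H : Subgroup GLM} : ∀ {i : ℕ}, 0 < i → spn H ^ i ≤ spn H := by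
  intro i hi
  induction i with
  | zero => omega
  | succ i ih =>
    rcases Nat.eq_zero_or_pos i with rfl | hi'
    · rw [zero_add, pow_one]
    · rw [pow_succ]
      exact (mul_le_mul_left (ih hi') _).trans mul_mem_spn

private theorem conj_pow_mem {H : Subgroup GLM} {g : GLM} (hg : g ∈ H) {i : ℕ} (hi : 0 < i) {x : Module.End k M}
    (hx : x ∈ spn H ^ i) : (g : Module.End k M) * x ∈ spn H ^ i ∧ x * (g : Module.End k M) ∈ spn H ^ i := by
  obtain ⟨j, rfl⟩ : ∃ j, i = j + 1 := ⟨i - 1, by omega⟩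
  have h1 : spn H * spn H ^ (j + 1) ≤ spn H ^ (j + 1) := by
    rw [pow_succ' (spn H) j, ← mul_assoc]
    exact mul_le_mul_left mul_mem_spn _
  have h2 : spn H ^ (j + 1) * spn H ≤ spn H ^ (j + 1) := by
    rw [pow_succ (spn H) j, mul_assoc]
    exact mul_le_mul_right mul_mem_spn _
  constructor
  · rw [show (g : Module.End k M) * x = ((g : Module.End k M) - 1) * x + x by rw [sub_mul, one_mul, sub_add_cancel]]
    exact Submodule.add_mem _ (h1 (Submodule.mul_mem_mul (sub_one_mem hg) hx)) hx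
  · rw [show x * (g : Module.End k M) = x * ((g : Module.End k M) - 1) + x by rw [mul_sub, mul_one, sub_add_cancel]]
    exact Submodule.add_mem _ (h2 (Submodule.mul_mem_mul hx (sub_one_mem hg))) hx

/-- The filtration subgroups of a unipotent group. -/
private noncomputable def fil (H : Subgroup GLM) (i : ℕ) (hi : 0 < i) : Subgroup GLM where
  carrier := {g | g ∈ H ∧ (g : Module.End k M) - 1 ∈ spn H ^ i}
  one_mem' := ⟨H.one_mem, by rw [Units.val_one, sub_self]; exact Submodule.zero_mem _⟩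
  mul_mem' := by
    rintro g h ⟨hg, hg'⟩ ⟨hh, hh'⟩
    refine ⟨H.mul_mem hg hh, ?_⟩
    rw [show ((g * h : GLM) : Module.End k M) - 1 = (g : Module.End k M) * ((h : Module.End k M) - 1) + ((g : Module.End k M) - 1) by
      rw [Units.val_mul, mul_sub, mul_one]; abel]
    exact Submodule.add_mem _ (conj_pow_mem hg hi hh').1 hg'
  inv_mem' := by
    rintro g ⟨hg, hg'⟩
    refine ⟨H.inv_mem hg, ?_⟩
    rw [show ((g⁻¹ : GLM) : Module.End k M) - 1 = -(((g⁻¹ : GLM) : Module.End k M) * ((g : Module.End k M) - 1)) by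
      rw [mul_sub, ← Units.val_mul, inv_mul_cancel, Units.val_one, mul_one]; abel]
    exact Submodule.neg_mem _ (conj_pow_mem (H.inv_mem hg) hi hg').1

private theorem commutator_fil {H : Subgroup GLM} {i : ℕ} (hi : 0 < i) {g h : GLM} (hg : g ∈ fil H i hi) (hh : h ∈ H) :
    g * h * g⁻¹ * h⁻¹ ∈ fil H (i + 1) (Nat.succ_pos i) := by
  have hH : g * h * g⁻¹ * h⁻¹ ∈ H := H.mul_mem (H.mul_mem (H.mul_mem hg.1 hh) (H.inv_mem hg.1)) (H.inv_mem hh)
  refine ⟨hH, ?_⟩
  have e1 : ((g * h * g⁻¹ * h⁻¹ : GLM) : Module.End k M) - 1 =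
      ((((g : Module.End k M) - 1) * ((h : Module.End k M) - 1)) - (((h : Module.End k M) - 1) * ((g : Module.End k M) - 1))) * ((g⁻¹ * h⁻¹ : GLM) : Module.End k M) := by
    rw [show (((g : Module.End k M) - 1) * ((h : Module.End k M) - 1)) - (((h : Module.End k M) - 1) * ((g : Module.End k M) - 1)) = ((g * h : GLM) : Module.End k M) - ((h * g : GLM) : Module.End k M) by
      rw [Units.val_mul, Units.val_mul, mul_sub, sub_mul, sub_mul, mul_sub, sub_mul, sub_mul, one_mul, mul_one, one_mul, one_mul, mul_one]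
      abel, sub_mul, ← Units.val_mul, ← Units.val_mul, show h * g * (g⁻¹ * h⁻¹) = 1 by group, show g * h * (g⁻¹ * h⁻¹) = g * h * g⁻¹ * h⁻¹ by group, Units.val_one]
  rw [e1]
  refine (conj_pow_mem (H.mul_mem (H.inv_mem hg.1) (H.inv_mem hh)) (Nat.succ_pos i) (Submodule.sub_mem _ ?_ ?_)).2
  · rw [pow_succ]; exact Submodule.mul_mem_mul hg.2 (sub_one_mem hh)
  · rw [pow_succ']; exact Submodule.mul_mem_mul (sub_one_mem hh) hg.2

/-- A unipotent group normalising a unipotent group generates a unipotent group with it. -/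
private theorem unip_sup {H U : Subgroup GLM} (hH : Cfsg.IsUnipotentOn H) (hU : Cfsg.IsUnipotentOn U)
    (hn : U ≤ Subgroup.normalizer (H : Set GLM)) : Cfsg.IsUnipotentOn (H ⊔ U) := by
  obtain ⟨a, ha⟩ := unip_iff.mp hH
  obtain ⟨b, hb⟩ := unip_iff.mp hU
  set P := spn U with hP
  set Q := spn H with hQ
  set R : Submodule k (Module.End k M) := 1 + P with hR
  have hPQ : P * Q ≤ Q * R := by
    rw [hP, hQ, spn, spn, Submodule.span_mul_span, Submodule.span_le]
    rintro _ ⟨_, ⟨u, hu, rfl⟩, _, ⟨x, hx, rfl⟩, rfl⟩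
    have hxu : u * x * u⁻¹ ∈ H := (Subgroup.mem_normalizer_iff.mp (hn hu) x).mp hx
    have e : ((u : Module.End k M) - 1) * ((x : Module.End k M) - 1) =
        (((u * x * u⁻¹ : GLM) : Module.End k M) - 1) * (1 + ((u : Module.End k M) - 1)) - ((x : Module.End k M) - 1) * 1 := by
      rw [add_sub_cancel, sub_mul (((u * x * u⁻¹ : GLM) : Module.End k M)), ← Units.val_mul, inv_mul_cancel_right, Units.val_mul, one_mul, sub_mul, one_mul, mul_sub, mul_one, mul_one]
    show ((u : Module.End k M) - 1) * ((x : Module.End k M) - 1) ∈ spn H * R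
    rw [e]
    refine Submodule.sub_mem _ (Submodule.mul_mem_mul (sub_one_mem hxu) ?_) (Submodule.mul_mem_mul (sub_one_mem hx) ?_)
    · rw [hR, Submodule.add_eq_sup]
      exact Submodule.add_mem_sup (Submodule.one_le.mp le_rfl) (sub_one_mem hu)
    · rw [hR, Submodule.add_eq_sup]
      exact Submodule.mem_sup_left (Submodule.one_le.mp le_rfl)
  have hR1 : (1 : Submodule k (Module.End k M)) ≤ R := by rw [hR, Submodule.add_eq_sup]; exact le_sup_left
  have hPR : P ≤ R := by rw [hR, Submodule.add_eq_sup]; exact le_sup_right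
  have hQR : Q ≤ Q * R := (mul_one Q).ge.trans (mul_le_mul_right hR1 _)
  have hRR : R * R ≤ R := by
    rw [hR, Submodule.add_eq_sup, Submodule.sup_mul, Submodule.mul_sup, Submodule.mul_sup, one_mul, one_mul, mul_one]
    exact sup_le le_rfl (sup_le le_sup_right (mul_mem_spn.trans le_sup_right))
  have hRQ : R * Q ≤ Q * R := by
    rw [hR, add_mul, one_mul, ← hR]
    rw [Submodule.add_eq_sup]
    exact sup_le hQR hPQ
  set J := P + Q * R with hJ
  have hspan : spn (H ⊔ U) ≤ J := by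
    rw [spn, Submodule.span_le]
    rintro _ ⟨g, hg, rfl⟩
    rw [Subgroup.coe_mul_of_right_le_normalizer_left H U hn] at hg
    obtain ⟨h, hh, u, hu, rfl⟩ := hg
    show ((h * u : GLM) : Module.End k M) - 1 ∈ J
    rw [show ((h * u : GLM) : Module.End k M) - 1 = ((u : Module.End k M) - 1) + ((h : Module.End k M) - 1) * (1 + ((u : Module.End k M) - 1)) by
      rw [add_sub_cancel, Units.val_mul, sub_mul, one_mul]; abel, hJ, Submodule.add_eq_sup]
    refine Submodule.add_mem_sup (sub_one_mem hu) (Submodule.mul_mem_mul (sub_one_mem hh) ?_)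
    rw [hR, Submodule.add_eq_sup]
    exact Submodule.add_mem_sup (Submodule.one_le.mp le_rfl) (sub_one_mem hu)
  have hJP : ∀ j, J ^ j ≤ P ^ j + Q * R := by
    intro j
    induction j with
    | zero => rw [pow_zero, pow_zero, Submodule.add_eq_sup]; exact le_sup_left
    | succ j ih =>
      rw [pow_succ]
      refine (mul_le_mul_left ih _).trans ?_
      rw [hJ, pow_succ, Submodule.add_eq_sup, Submodule.add_eq_sup, Submodule.add_eq_sup, Submodule.sup_mul (P ^ j) (Q * R) (P ⊔ Q * R),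
        Submodule.mul_sup (P ^ j) P (Q * R), Submodule.mul_sup (Q * R) P (Q * R)]
      refine sup_le (sup_le le_sup_left ?_) (sup_le ?_ ?_)
      · refine le_trans ?_ le_sup_right
        rcases Nat.eq_zero_or_pos j with rfl | hj
        · rw [pow_zero, one_mul]
        · calc P ^ j * (Q * R) ≤ R * (Q * R) := mul_le_mul_left ((pow_le_spn hj).trans hPR) _
            _ ≤ Q * R := by rw [← mul_assoc]; exact (mul_le_mul_left hRQ _).trans (by rw [mul_assoc]; exact mul_le_mul_right hRR _)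
      · refine le_trans ?_ le_sup_right
        rw [mul_assoc]
        exact mul_le_mul_right ((mul_le_mul_right hPR _).trans hRR) _
      · refine le_trans ?_ le_sup_right
        calc Q * R * (Q * R) ≤ Q * (R * (Q * R)) := by rw [mul_assoc]
          _ ≤ Q * (Q * R) := mul_le_mul_right (by rw [← mul_assoc]; exact (mul_le_mul_left hRQ _).trans (by rw [mul_assoc]; exact mul_le_mul_right hRR _)) _
          _ ≤ Q * R := by rw [← mul_assoc]; exact mul_le_mul_left mul_mem_spn _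
  have hQk : ∀ j, (Q * R) ^ (j + 1) ≤ Q ^ (j + 1) * R := by
    intro j
    induction j with
    | zero => rw [pow_one, pow_one]
    | succ j ih =>
      rw [pow_succ (Q * R)]
      refine (mul_le_mul_left ih _).trans ?_
      rw [pow_succ Q (j + 1), mul_assoc (Q ^ (j + 1)) R (Q * R), mul_assoc (Q ^ (j + 1)) Q R]
      refine mul_le_mul_right ?_ _
      rw [← mul_assoc R Q R]
      exact (mul_le_mul_left hRQ _).trans (by rw [mul_assoc]; exact mul_le_mul_right hRR _)
  refine unip_iff.mpr ⟨b * (a + 1), le_bot_iff.mp ?_⟩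
  refine (pow_le_pow_left' hspan _).trans ?_
  rw [pow_mul]
  refine (pow_le_pow_left' ((hJP b).trans (by rw [hb, ← Submodule.zero_eq_bot, zero_add])) _).trans ((hQk a).trans ?_)
  rw [pow_succ, ha, Submodule.bot_mul, Submodule.bot_mul]

private theorem spn_closure_le {ι : Type*} (f : ι → Subgroup GLM) (X : Set ι) {H : Subgroup GLM}
    (hsub : ∀ i ∈ X, ∀ g ∈ f i, (g : Module.End k M) - 1 ∈ spn H) (hH : Cfsg.IsUnipotentOn H) :
    spn (⨆ i ∈ X, f i) ≤ spn H := by
  obtain ⟨n, hn⟩ := unip_iff.mp hH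
  let K : Subgroup GLM :=
    { carrier := {g | (g : Module.End k M) - 1 ∈ spn H}
      one_mem' := by show _ ∈ spn H; rw [Units.val_one, sub_self]; exact Submodule.zero_mem _
      mul_mem' := by
        intro g h (hg : (g : Module.End k M) - 1 ∈ spn H) (hh : (h : Module.End k M) - 1 ∈ spn H)
        show _ ∈ spn H
        rw [show ((g * h : GLM) : Module.End k M) - 1 = ((g : Module.End k M) - 1) * ((h : Module.End k M) - 1) + ((g : Module.End k M) - 1) + ((h : Module.End k M) - 1) by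
          rw [Units.val_mul, mul_sub, mul_one, sub_mul, one_mul]; abel]
        exact Submodule.add_mem _ (Submodule.add_mem _ (mul_mem_spn (Submodule.mul_mem_mul hg hh)) hg) hh
      inv_mem' := by
        intro g (hg : (g : Module.End k M) - 1 ∈ spn H)
        show _ ∈ spn H
        have hid : ∀ j, ((g⁻¹ : GLM) : Module.End k M) - 1 - ((g⁻¹ : GLM) : Module.End k M) * (-((g : Module.End k M) - 1)) ^ (j + 1) ∈ spn H := by
          intro j
          induction j with
          | zero =>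
            rw [zero_add, pow_one, mul_neg, sub_neg_eq_add, mul_sub, ← Units.val_mul, inv_mul_cancel, Units.val_one, mul_one, sub_add_sub_cancel, sub_self]
            exact Submodule.zero_mem _
          | succ j ih =>
            have hp : (-((g : Module.End k M) - 1)) ^ (j + 1) ∈ spn H :=
              pow_le_spn (Nat.succ_pos j) (Submodule.pow_mem_pow _ (Submodule.neg_mem _ hg) _)
            have e : ((g⁻¹ : GLM) : Module.End k M) - 1 - ((g⁻¹ : GLM) : Module.End k M) * (-((g : Module.End k M) - 1)) ^ (j + 1 + 1) =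
                (((g⁻¹ : GLM) : Module.End k M) - 1 - ((g⁻¹ : GLM) : Module.End k M) * (-((g : Module.End k M) - 1)) ^ (j + 1)) + (-((g : Module.End k M) - 1)) ^ (j + 1) := by
              rw [pow_succ' _ (j + 1), ← mul_assoc, mul_neg, mul_sub, ← Units.val_mul, inv_mul_cancel, Units.val_one, mul_one, neg_sub, sub_mul, one_mul]
              abel
            rw [e]
            exact Submodule.add_mem _ ih hp
        have h1 := hid n
        have h2 : (-((g : Module.End k M) - 1)) ^ (n + 1) = 0 := by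
          have := Submodule.pow_mem_pow _ (Submodule.neg_mem _ hg) (n + 1)
          rwa [pow_succ, hn, Submodule.bot_mul, Submodule.mem_bot] at this
        rwa [h2, mul_zero, sub_zero] at h1 }
  refine (Submodule.span_le).mpr ?_
  rintro _ ⟨g, hg, rfl⟩
  exact (iSup₂_le (fun i hi x hx => hsub i hi x hx) : (⨆ i ∈ X, f i) ≤ K) hg

private theorem unip_of_spn_le {H K : Subgroup GLM} (h : spn K ≤ spn H) (hH : Cfsg.IsUnipotentOn H) : Cfsg.IsUnipotentOn K := by
  obtain ⟨n, hn⟩ := unip_iff.mp hH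
  exact unip_iff.mpr ⟨n, le_bot_iff.mp ((pow_le_pow_left' h n).trans hn.le)⟩

variable [FiniteDimensional k M]

private def IsMax (W X : Set (Subgroup GLM)) : Prop :=
  X ⊆ W ∧ Cfsg.IsUnipotentOn (⨆ A ∈ X, A) ∧ ∀ A ∈ W, (∀ g ∈ A, (g : Module.End k M) - 1 ∈ spn (⨆ A ∈ X, A)) → A ∈ X

private theorem unip_bot : Cfsg.IsUnipotentOn (⊥ : Subgroup GLM) := ⟨1, fun l hl hlen => by
  obtain ⟨g, rfl⟩ := List.length_eq_one_iff.mp hlen
  have := Subgroup.mem_bot.mp (hl g List.mem_cons_self)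
  simp [this]⟩

private theorem exists_max (W Z : Set (Subgroup GLM)) (hZW : Z ⊆ W) (hZ : Cfsg.IsUnipotentOn (⨆ A ∈ Z, A)) :
    ∃ X, IsMax W X ∧ Z ⊆ X ∧ ∀ Y, Y ⊆ W → Cfsg.IsUnipotentOn (⨆ A ∈ Y, A) → X ⊆ Y → Y ⊆ X := by
  classical
  let P : ℕ → Prop := fun d => ∃ X, X ⊆ W ∧ Z ⊆ X ∧ Cfsg.IsUnipotentOn (⨆ A ∈ X, A) ∧ Module.finrank k (spn (⨆ A ∈ X, A)) = d
  have hb : ∀ d, P d → d ≤ Module.finrank k (Module.End k M) := fun d ⟨X, _, _, _, e⟩ => e ▸ Submodule.finrank_le _
  obtain ⟨X₀, hX₀W, hZX₀, hX₀, hd⟩ : P (Nat.findGreatest P (Module.finrank k (Module.End k M))) :=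
    Nat.findGreatest_spec (hb _ ⟨Z, hZW, subset_rfl, hZ, rfl⟩) ⟨Z, hZW, subset_rfl, hZ, rfl⟩
  set S₀ := spn (⨆ A ∈ X₀, A) with hS₀
  set X := {A | A ∈ W ∧ ∀ g ∈ A, (g : Module.End k M) - 1 ∈ S₀} with hX
  have hsub : X₀ ⊆ X := fun A hA => ⟨hX₀W hA, fun g hg => sub_one_mem (Subgroup.mem_iSup_of_mem A (Subgroup.mem_iSup_of_mem hA hg))⟩
  have hle : spn (⨆ A ∈ X, A) ≤ S₀ := spn_closure_le (fun A => A) X (fun A hA g hg => hA.2 g hg) hX₀
  have heq : spn (⨆ A ∈ X, A) = S₀ := le_antisymm hle (spn_mono (biSup_mono fun A hA => hsub hA))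
  refine ⟨X, ⟨fun A hA => hA.1, unip_of_spn_le hle hX₀, fun A hA h => ⟨hA, fun g hg => hle (h g hg)⟩⟩, hZX₀.trans hsub, fun Y hYW hY hXY A hA => ⟨hYW hA, fun g hg => ?_⟩⟩
  have hmono : S₀ ≤ spn (⨆ A ∈ Y, A) := heq ▸ spn_mono (biSup_mono fun A hA => hXY hA)
  have hmax : Module.finrank k (spn (⨆ A ∈ Y, A)) ≤ Module.finrank k S₀ := by
    rw [hS₀, hd]
    exact Nat.le_findGreatest (hb _ ⟨Y, hYW, hZX₀.trans (hsub.trans hXY), hY, rfl⟩) ⟨Y, hYW, hZX₀.trans (hsub.trans hXY), hY, rfl⟩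
  rw [Submodule.eq_of_le_of_finrank_le hmono hmax]
  exact sub_one_mem (Subgroup.mem_iSup_of_mem A (Subgroup.mem_iSup_of_mem hA hg))

omit [FiniteDimensional k M] in
private theorem exists_normalizing {W X D : Set (Subgroup GLM)} (hX : IsMax W X) (hDX : D ⊆ X)
    (hconj : ∀ A ∈ X, ∀ g ∈ (⨆ A ∈ X, A : Subgroup GLM), Cfsg.conjBy A g ∈ W)
    (hcl : ∀ A ∈ X, (∀ g ∈ A, (g : Module.End k M) - 1 ∈ spn (⨆ A ∈ D, A)) → A ∈ D) {A₀ : Subgroup GLM} (hA₀ : A₀ ∈ X) (hA₀D : A₀ ∉ D) :
    ∃ A ∈ X, A ∉ D ∧ A ≤ Subgroup.normalizer ((⨆ A ∈ D, A : Subgroup GLM) : Set GLM) := by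
  classical
  set U := (⨆ A ∈ X, A : Subgroup GLM) with hU
  set H := (⨆ A ∈ D, A : Subgroup GLM) with hH
  have hHU : H ≤ U := biSup_mono fun A hA => hDX hA
  have hmemU : ∀ {A}, A ∈ X → A ≤ U := fun {A} hA => le_iSup₂ (f := fun (A : Subgroup GLM) (_ : A ∈ X) => A) A hA
  obtain ⟨n, hn⟩ := unip_iff.mp hX.2.1
  let L : ℕ → Prop := fun i => ∀ A ∈ X, A ≤ H ⊔ fil U (i + 1) (Nat.succ_pos i) → A ∈ D
  have hLn : L n := fun A hA hle => hcl A hA fun g hg => by
    have hbot : fil U (n + 1) (Nat.succ_pos n) ≤ H := fun x hx => by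
      have h1 := hx.2
      rw [pow_succ, hn, Submodule.bot_mul, Submodule.mem_bot, sub_eq_zero] at h1
      rw [show x = 1 from Units.ext h1]
      exact H.one_mem
    exact sub_one_mem ((hle.trans (sup_le le_rfl hbot)) hg)
  have hnL0 : ¬ L 0 := fun h => hA₀D (h A₀ hA₀ (le_trans (fun g hg => by
    show g ∈ fil U (0 + 1) _
    refine ⟨hmemU hA₀ hg, ?_⟩
    rw [zero_add, pow_one]
    exact sub_one_mem (hmemU hA₀ hg)) le_sup_right))
  obtain ⟨i, hi, hi'⟩ : ∃ i, ¬ L i ∧ L (i + 1) := by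
    by_contra hcon
    push Not at hcon
    exact (Nat.rec hnL0 (fun i ih => hcon i ih) n : ¬ L n) hLn
  simp only [L, not_forall] at hi
  obtain ⟨A, hA, hle, hAD⟩ := hi
  refine ⟨A, hA, hAD, ?_⟩
  set Hi := H ⊔ fil U (i + 1) (Nat.succ_pos i) with hHi
  set Hj := H ⊔ fil U (i + 1 + 1) (Nat.succ_pos _) with hHj
  have hjU : Hj ≤ U := sup_le hHU fun x hx => hx.1
  have hnorm : ∀ g ∈ Hi, ∀ x ∈ Hj, g * x * g⁻¹ ∈ Hj := by
    have base : ∀ g, g ∈ ((H : Set GLM) ∪ (fil U (i + 1) (Nat.succ_pos i) : Set GLM)) → Hj ≤ Hj.comap (MulAut.conj g).toMonoidHom := by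
      intro g hg
      rcases hg with hg | hg
      · intro x hx
        exact Hj.mul_mem (Hj.mul_mem (Subgroup.mem_sup_left hg) hx) (Hj.inv_mem (Subgroup.mem_sup_left hg))
      · refine sup_le (fun x hx => ?_) (fun x hx => ?_)
        · show g * x * g⁻¹ ∈ Hj
          rw [show g * x * g⁻¹ = (g * x * g⁻¹ * x⁻¹) * x by group]
          exact Hj.mul_mem (Subgroup.mem_sup_right (commutator_fil _ hg (hHU hx))) (Subgroup.mem_sup_left hx)
        · show g * x * g⁻¹ ∈ Hj
          refine Subgroup.mem_sup_right ⟨U.mul_mem (U.mul_mem hg.1 hx.1) (U.inv_mem hg.1), ?_⟩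
          rw [show ((g * x * g⁻¹ : GLM) : Module.End k M) - 1 = (g : Module.End k M) * ((x : Module.End k M) - 1) * ((g⁻¹ : GLM) : Module.End k M) by
            rw [mul_sub, sub_mul, mul_one, ← Units.val_mul, ← Units.val_mul, ← Units.val_mul, mul_inv_cancel, Units.val_one]]
          exact (conj_pow_mem (U.inv_mem hg.1) (Nat.succ_pos _) (conj_pow_mem hg.1 (Nat.succ_pos _) hx.2).1).2
    intro g hg
    rw [hHi, Subgroup.sup_eq_closure] at hg
    induction hg using Subgroup.closure_induction'' with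
    | mem z hz => exact fun x hx => base z hz hx
    | inv_mem z hz => exact fun x hx => base z⁻¹ (hz.imp (Subgroup.inv_mem H) (Subgroup.inv_mem _)) hx
    | one => intro x hx; simpa using hx
    | mul a b _ _ ha hb =>
      intro x hx
      rw [show a * b * x * (a * b)⁻¹ = a * (b * x * b⁻¹) * a⁻¹ by group]
      exact ha _ (hb x hx)
  have key : ∀ g ∈ A, H ≤ H.comap (MulAut.conj g).toMonoidHom := by
    intro g hg
    refine iSup₂_le fun B hB x hx => ?_
    have hgU : g ∈ U := hmemU hA hg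
    have hBg : Cfsg.conjBy B g ∈ X := hX.2.2 _ (hconj B (hDX hB) g hgU) fun y hy => by
      obtain ⟨z, hz, rfl⟩ := hy
      exact sub_one_mem (U.mul_mem (U.mul_mem hgU (hmemU (hDX hB) hz)) (U.inv_mem hgU))
    have hBD : Cfsg.conjBy B g ∈ D := hi' _ hBg (by
      rintro _ ⟨z, hz, rfl⟩
      exact hnorm g (hle hg) z (Subgroup.mem_sup_left (le_iSup₂ (f := fun (A : Subgroup GLM) (_ : A ∈ D) => A) B hB hz)))
    exact le_iSup₂ (f := fun (A : Subgroup GLM) (_ : A ∈ D) => A) _ hBD ⟨x, hx, rfl⟩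
  intro g hg
  rw [Subgroup.mem_normalizer_iff]
  refine fun x => ⟨fun hx => key g hg hx, fun hx => ?_⟩
  have h1 := key g⁻¹ (A.inv_mem hg) hx
  have e : g⁻¹ * (g * x * g⁻¹) * g⁻¹⁻¹ = x := by group
  exact e ▸ h1

/-- Let M be a finite-dimensional vector space over a field k, G ≤ GL(M), and 𝒲 a set of subgroups of G, invariant under conjugation by G, such that any two members of 𝒲 generate a subgroup acting unipotently on M (for some n all products of n endomorphisms g − 1 from it vanish). Then the subgroup generated by all members of 𝒲 acts unipotently on M and is normal in G. -/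
theorem result {k : Type*} [Field k] {M : Type*} [AddCommGroup M] [Module k M] [FiniteDimensional k M]
    {G : Subgroup (LinearMap.GeneralLinearGroup k M)} {W : Set (Subgroup (LinearMap.GeneralLinearGroup k M))} (hWG : ∀ A ∈ W, A ≤ G)
    (hWW : ∀ A ∈ W, ∀ B ∈ W, Cfsg.IsUnipotentOn (A ⊔ B)) (hWconj : ∀ A ∈ W, ∀ g ∈ G, Cfsg.conjBy A g ∈ W) :
    Cfsg.IsUnipotentOn (⨆ A ∈ W, A) ∧ ∀ g ∈ G, Cfsg.conjBy (⨆ A ∈ W, A) g = ⨆ A ∈ W, A := by
  classical
  refine ⟨?_, fun g hg => ?_⟩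
  swap
  · have key : ∀ g ∈ G, (⨆ A ∈ W, A : Subgroup (LinearMap.GeneralLinearGroup k M)).map (MulAut.conj g).toMonoidHom ≤ ⨆ A ∈ W, A := fun g hg => by
      simp only [Subgroup.map_iSup]
      exact iSup₂_le fun A hA => le_iSup₂ (f := fun (A : Subgroup (LinearMap.GeneralLinearGroup k M)) (_ : A ∈ W) => A) _ (hWconj A hA g hg)
    refine le_antisymm (key g hg) fun x hx => ?_
    refine ⟨g⁻¹ * x * g, ?_, by simp [mul_assoc]⟩
    have := key g⁻¹ (G.inv_mem hg) ⟨x, hx, rfl⟩
    simpa [mul_assoc] using this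
  have hconj' : ∀ X, X ⊆ W → ∀ A ∈ X, ∀ g ∈ (⨆ A ∈ X, A : Subgroup (LinearMap.GeneralLinearGroup k M)), Cfsg.conjBy A g ∈ W := fun X hX A hA g hg =>
    hWconj A (hX hA) g ((iSup₂_le fun B hB => hWG B (hX hB) : (⨆ A ∈ X, A) ≤ G) hg)
  obtain ⟨X₁, hX₁, -, hX₁max⟩ := exists_max W ∅ (Set.empty_subset _) (by simpa using unip_bot (k := k) (M := M))
  suffices H : ∀ X, IsMax W X → (∀ Y, Y ⊆ W → Cfsg.IsUnipotentOn (⨆ A ∈ Y, A) → X ⊆ Y → Y ⊆ X) → X = X₁ by
    have : X₁ = W := by
      refine Set.Subset.antisymm hX₁.1 fun A hA => ?_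
      obtain ⟨X, hX, hAX, hXm⟩ := exists_max W {A} (Set.singleton_subset_iff.mpr hA) (by simpa using hWW A hA A hA)
      exact H X hX hXm ▸ hAX rfl
    exact this ▸ hX₁.2.1
  by_contra hcon
  push Not at hcon
  obtain ⟨X₂, hX₂, hX₂max, hne₂⟩ := hcon
  let M' : Set (Subgroup (LinearMap.GeneralLinearGroup k M)) → Prop := fun X => IsMax W X ∧ ∀ Y, Y ⊆ W → Cfsg.IsUnipotentOn (⨆ A ∈ Y, A) → X ⊆ Y → Y ⊆ X
  let P : ℕ → Prop := fun d => ∃ X Y, M' X ∧ M' Y ∧ X ≠ Y ∧ Module.finrank k (spn (⨆ A ∈ X ∩ Y, A)) = d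
  have hb : ∀ d, P d → d ≤ Module.finrank k (Module.End k M) := fun d ⟨X, Y, _, _, _, e⟩ => e ▸ Submodule.finrank_le _
  have hP : P _ := ⟨X₂, X₁, ⟨hX₂, hX₂max⟩, ⟨hX₁, hX₁max⟩, hne₂, rfl⟩
  obtain ⟨X, Y, ⟨hX, hXm⟩, ⟨hY, hYm⟩, hne, hd⟩ : P (Nat.findGreatest P (Module.finrank k (Module.End k M))) := Nat.findGreatest_spec (hb _ hP) hP
  set D := X ∩ Y
  have hDu : Cfsg.IsUnipotentOn (⨆ A ∈ D, A) := unip_of_spn_le (spn_mono (biSup_mono fun A hA => hA.1)) hX.2.1
  have hclX : ∀ A ∈ X, (∀ g ∈ A, (g : Module.End k M) - 1 ∈ spn (⨆ A ∈ D, A)) → A ∈ D := fun A hA h =>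
    ⟨hA, hY.2.2 A (hX.1 hA) fun g hg => spn_mono (biSup_mono fun A hA => hA.2) (h g hg)⟩
  have hclY : ∀ A ∈ Y, (∀ g ∈ A, (g : Module.End k M) - 1 ∈ spn (⨆ A ∈ D, A)) → A ∈ D := fun A hA h =>
    ⟨hX.2.2 A (hY.1 hA) fun g hg => spn_mono (biSup_mono fun A hA => hA.1) (h g hg), hA⟩
  obtain ⟨A₀, hA₀, hA₀'⟩ : ∃ A ∈ X, A ∉ Y := by
    by_contra h
    push Not at h
    exact hne (Set.Subset.antisymm h (hXm Y hY.1 hY.2.1 h))
  obtain ⟨B₀, hB₀, hB₀'⟩ : ∃ B ∈ Y, B ∉ X := by
    by_contra h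
    push Not at h
    exact hne (Set.Subset.antisymm (hYm X hX.1 hX.2.1 h) h)
  obtain ⟨A, hA, hAD, hAn⟩ := exists_normalizing hX (Set.inter_subset_left (t := Y)) (hconj' X hX.1) hclX hA₀ fun h => hA₀' h.2
  obtain ⟨B, hB, hBD, hBn⟩ := exists_normalizing hY (Set.inter_subset_right (s := X)) (hconj' Y hY.1) hclY hB₀ fun h => hB₀' h.1
  have hgood : Cfsg.IsUnipotentOn (⨆ C ∈ insert A (insert B D), C) := by
    have e : (⨆ C ∈ insert A (insert B D), C) = (⨆ C ∈ D, C) ⊔ (A ⊔ B) := by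
      rw [iSup_insert, iSup_insert, ← sup_assoc, sup_comm]
    rw [e]
    exact unip_sup hDu (hWW A (hX.1 hA) B (hY.1 hB)) (sup_le hAn hBn)
  obtain ⟨Z, hZ, hsub, hZm⟩ := exists_max W (insert A (insert B D)) (by
    intro C hC
    rcases hC with rfl | rfl | hC
    · exact hX.1 hA
    · exact hY.1 hB
    · exact hX.1 hC.1) hgood
  have hZX : Z ≠ X := fun e => hBD ⟨e ▸ hsub (Set.mem_insert_of_mem _ (Set.mem_insert _ _)), hB⟩
  have hDZ : D ⊆ Z ∩ X := fun C hC => ⟨hsub (Set.mem_insert_of_mem _ (Set.mem_insert_of_mem _ hC)), hC.1⟩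
  have hAZ : A ∈ Z ∩ X := ⟨hsub (Set.mem_insert _ _), hA⟩
  have hlt : spn (⨆ C ∈ D, C) < spn (⨆ C ∈ Z ∩ X, C) := by
    refine lt_of_le_of_ne (spn_mono (biSup_mono fun C hC => hDZ hC)) fun e => hAD (hclX A hA fun g hg => ?_)
    rw [e]
    exact sub_one_mem (le_iSup₂ (f := fun (C : Subgroup (LinearMap.GeneralLinearGroup k M)) (_ : C ∈ Z ∩ X) => C) A hAZ hg)
  have h1 := Submodule.finrank_lt_finrank_of_lt hlt
  have hP' : P (Module.finrank k (spn (⨆ C ∈ Z ∩ X, C))) := ⟨Z, X, ⟨hZ, hZm⟩, ⟨hX, hXm⟩, hZX, rfl⟩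
  have h2 := Nat.le_findGreatest (P := P) (hb _ hP') hP'
  omega

end Cfsg.Agent.S5061
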