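import Cfsg.Statements.S5029
import Mathlib
import Cfsg.Agent.Lib.RootSub.CommCase
-- import your own Cfsg.Agent.* helpers here

set_option autoImplicit false
open Cfsg

namespace Cfsg.Agent.S5029

/-- Let S be a set of abstract root subgroups of G, A ∈ S having a rank one partner in S, and B ∈ S with C = ⁅A, B⁆ ∈ S. Then the members of S contained in AC are the conjugates of A by elements of B together with C, they partition AC, the members of S inside AC partition AC so that A is a line partner of C, and for every non-identity a ∈ A the map b ↦ a⁻¹ b⁻¹ a b is an isomorphism from B onto C. -/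
theorem result {G : Type*} [Group G] {S : Set (Subgroup G)} (hS : Cfsg.IsRootSubgroupSet S)
    {A B : Subgroup G} (hA : ¬ Cfsg.IsIsolatedIn (Cfsg.FAdj S) S A) (hAS : A ∈ S) (hB : B ∈ S) (hC : ⁅A, B⁆ ∈ S) :
    Cfsg.membersIn S (A ⊔ ⁅A, B⁆) = (fun b : G => Cfsg.conjBy A b) '' (B : Set G) ∪ {⁅A, B⁆} ∧
    Cfsg.IsSubgroupPartition (A ⊔ ⁅A, B⁆) (Cfsg.membersIn S (A ⊔ ⁅A, B⁆)) ∧
    A ∈ Cfsg.linePartners S ⁅A, B⁆ ∧
    ∀ a ∈ A, a ≠ 1 → ∃ φ : ↥B ≃* ↥⁅A, B⁆, ∀ b : ↥B, (φ b : G) = a⁻¹ * (b : G)⁻¹ * a * b := by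
  have h := CfsgLib.RootSub.rcc_of_mem hS hAS hB hC
  set C := ⁅A, B⁆ with hCdef
  have hne : A ≠ C := fun e => hS.ne_bot _ hC (CfsgLib.RootSub.comm_eq_bot_of_commute fun x hx y hy =>
    h.2.1 x ((SetLike.ext_iff.mp e x).mp hx) y (Subgroup.mem_sup_right hy))
  obtain ⟨D, hD, hAD⟩ := CfsgLib.RootSub.exists_partner_of_not_isolated hA hAS
  have hni : ∀ b : G, ¬ Cfsg.IsIsolatedIn (Cfsg.FAdj S) S (Cfsg.conjBy A b) :=
    CfsgLib.RootSub.not_isolated_conj hS hA hAS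
  -- no non-identity element of `C` centralizes `D`
  have hcD : ∀ c ∈ C, (∀ d ∈ D, c * d = d * c) → c = 1 := by
    intro c hc hcd
    by_contra hc1
    obtain ⟨⟨a, ha⟩, ha1⟩ := Subgroup.ne_bot_iff_exists_ne_one.mp (hS.ne_bot A hAS)
    have ha' : a ≠ 1 := fun e => ha1 (Subtype.ext e)
    have hz : c ∈ Subgroup.centralizer ((A ⊔ D : Subgroup G) : Set G) := by
      rw [Subgroup.mem_centralizer_iff]
      intro x hx
      have hle : A ⊔ D ≤ Subgroup.centralizer ({c} : Set G) := sup_le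
        (fun y hy => Subgroup.mem_centralizer_singleton_iff.mpr (h.2.1 c hc y (Subgroup.mem_sup_left hy)).symm)
        (fun y hy => Subgroup.mem_centralizer_singleton_iff.mpr (hcd y hy).symm)
      exact Subgroup.mem_centralizer_singleton_iff.mp (hle hx)
    obtain ⟨b, hb, e⟩ := CfsgLib.RootSub.rcc_conj h ha ha' hc
    refine Cfsg.Agent.S5025.result hS hAS ⟨hD, hAD⟩ hz hc1 a ha ha' ⟨fun e' => ?_, Cfsg.conjBy A b, hS.conj_mem A hAS b, ?_⟩
    · exact hne (CfsgLib.RootSub.eq_of_mem_mem hS hA hAS hC ha (by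
        rw [show a = c⁻¹ from eq_inv_of_mul_eq_one_right e']
        exact inv_mem hc) ha')
    · rw [h.2.1 c hc a (Subgroup.mem_sup_left ha), ← e]
      exact CfsgLib.RootSub.conjBy_mem ha
  have hleC : ∀ E ∈ S, E ≤ C → E = C := by
    intro E hE hEC
    obtain ⟨⟨e₀, he₀⟩, he₁⟩ := Subgroup.ne_bot_iff_exists_ne_one.mp (hS.ne_bot E hE)
    have he : e₀ ≠ 1 := fun e' => he₁ (Subtype.ext e')
    rcases hS.pair C hC D hD with h1 | h1 | h1
    · exact absurd (hcD e₀ (hEC he₀) fun d hd => CfsgLib.RootSub.commute_of_comm_eq_bot h1 (hEC he₀) hd) he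
    · exact (CfsgLib.RootSub.eq_of_mem_mem hS (CfsgLib.RootSub.not_isolated hC hD h1) hC hE (hEC he₀) he₀ he).symm
    rcases hS.pair E hE D hD with h2 | h2 | h2
    · exact absurd (hcD e₀ (hEC he₀) fun d hd => CfsgLib.RootSub.commute_of_comm_eq_bot h2 he₀ hd) he
    · exact CfsgLib.RootSub.eq_of_mem_mem hS (CfsgLib.RootSub.not_isolated hE hD h2) hE hC he₀ (hEC he₀) he
    refine le_antisymm hEC fun c hc => ?_
    obtain ⟨⟨d, hd⟩, hd1⟩ := Subgroup.ne_bot_iff_exists_ne_one.mp (hS.ne_bot D hD)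
    have hd' : d ≠ 1 := fun e' => hd1 (Subtype.ext e')
    have hF : ⁅E, D⁆ = ⁅C, D⁆ := by
      refine le_antisymm (Subgroup.commutator_mono hEC le_rfl) ?_
      rw [← h1.2.2.1 e₀ (hEC he₀) he, h2.2.2.1 e₀ he₀ he]
    have h2' := CfsgLib.RootSub.rcc_symm h2
    have h1' := CfsgLib.RootSub.rcc_symm h1
    have hmem : d * c * d⁻¹ * c⁻¹ ∈ ⁅D, E⁆ := by
      rw [Subgroup.commutator_comm D E, hF, Subgroup.commutator_comm C D]
      exact Subgroup.commutator_mem_commutator hd hc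
    obtain ⟨e, heE, hee⟩ := CfsgLib.RootSub.rcc_surj h2' hd hd' hmem
    have hDni := CfsgLib.RootSub.not_isolated hD hAS (Cfsg.RankOnePair_symm hAD)
    have hconj : e * d⁻¹ * e⁻¹ = c * d⁻¹ * c⁻¹ := by
      have h3 : d * (e * d⁻¹ * e⁻¹) = d * (c * d⁻¹ * c⁻¹) := by
        calc d * (e * d⁻¹ * e⁻¹) = d * e * d⁻¹ * e⁻¹ := by group
          _ = d * c * d⁻¹ * c⁻¹ := hee
          _ = d * (c * d⁻¹ * c⁻¹) := by group
      exact mul_left_cancel h3
    have hcomm : d * (e⁻¹ * c) = (e⁻¹ * c) * d := by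
      have h4 : d⁻¹ * (e⁻¹ * c) = (e⁻¹ * c) * d⁻¹ := by
        calc d⁻¹ * (e⁻¹ * c) = e⁻¹ * (e * d⁻¹ * e⁻¹) * c := by group
          _ = (e⁻¹ * c) * d⁻¹ := by rw [hconj]; group
      simpa using ((show Commute d⁻¹ (e⁻¹ * c) from h4).inv_left).eq
    have := CfsgLib.RootSub.rcc_fixed hS hDni hD h1' hd hd' (mul_mem (inv_mem (hEC heE)) hc) hcomm
    rw [inv_mul_eq_one] at this
    exact this ▸ heE
  have hT : ∀ b ∈ B, Cfsg.conjBy A b ≤ A ⊔ C := fun b hb => CfsgLib.RootSub.conjBy_le_sup A B hb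
  have hcover : ∀ x ∈ A ⊔ C, x ∈ C ∨ ∃ b ∈ B, x ∈ Cfsg.conjBy A b := by
    intro x hx
    obtain ⟨a, ha, c, hc, rfl⟩ := CfsgLib.RootSub.exists_mul_of_mem_sup h hx
    by_cases ha1 : a = 1
    · exact Or.inl (by rw [ha1, one_mul]; exact hc)
    · obtain ⟨b, hb, e⟩ := CfsgLib.RootSub.rcc_conj h ha ha1 hc
      exact Or.inr ⟨b, hb, e ▸ CfsgLib.RootSub.conjBy_mem ha⟩
  have hset : Cfsg.membersIn S (A ⊔ C) = (fun b : G => Cfsg.conjBy A b) '' (B : Set G) ∪ {C} := by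
    ext E
    constructor
    · rintro ⟨hE, hEle⟩
      by_cases hEC : E ≤ C
      · exact Or.inr (hleC E hE hEC)
      obtain ⟨x, hxE, hxC⟩ := SetLike.not_le_iff_exists.mp hEC
      obtain ⟨b, hb, hxb⟩ := (hcover x (hEle hxE)).resolve_left hxC
      exact Or.inl ⟨b, hb, CfsgLib.RootSub.eq_of_mem_mem hS (hni b) (hS.conj_mem A hAS b) hE hxb hxE
        (fun e => hxC (e ▸ one_mem C))⟩
    · rintro (⟨b, hb, rfl⟩ | rfl)
      · exact ⟨hS.conj_mem A hAS b, hT b hb⟩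
      · exact ⟨hC, le_sup_right⟩
  have hpart : Cfsg.IsSubgroupPartition (A ⊔ C) (Cfsg.membersIn S (A ⊔ C)) := by
    refine ⟨fun E hE => hE.2, fun x hx hx1 => ?_, fun E hE E' hE' hne' => ?_⟩
    · rcases hcover x hx with hxC | ⟨b, hb, hxb⟩
      · exact ⟨C, ⟨hC, le_sup_right⟩, hxC⟩
      · exact ⟨_, ⟨hS.conj_mem A hAS b, hT b hb⟩, hxb⟩
    · rw [hset] at hE hE'
      rw [Subgroup.eq_bot_iff_forall]
      rintro x ⟨hxE, hxE'⟩
      by_contra hx1
      rcases hE with ⟨b, hb, rfl⟩ | rfl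
      · exact hne' (CfsgLib.RootSub.eq_of_mem_mem hS (hni b) (hS.conj_mem A hAS b) (by
          rcases hE' with ⟨b', -, rfl⟩ | rfl
          · exact hS.conj_mem A hAS b'
          · exact hC) hxE hxE' hx1)
      · rcases hE' with ⟨b', hb', rfl⟩ | rfl
        · exact hne' (CfsgLib.RootSub.eq_of_mem_mem hS (hni b') (hS.conj_mem A hAS b') hC hxE' hxE hx1).symm
        · exact hne' rfl
  refine ⟨hset, hpart, ⟨⟨hAS, hne, CfsgLib.RootSub.comm_eq_bot_of_commute fun c hc a ha =>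
    h.2.1 c hc a (Subgroup.mem_sup_left ha)⟩, by rwa [sup_comm]⟩, fun a ha ha1 => ?_⟩
  have hmem : ∀ b : B, a⁻¹ * (b : G)⁻¹ * a * b ∈ C := fun b => by
    have := Subgroup.commutator_mem_commutator (H₁ := A) (H₂ := B) (inv_mem ha) (inv_mem b.2)
    rw [commutatorElement_def, inv_inv, inv_inv] at this
    exact this
  let f : ↥B →* ↥C := MonoidHom.mk' (fun b => ⟨_, hmem b⟩) fun b b' => Subtype.ext (by
    show a⁻¹ * ((b : G) * b')⁻¹ * a * ((b : G) * b') = (a⁻¹ * (b : G)⁻¹ * a * b) * (a⁻¹ * (b' : G)⁻¹ * a * b')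
    rw [h.2.1 _ (hmem b) _ (mul_mem (mul_mem (mul_mem (Subgroup.mem_sup_left (inv_mem ha)) (Subgroup.mem_sup_right (inv_mem b'.2)))
      (Subgroup.mem_sup_left ha)) (Subgroup.mem_sup_right b'.2))]
    calc a⁻¹ * ((b : G) * b')⁻¹ * a * ((b : G) * b') = a⁻¹ * (b' : G)⁻¹ * a * ((a⁻¹ * (b : G)⁻¹ * a * b) * b') := by group
      _ = a⁻¹ * (b' : G)⁻¹ * a * ((b' : G) * (a⁻¹ * (b : G)⁻¹ * a * b)) := by
        rw [h.2.1 _ (hmem b) (b' : G) (Subgroup.mem_sup_right b'.2)]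
      _ = _ := by group)
  refine ⟨MulEquiv.ofBijective f ⟨?_, ?_⟩, fun b => rfl⟩
  · rw [← MonoidHom.ker_eq_bot_iff, Subgroup.eq_bot_iff_forall]
    rintro ⟨b, hb⟩ hb'
    have e : a⁻¹ * b⁻¹ * a * b = 1 := congrArg Subtype.val (MonoidHom.mem_ker.mp hb')
    refine Subtype.ext (CfsgLib.RootSub.rcc_fixed hS hA hAS h ha ha1 hb ?_)
    calc a * b = b * a * (a⁻¹ * b⁻¹ * a * b) := by group
      _ = b * a := by rw [e, mul_one]
  · rintro ⟨c, hc⟩
    obtain ⟨b, hb, e⟩ := CfsgLib.RootSub.rcc_surj h (inv_mem ha) (inv_ne_one.mpr ha1) hc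
    refine ⟨⟨b⁻¹, inv_mem hb⟩, Subtype.ext ?_⟩
    show a⁻¹ * b⁻¹⁻¹ * a * b⁻¹ = c
    rw [inv_inv] at e ⊢
    exact e

end Cfsg.Agent.S5029
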