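import Cfsg.Statements.S5036
import Mathlib
import Cfsg.Agent.Lib.RootSub.CommCase
-- import your own Cfsg.Agent.* helpers here

set_option autoImplicit false
open Cfsg

namespace Cfsg.Agent.S5036

open scoped commutatorElement

/-- Let S be a set of abstract root subgroups of G, A, B ∈ S with C = ⁅A, B⁆ ∈ S, and D ∈ S with ⁅D, C⁆ = A. Put X = ⟨B, D⟩ and N = AC. Then B, D form a rank one pair; the conjugates of A under X are the conjugates of C under X, namely the conjugates of A by elements of B together with C, equally the conjugates of C by elements of D together with A, and they partition N; and the centralizer of N in X is central in X. -/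
theorem result {G : Type*} [Group G] {S : Set (Subgroup G)} (hS : Cfsg.IsRootSubgroupSet S)
    {A B D : Subgroup G} (hA : A ∈ S) (hB : B ∈ S) (hC : ⁅A, B⁆ ∈ S) (hD : D ∈ S) (hDC : ⁅D, ⁅A, B⁆⁆ = A) :
    Cfsg.IsRankOnePair B D ∧
    {E | ∃ x ∈ B ⊔ D, E = Cfsg.conjBy A x} = {E | ∃ x ∈ B ⊔ D, E = Cfsg.conjBy ⁅A, B⁆ x} ∧
    {E | ∃ x ∈ B ⊔ D, E = Cfsg.conjBy A x} = (fun b : G => Cfsg.conjBy A b) '' (B : Set G) ∪ {⁅A, B⁆} ∧
    {E | ∃ x ∈ B ⊔ D, E = Cfsg.conjBy A x} = (fun d : G => Cfsg.conjBy ⁅A, B⁆ d) '' (D : Set G) ∪ {A} ∧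
    Cfsg.IsSubgroupPartition (A ⊔ ⁅A, B⁆) {E | ∃ x ∈ B ⊔ D, E = Cfsg.conjBy A x} ∧
    ∀ x ∈ (B ⊔ D) ⊓ Subgroup.centralizer ((A ⊔ ⁅A, B⁆ : Subgroup G) : Set G), ∀ y ∈ B ⊔ D, x * y = y * x := by
  have h := CfsgLib.RootSub.rcc_of_mem hS hA hB hC
  set C := ⁅A, B⁆ with hCdef
  have h' : Cfsg.RootCommutatorCase S D C := CfsgLib.RootSub.rcc_of_mem hS hD hC (hDC ▸ hA)
  have hcC : ∀ c ∈ C, ∀ x ∈ A ⊔ B, c * x = x * c := h.2.1
  have hcA : ∀ a ∈ A, ∀ x ∈ D ⊔ C, a * x = x * a := fun a ha => h'.2.1 a (by rw [hDC]; exact ha)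
  set N := A ⊔ C with hN
  have hNdec : ∀ x ∈ N, ∃ a ∈ A, ∃ c ∈ C, x = a * c := fun x hx => CfsgLib.RootSub.exists_mul_of_mem_sup h hx
  have hAC : ∀ a ∈ A, ∀ c ∈ C, a * c = c * a := fun a ha c hc => (hcC c hc a (Subgroup.mem_sup_left ha)).symm
  -- commutation with a fixed element is onto
  have hbs : ∀ b ∈ B, b ≠ 1 → ∀ c ∈ C, ∃ a ∈ A, b * a * b⁻¹ = a * c := by
    intro b hb hb1 c hc
    obtain ⟨a, ha, e⟩ := CfsgLib.RootSub.rcc_surj (CfsgLib.RootSub.rcc_symm h) hb hb1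
      (show c ∈ ⁅B, A⁆ by rw [Subgroup.commutator_comm]; exact hc)
    exact ⟨a, ha, by rw [(hAC a ha c hc), ← e]; group⟩
  have hds : ∀ d ∈ D, d ≠ 1 → ∀ a ∈ A, ∃ c ∈ C, d * c * d⁻¹ = c * a := by
    intro d hd hd1 a ha
    obtain ⟨c, hc, e⟩ := CfsgLib.RootSub.rcc_surj h' hd hd1 (show a ∈ ⁅D, C⁆ by rw [hDC]; exact ha)
    exact ⟨c, hc, by rw [← hAC a ha c hc, ← e]; group⟩
  obtain ⟨⟨a₀, ha₀⟩, ha₀1⟩ := Subgroup.ne_bot_iff_exists_ne_one.mp (hS.ne_bot A hA)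
  have hCne : C ≠ ⊥ := hS.ne_bot C hC
  -- `B` and `D` form a rank one pair
  have hBD : Cfsg.IsRankOnePair B D := by
    obtain ⟨⟨b, hb⟩, hb1⟩ := Subgroup.ne_bot_iff_exists_ne_one.mp (hS.ne_bot B hB)
    obtain ⟨⟨d, hd⟩, hd1⟩ := Subgroup.ne_bot_iff_exists_ne_one.mp (hS.ne_bot D hD)
    have hb' : b ≠ 1 := fun e => hb1 (Subtype.ext e)
    have hd' : d ≠ 1 := fun e => hd1 (Subtype.ext e)
    suffices key : ¬ b * (d * b * d⁻¹) = (d * b * d⁻¹) * b by
      rcases hS.pair B hB D hD with h1 | h1 | h1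
      · refine absurd ?_ key
        rw [show d * b * d⁻¹ = b by rw [← CfsgLib.RootSub.commute_of_comm_eq_bot h1 hb hd]; group]
      · exact h1
      · refine absurd ?_ key
        have hf := h1.2.1 (b * d * b⁻¹ * d⁻¹) (Subgroup.commutator_mem_commutator hb hd) b (Subgroup.mem_sup_left hb)
        rw [show d * b * d⁻¹ = (b * d * b⁻¹ * d⁻¹)⁻¹ * b by group]
        calc b * ((b * d * b⁻¹ * d⁻¹)⁻¹ * b) = (b * (b * d * b⁻¹ * d⁻¹)⁻¹) * b := by group
          _ = ((b * d * b⁻¹ * d⁻¹)⁻¹ * b) * b := by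
            rw [((show Commute (b * d * b⁻¹ * d⁻¹) b from hf).inv_left).eq]
    intro hg
    obtain ⟨⟨c₄, hc₄⟩, hc₄1⟩ := Subgroup.ne_bot_iff_exists_ne_one.mp hCne
    obtain ⟨a₃, ha₃, e₃⟩ := hbs b hb hb' c₄ hc₄
    obtain ⟨c₂, hc₂, e₂⟩ := hds d hd hd' a₃ ha₃
    obtain ⟨a₁, ha₁, e₁⟩ := hbs b hb hb' c₂ hc₂
    obtain ⟨c₀, hc₀, e₀⟩ := hds d hd hd' a₁⁻¹ (inv_mem ha₁)
    have hfixA : ∀ a ∈ A, d * a * d⁻¹ = a := fun a ha => by
      rw [← hcA a ha d (Subgroup.mem_sup_left hd), mul_inv_cancel_right]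
    have hfixC : ∀ c ∈ C, b * c * b⁻¹ = c := fun c hc => by
      rw [← hcC c hc b (Subgroup.mem_sup_right hb), mul_inv_cancel_right]
    set g := d * b * d⁻¹ with hgdef
    have hg0 : g * c₀ * g⁻¹ = c₀ * (c₂ * a₃) := by
      have hd1' : d⁻¹ * c₀ * d = c₀ * a₁ := by
        have e5 : d⁻¹ * a₁ * d = a₁ := by
          rw [mul_assoc, hcA a₁ ha₁ d (Subgroup.mem_sup_left hd), inv_mul_cancel_left]
        calc d⁻¹ * c₀ * d = d⁻¹ * (c₀ * a₁⁻¹) * d * (d⁻¹ * a₁ * d) := by group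
          _ = c₀ * a₁ := by rw [e5, ← e₀]; group
      calc g * c₀ * g⁻¹ = d * (b * (d⁻¹ * c₀ * d) * b⁻¹) * d⁻¹ := by rw [hgdef]; group
        _ = d * ((b * c₀ * b⁻¹) * (b * a₁ * b⁻¹)) * d⁻¹ := by rw [hd1']; group
        _ = (d * c₀ * d⁻¹) * (d * a₁ * d⁻¹) * (d * c₂ * d⁻¹) := by rw [e₁, hfixC c₀ hc₀]; group
        _ = c₀ * (c₂ * a₃) := by rw [e₀, e₂, hfixA a₁ ha₁]; group
    have h5 : b * (g * c₀ * g⁻¹) * b⁻¹ = g * c₀ * g⁻¹ := by
      calc b * (g * c₀ * g⁻¹) * b⁻¹ = (b * g) * c₀ * (b * g)⁻¹ := by group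
        _ = g * (b * c₀ * b⁻¹) * g⁻¹ := by rw [hg]; group
        _ = g * c₀ * g⁻¹ := by rw [hfixC c₀ hc₀]
    have h6 : b * (g * c₀ * g⁻¹) * b⁻¹ = c₀ * (c₂ * a₃) * c₄ := by
      rw [hg0]
      calc b * (c₀ * (c₂ * a₃)) * b⁻¹ = (b * c₀ * b⁻¹) * ((b * c₂ * b⁻¹) * (b * a₃ * b⁻¹)) := by group
        _ = c₀ * (c₂ * a₃) * c₄ := by rw [hfixC c₀ hc₀, hfixC c₂ hc₂, e₃]; group
    rw [h5, hg0] at h6
    exact hc₄1 (Subtype.ext (mul_eq_left.mp h6.symm))
  set X := B ⊔ D with hX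
  have hXN : X ≤ Subgroup.normalizer (N : Set G) := by
    refine sup_le (CfsgLib.RootSub.normalizes_of_forall fun b hb n hn => ?_) (CfsgLib.RootSub.normalizes_of_forall fun d hd n hn => ?_)
    · obtain ⟨a, ha, c, hc, rfl⟩ := hNdec n hn
      rw [show b * (a * c) * b⁻¹ = (b * a * b⁻¹) * (b * c * b⁻¹) by group, ← hcC c hc b (Subgroup.mem_sup_right hb),
        mul_inv_cancel_right]
      exact mul_mem (CfsgLib.RootSub.conjBy_le_sup A B hb (CfsgLib.RootSub.conjBy_mem ha)) (Subgroup.mem_sup_right hc)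
    · obtain ⟨a, ha, c, hc, rfl⟩ := hNdec n hn
      rw [show d * (a * c) * d⁻¹ = (d * a * d⁻¹) * (d * c * d⁻¹) by group, ← hcA a ha d (Subgroup.mem_sup_left hd),
        mul_inv_cancel_right]
      refine mul_mem (Subgroup.mem_sup_left ha) ?_
      rw [show d * c * d⁻¹ = ⁅d, c⁆ * c by simp only [commutatorElement_def]; group]
      exact mul_mem (Subgroup.mem_sup_left (hDC ▸ Subgroup.commutator_mem_commutator hd hc)) (Subgroup.mem_sup_right hc)
  -- fixed points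
  let fix : Subgroup G → Subgroup G := fun U => N ⊓ Subgroup.centralizer (U : Set G)
  have hfix : ∀ x ∈ X, ∀ U : Subgroup G, Cfsg.conjBy (fix U) x = fix (Cfsg.conjBy U x) := by
    intro x hx U
    ext y
    rw [CfsgLib.RootSub.conjBy_mem_iff]
    simp only [fix, Subgroup.mem_inf, Subgroup.mem_centralizer_iff]
    constructor
    · rintro ⟨h1, h2⟩
      refine ⟨by simpa [mul_assoc] using CfsgLib.RootSub.conj_mem_of_normalizes (hXN hx) h1, fun u hu => ?_⟩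
      obtain ⟨w, hw, rfl⟩ := hu
      calc x * w * x⁻¹ * y = x * (w * (x⁻¹ * y * x)) * x⁻¹ := by group
        _ = y * (x * w * x⁻¹) := by rw [h2 w hw]; group
    · rintro ⟨h1, h2⟩
      refine ⟨by simpa using CfsgLib.RootSub.conj_mem_of_normalizes (inv_mem (hXN hx)) h1, fun w hw => ?_⟩
      calc w * (x⁻¹ * y * x) = x⁻¹ * ((x * w * x⁻¹) * y) * x := by group
        _ = x⁻¹ * y * x * w := by rw [h2 (x * w * x⁻¹) (CfsgLib.RootSub.conjBy_mem hw)]; group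
  have hfixB : fix B = C := by
    refine le_antisymm (fun y hy => ?_) fun c hc => ⟨Subgroup.mem_sup_right hc, fun b hb => (hcC c hc b (Subgroup.mem_sup_right hb)).symm⟩
    obtain ⟨hyN, hyB⟩ := Subgroup.mem_inf.mp hy
    obtain ⟨a, ha, c, hc, rfl⟩ := hNdec y hyN
    suffices ha1 : a = 1 by rw [ha1, one_mul]; exact hc
    by_contra ha1
    apply hS.ne_bot C hC
    show ⁅A, B⁆ = ⊥
    rw [← h.2.2.1 a ha ha1, Subgroup.closure_eq_bot_iff]
    rintro _ ⟨b, hb, rfl⟩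
    have hh := Subgroup.mem_centralizer_iff.mp hyB b hb
    have hba : a * b = b * a := by
      calc a * b = (a * c) * b * c⁻¹ := by
            rw [mul_assoc a c b, hcC c hc b (Subgroup.mem_sup_right hb)]; group
        _ = b * (a * c) * c⁻¹ := by rw [hh]
        _ = b * a := by group
    show a * b * a⁻¹ * b⁻¹ ∈ ({1} : Set G)
    rw [hba]; simp
  have hfixD : fix D = A := by
    refine le_antisymm (fun y hy => ?_) fun a ha => ⟨Subgroup.mem_sup_left ha, fun d hd => (hcA a ha d (Subgroup.mem_sup_left hd)).symm⟩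
    obtain ⟨hyN, hyD⟩ := Subgroup.mem_inf.mp hy
    obtain ⟨a, ha, c, hc, rfl⟩ := hNdec y hyN
    suffices hc1 : c = 1 by rw [hc1, mul_one]; exact ha
    by_contra hc1
    apply hS.ne_bot A hA
    rw [← hDC, ← h'.2.2.2 c hc hc1, Subgroup.closure_eq_bot_iff]
    rintro _ ⟨d, hd, rfl⟩
    have hh := Subgroup.mem_centralizer_iff.mp hyD d hd
    have hdc : d * c = c * d := by
      calc d * c = d * (a⁻¹ * (a * c)) := by group
        _ = a⁻¹ * d * (a * c) := by rw [hcA a⁻¹ (inv_mem ha) d (Subgroup.mem_sup_left hd)]; group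
        _ = a⁻¹ * (d * (a * c)) := by group
        _ = c * d := by rw [hh]; group
    show d * c * d⁻¹ * c⁻¹ ∈ ({1} : Set G)
    rw [hdc]; simp
  -- every conjugate of `A` or `C` is the fixed subgroup of a unipotent subgroup
  have hU1 : ∀ U ∈ Cfsg.unipotentSubgroups B D, U = B ∨ ∃ b ∈ B, U = Cfsg.conjBy D b := fun U hU =>
    CfsgLib.RootSub.eq_or_conj_right hBD hU
  have hU2 : ∀ U ∈ Cfsg.unipotentSubgroups B D, U = D ∨ ∃ d ∈ D, U = Cfsg.conjBy B d := by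
    intro U hU
    refine CfsgLib.RootSub.eq_or_conj_right (Cfsg.RankOnePair_symm hBD) ?_
    obtain ⟨y, hy, e⟩ := CfsgLib.RootSub.right_mem_unipotent (Cfsg.RankOnePair_symm hBD)
    obtain ⟨x, hx, rfl⟩ := hU
    exact ⟨x * y, mul_mem (sup_comm B D ▸ hx) hy, by rw [e, CfsgLib.RootSub.conjBy_conjBy]⟩
  obtain ⟨x₁, hx₁, e₁⟩ : ∃ x ∈ X, D = Cfsg.conjBy B x := CfsgLib.RootSub.right_mem_unipotent hBD
  have hEset : ∀ E, (∃ x ∈ X, E = Cfsg.conjBy A x) ↔ ∃ U ∈ Cfsg.unipotentSubgroups B D, E = fix U := by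
    intro E
    constructor
    · rintro ⟨x, hx, rfl⟩
      exact ⟨Cfsg.conjBy D x, CfsgLib.RootSub.conjBy_mem_unipotent hx (CfsgLib.RootSub.right_mem_unipotent hBD),
        by rw [← hfixD, hfix x hx]⟩
    · rintro ⟨_, ⟨x, hx, rfl⟩, rfl⟩
      refine ⟨x * x₁⁻¹, mul_mem hx (inv_mem hx₁), ?_⟩
      rw [← hfixD, hfix _ (mul_mem hx (inv_mem hx₁)), e₁, CfsgLib.RootSub.conjBy_conjBy, inv_mul_cancel_right]
  have hCset : ∀ E, (∃ x ∈ X, E = Cfsg.conjBy C x) ↔ ∃ U ∈ Cfsg.unipotentSubgroups B D, E = fix U := by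
    intro E
    constructor
    · rintro ⟨x, hx, rfl⟩
      exact ⟨Cfsg.conjBy B x, ⟨x, hx, rfl⟩, by rw [← hfixB, hfix x hx]⟩
    · rintro ⟨_, ⟨x, hx, rfl⟩, rfl⟩
      exact ⟨x, hx, by rw [← hfixB, hfix x hx]⟩
  refine ⟨hBD, Set.ext fun E => (hEset E).trans (hCset E).symm, Set.ext fun E => (hEset E).trans ?_,
    Set.ext fun E => (hEset E).trans ?_, ⟨?_, ?_, ?_⟩, ?_⟩
  · constructor
    · rintro ⟨U, hU, rfl⟩
      rcases hU1 U hU with rfl | ⟨b, hb, rfl⟩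
      · exact Or.inr hfixB
      · exact Or.inl ⟨b, hb, by beta_reduce; rw [← hfixD, hfix b (Subgroup.mem_sup_left hb)]⟩
    · rintro (⟨b, hb, rfl⟩ | rfl)
      · exact ⟨Cfsg.conjBy D b, CfsgLib.RootSub.conjBy_mem_unipotent (Subgroup.mem_sup_left hb)
          (CfsgLib.RootSub.right_mem_unipotent hBD), by beta_reduce; rw [← hfixD, hfix b (Subgroup.mem_sup_left hb)]⟩
      · exact ⟨B, CfsgLib.RootSub.left_mem_unipotent, hfixB.symm⟩
  · constructor
    · rintro ⟨U, hU, rfl⟩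
      rcases hU2 U hU with rfl | ⟨d, hd, rfl⟩
      · exact Or.inr hfixD
      · exact Or.inl ⟨d, hd, by beta_reduce; rw [← hfixB, hfix d (Subgroup.mem_sup_right hd)]⟩
    · rintro (⟨d, hd, rfl⟩ | rfl)
      · exact ⟨Cfsg.conjBy B d, ⟨d, Subgroup.mem_sup_right hd, rfl⟩, by beta_reduce; rw [← hfixB, hfix d (Subgroup.mem_sup_right hd)]⟩
      · exact ⟨D, CfsgLib.RootSub.right_mem_unipotent hBD, hfixD.symm⟩
  · intro E hE
    obtain ⟨U, -, rfl⟩ := (hEset E).mp hE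
    exact inf_le_left
  · intro y hy hy1
    obtain ⟨a, ha, c, hc, rfl⟩ := hNdec y hy
    by_cases ha1 : a = 1
    · exact ⟨C, (hEset C).mpr ⟨B, CfsgLib.RootSub.left_mem_unipotent, hfixB.symm⟩, by rw [ha1, one_mul]; exact hc⟩
    · obtain ⟨b, hb, e⟩ := CfsgLib.RootSub.rcc_conj h ha ha1 hc
      exact ⟨Cfsg.conjBy A b, ⟨b, Subgroup.mem_sup_left hb, rfl⟩, e ▸ CfsgLib.RootSub.conjBy_mem ha⟩
  · intro E hE E' hE' hne
    obtain ⟨U, hU, rfl⟩ := (hEset E).mp hE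
    obtain ⟨U', hU', rfl⟩ := (hEset E').mp hE'
    obtain ⟨x, hx, rfl, rfl⟩ := CfsgLib.RootSub.exists_map_pair hBD hU hU' fun e => hne (by rw [e])
    rw [← hfix x hx, ← hfix x hx, hfixB, hfixD, ← Subgroup.map_inf_eq _ _ _ (MulAut.conj x).injective,
      Subgroup.map_eq_bot_iff_of_injective _ (MulAut.conj x).injective, Subgroup.eq_bot_iff_forall]
    rintro y ⟨hyC, hyA⟩
    by_contra hy1
    refine hS.ne_bot C hC ?_
    show ⁅A, B⁆ = ⊥
    rw [← h.2.2.1 y hyA hy1, Subgroup.closure_eq_bot_iff]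
    rintro _ ⟨b, hb, rfl⟩
    show y * b * y⁻¹ * b⁻¹ ∈ ({1} : Set G)
    rw [hcC y hyC b (Subgroup.mem_sup_right hb)]; simp
  · intro x hx y hy
    obtain ⟨hxX, hxN⟩ := Subgroup.mem_inf.mp hx
    rw [Subgroup.mem_centralizer_iff] at hxN
    have hfixx : ∀ E : Subgroup G, E ≤ N → Cfsg.conjBy E x = E := fun E hE => by
      ext z
      rw [CfsgLib.RootSub.conjBy_mem_iff]
      refine ⟨fun hz => ?_, fun hz => ?_⟩
      · have e := hxN _ (hE hz)
        have : x⁻¹ * z * x = z := mul_right_cancel (b := x) (e.trans (by group))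
        rwa [this] at hz
      · rwa [mul_assoc, hxN z (hE hz), inv_mul_cancel_left]
    -- `x` normalizes every unipotent subgroup
    have hnorm : ∀ U ∈ Cfsg.unipotentSubgroups B D, Cfsg.conjBy U x = U := by
      intro U hU
      by_contra hne
      obtain ⟨z, hz, e₂, e₃⟩ := CfsgLib.RootSub.exists_map_pair hBD (CfsgLib.RootSub.conjBy_mem_unipotent hxX hU) hU hne
      have e4 : fix (Cfsg.conjBy U x) = fix U := by rw [← hfix x hxX, hfixx _ inf_le_left]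
      rw [← e₂, ← e₃, ← hfix z hz, ← hfix z hz, hfixB, hfixD] at e4
      have e5 : C = A := CfsgLib.RootSub.conjBy_injective z e4
      exact hS.ne_bot _ hC (CfsgLib.RootSub.comm_eq_bot_of_commute fun p hp q hq =>
        hcC p ((SetLike.ext_iff.mp e5 p).mpr hp) q (Subgroup.mem_sup_right hq))
    have hB' : ∀ b ∈ B, x * b = b * x := by
      intro b hb
      by_contra hne
      set k := x * b * x⁻¹ * b⁻¹ with hk
      have hkB : k ∈ B := mul_mem ((hnorm B CfsgLib.RootSub.left_mem_unipotent) ▸ CfsgLib.RootSub.conjBy_mem hb) (inv_mem hb)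
      have hk1 : k ≠ 1 := fun e => hne (by rw [hk, mul_inv_eq_one, mul_inv_eq_iff_eq_mul] at e; exact e)
      refine hS.ne_bot _ hC ?_
      show ⁅A, B⁆ = ⊥
      rw [← h.2.2.2 k hkB hk1, Subgroup.closure_eq_bot_iff]
      rintro _ ⟨a, ha, rfl⟩
      show a * k * a⁻¹ * k⁻¹ ∈ ({1} : Set G)
      suffices hka : k * a = a * k by rw [← hka]; simp
      have hxa : ∀ n ∈ N, x * n * x⁻¹ = n := fun n hn => by rw [← hxN n hn, mul_inv_cancel_right]
      have hxa' : ∀ n ∈ N, x⁻¹ * n * x = n := fun n hn => by rw [mul_assoc, hxN n hn, inv_mul_cancel_left]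
      have hn : b⁻¹ * a * b ∈ N := by
        have := CfsgLib.RootSub.conj_mem_of_normalizes (inv_mem (hXN (Subgroup.mem_sup_left hb))) (show a ∈ N from Subgroup.mem_sup_left ha)
        rwa [inv_inv] at this
      calc k * a = (x * (b * (x⁻¹ * (b⁻¹ * a * b) * x) * b⁻¹) * x⁻¹) * k := by rw [hk]; group
        _ = a * k := by
          rw [hxa' _ hn, show b * (b⁻¹ * a * b) * b⁻¹ = a by group, hxa a (Subgroup.mem_sup_left ha)]
    have hD' : ∀ d ∈ D, x * d = d * x := by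
      intro d hd
      by_contra hne
      set k := x * d * x⁻¹ * d⁻¹ with hk
      have hkD : k ∈ D := mul_mem ((hnorm D (CfsgLib.RootSub.right_mem_unipotent hBD)) ▸ CfsgLib.RootSub.conjBy_mem hd) (inv_mem hd)
      have hk1 : k ≠ 1 := fun e => hne (by rw [hk, mul_inv_eq_one, mul_inv_eq_iff_eq_mul] at e; exact e)
      refine hS.ne_bot _ hA ?_
      rw [← hDC, ← h'.2.2.1 k hkD hk1, Subgroup.closure_eq_bot_iff]
      rintro _ ⟨c, hc, rfl⟩
      show k * c * k⁻¹ * c⁻¹ ∈ ({1} : Set G)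
      suffices hka : k * c = c * k by rw [hka]; simp
      have hxa : ∀ n ∈ N, x * n * x⁻¹ = n := fun n hn => by rw [← hxN n hn, mul_inv_cancel_right]
      have hxa' : ∀ n ∈ N, x⁻¹ * n * x = n := fun n hn => by rw [mul_assoc, hxN n hn, inv_mul_cancel_left]
      have hn : d⁻¹ * c * d ∈ N := by
        have := CfsgLib.RootSub.conj_mem_of_normalizes (inv_mem (hXN (Subgroup.mem_sup_right hd))) (show c ∈ N from Subgroup.mem_sup_right hc)
        rwa [inv_inv] at this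
      calc k * c = (x * (d * (x⁻¹ * (d⁻¹ * c * d) * x) * d⁻¹) * x⁻¹) * k := by rw [hk]; group
        _ = c * k := by
          rw [hxa' _ hn, show d * (d⁻¹ * c * d) * d⁻¹ = c by group, hxa c (Subgroup.mem_sup_right hc)]
    have hle : X ≤ Subgroup.centralizer ({x} : Set G) := sup_le
      (fun b hb => Subgroup.mem_centralizer_singleton_iff.mpr (hB' b hb).symm)
      (fun d hd => Subgroup.mem_centralizer_singleton_iff.mpr (hD' d hd).symm)
    exact (Subgroup.mem_centralizer_singleton_iff.mp (hle hy)).symm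

end Cfsg.Agent.S5036
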