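import Cfsg.Statements.S4477
import Cfsg.Agent.Lib.CharTheory.InvolutionCount
import Cfsg.Agent.Lib.CharTheory.Clifford
import Cfsg.Agent.Lib.Elementary
import Cfsg.Agent.Lib.Blocks.Central

set_option autoImplicit false
open Cfsg CfsgLib.CharTheory
open scoped ComplexConjugate

set_option linter.unusedVariables false

namespace Cfsg.Agent.S4477

/-- Let G be a finite 2-group whose number of involutions is congruent to 1 modulo 4. Then G is cyclic or its commutator subgroup has index 4. -/
theorem result {G : Type*} [Group G] [Finite G] (hG : IsPGroup 2 G) (ht : Nat.card {x : G // orderOf x = 2} % 4 = 1) : IsCyclic G ∨ (commutator G).index = 4 := by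
  classical
  haveI := Fintype.ofFinite G
  haveI : Fact (Nat.Prime 2) := ⟨Nat.prime_two⟩
  by_cases hcyc : IsCyclic G
  · exact Or.inl hcyc
  right
  -- the group of linear characters
  have hiso : Nonempty ((G →* ℂˣ) ≃* Abelianization G) := by
    obtain ⟨e⟩ := CommGroup.monoidHom_mulEquiv_of_hasEnoughRootsOfUnity (Abelianization G) ℂ
    exact ⟨({ Abelianization.lift (G := G) (A := ℂˣ) with
      map_mul' := fun a b => (Abelianization.lift (G := G) (A := ℂˣ)).symm.injective (by
        refine MonoidHom.ext fun g => ?_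
        simp [Abelianization.lift_apply_of]) } : (G →* ℂˣ) ≃* (Abelianization G →* ℂˣ)).trans e⟩
  obtain ⟨eA⟩ := hiso
  have hsurj : Function.Surjective (Abelianization.of (G := G)) := QuotientGroup.mk'_surjective _
  have hA2 : IsPGroup 2 (Abelianization G) := hG.of_surjective Abelianization.of hsurj
  obtain ⟨m, hm⟩ := IsPGroup.iff_card.1 hA2
  have hidx : (commutator G).index = Nat.card (Abelianization G) := Subgroup.index_eq_card _
  have hAnc : ¬ IsCyclic (Abelianization G) := by
    intro h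
    apply hcyc
    obtain ⟨a, ha⟩ := h.exists_generator
    obtain ⟨g, rfl⟩ := hsurj a
    refine isCyclic_iff_exists_zpowers_eq_top.2 ⟨g, ?_⟩
    have htop : Subgroup.zpowers g ⊔ frattini G = ⊤ := by
      rw [eq_top_iff]
      intro y _
      obtain ⟨i, hi⟩ := Subgroup.mem_zpowers_iff.1 (ha (Abelianization.of y))
      have h1 : (g ^ i)⁻¹ * y ∈ commutator G := by
        rw [← Abelianization.ker_of, MonoidHom.mem_ker, map_mul, map_inv, map_zpow, hi, inv_mul_cancel]
      have h2 : g ^ i * ((g ^ i)⁻¹ * y) ∈ Subgroup.zpowers g ⊔ frattini G :=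
        Subgroup.mul_mem_sup (Subgroup.zpow_mem_zpowers g i)
          (CfsgLib.commutator_le_frattini_pGroup hG h1)
      rwa [mul_inv_cancel_left] at h2
    exact frattini_nongenerating htop
  -- linear characters of order at most two
  have hcardp : ∀ j : ℕ, Nat.card {a : Abelianization G // a ^ 2 = 1} ≤ 2 →
      Nat.card {a : Abelianization G // a ^ 2 ^ j = 1} ≤ 2 ^ j := by
    intro j h2
    induction j with
    | zero =>
      haveI : Subsingleton {a : Abelianization G // a ^ 2 ^ 0 = 1} :=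
        ⟨fun a b => Subtype.ext (((pow_one a.1).symm.trans a.2).trans ((pow_one b.1).symm.trans b.2).symm)⟩
      exact Finite.card_le_one_iff_subsingleton.2 inferInstance
    | succ j ih =>
      let f : {a : Abelianization G // a ^ 2 ^ (j + 1) = 1} → {a : Abelianization G // a ^ 2 ^ j = 1} :=
        fun a => ⟨a.1 ^ 2, by rw [← pow_mul, ← pow_succ']; exact a.2⟩
      haveI : Fintype {a : Abelianization G // a ^ 2 ^ (j + 1) = 1} := Fintype.ofFinite _
      haveI : Fintype {a : Abelianization G // a ^ 2 ^ j = 1} := Fintype.ofFinite _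
      have hb : ∀ b ∈ (Finset.univ : Finset {a : Abelianization G // a ^ 2 ^ j = 1}),
          (Finset.univ.filter fun a => f a = b).card ≤ 2 := by
        intro b _
        rcases (Finset.univ.filter fun a => f a = b).eq_empty_or_nonempty with he | ⟨a0, ha0⟩
        · simp [he]
        simp only [Finset.mem_filter, Finset.mem_univ, true_and] at ha0
        rw [← Nat.card_eq_finsetCard]
        refine le_trans (Nat.card_le_card_of_injective
          (fun a => (⟨a.1.1 * a0.1⁻¹, ?_⟩ : {a : Abelianization G // a ^ 2 = 1})) ?_) h2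
        · have ha := (Finset.mem_filter.1 a.2).2
          have h3 : a.1.1 ^ 2 = a0.1 ^ 2 := congrArg Subtype.val (ha.trans ha0.symm)
          rw [mul_pow, h3, inv_pow, mul_inv_cancel]
        · intro a b' e
          exact Subtype.ext (Subtype.ext (mul_right_cancel (congrArg Subtype.val e :)))
      have h4 := Finset.card_le_mul_card_image_of_maps_to (f := f) (s := Finset.univ) (t := Finset.univ)
        (fun a _ => Finset.mem_univ _) 2 hb
      rw [Finset.card_univ, Finset.card_univ, ← Nat.card_eq_fintype_card, ← Nat.card_eq_fintype_card] at h4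
      calc _ ≤ 2 * Nat.card {a : Abelianization G // a ^ 2 ^ j = 1} := h4
        _ ≤ 2 * 2 ^ j := Nat.mul_le_mul_left 2 ih
        _ = 2 ^ (j + 1) := by ring
  have h4A : 4 ∣ Nat.card {a : Abelianization G // a ^ 2 = 1} := by
    let K : Subgroup (Abelianization G) :=
      { carrier := {a | a ^ 2 = 1}
        mul_mem' := fun {a b} ha hb => show (a * b) ^ 2 = 1 by rw [mul_pow, ha, hb, one_mul]
        one_mem' := one_pow 2
        inv_mem' := fun {a} ha => show a⁻¹ ^ 2 = 1 by rw [inv_pow, ha, inv_one] }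
    obtain ⟨r, -, hr⟩ := (Nat.dvd_prime_pow Nat.prime_two).1 (hm ▸ Subgroup.card_subgroup_dvd_card K)
    show 4 ∣ Nat.card K
    rw [hr]
    rcases le_or_gt 2 r with h | h
    · exact (show 4 = 2 ^ 2 from rfl) ▸ pow_dvd_pow 2 h
    exfalso
    apply hAnc
    refine isCyclic_of_card_pow_eq_one_le (α := Abelianization G) fun k hk => ?_
    obtain ⟨i, him, hi⟩ := (Nat.dvd_prime_pow Nat.prime_two).1 (Nat.gcd_dvd_right k (2 ^ m))
    have h2 : Nat.card {a : Abelianization G // a ^ 2 = 1} ≤ 2 := by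
      show Nat.card K ≤ 2
      rw [hr]; interval_cases r <;> norm_num
    calc (Finset.univ.filter fun a : Abelianization G => a ^ k = 1).card
        ≤ (Finset.univ.filter fun a : Abelianization G => a ^ 2 ^ i = 1).card := by
          refine Finset.card_le_card fun a ha => ?_
          simp only [Finset.mem_filter, Finset.mem_univ, true_and] at ha ⊢
          rw [← hi]
          exact pow_gcd_eq_one.2 ⟨ha, hm ▸ pow_card_eq_one'⟩
      _ = Nat.card {a : Abelianization G // a ^ 2 ^ i = 1} :=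
          (Nat.subtype_card _ (fun a => by simp)).symm
      _ ≤ 2 ^ i := hcardp i h2
      _ ≤ k := hi ▸ Nat.le_of_dvd hk (Nat.gcd_dvd_left k (2 ^ m))
  -- Frobenius-Schur count
  have hdeg : ∀ χ : Cfsg.IrrCharacter G, (χ : G → ℂ) 1 = ((Cfsg.charDegree (χ : G → ℂ) : ℕ) : ℂ) :=
    fun χ => (charDegree_spec' χ.2).1
  let θ : G → ℂ := fun g => ∑ u : G, if u * u = g then 1 else 0
  have hθ : Cfsg.IsClassFunction G θ := fun g h =>
    Fintype.sum_equiv (MulAut.conj h⁻¹).toEquiv _ _ fun u => if_congr (by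
      show u * u = h * g * h⁻¹ ↔ h⁻¹ * u * h⁻¹⁻¹ * (h⁻¹ * u * h⁻¹⁻¹) = g
      constructor
      · intro e
        rw [show h⁻¹ * u * h⁻¹⁻¹ * (h⁻¹ * u * h⁻¹⁻¹) = h⁻¹ * (u * u) * h by group, e]; group
      · intro e
        rw [← e]; group) rfl rfl
  have hco : ∀ χ : Cfsg.IrrCharacter G, Cfsg.classInner θ (χ : G → ℂ) =
      (Nat.card G : ℂ)⁻¹ * (starRingEnd ℂ) (∑ u : G, (χ : G → ℂ) (u * u)) := fun χ => by
    simp only [Cfsg.classInner, θ, Finset.sum_mul, map_sum]
    rw [Finset.sum_comm]
    simp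
  have hν : ∀ χ : Cfsg.IrrCharacter G, ∃ ν : ℤ, Cfsg.classInner θ (χ : G → ℂ) = ν ∧
      ((ν = 0 ∧ ¬ ∀ g, (starRingEnd ℂ) ((χ : G → ℂ) g) = (χ : G → ℂ) g) ∨
        ((ν = 1 ∨ ν = -1) ∧ ∀ g, (starRingEnd ℂ) ((χ : G → ℂ) g) = (χ : G → ℂ) g)) := by
    intro χ
    have hGc : (Nat.card G : ℂ) ≠ 0 := Nat.cast_ne_zero.2 Nat.card_pos.ne'
    obtain ⟨k, ρ, hρ, hρc⟩ := χ.2
    haveI := hρ
    rw [hco, ← hρc]
    rcases frobenius_schur ρ with ⟨h1, hz⟩ | ⟨ε, hε, h1, h3, -⟩
    · refine ⟨0, by rw [hz, map_zero, mul_zero, Int.cast_zero], Or.inl ⟨rfl, fun hr => ?_⟩⟩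
      have h := classInner_irr_self (isIrrCharacter_character ρ)
      simp only [Cfsg.classInner, hr, h1, mul_zero] at h
      exact zero_ne_one h
    · have hr : ∀ g, (starRingEnd ℂ) (ρ.character g) = ρ.character g := fun g => by
        by_contra hne
        have hci := isIrrCharacter_conjChar (isIrrCharacter_character ρ)
        have h0 := classInner_irr_ne (isIrrCharacter_character ρ) hci (fun e => hne (congrFun e g).symm)
        simp only [Cfsg.classInner, Complex.conj_conj, h1] at h0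
        rw [inv_mul_cancel₀ hGc] at h0
        exact one_ne_zero h0
      rw [h3, map_mul, map_natCast, mul_left_comm, inv_mul_cancel₀ hGc, mul_one]
      rcases hε with rfl | rfl
      · exact ⟨1, by simp, Or.inr ⟨Or.inl rfl, hr⟩⟩
      · exact ⟨-1, by simp, Or.inr ⟨Or.inr rfl, hr⟩⟩
  choose ν hν1 hν2 using hν
  have htot : ((1 + Nat.card {x : G // orderOf x = 2} : ℕ) : ℤ) =
      ∑ χ : Cfsg.IrrCharacter G, ν χ * (Cfsg.charDegree (χ : G → ℂ) : ℤ) := by
    have h1 := congrFun (eq_sum_irr hθ) 1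
    simp only [Finset.sum_apply, Pi.smul_apply, smul_eq_mul, hν1, hdeg] at h1
    have h0 : θ 1 = ((1 + Nat.card {x : G // orderOf x = 2} : ℕ) : ℂ) := by
      show (∑ u : G, if u * u = 1 then (1 : ℂ) else 0) = _
      rw [Finset.sum_boole]
      congr 1
      have e : Finset.univ.filter (fun u : G => u * u = 1) =
          insert 1 (Finset.univ.filter fun u : G => orderOf u = 2) := by
        ext u
        simp only [Finset.mem_filter, Finset.mem_univ, true_and, Finset.mem_insert, ← pow_two]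
        constructor
        · intro h
          by_cases hu : u = 1
          · exact Or.inl hu
          · exact Or.inr (orderOf_eq_prime h hu)
        · rintro (rfl | h)
          · exact one_pow 2
          · rw [← h, pow_orderOf_eq_one]
      rw [e, Finset.card_insert_of_notMem (by simp), Nat.card_eq_fintype_card, Fintype.card_subtype, add_comm]
    rw [h0] at h1
    exact_mod_cast h1
  set R1 : Finset (Cfsg.IrrCharacter G) := Finset.univ.filter (fun χ : Cfsg.IrrCharacter G =>
    Cfsg.charDegree (χ : G → ℂ) = 1 ∧ ∀ g, (starRingEnd ℂ) ((χ : G → ℂ) g) = (χ : G → ℂ) g) with hR1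
  set R2 : Finset (Cfsg.IrrCharacter G) := Finset.univ.filter (fun χ : Cfsg.IrrCharacter G =>
    Cfsg.charDegree (χ : G → ℂ) = 2 ∧ ∀ g, (starRingEnd ℂ) ((χ : G → ℂ) g) = (χ : G → ℂ) g) with hR2
  have hterm : ∀ χ : Cfsg.IrrCharacter G, ((ν χ * (Cfsg.charDegree (χ : G → ℂ) : ℤ) : ℤ) : ZMod 4) =
      (if χ ∈ R1 then (1 : ZMod 4) else 0) + (if χ ∈ R2 then (2 : ZMod 4) else 0) := by
    intro χ
    obtain ⟨e, he⟩ := IsPGroup.iff_card.1 hG
    obtain ⟨j, -, hj⟩ : ∃ j ≤ e, Cfsg.charDegree (χ : G → ℂ) = 2 ^ j := by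
      have h2 : Cfsg.charDegree (χ : G → ℂ) ∣ Nat.card G := by
        obtain ⟨k, ρ, hρ, hρc⟩ := χ.2
        haveI := hρ
        have h := finrank_dvd_card ρ
        have e' : (Cfsg.charDegree (χ : G → ℂ) : ℂ) = (Module.finrank ℂ (Fin k → ℂ) : ℂ) := by
          rw [← hdeg, ← hρc, Representation.char_one]
        rwa [Nat.cast_inj.1 e']
      exact (Nat.dvd_prime_pow Nat.prime_two).1 (he ▸ h2)
    have h1mem : χ ∈ R1 ↔ j = 0 ∧ ∀ g, (starRingEnd ℂ) ((χ : G → ℂ) g) = (χ : G → ℂ) g := by
      simp [hR1, hj]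
    have h2mem : χ ∈ R2 ↔ j = 1 ∧ ∀ g, (starRingEnd ℂ) ((χ : G → ℂ) g) = (χ : G → ℂ) g := by
      simp only [hR2, Finset.mem_filter, Finset.mem_univ, true_and, hj]
      rw [Nat.pow_eq_self_iff (by norm_num)]
    rcases hν2 χ with ⟨h0, hnr⟩ | ⟨h1, hr⟩
    · rw [h0, if_neg (fun h => hnr (h1mem.1 h).2), if_neg (fun h => hnr (h2mem.1 h).2)]
      simp
    · rcases j with _ | _ | j
      · rw [if_pos (h1mem.2 ⟨rfl, hr⟩), if_neg (fun h => absurd (h2mem.1 h).1 (by norm_num))]
        -- a real linear character has indicator one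
        have hd1 : (χ : G → ℂ) 1 = 1 := by rw [hdeg, hj]; simp
        obtain ⟨lam, hlam⟩ := exists_hom_of_degree_one (isCharacter_of_irr χ.2) hd1
        have hν1' : (ν χ : ℂ) = 1 := by
          rw [← hν1, hco, hlam]
          have hs : ∀ u : G, ((lam (u * u) : ℂˣ) : ℂ) = 1 := fun u => by
            have h5 := hr u
            simp only [hlam] at h5
            have hnorm : ‖((lam u : ℂˣ) : ℂ)‖ = 1 := Complex.norm_eq_one_of_pow_eq_one
              (n := Nat.card G) (by rw [← Units.val_pow_eq_pow_val, ← map_pow, pow_card_eq_one', map_one, Units.val_one]) Nat.card_pos.ne'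
            rw [map_mul, Units.val_mul]
            conv_lhs => arg 1; rw [← h5]
            rw [Complex.conj_mul', hnorm]; simp
          simp only [hs, Finset.sum_const, Finset.card_univ, nsmul_eq_mul, mul_one, map_natCast,
            ← Nat.card_eq_fintype_card]
          exact inv_mul_cancel₀ (Nat.cast_ne_zero.2 Nat.card_pos.ne')
        have : ν χ = 1 := by exact_mod_cast hν1'
        rw [this, hj]; simp
      · rw [if_neg (fun h => absurd (h1mem.1 h).1 (by norm_num)), if_pos (h2mem.2 ⟨rfl, hr⟩), hj]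
        rcases h1 with h | h <;> rw [h] <;> decide
      · rw [if_neg (fun h => absurd (h1mem.1 h).1 (by omega)), if_neg (fun h => absurd (h2mem.1 h).1 (by omega)), hj]
        have h4 : ((2 ^ (j + 1 + 1) : ℕ) : ZMod 4) = 0 := by
          rw [ZMod.natCast_eq_zero_iff]
          exact ⟨2 ^ j, by ring⟩
        push_cast
        push_cast at h4
        rw [h4, mul_zero, add_zero]
  have hR1card : 4 ∣ R1.card := by
    refine (congrArg (4 ∣ ·) ?_).mp h4A
    rw [← Nat.card_eq_finsetCard]
    refine Nat.card_congr ?_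
    refine (Equiv.subtypeEquiv eA.toEquiv (p := fun φ : G →* ℂˣ => φ ^ 2 = 1) (fun φ => ?_)).symm.trans ?_
    · show φ ^ 2 = 1 ↔ (eA φ) ^ 2 = 1
      let e' : (G →* ℂˣ) →* Abelianization G := eA
      show φ ^ 2 = 1 ↔ (e' φ) ^ 2 = 1
      rw [← map_pow]
      exact ⟨fun h => by rw [h, map_one], fun h => eA.injective (h.trans (map_one e').symm)⟩
    refine ⟨fun φ => ⟨⟨fun g => ((φ.1 g : ℂˣ) : ℂ), isIrrCharacter_linear φ.1⟩, ?_⟩, fun χ =>
      ⟨(exists_hom_of_degree_one (isCharacter_of_irr χ.1.2) (by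
        rw [hdeg, (Finset.mem_filter.1 χ.2).2.1, Nat.cast_one])).choose, ?_⟩, ?_, ?_⟩
    · simp only [hR1, Finset.mem_filter, Finset.mem_univ, true_and]
      refine ⟨by simp [Cfsg.charDegree], fun g => ?_⟩
      have h2 : ((φ.1 g : ℂˣ) : ℂ) ^ 2 = 1 := by
        rw [← Units.val_pow_eq_pow_val, ← MonoidHom.pow_apply, φ.2, MonoidHom.one_apply, Units.val_one]
      rcases sq_eq_one_iff.1 h2 with h | h <;> rw [h] <;> simp
    · have hs := (exists_hom_of_degree_one (isCharacter_of_irr χ.1.2) (by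
        rw [hdeg, (Finset.mem_filter.1 χ.2).2.1, Nat.cast_one])).choose_spec
      refine MonoidHom.ext fun g => Units.ext ?_
      rw [MonoidHom.pow_apply, Units.val_pow_eq_pow_val, ← congrFun hs g, MonoidHom.one_apply, Units.val_one]
      have h5 := (Finset.mem_filter.1 χ.2).2.2 g
      have hnorm : ‖(χ.1 : G → ℂ) g‖ = 1 := by
        rw [congrFun hs g]
        exact Complex.norm_eq_one_of_pow_eq_one (n := Nat.card G)
          (by rw [← Units.val_pow_eq_pow_val, ← map_pow, pow_card_eq_one', map_one, Units.val_one]) Nat.card_pos.ne'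
      rw [pow_two]
      conv_lhs => arg 1; rw [← h5]
      rw [Complex.conj_mul', hnorm]; simp
    · intro φ
      refine Subtype.ext (MonoidHom.ext fun g => Units.ext ?_)
      exact (congrFun (exists_hom_of_degree_one (χ := fun g => ((φ.1 g : ℂˣ) : ℂ))
        (isCharacter_of_irr (isIrrCharacter_linear φ.1)) (by simp)).choose_spec g).symm
    · intro χ
      refine Subtype.ext (Subtype.ext (funext fun g => ?_))
      exact (congrFun (exists_hom_of_degree_one (isCharacter_of_irr χ.1.2) (by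
        rw [hdeg, (Finset.mem_filter.1 χ.2).2.1, Nat.cast_one])).choose_spec g).symm
  have hR2odd : Odd R2.card := by
    have h := congrArg (fun z : ℤ => (z : ZMod 4)) htot
    simp only [Int.cast_natCast, Int.cast_sum, hterm] at h
    rw [Finset.sum_add_distrib, Finset.sum_ite_mem, Finset.sum_ite_mem, Finset.univ_inter, Finset.univ_inter,
      Finset.sum_const, Finset.sum_const, nsmul_eq_mul, nsmul_eq_mul, mul_one,
      (ZMod.natCast_eq_zero_iff _ _).2 hR1card, zero_add] at h
    have e2 : ((R2.card * 2 : ℕ) : ZMod 4) = ((2 : ℕ) : ZMod 4) := by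
      push_cast
      rw [← h]
      push_cast
      have : ((Nat.card {x : G // orderOf x = 2} : ℕ) : ZMod 4) = ((1 : ℕ) : ZMod 4) := by
        rw [ZMod.natCast_eq_natCast_iff', ht]
      rw [this]; rfl
    rw [ZMod.natCast_eq_natCast_iff'] at e2
    rw [Nat.odd_iff]
    omega
  -- all characters of degree two
  let D := {χ : Cfsg.IrrCharacter G // Cfsg.charDegree (χ : G → ℂ) = 2}
  have hDodd : Odd (Nat.card D) := by
    let σ : Equiv.Perm D := Function.Involutive.toPerm
      (fun χ => ⟨⟨_, isIrrCharacter_conjChar χ.1.2⟩, by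
        show ⌊((starRingEnd ℂ) ((χ.1 : G → ℂ) 1)).re⌋₊ = 2
        rw [Complex.conj_re]; exact χ.2⟩)
      (fun χ => Subtype.ext (Subtype.ext (funext fun g => Complex.conj_conj _)))
    have hσ1 : σ ^ 2 ^ 1 = 1 := by
      ext χ : 1
      rw [pow_one, pow_two, Equiv.Perm.mul_apply, Equiv.Perm.one_apply]
      exact Function.Involutive.toPerm_involutive _ χ
    have h1 := Equiv.Perm.card_compl_support_modEq (p := 2) hσ1
    have h2 : σ.supportᶜ.card = R2.card := by
      rw [← Nat.card_eq_finsetCard, ← Nat.card_eq_finsetCard]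
      refine Nat.card_congr ⟨fun χ => ⟨χ.1.1, ?_⟩, fun χ => ⟨⟨χ.1, (Finset.mem_filter.1 χ.2).2.1⟩, ?_⟩,
        fun χ => rfl, fun χ => rfl⟩
      · have h := χ.2
        rw [Finset.mem_compl, Equiv.Perm.notMem_support] at h
        exact Finset.mem_filter.2 ⟨Finset.mem_univ _, χ.1.2,
          fun g => congrFun (congrArg (fun s : D => (s.1 : G → ℂ)) h) g⟩
      · rw [Finset.mem_compl, Equiv.Perm.notMem_support]
        exact Subtype.ext (Subtype.ext (funext (Finset.mem_filter.1 χ.2).2.2))
    rw [h2] at h1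
    rw [Nat.odd_iff, Nat.card_eq_fintype_card, ← h1]
    exact Nat.odd_iff.1 hR2odd
  -- a fixed point of multiplication by linear characters
  have hmul : ∀ (φ : G →* ℂˣ) (χ : D), Cfsg.IsIrrCharacter G (fun g => ((φ g : ℂˣ) : ℂ) * (χ.1 : G → ℂ) g) ∧
      Cfsg.charDegree (fun g => ((φ g : ℂˣ) : ℂ) * (χ.1 : G → ℂ) g) = 2 := by
    intro φ χ
    have hc : Cfsg.IsCharacter G (fun g => ((φ g : ℂˣ) : ℂ) * (χ.1 : G → ℂ) g) :=
      isCharacter_mul (isCharacter_of_irr (isIrrCharacter_linear φ)) (isCharacter_of_irr χ.1.2)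
    refine ⟨irr_of_char_norm_one hc ?_, ?_⟩
    · rw [← classInner_irr_self χ.1.2]
      simp only [Cfsg.classInner]
      congr 1
      refine Finset.sum_congr rfl fun g _ => ?_
      have hnorm : ‖((φ g : ℂˣ) : ℂ)‖ = 1 := Complex.norm_eq_one_of_pow_eq_one (n := Nat.card G)
        (by rw [← Units.val_pow_eq_pow_val, ← map_pow, pow_card_eq_one', map_one, Units.val_one]) Nat.card_pos.ne'
      rw [map_mul, mul_mul_mul_comm, Complex.mul_conj', hnorm]
      simp
    · show ⌊(((φ 1 : ℂˣ) : ℂ) * (χ.1 : G → ℂ) 1).re⌋₊ = 2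
      rw [map_one, Units.val_one, one_mul]; exact χ.2
  letI : MulAction (G →* ℂˣ) D :=
    { smul := fun φ χ => ⟨⟨_, (hmul φ χ).1⟩, (hmul φ χ).2⟩
      one_smul := fun χ => Subtype.ext (Subtype.ext (funext fun g => by
        show ((((1 : G →* ℂˣ) g) : ℂˣ) : ℂ) * (χ.1 : G → ℂ) g = _
        simp))
      mul_smul := fun φ ψ χ => Subtype.ext (Subtype.ext (funext fun g => by
        show (((φ * ψ) g : ℂˣ) : ℂ) * (χ.1 : G → ℂ) g = ((φ g : ℂˣ) : ℂ) * (((ψ g : ℂˣ) : ℂ) * (χ.1 : G → ℂ) g)
        rw [MonoidHom.mul_apply, Units.val_mul, mul_assoc])) }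
  have hL : IsPGroup 2 (G →* ℂˣ) := hA2.of_injective (eA : (G →* ℂˣ) →* Abelianization G) eA.injective
  obtain ⟨χ, hχ⟩ := hL.nonempty_fixed_point_of_prime_not_dvd_card D (by
    rw [← even_iff_two_dvd, Nat.not_even_iff_odd]; exact hDodd)
  have hvan : ∀ g ∉ commutator G, (χ.1 : G → ℂ) g = 0 := by
    intro g hg
    have hne : Abelianization.of g ≠ 1 := fun h => hg (by
      rw [← Abelianization.ker_of]; exact h)
    obtain ⟨φ, hφ⟩ := CommGroup.exists_apply_ne_one_of_hasEnoughRootsOfUnity (Abelianization G) ℂ hne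
    have h := congrFun (congrArg (fun s : D => (s.1 : G → ℂ)) (hχ (φ.comp Abelianization.of))) g
    change ((φ (Abelianization.of g) : ℂˣ) : ℂ) * (χ.1 : G → ℂ) g = (χ.1 : G → ℂ) g at h
    have h2 : (((φ (Abelianization.of g) : ℂˣ) : ℂ) - 1) * (χ.1 : G → ℂ) g = 0 := by
      rw [sub_mul, one_mul, h, sub_self]
    exact (mul_eq_zero.1 h2).resolve_left (sub_ne_zero.2 fun e => hφ (Units.ext e))
  have hle4 : (commutator G).index ≤ 4 := by
    have h := classInner_irr_self χ.1.2
    simp only [Cfsg.classInner] at h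
    rw [inv_mul_eq_iff_eq_mul₀ (Nat.cast_ne_zero.2 Nat.card_pos.ne'), mul_one] at h
    have h2 := congrArg Complex.re h
    rw [Complex.re_sum, Complex.natCast_re,
      ← Finset.sum_subset (Finset.subset_univ (Finset.univ.filter fun g : G => g ∈ commutator G))
        (fun g _ hg => by rw [hvan g (by simpa using hg)]; simp)] at h2
    have hb : ∀ g ∈ Finset.univ.filter (fun g : G => g ∈ commutator G),
        ((χ.1 : G → ℂ) g * (starRingEnd ℂ) ((χ.1 : G → ℂ) g)).re ≤ 4 := by
      intro g _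
      have h1 := norm_char_le (isCharacter_of_irr χ.1.2) g
      rw [hdeg, χ.2, Complex.norm_natCast] at h1
      rw [Complex.mul_conj', ← Complex.ofReal_pow, Complex.ofReal_re]
      have := norm_nonneg ((χ.1 : G → ℂ) g)
      push_cast at h1
      nlinarith
    have h3 := h2.symm.le.trans (Finset.sum_le_card_nsmul _ _ _ hb)
    rw [nsmul_eq_mul, show (Finset.univ.filter fun g : G => g ∈ commutator G).card = Nat.card (commutator G)
      from (Nat.subtype_card _ (fun g => by simp)).symm] at h3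
    have h4 : Nat.card G ≤ Nat.card (commutator G) * 4 := by exact_mod_cast h3
    rw [← Subgroup.card_mul_index (commutator G)] at h4
    exact Nat.le_of_mul_le_mul_left h4 Nat.card_pos
  have hge4 : 4 ≤ (commutator G).index := by
    rw [hidx]
    exact (Nat.le_of_dvd (Nat.card_pos_iff.2 ⟨⟨⟨1, one_pow 2⟩⟩, inferInstance⟩) h4A).trans
      (Nat.card_le_card_of_injective _ Subtype.val_injective)
  omega

end Cfsg.Agent.S4477
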