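import Cfsg.Statements.S5106
import Cfsg.Agent.Lib.Fusion.Normal
-- import your own Cfsg.Agent.* helpers here

set_option autoImplicit false
open Cfsg

namespace Cfsg.Agent.S5106

/-- In a saturated fusion system over a finite p-group S, a subgroup R ≤ S is normal in the system if and only if every map of the system whose source is a subgroup of R is the restriction of an element of Aut_F(R). -/
theorem result {Ω : Type*} [Group Ω] {S : Subgroup Ω} [Finite S] (p : ℕ) [Fact p.Prime] (hS : IsPGroup p S) (F : Cfsg.FusionSystem S) (hF : F.IsSaturated p) (R : Subgroup Ω) (hRS : R ≤ S) : F.IsNormal R ↔ ∀ (P : Subgroup Ω) (hPR : P ≤ R) (φ : P →* Ω), φ ∈ F.Hom P → ∃ α ∈ F.autGroup R, ∀ x : P, ((α (Subgroup.inclusion hPR x) : R) : Ω) = φ x := by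
  constructor
  · intro h P hPR φ hφ
    obtain ⟨ψ, hψ, hψe, hψR⟩ := h.2 P φ hφ
    have hsup : R ≤ P ⊔ R := le_sup_right
    have hr : (ψ.comp (Subgroup.inclusion hsup)).range = R := by
      refine Eq.trans ?_ hψR
      ext y
      exact ⟨fun ⟨x, hx⟩ => ⟨Subgroup.inclusion hsup x, x.2, hx⟩,
        fun ⟨x, hx, he⟩ => ⟨⟨x, hx⟩, he⟩⟩
    exact ⟨_, F.isoOf_mem_autGroup (F.restrict_mem hψ hsup) hr, hψe⟩
  · intro h
    have := Cfsg.FusionSystem.finite_of_le hRS
    have : Group.IsNilpotent R := (hS.to_le hRS).isNilpotent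
    obtain ⟨n, hn⟩ := Group.IsNilpotent.nilpotent R
    let Z : ℕ → Subgroup Ω := fun i => (Subgroup.upperCentralSeries R i).map R.subtype
    refine hF.isNormal_of_series hS (fun i : Fin (n + 1) => Z i) ?_ ?_ ?_ fun i => ⟨⟨?_, ?_⟩, ?_⟩
    · show Z 0 = ⊥
      simp [Z, Subgroup.upperCentralSeries_zero]
    · show Z n = R
      simp [Z, hn, ← MonoidHom.range_eq_map]
    · intro i j hij
      exact Subgroup.map_mono (Subgroup.upperCentralSeries_mono _ hij)
    · exact (Subgroup.map_subtype_le _).trans hRS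
    · intro P hP φ hφ x
      have hPR : P ≤ R := hP.trans (Subgroup.map_subtype_le _)
      obtain ⟨α, -, he⟩ := h P hPR φ hφ
      obtain ⟨y, hy, hye⟩ := hP x.2
      rw [← he x, show (Subgroup.inclusion hPR x : R) = y from Subtype.ext hye.symm]
      exact ⟨α y, (Subgroup.characteristic_iff_map_eq.mp inferInstance α).le ⟨y, hy, rfl⟩, rfl⟩
    · refine Subgroup.commutator_le.mpr fun a ha b hb => ?_
      obtain ⟨y, hy, rfl⟩ := hb
      have h1 := (Subgroup.mem_upperCentralSeries_succ_iff.mp hy) ⟨a, ha⟩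
      exact ⟨_, inv_mem h1, by simp [commutatorElement_def, mul_assoc]⟩

end Cfsg.Agent.S5106
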