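import Cfsg.Statements.S5290
import Cfsg.Agent.Lib.Fusion.Inner
import Cfsg.Agent.S5106
-- import your own Cfsg.Agent.* helpers here

set_option autoImplicit false
open Cfsg

namespace Cfsg.Agent.S5290

/-- Let F be a saturated fusion system over a finite p-group S and Q a subgroup of S. Then Q is normal in F (F = N_F(Q)) if and only if the inner fusion system of Q, consisting of the conjugations by elements of Q on subgroups of Q, is a weakly normal subsystem of F (both saturated, Q strongly closed, invariant under F-conjugation, with the Frattini property). -/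
theorem result {Ω : Type*} [Group Ω] {S : Subgroup Ω} [Finite S] (p : ℕ) [Fact p.Prime] (hS : IsPGroup p S)
    (F : Cfsg.FusionSystem S) (hF : F.IsSaturated p)
    (Q : Subgroup Ω) (hQ : Q ≤ S) :
    F.IsNormal Q ↔ (Cfsg.innerFusionSystem Q).IsWeaklyNormalIn F p := by
  have hQp : IsPGroup p Q := hS.to_le hQ
  have := Cfsg.FusionSystem.finite_of_le hQ
  have hsub : (Cfsg.innerFusionSystem Q).IsSubsystemOf F := by
    rintro P φ ⟨hP, g, hg, he⟩
    exact F.mem_of_apply_eq (F.conj_mem (hP.trans hQ) (hQ hg)) he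
  constructor
  · intro h
    refine ⟨Cfsg.FusionSystem.innerFusionSystem_isSaturated Q p hQp, hF, hsub, h.stronglyClosed, ?_, ?_⟩
    · rintro P hP φ ⟨-, g, hg, he⟩ α hα
      refine ⟨Cfsg.conjHom _ ((α ⟨g, hg⟩ : Q) : Ω), ⟨?_, _, SetLike.coe_mem _, fun _ => rfl⟩,
        fun x hφx hαx => ?_⟩
      · rintro _ ⟨x, -, rfl⟩
        exact (α x).2
      · show ((α ⟨g, hg⟩ : Q) : Ω) * ((α ⟨x, hP x.2⟩ : Q) : Ω) * ((α ⟨g, hg⟩ : Q) : Ω)⁻¹ = _
        rw [show (⟨φ x, hφx⟩ : Q) = ⟨g, hg⟩ * ⟨x, hP x.2⟩ * ⟨g, hg⟩⁻¹ from Subtype.ext (he x)]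
        simp only [map_mul, map_inv, Subgroup.coe_mul, InvMemClass.coe_inv]
    · intro P hP φ hφ
      obtain ⟨α, hα, hαe⟩ := (Cfsg.Agent.S5106.result p hS F hF Q hQ).mp h P hP φ hφ
      exact ⟨α, hα, P.subtype, (Cfsg.innerFusionSystem Q).id_mem hP, fun x hx => (hαe x).symm⟩
  · rintro ⟨-, -, -, hsc, -, hfr⟩
    refine (Cfsg.Agent.S5106.result p hS F hF Q hQ).mpr fun P hP φ hφ => ?_
    obtain ⟨α, hα, φ₀, hφ₀, he⟩ := hfr P hP φ hφ
    obtain ⟨hP', g, hg, hge⟩ := hφ₀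
    have hgN : g ∈ Subgroup.normalizer (Q : Set Ω) := Subgroup.le_normalizer hg
    refine ⟨α * Q.normalizerMonoidHom ⟨g, hgN⟩, (F.autGroup Q).mul_mem hα
      (Cfsg.FusionSystem.autInducedBy_le_autGroup hQ
        (Cfsg.mem_autInducedBy_iff.mpr ⟨g, hQ hg, hgN, fun _ => rfl⟩)), fun x => ?_⟩
    rw [he x (by rw [hge]; exact Q.mul_mem (Q.mul_mem hg (hP x.2)) (Q.inv_mem hg))]
    rw [MulAut.mul_apply]
    congr 2
    exact Subtype.ext (hge x).symm

end Cfsg.Agent.S5290
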