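import Cfsg.Statements.S5337
import Cfsg.Agent.Lib.Fusion.Inner
-- import your own Cfsg.Agent.* helpers here

set_option autoImplicit false
open Cfsg

namespace Cfsg.Agent.S5337

/-- Let F be a saturated fusion system over a finite abelian p-group S. Then F is simple if and only if S has order p and F is the inner system of S (whose only maps are the inclusions, S being abelian). -/
theorem result {Ω : Type*} [Group Ω] {S : Subgroup Ω} [Finite S] (p : ℕ) [Fact p.Prime] (hS : IsPGroup p S) (F : Cfsg.FusionSystem S) (hF : F.IsSaturated p) (hab : ∀ x ∈ S, ∀ y ∈ S, x * y = y * x) : F.IsSimple p ↔ (Nat.card S = p ∧ ∀ P : Subgroup Ω, F.Hom P = (Cfsg.innerFusionSystem S).Hom P) := by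
  have hcen : ∀ P, P ≤ S → ∀ α ∈ Cfsg.autInducedBy S P, α = 1 := by
    intro P hP α hα
    obtain ⟨g, hg, -, he⟩ := Cfsg.mem_autInducedBy_iff.mp hα
    ext x
    rw [he x, hab g hg x (hP x.2), mul_inv_cancel_right]
    rfl
  constructor
  · intro hs
    obtain ⟨-, hS1, hmin⟩ := hs
    have hno : ∀ P, ¬ F.IsEssential p P := fun P hP =>
      (hP.lt hS hF).not_ge fun s hs => hP.1.centralizerIn_le_self
        ⟨hs, Subgroup.mem_centralizer_iff.mpr fun x hx => hab x (hP.1.1 hx) s hs⟩
    have hnormal : F.IsNormal S := hF.isNormal_of_invariant hS fun P hP => by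
      rcases hP with rfl | hP
      · refine ⟨le_rfl, fun α _ => ?_⟩
        rw [Subgroup.subgroupOf_self]
        exact Subgroup.map_top_of_surjective _ α.surjective
      · exact absurd hP (hno P)
    -- the inner system on a strongly closed subgroup is a normal subsystem
    have hnorm : ∀ P, F.Hom P = (Cfsg.innerFusionSystem S).Hom P := by
      suffices hN : (Cfsg.innerFusionSystem S).IsNormalIn F p by
        rcases hmin S _ hN with h | ⟨-, h⟩
        · exact absurd h hS1
        · exact fun P => (h P).symm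
      have hinn : ∀ (P : Subgroup Ω) (φ : P →* Ω), φ ∈ (Cfsg.innerFusionSystem S).Hom P →
          P ≤ S ∧ ∀ x : P, φ x = x := by
        rintro P φ ⟨hP, g, hg, he⟩
        exact ⟨hP, fun x => by rw [he, hab g hg x (hP x.2), mul_inv_cancel_right]⟩
      refine ⟨⟨Cfsg.FusionSystem.innerFusionSystem_isSaturated S p hS, hF,
        Cfsg.FusionSystem.innerFusionSystem_le F, hnormal.stronglyClosed, ?_, ?_⟩, ?_⟩
      · intro P hP φ hφ α hα
        have hle : (P.subgroupOf S).map (S.subtype.comp α.toMonoidHom) ≤ S := by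
          rintro _ ⟨x, -, rfl⟩
          exact (α x).2
        refine ⟨_, (Cfsg.innerFusionSystem S).id_mem hle, fun x hφx hαx => ?_⟩
        show ((α ⟨x, hP x.2⟩ : S) : Ω) = _
        congr 2
        exact Subtype.ext ((hinn P φ hφ).2 x).symm
      · intro P hP φ hφ
        obtain ⟨ψ, hψ, hψe, hψS⟩ := hnormal.2 P φ hφ
        have hsup : S ≤ P ⊔ S := le_sup_right
        have hr : (ψ.comp (Subgroup.inclusion hsup)).range = S := by
          refine Eq.trans ?_ hψS
          ext y
          exact ⟨fun ⟨x, hx⟩ => ⟨Subgroup.inclusion hsup x, x.2, hx⟩,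
            fun ⟨x, hx, he⟩ => ⟨⟨x, hx⟩, he⟩⟩
        exact ⟨_, F.isoOf_mem_autGroup (F.restrict_mem hψ hsup) hr, P.subtype,
          (Cfsg.innerFusionSystem S).id_mem hP, fun x hx => (hψe x).symm⟩
      · intro α hα
        rw [Cfsg.FusionSystem.autGroup_innerFusionSystem le_rfl] at hα
        refine ⟨1, one_mem _, fun x => ?_, fun c _ => ?_⟩
        · rw [hcen S le_rfl α hα]
          rfl
        · show (c : Ω)⁻¹ * (c : Ω) ∈ _
          rw [inv_mul_cancel]
          exact one_mem _
    refine ⟨?_, hnorm⟩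
    -- a subgroup of order `p` is then a normal subsystem
    have : Nontrivial S := (Subgroup.nontrivial_iff_ne_bot S).mpr hS1
    obtain ⟨k, hk, hc⟩ := hS.nontrivial_iff_card.mp this
    obtain ⟨x, hx⟩ := exists_prime_orderOf_dvd_card' (G := S) p (hc ▸ dvd_pow_self p (by omega))
    let T : Subgroup Ω := Subgroup.zpowers (x : Ω)
    have hTS : T ≤ S := Subgroup.zpowers_le.mpr x.2
    have hTc : Nat.card T = p := by
      rw [Nat.card_zpowers, ← hx]
      exact Subgroup.orderOf_coe x
    have hTp : IsPGroup p T := hS.to_le hTS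
    have := Cfsg.FusionSystem.finite_of_le hTS
    have hid : ∀ (P : Subgroup Ω) (φ : P →* Ω), φ ∈ F.Hom P → ∀ y : P, φ y = y := by
      intro P φ hφ y
      rw [hnorm] at hφ
      obtain ⟨hP, g, hg, he⟩ := hφ
      rw [he, hab g hg y (hP y.2), mul_inv_cancel_right]
    have hsub : (Cfsg.innerFusionSystem T).IsSubsystemOf F := by
      rintro P φ ⟨hP, g, hg, he⟩
      rw [hnorm]
      exact ⟨hP.trans hTS, g, hTS hg, he⟩
    have hsc : F.StronglyClosed T := ⟨hTS, fun R hR φ hφ y => (hid R φ hφ y).symm ▸ hR y.2⟩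
    have haut : ∀ P, P ≤ S → ∀ α ∈ F.autGroup P, α = 1 := by
      intro P hP α hα
      obtain ⟨φ, hφ, -, he⟩ := F.exists_map_of_mem_autGroup hP hα
      ext y
      rw [← he, hid P φ hφ]
      rfl
    have hN : (Cfsg.innerFusionSystem T).IsNormalIn F p := by
      refine ⟨⟨Cfsg.FusionSystem.innerFusionSystem_isSaturated T p hTp, hF, hsub, hsc, ?_, ?_⟩, ?_⟩
      · intro P hP φ hφ α hα
        have hle : (P.subgroupOf T).map (T.subtype.comp α.toMonoidHom) ≤ T := by
          rintro _ ⟨y, -, rfl⟩
          exact (α y).2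
        refine ⟨_, (Cfsg.innerFusionSystem T).id_mem hle, fun y hφy hαy => ?_⟩
        show ((α ⟨y, hP y.2⟩ : T) : Ω) = _
        congr 2
        exact Subtype.ext (hid P φ (hsub P hφ) y).symm
      · intro P hP φ hφ
        exact ⟨1, one_mem _, P.subtype, (Cfsg.innerFusionSystem T).id_mem hP, fun y _ => hid P φ hφ y⟩
      · intro α hα
        have hα' : α = 1 := by
          rw [Cfsg.FusionSystem.autGroup_innerFusionSystem le_rfl] at hα
          refine haut T hTS α ?_
          exact Cfsg.FusionSystem.autInducedBy_le_autGroup hTS (Cfsg.autInducedBy_mono hTS hα)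
        refine ⟨1, one_mem _, fun y => ?_, fun c _ => ?_⟩
        · rw [hα']
          rfl
        · show (c : Ω)⁻¹ * (c : Ω) ∈ _
          rw [inv_mul_cancel]
          exact one_mem _
    rcases hmin T _ hN with h | ⟨h, -⟩
    · have h1 : (p : ℕ) = 1 := by rw [← hTc, h, Subgroup.card_bot]
      exact absurd h1 (Fact.out : p.Prime).one_lt.ne'
    · rw [← h, hTc]
  · rintro ⟨hc, hinner⟩
    have hS1 : S ≠ ⊥ := fun h => by
      rw [h, Subgroup.card_bot] at hc
      exact (Fact.out : p.Prime).one_lt.ne hc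
    refine Cfsg.FusionSystem.isSimple_of_autGroup_eq_inn hF hS1 ?_ fun T hT => ?_
    · refine hF.autGroup_self_eq_inn hS ?_
      have he : F.autGroup S = (Cfsg.innerFusionSystem S).autGroup S := by
        rw [Cfsg.FusionSystem.autGroup, Cfsg.FusionSystem.autGroup, hinner]
      rw [he, Cfsg.FusionSystem.autGroup_innerFusionSystem le_rfl]
      exact Cfsg.isPGroup_autInducedBy hS
    · have h1 : Nat.card (T.subgroupOf S) ∣ p := hc ▸ Subgroup.card_subgroup_dvd_card _
      rcases (Nat.dvd_prime (Fact.out : p.Prime)).mp h1 with h | h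
      · left
        rw [Nat.card_congr (Subgroup.subgroupOfEquivOfLe hT.1).toEquiv] at h
        exact Subgroup.eq_bot_of_card_eq T h
      · right
        have := Subgroup.eq_top_of_card_eq (T.subgroupOf S) (h.trans hc.symm)
        exact le_antisymm hT.1 (Subgroup.subgroupOf_eq_top.mp this)

end Cfsg.Agent.S5337
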