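import Cfsg.Statements.S4866
import Cfsg.Agent.Lib.CharTheory.Fixed
import Cfsg.Agent.Lib.CharTheory.Clifford
import Mathlib.GroupTheory.GroupAction.Quotient
import Mathlib.Tactic.Group

set_option autoImplicit false
open Cfsg

namespace Cfsg.Agent.S4866

variable {G : Type*} [Group G] [Finite G] (K : Subgroup G) [K.Normal]

/-- An element acts on real characters and on real classes with equally many fixed points. -/
theorem card_real_fixed (hodd : Odd K.index) (g : G) :
    Nat.card {θ : Cfsg.IrrCharacter K // (∀ k, ((θ : K → ℂ) k).im = 0) ∧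
      ∀ k, (θ : K → ℂ) (MulAut.conjNormal g k) = (θ : K → ℂ) k} =
    Nat.card {C : ConjClasses K // ∃ x : K, ConjClasses.mk x = C ∧ IsConj x x⁻¹ ∧
      IsConj (MulAut.conjNormal g x) x} := by
  have := Fintype.ofFinite K
  obtain ⟨r, hr⟩ := hodd
  have hm : g ^ (2 * r + 1) ∈ K := hr ▸ K.pow_index_mem g
  let c : K ≃* K := MulAut.conjNormal g
  let π : ConjClasses K → ConjClasses K :=
    Quotient.map' (fun x => c x⁻¹) fun a b hab => by
      obtain ⟨k, hk⟩ := isConj_iff.mp (hab : IsConj a b)
      exact isConj_iff.mpr ⟨c k, by rw [← map_inv, ← map_mul, ← map_mul, ← hk]; congr 1; group⟩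
  let τ : Cfsg.IrrCharacter K → Cfsg.IrrCharacter K := fun θ =>
    ⟨fun k => (starRingEnd ℂ) ((θ : K → ℂ) (c k)),
      CfsgLib.CharTheory.isIrrCharacter_conjChar
        (CfsgLib.CharTheory.isIrrCharacter_comp_surjective θ.2 c.toMonoidHom c.surjective)⟩
  have hτ : ∀ (θ : Cfsg.IrrCharacter K) (x x' : K), ConjClasses.mk x' = π (ConjClasses.mk x) →
      (τ θ : K → ℂ) x = (θ : K → ℂ) x' := by
    intro θ x x' hx
    show (starRingEnd ℂ) ((θ : K → ℂ) (c x)) = _
    rw [CfsgLib.CharTheory.isClassFunction_iff_isConj.mp (CfsgLib.CharTheory.isClassFunction_irr θ.2) x'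
      (c x⁻¹) (ConjClasses.mk_eq_mk_iff_isConj.mp hx), map_inv,
      CfsgLib.CharTheory.char_apply_inv (CfsgLib.CharTheory.isCharacter_of_irr θ.2)]
  -- powers of `c` of exponent `2 r + 1` are inner
  have hinner : ∀ k : K, IsConj k ((c ^ (2 * r + 1) : MulAut K) k) := fun k => by
    rw [show c = MulAut.conjNormal g from rfl, ← map_pow]
    refine isConj_iff.mpr ⟨⟨_, hm⟩, Subtype.ext ?_⟩
    rw [MulAut.conjNormal_apply]
    rfl
  refine (Nat.card_congr (Equiv.subtypeEquivRight fun θ => ?_)).trans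
    ((CfsgLib.CharTheory.card_fixed_irr_eq_card_fixed_classes π τ hτ).trans
      (Nat.card_congr (Equiv.subtypeEquivRight fun C => ?_)))
  · constructor
    · rintro ⟨hreal, hfix⟩
      refine Subtype.ext (funext fun k => ?_)
      show (starRingEnd ℂ) ((θ : K → ℂ) (c k)) = _
      rw [hfix k]
      exact Complex.conj_eq_iff_im.mpr (hreal k)
    · intro he
      have h1 : ∀ k, (θ : K → ℂ) (c k) = (starRingEnd ℂ) ((θ : K → ℂ) k) := fun k => by
        have := congrArg (starRingEnd ℂ) (congrFun (congrArg Subtype.val he) k)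
        simpa [τ] using this
      have h2 : ∀ k, (θ : K → ℂ) ((c ^ 2 : MulAut K) k) = (θ : K → ℂ) k := fun k => by
        rw [pow_two, MulAut.mul_apply, h1, h1, Complex.conj_conj]
      have h3 : ∀ i, ∀ k, (θ : K → ℂ) ((c ^ (2 * i) : MulAut K) k) = (θ : K → ℂ) k := by
        intro i
        induction i with
        | zero => intro k; simp
        | succ i ih => intro k; rw [Nat.mul_succ, pow_add, MulAut.mul_apply, ih, h2]
      have h4 : ∀ k, (θ : K → ℂ) (c k) = (θ : K → ℂ) k := fun k => by
        rw [← h3 r (c k), ← MulAut.mul_apply, ← pow_succ]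
        exact (CfsgLib.CharTheory.isClassFunction_iff_isConj.mp
          (CfsgLib.CharTheory.isClassFunction_irr θ.2) _ _ (hinner k)).symm
      exact ⟨fun k => Complex.conj_eq_iff_im.mp (by rw [← h1, h4]), h4⟩
  · obtain ⟨x, rfl⟩ := ConjClasses.mk_surjective C
    have hπ : π (ConjClasses.mk x) = ConjClasses.mk (c x⁻¹) := rfl
    constructor
    · intro he
      rw [hπ, ConjClasses.mk_eq_mk_iff_isConj] at he
      have hmapc : ∀ {a b : K} (i : ℕ), IsConj a b → IsConj ((c ^ i : MulAut K) a) ((c ^ i : MulAut K) b) :=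
        fun {a b} i hab => by
          obtain ⟨k, hk⟩ := isConj_iff.mp hab
          exact isConj_iff.mpr ⟨(c ^ i : MulAut K) k, by rw [← hk, map_mul, map_mul, map_inv]⟩
      have h1 : IsConj (c x) x⁻¹ := by
        obtain ⟨k, hk⟩ := isConj_iff.mp he
        refine isConj_iff.mpr ⟨k, ?_⟩
        rw [map_inv] at hk
        calc k * c x * k⁻¹ = (k * (c x)⁻¹ * k⁻¹)⁻¹ := by group
          _ = x⁻¹ := by rw [hk]
      have h2 : IsConj ((c ^ 2 : MulAut K) x) x := by
        have h := hmapc 1 h1
        rw [pow_one] at h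
        rw [pow_two, MulAut.mul_apply]
        exact h.trans he
      have h3 : ∀ i, IsConj ((c ^ (2 * i) : MulAut K) x) x := by
        intro i
        induction i with
        | zero => rw [mul_zero, pow_zero]; exact IsConj.refl x
        | succ i ih => rw [Nat.mul_succ, pow_add, MulAut.mul_apply]; exact (hmapc _ h2).trans ih
      have h4 : IsConj (c x) x := by
        have h := hmapc 1 (h3 r)
        rw [pow_one, ← MulAut.mul_apply, ← pow_succ'] at h
        exact h.symm.trans (hinner x).symm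
      exact ⟨x, rfl, h4.symm.trans h1, h4⟩
    · rintro ⟨y, hy, hyr, hyf⟩
      rw [hπ, ConjClasses.mk_eq_mk_iff_isConj]
      rw [ConjClasses.mk_eq_mk_iff_isConj] at hy
      obtain ⟨k, hk⟩ := isConj_iff.mp hy
      obtain ⟨a, ha⟩ := isConj_iff.mp hyr
      obtain ⟨b, hb⟩ := isConj_iff.mp hyf
      have e1 : IsConj (c x⁻¹) (c y⁻¹) := isConj_iff.mpr ⟨(c k)⁻¹, by
        rw [← hk]; simp only [map_inv, map_mul]; group⟩
      have e2 : IsConj (c y⁻¹) y⁻¹ := isConj_iff.mpr ⟨b, by
        rw [map_inv, show b * (c y)⁻¹ * b⁻¹ = (b * c y * b⁻¹)⁻¹ by group, show c y = MulAut.conjNormal g y from rfl, hb]⟩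
      exact e1.trans (e2.trans (hyr.symm.trans hy))

/-- Let K be a normal subgroup of odd index in the finite group G. Then G has as many orbits on the real-valued irreducible complex characters of K (acting by conjugation) as it has orbits on the conjugacy classes of K that are real in K; equivalently, the number of G-orbits of real-valued irreducible characters of K equals the number of G-conjugacy classes of elements of K that are conjugate in K to their inverses. -/
theorem result {G : Type*} [Group G] [Finite G] (K : Subgroup G) [K.Normal] (hodd : Odd K.index) : Nat.card (Quot (fun θ η : {θ : Cfsg.IrrCharacter ↥K // (∀ k : ↥K, ((θ : ↥K → ℂ) k).im = 0)} => ∃ g : G, ∀ k k' : ↥K, (k' : G) = g * (k : G) * g⁻¹ → (η.1 : ↥K → ℂ) k' = (θ.1 : ↥K → ℂ) k)) = Nat.card (Quot (fun x y : {x : ↥K // IsConj x x⁻¹} => ∃ g : G, (y.1 : G) = g * x.1 * g⁻¹)) := by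
  classical
  have := Fintype.ofFinite G
  have := Fintype.ofFinite K
  have hhom : ∀ (g h : G) (k : K), (MulAut.conjNormal (g * h) : MulAut K) k =
      MulAut.conjNormal g (MulAut.conjNormal h k : K) := fun g h k => by rw [map_mul]; rfl
  -- the two actions
  let R₁ := {θ : Cfsg.IrrCharacter ↥K // (∀ k : ↥K, ((θ : ↥K → ℂ) k).im = 0)}
  let a₁ : MulAction G R₁ :=
    { smul := fun g θ => ⟨⟨fun k => (θ.1 : K → ℂ) (MulAut.conjNormal g⁻¹ k),
          CfsgLib.CharTheory.isIrrCharacter_comp_surjective θ.1.2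
            (MulAut.conjNormal g⁻¹ : K ≃* K).toMonoidHom (MulAut.conjNormal g⁻¹ : K ≃* K).surjective⟩,
        fun k => θ.2 _⟩
      one_smul := fun θ => Subtype.ext (Subtype.ext (funext fun k => by
        show (θ.1 : K → ℂ) ((MulAut.conjNormal (1 : G)⁻¹ : MulAut K) k) = _
        simp))
      mul_smul := fun g h θ => Subtype.ext (Subtype.ext (funext fun k => by
        show (θ.1 : K → ℂ) ((MulAut.conjNormal (g * h)⁻¹ : MulAut K) k) =
          (θ.1 : K → ℂ) (MulAut.conjNormal h⁻¹ ((MulAut.conjNormal g⁻¹ : MulAut K) k))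
        rw [mul_inv_rev, hhom])) }
  let R₂ := {C : ConjClasses K // ∃ x : K, ConjClasses.mk x = C ∧ IsConj x x⁻¹}
  have hmapr : ∀ (g : G) (x : K), IsConj x x⁻¹ →
      IsConj (MulAut.conjNormal g x : K) (MulAut.conjNormal g x : K)⁻¹ := fun g x hx => by
    obtain ⟨k, hk⟩ := isConj_iff.mp hx
    refine isConj_iff.mpr ⟨MulAut.conjNormal g k, ?_⟩
    rw [← map_inv, ← map_mul, ← map_mul, hk, ← map_inv]
  let cmap : G → ConjClasses K → ConjClasses K := fun g =>
    ConjClasses.map (MulAut.conjNormal g : K ≃* K).toMonoidHom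
  let a₂ : MulAction G R₂ :=
    { smul := fun g C => ⟨cmap g C.1, by
          obtain ⟨x, hx, hr⟩ := C.2
          exact ⟨MulAut.conjNormal g x, by rw [← hx]; rfl, hmapr g x hr⟩⟩
      one_smul := fun C => Subtype.ext (by
        obtain ⟨x, hx, -⟩ := C.2
        show cmap 1 C.1 = C.1
        rw [← hx]
        show ConjClasses.mk _ = ConjClasses.mk _
        simp)
      mul_smul := fun g h C => Subtype.ext (by
        obtain ⟨x, hx, -⟩ := C.2
        show cmap (g * h) C.1 = cmap g (cmap h C.1)
        rw [← hx]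
        exact congrArg ConjClasses.mk (hhom g h x)) }
  have hfix : ∀ g : G, Nat.card (MulAction.fixedBy R₁ g) = Nat.card (MulAction.fixedBy R₂ g) := by
    intro g
    refine Eq.trans ?_ ((card_real_fixed K hodd g).trans ?_)
    · refine Nat.card_congr
        { toFun := fun θ => ⟨θ.1.1, θ.1.2, fun k => ?_⟩
          invFun := fun θ => ⟨⟨θ.1, θ.2.1⟩, Subtype.ext (Subtype.ext (funext fun k => ?_))⟩
          left_inv := fun θ => rfl
          right_inv := fun θ => rfl }
      · have h1 := congrFun (congrArg (fun z : R₁ => (z.1 : K → ℂ)) θ.2) (MulAut.conjNormal g k)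
        have h2 : (θ.1.1 : K → ℂ) (MulAut.conjNormal g⁻¹ (MulAut.conjNormal g k : K)) =
            (θ.1.1 : K → ℂ) (MulAut.conjNormal g k) := h1
        rw [← hhom, inv_mul_cancel, map_one, MulAut.one_apply] at h2
        exact h2.symm
      · show (θ.1 : K → ℂ) (MulAut.conjNormal g⁻¹ k) = (θ.1 : K → ℂ) k
        rw [← θ.2.2 (MulAut.conjNormal g⁻¹ k), ← hhom, mul_inv_cancel, map_one, MulAut.one_apply]
    · refine Nat.card_congr
        { toFun := fun C => ⟨⟨C.1, let ⟨x, hx, hr, _⟩ := C.2; ⟨x, hx, hr⟩⟩, Subtype.ext ?_⟩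
          invFun := fun C => ⟨C.1.1, ?_⟩
          left_inv := fun C => rfl
          right_inv := fun C => rfl }
      · obtain ⟨x, hx, -, hf⟩ := C.2
        show cmap g C.1 = C.1
        rw [← hx]
        exact ConjClasses.mk_eq_mk_iff_isConj.mpr hf
      · obtain ⟨x, hx, hr⟩ := C.1.2
        refine ⟨x, hx, hr, ConjClasses.mk_eq_mk_iff_isConj.mp ?_⟩
        have h1 : cmap g C.1.1 = C.1.1 := congrArg Subtype.val C.2
        rw [← hx] at h1
        exact h1
  have horb : Nat.card (Quotient (MulAction.orbitRel G R₁)) = Nat.card (Quotient (MulAction.orbitRel G R₂)) := by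
    have h1 := MulAction.sum_card_fixedBy_eq_card_orbits_mul_card_group G R₁
    have : ∀ g : G, Fintype (MulAction.fixedBy R₂ g) := fun g => Fintype.ofFinite _
    have h2 := MulAction.sum_card_fixedBy_eq_card_orbits_mul_card_group G R₂
    simp only [← Nat.card_eq_fintype_card] at h1 h2
    rw [Finset.sum_congr rfl fun g _ => hfix g, h2] at h1
    exact Nat.eq_of_mul_eq_mul_right Nat.card_pos h1.symm
  refine Eq.trans ?_ (horb.trans ?_)
  · refine Nat.card_congr
      { toFun := Quot.lift (fun θ : R₁ => (⟦θ⟧ : Quotient (MulAction.orbitRel G R₁))) fun a b hab => ?_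
        invFun := Quotient.lift (fun θ : R₁ => Quot.mk _ θ) fun a b hab => ?_
        left_inv := Quot.ind fun a => rfl
        right_inv := Quotient.ind fun a => rfl }
    · obtain ⟨g, hg⟩ := hab
      refine Quotient.sound ⟨g⁻¹, Subtype.ext (Subtype.ext (funext fun k => ?_))⟩
      show (b.1 : K → ℂ) (MulAut.conjNormal g⁻¹⁻¹ k) = _
      rw [inv_inv]
      exact hg k _ (MulAut.conjNormal_apply g k)
    · obtain ⟨g, hg⟩ := (hab : a ∈ MulAction.orbit G b)
      refine Quot.sound ⟨g⁻¹, fun k k' hk => ?_⟩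
      rw [← hg]
      show (b.1 : K → ℂ) k' = (b.1 : K → ℂ) (MulAut.conjNormal g⁻¹ k)
      exact congrArg (b.1 : K → ℂ) (Subtype.ext (hk.trans (MulAut.conjNormal_apply g⁻¹ k).symm))
  · symm
    refine Nat.card_congr
      { toFun := Quot.lift (fun x : {x : K // IsConj x x⁻¹} =>
          (⟦(⟨ConjClasses.mk x.1, x.1, rfl, x.2⟩ : R₂)⟧ : Quotient (MulAction.orbitRel G R₂))) fun a b hab => ?_
        invFun := Quotient.lift (fun C : R₂ => Quot.mk _ ⟨C.2.choose, C.2.choose_spec.2⟩) fun a b hab => ?_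
        left_inv := Quot.ind fun a => ?_
        right_inv := Quotient.ind fun C => Quotient.sound (by
          refine ⟨1, (one_smul G C).trans ?_⟩
          exact Subtype.ext C.2.choose_spec.1.symm) }
    · obtain ⟨g, hg⟩ := hab
      refine Quotient.sound ⟨g⁻¹, Subtype.ext ?_⟩
      show cmap g⁻¹ (ConjClasses.mk b.1) = ConjClasses.mk a.1
      refine congrArg ConjClasses.mk (Subtype.ext ?_)
      show ((MulAut.conjNormal g⁻¹ b.1 : K) : G) = _
      rw [MulAut.conjNormal_apply, hg]; group
    · obtain ⟨g, hg⟩ := (hab : a ∈ MulAction.orbit G b)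
      set x := a.2.choose
      set y := b.2.choose
      have h1 : cmap g (ConjClasses.mk y) = ConjClasses.mk x := by
        rw [b.2.choose_spec.1, a.2.choose_spec.1]
        exact congrArg Subtype.val hg
      obtain ⟨k, hk⟩ := isConj_iff.mp (ConjClasses.mk_eq_mk_iff_isConj.mp
        (h1 : ConjClasses.mk (MulAut.conjNormal g y) = _))
      refine (Quot.sound ⟨(k : G) * g, ?_⟩).symm
      show ((x : K) : G) = (k : G) * g * (y : G) * ((k : G) * g)⁻¹
      rw [← hk]
      simp [MulAut.conjNormal_apply, mul_assoc]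
    · obtain ⟨a, ha⟩ := a
      have hsp := (⟨ConjClasses.mk a, a, rfl, ha⟩ : R₂).2.choose_spec.1
      obtain ⟨k, hk⟩ := isConj_iff.mp (ConjClasses.mk_eq_mk_iff_isConj.mp hsp)
      exact Quot.sound ⟨k, (congrArg Subtype.val hk).symm⟩

end Cfsg.Agent.S4866
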