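import Cfsg.Statements.S4444
import Cfsg.Agent.Lib.Glauberman.Ambient

set_option autoImplicit false
open Cfsg

namespace Cfsg.Agent.S4444

/-- The Glauberman correspondence for a p-group of operators. Inside a finite group Γ let S normalise G with the orders of G and S coprime, S a p-group, and let C = G ⊓ C(S) be the fixed points. Call an irreducible character χ of G S-invariant when χ(s g s⁻¹) = χ(g) for s ∈ S, g ∈ G. Then: (i) for every S-invariant χ there is exactly one irreducible character β of C whose multiplicity [χ_C, β] in the restriction of χ is not divisible by p; (ii) that multiplicity is ≡ 1 or ≡ −1 (mod p); (iii) distinct S-invariant χ give distinct β; (iv) every irreducible character of C arises in this way. So χ ↦ β is a bijection from the S-invariant irreducible characters of G onto the irreducible characters of C. -/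
theorem result {Γ : Type*} [Group Γ] [Fintype Γ] (G S : Subgroup Γ) [Fintype G] (hnorm : ∀ s ∈ S, ∀ g ∈ G, s * g * s⁻¹ ∈ G) (hcop : (Nat.card G).Coprime (Nat.card S)) (p : ℕ) (hp : p.Prime) (hS : IsPGroup p S) (C : Subgroup Γ) [Fintype C] (hC : C = G ⊓ Subgroup.centralizer (S : Set Γ)) (hCG : C ≤ G) : (∀ χ : Cfsg.IrrCharacter G, (∀ s ∈ S, ∀ g g' : G, (g' : Γ) = s * g * s⁻¹ → (χ : G → ℂ) g' = (χ : G → ℂ) g) → ∃! β : Cfsg.IrrCharacter C, ∃ m : ℕ, Cfsg.classInner (fun c : C => (χ : G → ℂ) ⟨c, hCG c.2⟩) (β : C → ℂ) = (m : ℂ) ∧ ¬ p ∣ m) ∧ (∀ χ : Cfsg.IrrCharacter G, (∀ s ∈ S, ∀ g g' : G, (g' : Γ) = s * g * s⁻¹ → (χ : G → ℂ) g' = (χ : G → ℂ) g) → ∀ β : Cfsg.IrrCharacter C, ∀ m : ℕ, Cfsg.classInner (fun c : C => (χ : G → ℂ) ⟨c, hCG c.2⟩) (β : C → ℂ) = (m : ℂ) → ¬ p ∣ m → ((m : ℤ) ≡ 1 [ZMOD p] ∨ (m : ℤ) ≡ -1 [ZMOD p])) ∧ (∀ χ χ' : Cfsg.IrrCharacter G, (∀ s ∈ S, ∀ g g' : G, (g' : Γ) = s * g * s⁻¹ → (χ : G → ℂ) g' = (χ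 : G → ℂ) g) → (∀ s ∈ S, ∀ g g' : G, (g' : Γ) = s * g * s⁻¹ → (χ' : G → ℂ) g' = (χ' : G → ℂ) g) → ∀ β : Cfsg.IrrCharacter C, ∀ m m' : ℕ, Cfsg.classInner (fun c : C => (χ : G → ℂ) ⟨c, hCG c.2⟩) (β : C → ℂ) = (m : ℂ) → ¬ p ∣ m → Cfsg.classInner (fun c : C => (χ' : G → ℂ) ⟨c, hCG c.2⟩) (β : C → ℂ) = (m' : ℂ) → ¬ p ∣ m' → χ = χ') ∧ (∀ β : Cfsg.IrrCharacter C, ∃ χ : Cfsg.IrrCharacter G, (∀ s ∈ S, ∀ g g' : G, (g' : Γ) = s * g * s⁻¹ → (χ : G → ℂ) g' = (χ : G → ℂ) g) ∧ ∃ m : ℕ, Cfsg.classInner (fun c : C => (χ : G → ℂ) ⟨c, hCG c.2⟩) (β : C → ℂ) = (m : ℂ) ∧ ¬ p ∣ m) := by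
  classical
  rename_i iG iC
  have hmult : ∀ (χ : Cfsg.IrrCharacter G) (β : Cfsg.IrrCharacter C) (m : ℕ),
      Cfsg.classInner (fun c : C => (χ : G → ℂ) ⟨c, hCG c.2⟩) (β : C → ℂ) = (m : ℂ) ↔
        CfsgLib.Glauberman.mult (Subgroup.inclusion hCG) χ β = m := by
    intro χ β m
    constructor
    · exact fun h => CfsgLib.Glauberman.mult_eq (Subgroup.inclusion hCG) χ β h
    · intro h
      rw [← h]
      exact CfsgLib.Glauberman.mult_spec (Subgroup.inclusion hCG) χ β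
  haveI hp' : Fact p.Prime := ⟨hp⟩
  by_cases hpG : p ∣ Nat.card G
  · -- then `S` is trivial
    have hS1 : S = ⊥ := by
      rw [Subgroup.eq_bot_iff_forall]
      intro s hs
      by_contra hne
      haveI : Nontrivial S := ⟨⟨⟨s, hs⟩, 1, fun e => hne (congrArg Subtype.val e)⟩⟩
      obtain ⟨n, hn, hcard⟩ := hS.nontrivial_iff_card.1 inferInstance
      have h1 := Nat.dvd_gcd hpG (hcard ▸ dvd_pow_self p hn.ne')
      rw [hcop] at h1
      exact hp.one_lt.ne' (Nat.dvd_one.1 h1)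
    obtain rfl : C = G := by
      rw [hC, hS1]
      refine le_antisymm inf_le_left (le_inf le_rfl fun g _ => ?_)
      rw [Subgroup.mem_centralizer_iff]
      intro s hs
      rw [Subgroup.mem_bot.1 hs, one_mul, mul_one]
    obtain rfl : iG = iC := Subsingleton.elim _ _
    have hδ : ∀ (χ : Cfsg.IrrCharacter C) (β : Cfsg.IrrCharacter C) (m : ℕ),
        Cfsg.classInner (fun c : C => (χ : C → ℂ) ⟨c, hCG c.2⟩) (β : C → ℂ) = (m : ℂ) →
          ¬ p ∣ m → χ = β ∧ m = 1 := by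
      intro χ β m hm hpm
      rw [show (fun c : C => (χ : C → ℂ) ⟨c, hCG c.2⟩) = (χ : C → ℂ) from rfl,
        CfsgLib.CharTheory.classInner_congr_inst _ _,
        CfsgLib.CharTheory.classInner_irr χ.2 β.2] at hm
      by_cases e : (χ : C → ℂ) = β
      · rw [if_pos e] at hm
        exact ⟨Subtype.ext e, by exact_mod_cast hm.symm⟩
      · rw [if_neg e] at hm
        have : m = 0 := by exact_mod_cast hm.symm
        exact absurd (this ▸ dvd_zero p) hpm
    have hone : ∀ χ : Cfsg.IrrCharacter C, ∃ m : ℕ,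
        Cfsg.classInner (fun c : C => (χ : C → ℂ) ⟨c, hCG c.2⟩) (χ : C → ℂ) = (m : ℂ) ∧
          ¬ p ∣ m := fun χ => ⟨1, by
      rw [show (fun c : C => (χ : C → ℂ) ⟨c, hCG c.2⟩) = (χ : C → ℂ) from rfl,
        CfsgLib.CharTheory.classInner_congr_inst _ _, CfsgLib.CharTheory.classInner_irr_self χ.2,
        Nat.cast_one], hp.not_dvd_one⟩
    refine ⟨fun χ _ => ⟨χ, hone χ, ?_⟩, ?_, ?_, fun β => ⟨β, ?_, hone β⟩⟩
    · rintro β ⟨m, hm, hpm⟩; exact (hδ χ β m hm hpm).1.symm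
    · intro χ _ β m hm hpm
      rw [(hδ χ β m hm hpm).2]; exact Or.inl rfl
    · intro χ χ' _ _ β m m' hm hpm hm' hpm'
      rw [(hδ χ β m hm hpm).1, (hδ χ' β m' hm' hpm').1]
    · intro s hs g g' e
      rw [hS1, Subgroup.mem_bot] at hs
      subst hs
      rw [show g' = g from Subtype.ext (by simpa using e)]
  obtain ⟨M, hM⟩ := CfsgLib.ZStar.exists_isPModular hp
  haveI := CfsgLib.Blocks.res_isDomain hM
  have hSet : CfsgLib.Glauberman.Setup p M (CfsgLib.Glauberman.conjHom G S hnorm)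
      (Subgroup.inclusion hCG) :=
    { hM := hM, hP := hS, hG := hpG, inj := Subgroup.inclusion_injective hCG
      fix := fun g => by
        constructor
        · rintro ⟨c, rfl⟩ s
          have h1 : (c : Γ) ∈ G ⊓ Subgroup.centralizer (S : Set Γ) := hC ▸ c.2
          apply Subtype.ext
          rw [CfsgLib.Glauberman.conjHom_coe]
          show (s : Γ) * (c : Γ) * (s : Γ)⁻¹ = (c : Γ)
          rw [Subgroup.mem_centralizer_iff.1 h1.2 s s.2, mul_inv_cancel_right]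
        · intro h
          have h1 : (g : Γ) ∈ C := by
            rw [hC]
            refine ⟨g.2, Subgroup.mem_centralizer_iff.2 fun s hs => ?_⟩
            have h2 := congrArg Subtype.val (h ⟨s, hs⟩)
            rw [CfsgLib.Glauberman.conjHom_coe] at h2
            exact mul_inv_eq_iff_eq_mul.1 h2
          exact ⟨⟨g, h1⟩, rfl⟩ }
  have hne : ∀ m : ℕ, ¬ p ∣ m ↔ (m : Cfsg.AlgInt ⧸ M) ≠ 0 := fun m =>
    not_congr (CfsgLib.Glauberman.natCast_eq_zero_iff hM m).symm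
  refine ⟨?_, ?_, ?_, ?_⟩
  · intro χ hχ
    rw [CfsgLib.Glauberman.inv_iff G S hnorm] at hχ
    obtain ⟨β, hβ, hu⟩ := hSet.exists_unique_under χ hχ
    refine ⟨β, ⟨_, (hmult χ β _).2 rfl, (hne _).2 hβ⟩, ?_⟩
    rintro β' ⟨m, hm, hpm⟩
    rw [hmult] at hm
    subst hm
    by_contra h
    exact (hne _).1 hpm (hu β' h)
  · intro χ hχ β m hm hpm
    rw [CfsgLib.Glauberman.inv_iff G S hnorm] at hχ
    rw [hmult] at hm
    subst hm
    haveI := CfsgLib.Blocks.res_charP hM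
    rcases hSet.mult_pm χ hχ β ((hne _).1 hpm) with h | h
    · left
      rw [← Int.cast_natCast (R := Cfsg.AlgInt ⧸ M), ← Int.cast_one (R := Cfsg.AlgInt ⧸ M)] at h
      exact (CharP.intCast_eq_intCast (Cfsg.AlgInt ⧸ M) p).1 h
    · right
      rw [← Int.cast_natCast (R := Cfsg.AlgInt ⧸ M), ← Int.cast_one (R := Cfsg.AlgInt ⧸ M),
        ← Int.cast_neg] at h
      exact (CharP.intCast_eq_intCast (Cfsg.AlgInt ⧸ M) p).1 h
  · intro χ χ' hχ hχ' β m m' hm hpm hm' hpm'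
    rw [CfsgLib.Glauberman.inv_iff G S hnorm] at hχ hχ'
    rw [hmult] at hm hm'
    subst hm hm'
    by_contra h
    rcases mul_eq_zero.1 (hSet.mult_disjoint hχ hχ' h β) with e | e
    · exact (hne _).1 hpm e
    · exact (hne _).1 hpm' e
  · intro β
    obtain ⟨χ, hχ, h1, -⟩ := hSet.exists_unique_over β
    refine ⟨χ, (CfsgLib.Glauberman.inv_iff G S hnorm _).2 hχ, _, (hmult χ β _).2 rfl,
      (hne _).2 fun h => ?_⟩
    rw [h, zero_mul] at h1
    exact zero_ne_one h1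

end Cfsg.Agent.S4444
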