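import Cfsg.Statements.S2999
import Cfsg.Agent.Lib.SL2Pair
import Cfsg.Agent.Lib.Basic

set_option autoImplicit false
set_option linter.unusedVariables false
open Cfsg
open scoped commutatorElement

namespace Cfsg.Agent.S2999

open CfsgLib CfsgLib.Local CfsgLib.SL2Pair
open scoped Pointwise

variable {G : Type*} [Group G] [Finite G] {p : ℕ} [Fact p.Prime]

/-- An element of `T` in every conjugate of `M` lies in the `p`-core. -/
theorem mem_pCore {H : Type*} [Group H] [Finite H] (T : Sylow p H) (M : Subgroup H) (hM : IsCoatom M)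
    (huniq : ∀ M' : Subgroup H, IsCoatom M' → (T : Subgroup H) ≤ M' → M' = M) {g : H} (hgT : g ∈ (T : Subgroup H))
    (hg : g ∈ M.normalCore) : g ∈ pCore p H := by
  set N := M.normalCore
  set R := (T : Subgroup H) ⊓ N
  have hR : IsPGroup p ↥(R.subgroupOf N) :=
    ((isPGroup_of_le inf_le_left T.2 : IsPGroup p ↥R).comap_of_injective N.subtype N.subtype_injective)
  obtain ⟨Q, hQ⟩ := hR.exists_le_sylow
  obtain ⟨T', hT'⟩ := (show IsPGroup p ↥((Q : Subgroup ↥N).map N.subtype) from Q.2.map _).exists_le_sylow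
  obtain ⟨y, rfl⟩ := MulAction.exists_smul_eq H T T'
  have hQle : (Q : Subgroup ↥N).map N.subtype ≤ R.map (MulAut.conj y).toMonoidHom := by
    intro z hz
    have h1 : z ∈ MulAut.conj y • (T : Subgroup H) := by
      rw [← Sylow.coe_subgroup_smul]; exact hT' hz
    obtain ⟨t, ht, rfl⟩ := h1
    refine ⟨t, ⟨ht, ?_⟩, rfl⟩
    have h2 : y * t * y⁻¹ ∈ N := Subgroup.map_subtype_le _ hz
    have := (inferInstance : N.Normal).conj_mem _ h2 y⁻¹
    rwa [show y⁻¹ * (y * t * y⁻¹) * y⁻¹⁻¹ = t by group] at this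
  have hQeq : (Q : Subgroup ↥N).map N.subtype = R := by
    refine (Subgroup.eq_of_le_of_card_ge ?_ ?_).symm
    · intro z hz
      exact ⟨⟨z, hz.2⟩, hQ hz, rfl⟩
    · exact (Subgroup.card_le_of_le hQle).trans
        (le_of_eq (Subgroup.card_map_of_injective (MulEquiv.injective _)))
  have hfr : Subgroup.normalizer (R : Set H) ⊔ N = ⊤ := by
    rw [← hQeq]; exact Sylow.normalizer_sup_eq_top Q
  have hRn : Subgroup.normalizer (R : Set H) = ⊤ := by
    by_contra hne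
    obtain h | ⟨M', hM', hle⟩ := eq_top_or_exists_le_coatom (Subgroup.normalizer (R : Set H))
    · exact hne h
    have hTR : (T : Subgroup H) ≤ Subgroup.normalizer (R : Set H) := fun t ht =>
      mem_normalizer_of_map_conj_eq (Subgroup.eq_of_le_of_card_ge (map_conj_le fun x hx =>
        ⟨(T : Subgroup H).mul_mem ((T : Subgroup H).mul_mem ht hx.1) ((T : Subgroup H).inv_mem ht),
          (inferInstance : N.Normal).conj_mem _ hx.2 t⟩)
        (Subgroup.card_map_of_injective (MulAut.conj t).injective).ge)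
    have hMM := huniq M' hM' (hTR.trans hle)
    subst hMM
    exact hM.1 (eq_top_iff.mpr (hfr ▸ sup_le hle (Subgroup.normalCore_le _)))
  haveI : R.Normal := Subgroup.normalizer_eq_top_iff.mp hRn
  exact le_pCore (N := R) (isPGroup_of_le inf_le_left T.2) ⟨hgT, hg⟩

/-- A Sylow subgroup and the elements of order prime to `p` generate. -/
theorem eq_top_of_sylow {H : Type*} [Group H] [Finite H] (T : Sylow p H) (K : Subgroup H) (hT : (T : Subgroup H) ≤ K)
    (hco : ∀ g : H, (orderOf g).Coprime p → g ∈ K) : K = ⊤ := by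
  rw [← Subgroup.index_eq_one]
  by_contra hne
  obtain ⟨q, hq, hqd⟩ := Nat.exists_prime_and_dvd hne
  haveI : Fact q.Prime := ⟨hq⟩
  by_cases hqp : q = p
  · subst hqp
    exact T.not_dvd_index (hqd.trans (Subgroup.index_dvd_of_le hT))
  obtain ⟨S⟩ : Nonempty (Sylow q H) := inferInstance
  refine S.not_dvd_index (hqd.trans (Subgroup.index_dvd_of_le fun g hg => hco g ?_))
  obtain ⟨k, hk⟩ := IsPGroup.iff_orderOf.mp S.2 ⟨g, hg⟩
  rw [Subgroup.orderOf_mk] at hk
  rw [hk]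
  exact Nat.Coprime.pow_left _ ((Nat.coprime_primes hq (Fact.out : p.Prime)).mpr hqp)

/-- Cardinal of a preimage. -/
theorem card_preimage {U : Type} [AddCommGroup U] (Y Z : Subgroup G) (hZY : Z ≤ Y) (π : ↥Y → U)
    (hs : Function.Surjective π) (hadd : ∀ a b, π (a * b) = π a + π b) (hker : ∀ a : ↥Y, π a = 0 ↔ (a : G) ∈ Z)
    (W : AddSubgroup U) (L : Subgroup ↥Y) (hL : ∀ y, y ∈ L ↔ π y ∈ W) :
    Nat.card ↥L = Nat.card ↥W * Nat.card ↥Z := by
  let f : ↥L →* Multiplicative ↥W :=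
    MonoidHom.mk' (fun l => Multiplicative.ofAdd ⟨π l, (hL _).mp l.2⟩) fun a b => congrArg Multiplicative.ofAdd
      (Subtype.ext (hadd _ _))
  have hfs : Function.Surjective f := fun w => by
    obtain ⟨y, hy⟩ := hs ((Multiplicative.toAdd w : ↥W) : U)
    exact ⟨⟨y, (hL _).mpr (by rw [hy]; exact (Multiplicative.toAdd w).2)⟩,
      congrArg Multiplicative.ofAdd (Subtype.ext hy)⟩
  have h := Subgroup.card_mul_index f.ker
  rw [Subgroup.index_ker, MonoidHom.range_eq_top.mpr hfs, Subgroup.card_top] at h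
  have hk : Nat.card ↥f.ker = Nat.card ↥Z := Nat.card_congr
    { toFun := fun l => ⟨((l : ↥L) : ↥Y), (hker _).mp (congrArg Subtype.val (congrArg Multiplicative.toAdd (MonoidHom.mem_ker.mp l.2)))⟩
      invFun := fun z => ⟨⟨⟨z, hZY z.2⟩, (hL _).mpr (by rw [(hker _).mpr z.2]; exact W.zero_mem)⟩,
        MonoidHom.mem_ker.mpr (congrArg Multiplicative.ofAdd (Subtype.ext ((hker _).mpr z.2)))⟩
      left_inv := fun l => rfl
      right_inv := fun z => rfl }
  rw [← h, hk, mul_comm]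
  rfl

/-- Let p be a prime and let P and V be subgroups of a finite group with V elementary abelian, P normalizing V and acting faithfully on it (P ∩ C(V) = 1). Suppose P is p-minimal (a Sylow p-subgroup T of P is not normal and lies in a unique maximal subgroup M of P) and A ≤ T is an elementary abelian subgroup such that: |V/C_V(A)| ≤ |A| while |A₀|·|C_V(A₀)| < |A|·|C_V(A)| for every nontrivial proper subgroup A₀ of A; [C_V(T), P] ≠ 1; and P = ⟨A, xAx⁻¹⟩ for every x ∈ P outside M. Then, with q = |A|, there is a field F with q elements such that P ≅ SL₂(F), C_V(A) = [V, A]·C_V(P), and P acts on V/C_V(P) as SL₂(F) on its natural two-dimensional module. -/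
theorem result {G : Type*} [Group G] [Finite G] {p : ℕ} [Fact p.Prime] (V P : Subgroup G) (hV : Cfsg.IsElementaryAbelian p V) (hPV : P ≤ Subgroup.normalizer (V : Set G)) (hfaith : P ⊓ Subgroup.centralizer (V : Set G) = ⊥) (hmin : Cfsg.IsPMinimal p ↥P) (T : Sylow p ↥P) (M : Subgroup ↥P) (hM : IsCoatom M) (hTM : (T : Subgroup ↥P) ≤ M) (A : Subgroup G) (hAT : A ≤ ((T : Subgroup ↥P).map P.subtype)) (hAel : Cfsg.IsElementaryAbelian p A) (hi : Nat.card ↥V ≤ Nat.card ↥A * Nat.card ↥(V ⊓ Subgroup.centralizer ((A : Subgroup G) : Set G)) ∧ ∀ A₀ : Subgroup G, A₀ ≤ A → A₀ ≠ ⊥ → A₀ ≠ A → Nat.card ↥A₀ * Nat.card ↥(V ⊓ Subgroup.centralizer ((A₀ : Subgroup G) : Set G)) < Nat.card ↥A * Nat.card ↥(V ⊓ Subgroup.centralizer ((A : Subgroup G) : Set G))) (hii : ⁅(V ⊓ Subgroup.centralizer ((((T : Subgroup ↥P).map P.subtype) : Subgroup G) : Set G)), P⁆ ≠ ⊥) (hiii : ∀ x : ↥P, x ∉ M → A ⊔ A.map (MulAut.conj (x : G)).toMonoidHom = P) : ∃ (F : Type)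 (_ : Field F) (_ : Fintype F), Fintype.card F = Nat.card ↥A ∧ Nonempty (↥P ≃* Matrix.SpecialLinearGroup (Fin 2) F) ∧ (V ⊓ Subgroup.centralizer ((A : Subgroup G) : Set G)) = ⁅V, A⁆ ⊔ (V ⊓ Subgroup.centralizer ((P : Subgroup G) : Set G)) ∧ Cfsg.ActsAsSL2OnSection F ⊤ P V (V ⊓ Subgroup.centralizer ((P : Subgroup G) : Set G)) := by
  classical
  have hp := (Fact.out : p.Prime)
  have hVc : ∀ v ∈ V, ∀ w ∈ V, v * w = w * v := fun v hv w hw => congrArg Subtype.val (hV.1.is_comm.comm ⟨v, hv⟩ ⟨w, hw⟩)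
  have hVp : IsPGroup p ↥V := fun v => ⟨1, by rw [pow_one]; exact Subtype.ext (by simpa using hV.2 v v.2)⟩
  have hAc : ∀ a ∈ A, ∀ b ∈ A, a * b = b * a := fun a ha b hb => congrArg Subtype.val (hAel.1.is_comm.comm ⟨a, ha⟩ ⟨b, hb⟩)
  have hAp : IsPGroup p ↥A := fun v => ⟨1, by rw [pow_one]; exact Subtype.ext (by simpa using hAel.2 v v.2)⟩
  have hAP : A ≤ P := hAT.trans (Subgroup.map_subtype_le _)
  have hoff : Offender p V A := ⟨hAp, hAc, hAP.trans hPV, hVc, hVp, hi.1, hi.2⟩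
  have hquad : ∀ v ∈ V, ∀ b ∈ A, ∀ c ∈ A, c * (b * v * b⁻¹ * v⁻¹) * c⁻¹ = b * v * b⁻¹ * v⁻¹ :=
    fun v hv b hb c hc => quad_of_strict hoff hv hb hc
  obtain ⟨hTn, M₀, -, huniq0⟩ := hmin T
  have huniq : ∀ M' : Subgroup ↥P, IsCoatom M' → (T : Subgroup ↥P) ≤ M' → M' = M := fun M' h1 h2 =>
    (huniq0 M' ⟨h1, h2⟩).trans (huniq0 M ⟨hM, hTM⟩).symm
  set A' : Subgroup ↥P := A.subgroupOf P with hA'def
  have hA'M : A' ≤ M := fun a ha => hTM (by
    obtain ⟨t, ht, e⟩ := hAT ha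
    rwa [← show t = a from Subtype.ext e])
  have hA'T : A' ≤ (T : Subgroup ↥P) := fun a ha => by
    obtain ⟨t, ht, e⟩ := hAT ha
    rwa [← show t = a from Subtype.ext e]
  have hmapA : A'.map P.subtype = A := by rw [hA'def, Subgroup.subgroupOf_map_subtype, inf_eq_left.mpr hAP]
  have hgen : ∀ x, x ∉ M → A' ⊔ A'.map (MulAut.conj x).toMonoidHom = ⊤ := by
    intro x hx
    apply Subgroup.map_injective P.subtype_injective
    rw [Subgroup.map_sup, Subgroup.map_map, show P.subtype.comp (MulAut.conj x).toMonoidHom =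
      (MulAut.conj (x : G)).toMonoidHom.comp P.subtype from MonoidHom.ext fun y => rfl, ← Subgroup.map_map, hmapA,
      hiii x hx, ← MonoidHom.range_eq_map, Subgroup.range_subtype]
  have hMne : ∃ x, x ∉ M := by
    by_contra h; push Not at h; exact hM.1 (eq_top_iff.mpr fun x _ => h x)
  obtain ⟨x₀, hx₀⟩ := hMne
  set T₀ := (T : Subgroup ↥P).map P.subtype
  set Q : Subgroup G := (pCore p ↥P).map P.subtype with hQ
  have hQT : Q ≤ T₀ := Subgroup.map_mono (CfsgLib.pCore_le_sylow T)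
  have hQn : ∀ g ∈ P, ∀ q ∈ Q, g * q * g⁻¹ ∈ Q := by
    rintro g hg _ ⟨q, hq, rfl⟩
    exact ⟨⟨g, hg⟩ * q * ⟨g, hg⟩⁻¹, (inferInstance : (pCore p ↥P).Normal).conj_mem q hq _, rfl⟩
  have hPconj : ∀ g ∈ P, ∀ v ∈ V, g * v * g⁻¹ ∈ V := fun g hg v hv => (Subgroup.mem_normalizer_iff.mp (hPV hg) v).mp hv
  set D := V ⊓ Subgroup.centralizer (Q : Set G) with hD
  have hDn : ∀ g ∈ P, ∀ v ∈ D, g * v * g⁻¹ ∈ D := fun g hg v hv => ⟨hPconj g hg v hv.1,
    Subgroup.mem_centralizer_iff.mpr fun q hq => by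
      have h := Subgroup.mem_centralizer_iff.mp hv.2 (g⁻¹ * q * g⁻¹⁻¹) (hQn g⁻¹ (P.inv_mem hg) q hq)
      calc q * (g * v * g⁻¹) = g * (g⁻¹ * q * g⁻¹⁻¹ * v) * g⁻¹ := by group
        _ = g * (v * (g⁻¹ * q * g⁻¹⁻¹)) * g⁻¹ := by rw [h]
        _ = g * v * g⁻¹ * q := by group⟩
  -- elements of order prime to `p` centralizing
  set KP : Set G := {g | g ∈ P ∧ (orderOf g).Coprime p} with hKP
  have hKPn : ∀ g ∈ P, ∀ k ∈ KP, g * k * g⁻¹ ∈ KP := fun g hg k hk => ⟨P.mul_mem (P.mul_mem hg hk.1) (P.inv_mem hg), by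
    rw [show g * k * g⁻¹ = MulAut.conj g k from rfl, MulEquiv.orderOf_eq]; exact hk.2⟩
  have hCKn : ∀ g ∈ P, ∀ v ∈ Subgroup.centralizer KP, g * v * g⁻¹ ∈ Subgroup.centralizer KP := fun g hg v hv =>
    Subgroup.mem_centralizer_iff.mpr fun q hq => by
      have h := Subgroup.mem_centralizer_iff.mp hv (g⁻¹ * q * g⁻¹⁻¹) (hKPn g⁻¹ (P.inv_mem hg) q hq)
      calc q * (g * v * g⁻¹) = g * (g⁻¹ * q * g⁻¹⁻¹ * v) * g⁻¹ := by group
        _ = g * (v * (g⁻¹ * q * g⁻¹⁻¹)) * g⁻¹ := by rw [h]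
        _ = g * v * g⁻¹ * q := by group
  have hD0 : ¬ D ≤ Subgroup.centralizer KP := by
    intro h
    refine hii (Subgroup.commutator_eq_bot_iff_le_centralizer.mpr fun v hv => ?_)
    have hvD : v ∈ D := ⟨hv.1, Subgroup.centralizer_le hQT hv.2⟩
    have htop := eq_top_of_sylow T ((Subgroup.centralizer ({v} : Set G)).subgroupOf P) (fun t ht =>
      Subgroup.mem_centralizer_singleton_iff.mpr (Subgroup.mem_centralizer_iff.mp hv.2 (t : G) ⟨t, ht, rfl⟩))
      (fun g hg => Subgroup.mem_centralizer_singleton_iff.mpr (Subgroup.mem_centralizer_iff.mp (h hvD) (g : G)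
        ⟨g.2, by rw [Subgroup.orderOf_coe]; exact hg⟩))
    exact Subgroup.mem_centralizer_iff.mpr fun g hg => Subgroup.mem_centralizer_singleton_iff.mp
      (show (⟨g, hg⟩ : ↥P) ∈ (Subgroup.centralizer ({v} : Set G)).subgroupOf P by rw [htop]; exact Subgroup.mem_top _)
  obtain ⟨Y, ⟨hYD, hYn, hY0⟩, hYmin⟩ := Set.exists_min_image
    {Y : Subgroup G | Y ≤ D ∧ (∀ g ∈ P, ∀ y ∈ Y, g * y * g⁻¹ ∈ Y) ∧ ¬ Y ≤ Subgroup.centralizer KP}
    (fun Y => Nat.card ↥Y) (Set.toFinite _) ⟨D, le_rfl, hDn, hD0⟩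
  set Z := Y ⊓ Subgroup.centralizer KP with hZ
  have hYV : Y ≤ V := hYD.trans inf_le_left
  have hZn : ∀ g ∈ P, ∀ z ∈ Z, g * z * g⁻¹ ∈ Z := fun g hg z hz => ⟨hYn g hg z hz.1, hCKn g hg z hz.2⟩
  have hYprop : ∀ Y' : Subgroup G, Y' ≤ Y → (∀ g ∈ P, ∀ y ∈ Y', g * y * g⁻¹ ∈ Y') → Y' ≠ Y → Y' ≤ Z := by
    intro Y' h1 h2 h3
    refine le_inf h1 (by_contra fun h4 => h3 ?_)
    exact Subgroup.eq_of_le_of_card_ge h1 (hYmin Y' ⟨h1.trans hYD, h2, h4⟩)
  obtain ⟨U, iU, iU', ρ, π, hπs, hπadd, hπker, hπact⟩ := exists_sectionRep P Y Z inf_le_left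
    (fun a ha b hb => hVc a (hYV ha) b (hYV hb)) hYn hZn
  have hπ1 : π 1 = 0 := (hπker 1).mpr Z.one_mem
  have hπinv : ∀ a, π a⁻¹ = - π a := fun a => by
    rw [eq_neg_iff_add_eq_zero, ← hπadd, inv_mul_cancel, hπ1]
  obtain ⟨y₀, hy₀, hy₀Z⟩ := SetLike.not_le_iff_exists.mp hY0
  haveI : Nontrivial U := ⟨⟨π ⟨y₀, hy₀⟩, 0, fun e => hy₀Z ((hπker _).mp e).2⟩⟩
  have hmove : ∀ (g : ↥P) (y : ↥Y) (hgy : (g : G) * y * (g : G)⁻¹ ∈ Y),
      ρ g (π y) = π y ↔ (g : G) * y * (g : G)⁻¹ * (y : G)⁻¹ ∈ Z := fun g y hgy => by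
    rw [hπact g y hgy, ← sub_eq_zero, sub_eq_add_neg, ← hπinv, ← hπadd, hπker]
    rfl
  have hpair : Pair ρ A' M := by
    refine ⟨hgen, hA'M, ⟨x₀, hx₀⟩, fun a ha b hb => AddMonoidHom.ext fun u => ?_, fun W hW => ?_, ?_⟩
    · obtain ⟨y, rfl⟩ := hπs u
      show ρ a (ρ b (π y) - π y) - (ρ b (π y) - π y) = 0
      have hb' := hYn b b.2 y y.2
      have hm : (b : G) * y * (b : G)⁻¹ * (y : G)⁻¹ ∈ Y := Y.mul_mem hb' (Y.inv_mem y.2)
      have e1 : ρ b (π y) - π y = π ⟨_, hm⟩ := by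
        rw [hπact b y hb', sub_eq_add_neg, ← hπinv, ← hπadd]
        rfl
      rw [e1, sub_eq_zero, hmove a ⟨_, hm⟩ (hYn a a.2 _ hm)]
      show (a : G) * _ * (a : G)⁻¹ * _ ∈ Z
      rw [hquad y (hYV y.2) b hb a ha, mul_inv_cancel]
      exact Z.one_mem
    · let L : Subgroup ↥Y :=
        { carrier := {y | π y ∈ W}
          one_mem' := by show π 1 ∈ W; rw [hπ1]; exact W.zero_mem
          mul_mem' := fun {a b} ha hb => by show π (a * b) ∈ W; rw [hπadd]; exact W.add_mem ha hb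
          inv_mem' := fun {a} ha => by show π a⁻¹ ∈ W; rw [hπinv]; exact W.neg_mem ha }
      by_cases hLY : L.map Y.subtype = Y
      · refine Or.inr (eq_top_iff.mpr fun u _ => ?_)
        obtain ⟨y, rfl⟩ := hπs u
        obtain ⟨l, hl, e⟩ := hLY.ge y.2
        rw [← show l = y from Subtype.ext e]; exact hl
      · refine Or.inl (eq_bot_iff.mpr fun u hu => ?_)
        obtain ⟨y, rfl⟩ := hπs u
        refine AddSubgroup.mem_bot.mpr ((hπker y).mpr (hYprop _ (Subgroup.map_subtype_le _) ?_ hLY ⟨y, hu, rfl⟩))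
        rintro g hg _ ⟨l, hl, rfl⟩
        exact ⟨⟨_, hYn g hg l l.2⟩, (show π ⟨_, hYn g hg l l.2⟩ ∈ W by
          rw [← hπact ⟨g, hg⟩ l (hYn g hg l l.2)]; exact hW _ _ hl), rfl⟩
    · -- coprime action
      by_contra htriv
      push Not at htriv
      refine hY0 fun y hy => Subgroup.mem_centralizer_iff.mpr fun k hk => ?_
      have hky := hYn k hk.1 y hy
      have hdZ : k * y * k⁻¹ * y⁻¹ ∈ Z := (hmove ⟨k, hk.1⟩ ⟨y, hy⟩ hky).mp (by rw [htriv]; rfl)
      have hkd : k * (k * y * k⁻¹ * y⁻¹) * k⁻¹ = k * y * k⁻¹ * y⁻¹ :=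
        mul_inv_eq_iff_eq_mul.mpr (Subgroup.mem_centralizer_iff.mp hdZ.2 k hk)
      have he : k * y * k⁻¹ = (k * y * k⁻¹ * y⁻¹) * y := by group
      have h1 := CfsgLib.AbelianOffender.conj_pow_eq he hkd (orderOf k)
      rw [pow_orderOf_eq_one, one_mul, inv_one, mul_one] at h1
      have h2 : (k * y * k⁻¹ * y⁻¹) ^ orderOf k = 1 := right_eq_mul.mp h1
      have h3 : (k * y * k⁻¹ * y⁻¹) ^ p = 1 := hV.2 _ (hYV hdZ.1)
      have h4 : k * y * k⁻¹ * y⁻¹ = 1 := orderOf_eq_one_iff.mp (Nat.eq_one_of_dvd_coprimes hk.2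
        (orderOf_dvd_of_pow_eq_one h2) (orderOf_dvd_of_pow_eq_one h3))
      rw [h4, one_mul] at he
      exact mul_inv_eq_iff_eq_mul.mp he
  have hnc : ∀ a ∈ A', a ∈ M.normalCore → a ∈ A' ⊓ pCore p ↥P := fun a ha h =>
    ⟨ha, mem_pCore T M hM huniq (hA'T ha) h⟩
  set A₀ := (A' ⊓ pCore p ↥P).map P.subtype with hA₀
  have hA₀card : Nat.card ↥A₀ = Nat.card ↥(A' ⊓ pCore p ↥P : Subgroup ↥P) :=
    Subgroup.card_map_of_injective P.subtype_injective
  have hA'card : Nat.card ↥A' = Nat.card ↥A := by rw [← hmapA, Subgroup.card_map_of_injective P.subtype_injective]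
  have hAw := card_le hpair hnc
  rw [hA'card, ← hA₀card] at hAw
  have hsq := card_sq hpair
  set w := Nat.card (fix ρ A') with hw
  set CA := V ⊓ Subgroup.centralizer (A : Set G) with hCA
  -- the index of the fixed points in `Y`
  let L : Subgroup ↥Y :=
    { carrier := {y | π y ∈ fix ρ A'}
      one_mem' := by show π 1 ∈ fix ρ A'; rw [hπ1]; exact zero_mem _
      mul_mem' := fun {a b} ha hb => by show π (a * b) ∈ fix ρ A'; rw [hπadd]; exact add_mem ha hb
      inv_mem' := fun {a} ha => by show π a⁻¹ ∈ fix ρ A'; rw [hπinv]; exact neg_mem ha }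
  have hLcard := card_preimage Y Z inf_le_left π hπs hπadd hπker (fix ρ A') L (fun y => Iff.rfl)
  have hYcard : Nat.card ↥Y = Nat.card U * Nat.card ↥Z := by
    have := card_preimage Y Z inf_le_left π hπs hπadd hπker ⊤ ⊤ (fun y => by simp)
    rwa [Subgroup.card_top, AddSubgroup.card_top] at this
  rw [← hw] at hLcard
  have hCY : Nat.card ↥(Y ⊓ CA) ≤ w * Nat.card ↥Z := by
    rw [← hLcard, ← Subgroup.card_map_of_injective (K := L) Y.subtype_injective]
    refine Subgroup.card_le_of_le fun y hy => ⟨⟨y, hy.1⟩, (mem_fix ρ A').mpr fun a ha => ?_, rfl⟩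
    refine (hmove a ⟨y, hy.1⟩ (hYn a a.2 y hy.1)).mpr ?_
    rw [show (a : G) * y * (a : G)⁻¹ * y⁻¹ = 1 by
      rw [Subgroup.mem_centralizer_iff.mp hy.2.2 (a : G) ha]; group]
    exact Z.one_mem
  have hwpos : 0 < w := Nat.card_pos
  have hYCA : w * Nat.card ↥CA ≤ Nat.card ↥(Y ⊔ CA : Subgroup G) := by
    have h1 := Products.card_mul_card_le Y CA
    refine Nat.le_of_mul_le_mul_right ?_ (Nat.mul_pos hwpos (Nat.card_pos (α := ↥Z)))
    calc w * Nat.card ↥CA * (w * Nat.card ↥Z) = Nat.card ↥Y * Nat.card ↥CA := by rw [hYcard, hsq]; ring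
      _ ≤ Nat.card ↥(Y ⊔ CA : Subgroup G) * Nat.card ↥(Y ⊓ CA) := h1
      _ ≤ _ := Nat.mul_le_mul_left _ hCY
  -- the intersection with the core is trivial
  have hA₀bot : A₀ = ⊥ := by
    by_contra hne
    have hA₀A : A₀ ≤ A := by rw [← hmapA]; exact Subgroup.map_mono inf_le_left
    have hne' : A₀ ≠ A := by
      intro e
      have h1 : A' ≤ pCore p ↥P := fun a ha => by
        obtain ⟨b, hb, e'⟩ := e.ge (show (a : G) ∈ A from ha)
        rw [← show b = a from Subtype.ext e']; exact hb.2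
      refine hx₀ ?_
      have h2 : A' ⊔ A'.map (MulAut.conj x₀).toMonoidHom ≤ pCore p ↥P := sup_le h1 (by
        rintro _ ⟨a, ha, rfl⟩
        exact (inferInstance : (pCore p ↥P).Normal).conj_mem a (h1 ha) x₀)
      rw [hgen x₀ hx₀] at h2
      exact hTM (CfsgLib.pCore_le_sylow T (h2 (Subgroup.mem_top x₀)))
    have h3 : Y ⊔ CA ≤ V ⊓ Subgroup.centralizer (A₀ : Set G) := sup_le
      (le_inf hYV ((hYD.trans inf_le_right).trans (Subgroup.centralizer_le (Subgroup.map_mono inf_le_right))))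
      (le_inf inf_le_left (inf_le_right.trans (Subgroup.centralizer_le hA₀A)))
    have h4 := hi.2 A₀ hA₀A hne hne'
    have h5 := Subgroup.card_le_of_le h3
    have h6 : Nat.card ↥A * Nat.card ↥CA ≤ Nat.card ↥A₀ * Nat.card ↥(V ⊓ Subgroup.centralizer (A₀ : Set G)) := by
      calc Nat.card ↥A * Nat.card ↥CA ≤ Nat.card ↥A₀ * w * Nat.card ↥CA := Nat.mul_le_mul_right _ hAw
        _ = Nat.card ↥A₀ * (w * Nat.card ↥CA) := by ring
        _ ≤ _ := Nat.mul_le_mul_left _ (hYCA.trans h5)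
    exact absurd h6 (not_le.mpr h4)
  rw [hA₀bot, Subgroup.card_bot, one_mul] at hAw
  have hYCAV : Y ⊔ CA ≤ V := sup_le hYV inf_le_left
  have hCApos : 0 < Nat.card ↥CA := Nat.card_pos
  have hwA : w = Nat.card ↥A := le_antisymm (Nat.le_of_mul_le_mul_right
    ((hYCA.trans (Subgroup.card_le_of_le hYCAV)).trans hi.1) hCApos) hAw
  have hVA : Nat.card ↥V = Nat.card ↥A * Nat.card ↥CA := le_antisymm hi.1 (by
    rw [← hwA]; exact hYCA.trans (Subgroup.card_le_of_le hYCAV))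
  -- the centralizer of `P`
  set C := V ⊓ Subgroup.centralizer (P : Set G) with hC
  set B := A.map (MulAut.conj (x₀ : G)).toMonoidHom with hB
  set CB := CA.map (MulAut.conj (x₀ : G)).toMonoidHom with hCB
  have hCBcard : Nat.card ↥CB = Nat.card ↥CA := Subgroup.card_map_of_injective (MulEquiv.injective _)
  have hCBV : CB ≤ V := by rintro _ ⟨v, hv, rfl⟩; exact hPconj _ x₀.2 v hv.1
  have hinf : CA ⊓ CB ≤ C := by
    rintro v ⟨hv1, hv2⟩
    refine ⟨hv1.1, Subgroup.mem_centralizer_iff.mpr ?_⟩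
    have hle : A ⊔ B ≤ Subgroup.centralizer ({v} : Set G) := by
      refine sup_le (fun a ha => Subgroup.mem_centralizer_singleton_iff.mpr (Subgroup.mem_centralizer_iff.mp hv1.2 a ha)) ?_
      rintro _ ⟨a, ha, rfl⟩
      obtain ⟨v', hv', rfl⟩ := hv2
      refine Subgroup.mem_centralizer_singleton_iff.mpr ?_
      show (MulAut.conj (x₀ : G)) a * (MulAut.conj (x₀ : G)) v' = (MulAut.conj (x₀ : G)) v' * (MulAut.conj (x₀ : G)) a
      rw [← map_mul, ← map_mul, Subgroup.mem_centralizer_iff.mp hv'.2 a ha]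
    rw [hB, hiii x₀ hx₀] at hle
    exact fun g hg => Subgroup.mem_centralizer_singleton_iff.mp (hle hg)
  have hV2 : Nat.card ↥V ≤ Nat.card ↥A ^ 2 * Nat.card ↥C := by
    have h1 : Nat.card ↥CA * Nat.card ↥CA ≤ Nat.card ↥V * Nat.card ↥C := by
      have h0 := Products.card_mul_card_le CA CB
      rw [hCBcard] at h0
      exact h0.trans (Nat.mul_le_mul (Subgroup.card_le_of_le (sup_le inf_le_left hCBV)) (Subgroup.card_le_of_le hinf))
    rw [hVA] at h1
    have h2 : Nat.card ↥CA ≤ Nat.card ↥A * Nat.card ↥C := Nat.le_of_mul_le_mul_right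
      (by linarith) hCApos
    rw [hVA, sq, mul_assoc]
    exact Nat.mul_le_mul_left _ h2
  have hYC : Y ⊓ C ≤ Z := le_inf inf_le_left (fun v hv => Subgroup.centralizer_le (fun g hg => hg.1) hv.2.2)
  have hV3 : Nat.card ↥A ^ 2 * Nat.card ↥C ≤ Nat.card ↥(Y ⊔ C : Subgroup G) := by
    refine Nat.le_of_mul_le_mul_right ?_ (Nat.card_pos (α := ↥Z))
    calc Nat.card ↥A ^ 2 * Nat.card ↥C * Nat.card ↥Z = Nat.card ↥Y * Nat.card ↥C := by rw [hYcard, hsq, hwA]; ring
      _ ≤ Nat.card ↥(Y ⊔ C : Subgroup G) * Nat.card ↥(Y ⊓ C) := Products.card_mul_card_le Y C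
      _ ≤ _ := Nat.mul_le_mul_left _ (Subgroup.card_le_of_le hYC)
  have hYCV : Y ⊔ C ≤ V := sup_le hYV inf_le_left
  have hVeq : Y ⊔ C = V := Subgroup.eq_of_le_of_card_ge hYCV (hV2.trans hV3)
  have hVcard : Nat.card ↥V = Nat.card ↥A ^ 2 * Nat.card ↥C :=
    le_antisymm hV2 (hV3.trans (Subgroup.card_le_of_le hYCV))
  have hQbot : pCore p ↥P = ⊥ := by
    refine eq_bot_iff.mpr fun q hq => ?_
    have h1 : (q : G) ∈ P ⊓ Subgroup.centralizer (V : Set G) := by
      refine ⟨q.2, ?_⟩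
      have h2 : V ≤ Subgroup.centralizer ({(q : G)} : Set G) := by
        rw [← hVeq]
        refine sup_le (fun y hy => ?_) (fun y hy => ?_)
        · exact Subgroup.mem_centralizer_singleton_iff.mpr (Subgroup.mem_centralizer_iff.mp (hYD hy).2 (q : G) ⟨q, hq, rfl⟩).symm
        · exact Subgroup.mem_centralizer_singleton_iff.mpr (Subgroup.mem_centralizer_iff.mp hy.2 (q : G) q.2).symm
      exact Subgroup.mem_centralizer_iff.mpr fun v hv => Subgroup.mem_centralizer_singleton_iff.mp (h2 hv)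
    rw [hfaith] at h1
    exact Subgroup.mem_bot.mpr (Subtype.ext (Subgroup.mem_bot.mp h1))
  -- the module `V / C`
  have hCn : ∀ g ∈ P, ∀ c ∈ C, g * c * g⁻¹ ∈ C := fun g hg c hc => by
    rw [show g * c * g⁻¹ = c by rw [Subgroup.mem_centralizer_iff.mp hc.2 g hg]; group]; exact hc
  obtain ⟨X, iX, iX', σ, τ, hτs, hτadd, hτker, hτact⟩ := exists_sectionRep P V C inf_le_left hVc hPconj hCn
  have hτ1 : τ 1 = 0 := (hτker 1).mpr C.one_mem
  have hτinv : ∀ a, τ a⁻¹ = - τ a := fun a => by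
    rw [eq_neg_iff_add_eq_zero, ← hτadd, inv_mul_cancel, hτ1]
  have hXcard : Nat.card X = Nat.card ↥A ^ 2 := by
    have := card_preimage V C inf_le_left τ hτs hτadd hτker ⊤ ⊤ (fun y => by simp)
    rw [Subgroup.card_top, AddSubgroup.card_top, hVcard] at this
    exact (Nat.eq_of_mul_eq_mul_right Nat.card_pos this).symm
  have hAne : A ≠ ⊥ := by
    intro e
    have h := hgen x₀ hx₀
    rw [hA'def, e, Subgroup.bot_subgroupOf, Subgroup.map_bot, sup_bot_eq] at h
    exact hx₀ (show x₀ ∈ M by rw [Subgroup.mem_bot.mp (h ▸ Subgroup.mem_top x₀ : x₀ ∈ (⊥ : Subgroup ↥P))]; exact M.one_mem)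
  have hA1 : 1 < Nat.card ↥A := by
    rw [Finite.one_lt_card_iff_nontrivial]; exact (Subgroup.nontrivial_iff_ne_bot A).mpr hAne
  haveI : Nontrivial X := by
    rw [← Finite.one_lt_card_iff_nontrivial, hXcard]; exact Nat.one_lt_pow two_ne_zero hA1
  have hσmove : ∀ (g : ↥P) (y : ↥V),
      σ g (τ y) - τ y = τ ⟨(g : G) * y * (g : G)⁻¹ * (y : G)⁻¹, V.mul_mem (hPconj g g.2 y y.2) (V.inv_mem y.2)⟩ := fun g y => by
    rw [hτact g y (hPconj g g.2 y y.2), sub_eq_add_neg, ← hτinv, ← hτadd]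
    rfl
  have hσC : ∀ (g : ↥P) (y : ↥V), σ g (τ y) = τ y ↔ (g : G) * y * (g : G)⁻¹ * (y : G)⁻¹ ∈ C := fun g y => by
    rw [← sub_eq_zero, hσmove, hτker]
  have hpairX : Pair σ A' M := by
    refine ⟨hgen, hA'M, ⟨x₀, hx₀⟩, fun a ha b hb => AddMonoidHom.ext fun u => ?_, fun W hW => ?_, ?_⟩
    · obtain ⟨y, rfl⟩ := hτs u
      show σ a (σ b (τ y) - τ y) - (σ b (τ y) - τ y) = 0
      rw [hσmove b y, sub_eq_zero, hσC]
      rw [hquad y y.2 b hb a ha, mul_inv_cancel]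
      exact C.one_mem
    · let L : Subgroup ↥V :=
        { carrier := {y | τ y ∈ W}
          one_mem' := by show τ 1 ∈ W; rw [hτ1]; exact W.zero_mem
          mul_mem' := fun {a b} ha hb => by show τ (a * b) ∈ W; rw [hτadd]; exact W.add_mem ha hb
          inv_mem' := fun {a} ha => by show τ a⁻¹ ∈ W; rw [hτinv]; exact W.neg_mem ha }
      by_cases hY' : L.map V.subtype ⊓ Y = Y
      · refine Or.inr (eq_top_iff.mpr fun u _ => ?_)
        obtain ⟨v, rfl⟩ := hτs u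
        have h1 : V ≤ L.map V.subtype := by
          refine le_of_eq_of_le hVeq.symm ?_
          refine sup_le (hY' ▸ inf_le_left) fun c hc => ⟨⟨c, hc.1⟩, ?_, rfl⟩
          show τ ⟨c, hc.1⟩ ∈ W
          rw [(hτker _).mpr hc]; exact W.zero_mem
        obtain ⟨l, hl, e⟩ := h1 v.2
        rw [← show l = v from Subtype.ext e]; exact hl
      · refine Or.inl (eq_bot_iff.mpr fun u hu => ?_)
        obtain ⟨v, rfl⟩ := hτs u
        refine AddSubgroup.mem_bot.mpr ((hτker v).mpr ?_)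
        have hLn : ∀ g ∈ P, ∀ y ∈ L.map V.subtype ⊓ Y, g * y * g⁻¹ ∈ L.map V.subtype ⊓ Y := by
          rintro g hg _ ⟨⟨l, hl, rfl⟩, hy⟩
          refine ⟨⟨⟨_, hPconj g hg l l.2⟩, ?_, rfl⟩, hYn g hg _ hy⟩
          show τ ⟨_, hPconj g hg l l.2⟩ ∈ W
          rw [← hτact ⟨g, hg⟩ l (hPconj g hg l l.2)]; exact hW _ _ hl
        have h2 := hYprop _ inf_le_right hLn hY'
        have hYnorm : C ≤ Subgroup.normalizer (Y : Set G) := fun c hc => mem_normalizer_of_map_conj_eq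
          (Subgroup.eq_of_le_of_card_ge (map_conj_le fun y hy => by
            rw [hVc c hc.1 y (hYV hy), mul_inv_cancel_right]; exact hy)
            (Subgroup.card_map_of_injective (MulAut.conj c).injective).ge)
        obtain ⟨y, hy, c, hc, e⟩ := mem_sup_of_le_normalizer hYnorm (show (v : G) ∈ Y ⊔ C by rw [hVeq]; exact v.2)
        -- `y` lies in `Z = Y ⊓ C`
        have hyL : y ∈ L.map V.subtype := by
          have hcL : c ∈ L.map V.subtype := ⟨⟨c, hc.1⟩, (show τ _ ∈ W by rw [(hτker _).mpr hc]; exact W.zero_mem), rfl⟩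
          have hvL : (v : G) ∈ L.map V.subtype := ⟨v, hu, rfl⟩
          rw [← e] at hvL
          exact (Subgroup.mul_mem_cancel_right _ hcL).mp hvL
        have hyZ := h2 ⟨hyL, hy⟩
        have hZC : Z ≤ C := by
          have h7 : Nat.card ↥A ^ 2 * Nat.card ↥C * Nat.card ↥Z ≤ Nat.card ↥(Y ⊔ C : Subgroup G) * Nat.card ↥(Y ⊓ C) :=
            le_of_eq_of_le (by rw [hYcard, hsq, hwA]; ring) (Products.card_mul_card_le Y C)
          rw [hVeq, hVcard] at h7
          have h8 := Nat.le_of_mul_le_mul_left h7 (Nat.mul_pos (pow_pos (Nat.card_pos) _) Nat.card_pos)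
          exact (Subgroup.eq_of_le_of_card_ge hYC h8).ge.trans inf_le_right
        rw [← e]; exact C.mul_mem (hZC hyZ) hc
    · by_contra htriv
      push Not at htriv
      refine hY0 fun y hy => Subgroup.mem_centralizer_iff.mpr fun k hk => ?_
      have hd : k * y * k⁻¹ * y⁻¹ ∈ C := (hσC ⟨k, hk.1⟩ ⟨y, hYV hy⟩).mp (by rw [htriv]; rfl)
      have hkd : k * (k * y * k⁻¹ * y⁻¹) * k⁻¹ = k * y * k⁻¹ * y⁻¹ :=
        mul_inv_eq_iff_eq_mul.mpr (Subgroup.mem_centralizer_iff.mp hd.2 k hk.1)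
      have he : k * y * k⁻¹ = (k * y * k⁻¹ * y⁻¹) * y := by group
      have h1 := CfsgLib.AbelianOffender.conj_pow_eq he hkd (orderOf k)
      rw [pow_orderOf_eq_one, one_mul, inv_one, mul_one] at h1
      have h4 : k * y * k⁻¹ * y⁻¹ = 1 := orderOf_eq_one_iff.mp (Nat.eq_one_of_dvd_coprimes hk.2
        (orderOf_dvd_of_pow_eq_one (right_eq_mul.mp h1)) (orderOf_dvd_of_pow_eq_one (hV.2 _ hd.1)))
      rw [h4, one_mul] at he
      exact mul_inv_eq_iff_eq_mul.mp he
  have hfree : ∀ a ∈ A', a ≠ 1 → ∀ v, σ a v = v → v ∈ fix σ A' := fun a ha ha1 v hv => by_contra fun hn =>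
    ha1 (Subgroup.mem_bot.mp (hQbot ▸ mem_pCore T M hM huniq (hA'T ha) (mem_normalCore hpairX ha hn hv)))
  have hsqX := card_sq hpairX
  have hfixcard : Nat.card ↥A = Nat.card (fix σ A') := Nat.pow_left_injective two_ne_zero (hXcard.symm.trans hsqX)
  have hσinj : Function.Injective σ := by
    refine (injective_iff_map_eq_one σ).mpr fun g hg => ?_
    have hR : σ.ker ≤ pCore p ↥P := CfsgLib.le_pCore (fun r => ⟨1, by
      have hrv : ∀ v : ↥V, ((r : ↥P) : G) * v * ((r : ↥P) : G)⁻¹ * (v : G)⁻¹ ∈ C := fun v =>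
        (hσC _ v).mp (by rw [MonoidHom.mem_ker.mp r.2]; rfl)
      have hz : (((r : ↥P) : G) ^ p) ∈ P ⊓ Subgroup.centralizer (V : Set G) := by
        refine ⟨P.pow_mem (r : ↥P).2 p, Subgroup.mem_centralizer_iff.mpr fun v hv => ?_⟩
        have hd := hrv ⟨v, hv⟩
        have hkd := mul_inv_eq_iff_eq_mul.mpr (Subgroup.mem_centralizer_iff.mp hd.2 ((r : ↥P) : G) (r : ↥P).2)
        have h1 := CfsgLib.AbelianOffender.conj_pow_eq (show ((r : ↥P) : G) * v * ((r : ↥P) : G)⁻¹ =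
          (((r : ↥P) : G) * v * ((r : ↥P) : G)⁻¹ * v⁻¹) * v by group) hkd p
        rw [hV.2 _ hd.1, one_mul] at h1
        exact (mul_inv_eq_iff_eq_mul.mp h1).symm
      rw [hfaith, Subgroup.mem_bot] at hz
      rw [pow_one]
      exact Subtype.ext (Subtype.ext (by simpa using hz))⟩)
    rw [hQbot] at hR
    exact Subgroup.mem_bot.mp (hR (MonoidHom.mem_ker.mpr hg))
  obtain ⟨F, iF, iF', hFc, e, f, hef⟩ := recognize hpairX hσinj hfree (hA'card.trans hfixcard)
  refine ⟨F, iF, iF', hFc.trans hA'card, ⟨e⟩, ?_, ?_⟩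
  · -- the fixed points
    refine le_antisymm ?_ (sup_le ?_ ?_)
    · let L : Subgroup ↥V :=
        { carrier := {y | τ y ∈ fix σ A'}
          one_mem' := by show τ 1 ∈ fix σ A'; rw [hτ1]; exact zero_mem _
          mul_mem' := fun {a b} ha hb => by show τ (a * b) ∈ fix σ A'; rw [hτadd]; exact add_mem ha hb
          inv_mem' := fun {a} ha => by show τ a⁻¹ ∈ fix σ A'; rw [hτinv]; exact neg_mem ha }
      -- commutators cover the fixed points
      intro v hv
      have hvfix : τ ⟨v, hv.1⟩ ∈ fix σ A' := (mem_fix σ A').mpr fun a ha => (hσC a ⟨v, hv.1⟩).mpr (by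
        rw [show (a : G) * v * (a : G)⁻¹ * v⁻¹ = 1 by rw [Subgroup.mem_centralizer_iff.mp hv.2 (a : G) ha]; group]
        exact C.one_mem)
      obtain ⟨a, ha, ha1⟩ : ∃ a ∈ A', a ≠ 1 := by
        by_contra hall
        push Not at hall
        exact hAne (by rw [← hmapA, (Subgroup.eq_bot_iff_forall A').mpr hall, Subgroup.map_bot])
      have hmemfix : ∀ w, σ a w - w ∈ fix σ A' := fun w b hb =>
        sub_eq_zero.mp (DFunLike.congr_fun (hpairX.quad b hb a ha) w)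
      let η : fix σ A' → fix σ A' := fun w => ⟨σ a (σ x₀ w) - σ x₀ w, hmemfix _⟩
      have hηi : Function.Injective η := fun w w' e' => by
        have e1 : σ a (σ x₀ (w - w' : fix σ A').1) = σ x₀ (w - w' : fix σ A').1 := by
          rw [AddSubgroup.coe_sub, map_sub, map_sub, ← sub_eq_zero]
          have := sub_eq_zero.mpr (congrArg Subtype.val e')
          rw [← this]; show _ = (σ a (σ x₀ w) - σ x₀ w) - (σ a (σ x₀ w') - σ x₀ w'); abel
        exact sub_eq_zero.mp (Subtype.ext (eq_zero_of_fix hpairX hx₀ (w - w').2 (hfree a ha ha1 _ e1)))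
      obtain ⟨w, hw'⟩ := Finite.injective_iff_surjective.mp hηi ⟨_, hvfix⟩
      obtain ⟨y, hy⟩ := hτs (σ x₀ w)
      have hwv : σ a (τ y) - τ y = τ ⟨v, hv.1⟩ := by rw [hy]; exact congrArg Subtype.val hw'
      rw [hσmove] at hwv
      have hc : ((a : G) * y * (a : G)⁻¹ * (y : G)⁻¹)⁻¹ * v ∈ C := by
        have h9 : τ ((⟨_, V.mul_mem (hPconj a a.2 y y.2) (V.inv_mem y.2)⟩ : ↥V)⁻¹ * ⟨v, hv.1⟩) = 0 := by
          rw [hτadd, hτinv, hwv, neg_add_cancel]
        exact (hτker _).mp h9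
      have hcomm : (a : G) * y * (a : G)⁻¹ * (y : G)⁻¹ ∈ ⁅V, A⁆ := by
        rw [Subgroup.commutator_comm]
        exact Subgroup.commutator_mem_commutator ha y.2
      rw [← mul_inv_cancel_left ((a : G) * y * (a : G)⁻¹ * (y : G)⁻¹) v]
      exact Subgroup.mul_mem_sup hcomm hc
    · refine Subgroup.commutator_le.mpr fun v hv a ha => ⟨?_, Subgroup.mem_centralizer_iff.mpr fun b hb => ?_⟩
      · have h := hPconj a (hAP ha) v⁻¹ (V.inv_mem hv)
        rw [commutatorElement_def, show v * a * v⁻¹ * a⁻¹ = v * (a * v⁻¹ * a⁻¹) by group]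
        exact V.mul_mem hv h
      · have h := hquad v hv a ha b hb
        have h' : b * ⁅v, a⁆ * b⁻¹ = ⁅v, a⁆ := by
          calc b * ⁅v, a⁆ * b⁻¹ = (b * (a * v * a⁻¹ * v⁻¹) * b⁻¹)⁻¹ := by rw [commutatorElement_def]; group
            _ = ⁅v, a⁆ := by rw [h, commutatorElement_def]; group
        exact mul_inv_eq_iff_eq_mul.mp h'
    · exact le_inf inf_le_left (inf_le_right.trans (Subgroup.centralizer_le hAP))
  · -- the action on the section
    refine ⟨hPV, inf_le_left, e.toMonoidHom,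
      MonoidHom.mk' (fun v => Multiplicative.ofAdd (f (τ v))) (fun a b => by rw [hτadd, map_add]; rfl),
      MonoidHom.range_eq_top.mpr e.surjective, fun z => ?_, fun u => ?_, fun g u => ?_⟩
    · obtain ⟨v, hv⟩ := hτs (f.symm (Multiplicative.toAdd z))
      exact ⟨v, by show Multiplicative.ofAdd (f (τ v)) = z; rw [hv, AddEquiv.apply_symm_apply]; rfl⟩
    · show Multiplicative.ofAdd (f (τ u)) = 1 ↔ _
      rw [ofAdd_eq_one, map_eq_zero_iff f f.injective, hτker]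
    · refine ⟨⟨_, hPconj g g.2 u u.2⟩, rfl, ?_⟩
      show f (τ _) = (e g).1.mulVec (f (τ u))
      rw [← hτact g u (hPconj g g.2 u u.2), hef]

end Cfsg.Agent.S2999
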