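import Cfsg.Statements.S5045
import Mathlib
import Cfsg.Agent.Lib.RootSub.RootInv
import Cfsg.Agent.S0199
import Cfsg.Agent.Lib.Basic
-- import your own Cfsg.Agent.* helpers here

set_option autoImplicit false
open Cfsg

namespace Cfsg.Agent.S5045

/-- Let G be a finite group generated by a set D of root involutions, and W the set of members of D whose product with every other member of D has even order or is trivial (the isolated vertices of the odd-order-product graph on D). Then W is conjugation-invariant and generates a normal 2-subgroup of G meeting D in exactly W; the commutator of two members of D lying in different connected components of that graph, each with more than one member, lies in the subgroup generated by W; and for a in such a component, every member of D commuting with a, different from a and with product with a in D, lies in that component or in W. -/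
theorem result {G : Type*} [Group G] [Finite G] {D : Set G} (hD : Cfsg.IsRootInvolutionSet D) :
    (∀ w ∈ {w | Cfsg.IsIsolatedElem (Cfsg.OddAdj D) D w}, ∀ g : G, g * w * g⁻¹ ∈ {w | Cfsg.IsIsolatedElem (Cfsg.OddAdj D) D w}) ∧
    (Subgroup.closure {w | Cfsg.IsIsolatedElem (Cfsg.OddAdj D) D w}).Normal ∧
    IsPGroup 2 ↥(Subgroup.closure {w | Cfsg.IsIsolatedElem (Cfsg.OddAdj D) D w}) ∧
    (Subgroup.closure {w | Cfsg.IsIsolatedElem (Cfsg.OddAdj D) D w} : Set G) ∩ D = {w | Cfsg.IsIsolatedElem (Cfsg.OddAdj D) D w} ∧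
    (∀ a ∈ D, ∀ b ∈ D, (∃ a' ∈ Cfsg.elemComponentOf (Cfsg.OddAdj D) D a, a' ≠ a) →
      (∃ b' ∈ Cfsg.elemComponentOf (Cfsg.OddAdj D) D b, b' ≠ b) →
      Cfsg.elemComponentOf (Cfsg.OddAdj D) D a ≠ Cfsg.elemComponentOf (Cfsg.OddAdj D) D b →
        a * b * a⁻¹ * b⁻¹ ∈ Subgroup.closure {w | Cfsg.IsIsolatedElem (Cfsg.OddAdj D) D w}) ∧
    (∀ a ∈ D, (∃ a' ∈ Cfsg.elemComponentOf (Cfsg.OddAdj D) D a, a' ≠ a) →
      Cfsg.productPartners D a ⊆ Cfsg.elemComponentOf (Cfsg.OddAdj D) D a ∪ {w | Cfsg.IsIsolatedElem (Cfsg.OddAdj D) D w}) := by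
  classical
  set W := {w | Cfsg.IsIsolatedElem (Cfsg.OddAdj D) D w} with hWdef
  have hWD : ∀ w ∈ W, w ∈ D := fun w hw => hw.1
  have hWc : ∀ w ∈ W, ∀ g : G, g * w * g⁻¹ ∈ W := by
    intro w hw g
    refine ⟨hD.conj_mem w hw.1 g, fun b => ⟨fun h => (hw.2 (g⁻¹ * b * g)).1 ?_, fun h => (hw.2 (g⁻¹ * b * g)).2 ?_⟩⟩
    · have := CfsgLib.RootInv.odd_conj hD g⁻¹ h
      rwa [inv_inv, show g⁻¹ * (g * w * g⁻¹) * g = w by group] at this
    · have := CfsgLib.RootInv.odd_conj hD g⁻¹ h
      rwa [inv_inv, show g⁻¹ * (g * w * g⁻¹) * g = w by group] at this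
  have hnorm : (Subgroup.closure W).Normal := ⟨fun x hx g => by
    induction hx using Subgroup.closure_induction with
    | mem y hy => exact Subgroup.subset_closure (hWc y hy g)
    | one => simp
    | mul y z _ _ h1 h2 =>
      rw [show g * (y * z) * g⁻¹ = (g * y * g⁻¹) * (g * z * g⁻¹) by group]; exact mul_mem h1 h2
    | inv y _ h1 =>
      rw [show g * y⁻¹ * g⁻¹ = (g * y * g⁻¹)⁻¹ by group]; exact inv_mem h1⟩
  haveI : Fact (Nat.Prime 2) := ⟨Nat.prime_two⟩
  have hpair : ∀ x ∈ W, ∀ y ∈ W, (x * y) ^ 4 = 1 := by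
    intro x hx y hy
    rcases hD.pair x hx.1 y hy.1 with e | e | ⟨e, -⟩
    · calc (x * y) ^ 4 = ((x * y) * (x * y)) ^ 2 := by rw [← pow_two, ← pow_mul]
        _ = ((x * x) * (y * y)) ^ 2 := by
          congr 1
          calc x * y * (x * y) = x * (y * x) * y := by group
            _ = (x * x) * (y * y) := by rw [← e]; group
        _ = 1 := by rw [CfsgLib.RootInv.mul_self hD hx.1, CfsgLib.RootInv.mul_self hD hy.1, one_mul, one_pow]
    · have hxy : x = y := by_contra fun hne => (hx.2 y).1 ⟨hx.1, hy.1, hne, e⟩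
      rw [← hxy, CfsgLib.RootInv.mul_self hD hx.1, one_pow]
    · rw [← e, pow_orderOf_eq_one]
  have hcore : Subgroup.closure W ≤ Cfsg.pCore 2 G := by
    refine (Subgroup.closure_le _).mpr fun w hw => ?_
    have hw2 : IsPGroup 2 (Subgroup.zpowers w) :=
      IsPGroup.of_card (n := 1) (by rw [Nat.card_zpowers, hD.orderOf_eq w hw.1, pow_one])
    obtain ⟨N, hN, hNp, hle⟩ := Cfsg.Agent.S0199.result (Subgroup.zpowers w) hw2 fun g => by
      rw [MonoidHom.map_zpowers]
      show IsPGroup 2 (Subgroup.zpowers w ⊔ Subgroup.zpowers (g * w * g⁻¹) : Subgroup G)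
      set y := g * w * g⁻¹ with hy
      have hyW : y ∈ W := hWc w hw g
      have e : Subgroup.zpowers w ⊔ Subgroup.zpowers y = Subgroup.zpowers (w * y) ⊔ Subgroup.zpowers w := by
        refine le_antisymm (sup_le le_sup_right (Subgroup.zpowers_le.mpr ?_))
          (sup_le (Subgroup.zpowers_le.mpr (mul_mem (Subgroup.mem_sup_left (Subgroup.mem_zpowers w))
            (Subgroup.mem_sup_right (Subgroup.mem_zpowers y)))) le_sup_left)
        have h9 : w⁻¹ * (w * y) ∈ Subgroup.zpowers (w * y) ⊔ Subgroup.zpowers w :=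
          mul_mem (inv_mem (Subgroup.mem_sup_right (Subgroup.mem_zpowers w))) (Subgroup.mem_sup_left (Subgroup.mem_zpowers _))
        rwa [inv_mul_cancel_left] at h9
      rw [e, sup_comm]
      have ht : IsPGroup 2 (Subgroup.zpowers (w * y)) := by
        obtain ⟨j, -, hj⟩ := (Nat.dvd_prime_pow Nat.prime_two).mp
          (show orderOf (w * y) ∣ 2 ^ 2 from orderOf_dvd_of_pow_eq_one (hpair w hw y hyW))
        exact IsPGroup.of_card (n := j) (by rw [Nat.card_zpowers, hj])
      refine IsPGroup.to_sup_of_normal_right' hw2 ht ?_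
      have hm : w * (w * y) * w⁻¹ = (w * y)⁻¹ := by
        rw [mul_inv_rev, CfsgLib.RootInv.inv_eq hD hw.1, CfsgLib.RootInv.inv_eq hD hyW.1, ← mul_assoc,
          CfsgLib.RootInv.mul_self hD hw.1, one_mul]
      have hww : w * w = 1 := CfsgLib.RootInv.mul_self hD hw.1
      rw [Subgroup.zpowers_le, Subgroup.mem_normalizer_iff]
      intro x
      constructor
      · rintro ⟨i, rfl⟩
        refine ⟨-i, ?_⟩
        show (w * y) ^ (-i) = w * (w * y) ^ i * w⁻¹
        rw [← conj_zpow, hm, inv_zpow, zpow_neg]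
      · rintro ⟨i, hi⟩
        refine ⟨-i, ?_⟩
        show (w * y) ^ (-i) = x
        have e2 : x = w⁻¹ * (w * y) ^ i * w := by rw [show (w * y) ^ i = w * x * w⁻¹ from hi]; group
        rw [e2, CfsgLib.RootInv.inv_eq hD hw.1]
        nth_rewrite 4 [← CfsgLib.RootInv.inv_eq hD hw.1]
        rw [← conj_zpow, hm, inv_zpow, zpow_neg]
    exact le_sSup (s := {N : Subgroup G | N.Normal ∧ IsPGroup 2 N}) ⟨hN, hNp⟩ (hle (Subgroup.mem_zpowers w))
  have hcl2 : IsPGroup 2 (Subgroup.closure W) := (CfsgLib.isPGroup_pCore 2).to_le hcore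
  have hniso : ∀ a ∈ D, a ∉ W → ∃ p, Cfsg.OddAdj D a p := by
    intro a ha haW
    by_contra hno
    push Not at hno
    exact haW ⟨ha, fun b => ⟨hno b, fun h => hno b (CfsgLib.RootInv.odd_symm h)⟩⟩
  have hnt : ∀ a ∈ D, (∃ a' ∈ Cfsg.elemComponentOf (Cfsg.OddAdj D) D a, a' ≠ a) → ∃ p, Cfsg.OddAdj D a p := by
    rintro a ha ⟨a', ⟨-, hr⟩, hne⟩
    rcases hr.cases_head with e | ⟨p, hp, -⟩
    · exact absurd e.symm hne
    · exact ⟨p, hp⟩
  refine ⟨hWc, hnorm, hcl2, ?_, ?_, ?_⟩
  · ext d
    refine ⟨fun ⟨hdc, hdD⟩ => ?_, fun hd => ⟨Subgroup.subset_closure hd, hWD d hd⟩⟩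
    by_contra hdW
    obtain ⟨b, hb⟩ := hniso d hdD hdW
    obtain ⟨h, hh⟩ := hb.2.2.2
    have hbb := CfsgLib.RootInv.mul_self hD hb.2.1
    have hdd := CfsgLib.RootInv.mul_self hD hdD
    have hmem : (d * b) * (d * b) ∈ Subgroup.closure W := by
      rw [show (d * b) * (d * b) = d * (b * d * b⁻¹) by rw [CfsgLib.RootInv.inv_eq hD hb.2.1]; group]
      exact mul_mem hdc (hnorm.conj_mem d hdc b)
    have ho : orderOf ((d * b) * (d * b)) = 2 * h + 1 := by
      rw [← hh, ← pow_two, Nat.Coprime.orderOf_pow]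
      rw [hh, Nat.coprime_two_right]
      exact ⟨h, rfl⟩
    obtain ⟨k, hk⟩ := IsPGroup.iff_orderOf.mp hcl2 ⟨_, hmem⟩
    rw [Subgroup.orderOf_mk, ho] at hk
    rcases Nat.eq_zero_or_pos k with hk0 | hk0
    · rw [hk0, pow_zero] at hk
      have : d * b = 1 := orderOf_eq_one_iff.mp (hh.trans hk)
      exact hb.2.2.1 (by rw [← CfsgLib.RootInv.inv_eq hD hdD, inv_eq_of_mul_eq_one_right this])
    · have : Odd (2 ^ k) := hk ▸ ⟨h, rfl⟩
      exact Nat.not_even_iff_odd.mpr this (Nat.even_pow.mpr ⟨even_two, hk0.ne'⟩)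
  · intro a ha b hb hna hnb hne
    have haa := CfsgLib.RootInv.mul_self hD ha
    have hbb := CfsgLib.RootInv.mul_self hD hb
    rw [CfsgLib.RootInv.inv_eq hD ha, CfsgLib.RootInv.inv_eq hD hb]
    rcases hD.pair a ha b hb with e | e | ⟨e4, hc⟩
    · rw [show a * b * a * b = (a * b) * (a * b) by group]
      nth_rewrite 1 [e]
      rw [show b * a * (a * b) = b * (a * a) * b by group, haa, mul_one, hbb]
      exact one_mem _
    · exfalso
      by_cases hab : a = b
      · exact hne (by rw [hab])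
      · exact hne (CfsgLib.RootInv.comp_eq (Relation.ReflTransGen.single ⟨ha, hb, hab, e⟩))
    · rw [show a * b * a * b = (a * b) ^ 2 by rw [pow_two]; group]
      by_contra hcW
      set c := (a * b) ^ 2 with hc'
      have h4 : (a * b) ^ 4 = 1 := by rw [← e4, pow_orderOf_eq_one]
      have hcc : c⁻¹ = c := CfsgLib.RootInv.inv_eq hD hc
      have hc2 : c = b * a * b * a := by
        rw [← hcc, hc', pow_two, mul_inv_rev, mul_inv_rev, CfsgLib.RootInv.inv_eq hD ha, CfsgLib.RootInv.inv_eq hD hb]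
        group
      have hc1 : c = a * b * a * b := by rw [hc', pow_two]; group
      have hpc := hniso c hc fun h => hcW (Subgroup.subset_closure h)
      have hac : a * c = b * a * b := by
        calc a * c = (a * a) * b * a * b := by rw [hc1]; group
          _ = b * a * b := by rw [haa, one_mul]
      have hca : c * a = b * a * b := by
        calc c * a = b * a * b * (a * a) := by rw [hc2]; group
          _ = b * a * b := by rw [haa, mul_one]
      have hbc : b * c = a * b * a := by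
        calc b * c = (b * b) * a * b * a := by rw [hc2]; group
          _ = a * b * a := by rw [hbb, one_mul]
      have hcb : c * b = a * b * a := by
        calc c * b = a * b * a * (b * b) := by rw [hc1]; group
          _ = a * b * a := by rw [hbb, mul_one]
      have h1 := CfsgLib.RootInv.line_reach' hD ha hc (hac.trans hca.symm) (by
        rw [hac]; nth_rewrite 2 [← CfsgLib.RootInv.inv_eq hD hb]; exact hD.conj_mem a ha b) (hnt a ha hna) hpc
      have h2 := CfsgLib.RootInv.line_reach' hD hb hc (hbc.trans hcb.symm) (by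
        rw [hbc]; nth_rewrite 2 [← CfsgLib.RootInv.inv_eq hD ha]; exact hD.conj_mem b hb a) (hnt b hb hnb) hpc
      exact hne (CfsgLib.RootInv.comp_eq (h1.trans (CfsgLib.RootInv.reach_symm h2)))
  · intro a ha hna e he
    obtain ⟨⟨heD, hcom, -⟩, hea⟩ := he
    by_cases heW : e ∈ W
    · exact Or.inr heW
    · exact Or.inl ⟨heD, CfsgLib.RootInv.line_reach' hD ha heD hcom.symm (hcom ▸ hea) (hnt a ha hna) (hniso e heD heW)⟩

end Cfsg.Agent.S5045
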