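import Cfsg.Statements.S0276
import Mathlib
import Cfsg.Agent.Lib.SLCard
import Cfsg.Agent.Lib.SL2Orders

set_option autoImplicit false
open Cfsg

namespace Cfsg.Agent.S0276



/-- For q = 3 or 5 mod 8 the Sylow 2-subgroups of PSL_2(q) are elementary abelian of order 4. -/
theorem result {F : Type*} [Field F] [Fintype F] {q : ℕ} (hF : Fintype.card F = q) (hq : q % 8 = 3 ∨ q % 8 = 5) (P : Sylow 2 (Matrix.ProjectiveSpecialLinearGroup (Fin 2) F)) : IsKleinFour (P : Subgroup (Matrix.ProjectiveSpecialLinearGroup (Fin 2) F)) := by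
  classical
  obtain ⟨p, hp⟩ := CharP.exists F
  obtain ⟨f, hpp, hpf⟩ := FiniteField.card F p
  haveI := Fact.mk hpp
  haveI : Fact (Nat.Prime 2) := ⟨Nat.prime_two⟩
  have hodd : Odd (Fintype.card F) := by rw [hF, Nat.odd_iff]; omega
  have hp2 : p ≠ 2 := by
    rintro rfl
    rw [hpf] at hodd
    exact Nat.not_even_iff_odd.mpr hodd (by simp [Nat.even_pow])
  have h := CfsgLib.SLCard.gcd_mul_card_PSL (F := F) (n := 2) (by norm_num)
  rw [CfsgLib.SLCard.card_SL_two, hF] at h
  have hg : Nat.gcd 2 (q - 1) = 2 := Nat.gcd_eq_left (by omega)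
  rw [hg] at h
  set N := Nat.card (Matrix.ProjectiveSpecialLinearGroup (Fin 2) F) with hN
  obtain ⟨r, hr, hr'⟩ : ∃ r, N = 4 * r ∧ r % 2 = 1 := by
    rcases hq with hq | hq
    · obtain ⟨k, hk⟩ : ∃ k, q = 8 * k + 3 := ⟨q / 8, by omega⟩
      have e : q ^ 2 - 1 = (8 * k + 2) * (8 * k + 4) := by
        subst hk
        have : (8 * k + 3) ^ 2 = (8 * k + 2) * (8 * k + 4) + 1 := by ring
        omega
      refine ⟨(8 * k + 3) * (4 * k + 1) * (2 * k + 1), ?_, by simp [Nat.mul_mod, Nat.add_mod]⟩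
      rw [e, hk] at h
      have : 2 * N = 2 * (4 * ((8 * k + 3) * (4 * k + 1) * (2 * k + 1))) := by rw [h]; ring
      omega
    · obtain ⟨k, hk⟩ : ∃ k, q = 8 * k + 5 := ⟨q / 8, by omega⟩
      have e : q ^ 2 - 1 = (8 * k + 4) * (8 * k + 6) := by
        subst hk
        have : (8 * k + 5) ^ 2 = (8 * k + 4) * (8 * k + 6) + 1 := by ring
        omega
      refine ⟨(8 * k + 5) * (2 * k + 1) * (4 * k + 3), ?_, by simp [Nat.mul_mod, Nat.add_mod]⟩
      rw [e, hk] at h
      have : 2 * N = 2 * (4 * ((8 * k + 5) * (2 * k + 1) * (4 * k + 3))) := by rw [h]; ring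
      omega
  have hPc : Nat.card (P : Subgroup (Matrix.ProjectiveSpecialLinearGroup (Fin 2) F)) = 4 := by
    rw [Sylow.card_eq_multiplicity, ← hN, hr, show (4 : ℕ) = 2 ^ 2 by rfl,
      Nat.factorization_mul (by norm_num) (by omega), Finsupp.add_apply,
      Nat.factorization_pow_self Nat.prime_two,
      Nat.factorization_eq_zero_of_not_dvd (by omega : ¬ 2 ∣ r)]
  have hno4 : ∀ x : Matrix.ProjectiveSpecialLinearGroup (Fin 2) F, orderOf x ≠ 4 := by
    intro x hx
    rcases CfsgLib.SL2Orders.psl_pow_cases p hodd x with e | e | e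
    · have := orderOf_dvd_of_pow_eq_one e; rw [hx, hF] at this; omega
    · have := orderOf_dvd_of_pow_eq_one e; rw [hx, hF] at this; omega
    · have := orderOf_dvd_of_pow_eq_one e; rw [hx] at this
      rcases (Nat.dvd_prime hpp).mp this with h4 | h4
      · omega
      · exact hp2 (by have := hpp.eq_two_or_odd; omega)
  have hex : ∀ x : (P : Subgroup (Matrix.ProjectiveSpecialLinearGroup (Fin 2) F)), x ^ 2 = 1 := by
    intro x
    have hd := orderOf_dvd_natCard x
    rw [hPc] at hd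
    apply orderOf_dvd_iff_pow_eq_one.mp
    have hle := Nat.le_of_dvd (by norm_num) hd
    have hne := hno4 x.1
    rw [Subgroup.orderOf_coe] at hne
    have hpos := orderOf_pos x
    interval_cases hh : orderOf x <;> omega
  refine ⟨hPc, ?_⟩
  haveI : Nontrivial (P : Subgroup (Matrix.ProjectiveSpecialLinearGroup (Fin 2) F)) :=
    Finite.one_lt_card_iff_nontrivial.mp (by omega)
  exact Monoid.exponent_eq_prime_iff Nat.prime_two |>.mpr fun g hg => orderOf_eq_prime (hex g) hg

end Cfsg.Agent.S0276
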