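import Cfsg.Statements.S0044
import Cfsg.Agent.Lib.Components

set_option autoImplicit false
open Cfsg

namespace Cfsg.Agent.S0044

/-- In a finite solvable group, the centraliser of the Fitting subgroup is contained in the Fitting subgroup. -/
theorem result {G : Type*} [Group G] [Finite G] [Group.IsSolvable G] :
    Subgroup.centralizer (Cfsg.fittingSubgroup G : Set G) ≤ Cfsg.fittingSubgroup G := by
  refine le_trans ?_ (le_trans CfsgLib.centralizer_generalizedFitting_le ?_)
  · refine Subgroup.centralizer_le ?_
    refine SetLike.coe_subset_coe.mpr (sup_le ?_ le_rfl)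
    refine sSup_le fun K hK => absurd le_top
      (CfsgLib.component_not_le_of_isSolvable (N := (⊤ : Subgroup G)) hK inferInstance)
  · refine sup_le (sSup_le fun K hK => absurd le_top
      (CfsgLib.component_not_le_of_isSolvable (N := (⊤ : Subgroup G)) hK inferInstance)) le_rfl

end Cfsg.Agent.S0044
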