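import Cfsg.Statements.S2954
import Cfsg.Agent.Lib.JComp.Iso

set_option autoImplicit false
set_option linter.unusedVariables false
open Cfsg
open scoped commutatorElement

namespace Cfsg.Agent.S2954

open CfsgLib.JComp

/-- Let G be a finite group of characteristic 2 type in which every 2-local subgroup is solvable and the centralizer of Ω₁(Z(S)) lies in N_G(S) for every Sylow 2-subgroup S; suppose O₂(G) = 1, fix a Sylow 2-subgroup S and a 2-local subgroup M containing N_G(J(S)) (J the Thompson subgroup generated by the elementary abelian 2-subgroups of largest order). If T is maximal (for the order of a largest elementary abelian subgroup, then the order of J(T), then the order of T) among the nontrivial 2-subgroups of M lying in a 2-local subgroup not inside M, then there are two distinct maximal 2-local subgroups P₁, P₂ of G, each having T as a Sylow 2-subgroup, that are both isomorphic to the symmetric group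 on four letters or both isomorphic to its direct product with a group of order 2. -/
theorem result {G : Type*} [Group G] [Finite G] (hL : Cfsg.IsCharacteristicTwoType G) (hN : ∀ N : Subgroup G, Cfsg.IsTwoLocal N → Group.IsSolvable ↥N)
    (hZ : ∀ S : Sylow 2 G, Subgroup.centralizer (Cfsg.omegaCenterOf (S : Subgroup G) : Set G) ≤ Subgroup.normalizer ((S : Subgroup G) : Set G)) (hO : Cfsg.pCore 2 G = ⊥) (S : Sylow 2 G) (M : Subgroup G) (hM : Cfsg.IsTwoLocal M)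
    (hMJ : Subgroup.normalizer (Cfsg.thompsonSubgroupOf 2 (S : Subgroup G) : Set G) ≤ M) (T : Subgroup G) (hT : T ∈ Cfsg.maxStraddlingTwoSubgroups M) :
    ∃ P₁ P₂ : Subgroup G, P₁ ≠ P₂ ∧ Cfsg.IsMaximalTwoLocal P₁ ∧ Cfsg.IsMaximalTwoLocal P₂ ∧
      Cfsg.IsSylowTwoIn T P₁ ∧ Cfsg.IsSylowTwoIn T P₂ ∧
      ((Nonempty (↥P₁ ≃* Equiv.Perm (Fin 4)) ∧ Nonempty (↥P₂ ≃* Equiv.Perm (Fin 4))) ∨
        (Nonempty (↥P₁ ≃* Equiv.Perm (Fin 4) × Multiplicative (ZMod 2)) ∧
          Nonempty (↥P₂ ≃* Equiv.Perm (Fin 4) × Multiplicative (ZMod 2)))) := by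
  obtain ⟨K, hK⟩ := outside_nonempty hL hN hZ S hMJ hT
  obtain ⟨Φ, K₂, hD⟩ := exists_duo hL hN hZ hO S hMJ hT hK
  have hF := hD.fam
  have hp₁ := hD.solo1.par hL hN hZ hF
  have hp₂ := hD.solo2.par hL hN hZ hF
  have hcore : NoCore (fun b => if b then K else K₂) T := hF.nocore hL hN hZ hD.solo1.phi hD.solo2.phi hD.ne
  have hVne : CfsgLib.JComp.vd T K ≠ CfsgLib.JComp.vd T K₂ := by
    intro e
    have hb := hcore (CfsgLib.JComp.vd T K) hp₁.v_le_T fun i => by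
      cases i
      · rw [e]; exact hp₂.v_normal
      · exact hp₁.v_normal
    have h := hp₁.card_vd
    rw [hb, Subgroup.card_bot] at h
    omega
  have hcards : Nat.card ↥(ck T K) = Nat.card ↥(ck T K₂) := by
    have h1 := hp₁.card_sylow hD.qd1
    have h2 := hp₂.card_sylow hD.qd2
    omega
  have hout : ∀ A B : Subgroup G, CfsgLib.JComp.Par T A → CfsgLib.JComp.Par T B →
      CfsgLib.JComp.qd T A = CfsgLib.JComp.vd T A → CfsgLib.JComp.qd T B = CfsgLib.JComp.vd T B →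
      CfsgLib.JComp.vd T A ≠ CfsgLib.JComp.vd T B → Nat.card ↥(ck T A) = Nat.card ↥(ck T B) →
      ∃ t ∈ T, t ∉ CfsgLib.JComp.qd T A ∧ t * t = 1 := by
    intro A B hA hB hqA hqB hne hc
    obtain ⟨t, ht, htA⟩ : ∃ t ∈ CfsgLib.JComp.vd T B, t ∉ CfsgLib.JComp.vd T A := by
      by_contra h
      push Not at h
      refine hne (Subgroup.eq_of_le_of_card_ge h ?_).symm
      rw [hA.card_vd, hB.card_vd, hc]
    exact ⟨t, hB.v_le_T ht, hqA ▸ htA, CfsgLib.JComp.elem_sq hB.v_elem ht⟩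
  obtain ⟨t₁, ht₁, htq₁, hts₁⟩ := hout K K₂ hp₁ hp₂ hD.qd1 hD.qd2 hVne hcards
  obtain ⟨t₂, ht₂, htq₂, hts₂⟩ := hout K₂ K hp₂ hp₁ hD.qd2 hD.qd1 hVne.symm hcards.symm
  have e₁ := uloc_eq_sup hL hN hZ hF hD.solo1 hD.qd1
  have e₂ := uloc_eq_sup hL hN hZ hF hD.solo2 hD.qd2
  obtain ⟨a₁, b₁⟩ := hp₁.iso hD.qd1 ht₁ htq₁ hts₁
  obtain ⟨a₂, b₂⟩ := hp₂.iso hD.qd2 ht₂ htq₂ hts₂
  refine ⟨uloc T K, uloc T K₂, hD.ne, hF.uloc_max hL hN hZ hD.solo1.phi, hF.uloc_max hL hN hZ hD.solo2.phi,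
    hD.solo1.syl, hD.solo2.syl, ?_⟩
  have hsm : Nat.card ↥(ck T K) ≤ 2 := by rw [hD.solo1.ck_eq hL hN hZ]; exact hD.solo1.small
  rcases (show Nat.card ↥(ck T K) = 1 ∨ Nat.card ↥(ck T K) = 2 by
      have := Nat.card_pos (α := ↥(ck T K))
      omega) with h | h
  · obtain ⟨f₁⟩ := a₁ h
    obtain ⟨f₂⟩ := a₂ (hcards ▸ h)
    exact Or.inl ⟨⟨(MulEquiv.subgroupCongr e₁).trans f₁⟩, ⟨(MulEquiv.subgroupCongr e₂).trans f₂⟩⟩
  · obtain ⟨f₁⟩ := b₁ h
    obtain ⟨f₂⟩ := b₂ (hcards ▸ h)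
    exact Or.inr ⟨⟨(MulEquiv.subgroupCongr e₁).trans f₁⟩, ⟨(MulEquiv.subgroupCongr e₂).trans f₂⟩⟩

end Cfsg.Agent.S2954
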