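import Cfsg.Statements.S2751
import Cfsg.Agent.Lib.CubicRadius.Main
import Cfsg.Agent.Lib.CubicRadius.Build
-- import your own Cfsg.Agent.* helpers here

set_option autoImplicit false
open Cfsg

namespace Cfsg.Agent.S2751

open CfsgLib CfsgLib.S3Amalgam CfsgLib.CubicRadius CfsgLib.AmalgamBasic MulAction

/-- Goldschmidt's bound for amalgams of index (3, 3): let M₁ and M₂ be finite subgroups of a group G such that M₁ ⊓ M₂ is a Sylow 2-subgroup of both M₁ and M₂, each quotient Mᵢ / O₂(Mᵢ) is isomorphic to the symmetric group of degree 3, and no nontrivial subgroup of M₁ ⊓ M₂ is normal in both M₁ and M₂. Then M₁ ⊓ M₂ has order at most 2^7. -/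
theorem result {G : Type*} [Group G] (M₁ M₂ : Subgroup G) [Finite M₁] [Finite M₂] (ha₁ : ∃ P : Sylow 2 M₁, (P : Subgroup M₁) = (M₁ ⊓ M₂).subgroupOf M₁) (ha₂ : ∃ P : Sylow 2 M₂, (P : Subgroup M₂) = (M₁ ⊓ M₂).subgroupOf M₂) (hb₁ : Nonempty (M₁ ⧸ Cfsg.pCore 2 M₁ ≃* Equiv.Perm (Fin 3))) (hb₂ : Nonempty (M₂ ⧸ Cfsg.pCore 2 M₂ ≃* Equiv.Perm (Fin 3))) (hc : ∀ N : Subgroup G, N ≤ M₁ ⊓ M₂ → (N.subgroupOf M₁).Normal → (N.subgroupOf M₂).Normal → N = ⊥) : Nat.card ↥(M₁ ⊓ M₂) ≤ 2 ^ 7 := by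
  obtain ⟨S₁, hS₁⟩ := ha₁
  have h1 : Parab M₁ (M₁ ⊓ M₂) := parab inf_le_left ⟨S₁, hS₁⟩ hb₁
  have h2 : Parab M₂ (M₁ ⊓ M₂) := parab inf_le_right ha₂ hb₂
  have htwo : IsPGroup 2 ↥(M₁ ⊓ M₂) := by
    have h := S₁.isPGroup'
    rw [hS₁] at h
    exact h.of_equiv (Subgroup.subgroupOfEquivOfLe inf_le_left)
  let H : Subgroup G := M₁ ⊔ M₂
  let P₁ : Subgroup ↥H := M₁.subgroupOf H
  let P₂ : Subgroup ↥H := M₂.subgroupOf H
  have hTH : M₁ ⊓ M₂ ≤ H := inf_le_left.trans le_sup_left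
  have k1 : Half P₁ ((M₁ ⊓ M₂).subgroupOf H) := Half.subgroupOf h1 inferInstance htwo le_sup_left
  have k2 : Half P₂ ((M₁ ⊓ M₂).subgroupOf H) := Half.subgroupOf h2 inferInstance htwo le_sup_right
  let a : CosetVertex P₁ P₂ := Sum.inl ((1 : ↥H) : ↥H ⧸ P₁)
  let b : CosetVertex P₁ P₂ := Sum.inr ((1 : ↥H) : ↥H ⧸ P₂)
  have hsa : ∀ g : ↥H, g • a = a ↔ g ∈ P₁ := fun g => by
    have := mem_stab_inl (M₁ := P₁) (M₂ := P₂) (x := (1 : ↥H)) (g := g)
    rw [MulAction.mem_stabilizer_iff, inv_one, one_mul, mul_one] at this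
    exact this
  have hsb : ∀ g : ↥H, g • b = b ↔ g ∈ P₂ := fun g => by
    have := mem_stab_inr (M₁ := P₁) (M₂ := P₂) (x := (1 : ↥H)) (g := g)
    rw [MulAction.mem_stabilizer_iff, inv_one, one_mul, mul_one] at this
    exact this
  have hA := loc3_base (a := a) (b := b) k1 hsa
    (fun g hg => by rw [hsb]; exact ⟨fun h => ⟨(hsa g).mp hg, h⟩, fun h => h.2⟩)
    (fun g => Sum.inr_ne_inl)
  have hB := loc3_base (a := b) (b := a) k2 hsb
    (fun g hg => by rw [hsa]; exact ⟨fun h => ⟨h, (hsb g).mp hg⟩, fun h => h.1⟩)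
    (fun g => Sum.inl_ne_inr)
  have hall : ∀ u : CosetVertex P₁ P₂, ∃ g : ↥H, g • a = u ∨ g • b = u := by
    rintro (q | q) <;> obtain ⟨x, rfl⟩ := QuotientGroup.mk_surjective q
    · exact ⟨x, Or.inl (by simp [a, Sum.smul_inl, MulAction.Quotient.smul_coe])⟩
    · exact ⟨x, Or.inr (by simp [b, Sum.smul_inr, MulAction.Quotient.smul_coe])⟩
  have hgen : stabilizer ↥H a ⊔ stabilizer ↥H b = ⊤ := by
    rw [show stabilizer ↥H a = P₁ from Subgroup.ext hsa, show stabilizer ↥H b = P₂ from Subgroup.ext hsb,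
      ← Subgroup.subgroupOf_sup le_sup_left le_sup_right]
    exact Subgroup.subgroupOf_self _
  have hfaith : ∀ g : ↥H, (∀ x : CosetVertex P₁ P₂, g • x = x) → g = 1 := by
    intro g hg
    obtain ⟨K, hKn, hmem⟩ : ∃ K : Subgroup ↥H, K.Normal ∧
        ∀ n : ↥H, n ∈ K ↔ ∀ x : CosetVertex P₁ P₂, n • x = x :=
      ⟨_, MonoidHom.normal_ker (MulAction.toPermHom ↥H (CosetVertex P₁ P₂)), fun n =>
        ⟨fun hn x => Equiv.Perm.ext_iff.mp hn x, fun hn => Equiv.Perm.ext hn⟩⟩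
    have hle : K.map H.subtype ≤ M₁ ⊓ M₂ := by
      rintro _ ⟨n, hn, rfl⟩
      exact ⟨(hsa n).mp ((hmem n).mp hn a), (hsb n).mp ((hmem n).mp hn b)⟩
    have hnorm : ∀ M : Subgroup G, M ≤ H → ((K.map H.subtype).subgroupOf M).Normal := by
      intro M hM
      refine ⟨fun n hn m => ?_⟩
      rw [Subgroup.mem_subgroupOf] at hn ⊢
      obtain ⟨k, hk, e⟩ := hn
      refine ⟨⟨m, hM m.2⟩ * k * ⟨m, hM m.2⟩⁻¹, hKn.conj_mem k hk _, ?_⟩
      show (m : G) * (k : G) * (m : G)⁻¹ = (m : G) * (n : G) * (m : G)⁻¹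
      rw [show (k : G) = (n : G) from e]
    have hbot := hc _ hle (hnorm M₁ le_sup_left) (hnorm M₂ le_sup_right)
    have hgK : g ∈ K := (hmem g).mpr hg
    have := (Subgroup.map_eq_bot_iff_of_injective K H.subtype_injective).mp hbot
    rw [this, Subgroup.mem_bot] at hgK
    exact hgK
  have hTab : S3Amalgam.T (G := ↥H) a b = (M₁ ⊓ M₂).subgroupOf H := by
    ext g
    rw [mem_T, hsa, hsb]
    rfl
  let D : Cubic ↥H (CosetVertex P₁ P₂) := Cubic.ofEdge a b (fun u => u.isLeft = true)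
    (fun g x => by rcases x with x | x <;> simp) rfl (by simp [b]) hall hgen hfaith hA hB.flip
    (hTab ▸ htwo.of_equiv (Subgroup.subgroupOfEquivOfLe hTH).symm)
  have hab : D.Adj a b := ⟨1, Or.inl ⟨one_smul _ _, one_smul _ _⟩⟩
  have := D.bound hab
  rw [hTab, Nat.card_congr (Subgroup.subgroupOfEquivOfLe hTH).toEquiv] at this
  exact this

end Cfsg.Agent.S2751
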