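import Cfsg.Statements.S2126
import Cfsg.Agent.Lib.Suzuki.Lie
import Cfsg.Agent.Lib.Suzuki.Aut

set_option autoImplicit false
open Cfsg

namespace Cfsg.Agent.S2126

/-- Outer automorphisms of the Suzuki groups: for q = 2^(2m+1) with m ≥ 1 the outer automorphism group of Sz(q) has order 2m + 1 (field automorphisms only). -/
theorem result {F : Type*} [Field F] [Fintype F] {m : ℕ} (hm : 1 ≤ m) (hF : Fintype.card F = 2 ^ (2 * m + 1)) : Nat.card (Cfsg.Out ↥(Cfsg.Lie.Sz F (2 ^ (m + 1)))) = 2 * m + 1 := by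
  let e := CfsgLib.Suzuki.lieEquiv hF hm
  let E : MulAut ↥(Cfsg.Sz F m) ≃* MulAut ↥(Cfsg.Lie.Sz F (2 ^ (m + 1))) := MulAut.congr e
  have hc : ∀ g, E (MulAut.conj g) = MulAut.conj (e g) := by
    intro g
    refine MulEquiv.ext fun x => ?_
    show e (g * e.symm x * g⁻¹) = e g * x * (e g)⁻¹
    rw [map_mul, map_mul, map_inv, e.apply_symm_apply]
  have hI : (Cfsg.Inn ↥(Cfsg.Sz F m)).map E.toMonoidHom = Cfsg.Inn ↥(Cfsg.Lie.Sz F (2 ^ (m + 1))) := by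
    ext x
    constructor
    · rintro ⟨_, ⟨g, rfl⟩, rfl⟩
      exact ⟨e g, (hc g).symm⟩
    · rintro ⟨g, rfl⟩
      exact ⟨MulAut.conj (e.symm g), ⟨_, rfl⟩, by rw [MulEquiv.coe_toMonoidHom, hc, e.apply_symm_apply]⟩
  show Nat.card (MulAut ↥(Cfsg.Lie.Sz F (2 ^ (m + 1))) ⧸ Cfsg.Inn ↥(Cfsg.Lie.Sz F (2 ^ (m + 1)))) = _
  rw [← Nat.card_congr (QuotientGroup.congr (Cfsg.Inn ↥(Cfsg.Sz F m)) _ E hI).toEquiv]
  exact CfsgLib.Suzuki.card_out hF hm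

end Cfsg.Agent.S2126
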