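import Cfsg.Statements.S4006
import Mathlib
import Cfsg.Agent.Lib.FpfOrderThree
import Cfsg.Agent.Lib.Coprime
import Cfsg.Agent.Lib.PSolvable
import Cfsg.Agent.Lib.Basic
import Cfsg.Agent.Lib.Elementary
import Cfsg.Agent.Lib.UniqueSubgroup
import Cfsg.Agent.Lib.CharTheory.Burnside
-- import your own Cfsg.Agent.* helpers here

set_option autoImplicit false
open Cfsg

namespace Cfsg.Agent.S4006

namespace Aux

universe a

open CfsgLib
open scoped commutatorElement Pointwise

variable {G : Type a} [Group G] [Finite G]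

theorem pow_cases {p k : ℕ} (hp : p = 2 ∨ p = 3) (h : p ^ k ≤ 4) (h0 : k ≠ 0) :
    (p = 2 ∧ (k = 1 ∨ k = 2)) ∨ (p = 3 ∧ k = 1) := by
  have hk : k ≤ 2 := by
    by_contra hk
    have := Nat.pow_le_pow_right (show 0 < p by omega) (show 3 ≤ k by omega)
    rcases hp with rfl | rfl <;> omega
  rcases hp with rfl | rfl <;> interval_cases k <;> simp_all

theorem no_mixed (hle : ∀ g : G, orderOf g ≤ 4) {x y : G} (hc : Commute x y) (hx : x ^ 4 = 1) (hy : y ^ 3 = 1)
    (hy1 : y ≠ 1) : x = 1 := by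
  by_contra hx1
  have hx4 : orderOf x ∣ 4 := orderOf_dvd_of_pow_eq_one hx
  have hy3 : orderOf y = 3 := orderOf_eq_prime (hp := ⟨Nat.prime_three⟩) hy hy1
  have h := hle (x * y)
  have hcop : (orderOf x).Coprime (orderOf y) := by
    rw [hy3]; exact Nat.Coprime.coprime_dvd_left hx4 (by norm_num)
  rw [hc.orderOf_mul_eq_mul_orderOf_of_coprime hcop, hy3] at h
  have : orderOf x ≠ 1 := fun e => hx1 (orderOf_eq_one_iff.mp e)
  have := orderOf_pos x
  omega

theorem nine_fixed {N : Subgroup G} [N.Normal] (hfpf : ∀ d : G, orderOf d = 3 → ∀ x ∈ N, Commute d x → x = 1)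
    {T : Subgroup G} (h3 : ∀ k ∈ T, k ^ 3 = 1) (hN : IsPGroup 2 N) {c : G} (hc : ∀ x ∈ T, Commute c x) (hcT : c ∈ T)
    (hc1 : c ≠ 1) {e : G} (he : e ∈ T) (hne : e ∉ Subgroup.zpowers c) {x : G} (hx : x ∈ N) : x = 1 := by
  haveI : Fact (Nat.Prime 3) := ⟨Nat.prime_three⟩
  haveI : Fact (Nat.Prime 2) := ⟨Nat.prime_two⟩
  -- it is enough to kill the centre
  suffices key : ∀ v ∈ N, (∀ y ∈ N, Commute v y) → v = 1 by
    by_contra hx1
    haveI : Nontrivial N := ⟨⟨x, hx⟩, 1, fun h => hx1 (congrArg Subtype.val h)⟩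
    obtain ⟨z, hz⟩ := @exists_ne _ hN.center_nontrivial (1 : Subgroup.center N)
    exact hz (Subtype.ext (Subtype.ext (key z.1.1 z.1.2 fun y hy =>
      (congrArg Subtype.val (Subgroup.mem_center_iff.mp z.2 ⟨y, hy⟩)).symm)))
  intro v hv hvc
  let Z := (Subgroup.center N).map N.subtype
  haveI : Z.Normal := inferInstance
  letI : CommGroup Z := { (inferInstance : Group Z) with
    mul_comm := fun p q => Subtype.ext (by
      obtain ⟨p', hp', hpe⟩ := p.2
      obtain ⟨q', hq', hqe⟩ := q.2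
      show p.1 * q.1 = q.1 * p.1
      rw [← hpe, ← hqe]
      exact congrArg Subtype.val (Subgroup.mem_center_iff.mp hq' p')) }
  have hvZ : v ∈ Z := ⟨⟨v, hv⟩, Subgroup.mem_center_iff.mpr fun y => Subtype.ext (hvc y y.2).symm.eq, rfl⟩
  let F : G → Z := fun u => ⟨u * v * u⁻¹, (inferInstance : Z.Normal).conj_mem v hvZ u⟩
  have horb : ∀ d ∈ T, d ≠ 1 → ∀ u : G, F u * F (d * u) * F (d * d * u) = 1 := fun d hd hd1 u => Subtype.ext (by
    have h := FpfThree.orbit_prod (h3 d hd) (hfpf d (orderOf_eq_prime (h3 d hd) hd1))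
      ((inferInstance : N.Normal).conj_mem v hv u)
    show u * v * u⁻¹ * (d * u * v * (d * u)⁻¹) * (d * d * u * v * (d * d * u)⁻¹) = 1
    rw [← h]; group)
  have hec : Commute e c := (hc e he).symm
  have c3 : c * c * c = 1 := by rw [← h3 c hcT, pow_three, mul_assoc]
  have hne1 : ∀ i : ℕ, e * c ^ i ≠ 1 := fun i hi => hne (by
    rw [eq_inv_of_mul_eq_one_left hi]; exact inv_mem (Subgroup.pow_mem _ (Subgroup.mem_zpowers c) i))
  have q1 := horb c hcT hc1 1
  have q2 := horb e he (by simpa using hne1 0) 1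
  have q3 := horb (e * c) (mul_mem he hcT) (by simpa using hne1 1) 1
  have q4 := horb (e * (c * c)) (mul_mem he (mul_mem hcT hcT)) (by simpa [pow_two] using hne1 2) 1
  have q5 := horb c hcT hc1 e
  have q6 := horb c hcT hc1 (e * e)
  simp only [mul_one] at q1 q2 q3 q4
  have r1 : (e * c) * (e * c) = c * c * (e * e) := by
    calc (e * c) * (e * c) = (c * e) * (c * e) := by rw [hec.eq]
      _ = c * (e * c) * e := by simp only [mul_assoc]
      _ = c * (c * e) * e := by rw [hec.eq]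
      _ = c * c * (e * e) := by simp only [mul_assoc]
  have hec2 : Commute e (c * c) := hec.mul_right hec
  have r2 : (e * (c * c)) * (e * (c * c)) = c * (e * e) := by
    calc (e * (c * c)) * (e * (c * c)) = (c * c) * e * ((c * c) * e) := by rw [hec2.eq]
      _ = (c * c) * (e * (c * c)) * e := by simp only [mul_assoc]
      _ = (c * c) * ((c * c) * e) * e := by rw [hec2.eq]
      _ = (c * c * c) * c * (e * e) := by simp only [mul_assoc]
      _ = c * (e * e) := by rw [c3, one_mul]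
  rw [r1, hec.eq] at q3
  rw [r2, hec2.eq] at q4
  have h4 : F 1 ^ 3 = 1 := by
    calc F 1 ^ 3 = (F 1 * F c * F (c * c)) * (F 1 * F e * F (e * e)) * (F 1 * F (c * e) * F (c * c * (e * e))) *
          (F 1 * F (c * c * e) * F (c * (e * e))) /
          ((F 1 * F c * F (c * c)) * (F e * F (c * e) * F (c * c * e)) * (F (e * e) * F (c * (e * e)) * F (c * c * (e * e)))) := by
            rw [eq_div_iff_mul_eq']; simp only [pow_three]; ac_rfl
      _ = 1 := by rw [q1, q2, q3, q4, q5, q6]; simp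
  have hv3 : v ^ 3 = 1 := by
    have h5 : (1 * v * (1 : G)⁻¹) ^ 3 = 1 := congrArg Subtype.val h4
    simpa using h5
  obtain ⟨k, hk⟩ := IsPGroup.iff_orderOf.mp hN ⟨v, hv⟩
  rw [Subgroup.orderOf_mk] at hk
  exact orderOf_eq_one_iff.mp (Nat.eq_one_of_dvd_coprimes (hk.symm ▸ Nat.Coprime.pow_left k (by norm_num)) dvd_rfl
    (orderOf_dvd_of_pow_eq_one hv3))

theorem q8_or_four {P : Type a} [Group P] [Finite P] (hP : IsPGroup 2 P) (hle : ∀ g : P, orderOf g ≤ 4)
    (h4 : 4 ∣ Nat.card P) (huniq : ∃ z : P, orderOf z = 2 ∧ ∀ x : P, x ^ 2 = 1 → x = 1 ∨ x = z) :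
    (IsCyclic P ∧ Nat.card P = 4) ∨ Nonempty (P ≃* QuaternionGroup 2) := by
  haveI : Fact (Nat.Prime 2) := ⟨Nat.prime_two⟩
  obtain ⟨z, hz, hu⟩ := huniq
  rcases UniqueSubgroup.cyclic_or_quaternion hP hz (fun x hx => by
    rcases hu x hx with rfl | rfl
    exacts [one_mem _, Subgroup.mem_zpowers _]) with h | ⟨-, n, hn, ⟨e⟩⟩
  · left
    haveI := h
    obtain ⟨g, hg⟩ := IsCyclic.exists_ofOrder_eq_natCard (α := P)
    have := hle g
    have := Nat.le_of_dvd Nat.card_pos h4
    exact ⟨h, by omega⟩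
  · right
    have hn1 : n = 1 := by
      haveI : NeZero (2 ^ n) := ⟨by positivity⟩
      have h := hle (e.symm (QuaternionGroup.a 1))
      rw [MulEquiv.orderOf_eq, QuaternionGroup.orderOf_a_one] at h
      have h2 : 2 ^ n ≤ 2 ^ 1 := by omega
      have := (Nat.pow_le_pow_iff_right (by norm_num : 1 < 2)).mp h2
      omega
    subst hn1
    exact ⟨e⟩

theorem perm_three {K : Type a} [Group K] [Finite K] (h6 : Nat.card K = 6)
    (hno : ∀ x y : K, orderOf x = 2 → orderOf y = 3 → ¬ Commute x y) : Nonempty (K ≃* Equiv.Perm (Fin 3)) := by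
  haveI : Fact (Nat.Prime 2) := ⟨Nat.prime_two⟩
  haveI : Fact (Nat.Prime 3) := ⟨Nat.prime_three⟩
  obtain ⟨t, ht⟩ := exists_prime_orderOf_dvd_card' (G := K) 2 (by rw [h6]; norm_num)
  set H := Subgroup.zpowers t
  have hH : Nat.card H = 2 := by rw [Nat.card_zpowers, ht]
  have hidx : Nat.card (K ⧸ H) = 3 := by
    have h := Subgroup.card_eq_card_quotient_mul_card_subgroup H
    rw [h6, hH] at h
    omega
  let f := MulAction.toPermHom K (K ⧸ H)
  have hf : Function.Injective f := by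
    rw [← MonoidHom.ker_eq_bot_iff, ← Subgroup.normalCore_eq_ker]
    by_contra hc
    have hn : H.normalCore = H := Subgroup.eq_of_le_of_card_ge (Subgroup.normalCore_le H) (by
      rw [hH]
      exact Subgroup.one_lt_card_iff_ne_bot _ |>.mpr hc)
    obtain ⟨y, hy⟩ := exists_prime_orderOf_dvd_card' (G := K) 3 (by rw [h6]; norm_num)
    have hty : y * t * y⁻¹ ∈ H := by
      have := (hn ▸ Subgroup.normalCore_normal H : H.Normal).conj_mem t (Subgroup.mem_zpowers t) y
      exact this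
    obtain ⟨k, hk⟩ := mem_powers_iff_mem_zpowers.mpr hty
    have hk' : t ^ k = y * t * y⁻¹ := hk
    rcases Nat.even_or_odd k with ⟨j, hj⟩ | ⟨j, hj⟩
    · rw [hj, ← two_mul, pow_mul, ← ht, pow_orderOf_eq_one, one_pow] at hk'
      have : t = 1 := by
        calc t = y⁻¹ * (y * t * y⁻¹) * y := by group
          _ = 1 := by rw [← hk']; group
      rw [this, orderOf_one] at ht
      omega
    · rw [hj, pow_succ, pow_mul, ← ht, pow_orderOf_eq_one, one_pow, one_mul] at hk'
      exact hno t y ht hy (mul_inv_eq_iff_eq_mul.mp hk'.symm).symm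
  haveI : Finite (Equiv.Perm (K ⧸ H)) := inferInstance
  have hb : Function.Bijective f := by
    refine (Nat.bijective_iff_injective_and_card f).mpr ⟨hf, ?_⟩
    rw [h6, Nat.card_perm, hidx]; rfl
  exact ⟨(MulEquiv.ofBijective f hb).trans (Finite.equivFinOfCardEq hidx).permCongrHom⟩

theorem exists_zpow_gen (T : Sylow 3 G) (hT : Nat.card (T : Subgroup G) = 3) :
    ∃ d : G, orderOf d = 3 ∧ d ∈ (T : Subgroup G) := by
  haveI : Fact (Nat.Prime 3) := ⟨Nat.prime_three⟩
  obtain ⟨d, hd⟩ := exists_prime_orderOf_dvd_card' (G := (T : Subgroup G)) 3 (by rw [hT])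
  exact ⟨d.1, by rw [Subgroup.orderOf_coe, hd], d.2⟩

theorem elem_of_involution {N : Subgroup G} [N.Normal] {d t : G} (hd : d ^ 3 = 1)
    (hfpf : ∀ x ∈ N, Commute d x → x = 1) (hNp : IsPGroup 2 N) (hN4 : ∀ x ∈ N, x ^ 4 = 1)
    (hclass : ∀ x ∈ N, ∀ y ∈ N, ∀ z ∈ N, Commute z ⁅x, y⁆) (ht : t * t = 1) (htd : t * d * t⁻¹ = d ^ 2)
    (h8 : ∀ u ∈ N, (u * t) ^ 4 = 1) : Cfsg.IsElementaryAbelian 2 N := by
  have hti : t⁻¹ = t := inv_eq_of_mul_eq_one_right ht
  have hd3 : d * d * d = 1 := by rw [← hd, pow_three, mul_assoc]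
  have cm := fun (y : G) {x : G} (hx : x ∈ N) => (inferInstance : N.Normal).conj_mem x hx y
  have htc : ∀ v, t * (d * v * d⁻¹) * t⁻¹ = d * d * (t * v * t⁻¹) * (d * d)⁻¹ := fun v => by
    rw [← pow_two d, ← htd]; group
  have orb := fun {v : G} (hv : v ∈ N) => FpfThree.orbit_prod hd hfpf hv
  -- fixed points of the involution square to one
  have sq1 : ∀ a ∈ N, t * a * t⁻¹ = a → a * a = 1 := by
    intro a ha hta
    have h4 := h8 _ (cm d ha)
    have e : (d * a * d⁻¹ * t) * (d * a * d⁻¹ * t) = a⁻¹ := by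
      calc (d * a * d⁻¹ * t) * (d * a * d⁻¹ * t) = (d * a * d⁻¹) * (t * (d * a * d⁻¹) * t⁻¹) * (t * t) := by group
        _ = (d * a * d⁻¹) * (d * d * a * (d * d)⁻¹) := by rw [ht, mul_one, htc, hta]
        _ = a⁻¹ := (inv_eq_of_mul_eq_one_right (by rw [← mul_assoc]; exact orb ha)).symm
    rw [show (4 : ℕ) = 2 * 2 from rfl, pow_mul, pow_two, pow_two, e, ← mul_inv_rev, inv_eq_one] at h4
    exact h4
  -- inverted elements square to one
  have sq2 : ∀ v ∈ N, t * v * t⁻¹ = v⁻¹ → v * v = 1 ∧ t * (d * v * d⁻¹) * t⁻¹ = v * (d * v * d⁻¹) := by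
    intro v hv htv
    have hb := cm d hv
    have hcomm : Commute v (d * v * d⁻¹) := FpfThree.comm_orbit hd hfpf hv
    have h2 : t * (d * v * d⁻¹) * t⁻¹ = v * (d * v * d⁻¹) := by
      rw [htc, htv, show d * d * v⁻¹ * (d * d)⁻¹ = (d * d * v * (d * d)⁻¹)⁻¹ by simp [mul_assoc]]
      exact inv_eq_of_mul_eq_one_left (orb hv)
    refine ⟨?_, h2⟩
    set b := d * v * d⁻¹
    have e : (b * t) * (b * t) = v * (b * b) := by
      calc (b * t) * (b * t) = b * (t * b * t⁻¹) * (t * t) := by group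
        _ = b * (v * b) := by rw [ht, mul_one, h2]
        _ = v * (b * b) := by rw [← mul_assoc, ← hcomm.eq, mul_assoc]
    have h4 := h8 b hb
    rw [show (4 : ℕ) = 2 * 2 from rfl, pow_mul, pow_two, pow_two, e] at h4
    have hc2 : Commute v (b * b) := hcomm.mul_right hcomm
    have h5 : v * v * ((b * b) * (b * b)) = 1 := by
      calc v * v * ((b * b) * (b * b)) = v * (v * (b * b)) * (b * b) := by simp only [mul_assoc]
        _ = v * ((b * b) * v) * (b * b) := by rw [hc2.eq]
        _ = v * (b * b) * (v * (b * b)) := by simp only [mul_assoc]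
        _ = 1 := h4
    have hb4 : (b * b) * (b * b) = 1 := by rw [← hN4 b hb, pow_succ, pow_three, mul_assoc]; group
    rwa [hb4, mul_one] at h5
  -- decomposition
  have dec : ∀ n ∈ N, ∃ a ∈ N, ∃ v ∈ N, t * a * t⁻¹ = a ∧ t * v * t⁻¹ = v ∧ n = a * (d * v * d⁻¹) := by
    intro n hn
    set v := n⁻¹ * (t * n * t⁻¹) with hv
    have hvN : v ∈ N := mul_mem (inv_mem hn) (cm t hn)
    have htv : t * v * t⁻¹ = v⁻¹ := by
      calc t * v * t⁻¹ = (t * n⁻¹ * t⁻¹) * ((t * t) * n * (t * t)⁻¹) := by rw [hv]; group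
        _ = v⁻¹ := by rw [ht, hv]; group
    obtain ⟨hv2, h2⟩ := sq2 v hvN htv
    have hvv : t * v * t⁻¹ = v := by rw [htv]; exact inv_eq_of_mul_eq_one_right hv2
    refine ⟨n * (d * v * d⁻¹)⁻¹, mul_mem hn (inv_mem (cm d hvN)), v, hvN, ?_, hvv, by group⟩
    have e1 : t * n * t⁻¹ = n * v := by rw [hv]; group
    have hc : Commute v (d * v * d⁻¹) := FpfThree.comm_orbit hd hfpf hvN
    calc t * (n * (d * v * d⁻¹)⁻¹) * t⁻¹ = (t * n * t⁻¹) * (t * (d * v * d⁻¹) * t⁻¹)⁻¹ := by group
      _ = n * v * ((d * v * d⁻¹) * v)⁻¹ := by rw [e1, h2, hc.eq]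
      _ = n * (d * v * d⁻¹)⁻¹ := by group
  have fixcomm : ∀ a ∈ N, t * a * t⁻¹ = a → ∀ a' ∈ N, t * a' * t⁻¹ = a' → Commute a a' := by
    intro a ha hta a' ha' hta'
    have h1 := sq1 _ (mul_mem ha ha') (by rw [show t * (a * a') * t⁻¹ = (t * a * t⁻¹) * (t * a' * t⁻¹) by group, hta, hta'])
    have h2 := sq1 a ha hta
    have h3 := sq1 a' ha' hta'
    calc a * a' = (a * a')⁻¹ := (inv_eq_of_mul_eq_one_right h1).symm
      _ = a' * a := by rw [mul_inv_rev, inv_eq_of_mul_eq_one_right h2, inv_eq_of_mul_eq_one_right h3]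
  -- class two calculus
  have cl1 : ∀ x ∈ N, ∀ y ∈ N, ∀ z ∈ N, ⁅x * y, z⁆ = ⁅x, z⁆ * ⁅y, z⁆ := by
    intro x hx y hy z hz
    have h1 := hclass y hy z hz x hx
    have h2 : Commute ⁅x, z⁆ ⁅y, z⁆ := by
      have hm : ⁅x, z⁆ ∈ N := by
        rw [commutatorElement_def, show x * z * x⁻¹ * z⁻¹ = x * z * x⁻¹ * z⁻¹ from rfl]
        exact mul_mem (mul_mem (mul_mem hx hz) (inv_mem hx)) (inv_mem hz)
      exact hclass y hy z hz _ hm
    calc ⁅x * y, z⁆ = x * ⁅y, z⁆ * x⁻¹ * ⁅x, z⁆ := by simp only [commutatorElement_def]; group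
      _ = ⁅y, z⁆ * ⁅x, z⁆ := by rw [h1.eq, mul_inv_cancel_right]
      _ = ⁅x, z⁆ * ⁅y, z⁆ := h2.symm.eq
  have cl2 : ∀ x ∈ N, ∀ y ∈ N, ∀ z ∈ N, ⁅x, y * z⁆ = ⁅x, y⁆ * ⁅x, z⁆ := by
    intro x hx y hy z hz
    calc ⁅x, y * z⁆ = ⁅x, y⁆ * (y * ⁅x, z⁆ * y⁻¹) := by simp only [commutatorElement_def]; group
      _ = ⁅x, y⁆ * ⁅x, z⁆ := by rw [(hclass x hx z hz y hy).eq, mul_inv_cancel_right]
  have cself : ∀ a ∈ N, ⁅a, d * a * d⁻¹⁆ = 1 := fun a ha =>
    commutatorElement_eq_one_iff_commute.mpr (FpfThree.comm_orbit hd hfpf ha)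
  have fab : ∀ a ∈ N, t * a * t⁻¹ = a → ∀ a' ∈ N, t * a' * t⁻¹ = a' → ⁅a, d * a' * d⁻¹⁆ = 1 := by
    intro a ha hta a' ha' hta'
    set f := ⁅a, d * a' * d⁻¹⁆ with hf
    have hfN : f ∈ N := by
      rw [hf, commutatorElement_def]
      exact mul_mem (mul_mem (mul_mem ha (cm d ha')) (inv_mem ha)) (inv_mem (cm d ha'))
    refine hfpf f hfN (mul_inv_eq_iff_eq_mul.mp ?_)
    have hs := cself _ (mul_mem ha ha')
    rw [show d * (a * a') * d⁻¹ = (d * a * d⁻¹) * (d * a' * d⁻¹) by group,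
      cl1 a ha a' ha' _ (mul_mem (cm d ha) (cm d ha')), cl2 a ha _ (cm d ha) _ (cm d ha'),
      cl2 a' ha' _ (cm d ha) _ (cm d ha'), cself a ha, cself a' ha', one_mul, mul_one, ← hf] at hs
    have hff : f * f = 1 := by
      rw [hf, ← cl1 a ha a ha _ (cm d ha'), sq1 a ha hta, commutatorElement_one_left]
    have hsym : ⁅a', d * a * d⁻¹⁆ = f := by
      rw [← inv_eq_of_mul_eq_one_right hff]
      exact eq_inv_of_mul_eq_one_right hs
    have e1 : d * d * a' * (d * d)⁻¹ = (a' * (d * a' * d⁻¹))⁻¹ := (inv_eq_of_mul_eq_one_right (orb ha')).symm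
    have hcc : ⁅d * a * d⁻¹, d * a' * d⁻¹⁆ = 1 := by
      rw [show d * a * d⁻¹ = MulAut.conj d a from rfl, show d * a' * d⁻¹ = MulAut.conj d a' from rfl,
        ← map_commutatorElement, commutatorElement_eq_one_iff_commute.mpr (fixcomm a ha hta a' ha' hta'), map_one]
    calc d * f * d⁻¹ = ⁅d * a * d⁻¹, d * d * a' * (d * d)⁻¹⁆ := by rw [hf]; simp only [commutatorElement_def]; group
      _ = ⁅d * a * d⁻¹, (a' * (d * a' * d⁻¹))⁻¹⁆ := by rw [e1]
      _ = (⁅d * a * d⁻¹, a' * (d * a' * d⁻¹)⁆)⁻¹ := by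
        have hm : a' * (d * a' * d⁻¹) ∈ N := mul_mem ha' (cm d ha')
        rw [eq_inv_iff_mul_eq_one, ← cl2 _ (cm d ha) _ (inv_mem hm) _ hm, inv_mul_cancel, commutatorElement_one_right]
      _ = ⁅a', d * a * d⁻¹⁆ := by
        rw [cl2 _ (cm d ha) _ ha' _ (cm d ha'), hcc, mul_one, commutatorElement_inv]
      _ = f := hsym
  have hcomm : ∀ x ∈ N, ∀ y ∈ N, Commute x y := by
    intro x hx y hy
    obtain ⟨a, ha, v, hv, hta, htv, rfl⟩ := dec x hx
    obtain ⟨a', ha', v', hv', hta', htv', rfl⟩ := dec y hy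
    have h1 : Commute a a' := fixcomm a ha hta a' ha' hta'
    have h2 : Commute a (d * v' * d⁻¹) := commutatorElement_eq_one_iff_commute.mp (fab a ha hta v' hv' htv')
    have h3 : Commute a' (d * v * d⁻¹) := commutatorElement_eq_one_iff_commute.mp (fab a' ha' hta' v hv htv)
    have h4 : Commute (d * v * d⁻¹) (d * v' * d⁻¹) := (fixcomm v hv htv v' hv' htv').map (MulAut.conj d).toMonoidHom
    exact (h1.mul_right h2).mul_left (h3.symm.mul_right h4)
  refine ⟨⟨⟨fun x y => Subtype.ext (hcomm x x.2 y y.2).eq⟩⟩, fun x hx => ?_⟩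
  obtain ⟨a, ha, v, hv, hta, htv, rfl⟩ := dec x hx
  rw [(commutatorElement_eq_one_iff_commute.mp (fab a ha hta v hv htv)).mul_pow, pow_two, pow_two, sq1 a ha hta,
    one_mul, show d * v * d⁻¹ * (d * v * d⁻¹) = d * (v * v) * d⁻¹ by group, sq1 v hv htv, mul_one, mul_inv_cancel]

theorem main (h : Set.range (orderOf : G → ℕ) = {k : ℕ | 1 ≤ k ∧ k ≤ 4}) :
    ∃ (N : Subgroup G) (_ : N.Normal),
      (IsPGroup 2 ↥N ∧ Monoid.exponent ↥N = 4 ∧ Group.nilpotencyClass ↥N ≤ 2 ∧ N.index = 3) ∨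
      (Cfsg.IsElementaryAbelian 2 N ∧ Nonempty (G ⧸ N ≃* Equiv.Perm (Fin 3))) ∨
      (Cfsg.IsElementaryAbelian 3 N ∧ ((IsCyclic (G ⧸ N) ∧ N.index = 4) ∨ Nonempty (G ⧸ N ≃* QuaternionGroup 2))) := by
  haveI : Fact (Nat.Prime 2) := ⟨Nat.prime_two⟩
  haveI : Fact (Nat.Prime 3) := ⟨Nat.prime_three⟩
  have hle : ∀ g : G, orderOf g ≤ 4 := fun g => by
    have : orderOf g ∈ ({k : ℕ | 1 ≤ k ∧ k ≤ 4} : Set ℕ) := h ▸ ⟨g, rfl⟩
    exact this.2
  have hex : ∀ k, 1 ≤ k → k ≤ 4 → ∃ g : G, orderOf g = k := fun k h1 h2 => by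
    have : k ∈ Set.range (orderOf : G → ℕ) := h.symm ▸ (⟨h1, h2⟩ : k ∈ {k : ℕ | 1 ≤ k ∧ k ≤ 4})
    exact this
  have hdvd : ∀ g : G, orderOf g ∣ 4 ∨ orderOf g = 3 := fun g => by
    have h1 := hle g
    have h0 := orderOf_pos g
    interval_cases hh : orderOf g <;> simp
  -- primes
  obtain ⟨a, b, hab⟩ : ∃ a b, Nat.card G = 2 ^ a * 3 ^ b := by
    obtain ⟨a, c, hc, hac⟩ := Nat.exists_eq_pow_mul_and_not_dvd (Nat.card_pos (α := G)).ne' 2 (by norm_num)
    obtain ⟨b, e, he, hbe⟩ := Nat.exists_eq_pow_mul_and_not_dvd (n := c) (by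
      rintro rfl
      exact hc (dvd_zero 2)) 3 (by norm_num)
    have he1 : e = 1 := by
      by_contra he1
      obtain ⟨r, hr, hre⟩ := Nat.exists_prime_and_dvd he1
      haveI := Fact.mk hr
      obtain ⟨g, hg⟩ := exists_prime_orderOf_dvd_card' (G := G) r (hre.trans ((dvd_mul_left e _).trans (hbe ▸ (dvd_mul_left c _).trans hac.symm.dvd)))
      rcases hdvd g with h4 | h3
      · rw [hg] at h4
        have := (Nat.prime_dvd_prime_iff_eq hr Nat.prime_two).mp (hr.dvd_of_dvd_pow (show r ∣ 2 ^ 2 from h4))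
        subst this
        exact hc (hre.trans (hbe ▸ dvd_mul_left e _))
      · rw [hg] at h3
        subst h3
        exact he hre
    exact ⟨a, b, by rw [hac, hbe, he1, mul_one]⟩
  haveI : Group.IsSolvable G := CfsgLib.CharTheory.isSolvable_of_card_two_primes Nat.prime_two Nat.prime_three hab
  obtain ⟨g3, hg3⟩ := hex 3 (by norm_num) (by norm_num)
  obtain ⟨g4, hg4⟩ := hex 4 (by norm_num) (by norm_num)
  have hnm := @no_mixed G _ _ hle
  have htwo : ∀ (S : Subgroup G), IsPGroup 2 S → ∀ x ∈ S, x ^ 4 = 1 := fun S hS x hx => by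
    obtain ⟨k, hk⟩ := IsPGroup.iff_orderOf.mp hS ⟨x, hx⟩
    rw [Subgroup.orderOf_mk] at hk
    rcases hdvd x with h4 | h3
    · exact orderOf_dvd_iff_pow_eq_one.mp h4
    · rw [hk] at h3
      rcases k with _ | k
      · simp at h3
      · have : 2 ∣ 3 := ⟨2 ^ k, by rw [← h3, pow_succ']⟩
        omega
  have hthree : ∀ (S : Subgroup G), IsPGroup 3 S → ∀ x ∈ S, x ^ 3 = 1 := fun S hS x hx => by
    obtain ⟨k, hk⟩ := IsPGroup.iff_orderOf.mp hS ⟨x, hx⟩
    rw [Subgroup.orderOf_mk] at hk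
    rcases k with _ | k
    · rw [pow_zero, orderOf_eq_one_iff] at hk
      rw [hk, one_pow]
    · have h1 := hle x
      rw [hk] at h1
      obtain ⟨-, hk1⟩ := (pow_cases (Or.inr rfl) h1 (by omega)).resolve_left (by omega)
      rw [← pow_orderOf_eq_one x, hk, hk1, pow_one]
  -- a normal subgroup of prime power order
  obtain ⟨p, hp, hcore⟩ : ∃ p, (p = 2 ∨ p = 3) ∧ Cfsg.pCore p G ≠ ⊥ := by
    haveI : Nontrivial G := ⟨g3, 1, fun e => by rw [e, orderOf_one] at hg3; omega⟩
    obtain ⟨N, hNn, -, hN0, hNmin⟩ := exists_minimal_normal (N := (⊤ : Subgroup G)) top_ne_bot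
    obtain ⟨-, q, hq, hNq⟩ := minimal_normal_elementary hN0 inferInstance hNmin
    have hN : IsPGroup q N := fun x => ⟨1, by rw [pow_one]; exact Subtype.ext (by simpa using hNq x x.2)⟩
    refine ⟨q, ?_, fun hb => hN0 (eq_bot_iff.mpr (hb ▸ le_pCore hN))⟩
    obtain ⟨x, hx, hx1⟩ := (Subgroup.bot_or_exists_ne_one N).resolve_left hN0
    haveI := Fact.mk hq
    have hxq := orderOf_eq_prime (hNq x hx) hx1
    have := hle x
    rw [hxq] at this
    have := hq.two_le
    interval_cases q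
    · exact Or.inl rfl
    · exact Or.inr rfl
    · exact absurd hq (by norm_num)
  set N := Cfsg.pCore p G with hNdef
  haveI : N.Normal := by rw [hNdef]; infer_instance
  refine ⟨N, inferInstance, ?_⟩
  have hNp : IsPGroup p N := isPGroup_pCore p
  obtain ⟨x₀, hx₀, hx₀1⟩ := (Subgroup.bot_or_exists_ne_one N).resolve_left hcore
  rcases hp with rfl | rfl
  · -- the 2-core
    have hN4 := htwo N hNp
    have hC : Subgroup.centralizer (N : Set G) ≤ N := by
      have hCp : IsPGroup 2 (Subgroup.centralizer (N : Set G)) := fun ⟨y, hy⟩ => by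
        rcases hdvd y with h4 | h3
        · exact ⟨2, Subtype.ext (by simpa using orderOf_dvd_iff_pow_eq_one.mp h4)⟩
        · exfalso
          refine hx₀1 (hnm (x := x₀) (y := y) ?_ (hN4 x₀ hx₀) (by rw [← h3, pow_orderOf_eq_one]) fun e => ?_)
          · exact (Subgroup.mem_centralizer_iff.mp hy x₀ hx₀)
          · rw [e, orderOf_one] at h3; omega
      exact le_pCore hCp
    have hfpf : ∀ d : G, orderOf d = 3 → ∀ x ∈ N, Commute d x → x = 1 := fun d hd x hx hc =>
      hnm hc.symm (hN4 x hx) (by rw [← hd, pow_orderOf_eq_one]) fun e => by rw [e, orderOf_one] at hd; omega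
    have hclass := FpfThree.class_two (show g3 ^ 3 = 1 by rw [← hg3, pow_orderOf_eq_one]) (hfpf g3 hg3) hNp
    have hnil : Group.IsNilpotent N := hNp.isNilpotent
    have hcl : Group.nilpotencyClass N ≤ 2 := by
      haveI := hnil
      rw [← lowerCentralSeries_eq_bot_iff_nilpotencyClass_le]
      rw [Subgroup.lowerCentralSeries_succ, Subgroup.lowerCentralSeries_succ, Subgroup.lowerCentralSeries_zero,
        Subgroup.commutator_eq_bot_iff_le_centralizer, Subgroup.commutator_le]
      intro a _ b _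
      refine Subgroup.mem_centralizer_iff.mpr fun c _ => Subtype.ext ?_
      exact (hclass a a.2 b b.2 c c.2).eq
    -- Sylow 3-subgroups have order 3
    obtain ⟨T⟩ : Nonempty (Sylow 3 G) := inferInstance
    have hT : Nat.card (T : Subgroup G) = 3 := by
      haveI : Nontrivial (T : Subgroup G) := Subgroup.nontrivial_iff_ne_bot _ |>.mpr
        (T.ne_bot_of_dvd_card (hg3 ▸ orderOf_dvd_natCard g3))
      obtain ⟨u, hu, hu1⟩ := (Subgroup.bot_or_exists_ne_one _).resolve_left (T.ne_bot_of_dvd_card (hg3 ▸ orderOf_dvd_natCard g3))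
      obtain ⟨z₀, hz₀⟩ := @exists_ne _ T.2.center_nontrivial (1 : Subgroup.center (T : Subgroup G))
      obtain ⟨c, hc, hcT, hc1⟩ : ∃ c : G, (∀ x ∈ (T : Subgroup G), Commute c x) ∧ c ∈ (T : Subgroup G) ∧ c ≠ 1 :=
        ⟨z₀.1.1, fun x hx => (congrArg Subtype.val (Subgroup.mem_center_iff.mp z₀.2 ⟨x, hx⟩)).symm, z₀.1.2,
          fun e => hz₀ (Subtype.ext (Subtype.ext e))⟩
      have hc3 : orderOf c = 3 := orderOf_eq_prime (hthree _ T.2 c hcT) hc1
      have hsub : (T : Subgroup G) ≤ Subgroup.zpowers c := by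
        intro e he
        by_contra hne
        exact hx₀1 (nine_fixed hfpf (fun k hk => hthree _ T.2 k hk) hNp hc hcT hc1 he hne hx₀)
      have := Subgroup.card_dvd_of_le hsub
      rw [Nat.card_zpowers, hc3] at this
      rcases (Nat.dvd_prime Nat.prime_three).mp this with h1 | h1
      · exact absurd (Subgroup.card_eq_one.mp h1) (T.ne_bot_of_dvd_card (hg3 ▸ orderOf_dvd_natCard g3))
      · exact h1
    -- the quotient
    haveI : Group.IsSolvable (G ⧸ N) := Group.isSolvable_of_surjective (QuotientGroup.mk'_surjective N)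
    have hTN : ∀ x ∈ (T : Subgroup G), x ∈ N → x = 1 := fun x hxT hxN => by
      by_contra hx1
      exact hx1 (hfpf x (orderOf_eq_prime (hthree _ T.2 x hxT) hx1) x hxN (Commute.refl x))
    have hg3N : g3 ∉ N := fun hm => by
      have : g3 = 1 := hfpf g3 hg3 g3 hm (Commute.refl g3)
      rw [this, orderOf_one] at hg3
      omega
    haveI : Nontrivial (G ⧸ N) := ⟨(g3 : G ⧸ N), 1, fun e => hg3N ((QuotientGroup.eq_one_iff g3).mp e)⟩
    obtain ⟨D, hDn, -, hD0, hDmin⟩ := exists_minimal_normal (N := (⊤ : Subgroup (G ⧸ N))) top_ne_bot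
    obtain ⟨-, q, hq, hDq⟩ := minimal_normal_elementary hD0 inferInstance hDmin
    haveI := hDn
    set L := D.comap (QuotientGroup.mk' N) with hLdef
    haveI : L.Normal := inferInstance
    have hLN : N ≤ L := fun x hx => by
      rw [hLdef, Subgroup.mem_comap, QuotientGroup.mk'_apply, (QuotientGroup.eq_one_iff x).mpr hx]
      exact one_mem D
    have hL : N < L := by
      refine lt_of_le_of_ne hLN fun e => hD0 ?_
      rw [← Subgroup.map_comap_eq_self_of_surjective (QuotientGroup.mk'_surjective N) D, ← hLdef, ← e,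
        QuotientGroup.map_mk'_self]
    obtain ⟨y, hy, hyN⟩ : ∃ y ∈ L, y ∉ N := Set.exists_of_ssubset hL
    have hq3 : q = 3 := by
      haveI := Fact.mk hq
      have hy' : orderOf (QuotientGroup.mk' N y) = q :=
        orderOf_eq_prime (hDq _ hy) fun e => hyN ((QuotientGroup.eq_one_iff y).mp e)
      have h1 := orderOf_map_dvd (QuotientGroup.mk' N) y
      rw [hy'] at h1
      rcases hdvd y with h4 | h3'
      · exfalso
        have h2 : q = 2 := (Nat.prime_dvd_prime_iff_eq hq Nat.prime_two).mp (hq.dvd_of_dvd_pow (show q ∣ 2 ^ 2 from h1.trans h4))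
        subst h2
        refine hyN ?_
        have hLp : IsPGroup 2 L := fun ⟨u, hu⟩ => by
          obtain ⟨j, hj⟩ := hNp ⟨u ^ 2, (QuotientGroup.eq_one_iff _).mp (by rw [← QuotientGroup.mk'_apply, map_pow]; exact hDq _ hu)⟩
          refine ⟨j + 1, Subtype.ext ?_⟩
          have hj' := congrArg Subtype.val hj
          simp only [Subgroup.coe_pow] at hj' ⊢
          rw [pow_succ', pow_mul]; exact hj'
        exact (le_pCore hLp : L ≤ Cfsg.pCore 2 G) hy
      · rw [h3'] at h1
        exact (Nat.prime_dvd_prime_iff_eq hq Nat.prime_three).mp h1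
    subst hq3
    have hLT : L = (T : Subgroup G) ⊔ N := by
      have hTL : (T : Subgroup G) ≤ L := by
        intro x hx
        obtain ⟨R⟩ : Nonempty (Sylow 3 L) := inferInstance
        obtain ⟨g, hg⟩ : ∃ g : G, (R : Subgroup L).map L.subtype ≤ (MulAut.conj g • (T : Subgroup G)) := by
          obtain ⟨T', hT'⟩ := (R.2.map L.subtype).exists_le_sylow
          obtain ⟨g, hg⟩ := MulAction.exists_smul_eq G T T'
          exact ⟨g, hT'.trans (le_of_eq (by rw [← hg]; rfl))⟩
        have hR : (R : Subgroup L) ≠ ⊥ := by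
          have hy' : orderOf (QuotientGroup.mk' N y) = 3 :=
            orderOf_eq_prime (hDq _ hy) fun e => hyN ((QuotientGroup.eq_one_iff y).mp e)
          refine R.ne_bot_of_dvd_card ?_
          have h1 := orderOf_map_dvd (QuotientGroup.mk' N) y
          rw [hy'] at h1
          exact h1.trans ((orderOf_submonoid (⟨y, hy⟩ : L)).symm ▸ orderOf_dvd_natCard _)
        have heq : (R : Subgroup L).map L.subtype = MulAut.conj g • (T : Subgroup G) := by
          refine Subgroup.eq_of_le_of_card_ge hg ?_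
          rw [CfsgLib.card_conj_smul, hT, Subgroup.card_map_of_injective L.subtype_injective]
          obtain ⟨k, hk⟩ := R.2.exists_card_eq
          rw [hk]
          rcases k with _ | k
          · exact absurd (Subgroup.card_eq_one.mp (by rw [hk, pow_zero])) hR
          · exact Nat.le_self_pow (Nat.succ_ne_zero k) 3
        have h2 : g * x * g⁻¹ ∈ L := Subgroup.map_subtype_le (R : Subgroup L) (heq ▸ CfsgLib.mem_conj_smul_iff.mpr (by simpa [mul_assoc] using hx))
        have h3 := (inferInstance : L.Normal).conj_mem _ h2 g⁻¹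
        simpa [mul_assoc] using h3
      refine le_antisymm (fun u hu => ?_) (sup_le hTL hLN)
      have hcD : IsPGroup 3 D := fun z => ⟨1, by rw [pow_one]; exact Subtype.ext (by simpa using hDq z.1 z.2)⟩
      obtain ⟨k, hk⟩ := hcD.exists_card_eq
      have hDT : D = (T : Subgroup G).map (QuotientGroup.mk' N) := by
        refine (Subgroup.eq_of_le_of_card_ge (Subgroup.map_le_iff_le_comap.mpr hTL) ?_).symm
        have hinj : Function.Injective ((QuotientGroup.mk' N).comp (T : Subgroup G).subtype) := by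
          rw [injective_iff_map_eq_one]
          exact fun z hz => Subtype.ext (hTN z z.2 ((QuotientGroup.eq_one_iff _).mp hz))
        rw [show (T : Subgroup G).map (QuotientGroup.mk' N) = ((QuotientGroup.mk' N).comp (T : Subgroup G).subtype).range by
          rw [MonoidHom.range_comp, Subgroup.range_subtype], ← Nat.card_congr (MonoidHom.ofInjective hinj).toEquiv, hT, hk]
        have h1 : 3 ^ k ∣ Nat.card G := hk ▸ (Subgroup.card_subgroup_dvd_card D).trans (Subgroup.card_quotient_dvd_card N)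
        have h2 := T.pow_dvd_card_of_pow_dvd_card h1
        rw [hT] at h2
        exact Nat.le_of_dvd (by norm_num) h2
      have hu' : u ∈ ((T : Subgroup G).map (QuotientGroup.mk' N)).comap (QuotientGroup.mk' N) := hDT ▸ hu
      rwa [Subgroup.comap_map_eq, QuotientGroup.ker_mk'] at hu'
    set M := Subgroup.normalizer ((T : Subgroup G) : Set G) with hMdef
    have hMN : ∀ x ∈ M, x ∈ N → x = 1 := fun x hxM hxN => by
      refine hfpf _ (?_ : orderOf (Classical.choose (exists_zpow_gen T hT)) = 3) x hxN ?_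
      · exact (Classical.choose_spec (exists_zpow_gen T hT)).1
      · set d := Classical.choose (exists_zpow_gen T hT)
        have hdT : d ∈ (T : Subgroup G) := (Classical.choose_spec (exists_zpow_gen T hT)).2
        have h1 : d * x * d⁻¹ * x⁻¹ ∈ (T : Subgroup G) := by
          rw [show d * x * d⁻¹ * x⁻¹ = d * (x * d⁻¹ * x⁻¹) by group]
          exact mul_mem hdT ((Subgroup.mem_normalizer_iff.mp hxM _).mp (inv_mem hdT))
        have h2 : d * x * d⁻¹ * x⁻¹ ∈ N := mul_mem ((inferInstance : N.Normal).conj_mem x hxN d) (inv_mem hxN)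
        exact mul_inv_eq_iff_eq_mul.mp (mul_inv_eq_one.mp (hTN _ h1 h2))
    have hgen : ∀ g : G, ∃ n ∈ N, ∃ m ∈ M, n * m = g := by
      intro g
      have hgT : ∃ n ∈ N, ∀ x ∈ (T : Subgroup G), (n⁻¹ * g) * x * (n⁻¹ * g)⁻¹ ∈ (T : Subgroup G) := by
        have hcont : MulAut.conj g • (T : Subgroup G) ≤ L := fun x hx => by
          rw [CfsgLib.mem_conj_smul_iff] at hx
          have : g⁻¹ * x * g ∈ L := hLT ▸ Subgroup.mem_sup_left hx
          simpa [mul_assoc] using (inferInstance : L.Normal).conj_mem _ this g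
        let T1 : Sylow 3 L := T.subtype (hLT ▸ le_sup_left)
        let T2 : Sylow 3 L := (g • T : Sylow 3 G).subtype hcont
        obtain ⟨l, hl⟩ := MulAction.exists_smul_eq L T1 T2
        obtain ⟨w, hw, n, hn, hwn⟩ := Subgroup.mem_sup_of_normal_right.mp (hLT ▸ l.2 : (l : G) ∈ (T : Subgroup G) ⊔ N)
        refine ⟨w * n * w⁻¹, (inferInstance : N.Normal).conj_mem n hn w, fun x hx => ?_⟩
        have hxl : g * x * g⁻¹ ∈ MulAut.conj (l : G) • (T : Subgroup G) := by
          have hmem : (⟨g * x * g⁻¹, hcont (CfsgLib.mem_conj_smul_iff.mpr (by simpa [mul_assoc] using hx))⟩ : L) ∈ T2 :=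
            CfsgLib.mem_conj_smul_iff.mpr (by simpa [mul_assoc] using hx)
          rw [← hl] at hmem
          have h5 : l⁻¹ * ⟨g * x * g⁻¹, _⟩ * l ∈ T1 := CfsgLib.mem_conj_smul_iff.mp hmem
          exact CfsgLib.mem_conj_smul_iff.mpr h5
        rw [CfsgLib.mem_conj_smul_iff, ← hwn] at hxl
        have h6 := mul_mem (mul_mem hw hxl) (inv_mem hw)
        convert h6 using 1
        group
      obtain ⟨n, hn, hT'⟩ := hgT
      refine ⟨n, hn, n⁻¹ * g, ?_, mul_inv_cancel_left _ _⟩
      rw [hMdef, Subgroup.mem_normalizer_iff]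
      intro x
      refine ⟨hT' x, fun hx => ?_⟩
      have : (MulAut.conj (n⁻¹ * g) • (T : Subgroup G)) = (T : Subgroup G) := by
        refine Subgroup.eq_of_le_of_card_ge (fun z hz => ?_) (by rw [CfsgLib.card_conj_smul])
        rw [CfsgLib.mem_conj_smul_iff] at hz
        have := hT' _ hz
        simpa [mul_assoc] using this
      rw [← this, CfsgLib.mem_conj_smul_iff] at hx
      simpa [mul_assoc] using hx
    -- M maps isomorphically onto the quotient
    let φ : M →* G ⧸ N := (QuotientGroup.mk' N).comp M.subtype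
    have hφ : Function.Bijective φ := by
      refine ⟨(injective_iff_map_eq_one φ).mpr fun z hz => Subtype.ext (hMN z z.2 ((QuotientGroup.eq_one_iff _).mp hz)), fun z => ?_⟩
      obtain ⟨g, rfl⟩ := QuotientGroup.mk'_surjective N z
      obtain ⟨n, hn, m, hm, rfl⟩ := hgen g
      exact ⟨⟨m, hm⟩, by show QuotientGroup.mk' N m = _; rw [map_mul, show QuotientGroup.mk' N n = 1 from (QuotientGroup.eq_one_iff n).mpr hn, one_mul]⟩
    have hTM : (T : Subgroup G) ≤ M := Subgroup.le_normalizer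
    obtain ⟨d, hd, hdT⟩ := exists_zpow_gen T hT
    have hTgen : (T : Subgroup G) = Subgroup.zpowers d := (Subgroup.eq_of_le_of_card_ge (Subgroup.zpowers_le.mpr hdT)
      (by rw [Nat.card_zpowers, hd, hT])).symm
    have hcent : ∀ m ∈ M, Commute m d → m ∈ Subgroup.zpowers d := fun m hm hmd => by
      rcases hdvd m with h4 | h3'
      · rw [hnm hmd (orderOf_dvd_iff_pow_eq_one.mp h4) (by rw [← hd, pow_orderOf_eq_one]) (fun e => by rw [e, orderOf_one] at hd; omega)]
        exact one_mem _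
      · rw [← hTgen]
        have hp3 : IsPGroup 3 (Subgroup.zpowers m) := IsPGroup.of_card (n := 1) (by rw [Nat.card_zpowers, h3', pow_one])
        exact (sup_eq_left.mp (T.3 (T.2.to_sup_of_normal_left' hp3 (Subgroup.zpowers_le.mpr hm)) le_sup_left)) (Subgroup.mem_zpowers m)
    have hindex : N.index = Nat.card M := by rw [N.index_eq_card]; exact (Nat.card_eq_of_bijective φ hφ).symm
    by_cases hinv : ∀ m ∈ M, Commute m d
    · left
      have hM : M = Subgroup.zpowers d := le_antisymm (fun m hm => hcent m hm (hinv m hm)) (hTgen ▸ hTM)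
      have hM3 : N.index = 3 := by rw [hindex, hM, Nat.card_zpowers, hd]
      refine ⟨hNp, ?_, hcl, hM3⟩
      refine Nat.dvd_antisymm (Monoid.exponent_dvd_of_forall_pow_eq_one fun x => Subtype.ext (by simpa using hN4 x x.2)) ?_
      have hg4N : g4 ∈ N := by
        rw [← QuotientGroup.eq_one_iff, ← orderOf_eq_one_iff]
        refine Nat.eq_one_of_dvd_coprimes (show Nat.Coprime 4 3 by norm_num) (hg4 ▸ orderOf_map_dvd (QuotientGroup.mk' N) g4) ?_
        rw [← hM3, N.index_eq_card]; exact orderOf_dvd_natCard _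
      have := Monoid.order_dvd_exponent (⟨g4, hg4N⟩ : N)
      rwa [Subgroup.orderOf_mk, hg4] at this
    push Not at hinv
    obtain ⟨m, hm, hmd⟩ := hinv
    have hd3 : d ^ 3 = 1 := by rw [← hd, pow_orderOf_eq_one]
    have hconj : ∀ u ∈ M, u * d * u⁻¹ = d ∨ u * d * u⁻¹ = d ^ 2 := fun u hu => by
      have h1 : u * d * u⁻¹ ∈ (T : Subgroup G) := (Subgroup.mem_normalizer_iff.mp hu d).mp hdT
      rw [hTgen] at h1
      obtain ⟨k, hk⟩ := mem_powers_iff_mem_zpowers.mpr h1
      have hk' : d ^ k = u * d * u⁻¹ := hk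
      rw [← Nat.div_add_mod k 3, pow_add, pow_mul, hd3, one_pow, one_mul] at hk'
      have hlt : k % 3 < 3 := Nat.mod_lt _ (by norm_num)
      interval_cases hk3 : k % 3
      · exfalso
        have : d = 1 := by
          calc d = u⁻¹ * (u * d * u⁻¹) * u := by group
            _ = 1 := by rw [← hk', pow_zero]; group
        rw [this, orderOf_one] at hd; omega
      · exact Or.inl (by rw [← hk', pow_one])
      · exact Or.inr hk'.symm
    have hM6 : Nat.card M = 6 := by
      let S := Subgroup.zpowers (⟨d, hTM hdT⟩ : M)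
      have hS : Nat.card S = 3 := by rw [Nat.card_zpowers, Subgroup.orderOf_mk, hd]
      have hidx : S.index = 2 := by
        rw [Subgroup.index_eq_two_iff]
        refine ⟨⟨m, hm⟩, fun u => ?_⟩
        have hmS : ∀ v : M, v ∈ S ↔ Commute (v : G) d := fun v => by
          constructor
          · rintro ⟨k, rfl⟩
            show Commute ((⟨d, hTM hdT⟩ : M) ^ k : M).1 d
            rw [Subgroup.coe_zpow]
            exact (Commute.refl d).zpow_left k
          · intro hv
            obtain ⟨k, hk⟩ := hcent v v.2 hv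
            exact ⟨k, Subtype.ext (by simpa using hk)⟩
        have hm2 : m * d * m⁻¹ = d ^ 2 := (hconj m hm).resolve_left fun e => hmd (mul_inv_eq_iff_eq_mul.mp e)
        rcases hconj u u.2 with h1 | h1
        · refine Or.inr ⟨(hmS u).mpr (mul_inv_eq_iff_eq_mul.mp h1), fun hc => hmd ?_⟩
          have h2 := (hmS _).mp hc
          have hu := (mul_inv_eq_iff_eq_mul.mp h1 : (u : G) * d = d * u)
          exact (by simpa [mul_assoc] using ((Commute.inv_left hu).mul_left h2) : Commute m d)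
        · refine Or.inl ⟨(hmS _).mpr ?_, fun hc => ?_⟩
          · show Commute ((u : G) * m) d
            refine mul_inv_eq_iff_eq_mul.mp ?_
            calc (u : G) * m * d * ((u : G) * m)⁻¹ = (u : G) * (m * d * m⁻¹) * (u : G)⁻¹ := by group
              _ = (u * d * (u : G)⁻¹) ^ 2 := by rw [hm2, conj_pow]
              _ = d := by rw [h1, ← pow_mul, show 2 * 2 = 3 + 1 from rfl, pow_succ, hd3, one_mul]
          · have h2 := (hmS u).mp hc
            rw [mul_inv_eq_iff_eq_mul.mpr h2.eq, ← mul_right_inj d⁻¹] at h1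
            rw [inv_mul_cancel, pow_two, inv_mul_cancel_left] at h1
            rw [← h1, orderOf_one] at hd
            omega
      rw [← S.card_mul_index, hS, hidx]
    obtain ⟨eM⟩ := perm_three hM6 (fun x y hx hy hc => by
      rw [← Subgroup.orderOf_coe] at hx hy
      have h1 := hnm (x := (x : G)) (y := y) (congrArg Subtype.val hc.eq) (by rw [show (4 : ℕ) = 2 * 2 from rfl, pow_mul, ← hx, pow_orderOf_eq_one, one_pow])
        (by rw [← hy, pow_orderOf_eq_one]) (fun e => by rw [e, orderOf_one] at hy; omega)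
      rw [h1, orderOf_one] at hx; omega)
    refine Or.inr (Or.inl ⟨?_, ⟨(MulEquiv.ofBijective φ hφ).symm.trans eM⟩⟩)
    obtain ⟨t', ht'⟩ := exists_prime_orderOf_dvd_card' (G := M) 2 (by rw [hM6]; norm_num)
    set t : G := (t' : G) with htdef
    have ht : orderOf t = 2 := by rw [htdef, Subgroup.orderOf_coe, ht']
    have htd : t * d * t⁻¹ = d ^ 2 := (hconj t t'.2).resolve_left fun e => by
      have := hcent t t'.2 (mul_inv_eq_iff_eq_mul.mp e)
      obtain ⟨k, hk⟩ := this
      have h1 : orderOf t ∣ 3 := orderOf_dvd_of_pow_eq_one (by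
        rw [← hk, ← zpow_natCast, ← zpow_mul, mul_comm, zpow_mul, zpow_natCast, hd3, one_zpow])
      rw [ht] at h1; omega
    have ht2 : t * t = 1 := by rw [← pow_two, ← ht, pow_orderOf_eq_one]
    have htN : t ∉ N := fun hm' => by
      have := hMN t t'.2 hm'
      rw [this, orderOf_one] at ht; omega
    exact elem_of_involution hd3 (hfpf d hd) hNp hN4 hclass ht2 htd (fun u hu => by
      have : (u * t) ^ 4 = 1 := by
        rcases hdvd (u * t) with h4 | h3'
        · exact orderOf_dvd_iff_pow_eq_one.mp h4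
        · exfalso
          refine htN ?_
          have h1 : QuotientGroup.mk' N (u * t) = QuotientGroup.mk' N t := by
            rw [map_mul, show QuotientGroup.mk' N u = 1 from (QuotientGroup.eq_one_iff u).mpr hu, one_mul]
          rw [← QuotientGroup.eq_one_iff, ← orderOf_eq_one_iff]
          refine Nat.eq_one_of_dvd_coprimes (show Nat.Coprime 2 3 by norm_num) (ht ▸ orderOf_map_dvd (QuotientGroup.mk' N) t) ?_
          show orderOf (QuotientGroup.mk' N t) ∣ 3
          rw [← h1, ← h3']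
          exact orderOf_map_dvd _ _
      exact this)
  · -- the 3-core
    right; right
    have hN3 := hthree N hNp
    have hinv : ∀ t : G, orderOf t = 2 → ∀ x ∈ N, t * x * t⁻¹ = x⁻¹ := fun t ht x hx => by
      have htt : t * t = 1 := by rw [← pow_two, ← ht, pow_orderOf_eq_one]
      obtain ⟨n, -, rfl⟩ := FpfThree.exists_preimage (N := N) (d := t) (fun z hz hc => by
        by_contra hz1
        have := hnm hc (show t ^ 4 = 1 by rw [show (4 : ℕ) = 2 * 2 from rfl, pow_mul, pow_two t, htt, one_pow]) (hN3 z hz) hz1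
        rw [this, orderOf_one] at ht; omega) hx
      calc t * (n⁻¹ * (t * n * t⁻¹)) * t⁻¹ = (t * n⁻¹ * t⁻¹) * ((t * t) * n * (t * t)⁻¹) := by group
        _ = (n⁻¹ * (t * n * t⁻¹))⁻¹ := by rw [htt]; group
    obtain ⟨t₀, ht₀⟩ := hex 2 (by norm_num) (by norm_num)
    have hNab : IsMulCommutative N := ⟨⟨fun a b => Subtype.ext (by
      have h1 := hinv t₀ ht₀ _ (mul_mem a.2 b.2)
      have ha := hinv t₀ ht₀ _ a.2
      have hb := hinv t₀ ht₀ _ b.2
      rw [show t₀ * ((a : G) * b) * t₀⁻¹ = (t₀ * a * t₀⁻¹) * (t₀ * b * t₀⁻¹) by group, ha, hb, ← mul_inv_rev] at h1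
      exact (inv_inj.mp h1).symm)⟩⟩
    have hC : Subgroup.centralizer (N : Set G) ≤ N := by
      have hCp : IsPGroup 3 (Subgroup.centralizer (N : Set G)) := fun ⟨y, hy⟩ => by
        rcases hdvd y with h4 | h3'
        · exact ⟨0, Subtype.ext (by
            simpa using hnm (x := y) (y := x₀) (Subgroup.mem_centralizer_iff.mp hy x₀ hx₀).symm
              (orderOf_dvd_iff_pow_eq_one.mp h4) (hN3 x₀ hx₀) hx₀1)⟩
        · exact ⟨1, Subtype.ext (by simpa using (h3' ▸ pow_orderOf_eq_one y : y ^ 3 = 1))⟩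
      exact le_pCore hCp
    have hsame : ∀ s t : G, orderOf s = 2 → orderOf t = 2 → s * t ∈ N := fun s t hs ht => hC (by
      rw [Subgroup.mem_centralizer_iff]
      intro x hx
      have h1 := hinv t ht x hx
      have h2 := hinv s hs _ (inv_mem hx)
      rw [inv_inv, ← h1] at h2
      exact (mul_inv_eq_iff_eq_mul.mp (show s * t * x * (s * t)⁻¹ = x by simpa [mul_assoc] using h2)).symm)
    obtain ⟨P⟩ : Nonempty (Sylow 2 G) := inferInstance
    have hPN : ∀ x ∈ (P : Subgroup G), x ∈ N → x = 1 := fun x hxP hxN => by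
      refine orderOf_eq_one_iff.mp (Nat.eq_one_of_dvd_coprimes (show Nat.Coprime 4 3 by norm_num) ?_ ?_)
      · exact orderOf_dvd_of_pow_eq_one (htwo _ P.2 x hxP)
      · exact orderOf_dvd_of_pow_eq_one (hN3 x hxN)
    have hK : IsPGroup 2 (G ⧸ N) := by
      refine IsPGroup.iff_orderOf.mpr fun y => ?_
      obtain ⟨g, rfl⟩ := QuotientGroup.mk'_surjective N y
      rcases hdvd g with h4 | h3'
      · obtain ⟨k, -, hk⟩ := (Nat.dvd_prime_pow Nat.prime_two).mp ((orderOf_map_dvd (QuotientGroup.mk' N) g).trans h4 : _ ∣ 2 ^ 2)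
        exact ⟨k, hk⟩
      · rcases (Nat.dvd_prime Nat.prime_three).mp (h3' ▸ orderOf_map_dvd (QuotientGroup.mk' N) g) with h1 | h1
        · exact ⟨0, h1⟩
        exfalso
        have hzc : Commute (QuotientGroup.mk' N g) (QuotientGroup.mk' N t₀) := by
          have h2 : g * t₀ * g⁻¹ * t₀ ∈ N := hsame _ _ (by
            rw [show g * t₀ * g⁻¹ = MulAut.conj g t₀ from rfl, MulEquiv.orderOf_eq, ht₀]) ht₀
          have h3 : QuotientGroup.mk' N (g * t₀ * g⁻¹) = (QuotientGroup.mk' N t₀)⁻¹ := by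
            refine eq_inv_of_mul_eq_one_left ?_
            rw [← map_mul]
            exact (QuotientGroup.eq_one_iff _).mpr h2
          have h4 : (QuotientGroup.mk' N t₀)⁻¹ = QuotientGroup.mk' N t₀ := by
            refine inv_eq_of_mul_eq_one_right ?_
            rw [← map_mul, ← pow_two, ← ht₀, pow_orderOf_eq_one, map_one]
          rw [h4, map_mul, map_mul, map_inv, mul_inv_eq_iff_eq_mul] at h3
          exact h3
        have ho : orderOf (QuotientGroup.mk' N t₀) = 2 := by
          refine orderOf_eq_prime (by rw [← map_pow, ← ht₀, pow_orderOf_eq_one, map_one]) fun e => ?_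
          have h5 := (QuotientGroup.eq_one_iff t₀).mp e
          have h6 := orderOf_dvd_of_pow_eq_one (hN3 t₀ h5)
          rw [ht₀] at h6; omega
        have h7 := hzc.orderOf_mul_eq_mul_orderOf_of_coprime (by rw [h1, ho]; norm_num)
        rw [h1, ho, ← map_mul] at h7
        have h8 := hle (g * t₀)
        have h9 := Nat.le_of_dvd (orderOf_pos _) (h7 ▸ orderOf_map_dvd (QuotientGroup.mk' N) (g * t₀))
        omega
    let φ : (P : Subgroup G) →* G ⧸ N := (QuotientGroup.mk' N).comp (P : Subgroup G).subtype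
    have hφinj : Function.Injective φ :=
      (injective_iff_map_eq_one φ).mpr fun z hz => Subtype.ext (hPN z z.2 ((QuotientGroup.eq_one_iff _).mp hz))
    have hcard : Nat.card (P : Subgroup G) = Nat.card (G ⧸ N) := by
      refine le_antisymm (Nat.card_le_card_of_injective φ hφinj) ?_
      obtain ⟨k, hk⟩ := hK.exists_card_eq
      rw [hk]
      exact Nat.le_of_dvd Nat.card_pos (P.pow_dvd_card_of_pow_dvd_card (hk ▸ Subgroup.card_quotient_dvd_card N))
    let eP := MulEquiv.ofBijective φ ((Nat.bijective_iff_injective_and_card φ).mpr ⟨hφinj, hcard⟩)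
    have h4P : 4 ∣ Nat.card (P : Subgroup G) :=
      P.pow_dvd_card_of_pow_dvd_card (n := 2) (by have := orderOf_dvd_natCard g4; rwa [hg4] at this)
    obtain ⟨z, hz⟩ := exists_prime_orderOf_dvd_card' (G := (P : Subgroup G)) 2 ((show 2 ∣ 4 by norm_num).trans h4P)
    have huniq : ∃ z : (P : Subgroup G), orderOf z = 2 ∧ ∀ x : (P : Subgroup G), x ^ 2 = 1 → x = 1 ∨ x = z := by
      refine ⟨z, hz, fun x hx => ?_⟩
      by_cases hx1 : x = 1
      · exact Or.inl hx1
      · refine Or.inr ?_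
        have hxo : orderOf x = 2 := orderOf_eq_prime hx hx1
        have h1 : ((x * z : (P : Subgroup G)) : G) ∈ N := by
          rw [Subgroup.coe_mul]
          exact hsame _ _ (by rw [Subgroup.orderOf_coe, hxo]) (by rw [Subgroup.orderOf_coe, hz])
        have h2 : x * z = 1 := Subtype.ext (hPN _ (x * z).2 h1)
        calc x = z⁻¹ := eq_inv_of_mul_eq_one_left h2
          _ = z := inv_eq_of_mul_eq_one_right (by rw [← pow_two]; exact orderOf_dvd_iff_pow_eq_one.mp hz.dvd)
    rcases q8_or_four P.2 (fun g => by rw [← Subgroup.orderOf_coe]; exact hle g) h4P huniq with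
      ⟨hc, h4'⟩ | e
    · refine ⟨⟨⟨hNab.is_comm⟩, fun x hx => hN3 x hx⟩, Or.inl ⟨?_, by rw [N.index_eq_card, ← hcard, h4']⟩⟩
      haveI := hc
      exact isCyclic_of_surjective eP eP.surjective
    · exact ⟨⟨⟨hNab.is_comm⟩, fun x hx => hN3 x hx⟩, Or.inr (e.map eP.symm.trans)⟩

end Aux

/-- A finite group whose set of element orders is exactly {1, 2, 3, 4} has a normal subgroup N such that either N is a 2-group of exponent 4 and nilpotency class at most 2 with G/N of order 3, or N is an elementary abelian 2-group with G/N isomorphic to the symmetric group of degree 3, or N is an elementary abelian 3-group with G/N cyclic of order 4 or quaternion of order 8. -/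
theorem result {G : Type*} [Group G] [Finite G] (h : Set.range (orderOf : G → ℕ) = {k : ℕ | 1 ≤ k ∧ k ≤ 4}) :
    ∃ (N : Subgroup G) (_ : N.Normal),
      (IsPGroup 2 ↥N ∧ Monoid.exponent ↥N = 4 ∧ Group.nilpotencyClass ↥N ≤ 2 ∧ N.index = 3) ∨
      (Cfsg.IsElementaryAbelian 2 N ∧ Nonempty (G ⧸ N ≃* Equiv.Perm (Fin 3))) ∨
      (Cfsg.IsElementaryAbelian 3 N ∧ ((IsCyclic (G ⧸ N) ∧ N.index = 4) ∨ Nonempty (G ⧸ N ≃* QuaternionGroup 2))) := by

  exact Aux.main h

end Cfsg.Agent.S4006
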