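import Cfsg.Statements.S0499
import Mathlib
import Cfsg.Agent.Lib.Fusion.Hyperfocal
import Cfsg.Agent.Lib.Basic

set_option autoImplicit false
set_option linter.unusedVariables false
open Cfsg
open scoped commutatorElement

namespace Cfsg.Agent.S0499

open CfsgLib

/-- A non-abelian finite simple group of even order has order divisible by 12, 16 or 56. -/
theorem result {G : Type*} [Group G] [Finite G] [IsSimpleGroup G]
    (hG : ¬ IsMulCommutative G) (h2 : Even (Nat.card G)) :
    12 ∣ Nat.card G ∨ 16 ∣ Nat.card G ∨ 56 ∣ Nat.card G := by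
  classical
  haveI : Fact (Nat.Prime 2) := ⟨Nat.prime_two⟩
  by_contra hno
  push Not at hno
  obtain ⟨h12, h16, h56⟩ := hno
  obtain ⟨S⟩ : Nonempty (Sylow 2 G) := inferInstance
  obtain ⟨k, hk⟩ := IsPGroup.iff_card.mp S.2
  have hk4 : k ≤ 3 := by
    by_contra hlt
    exact h16 ((pow_dvd_pow 2 (by omega : 4 ≤ k)).trans (hk ▸ (S : Subgroup G).card_subgroup_dvd_card))
  have hk1 : 1 ≤ k := by
    have h := S.dvd_card_of_dvd_card (even_iff_two_dvd.mp h2)
    rw [hk] at h
    rcases k with _ | k
    · norm_num at h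
    · omega
  have hnpc : Cfsg.HasNormalPComplement 2 G := by
    refine FusionSystem.hasNormalPComplement_of_centralizes S fun Q hQ g hg hgo => ?_
    obtain ⟨α, hα⟩ : ∃ α : MulAut ↥Q, ∀ a, (α a : G) = g * a * g⁻¹ :=
      ⟨{ toFun := fun a => ⟨g * a * g⁻¹, (Subgroup.mem_normalizer_iff.mp hg _).mp a.2⟩
         invFun := fun a => ⟨g⁻¹ * a * g, (Subgroup.mem_normalizer_iff''.mp hg _).mp a.2⟩
         left_inv := fun a => Subtype.ext (by simp [mul_assoc])
         right_inv := fun a => Subtype.ext (by simp [mul_assoc])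
         map_mul' := fun a b => Subtype.ext (by simp [mul_assoc]) }, fun a => rfl⟩
    by_cases h1 : α = 1
    · refine Subgroup.mem_centralizer_iff.mpr fun a ha => ?_
      have h3 := hα ⟨a, ha⟩
      rw [h1, MulAut.one_apply] at h3
      calc a * g = (g * a * g⁻¹) * g := by rw [← h3]
        _ = g * a := by group
    exfalso
    have hpow : ∀ (j : ℕ) (b : ↥Q), (((α ^ j) b) : G) = g ^ j * b * (g ^ j)⁻¹ := by
      intro j
      induction j with
      | zero => intro b; simp
      | succ j ih => intro b; rw [pow_succ, MulAut.mul_apply, ih, hα, pow_succ]; group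
    have hdvd : orderOf α ∣ orderOf g := by
      refine orderOf_dvd_of_pow_eq_one ?_
      ext b
      rw [hpow, pow_orderOf_eq_one]
      simp
    obtain ⟨r, hr, hrd⟩ := Nat.exists_prime_and_dvd (fun e => h1 (orderOf_eq_one_iff.mp e))
    haveI : Fact r.Prime := ⟨hr⟩
    have hr2 : r ≠ 2 := fun e => by
      subst e
      exact Nat.not_coprime_of_dvd_of_dvd (by norm_num) (hrd.trans hdvd) dvd_rfl hgo
    have hrG : r ∣ Nat.card G := (hrd.trans hdvd).trans (orderOf_dvd_natCard g)
    set β := α ^ (orderOf α / r) with hβ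
    have hβo : orderOf β = r := orderOf_pow_orderOf_div (orderOf_pos α).ne' hrd
    haveI : Fintype ↥Q := Fintype.ofFinite _
    set H : Subgroup (MulAut ↥Q) := Subgroup.zpowers β with hH
    have hHp : IsPGroup r ↥H := IsPGroup.of_card (n := 1) (by rw [Nat.card_zpowers, hβo, pow_one])
    have hmod := hHp.card_modEq_card_fixedPoints ↥Q
    set F : Subgroup ↥Q :=
      { carrier := MulAction.fixedPoints H ↥Q
        mul_mem' := fun {a b} ha hb h => by
          show (h : MulAut ↥Q) (a * b) = a * b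
          rw [map_mul, show (h : MulAut ↥Q) a = a from ha h, show (h : MulAut ↥Q) b = b from hb h]
        one_mem' := fun h => map_one (h : MulAut ↥Q)
        inv_mem' := fun {a} ha h => by
          show (h : MulAut ↥Q) a⁻¹ = a⁻¹
          rw [map_inv, show (h : MulAut ↥Q) a = a from ha h] } with hF
    have hFc : Nat.card ↥F = Nat.card (MulAction.fixedPoints H ↥Q) := rfl
    rw [← hFc] at hmod
    obtain ⟨i, hi⟩ := IsPGroup.iff_card.mp (S.2.to_le hQ)
    obtain ⟨j, hj⟩ := IsPGroup.iff_card.mp ((S.2.to_le hQ).to_subgroup F)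
    have hik : i ≤ k := (Nat.pow_dvd_pow_iff_le_right (le_refl 2)).mp (hi ▸ hk ▸ Subgroup.card_dvd_of_le hQ)
    have hji : j < i := by
      rcases lt_or_ge j i with h | h
      · exact h
      exfalso
      have htop : F = ⊤ := Subgroup.eq_top_of_card_eq _ (le_antisymm (Subgroup.card_le_card_group F)
        (by rw [hi, hj]; exact Nat.pow_le_pow_right (by norm_num) h))
      have hβ1 : β = 1 := MulEquiv.ext fun a => (htop.ge (Subgroup.mem_top a) : a ∈ F) ⟨β, Subgroup.mem_zpowers β⟩
      rw [hβ1, orderOf_one] at hβo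
      exact hr.ne_one hβo.symm
    rw [hi, hj] at hmod
    have hd : r ∣ 2 ^ i - 2 ^ j := (Nat.modEq_iff_dvd' (Nat.pow_le_pow_right (by norm_num) hji.le)).mp hmod.symm
    have h4 : 2 ≤ i → 4 ∣ Nat.card G := fun h => (pow_dvd_pow 2 h).trans (hi ▸ Q.card_subgroup_dvd_card)
    have h8 : 3 ≤ i → 8 ∣ Nat.card G := fun h => (pow_dvd_pow 2 h).trans (hi ▸ Q.card_subgroup_dvd_card)
    have hi3 : i ≤ 3 := hik.trans hk4
    have h37 : (r = 3 ∧ 2 ≤ i) ∨ (r = 7 ∧ 3 ≤ i) := by
      interval_cases i <;> interval_cases j <;> simp only [Nat.reducePow, Nat.reduceSub] at hd <;>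
        (have := Nat.le_of_dvd (by norm_num) hd; have := hr.two_le; interval_cases r <;> simp_all (config := {decide := true}))
    rcases h37 with ⟨rfl, h⟩ | ⟨rfl, h⟩
    · exact h12 (Nat.Coprime.mul_dvd_of_dvd_of_dvd (by norm_num : Nat.Coprime 3 4) hrG (h4 h))
    · exact h56 (Nat.Coprime.mul_dvd_of_dvd_of_dvd (by norm_num : Nat.Coprime 7 8) hrG (h8 h))
  obtain ⟨P, N, hN, hNP⟩ := hnpc
  haveI := hN
  rcases hN.eq_bot_or_eq_top with h | h
  · subst h
    have hPtop : (P : Subgroup G) = ⊤ := by simpa using hNP.isCompl.sup_eq_top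
    have hG2 : IsPGroup 2 G := (hPtop ▸ P.2 : IsPGroup 2 ↥(⊤ : Subgroup G)).of_equiv Subgroup.topEquiv
    haveI := hG2.isNilpotent
    exact hG ⟨⟨fun a b => by
      rcases (inferInstance : (Subgroup.center G).Normal).eq_bot_or_eq_top with hc | hc
      · haveI : Nontrivial G := IsSimpleGroup.toNontrivial
        haveI := hG2.center_nontrivial
        exact absurd hc (Subgroup.nontrivial_iff_ne_bot _ |>.mp inferInstance)
      · exact (Subgroup.mem_center_iff.mp (hc.ge (Subgroup.mem_top b)) a)⟩⟩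
  · subst h
    have hP1 : (P : Subgroup G) = ⊥ := by simpa using hNP.isCompl.inf_eq_bot
    have h3 := P.dvd_card_of_dvd_card (even_iff_two_dvd.mp h2)
    rw [hP1, Subgroup.card_bot] at h3
    norm_num at h3

end Cfsg.Agent.S0499
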