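import Cfsg.Statements.S0985
import Mathlib

set_option autoImplicit false
open Cfsg
open scoped Pointwise

namespace Cfsg.Agent.S0985



/-- If the number of Sylow p-subgroups of a finite group is not congruent to 1 modulo p^k, then there are two distinct Sylow p-subgroups P and R such that the index of P ∩ R in P is at most p^(k-1). -/
theorem result {G : Type*} [Group G] [Finite G] (p k : ℕ) [Fact p.Prime] (h : ¬ Nat.card (Sylow p G) ≡ 1 [MOD p ^ k]) : ∃ P R : Sylow p G, P ≠ R ∧ ((R : Subgroup G).subgroupOf (P : Subgroup G)).index ≤ p ^ (k - 1) := by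
  classical
  by_contra hcon
  push Not at hcon
  apply h
  obtain ⟨P⟩ : Nonempty (Sylow p G) := inferInstance
  have horb : ∀ R : Sylow p G, R ≠ P → p ^ k ∣ Nat.card (MulAction.orbit ↥(P : Subgroup G) R) := by
    intro R hR
    have hst : MulAction.stabilizer ↥(P : Subgroup G) R = (R : Subgroup G).subgroupOf (P : Subgroup G) := by
      ext x
      rw [MulAction.mem_stabilizer_iff, Subgroup.smul_def, Sylow.smul_eq_iff_mem_normalizer, Subgroup.mem_subgroupOf]
      refine ⟨fun hx => ?_, fun hx => Subgroup.le_normalizer hx⟩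
      have h2 : (x : G) ∈ (P : Subgroup G) ⊓ (R : Subgroup G) := (P.2.inf_normalizer_sylow R).le ⟨x.2, hx⟩
      exact h2.2
    have hc : Nat.card (MulAction.orbit ↥(P : Subgroup G) R) = ((R : Subgroup G).subgroupOf (P : Subgroup G)).index := by
      rw [← hst, MulAction.index_stabilizer, Set.ncard_def, Nat.card, Set.encard]
      rfl
    rw [hc]
    have h1 := hcon P R (fun e => hR e.symm)
    obtain ⟨m, hm⟩ := P.2.index ((R : Subgroup G).subgroupOf (P : Subgroup G))
    rw [hm] at h1 ⊢
    exact Nat.pow_dvd_pow p (by have := (Nat.pow_lt_pow_iff_right (Fact.out : p.Prime).one_lt).mp h1; omega)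
  haveI := Fintype.ofFinite (Sylow p G)
  haveI := Fintype.ofFinite (MulAction.orbitRel.Quotient ↥(P : Subgroup G) (Sylow p G))
  rw [Nat.card_congr (MulAction.selfEquivSigmaOrbits ↥(P : Subgroup G) (Sylow p G)), Nat.card_sigma]
  set o : MulAction.orbitRel.Quotient ↥(P : Subgroup G) (Sylow p G) := Quotient.mk'' P
  rw [← Finset.add_sum_erase _ _ (Finset.mem_univ o)]
  have hfix : ∀ x : ↥(P : Subgroup G), x • P = P := fun x => by
    rw [Subgroup.smul_def, Sylow.smul_eq_iff_mem_normalizer]; exact Subgroup.le_normalizer x.2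
  have ho : o.out = P := by
    have : o.out ∈ MulAction.orbit ↥(P : Subgroup G) P := by
      rw [← MulAction.orbitRel_apply]; exact Quotient.exact (Quotient.out_eq o)
    obtain ⟨x, hx⟩ := this
    rw [← hx]; exact hfix x
  have h1 : Nat.card (MulAction.orbit ↥(P : Subgroup G) o.out) = 1 := by
    rw [ho]
    refine Nat.card_eq_one_iff_unique.mpr ⟨⟨?_⟩, ⟨⟨P, MulAction.mem_orbit_self P⟩⟩⟩
    rintro ⟨_, a, rfl⟩ ⟨_, b, rfl⟩
    exact Subtype.ext ((hfix a).trans (hfix b).symm)
  rw [h1]
  have h0 : p ^ k ∣ ∑ x ∈ (Finset.univ : Finset _).erase o, Nat.card (MulAction.orbit ↥(P : Subgroup G) (Quotient.out x)) := by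
    refine Finset.dvd_sum fun x hx => horb _ fun e => Finset.ne_of_mem_erase hx ?_
    rw [← Quotient.out_eq' x, e]
  obtain ⟨c, hc⟩ := h0
  rw [hc]
  exact (Nat.ModEq.add_left 1 (Nat.modEq_zero_iff_dvd.mpr (dvd_mul_right _ _))).trans (by rw [Nat.add_zero])

end Cfsg.Agent.S0985
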