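import Cfsg.Statements.S0279
import Mathlib
import Cfsg.Agent.Lib.UnitaryBasic

set_option autoImplicit false
open Cfsg

namespace Cfsg.Agent.S0279



/-- The centre of SU_n(q), n at least 3, has order gcd(n, q+1). -/
theorem result {F : Type*} [Field F] [Fintype F] {q : ℕ} (hF : Fintype.card F = q ^ 2) (n : ℕ) (hn : 3 ≤ n) : Nat.card (Subgroup.center (Cfsg.SU n F q)) = Nat.gcd n (q + 1) := by
  classical
  obtain ⟨hq, -⟩ := CfsgLib.UnitaryBasic.frob_exists hF
  obtain ⟨ζ, hζ⟩ := CfsgLib.UnitaryBasic.exists_zeta hF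
  have hζq : ζ ^ (q + 1) = 1 := by rw [← hζ]; exact pow_orderOf_eq_one ζ
  have hζ1 : ζ ≠ 1 := fun h => by rw [h, orderOf_one] at hζ; omega
  have hζ2 : ζ⁻¹ ≠ ζ := fun h => by
    have h2 : ζ ^ 2 = 1 := by
      calc ζ ^ 2 = ζ * ζ⁻¹ := by rw [h, pow_two]
        _ = 1 := mul_inv_cancel ζ
    have := orderOf_le_of_pow_eq_one two_pos h2
    omega
  have hscalar : ∀ z : Cfsg.SU n F q, z ∈ Subgroup.center (Cfsg.SU n F q) →
      ∃ r : F, z.1.1 = Matrix.scalar (Fin n) r := by
    intro z hz
    have hcomm : ∀ g : Matrix.SpecialLinearGroup (Fin n) F, g ∈ Cfsg.SU n F q → z.1.1 * g.1 = g.1 * z.1.1 :=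
      fun g hg => (congrArg (fun x : Cfsg.SU n F q => x.1.1) (Subgroup.mem_center_iff.mp hz ⟨g, hg⟩)).symm
    refine CfsgLib.UnitaryBasic.scalar_of_commute (by omega) (fun i => ?_) (fun i j => ?_)
    · obtain ⟨k, hk⟩ : ∃ k : Fin n, k ≠ i := by
        haveI : Nontrivial (Fin n) := Fin.nontrivial_iff_two_le.mpr (by omega)
        exact exists_ne i
      let d : Fin n → Fˣ := fun a => if a = i then ζ else if a = k then ζ⁻¹ else 1
      have hdet : (Matrix.diagonal fun a => (d a : F)).det = 1 := by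
        rw [Matrix.det_diagonal, ← Units.coe_prod]
        have : ∏ a, d a = 1 := by
          rw [← Finset.prod_subset (Finset.subset_univ {i, k}) (fun a _ ha => by
            simp only [Finset.mem_insert, Finset.mem_singleton, not_or] at ha
            simp [d, ha.1, ha.2]), Finset.prod_pair hk.symm]
          simp [d, hk]
        rw [this, Units.val_one]
      refine ⟨fun a => (d a : F), fun a ha => ?_, hcomm ⟨_, hdet⟩ fun u v =>
        CfsgLib.UnitaryBasic.diag_preserves (fun a => ?_) u v⟩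
      · simp only [d, if_neg ha, if_true, ne_eq, Units.val_inj]
        split_ifs
        · exact hζ2
        · exact Ne.symm hζ1
      · rw [← Units.val_pow_eq_pow_val, ← Units.val_one]
        congr 1
        simp only [d]
        split_ifs <;> simp [hζq, inv_pow]
    · obtain ⟨π, hπ, hsign⟩ : ∃ π : Equiv.Perm (Fin n), π i = j ∧ Equiv.Perm.sign π = 1 := by
        rcases eq_or_ne i j with rfl | hij
        · exact ⟨1, rfl, map_one _⟩
        · obtain ⟨k, hk⟩ : ∃ k, k ∉ ({i, j} : Finset (Fin n)) := by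
            by_contra h
            push Not at h
            have h1 := Finset.card_le_card (fun k _ => h k : (Finset.univ : Finset (Fin n)) ⊆ {i, j})
            have h2 : ({i, j} : Finset (Fin n)).card ≤ 2 := Finset.card_le_two
            simp at h1
            omega
          simp only [Finset.mem_insert, Finset.mem_singleton, not_or] at hk
          refine ⟨Equiv.swap i j * Equiv.swap j k, ?_, ?_⟩
          · rw [Equiv.Perm.mul_apply, Equiv.swap_apply_of_ne_of_ne hij (Ne.symm hk.1), Equiv.swap_apply_left]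
          · rw [map_mul, Equiv.Perm.sign_swap hij, Equiv.Perm.sign_swap (Ne.symm hk.2)]; rfl
      refine ⟨fun _ => 1, π, hπ, fun _ => one_ne_zero, ?_⟩
      rw [Matrix.diagonal_one, Matrix.one_mul]
      exact hcomm ⟨π.permMatrix F, by rw [Matrix.det_permutation, hsign]; simp⟩
        fun u v => CfsgLib.UnitaryBasic.perm_preserves _ u v
  set g := Nat.gcd n (q + 1) with hg
  have hker : ∀ u : (powMonoidHom g : Fˣ →* Fˣ).ker, (u.1 : F) ^ n = 1 ∧ (u.1 : F) ^ (q + 1) = 1 := by
    intro u
    have hu : u.1 ^ g = 1 := u.2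
    obtain ⟨a, ha⟩ := Nat.gcd_dvd_left n (q + 1)
    obtain ⟨b, hb⟩ := Nat.gcd_dvd_right n (q + 1)
    rw [← Units.val_pow_eq_pow_val, ← Units.val_pow_eq_pow_val]
    constructor
    · rw [ha, pow_mul, ← hg, hu, one_pow, Units.val_one]
    · rw [hb, pow_mul, ← hg, hu, one_pow, Units.val_one]
  let f : (powMonoidHom g : Fˣ →* Fˣ).ker → Subgroup.center (Cfsg.SU n F q) := fun u =>
    ⟨⟨⟨Matrix.scalar (Fin n) (u.1 : F), by simp [(hker u).1]⟩,
      fun a b => CfsgLib.UnitaryBasic.diag_preserves (fun _ => (hker u).2) a b⟩,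
      Subgroup.mem_center_iff.mpr fun x => Subtype.ext (Subtype.ext
        ((Matrix.scalar_commute (u.1 : F) (fun _ => Commute.all _ _) x.1.1).eq).symm)⟩
  have hf : Function.Bijective f := by
    constructor
    · intro u u' h
      have h1 := congrArg (fun z : Subgroup.center (Cfsg.SU n F q) => z.1.1.1 ⟨0, by omega⟩ ⟨0, by omega⟩) h
      simp [f] at h1
      exact Subtype.ext (Units.ext h1)
    · intro z
      obtain ⟨r, hr⟩ := hscalar z.1 z.2
      have hrn : r ^ n = 1 := by
        have := z.1.1.2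
        rw [hr] at this
        simpa using this
      have hrq : r ^ (q + 1) = 1 := by
        have h := z.1.2 (Pi.single ⟨0, by omega⟩ 1) (Pi.single ⟨0, by omega⟩ 1)
        change Cfsg.hermForm n F q (z.1.1.1.mulVec _) (z.1.1.1.mulVec _) = _ at h
        rw [hr] at h
        simp [Cfsg.hermForm, Pi.single_apply, mul_pow, ite_pow, zero_pow (show q ≠ 0 by omega)] at h
        rw [pow_succ']; exact h
      have hr0 : r ≠ 0 := fun h => by rw [h, zero_pow (by omega)] at hrn; exact zero_ne_one hrn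
      refine ⟨⟨Units.mk0 r hr0, ?_⟩, Subtype.ext (Subtype.ext (Subtype.ext hr.symm))⟩
      exact pow_gcd_eq_one.mpr ⟨Units.ext (by simpa using hrn), Units.ext (by simpa using hrq)⟩
  rw [← Nat.card_eq_of_bijective f hf, IsCyclic.card_powMonoidHom_ker, Nat.card_units, Nat.card_eq_fintype_card, hF]
  apply Nat.gcd_eq_right
  refine (Nat.gcd_dvd_right n (q + 1)).trans ?_
  obtain ⟨r, rfl⟩ := Nat.exists_eq_add_of_le hq.le
  refine ⟨r, ?_⟩
  have e : (1 + r) ^ 2 = (1 + r + 1) * r + 1 := by ring
  omega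

end Cfsg.Agent.S0279
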