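import Cfsg.Statements.S0730
import Mathlib
import Cfsg.Agent.Lib.Perm.SharpPGL
-- import your own Cfsg.Agent.* helpers here

set_option autoImplicit false
open Cfsg

namespace Cfsg.Agent.S0730

/-- The multiplication of near-field coordinates of a sharply three-transitive group of degree `p ^ f + 1`,
`p` and `f` odd, is commutative. -/
theorem mulComm {K : Type*} [Cfsg.NearField K] [Finite K] {p f : ℕ} (hp : p.Prime) (hp2 : p ≠ 2) (hfo : Odd f)
    (hcard : Nat.card K = p ^ f) (σ : K → K) (hσ : ∀ z, z ≠ 0 → σ z ≠ 0 ∧ σ (σ z) = z) (hσ1 : σ 1 = 1)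
    (hmul : ∀ u v, u ≠ 0 → v ≠ 0 → σ (u * v) = σ u * σ v) (hfix : ∀ u, u ≠ 0 → σ u = u → u * u = 1) :
    ∀ u v : K, u * v = v * u := by
  classical
  haveI : Fact p.Prime := ⟨hp⟩
  obtain ⟨p', j, hp', hj, hcard', haddc, hpK⟩ := Cfsg.Agent.S0682.result (F := K)
  have hpp : p' = p := (Nat.prime_dvd_prime_iff_eq hp' hp).1 (hp'.dvd_of_dvd_pow (n := f) (by
    rw [← hcard, hcard']; exact dvd_pow_self p' (by omega)))
  subst hpp
  letI : AddCommGroup K := { (inferInstance : AddGroup K) with add_comm := haddc }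
  haveI : Module (ZMod p') K := AddCommGroup.zmodModule hpK
  have hzm : ∀ x : K, (0 : K) * x = 0 := fun x => by
    have h := Cfsg.NearField.right_distrib (0 : K) 0 x
    rw [add_zero] at h
    exact add_eq_left.1 h.symm
  have h10 : (1 : K) ≠ 0 := Ne.symm Cfsg.NearField.zero_ne_one
  let Rm : K → Module.End (ZMod p') K := fun u =>
    AddMonoidHom.toZModLinearMap p' (AddMonoidHom.mk' (fun x => x * u) fun x y => Cfsg.NearField.right_distrib x y u)
  have hRm : ∀ u x, Rm u x = x * u := fun u x => rfl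
  have hRmul : ∀ u v, Rm (u * v) = Rm v * Rm u := fun u v => LinearMap.ext fun x => (mul_assoc x u v).symm
  have hR1 : Rm 1 = 1 := LinearMap.ext fun x => mul_one x
  have hfin : Module.finrank (ZMod p') K = f := by
    have h := Module.natCard_eq_pow_finrank (K := ZMod p') (V := K)
    rw [hcard, Nat.card_zmod] at h
    exact Nat.pow_right_injective hp.two_le h.symm
  have hu0 : ∀ u : Kˣ, (u : K) ≠ 0 := fun u e => h10 (by rw [← u.inv_mul, e, Cfsg.NearField.mul_zero])
  have hm1ne : (-1 : K) ≠ 1 := fun e => by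
    have h2 : (1 : K) + 1 = 0 := by
      have h := neg_add_cancel (1 : K)
      rwa [e] at h
    have h3 := hpK 1
    obtain ⟨k, hk⟩ := hp.odd_of_ne_two hp2
    rw [hk, add_nsmul, mul_nsmul, two_nsmul, h2, nsmul_zero, zero_add, one_nsmul] at h3
    exact h10 h3
  have hm1sq : (-1 : K) * -1 = 1 := by
    have h := Cfsg.NearField.right_distrib (1 : K) (-1) (-1)
    rw [add_neg_cancel, hzm, one_mul] at h
    exact (neg_eq_of_add_eq_zero_right h.symm).symm.trans (neg_neg 1)
  have hinvol : ∀ u : K, u * u = 1 → u ≠ 1 → (∀ x : K, x * u = -x) ∧ u = -1 := by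
    intro u hu hu1
    have h : ∀ x : K, x * u = -x := fun x => by
      have hy : (x + x * u) * u = x + x * u := by
        rw [Cfsg.NearField.right_distrib, mul_assoc, hu, mul_one, haddc]
      by_contra hne
      have hy0 : x + x * u ≠ 0 := fun e => hne (neg_eq_of_add_eq_zero_right e).symm
      obtain ⟨w, -, hw⟩ := Cfsg.NearField.exists_inv _ hy0
      apply hu1
      have := congrArg (w * ·) hy
      simp only [← mul_assoc, hw, one_mul] at this
      exact this
    exact ⟨h, by rw [← one_mul u, h 1]⟩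
  let m1 : Kˣ := ⟨-1, -1, hm1sq, hm1sq⟩
  let dt : Kˣ →* ZMod p' := MonoidHom.mk
    ⟨fun u => LinearMap.det (Rm u), by rw [Units.val_one, hR1, map_one]⟩ fun u v => by
      show LinearMap.det (Rm ((u * v : Kˣ) : K)) = _
      rw [Units.val_mul, hRmul, map_mul, mul_comm]
  obtain ⟨k, m, hmodd, hkm⟩ := Nat.exists_eq_two_pow_mul_odd (n := p' - 1) (by have := hp.two_le; omega)
  let ψ : Kˣ →* (ZMod p')ˣ := (powMonoidHom m).comp dt.toHomUnits
  have hψ2 : ∀ u, ψ u ^ (2 ^ k) = 1 := fun u => by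
    show (dt.toHomUnits u ^ m) ^ (2 ^ k) = 1
    rw [← pow_mul, mul_comm, ← hkm, ZMod.units_pow_card_sub_one_eq_one]
  have hψm1 : ψ m1 ≠ 1 := fun e => by
    have h : (dt m1) ^ m = 1 := congrArg Units.val e
    have h2 : dt m1 = -1 := by
      show LinearMap.det (Rm (-1)) = -1
      rw [show Rm (-1) = (-1 : ZMod p') • (1 : Module.End (ZMod p') K) from LinearMap.ext fun x => by
        rw [hRm, (hinvol (-1) hm1sq hm1ne).1 x]
        exact (neg_one_smul (ZMod p') x).symm, LinearMap.det_smul, hfin, map_one, mul_one, hfo.neg_one_pow]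
    rw [h2, hmodd.neg_one_pow] at h
    haveI : Fact (2 < p') := ⟨lt_of_le_of_ne hp.two_le (Ne.symm hp2)⟩
    exact ZMod.neg_one_ne_one h
  set N := ψ.ker with hN
  have hoddmem : ∀ u : Kˣ, Odd (orderOf u) → u ∈ N := fun u hu =>
    orderOf_eq_one_iff.1 (Nat.eq_one_of_dvd_coprimes ((Nat.coprime_two_right.2 hu).pow_right k)
      (orderOf_map_dvd ψ u) (orderOf_dvd_of_pow_eq_one (hψ2 u)))
  have hNodd : ∀ u ∈ N, Odd (orderOf u) := fun u hu => by
    by_contra he
    rw [Nat.not_odd_iff_even] at he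
    obtain ⟨c, hc⟩ := he.two_dvd
    have hc2 : orderOf (u ^ c) = 2 := by
      rw [orderOf_pow_of_dvd (by have := orderOf_pos u; omega) (Dvd.intro_left 2 hc.symm), hc,
        Nat.mul_div_left _ (by have := orderOf_pos u; omega)]
    have h4 : u ^ c = m1 := Units.ext (hinvol _ (by
        rw [← Units.val_mul, ← sq, ← hc2, pow_orderOf_eq_one, Units.val_one])
      fun e => by rw [show u ^ c = 1 from Units.ext e, orderOf_one] at hc2; omega).2
    exact hψm1 (h4 ▸ (N.pow_mem hu c : u ^ c ∈ N))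
  let τ : Kˣ →* Kˣ := MonoidHom.mk' (fun u => ⟨σ u, σ (u⁻¹ : Kˣ),
      by rw [← hmul _ _ (hu0 u) (hu0 u⁻¹), Units.mul_inv, hσ1],
      by rw [← hmul _ _ (hu0 u⁻¹) (hu0 u), Units.inv_mul, hσ1]⟩)
    fun u v => Units.ext (hmul _ _ (hu0 u) (hu0 v))
  have hττ : ∀ u, τ (τ u) = u := fun u => Units.ext (hσ _ (hu0 u)).2
  have hτfix : ∀ u, τ u = u → u = 1 ∨ u = m1 := fun u hu => by
    by_cases h1 : u = 1
    · exact Or.inl h1
    · exact Or.inr (Units.ext (hinvol _ (hfix _ (hu0 u) (congrArg Units.val hu)) fun e => h1 (Units.ext e)).2)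
  have hτN : ∀ u ∈ N, τ u ∈ N := fun u hu => hoddmem _ (by
    rw [orderOf_injective τ (fun x y e => by rw [← hττ x, e, hττ]) u]; exact hNodd u hu)
  have hinv : ∀ u ∈ N, τ u = u⁻¹ := by
    let χ : N → N := fun u => ⟨(u : Kˣ)⁻¹ * τ u, N.mul_mem (N.inv_mem u.2) (hτN u u.2)⟩
    have hχ : Function.Injective χ := fun u v e => by
      have e' : (u : Kˣ)⁻¹ * τ u = (v : Kˣ)⁻¹ * τ v := congrArg Subtype.val e
      rcases hτfix ((v : Kˣ) * (u : Kˣ)⁻¹) (by
        rw [map_mul, map_inv, mul_inv_eq_iff_eq_mul,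
          show τ (v : Kˣ) = v * ((v : Kˣ)⁻¹ * τ v) by rw [mul_inv_cancel_left], ← e', mul_assoc]) with h | h
      · exact Subtype.ext (mul_inv_eq_one.1 h).symm
      · exact absurd (h ▸ N.mul_mem v.2 (N.inv_mem u.2) : m1 ∈ N) (fun hm => hψm1 hm)
    intro u hu
    obtain ⟨v, hv⟩ := (Finite.injective_iff_surjective.1 hχ) ⟨u, hu⟩
    have e : (v : Kˣ)⁻¹ * τ v = u := congrArg Subtype.val hv
    rw [← e, map_mul, map_inv, hττ, mul_inv_rev, inv_inv]
  set C := Subgroup.centralizer (N : Set Kˣ) with hC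
  have hCimg : ∀ h : Kˣ, h⁻¹ * τ h ∈ C := fun h => Subgroup.mem_centralizer_iff.2 fun n hn => by
    have hn' : h * n * h⁻¹ ∈ N := (inferInstance : N.Normal).conj_mem n hn h
    have e1 := hinv _ hn'
    rw [map_mul, map_mul, map_inv, hinv n hn] at e1
    have e3 : τ h * n * (τ h)⁻¹ = h * n * h⁻¹ := by
      have := congrArg (·⁻¹) e1
      simpa [mul_assoc] using this
    calc n * (h⁻¹ * τ h) = h⁻¹ * (h * n * h⁻¹) * τ h := by group
      _ = h⁻¹ * τ h * n := by rw [← e3]; group
  haveI : Fintype Kˣ := Fintype.ofFinite _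
  have hCcard : Nat.card Kˣ ≤ 2 * Nat.card C := by
    have h := Finset.card_le_mul_card_image (s := (Finset.univ : Finset Kˣ)) (f := fun h : Kˣ => (⟨h⁻¹ * τ h, hCimg h⟩ : C)) 2
      fun b hb => by
        obtain ⟨h₀, -, rfl⟩ := Finset.mem_image.1 hb
        refine le_trans (Finset.card_le_card (t := {h₀, m1 * h₀}) fun h hh => ?_) Finset.card_le_two
        have e' : h⁻¹ * τ h = h₀⁻¹ * τ h₀ := congrArg Subtype.val (Finset.mem_filter.1 hh).2
        rcases hτfix (h * h₀⁻¹) (by
          rw [map_mul, map_inv, mul_inv_eq_iff_eq_mul,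
            show τ h = h * (h⁻¹ * τ h) by rw [mul_inv_cancel_left], e', mul_assoc]) with e | e
        · simp [mul_inv_eq_one.1 e]
        · simp [mul_inv_eq_iff_eq_mul.1 e]
    rw [Finset.card_univ, ← Nat.card_eq_fintype_card] at h
    refine h.trans (Nat.mul_le_mul_left _ ?_)
    rw [Nat.card_eq_fintype_card]
    exact Finset.card_le_univ _
  haveI : C.Normal := Subgroup.normal_centralizer
  have hCcomm : ∀ x ∈ C, ∀ y ∈ C, x * y = y * x := fun x hx y hy =>
    congrArg Subtype.val (commutative_of_cyclic_center_quotient (ψ.comp C.subtype) (fun n hn =>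
      Subgroup.mem_center_iff.2 fun y => Subtype.ext (Subgroup.mem_centralizer_iff.1 y.2 n.1 hn).symm) ⟨x, hx⟩ ⟨y, hy⟩)
  suffices hall : ∀ x y : Kˣ, x * y = y * x by
    intro u v
    rcases eq_or_ne u 0 with rfl | hu
    · rw [hzm, Cfsg.NearField.mul_zero]
    rcases eq_or_ne v 0 with rfl | hv
    · rw [hzm, Cfsg.NearField.mul_zero]
    obtain ⟨u', h1, h2⟩ := Cfsg.NearField.exists_inv u hu
    obtain ⟨v', h3, h4⟩ := Cfsg.NearField.exists_inv v hv
    exact congrArg Units.val (hall ⟨u, u', h1, h2⟩ ⟨v, v', h3, h4⟩)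
  by_cases htop : C = ⊤
  · exact fun x y => hCcomm x (htop ▸ Subgroup.mem_top x) y (htop ▸ Subgroup.mem_top y)
  have hidx : C.index = 2 := by
    have h1 := C.card_mul_index
    have h2 : C.index ≠ 1 := fun e => htop (Subgroup.index_eq_one.1 e)
    have h4 : Nat.card C * C.index ≤ Nat.card C * 2 := by rw [h1]; omega
    have h5 := Nat.le_of_mul_le_mul_left h4 Nat.card_pos
    have h6 := Subgroup.index_ne_zero_of_finite (H := C)
    omega
  obtain ⟨g, hg⟩ : ∃ g : Kˣ, g ∉ C := by
    by_contra hh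
    push Not at hh
    exact htop (eq_top_iff.2 fun x _ => hh x)
  -- the field generated by the abelian subgroup
  have hcardU : Nat.card Kˣ + 1 = p' ^ f := by
    have e : Kˣ ≃ {x : K // x ≠ 0} := Equiv.ofBijective (fun u => ⟨u, hu0 u⟩)
      ⟨fun u v e => Units.ext (congrArg Subtype.val e), fun x => let ⟨w, h1, h2⟩ := Cfsg.NearField.exists_inv x.1 x.2; ⟨⟨x, w, h1, h2⟩, rfl⟩⟩
    haveI : Fintype K := Fintype.ofFinite _
    rw [Nat.card_congr e, Nat.card_eq_fintype_card, Fintype.card_subtype_compl, Fintype.card_subtype_eq, ← hcard,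
      Nat.card_eq_fintype_card]
    have := Fintype.card_pos (α := K)
    omega
  let gen : C → Module.End (ZMod p') K := fun c => Rm ((c : Kˣ) : K)
  let S := Algebra.adjoin (ZMod p') (Set.range gen)
  have hc : ∀ a ∈ Set.range gen, ∀ b ∈ Set.range gen, a * b = b * a := by
    rintro _ ⟨x, rfl⟩ _ ⟨y, rfl⟩
    show Rm _ * Rm _ = Rm _ * Rm _
    rw [← hRmul, ← hRmul, ← Units.val_mul, ← Units.val_mul, hCcomm _ y.2 _ x.2]
  letI : CommRing S := Algebra.adjoinCommRingOfComm (ZMod p') hc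
  have hirr : ∀ W : Submodule (ZMod p') K, (∀ c ∈ C, ∀ x ∈ W, x * (c : K) ∈ W) → W = ⊥ ∨ W = ⊤ := by
    intro W hW
    by_contra hh
    push Not at hh
    obtain ⟨w, hwW, hw0⟩ := Submodule.exists_mem_ne_zero_of_ne_bot hh.1
    have hinjC : Function.Injective (fun c : C => (⟨w * ((c : Kˣ) : K), hW c c.2 w hwW⟩ : W)) := fun c d e => by
      obtain ⟨w', -, hw'⟩ := Cfsg.NearField.exists_inv w hw0
      have := congrArg (w' * ·) (congrArg Subtype.val e)
      simp only [← mul_assoc, hw', one_mul] at this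
      exact Subtype.ext (Units.ext this)
    have h1 := Nat.card_le_card_of_injective _ hinjC
    rw [Module.natCard_eq_pow_finrank (K := ZMod p') (V := W), Nat.card_zmod] at h1
    have h2 : Module.finrank (ZMod p') W < f := hfin ▸ Submodule.finrank_lt hh.2
    have h3 : p' ^ Module.finrank (ZMod p') W * p' ≤ p' ^ f := by
      rw [← pow_succ]; exact Nat.pow_le_pow_right hp.pos h2
    have h4 := C.card_mul_index
    rw [hidx] at h4
    have h5 : p' ^ Module.finrank (ZMod p') W * 3 ≤ p' ^ Module.finrank (ZMod p') W * p' :=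
      Nat.mul_le_mul_left _ (by have := hp.two_le; omega)
    have h6 : Odd (p' ^ f) := (hp.odd_of_ne_two hp2).pow
    have h7 := Nat.one_le_pow (Module.finrank (ZMod p') W) p' hp.pos
    have h8 : 1 ≤ Nat.card C := Nat.card_pos
    have h9 : p' ≤ p' ^ Module.finrank (ZMod p') W :=
      Nat.le_self_pow (fun e => hh.1 (Submodule.finrank_eq_zero.1 e)) p'
    have h10' : 3 ≤ p' := by have := hp.two_le; omega
    omega
  have hcomm' : ∀ (r : S) (c : C), gen c * (r : Module.End (ZMod p') K) = (r : Module.End (ZMod p') K) * gen c := fun r c =>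
    congrArg Subtype.val (mul_comm (⟨gen c, Algebra.subset_adjoin ⟨c, rfl⟩⟩ : S) r)
  have hinjS : ∀ r : S, r ≠ 0 → Function.Injective (r : Module.End (ZMod p') K) := fun r hr => by
    rcases hirr (LinearMap.ker (r : Module.End (ZMod p') K)) (fun c hc x hx => by
      rw [LinearMap.mem_ker] at hx ⊢
      have := LinearMap.congr_fun (hcomm' r ⟨c, hc⟩) x
      simp only [Module.End.mul_apply, hx, map_zero] at this
      exact this.symm) with h | h
    · exact LinearMap.ker_eq_bot.1 h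
    · exact absurd (Subtype.ext (LinearMap.ker_eq_top.1 h)) hr
  haveI : Nontrivial K := ⟨⟨1, 0, h10⟩⟩
  haveI : Nontrivial S := ⟨⟨1, 0, fun e => one_ne_zero (α := Module.End (ZMod p') K) (congrArg Subtype.val e)⟩⟩
  haveI : NoZeroDivisors S := ⟨fun {r s} h => by
    by_contra hh
    push Not at hh
    have h2 : (r : Module.End (ZMod p') K) ((s : Module.End (ZMod p') K) 1) = 0 := LinearMap.congr_fun (congrArg Subtype.val h) 1
    have h3 : (s : Module.End (ZMod p') K) 1 = 0 := hinjS r hh.1 (h2.trans (map_zero _).symm)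
    exact h10 (hinjS s hh.2 (h3.trans (map_zero _).symm))⟩
  haveI : IsDomain S := NoZeroDivisors.to_isDomain S
  let ev : S →ₗ[ZMod p'] K :=
    { toFun := fun r => (r : Module.End (ZMod p') K) 1
      map_add' := fun _ _ => rfl
      map_smul' := fun _ _ => rfl }
  have hev : Function.Bijective ev := by
    refine ⟨(injective_iff_map_eq_zero ev).2 fun r hr => ?_, LinearMap.range_eq_top.1 ?_⟩
    · by_contra h0
      exact h10 (hinjS r h0 (hr.trans (map_zero _).symm))
    · rcases hirr (LinearMap.range ev) (fun c hc x hx => by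
        obtain ⟨r, rfl⟩ := hx
        exact ⟨⟨gen ⟨c, hc⟩, Algebra.subset_adjoin ⟨⟨c, hc⟩, rfl⟩⟩ * r, rfl⟩) with h | h
      · exact absurd ((Submodule.mem_bot _).1 (h ▸ LinearMap.mem_range_self ev 1)) h10
      · exact h
  haveI : Finite S := Finite.of_injective ev hev.1
  letI : Field S := (Finite.isField_of_domain S).toField
  have hfinS : Module.finrank (ZMod p') S = f := (LinearEquiv.ofBijective ev hev).finrank_eq.trans hfin
  -- conjugation by `g`
  set T := Rm (g : K) with hT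
  set T' := Rm ((g⁻¹ : Kˣ) : K) with hT'
  have hTT : T * T' = 1 := by rw [hT, hT', ← hRmul, Units.inv_mul, hR1]
  have hTT' : T' * T = 1 := by rw [hT, hT', ← hRmul, Units.mul_inv, hR1]
  let cj : Module.End (ZMod p') K →ₐ[ZMod p'] Module.End (ZMod p') K :=
    AlgHom.ofLinearMap ((LinearMap.mulLeft (ZMod p') T).comp (LinearMap.mulRight (ZMod p') T'))
      (by show T * (1 * T') = 1; rw [one_mul, hTT]) (fun x y => by
        show T * (x * y * T') = T * (x * T') * (T * (y * T'))
        simp only [mul_assoc]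
        rw [← mul_assoc T' T, hTT', one_mul])
  have hcjS : S.map cj ≤ S := by
    rw [AlgHom.map_adjoin]
    refine Algebra.adjoin_mono ?_
    rintro _ ⟨_, ⟨c, rfl⟩, rfl⟩
    refine ⟨⟨g⁻¹ * c * g, by simpa using (inferInstance : C.Normal).conj_mem _ c.2 g⁻¹⟩, ?_⟩
    show Rm _ = T * (Rm ((c : Kˣ) : K) * T')
    rw [hT, hT', ← hRmul, ← hRmul, ← Units.val_mul, ← Units.val_mul]
  let αh : S →ₐ[ZMod p'] S := (cj.comp S.val).codRestrict S fun r => hcjS ⟨r, r.2, rfl⟩
  have hαα : ∀ r, αh (αh r) = r := fun r => Subtype.ext (by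
    show T * (T * ((r : Module.End (ZMod p') K) * T') * T') = r
    have h1 := hcomm' r ⟨g ^ 2, Subgroup.sq_mem_of_index_two hidx g⟩
    have h2 : gen ⟨g ^ 2, Subgroup.sq_mem_of_index_two hidx g⟩ = T * T := by
      show Rm ((g ^ 2 : Kˣ) : K) = T * T
      rw [sq, Units.val_mul, hRmul]
    rw [h2] at h1
    calc T * (T * ((r : Module.End (ZMod p') K) * T') * T')
        = (T * T) * (r : Module.End (ZMod p') K) * (T' * T') := by simp only [mul_assoc]
      _ = (r : Module.End (ZMod p') K) * (T * (T * T') * T') := by rw [h1]; simp only [mul_assoc]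
      _ = r := by rw [hTT, mul_one, hTT, mul_one])
  let αe : S ≃ₐ[ZMod p'] S := AlgEquiv.ofBijective αh
    ⟨fun a b e => by rw [← hαα a, e, hαα], fun b => ⟨αh b, hαα b⟩⟩
  have hαe : αe = 1 := by
    rw [← orderOf_eq_one_iff]
    refine Nat.eq_one_of_dvd_coprimes (Nat.coprime_two_left.2 hfo) ?_ ?_
    · refine orderOf_dvd_of_pow_eq_one (AlgEquiv.ext fun r => ?_)
      rw [sq]; exact hαα r
    · rw [← hfinS, ← IsGalois.card_aut_eq_finrank (ZMod p') S]
      exact orderOf_dvd_natCard αe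
  have hgc : ∀ c ∈ C, c * g = g * c := fun c hc => by
    have h1 : αh ⟨gen ⟨c, hc⟩, Algebra.subset_adjoin ⟨⟨c, hc⟩, rfl⟩⟩ = ⟨gen ⟨c, hc⟩, Algebra.subset_adjoin ⟨⟨c, hc⟩, rfl⟩⟩ :=
      AlgEquiv.congr_fun hαe _
    have h2 : T * (Rm (c : K) * T') = Rm (c : K) := congrArg Subtype.val h1
    have h3 : T * Rm (c : K) = Rm (c : K) * T := by
      calc T * Rm (c : K) = T * (Rm (c : K) * T') * T := by rw [mul_assoc, mul_assoc, hTT', mul_one]
        _ = _ := by rw [h2]
    rw [hT, ← hRmul, ← hRmul] at h3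
    have h4 := LinearMap.congr_fun h3 1
    rw [hRm, hRm, one_mul, one_mul] at h4
    exact Units.ext h4
  have hmemC : ∀ x, x ∉ C → g⁻¹ * x ∈ C := fun x hx =>
    (Subgroup.mul_mem_iff_of_index_two hidx).2 (iff_of_false (fun h => hg (inv_mem_iff.1 h)) hx)
  have hgall : ∀ x, x * g = g * x := fun x => by
    by_cases hx : x ∈ C
    · exact hgc x hx
    · calc x * g = g * ((g⁻¹ * x) * g) := by group
        _ = g * (g * (g⁻¹ * x)) := by rw [hgc _ (hmemC x hx)]
        _ = g * x := by group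
  intro x y
  by_cases hx : x ∈ C <;> by_cases hy : y ∈ C
  · exact hCcomm x hx y hy
  · calc x * y = x * g * (g⁻¹ * y) := by group
      _ = g * (x * (g⁻¹ * y)) := by rw [hgall x, mul_assoc]
      _ = g * ((g⁻¹ * y) * x) := by rw [hCcomm x hx _ (hmemC y hy)]
      _ = y * x := by group
  · calc x * y = g * ((g⁻¹ * x) * y) := by group
      _ = g * (y * (g⁻¹ * x)) := by rw [hCcomm _ (hmemC x hx) y hy]
      _ = y * g * (g⁻¹ * x) := by rw [hgall y, mul_assoc]
      _ = y * x := by group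
  · have e : (g⁻¹ * x) * (g⁻¹ * y) = (g⁻¹ * y) * (g⁻¹ * x) := hCcomm _ (hmemC x hx) _ (hmemC y hy)
    calc x * y = (x * g) * (g⁻¹ * y) := by group
      _ = g * (g * ((g⁻¹ * x) * (g⁻¹ * y))) := by rw [hgall x]; group
      _ = g * (g * ((g⁻¹ * y) * (g⁻¹ * x))) := by rw [e]
      _ = (g * y) * (g⁻¹ * x) := by group
      _ = y * x := by rw [← hgall y]; group

/-- A sharply triply transitive group of degree `p^f + 1`, `p` an odd prime and `f` odd, is isomorphic to the projective general linear group of degree 2 over the field with `p^f` elements (for even `f` there is a second, twisted, group). -/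
theorem result {α : Type*} [Fintype α] [DecidableEq α] {p f : ℕ} (hp : p.Prime) (hp2 : p ≠ 2) (hfo : Odd f) (hα : Fintype.card α = p ^ f + 1) (G : Subgroup (Equiv.Perm α)) (h3 : MulAction.IsMultiplyPretransitive G α 3) (hsharp : ∀ x : Fin 3 ↪ α, MulAction.stabilizer G x = ⊥) : ∃ (F : Type) (_ : Field F) (_ : Fintype F), Fintype.card F = p ^ f ∧ Nonempty (G ≃* Matrix.ProjGenLinGroup (Fin 2) F) := by
  classical
  obtain ⟨a⟩ : Nonempty α := Fintype.card_pos_iff.1 (by omega)
  have hq : 2 ≤ p ^ f := le_trans hp.two_le (Nat.le_self_pow (fun e => by subst e; simp at hfo) p)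
  obtain ⟨nf, haff⟩ := CfsgLib.SharpPGL.exists_coords h3 hsharp (by omega) a
  letI := nf
  obtain ⟨s, σ, -, -, hσ, hσ1, hmul, hfix, -⟩ := CfsgLib.SharpPGL.exists_swap_aut h3 hsharp haff
  have hK : Nat.card {x : α // x ≠ a} = p ^ f := by
    rw [Nat.card_eq_fintype_card, Fintype.card_subtype_compl, Fintype.card_subtype_eq]; omega
  obtain ⟨F, i1, i2, hF, hiso⟩ := CfsgLib.SharpPGL.iso_of_comm h3 hsharp haff
    (mulComm hp hp2 hfo hK σ (fun z hz => (hσ z hz).2) hσ1 hmul hfix)
  exact ⟨F, i1, i2, by omega, hiso⟩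

end Cfsg.Agent.S0730
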