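import Cfsg.Statements.S0732
import Mathlib
import Cfsg.Agent.S0727
import Cfsg.Agent.S0730
import Cfsg.Agent.Lib.Perm.ZassenhausAbelian
import Cfsg.Agent.Lib.Perm.SharplyTwo
import Cfsg.Agent.Lib.PSLn.Group
-- import your own Cfsg.Agent.* helpers here

set_option autoImplicit false
open Cfsg

namespace Cfsg.Agent.S0732

theorem pgl_congr' {K L : Type*} [Field K] [Field L] (e : K ≃+* L) :
    Nonempty (Matrix.ProjGenLinGroup (Fin 2) K ≃* Matrix.ProjGenLinGroup (Fin 2) L) := by
  let φ : GL (Fin 2) K ≃* GL (Fin 2) L := Units.mapEquiv e.mapMatrix.toMulEquiv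
  refine ⟨QuotientGroup.congr _ _ φ ?_⟩
  ext x
  simp only [Subgroup.mem_map, Subgroup.mem_center_iff]
  constructor
  · rintro ⟨a, ha, rfl⟩ b
    obtain ⟨c, rfl⟩ := φ.surjective b
    show φ c * φ a = φ a * φ c
    rw [← map_mul, ← map_mul, ha c]
  · intro h
    obtain ⟨a, rfl⟩ := φ.surjective x
    refine ⟨a, fun b => φ.injective ?_, rfl⟩
    rw [map_mul, map_mul]
    exact h (φ b)

theorem psl_congr' {K L : Type*} [Field K] [Field L] (e : K ≃+* L) :
    Nonempty (Matrix.ProjectiveSpecialLinearGroup (Fin 2) K ≃* Matrix.ProjectiveSpecialLinearGroup (Fin 2) L) := by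
  let f : Matrix.SpecialLinearGroup (Fin 2) K →* Matrix.SpecialLinearGroup (Fin 2) L :=
    Matrix.SpecialLinearGroup.map e.toRingHom
  let g : Matrix.SpecialLinearGroup (Fin 2) L →* Matrix.SpecialLinearGroup (Fin 2) K :=
    Matrix.SpecialLinearGroup.map e.symm.toRingHom
  let φ : Matrix.SpecialLinearGroup (Fin 2) K ≃* Matrix.SpecialLinearGroup (Fin 2) L :=
    { f with
      invFun := g
      left_inv := fun A => by ext i j; exact e.symm_apply_apply _
      right_inv := fun A => by ext i j; exact e.apply_symm_apply _ }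
  refine ⟨QuotientGroup.congr _ _ φ ?_⟩
  ext x
  simp only [Subgroup.mem_map, Subgroup.mem_center_iff]
  constructor
  · rintro ⟨a, ha, rfl⟩ b
    obtain ⟨c, rfl⟩ := φ.surjective b
    show φ c * φ a = φ a * φ c
    rw [← map_mul, ← map_mul, ha c]
  · intro h
    obtain ⟨a, rfl⟩ := φ.surjective x
    refine ⟨a, fun b => φ.injective ?_, rfl⟩
    rw [map_mul, map_mul]
    exact h (φ b)

set_option maxHeartbeats 1000000

open MulAction in
/-- An affine group of degree `p + 1` is semiaffine over the field with `2 ^ q` elements. -/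
theorem affine_case {α : Type*} [Fintype α] [DecidableEq α] {p d : ℕ} (hp : p.Prime) (hp2 : p ≠ 2)
    (hα : Fintype.card α = p + 1) (G : Subgroup (Equiv.Perm α)) (x : α) (u : G) (hup : orderOf u = p)
    (hux : u • x = x) (hutr : ∀ c c' : α, c ≠ x → c' ≠ x → ∃ k : ℕ, u ^ k • c = c')
    (hnorm : ∀ g : G, g • x = x → ∃ k : ℕ, g * u * g⁻¹ = u ^ k)
    (hd : Nat.card (stabilizer G x) = p * d)
    (N : Subgroup G) (hN : N.Normal) (hNt : IsPretransitive N α) (hNf : ∀ a : α, stabilizer N a = ⊥) :
    ∃ q : ℕ, q.Prime ∧ p + 1 = 2 ^ q ∧ (d = 1 ∨ d = q) ∧ ∃ e : α ≃ GaloisField 2 q,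
      ∀ g : G, (e.symm.trans (((g : Equiv.Perm α)).trans e)) ∈ Cfsg.semiaffineGroup (GaloisField 2 q) := by
  classical
  haveI := hN
  have hfree : ∀ n : N, ∀ a : α, (n : G) • a = a → n = 1 := fun n a h => by
    have : n ∈ stabilizer N a := h
    rwa [hNf a, Subgroup.mem_bot] at this
  let φN : N → α := fun n => (n : G) • x
  have hφ : Function.Bijective φN := by
    refine ⟨fun n m e => ?_, fun a => ?_⟩
    · have h : (m⁻¹ * n : N) = 1 := hfree _ x (by
        rw [Subgroup.coe_mul, Subgroup.coe_inv, mul_smul, show (n : G) • x = (m : G) • x from e, inv_smul_smul])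
      exact (inv_mul_eq_one.mp h).symm
    · obtain ⟨n, hn⟩ := hNt.exists_smul_eq x a
      exact ⟨n, hn⟩
  have hNcard : Nat.card N = p + 1 := by
    rw [Nat.card_congr (Equiv.ofBijective _ hφ), Nat.card_eq_fintype_card, hα]
  -- conjugation by the stabiliser
  let cj : stabilizer G x → (N → N) := fun g n => ⟨(g : G) * n * (g : G)⁻¹, hN.conj_mem n n.2 g⟩
  have hcjφ : ∀ g n, φN (cj g n) = (g : G) • φN n := fun g n => by
    show ((g : G) * n * (g : G)⁻¹) • x = (g : G) • (n : G) • x
    rw [mul_smul, mul_smul, inv_smul_eq_iff.mpr (show x = (g : G) • x from g.2.symm)]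
  have hupow : ∀ k : ℕ, u ^ k ∈ stabilizer G x := fun k => pow_mem (show u ∈ stabilizer G x from hux) k
  have hconj : ∀ n m : N, n ≠ 1 → m ≠ 1 → ∃ k : ℕ, u ^ k * (n : G) * (u ^ k)⁻¹ = m := by
    intro n m hn hm
    have hne : ∀ n : N, n ≠ 1 → φN n ≠ x := fun n hn e => hn (hfree n x e)
    obtain ⟨k, hk⟩ := hutr _ _ (hne n hn) (hne m hm)
    exact ⟨k, congrArg Subtype.val (hφ.1 ((hcjφ ⟨u ^ k, hupow k⟩ n).trans hk))⟩
  have hex2 : ∀ n : N, n * n = 1 := by
    have h2 : 2 ∣ Nat.card N := by
      rw [hNcard]; obtain ⟨m, hm⟩ := hp.odd_of_ne_two hp2; exact ⟨m + 1, by omega⟩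
    obtain ⟨z, hz⟩ := exists_prime_orderOf_dvd_card' (G := N) 2 h2
    intro n
    by_cases hn : n = 1
    · rw [hn, mul_one]
    have hz1 : z ≠ 1 := fun e => by rw [e, orderOf_one] at hz; omega
    obtain ⟨k, hk⟩ := hconj z n hz1 hn
    have hzz : (z : G) * z = 1 := by
      have := pow_orderOf_eq_one z
      rw [hz, sq] at this
      exact congrArg Subtype.val this
    apply Subtype.ext
    show (n : G) * n = 1
    rw [← hk, show u ^ k * (z : G) * (u ^ k)⁻¹ * (u ^ k * z * (u ^ k)⁻¹) = u ^ k * (z * z) * (u ^ k)⁻¹ by group, hzz,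
      mul_one, mul_inv_cancel]
  obtain ⟨q, hq⟩ : ∃ q, Nat.card N = 2 ^ q := by
    haveI : Fact (Nat.Prime 2) := ⟨Nat.prime_two⟩
    exact IsPGroup.iff_card.mp (fun n => ⟨1, by rw [pow_one, sq]; exact hex2 n⟩)
  rw [hNcard] at hq
  have hq0 : q ≠ 0 := fun e => by rw [e, pow_zero] at hq; have := hp.pos; omega
  have hqp : q.Prime := Nat.Prime.of_mersenne (by rw [mersenne, show 2 ^ q - 1 = p by omega]; exact hp)
  refine ⟨q, hqp, hq, ?_⟩
  have hinv : ∀ n : N, n⁻¹ = n := fun n => inv_eq_of_mul_eq_one_right (hex2 n)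
  letI : CommGroup N := { (inferInstance : Group N) with
    mul_comm := fun a b => by
      have := hinv (a * b)
      rw [mul_inv_rev, hinv, hinv] at this
      exact this.symm }
  have h2V : ∀ v : Additive N, 2 • v = 0 := fun v => by
    rw [two_nsmul]; exact congrArg Additive.ofMul (hex2 (Additive.toMul v))
  letI : Module (ZMod 2) (Additive N) := AddCommGroup.zmodModule h2V
  let act : stabilizer G x → Additive N →+ Additive N := fun g =>
    { toFun := fun v => Additive.ofMul (cj g (Additive.toMul v))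
      map_zero' := congrArg Additive.ofMul (Subtype.ext (by simp [cj]))
      map_add' := fun a b => congrArg Additive.ofMul (Subtype.ext (by
        show (g : G) * (((Additive.toMul a : N) * (Additive.toMul b : N) : N) : G) * (g : G)⁻¹ =
          (g : G) * (Additive.toMul a : N) * (g : G)⁻¹ * ((g : G) * (Additive.toMul b : N) * (g : G)⁻¹)
        rw [Subgroup.coe_mul]; group)) }
  have hact : ∀ g g' v, act (g * g') v = act g (act g' v) := fun g g' v => congrArg Additive.ofMul (Subtype.ext (by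
    show ((g : G) * g') * (Additive.toMul v : N) * ((g : G) * g')⁻¹ = (g : G) * ((g' : G) * (Additive.toMul v : N) * (g' : G)⁻¹) * (g : G)⁻¹
    group))
  let T : Module.End (ZMod 2) (Additive N) := (act ⟨u, hux⟩).toZModLinearMap 2
  have hTk : ∀ (k : ℕ) (v : Additive N), (T ^ k) v = act ⟨u ^ k, hupow k⟩ v := by
    intro k
    induction k with
    | zero => intro v; exact (congrArg Additive.ofMul (Subtype.ext (by simp [cj]) : cj ⟨u ^ 0, hupow 0⟩ (Additive.toMul v) = Additive.toMul v)).symm
    | succ k ih =>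
      intro v
      rw [pow_succ', Module.End.mul_apply, ih]
      show act ⟨u, hux⟩ (act ⟨u ^ k, hupow k⟩ v) = _
      rw [← hact]
      congr 2
      exact Subtype.ext (pow_succ' u k).symm
  haveI : Nontrivial N := Finite.one_lt_card_iff_nontrivial.mp (by rw [hNcard]; have := hp.pos; omega)
  obtain ⟨n0, hn0⟩ := exists_ne (1 : N)
  set c0 : Additive N := Additive.ofMul n0 with hc0
  have horb : ∀ v : Additive N, v ≠ 0 → ∃ k : ℕ, (T ^ k) c0 = v := fun v hv => by
    obtain ⟨k, hk⟩ := hconj n0 (Additive.toMul v) hn0 (fun e => hv (congrArg Additive.ofMul e))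
    exact ⟨k, (hTk k c0).trans (congrArg Additive.ofMul (Subtype.ext hk : cj ⟨u ^ k, hupow k⟩ n0 = Additive.toMul v))⟩
  let S := Algebra.adjoin (ZMod 2) ({T} : Set (Module.End (ZMod 2) (Additive N)))
  let TS : S := ⟨T, Algebra.subset_adjoin rfl⟩
  letI : CommRing S := Algebra.adjoinCommRingOfComm (ZMod 2) (by rintro _ rfl _ rfl; rfl)
  let ev : S →ₗ[ZMod 2] Additive N := (LinearMap.applyₗ c0).comp S.val.toLinearMap
  have hcomm : ∀ (r : S) (k : ℕ) (v : Additive N), (r : Module.End (ZMod 2) (Additive N)) ((T ^ k) v) =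
      (T ^ k) ((r : Module.End (ZMod 2) (Additive N)) v) := fun r k v => by
    have := LinearMap.congr_fun (congrArg Subtype.val (mul_comm r (TS ^ k))) v
    simpa [TS] using this
  have hinjS : ∀ r : S, r ≠ 0 → ∀ v, (r : Module.End (ZMod 2) (Additive N)) v = 0 → v = 0 := fun r hr v hv => by
    by_contra hv0
    refine hr (Subtype.ext (LinearMap.ext fun w => ?_))
    by_cases hw : w = 0
    · rw [hw, map_zero, map_zero]
    · obtain ⟨i, hi⟩ := horb v hv0
      obtain ⟨j, hj⟩ := horb w hw
      have h0 : (r : Module.End (ZMod 2) (Additive N)) c0 = 0 := by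
        rw [← hi, hcomm, hTk] at hv
        have e : cj ⟨u ^ i, hupow i⟩ (Additive.toMul ((r : Module.End (ZMod 2) (Additive N)) c0)) = 1 :=
          congrArg Additive.toMul hv
        refine congrArg Additive.ofMul (Subtype.ext ?_ : Additive.toMul ((r : Module.End (ZMod 2) (Additive N)) c0) = 1)
        exact conj_eq_one_iff.mp (congrArg Subtype.val e)
      rw [← hj, hcomm, h0, map_zero]; rfl
  have hev : Function.Bijective ev := by
    refine ⟨(injective_iff_map_eq_zero ev).2 fun r hr => ?_, fun v => ?_⟩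
    · by_contra h0
      exact hn0 (congrArg Additive.toMul (hinjS r h0 c0 hr))
    · by_cases hv : v = 0
      · exact ⟨0, by rw [map_zero, hv]⟩
      · obtain ⟨k, hk⟩ := horb v hv
        exact ⟨TS ^ k, (LinearMap.congr_fun (SubmonoidClass.coe_pow TS k) c0).trans hk⟩
  haveI : Finite S := Finite.of_injective ev hev.1
  haveI : Fintype S := Fintype.ofFinite S
  haveI : Nontrivial S := ⟨⟨1, 0, fun e => hn0 (congrArg Additive.toMul (LinearMap.congr_fun (congrArg Subtype.val e) c0))⟩⟩
  haveI : NoZeroDivisors S := ⟨fun {r t} h => by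
    by_contra hh
    push_neg at hh
    exact hn0 (congrArg Additive.toMul (hinjS t hh.2 c0 (hinjS r hh.1 _ (LinearMap.congr_fun (congrArg Subtype.val h) c0))))⟩
  haveI : IsDomain S := NoZeroDivisors.to_isDomain S
  letI : Field S := (Finite.isField_of_domain S).toField
  haveI : Fact (Nat.Prime 2) := ⟨Nat.prime_two⟩
  letI : Fintype (GaloisField 2 q) := Fintype.ofFinite _
  have hS : Fintype.card S = 2 ^ q := by
    rw [← Nat.card_eq_fintype_card, Nat.card_congr (Equiv.ofBijective ev hev), ← Nat.card_congr (Additive.ofMul (α := N)), hNcard, hq]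
  let κ : S ≃+* GaloisField 2 q := FiniteField.ringEquivOfCardEq (hS.trans (by
    rw [← Nat.card_eq_fintype_card, GaloisField.card 2 q hq0]))
  let τ : Additive N ≃+ GaloisField 2 q := (LinearEquiv.ofBijective ev hev).symm.toAddEquiv.trans κ.toAddEquiv
  set ω := κ TS with hω
  have hτT : ∀ (k : ℕ) v, τ ((T ^ k) v) = ω ^ k * τ v := by
    intro k v
    obtain ⟨r, rfl⟩ := hev.2 v
    have e : (T ^ k) (ev r) = ev (TS ^ k * r) :=
      (LinearMap.congr_fun (SubmonoidClass.coe_pow TS k) (ev r)).symm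
    rw [e]
    show κ ((LinearEquiv.ofBijective ev hev).symm (ev (TS ^ k * r))) = ω ^ k * κ ((LinearEquiv.ofBijective ev hev).symm (ev r))
    rw [show ev (TS ^ k * r) = LinearEquiv.ofBijective ev hev (TS ^ k * r) from rfl,
      show ev r = LinearEquiv.ofBijective ev hev r from rfl, LinearEquiv.symm_apply_apply, LinearEquiv.symm_apply_apply,
      map_mul, map_pow]
  have hτc0 : τ c0 = 1 := by
    show κ ((LinearEquiv.ofBijective ev hev).symm c0) = 1
    rw [show c0 = LinearEquiv.ofBijective ev hev 1 from rfl, LinearEquiv.symm_apply_apply, map_one]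
  have hωall : ∀ z : GaloisField 2 q, z ≠ 0 → ∃ k : ℕ, ω ^ k = z := fun z hz => by
    obtain ⟨k, hk⟩ := horb (τ.symm z) (fun e => hz (by rw [← τ.apply_symm_apply z, e, map_zero]))
    exact ⟨k, by rw [← mul_one (ω ^ k), ← hτc0, ← hτT, hk, τ.apply_symm_apply]⟩
  -- every stabiliser element is semilinear
  have hsemi : ∀ g : stabilizer G x, ∃ (a : GaloisField 2 q) (ψ : GaloisField 2 q ≃+* GaloisField 2 q),
      a ≠ 0 ∧ ∀ v, τ (act g v) = a * ψ (τ v) := by
    intro g
    obtain ⟨k, hk⟩ := hnorm g g.2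
    have hgk : ∀ j : ℕ, (⟨u ^ (k * j), hupow _⟩ : stabilizer G x) * g = g * ⟨u ^ j, hupow j⟩ := fun j => Subtype.ext (by
      show u ^ (k * j) * (g : G) = (g : G) * u ^ j
      have e : (g : G) * u ^ j * (g : G)⁻¹ = u ^ (k * j) := by
        rw [pow_mul, ← hk, conj_pow]
      rw [← e]; group)
    let f : GaloisField 2 q →+ GaloisField 2 q := (τ.toAddMonoidHom.comp (act g)).comp τ.symm.toAddMonoidHom
    have hf0 : Function.Injective f := fun y z e => by
      have e1 : act g (τ.symm y) = act g (τ.symm z) := τ.injective e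
      have e2 : cj g (Additive.toMul (τ.symm y)) = cj g (Additive.toMul (τ.symm z)) := congrArg Additive.toMul e1
      exact τ.symm.injective (congrArg Additive.ofMul (Subtype.ext
        (mul_left_cancel (mul_right_cancel (congrArg Subtype.val e2)))) )
    have ha : f 1 ≠ 0 := fun e => one_ne_zero (hf0 (e.trans (map_zero f).symm))
    have hfmul : ∀ (j : ℕ) z, f (ω ^ j * z) = ω ^ (k * j) * f z := by
      intro j z
      show τ (act g (τ.symm (ω ^ j * z))) = ω ^ (k * j) * τ (act g (τ.symm z))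
      have e : τ.symm (ω ^ j * z) = (T ^ j) (τ.symm z) := by
        apply τ.injective
        rw [hτT, τ.apply_symm_apply, τ.apply_symm_apply]
      rw [e, hTk, ← hact, ← hgk, hact, ← hTk, hτT]
    let ψ0 : GaloisField 2 q → GaloisField 2 q := fun z => (f 1)⁻¹ * f z
    have hψmul : ∀ y z, ψ0 (y * z) = ψ0 y * ψ0 z := fun y z => by
      show (f 1)⁻¹ * f (y * z) = (f 1)⁻¹ * f y * ((f 1)⁻¹ * f z)
      by_cases hy : y = 0
      · rw [hy, zero_mul, map_zero, mul_zero, zero_mul]
      · obtain ⟨j, rfl⟩ := hωall y hy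
        have e := hfmul j 1
        rw [mul_one] at e
        rw [hfmul, e]
        field_simp
    have hψbij : Function.Bijective ψ0 :=
      ((mul_right_injective₀ (inv_ne_zero ha)).comp hf0).bijective_of_finite
    refine ⟨f 1, RingEquiv.ofBijective ({
      toFun := ψ0
      map_one' := inv_mul_cancel₀ ha
      map_mul' := hψmul
      map_zero' := by show (f 1)⁻¹ * f 0 = 0; rw [map_zero, mul_zero]
      map_add' := fun y z => by show (f 1)⁻¹ * f (y + z) = _; rw [map_add, mul_add] } :
        GaloisField 2 q →+* GaloisField 2 q) hψbij, ha, fun v => ?_⟩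
    show τ (act g v) = f 1 * ((f 1)⁻¹ * f (τ v))
    rw [← mul_assoc, mul_inv_cancel₀ ha, one_mul]
    show τ (act g v) = τ (act g (τ.symm (τ v)))
    rw [τ.symm_apply_apply]
  choose a ψ ha hψ using hsemi
  refine ⟨?_, (Equiv.ofBijective _ hφ).symm.trans (Additive.ofMul.trans τ.toEquiv), fun g => ?_⟩
  · -- the order of the stabiliser
    have huniq : ∀ g : stabilizer G x, ∀ (a' : GaloisField 2 q) (ψ' : GaloisField 2 q ≃+* GaloisField 2 q),
        (∀ v, τ (act g v) = a' * ψ' (τ v)) → ψ g = ψ' := by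
      intro g a' ψ' h
      have e1 := h c0
      rw [hψ g c0, hτc0, map_one, map_one, mul_one, mul_one] at e1
      refine RingEquiv.ext fun z => ?_
      have e2 := h (τ.symm z)
      rw [hψ g, τ.apply_symm_apply, ← e1] at e2
      exact mul_left_cancel₀ (ha g) e2
    let Ψ : stabilizer G x →* RingAut (GaloisField 2 q) := MonoidHom.mk' ψ fun g g' =>
      huniq _ (a g * ψ g (a g')) _ (fun v => by
        rw [hact, hψ g, hψ g', map_mul, mul_assoc]; rfl)
    have hker : Ψ.ker ≤ (Subgroup.zpowers u).subgroupOf (stabilizer G x) := by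
      intro g hg
      obtain ⟨k, hk⟩ := hωall (a g) (ha g)
      have e : ∀ v, act g v = act ⟨u ^ k, hupow k⟩ v := fun v => τ.injective (by
        rw [hψ g v, ← hTk, hτT, hk, show ψ g = 1 from hg]; rfl)
      have e2 : (g : G) = u ^ k := by
        refine Subtype.ext (Equiv.ext fun c => ?_)
        obtain ⟨n, rfl⟩ := hφ.2 c
        show (g : G) • φN n = (u ^ k : G) • φN n
        have e3 : cj g n = cj ⟨u ^ k, hupow k⟩ n := congrArg Additive.toMul (e (Additive.ofMul n))
        rw [← hcjφ g n, e3, hcjφ]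
      show (g : G) ∈ Subgroup.zpowers u
      rw [e2]; exact Subgroup.npow_mem_zpowers u k
    have h1 : Nat.card Ψ.ker ≤ p := by
      refine (Subgroup.card_le_of_le hker).trans (le_of_eq ?_)
      rw [Nat.card_congr (Subgroup.subgroupOfEquivOfLe (Subgroup.zpowers_le.mpr (show u ∈ stabilizer G x from hux))).toEquiv,
        Nat.card_zpowers, hup]
    have h1' : p ∣ Nat.card Ψ.ker := by
      have hmem : (⟨u, hux⟩ : stabilizer G x) ∈ Ψ.ker := by
        refine huniq _ ω (RingEquiv.refl _) fun v => ?_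
        have := hTk 1 v
        rw [pow_one] at this
        rw [show act ⟨u, hux⟩ v = (T ^ 1) v by rw [hTk]; simp only [pow_one], hτT, pow_one]
        rfl
      have := Ψ.ker.orderOf_dvd_natCard hmem
      rwa [← Subgroup.orderOf_coe, show ((⟨u, hux⟩ : stabilizer G x) : G) = u from rfl, hup] at this
    have h3 : Nat.card Ψ.range ∣ q := by
      have := (Ψ.range).card_subgroup_dvd_card
      rwa [(CfsgLib.PSLn.ringAut_cyclic (F := GaloisField 2 q) (p := 2) (f := q) (by
        rw [← Nat.card_eq_fintype_card, GaloisField.card 2 q hq0])).2] at this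
    have hpk : Nat.card Ψ.ker = p := le_antisymm h1 (Nat.le_of_dvd Nat.card_pos h1')
    have h4 := Subgroup.card_mul_index Ψ.ker
    rw [hpk, Subgroup.index_ker, hd] at h4
    exact (Nat.dvd_prime hqp).mp (Nat.eq_of_mul_eq_mul_left hp.pos h4 ▸ h3)
  · obtain ⟨n, hn⟩ := hNt.exists_smul_eq x (g • x)
    set h : stabilizer G x := ⟨(n : G)⁻¹ * g, show ((n : G)⁻¹ * g) • x = x by
      rw [mul_smul, ← show (n : G) • x = g • x from hn, inv_smul_smul]⟩ with hh
    refine ⟨Units.mk0 (a h) (ha h), τ (Additive.ofMul n), ψ h, fun z => ?_⟩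
    obtain ⟨v, rfl⟩ := τ.surjective z
    show τ (Additive.ofMul ((Equiv.ofBijective _ hφ).symm (g • φN (Additive.toMul (τ.symm (τ v)))))) = a h * ψ h (τ v) + τ (Additive.ofMul n)
    rw [τ.symm_apply_apply, ← hψ h v, ← map_add]
    congr 1
    rw [add_comm]
    show Additive.ofMul ((Equiv.ofBijective _ hφ).symm (g • φN (Additive.toMul v))) = Additive.ofMul (n * cj h (Additive.toMul v))
    congr 1
    rw [Equiv.symm_apply_eq]
    show g • φN (Additive.toMul v) = ((n * cj h (Additive.toMul v) : N) : G) • x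
    rw [Subgroup.coe_mul, mul_smul, show ((cj h (Additive.toMul v) : N) : G) • x = (h : G) • φN (Additive.toMul v) from hcjφ h _]

    exact (congrArg (fun t : G => t • φN (Additive.toMul v)) (show g = (n : G) * (h : G) by rw [hh]; group)).trans (mul_smul _ _ _)

/-- A transitive permutation group on `p + 1` points (`p` prime) of order `(p+1) p d` with `d < p` is isomorphic to `PGL(2,p)` with `d = p - 1`, or to `PSL(2,p)` with `2d = p - 1`, or else `p + 1 = 2^q` for a prime `q`, `d = 1` or `d = q`, and the group is permutation-isomorphic to a group of semi-affine maps `x ↦ a φ(x) + b` of the field with `2^q` elements. -/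
theorem result {α : Type*} [Fintype α] [DecidableEq α] {p d : ℕ} (hp : p.Prime) (hα : Fintype.card α = p + 1) (G : Subgroup (Equiv.Perm α)) [MulAction.IsPretransitive G α] (hG : Nat.card G = (p + 1) * p * d) (hd : d < p) : (d = p - 1 ∧ Nonempty (G ≃* Matrix.ProjGenLinGroup (Fin 2) (ZMod p))) ∨ (2 * d = p - 1 ∧ Nonempty (G ≃* Matrix.ProjectiveSpecialLinearGroup (Fin 2) (ZMod p))) ∨ (∃ q : ℕ, q.Prime ∧ p + 1 = 2 ^ q ∧ (d = 1 ∨ d = q) ∧ ∃ e : α ≃ GaloisField 2 q, ∀ g : G, (e.symm.trans (((g : Equiv.Perm α)).trans e)) ∈ Cfsg.semiaffineGroup (GaloisField 2 q)) := by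
  classical
  open MulAction in
  obtain ⟨x⟩ : Nonempty α := Fintype.card_pos_iff.mp (by omega)
  haveI : Fact p.Prime := ⟨hp⟩
  have hSx : Nat.card (MulAction.stabilizer G x) = p * d := by
    have e := Subgroup.card_mul_index (MulAction.stabilizer G x)
    rw [MulAction.index_stabilizer_of_transitive G x, Nat.card_eq_fintype_card (α := α), hα, hG] at e
    refine Nat.eq_of_mul_eq_mul_right (Nat.succ_pos p) (e.trans ?_)
    rw [Nat.succ_eq_add_one]; ring
  have hd0 : 0 < d := by
    rcases Nat.eq_zero_or_pos d with rfl | h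
    · have := Nat.card_pos (α := MulAction.stabilizer G x); omega
    · exact h
  obtain ⟨P⟩ : Nonempty (Sylow p (MulAction.stabilizer G x)) := inferInstance
  have hPcard : Nat.card (P : Subgroup (MulAction.stabilizer G x)) = p := by
    rw [P.card_eq_multiplicity, hSx, Nat.factorization_mul hp.pos.ne' hd0.ne']
    simp [hp.factorization_self, Nat.factorization_eq_zero_of_lt hd]
  have hidx : (P : Subgroup (MulAction.stabilizer G x)).index = d := by
    have e := Subgroup.card_mul_index (P : Subgroup (MulAction.stabilizer G x))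
    rw [hPcard, hSx] at e
    exact Nat.eq_of_mul_eq_mul_left hp.pos e
  have hPn : (P : Subgroup (MulAction.stabilizer G x)).Normal := by
    have h1 := card_sylow_modEq_one p (MulAction.stabilizer G x)
    have h2 := Sylow.card_dvd_index P
    rw [hidx] at h2
    have h3 : Nat.card (Sylow p (MulAction.stabilizer G x)) < p := (Nat.le_of_dvd hd0 h2).trans_lt hd
    rw [Nat.ModEq, Nat.mod_eq_of_lt h3, Nat.mod_eq_of_lt hp.one_lt] at h1
    haveI : Subsingleton (Sylow p (MulAction.stabilizer G x)) := (Nat.card_eq_one_iff_unique.mp h1).1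
    exact Sylow.normal_of_subsingleton P
  haveI : IsCyclic (P : Subgroup (MulAction.stabilizer G x)) := isCyclic_of_prime_card hPcard
  obtain ⟨u0, hu0⟩ := IsCyclic.exists_generator (α := (P : Subgroup (MulAction.stabilizer G x)))
  set u : G := ((u0 : MulAction.stabilizer G x) : G) with hu
  have hup : orderOf u = p := by
    rw [hu, Subgroup.orderOf_coe, Subgroup.orderOf_coe, orderOf_eq_card_of_forall_mem_zpowers hu0, hPcard]
  have hux : u • x = x := (u0 : MulAction.stabilizer G x).2
  have hu1 : u ≠ 1 := fun e => by rw [e, orderOf_one] at hup; exact hp.one_lt.ne hup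
  obtain ⟨y, hy⟩ : ∃ y : α, u • y ≠ y := by
    by_contra hall
    push_neg at hall
    exact hu1 (Subtype.ext (Equiv.ext fun c => hall c))
  have hxy : x ≠ y := fun e => hy (e ▸ hux)
  let c : Fin p → {o : α // o ≠ x} := fun i => ⟨u ^ (i : ℕ) • y, fun e => hxy (MulAction.injective (u ^ (i : ℕ))
    ((show u ^ (i : ℕ) • x = x from pow_mem (show u ∈ MulAction.stabilizer G x from hux) _).trans e.symm))⟩
  have hcb : Function.Bijective c := by
    refine (Function.Injective.bijective_of_nat_card_le ?_ ?_)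
    · intro i j e
      have e' : u ^ (i : ℕ) • y = u ^ (j : ℕ) • y := congrArg Subtype.val e
      by_contra hij
      have hst : u ^ ((i : ℤ) - (j : ℤ)) ∈ MulAction.stabilizer G y ⊓ Subgroup.zpowers u := by
        refine ⟨show u ^ ((i : ℤ) - (j : ℤ)) • y = y from ?_, zpow_mem (Subgroup.mem_zpowers u) _⟩
        rw [sub_eq_neg_add, zpow_add, zpow_neg, zpow_natCast, zpow_natCast, mul_smul, e', inv_smul_smul]
      have hz : Nat.card ↥(MulAction.stabilizer G y ⊓ Subgroup.zpowers u) ∣ p := by
        have := Subgroup.card_dvd_of_le (inf_le_right : MulAction.stabilizer G y ⊓ Subgroup.zpowers u ≤ _)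
        rwa [Nat.card_zpowers, hup] at this
      rcases (Nat.dvd_prime hp).mp hz with h | h
      · rw [Subgroup.card_eq_one] at h
        rw [h, Subgroup.mem_bot, ← orderOf_dvd_iff_zpow_eq_one, hup] at hst
        refine hij (Fin.ext ?_)
        have := Int.eq_zero_of_abs_lt_dvd hst (by rw [abs_lt]; omega)
        omega
      · have heq : MulAction.stabilizer G y ⊓ Subgroup.zpowers u = Subgroup.zpowers u :=
          Subgroup.eq_of_le_of_card_ge inf_le_right (by rw [h, Nat.card_zpowers, hup])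
        exact hy (heq.ge (Subgroup.mem_zpowers u)).1
    · rw [Nat.card_eq_fintype_card, Fintype.card_subtype_compl, Fintype.card_subtype_eq, hα, Nat.card_eq_fintype_card,
        Fintype.card_fin, Nat.add_sub_cancel]
  have hutr : ∀ a b : α, a ≠ x → b ≠ x → ∃ k : ℕ, u ^ k • a = b := by
    intro a b ha hb
    obtain ⟨i, hi⟩ := hcb.2 ⟨a, ha⟩
    obtain ⟨j, hj⟩ := hcb.2 ⟨b, hb⟩
    refine ⟨(j : ℕ) + (p - (i : ℕ)), ?_⟩
    rw [← show u ^ (i : ℕ) • y = a from congrArg Subtype.val hi, ← show u ^ (j : ℕ) • y = b from congrArg Subtype.val hj,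
      ← mul_smul, ← pow_add, show (j : ℕ) + (p - (i : ℕ)) + (i : ℕ) = (j : ℕ) + p by omega, pow_add, mul_smul]
    nth_rw 2 [← hup]
    rw [pow_orderOf_eq_one, one_smul]
  have hnorm : ∀ g : G, g • x = x → ∃ k : ℕ, g * u * g⁻¹ = u ^ k := by
    intro g hg
    have hm := hPn.conj_mem (u0 : MulAction.stabilizer G x) u0.2 ⟨g, hg⟩
    obtain ⟨k, hk⟩ := (isOfFinOrder_of_finite u0).mem_powers_iff_mem_zpowers.mpr (hu0 ⟨_, hm⟩)
    exact ⟨k, (congrArg (fun t : (P : Subgroup (MulAction.stabilizer G x)) => ((t : MulAction.stabilizer G x) : G)) hk).symm⟩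
  have hcentu : ∀ g : G, g • x = x → g • y = y → g * u = u * g → g = 1 := by
    intro g hgx hgy hgu
    refine Subtype.ext (Equiv.ext fun a => ?_)
    show g • a = a
    by_cases ha : a = x
    · rw [ha, hgx]
    · obtain ⟨k, rfl⟩ := hutr y a hxy.symm ha
      rw [← mul_smul, ((show Commute g u from hgu).pow_right k).eq, mul_smul, hgy]
  have htwo : ∀ g : G, g • x = x → g • y = y → ∀ c : α, c ≠ x → c ≠ y → g • c = c → g = 1 := by
    intro g hgx hgy c hcx hcy hgc
    obtain ⟨i, hi⟩ := hutr y c hxy.symm hcx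
    obtain ⟨k, hk⟩ := hnorm g hgx
    have hcop : (p.Coprime i) := (Nat.Prime.coprime_iff_not_dvd hp).mpr fun ⟨m, hm⟩ => hcy (by
      rw [← hi, hm, pow_mul, ← hup, pow_orderOf_eq_one, one_pow, one_smul])
    have e1 : u ^ (k * i) • y = u ^ i • y := by
      rw [pow_mul, ← hk, conj_pow, mul_smul, mul_smul, inv_smul_eq_iff.mpr hgy.symm, hi, hgc]
    have e2 : u ^ (k * i) = u ^ i := by
      have hs : (u ^ i)⁻¹ * u ^ (k * i) ∈ MulAction.stabilizer G y ⊓ Subgroup.zpowers u :=
        Subgroup.mem_inf.mpr ⟨show ((u ^ i)⁻¹ * u ^ (k * i)) • y = y by rw [mul_smul, e1, inv_smul_smul],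
          mul_mem (inv_mem (Subgroup.npow_mem_zpowers u i)) (Subgroup.npow_mem_zpowers u _)⟩
      obtain ⟨j, hj⟩ := (isOfFinOrder_of_finite u).mem_powers_iff_mem_zpowers.mpr hs.2
      change u ^ j = (u ^ i)⁻¹ * u ^ (k * i) at hj
      have hj0 : p ∣ j := by
        have h' := hcb.1 (a₁ := ⟨j % p, Nat.mod_lt _ hp.pos⟩) (a₂ := ⟨0, hp.pos⟩) (Subtype.ext (by
          show u ^ (j % p) • y = u ^ 0 • y
          rw [← hup, pow_mod_orderOf, hj, pow_zero, one_smul]; exact hs.1))
        exact Nat.dvd_of_mod_eq_zero (congrArg Fin.val h')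
      rw [← hup, orderOf_dvd_iff_pow_eq_one, hj, inv_mul_eq_one] at hj0
      exact hj0.symm
    have hcomm : Commute g (u ^ i) := by
      rw [pow_mul, ← hk, conj_pow] at e2
      exact mul_inv_eq_iff_eq_mul.mp e2
    obtain ⟨a', ha'⟩ := exists_pow_eq_self_of_coprime (x := u) (n := i) (by rw [hup]; exact hcop.symm)
    exact hcentu g hgx hgy (ha' ▸ hcomm.pow_right a').eq
  have hp1 : Fintype.card α - 2 = p - 1 := by omega
  have h2t : MulAction.IsMultiplyPretransitive G α 2 := by
    refine MulAction.is_two_pretransitive_iff.mpr fun {a b a' b'} hab hab' => ?_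
    obtain ⟨g, hg⟩ := MulAction.exists_smul_eq G a x
    obtain ⟨g', hg'⟩ := MulAction.exists_smul_eq G a' x
    obtain ⟨k, hk⟩ := hutr (g • b) (g' • b') (fun e => hab (MulAction.injective g (hg.trans e.symm)))
      (fun e => hab' (MulAction.injective g' (hg'.trans e.symm)))
    refine ⟨g'⁻¹ * u ^ k * g, ?_, ?_⟩
    · rw [mul_smul, mul_smul, hg, show u ^ k • x = x from pow_mem (show u ∈ MulAction.stabilizer G x from hux) k,
        ← hg', inv_smul_smul]
    · rw [mul_smul, mul_smul, hk, inv_smul_smul]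
  haveI := h2t
  have h3f : ∀ g : G, ∀ a b c : α, a ≠ b → b ≠ c → a ≠ c → g • a = a → g • b = b → g • c = c → g = 1 := by
    intro g a b c hab hbc hac ha hb hc
    obtain ⟨m, hma, hmb⟩ := (MulAction.is_two_pretransitive_iff.mp h2t) hab hxy
    have := htwo (m * g * m⁻¹) (by rw [← hma, mul_smul, mul_smul, inv_smul_smul, ha])
      (by rw [← hmb, mul_smul, mul_smul, inv_smul_smul, hb]) (m • c)
      (fun e => hac (MulAction.injective m (hma.trans e.symm))) (fun e => hbc (MulAction.injective m (hmb.trans e.symm)))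
      (by rw [mul_smul, mul_smul, inv_smul_smul, hc])
    rwa [mul_inv_eq_one, mul_eq_left] at this
  set D := MulAction.stabilizer G x ⊓ MulAction.stabilizer G y with hD
  have hDcard : Nat.card D = d := by
    have e := Subgroup.card_mul_index ((MulAction.stabilizer G y).subgroupOf (MulAction.stabilizer G x))
    have hor : MulAction.orbit (MulAction.stabilizer G x) y = {x}ᶜ := by
      ext o
      refine ⟨?_, fun ho => ?_⟩
      · rintro ⟨g, rfl⟩ e
        exact hxy (MulAction.injective (g : G) (g.2.trans (e : (g : G) • y = x).symm))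
      · obtain ⟨k, hk⟩ := hutr y o hxy.symm ho
        exact ⟨⟨u ^ k, pow_mem (show u ∈ MulAction.stabilizer G x from hux) k⟩, hk⟩
    rw [show (MulAction.stabilizer G y).subgroupOf (MulAction.stabilizer G x) = MulAction.stabilizer (MulAction.stabilizer G x) y from rfl,
      MulAction.index_stabilizer, hor, hSx, Set.ncard_compl, Set.ncard_singleton, Nat.card_eq_fintype_card (α := α), hα,
      Nat.add_sub_cancel] at e
    have e3 := Nat.eq_of_mul_eq_mul_right hp.pos (e.trans (mul_comm _ _))
    rw [hD, ← e3]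
    exact Nat.card_congr ⟨fun g => ⟨⟨g, g.2.1⟩, g.2.2⟩, fun g => ⟨g.1.1, g.1.2, g.2⟩, fun g => rfl, fun g => rfl⟩
  by_cases hfull : d = p - 1
  · -- sharply three-transitive
    refine Or.inl ⟨hfull, ?_⟩
    have hsh : ∀ t : Fin 3 ↪ α, MulAction.stabilizer G t = ⊥ := fun t => (Subgroup.eq_bot_iff_forall _).mpr fun g hg =>
      h3f g (t 0) (t 1) (t 2) (t.injective.ne (by decide)) (t.injective.ne (by decide)) (t.injective.ne (by decide))
        (DFunLike.congr_fun hg 0) (DFunLike.congr_fun hg 1) (DFunLike.congr_fun hg 2)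
    have h3 : MulAction.IsMultiplyPretransitive G α 3 := by
      refine ⟨fun s t => ?_⟩
      have hb : Function.Bijective (fun g : G => g • t) := by
        refine Function.Injective.bijective_of_nat_card_le (fun g g' e => ?_) ?_
        · have h : g'⁻¹ * g ∈ MulAction.stabilizer G t := by
            rw [MulAction.mem_stabilizer_iff, mul_smul]; exact inv_smul_eq_iff.mpr e
          rw [hsh, Subgroup.mem_bot, inv_mul_eq_one] at h
          exact h.symm
        · rw [Nat.card_eq_fintype_card, Fintype.card_embedding_eq, hG, hfull, hα, Fintype.card_fin]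
          simp [Nat.descFactorial_succ]
          exact le_of_eq (by ring)
      obtain ⟨g, hg⟩ := hb.2 s
      obtain ⟨g', hg'⟩ := hb.2 t
      exact ⟨g' * g⁻¹, (mul_smul _ _ _).trans ((congrArg (g' • ·) (inv_smul_eq_iff.mpr hg.symm)).trans hg')⟩
    have hF : ∃ (F : Type) (_ : Field F) (_ : Fintype F), Fintype.card F = p ∧ Nonempty (G ≃* Matrix.ProjGenLinGroup (Fin 2) F) := by
      by_cases h2 : p = 2
      · subst h2
        obtain ⟨F, iF, iF', hc, he⟩ := Cfsg.Agent.S0727.result (f := 1) le_rfl (by rw [pow_one]; exact hα) G h3 hsh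
        exact ⟨F, iF, iF', by rw [hc, pow_one], he⟩
      · obtain ⟨F, iF, iF', hc, he⟩ := Cfsg.Agent.S0730.result (f := 1) hp h2 odd_one (by rw [pow_one]; exact hα) G h3 hsh
        exact ⟨F, iF, iF', by rw [hc, pow_one], he⟩
    obtain ⟨F, _, _, hFc, ⟨e1⟩⟩ := hF
    haveI : CharP F p := charP_of_card_eq_prime hFc
    obtain ⟨e2⟩ := pgl_congr' (ZMod.ringEquiv F hFc).symm
    exact ⟨e1.trans e2⟩
  · right
    have hp2 : p ≠ 2 := fun e => by omega
    by_cases haff : ∃ N : Subgroup G, N.Normal ∧ MulAction.IsPretransitive N α ∧ ∀ a : α, MulAction.stabilizer N a = ⊥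
    · obtain ⟨N, hN, hNt, hNf⟩ := haff
      exact Or.inr (affine_case hp hp2 hα G x u hup hux hutr hnorm hSx N hN hNt hNf)
    left
    by_cases hd1 : d = 1
    · exfalso
      have hsh2 : ∀ t : Fin 2 ↪ α, MulAction.stabilizer G t = ⊥ := by
        intro t
        refine (Subgroup.eq_bot_iff_forall _).mpr fun g hg => ?_
        obtain ⟨m, hma, hmb⟩ := (MulAction.is_two_pretransitive_iff.mp h2t) (t.injective.ne (show (0 : Fin 2) ≠ 1 by decide)) hxy
        have h1 : m * g * m⁻¹ ∈ D := ⟨show (m * g * m⁻¹) • x = x by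
            rw [← hma, mul_smul, mul_smul, inv_smul_smul, show g • t 0 = t 0 from DFunLike.congr_fun hg 0],
          show (m * g * m⁻¹) • y = y by
            rw [← hmb, mul_smul, mul_smul, inv_smul_smul, show g • t 1 = t 1 from DFunLike.congr_fun hg 1]⟩
        have hD1 : D = ⊥ := Subgroup.card_eq_one.mp (hDcard.trans hd1)
        rw [hD1, Subgroup.mem_bot, mul_inv_eq_one, mul_eq_left] at h1
        exact h1
      obtain ⟨r, j, hr, -, -, hP⟩ := CfsgLib.SharplyTwo.regular_normal G hsh2 (by have := hp.two_le; omega)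
      obtain ⟨R⟩ : Nonempty (Sylow r G) := inferInstance
      obtain ⟨hn, -, -, ht, hf, -⟩ := hP ⟨hr⟩ R
      exact haff ⟨_, hn, ht, hf⟩
    have hZ : Cfsg.IsZassenhausGroup G α := by
      refine ⟨⟨fun {g g'} h => Subtype.ext (Equiv.ext h)⟩, h2t, h3f, ?_, fun N hN hNt => ?_⟩
      · haveI : Nontrivial D := Finite.one_lt_card_iff_nontrivial.mp (by rw [hDcard]; omega)
        obtain ⟨⟨g, hg⟩, hg1⟩ := exists_ne (1 : D)
        exact ⟨g, fun e => hg1 (Subtype.ext e), x, y, hxy, hg.1, hg.2⟩
      · by_contra hh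
        push_neg at hh
        exact haff ⟨N, hN, hNt, hh⟩
    have hle : Subgroup.zpowers u ≤ MulAction.stabilizer G x := Subgroup.zpowers_le.mpr hux
    have hreg : ∀ a b : α, a ≠ x → b ≠ x → ∃! w : Subgroup.zpowers u, (w : G) • a = b := by
      intro a b ha hb
      have hmod : ∀ m, u ^ (m % p) = u ^ m := fun m => by rw [← hup, pow_mod_orderOf]
      obtain ⟨k, hk⟩ := hutr a b ha hb
      refine ⟨⟨u ^ k, Subgroup.npow_mem_zpowers u k⟩, hk, fun w hw => ?_⟩
      obtain ⟨j, hj⟩ := (isOfFinOrder_of_finite u).mem_powers_iff_mem_zpowers.mpr w.2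
      apply Subtype.ext
      show (w : G) = u ^ k
      change u ^ j = (w : G) at hj
      obtain ⟨i, hi⟩ := hcb.2 ⟨a, ha⟩
      have hia : u ^ (i : ℕ) • y = a := congrArg Subtype.val hi
      have := hcb.1 (a₁ := ⟨(j + i) % p, Nat.mod_lt _ hp.pos⟩) (a₂ := ⟨(k + i) % p, Nat.mod_lt _ hp.pos⟩) (Subtype.ext (by
        show u ^ ((j + i) % p) • y = u ^ ((k + i) % p) • y
        rw [hmod, hmod, pow_add, pow_add, mul_smul, mul_smul, hia, hj, hk]; exact hw))
      have h' : u ^ (j + i) = u ^ (k + i) := by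
        rw [← hmod (j + i), ← hmod (k + i)]; exact congrArg (fun t : Fin p => u ^ (t : ℕ)) this
      rw [← hj]
      rw [pow_add, pow_add] at h'
      exact mul_right_cancel h'
    rcases CfsgLib.ZassenhausAbelian.cases hZ x (Subgroup.zpowers u) hle
        ⟨fun g hg m => by
          obtain ⟨k, hk⟩ := hnorm (m : G) m.2
          obtain ⟨i, hi⟩ := Subgroup.mem_zpowers_iff.mp (Subgroup.mem_subgroupOf.mp hg)
          rw [Subgroup.mem_subgroupOf]
          show (m : G) * (g : G) * (m : G)⁻¹ ∈ Subgroup.zpowers u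
          rw [← hi, ← conj_zpow, hk]
          exact zpow_mem (Subgroup.npow_mem_zpowers u k) i⟩
        inferInstance hreg with ⟨z, hxz, hz, -⟩ | ⟨z, hxz, hz, r, f, K, _, _, hr, hr2, hK, hcard, ⟨e1⟩⟩
    · exfalso
      have hz' := CfsgLib.ZassenhausOdd.card_D_eq hZ hxz hxy
      rw [show CfsgLib.ZassenhausOdd.D (G := G) x y = D from rfl, hDcard] at hz'
      rw [show Nat.card ↥(MulAction.stabilizer G x ⊓ MulAction.stabilizer G z) = d from hz'] at hz
      omega
    · have hz' := CfsgLib.ZassenhausOdd.card_D_eq hZ hxz hxy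
      rw [show CfsgLib.ZassenhausOdd.D (G := G) x y = D from rfl, hDcard] at hz'
      rw [show Nat.card ↥(MulAction.stabilizer G x ⊓ MulAction.stabilizer G z) = d from hz'] at hz
      refine ⟨by omega, ?_⟩
      have hKp : Fintype.card K = p := by omega
      haveI : CharP K p := charP_of_card_eq_prime hKp
      obtain ⟨e2⟩ := psl_congr' (ZMod.ringEquiv K hKp).symm
      exact ⟨e1.trans e2⟩

end Cfsg.Agent.S0732
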