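import Cfsg.Statements.S0105
import Cfsg.Agent.Lib.TransferApps
-- import your own Cfsg.Agent.* helpers here

set_option autoImplicit false
open Cfsg

namespace Cfsg.Agent.S0105

/-- With an abelian Sylow p-subgroup P, some quotient of G is isomorphic to the part of P central in N_G(P). -/
theorem result {G : Type*} [Group G] [Finite G] {p : ℕ} [Fact p.Prime] (P : Sylow p G) (hP : IsMulCommutative P) : ∃ (N : Subgroup G) (hN : N.Normal), Nonempty (G ⧸ N ≃* ((P : Subgroup G) ⊓ Subgroup.centralizer (Subgroup.normalizer (P : Set G) : Set G) : Subgroup G)) := by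
  set N := Subgroup.normalizer ((P : Subgroup G) : Set G)
  set D := (P : Subgroup G) ⊓ Subgroup.centralizer (N : Set G)
  -- a complement of `P` in its normalizer
  let P' : Sylow p N := P.subtype Subgroup.le_normalizer
  have hP'n : (P' : Subgroup N).Normal := Subgroup.normal_subgroupOf_of_le_normalizer (le_refl N)
  obtain ⟨K₀, hK₀⟩ := Subgroup.exists_right_complement'_of_coprime (N := (P' : Subgroup N)) (by
    obtain ⟨k, hk⟩ := P'.2.exists_card_eq
    rw [hk]
    exact Nat.Coprime.pow_left k ((Fact.out : p.Prime).coprime_iff_not_dvd.mpr P'.not_dvd_index))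
  set K := K₀.map N.subtype
  have hKN : K ≤ N := Subgroup.map_subtype_le _
  have hcopK : (Nat.card K).Coprime (Nat.card (P : Subgroup G)) := by
    rw [Subgroup.card_map_of_injective N.subtype_injective, hK₀.symm.index_eq_card.symm]
    obtain ⟨k, hk⟩ := P.2.exists_card_eq
    rw [hk]
    exact (((Fact.out : p.Prime).coprime_iff_not_dvd.mpr P'.not_dvd_index).symm).pow_right k
  have hdis := CfsgLib.coprime_abelian_disjoint K (P : Subgroup G) hKN hcopK
  have hsup := CfsgLib.coprime_abelian_sup K (P : Subgroup G) hKN hcopK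
  have hD : (P : Subgroup G) ⊓ Subgroup.centralizer (K : Set G) = D := by
    refine le_antisymm (fun x hx => ⟨hx.1, Subgroup.mem_centralizer_iff.mpr fun y hy => ?_⟩)
      (inf_le_inf_left _ (Subgroup.centralizer_le hKN))
    obtain ⟨⟨a, k⟩, hak⟩ := (Subgroup.isComplement_iff_existsUnique.mp hK₀ ⟨y, hy⟩).exists
    have hy' : ((a : N) : G) * ((k : N) : G) = y := congrArg Subtype.val hak
    have e1 : ((a : N) : G) * x = x * ((a : N) : G) := congrArg Subtype.val (hP.1.comm ⟨_, a.2⟩ ⟨x, hx.1⟩)
    have e2 : ((k : N) : G) * x = x * ((k : N) : G) := Subgroup.mem_centralizer_iff.mp hx.2 _ ⟨k, k.2, rfl⟩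
    rw [← hy', mul_assoc, e2, ← mul_assoc, e1, mul_assoc]
  rw [hD] at hdis hsup
  -- the focal subgroup
  set W := ⁅(P : Subgroup G), K⁆
  have hfoc : (P : Subgroup G).focalSubgroup ≤ W := by
    refine CfsgLib.TransferApps.focalSubgroup_le_of_control _ N W
      (fun x hx g hg => CfsgLib.TransferApps.exists_normalizer_conj_of_abelian P hP hx hg) fun x hx n hn _ => ?_
    obtain ⟨⟨a, k⟩, hak⟩ := (Subgroup.isComplement_iff_existsUnique.mp hK₀ ⟨n, hn⟩).exists
    have hn' : ((a : N) : G) * ((k : N) : G) = n := congrArg Subtype.val hak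
    have e1 : ∀ z ∈ (P : Subgroup G), ((a : N) : G) * z = z * ((a : N) : G) := fun z hz =>
      congrArg Subtype.val (hP.1.comm ⟨_, a.2⟩ ⟨z, hz⟩)
    have hk : ((k : N) : G) ∈ K := ⟨k, k.2, rfl⟩
    have hkx : ((k : N) : G) * x⁻¹ * ((k : N) : G)⁻¹ ∈ (P : Subgroup G) :=
      (Subgroup.mem_normalizer_iff.mp (hKN hk) x⁻¹).mp (inv_mem hx)
    open scoped commutatorElement in
    have : ⁅x, n⁆ = ⁅x, ((k : N) : G)⁆ := by
      refine CfsgLib.TransferApps.commutator_eq_of_conj ?_
      calc ((k : N) : G) * x⁻¹ * ((k : N) : G)⁻¹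
          = ((a : N) : G) * (((k : N) : G) * x⁻¹ * ((k : N) : G)⁻¹) * ((a : N) : G)⁻¹ := by
            rw [e1 _ hkx, mul_inv_cancel_right]
        _ = n * x⁻¹ * n⁻¹ := by rw [← hn']; group
    rw [this]
    exact Subgroup.commutator_mem_commutator hx hk
  have hW : W ≤ (P : Subgroup G).focalSubgroup := by
    rw [← Subgroup.commutator_inf_eq_focalSubgroup P]
    exact le_inf (Subgroup.commutator_mono le_top le_top) (le_sup_right.trans hsup.le)
  -- the quotient
  let θ : D →* (P : Subgroup G) ⧸ (P : Subgroup G).focalSubgroupOf :=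
    (QuotientGroup.mk' _).comp (Subgroup.inclusion inf_le_left)
  have hθ : Function.Bijective θ := by
    constructor
    · rw [injective_iff_map_eq_one]
      intro d hd
      have h1 : (d : G) ∈ (P : Subgroup G).focalSubgroup :=
        (QuotientGroup.eq_one_iff (N := (P : Subgroup G).focalSubgroupOf) (Subgroup.inclusion inf_le_left d)).mp hd
      have h2 : (d : G) ∈ (⊥ : Subgroup G) := hdis.le ⟨d.2, hfoc h1⟩
      exact Subtype.ext h2
    · intro q
      obtain ⟨⟨x, hx⟩, rfl⟩ := QuotientGroup.mk'_surjective _ q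
      have hx' : x ∈ D ⊔ W := hsup.ge hx
      have hDn : D ≤ Subgroup.normalizer (W : Set G) := by
        refine le_trans ?_ (Subgroup.centralizer_le_normalizer _)
        exact fun d hd => Subgroup.mem_centralizer_iff.mpr fun w hw =>
          congrArg Subtype.val (hP.1.comm ⟨w, (le_sup_right.trans hsup.le) hw⟩ ⟨d, hd.1⟩)
      rw [← SetLike.mem_coe, Subgroup.coe_mul_of_left_le_normalizer_right D W hDn] at hx'
      obtain ⟨d, hd, w, hw, rfl⟩ := hx'
      refine ⟨⟨d, hd⟩, QuotientGroup.eq.mpr ?_⟩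
      show d⁻¹ * (d * w) ∈ (P : Subgroup G).focalSubgroup
      rw [inv_mul_cancel_left]
      exact hW hw
  exact ⟨(P : Subgroup G).transferFocal.ker, inferInstance,
    ⟨(Subgroup.transferFocal.quotientKerMulEquivQuotientFocalSubroupOf P).trans (MulEquiv.ofBijective θ hθ).symm⟩⟩

end Cfsg.Agent.S0105
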