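import Cfsg.Statements.S3109
import Cfsg.Agent.Lib.ConstrainedCore.Base
import Cfsg.Agent.Lib.Bender.GoodAll
-- import your own Cfsg.Agent.* helpers here

set_option autoImplicit false
open Cfsg

namespace Cfsg.Agent.S3109

/-- Let G be a non-abelian finite simple group in which every 2-local subgroup is 2-constrained, and suppose some Sylow 2-subgroup S of G has a self-centralizing abelian normal subgroup A (C_S(A) = A) of 2-rank at least 3. Then the centralizer of every involution of G has no nontrivial normal subgroup of odd order. -/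
theorem result {G : Type*} [Group G] [Finite G] [IsSimpleGroup G] (hG : ¬ IsMulCommutative G)
    (h2c : ∀ T : Subgroup G, IsPGroup 2 T → T ≠ ⊥ → Cfsg.IsPConstrained 2 ↥(Subgroup.normalizer (T : Set G)))
    (S : Sylow 2 G) (A : Subgroup ↥(S : Subgroup G)) (hAn : A.Normal) (hAab : IsMulCommutative ↥A)
    (hAC : Subgroup.centralizer (A : Set ↥(S : Subgroup G)) = A) (hA3 : ¬ Cfsg.PRankLE 2 2 ↥A) :
    ∀ t : G, orderOf t = 2 → Cfsg.centralizerPPrimeCore 2 t = ⊥ := by
  intro t ht
  haveI : Fact (Nat.Prime 2) := ⟨Nat.prime_two⟩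
  have hcon : CfsgLib.TwoLocalSignalizer.Hyp G := fun x hx => by
    have h1 := h2c (Subgroup.zpowers x) (IsPGroup.of_card (n := 1) (by rw [Nat.card_zpowers, hx, pow_one]))
      (fun e => by rw [Subgroup.zpowers_eq_bot.mp e, orderOf_one] at hx; norm_num at hx)
    rwa [CfsgLib.ConstrainedCore.normalizer_zpowers hx] at h1
  have hAS : A.map (S : Subgroup G).subtype ≤ (S : Subgroup G) := Subgroup.map_subtype_le _
  have hn : ((A.map (S : Subgroup G).subtype).subgroupOf (S : Subgroup G)).Normal := by
    rw [Subgroup.subgroupOf, Subgroup.comap_map_eq_self_of_injective (Subgroup.subtype_injective _)]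
    exact hAn
  have hc : IsMulCommutative ↥(A.map (S : Subgroup G).subtype) := ⟨⟨by
    rintro ⟨_, a, ha, rfl⟩ ⟨_, b, hb, rfl⟩
    exact Subtype.ext (congrArg (fun z : ↥(S : Subgroup G) => (z : G))
      (congrArg Subtype.val (hAab.is_comm.comm ⟨a, ha⟩ ⟨b, hb⟩)))⟩⟩
  obtain ⟨E, hb⟩ := CfsgLib.ConstrainedCore.exists_base S _ hAS hn hc fun h => hA3
    (CfsgLib.ConstrainedCore.rank_le_of_equiv (A.equivMapOfInjective _ (Subgroup.subtype_injective _)) h)
  refine CfsgLib.ConstrainedCore.core_eq_bot hcon hb CfsgLib.Bender.Assembly.goodAll ?_ t ht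
  refine (inferInstance : (Cfsg.oddCore G).Normal).eq_bot_or_eq_top.resolve_right fun e => ?_
  have h1 := CfsgLib.odd_card_oddCore (G := G)
  rw [e, Subgroup.card_top] at h1
  exact Nat.not_even_iff_odd.mpr h1 (even_iff_two_dvd.mpr (ht ▸ orderOf_dvd_natCard t))

end Cfsg.Agent.S3109
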