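import Cfsg.Statements.S0517
import Cfsg.Agent.Lib.SRFour.Front
import Cfsg.Agent.Lib.SRFour.CoreThm
import Cfsg.Agent.Lib.SRFour.CaseU
import Cfsg.Agent.Lib.SRFour.IType
import Cfsg.Agent.Lib.SRFour.ExtraWreath


set_option autoImplicit false
open Cfsg

namespace Cfsg.Agent.S0517

/-- Let G be a nonsolvable finite group of sectional 2-rank at most 4 in which every 2-local subgroup is solvable, and let
D be its commutator subgroup. Then D modulo its core is isomorphic to a projective special linear group of dimension 2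
over a field of odd order or of order 8 or 16, to the projective special linear group of dimension 3 over the field
with 3 elements, to a projective special unitary group of dimension 3 for q = 3 or q = 4, to the alternating group of
degree 7, or is simple of order 29120 or 7920. -/
theorem result {G : Type*} [Group G] [Finite G]
    (hG : ¬ Group.IsSolvable G) (h4 : Cfsg.SectionalPRankLE 2 4 G)
    (hL : ∀ N : Subgroup G, Cfsg.IsTwoLocal N → Group.IsSolvable N) :
    (∃ (F : Type) (_ : Field F) (_ : Fintype F),
        (Odd (Fintype.card F) ∨ Fintype.card F = 8 ∨ Fintype.card F = 16) ∧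
          Nonempty (↥(commutator G) ⧸ Cfsg.oddCore ↥(commutator G) ≃* Matrix.ProjectiveSpecialLinearGroup (Fin 2) F)) ∨
      (∃ (F : Type) (_ : Field F) (_ : Fintype F), Fintype.card F = 3 ∧
          Nonempty (↥(commutator G) ⧸ Cfsg.oddCore ↥(commutator G) ≃* Matrix.ProjectiveSpecialLinearGroup (Fin 3) F)) ∨
      (∃ (F : Type) (_ : Field F) (_ : Fintype F) (q : ℕ), Fintype.card F = q ^ 2 ∧ (q = 3 ∨ q = 4) ∧
          Nonempty (↥(commutator G) ⧸ Cfsg.oddCore ↥(commutator G) ≃* Cfsg.PSU 3 F q)) ∨
      Nonempty (↥(commutator G) ⧸ Cfsg.oddCore ↥(commutator G) ≃* alternatingGroup (Fin 7)) ∨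
      (IsSimpleGroup (↥(commutator G) ⧸ Cfsg.oddCore ↥(commutator G)) ∧
        (Nat.card (↥(commutator G) ⧸ Cfsg.oddCore ↥(commutator G)) = 29120 ∨
          Nat.card (↥(commutator G) ⧸ Cfsg.oddCore ↥(commutator G)) = 7920)) := by
  exact CfsgLib.SRFour.front (fun H _ _ h => CfsgLib.SRFour.hard_false_of_cases h
    (fun S M hM hU hns => CfsgLib.SRFour.caseU h S M hM hU hns)
    (fun S K F H' V D => CfsgLib.SRFour.iType h D)
    (fun N Y c d D => CfsgLib.SRFour.extraWreath h N D)) hG h4 hL

end Cfsg.Agent.S0517
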