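import Cfsg.Statements.S1754
import Cfsg.Agent.Lib.Components
import Cfsg.Agent.Lib.Local

set_option autoImplicit false
set_option linter.unusedVariables false
open Cfsg
open scoped commutatorElement

namespace Cfsg.Agent.S1754

/-- Let A be a standard subgroup of the finite group G (A quasisimple, C_G(A) tightly embedded of even order, A commuting elementwise with no other conjugate of itself, and N_G(A) = N_G(C_G(A))), and let t be an involution of G centralizing A. Then the centralizer of t lies in the normalizer of A; in particular A, viewed inside C_G(t), is a component of C_G(t). -/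
theorem result {G : Type*} [Group G] [Finite G]
    (A : Subgroup G) (hA : Cfsg.IsStandardSubgroup A) (t : G) (ht : orderOf t = 2) (htA : t ∈ Subgroup.centralizer (A : Set G)) :
    Subgroup.centralizer ({t} : Set G) ≤ Subgroup.normalizer (A : Set G) ∧
      Cfsg.IsComponent (A.subgroupOf (Subgroup.centralizer ({t} : Set G))) := by
  obtain ⟨hq, ⟨-, htight⟩, -, hNN⟩ := hA
  have hAC : A ≤ Subgroup.centralizer ({t} : Set G) := fun a ha y hy => by
    rw [Set.mem_singleton_iff] at hy; subst hy; exact (htA a ha).symm
  have hle : Subgroup.centralizer ({t} : Set G) ≤ Subgroup.normalizer (A : Set G) := by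
    intro g hg
    by_contra hgn
    rw [hNN] at hgn
    have hmem : t ∈ Subgroup.centralizer (A : Set G) ⊓
        (Subgroup.centralizer (A : Set G)).map (MulAut.conj g).toMonoidHom := by
      refine ⟨htA, CfsgLib.Local.mem_map_conj.2 ?_⟩
      have h1 : t * g = g * t := hg t rfl
      rwa [mul_assoc, h1, inv_mul_cancel_left]
    have h2 : 2 ∣ Nat.card ↥(Subgroup.centralizer (A : Set G) ⊓
        (Subgroup.centralizer (A : Set G)).map (MulAut.conj g).toMonoidHom) := by
      have := orderOf_dvd_natCard (⟨t, hmem⟩ : ↥(Subgroup.centralizer (A : Set G) ⊓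
        (Subgroup.centralizer (A : Set G)).map (MulAut.conj g).toMonoidHom))
      rwa [Subgroup.orderOf_mk, ht] at this
    exact absurd h2 (Nat.not_even_iff_odd.2 (htight g hgn) ∘ even_iff_two_dvd.2)
  refine ⟨hle, ?_, CfsgLib.isQuasisimple_of_equiv (Subgroup.subgroupOfEquivOfLe hAC).symm hq⟩
  exact Subgroup.Normal.isSubnormal ((Subgroup.normal_subgroupOf_iff_le_normalizer hAC).2 hle)

end Cfsg.Agent.S1754
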