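import Cfsg.Statements.S1007
import Mathlib
import Cfsg.Agent.Lib.SmallSimple.Order168Props

set_option autoImplicit false
set_option maxRecDepth 20000
attribute [local irreducible] CfsgLib.Order168Model.mulC CfsgLib.Order168Model.invC CfsgLib.Order168Model.detC CfsgLib.Order168Model.mkT
open Cfsg

namespace Cfsg.Agent.S1007

/-- A four-group maps to a four-group. -/
theorem klein_map {A B : Type*} [Group A] [Group B] (f : A ≃* B) {U : Subgroup A} (hU : IsKleinFour U) :
    IsKleinFour (U.map f.toMonoidHom) :=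
  ⟨by rw [Subgroup.card_map_of_injective f.injective]; exact hU.card_four,
    by rw [← Monoid.exponent_eq_of_mulEquiv (U.equivMapOfInjective _ f.injective)]; exact hU.exponent_two⟩

/-- Let G be a simple group of order 168 and T a Sylow 2-subgroup. Then T contains exactly two subgroups that are Klein four-groups; they are not conjugate in G; and the normalizer of every Klein four-subgroup of G is isomorphic to the symmetric group of degree 4. -/
theorem result {G : Type*} [Group G] [Finite G] [IsSimpleGroup G] (h : Nat.card G = 168) (T : Sylow 2 G) : Nat.card {U : Subgroup G // U ≤ (T : Subgroup G) ∧ IsKleinFour ↥U} = 2 ∧ (∀ U W : Subgroup G, U ≤ (T : Subgroup G) → W ≤ (T : Subgroup G) → IsKleinFour ↥U → IsKleinFour ↥W → U ≠ W → ∀ g : G, U.map (MulAut.conj g).toMonoidHom ≠ W) ∧ ∀ U : Subgroup G, IsKleinFour ↥U → Nonempty (↥(Subgroup.normalizer (U : Set G)) ≃* Equiv.Perm (Fin 4)) := by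
  obtain ⟨φ, hφ⟩ := CfsgLib.Order168Model.exists_equiv_sylow h T
  obtain ⟨k1, k2, l1, l2, hne⟩ := CfsgLib.Order168Model.klein_V
  let F := φ.mapSubgroup
  have hFle : ∀ U : Subgroup G, F U ≤ CfsgLib.Order168Model.T0 ↔ U ≤ (T : Subgroup G) := fun U => by
    rw [← hφ]
    exact F.le_iff_le (x := U) (y := (T : Subgroup G))
  have hcases : ∀ U : Subgroup G, U ≤ (T : Subgroup G) → IsKleinFour U →
      F U = CfsgLib.Order168Model.V1 ∨ F U = CfsgLib.Order168Model.V2 :=
    fun U hle hU => CfsgLib.Order168Model.klein_cases (klein_map φ hU) ((hFle U).mpr hle)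
  refine ⟨?_, fun U W hUle hWle hU hW hUW g hg => ?_, fun U hU => ?_⟩
  · rw [Nat.card_eq_two_iff]
    refine ⟨⟨F.symm CfsgLib.Order168Model.V1, (hFle _).mp (by rw [F.apply_symm_apply]; exact l1), klein_map φ.symm k1⟩,
      ⟨F.symm CfsgLib.Order168Model.V2, (hFle _).mp (by rw [F.apply_symm_apply]; exact l2), klein_map φ.symm k2⟩,
      fun e => hne (F.symm.injective (congrArg Subtype.val e)), Set.eq_univ_of_forall fun U => ?_⟩
    rcases hcases U.1 U.2.1 U.2.2 with e | e
    · exact Or.inl (Subtype.ext ((F.symm_apply_apply U.1).symm.trans (congrArg F.symm e)))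
    · exact Or.inr (Subtype.ext ((F.symm_apply_apply U.1).symm.trans (congrArg F.symm e)))
  · have key : ∀ A B : Subgroup CfsgLib.Order168Model.T, F U = A → F W = B → ∀ v ∈ A, φ g * v * (φ g)⁻¹ ∈ B := by
      intro A B hA hB v hv
      rw [← hA] at hv
      obtain ⟨u, hu, rfl⟩ := hv
      rw [← hB, ← hg]
      exact ⟨g * u * g⁻¹, ⟨u, hu, rfl⟩, by simp⟩
    rcases hcases U hUle hU with e1 | e1 <;> rcases hcases W hWle hW with e2 | e2
    · exact hUW (F.injective (e1.trans e2.symm))
    · obtain ⟨v, hv, hv'⟩ := CfsgLib.Order168Model.V_not_conj.1 (φ g)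
      exact hv' (key _ _ e1 e2 v hv)
    · obtain ⟨v, hv, hv'⟩ := CfsgLib.Order168Model.V_not_conj.2 (φ g)
      exact hv' (key _ _ e1 e2 v hv)
    · exact hUW (F.injective (e1.trans e2.symm))
  · haveI : Fact (Nat.Prime 2) := ⟨Nat.prime_two⟩
    obtain ⟨Q, hQ⟩ := (IsPGroup.of_card (p := 2) (n := 2) (by rw [hU.card_four]; norm_num) : IsPGroup 2 U).exists_le_sylow
    obtain ⟨ψ, hψ⟩ := CfsgLib.Order168Model.exists_equiv_sylow h Q
    have hle : U.map ψ.toMonoidHom ≤ CfsgLib.Order168Model.T0 := hψ ▸ Subgroup.map_mono hQ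
    obtain ⟨a⟩ := CfsgLib.Order168Model.SA_equiv
    obtain ⟨b⟩ := CfsgLib.Order168Model.SB_equiv
    let N := Subgroup.normalizer (U : Set G)
    rcases CfsgLib.Order168Model.klein_cases (klein_map ψ hU) hle with e | e
    · exact ⟨((N.equivMapOfInjective ψ.toMonoidHom ψ.injective).trans (MulEquiv.subgroupCongr (by
        rw [Subgroup.map_equiv_normalizer_eq, e, CfsgLib.Order168Model.normalizer_V1_eq]))).trans a⟩
    · exact ⟨((N.equivMapOfInjective ψ.toMonoidHom ψ.injective).trans (MulEquiv.subgroupCongr (by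
        rw [Subgroup.map_equiv_normalizer_eq, e, CfsgLib.Order168Model.normalizer_V2_eq]))).trans b⟩

end Cfsg.Agent.S1007
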