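import Cfsg.Statements.S1680
import Cfsg.Agent.Lib.CosetEnum.Suz1782.Main

set_option autoImplicit false
set_option linter.unusedSimpArgs false
open Cfsg CfsgLib.CosetEnum

namespace Cfsg.Agent.S1680

theorem sub_eq : (Subgroup.closure ({Cfsg.Spor.Suz.a, Cfsg.Spor.Suz.b, Cfsg.Spor.Suz.c, Cfsg.Spor.Suz.d, Cfsg.Spor.Suz.e, Cfsg.Spor.Suz.f} : Set (FreeGroup Cfsg.Spor.Suz.Gen))).map (PresentedGroup.mk presSuz.relSet) = Suz1782.cert.sub := by
  have hσ : ∀ i, i < 7 → presSuz.σ i = PresentedGroup.mk presSuz.relSet (FreeGroup.of (presSuz.gen i)) := fun i hi => if_pos hi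
  rw [MonoidHom.map_closure, Cert.sub]
  congr 1
  ext g
  simp only [Suz1782.cert, Suz1782.hw, List.mem_cons, List.not_mem_nil, or_false, Set.mem_ofPred_eq, exists_eq_or_imp,
    exists_eq_left, List.map_cons, List.map_nil, List.prod_cons, List.prod_nil, mul_one,
    hσ 0 (by norm_num), hσ 1 (by norm_num), hσ 2 (by norm_num), hσ 3 (by norm_num), hσ 4 (by norm_num), hσ 5 (by norm_num), hσ 6 (by norm_num)]
  simp [presSuz, Cfsg.Spor.Suz.a, Cfsg.Spor.Suz.b, Cfsg.Spor.Suz.c, Cfsg.Spor.Suz.d, Cfsg.Spor.Suz.e, Cfsg.Spor.Suz.f, Cfsg.Spor.Suz.g, pow_succ, mul_assoc, eq_comm]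

/-- In the presented sporadic Suzuki group, let H be the subgroup generated by the images of a, …, f. Then H has index 1782, H has orbits of sizes 416 and 1365 on the cosets of H other than H itself (with the index 1782 this makes the action rank 3). -/
theorem result : (((Subgroup.closure ({Cfsg.Spor.Suz.a, Cfsg.Spor.Suz.b, Cfsg.Spor.Suz.c, Cfsg.Spor.Suz.d, Cfsg.Spor.Suz.e, Cfsg.Spor.Suz.f} : Set (FreeGroup Cfsg.Spor.Suz.Gen))).map (PresentedGroup.mk (Cfsg.Spor.coxRelators Cfsg.Spor.Suz.edges ∪ {r | r ∈ Cfsg.Spor.Suz.extra})))).index = 1782 ∧ ∃ q₁ q₂ : Cfsg.Spor.Suz ⧸ (((Subgroup.closure ({Cfsg.Spor.Suz.a, Cfsg.Spor.Suz.b, Cfsg.Spor.Suz.c, Cfsg.Spor.Suz.d, Cfsg.Spor.Suz.e, Cfsg.Spor.Suz.f} : Set (FreeGroup Cfsg.Spor.Suz.Gen))).map (PresentedGroup.mk (Cfsg.Spor.coxRelators Cfsg.Spor.Suz.edges ∪ {r | r ∈ Cfsg.Spor.Suz.extra})))), (MulAction.orbit (((Subgroup.closure ({Cfsg.Spor.Suz.a,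 Cfsg.Spor.Suz.b, Cfsg.Spor.Suz.c, Cfsg.Spor.Suz.d, Cfsg.Spor.Suz.e, Cfsg.Spor.Suz.f} : Set (FreeGroup Cfsg.Spor.Suz.Gen))).map (PresentedGroup.mk (Cfsg.Spor.coxRelators Cfsg.Spor.Suz.edges ∪ {r | r ∈ Cfsg.Spor.Suz.extra})))) q₁).ncard = 416 ∧ (MulAction.orbit (((Subgroup.closure ({Cfsg.Spor.Suz.a, Cfsg.Spor.Suz.b, Cfsg.Spor.Suz.c, Cfsg.Spor.Suz.d, Cfsg.Spor.Suz.e, Cfsg.Spor.Suz.f} : Set (FreeGroup Cfsg.Spor.Suz.Gen))).map (PresentedGroup.mk (Cfsg.Spor.coxRelators Cfsg.Spor.Suz.edges ∪ {r | r ∈ Cfsg.Spor.Suz.extra})))) q₂).ncard = 1365 := by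
  have h := sub_eq
  obtain ⟨e, he⟩ := Suz1782.cert.exists_equiv Suz1782.hlt (by decide) Suz1782.hhw
  unfold CfsgLib.CosetEnum.Pres.relSet at h
  show (_ : Subgroup presSuz.Grp).index = 1782 ∧ _
  erw [h]
  refine ⟨index_eq_of_equiv e, e ⟨47, by decide⟩, e ⟨1, by decide⟩, ?_, ?_⟩
  · exact (Suz1782.cert.orbit_ncard Suz1782.hlt (by decide) Suz1782.hhw e he Suz1782.orb Suz1782.roots Suz1782.hwR
      (by decide +kernel) Suz1782.orbs (l := 2) (by decide) (by decide +kernel)).trans Suz1782.count2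
  · exact (Suz1782.cert.orbit_ncard Suz1782.hlt (by decide) Suz1782.hhw e he Suz1782.orb Suz1782.roots Suz1782.hwR
      (by decide +kernel) Suz1782.orbs (l := 1) (by decide) (by decide +kernel)).trans Suz1782.count1

end Cfsg.Agent.S1680
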