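import Cfsg.Statements.S1679
import Cfsg.Agent.S1680
import Cfsg.Agent.S1694
import Cfsg.Agent.S1059
import Cfsg.Agent.Lib.CosetEnum.G24Order
import Cfsg.Agent.Lib.CosetEnum.G24Elements

set_option autoImplicit false
open Cfsg CfsgLib.CosetEnum

namespace Cfsg.Agent.S1679

/-- The generators in Suz. -/
noncomputable def gensSuz (x : ℕ) : presSuz.Grp := presSuz.σ x

theorem gensSuz_rel : ∀ w ∈ presG24.rels, (w.map gensSuz).prod = 1 := by
  intro w hw
  have hc : (presG24.rels.all fun w => presSuz.rels.contains w) = true := by decide +kernel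
  exact presSuz.rels_one (List.contains_iff_mem.mp (List.all_eq_true.mp hc w hw))

/-- The map to Suz. -/
noncomputable def toSuz : presG24.Grp →* presSuz.Grp :=
  PresentedGroup.toGroup (f := gensSuz ∘ presG24.idx) (presG24.lift_rel (fun _ => presSuz.σ_sq _) gensSuz_rel)

theorem range_toSuz : toSuz.range = Suz1782.cert.sub := by
  rw [MonoidHom.range_eq_map, ← PresentedGroup.closure_range_of presG24.relSet, MonoidHom.map_closure, Cert.sub]
  congr 1
  ext g
  constructor
  · rintro ⟨_, ⟨i, rfl⟩, rfl⟩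
    refine ⟨[i.val], ?_, ?_⟩
    · have key : ∀ i : Fin 6, [i.val] ∈ Suz1782.hw := by decide
      exact key i
    · rw [toSuz, PresentedGroup.toGroup.of]
      simp [gensSuz]
  · rintro ⟨w, hw, rfl⟩
    obtain ⟨i, rfl⟩ : ∃ i : Fin 6, w = [i.val] := by
      have key : ∀ w ∈ Suz1782.hw, ∃ i : Fin 6, w = [i.val] := by decide
      exact key w hw
    refine ⟨PresentedGroup.of i, ⟨i, rfl⟩, ?_⟩
    rw [toSuz, PresentedGroup.toGroup.of]
    simp [gensSuz]

theorem subIso : Nonempty (presG24.Grp ≃* Suz1782.cert.sub) := by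
  have := G24Order.upper.1
  obtain ⟨hcard, -⟩ := G24Order.card_simple
  have hS : Nat.card presSuz.Grp = 448345497600 := Cfsg.Agent.S1694.result.2
  have : Finite presSuz.Grp := Nat.finite_of_card_ne_zero (by rw [hS]; decide)
  obtain ⟨e, -⟩ := Suz1782.cert.exists_equiv Suz1782.hlt (by decide) Suz1782.hhw
  have h := Suz1782.cert.sub.card_mul_index
  rw [index_eq_of_equiv e, hS] at h
  have hs : Nat.card Suz1782.cert.sub = 251596800 := by
    have hn : Suz1782.cert.T.n = 1782 := rfl
    rw [hn] at h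
    refine Nat.eq_of_mul_eq_mul_right (show 0 < 1782 by norm_num) (h.trans ?_)
    norm_num
  rw [← range_toSuz] at hs ⊢
  exact ⟨MulEquiv.ofBijective toSuz.rangeRestrict
    ((Nat.bijective_iff_surjective_and_card _).mpr ⟨toSuz.rangeRestrict_surjective, hcard.trans hs.symm⟩)⟩

theorem chevIso : Nonempty (presG24.Grp ≃* ↥(Cfsg.Lie.chevG2.group CfsgLib.G24.K)) := by
  have := G24Order.upper.1
  obtain ⟨hcard, hsimple⟩ := G24Order.card_simple
  have hinj : Function.Injective G24Elements.hom := by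
    rw [← MonoidHom.ker_eq_bot_iff]
    refine (Subgroup.Normal.eq_bot_or_eq_top inferInstance).resolve_right fun ht => G24Elements.hom_ne_one ?_
    exact (MonoidHom.mem_ker).mp (ht ▸ Subgroup.mem_top _)
  have hp : Nat.card ↥(Cfsg.Lie.chevG2.group CfsgLib.G24.K) = 251596800 := by
    rw [Cfsg.Agent.S1059.result CfsgLib.G24.K.card_eq]
    norm_num
  have : Finite ↥(Cfsg.Lie.chevG2.group CfsgLib.G24.K) := Nat.finite_of_card_ne_zero (by rw [hp]; decide)
  exact ⟨MulEquiv.ofBijective _ ((Nat.bijective_iff_injective_and_card _).mpr ⟨hinj, hcard.trans hp.symm⟩)⟩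

/-- In the presented sporadic Suzuki group (generators a, …, g), the subgroup generated by the images of a, …, f is isomorphic to the adjoint Chevalley group of type G₂ over a field with four elements. -/
theorem result : ∃ (K : Type) (_ : Field K) (_ : Fintype K), Fintype.card K = 4 ∧ Nonempty ((((Subgroup.closure ({Cfsg.Spor.Suz.a, Cfsg.Spor.Suz.b, Cfsg.Spor.Suz.c, Cfsg.Spor.Suz.d, Cfsg.Spor.Suz.e, Cfsg.Spor.Suz.f} : Set (FreeGroup Cfsg.Spor.Suz.Gen))).map (PresentedGroup.mk (Cfsg.Spor.coxRelators Cfsg.Spor.Suz.edges ∪ {r | r ∈ Cfsg.Spor.Suz.extra})))) ≃* Cfsg.Lie.chevG2.group K) := by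
  have h := Cfsg.Agent.S1680.sub_eq
  obtain ⟨e₁⟩ := subIso
  obtain ⟨e₂⟩ := chevIso
  unfold CfsgLib.CosetEnum.Pres.relSet at h
  exact ⟨CfsgLib.G24.K, inferInstance, inferInstance, CfsgLib.G24.K.card_eq,
    ⟨(MulEquiv.subgroupCongr h).trans (e₁.symm.trans e₂)⟩⟩

end Cfsg.Agent.S1679
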