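import Cfsg.Statements.S0851
import Mathlib
import Cfsg.Agent.Lib.CharTheory.FrobKernelTI
import Cfsg.Agent.Lib.CharTheory.Linear
-- import your own Cfsg.Agent.* helpers here

set_option autoImplicit false
open Cfsg

namespace Cfsg.Agent.S0851

/-- Let K be a subgroup of the finite group G that meets each conjugate by an element outside its normalizer N trivially, is properly contained in N, and contains the centralizer of each of its non-identity elements (a T.I. subgroup with Frobenius normalizer). Suppose K is abelian, let e be the index of K in N, and call an irreducible character of N relevant when it takes at some element of K a value different from its degree. Then either there is exactly one relevant character and K is an elementary abelian p-group of order e + 1 for some prime p, or there are a sign ε and an injective map f from the relevant characters to the irreducible characters of G such that inducing χ - ξ to G gives ε (f χ - f ξ) for all relevant χ and ξ. -/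
theorem result {G : Type*} [Group G] [Fintype G] (K : Subgroup G) (hTI : ∀ g : G, g ∉ Subgroup.normalizer (K : Set G) → ∀ k ∈ K, g * k * g⁻¹ ∈ K → k = 1) (hlt : K < Subgroup.normalizer (K : Set G)) (hC : ∀ k ∈ K, k ≠ 1 → Subgroup.centralizer ({k} : Set G) ≤ K) (hab : ∀ a ∈ K, ∀ b ∈ K, a * b = b * a) : (Nat.card {χ : Cfsg.IrrCharacter (Subgroup.normalizer (K : Set G)) // ∃ k : Subgroup.normalizer (K : Set G), (k : G) ∈ K ∧ (χ : ↥(Subgroup.normalizer (K : Set G)) → ℂ) k ≠ (χ : ↥(Subgroup.normalizer (K : Set G)) → ℂ) 1} = 1 ∧ ∃ p : ℕ, p.Prime ∧ Cfsg.IsElementaryAbelian p K ∧ Nat.card K = (K.subgroupOf (Subgroup.normalizer (K : Set G))).index + 1) ∨ ∃ (ε : ℂ) (f : {χ : Cfsg.IrrCharacter (Subgroup.normalizer (K : Set G)) // ∃ k : Subgroup.normalizer (K : Set G), (k : G) ∈ K ∧ (χ : ↥(Subgroup.normalizer (K : Set G)) → ℂ) k ≠ (χ : ↥(Subgroup.normalizer (K : Set G)) → ℂ) 1} → Cfsg.IrrCharacter G), (ε = 1 ∨ ε = -1) ∧ Function.Injective f ∧ ∀ χ ξ, Cfsg.indFun (Subgroup.normalizer (K :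 Set G)) ((χ.1 : ↥(Subgroup.normalizer (K : Set G)) → ℂ) - (ξ.1 : ↥(Subgroup.normalizer (K : Set G)) → ℂ)) = ε • ((f χ : G → ℂ) - (f ξ : G → ℂ)) := by
  classical
  haveI : (K.subgroupOf (Subgroup.normalizer (K : Set G))).Normal := Subgroup.normal_in_normalizer
  letI : Fintype (Subgroup.normalizer (K : Set G)) := Fintype.ofFinite (Subgroup.normalizer (K : Set G))
  letI : Fintype (K.subgroupOf (Subgroup.normalizer (K : Set G))) := Fintype.ofFinite _
  have hC' : ∀ k ∈ K.subgroupOf (Subgroup.normalizer (K : Set G)), k ≠ 1 → Subgroup.centralizer ({k} : Set (Subgroup.normalizer (K : Set G))) ≤ K.subgroupOf (Subgroup.normalizer (K : Set G)) := by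
    intro k hk hk1 g hg
    refine Subgroup.mem_subgroupOf.mpr (hC _ (Subgroup.mem_subgroupOf.mp hk) (fun e => hk1 (Subtype.ext e)) ?_)
    rw [Subgroup.mem_centralizer_singleton_iff] at hg ⊢
    exact congrArg Subtype.val hg
  have hKL : K.subgroupOf (Subgroup.normalizer (K : Set G)) < ⊤ := lt_top_iff_ne_top.mpr fun e => hlt.not_ge (Subgroup.subgroupOf_eq_top.mp e)
  have hTI' : ∀ g : G, g ∉ (Subgroup.normalizer (K : Set G)) → ∀ t ∈ (Subtype.val '' (K.subgroupOf (Subgroup.normalizer (K : Set G)) : Set (Subgroup.normalizer (K : Set G))) : Set G),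
      g * t * g⁻¹ ∈ (Subtype.val '' (K.subgroupOf (Subgroup.normalizer (K : Set G)) : Set (Subgroup.normalizer (K : Set G))) : Set G) → t = 1 := by
    rintro g hg _ ⟨t, ht, rfl⟩ ⟨s, hs, e⟩
    exact hTI g hg _ (Subgroup.mem_subgroupOf.mp ht) (e ▸ Subgroup.mem_subgroupOf.mp hs)
  set KL := K.subgroupOf (Subgroup.normalizer (K : Set G)) with hKLdef
  set X := {χ : Cfsg.IrrCharacter (Subgroup.normalizer (K : Set G)) // ∃ k : (Subgroup.normalizer (K : Set G)), (k : G) ∈ K ∧ (χ : (Subgroup.normalizer (K : Set G)) → ℂ) k ≠ (χ : (Subgroup.normalizer (K : Set G)) → ℂ) 1}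
  set n := Nat.card X with hn
  set e := KL.index with he
  have hcomm : ∀ a b : KL, a * b = b * a := fun a b => Subtype.ext (Subtype.ext
    (hab _ (Subgroup.mem_subgroupOf.mp a.2) _ (Subgroup.mem_subgroupOf.mp b.2)))
  have hXS : ∀ χ : X, (χ.1 : (Subgroup.normalizer (K : Set G)) → ℂ) ∈ CfsgLib.FrobKernelTI.S KL := fun χ => by
    obtain ⟨k, hk, hne⟩ := χ.2
    exact ⟨χ.1.2, k, Subgroup.mem_subgroupOf.mpr hk, hne⟩
  have hdeg : ∀ χ : X, (χ.1 : (Subgroup.normalizer (K : Set G)) → ℂ) 1 = e := fun χ => by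
    obtain ⟨θ, hθ, -, hχ⟩ := CfsgLib.FrobKernelTI.exists_eq_ind KL hC' hKL (hXS χ)
    rw [hχ, CfsgLib.CharTheory.indFun_apply_one, CfsgLib.CharTheory.degree_one_of_commutative hcomm hθ, mul_one]
  have hKcard : Nat.card KL = Nat.card K := Nat.card_congr (Subgroup.subgroupOfEquivOfLe Subgroup.le_normalizer).toEquiv
  letI : Fintype X := Fintype.ofFinite X
  have hcount : Nat.card K = 1 + n * e := by
    have h1 := CfsgLib.CharTheory.sum_irr_degree_sq (G := (Subgroup.normalizer (K : Set G)))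
    rw [← Finset.sum_filter_add_sum_filter_not Finset.univ
      (fun χ : Cfsg.IrrCharacter (Subgroup.normalizer (K : Set G)) => ∀ k ∈ KL, (χ : (Subgroup.normalizer (K : Set G)) → ℂ) k = (χ : (Subgroup.normalizer (K : Set G)) → ℂ) 1)] at h1
    have h2 : ∑ χ ∈ Finset.univ.filter (fun χ : Cfsg.IrrCharacter (Subgroup.normalizer (K : Set G)) => ∀ k ∈ KL, (χ : (Subgroup.normalizer (K : Set G)) → ℂ) k = (χ : (Subgroup.normalizer (K : Set G)) → ℂ) 1),
        ((χ : (Subgroup.normalizer (K : Set G)) → ℂ) 1) ^ 2 = (e : ℂ) := by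
      rw [he, ← CfsgLib.CharTheory.sum_degree_sq_kernel KL, Nat.cast_sum,
        Finset.sum_subtype (p := fun χ : Cfsg.IrrCharacter (Subgroup.normalizer (K : Set G)) => ∀ k ∈ KL, (χ : (Subgroup.normalizer (K : Set G)) → ℂ) k = (χ : (Subgroup.normalizer (K : Set G)) → ℂ) 1) _ (fun χ => by simp)]
      refine Finset.sum_congr rfl fun χ _ => ?_
      rw [(CfsgLib.CharTheory.charDegree_spec' χ.1.2).1]
      push_cast
      ring
    have h3 : ∑ χ ∈ Finset.univ.filter (fun χ : Cfsg.IrrCharacter (Subgroup.normalizer (K : Set G)) => ¬ ∀ k ∈ KL, (χ : (Subgroup.normalizer (K : Set G)) → ℂ) k = (χ : (Subgroup.normalizer (K : Set G)) → ℂ) 1),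
        ((χ : (Subgroup.normalizer (K : Set G)) → ℂ) 1) ^ 2 = (n : ℂ) * (e : ℂ) ^ 2 := by
      rw [Finset.sum_subtype (p := fun χ : Cfsg.IrrCharacter (Subgroup.normalizer (K : Set G)) => ∃ k : (Subgroup.normalizer (K : Set G)), (k : G) ∈ K ∧ (χ : (Subgroup.normalizer (K : Set G)) → ℂ) k ≠ (χ : (Subgroup.normalizer (K : Set G)) → ℂ) 1) _
        (fun χ => by simp [hKLdef, Subgroup.mem_subgroupOf])]
      rw [Finset.sum_congr rfl (g := fun _ => (e : ℂ) ^ 2) fun χ _ => by rw [hdeg χ], Finset.sum_const,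
        Finset.card_univ, nsmul_eq_mul, hn, Nat.card_eq_fintype_card]
    rw [h2, h3, ← KL.card_mul_index, hKcard] at h1
    have he0 : e ≠ 0 := Subgroup.index_ne_zero_of_finite
    have h4 : e + n * e ^ 2 = Nat.card K * e := by exact_mod_cast h1
    nlinarith [Nat.eq_of_mul_eq_mul_right (Nat.pos_of_ne_zero he0) (show (1 + n * e) * e = Nat.card K * e by rw [← h4]; ring)]
  by_cases hn1 : n = 1
  · refine Or.inl ⟨hn1, ?_⟩
    rw [hn1, one_mul] at hcount
    have he2 := CfsgLib.FrobKernelTI.one_lt_index KL hKL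
    -- one class
    have hclass : ∀ x ∈ K, x ≠ 1 → ∀ y ∈ K, y ≠ 1 → orderOf x = orderOf y := by
      intro x hx hx1 y hy hy1
      set xL : (Subgroup.normalizer (K : Set G)) := ⟨x, Subgroup.le_normalizer hx⟩
      have hxK : xL ∈ KL := Subgroup.mem_subgroupOf.mpr hx
      set Cl := Finset.univ.filter fun z : (Subgroup.normalizer (K : Set G)) => IsConj xL z
      set Ks := Finset.univ.filter fun z : (Subgroup.normalizer (K : Set G)) => z ∈ KL ∧ z ≠ 1
      have hsub : Cl ⊆ Ks := fun z hz => by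
        obtain ⟨g, rfl⟩ := isConj_iff.mp (Finset.mem_filter.mp hz).2
        refine Finset.mem_filter.mpr ⟨Finset.mem_univ _, Subgroup.Normal.conj_mem inferInstance _ hxK g, fun e1 => hx1 ?_⟩
        rw [mul_inv_eq_one, mul_eq_left] at e1
        exact congrArg Subtype.val e1
      have hKs : Ks.card + 1 = Nat.card KL := by
        rw [Nat.card_eq_fintype_card, Fintype.card_subtype, ← Finset.card_insert_of_notMem (s := Ks) (a := 1) (by simp [Ks])]
        refine congrArg Finset.card (Finset.ext fun z => ?_)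
        by_cases hz : z = 1
        · simp [hz, Ks]
        · simp [hz, Ks]
      have hcl := CfsgLib.CharTheory.card_isConj_mul_card_centralizer xL
      rw [Nat.card_eq_fintype_card (α := {z : (Subgroup.normalizer (K : Set G)) // IsConj xL z}), Fintype.card_subtype] at hcl
      have hle : Nat.card (Subgroup.centralizer ({xL} : Set (Subgroup.normalizer (K : Set G)))) ≤ Nat.card KL :=
        Nat.card_le_card_of_injective _ (Subgroup.inclusion_injective
          (hC' xL hxK (fun e1 => hx1 (congrArg Subtype.val e1))))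
      have hge : e ≤ Cl.card := by
        refine Nat.le_of_mul_le_mul_left ?_ (Nat.card_pos (α := KL))
        calc Nat.card KL * e = Nat.card (Subgroup.normalizer (K : Set G)) := KL.card_mul_index
          _ = Cl.card * _ := hcl.symm
          _ ≤ Cl.card * Nat.card KL := Nat.mul_le_mul_left _ hle
          _ = _ := mul_comm _ _
      have heq := Finset.eq_of_subset_of_card_le hsub (by omega)
      have hyCl : (⟨y, Subgroup.le_normalizer hy⟩ : (Subgroup.normalizer (K : Set G))) ∈ Cl :=
        heq ▸ Finset.mem_filter.mpr ⟨Finset.mem_univ _, Subgroup.mem_subgroupOf.mpr hy, fun e1 => hy1 (congrArg Subtype.val e1)⟩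
      obtain ⟨g, hg⟩ := isConj_iff.mp (Finset.mem_filter.mp hyCl).2
      have := congrArg Subtype.val hg
      simp only [Subgroup.coe_mul, InvMemClass.coe_inv] at this
      rw [← this, ← MulAut.conj_apply, MulEquiv.orderOf_eq]
    have hKne : K ≠ ⊥ := fun e1 => by
      rw [e1, Subgroup.card_bot] at hcount; omega
    obtain ⟨x, hx, hx1⟩ := (Subgroup.bot_or_exists_ne_one K).resolve_left hKne
    obtain ⟨q, hq, hqd⟩ := Nat.exists_prime_and_dvd (n := orderOf x) (fun e1 => hx1 (orderOf_eq_one_iff.mp e1))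
    refine ⟨q, hq, ⟨⟨⟨fun a b => Subtype.ext (hab _ a.2 _ b.2)⟩⟩, fun a ha => ?_⟩, by rw [hcount]; exact add_comm 1 e⟩
    by_cases ha1 : a = 1
    · rw [ha1, one_pow]
    have hpow : x ^ (orderOf x / q) ∈ K := K.pow_mem hx _
    have ho : orderOf (x ^ (orderOf x / q)) = q := orderOf_pow_orderOf_div (orderOf_pos x).ne' hqd
    have hne : x ^ (orderOf x / q) ≠ 1 := fun e1 => hq.ne_one (by rw [← ho, e1, orderOf_one])
    rw [← ho, ← hclass a ha ha1 _ hpow hne]
    exact pow_orderOf_eq_one a
  refine Or.inr ?_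
  rcases isEmpty_or_nonempty X with hXe | ⟨⟨χ₀⟩⟩
  · exact ⟨1, isEmptyElim, Or.inl rfl, fun a => isEmptyElim a, fun a => isEmptyElim a⟩
  set E := (Finite.equivFin X).symm
  set i₀ := E.symm χ₀
  let τ : Fin n → (G → ℂ) := fun i => Cfsg.indFun (Subgroup.normalizer (K : Set G)) ((((E i).1 : Cfsg.IrrCharacter (Subgroup.normalizer (K : Set G))) : (Subgroup.normalizer (K : Set G)) → ℂ) - (χ₀.1 : (Subgroup.normalizer (K : Set G)) → ℂ))
  have hτS : ∀ i, ∀ x : (Subgroup.normalizer (K : Set G)), (x : G) ∉ (Subtype.val '' (KL : Set (Subgroup.normalizer (K : Set G))) : Set G) →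
      (((E i).1 : (Subgroup.normalizer (K : Set G)) → ℂ) - (χ₀.1 : (Subgroup.normalizer (K : Set G)) → ℂ)) x = 0 := fun i x hx => by
    have hxK : x ∉ KL := fun h => hx ⟨x, h, rfl⟩
    simp [CfsgLib.FrobKernelTI.vanish KL hC' hKL (hXS _) hxK]
  obtain ⟨ε, hε, μ, hμirr, hμinj, hμ⟩ := CfsgLib.CharTheory.exists_coherent_family i₀ τ
    (by simp [τ, i₀, CfsgLib.CharTheory.indFun_zero])
    (fun i => CfsgLib.CharTheory.isGenChar_indFun (Subgroup.normalizer (K : Set G)) (CfsgLib.CharTheory.isGenChar_sub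
      (CfsgLib.CharTheory.isGenChar_of_char (CfsgLib.CharTheory.isCharacter_of_irr (E i).1.2))
      (CfsgLib.CharTheory.isGenChar_of_char (CfsgLib.CharTheory.isCharacter_of_irr χ₀.1.2))))
    (fun i => by simp [τ, CfsgLib.CharTheory.indFun_apply_one, hdeg])
    (fun i j hi hj => by
      show classInner (Cfsg.indFun (Subgroup.normalizer (K : Set G)) _) (Cfsg.indFun (Subgroup.normalizer (K : Set G)) _) = _
      rw [CfsgLib.CharTheory.classInner_indFun_of_TI (Subgroup.normalizer (K : Set G)) _ hTI' (CfsgLib.CharTheory.isClassFunction_sub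
        (CfsgLib.CharTheory.isClassFunction_irr (E j).1.2) (CfsgLib.CharTheory.isClassFunction_irr χ₀.1.2))
        (hτS i) (hτS j) (by simp [hdeg])]
      have hne : ∀ k, k ≠ i₀ → ((E k).1 : (Subgroup.normalizer (K : Set G)) → ℂ) ≠ (χ₀.1 : (Subgroup.normalizer (K : Set G)) → ℂ) := fun k hk e1 => hk (by
        show k = E.symm χ₀
        rw [← show E k = χ₀ from Subtype.ext (Subtype.ext e1), Equiv.symm_apply_apply])
      rw [CfsgLib.CharTheory.classInner_sub_left, CfsgLib.CharTheory.classInner_sub_right, CfsgLib.CharTheory.classInner_sub_right,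
        CfsgLib.CharTheory.classInner_irr_self χ₀.1.2, CfsgLib.CharTheory.classInner_irr_ne (E i).1.2 χ₀.1.2 (hne i hi),
        CfsgLib.CharTheory.classInner_irr_ne χ₀.1.2 (E j).1.2 (hne j hj).symm]
      by_cases hij : i = j
      · rw [if_pos hij, hij, CfsgLib.CharTheory.classInner_irr_self (E j).1.2]; norm_num
      · rw [if_neg hij, CfsgLib.CharTheory.classInner_irr_ne (E i).1.2 (E j).1.2
          (fun e1 => hij (E.injective (Subtype.ext (Subtype.ext e1))))]; norm_num)
  refine ⟨ε, fun χ => ⟨μ (E.symm χ), hμirr _⟩, hε, fun a b h => E.symm.injective (hμinj (congrArg Subtype.val h)), fun χ ξ => ?_⟩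
  have h1 := hμ (E.symm χ)
  have h2 := hμ (E.symm ξ)
  simp only [τ, Equiv.apply_symm_apply] at h1 h2
  rw [← sub_sub_sub_cancel_right (χ.1 : (Subgroup.normalizer (K : Set G)) → ℂ) (ξ.1 : (Subgroup.normalizer (K : Set G)) → ℂ) (χ₀.1 : (Subgroup.normalizer (K : Set G)) → ℂ), CfsgLib.CharTheory.indFun_sub, h1, h2,
    ← smul_sub, sub_sub_sub_cancel_right]

end Cfsg.Agent.S0851
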