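import Cfsg.Statements.S3805
import Cfsg.Agent.Lib.ThreeCC.Square
import Cfsg.Agent.Lib.ThreeCC.D3Hom

set_option autoImplicit false
open Cfsg

namespace Cfsg.Agent.S3805

open CfsgLib.ThreeCC

/-- Let G be a finite group whose Sylow 3-subgroup T is elementary abelian of order 9 and self-centralizing, with N_G(T)/T a Klein four-group, and suppose that the centralizer of every nonidentity element of T lies in N_G(T). Then T is normal in G. -/
theorem result {G : Type*} [Group G] [Finite G]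
    (T : Sylow 3 G) (hT : Cfsg.IsElementaryAbelian 3 (T : Subgroup G)) (hcard : Nat.card T = 9)
    (hC : Subgroup.centralizer ((T : Subgroup G) : Set G) = T)
    [hn : ((T : Subgroup G).subgroupOf (Subgroup.normalizer ((T : Subgroup G) : Set G))).Normal]
    (hK : IsKleinFour (↥(Subgroup.normalizer ((T : Subgroup G) : Set G)) ⧸
      (T : Subgroup G).subgroupOf (Subgroup.normalizer ((T : Subgroup G) : Set G))))
    (hloc : ∀ t ∈ (T : Subgroup G), t ≠ 1 →
      Subgroup.centralizer ({t} : Set G) ≤ Subgroup.normalizer ((T : Subgroup G) : Set G)) :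
    Subgroup.normalizer ((T : Subgroup G) : Set G) = ⊤ := by
  classical
  haveI : Fact (Nat.Prime 3) := ⟨Nat.prime_three⟩
  haveI : Fact (Nat.Prime 2) := ⟨Nat.prime_two⟩
  let d : Setting G :=
    { T := T
      ab := fun s hs t ht => congrArg Subtype.val (hT.1.is_comm.comm ⟨s, hs⟩ ⟨t, ht⟩)
      exp := fun t ht => hT.2 t ht
      self := hC.le
      cent := hloc }
  have hHcard : Nat.card (Subgroup.normalizer ((T : Subgroup G) : Set G)) = 36 := by
    have h := ((T : Subgroup G).subgroupOf (Subgroup.normalizer ((T : Subgroup G) : Set G))).card_mul_index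
    rw [Nat.card_congr (Subgroup.subgroupOfEquivOfLe Subgroup.le_normalizer).toEquiv, hcard, Subgroup.index, hK.card_four] at h
    exact h.symm
  obtain ⟨V⟩ := (inferInstance : Nonempty (Sylow 2 (Subgroup.normalizer ((T : Subgroup G) : Set G))))
  have hV4 : Nat.card V = 4 := by
    rw [Sylow.card_eq_multiplicity, hHcard, show (36 : ℕ) = 2 ^ 2 * 9 by norm_num,
      Nat.factorization_mul (by norm_num) (by norm_num), Finsupp.add_apply,
      Nat.Prime.factorization_pow (by norm_num), Nat.factorization_eq_zero_of_not_dvd (by norm_num : ¬ 2 ∣ 9)]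
    simp
  -- the two-part acts faithfully with exponent two
  have hVT : ∀ w ∈ (V : Subgroup ↥(Subgroup.normalizer ((T : Subgroup G) : Set G))), ((w : Subgroup.normalizer ((T : Subgroup G) : Set G)) : G) ∈ (T : Subgroup G) → w = 1 := by
    intro w hw hwT
    have h1 : orderOf (w : G) ∣ 9 := hcard ▸ Subgroup.orderOf_dvd_natCard _ hwT
    have h2 : orderOf (w : G) ∣ 4 := by rw [Subgroup.orderOf_coe]; exact hV4 ▸ Subgroup.orderOf_dvd_natCard _ hw
    have h3 := Nat.dvd_gcd h1 h2
    norm_num at h3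
    exact h3
  have hV2 : ∀ w ∈ (V : Subgroup ↥(Subgroup.normalizer ((T : Subgroup G) : Set G))), w * w = 1 := by
    intro w hw
    refine hVT _ (mul_mem hw hw) ?_
    have := IsKleinFour.mul_self (G := ↥(Subgroup.normalizer ((T : Subgroup G) : Set G)) ⧸
      (T : Subgroup G).subgroupOf (Subgroup.normalizer ((T : Subgroup G) : Set G))) (w : _ ⧸ _)
    rw [← QuotientGroup.mk_mul, QuotientGroup.eq_one_iff] at this
    exact this
  set Vs : Subgroup G := (V : Subgroup ↥(Subgroup.normalizer ((T : Subgroup G) : Set G))).map (Subgroup.normalizer ((T : Subgroup G) : Set G)).subtype with hVs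
  have hVsc : Nat.card Vs = 4 := by rw [hVs, Subgroup.card_map_of_injective (Subgroup.subtype_injective _), hV4]
  have hsq : ∀ w ∈ Vs, w * w = 1 := by
    rintro _ ⟨w, hw, rfl⟩
    exact congrArg Subtype.val (hV2 w hw)
  have hcommV : ∀ w ∈ Vs, ∀ x ∈ Vs, w * x = x * w := fun w hw x hx => by
    calc w * x = (w * x)⁻¹ := (inv_eq_of_mul_eq_one_right (hsq _ (mul_mem hw hx))).symm
      _ = x * w := by rw [mul_inv_rev, inv_eq_of_mul_eq_one_right (hsq x hx), inv_eq_of_mul_eq_one_right (hsq w hw)]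
  have hVN : ∀ w ∈ Vs, w ∈ Subgroup.normalizer ((T : Subgroup G) : Set G) := by
    rintro _ ⟨w, -, rfl⟩
    exact w.2
  have hVT' : ∀ w ∈ Vs, w ∈ (T : Subgroup G) → w = 1 := by
    rintro _ ⟨w, hw, rfl⟩ h
    rw [hVT w hw h]; rfl
  have hfaith : ∀ w ∈ Vs, (∀ t ∈ (T : Subgroup G), w * t * w⁻¹ = t) → w = 1 := fun w hw h =>
    hVT' w hw (hC.le (Subgroup.mem_centralizer_iff.mpr fun t ht => (mul_inv_eq_iff_eq_mul.mp (h t ht)).symm))
  have hconjT : ∀ w ∈ Vs, ∀ t ∈ (T : Subgroup G), w * t * w⁻¹ ∈ (T : Subgroup G) := fun w hw t ht =>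
    (Subgroup.mem_normalizer_iff.mp (hVN w hw) t).mp ht
  have hinvol : ∀ w ∈ Vs, ∀ t : G, w * (w * t * w⁻¹) * w⁻¹ = t := fun w hw t => by
    have hi : w⁻¹ = w := inv_eq_of_mul_eq_one_right (hsq w hw)
    rw [hi, show w * (w * t * w) * w = (w * w) * t * (w * w) by group, hsq w hw, one_mul, mul_one]
  -- without fixed points an involution inverts
  have hinvert : ∀ w ∈ Vs, (∀ t ∈ (T : Subgroup G), w * t * w⁻¹ = t → t = 1) →
      ∀ t ∈ (T : Subgroup G), w * t * w⁻¹ = t⁻¹ := fun w hw h t ht => by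
    refine eq_inv_of_mul_eq_one_left (h _ (mul_mem (hconjT w hw t ht) ht) ?_)
    rw [show w * (w * t * w⁻¹ * t) * w⁻¹ = w * (w * t * w⁻¹) * w⁻¹ * (w * t * w⁻¹) by group, hinvol w hw]
    exact d.ab t ht _ (hconjT w hw t ht)
  have huniq : ∀ w ∈ Vs, ∀ x ∈ Vs, (∀ t ∈ (T : Subgroup G), w * t * w⁻¹ = t⁻¹) →
      (∀ t ∈ (T : Subgroup G), x * t * x⁻¹ = t⁻¹) → w = x := fun w hw x hx h h' => by
    have e : w * x⁻¹ = 1 := by
      refine hfaith _ (mul_mem hw (inv_mem hx)) fun t ht => ?_
      have hx' : x⁻¹ * t * x = t⁻¹ := by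
        have := h' t ht
        rwa [inv_eq_of_mul_eq_one_right (hsq x hx)] at this ⊢
      rw [show w * x⁻¹ * t * (w * x⁻¹)⁻¹ = w * (x⁻¹ * t * x) * w⁻¹ by group, hx', h _ (inv_mem ht), inv_inv]
    exact mul_inv_eq_one.mp e
  obtain ⟨a, ha, ha1, v, hv, hav, hv1⟩ : ∃ a ∈ Vs, a ≠ 1 ∧ ∃ v ∈ (T : Subgroup G), a * v * a⁻¹ = v ∧ v ≠ 1 := by
    by_contra hno
    push Not at hno
    obtain ⟨w, hw, hw1⟩ : ∃ w ∈ Vs, w ≠ 1 := by
      by_contra h
      push Not at h
      rw [(Subgroup.eq_bot_iff_forall Vs).mpr h, Subgroup.card_bot] at hVsc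
      norm_num at hVsc
    have hall : ∀ x ∈ Vs, x = 1 ∨ x = w := fun x hx => by
      by_contra h
      push Not at h
      exact h.2 (huniq x hx w hw (hinvert x hx (hno x hx h.1)) (hinvert w hw (hno w hw hw1)))
    let f : Vs → Fin 2 := fun x => if (x : G) = 1 then 0 else 1
    have hf : Function.Injective f := fun x y h => by
      apply Subtype.ext
      rcases hall x x.2 with hx | hx <;> rcases hall y y.2 with hy | hy <;>
        simp only [f, hx, hy, hw1, if_true, if_false] at h ⊢ <;> exact absurd h (by decide)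
    have := Nat.card_le_card_of_injective f hf
    rw [hVsc, Nat.card_fin] at this
    omega
  obtain ⟨b, hb, hb1, hba, u, hu, hbu, hu1⟩ : ∃ b ∈ Vs, b ≠ 1 ∧ b ≠ a ∧
      ∃ u ∈ (T : Subgroup G), b * u * b⁻¹ = u ∧ u ≠ 1 := by
    by_contra hno
    push Not at hno
    obtain ⟨w, hw, hw1, hwa⟩ : ∃ w ∈ Vs, w ≠ 1 ∧ w ≠ a := by
      by_contra h
      push Not at h
      let f : Vs → Fin 2 := fun x => if (x : G) = 1 then 0 else 1
      have hf : Function.Injective f := fun x y e => by
        apply Subtype.ext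
        by_cases hx : (x : G) = 1 <;> by_cases hy : (y : G) = 1
        · rw [hx, hy]
        · simp only [f, hx, hy, if_true, if_false] at e; exact absurd e (by decide)
        · simp only [f, hx, hy, if_true, if_false] at e; exact absurd e (by decide)
        · rw [h x x.2 hx, h y y.2 hy]
      have := Nat.card_le_card_of_injective f hf
      rw [hVsc, Nat.card_fin] at this
      omega
    have hwa1 : w * a ≠ 1 := fun e => hwa (by
      rw [eq_inv_of_mul_eq_one_left e, inv_eq_of_mul_eq_one_right (hsq a ha)])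
    have hwaa : w * a ≠ a := fun e => hw1 (mul_eq_right.mp e)
    have h := huniq w hw (w * a) (mul_mem hw ha) (hinvert w hw (hno w hw hw1 hwa))
      (hinvert _ (mul_mem hw ha) (hno _ (mul_mem hw ha) hwa1 hwaa))
    exact ha1 (mul_eq_left.mp h.symm)
  have hv3 : v ^ 3 = 1 := d.exp v hv
  have hu3 : u ^ 3 = 1 := d.exp u hu
  -- the fixed subgroup of a is generated by v
  have hfixa : ∀ t ∈ (T : Subgroup G), a * t * a⁻¹ = t → t ∈ Subgroup.zpowers v := fun t ht hat => by
    by_contra hnot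
    let F : Subgroup G := (T : Subgroup G) ⊓ Subgroup.centralizer {a}
    have hF : ∀ y ∈ (T : Subgroup G), a * y * a⁻¹ = y → y ∈ F := fun y hy hay =>
      ⟨hy, Subgroup.mem_centralizer_singleton_iff.mpr (mul_inv_eq_iff_eq_mul.mp hay).symm⟩
    have hFT : F = (T : Subgroup G) := by
      refine Subgroup.eq_of_le_of_card_ge inf_le_left ?_
      have hd : Nat.card F ∣ 3 ^ 2 := by norm_num; exact hcard ▸ Subgroup.card_dvd_of_le inf_le_left
      obtain ⟨k, hk, hkc⟩ := (Nat.dvd_prime_pow Nat.prime_three).mp hd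
      have hlt : Nat.card (Subgroup.zpowers v) < Nat.card F :=
        lt_of_le_of_ne (Nat.le_of_dvd Nat.card_pos (Subgroup.card_dvd_of_le (Subgroup.zpowers_le.mpr (hF v hv hav))))
          fun e => hnot (by rw [Subgroup.eq_of_le_of_card_ge (Subgroup.zpowers_le.mpr (hF v hv hav)) e.ge]; exact hF t ht hat)
      rw [Nat.card_zpowers, orderOf_eq_prime hv3 hv1, hkc] at hlt
      rw [hcard, hkc]
      interval_cases k <;> first | omega | norm_num at hlt ⊢
    exact ha1 (hfaith a ha fun y hy => mul_inv_eq_iff_eq_mul.mpr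
      (Subgroup.mem_centralizer_singleton_iff.mp (hFT ▸ hy : y ∈ F).2).symm)
  have hsame : ∀ y : G, y ∈ Subgroup.zpowers v → b * v * b⁻¹ = v → b * y * b⁻¹ = y := fun y hy h => by
    obtain ⟨k, rfl⟩ := Subgroup.mem_zpowers_iff.mp hy
    rw [← conj_zpow, h]
  have hcases : ∀ y ∈ Subgroup.zpowers v, y = 1 ∨ y = v ∨ y = v⁻¹ := fun y hy => by
    obtain ⟨k, rfl⟩ := Subgroup.mem_zpowers_iff.mp hy
    have h3 : v ^ (3 : ℤ) = 1 := by rw [show (3 : ℤ) = ((3 : ℕ) : ℤ) from rfl, zpow_natCast, hv3]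
    have hk : k % 3 = 0 ∨ k % 3 = 1 ∨ k % 3 = 2 := by omega
    rw [← Int.mul_ediv_add_emod k 3, zpow_add, zpow_mul, h3, one_zpow, one_mul]
    rcases hk with e | e | e <;> rw [e]
    · exact Or.inl (zpow_zero v)
    · exact Or.inr (Or.inl (zpow_one v))
    · refine Or.inr (Or.inr ?_)
      rw [show (2 : ℤ) = 3 - 1 by norm_num, zpow_sub, h3, one_mul, zpow_one]
  have hbv : b * v * b⁻¹ = v⁻¹ := by
    have hfix : a * (b * v * b⁻¹) * a⁻¹ = b * v * b⁻¹ := by
      rw [show a * (b * v * b⁻¹) * a⁻¹ = (a * b) * v * (a * b)⁻¹ by group, hcommV a ha b hb,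
        show b * a * v * (b * a)⁻¹ = b * (a * v * a⁻¹) * b⁻¹ by group, hav]
    rcases hcases _ (hfixa _ (hconjT b hb v hv) hfix) with h | h | h
    · exact absurd (conj_eq_one_iff.mp h) hv1
    · exfalso
      -- a and b fix v; an element inverted by a is then fixed by b or by ab
      obtain ⟨i, hi, hai, hi1⟩ : ∃ i ∈ (T : Subgroup G), a * i * a⁻¹ = i⁻¹ ∧ i ≠ 1 := by
        by_contra hno
        push Not at hno
        refine ha1 (hfaith a ha fun t ht => ?_)
        have hz := hno (t⁻¹ * (a * t * a⁻¹)) (mul_mem (inv_mem ht) (hconjT a ha t ht)) (by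
          rw [show a * (t⁻¹ * (a * t * a⁻¹)) * a⁻¹ = (a * t * a⁻¹)⁻¹ * (a * (a * t * a⁻¹) * a⁻¹) by group,
            hinvol a ha]
          group)
        exact (inv_mul_eq_one.mp hz).symm
      have hv2 : v * v ≠ 1 := fun e => hv1 (by rw [pow_succ, pow_two, e, one_mul] at hv3; exact hv3)
      have hgen : ∀ t ∈ (T : Subgroup G), t ∈ Subgroup.zpowers v ⊔ Subgroup.zpowers i := by
        have hle : Subgroup.zpowers v ⊔ Subgroup.zpowers i ≤ (T : Subgroup G) :=
          sup_le (Subgroup.zpowers_le.mpr hv) (Subgroup.zpowers_le.mpr hi)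
        have hinot : i ∉ Subgroup.zpowers v := fun hiv => by
          have := hcases i hiv
          rcases this with e | e | e
          · exact hi1 e
          · rw [e, hav] at hai; exact hv2 (by nth_rewrite 1 [hai]; rw [inv_mul_cancel])
          · rw [e, ← conj_inv, hav, inv_inv] at hai; exact hv2 (by nth_rewrite 1 [← hai]; rw [inv_mul_cancel])
        intro t ht
        rw [Subgroup.eq_of_le_of_card_ge hle ?_]
        · exact ht
        · have hd : Nat.card (Subgroup.zpowers v ⊔ Subgroup.zpowers i : Subgroup G) ∣ 3 ^ 2 := by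
            norm_num; exact hcard ▸ Subgroup.card_dvd_of_le hle
          obtain ⟨k, hk, hkc⟩ := (Nat.dvd_prime_pow Nat.prime_three).mp hd
          have hlt : Nat.card (Subgroup.zpowers v) < Nat.card (Subgroup.zpowers v ⊔ Subgroup.zpowers i : Subgroup G) :=
            lt_of_le_of_ne (Nat.le_of_dvd Nat.card_pos (Subgroup.card_dvd_of_le le_sup_left)) fun e => hinot (by
              rw [Subgroup.eq_of_le_of_card_ge le_sup_left e.ge]; exact Subgroup.mem_sup_right (Subgroup.mem_zpowers i))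
          rw [Nat.card_zpowers, orderOf_eq_prime hv3 hv1, hkc] at hlt
          rw [hcard, hkc]
          interval_cases k <;> first | omega | norm_num at hlt ⊢
      have hfixgen : ∀ w ∈ Vs, w * v * w⁻¹ = v → w * i * w⁻¹ = i → w = 1 := fun w hw h1 h2 =>
        hfaith w hw fun t ht => by
          have hle : Subgroup.zpowers v ⊔ Subgroup.zpowers i ≤ Subgroup.centralizer {w} := sup_le
            (Subgroup.zpowers_le.mpr (Subgroup.mem_centralizer_singleton_iff.mpr (mul_inv_eq_iff_eq_mul.mp h1).symm))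
            (Subgroup.zpowers_le.mpr (Subgroup.mem_centralizer_singleton_iff.mpr (mul_inv_eq_iff_eq_mul.mp h2).symm))
          exact mul_inv_eq_iff_eq_mul.mpr (Subgroup.mem_centralizer_singleton_iff.mp (hle (hgen t ht))).symm
      -- b leaves the line of i invariant
      have hbi : a * (b * i * b⁻¹) * a⁻¹ = (b * i * b⁻¹)⁻¹ := by
        rw [show a * (b * i * b⁻¹) * a⁻¹ = (a * b) * i * (a * b)⁻¹ by group, hcommV a ha b hb,
          show b * a * i * (b * a)⁻¹ = b * (a * i * a⁻¹) * b⁻¹ by group, hai]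
        group
      obtain ⟨y, hy, z, hz, hyz⟩ : ∃ y ∈ Subgroup.zpowers v, ∃ z ∈ Subgroup.zpowers i, b * i * b⁻¹ = y * z := by
        have hmem := hgen _ (hconjT b hb i hi)
        rw [← SetLike.mem_coe, Subgroup.coe_mul_of_left_le_normalizer_right _ _ (fun x hx => by
          rw [Subgroup.mem_normalizer_iff]
          intro q
          have hc : ∀ q ∈ Subgroup.zpowers i, x * q * x⁻¹ = q := fun q hq =>
            mul_inv_eq_iff_eq_mul.mpr (d.ab x (Subgroup.zpowers_le.mpr hv hx) q (Subgroup.zpowers_le.mpr hi hq))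
          exact ⟨fun hq => (hc q hq).symm ▸ hq, fun hq => by
            have := hc _ hq
            rw [mul_left_inj, mul_right_inj] at this
            rwa [this] at hq⟩)] at hmem
        obtain ⟨y, hy, z, hz, e⟩ := hmem
        exact ⟨y, hy, z, hz, e.symm⟩
      have haz : a * z * a⁻¹ = z⁻¹ := by
        obtain ⟨k, rfl⟩ := Subgroup.mem_zpowers_iff.mp hz
        rw [← conj_zpow, hai, inv_zpow]
      have hay : a * y * a⁻¹ = y := by
        obtain ⟨k, rfl⟩ := Subgroup.mem_zpowers_iff.mp hy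
        rw [← conj_zpow, hav]
      have hy2 : y * y = 1 := by
        rw [hyz, show a * (y * z) * a⁻¹ = (a * y * a⁻¹) * (a * z * a⁻¹) by group, hay, haz, mul_inv_rev,
          d.ab y (Subgroup.zpowers_le.mpr hv hy) z⁻¹ (inv_mem (Subgroup.zpowers_le.mpr hi hz))] at hbi
        exact mul_eq_one_iff_eq_inv.mpr (mul_left_cancel hbi)
      have hy1 : y = 1 := by
        have := d.exp y (Subgroup.zpowers_le.mpr hv hy)
        rwa [pow_succ, pow_two, hy2, one_mul] at this
      rw [hy1, one_mul] at hyz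
      obtain ⟨k, rfl⟩ := Subgroup.mem_zpowers_iff.mp hz
      have h3 : i ^ (3 : ℤ) = 1 := by rw [show (3 : ℤ) = ((3 : ℕ) : ℤ) from rfl, zpow_natCast]; exact d.exp i hi
      rw [← Int.mul_ediv_add_emod k 3, zpow_add, zpow_mul, h3, one_zpow, one_mul] at hyz
      rcases (show k % 3 = 0 ∨ k % 3 = 1 ∨ k % 3 = 2 by omega) with e | e | e <;> rw [e] at hyz
      · rw [zpow_zero] at hyz; exact hi1 (conj_eq_one_iff.mp hyz)
      · rw [zpow_one] at hyz; exact hb1 (hfixgen b hb h hyz)
      · rw [show (2 : ℤ) = 3 - 1 by norm_num, zpow_sub, h3, one_mul, zpow_one] at hyz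
        refine hba ?_
        have := hfixgen (b * a) (mul_mem hb ha)
          (by rw [show b * a * v * (b * a)⁻¹ = b * (a * v * a⁻¹) * b⁻¹ by group, hav, h])
          (by rw [show b * a * i * (b * a)⁻¹ = b * (a * i * a⁻¹) * b⁻¹ by group, hai, ← conj_inv, hyz, inv_inv])
        rw [eq_inv_of_mul_eq_one_left this, inv_eq_of_mul_eq_one_right (hsq a ha)]
    · exact h
  have hau : a * u * a⁻¹ = u⁻¹ := by
    refine eq_inv_of_mul_eq_one_left ?_
    -- the product is fixed by both involutions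
    set y := a * u * a⁻¹ * u with hy
    have hyT : y ∈ (T : Subgroup G) := mul_mem (hconjT a ha u hu) hu
    have h1 : a * y * a⁻¹ = y := by
      rw [hy, show a * (a * u * a⁻¹ * u) * a⁻¹ = a * (a * u * a⁻¹) * a⁻¹ * (a * u * a⁻¹) by group, hinvol a ha]
      exact d.ab u hu _ (hconjT a ha u hu)
    have h2 : b * y * b⁻¹ = y := by
      rw [hy, show b * (a * u * a⁻¹ * u) * b⁻¹ = (b * a) * u * (b * a)⁻¹ * (b * u * b⁻¹) by group, hbu,
        hcommV b hb a ha, show a * b * u * (a * b)⁻¹ = a * (b * u * b⁻¹) * a⁻¹ by group, hbu]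
    obtain ⟨k, hk⟩ := Subgroup.mem_zpowers_iff.mp (hfixa y hyT h1)
    rw [← hk, ← conj_zpow, hbv, inv_zpow] at h2
    rw [← hk]
    have e2 : v ^ k * v ^ k = 1 := by nth_rewrite 1 [← h2]; rw [inv_mul_cancel]
    have e3 := d.exp (v ^ k) (Subgroup.zpow_mem _ hv k)
    rwa [pow_succ, pow_two, e2, one_mul] at e3
  let f₁ : D3 →* G := d3Hom u a hu3 (hsq a ha) hau
  let f₂ : D3 →* G := d3Hom v b hv3 (hsq b hb) hbv
  have c1 : Commute a v := mul_inv_eq_iff_eq_mul.mp hav
  have c2 : Commute b u := mul_inv_eq_iff_eq_mul.mp hbu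
  have c3 : Commute u v := d.ab u hu v hv
  have c4 : Commute a b := hcommV a ha b hb
  have hcomm : ∀ x y : D3, Commute (f₁ x) (f₂ y) := by
    rintro (i | i) (j | j)
    · exact (c3.pow_left _).pow_right _
    · exact ((c2.symm.pow_left _).mul_right ((c3.pow_left _).pow_right _))
    · exact (c1.pow_right _).mul_left ((c3.pow_left _).pow_right _)
    · exact ((c4.mul_right (c1.pow_right _)).mul_left ((c2.symm.pow_left _).mul_right ((c3.pow_left _).pow_right _)))
  let ι : K9 →* G := f₁.noncommCoprod f₂ hcomm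
  have hab1 : a * b ≠ 1 := fun e => hba (by
    rw [eq_inv_of_mul_eq_one_right e, inv_eq_of_mul_eq_one_right (hsq a ha)])
  have huv : ∀ i j : ZMod 3, u ^ i.val * v ^ j.val = 1 → i = 0 ∧ j = 0 := fun i j h => by
    have hi : i = 0 := by
      by_contra hi
      have e := congrArg (fun q => b * q * b⁻¹) h
      simp only [mul_one, mul_inv_cancel] at e
      rw [show b * (u ^ i.val * v ^ j.val) * b⁻¹ = (b * u ^ i.val * b⁻¹) * (b * v ^ j.val * b⁻¹) by group,
        ← conj_pow, ← conj_pow, hbu, hbv, eq_inv_of_mul_eq_one_left h, inv_pow] at e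
      have e2 : v ^ j.val * v ^ j.val = 1 := by
        have := inv_eq_one.mpr e
        simpa [mul_inv_rev] using this
      have e3 := d.exp (v ^ j.val) (pow_mem hv _)
      rw [pow_succ, pow_two, e2, one_mul] at e3
      rw [e3, mul_one] at h
      have := orderOf_dvd_of_pow_eq_one h
      rw [orderOf_eq_prime hu3 hu1] at this
      exact hi ((ZMod.val_eq_zero i).mp (Nat.eq_zero_of_dvd_of_lt this (ZMod.val_lt i)))
    refine ⟨hi, ?_⟩
    rw [hi, ZMod.val_zero, pow_zero, one_mul] at h
    have := orderOf_dvd_of_pow_eq_one h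
    rw [orderOf_eq_prime hv3 hv1] at this
    exact (ZMod.val_eq_zero j).mp (Nat.eq_zero_of_dvd_of_lt this (ZMod.val_lt j))
  have hinj : Function.Injective ι := by
    rw [injective_iff_map_eq_one]
    rintro ⟨(i | i), (j | j)⟩ h
    · obtain ⟨rfl, rfl⟩ := huv i j h
      rfl
    · refine absurd (hVT' b hb ?_) hb1
      have h' : u ^ i.val * (b * v ^ j.val) = 1 := h
      rw [show b = (u ^ i.val)⁻¹ * (u ^ i.val * (b * v ^ j.val)) * (v ^ j.val)⁻¹ by group, h', mul_one]
      exact mul_mem (inv_mem (pow_mem hu _)) (inv_mem (pow_mem hv _))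
    · refine absurd (hVT' a ha ?_) ha1
      have h' : a * u ^ i.val * v ^ j.val = 1 := h
      rw [show a = (a * u ^ i.val * v ^ j.val) * (v ^ j.val)⁻¹ * (u ^ i.val)⁻¹ by group, h', one_mul]
      exact mul_mem (inv_mem (pow_mem hv _)) (inv_mem (pow_mem hu _))
    · refine absurd (hVT' (a * b) (mul_mem ha hb) ?_) hab1
      have h' : a * u ^ i.val * (b * v ^ j.val) = 1 := h
      have e : a * b * (u ^ i.val * v ^ j.val) = 1 := by
        rw [mul_assoc a b, ← mul_assoc b, (c2.pow_right i.val).eq, mul_assoc (u ^ i.val), ← mul_assoc a]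
        exact h'
      rw [eq_inv_of_mul_eq_one_left e]
      exact inv_mem (mul_mem (pow_mem hu _) (pow_mem hv _))
  have hrange : ι.range = Subgroup.normalizer ((T : Subgroup G) : Set G) := by
    refine Subgroup.eq_of_le_of_card_ge ?_ ?_
    · rintro _ ⟨⟨x, y⟩, rfl⟩
      refine mul_mem ?_ ?_
      · rcases x with i | i
        · exact Subgroup.le_normalizer (pow_mem hu _)
        · exact mul_mem (hVN a ha) (Subgroup.le_normalizer (pow_mem hu _))
      · rcases y with i | i
        · exact Subgroup.le_normalizer (pow_mem hv _)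
        · exact mul_mem (hVN b hb) (Subgroup.le_normalizer (pow_mem hv _))
    · rw [hHcard, ← Nat.card_congr (MonoidHom.ofInjective hinj).toEquiv, Nat.card_eq_fintype_card, k9_misc.2.2.2.2.2.2.2]
  exact SquareModel.top (d := d) ⟨ι, hinj, hrange⟩

end Cfsg.Agent.S3805
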