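import Cfsg.Statements.S3633
import Mathlib
import Cfsg.Agent.Lib.HallPi
import Cfsg.Agent.Lib.HallSolvable
import Cfsg.Agent.Lib.Elementary
import Cfsg.Agent.Lib.Frobenius.Splitting

set_option autoImplicit false
open Cfsg

namespace Cfsg.Agent.S3633

open CfsgLib CfsgLib.Frob in
/-- Elements of prime orders `q`, `r` generating a group acting without fixed points on an abelian
`p`-group lead to a contradiction. -/
theorem no_fpf {X : Type*} [Group X] [Finite X] {p q r : ℕ} (hp : p.Prime) (hq : q.Prime)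
    (hr : r.Prime) (hpq : p ≠ q) (hpr : p ≠ r) (hnpq : ∀ x : X, orderOf x ≠ p * q)
    (hnpr : ∀ x : X, orderOf x ≠ p * r) {M : Subgroup X} [M.Normal] [IsMulCommutative M]
    (hM0 : M ≠ ⊥) (hMp : ∀ x ∈ M, x ^ p = 1) {L : Subgroup X} (hL : Nat.card L = q) {y : X}
    (hy : orderOf y = r) (hyL : y ∈ Subgroup.normalizer (L : Set X)) (hyn : y ∉ L)
    (hpow : ∀ k ∈ L, (k * y) ^ r = 1) : False := by
  haveI := Fact.mk hp
  haveI := Fact.mk hq
  haveI := Fact.mk hr
  have hnorm : ∀ g : X, g ∈ Subgroup.normalizer (M : Set X) := fun g => by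
    rw [Subgroup.normalizer_eq_top]; trivial
  have hfix : ∀ (x v : X) (s : ℕ), s.Prime → p ≠ s → (∀ u : X, orderOf u ≠ p * s) →
      orderOf x = s → v ∈ M → Commute x v → v = 1 := by
    intro x v s hs hps hn hx hv hc
    by_contra hv1
    have hvo : orderOf v = p := orderOf_eq_prime (hMp v hv) hv1
    refine hn (x * v) ?_
    rw [hc.orderOf_mul_eq_mul_orderOf_of_coprime (by rw [hx, hvo]; exact (Nat.coprime_primes hs hp).mpr (Ne.symm hps)),
      hx, hvo, mul_comm]
  refine hM0 (eq_one_of_norm hr (S := L) (fun g _ => hnorm g) (hnorm y) hyL ?_ ?_ ?_)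
  · intro k hk z hz
    have hky : k * y ≠ 1 := fun h => hyn (by
      rw [← inv_eq_of_mul_eq_one_right h]; exact L.inv_mem hk)
    have ho : orderOf (k * y) = r := orderOf_eq_prime (hpow k hk) hky
    have hkn : k * y ∈ Subgroup.normalizer (M : Set X) := hnorm _
    have h1 := mul_pow_eq_prod M hkn ⟨z, hz⟩ r
    rw [hpow k hk, mul_one] at h1
    have hw : (z * (k * y)) ^ r ∈ M := by rw [h1]; exact SetLike.coe_mem _
    refine hfix (k * y) _ r hr hpr hnpr ho hw ?_
    have h2 : Commute z ((z * (k * y)) ^ r) :=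
      congrArg Subtype.val (mul_comm' (⟨z, hz⟩ : M) ⟨_, hw⟩)
    have h3 : Commute (z * (k * y)) ((z * (k * y)) ^ r) := Commute.self_pow _ _
    have h4 := Commute.mul_left h2.inv_left h3
    rwa [inv_mul_cancel_left] at h4
  · rw [hL]
    refine Nat.coprime_of_dvd fun s hs hd hd' => ?_
    have hsq : s = q := (Nat.prime_dvd_prime_iff_eq hs hq).mp hd
    subst hsq
    obtain ⟨v, hv⟩ := exists_prime_orderOf_dvd_card' s hd'
    have h5 : v ^ p = 1 := Subtype.ext (by rw [SubgroupClass.coe_pow]; exact hMp _ v.2)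
    have := orderOf_dvd_of_pow_eq_one h5
    rw [hv] at this
    exact hpq ((Nat.prime_dvd_prime_iff_eq hs hp).mp this).symm
  · rw [Subgroup.eq_bot_iff_forall]
    rintro v ⟨hv, hvc⟩
    obtain ⟨l, hl⟩ := exists_prime_orderOf_dvd_card' (G := L) q (by rw [hL])
    exact hfix l v q hq hpq hnpq (by rw [Subgroup.orderOf_coe, hl]) hv (hvc l l.2)
where
  mul_comm' {M : Subgroup X} [IsMulCommutative M] (a b : M) : a * b = b * a :=
    (inferInstance : IsMulCommutative M).is_comm.comm a b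

/-- `M` is a normal `p`-subgroup and `L1` a normal `q`-subgroup of a `{q,r}`-subgroup. -/
theorem no_fpf' {X : Type*} [Group X] [Finite X] {p q r : ℕ} (hp : p.Prime) (hq : q.Prime)
    (hr : r.Prime) (hpq : p ≠ q) (hpr : p ≠ r) (hqr : q ≠ r) (hnpq : ∀ x : X, orderOf x ≠ p * q)
    (hnpr : ∀ x : X, orderOf x ≠ p * r) (hnqr : ∀ x : X, orderOf x ≠ q * r)
    {M : Subgroup X} [M.Normal] [IsMulCommutative M] (hM0 : M ≠ ⊥) (hMp : ∀ x ∈ M, x ^ p = 1)
    {H : Subgroup X} (L1 : Subgroup H) [L1.Normal] [IsMulCommutative L1] (hL0 : L1 ≠ ⊥)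
    (hLq : ∀ x ∈ L1, x ^ q = 1) (hdr : r ∣ Nat.card H) : False := by
  haveI := Fact.mk hq
  haveI := Fact.mk hr
  obtain ⟨l, hlL, hl1⟩ : ∃ l ∈ L1, l ≠ 1 := by
    by_contra h
    exact hL0 ((Subgroup.eq_bot_iff_forall _).mpr fun x hx => by
      by_contra hx1; exact h ⟨x, hx, hx1⟩)
  have hlo : orderOf (l : X) = q := by
    rw [Subgroup.orderOf_coe]; exact orderOf_eq_prime (hLq l hlL) hl1
  by_cases hz : ∃ l' ∈ L1, l' ∉ Subgroup.zpowers l
  · obtain ⟨l', hl'L, hl'n⟩ := hz
    have hl'1 : l' ≠ 1 := fun h => hl'n (h ▸ Subgroup.one_mem _)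
    have hcomm : ∀ a ∈ L1, ∀ b ∈ L1, Commute a b := fun a ha b hb =>
      congrArg Subtype.val ((inferInstance : IsMulCommutative L1).is_comm.comm ⟨a, ha⟩ ⟨b, hb⟩)
    refine no_fpf hp hq hq hpq hpq hnpq hnpq hM0 hMp (L := Subgroup.zpowers (l : X))
      (by rw [Nat.card_zpowers, hlo]) (y := (l' : X))
      (by rw [Subgroup.orderOf_coe]; exact orderOf_eq_prime (hLq l' hl'L) hl'1) ?_ ?_ ?_
    · refine Subgroup.centralizer_le_normalizer (s := (Subgroup.zpowers (l : X) : Set X)) ?_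
      intro x hx
      obtain ⟨n, rfl⟩ := Subgroup.mem_zpowers_iff.mp hx
      exact (congrArg Subtype.val (hcomm _ (L1.zpow_mem hlL n) _ hl'L).eq : _)
    · intro h
      obtain ⟨n, hn⟩ := Subgroup.mem_zpowers_iff.mp h
      exact hl'n ⟨n, Subtype.ext (by rw [SubgroupClass.coe_zpow]; exact hn)⟩
    · intro k hk
      obtain ⟨n, rfl⟩ := Subgroup.mem_zpowers_iff.mp hk
      have := hLq _ (L1.mul_mem (L1.zpow_mem hlL n) hl'L)
      exact_mod_cast congrArg Subtype.val this
  · push Not at hz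
    obtain ⟨y, hy⟩ := exists_prime_orderOf_dvd_card' r hdr
    have hyn : y ∉ L1 := fun h => hqr (by
      have h' := orderOf_dvd_of_pow_eq_one (hLq y h)
      rw [hy] at h'
      exact ((Nat.prime_dvd_prime_iff_eq hr hq).mp h').symm)
    have hLz : L1 = Subgroup.zpowers l :=
      le_antisymm hz (Subgroup.zpowers_le.mpr hlL)
    refine no_fpf hp hq hr hpq hpr hnpq hnpr hM0 hMp (L := L1.map H.subtype)
      (by rw [Subgroup.card_subtype, hLz, Nat.card_zpowers, ← Subgroup.orderOf_coe, hlo]) (y := (y : X))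
      (by rw [Subgroup.orderOf_coe, hy]) ?_ ?_ ?_
    · have h : H ≤ Subgroup.normalizer ((L1.map H.subtype : Subgroup X) : Set X) := by
        intro g hg
        rw [Subgroup.mem_normalizer_iff]
        intro h
        constructor
        · rintro ⟨a, ha, rfl⟩
          exact ⟨⟨g, hg⟩ * a * ⟨g, hg⟩⁻¹, ‹L1.Normal›.conj_mem a ha _, rfl⟩
        · rintro ⟨a, ha, e⟩
          refine ⟨⟨g, hg⟩⁻¹ * a * ⟨g, hg⟩, by simpa using ‹L1.Normal›.conj_mem a ha (⟨g, hg⟩⁻¹), ?_⟩
          simp only [map_mul, map_inv, Subgroup.coe_subtype]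
          rw [show (a : X) = g * h * g⁻¹ from e]
          group
      exact h y.2
    · rintro ⟨a, ha, e⟩
      exact hyn ((Subtype.ext e : a = y) ▸ ha)
    · rintro _ ⟨k, hk, rfl⟩
      have hmem : (k * y) ^ r ∈ L1 := by
        have e : ((k * y : H) : H ⧸ L1) ^ r = 1 := by
          rw [QuotientGroup.mk_mul, (QuotientGroup.eq_one_iff k).mpr hk, one_mul, ← QuotientGroup.mk_pow,
            ← hy, pow_orderOf_eq_one]
          rfl
        rwa [← QuotientGroup.mk_pow, QuotientGroup.eq_one_iff] at e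
      suffices (k * y) ^ r = 1 by
        rw [Subgroup.coe_subtype]; exact_mod_cast congrArg Subtype.val this
      by_contra hne
      -- then `k * y` would centralize `L1`
      have h1 : Commute (k * y) ((k * y) ^ r) := Commute.self_pow _ _
      have h2 : L1 ≤ Subgroup.zpowers ((k * y) ^ r) := by
        intro x hx
        have hlo' : orderOf l = q := by rw [← Subgroup.orderOf_coe, hlo]
        haveI : Fact (Nat.card L1).Prime := ⟨by rw [hLz, Nat.card_zpowers, hlo']; exact hq⟩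
        have h3 := zpowers_eq_top_of_prime_card (G := L1) (rfl) (g := ⟨_, hmem⟩)
          (fun h => hne (congrArg Subtype.val h))
        obtain ⟨n, hn⟩ := Subgroup.mem_zpowers_iff.mp (show (⟨x, hx⟩ : L1) ∈ Subgroup.zpowers ⟨_, hmem⟩ by rw [h3]; trivial)
        exact Subgroup.mem_zpowers_iff.mpr ⟨n, congrArg Subtype.val hn⟩
      have h4 : ∀ x ∈ L1, Commute (k * y) x := fun x hx => by
        obtain ⟨n, rfl⟩ := Subgroup.mem_zpowers_iff.mp (h2 hx)
        exact h1.zpow_right n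
      have h5 : Commute y l := by
        have hk' : Commute k⁻¹ l :=
          (congrArg Subtype.val ((inferInstance : IsMulCommutative L1).is_comm.comm
            ⟨k⁻¹, L1.inv_mem hk⟩ ⟨l, hlL⟩) : _)
        have := hk'.mul_left (h4 l hlL)
        rwa [inv_mul_cancel_left] at this
      refine hnqr ((l : X) * (y : X)) ?_
      have h6 : Commute (l : X) (y : X) := h5.symm.map H.subtype
      rw [h6.orderOf_mul_eq_mul_orderOf_of_coprime (by
        rw [hlo, Subgroup.orderOf_coe, hy]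
        exact (Nat.coprime_primes hq hr).mpr hqr), hlo, Subgroup.orderOf_coe, hy]

/-- With `M` a minimal normal `p`-subgroup. -/
theorem no_coclique_aux {X : Type*} [Group X] [Finite X] [Group.IsSolvable X] {p q r : ℕ}
    (hp : p.Prime) (hq : q.Prime) (hr : r.Prime) (hpq : p ≠ q) (hpr : p ≠ r) (hqr : q ≠ r)
    (hdq : q ∣ Nat.card X) (hdr : r ∣ Nat.card X)
    (hnpq : ∀ x : X, orderOf x ≠ p * q) (hnpr : ∀ x : X, orderOf x ≠ p * r)
    (hnqr : ∀ x : X, orderOf x ≠ q * r) {M : Subgroup X} [M.Normal] [IsMulCommutative M]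
    (hM0 : M ≠ ⊥) (hMp : ∀ x ∈ M, x ^ p = 1) : False := by
  haveI := Fact.mk hq
  obtain ⟨a, b, hab, hcop, ha, hb⟩ := CfsgLib.exists_pi_split {q, r} (Nat.card X) Nat.card_pos.ne'
  obtain ⟨⟨H, hH⟩, -⟩ := CfsgLib.hall_main hab hcop
  have hdiv : ∀ s, s.Prime → (s = q ∨ s = r) → s ∣ Nat.card X → s ∣ Nat.card H := fun s hs hor hd => by
    rw [hH]
    rcases hs.dvd_mul.mp (hab ▸ hd) with h | h
    · exact h
    · exact absurd (by simpa using hor) (hb s hs h)
  have hqH := hdiv q hq (Or.inl rfl) hdq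
  haveI : Nontrivial H := Finite.one_lt_card_iff_nontrivial.mp
    (hq.one_lt.trans_le (Nat.le_of_dvd Nat.card_pos hqH))
  obtain ⟨L1, hL1n, -, hL10, hL1min⟩ := CfsgLib.exists_minimal_normal (G := H) (N := ⊤) top_ne_bot
  haveI := hL1n
  obtain ⟨hc, s, hs, hsexp⟩ := CfsgLib.minimal_normal_elementary hL10 inferInstance hL1min
  haveI := hc
  have hsdvd : s ∣ Nat.card H := by
    obtain ⟨l, hl, hl1⟩ : ∃ l ∈ L1, l ≠ 1 := by
      by_contra h
      exact hL10 ((Subgroup.eq_bot_iff_forall _).mpr fun x hx => by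
        by_contra hx1; exact h ⟨x, hx, hx1⟩)
    haveI := Fact.mk hs
    rw [← orderOf_eq_prime (hsexp l hl) hl1]; exact orderOf_dvd_natCard l
  have hsπ : s = q ∨ s = r := by simpa using ha s hs (hH ▸ hsdvd)
  rcases hsπ with rfl | rfl
  · exact no_fpf' hp hs hr hpq hpr hqr hnpq hnpr hnqr hM0 hMp L1 hL10 hsexp (hdiv r hr (Or.inr rfl) hdr)
  · exact no_fpf' hp hs hq hpr hpq (Ne.symm hqr) hnpr hnpq (fun x => mul_comm s q ▸ hnqr x) hM0 hMp L1 hL10
      hsexp hqH

/-- The prime graph of a finite solvable group has no coclique of three primes. -/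
theorem no_coclique {X : Type*} [Group X] [Finite X] [Group.IsSolvable X] {p q r : ℕ}
    (hp : p.Prime) (hq : q.Prime) (hr : r.Prime) (hpq : p ≠ q) (hpr : p ≠ r) (hqr : q ≠ r)
    (hdp : p ∣ Nat.card X) (hdq : q ∣ Nat.card X) (hdr : r ∣ Nat.card X)
    (hnpq : ∀ x : X, orderOf x ≠ p * q) (hnpr : ∀ x : X, orderOf x ≠ p * r)
    (hnqr : ∀ x : X, orderOf x ≠ q * r) : False := by
  haveI := Fact.mk hp
  obtain ⟨a, b, hab, hcop, ha, hb⟩ := CfsgLib.exists_pi_split {p, q, r} (Nat.card X) Nat.card_pos.ne'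
  obtain ⟨⟨Y, hY⟩, -⟩ := CfsgLib.hall_main hab hcop
  have hdiv : ∀ s, s.Prime → (s = p ∨ s = q ∨ s = r) → s ∣ Nat.card X → s ∣ Nat.card Y := fun s hs hor hd => by
    rw [hY]
    rcases hs.dvd_mul.mp (hab ▸ hd) with h | h
    · exact h
    · exact absurd (by simpa using hor) (hb s hs h)
  have hpY := hdiv p hp (Or.inl rfl) hdp
  have hqY := hdiv q hq (Or.inr (Or.inl rfl)) hdq
  have hrY := hdiv r hr (Or.inr (Or.inr rfl)) hdr
  haveI : Nontrivial Y := Finite.one_lt_card_iff_nontrivial.mp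
    (hp.one_lt.trans_le (Nat.le_of_dvd Nat.card_pos hpY))
  obtain ⟨M, hMn, -, hM0, hMmin⟩ := CfsgLib.exists_minimal_normal (G := Y) (N := ⊤) top_ne_bot
  haveI := hMn
  obtain ⟨hc, s, hs, hsexp⟩ := CfsgLib.minimal_normal_elementary hM0 inferInstance hMmin
  haveI := hc
  have hsdvd : s ∣ Nat.card Y := by
    obtain ⟨l, hl, hl1⟩ : ∃ l ∈ M, l ≠ 1 := by
      by_contra h
      exact hM0 ((Subgroup.eq_bot_iff_forall _).mpr fun x hx => by
        by_contra hx1; exact h ⟨x, hx, hx1⟩)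
    haveI := Fact.mk hs
    rw [← orderOf_eq_prime (hsexp l hl) hl1]; exact orderOf_dvd_natCard l
  have n1 : ∀ x : Y, orderOf x ≠ p * q := fun x => by rw [← Subgroup.orderOf_coe]; exact hnpq x
  have n2 : ∀ x : Y, orderOf x ≠ p * r := fun x => by rw [← Subgroup.orderOf_coe]; exact hnpr x
  have n3 : ∀ x : Y, orderOf x ≠ q * r := fun x => by rw [← Subgroup.orderOf_coe]; exact hnqr x
  have hsπ : s = p ∨ s = q ∨ s = r := by simpa using ha s hs (hY ▸ hsdvd)
  rcases hsπ with rfl | rfl | rfl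
  · exact no_coclique_aux hs hq hr hpq hpr hqr hqY hrY n1 n2 n3 hM0 hsexp
  · exact no_coclique_aux hs hp hr (Ne.symm hpq) hqr hpr hpY hrY (fun x => mul_comm p s ▸ n1 x) n3 n2 hM0 hsexp
  · exact no_coclique_aux hs hp hq (Ne.symm hpr) (Ne.symm hqr) hpq hpY hqY (fun x => mul_comm p s ▸ n2 x)
      (fun x => mul_comm q s ▸ n3 x) n1 hM0 hsexp

/-- Let G be a finite group and ρ a set of at least three prime divisors of the order of G that are pairwise non-adjacent in the prime graph (no element of order rs for distinct r, s ∈ ρ). Then at most one prime of ρ divides the order of any given solvable normal subgroup of G; in particular G is not solvable. -/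
theorem result {G : Type*} [Group G] [Finite G] (ρ : Finset ℕ) (hρ : 3 ≤ ρ.card) (hc : ((∀ r ∈ ρ, r.Prime ∧ r ∣ Nat.card G) ∧ (∀ r ∈ ρ, ∀ s ∈ ρ, r ≠ s → ¬ ∃ x : G, orderOf x = r * s)))
    (K : Subgroup G) [K.Normal] (hK : Group.IsSolvable ↥K) :
    (∀ r ∈ ρ, ∀ s ∈ ρ, r ∣ Nat.card ↥K → s ∣ Nat.card ↥K → r = s) ∧ ¬ Group.IsSolvable G := by
  classical
  obtain ⟨hpr, hco⟩ := hc
  have hno : ∀ r ∈ ρ, ∀ s ∈ ρ, r ≠ s → ∀ (Y : Subgroup G) (x : Y), orderOf x ≠ r * s :=
    fun r hr s hs hne Y x h => hco r hr s hs hne ⟨x, by rw [Subgroup.orderOf_coe, h]⟩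
  haveI := hK
  refine ⟨fun r hr s hs hrK hsK => ?_, fun hG => ?_⟩
  · by_contra hne
    obtain ⟨t, htρ, ht⟩ := Finset.exists_mem_notMem_of_card_lt_card (s := {r, s}) (t := ρ)
      (by rw [Finset.card_pair hne]; omega)
    rw [Finset.mem_insert, Finset.mem_singleton] at ht
    push Not at ht
    haveI := Fact.mk (hpr t htρ).1
    obtain ⟨x, hx⟩ := exists_prime_orderOf_dvd_card' t (hpr t htρ).2
    set Z := K ⊔ Subgroup.zpowers x with hZ
    haveI : Group.IsSolvable Z := by
      haveI h0 : (K.subgroupOf Z).Normal := inferInstance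
      haveI : Group.IsSolvable (K.subgroupOf Z) := Group.isSolvable_of_surjective
        (f := (Subgroup.subgroupOfEquivOfLe (le_sup_left : K ≤ Z)).symm.toMonoidHom)
        (MulEquiv.surjective _)
      refine Group.isSolvable_of_ker_le_range (K.subgroupOf Z).subtype
        (((QuotientGroup.mk' K).comp Z.subtype).codRestrict
          (Subgroup.zpowers (QuotientGroup.mk' K x)) fun z => ?_) ?_
      · have hle : Z ≤ (Subgroup.zpowers (QuotientGroup.mk' K x)).comap (QuotientGroup.mk' K) := by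
          refine sup_le (fun k hk => ?_) (Subgroup.zpowers_le.mpr (Subgroup.mem_zpowers _))
          rw [Subgroup.mem_comap, show QuotientGroup.mk' K k = 1 from (QuotientGroup.eq_one_iff k).mpr hk]
          exact Subgroup.one_mem _
        exact hle z.2
      · intro z hz
        rw [Subgroup.range_subtype]
        have : QuotientGroup.mk' K (z : G) = 1 := congrArg Subtype.val (MonoidHom.mem_ker.mp hz)
        exact (QuotientGroup.eq_one_iff (N := K) (z : G)).mp this
    have hd : ∀ u, u ∣ Nat.card K → u ∣ Nat.card Z := fun u hu =>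
      hu.trans (Subgroup.card_dvd_of_le le_sup_left)
    have hdt : t ∣ Nat.card Z := by
      rw [← hx, ← Nat.card_zpowers]; exact Subgroup.card_dvd_of_le le_sup_right
    exact no_coclique (hpr r hr).1 (hpr s hs).1 (hpr t htρ).1 hne (Ne.symm ht.1) (Ne.symm ht.2)
      (hd r hrK) (hd s hsK) hdt (hno r hr s hs hne Z) (hno r hr t htρ (Ne.symm ht.1) Z)
      (hno s hs t htρ (Ne.symm ht.2) Z)
  · obtain ⟨r, hr, s, hs, t, ht, h1, h2, h3⟩ := Finset.two_lt_card.mp hρ
    haveI := hG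
    exact no_coclique (hpr r hr).1 (hpr s hs).1 (hpr t ht).1 h1 h2 h3
      (hpr r hr).2 (hpr s hs).2 (hpr t ht).2 (fun x h => hco r hr s hs h1 ⟨x, h⟩)
      (fun x h => hco r hr t ht h2 ⟨x, h⟩) (fun x h => hco s hs t ht h3 ⟨x, h⟩)

end Cfsg.Agent.S3633
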