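import Cfsg.Statements.S1226
-- import your own Cfsg.Agent.* helpers here

set_option autoImplicit false
open Cfsg

namespace Cfsg.Agent.S1226

/-- Let G be a finite group with a Sylow 2-subgroup T that is neither cyclic nor normal, such that the centralizer of every involution is an elementary abelian 2-group. Then N_G(T) is a strongly embedded subgroup of G. -/
theorem result {G : Type*} [Group G] [Finite G] (T : Sylow 2 G) (hnc : ¬ IsCyclic (T : Subgroup G)) (hnn : ¬ (T : Subgroup G).Normal) (hC : ∀ t : G, orderOf t = 2 → IsMulCommutative (Subgroup.centralizer ({t} : Set G)) ∧ ∀ c ∈ Subgroup.centralizer ({t} : Set G), c ^ 2 = 1) : Cfsg.IsStronglyEmbedded (Subgroup.normalizer ((T : Subgroup G) : Set G)) := by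
  haveI : Fact (Nat.Prime 2) := ⟨Nat.prime_two⟩
  have hT1 : (T : Subgroup G) ≠ ⊥ := fun e => hnn (by rw [e]; exact inferInstance)
  have hTeq : ∀ (P : Sylow 2 G) (t : G), t ∈ P → orderOf t = 2 →
      (P : Subgroup G) = Subgroup.centralizer ({t} : Set G) := by
    intro P t ht ho
    haveI : Nontrivial ↥(P : Subgroup G) := (Subgroup.nontrivial_iff_ne_bot _).mpr (fun e => by
      have hm : t ∈ (P : Subgroup G) := ht
      rw [e, Subgroup.mem_bot] at hm
      rw [hm, orderOf_one] at ho
      exact absurd ho (by norm_num))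
    haveI : Nontrivial ↥(Subgroup.center ↥(P : Subgroup G)) := P.2.center_nontrivial
    obtain ⟨w, hw⟩ := exists_prime_orderOf_dvd_card' (G := ↥(Subgroup.center ↥(P : Subgroup G))) 2 (by
      obtain ⟨n, hn⟩ := IsPGroup.iff_card.mp (P.2.to_subgroup (Subgroup.center ↥(P : Subgroup G)))
      rw [hn]
      refine dvd_pow_self 2 fun h0 => ?_
      rw [h0, pow_zero] at hn
      exact absurd hn Finite.one_lt_card.ne')
    set z : G := ((w : ↥(P : Subgroup G)) : G) with hz
    have hzo : orderOf z = 2 := by rw [hz, Subgroup.orderOf_coe, Subgroup.orderOf_coe, hw]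
    obtain ⟨hcm, hce⟩ := hC z hzo
    have hle : (P : Subgroup G) ≤ Subgroup.centralizer ({z} : Set G) := fun u hu =>
      Subgroup.mem_centralizer_singleton_iff.mpr (congrArg Subtype.val (Subgroup.mem_center_iff.mp w.2 ⟨u, hu⟩))
    have hPz : Subgroup.centralizer ({z} : Set G) = (P : Subgroup G) :=
      P.3 (fun u => ⟨1, Subtype.ext (by push_cast; exact hce u u.2)⟩) hle
    obtain ⟨-, hce'⟩ := hC t ho
    refine (P.3 (fun u => ⟨1, Subtype.ext (by push_cast; exact hce' u u.2)⟩) fun u hu => ?_).symm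
    refine Subgroup.mem_centralizer_singleton_iff.mpr ?_
    haveI := hcm
    exact congrArg Subtype.val (IsMulCommutative.is_comm.comm (⟨u, hle hu⟩ : Subgroup.centralizer ({z} : Set G)) ⟨t, hle ht⟩)
  refine ⟨fun e => hnn (Subgroup.normalizer_eq_top_iff.mp e), even_iff_two_dvd.mpr ?_, fun g hg => ?_⟩
  · obtain ⟨n, hn⟩ := IsPGroup.iff_card.mp T.2
    refine dvd_trans ?_ (Subgroup.card_dvd_of_le Subgroup.le_normalizer)
    rw [hn]
    exact dvd_pow_self 2 fun h0 => hT1 (Subgroup.eq_bot_of_card_eq _ (by rw [hn, h0, pow_zero]))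
  rw [← Nat.not_even_iff_odd]
  intro heven
  obtain ⟨⟨t, ht⟩, hto⟩ := exists_prime_orderOf_dvd_card'
    (G := ↥(Subgroup.normalizer ((T : Subgroup G) : Set G) ⊓
      (Subgroup.normalizer ((T : Subgroup G) : Set G)).map (MulAut.conj g).toMonoidHom)) 2 heven.two_dvd
  rw [Subgroup.orderOf_mk] at hto
  obtain ⟨ht1, s, hs, est⟩ := ht
  have est' : g * s * g⁻¹ = t := est
  have inT : ∀ u ∈ Subgroup.normalizer ((T : Subgroup G) : Set G), orderOf u = 2 → u ∈ (T : Subgroup G) := by
    intro u hu huo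
    set N := Subgroup.normalizer ((T : Subgroup G) : Set G) with hN
    haveI : (((T.subtype Subgroup.le_normalizer : Sylow 2 N)) : Subgroup N).Normal :=
      Subgroup.normal_in_normalizer
    haveI := Sylow.unique_of_normal (T.subtype Subgroup.le_normalizer : Sylow 2 N) inferInstance
    obtain ⟨R, hR⟩ := (IsPGroup.of_card (G := Subgroup.zpowers (⟨u, hu⟩ : N)) (n := 1)
      (by rw [Nat.card_zpowers, Subgroup.orderOf_mk, huo, pow_one]) : IsPGroup 2 ↥(Subgroup.zpowers (⟨u, hu⟩ : N))).exists_le_sylow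
    rw [Subsingleton.elim R (T.subtype Subgroup.le_normalizer)] at hR
    exact Subgroup.mem_subgroupOf.mp (hR (Subgroup.mem_zpowers _))
  have hso : orderOf s = 2 := by rw [← hto, ← est']; exact (MulEquiv.orderOf_eq (MulAut.conj g) s).symm
  have h1 := hTeq T t (inT t ht1 hto) hto
  have h2 := hTeq (g • T) t (by
    show t ∈ ((g • T : Sylow 2 G) : Subgroup G)
    rw [Sylow.coe_subgroup_smul]
    exact ⟨s, inT s hs hso, est⟩) hto
  have h3 : (T : Subgroup G).map (MulAut.conj g).toMonoidHom = (T : Subgroup G) := by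
    conv_rhs => rw [h1, ← h2, Sylow.coe_subgroup_smul]
    rfl
  refine hg (Subgroup.mem_normalizer_iff.mpr fun u => ⟨fun hu => h3 ▸ ⟨u, hu, rfl⟩, fun hu => ?_⟩)
  rw [← h3] at hu
  obtain ⟨v, hv, ev⟩ := hu
  exact (MulAut.conj g).injective ev ▸ hv

end Cfsg.Agent.S1226
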