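import Cfsg.Statements.S0899
import Cfsg.Agent.Lib.LinearGroups.SmallDegreeClosed
-- import your own Cfsg.Agent.* helpers here

set_option autoImplicit false
open Cfsg

namespace Cfsg.Agent.S0899

/-- Let G be a finite group with a faithful complex representation of degree n (on Fin n → ℂ) and p a prime. Suppose either that (n + 1) ^ 2 ≤ p, or that n + 1 < p and every subgroup of G whose order is not divisible by p ^ 2 has a normal Sylow p-subgroup. Then every Sylow p-subgroup of G is normal. -/
theorem result {G : Type*} [Group G] [Finite G] (n : ℕ) (ρ : Representation ℂ G (Fin n → ℂ)) (hρ : Function.Injective ρ) (p : ℕ) [Fact p.Prime] (h : (n + 1) ^ 2 ≤ p ∨ (n + 1 < p ∧ ∀ K : Subgroup G, ¬ p ^ 2 ∣ Nat.card K → ∀ Q : Sylow p K, (Q : Subgroup K).Normal)) (P : Sylow p G) : (P : Subgroup G).Normal := by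
  have hp : p.Prime := Fact.out
  have hfaith : CfsgLib.LinearGroups.Faith n G :=
    ⟨ρ.character, CfsgLib.CharTheory.isCharacter_character ρ, fun g hg => hρ (by
      rw [CfsgLib.CharTheory.rep_apply_eq_one_of_char_eq ρ hg, map_one]),
      n, by rw [ρ.char_one, Module.finrank_fintype_fun_eq_card, Fintype.card_fin], le_rfl⟩
  have hnp : n + 1 < p := by
    rcases h with h1 | h1
    · rcases Nat.eq_zero_or_pos n with h0 | h0
      · subst h0; exact hp.one_lt
      · nlinarith
    · exact h1.1
  have hH : CfsgLib.LinearGroups.SmallClosed.Hyp n p G :=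
    h.imp_right fun h1 K hK => by
      obtain ⟨Q⟩ := (inferInstance : Nonempty (Sylow p K))
      exact CfsgLib.LinearGroups.SmallClosed.pcl_of_normal Q (h1.2 K hK Q)
  have hcl := CfsgLib.LinearGroups.SmallClosed.pcl_of_small (p := p) (n := n) _ G rfl hfaith hnp hH
  exact ⟨fun x hx g => CfsgLib.LinearGroups.SmallClosed.mem_sylow_of_pcl hcl P
    (CfsgLib.LinearGroups.SmallClosed.conj_pow_one
      (CfsgLib.LinearGroups.SmallClosed.pow_eq_one_of_mem P.2 hx) g)⟩

end Cfsg.Agent.S0899
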