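import Cfsg.Agent.Lib.Blocks.ThreePrimes
import Cfsg.Agent.Lib.Blocks.BrauerFeit
import Cfsg.Agent.Lib.CharTheory.Linear
import Cfsg.Agent.Lib.Blocks.Principal
import Cfsg.Agent.S0144
import Cfsg.Agent.Lib.Blocks.DefectZeroProducts
import Cfsg.Statements.S4500

set_option autoImplicit false
open Cfsg

namespace Cfsg.Agent.S4500

open CfsgLib.CharTheory CfsgLib.Blocks

universe u

theorem key {G : Type u} [Group G] [Fintype G] [Nontrivial G] (p q r a b c : ℕ) (hp : p.Prime)
    (hq : q.Prime) (hr : r.Prime) (hpq : p ≠ q) (hpr : p ≠ r) (hqr : q ≠ r) (ha : a ≤ 2)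
    (hG : Nat.card G = p ^ a * q ^ b * r ^ c) :
    ∃ χ : IrrCharacter G, (χ : G → ℂ) ≠ (fun _ => 1) ∧ ∃ k : ℕ, charDegree (χ : G → ℂ) = q ^ k := by
  classical
  haveI : Fact p.Prime := ⟨hp⟩
  rcases Nat.eq_zero_or_pos a with rfl | ha0
  · -- two primes: a linear character
    haveI hsol : Group.IsSolvable G := by
      refine Cfsg.Agent.S0144.result q r b c hq hr ?_
      rw [hG, pow_zero, one_mul]
    have hlt : commutator G ≠ ⊤ := (Group.IsSolvable.commutator_lt_top_of_nontrivial G).ne
    have hcard : 1 < Nat.card {χ : IrrCharacter G // (χ : G → ℂ) 1 = 1} := by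
      rw [card_linear]
      have h0 : (commutator G).index ≠ 0 := Subgroup.index_ne_zero_of_finite
      have h1 : (commutator G).index ≠ 1 := fun h => hlt (Subgroup.index_eq_one.1 h)
      omega
    haveI := Finite.one_lt_card_iff_nontrivial.1 hcard
    obtain ⟨χ, hχ⟩ := exists_ne (⟨oneIrr G, rfl⟩ : {χ : IrrCharacter G // (χ : G → ℂ) 1 = 1})
    refine ⟨χ.1, fun h => hχ (Subtype.ext (Subtype.ext h)), 0, ?_⟩
    have h1 := irr_charDegree_cast χ.1
    rw [χ.2] at h1
    rw [pow_zero]
    exact_mod_cast h1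
  · have hdp : p ∣ Nat.card G := by
      rw [hG]
      exact ((dvd_pow_self p ha0.ne').mul_right _).mul_right _
    obtain ⟨y, hy⟩ := exists_prime_orderOf_dvd_card' p hdp
    obtain ⟨M, hM⟩ := exists_pModular hp
    obtain ⟨R, hR⟩ := exists_pModular hr
    have hval : (Nat.card G).factorization p = a := by
      rw [hG, Nat.factorization_mul (mul_ne_zero (pow_ne_zero _ hp.ne_zero) (pow_ne_zero _ hq.ne_zero))
        (pow_ne_zero _ hr.ne_zero), Nat.factorization_mul (pow_ne_zero _ hp.ne_zero)
        (pow_ne_zero _ hq.ne_zero)]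
      simp [hp.factorization_pow, hq.factorization_pow, hr.factorization_pow, hpq, hpr]
    have hd1 : charDegree ((oneIrr G : IrrCharacter G) : G → ℂ) = 1 := by
      have := irr_charDegree_cast (oneIrr G)
      rw [show ((oneIrr G : IrrCharacter G) : G → ℂ) 1 = 1 from rfl] at this
      exact_mod_cast this
    have hmin : minDv p (principalBlock M G) = 0 := by
      have h := minDv_le (p := p) (oneIrr_mem (G := G) hM)
      have h0 : dv p ((oneIrr G : IrrCharacter G) : G → ℂ) = 0 := by simp [dv, hd1]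
      omega
    have hd2 : blockDefect p (principalBlock M G) ≤ 2 := by
      rw [blockDefect_eq, hval]; omega
    have hnp : ∀ χ ∈ principalBlock M G, ¬ p ∣ charDegree (χ : G → ℂ) := fun χ hχ hd => by
      have h := height_zero_of_defect_le_two hM principalBlock_isPBlock hd2 χ hχ
      rw [hmin] at h
      have h1 : 1 ≤ dv p (χ : G → ℂ) :=
        (hp.dvd_iff_one_le_factorization (irr_charDegree_pos χ).ne').1 hd
      omega
    by_contra hno
    push Not at hno
    have hr_dvd : ∀ χ ∈ (bset (principalBlock M G)).erase (oneIrr G),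
        r ∣ charDegree (χ : G → ℂ) := by
      intro χ hχ
      obtain ⟨hne, hχB⟩ := Finset.mem_erase.1 hχ
      by_contra hrd
      have hd : charDegree (χ : G → ℂ) ∣ p ^ a * q ^ b * r ^ c := hG ▸ charDegree_dvd_card χ
      have hd2' := ((hr.coprime_iff_not_dvd.2 hrd).symm.pow_right c).dvd_of_dvd_mul_right hd
      have hd3 := ((hp.coprime_iff_not_dvd.2 (hnp χ (mem_bset.1 hχB))).symm.pow_right a).dvd_of_dvd_mul_left hd2'
      obtain ⟨k, -, hk⟩ := (Nat.dvd_prime_pow hq).1 hd3
      exact hno χ (fun h => hne (Subtype.ext h)) k hk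
    have h1 := weak_orth hM (principalBlock_isPBlock (M := M) (G := G)) (x := (1 : G))
      (by rw [orderOf_one]; exact hp.not_dvd_one) (hy.symm.dvd : p ∣ orderOf y)
    have hmem : ∀ χ ∈ (bset (principalBlock M G)).erase (oneIrr G),
        MemLocalIdeal R ((χ : G → ℂ) 1 * (χ : G → ℂ) y) := by
      intro χ hχ
      obtain ⟨m, hm⟩ := hr_dvd χ hχ
      rw [← irr_charDegree_cast χ, hm, Nat.cast_mul, mul_assoc, mul_comm]
      refine memIdeal_mul_left hR ((loc hR).mul_mem (memRing_natCast hR m) (memRing_irr hR χ y)) ?_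
      rw [← res_eq_zero_iff hR (memRing_natCast hR r)]
      exact natCast_p_mem hR
    rw [← Finset.add_sum_erase _ _ (mem_bset.2 (oneIrr_mem (G := G) hM))] at h1
    refine not_memIdeal_one hR ?_
    have h2 : (1 : ℂ) = -∑ χ ∈ (bset (principalBlock M G)).erase (oneIrr G),
        (χ : G → ℂ) 1 * (χ : G → ℂ) y := by
      rw [← add_eq_zero_iff_eq_neg]
      refine Eq.trans ?_ h1
      congr 1
      show (1 : ℂ) = 1 * 1
      rw [one_mul]
    rw [h2]
    exact memIdeal_neg hR (memIdeal_sum hR hmem)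


/-- Let G be a non-trivial finite group of order p^a · q^b · r^c with p, q, r distinct primes and a ≤ 2. Then G has a non-principal irreducible character whose degree is a power of q, and a non-principal irreducible character whose degree is a power of r; the power may be the zeroth, so a non-principal linear character serves for both. -/
theorem result {G : Type*} [Group G] [Finite G] [Nontrivial G] (p q r a b c : ℕ) (hp : p.Prime) (hq : q.Prime) (hr : r.Prime) (hpq : p ≠ q) (hpr : p ≠ r) (hqr : q ≠ r) (ha : a ≤ 2) (hG : Nat.card G = p ^ a * q ^ b * r ^ c) : (∃ χ : Cfsg.IrrCharacter G, (χ : G → ℂ) ≠ (fun _ => 1) ∧ ∃ k : ℕ, Cfsg.charDegree (χ : G → ℂ) = q ^ k) ∧ ∃ χ : Cfsg.IrrCharacter G, (χ : G → ℂ) ≠ (fun _ => 1) ∧ ∃ k : ℕ, Cfsg.charDegree (χ : G → ℂ) = r ^ k := by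
  classical
  letI : Fintype G := Fintype.ofFinite G
  refine ⟨key p q r a b c hp hq hr hpq hpr hqr ha hG, ?_⟩
  refine key p r q a c b hp hr hq hpr hpq (Ne.symm hqr) ha ?_
  rw [hG]; ring

end Cfsg.Agent.S4500
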