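import Cfsg.Statements.S0224
import Cfsg.Agent.Lib.Involutions
import Mathlib.GroupTheory.Perm.Cycle.Type
-- import your own Cfsg.Agent.* helpers here

set_option autoImplicit false
open Cfsg

namespace Cfsg.Agent.S0224

/-- Let H be a proper subgroup of even order of the finite group G. Then H is strongly embedded if and only if each involution of H fixes exactly one point (namely the coset H) in the action of G on the cosets of H. -/
theorem result {G : Type*} [Group G] [Finite G] (H : Subgroup G) (hH : H ≠ ⊤) (heven : Even (Nat.card H)) : Cfsg.IsStronglyEmbedded H ↔ ∀ t ∈ H, orderOf t = 2 → Nat.card {c : G ⧸ H // t • c = c} = 1 := by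
  constructor
  · rintro ⟨-, -, hodd⟩ t ht ho
    rw [Nat.card_eq_one_iff_exists]
    refine ⟨⟨(1 : G), ?_⟩, ?_⟩
    · show ((t * 1 : G) : G ⧸ H) = _
      rw [mul_one, QuotientGroup.eq, mul_one]
      exact inv_mem ht
    · rintro ⟨c, hc⟩
      apply Subtype.ext
      obtain ⟨g, rfl⟩ := QuotientGroup.mk_surjective c
      replace hc : ((t * g : G) : G ⧸ H) = (g : G ⧸ H) := hc
      rw [QuotientGroup.eq] at hc
      show (g : G ⧸ H) = ((1 : G) : G ⧸ H)
      rw [QuotientGroup.eq, mul_one]
      apply inv_mem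
      by_contra hgH
      have hmem : t ∈ H ⊓ H.map (MulAut.conj g).toMonoidHom := by
        refine ⟨ht, g⁻¹ * t * g, ?_, by simp [mul_assoc]⟩
        have := inv_mem hc
        simpa [mul_assoc] using this
      have h2 := Subgroup.orderOf_dvd_natCard _ hmem
      rw [ho] at h2
      exact Nat.not_even_iff_odd.mpr (hodd g hgH) (even_iff_two_dvd.mpr h2)
  · intro h
    refine ⟨hH, heven, fun g hg => ?_⟩
    by_contra hne
    haveI : Fact (Nat.Prime 2) := ⟨Nat.prime_two⟩
    obtain ⟨s, hs⟩ := exists_prime_orderOf_dvd_card' (G := ↥(H ⊓ H.map (MulAut.conj g).toMonoidHom)) 2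
      (Nat.not_odd_iff_even.mp hne).two_dvd
    obtain ⟨hsH, a, ha, has⟩ := s.2
    replace has : g * a * g⁻¹ = (s : G) := has
    have hso : orderOf (s : G) = 2 := by rw [Subgroup.orderOf_coe, hs]
    obtain ⟨hsub, -⟩ := Nat.card_eq_one_iff_unique.mp (h s hsH hso)
    have e1 : ((s : G) • ((1 : G) : G ⧸ H)) = ((1 : G) : G ⧸ H) := by
      show (((s : G) * 1 : G) : G ⧸ H) = _
      rw [mul_one, QuotientGroup.eq, mul_one]
      exact inv_mem hsH
    have e2 : ((s : G) • ((g : G) : G ⧸ H)) = (g : G ⧸ H) := by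
      show (((s : G) * g : G) : G ⧸ H) = _
      rw [QuotientGroup.eq, ← has]
      have e3 : (g * a * g⁻¹ * g)⁻¹ * g = a⁻¹ := by group
      rw [e3]
      exact inv_mem ha
    have := congrArg Subtype.val (@Subsingleton.elim _ hsub ⟨_, e1⟩ ⟨_, e2⟩)
    replace this : ((1 : G) : G ⧸ H) = (g : G ⧸ H) := this
    rw [QuotientGroup.eq] at this
    exact hg (by simpa using this)

end Cfsg.Agent.S0224
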