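import Cfsg.Statements.S2788
import Cfsg.Agent.Lib.GL2Classes
import Cfsg.Agent.Lib.TwoByTwo
import Cfsg.Agent.Lib.NonSplitTorus
import Cfsg.Agent.S2904

set_option autoImplicit false
set_option linter.unusedVariables false
open Cfsg
open scoped commutatorElement

namespace Cfsg.Agent.S2788

open Matrix in
theorem order_eq_of_trace {F : Type*} [Field F] {M N : SpecialLinearGroup (Fin 2) F}
    (hM : ∀ c : F, M.1 ≠ c • (1 : Matrix (Fin 2) (Fin 2) F)) (hN : ∀ c : F, N.1 ≠ c • (1 : Matrix (Fin 2) (Fin 2) F))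
    (h : M.1.trace = N.1.trace) (k : ℕ) : orderOf (M ^ k) = orderOf (N ^ k) := by
  obtain ⟨P, hP⟩ := CfsgLib.GL2Classes.exists_conj_comp hM
  obtain ⟨Q, hQ⟩ := CfsgLib.GL2Classes.exists_conj_comp hN
  rw [M.2] at hP
  rw [N.2, ← h] at hQ
  set C := CfsgLib.GL2Classes.comp M.1.trace (1 : F)
  let φ := (SpecialLinearGroup.toGL (n := Fin 2) (R := F))
  have hφ : Function.Injective φ := fun x y he => Subtype.ext (congrArg Units.val he)
  have hconj : IsConj (φ M) (φ N) := by
    suffices h0 : (φ M).1 * (P * Q⁻¹).1 = (P * Q⁻¹).1 * (φ N).1 by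
      first
        | exact CfsgLib.GL2Classes.isConj_of_mul_eq _ h0
        | exact (CfsgLib.GL2Classes.isConj_of_mul_eq _ h0).symm
    show M.1 * (P.1 * (Q⁻¹).1) = P.1 * (Q⁻¹).1 * N.1
    have e1 : N.1 = Q.1 * C * (Q⁻¹).1 := by rw [← hQ, mul_assoc, Units.mul_inv, mul_one]
    rw [← mul_assoc, hP, e1]
    simp [mul_assoc]
  obtain ⟨U, hU⟩ := isConj_iff.mp hconj
  rw [← orderOf_injective φ hφ, ← orderOf_injective φ hφ (N ^ k), map_pow, map_pow,
    show φ N = (MulAut.conj U).toMonoidHom (φ M) from hU.symm, ← map_pow (MulAut.conj U).toMonoidHom,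
    orderOf_injective (MulAut.conj U).toMonoidHom (MulAut.conj U).injective]

theorem sub_one_sq_SL {F : Type*} [Field F] (p : ℕ) [Fact p.Prime] [CharP F p]
    {g : Matrix.SpecialLinearGroup (Fin 2) F} (h : g ^ p = 1) : (g.1 - 1) * (g.1 - 1) = 0 :=
  CfsgLib.TwoByTwo.sub_one_sq p (g := Matrix.SpecialLinearGroup.toGL g) (by rw [← map_pow, h, map_one])

open Matrix CfsgLib.TwoByTwo in
open CfsgLib.PSL2 (uSL coe_uSL dSL coe_dSL) in
theorem exists_product {F : Type*} [Field F] [Fintype F] (p : ℕ) [Fact p.Prime] [CharP F p] {n : ℕ} (hn : 2 ≤ n)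
    (hF : Fintype.card F = p ^ n) (u : SpecialLinearGroup (Fin 2) F) (hu : u ^ p = 1) (hu1 : u ≠ 1)
    (t : SpecialLinearGroup (Fin 2) F) (ht : orderOf t = Fintype.card F + 1) :
    ∃ c g : SpecialLinearGroup (Fin 2) F, (c = u ∨ c = u⁻¹) ∧
      orderOf ((c * (g * u * g⁻¹)) ^ 2) = orderOf (t ^ 2) := by
  classical
  have hp := (Fact.out : p.Prime)
  have hq4 : 4 ≤ Fintype.card F := by
    rw [hF]
    calc 4 = 2 ^ 2 := rfl
      _ ≤ p ^ 2 := Nat.pow_le_pow_left hp.two_le 2
      _ ≤ p ^ n := Nat.pow_le_pow_right hp.pos hn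
  set τ := t.1.trace with hτ
  have hts : ∀ c : F, t.1 ≠ c • (1 : Matrix (Fin 2) (Fin 2) F) := by
    intro c hc
    have hdet := t.2
    rw [hc, Matrix.det_smul, Fintype.card_fin, det_one, mul_one] at hdet
    have h2 : t ^ 2 = 1 := Subtype.ext (by
      show t.1 ^ 2 = 1
      rw [hc, smul_pow, one_pow, hdet, one_smul])
    have := Nat.le_of_dvd (by norm_num) (ht ▸ orderOf_dvd_of_pow_eq_one h2)
    omega
  have hnosq : ∀ l : F, l ^ 2 - τ * l + 1 ≠ 0 := by
    intro l hl
    have hl0 : l ≠ 0 := fun h => by simp [h] at hl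
    by_cases hll : l = l⁻¹
    · have hl2 : l ^ 2 = 1 := by rw [pow_two]; nth_rw 2 [hll]; exact mul_inv_cancel₀ hl0
      have hτl : τ = 2 * l := by
        refine mul_right_cancel₀ hl0 ?_
        linear_combination (-1 : F) * hl - hl2
      obtain ⟨P, hP⟩ := CfsgLib.GL2Classes.exists_conj_comp hts
      rw [t.2, ← hτ, hτl] at hP
      set C := CfsgLib.GL2Classes.comp (2 * l) (1 : F) with hC
      have hCsq : (C - l • 1) * (C - l • 1) = 0 := by
        rw [hC]
        ext i j
        fin_cases i <;> fin_cases j <;>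
          simp [CfsgLib.GL2Classes.comp, Matrix.mul_apply, Fin.sum_univ_two] <;>
          first
            | ring1
            | linear_combination hl2
            | linear_combination -hl2
      have htsq : (t.1 - l • 1) * (t.1 - l • 1) = 0 := by
        have e : t.1 = P.1 * C * (P⁻¹).1 := by rw [← hP, mul_assoc, Units.mul_inv, mul_one]
        have e2 : t.1 - l • 1 = P.1 * (C - l • 1) * (P⁻¹).1 := by
          rw [e, mul_sub, sub_mul, mul_smul_comm, mul_one, smul_mul_assoc, Units.mul_inv]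
        rw [e2, show P.1 * (C - l • 1) * (P⁻¹).1 * (P.1 * (C - l • 1) * (P⁻¹).1) =
          P.1 * ((C - l • 1) * (((P⁻¹).1 * P.1) * (C - l • 1))) * (P⁻¹).1 by simp only [mul_assoc],
          Units.inv_mul, one_mul, hCsq, mul_zero, zero_mul]
      have hpow : t ^ (2 * p) = 1 := Subtype.ext (by
        show t.1 ^ (2 * p) = 1
        rw [mul_comm, pow_mul,
          show t.1 = (t.1 - l • 1) + l • 1 by abel,
          show (((t.1 - l • 1) + l • 1) ^ p : Matrix (Fin 2) (Fin 2) F) = (l ^ p) • 1 by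
            rw [add_pow_char_of_commute _ ((Commute.one_right _).smul_right l), smul_pow, one_pow]
            have hp2 := hp.two_le
            rw [show (t.1 - l • 1) ^ p = (t.1 - l • 1) ^ 2 * (t.1 - l • 1) ^ (p - 2) by
              rw [← pow_add]; congr 1; omega, pow_two, htsq, zero_mul, zero_add],
          smul_pow, one_pow, ← pow_mul, mul_comm, pow_mul, hl2, one_pow, one_smul])
      have h1 := Nat.le_of_dvd (by have := hp.pos; omega) (ht ▸ orderOf_dvd_of_pow_eq_one hpow)
      have h2 : 2 * p ≤ Fintype.card F := by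
        rw [hF]
        calc 2 * p ≤ p * p := Nat.mul_le_mul_right p hp.two_le
          _ = p ^ 2 := (pow_two p).symm
          _ ≤ p ^ n := Nat.pow_le_pow_right hp.pos hn
      omega
    · let d : SpecialLinearGroup (Fin 2) F := ⟨!![l, 0; 0, l⁻¹], by simp [det_fin_two_of, hl0]⟩
      have hds : ∀ c : F, d.1 ≠ c • (1 : Matrix (Fin 2) (Fin 2) F) := fun c hc => hll (by
        have h00 := congrFun (congrFun hc 0) 0
        have h11 := congrFun (congrFun hc 1) 1
        simp [d] at h00 h11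
        exact h00.trans h11.symm)
      have htr : d.1.trace = τ := by
        simp only [d, Matrix.trace_fin_two, Matrix.of_apply, Matrix.cons_val', Matrix.cons_val_zero,
          Matrix.empty_val', Matrix.cons_val_fin_one, Matrix.cons_val_one]
        refine mul_left_cancel₀ hl0 ?_
        rw [mul_add, mul_inv_cancel₀ hl0]
        linear_combination hl
      have hd : d ^ (Fintype.card F - 1) = 1 := by
        refine Subtype.ext ?_
        show d.1 ^ (Fintype.card F - 1) = 1
        rw [show d.1 = Matrix.diagonal ![l, l⁻¹] by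
          ext i j; fin_cases i <;> fin_cases j <;> simp [d], Matrix.diagonal_pow,
          ← Matrix.diagonal_one]
        congr 1
        ext i; fin_cases i <;> simp [FiniteField.pow_card_sub_one_eq_one, hl0, inv_pow]
      have := order_eq_of_trace hds hts htr 1
      rw [pow_one, pow_one, ht] at this
      have h1 := Nat.le_of_dvd (by omega) (this ▸ orderOf_dvd_of_pow_eq_one hd)
      omega
  obtain ⟨d, hd, hconj⟩ := exists_isConj_uSL (sub_one_sq_SL p hu) hu1
  -- a target trace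
  obtain ⟨e, c, s, he, hs, hval⟩ : ∃ e c s : F, (e = 1 ∨ e = -1) ∧ (s = 1 ∨ s = -1) ∧ 2 - e * (c * d) ^ 2 = s * τ := by
    have hsq : ∀ x : F, IsSquare x → ∃ c, x = (c * d) ^ 2 := fun x ⟨r, hr⟩ =>
      ⟨r / d, by rw [div_mul_cancel₀ _ hd, hr, pow_two]⟩
    by_cases h2 : ringChar F = 2
    · obtain ⟨c, hc⟩ := hsq (2 - τ) (FiniteField.isSquare_of_char_two h2 _)
      exact ⟨1, c, 1, Or.inl rfl, Or.inl rfl, by rw [← hc]; ring⟩
    by_cases hneg : IsSquare (-1 : F)
    · by_cases hA : IsSquare (2 - τ)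
      · obtain ⟨c, hc⟩ := hsq _ hA
        exact ⟨1, c, 1, Or.inl rfl, Or.inl rfl, by rw [← hc]; ring⟩
      · by_cases hB : IsSquare (2 + τ)
        · obtain ⟨c, hc⟩ := hsq _ hB
          exact ⟨1, c, -1, Or.inl rfl, Or.inr rfl, by rw [← hc]; ring⟩
        · exfalso
          have hprod : IsSquare ((2 - τ) * (2 + τ)) := by
            have e1 := (quadraticChar_neg_one_iff_not_isSquare).mpr hA
            have e2 := (quadraticChar_neg_one_iff_not_isSquare).mpr hB
            by_cases h0 : (2 - τ) * (2 + τ) = 0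
            · rw [h0]; exact IsSquare.zero
            · exact (quadraticChar_one_iff_isSquare h0).mp (by rw [map_mul, e1, e2]; norm_num)
          obtain ⟨r, hr⟩ := hneg.mul hprod
          have h2' : (2 : F) ≠ 0 := Ring.two_ne_zero h2
          refine hnosq ((τ + r) / 2) ?_
          field_simp
          linear_combination -hr
    · by_cases hA : IsSquare (2 - τ)
      · obtain ⟨c, hc⟩ := hsq _ hA
        exact ⟨1, c, 1, Or.inl rfl, Or.inl rfl, by rw [← hc]; ring⟩
      · have e1 := (quadraticChar_neg_one_iff_not_isSquare).mpr hA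
        have e2 := (quadraticChar_neg_one_iff_not_isSquare).mpr hneg
        have hne : -(2 - τ) ≠ 0 := fun h => hA (by rw [neg_eq_zero.mp h]; exact IsSquare.zero)
        have : IsSquare (-(2 - τ)) := (quadraticChar_one_iff_isSquare hne).mp (by
          rw [show -(2 - τ) = (-1 : F) * (2 - τ) by ring, map_mul, e1, e2]; norm_num)
        obtain ⟨c, hc⟩ := hsq _ this
        exact ⟨-1, c, 1, Or.inr rfl, Or.inl rfl, by rw [← hc]; ring⟩
  let L : SpecialLinearGroup (Fin 2) F := ⟨!![0, -1; 1, 0], by simp [det_fin_two_of]⟩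
  have hc0 : c ≠ 0 := by
    rintro rfl
    rcases hs with rfl | rfl
    · exact hnosq 1 (by linear_combination hval)
    · exact hnosq (-1) (by linear_combination hval)
  obtain ⟨X, hX⟩ := isConj_iff.mp hconj
  obtain ⟨Y, hY⟩ := isConj_iff.mp ((isConj_uSL_sq hc0 d).trans (isConj_iff.mpr ⟨L, rfl⟩))
  set N : SpecialLinearGroup (Fin 2) F := uSL (e * d) * (L * uSL (c ^ 2 * d) * L⁻¹) with hN
  have hNtr : N.1.trace = s * τ := by
    rw [← hval, hN]
    show (!![1, e * d; 0, 1] * (!![0, -1; 1, 0] * !![1, c ^ 2 * d; 0, 1] * (!![0, -1; 1, (0 : F)]).adjugate)).trace = _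
    simp [Matrix.adjugate_fin_two_of, Matrix.mul_fin_two, Matrix.trace_fin_two]
    ring
  let c' : SpecialLinearGroup (Fin 2) F := if e = 1 then u else u⁻¹
  have hc' : c' = X * uSL (e * d) * X⁻¹ := by
    rcases he with rfl | rfl
    · simp [c', hX]
    · by_cases h1 : (-1 : F) = 1
      · simp only [c', h1, if_true, one_mul, hX]
      · simp only [c', h1, if_false, neg_one_mul]
        rw [← hX, _root_.mul_inv_rev, _root_.mul_inv_rev, inv_inv, ← mul_assoc]
        congr 2
        exact inv_eq_of_mul_eq_one_right (by rw [uSL_mul, add_neg_cancel, uSL_zero])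
  refine ⟨c', X * Y * X⁻¹, ?_, ?_⟩
  · by_cases h : e = 1 <;> simp [c', h]
  have hM : c' * (X * Y * X⁻¹ * u * (X * Y * X⁻¹)⁻¹) = X * N * X⁻¹ := by
    rw [hN, hc', ← hY, ← hX]; group
  rw [hM, conj_pow, show X * N ^ 2 * X⁻¹ = (MulAut.conj X).toMonoidHom (N ^ 2) from rfl,
    orderOf_injective (MulAut.conj X).toMonoidHom (MulAut.conj X).injective]
  have hscal : ∀ z : F, N.1 ≠ z • (1 : Matrix (Fin 2) (Fin 2) F) := by
    intro z hz
    have h01 := congrFun (congrFun hz 1) 0
    change ((!![1, e * d; 0, 1] * (!![0, -1; 1, 0] * !![1, c ^ 2 * d; 0, 1] * (!![0, -1; 1, (0 : F)]).adjugate) :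
      Matrix (Fin 2) (Fin 2) F)) 1 0 =
      (z • (1 : Matrix (Fin 2) (Fin 2) F)) 1 0 at h01
    simp [Matrix.adjugate_fin_two_of, Matrix.mul_fin_two, hd, hc0] at h01
  rcases hs with rfl | rfl
  · exact order_eq_of_trace hscal hts (by rw [hNtr, one_mul]) 2
  · have hneg : (-t) ^ 2 = t ^ 2 := Subtype.ext (by simp)
    rw [← hneg]
    refine order_eq_of_trace hscal (fun z hz => hts (-z) ?_) (by rw [hNtr]; simp [hτ]) 2
    rw [SpecialLinearGroup.coe_neg] at hz
    rw [neg_smul, ← hz, neg_neg]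

theorem fpf_index {G : Type*} [Group G] [Finite G] {p : ℕ} [Fact p.Prime] (V : Subgroup G)
    (hV : Cfsg.IsElementaryAbelian p V) {y : G} (hy : y ∈ Subgroup.normalizer (V : Set G))
    {r e : ℕ} (hr : r.Prime) (hrp : r ≠ p) (he : 1 ≤ e) (hord : orderOf y = r ^ e)
    (hnt : ¬ ∀ v ∈ V, y ^ r ^ (e - 1) * v = v * y ^ r ^ (e - 1)) :
    ∃ d, 1 ≤ d ∧ r ^ e ∣ p ^ d - 1 ∧ (V ⊓ Subgroup.centralizer ({y} : Set G)).relIndex V ≥ p ^ d := by
  classical
  set z := y ^ r ^ (e - 1) with hz
  set C := V ⊓ Subgroup.centralizer ({z} : Set G) with hC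
  letI : MulAction ↥(Subgroup.zpowers y) {v : ↥V // (v : G) ∉ C} :=
    { smul := fun g v => ⟨⟨(g : G) * v.1 * (g : G)⁻¹, (Subgroup.mem_normalizer_iff.mp
          (Subgroup.zpowers_le.mpr hy g.2) _).mp v.1.2⟩, fun h => v.2 ⟨v.1.2, Subgroup.mem_centralizer_singleton_iff.mpr (by
            have h1 := Subgroup.mem_centralizer_singleton_iff.mp h.2
            obtain ⟨i, hi⟩ := Subgroup.mem_zpowers_iff.mp g.2
            have hgz : Commute z (g : G) := hi ▸ ((Commute.refl y).pow_left _).zpow_right i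
            have h2 : Commute z ((g : G) * (v.1 : G) * (g : G)⁻¹) := h1.symm
            have h3 := ((hgz.inv_right.mul_right h2).mul_right hgz)
            rw [show (g : G)⁻¹ * ((g : G) * (v.1 : G) * (g : G)⁻¹) * (g : G) = v.1 by group] at h3
            exact h3.eq.symm)⟩⟩
      one_smul := fun v => Subtype.ext (Subtype.ext (by show (1 : G) * _ * (1 : G)⁻¹ = _; simp))
      mul_smul := fun g h v => Subtype.ext (Subtype.ext (by
        show ((g : G) * h) * _ * ((g : G) * h)⁻¹ = (g : G) * ((h : G) * _ * (h : G)⁻¹) * (g : G)⁻¹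
        group)) }
  have hstab : ∀ v : {v : ↥V // (v : G) ∉ C}, MulAction.stabilizer ↥(Subgroup.zpowers y) v = ⊥ := by
    intro v
    by_contra hne
    obtain ⟨g, hg, hg1⟩ := (MulAction.stabilizer ↥(Subgroup.zpowers y) v).bot_or_exists_ne_one.resolve_left hne
    obtain ⟨i, hi⟩ := ((isOfFinOrder_of_finite y).mem_powers_iff_mem_zpowers).mpr g.2
    have hfix : Commute (g : G) (v.1 : G) :=
      mul_inv_eq_iff_eq_mul.mp (congrArg (fun w : {v : ↥V // (v : G) ∉ C} => ((w.1 : ↥V) : G)) hg)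
    simp only at hi
    have hdvd : ¬ r ^ e ∣ i := fun hd => hg1 (Subtype.ext (by
      rw [← hi]; exact orderOf_dvd_iff_pow_eq_one.mp (hord ▸ hd)))
    obtain ⟨j, hje, hgcd⟩ := (Nat.dvd_prime_pow hr).mp (Nat.gcd_dvd_right i (r ^ e))
    have hjlt : j ≤ e - 1 := by
      by_contra hj
      exact hdvd (by have := Nat.gcd_dvd_left i (r ^ e); rwa [hgcd, show j = e by omega] at this)
    have hzmem : z ∈ Subgroup.centralizer ({(v.1 : G)} : Set G) := by
      have h1 : y ^ i ∈ Subgroup.centralizer ({(v.1 : G)} : Set G) :=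
        Subgroup.mem_centralizer_singleton_iff.mpr (by rw [hi]; exact hfix.eq)
      have h2 : y ^ (r ^ e) ∈ Subgroup.centralizer ({(v.1 : G)} : Set G) := by
        rw [← hord, pow_orderOf_eq_one]; exact one_mem _
      have h3 : y ^ Nat.gcd i (r ^ e) ∈ Subgroup.centralizer ({(v.1 : G)} : Set G) := by
        rw [← zpow_natCast, Nat.gcd_eq_gcd_ab, zpow_add, zpow_mul, zpow_mul, zpow_natCast, zpow_natCast]
        exact mul_mem (zpow_mem h1 _) (zpow_mem h2 _)
      rw [hgcd] at h3
      rw [hz, show r ^ (e - 1) = r ^ j * r ^ (e - 1 - j) by rw [← pow_add]; congr 1; omega, pow_mul]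
      exact pow_mem h3 _
    exact v.2 ⟨v.1.2, Subgroup.mem_centralizer_singleton_iff.mpr (Subgroup.mem_centralizer_singleton_iff.mp hzmem).symm⟩
  have hdvd : r ^ e ∣ Nat.card {v : ↥V // (v : G) ∉ C} := by
    letI := Fintype.ofFinite (Quotient (MulAction.orbitRel ↥(Subgroup.zpowers y) {v : ↥V // (v : G) ∉ C}))
    rw [Nat.card_congr (MulAction.selfEquivSigmaOrbitsQuotientStabilizer ↥(Subgroup.zpowers y) _), Nat.card_sigma]
    refine Finset.dvd_sum fun o _ => ?_
    rw [← Subgroup.index_eq_card, hstab, Subgroup.index_bot, Nat.card_zpowers, hord]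
  have hVp : IsPGroup p ↥V := fun v => ⟨1, Subtype.ext (by rw [pow_one]; exact hV.2 v v.2)⟩
  obtain ⟨d, hd⟩ := hVp.index (C.subgroupOf V)
  have hcard : Nat.card {v : ↥V // (v : G) ∉ C} = Nat.card ↥C * (p ^ d - 1) := by
    letI := Fintype.ofFinite ↥V
    rw [Nat.card_eq_fintype_card, Fintype.card_subtype_compl, ← Nat.card_eq_fintype_card, ← Nat.card_eq_fintype_card,
      ← Subgroup.card_mul_index (C.subgroupOf V), hd, Nat.mul_sub, mul_one,
      Nat.card_congr (Subgroup.subgroupOfEquivOfLe (inf_le_left : C ≤ V)).toEquiv]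
    congr 1
    exact Nat.card_congr (Subgroup.subgroupOfEquivOfLe (inf_le_left : C ≤ V)).toEquiv
  obtain ⟨c, hc⟩ := IsPGroup.iff_card.mp (hVp.to_le (inf_le_left : C ≤ V))
  rw [hcard, hc] at hdvd
  have hd1 : 1 ≤ d := by
    by_contra h0
    rw [show d = 0 by omega, pow_zero, Subgroup.index_eq_one] at hd
    exact hnt fun v hv => ((Subgroup.mem_centralizer_singleton_iff.mp
      (Subgroup.subgroupOf_eq_top.mp hd hv).2)).symm
  refine ⟨d, hd1, (Nat.Coprime.pow _ _ ((Nat.coprime_primes hr Fact.out).mpr hrp)).dvd_of_dvd_mul_left hdvd, ?_⟩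
  rw [← hd]
  refine Nat.le_of_dvd (Nat.pos_of_ne_zero Subgroup.index_ne_zero_of_finite) ?_
  exact Subgroup.relIndex_dvd_of_le_left V (le_inf inf_le_left (fun v hv =>
    Subgroup.mem_centralizer_singleton_iff.mpr
      ((show Commute v y from Subgroup.mem_centralizer_singleton_iff.mp hv.2).pow_right _).eq))

/-- Let H act faithfully by conjugation on the elementary abelian p-subgroup V of a finite group with H ≅ SL₂(F), F a field with p^n elements, S a Sylow p-subgroup of H, and A ≤ S a subgroup of order at least 3 acting quadratically on V ([V, A, A] = 1). Then |V/C_V(a)| ≥ p^n for every nonidentity a ∈ A. -/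
theorem result {G : Type*} [Group G] [Finite G] {p : ℕ} [Fact p.Prime] (V H : Subgroup G) (hV : Cfsg.IsElementaryAbelian p V) (hHV : H ≤ Subgroup.normalizer (V : Set G)) (hf : H ⊓ Subgroup.centralizer (V : Set G) = ⊥) {F : Type*} [Field F] [Fintype F] (n : ℕ) (hF : Fintype.card F = p ^ n) (hiso : Nonempty (↥H ≃* Matrix.SpecialLinearGroup (Fin 2) F)) (S : Sylow p ↥H) (T : Subgroup G) (hT : T = ((S : Subgroup ↥H).map H.subtype)) (A : Subgroup G) (hA : A ≤ T) (hA3 : 3 ≤ Nat.card A) (hquad : ⁅⁅V, A⁆, A⁆ = ⊥) : ∀ a ∈ A, a ≠ 1 → p ^ n ≤ ((V ⊓ Subgroup.centralizer ({a} : Set G))).relIndex V := by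
  intro a ha ha1
  obtain ⟨φ⟩ := hiso
  have hp : p.Prime := Fact.out
  haveI : CharP F p := charP_of_card_eq_prime_pow hF
  have hTp : IsPGroup p ↥T := hT ▸ S.isPGroup'.map H.subtype
  have hTH : T ≤ H := hT ▸ Subgroup.map_subtype_le _
  obtain ⟨a', ha'mem, hordp⟩ : ∃ a' ∈ Subgroup.zpowers a, orderOf a' = p := by
    obtain ⟨j, hj⟩ := IsPGroup.iff_orderOf.mp hTp ⟨a, hA ha⟩
    rw [Subgroup.orderOf_mk] at hj
    have hj1 : 1 ≤ j := by
      by_contra h0
      rw [show j = 0 by omega, pow_zero, orderOf_eq_one_iff] at hj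
      exact ha1 hj
    refine ⟨a ^ p ^ (j - 1), pow_mem (Subgroup.mem_zpowers a) _, ?_⟩
    have h := orderOf_pow_orderOf_div (x := a) (n := p) (by rw [hj]; exact pow_ne_zero _ hp.ne_zero)
      (by rw [hj]; exact dvd_pow_self p (by omega))
    rwa [hj, show p ^ j / p = p ^ (j - 1) from
      Nat.div_eq_of_eq_mul_left hp.pos (by rw [← pow_succ]; congr 1; omega)] at h
  have ha'H : a' ∈ H := (Subgroup.zpowers_le.mpr (hTH (hA ha))) ha'mem
  suffices hmain : p ^ n ≤ (V ⊓ Subgroup.centralizer ({a'} : Set G)).relIndex V by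
    refine hmain.trans (Nat.le_of_dvd (Nat.pos_of_ne_zero (Subgroup.index_ne_zero_of_finite (H := Subgroup.subgroupOf _ V))) ?_)
    refine Subgroup.relIndex_dvd_of_le_left V (inf_le_inf_left V fun v hv => Subgroup.mem_centralizer_singleton_iff.mpr ?_)
    obtain ⟨i, rfl⟩ := Subgroup.mem_zpowers_iff.mp ha'mem
    exact ((show Commute v a from Subgroup.mem_centralizer_singleton_iff.mp hv).zpow_right i).eq
  have hfaith : ∀ h ∈ H, (∀ v ∈ V, h * v = v * h) → h = 1 := fun h hh hc =>
    Subgroup.mem_bot.mp (hf ▸ ⟨hh, Subgroup.mem_centralizer_iff.mpr fun v hv => (hc v hv).symm⟩)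
  have ha'1 : a' ≠ 1 := fun h => by rw [h, orderOf_one] at hordp; exact hp.ne_one hordp.symm
  have hVp : IsPGroup p ↥V := fun v => ⟨1, Subtype.ext (by rw [pow_one]; exact hV.2 v v.2)⟩
  rcases Nat.lt_or_ge n 2 with hn | hn
  · obtain ⟨d, hd⟩ := hVp.index ((V ⊓ Subgroup.centralizer ({a'} : Set G)).subgroupOf V)
    show p ^ n ≤ Subgroup.index _
    rw [hd]
    refine Nat.pow_le_pow_right hp.pos ?_
    rcases Nat.eq_zero_or_pos d with rfl | h
    · rw [pow_zero, Subgroup.index_eq_one] at hd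
      exact absurd (hfaith a' ha'H fun v hv => (Subgroup.mem_centralizer_singleton_iff.mp
        (Subgroup.subgroupOf_eq_top.mp hd hv).2).symm) ha'1
    · omega
  set u := φ ⟨a', ha'H⟩ with hu
  have hup : u ^ p = 1 := by
    rw [hu, ← map_pow, show (⟨a', ha'H⟩ : ↥H) ^ p = 1 from Subtype.ext (hordp ▸ pow_orderOf_eq_one a'), map_one]
  have hu1 : u ≠ 1 := fun h => ha'1 (congrArg Subtype.val (φ.injective (h.trans (map_one φ).symm)))
  obtain ⟨t, ht⟩ := CfsgLib.NonSplitTorus.exists_orderOf_card_add_one (F := F) p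
  obtain ⟨c, g, hc, hord⟩ := exists_product p hn hF u hup hu1 t ht
  -- the primitive prime power
  obtain ⟨r, e, hr, hrp, he, hdvdo, hprim⟩ : ∃ r e, r.Prime ∧ r ≠ p ∧ 1 ≤ e ∧ r ^ e ∣ orderOf (t ^ 2) ∧
      ∀ d, 1 ≤ d → r ^ e ∣ p ^ d - 1 → 2 * n ≤ d := by
    by_cases h6 : p = 2 ∧ 2 * n = 6
    · refine ⟨3, 2, Nat.prime_three, by omega, by omega, ?_, fun d hd1 hdd => ?_⟩
      · rw [orderOf_pow, ht, hF, h6.1, show n = 3 by omega]; norm_num
      · by_contra hlt
        rw [h6.1] at hdd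
        have hd5 : d ≤ 5 := by omega
        interval_cases d <;> norm_num at hdd
    · obtain ⟨r, hr, hrd, hrk⟩ := Cfsg.Agent.S2904.result p (2 * n) hp.one_lt (by omega) h6 (fun h => by omega)
      have hrp : r ≠ p := by
        rintro rfl
        have h1 : r ∣ r ^ (2 * n) := dvd_pow_self r (by omega)
        have h2 := Nat.dvd_sub h1 hrd
        rw [Nat.sub_sub_self (Nat.one_le_pow _ _ hr.pos)] at h2
        exact hr.ne_one (Nat.dvd_one.mp h2)
      refine ⟨r, 1, hr, hrp, le_rfl, ?_, fun d hd1 hdd => ?_⟩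
      · have hnd : ¬ r ∣ p ^ n - 1 := hrk n (by omega) (by omega)
        have hprod : r ∣ (p ^ n - 1) * (p ^ n + 1) := by
          obtain ⟨q', hq'⟩ : ∃ q', p ^ n = q' + 1 := ⟨p ^ n - 1, by have := Nat.one_le_pow n p hp.pos; omega⟩
          rw [show (p ^ n - 1) * (p ^ n + 1) = p ^ (2 * n) - 1 by
            rw [mul_comm 2 n, pow_mul, hq', Nat.add_sub_cancel, show (q' + 1) ^ 2 = q' * (q' + 1 + 1) + 1 by ring,
              Nat.add_sub_cancel]]
          exact hrd
        have hr1 : r ∣ p ^ n + 1 := (hr.dvd_mul.mp hprod).resolve_left hnd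
        have hr2 : r ≠ 2 := by
          rintro rfl
          refine hnd ?_
          obtain ⟨m, hm⟩ := hr1
          exact ⟨m - 1, by omega⟩
        rw [pow_one, orderOf_pow, ht, hF]
        refine (Nat.Coprime.dvd_of_dvd_mul_right ?_
          (by rw [Nat.div_mul_cancel (Nat.gcd_dvd_left _ _)]; exact hr1))
        exact Nat.Coprime.coprime_dvd_right (Nat.gcd_dvd_right _ _) ((Nat.coprime_primes hr Nat.prime_two).mpr hr2)
      · by_contra hlt
        exact hrk d (by omega) (by omega) (by rwa [pow_one] at hdd)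
  set b := ((φ.symm g : ↥H) : G) * a' * ((φ.symm g : ↥H) : G)⁻¹ with hb
  set c0 : G := ((φ.symm c : ↥H) : G) with hc0
  set y2 := (c0 * b) ^ 2 with hy2
  have hbH : b ∈ H := mul_mem (mul_mem (SetLike.coe_mem _) ha'H) (inv_mem (SetLike.coe_mem _))
  have hy2H : y2 ∈ H := pow_mem (mul_mem (SetLike.coe_mem _) hbH) 2
  have hy2o : orderOf y2 = orderOf (t ^ 2) := by
    rw [← hord]
    have e : y2 = (((φ.symm c * (φ.symm g * ⟨a', ha'H⟩ * (φ.symm g)⁻¹)) ^ 2 : ↥H) : G) := by
      simp [hy2, hb, hc0]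
    rw [e, Subgroup.orderOf_coe, ← orderOf_injective φ.toMonoidHom φ.injective]
    simp [hu]
  have hy2pos : orderOf y2 ≠ 0 := (orderOf_pos y2).ne'
  set y := y2 ^ (orderOf y2 / r ^ e) with hy
  have hyo : orderOf y = r ^ e := orderOf_pow_orderOf_div hy2pos (hy2o ▸ hdvdo)
  have hyH : y ∈ H := pow_mem hy2H _
  obtain ⟨d, hd1, hdd, hge⟩ := fpf_index V hV (hHV hyH) hr hrp he hyo (fun hcon => by
    have hz : y ^ r ^ (e - 1) ≠ 1 := pow_ne_one_of_lt_orderOf (pow_ne_zero _ hr.ne_zero)
      (hyo ▸ Nat.pow_lt_pow_right hr.one_lt (by omega))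
    exact hz (hfaith _ (pow_mem hyH _) hcon))
  have h2n : p ^ (2 * n) ≤ (V ⊓ Subgroup.centralizer ({y} : Set G)).relIndex V :=
    (Nat.pow_le_pow_right hp.pos (hprim d hd1 hdd)).trans hge
  set Ca := V ⊓ Subgroup.centralizer ({a'} : Set G)
  set Cb := V ⊓ Subgroup.centralizer ({b} : Set G)
  have hle : Ca ⊓ Cb ≤ V ⊓ Subgroup.centralizer ({y} : Set G) := fun v hv => ⟨hv.1.1,
    Subgroup.mem_centralizer_singleton_iff.mpr (by
      have h1 : Commute v a' := Subgroup.mem_centralizer_singleton_iff.mp hv.1.2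
      have h2 : Commute v b := Subgroup.mem_centralizer_singleton_iff.mp hv.2.2
      have h3 : Commute v c0 := by
        rcases hc with h | h <;> rw [hc0, h, hu]
        · rw [MulEquiv.symm_apply_apply]; exact h1
        · rw [map_inv, MulEquiv.symm_apply_apply]; exact h1.inv_right
      exact (((h3.mul_right h2).pow_right 2).pow_right _).eq)⟩
  have hCb : Cb.relIndex V = Ca.relIndex V := by
    set k : G := ((φ.symm g : ↥H) : G)
    have hk : k ∈ Subgroup.normalizer (V : Set G) := hHV (SetLike.coe_mem _)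
    have hC : Ca.map (MulAut.conj k).toMonoidHom = Cb := by
      ext x
      constructor
      · rintro ⟨v, ⟨hv1, hv2⟩, rfl⟩
        refine ⟨(Subgroup.mem_normalizer_iff.mp hk v).mp hv1, Subgroup.mem_centralizer_singleton_iff.mpr ?_⟩
        exact ((Commute.conj_iff k).mpr (show Commute v a' from Subgroup.mem_centralizer_singleton_iff.mp hv2)).eq
      · rintro ⟨hx1, hx2⟩
        refine ⟨k⁻¹ * x * k, ⟨(Subgroup.mem_normalizer_iff.mp hk _).mpr (by simpa [mul_assoc] using hx1),
          Subgroup.mem_centralizer_singleton_iff.mpr ?_⟩, by simp [mul_assoc]⟩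
        have h4 : Commute x b := Subgroup.mem_centralizer_singleton_iff.mp hx2
        rw [hb, show x = k * (k⁻¹ * x * k) * k⁻¹ by group] at h4
        exact ((Commute.conj_iff k).mp h4).eq
    have hVk : V.map (MulAut.conj k).toMonoidHom = V :=
      Subgroup.ext fun x => by
        constructor
        · rintro ⟨v, hv, rfl⟩; exact (Subgroup.mem_normalizer_iff.mp hk v).mp hv
        · intro hx
          exact ⟨k⁻¹ * x * k, (Subgroup.mem_normalizer_iff.mp hk _).mpr (by simpa [mul_assoc] using hx), by simp [mul_assoc]⟩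
    rw [← hC]
    conv_lhs => rw [← hVk]
    exact Subgroup.relIndex_map_map_of_injective _ _ (MulAut.conj k).injective
  have hfin : p ^ n * p ^ n ≤ Ca.relIndex V * Ca.relIndex V := by
    rw [← pow_add, ← two_mul]
    refine h2n.trans ((Nat.le_of_dvd (Nat.pos_of_ne_zero (Subgroup.index_ne_zero_of_finite (H := Subgroup.subgroupOf _ V)))
      (Subgroup.relIndex_dvd_of_le_left V hle)).trans ?_)
    exact le_of_le_of_eq Subgroup.relIndex_inf_le (by rw [hCb])
  exact Nat.mul_self_le_mul_self_iff.mp hfin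

end Cfsg.Agent.S2788
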