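import Cfsg.Statements.S2162
import Mathlib.LinearAlgebra.Determinant

set_option autoImplicit false
open Cfsg
open scoped Matrix

namespace Cfsg.Agent.S2162

/-- A square-zero endomorphism of rank `ℓ` has the standard form `(x, y, z) ↦ (y, 0, 0)`. -/
theorem exists_normal_form {F : Type*} [Field F] {n : ℕ} (N : (Fin n → F) →ₗ[F] (Fin n → F))
    (hN : N ∘ₗ N = 0) (ℓ : ℕ) (hℓ : Module.finrank F (LinearMap.range N) = ℓ) :
    ∃ g : ((Fin ℓ → F) × (Fin ℓ → F) × (Fin (n - 2 * ℓ) → F)) ≃ₗ[F] (Fin n → F),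
      ∀ x y z, N (g (x, y, z)) = g (y, 0, 0) := by
  obtain ⟨C, hC⟩ := Submodule.exists_isCompl (LinearMap.ker N)
  have hle : LinearMap.range N ≤ LinearMap.ker N := by
    rintro _ ⟨v, rfl⟩
    exact LinearMap.congr_fun hN v
  obtain ⟨W, hW⟩ := Submodule.exists_isCompl ((LinearMap.range N).comap (LinearMap.ker N).subtype)
  have hsum := LinearMap.finrank_range_add_finrank_ker N
  rw [hℓ, Module.finrank_fin_fun] at hsum
  have hC' := Submodule.finrank_add_eq_of_isCompl hC
  rw [Module.finrank_fin_fun] at hC'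
  have hW' := Submodule.finrank_add_eq_of_isCompl hW
  rw [(Submodule.comapSubtypeEquivOfLe hle).finrank_eq, hℓ] at hW'
  let e : (Fin ℓ → F) ≃ₗ[F] C := LinearEquiv.ofFinrankEq _ _ (by rw [Module.finrank_fin_fun]; omega)
  haveI : Module.Free F W := Module.Free.of_divisionRing F W
  let e' : (Fin (n - 2 * ℓ) → F) ≃ₗ[F] W :=
    LinearEquiv.ofFinrankEq _ _ (by rw [Module.finrank_fin_fun]; omega)
  have hzero : ∀ u : LinearMap.ker N, N u = 0 := fun u => u.2
  let E : (Fin ℓ → F) →ₗ[F] (Fin n → F) := C.subtype ∘ₗ (e : _ →ₗ[F] C)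
  let E' : (Fin (n - 2 * ℓ) → F) →ₗ[F] (Fin n → F) :=
    (LinearMap.ker N).subtype ∘ₗ W.subtype ∘ₗ (e' : _ →ₗ[F] W)
  let φ : ((Fin ℓ → F) × (Fin ℓ → F) × (Fin (n - 2 * ℓ) → F)) →ₗ[F] (Fin n → F) :=
    (N ∘ₗ E).coprod (E.coprod E')
  have hφ : ∀ x y z, φ (x, y, z) = N (E x) + (E y + E' z) := fun x y z => rfl
  have hNφ : ∀ x y z, N (φ (x, y, z)) = φ (y, 0, 0) := fun x y z => by
    rw [hφ, hφ, map_add, map_add, map_zero, map_zero, add_zero, add_zero,
      show N (N (E x)) = 0 from LinearMap.congr_fun hN _, zero_add,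
      show N (E' z) = 0 from hzero _, add_zero]
  have hEinj : ∀ y, N (E y) = 0 → y = 0 := fun y hy => by
    have h := Submodule.disjoint_def.mp hC.disjoint (E y) hy (e y).2
    exact e.map_eq_zero_iff.mp (Subtype.ext h)
  have hinj : Function.Injective φ := by
    rw [← LinearMap.ker_eq_bot, Submodule.eq_bot_iff]
    rintro ⟨x, y, z⟩ h
    rw [LinearMap.mem_ker] at h
    have hy : y = 0 := by
      apply hEinj
      have := congrArg N h
      rwa [hNφ, map_zero, hφ, map_zero, map_zero, add_zero, add_zero] at this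
    subst hy
    rw [hφ, map_zero, zero_add] at h
    have hz : E' z = 0 := by
      have hz' : E' z = -N (E x) := eq_neg_of_add_eq_zero_right h
      have hmem : ((e' z : W) : LinearMap.ker N) ∈ (LinearMap.range N).comap (LinearMap.ker N).subtype := by
        show E' z ∈ LinearMap.range N
        rw [hz']
        exact neg_mem ⟨_, rfl⟩
      have := Submodule.disjoint_def.mp hW.disjoint _ hmem (e' z).2
      exact congrArg Subtype.val this
    rw [hz, add_zero] at h
    have hx := hEinj x h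
    subst hx
    have hz0 : z = 0 := e'.map_eq_zero_iff.mp (Subtype.ext (Subtype.ext hz))
    subst hz0
    rfl
  have hdim : Module.finrank F ((Fin ℓ → F) × (Fin ℓ → F) × (Fin (n - 2 * ℓ) → F)) =
      Module.finrank F (Fin n → F) := by
    rw [Module.finrank_prod, Module.finrank_prod, Module.finrank_fin_fun, Module.finrank_fin_fun,
      Module.finrank_fin_fun]
    omega
  exact ⟨LinearMap.linearEquivOfInjective φ hinj hdim, hNφ⟩


/-- Conjugacy of involutions in the special linear group over a finite field of characteristic two, in dimension at least 3: two elements of order 2 of SL_n(F) are conjugate in SL_n(F) exactly when the matrices a − 1 and b − 1 have the same rank (the rank of a − 1 is the dimension of the commutator space [V, a]). -/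
theorem result {F : Type*} [Field F] [Fintype F] [CharP F 2] {n : ℕ} (hn : 3 ≤ n) (a b : Matrix.SpecialLinearGroup (Fin n) F) (ha : orderOf a = 2) (hb : orderOf b = 2) :
    IsConj a b ↔ ((a : Matrix (Fin n) (Fin n) F) - 1).rank = ((b : Matrix (Fin n) (Fin n) F) - 1).rank := by
  classical
  constructor
  · intro h
    obtain ⟨c, hc⟩ := isConj_iff.mp h
    have hdc : IsUnit c.1.det := by rw [c.2]; exact isUnit_one
    have hcc : c.1 * (c⁻¹).1 = 1 := by
      rw [← Matrix.SpecialLinearGroup.coe_mul, mul_inv_cancel, Matrix.SpecialLinearGroup.coe_one]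
    have e : b.1 - 1 = c.1 * (a.1 - 1) * (c⁻¹).1 := by
      rw [← hc, Matrix.SpecialLinearGroup.coe_mul, Matrix.SpecialLinearGroup.coe_mul, Matrix.mul_sub,
        Matrix.sub_mul, Matrix.mul_one, hcc]
    have hdi : IsUnit (c⁻¹).1.det := by rw [(c⁻¹).2]; exact isUnit_one
    rw [e, Matrix.rank_mul_eq_left_of_isUnit_det (c⁻¹).1 _ hdi, Matrix.rank_mul_eq_right_of_isUnit_det c.1 _ hdc]
  · intro hrk
    have hsq : ∀ x : Matrix.SpecialLinearGroup (Fin n) F, orderOf x = 2 →
        (x.1 - 1) * (x.1 - 1) = 0 ∧ (x.1 - 1).rank ≠ 0 := fun x hx => by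
      refine ⟨?_, fun h0 => ?_⟩
      · have h : x.1 * x.1 = 1 := by
          rw [← Matrix.SpecialLinearGroup.coe_mul, ← sq, orderOf_dvd_iff_pow_eq_one.mp (dvd_of_eq hx),
            Matrix.SpecialLinearGroup.coe_one]
        rw [Matrix.sub_mul, Matrix.mul_sub, h, Matrix.one_mul, Matrix.mul_one, sub_sub_eq_add_sub,
          sub_add_eq_add_sub]
        ext i j
        simp [CharTwo.sub_eq_add, CharTwo.add_self_eq_zero, add_comm]
      · have h1 : x.1 - 1 = 0 := by
          refine Matrix.mulVec_injective (funext fun v => ?_)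
          have : (x.1 - 1).mulVecLin = 0 := by
            rw [← LinearMap.range_eq_bot]
            exact Submodule.finrank_eq_zero.mp h0
          rw [Matrix.zero_mulVec, ← Matrix.mulVecLin_apply, this, LinearMap.zero_apply]
        rw [show x = 1 from Subtype.ext (sub_eq_zero.mp h1), orderOf_one] at hx
        omega
    obtain ⟨hNa, hra⟩ := hsq a ha
    obtain ⟨hNb, -⟩ := hsq b hb
    set ℓ := (a.1 - 1).rank with hℓ
    obtain ⟨l, hl⟩ : ∃ l, ℓ = l + 1 := ⟨ℓ - 1, by omega⟩
    obtain ⟨ga, hga⟩ := exists_normal_form (a.1 - 1).mulVecLin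
      (by rw [← Matrix.mulVecLin_mul, hNa, Matrix.mulVecLin_zero]) ℓ rfl
    obtain ⟨gb, hgb⟩ := exists_normal_form (b.1 - 1).mulVecLin
      (by rw [← Matrix.mulVecLin_mul, hNb, Matrix.mulVecLin_zero]) ℓ hrk.symm
    -- fix the determinant by a scaling in the centraliser of the standard form
    let h0 : (Fin n → F) ≃ₗ[F] (Fin n → F) := ga.symm.trans gb
    obtain ⟨s, hs⟩ : IsSquare ((LinearMap.det (h0 : (Fin n → F) →ₗ[F] (Fin n → F)))⁻¹) :=
      FiniteField.isSquare_of_char_two (ringChar.eq F 2) _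
    have hdet0 : LinearMap.det (h0 : (Fin n → F) →ₗ[F] (Fin n → F)) ≠ 0 := h0.isUnit_det'.ne_zero
    let T : (Fin ℓ → F) →ₗ[F] (Fin ℓ → F) :=
      Matrix.toLin' (Matrix.diagonal (fun i : Fin ℓ => if i.val = 0 then s else 1))
    have hT : LinearMap.det T = s := by
      rw [LinearMap.det_toLin', Matrix.det_diagonal,
        Finset.prod_eq_single (⟨0, by omega⟩ : Fin ℓ)]
      · simp
      · intro i _ hi
        rw [if_neg (fun e => hi (Fin.ext e))]
      · simp
    let D : ((Fin ℓ → F) × (Fin ℓ → F) × (Fin (n - 2 * ℓ) → F)) →ₗ[F]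
        ((Fin ℓ → F) × (Fin ℓ → F) × (Fin (n - 2 * ℓ) → F)) := T.prodMap (T.prodMap LinearMap.id)
    have hD : LinearMap.det D = s * s := by
      simp only [D]
      rw [LinearMap.det_prodMap, LinearMap.det_prodMap, hT, LinearMap.det_id, mul_one]
    let Da : (Fin n → F) →ₗ[F] (Fin n → F) :=
      (ga : _ →ₗ[F] (Fin n → F)) ∘ₗ D ∘ₗ (ga.symm : (Fin n → F) →ₗ[F] _)
    let h : (Fin n → F) →ₗ[F] (Fin n → F) := (h0 : (Fin n → F) →ₗ[F] (Fin n → F)) ∘ₗ Da
    have hdet : LinearMap.det h = 1 := by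
      rw [show h = (h0 : (Fin n → F) →ₗ[F] (Fin n → F)) * Da from rfl, map_mul,
        LinearMap.det_conj, hD, ← hs, mul_inv_cancel₀ hdet0]
    have hcomm : ∀ v, h ((a.1 - 1) *ᵥ v) = (b.1 - 1) *ᵥ h v := by
      intro v
      obtain ⟨x, rfl⟩ := ga.surjective v
      obtain ⟨x, y, z⟩ := x
      rw [show (a.1 - 1) *ᵥ ga (x, y, z) = ga (y, 0, 0) from hga x y z]
      simp only [h, h0, Da, D, LinearMap.comp_apply, LinearEquiv.coe_coe, LinearEquiv.trans_apply,
        LinearEquiv.symm_apply_apply, LinearMap.prodMap_apply, LinearMap.id_apply, map_zero]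
      exact (hgb _ _ _).symm
    let M : Matrix.SpecialLinearGroup (Fin n) F :=
      ⟨LinearMap.toMatrix' h, by rw [LinearMap.det_toMatrix', hdet]⟩
    refine isConj_iff.mpr ⟨M, ?_⟩
    rw [mul_inv_eq_iff_eq_mul]
    refine Subtype.ext (Matrix.mulVec_injective (funext fun v => ?_))
    show (LinearMap.toMatrix' h * a.1) *ᵥ v = (b.1 * LinearMap.toMatrix' h) *ᵥ v
    rw [← Matrix.mulVec_mulVec, ← Matrix.mulVec_mulVec, LinearMap.toMatrix'_mulVec,
      LinearMap.toMatrix'_mulVec]
    have := hcomm v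
    rw [Matrix.sub_mulVec, Matrix.sub_mulVec, Matrix.one_mulVec, Matrix.one_mulVec, map_sub] at this
    exact sub_left_inj.mp this

end Cfsg.Agent.S2162
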