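import Cfsg.Statements.S4483
import Cfsg.Agent.Lib.Blocks.Two

set_option autoImplicit false
set_option linter.style.haveILetI false
open Cfsg

namespace Cfsg.Agent.S4483

open CfsgLib.Blocks CfsgLib.CharTheory

/-- Let G be a finite group of order 2^n·g₀ with g₀ odd, and M a maximal ideal of the algebraic integers containing 2. Every real-valued irreducible character of G of odd degree lies in the principal 2-block; consequently G has at most 2^(2n) real-valued irreducible characters of odd degree. -/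
theorem result {G : Type*} [Group G] [Finite G] (M : Ideal Cfsg.AlgInt) (hM : Cfsg.IsPModular 2 M) : (∀ χ : Cfsg.IrrCharacter G, (∀ g : G, ((χ : G → ℂ) g).im = 0) → Odd (Cfsg.charDegree (χ : G → ℂ)) → χ ∈ Cfsg.principalBlock M G) ∧ Nat.card {χ : Cfsg.IrrCharacter G // (∀ g : G, ((χ : G → ℂ) g).im = 0) ∧ Odd (Cfsg.charDegree (χ : G → ℂ))} ≤ 2 ^ (2 * (Nat.card G).factorization 2) := by
  classical
  haveI := Fintype.ofFinite G
  refine ⟨fun χ hr ho => mem_principal_of_real_odd hM χ hr ho, ?_⟩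
  set B := Cfsg.principalBlock M G with hBdef
  have hB : Cfsg.IsPBlock M B := principalBlock_isPBlock
  have h1 : Nat.card {χ : Cfsg.IrrCharacter G // (∀ g : G, ((χ : G → ℂ) g).im = 0) ∧
      Odd (Cfsg.charDegree (χ : G → ℂ))} ≤ (bset B).card := by
    rw [Nat.card_eq_fintype_card, Fintype.card_subtype]
    refine Finset.card_le_card fun χ hχ => mem_bset.2 ?_
    obtain ⟨-, hr, ho⟩ := Finset.mem_filter.1 hχ
    exact mem_principal_of_real_odd hM χ hr ho
  have h2 := brauer_feit hM hB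
  have hle : ((bset B).card : ℤ) ≤ ∑ ψ ∈ bset B,
      (((2 : ℕ) : ℤ) ^ (dv 2 (ψ : G → ℂ) - minDv 2 B)) ^ 2 := by
    rw [Finset.card_eq_sum_ones]
    push_cast
    exact Finset.sum_le_sum fun ψ _ => one_le_pow₀ (one_le_pow₀ (by norm_num))
  refine h1.trans ?_
  set n := (Nat.card G).factorization 2
  set d := Cfsg.blockDefect 2 B
  have hd : d ≤ n := Nat.sub_le _ _
  have hpow : (2 : ℤ) ^ d ≤ (2 : ℤ) ^ n := pow_le_pow_right₀ (by norm_num) hd
  push_cast at h2 hle
  have h3 : 4 * ((bset B).card : ℤ) ≤ ((2 : ℤ) ^ n) ^ 2 + 4 := by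
    have h4 : (0 : ℤ) ≤ (2 : ℤ) ^ d := by positivity
    nlinarith
  have h5 : (1 : ℤ) ≤ ((2 : ℤ) ^ n) ^ 2 := one_le_pow₀ (one_le_pow₀ (by norm_num))
  have h6 : ((bset B).card : ℤ) ≤ ((2 : ℤ) ^ n) ^ 2 := by
    by_contra h7
    push Not at h7
    linarith
  rw [pow_mul']
  exact_mod_cast h6

end Cfsg.Agent.S4483
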