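import Cfsg.Statements.S3742
import Mathlib
-- import your own Cfsg.Agent.* helpers here

set_option autoImplicit false
open Cfsg

namespace Cfsg.Agent.S3742

abbrev Q8 := QuaternionGroup 2

abbrev A : Q8 := QuaternionGroup.a 1
abbrev B : Q8 := QuaternionGroup.xa 0

def expA : Q8 → ℕ
  | QuaternionGroup.a i => i.val
  | QuaternionGroup.xa i => i.val

/-- The extension of an assignment of the two generators. -/
def ext8 (p : Q8 × Q8) : Q8 → Q8
  | QuaternionGroup.a i => p.1 ^ i.val
  | QuaternionGroup.xa i => p.2 * p.1 ^ i.val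

abbrev ok (p : Q8 × Q8) : Prop := p.1 * p.1 ≠ 1 ∧ p.2 * p.2 ≠ 1 ∧ p.2 ≠ p.1 ∧ p.1 * p.2 ≠ 1

/-- Four triples of elements of order four, one from each axis. -/
def tri : Fin 4 → Finset Q8
  | 0 => {A, B, A * B}
  | 1 => {A⁻¹, B, A * B}
  | 2 => {A, B⁻¹, A * B}
  | 3 => {A, B, (A * B)⁻¹}

abbrev cls (u : Fin 4) (T : Finset Q8) : Prop := T = tri u ∨ T = (tri u).image (·⁻¹)

/-- The automorphism group of the quaternion group of order 8 is isomorphic to the symmetric group of degree 4. -/
theorem result : Nonempty (MulAut (QuaternionGroup 2) ≃* Equiv.Perm (Fin 4)) := by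
  classical
  -- automorphisms correspond to the pairs of images of the two generators
  let toP : MulAut Q8 → {p : Q8 × Q8 // ok p} := fun α => ⟨(α A, α B), by
    refine ⟨?_, ?_, ?_, ?_⟩
    · show α A * α A ≠ 1
      rw [← map_mul, Ne, ← map_one α, α.injective.eq_iff]; decide
    · show α B * α B ≠ 1
      rw [← map_mul, Ne, ← map_one α, α.injective.eq_iff]; decide
    · show α B ≠ α A
      rw [Ne, α.injective.eq_iff]; decide
    · show α A * α B ≠ 1
      rw [← map_mul, Ne, ← map_one α, α.injective.eq_iff]; decide⟩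
  have hdec : ∀ x : Q8, x = A ^ (expA x) ∨ x = B * A ^ (expA x) := by decide +kernel
  have happ : ∀ (α : MulAut Q8) (x : Q8), α x = ext8 ((toP α).1) x := by
    intro α x
    have h1 : ∀ i : Fin 4, ∀ p : Q8 × Q8, ext8 p (A ^ i.val) = p.1 ^ i.val ∧ ext8 p (B * A ^ i.val) = p.2 * p.1 ^ i.val := by
      decide +kernel
    have hx : ∀ x : Q8, ∃ i : Fin 4, x = A ^ i.val ∨ x = B * A ^ i.val := by decide +kernel
    obtain ⟨i, rfl | rfl⟩ := hx x
    · rw [(h1 i _).1, map_pow]
    · rw [(h1 i _).2, map_mul, map_pow]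
  have hinj : Function.Injective toP := fun α β h => MulEquiv.ext fun x => by
    rw [happ, happ, h]
  have hsur : Function.Surjective toP := by
    rintro ⟨p, hp⟩
    have hmul : ∀ p : Q8 × Q8, ok p → ∀ x y : Q8, ext8 p (x * y) = ext8 p x * ext8 p y := by decide +kernel
    have hinj : ∀ p : Q8 × Q8, ok p → ∀ x y : Q8, ext8 p x = ext8 p y → x = y := by decide +kernel
    have hgen : ∀ p : Q8 × Q8, ext8 p A = p.1 ∧ ext8 p B = p.2 := by decide +kernel
    exact ⟨MulEquiv.ofBijective (MonoidHom.mk' (ext8 p) (hmul p hp))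
      (Finite.injective_iff_bijective.mp (hinj p hp)), Subtype.ext (Prod.ext (hgen p).1 (hgen p).2)⟩
  -- the action on the four classes of triples
  have hex : ∀ p : {p : Q8 × Q8 // ok p}, ∀ t : Fin 4, ∃ u : Fin 4, cls u ((tri t).image (ext8 p.1)) := by decide +kernel
  have huniq : ∀ u v : Fin 4, cls u (tri v) → u = v := by decide +kernel
  have hex' : ∀ (α : MulAut Q8) (t : Fin 4), ∃ u : Fin 4, cls u ((tri t).image α) := by
    intro α t
    obtain ⟨u, hu⟩ := hex (toP α) t
    exact ⟨u, by rwa [show (⇑α : Q8 → Q8) = ext8 (toP α).1 from funext (happ α)]⟩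
  choose β hβ using hex'
  have huni : ∀ (u v : Fin 4) (T : Finset Q8), cls u T → cls v T → u = v := by
    have hinv : ∀ u v : Fin 4, cls u ((tri v).image (·⁻¹)) → u = v := by decide +kernel
    rintro u v T hu (rfl | rfl)
    · exact huniq u v hu
    · exact hinv u v hu
  have hmap : ∀ (α : MulAut Q8) (u : Fin 4) (T : Finset Q8), cls u T → cls (β α u) (T.image α) := by
    intro α u T hT
    have h := hβ α u
    rcases hT with rfl | rfl
    · exact h
    · have e : ((tri u).image (·⁻¹)).image α = ((tri u).image α).image (·⁻¹) := by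
        rw [Finset.image_image, Finset.image_image]; congr 1; funext x; exact map_inv α x
      rw [e]
      rcases h with h | h
      · exact Or.inr (by rw [h])
      · refine Or.inl ?_
        rw [h, Finset.image_image]
        simp [Function.comp_def]
  have hcomp : ∀ α γ t, β (α * γ) t = β α (β γ t) := by
    intro α γ t
    refine huni _ _ _ (hβ (α * γ) t) ?_
    have e : (tri t).image ⇑(α * γ) = ((tri t).image γ).image α := by rw [Finset.image_image]; rfl
    rw [e]
    exact hmap α _ _ (hβ γ t)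
  have hone : ∀ t, β 1 t = t := fun t => huni _ _ _ (hβ 1 t) (Or.inl (by simp))
  let Φ : MulAut Q8 →* Equiv.Perm (Fin 4) := MonoidHom.mk'
    (fun α => ⟨β α, β α⁻¹, fun t => by rw [← hcomp, inv_mul_cancel, hone],
      fun t => by rw [← hcomp, mul_inv_cancel, hone]⟩)
    (fun α γ => Equiv.ext fun t => hcomp α γ t)
  have hker : ∀ p : {p : Q8 × Q8 // ok p}, (∀ t : Fin 4, cls t ((tri t).image (ext8 p.1))) → p.1 = (A, B) := by
    decide +kernel
  have hΦ : Function.Injective Φ := by
    rw [injective_iff_map_eq_one]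
    intro α hα
    apply hinj
    apply Subtype.ext
    rw [hker (toP α) fun t => ?_]
    · rfl
    have ht : β α t = t := Equiv.Perm.congr_fun hα t
    have := hβ α t
    rw [ht, show (⇑α : Q8 → Q8) = ext8 (toP α).1 from funext (happ α)] at this
    exact this
  refine ⟨MulEquiv.ofBijective Φ ?_⟩
  rw [Nat.bijective_iff_injective_and_card]
  refine ⟨hΦ, ?_⟩
  rw [Nat.card_congr (Equiv.ofBijective toP ⟨hinj, hsur⟩), Nat.card_eq_fintype_card, Nat.card_eq_fintype_card,
    Fintype.card_perm, Fintype.card_fin]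
  decide +kernel

end Cfsg.Agent.S3742
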