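import Cfsg.Statements.S3358
import Mathlib
import Cfsg.Agent.Lib.Frobenius.Complement
import Cfsg.Agent.Lib.Frobenius.More
import Cfsg.Agent.Lib.QuaternionSection
import Cfsg.Agent.Lib.PSolvable
import Cfsg.Agent.Lib.Basic
import Cfsg.Agent.S3742

set_option autoImplicit false
open Cfsg

namespace Cfsg.Agent.S3358

open Cfsg

/-- A group of order at most four embeds in `Sym(4)`. -/
theorem embed_four {X : Type*} [Group X] [Finite X] (h : Nat.card X ≤ 4) :
    ∃ f : X →* Equiv.Perm (Fin 4), Function.Injective f := by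
  classical
  haveI := Fintype.ofFinite X
  let ι : X ↪ Fin 4 := (Fintype.equivFin X).toEmbedding.trans (Fin.castLEEmb (by rwa [← Nat.card_eq_fintype_card]))
  refine ⟨(Equiv.Perm.viaEmbeddingHom ι).comp (MulAction.toPermHom X X), ?_⟩
  exact (Equiv.Perm.viaEmbeddingHom_injective ι).comp MulAction.toPerm_injective

/-- Two elements of prime orders, one normalizing the other, commute. -/
def PrimeCommute (G : Type*) [Group G] : Prop :=
  ∀ u w : G, (orderOf u).Prime → (orderOf w).Prime → orderOf u ≠ orderOf w → u * w * u⁻¹ ∈ Subgroup.zpowers w → u * w = w * u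

theorem dvd_pow_mul {n d : ℕ} (hn : 0 < n) (hd : d ∣ n) (h : ∀ p ∈ n.primeFactors, d ∣ n / p) :
    d ∣ n / ∏ p ∈ n.primeFactors, p := by
  classical
  have hprod : (∏ p ∈ n.primeFactors, p) ∣ n := Nat.prod_primeFactors_dvd n
  have hd0 : d ≠ 0 := fun e => hn.ne' (Nat.eq_zero_of_zero_dvd (e ▸ hd))
  rw [Nat.dvd_div_iff_mul_dvd hprod, ← Nat.factorization_le_iff_dvd (mul_ne_zero
    (Finset.prod_ne_zero_iff.mpr fun p hp => (Nat.prime_of_mem_primeFactors hp).ne_zero) hd0) hn.ne',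
    Nat.factorization_mul (Finset.prod_ne_zero_iff.mpr fun p hp => (Nat.prime_of_mem_primeFactors hp).ne_zero) hd0]
  intro p
  rw [Finsupp.add_apply, Nat.factorization_prod fun p hp => (Nat.prime_of_mem_primeFactors hp).ne_zero,
    Finsupp.finset_sum_apply]
  by_cases hp : p ∈ n.primeFactors
  · have hpp := Nat.prime_of_mem_primeFactors hp
    rw [Finset.sum_eq_single_of_mem p hp fun q hq hqp => by
      rw [(Nat.prime_of_mem_primeFactors hq).factorization, Finsupp.single_eq_of_ne hqp.symm],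
      hpp.factorization, Finsupp.single_eq_same]
    have hpn := Nat.dvd_of_mem_primeFactors hp
    have h1 := (Nat.factorization_le_iff_dvd hd0 (Nat.pos_iff_ne_zero.mp (Nat.div_pos (Nat.le_of_dvd hn hpn) hpp.pos))).mpr (h p hp) p
    rw [Nat.factorization_div hpn, Finsupp.tsub_apply, hpp.factorization, Finsupp.single_eq_same] at h1
    have h2 : 1 ≤ n.factorization p := hpp.factorization_pos_of_dvd hn.ne' hpn
    omega
  · rw [Finset.sum_eq_zero fun q hq => by
      rw [(Nat.prime_of_mem_primeFactors hq).factorization, Finsupp.single_eq_of_ne fun e => hp (by rw [e]; exact hq)], zero_add]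
    exact (Nat.factorization_le_iff_dvd hd0 hn.ne').mpr hd p

/-- An exponent that is `1` modulo every prime divisor of `m`, of order `p` prime to `m`. -/
theorem modEq_one {m t p : ℕ} (ht : t ^ p ≡ 1 [MOD m]) (hp : Nat.Coprime p m)
    (hq : ∀ q, q.Prime → q ∣ m → t ≡ 1 [MOD q]) : t ≡ 1 [MOD m] := by
  rw [← ZMod.natCast_eq_natCast_iff, Nat.cast_one] at ht ⊢
  rw [Nat.cast_pow] at ht
  have hS : IsUnit (∑ i ∈ Finset.range p, (t : ZMod m) ^ i) := by
    have hco : Nat.Coprime (∑ i ∈ Finset.range p, t ^ i) m := Nat.coprime_of_dvd' fun q hq' h1 h2 => by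
      have e : ((∑ i ∈ Finset.range p, t ^ i : ℕ) : ZMod q) = (p : ZMod q) := by
        have := (ZMod.natCast_eq_natCast_iff _ _ q).mpr (hq q hq' h2)
        simp [this]
      have h3 : (q : ℕ) ∣ p := by
        rw [(ZMod.natCast_eq_zero_iff _ q).mpr h1] at e
        exact (ZMod.natCast_eq_zero_iff p q).mp e.symm
      rw [Nat.eq_one_of_dvd_coprimes hp h3 h2]
    have := (ZMod.isUnit_iff_coprime _ m).mpr hco
    simpa using this
  exact sub_eq_zero.mp (hS.mul_right_eq_zero.mp (by rw [geom_sum_mul, ht, sub_self]))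

theorem conj_iter {G : Type*} [Group G] {x y : G} {r : ℕ} (h : x⁻¹ * y * x = y ^ r) (k : ℕ) :
    (x ^ k)⁻¹ * y * x ^ k = y ^ (r ^ k) := by
  induction k with
  | zero => simp
  | succ k ih =>
    calc (x ^ (k + 1))⁻¹ * y * x ^ (k + 1) = x⁻¹ * ((x ^ k)⁻¹ * y * x ^ k) * x⁻¹⁻¹ := by rw [pow_succ]; group
      _ = y ^ r ^ (k + 1) := by rw [ih, ← conj_pow, inv_inv, h, ← pow_mul, pow_succ']

/-- The presentation of a fixed-point-free group with cyclic Sylow subgroups. -/
theorem presentation {X : Type*} [Group X] [Finite X] [IsZGroup X] (hpc : PrimeCommute X) :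
    ∃ n m r : ℕ, 0 < n ∧ 0 < m ∧ Nat.Coprime (r - 1) m ∧ Nat.Coprime n m ∧ 1 ≤ r ∧
      r ^ (n / ∏ p ∈ n.primeFactors, p) % m = 1 % m ∧
      Nonempty (X ≃* PresentedGroup
        ({FreeGroup.of (0 : Fin 2) ^ n, FreeGroup.of (1 : Fin 2) ^ m,
          (FreeGroup.of (0 : Fin 2))⁻¹ * FreeGroup.of 1 * FreeGroup.of 0 * (FreeGroup.of (1 : Fin 2) ^ r)⁻¹} :
          Set (FreeGroup (Fin 2)))) := by
  classical
  have hcop := IsZGroup.coprime_commutator_index (G := X)
  obtain ⟨B, hB⟩ := Subgroup.exists_right_complement'_of_coprime hcop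
  have hBc : IsCyclic B :=
    hB.symm.QuotientMulEquiv.isCyclic.mp (inferInstanceAs (IsCyclic (Abelianization X)))
  have hMc : IsCyclic (commutator X) := IsZGroup.isCyclic_commutator X
  obtain ⟨⟨x, hxB⟩, hx⟩ := hBc.exists_generator
  obtain ⟨⟨y, hyM⟩, hy⟩ := hMc.exists_generator
  obtain ⟨n, hn⟩ : ∃ n, n = orderOf x := ⟨_, rfl⟩
  obtain ⟨m, hm⟩ : ∃ m, m = orderOf y := ⟨_, rfl⟩
  have hBz : B = Subgroup.zpowers x := le_antisymm (fun b hb => by
    obtain ⟨k, hk⟩ := hx ⟨b, hb⟩; exact ⟨k, congrArg Subtype.val hk⟩) (Subgroup.zpowers_le.mpr hxB)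
  have hMz : commutator X = Subgroup.zpowers y := le_antisymm (fun b hb => by
    obtain ⟨k, hk⟩ := hy ⟨b, hb⟩; exact ⟨k, congrArg Subtype.val hk⟩) (Subgroup.zpowers_le.mpr hyM)
  have hnB : n = Nat.card B := by rw [hn, hBz, Nat.card_zpowers]
  have hmM : m = Nat.card (commutator X) := by rw [hm, hMz, Nat.card_zpowers]
  have hnpos : 0 < n := hn ▸ orderOf_pos x
  have hmpos : 0 < m := hm ▸ orderOf_pos y
  have hnm : Nat.Coprime n m := by
    rw [hB.symm.index_eq_card, ← hnB, ← hmM] at hcop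
    exact hcop.symm
  -- the exponent
  obtain ⟨t, ht⟩ : ∃ t : ℕ, y ^ t = x⁻¹ * y * x := by
    have h1 : x⁻¹ * y * x⁻¹⁻¹ ∈ Subgroup.zpowers y := hMz ▸ (inferInstance : (commutator X).Normal).conj_mem y hyM x⁻¹
    rw [inv_inv] at h1
    exact mem_powers_iff_mem_zpowers.mpr h1
  obtain ⟨r, hr⟩ : ∃ r, r = t + m := ⟨_, rfl⟩
  have hyr : x⁻¹ * y * x = y ^ r := by rw [hr, pow_add, hm, pow_orderOf_eq_one, mul_one, ht]
  have hr1 : 1 ≤ r := by omega
  -- coprimality with r - 1
  have hrm : Nat.Coprime (r - 1) m := by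
    obtain ⟨D, hD⟩ : ∃ D, D = Subgroup.zpowers (y ^ (r - 1)) := ⟨_, rfl⟩
    have hDn : D.Normal := by
      rw [← Subgroup.normalizer_eq_top_iff, ← top_le_iff, ← hB.sup_eq_top, sup_le_iff]
      have hxD : x⁻¹ ∈ Subgroup.normalizer (D : Set X) := by
        rw [hD]
        refine Subgroup.mem_normalizer_fintype ?_
        rintro _ ⟨k, rfl⟩
        refine ⟨r * k, ?_⟩
        show (y ^ (r - 1)) ^ ((r : ℤ) * k) = x⁻¹ * (y ^ (r - 1)) ^ k * x⁻¹⁻¹
        rw [zpow_mul, zpow_natCast, ← conj_zpow, ← conj_pow, inv_inv, hyr, ← pow_mul, ← pow_mul, mul_comm r]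
      constructor
      · rw [hMz, Subgroup.zpowers_le, hD]
        refine Subgroup.mem_normalizer_iff.mpr fun h => ?_
        constructor
        · rintro ⟨k, rfl⟩
          refine ⟨k, ?_⟩
          show (y ^ (r - 1)) ^ k = y * (y ^ (r - 1)) ^ k * y⁻¹
          rw [(((Commute.refl y).pow_right (r - 1)).zpow_right k).eq, mul_inv_cancel_right]
        · rintro ⟨k, hk⟩
          refine ⟨k, ?_⟩
          have e : h = y⁻¹ * (y * h * y⁻¹) * y := by group
          show (y ^ (r - 1)) ^ k = h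
          rw [e, ← hk, mul_assoc, ← (((Commute.refl y).pow_right (r - 1)).zpow_right k).eq, inv_mul_cancel_left]
      · rw [hBz, Subgroup.zpowers_le]
        simpa using inv_mem hxD
    have hq : ∀ u : X ⧸ D, ∀ v, u * v = v * u := by
      have hgen : Subgroup.closure {(x : X ⧸ D), (y : X ⧸ D)} = ⊤ := by
        rw [eq_top_iff]
        intro u _
        induction u using QuotientGroup.induction_on with
        | H g =>
          obtain ⟨⟨a, b⟩, rfl⟩ := hB.2 g
          obtain ⟨i, hi⟩ := (hMz ▸ a.2 : (a : X) ∈ Subgroup.zpowers y)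
          obtain ⟨j, hj⟩ := (hBz ▸ b.2 : (b : X) ∈ Subgroup.zpowers x)
          show (((a : X) * b : X) : X ⧸ D) ∈ _
          rw [← hi, ← hj, QuotientGroup.mk_mul, QuotientGroup.mk_zpow, QuotientGroup.mk_zpow]
          exact mul_mem (zpow_mem (Subgroup.subset_closure (by simp)) i) (zpow_mem (Subgroup.subset_closure (by simp)) j)
      have hxy : (x : X ⧸ D) * y = y * x := by
        rw [← QuotientGroup.mk_mul, ← QuotientGroup.mk_mul, eq_comm, QuotientGroup.eq]
        have : (y * x)⁻¹ * (x * y) = (y ^ r)⁻¹ * y := by rw [← hyr]; group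
        rw [this, hD, show r = r - 1 + 1 by omega, pow_succ', mul_inv_rev, inv_mul_cancel_right, Nat.add_sub_cancel]
        exact inv_mem (Subgroup.mem_zpowers _)
      intro u v
      have hu : u ∈ Subgroup.closure {(x : X ⧸ D), (y : X ⧸ D)} := hgen ▸ Subgroup.mem_top u
      have hv : v ∈ Subgroup.closure {(x : X ⧸ D), (y : X ⧸ D)} := hgen ▸ Subgroup.mem_top v
      induction hu, hv using Subgroup.closure_induction₂ with
      | mem a b ha hb =>
        simp only [Set.mem_insert_iff, Set.mem_singleton_iff] at ha hb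
        rcases ha with rfl | rfl <;> rcases hb with rfl | rfl
        · rfl
        · exact hxy
        · exact hxy.symm
        · rfl
      | one_left => simp
      | one_right => simp
      | mul_left a b c _ _ _ h1 h2 => exact Commute.mul_left h1 h2
      | mul_right a b c _ _ _ h1 h2 => exact Commute.mul_right h1 h2
      | inv_left a b _ _ h1 => exact Commute.inv_left h1
      | inv_right a b _ _ h1 => exact Commute.inv_right h1
    have hle : commutator X ≤ D := by
      rw [commutator_def, Subgroup.commutator_le]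
      intro a _ b _
      refine (QuotientGroup.eq_one_iff (N := D) _).mp ?_
      rw [commutatorElement_def, QuotientGroup.mk_mul, QuotientGroup.mk_mul, QuotientGroup.mk_mul, QuotientGroup.mk_inv,
        QuotientGroup.mk_inv, hq (a : X ⧸ D), mul_assoc (b : X ⧸ D), mul_inv_cancel, mul_one, mul_inv_cancel]
    have h1 : m ∣ orderOf (y ^ (r - 1)) := by
      rw [hmM, ← Nat.card_zpowers, ← hD]
      exact Subgroup.card_dvd_of_le hle
    rw [orderOf_pow, ← hm] at h1
    have h2 := Nat.gcd_dvd_left m (r - 1)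
    have h3 : Nat.gcd m (r - 1) = 1 := by
      obtain ⟨c, hc⟩ := h1
      have h4 := Nat.div_mul_cancel h2
      have hd : 0 < Nat.gcd m (r - 1) := Nat.gcd_pos_of_pos_left _ hmpos
      have : m / Nat.gcd m (r - 1) ≤ m := Nat.div_le_self _ _
      rcases Nat.eq_zero_or_pos c with rfl | hc0
      · rw [mul_zero] at hc; rw [hc, zero_mul] at h4; omega
      · have h5 : m ≤ m / Nat.gcd m (r - 1) := hc ▸ Nat.le_mul_of_pos_right m hc0
        have h6 : m / Nat.gcd m (r - 1) = m := le_antisymm this h5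
        rw [h6] at h4
        exact Nat.eq_of_mul_eq_mul_left hmpos (h4.trans (mul_one m).symm)
    rw [Nat.coprime_comm]; exact h3
  have hxn : r ^ n ≡ 1 [MOD m] := by
    have := conj_iter hyr n
    rw [hn, pow_orderOf_eq_one, inv_one, one_mul, mul_one, ← hn] at this
    rw [hm, ← pow_eq_pow_iff_modEq, pow_one]
    exact this.symm
  -- the condition on the exponent
  have hcond : r ^ (n / ∏ p ∈ n.primeFactors, p) % m = 1 % m := by
    have hone : ∀ k, ((r : ZMod m) ^ k = 1) ↔ r ^ k ≡ 1 [MOD m] := fun k => by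
      rw [← ZMod.natCast_eq_natCast_iff, Nat.cast_pow, Nat.cast_one]
    refine (hone _).mp (orderOf_dvd_iff_pow_eq_one.mp (dvd_pow_mul hnpos
      (orderOf_dvd_iff_pow_eq_one.mpr ((hone n).mpr hxn)) fun p hp => orderOf_dvd_iff_pow_eq_one.mpr ((hone _).mpr ?_)))
    have hpp := Nat.prime_of_mem_primeFactors hp
    have hpn := Nat.dvd_of_mem_primeFactors hp
    obtain ⟨u, hu⟩ : ∃ u, u = x ^ (n / p) := ⟨_, rfl⟩
    have huo : orderOf u = p := hu ▸ hn ▸ orderOf_pow_orderOf_div (orderOf_pos x).ne' (hn ▸ hpn)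
    have huy : u⁻¹ * y * u = y ^ (r ^ (n / p)) := hu ▸ conj_iter hyr _
    refine modEq_one (p := p) ?_ (Nat.Coprime.coprime_dvd_left hpn hnm) fun q hq hqm => ?_
    · rw [← pow_mul, Nat.div_mul_cancel hpn]; exact hxn
    · obtain ⟨w, hw⟩ : ∃ w, w = y ^ (m / q) := ⟨_, rfl⟩
      have hwo : orderOf w = q := hw ▸ hm ▸ orderOf_pow_orderOf_div (orderOf_pos y).ne' (hm ▸ hqm)
      have e1 : u⁻¹ * w * u⁻¹⁻¹ = w ^ (r ^ (n / p)) := by
        rw [hw, ← conj_pow, inv_inv, huy, ← pow_mul, ← pow_mul, mul_comm]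
      have hcomm : u⁻¹ * w = w * u⁻¹ := hpc u⁻¹ w (by rw [orderOf_inv, huo]; exact hpp) (hwo ▸ hq)
        (by rw [orderOf_inv, huo, hwo]; exact fun e => hq.ne_one (Nat.eq_one_of_dvd_coprimes hnm (e ▸ hpn) hqm))
        (by rw [e1]; exact Subgroup.pow_mem _ (Subgroup.mem_zpowers w) _)
      rw [hcomm, mul_inv_cancel_right] at e1
      rw [← hwo, ← pow_eq_pow_iff_modEq, pow_one]
      exact e1.symm
  refine ⟨n, m, r, hnpos, hmpos, hrm, hnm, hr1, hcond, ?_⟩
  -- the presentation
  obtain ⟨rels, hrels⟩ : ∃ rels, rels = ({FreeGroup.of (0 : Fin 2) ^ n, FreeGroup.of (1 : Fin 2) ^ m,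
      (FreeGroup.of (0 : Fin 2))⁻¹ * FreeGroup.of 1 * FreeGroup.of 0 * (FreeGroup.of (1 : Fin 2) ^ r)⁻¹} :
      Set (FreeGroup (Fin 2))) := ⟨_, rfl⟩
  rw [← hrels]
  let f : Fin 2 → X := ![x, y]
  have hf : ∀ w ∈ rels, FreeGroup.lift f w = 1 := by
    rw [hrels]
    rintro w (rfl | rfl | rfl)
    · simp [f, hn, pow_orderOf_eq_one]
    · simp [f, hm, pow_orderOf_eq_one]
    · simp [f, hyr]
  let θ : PresentedGroup rels →* X := PresentedGroup.toGroup hf
  have hsurj : Function.Surjective θ := by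
    intro g
    obtain ⟨⟨a, b⟩, rfl⟩ := hB.2 g
    obtain ⟨i, hi⟩ := (hMz ▸ a.2 : (a : X) ∈ Subgroup.zpowers y)
    obtain ⟨j, hj⟩ := (hBz ▸ b.2 : (b : X) ∈ Subgroup.zpowers x)
    refine ⟨PresentedGroup.of 1 ^ i * PresentedGroup.of 0 ^ j, ?_⟩
    rw [map_mul, map_zpow, map_zpow, PresentedGroup.toGroup.of, PresentedGroup.toGroup.of]
    exact congrArg₂ (· * ·) hi hj
  -- the presented group is small
  obtain ⟨a, ha⟩ : ∃ a : PresentedGroup rels, a = PresentedGroup.of 0 := ⟨_, rfl⟩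
  obtain ⟨b, hb⟩ : ∃ b : PresentedGroup rels, b = PresentedGroup.of 1 := ⟨_, rfl⟩
  have han : a ^ n = 1 := by
    rw [ha]; exact PresentedGroup.mk_eq_one_iff.mpr (Subgroup.subset_normalClosure (by rw [hrels]; simp))
  have hbm : b ^ m = 1 := by
    rw [hb]; exact PresentedGroup.mk_eq_one_iff.mpr (Subgroup.subset_normalClosure (by rw [hrels]; simp))
  have hba : a⁻¹ * b * a = b ^ r := by
    rw [ha, hb, ← mul_inv_eq_one]
    exact PresentedGroup.mk_eq_one_iff.mpr (Subgroup.subset_normalClosure (by rw [hrels]; simp))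
  have hbk : ∀ i j : ℕ, b ^ j * a ^ i = a ^ i * b ^ (r ^ i * j) := fun i j => by
    rw [pow_mul, ← conj_iter hba i]
    calc b ^ j * a ^ i = a ^ i * ((a ^ i)⁻¹ * b ^ j * (a ^ i)⁻¹⁻¹) := by rw [inv_inv]; group
      _ = a ^ i * ((a ^ i)⁻¹ * b * a ^ i) ^ j := by
        rw [← inv_inv (a ^ i), ← conj_pow]; simp
  haveI : NeZero n := ⟨hnpos.ne'⟩
  haveI : NeZero m := ⟨hmpos.ne'⟩
  let Φ : Fin n × Fin m → PresentedGroup rels := fun ij => a ^ (ij.1 : ℕ) * b ^ (ij.2 : ℕ)
  have hΦ : ∀ i j : ℕ, a ^ i * b ^ j ∈ Set.range Φ := fun i j =>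
    ⟨(⟨i % n, Nat.mod_lt _ hnpos⟩, ⟨j % m, Nat.mod_lt _ hmpos⟩), by
      show a ^ (i % n) * b ^ (j % m) = _
      rw [← pow_eq_pow_mod i han, ← pow_eq_pow_mod j hbm]⟩
  have hΦs : Function.Surjective Φ := by
    intro g
    show g ∈ Set.range Φ
    induction g using PresentedGroup.induction_on with
    | H z =>
      have hz : z ∈ Subgroup.closure (Set.range (FreeGroup.of : Fin 2 → FreeGroup (Fin 2))) := by
        rw [FreeGroup.closure_range_of]; trivial
      induction hz using Subgroup.closure_induction_left with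
      | one => simpa using hΦ 0 0
      | mul_left s hs w _ ih =>
        obtain ⟨⟨i, j⟩, hij⟩ := ih
        obtain ⟨k, rfl⟩ := hs
        rw [map_mul, ← hij]
        show PresentedGroup.of k * (a ^ (i : ℕ) * b ^ (j : ℕ)) ∈ _
        fin_cases k
        · show PresentedGroup.of 0 * _ ∈ _
          rw [← ha, ← mul_assoc, ← pow_succ']; exact hΦ _ _
        · show PresentedGroup.of 1 * _ ∈ _
          rw [← hb, ← mul_assoc, ← pow_one b, hbk, pow_one, mul_assoc, ← pow_add]; exact hΦ _ _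
      | inv_mul_cancel s hs w _ ih =>
        obtain ⟨⟨i, j⟩, hij⟩ := ih
        obtain ⟨k, rfl⟩ := hs
        rw [map_mul, map_inv, ← hij]
        show (PresentedGroup.of k)⁻¹ * (a ^ (i : ℕ) * b ^ (j : ℕ)) ∈ _
        fin_cases k
        · show (PresentedGroup.of 0)⁻¹ * _ ∈ _
          rw [← ha, inv_eq_of_mul_eq_one_right (show a * a ^ (n - 1) = 1 by rw [← pow_succ', Nat.sub_add_cancel hnpos, han]),
            ← mul_assoc, ← pow_add]
          exact hΦ _ _
        · show (PresentedGroup.of 1)⁻¹ * _ ∈ _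
          rw [← hb, inv_eq_of_mul_eq_one_right (show b * b ^ (m - 1) = 1 by rw [← pow_succ', Nat.sub_add_cancel hmpos, hbm]),
            ← mul_assoc, hbk, mul_assoc, ← pow_add]
          exact hΦ _ _
  haveI : Finite (PresentedGroup rels) := Finite.of_surjective Φ hΦs
  have hcard : Nat.card (PresentedGroup rels) ≤ Nat.card X := by
    refine (Nat.card_le_card_of_surjective Φ hΦs).trans ?_
    rw [Nat.card_prod, Nat.card_fin, Nat.card_fin, hnB, hmM, mul_comm, hB.card_mul]
  exact ⟨(MulEquiv.ofBijective θ (hsurj.bijective_of_nat_card_le hcard)).symm⟩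

/-- Odd-order normal kernel: the structure of the top. -/
theorem exists_top {G : Type*} [Group G] [Finite G] [Group.IsSolvable G] (S : Sylow 2 G) {k : ℕ}
    (e : (S : Subgroup G) ≃* QuaternionGroup (2 ^ k)) :
    ∃ (G₀ : Subgroup G) (f : G →* Equiv.Perm (Fin 4)), f.ker = G₀ ∧
      ∀ P : Subgroup G, P ≤ G₀ → IsPGroup 2 P → IsCyclic P := by
  classical
  haveI : Fact (Nat.Prime 2) := ⟨Nat.prime_two⟩
  haveI : NeZero (2 ^ k) := ⟨by positivity⟩
  obtain ⟨O, hO⟩ : ∃ O, O = pPrimeCore 2 G := ⟨_, rfl⟩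
  haveI : O.Normal := hO ▸ inferInstance
  have hOodd : ¬ 2 ∣ Nat.card O := hO ▸ CfsgLib.not_dvd_card_pPrimeCore Nat.prime_two
  obtain ⟨π, hπ⟩ : ∃ π : G →* G ⧸ O, π = QuotientGroup.mk' O := ⟨_, rfl⟩
  have hπs : Function.Surjective π := hπ ▸ QuotientGroup.mk'_surjective O
  have hπinj : ∀ P : Subgroup G, IsPGroup 2 P → Function.Injective (π.comp P.subtype) := by
    intro P hP
    rw [injective_iff_map_eq_one]
    intro a ha
    obtain ⟨j, hj⟩ := hP a
    have ha' : (a : G) ∈ O := (QuotientGroup.eq_one_iff _).mp (by rw [hπ] at ha; exact ha)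
    have h1 : orderOf (a : G) ∣ 2 ^ j := orderOf_dvd_of_pow_eq_one (congrArg Subtype.val hj)
    have h2 := Nat.Coprime.pow_left j (Nat.prime_two.coprime_iff_not_dvd.mpr hOodd)
    exact Subtype.ext (orderOf_eq_one_iff.mp (Nat.eq_one_of_dvd_coprimes h2 h1 (O.orderOf_dvd_natCard ha')))
  obtain ⟨S', hS'⟩ : ∃ S' : Sylow 2 (G ⧸ O), S' = S.mapSurjective hπs := ⟨_, rfl⟩
  let eS : (S : Subgroup G) ≃* (S' : Subgroup (G ⧸ O)) :=
    (MonoidHom.ofInjective (hπinj _ S.isPGroup')).trans (MulEquiv.subgroupCongr (by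
      rw [hS', Sylow.coe_mapSurjective, MonoidHom.range_comp, Subgroup.range_subtype]))
  have hu : CfsgLib.Frob.UniqSub 2 (S' : Subgroup (G ⧸ O)) :=
    CfsgLib.QuatSection.uniqSub_of_equiv (eS.symm.trans e) (CfsgLib.QuatSection.uniqSub_quaternion k)
  obtain ⟨R, hR⟩ : ∃ R, R = pCore 2 (G ⧸ O) := ⟨_, rfl⟩
  haveI : R.Normal := hR ▸ inferInstance
  have hCR : Subgroup.centralizer (R : Set (G ⧸ O)) ≤ R := by
    subst hR
    subst hO
    exact CfsgLib.centralizer_pCore_le Nat.prime_two (CfsgLib.pPrimeCore_quotient_eq_bot 2)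
  have hRS : R ≤ (S' : Subgroup (G ⧸ O)) := hR ▸ CfsgLib.pCore_le_sylow S'
  have hRp : IsPGroup 2 R := hR ▸ CfsgLib.isPGroup_pCore 2
  by_cases hmov : ∃ g : G ⧸ O, Odd (orderOf g) ∧ g ∉ Subgroup.centralizer (R : Set (G ⧸ O))
  · obtain ⟨g, hgo, hgC⟩ := hmov
    obtain ⟨eR⟩ := CfsgLib.QuatSection.q8_of_moved hRp
      (CfsgLib.QuatSection.uniqSub_of_equiv (Subgroup.subgroupOfEquivOfLe hRS).symm (hu.sub _))
      (by rw [Subgroup.normalizer_eq_top]; exact Subgroup.mem_top g) hgC hgo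
    obtain ⟨e4⟩ := Cfsg.Agent.S3742.result
    let φ : G ⧸ O →* Equiv.Perm (Fin 4) := e4.toMonoidHom.comp ((MulAut.congr eR).toMonoidHom.comp MulAut.conjNormal)
    refine ⟨(φ.comp π).ker, φ.comp π, rfl, fun P hP hP2 => ?_⟩
    have hmem : ∀ a ∈ P, ∀ b : R, π a * b = b * π a := fun a ha b => by
      have h1 : (MulAut.conjNormal (π a) : MulAut R) = 1 :=
        (MulAut.congr eR).injective (e4.injective ((MonoidHom.mem_ker.mp (hP ha) : φ (π a) = 1).trans (by rw [map_one, map_one])))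
      have h2 := congrArg Subtype.val (DFunLike.congr_fun h1 b)
      change π a * b * (π a)⁻¹ = b at h2
      exact mul_inv_eq_iff_eq_mul.mp h2
    -- the image lies in the centre of the quaternion group
    let ψ : P →* Subgroup.center R :=
      { toFun := fun a => ⟨⟨π a, hCR (Subgroup.mem_centralizer_iff.mpr fun b hb => (hmem a a.2 ⟨b, hb⟩).symm)⟩,
          Subgroup.mem_center_iff.mpr fun b => Subtype.ext (hmem a a.2 b).symm⟩
        map_one' := Subtype.ext (Subtype.ext (map_one π))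
        map_mul' := fun a b => Subtype.ext (Subtype.ext (map_mul π _ _)) }
    have hψ : Function.Injective ψ := fun a b hab => hπinj P hP2 (congrArg (fun c : Subgroup.center R => ((c : R) : G ⧸ O)) hab)
    haveI : IsCyclic (Subgroup.center (QuaternionGroup 2)) := by
      have h2 : Nat.card (Subgroup.center (QuaternionGroup 2)) = 2 := by
        rw [Nat.card_eq_fintype_card]; decide
      exact isCyclic_of_prime_card h2
    haveI : IsCyclic (Subgroup.center R) := by
      refine isCyclic_of_injective (f := (eR.toMonoidHom.comp (Subgroup.center R).subtype).codRestrict (Subgroup.center (QuaternionGroup 2)) fun c => ?_) fun a b hab => Subtype.ext (eR.injective (congrArg Subtype.val hab))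
      rw [Subgroup.mem_center_iff]
      intro w
      obtain ⟨w, rfl⟩ := eR.surjective w
      show eR w * eR c = eR c * eR w
      rw [← map_mul, ← map_mul, Subgroup.mem_center_iff.mp c.2 w]
    exact isCyclic_of_injective ψ hψ
  · push Not at hmov
    -- the quotient is a `2`-group
    have htop : (S' : Subgroup (G ⧸ O)) = ⊤ := by
      by_contra h
      have h1 : (S' : Subgroup (G ⧸ O)).index ≠ 1 := fun e1 => h (Subgroup.index_eq_one.mp e1)
      obtain ⟨q, hq, hqd⟩ := Nat.exists_prime_and_dvd h1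
      have := Fact.mk hq
      obtain ⟨g, hg⟩ := exists_prime_orderOf_dvd_card' (G := G ⧸ O) q (hqd.trans (Subgroup.index_dvd_card _))
      have hq2 : q ≠ 2 := fun e1 => S'.not_dvd_index (e1 ▸ hqd)
      have hgR := hCR (hmov g (hg ▸ hq.odd_of_ne_two hq2))
      obtain ⟨j, hj⟩ := hRp ⟨g, hgR⟩
      have h2 := orderOf_dvd_of_pow_eq_one (congrArg Subtype.val hj)
      rw [hg] at h2
      exact hq2 ((Nat.prime_dvd_prime_iff_eq hq Nat.prime_two).mp (hq.dvd_of_dvd_pow h2))
    let eQ : G ⧸ O ≃* QuaternionGroup (2 ^ k) :=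
      (Subgroup.topEquiv.symm.trans (MulEquiv.subgroupCongr htop.symm)).trans (eS.symm.trans e)
    obtain ⟨A, hA⟩ : ∃ A, A = Subgroup.zpowers (QuaternionGroup.a 1 : QuaternionGroup (2 ^ k)) := ⟨_, rfl⟩
    have hAi : A.index = 2 := by
      have := A.card_mul_index
      rw [hA, Nat.card_zpowers, QuaternionGroup.orderOf_a_one, Nat.card_eq_fintype_card, QuaternionGroup.card] at this
      rw [hA]
      exact Nat.eq_of_mul_eq_mul_left (show 0 < 2 * 2 ^ k by positivity) (by rw [this]; ring)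
    haveI := Subgroup.normal_of_index_eq_two hAi
    obtain ⟨f4, hf4⟩ := embed_four (X := QuaternionGroup (2 ^ k) ⧸ A) (by
      rw [← Subgroup.index_eq_card, hAi]; norm_num)
    let F : G →* Equiv.Perm (Fin 4) := f4.comp ((QuotientGroup.mk' A).comp (eQ.toMonoidHom.comp π))
    refine ⟨F.ker, F, rfl, fun P hP hP2 => ?_⟩
    have hmem : ∀ a : P, (eQ.toMonoidHom.comp (π.comp P.subtype)) a ∈ A := fun a =>
      (QuotientGroup.eq_one_iff _).mp (hf4 ((MonoidHom.mem_ker.mp (hP a.2)).trans (map_one f4).symm))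
    haveI : IsCyclic A := by rw [hA]; infer_instance
    exact isCyclic_of_injective (f := (eQ.toMonoidHom.comp (π.comp P.subtype)).codRestrict A hmem)
      fun a b hab => hπinj P hP2 (eQ.injective (congrArg Subtype.val hab))


/-- Structure of solvable Frobenius complements. Let G be a finite solvable group that occurs as a Frobenius complement. Then G has a normal subgroup G₀ such that G/G₀ is isomorphic to a subgroup of Sym(4) (G₀ is the kernel of a homomorphism to Sym(4)), all Sylow subgroups of G₀ are cyclic, and G₀ has a presentation ⟨x, y | x^n = 1, y^m = 1, x⁻¹ y x = y^r⟩ with n, m ≥ 1, gcd(r − 1, m) = gcd(n, m) = 1 and r^(n/n′) ≡ 1 (mod m), where n′ is the product of the distinct primes dividing n. -/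
theorem result {G : Type*} [Group G] [Finite G] (hsol : Group.IsSolvable G)
    (hFC : ∃ (L : Type) (_ : Group L) (_ : Finite L) (H : Subgroup L), Cfsg.IsFrobeniusComplement H ∧ Nonempty (G ≃* H)) :
    ∃ G₀ : Subgroup G, G₀.Normal ∧
      (∃ f : G →* Equiv.Perm (Fin 4), f.ker = G₀) ∧
      (∀ (p : ℕ) [Fact p.Prime] (P : Sylow p G₀), IsCyclic P) ∧
      ∃ n m r : ℕ, 0 < n ∧ 0 < m ∧ Nat.Coprime (r - 1) m ∧ Nat.Coprime n m ∧ 1 ≤ r ∧
        r ^ (n / ∏ p ∈ n.primeFactors, p) % m = 1 % m ∧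
        Nonempty (G₀ ≃* PresentedGroup
          ({FreeGroup.of (0 : Fin 2) ^ n, FreeGroup.of (1 : Fin 2) ^ m,
            (FreeGroup.of (0 : Fin 2))⁻¹ * FreeGroup.of 1 * FreeGroup.of 0 * (FreeGroup.of (1 : Fin 2) ^ r)⁻¹} :
            Set (FreeGroup (Fin 2)))) := by
  classical
  obtain ⟨L, _, _, H, hH, ⟨e⟩⟩ := hFC
  obtain ⟨N, -, hNn, hcN⟩ := CfsgLib.Frob.exists_kernel hH
  have hN1 : N ≠ ⊥ := CfsgLib.Frob.kernel_ne_bot hH hcN
  obtain ⟨V, hVc, hV1, hHV, hfpf⟩ := CfsgLib.Frob.exists_abelian_module hcN hN1 hH.1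
    fun h hh h1 => CfsgLib.Frob.fpf_of_frob hcN.disjoint hH hh h1
  haveI := hVc
  let ι : G →* L := H.subtype.comp e.toMonoidHom
  have hι : Function.Injective ι := H.subtype_injective.comp e.injective
  -- Sylow subgroups
  have hSyl : ∀ (p : ℕ) [Fact p.Prime] (P : Sylow p G),
      IsCyclic P ∨ ∃ k : ℕ, Nonempty ((P : Subgroup G) ≃* QuaternionGroup (2 ^ k)) := by
    intro p _ P
    let eP : (P : Subgroup G) ≃* ((P.mapSurjective (f := e.toMonoidHom) e.surjective : Sylow p H) : Subgroup H) :=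
      (Subgroup.equivMapOfInjective _ e.toMonoidHom e.injective).trans
        (MulEquiv.subgroupCongr (Sylow.coe_mapSurjective e.surjective P).symm)
    rcases CfsgLib.Frob.sylow_cyclic_or_quaternion hV1 hHV hfpf (P.mapSurjective (f := e.toMonoidHom) e.surjective) with h | ⟨k, ⟨f⟩⟩
    · exact Or.inl (eP.isCyclic.mpr h)
    · exact Or.inr ⟨k, ⟨eP.trans f⟩⟩
  -- elements of prime orders commute
  have hpcG : ∀ u w : G, (orderOf u).Prime → (orderOf w).Prime → orderOf u ≠ orderOf w →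
      u * w * u⁻¹ ∈ Subgroup.zpowers w → u * w = w * u := by
    intro u w hu hw hne hmem
    haveI := Fact.mk hw
    let A : Subgroup G := Subgroup.zpowers w ⊔ Subgroup.zpowers u
    have hle : Subgroup.zpowers u ≤ Subgroup.normalizer (Subgroup.zpowers w : Set G) := by
      rw [Subgroup.zpowers_le]
      refine Subgroup.mem_normalizer_fintype ?_
      rintro _ ⟨i, rfl⟩
      show u * w ^ i * u⁻¹ ∈ Subgroup.zpowers w
      rw [← conj_zpow]
      exact Subgroup.zpow_mem _ hmem i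
    have hA : Nat.card A = orderOf w * orderOf u := by
      have h1 : orderOf w * orderOf u ∣ Nat.card A := Nat.Coprime.mul_dvd_of_dvd_of_dvd ((Nat.coprime_primes hw hu).mpr hne.symm)
        (A.orderOf_dvd_natCard (Subgroup.mem_sup_left (Subgroup.mem_zpowers w)))
        (A.orderOf_dvd_natCard (Subgroup.mem_sup_right (Subgroup.mem_zpowers u)))
      refine le_antisymm ?_ (Nat.le_of_dvd Nat.card_pos h1)
      rw [← Nat.card_zpowers w, ← Nat.card_zpowers u, ← Nat.card_prod]
      refine Nat.card_le_card_of_surjective (fun p => (⟨p.1 * p.2, Subgroup.mul_mem_sup p.1.2 p.2.2⟩ : A)) ?_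
      rintro ⟨g, hg⟩
      have : g ∈ ((Subgroup.zpowers w ⊔ Subgroup.zpowers u : Subgroup G) : Set G) := hg
      rw [Subgroup.coe_mul_of_right_le_normalizer_left _ _ hle] at this
      obtain ⟨a, ha, b, hb, rfl⟩ := this
      exact ⟨(⟨a, ha⟩, ⟨b, hb⟩), rfl⟩
    have hAH : A.map ι ≤ H := by rintro _ ⟨a, -, rfl⟩; exact (e a).2
    have hcyc := CfsgLib.Frob.isCyclic_of_fpf_pq hV1 (A := A.map ι) (hAH.trans hHV)
      (fun a ha => hfpf a (hAH ha)) hw hu (by rw [Subgroup.card_map_of_injective hι, hA])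
    haveI : IsMulCommutative (A.map ι) := inferInstance
    exact hι (by
      rw [map_mul, map_mul]
      exact congrArg Subtype.val ((IsMulCommutative.is_comm (M := A.map ι)).comm
        ⟨ι u, Subgroup.mem_map_of_mem ι (Subgroup.mem_sup_right (Subgroup.mem_zpowers u))⟩
        ⟨ι w, Subgroup.mem_map_of_mem ι (Subgroup.mem_sup_left (Subgroup.mem_zpowers w))⟩))
  -- choose the kernel
  obtain ⟨G₀, f, hf, hP2⟩ : ∃ (G₀ : Subgroup G) (f : G →* Equiv.Perm (Fin 4)), f.ker = G₀ ∧
      ∀ P : Subgroup G, P ≤ G₀ → IsPGroup 2 P → IsCyclic P := by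
    haveI : Fact (Nat.Prime 2) := ⟨Nat.prime_two⟩
    obtain ⟨S⟩ : Nonempty (Sylow 2 G) := inferInstance
    rcases hSyl 2 S with hc | ⟨k, ⟨eS⟩⟩
    · refine ⟨⊤, 1, MonoidHom.ker_one, fun P _ hP => ?_⟩
      obtain ⟨Q, hQ⟩ := hP.exists_le_sylow
      haveI : IsCyclic (Q : Subgroup G) := by
        obtain ⟨g, rfl⟩ := MulAction.exists_smul_eq G S Q
        exact (S.equivSMul g).isCyclic.mp hc
      exact Subgroup.isCyclic_of_le hQ
    · exact exists_top S eS
  refine ⟨G₀, hf ▸ f.normal_ker, ⟨f, hf⟩, ?_⟩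
  have hcyc : ∀ (p : ℕ) [Fact p.Prime] (P : Sylow p G₀), IsCyclic P := by
    intro p hp P
    let Pm : Subgroup G := (P : Subgroup G₀).map G₀.subtype
    have hPm : IsPGroup p Pm := P.isPGroup'.map _
    suffices IsCyclic Pm from ((P : Subgroup G₀).equivMapOfInjective _ G₀.subtype_injective).isCyclic.mpr this
    rcases eq_or_ne p 2 with rfl | hp2
    · exact hP2 Pm (Subgroup.map_subtype_le _) hPm
    · obtain ⟨Q, hQ⟩ := hPm.exists_le_sylow
      rcases hSyl p Q with h | ⟨k, ⟨eq⟩⟩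
      · exact Subgroup.isCyclic_of_le hQ
      · exfalso
        haveI : NeZero (2 ^ k) := ⟨by positivity⟩
        obtain ⟨j, hj⟩ := Q.isPGroup'.exists_card_eq
        have h1 : (2 : ℕ) ∣ p ^ j := by
          rw [← hj, Nat.card_congr eq.toEquiv, Nat.card_eq_fintype_card, QuaternionGroup.card]
          exact Dvd.intro (2 * 2 ^ k) (by ring)
        exact hp2 ((Nat.prime_dvd_prime_iff_eq Nat.prime_two hp.out).mp (Nat.prime_two.dvd_of_dvd_pow h1)).symm
  refine ⟨hcyc, ?_⟩
  haveI : IsZGroup G₀ := ⟨fun p hp P => @hcyc p ⟨hp⟩ P⟩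
  refine presentation fun u w hu hw hne hmem => Subtype.ext (hpcG u w (by rwa [Subgroup.orderOf_coe]) (by rwa [Subgroup.orderOf_coe])
    (by rwa [Subgroup.orderOf_coe, Subgroup.orderOf_coe]) ?_)
  obtain ⟨i, hi⟩ := hmem
  exact ⟨i, by simpa using congrArg Subtype.val hi⟩

end Cfsg.Agent.S3358
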