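import Cfsg.Statements.S0005
import Cfsg.Agent.Lib.HallSolvable

set_option autoImplicit false
open Cfsg
open scoped Pointwise

namespace Cfsg.Agent.S0005

/-- Hall's Theorem, containment: in a finite solvable group of order m * n with m and n coprime, every subgroup of order coprime to n is contained in a subgroup of order m. -/
theorem result {G : Type*} [Group G] [Finite G] [Group.IsSolvable G] (m n : ℕ)
    (hG : Nat.card G = m * n) (hmn : m.Coprime n) (K : Subgroup G) (hK : (Nat.card K).Coprime n) :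
    ∃ H : Subgroup G, Nat.card H = m ∧ K ≤ H := by
  obtain ⟨⟨H, hH⟩, hD⟩ := CfsgLib.hall_main hG hmn
  obtain ⟨g, hg⟩ := hD H K hH (CfsgLib.dvd_left_of_dvd_mul_of_coprime (hG ▸ Subgroup.card_subgroup_dvd_card K) hK)
  refine ⟨MulAut.conj g⁻¹ • H, by rw [CfsgLib.card_conj_smul, hH], fun x hx => ?_⟩
  refine CfsgLib.mem_conj_smul_iff.mpr (hg (CfsgLib.mem_conj_smul_iff.mpr ?_))
  simpa [mul_assoc] using hx

end Cfsg.Agent.S0005
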