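import Cfsg.Statements.S0007
import Mathlib.Tactic.Ring

set_option autoImplicit false
open Cfsg

namespace Cfsg.Agent.S0007

/-- Subgroups of coprime index: the intersection has index equal to the product of the indices, and every element is a product of an element of the first subgroup and an element of the second. -/
theorem result {G : Type*} [Group G] [Finite G] (H K : Subgroup G)
    (h : H.index.Coprime K.index) :
    (H ⊓ K).index = H.index * K.index ∧ ∀ g : G, ∃ x ∈ H, ∃ y ∈ K, g = x * y := by
  have h1 : (H ⊓ K).index = H.index * K.index := by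
    refine le_antisymm Subgroup.index_inf_le (Nat.le_of_dvd ?_ (h.mul_dvd_of_dvd_of_dvd
      (Subgroup.index_dvd_of_le inf_le_left) (Subgroup.index_dvd_of_le inf_le_right)))
    exact Nat.pos_of_ne_zero Subgroup.index_ne_zero_of_finite
  refine ⟨h1, fun g => ?_⟩
  let f : H × K → G := fun z => (z.1 : G) * z.2
  have hcard : Nat.card H * Nat.card K = Nat.card G * Nat.card (H ⊓ K : Subgroup G) := by
    have e1 := H.card_mul_index
    have e2 := K.card_mul_index
    have e3 := (H ⊓ K).card_mul_index
    rw [h1] at e3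
    have hne : H.index * K.index ≠ 0 :=
      mul_ne_zero Subgroup.index_ne_zero_of_finite Subgroup.index_ne_zero_of_finite
    apply mul_left_cancel₀ hne
    calc H.index * K.index * (Nat.card H * Nat.card K)
        = (Nat.card H * H.index) * (Nat.card K * K.index) := by ring
      _ = Nat.card G * Nat.card G := by rw [e1, e2]
      _ = Nat.card G * (Nat.card (H ⊓ K : Subgroup G) * (H.index * K.index)) := by rw [e3]
      _ = H.index * K.index * (Nat.card G * Nat.card (H ⊓ K : Subgroup G)) := by ring
  have hfib : ∀ x ∈ Set.range f, Nat.card (f ⁻¹' {x}) = Nat.card (H ⊓ K : Subgroup G) := by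
    rintro _ ⟨⟨a, b⟩, rfl⟩
    symm
    apply Nat.card_congr
    refine
      { toFun := fun d => ⟨(⟨a * d, H.mul_mem a.2 d.2.1⟩, ⟨d⁻¹ * b, K.mul_mem (K.inv_mem d.2.2) b.2⟩),
          by simp [f, mul_assoc]⟩
        invFun := fun z => ⟨(a : G)⁻¹ * z.1.1, H.mul_mem (H.inv_mem a.2) z.1.1.2, ?_⟩
        left_inv := fun d => by ext; simp
        right_inv := fun z => ?_ }
    · have hz : (z.1.1 : G) * z.1.2 = a * b := z.2
      have : (a : G)⁻¹ * z.1.1 = b * (z.1.2 : G)⁻¹ := by
        rw [inv_mul_eq_iff_eq_mul, ← mul_assoc, eq_mul_inv_iff_mul_eq, hz]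
      rw [this]
      exact K.mul_mem b.2 (K.inv_mem z.1.2.2)
    · have hz : (z.1.1 : G) * z.1.2 = a * b := z.2
      refine Subtype.ext (Prod.ext (Subtype.ext ?_) (Subtype.ext ?_))
      · simp
      · simp only [InvMemClass.coe_inv]
        rw [mul_inv_rev, inv_inv, mul_assoc, ← hz, inv_mul_cancel_left]
  have hle : Nat.card (H × K) ≤ Nat.card (Set.range f) * Nat.card (H ⊓ K : Subgroup G) := by
    classical
    have := Fintype.ofFinite (Set.range f)
    rw [← Nat.card_congr (Equiv.sigmaFiberEquiv (Set.rangeFactorization f)), Nat.card_sigma]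
    refine le_of_eq ?_
    rw [Finset.sum_const_nat (m := Nat.card (H ⊓ K : Subgroup G)) ?_, Finset.card_univ,
      Nat.card_eq_fintype_card (α := Set.range f)]
    intro x _
    rw [← hfib x.1 x.2]
    exact Nat.card_congr (Equiv.subtypeEquivRight fun z => Subtype.ext_iff)
  rw [Nat.card_prod, hcard] at hle
  have h2 : Nat.card G ≤ Nat.card (Set.range f) := Nat.le_of_mul_le_mul_right hle Nat.card_pos
  have hsurj : Set.range f = Set.univ := by
    apply Set.eq_univ_of_forall
    intro x
    by_contra hx
    have hlt : Set.ncard (Set.range f) < Set.ncard (Set.univ : Set G) :=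
      Set.ncard_lt_ncard ⟨Set.subset_univ _, fun hs => hx (hs (Set.mem_univ x))⟩
    rw [Set.ncard_univ, ← Nat.card_coe_set_eq] at hlt
    omega
  obtain ⟨⟨a, b⟩, hab⟩ : g ∈ Set.range f := hsurj ▸ Set.mem_univ g
  exact ⟨a, a.2, b, b.2, hab.symm⟩

end Cfsg.Agent.S0007
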