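import Cfsg.Statements.S0013
import Mathlib.RingTheory.Int.Basic

set_option autoImplicit false
open Cfsg

namespace Cfsg.Agent.S0013

/-- In a finite p-group the Frattini subgroup is the smallest normal subgroup with elementary abelian quotient: it lies below any normal subgroup containing all commutators and all p-th powers. -/
theorem result {G : Type*} [Group G] [Finite G] (p : ℕ) [Fact p.Prime]
    (hG : IsPGroup p G) (N : Subgroup G) [N.Normal] (hcomm : commutator G ≤ N) (hpow : ∀ x : G, x ^ p ∈ N) :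
    frattini G ≤ N := by
  rcases eq_or_ne (frattini G) ⊤ with h | h
  · -- then `G` is trivial
    have hb : (⊥ : Subgroup G) = ⊤ := frattini_nongenerating (by rw [h]; simp)
    exact le_trans le_top (hb ▸ bot_le)
  intro x hx
  by_contra hxN
  -- a subgroup containing `N` and maximal with respect to missing `x`
  obtain ⟨M, ⟨hNM, hxM⟩, hmax⟩ := (Set.toFinite {M : Subgroup G | N ≤ M ∧ x ∉ M}).exists_maximal
    ⟨N, le_rfl, hxN⟩
  have hMn : M.Normal := Subgroup.Normal.of_commutator_le G (le_trans hcomm hNM)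
  have hco : IsCoatom M := by
    refine ⟨fun ht => hxM (ht ▸ Subgroup.mem_top x), fun L hL => ?_⟩
    by_contra hLtop
    obtain ⟨y, hy⟩ : ∃ y, y ∉ L := by
      by_contra hh
      push Not at hh
      exact hLtop (eq_top_iff.mpr fun y _ => hh y)
    have hxgen : ∀ z : G, z ∉ M → x ∈ M ⊔ Subgroup.zpowers z := by
      intro z hz
      by_contra hx'
      exact hz ((hmax (y := M ⊔ Subgroup.zpowers z) ⟨le_trans hNM le_sup_left, hx'⟩ le_sup_left)
        (Subgroup.mem_sup_right (Subgroup.mem_zpowers z)))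
    have hxL : x ∈ L := by
      by_contra hxL
      exact hL.not_ge (hmax ⟨le_trans hNM hL.le, hxL⟩ hL.le)
    have hyM : y ∉ M := fun h => hy (hL.le h)
    obtain ⟨m, hm, z, hz, hmz⟩ := Subgroup.mem_sup_of_normal_left.mp (hxgen y hyM)
    obtain ⟨k, rfl⟩ := Subgroup.mem_zpowers_iff.mp hz
    have hk : ¬ (p : ℤ) ∣ k := by
      rintro ⟨j, rfl⟩
      apply hxM
      rw [← hmz, zpow_mul, zpow_natCast]
      exact M.mul_mem hm (M.zpow_mem (hNM (hpow y)) j)
    obtain ⟨u, v, huv⟩ := ((Int.prime_iff_natAbs_prime.mpr (by simpa using (Fact.out : p.Prime))).coprime_iff_not_dvd).mpr hk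
    apply hy
    have hyk : y ^ k ∈ L := by
      have : y ^ k = m⁻¹ * x := by rw [← hmz]; simp
      rw [this]
      exact L.mul_mem (L.inv_mem (hL.le hm)) hxL
    have hy1 : y = (y ^ (p : ℤ)) ^ u * (y ^ k) ^ v := by
      rw [← zpow_mul, ← zpow_mul, ← zpow_add, mul_comm (p : ℤ) u, mul_comm k v, huv, zpow_one]
    rw [hy1]
    refine L.mul_mem (L.zpow_mem ?_ u) (L.zpow_mem hyk v)
    rw [zpow_natCast]
    exact hL.le (hNM (hpow y))
  exact hxM (frattini_le_coatom hco hx)

end Cfsg.Agent.S0013
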