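import Cfsg.Statements.S0014
import Cfsg.Agent.Lib.Elementary
import Cfsg.Agent.Lib.Basic

set_option autoImplicit false
open Cfsg

namespace Cfsg.Agent.S0014

/-- Burnside's basis Theorem: in a finite p-group whose Frattini quotient has order p ^ n, every generating set contains n elements that already generate, and no set with fewer than n elements generates. -/
theorem result {G : Type*} [Group G] [Finite G] (p n : ℕ) [Fact p.Prime]
    (hG : IsPGroup p G) (hn : (frattini G).index = p ^ n) :
    (∀ S : Finset G, Subgroup.closure (S : Set G) = ⊤ → ∃ T : Finset G, T ⊆ S ∧ T.card = n ∧ Subgroup.closure (T : Set G) = ⊤) ∧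
    (∀ T : Finset G, Subgroup.closure (T : Set G) = ⊤ → n ≤ T.card) := by
  classical
  obtain hcomm := CfsgLib.commutator_le_frattini_pGroup hG
  have hpow := CfsgLib.pow_mem_frattini_pGroup hG
  let Q := G ⧸ frattini G
  have hQcard : Nat.card Q = p ^ n := hn
  have hQcomm : ∀ a b : Q, a * b = b * a :=
    (Subgroup.Normal.quotient_commutative_iff_commutator_le.mpr hcomm).is_comm.comm
  have hQpow : ∀ a : Q, a ^ p = 1 := fun a => by
    induction a using QuotientGroup.induction_on with
    | H x => rw [← QuotientGroup.mk_pow, QuotientGroup.eq_one_iff]; exact hpow x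
  -- closure of an insertion is at most p times as large
  have hins : ∀ (T : Finset Q) (x : Q), Nat.card (Subgroup.closure ((insert x T : Finset Q) : Set Q)) ≤
      p * Nat.card (Subgroup.closure (T : Set Q)) := by
    intro T x
    have hnorm : (Subgroup.closure (T : Set Q)).Normal := ⟨fun a ha g => by
      rwa [hQcomm g a, mul_inv_cancel_right]⟩
    rw [Finset.coe_insert, Set.insert_eq, Subgroup.closure_union]
    have hsub : Nat.card (Subgroup.closure ({x} : Set Q)) ≤ p := by
      rw [← Subgroup.zpowers_eq_closure, Nat.card_zpowers]
      exact Nat.le_of_dvd (Fact.out : p.Prime).pos (orderOf_dvd_of_pow_eq_one (hQpow x))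
    refine le_trans ?_ (Nat.mul_le_mul_right _ hsub)
    exact Nat.le_of_dvd (Nat.mul_pos Nat.card_pos Nat.card_pos) (CfsgLib.card_sup_dvd_mul _ _)
  have hle : ∀ T : Finset Q, Nat.card (Subgroup.closure (T : Set Q)) ≤ p ^ T.card := by
    intro T
    induction T using Finset.induction_on with
    | empty => simp
    | insert x T hx ih =>
      rw [Finset.card_insert_of_notMem hx, pow_succ']
      exact (hins T x).trans (Nat.mul_le_mul_left p ih)
  have hlift : ∀ T : Finset G,
      Subgroup.closure ((T.image (QuotientGroup.mk' (frattini G)) : Finset Q) : Set Q) = ⊤ →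
      Subgroup.closure (T : Set G) = ⊤ := by
    intro T hT
    refine frattini_nongenerating ?_
    rw [Finset.coe_image, ← MonoidHom.map_closure] at hT
    have := congrArg (Subgroup.comap (QuotientGroup.mk' (frattini G))) hT
    rwa [Subgroup.comap_map_eq, QuotientGroup.ker_mk', Subgroup.comap_top] at this
  have hlow : ∀ T : Finset Q, Subgroup.closure (T : Set Q) = ⊤ → n ≤ T.card := by
    intro T hT
    have := hle T
    rw [hT, Subgroup.card_top, hQcard] at this
    exact (Nat.pow_le_pow_iff_right (Fact.out : p.Prime).one_lt).1 this
  have hdown : ∀ S : Finset G, Subgroup.closure (S : Set G) = ⊤ →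
      Subgroup.closure ((S.image (QuotientGroup.mk' (frattini G)) : Finset Q) : Set Q) = ⊤ := by
    intro S hS
    rw [Finset.coe_image, ← MonoidHom.map_closure, hS,
      Subgroup.map_top_of_surjective _ (QuotientGroup.mk'_surjective _)]
  constructor
  · intro S hS
    -- a subset of the image whose closure has exact order p ^ card
    have hsel : ∀ U : Finset Q, ∃ V ⊆ U, Subgroup.closure (V : Set Q) = Subgroup.closure (U : Set Q) ∧
        Nat.card (Subgroup.closure (V : Set Q)) = p ^ V.card := by
      intro U
      induction U using Finset.induction_on with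
      | empty => exact ⟨∅, subset_rfl, rfl, by simp⟩
      | insert x U hx ih =>
        obtain ⟨V, hVU, hV, hcard⟩ := ih
        by_cases hxV : x ∈ Subgroup.closure (V : Set Q)
        · refine ⟨V, hVU.trans (Finset.subset_insert _ _), ?_, hcard⟩
          rw [Finset.coe_insert, Set.insert_eq, Subgroup.closure_union, ← hV]
          exact (sup_eq_right.2 ((Subgroup.closure_le _).2 (Set.singleton_subset_iff.2 hxV))).symm
        · have hxV' : x ∉ V := fun h => hxV (Subgroup.subset_closure h)
          refine ⟨insert x V, Finset.insert_subset_insert _ hVU, ?_, ?_⟩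
          · rw [Finset.coe_insert, Finset.coe_insert, Set.insert_eq, Set.insert_eq, Subgroup.closure_union,
              Subgroup.closure_union, hV]
          · rw [Finset.card_insert_of_notMem hxV', pow_succ']
            refine le_antisymm (hcard ▸ hins V x) ?_
            have hlt : Subgroup.closure (V : Set Q) < Subgroup.closure ((insert x V : Finset Q) : Set Q) :=
              lt_of_le_of_ne (Subgroup.closure_mono (by simp)) fun e =>
                hxV (e ▸ Subgroup.subset_closure (by simp))
            obtain ⟨k, hk⟩ := ((IsPGroup.to_quotient hG (frattini G)).to_subgroup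
              (Subgroup.closure ((insert x V : Finset Q) : Set Q))).exists_card_eq
            have hdvd := Subgroup.card_dvd_of_le hlt.le
            rw [hk, hcard] at hdvd
            rw [hk]
            have hne : k ≠ V.card := fun e => hlt.ne (Subgroup.eq_of_le_of_card_ge hlt.le (by rw [hk, hcard, e]))
            have hle' := Nat.le_of_dvd (pow_pos (Fact.out : p.Prime).pos _) hdvd
            have := (Nat.pow_le_pow_iff_right (Fact.out : p.Prime).one_lt).1 hle'
            rw [← pow_succ']
            exact Nat.pow_le_pow_right (Fact.out : p.Prime).pos (by omega)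
    obtain ⟨V, hVU, hV, hcard⟩ := hsel (S.image (QuotientGroup.mk' (frattini G)))
    obtain ⟨T, hTS, hTi, hTc⟩ : ∃ T ⊆ S, T.image (QuotientGroup.mk' (frattini G)) = V ∧ T.card = V.card := by
      choose f hf hf2 using fun v (hv : v ∈ V) => Finset.mem_image.1 (hVU hv)
      refine ⟨V.attach.image fun v => f v.1 v.2, ?_, ?_, ?_⟩
      · intro t ht
        obtain ⟨v, -, rfl⟩ := Finset.mem_image.1 ht
        exact hf v.1 v.2
      · rw [Finset.image_image]
        ext v
        simp only [Finset.mem_image, Finset.mem_attach, true_and, Function.comp_apply]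
        exact ⟨fun ⟨w, hw⟩ => hw ▸ (hf2 w.1 w.2).symm ▸ w.2, fun hv => ⟨⟨v, hv⟩, hf2 v hv⟩⟩
      · rw [Finset.card_image_of_injective, Finset.card_attach]
        intro v w h
        exact Subtype.ext (by rw [← hf2 v.1 v.2, ← hf2 w.1 w.2]; exact congrArg _ h)
    refine ⟨T, hTS, ?_, hlift T (by rw [hTi, hV]; exact hdown S hS)⟩
    rw [hV, hdown S hS, Subgroup.card_top, hQcard] at hcard
    rw [hTc]
    exact (Nat.pow_right_injective (Fact.out : p.Prime).two_le hcard).symm
  · intro T hT
    exact (hlow _ (hdown T hT)).trans Finset.card_image_le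

end Cfsg.Agent.S0014
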