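import Cfsg.Statements.S0020
import Cfsg.Agent.Lib.HallSolvable

set_option autoImplicit false
open Pointwise
open Cfsg

namespace Cfsg.Agent.S0020

/-- A finite solvable group admits a Sylow system: Sylow subgroups, one for each prime, that pairwise permute as sets. -/
theorem result {G : Type*} [Group G] [Finite G] [Group.IsSolvable G] :
    ∃ S : (p : Nat.Primes) → Sylow (p : ℕ) G,
      ∀ p q : Nat.Primes, (S p : Set G) * (S q : Set G) = (S q : Set G) * (S p : Set G) := by
  classical
  set v := (Nat.card G).factorization with hv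
  set s := (Nat.card G).primeFactors with hs
  set f : ℕ → ℕ := fun x => x ^ v x with hf
  have hfull : ∏ x ∈ s, f x = Nat.card G := by
    have := Nat.prod_factorization_pow_eq_self (n := Nat.card G) Nat.card_pos.ne'
    rw [Finsupp.prod, Nat.support_factorization] at this
    exact this
  have hf1 : ∀ q, q ∉ s → f q = 1 := fun q hq => by
    have : v q = 0 := by
      rw [← Finsupp.notMem_support_iff, hv, Nat.support_factorization]
      exact hq
    simp [hf, this]
  have hKex : ∀ q : ℕ, ∃ K : Subgroup G, q ∈ s → K.index = f q := by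
    intro q
    by_cases hq : q ∈ s
    · have hqp : q.Prime := Nat.prime_of_mem_primeFactors hq
      have hmul : Nat.card G = (∏ x ∈ s.erase q, f x) * f q := by
        rw [mul_comm, Finset.mul_prod_erase s f hq, hfull]
      have hcop : (∏ x ∈ s.erase q, f x).Coprime (f q) := by
        refine Nat.Coprime.prod_left fun x hx => ?_
        obtain ⟨hxq, hxs⟩ := Finset.mem_erase.mp hx
        exact Nat.coprime_pow_primes _ _ (Nat.prime_of_mem_primeFactors hxs) hqp hxq
      obtain ⟨⟨H, hH⟩, -⟩ := CfsgLib.hall_main hmul hcop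
      refine ⟨H, fun _ => ?_⟩
      refine mul_left_cancel₀ (a := Nat.card H) Nat.card_pos.ne' ?_
      rw [H.card_mul_index, hH, ← hmul]
    · exact ⟨⊤, fun h => absurd h hq⟩
  choose K hK using hKex
  have hidx : ∀ t ⊆ s, (t.inf K).index = ∏ x ∈ t, f x := by
    intro t
    induction t using Finset.induction_on with
    | empty => simp
    | insert x t hxt ih =>
      intro hsub
      obtain ⟨hxs, hts⟩ := Finset.insert_subset_iff.mp hsub
      rw [Finset.inf_insert, Finset.prod_insert hxt]
      have hcop : (f x).Coprime (∏ y ∈ t, f y) := Nat.Coprime.prod_right fun y hy =>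
        Nat.coprime_pow_primes _ _ (Nat.prime_of_mem_primeFactors hxs)
          (Nat.prime_of_mem_primeFactors (hts hy)) (fun e => hxt (e ▸ hy))
      have h1 := hK x hxs
      have h2 := ih hts
      refine le_antisymm ?_ (Nat.le_of_dvd (Nat.pos_of_ne_zero Subgroup.index_ne_zero_of_finite) ?_)
      · rw [← h1, ← h2]
        exact Subgroup.index_inf_le
      · refine hcop.mul_dvd_of_dvd_of_dvd ?_ ?_
        · rw [← h1]; exact Subgroup.index_dvd_of_le inf_le_left
        · rw [← h2]; exact Subgroup.index_dvd_of_le inf_le_right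
  have hsplit : ∀ (u : Finset ℕ) (q : ℕ), (q ∉ u → f q = 1) → f q * ∏ x ∈ u.erase q, f x = ∏ x ∈ u, f x := by
    intro u q h
    by_cases hq : q ∈ u
    · exact Finset.mul_prod_erase u f hq
    · rw [h hq, one_mul, Finset.erase_eq_of_notMem hq]
  have hpos : ∀ t ⊆ s, (∏ x ∈ t, f x) ≠ 0 := fun t ht => by
    rw [← hidx t ht]; exact Subgroup.index_ne_zero_of_finite
  let T : ℕ → Subgroup G := fun q => (s.erase q).inf K
  have hT : ∀ q, Nat.card (T q) = f q := fun q => by
    refine mul_right_cancel₀ (hpos _ (Finset.erase_subset q s)) ?_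
    rw [hsplit s q (hf1 q), hfull]
    conv_lhs => rw [← hidx _ (Finset.erase_subset q s)]
    exact (T q).card_mul_index
  refine ⟨fun p => haveI := Fact.mk p.2; Sylow.ofCard (T p) (hT p), fun p q => ?_⟩
  haveI := Fact.mk p.2
  haveI := Fact.mk q.2
  simp only [Sylow.coe_ofCard]
  show (T p : Set G) * (T q : Set G) = (T q : Set G) * (T p : Set G)
  rcases eq_or_ne (p : ℕ) q with e | e
  · rw [e]
  set X := ((s.erase p).erase q).inf K with hX
  have hsub : (s.erase (p : ℕ)).erase q ⊆ s := (Finset.erase_subset _ _).trans (Finset.erase_subset _ _)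
  have hTpX : T p ≤ X := Finset.inf_mono (Finset.erase_subset _ _)
  have hTqX : T q ≤ X := by
    refine Finset.inf_mono fun x hx => ?_
    simp only [Finset.mem_erase] at hx ⊢
    exact ⟨hx.1, hx.2.2⟩
  have hXc : Nat.card X = f p * f q := by
    refine mul_right_cancel₀ (hpos _ hsub) ?_
    conv_lhs => rw [← hidx _ hsub]
    rw [mul_assoc, hsplit (s.erase p) q (fun h => hf1 q fun hq => h (Finset.mem_erase.mpr ⟨Ne.symm e, hq⟩)),
      hsplit s p (hf1 p), hfull]
    exact X.card_mul_index
  have key : ∀ A B : Subgroup G, A ≤ X → B ≤ X → (Nat.card A).Coprime (Nat.card B) →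
      Nat.card A * Nat.card B = Nat.card X → (A : Set G) * (B : Set G) = X := by
    intro A B hA hB hco hc
    have hA' := Nat.card_congr (Subgroup.subgroupOfEquivOfLe hA).toEquiv
    have hB' := Nat.card_congr (Subgroup.subgroupOfEquivOfLe hB).toEquiv
    have hcomp := Subgroup.isComplement'_of_coprime (H := A.subgroupOf X) (K := B.subgroupOf X)
      (by rw [hA', hB', hc]) (by rw [hA', hB']; exact hco)
    refine Set.Subset.antisymm ?_ fun x hx => ?_
    · rintro _ ⟨a, ha, b, hb, rfl⟩
      exact X.mul_mem (hA ha) (hB hb)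
    · obtain ⟨⟨a, b⟩, hab⟩ := hcomp.2 ⟨x, hx⟩
      exact ⟨_, a.2, _, b.2, congrArg Subtype.val hab⟩
  have hco : (f p).Coprime (f q) := Nat.coprime_pow_primes _ _ p.2 q.2 e
  rw [key (T p) (T q) hTpX hTqX (by rw [hT, hT]; exact hco) (by rw [hT, hT, hXc]),
    key (T q) (T p) hTqX hTpX (by rw [hT, hT]; exact hco.symm) (by rw [hT, hT, hXc, mul_comm])]

end Cfsg.Agent.S0020
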