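import Cfsg.Statements.S0034
import Mathlib
import Cfsg.Agent.Lib.Frobenius.Kernel
-- import your own Cfsg.Agent.* helpers here

set_option autoImplicit false
open Cfsg

namespace Cfsg.Agent.S0034

/-- For a Frobenius complement H, the set of elements lying in no conjugate of H, together with 1, has exactly as many elements as the index of H, and that index is congruent to 1 modulo the order of H. -/
theorem result {G : Type*} [Group G] [Finite G] (H : Subgroup G) (hH : Cfsg.IsFrobeniusComplement H) :
    Nat.card (Cfsg.frobeniusKernel H) = H.index ∧ H.index % Nat.card H = 1 % Nat.card H := by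
  refine ⟨CfsgLib.Frob.card_kernel hH, ?_⟩
  obtain ⟨k, hk⟩ := CfsgLib.Frob.index_mod_card hH
  have h1 : H.index = 1 + Nat.card H * k := by
    have : 1 ≤ H.index := Nat.pos_of_ne_zero Subgroup.index_ne_zero_of_finite
    omega
  rw [h1, Nat.add_mul_mod_self_left]

end Cfsg.Agent.S0034
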