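import Cfsg.Statements.S0046
import Cfsg.Agent.Lib.Subnormal

set_option autoImplicit false
open Cfsg
open scoped Pointwise

namespace Cfsg.Agent.S0046

/-- Schmidt's Theorem on minimal non-nilpotent groups: a finite group in which every maximal subgroup is nilpotent is solvable. -/
theorem result {G : Type*} [Group G] [Finite G]
    (h : ∀ M : Subgroup G, IsCoatom M → Group.IsNilpotent M) : Group.IsSolvable G := by
  suffices key : ∀ (n : ℕ) (X : Type _) [Group X] [Finite X], Nat.card X = n →
      (∀ M : Subgroup X, IsCoatom M → Group.IsNilpotent M) → Group.IsSolvable X from key _ G rfl h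
  clear! G
  intro n
  induction n using Nat.strong_induction_on with
  | _ n ih =>
    intro G _ _ hn h
    subst hn
    have hnil : ∀ H : Subgroup G, H ≠ ⊤ → Group.IsNilpotent H := by
      intro H hH
      obtain ⟨M, hM, hHM⟩ := (eq_top_or_exists_le_coatom H).resolve_left hH
      haveI := h M hM
      exact Group.nilpotent_of_mulEquiv (Subgroup.subgroupOfEquivOfLe hHM)
    by_cases hsimp : ∀ N : Subgroup G, N.Normal → N = ⊥ ∨ N = ⊤
    swap
    · push Not at hsimp
      obtain ⟨N, hN, hN0, hN1⟩ := hsimp
      haveI := hnil N hN1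
      have hlt : Nat.card (G ⧸ N) < Nat.card G := by
        rw [Subgroup.card_eq_card_quotient_mul_card_subgroup N]
        haveI : Nontrivial N := (Subgroup.nontrivial_iff_ne_bot N).mpr hN0
        exact lt_mul_of_one_lt_right Nat.card_pos Finite.one_lt_card
      have hq : Group.IsSolvable (G ⧸ N) := by
        refine ih _ hlt (G ⧸ N) rfl fun M hM => ?_
        have hne : M.comap (QuotientGroup.mk' N) ≠ ⊤ := fun e => hM.1 (by
          rw [← Subgroup.map_comap_eq_self_of_surjective (QuotientGroup.mk'_surjective N) M, e,
            Subgroup.map_top_of_surjective _ (QuotientGroup.mk'_surjective N)])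
        haveI := hnil _ hne
        refine Group.nilpotent_of_surjective
          ((QuotientGroup.mk' N).subgroupComap M) ?_
        exact MonoidHom.subgroupComap_surjective_of_surjective _ _ (QuotientGroup.mk'_surjective N)
      exact (Group.isSolvable_iff_subgroup_quotient N).mpr ⟨inferInstance, hq⟩
    by_contra hns
    have hcyc : ∀ y : G, Subgroup.zpowers y ≠ ⊤ := fun y e => hns (by
      refine Group.isSolvable_of_comm fun a b => ?_
      obtain ⟨i, rfl⟩ := (e ▸ Subgroup.mem_top a : a ∈ Subgroup.zpowers y)
      obtain ⟨j, rfl⟩ := (e ▸ Subgroup.mem_top b : b ∈ Subgroup.zpowers y)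
      exact (Commute.refl y).zpow_zpow i j)
    -- maximal subgroups meet trivially
    have hdisj : ∀ D : Subgroup G, D ≠ ⊥ → ∀ L M : Subgroup G, IsCoatom L → IsCoatom M →
        D = L ⊓ M → L = M := by
      intro D
      induction D using WellFoundedGT.induction with
      | ind D ihD =>
        intro hD0 L M hL hM hD
        by_contra hne
        set N := Subgroup.normalizer (D : Set G) with hNdef
        have hN : N ≠ ⊤ := fun e => by
          rcases hsimp D (Subgroup.normalizer_eq_top_iff.mp e) with h1 | h1
          · exact hD0 h1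
          · exact hL.1 (top_le_iff.mp (h1 ▸ hD ▸ inf_le_left))
        obtain ⟨K, hK, hNK⟩ := (eq_top_or_exists_le_coatom N).resolve_left hN
        have key : ∀ X : Subgroup G, IsCoatom X → D < X → K = X := by
          intro X hX hDX
          haveI := h X hX
          have hne' : D.subgroupOf X ≠ ⊤ := fun e =>
            hDX.not_ge (Subgroup.subgroupOf_eq_top.mp e)
          have h2 := Group.normalizerCondition_of_isNilpotent _ (lt_top_iff_ne_top.mpr hne')
          rw [← Subgroup.subgroupOf_normalizer_eq hDX.le] at h2
          have h3 : D < X ⊓ N := by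
            refine lt_of_le_of_ne (le_inf hDX.le Subgroup.le_normalizer) fun e => h2.ne ?_
            ext z
            rw [Subgroup.mem_subgroupOf, Subgroup.mem_subgroupOf]
            exact ⟨fun hz => Subgroup.le_normalizer hz, fun hz => e.symm.le ⟨z.2, hz⟩⟩
          have h4 : D < K ⊓ X := lt_of_lt_of_le h3 (le_inf (inf_le_right.trans hNK) inf_le_left)
          exact ihD _ h4 (fun e => hD0 (le_bot_iff.mp (e ▸ h4.le))) K X hK hX rfl
        have hDL : D < L := lt_of_le_of_ne (hD ▸ inf_le_left) fun e => hne (by
          have : L ≤ M := e ▸ hD ▸ inf_le_right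
          exact ((hL.le_iff.mp this).resolve_left hM.1).symm)
        have hDM : D < M := lt_of_le_of_ne (hD ▸ inf_le_right) fun e => hne (by
          have : M ≤ L := e ▸ hD ▸ inf_le_left
          exact (hM.le_iff.mp this).resolve_left hL.1)
        exact hne ((key L hL hDL).symm.trans (key M hM hDM))
    have huniq : ∀ L M : Subgroup G, IsCoatom L → IsCoatom M → ∀ x : G, x ≠ 1 → x ∈ L → x ∈ M → L = M :=
      fun L M hL hM x hx hxL hxM => hdisj (L ⊓ M)
        (fun e => hx (Subgroup.mem_bot.mp (e ▸ ⟨hxL, hxM⟩))) L M hL hM rfl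
    have hconjC : ∀ (M : Subgroup G) (g : G), IsCoatom M → IsCoatom (MulAut.conj g • M) := by
      intro M g hM
      exact (OrderIso.isCoatom_iff (MulEquiv.mapSubgroup (MulAut.conj g)) M).mpr hM
    -- count the elements of a class of maximal subgroups
    have hcount : ∀ M : Subgroup G, IsCoatom M →
        Nat.card {x : G // x ≠ 1 ∧ ∃ g : G, x ∈ MulAut.conj g • M} + M.index = Nat.card G := by
      intro M hM
      have hMne : M ≠ ⊥ := by
        intro e
        haveI : Nontrivial G := not_subsingleton_iff_nontrivial.mp fun _ => hns inferInstance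
        obtain ⟨y, hy⟩ := exists_ne (1 : G)
        have := hM.2 (Subgroup.zpowers y) (by
          rw [e, bot_lt_iff_ne_bot, ne_eq, Subgroup.zpowers_eq_bot]; exact hy)
        exact hcyc y this
      have hNM : Subgroup.normalizer (M : Set G) = M := by
        refine ((hM.le_iff.mp Subgroup.le_normalizer).resolve_left fun e => ?_)
        rcases hsimp M (Subgroup.normalizer_eq_top_iff.mp e) with h1 | h1
        · exact hMne h1
        · exact hM.1 h1
      have hkn : ∀ k : G, M = MulAut.conj k • M → k ∈ Subgroup.normalizer (M : Set G) := by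
        intro k h1
        rw [Subgroup.mem_normalizer_iff]
        intro z
        conv_rhs => rw [h1, CfsgLib.mem_conj_smul_iff]
        simp [mul_assoc]
      let f : (G ⧸ M) × {m : M // m ≠ 1} → {x : G // x ≠ 1 ∧ ∃ g : G, x ∈ MulAut.conj g • M} :=
        fun z => ⟨z.1.out * (z.2.1 : G) * z.1.out⁻¹, fun e => z.2.2 (Subtype.ext (conj_eq_one_iff.mp e)),
          z.1.out, CfsgLib.mem_conj_smul_iff.mpr (by simp [mul_assoc])⟩
      have hf : Function.Bijective f := by
        constructor
        · rintro ⟨q, m⟩ ⟨q', m'⟩ e
          have e' : q.out * (m.1 : G) * q.out⁻¹ = q'.out * (m'.1 : G) * q'.out⁻¹ := congrArg Subtype.val e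
          have hq : q = q' := by
            rw [← q.out_eq', ← q'.out_eq', QuotientGroup.eq]
            have h1 := huniq M (MulAut.conj (q.out⁻¹ * q'.out) • M) hM (hconjC M _ hM) (m.1 : G)
              (fun e1 => m.2 (Subtype.ext e1)) m.1.2 (CfsgLib.mem_conj_smul_iff.mpr (by
                have : (q.out⁻¹ * q'.out)⁻¹ * (m.1 : G) * (q.out⁻¹ * q'.out) = (m'.1 : G) := by
                  calc _ = q'.out⁻¹ * (q.out * (m.1 : G) * q.out⁻¹) * q'.out := by group
                    _ = _ := by rw [e']; group
                rw [this]; exact m'.1.2))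
            exact hNM.le (hkn _ h1)
          subst hq
          rw [mul_left_inj, mul_right_inj] at e'
          rw [Subtype.ext (Subtype.ext e') ]
        · rintro ⟨x, hx, g, hg⟩
          rw [CfsgLib.mem_conj_smul_iff] at hg
          set q : G ⧸ M := (g : G ⧸ M)
          have hgq : g⁻¹ * q.out ∈ M := QuotientGroup.eq.mp (q.out_eq').symm
          refine ⟨⟨q, ⟨⟨q.out⁻¹ * x * q.out, ?_⟩, ?_⟩⟩, ?_⟩
          · have := M.mul_mem (M.mul_mem (M.inv_mem hgq) hg) hgq
            simpa [mul_assoc] using this
          · intro e
            exact hx (conj_eq_one_iff.mp (show q.out⁻¹ * x * q.out⁻¹⁻¹ = 1 by rw [inv_inv]; exact congrArg Subtype.val e))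
          · refine Subtype.ext ?_
            show q.out * (q.out⁻¹ * x * q.out) * q.out⁻¹ = x
            group
      have hm1 : Nat.card {m : M // m ≠ 1} + 1 = Nat.card M := by
        classical
        haveI := Fintype.ofFinite M
        simp only [Nat.card_eq_fintype_card, Fintype.card_subtype_compl, Fintype.card_subtype_eq]
        exact Nat.sub_add_cancel Fintype.card_pos
      rw [← Nat.card_eq_of_bijective f hf, Nat.card_prod, ← Subgroup.index_eq_card, ← M.index_mul_card,
        ← hm1]
      ring
    haveI : Nontrivial G := not_subsingleton_iff_nontrivial.mp fun _ => hns inferInstance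
    obtain ⟨M, hM⟩ : ∃ M : Subgroup G, IsCoatom M := by
      obtain ⟨y, hy⟩ := exists_ne (1 : G)
      obtain ⟨M, hM, -⟩ := (eq_top_or_exists_le_coatom (Subgroup.zpowers y)).resolve_left (hcyc y)
      exact ⟨M, hM⟩
    have hidx : ∀ L : Subgroup G, IsCoatom L → 2 ≤ L.index ∧ 2 * L.index ≤ Nat.card G := by
      intro L hL
      constructor
      · exact Nat.lt_of_le_of_ne (Nat.pos_of_ne_zero Subgroup.index_ne_zero_of_finite)
          (Ne.symm (mt Subgroup.index_eq_one.mp hL.1))
      · have hLne : L ≠ ⊥ := fun e => by
          obtain ⟨y, hy⟩ := exists_ne (1 : G)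
          exact hcyc y (hL.2 _ (by rw [e, bot_lt_iff_ne_bot, ne_eq, Subgroup.zpowers_eq_bot]; exact hy))
        haveI : Nontrivial L := (Subgroup.nontrivial_iff_ne_bot L).mpr hLne
        rw [← L.index_mul_card, mul_comm 2]
        exact Nat.mul_le_mul_left _ Finite.one_lt_card
    obtain ⟨y, hy, hyM⟩ : ∃ y : G, y ≠ 1 ∧ ∀ g : G, y ∉ MulAut.conj g • M := by
      by_contra hall
      push Not at hall
      have e : Nat.card {x : G // x ≠ 1 ∧ ∃ g : G, x ∈ MulAut.conj g • M} = Nat.card {x : G // x ≠ 1} :=
        Nat.card_congr (Equiv.subtypeEquivRight fun x => ⟨fun hx => hx.1, fun hx => ⟨hx, hall x hx⟩⟩)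
      have h1 : Nat.card {x : G // x ≠ 1} + 1 = Nat.card G := by
        classical
        haveI := Fintype.ofFinite G
        simp only [Nat.card_eq_fintype_card, Fintype.card_subtype_compl, Fintype.card_subtype_eq]
        exact Nat.sub_add_cancel Fintype.card_pos
      have := hcount M hM
      have := hidx M hM
      omega
    obtain ⟨L, hL, hyL⟩ := (eq_top_or_exists_le_coatom (Subgroup.zpowers y)).resolve_left (hcyc y)
    have hyL' : y ∈ L := hyL (Subgroup.mem_zpowers y)
    classical
    haveI := Fintype.ofFinite G
    let S : Subgroup G → Finset G := fun X => Finset.univ.filter fun x => x ≠ 1 ∧ ∃ g : G, x ∈ MulAut.conj g • X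
    have hS : ∀ X : Subgroup G, (S X).card = Nat.card {x : G // x ≠ 1 ∧ ∃ g : G, x ∈ MulAut.conj g • X} :=
      fun X => by rw [Nat.card_eq_fintype_card, Fintype.card_subtype]
    have hSd : Disjoint (S M) (S L) := by
      rw [Finset.disjoint_left]
      intro x hxM hxL
      simp only [S, Finset.mem_filter, Finset.mem_univ, true_and] at hxM hxL
      obtain ⟨hx1, g, hg⟩ := hxM
      obtain ⟨-, g', hg'⟩ := hxL
      have e := huniq _ _ (hconjC M g hM) (hconjC L g' hL) x hx1 hg hg'
      refine hyM (g'⁻¹ * g) ?_
      rw [← CfsgLib.conj_smul_mul, e, CfsgLib.conj_smul_mul, inv_mul_cancel, map_one, one_smul]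
      exact hyL'
    have hsub : S M ∪ S L ⊆ Finset.univ.erase 1 := by
      intro x hx
      simp only [S, Finset.mem_union, Finset.mem_filter, Finset.mem_univ, true_and] at hx
      rw [Finset.mem_erase]
      rcases hx with hx | hx <;> exact ⟨hx.1, Finset.mem_univ _⟩
    have hle := Finset.card_le_card hsub
    rw [Finset.card_union_of_disjoint hSd, hS, hS, Finset.card_erase_of_mem (Finset.mem_univ _),
      Finset.card_univ, ← Nat.card_eq_fintype_card] at hle
    have := hcount M hM
    have := hcount L hL
    have := hidx M hM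
    have := hidx L hL
    omega

end Cfsg.Agent.S0046
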