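import Cfsg.Statements.S0047
import Cfsg.Agent.Lib.PComplement

set_option autoImplicit false
open Cfsg

namespace Cfsg.Agent.S0047

/-- A finite group which is the product AB of two abelian subgroups A and B is solvable. -/
theorem result {G : Type*} [Group G] [Finite G] (A B : Subgroup G)
    [IsMulCommutative A] [IsMulCommutative B] (hAB : ∀ g : G, ∃ a ∈ A, ∃ b ∈ B, g = a * b) :
    Group.IsSolvable G := by
  let c : G → G → G := fun x y => x * y * x⁻¹ * y⁻¹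
  have hA : ∀ x ∈ A, ∀ y ∈ A, x * y = y * x := fun x hx y hy =>
    Subgroup.mul_comm_of_mem_isMulCommutative A hx hy
  have hB : ∀ x ∈ B, ∀ y ∈ B, x * y = y * x := fun x hx y hy =>
    Subgroup.mul_comm_of_mem_isMulCommutative B hx hy
  have hBA : ∀ g : G, ∃ b ∈ B, ∃ a ∈ A, g = b * a := fun g => by
    obtain ⟨a, ha, b, hb, e⟩ := hAB g⁻¹
    exact ⟨b⁻¹, B.inv_mem hb, a⁻¹, A.inv_mem ha, by rw [← mul_inv_rev, ← e, inv_inv]⟩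
  have hcA : ∀ a ∈ A, ∀ a' ∈ A, ∀ b : G, c a (b * a') = c a b := fun a ha a' ha' b => by
    calc c a (b * a') = a * b * (a' * a⁻¹) * a'⁻¹ * b⁻¹ := by simp only [c]; group
      _ = a * b * (a⁻¹ * a') * a'⁻¹ * b⁻¹ := by rw [hA a' ha' a⁻¹ (A.inv_mem ha)]
      _ = c a b := by simp only [c]; group
  have hcB : ∀ b ∈ B, ∀ b' ∈ B, ∀ a : G, c (a * b') b = c a b := fun b hb b' hb' a => by
    calc c (a * b') b = a * (b' * b) * b'⁻¹ * a⁻¹ * b⁻¹ := by simp only [c]; group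
      _ = a * (b * b') * b'⁻¹ * a⁻¹ * b⁻¹ := by rw [hB b' hb' b hb]
      _ = c a b := by simp only [c]; group
  have hconjA : ∀ a ∈ A, ∀ a₁ ∈ A, ∀ b₂ ∈ B, ∀ b : G, (∃ a₂ ∈ A, a₁ * b * a₁⁻¹ = b₂ * a₂) →
      a₁ * c a b * a₁⁻¹ = c a b₂ := by
    rintro a ha a₁ ha₁ b₂ hb₂ b ⟨a₂, ha₂, e⟩
    have h1 : a₁ * a * a₁⁻¹ = a := by rw [hA a₁ ha₁ a ha, mul_inv_cancel_right]
    calc a₁ * c a b * a₁⁻¹
        = (a₁ * a * a₁⁻¹) * (a₁ * b * a₁⁻¹) * (a₁ * a * a₁⁻¹)⁻¹ * (a₁ * b * a₁⁻¹)⁻¹ := by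
          simp only [c]; group
      _ = c a (b₂ * a₂) := by rw [h1, e]
      _ = c a b₂ := hcA a ha a₂ ha₂ b₂
  have hconjB : ∀ b ∈ B, ∀ b₁ ∈ B, ∀ a₃ ∈ A, ∀ a : G, (∃ b₃ ∈ B, b₁ * a * b₁⁻¹ = a₃ * b₃) →
      b₁ * c a b * b₁⁻¹ = c a₃ b := by
    rintro b hb b₁ hb₁ a₃ ha₃ a ⟨b₃, hb₃, e⟩
    have h1 : b₁ * b * b₁⁻¹ = b := by rw [hB b₁ hb₁ b hb, mul_inv_cancel_right]
    calc b₁ * c a b * b₁⁻¹
        = (b₁ * a * b₁⁻¹) * (b₁ * b * b₁⁻¹) * (b₁ * a * b₁⁻¹)⁻¹ * (b₁ * b * b₁⁻¹)⁻¹ := by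
          simp only [c]; group
      _ = c (a₃ * b₃) b := by rw [h1, e]
      _ = c a₃ b := hcB b hb b₃ hb₃ a₃
  set S : Set G := {z | ∃ a ∈ A, ∃ b ∈ B, z = c a b} with hS
  set N := Subgroup.closure S with hN
  have hgen : ∀ z ∈ S, ∀ g : G, g * z * g⁻¹ ∈ S := by
    rintro z ⟨a, ha, b, hb, rfl⟩ g
    obtain ⟨a₁, ha₁, b₁, hb₁, rfl⟩ := hAB g
    obtain ⟨a₃, ha₃, b₃, hb₃, e3⟩ := hAB (b₁ * a * b₁⁻¹)
    obtain ⟨b₂, hb₂, a₂, ha₂, e2⟩ := hBA (a₁ * b * a₁⁻¹)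
    refine ⟨a₃, ha₃, b₂, hb₂, ?_⟩
    calc a₁ * b₁ * c a b * (a₁ * b₁)⁻¹ = a₁ * (b₁ * c a b * b₁⁻¹) * a₁⁻¹ := by group
      _ = c a₃ b₂ := by
        rw [hconjB b hb b₁ hb₁ a₃ ha₃ a ⟨b₃, hb₃, e3⟩, hconjA a₃ ha₃ a₁ ha₁ b₂ hb₂ b ⟨a₂, ha₂, e2⟩]
  have hNn : N.Normal := by
    refine ⟨fun n hn g => ?_⟩
    have h1 : N ≤ N.comap (MulAut.conj g).toMonoidHom := by
      rw [hN, Subgroup.closure_le]
      exact fun z hz => Subgroup.subset_closure (hgen z hz g)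
    exact h1 hn
  have hcomm : ∀ x ∈ S, ∀ y ∈ S, x * y = y * x := by
    rintro _ ⟨a, ha, b, hb, rfl⟩ _ ⟨a', ha', b', hb', rfl⟩
    set a₁ := a'⁻¹
    set b₁ := b'⁻¹
    have ha₁ : a₁ ∈ A := A.inv_mem ha'
    have hb₁ : b₁ ∈ B := B.inv_mem hb'
    obtain ⟨a₃, ha₃, b₃, hb₃, e3⟩ := hAB (b₁ * a * b₁⁻¹)
    obtain ⟨b₂, hb₂, a₂, ha₂, e2⟩ := hBA (a₁ * b * a₁⁻¹)
    have k1 : (a₁ * b₁) * c a b * (a₁ * b₁)⁻¹ = c a₃ b₂ := by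
      rw [show (a₁ * b₁) * c a b * (a₁ * b₁)⁻¹ = a₁ * (b₁ * c a b * b₁⁻¹) * a₁⁻¹ by group,
        hconjB b hb b₁ hb₁ a₃ ha₃ a ⟨b₃, hb₃, e3⟩, hconjA a₃ ha₃ a₁ ha₁ b₂ hb₂ b ⟨a₂, ha₂, e2⟩]
    have k2 : (b₁ * a₁) * c a b * (b₁ * a₁)⁻¹ = c a₃ b₂ := by
      rw [show (b₁ * a₁) * c a b * (b₁ * a₁)⁻¹ = b₁ * (a₁ * c a b * a₁⁻¹) * b₁⁻¹ by group,
        hconjA a ha a₁ ha₁ b₂ hb₂ b ⟨a₂, ha₂, e2⟩, hconjB b₂ hb₂ b₁ hb₁ a₃ ha₃ a ⟨b₃, hb₃, e3⟩]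
    have e : c a' b' = (b₁ * a₁)⁻¹ * (a₁ * b₁) := by
      simp only [c, a₁, b₁]; group
    rw [e]
    have h3 := k1.trans k2.symm
    calc c a b * ((b₁ * a₁)⁻¹ * (a₁ * b₁))
        = (b₁ * a₁)⁻¹ * ((b₁ * a₁) * c a b * (b₁ * a₁)⁻¹) * (a₁ * b₁) := by group
      _ = (b₁ * a₁)⁻¹ * ((a₁ * b₁) * c a b * (a₁ * b₁)⁻¹) * (a₁ * b₁) := by rw [h3]
      _ = (b₁ * a₁)⁻¹ * (a₁ * b₁) * c a b := by group
  haveI : IsMulCommutative N := Subgroup.isMulCommutative_closure hcomm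
  haveI : Group.IsSolvable N := Group.isSolvable_of_comm fun x y => mul_comm' x y
  let π := QuotientGroup.mk' N
  have hq : ∀ a ∈ A, ∀ b ∈ B, π a * π b = π b * π a := fun a ha b hb => by
    have h1 : π (c a b) = 1 := (QuotientGroup.eq_one_iff _).mpr (Subgroup.subset_closure ⟨a, ha, b, hb, rfl⟩)
    simp only [c, map_mul, map_inv] at h1
    rwa [mul_inv_eq_one, mul_inv_eq_iff_eq_mul] at h1
  haveI : Group.IsSolvable (G ⧸ N) := Group.isSolvable_of_comm fun x y => by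
    obtain ⟨g, rfl⟩ := QuotientGroup.mk'_surjective N x
    obtain ⟨g', rfl⟩ := QuotientGroup.mk'_surjective N y
    obtain ⟨a, ha, b, hb, rfl⟩ := hAB g
    obtain ⟨a', ha', b', hb', rfl⟩ := hAB g'
    have e1 : π a * π a' = π a' * π a := by rw [← map_mul, hA a ha a' ha', map_mul]
    have e2 : π b * π b' = π b' * π b := by rw [← map_mul, hB b hb b' hb', map_mul]
    have e3 := hq a ha b' hb'
    have e4 := hq a' ha' b hb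
    simp only [map_mul]
    exact ((Commute.mul_right (show Commute (π a) (π a') from e1) e3).mul_left
      (Commute.mul_right (show Commute (π b) (π a') from e4.symm) e2))
  exact (Group.isSolvable_iff_subgroup_quotient N).mpr ⟨inferInstance, inferInstance⟩

end Cfsg.Agent.S0047
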