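import Cfsg.Statements.S0048
import Mathlib.Tactic.Ring
import Cfsg.Agent.Lib.Elementary

set_option autoImplicit false
open Cfsg

namespace Cfsg.Agent.S0048

/-- In a finite solvable group every maximal subgroup has index a prime power. -/
theorem result {G : Type*} [Group G] [Finite G] [Group.IsSolvable G]
    (M : Subgroup G) (hM : IsCoatom M) : IsPrimePow M.index := by
  suffices ∀ n : ℕ, ∀ (H : Type _) [Group H] [Finite H] [Group.IsSolvable H] (M : Subgroup H),
      IsCoatom M → Nat.card H = n → IsPrimePow M.index from this _ G M hM rfl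
  intro n
  induction n using Nat.strong_induction_on with
  | _ n ih =>
    intro H _ _ _ M hM hn
    have : Nontrivial H := by
      by_contra hnt
      rw [not_nontrivial_iff_subsingleton] at hnt
      exact hM.1 (Subsingleton.elim _ _)
    obtain ⟨N, hNn, -, hN0, hNmin⟩ :=
      CfsgLib.exists_minimal_normal (N := (⊤ : Subgroup H)) top_ne_bot
    by_cases hNM : N ≤ M
    · have hlt : Nat.card (H ⧸ N) < n := by
        have h1 := N.card_mul_index
        have h2 : 1 < Nat.card N := (Subgroup.one_lt_card_iff_ne_bot N).mpr hN0
        have h3 : 0 < N.index := Nat.pos_of_ne_zero Subgroup.index_ne_zero_of_finite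
        change N.index < n
        rw [← hn, ← h1]
        exact lt_mul_of_one_lt_left h3 h2
      have hcm : (M.map (QuotientGroup.mk' N)).comap (QuotientGroup.mk' N) = M :=
        Subgroup.comap_map_eq_self (by rwa [QuotientGroup.ker_mk'])
      have hM' : IsCoatom (M.map (QuotientGroup.mk' N)) := by
        refine ⟨fun h => hM.1 (by rw [← hcm, h, Subgroup.comap_top]), fun K hK => ?_⟩
        have h1 : M < K.comap (QuotientGroup.mk' N) := by
          rw [← hcm]
          exact (Subgroup.comap_lt_comap_of_surjective (QuotientGroup.mk'_surjective _)).mpr hK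
        have := congrArg (Subgroup.map (QuotientGroup.mk' N)) (hM.2 _ h1)
        rwa [Subgroup.map_comap_eq_self_of_surjective (QuotientGroup.mk'_surjective _),
          Subgroup.map_top_of_surjective _ (QuotientGroup.mk'_surjective _)] at this
      have hs : Group.IsSolvable (H ⧸ N) :=
        Group.isSolvable_of_surjective (QuotientGroup.mk'_surjective N)
      have := ih _ hlt (H ⧸ N) _ hM' rfl
      rwa [← hcm, Subgroup.index_comap_of_surjective _ (QuotientGroup.mk'_surjective _)]
    · obtain ⟨hc, p, hp, hexp⟩ := CfsgLib.minimal_normal_elementary hN0 inferInstance hNmin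
      have := Fact.mk hp
      have hsup : M ⊔ N = ⊤ := hM.2 _ (lt_of_le_of_ne le_sup_left fun h => hNM (h ▸ le_sup_right))
      have hpg : IsPGroup p N := fun x => ⟨1, Subtype.ext (by simpa using hexp x x.2)⟩
      obtain ⟨k, hk⟩ := IsPGroup.iff_card.mp hpg
      have hidx : M.index ∣ p ^ k := by
        have h4 : M.relIndex (M ⊔ N) = M.index := by rw [hsup, Subgroup.relIndex_top_right]
        rw [← h4, ← hk]
        have h5 : M.relIndex (M ⊔ N) = (M ⊓ N).relIndex N := by
          rw [Subgroup.inf_relIndex_right]
          have e1 : N.relIndex M * Nat.card N = Nat.card (M ⊔ N : Subgroup H) := by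
            rw [← Subgroup.relIndex_sup_right, mul_comm, ← Subgroup.relIndex_bot_left,
              ← Subgroup.relIndex_bot_left, Subgroup.relIndex_mul_relIndex _ _ _ bot_le le_sup_right]
          have e2 : Nat.card M * M.relIndex (M ⊔ N) = Nat.card (M ⊔ N : Subgroup H) := by
            rw [← Subgroup.relIndex_bot_left, ← Subgroup.relIndex_bot_left,
              Subgroup.relIndex_mul_relIndex _ _ _ bot_le le_sup_left]
          have e3 : Nat.card (M ⊓ N : Subgroup H) * N.relIndex M = Nat.card M := by
            rw [← Subgroup.inf_relIndex_left, ← Subgroup.relIndex_bot_left, ← Subgroup.relIndex_bot_left,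
              Subgroup.relIndex_mul_relIndex _ _ _ bot_le inf_le_left]
          have e4 : Nat.card (M ⊓ N : Subgroup H) * M.relIndex N = Nat.card N := by
            rw [← Subgroup.inf_relIndex_right, ← Subgroup.relIndex_bot_left, ← Subgroup.relIndex_bot_left,
              Subgroup.relIndex_mul_relIndex _ _ _ bot_le inf_le_right]
          have e5 : Nat.card M * M.relIndex (M ⊔ N) = Nat.card M * M.relIndex N := by
            rw [e2, ← e1, ← e4, ← e3]
            ring
          exact Nat.eq_of_mul_eq_mul_left Nat.card_pos e5
        rw [h5]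
        exact Subgroup.relIndex_dvd_card _ _
      obtain ⟨j, -, hj⟩ := (Nat.dvd_prime_pow hp).mp hidx
      rw [hj, isPrimePow_nat_iff]
      refine ⟨p, j, hp, Nat.pos_of_ne_zero ?_, rfl⟩
      rintro rfl
      exact hM.1 (Subgroup.index_eq_one.mp (by simpa using hj))

end Cfsg.Agent.S0048
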