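import Cfsg.Statements.S0049
import Mathlib.GroupTheory.SchurZassenhaus

set_option autoImplicit false
open Cfsg

namespace Cfsg.Agent.S0049

/-- A prime divisor of the order of a finite group also divides the index of the Frattini subgroup. -/
theorem result {G : Type*} [Group G] [Finite G] (p : ℕ) (hp : p.Prime) (hdvd : p ∣ Nat.card G) :
    p ∣ (frattini G).index := by
  haveI := Fact.mk hp
  by_contra hnd
  obtain ⟨n, hn⟩ : ∃ n, n = (Nat.card G).factorization p := ⟨_, rfl⟩
  obtain ⟨P⟩ : Nonempty (Sylow p (frattini G)) := inferInstance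
  have hnorm : ((P : Subgroup (frattini G)).map (frattini G).subtype).Normal := by
    have := frattini_nilpotent (G := G)
    have hch : (P : Subgroup (frattini G)).Characteristic := Sylow.characteristic_of_normal P inferInstance
    infer_instance
  set Q := (P : Subgroup (frattini G)).map (frattini G).subtype with hQ
  have hQc : Nat.card Q = Nat.card P := Subgroup.card_map_of_injective (frattini G).subtype_injective
  have hdec : Q.index = (P : Subgroup (frattini G)).index * (frattini G).index := by
    rw [hQ, Subgroup.index_map, MonoidHom.ker_eq_bot_iff _ |>.mpr (frattini G).subtype_injective,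
      sup_bot_eq, Subgroup.range_subtype]
  have hcop : (Nat.card Q).Coprime Q.index := by
    obtain ⟨k, hk⟩ := IsPGroup.iff_card.mp P.isPGroup'
    rw [hQc, hk, hdec]
    exact Nat.Coprime.pow_left _ (((hp.coprime_iff_not_dvd).mpr P.not_dvd_index).mul_right
      ((hp.coprime_iff_not_dvd).mpr hnd))
  obtain ⟨H, hH⟩ := Subgroup.exists_right_complement'_of_coprime hcop
  have hQ1 : Q ≤ frattini G := Subgroup.map_subtype_le _
  have hsup : H ⊔ frattini G = ⊤ := by
    rw [eq_top_iff, ← hH.symm.sup_eq_top]
    exact sup_le_sup_left hQ1 H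
  have hHtop : H = ⊤ := frattini_nongenerating hsup
  rw [hHtop] at hH
  have : Q = ⊥ := Subgroup.isComplement'_top_right.mp hH
  rw [this, Subgroup.card_bot] at hQc
  have h1 : ¬ p ∣ Nat.card (frattini G) := by
    intro hd
    have := P.dvd_card_of_dvd_card hd
    rw [← hQc] at this
    exact hp.one_lt.ne' (Nat.dvd_one.mp this)
  have h2 := (frattini G).card_mul_index
  rw [← h2] at hdvd
  exact ((hp.dvd_mul).mp hdvd).elim h1 hnd

end Cfsg.Agent.S0049
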