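import Cfsg.Statements.S0052
import Mathlib
import Cfsg.Agent.Lib.Coprime

set_option autoImplicit false
open Pointwise
open Cfsg

namespace Cfsg.Agent.S0052

/-- Gaschütz's Theorem, conjugacy: for an abelian normal subgroup K ≤ U with the order of K coprime to the index of U, two complements of K in G having the same intersection with U are conjugate. -/
theorem result {G : Type*} [Group G] [Finite G] (K U : Subgroup G) [K.Normal] [IsMulCommutative K]
    (hKU : K ≤ U) (hcop : (Nat.card K).Coprime U.index)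
    (H₀ H₁ : Subgroup G) (h₀ : Subgroup.IsComplement' K H₀) (h₁ : Subgroup.IsComplement' K H₁) (hU : H₀ ⊓ U = H₁ ⊓ U) :
    ∃ g : G, MulAut.conj g • H₀ = H₁ := by
  classical
  letI : CommGroup K := { (inferInstance : Group K) with mul_comm := IsMulCommutative.is_comm.comm }
  have hdec : ∀ (H : Subgroup G), Subgroup.IsComplement' K H → ∃ f : G → K,
      (∀ g h, f (g * h) = f g * MulAut.conjNormal g (f h)) ∧ (∀ k : K, ∀ x ∈ H, f ((k : G) * x) = k) ∧
      ∀ g, (f g : G)⁻¹ * g ∈ H := by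
    intro H hH
    have hex : ∀ g : G, ∃ k : K, (k : G)⁻¹ * g ∈ H := fun g => by
      obtain ⟨⟨k, x⟩, e⟩ := hH.2 g
      exact ⟨k, by rw [← e]; simp⟩
    choose f hf using hex
    have huniq : ∀ (k : K) (g : G), (k : G)⁻¹ * g ∈ H → f g = k := fun k g hk => by
      have h2 : (k : G)⁻¹ * f g = 1 := Subgroup.disjoint_def.mp hH.disjoint (K.mul_mem (K.inv_mem k.2) (f g).2)
        (by simpa [mul_assoc] using H.mul_mem hk (H.inv_mem (hf g)))
      exact Subtype.ext (inv_mul_eq_one.mp h2).symm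
    refine ⟨f, fun g h => huniq _ _ ?_, fun k x hx => huniq _ _ (by simpa using hx), hf⟩
    have hc : ((MulAut.conjNormal g (f h) : K) : G) = (f g : G)⁻¹ * g * f h * ((f g : G)⁻¹ * g)⁻¹ := by
      have h1 : MulAut.conjNormal ((f g : G)) (MulAut.conjNormal ((f g : G)⁻¹ * g) (f h) : K) =
          MulAut.conjNormal ((f g : G)⁻¹ * g) (f h) := by
        refine Subtype.ext ?_
        rw [MulAut.conjNormal_apply, mul_inv_eq_iff_eq_mul]
        exact congrArg Subtype.val (mul_comm (f g) (MulAut.conjNormal ((f g : G)⁻¹ * g) (f h)))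
      rw [← MulAut.mul_apply, ← map_mul, mul_inv_cancel_left] at h1
      rw [h1, MulAut.conjNormal_apply]
    have e : ((f g * MulAut.conjNormal g (f h) : K) : G)⁻¹ * (g * h) = ((f g : G)⁻¹ * g) * ((f h : G)⁻¹ * h) := by
      rw [Subgroup.coe_mul, hc]; group
    rw [e]
    exact H.mul_mem (hf g) (hf h)
  obtain ⟨f₀, hm₀, hk₀, hmem₀⟩ := hdec H₀ h₀
  obtain ⟨f₁, hm₁, hk₁, hmem₁⟩ := hdec H₁ h₁
  have hUeq : ∀ u ∈ U, f₀ u = f₁ u := fun u hu => by
    have h0' : (f₀ u : G)⁻¹ * u ∈ H₀ ⊓ U :=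
      Subgroup.mem_inf.mpr ⟨hmem₀ u, U.mul_mem (U.inv_mem (hKU (f₀ u).2)) hu⟩
    rw [hU] at h0'
    have h2 : (f₀ u : G)⁻¹ * u ∈ H₁ := (Subgroup.mem_inf.mp h0').1
    have := hk₁ (f₀ u) _ h2
    rw [mul_inv_cancel_left] at this
    exact this.symm
  let d : G → K := fun g => f₁ g * (f₀ g)⁻¹
  have hdm : ∀ g h, d (g * h) = d g * MulAut.conjNormal g (d h) := fun g h => by
    simp only [d]
    rw [hm₁, hm₀, map_mul, map_inv, mul_inv]
    exact mul_mul_mul_comm _ _ _ _
  have hdU : ∀ u ∈ U, d u = 1 := fun u hu => by simp only [d, hUeq u hu, mul_inv_cancel]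
  have hdx : ∀ g, ∀ u ∈ U, d (g * u) = d g := fun g u hu => by rw [hdm, hdU u hu, map_one, mul_one]
  letI := Fintype.ofFinite (G ⧸ U)
  let t : G ⧸ U → G := Quotient.out
  have ht : ∀ x, (QuotientGroup.mk (t x) : G ⧸ U) = x := fun x => QuotientGroup.out_eq' x
  let c : K := ∏ x, d (t x)
  have hc : ∀ g, c = d g ^ U.index * MulAut.conjNormal g c := fun g => by
    have e : ∀ x, d (t (g • x)) = d g * MulAut.conjNormal g (d (t x)) := fun x => by
      have hu : (t (g • x))⁻¹ * (g * t x) ∈ U := QuotientGroup.eq.mp (by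
        rw [ht]; exact (congrArg (g • ·) (ht x)).symm)
      rw [← hdm, ← hdx (t (g • x)) _ hu, mul_inv_cancel_left]
    calc c = ∏ x, d (t (g • x)) := (Equiv.prod_comp (MulAction.toPerm g) fun x => d (t x)).symm
      _ = _ := by
        rw [Finset.prod_congr rfl fun x _ => e x, Finset.prod_mul_distrib, Finset.prod_const, Finset.card_univ,
          ← Nat.card_eq_fintype_card, ← map_prod]
        rfl
  obtain ⟨b, hb⟩ : ∃ b : K, b ^ U.index = c := ⟨_, (powCoprime hcop).apply_symm_apply c⟩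
  have hbd : ∀ g, b = d g * MulAut.conjNormal g b := fun g => (powCoprime hcop).injective (by
    show b ^ U.index = (d g * MulAut.conjNormal g b) ^ U.index
    rw [mul_pow, ← map_pow, hb]; exact hc g)
  refine ⟨(b : G)⁻¹, Subgroup.eq_of_le_of_card_ge ?_ ?_⟩
  · rintro _ ⟨x, hx, rfl⟩
    show (b : G)⁻¹ * x * (b : G)⁻¹⁻¹ ∈ H₁
    have hx0 : f₀ x = 1 := by simpa using hk₀ 1 x hx
    have hd : (d x : G) = f₁ x := by simp [d, hx0]
    have e := congrArg Subtype.val (hbd x)
    rw [Subgroup.coe_mul, MulAut.conjNormal_apply, hd] at e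
    have h3 : (b : G)⁻¹ * x * (b : G)⁻¹⁻¹ = (f₁ x : G)⁻¹ * x := by
      have h4 : x * (b : G) * x⁻¹ = (f₁ x : G)⁻¹ * b := by rw [eq_inv_mul_iff_mul_eq]; exact e.symm
      calc (b : G)⁻¹ * x * (b : G)⁻¹⁻¹ = (b : G)⁻¹ * (x * b * x⁻¹) * x := by group
        _ = ((b⁻¹ * (f₁ x)⁻¹ * b : K) : G) * x := by rw [h4]; push_cast; group
        _ = _ := by rw [inv_mul_cancel_comm]; simp
    rw [h3]
    exact hmem₁ x
  · have e0 := h₀.card_mul_card
    rw [← h₁.card_mul_card] at e0
    rw [CfsgLib.card_conj_smul]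
    exact (Nat.eq_of_mul_eq_mul_left Nat.card_pos e0).ge

end Cfsg.Agent.S0052
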