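import Cfsg.Statements.S0053

set_option autoImplicit false
open Cfsg

namespace Cfsg.Agent.S0053

/-- An abelian minimal normal subgroup N of a finite group is complemented exactly when N is not inside the Frattini subgroup. -/
theorem result {G : Type*} [Group G] [Finite G]
    (N : Subgroup G) [N.Normal] [IsMulCommutative N] (hN : N ≠ ⊥)
    (hmin : ∀ M : Subgroup G, M.Normal → M ≤ N → M = ⊥ ∨ M = N) :
    (∃ H : Subgroup G, Subgroup.IsComplement' N H) ↔ ¬ N ≤ frattini G := by
  constructor
  · rintro ⟨H, hH⟩ hle
    have h1 : frattini G ⊔ H = ⊤ := top_le_iff.1 (hH.sup_eq_top.symm.trans_le (sup_le_sup_right hle H))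
    have h2 : H = ⊤ := frattini_nongenerating (by rwa [sup_comm])
    exact hN (disjoint_top.1 (h2 ▸ hH.disjoint))
  · intro hle
    obtain ⟨M, hM, hNM⟩ : ∃ M : Subgroup G, IsCoatom M ∧ ¬ N ≤ M := by
      by_contra! h
      exact hle (le_iInf₂ fun M hM => h M hM)
    refine ⟨M, Subgroup.isComplement'_of_disjoint_and_mul_eq_univ ?_ ?_⟩
    · rw [disjoint_iff]
      have hsup : N ⊔ M = ⊤ := hM.2 _ (lt_of_le_of_ne le_sup_right fun e => hNM (e ▸ le_sup_left))
      have hnorm : (N ⊓ M).Normal := by
        rw [← Subgroup.normalizer_eq_top_iff, eq_top_iff, ← hsup]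
        refine sup_le ?_ ?_
        · intro n hn
          rw [Subgroup.mem_normalizer_iff]
          intro x
          have hc : ∀ y ∈ N, n * y * n⁻¹ = y := fun y hy => by
            rw [show n * y = y * n from congrArg Subtype.val (mul_comm' (⟨n, hn⟩ : N) ⟨y, hy⟩)]
            group
          refine ⟨fun hx => by rwa [hc x hx.1], fun hx => ?_⟩
          have hxN : x ∈ N := by
            have := (inferInstance : N.Normal).conj_mem _ hx.1 n⁻¹
            simpa [mul_assoc] using this
          rwa [hc x hxN] at hx
        · intro m hm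
          rw [Subgroup.mem_normalizer_iff]
          intro x
          constructor
          · rintro ⟨hx1, hx2⟩
            exact ⟨(inferInstance : N.Normal).conj_mem _ hx1 m, M.mul_mem (M.mul_mem hm hx2) (M.inv_mem hm)⟩
          · rintro ⟨hx1, hx2⟩
            refine ⟨?_, ?_⟩
            · have := (inferInstance : N.Normal).conj_mem _ hx1 m⁻¹
              simpa [mul_assoc] using this
            · have := M.mul_mem (M.mul_mem (M.inv_mem hm) hx2) hm
              simpa [mul_assoc] using this
      rcases hmin _ hnorm inf_le_left with h | h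
      · exact h
      · exact absurd (inf_eq_left.1 h) hNM
    · have hsup : N ⊔ M = ⊤ := hM.2 _ (lt_of_le_of_ne le_sup_right fun e => hNM (e ▸ le_sup_left))
      rw [← Subgroup.normal_mul, hsup, Subgroup.coe_top]

end Cfsg.Agent.S0053
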