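import Cfsg.Statements.S0057
import Cfsg.Agent.Lib.Coprime
import Cfsg.Agent.Lib.CoprimeAbelian
import Mathlib.GroupTheory.IndexNormal

set_option autoImplicit false
open Cfsg
open scoped commutatorElement

namespace Cfsg.Agent.S0057

/-- Under coprime action, if the centraliser of A in K has prime index p in K then the commutator subgroup [K, A] has order exactly p. -/
theorem result {G : Type*} [Group G] [Finite G] (A K : Subgroup G) (hAK : A ≤ Subgroup.normalizer (K : Set G))
    (hcop : (Nat.card A).Coprime (Nat.card K)) (hsolv : Group.IsSolvable A ∨ Group.IsSolvable K)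
    (p : ℕ) (hp : p.Prime) (hidx : (K ⊓ Subgroup.centralizer (A : Set G)).relIndex K = p) :
    Nat.card (⁅K, A⁆ : Subgroup G) = p := by
  have := Fact.mk hp
  set C := K ⊓ Subgroup.centralizer (A : Set G) with hC
  have hCK : C ≤ K := inf_le_left
  obtain ⟨P₀, hP₀⟩ := CfsgLib.coprime_exists_invariant_sylow hAK hcop hsolv p
  set P := (P₀ : Subgroup K).map K.subtype with hP
  have hPK : P ≤ K := Subgroup.map_subtype_le _
  have hPp : IsPGroup p P := P₀.2.map _
  have hdvd : p ∣ Nat.card K := hidx ▸ Subgroup.relIndex_dvd_card C K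
  have hcopP : (Nat.card A).Coprime (Nat.card P) := hcop.coprime_dvd_right (Subgroup.card_dvd_of_le hPK)
  -- `C ∩ P` has index `p` in `P`
  have hnle : ¬ P ≤ C := fun hle => by
    have h1 : P₀.toSubgroup ≤ C.subgroupOf K := fun x hx => hle ⟨x, hx, rfl⟩
    have h2 := Subgroup.index_dvd_of_le h1
    rw [show (C.subgroupOf K).index = p from hidx] at h2
    exact P₀.not_dvd_index h2
  have hle : C.relIndex P ≤ p := hidx ▸ Subgroup.relIndex_le_of_le_right hPK (hidx ▸ hp.ne_zero)
  have hrel : C.relIndex P = p := by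
    haveI := hPp.isNilpotent
    obtain ⟨n, hn⟩ := hPp.exists_card_eq
    obtain ⟨i, -, hi⟩ := (Nat.dvd_prime_pow hp).mp (hn ▸ Subgroup.relIndex_dvd_card C P)
    have hne : C.relIndex P ≠ 1 := fun h => hnle (Subgroup.relIndex_eq_one.mp h)
    rcases i with _ | _ | i
    · exact absurd hi hne
    · simpa using hi
    · exfalso
      have : p * p ≤ C.relIndex P := by rw [hi, ← sq]; exact Nat.pow_le_pow_right hp.pos (by omega)
      nlinarith [hp.two_le]
  -- `K = P C`
  have hPC : ∀ k ∈ K, ∃ x ∈ P, ∃ c ∈ C, k = x * c := by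
    intro k hk
    let e := Subgroup.quotientSubgroupOfEmbeddingOfLE C hPK
    have hcard : Nat.card (↥K ⧸ C.subgroupOf K) ≤ Nat.card (↥P ⧸ C.subgroupOf P) := le_of_eq (hidx.trans hrel.symm)
    obtain ⟨q, hq⟩ := (e.injective.bijective_of_nat_card_le hcard).2 (QuotientGroup.mk ⟨k, hk⟩)
    induction q using QuotientGroup.induction_on with
    | H x =>
      simp only [e, Subgroup.quotientSubgroupOfEmbeddingOfLE_apply_mk] at hq
      rw [QuotientGroup.eq, Subgroup.mem_subgroupOf] at hq
      exact ⟨x, x.2, _, hq, by simp⟩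
  set R := ⁅P, A⁆ with hR
  have hKR : ⁅K, A⁆ = R := by
    refine le_antisymm (Subgroup.commutator_le.mpr fun k hk a ha => ?_) (Subgroup.commutator_mono hPK le_rfl)
    obtain ⟨x, hx, c, hc, rfl⟩ := hPC k hk
    have hca : c * a * c⁻¹ = a := by rw [← hc.2 a ha, mul_inv_cancel_right]
    have e : ⁅x * c, a⁆ = ⁅x, a⁆ := by
      simp only [commutatorElement_def]
      calc x * c * a * (x * c)⁻¹ * a⁻¹ = x * (c * a * c⁻¹) * x⁻¹ * a⁻¹ := by group
        _ = _ := by rw [hca]
    rw [e]
    exact Subgroup.commutator_mem_commutator hx ha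
  rw [hKR]
  have hRP : R ≤ P := CfsgLib.commutator_le_of_le_normalizer hP₀
  -- `R` centralises `C ∩ P`
  set W := C ⊓ P with hW
  have hPW : ∀ x ∈ P, ∀ w ∈ W, x * w * x⁻¹ ∈ W := by
    intro x hx w hw
    haveI := hPp.isNilpotent
    have hn : (W.subgroupOf P).Normal := by
      refine Subgroup.normal_of_index_eq_minFac_card ?_
      have h1 : (W.subgroupOf P).index = p := by rw [hW, Subgroup.inf_subgroupOf_right]; exact hrel
      obtain ⟨n, hn⟩ := hPp.exists_card_eq
      have hn0 : n ≠ 0 := fun h0 => hp.not_dvd_one (by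
        have := (W.subgroupOf P).index_dvd_card
        rwa [h1, hn, h0, pow_zero] at this)
      rw [h1, hn, Nat.pow_minFac hn0, hp.minFac_eq]
    exact hn.conj_mem ⟨w, hw.2⟩ hw ⟨x, hx⟩
  have hRW : ∀ r ∈ R, ∀ w ∈ W, r * w = w * r := by
    have h1 : ⁅⁅A, W⁆, P⁆ = ⊥ := by
      rw [show ⁅A, W⁆ = ⊥ from Subgroup.commutator_eq_bot_iff_le_centralizer.mpr fun a ha w hw => (hw.1.2 a ha).symm]
      exact Subgroup.commutator_bot_left _
    have h2 : ⁅⁅W, P⁆, A⁆ = ⊥ := Subgroup.commutator_eq_bot_iff_le_centralizer.mpr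
      ((Subgroup.commutator_le.mpr fun w hw x hx => by
        have := W.mul_mem hw (hPW x hx _ (W.inv_mem hw))
        rw [show ⁅w, x⁆ = w * (x * w⁻¹ * x⁻¹) by group]
        exact this).trans (inf_le_left.trans inf_le_right))
    intro r hr w hw
    exact (Subgroup.commutator_eq_bot_iff_le_centralizer.mp
      (Subgroup.commutator_commutator_eq_bot_of_rotate h1 h2) hr w hw).symm
  have hRA : A ≤ Subgroup.normalizer (R : Set G) := CfsgLib.right_le_normalizer_commutator A P
  have hcopR : (Nat.card A).Coprime (Nat.card R) := hcopP.coprime_dvd_right (Subgroup.card_dvd_of_le hRP)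
  have hsolvP : Group.IsSolvable A ∨ Group.IsSolvable P := Or.inr (by haveI := hPp.isNilpotent; infer_instance)
  have hRAR : ⁅R, A⁆ = R := CfsgLib.coprime_commutator_commutator hP₀ hcopP hsolvP
  have hrelR : W.relIndex R ≤ p := by
    calc W.relIndex R ≤ W.relIndex P := Subgroup.relIndex_le_of_le_right hRP Subgroup.index_ne_zero_of_finite
      _ = p := by rw [hW, Subgroup.inf_relIndex_right]; exact hrel
  haveI hRab : IsMulCommutative R := by
    have hZ : W.subgroupOf R ≤ Subgroup.center R := fun w hw =>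
      Subgroup.mem_center_iff.mpr fun r => Subtype.ext (hRW r r.2 w hw)
    have hi : (Subgroup.center R).index ≤ p := (Subgroup.index_antitone hZ).trans hrelR
    haveI : IsCyclic (R ⧸ Subgroup.center R) := by
      rcases Nat.lt_or_ge (Subgroup.center R).index p with hlt | hge
      · obtain ⟨n, hn⟩ := (hPp.to_le hRP).exists_card_eq
        obtain ⟨i, -, hi'⟩ := (Nat.dvd_prime_pow hp).mp (hn ▸ (Subgroup.center R).index_dvd_card)
        have h1 : Nat.card (R ⧸ Subgroup.center R) = 1 := by
          rw [← Subgroup.index_eq_card, hi']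
          rcases i with _ | i
          · rfl
          · exfalso
            have : p ≤ p ^ (i + 1) := Nat.le_self_pow (by omega) p
            omega
        haveI := (Nat.card_eq_one_iff_unique.mp h1).1
        infer_instance
      · exact isCyclic_of_prime_card (p := p) (by rw [← Subgroup.index_eq_card]; omega)
    exact isMulCommutative_of_isCyclic_quotient_center_self R
  have hfix : W ⊓ R = ⊥ := by
    rw [eq_bot_iff, ← CfsgLib.coprime_abelian_disjoint A R hRA hcopR]
    intro w hw
    exact ⟨⟨hw.2, hw.1.1.2⟩, hRAR.symm ▸ hw.2⟩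
  have hcard : Nat.card R = W.relIndex R := by
    rw [← Subgroup.inf_relIndex_right, hfix, Subgroup.relIndex_bot_left]
  rcases eq_or_ne R ⊥ with h0 | h0
  · exfalso
    refine hnle fun x hx => ⟨hPK hx, fun a ha => ?_⟩
    have : ⁅x, a⁆ = 1 := Subgroup.mem_bot.mp (h0 ▸ Subgroup.commutator_mem_commutator hx ha)
    exact (commutatorElement_eq_one_iff_mul_comm.mp this).symm
  · refine le_antisymm (hcard ▸ hrelR) ?_
    obtain ⟨n, hn⟩ := (hPp.to_le hRP).exists_card_eq
    rcases n with _ | n
    · exact absurd (Subgroup.card_eq_one.mp (hn.trans (pow_zero p))) h0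
    · rw [hn]; exact Nat.le_self_pow (Nat.succ_ne_zero n) p

end Cfsg.Agent.S0057
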