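import Cfsg.Statements.S0059
import Cfsg.Agent.Lib.CoprimeGen

set_option autoImplicit false
open Cfsg

namespace Cfsg.Agent.S0059

/-- Let a finite group act on a set on which a normal subgroup K of coprime order and index is transitive, with K or the quotient solvable. Then any complement H of K has a fixed point, and any two H-fixed points are interchanged by an element of K centralising H. -/
theorem result {G : Type*} [Group G] [Finite G] {X : Type*} [Nonempty X] [MulAction G X]
    (K H : Subgroup G) [K.Normal] (hc : Subgroup.IsComplement' K H) (hcop : (Nat.card K).Coprime K.index)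
    (hsolv : Group.IsSolvable K ∨ Group.IsSolvable (G ⧸ K)) (htrans : MulAction.IsPretransitive K X) :
    (∃ x : X, ∀ h ∈ H, h • x = x) ∧
    ∀ x y : X, (∀ h ∈ H, h • x = x) → (∀ h ∈ H, h • y = y) → ∃ k ∈ K ⊓ Subgroup.centralizer (H : Set G), k • x = y := by
  have hHK : ∀ x ∈ H, x ∈ K → x = 1 := fun x hxH hxK =>
    Subgroup.disjoint_def.mp hc.disjoint hxK hxH
  -- the stabiliser of any point supplements `K`
  have hstab : ∀ x : X, MulAction.stabilizer G x ⊔ K = ⊤ := by
    intro x
    rw [eq_top_iff]
    intro g _
    obtain ⟨⟨k, hk⟩, hkx⟩ := MulAction.exists_smul_eq K (g • x) x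
    have h1 : k * g ∈ MulAction.stabilizer G x := by
      rw [MulAction.mem_stabilizer_iff, mul_smul]
      exact hkx
    have h2 : k⁻¹ * (k * g) ∈ MulAction.stabilizer G x ⊔ K :=
      Subgroup.mul_mem _ (Subgroup.mem_sup_right (K.inv_mem hk)) (Subgroup.mem_sup_left h1)
    simpa using h2
  have hidx : ∀ x : X, (K.subgroupOf (MulAction.stabilizer G x)).index = K.index := by
    intro x
    have h1 := Subgroup.relIndex_sup_right (K := K) (H := MulAction.stabilizer G x)
    rw [hstab x, Subgroup.relIndex_top_right] at h1
    exact h1.symm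
  have hcopS : ∀ x : X, (Nat.card (K.subgroupOf (MulAction.stabilizer G x))).Coprime
      (K.subgroupOf (MulAction.stabilizer G x)).index := fun x => by
    rw [hidx]
    exact hcop.coprime_dvd_left (Subgroup.card_comap_dvd_of_injective _ _ (Subgroup.subtype_injective _))
  refine ⟨?_, fun x y hx hy => ?_⟩
  · obtain ⟨x⟩ := ‹Nonempty X›
    obtain ⟨H₁, hH₁⟩ := Subgroup.exists_right_complement'_of_coprime (hcopS x)
    have hH₁c : Subgroup.IsComplement' K (H₁.map (MulAction.stabilizer G x).subtype) := by
      refine CfsgLib.isComplement'_of_card hcop ?_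
      rw [Subgroup.card_map_of_injective (Subgroup.subtype_injective _), ← hH₁.symm.index_eq_card, hidx]
    obtain ⟨k, hk, hkH⟩ := CfsgLib.complements_conj_mem hcop hsolv hH₁c hc
    refine ⟨k • x, fun h hh => ?_⟩
    rw [← hkH, CfsgLib.mem_conj_smul_iff] at hh
    have h2 : (k⁻¹ * h * k) • x = x := (Subgroup.map_subtype_le H₁ hh :)
    calc h • k • x = k • ((k⁻¹ * h * k) • x) := by rw [smul_smul, smul_smul]; group
      _ = k • x := by rw [h2]
  · obtain ⟨⟨k, hk⟩, hkx⟩ := MulAction.exists_smul_eq K x y
    change k • x = y at hkx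
    obtain ⟨w, hw, hcw⟩ := CfsgLib.coprime_key (A := H) (K := K) (W := K ⊓ MulAction.stabilizer G x)
      (k := k) (fun h _ => by rw [Subgroup.normalizer_eq_top]; exact Subgroup.mem_top h)
      (by rw [← hc.symm.index_eq_card]; exact hcop.symm)
      (by
        rcases hsolv with hs | hs
        · exact Or.inr hs
        · refine Or.inl (Group.isSolvable_of_isSolvable_injective
            (f := (QuotientGroup.mk' K).comp H.subtype) ?_)
          rw [injective_iff_map_eq_one]
          intro z hz
          exact Subtype.ext (hHK z z.2 ((QuotientGroup.eq_one_iff _).mp hz)))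
      inf_le_left (fun h hh => by
        rw [Subgroup.mem_normalizer_iff]
        intro z
        simp only [Subgroup.mem_inf, MulAction.mem_stabilizer_iff]
        have hxi : h⁻¹ • x = x := by rw [inv_smul_eq_iff, hx h hh]
        refine and_congr ⟨fun hz => ‹K.Normal›.conj_mem z hz h, fun hz => ?_⟩ ?_
        · simpa [mul_assoc] using ‹K.Normal›.conj_mem _ hz h⁻¹
        · rw [mul_smul, mul_smul, hxi]
          constructor
          · intro hz; rw [hz, hx h hh]
          · intro hz
            have := congrArg (fun t => h⁻¹ • t) hz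
            simpa [hxi] using this) hk
      (fun h hh => by
        have h1 : k⁻¹ * h * k * h⁻¹ ∈ K ⊓ MulAction.stabilizer G x := by
          refine ⟨?_, ?_⟩
          · have := K.mul_mem (K.inv_mem hk) (‹K.Normal›.conj_mem k hk h)
            simpa [mul_assoc] using this
          · refine MulAction.mem_stabilizer_iff.mpr ?_
            rw [mul_smul,
              inv_smul_eq_iff.mpr (hx h hh).symm, mul_smul, mul_smul, hkx, hy h hh, ← hkx,
              inv_smul_smul]
        simpa using Subgroup.mul_mem_sup h1 hh)
    refine ⟨k * w, ⟨K.mul_mem hk hw.1, hcw⟩, ?_⟩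
    rw [mul_smul, MulAction.mem_stabilizer_iff.mp hw.2, hkx]

end Cfsg.Agent.S0059
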