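import Cfsg.Statements.S0064

set_option autoImplicit false
open Cfsg

namespace Cfsg.Agent.S0064

/-- A finite group is nilpotent exactly when each of its subgroups is subnormal. -/
theorem result {G : Type*} [Group G] [Finite G] :
    Group.IsNilpotent G ↔ ∀ H : Subgroup G, H.IsSubnormal := by
  constructor
  · intro hnil H
    induction H using WellFoundedGT.induction with
    | _ H ih =>
      rcases eq_or_ne H ⊤ with rfl | hne
      · exact Subgroup.IsSubnormal.top
      · have hlt : H < Subgroup.normalizer (H : Set G) :=
          normalizerCondition_of_isNilpotent H hne.lt_top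
        exact Subgroup.IsSubnormal.step H _ hlt.le (ih _ hlt)
          ((Subgroup.normal_subgroupOf_iff_le_normalizer hlt.le).mpr le_rfl)
  · intro h
    refine ((Group.isNilpotent_of_finite_tfae (G := G)).out 0 2).mpr fun M hM => ?_
    rcases (h M).lt_normal with rfl | ⟨K, hK, hMK, hKlt⟩
    · exact absurd rfl hM.1
    · have : M = K := ((hM.le_iff).mp hMK).elim (fun h => absurd h hKlt.ne) (fun h => h.symm)
      exact this ▸ hK

end Cfsg.Agent.S0064
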