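import Cfsg.Statements.S0068
import Mathlib
import Cfsg.Agent.Lib.Frobenius.Kernel
-- import your own Cfsg.Agent.* helpers here

set_option autoImplicit false
open Cfsg

namespace Cfsg.Agent.S0068

/-- Frobenius complements of even order: if H complements a nontrivial normal subgroup K, each nonidentity element of H has trivial centraliser in K, and H has even order, then H contains a unique involution s, K is abelian, and s inverts every element of K. -/
theorem result {G : Type*} [Group G] [Finite G] (K H : Subgroup G) [K.Normal]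
    (hc : Subgroup.IsComplement' K H) (hK : K ≠ ⊥) (hfpf : ∀ h ∈ H, h ≠ 1 → K ⊓ Subgroup.centralizer {h} = ⊥)
    (heven : 2 ∣ Nat.card H) :
    (∃ s ∈ H, orderOf s = 2 ∧ (∀ t ∈ H, orderOf t = 2 → t = s) ∧ ∀ k ∈ K, s * k * s⁻¹ = k⁻¹) ∧ IsMulCommutative K := by
  have := Fact.mk Nat.prime_two
  obtain ⟨⟨s, hs⟩, hord⟩ := exists_prime_orderOf_dvd_card' (G := H) 2 heven
  rw [Subgroup.orderOf_mk] at hord
  -- an involution of `H` inverts `K`
  have hinv : ∀ t ∈ H, orderOf t = 2 → ∀ k ∈ K, t * k * t⁻¹ = k⁻¹ := by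
    intro t ht ht2 k hk
    have ht1 : t ≠ 1 := fun e => by rw [e, orderOf_one] at ht2; omega
    set φ : MulAut K := MulAut.conjNormal t with hφ
    have hfix : MonoidHom.FixedPointFree φ := fun a ha => by
      have h1 : (a : G) ∈ K ⊓ Subgroup.centralizer {t} := by
        refine ⟨a.2, Subgroup.mem_centralizer_singleton_iff.mpr ?_⟩
        have h := congrArg Subtype.val ha
        rw [hφ, MulAut.conjNormal_apply] at h
        exact (mul_inv_eq_iff_eq_mul.mp h).symm
      rw [hfpf t ht ht1, Subgroup.mem_bot] at h1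
      exact Subtype.ext h1
    have h2 : Function.Involutive φ := fun a => Subtype.ext (by
      rw [hφ, MulAut.conjNormal_apply, MulAut.conjNormal_apply]
      have : t⁻¹ = t := by
        rw [inv_eq_iff_mul_eq_one, ← sq, ← ht2, pow_orderOf_eq_one]
      rw [this]
      have e : t * t = 1 := by rw [← sq, ← ht2, pow_orderOf_eq_one]
      calc t * (t * (a : G) * t) * t = (t * t) * a * (t * t) := by group
        _ = a := by rw [e, one_mul, mul_one])
    have h3 := congrFun (hfix.coe_eq_inv_of_involutive h2) ⟨k, hk⟩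
    have h4 := congrArg Subtype.val h3
    rwa [hφ, MulAut.conjNormal_apply] at h4
  refine ⟨⟨s, hs, hord, fun t ht ht2 => ?_, hinv s hs hord⟩, ⟨⟨fun a b => Subtype.ext ?_⟩⟩⟩
  · by_contra hne
    have h1 : t⁻¹ * s ≠ 1 := fun e => hne (inv_mul_eq_one.mp e)
    obtain ⟨k, hk, hk1⟩ := SetLike.exists_of_lt (bot_lt_iff_ne_bot.mpr hK)
    refine hk1 ?_
    rw [← hfpf _ (H.mul_mem (H.inv_mem ht) hs) h1]
    refine ⟨hk, Subgroup.mem_centralizer_singleton_iff.mpr ?_⟩
    have e1 := hinv t ht ht2 k hk
    have e2 := hinv s hs hord k hk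
    have e3 : s * k * s⁻¹ = t * k * t⁻¹ := e2.trans e1.symm
    calc k * (t⁻¹ * s) = t⁻¹ * (t * k * t⁻¹) * s := by group
      _ = t⁻¹ * (s * k * s⁻¹) * s := by rw [e3]
      _ = t⁻¹ * s * k := by group
  · have e1 := hinv s hs hord _ (K.mul_mem a.2 b.2)
    have e2 := hinv s hs hord _ a.2
    have e3 := hinv s hs hord _ b.2
    show (a : G) * b = b * a
    have : ((a : G) * b)⁻¹ = (a : G)⁻¹ * (b : G)⁻¹ := by
      rw [← e1, ← e2, ← e3]; group
    rw [mul_inv_rev] at this
    have h := congrArg (fun x => x⁻¹) this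
    simpa using h

end Cfsg.Agent.S0068
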