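import Cfsg.Statements.S0069
import Mathlib
import Cfsg.Agent.Lib.Frobenius.Complement
import Cfsg.Agent.S0068
-- import your own Cfsg.Agent.* helpers here

set_option autoImplicit false
open Cfsg

namespace Cfsg.Agent.S0069

/-- A Frobenius complement has nontrivial centre: if H ≠ 1 complements a nontrivial normal subgroup K and every nonidentity element of H has trivial centraliser in K, then the centre of H is nontrivial. -/
theorem result {G : Type*} [Group G] [Finite G] (K H : Subgroup G) [K.Normal]
    (hc : Subgroup.IsComplement' K H) (hK : K ≠ ⊥) (hH : H ≠ ⊥) (hfpf : ∀ h ∈ H, h ≠ 1 → K ⊓ Subgroup.centralizer {h} = ⊥) :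
    Subgroup.center H ≠ ⊥ := by
  rcases Nat.even_or_odd (Nat.card H) with hev | hodd
  · obtain ⟨⟨s, hs, hso, huniq, -⟩, -⟩ := Cfsg.Agent.S0068.result K H hc hK hfpf hev.two_dvd
    intro hbot
    have h1 : (⟨s, hs⟩ : H) ∈ Subgroup.center H := by
      rw [Subgroup.mem_center_iff]
      intro h
      apply Subtype.ext
      show (h : G) * s = s * h
      have h2 := huniq ((h : G) * s * (h : G)⁻¹) (H.mul_mem (H.mul_mem h.2 hs) (H.inv_mem h.2)) (by
        rw [← MulAut.conj_apply, MulEquiv.orderOf_eq, hso])
      exact mul_inv_eq_iff_eq_mul.mp h2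
    rw [hbot, Subgroup.mem_bot] at h1
    have h3 : s = 1 := congrArg Subtype.val h1
    rw [h3, orderOf_one] at hso
    omega
  · obtain ⟨V, hVc, hV, hn, hf⟩ := CfsgLib.Frob.exists_abelian_module hc hK hH hfpf
    exact CfsgLib.Frob.center_ne_bot_of_odd hV hn hf hodd hH

end Cfsg.Agent.S0069
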