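import Cfsg.Statements.S0070
import Cfsg.Agent.Lib.Components

set_option autoImplicit false
open Cfsg

namespace Cfsg.Agent.S0070

/-- The Fitting subgroup commutes with passing to the Frattini quotient: the Fitting subgroup of G modulo its Frattini subgroup is the image of the Fitting subgroup of G. -/
theorem result {G : Type*} [Group G] [Finite G] :
    Cfsg.fittingSubgroup (G ⧸ frattini G) = (Cfsg.fittingSubgroup G).map (QuotientGroup.mk' (frattini G)) := by
  set F := frattini G with hF
  let π := QuotientGroup.mk' F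
  have hs : Function.Surjective π := QuotientGroup.mk'_surjective F
  refine le_antisymm ?_ ?_
  · set H := (Cfsg.fittingSubgroup (G ⧸ F)).comap π with hH
    have hHn : H.Normal := Subgroup.normal_comap _
    have hFH : F ≤ H := by
      intro x hx
      rw [hH, Subgroup.mem_comap, show π x = 1 from (QuotientGroup.eq_one_iff x).mpr hx]
      exact one_mem _
    suffices hnil : Group.IsNilpotent H by
      have := CfsgLib.le_fittingSubgroup (N := H) hnil
      calc Cfsg.fittingSubgroup (G ⧸ F) = H.map π := (Subgroup.map_comap_eq_self_of_surjective hs _).symm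
        _ ≤ _ := Subgroup.map_mono this
    refine ((Group.isNilpotent_of_finite_tfae (G := H)).out 0 3).mpr ?_
    intro p hp P
    -- image of `P` in the nilpotent group `F(G/Φ)`
    have hnilq : Group.IsNilpotent (Cfsg.fittingSubgroup (G ⧸ F)) := CfsgLib.isNilpotent_fittingSubgroup
    let f : H →* Cfsg.fittingSubgroup (G ⧸ F) :=
      (π.comp H.subtype).codRestrict _ (fun x => x.2)
    have hf : Function.Surjective f := by
      rintro ⟨y, hy⟩
      obtain ⟨x, rfl⟩ := hs y
      exact ⟨⟨x, hy⟩, rfl⟩
    let Q : Sylow p (Cfsg.fittingSubgroup (G ⧸ F)) := P.mapSurjective hf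
    have hall : ∀ (p : ℕ) (_ : Fact p.Prime) (R : Sylow p (Cfsg.fittingSubgroup (G ⧸ F))),
        (R : Subgroup (Cfsg.fittingSubgroup (G ⧸ F))).Normal :=
      ((Group.isNilpotent_of_finite_tfae (G := Cfsg.fittingSubgroup (G ⧸ F))).out 0 3).mp hnilq
    have hQn : (Q : Subgroup (Cfsg.fittingSubgroup (G ⧸ F))).Normal := hall p hp Q
    haveI hQc : (Q : Subgroup (Cfsg.fittingSubgroup (G ⧸ F))).Characteristic := Sylow.characteristic_of_normal Q hQn
    let M := ((Q : Subgroup (Cfsg.fittingSubgroup (G ⧸ F))).map (Cfsg.fittingSubgroup (G ⧸ F)).subtype).comap π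
    haveI hMn : M.Normal := Subgroup.normal_comap _
    let P' : Subgroup G := (P : Subgroup H).map H.subtype
    have hPM : P' ≤ M := by
      rintro _ ⟨x, hx, rfl⟩
      exact ⟨f x, ⟨x, hx, rfl⟩, rfl⟩
    have hM : M ≤ P' ⊔ F := by
      rintro g ⟨q, ⟨x, hx, rfl⟩, hq⟩
      have hq' : π (x : G) = π g := hq
      have hxg : (x : G)⁻¹ * g ∈ F := by
        rw [← QuotientGroup.eq_one_iff]
        show π _ = 1
        rw [map_mul, map_inv, hq', inv_mul_cancel]
      have hxP : (x : G) ∈ P' := Subgroup.mem_map.mpr ⟨x, hx, rfl⟩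
      have := Subgroup.mul_mem (P' ⊔ F) (Subgroup.mem_sup_left hxP) (Subgroup.mem_sup_right hxg)
      simpa using this
    have hMH : M ≤ H := hM.trans (sup_le (Subgroup.map_subtype_le _) hFH)
    let PH : Sylow p (M.subgroupOf H) := P.subtype (by
      intro x hx
      exact hPM ⟨x, hx, rfl⟩)
    let PM : Sylow p M := PH.mapSurjective (f := (Subgroup.subgroupOfEquivOfLe hMH).toMonoidHom)
      (Subgroup.subgroupOfEquivOfLe hMH).surjective
    have hPM' : (PM : Subgroup M).map M.subtype = P' := by
      ext z
      constructor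
      · rintro ⟨_, ⟨w, hw, rfl⟩, rfl⟩
        exact ⟨_, hw, rfl⟩
      · rintro ⟨x, hx, rfl⟩
        exact ⟨_, ⟨⟨x, hPM ⟨x, hx, rfl⟩⟩, hx, rfl⟩, rfl⟩
    have htop := Sylow.normalizer_sup_eq_top PM
    rw [hPM'] at htop
    have htop' : Subgroup.normalizer (P' : Set G) ⊔ F = ⊤ := by
      rw [eq_top_iff, ← htop]
      refine sup_le le_sup_left (hM.trans (sup_le (Subgroup.le_normalizer.trans le_sup_left) le_sup_right))
    have hN := frattini_nongenerating htop'
    haveI : P'.Normal := Subgroup.normalizer_eq_top_iff.mp hN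
    have : (P : Subgroup H) = P'.subgroupOf H := (Subgroup.comap_map_eq_self_of_injective H.subtype_injective _).symm
    rw [this]
    infer_instance
  · haveI : ((Cfsg.fittingSubgroup G).map π).Normal :=
      Subgroup.Normal.map inferInstance π hs
    apply CfsgLib.le_fittingSubgroup
    haveI := CfsgLib.isNilpotent_fittingSubgroup (G := G)
    exact Group.nilpotent_of_surjective (π.subgroupMap _) (π.subgroupMap_surjective _)

end Cfsg.Agent.S0070
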