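import Cfsg.Statements.S0073
import Cfsg.Agent.Lib.TransferApps
import Cfsg.Agent.Lib.PComplement
import Mathlib.GroupTheory.IsSubnormal
import Mathlib.GroupTheory.SpecificGroups.Cyclic
-- import your own Cfsg.Agent.* helpers here

set_option autoImplicit false
open Cfsg

namespace Cfsg.Agent.S0073

/-- For a finite non-abelian simple group, either the cube of the least prime divisor of the order divides the order, or 12 does. -/
theorem result {G : Type*} [Group G] [Finite G] [IsSimpleGroup G] (hG : ∃ x y : G, x * y ≠ y * x) : (Nat.card G).minFac ^ 3 ∣ Nat.card G ∨ 12 ∣ Nat.card G := by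
  obtain ⟨a, b, hab⟩ := hG
  have hnab : ¬ ∀ x y : G, x * y = y * x := fun h => hab (h a b)
  set p := (Nat.card G).minFac with hp
  have h1 : Nat.card G ≠ 1 := fun e => by
    have := (Nat.card_eq_one_iff_unique.mp e).1
    exact hab (Subsingleton.elim _ _)
  have := Fact.mk (Nat.minFac_prime h1)
  have hpp : p.Prime := Fact.out
  by_contra hcon
  push_neg at hcon
  obtain ⟨hp3, h12⟩ := hcon
  obtain ⟨P⟩ : Nonempty (Sylow p G) := inferInstance
  have hno : ¬ Cfsg.HasNormalPComplement p G := by
    rintro ⟨Q, N, hN, hc⟩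
    rcases hN.eq_bot_or_eq_top with rfl | rfl
    · have htop : (Q : Subgroup G) = ⊤ := Subgroup.isComplement'_bot_left.mp hc
      have hGp : IsPGroup p G := by
        have := Q.2
        rw [htop] at this
        exact this.of_equiv Subgroup.topEquiv
      have : Nontrivial G := ⟨⟨a * b, b * a, hab⟩⟩
      have hZ := hGp.center_nontrivial
      rcases (inferInstance : (Subgroup.center G).Normal).eq_bot_or_eq_top with h | h
      · exact (Subgroup.nontrivial_iff_ne_bot _).mp hZ h
      · exact hnab fun x y => (Subgroup.mem_center_iff.mp (h.ge (Subgroup.mem_top x)) y).symm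
    · have hbot : (Q : Subgroup G) = ⊥ := Subgroup.isComplement'_top_left.mp hc
      have := Q.dvd_card_of_dvd_card (Nat.minFac_dvd _)
      rw [hbot, Subgroup.card_bot] at this
      exact hpp.not_dvd_one this
  -- the Sylow subgroup has order `p ^ 2`
  obtain ⟨k, hk⟩ := P.2.exists_card_eq
  have hk3 : k < 3 := by
    by_contra hk3
    exact hp3 ((pow_dvd_pow p (not_lt.mp hk3)).trans (hk ▸ Subgroup.card_subgroup_dvd_card _))
  have hcyc : ¬ IsCyclic (P : Subgroup G) := fun hcyc => hno
    ⟨P, _, inferInstance, IsCyclic.isComplement' hp.symm hcyc⟩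
  have hk2 : k = 2 := by
    interval_cases k
    · have : Subsingleton (P : Subgroup G) := Finite.card_le_one_iff_subsingleton.mp (by rw [hk]; simp)
      exact absurd isCyclic_of_subsingleton hcyc
    · exact absurd (isCyclic_of_prime_card (p := p) (by rw [hk, pow_one])) hcyc
    · rfl
  subst hk2
  have hPc : IsMulCommutative (P : Subgroup G) := IsPGroup.isMulCommutative_of_card_eq_prime_sq hk
  refine hno (CfsgLib.hasNormalPComplement_of_normalizer_le_centralizer P
    (CfsgLib.TransferApps.normalizer_le_centralizer P hPc fun g hg hgp =>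
      CfsgLib.TransferApps.mem_centralizer_of_small hk hg ?_))
  intro q hq hqd j hj hd
  have hqG : q ∣ Nat.card G := hqd.trans (orderOf_dvd_natCard g)
  have hqp : q ≠ p := fun e => hpp.ne_one (Nat.eq_one_of_dvd_coprimes hgp (e ▸ hqd) dvd_rfl)
  have hge : p + 1 ≤ q := lt_of_le_of_ne (Nat.minFac_le_of_dvd hq.two_le hqG) (Ne.symm hqp)
  have hle : q ≤ p + 1 ∧ (q = p + 1 → True) := by
    refine ⟨?_, fun _ => trivial⟩
    have h2p := hpp.two_le
    interval_cases j
    · rw [pow_zero, show p ^ 2 - 1 = (p + 1) * (p - 1) from by rw [← Nat.sq_sub_sq, one_pow]] at hd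
      rcases hq.dvd_mul.mp hd with h | h
      · exact Nat.le_of_dvd (by omega) h
      · exact le_trans (Nat.le_of_dvd (by omega) h) (by omega)
    · rw [pow_one, show p ^ 2 - p = p * (p - 1) from by rw [Nat.mul_sub, mul_one, sq]] at hd
      rcases hq.dvd_mul.mp hd with h | h
      · exact absurd ((Nat.prime_dvd_prime_iff_eq hq hpp).mp h) hqp
      · exact le_trans (Nat.le_of_dvd (by omega) h) (by omega)
  have hqe : q = p + 1 := le_antisymm hle.1 hge
  -- so `p = 2` and `q = 3`
  have hp2 : p = 2 := by
    rcases hpp.eq_two_or_odd' with h | h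
    · exact h
    · exfalso
      have : Even q := hqe ▸ h.add_one
      have := (Nat.Prime.even_iff hq).mp this
      have := hpp.two_le
      omega
  apply h12
  have h4 : 4 ∣ Nat.card G := by
    have := Subgroup.card_subgroup_dvd_card (P : Subgroup G)
    rw [hk, hp2] at this
    exact this
  exact Nat.Coprime.mul_dvd_of_dvd_of_dvd (m := 4) (n := 3) (by norm_num) h4 (by rwa [hqe, hp2] at hqG)

end Cfsg.Agent.S0073
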