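import Cfsg.Statements.S0078
import Cfsg.Agent.Lib.TransferApps
-- import your own Cfsg.Agent.* helpers here

set_option autoImplicit false
open Cfsg

namespace Cfsg.Agent.S0078

open scoped commutatorElement in
theorem core {G : Type*} [Group G] [Finite G] {p : ℕ} [Fact p.Prime] (P : Sylow p G) (Z : Subgroup G)
    (hZ : Z ≤ Subgroup.centralizer ((P : Subgroup G) : Set G)) (hW : Cfsg.IsWeaklyClosed Z (P : Subgroup G))
    (V : Subgroup G) (hV : Subgroup.normalizer (Z : Set G) ≤ V) :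
    (P : Subgroup G) ⊓ Cfsg.pResidual p G = (P : Subgroup G) ⊓ (Cfsg.pResidual p V).map V.subtype := by
  refine le_antisymm ?_ (inf_le_inf_left _ (CfsgLib.Transfer.map_pResidual_le V.subtype))
  have hPV : (P : Subgroup G) ≤ V := by
    refine le_trans (le_trans ?_ (Subgroup.centralizer_le_normalizer _)) hV
    exact fun y hy => Subgroup.mem_centralizer_iff.mpr fun z hz => (Subgroup.mem_centralizer_iff.mp (hZ hz) y hy).symm
  set Q := (P : Subgroup G) ⊓ Cfsg.pResidual p G
  have hgen : Q ≤ ⁅Q, V⁆ := by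
    refine (CfsgLib.Transfer.inf_pResidual_le_closure P).trans ?_
    rw [Subgroup.closure_le]
    rintro _ ⟨x, u, hx, -, rfl, hg⟩
    obtain ⟨n, hn, hne⟩ := CfsgLib.TransferApps.exists_normalizer_conj P hW hZ (inv_mem hx.1)
      (CfsgLib.TransferApps.conj_inv_mem hx.1 hg.1)
    rw [CfsgLib.TransferApps.commutator_eq_of_conj hne]
    exact Subgroup.commutator_mem_commutator hx (hV hn)
  let P' : Sylow p V := P.subtype hPV
  set f := QuotientGroup.mk' (Cfsg.pResidual p V)
  set Qb := (Q.subgroupOf V).map f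
  have hQV : Q ≤ V := inf_le_left.trans hPV
  have : Group.IsNilpotent (⊤ : Subgroup (V ⧸ Cfsg.pResidual p V)) :=
    ((CfsgLib.Transfer.isPGroup_quotient_pResidual (p := p) (G := V)).to_subgroup ⊤).isNilpotent
  have hbot : Qb = ⊥ := by
    refine CfsgLib.Transfer.eq_bot_of_le_commutator (P := ⊤) le_top ?_
    have h1 : Q.subgroupOf V ≤ ⁅Q.subgroupOf V, (⊤ : Subgroup V)⁆ := by
      rw [← Subgroup.map_le_map_iff_of_injective V.subtype_injective, Subgroup.map_commutator,
        Subgroup.map_subgroupOf_eq_of_le hQV, ← MonoidHom.range_eq_map, Subgroup.range_subtype]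
      exact hgen
    refine (Subgroup.map_mono h1).trans ?_
    rw [Subgroup.map_commutator]
    exact Subgroup.commutator_mono le_rfl le_top
  rw [Subgroup.map_eq_bot_iff, QuotientGroup.ker_mk'] at hbot
  intro x hx
  exact ⟨hx.1, ⟨x, hQV hx⟩, hbot (show (⟨x, hQV hx⟩ : V) ∈ Q.subgroupOf V from hx), rfl⟩

/-- In a p-normal group, a Sylow p-subgroup P meets O^p(G) exactly where it meets O^p(V), for any subgroup V containing the normalizer of the centre of P. -/
theorem result {G : Type*} [Group G] [Finite G] {p : ℕ} [Fact p.Prime] (P : Sylow p G) (hn : ∀ Q : Sylow p G, (P : Subgroup G) ⊓ Subgroup.centralizer (P : Set G) ≤ (Q : Subgroup G) → (Q : Subgroup G) ⊓ Subgroup.centralizer (Q : Set G) = (P : Subgroup G) ⊓ Subgroup.centralizer (P : Set G)) (V : Subgroup G) (hV : Subgroup.normalizer (((P : Subgroup G) ⊓ Subgroup.centralizer (P : Set G) : Subgroup G) : Set G) ≤ V) : (P : Subgroup G) ⊓ Cfsg.pResidual p G = (P : Subgroup G) ⊓ (Cfsg.pResidual p V).map V.subtype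 := by
  set Z := (P : Subgroup G) ⊓ Subgroup.centralizer ((P : Subgroup G) : Set G) with hZ
  refine core P Z inf_le_right ⟨inf_le_left, fun g hg => ?_⟩ V hV
  have hsub : Z ≤ ((g⁻¹ • P : Sylow p G) : Subgroup G) := fun z hz => by
    rw [CfsgLib.TransferApps.mem_smul_iff, inv_inv]
    exact hg ⟨z, hz, rfl⟩
  have h1 := hn (g⁻¹ • P) hsub
  refine Subgroup.eq_of_le_of_card_ge ?_ (Subgroup.card_map_of_injective (f := (MulAut.conj g : G ≃* G).toMonoidHom) (MulEquiv.injective _)).ge
  rintro _ ⟨z, hz, rfl⟩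
  have hz' : z ∈ ((g⁻¹ • P : Sylow p G) : Subgroup G) ⊓ Subgroup.centralizer (((g⁻¹ • P : Sylow p G) : Subgroup G) : Set G) :=
    h1.ge hz
  obtain ⟨ha, hb⟩ := hz'
  replace ha : z ∈ ((g⁻¹ • P : Sylow p G) : Subgroup G) := ha
  rw [CfsgLib.TransferApps.mem_smul_iff, inv_inv] at ha
  refine ⟨ha, Subgroup.mem_centralizer_iff.mpr fun y hy => ?_⟩
  have h2 := Subgroup.mem_centralizer_iff.mp hb (g⁻¹ * y * g) (by
    rw [SetLike.mem_coe, CfsgLib.TransferApps.mem_smul_iff, inv_inv]
    rw [show g * (g⁻¹ * y * g) * g⁻¹ = y by group]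
    exact hy)
  show y * (g * z * g⁻¹) = g * z * g⁻¹ * y
  calc y * (g * z * g⁻¹) = g * (g⁻¹ * y * g * z) * g⁻¹ := by group
    _ = _ := by rw [h2]; group

end Cfsg.Agent.S0078
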