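import Cfsg.Statements.S0079
import Cfsg.Agent.Lib.Transfer
import Cfsg.Agent.Lib.NilpotentCommute

set_option autoImplicit false
set_option maxHeartbeats 1000000
open Cfsg

namespace Cfsg.Agent.S0079

/-- A nilpotent Hall subgroup has a normal complement exactly when elements of it that are conjugate in the whole group are already conjugate inside it. -/
theorem result {G : Type*} [Group G] [Finite G] (H : Subgroup G) (hH : Group.IsNilpotent H) (hHall : Nat.Coprime (Nat.card H) H.index) : (∃ N : Subgroup G, N.Normal ∧ N.IsComplement' H) ↔ ∀ x ∈ H, ∀ y ∈ H, (∃ g : G, g * x * g⁻¹ = y) → ∃ h ∈ H, h * x * h⁻¹ = y := by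
  classical
  haveI := hH
  constructor
  · rintro ⟨N, hNn, hc⟩ x hx y hy ⟨g, hg⟩
    obtain ⟨⟨n, h⟩, e⟩ := hc.2 g
    simp only at e
    refine ⟨h, h.2, ?_⟩
    subst g
    have hz : (h : G) * x * (h : G)⁻¹ ∈ H := H.mul_mem (H.mul_mem h.2 hx) (H.inv_mem h.2)
    set z := (h : G) * x * (h : G)⁻¹
    have h1 : y * z⁻¹ ∈ N := by
      have := N.mul_mem n.2 (hNn.conj_mem _ (N.inv_mem n.2) z)
      rw [← hg]
      simpa [z, mul_assoc] using this
    have h2 : y * z⁻¹ ∈ H := H.mul_mem hy (H.inv_mem hz)
    exact (mul_inv_eq_one.1 (Subgroup.disjoint_def.1 hc.disjoint h1 h2)).symm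
  · intro hctl
    have hcompl : ∀ p : ℕ, p.Prime → p ∣ Nat.card H → Cfsg.HasNormalPComplement p G := by
      intro p hp hpH
      haveI := Fact.mk hp
      obtain ⟨P0⟩ : Nonempty (Sylow p H) := inferInstance
      have hnd : ¬ p ∣ ((P0 : Subgroup H).map H.subtype).index := by
        rw [Subgroup.index_map, Subgroup.ker_subtype, sup_bot_eq, Subgroup.range_subtype]
        intro hd
        rcases hp.dvd_mul.1 hd with hd | hd
        · exact P0.not_dvd_index hd
        · exact hp.coprime_iff_not_dvd.1 (hHall.coprime_dvd_left hpH) hd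
      let P : Sylow p G := (P0.2.map H.subtype).toSylow hnd
      haveI : (P0 : Subgroup H).Normal :=
        P0.normal_of_normalizerCondition (normalizerCondition_of_isNilpotent)
      refine CfsgLib.Transfer.hasNormalPComplement_of_control P fun x hx g hg => ?_
      have hx' : x ∈ (P0 : Subgroup H).map H.subtype := hx
      have hg' : g * x * g⁻¹ ∈ (P0 : Subgroup H).map H.subtype := hg
      obtain ⟨h, hh, he⟩ := hctl x (Subgroup.map_subtype_le _ hx') _ (Subgroup.map_subtype_le _ hg') ⟨g, rfl⟩
      obtain ⟨⟨x', hx'H⟩, hxP, rfl⟩ := hx'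
      set h' : H := ⟨h, hh⟩
      obtain ⟨i, t, ht, hit⟩ := Nat.exists_eq_pow_mul_and_not_dvd (orderOf_pos h').ne' p hp.ne_one
      have hcop : Nat.Coprime (p ^ i) t := ((hp.coprime_iff_not_dvd.2 ht)).pow_left i
      obtain ⟨u, v, huv⟩ := Int.isCoprime_iff_gcd_eq_one.2 (show Int.gcd ((p ^ i : ℕ) : ℤ) (t : ℤ) = 1 by
        rw [Int.gcd_natCast_natCast]; exact hcop)
      set a := h' ^ (v * (t : ℤ))
      set r := h' ^ (u * ((p ^ i : ℕ) : ℤ))
      have har : a * r = h' := by
        rw [← zpow_add, add_comm, huv, zpow_one]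
      have hap : a ^ p ^ i = 1 := by
        rw [← zpow_natCast, ← zpow_mul]
        apply orderOf_dvd_iff_zpow_eq_one.1
        rw [hit]; push_cast; exact ⟨v, by ring⟩
      have hrt : r ^ t = 1 := by
        rw [← zpow_natCast, ← zpow_mul]
        apply orderOf_dvd_iff_zpow_eq_one.1
        rw [hit]; push_cast; exact ⟨u, by ring⟩
      have haP : a ∈ (P0 : Subgroup H) := by
        have hz : IsPGroup p (Subgroup.zpowers a) := by
          refine IsPGroup.of_card_dvd_pow (n := i) ?_
          rw [Nat.card_zpowers]; exact orderOf_dvd_of_pow_eq_one hap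
        obtain ⟨Q, hQ⟩ := hz.exists_le_sylow
        haveI := Sylow.unique_of_normal P0 inferInstance
        rw [Subsingleton.elim P0 Q]
        exact hQ (Subgroup.mem_zpowers a)
      have hrx : Commute r ⟨x', hx'H⟩ := by
        refine CfsgLib.commute_of_nilpotent r _ ?_
        obtain ⟨k, hk⟩ := P0.2 ⟨⟨x', hx'H⟩, hxP⟩
        exact (((hp.coprime_iff_not_dvd.2 ht).pow_left k).symm.coprime_dvd_left
          (orderOf_dvd_of_pow_eq_one hrt)).coprime_dvd_right
            (orderOf_dvd_of_pow_eq_one (congrArg Subtype.val hk))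
      refine ⟨(a : G), ⟨a, haP, rfl⟩, ?_⟩
      rw [← he]
      have hcv : (r : G) * x' = x' * r := congrArg Subtype.val hrx.eq
      have hh' : h = (a : G) * r := (congrArg Subtype.val har).symm
      rw [hh']
      calc (a : G) * x' * (a : G)⁻¹ = (a : G) * (x' * r) * (r : G)⁻¹ * (a : G)⁻¹ := by group
        _ = _ := by rw [← hcv, Subgroup.subtype_apply]; group
    let N : Subgroup G := ⨅ p : {p : ℕ // p.Prime ∧ p ∣ Nat.card H}, Cfsg.pPrimeCore p.1 G
    haveI hNn : N.Normal := Subgroup.normal_iInf_normal fun p => inferInstance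
    have h1 : (Nat.card N).Coprime (Nat.card H) := by
      refine Nat.coprime_of_dvd fun p hp hpN hpH => ?_
      have hle : N ≤ Cfsg.pPrimeCore p G := iInf_le _ (⟨p, hp, hpH⟩ : {p : ℕ // p.Prime ∧ p ∣ Nat.card H})
      exact hp.coprime_iff_not_dvd.1 (CfsgLib.card_pPrimeCore_coprime p).symm
        (hpN.trans (Subgroup.card_dvd_of_le hle))
    have h2 : N.index.Coprime H.index := by
      refine Nat.coprime_of_dvd fun r hr hrN hrH => ?_
      haveI := Fact.mk hr
      obtain ⟨R⟩ : Nonempty (Sylow r G) := inferInstance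
      have hle : (R : Subgroup G) ≤ N := le_iInf fun ⟨p, hp, hpH⟩ g hg => by
        haveI := Fact.mk hp
        refine CfsgLib.mem_pPrimeCore_of_hasNormalPComplement (hcompl p hp hpH) ?_
        obtain ⟨k, hk⟩ := R.2 ⟨g, hg⟩
        refine Nat.Coprime.coprime_dvd_left (orderOf_dvd_of_pow_eq_one (congrArg Subtype.val hk))
          (((Nat.coprime_primes hr hp).2 fun e => ?_).pow_left k)
        subst e
        exact hr.coprime_iff_not_dvd.1 (hHall.coprime_dvd_left hpH) hrH
      exact R.not_dvd_index (hrN.trans (Subgroup.index_dvd_of_le hle))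
    have h3 : N.index ∣ Nat.card H := h2.dvd_of_dvd_mul_right (by
      rw [Subgroup.card_mul_index]; exact Subgroup.index_dvd_card N)
    have h4 : Nat.card H ∣ N.index := h1.symm.dvd_of_dvd_mul_left (by
      rw [Subgroup.card_mul_index]; exact Subgroup.card_subgroup_dvd_card H)
    refine ⟨N, hNn, Subgroup.isComplement'_of_coprime ?_ h1⟩
    rw [Nat.dvd_antisymm h4 h3, Subgroup.card_mul_index]

end Cfsg.Agent.S0079
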