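import Cfsg.Statements.S0082
import Cfsg.Agent.Lib.TransferApps
import Cfsg.Agent.Lib.PComplement
-- import your own Cfsg.Agent.* helpers here

set_option autoImplicit false
open Cfsg

namespace Cfsg.Agent.S0082

/-- With a cyclic Sylow p-subgroup, either there is a normal p-complement or the elements of order prime to p generate the whole group. -/
theorem result {G : Type*} [Group G] [Finite G] {p : ℕ} [Fact p.Prime] (P : Sylow p G) (hP : IsCyclic P) : Cfsg.HasNormalPComplement p G ∨ Cfsg.pResidual p G = ⊤ := by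
  classical
  have hPc : IsMulCommutative (P : Subgroup G) := by
    obtain ⟨t, ht⟩ := hP.exists_generator
    refine ⟨⟨fun a b => ?_⟩⟩
    obtain ⟨m, rfl⟩ := ht a
    obtain ⟨n, rfl⟩ := ht b
    exact zpow_mul_comm t m n
  by_cases hall : ∀ g ∈ Subgroup.normalizer ((P : Subgroup G) : Set G), (orderOf g).Coprime p →
      g ∈ Subgroup.centralizer ((P : Subgroup G) : Set G)
  · exact Or.inl (CfsgLib.hasNormalPComplement_of_normalizer_le_centralizer P
      (CfsgLib.TransferApps.normalizer_le_centralizer P hPc hall))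
  right
  push_neg at hall
  obtain ⟨n, hnN, hnp, hnC⟩ := hall
  set A := Subgroup.zpowers n
  have hAV : A ≤ Subgroup.normalizer ((P : Subgroup G) : Set G) := Subgroup.zpowers_le.mpr hnN
  have hcop : (Nat.card A).Coprime (Nat.card (P : Subgroup G)) := by
    obtain ⟨k, hk⟩ := P.2.exists_card_eq
    rw [Nat.card_zpowers, hk]
    exact hnp.pow_right k
  have hdis := CfsgLib.coprime_abelian_disjoint A (P : Subgroup G) hAV hcop
  have hsup := CfsgLib.coprime_abelian_sup A (P : Subgroup G) hAV hcop
  set V := (P : Subgroup G) ⊓ Subgroup.centralizer (A : Set G)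
  set W := ⁅(P : Subgroup G), A⁆
  -- in a cyclic `p`-group two trivially meeting subgroups: one is trivial
  have hmeet : V = ⊥ ∨ W = ⊥ := by
    by_contra hne
    push_neg at hne
    have hWP : W ≤ (P : Subgroup G) := hsup ▸ le_sup_right
    have key : ∀ X : Subgroup G, X ≤ (P : Subgroup G) → X ≠ ⊥ → ∃ x ∈ X, orderOf x = p := by
      intro X hX hXne
      have : Nontrivial X := (Subgroup.nontrivial_iff_ne_bot X).mpr hXne
      obtain ⟨k, hk, hc⟩ := (P.2.to_le hX).nontrivial_iff_card.mp this
      obtain ⟨x, hx⟩ := exists_prime_orderOf_dvd_card' (G := X) p (hc ▸ dvd_pow_self p (by omega))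
      exact ⟨x, x.2, by rwa [Subgroup.orderOf_coe]⟩
    obtain ⟨x, hx, hxo⟩ := key V inf_le_left hne.1
    obtain ⟨y, hy, hyo⟩ := key W hWP hne.2
    have hsame : Subgroup.zpowers (⟨x, hx.1⟩ : (P : Subgroup G)) = Subgroup.zpowers ⟨y, hWP hy⟩ := by
      refine Subgroup.eq_of_le_of_card_ge ?_ ?_
      · rw [Subgroup.zpowers_le]
        exact by
          obtain ⟨t, ht⟩ := hP.exists_generator
          obtain ⟨a, ha⟩ := ht ⟨x, hx.1⟩
          obtain ⟨b, hb⟩ := ht ⟨y, hWP hy⟩
          have hx' : (⟨x, hx.1⟩ : (P : Subgroup G)) ^ p = 1 := Subtype.ext (by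
            show x ^ p = 1
            rw [← hxo, pow_orderOf_eq_one])
          have hy' : orderOf (⟨y, hWP hy⟩ : (P : Subgroup G)) = p := by rw [Subgroup.orderOf_mk, hyo]
          have hcard : Nat.card {z : (P : Subgroup G) // z ^ p = 1} ≤ p := by
            have := Fintype.ofFinite (P : Subgroup G)
            rw [Nat.card_eq_fintype_card, Fintype.card_subtype]
            exact IsCyclic.card_pow_eq_one_le (Fact.out : p.Prime).pos
          let i : Subgroup.zpowers (⟨y, hWP hy⟩ : (P : Subgroup G)) → {z : (P : Subgroup G) // z ^ p = 1} :=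
            fun z => ⟨z, orderOf_dvd_iff_pow_eq_one.mp ((orderOf_dvd_of_mem_zpowers z.2).trans hy'.dvd)⟩
          have hbij : Function.Bijective i := by
            refine (Nat.bijective_iff_injective_and_card i).mpr ⟨fun a b e => Subtype.ext (congrArg (fun t => t.1) e), ?_⟩
            refine le_antisymm (Nat.card_le_card_of_injective i fun a b e => Subtype.ext (congrArg (fun t => t.1) e)) ?_
            rw [Nat.card_zpowers, hy']
            exact hcard
          obtain ⟨z, hz⟩ := hbij.2 ⟨_, hx'⟩
          have hz' : (z : (P : Subgroup G)) = ⟨x, hx.1⟩ := congrArg Subtype.val hz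
          exact hz' ▸ z.2
      · rw [Nat.card_zpowers, Nat.card_zpowers, Subgroup.orderOf_mk, Subgroup.orderOf_mk, hxo, hyo]
    have hxW : x ∈ W := by
      have hm : (⟨x, hx.1⟩ : (P : Subgroup G)) ∈ Subgroup.zpowers (⟨y, hWP hy⟩ : (P : Subgroup G)) := hsame ▸ Subgroup.mem_zpowers _
      obtain ⟨k, hk⟩ := hm
      have hk' : y ^ k = x := congrArg Subtype.val hk
      exact hk' ▸ zpow_mem hy k
    have : x ∈ (⊥ : Subgroup G) := hdis.le ⟨hx, hxW⟩
    rw [Subgroup.mem_bot.mp this, orderOf_one] at hxo
    exact (Fact.out : p.Prime).ne_one hxo.symm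
  rcases hmeet with hV | hW
  swap
  · exfalso
    apply hnC
    refine Subgroup.mem_centralizer_iff.mpr fun y hy => ?_
    have hy' : y ∈ V ⊔ W := hsup.ge hy
    rw [hW, sup_bot_eq] at hy'
    exact ((Subgroup.mem_centralizer_iff.mp hy'.2) n (Subgroup.mem_zpowers n)).symm
  have hPle : (P : Subgroup G) ≤ Cfsg.pResidual p G := by
    rw [← hsup, hV, bot_sup_eq, Subgroup.commutator_le]
    intro a _ b hb
    have hb' : b ∈ Cfsg.pResidual p G :=
      (Subgroup.zpowers_le.mpr (CfsgLib.Transfer.mem_pResidual_of_coprime hnp)) hb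
    rw [commutatorElement_def]
    exact mul_mem ((inferInstance : (Cfsg.pResidual p G).Normal).conj_mem b hb' a) (inv_mem hb')
  rw [← CfsgLib.Transfer.sylow_sup_pResidual P]
  exact (sup_eq_right.mpr hPle).symm

end Cfsg.Agent.S0082
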