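import Cfsg.Statements.S0083
import Cfsg.Agent.Lib.TransferApps
import Cfsg.Agent.Lib.PComplement
-- import your own Cfsg.Agent.* helpers here

set_option autoImplicit false
open Cfsg

namespace Cfsg.Agent.S0083

/-- For an abelian Sylow p-subgroup P, a normal p-complement exists exactly when the normalizer of P is an internal direct product of P with some subgroup. -/
theorem result {G : Type*} [Group G] [Finite G] {p : ℕ} [Fact p.Prime] (P : Sylow p G) (hP : IsMulCommutative P) : Cfsg.HasNormalPComplement p G ↔ ∃ Q : Subgroup G, Q ≤ Subgroup.centralizer (P : Set G) ∧ Q ⊓ (P : Subgroup G) = ⊥ ∧ Q ⊔ (P : Subgroup G) = Subgroup.normalizer (P : Set G) := by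
  open scoped commutatorElement in
  constructor
  · intro h
    have hb := (CfsgLib.Transfer.hasNormalPComplement_iff_inf_pResidual P).mp h
    refine ⟨Subgroup.normalizer ((P : Subgroup G) : Set G) ⊓ Cfsg.pResidual p G, ?_, ?_, ?_⟩
    · refine fun q hq => Subgroup.mem_centralizer_iff.mpr fun y hy => ?_
      have h1 : ⁅q, y⁆ ∈ (P : Subgroup G) ⊓ Cfsg.pResidual p G := by
        refine ⟨?_, ?_⟩
        · rw [commutatorElement_def]
          exact (P : Subgroup G).mul_mem ((Subgroup.mem_normalizer_iff.mp hq.1 y).mp hy) ((P : Subgroup G).inv_mem hy)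
        · have h2 := (inferInstance : (Cfsg.pResidual p G).Normal).conj_mem q⁻¹ (inv_mem hq.2) y
          rw [commutatorElement_def]
          show _ ∈ Cfsg.pResidual p G
          have := mul_mem hq.2 h2
          simpa [mul_assoc] using this
      rw [hb, Subgroup.mem_bot, commutatorElement_eq_one_iff_mul_comm] at h1
      exact h1.symm
    · rw [eq_bot_iff, ← hb]
      exact fun x hx => ⟨hx.2, hx.1.2⟩
    · refine le_antisymm (sup_le inf_le_left Subgroup.le_normalizer) fun g hg => ?_
      have h1 : g ∈ ((P : Subgroup G) ⊔ Cfsg.pResidual p G : Subgroup G) := by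
        rw [CfsgLib.Transfer.sylow_sup_pResidual P]; trivial
      rw [← SetLike.mem_coe, Subgroup.mul_normal] at h1
      obtain ⟨a, ha, k, hk, rfl⟩ := h1
      refine mul_mem (Subgroup.mem_sup_right ha) (Subgroup.mem_sup_left ⟨?_, hk⟩)
      have h3 : a⁻¹ * (a * k) ∈ Subgroup.normalizer ((P : Subgroup G) : Set G) :=
        Subgroup.mul_mem _ (Subgroup.inv_mem _ (Subgroup.le_normalizer ha)) hg
      rwa [inv_mul_cancel_left] at h3
  · rintro ⟨Q, hQC, -, hQP⟩
    refine CfsgLib.hasNormalPComplement_of_normalizer_le_centralizer P (hQP ▸ sup_le hQC ?_)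
    exact fun y hy => Subgroup.mem_centralizer_iff.mpr fun z hz => congrArg Subtype.val (hP.1.comm ⟨z, hz⟩ ⟨y, hy⟩)

end Cfsg.Agent.S0083
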