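import Cfsg.Statements.S0084
import Cfsg.Agent.Lib.TransferApps
import Cfsg.Agent.Lib.PComplement
-- import your own Cfsg.Agent.* helpers here

set_option autoImplicit false
open Cfsg

namespace Cfsg.Agent.S0084

/-- A group whose Sylow 2-subgroups are Klein four-groups and whose order is prime to 3 has a normal 2-complement. -/
theorem result {G : Type*} [Group G] [Finite G] (T : Sylow 2 G) (hT : IsKleinFour T) (h3 : ¬ 3 ∣ Nat.card G) : Cfsg.HasNormalPComplement 2 G := by
  have := Fact.mk Nat.prime_two
  have hc : IsMulCommutative (T : Subgroup G) := by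
    have := hT.exponent_two
    refine ⟨⟨fun a b => mul_comm_of_exponent_two this a b⟩⟩
  refine CfsgLib.hasNormalPComplement_of_normalizer_le_centralizer T
    (CfsgLib.TransferApps.normalizer_le_centralizer T hc fun g hg hgp =>
      CfsgLib.TransferApps.mem_centralizer_of_small (p := 2) (k := 2) (by rw [hT.card_four]; rfl) hg ?_)
  intro q hq hqd j hj hd
  have hq2 : q ≠ 2 := fun e => absurd (Nat.eq_one_of_dvd_coprimes hgp (e ▸ hqd) dvd_rfl) (by decide)
  have hq3 : q ≠ 3 := fun e => h3 (e ▸ hqd.trans (orderOf_dvd_natCard g))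
  interval_cases j <;> norm_num at hd
  · exact hq3 ((Nat.prime_dvd_prime_iff_eq hq Nat.prime_three).mp hd)
  · exact hq2 ((Nat.prime_dvd_prime_iff_eq hq Nat.prime_two).mp hd)

end Cfsg.Agent.S0084
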