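import Cfsg.Statements.S0085
import Cfsg.Agent.Lib.TransferApps
import Cfsg.Agent.Lib.PComplement
-- import your own Cfsg.Agent.* helpers here

set_option autoImplicit false
open Cfsg

namespace Cfsg.Agent.S0085

/-- A group whose Sylow 2-subgroups are elementary abelian of order 8 and whose order is prime to 3 and to 7 has a normal 2-complement. -/
theorem result {G : Type*} [Group G] [Finite G] (T : Sylow 2 G) (h8 : Nat.card T = 8) (he : ∀ x : T, x * x = 1) (h3 : ¬ 3 ∣ Nat.card G) (h7 : ¬ 7 ∣ Nat.card G) : Cfsg.HasNormalPComplement 2 G := by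
  have := Fact.mk Nat.prime_two
  have hc : IsMulCommutative (T : Subgroup G) := by
    refine ⟨⟨fun a b => ?_⟩⟩
    have h1 := inv_eq_of_mul_eq_one_right (he (a * b))
    rw [mul_inv_rev, inv_eq_of_mul_eq_one_right (he a), inv_eq_of_mul_eq_one_right (he b)] at h1
    exact h1.symm
  refine CfsgLib.hasNormalPComplement_of_normalizer_le_centralizer T
    (CfsgLib.TransferApps.normalizer_le_centralizer T hc fun g hg hgp =>
      CfsgLib.TransferApps.mem_centralizer_of_small (p := 2) (k := 3) (by rw [show (2 : ℕ) ^ 3 = 8 by rfl, ← h8]) hg ?_)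
  intro q hq hqd j hj hd
  have hq2 : q ≠ 2 := fun e => absurd (Nat.eq_one_of_dvd_coprimes hgp (e ▸ hqd) dvd_rfl) (by decide)
  have hq3 : q ≠ 3 := fun e => h3 (e ▸ hqd.trans (orderOf_dvd_natCard g))
  have hq7 : q ≠ 7 := fun e => h7 (e ▸ hqd.trans (orderOf_dvd_natCard g))
  interval_cases j <;> norm_num at hd
  · exact hq7 ((Nat.prime_dvd_prime_iff_eq hq (by norm_num)).mp hd)
  · rcases (hq.dvd_mul).mp (show q ∣ 2 * 3 from hd) with h | h
    · exact hq2 ((Nat.prime_dvd_prime_iff_eq hq Nat.prime_two).mp h)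
    · exact hq3 ((Nat.prime_dvd_prime_iff_eq hq Nat.prime_three).mp h)
  · exact hq2 ((Nat.prime_dvd_prime_iff_eq hq Nat.prime_two).mp ((hq.dvd_of_dvd_pow (n := 2)) hd))

end Cfsg.Agent.S0085
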