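import Cfsg.Statements.S0087
import Cfsg.Agent.Lib.TransferApps
-- import your own Cfsg.Agent.* helpers here

set_option autoImplicit false
open Cfsg

namespace Cfsg.Agent.S0087

/-- A Hall subgroup that is central in its normalizer has a normal complement. -/
theorem result {G : Type*} [Group G] [Finite G] (H : Subgroup G) (hHall : Nat.Coprime (Nat.card H) H.index) (h : Subgroup.normalizer (H : Set G) ≤ Subgroup.centralizer (H : Set G)) : ∃ N : Subgroup G, N.Normal ∧ N.IsComplement' H := by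
  have hc : IsMulCommutative H := ⟨⟨fun a b => Subtype.ext
    (Subgroup.mem_centralizer_iff.mp (h (Subgroup.le_normalizer b.2)) a a.2)⟩⟩
  have hcontrol : ∀ x ∈ H, ∀ g : G, g * x * g⁻¹ ∈ H → g * x * g⁻¹ = x := by
    intro x hx g hgx
    set C := Subgroup.centralizer ({x} : Set G)
    have hHC : H ≤ C := fun a ha => Subgroup.mem_centralizer_singleton_iff.mpr
      (congrArg Subtype.val (hc.1.comm ⟨a, ha⟩ ⟨x, hx⟩))
    set H' := H.map (MulAut.conj g⁻¹).toMonoidHom
    have hH'C : H' ≤ C := by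
      rintro _ ⟨a, ha, rfl⟩
      refine Subgroup.mem_centralizer_singleton_iff.mpr ?_
      have h1 : a * (g * x * g⁻¹) = g * x * g⁻¹ * a := congrArg Subtype.val (hc.1.comm ⟨a, ha⟩ ⟨_, hgx⟩)
      show g⁻¹ * a * g⁻¹⁻¹ * x = x * (g⁻¹ * a * g⁻¹⁻¹)
      calc g⁻¹ * a * g⁻¹⁻¹ * x = g⁻¹ * (a * (g * x * g⁻¹)) * g := by group
        _ = _ := by rw [h1]; group
    have hab : IsMulCommutative H' := ⟨⟨fun a b => by
      obtain ⟨a, a', ha', rfl⟩ := a
      obtain ⟨b, b', hb', rfl⟩ := b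
      apply Subtype.ext
      show (MulAut.conj g⁻¹).toMonoidHom a' * (MulAut.conj g⁻¹).toMonoidHom b' = (MulAut.conj g⁻¹).toMonoidHom b' * (MulAut.conj g⁻¹).toMonoidHom a'
      rw [← map_mul, ← map_mul]
      exact congrArg _ (congrArg Subtype.val (hc.1.comm ⟨a', ha'⟩ ⟨b', hb'⟩))⟩⟩
    have hsub : ∀ K : Subgroup G, IsMulCommutative K → IsMulCommutative (K.subgroupOf C) := fun K hK =>
      ⟨⟨fun a b => Subtype.ext (Subtype.ext (congrArg Subtype.val (hK.1.comm ⟨_, a.2⟩ ⟨_, b.2⟩) : ((a : C) : G) * (b : C) = (b : C) * (a : C)))⟩⟩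
    obtain ⟨c, hcc⟩ := CfsgLib.TransferApps.abelian_hall_conj _ (H.subgroupOf C) (H'.subgroupOf C) rfl (hsub H hc) (hsub H' hab)
      (by rw [Nat.card_congr (Subgroup.subgroupOfEquivOfLe hH'C).toEquiv, Nat.card_congr (Subgroup.subgroupOfEquivOfLe hHC).toEquiv]
          exact Subgroup.card_map_of_injective (f := (MulAut.conj g⁻¹ : G ≃* G).toMonoidHom) (MulEquiv.injective _))
      (by rw [Nat.card_congr (Subgroup.subgroupOfEquivOfLe hHC).toEquiv]
          exact hHall.coprime_dvd_right (Subgroup.relIndex_dvd_index_of_le hHC))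
    have hmap : H.map (MulAut.conj ((c : G) * g⁻¹)).toMonoidHom = H := by
      refine Subgroup.eq_of_le_of_card_ge ?_ (Subgroup.card_map_of_injective (f := (MulAut.conj ((c : G) * g⁻¹) : G ≃* G).toMonoidHom) (MulEquiv.injective _)).ge
      rintro _ ⟨a, ha, rfl⟩
      have := hcc ⟨g⁻¹ * a * g⁻¹⁻¹, hH'C ⟨a, ha, rfl⟩⟩ ⟨a, ha, rfl⟩
      show (c : G) * g⁻¹ * a * ((c : G) * g⁻¹)⁻¹ ∈ H
      simpa [Subgroup.mem_subgroupOf, mul_assoc] using this
    have hn : (c : G) * g⁻¹ ∈ Subgroup.normalizer (H : Set G) := by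
      refine Subgroup.mem_normalizer_iff.mpr fun z => ⟨fun hz => hmap.le ⟨z, hz, rfl⟩, fun hz => ?_⟩
      obtain ⟨w, hw, hwe⟩ := hmap.ge hz
      exact (mul_left_cancel (mul_right_cancel hwe) : w = z) ▸ hw
    have h2 := Subgroup.mem_centralizer_iff.mp (h hn) _ hgx
    have hcx := Subgroup.mem_centralizer_singleton_iff.mp c.2
    calc g * x * g⁻¹ = (c : G) * g⁻¹ * (g * x * g⁻¹) * ((c : G) * g⁻¹)⁻¹ := by rw [← h2]; group
      _ = (c : G) * x * (c : G)⁻¹ := by group
      _ = x := by rw [hcx]; group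
  have hfoc : H.focalSubgroup = ⊥ := by
    rw [eq_bot_iff]
    refine CfsgLib.TransferApps.focalSubgroup_le_of_control H ⊥ ⊥
      (fun x hx g hg => ⟨1, one_mem _, by rw [hcontrol x hx g hg]; group⟩) ?_
    intro x _ n hn _
    rw [Subgroup.mem_bot] at hn ⊢
    rw [hn, commutatorElement_one_right]
  obtain ⟨-, N, hN, h2, h3⟩ := CfsgLib.Transfer.exists_normal_inf_eq_focal H (hHall.symm.coprime_dvd_right (by
    rw [← Subgroup.index_eq_card]
    exact Subgroup.index_dvd_card _))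
  refine ⟨N, hN, Subgroup.isComplement'_of_disjoint_and_mul_eq_univ (disjoint_iff.mpr (h2.trans hfoc)) ?_⟩
  rw [← Subgroup.normal_mul N H, h3, Subgroup.coe_top]

end Cfsg.Agent.S0087
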