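import Cfsg.Statements.S0088
import Mathlib.GroupTheory.Transfer
-- import your own Cfsg.Agent.* helpers here

set_option autoImplicit false
open Cfsg

namespace Cfsg.Agent.S0088

/-- An abelian Hall subgroup meets G' ∩ Z(G) trivially. -/
theorem result {G : Type*} [Group G] [Finite G] (H : Subgroup G) (hc : IsMulCommutative H) (hHall : Nat.Coprime (Nat.card H) H.index) : H ⊓ commutator G ⊓ Subgroup.center G = ⊥ := by
  rw [eq_bot_iff]
  rintro z ⟨⟨hzH, hzG⟩, hzZ⟩
  let V : G →* H :=
    letI : CommGroup H := { mul_comm := fun a b => hc.1.comm a b }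
    MonoidHom.transfer (MonoidHom.id H)
  have hV : (V z : G) = z ^ H.index := by
    letI : CommGroup H := { mul_comm := fun a b => hc.1.comm a b }
    show ((MonoidHom.transfer (MonoidHom.id H) z : H) : G) = _
    rw [MonoidHom.transfer_eq_pow (MonoidHom.id H) z (fun k g₀ hk => by
      rw [mul_assoc, ← Subgroup.mem_center_iff.mp (pow_mem hzZ k) g₀, ← mul_assoc, inv_mul_cancel, one_mul])]
    rfl
  have hker : V z = 1 := by
    letI : CommGroup H := { mul_comm := fun a b => hc.1.comm a b }
    exact Abelianization.commutator_subset_ker V hzG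
  rw [hker, Subgroup.coe_one] at hV
  rw [Subgroup.mem_bot, ← orderOf_eq_one_iff]
  refine Nat.eq_one_of_dvd_coprimes hHall ?_ (orderOf_dvd_of_pow_eq_one hV.symm)
  have := orderOf_dvd_natCard (⟨z, hzH⟩ : H)
  rwa [Subgroup.orderOf_mk] at this

end Cfsg.Agent.S0088
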