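import Cfsg.Statements.S0089
import Cfsg.Agent.S0088
import Cfsg.Agent.Lib.SylowExtra
-- import your own Cfsg.Agent.* helpers here

set_option autoImplicit false
open Cfsg

namespace Cfsg.Agent.S0089

/-- When all Sylow subgroups are abelian, the derived subgroup meets the centre trivially. -/
theorem result {G : Type*} [Group G] [Finite G] (h : ∀ p : ℕ, p.Prime → ∀ P : Sylow p G, IsMulCommutative P) : commutator G ⊓ Subgroup.center G = ⊥ := by
  rw [eq_bot_iff]
  rintro z ⟨hzG, hzZ⟩
  rw [Subgroup.mem_bot]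
  by_contra hne
  obtain ⟨p, hp, hpd⟩ := Nat.exists_prime_and_dvd (n := orderOf z) (fun e => hne (orderOf_eq_one_iff.mp e))
  have := Fact.mk hp
  obtain ⟨P⟩ : Nonempty (Sylow p G) := inferInstance
  have hy : orderOf (z ^ (orderOf z / p)) = p := orderOf_pow_orderOf_div (orderOf_pos z).ne' hpd
  have hyP : z ^ (orderOf z / p) ∈ (P : Subgroup G) :=
    CfsgLib.mem_sylow_of_mem_centralizer P ⟨1, by
      rw [pow_one]
      conv_lhs => arg 2; rw [← hy]
      exact pow_orderOf_eq_one _⟩
      (fun y _ => (Subgroup.mem_center_iff.mp (pow_mem hzZ _) y).symm)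
  have hcop : Nat.Coprime (Nat.card (P : Subgroup G)) (P : Subgroup G).index := by
    obtain ⟨k, hk⟩ := P.2.exists_card_eq
    rw [hk]
    exact Nat.Coprime.pow_left k ((hp.coprime_iff_not_dvd).mpr P.not_dvd_index)
  have h1 : z ^ (orderOf z / p) ∈ (⊥ : Subgroup G) :=
    (Cfsg.Agent.S0088.result (P : Subgroup G) (h p hp P) hcop).le ⟨⟨hyP, pow_mem hzG _⟩, pow_mem hzZ _⟩
  rw [Subgroup.mem_bot.mp h1, orderOf_one] at hy
  exact hp.ne_one hy.symm

end Cfsg.Agent.S0089
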