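import Cfsg.Statements.S0090
import Cfsg.Agent.S0088
import Cfsg.Agent.Lib.Transfer
import Cfsg.Agent.Lib.CoprimeAbelian
import Mathlib.GroupTheory.SchurZassenhaus
-- import your own Cfsg.Agent.* helpers here

set_option autoImplicit false
open Cfsg

namespace Cfsg.Agent.S0090

/-- An abelian normal Hall subgroup A splits as the internal direct product of G' ∩ A and Z(G) ∩ A, and [A, G] = G' ∩ A. -/
theorem result {G : Type*} [Group G] [Finite G] (A : Subgroup G) [A.Normal] (hc : IsMulCommutative A) (hHall : Nat.Coprime (Nat.card A) A.index) : ⁅A, (⊤ : Subgroup G)⁆ = commutator G ⊓ A ∧ (commutator G ⊓ A) ⊓ (Subgroup.center G ⊓ A) = ⊥ ∧ (commutator G ⊓ A) ⊔ (Subgroup.center G ⊓ A) = A := by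
  have hcop' : (A.index).Coprime (Nat.card (A ⧸ A.focalSubgroupOf)) := hHall.symm.coprime_dvd_right (by
    rw [← Subgroup.index_eq_card]
    exact Subgroup.index_dvd_card _)
  have hfoc := (CfsgLib.Transfer.exists_normal_inf_eq_focal A hcop').1
  have hAG : ⁅A, (⊤ : Subgroup G)⁆ = commutator G ⊓ A := by
    refine le_antisymm (le_inf (Subgroup.commutator_mono le_top le_rfl) (Subgroup.commutator_le_left A ⊤)) ?_
    rw [← hfoc, Subgroup.focalSubgroup_def, Subgroup.closure_le]
    rintro _ ⟨-, x, hx, u, rfl⟩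
    exact Subgroup.commutator_mem_commutator hx trivial
  refine ⟨hAG, ?_, le_antisymm (sup_le inf_le_right inf_le_right) ?_⟩
  · rw [eq_bot_iff, ← Cfsg.Agent.S0088.result A hc hHall]
    exact fun x hx => ⟨⟨hx.1.2, hx.1.1⟩, hx.2.1⟩
  obtain ⟨K, hK⟩ := Subgroup.exists_right_complement'_of_coprime hHall
  have hcard : Nat.card K = A.index := hK.symm.index_eq_card.symm
  have hsup := CfsgLib.coprime_abelian_sup K A (by rw [Subgroup.normalizer_eq_top]; exact le_top) (by rw [hcard]; exact hHall.symm)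
  refine hsup.symm.le.trans (sup_le ?_ ?_)
  · refine le_trans ?_ le_sup_right
    refine fun z hz => ⟨Subgroup.mem_center_iff.mpr fun g => ?_, hz.1⟩
    obtain ⟨⟨a, k⟩, rfl⟩ := (Subgroup.isComplement_iff_existsUnique.mp hK g).exists
    show (a : G) * k * z = z * (a * k)
    rw [mul_assoc, Subgroup.mem_centralizer_iff.mp hz.2 k k.2, ← mul_assoc,
      show (a : G) * z = z * a from congrArg Subtype.val (hc.1.comm a ⟨z, hz.1⟩), mul_assoc]
  · exact le_trans ((Subgroup.commutator_mono le_rfl le_top).trans hAG.le) le_sup_left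

end Cfsg.Agent.S0090
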