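import Cfsg.Statements.S0091
import Cfsg.Agent.Lib.PComplement

set_option autoImplicit false
open Cfsg

namespace Cfsg.Agent.S0091

/-- If a nontrivial Sylow p-subgroup controls its own fusion then it is not contained in the derived subgroup. -/
theorem result {G : Type*} [Group G] [Finite G] {p : ℕ} [Fact p.Prime] (P : Sylow p G) (hp : p ∣ Nat.card G) (h : ∀ x ∈ P, ∀ y ∈ P, (∃ g : G, g * x * g⁻¹ = y) → ∃ z ∈ P, z * x * z⁻¹ = y) : ¬ (P : Subgroup G) ≤ commutator G := by
  intro hle
  have h2 := CfsgLib.commutator_inf_sylow_of_fusion P fun x g hx hgx => h x hx _ hgx ⟨g, rfl⟩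
  rw [inf_eq_right.mpr hle] at h2
  have hne : (P : Subgroup G) ≠ ⊥ := fun e => P.not_dvd_index (by rw [e, Subgroup.index_bot]; exact hp)
  haveI : Nontrivial (P : Subgroup G) := (Subgroup.nontrivial_iff_ne_bot _).mpr hne
  haveI : Group.IsNilpotent (P : Subgroup G) := P.2.isNilpotent
  refine (Group.IsSolvable.commutator_lt_top_of_nontrivial (P : Subgroup G)).ne ?_
  refine Subgroup.map_injective (P : Subgroup G).subtype_injective ?_
  rw [Subgroup.map_subtype_commutator, ← h2, ← MonoidHom.range_eq_map, Subgroup.range_subtype]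

end Cfsg.Agent.S0091
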