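import Cfsg.Statements.S0092
import Cfsg.Agent.Lib.Coprime
import Cfsg.Agent.Lib.CoprimeAbelian
import Cfsg.Agent.Lib.Transfer
import Cfsg.Agent.Lib.PResidual

set_option autoImplicit false
open Cfsg
open scoped commutatorElement Pointwise

namespace Cfsg.Agent.S0092

/-- If the Sylow p-subgroups of O^p(G) are abelian then G splits over O^p(G). -/
theorem result {G : Type*} [Group G] [Finite G] {p : ℕ} [Fact p.Prime] (h : ∀ Q : Sylow p (Cfsg.pResidual p G), IsMulCommutative Q) : ∃ K : Subgroup G, K.IsComplement' (Cfsg.pResidual p G) := by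
  classical
  set R := Cfsg.pResidual p G with hR
  haveI hRn : R.Normal := CfsgLib.PResidual.pResidual_normal
  obtain ⟨Q₀⟩ : Nonempty (Sylow p R) := inferInstance
  haveI hQ₀ := h Q₀
  -- `Q₀ = [Q₀, N(Q₀)]` inside `R`
  have hfoc : (Q₀ : Subgroup R) ≤ ⁅(Q₀ : Subgroup R), Subgroup.normalizer ((Q₀ : Subgroup R) : Set R)⁆ := by
    have h1 := CfsgLib.Transfer.focalSubgroup_eq_of_pResidual_eq_top Q₀ CfsgLib.Transfer.pResidual_pResidual
    nth_rw 1 [← h1]
    rw [Subgroup.focalSubgroup_def, Subgroup.closure_le]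
    rintro g ⟨hg, x, hx, u, rfl⟩
    have hy : u * x⁻¹ * u⁻¹ ∈ (Q₀ : Subgroup R) := by
      have := (Q₀ : Subgroup R).mul_mem ((Q₀ : Subgroup R).inv_mem hx) hg
      simpa [commutatorElement_def, mul_assoc] using this
    obtain ⟨n, hn, e⟩ := Q₀.conj_eq_normalizer_conj_of_mem x⁻¹ u⁻¹ ((Q₀ : Subgroup R).inv_mem hx)
      (by rw [inv_inv]; exact hy)
    rw [inv_inv] at e
    have h2 : ⁅x, u⁆ = ⁅x, n⁻¹⁆ := by
      simp only [commutatorElement_def]
      rw [show x * u * x⁻¹ * u⁻¹ = x * (u * x⁻¹ * u⁻¹) by group, e]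
      group
    rw [h2]
    exact Subgroup.commutator_mem_commutator hx (Subgroup.inv_mem _ hn)
  set Q : Subgroup G := (Q₀ : Subgroup R).map R.subtype with hQdef
  have hQR : Q ≤ R := Subgroup.map_subtype_le _
  have hQp : IsPGroup p Q := Q₀.2.map _
  haveI := hQp.isNilpotent
  haveI hQab : IsMulCommutative Q := Subgroup.map_isMulCommutative _ _
  set N := Subgroup.normalizer (Q : Set G) with hN
  set NR := R ⊓ N with hNR
  have hQNR : Q ≤ NR := le_inf hQR Subgroup.le_normalizer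
  haveI hQn : (Q.subgroupOf NR).Normal :=
    (Subgroup.normal_subgroupOf_iff_le_normalizer hQNR).mpr inf_le_right
  have hQi : (Q.relIndex NR).Coprime p := by
    have h1 : Q.relIndex R = (Q₀ : Subgroup R).index := by
      rw [hQdef, Subgroup.relIndex, Subgroup.subgroupOf, Subgroup.comap_map_eq_self_of_injective R.subtype_injective]
    have h2 : Q.relIndex NR ∣ Q.relIndex R :=
      Dvd.intro _ (Subgroup.relIndex_mul_relIndex Q NR R hQNR inf_le_left)
    exact ((Fact.out : p.Prime).coprime_iff_not_dvd.mpr fun hd => Q₀.not_dvd_index (h1 ▸ hd.trans h2)).symm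
  have hcop : (Nat.card (Q.subgroupOf NR)).Coprime (Q.subgroupOf NR).index := by
    rw [Nat.card_congr (Subgroup.subgroupOfEquivOfLe hQNR).toEquiv]
    obtain ⟨a, ha⟩ := hQp.exists_card_eq
    rw [ha]
    exact Nat.Coprime.pow_left _ hQi.symm
  obtain ⟨H', hH'⟩ := Subgroup.exists_right_complement'_of_coprime hcop
  set H : Subgroup G := H'.map NR.subtype with hHdef
  have hHle : H ≤ NR := Subgroup.map_subtype_le _
  have hHp : (Nat.card H).Coprime p := by
    rw [hHdef, Subgroup.card_map_of_injective NR.subtype_injective, ← hH'.symm.index_eq_card]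
    exact hQi
  have hQH : Disjoint Q H := Subgroup.disjoint_of_coprime_natCard (by
    obtain ⟨a, ha⟩ := hQp.exists_card_eq
    rw [ha]; exact Nat.Coprime.pow_left _ hHp.symm)
  have hdecNR : ∀ r ∈ NR, ∃ q ∈ Q, ∃ x ∈ H, r = q * x := fun r hr => by
    obtain ⟨⟨q, x⟩, e⟩ := hH'.2 ⟨r, hr⟩
    exact ⟨((q : NR) : G), q.2, ((x : NR) : G), ⟨x, x.2, rfl⟩, (congrArg Subtype.val e).symm⟩
  have hHN : H ≤ Subgroup.normalizer (Q : Set G) := hHle.trans inf_le_right
  -- `[Q, H] = Q`, so `C_Q(H) = 1`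
  have hQHQ : ⁅Q, H⁆ = Q := by
    refine le_antisymm (CfsgLib.commutator_le_of_le_normalizer hHN) ?_
    rw [hQdef]
    refine (Subgroup.map_mono hfoc).trans ?_
    rw [Subgroup.map_commutator, ← hQdef]
    refine Subgroup.commutator_le.mpr ?_
    rintro x hx _ ⟨u, hu, rfl⟩
    have huN : (u : G) ∈ NR := Subgroup.mem_inf.mpr ⟨u.2, by
      have := Subgroup.le_normalizer_map (H := (Q₀ : Subgroup R)) R.subtype ⟨u, hu, rfl⟩
      exact this⟩
    obtain ⟨q, hq, y, hy, e⟩ := hdecNR u huN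
    rw [show R.subtype u = q * y from e]
    have e1 : ⁅x, q * y⁆ = ⁅x, q⁆ * (q * ⁅x, y⁆ * q⁻¹) := by simp only [commutatorElement_def]; group
    have hxq : ⁅x, q⁆ = 1 := commutatorElement_eq_one_iff_mul_comm.mpr
      (congrArg Subtype.val (hQab.is_comm.comm (⟨x, hx⟩ : Q) ⟨q, hq⟩))
    rw [e1, hxq, one_mul]
    exact (Subgroup.mem_normalizer_iff.mp (CfsgLib.left_le_normalizer_commutator H Q hq) _).mp
      (Subgroup.commutator_mem_commutator hx hy)
  have hCQ : ∀ q ∈ Q, q ∈ Subgroup.centralizer (H : Set G) → q = 1 := fun q hq hc => by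
    have hco : (Nat.card H).Coprime (Nat.card Q) := by
      obtain ⟨a, ha⟩ := hQp.exists_card_eq
      rw [ha]; exact Nat.Coprime.pow_right _ hHp
    have h1 : q ∈ (Q ⊓ Subgroup.centralizer (H : Set G)) ⊓ ⁅Q, H⁆ := ⟨⟨hq, hc⟩, hQHQ.symm ▸ hq⟩
    rw [CfsgLib.coprime_abelian_disjoint H Q hHN hco] at h1
    exact h1
  -- Frattini argument
  set M := N ⊓ Subgroup.normalizer (H : Set G) with hM
  have hNM : ∀ n ∈ N, ∃ q ∈ Q, q⁻¹ * n ∈ M := by
    intro n hn
    set K := MulAut.conj n • H with hK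
    have hKle : K ≤ NR := by
      rintro _ ⟨x, hx, rfl⟩
      exact ⟨hRn.conj_mem x (hHle hx).1 n, N.mul_mem (N.mul_mem hn (hHle hx).2) (N.inv_mem hn)⟩
    have hKc : Subgroup.IsComplement' (Q.subgroupOf NR) (K.subgroupOf NR) := by
      refine Subgroup.isComplement'_of_card_mul_and_disjoint ?_ ?_
      · rw [Nat.card_congr (Subgroup.subgroupOfEquivOfLe hKle).toEquiv, hK, CfsgLib.card_conj_smul, hHdef,
          Subgroup.card_map_of_injective NR.subtype_injective]
        exact hH'.card_mul_card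
      · rw [Subgroup.disjoint_def]
        intro z hz hz'
        obtain ⟨x, hx, e⟩ : (z : G) ∈ MulAut.conj n • H := hz'
        have hxQ : x ∈ Q := by
          refine (Subgroup.mem_normalizer_iff.mp hn x).mpr ?_
          have : MulAut.conj n x ∈ Q := e ▸ hz
          exact this
        have hx1 := Subgroup.disjoint_def.mp hQH hxQ hx
        refine Subtype.ext ?_
        rw [← e, hx1]; exact map_one _
    obtain ⟨q, hq, e⟩ := CfsgLib.complements_conj_mem hcop
      (Or.inl (Group.isSolvable_of_isSolvable_injective (f := (Subgroup.subgroupOfEquivOfLe hQNR).toMonoidHom)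
        (MulEquiv.injective _))) hH' hKc
    refine ⟨q, hq, Subgroup.mem_inf.mpr ⟨N.mul_mem (N.inv_mem (Subgroup.le_normalizer hq)) hn, ?_⟩⟩
    have e2 : MulAut.conj (q : G) • H = K := by
      refine Subgroup.eq_of_le_of_card_ge ?_ (by rw [hK, CfsgLib.card_conj_smul, CfsgLib.card_conj_smul])
      rintro _ ⟨_, ⟨x, hx, rfl⟩, rfl⟩
      have : MulAut.conj q x ∈ K.subgroupOf NR := e ▸ ⟨x, hx, rfl⟩
      exact this
    rw [Subgroup.mem_normalizer_iff_map_conj_eq]
    show MulAut.conj ((q : G)⁻¹ * n) • H = H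
    rw [← CfsgLib.conj_smul_mul, ← hK, ← e2, CfsgLib.conj_smul_mul, inv_mul_cancel, map_one, one_smul]
  have hMR : M ⊓ R ≤ H := fun r hr => by
    obtain ⟨q, hq, x, hx, rfl⟩ := hdecNR r (Subgroup.mem_inf.mpr ⟨hr.2, hr.1.1⟩)
    have hqH : q ∈ Subgroup.normalizer (H : Set G) := by
      have := Subgroup.mul_mem _ hr.1.2 (Subgroup.inv_mem _ (Subgroup.le_normalizer hx))
      rwa [mul_inv_cancel_right] at this
    have hq1 : q = 1 := hCQ q hq fun y hy => by
      have h1 : q * y * q⁻¹ * y⁻¹ ∈ H := H.mul_mem ((Subgroup.mem_normalizer_iff.mp hqH y).mp hy) (H.inv_mem hy)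
      have h2 : q * y * q⁻¹ * y⁻¹ ∈ Q := by
        rw [show q * y * q⁻¹ * y⁻¹ = q * (y * q⁻¹ * y⁻¹) by group]
        exact Q.mul_mem hq ((Subgroup.mem_normalizer_iff.mp (hHN hy) _).mp (Q.inv_mem hq))
      exact (mul_inv_eq_iff_eq_mul.mp (mul_inv_eq_one.mp (Subgroup.disjoint_def.mp hQH h2 h1))).symm
    rw [hq1, one_mul]; exact hx
  have hMRtop : M ⊔ R = ⊤ := by
    refine eq_top_iff.mpr ?_
    rw [← Sylow.normalizer_sup_eq_top Q₀]
    refine sup_le (fun n hn => ?_) le_sup_right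
    obtain ⟨q, hq, hm⟩ := hNM n hn
    rw [show n = q * (q⁻¹ * n) by group]
    exact Subgroup.mul_mem _ (Subgroup.mem_sup_right (hQR hq)) (Subgroup.mem_sup_left hm)
  obtain ⟨P⟩ : Nonempty (Sylow p M) := inferInstance
  refine ⟨(P : Subgroup M).map M.subtype, ?_⟩
  have hPp : IsPGroup p ((P : Subgroup M).map M.subtype) := P.2.map _
  refine Subgroup.isComplement'_of_card_mul_and_disjoint ?_ ?_
  · have hGR : IsPGroup p (G ⧸ R) := CfsgLib.Transfer.isPGroup_quotient_pResidual
    have hrel : R.relIndex M = R.index := by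
      rw [← Subgroup.relIndex_sup_right, hMRtop, Subgroup.relIndex_top_right]
    have e1 : Nat.card M = Nat.card ↥(M ⊓ R) * R.index := by
      rw [← hrel, inf_comm, ← Subgroup.card_mul_index (R.subgroupOf M),
        ← Nat.card_congr (Subgroup.subgroupOfEquivOfLe (inf_le_right : R ⊓ M ≤ M)).toEquiv, Subgroup.inf_subgroupOf_right]
      rfl
    have hco : ¬ p ∣ Nat.card ↥(M ⊓ R) := fun hd =>
      (Fact.out : p.Prime).not_dvd_one (hHp ▸ Nat.dvd_gcd (hd.trans (Subgroup.card_dvd_of_le hMR)) dvd_rfl)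
    obtain ⟨a, ha⟩ := hGR.exists_card_eq
    have hPc : Nat.card (P : Subgroup M) = R.index := by
      rw [P.card_eq_multiplicity, e1, Nat.factorization_mul Nat.card_pos.ne' R.index_ne_zero_of_finite,
        Finsupp.add_apply, Nat.factorization_eq_zero_of_not_dvd hco, zero_add, Subgroup.index_eq_card, ha,
        (Fact.out : p.Prime).factorization_pow, Finsupp.single_eq_same]
    rw [Subgroup.card_map_of_injective M.subtype_injective, hPc, mul_comm, Subgroup.card_mul_index]
  · rw [Subgroup.disjoint_def]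
    intro x hxP hxR
    have hxM : x ∈ M := Subgroup.map_subtype_le _ hxP
    have hxH : x ∈ H := hMR ⟨hxM, hxR⟩
    exact Subgroup.disjoint_def.mp (Subgroup.disjoint_of_coprime_natCard (by
      obtain ⟨a, ha⟩ := hPp.exists_card_eq
      rw [ha]; exact Nat.Coprime.pow_left _ hHp.symm)) hxP hxH

end Cfsg.Agent.S0092
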