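import Cfsg.Statements.S0093
import Cfsg.Agent.Lib.SmallElements
import Cfsg.Agent.S0013

set_option autoImplicit false
open Cfsg

namespace Cfsg.Agent.S0093

/-- Every finite p-group has a critical subgroup: a characteristic subgroup H whose Frattini subgroup and whose commutator with the whole group lie in the centre of H, and whose centralizer is contained in H. -/
theorem result {P : Type*} [Group P] [Finite P] {p : ℕ} [Fact p.Prime] (hP : IsPGroup p P) : ∃ H : Subgroup P, H.Characteristic ∧ (frattini H).map H.subtype ≤ Subgroup.centralizer (H : Set P) ∧ ⁅H, (⊤ : Subgroup P)⁆ ≤ H ⊓ Subgroup.centralizer (H : Set P) ∧ Subgroup.centralizer (H : Set P) ≤ H := by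
  obtain ⟨C, hch, hcom, hpow, hcen⟩ := CfsgLib.Small.exists_critical hP
  refine ⟨C, hch, ?_, Subgroup.commutator_le.mpr fun c hc g _ => ?_, hcen⟩
  · set N := (C ⊓ Subgroup.centralizer (C : Set P)).subgroupOf C with hN
    have hNn : N.Normal := ⟨fun n hn k => by
      have h2 := (Subgroup.mem_inf.mp (Subgroup.mem_subgroupOf.mp hn)).2 (k : P) k.2
      have e : k * n * k⁻¹ = n := mul_inv_eq_iff_eq_mul.mpr (Subtype.ext h2)
      rw [e]; exact hn⟩
    have h1 : frattini C ≤ N := by
      refine S0013.result p (hP.to_subgroup C) N ?_ fun x => Subgroup.mem_subgroupOf.mpr ?_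
      · rw [commutator_def, Subgroup.commutator_le]
        intro a _ b _
        refine Subgroup.mem_subgroupOf.mpr ?_
        simpa [commutatorElement_def] using hcom (a : P) b b.2
      · simpa using hpow x x.2
    rintro _ ⟨x, hx, rfl⟩
    exact (Subgroup.mem_inf.mp (Subgroup.mem_subgroupOf.mp (h1 hx))).2
  · rw [← commutatorElement_inv]
    exact inv_mem (hcom g c hc)

end Cfsg.Agent.S0093
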