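import Cfsg.Statements.S0094
import Cfsg.Agent.Lib.Elementary

set_option autoImplicit false
open Cfsg

namespace Cfsg.Agent.S0094

/-- In a special p-group every central element has order dividing p. -/
theorem result {P : Type*} [Group P] [Finite P] {p : ℕ} [Fact p.Prime] (h : Cfsg.IsSpecial p P) (z : P) (hz : z ∈ Subgroup.center P) : z ^ p = 1 := by
  obtain ⟨hP, hfr, hcom⟩ := h
  have hc : ∀ a b : P, a * b * a⁻¹ * b⁻¹ ∈ Subgroup.center P := fun a b => by
    rw [← hcom]
    exact Subgroup.commutator_mem_commutator (Subgroup.mem_top a) (Subgroup.mem_top b)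
  have hp : ∀ a : P, a ^ p ∈ Subgroup.center P := fun a => hfr ▸ CfsgLib.pow_mem_frattini_pGroup hP a
  rw [← hcom, commutator_eq_closure] at hz
  clear hfr hcom
  have key : ∀ w ∈ Subgroup.closure (commutatorSet P), w ∈ Subgroup.center P ∧ w ^ p = 1 := by
    intro w hw
    induction hw using Subgroup.closure_induction with
    | mem y hy =>
      obtain ⟨a, b, rfl⟩ := hy
      refine ⟨hc a b, ?_⟩
      set c := a * b * a⁻¹ * b⁻¹ with hcdef
      have hcb : Commute c b := (Subgroup.mem_center_iff.mp (hc a b) b).symm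
      have h1 : a * b * a⁻¹ = c * b := by simp [hcdef]
      have h2 : a * b ^ p * a⁻¹ = c ^ p * b ^ p := by
        rw [← conj_pow, h1, hcb.mul_pow]
      have h3 : a * b ^ p * a⁻¹ = b ^ p := by
        rw [Subgroup.mem_center_iff.mp (hp b) a, mul_inv_cancel_right]
      rw [h3] at h2
      change c ^ p = 1
      simpa using h2.symm
    | one => exact ⟨Subgroup.one_mem _, one_pow p⟩
    | mul a b _ _ ha hb =>
      refine ⟨Subgroup.mul_mem _ ha.1 hb.1, ?_⟩
      rw [(show Commute a b from Subgroup.mem_center_iff.mp hb.1 a).mul_pow, ha.2, hb.2, one_mul]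
    | inv a _ ha => exact ⟨Subgroup.inv_mem _ ha.1, by rw [inv_pow, ha.2, inv_one]⟩
  exact (key z hz).2

end Cfsg.Agent.S0094
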