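import Cfsg.Statements.S0095
import Mathlib

set_option autoImplicit false
open Cfsg
open scoped commutatorElement

namespace Cfsg.Agent.S0095

/-- The order of an extraspecial p-group is an odd power p^(2n+1) of p with n ≥ 1. -/
theorem result {P : Type*} [Group P] [Finite P] {p : ℕ} [Fact p.Prime] (h : Cfsg.IsExtraspecial p P) : ∃ n : ℕ, 1 ≤ n ∧ Nat.card P = p ^ (2 * n + 1) := by
  obtain ⟨⟨hp, -, hcom⟩, hZ⟩ := h
  have hpr : p.Prime := Fact.out
  let Z := Subgroup.center P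
  suffices key : ∀ (k : ℕ) (H : Subgroup P), Nat.card H = k → Z ≤ H → (∀ x ∈ H, (∀ y ∈ H, x * y = y * x) → x ∈ Z) →
      ∃ n : ℕ, Nat.card H = p ^ (2 * n + 1) ∧ (n = 0 → H = Z) by
    obtain ⟨n, hn, hn0⟩ := key _ ⊤ rfl le_top fun x _ hx =>
      Subgroup.mem_center_iff.mpr fun y => (hx y (Subgroup.mem_top y)).symm
    refine ⟨n, Nat.one_le_iff_ne_zero.mpr fun h0 => ?_, by rw [← hn, Subgroup.card_top]⟩
    have hZt : Subgroup.center P = ⊤ := (hn0 h0).symm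
    have hb : commutator P = ⊥ := by
      rw [commutator_def, Subgroup.commutator_eq_bot_iff_le_centralizer]
      exact fun x _ y _ => ((Subgroup.mem_center_iff (z := x)).mp (hZt.symm ▸ Subgroup.mem_top x)) y
    have h1 : Nat.card (Subgroup.center P) = 1 := by rw [← hcom, hb, Subgroup.card_bot]
    exact hpr.ne_one (hZ.symm.trans h1)
  intro k
  induction k using Nat.strong_induction_on with
  | _ k ih =>
  intro H hk hZH hH
  rcases eq_or_ne H Z with e | hne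
  · exact ⟨0, by rw [e]; simpa using hZ, fun _ => e⟩
  obtain ⟨x, hxH, hxZ⟩ := SetLike.exists_of_lt (lt_of_le_of_ne hZH (Ne.symm hne))
  obtain ⟨y, hyH, hxy⟩ : ∃ y ∈ H, x * y ≠ y * x := by
    by_contra hc
    push Not at hc
    exact hxZ (hH x hxH hc)
  have hcz : ∀ a b : P, ⁅a, b⁆ ∈ Z := fun a b => by
    show _ ∈ Subgroup.center P
    rw [← hcom]; exact Subgroup.commutator_mem_commutator (Subgroup.mem_top a) (Subgroup.mem_top b)
  have hmul : ∀ a b c : P, ⁅a * b, c⁆ = ⁅a, c⁆ * ⁅b, c⁆ := fun a b c => by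
    have h2 := Subgroup.mem_center_iff.mp (hcz b c)
    calc ⁅a * b, c⁆ = a * ⁅b, c⁆ * a⁻¹ * ⁅a, c⁆ := by simp only [commutatorElement_def]; group
      _ = ⁅b, c⁆ * ⁅a, c⁆ := by rw [h2 a, mul_inv_cancel_right]
      _ = ⁅a, c⁆ * ⁅b, c⁆ := (h2 _).symm
  let f : H →* Z × Z := MonoidHom.mk' (fun g => (⟨⁅(g : P), x⁆, hcz _ _⟩, ⟨⁅(g : P), y⁆, hcz _ _⟩))
    fun a b => Prod.ext (Subtype.ext (hmul _ _ _)) (Subtype.ext (hmul _ _ _))
  have hZp : ∀ z : Z, z ≠ 1 → ∀ w : Z, ∃ i : ℤ, z ^ i = w := fun z hz w => by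
    have ht := Subgroup.eq_top_of_card_eq (Subgroup.zpowers z) (by
      rw [Nat.card_zpowers]
      rcases (Nat.dvd_prime hpr).mp (hZ ▸ orderOf_dvd_natCard z) with h' | h'
      · exact absurd (orderOf_eq_one_iff.mp h') hz
      · exact h'.trans hZ.symm)
    exact Subgroup.mem_zpowers_iff.mp (ht ▸ Subgroup.mem_top w)
  have hxx : (f ⟨x, hxH⟩).1 = 1 := Subtype.ext (by simp [f, commutatorElement_def])
  have hyy : (f ⟨y, hyH⟩).2 = 1 := Subtype.ext (by simp [f, commutatorElement_def])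
  have hne1 : (f ⟨x, hxH⟩).2 ≠ 1 := fun e =>
    hxy (commutatorElement_eq_one_iff_mul_comm.mp (congrArg Subtype.val e))
  have hne2 : (f ⟨y, hyH⟩).1 ≠ 1 := fun e =>
    hxy (commutatorElement_eq_one_iff_mul_comm.mp (congrArg Subtype.val e)).symm
  have hsurj : ∀ w : Z × Z, ∃ i j : ℤ, f (⟨y, hyH⟩ ^ i * ⟨x, hxH⟩ ^ j) = w := fun w => by
    obtain ⟨i, hi⟩ := hZp _ hne2 w.1
    obtain ⟨j, hj⟩ := hZp _ hne1 w.2
    exact ⟨i, j, Prod.ext (by simp [hi, hxx]) (by simp [hj, hyy])⟩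
  let C : Subgroup P := f.ker.map H.subtype
  have hCle : C ≤ H := Subgroup.map_subtype_le _
  have hcard : Nat.card H = p ^ 2 * Nat.card C := by
    rw [← f.ker.index_mul_card, Subgroup.index_ker, MonoidHom.range_eq_top.mpr fun w =>
      (let ⟨_, _, h⟩ := hsurj w; ⟨_, h⟩), Subgroup.card_top, Nat.card_prod,
      show Nat.card C = Nat.card f.ker from Subgroup.card_map_of_injective H.subtype_injective, hZ, sq]
  have hpos : 0 < Nat.card C := Nat.card_pos
  have hlt : Nat.card C < k := by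
    rw [← hk, hcard]
    exact lt_mul_of_one_lt_left hpos (Nat.one_lt_pow two_ne_zero hpr.one_lt)
  obtain ⟨n, hn, -⟩ := ih _ hlt C rfl (fun z hz => ⟨⟨z, hZH hz⟩, by
      have hzc : ∀ w : P, ⁅z, w⁆ = 1 := fun w =>
        commutatorElement_eq_one_iff_mul_comm.mpr (Subgroup.mem_center_iff.mp hz w).symm
      exact Prod.ext (Subtype.ext (hzc x)) (Subtype.ext (hzc y)), rfl⟩) (by
    rintro _ ⟨c, hc, rfl⟩ hcomm
    refine hH _ c.2 fun g hg => ?_
    obtain ⟨i, j, hij⟩ := hsurj (f ⟨g, hg⟩)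
    have hc' : ⟨g, hg⟩ * ((⟨y, hyH⟩ : H) ^ i * ⟨x, hxH⟩ ^ j)⁻¹ ∈ f.ker := by
      rw [MonoidHom.mem_ker, map_mul, map_inv, hij, mul_inv_cancel]
    have h1 : Commute (c : P) ((⟨g, hg⟩ * ((⟨y, hyH⟩ : H) ^ i * ⟨x, hxH⟩ ^ j)⁻¹ : H) : P) :=
      hcomm _ ⟨_, hc', rfl⟩
    have h2 : Commute (c : P) x := commutatorElement_eq_one_iff_mul_comm.mp
      (congrArg Subtype.val (congrArg Prod.fst (MonoidHom.mem_ker.mp hc)))
    have h3 : Commute (c : P) y := commutatorElement_eq_one_iff_mul_comm.mp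
      (congrArg Subtype.val (congrArg Prod.snd (MonoidHom.mem_ker.mp hc)))
    have h4 := h1.mul_right ((h3.zpow_right i).mul_right (h2.zpow_right j))
    simpa [mul_assoc] using h4.eq)
  exact ⟨n + 1, by rw [hcard, hn, ← pow_add]; congr 1; ring, fun h0 => absurd h0 (Nat.succ_ne_zero n)⟩

end Cfsg.Agent.S0095
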