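import Cfsg.Statements.S0096
import Cfsg.Agent.Lib.SmallElements

set_option autoImplicit false
open Cfsg

namespace Cfsg.Agent.S0096

open scoped commutatorElement

/-- For odd p, in a p-group of class at most two the elements of order dividing p generate a subgroup of exponent dividing p. -/
theorem result {P : Type*} [Group P] [Finite P] {p : ℕ} [Fact p.Prime] (hp : p ≠ 2) (hP : IsPGroup p P) (h2 : ⁅commutator P, (⊤ : Subgroup P)⁆ = ⊥) (g : P) (hg : g ∈ Subgroup.closure {x : P | x ^ p = 1}) : g ^ p = 1 := by
  have hc : ∀ u v w : P, Commute ⁅u, v⁆ w := by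
    intro u v w
    have h1 : ⁅u, v⁆ ∈ commutator P := Subgroup.commutator_mem_commutator (Subgroup.mem_top u) (Subgroup.mem_top v)
    exact (Subgroup.mem_centralizer_iff.1 ((Subgroup.commutator_eq_bot_iff_le_centralizer.1 h2) h1) w
      (Subgroup.mem_top w)).symm
  have hodd : p ∣ p.choose 2 := (Fact.out : p.Prime).dvd_choose_self two_ne_zero
    (lt_of_le_of_ne (Fact.out : p.Prime).two_le (Ne.symm hp))
  induction hg using Subgroup.closure_induction with
  | mem x hx => exact hx
  | one => exact one_pow _
  | mul x y _ _ hx hy =>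
    have hd : y * x = x * y * ⁅y⁻¹, x⁻¹⁆ := by rw [commutatorElement_def]; group
    have h1 := CfsgLib.Small.mul_pow_class_two hd (hc _ _ x) (hc _ _ y) p
    have h3 := CfsgLib.Small.pow_mul_class_two hd (hc _ _ y) p
    rw [hy, one_mul, mul_one] at h3
    obtain ⟨k, hk⟩ := hodd
    rw [h1, hx, hy, hk, pow_mul, mul_eq_left.1 h3.symm, one_pow, mul_one, mul_one]
  | inv x _ hx => rw [inv_pow, hx, inv_one]

end Cfsg.Agent.S0096
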