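import Cfsg.Statements.S0097
import Cfsg.Agent.Lib.SmallElements
import Cfsg.Agent.Lib.Elementary

set_option autoImplicit false
open Cfsg

namespace Cfsg.Agent.S0097

open scoped commutatorElement

/-- For odd p and E extraspecial, the subgroup generated by the elements of order dividing p has exponent dividing p and index at most p. -/
theorem result {E : Type*} [Group E] [Finite E] {p : ℕ} [Fact p.Prime] (hp : p ≠ 2) (h : Cfsg.IsExtraspecial p E) : (Subgroup.closure {x : E | x ^ p = 1}).index ≤ p ∧ ∀ g ∈ Subgroup.closure {x : E | x ^ p = 1}, g ^ p = 1 := by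
  obtain ⟨⟨hP, hF, hD⟩, hZ⟩ := h
  have hc : ∀ u v w : E, Commute ⁅u, v⁆ w := fun u v w => by
    have h1 : ⁅u, v⁆ ∈ Subgroup.center E :=
      hD ▸ Subgroup.commutator_mem_commutator (Subgroup.mem_top u) (Subgroup.mem_top v)
    exact (Subgroup.mem_center_iff.1 h1 w).symm
  have hcp : ∀ z ∈ Subgroup.center E, z ^ p = 1 := fun z hz => by
    have h1 := pow_card_eq_one' (G := Subgroup.center E) (x := (⟨z, hz⟩ : Subgroup.center E))
    rw [hZ] at h1
    exact congrArg Subtype.val h1
  have hodd : p ∣ p.choose 2 := (Fact.out : p.Prime).dvd_choose_self two_ne_zero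
    (lt_of_le_of_ne (Fact.out : p.Prime).two_le (Ne.symm hp))
  have hmul : ∀ x y : E, (x * y) ^ p = x ^ p * y ^ p := fun x y => by
    have hd : y * x = x * y * ⁅y⁻¹, x⁻¹⁆ := by rw [commutatorElement_def]; group
    have h1 := CfsgLib.Small.mul_pow_class_two hd (hc _ _ x) (hc _ _ y) p
    obtain ⟨k, hk⟩ := hodd
    rw [h1, hk, pow_mul, hcp _ (hD.le (Subgroup.commutator_mem_commutator (Subgroup.mem_top _)
      (Subgroup.mem_top _))), one_pow, mul_one]
  let f : E →* E := MonoidHom.mk' (fun x => x ^ p) hmul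
  have hker : Subgroup.closure {x : E | x ^ p = 1} = f.ker :=
    le_antisymm ((Subgroup.closure_le _).2 fun x hx => hx) fun x hx => Subgroup.subset_closure hx
  rw [hker]
  refine ⟨?_, fun g hg => hg⟩
  rw [Subgroup.index_ker]
  refine le_of_le_of_eq (Subgroup.card_le_of_le ?_) hZ
  rintro _ ⟨x, rfl⟩
  rw [← hF]
  exact CfsgLib.pow_mem_frattini_pGroup hP x

end Cfsg.Agent.S0097
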