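import Cfsg.Statements.S0101
import Cfsg.Agent.Lib.Elementary

set_option autoImplicit false
open Cfsg

namespace Cfsg.Agent.S0101

/-- In a perfect central extension, the kernel meets each Sylow p-subgroup P inside the Frattini subgroup of P. -/
theorem result {H : Type*} {G : Type*} [Group H] [Group G] [Finite H] (σ : H →* G) (hσ : Function.Surjective σ) (hc : σ.ker ≤ Subgroup.center H) (hH : commutator H = ⊤) {p : ℕ} [Fact p.Prime] (P : Sylow p H) : σ.ker ⊓ (P : Subgroup H) ≤ (frattini P).map (P : Subgroup H).subtype := by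
  rintro z ⟨hzk, hzP⟩
  refine ⟨⟨z, hzP⟩, ?_, rfl⟩
  simp only [frattini, Order.radical, SetLike.mem_coe, Subgroup.mem_iInf, Set.mem_setOf_eq]
  intro M hM
  obtain ⟨hMn, hidx⟩ := CfsgLib.index_coatom_pGroup P.2 hM
  have hcyc : IsCyclic ((P : Subgroup H) ⧸ M) := isCyclic_of_prime_card (p := p) hidx
  letI : CommGroup ((P : Subgroup H) ⧸ M) := IsCyclic.commGroup
  let V := MonoidHom.transfer (QuotientGroup.mk' M)
  have hV : V = 1 := by
    ext x
    have hx : x ∈ V.ker := (Abelianization.commutator_subset_ker V) (hH ▸ Subgroup.mem_top x)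
    exact hx
  have hzc : z ∈ Subgroup.center H := hc hzk
  have key : ∀ (k : ℕ) (g₀ : H), g₀⁻¹ * z ^ k * g₀ ∈ (P : Subgroup H) → g₀⁻¹ * z ^ k * g₀ = z ^ k := by
    intro k g₀ _
    have := Subgroup.mem_center_iff.1 ((Subgroup.center H).pow_mem hzc k) g₀
    rw [mul_assoc, ← this, inv_mul_cancel_left]
  have hpow := MonoidHom.transfer_eq_pow (QuotientGroup.mk' M) z key
  rw [show MonoidHom.transfer (QuotientGroup.mk' M) z = 1 from DFunLike.congr_fun hV z] at hpow
  have h1 : (⟨z, hzP⟩ : (P : Subgroup H)) ^ (P : Subgroup H).index ∈ M := by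
    rw [← QuotientGroup.eq_one_iff]
    exact hpow.symm
  have h2 := Subgroup.pow_index_mem M (⟨z, hzP⟩ : (P : Subgroup H))
  rw [hidx] at h2
  have hcop : Nat.Coprime (P : Subgroup H).index p :=
    ((Fact.out : p.Prime).coprime_iff_not_dvd.2 P.not_dvd_index).symm
  obtain ⟨u, v, huv⟩ : ∃ u v : ℤ, (1 : ℤ) = (P : Subgroup H).index * u + p * v :=
    ⟨_, _, by rw [← Nat.gcd_eq_gcd_ab, hcop.gcd_eq_one]; rfl⟩
  have := mul_mem (M.zpow_mem h1 u) (M.zpow_mem h2 v)
  rwa [← zpow_natCast, ← zpow_mul, ← zpow_natCast, ← zpow_mul, ← zpow_add, ← huv, zpow_one] at this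

end Cfsg.Agent.S0101
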