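import Cfsg.Statements.S0103
import Mathlib.GroupTheory.Sylow
import Mathlib.Tactic.Group
-- import your own Cfsg.Agent.* helpers here

set_option autoImplicit false
open Cfsg

namespace Cfsg.Agent.S0103

/-- If a Sylow p-subgroup P intersects every distinct conjugate trivially, then its normalizer controls fusion in P. -/
theorem result {G : Type*} [Group G] [Finite G] {p : ℕ} [Fact p.Prime] (P : Sylow p G) (hTI : ∀ g : G, (P : Subgroup G).map (MulAut.conj g).toMonoidHom ≠ (P : Subgroup G) → (P : Subgroup G) ⊓ (P : Subgroup G).map (MulAut.conj g).toMonoidHom = ⊥) (x y : G) (hx : x ∈ P) (hy : y ∈ P) (hc : ∃ g : G, g * x * g⁻¹ = y) : ∃ n ∈ Subgroup.normalizer (P : Set G), n * x * n⁻¹ = y := by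
  obtain ⟨g, hg⟩ := hc
  by_cases hx1 : x = 1
  · refine ⟨1, one_mem _, ?_⟩
    subst hx1
    simpa using hg
  refine ⟨g, ?_, hg⟩
  have hmap : (P : Subgroup G).map (MulAut.conj g).toMonoidHom = (P : Subgroup G) := by
    by_contra hne
    have hy1 : y ∈ (⊥ : Subgroup G) := (hTI g hne).le ⟨hy, x, hx, hg⟩
    rw [Subgroup.mem_bot.mp hy1, conj_eq_one_iff] at hg
    exact hx1 hg
  refine Subgroup.mem_normalizer_iff.mpr fun z => ⟨fun hz => hmap.le ⟨z, hz, rfl⟩, fun hz => ?_⟩
  obtain ⟨w, hw, hwe⟩ := hmap.ge hz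
  exact (mul_left_cancel (mul_right_cancel hwe) : w = z) ▸ hw

end Cfsg.Agent.S0103
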