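import Cfsg.Statements.S0104
import Cfsg.Agent.Lib.TransferApps
-- import your own Cfsg.Agent.* helpers here

set_option autoImplicit false
open Cfsg

namespace Cfsg.Agent.S0104

/-- A subgroup Z of a Sylow p-subgroup P that is normalized by N_G(P) is weakly closed in P exactly when it is normal in every Sylow p-subgroup containing it. -/
theorem result {G : Type*} [Group G] [Finite G] {p : ℕ} [Fact p.Prime] (P : Sylow p G) (Z : Subgroup G) (hZP : Z ≤ (P : Subgroup G)) (hZN : Subgroup.normalizer (P : Set G) ≤ Subgroup.normalizer (Z : Set G)) : Cfsg.IsWeaklyClosed Z P ↔ ∀ R : Sylow p G, Z ≤ (R : Subgroup G) → (R : Subgroup G) ≤ Subgroup.normalizer (Z : Set G) := by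
  constructor
  · intro hW R hZR r hr
    obtain ⟨h, hh⟩ := MulAction.exists_smul_eq G P R
    rw [← hh] at hr hZR
    have hhN : h⁻¹ ∈ Subgroup.normalizer (Z : Set G) :=
      CfsgLib.TransferApps.eq_of_weaklyClosed P hW P.2 hW.1 fun z hz => by
        have := hZR hz
        rw [CfsgLib.TransferApps.mem_smul_iff] at this
        simpa using this
    rw [CfsgLib.TransferApps.mem_smul_iff] at hr
    have h1 := Subgroup.mul_mem _ (Subgroup.mul_mem _ (Subgroup.inv_mem _ hhN) (hZN (Subgroup.le_normalizer hr))) hhN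
    rw [inv_inv] at h1
    convert h1 using 1
    group
  · intro hR
    refine ⟨hZP, fun g hg => ?_⟩
    suffices hgN : g ∈ Subgroup.normalizer (Z : Set G) by
      ext z
      constructor
      · rintro ⟨w, hw, rfl⟩
        exact (Subgroup.mem_normalizer_iff.mp hgN w).mp hw
      · intro hz
        refine ⟨g⁻¹ * z * g, (Subgroup.mem_normalizer_iff''.mp hgN z).mp hz, ?_⟩
        show g * (g⁻¹ * z * g) * g⁻¹ = z
        group
    have hsub : Z ≤ ((g⁻¹ • P : Sylow p G) : Subgroup G) := fun z hz => by
      rw [CfsgLib.TransferApps.mem_smul_iff, inv_inv]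
      exact hg ⟨z, hz, rfl⟩
    have hRN := hR _ hsub
    have hPN : (P : Subgroup G) ≤ Subgroup.normalizer (Z : Set G) := Subgroup.le_normalizer.trans hZN
    obtain ⟨c, hcc⟩ := MulAction.exists_smul_eq (Subgroup.normalizer (Z : Set G)) ((g⁻¹ • P).subtype hRN) (P.subtype hPN)
    have hfix : ((c : G) * g⁻¹) • P = P := by
      rw [mul_smul]
      apply Sylow.ext
      refine Subgroup.eq_of_le_of_card_ge ?_ (le_of_eq ?_)
      · intro x hx
        rw [CfsgLib.TransferApps.mem_smul_iff] at hx
        have hxN : x ∈ Subgroup.normalizer (Z : Set G) := by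
          have := Subgroup.mul_mem _ (Subgroup.mul_mem _ c.2 (hRN hx)) (Subgroup.inv_mem _ c.2)
          simpa [mul_assoc] using this
        have h2 : (⟨x, hxN⟩ : Subgroup.normalizer (Z : Set G)) ∈ ((P.subtype hPN : Sylow p (Subgroup.normalizer (Z : Set G))) : Subgroup _) := by
          rw [← hcc, CfsgLib.TransferApps.mem_smul_iff]
          exact hx
        exact h2
      · rw [Sylow.card_eq_multiplicity, Sylow.card_eq_multiplicity]
    have h3 := hZN (Sylow.smul_eq_iff_mem_normalizer.mp hfix)
    have h4 := Subgroup.mul_mem _ (Subgroup.inv_mem _ c.2) h3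
    rw [inv_mul_cancel_left] at h4
    simpa using Subgroup.inv_mem _ h4

end Cfsg.Agent.S0104
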