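import Cfsg.Statements.S0109
import Cfsg.Agent.Lib.PLocal.Offender.Application
import Cfsg.Agent.Lib.PLocal.SolvableSeparable

set_option autoImplicit false
open Cfsg

namespace Cfsg.Agent.S0109

/-- The Thompson factorization Theorem for solvable groups states that, with p odd (and abelian Sylow 2-subgroups when p = 3) and no nontrivial normal subgroup of order prime to p, every element of G is a product of an element normalizing J(P) and an element centralizing the elements of order dividing p in the centre of P. -/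
theorem result {G : Type*} [Group G] [Finite G] {p : ℕ} [Fact p.Prime] (hp : p ≠ 2) (hs : Group.IsSolvable G) (h3 : p = 3 → ∀ T : Sylow 2 G, IsMulCommutative T) (hF : ∀ N : Subgroup G, N.Normal → Nat.Coprime (Nat.card N) p → N = ⊥) (P : Sylow p G) (g : G) : ∃ a ∈ Subgroup.normalizer (Cfsg.thompsonSubgroupOf p (P : Subgroup G) : Set G), ∃ c ∈ Subgroup.centralizer {x : G | x ∈ (P : Subgroup G) ∧ (∀ y ∈ (P : Subgroup G), x * y = y * x) ∧ x ^ p = 1}, g = a * c := by
  have hO : Cfsg.pPrimeCore p G = ⊥ := hF _ inferInstance (CfsgLib.card_pPrimeCore_coprime p)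
  have hsep : Cfsg.IsPSolvable p G := CfsgLib.PLocal.isPSolvable_of_isSolvable _ G rfl hs
  haveI := CfsgLib.Offender.omegaJoin_normal (G := G) (p := p)
  obtain ⟨hV, hq⟩ := CfsgLib.Offender.omegaJoin_props hsep hO
  have hfac : Cfsg.IsThompsonFactorizable p G := by
    refine (CfsgLib.PLocal.isThompsonFactorizable_iff_centralizes hO).2 ?_
    by_contra hJ
    obtain ⟨hp23, E, -, -, -, hn, ⟨e⟩⟩ := CfsgLib.Offender.exists_normal_sl2 hV hsep hq hJ
    obtain rfl : p = 3 := hp23.resolve_left hp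
    haveI : Fact (Nat.Prime 2) := ⟨Nat.prime_two⟩
    obtain ⟨T⟩ : Nonempty (Sylow 2 ↥E) := inferInstance
    let π : ↥E →* Matrix.SpecialLinearGroup (Fin 2) (ZMod 3) := e.toMonoidHom.comp (QuotientGroup.mk' _)
    have hπ : Function.Surjective π := e.surjective.comp (QuotientGroup.mk'_surjective _)
    have hab : ∀ a ∈ ((T.mapSurjective hπ : Sylow 2 _) : Subgroup (Matrix.SpecialLinearGroup (Fin 2) (ZMod 3))),
        ∀ b ∈ ((T.mapSurjective hπ : Sylow 2 _) : Subgroup (Matrix.SpecialLinearGroup (Fin 2) (ZMod 3))),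
        a * b = b * a := by
      rintro _ ⟨a, ha, rfl⟩ _ ⟨b, hb, rfl⟩
      obtain ⟨T', hT'⟩ := (T.2.map E.subtype).exists_le_sylow
      rw [← map_mul, ← map_mul]
      refine congrArg π (Subtype.ext ?_)
      have h := congrArg Subtype.val ((h3 rfl T').is_comm.comm ⟨_, hT' ⟨a, ha, rfl⟩⟩ ⟨_, hT' ⟨b, hb, rfl⟩⟩)
      simpa using h
    let Q : Subgroup (Matrix.SpecialLinearGroup (Fin 2) (ZMod 3)) :=
      { carrier := {x | x ^ 4 = 1}
        one_mem' := one_pow 4
        inv_mem' := fun {x} hx => by simp only [Set.mem_setOf_eq] at hx ⊢; rw [inv_pow, hx, inv_one]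
        mul_mem' := fun {x y} hx hy => (show ∀ x y : Matrix.SpecialLinearGroup (Fin 2) (ZMod 3),
          x ^ 4 = 1 → y ^ 4 = 1 → (x * y) ^ 4 = 1 by decide +kernel) x y hx hy }
    have hQp : IsPGroup 2 ↥Q := fun x => ⟨2, Subtype.ext x.2⟩
    obtain ⟨T2, hT2⟩ := hQp.exists_le_sylow
    obtain ⟨g, hg⟩ := MulAction.exists_smul_eq (Matrix.SpecialLinearGroup (Fin 2) (ZMod 3)) (T.mapSurjective hπ) T2
    obtain ⟨x, y, hx, hy, hxy⟩ : ∃ x y : Matrix.SpecialLinearGroup (Fin 2) (ZMod 3),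
        x ^ 4 = 1 ∧ y ^ 4 = 1 ∧ x * y ≠ y * x := by decide +kernel
    have hxT : x ∈ T2 := hT2 hx
    have hyT : y ∈ T2 := hT2 hy
    rw [← hg] at hxT hyT
    obtain ⟨a, ha, rfl⟩ := hxT
    obtain ⟨b, hb, rfl⟩ := hyT
    refine hxy ?_
    show g * a * g⁻¹ * (g * b * g⁻¹) = g * b * g⁻¹ * (g * a * g⁻¹)
    calc g * a * g⁻¹ * (g * b * g⁻¹) = g * (a * b) * g⁻¹ := by group
      _ = g * (b * a) * g⁻¹ := by rw [hab a ha b hb]
      _ = _ := by group
  obtain ⟨x, hx, c, hc, n, hn, hg⟩ := hfac P g⁻¹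
  rw [hO, Subgroup.mem_bot] at hx
  refine ⟨n⁻¹, inv_mem hn, c⁻¹, inv_mem ?_, by rw [← inv_inv g, hg, hx, one_mul, mul_inv_rev]⟩
  rintro z ⟨hzP, hzc, hzp⟩
  exact hc z (Subgroup.subset_closure ⟨⟨hzP, fun y hy => (hzc y hy).symm⟩, hzp⟩)

end Cfsg.Agent.S0109
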