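import Cfsg.Statements.S0110
import Cfsg.Agent.S0014
import Cfsg.Agent.Lib.Elementary

set_option autoImplicit false
open Cfsg

namespace Cfsg.Agent.S0110

/-- In a p-group G, an extraspecial subgroup E with [G, E] ≤ Z(E) satisfies G = E C_G(E). -/
theorem result {G : Type*} [Group G] [Finite G] {p : ℕ} [Fact p.Prime] (hG : IsPGroup p G) (E : Subgroup G) (hE : Cfsg.IsExtraspecial p E) (h : ⁅(⊤ : Subgroup G), E⁆ ≤ E ⊓ Subgroup.centralizer (E : Set G)) : E ⊔ Subgroup.centralizer (E : Set G) = ⊤ := by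
  classical
  obtain ⟨⟨hEp, hF, hD⟩, hZ⟩ := hE
  set C := Subgroup.centralizer (E : Set G) with hC
  have hcomm : ∀ g : G, ∀ e ∈ E, g * e * g⁻¹ * e⁻¹ ∈ E ⊓ C := fun g e he =>
    h (Subgroup.commutator_mem_commutator (Subgroup.mem_top g) he)
  have hEn : E.Normal := ⟨fun e he g => by
    have := mul_mem (hcomm g e he).1 he
    rwa [inv_mul_cancel_right] at this⟩
  have hCn : C.Normal := hC ▸ inferInstance
  obtain ⟨k, hk⟩ := hEp.exists_card_eq
  obtain ⟨j, hj⟩ : ∃ j, (frattini E).index = p ^ j := by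
    obtain ⟨j, hj⟩ := IsPGroup.iff_card.1 (hEp.to_quotient (frattini E))
    exact ⟨j, hj⟩
  obtain ⟨T, -, hT, hTgen⟩ := (Cfsg.Agent.S0014.result p j hEp hj).1
    (Set.finite_univ (α := E)).toFinset (by simp)
  have hpow : Nat.card ↥(E ⊓ C) = p := by
    rw [← hZ, ← Subgroup.card_map_of_injective E.subtype_injective (K := Subgroup.center E)]
    refine congrArg (fun K : Subgroup G => Nat.card K) ?_
    ext x
    constructor
    · rintro ⟨hxE, hxC⟩
      exact ⟨⟨x, hxE⟩, Subgroup.mem_center_iff.2 fun y => Subtype.ext (hxC y y.2), rfl⟩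
    · rintro ⟨z, hz, rfl⟩
      exact ⟨z.2, fun y hy => congrArg Subtype.val (Subgroup.mem_center_iff.1 hz ⟨y, hy⟩)⟩
  -- the index of C is bounded by the number of maps T → Z(E)
  let φ : G ⧸ C → (↥T → ↥(E ⊓ C)) :=
    Quotient.lift (fun g t => ⟨g * ((t : E) : G) * g⁻¹ * ((t : E) : G)⁻¹, hcomm g _ (t : E).2⟩) (by
      intro a b hab
      replace hab : a⁻¹ * b ∈ C := QuotientGroup.leftRel_apply.1 hab
      funext t
      apply Subtype.ext
      have := (hab : a⁻¹ * b ∈ Subgroup.centralizer (E : Set G)) _ (t : E).2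
      show a * ((t : E) : G) * a⁻¹ * ((t : E) : G)⁻¹ = b * ((t : E) : G) * b⁻¹ * ((t : E) : G)⁻¹
      congr 1
      calc a * ((t : E) : G) * a⁻¹ = a * (((t : E) : G) * (a⁻¹ * b)) * b⁻¹ := by group
        _ = a * ((a⁻¹ * b) * ((t : E) : G)) * b⁻¹ := by rw [this]
        _ = b * ((t : E) : G) * b⁻¹ := by group)
  have hφ : Function.Injective φ := by
    intro x y
    induction x using QuotientGroup.induction_on with
    | H a =>
      induction y using QuotientGroup.induction_on with
      | H b =>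
        intro hab
        rw [QuotientGroup.eq]
        have hle : Subgroup.closure (T : Set E) ≤
            (Subgroup.centralizer ({a⁻¹ * b} : Set G)).comap E.subtype := by
          rw [Subgroup.closure_le]
          intro t ht
          have h1 : a * (t : G) * a⁻¹ * (t : G)⁻¹ = b * (t : G) * b⁻¹ * (t : G)⁻¹ :=
            congrArg Subtype.val (congrFun hab ⟨t, ht⟩)
          rw [SetLike.mem_coe, Subgroup.mem_comap, Subgroup.mem_centralizer_singleton_iff]
          show (t : G) * (a⁻¹ * b) = a⁻¹ * b * (t : G)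
          calc (t : G) * (a⁻¹ * b) = a⁻¹ * (a * (t : G) * a⁻¹ * (t : G)⁻¹) * ((t : G) * b) := by group
            _ = a⁻¹ * (b * (t : G) * b⁻¹ * (t : G)⁻¹) * ((t : G) * b) := by rw [h1]
            _ = _ := by group
        rw [hTgen] at hle
        intro e he
        exact Subgroup.mem_centralizer_singleton_iff.1 (hle (Subgroup.mem_top (⟨e, he⟩ : E)))
  have hindex : C.index ≤ p ^ j := by
    have := Nat.card_le_card_of_injective φ hφ
    rw [Nat.card_fun, hpow, Nat.card_eq_fintype_card (α := T), Fintype.card_coe, hT] at this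
    exact this
  -- and E C has exactly that index over C
  have hrel : C.relIndex (E ⊔ C) = p ^ j := by
    rw [Subgroup.relIndex_sup_right, ← hj, hF]
    show (C.subgroupOf E).index = _
    congr 1
    ext x
    rw [Subgroup.mem_subgroupOf, Subgroup.mem_center_iff]
    exact ⟨fun hx y => Subtype.ext (hx y y.2), fun hx y hy => congrArg Subtype.val (hx ⟨y, hy⟩)⟩
  have hmul := Subgroup.relIndex_mul_index (le_sup_right : C ≤ E ⊔ C)
  rw [hrel] at hmul
  refine Subgroup.index_eq_one.1 ?_
  have h1 : p ^ j * (E ⊔ C).index ≤ p ^ j * 1 := by rw [hmul, mul_one]; exact hindex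
  have h2 : 0 < (E ⊔ C).index := Nat.pos_of_ne_zero Subgroup.index_ne_zero_of_finite
  have := Nat.le_of_mul_le_mul_left h1 (pow_pos (Fact.out : p.Prime).pos j)
  omega

end Cfsg.Agent.S0110
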