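import Cfsg.Statements.S0114
import Mathlib
import Cfsg.Agent.Lib.MaximalClass
-- import your own Cfsg.Agent.* helpers here

set_option autoImplicit false
open Cfsg

namespace Cfsg.Agent.S0114

/-- The central quotient of a 2-group of maximal class is dihedral. -/
theorem result {X : Type*} [Group X] [Finite X] (n : ℕ) (hn : 3 ≤ n) (hX : Nat.card X = 2 ^ n) (hc : Group.nilpotencyClass X = n - 1) : Nonempty (X ⧸ Subgroup.center X ≃* DihedralGroup (2 ^ (n - 2))) := by
  classical
  have := Fact.mk Nat.prime_two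
  obtain ⟨a, b, r, ha, hb, hgen, hconj, hr, hfix, hb2⟩ := CfsgLib.MaximalClass.shape hn hX
    ((CfsgLib.MaximalClass.index_commutator hn hX hc).trans (by norm_num)) (CfsgLib.MaximalClass.pow_mem_commutator hn hX hc)
  set z := a ^ 2 ^ (n - 2) with hz
  have hzA : z ∈ Subgroup.zpowers a := Subgroup.pow_mem _ (Subgroup.mem_zpowers a) _
  have hz2 : orderOf z = 2 := by
    rw [hz, orderOf_pow' a (Nat.two_pow_pos _).ne', ha, Nat.gcd_eq_right (pow_dvd_pow 2 (by omega)),
      Nat.pow_div (by omega) (by norm_num), show n - 1 - (n - 2) = 1 by omega, pow_one]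
  have hP : IsPGroup 2 X := IsPGroup.of_card hX
  have : Nontrivial X := ⟨⟨b, 1, fun e => hb (e ▸ one_mem _)⟩⟩
  have h8 : 8 ≤ Nat.card X := by
    rw [hX]
    exact le_trans (by norm_num : 8 ≤ 2 ^ 3) (Nat.pow_le_pow_right (by norm_num) hn)
  have hZle : Subgroup.center X ≤ Subgroup.zpowers z := by
    intro x hx
    rcases CfsgLib.MaximalClass.shape_centralizer ha hgen hconj hfix hb (Subgroup.mem_center_iff.mp hx b).symm with h | h
    · exact h
    exfalso
    have hxA : x ∉ Subgroup.zpowers a := fun hxA => hb (by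
      have h2 := mul_mem hxA (inv_mem ((Subgroup.zpowers_le.mpr hzA) h))
      rwa [mul_inv_rev, inv_inv, mul_inv_cancel_left] at h2)
    have h3 := CfsgLib.MaximalClass.card_centralizer_le hn ha hgen hconj hfix hxA
    have h4 : Subgroup.centralizer ({x} : Set X) = ⊤ := eq_top_iff.mpr fun g _ =>
      Subgroup.mem_centralizer_singleton_iff.mpr (Subgroup.mem_center_iff.mp hx g)
    rw [h4, Subgroup.card_top] at h3
    omega
  have hZ : Subgroup.center X = Subgroup.zpowers z := by
    refine Subgroup.eq_of_le_of_card_ge hZle ?_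
    rw [Nat.card_zpowers, hz2]
    have : Nontrivial (Subgroup.center X) := hP.center_nontrivial
    exact Finite.one_lt_card
  let π := QuotientGroup.mk' (Subgroup.center X)
  have hker : ∀ x, π x = 1 ↔ x ∈ Subgroup.zpowers z := fun x => by
    rw [QuotientGroup.mk'_apply, QuotientGroup.eq_one_iff, hZ]
  have hord : ∀ i : ℤ, a ^ i ∈ Subgroup.zpowers z ↔ (2 : ℤ) ^ (n - 2) ∣ i := by
    intro i
    constructor
    · intro h
      obtain ⟨k, hk⟩ := Subgroup.mem_zpowers_iff.mp h
      rw [hz, ← zpow_natCast a, ← zpow_mul] at hk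
      have h1 := orderOf_dvd_sub_iff_zpow_eq_zpow.mpr hk.symm
      rw [ha] at h1
      push_cast at h1
      exact (dvd_sub_left (dvd_mul_right _ k)).mp ((pow_dvd_pow 2 (by omega)).trans h1)
    · rintro ⟨k, rfl⟩
      rw [zpow_mul, show ((2 : ℤ) ^ (n - 2)) = ((2 ^ (n - 2) : ℕ) : ℤ) by push_cast; rfl, zpow_natCast]
      exact Subgroup.zpow_mem _ (Subgroup.mem_zpowers z) k
  refine CfsgLib.TausskyTwo.dihedral_iso (Nat.two_pow_pos _) (π a) (π b) ?_ ?_ ?_ ?_ ?_
  · refine (orderOf_eq_iff (Nat.two_pow_pos _)).mpr ⟨?_, fun m hm hm0 h => ?_⟩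
    · rw [← map_pow, hker]
      exact Subgroup.mem_zpowers z
    · rw [← map_pow, hker, ← zpow_natCast, hord] at h
      have := Int.le_of_dvd (by exact_mod_cast hm0) h
      norm_cast at this
      omega
  · rw [← map_pow, hker]
    exact hb2
  · rw [← map_inv π b, ← map_mul, ← map_mul, hconj, ← mul_inv_eq_one, inv_inv, ← map_mul, hker, ← zpow_add_one, hord]
    exact hr
  · intro h
    obtain ⟨i, hi⟩ := Subgroup.mem_zpowers_iff.mp h
    rw [← map_zpow, ← mul_inv_eq_one, ← map_inv, ← map_mul, hker] at hi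
    refine hb ?_
    have h2 := mul_mem (inv_mem ((Subgroup.zpowers_le.mpr hzA) hi)) (Subgroup.zpow_mem _ (Subgroup.mem_zpowers a) i)
    rwa [mul_inv_rev, inv_inv, inv_mul_cancel_right] at h2
  · intro q
    obtain ⟨g, rfl⟩ := QuotientGroup.mk'_surjective _ q
    rcases hgen g with h | h
    · left
      obtain ⟨i, rfl⟩ := Subgroup.mem_zpowers_iff.mp h
      exact ⟨i, (map_zpow π a i).symm⟩
    · right
      obtain ⟨i, hi⟩ := Subgroup.mem_zpowers_iff.mp h
      refine ⟨i, ?_⟩
      show π a ^ i = (π b)⁻¹ * π g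
      rw [← map_inv, ← map_mul, ← hi, map_zpow]

end Cfsg.Agent.S0114
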