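import Cfsg.Statements.S0119
import Cfsg.Agent.Lib.RankFrattini
import Cfsg.Agent.Lib.Tate

set_option autoImplicit false
set_option maxHeartbeats 1000000
open Cfsg
open scoped commutatorElement

namespace Cfsg.Agent.S0119

/-- If a p'-group A of automorphisms of a p-group G satisfies G = [G, A] and acts trivially on every characteristic abelian subgroup, then G is special with centre equal to the fixed points of A. -/
theorem result {G : Type*} [Group G] [Finite G] {p : ℕ} [Fact p.Prime] (hG : IsPGroup p G) (A : Subgroup (MulAut G)) (hA : Nat.Coprime (Nat.card A) p) (hGA : Subgroup.closure {x : G | ∃ g : G, ∃ a ∈ A, x = g⁻¹ * a g} = ⊤) (hchar : ∀ H : Subgroup G, H.Characteristic → IsMulCommutative H → ∀ a ∈ A, ∀ h ∈ H, a h = h) : Cfsg.IsSpecial p G ∧ (∀ g : G, (g ∈ Subgroup.center G ↔ ∀ a ∈ A, a g = g)) := by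
  classical
  haveI : Group.IsNilpotent G := hG.isNilpotent
  -- characteristic abelian subgroups are central
  have hcen : ∀ H : Subgroup G, H.Characteristic → (∀ x ∈ H, ∀ y ∈ H, x * y = y * x) →
      H ≤ Subgroup.center G := by
    intro H hHc hHab h hh
    haveI := hHc
    have hfix := hchar H hHc ⟨⟨fun x y => Subtype.ext (hHab x x.2 y y.2)⟩⟩
    have hle : Subgroup.closure {x : G | ∃ g : G, ∃ a ∈ A, x = g⁻¹ * a g} ≤
        Subgroup.centralizer ({h} : Set G) := by
      rw [Subgroup.closure_le]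
      rintro _ ⟨g, a, ha, rfl⟩
      refine Subgroup.mem_centralizer_singleton_iff.2 ?_
      have h1 : g * h * g⁻¹ ∈ H := (inferInstance : H.Normal).conj_mem h hh g
      have h2 := hfix a ha _ h1
      rw [map_mul, map_mul, map_inv, hfix a ha h hh] at h2
      calc g⁻¹ * a g * h = g⁻¹ * (a g * h * (a g)⁻¹) * a g := by group
        _ = g⁻¹ * (g * h * g⁻¹) * a g := by rw [h2]
        _ = h * (g⁻¹ * a g) := by group
    rw [hGA] at hle
    exact Subgroup.mem_center_iff.2 fun g => Subgroup.mem_centralizer_singleton_iff.1 (hle (Subgroup.mem_top g))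
  have hZfix : ∀ a ∈ A, ∀ z ∈ Subgroup.center G, a z = z := fun a ha z hz =>
    hchar (Subgroup.center G) inferInstance inferInstance a ha z hz
  -- the derived subgroup is central
  have hcomm : commutator G ≤ Subgroup.center G := by
    let Z2 : Subgroup G := (Subgroup.center (G ⧸ Subgroup.center G)).comap (QuotientGroup.mk' _)
    have hZ2c : Z2.Characteristic := by
      refine Subgroup.characteristic_iff_le_comap.2 fun φ x hx => ?_
      rw [Subgroup.mem_comap] at hx ⊢
      rw [Subgroup.mem_comap]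
      refine Subgroup.mem_center_iff.2 fun y => ?_
      obtain ⟨y, rfl⟩ := QuotientGroup.mk'_surjective _ y
      obtain ⟨y, rfl⟩ := φ.surjective y
      have h1 := Subgroup.mem_center_iff.1 hx (QuotientGroup.mk' _ y)
      rw [← map_mul, ← map_mul] at h1
      have h2 : (y * x)⁻¹ * (x * y) ∈ Subgroup.center G := QuotientGroup.eq.1 h1
      rw [← map_mul, ← map_mul]
      refine QuotientGroup.eq.2 (Subgroup.mem_center_iff.2 fun z => ?_)
      obtain ⟨z, rfl⟩ := φ.surjective z
      have h3 := congrArg φ (Subgroup.mem_center_iff.1 h2 z)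
      simpa using h3
    have hZ2G : ∀ z ∈ Z2, ∀ g : G, g * z * g⁻¹ * z⁻¹ ∈ Subgroup.center G := by
      intro z hz g
      rw [← QuotientGroup.eq_one_iff]
      show QuotientGroup.mk' (Subgroup.center G) (g * z * g⁻¹ * z⁻¹) = 1
      rw [map_mul, map_mul, map_mul, map_inv, map_inv, Subgroup.mem_center_iff.1 hz (QuotientGroup.mk' _ g)]
      group
    haveI := hZ2c
    have hcd : commutator G ⊓ Z2 ≤ Subgroup.center G := by
      refine hcen _ ⟨fun φ => ?_⟩ fun x hx y hy => ?_
      · rw [Subgroup.comap_inf, Subgroup.Characteristic.fixed (H := commutator G) inferInstance φ,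
          Subgroup.Characteristic.fixed (H := Z2) inferInstance φ]
      · let f : G →* Subgroup.center G :=
          MonoidHom.mk' (fun g => ⟨g * y * g⁻¹ * y⁻¹, hZ2G y hy.2 g⟩) fun g g' => Subtype.ext (by
            show g * g' * y * (g * g')⁻¹ * y⁻¹ = (g * y * g⁻¹ * y⁻¹) * (g' * y * g'⁻¹ * y⁻¹)
            calc g * g' * y * (g * g')⁻¹ * y⁻¹ = g * (g' * y * g'⁻¹ * y⁻¹) * g⁻¹ * (g * y * g⁻¹ * y⁻¹) := by group
              _ = (g' * y * g'⁻¹ * y⁻¹) * (g * y * g⁻¹ * y⁻¹) := by
                rw [Subgroup.mem_center_iff.1 (hZ2G y hy.2 g') g, mul_inv_cancel_right]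
              _ = _ := (Subgroup.mem_center_iff.1 (hZ2G y hy.2 g') _).symm)
        have hk : commutator G ≤ f.ker := by
          rw [commutator_def, Subgroup.commutator_le]
          intro a _ b _
          show f ⁅a, b⁆ = 1
          rw [map_commutatorElement, commutatorElement_eq_one_iff_mul_comm]
          exact Subtype.ext ((Subgroup.mem_center_iff.1 (f b).2) (f a : G))
        have h1 : x * y * x⁻¹ * y⁻¹ = 1 := congrArg Subtype.val (hk hx.1)
        exact mul_inv_eq_iff_eq_mul.1 (mul_inv_eq_one.1 h1)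
    by_contra hne
    set q := QuotientGroup.mk' (Subgroup.center G)
    haveI : ((commutator G).map q).Normal := Subgroup.Normal.map inferInstance q (QuotientGroup.mk'_surjective _)
    have hQ : IsPGroup p (G ⧸ Subgroup.center G) := hG.to_quotient _
    haveI : Group.IsNilpotent (G ⧸ Subgroup.center G) := hQ.isNilpotent
    have hNne : (commutator G).map q ≠ ⊥ := fun e => hne (by
      rw [Subgroup.map_eq_bot_iff, QuotientGroup.ker_mk'] at e; exact e)
    have hmeet : (commutator G).map q ⊓ Subgroup.center (G ⧸ Subgroup.center G) ≠ ⊥ :=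
      CfsgLib.inf_center_ne_bot_of_nilpotent hNne
    refine hmeet (le_bot_iff.1 ?_)
    rintro _ ⟨⟨x, hx, rfl⟩, hy⟩
    rw [Subgroup.mem_bot]
    exact (QuotientGroup.eq_one_iff x).2 (hcd ⟨hx, hy⟩)
  -- commutators have order dividing p
  have hcmem : ∀ x y : G, ⁅x, y⁆ ∈ Subgroup.center G := fun x y =>
    hcomm (by rw [commutator_def]; exact Subgroup.commutator_mem_commutator (Subgroup.mem_top x) (Subgroup.mem_top y))
  have hpowc : ∀ (x y : G) (n : ℕ), ⁅x ^ n, y⁆ = ⁅x, y⁆ ^ n := by
    intro x y n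
    induction n with
    | zero => simp
    | succ n ih =>
      calc ⁅x ^ (n + 1), y⁆ = x ^ n * ⁅x, y⁆ * (x ^ n)⁻¹ * ⁅x ^ n, y⁆ := by
            rw [pow_succ]; simp only [commutatorElement_def]; group
        _ = ⁅x, y⁆ * ⁅x, y⁆ ^ n := by
            rw [ih, Subgroup.mem_center_iff.1 (hcmem x y) (x ^ n), mul_inv_cancel_right]
        _ = ⁅x, y⁆ ^ (n + 1) := (pow_succ' _ _).symm
  have hpowc' : ∀ (x y : G) (n : ℕ), ⁅x, y ^ n⁆ = ⁅x, y⁆ ^ n := fun x y n => by
    rw [← commutatorElement_inv (y ^ n) x, hpowc, ← inv_pow, commutatorElement_inv]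
  have hexp : ∀ x y : G, ⁅x, y⁆ ^ p = 1 := by
    obtain ⟨e, he⟩ := hG.exists_card_eq
    have hdown : ∀ k, 1 ≤ k → (∀ x y : G, ⁅x, y⁆ ^ p ^ (k + 1) = 1) → ∀ x y : G, ⁅x, y⁆ ^ p ^ k = 1 := by
      intro k hk hall
      set K := Subgroup.closure ((Set.range fun g : G => g ^ p ^ k)) with hK
      have hKch : K.Characteristic := by
        refine Subgroup.characteristic_iff_le_comap.2 fun φ => ?_
        rw [hK, Subgroup.closure_le]
        rintro _ ⟨g, rfl⟩
        exact Subgroup.subset_closure ⟨φ g, by simp⟩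
      haveI : IsMulCommutative K := Subgroup.isMulCommutative_closure (by
        rintro _ ⟨g, rfl⟩ _ ⟨g', rfl⟩
        refine commutatorElement_eq_one_iff_mul_comm.1 ?_
        rw [hpowc, hpowc', ← pow_mul, ← pow_add]
        have hd : p ^ (k + 1) ∣ p ^ (k + k) := pow_dvd_pow p (by omega)
        obtain ⟨m, hm⟩ := hd
        rw [hm, pow_mul, hall, one_pow])
      intro x y
      rw [← hpowc]
      exact commutatorElement_eq_one_iff_mul_comm.2
        (Subgroup.mem_center_iff.1 (hcen K hKch (fun a ha b hb =>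
          Subgroup.mul_comm_of_mem_isMulCommutative K ha hb) (Subgroup.subset_closure ⟨x, rfl⟩)) y).symm
    have hind : ∀ k, (∀ x y : G, ⁅x, y⁆ ^ p ^ (k + 1) = 1) → ∀ x y : G, ⁅x, y⁆ ^ p = 1 := by
      intro k
      induction k with
      | zero => intro h; simpa using h
      | succ k ih => intro h; exact ih (hdown (k + 1) (by omega) h)
    refine hind e fun x y => orderOf_dvd_iff_pow_eq_one.1 ?_
    exact (orderOf_dvd_natCard _).trans (he ▸ pow_dvd_pow p (by omega))
  have hpZ : ∀ x : G, x ^ p ∈ Subgroup.center G := fun x => Subgroup.mem_center_iff.2 fun y =>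
    (commutatorElement_eq_one_iff_mul_comm.1 (by rw [hpowc, hexp])).symm
  -- no fixed points on `G / G'`
  let φ : A → G →* Abelianization G := fun a => Abelianization.of.comp (a.1 : MulAut G).toMonoidHom
  haveI : Fintype A := Fintype.ofFinite A
  let N : G →* Abelianization G := ∏ a : A, φ a
  have hNinv : ∀ (g : G) (b : A), N (b.1 g) = N g := by
    intro g b
    simp only [N, MonoidHom.finsetProd_apply]
    exact Fintype.prod_equiv (Equiv.mulRight b) _ _ fun a => rfl
  have hN1 : ∀ g : G, N g = 1 := by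
    have : (⊤ : Subgroup G) ≤ N.ker := by
      rw [← hGA, Subgroup.closure_le]
      rintro _ ⟨g, a, ha, rfl⟩
      show N (g⁻¹ * a g) = 1
      rw [map_mul, map_inv, hNinv g ⟨a, ha⟩, inv_mul_cancel]
    exact fun g => this (Subgroup.mem_top g)
  have hfixc : ∀ g : G, (∀ a ∈ A, a g = g) → g ∈ commutator G := by
    intro g hg
    have h1 : (Abelianization.of g) ^ Nat.card A = 1 := by
      rw [← hN1 g]
      simp only [N, MonoidHom.finsetProd_apply]
      rw [Nat.card_eq_fintype_card, ← Finset.card_univ, ← Finset.prod_const]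
      exact Finset.prod_congr rfl fun a _ => (congrArg Abelianization.of (hg a.1 a.2)).symm
    obtain ⟨k, hk⟩ := hG g
    have h2 : (Abelianization.of g) ^ p ^ k = 1 := by rw [← map_pow, hk, map_one]
    have h3 := pow_gcd_eq_one.2 ⟨h1, h2⟩
    rw [Nat.Coprime.pow_right k hA, pow_one] at h3
    exact (QuotientGroup.eq_one_iff g).1 h3
  have hZc : commutator G = Subgroup.center G :=
    le_antisymm hcomm fun z hz => hfixc z fun a ha => hZfix a ha z hz
  refine ⟨⟨hG, le_antisymm ?_ ?_, hZc⟩, fun g => ⟨fun hg a ha => hZfix a ha g hg, fun hg => hcomm (hfixc g hg)⟩⟩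
  · exact CfsgLib.RankFrattini.frattini_le_of_elementary hG _ hcmem hpZ
  · exact hZc ▸ CfsgLib.commutator_le_frattini_pGroup hG

end Cfsg.Agent.S0119
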