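import Cfsg.Statements.S0125
import Mathlib.GroupTheory.SchurZassenhaus

set_option autoImplicit false
open Cfsg

namespace Cfsg.Agent.S0125

/-- The centralizer of a self-centralizing normal subgroup A of a Sylow p-subgroup is the direct product of A with a normal p'-subgroup. -/
theorem result {G : Type*} [Group G] [Finite G] {p : ℕ} [Fact p.Prime] (R : Sylow p G) (A : Subgroup G) (hAR : A ≤ (R : Subgroup G)) (hAn : (R : Subgroup G) ≤ Subgroup.normalizer (A : Set G)) (hC : (R : Subgroup G) ⊓ Subgroup.centralizer (A : Set G) = A) : ∃ H : Subgroup G, H ≤ Subgroup.centralizer (A : Set G) ∧ Nat.Coprime (Nat.card H) p ∧ Subgroup.centralizer (A : Set G) ≤ Subgroup.normalizer (H : Set G) ∧ H ⊓ A = ⊥ ∧ H ⊔ A = Subgroup.centralizer (A : Set G) := by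
  classical
  set C := Subgroup.centralizer (A : Set G) with hCdef
  have hAC : A ≤ C := hC.ge.trans inf_le_right
  set N := Subgroup.normalizer (A : Set G) with hN
  have hCN : C ≤ N := Subgroup.centralizer_le_normalizer _
  -- A is a Sylow subgroup of its centralizer
  have hAp : IsPGroup p A := R.2.to_le hAR
  obtain ⟨Q, hQ⟩ := IsPGroup.exists_le_sylow (G := C) (P := A.subgroupOf C)
    (hAp.comap_of_injective C.subtype C.subtype_injective)
  have hQA : (Q : Subgroup C) = A.subgroupOf C := by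
    have hQN : IsPGroup p (((Q : Subgroup C).map C.subtype).subgroupOf N) :=
      (Q.2.map C.subtype).comap_of_injective N.subtype N.subtype_injective
    obtain ⟨T, hT⟩ := hQN.exists_le_sylow
    obtain ⟨⟨n, hn⟩, hnT⟩ := MulAction.exists_smul_eq N T (R.subtype hAn)
    refine le_antisymm ?_ hQ
    suffices Nat.card (Q : Subgroup C) ≤ Nat.card (A.subgroupOf C) from
      (Subgroup.eq_of_le_of_card_ge hQ this).ge
    rw [Nat.card_congr (Subgroup.subgroupOfEquivOfLe hAC).toEquiv,
      ← Subgroup.card_map_of_injective C.subtype_injective (K := (Q : Subgroup C))]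
    let φ := (MulAut.conj n).toMonoidHom
    rw [Nat.card_congr (((Q : Subgroup C).map C.subtype).equivMapOfInjective φ (MulAut.conj n).injective).toEquiv]
    refine Subgroup.card_le_of_le ?_
    rintro _ ⟨x, hx, rfl⟩
    obtain ⟨y, hy, rfl⟩ := hx
    refine hC.le ⟨?_, ?_⟩
    · have h2 : MulAut.conj (⟨n, hn⟩ : N) ⟨C.subtype y, hCN y.2⟩ ∈ (((⟨n, hn⟩ : N) • T : Sylow p N) : Subgroup N) :=
        Subgroup.mem_map_of_mem _ (hT (Subgroup.mem_map_of_mem _ hy))
      rw [hnT] at h2
      exact h2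
    · intro a ha
      have han : n⁻¹ * a * n ∈ A := by
        have := (Subgroup.mem_normalizer_iff.1 (inv_mem hn) a).1 ha
        simpa using this
      show a * (n * (y : G) * n⁻¹) = n * (y : G) * n⁻¹ * a
      calc a * (n * (y : G) * n⁻¹) = n * ((n⁻¹ * a * n) * y) * n⁻¹ := by group
        _ = n * ((y : G) * (n⁻¹ * a * n)) * n⁻¹ := by rw [y.2 _ han]
        _ = _ := by group
  have hAc : A.subgroupOf C ≤ Subgroup.center C := fun x hx =>
    Subgroup.mem_center_iff.2 fun y => Subtype.ext (y.2 x hx).symm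
  have hAn' : (A.subgroupOf C).Normal := ⟨fun x hx g => by
    rw [Subgroup.mem_center_iff.1 (hAc hx) g, mul_inv_cancel_right]; exact hx⟩
  have hcop : Nat.Coprime (Nat.card (A.subgroupOf C)) (A.subgroupOf C).index := by
    obtain ⟨k, hk⟩ := (hAp.comap_of_injective C.subtype C.subtype_injective).exists_card_eq
    rw [show A.subgroupOf C = A.comap C.subtype from rfl] at *
    rw [hk]
    exact Nat.Coprime.pow_left k ((Fact.out : p.Prime).coprime_iff_not_dvd.2 (hQA ▸ Q.not_dvd_index))
  obtain ⟨K, hK⟩ := Subgroup.exists_right_complement'_of_coprime hcop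
  have hKn : K.Normal := ⟨fun k hk g => by
    have hg : g ∈ A.subgroupOf C ⊔ K := by rw [hK.sup_eq_top]; trivial
    obtain ⟨a, ha, h, hh, rfl⟩ := Subgroup.mem_sup_of_normal_left.1 hg
    have ha' := Subgroup.mem_center_iff.1 (hAc ha)
    have : a * h * k * (a * h)⁻¹ = h * k * h⁻¹ := by
      rw [mul_inv_rev, ← mul_assoc, show a * h * k * h⁻¹ = a * (h * k * h⁻¹) by group, ← ha' (h * k * h⁻¹),
        mul_inv_cancel_right]
    rw [this]
    exact mul_mem (mul_mem hh hk) (inv_mem hh)⟩
  refine ⟨K.map C.subtype, Subgroup.map_subtype_le K, ?_, ?_, ?_, ?_⟩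
  · rw [Subgroup.card_map_of_injective C.subtype_injective]
    have h1 := hK.index_eq_card
    have h2 := Q.not_dvd_index
    rw [hQA] at h2
    rw [← hK.symm.index_eq_card] at *
    exact ((Fact.out : p.Prime).coprime_iff_not_dvd.2 h2).symm
  · intro c hc
    rw [Subgroup.mem_normalizer_iff]
    have hfwd : ∀ d ∈ C, ∀ x ∈ K.map C.subtype, d * x * d⁻¹ ∈ K.map C.subtype := by
      rintro d hd _ ⟨x, hx, rfl⟩
      exact ⟨⟨d, hd⟩ * x * ⟨d, hd⟩⁻¹, hKn.conj_mem x hx _, by simp⟩
    refine fun x => ⟨hfwd c hc x, fun h => ?_⟩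
    have := hfwd c⁻¹ (inv_mem hc) _ h
    simpa [mul_assoc] using this
  · rw [eq_bot_iff]
    rintro _ ⟨⟨x, hx, rfl⟩, hxA⟩
    rw [Subgroup.mem_bot, Subgroup.disjoint_def.1 hK.disjoint (x := x) hxA hx]
    rfl
  · have := congrArg (Subgroup.map C.subtype) hK.sup_eq_top
    rw [Subgroup.map_sup, ← MonoidHom.range_eq_map, Subgroup.range_subtype,
      Subgroup.subgroupOf_map_subtype, inf_eq_left.2 hAC] at this
    rw [sup_comm]
    exact this

end Cfsg.Agent.S0125
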