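import Cfsg.Statements.S0129
import Cfsg.Agent.Lib.PGroup.CyclicMax
import Cfsg.Agent.S0015

set_option autoImplicit false
open Cfsg

namespace Cfsg.Agent.S0129

theorem card_quotient_centralizer_le {G : Type*} [Group G] [Finite G] {p : ℕ} [Fact p.Prime] (hG : IsPGroup p G) :
    ∀ (a : ℕ) (N : Subgroup G) [N.Normal], Nat.card N = p ^ a →
      (Subgroup.centralizer (N : Set G)).index ≤ p ^ (a * (a - 1) / 2) := by
  have hp : p.Prime := Fact.out
  intro a
  induction a with
  | zero =>
    intro N _ hN
    have : N = ⊥ := Subgroup.card_eq_one.mp (hN.trans (pow_zero p))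
    subst this
    have : Subgroup.centralizer ((⊥ : Subgroup G) : Set G) = ⊤ := eq_top_iff.mpr fun g _ x hx => by
      rw [SetLike.mem_coe, Subgroup.mem_bot] at hx; simp [hx]
    rw [this, Subgroup.index_top]; simp
  | succ a ih =>
    intro N _ hN
    have hNb : N ≠ ⊥ := fun h => by
      rw [h, Subgroup.card_bot] at hN
      exact (Nat.one_lt_pow (Nat.succ_ne_zero a) hp.one_lt).ne hN
    obtain ⟨M, hMn, hMN, hidx⟩ := CfsgLib.CyclicMax.exists_normal_index hG N hNb
    haveI := hMn
    have hMc : Nat.card M = p ^ a := by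
      have h1 : Nat.card M * p = p ^ (a + 1) := by
        conv_lhs => rw [← hidx]
        rw [← hN, Subgroup.relIndex, ← Nat.card_congr (Subgroup.subgroupOfEquivOfLe hMN.le).toEquiv,
          Subgroup.card_mul_index]
      exact Nat.eq_of_mul_eq_mul_right hp.pos (h1.trans (pow_succ p a))
    obtain ⟨x, hx, hxM⟩ := SetLike.exists_of_lt hMN
    -- `G` centralises `N / M`
    have hact : ∀ g : G, x⁻¹ * (g * x * g⁻¹) ∈ M := by
      set π := QuotientGroup.mk' M
      have hc : Nat.card (N.map π) = p := by
        have h1 : (π.comp N.subtype).ker = M.subgroupOf N := by ext y; simp [π, Subgroup.mem_subgroupOf]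
        rw [← hidx, Subgroup.relIndex, ← h1, Subgroup.index_ker, MonoidHom.range_comp, Subgroup.range_subtype]
      haveI : (N.map π).Normal := Subgroup.Normal.map inferInstance _ (QuotientGroup.mk'_surjective M)
      haveI := (hG.to_quotient M).isNilpotent
      have hne : N.map π ≠ ⊥ := fun h => by rw [h, Subgroup.card_bot] at hc; exact hp.ne_one hc.symm
      have hZ := CfsgLib.inf_center_ne_bot_of_nilpotent (N := N.map π) hne
      have hle : N.map π ≤ Subgroup.center (G ⧸ M) := by
        have h2 : N.map π ⊓ Subgroup.center (G ⧸ M) = N.map π := by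
          refine Subgroup.eq_of_le_of_card_ge inf_le_left ?_
          have h3 : Nat.card ↥(N.map π ⊓ Subgroup.center (G ⧸ M)) ∣ p := hc ▸ Subgroup.card_dvd_of_le inf_le_left
          rcases (Nat.dvd_prime hp).mp h3 with h4 | h4
          · exact absurd (Subgroup.card_eq_one.mp h4) hZ
          · rw [hc, h4]
        exact inf_eq_left.mp h2
      intro g
      rw [← QuotientGroup.eq_one_iff]
      show π (x⁻¹ * (g * x * g⁻¹)) = 1
      have h5 := Subgroup.mem_center_iff.mp (hle ⟨x, hx, rfl⟩) (π g)
      rw [map_mul, map_mul, map_mul, h5, map_inv, map_inv]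
      group
    -- embed `G / C(N)`
    set C := Subgroup.centralizer (N : Set G)
    set D := Subgroup.centralizer (M : Set G)
    let f : G → (G ⧸ D) × M := fun g => (g, ⟨_, hact g⟩)
    have hf : ∀ g h, f g = f h → g⁻¹ * h ∈ C := by
      intro g h e
      have h1 : g⁻¹ * h ∈ D := QuotientGroup.eq.mp (congrArg Prod.fst e)
      have h2 : g * x * g⁻¹ = h * x * h⁻¹ := mul_left_cancel (congrArg Subtype.val (congrArg Prod.snd e))
      have h3 : Commute (g⁻¹ * h) x := by
        show g⁻¹ * h * x = x * (g⁻¹ * h)
        rw [show g⁻¹ * h * x = g⁻¹ * (h * x * h⁻¹) * h by group, ← h2]; group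
      intro y hy
      have hspan : N ≤ M ⊔ Subgroup.zpowers x := by
        have h4 : M < M ⊔ Subgroup.zpowers x := lt_of_le_of_ne le_sup_left fun e =>
          hxM (e ▸ Subgroup.mem_sup_right (Subgroup.mem_zpowers x))
        have h5 : M ⊔ Subgroup.zpowers x ≤ N := sup_le hMN.le (Subgroup.zpowers_le.mpr hx)
        have h6 := Subgroup.relIndex_mul_relIndex M _ N h4.le h5
        rw [hidx] at h6
        rcases (Nat.dvd_prime hp).mp (Dvd.intro _ h6) with h7 | h7
        · exact absurd (Subgroup.relIndex_eq_one.mp h7) h4.not_ge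
        · rw [h7] at h6
          exact Subgroup.relIndex_eq_one.mp (Nat.eq_of_mul_eq_mul_left hp.pos (h6.trans (mul_one p).symm))
      have h8 : M ⊔ Subgroup.zpowers x ≤ Subgroup.centralizer {g⁻¹ * h} := by
        refine sup_le (fun m hm => Subgroup.mem_centralizer_singleton_iff.mpr ?_) (Subgroup.zpowers_le.mpr
          (Subgroup.mem_centralizer_singleton_iff.mpr h3.eq.symm))
        exact h1 m hm
      exact Subgroup.mem_centralizer_singleton_iff.mp (h8 (hspan hy))
    let f' : G ⧸ C → (G ⧸ D) × M := fun q => f q.out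
    have hinj : Function.Injective f' := fun q r e => by
      rw [← QuotientGroup.out_eq' q, ← QuotientGroup.out_eq' r]
      exact QuotientGroup.eq.mpr (hf _ _ e)
    have h9 := Nat.card_le_card_of_injective f' hinj
    rw [Nat.card_prod, hMc, ← Subgroup.index_eq_card, ← Subgroup.index_eq_card] at h9
    refine h9.trans ((Nat.mul_le_mul_right _ (ih M hMc)).trans ?_)
    rw [← pow_add]
    refine Nat.pow_le_pow_right hp.pos (le_of_eq ?_)
    have : ∀ b : ℕ, (b + 1) * b / 2 = b * (b - 1) / 2 + b := fun b => by
      rcases b with _ | b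
      · rfl
      · simp only [Nat.add_sub_cancel]
        rw [show (b + 1 + 1) * (b + 1) = (b + 1) * b + (b + 1) * 2 by ring, Nat.add_mul_div_right _ _ two_pos]
    simpa using (this a).symm

/-- The order of a p-group is bounded by p^(a(a+1)/2) when it has a maximal normal abelian subgroup of order p^a. -/
theorem result {G : Type*} [Group G] [Finite G] {p : ℕ} [Fact p.Prime] (hG : IsPGroup p G) (A : Subgroup G) [A.Normal] (hA : IsMulCommutative A) (hmax : ∀ B : Subgroup G, B.Normal → IsMulCommutative B → A ≤ B → B = A) (a : ℕ) (ha : Nat.card A = p ^ a) : Nat.card G ≤ p ^ (a * (a + 1) / 2) := by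
  haveI := hG.isNilpotent
  have hC : Subgroup.centralizer (A : Set G) = A := by
    haveI := hA
    exact S0015.result A fun M hM hMc hle => hmax M hM hMc hle
  have h1 := card_quotient_centralizer_le hG a A ha
  rw [hC] at h1
  have h2 : Nat.card G ≤ p ^ a * p ^ (a * (a - 1) / 2) := by
    rw [← A.card_mul_index, ha]; exact Nat.mul_le_mul_left _ h1
  refine h2.trans (le_of_eq ?_)
  rw [← pow_add]
  congr 1
  rcases a with _ | b
  · rfl
  · simp only [Nat.add_sub_cancel]
    rw [show (b + 1) * (b + 1 + 1) = (b + 1) * b + (b + 1) * 2 by ring, Nat.add_mul_div_right _ _ two_pos]; ring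

end Cfsg.Agent.S0129
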