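import Cfsg.Statements.S0131
import Mathlib.GroupTheory.SchurZassenhaus

set_option autoImplicit false
open Cfsg

namespace Cfsg.Agent.S0131

/-- P/P' has a normal complement in G exactly when the focal subgroup G' ∩ P is as small as possible, namely P'. -/
theorem result {G : Type*} [Group G] [Finite G] {p : ℕ} [Fact p.Prime] (P : Sylow p G) : (∃ N : Subgroup G, N.Normal ∧ N ⊓ (P : Subgroup G) = ⁅(P : Subgroup G), (P : Subgroup G)⁆ ∧ N ⊔ (P : Subgroup G) = ⊤) ↔ commutator G ⊓ (P : Subgroup G) = ⁅(P : Subgroup G), (P : Subgroup G)⁆ := by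
  constructor
  · rintro ⟨N, hN, hNP, hsup⟩
    refine le_antisymm ?_ (le_inf (Subgroup.commutator_mono le_top le_top) (Subgroup.commutator_le_self _))
    rw [← hNP]
    refine le_inf (inf_le_left.trans ?_) inf_le_right
    -- G ⧸ N is abelian
    rw [commutator_def, Subgroup.commutator_le]
    have key : ∀ g : G, ∃ n ∈ N, ∃ x ∈ (P : Subgroup G), g = n * x := fun g => by
      have hg : g ∈ N ⊔ (P : Subgroup G) := by rw [hsup]; trivial
      obtain ⟨n, hn, x, hx, rfl⟩ := Subgroup.mem_sup_of_normal_left.1 hg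
      exact ⟨n, hn, x, hx, rfl⟩
    intro a _ b _
    obtain ⟨n₁, hn₁, x₁, hx₁, rfl⟩ := key a
    obtain ⟨n₂, hn₂, x₂, hx₂, rfl⟩ := key b
    have hc : x₁ * x₂ * x₁⁻¹ * x₂⁻¹ ∈ N := (hNP.ge.trans inf_le_left) (Subgroup.commutator_mem_commutator hx₁ hx₂)
    rw [← QuotientGroup.eq_one_iff] at hn₁ hn₂ hc ⊢
    simp only [commutatorElement_def, QuotientGroup.mk_mul, QuotientGroup.mk_inv, hn₁, hn₂, one_mul] at hc ⊢
    exact hc
  · intro h
    -- the inverse image of the p'-part of the abelianization
    let A := Abelianization G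
    haveI : Finite A := Finite.of_surjective _ (QuotientGroup.mk_surjective (s := commutator G))
    obtain ⟨Q, hQ⟩ : ∃ Q : Subgroup A, Q.IsComplement' ((P : Subgroup G).map Abelianization.of) := by
      refine Subgroup.exists_left_complement'_of_coprime ?_
      obtain ⟨k, hk⟩ := (P.2.map Abelianization.of).exists_card_eq
      rw [hk]
      refine Nat.Coprime.pow_left k ((Fact.out : p.Prime).coprime_iff_not_dvd.2 fun hd => ?_)
      exact P.not_dvd_index (hd.trans (Subgroup.index_map_dvd _ QuotientGroup.mk_surjective))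
    refine ⟨Q.comap Abelianization.of, inferInstance, le_antisymm ?_ ?_, ?_⟩
    · rintro x ⟨hxQ, hxP⟩
      rw [← h]
      refine ⟨?_, hxP⟩
      rw [← Abelianization.ker_of]
      exact Subgroup.disjoint_def.1 hQ.disjoint hxQ (Subgroup.mem_map_of_mem _ hxP)
    · refine le_inf ?_ (Subgroup.commutator_le_self _)
      refine le_trans (h.ge.trans inf_le_left) ?_
      rw [← Abelianization.ker_of]
      exact MonoidHom.ker_le_comap _ _
    · rw [eq_top_iff]
      intro g _
      have hg : Abelianization.of g ∈ Q ⊔ (P : Subgroup G).map Abelianization.of := by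
        rw [hQ.sup_eq_top]; trivial
      obtain ⟨q, hq, _, ⟨x, hx, rfl⟩, hqx⟩ := Subgroup.mem_sup_of_normal_left.1 hg
      rw [show g = g * x⁻¹ * x by group]
      refine Subgroup.mul_mem_sup ?_ hx
      rw [Subgroup.mem_comap, map_mul, map_inv, ← hqx]
      simpa using hq

end Cfsg.Agent.S0131
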