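import Cfsg.Statements.S0149
import Cfsg.Agent.Lib.CharTheory
import Cfsg.Agent.Lib.CharTheory.Linear
import Cfsg.Agent.Lib.CharTheory.Burnside
-- import your own Cfsg.Agent.* helpers here

set_option autoImplicit false
open Cfsg

namespace Cfsg.Agent.S0149

/-- Let T be a subset of G meeting each of its conjugates by elements outside its normalizer N only in the identity, and let ψ be a class function of N vanishing on N away from T. Then the function induced from ψ agrees with ψ at every non-identity element of T. -/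
theorem result {G : Type*} [Group G] [Fintype G] (T : Set G) (hTI : ∀ g : G, g ∉ Subgroup.normalizer T → ∀ t ∈ T, g * t * g⁻¹ ∈ T → t = 1) (hTN : T ⊆ Subgroup.normalizer T) (ψ : Subgroup.normalizer T → ℂ) (hψ : Cfsg.IsClassFunction (Subgroup.normalizer T) ψ) (hψT : ∀ x : Subgroup.normalizer T, (x : G) ∉ T → ψ x = 0) (t : Subgroup.normalizer T) (htT : (t : G) ∈ T) (ht1 : t ≠ 1) : Cfsg.indFun (Subgroup.normalizer T) ψ t = ψ t := by
  classical
  have hkey : ∀ x : G, Cfsg.extendByZero (Subgroup.normalizer T) ψ (x⁻¹ * (t : G) * x) =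
      if x ∈ Subgroup.normalizer T then ψ t else 0 := by
    intro x
    by_cases hx : x ∈ Subgroup.normalizer T
    · rw [if_pos hx, CfsgLib.CharTheory.extendByZero_of_mem _ _ (Subgroup.mul_mem _ (Subgroup.mul_mem _ (Subgroup.inv_mem _ hx) t.2) hx)]
      have := hψ t ⟨x, hx⟩⁻¹
      rw [inv_inv] at this
      exact this
    · rw [if_neg hx]
      by_cases hm : x⁻¹ * (t : G) * x ∈ Subgroup.normalizer T
      · rw [CfsgLib.CharTheory.extendByZero_of_mem _ _ hm]
        refine hψT _ fun hmT => ht1 (Subtype.ext (hTI x⁻¹ (fun h => hx (by simpa using Subgroup.inv_mem _ h)) t htT (by simpa using hmT)))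
      · exact CfsgLib.CharTheory.extendByZero_of_not_mem _ _ hm
  simp only [Cfsg.indFun, hkey]
  rw [← Finset.sum_filter, Finset.sum_const, nsmul_eq_mul,
    ← Fintype.card_subtype (fun x : G => x ∈ Subgroup.normalizer T), ← Nat.card_eq_fintype_card]
  have hne : (Nat.card (Subgroup.normalizer T) : ℂ) ≠ 0 := Nat.cast_ne_zero.mpr Nat.card_pos.ne'
  exact inv_mul_cancel_left₀ hne _

end Cfsg.Agent.S0149
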