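import Cfsg.Statements.S0150
import Cfsg.Agent.Lib.CharTheory
import Cfsg.Agent.Lib.CharTheory.Linear
import Cfsg.Agent.Lib.CharTheory.Burnside
-- import your own Cfsg.Agent.* helpers here

set_option autoImplicit false
open Cfsg

namespace Cfsg.Agent.S0150

/-- Let T be a subset of G meeting each of its conjugates by elements outside its normalizer N only in the identity. If ψ and θ are class functions of N vanishing on N away from T and ψ 1 = 0, then the inner product of the induced functions over G equals the inner product of ψ and θ over N. -/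
theorem result {G : Type*} [Group G] [Fintype G] (T : Set G) (hTI : ∀ g : G, g ∉ Subgroup.normalizer T → ∀ t ∈ T, g * t * g⁻¹ ∈ T → t = 1) (hTN : T ⊆ Subgroup.normalizer T) [Fintype (Subgroup.normalizer T)] (ψ θ : Subgroup.normalizer T → ℂ) (hψ : Cfsg.IsClassFunction (Subgroup.normalizer T) ψ) (hθ : Cfsg.IsClassFunction (Subgroup.normalizer T) θ) (hψT : ∀ x : Subgroup.normalizer T, (x : G) ∉ T → ψ x = 0) (hθT : ∀ x : Subgroup.normalizer T, (x : G) ∉ T → θ x = 0) (hψ1 : ψ 1 = 0) : Cfsg.classInner (Cfsg.indFun (Subgroup.normalizer T) ψ) (Cfsg.indFun (Subgroup.normalizer T) θ) = Cfsg.classInner ψ θ := by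
  classical
  rw [CfsgLib.CharTheory.frobenius_reciprocity _ _ (CfsgLib.CharTheory.indFun_isClassFunction _ _)]
  simp only [Cfsg.classInner]
  congr 1
  refine Finset.sum_congr rfl fun t _ => ?_
  by_cases htT : (t : G) ∈ T
  · by_cases ht1 : t = 1
    · subst ht1; simp [hψ1]
    · have hkey : ∀ x : G, Cfsg.extendByZero (Subgroup.normalizer T) θ (x⁻¹ * (t : G) * x) =
          if x ∈ Subgroup.normalizer T then θ t else 0 := by
        intro x
        by_cases hx : x ∈ Subgroup.normalizer T
        · rw [if_pos hx, CfsgLib.CharTheory.extendByZero_of_mem _ _ (Subgroup.mul_mem _ (Subgroup.mul_mem _ (Subgroup.inv_mem _ hx) t.2) hx)]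
          have := hθ t ⟨x, hx⟩⁻¹
          rw [inv_inv] at this
          exact this
        · rw [if_neg hx]
          by_cases hm : x⁻¹ * (t : G) * x ∈ Subgroup.normalizer T
          · rw [CfsgLib.CharTheory.extendByZero_of_mem _ _ hm]
            refine hθT _ fun hmT => ht1 (Subtype.ext (hTI x⁻¹ (fun h => hx (by simpa using Subgroup.inv_mem _ h)) t htT (by simpa using hmT)))
          · exact CfsgLib.CharTheory.extendByZero_of_not_mem _ _ hm
      have hind : Cfsg.indFun (Subgroup.normalizer T) θ t = θ t := by
        simp only [Cfsg.indFun, hkey]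
        rw [← Finset.sum_filter, Finset.sum_const, nsmul_eq_mul,
          ← Fintype.card_subtype (fun x : G => x ∈ Subgroup.normalizer T), ← Nat.card_eq_fintype_card]
        have hne : (Nat.card (Subgroup.normalizer T) : ℂ) ≠ 0 := Nat.cast_ne_zero.mpr Nat.card_pos.ne'
        exact inv_mul_cancel_left₀ hne _
      rw [hind]
  · simp [hψT t htT]

end Cfsg.Agent.S0150
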