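import Cfsg.Statements.S0155
import Cfsg.Agent.Lib.CharTheory
-- import your own Cfsg.Agent.* helpers here

set_option autoImplicit false
open Cfsg

namespace Cfsg.Agent.S0155

/-- The character of the left regular representation of a finite group takes the value |G| at the identity and 0 at every other element. -/
theorem result {G : Type*} [Group G] [Fintype G] [DecidableEq G] (g : G) : (Representation.leftRegular ℂ G).character g = if g = 1 then (Nat.card G : ℂ) else 0 := by
  let e : MonoidAlgebra ℂ G ≃ₗ[ℂ] (G →₀ ℂ) := MonoidAlgebra.coeffLinearEquiv ℂ
  have hb : ∀ x : G, (Representation.leftRegular ℂ G g) (MonoidAlgebra.single x 1) =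
      MonoidAlgebra.single (g * x) 1 := fun x => by
    simp [Representation.ofMulAction_single]
  let b : Module.Basis G ℂ (MonoidAlgebra ℂ G) := Module.Basis.ofRepr e
  rw [Representation.character, LinearMap.trace_eq_matrix_trace ℂ b, Matrix.trace]
  have : ∀ x : G, (LinearMap.toMatrix b b (Representation.leftRegular ℂ G g)).diag x =
      if g = 1 then 1 else 0 := by
    intro x
    simp only [Matrix.diag_apply, LinearMap.toMatrix_apply]
    have hx : b x = MonoidAlgebra.single x 1 := by simp [b, e]
    rw [hx, hb]
    simp [b, e, Finsupp.single_apply]
  simp only [this]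
  split <;> simp [Nat.card_eq_fintype_card]

end Cfsg.Agent.S0155
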