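import Cfsg.Statements.S0156
import Cfsg.Agent.Lib.CharTheory
-- import your own Cfsg.Agent.* helpers here

set_option autoImplicit false
open Cfsg

namespace Cfsg.Agent.S0156

/-- The character of the left regular representation is the sum over the irreducible characters χ of χ 1 • χ. -/
theorem result {G : Type*} [Group G] [Fintype G] : (Representation.leftRegular ℂ G).character = ∑ᶠ χ : Cfsg.IrrCharacter G, (χ : G → ℂ) 1 • (χ : G → ℂ) := by
  classical
  ext g
  rw [finsum_eq_sum_of_fintype, Finset.sum_apply]
  have h := CfsgLib.CharTheory.sum_irr_apply_mul_degree g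
  simp only [mul_comm ((_ : G → ℂ) g)] at h
  simp only [Pi.smul_apply, smul_eq_mul]
  rw [h]
  let e : MonoidAlgebra ℂ G ≃ₗ[ℂ] (G →₀ ℂ) := MonoidAlgebra.coeffLinearEquiv ℂ
  let b : Module.Basis G ℂ (MonoidAlgebra ℂ G) := Module.Basis.ofRepr e
  rw [Representation.character, LinearMap.trace_eq_matrix_trace ℂ b, Matrix.trace]
  have : ∀ x : G, (LinearMap.toMatrix b b (Representation.leftRegular ℂ G g)).diag x =
      if g = 1 then 1 else 0 := by
    intro x
    simp only [Matrix.diag_apply, LinearMap.toMatrix_apply]
    have hx : b x = MonoidAlgebra.single x 1 := by simp [b, e]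
    rw [hx]
    simp [b, e, Finsupp.single_apply, Representation.ofMulAction_single]
  simp only [this]
  split <;> simp [Nat.card_eq_fintype_card]

end Cfsg.Agent.S0156
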