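import Cfsg.Statements.S0158
import Cfsg.Agent.Lib.CharTheory
import Cfsg.Agent.Lib.CharTheory.Clifford
import Cfsg.Agent.Lib.CharTheory.FrobeniusSchur
-- import your own Cfsg.Agent.* helpers here

set_option autoImplicit false
open Cfsg

namespace Cfsg.Agent.S0158

open CfsgLib.CharTheory
open scoped ComplexConjugate

/-- The Frobenius–Schur indicator of an irreducible complex representation of a finite group — the average over s of the character at s * s — is 0, 1 or −1, and it vanishes exactly when some character value is not real. -/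
theorem result {G : Type*} [Group G] [Fintype G] {V : Type*} [AddCommGroup V] [Module ℂ V] [FiniteDimensional ℂ V] (ρ : Representation ℂ G V) [ρ.IsIrreducible] : ((Nat.card G : ℂ)⁻¹ * ∑ s : G, ρ.character (s * s) = 0 ∨ (Nat.card G : ℂ)⁻¹ * ∑ s : G, ρ.character (s * s) = 1 ∨ (Nat.card G : ℂ)⁻¹ * ∑ s : G, ρ.character (s * s) = -1) ∧ ((Nat.card G : ℂ)⁻¹ * ∑ s : G, ρ.character (s * s) = 0 ↔ ∃ s : G, (ρ.character s).im ≠ 0) := by
  have hG : (Nat.card G : ℂ) ≠ 0 := Nat.cast_ne_zero.mpr Nat.card_pos.ne'
  have hnot : (∑ s : G, ρ.character s * ρ.character s = 0) → ∃ s : G, (ρ.character s).im ≠ 0 := by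
    intro h
    by_contra hno
    push Not at hno
    have h1 := classInner_irr_self (isIrrCharacter_character ρ)
    simp only [Cfsg.classInner] at h1
    rw [Finset.sum_congr rfl fun x _ => by rw [Complex.conj_eq_iff_im.mpr (hno x)], h, mul_zero] at h1
    exact zero_ne_one h1
  rcases frobenius_schur ρ with ⟨hsq, hν⟩ | ⟨ε, hε, hsq, hν, -⟩
  · rw [hν, mul_zero]
    exact ⟨Or.inl rfl, iff_of_true rfl (hnot hsq)⟩
  · have hne : ε ≠ 0 := by rcases hε with rfl | rfl <;> norm_num
    rw [hν, mul_comm ε, inv_mul_cancel_left₀ hG]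
    refine ⟨?_, iff_of_false hne ?_⟩
    · rcases hε with rfl | rfl
      · exact Or.inr (Or.inl rfl)
      · exact Or.inr (Or.inr rfl)
    · rintro ⟨s, hs⟩
      -- a character with non-real values is orthogonal to its conjugate
      have hne' : (fun g => conj (ρ.character g)) ≠ ρ.character := fun e =>
        hs (Complex.conj_eq_iff_im.mp (congrFun e s))
      have h0 := classInner_irr_ne (isIrrCharacter_character ρ)
        (isIrrCharacter_conjChar (isIrrCharacter_character ρ)) hne'.symm
      simp only [Cfsg.classInner, Complex.conj_conj, hsq, inv_mul_cancel₀ hG] at h0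
      exact one_ne_zero h0

end Cfsg.Agent.S0158
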