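import Cfsg.Statements.S0160
import Cfsg.Agent.Lib.CharTheory
import Cfsg.Agent.Lib.CharTheory.Fixed
import Cfsg.Agent.Lib.CharTheory.Clifford
-- import your own Cfsg.Agent.* helpers here

set_option autoImplicit false
open Cfsg

namespace Cfsg.Agent.S0160

open CfsgLib.CharTheory
open scoped ComplexConjugate

/-- A finite group has as many real-valued irreducible complex characters as conjugacy classes closed under taking inverses. -/
theorem result {G : Type*} [Group G] [Finite G] : Nat.card {χ : Cfsg.IrrCharacter G // ∀ g : G, ((χ : G → ℂ) g).im = 0} = Nat.card {C : ConjClasses G // ∀ g : G, ConjClasses.mk g = C → IsConj g g⁻¹} := by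
  have := Fintype.ofFinite G
  let π : ConjClasses G → ConjClasses G := Quotient.lift (fun g => ConjClasses.mk g⁻¹) fun a b h =>
    ConjClasses.mk_eq_mk_iff_isConj.mpr (by
      obtain ⟨c, hc⟩ := isConj_iff.mp h
      exact isConj_iff.mpr ⟨c, by rw [← hc]; group⟩)
  have key := card_fixed_irr_eq_card_fixed_classes π
    (fun χ => ⟨fun g => conj ((χ : G → ℂ) g), isIrrCharacter_conjChar χ.2⟩)
    (fun χ g g' h => by
      show conj ((χ : G → ℂ) g) = _
      rw [← char_apply_inv (isCharacter_of_irr χ.2)]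
      exact isClassFunction_iff_isConj.mp (isClassFunction_irr χ.2) _ _
        (ConjClasses.mk_eq_mk_iff_isConj.mp h.symm))
  rw [Nat.card_congr (Equiv.subtypeEquivRight fun χ : Cfsg.IrrCharacter G =>
    (forall_congr' fun g => Complex.conj_eq_iff_im.symm).trans
      (funext_iff.symm.trans (Subtype.ext_iff (a1 := (⟨fun g => conj ((χ : G → ℂ) g),
        isIrrCharacter_conjChar χ.2⟩ : Cfsg.IrrCharacter G)) (a2 := χ)).symm)), key]
  refine Nat.card_congr (Equiv.subtypeEquivRight fun C => ?_)
  obtain ⟨k, rfl⟩ := ConjClasses.mk_surjective C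
  show ConjClasses.mk k⁻¹ = ConjClasses.mk k ↔ _
  rw [ConjClasses.mk_eq_mk_iff_isConj]
  refine ⟨fun h g hg => ?_, fun h => (h k rfl).symm⟩
  obtain ⟨c, hc⟩ := isConj_iff.mp (ConjClasses.mk_eq_mk_iff_isConj.mp hg)
  exact (ConjClasses.mk_eq_mk_iff_isConj.mp hg).trans
    (h.symm.trans ((isConj_iff.mpr ⟨c, by rw [← hc]; group⟩ : IsConj g⁻¹ k⁻¹)).symm)

end Cfsg.Agent.S0160
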