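import Cfsg.Statements.S0162
import Cfsg.Agent.Lib.CharTheory
import Cfsg.Agent.Lib.CharTheory.Clifford
import Cfsg.Agent.S0161
-- import your own Cfsg.Agent.* helpers here

set_option autoImplicit false
open Cfsg

namespace Cfsg.Agent.S0162

open CfsgLib.CharTheory
open scoped ComplexConjugate

/-- If a finite group has odd order, its order is congruent to its number of conjugacy classes modulo 16. -/
theorem result {G : Type*} [Group G] [Finite G] (hodd : Odd (Nat.card G)) : Nat.card G ≡ Nat.card (ConjClasses G) [MOD 16] := by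
  classical
  have := Fintype.ofFinite G
  choose d hd hdeq using fun χ : Cfsg.IrrCharacter G => irr_degree_pos χ.2
  have hsum : ∑ χ : Cfsg.IrrCharacter G, d χ * d χ = Nat.card G := by
    have h := sum_irr_apply_mul_degree (1 : G)
    rw [if_pos rfl] at h
    simp only [hdeq] at h
    exact_mod_cast h
  have hdodd : ∀ χ, Odd (d χ) := fun χ => by
    obtain ⟨n, ρ, hρ, he⟩ := χ.2
    refine Odd.of_dvd_nat hodd ?_
    have e := ρ.char_one
    rw [he, hdeq] at e
    exact (Nat.cast_inj.mp e) ▸ finrank_dvd_card ρ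
  have h8 : ∀ m : ℕ, Odd m → ((m * m : ℕ) : ZMod 16) - 1 + (((m * m : ℕ) : ZMod 16) - 1) = 0 := by
    have key : ∀ x : ZMod 16, ((2 * x + 1) * (2 * x + 1) - 1) + ((2 * x + 1) * (2 * x + 1) - 1) = 0 := by
      decide
    rintro m ⟨k, rfl⟩
    push_cast
    exact key k
  let τ : Cfsg.IrrCharacter G → Cfsg.IrrCharacter G :=
    fun χ => ⟨fun g => conj ((χ : G → ℂ) g), isIrrCharacter_conjChar χ.2⟩
  have hτd : ∀ χ, d (τ χ) = d χ := fun χ => by
    have e := hdeq (τ χ)
    rw [show (τ χ : G → ℂ) 1 = conj ((χ : G → ℂ) 1) from rfl, hdeq, Complex.conj_natCast] at e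
    exact_mod_cast e.symm
  have h0 : ∑ χ : Cfsg.IrrCharacter G, (((d χ * d χ : ℕ) : ZMod 16) - 1) = 0 :=
    Finset.sum_involution (fun χ _ => τ χ)
      (fun χ _ => by rw [hτd]; exact h8 _ (hdodd χ))
      (fun χ _ hne e => hne (by
        have h1 := Cfsg.Agent.S0161.result hodd χ fun g =>
          Complex.conj_eq_iff_im.mp (congrFun (congrArg Subtype.val e) g)
        have : d χ = 1 := by
          have := hdeq χ
          rw [congrFun h1 1] at this
          exact_mod_cast this.symm
        simp [this]))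
      (fun _ _ => Finset.mem_univ _)
      (fun χ _ => Subtype.ext (funext fun g => Complex.conj_conj _))
  rw [Finset.sum_sub_distrib, ← Nat.cast_sum, hsum, Finset.sum_const, nsmul_eq_mul, mul_one,
    sub_eq_zero, Finset.card_univ, ← Nat.card_eq_fintype_card, card_irr_eq_card_conjClasses] at h0
  exact (ZMod.natCast_eq_natCast_iff _ _ _).mp h0

end Cfsg.Agent.S0162
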