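import Cfsg.Statements.S0166
import Cfsg.Agent.Lib.CharTheory.Realizable
-- import your own Cfsg.Agent.* helpers here

set_option autoImplicit false
open Cfsg

namespace Cfsg.Agent.S0166

/-- Brauer's splitting field Theorem: a complex representation of a finite group of exponent m is equivalent to a representation by matrices with entries in ℚ adjoined exp(2πi/m). -/
theorem result {G : Type*} [Group G] [Finite G] (n : ℕ) (ρ : Representation ℂ G (Fin n → ℂ)) : ∃ σ : Representation ℂ G (Fin n → ℂ), Nonempty (ρ.Equiv σ) ∧ ∀ g : G, ∀ i j : Fin n, LinearMap.toMatrix' (σ g) i j ∈ Algebra.adjoin ℚ ({Complex.exp (2 * Real.pi * Complex.I / (Monoid.exponent G : ℂ))} : Set ℂ) := by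
  classical
  haveI := Fintype.ofFinite G
  set ζ : ℂ := Complex.exp (2 * Real.pi * Complex.I / (Monoid.exponent G : ℂ)) with hζ
  have hN : Monoid.exponent G ≠ 0 := Monoid.exponent_ne_zero_of_finite
  have hprim : IsPrimitiveRoot ζ (Monoid.exponent G) := Complex.isPrimitiveRoot_exp _ hN
  haveI : NeZero (Monoid.exponent G) := ⟨hN⟩
  have hint : IsIntegral ℚ ζ := (hprim.isIntegral (Nat.pos_of_ne_zero hN)).tower_top
  let K : IntermediateField ℚ ℂ := IntermediateField.adjoin ℚ {ζ}
  let ι : K →+* ℂ := K.val.toRingHom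
  have hroots : ∀ (H : Subgroup G) (lam : H →* ℂˣ) (h : H), ∃ k : K, ι k = ((lam h : ℂˣ) : ℂ) := by
    intro H lam h
    have hpow : ((lam h : ℂˣ) : ℂ) ^ Monoid.exponent G = 1 := by
      have : h ^ Monoid.exponent G = 1 := Subtype.ext (by
        rw [Subgroup.coe_pow]; exact Monoid.pow_exponent_eq_one (h : G))
      rw [← Units.val_pow_eq_pow_val, ← map_pow, this, map_one, Units.val_one]
    obtain ⟨i, -, hi⟩ := hprim.eq_pow_of_pow_eq_one hpow
    exact ⟨⟨ζ ^ i, pow_mem (IntermediateField.mem_adjoin_simple_self ℚ ζ) i⟩, hi⟩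
  obtain ⟨m, σ, hσ⟩ := CfsgLib.CharTheory.Realizable.real_of_char ι hroots
    (CfsgLib.CharTheory.isCharacter_character ρ)
  have hmn : m = n := by
    have := congrFun hσ 1
    simp only [CfsgLib.CharTheory.Realizable.chC, Representation.char_one, map_natCast,
      Module.finrank_fintype_fun_eq_card, Fintype.card_fin] at this
    exact_mod_cast this
  subst hmn
  refine ⟨CfsgLib.CharTheory.Realizable.extC ι σ,
    CfsgLib.CharTheory.nonempty_equiv_of_character_eq ρ _
      (((CfsgLib.CharTheory.Realizable.extC_character ι σ).trans hσ).symm), fun g i j => ?_⟩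
  show LinearMap.toMatrix' (Matrix.toLin' _) i j ∈ _
  rw [LinearMap.toMatrix'_toLin', Matrix.map_apply,
    ← IntermediateField.adjoin_simple_toSubalgebra_of_isAlgebraic hint.isAlgebraic]
  exact (LinearMap.toMatrix' (σ g) i j).2

end Cfsg.Agent.S0166
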