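import Cfsg.Statements.S0167
import Cfsg.Agent.Lib.CharTheory
import Cfsg.Agent.Lib.CharTheory.Clifford
import Cfsg.Agent.Lib.CharTheory.Schur
-- import your own Cfsg.Agent.* helpers here

set_option autoImplicit false
open Cfsg

namespace Cfsg.Agent.S0167

open CfsgLib.CharTheory
open scoped ComplexConjugate

/-- An element g of a finite group is a commutator if and only if the sum over the irreducible characters χ of χ g / χ 1 is nonzero. -/
theorem result {G : Type*} [Group G] [Finite G] (g : G) : (∃ a b : G, g = a * b * a⁻¹ * b⁻¹) ↔ ∑ᶠ χ : Cfsg.IrrCharacter G, (χ : G → ℂ) g / (χ : G → ℂ) 1 ≠ 0 := by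
  classical
  have := Fintype.ofFinite G
  rw [finsum_eq_sum_of_fintype]
  have h := card_commutator_pairs g
  constructor
  · rintro ⟨a, b, rfl⟩ h0
    have : Nonempty {p : G × G // p.1 * p.2 * p.1⁻¹ * p.2⁻¹ = a * b * a⁻¹ * b⁻¹} := ⟨⟨(a, b), rfl⟩⟩
    have h1 : (∑ χ : Cfsg.IrrCharacter G, conj ((χ : G → ℂ) (a * b * a⁻¹ * b⁻¹)) / (χ : G → ℂ) 1) = 0 := by
      have := congrArg (starRingEnd ℂ) h0
      rw [map_sum, map_zero] at this
      rw [← this]
      refine Finset.sum_congr rfl fun χ _ => ?_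
      obtain ⟨d, -, hd⟩ := irr_degree_pos χ.2
      rw [map_div₀, hd, Complex.conj_natCast]
    rw [h1, mul_zero, Nat.cast_eq_zero] at h
    exact (Nat.card_pos (α := {p : G × G // p.1 * p.2 * p.1⁻¹ * p.2⁻¹ = a * b * a⁻¹ * b⁻¹})).ne' h
  · intro hne
    by_contra hno
    push Not at hno
    have : IsEmpty {p : G × G // p.1 * p.2 * p.1⁻¹ * p.2⁻¹ = g} := ⟨fun p => hno p.1.1 p.1.2 p.2.symm⟩
    rw [Nat.card_of_isEmpty, Nat.cast_zero, eq_comm, mul_eq_zero] at h
    refine hne ((starRingEnd ℂ).injective ?_)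
    rw [map_sum, map_zero, ← h.resolve_left (Nat.cast_ne_zero.mpr Nat.card_pos.ne')]
    refine Finset.sum_congr rfl fun χ _ => ?_
    obtain ⟨d, -, hd⟩ := irr_degree_pos χ.2
    rw [map_div₀, hd, Complex.conj_natCast]

end Cfsg.Agent.S0167
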