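import Cfsg.Statements.S0168
import Cfsg.Agent.Lib.CharTheory
import Cfsg.Agent.Lib.CharTheory.Clifford
-- import your own Cfsg.Agent.* helpers here

set_option autoImplicit false
open Cfsg

namespace Cfsg.Agent.S0168

open CfsgLib.CharTheory
open scoped ComplexConjugate

/-- The Burnside–Brauer Theorem. Let χ be the character of a faithful complex representation of a finite group, taking m distinct values. Then every irreducible character has nonzero inner product with χ ^ i for some i < m. -/
theorem result {G : Type*} [Group G] [Fintype G] {V : Type*} [AddCommGroup V] [Module ℂ V] [FiniteDimensional ℂ V] (ρ : Representation ℂ G V) (hfaithful : Function.Injective ρ) (ψ : G → ℂ) (hψ : Cfsg.IsIrrCharacter G ψ) : ∃ i : ℕ, i < Nat.card (Set.range ρ.character) ∧ Cfsg.classInner (fun g => ρ.character g ^ i) ψ ≠ 0 := by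
  classical
  by_contra hno
  push Not at hno
  set χ := ρ.character
  let s : Finset ℂ := Finset.univ.image χ
  have hs : Nat.card (Set.range χ) = s.card := by
    rw [Nat.card_eq_card_toFinset]
    congr 1
    ext x; simp [s]
  have hmem : ∀ g, χ g ∈ s := fun g => Finset.mem_image_of_mem _ (Finset.mem_univ g)
  let P : Polynomial ℂ := ∏ x ∈ s.erase (χ 1), (Polynomial.X - Polynomial.C x)
  have hPdeg : P.natDegree < s.card := by
    rw [Polynomial.natDegree_finset_prod_X_sub_C_eq_card]
    exact Finset.card_erase_lt_of_mem (hmem 1)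
  have hzero : ∀ g, g ≠ 1 → P.eval (χ g) = 0 := by
    intro g hg
    rw [Polynomial.eval_prod]
    refine Finset.prod_eq_zero (i := χ g) (Finset.mem_erase.mpr ⟨fun e => hg (hfaithful ?_), hmem g⟩) (by simp)
    rw [rep_apply_eq_one_of_char_eq ρ e, map_one]
  have hone : P.eval (χ 1) ≠ 0 := by
    rw [Polynomial.eval_prod, Finset.prod_ne_zero_iff]
    intro x hx
    simpa [sub_eq_zero] using (Finset.mem_erase.mp hx).1.symm
  have h0 : Cfsg.classInner (fun g => P.eval (χ g)) ψ = 0 := by
    simp only [Polynomial.eval_eq_sum_range]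
    rw [show (fun g => ∑ i ∈ Finset.range (P.natDegree + 1), P.coeff i * χ g ^ i) =
      ∑ i ∈ Finset.range (P.natDegree + 1), P.coeff i • (fun g => χ g ^ i) from
      funext fun g => by simp, classInner_sum_left]
    refine Finset.sum_eq_zero fun i hi => ?_
    rw [classInner_smul_left, hno i (by rw [hs]; have := Finset.mem_range.mp hi; omega), mul_zero]
  simp only [Cfsg.classInner] at h0
  rw [Finset.sum_eq_single (1 : G) (fun g _ hg => by rw [hzero g hg, zero_mul])
    (fun h => absurd (Finset.mem_univ _) h)] at h0
  obtain ⟨d, hd, hd1⟩ := irr_degree_pos hψ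
  rw [hd1, Complex.conj_natCast] at h0
  simp only [mul_eq_zero, inv_eq_zero, Nat.cast_eq_zero, Nat.card_pos.ne', hd.ne', hone, or_self] at h0

end Cfsg.Agent.S0168
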