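import Cfsg.Statements.S0170
import Cfsg.Agent.Lib.CharTheory
import Cfsg.Agent.Lib.CharTheory.TI
-- import your own Cfsg.Agent.* helpers here

set_option autoImplicit false
open Cfsg

namespace Cfsg.Agent.S0170

open CfsgLib.CharTheory

/-- Exceptional characters. Let S be a subset of a finite group contained in its normalizer N and meeting its conjugates by elements outside N only in the identity. Given n ≥ 2 distinct irreducible characters of N of equal degree that vanish on N away from S, there exist a sign ε and n distinct irreducible characters θ_i of G such that inducing χ_i − χ_j to G gives ε (θ_i − θ_j) for all i, j. -/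
theorem result {G : Type*} [Group G] [Fintype G] (S : Set G) (hSN : S ⊆ Subgroup.normalizer S) (hTI : ∀ g : G, g ∉ Subgroup.normalizer S → ∀ s ∈ S, g * s * g⁻¹ ∈ S → s = 1) (n : ℕ) (hn : 2 ≤ n) (χ : Fin n → (Subgroup.normalizer S → ℂ)) (hirr : ∀ i, Cfsg.IsIrrCharacter (Subgroup.normalizer S) (χ i)) (hinj : Function.Injective χ) (hvan : ∀ i, ∀ x : Subgroup.normalizer S, (x : G) ∉ S → χ i x = 0) (hdeg : ∀ i j, χ i 1 = χ j 1) : ∃ ε : ℂ, (ε = 1 ∨ ε = -1) ∧ ∃ θ : Fin n → (G → ℂ), (∀ i, Cfsg.IsIrrCharacter G (θ i)) ∧ Function.Injective θ ∧ ∀ i j, Cfsg.indFun (Subgroup.normalizer S) (χ i) - Cfsg.indFun (Subgroup.normalizer S) (χ j) = ε • (θ i - θ j) := by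
  classical
  have := Fintype.ofFinite (Subgroup.normalizer S)
  let i₀ : Fin n := ⟨0, by omega⟩
  have hcf : ∀ i, Cfsg.IsClassFunction (Subgroup.normalizer S) (χ i - χ i₀) := fun i =>
    isClassFunction_sub (isClassFunction_irr (hirr i)) (isClassFunction_irr (hirr i₀))
  have hsupp : ∀ i, ∀ x : (Subgroup.normalizer S), (x : G) ∉ S → (χ i - χ i₀) x = 0 := fun i x hx => by
    simp [hvan i x hx, hvan i₀ x hx]
  obtain ⟨ε, hε, μ, hμ, hinjμ, hτ⟩ := exists_coherent_family i₀
    (fun i => Cfsg.indFun (Subgroup.normalizer S) (χ i) - Cfsg.indFun (Subgroup.normalizer S) (χ i₀)) (sub_self _)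
    (fun i => isGenChar_sub
      (isGenChar_of_char (isCharacter_indFun (Subgroup.normalizer S) (isCharacter_of_irr (hirr i))))
      (isGenChar_of_char (isCharacter_indFun (Subgroup.normalizer S) (isCharacter_of_irr (hirr i₀)))))
    (fun i => by
      simp only [Pi.sub_apply, indFun_apply_one, hdeg i i₀, sub_self])
    (fun i j hi hj => by
      rw [← indFun_sub, ← indFun_sub, classInner_indFun_of_TI (Subgroup.normalizer S) S hTI (hcf j) (hsupp i) (hsupp j)
        (sub_eq_zero.mpr (hdeg j i₀))]
      simp only [classInner_sub_left, classInner_sub_right, classInner_irr (hirr i) (hirr j),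
        classInner_irr (hirr i) (hirr i₀), classInner_irr (hirr i₀) (hirr j),
        classInner_irr_self (hirr i₀), hinj.eq_iff, hi, Ne.symm hj, if_false]
      split <;> norm_num)
  refine ⟨ε, hε, μ, hμ, hinjμ, fun i j => ?_⟩
  calc Cfsg.indFun (Subgroup.normalizer S) (χ i) - Cfsg.indFun (Subgroup.normalizer S) (χ j)
      = (Cfsg.indFun (Subgroup.normalizer S) (χ i) - Cfsg.indFun (Subgroup.normalizer S) (χ i₀)) - (Cfsg.indFun (Subgroup.normalizer S) (χ j) - Cfsg.indFun (Subgroup.normalizer S) (χ i₀)) :=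
        (sub_sub_sub_cancel_right _ _ _).symm
    _ = ε • (μ i - μ j) := by rw [hτ i, hτ j, ← smul_sub, sub_sub_sub_cancel_right]

end Cfsg.Agent.S0170
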