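import Cfsg.Statements.S0171
import Cfsg.Agent.Lib.CharTheory
import Cfsg.Agent.Lib.CharTheory.Clifford
-- import your own Cfsg.Agent.* helpers here

set_option autoImplicit false
open Cfsg

namespace Cfsg.Agent.S0171

open CfsgLib.CharTheory

/-- Let G = K H with K normal, K ⊓ H trivial, and no non-identity element of H commuting with a non-identity element of K (a Frobenius group with kernel K and complement H). Then every non-principal irreducible character of K induces to an irreducible character of G. -/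
theorem result {G : Type*} [Group G] [Fintype G] (K H : Subgroup G) [K.Normal] (hKH : K ⊓ H = ⊥) (hKH' : K ⊔ H = ⊤) (hfpf : ∀ h ∈ H, h ≠ 1 → ∀ k ∈ K, h * k = k * h → k = 1) (τ : K → ℂ) (hτ : Cfsg.IsIrrCharacter K τ) (hτ1 : τ ≠ fun _ => 1) : Cfsg.IsIrrCharacter G (Cfsg.indFun K τ) := by
  have := Fintype.ofFinite K
  refine isIrrCharacter_indFun_of_inertia_eq K hτ (inertia_eq_of_centralizer_le K ?_ hτ hτ1)
  intro k hk hk1 g hg
  obtain ⟨a, ha, b, hb, rfl⟩ := Subgroup.mem_sup_of_normal_left.mp (hKH' ▸ Subgroup.mem_top g)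
  by_contra hgK
  have hb1 : b ≠ 1 := by rintro rfl; exact hgK (by simpa using ha)
  -- every element of the coset `K b` is a `K`-conjugate of `b`
  have hinj : Function.Injective
      (fun y : K => (⟨(y : G) * b * (y : G)⁻¹ * b⁻¹, by
        have := Subgroup.Normal.conj_mem ‹K.Normal› (y : G)⁻¹ (inv_mem y.2) b
        simpa [mul_assoc] using mul_mem y.2 this⟩ : K)) := by
    intro y z hyz
    have h := mul_right_cancel (congrArg Subtype.val hyz)
    have h2 := hfpf b hb hb1 ((z : G)⁻¹ * y) (mul_mem (inv_mem z.2) y.2) (by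
      calc b * ((z : G)⁻¹ * y) = (z : G)⁻¹ * ((z : G) * b * (z : G)⁻¹) * y := by group
        _ = (z : G)⁻¹ * ((y : G) * b * (y : G)⁻¹) * y := by rw [h]
        _ = _ := by group)
    exact Subtype.ext (inv_mul_eq_one.mp h2).symm
  obtain ⟨z, hz⟩ := (Finite.injective_iff_surjective.mp hinj) ⟨a, ha⟩
  have hz' : (z : G) * b * (z : G)⁻¹ = a * b := mul_inv_eq_iff_eq_mul.mp (congrArg Subtype.val hz)
  rw [Subgroup.mem_centralizer_singleton_iff, ← hz'] at hg
  have h2 := hfpf b hb hb1 ((z : G)⁻¹ * k * z)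
    (mul_mem (mul_mem (inv_mem z.2) hk) z.2) (by
    calc b * ((z : G)⁻¹ * k * z) = (z : G)⁻¹ * ((z : G) * b * (z : G)⁻¹ * k) * z := by group
      _ = (z : G)⁻¹ * (k * ((z : G) * b * (z : G)⁻¹)) * z := by rw [hg]
      _ = _ := by group)
  exact hk1 (by rwa [mul_assoc, inv_mul_eq_one, eq_comm, mul_eq_right] at h2)

end Cfsg.Agent.S0171
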