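import Cfsg.Statements.S0172
import Cfsg.Agent.Lib.CharTheory
import Cfsg.Agent.Lib.CharTheory.Clifford
-- import your own Cfsg.Agent.* helpers here

set_option autoImplicit false
open Cfsg

namespace Cfsg.Agent.S0172

open CfsgLib.CharTheory
open scoped ComplexConjugate

/-- Class number of a Frobenius group: if G = K H with K normal, K ⊓ H trivial and no non-identity element of H commuting with a non-identity element of K, then |H| * k(G) + 1 = |H| * k(H) + k(K), where k denotes the number of conjugacy classes. -/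
theorem result {G : Type*} [Group G] [Finite G] (K H : Subgroup G) [K.Normal] (hKH : K ⊓ H = ⊥) (hKH' : K ⊔ H = ⊤) (hfpf : ∀ h ∈ H, h ≠ 1 → ∀ k ∈ K, h * k = k * h → k = 1) : Nat.card H * Nat.card (ConjClasses G) + 1 = Nat.card H * Nat.card (ConjClasses H) + Nat.card (ConjClasses K) := by
  classical
  have := Fintype.ofFinite G
  have := Fintype.ofFinite K
  have := Fintype.ofFinite H
  -- the centralizers of non-identity elements of `K` lie in `K`
  have hC : ∀ k ∈ K, k ≠ 1 → Subgroup.centralizer ({k} : Set G) ≤ K := by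
    intro k hk hk1 g hg
    obtain ⟨a, ha, b, hb, rfl⟩ := Subgroup.mem_sup_of_normal_left.mp (hKH' ▸ Subgroup.mem_top g)
    by_contra hgK
    have hb1 : b ≠ 1 := by rintro rfl; exact hgK (by simpa using ha)
    have hinj : Function.Injective
        (fun y : K => (⟨(y : G) * b * (y : G)⁻¹ * b⁻¹, by
          have := Subgroup.Normal.conj_mem ‹K.Normal› (y : G)⁻¹ (inv_mem y.2) b
          simpa [mul_assoc] using mul_mem y.2 this⟩ : K)) := by
      intro y z hyz
      have h := mul_right_cancel (congrArg Subtype.val hyz)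
      have h2 := hfpf b hb hb1 ((z : G)⁻¹ * y) (mul_mem (inv_mem z.2) y.2) (by
        calc b * ((z : G)⁻¹ * y) = (z : G)⁻¹ * ((z : G) * b * (z : G)⁻¹) * y := by group
          _ = (z : G)⁻¹ * ((y : G) * b * (y : G)⁻¹) * y := by rw [h]
          _ = _ := by group)
      exact Subtype.ext (inv_mul_eq_one.mp h2).symm
    obtain ⟨z, hz⟩ := (Finite.injective_iff_surjective.mp hinj) ⟨a, ha⟩
    have hz' : (z : G) * b * (z : G)⁻¹ = a * b := mul_inv_eq_iff_eq_mul.mp (congrArg Subtype.val hz)
    rw [Subgroup.mem_centralizer_singleton_iff, ← hz'] at hg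
    have h2 := hfpf b hb hb1 ((z : G)⁻¹ * k * z)
      (mul_mem (mul_mem (inv_mem z.2) hk) z.2) (by
      calc b * ((z : G)⁻¹ * k * z) = (z : G)⁻¹ * ((z : G) * b * (z : G)⁻¹ * k) * z := by group
        _ = (z : G)⁻¹ * (k * ((z : G) * b * (z : G)⁻¹)) * z := by rw [hg]
        _ = _ := by group)
    exact hk1 (by rwa [mul_assoc, inv_mul_eq_one, eq_comm, mul_eq_right] at h2)
  -- `H` maps isomorphically onto `G / K`
  let f : H →* G ⧸ K := (QuotientGroup.mk' K).comp H.subtype
  have hfbij : Function.Bijective f := by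
    refine ⟨(injective_iff_map_eq_one f).mpr fun x hx => ?_, fun q => ?_⟩
    · have : (x : G) ∈ K ⊓ H := ⟨(QuotientGroup.eq_one_iff _).mp hx, x.2⟩
      rw [hKH, Subgroup.mem_bot] at this
      exact Subtype.ext this
    · obtain ⟨g, rfl⟩ := QuotientGroup.mk_surjective q
      obtain ⟨a, ha, b, hb, rfl⟩ := Subgroup.mem_sup_of_normal_left.mp (hKH' ▸ Subgroup.mem_top g)
      refine ⟨⟨b, hb⟩, ?_⟩
      show (b : G ⧸ K) = _
      rw [QuotientGroup.mk_mul, (QuotientGroup.eq_one_iff a).mpr ha, one_mul]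
  let e : H ≃* G ⧸ K := MulEquiv.ofBijective f hfbij
  have hindex : K.index = Nat.card H := (Nat.card_congr e.toEquiv).symm
  have hkH : Nat.card (ConjClasses H) = Nat.card (ConjClasses (G ⧸ K)) :=
    Nat.card_congr
      { toFun := ConjClasses.map e.toMonoidHom
        invFun := ConjClasses.map e.symm.toMonoidHom
        left_inv := fun C => by
          obtain ⟨g, rfl⟩ := ConjClasses.mk_surjective C
          exact congrArg ConjClasses.mk (e.symm_apply_apply g)
        right_inv := fun C => by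
          obtain ⟨g, rfl⟩ := ConjClasses.mk_surjective C
          exact congrArg ConjClasses.mk (e.apply_symm_apply g) }
  let P : Cfsg.IrrCharacter G → Prop := fun χ => ∀ n ∈ K, (χ : G → ℂ) n = (χ : G → ℂ) 1
  have hin : Nat.card {χ // P χ} = Nat.card (ConjClasses H) := by
    rw [hkH, ← card_irr_eq_card_conjClasses]
    exact (Nat.card_congr (quotientIrrEquiv K)).symm
  let Θ := {θ : Cfsg.IrrCharacter K // (θ : K → ℂ) ≠ fun _ => 1}
  have hin1 : ∀ θ : Θ, inertia K (θ.1 : K → ℂ) = K := fun θ => inertia_eq_of_centralizer_le K hC θ.1.2 θ.2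
  have hI : ∀ θ : Θ, Cfsg.IsIrrCharacter G (Cfsg.indFun K (θ.1 : K → ℂ)) := fun θ =>
    isIrrCharacter_indFun_of_inertia_eq K θ.1.2 (hin1 θ)
  have hΘ : Nat.card (ConjClasses K) = Nat.card Θ + 1 := by
    rw [← card_irr_eq_card_conjClasses]
    have hone : Nat.card {θ : Cfsg.IrrCharacter K // ¬ (θ : K → ℂ) ≠ fun _ => 1} = 1 :=
      Nat.card_eq_one_iff_unique.mpr
        ⟨⟨fun a b => Subtype.ext (Subtype.ext ((not_not.mp a.2).trans (not_not.mp b.2).symm))⟩,
          ⟨⟨⟨fun _ => 1, isIrrCharacter_one⟩, fun h => h rfl⟩⟩⟩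
    rw [← hone]
    exact ((Nat.card_congr (Equiv.sumCompl _)).symm.trans Nat.card_sum)
  have hout : Nat.card Θ = Nat.card H * Nat.card {χ // ¬ P χ} := by
    let F : Θ → {χ // ¬ P χ} := fun θ => ⟨⟨_, hI θ⟩, fun hP => by
      -- otherwise the restriction would be a multiple of the principal character
      have hres : (fun n : K => Cfsg.indFun K (θ.1 : K → ℂ) n) =
          (Cfsg.indFun K (θ.1 : K → ℂ) 1) • fun _ => (1 : ℂ) := by
        funext n
        simp only [Pi.smul_apply, smul_eq_mul, mul_one]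
        exact hP n n.2
      have h1 := frobenius_reciprocity' K (θ.1 : K → ℂ) (isClassFunction_irr (hI θ))
      rw [classInner_irr_self (hI θ), hres, classInner_smul_left,
        classInner_irr_ne isIrrCharacter_one θ.1.2 (Ne.symm θ.2), mul_zero] at h1
      exact one_ne_zero h1⟩
    rw [Nat.card_congr (Equiv.sigmaFiberEquiv F).symm]
    have hfib : ∀ χ, Nat.card {θ : Θ // F θ = χ} = Nat.card H := by
      rintro ⟨⟨χ, hχ⟩, hP⟩
      obtain ⟨n, hn, hne⟩ : ∃ n ∈ K, χ n ≠ χ 1 := by
        by_contra hno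
        push Not at hno
        exact hP hno
      -- a non-principal constituent
      obtain ⟨φ, hφ, hc, hφ1⟩ : ∃ φ, Cfsg.IsIrrCharacter K φ ∧
          Cfsg.classInner (fun x : K => χ x) φ ≠ 0 ∧ φ ≠ fun _ => 1 := by
        by_contra hno
        push Not at hno
        obtain ⟨φ, hφ, hc⟩ := exists_constituent (isCharacter_restrict (isCharacter_of_irr hχ) K)
          (fun e => irr_ne_zero hχ (congrFun e 1))
        have h1 := hno φ hφ hc
        have h2 := clifford_invariant K hχ hφ hc fun g => by rw [h1]; rfl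
        have e1 := congrFun h2 ⟨n, hn⟩
        have e2 := congrFun h2 1
        simp only [h1, Pi.smul_apply] at e1 e2
        exact hne (e1.trans e2.symm)
      have hind : χ = Cfsg.indFun K φ := by
        by_contra hne'
        refine hc ?_
        rw [← frobenius_reciprocity' K φ (isClassFunction_irr hχ)]
        exact classInner_irr_ne hχ (hI ⟨⟨φ, hφ⟩, hφ1⟩) hne'
      rw [← hindex, ← show (inertia K φ).index = K.index from by rw [hin1 ⟨⟨φ, hφ⟩, hφ1⟩],
        ← card_conjOrbit, ← Fintype.card_coe, ← Nat.card_eq_fintype_card]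
      refine Nat.card_congr
        { toFun := fun θ => ⟨(θ.1.1 : K → ℂ), (mem_conjOrbit K).mpr ?_⟩
          invFun := fun ψ => ⟨⟨⟨(ψ : K → ℂ), ?_⟩, ?_⟩, ?_⟩
          left_inv := fun θ => rfl
          right_inv := fun ψ => rfl }
      · refine exists_conj_of_constituents K hχ hφ θ.1.1.2 hc ?_
        have he : χ = Cfsg.indFun K (θ.1.1 : K → ℂ) :=
          (congrArg (fun z : {χ // ¬ P χ} => (z.1 : G → ℂ)) θ.2).symm
        rw [← frobenius_reciprocity' K _ (isClassFunction_irr hχ), ← he, classInner_irr_self hχ]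
        exact one_ne_zero
      · obtain ⟨g, hg⟩ := (mem_conjOrbit K).mp ψ.2
        exact hg ▸ isIrr_conjNormFun K g hφ
      · obtain ⟨g, hg⟩ := (mem_conjOrbit K).mp ψ.2
        intro h
        refine hφ1 ?_
        rw [← conjNormFun_inv K g φ, hg, show (ψ : K → ℂ) = fun _ => 1 from h]
        rfl
      · obtain ⟨g, hg⟩ := (mem_conjOrbit K).mp ψ.2
        refine Subtype.ext (Subtype.ext ?_)
        show Cfsg.indFun K (ψ : K → ℂ) = χ
        rw [← hg, indFun_conjNormFun, hind]
    rw [Nat.card_sigma, Finset.sum_congr rfl fun χ _ => hfib χ, Finset.sum_const, Finset.card_univ,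
      smul_eq_mul, ← Nat.card_eq_fintype_card, mul_comm]
  have hkG : Nat.card (ConjClasses G) = Nat.card {χ // P χ} + Nat.card {χ // ¬ P χ} := by
    rw [← card_irr_eq_card_conjClasses]
    exact ((Nat.card_congr (Equiv.sumCompl P)).symm.trans Nat.card_sum)
  rw [hkG, hin, hΘ, hout]
  ring

end Cfsg.Agent.S0172
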