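import Cfsg.Statements.S0180
import Cfsg.Agent.Lib.CharTheory.Galois
-- import your own Cfsg.Agent.* helpers here

set_option autoImplicit false
open Cfsg

namespace Cfsg.Agent.S0180

open CfsgLib.CharTheory

/-- Every irreducible complex character of a finite group takes only rational values if and only if g is conjugate to g ^ m for every element g and every m coprime to the group order. -/
theorem result {G : Type*} [Group G] [Finite G] : (∀ χ : Cfsg.IrrCharacter G, ∀ g : G, ∃ q : ℚ, (χ : G → ℂ) g = (q : ℂ)) ↔ ∀ m : ℕ, m.Coprime (Nat.card G) → ∀ g : G, IsConj g (g ^ m) := by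
  refine ⟨fun h m hm g => isConj_of_forall_irr fun χ => ?_, fun h χ g =>
    rational_of_pow_invariant (isCharacter_of_irr χ.2) g fun m hm =>
      (isClassFunction_iff_isConj.mp (isClassFunction_irr χ.2) _ _ (h m hm g)).symm⟩
  obtain ⟨q, hq⟩ := h χ g
  exact (pow_invariant_of_rational (isCharacter_of_irr χ.2) g hq hm).symm

end Cfsg.Agent.S0180
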