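import Cfsg.Statements.S0181
import Cfsg.Agent.Lib.CharTheory
import Cfsg.Agent.Lib.CharTheory.Clifford
-- import your own Cfsg.Agent.* helpers here

set_option autoImplicit false
open Cfsg

namespace Cfsg.Agent.S0181

open CfsgLib.CharTheory
open scoped ComplexConjugate

/-- Let H be a normal subgroup of a finite group G and ρ an irreducible complex representation whose kernel does not contain H. If g commutes with no non-identity element of H, then the character of ρ vanishes at g. -/
theorem result {G : Type*} [Group G] [Finite G] {V : Type*} [AddCommGroup V] [Module ℂ V] [FiniteDimensional ℂ V] (ρ : Representation ℂ G V) [ρ.IsIrreducible] (H : Subgroup G) [H.Normal] (hker : ∃ h ∈ H, ρ h ≠ LinearMap.id) (g : G) (hg : ∀ h ∈ H, h * g = g * h → h = 1) : ρ.character g = 0 := by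
  classical
  have := Fintype.ofFinite G
  have := Fintype.ofFinite (G ⧸ H)
  have hχ := isIrrCharacter_character ρ
  let f : Cfsg.IrrCharacter G → ℝ := fun χ => Complex.normSq ((χ : G → ℂ) g)
  have hG : ∑ χ : Cfsg.IrrCharacter G, f χ = (Nat.card (Subgroup.centralizer ({g} : Set G)) : ℝ) := by
    have h := sum_irr_mul_conj g g
    rw [if_pos (IsConj.refl g)] at h
    simp only [Complex.mul_conj] at h
    exact_mod_cast h
  have hQ : ∑ χ ∈ Finset.univ.filter (fun χ : Cfsg.IrrCharacter G =>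
      ∀ n ∈ H, (χ : G → ℂ) n = (χ : G → ℂ) 1), f χ =
      (Nat.card (Subgroup.centralizer ({(g : G ⧸ H)} : Set (G ⧸ H))) : ℝ) := by
    rw [← Finset.sum_subtype_eq_sum_filter, Finset.subtype_univ, ← Equiv.sum_comp (quotientIrrEquiv H)]
    have h := sum_irr_mul_conj (g : G ⧸ H) (g : G ⧸ H)
    rw [if_pos (IsConj.refl _)] at h
    simp only [Complex.mul_conj] at h
    exact_mod_cast h
  have hle : Nat.card (Subgroup.centralizer ({g} : Set G)) ≤
      Nat.card (Subgroup.centralizer ({(g : G ⧸ H)} : Set (G ⧸ H))) := by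
    refine Nat.card_le_card_of_injective (fun x => ⟨((x : G) : G ⧸ H), ?_⟩) fun x y h => ?_
    · have := Subgroup.mem_centralizer_singleton_iff.mp x.2
      rw [Subgroup.mem_centralizer_singleton_iff, ← QuotientGroup.mk_mul, ← QuotientGroup.mk_mul, this]
    · have hxy : (x : G)⁻¹ * y ∈ H := QuotientGroup.eq.mp (congrArg Subtype.val h)
      have hcomm : ((x : G)⁻¹ * y) * g = g * ((x : G)⁻¹ * y) :=
        Subgroup.mem_centralizer_singleton_iff.mp (mul_mem (inv_mem x.2) y.2)
      exact Subtype.ext (inv_mul_eq_one.mp (hg _ hxy hcomm))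
  rw [← Finset.sum_filter_add_sum_filter_not Finset.univ
    (fun χ : Cfsg.IrrCharacter G => ∀ n ∈ H, (χ : G → ℂ) n = (χ : G → ℂ) 1), hQ] at hG
  have hle' : (Nat.card (Subgroup.centralizer ({g} : Set G)) : ℝ) ≤
      (Nat.card (Subgroup.centralizer ({(g : G ⧸ H)} : Set (G ⧸ H))) : ℝ) := by exact_mod_cast hle
  have hnn : ∀ χ ∈ Finset.univ.filter (fun χ : Cfsg.IrrCharacter G =>
      ¬ ∀ n ∈ H, (χ : G → ℂ) n = (χ : G → ℂ) 1), 0 ≤ f χ := fun χ _ => Complex.normSq_nonneg _
  have hrest := (Finset.sum_eq_zero_iff_of_nonneg hnn).mp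
    (le_antisymm (by linarith) (Finset.sum_nonneg hnn))
  obtain ⟨h₀, hh₀, hne⟩ := hker
  exact Complex.normSq_eq_zero.mp (hrest ⟨_, hχ⟩ (Finset.mem_filter.mpr ⟨Finset.mem_univ _, fun hall =>
    hne (rep_apply_eq_one_of_char_eq ρ (hall h₀ hh₀))⟩))

end Cfsg.Agent.S0181
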