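import Cfsg.Statements.S0184
import Cfsg.Agent.Lib.CharTheory.Degree
import Cfsg.Agent.Lib.Elementary
-- import your own Cfsg.Agent.* helpers here

set_option autoImplicit false
open Cfsg

namespace Cfsg.Agent.S0184

open CfsgLib.CharTheory

/-- A finite p-group admits a faithful irreducible complex representation if and only if its centre is cyclic. -/
theorem result {G : Type*} [Group G] [Finite G] (p : ℕ) [Fact p.Prime] (hG : IsPGroup p G) : (∃ (n : ℕ) (ρ : Representation ℂ G (Fin n → ℂ)), ρ.IsIrreducible ∧ Function.Injective ρ) ↔ IsCyclic (Subgroup.center G) := by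
  classical
  have := Fintype.ofFinite G
  constructor
  · rintro ⟨n, ρ, hρ, hinj⟩
    choose ω hω using fun z : Subgroup.center G => exists_scalar_of_mem_center ρ z.2
    have : Nontrivial (Fin n → ℂ) := Module.finrank_pos_iff.mp (Nat.pos_of_ne_zero fun e => by
      have := irr_ne_zero (isIrrCharacter_character ρ)
      rw [ρ.char_one, e, Nat.cast_zero] at this
      exact this rfl)
    obtain ⟨v, hv⟩ := exists_ne (0 : Fin n → ℂ)
    have huniq : ∀ c : ℂ, ∀ z : Subgroup.center G, ρ z = c • LinearMap.id → ω z = c := fun c z h => by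
      have := congrArg (fun f : (Fin n → ℂ) →ₗ[ℂ] (Fin n → ℂ) => f v) ((hω z).symm.trans h)
      exact smul_left_injective ℂ hv this
    let Ω : Subgroup.center G →* ℂ :=
      { toFun := ω
        map_one' := huniq 1 1 (by simp [Module.End.one_eq_id])
        map_mul' := fun y z => huniq _ _ (by
          rw [Subgroup.coe_mul, map_mul, hω, hω, ← Module.End.one_eq_id]
          simp [smul_smul, mul_comm]) }
    refine isCyclic_of_subgroup_isDomain Ω fun y z h => Subtype.ext (hinj ?_)
    rw [hω, hω, show ω y = ω z from h]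
  · intro hcyc
    rcases subsingleton_or_nontrivial G with hS | hS
    · obtain ⟨n, ρ, hρ, -⟩ := (isIrrCharacter_one : Cfsg.IsIrrCharacter G (fun _ => 1))
      exact ⟨n, ρ, hρ, fun a b _ => Subsingleton.elim a b⟩
  
    have := hG.isNilpotent
    have hZ : Nontrivial (Subgroup.center G) := hG.center_nontrivial
    obtain ⟨k, hk, hcard⟩ : ∃ k, 0 < k ∧ Nat.card (Subgroup.center G) = p ^ k :=
      IsPGroup.exists_card_eq (hG.to_subgroup _) |>.elim fun k hk => ⟨k, Nat.pos_of_ne_zero fun e => by
        rw [e, pow_zero] at hk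
        exact (Finite.one_lt_card (α := Subgroup.center G)).ne' hk, hk⟩
    obtain ⟨z, hz⟩ := exists_prime_orderOf_dvd_card' (G := Subgroup.center G) p
      (hcard ▸ dvd_pow_self p hk.ne')
    have hz1 : (z : G) ≠ 1 := by
      intro e
      have hz0 : z = 1 := Subtype.ext e
      rw [hz0, orderOf_one] at hz
      exact (Fact.out : p.Prime).one_lt.ne hz
    obtain ⟨χ, hχ⟩ : ∃ χ : Cfsg.IrrCharacter G, (χ : G → ℂ) z ≠ (χ : G → ℂ) 1 := by
      by_contra hno
      push Not at hno
      exact hz1 (isConj_one_right.mp (isConj_of_forall_irr hno).symm)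
    have hc := isCharacter_of_irr χ.2
    have hK : charKernel (χ : G → ℂ) hc = ⊥ := by
      by_contra hne
      obtain ⟨w, hw, hw1⟩ := (Subgroup.bot_or_exists_ne_one _).resolve_left
        (CfsgLib.inf_center_ne_bot_of_nilpotent (N := charKernel (χ : G → ℂ) hc) hne)
      let W : Subgroup (Subgroup.center G) := (charKernel (χ : G → ℂ) hc).subgroupOf (Subgroup.center G)
      have hW : Nontrivial W := ⟨⟨⟨⟨w, hw.2⟩, Subgroup.mem_subgroupOf.mpr hw.1⟩, 1, fun e =>
        hw1 (congrArg (fun t : W => ((t : Subgroup.center G) : G)) e)⟩⟩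
      obtain ⟨j, hj⟩ := ((hG.to_subgroup _).to_subgroup W).exists_card_eq
      have hj0 : j ≠ 0 := fun e => by
        rw [e, pow_zero] at hj
        exact (Finite.one_lt_card (α := W)).ne' hj
      obtain ⟨u, hu⟩ := exists_prime_orderOf_dvd_card' (G := W) p (hj ▸ dvd_pow_self p hj0)
      have hu' : orderOf (u : Subgroup.center G) = p := by rw [Subgroup.orderOf_coe, hu]
      have := Fintype.ofFinite (Subgroup.center G)
      have hTS : (Subgroup.zpowers (u : Subgroup.center G) : Set (Subgroup.center G)).toFinset ⊆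
          Finset.univ.filter fun x : Subgroup.center G => x ^ p = 1 := by
        intro x hx
        obtain ⟨i, rfl⟩ := Subgroup.mem_zpowers_iff.mp (Set.mem_toFinset.mp hx)
        exact Finset.mem_filter.mpr ⟨Finset.mem_univ _, by
          rw [← zpow_natCast, ← zpow_mul, mul_comm, zpow_mul, zpow_natCast, ← hu', pow_orderOf_eq_one, one_zpow]⟩
      have hTc : (Subgroup.zpowers (u : Subgroup.center G) : Set (Subgroup.center G)).toFinset.card = p := by
        rw [Set.toFinset_card, ← Nat.card_eq_fintype_card]
        exact (Nat.card_zpowers (u : Subgroup.center G)).trans hu'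
      have hEq := Finset.eq_of_subset_of_card_le hTS
        (hTc.symm ▸ IsCyclic.card_pow_eq_one_le (Fact.out : p.Prime).pos)
      have hzmem : z ∈ Subgroup.zpowers (u : Subgroup.center G) := Set.mem_toFinset.mp
        (hEq.symm ▸ Finset.mem_filter.mpr ⟨Finset.mem_univ _, by rw [← hz, pow_orderOf_eq_one]⟩)
      have : z ∈ W := Subgroup.zpowers_le.mpr u.2 hzmem
      exact hχ ((mem_charKernel hc _).mp (Subgroup.mem_subgroupOf.mp this))
    obtain ⟨n, ρ, hρ, hρe⟩ := χ.2
    refine ⟨n, ρ, hρ, fun a b hab => ?_⟩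
    have hmem : a⁻¹ * b ∈ charKernel (χ : G → ℂ) hc := by
      rw [mem_charKernel, ← hρe]
      have : ρ (a⁻¹ * b) = 1 := by rw [map_mul, ← hab, ← map_mul, inv_mul_cancel, map_one]
      rw [ρ.char_one, Representation.character, this, LinearMap.trace_one]
    rw [hK, Subgroup.mem_bot, inv_mul_eq_one] at hmem
    exact hmem

end Cfsg.Agent.S0184
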