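import Cfsg.Statements.S0185
import Cfsg.Agent.Lib.CharTheory.Clifford
-- import your own Cfsg.Agent.* helpers here

set_option autoImplicit false
open Cfsg

namespace Cfsg.Agent.S0185

open CfsgLib.CharTheory

/-- If a finite group has a faithful complex representation of degree less than the smallest prime dividing its order, the group is abelian. -/
theorem result {G : Type*} [Group G] [Finite G] {V : Type*} [AddCommGroup V] [Module ℂ V] [FiniteDimensional ℂ V] (ρ : Representation ℂ G V) (hfaithful : Function.Injective ρ) (hdeg : ∀ p : ℕ, p.Prime → p ∣ Nat.card G → Module.finrank ℂ V < p) (a b : G) : a * b = b * a := by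
  classical
  have := Fintype.ofFinite G
  have hc := isCharacter_character ρ
  suffices h : ρ.character (a * b * a⁻¹ * b⁻¹) = ρ.character 1 by
    have h1 : a * b * a⁻¹ * b⁻¹ = 1 := hfaithful (by rw [rep_apply_eq_one_of_char_eq ρ h, map_one])
    rwa [mul_inv_eq_one, mul_inv_eq_iff_eq_mul] at h1
  rw [eq_sum_irr (isClassFunction_char hc)]
  simp only [Finset.sum_apply, Pi.smul_apply, smul_eq_mul]
  refine Finset.sum_congr rfl fun χ _ => ?_
  by_cases h0 : Cfsg.classInner ρ.character (χ : G → ℂ) = 0
  · simp [h0]
  obtain ⟨d, hd, hd1⟩ := irr_degree_pos χ.2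
  obtain ⟨n, σ, hσ, he⟩ := χ.2
  have hdvd : d ∣ Nat.card G := by
    have e : Module.finrank ℂ (Fin n → ℂ) = d := by
      have := σ.char_one
      rw [he, hd1] at this
      exact_mod_cast this.symm
    exact e ▸ finrank_dvd_card σ
  have hle : d ≤ Module.finrank ℂ V := by
    have := classInner_mono_degree hc (isCharacter_of_irr χ.2) (isCharacter_sub_irr hc χ.2 h0)
    rw [hd1, ρ.char_one, Complex.natCast_re, Complex.natCast_re, Nat.cast_le] at this
    exact this
  have hd2 : d = 1 := by
    by_contra hne
    obtain ⟨p, hp, hpd⟩ := Nat.exists_prime_and_dvd hne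
    have := hdeg p hp (hpd.trans hdvd)
    have := Nat.le_of_dvd hd hpd
    omega
  obtain ⟨φ, hφ⟩ := exists_hom_of_degree_one (isCharacter_of_irr χ.2) (by rw [hd1, hd2, Nat.cast_one])
  simp [congrFun hφ, mul_comm (φ a) (φ b)]

end Cfsg.Agent.S0185
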