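import Cfsg.Statements.S0186
import Cfsg.Agent.Lib.CharTheory
import Cfsg.Agent.Lib.CharTheory.Clifford
import Cfsg.Agent.Lib.CharTheory.Degree
-- import your own Cfsg.Agent.* helpers here

set_option autoImplicit false
open Cfsg

namespace Cfsg.Agent.S0186

open CfsgLib.CharTheory
open scoped ComplexConjugate

/-- Let G be a finite simple group of order n and p a prime dividing n. If G has more than n / p^2 conjugacy classes, then every Sylow p-subgroup of G is abelian. -/
theorem result {G : Type*} [Group G] [Finite G] [IsSimpleGroup G] (p : ℕ) [Fact p.Prime] (hp : p ∣ Nat.card G) (hmany : Nat.card G < p ^ 2 * Nat.card (ConjClasses G)) (P : Sylow p G) (a b : G) (ha : a ∈ P) (hb : b ∈ P) : a * b = b * a := by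
  classical
  have := Fintype.ofFinite G
  by_contra hab
  have hnab : ¬ ∀ x y : G, x * y = y * x := fun h => hab (h a b)
  have hpr := (Fact.out : p.Prime)
  obtain ⟨k, hk⟩ := P.2.exists_card_eq
  have hPcard : p ^ 3 ≤ Nat.card G := by
    have hk3 : 3 ≤ k := by
      by_contra hk3
      have hPc : ∀ x y : (P : Subgroup G), x * y = y * x := by
        rcases (show k ≤ 1 ∨ k = 2 by omega) with h | h
        · have : IsCyclic (P : Subgroup G) := by
            rcases Nat.le_one_iff_eq_zero_or_eq_one.mp h with rfl | rfl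
            · have : Subsingleton (P : Subgroup G) := (Nat.card_eq_one_iff_unique.mp (by simpa using hk)).1
              infer_instance
            · exact isCyclic_of_prime_card (by simpa using hk)
          exact (IsCyclic.commGroup (α := (P : Subgroup G))).mul_comm
        · exact IsPGroup.commutative_of_card_eq_prime_sq (p := p) (h ▸ hk)
      exact hab (congrArg Subtype.val (hPc ⟨a, ha⟩ ⟨b, hb⟩))
    calc p ^ 3 ≤ p ^ k := Nat.pow_le_pow_right hpr.pos hk3
      _ = Nat.card (P : Subgroup G) := hk.symm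
      _ ≤ Nat.card G := Subgroup.card_le_card_group _
  choose d hd hdeq using fun χ : Cfsg.IrrCharacter G => irr_degree_pos χ.2
  let e : Cfsg.IrrCharacter G := ⟨fun _ => 1, isIrrCharacter_one⟩
  have hsum : ∑ χ : Cfsg.IrrCharacter G, d χ * d χ = Nat.card G := by
    have h := sum_irr_apply_mul_degree (1 : G)
    rw [if_pos rfl] at h
    simp only [hdeq] at h
    exact_mod_cast h
  -- non-principal irreducible characters are faithful
  have hfaith : ∀ χ : Cfsg.IrrCharacter G, χ ≠ e → ∀ g : G, (χ : G → ℂ) g = (χ : G → ℂ) 1 → g = 1 := by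
    intro χ hχ g hg
    rcases Subgroup.Normal.eq_bot_or_eq_top (inferInstance : (charKernel (χ : G → ℂ) (isCharacter_of_irr χ.2)).Normal) with h | h
    · exact Subgroup.mem_bot.mp (h ▸ (mem_charKernel _ g).mpr hg)
    · exact absurd (Subtype.ext (irr_eq_one_of_kernel_top χ.2 fun x =>
        (mem_charKernel (isCharacter_of_irr χ.2) x).mp (h ▸ Subgroup.mem_top x))) hχ
  have hbig : ∀ χ : Cfsg.IrrCharacter G, χ ≠ e → p + 1 ≤ d χ := by
    intro χ hχ
    have := Fintype.ofFinite (P : Subgroup G)
    obtain ⟨n, ρ, hρ, he⟩ := χ.2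
    have hn : Module.finrank ℂ (Fin n → ℂ) = d χ := by
      have h1 := ρ.char_one
      rw [he, hdeq] at h1
      exact_mod_cast h1.symm
    by_contra hlt
    have hres := isCharacter_restrict (isCharacter_of_irr χ.2) (P : Subgroup G)
    -- a constituent of the restriction of degree at least `p`
    obtain ⟨φ, hφ, hφc, hφ1⟩ : ∃ φ, Cfsg.IsIrrCharacter (P : Subgroup G) φ ∧
        Cfsg.classInner (fun x : (P : Subgroup G) => (χ : G → ℂ) x) φ ≠ 0 ∧ φ 1 ≠ 1 := by
      by_contra hno
      push Not at hno
      let c : (P : Subgroup G) := ⟨a, ha⟩ * ⟨b, hb⟩ * (⟨a, ha⟩ : (P : Subgroup G))⁻¹ * (⟨b, hb⟩ : (P : Subgroup G))⁻¹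
      have hc : (fun x : (P : Subgroup G) => (χ : G → ℂ) x) c = (fun x : (P : Subgroup G) => (χ : G → ℂ) x) 1 := by
        rw [eq_sum_irr (isClassFunction_char hres)]
        simp only [Finset.sum_apply, Pi.smul_apply, smul_eq_mul]
        refine Finset.sum_congr rfl fun ψ _ => ?_
        by_cases h0 : Cfsg.classInner (fun x : (P : Subgroup G) => (χ : G → ℂ) x) (ψ : _ → ℂ) = 0
        · simp [h0]
        obtain ⟨f, hf⟩ := exists_hom_of_degree_one (isCharacter_of_irr ψ.2) (hno ψ ψ.2 h0)
        have hfc : f c = 1 := MonoidHom.mem_ker.mp (Abelianization.commutator_subset_ker f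
          (Subgroup.commutator_mem_commutator (Subgroup.mem_top (⟨a, ha⟩ : (P : Subgroup G))) (Subgroup.mem_top (⟨b, hb⟩ : (P : Subgroup G)))))
        rw [congrFun hf, congrFun hf, hfc, map_one]
      have h1 := hfaith χ hχ c hc
      have h2 : a * b * a⁻¹ * b⁻¹ = 1 := by simpa [c] using h1
      rw [mul_inv_eq_one, mul_inv_eq_iff_eq_mul] at h2
      exact hab h2
    obtain ⟨m, σ, hσ, hσe⟩ := id hφ
    obtain ⟨dφ, hdφ, hdφ1⟩ := irr_degree_pos hφ
    have hm : Module.finrank ℂ (Fin m → ℂ) = dφ := by
      have h1 := σ.char_one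
      rw [hσe, hdφ1] at h1
      exact_mod_cast h1.symm
    obtain ⟨j, -, hj⟩ := (Nat.dvd_prime_pow hpr).mp (hk ▸ (hm ▸ finrank_dvd_card σ) :
      dφ ∣ p ^ k)
    have hj0 : j ≠ 0 := fun h => hφ1 (by rw [hdφ1, hj, h, pow_zero, Nat.cast_one])
    have hpd : p ≤ dφ := hj ▸ Nat.le_self_pow hj0 p
    have hrest := isCharacter_sub_irr hres hφ hφc
    obtain ⟨r, hr⟩ := char_one_eq_natCast hrest
    have hdr : d χ = dφ + r := by
      have : ((d χ : ℕ) : ℂ) = ((dφ + r : ℕ) : ℂ) := by
        push_cast
        rw [← hr, ← hdφ1, ← hdeq, Pi.sub_apply]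
        simp
      exact_mod_cast this
    have hr0 : r = 0 := by omega
    have hz0 : (fun x : (P : Subgroup G) => (χ : G → ℂ) x) - φ = 0 :=
      eq_zero_of_degree_zero hrest (by rw [hr, hr0, Nat.cast_zero])
    have hresirr : ∀ x : (P : Subgroup G), σ.character x = ρ.character x := fun x => by
      rw [hσe, he]; exact (congrFun (sub_eq_zero.mp hz0) x).symm
    -- so central elements of `P` are scalars
    have : Nontrivial (P : Subgroup G) := ⟨⟨⟨a, ha⟩, 1, fun h => hab (by
      have : a = 1 := congrArg Subtype.val h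
      simp [this])⟩⟩
    obtain ⟨z, hz, hz1⟩ := (Subgroup.bot_or_exists_ne_one _).resolve_left
      ((Subgroup.nontrivial_iff_ne_bot _).mp P.2.center_nontrivial)
    obtain ⟨ω, hω⟩ := exists_scalar_of_mem_center σ hz
    have hnorm : ‖ρ.character (z : G)‖ = (Module.finrank ℂ (Fin n → ℂ) : ℝ) := by
      rw [← hresirr z, (norm_character_eq_iff σ z).mpr ⟨ω, hω⟩, hn, hm]
      exact_mod_cast (by omega : dφ = d χ)
    obtain ⟨ω', hω'⟩ := (norm_character_eq_iff ρ (z : G)).mp hnorm
    have hzc : (z : G) ∈ Subgroup.center G := by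
      rw [Subgroup.mem_center_iff]
      intro g
      have h0 : ρ (g * z) = ρ (z * g) := by simp [map_mul, hω', ← Module.End.one_eq_id]
      have h1 := hfaith χ hχ (g * z * ((z : G) * g)⁻¹) (by
        rw [← he, Representation.character, Representation.character, map_mul, h0, ← map_mul,
          mul_inv_cancel])
      exact mul_inv_eq_one.mp h1
    rcases Subgroup.Normal.eq_bot_or_eq_top (inferInstance : (Subgroup.center G).Normal) with h | h
    · exact hz1 (Subtype.ext (Subgroup.mem_bot.mp (h ▸ hzc)))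
    · exact hnab fun x y => (Subgroup.mem_center_iff.mp (h ▸ Subgroup.mem_top x) y).symm
  have hk' : Nat.card (ConjClasses G) = (Finset.univ.erase e).card + 1 := by
    rw [← card_irr_eq_card_conjClasses, Nat.card_eq_fintype_card, Finset.card_erase_of_mem (Finset.mem_univ _),
      Finset.card_univ]
    have := Fintype.card_pos_iff.mpr ⟨e⟩
    omega
  have hlow : (Finset.univ.erase e).card * ((p + 1) * (p + 1)) + 1 ≤ Nat.card G := by
    rw [← hsum, ← Finset.sum_erase_add _ _ (Finset.mem_univ e), ← smul_eq_mul, ← Finset.sum_const]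
    refine Nat.add_le_add (Finset.sum_le_sum fun χ hχ => ?_) ?_
    · have := hbig χ (Finset.mem_erase.mp hχ).1
      exact Nat.mul_le_mul this this
    · have := hd e
      exact Nat.mul_le_mul this this
  rw [hk'] at hmany
  nlinarith [hpr.two_le]

end Cfsg.Agent.S0186
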