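import Cfsg.Statements.S0189
import Cfsg.Agent.Lib.CharTheory
import Cfsg.Agent.Lib.CharTheory.Linear
import Cfsg.Agent.Lib.CharTheory.Burnside
-- import your own Cfsg.Agent.* helpers here

set_option autoImplicit false
open Cfsg

namespace Cfsg.Agent.S0189

/-- If a complex character of a finite group vanishes at every non-identity element of a Sylow p-subgroup P, then |P| divides its degree. -/
theorem result {G : Type*} [Group G] [Finite G] (p : ℕ) [Fact p.Prime] (P : Sylow p G) (χ : G → ℂ) (hχ : Cfsg.IsCharacter G χ) (hvan : ∀ g : G, g ∈ P → g ≠ 1 → χ g = 0) : ∃ k : ℕ, χ 1 = (Nat.card P : ℂ) * k := by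
  classical
  have := Fintype.ofFinite G
  have hPc := CfsgLib.CharTheory.isCharacter_restrict hχ (P : Subgroup G)
  obtain ⟨m, hm⟩ := CfsgLib.CharTheory.classInner_char_nat hPc CfsgLib.CharTheory.isCharacter_one
  refine ⟨m, ?_⟩
  simp only [Cfsg.classInner, map_one, mul_one] at hm
  rw [Finset.sum_eq_single (1 : (P : Subgroup G))] at hm
  · have hne : (Nat.card P : ℂ) ≠ 0 := Nat.cast_ne_zero.mpr Nat.card_pos.ne'
    rw [← hm, Subgroup.coe_one]
    field_simp
  · intro x _ hx
    exact hvan x x.2 fun e => hx (Subtype.ext e)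
  · simp

end Cfsg.Agent.S0189
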