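import Cfsg.Statements.S0192
import Cfsg.Agent.Lib.CharTheory
import Cfsg.Agent.Lib.CharTheory.Clifford
-- import your own Cfsg.Agent.* helpers here

set_option autoImplicit false
open Cfsg

namespace Cfsg.Agent.S0192

open CfsgLib.CharTheory

/-- Brauer's generation criterion. Let G be a finite simple group, H₁ and H₂ subgroups, and χ a non-principal irreducible character. If the multiplicity of the principal character in χ restricted to H₁ ⊓ H₂ is less than the sum of the corresponding multiplicities for H₁ and H₂, then H₁ and H₂ do not generate G. -/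
theorem result {G : Type*} [Group G] [Fintype G] [IsSimpleGroup G] (H₁ H₂ : Subgroup G) [Fintype H₁] [Fintype H₂] [Fintype ↥(H₁ ⊓ H₂)] (χ : G → ℂ) (hχ : Cfsg.IsIrrCharacter G χ) (hχ1 : χ ≠ fun _ => 1) (hlt : (Cfsg.classInner (fun x : ↥(H₁ ⊓ H₂) => χ x) (fun _ => 1)).re < (Cfsg.classInner (fun x : H₁ => χ x) (fun _ => 1)).re + (Cfsg.classInner (fun x : H₂ => χ x) (fun _ => 1)).re) : H₁ ⊔ H₂ ≠ ⊤ := by
  obtain ⟨n, ρ, hρ, rfl⟩ := hχ
  have hinv : ∀ (H : Subgroup G) [Fintype H],
      Cfsg.classInner (fun x : H => ρ.character x) (fun _ => 1) =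
        (Module.finrank ℂ (Representation.invariants (MonoidHom.comp ρ H.subtype)) : ℂ) := by
    intro H _
    have : Invertible (Nat.card H : ℂ) := invertibleOfNonzero (Nat.cast_ne_zero.mpr Nat.card_pos.ne')
    rw [← Representation.card_inv_mul_sum_char_eq_finrank]
    simp only [Cfsg.classInner, map_one, mul_one]
    rfl
  rw [hinv, hinv, hinv, Complex.natCast_re, Complex.natCast_re, Complex.natCast_re] at hlt
  intro htop
  set A := Representation.invariants (MonoidHom.comp ρ H₁.subtype)
  set B := Representation.invariants (MonoidHom.comp ρ H₂.subtype)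
  set C := Representation.invariants (MonoidHom.comp ρ (H₁ ⊓ H₂).subtype)
  have hlt' : Module.finrank ℂ C < Module.finrank ℂ A + Module.finrank ℂ B := by exact_mod_cast hlt
  have hAC : A ≤ C := fun v hv x => hv ⟨x, x.2.1⟩
  have hBC : B ≤ C := fun v hv x => hv ⟨x, x.2.2⟩
  have hmono := Submodule.finrank_mono (sup_le hAC hBC)
  have hsum := Submodule.finrank_sup_add_finrank_inf_eq A B
  have hne : A ⊓ B ≠ ⊥ := by
    intro h
    have h0 : Module.finrank ℂ ↥(A ⊓ B) = 0 := by rw [h, finrank_bot]
    omega
  obtain ⟨v, hv, hv0⟩ := Submodule.exists_mem_ne_zero_of_ne_bot hne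
  have hfix : ∀ g : G, ρ g v = v := by
    intro g
    have hg : g ∈ Subgroup.closure ((H₁ : Set G) ∪ (H₂ : Set G)) := by
      rw [← Subgroup.sup_eq_closure, htop]
      exact Subgroup.mem_top g
    induction hg using Subgroup.closure_induction with
    | mem x hx => exact hx.elim (fun h => hv.1 ⟨x, h⟩) (fun h => hv.2 ⟨x, h⟩)
    | one => simp
    | mul x y _ _ hx hy => rw [map_mul, Module.End.mul_apply, hy, hx]
    | inv x _ hx =>
      conv_lhs => rw [← hx]
      rw [← Module.End.mul_apply, ← map_mul, inv_mul_cancel, map_one, Module.End.one_apply]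
  have hpos : Module.finrank ℂ (Representation.invariants ρ) ≠ 0 := fun h =>
    hv0 ((Submodule.eq_bot_iff _).mp (Submodule.finrank_eq_zero.mp h) v hfix)
  have : Invertible (Nat.card G : ℂ) := invertibleOfNonzero (Nat.cast_ne_zero.mpr Nat.card_pos.ne')
  refine hpos ((Nat.cast_eq_zero (R := ℂ)).mp ?_)
  rw [← Representation.card_inv_mul_sum_char_eq_finrank ρ]
  have h0 := classInner_irr_ne (isIrrCharacter_character ρ) isIrrCharacter_one hχ1
  simpa [Cfsg.classInner] using h0

end Cfsg.Agent.S0192
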