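import Cfsg.Statements.S0194
import Cfsg.Agent.Lib.CharTheory
import Cfsg.Agent.Lib.CharTheory.Clifford
import Cfsg.Agent.S0161
-- import your own Cfsg.Agent.* helpers here

set_option autoImplicit false
open scoped ComplexConjugate
open Cfsg

namespace Cfsg.Agent.S0194

open CfsgLib.CharTheory

/-- Let G have odd order, H be a normal subgroup and θ a non-principal irreducible character of H. Then the function induced from θ is orthogonal to its complex conjugate. -/
theorem result {G : Type*} [Group G] [Fintype G] (hodd : Odd (Nat.card G)) (H : Subgroup G) [H.Normal] (θ : H → ℂ) (hθ : Cfsg.IsIrrCharacter H θ) (hθ1 : θ ≠ fun _ => 1) : Cfsg.classInner (fun g => conj (Cfsg.indFun H θ g)) (Cfsg.indFun H θ) = 0 := by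
  have := Fintype.ofFinite H
  have hconj : (fun g => conj (Cfsg.indFun H θ g)) = Cfsg.indFun H (fun h => conj (θ h)) := by
    funext g
    by_cases hg : g ∈ H
    · rw [show g = ((⟨g, hg⟩ : H) : G) from rfl, indFun_normal_apply, indFun_normal_apply]
      simp [map_sum]
    · rw [indFun_normal_apply_not_mem H _ hg, indFun_normal_apply_not_mem H _ hg, map_zero]
  rw [hconj]
  refine indFun_orthogonal_of_not_conj H (isIrrCharacter_conjChar hθ) hθ ?_
  rintro ⟨g, hg⟩
  have hg2 : conjNormFun H (g ^ 2) θ = θ := by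
    rw [pow_two, conjNormFun_mul, hg]
    funext h
    show conj (conjNormFun H g θ h) = θ h
    rw [hg]
    exact Complex.conj_conj _
  obtain ⟨m, hm⟩ := Odd.of_dvd_nat hodd (orderOf_dvd_natCard g)
  have hgmem : g ∈ inertia H θ := by
    have e : g = (g ^ 2) ^ (m + 1) := by
      rw [← pow_mul, show 2 * (m + 1) = orderOf g + 1 by omega, pow_succ, pow_orderOf_eq_one, one_mul]
    rw [e]
    exact pow_mem ((mem_inertia H).mpr hg2) _
  rw [(mem_inertia H).mp hgmem] at hg
  refine hθ1 (Cfsg.Agent.S0161.result (Odd.of_dvd_nat hodd (Subgroup.card_subgroup_dvd_card H))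
    ⟨θ, hθ⟩ fun h => Complex.conj_eq_iff_im.mp (congrFun hg h).symm)

end Cfsg.Agent.S0194
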