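import Cfsg.Statements.S0195
import Cfsg.Agent.Lib.CharTheory
import Cfsg.Agent.Lib.CharTheory.Linear
import Cfsg.Agent.Lib.CharTheory.Burnside
-- import your own Cfsg.Agent.* helpers here

set_option autoImplicit false
open Cfsg

namespace Cfsg.Agent.S0195

/-- Let A be a subgroup of G that equals the centralizer of each of its non-identity elements. If g lies outside the normalizer of A, then the only element of A conjugated by g into A is the identity (A is a trivial-intersection set). -/
theorem result {G : Type*} [Group G] [Finite G] (A : Subgroup G) (hA : ∀ x ∈ A, x ≠ 1 → Subgroup.centralizer ({x} : Set G) = A) (g : G) (hg : g ∉ Subgroup.normalizer (A : Set G)) (x : G) (hx : x ∈ A) (hgx : g * x * g⁻¹ ∈ A) : x = 1 := by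
  by_contra hx1
  apply hg
  have h1 := hA x hx hx1
  have hgx1 : g * x * g⁻¹ ≠ 1 := by simpa using hx1
  have h2 := hA _ hgx hgx1
  rw [Subgroup.mem_normalizer_iff]
  intro a
  constructor
  · intro ha
    rw [← h2, Subgroup.mem_centralizer_singleton_iff]
    have : a * x = x * a := Subgroup.mem_centralizer_singleton_iff.mp (h1.symm ▸ ha)
    simp only [mul_assoc, inv_mul_cancel_left]
    rw [← mul_assoc a x, this, mul_assoc]
  · intro ha
    rw [← h1, Subgroup.mem_centralizer_singleton_iff]
    have hh : (g * a * g⁻¹) * (g * x * g⁻¹) = (g * x * g⁻¹) * (g * a * g⁻¹) :=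
      Subgroup.mem_centralizer_singleton_iff.mp (h2.symm ▸ ha)
    simp only [mul_assoc, inv_mul_cancel_left, mul_right_inj] at hh
    simpa [← mul_assoc] using hh

end Cfsg.Agent.S0195
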