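import Cfsg.Statements.S0196

-- import your own Cfsg.Agent.* helpers here

set_option autoImplicit false
open Cfsg

namespace Cfsg.Agent.S0196

/-- Let A be a subgroup of a finite group G that equals the centralizer of each of its non-identity elements, and let N be its normalizer. Then the index of A in N divides |A| − 1 (N/A permutes the non-identity elements of A in orbits of full length). -/
theorem result {G : Type*} [Group G] [Finite G] (A : Subgroup G) (hA : ∀ x ∈ A, x ≠ 1 → Subgroup.centralizer ({x} : Set G) = A) : (A.subgroupOf (Subgroup.normalizer (A : Set G))).index ∣ Nat.card A - 1 := by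
  classical
  set N := Subgroup.normalizer (A : Set G) with hN
  by_cases hA1 : ∃ x ∈ A, x ≠ 1
  swap
  · push Not at hA1
    rw [show A = ⊥ from (Subgroup.eq_bot_iff_forall A).mpr hA1]
    simp
  obtain ⟨x₀, hx₀, hne₀⟩ := hA1
  let act : MulAction N {a : A // a ≠ 1} :=
    { smul := fun g a => ⟨⟨(g : G) * (a.1 : G) * (g : G)⁻¹,
        (Subgroup.mem_normalizer_iff.mp g.2 (a.1 : G)).mp a.1.2⟩, fun h => a.2 (Subtype.ext (by
          simpa [mul_inv_eq_one] using congrArg Subtype.val h))⟩
      one_smul := fun a => Subtype.ext (Subtype.ext (by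
        show (1 : G) * (a.1 : G) * (1 : G)⁻¹ = _; simp))
      mul_smul := fun g h a => Subtype.ext (Subtype.ext (by
        show (g * h : G) * (a.1 : G) * (g * h : G)⁻¹ = (g : G) * ((h : G) * (a.1 : G) * (h : G)⁻¹) * (g : G)⁻¹
        simp [mul_assoc])) }
  have hst : ∀ a : {a : A // a ≠ 1}, MulAction.stabilizer N a = A.subgroupOf N := fun a => by
    ext g
    have hc := hA a.1 a.1.2 (fun e => a.2 (Subtype.ext e))
    rw [MulAction.mem_stabilizer_iff, Subgroup.mem_subgroupOf]
    refine Iff.trans ?_ (SetLike.ext_iff.mp hc (g : G))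
    rw [Subgroup.mem_centralizer_singleton_iff, Subtype.ext_iff, Subtype.ext_iff]
    exact mul_inv_eq_iff_eq_mul
  have key : ∀ a : {a : A // a ≠ 1}, Nat.card (MulAction.orbit N a) = (A.subgroupOf N).index := fun a => by
    rw [← hst a, MulAction.index_stabilizer, Nat.card_coe_set_eq]
  refine ⟨Nat.card (Quotient (MulAction.orbitRel N {a : A // a ≠ 1})), ?_⟩
  have := Fintype.ofFinite (Quotient (MulAction.orbitRel N {a : A // a ≠ 1}))
  rw [show Nat.card A - 1 = Nat.card {a : A // a ≠ 1} by
    have := Fintype.ofFinite A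
    rw [Nat.card_eq_fintype_card, Nat.card_eq_fintype_card, Fintype.card_subtype_compl,
      Fintype.card_subtype_eq],
    Nat.card_congr (MulAction.selfEquivSigmaOrbits N {a : A // a ≠ 1}), Nat.card_sigma]
  simp only [key, Finset.sum_const, Finset.card_univ, smul_eq_mul, Nat.card_eq_fintype_card (α := Quotient _)]
  exact mul_comm _ _

end Cfsg.Agent.S0196
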