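import Cfsg.Statements.S0207
import Cfsg.Agent.Lib.Involutions
-- import your own Cfsg.Agent.* helpers here

set_option autoImplicit false
open Cfsg

namespace Cfsg.Agent.S0207

/-- If x, y are distinct involutions, every element of the subgroup they generate that lies outside the cyclic subgroup generated by xy is an involution. -/
theorem result {G : Type*} [Group G] [Finite G] (x y : G) (hx : orderOf x = 2) (hy : orderOf y = 2) (hxy : x ≠ y) (d : G) (hd : d ∈ Subgroup.closure ({x, y} : Set G)) (hd' : d ∉ Subgroup.zpowers (x * y)) : orderOf d = 2 := by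
  open CfsgLib.Involutions in
  obtain ⟨k, rfl | rfl⟩ := mem_closure_pair (mul_self_eq_one_of_orderOf hx) (mul_self_eq_one_of_orderOf hy) hd
  · exact absurd (Subgroup.zpow_mem _ (Subgroup.mem_zpowers _) k) hd'
  · have hx' := CfsgLib.Involutions.mul_self_eq_one_of_orderOf hx
    have hy' := CfsgLib.Involutions.mul_self_eq_one_of_orderOf hy
    refine CfsgLib.Involutions.orderOf_eq_two_iff'.mpr ⟨?_, fun e => ?_⟩
    · calc x * (x * y) ^ k * (x * (x * y) ^ k) = x * ((x * y) ^ k * x) * (x * y) ^ k := by
            simp [mul_assoc]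
        _ = x * x * ((x * y) ^ (-k) * (x * y) ^ k) := by
            rw [CfsgLib.Involutions.zpow_mul_eq hx' hy']; simp [mul_assoc]
        _ = 1 := by rw [hx', zpow_neg, inv_mul_cancel, mul_one]
    · exact hd' (e ▸ one_mem _)

end Cfsg.Agent.S0207
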