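import Cfsg.Statements.S0210
import Cfsg.Agent.Lib.Involutions
-- import your own Cfsg.Agent.* helpers here

set_option autoImplicit false
open Cfsg

namespace Cfsg.Agent.S0210

/-- If x, y are involutions whose product has even order, no element of the subgroup generated by x and y conjugates x to y. -/
theorem result {G : Type*} [Group G] [Finite G] (x y : G) (hx : orderOf x = 2) (hy : orderOf y = 2) (heven : Even (orderOf (x * y))) (d : G) (hd : d ∈ Subgroup.closure ({x, y} : Set G)) : d * x * d⁻¹ ≠ y := by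
  intro h
  have hx' := CfsgLib.Involutions.mul_self_eq_one_of_orderOf hx
  have hy' := CfsgLib.Involutions.mul_self_eq_one_of_orderOf hy
  obtain ⟨j, hj⟩ := CfsgLib.Involutions.conj_left_eq hx' hy' hd
  rw [h] at hj
  have h1 : (x * y) ^ (2 * j) = (x * y) ^ (1 : ℤ) := by
    rw [zpow_one]
    calc (x * y) ^ (2 * j) = x * (x * (x * y) ^ (2 * j)) := by rw [← mul_assoc, hx', one_mul]
      _ = x * y := by rw [← hj]
  rw [zpow_eq_zpow_iff_modEq, Int.modEq_iff_dvd] at h1
  obtain ⟨m, hm⟩ := heven
  rw [hm] at h1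
  have h2 : (2 : ℤ) ∣ 1 - 2 * j := dvd_trans ⟨(m : ℤ), by push_cast; ring⟩ h1
  omega

end Cfsg.Agent.S0210
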