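import Cfsg.Statements.S0211
import Cfsg.Agent.Lib.Involutions
-- import your own Cfsg.Agent.* helpers here

set_option autoImplicit false
open Cfsg

namespace Cfsg.Agent.S0211

/-- Let x, y be involutions with xy of even order n and z = (xy)^(n/2). Then xz is conjugate to x by an element of the subgroup generated by x, y if and only if 4 divides n. -/
theorem result {G : Type*} [Group G] [Finite G] (x y : G) (hx : orderOf x = 2) (hy : orderOf y = 2) (heven : Even (orderOf (x * y))) : (∃ d ∈ Subgroup.closure ({x, y} : Set G), d * x * d⁻¹ = x * (x * y) ^ (orderOf (x * y) / 2)) ↔ 4 ∣ orderOf (x * y) := by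
  have hx' := CfsgLib.Involutions.mul_self_eq_one_of_orderOf hx
  have hy' := CfsgLib.Involutions.mul_self_eq_one_of_orderOf hy
  obtain ⟨m, hm⟩ := heven
  have hm' : orderOf (x * y) / 2 = m := by omega
  rw [hm']
  constructor
  · rintro ⟨d, hd, hdx⟩
    obtain ⟨j, hj⟩ := CfsgLib.Involutions.conj_left_eq hx' hy' hd
    rw [hdx, mul_right_inj, ← zpow_natCast, zpow_eq_zpow_iff_modEq, Int.modEq_iff_dvd] at hj
    rw [hm] at hj
    have h2 : (2 : ℤ) ∣ 2 * j - m := dvd_trans ⟨(m : ℤ), by push_cast; ring⟩ hj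
    omega
  · intro h
    obtain ⟨c, hc⟩ := h
    have h0 : x ∈ Subgroup.closure ({x, y} : Set G) := Subgroup.subset_closure (Or.inl rfl)
    have h1 : y ∈ Subgroup.closure ({x, y} : Set G) := Subgroup.subset_closure (Or.inr rfl)
    refine ⟨(x * y) ^ (-(c : ℤ)), zpow_mem (mul_mem h0 h1) _, ?_⟩
    rw [CfsgLib.Involutions.zpow_mul_eq hx' hy', neg_neg, mul_assoc, ← zpow_neg, neg_neg, ← zpow_add,
      ← zpow_natCast]
    congr 2
    omega

end Cfsg.Agent.S0211
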