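import Cfsg.Statements.S0212
import Cfsg.Agent.Lib.InvCount.BrauerFowler
import Cfsg.Agent.Lib.SmallOrder
-- import your own Cfsg.Agent.* helpers here

set_option autoImplicit false
open Cfsg

namespace Cfsg.Agent.S0212

/-- The Brauer–Fowler bound: if G is a finite simple group and t an involution of G whose centralizer has order n, then |G| ≤ (2n^2)!. -/
theorem result {G : Type*} [Group G] [Finite G] [IsSimpleGroup G] (t : G) (ht : orderOf t = 2) : Nat.card G ≤ Nat.factorial (2 * (Nat.card (Subgroup.centralizer ({t} : Set G))) ^ 2) := by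
  set c := Nat.card (Subgroup.centralizer ({t} : Set G)) with hc
  have hev : Even (Nat.card G) := even_iff_two_dvd.mpr (ht ▸ orderOf_dvd_natCard t)
  have hc2 : 2 ≤ c := by
    rw [hc, ← ht]
    exact Nat.le_of_dvd Nat.card_pos (Subgroup.orderOf_dvd_natCard _ (Subgroup.mem_centralizer_singleton_iff.mpr rfl))
  have hfac : ∀ m, m ≤ 2 * c ^ 2 → Nat.card G ≤ m.factorial → Nat.card G ≤ (2 * c ^ 2).factorial :=
    fun m hm h => h.trans (Nat.factorial_le hm)
  by_cases hgt : 2 < Nat.card G
  · obtain ⟨H, hH, h⟩ := CfsgLib.InvCount.brauer_fowler hev (CfsgLib.InvCount.center_simple hgt hev)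
    refine hfac H.index ?_ (Nat.le_of_dvd (Nat.factorial_pos _) (CfsgLib.SmallOrder.card_dvd_factorial_index hH))
    rcases h with h | h
    · rw [h]; nlinarith
    · have hG := CfsgLib.InvCount.card_le_mul ht
      rw [← hc] at hG
      set n := Nat.card {t : G // orderOf t = 2} with hn
      have h2 : 2 * H.index * n ^ 2 < c * (c + 1) * n ^ 2 := by
        calc 2 * H.index * n ^ 2 < Nat.card G * (Nat.card G + n) := h
          _ ≤ n * c * (n * c + n) := Nat.mul_le_mul hG (Nat.add_le_add_right hG n)
          _ = _ := by ring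
      have h3 := Nat.lt_of_mul_lt_mul_right h2
      nlinarith
  · exact (not_lt.mp hgt).trans ((show 2 ≤ 2 * c ^ 2 by nlinarith).trans (Nat.self_le_factorial _))

end Cfsg.Agent.S0212
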