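import Cfsg.Statements.S0214
import Cfsg.Agent.Lib.StronglyEmbedded
-- import your own Cfsg.Agent.* helpers here

set_option autoImplicit false
open Cfsg

namespace Cfsg.Agent.S0214

/-- Let H be a proper subgroup of the finite group G and P a nontrivial Sylow 2-subgroup of H. Then H is strongly embedded in G if and only if N_G(X) ≤ H for every nontrivial subgroup X of P. -/
theorem result {G : Type*} [Group G] [Finite G] (H : Subgroup G) (hH : H ≠ ⊤) (P : Sylow 2 ↥H) (hP : (P : Subgroup ↥H) ≠ ⊥) : Cfsg.IsStronglyEmbedded H ↔ (∀ X : Subgroup ↥H, X ≤ (P : Subgroup ↥H) → X ≠ ⊥ → Subgroup.normalizer ((X.map H.subtype : Subgroup G) : Set G) ≤ H) := by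
  constructor
  · rintro ⟨-, -, hodd⟩ X hXP hX1 g hg
    by_contra hgH
    set X' := X.map H.subtype with hX'
    have hle : X' ≤ H ⊓ H.map (MulAut.conj g).toMonoidHom := fun z hz => by
      refine Subgroup.mem_inf.mpr ⟨Subgroup.map_subtype_le X hz, ⟨g⁻¹ * z * g, ?_, ?_⟩⟩
      · exact Subgroup.map_subtype_le X ((Subgroup.mem_normalizer_iff''.mp hg z).mp hz)
      · show g * (g⁻¹ * z * g) * g⁻¹ = z
        group
    have h2 : 2 ∣ Nat.card ↥X' := CfsgLib.StronglyEmbedded.dvd_card_of_ne_bot ((P.2.to_le hXP).map _)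
      (fun e => hX1 ((Subgroup.map_eq_bot_iff_of_injective _ H.subtype_injective).mp e))
    exact Nat.not_even_iff_odd.mpr (hodd g hgH) (even_iff_two_dvd.mpr (h2.trans (Subgroup.card_dvd_of_le hle)))
  · intro h
    have h2 : 2 ∣ Nat.card ↥H :=
      (CfsgLib.StronglyEmbedded.dvd_card_of_ne_bot P.2 hP).trans (Subgroup.card_subgroup_dvd_card _)
    have hse : Cfsg.IsStronglyPEmbedded 2 H := by
      refine CfsgLib.StronglyEmbedded.of_normalizers hH h2 fun A hAH hA hA1 g hg => ?_
      obtain ⟨T, hT⟩ := (hA.of_equiv (Subgroup.subgroupOfEquivOfLe hAH).symm).exists_le_sylow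
      obtain ⟨c, hc⟩ := MulAction.exists_smul_eq ↥H T P
      set X := (A.subgroupOf H).map (MulAut.conj c).toMonoidHom with hX
      have hXP : X ≤ (P : Subgroup ↥H) := by
        rw [← hc, Sylow.coe_subgroup_smul, Subgroup.pointwise_smul_def]
        exact Subgroup.map_mono hT
      have hX1 : X ≠ ⊥ := fun e => hA1 (by
        rw [Subgroup.map_eq_bot_iff_of_injective _ (MulAut.conj c).injective, Subgroup.subgroupOf_eq_bot] at e
        exact disjoint_self.mp (e.mono_right hAH))
      have hmem : (c : G) * g * (c : G)⁻¹ ∈ H := by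
        refine h X hXP hX1 ?_
        have e : X.map H.subtype = A.map (MulAut.conj (c : G)).toMonoidHom := by
          rw [hX, Subgroup.map_map, show H.subtype.comp (MulAut.conj c).toMonoidHom =
            (MulAut.conj (c : G)).toMonoidHom.comp H.subtype from rfl, ← Subgroup.map_map,
            Subgroup.map_subgroupOf_eq_of_le hAH]
        rw [e]
        exact Subgroup.le_normalizer_map _ ⟨g, hg, rfl⟩
      have := H.mul_mem (H.mul_mem (H.inv_mem c.2) hmem) c.2
      simpa [mul_assoc] using this
    refine ⟨hH, even_iff_two_dvd.mpr h2, fun g hg => Nat.not_even_iff_odd.mp fun he => ?_⟩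
    exact CfsgLib.StronglyEmbedded.not_dvd_inter hse hg he.two_dvd

end Cfsg.Agent.S0214
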