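import Cfsg.Statements.S0216
import Cfsg.Agent.Lib.Involutions
import Mathlib.GroupTheory.PGroup
-- import your own Cfsg.Agent.* helpers here

set_option autoImplicit false
open Cfsg

namespace Cfsg.Agent.S0216

/-- For an involution u in a Sylow 2-subgroup P of a finite group G, the following are equivalent: no G-conjugate of u other than u lies in P; every commutator of u with an element of G has odd order. -/
theorem result {G : Type*} [Group G] [Finite G] (P : Sylow 2 G) (u : G) (hu : orderOf u = 2) (huP : u ∈ P) : (∀ g : G, g * u * g⁻¹ ∈ P → g * u * g⁻¹ = u) ↔ (∀ g : G, Odd (orderOf (u * g * u⁻¹ * g⁻¹))) := by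
  have hinv := CfsgLib.Involutions.inv_eq_self_of_orderOf hu
  constructor
  · intro h g
    have hiso : ∀ g : G, Commute u (g * u * g⁻¹) → g * u * g⁻¹ = u := by
      intro g hc
      have hp : ∀ {v : G}, orderOf v = 2 → IsPGroup 2 (Subgroup.zpowers v) := fun hv =>
        IsPGroup.of_card (n := 1) (by rw [Nat.card_zpowers, hv, pow_one])
      have hw : orderOf (g * u * g⁻¹) = 2 := by
        rw [← hu]
        exact MulEquiv.orderOf_eq (MulAut.conj g) u
      have hle : Subgroup.zpowers u ≤ Subgroup.normalizer ((Subgroup.zpowers (g * u * g⁻¹) : Subgroup G) : Set G) := by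
        refine le_trans ?_ (Subgroup.centralizer_le_normalizer _)
        rw [Subgroup.zpowers_le, Subgroup.mem_centralizer_iff]
        rintro _ ⟨n, rfl⟩
        exact (hc.symm.zpow_left n).eq
      obtain ⟨R, hR⟩ := ((hp hu).to_sup_of_normal_right' (hp hw) hle).exists_le_sylow
      obtain ⟨k, hk⟩ := MulAction.exists_smul_eq G R P
      have hmove : ∀ x ∈ (R : Subgroup G), k * x * k⁻¹ ∈ (P : Subgroup G) := fun x hx => by
        rw [← hk, Sylow.coe_subgroup_smul, Subgroup.mem_pointwise_smul_iff_inv_smul_mem]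
        simpa [MulAut.conj_symm_apply, mul_assoc] using hx
      have h1 := h k (hmove _ (hR (Subgroup.mem_sup_left (Subgroup.mem_zpowers _))))
      have h2 := h (k * g) (by
        have := hmove _ (hR (Subgroup.mem_sup_right (Subgroup.mem_zpowers (g * u * g⁻¹))))
        have e : k * g * u * (k * g)⁻¹ = k * (g * u * g⁻¹) * k⁻¹ := by group
        rw [e]
        exact this)
      have h3 : k * (g * u * g⁻¹) * k⁻¹ = k * u * k⁻¹ := by
        rw [h1]
        simpa [mul_assoc] using h2
      exact mul_left_cancel (mul_right_cancel h3)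
    have := CfsgLib.Involutions.odd_of_isolated hu hiso g
    rw [hinv]
    rwa [show u * g * u * g⁻¹ = u * (g * u * g⁻¹) by group]
  · intro h g hg
    have h1 := h g
    rw [hinv, show u * g * u * g⁻¹ = u * (g * u * g⁻¹) by group] at h1
    obtain ⟨n, hn⟩ := P.2 ⟨_, mul_mem huP hg⟩
    have h2 : orderOf (u * (g * u * g⁻¹)) ∣ 2 ^ n := orderOf_dvd_of_pow_eq_one (congrArg Subtype.val hn)
    have h3 : orderOf (u * (g * u * g⁻¹)) = 1 :=
      Nat.eq_one_of_dvd_coprimes (Nat.Coprime.pow_right n (Nat.coprime_two_right.mpr h1)) dvd_rfl h2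
    rw [orderOf_eq_one_iff] at h3
    calc g * u * g⁻¹ = u⁻¹ := eq_inv_of_mul_eq_one_right h3
      _ = u := hinv

end Cfsg.Agent.S0216
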