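import Cfsg.Statements.S0218
import Mathlib.GroupTheory.SpecificGroups.Quaternion
-- import your own Cfsg.Agent.* helpers here

set_option autoImplicit false
open Cfsg

namespace Cfsg.Agent.S0218

/-- The generalized quaternion group of order 2^(n+3) contains exactly one element of order 2. -/
theorem result (n : ℕ) : Nat.card {x : QuaternionGroup (2 ^ (n + 1)) // orderOf x = 2} = 1 := by
  haveI : NeZero (2 ^ (n + 1)) := ⟨by positivity⟩
  set N := 2 ^ (n + 1) with hN
  have hNpos : 0 < N := by positivity
  rw [Nat.card_eq_one_iff_exists]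
  have hval : ((N : ℕ) : ZMod (2 * N)).val = N := ZMod.val_natCast_of_lt (by omega)
  refine ⟨⟨QuaternionGroup.a (N : ℕ), ?_⟩, ?_⟩
  · rw [QuaternionGroup.orderOf_a, hval, Nat.gcd_eq_right (dvd_mul_left N 2),
      Nat.mul_div_cancel _ hNpos]
  · rintro ⟨z, hz⟩
    rcases z with i | i
    · rw [QuaternionGroup.orderOf_a] at hz
      haveI : NeZero (2 * N) := ⟨by omega⟩
      have hlt := ZMod.val_lt i
      obtain ⟨q, hq⟩ := Nat.gcd_dvd_left (2 * N) i.val
      obtain ⟨r, hr⟩ := Nat.gcd_dvd_right (2 * N) i.val
      have hg0 : 0 < Nat.gcd (2 * N) i.val := Nat.gcd_pos_of_pos_left _ (by omega)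
      generalize hg : Nat.gcd (2 * N) i.val = g at hz hq hr hg0
      rw [hq, Nat.mul_div_cancel_left _ hg0] at hz
      subst hz
      have hr2 : r < 2 := by
        by_contra hcon
        have : g * 2 ≤ g * r := Nat.mul_le_mul_left g (not_lt.mp hcon)
        omega
      have hi : i.val = N := by
        interval_cases r
        · rw [Nat.mul_zero] at hr
          rw [hr, Nat.gcd_zero_right] at hg
          omega
        · omega
      apply Subtype.ext
      show QuaternionGroup.a i = QuaternionGroup.a (N : ZMod (2 * N))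
      conv_lhs => rw [← ZMod.natCast_zmod_val i, hi]
    · rw [QuaternionGroup.orderOf_xa] at hz
      omega

end Cfsg.Agent.S0218
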