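import Cfsg.Statements.S0220
import Cfsg.Agent.S0219
import Cfsg.Agent.Lib.Involutions
import Mathlib.GroupTheory.SpecificGroups.Cyclic
-- import your own Cfsg.Agent.* helpers here

set_option autoImplicit false
open Cfsg

namespace Cfsg.Agent.S0220

/-- If x is an involution of a finite group G and a Sylow 2-subgroup of the centralizer of x is cyclic, then G has a subgroup of index 2; in particular G is not simple unless it has order 2. -/
theorem result {G : Type*} [Group G] [Finite G] (x : G) (hx : orderOf x = 2) (S : Sylow 2 ↥(Subgroup.centralizer ({x} : Set G))) (hS : IsCyclic (S : Subgroup ↥(Subgroup.centralizer ({x} : Set G)))) : ∃ H : Subgroup G, H.index = 2 := by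
  suffices key : ∀ (C : Subgroup G), C = Subgroup.centralizer ({x} : Set G) →
      ∀ S : Sylow 2 C, IsCyclic ↥(S : Subgroup C) → ∃ H : Subgroup G, H.index = 2 from key _ rfl S hS
  clear S hS
  intro C hC S hS
  haveI : Fact (Nat.Prime 2) := ⟨Nat.prime_two⟩
  have hmem : ∀ {c : G}, c ∈ C ↔ c * x = x * c := by
    subst hC
    exact Subgroup.mem_centralizer_singleton_iff
  have hxC : x ∈ C := hmem.mpr rfl
  obtain ⟨T, hT⟩ := (S.2.map C.subtype).exists_le_sylow
  -- `x ∈ S` as it is central in its centralizer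
  have hxcent : (⟨x, hxC⟩ : C) ∈ Subgroup.center C := Subgroup.mem_center_iff.mpr fun c =>
    Subtype.ext (hmem.mp c.2)
  have hzS : Subgroup.zpowers (⟨x, hxC⟩ : C) ≤ (S : Subgroup C) := by
    haveI : (Subgroup.zpowers (⟨x, hxC⟩ : C)).Normal := ⟨fun n hn g => by
      have : n ∈ Subgroup.center C := Subgroup.zpowers_le.mpr hxcent hn
      rw [Subgroup.mem_center_iff.mp this g, mul_inv_cancel_right]
      exact hn⟩
    have hp : IsPGroup 2 (Subgroup.zpowers (⟨x, hxC⟩ : C)) := IsPGroup.of_card (n := 1) (by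
      rw [Nat.card_zpowers, pow_one, ← hx, ← Subgroup.orderOf_coe])
    obtain ⟨Q, hQ⟩ := hp.exists_le_sylow
    obtain ⟨k, hk⟩ := MulAction.exists_smul_eq C Q S
    intro n hn
    have hn' : k⁻¹ * n * k ∈ Subgroup.zpowers (⟨x, hxC⟩ : C) := by
      simpa using Subgroup.Normal.conj_mem inferInstance n hn k⁻¹
    have := hQ hn'
    rw [← hk, Sylow.coe_subgroup_smul, Subgroup.mem_pointwise_smul_iff_inv_smul_mem]
    simpa [MulAut.conj_symm_apply, mul_assoc] using this
  have hxT : x ∈ (T : Subgroup G) := hT ⟨_, hzS (Subgroup.mem_zpowers _), rfl⟩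
  -- `S = C_T(x)`
  have hST : ((T : Subgroup G) ⊓ C).subgroupOf C = (S : Subgroup C) := by
    have hle : (S : Subgroup C) ≤ ((T : Subgroup G) ⊓ C).subgroupOf C := fun s hs => ⟨hT ⟨s, hs, rfl⟩, s.2⟩
    exact S.3 ((T.2.to_le inf_le_left).comap_subtype) hle
  haveI := T.2
  by_cases hT1 : Subsingleton (T : Subgroup G)
  · exfalso
    have : (⟨x, hxT⟩ : (T : Subgroup G)) = 1 := Subsingleton.elim _ _
    have h0 : x = 1 := congrArg Subtype.val this
    rw [h0, orderOf_one] at hx
    omega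
  haveI : Nontrivial (T : Subgroup G) := not_subsingleton_iff_nontrivial.mp hT1
  haveI := T.2.center_nontrivial
  obtain ⟨z, hz⟩ := exists_prime_orderOf_dvd_card' (G := ↥(Subgroup.center (T : Subgroup G))) 2 (by
    obtain ⟨n, hn, hc⟩ := (T.2.to_subgroup (Subgroup.center (T : Subgroup G))).nontrivial_iff_card.1 inferInstance
    exact hc ▸ dvd_pow_self 2 hn.ne')
  set w : G := ((z : (T : Subgroup G)) : G) with hwdef
  have hwo : orderOf w = 2 := by rw [hwdef, Subgroup.orderOf_coe, Subgroup.orderOf_coe, hz]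
  have hwc : ∀ t ∈ (T : Subgroup G), t * w = w * t := fun t ht =>
    congrArg Subtype.val (Subgroup.mem_center_iff.mp z.2 ⟨t, ht⟩)
  have hwC : w ∈ C := hmem.mpr (hwc x hxT).symm
  -- unique involution in cyclic `S`
  have hwx : w = x := by
    have h1 : (⟨w, hwC⟩ : C) ∈ (S : Subgroup C) := hST ▸ ⟨(z : (T : Subgroup G)).2, hwC⟩
    have h2 : (⟨x, hxC⟩ : C) ∈ (S : Subgroup C) := hzS (Subgroup.mem_zpowers _)
    haveI hS' : IsCyclic ↥(S : Subgroup C) := hS
    haveI := Fintype.ofFinite (S : Subgroup C)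
    have hcard := IsCyclic.card_orderOf_eq_totient (α := (S : Subgroup C)) (d := 2) (by
      rw [← Nat.card_eq_fintype_card]
      have h3 := orderOf_dvd_natCard (⟨⟨x, hxC⟩, h2⟩ : (S : Subgroup C))
      rwa [show orderOf (⟨⟨x, hxC⟩, h2⟩ : (S : Subgroup C)) = 2 by simp [hx]] at h3)
    rw [show Nat.totient 2 = 1 from rfl, Finset.card_eq_one] at hcard
    obtain ⟨e, he⟩ := hcard
    have ha : (⟨⟨w, hwC⟩, h1⟩ : (S : Subgroup C)) = e := by
      rw [← Finset.mem_singleton, ← he, Finset.mem_filter]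
      exact ⟨Finset.mem_univ _, by simp [hwo]⟩
    have hb : (⟨⟨x, hxC⟩, h2⟩ : (S : Subgroup C)) = e := by
      rw [← Finset.mem_singleton, ← he, Finset.mem_filter]
      exact ⟨Finset.mem_univ _, by simp [hx]⟩
    exact congrArg (fun s : (S : Subgroup C) => ((s : C) : G)) (ha.trans hb.symm)
  have hTC : (T : Subgroup G) ≤ C := fun t ht => hmem.mpr (hwx ▸ hwc t ht)
  haveI hS' : IsCyclic ↥(S : Subgroup C) := hS
  have hTcyc : IsCyclic (T : Subgroup G) := by
    rw [inf_eq_left.mpr hTC] at hST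
    haveI : IsCyclic ↥((T : Subgroup G).subgroupOf C) := hST ▸ hS'
    exact isCyclic_of_surjective _ (Subgroup.subgroupOfEquivOfLe hTC).surjective
  refine Cfsg.Agent.S0219.result ?_ T hTcyc
  rw [even_iff_two_dvd, ← hx]
  exact orderOf_dvd_natCard x

end Cfsg.Agent.S0220
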