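import Cfsg.Statements.S0228
import Cfsg.Agent.Lib.Involutions
import Mathlib.GroupTheory.Sylow
import Mathlib.GroupTheory.SpecificGroups.Alternating
import Mathlib.GroupTheory.SpecificGroups.Cyclic
-- import your own Cfsg.Agent.* helpers here

set_option autoImplicit false
open Cfsg

namespace Cfsg.Agent.S0228

/-- A group of order 12 in which no involution is central is isomorphic to the alternating group on four letters. -/
theorem result {G : Type*} [Group G] [Finite G] (hG : Nat.card G = 12) (hz : ∀ z : G, orderOf z = 2 → z ∉ Subgroup.center G) : Nonempty (G ≃* alternatingGroup (Fin 4)) := by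
  classical
  haveI : Fact (Nat.Prime 3) := ⟨Nat.prime_three⟩
  haveI : Fact (Nat.Prime 2) := ⟨Nat.prime_two⟩
  let P : Sylow 3 G := default
  have hP : Nat.card P = 3 := by
    rw [Sylow.card_eq_multiplicity, hG]
    have : (12 : ℕ).factorization 3 = 1 := by
      rw [show (12 : ℕ) = 3 ^ 1 * 4 by norm_num, Nat.factorization_mul (by norm_num) (by norm_num)]
      rw [Finsupp.add_apply, Nat.factorization_pow_self Nat.prime_three,
        Nat.factorization_eq_zero_of_not_dvd (by norm_num : ¬ 3 ∣ 4)]
    rw [this, pow_one]
  have hidx : (P : Subgroup G).index = 4 := by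
    have h1 := (P : Subgroup G).card_mul_index
    rw [hG, hP] at h1
    omega
  have hn4 : Nat.card (Sylow 3 G) = 4 := by
    have h1 := P.card_dvd_index
    rw [hidx] at h1
    have h2 := card_sylow_modEq_one 3 G
    have h3 := Nat.le_of_dvd (by norm_num) h1
    by_contra hne
    have hone : Nat.card (Sylow 3 G) = 1 := by
      unfold Nat.ModEq at h2
      interval_cases h : Nat.card (Sylow 3 G) <;> simp_all
    -- a normal Sylow 3-subgroup gives a central involution
    haveI : Subsingleton (Sylow 3 G) := (Nat.card_eq_one_iff_unique.mp hone).1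
    haveI hPN : (P : Subgroup G).Normal := P.normal_of_subsingleton
    haveI hcyc : IsCyclic (P : Subgroup G) := isCyclic_of_prime_card hP
    obtain ⟨c, hc⟩ := IsCyclic.exists_generator (α := (P : Subgroup G))
    have hco : orderOf c = 3 := by rw [orderOf_eq_card_of_forall_mem_zpowers hc, hP]
    set C := Subgroup.centralizer ({(c : G)} : Set G) with hC
    haveI hCN : C.Normal := ⟨fun n hn g => by
      obtain ⟨j, hj⟩ := hc ⟨g⁻¹ * c * g, by simpa using hPN.conj_mem _ c.2 g⁻¹⟩
      have hj' : (c : G) ^ j = g⁻¹ * c * g := congrArg Subtype.val hj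
      rw [hC, Subgroup.mem_centralizer_singleton_iff] at hn ⊢
      have h5 : Commute n ((c : G) ^ j) := (show Commute n (c : G) from hn).zpow_right j
      rw [hj'] at h5
      calc g * n * g⁻¹ * c = g * (n * (g⁻¹ * c * g)) * g⁻¹ := by group
        _ = c * (g * n * g⁻¹) := by rw [h5.eq]; group⟩
    -- `C` has index at most two
    have hC2 : C.index ≤ 2 := by
      let f : G ⧸ C → {x : (P : Subgroup G) // x ≠ 1} := Quotient.lift
        (fun g => ⟨⟨g * c * g⁻¹, hPN.conj_mem _ c.2 g⟩, fun e => by
          have h6 : (c : G) = 1 := conj_eq_one_iff.mp (congrArg Subtype.val e)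
          rw [← Subgroup.orderOf_coe, h6, orderOf_one] at hco
          omega⟩)
        fun a b hab => by
          refine Subtype.ext (Subtype.ext ?_)
          show a * c * a⁻¹ = b * c * b⁻¹
          have := Subgroup.mem_centralizer_singleton_iff.mp (QuotientGroup.leftRel_apply.mp hab)
          calc a * c * a⁻¹ = a * (c * (a⁻¹ * b)) * b⁻¹ := by group
            _ = b * c * b⁻¹ := by rw [← this]; group
      have hinj : Function.Injective f := by
        rintro a b hab
        obtain ⟨a, rfl⟩ := QuotientGroup.mk_surjective a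
        obtain ⟨b, rfl⟩ := QuotientGroup.mk_surjective b
        replace hab : a * c * a⁻¹ = b * c * b⁻¹ := congrArg (fun x : {x : (P : Subgroup G) // x ≠ 1} => ((x : (P : Subgroup G)) : G)) hab
        rw [QuotientGroup.eq, Subgroup.mem_centralizer_singleton_iff]
        calc a⁻¹ * b * c = a⁻¹ * (b * c * b⁻¹) * b := by group
          _ = c * (a⁻¹ * b) := by rw [← hab]; group
      refine le_trans (Nat.card_le_card_of_injective f hinj) ?_
      haveI := Fintype.ofFinite (P : Subgroup G)
      rw [Nat.card_eq_fintype_card, Fintype.card_subtype_compl, Fintype.card_subtype_eq, ← Nat.card_eq_fintype_card, hP]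
    have hmul := C.card_mul_index
    rw [hG] at hmul
    have hC0 : 0 < C.index := Nat.pos_of_ne_zero fun h0 => by rw [h0, Nat.mul_zero] at hmul; omega
    obtain h | h : C.index = 1 ∨ C.index = 2 := by omega
    · -- `P` is central
      rw [Subgroup.index_eq_one] at h
      have hcc : (c : G) ∈ Subgroup.center G := Subgroup.mem_center_iff.mpr fun g =>
        Subgroup.mem_centralizer_singleton_iff.mp (show g ∈ C by rw [h]; trivial)
      let S : Sylow 2 G := default
      have hS : Nat.card S = 2 ^ 2 := by
        rw [Sylow.card_eq_multiplicity, hG]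
        congr 1
        rw [show (12 : ℕ) = 2 ^ 2 * 3 by norm_num, Nat.factorization_mul (by norm_num) (by norm_num)]
        rw [Finsupp.add_apply, Nat.factorization_pow_self Nat.prime_two,
          Nat.factorization_eq_zero_of_not_dvd (by norm_num : ¬ 2 ∣ 3)]
      haveI : IsMulCommutative (S : Subgroup G) := IsPGroup.isMulCommutative_of_card_eq_prime_sq hS
      obtain ⟨z, hz'⟩ := exists_prime_orderOf_dvd_card' (G := (S : Subgroup G)) 2 (by rw [hS]; norm_num)
      apply hz ((z : G)) (by rw [Subgroup.orderOf_coe, hz'])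
      have hsup : (S : Subgroup G) ⊔ Subgroup.zpowers (c : G) = ⊤ := by
        apply Subgroup.eq_top_of_card_eq
        rw [hG]
        have h7 : 4 ∣ Nat.card ↥((S : Subgroup G) ⊔ Subgroup.zpowers (c : G)) := by
          have := Subgroup.card_dvd_of_le (le_sup_left : (S : Subgroup G) ≤ _ ⊔ Subgroup.zpowers (c : G))
          rwa [hS] at this
        have h8 : 3 ∣ Nat.card ↥((S : Subgroup G) ⊔ Subgroup.zpowers (c : G)) := by
          have := Subgroup.card_dvd_of_le (le_sup_right : _ ≤ (S : Subgroup G) ⊔ Subgroup.zpowers (c : G))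
          rwa [Nat.card_zpowers, Subgroup.orderOf_coe, hco] at this
        exact Nat.dvd_antisymm (hG ▸ Subgroup.card_subgroup_dvd_card _) (Nat.Coprime.mul_dvd_of_dvd_of_dvd (by norm_num : Nat.Coprime 4 3) h7 h8)
      have hle : (S : Subgroup G) ⊔ Subgroup.zpowers (c : G) ≤ Subgroup.centralizer ({(z : G)} : Set G) := by
        refine sup_le (fun s hs => Subgroup.mem_centralizer_singleton_iff.mpr (setLike_mul_comm hs z.2)) ?_
        rw [Subgroup.zpowers_le, Subgroup.mem_centralizer_singleton_iff]
        exact (Subgroup.mem_center_iff.mp hcc z).symm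
      rw [hsup] at hle
      exact Subgroup.mem_center_iff.mpr fun g => Subgroup.mem_centralizer_singleton_iff.mp (hle (Subgroup.mem_top g))
    · -- `C` is cyclic of order 6
      have h6 : Nat.card C = 6 := by rw [h] at hmul; omega
      obtain ⟨z, hz'⟩ := exists_prime_orderOf_dvd_card' (G := C) 2 (by rw [h6]; norm_num)
      have hcC : (c : G) ∈ C := Subgroup.mem_centralizer_singleton_iff.mpr rfl
      have hcz : Commute (⟨c, hcC⟩ : C) z := Subtype.ext (Subgroup.mem_centralizer_singleton_iff.mp z.2).symm
      haveI : IsCyclic C := by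
        refine isCyclic_of_orderOf_eq_card (⟨c, hcC⟩ * z) ?_
        have hco' : orderOf (⟨c, hcC⟩ : C) = 3 := by rw [Subgroup.orderOf_mk, Subgroup.orderOf_coe]; exact hco
        rw [hcz.orderOf_mul_eq_mul_orderOf_of_coprime]
        · rw [hz', hco', h6]
        · rw [hz', hco']
          norm_num
      haveI := Fintype.ofFinite C
      have hcard := IsCyclic.card_orderOf_eq_totient (α := C) (d := 2) (by
        rw [← Nat.card_eq_fintype_card, h6]; norm_num)
      rw [show Nat.totient 2 = 1 from rfl, Finset.card_eq_one] at hcard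
      obtain ⟨e, he⟩ := hcard
      have huniq : ∀ w : C, orderOf w = 2 → w = e := fun w hw => by
        rw [← Finset.mem_singleton, ← he, Finset.mem_filter]
        exact ⟨Finset.mem_univ _, hw⟩
      apply hz (z : G) (by rw [Subgroup.orderOf_coe, hz'])
      refine Subgroup.mem_center_iff.mpr fun g => mul_inv_eq_iff_eq_mul.mp ?_
      have h9 : (⟨g * z * g⁻¹, hCN.conj_mem _ z.2 g⟩ : C) = z := by
        refine (huniq _ ?_).trans (huniq z hz').symm
        rw [← Subgroup.orderOf_coe, CfsgLib.Involutions.orderOf_conj, Subgroup.orderOf_coe, hz']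
      exact congrArg Subtype.val h9
  -- the action on the four Sylow 3-subgroups
  let φ : G →* Equiv.Perm (Sylow 3 G) := MulAction.toPermHom G (Sylow 3 G)
  have hNP : Subgroup.normalizer ((P : Subgroup G) : Set G) = P := by
    refine (Subgroup.eq_of_le_of_card_ge Subgroup.le_normalizer ?_).symm
    have h1 := (Subgroup.normalizer ((P : Subgroup G) : Set G)).card_mul_index
    have h0 : (Subgroup.normalizer ((P : Subgroup G) : Set G)).index = 4 := hn4 ▸ P.card_eq_index_normalizer.symm
    rw [h0, hG] at h1
    rw [hP]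
    omega
  have hinj : Function.Injective φ := by
    rw [injective_iff_map_eq_one]
    intro g hg
    obtain ⟨Q, hQ⟩ : ∃ Q : Sylow 3 G, Q ≠ P := by
      by_contra hall
      push Not at hall
      haveI : Subsingleton (Sylow 3 G) := ⟨fun a b => (hall a).trans (hall b).symm⟩
      have := Finite.card_le_one_iff_subsingleton.mpr this
      omega
    have hmem : ∀ R : Sylow 3 G, g ∈ Subgroup.normalizer ((R : Subgroup G) : Set G) := fun R => by
      exact Sylow.smul_eq_iff_mem_normalizer.mp (congrArg (fun σ : Equiv.Perm (Sylow 3 G) => σ R) hg)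
    have hgP : g ∈ (P : Subgroup G) := hNP ▸ hmem P
    by_contra hg1
    apply hQ
    have hgo : Subgroup.zpowers g = P := by
      refine Subgroup.eq_of_le_of_card_ge (Subgroup.zpowers_le.mpr hgP) ?_
      rw [Nat.card_zpowers]
      have h2 := Subgroup.orderOf_dvd_natCard _ hgP
      rw [hP] at h2
      rcases (Nat.dvd_prime Nat.prime_three).mp h2 with h3 | h3
      · exact absurd (orderOf_eq_one_iff.mp h3) hg1
      · rw [h3, hP]
    refine Sylow.ext ?_
    have hp := P.2.to_sup_of_normal_right' (H := (P : Subgroup G)) Q.2 (hgo ▸ Subgroup.zpowers_le.mpr (hmem Q))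
    exact (Q.3 hp le_sup_right).symm.trans (P.3 hp le_sup_left)
  haveI : Fintype (Sylow 3 G) := Fintype.ofFinite _
  obtain ⟨e⟩ : Nonempty (Sylow 3 G ≃ Fin 4) := ⟨Fintype.equivFinOfCardEq (by rw [← Nat.card_eq_fintype_card, hn4])⟩
  let ψ : G →* Equiv.Perm (Fin 4) := (Equiv.permCongrHom e).toMonoidHom.comp φ
  have hψ : Function.Injective ψ := (Equiv.permCongrHom e).injective.comp hinj
  have hr : ψ.range = alternatingGroup (Fin 4) := by
    apply Equiv.Perm.eq_alternatingGroup_of_index_eq_two
    have h1 := ψ.range.card_mul_index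
    have h2 : Nat.card ψ.range = 12 := by rw [← hG]; exact (Nat.card_congr (MonoidHom.ofInjective hψ).toEquiv).symm
    rw [h2, Nat.card_perm, Nat.card_fin] at h1
    simp [Nat.factorial] at h1
    omega
  exact ⟨(MonoidHom.ofInjective hψ).trans (MulEquiv.subgroupCongr hr)⟩

end Cfsg.Agent.S0228
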