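import Cfsg.Statements.S0229
import Cfsg.Agent.S0216
import Cfsg.Agent.Lib.Involutions
import Mathlib.Tactic.Group
-- import your own Cfsg.Agent.* helpers here

set_option autoImplicit false
open Cfsg

namespace Cfsg.Agent.S0229

/-- Let t be an involution of a Sylow 2-subgroup S of a finite group G, conjugate in G to no other element of S, and let s be an involution of G not conjugate to t. Then the order of st is twice an odd number. -/
theorem result {G : Type*} [Group G] [Finite G] (S : Sylow 2 G) (t : G) (ht : orderOf t = 2) (htS : t ∈ S) (hiso : ∀ g : G, g * t * g⁻¹ ∈ S → g * t * g⁻¹ = t) (s : G) (hs : orderOf s = 2) (hns : ¬ IsConj s t) : orderOf (s * t) % 4 = 2 := by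
  have hodd := (Cfsg.Agent.S0216.result S t ht htS).mp hiso
  have htt := CfsgLib.Involutions.mul_self_eq_one_of_orderOf ht
  have hti := CfsgLib.Involutions.inv_eq_self_of_orderOf ht
  have hss := CfsgLib.Involutions.mul_self_eq_one_of_orderOf hs
  have hisol : ∀ g : G, Commute t (g * t * g⁻¹) → g * t * g⁻¹ = t := by
    intro g hc
    have h1 : (t * (g * t * g⁻¹)) ^ 2 = 1 := by
      rw [hc.mul_pow, sq, sq, htt, conj_mul, htt, mul_one, one_mul, mul_inv_cancel]
    obtain ⟨k, hk⟩ := hodd g
    have e : t * g * t⁻¹ * g⁻¹ = t * (g * t * g⁻¹) := by rw [hti]; group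
    rw [e] at hk
    have h2 : (t * (g * t * g⁻¹)) ^ (2 * k + 1) = 1 := hk ▸ pow_orderOf_eq_one _
    rw [pow_succ, pow_mul, h1, one_pow, one_mul] at h2
    exact (eq_inv_of_mul_eq_one_right h2).trans hti
  -- work with `t s`, which has the same order
  have hord : orderOf (s * t) = orderOf (t * s) := by
    rw [← CfsgLib.Involutions.orderOf_conj t (s * t)]
    congr 1
    group
  rw [hord]
  have hne : t ≠ s := fun e => hns (e ▸ IsConj.refl s)
  rcases Nat.even_or_odd (orderOf (t * s)) with he | ho
  · by_contra h4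
    obtain ⟨m, hm⟩ := he
    have hm2 : ∃ c, m = 2 * c := ⟨m / 2, by omega⟩
    obtain ⟨c, rfl⟩ := hm2
    have hconj : (t * s) ^ (-(c : ℤ)) * t * ((t * s) ^ (-(c : ℤ)))⁻¹ = t * (t * s) ^ (2 * c) := by
      rw [CfsgLib.Involutions.zpow_mul_eq htt hss, neg_neg, mul_assoc, ← zpow_neg, neg_neg, ← zpow_add, ← zpow_natCast]
      congr 2
      omega
    have hm' : orderOf (t * s) / 2 = 2 * c := by omega
    have hcomm := (CfsgLib.Involutions.central_half htt hss ⟨2 * c, hm⟩).1
    have hone := CfsgLib.Involutions.orderOf_half (x := t) (y := s) ⟨2 * c, hm⟩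
    rw [hm'] at hcomm hone
    have := hisol _ (hconj ▸ (Commute.refl t).mul_right hcomm.symm)
    rw [hconj, mul_eq_left] at this
    rw [this, orderOf_one] at hone
    omega
  · obtain ⟨d, -, hd⟩ := CfsgLib.Involutions.exists_conj_eq_of_odd htt hss ho
    exact absurd (isConj_iff.mpr ⟨d, hd⟩).symm hns

end Cfsg.Agent.S0229
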