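import Cfsg.Statements.S0230
import Cfsg.Agent.Lib.Involutions
import Mathlib.GroupTheory.GroupAction.Quotient
import Mathlib.GroupTheory.GroupAction.ConjAct
import Mathlib.Data.Fintype.Card
-- import your own Cfsg.Agent.* helpers here

set_option autoImplicit false
open Cfsg

namespace Cfsg.Agent.S0230

/-- Let G be a finite group with two non-conjugate involutions, and let t be an involution whose centralizer has maximal order among centralizers of involutions. Then |G| < |C_G(t)|^3. -/
theorem result {G : Type*} [Group G] [Finite G] (s t : G) (hs : orderOf s = 2) (ht : orderOf t = 2) (hnc : ¬ IsConj s t) (hmax : ∀ u : G, orderOf u = 2 → Nat.card (Subgroup.centralizer ({u} : Set G)) ≤ Nat.card (Subgroup.centralizer ({t} : Set G))) : Nat.card G < Nat.card (Subgroup.centralizer ({t} : Set G)) ^ 3 := by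
  classical
  -- every conjugate of `t` commutes with an involution of `C(s)`
  have key : ∀ c : {v : G // IsConj t v}, ∃ w : G,
      w ∈ Subgroup.centralizer ({s} : Set G) ∧ orderOf w = 2 ∧ (c : G) ∈ Subgroup.centralizer ({w} : Set G) := by
    rintro ⟨v, hv⟩
    have hvo : orderOf v = 2 := by
      obtain ⟨g, rfl⟩ := isConj_iff.mp hv
      rw [CfsgLib.Involutions.orderOf_conj, ht]
    have hs' := CfsgLib.Involutions.mul_self_eq_one_of_orderOf hs
    have hv' := CfsgLib.Involutions.mul_self_eq_one_of_orderOf hvo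
    rcases Nat.even_or_odd (orderOf (s * v)) with he | ho
    · obtain ⟨h1, h2⟩ := CfsgLib.Involutions.central_half hs' hv' he
      exact ⟨_, Subgroup.mem_centralizer_singleton_iff.mpr h1.eq, CfsgLib.Involutions.orderOf_half he,
        Subgroup.mem_centralizer_singleton_iff.mpr h2.eq.symm⟩
    · obtain ⟨d, -, hd⟩ := CfsgLib.Involutions.exists_conj_eq_of_odd hs' hv' ho
      exact absurd ((isConj_iff.mpr ⟨d, hd⟩).trans hv.symm) hnc
  choose w hwC hwo hwv using key
  set Cs := Subgroup.centralizer ({s} : Set G)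
  set Ct := Subgroup.centralizer ({t} : Set G)
  let Ω := Σ z : {z : G // z ∈ Cs ∧ orderOf z = 2}, ↥(Subgroup.centralizer ({z.1} : Set G))
  haveI : Finite Ω := inferInstanceAs (Finite (Σ z : {z : G // z ∈ Cs ∧ orderOf z = 2}, ↥(Subgroup.centralizer ({z.1} : Set G))))
  have h1 : Nat.card {v : G // IsConj t v} ≤ Nat.card Ω :=
    Nat.card_le_card_of_injective (fun c => (⟨⟨w c, hwC c, hwo c⟩, ⟨c.1, hwv c⟩⟩ : Ω)) fun a b hab =>
      Subtype.ext (congrArg (fun p : Ω => (p.2 : G)) hab)
  haveI := Fintype.ofFinite {z : G // z ∈ Cs ∧ orderOf z = 2}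
  have h2 : Nat.card Ω ≤ Nat.card {z : G // z ∈ Cs ∧ orderOf z = 2} * Nat.card Ct := by
    rw [Nat.card_sigma, Nat.card_eq_fintype_card, ← Finset.card_univ, ← smul_eq_mul]
    exact Finset.sum_le_card_nsmul _ _ _ fun z _ => hmax z.1 z.2.2
  have h3 : Nat.card {z : G // z ∈ Cs ∧ orderOf z = 2} < Nat.card Ct := by
    refine lt_of_lt_of_le ?_ (hmax s hs)
    haveI := Fintype.ofFinite Cs
    rw [Nat.card_eq_fintype_card, Nat.card_eq_fintype_card]
    refine Fintype.card_lt_of_injective_not_surjective (fun z : {z : G // z ∈ Cs ∧ orderOf z = 2} => (⟨z.1, z.2.1⟩ : Cs))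
      (fun a b hab => Subtype.ext (congrArg (fun p : Cs => (p : G)) hab)) fun hsurj => ?_
    obtain ⟨z, hz⟩ := hsurj 1
    have h4 : (z : G) = 1 := congrArg (fun p : Cs => (p : G)) hz
    have := z.2.2
    rw [h4, orderOf_one] at this
    omega
  have h5 : Nat.card G = Nat.card {v : G // IsConj t v} * Nat.card Ct := by
    have e := Subgroup.card_eq_card_quotient_mul_card_subgroup Ct
    rw [e]
    congr 1
    let f : G ⧸ Ct → {v : G // IsConj t v} := Quotient.lift (fun g => ⟨g * t * g⁻¹, isConj_iff.mpr ⟨g, rfl⟩⟩)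
      fun a b hab => by
        apply Subtype.ext
        show a * t * a⁻¹ = b * t * b⁻¹
        have := Subgroup.mem_centralizer_singleton_iff.mp (QuotientGroup.leftRel_apply.mp hab)
        calc a * t * a⁻¹ = a * (t * (a⁻¹ * b)) * b⁻¹ := by group
          _ = b * t * b⁻¹ := by rw [← this]; group
    refine Nat.card_eq_of_bijective f ⟨?_, ?_⟩
    · rintro a b hab
      obtain ⟨a, rfl⟩ := QuotientGroup.mk_surjective a
      obtain ⟨b, rfl⟩ := QuotientGroup.mk_surjective b
      replace hab : a * t * a⁻¹ = b * t * b⁻¹ := congrArg Subtype.val hab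
      rw [QuotientGroup.eq, Subgroup.mem_centralizer_singleton_iff]
      calc a⁻¹ * b * t = a⁻¹ * (b * t * b⁻¹) * b := by group
        _ = t * (a⁻¹ * b) := by rw [← hab]; group
    · rintro ⟨v, hv⟩
      obtain ⟨g, rfl⟩ := isConj_iff.mp hv
      exact ⟨(g : G ⧸ Ct), rfl⟩
  rw [h5]
  calc Nat.card {v : G // IsConj t v} * Nat.card Ct
      ≤ Nat.card {z : G // z ∈ Cs ∧ orderOf z = 2} * Nat.card Ct * Nat.card Ct := Nat.mul_le_mul_right _ (h1.trans h2)
    _ < Nat.card Ct ^ 3 := by
        rw [pow_three, ← mul_assoc]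
        exact Nat.mul_lt_mul_of_pos_right (Nat.mul_lt_mul_of_pos_right h3 Nat.card_pos) Nat.card_pos

end Cfsg.Agent.S0230
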