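import Cfsg.Statements.S0232
import Cfsg.Agent.Lib.InvCount.BrauerFowler
import Mathlib.GroupTheory.SchurZassenhaus
-- import your own Cfsg.Agent.* helpers here

set_option autoImplicit false
open Cfsg

namespace Cfsg.Agent.S0232

/-- A finite group G of even order greater than 2 has a proper subgroup H with |G| < |H|^3. -/
theorem result {G : Type*} [Group G] [Finite G] (heven : Even (Nat.card G)) (hgt : 2 < Nat.card G) : ∃ H : Subgroup G, H ≠ ⊤ ∧ Nat.card G < (Nat.card H) ^ 3 := by
  induction hN : Nat.card G using Nat.strong_induction_on generalizing G with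
  | _ N ih =>
    subst hN
    obtain ⟨t, ht⟩ := CfsgLib.InvCount.exists_inv heven
    haveI : Nontrivial G := nontrivial_of_ne t 1 fun e => by rw [e, orderOf_one] at ht; omega
    by_cases hidx : ∃ H : Subgroup G, H.index = 2
    · obtain ⟨H, hH⟩ := hidx
      refine ⟨H, fun e => (by rw [e, Subgroup.index_top] at hH; omega), ?_⟩
      have e := H.card_mul_index
      rw [hH] at e
      have h2 : 2 ≤ Nat.card H := by omega
      rw [pow_three, ← e]
      nlinarith
    by_cases hZ : Odd (Nat.card (Subgroup.center G))
    · obtain ⟨H, hH, h | h⟩ := CfsgLib.InvCount.brauer_fowler heven hZ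
      · exact absurd ⟨H, h⟩ hidx
      obtain ⟨K, hK, hmax⟩ := CfsgLib.InvCount.exists_max_proper (G := G)
      refine ⟨K, hK, ?_⟩
      set c := Nat.card (Subgroup.centralizer ({t} : Set G)) with hc
      have hcne : Subgroup.centralizer ({t} : Set G) ≠ ⊤ := by
        intro e
        have hxZ : t ∈ Subgroup.center G := Subgroup.mem_center_iff.mpr fun g =>
          Subgroup.mem_centralizer_singleton_iff.mp (e ▸ Subgroup.mem_top g)
        have h := Subgroup.orderOf_dvd_natCard _ hxZ
        rw [ht] at h
        exact Nat.not_even_iff_odd.mpr hZ (even_iff_two_dvd.mpr h)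
      have hcK : c ≤ Nat.card K := hmax _ hcne
      have hHK : Nat.card H ≤ Nat.card K := hmax _ hH
      have hG := CfsgLib.InvCount.card_le_mul ht
      rw [← hc] at hG
      have hK2 : 2 ≤ c := by
        rw [hc, ← ht]
        exact Nat.le_of_dvd Nat.card_pos (Subgroup.orderOf_dvd_natCard _ (Subgroup.mem_centralizer_singleton_iff.mpr rfl))
      set n := Nat.card {t : G // orderOf t = 2} with hn
      rw [← H.card_mul_index] at h hG ⊢
      have hj : 0 < H.index := Nat.pos_of_ne_zero Subgroup.index_ne_zero_of_finite
      have h1 : 2 * n ^ 2 < Nat.card H * (n * c + n) := by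
        have h' : H.index * (2 * n ^ 2) < H.index * (Nat.card H * (Nat.card H * H.index + n)) := by
          calc H.index * (2 * n ^ 2) = 2 * H.index * n ^ 2 := by ring
            _ < _ := h
            _ = _ := by ring
        calc 2 * n ^ 2 < Nat.card H * (Nat.card H * H.index + n) := Nat.lt_of_mul_lt_mul_left h'
          _ ≤ _ := Nat.mul_le_mul_left _ (Nat.add_le_add_right hG n)
      have h2 : 2 * n < Nat.card H * (c + 1) := by
        refine Nat.lt_of_mul_lt_mul_left (a := n) ?_
        calc n * (2 * n) = 2 * n ^ 2 := by ring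
          _ < Nat.card H * (n * c + n) := h1
          _ = n * (Nat.card H * (c + 1)) := by ring
      have h3 : Nat.card H * (c + 1) * c ≤ Nat.card K * (2 * (Nat.card K * Nat.card K)) := by
        calc Nat.card H * (c + 1) * c = Nat.card H * ((c + 1) * c) := by ring
          _ ≤ _ := Nat.mul_le_mul hHK (by nlinarith)
      have h4 : 2 * n * c < Nat.card H * (c + 1) * c := Nat.mul_lt_mul_of_pos_right h2 (by omega)
      rw [pow_three]
      nlinarith
    · obtain ⟨z, hz⟩ := CfsgLib.InvCount.exists_inv (Nat.not_odd_iff_even.mp hZ)
      have hzo : orderOf (z : G) = 2 := by rw [Subgroup.orderOf_coe]; exact hz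
      haveI hZn : (Subgroup.zpowers (z : G)).Normal := ⟨fun x hx g => by
        rw [Subgroup.mem_center_iff.mp (Subgroup.zpowers_le.mpr z.2 hx) g, mul_inv_cancel_right]; exact hx⟩
      set Z := Subgroup.zpowers (z : G) with hZdef
      have hcard : 2 * Nat.card (G ⧸ Z) = Nat.card G := by
        rw [← Subgroup.index_eq_card, ← Z.card_mul_index, hZdef, Nat.card_zpowers, hzo]
      by_cases h4 : Nat.card (G ⧸ Z) ≤ 2
      · refine ⟨Z, fun e => ?_, ?_⟩
        · have h5 : Nat.card Z = Nat.card G := by rw [e, Subgroup.card_top]
          rw [hZdef, Nat.card_zpowers, hzo] at h5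
          omega
        · rw [hZdef, Nat.card_zpowers, hzo]; omega
      · by_cases heq : Even (Nat.card (G ⧸ Z))
        · obtain ⟨K, hK, hlt⟩ := ih _ (by omega) heq (by omega) rfl
          set π := QuotientGroup.mk' Z with hπ
          refine ⟨K.comap π, fun e => hK ?_, ?_⟩
          · rw [← Subgroup.map_comap_eq_self_of_surjective (QuotientGroup.mk'_surjective Z) K, e,
              ← MonoidHom.range_eq_map, MonoidHom.range_eq_top.mpr (QuotientGroup.mk'_surjective Z)]
          · have h1 : Nat.card (K.comap π) = 2 * Nat.card K := by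
              have e1 := (K.comap π).card_mul_index
              rw [Subgroup.index_comap_of_surjective K (QuotientGroup.mk'_surjective Z), ← hcard, ← K.card_mul_index] at e1
              exact Nat.eq_of_mul_eq_mul_right (Nat.pos_of_ne_zero (Subgroup.index_ne_zero_of_finite (H := K)))
                (by rw [e1]; ring)
            rw [h1, ← hcard, pow_three]
            rw [pow_three] at hlt
            nlinarith
        · obtain ⟨x, hx⟩ := Nat.exists_prime_and_dvd (n := Nat.card (G ⧸ Z)) (by omega)
          exfalso
          refine hidx ?_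
          haveI : Fact (Nat.Prime 2) := ⟨Nat.prime_two⟩
          obtain ⟨N, hN⟩ := Subgroup.exists_right_complement'_of_coprime (N := Z) (by
            rw [hZdef, Nat.card_zpowers, hzo, ← hZdef, Subgroup.index_eq_card]
            exact Nat.coprime_two_left.mpr (Nat.not_even_iff_odd.mp heq))
          refine ⟨N, ?_⟩
          rw [hN.index_eq_card, hZdef, Nat.card_zpowers, hzo]

end Cfsg.Agent.S0232
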