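import Cfsg.Statements.S0234
import Cfsg.Agent.Lib.InvCount.BrauerFowler
import Cfsg.Agent.Lib.SmallOrder
import Cfsg.Agent.Lib.CharTheory.Burnside
-- import your own Cfsg.Agent.* helpers here

set_option autoImplicit false
open Cfsg

namespace Cfsg.Agent.S0234

/-- In a finite simple group G of even order greater than 2, the number n of involutions satisfies 3n < |G|. -/
theorem result {G : Type*} [Group G] [Finite G] [IsSimpleGroup G] (heven : Even (Nat.card G)) (hgt : 2 < Nat.card G) : 3 * Nat.card {t : G // orderOf t = 2} < Nat.card G := by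
  classical
  by_contra hcon
  push Not at hcon
  set n := Nat.card {t : G // orderOf t = 2} with hn
  have hns : ¬ Group.IsSolvable G := by
    intro hs
    obtain ⟨t, ht⟩ := CfsgLib.InvCount.exists_inv heven
    haveI := hs
    haveI : Nontrivial G := nontrivial_of_ne t 1 fun e => by rw [e, orderOf_one] at ht; omega
    have hlt := IsSolvable.commutator_lt_top_of_nontrivial G
    rcases Subgroup.Normal.eq_bot_or_eq_top (inferInstance : (commutator G).Normal) with h | h
    · have hab : ∀ a b : G, a * b = b * a := fun a b => by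
        have hm : commutatorElement.bracket a b ∈ commutator G := Subgroup.commutator_mem_commutator (Subgroup.mem_top a) (Subgroup.mem_top b)
        rw [h, Subgroup.mem_bot] at hm
        exact commutatorElement_eq_one_iff_mul_comm.mp hm
      have hc := CfsgLib.InvCount.center_simple hgt heven
      rw [show Subgroup.center G = ⊤ from (Subgroup.eq_top_iff' _).mpr fun a => Subgroup.mem_center_iff.mpr fun b => hab b a,
        Subgroup.card_top] at hc
      exact Nat.not_even_iff_odd.mpr hc heven
    · exact hlt.ne h
  obtain ⟨H, hH, h⟩ := CfsgLib.InvCount.brauer_fowler heven (CfsgLib.InvCount.center_simple hgt heven)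
  have hidx : H.index ≤ 5 := by
    rcases h with h | h
    · omega
    · by_contra h6
      have h1 : Nat.card G * (Nat.card G + n) ≤ 3 * n * (3 * n + n) :=
        Nat.mul_le_mul hcon (Nat.add_le_add_right hcon n)
      have h2 : 2 * 6 * n ^ 2 ≤ 2 * H.index * n ^ 2 := Nat.mul_le_mul_right _ (by omega)
      nlinarith
  let φ := MulAction.toPermHom G (G ⧸ H)
  have hφ : Function.Injective φ := by
    rw [← MonoidHom.ker_eq_bot_iff]
    rcases Subgroup.Normal.eq_bot_or_eq_top (inferInstance : φ.ker.Normal) with h | h
    · exact h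
    · exfalso; apply hH
      rw [← Subgroup.normalCore_eq_ker] at h
      exact top_le_iff.mp (h.ge.trans H.normalCore_le)
  haveI := Fintype.ofFinite (G ⧸ H)
  obtain ⟨e⟩ : Nonempty ((G ⧸ H) ↪ Fin 5) := Function.Embedding.nonempty_of_card_le (by
    rw [Fintype.card_fin, ← Nat.card_eq_fintype_card, ← Subgroup.index_eq_card]
    exact hidx)
  let ψ : G →* Equiv.Perm (Fin 5) := (Equiv.Perm.viaEmbeddingHom e).comp φ
  have hψ : Function.Injective ψ := (Equiv.Perm.viaEmbeddingHom_injective e).comp hφ
  have hA : ∀ g, ψ g ∈ alternatingGroup (Fin 5) := by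
    intro g
    rcases Subgroup.Normal.eq_bot_or_eq_top (inferInstance : (Equiv.Perm.sign.comp ψ).ker.Normal) with h | h
    · exfalso
      have := Nat.card_le_card_of_injective _ ((MonoidHom.ker_eq_bot_iff _).mp h)
      rw [Nat.card_eq_fintype_card (α := ℤˣ), Fintype.card_units_int] at this
      omega
    · exact Equiv.Perm.mem_alternatingGroup.mpr (h ▸ Subgroup.mem_top g : g ∈ (Equiv.Perm.sign.comp ψ).ker)
  let χ : G →* alternatingGroup (Fin 5) := ψ.codRestrict _ hA
  have hχ : Function.Injective χ := fun a b h => hψ (congrArg Subtype.val h)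
  have hA5 : Nat.card (alternatingGroup (Fin 5)) = 60 := by
    rw [Nat.card_eq_fintype_card]; decide +kernel
  have htop : χ.range = ⊤ := by
    by_contra hne
    have hd := CfsgLib.SmallOrder.card_dvd_factorial_index (G := alternatingGroup (Fin 5)) hne
    rw [hA5] at hd
    have e1 := χ.range.card_mul_index
    rw [← Nat.card_congr (MonoidHom.ofInjective hχ).toEquiv, hA5] at e1
    have hj : 5 ≤ χ.range.index := by
      by_contra hj
      have := Nat.le_of_dvd (Nat.factorial_pos _) hd
      have h4 : χ.range.index.factorial ≤ Nat.factorial 4 := Nat.factorial_le (by omega)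
      rw [show Nat.factorial 4 = 24 from rfl] at h4
      omega
    have hle : Nat.card G ≤ 12 := by nlinarith
    have hd60 : Nat.card G ∣ 60 := ⟨_, e1.symm⟩
    have hev2 := heven.two_dvd
    haveI : Fact (Nat.Prime 2) := ⟨Nat.prime_two⟩
    have hcases : Nat.card G = 4 ∨ Nat.card G = 6 ∨ Nat.card G = 10 ∨ Nat.card G = 12 := by
      obtain ⟨k, hk⟩ := hev2
      have : k ≤ 6 := by omega
      obtain ⟨m, hm⟩ := hd60
      rw [hk] at hm hgt ⊢
      interval_cases k <;> omega
    refine hns ?_
    rcases hcases with h | h | h | h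
    · exact CfsgLib.CharTheory.isSolvable_of_card_two_primes Nat.prime_two Nat.prime_three (a := 2) (b := 0) (by rw [h]; norm_num)
    · exact CfsgLib.CharTheory.isSolvable_of_card_two_primes Nat.prime_two Nat.prime_three (a := 1) (b := 1) (by rw [h]; norm_num)
    · exact CfsgLib.CharTheory.isSolvable_of_card_two_primes Nat.prime_two Nat.prime_five (a := 1) (b := 1) (by rw [h]; norm_num)
    · exact CfsgLib.CharTheory.isSolvable_of_card_two_primes Nat.prime_two Nat.prime_three (a := 2) (b := 1) (by rw [h]; norm_num)
  let E : G ≃* alternatingGroup (Fin 5) := MulEquiv.ofBijective χ ⟨hχ, MonoidHom.range_eq_top.mp htop⟩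
  have hG : Nat.card G = 60 := (Nat.card_congr E.toEquiv).trans hA5
  have h15 : n = 15 := by
    rw [hn, Nat.card_congr (Equiv.subtypeEquiv E.toEquiv (q := fun t : alternatingGroup (Fin 5) => t ^ 2 = 1 ∧ t ≠ 1) fun g => by
      show orderOf g = 2 ↔ (E g) ^ 2 = 1 ∧ E g ≠ 1
      rw [← E.orderOf_eq, orderOf_eq_prime_iff]), Nat.card_eq_fintype_card]
    decide +kernel
  omega

end Cfsg.Agent.S0234
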