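import Cfsg.Statements.S0235
import Cfsg.Agent.Lib.Involutions
-- import your own Cfsg.Agent.* helpers here

set_option autoImplicit false
open Cfsg

namespace Cfsg.Agent.S0235

/-- If x² ≠ 1, the ordered pairs (u, v) of involutions with uv = x correspond bijectively to the involutions t with t x t⁻¹ = x⁻¹ (via (u, v) ↦ u), so the two counts agree. -/
theorem result {G : Type*} [Group G] [Finite G] (x : G) (hx : x ^ 2 ≠ 1) : Nat.card {p : G × G // orderOf p.1 = 2 ∧ orderOf p.2 = 2 ∧ p.1 * p.2 = x} = Nat.card {t : G // orderOf t = 2 ∧ t * x * t⁻¹ = x⁻¹} := by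
  refine Nat.card_congr
    { toFun := fun q => ⟨q.1.1, q.2.1, ?_⟩
      invFun := fun t => ⟨(t.1, t.1 * x), t.2.1, ?_, ?_⟩
      left_inv := fun q => ?_
      right_inv := fun t => rfl }
  · obtain ⟨⟨a, b⟩, h1, h2, h3⟩ := q
    subst h3
    show a * (a * b) * a⁻¹ = (a * b)⁻¹
    rw [mul_inv_rev, CfsgLib.Involutions.inv_eq_self_of_orderOf h1,
      CfsgLib.Involutions.inv_eq_self_of_orderOf h2, ← mul_assoc,
      CfsgLib.Involutions.mul_self_eq_one_of_orderOf h1, one_mul]
  · obtain ⟨h1, h2⟩ := t.2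
    refine CfsgLib.Involutions.orderOf_eq_two_iff'.mpr ⟨?_, fun e => hx ?_⟩
    · show t.1 * x * (t.1 * x) = 1
      rw [← mul_assoc]
      nth_rewrite 2 [← CfsgLib.Involutions.inv_eq_self_of_orderOf h1]
      rw [h2, inv_mul_cancel]
    · have hxe : x = t.1 := by
        have e' : t.1 * x = 1 := e
        exact (eq_inv_of_mul_eq_one_right e').trans (CfsgLib.Involutions.inv_eq_self_of_orderOf h1)
      rw [hxe, sq, CfsgLib.Involutions.mul_self_eq_one_of_orderOf h1]
  · show t.1 * (t.1 * x) = x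
    rw [← mul_assoc, CfsgLib.Involutions.mul_self_eq_one_of_orderOf t.2.1, one_mul]
  · obtain ⟨⟨a, b⟩, h1, h2, h3⟩ := q
    apply Subtype.ext
    refine Prod.ext rfl ?_
    show a * x = b
    rw [← h3, ← mul_assoc, CfsgLib.Involutions.mul_self_eq_one_of_orderOf h1, one_mul]

end Cfsg.Agent.S0235
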