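import Cfsg.Statements.S0236
import Cfsg.Agent.Lib.Involutions
-- import your own Cfsg.Agent.* helpers here

set_option autoImplicit false
open Cfsg

namespace Cfsg.Agent.S0236

/-- If x is an involution, the number of ordered pairs (u, v) of involutions with uv = x, plus one, equals the number of involutions in the centralizer of x. -/
theorem result {G : Type*} [Group G] [Finite G] (x : G) (hx : orderOf x = 2) : Nat.card {p : G × G // orderOf p.1 = 2 ∧ orderOf p.2 = 2 ∧ p.1 * p.2 = x} + 1 = Nat.card {t : G // orderOf t = 2 ∧ Commute t x} := by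
  classical
  have := Fintype.ofFinite G
  have hxx := CfsgLib.Involutions.mul_self_eq_one_of_orderOf hx
  have hA : ∀ a b : G, orderOf a = 2 → orderOf b = 2 → a * b = x → b = a * x ∧ Commute a x ∧ a ≠ x := by
    intro a b ha hb hab
    have haa := CfsgLib.Involutions.mul_self_eq_one_of_orderOf ha
    have hb' : b = a * x := by rw [← hab, ← mul_assoc, haa, one_mul]
    refine ⟨hb', ?_, ?_⟩
    · have hbb := CfsgLib.Involutions.mul_self_eq_one_of_orderOf hb
      rw [hb'] at hbb
      have h4 := eq_inv_of_mul_eq_one_left hbb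
      rwa [mul_inv_rev, CfsgLib.Involutions.inv_eq_self_of_orderOf ha, inv_eq_of_mul_eq_one_right hxx] at h4
    · intro e
      rw [e, mul_eq_left] at hab
      rw [hab, orderOf_one] at hb
      exact absurd hb (by decide)
  have hB : ∀ t : G, orderOf t = 2 → Commute t x → t ≠ x → orderOf (t * x) = 2 ∧ t * (t * x) = x := by
    intro t ht hc hne
    have htt := CfsgLib.Involutions.mul_self_eq_one_of_orderOf ht
    refine ⟨CfsgLib.Involutions.orderOf_eq_two_iff'.mpr ⟨?_, fun e => hne ?_⟩, by rw [← mul_assoc, htt, one_mul]⟩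
    · rw [mul_assoc, ← mul_assoc x, ← hc.eq, mul_assoc t x x, hxx, mul_one, htt]
    · exact (eq_inv_of_mul_eq_one_left e).trans (inv_eq_of_mul_eq_one_right hxx)
  have e : {p : G × G // orderOf p.1 = 2 ∧ orderOf p.2 = 2 ∧ p.1 * p.2 = x} ≃ {t : G // orderOf t = 2 ∧ Commute t x ∧ t ≠ x} :=
    { toFun := fun q => ⟨q.1.1, q.2.1, (hA _ _ q.2.1 q.2.2.1 q.2.2.2).2⟩
      invFun := fun t => ⟨(t.1, t.1 * x), t.2.1, hB _ t.2.1 t.2.2.1 t.2.2.2⟩
      left_inv := fun q => Subtype.ext (Prod.ext rfl (hA _ _ q.2.1 q.2.2.1 q.2.2.2).1.symm)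
      right_inv := fun t => Subtype.ext rfl }
  rw [Nat.card_congr e]
  simp only [Nat.card_eq_fintype_card, Fintype.card_subtype]
  rw [← Finset.card_insert_of_notMem (a := x) (by simp)]
  congr 1
  ext g
  simp only [Finset.mem_insert, Finset.mem_filter, Finset.mem_univ, true_and]
  constructor
  · rintro (rfl | h)
    · exact ⟨hx, Commute.refl _⟩
    · exact ⟨h.1, h.2.1⟩
  · intro h
    by_cases hg : g = x
    · exact Or.inl hg
    · exact Or.inr ⟨h.1, h.2, hg⟩

end Cfsg.Agent.S0236
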