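import Cfsg.Statements.S0237
import Mathlib.GroupTheory.Subgroup.Centralizer
import Mathlib.Tactic.Group
-- import your own Cfsg.Agent.* helpers here

set_option autoImplicit false
open Cfsg

namespace Cfsg.Agent.S0237

/-- If x is real (conjugate to x⁻¹) in a finite group G, the number of g with g x g⁻¹ = x⁻¹ equals |C_G(x)|. -/
theorem result {G : Type*} [Group G] [Finite G] (x : G) (hreal : IsConj x x⁻¹) : Nat.card {g : G // g * x * g⁻¹ = x⁻¹} = Nat.card (Subgroup.centralizer ({x} : Set G)) := by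
  obtain ⟨g, hg⟩ := isConj_iff.mp hreal
  refine (Nat.card_congr ((Equiv.mulLeft g).subtypeEquiv fun c => ?_)).symm
  show c ∈ Subgroup.centralizer ({x} : Set G) ↔ g * c * x * (g * c)⁻¹ = x⁻¹
  rw [Subgroup.mem_centralizer_singleton_iff, ← hg]
  constructor
  · intro h
    calc g * c * x * (g * c)⁻¹ = g * (c * x * c⁻¹) * g⁻¹ := by group
      _ = _ := by rw [h, mul_inv_cancel_right]
  · intro h
    have h' : g * (c * x * c⁻¹) * g⁻¹ = g * x * g⁻¹ := by rw [← h]; group
    exact mul_inv_eq_iff_eq_mul.mp (mul_left_cancel (mul_right_cancel h'))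

end Cfsg.Agent.S0237
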