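import Cfsg.Statements.S0238
import Cfsg.Agent.Lib.Involutions
import Mathlib.Data.Fintype.Card
-- import your own Cfsg.Agent.* helpers here

set_option autoImplicit false
open Cfsg

namespace Cfsg.Agent.S0238

/-- For every x in a finite group G, the number c of ordered pairs (u, v) of involutions with uv = x is at most |C_G(x)|; c = 0 when x is not conjugate to x⁻¹; and c + 2 ≤ |C_G(x)| when x is an involution. -/
theorem result {G : Type*} [Group G] [Finite G] (x : G) : Nat.card {p : G × G // orderOf p.1 = 2 ∧ orderOf p.2 = 2 ∧ p.1 * p.2 = x} ≤ Nat.card (Subgroup.centralizer ({x} : Set G)) ∧ (¬ IsConj x x⁻¹ → Nat.card {p : G × G // orderOf p.1 = 2 ∧ orderOf p.2 = 2 ∧ p.1 * p.2 = x} = 0) ∧ (orderOf x = 2 → Nat.card {p : G × G // orderOf p.1 = 2 ∧ orderOf p.2 = 2 ∧ p.1 * p.2 = x} + 2 ≤ Nat.card (Subgroup.centralizer ({x} : Set G))) := by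
  set P := {p : G × G // orderOf p.1 = 2 ∧ orderOf p.2 = 2 ∧ p.1 * p.2 = x} with hP
  have hinv : ∀ p : P, p.1.1 * x * p.1.1⁻¹ = x⁻¹ := by
    rintro ⟨⟨u, v⟩, hu, hv, rfl⟩
    exact CfsgLib.Involutions.conj_mul_eq_inv (CfsgLib.Involutions.mul_self_eq_one_of_orderOf hu)
      (CfsgLib.Involutions.mul_self_eq_one_of_orderOf hv)
  have hval : ∀ p q : P, p.1.1 = q.1.1 → p = q := by
    rintro ⟨⟨u, v⟩, hu, hv, h⟩ ⟨⟨u', v'⟩, hu', hv', h'⟩ (rfl : u = u')
    apply Subtype.ext
    exact Prod.ext rfl (mul_left_cancel (h.trans h'.symm))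
  refine ⟨?_, fun hnc => ?_, fun hx => ?_⟩
  · rcases isEmpty_or_nonempty P with hE | ⟨⟨p₀⟩⟩
    · rw [Nat.card_of_isEmpty]
      exact Nat.zero_le _
    · have hmem : ∀ p : P, p₀.1.1⁻¹ * p.1.1 ∈ Subgroup.centralizer ({x} : Set G) := fun p => by
        rw [Subgroup.mem_centralizer_singleton_iff]
        have h1 := hinv p
        rw [← hinv p₀] at h1
        calc p₀.1.1⁻¹ * p.1.1 * x = p₀.1.1⁻¹ * (p.1.1 * x * p.1.1⁻¹) * p.1.1 := by group
          _ = x * (p₀.1.1⁻¹ * p.1.1) := by rw [h1]; group
      refine Nat.card_le_card_of_injective (fun p => ⟨_, hmem p⟩) fun p q hpq => hval p q ?_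
      exact mul_left_cancel (congrArg Subtype.val hpq)
  · haveI : IsEmpty P := ⟨fun p => hnc (isConj_iff.mpr ⟨p.1.1, hinv p⟩)⟩
    exact Nat.card_of_isEmpty
  · have hx1 : x⁻¹ = x := CfsgLib.Involutions.inv_eq_self_of_orderOf hx
    have hmem : ∀ p : P, p.1.1 ∈ Subgroup.centralizer ({x} : Set G) := fun p => by
      rw [Subgroup.mem_centralizer_singleton_iff]
      have h1 := hinv p
      rw [hx1] at h1
      exact mul_inv_eq_iff_eq_mul.mp h1
    have hxC : x ∈ Subgroup.centralizer ({x} : Set G) := Subgroup.mem_centralizer_singleton_iff.mpr rfl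
    let f : Option (Option P) → ↥(Subgroup.centralizer ({x} : Set G)) := fun o => match o with
      | none => 1
      | some none => ⟨x, hxC⟩
      | some (some p) => ⟨p.1.1, hmem p⟩
    have hne1 : ∀ p : P, p.1.1 ≠ 1 := fun p e => by
      have := p.2.1
      rw [e, orderOf_one] at this
      omega
    have hnex : ∀ p : P, p.1.1 ≠ x := fun p e => by
      have h2 := p.2.2.2
      rw [e, mul_eq_left] at h2
      have := p.2.2.1
      rw [h2, orderOf_one] at this
      omega
    have hx0 : x ≠ 1 := fun e => by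
      rw [e, orderOf_one] at hx
      omega
    have hf : Function.Injective f := by
      rintro (- | - | p) (- | - | q) h <;> simp only [f, Subtype.ext_iff, OneMemClass.coe_one] at h
      all_goals first
        | rfl
        | exact absurd h hx0
        | exact absurd h.symm hx0
        | exact absurd h (hne1 _)
        | exact absurd h.symm (hne1 _)
        | exact absurd h (hnex _)
        | exact absurd h.symm (hnex _)
        | rw [hval p q h]
    have h3 := Nat.card_le_card_of_injective f hf
    rw [Finite.card_option, Finite.card_option] at h3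
    exact h3

end Cfsg.Agent.S0238
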