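import Cfsg.Statements.S0239
import Mathlib.GroupTheory.OrderOfElement
import Mathlib.Tactic.Group
import Mathlib.Algebra.Group.End
-- import your own Cfsg.Agent.* helpers here

set_option autoImplicit false
open Cfsg

namespace Cfsg.Agent.S0239

/-- If some nontrivial element x of a finite group G is conjugate to x⁻¹, then |G| is even. -/
theorem result {G : Type*} [Group G] [Finite G] (x : G) (hx : x ≠ 1) (hreal : IsConj x x⁻¹) : Even (Nat.card G) := by
  obtain ⟨g, hg⟩ := isConj_iff.mp hreal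
  rw [← Nat.not_odd_iff_even]
  intro hodd
  have hodd2 : ∀ a : G, a ^ 2 = 1 → a = 1 := fun a ha => by
    rw [← orderOf_eq_one_iff]
    exact Nat.eq_one_of_dvd_coprimes (Nat.coprime_two_left.mpr hodd) (orderOf_dvd_of_pow_eq_one ha) (orderOf_dvd_natCard a)
  have hc : Commute (g ^ 2) x := by
    have h2 : g * x⁻¹ * g⁻¹ = x := by rw [← conj_inv, hg, inv_inv]
    rw [sq]
    refine mul_inv_eq_iff_eq_mul.mp ?_
    calc g * g * x * (g * g)⁻¹ = g * (g * x * g⁻¹) * g⁻¹ := by group
      _ = x := by rw [hg, h2]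
  have hodd' : Odd (orderOf g) := hodd.of_dvd_nat (orderOf_dvd_natCard g)
  obtain ⟨k, hk⟩ := hodd'
  have hgc : Commute g x := by
    have h3 := hc.pow_left (k + 1)
    rwa [← pow_mul, show 2 * (k + 1) = orderOf g + 1 by omega, pow_succ, pow_orderOf_eq_one, one_mul] at h3
  rw [hgc.eq, mul_inv_cancel_right] at hg
  exact hx (hodd2 x (by rw [sq]; exact eq_inv_iff_mul_eq_one.mp hg))

end Cfsg.Agent.S0239
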