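import Cfsg.Statements.S0240
import Cfsg.Agent.Lib.Involutions
import Mathlib.Data.Fintype.Card
-- import your own Cfsg.Agent.* helpers here

set_option autoImplicit false
open Cfsg

namespace Cfsg.Agent.S0240

/-- Let G be a finite group with n involutions and H a subgroup with |H|·(n+1) > |G|. Then some nontrivial h ∈ H is strongly real in G: an involution t of G satisfies t h t⁻¹ = h⁻¹. -/
theorem result {G : Type*} [Group G] [Finite G] (H : Subgroup G) (hH : Nat.card G < Nat.card H * (Nat.card {t : G // orderOf t = 2} + 1)) : ∃ h : G, h ∈ H ∧ h ≠ 1 ∧ ∃ t : G, orderOf t = 2 ∧ t * h * t⁻¹ = h⁻¹ := by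
  have hcard : Nat.card G < Nat.card (↥H × Option {t : G // orderOf t = 2}) := by
    rw [Nat.card_prod, Finite.card_option]
    exact hH
  let f : ↥H × Option {t : G // orderOf t = 2} → G := fun p => (p.2.elim 1 Subtype.val) * (p.1 : G)
  have hninj : ¬ Function.Injective f := fun hinj => absurd (Nat.card_le_card_of_injective f hinj) (not_le.mpr hcard)
  rw [Function.Injective] at hninj
  push Not at hninj
  obtain ⟨⟨a, u⟩, ⟨b, v⟩, he, hne⟩ := hninj
  replace he : u.elim 1 Subtype.val * (a : G) = v.elim 1 Subtype.val * (b : G) := he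
  have huv : u ≠ v := by
    rintro rfl
    exact hne (by rw [Subtype.ext (mul_left_cancel he)])
  have hinv : ∀ w : {t : G // orderOf t = 2}, (w : G)⁻¹ = w := fun w => CfsgLib.Involutions.inv_eq_self_of_orderOf w.2
  rcases u with - | u <;> rcases v with - | v
  · exact absurd rfl huv
  · replace he : 1 * (a : G) = (v : G) * b := he
    have hv : (v : G) = a * (b : G)⁻¹ := by rw [one_mul] at he; rw [he]; group
    refine ⟨v, hv ▸ mul_mem a.2 (inv_mem b.2), fun e => ?_, v, v.2, by rw [mul_inv_cancel_right, hinv]⟩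
    simpa [e] using v.2
  · replace he : (u : G) * a = 1 * (b : G) := he
    have hu : (u : G) = b * (a : G)⁻¹ := by rw [one_mul] at he; rw [← he]; group
    refine ⟨u, hu ▸ mul_mem b.2 (inv_mem a.2), fun e => ?_, u, u.2, by rw [mul_inv_cancel_right, hinv]⟩
    simpa [e] using u.2
  · replace he : (u : G) * a = (v : G) * b := he
    have h1 : (v : G) * u = (b : G) * (a : G)⁻¹ := by
      calc (v : G) * u = (v : G)⁻¹ * ((u : G) * a) * (a : G)⁻¹ := by rw [hinv]; group
        _ = (b : G) * (a : G)⁻¹ := by rw [he]; group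
    refine ⟨(v : G) * u, h1 ▸ mul_mem b.2 (inv_mem a.2), fun e => ?_, v, v.2,
      CfsgLib.Involutions.conj_mul_eq_inv (CfsgLib.Involutions.mul_self_eq_one_of_orderOf v.2)
        (CfsgLib.Involutions.mul_self_eq_one_of_orderOf u.2)⟩
    have : (u : G) = v := by rw [← hinv v]; exact eq_inv_of_mul_eq_one_right e
    exact huv (by rw [Subtype.ext this])

end Cfsg.Agent.S0240
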