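import Cfsg.Statements.S0241
import Cfsg.Agent.Lib.Involutions
-- import your own Cfsg.Agent.* helpers here

set_option autoImplicit false
open Cfsg

namespace Cfsg.Agent.S0241

/-- If x ≠ 1 is conjugate to x⁻¹ in a finite group G and |C_G(x)| is odd, then some involution t satisfies t x t⁻¹ = x⁻¹. -/
theorem result {G : Type*} [Group G] [Finite G] (x : G) (hx : x ≠ 1) (hreal : IsConj x x⁻¹) (hodd : Odd (Nat.card (Subgroup.centralizer ({x} : Set G)))) : ∃ t : G, orderOf t = 2 ∧ t * x * t⁻¹ = x⁻¹ := by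
  obtain ⟨g, hg⟩ := isConj_iff.mp hreal
  have hginv : g * x⁻¹ * g⁻¹ = x := by rw [← conj_inv, hg, inv_inv]
  have hg2 : g * g ∈ Subgroup.centralizer ({x} : Set G) := by
    rw [Subgroup.mem_centralizer_singleton_iff]
    have e : g * g * x * (g * g)⁻¹ = x := by
      calc g * g * x * (g * g)⁻¹ = g * (g * x * g⁻¹) * g⁻¹ := by group
        _ = x := by rw [hg, hginv]
    exact mul_inv_eq_iff_eq_mul.mp e
  obtain ⟨k, hk⟩ := Odd.of_dvd_nat hodd (Subgroup.orderOf_dvd_natCard _ hg2)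
  refine ⟨g * (g * g) ^ k, ?_, ?_⟩
  · rw [CfsgLib.Involutions.orderOf_eq_two_iff']
    have e : g * (g * g) ^ k = g ^ (2 * k + 1) := by rw [← pow_two, ← pow_mul, ← pow_succ']
    constructor
    · rw [e, ← pow_add, show 2 * k + 1 + (2 * k + 1) = 2 * (2 * k + 1) by omega, pow_mul, ← hk, sq,
        pow_orderOf_eq_one]
    · intro h1
      have hgk : g = ((g * g) ^ k)⁻¹ := eq_inv_of_mul_eq_one_left h1
      have hgC : g ∈ Subgroup.centralizer ({x} : Set G) := hgk ▸ inv_mem (pow_mem hg2 k)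
      rw [Subgroup.mem_centralizer_singleton_iff] at hgC
      rw [hgC, mul_inv_cancel_right] at hg
      have hx2 : orderOf x = 2 := CfsgLib.Involutions.orderOf_eq_two_iff'.mpr ⟨eq_inv_iff_mul_eq_one.mp hg, hx⟩
      have hxC : x ∈ Subgroup.centralizer ({x} : Set G) := Subgroup.mem_centralizer_singleton_iff.mpr rfl
      have h2 := Subgroup.orderOf_dvd_natCard _ hxC
      rw [hx2] at h2
      exact Nat.not_even_iff_odd.mpr hodd (even_iff_two_dvd.mpr h2)
  · have hc := Subgroup.mem_centralizer_singleton_iff.mp (pow_mem hg2 k)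
    calc g * (g * g) ^ k * x * (g * (g * g) ^ k)⁻¹ = g * ((g * g) ^ k * x) * ((g * g) ^ k)⁻¹ * g⁻¹ := by group
      _ = g * x * g⁻¹ := by rw [hc]; group
      _ = x⁻¹ := hg

end Cfsg.Agent.S0241
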