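import Cfsg.Statements.S0250
import Mathlib
import Cfsg.Agent.Lib.SLCard

set_option autoImplicit false
open Cfsg

namespace Cfsg.Agent.S0250



/-- SL_2(2) is isomorphic to S_3. -/
theorem result {F : Type*} [Field F] [Fintype F] (hF : Fintype.card F = 2) : Nonempty (Matrix.SpecialLinearGroup (Fin 2) F ≃* Equiv.Perm (Fin 3)) := by
  classical
  haveI : Fintype (Projectivization F (Fin 2 → F)) := Fintype.ofFinite _
  have hP : Fintype.card (Projectivization F (Fin 2 → F)) = 3 := by
    rw [← Nat.card_eq_fintype_card, Projectivization.card_of_finrank_two F (Fin 2 → F) (by simp),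
      Nat.card_eq_fintype_card, hF]
  let φ : Matrix.SpecialLinearGroup (Fin 2) F →* Equiv.Perm (Fin 3) :=
    ((Fintype.equivFinOfCardEq hP).permCongrHom.toMonoidHom).comp (MulAction.toPermHom _ _)
  have hinj : Function.Injective φ := by
    show Function.Injective (⇑((Fintype.equivFinOfCardEq hP).permCongrHom) ∘ ⇑(MulAction.toPermHom (Matrix.SpecialLinearGroup (Fin 2) F) (Projectivization F (Fin 2 → F))))
    refine Function.Injective.comp (g := ⇑((Fintype.equivFinOfCardEq hP).permCongrHom)) (MulEquiv.injective _) ?_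
    rw [← MonoidHom.ker_eq_bot_iff, Projectivization.SL_mulAction_ker, ← Subgroup.card_eq_one,
      CfsgLib.SLCard.card_SL_center (by norm_num), hF]
    rfl
  have hc : Nat.card (Matrix.SpecialLinearGroup (Fin 2) F) = Nat.card (Equiv.Perm (Fin 3)) := by
    rw [CfsgLib.SLCard.card_SL_two, hF, Nat.card_perm, Nat.card_fin]
    rfl
  exact ⟨MulEquiv.ofBijective φ ((Nat.bijective_iff_injective_and_card φ).mpr ⟨hinj, hc⟩)⟩

end Cfsg.Agent.S0250
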