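import Cfsg.Statements.S0255
import Mathlib
import Cfsg.Agent.Lib.SmallSimple.Order168

set_option autoImplicit false
open Cfsg

namespace Cfsg.Agent.S0255



/-- PSL_2(7) is isomorphic to PSL_3(2). -/
theorem result {F K : Type*} [Field F] [Fintype F] [Field K] [Fintype K] (hF : Fintype.card F = 7) (hK : Fintype.card K = 2) : Nonempty (Matrix.ProjectiveSpecialLinearGroup (Fin 2) F ≃* Matrix.ProjectiveSpecialLinearGroup (Fin 3) K) := by
  haveI hs2 : IsSimpleGroup (Matrix.ProjectiveSpecialLinearGroup (Fin 2) F) :=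
    Matrix.ProjectiveSpecialLinearGroup.rank_two_simple (by rw [Nat.card_eq_fintype_card, hF]; norm_num)
  haveI hs3 : IsSimpleGroup (Matrix.ProjectiveSpecialLinearGroup (Fin 3) K) := CfsgLib.SLPerfect.isSimpleGroup le_rfl
  refine CfsgLib.Order168.nonempty_mulEquiv ?_ ?_
  · have h := CfsgLib.SLCard.gcd_mul_card_PSL (F := F) (n := 2) (by norm_num)
    rw [CfsgLib.SLCard.card_SL_two, hF] at h
    have h' : 2 * Nat.card (Matrix.ProjectiveSpecialLinearGroup (Fin 2) F) = 336 := h
    omega
  · have h := CfsgLib.SLCard.gcd_mul_card_PSL (F := K) (n := 3) (by norm_num)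
    have h3 := CfsgLib.SLCard.card_units_mul_card_SL (F := K) (n := 3) (by norm_num)
    rw [Matrix.card_GL_field, hK] at h3
    rw [hK] at h
    simp [Fin.prod_univ_three] at h h3
    omega

end Cfsg.Agent.S0255
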