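import Cfsg.Statements.S0257
import Mathlib
import Cfsg.Agent.Lib.SLCard
import Cfsg.Agent.S0251
import Cfsg.Agent.S0261

set_option autoImplicit false
open Cfsg

namespace Cfsg.Agent.S0257



/-- SL_2(3) has a normal subgroup of index 3 isomorphic to the quaternion group of order 8, and its centre has order 2. -/
theorem result {F : Type*} [Field F] [Fintype F] (hF : Fintype.card F = 3) : (∃ Q : Subgroup (Matrix.SpecialLinearGroup (Fin 2) F), Q.Normal ∧ Q.index = 3 ∧ Nonempty (Q ≃* QuaternionGroup 2)) ∧ Nat.card (Subgroup.center (Matrix.SpecialLinearGroup (Fin 2) F)) = 2 := by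
  classical
  haveI : Fact (Nat.Prime 2) := ⟨Nat.prime_two⟩
  refine ⟨?_, by rw [CfsgLib.SLCard.card_SL_center (by norm_num), hF]; rfl⟩
  obtain ⟨e⟩ := Cfsg.Agent.S0251.result hF
  have h4 : Nat.card (Fin 4) = 4 := Nat.card_fin 4
  let f : Matrix.SpecialLinearGroup (Fin 2) F →* alternatingGroup (Fin 4) :=
    e.toMonoidHom.comp (QuotientGroup.mk' _)
  have hfs : Function.Surjective f := e.surjective.comp (QuotientGroup.mk'_surjective _)
  haveI := alternatingGroup.normal_kleinFour h4
  let Q := (alternatingGroup.kleinFour (Fin 4)).comap f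
  haveI hQn : Q.Normal := inferInstance
  have hK : Nat.card (alternatingGroup.kleinFour (Fin 4)) = 4 := by
    haveI := alternatingGroup.kleinFour_isKleinFour h4
    exact IsKleinFour.card_four
  have hidx : Q.index = 3 := by
    have h1 := (alternatingGroup.kleinFour (Fin 4)).card_mul_index
    rw [hK, nat_card_alternatingGroup, h4] at h1
    rw [Subgroup.index_comap_of_surjective _ hfs]
    have : Nat.factorial 4 = 24 := rfl
    omega
  refine ⟨Q, hQn, hidx, ?_⟩
  have hSL : Nat.card (Matrix.SpecialLinearGroup (Fin 2) F) = 24 := by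
    rw [CfsgLib.SLCard.card_SL_two, hF]; rfl
  have hQc : Nat.card Q = 8 := by
    have h1 := Q.card_mul_index
    rw [hidx, hSL] at h1
    omega
  let P : Sylow 2 (Matrix.SpecialLinearGroup (Fin 2) F) := Sylow.ofCard Q (by
    rw [hQc, hSL, show (24 : ℕ) = 2 ^ 3 * 3 by norm_num, Nat.factorization_mul (by norm_num) (by norm_num),
      Finsupp.add_apply, Nat.factorization_pow_self Nat.prime_two,
      Nat.factorization_eq_zero_of_not_dvd (by norm_num : ¬ 2 ∣ 3)]; rfl)
  obtain ⟨k, hk, ⟨e'⟩⟩ := Cfsg.Agent.S0261.result (by rw [hF]; exact ⟨1, rfl⟩) P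
  have hk' : 4 * 2 ^ k = 8 := by
    have h1 := Nat.card_congr e'.toEquiv
    rw [Nat.card_eq_fintype_card (α := QuaternionGroup (2 ^ k)), QuaternionGroup.card] at h1
    have h2 : Nat.card (P : Subgroup (Matrix.SpecialLinearGroup (Fin 2) F)) = 8 := hQc
    omega
  have hk1 : 2 ^ k = 2 := by omega
  have e2 : QuaternionGroup (2 ^ k) ≃* QuaternionGroup 2 := by rw [hk1]
  exact ⟨e'.trans e2⟩

end Cfsg.Agent.S0257
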