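import Cfsg.Statements.S0264
import Mathlib

set_option autoImplicit false
open Cfsg

namespace Cfsg.Agent.S0264

open Matrix Matrix.SpecialLinearGroup
open scoped commutatorElement

variable {F : Type*} [Field F] {n : ℕ}

local notation "GLn" => Matrix.GeneralLinearGroup (Fin n) F

/-- Diagonal matrices. -/
def dg : (Fin n → Fˣ) →* GLn where
  toFun D := ⟨diagonal fun k => (D k : F), diagonal fun k => ((D k)⁻¹ : Fˣ),
    by rw [diagonal_mul_diagonal, ← diagonal_one]; congr 1; funext k; exact (D k).mul_inv,
    by rw [diagonal_mul_diagonal, ← diagonal_one]; congr 1; funext k; exact (D k).inv_mul⟩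
  map_one' := Units.ext (by simp)
  map_mul' a b := Units.ext (by simp [diagonal_mul_diagonal])

theorem dg_coe (D : Fin n → Fˣ) : ((dg D : GLn) : Matrix (Fin n) (Fin n) F) = diagonal fun k => (D k : F) := rfl

theorem dg_comm_swap (i j : Fin n) (D : Fin n → Fˣ) :
    ∃ w : GLn, w * dg D * w⁻¹ = dg (D ∘ Equiv.swap i j) := by
  classical
  set P : Matrix (Fin n) (Fin n) F := (Equiv.swap i j).toPEquiv.toMatrix with hP
  have hPP : P * P = 1 := by
    rw [hP, ← PEquiv.toMatrix_trans, ← Equiv.toPEquiv_trans, Equiv.swap_swap, Equiv.toPEquiv_refl, PEquiv.toMatrix_refl]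
  refine ⟨⟨P, P, hPP, hPP⟩, mul_inv_eq_iff_eq_mul.mpr (Units.ext ?_)⟩
  show P * (diagonal fun k => (D k : F)) = (diagonal fun k => (D (Equiv.swap i j k) : F)) * P
  ext a b
  rw [Matrix.mul_diagonal, Matrix.diagonal_mul, hP, PEquiv.toMatrix_apply]
  by_cases h : b = Equiv.swap i j a
  · subst h; simp
  · have h' : ¬ Equiv.swap i j a = b := fun e => h e.symm
    simp [h']

theorem transvec_mem (i j : Fin n) (hij : i ≠ j) (c : F)
    (h : (∃ a : F, a ≠ 0 ∧ a ≠ 1) ∨ ∃ k, k ≠ i ∧ k ≠ j) :
    toGL (transvection hij c) ∈ commutator GLn := by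
  classical
  rcases h with ⟨a, ha0, ha1⟩ | ⟨k, hki, hkj⟩
  · set b := c / (a - 1)
    set D : Fin n → Fˣ := Function.update 1 i (Units.mk0 a ha0)
    have e : (dg D : GLn) * toGL (transvection hij b) = toGL (transvection hij (a * b)) * dg D := by
      apply Units.ext
      show (diagonal fun k => (D k : F)) * (1 + single i j b) = (1 + single i j (a * b)) * diagonal fun k => (D k : F)
      ext r s
      rw [Matrix.diagonal_mul, Matrix.mul_diagonal]
      by_cases hr : r = i <;> by_cases hs : s = j
      · subst hr; subst hs; simp [D, Function.update_apply, hij, Ne.symm hij]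
      · subst hr
        by_cases hsr : s = r
        · subst hsr; simp [D, Ne.symm hs]
        · simp [D, Ne.symm hsr, Ne.symm hs]
      · subst hs
        by_cases hsr : r = s
        · subst hsr; simp [D, Function.update_apply, hr, Ne.symm hr]
        · simp [D, Function.update_apply, hr, Ne.symm hr, hsr]
      · by_cases hsr : r = s
        · subst hsr; simp [D, Function.update_apply, hr, Ne.symm hr]
        · simp [hsr, Ne.symm hr, D, Function.update_apply, hr]
    have e2 : ⁅(dg D : GLn), toGL (transvection hij b)⁆ = toGL (transvection hij c) := by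
      rw [commutatorElement_def, e, mul_inv_cancel_right, mul_inv_eq_iff_eq_mul, ← map_mul, ← transvection_add]
      congr 2
      have : a - 1 ≠ 0 := sub_ne_zero.mpr ha1
      simp only [b]; field_simp; ring
    rw [← e2]
    exact Subgroup.commutator_mem_commutator (Subgroup.mem_top _) (Subgroup.mem_top _)
  · have e : ⁅(toGL (transvection (Ne.symm hki) c) : GLn), toGL (transvection hkj (1 : F))⁆ =
        toGL (transvection hij c) := by
      rw [← map_commutatorElement]
      congr 1
      rw [commutatorElement_def, transvection_inv, transvection_inv]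
      apply Subtype.ext
      simp [transvection_coe, mul_add, add_mul, hki, Ne.symm hki, hkj, Ne.symm hkj, hij, Ne.symm hij]
      ext r s
      simp only [Matrix.add_apply, Matrix.smul_apply, Matrix.single_apply, Matrix.one_apply]
      split_ifs <;> simp <;> ring
    rw [← e]
    exact Subgroup.commutator_mem_commutator (Subgroup.mem_top _) (Subgroup.mem_top _)

theorem diag2n_mem (i j : Fin n) (hij : i ≠ j) {c : F} (hc : c ≠ 0) :
    toGL (diag2n hij c hc) ∈ commutator GLn := by
  classical
  set D : Fin n → Fˣ := Function.update 1 i (Units.mk0 c hc)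
  obtain ⟨w, hw⟩ := dg_comm_swap i j D⁻¹
  have e : toGL (diag2n hij c hc) = ⁅(dg D : GLn), w⁆ := by
    rw [commutatorElement_def, mul_assoc (dg D), mul_assoc (dg D), ← map_inv, hw, ← map_mul]
    apply Units.ext
    rw [dg_coe]
    show (diag2n hij c hc).1 = _
    rw [diag2n_coe]
    congr 1
    funext k
    by_cases hki : k = i
    · subst hki; simp [D, Function.update_apply, Ne.symm hij]
    · by_cases hkj : k = j
      · subst hkj; simp [D, Function.update_apply, hki]
      · simp [D, Function.update_apply, hki, hkj, Equiv.swap_apply_of_ne_of_ne hki hkj]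
  rw [e]
  exact Subgroup.commutator_mem_commutator (Subgroup.mem_top _) (Subgroup.mem_top _)

/-- GL_n(F)' = SL_n(F) (as the kernel of det), for every field F and every n, except n = 2 over the field of two elements. -/
theorem result {F : Type*} [Field F] (n : ℕ) (h : n = 2 → ∃ a : F, a ≠ 0 ∧ a ≠ 1) : commutator (Matrix.GeneralLinearGroup (Fin n) F) = (Matrix.GeneralLinearGroup.det : Matrix.GeneralLinearGroup (Fin n) F →* Fˣ).ker := by
  classical
  refine le_antisymm (Abelianization.commutator_subset_ker _) fun g hg => ?_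
  have hdet : g.1.det = 1 := congrArg Units.val (MonoidHom.mem_ker.mp hg)
  by_cases hn : n ≤ 1
  · have hg1 : g = 1 := by
      apply Units.ext
      rcases Nat.le_one_iff_eq_zero_or_eq_one.mp hn with rfl | rfl
      · exact Subsingleton.elim _ _
      · rw [Matrix.det_fin_one] at hdet
        ext i j
        fin_cases i; fin_cases j
        simpa using hdet
    rw [hg1]; exact one_mem _
  haveI : Nontrivial (Fin n) := Fin.nontrivial_iff_two_le.mpr (by omega)
  have hk : ∀ i j : Fin n, (∃ a : F, a ≠ 0 ∧ a ≠ 1) ∨ ∃ k, k ≠ i ∧ k ≠ j := by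
    intro i j
    by_cases h2 : n = 2
    · exact Or.inl (h h2)
    · right
      obtain ⟨k, -, hk⟩ := Finset.exists_mem_notMem_of_card_lt_card (s := {i, j}) (t := (Finset.univ : Finset (Fin n)))
        (lt_of_le_of_lt Finset.card_le_two (by rw [Finset.card_univ, Fintype.card_fin]; omega))
      exact ⟨k, by simp at hk; exact hk.1, by simp at hk; exact hk.2⟩
  have key : ∀ M : SpecialLinearGroup (Fin n) F, toGL M ∈ commutator (Matrix.GeneralLinearGroup (Fin n) F) :=
    fun M => diagonal_transvection_induction' (fun M => toGL M ∈ commutator (Matrix.GeneralLinearGroup (Fin n) F)) M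
      (fun i j hij c hc => diag2n_mem i j hij hc) (fun i j hij c => transvec_mem i j hij c (hk i j))
      (fun A B hA hB => by rw [map_mul]; exact mul_mem hA hB)
  have := key ⟨g.1, hdet⟩
  rwa [show toGL (⟨g.1, hdet⟩ : SpecialLinearGroup (Fin n) F) = g from Units.ext rfl] at this

end Cfsg.Agent.S0264
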