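import Cfsg.Statements.S0267
import Mathlib
import Cfsg.Agent.S0266

set_option autoImplicit false
open Cfsg

namespace Cfsg.Agent.S0267



/-- SL_2(q) is 3-transitive on the q+1 points of the projective line if and only if q is even. -/
theorem result {F : Type*} [Field F] [Fintype F] : MulAction.IsMultiplyPretransitive (Matrix.SpecialLinearGroup (Fin 2) F) (Projectivization F (Fin 2 → F)) 3 ↔ ringChar F = 2 := by
  classical
  constructor
  · intro h
    by_contra hc
    obtain ⟨a, ha⟩ := FiniteField.exists_nonsquare hc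
    have ha0 : a ≠ 0 := by rintro rfl; exact ha ⟨0, by simp⟩
    let P0 : Projectivization F (Fin 2 → F) := Projectivization.mk F ![1, 0] (by simp)
    let P1 : Projectivization F (Fin 2 → F) := Projectivization.mk F ![0, 1] (by simp)
    let Pc : (c : F) → c ≠ 0 → Projectivization F (Fin 2 → F) := fun c hc0 => Projectivization.mk F ![c, 1] (by simp)
    have h01 : P0 ≠ P1 := by
      intro e
      obtain ⟨t, ht⟩ := (Projectivization.mk_eq_mk_iff' F _ _ _ _).mp e
      simpa using congrFun ht 0
    have h0c : ∀ c hc0, P0 ≠ Pc c hc0 := by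
      intro c hc0 e
      obtain ⟨t, ht⟩ := (Projectivization.mk_eq_mk_iff' F _ _ _ _).mp e
      have := congrFun ht 1
      simp at this
      have := congrFun ht 0
      simp_all
    have h1c : ∀ c hc0, P1 ≠ Pc c hc0 := by
      intro c hc0 e
      obtain ⟨t, ht⟩ := (Projectivization.mk_eq_mk_iff' F _ _ _ _).mp e
      have h2 := congrFun ht 0
      have h3 := congrFun ht 1
      simp at h2 h3
      simp_all
    let trip : (c : F) → c ≠ 0 → (Fin 3 ↪ Projectivization F (Fin 2 → F)) := fun c hc0 =>
      ⟨![P0, P1, Pc c hc0], fun i j e => by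
        fin_cases i <;> fin_cases j <;>
          (first | rfl | exact absurd e h01 | exact absurd e.symm h01 | exact absurd e (h0c c hc0) | exact absurd e.symm (h0c c hc0) | exact absurd e (h1c c hc0) | exact absurd e.symm (h1c c hc0))⟩
    obtain ⟨g, hg⟩ := MulAction.exists_smul_eq (Matrix.SpecialLinearGroup (Fin 2) F) (trip 1 one_ne_zero) (trip a ha0)
    have e0 : g • P0 = P0 := congrArg (fun t : Fin 3 ↪ Projectivization F (Fin 2 → F) => t 0) hg
    have e1 : g • P1 = P1 := congrArg (fun t : Fin 3 ↪ Projectivization F (Fin 2 → F) => t 1) hg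
    have e2 : g • Pc 1 one_ne_zero = Pc a ha0 := congrArg (fun t : Fin 3 ↪ Projectivization F (Fin 2 → F) => t 2) hg
    simp only [P0, P1, Pc, Projectivization.smul_mk, Projectivization.mk_eq_mk_iff'] at e0 e1 e2
    obtain ⟨x, hx⟩ := e0
    obtain ⟨y, hy⟩ := e1
    obtain ⟨z, hz⟩ := e2
    change x • ![(1 : F), 0] = g.1.mulVec ![1, 0] at hx
    change y • ![(0 : F), 1] = g.1.mulVec ![0, 1] at hy
    change z • ![a, 1] = g.1.mulVec ![1, 1] at hz
    have x0 := congrFun hx 0
    have x1 := congrFun hx 1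
    have y0 := congrFun hy 0
    have z0 := congrFun hz 0
    have z1 := congrFun hz 1
    simp [Matrix.mulVec, dotProduct, Fin.sum_univ_two] at x0 x1 y0 z0 z1
    have hd : g.1 0 0 * g.1 1 1 - g.1 0 1 * g.1 1 0 = 1 := by rw [← Matrix.det_fin_two]; exact g.2
    rw [← x1, ← y0] at hd
    apply ha
    refine ⟨a * g.1 1 1, ?_⟩
    linear_combination (-a) * hd + (-(a * g.1 1 1)) * z0 + (a * a * g.1 1 1) * z1
      + (a * g.1 1 1) * y0 - (a * a * g.1 1 1) * x1
  · intro h2
    haveI := (Cfsg.Agent.S0266.result (F := F)).1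
    haveI : CharP F 2 := ringChar.of_eq h2
    refine ⟨fun x y => ?_⟩
    obtain ⟨g, hg⟩ := MulAction.exists_smul_eq (Matrix.ProjGenLinGroup (Fin 2) F) x y
    cases g with | mk M =>
    obtain ⟨r, hr⟩ := (surjective_frobenius F 2) M.det.val
    have hr2 : r ^ 2 = M.det.val := hr
    have hr0 : r ≠ 0 := fun h => M.det.ne_zero (by rw [← hr2, h]; simp)
    let A : Matrix.SpecialLinearGroup (Fin 2) F := ⟨r⁻¹ • M.1, by
      rw [Matrix.det_smul, Fintype.card_fin, ← Matrix.GeneralLinearGroup.val_det_apply, ← hr2]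
      field_simp⟩
    refine ⟨A, ?_⟩
    apply DFunLike.ext
    intro i
    show A • x i = y i
    have hgi : (Matrix.ProjGenLinGroup.mk M) • x i = y i :=
      congrArg (fun t : Fin 3 ↪ Projectivization F (Fin 2 → F) => t i) hg
    rw [← hgi]
    generalize x i = pt
    induction pt using Projectivization.ind with | _ v hv =>
    rw [Projectivization.PGL.mk_smul_mk, Projectivization.smul_mk, Projectivization.mk_eq_mk_iff']
    refine ⟨r⁻¹, ?_⟩
    show r⁻¹ • (M.1.mulVec v) = (r⁻¹ • M.1).mulVec v
    rw [Matrix.smul_mulVec]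

end Cfsg.Agent.S0267
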