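import Cfsg.Statements.S0274
import Cfsg.Agent.Lib.Dickson.Main

set_option autoImplicit false
open Cfsg

namespace Cfsg.Agent.S0274

/-- Dickson's Theorem for SL_2: if p is odd and H is a subgroup of SL_2(q), q a power of p, with more than one Sylow p-subgroup, then H contains a copy of SL_2(p). -/
theorem result {F : Type*} [Field F] [Fintype F] (p : ℕ) [Fact p.Prime] [CharP F p] (hp : p ≠ 2) (H : Subgroup (Matrix.SpecialLinearGroup (Fin 2) F)) (hH : 1 < Nat.card (Sylow p H)) : ∃ K : Subgroup (Matrix.SpecialLinearGroup (Fin 2) F), K ≤ H ∧ Nonempty (K ≃* Matrix.SpecialLinearGroup (Fin 2) (ZMod p)) := by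
  classical
  suffices h : ∃ u ∈ H, ∃ v ∈ H, u.1.trace = 2 ∧ v.1.trace = 2 ∧ u * v ≠ v * u from
    CfsgLib.Dickson.dickson p hp H h
  by_contra! h
  obtain ⟨P, Q, hPQ⟩ : ∃ P Q : Sylow p H, P ≠ Q := by
    obtain ⟨P, Q, h'⟩ := (Finite.one_lt_card_iff_nontrivial.1 hH)
    exact ⟨P, Q, h'⟩
  have htr : ∀ (S : Sylow p H) (x : H), x ∈ (S : Subgroup H) → ((x : Matrix.SpecialLinearGroup (Fin 2) F)).1.trace = 2 := by
    intro S x hx
    obtain ⟨k, hk⟩ := S.2 ⟨x, hx⟩
    exact CfsgLib.Dickson.trace_of_pow p (k := k)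
      (by simpa using congrArg (fun y : (S : Subgroup H) => ((y : H) : Matrix.SpecialLinearGroup (Fin 2) F)) hk)
  have hnorm : (P : Subgroup H) ≤ Subgroup.normalizer ((Q : Subgroup H) : Set H) := by
    intro x hx
    rw [Subgroup.mem_normalizer_iff]
    intro y
    have hc : ∀ z ∈ (Q : Subgroup H), x * z = z * x := fun z hz =>
      Subtype.ext (h x x.2 z z.2 (htr P x hx) (htr Q z hz))
    constructor
    · intro hy
      rw [hc y hy, mul_inv_cancel_right]
      exact hy
    · intro hy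
      have := hc _ hy
      rw [show y = x * y * x⁻¹ from ?_]
      · exact hy
      · calc y = x⁻¹ * ((x * y * x⁻¹) * x) := by group
          _ = x⁻¹ * (x * (x * y * x⁻¹)) := by rw [this]
          _ = x * y * x⁻¹ := by group
  have hsup : IsPGroup p ((P : Subgroup H) ⊔ Q : Subgroup H) :=
    IsPGroup.to_sup_of_normal_right' P.2 Q.2 hnorm
  have h1 := P.is_maximal' hsup le_sup_left
  have h2 := Q.is_maximal' hsup le_sup_right
  exact hPQ (Sylow.ext (h1.symm.trans h2))

end Cfsg.Agent.S0274
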