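import Cfsg.Statements.S0275
import Mathlib
import Cfsg.Agent.S0261
import Cfsg.Agent.S0274
import Cfsg.Agent.Lib.SL2Orders
import Cfsg.Agent.Lib.UniqueSubgroup

set_option autoImplicit false
open Cfsg

namespace Cfsg.Agent.S0275



/-- If p is odd and H is a subgroup of SL_2(q), q a power of p, with more than one Sylow p-subgroup, then the Sylow 2-subgroups of H are generalised quaternion. -/
theorem result {F : Type*} [Field F] [Fintype F] (p : ℕ) [Fact p.Prime] [CharP F p] (hp : p ≠ 2) (H : Subgroup (Matrix.SpecialLinearGroup (Fin 2) F)) (hH : 1 < Nat.card (Sylow p H)) (S : Sylow 2 H) : ∃ k : ℕ, 1 ≤ k ∧ Nonempty ((S : Subgroup H) ≃* QuaternionGroup (2 ^ k)) := by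
  classical
  haveI : Fact (Nat.Prime 2) := ⟨Nat.prime_two⟩
  have h2 : (2 : F) ≠ 0 := by
    have := CharP.cast_eq_zero_iff F p 2
    intro h
    exact hp ((Nat.prime_dvd_prime_iff_eq Fact.out Nat.prime_two).mp (this.mp (by exact_mod_cast h)))
  obtain ⟨K, hK, ⟨e⟩⟩ := Cfsg.Agent.S0274.result p hp H hH
  have hoddp : Odd (Fintype.card (ZMod p)) := by
    rw [ZMod.card]; exact (Fact.out : p.Prime).odd_of_ne_two hp
  let Q : Sylow 2 (Matrix.SpecialLinearGroup (Fin 2) (ZMod p)) := default
  obtain ⟨k, hk1, ⟨eQ⟩⟩ := Cfsg.Agent.S0261.result hoddp Q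
  let φ : QuaternionGroup (2 ^ k) →* H :=
    ((Subgroup.inclusion hK).comp e.symm.toMonoidHom).comp ((Q : Subgroup _).subtype.comp eQ.symm.toMonoidHom)
  have hφ : Function.Injective φ := fun x y h => eQ.symm.injective (Subtype.ext
    (e.symm.injective (Subgroup.inclusion_injective hK h)))
  have hR : IsPGroup 2 φ.range :=
    (Q.2.of_surjective eQ.toMonoidHom eQ.surjective).of_surjective _ φ.rangeRestrict_surjective
  have hnc : ¬ IsCyclic (S : Subgroup H) := by
    intro hc
    obtain ⟨T, hT⟩ := hR.exists_le_sylow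
    haveI : IsCyclic (T : Subgroup H) := (Sylow.equiv S T).isCyclic.mp hc
    letI := IsCyclic.commGroup (α := (T : Subgroup H))
    have hcomm := congrArg Subtype.val
      (mul_comm (⟨φ (QuaternionGroup.a 1), hT ⟨_, rfl⟩⟩ : (T : Subgroup H)) ⟨φ (QuaternionGroup.xa 0), hT ⟨_, rfl⟩⟩)
    change φ _ * φ _ = φ _ * φ _ at hcomm
    rw [← map_mul, ← map_mul] at hcomm
    have h := hφ hcomm
    rw [QuaternionGroup.a_mul_xa, QuaternionGroup.xa_mul_a] at h
    simp at h
    have h2 : ((2 : ℕ) : ZMod (2 * 2 ^ k)) = 0 := by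
      push_cast
      linear_combination -h
    rw [ZMod.natCast_eq_zero_iff] at h2
    have := Nat.le_of_dvd two_pos h2
    have : 2 ≤ 2 ^ k := le_self_pow₀ (by norm_num) (by omega)
    omega
  have hinvol : ∀ x : (S : Subgroup H), x ^ 2 = 1 →
      x = 1 ∨ ((x : H) : Matrix.SpecialLinearGroup (Fin 2) F) = -1 := by
    intro x hx
    rcases CfsgLib.SL2Orders.eq_one_or_neg_one_of_sq h2 ((x : H) : Matrix.SpecialLinearGroup (Fin 2) F) (by
      rw [← pow_two]; exact congrArg (fun y : (S : Subgroup H) => ((y : H) : Matrix.SpecialLinearGroup (Fin 2) F)) hx) with h | h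
    · exact Or.inl (Subtype.ext (Subtype.ext h))
    · exact Or.inr h
  haveI : Nontrivial (S : Subgroup H) := by
    rcases subsingleton_or_nontrivial (S : Subgroup H) with h | h
    · exact absurd isCyclic_of_subsingleton hnc
    · exact h
  obtain ⟨j, hj⟩ := S.2.exists_card_eq
  have hd : 2 ∣ Nat.card (S : Subgroup H) := by
    have hlt := Finite.one_lt_card (α := (S : Subgroup H))
    rw [hj] at hlt ⊢
    exact dvd_pow_self 2 (fun h => by simp [h] at hlt)
  obtain ⟨z, hz⟩ := exists_prime_orderOf_dvd_card' 2 hd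
  have hz1 : z ≠ 1 := fun h => by rw [h, orderOf_one] at hz; omega
  have hzv := (hinvol z (orderOf_dvd_iff_pow_eq_one.mp (dvd_of_eq hz))).resolve_left hz1
  rcases CfsgLib.UniqueSubgroup.cyclic_or_quaternion S.2 hz (fun x hx => by
    rcases hinvol x hx with h | h
    · rw [h]; exact one_mem _
    · rw [show x = z from Subtype.ext (Subtype.ext (h.trans hzv.symm))]; exact Subgroup.mem_zpowers z) with h | ⟨-, r, hr, he⟩
  · exact absurd h hnc
  · exact ⟨r, hr, he⟩

end Cfsg.Agent.S0275
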