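import Cfsg.Statements.S0282
import Mathlib
import Cfsg.Agent.Lib.SmallSimple.PSU32

set_option autoImplicit false
open Cfsg

namespace Cfsg.Agent.S0282



/-- PSU_3(2) is a solvable group of order 72. -/
theorem result {F : Type*} [Field F] [Fintype F] (hF : Fintype.card F = 4) : Nat.card (Cfsg.PSU 3 F 2) = 72 ∧ Group.IsSolvable (Cfsg.PSU 3 F 2) := by
  obtain ⟨hc, N, hN, hN9, -, -⟩ := CfsgLib.PSU32.summary hF
  haveI := hN
  refine ⟨hc, ?_⟩
  haveI : Fact (Nat.Prime 3) := ⟨by norm_num⟩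
  haveI : Fact (Nat.Prime 2) := ⟨Nat.prime_two⟩
  haveI : Group.IsNilpotent N := (IsPGroup.of_card (p := 3) (n := 2) (by rw [hN9]; norm_num)).isNilpotent
  have hq : Nat.card (Cfsg.PSU 3 F 2 ⧸ N) = 8 := by
    have h := N.card_mul_index
    rw [hN9, hc] at h
    show N.index = 8
    omega
  haveI : Group.IsNilpotent (Cfsg.PSU 3 F 2 ⧸ N) := (IsPGroup.of_card (p := 2) (n := 3) (by rw [hq]; norm_num)).isNilpotent
  haveI : Group.IsSolvable N := inferInstance
  haveI : Group.IsSolvable (Cfsg.PSU 3 F 2 ⧸ N) := inferInstance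
  exact Group.isSolvable_of_ker_le_range N.subtype (QuotientGroup.mk' N) (by rw [QuotientGroup.ker_mk', N.range_subtype])

end Cfsg.Agent.S0282
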