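import Cfsg.Statements.S0285
import Mathlib
import Cfsg.Agent.Lib.UnitaryOrder

set_option autoImplicit false
open Cfsg

namespace Cfsg.Agent.S0285



/-- The standard Hermitian form on F^n, |F| = q^2, has exactly (q^n - (-1)^n)(q^(n-1) + (-1)^n) non-zero isotropic vectors; counting the zero vector too: -/
theorem result {F : Type*} [Field F] [Fintype F] {q : ℕ} (hF : Fintype.card F = q ^ 2) (n : ℕ) : Nat.card {v : Fin n → F // Cfsg.hermForm n F q v v = 0} = (if Even n then (q ^ n - 1) * (q ^ (n - 1) + 1) else (q ^ n + 1) * (q ^ (n - 1) - 1)) + 1 := by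
  rcases n with _ | n
  · rw [show Nat.card {v : Fin 0 → F // Cfsg.hermForm 0 F q v v = 0} = 1 from
      Nat.card_eq_one_iff_unique.mpr
        ⟨inferInstance, ⟨⟨0, by simp [Cfsg.hermForm]⟩⟩⟩]
    simp
  have hq := (CfsgLib.UnitaryBasic.frob_exists hF).1
  have hq0 : (q : ℤ) ≠ 0 := by exact_mod_cast (by omega : q ≠ 0)
  have h := CfsgLib.HermCount.q_mul_A0 hF (n + 1)
  rw [show Nat.card {v : Fin (n + 1) → F // Cfsg.hermForm (n + 1) F q v v = 0} =
    CfsgLib.HermCount.A0 F q (n + 1) from rfl]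
  simp only [Nat.add_sub_cancel, Nat.even_add_one, ite_not]
  zify
  refine mul_left_cancel₀ hq0 (h.trans ?_)
  split_ifs with hev
  · rw [Odd.neg_pow hev.add_one]
    push_cast [Nat.cast_sub (Nat.one_le_pow n q (by omega))]
    ring
  · rw [Even.neg_pow (Nat.not_even_iff_odd.mp hev).add_one]
    push_cast [Nat.cast_sub (Nat.one_le_pow (n + 1) q (by omega))]
    ring

end Cfsg.Agent.S0285
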