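import Cfsg.Statements.S0298
import Mathlib
import Cfsg.Agent.Lib.SL2Hom
import Cfsg.Agent.Lib.StdQuadForms
import Cfsg.Agent.Lib.SpinorMatrix
import Cfsg.Agent.Lib.OrthOrderBase
import Cfsg.Agent.Lib.SLCard
import Cfsg.Agent.Lib.FiniteForms.Standard

set_option autoImplicit false
open Cfsg

namespace Cfsg.Agent.S0298

set_option maxHeartbeats 1200000 in
open Matrix in
open scoped MatrixGroups in
theorem omega3 {F : Type*} [Field F] [Fintype F] (hodd : Odd (Fintype.card F)) :
    Nonempty (Cfsg.POmega F (Cfsg.quadFormOdd 1 F) ≃* Matrix.ProjectiveSpecialLinearGroup (Fin 2) F) := by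
  classical
  have h2 := CfsgLib.FiniteForms.two_ne_zero_of_odd (F := F) rfl hodd
  let T : SL(2, F) → (Unit ⊕ (Fin 1 ⊕ Fin 1) → F) →ₗ[F] (Unit ⊕ (Fin 1 ⊕ Fin 1) → F) := fun g =>
    LinearMap.pi (Sum.elim
      (fun _ => (g 0 0 * g 1 1 + g 0 1 * g 1 0) • LinearMap.proj (Sum.inl ())
        + (-(g 0 0 * g 1 0)) • LinearMap.proj (Sum.inr (Sum.inl 0))
        + (g 0 1 * g 1 1) • LinearMap.proj (Sum.inr (Sum.inr 0)))
      (Sum.elim
        (fun _ => (-2 * g 0 0 * g 0 1) • LinearMap.proj (Sum.inl ())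
          + (g 0 0 * g 0 0) • LinearMap.proj (Sum.inr (Sum.inl 0))
          + (-(g 0 1 * g 0 1)) • LinearMap.proj (Sum.inr (Sum.inr 0)))
        (fun _ => (2 * g 1 0 * g 1 1) • LinearMap.proj (Sum.inl ())
          + (-(g 1 0 * g 1 0)) • LinearMap.proj (Sum.inr (Sum.inl 0))
          + (g 1 1 * g 1 1) • LinearMap.proj (Sum.inr (Sum.inr 0)))))
  have hdet : ∀ g : SL(2, F), g 0 0 * g 1 1 - g 0 1 * g 1 0 = 1 := fun g => by
    rw [← Matrix.det_fin_two g.1]; exact g.2
  have hmul : ∀ g h, T (g * h) = T g ∘ₗ T h := fun g h => by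
    refine LinearMap.ext fun v => funext fun s => ?_
    rcases s with u | i | i <;>
      simp [T, Matrix.mul_apply, Fin.sum_univ_two] <;> ring
  have h1 : T 1 = LinearMap.id := by
    refine LinearMap.ext fun v => funext fun s => ?_
    rcases s with u | i | i
    · simp [T]
    · obtain rfl : i = 0 := Subsingleton.elim _ _; simp [T]
    · obtain rfl : i = 0 := Subsingleton.elim _ _; simp [T]
  have hQ : ∀ g v, Cfsg.quadFormOdd 1 F (T g v) = Cfsg.quadFormOdd 1 F v := fun g v => by
    have h := hdet g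
    simp [Cfsg.quadFormOdd, T]
    linear_combination ((v (Sum.inl ())) ^ 2 + v (Sum.inr (Sum.inl 0)) * v (Sum.inr (Sum.inr 0))) *
      (g 0 0 * g 1 1 - g 0 1 * g 1 0 + 1) * h
  set φ := CfsgLib.ExceptionalIso.homOfAct (Cfsg.quadFormOdd 1 F) T h1 hmul hQ
  have hker : ∀ g, g ∈ φ.ker ↔ g.1 = 1 ∨ g.1 = -1 := by
    intro g
    rw [MonoidHom.mem_ker, CfsgLib.ExceptionalIso.homOfAct_eq_one]
    constructor
    · intro h
      have e1 := congrFun (LinearMap.congr_fun h (Pi.single (Sum.inr (Sum.inl 0)) 1))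
      have e2 := congrFun (LinearMap.congr_fun h (Pi.single (Sum.inr (Sum.inr 0)) 1))
      have a1 := e1 (Sum.inr (Sum.inl 0))
      have a2 := e1 (Sum.inr (Sum.inr 0))
      have b1 := e2 (Sum.inr (Sum.inl 0))
      simp [T] at a1 a2 b1
      have hd := hdet g
      rw [a2, mul_zero, sub_zero] at hd
      rcases mul_self_eq_one_iff.mp a1 with e | e <;> rw [e] at hd
      · left
        ext i j
        fin_cases i <;> fin_cases j <;> simp [a2, b1, e] <;> linear_combination hd
      · right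
        ext i j
        fin_cases i <;> fin_cases j <;> simp [a2, b1, e] <;> linear_combination -hd
    · intro h
      refine LinearMap.ext fun v => funext fun s => ?_
      rcases h with h | h <;> rcases s with u | i | i <;>
        first
          | (simp [T, h]; done)
          | (obtain rfl : i = 0 := Subsingleton.elim _ _; simp [T, h])
  have hkc : φ.ker ≤ Subgroup.center SL(2, F) := fun g hg => by
    rw [Subgroup.mem_center_iff]
    intro x
    refine Subtype.ext ?_
    rcases (hker g).mp hg with h | h <;> simp [SpecialLinearGroup.coe_mul, h]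
  have hk2 : Nat.card φ.ker = 2 := by
    rw [Nat.card_eq_two_iff]
    have hneg : (-1 : SL(2, F)) ∈ φ.ker := (hker _).mpr (Or.inr (by simp))
    refine ⟨1, ⟨-1, hneg⟩, fun h => ?_, Set.eq_univ_of_forall fun g => ?_⟩
    · have := congrArg (fun x : φ.ker => x.1 0 0) h
      simp at this
      exact h2 (by linear_combination this)
    · rcases (hker g.1).mp g.2 with h | h
      · exact Or.inl (Subtype.ext (Subtype.ext h))
      · exact Or.inr (Subtype.ext (Subtype.ext (by simpa using h)))
  have hidx : (Cfsg.Omega F (Cfsg.quadFormOdd 1 F)).index = 4 := by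
    rw [show Cfsg.quadFormOdd 1 F = ⇑(CfsgLib.StdQuadForms.Qo 1) from
      funext fun v => (CfsgLib.StdQuadForms.Qo_apply 1 v).symm]
    exact CfsgLib.SpinorMatrix.omega_index _ h2 (by simp) (CfsgLib.StdQuadForms.Qo_nondeg h2 1)
  haveI : (Cfsg.Omega F (Cfsg.quadFormOdd 1 F)).Normal :=
    inferInstanceAs (commutator _).Normal
  obtain ⟨p, hp⟩ := CharP.exists F
  obtain ⟨r, hpr, hcard⟩ := FiniteField.card F p
  have hle : φ.range ≤ Cfsg.Omega F (Cfsg.quadFormOdd 1 F) := by
    refine CfsgLib.SL2Hom.range_le φ _ p ?_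
    rw [hidx]
    have hpo : p % 2 = 1 := by
      rcases hpr.eq_two_or_odd with e | e
      · exfalso
        subst e
        exact h2 (CharP.cast_eq_zero F 2)
      · exact e
    exact Nat.Coprime.pow_right 2 (Nat.coprime_two_right.mpr (Nat.odd_iff.mpr hpo))
  refine CfsgLib.ExceptionalIso.iso_of_hom _ φ hle ?_ hkc fun z hz =>
    CfsgLib.SL2Hom.central_of_comm_sign h2 z fun g => (hker _).mp (hz g)
  have hO := Subgroup.card_mul_index (Cfsg.Omega F (Cfsg.quadFormOdd 1 F))
  rw [hidx, CfsgLib.OrthOrder.card_O_odd hodd 1] at hO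
  simp only [one_pow, pow_one, Finset.prod_range_one, Nat.zero_add, mul_one] at hO
  rw [hk2, CfsgLib.SLCard.card_SL_two]
  linarith

/-- PΩ_3(q) is isomorphic to PSL_2(q) for q odd. -/
theorem result {F : Type*} [Field F] [Fintype F] (hodd : Odd (Fintype.card F)) : Nonempty (Cfsg.POmega F (Cfsg.quadFormOdd 1 F) ≃* Matrix.ProjectiveSpecialLinearGroup (Fin 2) F) := by
  exact omega3 hodd

end Cfsg.Agent.S0298
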