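import Cfsg.Statements.S0299
import Mathlib
import Cfsg.Agent.Lib.SL2Hom
import Cfsg.Agent.Lib.Lagrangian
import Cfsg.Agent.Lib.SpinorMatrix
import Cfsg.Agent.Lib.OrthOrderBase
import Cfsg.Agent.Lib.SLCard

set_option autoImplicit false
open Cfsg

namespace Cfsg.Agent.S0299

set_option maxHeartbeats 1000000 in
open Matrix in
open scoped MatrixGroups commutatorElement in
theorem omega4plus {F : Type*} [Field F] [Fintype F] (hF : 3 ≤ Fintype.card F) :
    Nonempty (Cfsg.POmega F (Cfsg.quadFormPlus 2 F) ≃*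
      Matrix.ProjectiveSpecialLinearGroup (Fin 2) F × Matrix.ProjectiveSpecialLinearGroup (Fin 2) F) := by
  classical
  let toM : (Fin 2 ⊕ Fin 2 → F) → Matrix (Fin 2) (Fin 2) F := fun v =>
    !![v (Sum.inl 0), -v (Sum.inl 1); v (Sum.inr 1), v (Sum.inr 0)]
  let vec : Matrix (Fin 2) (Fin 2) F → (Fin 2 ⊕ Fin 2 → F) := fun M =>
    Sum.elim ![M 0 0, -M 0 1] ![M 1 1, M 1 0]
  have hto : ∀ M, toM (vec M) = M := fun M => by
    ext i j; fin_cases i <;> fin_cases j <;> simp [toM, vec]
  have hvec : ∀ v, vec (toM v) = v := fun v => funext fun s => by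
    rcases s with i | i <;> fin_cases i <;> simp [toM, vec]
  have hQd : ∀ v, Cfsg.quadFormPlus 2 F v = (toM v).det := fun v => by
    simp [Cfsg.quadFormPlus, toM, Matrix.det_fin_two, Fin.sum_univ_two]
  have hadd : ∀ u v, toM (u + v) = toM u + toM v := fun u v => by
    ext i j; fin_cases i <;> fin_cases j <;> simp [toM]; ring
  have hsmul : ∀ (c : F) v, toM (c • v) = c • toM v := fun c v => by
    ext i j; fin_cases i <;> fin_cases j <;> simp [toM]
  have vadd : ∀ M N, vec (M + N) = vec M + vec N := fun M N => funext fun s => by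
    rcases s with i | i <;> fin_cases i <;> simp [vec]; ring
  have vsmul : ∀ (c : F) M, vec (c • M) = c • vec M := fun c M => funext fun s => by
    rcases s with i | i <;> fin_cases i <;> simp [vec]
  let T : SL(2, F) × SL(2, F) → (Fin 2 ⊕ Fin 2 → F) →ₗ[F] (Fin 2 ⊕ Fin 2 → F) := fun p =>
    { toFun := fun v => vec (p.1.1 * toM v * p.2.1.adjugate)
      map_add' := fun u v => by rw [hadd, Matrix.mul_add, Matrix.add_mul, vadd]
      map_smul' := fun c v => by rw [hsmul, Matrix.mul_smul, Matrix.smul_mul, vsmul]; rfl }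
  have hT : ∀ p v, T p v = vec (p.1.1 * toM v * p.2.1.adjugate) := fun p v => rfl
  have h1 : T 1 = LinearMap.id := LinearMap.ext fun v => by simp [hT, hvec]
  have hmul : ∀ g h, T (g * h) = T g ∘ₗ T h := fun g h => LinearMap.ext fun v => by
    rw [LinearMap.comp_apply, hT, hT g, hT h, hto]
    simp [Matrix.adjugate_mul_distrib, Matrix.mul_assoc]
  have hQ : ∀ g v, Cfsg.quadFormPlus 2 F (T g v) = Cfsg.quadFormPlus 2 F v := fun g v => by
    rw [hQd, hQd, hT, hto, Matrix.det_mul, Matrix.det_mul, Matrix.det_adjugate, g.1.2, g.2.2]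
    simp
  set φ := CfsgLib.ExceptionalIso.homOfAct (Cfsg.quadFormPlus 2 F) T h1 hmul hQ
  have hker : ∀ p, p ∈ φ.ker ↔ p.1 = p.2 ∧ p.1 ∈ Subgroup.center SL(2, F) := by
    intro p
    rw [MonoidHom.mem_ker, CfsgLib.ExceptionalIso.homOfAct_eq_one]
    constructor
    · intro h
      have key : ∀ M, p.1.1 * M * p.2.1.adjugate = M := fun M => by
        have := congrArg toM (LinearMap.congr_fun h (vec M))
        rwa [hT, LinearMap.id_apply, hto, hto] at this
      have heq : p.1 = p.2 := by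
        have h' : p.1 * p.2⁻¹ = 1 := Subtype.ext (by simpa using key 1)
        exact mul_inv_eq_one.mp h'
      refine ⟨heq, Subgroup.mem_center_iff.mpr fun x => Subtype.ext ?_⟩
      have hk := key x.1
      rw [← heq] at hk
      have h' : p.1 * x * p.1⁻¹ = x := Subtype.ext (by simpa using hk)
      exact congrArg Subtype.val (mul_inv_eq_iff_eq_mul.mp h').symm
    · rintro ⟨heq, hc⟩
      obtain ⟨r, -, hr⟩ := Matrix.SpecialLinearGroup.mem_center_iff.mp hc
      refine LinearMap.ext fun v => ?_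
      rw [hT, LinearMap.id_apply, ← heq]
      conv_rhs => rw [← hvec v]
      congr 1
      have hcom : Commute p.1.1 (toM v) := by
        rw [← hr]; exact Matrix.scalar_commute r (fun s => Commute.all r s) _
      rw [hcom.eq, Matrix.mul_assoc, Matrix.mul_adjugate, p.1.2, one_smul, Matrix.mul_one]
  have hkc : φ.ker ≤ Subgroup.center (SL(2, F) × SL(2, F)) := fun p hp => by
    obtain ⟨h1, h2⟩ := (hker p).mp hp
    rw [Subgroup.mem_center_iff] at h2 ⊢
    exact fun x => Prod.ext (h2 x.1) (show x.2 * p.2 = p.2 * x.2 by rw [← h1]; exact h2 x.2)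
  have hk : Nat.card φ.ker = Nat.card (Subgroup.center SL(2, F)) := by
    refine Nat.card_eq_of_bijective (fun p => ⟨p.1.1, ((hker p.1).mp p.2).2⟩) ⟨fun p q h => ?_, fun z => ?_⟩
    · have h' : p.1.1 = q.1.1 := congrArg Subtype.val h
      exact Subtype.ext (Prod.ext h' (by rw [← ((hker p.1).mp p.2).1, h', ((hker q.1).mp q.2).1]))
    · exact ⟨⟨(z.1, z.1), (hker _).mpr ⟨rfl, z.2⟩⟩, rfl⟩
  have hq : (Cfsg.quadFormPlus 2 F) = ⇑(CfsgLib.Lagrangian.Qp 2 F) :=
    funext fun v => (CfsgLib.Lagrangian.Qp_apply v).symm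
  haveI : (Cfsg.Omega F (Cfsg.quadFormPlus 2 F)).Normal := inferInstanceAs (commutator _).Normal
  obtain ⟨p, hp⟩ := CharP.exists F
  obtain ⟨r, hpr, hcard⟩ := FiniteField.card F p
  have hnum : (Cfsg.Omega F (Cfsg.quadFormPlus 2 F)).index = 2 * Nat.card φ.ker ∧
      (Fintype.card F = 3 → p = 3) := by
    refine ⟨?_, fun h3 => ?_⟩
    · rw [hk, CfsgLib.SLCard.card_SL_center (by norm_num), hq]
      by_cases h2 : (2 : F) = 0
      · rw [CfsgLib.SpinorMatrix.omega_index_two _ h2 (by simp) CfsgLib.Lagrangian.Qp_nondeg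
          (CfsgLib.SpinorMatrix.field_cond (Or.inl (by omega)))]
        have : Nat.gcd 2 (Fintype.card F - 1) = 1 := by
          haveI : CharP F 2 := CharTwo.of_one_ne_zero_of_two_eq_zero one_ne_zero h2
          have he : Fintype.card F % 2 = 0 :=
            (FiniteField.even_card_iff_char_two (F := F)).mp (ringChar.eq F 2)
          exact Nat.coprime_two_left.mpr (Nat.odd_iff.mpr (by omega))
        rw [this]
      · rw [CfsgLib.SpinorMatrix.omega_index _ h2 (by simp) CfsgLib.Lagrangian.Qp_nondeg]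
        have : Nat.gcd 2 (Fintype.card F - 1) = 2 := by
          have ho : Fintype.card F % 2 = 1 := by
            rcases Nat.mod_two_eq_zero_or_one (Fintype.card F) with h0 | h0
            · haveI := ringChar.of_eq ((FiniteField.even_card_iff_char_two (F := F)).mpr h0)
              exact absurd CharTwo.two_eq_zero h2
            · exact h0
          exact Nat.gcd_eq_left (by omega)
        rw [this]
    · have : p ∣ 3 := h3 ▸ hcard ▸ dvd_pow_self p r.ne_zero
      exact (Nat.prime_dvd_prime_iff_eq hpr Nat.prime_three).mp this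
  have hfac : ∀ ψ : SL(2, F) →* Cfsg.isometryGroup F (Cfsg.quadFormPlus 2 F),
      ψ.range ≤ Cfsg.Omega F (Cfsg.quadFormPlus 2 F) := by
    intro ψ
    by_cases h4 : 4 ≤ Fintype.card F
    · exact CfsgLib.ExceptionalIso.range_le_of_perfect ψ (CfsgLib.SL2Hom.commutator_top h4)
    · have hp3 := hnum.2 (by omega)
      subst hp3
      refine CfsgLib.SL2Hom.range_le ψ _ 3 ?_
      have h2 : (2 : F) ≠ 0 := fun h => by
        have : (3 : F) = 0 := CharP.cast_eq_zero F 3
        exact one_ne_zero (α := F) (by linear_combination this - h)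
      rw [hq, CfsgLib.SpinorMatrix.omega_index _ h2 (by simp) CfsgLib.Lagrangian.Qp_nondeg]
      norm_num
  have hle : φ.range ≤ Cfsg.Omega F (Cfsg.quadFormPlus 2 F) := by
    rintro _ ⟨⟨g, h⟩, rfl⟩
    rw [show (g, h) = (g, 1) * (1, h) by simp, map_mul]
    exact mul_mem (hfac (φ.comp (MonoidHom.inl _ _)) ⟨g, rfl⟩)
      (hfac (φ.comp (MonoidHom.inr _ _)) ⟨h, rfl⟩)
  have hcard' : Nat.card (SL(2, F) × SL(2, F)) = Nat.card φ.ker *
      Nat.card (Cfsg.Omega F (Cfsg.quadFormPlus 2 F)) := by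
    have hO := Subgroup.card_mul_index (Cfsg.Omega F (Cfsg.quadFormPlus 2 F))
    rw [hnum.1, CfsgLib.OrthOrder.card_O_plus 2 (by norm_num)] at hO
    simp only [Finset.prod_range_one, show 2 - 1 = 1 from rfl] at hO
    rw [Nat.card_prod, CfsgLib.SLCard.card_SL_two]
    generalize Fintype.card F ^ 2 - 1 = A at hO ⊢
    simp only [Nat.reduceMul, Nat.reduceAdd, Nat.reduceSub, zero_add, mul_one] at hO
    refine Nat.eq_of_mul_eq_mul_left (show 0 < 2 by norm_num) ?_
    linear_combination -hO
  have hz' : ∀ z : SL(2, F) × SL(2, F), (∀ g : SL(2, F) × SL(2, F), ⁅z, g⁆ ∈ φ.ker) →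
      z ∈ Subgroup.center (SL(2, F) × SL(2, F)) := by
    intro z hz
    rw [Subgroup.mem_center_iff]
    intro y
    have a := ((hker _).mp (hz (y.1, 1))).1
    have b := ((hker _).mp (hz (1, y.2))).1
    have a' : ⁅z.1, y.1⁆ = ⁅z.2, (1 : SL(2, F))⁆ := a
    have b' : ⁅z.1, (1 : SL(2, F))⁆ = ⁅z.2, y.2⁆ := b
    rw [commutatorElement_one_right] at a' b'
    exact Prod.ext (commutatorElement_eq_one_iff_mul_comm.mp a').symm
      (commutatorElement_eq_one_iff_mul_comm.mp b'.symm).symm
  obtain ⟨e⟩ := CfsgLib.ExceptionalIso.iso_of_hom _ φ hle hcard' hkc hz'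
  let π : SL(2, F) × SL(2, F) →* _ :=
    (QuotientGroup.mk' (Subgroup.center SL(2, F))).prodMap (QuotientGroup.mk' (Subgroup.center SL(2, F)))
  have hπk : π.ker = Subgroup.center (SL(2, F) × SL(2, F)) := by
    ext x
    rw [MonoidHom.mem_ker, Subgroup.mem_center_iff]
    constructor
    · intro h y
      have a := (QuotientGroup.eq_one_iff x.1).mp (congrArg Prod.fst h)
      have b := (QuotientGroup.eq_one_iff x.2).mp (congrArg Prod.snd h)
      exact Prod.ext (Subgroup.mem_center_iff.mp a y.1) (Subgroup.mem_center_iff.mp b y.2)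
    · intro h
      exact Prod.ext ((QuotientGroup.eq_one_iff _).mpr (Subgroup.mem_center_iff.mpr fun y =>
          congrArg Prod.fst (h (y, 1))))
        ((QuotientGroup.eq_one_iff _).mpr (Subgroup.mem_center_iff.mpr fun y =>
          congrArg Prod.snd (h (1, y))))
  exact ⟨e.trans ((QuotientGroup.quotientMulEquivOfEq hπk).symm.trans
    (QuotientGroup.quotientKerEquivOfSurjective π
      ((QuotientGroup.mk'_surjective _).prodMap (QuotientGroup.mk'_surjective _))))⟩

/-- PΩ^+_4(q) is isomorphic to PSL_2(q) x PSL_2(q) for q at least 3. -/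
theorem result {F : Type*} [Field F] [Fintype F] (hF : 3 ≤ Fintype.card F) : Nonempty (Cfsg.POmega F (Cfsg.quadFormPlus 2 F) ≃* Matrix.ProjectiveSpecialLinearGroup (Fin 2) F × Matrix.ProjectiveSpecialLinearGroup (Fin 2) F) := by
  exact omega4plus hF

end Cfsg.Agent.S0299
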