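import Cfsg.Statements.S0300
import Mathlib
import Cfsg.Agent.Lib.SL2Hom
import Cfsg.Agent.Lib.StdQuadForms
import Cfsg.Agent.Lib.SpinorMatrix
import Cfsg.Agent.Lib.OrthOrderBase
import Cfsg.Agent.Lib.SLCard
import Cfsg.Agent.Lib.FiniteForms.Standard
import Cfsg.Agent.Lib.QuadExt

set_option autoImplicit false
open Cfsg

namespace Cfsg.Agent.S0300

set_option maxHeartbeats 1600000 in
open Matrix in
open scoped MatrixGroups commutatorElement in
theorem omega4minus {F K : Type*} [Field F] [Fintype F] [Field K] [Fintype K] {q : ℕ}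
    (hF : Fintype.card F = q) (hK : Fintype.card K = q ^ 2) (a b : F)
    (hab : ∀ z₁ z₂ : F, z₁ ^ 2 + a * z₁ * z₂ + b * z₂ ^ 2 = 0 → z₁ = 0 ∧ z₂ = 0) :
    Nonempty (Cfsg.POmega F (Cfsg.quadFormMinus 1 F a b) ≃* Matrix.ProjectiveSpecialLinearGroup (Fin 2) K) := by
  classical
  obtain ⟨D, hDσ⟩ := CfsgLib.QuadExt.exists_data hF hK a b hab
  set f := Cfsg.quadFormMinus 1 F a b
  let x₀ : ((Fin 1 ⊕ Fin 1) ⊕ Fin 2 → F) → K := fun v => D.i (v (Sum.inl (Sum.inl 0)))
  let y₀ : ((Fin 1 ⊕ Fin 1) ⊕ Fin 2 → F) → K := fun v => D.i (v (Sum.inl (Sum.inr 0)))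
  let w₀ : ((Fin 1 ⊕ Fin 1) ⊕ Fin 2 → F) → K := fun v => D.i (v (Sum.inr 0)) + D.i (v (Sum.inr 1)) * D.τ
  let toH : ((Fin 1 ⊕ Fin 1) ⊕ Fin 2 → F) → Matrix (Fin 2) (Fin 2) K := fun v => !![x₀ v, w₀ v; D.σ (w₀ v), -y₀ v]
  have hinj : Function.Injective toH := fun u v h => by
    have h00 : x₀ u = x₀ v := congrFun (congrFun h 0) 0
    have h11 : -y₀ u = -y₀ v := congrFun (congrFun h 1) 1
    have h01 : w₀ u = w₀ v := congrFun (congrFun h 0) 1
    obtain ⟨e0, e1⟩ := D.coord_inj hab h01
    funext s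
    rcases s with (i | i) | i <;> fin_cases i
    · exact D.i.injective h00
    · exact D.i.injective (neg_injective h11)
    · exact e0
    · exact e1
  have hherm : ∀ v, ((toH v).map D.σ)ᵀ = toH v := fun v => by
    ext i j; fin_cases i <;> fin_cases j <;> simp [toH, x₀, y₀, D.σ_i, D.sq]
  have hsurj : ∀ M : Matrix (Fin 2) (Fin 2) K, (M.map D.σ)ᵀ = M → ∃ v, toH v = M := by
    intro M hM
    have e : ∀ i j, D.σ (M j i) = M i j := fun i j => by
      conv_rhs => rw [← hM]
      rfl
    obtain ⟨x, hx⟩ := (D.fixed _).mp (e 0 0)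
    obtain ⟨y, hy⟩ := (D.fixed _).mp (e 1 1)
    obtain ⟨z, hz⟩ := D.coord (M 0 1)
    refine ⟨Sum.elim (Sum.elim (fun _ => x) (fun _ => -y)) z, ?_⟩
    ext i j
    fin_cases i <;> fin_cases j
    · simpa [toH, x₀] using hx
    · simpa [toH, w₀] using hz.symm
    · simp only [toH, w₀, Sum.elim_inr]
      show D.σ (D.i (z 0) + D.i (z 1) * D.τ) = M 1 0
      rw [← hz, e]
    · simpa [toH, y₀] using hy
  have hdet : ∀ v, (toH v).det = -D.i (f v) := fun v => by
    rw [Matrix.det_fin_two]
    simp only [toH, f, Cfsg.quadFormMinus, Fin.sum_univ_one, map_add, Matrix.of_apply, Matrix.cons_val_zero,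
      Matrix.cons_val_one, Matrix.cons_val', Matrix.cons_val_fin_one, Matrix.empty_val']
    have h := D.norm_coord (v (Sum.inr 0)) (v (Sum.inr 1))
    simp only [map_add, map_mul, map_pow] at h ⊢
    simp only [x₀, y₀, w₀, map_add, map_mul]
    linear_combination -h
  have hadd : ∀ u v, toH (u + v) = toH u + toH v := fun u v => by
    ext i j; fin_cases i <;> fin_cases j <;> simp [toH, x₀, y₀, w₀] <;> ring
  have hsmul : ∀ (c : F) v, toH (c • v) = D.i c • toH v := fun c v => by
    ext i j; fin_cases i <;> fin_cases j <;> simp [toH, x₀, y₀, w₀, D.σ_i] <;> ring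
  let star' : Matrix (Fin 2) (Fin 2) K → Matrix (Fin 2) (Fin 2) K := fun g => (g.map D.σ)ᵀ
  have hstar : ∀ g h : Matrix (Fin 2) (Fin 2) K, star' (g * h) = star' h * star' g := fun g h => by
    show ((g * h).map D.σ)ᵀ = _
    rw [Matrix.map_mul, Matrix.transpose_mul]
  have hstar1 : star' 1 = 1 := by
    show ((1 : Matrix (Fin 2) (Fin 2) K).map D.σ)ᵀ = _
    rw [Matrix.map_one _ (map_zero _) (map_one _), Matrix.transpose_one]
  have hss : ∀ g, star' (star' g) = g := fun g => by ext i j; simp [star', D.sq]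
  have hact : ∀ (g : SL(2, K)) (v : ((Fin 1 ⊕ Fin 1) ⊕ Fin 2 → F)), ∃ u, toH u = g.1 * toH v * star' g.1 := fun g v => by
    refine hsurj _ ?_
    show star' _ = _
    rw [hstar, hstar, hss, show star' (toH v) = toH v from hherm v, Matrix.mul_assoc]
  choose t ht using hact
  let T : SL(2, K) → ((Fin 1 ⊕ Fin 1) ⊕ Fin 2 → F) →ₗ[F] ((Fin 1 ⊕ Fin 1) ⊕ Fin 2 → F) := fun g =>
    { toFun := t g
      map_add' := fun u v => hinj (by
        rw [hadd, ht, ht, ht, hadd, Matrix.mul_add, Matrix.add_mul])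
      map_smul' := fun c v => hinj (by
        simp only [RingHom.id_apply]
        rw [hsmul, ht, ht, hsmul, Matrix.mul_smul, Matrix.smul_mul]) }
  have hT : ∀ g v, toH (T g v) = g.1 * toH v * star' g.1 := fun g v => ht g v
  have h1 : T 1 = LinearMap.id := LinearMap.ext fun v => hinj (by
    rw [hT, show (1 : SL(2, K)).1 = 1 from rfl, hstar1, Matrix.one_mul, Matrix.mul_one]; rfl)
  have hmul : ∀ g h, T (g * h) = T g ∘ₗ T h := fun g h => LinearMap.ext fun v => hinj (by
    rw [LinearMap.comp_apply, hT, hT, hT, show (g * h).1 = g.1 * h.1 from rfl, hstar]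
    simp only [Matrix.mul_assoc])
  have hQ : ∀ g v, f (T g v) = f v := fun g v => D.i.injective (neg_injective (by
    rw [← hdet, ← hdet, hT, Matrix.det_mul, Matrix.det_mul, g.2]
    show 1 * (toH v).det * ((g.1.map D.σ)ᵀ).det = _
    rw [Matrix.det_transpose, ← RingHom.mapMatrix_apply, ← RingHom.map_det, g.2, map_one, one_mul, mul_one]))
  set φ := CfsgLib.ExceptionalIso.homOfAct f T h1 hmul hQ
  have hker : φ.ker = Subgroup.center SL(2, K) := by
    ext g
    rw [MonoidHom.mem_ker, CfsgLib.ExceptionalIso.homOfAct_eq_one]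
    constructor
    · intro h
      have key : ∀ M : Matrix (Fin 2) (Fin 2) K, star' M = M → g.1 * M * star' g.1 = M := fun M hM => by
        obtain ⟨v, rfl⟩ := hsurj M hM
        rw [← hT, h]; rfl
      have hgg : g.1 * star' g.1 = 1 := by simpa using key 1 hstar1
      have hgg' : star' g.1 * g.1 = 1 := mul_eq_one_comm.mp hgg
      have hcomm : ∀ M : Matrix (Fin 2) (Fin 2) K, star' M = M → g.1 * M = M * g.1 := fun M hM => by
        conv_rhs => rw [← key M hM, Matrix.mul_assoc, hgg', Matrix.mul_one]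
      have c1 := hcomm !![1, 0; 0, 0] (by ext i j; fin_cases i <;> fin_cases j <;> simp [star'])
      have c2 := hcomm !![0, 1; 1, 0] (by ext i j; fin_cases i <;> fin_cases j <;> simp [star'])
      have a01 := congrFun (congrFun c1 0) 1
      have a10 := congrFun (congrFun c1 1) 0
      have a00 := congrFun (congrFun c2 0) 1
      simp [Matrix.mul_apply, Fin.sum_univ_two] at a01 a10 a00
      rw [Subgroup.mem_center_iff]
      intro x
      refine Subtype.ext ?_
      show x.1 * g.1 = g.1 * x.1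
      ext i j
      fin_cases i <;> fin_cases j <;>
        simp [Matrix.mul_apply, Fin.sum_univ_two, ← a01, a10, ← a00] <;> ring
    · intro hg
      obtain ⟨r, hr2, hr⟩ := Matrix.SpecialLinearGroup.mem_center_iff.mp hg
      have hr2' : r * r = 1 := by rw [← sq]; simpa using hr2
      have hσr : D.σ r = r := by
        rcases mul_self_eq_one_iff.mp hr2' with e | e <;> rw [e] <;> simp
      refine LinearMap.ext fun v => hinj ?_
      rw [hT, LinearMap.id_apply, ← hr]
      show Matrix.scalar (Fin 2) r * toH v * star' (Matrix.scalar (Fin 2) r) = _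
      ext i j
      fin_cases i <;> fin_cases j <;>
        simp [star', Matrix.mul_apply, Fin.sum_univ_two, hσr] <;>
        first
          | linear_combination (x₀ v) * hr2'
          | linear_combination (w₀ v) * hr2'
          | linear_combination (D.σ (w₀ v)) * hr2'
          | linear_combination (toH v 0 0) * hr2'
          | linear_combination (toH v 0 1) * hr2'
          | linear_combination (toH v 1 0) * hr2'
          | linear_combination (toH v 1 1) * hr2'
  have hq2 : 2 ≤ q := hF ▸ Fintype.one_lt_card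
  have hK4 : 4 ≤ Fintype.card K := by rw [hK]; nlinarith
  have hperf := CfsgLib.SL2Hom.commutator_top (F := K) hK4
  have hle : φ.range ≤ Cfsg.Omega F f := CfsgLib.ExceptionalIso.range_le_of_perfect φ hperf
  have hQm : f = ⇑(CfsgLib.StdQuadForms.Qm 1 a b) :=
    funext fun v => (CfsgLib.StdQuadForms.Qm_apply 1 a b v).symm
  have hnd := CfsgLib.StdQuadForms.Qm_nondeg 1 hab
  have hidx : (Cfsg.Omega F f).index = 2 * Nat.card φ.ker := by
    rw [hker, CfsgLib.SLCard.card_SL_center (by norm_num), hK]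
    rcases Nat.mod_two_eq_zero_or_one q with he | ho
    · have hev : Even (q ^ 2) := (Nat.even_iff.mpr he).pow_of_ne_zero two_ne_zero
      have hg : Nat.gcd 2 (q ^ 2 - 1) = 1 :=
        Nat.coprime_two_left.mpr (Nat.odd_iff.mpr (by have := Nat.even_iff.mp hev; have : 1 ≤ q ^ 2 := Nat.one_le_pow _ _ (by omega); omega))
      have hc : ringChar F = 2 := (FiniteField.even_card_iff_char_two (F := F)).mpr (hF ▸ he)
      haveI : CharP F 2 := ringChar.of_eq hc
      have h20 : (2 : F) = 0 := CharTwo.two_eq_zero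
      rw [hg]
      by_cases hq3 : q = 2
      swap
      · rw [hQm]
        exact CfsgLib.SpinorMatrix.omega_index_two _ h20 (by simp) hnd
          (CfsgLib.SpinorMatrix.field_cond (Or.inl (by omega)))
      -- the field with two elements
      have hF2 : ∀ r : F, r = 0 ∨ r = 1 := fun r => by
        by_contra hh
        push Not at hh
        have := Finset.card_le_univ ({0, 1, r} : Finset F)
        rw [Finset.card_eq_three.mpr ⟨0, 1, r, zero_ne_one, hh.1.symm, hh.2.symm, rfl⟩] at this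
        omega
      obtain ⟨χ, u, hu⟩ : ∃ (χ : Cfsg.isometryGroup F f →* ℤˣ) (u : _), χ u = -1 := by
        rw [hQm]
        set Q := CfsgLib.StdQuadForms.Qm 1 a b
        have hQv : ∀ v : ((Fin 1 ⊕ Fin 1) ⊕ Fin 2 → F), Q v = v (Sum.inl (Sum.inl 0)) * v (Sum.inl (Sum.inr 0)) +
            (v (Sum.inr 0) ^ 2 + a * v (Sum.inr 0) * v (Sum.inr 1) + b * v (Sum.inr 1) ^ 2) := fun v => by
          rw [CfsgLib.StdQuadForms.Qm_apply]; simp [Cfsg.quadFormMinus]
        let sw : ((Fin 1 ⊕ Fin 1) ⊕ Fin 2 → F) ≃ₗ[F] ((Fin 1 ⊕ Fin 1) ⊕ Fin 2 → F) := LinearEquiv.funCongrLeft F F (Equiv.sumCongr (Equiv.sumComm _ _) (Equiv.refl _))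
        have hswv : ∀ (v : (Fin 1 ⊕ Fin 1) ⊕ Fin 2 → F) (k : (Fin 1 ⊕ Fin 1) ⊕ Fin 2),
            sw v k = v (Equiv.sumCongr (Equiv.sumComm _ _) (Equiv.refl _) k) := fun _ _ => rfl
        have hsw : sw ∈ CfsgLib.WittExtension.quadIso Q := fun v => by
          rw [hQv, hQv]
          simp [hswv, mul_comm]
        refine ⟨(CfsgLib.SpinorNorm.levelSign Q 0).comp (CfsgLib.SpinorMatrix.isoEquiv Q).toMonoidHom,
          (CfsgLib.SpinorMatrix.isoEquiv Q).symm ⟨sw, hsw⟩, ?_⟩
        rw [MonoidHom.comp_apply, MulEquiv.coe_toMonoidHom, MulEquiv.apply_symm_apply]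
        let P0 : ((Fin 1 ⊕ Fin 1) ⊕ Fin 2 → F) := Sum.elim (Sum.elim (fun _ => 1) (fun _ => 0)) 0
        let P1 : ((Fin 1 ⊕ Fin 1) ⊕ Fin 2 → F) := Sum.elim (Sum.elim (fun _ => 0) (fun _ => 1)) 0
        have hP0 : Q P0 = 0 := by rw [hQv]; simp [P0]
        have hP1 : Q P1 = 0 := by rw [hQv]; simp [P1]
        have hne : (⟨P0, hP0⟩ : {x : ((Fin 1 ⊕ Fin 1) ⊕ Fin 2 → F) // Q x = 0}) ≠ ⟨P1, hP1⟩ := fun h => by
          have := congrFun (congrArg Subtype.val h) (Sum.inl (Sum.inl 0))
          simp [P0, P1] at this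
        show Equiv.Perm.sign (CfsgLib.SpinorNorm.levelPerm Q 0 ⟨sw, hsw⟩) = -1
        suffices h : CfsgLib.SpinorNorm.levelPerm Q 0 ⟨sw, hsw⟩ = Equiv.swap ⟨P0, hP0⟩ ⟨P1, hP1⟩ by
          rw [h, Equiv.Perm.sign_swap hne]
        refine Equiv.ext fun p => ?_
        have hp : (CfsgLib.SpinorNorm.levelPerm Q 0 ⟨sw, hsw⟩ p).1 = sw p.1 := rfl
        have hz : ∀ v : ((Fin 1 ⊕ Fin 1) ⊕ Fin 2 → F), Q v = 0 → v (Sum.inl (Sum.inl 0)) ≠ v (Sum.inl (Sum.inr 0)) → v = P0 ∨ v = P1 := by
          intro v hv hxy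
          have hxy0 : v (Sum.inl (Sum.inl 0)) * v (Sum.inl (Sum.inr 0)) = 0 := by
            rcases hF2 (v (Sum.inl (Sum.inl 0))) with e | e <;> rcases hF2 (v (Sum.inl (Sum.inr 0))) with e' | e' <;>
              rw [e, e'] at hxy ⊢ <;> simp at hxy ⊢
          rw [hQv, hxy0, zero_add] at hv
          obtain ⟨z0, z1⟩ := hab _ _ hv
          rcases hF2 (v (Sum.inl (Sum.inl 0))) with e | e <;> rcases hF2 (v (Sum.inl (Sum.inr 0))) with e' | e' <;>
            rw [e, e'] at hxy
          · exact absurd rfl hxy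
          · right; funext s; rcases s with (i | i) | i <;> fin_cases i <;> simp [P1, e, e', z0, z1]
          · left; funext s; rcases s with (i | i) | i <;> fin_cases i <;> simp [P0, e, e', z0, z1]
          · exact absurd rfl hxy
        by_cases e0 : p.1 = P0
        · rw [show p = ⟨P0, hP0⟩ from Subtype.ext e0, Equiv.swap_apply_left]
          refine Subtype.ext ?_
          show sw P0 = P1
          funext s; rcases s with (i | i) | i <;> fin_cases i <;> simp [hswv, P0, P1]
        by_cases e1 : p.1 = P1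
        · rw [show p = ⟨P1, hP1⟩ from Subtype.ext e1, Equiv.swap_apply_right]
          refine Subtype.ext ?_
          show sw P1 = P0
          funext s; rcases s with (i | i) | i <;> fin_cases i <;> simp [hswv, P0, P1]
        rw [Equiv.swap_apply_of_ne_of_ne (fun h => e0 (congrArg Subtype.val h)) (fun h => e1 (congrArg Subtype.val h))]
        refine Subtype.ext ?_
        rw [hp]
        have hxy : p.1 (Sum.inl (Sum.inl 0)) = p.1 (Sum.inl (Sum.inr 0)) := by
          by_contra hne'
          rcases hz p.1 p.2 hne' with h | h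
          · exact e0 h
          · exact e1 h
        funext s
        rcases s with (i | i) | i <;> fin_cases i <;>
          simp [hswv, hxy]
      have hlt : (Cfsg.Omega F f).index ≠ 1 := fun h1 => by
        have hu1 : u ∈ Cfsg.Omega F f := by rw [Subgroup.index_eq_one.mp h1]; trivial
        have := MonoidHom.mem_ker.mp (Abelianization.commutator_subset_ker χ hu1)
        rw [hu] at this
        exact absurd this (by decide)
      have hk1 : Nat.card φ.ker = 1 := by
        rw [hker, CfsgLib.SLCard.card_SL_center (by norm_num), hK, hg]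
      have hr := Subgroup.card_mul_index φ.ker
      rw [hk1, one_mul, Subgroup.index_ker, CfsgLib.SLCard.card_SL_two, hK, hq3] at hr
      have hO := Subgroup.card_mul_index (Cfsg.Omega F f)
      have hOc : Nat.card (Cfsg.isometryGroup F f) = 2 * 2 ^ 2 * (2 ^ 2 + 1) * (2 ^ 2 - 1) := by
        have h := CfsgLib.OrthOrder.card_O_minus (F := F) 2 (by norm_num) a b hab
        rw [hF, hq3] at h
        simpa using h
      rw [hOc] at hO
      have hle' := Subgroup.card_le_of_le hle
      rw [hr] at hle'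
      generalize (Cfsg.Omega F f).index = n at hO hlt ⊢
      generalize Nat.card (Cfsg.Omega F f) = c at hO hle'
      norm_num at hO hle'
      have : n ≠ 0 := fun h => by rw [h] at hO; omega
      have := Nat.mul_le_mul_right n hle'
      omega
    · have hg : Nat.gcd 2 (q ^ 2 - 1) = 2 := by
        refine Nat.gcd_eq_left ?_
        have := Nat.odd_iff.mp ((Nat.odd_iff.mpr ho).pow (n := 2))
        omega
      have h2 : (2 : F) ≠ 0 :=
        CfsgLib.FiniteForms.two_ne_zero_of_odd (F := F) hF (Nat.odd_iff.mpr ho)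
      rw [hg, hQm]
      exact CfsgLib.SpinorMatrix.omega_index _ h2 (by simp) hnd
  refine CfsgLib.ExceptionalIso.iso_of_hom _ φ hle ?_ hker.le fun z hz =>
    CfsgLib.ExceptionalIso.central_of_perfect hperf z fun g => hker ▸ hz g
  have hO := Subgroup.card_mul_index (Cfsg.Omega F f)
  have hOc : Nat.card (Cfsg.isometryGroup F f) = 2 * q ^ (2 * (2 - 1)) * (q ^ 2 + 1) *
      ∏ i ∈ Finset.range (2 - 1), (q ^ (2 * (i + 1)) - 1) := by
    rw [← hF]; exact CfsgLib.OrthOrder.card_O_minus (F := F) 2 (by norm_num) a b hab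
  rw [hidx, hOc] at hO
  simp only [show 2 - 1 = 1 from rfl, Finset.prod_range_one, Nat.reduceMul, Nat.zero_add, mul_one] at hO
  rw [CfsgLib.SLCard.card_SL_two, hK]
  have h4 : (q ^ 2) ^ 2 - 1 = (q ^ 2 + 1) * (q ^ 2 - 1) := by
    rw [← Nat.sq_sub_sq, one_pow]
  rw [h4]
  generalize q ^ 2 - 1 = A at hO ⊢
  refine Nat.eq_of_mul_eq_mul_left (show 0 < 2 by norm_num) ?_
  linear_combination -hO

/-- PΩ^-_4(q) is isomorphic to PSL_2(q^2). -/
theorem result {F K : Type*} [Field F] [Fintype F] [Field K] [Fintype K] {q : ℕ} (hF : Fintype.card F = q) (hK : Fintype.card K = q ^ 2) (a b : F) (hab : ∀ z₁ z₂ : F, z₁ ^ 2 + a * z₁ * z₂ + b * z₂ ^ 2 = 0 → z₁ = 0 ∧ z₂ = 0) : Nonempty (Cfsg.POmega F (Cfsg.quadFormMinus 1 F a b) ≃* Matrix.ProjectiveSpecialLinearGroup (Fin 2) K) := by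
  exact omega4minus hF hK a b hab

end Cfsg.Agent.S0300
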