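import Cfsg.Statements.S0301
import Mathlib
import Cfsg.Agent.Lib.Plucker
import Cfsg.Agent.Lib.ExceptionalIso
import Cfsg.Agent.Lib.StdQuadForms
import Cfsg.Agent.Lib.SpinorMatrix
import Cfsg.Agent.Lib.OrthOrderBase
import Cfsg.Agent.Lib.SympBlocks
import Cfsg.Agent.Lib.SympSimple
import Cfsg.Agent.Lib.SympTransvection
import Cfsg.Agent.Lib.FiniteForms.Standard

set_option autoImplicit false
open Cfsg

namespace Cfsg.Agent.S0301

set_option maxHeartbeats 1600000 in
open Matrix in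
open scoped MatrixGroups commutatorElement in
theorem omega5 {F : Type*} [Field F] [Fintype F] (hodd : Odd (Fintype.card F)) :
    Nonempty (Cfsg.POmega F (Cfsg.quadFormOdd 2 F) ≃* Cfsg.PSp 2 F) := by
  classical
  have h2 := CfsgLib.FiniteForms.two_ne_zero_of_odd (F := F) rfl hodd
  set f := Cfsg.quadFormOdd 2 F
  let G := Matrix.symplecticGroup (Fin 2) F
  let e : Fin 4 ≃ Fin 2 ⊕ Fin 2 := (finSumFinEquiv (m := 2) (n := 2)).symm
  let ψ : G → Matrix (Fin 4) (Fin 4) F := fun g => g.1.submatrix e e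
  let emb : (Unit ⊕ (Fin 2 ⊕ Fin 2) → F) →ₗ[F] (Fin 3 ⊕ Fin 3 → F) := LinearMap.pi
    (Sum.elim
      ![LinearMap.proj (Sum.inr (Sum.inl 0)), LinearMap.proj (Sum.inl ()), LinearMap.proj (Sum.inr (Sum.inl 1))]
      ![LinearMap.proj (Sum.inr (Sum.inr 0)), LinearMap.proj (Sum.inl ()), LinearMap.proj (Sum.inr (Sum.inr 1))])
  let pr : (Fin 3 ⊕ Fin 3 → F) →ₗ[F] (Unit ⊕ (Fin 2 ⊕ Fin 2) → F) := LinearMap.pi
    (Sum.elim (fun _ => LinearMap.proj (Sum.inl 1))
      (Sum.elim ![LinearMap.proj (Sum.inl 0), LinearMap.proj (Sum.inl 2)]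
        ![LinearMap.proj (Sum.inr 0), LinearMap.proj (Sum.inr 2)]))
  have hpe : ∀ v, pr (emb v) = v := fun v => funext fun s => by
    rcases s with u | i | i
    · simp [pr, emb]
    · fin_cases i <;> simp [pr, emb]
    · fin_cases i <;> simp [pr, emb]
  have hep : ∀ w : Fin 3 ⊕ Fin 3 → F, w (Sum.inl 1) = w (Sum.inr 1) → emb (pr w) = w := fun w hw =>
    funext fun s => by rcases s with i | i <;> fin_cases i <;> simp [pr, emb, hw]
  have hform : ∀ v, Cfsg.quadFormPlus 3 F (emb v) = f v := fun v => by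
    simp [f, Cfsg.quadFormPlus, Cfsg.quadFormOdd, emb, Fin.sum_univ_three, Fin.sum_univ_two]; ring
  have hψ1 : ψ 1 = 1 := by
    show (1 : Matrix (Fin 2 ⊕ Fin 2) (Fin 2 ⊕ Fin 2) F).submatrix e e = 1
    rw [Matrix.submatrix_one_equiv]
  have hψm : ∀ g h, ψ (g * h) = ψ g * ψ h := fun g h => by
    show (g.1 * h.1).submatrix e e = _
    exact (Matrix.submatrix_mul_equiv _ _ _ _ _).symm
  have hψd : ∀ g, (ψ g).det = 1 := fun g => by
    show (g.1.submatrix e e).det = 1
    rw [Matrix.det_submatrix_equiv_self]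
    have hperf : commutator G = ⊤ := CfsgLib.SympSimple.perfect_fintype (Or.inr (Or.inl ⟨rfl, by
      obtain ⟨r, hr⟩ := hodd; have := Fintype.one_lt_card (α := F); omega⟩))
    let d : G →* Fˣ := (Matrix.detMonoidHom.comp G.subtype).toHomUnits
    have := congrArg Units.val (MonoidHom.mem_ker.mp
      (Abelianization.commutator_subset_ker d (hperf ▸ Subgroup.mem_top g)))
    simpa [d] using this
  -- the invariant functional
  let J4 : Matrix (Fin 4) (Fin 4) F := (Matrix.J (Fin 2) F).submatrix e e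
  let L : Matrix (Fin 4) (Fin 4) F → F := fun A => Matrix.trace (J4 * A)
  have hJ4 : J4 = !![0, 0, -1, 0; 0, 0, 0, -1; 1, 0, 0, 0; 0, 1, 0, 0] := by
    ext i j
    fin_cases i <;> fin_cases j <;> simp [J4, e, Matrix.J, finSumFinEquiv, Fin.addCases] <;> rfl
  have hL : ∀ w : Fin 3 ⊕ Fin 3 → F,
      L (CfsgLib.Plucker.toA w) = 2 * (w (Sum.inl 1) - w (Sum.inr 1)) := fun w => by
    simp [L, hJ4, Matrix.trace, Matrix.mul_apply, Matrix.vecMul, dotProduct, Fin.sum_univ_four, CfsgLib.Plucker.toA, CfsgLib.Plucker.U]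
    ring
  have hinv : ∀ g : G, (ψ g)ᵀ * J4 * ψ g = J4 := fun g => by
    show (g.1.submatrix e e)ᵀ * (Matrix.J (Fin 2) F).submatrix e e * g.1.submatrix e e = _
    rw [Matrix.transpose_submatrix, Matrix.submatrix_mul_equiv, Matrix.submatrix_mul_equiv,
      SymplecticGroup.mem_iff'.mp g.2]
  have hLinv : ∀ g w, L (CfsgLib.Plucker.toA (CfsgLib.Plucker.T (ψ g) w)) = L (CfsgLib.Plucker.toA w) := by
    intro g w
    show Matrix.trace (J4 * _) = Matrix.trace (J4 * _)
    rw [CfsgLib.Plucker.toA_T, ← Matrix.mul_assoc, Matrix.trace_mul_comm, ← Matrix.mul_assoc,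
      ← Matrix.mul_assoc, hinv]
  have hstab : ∀ g v, CfsgLib.Plucker.T (ψ g) (emb v) = emb (pr (CfsgLib.Plucker.T (ψ g) (emb v))) := by
    intro g v
    refine (hep _ ?_).symm
    have h := hLinv g (emb v)
    rw [hL, hL] at h
    have h' : emb v (Sum.inl 1) - emb v (Sum.inr 1) = 0 := by simp [emb]
    rw [h'] at h
    exact sub_eq_zero.mp (mul_left_cancel₀ h2 h)
  let T : G → (Unit ⊕ (Fin 2 ⊕ Fin 2) → F) →ₗ[F] (Unit ⊕ (Fin 2 ⊕ Fin 2) → F) := fun g =>
    pr ∘ₗ CfsgLib.Plucker.T (ψ g) ∘ₗ emb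
  have hTe : ∀ g v, emb (T g v) = CfsgLib.Plucker.T (ψ g) (emb v) := fun g v => (hstab g v).symm
  have h1 : T 1 = LinearMap.id := LinearMap.ext fun v => by
    simp [T, hψ1, CfsgLib.Plucker.T_one, hpe]
  have hmul : ∀ g h, T (g * h) = T g ∘ₗ T h := fun g h => LinearMap.ext fun v => by
    show pr (CfsgLib.Plucker.T (ψ (g * h)) (emb v)) = pr (CfsgLib.Plucker.T (ψ g) (emb (T h v)))
    rw [hψm, CfsgLib.Plucker.T_mul, hTe]
    rfl
  have hQ : ∀ g v, f (T g v) = f v := fun g v => by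
    rw [← hform, ← hform, hTe, CfsgLib.Plucker.form_T, hψd, one_mul]
  set φ := CfsgLib.ExceptionalIso.homOfAct f T h1 hmul hQ
  have hker : φ.ker = Subgroup.center G := by
    ext g
    rw [MonoidHom.mem_ker, CfsgLib.ExceptionalIso.homOfAct_eq_one]
    have hsc : ∀ r : F, ψ g = Matrix.scalar (Fin 4) r ↔ g.1 = Matrix.scalar (Fin 2 ⊕ Fin 2) r := fun r => by
      constructor
      · intro h
        ext i j
        have h' := congrFun (congrFun h (e.symm i)) (e.symm j)
        simpa [ψ, Matrix.scalar_apply, Matrix.diagonal_apply] using h'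
      · intro h
        show g.1.submatrix e e = _
        rw [h, Matrix.scalar_apply, Matrix.submatrix_diagonal_equiv, Matrix.scalar_apply]
        rfl
    constructor
    · intro h
      have hfix : CfsgLib.Plucker.T (ψ g) = LinearMap.id := by
        let wJ : Fin 3 ⊕ Fin 3 → F := Sum.elim ![0, -1, 0] ![0, 1, 0]
        have hwJ : CfsgLib.Plucker.toA wJ = J4 := by
          rw [hJ4]
          ext i j
          fin_cases i <;> fin_cases j <;> simp [CfsgLib.Plucker.toA, CfsgLib.Plucker.U, wJ]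
        have hJfix : CfsgLib.Plucker.T (ψ g) wJ = wJ := CfsgLib.Plucker.toA_injective (by
          rw [CfsgLib.Plucker.toA_T, hwJ]
          show g.1.submatrix e e * (Matrix.J (Fin 2) F).submatrix e e * (g.1.submatrix e e)ᵀ = _
          rw [Matrix.transpose_submatrix, Matrix.submatrix_mul_equiv, Matrix.submatrix_mul_equiv,
            SymplecticGroup.mem_iff.mp g.2])
        refine LinearMap.ext fun w => ?_
        set s := (w (Sum.inr 1) - w (Sum.inl 1)) / 2
        have hw : emb (pr (w - s • wJ)) = w - s • wJ := hep _ (by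
          simp [wJ, s]; field_simp; ring)
        have hTv : CfsgLib.Plucker.T (ψ g) (emb (pr (w - s • wJ))) = emb (pr (w - s • wJ)) := by
          rw [← hTe, h]; rfl
        rw [hw, map_sub, map_smul, hJfix, sub_left_inj] at hTv
        exact hTv
      obtain ⟨r, -, hr⟩ := (CfsgLib.Plucker.T_eq_id_iff (by rw [hψd]; exact one_ne_zero)).mp hfix
      rw [Subgroup.mem_center_iff]
      intro x
      refine Subtype.ext ?_
      show x.1 * g.1 = g.1 * x.1
      rw [(hsc r).mp hr]
      exact (Matrix.scalar_commute r (fun s => Commute.all r s) x.1).eq.symm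
    · intro h
      obtain ⟨r, hr⟩ := CfsgLib.SympTransvection.scalar_of_central g h
      have hr2 : r * r = 1 := by
        have := (CfsgLib.SympTransvection.scalar_mem_iff (m := 2) (by norm_num) r).mp (hr ▸ g.2)
        rwa [← sq]
      refine LinearMap.ext fun v => ?_
      show pr (CfsgLib.Plucker.T (ψ g) (emb v)) = v
      rw [(CfsgLib.Plucker.T_eq_id_iff (by rw [hψd]; exact one_ne_zero)).mpr ⟨r, hr2, (hsc r).mpr hr⟩,
        LinearMap.id_apply, hpe]
  have hq3 : 3 ≤ Fintype.card F := by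
    obtain ⟨r, hr⟩ := hodd; have := Fintype.one_lt_card (α := F); omega
  have hperf : commutator G = ⊤ := CfsgLib.SympSimple.perfect_fintype (Or.inr (Or.inl ⟨rfl, hq3⟩))
  have hidx : (Cfsg.Omega F f).index = 4 := by
    rw [show f = ⇑(CfsgLib.StdQuadForms.Qo 2) from funext fun v => (CfsgLib.StdQuadForms.Qo_apply 2 v).symm]
    exact CfsgLib.SpinorMatrix.omega_index _ h2 (by simp) (CfsgLib.StdQuadForms.Qo_nondeg h2 2)
  refine CfsgLib.ExceptionalIso.iso_of_hom _ φ (CfsgLib.ExceptionalIso.range_le_of_perfect φ hperf) ?_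
    hker.le fun z hz => CfsgLib.ExceptionalIso.central_of_perfect hperf z fun g => hker ▸ hz g
  have hO := Subgroup.card_mul_index (Cfsg.Omega F f)
  rw [hidx, CfsgLib.OrthOrder.card_O_odd hodd 2] at hO
  have hc2 : Nat.card φ.ker = 2 := by
    rw [hker, CfsgLib.SympTransvection.card_center (by norm_num)]
    obtain ⟨r, hr⟩ := hodd
    exact Nat.gcd_eq_left (by omega)
  have h0 : Nat.card (Matrix.symplecticGroup (Fin 0) F) = 1 :=
    Nat.card_eq_one_iff_unique.mpr ⟨⟨fun x y => Subtype.ext (Subsingleton.elim _ _)⟩, ⟨1⟩⟩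
  rw [hc2, show Nat.card G = Nat.card (Matrix.symplecticGroup (Fin (1 + 1)) F) from rfl,
    CfsgLib.SympBlocks.card_step 1, CfsgLib.SympBlocks.card_step 0, h0]
  simp only [Finset.prod_range_succ, Finset.prod_range_zero, Nat.reduceMul, Nat.reduceAdd, Nat.reducePow,
    zero_add, one_mul, mul_zero] at hO ⊢
  generalize Fintype.card F ^ 2 - 1 = A at hO ⊢
  generalize Fintype.card F ^ 4 - 1 = B at hO ⊢
  refine Nat.eq_of_mul_eq_mul_left (show 0 < 2 by norm_num) ?_
  linear_combination -hO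

/-- PΩ_5(q) is isomorphic to PSp_4(q) for q odd. -/
theorem result {F : Type*} [Field F] [Fintype F] (hodd : Odd (Fintype.card F)) : Nonempty (Cfsg.POmega F (Cfsg.quadFormOdd 2 F) ≃* Cfsg.PSp 2 F) := by
  exact omega5 hodd

end Cfsg.Agent.S0301
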