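import Cfsg.Statements.S0302
import Mathlib
import Cfsg.Agent.Lib.ExceptionalIso
import Cfsg.Agent.Lib.Lagrangian
import Cfsg.Agent.Lib.SpinorMatrix
import Cfsg.Agent.Lib.OrthOrderBase
import Cfsg.Agent.Lib.SLCard
import Cfsg.Agent.Lib.SLPerfect

set_option autoImplicit false
open Cfsg

namespace Cfsg.Agent.S0302

set_option maxHeartbeats 2400000 in
open Matrix in
open scoped MatrixGroups commutatorElement in
theorem omega6plus {F : Type*} [Field F] [Fintype F] :
    Nonempty (Cfsg.POmega F (Cfsg.quadFormPlus 3 F) ≃* Matrix.ProjectiveSpecialLinearGroup (Fin 4) F) := by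
  classical
  set f := Cfsg.quadFormPlus 3 F
  let U : (Fin 3 ⊕ Fin 3 → F) → Matrix (Fin 4) (Fin 4) F := fun v =>
    !![0, v (Sum.inl 0), v (Sum.inl 1), v (Sum.inl 2);
       0, 0, v (Sum.inr 2), -v (Sum.inr 1);
       0, 0, 0, v (Sum.inr 0);
       0, 0, 0, 0]
  let vec : Matrix (Fin 4) (Fin 4) F → (Fin 3 ⊕ Fin 3 → F) := fun M =>
    Sum.elim ![M 0 1, M 0 2, M 0 3] ![M 2 3, M 3 1, M 1 2]
  let toA : (Fin 3 ⊕ Fin 3 → F) → Matrix (Fin 4) (Fin 4) F := fun v => U v - (U v)ᵀ
  have hvec : ∀ v, vec (toA v) = v := fun v => funext fun s => by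
    rcases s with i | i <;> fin_cases i <;> simp [vec, toA, U]
  have hto : ∀ B : Matrix (Fin 4) (Fin 4) F, toA (vec (B - Bᵀ)) = B - Bᵀ := fun B => by
    ext i j
    fin_cases i <;> fin_cases j <;> simp [vec, toA, U]
  have hadd : ∀ u v, toA (u + v) = toA u + toA v := fun u v => by
    ext i j
    fin_cases i <;> fin_cases j <;> simp [toA, U] <;> ring
  have hsmul : ∀ (c : F) v, toA (c • v) = c • toA v := fun c v => by
    ext i j
    fin_cases i <;> fin_cases j <;> simp [toA, U] <;> ring
  have vadd : ∀ M N, vec (M + N) = vec M + vec N := fun M N => funext fun s => by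
    rcases s with i | i <;> fin_cases i <;> simp [vec]
  have vsmul : ∀ (c : F) M, vec (c • M) = c • vec M := fun c M => funext fun s => by
    rcases s with i | i <;> fin_cases i <;> simp [vec]
  let T : SL(4, F) → (Fin 3 ⊕ Fin 3 → F) →ₗ[F] (Fin 3 ⊕ Fin 3 → F) := fun g =>
    { toFun := fun v => vec (g.1 * toA v * g.1ᵀ)
      map_add' := fun u v => by rw [hadd, Matrix.mul_add, Matrix.add_mul, vadd]
      map_smul' := fun c v => by rw [hsmul, Matrix.mul_smul, Matrix.smul_mul, vsmul]; rfl }
  have hT : ∀ (g : SL(4, F)) v, T g v = vec (g.1 * toA v * g.1ᵀ) := fun g v => rfl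
  have hTA : ∀ (g : SL(4, F)) v, toA (T g v) = g.1 * toA v * g.1ᵀ := fun g v => by
    have e : g.1 * toA v * g.1ᵀ = g.1 * U v * g.1ᵀ - (g.1 * U v * g.1ᵀ)ᵀ := by
      simp only [toA, Matrix.mul_sub, Matrix.sub_mul, Matrix.transpose_mul, Matrix.transpose_transpose,
        Matrix.mul_assoc]
    rw [hT, e, hto]
  have hinj : Function.Injective toA := fun u v h => by rw [← hvec u, h, hvec]
  have h1 : T 1 = LinearMap.id := LinearMap.ext fun v => by
    rw [hT, show (1 : SL(4, F)).1 = 1 from rfl, Matrix.transpose_one, Matrix.one_mul, Matrix.mul_one, hvec]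
    rfl
  have hmul : ∀ g h, T (g * h) = T g ∘ₗ T h := fun g h => LinearMap.ext fun v => hinj (by
    rw [LinearMap.comp_apply, hTA, hTA, hTA, show (g * h).1 = g.1 * h.1 from rfl, Matrix.transpose_mul]
    simp only [Matrix.mul_assoc])
  have hQ : ∀ g v, f (T g v) = f v := fun g v => by
    have key : f (T g v) = g.1.det * f v := by
      rw [hT, Matrix.det_succ_row_zero]
      simp [f, Cfsg.quadFormPlus, vec, toA, U, Matrix.mul_apply, Fin.sum_univ_succ, Matrix.det_fin_three,
        Fin.succAbove]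
      ring
    rw [key, g.2, one_mul]
  set φ := CfsgLib.ExceptionalIso.homOfAct f T h1 hmul hQ
  have hker : ∀ g : SL(4, F), g ∈ φ.ker ↔ ∃ r : F, r * r = 1 ∧ g.1 = Matrix.scalar (Fin 4) r := by
    intro g
    rw [MonoidHom.mem_ker, CfsgLib.ExceptionalIso.homOfAct_eq_one]
    constructor
    · intro h
      have key : ∀ B : Matrix (Fin 4) (Fin 4) F, g.1 * (B - Bᵀ) * g.1ᵀ = B - Bᵀ := fun B => by
        rw [← hto B, ← hTA, h]; rfl
      have hu : IsUnit g.1ᵀ.det := by rw [Matrix.det_transpose, g.2]; exact isUnit_one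
      have hoff : ∀ a i j : Fin 4, a ≠ i → a ≠ j → i ≠ j → g.1 a i = 0 := by
        intro a i j hai haj hij
        have hk := congrArg (fun X => X * g.1ᵀ⁻¹) (key (Matrix.single i j 1))
        simp only [Matrix.mul_assoc, Matrix.mul_nonsing_inv _ hu, Matrix.mul_one] at hk
        have hk' := congrFun (congrFun hk a) j
        simpa [Matrix.mul_sub, Matrix.sub_mul, Matrix.transpose_single, hai, haj, hij,
          Matrix.single_mul_apply_of_ne, Ne.symm hai, Ne.symm haj, Ne.symm hij] using hk'
      have hdiag : ∀ a i : Fin 4, a ≠ i → g.1 a i = 0 := fun a i hai => by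
        obtain ⟨j, hj1, hj2⟩ : ∃ j : Fin 4, a ≠ j ∧ i ≠ j := by
          revert a i hai; decide
        exact hoff a i j hai hj1 hj2
      have hdd : g.1 = Matrix.diagonal fun i => g.1 i i := Matrix.ext fun a i => by
        by_cases e : a = i
        · subst e; simp
        · rw [Matrix.diagonal_apply_ne _ e, hdiag a i e]
      have hpair : ∀ i j : Fin 4, i ≠ j → g.1 i i * g.1 j j = 1 := fun i j hij => by
        have hk := congrFun (congrFun (key (Matrix.single i j 1)) i) j
        rw [hdd, Matrix.diagonal_transpose] at hk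
        simpa [Matrix.diagonal_mul, Matrix.mul_diagonal, Matrix.transpose_single,
          hij, Ne.symm hij] using hk
      have hsq : g.1 0 0 * g.1 0 0 = 1 := by
        have e1 := hpair 0 1 (by decide)
        have e2 := hpair 1 2 (by decide)
        have e3 := hpair 0 2 (by decide)
        linear_combination e1 + (g.1 0 0 * g.1 0 0) * (-1 : F) * e2 + (g.1 0 0 * g.1 1 1) * e3
      refine ⟨g.1 0 0, hsq, hdd.trans ?_⟩
      rw [Matrix.scalar_apply]
      congr 1
      funext i
      by_cases hi : i = 0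
      · rw [hi]
      · calc g.1 i i = (g.1 0 0 * g.1 0 0) * g.1 i i := by rw [hsq, one_mul]
          _ = g.1 0 0 := by rw [mul_assoc, hpair 0 i (Ne.symm hi), mul_one]
    · rintro ⟨r, hr, hg⟩
      refine LinearMap.ext fun v => hinj ?_
      rw [hTA, hg, LinearMap.id_apply, Matrix.scalar_apply, Matrix.diagonal_transpose]
      ext i j
      rw [Matrix.mul_diagonal, Matrix.diagonal_mul]
      linear_combination (toA v i j) * hr
  have hkc : φ.ker ≤ Subgroup.center SL(4, F) := fun g hg => by
    obtain ⟨r, -, hr⟩ := (hker g).mp hg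
    rw [Subgroup.mem_center_iff]
    intro x
    refine Subtype.ext ?_
    show x.1 * g.1 = g.1 * x.1
    rw [hr]
    exact (Matrix.scalar_commute r (fun s => Commute.all r s) x.1).eq.symm
  have hnd : (QuadraticMap.polarBilin (CfsgLib.Lagrangian.Qp 3 F)).Nondegenerate := CfsgLib.Lagrangian.Qp_nondeg
  have hQp : f = ⇑(CfsgLib.Lagrangian.Qp 3 F) := funext fun v => (CfsgLib.Lagrangian.Qp_apply v).symm
  have hidx : (Cfsg.Omega F f).index = 2 * Nat.card φ.ker := by
    by_cases h2 : (2 : F) = 0
    · have hk1 : Nat.card φ.ker = 1 := by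
        refine Nat.card_eq_one_iff_unique.mpr ⟨⟨fun x y => ?_⟩, ⟨1⟩⟩
        have : ∀ z : φ.ker, z.1 = 1 := fun z => by
          obtain ⟨r, hr, hz⟩ := (hker z.1).mp z.2
          refine Subtype.ext ?_
          have hr1 : r = 1 := by
            rcases mul_self_eq_one_iff.mp hr with e | e
            · exact e
            · rw [e]; linear_combination -h2
          rw [hz, hr1, map_one]; rfl
        exact Subtype.ext ((this x).trans (this y).symm)
      rw [hk1, hQp, CfsgLib.SpinorMatrix.omega_index_two _ h2 (by simp) hnd (Or.inr (by simp))]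
    · have hk2 : Nat.card φ.ker = 2 := by
        have hd : ((-1 : F) • (1 : Matrix (Fin 4) (Fin 4) F)).det = 1 := by
          rw [Matrix.det_smul]; simp; norm_num
        have hneg : (⟨_, hd⟩ : SL(4, F)) ∈ φ.ker := (hker _).mpr ⟨-1, by ring, by
          ext i j; by_cases e : i = j <;> simp [e]⟩
        rw [Nat.card_eq_two_iff]
        refine ⟨1, ⟨_, hneg⟩, fun h => ?_, Set.eq_univ_of_forall fun z => ?_⟩
        · have := congrArg (fun z : φ.ker => z.1.1 0 0) h
          simp at this
          exact h2 (by linear_combination this)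
        · obtain ⟨r, hr, hz⟩ := (hker z.1).mp z.2
          rcases mul_self_eq_one_iff.mp hr with e | e
          · exact Or.inl (Subtype.ext (Subtype.ext (by rw [hz, e, map_one]; rfl)))
          · refine Or.inr (Subtype.ext (Subtype.ext ?_))
            rw [hz, e]
            ext i j; by_cases e' : i = j <;> simp [e']
      rw [hk2, hQp, CfsgLib.SpinorMatrix.omega_index _ h2 (by simp) hnd]
  have hperf : commutator SL(4, F) = ⊤ := CfsgLib.SLPerfect.commutator_eq_top (by norm_num)
  refine CfsgLib.ExceptionalIso.iso_of_hom _ φ (CfsgLib.ExceptionalIso.range_le_of_perfect φ hperf) ?_ hkc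
    fun z hz => CfsgLib.ExceptionalIso.central_of_perfect hperf z fun g => hkc (hz g)
  have hO := Subgroup.card_mul_index (Cfsg.Omega F f)
  rw [hidx, CfsgLib.OrthOrder.card_O_plus 3 (by norm_num)] at hO
  have hS := CfsgLib.SLCard.card_units_mul_card_SL (F := F) (n := 4) (by norm_num)
  rw [Matrix.card_GL_field, Fin.prod_univ_four] at hS
  simp only [Fin.val_zero, Fin.val_one, Fin.val_two, show ((3 : Fin 4) : ℕ) = 3 from rfl, pow_zero, pow_one] at hS
  simp only [Finset.prod_range_succ, Finset.prod_range_zero, Nat.reduceMul, Nat.reduceAdd, Nat.reduceSub,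
    zero_add, one_mul] at hO
  generalize Nat.card SL(4, F) = S at hS ⊢
  generalize Nat.card φ.ker = k at hO ⊢
  generalize Nat.card (Cfsg.Omega F f) = w at hO ⊢
  set q := Fintype.card F with hq
  have hq2 : 2 ≤ q := Fintype.one_lt_card
  refine Nat.eq_of_mul_eq_mul_left (show 0 < 2 * (q - 1) by omega) ?_
  have e1 : q ≤ q ^ 4 := Nat.le_self_pow (by norm_num) q
  have e2 : q ^ 2 ≤ q ^ 4 := Nat.pow_le_pow_right (by omega) (by norm_num)
  have e3 : q ^ 3 ≤ q ^ 4 := Nat.pow_le_pow_right (by omega) (by norm_num)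
  have e4 : 1 ≤ q ^ 4 := Nat.one_le_pow _ _ (by omega)
  have e5 : 1 ≤ q ^ 2 := Nat.one_le_pow _ _ (by omega)
  have e6 : 1 ≤ q ^ 3 := Nat.one_le_pow _ _ (by omega)
  have e7 : 1 ≤ q := by omega
  zify [e1, e2, e3, e4, e5, e6, e7] at hS hO ⊢
  linear_combination 2 * hS - ((q : ℤ) - 1) * hO

/-- PΩ^+_6(q) is isomorphic to PSL_4(q). -/
theorem result {F : Type*} [Field F] [Fintype F] : Nonempty (Cfsg.POmega F (Cfsg.quadFormPlus 3 F) ≃* Matrix.ProjectiveSpecialLinearGroup (Fin 4) F) := by
  exact omega6plus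

end Cfsg.Agent.S0302
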