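import Cfsg.Statements.S0307
import Mathlib
import Cfsg.Agent.Lib.SLCard

set_option autoImplicit false
open Cfsg

namespace Cfsg.Agent.S0307



/-- PSL_n(q) is normal in PGL_n(q) with cyclic quotient of order gcd(n, q-1): the image of the natural map PSL_n → PGL_n is the kernel of a surjective homomorphism onto the cyclic group of that order. -/
theorem result {F : Type*} [Field F] [Fintype F] {q : ℕ} (hF : Fintype.card F = q) (n : ℕ) (hn : 1 ≤ n) : ∃ g : Matrix.ProjGenLinGroup (Fin n) F →* Multiplicative (ZMod (Nat.gcd n (q - 1))), Function.Surjective g ∧ g.ker = (Matrix.ProjectiveSpecialLinearGroup.toPGL : Matrix.ProjectiveSpecialLinearGroup (Fin n) F →* Matrix.ProjGenLinGroup (Fin n) F).range := by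
  classical
  set N : Subgroup Fˣ := (powMonoidHom n : Fˣ →* Fˣ).range with hN
  have hcard : Nat.card (Fˣ ⧸ N) = Nat.card (Multiplicative (ZMod (Nat.gcd n (q - 1)))) := by
    show N.index = _
    rw [hN, IsCyclic.index_powMonoidHom_range, Nat.card_units, Nat.card_eq_fintype_card, hF,
      Nat.card_congr Multiplicative.toAdd, Nat.card_zmod, Nat.gcd_comm]
  haveI : IsCyclic (Fˣ ⧸ N) := isCyclic_of_surjective _ (QuotientGroup.mk'_surjective N)
  let e := mulEquivOfCyclicCardEq hcard
  let χ : GL (Fin n) F →* Multiplicative (ZMod (Nat.gcd n (q - 1))) :=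
    e.toMonoidHom.comp ((QuotientGroup.mk' N).comp Matrix.GeneralLinearGroup.det)
  have hscal : ∀ u : Fˣ, Matrix.GeneralLinearGroup.det (Matrix.GeneralLinearGroup.scalar (Fin n) u) = u ^ n := by
    intro u; ext; simp
  have hχ : χ.comp (Matrix.GeneralLinearGroup.scalar (Fin n)) = 1 := by
    ext1 u
    show e (QuotientGroup.mk' N (Matrix.GeneralLinearGroup.det _)) = 1
    rw [hscal, MulEquiv.map_eq_one_iff]
    exact (QuotientGroup.eq_one_iff _).mpr ⟨u, rfl⟩
  refine ⟨Matrix.ProjGenLinGroup.lift χ hχ, ?_, ?_⟩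
  · intro z
    obtain ⟨u, hu⟩ := QuotientGroup.mk'_surjective N (e.symm z)
    obtain ⟨g, hg⟩ := CfsgLib.SLCard.det_surjective (F := F) hn u
    exact ⟨Matrix.ProjGenLinGroup.mk g, by
      rw [Matrix.ProjGenLinGroup.lift_mk]
      show e (QuotientGroup.mk' N (Matrix.GeneralLinearGroup.det g)) = z
      rw [hg, hu, MulEquiv.apply_symm_apply]⟩
  · ext x
    constructor
    · intro hx
      cases x with | mk g =>
      rw [MonoidHom.mem_ker, Matrix.ProjGenLinGroup.lift_mk] at hx
      have hx' : e (QuotientGroup.mk' N (Matrix.GeneralLinearGroup.det g)) = 1 := hx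
      rw [MulEquiv.map_eq_one_iff] at hx'
      obtain ⟨u, hu⟩ := (QuotientGroup.eq_one_iff _).mp hx'
      have hu' : u ^ n = Matrix.GeneralLinearGroup.det g := hu
      have hdet : g * Matrix.GeneralLinearGroup.scalar (Fin n) u⁻¹ ∈
          (Matrix.SpecialLinearGroup.toGL : Matrix.SpecialLinearGroup (Fin n) F →* GL (Fin n) F).range := by
        rw [CfsgLib.SLCard.range_toGL, MonoidHom.mem_ker, map_mul, hscal, ← hu', ← mul_pow,
          mul_inv_cancel, one_pow]
      obtain ⟨A, hA⟩ := hdet
      refine ⟨QuotientGroup.mk A, ?_⟩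
      rw [Matrix.ProjectiveSpecialLinearGroup.toPGL_mk, hA, map_mul, Matrix.ProjGenLinGroup.mk_scalar, mul_one]
    · rintro ⟨y, rfl⟩
      induction y using QuotientGroup.induction_on with | H A =>
      rw [MonoidHom.mem_ker, Matrix.ProjectiveSpecialLinearGroup.toPGL_mk, Matrix.ProjGenLinGroup.lift_mk]
      show e (QuotientGroup.mk' N (Matrix.GeneralLinearGroup.det _)) = 1
      have : Matrix.GeneralLinearGroup.det (Matrix.SpecialLinearGroup.toGL A) = 1 := Units.ext A.2
      rw [this, map_one, map_one]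

end Cfsg.Agent.S0307
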