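import Cfsg.Statements.S0310
import Cfsg.Agent.Lib.BN.Basic

set_option autoImplicit false
open Cfsg

namespace Cfsg.Agent.S0310

/-- For a set `J` of distinguished generators, the subgroup generated by `B` and `J` is exactly the union of
the double cosets `B n B` with `n` in the subgroup generated by `J` (so `B W_J B` is a subgroup). -/
theorem result {G : Type*} [Group G] (P : Cfsg.BNPair G) {J : Set G}
    (hJ : J ⊆ P.S) (g : G) :
    g ∈ P.parabolic J ↔ ∃ n ∈ Subgroup.closure J, g ∈ DoubleCoset.doubleCoset n (P.B : Set G) P.B := by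
  rw [CfsgLib.BN.mem_parabolic_iff P hJ]
  constructor
  · rintro ⟨q, ⟨l, hl, rfl⟩, hg⟩
    let n : P.N := (l.map fun s : P.S => (⟨s.1, P.subset s.2⟩ : P.N)).prod
    have hn : CfsgLib.BN.cls P n = CfsgLib.BN.wd P l := by
      show QuotientGroup.mk' _ n = _
      rw [map_list_prod, List.map_map]
      rfl
    refine ⟨n, ?_, by rw [← CfsgLib.BN.cell_cls_eq, hn]; exact hg⟩
    show P.N.subtype n ∈ _
    rw [map_list_prod, List.map_map]
    refine list_prod_mem fun x hx => ?_
    obtain ⟨s, hs, rfl⟩ := List.mem_map.1 hx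
    exact Subgroup.subset_closure (hl s hs)
  · rintro ⟨n, hn, hg⟩
    have hnP : n ∈ P.parabolic J := Subgroup.mem_sup_right hn
    obtain ⟨q, hq, hnq⟩ := (CfsgLib.BN.mem_parabolic_iff P hJ).1 hnP
    have hnN : n ∈ P.N := ((Subgroup.closure_le _).2 (hJ.trans P.subset)) hn
    obtain rfl := CfsgLib.BN.cell_unique P hnq (CfsgLib.BN.self_mem_cell P ⟨n, hnN⟩)
    exact ⟨_, hq, by rw [CfsgLib.BN.cell_cls_eq]; exact hg⟩

end Cfsg.Agent.S0310
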