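import Cfsg.Statements.S0312
import Cfsg.Agent.Lib.BN.Basic

set_option autoImplicit false
open Cfsg

namespace Cfsg.Agent.S0312

/-- Every standard parabolic subgroup of a group with a (B,N)-pair equals its own normaliser. -/
theorem result {G : Type*} [Group G] (P : Cfsg.BNPair G) {J : Set G}
    (hJ : J ⊆ P.S) : Subgroup.normalizer (P.parabolic J : Set G) = P.parabolic J := by
  refine le_antisymm (fun g hg => ?_) Subgroup.le_normalizer
  obtain ⟨q, hq⟩ := CfsgLib.BN.bruhat P g
  obtain ⟨n, rfl, a, ha, b, hb, rfl⟩ := hq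
  have haP : a ∈ P.parabolic J := Subgroup.mem_sup_left ha
  have hbP : b ∈ P.parabolic J := Subgroup.mem_sup_left hb
  have hn : (n : G) ∈ Subgroup.normalizer (P.parabolic J : Set G) := by
    have := mul_mem (mul_mem (inv_mem (Subgroup.le_normalizer haP)) hg) (inv_mem (Subgroup.le_normalizer hbP))
    simpa [mul_assoc] using this
  refine mul_mem (mul_mem haP (CfsgLib.BN.mem_parabolic_of_conj P fun x hx => ?_)) hbP
  exact (Subgroup.mem_normalizer_iff.1 hn x).1 (Subgroup.mem_sup_left hx)

end Cfsg.Agent.S0312
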