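import Cfsg.Statements.S0313
import Cfsg.Agent.Lib.BN.Basic

set_option autoImplicit false
open Cfsg

namespace Cfsg.Agent.S0313

/-- Two standard parabolic subgroups of a group with a (B,N)-pair which are conjugate in `G` coincide. -/
theorem result {G : Type*} [Group G] (P : Cfsg.BNPair G) {J K : Set G}
    (hJ : J ⊆ P.S) (hK : K ⊆ P.S) (g : G)
    (h : (P.parabolic J).map (MulAut.conj g).toMonoidHom = P.parabolic K) :
    P.parabolic J = P.parabolic K := by
  obtain ⟨q, hq⟩ := CfsgLib.BN.bruhat P g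
  obtain ⟨n, rfl, a, ha, b, hb, rfl⟩ := hq
  have hconj : ∀ x, x ∈ P.parabolic J → a * n * b * x * (a * n * b)⁻¹ ∈ P.parabolic K := by
    intro x hx; rw [← h]; exact ⟨x, hx, rfl⟩
  have haK : a ∈ P.parabolic K := Subgroup.mem_sup_left ha
  have hbJ : b ∈ P.parabolic J := Subgroup.mem_sup_left hb
  have hn : (n : G) ∈ P.parabolic K := by
    refine CfsgLib.BN.mem_parabolic_of_conj P fun x hx => ?_
    have h1 := mul_mem (mul_mem (inv_mem haK) (hconj (b⁻¹ * x * b)
      (mul_mem (mul_mem (inv_mem hbJ) (Subgroup.mem_sup_left hx)) hbJ))) haK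
    have e : a⁻¹ * (a * n * b * (b⁻¹ * x * b) * (a * n * b)⁻¹) * a = n * x * (n : G)⁻¹ := by group
    rwa [e] at h1
  have hg : a * n * b ∈ P.parabolic K := mul_mem (mul_mem haK hn) (Subgroup.mem_sup_left hb)
  ext x
  constructor
  · intro hx
    have h1 := mul_mem (mul_mem (inv_mem hg) (hconj x hx)) hg
    simpa [mul_assoc] using h1
  · intro hx
    have h1 : a * n * b * x * (a * n * b)⁻¹ ∈ (P.parabolic J).map (MulAut.conj (a * n * b)).toMonoidHom := by
      rw [h]; exact mul_mem (mul_mem hg hx) (inv_mem hg)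
    obtain ⟨y, hy, hyx⟩ := h1
    obtain rfl : y = x := (MulAut.conj (a * n * b)).injective hyx
    exact hy

end Cfsg.Agent.S0313
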