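import Cfsg.Statements.S0316
import Cfsg.Agent.Lib.BN.Basic

set_option autoImplicit false
open Cfsg

namespace Cfsg.Agent.S0316

/-- The map `J ↦ P_J` is a lattice isomorphism from the power set of the set of distinguished generators onto the
subgroups containing `B`. -/
theorem result {G : Type*} [Group G] (P : Cfsg.BNPair G) :
    ∃ e : Set P.S ≃o {M : Subgroup G // P.B ≤ M},
      ∀ J : Set P.S, ((e J : {M : Subgroup G // P.B ≤ M}) : Subgroup G) = P.parabolic (Subtype.val '' J) := by
  have key : ∀ (J : Set P.S) (s : P.S), (s : G) ∈ P.parabolic (Subtype.val '' J) ↔ s ∈ J := fun J s => by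
    rw [CfsgLib.BN.mem_parabolic_iff_mem P (by simp) s.2, Subtype.val_injective.mem_set_image]
  refine ⟨{ toFun := fun J => ⟨P.parabolic (Subtype.val '' J), le_sup_left⟩
            invFun := fun M => {s | (s : G) ∈ (M : Subgroup G)}
            left_inv := fun J => Set.ext fun s => key J s
            right_inv := fun M => Subtype.ext ?_
            map_rel_iff' := ?_ }, fun J => rfl⟩
  · show P.parabolic (Subtype.val '' {s : P.S | (s : G) ∈ (M : Subgroup G)}) = M
    conv_rhs => rw [CfsgLib.BN.eq_parabolic P M.2]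
    congr 1
    ext x
    simp only [Set.mem_image, Set.mem_setOf_eq, Subtype.exists, exists_and_right, exists_eq_right,
      Set.mem_inter_iff, SetLike.mem_coe]
    exact ⟨fun ⟨h, h'⟩ => ⟨h, h'⟩, fun h => ⟨h.1, h.2⟩⟩
  · intro J K
    show P.parabolic (Subtype.val '' J) ≤ P.parabolic (Subtype.val '' K) ↔ J ⊆ K
    refine ⟨fun h s hs => (key K s).1 (h ((key J s).2 hs)), fun h => ?_⟩
    exact sup_le_sup_left (Subgroup.closure_mono (Set.image_mono h)) _

end Cfsg.Agent.S0316
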