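import Cfsg.Statements.S0318
import Cfsg.Agent.Lib.BN.Basic

set_option autoImplicit false
open Cfsg

namespace Cfsg.Agent.S0318

/-- For `n ∈ N`, the subgroup generated by `B` and `n` coincides with the subgroup generated by `B` and the
conjugate `n B n⁻¹`. -/
theorem result {G : Type*} [Group G] (P : Cfsg.BNPair G) {n : G}
    (hn : n ∈ P.N) :
    P.B ⊔ Subgroup.closure {n} = P.B ⊔ P.B.map (MulAut.conj n).toMonoidHom := by
  apply le_antisymm
  · refine sup_le le_sup_left ((Subgroup.closure_le _).2 (Set.singleton_subset_iff.2 ?_))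
    have hB : P.B ≤ P.B ⊔ P.B.map (MulAut.conj n).toMonoidHom := le_sup_left
    obtain ⟨l, hl, he⟩ := CfsgLib.BN.exists_reduced P (CfsgLib.BN.cls P ⟨n, hn⟩)
    have hM := CfsgLib.BN.letters_mem P hB (show CfsgLib.BN.Red P l by rw [CfsgLib.BN.Red, he, hl]) he
      (fun b hb => Subgroup.mem_sup_right ⟨b, hb, rfl⟩)
    have hmem := CfsgLib.BN.mem_parabolic_of_mem_cell P (J := P.S ∩ ((P.B ⊔ P.B.map (MulAut.conj n).toMonoidHom : Subgroup G) : Set G))
      ⟨l, fun s hs => ⟨s.2, hM s hs⟩, he⟩ (CfsgLib.BN.self_mem_cell P ⟨n, hn⟩)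
    rwa [← CfsgLib.BN.eq_parabolic P hB] at hmem
  · refine sup_le le_sup_left ?_
    rintro _ ⟨b, hb, rfl⟩
    have hn' : n ∈ P.B ⊔ Subgroup.closure {n} := Subgroup.mem_sup_right (Subgroup.subset_closure rfl)
    exact mul_mem (mul_mem hn' (Subgroup.mem_sup_left hb)) (inv_mem hn')

end Cfsg.Agent.S0318
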