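import Cfsg.Statements.S0321
import Cfsg.Agent.Lib.BN.Basic

set_option autoImplicit false
open Cfsg

namespace Cfsg.Agent.S0321

/-- For `n ∈ N` not in `B`, the union `B ∪ B n B` is (the underlying set of) a subgroup exactly when `n` agrees
modulo `B ⊓ N` with one of the distinguished representatives; thus the distinguished involutions are
determined by `B` and `N`. -/
theorem result {G : Type*} [Group G] (P : Cfsg.BNPair G) {n : G}
    (hn : n ∈ P.N) (hnB : n ∉ P.B) :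
    (∃ H : Subgroup G, (H : Set G) = (P.B : Set G) ∪ DoubleCoset.doubleCoset n (P.B : Set G) P.B) ↔ ∃ s ∈ P.S, s⁻¹ * n ∈ P.B := by
  constructor
  · rintro ⟨H, hH⟩
    have hB : P.B ≤ H := fun x hx => by rw [← SetLike.mem_coe, hH]; exact Or.inl hx
    have hnH : n ∈ H := by
      rw [← SetLike.mem_coe, hH]; exact Or.inr (DoubleCoset.mem_doubleCoset_self _ _ _)
    have hJ := CfsgLib.BN.eq_parabolic P hB
    by_cases hJ0 : P.S ∩ (H : Set G) = ∅
    · exfalso
      rw [hJ, hJ0] at hnH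
      exact hnB (by simpa [Cfsg.BNPair.parabolic] using hnH)
    obtain ⟨s, hsS, hsH⟩ := Set.nonempty_iff_ne_empty.2 hJ0
    rw [hH] at hsH
    rcases hsH with hsB | hsn
    · exact absurd hsB (CfsgLib.BN.notMem_B P hsS)
    · refine ⟨s, hsS, (CfsgLib.BN.cls_eq_iff P (n := ⟨s, P.subset hsS⟩) (m := ⟨n, hn⟩)).1 ?_⟩
      rw [← CfsgLib.BN.cell_cls_eq P ⟨n, hn⟩] at hsn
      exact CfsgLib.BN.cell_unique P (CfsgLib.BN.self_mem_cell P ⟨s, P.subset hsS⟩) hsn
  · rintro ⟨s, hs, hsn⟩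
    refine ⟨P.parabolic {s}, ?_⟩
    have hc : CfsgLib.BN.cls P ⟨n, hn⟩ = CfsgLib.BN.σ P ⟨s, hs⟩ :=
      ((CfsgLib.BN.cls_eq_iff P (n := ⟨s, P.subset hs⟩) (m := ⟨n, hn⟩)).2 hsn).symm
    rw [← CfsgLib.BN.cell_cls_eq P ⟨n, hn⟩, hc, ← CfsgLib.BN.cell_one P]
    ext g
    rw [SetLike.mem_coe, CfsgLib.BN.mem_parabolic_iff P (Set.singleton_subset_iff.2 hs)]
    constructor
    · rintro ⟨q, hq, hg⟩
      obtain ⟨l, hl, hred, rfl⟩ := CfsgLib.BN.InJ.reduced P hq
      rcases l with _ | ⟨a, _ | ⟨b, t⟩⟩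
      · exact Or.inl (by simpa using hg)
      · obtain rfl : a = ⟨s, hs⟩ := Subtype.ext (hl a (by simp))
        exact Or.inr (by simpa using hg)
      · exfalso
        obtain rfl : a = ⟨s, hs⟩ := Subtype.ext (hl a (by simp))
        obtain rfl : b = ⟨s, hs⟩ := Subtype.ext (hl b (by simp))
        have h1 := CfsgLib.BN.len_le P t
        simp [CfsgLib.BN.Red] at hred
        omega
    · rintro (hg | hg)
      · exact ⟨1, ⟨[], by simp, rfl⟩, hg⟩
      · exact ⟨_, ⟨[⟨s, hs⟩], by simp, by simp⟩, hg⟩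

end Cfsg.Agent.S0321
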