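import Cfsg.Statements.S0323
import Cfsg.Agent.Lib.BN.Basic

set_option autoImplicit false
open scoped Pointwise
open Cfsg

namespace Cfsg.Agent.S0323

/-- A doubly transitive action on a set with at least three points yields a (B,N)-pair of rank one:
`B` is the stabiliser of a point `x`, `N` the setwise stabiliser of a pair `{x, y}`. -/
theorem result {G Ω : Type*} [Group G] [MulAction G Ω]
    (h2 : MulAction.IsMultiplyPretransitive G Ω 2) {x y z : Ω} (hxy : x ≠ y) (hyz : y ≠ z) (hxz : x ≠ z) :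
    ∃ P : Cfsg.BNPair G, P.B = MulAction.stabilizer G x ∧
      P.N = MulAction.stabilizer G ({x, y} : Set Ω) ∧ P.rank = 1 := by
  rw [MulAction.is_two_pretransitive_iff] at h2
  obtain ⟨s, hsx, hsy⟩ := h2 hxy hxy.symm
  obtain ⟨b₀, hb₀x, hb₀y⟩ := h2 hxy hxz
  set B := MulAction.stabilizer G x
  set N := MulAction.stabilizer G ({x, y} : Set Ω)
  have hN : ∀ {g : G}, g ∈ N → (g • x = x ∧ g • y = y) ∨ (g • x = y ∧ g • y = x) := by
    intro g hg
    have hg' : g • ({x, y} : Set Ω) = {x, y} := hg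
    rw [Set.smul_set_insert, Set.smul_set_singleton, Set.pair_eq_pair_iff] at hg'
    exact hg'
  have hN' : ∀ {g : G}, g • x = y → g • y = x → g ∈ N := by
    intro g h1 h2
    show g • ({x, y} : Set Ω) = {x, y}
    rw [Set.smul_set_insert, Set.smul_set_singleton, h1, h2, Set.pair_comm]
  have hsN : s ∈ N := hN' hsx hsy
  have hss : s * s ∈ B := by show (s * s) • x = x; rw [mul_smul, hsx, hsy]
  have hs_out : ∀ {g : G}, g • x ≠ x → ∃ b ∈ B, ∃ c ∈ B, g = b * s * c := by
    intro g hg
    obtain ⟨b, hbx, hby⟩ := h2 hxy (Ne.symm hg)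
    refine ⟨b, hbx, (b * s)⁻¹ * g, ?_, by group⟩
    show ((b * s)⁻¹ * g) • x = x
    rw [mul_smul, inv_smul_eq_iff, mul_smul, hsx, hby]
  refine ⟨{ B := B, N := N, S := {s}, sup_eq_top := ?_, conj_mem := ?_, subset := by simpa using hsN,
            sq_mem := by simpa using hss, inj := by simp, closure_sup := ?_, mul_mem_union := ?_,
            conj_ne := ?_ }, rfl, rfl, by simp [Cfsg.BNPair.rank]⟩
  · rw [eq_top_iff]
    intro g _
    by_cases hg : g • x = x
    · exact Subgroup.mem_sup_left hg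
    · obtain ⟨b, hb, c, hc, rfl⟩ := hs_out hg
      exact mul_mem (mul_mem (Subgroup.mem_sup_left hb) (Subgroup.mem_sup_right hsN)) (Subgroup.mem_sup_left hc)
  · intro n hn t ht
    show (n * t * n⁻¹) • x = x
    have htx : t • x = x := ht.1
    have hty : t • y = y := by
      rcases hN ht.2 with ⟨-, h⟩ | ⟨h, -⟩
      · exact h
      · exact absurd (htx.symm.trans h) hxy
    rcases hN (inv_mem hn) with ⟨h, -⟩ | ⟨h, -⟩
    · rw [mul_smul, mul_smul, h, htx]; exact (inv_smul_eq_iff.1 h).symm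
    · rw [mul_smul, mul_smul, h, hty]; exact (inv_smul_eq_iff.1 h).symm
  · refine le_antisymm (sup_le ((Subgroup.closure_le _).2 (by simpa using hsN)) inf_le_right) fun g hg => ?_
    rcases hN hg with ⟨h, -⟩ | ⟨h, -⟩
    · exact Subgroup.mem_sup_right ⟨h, hg⟩
    · have : g = s * (s⁻¹ * g) := by group
      rw [this]
      refine mul_mem (Subgroup.mem_sup_left (Subgroup.subset_closure rfl)) (Subgroup.mem_sup_right ⟨?_, N.mul_mem (N.inv_mem hsN) hg⟩)
      show (s⁻¹ * g) • x = x
      rw [mul_smul, h, inv_smul_eq_iff, hsx]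
  · intro t ht n hn b hb
    rw [Set.mem_singleton_iff] at ht
    subst ht
    have hmem : ∀ {m u : G}, m • x = x → u • x = x → u ∈ DoubleCoset.doubleCoset m (B : Set G) B := by
      intro m u hm hu
      rw [DoubleCoset.mem_doubleCoset]
      exact ⟨u * m⁻¹, mul_mem (show u ∈ B from hu) (inv_mem (show m ∈ B from hm)), 1, one_mem B, by group⟩
    have hmem' : ∀ {m u : G}, m • x ≠ x → u • x ≠ x → u ∈ DoubleCoset.doubleCoset m (B : Set G) B := by
      intro m u hm hu
      obtain ⟨a, ha, c, hc, rfl⟩ := hs_out hm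
      obtain ⟨a', ha', c', hc', rfl⟩ := hs_out hu
      rw [DoubleCoset.mem_doubleCoset]
      exact ⟨a' * a⁻¹, mul_mem ha' (inv_mem ha), c⁻¹ * c', mul_mem (inv_mem hc) hc', by group⟩
    rcases hN hn with ⟨h, -⟩ | ⟨h, -⟩
    · have hsn : (t * n) • x ≠ x := by rw [mul_smul, h, hsx]; exact hxy.symm
      by_cases hu : (t * b * n) • x = x
      · exact Or.inr (hmem h hu)
      · exact Or.inl (hmem' hsn hu)
    · have hsn : (t * n) • x = x := by rw [mul_smul, h, hsy]
      by_cases hu : (t * b * n) • x = x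
      · exact Or.inl (hmem hsn hu)
      · exact Or.inr (hmem' (by rw [h]; exact hxy.symm) hu)
  · intro t ht hEq
    rw [Set.mem_singleton_iff] at ht
    subst ht
    have : t * b₀ * t ∈ B := by
      rw [← SetLike.mem_coe, ← hEq]; exact ⟨b₀, hb₀x, rfl⟩
    have h3 : (t * b₀ * t) • x = x := this
    rw [mul_smul, mul_smul, hsx, hb₀y] at h3
    have : z = y := smul_left_cancel t (h3.trans hsy.symm)
    exact hyz this.symm

end Cfsg.Agent.S0323
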