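import Cfsg.Statements.S0335
import Cfsg.Agent.Lib.Suzuki.Structure

set_option autoImplicit false
open Cfsg

namespace Cfsg.Agent.S0335

/-- The Suzuki–Tits point set is an ovoid: any three distinct points of it are projectively independent
(no line of projective 3-space meets it in more than two points). -/
theorem result {F : Type*} [Field F] [Fintype F] {m : ℕ} (hm : 1 ≤ m)
    (hF : Fintype.card F = 2 ^ (2 * m + 1)) (p : Fin 3 ↪ Cfsg.suzukiOvoid F m) :
    Projectivization.Independent (fun i => (p i : Projectivization F (Fin 4 → F))) := by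
  have hne : ∀ i j : Fin 3, i ≠ j →
      (p i : Projectivization F (Fin 4 → F)) ≠ (p j : Projectivization F (Fin 4 → F)) :=
    fun i j h e => h (p.injective (Subtype.ext e))
  obtain ⟨g, g0, g1⟩ := CfsgLib.Suzuki.exists_to_inf_zero hF (p 0).2 (p 1).2 (hne 0 1 (by decide))
  rcases CfsgLib.Suzuki.mem_ovoid_iff.mp
      (CfsgLib.Suzuki.smul_mem_ovoid g.2 (p 2).2 : g • (p 2 : Projectivization F (Fin 4 → F)) ∈ suzukiOvoid F m)
    with h | ⟨x, y, h⟩
  · exact absurd (MulAction.injective g (g0.trans h.symm)) (hne 0 2 (by decide))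
  have hxy : x ≠ 0 ∨ y ≠ 0 := by
    by_contra hc
    push Not at hc
    rw [hc.1, hc.2, CfsgLib.Suzuki.pt_zero] at h
    exact hne 1 2 (by decide) (MulAction.injective g (g1.trans h.symm))
  let w : Fin 3 → (Fin 4 → F) := ![![1, 0, 0, 0], ![0, 0, 0, 1], ![CfsgLib.Suzuki.fp m x y, y, x, 1]]
  have hw : LinearIndependent F w := by
    rw [Fintype.linearIndependent_iff]
    intro c hc
    have e : ∀ i : Fin 4, c 0 * ![1, 0, 0, 0] i + c 1 * ![0, 0, 0, 1] i +
        c 2 * ![CfsgLib.Suzuki.fp m x y, y, x, 1] i = 0 := by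
      intro i
      have := congrFun hc i
      simpa [Fin.sum_univ_three, w] using this
    have h2 : c 2 = 0 := by
      rcases hxy with hx | hy
      · have := e 2
        simpa [hx] using this
      · have := e 1
        simpa [hy] using this
    have h0 : c 0 = 0 := by simpa [h2] using e 0
    have h1 : c 1 = 0 := by simpa [h2] using e 3
    intro i
    fin_cases i <;> assumption
  let gi : Matrix.SpecialLinearGroup (Fin 4) F := ((g⁻¹ : ↥(Cfsg.Sz F m)) : Matrix.SpecialLinearGroup (Fin 4) F)
  have hginj : Function.Injective (Matrix.mulVecLin (gi : Matrix (Fin 4) (Fin 4) F)) :=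
    Matrix.mulVec_injective_iff_isUnit.mpr
      ((Matrix.isUnit_iff_isUnit_det _).mpr (by rw [gi.2]; exact isUnit_one))
  have hv : LinearIndependent F (fun i => Matrix.mulVecLin (gi : Matrix (Fin 4) (Fin 4) F) (w i)) :=
    hw.map' (Matrix.mulVecLin (gi : Matrix (Fin 4) (Fin 4) F)) (LinearMap.ker_eq_bot.mpr hginj)
  have key : ∀ i, (p i : Projectivization F (Fin 4 → F)) =
      Projectivization.mk F (Matrix.mulVecLin (gi : Matrix (Fin 4) (Fin 4) F) (w i)) (hv.ne_zero i) := by
    intro i
    have hpi : (p i : Projectivization F (Fin 4 → F)) =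
        g⁻¹ • (g • (p i : Projectivization F (Fin 4 → F))) := (inv_smul_smul _ _).symm
    fin_cases i
    · rw [hpi]; exact (congrArg (fun r => g⁻¹ • r) g0).trans rfl
    · rw [hpi]; exact (congrArg (fun r => g⁻¹ • r) g1).trans rfl
    · rw [hpi]; exact (congrArg (fun r => g⁻¹ • r) h).trans rfl
  have hfun : (fun i => (p i : Projectivization F (Fin 4 → F))) =
      fun i => Projectivization.mk F (Matrix.mulVecLin (gi : Matrix (Fin 4) (Fin 4) F) (w i))
        (hv.ne_zero i) := funext key
  rw [hfun]
  exact Projectivization.Independent.mk _ _ hv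

end Cfsg.Agent.S0335
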