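import Cfsg.Statements.S0347
import Cfsg.Agent.Lib.SuzukiZT.Square

set_option autoImplicit false
open Cfsg

namespace Cfsg.Agent.S0347

/-- If in a finite simple Zassenhaus group the stabiliser of a point `x` has a normal `2`-subgroup `U` which is
non-abelian and acts regularly on the points other than `x`, then the group is simple of Suzuki order (order-level
predicate `IsSuzuki`). -/
theorem result {G Ω : Type*} [Group G] [Finite G] [MulAction G Ω] [Finite Ω]
    (hZ : Cfsg.IsZassenhausGroup G Ω) [IsSimpleGroup G]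
    (x : Ω) (U : Subgroup G) (hUle : U ≤ MulAction.stabilizer G x) (hUn : (U.subgroupOf (MulAction.stabilizer G x)).Normal)
    (hU2 : IsPGroup 2 U) (hUna : ∃ u v : U, u * v ≠ v * u)
    (hreg : ∀ y z : Ω, y ≠ x → z ≠ x → ∃! u : U, (u : G) • y = z) :
    Cfsg.IsSuzuki G := by
  classical
  letI := Fintype.ofFinite G
  letI := Fintype.ofFinite Ω
  obtain ⟨b, hb⟩ : ∃ b : Ω, b ≠ x := by
    refine Fintype.exists_ne_of_one_lt_card ?_ x
    have := CfsgLib.Zassenhaus.card_ge_three hZ
    omega
  have hsemi : ∀ u ∈ U, u ≠ 1 → ∀ c : Ω, u • c = c → c = x := fun u hu hu1 c e => by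
    by_contra hc
    exact hu1 (congrArg Subtype.val ((hreg c c hc hc).unique (y₁ := ⟨u, hu⟩) (y₂ := 1) e (one_smul G c)))
  let P : CfsgLib.ZassenhausDegree.Datum G Ω :=
    { isZ := hZ, a := x, b := b, hab := hb.symm, H := U, le := hUle
      card := by
        rw [← Nat.card_eq_fintype_card]
        exact (CfsgLib.CAEven.card_omega x U hUle hreg hb).symm
      fix := hsemi }
  obtain ⟨u, v, huv⟩ := hUna
  let S : CfsgLib.SuzukiZT.Hyp G Ω :=
    ⟨P, inferInstance, hU2, u, u.2, v, v.2, fun e => huv (Subtype.ext e)⟩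
  exact S.isSuzuki


end Cfsg.Agent.S0347
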