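import Cfsg.Statements.S0385
import Cfsg.Agent.Lib.Golay.DodM11

set_option autoImplicit false
open Cfsg

namespace Cfsg.Agent.S0385

/-- The 6-point intersections of octads with a fixed dodecad form a Steiner system S(5, 6, 12) on the dodecad. -/
theorem result (d : Finset Cfsg.GolayPt) (hd : d ∈ Cfsg.dodecads) : Cfsg.IsSteinerSystem 5 6 {h : Finset {p : Cfsg.GolayPt // p ∈ d} | ∃ o ∈ Cfsg.octads, (o ∩ d).card = 6 ∧ h = Finset.subtype (fun p => p ∈ d) o} := by
  classical
  refine ⟨?_, fun F hF => ?_⟩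
  · rintro h ⟨o, -, h6, rfl⟩
    rw [Finset.card_subtype]
    rw [← h6]
    congr 1
  · set F' := F.map (Function.Embedding.subtype _) with hF'
    have hF'c : F'.card = 5 := by rw [hF', Finset.card_map, hF]
    have hF'd : F' ⊆ d := by
      intro p hp
      obtain ⟨q, -, rfl⟩ := Finset.mem_map.mp hp
      exact q.2
    obtain ⟨o, ho, hFo, h6⟩ := CfsgGolay.dodecad_blocks hd hF'c hF'd
    refine ⟨Finset.subtype (fun p => p ∈ d) o, ⟨⟨o, ho, h6, rfl⟩, fun q hq => ?_⟩, ?_⟩
    · exact Finset.mem_subtype.mpr (hFo (Finset.mem_map_of_mem _ hq))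
    · rintro b ⟨⟨o', ho', -, rfl⟩, hb⟩
      have : o' = o := CfsgGolay.octad_unique ho' ho hF'c.ge (fun p hp => by
        obtain ⟨q, hq, rfl⟩ := Finset.mem_map.mp hp
        exact Finset.mem_subtype.mp (hb hq)) hFo
      rw [this]

end Cfsg.Agent.S0385
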