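import Cfsg.Statements.S0386
import Cfsg.Agent.Lib.Golay.ClassC

set_option autoImplicit false
open Cfsg
open scoped Pointwise

namespace Cfsg.Agent.S0386

/-- For a fixed dodecad, 132 octads meet it in 6 points, 132 in 2 points and 495 in 4 points. -/
theorem result (d : Finset Cfsg.GolayPt) (hd : d ∈ Cfsg.dodecads) : {o : Finset Cfsg.GolayPt | o ∈ Cfsg.octads ∧ (o ∩ d).card = 6}.ncard = 132 ∧ {o : Finset Cfsg.GolayPt | o ∈ Cfsg.octads ∧ (o ∩ d).card = 2}.ncard = 132 ∧ {o : Finset Cfsg.GolayPt | o ∈ Cfsg.octads ∧ (o ∩ d).card = 4}.ncard = 495 := by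
  obtain ⟨g, hg, rfl⟩ := CfsgGolay.exists_smul_D0 hd
  refine ⟨?_, ?_, ?_⟩
  · refine (CfsgGolay.ncard_translate g fun y => ?_).trans (CfsgGolay.clsDO.count (6, 132) (by simp))
    simp only [Set.mem_ofPred_eq, CfsgGolay.smul_mem_octads_iff hg, CfsgGolay.card_inter_smul', Finset.inter_comm _ (g • CfsgGolay.D0), and_assoc, true_and, and_true]
  · refine (CfsgGolay.ncard_translate g fun y => ?_).trans (CfsgGolay.clsDO.count (2, 132) (by simp))
    simp only [Set.mem_ofPred_eq, CfsgGolay.smul_mem_octads_iff hg, CfsgGolay.card_inter_smul', Finset.inter_comm _ (g • CfsgGolay.D0), and_assoc, true_and, and_true]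
  · refine (CfsgGolay.ncard_translate g fun y => ?_).trans (CfsgGolay.clsDO.count (4, 495) (by simp))
    simp only [Set.mem_ofPred_eq, CfsgGolay.smul_mem_octads_iff hg, CfsgGolay.card_inter_smul', Finset.inter_comm _ (g • CfsgGolay.D0), and_assoc, true_and, and_true]

end Cfsg.Agent.S0386
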