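import Cfsg.Statements.S0427
import Cfsg.Agent.Lib.SteinerGraphs

set_option autoImplicit false
open Cfsg

namespace Cfsg.Agent.S0427

/-- The block graph (adjacent = disjoint) of an S(3, 6, 22) is strongly regular with parameters (77, 16, 0, 4). -/
theorem result {α : Type*} [Fintype α] (hα : Fintype.card α = 22) {B : Set (Finset α)} (hB : Cfsg.IsSteinerSystem 3 6 B) [Fintype B] [DecidableRel (Cfsg.blockGraph B).Adj] : (Cfsg.blockGraph B).IsSRGWith 77 16 0 4 := by
  classical
  have hsub : ∀ (P : Finset α → Prop) [DecidablePred P] (S : Set ↥B) [Fintype S],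
      (∀ x : ↥B, x ∈ S ↔ P x.1) → Fintype.card S = ((CfsgSteiner.blocks B).filter P).card := by
    intro P _ S _ hS
    rw [← Fintype.card_coe]
    exact Fintype.card_congr
      { toFun := fun x => ⟨x.1.1, by simp [x.1.2, (hS x.1).mp x.2]⟩
        invFun := fun y => ⟨⟨y.1, CfsgSteiner.mem_blocks.mp (Finset.mem_filter.mp y.2).1⟩,
          (hS _).mpr (Finset.mem_filter.mp y.2).2⟩
        left_inv := fun x => rfl
        right_inv := fun y => rfl }
  have hadj : ∀ x y : ↥B, (Cfsg.blockGraph B).Adj x y ↔ Disjoint x.1 y.1 := by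
    intro x y
    simp only [Cfsg.blockGraph, SimpleGraph.fromRel_adj]
    refine ⟨fun h => h.2.elim id (fun h' => h'.symm), fun h => ⟨?_, Or.inl h⟩⟩
    rintro rfl
    have := hB.1 _ x.2
    simp [disjoint_self.mp h] at this
  refine ⟨?_, fun v => ?_, fun v w h => ?_, fun v w hne h => ?_⟩
  · have h1 := CfsgSteiner.lambda_eq hB hα (s := ∅) (Nat.zero_le _) (by norm_num) (L := 77) (by simp; decide)
    rw [Finset.filter_true_of_mem (fun d _ => Finset.empty_subset d)] at h1
    rw [← h1, ← CfsgSteiner.ncard_blocks, ← Nat.card_coe_set_eq, Nat.card_eq_fintype_card]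
  · rw [← SimpleGraph.card_neighborSet_eq_degree, hsub (fun d => Disjoint v.1 d) _ (fun x => by simp [hadj])]
    exact CfsgSteiner.card_disjoint_322 hα hB v.2
  · rw [hadj] at h
    rw [hsub (fun d => Disjoint v.1 d ∧ Disjoint w.1 d) _ (fun x => by simp [SimpleGraph.mem_commonNeighbors, hadj]),
      CfsgSteiner.card_disjoint_both_322 hα hB v.2 w.2 (fun he => ?_), if_pos h]
    have := hB.1 _ v.2
    rw [← he, disjoint_self] at h
    simp [h] at this
  · rw [hadj] at h
    rw [hsub (fun d => Disjoint v.1 d ∧ Disjoint w.1 d) _ (fun x => by simp [SimpleGraph.mem_commonNeighbors, hadj]),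
      CfsgSteiner.card_disjoint_both_322 hα hB v.2 w.2 (fun he => hne (Subtype.ext he)), if_neg h]

end Cfsg.Agent.S0427
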