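import Cfsg.Statements.S0428
import Cfsg.Agent.Lib.SteinerGraphs

set_option autoImplicit false
open Cfsg

namespace Cfsg.Agent.S0428

/-- The point-block graph of an S(3, 6, 22) is strongly regular with parameters (100, 22, 0, 6). -/
theorem result {α : Type*} [Fintype α] (hα : Fintype.card α = 22) {B : Set (Finset α)} (hB : Cfsg.IsSteinerSystem 3 6 B) [Fintype B] [DecidableRel (Cfsg.pointBlockGraph B).Adj] : (Cfsg.pointBlockGraph B).IsSRGWith 100 22 0 6 := by
  classical
  have hne : ∀ b : ↥B, ¬ Disjoint b.1 b.1 := fun b h => by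
    have := hB.1 _ b.2; simp [disjoint_self.mp h] at this
  have a_np : ∀ a : α, (Cfsg.pointBlockGraph B).Adj none (some (Sum.inl a)) := fun a => by
    simp [Cfsg.pointBlockGraph, Cfsg.pointBlockRel]
  have a_nb : ∀ b : ↥B, ¬ (Cfsg.pointBlockGraph B).Adj none (some (Sum.inr b)) := fun b => by
    simp [Cfsg.pointBlockGraph, Cfsg.pointBlockRel]
  have a_pp : ∀ a a' : α, ¬ (Cfsg.pointBlockGraph B).Adj (some (Sum.inl a)) (some (Sum.inl a')) := fun a a' => by
    simp [Cfsg.pointBlockGraph, Cfsg.pointBlockRel]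
  have a_pb : ∀ (a : α) (b : ↥B), (Cfsg.pointBlockGraph B).Adj (some (Sum.inl a)) (some (Sum.inr b)) ↔ a ∈ b.1 := fun a b => by
    simp [Cfsg.pointBlockGraph, Cfsg.pointBlockRel]
  have a_bb : ∀ b c : ↥B, (Cfsg.pointBlockGraph B).Adj (some (Sum.inr b)) (some (Sum.inr c)) ↔ Disjoint b.1 c.1 := fun b c => by
    simp only [Cfsg.pointBlockGraph, SimpleGraph.fromRel_adj, Cfsg.pointBlockRel]
    refine ⟨fun h => h.2.elim id (fun h' => h'.symm), fun h => ⟨?_, Or.inl h⟩⟩
    simp only [ne_eq, Option.some.injEq, Sum.inr.injEq]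
    rintro rfl
    exact hne b h
  have hcount : ∀ (P : Option (α ⊕ ↥B) → Prop) (S : Set (Option (α ⊕ ↥B))),
      (∀ x, x ∈ S ↔ P x) → ∀ (n₀ n₁ n₂ : ℕ) (Q : Finset α → Prop) (R : α → Prop),
      (if P none then 1 else 0) = n₀ →
      (∀ a, P (some (Sum.inl a)) ↔ R a) → ((Finset.univ.filter R).card = n₁) →
      (∀ b : ↥B, P (some (Sum.inr b)) ↔ Q b.1) → (((CfsgSteiner.blocks B).filter Q).card = n₂) →
      Nat.card S = n₀ + n₁ + n₂ := by
    intro P S hS n₀ n₁ n₂ Q R h0 hR h1 hQ h2
    have hcard : Nat.card S = (Finset.univ.filter P).card := by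
      rw [← Fintype.card_subtype, ← Nat.card_eq_fintype_card]; exact Nat.card_congr (Equiv.subtypeEquivRight hS)
    rw [hcard, Finset.card_filter, Fintype.sum_option, Fintype.sum_sum_type, ← add_assoc]
    rw [h0]
    congr 1
    · congr 1
      rw [← h1, Finset.card_filter]
      exact Finset.sum_congr rfl fun a _ => by simp only [hR]
    · rw [← h2, Finset.card_filter]
      exact Finset.sum_bij (fun (b : ↥B) _ => b.1) (fun b _ => CfsgSteiner.mem_blocks.mpr b.2)
        (fun _ _ _ _ h => Subtype.ext h) (fun d hd => ⟨⟨d, CfsgSteiner.mem_blocks.mp hd⟩, Finset.mem_univ _, rfl⟩)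
        (fun b _ => by simp only [hQ])
  have hB0 : ((CfsgSteiner.blocks B).filter fun _ => False).card = 0 := by simp
  have hA0 : ((Finset.univ : Finset α).filter fun _ => False).card = 0 := by simp
  have hA1 : ((Finset.univ : Finset α).filter fun _ => True).card = 22 := by simp [hα]
  have h77 : (CfsgSteiner.blocks B).card = 77 := by
    have h1 := CfsgSteiner.lambda_eq hB hα (s := ∅) (Nat.zero_le _) (by norm_num) (L := 77) (by simp; decide)
    rwa [Finset.filter_true_of_mem (fun d _ => Finset.empty_subset d)] at h1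
  have hmemA : ∀ b : ↥B, ((Finset.univ : Finset α).filter fun a => a ∈ b.1).card = 6 := fun b => by
    rw [Finset.filter_mem_eq_inter, Finset.univ_inter, hB.1 _ b.2]
  refine ⟨?_, fun v => ?_, fun v w h => ?_, fun v w hvw h => ?_⟩
  · rw [Fintype.card_option, Fintype.card_sum, hα, ← Nat.card_eq_fintype_card, Nat.card_coe_set_eq, CfsgSteiner.ncard_blocks, h77]
  · rw [← SimpleGraph.card_neighborSet_eq_degree, ← Nat.card_eq_fintype_card]
    rcases v with _ | a | b
    · exact hcount (fun x => (Cfsg.pointBlockGraph B).Adj none x) _ (fun x => Iff.rfl) 0 22 0 (fun _ => False) (fun _ => True)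
        (by simp) (fun a => by simp [a_np]) (by convert hA1) (fun b => by simp [a_nb]) (by convert hB0)
    · exact hcount (fun x => (Cfsg.pointBlockGraph B).Adj (some (Sum.inl a)) x) _ (fun x => Iff.rfl) 1 0 21 (fun d => a ∈ d) (fun _ => False)
        (by simp [(a_np a).symm]) (fun a' => by simp [a_pp]) (by convert hA0) (fun b => a_pb a b) (by convert CfsgSteiner.card_through_point_322 hα hB a)
    · exact hcount (fun x => (Cfsg.pointBlockGraph B).Adj (some (Sum.inr b)) x) _ (fun x => Iff.rfl) 0 6 16 (fun d => Disjoint b.1 d) (fun a => a ∈ b.1)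
        (by simp [(Cfsg.pointBlockGraph B).adj_comm _ none, a_nb]) (fun a => by rw [(Cfsg.pointBlockGraph B).adj_comm, a_pb]) (by convert hmemA b) (fun c => a_bb b c) (by convert CfsgSteiner.card_disjoint_322 hα hB b.2)
  · have key : ∀ x, ¬ ((Cfsg.pointBlockGraph B).Adj v x ∧ (Cfsg.pointBlockGraph B).Adj w x) := by
      rintro (_ | a | d) ⟨hv, hw⟩
      · rcases v with _ | a | b
        · exact (Cfsg.pointBlockGraph B).irrefl hv
        · rcases w with _ | a' | c
          · exact (Cfsg.pointBlockGraph B).irrefl hw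
          · exact a_pp a a' h
          · exact a_nb c hw.symm
        · exact a_nb b hv.symm
      · rcases v with _ | a' | b
        · rcases w with _ | a'' | c
          · exact (Cfsg.pointBlockGraph B).irrefl h
          · exact a_pp a'' a hw
          · exact a_nb c h
        · exact a_pp a' a hv
        · rcases w with _ | a'' | c
          · exact a_nb b h.symm
          · exact a_pp a'' a hw
          · exact Finset.disjoint_left.mp ((a_bb b c).mp h) ((a_pb a b).mp hv.symm) ((a_pb a c).mp hw.symm)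
      · rcases v with _ | a | b
        · exact a_nb d hv
        · rcases w with _ | a' | c
          · exact a_nb d hw
          · exact a_pp a a' h
          · exact Finset.disjoint_left.mp ((a_bb c d).mp hw) ((a_pb a c).mp h) ((a_pb a d).mp hv)
        · rcases w with _ | a' | c
          · exact a_nb d hw
          · exact Finset.disjoint_left.mp ((a_bb b d).mp hv) ((a_pb a' b).mp h.symm) ((a_pb a' d).mp hw)
          · have hbc := (a_bb b c).mp h
            have h0 := CfsgSteiner.card_disjoint_both_322 hα hB b.2 c.2 (fun he => hne c (he ▸ hbc))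
            rw [if_pos hbc, Finset.card_eq_zero, Finset.filter_eq_empty_iff] at h0
            exact h0 (CfsgSteiner.mem_blocks.mpr d.2) ⟨(a_bb b d).mp hv, (a_bb c d).mp hw⟩
    exact Fintype.card_eq_zero_iff.mpr ⟨fun x => key x.1 x.2⟩
  · have hnone_pt : ∀ a a' : α, a ≠ a' → Nat.card ((Cfsg.pointBlockGraph B).commonNeighbors (some (Sum.inl a)) (some (Sum.inl a'))) = 6 := fun a a' hne' =>
      hcount (fun x => (Cfsg.pointBlockGraph B).Adj (some (Sum.inl a)) x ∧ (Cfsg.pointBlockGraph B).Adj (some (Sum.inl a')) x) _ (fun x => Iff.rfl) 1 0 5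
        (fun d => a ∈ d ∧ a' ∈ d) (fun _ => False) (by simp [(a_np _).symm]) (fun x => by simp [a_pp]) (by convert hA0)
        (fun b => by rw [a_pb, a_pb]) (by convert CfsgSteiner.card_through_two_322 hα hB hne')
    have hnb : ∀ b : ↥B, Nat.card ((Cfsg.pointBlockGraph B).commonNeighbors none (some (Sum.inr b))) = 6 := fun b =>
      hcount (fun x => (Cfsg.pointBlockGraph B).Adj none x ∧ (Cfsg.pointBlockGraph B).Adj (some (Sum.inr b)) x) _ (fun x => Iff.rfl) 0 6 0
        (fun _ => False) (fun a => a ∈ b.1) (by simp) (fun a => by simp [a_np, (Cfsg.pointBlockGraph B).adj_comm _ (some (Sum.inl a)), a_pb])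
        (by convert hmemA b) (fun c => by simp [a_nb]) (by convert hB0)
    have hpb : ∀ (a : α) (b : ↥B), a ∉ b.1 → Nat.card ((Cfsg.pointBlockGraph B).commonNeighbors (some (Sum.inl a)) (some (Sum.inr b))) = 6 := fun a b hab =>
      hcount (fun x => (Cfsg.pointBlockGraph B).Adj (some (Sum.inl a)) x ∧ (Cfsg.pointBlockGraph B).Adj (some (Sum.inr b)) x) _ (fun x => Iff.rfl) 0 0 6
        (fun d => a ∈ d ∧ Disjoint b.1 d) (fun _ => False) (by simp [(Cfsg.pointBlockGraph B).adj_comm _ none, a_nb]) (fun a' => by simp [a_pp]) (by convert hA0)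
        (fun c => by rw [a_pb, a_bb]) (by convert CfsgSteiner.card_through_disjoint_322 hα hB b.2 hab)
    rw [← Nat.card_eq_fintype_card]
    rcases v with _ | a | b <;> rcases w with _ | a' | c
    · exact absurd rfl hvw
    · exact absurd (a_np a') h
    · exact hnb c
    · exact absurd (a_np a).symm h
    · exact hnone_pt a a' (fun he => hvw (by rw [he]))
    · exact hpb a c (fun hac => h ((a_pb a c).mpr hac))
    · simp only [SimpleGraph.commonNeighbors_symm (Cfsg.pointBlockGraph B) (some (Sum.inr b)) none]; exact hnb b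
    · simp only [SimpleGraph.commonNeighbors_symm (Cfsg.pointBlockGraph B) (some (Sum.inr b)) (some (Sum.inl a'))]
      exact hpb a' b (fun hac => h ((a_pb a' b).mpr hac).symm)
    · have hbc : ¬ Disjoint b.1 c.1 := fun hd => h ((a_bb b c).mpr hd)
      have hne' : b.1 ≠ c.1 := fun he => hvw (by rw [Subtype.ext he])
      have hi : ((Finset.univ : Finset α).filter fun a => a ∈ b.1 ∧ a ∈ c.1).card = 2 := by
        rw [show ((Finset.univ : Finset α).filter fun a => a ∈ b.1 ∧ a ∈ c.1) = b.1 ∩ c.1 by ext; simp]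
        rcases CfsgSteiner.inter_3_6_22 hα hB b.2 c.2 hne' with h0 | h0
        · exact absurd (Finset.disjoint_iff_inter_eq_empty.mpr (Finset.card_eq_zero.mp h0)) hbc
        · exact h0
      exact hcount (fun x => (Cfsg.pointBlockGraph B).Adj (some (Sum.inr b)) x ∧ (Cfsg.pointBlockGraph B).Adj (some (Sum.inr c)) x) _ (fun x => Iff.rfl) 0 2 4
        (fun d => Disjoint b.1 d ∧ Disjoint c.1 d) (fun a => a ∈ b.1 ∧ a ∈ c.1) (by simp [(Cfsg.pointBlockGraph B).adj_comm _ none, a_nb])
        (fun a => by rw [(Cfsg.pointBlockGraph B).adj_comm, a_pb, (Cfsg.pointBlockGraph B).adj_comm, a_pb]) (by convert hi) (fun d => by rw [a_bb, a_bb])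
        (by convert (CfsgSteiner.card_disjoint_both_322 hα hB b.2 c.2 hne').trans (if_neg hbc))

end Cfsg.Agent.S0428
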