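import Cfsg.Statements.S2572
import Cfsg.Agent.Lib.SLGen.TransvectionCent

set_option autoImplicit false
open Cfsg
open Matrix

namespace Cfsg.Agent.S2572

/-- Centraliser of a transvection in GL_n(q), n ≥ 2: if t − 1 has rank one and square zero, the centraliser of t in GL_n(q) has order q^(2n−3) (q − 1) |GL_(n−2)(q)| (a group of order q^(2n−3) extended by GL_1(q) × GL_(n−2)(q)). -/
theorem result {F : Type*} [Field F] [Fintype F] {q n : ℕ} (hF : Fintype.card F = q) (hn : 2 ≤ n) (t : GL (Fin n) F) (ht : Cfsg.IsTransvection (t : Matrix (Fin n) (Fin n) F)) : Nat.card ↥(Subgroup.centralizer ({t} : Set (GL (Fin n) F))) = q ^ (2 * n - 3) * (q - 1) * ∏ i : Fin (n - 2), (q ^ (n - 2) - q ^ (i : ℕ)) := by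
  classical
  obtain ⟨m, rfl⟩ : ∃ m, n = 2 + m := ⟨n - 2, by omega⟩
  subst hF
  obtain ⟨hr, hsq⟩ := ht
  set M : Matrix (Fin (2 + m)) (Fin (2 + m)) F := t.1 - 1 with hM
  obtain ⟨v, c, hMv⟩ : ∃ v c, M = Matrix.vecMulVec v c := by
    obtain ⟨⟨v, hv⟩, hv0, hspan⟩ := finrank_eq_one_iff'.mp
      (show Module.finrank F (LinearMap.range M.mulVecLin) = 1 from hr)
    choose c hc using fun j : Fin (2 + m) =>
      hspan ⟨M.mulVecLin (Pi.single j 1), LinearMap.mem_range_self _ _⟩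
    refine ⟨v, c, ?_⟩
    ext i j
    have := congrFun (congrArg Subtype.val (hc j)) i
    simp only [SetLike.val_smul, Pi.smul_apply, Matrix.mulVecLin_apply, Matrix.mulVec_single_one,
      Matrix.col_apply, smul_eq_mul] at this
    rw [Matrix.vecMulVec_apply, ← this, mul_comm]
  have hM0 : M ≠ 0 := fun h => by rw [h, Matrix.rank_zero] at hr; exact zero_ne_one hr
  have hv' : v ≠ 0 := fun h => hM0 (by rw [hMv, h, Matrix.zero_vecMulVec])
  have hc' : c ≠ 0 := fun h => hM0 (by rw [hMv, h, Matrix.vecMulVec_zero])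
  have hcv : c ⬝ᵥ v = 0 := by
    by_contra hne
    rw [hMv, Matrix.vecMulVec_mul_vecMulVec] at hsq
    obtain ⟨i, hi⟩ := Function.ne_iff.mp hv'
    obtain ⟨j, hj⟩ := Function.ne_iff.mp hc'
    have := congrFun (congrFun hsq i) j
    simp [Matrix.vecMulVec_apply] at this hi hj
    tauto
  obtain ⟨A, hA0, hA1⟩ := CfsgLib.TvCent.exists_frame (by omega) hv' hc' hcv
  set φ : GL (Fin (2 + m)) F ≃* GL (Fin 2 ⊕ Fin m) F :=
    Units.mapEquiv (Matrix.reindexAlgEquiv F F finSumFinEquiv.symm).toMulEquiv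
  set i0 : Fin (2 + m) := ⟨0, by omega⟩ with hi0
  set i1 : Fin (2 + m) := ⟨1, by omega⟩ with hi1
  set N : Matrix (Fin (2 + m)) (Fin (2 + m)) F :=
    Matrix.vecMulVec (Pi.single i0 (1 : F)) (Pi.single i1 1) with hN
  have hval : ∀ x : Fin 2 ⊕ Fin m, (x = Sum.inl 0 ↔ finSumFinEquiv x = i0) ∧
      (x = Sum.inl 1 ↔ finSumFinEquiv x = i1) := fun x => by
    have e0 : finSumFinEquiv (Sum.inl 0 : Fin 2 ⊕ Fin m) = i0 := Fin.ext rfl
    have e1 : finSumFinEquiv (Sum.inl 1 : Fin 2 ⊕ Fin m) = i1 := Fin.ext rfl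
    exact ⟨by rw [← e0, finSumFinEquiv.injective.eq_iff], by rw [← e1, finSumFinEquiv.injective.eq_iff]⟩
  have hstd : (Matrix.reindexAlgEquiv F F finSumFinEquiv.symm) N = CfsgLib.TvCent.stdN := by
    ext i j
    rw [Matrix.reindexAlgEquiv_apply, Matrix.reindex_apply, Matrix.submatrix_apply, hN,
      Matrix.vecMulVec_apply, Pi.single_apply, Pi.single_apply, Equiv.symm_symm]
    simp only [← (hval i).1, ← (hval j).2]
    rcases i with i | i <;> rcases j with j | j
    · fin_cases i <;> fin_cases j <;> simp [CfsgLib.TvCent.stdN]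
    all_goals simp [CfsgLib.TvCent.stdN]
  have hMA : M * A.1 = A.1 * N := by
    rw [hN, hMv, Matrix.vecMulVec_mul, Matrix.mul_vecMulVec, hA0, hA1]
  have hpt : ∀ g : GL (Fin (2 + m)) F, g ∈ Subgroup.centralizer {t} ↔
      (φ (A⁻¹ * g * A)).1 * CfsgLib.TvCent.stdN = CfsgLib.TvCent.stdN * (φ (A⁻¹ * g * A)).1 := by
    intro g
    have hsx : (Matrix.reindexAlgEquiv F F finSumFinEquiv.symm) ((A⁻¹ * g * A : GL (Fin (2 + m)) F)).1 =
        (φ (A⁻¹ * g * A)).1 := rfl
    rw [← hsx, ← hstd, ← map_mul, ← map_mul, (AlgEquiv.injective _).eq_iff,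
      Subgroup.mem_centralizer_singleton_iff, Units.ext_iff, Units.val_mul, Units.val_mul,
      show t.1 = 1 + M by rw [hM, add_sub_cancel], Matrix.add_mul, Matrix.mul_add, Matrix.one_mul,
      Matrix.mul_one, add_right_inj, Units.val_mul, Units.val_mul]
    constructor
    · intro h
      calc A⁻¹.1 * g.1 * A.1 * N = A⁻¹.1 * g.1 * (A.1 * N) := by simp only [Matrix.mul_assoc]
        _ = A⁻¹.1 * (g.1 * M) * A.1 := by rw [← hMA]; simp only [Matrix.mul_assoc]
        _ = A⁻¹.1 * (M * g.1) * A.1 := by rw [h]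
        _ = A⁻¹.1 * (M * A.1) * (A⁻¹.1 * g.1 * A.1) := by
            simp only [Matrix.mul_assoc, Units.mul_inv_cancel_left]
        _ = N * (A⁻¹.1 * g.1 * A.1) := by rw [hMA, Units.inv_mul_cancel_left]
    · intro h
      calc g.1 * M = g.1 * (M * A.1) * A⁻¹.1 := by simp only [Matrix.mul_assoc, Units.mul_inv, Matrix.mul_one]
        _ = A.1 * (A⁻¹.1 * g.1 * A.1 * N) * A⁻¹.1 := by
            rw [hMA]; simp only [Matrix.mul_assoc, Units.mul_inv_cancel_left]
        _ = A.1 * N * (A⁻¹.1 * g.1 * A.1) * A⁻¹.1 := by rw [h]; simp only [Matrix.mul_assoc]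
        _ = M * g.1 := by
            rw [← hMA]; simp only [Matrix.mul_assoc, Units.mul_inv, Units.mul_inv_cancel_left, Matrix.mul_one]
  let e : GL (Fin (2 + m)) F ≃ GL (Fin 2 ⊕ Fin m) F := ((MulAut.conj A⁻¹).trans φ).toEquiv
  have he : ∀ g, e g = φ (A⁻¹ * g * A) := fun g => by
    show φ (A⁻¹ * g * A⁻¹⁻¹) = _
    rw [inv_inv]
  rw [Nat.card_congr (Equiv.subtypeEquiv (q := fun x : GL (Fin 2 ⊕ Fin m) F => x.1 * CfsgLib.TvCent.stdN = CfsgLib.TvCent.stdN * x.1) e (fun g => by rw [he]; exact hpt g) :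
      ↥(Subgroup.centralizer ({t} : Set (GL (Fin (2 + m)) F))) ≃ _), CfsgLib.TvCent.card_std]
  simp only [add_tsub_cancel_left]
  rw [show 2 * (2 + m) - 3 = m + m + 1 by omega, pow_succ, pow_add]
  ring_nf
  rw [Fin.prod_univ_eq_prod_range (fun i => Fintype.card F ^ m - Fintype.card F ^ i),
    Fin.prod_univ_eq_prod_range (fun i => Fintype.card F ^ m - Fintype.card F ^ i)]
  simp

end Cfsg.Agent.S2572
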