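import Cfsg.Statements.S0445
import Cfsg.Agent.S2572

set_option autoImplicit false
set_option maxRecDepth 4000
open Cfsg

namespace Cfsg.Agent.S0445

theorem toGL_bijective {F : Type*} [Field F] {ι : Type*} [Fintype ι] [DecidableEq ι]
    (h : ∀ A : GL ι F, (A : Matrix ι ι F).det = 1) :
    Function.Bijective (Matrix.SpecialLinearGroup.toGL : Matrix.SpecialLinearGroup ι F →* GL ι F) :=
  ⟨Matrix.SpecialLinearGroup.toGL_injective, fun A => ⟨⟨A.1, h A⟩, Units.ext rfl⟩⟩

/-- In the special linear group of dimension 5 over the field with two elements, the centraliser of a transvection has order 21504 = 2 ^ 7 · 168 (it is an extension of an extraspecial group of order 2 ^ 7 by the simple group of order 168). -/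
theorem result (s : Matrix.SpecialLinearGroup (Fin 5) (ZMod 2)) (hs : (s : Matrix (Fin 5) (Fin 5) (ZMod 2)) = Matrix.transvection 0 1 1) : Nat.card (Subgroup.centralizer ({s} : Set (Matrix.SpecialLinearGroup (Fin 5) (ZMod 2)))) = 21504 := by
  have hdet : ∀ A : GL (Fin 5) (ZMod 2), (A : Matrix (Fin 5) (Fin 5) (ZMod 2)).det = 1 := fun A =>
    (by decide : ∀ x : ZMod 2, x ≠ 0 → x = 1) _ (Matrix.GeneralLinearGroup.det_ne_zero A)
  let φ : Matrix.SpecialLinearGroup (Fin 5) (ZMod 2) ≃* GL (Fin 5) (ZMod 2) :=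
    MulEquiv.ofBijective Matrix.SpecialLinearGroup.toGL (toGL_bijective hdet)
  have hM : ((φ s : GL (Fin 5) (ZMod 2)) : Matrix (Fin 5) (Fin 5) (ZMod 2)) - 1 = Matrix.single 0 1 1 := by
    show (s : Matrix (Fin 5) (Fin 5) (ZMod 2)) - 1 = _
    rw [hs, Matrix.transvection, add_sub_cancel_left]
  have ht : Cfsg.IsTransvection ((φ s : GL (Fin 5) (ZMod 2)) : Matrix (Fin 5) (Fin 5) (ZMod 2)) := by
    refine ⟨?_, ?_⟩
    · rw [hM, Matrix.single_eq_single_vecMulVec_single]
      exact le_antisymm (Matrix.rank_vecMulVec_le _ _) (Nat.one_le_iff_ne_zero.mpr fun h => by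
        have h2 := congrFun (LinearMap.congr_fun (LinearMap.range_eq_bot.mp (Submodule.finrank_eq_zero.mp h)) (Pi.single (1 : Fin 5) 1)) 0
        simp [Matrix.vecMulVec_apply] at h2)
    · rw [hM, Matrix.single_mul_single_of_ne]; decide
  have := Cfsg.Agent.S2572.result (F := ZMod 2) (q := 2) (ZMod.card 2) (n := 5) (by norm_num) (φ s) ht
  rw [Nat.card_congr (Equiv.subtypeEquiv φ.toEquiv (p := fun x => x ∈ Subgroup.centralizer {s})
    (q := fun x => x ∈ Subgroup.centralizer {φ s}) (fun x => by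
      simp only [Subgroup.mem_centralizer_singleton_iff, MulEquiv.toEquiv_eq_coe, MulEquiv.coe_toEquiv, ← map_mul,
        φ.injective.eq_iff]))]
  rw [this]
  show 2 ^ (2 * 5 - 3) * (2 - 1) * (∏ i : Fin 3, (2 ^ 3 - 2 ^ (i : ℕ))) = 21504
  rw [Fin.prod_univ_three]
  norm_num

end Cfsg.Agent.S0445
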