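import Cfsg.Statements.S0458
import Cfsg.Agent.Lib.CosetEnum.J3Group

set_option autoImplicit false
open Cfsg CfsgLib.CosetEnum

namespace Cfsg.Agent.S0458

/-- Janko's third group exists as a transitive permutation group of degree 6156 with point stabiliser of order 8160: a simple group of order 50232960. -/
theorem result : ∃ H : Subgroup (Equiv.Perm (Fin 6156)), Cfsg.IsJ3 H ∧ MulAction.IsPretransitive H (Fin 6156) ∧ Nat.card (MulAction.stabilizer H (0 : Fin 6156)) = 8160 := by
  have hs : IsSimpleGroup presJ3.Grp := J3Group.isSimple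
  let π : presJ3.Grp →* Equiv.Perm (Fin 6156) := J3Group.act
  have hinj : Function.Injective π := J3Group.injective
  have e : presJ3.Grp ≃* π.range := MonoidHom.ofInjective hinj
  have hsimp : IsSimpleGroup π.range := e.symm.isSimpleGroup
  have hcard : Nat.card π.range = 50232960 := (Nat.card_congr e.toEquiv).symm.trans J3Group.card_eq
  have htr : MulAction.IsPretransitive π.range (Fin 6156) := by
    have h0 : ∀ a : Fin 6156, ∃ g : π.range, g • (0 : Fin 6156) = a := by
      intro a
      obtain ⟨g, hg⟩ := J6156.cert.exists_hom_zero J6156.hlt J3Group.hid a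
      exact ⟨⟨π g, g, rfl⟩, hg⟩
    refine ⟨fun a b => ?_⟩
    obtain ⟨g, rfl⟩ := h0 a
    obtain ⟨g', rfl⟩ := h0 b
    exact ⟨g' * g⁻¹, by rw [mul_smul, inv_smul_smul]⟩
  refine ⟨π.range, ⟨hsimp, hcard⟩, htr, ?_⟩
  have h := (MulAction.stabilizer π.range (0 : Fin 6156)).card_mul_index
  rw [MulAction.index_stabilizer_of_transitive, Nat.card_eq_fintype_card (α := Fin 6156), Fintype.card_fin, hcard] at h
  omega

end Cfsg.Agent.S0458
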