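import Cfsg.Statements.S0459
import Cfsg.Agent.Lib.RuLattice.Tits

set_option autoImplicit false
open Cfsg

namespace Cfsg.Agent.S0459

/-- The Rudvalis group exists as a transitive permutation group of degree 4060: simple of order 145926144000, with point stabiliser of order 35942400 containing a simple subgroup of order 17971200 (the order of the Tits group). -/
theorem result : ∃ H : Subgroup (Equiv.Perm (Fin 4060)), Cfsg.IsRu H ∧ MulAction.IsPretransitive H (Fin 4060) ∧ Nat.card (MulAction.stabilizer H (0 : Fin 4060)) = 35942400 ∧ ∃ T : Subgroup (MulAction.stabilizer H (0 : Fin 4060)), Cfsg.IsTits T := by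
  open CfsgLib.RuLattice in
  have e := Subgroup.equivMapOfInjective titsSub stabHom stabHom_bij.1
  refine ⟨CfsgLib.RuLattice.RuH, ⟨CfsgLib.RuLattice.RuH_simple, CfsgLib.RuLattice.card_RuH⟩,
    CfsgLib.RuLattice.RuH_transitive, CfsgLib.RuLattice.card_stab_line,
    CfsgLib.RuLattice.titsSub.map CfsgLib.RuLattice.stabHom, ?_, ?_⟩
  · have : IsSimpleGroup CfsgLib.RuLattice.titsSub := CfsgLib.RuLattice.titsSub_simple
    exact e.symm.isSimpleGroup
  · rw [← Nat.card_congr e.toEquiv, CfsgLib.RuLattice.card_titsSub]

end Cfsg.Agent.S0459
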