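import Cfsg.Statements.S1682
import Cfsg.Agent.S1695
import Cfsg.Agent.S0245
import Cfsg.Agent.Lib.CosetEnum.Sp44Order
import Cfsg.Agent.Lib.CosetEnum.Sp44Matrices
import Mathlib.GroupTheory.Index

set_option autoImplicit false
set_option maxRecDepth 100000
set_option linter.unusedSimpArgs false
open Cfsg CfsgLib.CosetEnum

namespace Cfsg.Agent.S1682

theorem sub_eq : (Subgroup.closure ({Cfsg.Spor.He.a, Cfsg.Spor.He.c, Cfsg.Spor.He.d, Cfsg.Spor.He.e, Cfsg.Spor.He.f, (Cfsg.Spor.He.a * Cfsg.Spor.He.b) ^ 2, (Cfsg.Spor.He.b * Cfsg.Spor.He.c * Cfsg.Spor.He.d * Cfsg.Spor.He.e) ^ 7} : Set (FreeGroup Cfsg.Spor.He.Gen))).map (PresentedGroup.mk presHe.relSet) = He2058.cert.sub := by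
  have hσ : ∀ i, i < 7 → presHe.σ i = PresentedGroup.mk presHe.relSet (FreeGroup.of (presHe.gen i)) := fun i hi => if_pos hi
  rw [MonoidHom.map_closure, Cert.sub]
  congr 1
  ext g
  simp only [He2058.cert, He2058.hw, List.mem_cons, List.not_mem_nil, or_false, Set.mem_ofPred_eq, exists_eq_or_imp,
    exists_eq_left, List.map_cons, List.map_nil, List.prod_cons, List.prod_nil, mul_one,
    hσ 0 (by norm_num), hσ 1 (by norm_num), hσ 2 (by norm_num), hσ 3 (by norm_num), hσ 4 (by norm_num), hσ 5 (by norm_num), hσ 6 (by norm_num)]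
  simp [presHe, Cfsg.Spor.He.a, Cfsg.Spor.He.b, Cfsg.Spor.He.c, Cfsg.Spor.He.d, Cfsg.Spor.He.e, Cfsg.Spor.He.f, Cfsg.Spor.He.g, pow_succ, mul_assoc, eq_comm]

theorem he_card : Nat.card presHe.Grp = 4030387200 := Cfsg.Agent.S1695.result.2

theorem he_finite : Finite presHe.Grp := Nat.finite_of_card_ne_zero (by rw [he_card]; decide)

theorem he_injective : Function.Injective (He2058.cert.hom He2058.hlt) := by
  have := he_finite
  exact He2058.cert.hom_injective He2058.hlt
    (He2058.cert.card_le_of_fixSub He2058.hlt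
      (Cfsg.Agent.S1695.lower (He2058.cert.ker_le_fixSub He2058.hlt _)))
    Cfsg.Agent.S1695.upper.2

theorem word_one (w : List ℕ) (hw : (w.all fun x => Nat.blt x 7) = true)
    (h : allN 2058 (fun d => force d fun d' => Nat.beq (runT He2058.table 7 w d') d') = true) :
    (w.map presHe.σ).prod = 1 := by
  have hW : ∀ x ∈ w, x < presHe.k := fun x hx => blt_iff.mp (List.all_eq_true.mp hw x hx)
  refine inv_eq_one.mp (he_injective ?_)
  rw [← prod_reverse_inv presHe.σ presHe.σ_sq, map_one]
  refine Equiv.ext fun d => Fin.ext ?_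
  rw [He2058.cert.hom_rev He2058.hlt (by decide) _ hW d, Equiv.Perm.one_apply]
  have := allN_spec h d d.2
  rw [force_eq] at this
  exact Nat.eq_of_beq_eq_true this

/-- The generators of the subgroup as words. -/
def W : List (List ℕ) := [[0], [2], [3], [4], [5], [1, 2, 3, 4, 1, 2, 3, 4, 1, 2, 3, 4, 1, 2, 3, 4, 1, 2, 3, 4, 1, 2, 3, 4, 1, 2, 3, 4, 0, 4, 3, 2, 1, 4, 3, 2, 1, 4, 3, 2, 1, 4, 3, 2, 1, 4, 3, 2, 1, 4, 3, 2, 1, 4, 3, 2, 1]]

/-- The generators in He. -/
noncomputable def gensHe (x : ℕ) : presHe.Grp := ((W.getD x []).map presHe.σ).prod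

theorem gensHe_sq (x : ℕ) : gensHe x * gensHe x = 1 := by
  have hp : (W.getD x []).reverse = W.getD x [] := by
    by_cases hx : x < W.length
    · have key : ∀ y < W.length, (W.getD y []).reverse = W.getD y [] := by decide
      exact key x hx
    · rw [List.getD_eq_default _ _ (not_lt.mp hx)]; rfl
  have h := prod_reverse_inv presHe.σ presHe.σ_sq (W.getD x [])
  rw [hp] at h
  exact mul_eq_one_iff_eq_inv.mpr h

theorem gensHe_prod : ∀ w : List ℕ,
    (w.map gensHe).prod = ((w.flatMap fun x => W.getD x []).map presHe.σ).prod := by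
  intro w
  induction w with
  | nil => rfl
  | cons x w ih =>
    rw [List.map_cons, List.prod_cons, ih, List.flatMap_cons, List.map_append, List.prod_append]
    rfl

theorem rels_check : presSp44.rels.all (fun w => ((w.flatMap fun x => W.getD x []).all fun x => Nat.blt x 7) &&
    allN 2058 (fun d => force d fun d' => Nat.beq (runT He2058.table 7 (w.flatMap fun x => W.getD x []) d') d')) =
    true := by
  decide +kernel

theorem gensHe_rel : ∀ w ∈ presSp44.rels, (w.map gensHe).prod = 1 := by
  intro w hw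
  have h := List.all_eq_true.mp rels_check w hw
  rw [Bool.and_eq_true] at h
  rw [gensHe_prod]
  exact word_one _ h.1 h.2

/-- The map to He. -/
noncomputable def toHe : presSp44.Grp →* presHe.Grp :=
  PresentedGroup.toGroup (f := gensHe ∘ presSp44.idx) (presSp44.lift_rel gensHe_sq gensHe_rel)

theorem gensHe_mem (x : ℕ) : gensHe x ∈ He2058.cert.sub := by
  have hmem : ∀ w ∈ He2058.hw, (w.map presHe.σ).prod ∈ He2058.cert.sub := fun w hw =>
    Subgroup.subset_closure ⟨w, hw, rfl⟩
  by_cases hx : x < W.length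
  · by_cases h5 : x = 5
    · subst h5
      show (((List.replicate 7 [1, 2, 3, 4]).flatten ++ [0] ++ (List.replicate 7 [1, 2, 3, 4]).flatten.reverse).map
        presHe.σ).prod ∈ He2058.cert.sub
      rw [List.map_append, List.map_append, List.prod_append, List.prod_append,
        prod_reverse_inv presHe.σ presHe.σ_sq]
      exact mul_mem (mul_mem (hmem _ (by decide)) (hmem _ (by decide))) (inv_mem (hmem _ (by decide)))
    · refine hmem _ ?_
      have key : ∀ y < W.length, y ≠ 5 → W.getD y [] ∈ He2058.hw := by decide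
      exact key x hx h5
  · rw [gensHe, List.getD_eq_default _ _ (not_lt.mp hx)]
    exact one_mem _

theorem toHe_mem (g : presSp44.Grp) : toHe g ∈ He2058.cert.sub := by
  suffices h : toHe.range ≤ He2058.cert.sub from h ⟨g, rfl⟩
  rw [MonoidHom.range_eq_map, ← PresentedGroup.closure_range_of presSp44.relSet, MonoidHom.map_closure,
    Subgroup.closure_le]
  rintro _ ⟨_, ⟨i, rfl⟩, rfl⟩
  rw [toHe, PresentedGroup.toGroup.of]
  exact gensHe_mem _

theorem main : ∃ (N : Subgroup He2058.cert.sub) (K : Type) (_ : Field K) (_ : Fintype K),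
    N.Normal ∧ N.index = 2 ∧ Fintype.card K = 4 ∧ Nonempty (N ≃* Matrix.symplecticGroup (Fin 2) K) := by
  have := Sp44Order.upper.1
  have := he_finite
  obtain ⟨hcard, hsimple⟩ := Sp44Order.card_simple
  let κ : presSp44.Grp →* He2058.cert.sub := toHe.codRestrict _ toHe_mem
  have hκ : Function.Injective κ := by
    rw [← MonoidHom.ker_eq_bot_iff]
    refine (Subgroup.Normal.eq_bot_or_eq_top inferInstance).resolve_right fun ht => ?_
    have h0 : toHe (PresentedGroup.of 0) = 1 :=
      congrArg Subtype.val ((MonoidHom.mem_ker (f := κ)).mp (ht ▸ Subgroup.mem_top (PresentedGroup.of 0)))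
    rw [toHe, PresentedGroup.toGroup.of] at h0
    have h1 : gensHe 0 = 1 := h0
    have hm : He2058.cert.hom He2058.hlt (([0] : List ℕ).reverse.map presHe.σ).prod = 1 := by
      rw [show (([0] : List ℕ).reverse.map presHe.σ).prod = gensHe 0 from rfl, h1, map_one]
    have key : ∃ d < 2058, runT He2058.table 7 [0] d ≠ d := by decide +kernel
    obtain ⟨d, hd, hne⟩ := key
    refine hne ?_
    have := He2058.cert.hom_rev He2058.hlt (by decide) [0] (by decide) ⟨d, hd⟩
    rw [hm, Equiv.Perm.one_apply] at this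
    exact this.symm
  have hψ : Function.Injective Sp44Matrices.rep := by
    rw [← MonoidHom.ker_eq_bot_iff]
    exact (Subgroup.Normal.eq_bot_or_eq_top inferInstance).resolve_right fun ht =>
      Sp44Matrices.rep_ne_one ((MonoidHom.mem_ker).mp (ht ▸ Subgroup.mem_top _))
  have hp : Nat.card (Matrix.symplecticGroup (Fin 2) CfsgLib.G24.K) = 979200 := by
    rw [Cfsg.Agent.S0245.result CfsgLib.G24.K.card_eq 2]
    simp [Finset.prod_range_succ]
  have : Finite (Matrix.symplecticGroup (Fin 2) CfsgLib.G24.K) := Nat.finite_of_card_ne_zero (by rw [hp]; decide)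
  have hN : Nat.card κ.range = 979200 := (Nat.card_congr (MonoidHom.ofInjective hκ).toEquiv).symm.trans hcard
  obtain ⟨e, -⟩ := He2058.cert.exists_equiv He2058.hlt (by decide) He2058.hhw
  have hs : Nat.card He2058.cert.sub = 1958400 := by
    have h := He2058.cert.sub.card_mul_index
    have hn : He2058.cert.T.n = 2058 := rfl
    rw [index_eq_of_equiv e, he_card, hn] at h
    refine Nat.eq_of_mul_eq_mul_right (show 0 < 2058 by norm_num) (h.trans ?_)
    norm_num
  have hi : κ.range.index = 2 := by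
    have h := κ.range.card_mul_index
    rw [hN, hs] at h
    refine Nat.eq_of_mul_eq_mul_left (show 0 < 979200 by norm_num) (h.trans ?_)
    norm_num
  exact ⟨κ.range, CfsgLib.G24.K, inferInstance, inferInstance, Subgroup.normal_of_index_eq_two hi, hi,
    CfsgLib.G24.K.card_eq, ⟨(MonoidHom.ofInjective hκ).symm.trans
      (MulEquiv.ofBijective _ ((Nat.bijective_iff_injective_and_card _).mpr ⟨hψ, hcard.trans hp.symm⟩))⟩⟩

/-- In the presented Held group, the subgroup H generated by the images of a, c, d, e, f, (ab)^2 and (bcde)^7 has a normal subgroup of index 2 isomorphic to the 4-dimensional symplectic group over a field with four elements. -/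
theorem result : ∃ (N : Subgroup (((Subgroup.closure ({Cfsg.Spor.He.a, Cfsg.Spor.He.c, Cfsg.Spor.He.d, Cfsg.Spor.He.e, Cfsg.Spor.He.f, (Cfsg.Spor.He.a * Cfsg.Spor.He.b) ^ 2, (Cfsg.Spor.He.b * Cfsg.Spor.He.c * Cfsg.Spor.He.d * Cfsg.Spor.He.e) ^ 7} : Set (FreeGroup Cfsg.Spor.He.Gen))).map (PresentedGroup.mk (Cfsg.Spor.coxRelators Cfsg.Spor.He.edges ∪ {r | r ∈ Cfsg.Spor.He.extra}))))) (K : Type) (_ : Field K) (_ : Fintype K), N.Normal ∧ N.index = 2 ∧ Fintype.card K = 4 ∧ Nonempty (N ≃* Matrix.symplecticGroup (Fin 2) K) := by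
  have h := sub_eq
  unfold CfsgLib.CosetEnum.Pres.relSet at h
  have key : ∀ H : Subgroup presHe.Grp, H = He2058.cert.sub → ∃ (N : Subgroup H) (K : Type) (_ : Field K)
      (_ : Fintype K), N.Normal ∧ N.index = 2 ∧ Fintype.card K = 4 ∧
        Nonempty (N ≃* Matrix.symplecticGroup (Fin 2) K) := by
    rintro H rfl
    exact main
  exact key _ h

end Cfsg.Agent.S1682
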