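import Cfsg.Statements.S0462
import Cfsg.Agent.S1682
import Mathlib.GroupTheory.GroupAction.Quotient

set_option autoImplicit false
open Cfsg CfsgLib.CosetEnum

namespace Cfsg.Agent.S0462

theorem sub_fix (h : presHe.Grp) (hh : h ∈ He2058.cert.sub) :
    He2058.cert.hom He2058.hlt h (0 : Fin 2058) = (0 : Fin 2058) := by
  suffices hle : He2058.cert.sub ≤ (MulAction.stabilizer (Equiv.Perm (Fin 2058)) (0 : Fin 2058)).comap
      (He2058.cert.hom He2058.hlt) from hle hh
  rw [Cert.sub, Subgroup.closure_le]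
  rintro _ ⟨w, hw, rfl⟩
  show He2058.cert.hom He2058.hlt (w.map presHe.σ).prod (0 : Fin 2058) = (0 : Fin 2058)
  refine Fin.ext ?_
  show (He2058.cert.hom He2058.hlt (w.map presHe.σ).prod (0 : Fin 2058) : ℕ) = 0
  have hw' : ∀ x ∈ w, x < He2058.cert.D.k := fun x hx => by rw [He2058.cert.hk]; exact He2058.hhw w hw x hx
  refine (congrArg (fun π : Equiv.Perm (Fin 2058) => ((π 0 : Fin 2058) : ℕ))
    (He2058.cert.hom_word He2058.hlt (by decide) w (He2058.hhw w hw))).trans ?_
  refine (He2058.cert.word_smul w hw' ⟨0, He2058.cert.hn⟩).trans ?_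
  have hb := List.all_eq_true.mp He2058.cert.base_ok w hw
  rw [runT_eq] at hb
  have h0 := He2058.cert.act_run_cancel w hw' 0 He2058.cert.hn
  rw [Nat.eq_of_beq_eq_true hb] at h0
  exact h0

/-- The permutation group. -/
noncomputable def H : Subgroup (Equiv.Perm (Fin 2058)) := (He2058.cert.hom He2058.hlt).range

/-- The group is the image of He. -/
noncomputable def iso : presHe.Grp ≃* H := MonoidHom.ofInjective Cfsg.Agent.S1682.he_injective

theorem transitive : MulAction.IsPretransitive H (Fin 2058) := by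
  refine ⟨fun a b => ?_⟩
  obtain ⟨g, hg⟩ := He2058.cert.exists_hom_zero He2058.hlt (by decide) a
  obtain ⟨g', hg'⟩ := He2058.cert.exists_hom_zero He2058.hlt (by decide) b
  refine ⟨iso (g' * g⁻¹), ?_⟩
  show He2058.cert.hom He2058.hlt (g' * g⁻¹) a = b
  refine Eq.trans (congrArg (He2058.cert.hom He2058.hlt (g' * g⁻¹)) hg.symm) ?_
  exact (((congrArg (fun π : Equiv.Perm (Fin He2058.cert.T.n) => π ⟨0, He2058.cert.hn⟩)
    ((He2058.cert.hom He2058.hlt).map_mul (g' * g⁻¹) g)).symm).trans
      (by rw [inv_mul_cancel_right])).trans hg'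

theorem stabIso : Nonempty (He2058.cert.sub ≃* MulAction.stabilizer H (0 : Fin 2058)) := by
  have := Cfsg.Agent.S1682.he_finite
  have := transitive
  let φ : He2058.cert.sub →* MulAction.stabilizer H (0 : Fin 2058) :=
    (iso.toMonoidHom.comp He2058.cert.sub.subtype).codRestrict _ fun h => sub_fix h h.2
  have hφ : Function.Injective φ := fun a b e =>
    Subtype.ext (iso.injective (congrArg Subtype.val e))
  obtain ⟨e, -⟩ := He2058.cert.exists_equiv He2058.hlt (by decide) He2058.hhw
  have h1 := He2058.cert.sub.card_mul_index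
  have hn : He2058.cert.T.n = 2058 := rfl
  rw [index_eq_of_equiv e, hn, Cfsg.Agent.S1682.he_card] at h1
  have h2 := (MulAction.stabilizer H (0 : Fin 2058)).card_mul_index
  rw [MulAction.index_stabilizer_of_transitive, Nat.card_eq_fintype_card (α := Fin 2058), Fintype.card_fin,
    ← Nat.card_congr iso.toEquiv, Cfsg.Agent.S1682.he_card, ← h1] at h2
  exact ⟨MulEquiv.ofBijective φ ((Nat.bijective_iff_injective_and_card φ).mpr
    ⟨hφ, (Nat.eq_of_mul_eq_mul_right (show 0 < 2058 by norm_num) h2).symm⟩)⟩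

/-- The Held group exists as a transitive permutation group of degree 2058: simple of order 4030387200, with point stabiliser containing, with index 2, a copy of the 4-dimensional symplectic group over the field with four elements. -/
theorem result : ∃ H : Subgroup (Equiv.Perm (Fin 2058)), Cfsg.IsHe H ∧ MulAction.IsPretransitive H (Fin 2058) ∧ ∃ (F : Type) (_ : Field F) (_ : Fintype F), Fintype.card F = 4 ∧ ∃ N : Subgroup (MulAction.stabilizer H (0 : Fin 2058)), N.index = 2 ∧ Nonempty (N ≃* Matrix.symplecticGroup (Fin 2) F) := by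
  have hHe := Cfsg.Agent.S1695.result
  have : IsSimpleGroup Cfsg.Spor.He := hHe.1
  have : Nontrivial H := iso.toEquiv.symm.nontrivial
  refine ⟨H, ⟨IsSimpleGroup.isSimpleGroup_of_surjective iso.toMonoidHom iso.surjective, ?_⟩, transitive, ?_⟩
  · rw [← Nat.card_congr iso.toEquiv]
    exact hHe.2
  · obtain ⟨N, K, hK, hKf, hN, hi, hc, ⟨e⟩⟩ := Cfsg.Agent.S1682.main
    obtain ⟨φ⟩ := stabIso
    refine ⟨K, hK, hKf, hc, N.map φ.toMonoidHom, ?_, ⟨(φ.subgroupMap N).symm.trans e⟩⟩
    exact (Subgroup.index_map_of_bijective (hf := φ.bijective) (H := N)).trans hi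

end Cfsg.Agent.S0462
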