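import Cfsg.Statements.S0472
import Cfsg.Agent.Lib.CosetEnum.Fi23Class.Double
-- import your own Cfsg.Agent.* helpers here

set_option autoImplicit false
open Cfsg CfsgLib.CosetEnum

namespace Cfsg.Agent.S0472

/-- Transport of a double cover along an isomorphism. -/
theorem cover_congr {H H' K : Type} [Group H] [Group H'] [Group K] (e : H ≃* H')
    (h : Cfsg.IsNonsplitDoubleCover H K) : Cfsg.IsNonsplitDoubleCover H' K := by
  obtain ⟨hc, ⟨q⟩, hn⟩ := h
  have hm : (Subgroup.center H).map e.toMonoidHom = Subgroup.center H' := by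
    ext x
    constructor
    · rintro ⟨y, hy, rfl⟩
      refine Subgroup.mem_center_iff.mpr fun g => ?_
      obtain ⟨g, rfl⟩ := e.surjective g
      show e g * e y = e y * e g
      rw [← map_mul, ← map_mul, Subgroup.mem_center_iff.mp hy g]
    · intro hx
      refine ⟨e.symm x, Subgroup.mem_center_iff.mpr fun g => e.injective ?_, e.apply_symm_apply x⟩
      rw [map_mul, map_mul, e.apply_symm_apply, Subgroup.mem_center_iff.mp hx]
  refine ⟨?_, ⟨(QuotientGroup.congr _ _ e hm).symm.trans q⟩, fun L hL => hn (L.comap e.toMonoidHom) ?_⟩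
  · rw [← hm, ← Nat.card_congr ((Subgroup.center H).equivMapOfInjective e.toMonoidHom e.injective).toEquiv]
    exact hc
  · rw [← hm] at hL
    constructor
    · rintro ⟨⟨a, ha⟩, ⟨b, hb⟩⟩ ⟨⟨a', ha'⟩, ⟨b', hb'⟩⟩ hab
      have hab' : a * b = a' * b' := hab
      have := hL.1 (a₁ := (⟨e a, a, ha, rfl⟩, ⟨e b, hb⟩)) (a₂ := (⟨e a', a', ha', rfl⟩, ⟨e b', hb'⟩)) (by
        show e a * e b = e a' * e b'
        rw [← map_mul, ← map_mul, hab'])
      obtain ⟨e1, e2⟩ := Prod.ext_iff.mp this
      exact Prod.ext (Subtype.ext (e.injective (congrArg Subtype.val e1))) (Subtype.ext (e.injective (congrArg Subtype.val e2)))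
    · intro x
      obtain ⟨⟨⟨_, a, ha, rfl⟩, ⟨b, hb⟩⟩, hab⟩ := hL.2 (e x)
      obtain ⟨b, rfl⟩ := e.surjective b
      refine ⟨(⟨a, ha⟩, ⟨b, hb⟩), e.injective ?_⟩
      show e (a * b) = e x
      rw [map_mul]
      exact hab


/-- The Fischer group of order 4089470473293004800 exists as a 3-transposition group: a simple group of that order generated by a conjugacy class of 31671 3-transpositions, the centraliser of each being a non-split double cover of a simple group of order 64561751654400. -/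
theorem result : ∃ (G : Type) (_ : Group G) (_ : Finite G), Cfsg.IsFi23 G ∧ ∃ D : Set G, Cfsg.IsThreeTranspositionClass D ∧ Nat.card D = 31671 ∧ ∀ d ∈ D, ∃ (K : Type) (_ : Group K), Cfsg.IsFi22 K ∧ Cfsg.IsNonsplitDoubleCover (Subgroup.centralizer ({d} : Set G)) K := by
  haveI : Finite presFi23.Grp := Cfsg.Agent.S1697.upper.1
  obtain ⟨hC, hD, hn⟩ := Fi23Class.facts
  refine ⟨presFi23.Grp, inferInstance, inferInstance, Cfsg.Agent.S1697.result, _, hD,
    (Nat.card_coe_set_eq _).trans hn, fun d hd => ⟨Cfsg.Spor.Fi22, inferInstance, Cfsg.Agent.S1696.result, ?_⟩⟩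
  obtain ⟨g, rfl⟩ := isConj_iff.mp hd
  have hm : Fi31671.cert.sub.map (MulAut.conj g).toMonoidHom =
      Subgroup.centralizer ({g * Fi23Class.tp * g⁻¹} : Set presFi23.Grp) := by
    rw [← hC]
    ext x
    simp only [Subgroup.mem_map, Subgroup.mem_centralizer_singleton_iff]
    constructor
    · rintro ⟨y, hy, rfl⟩
      show g * y * g⁻¹ * (g * Fi23Class.tp * g⁻¹) = g * Fi23Class.tp * g⁻¹ * (g * y * g⁻¹)
      calc g * y * g⁻¹ * (g * Fi23Class.tp * g⁻¹) = g * (y * Fi23Class.tp) * g⁻¹ := by group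
        _ = _ := by rw [hy]; group
    · intro hx
      refine ⟨g⁻¹ * x * g, ?_, by show g * (g⁻¹ * x * g) * g⁻¹ = x; group⟩
      calc g⁻¹ * x * g * Fi23Class.tp = g⁻¹ * (x * (g * Fi23Class.tp * g⁻¹)) * g := by group
        _ = _ := by rw [hx]; group
  exact cover_congr ((Fi31671.cert.sub.equivMapOfInjective _ (MulAut.conj g).injective).trans
    (MulEquiv.subgroupCongr hm)) Fi23Class.double_cover
end Cfsg.Agent.S0472
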