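import Cfsg.Statements.S0473
import Cfsg.Agent.Lib.CosetEnum.Fi24Table.HeSub.Main

set_option autoImplicit false
open Cfsg

namespace Cfsg.Agent.S0473

/-- The largest Fischer 3-transposition group: a group of order 2 · 1255205709190661721292800 generated by a conjugacy class of 306936 3-transpositions, in which a transposition centraliser has order 2 · 4089470473293004800 and contains a simple subgroup of order 4089470473293004800; its subgroup of index 2 is simple and contains simple subgroups of orders 4089470473293004800 and 4030387200. -/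
theorem result : ∃ (G : Type) (_ : Group G) (_ : Finite G), Nat.card G = 2 * 1255205709190661721292800 ∧ ∃ D : Set G, Cfsg.IsThreeTranspositionClass D ∧ Nat.card D = 306936 ∧ (∀ d ∈ D, Nat.card (Subgroup.centralizer ({d} : Set G)) = 2 * 4089470473293004800 ∧ ∃ K : Subgroup G, K ≤ Subgroup.centralizer ({d} : Set G) ∧ Cfsg.IsFi23 K) ∧ ∃ H : Subgroup G, H.index = 2 ∧ Cfsg.IsFi24' H ∧ (∃ K : Subgroup H, Cfsg.IsFi23 K) ∧ (∃ K : Subgroup H, Cfsg.IsHe K) := by
  haveI hfin : Finite CfsgLib.CosetEnum.presFi24.Grp :=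
    Nat.finite_of_card_ne_zero (by rw [CfsgLib.CosetEnum.Fi24Table.card_grp]; norm_num)
  obtain ⟨f, hf, hfc⟩ := CfsgLib.CosetEnum.Fi24Table.HeSub.exists_hom_He
  have h23 : Cfsg.IsFi23 ↥((commutator CfsgLib.CosetEnum.Fi24Table.cert.sub).map
      CfsgLib.CosetEnum.Fi24Table.cert.sub.subtype) := by
    have e := ((commutator CfsgLib.CosetEnum.Fi24Table.cert.sub).equivMapOfInjective _
      (Subgroup.subtype_injective CfsgLib.CosetEnum.Fi24Table.cert.sub)).symm
    haveI := CfsgLib.CosetEnum.Fi24Table.derived_simple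
    haveI := e.toEquiv.nontrivial
    exact ⟨IsSimpleGroup.isSimpleGroup_of_surjective e.symm.toMonoidHom e.symm.surjective,
      (Nat.card_congr e.toEquiv).trans CfsgLib.CosetEnum.Fi24Table.card_derived⟩
  have hle : (commutator CfsgLib.CosetEnum.Fi24Table.cert.sub).map
      CfsgLib.CosetEnum.Fi24Table.cert.sub.subtype ≤ commutator CfsgLib.CosetEnum.presFi24.Grp := by
    rw [commutator_def, Subgroup.map_commutator]
    exact Subgroup.commutator_mono le_top le_top
  refine ⟨CfsgLib.CosetEnum.presFi24.Grp, inferInstance, hfin, by rw [CfsgLib.CosetEnum.Fi24Table.card_grp],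
    CfsgLib.CosetEnum.Fi24Table.Dset, CfsgLib.CosetEnum.Fi24Table.threeTransposition,
    (Nat.card_coe_set_eq _).trans CfsgLib.CosetEnum.Fi24Table.card_D, fun d hd => ?_,
    commutator CfsgLib.CosetEnum.presFi24.Grp, CfsgLib.CosetEnum.Fi24Table.index_commutator,
    CfsgLib.CosetEnum.Fi24Table.isFi24',
    ⟨((commutator CfsgLib.CosetEnum.Fi24Table.cert.sub).map CfsgLib.CosetEnum.Fi24Table.cert.sub.subtype).subgroupOf
      (commutator CfsgLib.CosetEnum.presFi24.Grp), ?_⟩, ⟨f.range.subgroupOf _, ?_⟩⟩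
  · obtain ⟨g, rfl⟩ := isConj_iff.mp hd
    have hmap : Subgroup.centralizer ({g * CfsgLib.CosetEnum.presFi24.σ 0 * g⁻¹} : Set CfsgLib.CosetEnum.presFi24.Grp) =
        CfsgLib.CosetEnum.Fi24Table.cert.sub.map (MulAut.conj g).toMonoidHom := by
      rw [← CfsgLib.CosetEnum.Fi24Table.centralizer_eq]
      ext x
      rw [Subgroup.mem_map_equiv, Subgroup.mem_centralizer_singleton_iff, Subgroup.mem_centralizer_singleton_iff,
        MulAut.conj_symm_apply]
      exact ⟨fun h => by
        calc g⁻¹ * x * g * CfsgLib.CosetEnum.presFi24.σ 0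
            = g⁻¹ * (x * (g * CfsgLib.CosetEnum.presFi24.σ 0 * g⁻¹)) * g := by group
          _ = g⁻¹ * (g * CfsgLib.CosetEnum.presFi24.σ 0 * g⁻¹ * x) * g := by rw [h]
          _ = CfsgLib.CosetEnum.presFi24.σ 0 * (g⁻¹ * x * g) := by group, fun h => by
        calc x * (g * CfsgLib.CosetEnum.presFi24.σ 0 * g⁻¹)
            = g * (g⁻¹ * x * g * CfsgLib.CosetEnum.presFi24.σ 0) * g⁻¹ := by group
          _ = g * (CfsgLib.CosetEnum.presFi24.σ 0 * (g⁻¹ * x * g)) * g⁻¹ := by rw [h]
          _ = g * CfsgLib.CosetEnum.presFi24.σ 0 * g⁻¹ * x := by group⟩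
    refine ⟨?_, ((commutator CfsgLib.CosetEnum.Fi24Table.cert.sub).map CfsgLib.CosetEnum.Fi24Table.cert.sub.subtype).map
      (MulAut.conj g).toMonoidHom, ?_, ?_⟩
    · rw [hmap, Subgroup.card_map_of_injective (MulAut.conj g).injective, CfsgLib.CosetEnum.Fi24Table.card_sub]
    · rw [hmap]
      exact Subgroup.map_mono (Subgroup.map_subtype_le (commutator CfsgLib.CosetEnum.Fi24Table.cert.sub))
    · have e := Subgroup.equivMapOfInjective ((commutator CfsgLib.CosetEnum.Fi24Table.cert.sub).map
        CfsgLib.CosetEnum.Fi24Table.cert.sub.subtype) (MulAut.conj g).toMonoidHom (MulAut.conj g).injective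
      haveI := h23.1
      haveI := e.symm.toEquiv.nontrivial
      exact ⟨IsSimpleGroup.isSimpleGroup_of_surjective e.toMonoidHom e.surjective,
        (Nat.card_congr e.symm.toEquiv).trans h23.2⟩
  · have e := Subgroup.subgroupOfEquivOfLe hle
    haveI := h23.1
    haveI := e.toEquiv.nontrivial
    exact ⟨IsSimpleGroup.isSimpleGroup_of_surjective e.symm.toMonoidHom e.symm.surjective,
      (Nat.card_congr e.toEquiv).trans h23.2⟩
  · have e := (Subgroup.subgroupOfEquivOfLe hfc).trans (MonoidHom.ofInjective hf).symm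
    haveI : IsSimpleGroup CfsgLib.CosetEnum.presHe.Grp := Cfsg.Agent.S1695.result.1
    haveI := e.toEquiv.nontrivial
    exact ⟨IsSimpleGroup.isSimpleGroup_of_surjective e.symm.toMonoidHom e.symm.surjective,
      (Nat.card_congr e.toEquiv).trans Cfsg.Agent.S1695.result.2⟩

end Cfsg.Agent.S0473
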