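import Cfsg.Statements.S0478
import Cfsg.Agent.Lib.J3.Iso

set_option autoImplicit false
set_option maxRecDepth 1000000
open Cfsg Matrix CfsgLib.G24 CfsgLib.J3 Cfsg.Spor

namespace Cfsg.Agent.S0478

theorem det_el (x : ℕ) : Matrix.det ((el x : GL F9 K) : Matrix F9 F9 K) = 1 := by
  have h := congrArg Matrix.det (congrArg Units.val (el_sq x))
  rw [Units.val_mul, Matrix.det_mul, Units.val_one, Matrix.det_one] at h
  have key : ∀ a : K, a * a = 1 → a = 1 := by decide
  exact key _ h

theorem det_scal {a : K} (ha : a ≠ 0) : Matrix.det ((scal a : GL F9 K) : Matrix F9 F9 K) = 1 := by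
  rw [coe_scal ha, Matrix.det_smul, Matrix.det_one, mul_one]
  have key : ∀ a : K, a ≠ 0 → a ^ Fintype.card F9 = 1 := by decide
  exact key a ha

theorem det_one {g : GL F9 K} (hg : g ∈ T3) : Matrix.det (g : Matrix F9 F9 K) = 1 := by
  obtain ⟨a, ha, w, -, rfl⟩ := exists_word hg
  rw [Units.val_mul, Matrix.det_mul, det_scal ha, one_mul]
  clear hg
  induction w with
  | nil => simp
  | cons x w ih => rw [List.map_cons, List.prod_cons, Units.val_mul, Matrix.det_mul, det_el, ih, one_mul]

/-- The entrywise square. -/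
def bar (M : Matrix F9 F9 K) : Matrix F9 F9 K := M.map fun a => a * a

/-- Squaring. -/
def sqHom : K →+* K where
  toFun a := a * a
  map_one' := by decide
  map_mul' := by decide
  map_zero' := by decide
  map_add' := by decide

theorem bar_mul (M N : Matrix F9 F9 K) : bar (M * N) = bar M * bar N := by
  show (M * N).map ⇑sqHom = M.map ⇑sqHom * N.map ⇑sqHom
  exact Matrix.map_mul

theorem unitary_el (x : ℕ) :
    ((el x : GL F9 K) : Matrix F9 F9 K)ᵀ * bar ((el x : GL F9 K) : Matrix F9 F9 K) = 1 := by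
  show (matC (mcols x))ᵀ * bar (matC (mcols x)) = 1
  by_cases hx : x < 4
  · have key : ∀ y : Fin 4, ∀ p : F9 × F9,
        ((matC (mcols y.val))ᵀ * bar (matC (mcols y.val))) p.1 p.2 = (1 : Matrix F9 F9 K) p.1 p.2 := by decide +kernel
    exact Matrix.ext fun z w => key ⟨x, hx⟩ (z, w)
  · rw [mcols_default hx, matC_one, Matrix.transpose_one, one_mul]
    exact Matrix.map_one _ (by decide) (by decide)

theorem unitary {g : GL F9 K} (hg : g ∈ T3) : (g : Matrix F9 F9 K)ᵀ * bar (g : Matrix F9 F9 K) = 1 := by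
  obtain ⟨a, ha, w, -, rfl⟩ := exists_word hg
  have hs : ((scal a : GL F9 K) : Matrix F9 F9 K)ᵀ * bar ((scal a : GL F9 K) : Matrix F9 F9 K) = 1 := by
    rw [coe_scal ha]
    have key : ∀ a : K, a ≠ 0 → ∀ p : F9 × F9,
        ((a • (1 : Matrix F9 F9 K))ᵀ * bar (a • (1 : Matrix F9 F9 K))) p.1 p.2 = (1 : Matrix F9 F9 K) p.1 p.2 := by
      decide +kernel
    exact Matrix.ext fun z w => key a ha (z, w)
  have hmul : ∀ A B : GL F9 K, (A : Matrix F9 F9 K)ᵀ * bar (A : Matrix F9 F9 K) = 1 →
      (B : Matrix F9 F9 K)ᵀ * bar (B : Matrix F9 F9 K) = 1 →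
      ((A * B : GL F9 K) : Matrix F9 F9 K)ᵀ * bar ((A * B : GL F9 K) : Matrix F9 F9 K) = 1 := by
    intro A B hA hB
    rw [Units.val_mul, bar_mul, Matrix.transpose_mul, Matrix.mul_assoc, ← Matrix.mul_assoc ((A : Matrix F9 F9 K)ᵀ),
      hA, one_mul, hB]
  refine hmul _ _ hs ?_
  clear hg
  induction w with
  | nil =>
    rw [List.map_nil, List.prod_nil, Units.val_one, Matrix.transpose_one, one_mul]
    exact Matrix.map_one _ (by decide) (by decide)
  | cons x w ih =>
    rw [List.map_cons, List.prod_cons]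
    exact hmul _ _ (unitary_el x) ih

/-- The embedding into the special linear group on nine points. -/
noncomputable def emb : T3 →* Matrix.SpecialLinearGroup (Fin 9) K where
  toFun g := ⟨Matrix.reindexAlgEquiv K K idxEquiv ((g : GL F9 K) : Matrix F9 F9 K), by
    rw [Matrix.det_reindexAlgEquiv]; exact det_one g.2⟩
  map_one' := Subtype.ext (by simp)
  map_mul' g h := Subtype.ext (map_mul (Matrix.reindexAlgEquiv K K idxEquiv) ((g : GL F9 K) : Matrix F9 F9 K) _)

theorem emb_injective : Function.Injective emb := fun g h e =>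
  Subtype.ext (Units.ext ((Matrix.reindexAlgEquiv K K idxEquiv).injective (congrArg Subtype.val e)))

theorem emb_mem (g : T3) : emb g ∈ Cfsg.SU 9 K 2 := by
  intro u v
  set M : Matrix F9 F9 K := ((g : GL F9 K) : Matrix F9 F9 K)
  show ∑ i, (Matrix.reindexAlgEquiv K K idxEquiv M *ᵥ u) i * (Matrix.reindexAlgEquiv K K idxEquiv M *ᵥ v) i ^ 2 =
    ∑ i, u i * v i ^ 2
  have h2 : ∀ (A : Matrix (Fin 9) (Fin 9) K) (x : Fin 9 → K), (fun i => (A *ᵥ x) i ^ 2) =
      (A.map fun a => a * a) *ᵥ fun i => x i ^ 2 := by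
    intro A x
    funext i
    show (∑ j, A i j * x j) ^ 2 = ∑ j, (A i j * A i j) * x j ^ 2
    rw [pow_two]
    refine (map_sum sqHom (fun j => A i j * x j) Finset.univ).trans ?_
    · exact Finset.sum_congr rfl fun j _ => by show (A i j * x j) * (A i j * x j) = _; ring
  calc ∑ i, (Matrix.reindexAlgEquiv K K idxEquiv M *ᵥ u) i * (Matrix.reindexAlgEquiv K K idxEquiv M *ᵥ v) i ^ 2
      = (Matrix.reindexAlgEquiv K K idxEquiv M *ᵥ u) ⬝ᵥ
          ((Matrix.reindexAlgEquiv K K idxEquiv M).map (fun a => a * a) *ᵥ fun i => v i ^ 2) := by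
        rw [← h2]; rfl
    _ = u ⬝ᵥ fun i => v i ^ 2 := by
        rw [Matrix.dotProduct_mulVec, Matrix.vecMul_mulVec]
        have e : (Matrix.reindexAlgEquiv K K idxEquiv M).map (fun a => a * a) =
            Matrix.reindexAlgEquiv K K idxEquiv (bar M) := rfl
        have e2 : (Matrix.reindexAlgEquiv K K idxEquiv M)ᵀ = Matrix.reindexAlgEquiv K K idxEquiv Mᵀ := rfl
        rw [e, e2, ← map_mul, unitary g.2, map_one, Matrix.vecMul_one]
    _ = ∑ i, u i * v i ^ 2 := rfl

/-- A triple cover of Janko's third group inside a unitary group: for a field F with four elements, the special unitary group of dimension 9 (with respect to the form with q = 2) has a subgroup whose centre has order 3 and whose quotient by its centre is simple of order 50232960. -/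
theorem result : ∃ (F : Type) (_ : Field F) (_ : Fintype F), Fintype.card F = 4 ∧ ∃ H : Subgroup (Cfsg.SU 9 F 2), Nat.card (Subgroup.center H) = 3 ∧ Cfsg.IsJ3 (H ⧸ Subgroup.center H) := by
  let f : T3 →* Cfsg.SU 9 K 2 := emb.codRestrict _ emb_mem
  have hf : Function.Injective f := fun g h e => emb_injective (congrArg Subtype.val e)
  let e : T3 ≃* f.range := MonoidHom.ofInjective hf
  have hc : (Subgroup.center T3).map e.toMonoidHom = Subgroup.center f.range := by
    ext h
    rw [Subgroup.mem_center_iff]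
    constructor
    · rintro ⟨g, hg, rfl⟩ x
      obtain ⟨y, rfl⟩ := e.surjective x
      exact (map_mul e _ _).symm.trans ((congrArg e (Subgroup.mem_center_iff.mp hg y)).trans (map_mul e _ _))
    · intro hh
      refine ⟨e.symm h, Subgroup.mem_center_iff.mpr fun y => e.injective ?_, e.apply_symm_apply h⟩
      rw [map_mul, map_mul, MulEquiv.apply_symm_apply]
      exact hh _
  refine ⟨K, inferInstance, inferInstance, CfsgLib.G24.K.card_eq, f.range, ?_, ?_⟩
  · rw [← hc, ← Nat.card_congr ((Subgroup.center T3).equivMapOfInjective e.toMonoidHom e.injective).toEquiv]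
    exact card_center
  · let q : Cfsg.Spor.J3 K K.w ≃* f.range ⧸ Subgroup.center f.range := QuotientGroup.congr _ _ e hc
    have := simple_J3
    exact ⟨q.symm.isSimpleGroup, (Nat.card_congr q.toEquiv).symm.trans card_J3⟩

end Cfsg.Agent.S0478
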