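import Cfsg.Statements.S0493
import Mathlib
import Cfsg.Agent.Lib.SmallOrder

set_option autoImplicit false
set_option linter.unusedVariables false
open Cfsg
open scoped commutatorElement

namespace Cfsg.Agent.S0493

open CfsgLib.SmallOrder

def isP (p : ℕ) : Bool := (2 ≤ p : Bool) && (List.range p).all fun q => (q < 2 : Bool) || p % q != 0

def check (n : ℕ) : Bool :=
  (List.range (n + 1)).all fun p => !(isP p && n % p == 0) || (List.range 8).all fun a =>
    !(n % p ^ a == 0 && n % p ^ (a + 1) != 0) || (p ^ a != n && (List.range (n / p ^ a + 1)).any fun d =>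
      (2 ≤ d : Bool) && (n / p ^ a) % d == 0 && d % p == 1 && d.factorial % n == 0 &&
        !(a == 1 && Nat.gcd (n / p ^ a / d) (p - 1) == 1))

theorem table : ∀ n < 101, check n = true → n = 60 ∨ n ≤ 1 := by decide +kernel

/-- A finite simple group of order at most 100 that is not cyclic has order 60. -/
theorem result {G : Type*} [Group G] [Finite G] [IsSimpleGroup G]
    (hG : ¬ IsCyclic G) (h : Nat.card G ≤ 100) : Nat.card G = 60 := by
  classical
  have hn1 : 1 < Nat.card G := Finite.one_lt_card
  refine ((table (Nat.card G) (by omega) ?_).resolve_right (by omega))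
  simp only [check, List.all_eq_true, List.mem_range, Bool.or_eq_true, Bool.not_eq_true']
  intro p hp
  by_cases hpn : (isP p && Nat.card G % p == 0) = true
  swap
  · exact Or.inl (by simpa using hpn)
  refine Or.inr fun a ha => ?_
  simp only [Bool.and_eq_true, beq_iff_eq] at hpn
  obtain ⟨hisP, hdvd⟩ := hpn
  simp only [isP, Bool.and_eq_true, decide_eq_true_eq, List.all_eq_true, List.mem_range, Bool.or_eq_true, bne_iff_ne] at hisP
  haveI : Fact p.Prime := ⟨Nat.prime_def_lt.mpr ⟨hisP.1, fun q hq hqd => by
    rcases hisP.2 q hq with h | h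
    · rcases Nat.lt_or_ge q 1 with h0 | h0
      · obtain rfl : q = 0 := by omega
        rw [zero_dvd_iff] at hqd; omega
      · omega
    · exact absurd (Nat.mod_eq_zero_of_dvd (Nat.dvd_trans hqd dvd_rfl)) h⟩⟩
  by_cases hka : (Nat.card G % p ^ a == 0 && Nat.card G % p ^ (a + 1) != 0) = true
  swap
  · exact Or.inl (by simpa using hka)
  refine Or.inr ?_
  simp only [Bool.and_eq_true, beq_iff_eq, bne_iff_ne] at hka
  obtain P : Sylow p G := default
  have hk : Nat.card P = p ^ a := card_sylow_eq P (Nat.dvd_of_mod_eq_zero hka.1) (fun h => hka.2 (Nat.mod_eq_zero_of_dvd h))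
  have hpa : p ^ a ≠ Nat.card G := by
    intro e
    have hpg : IsPGroup p G := IsPGroup.of_card e.symm
    haveI := hpg.isNilpotent
    haveI : Nontrivial G := Finite.one_lt_card_iff_nontrivial.mp hn1
    haveI : Nontrivial (Subgroup.center G) := hpg.center_nontrivial
    have hc : Subgroup.center G = ⊤ := ((inferInstance : (Subgroup.center G).Normal).eq_bot_or_eq_top).resolve_left
      ((Subgroup.nontrivial_iff_ne_bot _).mp inferInstance)
    letI : CommGroup G := { (inferInstance : Group G) with
      mul_comm := fun x y => (Subgroup.mem_center_iff.mp (hc ▸ Subgroup.mem_top x) y).symm }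
    exact hG inferInstance
  have ha0 : a ≠ 0 := fun h => hka.2 (by rw [h, zero_add, pow_one]; exact hdvd)
  have hne1 : Nat.card (Sylow p G) ≠ 1 := card_sylow_ne_one P
    (by rw [hk]; exact (Nat.one_lt_pow ha0 (Fact.out : p.Prime).one_lt).ne') (by rw [hk]; exact hpa.symm)
  have hmem := card_sylow_mem_filter P hk (Nat.mul_div_cancel' (Nat.dvd_of_mod_eq_zero hka.1)).symm
    (pow_ne_zero a (Fact.out : p.Prime).ne_zero)
  rw [Finset.mem_filter, Nat.mem_divisors] at hmem
  simp only [Bool.and_eq_true, bne_iff_ne, List.any_eq_true, List.mem_range, decide_eq_true_eq, beq_iff_eq, Bool.not_eq_true']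
  refine ⟨hpa, Nat.card (Sylow p G), Nat.lt_succ_of_le (Nat.le_of_dvd (Nat.pos_of_ne_zero hmem.1.2) hmem.1.1),
    ⟨⟨⟨⟨?_, Nat.mod_eq_zero_of_dvd hmem.1.1⟩, hmem.2⟩, Nat.mod_eq_zero_of_dvd ?_⟩, ?_⟩⟩
  · have := Nat.card_pos (α := Sylow p G); omega
  · rw [P.card_eq_index_normalizer]
    refine card_dvd_factorial_index fun e => hne1 ?_
    rw [P.card_eq_index_normalizer, e, Subgroup.index_top]
  · by_contra h
    rw [Bool.not_eq_false, Bool.and_eq_true, beq_iff_eq, beq_iff_eq] at h
    obtain ⟨rfl, hcop⟩ := h
    rw [pow_one] at hk hpa hcop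
    have hN : Nat.card ↥(Subgroup.normalizer ((P : Subgroup G) : Set G)) * Nat.card (Sylow p G) = Nat.card G := card_normalizer_mul_card_sylow P
    have h2 : ((P : Subgroup G).subgroupOf (Subgroup.normalizer ((P : Subgroup G) : Set G))).index = Nat.card G / p / Nat.card (Sylow p G) := by
      have h3 := Subgroup.card_mul_index ((P : Subgroup G).subgroupOf (Subgroup.normalizer ((P : Subgroup G) : Set G)))
      rw [Nat.card_congr (Subgroup.subgroupOfEquivOfLe Subgroup.le_normalizer).toEquiv,
        show Nat.card ↥(P : Subgroup G) = p from hk] at h3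
      rw [← hN, ← h3, mul_assoc, Nat.mul_div_cancel_left _ (Fact.out : p.Prime).pos, Nat.mul_div_cancel _ Nat.card_pos]
    refine hpa (hk.symm.trans (card_eq_sylow_of_normalizer_le_centralizer P
      (normalizer_le_centralizer_of_coprime (P : Subgroup G) hk (h2 ▸ hcop)) fun e => ?_).symm)
    have hk' : Nat.card ↥(P : Subgroup G) = p := hk
    rw [e, Subgroup.card_bot] at hk'
    exact (Fact.out : p.Prime).ne_one hk'.symm

end Cfsg.Agent.S0493
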