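import Cfsg.Statements.S0520
import Mathlib.GroupTheory.SpecificGroups.KleinFour
import Mathlib.GroupTheory.Nilpotent
-- import your own Cfsg.Agent.* helpers here

set_option autoImplicit false
open Cfsg

namespace Cfsg.Agent.S0520

private theorem kfComm {T : Type*} [Group T] {V : Subgroup T} (hV : IsKleinFour V) (a b : V) : a * b = b * a := by
  haveI := hV
  calc a * b = (a * b)⁻¹ := (inv_eq_of_mul_eq_one_right (IsKleinFour.mul_self _)).symm
    _ = b * a := by rw [mul_inv_rev, inv_eq_of_mul_eq_one_right (IsKleinFour.mul_self a), inv_eq_of_mul_eq_one_right (IsKleinFour.mul_self b)]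

private theorem klein_of {T : Type*} [Group T] (h4 : Nat.card T = 4) (h : ∀ g : T, g ^ 2 = 1) : IsKleinFour T := by
  haveI : Finite T := Nat.finite_of_card_ne_zero (by omega)
  haveI : Nontrivial T := Finite.one_lt_card_iff_nontrivial.1 (by omega)
  refine ⟨h4, ?_⟩
  rcases (Nat.dvd_prime Nat.prime_two).1 (Monoid.exponent_dvd_iff_forall_pow_eq_one.2 h) with h1 | h2
  · exact absurd (Monoid.exp_eq_one_iff.1 h1) (not_subsingleton T)
  · exact h2

private theorem klein_in {T : Type*} [Group T] [Finite T] (h : ¬ Cfsg.PRankLE 2 1 T) :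
    ∃ V : Subgroup T, IsKleinFour V := by
  simp only [Cfsg.PRankLE, not_forall] at h
  obtain ⟨A, _, hA2, hc⟩ := h
  have hp : IsPGroup 2 A := fun a => ⟨1, Subtype.ext (by rw [pow_one]; exact hA2 a a.2)⟩
  haveI : Fact (Nat.Prime 2) := ⟨Nat.prime_two⟩
  obtain ⟨n, hn⟩ := hp.exists_card_eq
  have hn2 : 2 ≤ n := by
    by_contra h
    exact hc (by rw [hn]; exact Nat.pow_le_pow_right (by norm_num) (by omega))
  obtain ⟨B, hB⟩ := Sylow.exists_subgroup_card_pow_prime 2 (n := 2) (hn ▸ pow_dvd_pow 2 hn2)
  refine ⟨B.map A.subtype, klein_of (by rw [Subgroup.card_subtype, hB]; norm_num) ?_⟩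
  rintro ⟨_, b, hb, rfl⟩
  exact Subtype.ext (hA2 b b.2)

private theorem klein_rank {T : Type*} [Group T] {V : Subgroup T} (hV : IsKleinFour V) {Q : Subgroup T}
    (hVQ : V ≤ Q) : ¬ Cfsg.PRankLE 2 1 Q := by
  intro h
  have := h (V.subgroupOf Q) ?_ ?_
  · rw [Nat.card_congr (Subgroup.subgroupOfEquivOfLe hVQ).toEquiv, hV.card_four] at this
    norm_num at this
  · refine ⟨⟨fun a b => Subtype.ext (Subtype.ext ?_)⟩⟩
    have := congrArg Subtype.val (kfComm hV ⟨_, a.2⟩ ⟨_, b.2⟩)
    exact this
  · intro a ha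
    haveI := hV
    refine Subtype.ext ?_
    have := congrArg Subtype.val (IsKleinFour.mul_self (⟨_, ha⟩ : V))
    rw [SubgroupClass.coe_pow, pow_two]
    exact this


/-- Let G be a finite group of 2-rank at least 2 and S a Sylow 2-subgroup whose commuting graph of Klein four-subgroups is
connected. Then the commuting graph of Klein four-subgroups of G is disconnected if and only if the 2-generated core — the
subgroup generated by the normalizers N_G(Q) of the subgroups Q of S that contain a Klein four-group — is a proper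
subgroup of G. -/
theorem result {G : Type*} [Group G] [Finite G] (h2 : ¬ Cfsg.PRankLE 2 1 G)
    (S : Sylow 2 G) (hS : Cfsg.IsFourConnected (S : Subgroup G)) :
    ¬ Cfsg.IsFourConnected G ↔
      (⨆ Q : {Q : Subgroup G // Q ≤ (S : Subgroup G) ∧ ¬ Cfsg.PRankLE 2 1 Q},
          Subgroup.normalizer ((Q : Subgroup G) : Set G)) ≠ ⊤ := by
  classical
  haveI : Fact (Nat.Prime 2) := ⟨Nat.prime_two⟩
  set X := (⨆ Q : {Q : Subgroup G // Q ≤ (S : Subgroup G) ∧ ¬ Cfsg.PRankLE 2 1 Q}, Subgroup.normalizer ((Q : Subgroup G) : Set G)) with hX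
  have hNX : ∀ Q : Subgroup G, Q ≤ (S : Subgroup G) → ¬ Cfsg.PRankLE 2 1 Q →
      Subgroup.normalizer (Q : Set G) ≤ X := fun Q hQ hr =>
    le_iSup (fun Q : {Q : Subgroup G // Q ≤ (S : Subgroup G) ∧ ¬ Cfsg.PRankLE 2 1 Q} =>
      Subgroup.normalizer ((Q : Subgroup G) : Set G)) ⟨Q, hQ, hr⟩
  -- the conjugation map
  let cm : G → Subgroup G → Subgroup G := fun g A => A.map (MulAut.conj g).toMonoidHom
  have hcm : ∀ g (A : Subgroup G) x, x ∈ cm g A ↔ g⁻¹ * x * g ∈ A := by
    intro g A x
    constructor
    · rintro ⟨a, ha, rfl⟩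
      show g⁻¹ * (g * a * g⁻¹) * g ∈ A
      simpa [mul_assoc] using ha
    · intro h
      exact ⟨g⁻¹ * x * g, h, show g * (g⁻¹ * x * g) * g⁻¹ = x by group⟩
  have hcmm : ∀ g h A, cm g (cm h A) = cm (g * h) A := by
    intro g h A
    ext x
    simp only [hcm, mul_inv_rev, mul_assoc]
  have hcm1 : ∀ A, cm 1 A = A := by intro A; ext x; simp [hcm]
  have hK : ∀ g {A : Subgroup G}, IsKleinFour A → IsKleinFour ↥(cm g A) := by
    intro g A hA
    haveI := hA
    refine klein_of ?_ ?_
    · rw [Subgroup.card_map_of_injective (MulAut.conj g).injective]; exact hA.card_four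
    · rintro ⟨_, a, ha, rfl⟩
      refine Subtype.ext ?_
      rw [SubgroupClass.coe_pow, ← map_pow]
      have := congrArg Subtype.val (IsKleinFour.mul_self (⟨a, ha⟩ : A))
      simp only [pow_two]
      rw [show a * a = 1 from this, map_one, OneMemClass.coe_one]
  let R : Subgroup G → Subgroup G → Prop := fun A B =>
    IsKleinFour A ∧ IsKleinFour B ∧ ∀ a ∈ A, ∀ b ∈ B, a * b = b * a
  have hRs : ∀ {A B}, Relation.ReflTransGen R A B → Relation.ReflTransGen R B A := by
    intro A B h
    induction h with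
    | refl => exact Relation.ReflTransGen.refl
    | tail _ hs ih => exact Relation.ReflTransGen.head ⟨hs.2.1, hs.1, fun a ha b hb => (hs.2.2 b hb a ha).symm⟩ ih
  have hRc : ∀ g {A B}, Relation.ReflTransGen R A B → Relation.ReflTransGen R (cm g A) (cm g B) := by
    intro g A B h
    refine Relation.ReflTransGen.lift (p := R) (cm g) ?_ _ _ h
    rintro A B ⟨hA, hB, hc⟩
    refine ⟨hK g hA, hK g hB, ?_⟩
    rintro _ ⟨a, ha, rfl⟩ _ ⟨b, hb, rfl⟩
    rw [← map_mul, hc a ha b hb, map_mul]
  -- four-groups of S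
  have hSS : ∀ A B : Subgroup G, A ≤ (S : Subgroup G) → B ≤ (S : Subgroup G) → IsKleinFour A → IsKleinFour B →
      Relation.ReflTransGen R A B := by
    intro A B hAS hBS hA hB
    have e : ∀ C : Subgroup G, C ≤ (S : Subgroup G) → IsKleinFour C → IsKleinFour ↥(C.subgroupOf (S : Subgroup G)) := by
      intro C hCS hC
      haveI := hC
      refine klein_of (by rw [Nat.card_congr (Subgroup.subgroupOfEquivOfLe hCS).toEquiv]; exact hC.card_four) ?_
      rintro ⟨c, hc⟩
      refine Subtype.ext (Subtype.ext ?_)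
      have := congrArg Subtype.val (IsKleinFour.mul_self (⟨_, hc⟩ : C))
      simp only [SubgroupClass.coe_pow, pow_two]
      exact this
    have h := Relation.ReflTransGen.lift (fun C : Subgroup (S : Subgroup G) => C.map (S : Subgroup G).subtype)
      (p := R) ?_ _ _ (hS _ _ (e A hAS hA) (e B hBS hB))
    · simpa only [Function.onFun, Subgroup.map_subgroupOf_eq_of_le hAS, Subgroup.map_subgroupOf_eq_of_le hBS] using h
    rintro C D ⟨hC, hD, hc⟩
    have e2 : ∀ E : Subgroup (S : Subgroup G), IsKleinFour E → IsKleinFour ↥(E.map (S : Subgroup G).subtype) := by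
      intro E hE
      haveI := hE
      refine klein_of (by rw [Subgroup.card_subtype]; exact hE.card_four) ?_
      rintro ⟨_, c, hc, rfl⟩
      refine Subtype.ext ?_
      have := congrArg (fun x : E => ((x : (S : Subgroup G)) : G)) (IsKleinFour.mul_self (⟨c, hc⟩ : E))
      simp only [SubgroupClass.coe_pow, pow_two]
      simpa using this
    refine ⟨e2 C hC, e2 D hD, ?_⟩
    rintro _ ⟨a, ha, rfl⟩ _ ⟨b, hb, rfl⟩
    rw [← map_mul, hc a ha b hb, map_mul]
  have hSrank : ∃ V : Subgroup G, V ≤ (S : Subgroup G) ∧ IsKleinFour V := by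
    obtain ⟨V, hV⟩ := klein_in h2
    haveI := hV
    have hVp : IsPGroup 2 V := IsPGroup.of_card (n := 2) hV.card_four
    obtain ⟨T, hT⟩ := hVp.exists_le_sylow
    obtain ⟨g, rfl⟩ := MulAction.exists_smul_eq G S T
    refine ⟨cm g⁻¹ V, ?_, hK _ hV⟩
    intro x hx
    have := hT ((hcm _ _ _).1 hx)
    obtain ⟨s, hs, e⟩ := this
    have e' : g * s * g⁻¹ = g⁻¹⁻¹ * x * g⁻¹ := e
    rw [inv_inv, mul_left_inj, mul_right_inj] at e'
    exact e' ▸ hs
  obtain ⟨V₀, hV₀S, hV₀⟩ := hSrank
  have hVp : ∀ {W : Subgroup G}, IsKleinFour W → IsPGroup 2 W := fun hW => IsPGroup.of_card (n := 2) hW.card_four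
  constructor
  · intro hdis htop
    apply hdis
    let K : Subgroup G :=
      { carrier := {g | Relation.ReflTransGen R V₀ (cm g V₀)}
        one_mem' := by show Relation.ReflTransGen R V₀ (cm 1 V₀); rw [hcm1]
        mul_mem' := by
          intro a b (ha : Relation.ReflTransGen R V₀ (cm a V₀)) (hb : Relation.ReflTransGen R V₀ (cm b V₀))
          show Relation.ReflTransGen R V₀ (cm (a * b) V₀)
          rw [← hcmm]
          exact ha.trans (hRc a hb)
        inv_mem' := by
          intro a (ha : Relation.ReflTransGen R V₀ (cm a V₀))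
          show Relation.ReflTransGen R V₀ (cm a⁻¹ V₀)
          have := hRc a⁻¹ ha
          rw [hcmm, inv_mul_cancel, hcm1] at this
          exact hRs this }
    have hK' : X ≤ K := by
      rw [hX]
      refine iSup_le ?_
      rintro ⟨Q, hQS, hQr⟩ n hn
      obtain ⟨V', hV'⟩ := klein_in hQr
      haveI := hV'
      have hV : IsKleinFour ↥(V'.map Q.subtype) := by
        refine klein_of (by rw [Subgroup.card_subtype]; exact hV'.card_four) ?_
        rintro ⟨_, c, hc, rfl⟩
        refine Subtype.ext ?_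
        have := congrArg (fun x : V' => ((x : Q) : G)) (IsKleinFour.mul_self (⟨c, hc⟩ : V'))
        simp only [SubgroupClass.coe_pow, pow_two]
        simpa using this
      have hVS : V'.map Q.subtype ≤ (S : Subgroup G) := (Subgroup.map_subtype_le V').trans hQS
      have hnV : cm n (V'.map Q.subtype) ≤ (S : Subgroup G) := by
        rintro _ ⟨_, ⟨c, -, rfl⟩, rfl⟩
        exact hQS ((Subgroup.mem_normalizer_iff.1 hn (c : G)).1 c.2)
      exact (hSS _ _ hV₀S hnV hV₀ (hK n hV)).trans (hRc n (hSS _ _ hVS hV₀S hV hV₀))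
    rw [htop] at hK'
    intro U W hU hW
    have key : ∀ U : Subgroup G, IsKleinFour U → Relation.ReflTransGen R V₀ U := by
      intro U hU
      obtain ⟨T, hT⟩ := (hVp hU).exists_le_sylow
      obtain ⟨g, rfl⟩ := MulAction.exists_smul_eq G S T
      have hUS : cm g⁻¹ U ≤ (S : Subgroup G) := by
        intro x hx
        obtain ⟨s, hs, e⟩ := hT ((hcm _ _ _).1 hx)
        have e' : g * s * g⁻¹ = g⁻¹⁻¹ * x * g⁻¹ := e
        rw [inv_inv, mul_left_inj, mul_right_inj] at e'
        exact e' ▸ hs
      have h1 := hRc g (hSS _ _ hV₀S hUS hV₀ (hK _ hU))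
      rw [hcmm, mul_inv_cancel, hcm1] at h1
      exact Relation.ReflTransGen.trans (hK' (Subgroup.mem_top g)) h1
    exact (hRs (key U hU)).trans (key W hW)
  · intro hne hconn
    apply hne
    have hSX : (S : Subgroup G) ≤ X :=
      Subgroup.le_normalizer.trans (hNX _ le_rfl (klein_rank hV₀ hV₀S))
    have hconjS : ∀ U : Subgroup G, IsPGroup 2 U → U ≤ X → ∃ y ∈ X, cm y U ≤ (S : Subgroup G) := by
      intro U hU hUX
      obtain ⟨T, hT⟩ := (hU.comap_of_injective X.subtype Subtype.val_injective).exists_le_sylow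
      obtain ⟨y, rfl⟩ := MulAction.exists_smul_eq X (S.subtype hSX) T
      refine ⟨(y : G)⁻¹, X.inv_mem y.2, fun x hx => ?_⟩
      have hxU := (hcm _ _ _).1 hx
      rw [inv_inv] at hxU
      obtain ⟨s, hs, e⟩ := hT (x := ⟨_, hUX hxU⟩) hxU
      have e' : (y : G) * (s : G) * (y : G)⁻¹ = y * x * (y : G)⁻¹ := congrArg Subtype.val e
      rw [mul_left_inj, mul_right_inj] at e'
      exact e' ▸ hs
    have hctrl : ∀ (n : ℕ) (P : Subgroup G), Nat.card ↥(S : Subgroup G) - Nat.card P = n → P ≤ (S : Subgroup G) →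
        ¬ Cfsg.PRankLE 2 1 P → ∀ g, cm g P ≤ (S : Subgroup G) → g ∈ X := by
      intro n
      induction n using Nat.strong_induction_on with
      | _ n ih =>
      intro P hn hPS hPr g hg
      by_cases hPe : P = (S : Subgroup G)
      · subst hPe
        refine hNX _ le_rfl hPr (Subgroup.mem_normalizer_iff.2 fun x => ?_)
        have e : cm g (S : Subgroup G) = (S : Subgroup G) :=
          Subgroup.eq_of_le_of_card_ge hg (by rw [Subgroup.card_map_of_injective (MulAut.conj g).injective])
        constructor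
        · intro hx; exact hg ⟨x, hx, rfl⟩
        · intro hx
          rw [← e, hcm] at hx
          simpa [mul_assoc] using hx
      have hlt : P < (S : Subgroup G) ⊓ Subgroup.normalizer (P : Set G) := by
        refine lt_of_le_of_ne (le_inf hPS Subgroup.le_normalizer) (fun h => hPe ?_)
        haveI : Group.IsNilpotent (S : Subgroup G) := S.2.isNilpotent
        by_contra hne
        have hlt' : P.subgroupOf (S : Subgroup G) < ⊤ :=
          lt_top_iff_ne_top.2 (fun h => hne (le_antisymm hPS (Subgroup.subgroupOf_eq_top.1 h)))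
        obtain ⟨s, hs, hs'⟩ := SetLike.exists_of_lt (Group.normalizerCondition_of_isNilpotent _ hlt')
        apply hs'
        show (s : G) ∈ P
        rw [h]
        refine ⟨s.2, Subgroup.mem_normalizer_iff.2 fun x => ?_⟩
        constructor
        · intro hx
          exact (Subgroup.mem_normalizer_iff.1 hs ⟨x, hPS hx⟩).1 hx
        · intro hx
          have hxS : x ∈ (S : Subgroup G) := by
            have := (S : Subgroup G).mul_mem ((S : Subgroup G).mul_mem ((S : Subgroup G).inv_mem s.2) (hPS hx)) s.2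
            simpa [mul_assoc] using this
          exact (Subgroup.mem_normalizer_iff.1 hs ⟨x, hxS⟩).2 hx
      set P₁ := (S : Subgroup G) ⊓ Subgroup.normalizer (P : Set G) with hP₁
      have hgP₁ : cm g P₁ ≤ X := by
        refine le_trans ?_ (hNX (cm g P) hg ?_)
        · rintro _ ⟨x, hx, rfl⟩
          refine Subgroup.mem_normalizer_iff.2 fun y => ?_
          rw [hcm, hcm]
          have := Subgroup.mem_normalizer_iff.1 hx.2 (g⁻¹ * y * g)
          simp only [MulEquiv.coe_toMonoidHom, MulAut.conj_apply, mul_inv_rev, inv_inv]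
          simpa [mul_assoc] using this
        · intro h
          obtain ⟨V', hV'⟩ := klein_in hPr
          haveI := hV'
          have hV : IsKleinFour ↥(V'.map P.subtype) := by
            refine klein_of (by rw [Subgroup.card_subtype]; exact hV'.card_four) ?_
            rintro ⟨_, c, hc, rfl⟩
            refine Subtype.ext ?_
            have := congrArg (fun x : V' => ((x : P) : G)) (IsKleinFour.mul_self (⟨c, hc⟩ : V'))
            simp only [SubgroupClass.coe_pow, pow_two]
            simpa using this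
          exact klein_rank (hK g hV) (Subgroup.map_mono (Subgroup.map_subtype_le V')) h
      obtain ⟨y, hy, hyS⟩ := hconjS (cm g P₁) ((S.2.to_le inf_le_left).map _) hgP₁
      rw [hcmm] at hyS
      have hcard : Nat.card P < Nat.card P₁ := by
        rcases lt_or_eq_of_le (Subgroup.card_le_of_le hlt.le) with h | h
        · exact h
        · exact absurd (Subgroup.eq_of_le_of_card_ge hlt.le h.ge) hlt.ne
      have hcS : Nat.card P₁ ≤ Nat.card ↥(S : Subgroup G) := Subgroup.card_le_of_le inf_le_left
      have hr₁ : ¬ Cfsg.PRankLE 2 1 P₁ := by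
        obtain ⟨V', hV'⟩ := klein_in hPr
        haveI := hV'
        have hV : IsKleinFour ↥(V'.map P.subtype) := by
          refine klein_of (by rw [Subgroup.card_subtype]; exact hV'.card_four) ?_
          rintro ⟨_, c, hc, rfl⟩
          refine Subtype.ext ?_
          have := congrArg (fun x : V' => ((x : P) : G)) (IsKleinFour.mul_self (⟨c, hc⟩ : V'))
          simp only [SubgroupClass.coe_pow, pow_two]
          simpa using this
        exact klein_rank hV ((Subgroup.map_subtype_le V').trans hlt.le)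
      have := ih _ (by omega) P₁ rfl inf_le_left hr₁ (y * g) hyS
      simpa using X.mul_mem (X.inv_mem hy) this
    rw [eq_top_iff]
    intro g _
    have hgood : ∀ W, Relation.ReflTransGen R V₀ W → ∃ x ∈ X, cm x W ≤ (S : Subgroup G) := by
      intro W h
      induction h with
      | refl => exact ⟨1, X.one_mem, (hcm1 V₀).symm ▸ hV₀S⟩
      | @tail W W' _ hr ih =>
        obtain ⟨x, hx, hxS⟩ := ih
        have hn : cm x W' ≤ X := by
          refine le_trans ?_ (hNX (cm x W) hxS (klein_rank (hK x hr.1) le_rfl))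
          refine le_trans ?_ (Subgroup.centralizer_le_normalizer _)
          rintro _ ⟨b, hb, rfl⟩
          refine Subgroup.mem_centralizer_iff.2 ?_
          rintro _ ⟨a, ha, rfl⟩
          rw [← map_mul, hr.2.2 a ha b hb, map_mul]
        obtain ⟨y, hy, hyS⟩ := hconjS _ ((hVp hr.2.1).map _) hn
        rw [hcmm] at hyS
        exact ⟨y * x, X.mul_mem hy hx, hyS⟩
    obtain ⟨x, hx, hxS⟩ := hgood _ (hconn V₀ (cm g V₀) hV₀ (hK g hV₀))
    rw [hcmm] at hxS
    have := hctrl _ V₀ rfl hV₀S (klein_rank hV₀ le_rfl) _ hxS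
    simpa using X.mul_mem (X.inv_mem hx) this

end Cfsg.Agent.S0520
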