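import Cfsg.Statements.S0626
import Cfsg.Agent.Lib.Quadratic.Consequences

set_option autoImplicit false
open Cfsg
open scoped commutatorElement

namespace Cfsg.Agent.S0626

/-- For odd p, groups whose Sylow 2-subgroups are abelian are p-stable in the action sense. -/
theorem result {G : Type*} [Group G] [Finite G] {p : ℕ} [Fact p.Prime] (hp : p ≠ 2) (hab : ∀ T : Sylow 2 G, IsMulCommutative T) : Cfsg.IsActionPStable p G := by
  haveI : Fact (Nat.Prime 2) := ⟨Nat.prime_two⟩
  refine CfsgLib.Quadratic.isActionPStable_of_no_sl2 hp fun K f hf => ?_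
  let T : Sylow 2 (⊤ : Subgroup G) := default
  refine CfsgLib.Quadratic.no_sl2_of_isMulCommutative hp T ?_ le_top f hf
  obtain ⟨T', hT'⟩ := (T.2.map (⊤ : Subgroup G).subtype).exists_le_sylow
  haveI := hab T'
  refine ⟨⟨fun a b => ?_⟩⟩
  have hc := congrArg Subtype.val (mul_comm' (⟨((a : (⊤ : Subgroup G)) : G), hT' ⟨a.1, a.2, rfl⟩⟩ : (T' : Subgroup G))
    ⟨((b : (⊤ : Subgroup G)) : G), hT' ⟨b.1, b.2, rfl⟩⟩)
  apply Subtype.ext
  apply Subtype.ext
  simpa using hc

end Cfsg.Agent.S0626
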