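import Cfsg.Statements.S0521
import Mathlib
import Cfsg.Agent.S0626
import Cfsg.Agent.Lib.PSolvable
import Cfsg.Agent.Lib.Elementary
import Cfsg.Agent.Lib.CoprimeGen

set_option autoImplicit false
set_option linter.unusedVariables false
open Cfsg
open scoped commutatorElement

namespace Cfsg.Agent.S0521

open CfsgLib

variable {p : ℕ} [Fact p.Prime]

theorem sylow_le_pCore {X : Type*} [Group X] [Finite X] [Group.IsSolvable X] (hX : Odd (Nat.card X))
    (hp : p ≠ 2) (hO : Cfsg.pPrimeCore p X = ⊥) (S : Sylow p X) (hS : IsCyclic (commutator (S : Subgroup X))) :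
    (S : Subgroup X) ≤ Cfsg.pCore p X := by
  have hpp := (Fact.out : p.Prime)
  haveI : Fact (Nat.Prime 2) := ⟨Nat.prime_two⟩
  have hst : Cfsg.IsActionPStable p X := Cfsg.Agent.S0626.result hp fun T => by
    have h1 : Nat.card ↥(T : Subgroup X) = 1 := by
      obtain ⟨k, hk⟩ := IsPGroup.iff_card.mp T.2
      rcases k with _ | k
      · exact hk
      · exact absurd ((dvd_pow_self 2 k.succ_ne_zero).trans (hk ▸ (T : Subgroup X).card_subgroup_dvd_card))
          (fun hd => Nat.not_even_iff_odd.mpr hX (even_iff_two_dvd.mpr hd))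
    haveI := (Nat.card_eq_one_iff_unique.mp h1).1
    exact ⟨⟨fun a b => Subsingleton.elim _ _⟩⟩
  set R := Cfsg.pCore p X with hR
  haveI hRn : R.Normal := pCore_normal p _
  set N := (frattini ↥R).map R.subtype with hN
  have hRS : R ≤ (S : Subgroup X) := pCore_le_sylow S
  have hRp : IsPGroup p ↥R := isPGroup_pCore p
  have hquad : ∀ a ∈ (S : Subgroup X), ⁅⁅R, Subgroup.zpowers a⁆, Subgroup.zpowers a⁆ ≤ N := by
    intro a ha
    set T := ↥(S : Subgroup X)
    set D : Subgroup T := commutator T with hD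
    set C1 : Subgroup T := R.subgroupOf (S : Subgroup X) ⊓ D with hC1
    have hD' : D.map (S : Subgroup X).subtype = ⁅(S : Subgroup X), (S : Subgroup X)⁆ := Subgroup.map_subtype_commutator _
    haveI hC1c : IsCyclic ↥C1 := isCyclic_of_injective (Subgroup.inclusion (inf_le_right : C1 ≤ D)) (Subgroup.inclusion_injective _)
    obtain ⟨⟨g, hg⟩, hgen⟩ := hC1c.exists_generator
    have hpow : ∀ c ∈ C1, ∃ m : ℤ, g ^ m = c := by
      intro c hc
      obtain ⟨m, hm⟩ := Subgroup.mem_zpowers_iff.mp (hgen ⟨c, hc⟩)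
      exact ⟨m, by simpa using congrArg Subtype.val hm⟩
    haveI : C1.Normal := by
      haveI : (R.subgroupOf (S : Subgroup X)).Normal := Subgroup.normal_subgroupOf
      infer_instance
    have hpair : ∀ c ∈ C1, ∀ b : T, ((⁅c, b⁆ : T) : X) ∈ N := by
      intro c hc b
      obtain ⟨m, rfl⟩ := hpow c hc
      have hconj : b * g⁻¹ * b⁻¹ ∈ C1 := Subgroup.Normal.conj_mem inferInstance _ (C1.inv_mem hg) b
      obtain ⟨i, hi⟩ := hpow _ hconj
      have hbm : b * (g ^ m)⁻¹ * b⁻¹ = (g ^ i) ^ m := by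
        rw [← inv_zpow, ← MulAut.conj_apply, map_zpow, MulAut.conj_apply, hi]
      have e : ⁅g ^ m, b⁆ = (g ^ (1 + i)) ^ m := by
        rw [commutatorElement_def, show g ^ m * b * (g ^ m)⁻¹ * b⁻¹ = g ^ m * (b * (g ^ m)⁻¹ * b⁻¹) by group, hbm,
          ← zpow_mul, ← zpow_mul, ← zpow_add]
        ring_nf
      by_cases hd : (p : ℤ) ∣ 1 + i
      · obtain ⟨j, hj⟩ := hd
        have hy : ((g ^ (j * m) : T) : X) ∈ R := Subgroup.mem_subgroupOf.mp (C1.zpow_mem hg (j * m)).1
        refine ⟨(⟨_, hy⟩ : ↥R) ^ p, pow_mem_frattini_pGroup hRp _, ?_⟩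
        show ((g ^ (j * m) : T) : X) ^ p = _
        rw [e, hj, ← zpow_mul, show (p : ℤ) * j * m = j * m * (p : ℤ) by ring, zpow_mul g (j * m) (p : ℤ), zpow_natCast]
        rfl
      · have hgC : g ∈ ⁅C1, (⊤ : Subgroup T)⁆ := by
          have h1 : g ^ (1 + i) ∈ ⁅C1, (⊤ : Subgroup T)⁆ := by
            have e1 : ⁅g, b⁆ = g ^ (1 + i) := by
              rw [commutatorElement_def, show g * b * g⁻¹ * b⁻¹ = g * (b * g⁻¹ * b⁻¹) by group, ← hi, zpow_add, zpow_one]
            rw [← e1]
            exact Subgroup.commutator_mem_commutator hg (Subgroup.mem_top b)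
          obtain ⟨k, hk⟩ := IsPGroup.iff_orderOf.mp S.2 g
          have hco : IsCoprime (1 + i) (orderOf g : ℤ) := by
            rw [hk, Nat.cast_pow]
            exact ((Nat.prime_iff_prime_int.mp hpp).coprime_iff_not_dvd.mpr hd).symm.pow_right
          obtain ⟨u, v, huv⟩ := hco
          have e2 : g = (g ^ (1 + i)) ^ u := by
            have : g ^ (u * (1 + i) + v * (orderOf g : ℤ)) = g := by rw [huv]; simp
            conv_lhs => rw [← this]
            rw [zpow_add, mul_comm v, zpow_mul g (orderOf g : ℤ) v, zpow_natCast, pow_orderOf_eq_one, one_zpow, mul_one,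
              mul_comm u, zpow_mul]
          rw [e2]
          exact Subgroup.zpow_mem _ h1 u
        have hC1le : C1 ≤ ⁅C1, (⊤ : Subgroup T)⁆ := by
          intro x hx
          obtain ⟨m', rfl⟩ := hpow x hx
          exact Subgroup.zpow_mem _ hgC m'
        haveI : Group.IsNilpotent T := S.2.isNilpotent
        obtain ⟨n, hn⟩ := nilpotent_iff_lowerCentralSeries.mp (inferInstance : Group.IsNilpotent T)
        have hl : ∀ n, C1 ≤ (⊤ : Subgroup T).lowerCentralSeries n := by
          intro n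
          induction n with
          | zero => simp
          | succ n ih => exact hC1le.trans ((Subgroup.commutator_mono ih le_rfl).trans (by rfl))
        have hg1 : g = 1 := Subgroup.mem_bot.mp (hn ▸ hl n hg)
        rw [e, hg1]
        simpa using N.one_mem
    have h1 : ∀ x ∈ ⁅R, Subgroup.zpowers a⁆, ∃ h : x ∈ (S : Subgroup X), (⟨x, h⟩ : T) ∈ C1 := by
      intro x hx
      have hxS : x ∈ ⁅(S : Subgroup X), (S : Subgroup X)⁆ :=
        Subgroup.commutator_mono hRS (Subgroup.zpowers_le.mpr ha) hx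
      obtain ⟨y, hy, rfl⟩ := hD'.ge hxS
      exact ⟨y.2, ⟨Subgroup.mem_subgroupOf.mpr (Subgroup.commutator_le_left R _ hx), hy⟩⟩
    refine Subgroup.commutator_le.mpr fun x hx b hb => ?_
    obtain ⟨hxS, hxC⟩ := h1 x hx
    have := hpair _ hxC ⟨b, Subgroup.zpowers_le.mpr ha hb⟩
    exact this
  have hC : IsPGroup p ↥(Cfsg.sectionKernel R N) := by
    intro ⟨c, hc⟩
    obtain ⟨k, m, hm, he⟩ := Nat.exists_eq_pow_mul_and_not_dvd (orderOf_pos c).ne' p hpp.ne_one
    refine ⟨k, Subtype.ext ?_⟩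
    show c ^ p ^ k = 1
    set d := c ^ p ^ k with hd
    have hdm : orderOf d = m := by
      rw [hd, orderOf_pow_of_dvd (pow_ne_zero _ hpp.ne_zero) (he ▸ Dvd.intro m rfl), he,
        Nat.mul_div_cancel_left _ (pow_pos hpp.pos k)]
    have hdk : d ∈ Cfsg.sectionKernel R N := Subgroup.pow_mem _ hc _
    have htriv : ∀ y ∈ Subgroup.zpowers d, ∀ r ∈ R, y * r * y⁻¹ * r⁻¹ ∈ N := by
      intro y hy r hr
      have h2 : y ∈ Cfsg.sectionKernel R N := Subgroup.zpowers_le.mpr hdk hy
      have h3 := Subgroup.mem_centralizer_iff.mp (Subgroup.mem_comap.mp h2) _ ⟨r, hr, rfl⟩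
      rw [← QuotientGroup.eq_one_iff, QuotientGroup.mk_mul, QuotientGroup.mk_mul, QuotientGroup.mk_mul,
        QuotientGroup.mk_inv, QuotientGroup.mk_inv, ← QuotientGroup.mk'_apply, ← QuotientGroup.mk'_apply,
        ← h3, mul_inv_cancel_right, mul_inv_cancel]
    have hcop : (Nat.card ↥(Subgroup.zpowers d)).Coprime (Nat.card ↥(frattini ↥R)) := by
      obtain ⟨j, hj⟩ := IsPGroup.iff_card.mp (hRp.to_subgroup (frattini ↥R))
      rw [Nat.card_zpowers, hdm, hj]
      exact Nat.Coprime.pow_right j (hpp.coprime_iff_not_dvd.mpr hm).symm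
    have hcen := centralize_of_trivial_mod_frattini (A := Subgroup.zpowers d) (K := R)
      ((Subgroup.normalizer_eq_top (H := R)).ge.trans' le_top) hcop htriv
    have hdR := centralizer_pCore_le hpp hO (hcen (Subgroup.mem_zpowers d))
    obtain ⟨j, hj⟩ := IsPGroup.iff_orderOf.mp hRp ⟨d, hdR⟩
    rw [← Subgroup.orderOf_coe, hdm] at hj
    rcases j with _ | j
    · exact orderOf_eq_one_iff.mp (hdm.trans hj)
    · exact absurd (hj ▸ dvd_pow_self p j.succ_ne_zero) hm
  intro a ha
  obtain ⟨D, hDn, hCD, ⟨k, hk⟩, haD⟩ := hst.2.1 a (hquad a ha)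
  refine le_pCore (N := D) ?_ haD
  obtain ⟨j, hj⟩ := IsPGroup.iff_card.mp hC
  refine IsPGroup.of_card (n := j + k) ?_
  have := Subgroup.relIndex_mul_relIndex ⊥ _ D bot_le hCD
  rw [Subgroup.relIndex_bot_left, Subgroup.relIndex_bot_left, hj, hk] at this
  rw [← this, pow_add]

/-- Let X be a finite solvable group of odd order, p a prime and S a Sylow p-subgroup of X whose commutator subgroup is
cyclic. Then the product of the largest normal subgroup of X of order prime to p with S is a normal subgroup of X. -/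
theorem result {X : Type*} [Group X] [Finite X] [Group.IsSolvable X]
    (hX : Odd (Nat.card X)) (p : ℕ) [Fact p.Prime] (S : Sylow p X) (hS : IsCyclic (commutator (S : Subgroup X))) :
    (Cfsg.pPrimeCore p X ⊔ (S : Subgroup X)).Normal := by
  classical
  set O := Cfsg.pPrimeCore p X with hO
  haveI : O.Normal := pPrimeCore_normal p _
  by_cases hp : p = 2
  · subst hp
    have h1 : (S : Subgroup X) = ⊥ := by
      obtain ⟨k, hk⟩ := IsPGroup.iff_card.mp S.2
      rcases k with _ | k
      · exact Subgroup.eq_bot_of_card_eq _ hk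
      · exact absurd ((dvd_pow_self 2 k.succ_ne_zero).trans (hk ▸ (S : Subgroup X).card_subgroup_dvd_card))
          (fun hd => Nat.not_even_iff_odd.mpr hX (even_iff_two_dvd.mpr hd))
    rw [h1, sup_bot_eq]
    infer_instance
  set π := QuotientGroup.mk' O with hπ
  set S' := S.mapSurjective (f := π) (QuotientGroup.mk'_surjective _) with hS'
  haveI : Group.IsSolvable (X ⧸ O) := inferInstance
  have hXq : Odd (Nat.card (X ⧸ O)) := Odd.of_dvd_nat hX (Subgroup.card_quotient_dvd_card O)
  have hcyc : IsCyclic (commutator ↥(S' : Subgroup (X ⧸ O))) := by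
    haveI := hS
    let f : ↥(S : Subgroup X) →* ↥(S' : Subgroup (X ⧸ O)) :=
      (π.comp (S : Subgroup X).subtype).codRestrict _ fun x => ⟨x, x.2, rfl⟩
    have hf : Function.Surjective f := by
      rintro ⟨_, x, hx, rfl⟩
      exact ⟨⟨x, hx⟩, rfl⟩
    have e : (commutator ↥(S : Subgroup X)).map f = commutator ↥(S' : Subgroup (X ⧸ O)) := by
      rw [commutator_def, commutator_def, Subgroup.map_commutator, Subgroup.map_top_of_surjective f hf]
    exact isCyclic_of_surjective ((f.comp (commutator ↥(S : Subgroup X)).subtype).codRestrict _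
      fun x => e.le ⟨x, x.2, rfl⟩) (fun y => by
        obtain ⟨x, hx, hxy⟩ := e.ge y.2
        exact ⟨⟨x, hx⟩, Subtype.ext hxy⟩)
  have hle := sylow_le_pCore hXq hp (pPrimeCore_quotient_eq_bot p) S' hcyc
  have heq : (S' : Subgroup (X ⧸ O)) = Cfsg.pCore p (X ⧸ O) :=
    le_antisymm hle (pCore_le_sylow S')
  have hfin : O ⊔ (S : Subgroup X) = (Cfsg.pCore p (X ⧸ O)).comap π := by
    rw [← heq, hS', Sylow.coe_mapSurjective, Subgroup.comap_map_eq, QuotientGroup.ker_mk', sup_comm]
  rw [hfin]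
  haveI := pCore_normal (G := X ⧸ O) p
  exact Subgroup.Normal.comap inferInstance _

end Cfsg.Agent.S0521
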