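import Cfsg.Statements.S0522
import Mathlib
import Cfsg.Agent.Lib.Transitivity
import Cfsg.Agent.Lib.PLocal.Constrained
import Cfsg.Agent.Lib.PSolvable
import Cfsg.Agent.Lib.CharP
import Cfsg.Agent.Lib.Local

set_option autoImplicit false
set_option linter.unusedVariables false
open Cfsg
open scoped commutatorElement

namespace Cfsg.Agent.S0522

open CfsgLib

/-- Transitivity Theorem (odd-order setting). Let X be a finite group of odd order in which the normalizer of every
nontrivial p-subgroup is solvable, P a Sylow p-subgroup, and B an abelian subgroup of P, normalized by P, with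
C_P(B) = B and containing an elementary abelian subgroup of order p^3. Then for every prime q ≠ p, any two q-subgroups
that are maximal among the q-subgroups normalized by B are conjugate by an element of the centralizer of B. -/
theorem result {X : Type*} [Group X] [Finite X] (hX : Odd (Nat.card X)) (p : ℕ)
    [Fact p.Prime] (hloc : ∀ T : Subgroup X, IsPGroup p T → T ≠ ⊥ → Group.IsSolvable (Subgroup.normalizer (T : Set X)))
    (P : Sylow p X) (B : Subgroup X) (hBP : B ≤ (P : Subgroup X))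
    (hBn : ∀ x ∈ (P : Subgroup X), ∀ b ∈ B, x * b * x⁻¹ ∈ B) (hBa : IsMulCommutative B)
    (hBc : (P : Subgroup X) ⊓ Subgroup.centralizer (B : Set X) = B)
    (hB3 : ∃ E : Subgroup X, E ≤ B ∧ (∀ e ∈ E, e ^ p = 1) ∧ p ^ 3 ≤ Nat.card E)
    (q : ℕ) [Fact q.Prime] (hqp : q ≠ p) (Q₁ Q₂ : Subgroup X)
    (h₁ : IsPGroup q Q₁ ∧ B ≤ Subgroup.normalizer (Q₁ : Set X) ∧
      ∀ R : Subgroup X, IsPGroup q R → B ≤ Subgroup.normalizer (R : Set X) → Q₁ ≤ R → R = Q₁)
    (h₂ : IsPGroup q Q₂ ∧ B ≤ Subgroup.normalizer (Q₂ : Set X) ∧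
      ∀ R : Subgroup X, IsPGroup q R → B ≤ Subgroup.normalizer (R : Set X) → Q₂ ≤ R → R = Q₂) :
    ∃ c ∈ Subgroup.centralizer (B : Set X), Q₂ = Q₁.map (MulAut.conj c).toMonoidHom := by
  classical
  have hpp := (Fact.out : p.Prime)
  have hBp : IsPGroup p ↥B := P.2.to_le hBP
  obtain ⟨E, hEB, hEe, hEc⟩ := hB3
  have hp2 : p ≠ 2 := by
    intro e
    subst e
    have h1 := P.2.to_le (hEB.trans hBP)
    obtain ⟨k, hk⟩ := IsPGroup.iff_card.mp h1
    rcases k with _ | k
    · rw [hk] at hEc; norm_num at hEc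
    · exact Nat.not_even_iff_odd.mpr hX (even_iff_two_dvd.mpr ((dvd_pow_self 2 k.succ_ne_zero).trans (hk ▸ E.card_subgroup_dvd_card)))
  have hPN : (P : Subgroup X) ≤ Subgroup.normalizer (B : Set X) := by
    intro x hx
    refine Local.mem_normalizer_of_map_conj_eq (Subgroup.eq_of_le_of_card_ge (Local.map_conj_le fun b hb => hBn x hx b hb) ?_)
    exact (Subgroup.card_map_of_injective (f := (MulAut.conj x).toMonoidHom) (MulEquiv.injective _)).ge
  set C := Subgroup.centralizer (B : Set X) with hC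
  have hBC : B ≤ C := fun b hb => Subgroup.mem_centralizer_iff.mpr fun c hc =>
    congrArg Subtype.val (hBa.is_comm.comm (⟨c, hc⟩ : ↥B) ⟨b, hb⟩)
  have hfull : ∀ x ∈ C, (∃ k : ℕ, x ^ p ^ k = 1) → x ∈ B := by
    rintro x hx ⟨k, hk⟩
    set N := Subgroup.normalizer (B : Set X) with hN
    have hxN : x ∈ N := Local.mem_normalizer_of_map_conj_eq (Subgroup.eq_of_le_of_card_ge (Local.map_conj_le fun v hv => by
      rw [← Subgroup.mem_centralizer_iff.mp hx v hv, mul_inv_cancel_right]; exact hv)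
      (Subgroup.card_map_of_injective (f := (MulAut.conj x).toMonoidHom) (MulEquiv.injective _)).ge)
    have hp : IsPGroup p ↥(Subgroup.zpowers (⟨x, hxN⟩ : ↥N)) := by
      obtain ⟨j, -, hj⟩ := (Nat.dvd_prime_pow hpp).mp (orderOf_dvd_of_pow_eq_one hk)
      exact IsPGroup.of_card (n := j) (by rw [Nat.card_zpowers, ← Subgroup.orderOf_coe]; exact hj)
    obtain ⟨R, hR⟩ := hp.exists_le_sylow
    obtain ⟨g, hg⟩ := MulAction.exists_smul_eq ↥N R (P.subtype hPN)
    have h1 : g * ⟨x, hxN⟩ * g⁻¹ ∈ ((P.subtype hPN : Sylow p ↥N) : Subgroup ↥N) := by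
      rw [← hg, Sylow.coe_subgroup_smul]
      exact ⟨_, hR (Subgroup.mem_zpowers _), rfl⟩
    rw [Sylow.coe_subtype, Subgroup.mem_subgroupOf] at h1
    have hgx : (g : X) * x * (g : X)⁻¹ ∈ C := by
      refine Subgroup.mem_centralizer_iff.mpr fun b hb => ?_
      have hb' : (g : X)⁻¹ * b * (g : X) ∈ B := (Subgroup.mem_normalizer_iff''.mp g.2 b).mp hb
      have h2 := congrArg (fun y => (g : X) * y * (g : X)⁻¹) (Subgroup.mem_centralizer_iff.mp hx _ hb')
      simpa [mul_assoc] using h2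
    have h3 : (g : X) * x * (g : X)⁻¹ ∈ B := hBc.le ⟨h1, hgx⟩
    exact (Subgroup.mem_normalizer_iff.mp g.2 x).mpr h3
  have hrk : ¬ Cfsg.PRankLE p 2 ↥B := by
    intro h
    have h1 := h (E.subgroupOf B) ⟨⟨fun a b => Subtype.ext (Subtype.ext (congrArg Subtype.val
      (hBa.is_comm.comm (a : ↥B) (b : ↥B))))⟩⟩ (fun a ha => Subtype.ext (by simpa using hEe _ (Subgroup.mem_subgroupOf.mp ha)))
    rw [Nat.card_congr (Subgroup.subgroupOfEquivOfLe hEB).toEquiv] at h1
    exact absurd (hEc.trans h1) (by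
      intro h2
      have := (Nat.pow_le_pow_iff_right hpp.two_le).mp h2
      omega)
  have hcons : ∀ T : Subgroup X, IsPGroup p T → T ≠ ⊥ → Cfsg.IsPConstrained p (Subgroup.normalizer (T : Set X)) := by
    intro T hT hT1
    haveI := hloc T hT hT1
    haveI : (Cfsg.pPrimeCore p ↥(Subgroup.normalizer (T : Set X))).Normal := pPrimeCore_normal p _
    exact PLocal.isPConstrained_of_quotient (centralizer_pCore_le hpp (pPrimeCore_quotient_eq_bot p))
  have hmk : ∀ Q : Subgroup X, (IsPGroup q Q ∧ B ≤ Subgroup.normalizer (Q : Set X) ∧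
      ∀ R : Subgroup X, IsPGroup q R → B ≤ Subgroup.normalizer (R : Set X) → Q ≤ R → R = Q) →
      Q ∈ Cfsg.maxInvSubgroups ⊤ B {q} := by
    intro Q hQ
    refine ⟨⟨le_top, fun r hr hrd => ?_, hQ.2.1⟩, fun R hR hQR => hQ.2.2 R ?_ hR.2.2 hQR⟩
    · obtain ⟨k, hk⟩ := IsPGroup.iff_card.mp hQ.1
      exact (Nat.prime_dvd_prime_iff_eq hr Fact.out).mp (hr.dvd_of_dvd_pow (hk ▸ hrd))
    · exact IsPGroup.of_card (n := (Nat.card R).primeFactorsList.length)
        (Nat.eq_prime_pow_of_unique_prime_dvd Nat.card_pos.ne' fun {r} hr hrd => hR.2.1 r hr hrd)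
  haveI := hBa
  obtain ⟨k, hk, he⟩ := Transitivity.transitivity hcons (fun e => absurd e hp2) B hBp hrk hfull q hqp Q₁ Q₂ (hmk Q₁ h₁) (hmk Q₂ h₂)
  exact ⟨k, Subgroup.map_subtype_le _ hk, he⟩

end Cfsg.Agent.S0522
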