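import Cfsg.Statements.S0529
import Cfsg.Agent.Lib.Solvable.Huppert
-- import your own Cfsg.Agent.* helpers here

set_option autoImplicit false
open Cfsg

namespace Cfsg.Agent.S0529

universe u
theorem exists_chain {G : Type u} [Group G] [Finite G] (hG : Cfsg.IsSupersolvable G) :
    ∃ (n : ℕ) (H : Fin (n + 1) → Subgroup G), H 0 = ⊥ ∧ H (Fin.last n) = ⊤ ∧ (∀ i, (H i).Normal) ∧
      (∀ i : Fin n, H i.castSucc ≤ H i.succ ∧ ((H i.castSucc).relIndex (H i.succ)).Prime ∧
        (H i.castSucc).relIndex (H i.succ) ∣ Nat.card G) ∧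
      ∀ i j : Fin n, i ≤ j → (H j.castSucc).relIndex (H j.succ) ≤ (H i.castSucc).relIndex (H i.succ) := by
  induction hn : Nat.card G using Nat.strong_induction_on generalizing G with
  | h n ih =>
    subst hn
    rcases subsingleton_or_nontrivial G with hs | hs
    · exact ⟨0, fun _ => ⊥, rfl, Subsingleton.elim _ _, fun _ => inferInstance, fun i => i.elim0,
        fun i => i.elim0⟩
    obtain ⟨p, hp, hpd, hmax⟩ := CfsgLib.Supersolvable.exists_largest_prime (G := G)
    haveI : Fact p.Prime := ⟨hp⟩
    obtain ⟨P⟩ : Nonempty (Sylow p G) := inferInstance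
    haveI := CfsgLib.Supersolvable.sylow_normal_of_index_prime
      (fun M hM => CfsgLib.Supersolvable.index_prime hG hM) hmax P
    obtain ⟨N, hNn, hNP, hN⟩ :=
      CfsgLib.Supersolvable.exists_prime_normal_le hG (N := (P : Subgroup G)) (P.ne_bot_of_dvd_card hpd)
    have hNp : Nat.card N = p := by
      obtain ⟨k, hk⟩ := P.2.exists_card_eq
      exact (Nat.prime_dvd_prime_iff_eq hN hp).mp (hN.dvd_of_dvd_pow (hk ▸ Subgroup.card_dvd_of_le hNP))
    have hN0 : N ≠ ⊥ := fun e => Nat.not_prime_one (by simpa [e] using hN)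
    obtain ⟨m, K, h0, h1, hKn, hK, hmono⟩ :=
      ih _ (CfsgLib.Supersolvable.card_quotient_lt N hN0) (CfsgLib.Supersolvable.quotient hG N) rfl
    let q := QuotientGroup.mk' N
    have hq : Function.Surjective q := QuotientGroup.mk'_surjective N
    have hrel : ∀ A B : Subgroup (G ⧸ N), (A.comap q).relIndex (B.comap q) = A.relIndex B := fun A B => by
      rw [Subgroup.relIndex_comap, Subgroup.map_comap_eq_self_of_surjective hq]
    have hqd : Nat.card (G ⧸ N) ∣ Nat.card G := Subgroup.card_quotient_dvd_card N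
    have hq0 : (⊥ : Subgroup (G ⧸ N)).comap q = N := by rw [MonoidHom.comap_bot, QuotientGroup.ker_mk']
    refine ⟨m + 1, Fin.cons (⊥ : Subgroup G) (fun i => (K i).comap q), ?_, ?_, ?_, ?_, ?_⟩
    · simp
    · rw [← Fin.succ_last, Fin.cons_succ, h1, Subgroup.comap_top]
    · intro i
      induction i using Fin.cases with
      | zero => simp only [Fin.cons_zero]; exact inferInstance
      | succ j => simp only [Fin.cons_succ]; exact (hKn j).comap q
    · intro i
      induction i using Fin.cases with
      | zero =>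
        rw [Fin.castSucc_zero, Fin.cons_zero, Fin.cons_succ, h0, hq0, Subgroup.relIndex_bot_left, hNp]
        exact ⟨bot_le, hp, hpd⟩
      | succ j =>
        rw [← Fin.succ_castSucc, Fin.cons_succ, Fin.cons_succ, hrel]
        exact ⟨Subgroup.comap_mono (hK j).1, (hK j).2.1, (hK j).2.2.trans hqd⟩
    · intro i j hij
      induction j using Fin.cases with
      | zero => rw [show i = 0 from le_antisymm hij (Fin.zero_le i)]
      | succ j =>
        rw [← Fin.succ_castSucc, Fin.cons_succ, Fin.cons_succ, hrel]
        induction i using Fin.cases with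
        | zero =>
          rw [Fin.castSucc_zero, Fin.cons_zero, Fin.cons_succ, h0, hq0, Subgroup.relIndex_bot_left, hNp]
          exact hmax _ (hK j).2.1 ((hK j).2.2.trans hqd)
        | succ i =>
          rw [← Fin.succ_castSucc, Fin.cons_succ, Fin.cons_succ, hrel]
          exact hmono i j (Fin.succ_le_succ_iff.mp hij)

/-- A finite supersolvable group has a chain of normal subgroups, from the trivial subgroup to the whole group, in which every step has prime index and the primes occurring are non-increasing as one goes up the chain. -/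
theorem result {G : Type*} [Group G] [Finite G] (hG : Cfsg.IsSupersolvable G) : ∃ (n : ℕ) (H : Fin (n + 1) → Subgroup G), H 0 = ⊥ ∧ H (Fin.last n) = ⊤ ∧ (∀ i, (H i).Normal) ∧ (∀ i : Fin n, H i.castSucc ≤ H i.succ ∧ ((H i.castSucc).relIndex (H i.succ)).Prime) ∧ ∀ i j : Fin n, i ≤ j → (H j.castSucc).relIndex (H j.succ) ≤ (H i.castSucc).relIndex (H i.succ) := by
  obtain ⟨n, H, h0, h1, h2, h3, h4⟩ := exists_chain hG
  exact ⟨n, H, h0, h1, h2, fun i => ⟨(h3 i).1, (h3 i).2.1⟩, h4⟩

end Cfsg.Agent.S0529
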