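import Cfsg.Statements.S0530
import Cfsg.Agent.Lib.Solvable.Supersolvable
-- import your own Cfsg.Agent.* helpers here

set_option autoImplicit false
open Cfsg

namespace Cfsg.Agent.S0530

universe u
theorem aux {G : Type u} [Group G] [Finite G] (p : ℕ) (hp : p.Prime) :
    ∀ n : ℕ, Nat.card G = 2 * p ^ n ∨ Nat.card G = p ^ n → Cfsg.IsSupersolvable G := by
  intro n
  induction hn : Nat.card G using Nat.strong_induction_on generalizing G n with
  | h m ih =>
    subst hn
    intro hG
    haveI : Fact p.Prime := ⟨hp⟩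
    rcases subsingleton_or_nontrivial G with hs | hs
    · exact CfsgLib.Supersolvable.of_subsingleton
    suffices hC : ∃ C : Subgroup G, C.Normal ∧ C ≠ ⊥ ∧ IsCyclic C by
      obtain ⟨C, hC, hC0, hCc⟩ := hC
      have hdvd : Nat.card (G ⧸ C) ∣ 2 * p ^ n := by
        have := Subgroup.card_quotient_dvd_card C
        rcases hG with e | e
        · exact e ▸ this
        · exact this.trans (e ▸ Dvd.intro_left 2 rfl)
      obtain ⟨d₁, d₂, h1, h2, he⟩ := exists_dvd_and_dvd_of_dvd_mul hdvd
      obtain ⟨k, -, rfl⟩ := (Nat.dvd_prime_pow hp).mp h2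
      refine CfsgLib.Supersolvable.of_quotient C
        (ih _ (CfsgLib.Supersolvable.card_quotient_lt C hC0) k rfl ?_)
      rcases (Nat.dvd_prime Nat.prime_two).mp h1 with rfl | rfl
      · exact Or.inr (by rw [he, one_mul])
      · exact Or.inl he
    have hpg : IsPGroup p G → ∃ C : Subgroup G, C.Normal ∧ C ≠ ⊥ ∧ IsCyclic C := fun h => by
      haveI := h.center_nontrivial
      obtain ⟨z, hz⟩ := exists_ne (1 : Subgroup.center G)
      refine ⟨Subgroup.zpowers (z : G), ⟨fun x hx g => ?_⟩,
        fun e => hz (Subtype.ext (Subgroup.zpowers_eq_bot.mp e)), inferInstance⟩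
      have := Subgroup.mem_center_iff.mp (Subgroup.zpowers_le.mpr z.2 hx) g
      rwa [this, mul_inv_cancel_right]
    by_cases hpp : IsPGroup p G
    · exact hpg hpp
    have h2 : Nat.card G = 2 * p ^ n := hG.resolve_right fun e => hpp (IsPGroup.of_card e)
    have hp2 : p ≠ 2 := fun e => hpp (IsPGroup.of_card (n := n + 1) (by rw [h2, e, pow_succ, mul_comm]))
    obtain ⟨P⟩ : Nonempty (Sylow p G) := inferInstance
    have hPc : Nat.card (P : Subgroup G) = p ^ n := by
      rw [P.card_eq_multiplicity, h2, Nat.factorization_mul (by norm_num) (pow_ne_zero _ hp.ne_zero),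
        Finsupp.add_apply, Nat.Prime.factorization_pow hp, Finsupp.single_eq_same,
        Nat.Prime.factorization Nat.prime_two, Finsupp.single_eq_of_ne hp2, zero_add]
    have hidx : (P : Subgroup G).index = 2 := by
      have := (P : Subgroup G).card_mul_index
      rw [hPc, h2] at this
      exact mul_left_cancel₀ (pow_ne_zero n hp.ne_zero) (this.trans (mul_comm _ _))
    haveI hPn : (P : Subgroup G).Normal := Subgroup.normal_of_index_eq_two hidx
    rcases Nat.eq_zero_or_pos n with rfl | hn0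
    · haveI : Fact (Nat.Prime 2) := ⟨Nat.prime_two⟩
      have hc : Nat.card G = 2 := by simpa using h2
      haveI := isCyclic_of_prime_card hc
      exact ⟨⊤, inferInstance, top_ne_bot, isCyclic_of_surjective Subgroup.topEquiv.symm.toMonoidHom
        Subgroup.topEquiv.symm.surjective⟩
    haveI : Nontrivial (P : Subgroup G) := Finite.one_lt_card_iff_nontrivial.mp
      (by rw [hPc]; exact Nat.one_lt_pow hn0.ne' hp.one_lt)
    haveI := P.2.center_nontrivial
    obtain ⟨⟨⟨x, hxP⟩, hxZ⟩, hx1⟩ := exists_ne (1 : Subgroup.center (P : Subgroup G))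
    have hx : x ≠ 1 := fun e => hx1 (Subtype.ext (Subtype.ext e))
    have hxc : ∀ u ∈ (P : Subgroup G), u * x = x * u := fun u hu =>
      congrArg Subtype.val (Subgroup.mem_center_iff.mp hxZ ⟨u, hu⟩)
    obtain ⟨t, ht⟩ := exists_prime_orderOf_dvd_card' (G := G) 2 (hp := ⟨Nat.prime_two⟩) (h2 ▸ dvd_mul_right 2 _)
    have ht2 : t * t = 1 := by rw [← sq, ← ht, pow_orderOf_eq_one]
    have htP : t ∉ (P : Subgroup G) := fun h => by
      have : 2 ∣ p ^ n := by rw [← hPc, ← ht]; exact Subgroup.orderOf_dvd_natCard _ h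
      exact hp2 ((Nat.prime_dvd_prime_iff_eq Nat.prime_two hp).mp (Nat.prime_two.dvd_of_dvd_pow this)).symm
    have hdec : ∀ g : G, g ∈ (P : Subgroup G) ∨ g * t ∈ (P : Subgroup G) := fun g => by
      by_cases hg : g ∈ (P : Subgroup G)
      · exact Or.inl hg
      · exact Or.inr ((Subgroup.mul_mem_iff_of_index_two hidx).mpr ⟨fun h => absurd h hg, fun h => absurd h htP⟩)
    set y := t * x * t⁻¹ with hy
    have hyc : ∀ u ∈ (P : Subgroup G), u * y = y * u := fun u hu => by
      have := hxc _ (hPn.conj_mem u hu t⁻¹)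
      calc u * y = t * ((t⁻¹ * u * (t⁻¹)⁻¹) * x) * t⁻¹ := by rw [hy]; group
        _ = t * (x * (t⁻¹ * u * (t⁻¹)⁻¹)) * t⁻¹ := by rw [this]
        _ = y * u := by rw [hy]; group
    have hty : t * y * t⁻¹ = x := by
      rw [hy, show t * (t * x * t⁻¹) * t⁻¹ = (t * t) * x * (t * t)⁻¹ by group, ht2, one_mul, inv_one, mul_one]
    have hnorm : ∀ C : Subgroup G, (∀ u ∈ (P : Subgroup G), ∀ c ∈ C, u * c = c * u) →
        (∀ c ∈ C, t * c * t⁻¹ ∈ C) → C.Normal := by
      intro C h1 h2'
      refine ⟨fun c hc g => ?_⟩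
      rcases hdec g with hg | hg
      · rwa [h1 g hg c hc, mul_inv_cancel_right]
      · have h3 : t⁻¹ * c * (t⁻¹)⁻¹ = t * c * t⁻¹ := by
          rw [inv_inv, inv_eq_of_mul_eq_one_left ht2]
        have hc' := h2' c hc
        rw [← h3] at hc'
        have := h1 _ hg _ hc'
        rw [show g * c * g⁻¹ = g * t * (t⁻¹ * c * (t⁻¹)⁻¹) * (g * t)⁻¹ by group, this, mul_inv_cancel_right]
        exact hc'
    by_cases hxy : x * y = 1
    · refine ⟨Subgroup.zpowers x, hnorm _ ?_ ?_, fun e => hx (Subgroup.zpowers_eq_bot.mp e), inferInstance⟩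
      · rintro u hu _ ⟨k, rfl⟩
        exact (show Commute u x from hxc u hu).zpow_right k
      · rintro _ ⟨k, rfl⟩
        show t * x ^ k * t⁻¹ ∈ _
        rw [← conj_zpow, ← hy, eq_inv_of_mul_eq_one_right hxy]
        exact zpow_mem (inv_mem (Subgroup.mem_zpowers x)) k
    · refine ⟨Subgroup.zpowers (x * y), hnorm _ ?_ ?_, fun e => hxy (Subgroup.zpowers_eq_bot.mp e), inferInstance⟩
      · rintro u hu _ ⟨k, rfl⟩
        exact ((show Commute u x from hxc u hu).mul_right (hyc u hu)).zpow_right k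
      · rintro _ ⟨k, rfl⟩
        show t * (x * y) ^ k * t⁻¹ ∈ _
        rw [← conj_zpow, show t * (x * y) * t⁻¹ = (t * x * t⁻¹) * (t * y * t⁻¹) by group, hty, ← hy,
          hyc x hxP |>.symm]
        exact ⟨k, rfl⟩

/-- A finite group whose order is twice a prime power is supersolvable. -/
theorem result {G : Type*} [Group G] [Finite G] (p n : ℕ) (hp : p.Prime) (hG : Nat.card G = 2 * p ^ n) : Cfsg.IsSupersolvable G := by
  exact aux p hp n (Or.inl hG)

end Cfsg.Agent.S0530
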