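import Cfsg.Statements.S0531
import Cfsg.Agent.Lib.Solvable.Supersolvable
import Cfsg.Agent.Lib.PSolvable
-- import your own Cfsg.Agent.* helpers here

set_option autoImplicit false
open Cfsg

namespace Cfsg.Agent.S0531

universe u
theorem hasSubgroup {G : Type u} [Group G] [Finite G] (hG : Cfsg.IsSupersolvable G) :
    Cfsg.HasSubgroupOfEveryOrder G := by
  induction hn : Nat.card G using Nat.strong_induction_on generalizing G with
  | h n ih =>
    subst hn
    intro d hd
    rcases subsingleton_or_nontrivial G with hs | hs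
    · exact ⟨⊥, by rw [Subgroup.card_bot]; rw [Nat.card_unique] at hd; exact (Nat.dvd_one.mp hd).symm⟩
    obtain ⟨N, hNn, -, hN⟩ := CfsgLib.Supersolvable.exists_prime_normal_le hG (N := (⊤ : Subgroup G)) top_ne_bot
    haveI : Fact (Nat.card N).Prime := ⟨hN⟩
    have hN0 : N ≠ ⊥ := fun e => Nat.not_prime_one (by simpa [e] using hN)
    have hq := CfsgLib.Supersolvable.card_quotient_lt N hN0
    have hcard := Subgroup.card_eq_card_quotient_mul_card_subgroup N
    have hih := ih _ hq (CfsgLib.Supersolvable.quotient hG N) rfl
    have hcomap : ∀ K : Subgroup (G ⧸ N),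
        Nat.card (K.comap (QuotientGroup.mk' N)) = Nat.card N * Nat.card K :=
      fun K => CfsgLib.card_comap_mk N K
    by_cases hpd : Nat.card N ∣ d
    · obtain ⟨e, rfl⟩ := hpd
      rw [hcard, mul_comm] at hd
      obtain ⟨K, hK⟩ := hih e (Nat.dvd_of_mul_dvd_mul_right hN.pos (by rwa [mul_comm] at hd ⊢))
      exact ⟨K.comap (QuotientGroup.mk' N), by rw [hcomap, hK]⟩
    · have hco : (Nat.card N).Coprime d := hN.coprime_iff_not_dvd.mpr hpd
      rw [hcard] at hd
      obtain ⟨K, hK⟩ := hih d (hco.symm.dvd_of_dvd_mul_right hd)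
      set M := K.comap (QuotientGroup.mk' N) with hM
      have hMc : Nat.card M = Nat.card N * d := by rw [hM, hcomap, hK]
      have hNM : N ≤ M := by
        rw [hM]
        conv_lhs => rw [← QuotientGroup.ker_mk' N]
        exact Subgroup.ker_le_comap _ _
      have hidx : (N.subgroupOf M).index = d := by
        have h1 := (N.subgroupOf M).card_mul_index
        rw [Nat.card_congr (Subgroup.subgroupOfEquivOfLe hNM).toEquiv, hMc] at h1
        exact mul_left_cancel₀ hN.ne_zero h1
      obtain ⟨H, hH⟩ := Subgroup.exists_right_complement'_of_coprime (N := N.subgroupOf M)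
        (by rw [Nat.card_congr (Subgroup.subgroupOfEquivOfLe hNM).toEquiv, hidx]; exact hco)
      exact ⟨H.map M.subtype, by rw [Subgroup.card_map_of_injective M.subtype_injective, ← hH.symm.index_eq_card, hidx]⟩

/-- A finite supersolvable group has a subgroup of each order dividing its order. -/
theorem result {G : Type*} [Group G] [Finite G] (hG : Cfsg.IsSupersolvable G) : Cfsg.HasSubgroupOfEveryOrder G := by
  exact hasSubgroup hG

end Cfsg.Agent.S0531
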