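import Cfsg.Statements.S0534
import Mathlib
import Cfsg.Agent.Lib.HallPi
-- import your own Cfsg.Agent.* helpers here

set_option autoImplicit false
open Cfsg

namespace Cfsg.Agent.S0534

universe u v

private theorem abelian_clt : ∀ (d : ℕ) (A : Type v) [CommGroup A] [Finite A], d ∣ Nat.card A → ∃ H : Subgroup A, Nat.card H = d := by
  intro d
  induction d using Nat.strong_induction_on with
  | _ d ih =>
  intro A _ _ hd
  rcases eq_or_ne d 1 with rfl | hd1
  · exact ⟨⊥, by simp⟩
  obtain ⟨p, hp, hpd⟩ := Nat.exists_prime_and_dvd hd1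
  haveI := Fact.mk hp
  obtain ⟨x, hx⟩ := exists_prime_orderOf_dvd_card' (G := A) p (hpd.trans hd)
  set Z := Subgroup.zpowers x
  have hZ : Nat.card Z = p := by rw [Nat.card_zpowers, hx]
  have hdpos : 0 < d := Nat.pos_of_dvd_of_pos hd Nat.card_pos
  have e : p * Nat.card (A ⧸ Z) = Nat.card A := by
    rw [← hZ, ← Subgroup.index_eq_card, Subgroup.card_mul_index]
  obtain ⟨H, hH⟩ := ih (d / p) (Nat.div_lt_self hdpos hp.one_lt) (A ⧸ Z)
    ((Nat.mul_dvd_mul_iff_left hp.pos).mp (by rwa [Nat.mul_div_cancel' hpd, e]))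
  refine ⟨H.comap (QuotientGroup.mk' Z), ?_⟩
  have h1 := (H.comap (QuotientGroup.mk' Z)).card_mul_index
  rw [Subgroup.index_comap_of_surjective _ (QuotientGroup.mk'_surjective Z)] at h1
  have h2 := H.card_mul_index
  rw [hH] at h2
  have hi : H.index ≠ 0 := Subgroup.index_ne_zero_of_finite
  refine Nat.eq_of_mul_eq_mul_right (Nat.pos_of_ne_zero hi) ?_
  rw [h1, ← e, ← h2, ← mul_assoc, Nat.mul_div_cancel' hpd]

/-- Let G be a finite solvable group and A a finite abelian group such that every prime dividing the order of A divides the order of G and, for each prime p dividing the order of G, the exponent of p in the order of A is one less than its exponent in the order of G. Then G × A has a subgroup of every order dividing its order. -/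
theorem result {G A : Type*} [Group G] [CommGroup A] [Finite G] [Finite A] [Group.IsSolvable G] (hA : ∀ p : ℕ, p.Prime → p ∣ Nat.card A → p ∣ Nat.card G) (hexp : ∀ p : ℕ, p.Prime → p ∣ Nat.card G → (Nat.card A).factorization p + 1 = (Nat.card G).factorization p) : Cfsg.HasSubgroupOfEveryOrder (G × A) := by
  classical
  intro d hd
  rw [Nat.card_prod] at hd
  have hd0 : d ≠ 0 := fun e => by rw [e, zero_dvd_iff] at hd; exact (Nat.mul_pos Nat.card_pos Nat.card_pos).ne' hd
  obtain ⟨m, n, hmn, hcop, hm, hn⟩ := CfsgLib.exists_pi_split {p : ℕ | (Nat.card G).factorization p ≤ d.factorization p} (Nat.card G) Nat.card_pos.ne'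
  obtain ⟨⟨H, hH⟩, -⟩ := CfsgLib.hall_main (G := G) hmn hcop
  have hm0 : m ≠ 0 := hH ▸ Nat.card_pos.ne'
  have hn0 : n ≠ 0 := fun e => by rw [e, mul_zero] at hmn; exact Nat.card_pos.ne' hmn
  have hmf : ∀ p, p.Prime → p ∣ m → m.factorization p = (Nat.card G).factorization p := fun p hp hpm => by
    have : n.factorization p = 0 := Nat.factorization_eq_zero_of_not_dvd fun hpn => hn p hp hpn (hm p hp hpm)
    rw [hmn, Nat.factorization_mul hm0 hn0, Finsupp.add_apply, this, add_zero]
  have hmd : m ∣ d := by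
    rw [← Nat.factorization_prime_le_iff_dvd hm0 hd0]
    intro p hp
    by_cases hpm : p ∣ m
    · rw [hmf p hp hpm]; exact hm p hp hpm
    · rw [Nat.factorization_eq_zero_of_not_dvd hpm]; exact Nat.zero_le _
  have hdm : d / m ∣ Nat.card A := by
    rw [← Nat.factorization_prime_le_iff_dvd (Nat.div_pos (Nat.le_of_dvd (Nat.pos_of_ne_zero hd0) hmd) (Nat.pos_of_ne_zero hm0)).ne' Nat.card_pos.ne']
    intro p hp
    rw [Nat.factorization_div hmd, Finsupp.tsub_apply]
    have hle := (Nat.factorization_le_iff_dvd hd0 (Nat.mul_pos Nat.card_pos Nat.card_pos).ne').mpr hd p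
    rw [Nat.factorization_mul Nat.card_pos.ne' Nat.card_pos.ne', Finsupp.add_apply] at hle
    by_cases hpm : p ∣ m
    · rw [hmf p hp hpm]; omega
    rw [Nat.factorization_eq_zero_of_not_dvd hpm]
    by_cases hpG : p ∣ Nat.card G
    · have hpn : p ∣ n := (hp.dvd_mul.mp (hmn ▸ hpG)).resolve_left hpm
      have h1 : ¬ (Nat.card G).factorization p ≤ d.factorization p := hn p hp hpn
      have := hexp p hp hpG
      omega
    · rw [Nat.factorization_eq_zero_of_not_dvd hpG] at hle
      omega
  obtain ⟨B, hB⟩ := abelian_clt (d / m) A hdm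
  exact ⟨H.prod B, by rw [Nat.card_congr (Subgroup.prodEquiv H B).toEquiv, Nat.card_prod, hH, hB, Nat.mul_div_cancel' hmd]⟩

end Cfsg.Agent.S0534
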