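import Cfsg.Statements.S0535
import Mathlib
import Cfsg.Agent.Lib.Solvable.Wielandt3
import Cfsg.Agent.Lib.CharTheory.Burnside
-- import your own Cfsg.Agent.* helpers here

set_option autoImplicit false
open Cfsg

namespace Cfsg.Agent.S0535

/-- Suppose that for every nontrivial subgroup H of a finite group and every prime p dividing the order of H there is a proper subgroup of H whose index in H is a power of p. Then the group is solvable. -/
theorem result {G : Type*} [Group G] [Finite G] (h : ∀ H : Subgroup G, H ≠ ⊥ → ∀ p : ℕ, p.Prime → p ∣ Nat.card H → ∃ K : Subgroup H, K ≠ ⊤ ∧ ∃ k : ℕ, K.index = p ^ k) : Group.IsSolvable G := by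
  revert h
  obtain ⟨n, hn⟩ : ∃ n, Nat.card G = n := ⟨_, rfl⟩
  induction n using Nat.strong_induction_on generalizing G with
  | _ n ih =>
  intro h
  by_cases hG : Subsingleton G
  · infer_instance
  rw [not_subsingleton_iff_nontrivial] at hG
  have htopbot : (⊤ : Subgroup G) ≠ ⊥ := top_ne_bot
  have sub : ∀ p : ℕ, p.Prime → p ∣ Nat.card G → ∃ K : Subgroup G, Group.IsSolvable K ∧ ∃ k : ℕ, K.index = p ^ k := by
    intro p hp hpd
    obtain ⟨K, hK, k, hk⟩ := h ⊤ htopbot p hp (by rwa [Subgroup.card_top])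
    refine ⟨K.map (⊤ : Subgroup G).subtype, ?_, k, by rw [Subgroup.index_map_subtype, Subgroup.index_top, mul_one, hk]⟩
    refine ih _ ?_ rfl ?_
    · rw [← hn, ← Subgroup.card_top (G := G), Nat.card_congr ((Subgroup.equivMapOfInjective K _ (Subgroup.subtype_injective _)).toEquiv).symm]
      exact lt_of_le_of_ne (Subgroup.card_le_card_group K) fun e => hK (Subgroup.eq_top_of_card_eq _ e)
    · generalize K.map (⊤ : Subgroup G).subtype = L
      intro H hH q hq hqd
      obtain ⟨K', hK', j, hj⟩ := h (H.map L.subtype) (fun e => hH ((Subgroup.map_eq_bot_iff_of_injective _ L.subtype_injective).mp e)) q hq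
        (by rwa [Subgroup.card_map_of_injective L.subtype_injective])
      let e := Subgroup.equivMapOfInjective H L.subtype L.subtype_injective
      refine ⟨K'.comap e.toMonoidHom, fun e' => hK' (Subgroup.comap_injective e.surjective (e'.trans (Subgroup.comap_top _).symm)), j, ?_⟩
      rw [Subgroup.index_comap_of_surjective _ e.surjective, hj]
  by_cases h3 : ∃ p q r : ℕ, p.Prime ∧ q.Prime ∧ r.Prime ∧ p ≠ q ∧ p ≠ r ∧ q ≠ r ∧ p ∣ Nat.card G ∧ q ∣ Nat.card G ∧ r ∣ Nat.card G
  · obtain ⟨p, q, r, hp, hq, hr, hpq, hpr, hqr, dp, dq, dr⟩ := h3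
    obtain ⟨A, hA, a, ea⟩ := sub p hp dp
    obtain ⟨B, hB, b, eb⟩ := sub q hq dq
    obtain ⟨C, hC, c, ec⟩ := sub r hr dr
    refine CfsgLib.Wielandt3.isSolvable _ rfl A B C hA hB hC ?_ ?_ ?_
    · rw [ea, eb]; exact Nat.Coprime.pow _ _ ((Nat.coprime_primes hp hq).mpr hpq)
    · rw [ea, ec]; exact Nat.Coprime.pow _ _ ((Nat.coprime_primes hp hr).mpr hpr)
    · rw [eb, ec]; exact Nat.Coprime.pow _ _ ((Nat.coprime_primes hq hr).mpr hqr)
  push Not at h3
  obtain ⟨p, hp, dp⟩ := Nat.exists_prime_and_dvd (n := Nat.card G) (Finite.one_lt_card (α := G)).ne'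
  have := Fact.mk hp
  set m := Nat.card G / p ^ (Nat.card G).factorization p with hm
  have hpm : Nat.card G = p ^ (Nat.card G).factorization p * m := (Nat.ordProj_mul_ordCompl_eq_self _ p).symm
  have hcop : ¬ p ∣ m := Nat.not_dvd_ordCompl hp Nat.card_pos.ne'
  by_cases hm1 : m = 1
  · rw [hm1, mul_one] at hpm
    haveI := (IsPGroup.of_card hpm).isNilpotent
    infer_instance
  obtain ⟨q, hq, dq⟩ := Nat.exists_prime_and_dvd hm1
  have hmd : m ∣ Nat.card G := Dvd.intro_left _ hpm.symm
  have hpq : p ≠ q := fun e => hcop (e ▸ dq)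
  have hm2 : m = q ^ m.primeFactorsList.length := Nat.eq_prime_pow_of_unique_prime_dvd
    (fun e => hcop (e ▸ dvd_zero p)) fun {r} hr dr => by
      by_contra hne
      exact h3 p q r hp hq hr hpq (fun e => hcop (e ▸ dr)) (Ne.symm hne) dp (dq.trans hmd) (dr.trans hmd)
  exact CfsgLib.CharTheory.isSolvable_of_card_two_primes hp hq (hpm.trans (congrArg _ hm2))

end Cfsg.Agent.S0535
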