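import Cfsg.Statements.S0537
import Mathlib
import Cfsg.Agent.Lib.Solvable.Schmidt
-- import your own Cfsg.Agent.* helpers here

set_option autoImplicit false
open Cfsg

namespace Cfsg.Agent.S0537

/-- A finite non-abelian group in which every proper subgroup is abelian is either of prime-power order, or is generated by a cyclic Sylow p-subgroup and a normal Sylow q-subgroup that is elementary abelian, for distinct primes p and q. -/
theorem result {G : Type*} [Group G] [Finite G] (hna : ¬ IsMulCommutative G) (h : ∀ H : Subgroup G, H ≠ ⊤ → IsMulCommutative H) : (∃ p : ℕ, p.Prime ∧ IsPGroup p G) ∨ ∃ p q : ℕ, p.Prime ∧ q.Prime ∧ p ≠ q ∧ ∃ (P : Sylow p G) (Q : Sylow q G), IsCyclic P ∧ (Q : Subgroup G).Normal ∧ Cfsg.IsElementaryAbelian q (Q : Subgroup G) ∧ (P : Subgroup G) ⊔ Q = ⊤ := by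
    classical
    by_cases hn : Group.IsNilpotent G
    · left
      have hS := ((Group.isNilpotent_of_finite_tfae (G := G)).out 0 3).mp hn
      by_contra hno
      push Not at hno
      -- all Sylow subgroups are proper, hence commutative
      refine hna ?_
      obtain ⟨e⟩ := ((Group.isNilpotent_of_finite_tfae (G := G)).out 0 4 rfl rfl).mp hn
      refine ⟨⟨fun a b => ?_⟩⟩
      suffices h1 : e.symm a * e.symm b = e.symm b * e.symm a by
        have := congrArg e h1
        simpa using this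
      funext q P
      have hq : (q : ℕ).Prime := Nat.prime_of_mem_primeFactors q.2
      have := Fact.mk hq
      have hne : ((P : Sylow (q : ℕ) G) : Subgroup G) ≠ ⊤ := fun htop => hno q hq (by
        have hP := P.isPGroup'
        rw [htop] at hP
        exact hP.of_equiv Subgroup.topEquiv)
      exact (h _ hne).is_comm.comm _ _
    right
    have hG : Cfsg.IsMinimalNonNilpotent G := ⟨hn, fun H hH => by
      have := h H hH
      open scoped IsMulCommutative in exact CommGroup.isNilpotent⟩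
    obtain ⟨p, q, hp, hq, hpq, P, Q, g, hP, hQn, htop, x₀, hx₀, hx₀g⟩ := CfsgLib.Schmidt.schmidt_sylows hG
    have := Fact.mk hp
    have := Fact.mk hq
    refine ⟨p, q, hp, hq, hpq, P, Q, ?_, hQn, ?_, htop⟩
    · have h : IsCyclic (Subgroup.zpowers g) := inferInstance
      exact isCyclic_of_surjective (MulEquiv.subgroupCongr hP.symm) (MulEquiv.surjective _)
    have hgP : g ∈ (P : Subgroup G) := hP ▸ Subgroup.mem_zpowers g
    have hQtop : (Q : Subgroup G) ≠ ⊤ := fun e => hn (by
      have hq' := Q.isPGroup'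
      rw [e] at hq'
      exact (hq'.of_equiv Subgroup.topEquiv).isNilpotent)
    have hQc := h _ hQtop
    have hcomm : ∀ {u v}, u ∈ (Q : Subgroup G) → v ∈ (Q : Subgroup G) → u * v = v * u := fun {u v} hu hv =>
      congrArg Subtype.val (hQc.is_comm.comm (⟨u, hu⟩ : (Q : Subgroup G)) ⟨v, hv⟩)
    -- proper `g`-invariant subgroups of `Q` are centralised by `g`
    have hinvc : ∀ R : Subgroup G, R ≤ (Q : Subgroup G) → R ≠ (Q : Subgroup G) → (∀ r ∈ R, g * r * g⁻¹ ∈ R) → ∀ r ∈ R, r * g = g * r := by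
      intro R hRQ hRne hinv r hr
      have hgN : g ∈ Subgroup.normalizer (R : Set G) := by
        rw [Subgroup.mem_normalizer_iff]
        intro y
        refine ⟨hinv y, fun hy => ?_⟩
        have hn : ∀ n : ℕ, ∀ z ∈ R, g ^ n * z * (g ^ n)⁻¹ ∈ R := by
          intro n
          induction n with
          | zero => intro z hz; simpa using hz
          | succ n ih =>
            intro z hz
            have := hinv _ (ih z hz)
            rwa [show g * (g ^ n * z * (g ^ n)⁻¹) * g⁻¹ = g ^ (n + 1) * z * (g ^ (n + 1))⁻¹ by rw [pow_succ']; group] at this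
        have h1 := hn (orderOf g - 1) _ hy
        have h2 : g ^ (orderOf g - 1) * g = 1 := by rw [← pow_succ, Nat.sub_add_cancel (orderOf_pos g), pow_orderOf_eq_one]
        rw [eq_inv_of_mul_eq_one_left h2] at h1
        simpa [mul_assoc] using h1
      have hne : R ⊔ Subgroup.zpowers g ≠ ⊤ := by
        intro htop'
        refine hRne (le_antisymm hRQ fun y hy => ?_)
        have hy' : y ∈ R ⊔ Subgroup.zpowers g := htop' ▸ Subgroup.mem_top y
        rw [← SetLike.mem_coe, Subgroup.coe_mul_of_right_le_normalizer_left R (Subgroup.zpowers g) (Subgroup.zpowers_le.mpr hgN)] at hy'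
        obtain ⟨r', hr', z, hz, rfl⟩ := hy'
        have hzQ : z ∈ (Q : Subgroup G) := by
          have := mul_mem (inv_mem (hRQ hr')) hy
          rwa [inv_mul_cancel_left] at this
        have hz1 : z = 1 := by
          have hd : (P : Subgroup G) ⊓ Q = ⊥ := by
            obtain ⟨a, ha⟩ := IsPGroup.iff_card.mp P.isPGroup'
            obtain ⟨b, hb⟩ := IsPGroup.iff_card.mp Q.isPGroup'
            exact Subgroup.inf_eq_bot_of_coprime (by rw [ha, hb]; exact Nat.coprime_pow_primes a b hp hq hpq)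
          exact Subgroup.mem_bot.mp (hd ▸ (⟨hP.symm ▸ hz, hzQ⟩ : z ∈ (P : Subgroup G) ⊓ Q))
        show r' * z ∈ R
        rw [hz1, mul_one]; exact hr'
      exact congrArg Subtype.val ((h _ hne).is_comm.comm
        (⟨r, Subgroup.mem_sup_left hr⟩ : (R ⊔ Subgroup.zpowers g : Subgroup G)) ⟨g, Subgroup.mem_sup_right (Subgroup.mem_zpowers g)⟩)
    have hgmem : ∀ {u}, u ∈ (Q : Subgroup G) → g * u * g⁻¹ ∈ (Q : Subgroup G) := fun {u} hu => hQn.conj_mem u hu g
    let R1 : Subgroup G :=
      { carrier := {z | ∃ u ∈ (Q : Subgroup G), z = u ^ q}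
        one_mem' := ⟨1, one_mem _, (one_pow q).symm⟩
        mul_mem' := fun {a b} ⟨u, hu, hua⟩ ⟨v, hv, hvb⟩ => ⟨u * v, mul_mem hu hv, by
          rw [hua, hvb, (show Commute u v from hcomm hu hv).mul_pow]⟩
        inv_mem' := fun {a} ⟨u, hu, hua⟩ => ⟨u⁻¹, inv_mem hu, by rw [hua, inv_pow]⟩ }
    let R2 : Subgroup G :=
      { carrier := {z | z ∈ (Q : Subgroup G) ∧ z ^ q = 1}
        one_mem' := ⟨one_mem _, one_pow q⟩
        mul_mem' := fun {a b} ha hb => ⟨mul_mem ha.1 hb.1, by
          rw [(show Commute a b from hcomm ha.1 hb.1).mul_pow, ha.2, hb.2, one_mul]⟩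
        inv_mem' := fun {a} ha => ⟨inv_mem ha.1, by rw [inv_pow, ha.2, inv_one]⟩ }
    refine ⟨hQc, fun a ha => ?_⟩
    by_contra haq
    have hR2 : R2 ≠ (Q : Subgroup G) := fun e => haq (show a ∈ R2 from e.symm ▸ ha).2
    have hR1 : R1 ≠ (Q : Subgroup G) := by
      intro e
      let f : ↥(Q : Subgroup G) → ↥(Q : Subgroup G) := fun u => u ^ q
      have hs : Function.Surjective f := fun z => by
        obtain ⟨u, hu, hue⟩ := (e.symm ▸ z.2 : (z : G) ∈ R1)
        exact ⟨⟨u, hu⟩, Subtype.ext (by simp [f, hue])⟩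
      have hi := Finite.injective_iff_surjective.mpr hs
      have hQ1 : (Q : Subgroup G) ≠ ⊥ := fun hb => by
        rw [hb, Subgroup.mem_bot] at hx₀; rw [hx₀, one_mul, mul_one] at hx₀g; exact hx₀g rfl
      obtain ⟨b, hb⟩ := IsPGroup.iff_card.mp Q.isPGroup'
      have hb0 : b ≠ 0 := fun h0 => hQ1 (Subgroup.card_eq_one.mp (by rw [hb, h0, pow_zero]))
      obtain ⟨w, hw⟩ := exists_prime_orderOf_dvd_card' (G := (Q : Subgroup G)) q (hb ▸ dvd_pow_self q hb0)
      have h1 : f w = f 1 := by simp only [f, one_pow]; exact orderOf_dvd_iff_pow_eq_one.mp hw.dvd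
      rw [hi h1, orderOf_one] at hw
      exact hq.ne_one hw.symm
    have c1 := hinvc R1 (fun z ⟨u, hu, hz⟩ => hz ▸ pow_mem hu q) hR1 (fun z ⟨u, hu, hz⟩ => ⟨g * u * g⁻¹, hgmem hu, by
      rw [conj_pow, hz]⟩)
    have c2 := hinvc R2 (fun z hz => hz.1) hR2 (fun z hz => ⟨hgmem hz.1, by rw [conj_pow, hz.2, mul_one, mul_inv_cancel]⟩)
    -- the commutator with `g` is killed by `q` and by the order of `g`
    refine hx₀g ?_
    set c := g * x₀ * g⁻¹ * x₀⁻¹ with hc
    have hcQ : c ∈ (Q : Subgroup G) := mul_mem (hgmem hx₀) (inv_mem hx₀)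
    have hcq : c ^ q = 1 := by
      rw [hc, (show Commute (g * x₀ * g⁻¹) x₀⁻¹ from hcomm (hgmem hx₀) (inv_mem hx₀)).mul_pow, conj_pow, inv_pow,
        ← c1 (x₀ ^ q) ⟨x₀, hx₀, rfl⟩, mul_inv_cancel_right, mul_inv_cancel]
    have hcg := c2 c ⟨hcQ, hcq⟩
    have hiter : ∀ n : ℕ, g ^ n * x₀ * (g ^ n)⁻¹ = c ^ n * x₀ := by
      intro n
      induction n with
      | zero => simp
      | succ n ih =>
        calc g ^ (n + 1) * x₀ * (g ^ (n + 1))⁻¹ = g * (g ^ n * x₀ * (g ^ n)⁻¹) * g⁻¹ := by rw [pow_succ']; group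
          _ = (g * c ^ n * g⁻¹) * (g * x₀ * g⁻¹) := by rw [ih]; group
          _ = c ^ n * (c * x₀) := by
            rw [((show Commute c g from hcg).pow_left n).symm.eq, mul_inv_cancel_right, hc]; simp [mul_assoc]
          _ = _ := by rw [pow_succ]; exact (mul_assoc _ _ _).symm
    have hord := hiter (orderOf g)
    rw [pow_orderOf_eq_one, inv_one, one_mul, mul_one] at hord
    have hcn : c ^ orderOf g = 1 := mul_right_cancel (b := x₀) (by rw [one_mul]; exact hord.symm)
    obtain ⟨a', ha'⟩ := IsPGroup.iff_orderOf.mp P.isPGroup' ⟨g, hgP⟩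
    rw [Subgroup.orderOf_mk] at ha'
    have hc1 : c = 1 := by
      rw [← orderOf_eq_one_iff]
      exact Nat.eq_one_of_dvd_coprimes (((Nat.coprime_primes hp hq).mpr hpq).pow_left a') (ha' ▸ orderOf_dvd_of_pow_eq_one hcn)
        (orderOf_dvd_of_pow_eq_one hcq)
    rw [hc1] at hc
    calc x₀ * g = (g * x₀ * g⁻¹ * x₀⁻¹) * x₀ * g := by rw [← hc, one_mul]
      _ = g * x₀ := by group

end Cfsg.Agent.S0537
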