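import Cfsg.Statements.S0539
import Cfsg.Agent.Lib.Subnormal
-- import your own Cfsg.Agent.* helpers here

set_option autoImplicit false
open Pointwise
open Cfsg

namespace Cfsg.Agent.S0539

open scoped Pointwise
universe u

theorem aux {G : Type u} [Group G] [Finite G] (L : Subgroup G) :
    ∀ (S S₀ : Set (Subgroup G)), (∀ U ∈ S, U ≤ L) → (∀ U ∈ S, U.IsSubnormal) →
      (∀ U ∈ S, ∀ g ∈ L, MulAut.conj g • U ∈ S) → S₀ ⊂ S →
      ∃ X ∈ S, X ∉ S₀ ∧ X ≤ Subgroup.normalizer ((sSup S₀ : Subgroup G) : Set G) := by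
  induction L using WellFoundedLT.induction with
  | ind L ih =>
    intro S S₀ hle hsn hconj h₀
    set J := (sSup S₀ : Subgroup G) with hJ
    have hJL : J ≤ L := sSup_le fun U hU => hle U (h₀.1 hU)
    have hJsn : J.IsSubnormal := CfsgLib.sSup_prop_of_closed_sup (fun A : Subgroup G => A.IsSubnormal)
      Subgroup.IsSubnormal.bot (fun _ _ => CfsgLib.isSubnormal_sup) fun U hU => hsn U (h₀.1 hU)
    obtain ⟨X, hX, hX0⟩ := Set.exists_of_ssubset h₀
    by_cases hLn : L ≤ Subgroup.normalizer (J : Set G)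
    · exact ⟨X, hX, hX0, (hle X hX).trans hLn⟩
    -- a proper normal subgroup of `L` containing `J`
    have hne : J.subgroupOf L ≠ ⊤ := fun e => hLn (by
      rw [le_antisymm hJL (Subgroup.subgroupOf_eq_top.mp e)]
      exact Subgroup.le_normalizer)
    obtain ⟨K, hKn, hJK, hKlt⟩ := (hJsn.subgroupOf (K := L)).lt_normal.resolve_left hne
    set M := K.map L.subtype with hM
    have hMlt : M < L := by
      refine lt_of_le_of_ne (Subgroup.map_subtype_le K) fun e => hKlt.ne ?_
      rw [← Subgroup.comap_map_eq_self_of_injective L.subtype_injective K, ← hM, e]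
      exact Subgroup.subgroupOf_self L
    have hMn : ∀ g ∈ L, ∀ x ∈ M, g * x * g⁻¹ ∈ M := by
      rintro g hg _ ⟨k, hk, rfl⟩
      exact ⟨⟨g, hg⟩ * k * ⟨g, hg⟩⁻¹, hKn.conj_mem k hk ⟨g, hg⟩, rfl⟩
    have hS₀M : ∀ U ∈ S₀, U ≤ M := fun U hU x hx =>
      ⟨⟨x, hle U (h₀.1 hU) hx⟩, hJK (le_sSup hU hx : x ∈ J), rfl⟩
    have hconjM : ∀ g ∈ L, ∀ U : Subgroup G, U ≤ M → MulAut.conj g • U ≤ M := by
      intro g hg U hU x hx
      rw [Subgroup.mem_pointwise_smul_iff_inv_smul_mem] at hx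
      have h2 := hMn g hg _ (hU hx)
      simpa [MulAut.smul_def, MulAut.conj_apply, mul_assoc] using h2
    set S' := {U ∈ S | U ≤ M} with hS'
    have hsub : S₀ ⊆ S' := fun U hU => ⟨h₀.1 hU, hS₀M U hU⟩
    by_cases hlt : S₀ ⊂ S'
    · obtain ⟨Y, hY, hY0, hYn⟩ := ih M hMlt S' S₀ (fun U hU => hU.2) (fun U hU => hsn U hU.1)
        (fun U hU g hg => ⟨hconj U hU.1 g (hMlt.le hg), hconjM g (hMlt.le hg) U hU.2⟩) hlt
      exact ⟨Y, hY.1, hY0, hYn⟩
    · exfalso
      have heq : S₀ = S' := hsub.eq_or_ssubset.resolve_right hlt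
      refine hLn fun g hg => ?_
      have key : ∀ g ∈ L, MulAut.conj g • J ≤ J := fun g hg => by
        rw [Subgroup.pointwise_smul_subset_iff]
        refine sSup_le fun U hU => ?_
        rw [← Subgroup.pointwise_smul_subset_iff]
        refine le_sSup ?_
        rw [heq] at hU ⊢
        exact ⟨hconj U hU.1 g hg, hconjM g hg U hU.2⟩
      rw [Subgroup.mem_normalizer_iff]
      intro x
      constructor
      · intro hx
        exact key g hg (Subgroup.smul_mem_pointwise_smul x _ J hx)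
      · intro hx
        have := key g⁻¹ (L.inv_mem hg) (Subgroup.smul_mem_pointwise_smul _ (MulAut.conj g⁻¹) J hx)
        simpa [MulAut.smul_def, MulAut.conj_apply, mul_assoc] using this

/-- Let S be a family of subnormal subgroups of a finite group that is closed under conjugation, and S₀ a proper subfamily. Then some member of S not in S₀ normalizes the join of S₀. -/
theorem result {G : Type*} [Group G] [Finite G] (S S₀ : Set (Subgroup G)) (hS : ∀ U ∈ S, U.IsSubnormal) (hconj : ∀ U ∈ S, ∀ g : G, MulAut.conj g • U ∈ S) (h₀ : S₀ ⊂ S) : ∃ X ∈ S, X ∉ S₀ ∧ X ≤ Subgroup.normalizer ((sSup S₀ : Subgroup G) : Set G) := by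
  exact aux ⊤ S S₀ (fun _ _ => le_top) hS (fun U hU g _ => hconj U hU g) h₀

end Cfsg.Agent.S0539
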