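import Cfsg.Statements.S0540
import Cfsg.Agent.Lib.Subnormal
-- import your own Cfsg.Agent.* helpers here

set_option autoImplicit false
open Pointwise
open Cfsg

namespace Cfsg.Agent.S0540

open scoped Pointwise
universe u

theorem aux {G : Type u} [Group G] [Finite G] (L : Subgroup G) :
    ∀ (S S₀ : Set (Subgroup G)), (∀ U ∈ S, U ≤ L) → (∀ U ∈ S, U.IsSubnormal) →
      (∀ U ∈ S, ∀ g ∈ L, MulAut.conj g • U ∈ S) → S₀ ⊂ S →
      ∃ X ∈ S, X ∉ S₀ ∧ X ≤ Subgroup.normalizer ((sSup S₀ : Subgroup G) : Set G) := by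
  induction L using WellFoundedLT.induction with
  | ind L ih =>
    intro S S₀ hle hsn hconj h₀
    set J := (sSup S₀ : Subgroup G) with hJ
    have hJL : J ≤ L := sSup_le fun U hU => hle U (h₀.1 hU)
    have hJsn : J.IsSubnormal := CfsgLib.sSup_prop_of_closed_sup (fun A : Subgroup G => A.IsSubnormal)
      Subgroup.IsSubnormal.bot (fun _ _ => CfsgLib.isSubnormal_sup) fun U hU => hsn U (h₀.1 hU)
    obtain ⟨X, hX, hX0⟩ := Set.exists_of_ssubset h₀
    by_cases hLn : L ≤ Subgroup.normalizer (J : Set G)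
    · exact ⟨X, hX, hX0, (hle X hX).trans hLn⟩
    -- a proper normal subgroup of `L` containing `J`
    have hne : J.subgroupOf L ≠ ⊤ := fun e => hLn (by
      rw [le_antisymm hJL (Subgroup.subgroupOf_eq_top.mp e)]
      exact Subgroup.le_normalizer)
    obtain ⟨K, hKn, hJK, hKlt⟩ := (hJsn.subgroupOf (K := L)).lt_normal.resolve_left hne
    set M := K.map L.subtype with hM
    have hMlt : M < L := by
      refine lt_of_le_of_ne (Subgroup.map_subtype_le K) fun e => hKlt.ne ?_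
      rw [← Subgroup.comap_map_eq_self_of_injective L.subtype_injective K, ← hM, e]
      exact Subgroup.subgroupOf_self L
    have hMn : ∀ g ∈ L, ∀ x ∈ M, g * x * g⁻¹ ∈ M := by
      rintro g hg _ ⟨k, hk, rfl⟩
      exact ⟨⟨g, hg⟩ * k * ⟨g, hg⟩⁻¹, hKn.conj_mem k hk ⟨g, hg⟩, rfl⟩
    have hS₀M : ∀ U ∈ S₀, U ≤ M := fun U hU x hx =>
      ⟨⟨x, hle U (h₀.1 hU) hx⟩, hJK (le_sSup hU hx : x ∈ J), rfl⟩
    have hconjM : ∀ g ∈ L, ∀ U : Subgroup G, U ≤ M → MulAut.conj g • U ≤ M := by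
      intro g hg U hU x hx
      rw [Subgroup.mem_pointwise_smul_iff_inv_smul_mem] at hx
      have h2 := hMn g hg _ (hU hx)
      simpa [MulAut.smul_def, MulAut.conj_apply, mul_assoc] using h2
    set S' := {U ∈ S | U ≤ M} with hS'
    have hsub : S₀ ⊆ S' := fun U hU => ⟨h₀.1 hU, hS₀M U hU⟩
    by_cases hlt : S₀ ⊂ S'
    · obtain ⟨Y, hY, hY0, hYn⟩ := ih M hMlt S' S₀ (fun U hU => hU.2) (fun U hU => hsn U hU.1)
        (fun U hU g hg => ⟨hconj U hU.1 g (hMlt.le hg), hconjM g (hMlt.le hg) U hU.2⟩) hlt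
      exact ⟨Y, hY.1, hY0, hYn⟩
    · exfalso
      have heq : S₀ = S' := hsub.eq_or_ssubset.resolve_right hlt
      refine hLn fun g hg => ?_
      have key : ∀ g ∈ L, MulAut.conj g • J ≤ J := fun g hg => by
        rw [Subgroup.pointwise_smul_subset_iff]
        refine sSup_le fun U hU => ?_
        rw [← Subgroup.pointwise_smul_subset_iff]
        refine le_sSup ?_
        rw [heq] at hU ⊢
        exact ⟨hconj U hU.1 g hg, hconjM g hg U hU.2⟩
      rw [Subgroup.mem_normalizer_iff]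
      intro x
      constructor
      · intro hx
        exact key g hg (Subgroup.smul_mem_pointwise_smul x _ J hx)
      · intro hx
        have := key g⁻¹ (L.inv_mem hg) (Subgroup.smul_mem_pointwise_smul _ (MulAut.conj g⁻¹) J hx)
        simpa [MulAut.smul_def, MulAut.conj_apply, mul_assoc] using this

theorem smul_subgroupOf {G : Type u} [Group G] {M B : Subgroup G} (m : M) :
    MulAut.conj m • B.subgroupOf M = (MulAut.conj (m : G) • B).subgroupOf M := by
  ext x
  rw [Subgroup.mem_subgroupOf, Subgroup.mem_pointwise_smul_iff_inv_smul_mem,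
    Subgroup.mem_pointwise_smul_iff_inv_smul_mem, Subgroup.mem_subgroupOf]
  simp [MulAut.smul_def]

/-- A uniqueness lemma of zipper type. Let A be a subgroup of a finite group G and U a nonempty family of subgroups. For V in U write S(V) for the set of conjugates of A that lie in V and are subnormal in V. Assume: A belongs to S(V) for every V in U; a member of some S(W) that lies in V belongs to S(V); and for all V, W in U the normalizer of the join of S(V) ∩ S(W) lies in some member of U. Then U has a greatest element. -/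
theorem result {G : Type*} [Group G] [Finite G] (A : Subgroup G) (U : Set (Subgroup G)) (hU : U.Nonempty) (S : Subgroup G → Set (Subgroup G)) (hS : ∀ V B : Subgroup G, B ∈ S V ↔ (∃ g : G, B = MulAut.conj g • A) ∧ B ≤ V ∧ (B.subgroupOf V).IsSubnormal) (h1 : ∀ V ∈ U, A ∈ S V) (h2 : ∀ V ∈ U, ∀ W ∈ U, ∀ B ∈ S W, B ≤ V → B ∈ S V) (h3 : ∀ V ∈ U, ∀ W ∈ U, ∃ X ∈ U, Subgroup.normalizer ((sSup (S V ∩ S W) : Subgroup G) : Set G) ≤ X) : ∃ M ∈ U, ∀ V ∈ U, V ≤ M := by
  classical
  have hclosed : ∀ V : Subgroup G, ∀ B ∈ S V, ∀ v ∈ V, MulAut.conj v • B ∈ S V := by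
    intro V B hB v hv
    obtain ⟨⟨g, rfl⟩, hle, hsn⟩ := (hS V B).mp hB
    refine (hS V _).mpr ⟨⟨v * g, by rw [map_mul, ← smul_smul]⟩, ?_, ?_⟩
    · intro x hx
      rw [Subgroup.mem_pointwise_smul_iff_inv_smul_mem] at hx
      have h := V.mul_mem (V.mul_mem hv (hle hx)) (V.inv_mem hv)
      simpa [MulAut.smul_def, MulAut.conj_apply, mul_assoc] using h
    · rw [← smul_subgroupOf (⟨v, hv⟩ : V)]
      exact hsn.smul _
  have hnormV : ∀ V : Subgroup G, V ≤ Subgroup.normalizer ((sSup (S V) : Subgroup G) : Set G) := by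
    intro V v hv
    have key : ∀ v ∈ V, MulAut.conj v • (sSup (S V) : Subgroup G) ≤ sSup (S V) := fun v hv => by
      rw [Subgroup.pointwise_smul_subset_iff]
      refine sSup_le fun B hB => ?_
      rw [← Subgroup.pointwise_smul_subset_iff]
      exact le_sSup (hclosed V B hB v hv)
    rw [Subgroup.mem_normalizer_iff]
    intro x
    constructor
    · intro hx
      exact key v hv (Subgroup.smul_mem_pointwise_smul x _ _ hx)
    · intro hx
      have := key v⁻¹ (V.inv_mem hv) (Subgroup.smul_mem_pointwise_smul _ (MulAut.conj v⁻¹) _ hx)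
      simpa [MulAut.smul_def, MulAut.conj_apply, mul_assoc] using this
  -- maximal members of `U`
  have hmaxex : ∀ V ∈ U, ∃ M, V ≤ M ∧ Maximal (· ∈ U) M := fun V hV =>
    Finite.exists_le_maximal (p := (· ∈ U)) hV
  obtain ⟨V₀, hV₀⟩ := hU
  obtain ⟨M₀, -, hM₀⟩ := hmaxex V₀ hV₀
  suffices huniq : ∀ M W, Maximal (· ∈ U) M → Maximal (· ∈ U) W → M = W by
    refine ⟨M₀, hM₀.prop, fun V hV => ?_⟩
    obtain ⟨M, hVM, hM⟩ := hmaxex V hV
    exact huniq M M₀ hM hM₀ ▸ hVM
  intro M W hM hW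
  by_contra hne
  obtain ⟨S₀, -, hS₀max⟩ := Finite.exists_le_maximal
    (p := fun T : Set (Subgroup G) => ∃ M W, Maximal (· ∈ U) M ∧ Maximal (· ∈ U) W ∧ M ≠ W ∧ T = S M ∩ S W)
    (a := S M ∩ S W) ⟨M, W, hM, hW, hne, rfl⟩
  obtain ⟨M, W, hM, hW, hne, rfl⟩ := hS₀max.prop
  obtain ⟨X, hX, hNX⟩ := h3 M hM.prop W hW.prop
  obtain ⟨X', hXX', hX'⟩ := hmaxex X hX
  have hJX : ∀ B ∈ S M ∩ S W, B ≤ X' := fun B hB =>
    (le_sSup hB).trans (Subgroup.le_normalizer.trans (hNX.trans hXX'))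
  have main : ∀ M₁ : Subgroup G, Maximal (· ∈ U) M₁ → S M ∩ S W ⊂ S M₁ → X' = M₁ := by
    intro M₁ hM₁ hlt
    by_contra hne'
    -- apply the previous lemma inside `M₁`
    obtain ⟨B, hB, hB0, hBn⟩ := aux (⊤ : Subgroup M₁) ((fun B : Subgroup G => B.subgroupOf M₁) '' S M₁)
      ((fun B : Subgroup G => B.subgroupOf M₁) '' (S M ∩ S W)) (fun _ _ => le_top)
      (by rintro _ ⟨B, hB, rfl⟩; exact ((hS M₁ B).mp hB).2.2)
      (by
        rintro _ ⟨B, hB, rfl⟩ m -
        exact ⟨_, hclosed M₁ B hB m m.2, (smul_subgroupOf m).symm⟩)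
      (by
        refine Set.ssubset_iff_subset_ne.mpr ⟨Set.image_mono hlt.subset, fun e => hlt.ne ?_⟩
        refine hlt.subset.antisymm fun B hB => ?_
        obtain ⟨C, hC, hCB⟩ : B.subgroupOf M₁ ∈ (fun B : Subgroup G => B.subgroupOf M₁) '' (S M ∩ S W) := e ▸ ⟨B, hB, rfl⟩
        have hCle := ((hS M₁ C).mp (hlt.subset hC)).2.1
        have hBle := ((hS M₁ B).mp hB).2.1
        have h := congrArg (Subgroup.map M₁.subtype) hCB
        rw [Subgroup.map_subgroupOf_eq_of_le hCle, Subgroup.map_subgroupOf_eq_of_le hBle] at h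
        exact h ▸ hC)
    obtain ⟨B, hB, rfl⟩ := hB
    have hBle := ((hS M₁ B).mp hB).2.1
    have hBX : B ≤ X' := by
      refine le_trans ?_ (hNX.trans hXX')
      intro b hb
      have h := hBn (show (⟨b, hBle hb⟩ : M₁) ∈ B.subgroupOf M₁ from hb)
      have hSle : sSup (S M ∩ S W) ≤ M₁ := sSup_le fun C hC => ((hS M₁ C).mp (hlt.subset hC)).2.1
      have hmap : (sSup ((fun B : Subgroup G => B.subgroupOf M₁) '' (S M ∩ S W))).map M₁.subtype = sSup (S M ∩ S W) := by
        rw [sSup_image, Subgroup.map_iSup, sSup_eq_iSup]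
        refine iSup_congr fun C => ?_
        rw [Subgroup.map_iSup]
        exact iSup_congr fun hC => Subgroup.map_subgroupOf_eq_of_le ((hS M₁ C).mp (hlt.subset hC)).2.1
      rw [← hmap]
      exact Subgroup.le_normalizer_map M₁.subtype ⟨_, h, rfl⟩
    have hsub : insert B (S M ∩ S W) ⊆ S M₁ ∩ S X' := by
      rintro C (rfl | hC)
      · exact ⟨hB, h2 X' hX'.prop M₁ hM₁.prop C hB hBX⟩
      · exact ⟨hlt.subset hC, h2 X' hX'.prop M hM.prop C hC.1 (hJX C hC)⟩
    have h5 := hS₀max.2 ⟨M₁, X', hM₁, hX', Ne.symm hne', rfl⟩ ((Set.subset_insert _ _).trans hsub)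
    exact hB0 ⟨B, h5 (hsub (Set.mem_insert _ _)), rfl⟩
  have hcases : ∀ M₁ : Subgroup G, Maximal (· ∈ U) M₁ → S M ∩ S W ⊆ S M₁ → X' = M₁ := by
    intro M₁ hM₁ hsub
    rcases hsub.eq_or_ssubset with e | hlt
    · exact (hM₁.eq_of_le hX'.prop ((hnormV M₁).trans (e ▸ hNX.trans hXX'))).symm
    · exact main M₁ hM₁ hlt
  exact hne ((hcases M hM Set.inter_subset_left).symm.trans (hcases W hW Set.inter_subset_right))

end Cfsg.Agent.S0540
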