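import Cfsg.Statements.S0541
import Mathlib
-- import your own Cfsg.Agent.* helpers here

set_option autoImplicit false
open Pointwise
open Cfsg

namespace Cfsg.Agent.S0541

open scoped Pointwise

private theorem smul_iSup_le {G : Type*} [Group G] (x : G) (S : Set G) (Z : Subgroup G) :
    MulAut.conj x • (⨆ g ∈ S, MulAut.conj g • Z : Subgroup G) ≤ ⨆ g ∈ (x * ·) '' S, MulAut.conj g • Z := by
  rw [Subgroup.pointwise_smul_subset_iff]
  refine iSup₂_le fun g hg => ?_
  rw [Subgroup.subset_pointwise_smul_iff, inv_inv, ← mul_smul, ← map_mul]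
  exact le_iSup₂ (f := fun g (_ : g ∈ (x * ·) '' S) => MulAut.conj g • Z) (x * g) ⟨g, hg, rfl⟩

/-- Let Z and Y be subgroups of a finite group G and p a prime. Suppose that for every g in G the subgroup generated by the conjugates of g Z g⁻¹ under Y is a p-group. Then there is a Sylow p-subgroup P of G such that Y normalizes the subgroup generated by all conjugates of Z contained in P. -/
theorem result {G : Type*} [Group G] [Finite G] (p : ℕ) [Fact p.Prime] (Z Y : Subgroup G) (h : ∀ g : G, IsPGroup p ↥(⨆ y ∈ Y, MulAut.conj (y * g) • Z)) : ∃ P : Sylow p G, Y ≤ Subgroup.normalizer ((⨆ g ∈ {g : G | MulAut.conj g • Z ≤ (P : Subgroup G)}, MulAut.conj g • Z : Subgroup G) : Set G) := by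
  classical
  let W : Set G → Subgroup G := fun S => ⨆ g ∈ S, MulAut.conj g • Z
  let F : Set (Set G) := {S | (∀ y ∈ Y, ∀ g ∈ S, y * g ∈ S) ∧ IsPGroup p (W S)}
  have hmono : ∀ {S T : Set G}, S ⊆ T → W S ≤ W T := fun h => biSup_mono h
  have hF0 : (∅ : Set G) ∈ F := ⟨fun y _ g hg => hg.elim, by
    show IsPGroup p (⨆ g ∈ (∅ : Set G), MulAut.conj g • Z : Subgroup G)
    rw [iSup_emptyset]; exact IsPGroup.of_bot⟩
  obtain ⟨S, hS⟩ := (Set.toFinite F).exists_maximal ⟨∅, hF0⟩
  have hSmax : ∀ T ∈ F, S ⊆ T → T ⊆ S := fun T hT h => hS.2 hT h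
  have hYW : ∀ y ∈ Y, MulAut.conj y • W S ≤ W S := fun y hy =>
    (smul_iSup_le y S Z).trans (hmono (by rintro _ ⟨g, hg, rfl⟩; exact hS.1.1 y hy g hg))
  have hYn : Y ≤ Subgroup.normalizer (W S : Set G) := fun y hy => Subgroup.mem_normalizer_iff.mpr fun w => by
    constructor
    · intro hw
      exact hYW y hy (Subgroup.smul_mem_pointwise_smul w (MulAut.conj y) _ hw)
    · intro hw
      have := hYW y⁻¹ (inv_mem hy) (Subgroup.smul_mem_pointwise_smul _ (MulAut.conj y⁻¹) _ hw)
      rw [show MulAut.conj y⁻¹ • (y * w * y⁻¹) = w by simp [MulAut.smul_def, mul_assoc]] at this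
      exact this
  have hfull : ∀ g, MulAut.conj g • Z ≤ W S → g ∈ S := fun g hg => by
    refine hSmax {g | MulAut.conj g • Z ≤ W S} ⟨fun y hy g hg => ?_, hS.1.2.to_le (iSup₂_le fun g hg => hg)⟩
      (fun g hg => le_iSup₂ (f := fun g (_ : g ∈ S) => MulAut.conj g • Z) g hg) hg
    show MulAut.conj (y * g) • Z ≤ W S
    rw [map_mul, mul_smul]
    exact (Subgroup.pointwise_smul_le_pointwise_smul_iff.mpr hg).trans (hYW y hy)
  obtain ⟨P, hP⟩ := hS.1.2.exists_le_sylow
  refine ⟨P, ?_⟩
  set T := {g : G | MulAut.conj g • Z ≤ (P : Subgroup G)} with hT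
  have hST : S ⊆ T := fun g hg => (le_iSup₂ (f := fun g (_ : g ∈ S) => MulAut.conj g • Z) g hg).trans hP
  set R := (P : Subgroup G) ⊓ Subgroup.normalizer (W S : Set G) with hR
  have hkey : ∀ g, MulAut.conj g • Z ≤ R → g ∈ S := by
    by_contra hcon
    push Not at hcon
    obtain ⟨g0, hg0, hg0S⟩ := hcon
    let T0 : Subgroup G := ⨆ y ∈ Y, MulAut.conj (y * g0) • Z
    have hT0 : T0 ≤ Subgroup.normalizer (W S : Set G) := iSup₂_le fun y hy => by
      rw [map_mul, mul_smul, Subgroup.pointwise_smul_subset_iff]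
      refine (hg0.trans inf_le_right).trans fun n hn => ?_
      rw [Subgroup.mem_inv_pointwise_smul_iff]
      exact mul_mem (mul_mem (hYn hy) hn) (inv_mem (hYn hy))
    let O : Set G := (· * g0) '' (Y : Set G)
    have hmem : S ∪ O ∈ F := by
      refine ⟨?_, ?_⟩
      · rintro y hy g (hg | ⟨y', hy', rfl⟩)
        · exact Or.inl (hS.1.1 y hy g hg)
        · exact Or.inr ⟨y * y', mul_mem hy hy', mul_assoc _ _ _⟩
      · refine ((h g0).to_sup_of_normal_right' hS.1.2 hT0).to_le (iSup₂_le ?_)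
        rintro g (hg | ⟨y', hy', rfl⟩)
        · exact (le_iSup₂ (f := fun g (_ : g ∈ S) => MulAut.conj g • Z) g hg).trans le_sup_right
        · exact (le_iSup₂ (f := fun y (_ : y ∈ Y) => MulAut.conj (y * g0) • Z) y' hy').trans le_sup_left
    exact hg0S (hSmax _ hmem Set.subset_union_left (Or.inr ⟨1, Y.one_mem, one_mul g0⟩))
  have hWR : W S ≤ R := le_inf hP Subgroup.le_normalizer
  have hRP : R = P := by
    by_contra hne
    haveI : Group.IsNilpotent (P : Subgroup G) := P.2.isNilpotent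
    have hlt : R.subgroupOf P < ⊤ := lt_top_iff_ne_top.mpr fun e => hne (le_antisymm inf_le_left (Subgroup.subgroupOf_eq_top.mp e))
    obtain ⟨x, hx, hxR⟩ := SetLike.exists_of_lt (Group.normalizerCondition_of_isNilpotent _ hlt)
    refine hxR (show (x : G) ∈ R from Subgroup.mem_inf.mpr ⟨x.2, ?_⟩)
    have hconj : ∀ z : (P : Subgroup G), z ∈ Subgroup.normalizer (R.subgroupOf P : Set (P : Subgroup G)) → MulAut.conj (z : G) • W S ≤ W S := by
      intro z hz
      refine (smul_iSup_le (z : G) S Z).trans (hmono ?_)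
      rintro _ ⟨g, hg, rfl⟩
      refine hkey _ ?_
      show MulAut.conj ((z : G) * g) • Z ≤ R
      rw [map_mul, mul_smul, Subgroup.pointwise_smul_subset_iff]
      refine ((le_iSup₂ (f := fun g (_ : g ∈ S) => MulAut.conj g • Z) g hg).trans hWR).trans fun n hn => ?_
      rw [Subgroup.mem_inv_pointwise_smul_iff]
      exact (Subgroup.mem_normalizer_iff.mp hz ⟨n, hn.1⟩).mp hn
    refine Subgroup.mem_normalizer_iff.mpr fun w => ⟨fun hw => hconj x hx (Subgroup.smul_mem_pointwise_smul w (MulAut.conj (x : G)) _ hw), fun hw => ?_⟩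
    have := hconj x⁻¹ (inv_mem hx) (Subgroup.smul_mem_pointwise_smul _ (MulAut.conj ((x⁻¹ : (P : Subgroup G)) : G)) _ hw)
    rw [show MulAut.conj ((x⁻¹ : (P : Subgroup G)) : G) • ((x : G) * w * (x : G)⁻¹) = w by simp [MulAut.smul_def, mul_assoc]] at this
    exact this
  have hTS : T = S := Set.Subset.antisymm (fun g hg => hkey g (by rw [hRP]; exact hg)) hST
  rw [hTS]
  exact hYn

end Cfsg.Agent.S0541
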