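import Cfsg.Statements.S0542
import Mathlib
-- import your own Cfsg.Agent.* helpers here

set_option autoImplicit false
open Cfsg

namespace Cfsg.Agent.S0542

/-- A Sylow p-subgroup of a finite group meets every subnormal subgroup H in a Sylow p-subgroup of H. -/
theorem result {G : Type*} [Group G] [Finite G] (p : ℕ) [Fact p.Prime] (H : Subgroup G) (hH : H.IsSubnormal) (S : Sylow p G) : ∃ Q : Sylow p H, (Q : Subgroup H) = (S : Subgroup G).subgroupOf H := by
  induction hH with
  | top =>
    exact ⟨S.subtype le_top, Sylow.coe_subtype S le_top⟩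
  | step A B hAB _ hn ih =>
    obtain ⟨Q, hQ⟩ := ih
    haveI := hn
    -- intersect with the normal subgroup
    have hP : IsPGroup p ((S : Subgroup G).subgroupOf A) :=
      S.2.comap_of_injective A.subtype A.subtype_injective
    obtain ⟨R, hR⟩ := hP.exists_le_sylow
    refine ⟨R, le_antisymm ?_ hR⟩
    obtain ⟨R', hR'⟩ := (R.2.map (Subgroup.inclusion hAB)).exists_le_sylow
    obtain ⟨b, hb⟩ := MulAction.exists_smul_eq B Q R'
    have hcard : Nat.card (R : Subgroup A) ≤ Nat.card ((S : Subgroup G).subgroupOf A) := by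
      let f : ↥(R : Subgroup A) → ↥((S : Subgroup G).subgroupOf A) := fun x => ⟨⟨(b⁻¹ : B) * ((x : A) : G) * (b : G), by
        have := hn.conj_mem ⟨((x : A) : G), hAB x.1.2⟩ x.1.2 b⁻¹
        simpa [Subgroup.mem_subgroupOf] using this⟩, by
        have h1 : (Subgroup.inclusion hAB (x : A)) ∈ (b • Q : Sylow p B) := hb ▸ hR' ⟨_, x.2, rfl⟩
        rw [← SetLike.mem_coe, Sylow.coe_smul, Set.mem_smul_set_iff_inv_smul_mem, SetLike.mem_coe] at h1
        have h2 : ((MulAut.conj b)⁻¹ • Subgroup.inclusion hAB (x : A) : B) ∈ (Q : Subgroup B) := h1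
        rw [hQ, Subgroup.mem_subgroupOf] at h2
        simpa [Subgroup.mem_subgroupOf, MulAut.smul_def] using h2⟩
      refine Nat.card_le_card_of_injective f fun x y h => Subtype.ext (Subtype.ext ?_)
      simpa [f] using h
    rw [Subgroup.eq_of_le_of_card_ge hR hcard]

end Cfsg.Agent.S0542
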