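import Cfsg.Statements.S0546
import Mathlib
import Cfsg.Agent.Lib.Solvable.HallSystem
-- import your own Cfsg.Agent.* helpers here

set_option autoImplicit false
open Cfsg

namespace Cfsg.Agent.S0546

/-- The normal closure of a system normalizer of a finite solvable group is the whole group. -/
theorem result {G : Type*} [Group G] [Finite G] [Group.IsSolvable G] (K : Nat.Primes → Subgroup G) (hK : Cfsg.IsComplementSystem K) : Subgroup.normalClosure ((Cfsg.systemNormalizer K : Subgroup G) : Set G) = ⊤ := by
  classical
  set R := Subgroup.normalClosure ((Cfsg.systemNormalizer K : Subgroup G) : Set G) with hR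
  haveI : R.Normal := Subgroup.normalClosure_normal
  by_contra hne
  haveI : Nontrivial (G ⧸ R) := QuotientGroup.nontrivial_iff.mpr hne
  set f := QuotientGroup.mk' R
  set M := (_root_.commutator (G ⧸ R)).comap f with hM
  haveI : M.Normal := Subgroup.normal_comap _
  have hle : commutator G ≤ M := by
    rw [hM, ← Subgroup.map_le_iff_le_comap, commutator_def, Subgroup.map_commutator, commutator_def]
    exact Subgroup.commutator_mono le_top le_top
  have hRM : R ≤ M := fun x hx => by
    show f x ∈ _root_.commutator (G ⧸ R)
    rw [show f x = 1 from (QuotientGroup.eq_one_iff x).mpr hx]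
    exact Subgroup.one_mem _
  have hnil : Group.IsNilpotent (G ⧸ M) := by
    haveI : IsMulCommutative (G ⧸ M) := ⟨⟨fun a b => by
      induction a using QuotientGroup.induction_on with
      | _ a =>
        induction b using QuotientGroup.induction_on with
        | _ b => exact (QuotientGroup.eq.mpr (hle (by
            rw [show (a * b)⁻¹ * (b * a) = b⁻¹ * a⁻¹ * (b⁻¹)⁻¹ * (a⁻¹)⁻¹ by group]
            exact Subgroup.commutator_mem_commutator (Subgroup.mem_top _) (Subgroup.mem_top _))))⟩⟩
    letI : CommGroup (G ⧸ M) := { (inferInstance : Group (G ⧸ M)) with mul_comm := fun a b => IsMulCommutative.is_comm.comm a b }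
    exact CommGroup.isNilpotent
  have hsup := CfsgLib.HallSystem.sup_eq_top_of_nilpotent_quotient M hnil hK
  have hMtop : M = ⊤ := by
    rw [← hsup]
    exact (sup_eq_right.mpr (le_trans Subgroup.le_normalClosure hRM)).symm
  have := congrArg (Subgroup.map f) hMtop
  rw [hM, Subgroup.map_comap_eq_self_of_surjective (QuotientGroup.mk'_surjective R), Subgroup.map_top_of_surjective _ (QuotientGroup.mk'_surjective R)] at this
  exact (Group.IsSolvable.commutator_lt_top_of_nontrivial (G ⧸ R)).ne this

end Cfsg.Agent.S0546
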