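import Cfsg.Statements.S0547
import Mathlib
import Cfsg.Agent.Lib.Elementary
-- import your own Cfsg.Agent.* helpers here

set_option autoImplicit false
open Cfsg

namespace Cfsg.Agent.S0547

/-- Let a finite solvable group G act faithfully and primitively on a set, and let M be a minimal normal subgroup of G. Then M is transitive with trivial point stabilizers, and the number of points equals the order of M, which is a prime power p ^ d with d ≥ 1. -/
theorem result {G : Type*} [Group G] [Finite G] [Group.IsSolvable G] {Ω : Type*} [Nonempty Ω] [MulAction G Ω] [FaithfulSMul G Ω] (hprim : MulAction.IsPreprimitive G Ω) (M : Subgroup G) [M.Normal] (hM : M ≠ ⊥) (hmin : ∀ K : Subgroup G, K.Normal → K ≤ M → K = ⊥ ∨ K = M) : MulAction.IsPretransitive M Ω ∧ (∀ ω : Ω, MulAction.stabilizer M ω = ⊥) ∧ ∃ p d : ℕ, p.Prime ∧ 0 < d ∧ Nat.card Ω = p ^ d ∧ Nat.card M = p ^ d := by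
  obtain ⟨hMc, p, hp, hMp⟩ := CfsgLib.minimal_normal_elementary hM inferInstance hmin
  haveI := hprim
  haveI : Finite Ω := Finite.of_surjective (fun g : G => g • (Classical.arbitrary Ω)) (MulAction.surjective_smul G _)
  have hfix : MulAction.fixedPoints M Ω ≠ Set.univ := by
    intro h
    refine hM ((Subgroup.eq_bot_iff_forall M).mpr fun m hm => ?_)
    exact FaithfulSMul.eq_of_smul_eq_smul (α := Ω) fun ω => by
      rw [one_smul]
      have : ω ∈ MulAction.fixedPoints M Ω := h ▸ Set.mem_univ ω
      exact this ⟨m, hm⟩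
  haveI htr : MulAction.IsPretransitive M Ω := MulAction.IsQuasiPreprimitive.isPretransitive_of_normal hfix
  have hreg : ∀ ω : Ω, MulAction.stabilizer M ω = ⊥ := fun ω => by
    rw [Subgroup.eq_bot_iff_forall]
    intro m hm
    refine Subtype.ext (FaithfulSMul.eq_of_smul_eq_smul (α := Ω) fun x => ?_)
    obtain ⟨k, rfl⟩ := MulAction.exists_smul_eq M ω x
    show m • k • ω = (1 : G) • k • ω
    rw [one_smul, ← mul_smul, hMc.is_comm.comm m k, mul_smul, MulAction.mem_stabilizer_iff.mp hm]
  haveI := Fact.mk hp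
  have hpg : IsPGroup p M := fun x => ⟨1, by rw [pow_one]; exact Subtype.ext (hMp x x.2)⟩
  obtain ⟨d, hd⟩ := IsPGroup.iff_card.mp hpg
  have hΩ : Nat.card Ω = Nat.card M := by
    have h := MulAction.index_stabilizer_of_transitive M (Classical.arbitrary Ω)
    rw [hreg, Subgroup.index_bot] at h
    exact h.symm
  refine ⟨htr, hreg, p, d, hp, ?_, hΩ.trans hd, hd⟩
  haveI : Nontrivial M := (Subgroup.nontrivial_iff_ne_bot M).mpr hM
  rcases Nat.eq_zero_or_pos d with h0 | h0
  · rw [h0, pow_zero] at hd
    exact absurd hd (Finite.one_lt_card (α := M)).ne'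
  · exact h0

end Cfsg.Agent.S0547
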