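import Cfsg.Statements.S0548
import Mathlib
import Cfsg.Agent.Lib.Solvable.CoreFree
import Cfsg.Agent.Lib.Basic
-- import your own Cfsg.Agent.* helpers here

set_option autoImplicit false
open Cfsg

namespace Cfsg.Agent.S0548

/-- Let a finite solvable group G act faithfully and primitively on a set, let M be a minimal normal subgroup and H the stabilizer of a point. Then H is a complement to M, no non-identity element of H centralizes M, and the only subgroups of M normalized by H are the trivial subgroup and M. -/
theorem result {G : Type*} [Group G] [Finite G] [Group.IsSolvable G] {Ω : Type*} [MulAction G Ω] [FaithfulSMul G Ω] (hprim : MulAction.IsPreprimitive G Ω) (M : Subgroup G) [M.Normal] (hM : M ≠ ⊥) (hmin : ∀ K : Subgroup G, K.Normal → K ≤ M → K = ⊥ ∨ K = M) (ω : Ω) : Subgroup.IsComplement' M (MulAction.stabilizer G ω) ∧ MulAction.stabilizer G ω ⊓ Subgroup.centralizer (M : Set G) = ⊥ ∧ ∀ K : Subgroup G, K ≤ M → MulAction.stabilizer G ω ≤ Subgroup.normalizer (K : Set G) → K = ⊥ ∨ K = M := by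
    haveI := hprim
    have hnt : Nontrivial Ω := by
      by_contra h
      rw [not_nontrivial_iff_subsingleton] at h
      exact hM ((Subgroup.eq_bot_iff_forall M).mpr fun m _ => FaithfulSMul.eq_of_smul_eq_smul (α := Ω) fun x => Subsingleton.elim _ _)
    set U := MulAction.stabilizer G ω with hUdef
    have hU : IsCoatom U := (MulAction.isCoatom_stabilizer_iff_preprimitive G ω).mpr hprim
    have hcore : U.normalCore = ⊥ := (Subgroup.eq_bot_iff_forall _).mpr fun g hg =>
      FaithfulSMul.eq_of_smul_eq_smul (α := Ω) fun x => by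
        obtain ⟨h, rfl⟩ := MulAction.exists_smul_eq G ω x
        have h1 : h⁻¹ * g * h ∈ U.normalCore := by simpa using (U.normalCore_normal).conj_mem g hg h⁻¹
        have h2 : (h⁻¹ * g * h) • ω = ω := MulAction.mem_stabilizer_iff.mp (U.normalCore_le h1)
        rw [one_smul, mul_smul, mul_smul, inv_smul_eq_iff] at *
        exact h2
    have hab : IsMulCommutative M := (CfsgLib.minimal_normal_elementary hM inferInstance hmin).1
    obtain ⟨hc, hcomp, -, hbot⟩ := CfsgLib.CoreFree.abelian_minimal hU hcore hM hab
    refine ⟨hcomp, hbot, fun K hKM hnorm => hmin K ?_ hKM⟩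
    rw [← Subgroup.normalizer_eq_top_iff, ← top_le_iff, ← CfsgLib.CoreFree.sup_eq_top hU hcore hM]
    refine sup_le hnorm (Subgroup.le_normalizer_iff.mpr fun m hm x hx => ?_)
    rwa [show m * x = x * m from congrArg Subtype.val (hab.is_comm.comm (⟨m, hm⟩ : M) ⟨x, hKM hx⟩), mul_inv_cancel_right]

end Cfsg.Agent.S0548
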