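import Cfsg.Statements.S0550
import Mathlib
import Cfsg.Agent.Lib.Solvable.CoreFree
-- import your own Cfsg.Agent.* helpers here

set_option autoImplicit false
open Cfsg

namespace Cfsg.Agent.S0550

/-- Let U be a maximal subgroup with trivial normal core in a finite group G, and A ≠ B two minimal normal subgroups. Then A is the centralizer of B and B that of A, U complements each of them, A and B are non-abelian, and A, B and (A ⊔ B) ∩ U are pairwise isomorphic. -/
theorem result {G : Type*} [Group G] [Finite G] (U : Subgroup G) (hU : IsCoatom U) (hcore : U.normalCore = ⊥) (A B : Subgroup G) [A.Normal] [B.Normal] (hA : A ≠ ⊥) (hB : B ≠ ⊥) (hAmin : ∀ K : Subgroup G, K.Normal → K ≤ A → K = ⊥ ∨ K = A) (hBmin : ∀ K : Subgroup G, K.Normal → K ≤ B → K = ⊥ ∨ K = B) (hAB : A ≠ B) : Subgroup.centralizer (B : Set G) = A ∧ Subgroup.centralizer (A : Set G) = B ∧ Subgroup.IsComplement' A U ∧ Subgroup.IsComplement' B U ∧ ¬ IsMulCommutative A ∧ Nonempty (A ≃* B) ∧ Nonempty (A ≃* ↥((A ⊔ B) ⊓ U)) := by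
    classical
    have hinfAB : A ⊓ B = ⊥ := by
      rcases hAmin (A ⊓ B) inferInstance inf_le_left with h | h
      · exact h
      · rcases hBmin A inferInstance (inf_eq_left.mp h) with h' | h'
        · exact absurd h' hA
        · exact absurd h' hAB
    have hcomm : ∀ a ∈ A, ∀ b ∈ B, a * b = b * a := fun a ha b hb =>
      Subgroup.commute_of_normal_of_disjoint A B inferInstance inferInstance (disjoint_iff.mpr hinfAB) a b ha hb
    have hcent : ∀ X Y : Subgroup G, X.Normal → Y.Normal → X ≠ ⊥ → Y ≠ ⊥ → (∀ x ∈ X, ∀ y ∈ Y, x * y = y * x) →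
        Subgroup.centralizer (Y : Set G) = X ∧ X ⊓ U = ⊥ := by
      intro X Y hXn hYn hX hY hXY
      obtain ⟨h1, h2⟩ := Cfsg.Agent.S0549.result U hU hcore Y hY
      have hle : X ≤ Subgroup.centralizer (Y : Set G) := fun x hx => Subgroup.mem_centralizer_iff.mpr fun y hy => (hXY x hx y hy).symm
      rcases h2 with h0 | ⟨-, hmin⟩
      · exact absurd (le_bot_iff.mp (h0 ▸ hle)) hX
      · have heq := ((hmin X hXn hle).resolve_left hX).symm
        exact ⟨heq, heq ▸ h1⟩
    obtain ⟨hCB, hAU⟩ := hcent A B inferInstance inferInstance hA hB hcomm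
    obtain ⟨hCA, hBU⟩ := hcent B A inferInstance inferInstance hB hA (fun b hb a ha => (hcomm a ha b hb).symm)
    have hcA := CfsgLib.CoreFree.complement_of_centralized hU hcore hA hAU
    have hcB := CfsgLib.CoreFree.complement_of_centralized hU hcore hB hBU
    refine ⟨hCB, hCA, hcA, hcB, fun hab => hAB ?_, ?_⟩
    · exact (CfsgLib.CoreFree.abelian_minimal hU hcore hA hab).1.symm.trans hCA
    set W := (A ⊔ B) ⊓ U with hW
    have key : ∀ X Y : Subgroup G, X.Normal → Y.Normal → X ⊓ Y = ⊥ → Subgroup.IsComplement' Y U →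
        Nonempty (X ≃* ↥((X ⊔ Y) ⊓ U)) := by
      intro X Y hXn hYn hXY hYU
      let π := QuotientGroup.mk' Y
      set V := (X ⊔ Y) ⊓ U with hV
      have injOn : ∀ Z : Subgroup G, Z ⊓ Y = ⊥ → Function.Injective (π.comp Z.subtype) := fun Z hZ => by
        rw [injective_iff_map_eq_one]
        intro z hz
        exact Subtype.ext (Subgroup.mem_bot.mp (hZ ▸ (⟨z.2, (QuotientGroup.eq_one_iff _).mp hz⟩ : (z : G) ∈ Z ⊓ Y)))
      have hVY : V ⊓ Y = ⊥ := le_bot_iff.mp ((inf_le_inf inf_le_right le_rfl).trans (le_of_eq (by rw [inf_comm]; exact hYU.disjoint.eq_bot)))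
      have hr : (π.comp X.subtype).range = (π.comp V.subtype).range := by
        ext w
        constructor
        · rintro ⟨x, rfl⟩
          obtain ⟨⟨y, u⟩, e⟩ := hYU.2 (x : G)
          change (y : G) * u = x at e
          have hu : (u : G) ∈ V := ⟨by
            rw [show (u : G) = (y : G)⁻¹ * x by rw [← e, inv_mul_cancel_left]]
            exact mul_mem (Subgroup.mem_sup_right (inv_mem y.2)) (Subgroup.mem_sup_left x.2), u.2⟩
          refine ⟨⟨u, hu⟩, ?_⟩
          show π (u : G) = π (x : G)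
          rw [← e, map_mul, (QuotientGroup.eq_one_iff (y : G)).mpr y.2 |> fun h => (show π (y : G) = 1 from h), one_mul]
        · rintro ⟨v, rfl⟩
          obtain ⟨x, hx, y, hy, e⟩ := Subgroup.mem_sup_of_normal_right.mp v.2.1
          refine ⟨⟨x, hx⟩, ?_⟩
          show π x = π (v : G)
          rw [← e, map_mul, show π y = 1 from (QuotientGroup.eq_one_iff y).mpr hy, mul_one]
      exact ⟨(MonoidHom.ofInjective (injOn X hXY)).trans ((MulEquiv.subgroupCongr hr).trans (MonoidHom.ofInjective (injOn V hVY)).symm)⟩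
    obtain ⟨eA⟩ := key A B inferInstance inferInstance hinfAB hcB
    obtain ⟨eB⟩ := key B A inferInstance inferInstance (by rwa [inf_comm]) hcA
    exact ⟨⟨eA.trans ((MulEquiv.subgroupCongr (by rw [sup_comm])).trans eB.symm)⟩, ⟨eA⟩⟩

end Cfsg.Agent.S0550
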