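import Cfsg.Statements.S0587
import Mathlib
import Cfsg.Agent.Lib.Solvable.CoreFree
import Cfsg.Agent.Lib.Basic
-- import your own Cfsg.Agent.* helpers here

set_option autoImplicit false
open Cfsg

namespace Cfsg.Agent.S0587

/-- Let G be a finite group whose largest normal p-subgroup L is nontrivial, and M a maximal subgroup of G with trivial normal core. Then L is elementary abelian, M is a complement to L, L is a minimal normal subgroup of G, the centralizer of L is L, and for every prime q such that the largest normal q-subgroup of M is nontrivial, the order of L is congruent to 1 modulo q and q ≠ p. -/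
theorem result {G : Type*} [Group G] [Finite G] (p : ℕ) [Fact p.Prime] (hL : Cfsg.pCore p G ≠ ⊥) (M : Subgroup G) (hM : IsCoatom M) (hcore : M.normalCore = ⊥) : Cfsg.IsElementaryAbelian p (Cfsg.pCore p G) ∧ Subgroup.IsComplement' (Cfsg.pCore p G) M ∧ (∀ K : Subgroup G, K.Normal → K ≤ Cfsg.pCore p G → K = ⊥ ∨ K = Cfsg.pCore p G) ∧ Subgroup.centralizer ((Cfsg.pCore p G : Subgroup G) : Set G) = Cfsg.pCore p G ∧ ∀ (q : ℕ) [Fact q.Prime], Cfsg.pCore q ↥M ≠ ⊥ → Nat.card (Cfsg.pCore p G) % q = 1 % q ∧ q ≠ p := by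
    classical
    set L := Cfsg.pCore p G with hLdef
    have hLn : L.Normal := inferInstance
    have hLp : IsPGroup p L := CfsgLib.isPGroup_pCore p
    obtain ⟨A, hAn, hAL, hA0, hmin⟩ := CfsgLib.exists_minimal_normal (N := L) hL
    have hAp : IsPGroup p A := hLp.to_le hAL
    have hAnil : Group.IsNilpotent A := hAp.isNilpotent
    obtain ⟨hab, r, hr, hpow⟩ := CfsgLib.minimal_normal_elementary hA0 inferInstance hmin
    obtain ⟨hc, hcomp, -, hbot⟩ := CfsgLib.CoreFree.abelian_minimal hM hcore hA0 hab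
    -- `A` is central in `L`
    have hLnt : Nontrivial L := (Subgroup.nontrivial_iff_ne_bot L).mpr hL
    have hZ : (Subgroup.center L).map L.subtype ≠ ⊥ := by
      rw [Ne, Subgroup.map_eq_bot_iff_of_injective _ L.subtype_injective]
      have := hLp.center_nontrivial
      exact (Subgroup.nontrivial_iff_ne_bot _).mp this
    have hZn : ((Subgroup.center L).map L.subtype).Normal := ConjAct.normal_of_characteristic_of_normal
    have hAZ := CfsgLib.CoreFree.unique_minimal hM hcore hA0 hab hZ
    have hLA : L = A := by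
      refine le_antisymm (fun l hl => hc ▸ Subgroup.mem_centralizer_iff.mpr fun a ha => ?_) hAL
      obtain ⟨z, hz, rfl⟩ := hAZ ha
      exact congrArg Subtype.val (Subgroup.mem_center_iff.mp hz ⟨l, hl⟩).symm
    have hpL : p ∣ Nat.card L := by
      obtain ⟨k, hk⟩ := IsPGroup.iff_card.mp hLp
      exact hk ▸ dvd_pow_self p fun h0 => hL (Subgroup.card_eq_one.mp (by rw [hk, h0, pow_zero]))
    have hrp : r = p := by
      have := Fact.mk hr
      obtain ⟨⟨a, ha⟩, hne⟩ := Subgroup.ne_bot_iff_exists_ne_one.mp hA0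
      have ho : orderOf a = r := orderOf_eq_prime (hpow a ha) fun e => hne (Subtype.ext e)
      obtain ⟨k, hk⟩ := IsPGroup.iff_orderOf.mp hAp ⟨a, ha⟩
      rw [Subgroup.orderOf_mk, ho] at hk
      exact (Nat.prime_dvd_prime_iff_eq hr Fact.out).mp (hr.dvd_of_dvd_pow hk.dvd)
    refine ⟨⟨hLA ▸ hab, hLA ▸ hrp ▸ hpow⟩, hLA ▸ hcomp, hLA ▸ hmin, hLA ▸ hc, fun q hqf hqM => ?_⟩
    set R : Subgroup G := (Cfsg.pCore q M).map M.subtype with hR
    have hRM : R ≤ M := Subgroup.map_subtype_le _
    have hRq : IsPGroup q R := (CfsgLib.isPGroup_pCore q).map _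
    have hR0 : R ≠ ⊥ := by rwa [hR, Ne, Subgroup.map_eq_bot_iff_of_injective _ M.subtype_injective]
    set F := L ⊓ Subgroup.centralizer (R : Set G) with hF
    have hFn : F.Normal := by
      rw [← Subgroup.normalizer_eq_top_iff, ← top_le_iff, ← CfsgLib.CoreFree.sup_eq_top hM hcore hA0]
      refine sup_le (Subgroup.le_normalizer_iff.mpr fun m hm x hx => ⟨hLn.conj_mem x hx.1 m, ?_⟩)
        (Subgroup.le_normalizer_iff.mpr fun a ha x hx => ?_)
      · refine Subgroup.mem_centralizer_iff.mpr fun r hr' => ?_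
        obtain ⟨r0, hr0, rfl⟩ := hr'
        have hn : (Cfsg.pCore q M).Normal := inferInstance
        have h1 : m⁻¹ * (r0 : G) * m ∈ R := ⟨(⟨m, hm⟩ : M)⁻¹ * r0 * ⟨m, hm⟩, by simpa using hn.conj_mem r0 hr0 ⟨m, hm⟩⁻¹, rfl⟩
        have h2 := Subgroup.mem_centralizer_iff.mp hx.2 _ h1
        calc (r0 : G) * (m * x * m⁻¹) = m * ((m⁻¹ * r0 * m) * x) * m⁻¹ := by group
          _ = m * (x * (m⁻¹ * r0 * m)) * m⁻¹ := by rw [h2]
          _ = _ := by simp only [Subgroup.coe_subtype]; group
      · rwa [show a * x = x * a from congrArg Subtype.val (hab.is_comm.comm (⟨a, ha⟩ : A) ⟨x, hLA ▸ hx.1⟩), mul_inv_cancel_right]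
    have hF0 : F = ⊥ := by
      rcases hmin F hFn (hLA ▸ inf_le_left) with h | h
      · exact h
      · exfalso
        refine hR0 (le_bot_iff.mp (hbot ▸ le_inf hRM fun r hr' => Subgroup.mem_centralizer_iff.mpr fun a ha => ?_))
        exact (Subgroup.mem_centralizer_iff.mp (h.symm ▸ ha : a ∈ F).2 r hr').symm
    -- count fixed points of `R` on `L`
    have hcount : Nat.card L ≡ 1 [MOD q] := by
      let ψ : R →* MulAut L := (MulAut.conjNormal : G →* MulAut L).comp R.subtype
      letI : MulAction R L := MulAction.compHom L ψ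
      have hfix : Nat.card (MulAction.fixedPoints R L) = 1 := by
        rw [Nat.card_eq_one_iff_unique]
        refine ⟨⟨fun a b => Subtype.ext ?_⟩, ⟨⟨1, fun r => map_one (ψ r)⟩⟩⟩
        have key : ∀ c : MulAction.fixedPoints R L, (c : L) = 1 := fun c => by
          refine Subtype.ext (Subgroup.mem_bot.mp (hF0 ▸ Subgroup.mem_inf.mpr ⟨(c : L).2, Subgroup.mem_centralizer_iff.mpr fun r hr' => ?_⟩))
          have h1 : r * ((c : L) : G) * r⁻¹ = ((c : L) : G) := congrArg Subtype.val (c.2 ⟨r, hr'⟩)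
          exact mul_inv_eq_iff_eq_mul.mp h1
        rw [key a, key b]
      have := hRq.card_modEq_card_fixedPoints (α := L)
      rwa [hfix] at this
    refine ⟨hcount, fun hqp => ?_⟩
    subst hqp
    have h0 : Nat.card L % q = 0 := Nat.mod_eq_zero_of_dvd hpL |> id
    rw [Nat.ModEq, h0, Nat.mod_eq_of_lt (Fact.out : q.Prime).one_lt] at hcount
    exact absurd hcount (by norm_num)

end Cfsg.Agent.S0587
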