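import Cfsg.Statements.S0551
import Mathlib
import Cfsg.Agent.Lib.Solvable.CoreFree
import Cfsg.Agent.Lib.Basic
import Cfsg.Agent.S0587
-- import your own Cfsg.Agent.* helpers here

set_option autoImplicit false
open Pointwise
open Cfsg

namespace Cfsg.Agent.S0551

/-- In a finite solvable group all core-free maximal subgroups are conjugate. -/
theorem result {G : Type*} [Group G] [Finite G] [Group.IsSolvable G] (U V : Subgroup G) (hU : IsCoatom U) (hV : IsCoatom V) (hUc : U.normalCore = ⊥) (hVc : V.normalCore = ⊥) : ∃ g : G, MulAut.conj g • U = V := by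
    classical
    by_cases hsub : Subsingleton G
    · exact ⟨1, Subsingleton.elim _ _⟩
    rw [not_subsingleton_iff_nontrivial] at hsub
    obtain ⟨A, hAn, -, hA0, hab, hmin, p, hp, hAp⟩ := CfsgLib.CoreFree.exists_abelian_minimal (G := G) (N := ⊤) top_ne_bot
    have := Fact.mk hp
    obtain ⟨hc, hcU, -, -⟩ := CfsgLib.CoreFree.abelian_minimal hU hUc hA0 hab
    obtain ⟨-, hcV, -, -⟩ := CfsgLib.CoreFree.abelian_minimal hV hVc hA0 hab
    by_cases hAtop : A = ⊤
    · have hbot : ∀ W : Subgroup G, Subgroup.IsComplement' A W → W = ⊥ := fun W hW => by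
        have h := hW.disjoint
        rw [hAtop, disjoint_iff, top_inf_eq] at h
        exact h
      exact ⟨1, by rw [hbot U hcU, hbot V hcV, map_one, one_smul]⟩
    have hnt : Nontrivial (G ⧸ A) := QuotientGroup.nontrivial_iff.mpr hAtop
    obtain ⟨B, hBn, -, hB0, -, -, q, hq, hBq⟩ := CfsgLib.CoreFree.exists_abelian_minimal (G := G ⧸ A) (N := ⊤) top_ne_bot
    have := Fact.mk hq
    set H := B.comap (QuotientGroup.mk' A) with hH
    have hHn : H.Normal := hBn.comap _
    have hAH : A ≤ H := fun a ha => by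
      rw [hH, Subgroup.mem_comap, QuotientGroup.mk'_apply, (QuotientGroup.eq_one_iff a).mpr ha]; exact one_mem _
    have hHcard : Nat.card H = Nat.card A * Nat.card B := by
      have h1 := Subgroup.card_mul_index (A.subgroupOf H)
      have h2 : (A.subgroupOf H).index = Nat.card B := by
        have := Subgroup.relIndex_comap (H := (⊥ : Subgroup (G ⧸ A))) (QuotientGroup.mk' A) H
        rw [MonoidHom.comap_bot, QuotientGroup.ker_mk', Subgroup.map_comap_eq_self_of_surjective (QuotientGroup.mk'_surjective A),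
          Subgroup.relIndex_bot_left] at this
        exact this
      rw [← h1, h2, Nat.card_congr (Subgroup.subgroupOfEquivOfLe hAH).toEquiv]
    obtain ⟨b, hb⟩ := IsPGroup.iff_card.mp hBq
    obtain ⟨a, ha⟩ := IsPGroup.iff_card.mp hAp
    have hpq : p ≠ q := by
      intro e
      subst e
      have hHp : IsPGroup p H := IsPGroup.iff_card.mpr ⟨a + b, by rw [hHcard, ha, hb, pow_add]⟩
      have hle := CfsgLib.le_pCore hHp
      have hL : Cfsg.pCore p G ≠ ⊥ := fun e => hA0 (le_bot_iff.mp (e ▸ hAH.trans hle))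
      obtain ⟨-, hcomp, hminL, -⟩ := Cfsg.Agent.S0587.result p hL U hU hUc
      have hLA : A = Cfsg.pCore p G := (hminL A hAn (hAH.trans hle)).resolve_left hA0
      exact hB0 ((Subgroup.eq_bot_iff_forall B).mpr fun w hw => by
        obtain ⟨g, rfl⟩ := QuotientGroup.mk'_surjective A w
        exact (QuotientGroup.eq_one_iff g).mpr (hLA.symm ▸ hle hw))
    have key : ∀ W : Subgroup G, IsCoatom W → W.normalCore = ⊥ → Subgroup.IsComplement' A W →
        ∃ R : Sylow q H, Subgroup.normalizer (((R : Subgroup H).map H.subtype : Subgroup G) : Set G) = W := by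
      intro W hW hWc hcW
      set R0 : Subgroup G := W ⊓ H with hR0
      have hR0card : Nat.card R0 = q ^ b := by
        have hdis : Disjoint A R0 := hcW.disjoint.mono_right inf_le_left
        have hprod : ((A : Set G) * (R0 : Set G)) = (H : Set G) := by
          ext x
          constructor
          · rintro ⟨u, hu, v, hv, rfl⟩; exact mul_mem (hAH hu) hv.2
          · intro hx
            obtain ⟨⟨u, v⟩, rfl⟩ := hcW.2 x
            exact ⟨u, u.2, v, Subgroup.mem_inf.mpr ⟨v.2, by simpa using H.mul_mem (H.inv_mem (hAH u.2)) hx⟩, rfl⟩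
        have hcomp : Subgroup.IsComplement' (A.subgroupOf H) (R0.subgroupOf H) := by
          refine Subgroup.isComplement'_of_disjoint_and_mul_eq_univ ?_ ?_
          · rw [disjoint_iff, Subgroup.eq_bot_iff_forall]
            rintro x ⟨h1, h2⟩
            exact Subtype.ext (Subgroup.mem_bot.mp (hdis.le_bot ⟨h1, h2⟩))
          · refine Set.eq_univ_of_forall fun x => ?_
            obtain ⟨u, hu, v, hv, e⟩ := (hprod.symm ▸ x.2 : (x : G) ∈ (A : Set G) * (R0 : Set G))
            exact ⟨⟨u, hAH hu⟩, hu, ⟨v, hv.2⟩, hv, Subtype.ext e⟩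
        have h := hcomp.card_mul
        rw [Nat.card_congr (Subgroup.subgroupOfEquivOfLe hAH).toEquiv,
          Nat.card_congr (Subgroup.subgroupOfEquivOfLe (inf_le_right : R0 ≤ H)).toEquiv, hHcard, hb] at h
        exact Nat.eq_of_mul_eq_mul_left Nat.card_pos h
      have hb0 : b ≠ 0 := fun e => hB0 (Subgroup.card_eq_one.mp (by rw [hb, e, pow_zero]))
      have hcard' : Nat.card (R0.subgroupOf H) = q ^ b :=
        (Nat.card_congr (Subgroup.subgroupOfEquivOfLe (inf_le_right : R0 ≤ H)).toEquiv).trans hR0card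
      have hidx : ¬ q ∣ (R0.subgroupOf H).index := fun h => by
        have h1 : (R0.subgroupOf H).index = p ^ a := Nat.eq_of_mul_eq_mul_left (pow_pos hq.pos b) (by
          rw [← hcard', Subgroup.card_mul_index, hHcard, ha, hb, mul_comm, hcard'])
        rw [h1] at h
        exact hpq ((Nat.prime_dvd_prime_iff_eq hq hp).mp (hq.dvd_of_dvd_pow h)).symm
      refine ⟨(IsPGroup.iff_card.mpr ⟨b, hcard'⟩ : IsPGroup q (R0.subgroupOf H)).toSylow hidx, ?_⟩
      have hmap : (R0.subgroupOf H).map H.subtype = R0 := Subgroup.map_subgroupOf_eq_of_le inf_le_right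
      show Subgroup.normalizer (((R0.subgroupOf H).map H.subtype : Subgroup G) : Set G) = W
      rw [hmap]
      have hle : W ≤ Subgroup.normalizer (R0 : Set G) := Subgroup.le_normalizer_iff.mpr fun w hw x hx =>
        Subgroup.mem_inf.mpr ⟨mul_mem (mul_mem hw hx.1) (inv_mem hw), hHn.conj_mem x hx.2 w⟩
      refine ((hW.le_iff).mp hle).resolve_left fun htop => ?_
      have hn : R0.Normal := Subgroup.normalizer_eq_top_iff.mp htop
      have h1 : R0 ≤ W.normalCore := Subgroup.normal_le_normalCore.mpr inf_le_left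
      rw [hWc, le_bot_iff] at h1
      rw [h1, Subgroup.card_bot] at hR0card
      exact hb0 (Nat.pow_eq_one.mp hR0card.symm |>.resolve_left hq.one_lt.ne')
    obtain ⟨R, hR⟩ := key U hU hUc hcU
    obtain ⟨R', hR'⟩ := key V hV hVc hcV
    obtain ⟨h, hh⟩ := MulAction.exists_smul_eq H R R'
    refine ⟨(h : G), ?_⟩
    rw [← hR, ← hR', ← hh]
    have hmap : ((h • R : Sylow q H) : Subgroup H).map H.subtype =
        ((R : Subgroup H).map H.subtype).map (MulAut.conj (h : G)).toMonoidHom := by
      ext x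
      simp only [Sylow.coe_subgroup_smul, Subgroup.mem_map, Subgroup.mem_smul_pointwise_iff_exists, MulEquiv.coe_toMonoidHom]
      constructor
      · rintro ⟨w, ⟨v, hv, rfl⟩, rfl⟩; exact ⟨(v : G), ⟨v, hv, rfl⟩, rfl⟩
      · rintro ⟨w, ⟨v, hv, rfl⟩, rfl⟩; exact ⟨MulAut.conj h • v, ⟨v, hv, rfl⟩, rfl⟩
    rw [hmap, Subgroup.pointwise_smul_def]
    exact Subgroup.map_equiv_normalizer_eq _ (MulAut.conj (h : G))

end Cfsg.Agent.S0551
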