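import Cfsg.Statements.S0552
import Cfsg.Agent.Lib.PSolvable
-- import your own Cfsg.Agent.* helpers here

set_option autoImplicit false
open Cfsg

namespace Cfsg.Agent.S0552

/-- Let σ be an automorphism of a finite solvable group G fixing every element of the Fitting subgroup. If σ is not the identity then the order of σ and the order of G have a common prime factor. -/
theorem result {G : Type*} [Group G] [Finite G] [Group.IsSolvable G] (σ : G ≃* G) (hσ : ∀ x ∈ Cfsg.fittingSubgroup G, σ x = x) (hne : σ ≠ MulEquiv.refl G) : ¬ (orderOf σ).Coprime (Nat.card G) := by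
  classical
  have key : ∀ x : G, σ (x) = x * (x⁻¹ * σ x) ∧ x⁻¹ * σ x ∈ Cfsg.fittingSubgroup G := fun x => by
    refine ⟨(mul_inv_cancel_left x _).symm, CfsgLib.centralizer_fitting_le ?_⟩
    rw [Subgroup.mem_centralizer_iff]
    intro f hf
    have hn : x * f * x⁻¹ ∈ Cfsg.fittingSubgroup G := by
      haveI : (Cfsg.fittingSubgroup G).Normal := by rw [CfsgLib.fittingSubgroup_eq_iSup_pCore]; infer_instance
      exact ‹(Cfsg.fittingSubgroup G).Normal›.conj_mem f hf x
    have h1 := hσ _ hn
    rw [map_mul, map_mul, map_inv, hσ f hf] at h1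
    calc f * (x⁻¹ * σ x) = x⁻¹ * (x * f * x⁻¹) * σ x := by group
      _ = x⁻¹ * (σ x * f * (σ x)⁻¹) * σ x := by rw [h1]
      _ = x⁻¹ * σ x * f := by group
  intro hco
  obtain ⟨x, hx⟩ : ∃ x, σ x ≠ x := by
    by_contra h
    push Not at h
    exact hne (MulEquiv.ext h)
  set z := x⁻¹ * σ x with hz
  have hpow : ∀ k : ℕ, (σ ^ k) x = x * z ^ k := by
    intro k
    induction k with
    | zero => simp
    | succ k ih =>
      rw [pow_succ', MulAut.mul_apply, ih, map_mul, map_pow, hσ z (key x).2, (key x).1, ← hz, mul_assoc, ← pow_succ']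
  have h2 := hpow (orderOf σ)
  rw [pow_orderOf_eq_one, MulAut.one_apply, left_eq_mul] at h2
  have h3 : orderOf z = 1 := Nat.eq_one_of_dvd_coprimes hco (orderOf_dvd_of_pow_eq_one h2) (orderOf_dvd_natCard z)
  exact hx (by rw [(key x).1, ← hz, orderOf_eq_one_iff.mp h3, mul_one])

end Cfsg.Agent.S0552
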