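import Cfsg.Statements.S0553
import Mathlib
import Cfsg.Agent.Lib.Solvable.CoreFree
import Cfsg.Agent.Lib.Solvable.Supersolvable
-- import your own Cfsg.Agent.* helpers here

set_option autoImplicit false
open Cfsg

namespace Cfsg.Agent.S0553

universe u

private theorem main : ∀ n : ℕ, ∀ (G : Type u) [Group G] [Finite G] [Group.IsSolvable G], Nat.card G = n → Nontrivial G →
    (∀ M : Subgroup G, IsCoatom M → (Nat.card M).Coprime M.index) →
    ∃ p : ℕ, p.Prime ∧ p ∣ Nat.card G ∧ ∀ P : Sylow p G, (P : Subgroup G).Normal := by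
  intro n
  induction n using Nat.strong_induction_on with
  | _ n ih =>
  intro G _ _ _ hn hnt h
  obtain ⟨N, hNn, -, hN0, hab, hmin, p, hp, hNp⟩ := CfsgLib.CoreFree.exists_abelian_minimal (G := G) (N := ⊤) top_ne_bot
  have := Fact.mk hp
  obtain ⟨a, ha⟩ := IsPGroup.iff_card.mp hNp
  have ha0 : a ≠ 0 := fun e => hN0 (Subgroup.card_eq_one.mp (by rw [ha, e, pow_zero]))
  have hpG : p ∣ Nat.card G := (ha ▸ dvd_pow_self p ha0).trans N.card_subgroup_dvd_card
  by_cases hpi : p ∣ N.index
  swap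
  · refine ⟨p, hp, hpG, fun P => ?_⟩
    have hP : N = (P : Subgroup G) := by
      have hu : Subsingleton (Sylow p G) := by
        have : ((hNp.toSylow hpi : Sylow p G) : Subgroup G).Normal := hNn
        have := Sylow.unique_of_normal (hNp.toSylow hpi) this
        infer_instance
      exact congrArg (fun S : Sylow p G => (S : Subgroup G)) (Subsingleton.elim (hNp.toSylow hpi) P)
    exact hP ▸ hNn
  have hidx1 : N.index ≠ 1 := fun e => hp.ne_one (Nat.dvd_one.mp (e ▸ hpi))
  have hntq : Nontrivial (G ⧸ N) := Finite.one_lt_card_iff_nontrivial.mp (by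
    rw [← Subgroup.index]; exact lt_of_le_of_ne (Nat.pos_of_ne_zero Subgroup.index_ne_zero_of_finite) (Ne.symm hidx1))
  have hsurj := QuotientGroup.mk'_surjective N
  have hlt : Nat.card (G ⧸ N) < n := by
    rw [← hn, ← N.card_mul_index, Subgroup.index]
    exact lt_mul_of_one_lt_left Nat.card_pos ((Subgroup.one_lt_card_iff_ne_bot N).mpr hN0)
  have hq' : ∀ M : Subgroup (G ⧸ N), IsCoatom M → (Nat.card M).Coprime M.index := fun M hM => by
    have hc := h _ (CfsgLib.Supersolvable.isCoatom_comap hM)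
    rw [Subgroup.index_comap_of_surjective _ hsurj] at hc
    refine hc.coprime_dvd_left ?_
    have h1 := Subgroup.card_dvd_of_surjective ((QuotientGroup.mk' N).subgroupComap M) (MonoidHom.subgroupComap_surjective_of_surjective _ _ hsurj)
    exact h1
  obtain ⟨q, hq, hqd, hqn⟩ := ih _ hlt (G ⧸ N) rfl hntq hq'
  have := Fact.mk hq
  let Qb : Sylow q (G ⧸ N) := default
  have hQbn := hqn Qb
  set H := (Qb : Subgroup (G ⧸ N)).comap (QuotientGroup.mk' N) with hH
  have hHn : H.Normal := hQbn.comap _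
  obtain ⟨b, hb⟩ := IsPGroup.iff_card.mp Qb.isPGroup'
  have hHidx : ¬ q ∣ H.index := by
    rw [hH, Subgroup.index_comap_of_surjective _ hsurj]; exact Qb.not_dvd_index
  have hHcard : Nat.card H = p ^ a * q ^ b := by
    have h1 := H.card_mul_index
    rw [hH, Subgroup.index_comap_of_surjective _ hsurj, ← N.card_mul_index, ha, show N.index = Nat.card (G ⧸ N) from rfl,
      ← (Qb : Subgroup (G ⧸ N)).card_mul_index, hb, ← mul_assoc] at h1
    exact Nat.eq_of_mul_eq_mul_right (Nat.pos_of_ne_zero Subgroup.index_ne_zero_of_finite) h1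
  refine ⟨q, hq, hqd.trans (Subgroup.index_dvd_card N), fun P => ?_⟩
  by_cases hqp : q = p
  · subst hqp
    have hHp : IsPGroup q H := IsPGroup.iff_card.mpr ⟨a + b, by rw [hHcard, pow_add]⟩
    have : ((hHp.toSylow hHidx : Sylow q G) : Subgroup G).Normal := hHn
    have := Sylow.unique_of_normal (hHp.toSylow hHidx) this
    rw [Subsingleton.elim P (hHp.toSylow hHidx)]
    exact hHn
  by_contra hPn
  have hPH : (P : Subgroup G) ≤ H := by
    obtain ⟨c, hc⟩ := IsPGroup.iff_card.mp P.isPGroup'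
    intro x hx
    rw [← QuotientGroup.eq_one_iff, ← orderOf_eq_one_iff, ← Nat.dvd_one]
    obtain ⟨j, hj⟩ := IsPGroup.iff_orderOf.mp P.isPGroup' ⟨x, hx⟩
    rw [Subgroup.orderOf_mk] at hj
    have h1 : orderOf (x : G ⧸ H) ∣ q ^ j := hj ▸ orderOf_map_dvd (QuotientGroup.mk' H) x
    have h2 : orderOf (x : G ⧸ H) ∣ H.index := orderOf_dvd_natCard _
    exact ((hq.coprime_iff_not_dvd.mpr hHidx).pow_left j) ▸ Nat.dvd_gcd h1 h2
  have hfr : Subgroup.normalizer ((P : Subgroup G) : Set G) ⊔ H = ⊤ := by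
    have h1 := Sylow.normalizer_sup_eq_top (P.subtype hPH)
    rwa [Sylow.coe_subtype, Subgroup.map_subgroupOf_eq_of_le hPH] at h1
  have hNH : N ≤ H := fun x hx => by
    rw [hH, Subgroup.mem_comap, QuotientGroup.mk'_apply, (QuotientGroup.eq_one_iff x).mpr hx]; exact one_mem _
  -- `H` is `N P`
  have hNP : (P : Subgroup G) ⊔ N = H := by
    refine Subgroup.eq_of_le_of_card_ge (sup_le hPH hNH) (Nat.le_of_dvd Nat.card_pos ?_)
    rw [hHcard]
    obtain ⟨c, hc⟩ := IsPGroup.iff_card.mp P.isPGroup'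
    have hbc : q ^ b ∣ Nat.card (P : Subgroup G) := by
      rw [hc]
      have h1 : q ^ b ∣ Nat.card G := (dvd_mul_left _ _).trans (hHcard ▸ H.card_subgroup_dvd_card)
      rw [← (P : Subgroup G).card_mul_index, hc] at h1
      exact (((hq.coprime_iff_not_dvd.mpr P.not_dvd_index).pow_left b)).dvd_of_dvd_mul_right h1
    exact ((Nat.coprime_pow_primes a b hp hq (Ne.symm hqp)).mul_dvd_of_dvd_of_dvd (ha ▸ Subgroup.card_dvd_of_le le_sup_right)
      (hbc.trans (Subgroup.card_dvd_of_le le_sup_left)))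
  have hNtop : Subgroup.normalizer ((P : Subgroup G) : Set G) ⊔ N = ⊤ := by
    rw [← hfr, ← hNP, ← sup_assoc, sup_eq_left.mpr (Subgroup.le_normalizer : (P : Subgroup G) ≤ _)]
  obtain ⟨M, hM, hPM⟩ := (eq_top_or_exists_le_coatom (Subgroup.normalizer ((P : Subgroup G) : Set G))).resolve_left
    fun e => hPn (Subgroup.normalizer_eq_top_iff.mp e)
  have hMN : M ⊔ N = ⊤ := top_le_iff.mp (hNtop ▸ sup_le_sup_right hPM N)
  have hbot : M ⊓ N = ⊥ := by
    have hn' : (M ⊓ N).Normal := by
      rw [← Subgroup.normalizer_eq_top_iff, ← top_le_iff, ← hMN]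
      refine sup_le (Subgroup.le_normalizer_iff.mpr fun m hm x hx =>
        ⟨M.mul_mem (M.mul_mem hm hx.1) (M.inv_mem hm), hNn.conj_mem x hx.2 m⟩) (Subgroup.le_normalizer_iff.mpr fun c hc x hx => ?_)
      rwa [show c * x = x * c from congrArg Subtype.val (hab.is_comm.comm (⟨c, hc⟩ : N) ⟨x, hx.2⟩), mul_inv_cancel_right]
    rcases hmin _ hn' inf_le_right with h' | h'
    · exact h'
    · exact absurd (by rw [← hMN, sup_eq_left.mpr (inf_eq_right.mp h')]) hM.1
  have hcomp : Subgroup.IsComplement' M N := Subgroup.isComplement'_of_disjoint_and_mul_eq_univ (disjoint_iff.mpr hbot)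
    (by rw [← Subgroup.mul_normal, hMN]; rfl)
  have hc := h M hM
  rw [hcomp.symm.index_eq_card, ha] at hc
  have hMcard : Nat.card M = N.index := hcomp.index_eq_card.symm
  rw [hMcard] at hc
  exact hp.coprime_iff_not_dvd.mp ((hc.coprime_dvd_right (dvd_pow_self p ha0)).symm) hpi

/-- Let G be a nontrivial finite solvable group in which every maximal subgroup has order coprime to its index. Then for some prime p dividing the order of G the Sylow p-subgroups of G are normal. -/
theorem result {G : Type*} [Group G] [Finite G] [Group.IsSolvable G] [Nontrivial G] (h : ∀ M : Subgroup G, IsCoatom M → (Nat.card M).Coprime M.index) : ∃ p : ℕ, p.Prime ∧ p ∣ Nat.card G ∧ ∀ P : Sylow p G, (P : Subgroup G).Normal := by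
    exact main _ G rfl inferInstance h

end Cfsg.Agent.S0553
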