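import Cfsg.Statements.S0554
import Mathlib
import Cfsg.Agent.Lib.Solvable.CoreFree
-- import your own Cfsg.Agent.* helpers here

set_option autoImplicit false
open Cfsg

namespace Cfsg.Agent.S0554

universe u

open scoped Pointwise

private theorem main : ∀ n : ℕ, ∀ (G : Type u) [Group G] [Finite G] [Group.IsSolvable G], Nat.card G = n →
    ∀ (t : ℕ) (p : Fin t → ℕ), (∀ i, (p i).Prime) → (∀ q : ℕ, q.Prime → q ∣ Nat.card G → ∃ i, p i = q) →
    ∀ S : (i : Fin t) → Sylow (p i) G, (List.ofFn fun i => ((S i : Subgroup G) : Set G)).prod = Set.univ := by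
  intro n
  induction n using Nat.strong_induction_on with
  | _ n ih =>
  intro G _ _ _ hn t p hp hall S
  set P := (List.ofFn fun i => ((S i : Subgroup G) : Set G)).prod with hP
  refine Set.eq_univ_of_forall fun g => ?_
  by_cases hsub : Subsingleton G
  · rw [hP, Set.mem_prod_list_ofFn]
    exact ⟨fun i => ⟨1, one_mem _⟩, Subsingleton.elim _ _⟩
  rw [not_subsingleton_iff_nontrivial] at hsub
  obtain ⟨N, hNn, -, hN0, -, -, r, hr, hNr⟩ := CfsgLib.CoreFree.exists_abelian_minimal (G := G) (N := ⊤) top_ne_bot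
  have := Fact.mk hr
  obtain ⟨a, ha⟩ := IsPGroup.iff_card.mp hNr
  have hrd : r ∣ Nat.card G := (ha ▸ dvd_pow_self r fun h0 => hN0 (Subgroup.card_eq_one.mp (by rw [ha, h0, pow_zero]))).trans
    N.card_subgroup_dvd_card
  obtain ⟨j, hj⟩ := hall r hr hrd
  subst hj
  have hNS : N ≤ (S j : Subgroup G) := by
    obtain ⟨Q, hQ⟩ := hNr.exists_le_sylow
    obtain ⟨x, hx⟩ := MulAction.exists_smul_eq G Q (S j)
    intro y hy
    rw [← hx]
    exact ⟨x⁻¹ * y * x, hQ (by simpa using hNn.conj_mem y hy x⁻¹), by simp [MulAut.smul_def]; group⟩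
  -- the product absorbs `N`
  have hcomm : ∀ A : Set G, (N : Set G) * A = A * (N : Set G) := fun A => (Subgroup.set_mul_normal_comm A N).symm
  have habs : ∀ (L : List (Subgroup G)), (S j : Subgroup G) ∈ L →
      (L.map fun K => ((K : Subgroup G) : Set G)).prod * (N : Set G) = (L.map fun K => ((K : Subgroup G) : Set G)).prod := by
    intro L hL
    induction L with
    | nil => simp at hL
    | cons K L ihL =>
      rw [List.map_cons, List.prod_cons]
      rcases List.mem_cons.mp hL with h | h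
      · rw [mul_assoc, ← hcomm, ← mul_assoc]
        congr 1
        subst h
        refine Set.Subset.antisymm ?_ fun x hx => ⟨x, hx, 1, one_mem _, mul_one x⟩
        rintro _ ⟨x, hx, y, hy, rfl⟩
        exact mul_mem hx (hNS hy)
      · rw [mul_assoc, ihL h]
  have hmaps : (List.ofFn fun i => ((S i : Subgroup G) : Set G)) =
      (List.ofFn fun i => (S i : Subgroup G)).map fun K => ((K : Subgroup G) : Set G) := by
    rw [List.map_ofFn]; rfl
  have hPN : P * (N : Set G) = P := by
    rw [hP, hmaps]; exact habs _ (List.mem_ofFn.mpr ⟨j, rfl⟩)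
  -- induction
  have hlt : Nat.card (G ⧸ N) < n := by
    rw [← hn, ← N.card_mul_index, Subgroup.index]
    exact lt_mul_of_one_lt_left Nat.card_pos ((Subgroup.one_lt_card_iff_ne_bot N).mpr hN0)
  let π := QuotientGroup.mk' N
  have hsurj := QuotientGroup.mk'_surjective N
  have hfact : ∀ i, Fact (p i).Prime := fun i => ⟨hp i⟩
  let S' : (i : Fin t) → Sylow (p i) (G ⧸ N) := fun i => (S i).mapSurjective hsurj
  have hu := ih _ hlt (G ⧸ N) rfl t p hp (fun q hq hqd => hall q hq (hqd.trans N.card_quotient_dvd_card)) S'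
  have hg : π g ∈ (List.ofFn fun i => ((S' i : Subgroup (G ⧸ N)) : Set (G ⧸ N))).prod := hu ▸ Set.mem_univ _
  obtain ⟨f, hf⟩ := Set.mem_prod_list_ofFn.mp hg
  have hlift : ∀ i, ∃ x : G, x ∈ (S i : Subgroup G) ∧ π x = (f i : G ⧸ N) := fun i => by
    obtain ⟨x, hx, e⟩ := (f i).2
    exact ⟨x, hx, e⟩
  choose x hx hxe using hlift
  have hmem : (List.ofFn x).prod ∈ P := Set.mem_prod_list_ofFn.mpr ⟨fun i => ⟨x i, hx i⟩, rfl⟩
  have hq : π (List.ofFn x).prod = π g := by
    rw [map_list_prod, List.map_ofFn]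
    refine Eq.trans ?_ hf
    congr 2
    funext i
    exact hxe i
  rw [← hPN]
  refine ⟨_, hmem, (List.ofFn x).prod⁻¹ * g, ?_, mul_inv_cancel_left _ g⟩
  rw [SetLike.mem_coe, ← QuotientGroup.eq_one_iff]
  show π ((List.ofFn x).prod⁻¹ * g) = 1
  rw [map_mul, map_inv, hq, inv_mul_cancel]

/-- Let G be a finite solvable group and let S assign to each of t distinct primes, including every prime divisor of the order of G, a Sylow subgroup of G. Then every element of G is a product s_0 s_1 ⋯ s_(t-1) with s_i in S i, the factors taken in the given order. -/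
theorem result {G : Type*} [Group G] [Finite G] [Group.IsSolvable G] (t : ℕ) (p : Fin t → ℕ) (hp : ∀ i, (p i).Prime) (hinj : Function.Injective p) (hall : ∀ q : ℕ, q.Prime → q ∣ Nat.card G → ∃ i, p i = q) (S : (i : Fin t) → Sylow (p i) G) : ∀ g : G, ∃ s : (i : Fin t) → G, (∀ i, s i ∈ (S i : Subgroup G)) ∧ g = (List.ofFn s).prod := by
    intro g
    have h := main _ G rfl t p hp hall S
    obtain ⟨f, hf⟩ := Set.mem_prod_list_ofFn.mp (h ▸ Set.mem_univ g :
      g ∈ (List.ofFn fun i => ((S i : Subgroup G) : Set G)).prod)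
    exact ⟨fun i => f i, fun i => (f i).2, hf.symm⟩

end Cfsg.Agent.S0554
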