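import Cfsg.Statements.S0555
import Mathlib
-- import your own Cfsg.Agent.* helpers here

set_option autoImplicit false
open Cfsg

namespace Cfsg.Agent.S0555

open scoped commutatorElement

/-- Let i ≥ 1. If in the derived series of a group the quotient of the i-th term by the (i+1)-st and the quotient of the (i+1)-st by the (i+2)-nd are both cyclic, then the (i+1)-st and (i+2)-nd terms coincide. -/
theorem result {G : Type*} [Group G] (i : ℕ) (hi : 1 ≤ i) (h₁ : IsCyclic (↥(derivedSeries G i) ⧸ (derivedSeries G (i + 1)).subgroupOf (derivedSeries G i))) (h₂ : IsCyclic (↥(derivedSeries G (i + 1)) ⧸ (derivedSeries G (i + 2)).subgroupOf (derivedSeries G (i + 1)))) : derivedSeries G (i + 1) = derivedSeries G (i + 2) := by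
  set A := derivedSeries G (i + 1) with hA
  set N := derivedSeries G (i + 2) with hN
  haveI hNn : N.Normal := derivedSeries_normal G (i + 2)
  haveI hAn : A.Normal := derivedSeries_normal G (i + 1)
  set q := QuotientGroup.mk' N with hq
  have hqs : Function.Surjective q := QuotientGroup.mk'_surjective N
  haveI : (A.map q).Normal := hAn.map q hqs
  have hle : N ≤ A := derivedSeries_antitone G (Nat.le_succ _)
  -- `A / N` is cyclic, so centralized by the derived subgroup
  have hcyc : ∀ B C : Subgroup G, [B.Normal] → B ≤ C → IsCyclic (↥C ⧸ B.subgroupOf C) →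
      IsCyclic (C.map (QuotientGroup.mk' B)) := by
    intro B C _ hBC hc
    refine isCyclic_of_surjective (QuotientGroup.lift (B.subgroupOf C)
      (((QuotientGroup.mk' B).comp C.subtype).codRestrict (C.map (QuotientGroup.mk' B)) fun x => ⟨x, x.2, rfl⟩) fun x hx =>
        MonoidHom.mem_ker.mpr (Subtype.ext ((QuotientGroup.eq_one_iff _).mpr hx))) ?_
    rintro ⟨_, c, hc', rfl⟩
    exact ⟨QuotientGroup.mk ⟨c, hc'⟩, rfl⟩
  haveI hAc := hcyc N A hle h₂
  have hcent : ∀ a ∈ A, ∀ b ∈ commutator G, ⁅b, a⁆ ∈ N := by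
    intro a ha b hb
    have hker : ∀ g h : G ⧸ N, MulAut.conjNormal (H := A.map q) (⁅g, h⁆) = 1 := by
      intro g h
      letI := hAc
      rw [map_commutatorElement, ← (IsCyclic.mulAutMulEquiv _).injective.eq_iff, map_commutatorElement, map_one]
      exact commutatorElement_eq_one_iff_mul_comm.mpr (mul_comm _ _)
    have hb' : q b ∈ commutator (G ⧸ N) := by
      have : q b ∈ (commutator G).map q := ⟨b, hb, rfl⟩
      rwa [commutator_def, Subgroup.map_commutator, Subgroup.map_top_of_surjective q hqs] at this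
    have hle' : commutator (G ⧸ N) ≤ (MulAut.conjNormal (H := A.map q)).ker := by
      rw [commutator_def, Subgroup.commutator_le]
      exact fun g _ h _ => hker g h
    have h1 := congrArg Subtype.val (congrFun (congrArg DFunLike.coe (MonoidHom.mem_ker.mp (hle' hb'))) (⟨q a, a, ha, rfl⟩ : A.map q))
    rw [MulAut.conjNormal_apply] at h1
    change q b * q a * (q b)⁻¹ = q a at h1
    rw [← QuotientGroup.eq_one_iff]
    show q ⁅b, a⁆ = 1
    rw [map_commutatorElement, commutatorElement_def, h1, mul_inv_cancel]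
  -- `G^(i) / N` is abelian
  set B := derivedSeries G i with hB
  haveI : B.Normal := derivedSeries_normal G i
  have hBG : B ≤ commutator G := by
    rw [← derivedSeries_one]; exact derivedSeries_antitone G hi
  obtain ⟨g, hg⟩ := h₁
  refine le_antisymm ?_ hle
  obtain ⟨g₀, rfl⟩ := QuotientGroup.mk_surjective g
  have hdec : ∀ b ∈ B, ∃ a ∈ A, ∃ k : ℤ, b = a * (g₀ : G) ^ k := by
    intro b hb
    obtain ⟨k, hk⟩ := hg ((⟨b, hb⟩ : B) : ↥B ⧸ A.subgroupOf B)
    refine ⟨b * ((g₀ : G) ^ k)⁻¹, ?_, k, (inv_mul_cancel_right _ _).symm⟩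
    have : ((⟨b, hb⟩ : B) * (g₀ ^ k)⁻¹ : B) ∈ A.subgroupOf B := by
      rw [← QuotientGroup.eq_one_iff, QuotientGroup.mk_mul, QuotientGroup.mk_inv, QuotientGroup.mk_zpow]
      exact mul_inv_eq_one.mpr hk.symm
    simpa [Subgroup.mem_subgroupOf] using this
  have hcm : ∀ a ∈ A, ∀ b ∈ B, Commute (q a) (q b) := fun a ha b hb => by
    have := (QuotientGroup.eq_one_iff _).mpr (hcent a ha b (hBG hb))
    change q ⁅b, a⁆ = 1 at this
    rw [map_commutatorElement, commutatorElement_eq_one_iff_mul_comm] at this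
    exact this.symm
  rw [hA, derivedSeries_succ, Subgroup.commutator_le]
  intro x hx y hy
  obtain ⟨a, ha, k, rfl⟩ := hdec x hx
  obtain ⟨c, hc, l, rfl⟩ := hdec y hy
  rw [← QuotientGroup.eq_one_iff]
  show q ⁅a * (g₀ : G) ^ k, c * (g₀ : G) ^ l⁆ = 1
  rw [map_commutatorElement, commutatorElement_eq_one_iff_mul_comm, map_mul, map_mul]
  have hgB : ∀ m : ℤ, (g₀ : G) ^ m ∈ B := fun m => B.zpow_mem g₀.2 m
  exact (Commute.mul_left (Commute.mul_right (hcm a ha c ((derivedSeries_antitone G (Nat.le_succ i)) hc)) (hcm a ha _ (hgB l)))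
    (Commute.mul_right (hcm c hc _ (hgB k)).symm (((Commute.refl (g₀ : G)).zpow_zpow k l).map q))).eq

end Cfsg.Agent.S0555
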