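import Cfsg.Statements.S0556
import Mathlib
import Cfsg.Agent.Lib.Frobenius.More
import Cfsg.Agent.Lib.Solvable.HallSystem
-- import your own Cfsg.Agent.* helpers here

set_option autoImplicit false
open Cfsg

namespace Cfsg.Agent.S0556

universe u
open scoped Pointwise commutatorElement
variable {G : Type u} [Group G]

private theorem commutator_le_of_abelian {X : Type u} [Group X] {f : G →* X} (hf : Function.Surjective f) (h : ∀ x y : X, x * y = y * x) :
    commutator G ≤ f.ker := by
  rw [commutator_def, Subgroup.commutator_le]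
  intro a _ b _
  rw [MonoidHom.mem_ker, map_commutatorElement, commutatorElement_eq_one_iff_mul_comm]
  exact h _ _

private theorem center_ne_bot {X : Type u} [Group X] [Group.IsNilpotent X] [Nontrivial X] : Subgroup.center X ≠ ⊥ := by
  intro e
  have hall : ∀ n, Subgroup.upperCentralSeries X n = ⊥ := fun n => by
    induction n with
    | zero => rfl
    | succ n ih =>
      rw [eq_bot_iff]
      intro x hx
      rw [← e, Subgroup.mem_center_iff]
      intro y
      have h := Subgroup.mem_upperCentralSeries_succ_iff.mp hx y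
      rw [ih, Subgroup.mem_bot, commutatorElement_eq_one_iff_mul_comm] at h
      exact h.symm
  obtain ⟨n, hn⟩ := (inferInstance : Group.IsNilpotent X).nilpotent
  exact bot_ne_top ((hall n).symm.trans hn)

/-- If a finite group has a maximal subgroup that is abelian, then the third term of its derived series is trivial (so the group is solvable of derived length at most three). -/
theorem result {G : Type*} [Group G] [Finite G] (A : Subgroup G) (hA : IsCoatom A) [IsMulCommutative A] : derivedSeries G 3 = ⊥ := by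
  classical
  have hcomm : ∀ a ∈ A, ∀ b ∈ A, a * b = b * a := fun a ha b hb =>
    congrArg Subtype.val ((IsMulCommutative.is_comm (M := A)).comm ⟨a, ha⟩ ⟨b, hb⟩)
  have hder1 : derivedSeries G 1 = commutator G := by rw [derivedSeries_one]
  have hAcom : ⁅A, A⁆ = ⊥ := by
    rw [Subgroup.commutator_eq_bot_iff_le_centralizer]
    exact fun a ha => Subgroup.mem_centralizer_iff.mpr fun b hb => hcomm b hb a ha
  have hmono : ∀ {n : ℕ} {K : Subgroup G}, derivedSeries G n ≤ K → derivedSeries G (n + 1) ≤ ⁅K, K⁆ := fun {n K} h => by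
    rw [derivedSeries_succ]; exact Subgroup.commutator_mono h h
  by_cases hN : A.Normal
  · -- the quotient is cyclic
    obtain ⟨g, hg⟩ : ∃ g : G, g ∉ A := by
      by_contra h
      push Not at h
      exact hA.1 (top_unique fun x _ => h x)
    have htop : A ⊔ Subgroup.zpowers g = ⊤ := hA.2 _ (lt_of_le_of_ne le_sup_left fun e => hg (e ▸ Subgroup.mem_sup_right (Subgroup.mem_zpowers g)))
    have hle : commutator G ≤ A := by
      have hgen : ∀ x : G ⧸ A, x ∈ Subgroup.zpowers (g : G ⧸ A) := fun x => by
        induction x using QuotientGroup.induction_on with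
        | _ x =>
          have hx : x ∈ ((A : Set G) * (Subgroup.zpowers g : Set G)) := by
            rw [← Subgroup.normal_mul, htop]; trivial
          obtain ⟨a, ha, z, hz, rfl⟩ := hx
          obtain ⟨i, rfl⟩ := hz
          exact ⟨i, by simp [(QuotientGroup.eq_one_iff a).mpr ha]⟩
      refine (commutator_le_of_abelian (f := QuotientGroup.mk' A) (QuotientGroup.mk'_surjective A) fun x y => ?_).trans (QuotientGroup.ker_mk' A).le
      obtain ⟨i, rfl⟩ := hgen x
      obtain ⟨j, rfl⟩ := hgen y
      simp only [← zpow_add, add_comm]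
    have h2 : derivedSeries G 2 ≤ ⊥ := (hmono (n := 1) (hder1.le.trans hle)).trans hAcom.le
    exact le_bot_iff.mp ((hmono (n := 2) h2).trans (Subgroup.commutator_le_self ⊥))
  set C := A.normalCore with hC
  have hCA : C ≤ A := A.normalCore_le
  have hcen : Subgroup.centralizer (C : Set G) = ⊤ := by
    have hle : A ≤ Subgroup.centralizer (C : Set G) := fun a ha =>
      Subgroup.mem_centralizer_iff.mpr fun c hc => hcomm c (hCA hc) a ha
    rcases hle.eq_or_lt with e | e
    · exact absurd (e ▸ (inferInstance : (Subgroup.centralizer (C : Set G)).Normal)) hN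
    · exact hA.2 _ e
  have hCz : C ≤ Subgroup.center G := fun c hc => Subgroup.mem_center_iff.mpr fun g =>
    (Subgroup.mem_centralizer_iff.mp (show g ∈ Subgroup.centralizer (C : Set G) from hcen ▸ Subgroup.mem_top g) c hc).symm
  have hnA : Subgroup.normalizer (A : Set G) = A := by
    rcases (Subgroup.le_normalizer (H := A)).eq_or_lt with e | e
    · exact e.symm
    · exact absurd (Subgroup.normalizer_eq_top_iff.mp (hA.2 _ e)) hN
  have hZA : Subgroup.center G ≤ A := fun z hz => by
    rw [← hnA, Subgroup.mem_normalizer_iff]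
    intro y
    rw [← Subgroup.mem_center_iff.mp hz y, mul_inv_cancel_right]
  have hti : ∀ g : G, g ∉ A → ∀ x ∈ A, g⁻¹ * x * g ∈ A → x ∈ C := by
    intro g hg x hx hx'
    have htop : A ⊔ MulAut.conj g • A = ⊤ := hA.2 _ (lt_of_le_of_ne le_sup_left fun e => hg (by
      rw [← hnA, ← CfsgLib.HallSystem.conj_eq_iff_mem]
      refine Subgroup.eq_of_le_of_card_ge (le_sup_right.trans e.symm.le) (CfsgLib.card_conj_smul g A).ge))
    have hle : A ⊔ MulAut.conj g • A ≤ Subgroup.centralizer ({x} : Set G) := by
      refine sup_le (fun a ha => Subgroup.mem_centralizer_singleton_iff.mpr (hcomm a ha x hx)) fun a ha => ?_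
      rw [CfsgLib.mem_conj_smul_iff] at ha
      have h1 := hcomm _ ha _ hx'
      rw [Subgroup.mem_centralizer_singleton_iff]
      have h2 : g⁻¹ * (a * x) * g = g⁻¹ * (x * a) * g := by simpa [mul_assoc] using h1
      exact mul_left_cancel (mul_right_cancel h2)
    rw [htop] at hle
    have hxz : Subgroup.zpowers x ≤ Subgroup.center G := Subgroup.zpowers_le.mpr (Subgroup.mem_center_iff.mpr fun y =>
      Subgroup.mem_centralizer_singleton_iff.mp (hle (Subgroup.mem_top y)))
    exact Subgroup.normal_le_normalCore.mpr hZA (hxz (Subgroup.mem_zpowers x))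
  set f := QuotientGroup.mk' C with hfd
  have hfs := QuotientGroup.mk'_surjective C
  have hmem : ∀ x, f x ∈ A.map f ↔ x ∈ A := fun x => by
    rw [← Subgroup.mem_comap, Subgroup.comap_map_eq, QuotientGroup.ker_mk', sup_eq_left.mpr hCA]
  have hH : Cfsg.IsFrobeniusComplement (A.map f) := by
    refine ⟨fun e => hN ?_, fun e => hA.1 ?_, fun q hq => ?_⟩
    · rw [Subgroup.map_eq_bot_iff, QuotientGroup.ker_mk'] at e
      rw [le_antisymm e hCA]
      infer_instance
    · exact top_unique fun x _ => (hmem x).mp (e ▸ Subgroup.mem_top _)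
    · obtain ⟨g, rfl⟩ := hfs q
      rw [eq_bot_iff]
      rintro y ⟨hy1, hy2⟩
      obtain ⟨x, hx, rfl⟩ := hy1
      replace hy2 : f x ∈ MulAut.conj (f g) • A.map f := hy2
      rw [CfsgLib.mem_conj_smul_iff, ← map_inv, ← map_mul, ← map_mul, hmem] at hy2
      rw [Subgroup.mem_bot]
      exact (QuotientGroup.eq_one_iff x).mpr (hti g (fun hgA => hq ((hmem g).mpr hgA)) x hx hy2)
  obtain ⟨K, -, hKn, hKc, hKnil⟩ := CfsgLib.Frob.exists_nilpotent_kernel hH
  haveI := hKn
  haveI := hKnil
  have hK0 : K ≠ ⊥ := CfsgLib.Frob.kernel_ne_bot hH hKc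
  haveI : Nontrivial K := (Subgroup.nontrivial_iff_ne_bot K).mpr hK0
  set Z := (Subgroup.center K).map K.subtype with hZ
  have hZK : Z ≤ K := Subgroup.map_subtype_le _
  have hZn : Z.Normal := inferInstance
  have hZtop : Z ⊔ A.map f = ⊤ := by
    have hlt : A < (Z ⊔ A.map f).comap f := by
      refine lt_of_le_of_ne (fun a ha => Subgroup.mem_sup_right ((hmem a).mpr ha)) fun e => ?_
      haveI := Subgroup.nontrivial_iff_ne_bot _ |>.mpr (center_ne_bot (X := K))
      obtain ⟨⟨z, hz⟩, hz1⟩ := exists_ne (1 : Subgroup.center K)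
      obtain ⟨x, hx⟩ := hfs (z : G ⧸ C)
      have hxA : x ∈ A := by
        rw [e, Subgroup.mem_comap, hx]
        exact Subgroup.mem_sup_left ⟨z, hz, rfl⟩
      have h1 : (z : G ⧸ C) = 1 := Subgroup.disjoint_def.mp hKc.disjoint z.2 (hx ▸ (hmem x).mpr hxA)
      exact hz1 (Subtype.ext (Subtype.ext h1))
    have h := hA.2 _ hlt
    have h2 := congrArg (Subgroup.map f) h
    rwa [Subgroup.map_comap_eq_self_of_surjective hfs, Subgroup.map_top_of_surjective _ hfs] at h2
  have hKab : ∀ k ∈ K, k ∈ Z := fun k hk => by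
    haveI := hZn
    have hk' : k ∈ ((Z : Set (G ⧸ C)) * (A.map f : Set (G ⧸ C))) := by rw [← Subgroup.normal_mul, hZtop]; trivial
    obtain ⟨z, hz, a, ha, e⟩ := hk'
    have haK : a ∈ K := by
      rw [show a = z⁻¹ * k by rw [← e, inv_mul_cancel_left]]
      exact K.mul_mem (K.inv_mem (hZK hz)) hk
    rw [Subgroup.disjoint_def.mp hKc.disjoint haK ha] at e
    simp only [mul_one] at e
    exact e ▸ hz
  have hKK : ⁅K, K⁆ = ⊥ := by
    rw [Subgroup.commutator_eq_bot_iff_le_centralizer]
    intro x hx
    refine Subgroup.mem_centralizer_iff.mpr fun y hy => ?_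
    obtain ⟨z, hz, rfl⟩ := hKab x hx
    exact congrArg Subtype.val (Subgroup.mem_center_iff.mp hz ⟨y, hy⟩)
  have hQK : commutator (G ⧸ C) ≤ K := by
    rw [commutator_def, Subgroup.commutator_le]
    intro x _ y _
    have hrep : ∀ q : G ⧸ C, ∃ a ∈ A.map f, QuotientGroup.mk' K q = QuotientGroup.mk' K a := fun q => by
      obtain ⟨⟨⟨k, hk⟩, ⟨a, ha⟩⟩, rfl⟩ := (show Function.Surjective fun z : K × A.map f => (z.1 : G ⧸ C) * z.2 from hKc.2) q
      exact ⟨a, ha, by simp [(QuotientGroup.eq_one_iff k).mpr hk]⟩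
    obtain ⟨a, ha, hxa⟩ := hrep x
    obtain ⟨b, hb, hyb⟩ := hrep y
    obtain ⟨a₀, ha₀, rfl⟩ := ha
    obtain ⟨b₀, hb₀, rfl⟩ := hb
    rw [← QuotientGroup.eq_one_iff]
    show QuotientGroup.mk' K ⁅x, y⁆ = 1
    rw [map_commutatorElement, hxa, hyb, commutatorElement_eq_one_iff_mul_comm, ← map_mul, ← map_mul, ← map_mul, ← map_mul, hcomm a₀ ha₀ b₀ hb₀]
  have h2 : derivedSeries G 2 ≤ C := by
    have e : ∀ n, (derivedSeries G n).map f ≤ derivedSeries (G ⧸ C) n := fun n => map_derivedSeries_le_derivedSeries f n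
    have h : (derivedSeries G 2).map f ≤ ⊥ := (e 2).trans (by
      rw [derivedSeries_succ, derivedSeries_one, ← hKK]
      exact Subgroup.commutator_mono hQK hQK)
    rw [le_bot_iff, Subgroup.map_eq_bot_iff, QuotientGroup.ker_mk'] at h
    exact h
  refine le_bot_iff.mp ((hmono h2).trans ?_)
  rw [le_bot_iff, Subgroup.commutator_eq_bot_iff_le_centralizer]
  exact le_top.trans hcen.ge

end Cfsg.Agent.S0556
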