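import Cfsg.Statements.S0557
import Mathlib
import Cfsg.Agent.Lib.Transfer
-- import your own Cfsg.Agent.* helpers here

set_option autoImplicit false
open Cfsg
open scoped commutatorElement

namespace Cfsg.Agent.S0557

/-- Let H be a subgroup of a finite group G with order coprime to its index. If iterating the focal-subgroup construction starting from H reaches the trivial subgroup after finitely many steps, then H has a normal complement in G. -/
theorem result {G : Type*} [Group G] [Finite G] (H : Subgroup G) (hHall : (Nat.card H).Coprime H.index) (n : ℕ) (hfoc : (fun K : Subgroup G => Subgroup.focalSubgroup K)^[n] H = ⊥) : ∃ N : Subgroup G, N.Normal ∧ Subgroup.IsComplement' N H := by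
  induction n generalizing G with
  | zero =>
    have hH : H = ⊥ := hfoc
    exact ⟨⊤, inferInstance, by rw [hH]; exact Subgroup.isComplement'_top_bot⟩
  | succ n ih =>
    have hcop : (H.index).Coprime (Nat.card (H ⧸ H.focalSubgroupOf)) :=
      hHall.symm.coprime_dvd_right (Subgroup.card_quotient_dvd_card _)
    obtain ⟨-, N₁, hN₁, hinf, hsup⟩ := CfsgLib.Transfer.exists_normal_inf_eq_focal H hcop
    set F := H.focalSubgroup with hF
    have hFN : F ≤ N₁ := hinf ▸ inf_le_left
    set F' := F.subgroupOf N₁ with hF'
    have hrel : H.relIndex N₁ = H.index := by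
      have h1 := Subgroup.relIndex_sup_right (H := H) (K := N₁)
      have e1 : N₁.index * Nat.card N₁ = Nat.card G := by rw [mul_comm]; exact N₁.card_mul_index
      rw [show H ⊔ N₁ = ⊤ from sup_comm H N₁ ▸ hsup, Subgroup.relIndex_top_right] at h1
      have e2 : (H ⊓ N₁).relIndex H = N₁.index := by rw [Subgroup.inf_relIndex_left]; exact h1.symm
      have e3 := Subgroup.relIndex_mul_index (inf_le_left : H ⊓ N₁ ≤ H)
      have e4 := Subgroup.relIndex_mul_index (inf_le_right : H ⊓ N₁ ≤ N₁)
      rw [Subgroup.inf_relIndex_right, ← e3, e2, mul_comm] at e4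
      exact Nat.eq_of_mul_eq_mul_left (Nat.pos_of_ne_zero N₁.index_ne_zero_of_finite) e4
    have hidx : F'.index = H.index := by
      show F.relIndex N₁ = _
      rw [← hinf, inf_comm, Subgroup.inf_relIndex_right, hrel]
    have hcardF : Nat.card F' ∣ Nat.card H := by
      rw [Nat.card_congr (Subgroup.subgroupOfEquivOfLe hFN).toEquiv]
      exact Subgroup.card_dvd_of_le H.focalSubgroup_le
    have hmono : ∀ (K : Subgroup N₁) (L : Subgroup G), K.map N₁.subtype ≤ L → K.focalSubgroup.map N₁.subtype ≤ L.focalSubgroup := by
      intro K L hKL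
      rw [Subgroup.focalSubgroup_def, Subgroup.focalSubgroup_def, MonoidHom.map_closure]
      refine Subgroup.closure_mono ?_
      rintro _ ⟨g, ⟨hg, x, hx, u, rfl⟩, rfl⟩
      exact ⟨hKL ⟨_, hg, rfl⟩, x, hKL ⟨_, hx, rfl⟩, u, by rw [map_commutatorElement]; rfl⟩
    have hiter : ∀ j, ((fun K : Subgroup N₁ => Subgroup.focalSubgroup K)^[j] F').map N₁.subtype ≤ (fun K : Subgroup G => Subgroup.focalSubgroup K)^[j] F := by
      intro j
      induction j with
      | zero => exact (Subgroup.map_subgroupOf_eq_of_le hFN).le
      | succ j ihj =>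
        rw [Function.iterate_succ_apply', Function.iterate_succ_apply']
        exact hmono _ _ ihj
    have hbot : (fun K : Subgroup N₁ => Subgroup.focalSubgroup K)^[n] F' = ⊥ := by
      rw [← Subgroup.map_eq_bot_iff_of_injective _ N₁.subtype_injective, eq_bot_iff]
      refine (hiter n).trans ?_
      rw [Function.iterate_succ_apply] at hfoc
      exact hfoc.le
    have hFHall : (Nat.card F').Coprime F'.index := hidx ▸ hHall.coprime_dvd_left hcardF
    obtain ⟨N, hN, hc⟩ := ih F' hFHall hbot
    have hNidx : Nat.card N = H.index := by rw [← hidx, hc.index_eq_card]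
    have hchar : N.Characteristic := by
      rw [Subgroup.characteristic_iff_map_le]
      intro e
      rw [← QuotientGroup.ker_mk' N, ← Subgroup.map_eq_bot_iff, ← Subgroup.card_eq_one]
      refine Nat.eq_one_of_dvd_coprimes hFHall.symm ?_ ?_
      · refine (Subgroup.card_map_dvd _ _).trans ?_
        rw [QuotientGroup.ker_mk', Subgroup.card_map_of_injective (f := e.toMonoidHom) e.injective, hNidx, hidx]
      · refine (Subgroup.card_subgroup_dvd_card _).trans ?_
        rw [← Subgroup.index_eq_card, hc.symm.index_eq_card]
    refine ⟨N.map N₁.subtype, inferInstance, Subgroup.isComplement'_of_card_mul_and_disjoint ?_ ?_⟩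
    · rw [Subgroup.card_map_of_injective N₁.subtype_injective, hNidx, mul_comm, H.card_mul_index]
    · rw [disjoint_iff, eq_bot_iff]
      rintro _ ⟨⟨x, hx, rfl⟩, hH⟩
      have hxF : x ∈ F' := by
        show (x : G) ∈ F
        rw [← hinf]
        exact ⟨x.2, hH⟩
      have : x ∈ N ⊓ F' := ⟨hx, hxF⟩
      rw [hc.disjoint.eq_bot, Subgroup.mem_bot] at this
      simp [this]

end Cfsg.Agent.S0557
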