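import Cfsg.Statements.S0558
import Mathlib
import Cfsg.Agent.Lib.Frobenius.Splitting
import Cfsg.Agent.Lib.PComplement
-- import your own Cfsg.Agent.* helpers here

set_option autoImplicit false
open Cfsg

namespace Cfsg.Agent.S0558

/-- Let H be a subgroup of a finite group G that is not a Sylow subgroup of G for any prime, and suppose that for every prime p dividing the order of H and every Sylow p-subgroup P of H the normalizer of P in G is exactly H. Then some normal subgroup of G is a complement to H. -/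
theorem result {G : Type*} [Group G] [Finite G] (H : Subgroup G) (hnot : ∀ p : ℕ, p.Prime → ∀ P : Sylow p G, (P : Subgroup G) ≠ H) (hnorm : ∀ p : ℕ, p.Prime → p ∣ Nat.card H → ∀ P : Sylow p H, Subgroup.normalizer (((P : Subgroup H).map H.subtype : Subgroup G) : Set G) = H) : ∃ N : Subgroup G, N.Normal ∧ Subgroup.IsComplement' N H := by
    classical
    -- every Sylow subgroup of `H` is normal in `H`
    have hHn : Group.IsNilpotent H := by
      refine ((Group.isNilpotent_of_finite_tfae (G := H)).out 0 3).mpr ?_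
      intro p hp P
      have := hp
      by_cases hd : p ∣ Nat.card H
      · refine ⟨fun x hx g => ?_⟩
        have hg : (g : G) ∈ Subgroup.normalizer (((P : Subgroup H).map H.subtype : Subgroup G) : Set G) := by
          rw [hnorm p hp.out hd P]; exact g.2
        obtain ⟨y, hy, e⟩ := (Subgroup.mem_normalizer_iff.mp hg (x : G)).mp ⟨x, hx, rfl⟩
        rwa [show g * x * g⁻¹ = y from Subtype.ext e.symm]
      · obtain ⟨k, hk⟩ := IsPGroup.iff_card.mp P.isPGroup'
        have h0 : k = 0 := by
          by_contra h0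
          exact hd ((hk ▸ dvd_pow_self p h0).trans (P : Subgroup H).card_subgroup_dvd_card)
        have hb : (P : Subgroup H) = ⊥ := Subgroup.card_eq_one.mp (by rw [hk, h0, pow_zero])
        rw [hb]; infer_instance
    -- Sylow subgroups of `H` are Sylow in `G`
    have hSyl : ∀ p : ℕ, p.Prime → p ∣ Nat.card H → ∃ P : Sylow p G, (P : Subgroup G) ≤ H ∧
        Subgroup.normalizer ((P : Subgroup G) : Set G) = H := by
      intro p hp hd
      have := Fact.mk hp
      let PH : Sylow p H := default
      set P0 := (PH : Subgroup H).map H.subtype with hP0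
      have hN := hnorm p hp hd PH
      rw [← hP0] at hN
      have hpg : IsPGroup p P0 := PH.isPGroup'.map _
      obtain ⟨k, hk⟩ := IsPGroup.iff_card.mp hpg
      have hni : ¬ p ∣ P0.index := fun h => by
        have h1 : p ^ (k + 1) ∣ Nat.card G := by
          rw [← P0.card_mul_index, hk, pow_succ]; exact Nat.mul_dvd_mul_left _ h
        have h2 := (Sylow.card_normalizer_modEq_card (p := p) hk).dvd_iff dvd_rfl |>.mpr h1
        rw [hN, ← (PH : Subgroup H).card_mul_index,
          Nat.card_congr ((PH : Subgroup H).equivMapOfInjective _ H.subtype_injective).toEquiv, ← hP0, hk, pow_succ] at h2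
        exact PH.not_dvd_index (Nat.dvd_of_mul_dvd_mul_left (pow_pos hp.pos k) h2)
      exact ⟨hpg.toSylow hni, Subgroup.map_subtype_le _, hN⟩
    -- two primes divide the order of `H`
    have htwo : ∀ p : ℕ, p.Prime → p ∣ Nat.card H → ∃ q : ℕ, q.Prime ∧ q ∣ Nat.card H ∧ q ≠ p := by
      intro p hp hd
      by_contra hno
      push Not at hno
      have hpk := Nat.eq_prime_pow_of_unique_prime_dvd (Nat.card_pos (α := H)).ne' (fun {q} hq hqd => hno q hq hqd)
      have := Fact.mk hp
      obtain ⟨P, hPH, hPN⟩ := hSyl p hp hd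
      exact hnot p hp P (P.is_maximal' (IsPGroup.iff_card.mpr ⟨_, hpk⟩) hPH).symm
    have hfc : ∀ p : ℕ, p.Prime → p ∣ Nat.card H → CfsgLib.FrobeniusCond p G := by
      intro p hp hd U hU g hg hgp
      have := Fact.mk hp
      obtain ⟨P, hPH, -⟩ := hSyl p hp hd
      obtain ⟨q, hq, hqd, hqp⟩ := htwo p hp hd
      have := Fact.mk hq
      obtain ⟨Q, hQH, hQN⟩ := hSyl q hq hqd
      -- move `U` into `P`
      obtain ⟨P', hUP'⟩ := hU.exists_le_sylow
      obtain ⟨z, hz⟩ := MulAction.exists_smul_eq G P' P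
      set g' := z * g * z⁻¹ with hg'
      set V := U.map (MulAut.conj z).toMonoidHom with hV
      have hVP : V ≤ (P : Subgroup G) := by
        rintro _ ⟨u, hu, rfl⟩
        rw [← hz]
        exact ⟨u, hUP' hu, rfl⟩
      have hg'V : ∀ v ∈ V, g' * v * g'⁻¹ ∈ V ∧ g'⁻¹ * v * g' ∈ V := by
        rintro _ ⟨u, hu, rfl⟩
        refine ⟨⟨g * u * g⁻¹, (Subgroup.mem_normalizer_iff.mp hg u).mp hu, by simp [g']; group⟩,
          ⟨g⁻¹ * u * g, by simpa using (Subgroup.mem_normalizer_iff.mp (inv_mem hg) u).mp hu, by simp [g']; group⟩⟩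
      have hQV : (Q : Subgroup G) ≤ Subgroup.centralizer (V : Set G) := fun y hy => Subgroup.mem_centralizer_iff.mpr fun v hv => by
        obtain ⟨i, hi⟩ := IsPGroup.iff_orderOf.mp P.isPGroup' ⟨v, hVP hv⟩
        obtain ⟨j, hjo⟩ := IsPGroup.iff_orderOf.mp Q.isPGroup' ⟨y, hy⟩
        rw [Subgroup.orderOf_mk] at hi hjo
        exact congrArg Subtype.val (CfsgLib.Frob.commute_of_nilpotent_coprime
          (a := (⟨v, hPH (hVP hv)⟩ : H)) (b := ⟨y, hQH hy⟩)
          (by rw [Subgroup.orderOf_mk, Subgroup.orderOf_mk, hi, hjo]; exact Nat.coprime_pow_primes i j hp hq (Ne.symm hqp))).eq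
      set C := Subgroup.centralizer (V : Set G) with hCdef
      have hQV' : ((g' • Q : Sylow q G) : Subgroup G) ≤ C := by
        rintro _ ⟨y, hy, rfl⟩
        refine Subgroup.mem_centralizer_iff.mpr fun v hv => ?_
        have h1 := Subgroup.mem_centralizer_iff.mp (hQV hy) _ (hg'V v hv).2
        simp only [MulDistribMulAction.toMonoidEnd_apply, MulDistribMulAction.toMonoidHom_apply, MulAut.smul_def, MulAut.conj_apply]
        calc v * (g' * y * g'⁻¹) = g' * ((g'⁻¹ * v * g') * y) * g'⁻¹ := by group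
          _ = g' * (y * (g'⁻¹ * v * g')) * g'⁻¹ := by rw [h1]
          _ = _ := by group
      obtain ⟨c, hc⟩ := MulAction.exists_smul_eq C ((g' • Q : Sylow q G).subtype hQV') (Q.subtype hQV)
      have hcN : (c : G) * g' ∈ H := by
        rw [← hQN]
        refine Sylow.smul_eq_iff_mem_normalizer.mp ?_
        apply Sylow.subtype_injective (hP := ?_) (hQ := hQV)
        · rw [← hc, Sylow.smul_subtype]
          simp [mul_smul, Subgroup.smul_def]
        · rw [mul_smul]; exact Sylow.smul_le hQV' c
      -- the action of `g'` is that of an element of `H`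
      have hk : ∀ v ∈ V, (c : G) * g' * v * ((c : G) * g')⁻¹ = g' * v * g'⁻¹ := fun v hv => by
        have h1 := Subgroup.mem_centralizer_iff.mp c.2 _ (hg'V v hv).1
        calc (c : G) * g' * v * ((c : G) * g')⁻¹ = ((c : G) * (g' * v * g'⁻¹)) * (c : G)⁻¹ := by group
          _ = g' * v * g'⁻¹ := by rw [← h1, mul_inv_cancel_right]
      set h := (c : G) * g' with hh
      have hpow : ∀ n : ℕ, ∀ v ∈ V, h ^ n * v * (h ^ n)⁻¹ = g' ^ n * v * (g' ^ n)⁻¹ ∧ g' ^ n * v * (g' ^ n)⁻¹ ∈ V := by
        intro n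
        induction n with
        | zero => intro v hv; simp [hv]
        | succ n ihn =>
          intro v hv
          obtain ⟨e1, e2⟩ := ihn v hv
          rw [pow_succ', pow_succ']
          have e3 : g' * g' ^ n * v * (g' * g' ^ n)⁻¹ = g' * (g' ^ n * v * (g' ^ n)⁻¹) * g'⁻¹ := by group
          refine ⟨?_, e3 ▸ (hg'V _ e2).1⟩
          rw [e3, ← hk _ e2, ← e1]; group
      -- split the order of `h`
      obtain ⟨a, m, hm, hom⟩ := Nat.exists_eq_pow_mul_and_not_dvd (orderOf_pos h).ne' p hp.ne_one
      have hcent : ∀ v ∈ V, h ^ (p ^ a) * v * (h ^ (p ^ a))⁻¹ = v := fun v hv => by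
        obtain ⟨i, hi⟩ := IsPGroup.iff_orderOf.mp P.isPGroup' ⟨v, hVP hv⟩
        rw [Subgroup.orderOf_mk] at hi
        have hco : (orderOf v).Coprime (orderOf (h ^ (p ^ a))) := by
          rw [orderOf_pow' h (pow_ne_zero a hp.ne_zero), hom, Nat.gcd_eq_right (dvd_mul_right _ _),
            Nat.mul_div_cancel_left _ (pow_pos hp.pos a), hi]
          exact ((hp.coprime_iff_not_dvd.mpr hm).pow_left i)
        have := congrArg Subtype.val (CfsgLib.Frob.commute_of_nilpotent_coprime
          (a := (⟨v, hPH (hVP hv)⟩ : H)) (b := ⟨h ^ (p ^ a), pow_mem hcN _⟩) (by rw [Subgroup.orderOf_mk, Subgroup.orderOf_mk]; exact hco)).eq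
        simp only [Subgroup.coe_mul] at this
        rw [← this, mul_inv_cancel_right]
      have hgo : orderOf g' = orderOf g := by rw [hg', ← MulAut.conj_apply, MulEquiv.orderOf_eq]
      obtain ⟨k, hk'⟩ : ∃ k : ℕ, (g' ^ (p ^ a)) ^ k = g' := exists_pow_eq_self_of_coprime (by
        rw [hgo]; exact (Nat.Coprime.pow_left a hgp.symm))
      have hfix : ∀ v ∈ V, g' * v * g'⁻¹ = v := fun v hv => by
        have hone : g' ^ (p ^ a) * v * (g' ^ (p ^ a))⁻¹ = v := (hpow _ v hv).1.symm.trans (hcent v hv)
        have hcm : Commute (g' ^ (p ^ a)) v := mul_inv_eq_iff_eq_mul.mp hone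
        have := hcm.pow_left k
        rw [hk'] at this
        rw [this.eq, mul_inv_cancel_right]
      refine Subgroup.mem_centralizer_iff.mpr fun u hu => ?_
      have h1 := hfix _ ⟨u, hu, rfl⟩
      simp only [MulEquiv.coe_toMonoidHom, MulAut.conj_apply, hg'] at h1
      calc u * g = z⁻¹ * (z * u * z⁻¹) * z * g := by group
        _ = z⁻¹ * (z * g * z⁻¹ * (z * u * z⁻¹) * (z * g * z⁻¹)⁻¹) * z * g := by rw [h1]
        _ = g * u := by group
    -- assemble the complements
    have hNp : ∀ p : (Nat.card H).primeFactors, ∃ N : Subgroup G, N.Normal ∧ ¬ (p : ℕ) ∣ Nat.card N ∧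
        N.index = (p : ℕ) ^ (Nat.card H).factorization p := by
      rintro ⟨p, hpm⟩
      have hp := Nat.prime_of_mem_primeFactors hpm
      have hd := Nat.dvd_of_mem_primeFactors hpm
      have := Fact.mk hp
      obtain ⟨P, N, hNn, hc⟩ := CfsgLib.hasNormalPComplement_of_frobeniusCond (hfc p hp hd)
      refine ⟨N, hNn, ?_, ?_⟩
      · rw [← hc.index_eq_card]; exact P.not_dvd_index
      · obtain ⟨P0, hP0H, -⟩ := hSyl p hp hd
        rw [hc.symm.index_eq_card, P.card_eq_multiplicity]
        refine congrArg _ (le_antisymm ?_ ((Nat.factorization_le_iff_dvd (Nat.card_pos (α := H)).ne' Nat.card_pos.ne').mpr H.card_subgroup_dvd_card p))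
        have := Subgroup.card_dvd_of_le hP0H
        rw [P0.card_eq_multiplicity] at this
        exact (hp.pow_dvd_iff_le_factorization Nat.card_pos.ne').mp this
    choose N hNn hNd hNi using hNp
    refine ⟨⨅ p, N p, Subgroup.normal_iInf_normal hNn, ?_⟩
    have hdisj : Disjoint (⨅ p, N p) H := by
      rw [disjoint_iff]
      refine Subgroup.card_eq_one.mp (Nat.eq_one_iff_not_exists_prime_dvd.mpr fun p hp hpd => ?_)
      have hpH : p ∣ Nat.card H := hpd.trans (Subgroup.card_dvd_of_le inf_le_right)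
      exact hNd ⟨p, Nat.mem_primeFactors.mpr ⟨hp, hpH, (Nat.card_pos (α := H)).ne'⟩⟩
        (hpd.trans (Subgroup.card_dvd_of_le (inf_le_left.trans (iInf_le N _))))
    refine Subgroup.isComplement'_of_disjoint_and_mul_eq_univ hdisj (Set.eq_univ_of_forall fun x => ?_)
    have hle : (⨅ p, N p).index ≤ Nat.card H := by
      refine (Subgroup.index_iInf_le N).trans (le_of_eq ?_)
      simp only [hNi]
      rw [Finset.prod_coe_sort (Nat.card H).primeFactors (fun p => p ^ (Nat.card H).factorization p), ← Nat.support_factorization]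
      exact Nat.prod_factorization_pow_eq_self (Nat.card_pos (α := H)).ne'
    have hnn : (⨅ p, N p).Normal := Subgroup.normal_iInf_normal hNn
    have hinj : Function.Injective ((QuotientGroup.mk' (⨅ p, N p)).comp H.subtype) := by
      rw [injective_iff_map_eq_one]
      intro y hy
      exact Subtype.ext (Subgroup.mem_bot.mp (hdisj.eq_bot ▸ (⟨(QuotientGroup.eq_one_iff _).mp hy, y.2⟩ : (y : G) ∈ (⨅ p, N p) ⊓ H)))
    have hsur : Function.Surjective ((QuotientGroup.mk' (⨅ p, N p)).comp H.subtype) :=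
      ((Nat.bijective_iff_injective_and_card _).mpr ⟨hinj, le_antisymm (Nat.card_le_card_of_injective _ hinj) hle⟩).2
    obtain ⟨y, hy⟩ := hsur (x : G ⧸ (⨅ p, N p))
    refine ⟨x * (y : G)⁻¹, ?_, y, y.2, inv_mul_cancel_right x _⟩
    rw [SetLike.mem_coe, ← QuotientGroup.eq_one_iff]
    show (QuotientGroup.mk' (⨅ p, N p)) (x * (y : G)⁻¹) = 1
    rw [map_mul, map_inv, show (QuotientGroup.mk' (⨅ p, N p)) (y : G) = (QuotientGroup.mk' (⨅ p, N p)) x from hy, mul_inv_cancel]

end Cfsg.Agent.S0558
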