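import Cfsg.Statements.S0560
import Mathlib
import Cfsg.Agent.Lib.Products
-- import your own Cfsg.Agent.* helpers here

set_option autoImplicit false
open Pointwise
open Cfsg

namespace Cfsg.Agent.S0560

open scoped Pointwise
theorem card_mul_set {G : Type*} [Group G] (A B : Subgroup G) :
    Nat.card ((A : Set G) * (B : Set G) : Set G) * Nat.card ↥(A ⊓ B) = Nat.card A * Nat.card B := by
  rw [Subgroup.card_mul_eq_card_subgroup_mul_card_quotient]
  have e : Nat.card ((QuotientGroup.mk : G → G ⧸ B) '' (A : Set G)) = B.relIndex A := by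
    refine (Nat.card_eq_of_bijective
      (fun x : A ⧸ B.subgroupOf A => (⟨Quotient.map' (fun a : A => (a : G)) (fun a b hab => by
        rw [QuotientGroup.leftRel_apply] at hab ⊢; exact hab) x, by
          obtain ⟨a, rfl⟩ := QuotientGroup.mk_surjective x
          exact ⟨a, a.2, rfl⟩⟩ : (QuotientGroup.mk : G → G ⧸ B) '' (A : Set G))) ⟨?_, ?_⟩).symm
    · intro x y
      obtain ⟨x, rfl⟩ := QuotientGroup.mk_surjective x
      obtain ⟨y, rfl⟩ := QuotientGroup.mk_surjective y
      intro hxy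
      exact QuotientGroup.eq.mpr (QuotientGroup.eq (s := B).mp (congrArg Subtype.val hxy))
    · rintro ⟨_, a, ha, rfl⟩
      exact ⟨QuotientGroup.mk ⟨a, ha⟩, rfl⟩
  rw [e, mul_assoc, mul_comm (B.relIndex A), inf_comm, CfsgLib.Products.card_inf_mul_relIndex, mul_comm]

/-- Let the finite group G be the product HK of two subgroups and p a prime. Then there are Sylow p-subgroups P of H and Q of K and a Sylow p-subgroup R of G whose underlying set is the product set of P and Q. -/
theorem result {G : Type*} [Group G] [Finite G] (H K : Subgroup G) (hHK : ∀ g : G, ∃ h ∈ H, ∃ k ∈ K, g = h * k) (p : ℕ) [Fact p.Prime] : ∃ (P : Sylow p H) (Q : Sylow p K) (R : Sylow p G), ((R : Subgroup G) : Set G) = (((P : Subgroup H).map H.subtype : Subgroup G) : Set G) * (((Q : Subgroup K).map K.subtype : Subgroup G) : Set G) := by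
  obtain ⟨P₀⟩ : Nonempty (Sylow p H) := inferInstance
  obtain ⟨R, hR⟩ := (P₀.2.map H.subtype).exists_le_sylow
  obtain ⟨Q₀⟩ : Nonempty (Sylow p K) := inferInstance
  obtain ⟨S, hS⟩ := (Q₀.2.map K.subtype).exists_le_sylow
  obtain ⟨g, rfl⟩ := MulAction.exists_smul_eq G S R
  obtain ⟨h, hh, k, hk, rfl⟩ := hHK g
  refine ⟨(⟨h, hh⟩ : H)⁻¹ • P₀, (⟨k, hk⟩ : K) • Q₀, k • S, ?_⟩
  set P := (⟨h, hh⟩ : H)⁻¹ • P₀ with hP
  set Q := (⟨k, hk⟩ : K) • Q₀ with hQ
  have hPR : (P : Subgroup H).map H.subtype ≤ (k • S : Sylow p G) := by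
    rintro _ ⟨u, hu, rfl⟩
    rw [hP, Sylow.coe_subgroup_smul, SetLike.mem_coe, Subgroup.mem_pointwise_smul_iff_inv_smul_mem] at hu
    have h1 := hR ⟨_, hu, rfl⟩
    rw [mul_smul, Sylow.coe_subgroup_smul, Subgroup.mem_pointwise_smul_iff_inv_smul_mem] at h1
    simpa [MulAut.smul_def, MulAut.conj_apply, mul_assoc] using h1
  have hQR : (Q : Subgroup K).map K.subtype ≤ (k • S : Sylow p G) := by
    rintro _ ⟨u, hu, rfl⟩
    rw [hQ, Sylow.coe_subgroup_smul, SetLike.mem_coe, Subgroup.mem_pointwise_smul_iff_inv_smul_mem] at hu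
    have h1 := hS ⟨_, hu, rfl⟩
    rw [Sylow.coe_subgroup_smul, Subgroup.mem_pointwise_smul_iff_inv_smul_mem]
    simpa [MulAut.smul_def, MulAut.conj_apply, mul_assoc] using h1
  set A := (P : Subgroup H).map H.subtype with hA
  set B := (Q : Subgroup K).map K.subtype with hB
  symm
  refine Set.eq_of_subset_of_ncard_le (by
    rintro _ ⟨a, ha, b, hb, rfl⟩
    exact mul_mem (hPR ha) (hQR hb)) ?_ (Set.toFinite _)
  rw [← Nat.card_coe_set_eq, ← Nat.card_coe_set_eq]
  -- compare orders
  have hcA : Nat.card A = p ^ (Nat.card H).factorization p := by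
    rw [hA, Subgroup.card_map_of_injective H.subtype_injective, P.card_eq_multiplicity]
  have hcB : Nat.card B = p ^ (Nat.card K).factorization p := by
    rw [hB, Subgroup.card_map_of_injective K.subtype_injective, Q.card_eq_multiplicity]
  have hG : Nat.card G * Nat.card ↥(H ⊓ K) = Nat.card H * Nat.card K := by
    rw [← card_mul_set H K]
    congr 1
    rw [show ((H : Set G) * (K : Set G)) = Set.univ from Set.eq_univ_of_forall fun g => by
      obtain ⟨a, ha, b, hb, rfl⟩ := hHK g
      exact ⟨a, ha, b, hb, rfl⟩, Nat.card_coe_set_eq, Set.ncard_univ]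
  obtain ⟨i, hi⟩ := ((P.2.map H.subtype).to_le (inf_le_left : A ⊓ B ≤ A)).exists_card_eq
  have hile : i ≤ (Nat.card ↥(H ⊓ K)).factorization p := by
    have h1 : A ⊓ B ≤ H ⊓ K := inf_le_inf (Subgroup.map_subtype_le _) (Subgroup.map_subtype_le _)
    exact ((Fact.out : p.Prime).pow_dvd_iff_le_factorization Nat.card_pos.ne').mp (hi ▸ Subgroup.card_dvd_of_le h1)
  refine Nat.le_of_mul_le_mul_right ?_ (Nat.card_pos (α := ↥(A ⊓ B)))
  show Nat.card ((k • S : Sylow p G) : Subgroup G) * _ ≤ _
  rw [card_mul_set A B, hcA, hcB, hi, Sylow.card_eq_multiplicity, ← pow_add, ← pow_add]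
  refine Nat.pow_le_pow_right (Fact.out : p.Prime).pos ?_
  have := congrArg (fun n => n.factorization p) hG
  simp only [Nat.factorization_mul Nat.card_pos.ne' Nat.card_pos.ne', Finsupp.add_apply] at this
  omega

end Cfsg.Agent.S0560
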