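import Cfsg.Statements.S0561
import Mathlib
import Cfsg.Agent.Lib.HallSolvable
import Cfsg.Agent.Lib.Products
-- import your own Cfsg.Agent.* helpers here

set_option autoImplicit false
open Pointwise
open Cfsg

namespace Cfsg.Agent.S0561

open scoped Pointwise
universe u

private theorem dvd_gcd_coprime {a b N : ℕ} (ha : a ∣ N) (hb : b ∣ N) (hca : a.Coprime (N / a)) (hcb : b.Coprime (N / b)) :
    (Nat.gcd a b).Coprime (a / Nat.gcd a b) := by
  set d := Nat.gcd a b with hd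
  set e := Nat.gcd d (a / d) with he
  have hda : d ∣ a := Nat.gcd_dvd_left a b
  have hdb : d ∣ b := Nat.gcd_dvd_right a b
  have hea : d * e ∣ a := by
    have := Nat.mul_dvd_mul_left d (Nat.gcd_dvd_right d (a / d))
    rwa [← he, Nat.mul_div_cancel' hda] at this
  have heb : d * e ∣ b := by
    refine Nat.Coprime.dvd_of_dvd_mul_right ?_ ((hea.trans ha).trans (Nat.mul_div_cancel' hb).symm.dvd)
    exact Nat.Coprime.mul_left (hcb.coprime_dvd_left hdb) (hcb.coprime_dvd_left ((Nat.gcd_dvd_left d _).trans hdb))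
  have h1 : d * e ∣ d := hd ▸ Nat.dvd_gcd hea heb
  rcases Nat.eq_zero_or_pos d with h0 | h0
  · have : a = 0 := (Nat.gcd_eq_zero_iff.mp h0).1
    subst this
    rw [Nat.zero_dvd] at ha
    subst ha
    simp at hca
  · exact Nat.eq_one_of_dvd_one ((Nat.mul_dvd_mul_iff_left h0).mp (by rwa [mul_one]))

private theorem permutable_pair {G : Type u} [Group G] [Finite G] [Group.IsSolvable G] (A B : Subgroup G)
    (hA : (Nat.card A).Coprime A.index) (hB : (Nat.card B).Coprime B.index) :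
    ∃ (x y : G) (S : Subgroup G), (S : Set G) = ((MulAut.conj x • A : Subgroup G) : Set G) * ((MulAut.conj y • B : Subgroup G) : Set G) := by
  classical
  have ha : Nat.card A ∣ Nat.card G := A.card_subgroup_dvd_card
  have hb : Nat.card B ∣ Nat.card G := B.card_subgroup_dvd_card
  have hdA : Nat.card G / Nat.card A = A.index := Nat.div_eq_of_eq_mul_right Nat.card_pos A.card_mul_index.symm
  have hdB : Nat.card G / Nat.card B = B.index := Nat.div_eq_of_eq_mul_right Nat.card_pos B.card_mul_index.symm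
  obtain ⟨n, hn⟩ := Nat.lcm_dvd ha hb
  have hnA : n ∣ A.index := by
    refine (Nat.mul_dvd_mul_iff_left (Nat.card_pos (α := A))).mp ?_
    rw [A.card_mul_index, hn]; exact Nat.mul_dvd_mul_right (Nat.dvd_lcm_left _ _) n
  have hnB : n ∣ B.index := by
    refine (Nat.mul_dvd_mul_iff_left (Nat.card_pos (α := B))).mp ?_
    rw [B.card_mul_index, hn]; exact Nat.mul_dvd_mul_right (Nat.dvd_lcm_right _ _) n
  have hco : (Nat.lcm (Nat.card A) (Nat.card B)).Coprime n :=
    (Nat.Coprime.mul_left (hA.coprime_dvd_right hnA) (hB.coprime_dvd_right hnB)).coprime_dvd_left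
      (Nat.lcm_dvd (dvd_mul_right _ _) (dvd_mul_left _ _))
  obtain ⟨⟨S, hS⟩, hD⟩ := CfsgLib.hall_main hn hco
  obtain ⟨gA, hgA⟩ := hD S A hS (Nat.dvd_lcm_left _ _)
  obtain ⟨gB, hgB⟩ := hD S B hS (Nat.dvd_lcm_right _ _)
  set A' := MulAut.conj gA • A with hA'
  set B₀ := MulAut.conj gB • B with hB₀
  have cA : Nat.card A' = Nat.card A := (Nat.card_congr (Subgroup.equivSMul _ A).toEquiv).symm
  have cB : Nat.card B₀ = Nat.card B := (Nat.card_congr (Subgroup.equivSMul _ B).toEquiv).symm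
  -- a common Hall subgroup of order `gcd`
  have hgcd := dvd_gcd_coprime ha hb (by rwa [hdA]) (by rwa [hdB])
  obtain ⟨⟨C, hC⟩, -⟩ := CfsgLib.hall_main (G := A') (cA.trans (Nat.mul_div_cancel' (Nat.gcd_dvd_left (Nat.card A) (Nat.card B))).symm) hgcd
  have hSn : Nat.card S = Nat.card B * (Nat.card S / Nat.card B) := (Nat.mul_div_cancel' (hS ▸ Nat.dvd_lcm_right _ _)).symm
  have hBcop : (Nat.card B).Coprime (Nat.card S / Nat.card B) := by
    refine hB.coprime_dvd_right ((Nat.mul_dvd_mul_iff_left (Nat.card_pos (α := B))).mp ?_)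
    rw [← hSn, B.card_mul_index]; exact S.card_subgroup_dvd_card
  obtain ⟨-, hD'⟩ := CfsgLib.hall_main (G := S) hSn hBcop
  have hCS : C.map A'.subtype ≤ S := (Subgroup.map_subtype_le C).trans hgA
  obtain ⟨⟨g, hgS⟩, hg⟩ := hD' (B₀.subgroupOf S) ((C.map A'.subtype).subgroupOf S)
    (by rw [Nat.card_congr (Subgroup.subgroupOfEquivOfLe hgB).toEquiv, cB])
    (by rw [Nat.card_congr (Subgroup.subgroupOfEquivOfLe hCS).toEquiv, Subgroup.card_subtype, hC]; exact Nat.gcd_dvd_right _ _)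
  set B' := MulAut.conj g⁻¹ • B₀ with hB'
  have hB'S : B' ≤ S := by
    intro x hx
    rw [Subgroup.mem_pointwise_smul_iff_inv_smul_mem] at hx
    have h1 := hgB hx
    rw [← map_inv, inv_inv, MulAut.smul_def, MulAut.conj_apply] at h1
    have := mul_mem (mul_mem (inv_mem hgS) h1) hgS
    simpa [mul_assoc] using this
  have hCB : C.map A'.subtype ≤ B' := by
    intro x hx
    have h1 := hg (Subgroup.smul_mem_pointwise_smul (⟨x, hCS hx⟩ : S) (MulAut.conj (⟨g, hgS⟩ : S)) _ hx)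
    rw [Subgroup.mem_pointwise_smul_iff_inv_smul_mem, ← map_inv, inv_inv]
    exact h1
  have cB' : Nat.card B' = Nat.card B := ((Nat.card_congr (Subgroup.equivSMul _ B₀).toEquiv).symm).trans cB
  refine ⟨gA, g⁻¹ * gB, A' ⊔ B', ?_⟩
  rw [map_mul, mul_smul]
  refine Set.Subset.antisymm (fun x hx => ?_) ?_
  · have hle : Nat.card ↥(B' ⊔ A') * Nat.card ↥(B' ⊓ A') ≤ Nat.card B' * Nat.card A' := by
      have h1 : Nat.card ↥(B' ⊔ A') ≤ Nat.lcm (Nat.card A) (Nat.card B) := by
        rw [← hS]; exact Subgroup.card_le_of_le (sup_le hB'S hgA)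
      have h2 : Nat.card ↥(B' ⊓ A') ≤ Nat.gcd (Nat.card A) (Nat.card B) :=
        Nat.le_of_dvd (Nat.gcd_pos_of_pos_left _ Nat.card_pos) (Nat.dvd_gcd
          (cA ▸ Subgroup.card_dvd_of_le inf_le_right) (cB' ▸ Subgroup.card_dvd_of_le inf_le_left))
      rw [cA, cB', mul_comm (Nat.card B), ← Nat.gcd_mul_lcm (Nat.card A) (Nat.card B), mul_comm (Nat.gcd _ _)]
      exact Nat.mul_le_mul h1 h2
    obtain ⟨a, ha', b, hb', e⟩ := CfsgLib.Products.exists_mul_of_card_eq hle (g := x) (by rw [sup_comm]; exact hx)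
    exact ⟨a, ha', b, hb', e.symm⟩
  · rintro _ ⟨a, ha', b, hb', rfl⟩
    exact mul_mem (Subgroup.mem_sup_left ha') (Subgroup.mem_sup_right hb')

private theorem fix_of_factor {G : Type u} [Group G] (H K A B : Subgroup G) (hHK : ∀ g : G, ∃ h ∈ H, ∃ k ∈ K, g = h * k)
    (hA : A ≤ H) (hAn : (A.subgroupOf H).Normal) (hB : B ≤ K) (hBn : (B.subgroupOf K).Normal) (x y : G) :
    ∃ g : G, MulAut.conj x • A = MulAut.conj g • A ∧ MulAut.conj y • B = MulAut.conj g • B := by
  have hAH : ∀ h ∈ H, MulAut.conj h • A = A := fun h hh => by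
    ext a
    rw [Subgroup.mem_pointwise_smul_iff_inv_smul_mem, ← map_inv, MulAut.smul_def, MulAut.conj_apply, inv_inv]
    simpa using (Subgroup.mem_normalizer_iff.mp ((Subgroup.normal_subgroupOf_iff_le_normalizer hA).mp hAn (inv_mem hh)) a).symm
  have hBK : ∀ k ∈ K, MulAut.conj k • B = B := fun h hh => by
    ext a
    rw [Subgroup.mem_pointwise_smul_iff_inv_smul_mem, ← map_inv, MulAut.smul_def, MulAut.conj_apply, inv_inv]
    simpa using (Subgroup.mem_normalizer_iff.mp ((Subgroup.normal_subgroupOf_iff_le_normalizer hB).mp hBn (inv_mem hh)) a).symm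
  obtain ⟨h', hh', k', hk', ex⟩ := hHK x⁻¹
  obtain ⟨h, hh, k, hk, ey⟩ := hHK y
  obtain ⟨h₁, hh₁, k₁, hk₁, e1⟩ := hHK (k' * h)
  have hx : x = k'⁻¹ * h'⁻¹ := by rw [← mul_inv_rev, ← ex, inv_inv]
  refine ⟨k'⁻¹ * h₁, ?_, ?_⟩
  · rw [hx, map_mul, mul_smul, hAH _ (inv_mem hh'), map_mul, mul_smul, hAH _ hh₁]
  · rw [ey, map_mul, mul_smul, hBK _ hk, show k'⁻¹ * h₁ = h * k₁⁻¹ by rw [eq_mul_inv_iff_mul_eq, mul_assoc, ← e1, inv_mul_cancel_left],
      map_mul, mul_smul, hBK _ (inv_mem hk₁)]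

/-- Let the finite solvable group G be the product HK of subgroups, and let A be normal in H and B normal in K, where A and B are Hall subgroups of G (order coprime to index). Then for all x, y the product set of xAx⁻¹ and yBy⁻¹ is a subgroup of G. -/
theorem result {G : Type*} [Group G] [Finite G] [Group.IsSolvable G] (H K A B : Subgroup G) (hHK : ∀ g : G, ∃ h ∈ H, ∃ k ∈ K, g = h * k) (hA : A ≤ H) (hAn : (A.subgroupOf H).Normal) (hB : B ≤ K) (hBn : (B.subgroupOf K).Normal) (hAh : (Nat.card A).Coprime A.index) (hBh : (Nat.card B).Coprime B.index) (x y : G) : ∃ S : Subgroup G, (S : Set G) = ((MulAut.conj x • A : Subgroup G) : Set G) * ((MulAut.conj y • B : Subgroup G) : Set G) := by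
  obtain ⟨x₀, y₀, S₀, hS₀⟩ := permutable_pair A B hAh hBh
  obtain ⟨g, hgA, hgB⟩ := fix_of_factor H K A B hHK hA hAn hB hBn x y
  obtain ⟨g₀, hgA₀, hgB₀⟩ := fix_of_factor H K A B hHK hA hAn hB hBn x₀ y₀
  refine ⟨MulAut.conj (g * g₀⁻¹) • S₀, ?_⟩
  have hx : MulAut.conj x • A = MulAut.conj (g * g₀⁻¹) • (MulAut.conj x₀ • A) := by
    rw [hgA₀, ← mul_smul, ← map_mul, inv_mul_cancel_right, hgA]
  have hy : MulAut.conj y • B = MulAut.conj (g * g₀⁻¹) • (MulAut.conj y₀ • B) := by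
    rw [hgB₀, ← mul_smul, ← map_mul, inv_mul_cancel_right, hgB]
  rw [hx, hy, Subgroup.coe_pointwise_smul, hS₀]
  simp only [Subgroup.coe_pointwise_smul]
  exact Set.image_mul (MulAut.conj (g * g₀⁻¹))

end Cfsg.Agent.S0561
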