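import Cfsg.Statements.S0562
import Mathlib
-- import your own Cfsg.Agent.* helpers here

set_option autoImplicit false
open Cfsg

namespace Cfsg.Agent.S0562

/-- Let the finite group G be the product HK of subgroups, A normal in H, B normal in K, and L the normalizer of the subgroup generated by A and B. Then every element of L is a product of an element of L ∩ H and an element of L ∩ K. -/
theorem result {G : Type*} [Group G] [Finite G] (H K A B : Subgroup G) (hHK : ∀ g : G, ∃ h ∈ H, ∃ k ∈ K, g = h * k) (hA : A ≤ H) (hAn : (A.subgroupOf H).Normal) (hB : B ≤ K) (hBn : (B.subgroupOf K).Normal) : ∀ g ∈ Subgroup.normalizer ((A ⊔ B : Subgroup G) : Set G), ∃ h ∈ Subgroup.normalizer ((A ⊔ B : Subgroup G) : Set G) ⊓ H, ∃ k ∈ Subgroup.normalizer ((A ⊔ B : Subgroup G) : Set G) ⊓ K, g = h * k := by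
  intro g hg
  obtain ⟨h, hh, k, hk, rfl⟩ := hHK g
  set X := A ⊔ B with hX
  have hAh : ∀ u ∈ H, ∀ a ∈ A, u * a * u⁻¹ ∈ A := fun u hu a ha => hAn.conj_mem ⟨a, hA ha⟩ ha ⟨u, hu⟩
  have hBk : ∀ u ∈ K, ∀ b ∈ B, u * b * u⁻¹ ∈ B := fun u hu b hb => hBn.conj_mem ⟨b, hB hb⟩ hb ⟨u, hu⟩
  rw [Subgroup.mem_normalizer_iff] at hg
  have h3 : ∀ y ∈ X, (h * k)⁻¹ * y * (h * k) ∈ X := fun y hy =>
    (hg _).mpr (by rwa [show h * k * ((h * k)⁻¹ * y * (h * k)) * (h * k)⁻¹ = y by group])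
  have hle : X.map (MulAut.conj k⁻¹).toMonoidHom ≤ X := by
    rw [Subgroup.map_le_iff_le_comap]
    refine sup_le (fun a ha => ?_) fun b hb => Subgroup.mem_sup_right (hBk k⁻¹ (K.inv_mem hk) b hb)
    show k⁻¹ * a * k⁻¹⁻¹ ∈ X
    have h4 := h3 _ (Subgroup.mem_sup_left (hAh h hh _ ha))
    rwa [show (h * k)⁻¹ * (h * a * h⁻¹) * (h * k) = k⁻¹ * a * k⁻¹⁻¹ by group] at h4
  have heq := Subgroup.eq_of_le_of_card_ge hle
    (le_of_eq (Subgroup.card_map_of_injective (MulAut.conj k⁻¹).injective).symm)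
  have hkN : k⁻¹ ∈ Subgroup.normalizer (X : Set G) := by
    rw [Subgroup.mem_normalizer_iff]
    intro x
    constructor
    · exact fun hx => heq ▸ ⟨x, hx, rfl⟩
    · intro hx
      rw [← heq] at hx
      obtain ⟨y, hy, e⟩ := hx
      exact (MulAut.conj k⁻¹).injective e ▸ hy
  have hk' : k ∈ Subgroup.normalizer (X : Set G) := by simpa using inv_mem hkN
  have hhk : h * k ∈ Subgroup.normalizer (X : Set G) := Subgroup.mem_normalizer_iff.mpr hg
  refine ⟨h, ⟨?_, hh⟩, k, ⟨hk', hk⟩, rfl⟩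
  simpa using mul_mem hhk hkN

end Cfsg.Agent.S0562
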