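import Cfsg.Statements.S0563
import Mathlib
import Cfsg.Agent.Lib.Solvable.ProductNilpotent
-- import your own Cfsg.Agent.* helpers here

set_option autoImplicit false
open Pointwise
open Cfsg

namespace Cfsg.Agent.S0563

/-- If a finite group G is the product AB of two nilpotent subgroups of coprime orders, then G is solvable, and for every Sylow p-subgroup P of A and Sylow q-subgroup Q of B the product set PQ is a subgroup. -/
theorem result {G : Type*} [Group G] [Finite G] (A B : Subgroup G) (hA : Group.IsNilpotent A) (hB : Group.IsNilpotent B) (hcop : (Nat.card A).Coprime (Nat.card B)) (hAB : ∀ g : G, ∃ a ∈ A, ∃ b ∈ B, g = a * b) : Group.IsSolvable G ∧ ∀ (p q : ℕ) [Fact p.Prime] [Fact q.Prime] (P : Sylow p A) (Q : Sylow q B), ∃ S : Subgroup G, (S : Set G) = (((P : Subgroup A).map A.subtype : Subgroup G) : Set G) * (((Q : Subgroup B).map B.subtype : Subgroup G) : Set G) := by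
  classical
  have hsolv : Group.IsSolvable G := CfsgLib.ProductNilpotent.isSolvable _ rfl A B hA hB hcop hAB
  refine ⟨hsolv, fun p q hp hq P Q => ?_⟩
  haveI := hsolv
  haveI := hA
  haveI := hB
  haveI : (P : Subgroup A).Normal := inferInstance
  haveI : (Q : Subgroup B).Normal := inferInstance
  set P' := (P : Subgroup A).map A.subtype with hP'
  set Q' := (Q : Subgroup B).map B.subtype with hQ'
  have hbot := Subgroup.inf_eq_bot_of_coprime hcop
  have hPA : P' ≤ A := Subgroup.map_subtype_le _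
  have hQB : Q' ≤ B := Subgroup.map_subtype_le _
  have hcardG : Nat.card G = Nat.card A * Nat.card B := by
    rw [← Nat.card_prod]
    symm
    refine Nat.card_eq_of_bijective (fun x : A × B => (x.1 : G) * x.2) ⟨fun x y h => ?_, fun g => ?_⟩
    · have h' : (x.1 : G) * x.2 = y.1 * y.2 := h
      have e1 : (y.1 : G)⁻¹ * x.1 = y.2 * (x.2 : G)⁻¹ := by
        rw [eq_mul_inv_iff_mul_eq, mul_assoc, h', inv_mul_cancel_left]
      have e2 : (y.1 : G)⁻¹ * x.1 = 1 := Subgroup.mem_bot.1 (hbot ▸ Subgroup.mem_inf.2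
        ⟨mul_mem (inv_mem y.1.2) x.1.2, e1 ▸ mul_mem y.2.2 (inv_mem x.2.2)⟩)
      have e3 : x.1 = y.1 := Subtype.ext (inv_mul_eq_one.1 e2).symm
      exact Prod.ext e3 (Subtype.ext (mul_left_cancel (by rw [e3] at h'; exact h')))
    · obtain ⟨a, ha, b, hb, e⟩ := hAB g
      exact ⟨(⟨a, ha⟩, ⟨b, hb⟩), e.symm⟩
  have hPc : Nat.card P' = Nat.card P := (Nat.card_congr ((P : Subgroup A).equivMapOfInjective A.subtype A.subtype_injective).toEquiv).symm
  have hQc : Nat.card Q' = Nat.card Q := (Nat.card_congr ((Q : Subgroup B).equivMapOfInjective B.subtype B.subtype_injective).toEquiv).symm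
  have hcPQ : (Nat.card P').Coprime (Nat.card Q') :=
    Nat.Coprime.of_dvd (Subgroup.card_dvd_of_le hPA) (Subgroup.card_dvd_of_le hQB) hcop
  have hcop2 : (Nat.card P * Nat.card Q).Coprime ((P : Subgroup A).index * (Q : Subgroup B).index) := by
    have hA' : Nat.card P ∣ Nat.card A := Subgroup.card_subgroup_dvd_card _
    have hB' : Nat.card Q ∣ Nat.card B := Subgroup.card_subgroup_dvd_card _
    refine Nat.Coprime.mul_left (Nat.Coprime.mul_right P.card_coprime_index ?_) (Nat.Coprime.mul_right ?_ Q.card_coprime_index)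
    · exact Nat.Coprime.of_dvd hA' (Subgroup.index_dvd_card _) hcop
    · exact Nat.Coprime.of_dvd hB' (Subgroup.index_dvd_card _) hcop.symm
  have hG : Nat.card G = (Nat.card P * Nat.card Q) * ((P : Subgroup A).index * (Q : Subgroup B).index) := by
    rw [hcardG, ← (P : Subgroup A).card_mul_index, ← (Q : Subgroup B).card_mul_index]; ring
  obtain ⟨⟨H, hH⟩, hconj⟩ := CfsgLib.hall_main hG hcop2
  obtain ⟨g, hg⟩ := hconj H P' hH (hPc ▸ dvd_mul_right _ _)
  set H1 := MulAut.conj g⁻¹ • H with hH1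
  have hH1c : Nat.card H1 = Nat.card P * Nat.card Q := by
    rw [← hH]
    exact (Nat.card_congr (Subgroup.equivSMul (MulAut.conj g⁻¹) H).toEquiv).symm
  have hPH1 : P' ≤ H1 := by
    intro x hx
    rw [hH1, Subgroup.mem_pointwise_smul_iff_inv_smul_mem, ← map_inv, inv_inv]
    exact hg (Subgroup.smul_mem_pointwise_smul _ _ _ hx)
  obtain ⟨k, hk⟩ := hconj H1 Q' hH1c (hQc ▸ dvd_mul_left _ _)
  obtain ⟨a, ha, b, hb, rfl⟩ := hAB k
  have hPn : ∀ c ∈ A, ∀ x ∈ P', c * x * c⁻¹ ∈ P' := by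
    rintro c hc _ ⟨x, hx, rfl⟩
    exact ⟨⟨c, hc⟩ * x * ⟨c, hc⟩⁻¹, Subgroup.Normal.conj_mem inferInstance x hx _, rfl⟩
  have hQn : ∀ c ∈ B, ∀ x ∈ Q', c * x * c⁻¹ ∈ Q' := by
    rintro c hc _ ⟨x, hx, rfl⟩
    exact ⟨⟨c, hc⟩ * x * ⟨c, hc⟩⁻¹, Subgroup.Normal.conj_mem inferInstance x hx _, rfl⟩
  set S := MulAut.conj a⁻¹ • H1 with hS
  have hSc : Nat.card S = Nat.card P * Nat.card Q := by
    rw [← hH1c]
    exact (Nat.card_congr (Subgroup.equivSMul (MulAut.conj a⁻¹) H1).toEquiv).symm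
  have hmem : ∀ x, x ∈ S ↔ a * x * a⁻¹ ∈ H1 := fun x => by
    rw [hS, Subgroup.mem_pointwise_smul_iff_inv_smul_mem, ← map_inv, inv_inv, MulAut.smul_def, MulAut.conj_apply]
  have hPS : P' ≤ S := fun x hx => (hmem x).2 (hPH1 (hPn a ha x hx))
  have hQS : Q' ≤ S := fun x hx => by
    rw [hmem]
    have := hk (Subgroup.smul_mem_pointwise_smul _ (MulAut.conj (a * b)) _ (hQn b⁻¹ (inv_mem hb) x hx))
    rw [MulAut.smul_def, MulAut.conj_apply] at this
    simpa [mul_assoc] using this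
  refine ⟨S, Set.Subset.antisymm ?_ ?_⟩
  · intro x hx
    have hinj : Function.Injective (fun u : P' × Q' => (⟨(u.1 : G) * u.2, mul_mem (hPS u.1.2) (hQS u.2.2)⟩ : S)) := by
      intro u v h
      have h' : (u.1 : G) * u.2 = v.1 * v.2 := congrArg Subtype.val h
      have e1 : (v.1 : G)⁻¹ * u.1 = v.2 * (u.2 : G)⁻¹ := by
        rw [eq_mul_inv_iff_mul_eq, mul_assoc, h', inv_mul_cancel_left]
      have e2 : (v.1 : G)⁻¹ * u.1 = 1 := Subgroup.mem_bot.1 (hbot ▸ Subgroup.mem_inf.2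
        ⟨hPA (mul_mem (inv_mem v.1.2) u.1.2), e1 ▸ hQB (mul_mem v.2.2 (inv_mem u.2.2))⟩)
      have e3 : u.1 = v.1 := Subtype.ext (inv_mul_eq_one.1 e2).symm
      exact Prod.ext e3 (Subtype.ext (mul_left_cancel (by rw [e3] at h'; exact h')))
    have hbij := hinj.bijective_of_nat_card_le (by rw [hSc, Nat.card_prod, hPc, hQc])
    obtain ⟨u, hu⟩ := hbij.2 ⟨x, hx⟩
    exact Set.mem_mul.2 ⟨u.1, u.1.2, u.2, u.2.2, congrArg Subtype.val hu⟩
  · intro x hx
    obtain ⟨u, hu, v, hv, rfl⟩ := Set.mem_mul.1 hx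
    exact mul_mem (hPS hu) (hQS hv)

end Cfsg.Agent.S0563
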