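import Cfsg.Statements.S0566
import Mathlib
import Cfsg.Agent.Lib.Solvable.HallSystem
-- import your own Cfsg.Agent.* helpers here

set_option autoImplicit false
open Pointwise
open Cfsg

namespace Cfsg.Agent.S0566

universe u
open scoped Pointwise
variable {G : Type u} [Group G] [Finite G]

private theorem comm_of_mul_eq {A B S : Subgroup G} (h : (S : Set G) = (A : Set G) * (B : Set G)) :
    (A : Set G) * (B : Set G) = (B : Set G) * (A : Set G) ∧ A ≤ S ∧ B ≤ S := by
  refine ⟨?_, fun a ha => ?_, fun b hb => ?_⟩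
  · conv_lhs => rw [← h, ← inv_coe_set (H := S), h, mul_inv_rev, inv_coe_set, inv_coe_set]
  · rw [← SetLike.mem_coe, h]
    exact ⟨a, ha, 1, B.one_mem, mul_one a⟩
  · rw [← SetLike.mem_coe, h]
    exact ⟨1, A.one_mem, b, hb, one_mul b⟩

private theorem sup_eq_mul {A B : Subgroup G} (h : (A : Set G) * (B : Set G) = (B : Set G) * (A : Set G)) :
    ((A ⊔ B : Subgroup G) : Set G) = (A : Set G) * (B : Set G) := by
  let S : Subgroup G :=
    { carrier := (A : Set G) * (B : Set G)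
      one_mem' := ⟨1, A.one_mem, 1, B.one_mem, one_mul 1⟩
      mul_mem' := by
        rintro x y ⟨a, ha, b, hb, rfl⟩ ⟨a', ha', b', hb', rfl⟩
        obtain ⟨a'', ha'', b'', hb'', e⟩ := (h.symm ▸ Set.mul_mem_mul hb ha' : b * a' ∈ (A : Set G) * (B : Set G))
        refine ⟨a * a'', A.mul_mem ha ha'', b'' * b', B.mul_mem hb'' hb', ?_⟩
        simp only at e ⊢
        rw [show a * a'' * (b'' * b') = a * (a'' * b'') * b' by group, e]
        group
      inv_mem' := by
        rintro x ⟨a, ha, b, hb, rfl⟩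
        rw [mul_inv_rev, h]
        exact Set.mul_mem_mul (B.inv_mem hb) (A.inv_mem ha) }
  refine le_antisymm (show (A ⊔ B : Subgroup G) ≤ S from sup_le (fun a ha => ⟨a, ha, 1, B.one_mem, mul_one a⟩) (fun b hb => ⟨1, A.one_mem, b, hb, one_mul b⟩)) ?_
  rintro x ⟨a, ha, b, hb, rfl⟩
  exact Subgroup.mul_mem _ (Subgroup.mem_sup_left ha) (Subgroup.mem_sup_right hb)

private theorem sup_permutes {A A' B : Subgroup G} (h : (A : Set G) * (B : Set G) = (B : Set G) * (A : Set G))
    (h' : (A' : Set G) * (B : Set G) = (B : Set G) * (A' : Set G)) :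
    ((A ⊔ A' : Subgroup G) : Set G) * (B : Set G) = (B : Set G) * ((A ⊔ A' : Subgroup G) : Set G) := by
  -- the elements `x` with `x B ⊆ B (A ⊔ A')`
  have key : ∀ x ∈ A ⊔ A', ∀ b ∈ B, x * b ∈ (B : Set G) * ((A ⊔ A' : Subgroup G) : Set G) := by
    intro x hx
    rw [Subgroup.sup_eq_closure] at hx
    induction hx using Subgroup.closure_induction'' with
    | one => exact fun b hb => ⟨b, hb, 1, Subgroup.one_mem _, by simp⟩
    | mem y hy =>
      intro b hb
      rcases hy with hy | hy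
      · obtain ⟨b', hb', y', hy', e⟩ := (h ▸ Set.mul_mem_mul hy hb : y * b ∈ (B : Set G) * (A : Set G))
        exact ⟨b', hb', y', Subgroup.mem_sup_left hy', e⟩
      · obtain ⟨b', hb', y', hy', e⟩ := (h' ▸ Set.mul_mem_mul hy hb : y * b ∈ (B : Set G) * (A' : Set G))
        exact ⟨b', hb', y', Subgroup.mem_sup_right hy', e⟩
    | inv_mem y hy =>
      intro b hb
      rcases hy with hy | hy
      · obtain ⟨b', hb', y', hy', e⟩ := (h ▸ Set.mul_mem_mul (A.inv_mem hy) hb : y⁻¹ * b ∈ (B : Set G) * (A : Set G))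
        exact ⟨b', hb', y', Subgroup.mem_sup_left hy', e⟩
      · obtain ⟨b', hb', y', hy', e⟩ := (h' ▸ Set.mul_mem_mul (A'.inv_mem hy) hb : y⁻¹ * b ∈ (B : Set G) * (A' : Set G))
        exact ⟨b', hb', y', Subgroup.mem_sup_right hy', e⟩
    | mul y z _ _ ihy ihz =>
      intro b hb
      obtain ⟨b', hb', z', hz', e⟩ := ihz b hb
      obtain ⟨b'', hb'', y', hy', e'⟩ := ihy b' hb'
      refine ⟨b'', hb'', y' * z', Subgroup.mul_mem _ hy' hz', ?_⟩
      simp only at e e' ⊢
      rw [← mul_assoc b'', e', mul_assoc, e, mul_assoc]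
  refine Set.eq_of_subset_of_subset ?_ ?_
  · rintro _ ⟨x, hx, b, hb, rfl⟩
    exact key x hx b hb
  · rintro _ ⟨b, hb, x, hx, rfl⟩
    have := Set.inv_mem_inv.mpr (key x⁻¹ (Subgroup.inv_mem _ hx) b⁻¹ (B.inv_mem hb))
    simp only [mul_inv_rev, inv_inv, inv_coe_set] at this
    exact this

private theorem aux : ∀ (n : ℕ) (A B : Subgroup G), A.index = n → A ≠ ⊥ →
    (∀ x : G, ∃ S : Subgroup G, S ≠ ⊤ ∧ (S : Set G) = (A : Set G) * ((MulAut.conj x • B : Subgroup G) : Set G)) →
    ∃ N : Subgroup G, N.Normal ∧ N ≠ ⊤ ∧ (A ≤ N ∨ B ≤ N) := by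
  intro n
  induction n using Nat.strong_induction_on with
  | _ n ih =>
  intro A B hn hA h
  by_cases hB : Subgroup.normalClosure (B : Set G) = ⊤
  swap
  · exact ⟨_, Subgroup.normalClosure_normal, hB, Or.inr Subgroup.le_normalClosure⟩
  by_cases hnorm : ∀ x : G, MulAut.conj x • B ≤ Subgroup.normalizer (A : Set G)
  · have hN : A.Normal := by
      rw [← Subgroup.normalizer_eq_top_iff, eq_top_iff, ← hB]
      refine (Subgroup.closure_le _).mpr ?_
      intro y hy
      obtain ⟨b, hb, hc⟩ := Group.mem_conjugatesOfSet_iff.mp hy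
      obtain ⟨c, rfl⟩ := isConj_iff.mp hc
      exact hnorm c (CfsgLib.mem_conj_smul_iff.mpr (by simpa [mul_assoc] using hb))
    obtain ⟨S, hS, he⟩ := h 1
    exact ⟨A, hN, fun e => hS (top_unique (e ▸ (comm_of_mul_eq he).2.1)), Or.inl le_rfl⟩
  push Not at hnorm
  obtain ⟨x, hx⟩ := hnorm
  obtain ⟨b, hb, hbA⟩ := SetLike.not_le_iff_exists.mp hx
  set A₂ := A ⊔ MulAut.conj b • A with hA₂
  have hlt : A < A₂ := lt_of_le_of_ne le_sup_left fun e => hbA (by
    rw [← CfsgLib.HallSystem.conj_eq_iff_mem]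
    refine Subgroup.eq_of_le_of_card_ge ?_ (CfsgLib.card_conj_smul b A).ge
    exact le_sup_right.trans e.symm.le)
  obtain ⟨Sx, hSx, hSxe⟩ := h x
  have hA₂S : A₂ ≤ Sx := sup_le (comm_of_mul_eq hSxe).2.1 fun y hy => by
    have hb' : b ∈ Sx := (comm_of_mul_eq hSxe).2.2 hb
    have := Sx.mul_mem (Sx.mul_mem hb' ((comm_of_mul_eq hSxe).2.1 (CfsgLib.mem_conj_smul_iff.mp hy))) (Sx.inv_mem hb')
    simpa [mul_assoc] using this
  obtain ⟨N, hN, hNt, h'⟩ := ih A₂.index (hn ▸ Subgroup.index_strictAnti hlt) A₂ B rfl (ne_bot_of_le_ne_bot hA hlt.le) (fun y => by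
    obtain ⟨S, hS, he⟩ := h y
    obtain ⟨S', hS', he'⟩ := h (b⁻¹ * y)
    have hp := (comm_of_mul_eq he).1
    have hp' : ((MulAut.conj b • A : Subgroup G) : Set G) * ((MulAut.conj y • B : Subgroup G) : Set G) =
        ((MulAut.conj y • B : Subgroup G) : Set G) * ((MulAut.conj b • A : Subgroup G) : Set G) := by
      have e : MulAut.conj y • B = MulAut.conj b • MulAut.conj (b⁻¹ * y) • B := by
        rw [CfsgLib.conj_smul_mul, mul_inv_cancel_left]
      rw [e, Subgroup.coe_pointwise_smul, Subgroup.coe_pointwise_smul, ← smul_mul', ← smul_mul', (comm_of_mul_eq he').1]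
    have hp2 := sup_permutes hp hp'
    refine ⟨A₂ ⊔ MulAut.conj y • B, fun htop => ?_, sup_eq_mul hp2⟩
    -- `G = B^x (A B^y)`
    have hfac : ∀ g : G, ∃ b' ∈ MulAut.conj x • B, ∃ t ∈ S, g = b' * t := fun g => by
      have hg : g ∈ ((A₂ : Set G) * ((MulAut.conj y • B : Subgroup G) : Set G)) := by
        rw [← sup_eq_mul hp2, htop]; trivial
      obtain ⟨s, hs, c, hc, rfl⟩ := hg
      have h1 : s ∈ ((MulAut.conj x • B : Subgroup G) : Set G) * (A : Set G) := by
        rw [← (comm_of_mul_eq hSxe).1, ← hSxe]; exact hA₂S hs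
      obtain ⟨b', hb', a, ha, rfl⟩ := h1
      exact ⟨b', hb', a * c, S.mul_mem ((comm_of_mul_eq he).2.1 ha) ((comm_of_mul_eq he).2.2 hc), mul_assoc _ _ _⟩
    obtain ⟨b', hb', t, ht, hxy⟩ := hfac (x * y⁻¹)
    -- hence `B^x ≤ S`
    have hBS : MulAut.conj x • B ≤ S := by
      have hxe : x = b' * t * y := by rw [← hxy, inv_mul_cancel_right]
      intro z hz
      have h1 : b'⁻¹ * z * b' ∈ MulAut.conj x • B := by
        have := Subgroup.mul_mem _ (Subgroup.mul_mem _ (Subgroup.inv_mem _ hb') hz) hb'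
        exact this
      have hzS : ∀ w ∈ MulAut.conj x • B, b'⁻¹ * w * b' ∈ S := fun w hw => by
        have h2 : t⁻¹ * (b'⁻¹ * w * b') * t ∈ MulAut.conj y • B := by
          rw [CfsgLib.mem_conj_smul_iff] at hw ⊢
          rw [hxe] at hw
          simpa [mul_assoc] using hw
        have := S.mul_mem (S.mul_mem ht ((comm_of_mul_eq he).2.2 h2)) (S.inv_mem ht)
        simpa [mul_assoc] using this
      have h3 := hzS (b' * z * b'⁻¹) (Subgroup.mul_mem _ (Subgroup.mul_mem _ hb' hz) (Subgroup.inv_mem _ hb'))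
      simpa [mul_assoc] using h3
    refine hS (top_unique fun g _ => ?_)
    obtain ⟨b₂, hb₂, t₂, ht₂, rfl⟩ := hfac g
    exact S.mul_mem (hBS hb₂) ht₂)
  exact ⟨N, hN, hNt, h'.imp_left hlt.le.trans⟩

/-- Let A and B be nontrivial subgroups of a finite group G such that for every x the product set of A and xBx⁻¹ is a proper subgroup of G. Then there is a proper normal subgroup of G containing A or containing B. -/
theorem result {G : Type*} [Group G] [Finite G] (A B : Subgroup G) (hA : A ≠ ⊥) (hB : B ≠ ⊥) (h : ∀ x : G, ∃ S : Subgroup G, S ≠ ⊤ ∧ (S : Set G) = (A : Set G) * ((MulAut.conj x • B : Subgroup G) : Set G)) : ∃ N : Subgroup G, N.Normal ∧ N ≠ ⊤ ∧ (A ≤ N ∨ B ≤ N) := by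
  exact aux _ A B rfl hA h

end Cfsg.Agent.S0566
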