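import Cfsg.Statements.S0567
import Mathlib
-- import your own Cfsg.Agent.* helpers here

set_option autoImplicit false
open Cfsg
open scoped commutatorElement Pointwise

namespace Cfsg.Agent.S0567

/-- A subgroup H of a group G is subnormal exactly when, for some m, the subgroup obtained from G by taking the commutator with H m times in succession is contained in H. -/
theorem result {G : Type*} [Group G] (H : Subgroup G) : H.IsSubnormal ↔ ∃ m : ℕ, (fun K : Subgroup G => ⁅K, H⁆)^[m] ⊤ ≤ H := by
  constructor
  · intro h
    induction h with
    | top => exact ⟨0, le_rfl⟩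
    | step H K hle hK hN ih =>
      obtain ⟨m, hm⟩ := ih
      refine ⟨m + 1, ?_⟩
      rw [Function.iterate_succ_apply']
      have hmono : ∀ j, (fun L : Subgroup G => ⁅L, H⁆)^[j] ⊤ ≤ (fun L : Subgroup G => ⁅L, K⁆)^[j] ⊤ := by
        intro j
        induction j with
        | zero => exact le_rfl
        | succ j ihj =>
          rw [Function.iterate_succ_apply', Function.iterate_succ_apply']
          exact Subgroup.commutator_mono ihj hle
      refine (Subgroup.commutator_mono ((hmono m).trans hm) le_rfl).trans ?_
      exact Subgroup.le_normalizer_iff_commutator_le_right.mp ((Subgroup.normal_subgroupOf_iff_le_normalizer hle).mp hN)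
  · rintro ⟨m, hm⟩
    suffices ∀ j, j ≤ m → (H ⊔ (fun K : Subgroup G => ⁅K, H⁆)^[j] ⊤).IsSubnormal by
      have := this m le_rfl
      rwa [sup_eq_left.mpr hm] at this
    intro j hj
    induction j with
    | zero => simp
    | succ j ih =>
      rw [Function.iterate_succ_apply']
      set L := (fun K : Subgroup G => ⁅K, H⁆)^[j] ⊤ with hL
      refine Subgroup.IsSubnormal.step _ (H ⊔ L) (sup_le le_sup_left ?_) (ih (by omega)) ?_
      · exact (Subgroup.commutator_le_sup L H).trans (le_of_eq (sup_comm L H))
      · rw [Subgroup.normal_subgroupOf_iff_le_normalizer (sup_le le_sup_left ((Subgroup.commutator_le_sup L H).trans (le_of_eq (sup_comm L H))))]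
        refine sup_le (le_sup_left.trans Subgroup.le_normalizer) ?_
        rw [Subgroup.le_normalizer_iff]
        intro k hk x hx
        have hcn : H ≤ Subgroup.normalizer (⁅L, H⁆ : Subgroup G) := Subgroup.normalizer_commutator_ge_right L H
        rw [← SetLike.mem_coe, Subgroup.coe_mul_of_left_le_normalizer_right _ _ hcn] at hx
        obtain ⟨a, ha, c, hc, rfl⟩ := hx
        have : k * (a * c) * k⁻¹ = (⁅k, a⁆ * a) * (k * c * k⁻¹) := by rw [commutatorElement_def]; group
        rw [this]
        refine mul_mem (mul_mem (Subgroup.mem_sup_right (Subgroup.commutator_mem_commutator hk ha)) (Subgroup.mem_sup_left ha)) (Subgroup.mem_sup_right ?_)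
        exact Subgroup.le_normalizer_iff.mp (Subgroup.normalizer_commutator_ge_left L H) k hk c hc

end Cfsg.Agent.S0567
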