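import Cfsg.Statements.S0568
import Mathlib
import Cfsg.Agent.Lib.Solvable.HallSystem
-- import your own Cfsg.Agent.* helpers here

set_option autoImplicit false
open Cfsg

namespace Cfsg.Agent.S0568

universe u
open scoped Pointwise
open CfsgLib.HallSystem

private theorem avoids_minimal {Q : Type u} [Group Q] [Finite Q] [Group.IsSolvable Q] {K : Nat.Primes → Subgroup Q}
    (hK : Cfsg.IsComplementSystem K) (B : Subgroup Q) [B.Normal]
    (hmin : ∀ M : Subgroup Q, M.Normal → M ≤ B → M = ⊥ ∨ M = B) (hnc : ¬ B ≤ Subgroup.center Q) :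
    B ⊓ Cfsg.systemNormalizer K = ⊥ := by
  have hB0 : B ≠ ⊥ := fun e => hnc (e ▸ bot_le)
  obtain ⟨hBc, p, hp, hBp⟩ := CfsgLib.minimal_normal_elementary hB0 inferInstance hmin
  haveI := hBc
  haveI := Fact.mk hp
  set C := Subgroup.centralizer (B : Set Q) with hCd
  haveI hCn : C.Normal := by rw [hCd]; infer_instance
  have hCtop : C ≠ ⊤ := fun e => hnc fun b hb => Subgroup.mem_center_iff.mpr fun g =>
    ((Subgroup.mem_centralizer_iff.mp (show g ∈ C from e ▸ Subgroup.mem_top g)) b hb).symm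
  haveI : Nontrivial (Q ⧸ C) := QuotientGroup.nontrivial_iff.mpr hCtop
  obtain ⟨Rb, hRn, -, hR0, hRmin⟩ := CfsgLib.exists_minimal_normal (N := (⊤ : Subgroup (Q ⧸ C))) top_ne_bot
  haveI := hRn
  obtain ⟨hRc, r, hr, hRr⟩ := CfsgLib.minimal_normal_elementary hR0 inferInstance hRmin
  set f := QuotientGroup.mk' C with hf
  set R := Rb.comap f with hRd
  haveI : R.Normal := Subgroup.normal_comap _
  -- nothing in `B` but `1` centralises `R`
  have hCR : B ⊓ Subgroup.centralizer (R : Set Q) = ⊥ := by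
    rcases hmin (B ⊓ Subgroup.centralizer (R : Set Q)) inferInstance inf_le_left with h | h
    · exact h
    · refine absurd ?_ hR0
      rw [eq_bot_iff]
      intro x hx
      obtain ⟨g, rfl⟩ := QuotientGroup.mk'_surjective C x
      rw [Subgroup.mem_bot]
      refine (QuotientGroup.eq_one_iff g).mpr (Subgroup.mem_centralizer_iff.mpr fun b hb => ?_)
      exact ((Subgroup.mem_centralizer_iff.mp ((inf_eq_left.mp h) hb)) g hx).symm
  have hne : r ≠ p := by
    rintro rfl
    let φ : Q ⧸ C →* MulAut B := QuotientGroup.lift C (MulAut.conjNormal : Q →* MulAut B) fun c hc => by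
      refine MonoidHom.mem_ker.mpr (MulEquiv.ext fun b => Subtype.ext ?_)
      rw [MulAut.conjNormal_apply, ← Subgroup.mem_centralizer_iff.mp hc b b.2, mul_inv_cancel_right]
      rfl
    letI : MulAction (Q ⧸ C) B := MulAction.compHom B φ
    have hP : IsPGroup r Rb := fun x => ⟨1, Subtype.ext (by rw [pow_one]; exact hRr x x.2)⟩
    have hd : r ∣ Nat.card B := by
      haveI : Nontrivial B := (Subgroup.nontrivial_iff_ne_bot B).mpr hB0
      obtain ⟨b, hb⟩ := exists_ne (1 : B)
      rw [← orderOf_eq_prime (p := r) (x := b) (Subtype.ext (hBp b b.2)) hb]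
      exact orderOf_dvd_natCard b
    have h1fix : (1 : B) ∈ MulAction.fixedPoints Rb B := fun x => (φ (x : Q ⧸ C)).map_one
    obtain ⟨b, hb, hb1⟩ := hP.exists_fixed_point_of_prime_dvd_card_of_fixed_point B hd h1fix
    have hbR : (b : Q) ∈ B ⊓ Subgroup.centralizer (R : Set Q) := by
      refine Subgroup.mem_inf.mpr ⟨b.2, Subgroup.mem_centralizer_iff.mpr fun g hg => ?_⟩
      have h2 := congrArg Subtype.val (hb ⟨f g, hg⟩)
      change g * (b : Q) * g⁻¹ = b at h2
      exact mul_inv_eq_iff_eq_mul.mp h2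
    rw [hCR, Subgroup.mem_bot] at hbR
    exact hb1 (Subtype.ext hbR).symm
  -- a `p`-complement covers `R` modulo `C`
  have hRK : R ≤ K ⟨p, hp⟩ ⊔ C := by
    have hc : ¬ p ∣ Nat.card Rb := fun hd => by
      obtain ⟨x, hx⟩ := exists_prime_orderOf_dvd_card' (G := Rb) p hd
      have h1 : orderOf x ∣ r := orderOf_dvd_of_pow_eq_one (Subtype.ext (hRr x x.2))
      rw [hx] at h1
      exact hne ((Nat.prime_dvd_prime_iff_eq hp hr).mp h1).symm
    have h := normal_le (isPComp_map (p := p) (hK ⟨p, hp⟩) (QuotientGroup.mk'_surjective C)) Rb hc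
    have h2 := Subgroup.comap_mono (f := f) h
    rwa [Subgroup.comap_map_eq, QuotientGroup.ker_mk'] at h2
  rw [eq_bot_iff, ← hCR]
  rintro x ⟨hxB, hxD⟩
  refine Subgroup.mem_inf.mpr ⟨hxB, ?_⟩
  have hle : K ⟨p, hp⟩ ⊔ C ≤ Subgroup.centralizer ({x} : Set Q) := by
    refine sup_le (fun k hk => ?_) (Subgroup.centralizer_le (Set.singleton_subset_iff.mpr hxB))
    rw [Subgroup.mem_centralizer_singleton_iff]
    have h1 : x * k * x⁻¹ * k⁻¹ ∈ K ⟨p, hp⟩ := by
      refine Subgroup.mul_mem _ ?_ (Subgroup.inv_mem _ hk)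
      rw [← (mem_systemNormalizer.mp hxD ⟨p, hp⟩), CfsgLib.mem_conj_smul_iff]
      simpa [mul_assoc] using hk
    have h2 : x * k * x⁻¹ * k⁻¹ ∈ B := by
      rw [show x * k * x⁻¹ * k⁻¹ = x * (k * x⁻¹ * k⁻¹) by group]
      exact B.mul_mem hxB (‹B.Normal›.conj_mem _ (B.inv_mem hxB) k)
    have h3 : x * k * x⁻¹ * k⁻¹ = 1 := by
      by_contra hne1
      refine not_dvd_card (p := p) (hK ⟨p, hp⟩) ?_
      have hd := Subgroup.orderOf_dvd_natCard _ h1
      rw [orderOf_eq_prime (p := p) (hBp _ h2) hne1] at hd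
      exact hd
    exact (mul_inv_eq_iff_eq_mul.mp (mul_inv_eq_one.mp h3)).symm
  refine Subgroup.mem_centralizer_iff.mpr fun g hg => ?_
  exact Subgroup.mem_centralizer_singleton_iff.mp (hle (hRK hg))

/-- Let D be the system normalizer of a Hall complement system of a finite solvable group G, and let A < B be normal subgroups with no normal subgroup of G strictly between them (a chief factor). If G centralizes B modulo A then B ≤ A ⊔ D (D covers the factor); otherwise B ∩ D ≤ A (D avoids it). -/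
theorem result {G : Type*} [Group G] [Finite G] [Group.IsSolvable G] (K : Nat.Primes → Subgroup G) (hK : Cfsg.IsComplementSystem K) (A B : Subgroup G) [A.Normal] [B.Normal] (hAB : A < B) (hchief : ∀ N : Subgroup G, N.Normal → A ≤ N → N ≤ B → N = A ∨ N = B) : (⁅B, (⊤ : Subgroup G)⁆ ≤ A → B ≤ A ⊔ Cfsg.systemNormalizer K) ∧ (¬ ⁅B, (⊤ : Subgroup G)⁆ ≤ A → B ⊓ Cfsg.systemNormalizer K ≤ A) := by
  set f := QuotientGroup.mk' A with hf
  have hfs := QuotientGroup.mk'_surjective A
  haveI : (B.map f).Normal := Subgroup.Normal.map inferInstance f hfs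
  have hK' := CfsgLib.HallSystem.map_system hK hfs
  have hD := CfsgLib.HallSystem.systemNormalizer_map hK f hfs
  have hcen : B.map f ≤ Subgroup.center (G ⧸ A) ↔ ⁅B, (⊤ : Subgroup G)⁆ ≤ A := by
    conv_rhs => rw [← QuotientGroup.ker_mk' A, ← Subgroup.map_eq_bot_iff, Subgroup.map_commutator, Subgroup.map_top_of_surjective _ hfs,
      Subgroup.commutator_eq_bot_iff_le_centralizer, Subgroup.coe_top, Subgroup.centralizer_univ]
  constructor
  · intro hc b hb
    have h1 : f b ∈ (Cfsg.systemNormalizer K).map f := by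
      rw [← hD, CfsgLib.HallSystem.mem_systemNormalizer]
      intro p
      rw [CfsgLib.HallSystem.conj_eq_iff_mem]
      exact Subgroup.center_le_normalizer _ (hcen.mpr hc (Subgroup.mem_map_of_mem f hb))
    have h2 : b ∈ ((Cfsg.systemNormalizer K).map f).comap f := h1
    rwa [Subgroup.comap_map_eq, QuotientGroup.ker_mk', sup_comm] at h2
  · intro hnc
    have h := avoids_minimal hK' (B.map f) (fun M hM hMB => by
      have hA : A ≤ M.comap f := fun a ha => by
        show f a ∈ M
        rw [show f a = 1 from (QuotientGroup.eq_one_iff a).mpr ha]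
        exact M.one_mem
      have hB' : M.comap f ≤ B := by
        refine (Subgroup.comap_mono hMB).trans ?_
        rw [Subgroup.comap_map_eq, QuotientGroup.ker_mk', sup_eq_left.mpr hAB.le]
      rcases hchief _ (Subgroup.normal_comap _) hA hB' with e | e
      · left
        rw [← Subgroup.map_comap_eq_self_of_surjective hfs M, e, Subgroup.map_eq_bot_iff, QuotientGroup.ker_mk']
      · right
        rw [← Subgroup.map_comap_eq_self_of_surjective hfs M, e]) (fun h => hnc (hcen.mp h))
    rintro x ⟨hxB, hxD⟩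
    have h1 : f x ∈ B.map f ⊓ Cfsg.systemNormalizer (fun p => (K p).map f) :=
      Subgroup.mem_inf.mpr ⟨Subgroup.mem_map_of_mem f hxB, by rw [hD]; exact Subgroup.mem_map_of_mem f hxD⟩
    rw [h, Subgroup.mem_bot] at h1
    exact (QuotientGroup.eq_one_iff x).mp h1

end Cfsg.Agent.S0568
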