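import Cfsg.Statements.S0573
import Mathlib
import Cfsg.Agent.S0572
import Cfsg.Agent.Lib.Elementary
-- import your own Cfsg.Agent.* helpers here

set_option autoImplicit false
open Cfsg

namespace Cfsg.Agent.S0573

open scoped commutatorElement

private theorem center_part {G : Type*} [Group G] (A B : Subgroup G) (hA : ∀ a ∈ A, ∀ a' ∈ A, a * a' = a' * a)
    (hB : ∀ a ∈ B, ∀ a' ∈ B, a * a' = a' * a) (hAB : ∀ g : G, ∃ a ∈ A, ∃ b ∈ B, g = a * b)
    (hno : ∀ N : Subgroup G, N.Normal → N ≠ ⊥ → ¬ N ≤ A ∧ ¬ N ≤ B) :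
    (Subgroup.center G = ⊥) ∧ ∀ x ∈ commutator G, (∀ u ∈ commutator G, x * u = u * x) → (∀ a ∈ A, x * a = a * x) → x = 1 := by
  have hone : ∀ (P : Subgroup G), (P = A ∨ P = B) → ∀ z ∈ Subgroup.center G, z ∈ P → z = 1 := by
    intro P hP z hz hzP
    by_contra hz1
    have hn : (Subgroup.zpowers z).Normal := ⟨fun w hw g => by
      obtain ⟨k, rfl⟩ := Subgroup.mem_zpowers_iff.mp hw
      rw [Subgroup.mem_center_iff.mp (Subgroup.zpow_mem _ hz k) g, mul_inv_cancel_right]
      exact hw⟩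
    have hne : Subgroup.zpowers z ≠ ⊥ := fun e => hz1 (Subgroup.zpowers_eq_bot.mp e)
    rcases hP with rfl | rfl
    · exact (hno _ hn hne).1 (Subgroup.zpowers_le.mpr hzP)
    · exact (hno _ hn hne).2 (Subgroup.zpowers_le.mpr hzP)
  have hZ : ∀ z ∈ Subgroup.center G, z = 1 := by
    intro z hz
    obtain ⟨a, ha, b, hb, e⟩ := hAB z
    have haz : a ∈ Subgroup.center G := Subgroup.mem_center_iff.mpr fun g => by
      obtain ⟨a', ha', b', hb', rfl⟩ := hAB g
      have h1 : b' * a = a * b' := by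
        rw [show a = z * b⁻¹ by rw [e, mul_inv_cancel_right]]
        calc b' * (z * b⁻¹) = (b' * z) * b⁻¹ := by group
          _ = z * (b' * b⁻¹) := by rw [Subgroup.mem_center_iff.mp hz b']; group
          _ = _ := by rw [hB b' hb' b⁻¹ (inv_mem hb)]; group
      calc a' * b' * a = a' * (b' * a) := by group
        _ = (a' * a) * b' := by rw [h1]; group
        _ = _ := by rw [hA a' ha' a ha]; group
    have ha1 := hone A (Or.inl rfl) a haz ha
    rw [ha1, one_mul] at e
    exact hone B (Or.inr rfl) z hz (e ▸ hb)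
  refine ⟨(Subgroup.eq_bot_iff_forall _).mpr hZ, fun x hx hxu hxa => ?_⟩
  set T := A ⊔ commutator G with hT
  have hTn : T.Normal := ⟨fun w hw g => by
    have h1 : g * w * g⁻¹ * w⁻¹ ∈ commutator G := Subgroup.commutator_mem_commutator (Subgroup.mem_top g) (Subgroup.mem_top w)
    have := mul_mem (Subgroup.mem_sup_right (S := A) h1) hw
    rwa [inv_mul_cancel_right] at this⟩
  set N := T ⊓ Subgroup.centralizer (T : Set G) with hN
  have hNn : N.Normal := inferInstance
  have hxN : x ∈ N := Subgroup.mem_inf.mpr ⟨Subgroup.mem_sup_right hx, Subgroup.mem_centralizer_iff.mpr fun w hw => by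
    have hle : T ≤ Subgroup.centralizer {x} := sup_le (fun a ha => Subgroup.mem_centralizer_singleton_iff.mpr (hxa a ha).symm)
      (fun u hu => Subgroup.mem_centralizer_singleton_iff.mpr (hxu u hu).symm)
    exact Subgroup.mem_centralizer_singleton_iff.mp (hle hw)⟩
  have hNA : N ≤ A := fun z hz => by
    obtain ⟨a, ha, b, hb, e⟩ := hAB z
    have hbz : b ∈ Subgroup.center G := Subgroup.mem_center_iff.mpr fun g => by
      obtain ⟨a', ha', b', hb', rfl⟩ := hAB g
      have h1 : a' * b = b * a' := by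
        rw [show b = a⁻¹ * z by rw [e, inv_mul_cancel_left]]
        have hza := Subgroup.mem_centralizer_iff.mp hz.2 a' (Subgroup.mem_sup_left ha')
        calc a' * (a⁻¹ * z) = (a' * a⁻¹) * z := by group
          _ = a⁻¹ * (a' * z) := by rw [hA a' ha' a⁻¹ (inv_mem ha)]; group
          _ = _ := by rw [hza]; group
      calc a' * b' * b = a' * (b' * b) := by group
        _ = (a' * b) * b' := by rw [hB b' hb' b hb]; group
        _ = _ := by rw [h1]; group
    rw [e, hZ b hbz, mul_one]; exact ha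
  by_contra hx1
  exact (hno N hNn fun e => hx1 (Subgroup.mem_bot.mp (e ▸ hxN))).1 hNA

private theorem fixed_by_pElement {G : Type*} [Group G] [Finite G] (A B : Subgroup G) (hA : ∀ a ∈ A, ∀ a' ∈ A, a * a' = a' * a)
    (hAB : ∀ g : G, ∃ a ∈ A, ∃ b ∈ B, g = a * b) (hG' : ∀ u ∈ commutator G, ∀ v ∈ commutator G, u * v = v * u)
    (M : Subgroup G) [M.Normal] (hMG : M ≤ commutator G) (hM0 : M ≠ ⊥)
    (hmin : ∀ K : Subgroup G, K.Normal → K ≤ M → K = ⊥ ∨ K = M) {p : ℕ} [Fact p.Prime] (hMp : IsPGroup p M)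
    {a : G} (ha : a ∈ A) (hap : IsPGroup p (Subgroup.zpowers a)) : ∀ m ∈ M, a * m = m * a := by
  classical
  set F := M ⊓ Subgroup.centralizer ({a} : Set G) with hF
  have hinv : ∀ g : G, (g ∈ A ∨ g ∈ B) → ∀ m ∈ F, g * m * g⁻¹ ∈ F := by
    intro g hg m hm
    refine Subgroup.mem_inf.mpr ⟨(inferInstance : M.Normal).conj_mem m hm.1 g, ?_⟩
    rw [Subgroup.mem_centralizer_singleton_iff]
    have h0 : m * a = a * m := Subgroup.mem_centralizer_singleton_iff.mp hm.2
    have hu : a⁻¹ * g⁻¹ * a * g ∈ commutator G := by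
      have := Subgroup.commutator_mem_commutator (Subgroup.mem_top a⁻¹) (Subgroup.mem_top g⁻¹) (H₁ := (⊤ : Subgroup G)) (H₂ := ⊤)
      rwa [commutatorElement_def, inv_inv, inv_inv] at this
    have h2 := hG' _ hu m (hMG hm.1)
    calc g * m * g⁻¹ * a = g * (m * a) * (a⁻¹ * g⁻¹ * a * g) * g⁻¹ := by group
      _ = g * (a * (m * (a⁻¹ * g⁻¹ * a * g))) * g⁻¹ := by rw [h0]; group
      _ = g * (a * ((a⁻¹ * g⁻¹ * a * g) * m)) * g⁻¹ := by rw [h2]
      _ = a * (g * m * g⁻¹) := by group
  have hFn : F.Normal := ⟨fun m hm g => by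
    obtain ⟨α, hα, β, hβ, rfl⟩ := hAB g
    have := hinv α (Or.inl hα) _ (hinv β (Or.inr hβ) m hm)
    rwa [show α * β * m * (α * β)⁻¹ = α * (β * m * β⁻¹) * α⁻¹ by group]⟩
  rcases hmin F hFn inf_le_left with e | e
  · exfalso
    let ψ : Subgroup.zpowers a →* MulAut M := (MulAut.conjNormal : G →* MulAut M).comp (Subgroup.zpowers a).subtype
    letI : MulAction (Subgroup.zpowers a) M := MulAction.compHom M ψ
    obtain ⟨k, hk⟩ := IsPGroup.iff_card.mp hMp
    have hd : p ∣ Nat.card M := hk ▸ dvd_pow_self p fun h0 => hM0 (Subgroup.card_eq_one.mp (by rw [hk, h0, pow_zero]))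
    obtain ⟨b, hb, hb1⟩ := hap.exists_fixed_point_of_prime_dvd_card_of_fixed_point M hd (a := 1) (fun r => map_one (ψ r))
    have h1 : a * (b : G) * a⁻¹ = b := congrArg Subtype.val (hb ⟨a, Subgroup.mem_zpowers a⟩)
    have hbF : (b : G) ∈ F := Subgroup.mem_inf.mpr ⟨b.2, Subgroup.mem_centralizer_singleton_iff.mpr (mul_inv_eq_iff_eq_mul.mp h1).symm⟩
    rw [e, Subgroup.mem_bot] at hbF
    exact hb1 (Subtype.ext hbF).symm
  · intro m hm
    exact (Subgroup.mem_centralizer_singleton_iff.mp (e.symm ▸ hm : m ∈ F).2).symm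

/-- If a nontrivial finite group G is the product AB of abelian subgroups A and B, then some nontrivial normal subgroup of G is contained in A or in B. -/
theorem result {G : Type*} [Group G] [Finite G] [Nontrivial G] (A B : Subgroup G) [IsMulCommutative A] [IsMulCommutative B] (hAB : ∀ g : G, ∃ a ∈ A, ∃ b ∈ B, g = a * b) : ∃ N : Subgroup G, N.Normal ∧ N ≠ ⊥ ∧ (N ≤ A ∨ N ≤ B) := by
    classical
    by_contra hno
    push Not at hno
    have hA : ∀ a ∈ A, ∀ a' ∈ A, a * a' = a' * a := fun a ha a' ha' =>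
      congrArg Subtype.val (IsMulCommutative.is_comm.comm (⟨a, ha⟩ : A) ⟨a', ha'⟩)
    have hB : ∀ a ∈ B, ∀ a' ∈ B, a * a' = a' * a := fun a ha a' ha' =>
      congrArg Subtype.val (IsMulCommutative.is_comm.comm (⟨a, ha⟩ : B) ⟨a', ha'⟩)
    have hBA : ∀ g : G, ∃ b ∈ B, ∃ a ∈ A, g = b * a := fun g => by
      obtain ⟨a, ha, b, hb, e⟩ := hAB g⁻¹
      exact ⟨b⁻¹, inv_mem hb, a⁻¹, inv_mem ha, by rw [← mul_inv_rev, ← e, inv_inv]⟩
    obtain ⟨hZ, hfixA⟩ := center_part A B hA hB hAB (fun N hn h0 => ⟨fun h => (hno N hn h0).1 h, fun h => (hno N hn h0).2 h⟩)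
    obtain ⟨-, hfixB⟩ := center_part B A hB hA hBA (fun N hn h0 => ⟨fun h => (hno N hn h0).2 h, fun h => (hno N hn h0).1 h⟩)
    have hG' : ∀ u ∈ commutator G, ∀ v ∈ commutator G, u * v = v * u := by
      intro u hu v hv
      have h := Cfsg.Agent.S0572.result A B hAB
      have h1 : ⁅u, v⁆ ∈ derivedSeries G 2 := by
        rw [derivedSeries_succ, derivedSeries_one]
        exact Subgroup.commutator_mem_commutator hu hv
      rwa [h, Subgroup.mem_bot, commutatorElement_eq_one_iff_mul_comm] at h1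
    obtain ⟨M, hMn, -, hM0, hmin⟩ := CfsgLib.exists_minimal_normal (G := G) (N := ⊤) top_ne_bot
    have hMG : M ≤ commutator G := by
      rcases hmin (M ⊓ commutator G) inferInstance inf_le_left with e | e
      · refine absurd (le_bot_iff.mp (fun m hm => ?_)) hM0
        rw [← hZ]
        refine Subgroup.mem_center_iff.mpr fun g => ?_
        have h1 : g * m * g⁻¹ * m⁻¹ ∈ M ⊓ commutator G :=
          Subgroup.mem_inf.mpr ⟨mul_mem (hMn.conj_mem m hm g) (inv_mem hm), Subgroup.commutator_mem_commutator (Subgroup.mem_top g) (Subgroup.mem_top m)⟩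
        rw [e, Subgroup.mem_bot] at h1
        calc g * m = (g * m * g⁻¹ * m⁻¹) * (m * g) := by group
          _ = m * g := by rw [h1, one_mul]
      · exact inf_eq_left.mp e
    have hMc : ∀ u ∈ M, ∀ v ∈ M, u * v = v * u := fun u hu v hv => hG' u (hMG hu) v (hMG hv)
    have : IsMulCommutative M := ⟨⟨fun u v => Subtype.ext (hMc u u.2 v v.2)⟩⟩
    obtain ⟨-, p, hp, hpow⟩ := CfsgLib.minimal_normal_elementary hM0 (by
      open scoped IsMulCommutative in exact inferInstance) hmin
    have := Fact.mk hp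
    have hMp : IsPGroup p M := fun x => ⟨1, by rw [pow_one]; exact Subtype.ext (hpow x x.2)⟩
    have hMA : ∀ m ∈ M, m ∈ A → m = 1 := fun m hm hmA => hfixA m (hMG hm) (hG' m (hMG hm)) fun a ha => hA m hmA a ha
    have hMB : ∀ m ∈ M, m ∈ B → m = 1 := fun m hm hmB => hfixB m (hMG hm) (hG' m (hMG hm)) fun a ha => hB m hmB a ha
    have hAB1 : ∀ x, x ∈ A → x ∈ B → x = 1 := fun x hxA hxB => Subgroup.mem_bot.mp (hZ ▸ Subgroup.mem_center_iff.mpr fun g => by
      obtain ⟨a', ha', b', hb', rfl⟩ := hAB g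
      calc a' * b' * x = a' * (b' * x) := by group
        _ = (a' * x) * b' := by rw [hB b' hb' x hxB]; group
        _ = _ := by rw [hA a' ha' x hxA]; group)
    -- decompose the elements of `M`
    choose α hα β hβ hdec using fun m : M => hAB m
    have hinjβ : Function.Injective β := fun m m' e => Subtype.ext (by
      have h1 : (m : G) * (m' : G)⁻¹ = α m * (α m')⁻¹ := by rw [hdec m, hdec m', e]; group
      exact mul_inv_eq_one.mp (hMA _ (mul_mem m.2 (inv_mem m'.2)) (h1 ▸ mul_mem (hα m) (inv_mem (hα m')))))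
    set B₀ := B ⊓ (A ⊔ M) with hB₀
    have hβmem : ∀ m, β m ∈ B₀ := fun m => Subgroup.mem_inf.mpr ⟨hβ m, by
      rw [show β m = (α m)⁻¹ * m by rw [hdec m, inv_mul_cancel_left]]
      exact mul_mem (Subgroup.mem_sup_left (inv_mem (hα m))) (Subgroup.mem_sup_right m.2)⟩
    have hcardB₀ : Nat.card B₀ = Nat.card M := by
      refine (Nat.card_congr (Equiv.ofBijective (fun m : M => (⟨β m, hβmem m⟩ : B₀))
        ⟨fun m m' e => hinjβ (congrArg Subtype.val e), fun ⟨b, hbB, hb⟩ => ?_⟩)).symm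
      obtain ⟨a, ha, m, hm, e⟩ := Subgroup.mem_sup_of_normal_right.mp hb
      refine ⟨⟨m, hm⟩, Subtype.ext (?_ : β ⟨m, hm⟩ = b)⟩
      have h1 : α ⟨m, hm⟩ * β ⟨m, hm⟩ = a⁻¹ * b := by rw [← hdec, ← e, inv_mul_cancel_left]
      have h2 : a * α ⟨m, hm⟩ = b * (β ⟨m, hm⟩)⁻¹ := by
        calc a * α ⟨m, hm⟩ = a * (α ⟨m, hm⟩ * β ⟨m, hm⟩) * (β ⟨m, hm⟩)⁻¹ := by group
          _ = _ := by rw [h1]; group
      exact (mul_inv_eq_one.mp (hAB1 _ (h2 ▸ mul_mem ha (hα _)) (mul_mem hbB (inv_mem (hβ _))))).symm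
    obtain ⟨e, he⟩ := IsPGroup.iff_card.mp hMp
    have hβp : ∀ m, ∀ k ∈ M, β m * k = k * β m := fun m => fixed_by_pElement B A hB hBA hG' M hMG hM0 hmin hMp (hβ m)
      ((IsPGroup.iff_card.mpr ⟨e, hcardB₀.trans he⟩ : IsPGroup p B₀).to_le (Subgroup.zpowers_le.mpr (hβmem m)))
    have hαp : ∀ m, ∀ k ∈ M, α m * k = k * α m := fun m k hk => by
      have h0 : α m = (m : G) * (β m)⁻¹ := by rw [hdec m, mul_inv_cancel_right]
      rw [h0]
      calc (m : G) * (β m)⁻¹ * k = m * ((β m)⁻¹ * (k * β m)) * (β m)⁻¹ := by group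
        _ = (m * k) * (β m)⁻¹ := by rw [← hβp m k hk]; group
        _ = _ := by rw [hMc m m.2 k hk]; group
    have hαord : ∀ m, IsPGroup p (Subgroup.zpowers (α m)) := fun m => by
      refine IsPGroup.iff_orderOf.mpr fun x => ?_
      have hd : orderOf (α m) ∣ p ^ e := by
        refine orderOf_dvd_of_pow_eq_one ?_
        have h0 : α m = (m : G) * (β m)⁻¹ := by rw [hdec m, mul_inv_cancel_right]
        have hc : Commute (m : G) (β m)⁻¹ := (Commute.inv_right (hβp m m m.2).symm)
        rw [h0, hc.mul_pow, ← he, show (m : G) ^ Nat.card M = 1 from congrArg Subtype.val (pow_card_eq_one' (x := m)), one_mul,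
          ← hcardB₀, show ((β m)⁻¹) ^ Nat.card B₀ = 1 from congrArg Subtype.val (pow_card_eq_one' (x := (⟨(β m)⁻¹, inv_mem (hβmem m)⟩ : B₀)))]
      obtain ⟨j, -, hj⟩ := (Nat.dvd_prime_pow hp).mp ((orderOf_dvd_natCard x).trans ((Nat.card_zpowers (α m)).symm ▸ hd))
      exact ⟨j, hj⟩
    -- the subgroup `W` generated by `M` and the `A`-parts
    set D : Set G := (M : Set G) ∪ Set.range α with hD
    have hmove : ∀ g : G, ∀ m, g * α m * g⁻¹ * (α m)⁻¹ ∈ M := by
      intro g m
      obtain ⟨a', ha', b', hb', rfl⟩ := hAB g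
      have h0 : α m = (m : G) * (β m)⁻¹ := by rw [hdec m, mul_inv_cancel_right]
      have h1 : b' * α m * b'⁻¹ = (b' * m * b'⁻¹ * (m : G)⁻¹) * α m := by
        rw [h0]
        calc b' * ((m : G) * (β m)⁻¹) * b'⁻¹ = b' * m * ((β m)⁻¹ * b'⁻¹) := by group
          _ = b' * m * (b'⁻¹ * (β m)⁻¹) := by rw [hB _ (inv_mem (hβ m)) _ (inv_mem hb')]
          _ = _ := by group
      have h2 : a' * α m = α m * a' := hA a' ha' _ (hα m)
      rw [show a' * b' * α m * (a' * b')⁻¹ * (α m)⁻¹ = a' * (b' * α m * b'⁻¹) * a'⁻¹ * (α m)⁻¹ by group, h1,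
        show a' * (b' * ↑m * b'⁻¹ * (↑m)⁻¹ * α m) * a'⁻¹ * (α m)⁻¹ =
          (a' * (b' * ↑m * b'⁻¹ * (↑m)⁻¹) * a'⁻¹) * ((a' * α m) * a'⁻¹ * (α m)⁻¹) by group, h2, mul_inv_cancel_right, mul_inv_cancel, mul_one]
      exact hMn.conj_mem _ (mul_mem (hMn.conj_mem _ m.2 b') (inv_mem m.2)) a'
    set W := Subgroup.closure D with hW
    have hWgen : ∀ g : G, ∀ d ∈ D, g * d * g⁻¹ ∈ W := by
      rintro g d (hd | ⟨m, rfl⟩)
      · exact Subgroup.subset_closure (Or.inl (hMn.conj_mem d hd g))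
      · have := mul_mem (Subgroup.subset_closure (k := D) (Or.inl (hmove g m))) (Subgroup.subset_closure (k := D) (Or.inr ⟨m, rfl⟩))
        rwa [inv_mul_cancel_right] at this
    have hWn : W.Normal := ⟨fun w hw g => by
      induction hw using Subgroup.closure_induction with
      | mem d hd => exact hWgen g d hd
      | one => simp
      | mul x y _ _ hx hy => rw [show g * (x * y) * g⁻¹ = g * x * g⁻¹ * (g * y * g⁻¹) by group]; exact mul_mem hx hy
      | inv x _ hx => rw [show g * x⁻¹ * g⁻¹ = (g * x * g⁻¹)⁻¹ by group]; exact inv_mem hx⟩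
    set C := Subgroup.centralizer (W : Set G) with hC
    have hCmem : ∀ {g : G}, (∀ d ∈ D, g * d = d * g) → g ∈ C := fun {g} h => by
      rw [hC, hW, Subgroup.centralizer_closure]
      exact Subgroup.mem_centralizer_iff.mpr fun d hd => (h d hd).symm
    -- elements of `p`-power order in `A` or `B` centralise `W`
    have hpC : ∀ x : G, (x ∈ A ∨ x ∈ B) → IsPGroup p (Subgroup.zpowers x) → x ∈ C := by
      intro x hx hxp
      refine hCmem fun d hd => ?_
      rcases hx with hx | hx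
      · rcases hd with hd | ⟨m, rfl⟩
        · exact fixed_by_pElement A B hA hAB hG' M hMG hM0 hmin hMp hx hxp d hd
        · exact hA x hx _ (hα m)
      · have hxM := fixed_by_pElement B A hB hBA hG' M hMG hM0 hmin hMp hx hxp
        rcases hd with hd | ⟨m, rfl⟩
        · exact hxM d hd
        · rw [show α m = (m : G) * (β m)⁻¹ by rw [hdec m, mul_inv_cancel_right]]
          calc x * ((m : G) * (β m)⁻¹) = (x * m) * (β m)⁻¹ := by group
            _ = m * (x * (β m)⁻¹) := by rw [hxM m m.2]; group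
            _ = _ := by rw [hB x hx _ (inv_mem (hβ m))]; group
    let π := QuotientGroup.mk' C
    have himg : ∀ P : Subgroup G, (P = A ∨ P = B) → ¬ p ∣ Nat.card (P.map π) := by
      intro P hP hd
      obtain ⟨⟨y, hy⟩, hyo⟩ := exists_prime_orderOf_dvd_card' (G := P.map π) p hd
      obtain ⟨x, hx, rfl⟩ := hy
      rw [← Subgroup.orderOf_coe] at hyo; change orderOf (π x) = p at hyo
      obtain ⟨j, n, hn, hxn⟩ := Nat.exists_eq_pow_mul_and_not_dvd (orderOf_pos x).ne' p hp.ne_one
      have hxp : IsPGroup p (Subgroup.zpowers (x ^ n)) := IsPGroup.iff_card.mpr ⟨j, by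
        have hn0 : n ≠ 0 := fun h => hn (h ▸ dvd_zero p)
        rw [Nat.card_zpowers, orderOf_pow' x hn0, hxn, Nat.gcd_eq_right (dvd_mul_left _ _), Nat.mul_div_cancel _ (Nat.pos_of_ne_zero hn0)]⟩
      have h1 : x ^ n ∈ C := hpC _ (by rcases hP with rfl | rfl; exacts [Or.inl (pow_mem hx n), Or.inr (pow_mem hx n)]) hxp
      exact hn (hyo ▸ orderOf_dvd_of_pow_eq_one (show π x ^ n = 1 by rw [← map_pow]; exact (QuotientGroup.eq_one_iff _).mpr h1))
    have hQ : ¬ p ∣ Nat.card (G ⧸ C) := by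
      intro hd
      rw [← (A.map π).card_mul_index] at hd
      rcases hp.dvd_mul.mp hd with h | h
      · exact himg A (Or.inl rfl) h
      · have : MulAction.IsPretransitive (B.map π) ((G ⧸ C) ⧸ A.map π) := by
          refine ⟨fun u v => ?_⟩
          have base : ∀ u : (G ⧸ C) ⧸ A.map π, ∃ y : B.map π, y • ((1 : G ⧸ C) : (G ⧸ C) ⧸ A.map π) = u := fun u => by
            obtain ⟨w, rfl⟩ := QuotientGroup.mk_surjective u
            obtain ⟨g, rfl⟩ := QuotientGroup.mk'_surjective C w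
            obtain ⟨b', hb', a', ha', rfl⟩ := hBA g
            refine ⟨⟨π b', b', hb', rfl⟩, ?_⟩
            show ((π b' * 1 : G ⧸ C) : (G ⧸ C) ⧸ A.map π) = _
            rw [mul_one]
            refine QuotientGroup.eq.mpr ⟨a', ha', ?_⟩
            rw [show QuotientGroup.mk' C = π from rfl, map_mul, inv_mul_cancel_left]
          obtain ⟨y, hy⟩ := base u
          obtain ⟨z, hz⟩ := base v
          exact ⟨z * y⁻¹, by rw [← hy, smul_smul, inv_mul_cancel_right, hz]⟩
        have hidx := MulAction.index_stabilizer_of_transitive (B.map π) ((1 : G ⧸ C) : (G ⧸ C) ⧸ A.map π)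
        rw [Subgroup.index] at h
        exact himg B (Or.inr rfl) ((hidx ▸ h).trans (Subgroup.index_dvd_card _))
    -- so the commutator subgroup centralises `W`
    have hG'C : ∀ g ∈ commutator G, ∀ m, g * α m = α m * g := by
      intro g hg m
      set d := g * α m * g⁻¹ * (α m)⁻¹ with hd'
      have hdM : d ∈ M := hmove g m
      have hiter : ∀ k : ℕ, g ^ k * α m * (g ^ k)⁻¹ = d ^ k * α m := fun k => by
        induction k with
        | zero => simp
        | succ k ih =>
          calc g ^ (k + 1) * α m * (g ^ (k + 1))⁻¹ = g * (g ^ k * α m * (g ^ k)⁻¹) * g⁻¹ := by rw [pow_succ']; group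
            _ = (g * d ^ k * g⁻¹) * (g * α m * g⁻¹) := by rw [ih]; group
            _ = d ^ k * (d * α m) := by
              rw [hG' g hg _ (pow_mem (hMG hdM) k), mul_inv_cancel_right, hd', inv_mul_cancel_right]
            _ = _ := by rw [pow_succ]; exact (mul_assoc _ _ _).symm
      have hgC : g ^ p ∈ C := hCmem fun x hx => by
        rcases hx with hx | ⟨m', rfl⟩
        · exact hG' _ (pow_mem hg p) x (hMG hx)
        · set d' := g * α m' * g⁻¹ * (α m')⁻¹ with hd''
          have hit' : g ^ p * α m' * (g ^ p)⁻¹ = d' ^ p * α m' := by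
            clear hiter
            have key : ∀ k : ℕ, g ^ k * α m' * (g ^ k)⁻¹ = d' ^ k * α m' := fun k => by
              induction k with
              | zero => simp
              | succ k ih =>
                calc g ^ (k + 1) * α m' * (g ^ (k + 1))⁻¹ = g * (g ^ k * α m' * (g ^ k)⁻¹) * g⁻¹ := by rw [pow_succ']; group
                  _ = (g * d' ^ k * g⁻¹) * (g * α m' * g⁻¹) := by rw [ih]; group
                  _ = d' ^ k * (d' * α m') := by
                    rw [hG' g hg _ (pow_mem (hMG (hmove g m')) k), mul_inv_cancel_right, hd'', inv_mul_cancel_right]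
                  _ = _ := by rw [pow_succ]; exact (mul_assoc _ _ _).symm
            exact key p
          rw [hpow _ (hmove g m'), one_mul] at hit'
          exact mul_inv_eq_iff_eq_mul.mp hit'
      have hπ : π g = 1 := by
        rw [← orderOf_eq_one_iff]
        rcases (Nat.dvd_prime hp).mp (orderOf_dvd_of_pow_eq_one (show π g ^ p = 1 by rw [← map_pow]; exact (QuotientGroup.eq_one_iff _).mpr hgC)) with h | h
        · exact h
        · exact absurd (h ▸ orderOf_dvd_natCard (π g)) hQ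
      exact (Subgroup.mem_centralizer_iff.mp ((QuotientGroup.eq_one_iff g).mp hπ) _ (Subgroup.subset_closure (Or.inr ⟨m, rfl⟩))).symm
    -- hence the `A`-parts are central
    have hαZ : ∀ m, α m = 1 := fun m => Subgroup.mem_bot.mp (hZ ▸ Subgroup.mem_center_iff.mpr fun g => by
      obtain ⟨a', ha', b', hb', rfl⟩ := hAB g
      set μ := b' * α m * b'⁻¹ * (α m)⁻¹ with hμ
      have hμM : μ ∈ M := hmove b' m
      have hconj : ∀ x ∈ A, x * (b' * α m * b'⁻¹) = (b' * α m * b'⁻¹) * x := fun x hx => by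
        have hu : x⁻¹ * b'⁻¹ * x * b' ∈ commutator G := by
          have := Subgroup.commutator_mem_commutator (Subgroup.mem_top x⁻¹) (Subgroup.mem_top b'⁻¹) (H₁ := (⊤ : Subgroup G)) (H₂ := ⊤)
          rwa [commutatorElement_def, inv_inv, inv_inv] at this
        calc x * (b' * α m * b'⁻¹) = b' * x * ((x⁻¹ * b'⁻¹ * x * b') * α m) * b'⁻¹ := by group
          _ = b' * x * (α m * (x⁻¹ * b'⁻¹ * x * b')) * b'⁻¹ := by rw [hG'C _ hu m]
          _ = b' * (x * α m) * (x⁻¹ * b'⁻¹ * x) := by group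
          _ = b' * (α m * x) * (x⁻¹ * b'⁻¹ * x) := by rw [hA x hx _ (hα m)]
          _ = _ := by group
      have hμ1 : μ = 1 := hfixA μ (hMG hμM) (hG' μ (hMG hμM)) fun x hx => by
        rw [hμ]
        calc b' * α m * b'⁻¹ * (α m)⁻¹ * x = b' * α m * b'⁻¹ * ((α m)⁻¹ * x) := by group
          _ = (b' * α m * b'⁻¹ * x) * (α m)⁻¹ := by rw [hA _ (inv_mem (hα m)) x hx]; group
          _ = _ := by rw [← hconj x hx]; group
      have h1 : b' * α m = α m * b' := by
        calc b' * α m = (b' * α m * b'⁻¹ * (α m)⁻¹) * (α m * b') := by group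
          _ = α m * b' := by rw [← hμ, hμ1, one_mul]
      calc a' * b' * α m = a' * (b' * α m) := by group
        _ = (a' * α m) * b' := by rw [h1]; group
        _ = _ := by rw [hA a' ha' _ (hα m)]; group)
    refine hM0 ((Subgroup.eq_bot_iff_forall M).mpr fun m hm => hMB m hm ?_)
    have := hdec ⟨m, hm⟩
    rw [hαZ ⟨m, hm⟩, one_mul] at this
    exact (show m = β ⟨m, hm⟩ from this) ▸ hβ _

end Cfsg.Agent.S0573
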