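import Cfsg.Statements.S0571
import Mathlib
import Cfsg.Agent.S0573
import Cfsg.Agent.Lib.Solvable.Supersolvable
-- import your own Cfsg.Agent.* helpers here

set_option autoImplicit false
open Cfsg

namespace Cfsg.Agent.S0571

universe u

private theorem aux {G : Type u} [Group G] [Finite G] (A B : Subgroup G) [IsCyclic A] [IsCyclic B]
    (hAB : ∀ g : G, ∃ a ∈ A, ∃ b ∈ B, g = a * b) : Cfsg.IsSupersolvable G := by
  induction hc : Nat.card G using Nat.strong_induction_on generalizing G with
  | h n ih =>
    subst hc
    rcases subsingleton_or_nontrivial G with hs | hs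
    · exact CfsgLib.Supersolvable.of_subsingleton
    haveI : IsMulCommutative A := inferInstance
    haveI : IsMulCommutative B := inferInstance
    obtain ⟨N, hNn, hN0, hN⟩ := Cfsg.Agent.S0573.result A B hAB
    haveI : IsCyclic N := by
      rcases hN with h | h
      · exact isCyclic_of_injective (Subgroup.inclusion h) (Subgroup.inclusion_injective h)
      · exact isCyclic_of_injective (Subgroup.inclusion h) (Subgroup.inclusion_injective h)
    let π := QuotientGroup.mk' N
    haveI : IsCyclic (A.map π) := isCyclic_of_surjective (π.subgroupMap A) (MonoidHom.subgroupMap_surjective π A)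
    haveI : IsCyclic (B.map π) := isCyclic_of_surjective (π.subgroupMap B) (MonoidHom.subgroupMap_surjective π B)
    refine CfsgLib.Supersolvable.of_quotient N (ih _ (CfsgLib.Supersolvable.card_quotient_lt N hN0) (A.map π) (B.map π) (fun q => ?_) rfl)
    obtain ⟨g, rfl⟩ := QuotientGroup.mk'_surjective N q
    obtain ⟨a, ha, b, hb, rfl⟩ := hAB g
    exact ⟨π a, Subgroup.mem_map_of_mem π ha, π b, Subgroup.mem_map_of_mem π hb, map_mul π a b⟩

/-- If a finite group G is the product AB of two cyclic subgroups (every element is a product ab), then G is supersolvable. -/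
theorem result {G : Type*} [Group G] [Finite G] (A B : Subgroup G) [IsCyclic A] [IsCyclic B] (hAB : ∀ g : G, ∃ a ∈ A, ∃ b ∈ B, g = a * b) : Cfsg.IsSupersolvable G := by
  exact aux A B hAB

end Cfsg.Agent.S0571
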