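import Cfsg.Statements.S0574
import Cfsg.Agent.S0574.Lib
-- import your own Cfsg.Agent.* helpers here

set_option autoImplicit false
open Cfsg

namespace Cfsg.Agent.S0574

/-- Let the finite group G be the product AB of an abelian subgroup A and a subgroup B of nilpotency class at most two, and let Ω be the number of prime factors, with multiplicity, of the order of the commutator subgroup of B. Then the term of index 2(1 + Ω) of the derived series of G is trivial. -/
theorem result {G : Type*} [Group G] [Finite G] (A B : Subgroup G) [IsMulCommutative A] (hB : commutator ↥B ≤ Subgroup.center ↥B) (hAB : ∀ g : G, ∃ a ∈ A, ∃ b ∈ B, g = a * b) : derivedSeries G (2 * (1 + (Nat.card ↥(commutator ↥B)).primeFactorsList.length)) = ⊥ := by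
    classical
    have hA : ∀ x ∈ A, ∀ y ∈ A, x * y = y * x := fun x hx y hy =>
      congrArg Subtype.val (IsMulCommutative.is_comm.comm (⟨x, hx⟩ : A) ⟨y, hy⟩)
    have hB' : ∀ z ∈ ⁅B, B⁆, ∀ b ∈ B, b * z = z * b := by
      intro z hz b hb
      rw [← Subgroup.map_subtype_commutator] at hz
      obtain ⟨w, hw, rfl⟩ := hz
      exact congrArg Subtype.val (Subgroup.mem_center_iff.mp (hB hw) ⟨b, hb⟩)
    haveI hAn : Group.IsNilpotent A :=
      letI : CommGroup A := { (inferInstance : Group A) with mul_comm := fun x y => Subtype.ext (hA x x.2 y y.2) }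
      CommGroup.isNilpotent
    have hBn : Group.IsNilpotent B :=
      Subgroup.isNilpotent_of_ker_le_center (Abelianization.of (G := B)) (by rw [Abelianization.ker_of]; exact hB)
    haveI := Cfsg.Agent.S0564.result A B hAn hBn hAB
    have h := CfsgLib.AbelianClassTwo.derived_bound _ rfl A B hA hB' hAB
    rwa [← Subgroup.map_subtype_commutator, Subgroup.card_map_of_injective B.subtype_injective] at h

end Cfsg.Agent.S0574
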