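import Cfsg.Statements.S0576
import Mathlib
-- import your own Cfsg.Agent.* helpers here

set_option autoImplicit false
open Cfsg

namespace Cfsg.Agent.S0576

/-- Let H be a normal subgroup of a finite group G with H contained in the Frattini subgroup of G. Then the group of inner automorphisms of H is contained in the Frattini subgroup of the automorphism group of H. -/
theorem result {G : Type*} [Group G] [Finite G] (H : Subgroup G) [H.Normal] (hH : H ≤ frattini G) : (MulAut.conj : ↥H →* MulAut ↥H).range ≤ frattini (MulAut ↥H) := by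
  classical
  refine le_iInf₂ fun M hM => ?_
  by_contra hle
  let φ : G →* MulAut H := MulAut.conjNormal
  have hφ : ∀ h : H, φ h = MulAut.conj h := fun h => MulAut.conjNormal_val
  have hn : (MulAut.conj : H →* MulAut H).range.Normal := by
    refine ⟨?_⟩
    rintro _ ⟨h, rfl⟩ e
    exact ⟨e h, by ext x; simp [MulAut.conj_apply, MulAut.mul_apply]⟩
  have hsup : (MulAut.conj : H →* MulAut H).range ⊔ M = ⊤ :=
    hM.2 _ (lt_of_le_of_ne le_sup_right fun e => hle (e ▸ le_sup_left))
  have htop : M.comap φ ⊔ frattini G = ⊤ := by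
    refine eq_top_iff.mpr fun g _ => ?_
    obtain ⟨n, ⟨h, rfl⟩, m, hm, e⟩ := Subgroup.mem_sup_of_normal_left.mp (hsup.symm ▸ Subgroup.mem_top (φ g))
    have h1 : ((h : G))⁻¹ * g ∈ M.comap φ := by
      rw [Subgroup.mem_comap, map_mul, map_inv, hφ, ← e, inv_mul_cancel_left]
      exact hm
    have := mul_mem (Subgroup.mem_sup_right (S := M.comap φ) (hH h.2)) (Subgroup.mem_sup_left (T := frattini G) h1)
    rwa [mul_inv_cancel_left] at this
  have hall := frattini_nongenerating htop
  refine hle ?_
  rintro _ ⟨h, rfl⟩
  have : (h : G) ∈ M.comap φ := hall ▸ Subgroup.mem_top _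
  rw [Subgroup.mem_comap, hφ] at this
  exact this

end Cfsg.Agent.S0576
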