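import Cfsg.Statements.S0577
import Mathlib
import Cfsg.Agent.Lib.Solvable.Schmidt
-- import your own Cfsg.Agent.* helpers here

set_option autoImplicit false
open Cfsg

namespace Cfsg.Agent.S0577

open scoped commutatorElement

/-- Let G be a finite minimal non-nilpotent group and Q a normal Sylow q-subgroup of G, and let D be the commutator subgroup of Q regarded in G (a normal subgroup). Then G modulo D is non-abelian and all its proper subgroups are abelian. -/
theorem result {G : Type*} [Group G] [Finite G] (hG : Cfsg.IsMinimalNonNilpotent G) (q : ℕ) [Fact q.Prime] (hq : q ∣ Nat.card G) (Q : Sylow q G) (hQ : (Q : Subgroup G).Normal) (D : Subgroup G) [D.Normal] (hD : D = (commutator ↥(Q : Subgroup G)).map (Q : Subgroup G).subtype) : ¬ IsMulCommutative (G ⧸ D) ∧ ∀ K : Subgroup (G ⧸ D), K ≠ ⊤ → IsMulCommutative K := by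
    classical
    obtain ⟨p, q', hp, hq', hpq, P, Q', g, hP, hQn', htop, x₀, hx₀, hx₀g⟩ := CfsgLib.Schmidt.schmidt_sylows hG
    have := Fact.mk hp
    have := Fact.mk hq'
    obtain ⟨hnn, hsub⟩ := hG
    have hgP : g ∈ (P : Subgroup G) := hP ▸ Subgroup.mem_zpowers g
    have hqq : q = q' := by
      by_contra hne
      obtain ⟨a, ha⟩ := IsPGroup.iff_card.mp P.isPGroup'
      obtain ⟨b, hb⟩ := IsPGroup.iff_card.mp Q'.isPGroup'
      have hcard : Nat.card G = p ^ a * q' ^ b := by
        rw [← ha, ← hb]
        have hd : Disjoint (P : Subgroup G) (Q' : Subgroup G) := disjoint_iff.mpr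
          (Subgroup.inf_eq_bot_of_coprime (by rw [ha, hb]; exact Nat.coprime_pow_primes a b hp hq' hpq))
        exact (Subgroup.isComplement'_of_disjoint_and_mul_eq_univ hd (by rw [← Subgroup.mul_normal, htop]; rfl)).card_mul.symm
      have hqp : q = p := by
        rcases (Fact.out : q.Prime).dvd_mul.mp (hcard ▸ hq) with h | h
        · exact (Nat.prime_dvd_prime_iff_eq Fact.out hp).mp ((Fact.out : q.Prime).dvd_of_dvd_pow h)
        · exact absurd ((Nat.prime_dvd_prime_iff_eq Fact.out hq').mp ((Fact.out : q.Prime).dvd_of_dvd_pow h)) hne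
      subst hqp
      have hPQ : (P : Subgroup G) = Q := by
        have := Sylow.unique_of_normal Q hQ
        exact congrArg _ (Subsingleton.elim P Q)
      have hPn : (P : Subgroup G).Normal := hPQ ▸ hQ
      refine hx₀g (?_ : x₀ * g = g * x₀)
      have hinf : (P : Subgroup G) ⊓ (Q' : Subgroup G) = ⊥ :=
        Subgroup.inf_eq_bot_of_coprime (by rw [ha, hb]; exact Nat.coprime_pow_primes a b hp hq' hpq)
      exact ((Subgroup.commute_of_normal_of_disjoint _ _ hPn hQn' (disjoint_iff.mpr hinf) g x₀ hgP hx₀).eq).symm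
    subst hqq
    have hQQ : (Q' : Subgroup G) = Q := by
      have := Sylow.unique_of_normal Q hQ
      exact congrArg _ (Subsingleton.elim Q' Q)
    rw [hQQ] at htop hx₀ hQn'
    have hDQ : D ≤ (Q : Subgroup G) := hD ▸ Subgroup.map_subtype_le _
    have hcomD : ∀ {u v}, u ∈ (Q : Subgroup G) → v ∈ (Q : Subgroup G) → ⁅u, v⁆ ∈ D := fun {u v} hu hv => by
      rw [hD]
      exact ⟨⁅(⟨u, hu⟩ : (Q : Subgroup G)), ⟨v, hv⟩⁆,
        Subgroup.commutator_mem_commutator (Subgroup.mem_top _) (Subgroup.mem_top _), rfl⟩
    let π := QuotientGroup.mk' D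
    have hπ : ∀ {z}, z ∈ D → π z = 1 := fun {z} hz => (QuotientGroup.eq_one_iff z).mpr hz
    constructor
    · intro hab
      -- then the commutator subgroup lies in every maximal subgroup
      have hcl : ∀ x y : G, ⁅x, y⁆ ∈ D := fun x y => by
        rw [← QuotientGroup.eq_one_iff]
        show π ⁅x, y⁆ = 1
        rw [map_commutatorElement, commutatorElement_eq_one_iff_mul_comm]
        exact hab.is_comm.comm _ _
      have hDfr : ∀ M : Subgroup G, IsCoatom M → D ≤ M := by
        intro M hM
        by_contra hDM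
        have htopM : M ⊔ D = ⊤ := hM.2 _ (lt_of_le_of_ne le_sup_left fun e => hDM (e ▸ le_sup_right))
        have hQnt : ¬ (Q : Subgroup G) ≤ M := fun h => hDM (hDQ.trans h)
        set R : Subgroup (Q : Subgroup G) := M.subgroupOf (Q : Subgroup G) with hR
        have hRtop : R ≠ ⊤ := fun e => hQnt (Subgroup.subgroupOf_eq_top.mp e)
        obtain ⟨N, hN, hRN⟩ := (eq_top_or_exists_le_coatom R).resolve_left hRtop
        have hnil : Group.IsNilpotent (Q : Subgroup G) := Q.isPGroup'.isNilpotent
        have hNn : N.Normal := Subgroup.NormalizerCondition.normal_of_coatom N normalizerCondition_of_isNilpotent hN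
        have hcN : commutator (Q : Subgroup G) ≤ N := by
          have : Group.IsSolvable ((Q : Subgroup G) ⧸ N) := inferInstance
          have : Nontrivial ((Q : Subgroup G) ⧸ N) := QuotientGroup.nontrivial_iff.mpr hN.1
          have hlt := IsSolvable.commutator_lt_top_of_nontrivial ((Q : Subgroup G) ⧸ N)
          have hcn : (commutator ((Q : Subgroup G) ⧸ N)).comap (QuotientGroup.mk' N) ≠ ⊤ := fun e => hlt.ne (by
            rw [← Subgroup.map_comap_eq_self_of_surjective (QuotientGroup.mk'_surjective N) (commutator ((Q : Subgroup G) ⧸ N)), e,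
              Subgroup.map_top_of_surjective _ (QuotientGroup.mk'_surjective N)])
          have hle : N ≤ (commutator ((Q : Subgroup G) ⧸ N)).comap (QuotientGroup.mk' N) := fun z hz => by
            rw [Subgroup.mem_comap, QuotientGroup.mk'_apply, (QuotientGroup.eq_one_iff z).mpr hz]; exact one_mem _
          have heq : (commutator ((Q : Subgroup G) ⧸ N)).comap (QuotientGroup.mk' N) = N := by
            by_contra hne'
            exact hcn (hN.2 _ (lt_of_le_of_ne hle (Ne.symm hne')))
          rw [commutator_def, Subgroup.commutator_le]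
          intro a _ b _
          rw [← heq, Subgroup.mem_comap, map_commutatorElement]
          exact Subgroup.commutator_mem_commutator (Subgroup.mem_top _) (Subgroup.mem_top _)
        refine hN.1 (eq_top_iff.mpr fun z _ => ?_)
        have hz : (z : G) ∈ M ⊔ D := htopM ▸ Subgroup.mem_top _
        obtain ⟨m, hm, d, hd, hmd⟩ := Subgroup.mem_sup_of_normal_right.mp hz
        have hmQ : m ∈ (Q : Subgroup G) := by
          have := mul_mem z.2 (inv_mem (hDQ hd))
          rwa [← hmd, mul_inv_cancel_right] at this
        have hdN : (⟨d, hDQ hd⟩ : (Q : Subgroup G)) ∈ N := by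
          obtain ⟨w, hw, hwd⟩ := hD ▸ hd
          exact hcN (by rwa [show (⟨d, hDQ hd⟩ : (Q : Subgroup G)) = w from Subtype.ext hwd.symm])
        have hz' : z = (⟨m, hmQ⟩ : ↥(Q : Subgroup G)) * (⟨d, hDQ hd⟩ : ↥(Q : Subgroup G)) := Subtype.ext hmd.symm
        rw [hz']
        exact mul_mem (hRN hm) hdN
      refine hnn (((Group.isNilpotent_of_finite_tfae (G := G)).out 0 2).mpr ?_)
      intro M hM
      refine ⟨fun m hm x => ?_⟩
      have h1 := mul_mem (hDfr M hM (hcl x m)) hm
      rwa [commutatorElement_def, inv_mul_cancel_right] at h1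
    · intro K hK
      set H : Subgroup G := K.comap π with hH
      have hHtop : H ≠ ⊤ := fun e => hK (by
        rw [← Subgroup.map_comap_eq_self_of_surjective (QuotientGroup.mk'_surjective D) K, ← hH, e,
          Subgroup.map_top_of_surjective _ (QuotientGroup.mk'_surjective D)])
      have hHn := hsub H hHtop
      -- `H` is its `q`-part times a cyclic part
      let U : Subgroup G := H ⊓ (Q : Subgroup G)
      have hcen : ∀ u ∈ U, ∀ y ∈ H, π u * π y = π y * π u := by
        intro u hu y hy
        obtain ⟨r, hr, z, hz, rfl⟩ := Subgroup.mem_sup_of_normal_right.mp (htop ▸ Subgroup.mem_top y : y ∈ (P : Subgroup G) ⊔ (Q : Subgroup G))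
        -- split off the `p`-part inside `H`
        have h1 : π u * π z = π z * π u := by
          rw [← commutatorElement_eq_one_iff_mul_comm, ← map_commutatorElement]
          exact hπ (hcomD hu.2 hz)
        suffices h2 : π u * π r = π r * π u by
          rw [map_mul]
          calc π u * (π r * π z) = (π u * π r) * π z := by group
            _ = π r * (π u * π z) := by rw [h2]; group
            _ = _ := by rw [h1]; group
        -- an element of `H` congruent to `r` modulo `Q` of `p`-power order
        obtain ⟨b, hb⟩ := IsPGroup.iff_card.mp Q.isPGroup'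
        obtain ⟨a, ha⟩ := IsPGroup.iff_orderOf.mp P.isPGroup' ⟨r, hr⟩
        rw [Subgroup.orderOf_mk] at ha
        have hy' : (r * z) ^ (q ^ b) ∈ H := pow_mem hy _
        have hmod : ∀ n : ℕ, ∃ z' ∈ (Q : Subgroup G), (r * z) ^ n = r ^ n * z' := by
          intro n
          induction n with
          | zero => exact ⟨1, one_mem _, by simp⟩
          | succ n ih =>
            obtain ⟨z', hz', e⟩ := ih
            exact ⟨r⁻¹ * z' * r * z, mul_mem (by simpa using hQ.conj_mem z' hz' r⁻¹) hz, by rw [pow_succ, e, pow_succ]; group⟩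
        obtain ⟨z', hz', e⟩ := hmod (q ^ b)
        -- the element `(r z)^(q^b)` has `p`-power order
        have hyc : (orderOf u).Coprime (orderOf ((r * z) ^ (q ^ b))) := by
          obtain ⟨k, hk⟩ := IsPGroup.iff_orderOf.mp Q.isPGroup' ⟨u, hu.2⟩
          rw [Subgroup.orderOf_mk] at hk
          rw [hk]
          obtain ⟨z'', hz'', e''⟩ := hmod (p ^ a)
          rw [← ha, pow_orderOf_eq_one, one_mul] at e''
          have h3 : ((r * z) ^ (q ^ b)) ^ (p ^ a) = 1 := by
            rw [← pow_mul, mul_comm, pow_mul, ← ha, e'']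
            have := orderOf_dvd_natCard (⟨z'', hz''⟩ : (Q : Subgroup G))
            rw [Subgroup.orderOf_mk, hb] at this
            exact orderOf_dvd_iff_pow_eq_one.mp this
          exact (Nat.coprime_pow_primes k a hq' hp (Ne.symm hpq)).coprime_dvd_right (orderOf_dvd_of_pow_eq_one h3)
        have h4 := congrArg π (CfsgLib.Schmidt.nilpotent_commute hHn hu.1 hy' hyc)
        rw [map_mul, map_mul, e, map_mul, map_pow] at h4
        have h5 : π u * π z' = π z' * π u := by
          rw [← commutatorElement_eq_one_iff_mul_comm, ← map_commutatorElement]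
          exact hπ (hcomD hu.2 hz')
        have h6 : Commute (π u) ((π r) ^ (q ^ b)) := by
          show _ = _
          refine mul_right_cancel (b := π z') ?_
          calc π u * π r ^ (q ^ b) * π z' = π r ^ (q ^ b) * π z' * π u := by rw [mul_assoc]; exact h4
            _ = π r ^ (q ^ b) * (π u * π z') := by rw [h5]; group
            _ = _ := by group
        obtain ⟨k, hk⟩ : ∃ k, (π r ^ (q ^ b)) ^ k = π r := by
          refine exists_pow_eq_self_of_coprime ?_
          exact (Nat.coprime_pow_primes b a hq' hp (Ne.symm hpq)).coprime_dvd_right (ha ▸ orderOf_map_dvd π r)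
        exact hk ▸ (h6.pow_right k).eq
      refine ⟨⟨fun x y => Subtype.ext ?_⟩⟩
      obtain ⟨a, ha⟩ := QuotientGroup.mk'_surjective D (x : G ⧸ D)
      obtain ⟨b, hb⟩ := QuotientGroup.mk'_surjective D (y : G ⧸ D)
      have haH : a ∈ H := by rw [hH, Subgroup.mem_comap]; exact ha.symm ▸ x.2
      have hbH : b ∈ H := by rw [hH, Subgroup.mem_comap]; exact hb.symm ▸ y.2
      -- `H` modulo its `q`-part is cyclic
      let f : H →* G ⧸ (Q : Subgroup G) := (QuotientGroup.mk' (Q : Subgroup G)).comp H.subtype
      have hcyc : IsCyclic (G ⧸ (Q : Subgroup G)) := by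
        refine isCyclic_of_surjective ((QuotientGroup.mk' (Q : Subgroup G)).comp (Subgroup.zpowers g).subtype) fun w => ?_
        obtain ⟨w, rfl⟩ := QuotientGroup.mk'_surjective _ w
        obtain ⟨r, hr, z, hz, rfl⟩ := Subgroup.mem_sup_of_normal_right.mp (htop ▸ Subgroup.mem_top w : w ∈ (P : Subgroup G) ⊔ (Q : Subgroup G))
        exact ⟨⟨r, hP ▸ hr⟩, by simp [(QuotientGroup.eq_one_iff z).mpr hz]⟩
      let ρ : H →* K := (π.comp H.subtype).codRestrict K fun h => h.2
      have hρs : Function.Surjective ρ := fun k => by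
        obtain ⟨c, hc⟩ := QuotientGroup.mk'_surjective D (k : G ⧸ D)
        exact ⟨⟨c, by rw [hH, Subgroup.mem_comap]; exact hc.symm ▸ k.2⟩, Subtype.ext hc⟩
      -- the image of the generator and of the `q`-part commute
      obtain ⟨w, hw⟩ := (inferInstance : IsCyclic f.range).exists_generator
      obtain ⟨c, hc⟩ := w.2
      have hdec : ∀ h : H, ∃ (n : ℤ) (u : G), u ∈ U ∧ π (h : G) = π (c : G) ^ n * π u := fun h => by
        obtain ⟨n, hn⟩ := Subgroup.mem_zpowers_iff.mp (hw ⟨f h, h, rfl⟩)
        have hn' : f h = f c ^ n := by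
          rw [hc]; exact (congrArg Subtype.val hn).symm
        refine ⟨n, ((c : G) ^ n)⁻¹ * h, Subgroup.mem_inf.mpr ⟨H.mul_mem (H.inv_mem (H.zpow_mem c.2 n)) h.2, ?_⟩, ?_⟩
        · rw [← QuotientGroup.eq_one_iff]
          show f (c ^ n)⁻¹ * f h = 1
          rw [hn', map_inv, map_zpow, inv_mul_cancel]
        · rw [← map_zpow, ← map_mul, mul_inv_cancel_left]
      obtain ⟨n, u, hu, e1⟩ := hdec ⟨a, haH⟩
      obtain ⟨m, v, hv, e2⟩ := hdec ⟨b, hbH⟩
      rw [Subgroup.coe_mul, Subgroup.coe_mul, ← ha, ← hb, e1, e2]
      have k1 : Commute (π u) (π (c : G)) := hcen u hu c c.2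
      have k2 : Commute (π v) (π (c : G)) := hcen v hv c c.2
      have k3 : Commute (π u) (π v) := hcen u hu v hv.1
      exact ((((Commute.refl _).zpow_left n).zpow_right m).mul_right (k2.zpow_right n).symm).mul_left
        ((k1.zpow_right m).mul_right k3)

end Cfsg.Agent.S0577
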