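import Cfsg.Statements.S0578
import Mathlib
-- import your own Cfsg.Agent.* helpers here

set_option autoImplicit false
open Cfsg

namespace Cfsg.Agent.S0578

open scoped commutatorElement

/-- If in a finite group the normalizer of each abelian subgroup coincides with its centralizer, then the group is abelian. -/
theorem result {G : Type*} [Group G] [Finite G] (h : ∀ A : Subgroup G, IsMulCommutative A → Subgroup.normalizer (A : Set G) = Subgroup.centralizer (A : Set G)) : IsMulCommutative G := by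
  classical
  have hSyl : ∀ (p : ℕ) (hp : p.Prime) (P : Sylow p G), IsMulCommutative (P : Subgroup G) := by
    intro p hp P
    haveI : Fact p.Prime := ⟨hp⟩
    set S := (P : Subgroup G)
    -- a maximal abelian normal subgroup of `S`
    obtain ⟨A, -, hA⟩ := Finite.exists_le_maximal
      (p := fun A : Subgroup S => A.Normal ∧ ∀ a ∈ A, ∀ b ∈ A, a * b = b * a) (a := ⊥)
      ⟨inferInstance, fun a ha b hb => by rw [Subgroup.mem_bot] at ha hb; rw [ha, hb]⟩
    haveI := hA.prop.1
    have hAG : IsMulCommutative (A.map S.subtype) := ⟨⟨by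
      rintro ⟨_, a, ha, rfl⟩ ⟨_, b, hb, rfl⟩
      refine Subtype.ext ?_
      show (a : G) * (b : G) = (b : G) * (a : G)
      exact congrArg Subtype.val (hA.prop.2 a ha b hb)⟩⟩
    have hN := h _ hAG
    -- `S` centralises `A`
    have hcent : A ≤ Subgroup.center S := by
      intro a ha
      rw [Subgroup.mem_center_iff]
      intro s
      have hs : (s : G) ∈ Subgroup.normalizer ((A.map S.subtype : Subgroup G) : Set G) := by
        rw [Subgroup.mem_normalizer_iff]
        intro x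
        constructor
        · rintro ⟨y, hy, rfl⟩
          exact ⟨s * y * s⁻¹, hA.prop.1.conj_mem y hy s, rfl⟩
        · rintro ⟨y, hy, hye⟩
          refine ⟨s⁻¹ * y * s⁻¹⁻¹, hA.prop.1.conj_mem y hy s⁻¹, ?_⟩
          change (s : G)⁻¹ * (y : G) * ((s : G)⁻¹)⁻¹ = x
          change (y : G) = (s : G) * x * (s : G)⁻¹ at hye
          rw [hye]; group
      rw [hN] at hs
      exact Subtype.ext (Subgroup.mem_centralizer_iff.mp hs _ ⟨a, ha, rfl⟩).symm
    refine ⟨⟨fun x y => ?_⟩⟩
    -- otherwise enlarge `A`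
    by_contra hxy
    have hne : A ≠ ⊤ := fun e => hxy (hA.prop.2 x (e ▸ Subgroup.mem_top x) y (e ▸ Subgroup.mem_top y))
    haveI : Nontrivial (S ⧸ A) := QuotientGroup.nontrivial_iff.mpr hne
    haveI := (P.2.to_quotient A).center_nontrivial
    obtain ⟨⟨z, hz⟩, hz1⟩ := exists_ne (1 : Subgroup.center (S ⧸ A))
    obtain ⟨w, rfl⟩ := QuotientGroup.mk_surjective z
    set B := A ⊔ Subgroup.zpowers w with hB
    have hwA : w ∉ A := fun hw => hz1 (Subtype.ext ((QuotientGroup.eq_one_iff w).mpr hw))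
    have hBn : B.Normal := by
      refine ⟨fun b hb g => ?_⟩
      obtain ⟨a, ha, c, ⟨k, rfl⟩, rfl⟩ := Subgroup.mem_sup_of_normal_left.mp hb
      have h1 : ⁅g, w ^ k⁆ ∈ A := by
        rw [← QuotientGroup.eq_one_iff]
        show QuotientGroup.mk' A ⁅g, w ^ k⁆ = 1
        rw [map_commutatorElement, commutatorElement_eq_one_iff_mul_comm]
        exact Subgroup.mem_center_iff.mp ((map_zpow (QuotientGroup.mk' A) w k).symm ▸ (Subgroup.zpow_mem _ hz k)) _
      show g * (a * w ^ k) * g⁻¹ ∈ B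
      rw [show g * (a * w ^ k) * g⁻¹ = g * a * g⁻¹ * ⁅g, w ^ k⁆ * w ^ k by simp only [commutatorElement_def]; group]
      exact mul_mem (Subgroup.mem_sup_left (mul_mem (hA.prop.1.conj_mem a ha g) h1)) (Subgroup.mem_sup_right ⟨k, rfl⟩)
    have hBc : ∀ a ∈ B, ∀ b ∈ B, a * b = b * a := by
      intro a ha b hb
      obtain ⟨a₁, ha₁, _, ⟨k, rfl⟩, rfl⟩ := Subgroup.mem_sup_of_normal_left.mp ha
      obtain ⟨b₁, hb₁, _, ⟨l, rfl⟩, rfl⟩ := Subgroup.mem_sup_of_normal_left.mp hb
      have hc : ∀ u ∈ A, ∀ v : S, Commute u v := fun u hu v => (Subgroup.mem_center_iff.mp (hcent hu) v).symm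
      exact (((hc a₁ ha₁ _).mul_right (hc a₁ ha₁ _)).mul_left
        ((hc b₁ hb₁ (w ^ k)).symm.mul_right ((Commute.refl w).zpow_zpow k l))).eq
    exact hwA (hA.2 ⟨hBn, hBc⟩ le_sup_left (Subgroup.mem_sup_right (Subgroup.mem_zpowers w)))
  refine ⟨⟨fun x y => ?_⟩⟩
  rw [← commutatorElement_eq_one_iff_mul_comm, ← orderOf_eq_one_iff]
  by_contra hne
  obtain ⟨p, hp, hpd⟩ := Nat.exists_prime_and_dvd hne
  haveI : Fact p.Prime := ⟨hp⟩
  obtain ⟨P⟩ : Nonempty (Sylow p G) := inferInstance
  haveI := hSyl p hp P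
  have hNC := h _ (hSyl p hp P)
  have hc := MonoidHom.ker_transferSylow_isComplement' P hNC.le
  have hmem : ⁅x, y⁆ ∈ (MonoidHom.transferSylow P hNC.le).ker := by
    rw [MonoidHom.mem_ker, map_commutatorElement, commutatorElement_eq_one_iff_mul_comm]
    exact IsMulCommutative.is_comm.comm _ _
  have h2 := hpd.trans ((Subgroup.orderOf_mk _ hmem) ▸ orderOf_dvd_natCard (⟨⁅x, y⁆, hmem⟩ : (MonoidHom.transferSylow P hNC.le).ker))
  exact MonoidHom.not_dvd_card_ker_transferSylow P hNC.le h2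

end Cfsg.Agent.S0578
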