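import Cfsg.Statements.S0582
import Mathlib
import Cfsg.Agent.Lib.Solvable.Huppert
import Cfsg.Agent.Lib.PSolvable
-- import your own Cfsg.Agent.* helpers here

set_option autoImplicit false
open Pointwise
open Cfsg

namespace Cfsg.Agent.S0582

open scoped Pointwise
universe u

private theorem sylow_data {G : Type u} [Group G] [Finite G] (H : Subgroup G) (hH : Cfsg.IsSupersolvable H)
    (hHall : (Nat.card H).Coprime H.index) {p : ℕ} [Fact p.Prime] (hpd : p ∣ Nat.card H)
    (hmax : ∀ q : ℕ, q.Prime → q ∣ Nat.card H → q ≤ p) :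
    ∃ P : Sylow p G, (P : Subgroup G) ≤ H ∧ H ≤ Subgroup.normalizer ((P : Subgroup G) : Set G) := by
  obtain ⟨P₀⟩ : Nonempty (Sylow p H) := inferInstance
  have hn : (P₀ : Subgroup H).Normal := CfsgLib.Supersolvable.sylow_normal_of_index_prime
    (fun M hM => CfsgLib.Supersolvable.index_prime hH hM) hmax P₀
  have hle : (P₀ : Subgroup H).map H.subtype ≤ H := Subgroup.map_subtype_le _
  refine ⟨Sylow.ofCard ((P₀ : Subgroup H).map H.subtype) ?_, hle, ?_⟩
  · have hp' : ¬ p ∣ H.index := fun h => (Fact.out : p.Prime).ne_one (Nat.eq_one_of_dvd_coprimes hHall hpd h)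
    rw [Subgroup.card_subtype, P₀.card_eq_multiplicity, ← H.card_mul_index, Nat.factorization_mul Nat.card_pos.ne' Subgroup.index_ne_zero_of_finite,
      Finsupp.add_apply, Nat.factorization_eq_zero_of_not_dvd hp', add_zero]
  · refine (Subgroup.normal_subgroupOf_iff_le_normalizer hle).mp ?_
    rw [Subgroup.subgroupOf, Subgroup.comap_map_eq_self_of_injective H.subtype_injective]
    exact hn

private theorem aux {G : Type u} [Group G] [Finite G] (H K : Subgroup G) (hH : Cfsg.IsSupersolvable H)
    (hK : Cfsg.IsSupersolvable K) (hcard : Nat.card H = Nat.card K) (hHall : (Nat.card H).Coprime H.index) :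
    ∃ x : G, MulAut.conj x • H = K := by
  induction hc : Nat.card G using Nat.strong_induction_on generalizing G with
  | h n ih =>
    subst hc
    by_cases h1 : Nat.card H = 1
    · exact ⟨1, by rw [map_one, one_smul, Subgroup.eq_bot_of_card_eq H h1, Subgroup.eq_bot_of_card_eq K (hcard ▸ h1)]⟩
    haveI : Nontrivial H := Finite.one_lt_card_iff_nontrivial.mp (by have := Nat.card_pos (α := H); omega)
    obtain ⟨p, hp, hpd, hmax⟩ := CfsgLib.Supersolvable.exists_largest_prime (G := H)
    haveI : Fact p.Prime := ⟨hp⟩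
    have hKHall : (Nat.card K).Coprime K.index := by
      have : H.index = K.index := Nat.eq_of_mul_eq_mul_left (Nat.card_pos (α := H)) (by rw [H.card_mul_index, hcard, K.card_mul_index])
      rwa [← hcard, ← this]
    obtain ⟨P, hPH, hHN⟩ := sylow_data H hH hHall hpd hmax
    obtain ⟨Q, hQK, hKN⟩ := sylow_data K hK hKHall (hcard ▸ hpd) (hcard ▸ hmax)
    obtain ⟨x, hx⟩ := MulAction.exists_smul_eq G Q P
    have hx' : MulAut.conj x • (Q : Subgroup G) = (P : Subgroup G) := by rw [← hx]; rfl
    set K' := MulAut.conj x • K with hK'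
    have hPK : (P : Subgroup G) ≤ K' := hx' ▸ Subgroup.pointwise_smul_le_pointwise_smul_iff.mpr hQK
    have hK'N : K' ≤ Subgroup.normalizer ((P : Subgroup G) : Set G) := by
      rw [← hx']
      intro z hz
      rw [Subgroup.mem_pointwise_smul_iff_inv_smul_mem, ← map_inv, MulAut.smul_def, MulAut.conj_apply, inv_inv] at hz
      have := Subgroup.mem_normalizer_iff.mp (hKN hz)
      refine Subgroup.mem_normalizer_iff.mpr fun w => ?_
      simp only [Subgroup.mem_pointwise_smul_iff_inv_smul_mem, ← map_inv, MulAut.smul_def, MulAut.conj_apply, inv_inv]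
      refine (this (x⁻¹ * w * x)).trans ?_
      group
    set N := Subgroup.normalizer ((P : Subgroup G) : Set G) with hN
    haveI : ((P : Subgroup G).subgroupOf N).Normal := Subgroup.normal_in_normalizer
    let π := QuotientGroup.mk' ((P : Subgroup G).subgroupOf N)
    have hlt : Nat.card (N ⧸ (P : Subgroup G).subgroupOf N) < Nat.card G := by
      refine lt_of_lt_of_le (CfsgLib.Supersolvable.card_quotient_lt _ fun e => ?_) (Nat.le_of_dvd Nat.card_pos N.card_subgroup_dvd_card)
      exact P.ne_bot_of_dvd_card (hpd.trans H.card_subgroup_dvd_card)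
        (by rwa [Subgroup.subgroupOf_eq_bot, disjoint_iff, inf_eq_left.mpr Subgroup.le_normalizer] at e)
    have hker : ∀ L : Subgroup G, L ≤ N → (P : Subgroup G) ≤ L → ((L.subgroupOf N).map π).comap π = L.subgroupOf N := fun L _ h =>
      Subgroup.comap_map_eq_self (by rw [QuotientGroup.ker_mk']; exact Subgroup.comap_mono h)
    have hcard' : ∀ L : Subgroup G, L ≤ N → (P : Subgroup G) ≤ L → Nat.card L = Nat.card ((L.subgroupOf N).map π) * Nat.card ((P : Subgroup G).subgroupOf N) := fun L hLN h => by
      rw [mul_comm, ← CfsgLib.card_comap_mk, hker L hLN h, Nat.card_congr (Subgroup.subgroupOfEquivOfLe hLN).toEquiv]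
    have hss : ∀ L : Subgroup G, L ≤ N → Cfsg.IsSupersolvable L → Cfsg.IsSupersolvable ((L.subgroupOf N).map π) := fun L hLN hL =>
      CfsgLib.Supersolvable.of_surjective (MonoidHom.subgroupMap_surjective π _)
        (CfsgLib.Supersolvable.of_equiv (Subgroup.subgroupOfEquivOfLe hLN).symm hL)
    have hcK : Nat.card K' = Nat.card K := (Nat.card_congr (Subgroup.equivSMul _ K).toEquiv).symm
    have hssK : Cfsg.IsSupersolvable K' := CfsgLib.Supersolvable.of_equiv (Subgroup.equivSMul _ K) hK
    have hPHH : (P : Subgroup G) ≤ H := hPH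
    have hidx : ((H.subgroupOf N).map π).index ∣ H.index := by
      rw [Subgroup.index_map_eq _ (QuotientGroup.mk'_surjective _) (by rw [QuotientGroup.ker_mk']; exact Subgroup.comap_mono hPH)]
      exact Subgroup.relIndex_dvd_index_of_le hHN
    obtain ⟨z, hz⟩ := ih _ hlt ((H.subgroupOf N).map π) ((K'.subgroupOf N).map π) (hss H hHN hH) (hss K' hK'N hssK)
      (Nat.eq_of_mul_eq_mul_right Nat.card_pos (by rw [← hcard' H hHN hPH, ← hcard' K' hK'N hPK, hcK, hcard]))
      ((hHall.coprime_dvd_right hidx).coprime_dvd_left (Dvd.intro _ (hcard' H hHN hPH).symm)) rfl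
    obtain ⟨y, rfl⟩ := QuotientGroup.mk'_surjective _ z
    have hy : MulAut.conj (y : G) • H = K' := by
      refine Subgroup.eq_of_le_of_card_ge ?_ (by rw [← Nat.card_congr (Subgroup.equivSMul _ H).toEquiv, hcK, hcard])
      intro w hw
      rw [Subgroup.mem_pointwise_smul_iff_inv_smul_mem, ← map_inv, MulAut.smul_def, MulAut.conj_apply, inv_inv] at hw
      set u : N := ⟨(y : G)⁻¹ * w * y, hHN hw⟩ with hu
      have h2 : π (y * u * y⁻¹) ∈ (K'.subgroupOf N).map π := by
        rw [map_mul, map_mul, map_inv, ← hz]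
        exact Subgroup.smul_mem_pointwise_smul _ (MulAut.conj (π y)) _ (Subgroup.mem_map_of_mem π (show u ∈ H.subgroupOf N from hw))
      rw [← Subgroup.mem_comap, hker K' hK'N hPK, Subgroup.mem_subgroupOf] at h2
      simpa [hu, mul_assoc] using h2
    refine ⟨x⁻¹ * y, ?_⟩
    rw [map_mul, mul_smul, hy, hK', map_inv, inv_smul_smul]

/-- Let H and K be supersolvable subgroups of a finite group G of the same order, that order being coprime to their index. Then H and K are conjugate in G. -/
theorem result {G : Type*} [Group G] [Finite G] (H K : Subgroup G) (hH : Cfsg.IsSupersolvable H) (hK : Cfsg.IsSupersolvable K) (hcard : Nat.card H = Nat.card K) (hHall : (Nat.card H).Coprime H.index) : ∃ x : G, MulAut.conj x • H = K := by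
  exact aux H K hH hK hcard hHall

end Cfsg.Agent.S0582
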