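import Cfsg.Statements.S0583
import Cfsg.Agent.Lib.Basic
import Cfsg.Agent.Lib.Elementary
-- import your own Cfsg.Agent.* helpers here

set_option autoImplicit false
open Cfsg

namespace Cfsg.Agent.S0583

open scoped commutatorElement

/-- In a finite group the Fitting subgroup is contained in the centralizer of each minimal normal subgroup. -/
theorem result {G : Type*} [Group G] [Finite G] (M : Subgroup G) [M.Normal] (hM : M ≠ ⊥) (hmin : ∀ K : Subgroup G, K.Normal → K ≤ M → K = ⊥ ∨ K = M) : Cfsg.fittingSubgroup G ≤ Subgroup.centralizer (M : Set G) := by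
  set F := Cfsg.fittingSubgroup G with hF
  haveI hFn : F.Normal := by rw [hF, CfsgLib.fittingSubgroup_eq_iSup_pCore]; infer_instance
  rcases hmin (F ⊓ M) inferInstance inf_le_right with e | e
  · intro f hf
    rw [Subgroup.mem_centralizer_iff]
    intro m hm
    have h1 : ⁅f, m⁆ ∈ F ⊓ M := Subgroup.commutator_le_inf F M (Subgroup.commutator_mem_commutator hf hm)
    rw [e, Subgroup.mem_bot] at h1
    exact (commutatorElement_eq_one_iff_mul_comm.mp h1).symm
  · -- `M` lies in `F`, hence meets its centre
    have hMF : M ≤ F := inf_eq_right.mp e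
    haveI := CfsgLib.isNilpotent_fittingSubgroup (G := G)
    have hMn : (M.subgroupOf F).Normal := inferInstance
    have hne : M.subgroupOf F ≠ ⊥ := fun h0 => hM (by
      rw [← Subgroup.map_subgroupOf_eq_of_le hMF, h0, Subgroup.map_bot])
    have hmeet : M.subgroupOf F ⊓ Subgroup.center F ≠ ⊥ := CfsgLib.inf_center_ne_bot_of_nilpotent hne
    have hle : M ≤ (M.subgroupOf F ⊓ Subgroup.center F).map F.subtype := by
      have hn2 : ((M.subgroupOf F ⊓ Subgroup.center F).map F.subtype).Normal := by
        rw [Subgroup.map_inf _ _ _ F.subtype_injective, Subgroup.map_subgroupOf_eq_of_le hMF]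
        infer_instance
      rcases hmin _ hn2 ((Subgroup.map_mono inf_le_left).trans (Subgroup.map_subgroupOf_eq_of_le hMF).le) with e' | e'
      · exact absurd ((Subgroup.map_eq_bot_iff_of_injective _ F.subtype_injective).mp e') hmeet
      · exact e'.ge
    intro f hf
    rw [Subgroup.mem_centralizer_iff]
    intro m hm
    obtain ⟨z, hz, rfl⟩ := hle hm
    exact (congrArg Subtype.val (Subgroup.mem_center_iff.mp hz.2 ⟨f, hf⟩)).symm

end Cfsg.Agent.S0583
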