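import Cfsg.Statements.S0586
import Cfsg.Agent.Lib.Basic
import Cfsg.Agent.Lib.Solvable.Huppert
-- import your own Cfsg.Agent.* helpers here

set_option autoImplicit false
open Cfsg

namespace Cfsg.Agent.S0586

open scoped commutatorElement

/-- If the Frattini subgroup of a finite group G is trivial, then the Fitting subgroup of G equals the join of all abelian minimal normal subgroups of G. -/
theorem result {G : Type*} [Group G] [Finite G] (hΦ : frattini G = ⊥) : Cfsg.fittingSubgroup G = sSup {N : Subgroup G | N.Normal ∧ N ≠ ⊥ ∧ IsMulCommutative N ∧ ∀ K : Subgroup G, K.Normal → K ≤ N → K = ⊥ ∨ K = N} := by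
  set F := Cfsg.fittingSubgroup G with hF
  haveI hFn : F.Normal := by rw [hF, CfsgLib.fittingSubgroup_eq_iSup_pCore]; infer_instance
  haveI := CfsgLib.isNilpotent_fittingSubgroup (G := G)
  refine le_antisymm ?_ (sSup_le ?_)
  swap
  · rintro N ⟨hN, -, hc, -⟩
    haveI := hN
    exact CfsgLib.le_fittingSubgroup (letI : CommGroup N := { (inferInstance : Group N) with mul_comm := hc.is_comm.comm }; CommGroup.isNilpotent (G := N))
  -- the Fitting subgroup is abelian
  have hcF : ∀ x ∈ F, ∀ y ∈ F, x * y = y * x := by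
    intro x hx y hy
    rw [← commutatorElement_eq_one_iff_mul_comm, ← Subgroup.mem_bot, ← hΦ]
    refine CfsgLib.FrattiniLemmas.map_frattini_le F ⟨⁅(⟨x, hx⟩ : F), (⟨y, hy⟩ : F)⁆, ?_, rfl⟩
    suffices commutator F ≤ frattini F from
      this (Subgroup.commutator_mem_commutator (Subgroup.mem_top _) (Subgroup.mem_top _))
    refine CfsgLib.FrattiniLemmas.le_frattini_of_forall fun M hM => ?_
    haveI : M.Normal := ((Group.isNilpotent_of_finite_tfae (G := F)).out 0 2 rfl rfl).mp inferInstance M hM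
    obtain ⟨x, -, hxM⟩ := SetLike.exists_of_lt hM.lt_top
    have hgen : M ⊔ Subgroup.zpowers x = ⊤ :=
      hM.2 _ (lt_of_le_of_ne le_sup_left fun e => hxM (e ▸ Subgroup.mem_sup_right (Subgroup.mem_zpowers x)))
    rw [commutator_def, Subgroup.commutator_le]
    intro a _ b _
    obtain ⟨m, hm, _, ⟨k, rfl⟩, rfl⟩ := Subgroup.mem_sup_of_normal_left.mp (hgen ▸ Subgroup.mem_top a)
    obtain ⟨n, hn, _, ⟨l, rfl⟩, rfl⟩ := Subgroup.mem_sup_of_normal_left.mp (hgen ▸ Subgroup.mem_top b)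
    rw [← QuotientGroup.eq_one_iff]
    show QuotientGroup.mk' M ⁅m * x ^ k, n * x ^ l⁆ = 1
    have hm' : QuotientGroup.mk' M m = 1 := (QuotientGroup.eq_one_iff m).mpr hm
    have hn' : QuotientGroup.mk' M n = 1 := (QuotientGroup.eq_one_iff n).mpr hn
    rw [map_commutatorElement, commutatorElement_eq_one_iff_mul_comm, map_mul, map_mul, hm', hn', one_mul, one_mul]
    exact (((Commute.refl x).zpow_zpow k l).map _).eq
  haveI : IsMulCommutative F := ⟨⟨fun a b => Subtype.ext (hcF a a.2 b b.2)⟩⟩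
  set S := sSup {N : Subgroup G | N.Normal ∧ N ≠ ⊥ ∧ IsMulCommutative N ∧ ∀ K : Subgroup G, K.Normal → K ≤ N → K = ⊥ ∨ K = N}
  have hSF : S ≤ F := sSup_le fun N ⟨hN, _, hc, _⟩ => by
    haveI := hN
    exact CfsgLib.le_fittingSubgroup (letI : CommGroup N := { (inferInstance : Group N) with mul_comm := hc.is_comm.comm }; CommGroup.isNilpotent (G := N))
  haveI hSn : S.Normal := Subgroup.sSup_normal _ fun N hN => hN.1
  haveI : IsMulCommutative S := ⟨⟨fun a b => Subtype.ext (hcF a (hSF a.2) b (hSF b.2))⟩⟩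
  obtain ⟨H, hH⟩ := CfsgLib.FrattiniLemmas.exists_complement S (by rw [hΦ, inf_bot_eq])
  intro f hf
  obtain ⟨⟨⟨s, hs⟩, ⟨t, ht⟩⟩, rfl⟩ := hH.2 f
  have htF : t ∈ F := by simpa using mul_mem (inv_mem (hSF hs)) hf
  suffices t = 1 by simpa [this] using hs
  by_contra ht1
  -- `F ⊓ H` is normal
  have hn : (F ⊓ H).Normal := by
    refine ⟨fun x hx g => ?_⟩
    obtain ⟨⟨⟨a, ha⟩, ⟨b, hb⟩⟩, rfl⟩ := hH.2 g
    have h1 : b * x * b⁻¹ ∈ F ⊓ H := ⟨hFn.conj_mem x hx.1 b, H.mul_mem (H.mul_mem hb hx.2) (H.inv_mem hb)⟩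
    show a * b * x * (a * b)⁻¹ ∈ _
    rwa [show a * b * x * (a * b)⁻¹ = a * (b * x * b⁻¹) * a⁻¹ by group, hcF a (hSF ha) _ h1.1, mul_inv_cancel_right]
  obtain ⟨K, hKn, hKle, hK0, hKmin⟩ := CfsgLib.Supersolvable.exists_minimal_normal_le (N := F ⊓ H)
    (fun e => ht1 (Subgroup.mem_bot.mp (e ▸ ⟨htF, ht⟩)))
  haveI : IsMulCommutative K :=
    ⟨⟨fun a b => Subtype.ext (hcF a (hKle a.2).1 b (hKle b.2).1)⟩⟩
  have hKS : K ≤ S := le_sSup ⟨hKn, hK0, inferInstance, hKmin⟩
  exact hK0 (disjoint_self.mp (hH.disjoint.mono hKS (hKle.trans inf_le_right)))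

end Cfsg.Agent.S0586
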