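import Cfsg.Statements.S0590

set_option autoImplicit false
open Cfsg

namespace Cfsg.Agent.S0590

/-- Quadratic action on an elementary abelian p-group forces the acting group modulo the kernel of the action to be elementary abelian. -/
theorem result {G : Type*} [Group G] [Finite G] {p : ℕ} [Fact p.Prime] (V H : Subgroup G) (hV : Cfsg.IsElementaryAbelian p V) (hHV : H ≤ Subgroup.normalizer (V : Set G)) (hq : ⁅⁅V, H⁆, H⁆ = ⊥) : ⁅H, H⁆ ≤ Subgroup.centralizer (V : Set G) ∧ ∀ a ∈ H, a ^ p ∈ Subgroup.centralizer (V : Set G) := by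
  have hVH : ∀ v ∈ V, ∀ h ∈ H, h * v * h⁻¹ ∈ V := fun v hv h hh =>
    (Subgroup.mem_normalizer_iff.1 (hHV hh) v).1 hv
  refine ⟨?_, fun a ha => ?_⟩
  · rw [← Subgroup.commutator_eq_bot_iff_le_centralizer]
    exact Subgroup.commutator_commutator_eq_bot_of_rotate (by rwa [Subgroup.commutator_comm H V]) hq
  · rw [Subgroup.mem_centralizer_iff]
    intro v hv
    have hcomV : ∀ u ∈ V, ∀ w ∈ V, Commute u w := fun u hu w hw =>
      haveI := hV.1; Subgroup.mul_comm_of_mem_isMulCommutative V hu hw
    set w := v⁻¹ * (a * v * a⁻¹) with hw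
    have hwV : w ∈ V := mul_mem (inv_mem hv) (hVH v hv a ha)
    have hwc : w ∈ ⁅V, H⁆ := Subgroup.commutator_mem_commutator (inv_mem hv) ha |> fun h => by
      rw [commutatorElement_def] at h
      simpa [hw, mul_assoc] using h
    have haw : a * w = w * a :=
      Subgroup.mem_centralizer_iff.1 (Subgroup.commutator_eq_bot_iff_le_centralizer.1 hq hwc) a ha
    have key : ∀ k : ℕ, a ^ k * v = v * w ^ k * a ^ k := by
      intro k
      induction k with
      | zero => simp
      | succ k ih =>
        calc a ^ (k + 1) * v = a * (a ^ k * v) := by rw [pow_succ', mul_assoc]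
          _ = (a * v) * (w ^ k * a ^ k) := by rw [ih]; simp only [mul_assoc]
          _ = v * w * (a * w ^ k) * a ^ k := by rw [hw]; group
          _ = v * w ^ (k + 1) * a ^ (k + 1) := by
              rw [((show Commute a w from haw).pow_right k).eq, pow_succ' w, pow_succ' a]
              simp only [mul_assoc]
    have := key p
    rw [hV.2 w hwV, mul_one] at this
    exact this.symm

end Cfsg.Agent.S0590
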