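import Cfsg.Statements.S0591
import Cfsg.Agent.Lib.Basic

set_option autoImplicit false
open Cfsg

namespace Cfsg.Agent.S0591

/-- For a quadratically acting element a on an elementary abelian p-group V, the fixed points C_V(a) have order at least the square root of the order of V. -/
theorem result {G : Type*} [Group G] [Finite G] {p : ℕ} [Fact p.Prime] (V : Subgroup G) (hV : Cfsg.IsElementaryAbelian p V) (a : G) (ha : a ∈ Subgroup.normalizer (V : Set G)) (hq : ⁅⁅V, Subgroup.zpowers a⁆, Subgroup.zpowers a⁆ = ⊥) : Nat.card V ≤ Nat.card ↥(V ⊓ Subgroup.centralizer (Subgroup.zpowers a : Set G)) ^ 2 := by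
  have hVc : IsMulCommutative V := hV.1
  have hav : ∀ v ∈ V, a * v * a⁻¹ ∈ V := fun v hv => (Subgroup.mem_normalizer_iff.1 ha v).1 hv
  let f : V →* V := MonoidHom.mk' (fun v => (⟨a * v * a⁻¹, hav v v.2⟩ : V) * v⁻¹) fun u v => by
    have e : (⟨a * ↑(u * v) * a⁻¹, hav _ (u * v).2⟩ : V) =
        ⟨a * u * a⁻¹, hav u u.2⟩ * ⟨a * v * a⁻¹, hav v v.2⟩ := Subtype.ext (by simp [mul_assoc])
    rw [e, mul_inv_rev]
    have hc : ∀ x y : V, x * y = y * x := fun x y => mul_comm' x y
    generalize (⟨a * u * a⁻¹, hav u u.2⟩ : V) = s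
    generalize (⟨a * v * a⁻¹, hav v v.2⟩ : V) = r
    calc s * r * (v⁻¹ * u⁻¹) = s * ((r * v⁻¹) * u⁻¹) := by group
      _ = s * (u⁻¹ * (r * v⁻¹)) := by rw [hc (r * v⁻¹) u⁻¹]
      _ = s * u⁻¹ * (r * v⁻¹) := by group
  set C := V ⊓ Subgroup.centralizer (Subgroup.zpowers a : Set G)
  have hmem : ∀ x : G, x ∈ V → a * x = x * a → x ∈ C := fun x hx h => ⟨hx, fun y hy => by
    obtain ⟨i, rfl⟩ := hy
    exact (show Commute a x from h).zpow_left i⟩
  have hker : f.ker.map V.subtype ≤ C := by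
    rintro _ ⟨v, hv, rfl⟩
    have := congrArg Subtype.val (MonoidHom.mem_ker.1 hv)
    simp only [f, MonoidHom.mk'_apply, Subgroup.coe_mul, Subgroup.coe_inv, Subgroup.coe_one] at this
    exact hmem _ v.2 (mul_inv_eq_iff_eq_mul.1 (mul_inv_eq_one.1 this))
  have hran : f.range.map V.subtype ≤ C := by
    rintro _ ⟨_, ⟨v, rfl⟩, rfl⟩
    refine hmem _ (f v).2 ?_
    have hc : (a * v * a⁻¹ * (v : G)⁻¹) ∈ ⁅V, Subgroup.zpowers a⁆ := by
      rw [Subgroup.commutator_comm]
      exact Subgroup.commutator_mem_commutator (Subgroup.mem_zpowers a) v.2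
    exact Subgroup.mem_centralizer_iff.1 (Subgroup.commutator_eq_bot_iff_le_centralizer.1 hq hc) a
      (Subgroup.mem_zpowers a)
  have h1 := f.ker.card_mul_index
  rw [Subgroup.index_ker, ← Subgroup.card_map_of_injective V.subtype_injective (K := f.ker),
    ← Subgroup.card_map_of_injective V.subtype_injective (K := f.range)] at h1
  rw [← h1, pow_two]
  exact Nat.mul_le_mul (Subgroup.card_le_of_le hker) (Subgroup.card_le_of_le hran)

end Cfsg.Agent.S0591
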