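import Cfsg.Statements.S0592
import Cfsg.Agent.Lib.QuadraticPair.SL2Image

set_option autoImplicit false
open Cfsg

namespace Cfsg.Agent.S0592

/-- Two quadratically acting generators of a linear group that is not a p-group, with the p'-part of the order of their product dividing q - 1, give a homomorphism onto a subgroup of SL(2, q) that is not a p-group. -/
theorem result {K : Type*} [Field K] [Fintype K] {p : ℕ} [Fact p.Prime] [CharP K p] {W : Type*} [AddCommGroup W] [Module K W] [FiniteDimensional K W] [Finite W] [Nontrivial W] (H : Subgroup (W ≃ₗ[K] W)) (a b : W ≃ₗ[K] W) (hH : H = Subgroup.closure {a, b}) (ha : ∀ w : W, a (a w - w) = a w - w) (hb : ∀ w : W, b (b w - w) = b w - w) (hnp : ¬ IsPGroup p H) (hk : ∃ e k : ℕ, orderOf (a * b) = p ^ e * k ∧ k ∣ Fintype.card K - 1) : ∃ φ : H →* Matrix.SpecialLinearGroup (Fin 2) K, ¬ IsPGroup p φ.range := by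
  by_contra hc
  simp only [not_exists, not_not] at hc
  obtain ⟨e, k, he, hkq⟩ := hk
  have haH : a ∈ H := hH ▸ Subgroup.subset_closure (Set.mem_insert _ _)
  have hbH : b ∈ H := hH ▸ Subgroup.subset_closure (Set.mem_insert_of_mem _ rfl)
  have hgen : Subgroup.closure {(⟨a, haH⟩ : H), ⟨b, hbH⟩} = ⊤ := by
    apply Subgroup.map_injective (Subgroup.subtype_injective H)
    rw [MonoidHom.map_closure, ← MonoidHom.range_eq_map, Subgroup.range_subtype, Set.image_pair]
    exact hH.symm
  have hab : ((⟨a, haH⟩ : H) * ⟨b, hbH⟩) ^ (p ^ e * k) = 1 :=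
    Subtype.ext (he ▸ pow_orderOf_eq_one (a * b))
  let ρ : Representation K H W :=
    { toFun := fun g => (g.1 : W ≃ₗ[K] W).toLinearMap
      map_one' := rfl
      map_mul' := fun _ _ => rfl }
  refine hnp fun g => ?_
  obtain ⟨i, hi⟩ := CfsgLib.QuadraticPair.range_isPGroup (p := p) (W := W) hgen hab hkq hc _ ρ
    (LinearMap.ext fun w => by
      show a (a w - w) - (a w - w) = 0
      rw [ha, sub_self])
    (LinearMap.ext fun w => by
      show b (b w - w) - (b w - w) = 0
      rw [hb, sub_self]) rfl g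
  exact ⟨i, Subtype.ext (LinearEquiv.toLinearMap_injective hi)⟩

end Cfsg.Agent.S0592
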