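import Cfsg.Statements.S0594
import Cfsg.Agent.Lib.Quadratic.Consequences

set_option autoImplicit false
open Cfsg
open scoped commutatorElement

namespace Cfsg.Agent.S0594

/-- For odd p, two quadratic generators of a faithful group that is not a p-group, one of which acts nontrivially on a normal subgroup of order prime to p, force p = 3 and a section isomorphic to SL(2,3). -/
theorem result {G : Type*} [Group G] [Finite G] {p : ℕ} [Fact p.Prime] (hp : p ≠ 2) (V H : Subgroup G) (hV : Cfsg.IsElementaryAbelian p V) (hHV : H ≤ Subgroup.normalizer (V : Set G)) (hf : H ⊓ Subgroup.centralizer (V : Set G) = ⊥) (a b : G) (hab : H = Subgroup.closure {a, b}) (ha : ⁅⁅V, Subgroup.zpowers a⁆, Subgroup.zpowers a⁆ = ⊥) (hb : ⁅⁅V, Subgroup.zpowers b⁆, Subgroup.zpowers b⁆ = ⊥) (hnp : ¬ IsPGroup p H) (Q : Subgroup G) (hQH : Q ≤ H) (hQn : H ≤ Subgroup.normalizer (Q : Set G)) (hQ : (Nat.card Q).Coprime p) (hQa : ⁅Q, Subgroup.zpowers a⁆ ≠ ⊥) : p = 3 ∧ ∃ (K L : Subgroup G) (hL : (L.subgroupOf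 K).Normal), K ≤ H ∧ Nonempty ((K ⧸ L.subgroupOf K) ≃* Matrix.SpecialLinearGroup (Fin 2) (ZMod 3)) := by
  classical
  have hP := (Fact.out : p.Prime)
  have haH : a ∈ H := hab ▸ Subgroup.subset_closure (by simp)
  have hap : a ^ p = 1 := by
    have hmem : a ^ p ∈ H ⊓ Subgroup.centralizer (V : Set G) := by
      refine ⟨H.pow_mem haH p, fun v hv => ?_⟩
      have hd : a * v * a⁻¹ * v⁻¹ ∈ V :=
        V.mul_mem ((Subgroup.mem_normalizer_iff.1 (hHV haH) v).1 hv) (V.inv_mem hv)
      have h1 := CfsgLib.AbelianOffender.conj_pow_eq (g := a) (v := v) (d := a * v * a⁻¹ * v⁻¹) (by group)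
        (CfsgLib.Quadratic.quad_pointwise ha v hv) p
      rw [hV.2 _ hd, one_mul, mul_inv_eq_iff_eq_mul] at h1
      exact h1.symm
    rwa [hf, Subgroup.mem_bot] at hmem
  set H0 := Q ⊔ Subgroup.zpowers a with hH0
  have hH0H : H0 ≤ H := sup_le hQH (Subgroup.zpowers_le.2 haH)
  have ha0 : a ∈ H0 := Subgroup.mem_sup_right (Subgroup.mem_zpowers a)
  set Q' := Q.subgroupOf H0 with hQ'
  haveI : Q'.Normal := Subgroup.normal_subgroupOf_iff_le_normalizer le_sup_left |>.2 (hH0H.trans hQn)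
  have hQcard : Nat.card Q' = Nat.card Q := Nat.card_congr (Subgroup.subgroupOfEquivOfLe le_sup_left).toEquiv
  have hidx : Q'.index ∣ p := by
    have htop : (Subgroup.zpowers ((⟨a, ha0⟩ : H0) : H0 ⧸ Q')) = ⊤ := by
      refine eq_top_iff.2 fun y _ => ?_
      obtain ⟨⟨y, hy⟩, rfl⟩ := QuotientGroup.mk_surjective y
      have hsup : Q' ⊔ Subgroup.zpowers (⟨a, ha0⟩ : H0) = ⊤ := by
        apply Subgroup.map_injective H0.subtype_injective
        rw [Subgroup.map_sup, Subgroup.subgroupOf_map_subtype, inf_eq_left.2 le_sup_left,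
          MonoidHom.map_zpowers, ← MonoidHom.range_eq_map, Subgroup.range_subtype]
        rfl
      have hy' : (⟨y, hy⟩ : H0) ∈ Q' ⊔ Subgroup.zpowers (⟨a, ha0⟩ : H0) := by rw [hsup]; trivial
      have h2 := Subgroup.mem_map_of_mem (QuotientGroup.mk' Q') hy'
      rw [Subgroup.map_sup, QuotientGroup.map_mk'_self, bot_sup_eq, MonoidHom.map_zpowers] at h2
      exact h2
    rw [Subgroup.index, ← Subgroup.card_top (G := H0 ⧸ Q'), ← htop, Nat.card_zpowers]
    exact orderOf_dvd_of_pow_eq_one ((QuotientGroup.eq_one_iff _).2 (by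
      show ((⟨a, ha0⟩ : H0) ^ p) ∈ Q'
      rw [show (⟨a, ha0⟩ : H0) ^ p = 1 from Subtype.ext (by simpa using hap)]
      exact one_mem _))
  have hsep : Cfsg.IsPSolvable p H0 := by
    refine ⟨2, ![⊥, Q', ⊤], rfl, rfl, ?_, ?_, ?_⟩
    · refine Fin.monotone_iff_le_succ.2 fun i => ?_
      fin_cases i <;> simp
    · intro i
      fin_cases i
      · exact (inferInstance : (⊥ : Subgroup H0).Normal)
      · exact (inferInstance : Q'.Normal)
      · exact (inferInstance : (⊤ : Subgroup H0).Normal)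
    · intro i
      fin_cases i
      · right
        show ((⊥ : Subgroup H0).relIndex Q').Coprime p
        rwa [Subgroup.relIndex_bot_left, hQcard]
      · left
        show ∃ m, Q'.relIndex ⊤ = p ^ m
        rw [Subgroup.relIndex_top_right]
        rcases (Nat.dvd_prime hP).1 hidx with h | h
        · exact ⟨0, by simp [h]⟩
        · exact ⟨1, by simp [h]⟩
  have hout : a ∉ (Cfsg.pCore p H0).map H0.subtype := by
    rintro ⟨a', ha', e⟩
    apply hQa
    have hbot : Q' ⊓ Cfsg.pCore p H0 = ⊥ := Subgroup.inf_eq_bot_of_coprime (by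
      obtain ⟨k, hk⟩ := IsPGroup.iff_card.1 (CfsgLib.isPGroup_pCore p (G := H0))
      rw [hQcard, hk]; exact hQ.pow_right k)
    rw [Subgroup.commutator_eq_bot_iff_le_centralizer]
    intro q hq
    rw [Subgroup.mem_centralizer_iff_commutator_eq_one]
    have hq' : (⟨q, Subgroup.mem_sup_left hq⟩ : H0) ∈ Q' := hq
    have hcomm : Commute (⟨q, Subgroup.mem_sup_left hq⟩ : H0) a' :=
      Subgroup.commute_of_normal_of_disjoint _ _ inferInstance inferInstance (disjoint_iff.2 hbot) _ _ hq' ha'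
    have hc : Commute q a := by
      have := hcomm.map H0.subtype
      rwa [show H0.subtype a' = a from e] at this
    intro y hy
    obtain ⟨n, rfl⟩ := hy
    exact commutatorElement_eq_one_iff_commute.2 (hc.symm.zpow_left n)
  have hf0 : H0 ⊓ Subgroup.centralizer (V : Set G) = ⊥ := le_bot_iff.1 (hf ▸ inf_le_inf_right _ hH0H)
  obtain ⟨K, hK, f, hf'⟩ := CfsgLib.Quadratic.exists_sl2_of_faithful hp
    (CfsgLib.Quadratic.isPGroup_of_isElementaryAbelian hV) (hH0H.trans hHV) hf0 ha0 ha hout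
  obtain rfl := CfsgLib.Quadratic.eq_three_of_isPSolvable hp hsep hK f hf'
  obtain ⟨L, hL, hiso⟩ := CfsgLib.Quadratic.exists_section_of_surjective K f hf'
  exact ⟨rfl, K, L, hL, hK.trans hH0H, hiso⟩

end Cfsg.Agent.S0594
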