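import Cfsg.Statements.S0597
import Cfsg.Agent.Lib.Subnormal
import Cfsg.Agent.Lib.Components
import Cfsg.Agent.Lib.AbelianOffender

set_option autoImplicit false
open Cfsg
open scoped commutatorElement

namespace Cfsg.Agent.S0597

/-- If two subnormal subgroups of a faithful group on an elementary abelian p-group satisfy [V, E₁, E₂] = 1, then their commutator lies in the largest normal p-subgroup. -/
theorem result {G : Type*} [Group G] [Finite G] {p : ℕ} [Fact p.Prime] (V H : Subgroup G) (hV : Cfsg.IsElementaryAbelian p V) (hHV : H ≤ Subgroup.normalizer (V : Set G)) (hf : H ⊓ Subgroup.centralizer (V : Set G) = ⊥) (E₁ E₂ : Subgroup G) (h₁ : E₁ ≤ H) (h₂ : E₂ ≤ H) (hs₁ : (E₁.subgroupOf H).IsSubnormal) (hs₂ : (E₂.subgroupOf H).IsSubnormal) (hc : ⁅⁅V, E₁⁆, E₂⁆ = ⊥) : ⁅E₁, E₂⁆ ≤ (Cfsg.pCore p H).map H.subtype := by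
  classical
  set W := ⁅V, E₁⁆ with hW
  have hVn : ∀ g ∈ H, ∀ v ∈ V, g * v * g⁻¹ ∈ V := fun g hg v hv =>
    (Subgroup.mem_normalizer_iff.1 (hHV hg) v).1 hv
  have hWV : W ≤ V := Subgroup.commutator_le.2 fun v hv e he => by
    rw [commutatorElement_def, mul_assoc v, mul_assoc v]
    exact V.mul_mem hv (hVn e (h₁ he) _ (V.inv_mem hv))
  have h1W : ∀ e ∈ E₁, ∀ w ∈ W, e * w * e⁻¹ ∈ W := fun e he w hw =>
    (Subgroup.mem_normalizer_iff.1 ((Subgroup.normalizer_commutator_ge_right (H₁ := V) (H₂ := E₁)) he) w).1 hw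
  have h1d : ∀ e ∈ E₁, ∀ v ∈ V, e * v * e⁻¹ * v⁻¹ ∈ W := by
    intro e he v hv
    have h := W.inv_mem (Subgroup.commutator_mem_commutator hv he)
    rwa [commutatorElement_inv, commutatorElement_def] at h
  have h2W : ∀ e ∈ E₂, ∀ w ∈ W, e * w * e⁻¹ = w := by
    intro e he w hw
    have h := Subgroup.commutator_mem_commutator hw he
    rw [hc, Subgroup.mem_bot, commutatorElement_eq_one_iff_mul_comm] at h
    rw [← h, mul_inv_cancel_right]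
  let St : Subgroup G :=
    { carrier := {x | (∀ w ∈ W, x * w * x⁻¹ = w) ∧ ∀ v ∈ V, x * v * x⁻¹ * v⁻¹ ∈ W}
      one_mem' := ⟨fun w _ => by group, fun v _ => by simp⟩
      mul_mem' := by
        rintro x y ⟨hx, hx'⟩ ⟨hy, hy'⟩
        refine ⟨fun w hw => ?_, fun v hv => ?_⟩
        · calc x * y * w * (x * y)⁻¹ = x * (y * w * y⁻¹) * x⁻¹ := by group
            _ = w := by rw [hy w hw, hx w hw]
        · rw [show x * y * v * (x * y)⁻¹ * v⁻¹ = x * (y * v * y⁻¹ * v⁻¹) * x⁻¹ * (x * v * x⁻¹ * v⁻¹) by group,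
            hx _ (hy' v hv)]
          exact W.mul_mem (hy' v hv) (hx' v hv)
      inv_mem' := by
        rintro x ⟨hx, hx'⟩
        have hi : ∀ w ∈ W, x⁻¹ * w * x⁻¹⁻¹ = w := fun w hw => by
          conv_lhs => rw [← hx w hw]
          group
        refine ⟨hi, fun v hv => ?_⟩
        have h := hx' v hv
        rw [show x⁻¹ * v * x⁻¹⁻¹ * v⁻¹ =
          (x⁻¹ * (x * v * x⁻¹ * v⁻¹) * x⁻¹⁻¹)⁻¹ by group, hi _ h]
        exact W.inv_mem h }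
  have hX : ⁅E₁, E₂⁆ ≤ St := Subgroup.commutator_le.2 fun a ha b hb => by
    have hbH := h₂ hb
    refine ⟨fun w hw => ?_, fun v hv => ?_⟩
    · have h3 := h1W a⁻¹ (E₁.inv_mem ha) w hw
      calc ⁅a, b⁆ * w * ⁅a, b⁆⁻¹
          = a * (b * (a⁻¹ * (b⁻¹ * w * b⁻¹⁻¹) * a⁻¹⁻¹) * b⁻¹) * a⁻¹ := by
            rw [commutatorElement_def]; group
        _ = w := by rw [h2W _ (E₂.inv_mem hb) w hw, h2W b hb _ h3]; group
    · have hv' : b⁻¹ * v * b⁻¹⁻¹ ∈ V := hVn _ (H.inv_mem hbH) v hv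
      have h3 := h1d a⁻¹ (E₁.inv_mem ha) _ hv'
      have h4 : b * a⁻¹ * b⁻¹ * v * (b * a⁻¹ * b⁻¹)⁻¹ * v⁻¹ ∈ W := by
        rw [show b * a⁻¹ * b⁻¹ * v * (b * a⁻¹ * b⁻¹)⁻¹ * v⁻¹ =
          b * (a⁻¹ * (b⁻¹ * v * b⁻¹⁻¹) * a⁻¹⁻¹ * (b⁻¹ * v * b⁻¹⁻¹)⁻¹) * b⁻¹ by group, h2W b hb _ h3]
        exact h3
      rw [show ⁅a, b⁆ * v * ⁅a, b⁆⁻¹ * v⁻¹ =
        a * (b * a⁻¹ * b⁻¹ * v * (b * a⁻¹ * b⁻¹)⁻¹ * v⁻¹) * a⁻¹ * (a * v * a⁻¹ * v⁻¹) by
          rw [commutatorElement_def]; group]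
      exact W.mul_mem (h1W a ha _ h4) (h1d a ha v hv)
  have hXH : ⁅E₁, E₂⁆ ≤ H := Subgroup.commutator_le.2 fun a ha b hb => by
    rw [commutatorElement_def]
    exact H.mul_mem (H.mul_mem (H.mul_mem (h₁ ha) (h₂ hb)) (H.inv_mem (h₁ ha))) (H.inv_mem (h₂ hb))
  have hXp : IsPGroup p ((⁅E₁, E₂⁆).subgroupOf H) := by
    rintro ⟨⟨x, hxH⟩, hx⟩
    refine ⟨1, Subtype.ext (Subtype.ext ?_)⟩
    have hmem : x ^ p ∈ H ⊓ Subgroup.centralizer (V : Set G) := by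
      refine ⟨H.pow_mem hxH p, fun v hv => ?_⟩
      obtain ⟨hxW, hxV⟩ : (∀ w ∈ W, x * w * x⁻¹ = w) ∧ ∀ v ∈ V, x * v * x⁻¹ * v⁻¹ ∈ W := hX hx
      have h1 := CfsgLib.AbelianOffender.conj_pow_eq (g := x) (v := v) (d := x * v * x⁻¹ * v⁻¹) (by group)
        (hxW _ (hxV v hv)) p
      rw [hV.2 _ (hWV (hxV v hv)), one_mul, mul_inv_eq_iff_eq_mul] at h1
      exact h1.symm
    rw [hf, Subgroup.mem_bot] at hmem
    simpa using hmem
  set J := E₁ ⊔ E₂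
  have hJH : J ≤ H := sup_le h₁ h₂
  have hJ : (J.subgroupOf H).IsSubnormal := by
    rw [Subgroup.subgroupOf_sup h₁ h₂]
    exact CfsgLib.isSubnormal_sup hs₁ hs₂
  have hXJ : ⁅E₁, E₂⁆ ≤ J := Subgroup.commutator_le.2 fun a ha b hb => by
    rw [commutatorElement_def]
    exact J.mul_mem (J.mul_mem (J.mul_mem (Subgroup.mem_sup_left ha) (Subgroup.mem_sup_right hb))
      (J.inv_mem (Subgroup.mem_sup_left ha))) (J.inv_mem (Subgroup.mem_sup_right hb))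
  have hJX : J ≤ Subgroup.normalizer ((⁅E₁, E₂⁆ : Subgroup G) : Set G) :=
    sup_le (Subgroup.normalizer_commutator_ge_left _ _) (Subgroup.normalizer_commutator_ge_right _ _)
  have hsub : ((⁅E₁, E₂⁆).subgroupOf H).IsSubnormal := by
    refine Subgroup.IsSubnormal.step _ (J.subgroupOf H) (fun x hx => hXJ hx) hJ ?_
    refine ⟨fun x hx g => ?_⟩
    exact (Subgroup.mem_normalizer_iff.1 (hJX g.2) _).1 hx
  intro x hx
  exact ⟨⟨x, hXH hx⟩, CfsgLib.isSubnormal_isPGroup_le_pCore hsub hXp hx, rfl⟩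

end Cfsg.Agent.S0597
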