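import Cfsg.Statements.S0599
import Cfsg.Agent.Lib.PLocal.Timmesfeld

set_option autoImplicit false
open Cfsg
open scoped commutatorElement

namespace Cfsg.Agent.S0599

/-- The Timmesfeld replacement Theorem: replacing a best offender A by C_A([U, A]) gives a best offender with fixed points [U, A]C_V(A), still nontrivial on V if A was. -/
theorem result {G : Type*} [Group G] [Finite G] {p : ℕ} [Fact p.Prime] (V A : Subgroup G) (hV : Cfsg.IsElementaryAbelian p V) (hAV : A ≤ Subgroup.normalizer (V : Set G)) (hA : Cfsg.IsBestOffenderOn p V A) (U : Subgroup G) (hU : U ≤ V) : Cfsg.IsBestOffenderOn p V (A ⊓ Subgroup.centralizer ((⁅U, A⁆ : Subgroup G) : Set G)) ∧ V ⊓ Subgroup.centralizer ((A ⊓ Subgroup.centralizer ((⁅U, A⁆ : Subgroup G) : Set G) : Subgroup G) : Set G) = ⁅U, A⁆ ⊔ (V ⊓ Subgroup.centralizer (A : Set G)) ∧ (⁅V, A⁆ ≠ ⊥ → ⁅V, A ⊓ Subgroup.centralizer ((⁅U, A⁆ : Subgroup G) : Set G)⁆ ≠ ⊥) := by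
  obtain ⟨hno, hab, hpow⟩ := hA
  have hVc : ∀ v ∈ V, ∀ w ∈ V, v * w = w * v :=
    fun v hv w hw => haveI := hV.1; Subgroup.mul_comm_of_mem_isMulCommutative V hv hw
  obtain ⟨h1, h2⟩ := CfsgLib.PLocal.timmesfeld hVc hAV hab hno hU
  set B := A ⊓ Subgroup.centralizer ((⁅U, A⁆ : Subgroup G) : Set G) with hBdef
  refine ⟨⟨fun C hC => ?_, ?_, fun a ha => hpow a ha.1⟩, h1, fun hne hbot => hne ?_⟩
  · exact (hno C (hC.trans inf_le_left)).trans h2.ge
  · exact (Subgroup.commutator_mono inf_le_left inf_le_left).trans hab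
  · refine CfsgLib.PLocal.commutator_eq_bot_of_sup (p := p) (fun v => ⟨1, Subtype.ext (by simpa using hV.2 v v.2)⟩)
      hVc hAV (fun a ha => ⟨1, by simpa using hpow a ha⟩) ?_
    intro v hv
    have hvB : v ∈ V ⊓ Subgroup.centralizer (B : Set G) :=
      ⟨hv, fun b hb => (commutatorElement_eq_one_iff_mul_comm.1 (by
        have := Subgroup.commutator_mem_commutator hv hb
        rwa [hbot, Subgroup.mem_bot] at this)).symm⟩
    rw [h1] at hvB
    exact sup_le_sup_right (Subgroup.commutator_mono hU le_rfl) _ hvB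

end Cfsg.Agent.S0599
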