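import Cfsg.Statements.S0600
import Cfsg.Agent.Lib.Basic

set_option autoImplicit false
open Cfsg

namespace Cfsg.Agent.S0600

/-- A normal elementary abelian p-subgroup generated by the fixed points of the Sylow p-subgroups admits no nontrivial normal p-subgroup of G modulo its centralizer. -/
theorem result {G : Type*} [Group G] [Finite G] {p : ℕ} [Fact p.Prime] (V : Subgroup G) [V.Normal] (hV : Cfsg.IsElementaryAbelian p V) (hgen : V = ⨆ S : Sylow p G, V ⊓ Subgroup.centralizer ((S : Subgroup G) : Set G)) : Cfsg.pCore p (G ⧸ Subgroup.centralizer (V : Set G)) = ⊥ := by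
  classical
  set C := Subgroup.centralizer (V : Set G) with hC
  have hCn : C.Normal := hC ▸ inferInstance
  rw [eq_bot_iff]
  intro x hx
  induction x using QuotientGroup.induction_on with
  | H d =>
    rw [Subgroup.mem_bot, QuotientGroup.eq_one_iff]
    suffices V ≤ Subgroup.centralizer ({d} : Set G) from
      fun v hv => Subgroup.mem_centralizer_singleton_iff.1 (this hv)
    rw [hgen]
    refine iSup_le fun S => ?_
    have hsub := CfsgLib.pCore_le_sylow (S.mapSurjective (QuotientGroup.mk'_surjective C))
    have hmem : (d : G ⧸ C) ∈ (S : Subgroup G).map (QuotientGroup.mk' C) := hsub hx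
    obtain ⟨s, hs, hsd⟩ := hmem
    obtain ⟨c, hcC, rfl⟩ := (QuotientGroup.mk'_eq_mk' C).1 hsd
    rintro v ⟨hvV, hvS⟩
    rw [Subgroup.mem_centralizer_singleton_iff]
    calc v * (s * c) = s * (v * c) := by rw [← mul_assoc, ← hvS s hs, mul_assoc]
      _ = s * (c * v) := by rw [hcC v hvV]
      _ = s * c * v := (mul_assoc _ _ _).symm

end Cfsg.Agent.S0600
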