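import Cfsg.Statements.S0601
import Cfsg.Agent.Lib.Basic

set_option autoImplicit false
open Cfsg

namespace Cfsg.Agent.S0601

/-- When O_p(G) contains its centralizer, the normal closure of Ω₁(Z(S)) is elementary abelian and G has no nontrivial normal p-subgroup modulo its centralizer. -/
theorem result {G : Type*} [Group G] [Finite G] {p : ℕ} [Fact p.Prime] (hc : Subgroup.centralizer (Cfsg.pCore p G : Set G) ≤ Cfsg.pCore p G) : (⨆ S : Sylow p G, Cfsg.omegaOne p (((S : Subgroup G)) ⊓ Subgroup.centralizer ((S : Subgroup G) : Set G))).Normal ∧ Cfsg.IsElementaryAbelian p (⨆ S : Sylow p G, Cfsg.omegaOne p (((S : Subgroup G)) ⊓ Subgroup.centralizer ((S : Subgroup G) : Set G))) ∧ ∀ D : Subgroup G, D.Normal → Subgroup.centralizer ((⨆ S : Sylow p G, Cfsg.omegaOne p (((S : Subgroup G)) ⊓ Subgroup.centralizer ((S : Subgroup G) : Set G)) : Subgroup G) : Set G) ≤ D → (∃ k : ℕ, (Subgroup.centralizer ((⨆ S : Sylow p G, Cfsg.omegaOne p (((S : Subgroup G)) ⊓ Subgroup.centralizer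 ((S : Subgroup G) : Set G)) : Subgroup G) : Set G)).relIndex D = p ^ k) → D = Subgroup.centralizer ((⨆ S : Sylow p G, Cfsg.omegaOne p (((S : Subgroup G)) ⊓ Subgroup.centralizer ((S : Subgroup G) : Set G)) : Subgroup G) : Set G) := by
  classical
  set Z : Sylow p G → Subgroup G :=
    fun S => (S : Subgroup G) ⊓ Subgroup.centralizer ((S : Subgroup G) : Set G) with hZ
  set V := ⨆ S : Sylow p G, Cfsg.omegaOne p (Z S) with hV
  have hgenset : V = Subgroup.closure (⋃ S : Sylow p G, {x : G | x ∈ Z S ∧ x ^ p = 1}) := by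
    rw [Subgroup.closure_iUnion]; rfl
  have hconjset : ∀ g : G, ∀ x ∈ (⋃ S : Sylow p G, {x : G | x ∈ Z S ∧ x ^ p = 1}),
      g * x * g⁻¹ ∈ (⋃ S : Sylow p G, {x : G | x ∈ Z S ∧ x ^ p = 1}) := by
    intro g x hx
    obtain ⟨S, ⟨hxS, hxc⟩, hxp⟩ := Set.mem_iUnion.1 hx
    refine Set.mem_iUnion.2 ⟨g • S, ⟨Subgroup.mem_map_of_mem _ hxS, fun y hy => ?_⟩, ?_⟩
    · obtain ⟨s, hs, rfl⟩ := hy
      show MulAut.conj g s * (MulAut.conj g x) = MulAut.conj g x * MulAut.conj g s
      rw [← map_mul, ← map_mul, hxc s hs]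
    · rw [conj_pow, hxp, mul_one, mul_inv_cancel]
  have hVn : V.Normal := ⟨fun x hx g => by
    rw [hgenset] at hx ⊢
    have := Subgroup.mem_map_of_mem (MulAut.conj g).toMonoidHom hx
    rw [MonoidHom.map_closure] at this
    refine Subgroup.closure_mono ?_ this
    rintro _ ⟨y, hy, rfl⟩
    exact hconjset g y hy⟩
  -- the generators are central in the p-core
  have hinO : ∀ S : Sylow p G, Z S ≤ Cfsg.pCore p G ⊓ Subgroup.centralizer (Cfsg.pCore p G : Set G) := by
    intro S x hx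
    have h1 : x ∈ Subgroup.centralizer (Cfsg.pCore p G : Set G) :=
      fun y hy => hx.2 y (CfsgLib.pCore_le_sylow S hy)
    exact ⟨hc h1, h1⟩
  have hVO : V ≤ Cfsg.pCore p G ⊓ Subgroup.centralizer (Cfsg.pCore p G : Set G) :=
    iSup_le fun S => (Subgroup.closure_le _).2 fun x hx => hinO S hx.1
  have hVab : IsMulCommutative V :=
    ⟨⟨fun a b => Subtype.ext (((hVO b.2).2) a (hVO a.2).1)⟩⟩
  have hVp : ∀ a ∈ V, a ^ p = 1 := by
    intro a ha
    rw [hgenset] at ha
    induction ha using Subgroup.closure_induction with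
    | mem y hy => obtain ⟨S, -, hyp⟩ := Set.mem_iUnion.1 hy; exact hyp
    | one => exact one_pow _
    | mul y z hy hz h1 h2 =>
      rw [← hgenset] at hy hz
      rw [(show Commute y z from (hVO hz).2 y (hVO hy).1).mul_pow, h1, h2, one_mul]
    | inv y _ h1 => rw [inv_pow, h1, inv_one]
  refine ⟨hVn, ⟨hVab, hVp⟩, ?_⟩
  intro D hD hCD ⟨k, hk⟩
  set C := Subgroup.centralizer (V : Set G) with hC
  have hCn : C.Normal := hC ▸ inferInstance
  refine le_antisymm ?_ hCD
  intro d hd
  suffices V ≤ Subgroup.centralizer ({d} : Set G) from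
    fun v hv => Subgroup.mem_centralizer_singleton_iff.1 (this hv)
  refine iSup_le fun S => ?_
  have hDn : (D.map (QuotientGroup.mk' C)).Normal := hD.map _ (QuotientGroup.mk'_surjective C)
  have hDp : IsPGroup p (D.map (QuotientGroup.mk' C)) := by
    refine IsPGroup.of_card (n := k) ?_
    have h1 := Subgroup.relIndex_ker (K := D) (QuotientGroup.mk' C)
    rw [QuotientGroup.ker_mk'] at h1
    rw [← hk, h1]
  have hmem : (d : G ⧸ C) ∈ (S : Subgroup G).map (QuotientGroup.mk' C) :=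
    CfsgLib.pCore_le_sylow (S.mapSurjective (QuotientGroup.mk'_surjective C))
      (CfsgLib.le_pCore hDp (Subgroup.mem_map_of_mem _ hd))
  obtain ⟨s, hs, hsd⟩ := hmem
  obtain ⟨c, hcC, rfl⟩ := (QuotientGroup.mk'_eq_mk' C).1 hsd
  intro v hv
  rw [Subgroup.mem_centralizer_singleton_iff]
  have hvV : v ∈ V := le_iSup (fun S : Sylow p G => Cfsg.omegaOne p (Z S)) S hv
  have hvs : s * v = v * s := by
    have : Cfsg.omegaOne p (Z S) ≤ Subgroup.centralizer ((S : Subgroup G) : Set G) :=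
      (Subgroup.closure_le _).2 fun x hx => hx.1.2
    exact this hv s hs
  calc v * (s * c) = s * (v * c) := by rw [← mul_assoc, ← hvs, mul_assoc]
    _ = s * (c * v) := by rw [hcC v hvV]
    _ = s * c * v := (mul_assoc _ _ _).symm

end Cfsg.Agent.S0601
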