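import Cfsg.Statements.S0602
import Cfsg.Agent.Lib.ZJ.Center

set_option autoImplicit false
open Cfsg

namespace Cfsg.Agent.S0602

/-- The Thompson subgroup is characteristic, and nontrivial as soon as p divides the group order. -/
theorem result {G : Type*} [Group G] [Finite G] {p : ℕ} [Fact p.Prime] : (Cfsg.thompsonSubgroup p G).Characteristic ∧ (p ∣ Nat.card G → Cfsg.thompsonSubgroup p G ≠ ⊥) := by
  refine ⟨Subgroup.characteristic_iff_map_eq.2 fun φ => ?_, fun hd hb => ?_⟩
  · rw [Cfsg.thompsonSubgroup, ← CfsgLib.ZJ.goodMax_top_prime, ← CfsgLib.ZJ.thompsonJ]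
    conv_lhs => rw [← CfsgLib.ZJ.thompsonJ_map p (f := φ.toMonoidHom) φ.injective]
    rw [Subgroup.map_top_of_surjective _ φ.surjective]
  · obtain ⟨x, hx⟩ := exists_prime_orderOf_dvd_card' p hd
    obtain ⟨A, hA⟩ := CfsgLib.ZJ.goodMax_nonempty p (⊤ : Subgroup G)
    have hA0 : A = ⊥ := by
      rw [CfsgLib.ZJ.goodMax_top_prime] at hA
      exact le_bot_iff.1 (hb ▸ le_sSup hA)
    have hgood : CfsgLib.ZJ.IsGood p (Subgroup.zpowers x) := by
      constructor
      · rintro _ ⟨i, rfl⟩ _ ⟨j, rfl⟩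
        exact (Commute.refl x).zpow_zpow i j
      · rintro _ ⟨i, rfl⟩
        show (x ^ i) ^ p = 1
        rw [← zpow_natCast, ← zpow_mul, mul_comm, zpow_mul, zpow_natCast, ← hx, pow_orderOf_eq_one, one_zpow]
    have h2 := hA.2.2 _ le_top hgood
    rw [hA0, Subgroup.card_bot, Nat.card_zpowers, hx] at h2
    exact absurd h2 (not_le.mpr (Fact.out : p.Prime).one_lt)

end Cfsg.Agent.S0602
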