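import Cfsg.Statements.S0603
import Cfsg.Agent.Lib.ZJ.Center

set_option autoImplicit false
open Cfsg

namespace Cfsg.Agent.S0603

/-- The Thompson subgroup of any subgroup containing J(G) is J(G) itself. -/
theorem result {G : Type*} [Group G] [Finite G] {p : ℕ} [Fact p.Prime] (U : Subgroup G) (hU : Cfsg.thompsonSubgroup p G ≤ U) : Cfsg.thompsonSubgroupOf p U = Cfsg.thompsonSubgroup p G := by
  rw [← CfsgLib.ZJ.thompsonJ_prime, Cfsg.thompsonSubgroup, ← CfsgLib.ZJ.goodMax_top_prime,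
    CfsgLib.ZJ.thompsonJ]
  congr 1
  have hle : ∀ A ∈ CfsgLib.ZJ.goodMax p (⊤ : Subgroup G), A ≤ U := fun A hA => by
    rw [CfsgLib.ZJ.goodMax_top_prime] at hA
    exact (le_sSup hA).trans hU
  obtain ⟨A₀, hA₀⟩ := CfsgLib.ZJ.goodMax_nonempty p (⊤ : Subgroup G)
  ext A
  constructor
  · rintro ⟨hAU, hg, hmax⟩
    exact ⟨le_top, hg, fun B _ hB => le_trans (hA₀.2.2 B le_top hB) (hmax _ (hle _ hA₀) hA₀.2.1)⟩
  · intro hA
    exact ⟨hle A hA, hA.2.1, fun B _ hB => hA.2.2 B le_top hB⟩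

end Cfsg.Agent.S0603
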