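import Cfsg.Statements.S0613
import Cfsg.Agent.Lib.PLocal.Offender.Structure

set_option autoImplicit false
open Cfsg
open scoped commutatorElement

namespace Cfsg.Agent.S0613

/-- A minimal nontrivially-acting best offender and a conjugate of it under a non-centralizing element of the p'-core generate SL(2, p) acting naturally on a plane, and p is 2 or 3. -/
theorem result {G : Type*} [Group G] [Finite G] {p : ℕ} [Fact p.Prime] (V H : Subgroup G) (hV : Cfsg.IsElementaryAbelian p V) (hHV : H ≤ Subgroup.normalizer (V : Set G)) (hf : H ⊓ Subgroup.centralizer (V : Set G) = ⊥) (hS1 : Subgroup.centralizer (Cfsg.pPrimeCore p ↥H : Set ↥H) ≤ Cfsg.pPrimeCore p ↥H) (hS3 : H = ⨆ A : {A : Subgroup G // A ≤ H ∧ Cfsg.IsBestOffenderOn p V A}, (A : Subgroup G)) (hH1 : H ≠ ⊥) (A : Subgroup G) (hAH : A ≤ H) (hA : Cfsg.IsBestOffenderOn p V A) (hAV : ⁅V, A⁆ ≠ ⊥) (hmin : ∀ B : Subgroup G, B ≤ A → Cfsg.IsBestOffenderOn p V B → ⁅V, B⁆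 ≠ ⊥ → B = A) (x : G) (hx : x ∈ ((Cfsg.pPrimeCore p ↥H).map H.subtype)) (hxA : x ∉ Subgroup.centralizer (A : Set G)) : (p = 2 ∨ p = 3) ∧ Nat.card ↥(⁅V, A ⊔ A.map (MulAut.conj x).toMonoidHom⁆) = p ^ 2 ∧ (A ⊔ A.map (MulAut.conj x).toMonoidHom) ⊓ Subgroup.centralizer ((⁅V, A ⊔ A.map (MulAut.conj x).toMonoidHom⁆ : Subgroup G) : Set G) = ⊥ ∧ Nonempty (↥(A ⊔ A.map (MulAut.conj x).toMonoidHom) ≃* Matrix.SpecialLinearGroup (Fin 2) (ZMod p)) := by
  have S := CfsgLib.Offender.setup_of_hyp hV hHV hf hS1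
  obtain ⟨a, rfl, hta⟩ := CfsgLib.Offender.small_iff_tv (CfsgLib.Offender.small_of_minimal S hAH hA hAV hmin)
  rw [CfsgLib.Offender.centralizer_zpowers, Subgroup.mem_centralizer_singleton_iff] at hxA
  have P := CfsgLib.Offender.pair_of_conj S hta hx hxA
  have he : Subgroup.zpowers a ⊔ (Subgroup.zpowers a).map (MulAut.conj x).toMonoidHom =
      CfsgLib.Offender.Pair.E a (x * a * x⁻¹) := by
    rw [MonoidHom.map_zpowers, Subgroup.zpowers_eq_closure, Subgroup.zpowers_eq_closure, ← Subgroup.closure_union]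
    rfl
  rw [he, P.commutator_E S]
  refine ⟨P.p_le_three S, P.card_W S, ?_, ⟨(P.equiv S).choose⟩⟩
  rw [eq_bot_iff]
  intro y hy
  exact Subgroup.mem_bot.2 (P.faithful_W S hy.1 fun w hw => (hy.2 w hw).symm)

end Cfsg.Agent.S0613
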