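import Cfsg.Statements.S0614
import Cfsg.Agent.Lib.PLocal.Offender.Structure

set_option autoImplicit false
open Cfsg
open scoped commutatorElement

namespace Cfsg.Agent.S0614

/-- The commutator of the p'-core with a minimal nontrivially-acting best offender is a 3-group (when p = 2) or a non-abelian 2-group (when p = 3). -/
theorem result {G : Type*} [Group G] [Finite G] {p : ℕ} [Fact p.Prime] (V H : Subgroup G) (hV : Cfsg.IsElementaryAbelian p V) (hHV : H ≤ Subgroup.normalizer (V : Set G)) (hf : H ⊓ Subgroup.centralizer (V : Set G) = ⊥) (hS1 : Subgroup.centralizer (Cfsg.pPrimeCore p ↥H : Set ↥H) ≤ Cfsg.pPrimeCore p ↥H) (hS3 : H = ⨆ A : {A : Subgroup G // A ≤ H ∧ Cfsg.IsBestOffenderOn p V A}, (A : Subgroup G)) (hH1 : H ≠ ⊥) (A : Subgroup G) (hAH : A ≤ H) (hA : Cfsg.IsBestOffenderOn p V A) (hAV : ⁅V, A⁆ ≠ ⊥) (hmin : ∀ B : Subgroup G, B ≤ A → Cfsg.IsBestOffenderOn p V B → ⁅V, B⁆ ≠ ⊥ → B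 = A) : (p = 2 ∧ IsPGroup 3 ↥(⁅((Cfsg.pPrimeCore p ↥H).map H.subtype), A⁆)) ∨ (p = 3 ∧ IsPGroup 2 ↥(⁅((Cfsg.pPrimeCore p ↥H).map H.subtype), A⁆) ∧ ¬ IsMulCommutative ↥(⁅((Cfsg.pPrimeCore p ↥H).map H.subtype), A⁆)) := by
  have S := CfsgLib.Offender.setup_of_hyp hV hHV hf hS1
  obtain ⟨a, b, rfl, c, -⟩ := CfsgLib.Offender.core_of_minimal S hAH hA hAV hmin
  have h := CfsgLib.Offender.Core.T_pgroup S c
  rcases c.pair.p_le_three S with h2 | h3
  · exact Or.inl ⟨h2, by simpa [CfsgLib.Offender.dualPrime, h2] using h⟩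
  · refine Or.inr ⟨h3, by simpa [CfsgLib.Offender.dualPrime, h3] using h, fun hc => ?_⟩
    obtain ⟨t, ht, s, hs, hne⟩ := (c.pair.T_three S h3).2
    exact hne (congrArg Subtype.val (hc.is_comm.comm ⟨t, c.comm.ge ht⟩ ⟨s, c.comm.ge hs⟩))

end Cfsg.Agent.S0614
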