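import Cfsg.Statements.S0617
import Cfsg.Agent.Lib.PLocal.Offender.Structure

set_option autoImplicit false
open Cfsg
open scoped commutatorElement

namespace Cfsg.Agent.S0617

/-- Structure Theorem for failure of factorization: a faithful group generated by best offenders, with self-centralizing p'-core, is a direct product of copies of SL(2, p) (p = 2 or 3), each acting on its own plane in V, which is the direct product of these planes and C_V(H). -/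
theorem result {G : Type*} [Group G] [Finite G] {p : ℕ} [Fact p.Prime] (V H : Subgroup G) (hV : Cfsg.IsElementaryAbelian p V) (hHV : H ≤ Subgroup.normalizer (V : Set G)) (hf : H ⊓ Subgroup.centralizer (V : Set G) = ⊥) (hS1 : Subgroup.centralizer (Cfsg.pPrimeCore p ↥H : Set ↥H) ≤ Cfsg.pPrimeCore p ↥H) (hS3 : H = ⨆ A : {A : Subgroup G // A ≤ H ∧ Cfsg.IsBestOffenderOn p V A}, (A : Subgroup G)) (hH1 : H ≠ ⊥) : (p = 2 ∨ p = 3) ∧ (∀ E : {E : Subgroup G // ∃ A : Subgroup G, A ≤ H ∧ Cfsg.IsBestOffenderOn p V A ∧ ⁅V, A⁆ ≠ ⊥ ∧ (∀ B : Subgroup G, B ≤ A → Cfsg.IsBestOffenderOn p V B → ⁅V, B⁆ ≠ ⊥ → B = A) ∧ E = ⁅((Cfsg.pPrimeCore p ↥H).map H.subtype), A⁆ ⊔ A}, H ≤ Subgroup.normalizer ((E : Subgroup G) : Set G) ∧ Nonempty (↥(E : Subgroup G) ≃* Matrix.SpecialLinearGroup (Fin 2) (ZMod p)) ∧ Nat.card ↥(⁅V, (E : Subgroup G)⁆) = p ^ 2) ∧ iSupIndep (fun E : {E : Subgroup G // ∃ A : Subgroup G, A ≤ H ∧ Cfsg.IsBestOffenderOn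 p V A ∧ ⁅V, A⁆ ≠ ⊥ ∧ (∀ B : Subgroup G, B ≤ A → Cfsg.IsBestOffenderOn p V B → ⁅V, B⁆ ≠ ⊥ → B = A) ∧ E = ⁅((Cfsg.pPrimeCore p ↥H).map H.subtype), A⁆ ⊔ A} => (E : Subgroup G)) ∧ (⨆ E : {E : Subgroup G // ∃ A : Subgroup G, A ≤ H ∧ Cfsg.IsBestOffenderOn p V A ∧ ⁅V, A⁆ ≠ ⊥ ∧ (∀ B : Subgroup G, B ≤ A → Cfsg.IsBestOffenderOn p V B → ⁅V, B⁆ ≠ ⊥ → B = A) ∧ E = ⁅((Cfsg.pPrimeCore p ↥H).map H.subtype), A⁆ ⊔ A}, (E : Subgroup G)) = H ∧ iSupIndep (fun o : Option {E : Subgroup G // ∃ A : Subgroup G, A ≤ H ∧ Cfsg.IsBestOffenderOn p V A ∧ ⁅V, A⁆ ≠ ⊥ ∧ (∀ B : Subgroup G, B ≤ A → Cfsg.IsBestOffenderOn p V B → ⁅V, B⁆ ≠ ⊥ → B = A) ∧ E = ⁅((Cfsg.pPrimeCore p ↥H).map H.subtype), A⁆ ⊔ A} => o.elim (V ⊓ Subgroup.centralizer (H : Set G)) (fun E => ⁅V, (E : Subgroup G)⁆)) ∧ (V ⊓ Subgroup.centralizer (H : Set G)) ⊔ (⨆ E : {E : Subgroup G // ∃ A : Subgroup G, A ≤ H ∧ Cfsg.IsBestOffenderOn p V A ∧ ⁅V, A⁆ ≠ ⊥ ∧ (∀ B : Subgroup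 G, B ≤ A → Cfsg.IsBestOffenderOn p V B → ⁅V, B⁆ ≠ ⊥ → B = A) ∧ E = ⁅((Cfsg.pPrimeCore p ↥H).map H.subtype), A⁆ ⊔ A}, ⁅V, (E : Subgroup G)⁆) = V := by
  classical
  have S := CfsgLib.Offender.setup_of_hyp hV hHV hf hS1
  set ι := {E : Subgroup G // ∃ A : Subgroup G, A ≤ H ∧ Cfsg.IsBestOffenderOn p V A ∧ ⁅V, A⁆ ≠ ⊥ ∧
    (∀ B : Subgroup G, B ≤ A → Cfsg.IsBestOffenderOn p V B → ⁅V, B⁆ ≠ ⊥ → B = A) ∧
    E = ⁅((Cfsg.pPrimeCore p ↥H).map H.subtype), A⁆ ⊔ A}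
  have hcore : ∀ i : ι, ∃ a b, CfsgLib.Offender.Core p V H ((Cfsg.pPrimeCore p ↥H).map H.subtype) a b ∧
      (i : Subgroup G) = CfsgLib.Offender.Pair.E a b := by
    rintro ⟨E, A, h1, h2, h3, h4, rfl⟩
    obtain ⟨a, b, -, c, hE⟩ := CfsgLib.Offender.core_of_minimal S h1 h2 h3 h4
    exact ⟨a, b, c, hE⟩
  choose fa fb hc hE using hcore
  have hmem : ∀ y, CfsgLib.Offender.Tv p V H y → y ∈ ⨆ i : ι, (i : Subgroup G) := by
    intro y hy
    obtain ⟨h1, h2, h3⟩ := hy.small.minimal S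
    exact le_iSup (fun i : ι => (i : Subgroup G)) ⟨_, _, hy.small.le, h1, h2, h3, rfl⟩
      (Subgroup.mem_sup_right (Subgroup.mem_zpowers y))
  have hsup : (⨆ i : ι, (i : Subgroup G)) = H :=
    le_antisymm (iSup_le fun i => (hE i).le.trans (hc i).pair.E_le) (CfsgLib.Offender.gen_tv S hS3 hmem)
  have horth : ∀ i j : ι, i ≠ j →
      CfsgLib.Offender.Pair.W V (fa j) (fb j) ≤ CfsgLib.Offender.Pair.C V (fa i) (fb i) ∧
      CfsgLib.Offender.Pair.W V (fa i) (fb i) ≤ CfsgLib.Offender.Pair.C V (fa j) (fb j) := fun i j hij =>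
    ((hc i).eq_or_orth S (hc j)).resolve_left fun e => hij (Subtype.ext ((hE i).trans (e.symm.trans (hE j).symm)))
  have hW : ∀ i : ι, ⁅V, (i : Subgroup G)⁆ = CfsgLib.Offender.Pair.W V (fa i) (fb i) := fun i => by
    rw [hE i]; exact (hc i).pair.commutator_E S
  have hfix : V ⊓ Subgroup.centralizer (H : Set G) = V ⊓ ⨅ i : ι, CfsgLib.Offender.Pair.C V (fa i) (fb i) := by
    refine le_antisymm (le_inf inf_le_left (le_iInf fun i => ?_)) (le_inf inf_le_left fun v hv => ?_)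
    · rw [← (hc i).pair.centralizer_E]
      exact inf_le_inf_left _ (Subgroup.centralizer_le (hc i).pair.E_le)
    · have hle : H ≤ Subgroup.centralizer {v} := hsup ▸ iSup_le fun i => (hE i) ▸ fun e he =>
        Subgroup.mem_centralizer_singleton_iff.2 ((hc i).pair.E_fix_C he (Subgroup.mem_iInf.1 hv.2 i)).eq
      exact fun h hh => Subgroup.mem_centralizer_singleton_iff.1 (hle hh)
  haveI : Fintype ι := Fintype.ofFinite ι
  have hsplit := CfsgLib.Offender.splitting S (fun i : ι => CfsgLib.Offender.Pair.W V (fa i) (fb i))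
    (fun i => CfsgLib.Offender.Pair.C V (fa i) (fb i)) (fun i => (hc i).pair.W_le S) (fun i => (hc i).pair.inf_WC S)
    (fun i v hv => (hc i).pair.exists_decomp_mem S hv) (fun i j hij => (horth i j hij).2) Finset.univ
  simp only [Finset.mem_univ, iSup_pos, forall_const] at hsplit
  refine ⟨?_, fun i => ⟨?_, ?_, ?_⟩, ?_, hsup, ?_, ?_⟩
  · obtain ⟨a, ha⟩ := CfsgLib.Offender.exists_tv S hS3 hH1
    obtain ⟨b, c⟩ := CfsgLib.Offender.exists_core S ha
    exact c.pair.p_le_three S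
  · rw [hE i]; exact CfsgLib.Offender.Core.H_normalizes S hS3 (hc i)
  · rw [hE i]; exact ⟨((hc i).pair.equiv S).choose⟩
  · rw [hW i]; exact (hc i).pair.card_W S
  · intro i
    rw [disjoint_iff, eq_bot_iff]
    refine le_trans (inf_le_inf (hE i).le (iSup₂_le fun j hj => ?_)) ((hc i).inf_F S).le
    exact (hE j).le.trans (CfsgLib.Offender.Core.orth_le_F S (hc i) (hc j) (horth i j hj.symm).2)
  · intro o
    rw [disjoint_iff, eq_bot_iff]
    rintro x ⟨hx1, hx2⟩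
    cases o with
    | none =>
      simp only [Option.elim] at hx1
      have hle : (⨆ (j : Option ι) (_ : j ≠ none), j.elim (V ⊓ Subgroup.centralizer (H : Set G)) (fun E => ⁅V, (E : Subgroup G)⁆)) ≤
          ⨆ i : ι, CfsgLib.Offender.Pair.W V (fa i) (fb i) := iSup₂_le fun j hj => by
        cases j with
        | none => exact absurd rfl hj
        | some i => exact (hW i).le.trans (le_iSup (fun i => CfsgLib.Offender.Pair.W V (fa i) (fb i)) i)
      rw [hfix] at hx1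
      exact Subgroup.mem_bot.2 (hsplit.1 x (hle hx2) fun i => Subgroup.mem_iInf.1 hx1.2 i)
    | some i =>
      simp only [Option.elim] at hx1
      have hle : (⨆ (j : Option ι) (_ : j ≠ some i), j.elim (V ⊓ Subgroup.centralizer (H : Set G)) (fun E => ⁅V, (E : Subgroup G)⁆)) ≤
          CfsgLib.Offender.Pair.C V (fa i) (fb i) := iSup₂_le fun j hj => by
        cases j with
        | none => exact hfix.le.trans (inf_le_right.trans (iInf_le _ i))
        | some j => exact (hW j).le.trans (horth j i (fun e => hj (congrArg some e))).2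
      exact ((hc i).pair.inf_WC S).le ⟨(hW i).le hx1, hle hx2⟩
  · refine le_antisymm (sup_le inf_le_left (iSup_le fun i => (hW i).le.trans ((hc i).pair.W_le S))) fun v hv => ?_
    obtain ⟨u, hu, huC⟩ := hsplit.2 v hv
    have huV : u ∈ V := (iSup_le fun i => (hc i).pair.W_le S) hu
    have h1 : u⁻¹ * v ∈ V ⊓ Subgroup.centralizer (H : Set G) := hfix ▸
      Subgroup.mem_inf.2 ⟨mul_mem (inv_mem huV) hv, Subgroup.mem_iInf.2 huC⟩
    have hu' : u ∈ ⨆ i : ι, ⁅V, (i : Subgroup G)⁆ := (iSup_mono fun i => (hW i).ge) hu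
    have e : v = (u⁻¹ * v) * u := by
      rw [(CfsgLib.Offender.comm_V S (mul_mem (inv_mem huV) hv) huV).eq, mul_inv_cancel_left]
    exact e.symm ▸ Subgroup.mul_mem_sup h1 hu'

end Cfsg.Agent.S0617
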