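import Cfsg.Statements.S0618
import Cfsg.Agent.Lib.PLocal.Offender.Application

set_option autoImplicit false
open Cfsg

namespace Cfsg.Agent.S0618

/-- A p-separable group with trivial p'-core in which the Thompson factorization fails has p = 2 or 3, and J(G) induces on the normal closure of Ω₁(Z(S)) a group containing a normal SL(2, p). -/
theorem result {G : Type*} [Group G] [Finite G] {p : ℕ} [Fact p.Prime] (hsep : Cfsg.IsPSolvable p G) (hO : Cfsg.pPrimeCore p G = ⊥) (hnf : ¬ Cfsg.IsThompsonFactorizable p G) : (p = 2 ∨ p = 3) ∧ ∃ E : Subgroup G, Subgroup.centralizer ((⨆ S : Sylow p G, Cfsg.omegaOne p ((S : Subgroup G) ⊓ Subgroup.centralizer ((S : Subgroup G) : Set G))) : Set G) ≤ E ∧ E ≤ Cfsg.thompsonSubgroup p G ⊔ Subgroup.centralizer ((⨆ S : Sylow p G, Cfsg.omegaOne p ((S : Subgroup G) ⊓ Subgroup.centralizer ((S : Subgroup G) : Set G))) : Set G) ∧ Cfsg.thompsonSubgroup p G ⊔ Subgroup.centralizer ((⨆ S : Sylow p G, Cfsg.omegaOne p ((S : Subgroup G) ⊓ Subgroup.centralizer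 ((S : Subgroup G) : Set G))) : Set G) ≤ Subgroup.normalizer (E : Set G) ∧ ∃ hn : ((Subgroup.centralizer ((⨆ S : Sylow p G, Cfsg.omegaOne p ((S : Subgroup G) ⊓ Subgroup.centralizer ((S : Subgroup G) : Set G))) : Set G)).subgroupOf E).Normal, Nonempty ((↥E ⧸ (Subgroup.centralizer ((⨆ S : Sylow p G, Cfsg.omegaOne p ((S : Subgroup G) ⊓ Subgroup.centralizer ((S : Subgroup G) : Set G))) : Set G)).subgroupOf E) ≃* Matrix.SpecialLinearGroup (Fin 2) (ZMod p)) := by
  haveI := CfsgLib.Offender.omegaJoin_normal (G := G) (p := p)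
  obtain ⟨hV, hp⟩ := CfsgLib.Offender.omegaJoin_props hsep hO
  have e : Subgroup.centralizer (⨆ S : Sylow p G, ((Cfsg.omegaOne p ((S : Subgroup G) ⊓ Subgroup.centralizer ((S : Subgroup G) : Set G)) : Subgroup G) : Set G)) =
      Subgroup.centralizer ((CfsgLib.Offender.omegaJoin p G : Subgroup G) : Set G) := by
    refine le_antisymm (fun x hx v hv => ?_) (Subgroup.centralizer_le (iSup_le fun S y hy => le_iSup (fun S : Sylow p G => CfsgLib.PLocal.omegaZ p (S : Subgroup G)) S hy))
    suffices h : CfsgLib.Offender.omegaJoin p G ≤ Subgroup.centralizer {x} from Subgroup.mem_centralizer_singleton_iff.1 (h hv)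
    exact iSup_le fun S y hy => Subgroup.mem_centralizer_singleton_iff.2
      (hx y ((le_iSup (fun S : Sylow p G => ((Cfsg.omegaOne p ((S : Subgroup G) ⊓ Subgroup.centralizer ((S : Subgroup G) : Set G)) : Subgroup G) : Set G)) S) hy))
  rw [e]
  refine CfsgLib.Offender.exists_normal_sl2 hV hsep hp fun h => hnf ?_
  exact (CfsgLib.PLocal.isThompsonFactorizable_iff_centralizes hO).2 h

end Cfsg.Agent.S0618
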