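import Cfsg.Statements.S0625
import Cfsg.Agent.Lib.Quadratic.Consequences

set_option autoImplicit false
open Cfsg
open scoped commutatorElement

namespace Cfsg.Agent.S0625

/-- A p-separable group with p at least 5 is p-stable in the action sense. -/
theorem result {G : Type*} [Group G] [Finite G] {p : ℕ} [Fact p.Prime] (hp : 5 ≤ p) (hsep : Cfsg.IsPSolvable p G) : Cfsg.IsActionPStable p G := by
  refine CfsgLib.Quadratic.isActionPStable_of_no_sl2 (by omega) fun K f hf => ?_
  have := CfsgLib.Quadratic.eq_three_of_isPSolvable_sl2 (p := p) (by omega)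
    (CfsgLib.PSolvableClosure.of_surjective f hf
      (haveI : Fintype G := Fintype.ofFinite G
       CfsgLib.Blocks.isPSolvable_subgroup Fact.out hsep K))
  omega

end Cfsg.Agent.S0625
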