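import Cfsg.Statements.S0627
import Cfsg.Agent.Lib.PLocal.StableNormal
import Cfsg.Agent.Lib.Blocks.HallHigman
import Cfsg.Agent.S0625

set_option autoImplicit false
open Cfsg

namespace Cfsg.Agent.S0627

/-- In a p-separable group with p at least 5, the normalizer of W(S) supplements the largest normal subgroup of order prime to p. -/
theorem result {G : Type*} [Group G] [Finite G] {p : ℕ} [Fact p.Prime] (hp : 5 ≤ p) (hsep : Cfsg.IsPSolvable p G) (S : Sylow p G) : Cfsg.pPrimeCore p G ⊔ Subgroup.normalizer (((Cfsg.stableNormalClosure p ↥(S : Subgroup G)).map (S : Subgroup G).subtype) : Set G) = ⊤ := by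
  classical
  set N := Cfsg.pPrimeCore p G with hN
  set q := QuotientGroup.mk' N with hq
  have hX : Cfsg.IsPSolvable p (G ⧸ N) := Cfsg.Agent.S3744.isPSolvable_quotient hsep N
  have hhh := CfsgLib.Blocks.hall_higman hX (CfsgLib.pPrimeCore_quotient_eq_bot p)
  have hst := Cfsg.Agent.S0625.result hp hX
  let T := S.mapSurjective (QuotientGroup.mk'_surjective N)
  have hTn := CfsgLib.PLocal.stableNormalClosure_normal hst hhh T
  have hT : (T : Subgroup (G ⧸ N)) = (S : Subgroup G).map q := rfl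
  have hdis : ∀ x ∈ (S : Subgroup G), x ∈ N → x = 1 := by
    intro x hxS hxN
    obtain ⟨k, hk⟩ := IsPGroup.iff_card.1 S.2
    have h1 := Subgroup.orderOf_dvd_natCard _ hxS
    have h2 := Subgroup.orderOf_dvd_natCard _ hxN
    rw [hk] at h1
    exact orderOf_eq_one_iff.1 (Nat.eq_one_of_dvd_coprimes
      ((CfsgLib.card_pPrimeCore_coprime p).symm.pow_left k) h1 h2)
  have hinjS : ∀ a ∈ (S : Subgroup G), ∀ b ∈ (S : Subgroup G), q a = q b → a = b := by
    intro a ha b hb hab
    have : a⁻¹ * b ∈ N := QuotientGroup.eq.1 hab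
    exact inv_mul_eq_one.1 (hdis _ ((S : Subgroup G).mul_mem ((S : Subgroup G).inv_mem ha) hb) this)
  let η : ↥(S : Subgroup G) ≃* ↥(T : Subgroup (G ⧸ N)) :=
    MulEquiv.ofBijective (MonoidHom.mk' (fun s : ↥(S : Subgroup G) => (⟨q s, hT.ge ⟨s, s.2, rfl⟩⟩ : ↥(T : Subgroup (G ⧸ N))))
        fun a b => Subtype.ext (map_mul q (a : G) b))
      ⟨fun a b h => Subtype.ext (hinjS a a.2 b b.2 (congrArg Subtype.val h)), fun t => by
        obtain ⟨g, hg, e⟩ := hT.le t.2
        exact ⟨⟨g, hg⟩, Subtype.ext e⟩⟩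
  set W := (Cfsg.stableNormalClosure p ↥(S : Subgroup G)).map (S : Subgroup G).subtype with hW
  have hWT : W.map q = (Cfsg.stableNormalClosure p ↥(T : Subgroup (G ⧸ N))).map (T : Subgroup (G ⧸ N)).subtype := by
    rw [← CfsgLib.PLocal.stableNormalClosure_map η, hW, Subgroup.map_map, Subgroup.map_map]
    rfl
  haveI : (W.map q).Normal := hWT ▸ hTn
  set M := (W.map q).comap q with hM
  haveI : M.Normal := Subgroup.normal_comap q
  have hinf : (S : Subgroup G) ⊓ M = W := by
    refine le_antisymm ?_ (le_inf (Subgroup.map_subtype_le _) (Subgroup.le_comap_map q W))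
    rintro x ⟨hxS, w, hw, e⟩
    rw [← hinjS w (Subgroup.map_subtype_le _ hw) x hxS e]
    exact hw
  obtain ⟨P, hP⟩ := CfsgLib.PLocal.exists_sylow_inf S M
  have hfr := Sylow.normalizer_sup_eq_top P
  rw [hP, hinf] at hfr
  rw [eq_top_iff, ← hfr]
  refine sup_le le_sup_right ?_
  intro x hx
  obtain ⟨w, hw, e⟩ := hx
  have hn : w⁻¹ * x ∈ N := QuotientGroup.eq.1 e
  have h1 : w ∈ Cfsg.pPrimeCore p G ⊔ Subgroup.normalizer (W : Set G) :=
    Subgroup.mem_sup_right (Subgroup.le_normalizer hw)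
  have h2 := Subgroup.mul_mem _ h1 (Subgroup.mem_sup_left hn)
  rwa [mul_inv_cancel_left] at h2

end Cfsg.Agent.S0627
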