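import Cfsg.Statements.S0628
import Mathlib
import Cfsg.Agent.S0626
import Cfsg.Agent.Lib.StrongFusion.MaximalSylow
import Cfsg.Agent.Lib.PLocal.StableNormal
import Cfsg.Agent.Lib.SylowExtra

set_option autoImplicit false
set_option linter.unusedVariables false
open Cfsg
open scoped commutatorElement

namespace Cfsg.Agent.S0628

open CfsgLib CfsgLib.StrongFusion CfsgLib.PLocal
open scoped Pointwise

universe u

theorem abelian_sylow_two {p : ℕ} [Fact p.Prime] (hp : p ≠ 2) {Y : Type u} [Group Y] [Finite Y]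
    (hnpc : Cfsg.HasNormalPComplement p (Y ⧸ Cfsg.pCore p Y)) (T : Sylow p Y) (hT : IsCoatom (T : Subgroup Y))
    (R : Sylow 2 Y) : IsMulCommutative R := by
  haveI : Fact (Nat.Prime 2) := ⟨Nat.prime_two⟩
  set π := QuotientGroup.mk' (Cfsg.pCore p Y) with hπ
  set T' := T.mapSurjective (f := π) (QuotientGroup.mk'_surjective _) with hT'
  have hT'c : IsCoatom (T' : Subgroup (Y ⧸ Cfsg.pCore p Y)) := by
    have hQT : Cfsg.pCore p Y ≤ (T : Subgroup Y) := pCore_le_sylow T
    have e : (T' : Subgroup (Y ⧸ Cfsg.pCore p Y)).comap π = (T : Subgroup Y) := by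
      rw [hT', Sylow.coe_mapSurjective, Subgroup.comap_map_eq, hπ, QuotientGroup.ker_mk', sup_eq_left.mpr hQT]
    refine ⟨fun h => hT.1 (by rw [← e, h, Subgroup.comap_top]), fun X hX => ?_⟩
    have h1 : (T : Subgroup Y) < X.comap π := by
      rw [← e]
      exact (Subgroup.comap_lt_comap_of_surjective (QuotientGroup.mk'_surjective _)).mpr hX
    rw [← Subgroup.map_comap_eq_self_of_surjective (QuotientGroup.mk'_surjective _) X, hT.2 _ h1,
      Subgroup.map_top_of_surjective _ (QuotientGroup.mk'_surjective _)]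
  obtain ⟨P, K, hK, hKP⟩ := hnpc
  haveI := hK
  obtain ⟨Q⟩ : Nonempty (Sylow 2 ↥K) := inferInstance
  have hKi : K.index = Nat.card ↥(P : Subgroup (Y ⧸ Cfsg.pCore p Y)) := hKP.symm.index_eq_card
  have hKp : ¬ p ∣ Nat.card ↥K := by
    rw [← hKP.index_eq_card]
    exact P.not_dvd_index
  set Q0 := (Q : Subgroup ↥K).map K.subtype with hQ0
  have hfr : Subgroup.normalizer (Q0 : Set (Y ⧸ Cfsg.pCore p Y)) ⊔ K = ⊤ := Sylow.normalizer_sup_eq_top Q
  have hidx : ¬ p ∣ (Subgroup.normalizer (Q0 : Set (Y ⧸ Cfsg.pCore p Y))).index := by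
    set N := Subgroup.normalizer (Q0 : Set (Y ⧸ Cfsg.pCore p Y))
    have e1 : K.relIndex N = K.index := by
      rw [← Subgroup.relIndex_sup_left (K := K) (H := N), sup_comm, hfr, Subgroup.relIndex_top_right]
    have e2 := Subgroup.relIndex_mul_index (inf_le_left : K ⊓ N ≤ K)
    have e3 := Subgroup.relIndex_mul_index (inf_le_right : K ⊓ N ≤ N)
    rw [Subgroup.inf_relIndex_left] at e2
    rw [Subgroup.inf_relIndex_right, e1] at e3
    have e4 : N.index = N.relIndex K :=
      Nat.eq_of_mul_eq_mul_left (Nat.pos_of_ne_zero Subgroup.index_ne_zero_of_finite) ((e3.trans e2.symm).trans (mul_comm _ _))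
    exact fun hd => hKp (hd.trans (e4 ▸ Subgroup.relIndex_dvd_card _ _))
  obtain ⟨T₁, hT₁⟩ := exists_sylow_le_of_not_dvd_index _ hidx
  obtain ⟨g, hg⟩ := MulAction.exists_smul_eq (Y ⧸ Cfsg.pCore p Y) T₁ T'
  set A := Q0.map (MulAut.conj g).toMonoidHom with hA
  have hTA : (T' : Subgroup (Y ⧸ Cfsg.pCore p Y)) ≤ Subgroup.normalizer (A : Set (Y ⧸ Cfsg.pCore p Y)) := by
    rw [← hg, Sylow.coe_subgroup_smul]
    exact (Subgroup.map_mono hT₁).trans (Subgroup.le_normalizer_map _)
  have hA2 : IsPGroup 2 ↥A := (Q.2.map _).map _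
  -- a 2-subgroup of the quotient image of R
  obtain ⟨k, hk⟩ := IsPGroup.iff_card.mp P.2
  have hRimg : IsPGroup 2 ↥((R : Subgroup Y).map π) := R.2.map _
  have hinj : ∀ a : Y, a ∈ (R : Subgroup Y) → π a = 1 → a = 1 := by
    intro a ha h1
    obtain ⟨i, hi⟩ := IsPGroup.iff_orderOf.mp R.2 ⟨a, ha⟩
    obtain ⟨j, hj⟩ := IsPGroup.iff_orderOf.mp (isPGroup_pCore (G := Y) p) ⟨a, (QuotientGroup.eq_one_iff a).mp h1⟩
    replace hi : orderOf a = 2 ^ i := (Subgroup.orderOf_coe ⟨a, ha⟩).trans hi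
    replace hj : orderOf a = p ^ j := (Subgroup.orderOf_coe ⟨a, (QuotientGroup.eq_one_iff a).mp h1⟩).trans hj
    have hc : Nat.Coprime (2 ^ i) (p ^ j) :=
      Nat.Coprime.pow i j ((Nat.coprime_primes Nat.prime_two Fact.out).mpr (Ne.symm hp))
    exact orderOf_eq_one_iff.mp (Nat.eq_one_of_dvd_coprimes hc hi.dvd hj.dvd)
  have habimg : ∀ a b : Y ⧸ Cfsg.pCore p Y, a ∈ (R : Subgroup Y).map π → b ∈ (R : Subgroup Y).map π → a * b = b * a := by
    by_cases hA1 : A = ⊥
    · -- then 2 does not divide the order of the quotient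
      intro a b ha _
      suffices a = 1 by rw [this, one_mul, mul_one]
      obtain ⟨i, hi⟩ := IsPGroup.iff_orderOf.mp hRimg ⟨a, ha⟩
      have hQ1 : Nat.card ↥(Q : Subgroup ↥K) = 1 := by
        rw [← Subgroup.card_map_of_injective K.subtype_injective, ← hQ0,
          ← Subgroup.card_map_of_injective (f := (MulAut.conj g).toMonoidHom) (MulEquiv.injective _), ← hA, hA1,
          Subgroup.card_bot]
      have h2 : ¬ 2 ∣ Nat.card (Y ⧸ Cfsg.pCore p Y) := by
        rw [← K.card_mul_index, hKi, hk, ← (Q : Subgroup ↥K).card_mul_index, hQ1, one_mul]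
        intro hd
        rcases Nat.prime_two.dvd_mul.mp hd with h | h
        · exact Q.not_dvd_index h
        · exact hp ((Nat.prime_dvd_prime_iff_eq Nat.prime_two Fact.out).mp (Nat.prime_two.dvd_of_dvd_pow h)).symm
      rcases i with _ | i
      · rw [← Subgroup.orderOf_coe, pow_zero] at hi
        exact orderOf_eq_one_iff.mp hi
      · exact absurd ((dvd_pow_self 2 i.succ_ne_zero).trans (hi ▸ orderOf_dvd_natCard _ |>.trans ((R : Subgroup Y).map π).card_subgroup_dvd_card)) h2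
    · have htop : ∀ B : Subgroup (Y ⧸ Cfsg.pCore p Y), IsPGroup 2 ↥B → B ≠ ⊥ →
          (T' : Subgroup (Y ⧸ Cfsg.pCore p Y)) ≤ Subgroup.normalizer (B : Set (Y ⧸ Cfsg.pCore p Y)) →
          B ⊔ (T' : Subgroup (Y ⧸ Cfsg.pCore p Y)) = ⊤ := by
        intro B hB hB1 hTB
        refine hT'c.2 _ (lt_of_le_of_ne le_sup_right fun e => hB1 ?_)
        have hle : B ≤ (T' : Subgroup (Y ⧸ Cfsg.pCore p Y)) := e ▸ le_sup_left
        obtain ⟨i, hi⟩ := IsPGroup.iff_card.mp hB
        obtain ⟨j, hj⟩ := IsPGroup.iff_card.mp (T'.2.to_le hle)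
        exact Subgroup.eq_bot_of_card_eq _ (Nat.eq_one_of_dvd_coprimes
          (Nat.Coprime.pow i j ((Nat.coprime_primes Nat.prime_two Fact.out).mpr (Ne.symm hp))) hi.dvd hj.dvd)
      haveI hAn : A.Normal := Subgroup.normalizer_eq_top_iff.mp
        (top_le_iff.mp ((htop A hA2 hA1 hTA).ge.trans (sup_le Subgroup.le_normalizer hTA)))
      have hAi : ¬ 2 ∣ A.index := by
        rw [← Subgroup.relIndex_top_right, ← htop A hA2 hA1 hTA, Subgroup.relIndex_sup_left]
        intro hd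
        obtain ⟨j, hj⟩ := IsPGroup.iff_card.mp T'.2
        exact hp ((Nat.prime_dvd_prime_iff_eq Nat.prime_two Fact.out).mp
          (Nat.prime_two.dvd_of_dvd_pow (hj ▸ hd.trans (Subgroup.relIndex_dvd_card _ _)))).symm
      have hRA : (R : Subgroup Y).map π ≤ A := by
        let SA : Sylow 2 (Y ⧸ Cfsg.pCore p Y) := IsPGroup.toSylow hA2 hAi
        have h1 := IsPGroup.to_sup_of_normal_right hRimg (K := A) hA2
        exact le_sup_left.trans (SA.3 h1 le_sup_right).le
      have hAc : ⁅A, A⁆ = ⊥ := by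
        by_contra hne
        have hle : ⁅A, A⁆ ≤ A := Subgroup.commutator_le_left A A
        have h1 := htop ⁅A, A⁆ (hA2.to_le hle) hne
          ((Subgroup.normalizer_eq_top (H := ⁅A, A⁆)).ge.trans' le_top)
        haveI := hA2.isNilpotent
        have hne' : (⊤ : Subgroup ↥A) ≠ ⊥ := fun e => hA1 (by
          rw [← Subgroup.range_subtype A, MonoidHom.range_eq_map, e, Subgroup.map_bot])
        refine (Group.IsSolvable.commutator_lt_of_ne_bot hne').ne (Subgroup.map_injective A.subtype_injective ?_)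
        rw [Subgroup.map_commutator, ← MonoidHom.range_eq_map, Subgroup.range_subtype]
        refine le_antisymm hle fun a ha => ?_
        have hm : a ∈ ⁅A, A⁆ ⊔ (T' : Subgroup (Y ⧸ Cfsg.pCore p Y)) := h1 ▸ Subgroup.mem_top a
        rw [← SetLike.mem_coe, Subgroup.normal_mul] at hm
        obtain ⟨c, hc, t, ht, rfl⟩ := hm
        have htA : t ∈ A := by simpa using A.mul_mem (A.inv_mem (hle hc)) ha
        obtain ⟨i, hi⟩ := IsPGroup.iff_orderOf.mp hA2 ⟨t, htA⟩
        obtain ⟨j, hj⟩ := IsPGroup.iff_orderOf.mp T'.2 ⟨t, ht⟩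
        replace hi : orderOf t = 2 ^ i := (Subgroup.orderOf_coe ⟨t, htA⟩).trans hi
        replace hj : orderOf t = p ^ j := (Subgroup.orderOf_coe ⟨t, ht⟩).trans hj
        rw [orderOf_eq_one_iff.mp (Nat.eq_one_of_dvd_coprimes
          (Nat.Coprime.pow i j ((Nat.coprime_primes Nat.prime_two Fact.out).mpr (Ne.symm hp))) hi.dvd hj.dvd)]
        simpa using hc
      intro a b ha hb
      exact (Subgroup.mem_centralizer_iff.mp (Subgroup.commutator_eq_bot_iff_le_centralizer.mp hAc (hRA hb)) a (hRA ha))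
  refine ⟨⟨fun a b => Subtype.ext ?_⟩⟩
  have h1 := habimg _ _ ⟨a, a.2, rfl⟩ ⟨b, b.2, rfl⟩
  have h2 : π (((a : Y) * b) * ((b : Y) * a)⁻¹) = 1 := by
    rw [map_mul, map_mul, map_inv, map_mul, h1, mul_inv_cancel]
  exact mul_inv_eq_one.mp (hinj _ (Subgroup.mul_mem _ (Subgroup.mul_mem _ a.2 b.2) (Subgroup.inv_mem _ (Subgroup.mul_mem _ b.2 a.2))) h2)

/-- The normal p-complement Theorem of Thompson in the form with W(S): for odd p, G has a normal p-complement as soon as the normalizer of the characteristic subgroup W(S) of a Sylow p-subgroup S has one. -/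
theorem result {G : Type*} [Group G] [Finite G] {p : ℕ} [Fact p.Prime] (hp : p ≠ 2) (S : Sylow p G) (hN : Cfsg.HasNormalPComplement p ↥(Subgroup.normalizer (((Cfsg.stableNormalClosure p ↥(S : Subgroup G)).map (S : Subgroup G).subtype) : Set G))) : Cfsg.HasNormalPComplement p G := by
  haveI : Fact (Nat.Prime 2) := ⟨Nat.prime_two⟩
  refine hasNormalPComplement_of_maximal (W := fun Q _ => Cfsg.stableNormalClosure p Q) ⟨fun Q _ _ hQ hnt hbot => ?_,
    fun Q R _ _ _ _ φ => stableNormalClosure_map φ⟩ S ?_ hN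
  · have h1 : Cfsg.omegaOne p (Subgroup.center Q) = ⊥ := le_bot_iff.mp ((omegaCenter_le (p := p) Q).trans hbot.le)
    haveI := hQ.center_nontrivial
    obtain ⟨k, hk⟩ := IsPGroup.iff_card.mp (hQ.to_subgroup (Subgroup.center Q))
    have hd : p ∣ Nat.card ↥(Subgroup.center Q) := by
      rw [hk]; exact dvd_pow_self p (fun e => by rw [e, pow_zero] at hk; exact absurd hk (Finite.one_lt_card).ne')
    obtain ⟨c, hc⟩ := exists_prime_orderOf_dvd_card' p hd
    have hcm : (c : Q) ∈ Cfsg.omegaOne p (Subgroup.center Q) :=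
      Subgroup.subset_closure ⟨c.2, by rw [← hc, ← Subgroup.orderOf_coe, pow_orderOf_eq_one]⟩
    rw [h1, Subgroup.mem_bot] at hcm
    rw [← Subgroup.orderOf_coe, hcm, orderOf_one] at hc
    exact (Fact.out : p.Prime).ne_one hc.symm
  · intro Y _ _ _ hcon hnpc T hT
    exact stableNormalClosure_normal (Cfsg.Agent.S0626.result hp fun R => abelian_sylow_two hp hnpc T hT R) hcon T

end Cfsg.Agent.S0628
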