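import Cfsg.Statements.S0629
import Cfsg.Agent.Lib.PLocal.Constrained

set_option autoImplicit false
open Cfsg

namespace Cfsg.Agent.S0629

/-- A group in which the centralizer of a Sylow p-subgroup of O_{p',p}(G) is p-solvable is p-constrained. -/
theorem result {G : Type*} [Group G] [Finite G] {p : ℕ} [Fact p.Prime] (P : Sylow p ↥(Cfsg.pPrimePCore p G)) (hsol : Cfsg.IsPSolvable p ↥(Subgroup.centralizer (((P : Subgroup ↥(Cfsg.pPrimePCore p G)).map (Cfsg.pPrimePCore p G).subtype : Subgroup G) : Set G))) : Cfsg.IsPConstrained p G := by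
  refine CfsgLib.PLocal.isPConstrained_of_quotient
    (CfsgLib.PLocal.centralizer_pCore_le_of_isPSolvable (CfsgLib.pPrimeCore_quotient_eq_bot p) ?_)
  have h := CfsgLib.PLocal.map_centralizer_eq (Cfsg.pPrimeCore p G) (CfsgLib.card_pPrimeCore_coprime p)
    (P.2.map (Cfsg.pPrimePCore p G).subtype)
  rw [CfsgLib.PLocal.map_sylow_pPrimePCore P] at h
  rw [← h]
  exact CfsgLib.PSolvableClosure.of_surjective ((QuotientGroup.mk' (Cfsg.pPrimeCore p G)).subgroupMap _)
    ((QuotientGroup.mk' (Cfsg.pPrimeCore p G)).subgroupMap_surjective _) hsol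

end Cfsg.Agent.S0629
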