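import Cfsg.Statements.S0630
import Cfsg.Agent.Lib.Basic
import Cfsg.Agent.Lib.PSolvable

set_option autoImplicit false
open Cfsg

namespace Cfsg.Agent.S0630

/-- p-constraint passes to and from the quotient by the largest normal subgroup of order prime to p. -/
theorem result {G : Type*} [Group G] [Finite G] {p : ℕ} [Fact p.Prime] : Cfsg.IsPConstrained p G ↔ Cfsg.IsPConstrained p (G ⧸ Cfsg.pPrimeCore p G) := by
  set N := Cfsg.pPrimeCore p G with hN
  set O := Cfsg.pCore p (G ⧸ N) with hO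
  set M := Cfsg.pPrimePCore p G with hM
  have hNM : N ≤ M := fun x hx => by
    show QuotientGroup.mk' N x ∈ O
    rw [show QuotientGroup.mk' N x = 1 from (QuotientGroup.eq_one_iff x).2 hx]
    exact one_mem O
  have hQ : Cfsg.pPrimePCore p (G ⧸ N) = O := by
    set K := Cfsg.pPrimeCore p (G ⧸ N) with hK
    have hb : K = ⊥ := CfsgLib.pPrimeCore_quotient_eq_bot p
    have hinj : Function.Injective (QuotientGroup.mk' K) := by
      rw [← MonoidHom.ker_eq_bot_iff, QuotientGroup.ker_mk', hb]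
    apply le_antisymm
    · have hn : (Cfsg.pPrimePCore p (G ⧸ N)).Normal :=
        Subgroup.Normal.comap inferInstance (QuotientGroup.mk' K)
      exact CfsgLib.le_pCore ((CfsgLib.isPGroup_pCore p).comap_of_injective _ hinj)
    · refine Subgroup.map_le_iff_le_comap.1 ?_
      have : ((O : Subgroup (G ⧸ N)).map (QuotientGroup.mk' K)).Normal :=
        Subgroup.Normal.map inferInstance _ (QuotientGroup.mk'_surjective K)
      exact CfsgLib.le_pCore ((CfsgLib.isPGroup_pCore p).map _)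
  -- the image of a Sylow subgroup of M is O
  have himg : ∀ P : Sylow p M, ((P : Subgroup M).map M.subtype).map (QuotientGroup.mk' N) = O := by
    intro P
    let f : M →* O := ((QuotientGroup.mk' N).comp M.subtype).codRestrict O fun x => x.2
    have hf : Function.Surjective f := by
      rintro ⟨y, hy⟩
      obtain ⟨x, rfl⟩ := QuotientGroup.mk'_surjective N y
      exact ⟨⟨x, hy⟩, rfl⟩
    have htop : ((P.mapSurjective hf : Sylow p O) : Subgroup O) = ⊤ :=
      ((P.mapSurjective hf).is_maximal' ((CfsgLib.isPGroup_pCore p).of_equiv Subgroup.topEquiv.symm) le_top).symm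
    have := congrArg (Subgroup.map O.subtype) htop
    rw [Sylow.coe_mapSurjective, Subgroup.map_map, ← MonoidHom.range_eq_map, Subgroup.range_subtype] at this
    rw [Subgroup.map_map]
    exact this
  have hsyl : ∀ P : Sylow p (Cfsg.pPrimePCore p (G ⧸ N)),
      (P : Subgroup (Cfsg.pPrimePCore p (G ⧸ N))).map (Cfsg.pPrimePCore p (G ⧸ N)).subtype = O := by
    intro P
    have hp : IsPGroup p (Cfsg.pPrimePCore p (G ⧸ N)) := hQ ▸ CfsgLib.isPGroup_pCore p
    rw [← P.is_maximal' (hp.of_equiv Subgroup.topEquiv.symm) le_top, ← MonoidHom.range_eq_map,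
      Subgroup.range_subtype, hQ]
  constructor
  · intro h P'
    rw [hsyl P', hQ]
    intro x hx
    obtain ⟨g, rfl⟩ := QuotientGroup.mk'_surjective N x
    obtain ⟨P⟩ : Nonempty (Sylow p M) := inferInstance
    set P₀ := (P : Subgroup M).map M.subtype with hP₀
    have hPc : ∀ y ∈ P₀, g * y * g⁻¹ * y⁻¹ ∈ N := fun y hy => by
      rw [← QuotientGroup.eq_one_iff]
      have := hx _ (himg P ▸ Subgroup.mem_map_of_mem (QuotientGroup.mk' N) hy)
      simp only [QuotientGroup.mk'_apply] at this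
      simp only [QuotientGroup.mk_mul, QuotientGroup.mk_inv, ← this]
      group
    -- g P g⁻¹ is a Sylow subgroup of M as well
    have hMn : M.Normal := Subgroup.Normal.comap inferInstance (QuotientGroup.mk' N)
    obtain ⟨m, hm⟩ := MulAction.exists_smul_eq M P ((MulAut.conjNormal g : MulAut M) • P)
    have hcore : ((MulAut.conjNormal g : MulAut M) • P : Sylow p M).1.map M.subtype = P₀.map (MulAut.conj g).toMonoidHom := by
      ext x
      constructor
      · rintro ⟨_, ⟨y, hy, rfl⟩, rfl⟩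
        exact ⟨y, ⟨y, hy, rfl⟩, rfl⟩
      · rintro ⟨_, ⟨y, hy, rfl⟩, rfl⟩
        exact ⟨_, ⟨y, hy, rfl⟩, rfl⟩
    obtain ⟨y₀, hy₀, n, hnN, hm0⟩ : ∃ y₀ ∈ P₀, ∃ n ∈ N, (m : G) = n * y₀ := by
      have : QuotientGroup.mk' N (m : G) ∈ O := m.2
      rw [← himg P] at this
      obtain ⟨y₀, hy₀, hy⟩ := this
      refine ⟨y₀, hy₀, (m : G) * y₀⁻¹, ?_, by group⟩
      rw [← QuotientGroup.eq_one_iff, QuotientGroup.mk_mul, QuotientGroup.mk_inv]
      exact mul_inv_eq_one.2 hy.symm
    have hnorm : ∀ y ∈ P₀, (n⁻¹ * g) * y * (n⁻¹ * g)⁻¹ ∈ P₀ := by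
      intro y hy
      obtain ⟨y', hy', rfl⟩ := hy
      have h1 : g * (y' : G) * g⁻¹ ∈ (m • P : Sylow p M).1.map M.subtype := by
        rw [hm, hcore]; exact ⟨y', ⟨y', hy', rfl⟩, rfl⟩
      obtain ⟨_, ⟨z, hz, rfl⟩, hzg⟩ := h1
      have hz' : (m : G) * z * (m : G)⁻¹ = g * (y' : G) * g⁻¹ := hzg
      rw [hm0] at hz'
      have : n⁻¹ * g * (y' : G) * (n⁻¹ * g)⁻¹ = y₀ * z * y₀⁻¹ := by
        calc n⁻¹ * g * (y' : G) * (n⁻¹ * g)⁻¹ = n⁻¹ * (g * (y' : G) * g⁻¹) * n := by group
          _ = _ := by rw [← hz']; group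
      show n⁻¹ * g * (y' : G) * (n⁻¹ * g)⁻¹ ∈ P₀
      rw [this]
      exact mul_mem (mul_mem hy₀ ⟨z, hz, rfl⟩) (inv_mem hy₀)
    have hdis : ∀ x ∈ P₀, x ∈ N → x = 1 := by
      intro x hx hxN
      obtain ⟨k, hk⟩ := (P.2.map M.subtype) ⟨x, hx⟩
      have hk' : x ^ p ^ k = 1 := congrArg Subtype.val hk
      have h2 : orderOf x ∣ Nat.card N := Subgroup.orderOf_dvd_natCard _ hxN
      have h3 : orderOf x ∣ p ^ k := orderOf_dvd_of_pow_eq_one hk'
      exact orderOf_eq_one_iff.1
        (Nat.eq_one_of_dvd_coprimes ((CfsgLib.card_pPrimeCore_coprime p).pow_right k) h2 h3)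
    have hcen : n⁻¹ * g ∈ Subgroup.centralizer (P₀ : Set G) := fun y hy => by
      have h1 : (n⁻¹ * g) * y * (n⁻¹ * g)⁻¹ * y⁻¹ ∈ N := by
        have : (n⁻¹ * g) * y * (n⁻¹ * g)⁻¹ * y⁻¹ = n⁻¹ * (g * y * g⁻¹ * y⁻¹) * (y * n * y⁻¹) := by group
        rw [this]
        exact mul_mem (mul_mem (inv_mem hnN) (hPc y hy))
          ((inferInstance : N.Normal).conj_mem n hnN y)
      have h2 := hdis _ (mul_mem (hnorm y hy) (inv_mem hy)) h1
      rw [mul_inv_eq_one, mul_inv_eq_iff_eq_mul] at h2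
      exact h2.symm
    have hgM : g ∈ M := by
      have := mul_mem (hNM hnN) (h P hcen)
      rwa [mul_inv_cancel_left] at this
    exact hgM
  · intro h P g hg
    obtain ⟨P'⟩ : Nonempty (Sylow p (Cfsg.pPrimePCore p (G ⧸ N))) := inferInstance
    have := h P'
    rw [hsyl P', hQ] at this
    show QuotientGroup.mk' N g ∈ O
    refine this ?_
    intro y hy
    rw [← himg P] at hy
    obtain ⟨x, hx, rfl⟩ := hy
    rw [← map_mul, ← map_mul, hg x hx]

end Cfsg.Agent.S0630
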