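import Cfsg.Statements.S0633
import Mathlib
import Cfsg.Agent.Lib.HallHigmanB.Main
-- import your own Cfsg.Agent.* helpers here

set_option autoImplicit false
open Cfsg

namespace Cfsg.Agent.S0633

namespace Aux

open scoped TensorProduct

theorem main {F : Type*} [Field F] {p : ℕ} [Fact p.Prime] [CharP F p] {V : Type*} [AddCommGroup V] [Module F V]
    [FiniteDimensional F V] [Nontrivial V] (H : Subgroup (V ≃ₗ[F] V)) [Finite H] (hsol : Cfsg.IsPSolvable p H)
    (hOp : Cfsg.pCore p H = ⊥) (x : V ≃ₗ[F] V) (hx : x ∈ H) (n : ℕ) (hn : orderOf x = p ^ n) (r : ℕ)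
    (hr : minpoly F (x : Module.End F V) = (Polynomial.X - 1) ^ r) :
    r = p ^ n ∨ ∃ n₀ q m : ℕ, 1 ≤ n₀ ∧ n₀ ≤ n ∧ q.Prime ∧ 1 ≤ m ∧ p ^ n₀ - 1 = q ^ m ∧
      (∀ Q : Sylow q H, ¬ IsMulCommutative Q) ∧ p ^ (n - n₀) * (p ^ n₀ - 1) ≤ r := by
  classical
  have hp := (Fact.out : p.Prime)
  haveI : CharP (Module.End F V) p := charP_of_injective_algebraMap (algebraMap F (Module.End F V)).injective p
  have hxr : ((x : Module.End F V) - 1) ^ r = 0 := by
    have := minpoly.aeval F (x : Module.End F V)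
    rw [hr] at this
    simpa using this
  let τ : (V ≃ₗ[F] V) →* Module.End F V :=
    { toFun := fun e => (e : Module.End F V)
      map_one' := rfl
      map_mul' := fun _ _ => rfl }
  have hle : r ≤ p ^ n := by
    have h1 : (x : Module.End F V) ^ p ^ n = 1 := by
      rw [show (x : Module.End F V) = τ x from rfl, ← map_pow, ← hn, pow_orderOf_eq_one, map_one]
    have h2 : ((x : Module.End F V) - 1) ^ p ^ n = 0 := by
      rw [sub_pow_char_pow_of_commute _ _ (Commute.one_right _), one_pow, h1, sub_self]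
    have h3 : minpoly F (x : Module.End F V) ∣ (Polynomial.X - 1) ^ p ^ n := minpoly.dvd F _ (by simpa using h2)
    rw [hr] at h3
    have hne : (Polynomial.X - 1 : Polynomial F) ≠ 0 := by
      simpa using Polynomial.X_sub_C_ne_zero (1 : F)
    have hnu : ¬ IsUnit (Polynomial.X - 1 : Polynomial F) := by
      simpa using Polynomial.not_isUnit_X_sub_C (1 : F)
    exact (pow_dvd_pow_iff hne hnu).mp h3
  set K := AlgebraicClosure F
  haveI : CharP K p := charP_of_injective_algebraMap (algebraMap F K).injective p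
  let β := Module.End.baseChangeHom F K V
  let ρ : H →* Module.End K (K ⊗[F] V) := (β.toMonoidHom.comp τ).comp H.subtype
  have hmk : Function.Injective (TensorProduct.mk F K V 1) := Module.FaithfullyFlat.tensorProduct_mk_injective V
  have hρ : Function.Injective ρ := fun a b hab => Subtype.ext (LinearEquiv.ext fun v => hmk (by
    have := LinearMap.congr_fun hab (1 ⊗ₜ[F] v)
    exact this))
  haveI : Nontrivial (K ⊗[F] V) := hmk.nontrivial
  have hr' : (ρ ⟨x, hx⟩ - 1) ^ r = 0 := by
    have h := congrArg β hxr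
    simp only [map_pow, map_sub, map_one, map_zero] at h
    exact h
  rcases CfsgLib.HallHigmanB.theorem_b hsol hOp ρ hρ (x := ⟨x, hx⟩) (by rw [Subgroup.orderOf_mk]; exact hn) r hr' with h | h
  · exact Or.inl (le_antisymm hle h)
  · exact Or.inr h

end Aux

/-- Theorem B of Hall and Higman on the minimal polynomial of a p-element of order p^n in a p-solvable linear group on a nonzero vector space in characteristic p with no nontrivial normal p-subgroup: its degree is p^n, except when some p^n₀ - 1 (n₀ ≤ n) is a power of a prime q for which the Sylow q-subgroups are non-abelian, in which case the degree is at least p^(n-n₀)(p^n₀ - 1). -/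
theorem result {F : Type*} [Field F] {p : ℕ} [Fact p.Prime] [CharP F p] {V : Type*} [AddCommGroup V] [Module F V] [FiniteDimensional F V] [Nontrivial V] (H : Subgroup (V ≃ₗ[F] V)) [Finite H] (hsol : Cfsg.IsPSolvable p H) (hOp : Cfsg.pCore p H = ⊥) (x : V ≃ₗ[F] V) (hx : x ∈ H) (n : ℕ) (hn : orderOf x = p ^ n) (r : ℕ) (hr : minpoly F (x : Module.End F V) = (Polynomial.X - 1) ^ r) : r = p ^ n ∨ ∃ n₀ q m : ℕ, 1 ≤ n₀ ∧ n₀ ≤ n ∧ q.Prime ∧ 1 ≤ m ∧ p ^ n₀ - 1 = q ^ m ∧ (∀ Q : Sylow q H, ¬ IsMulCommutative Q) ∧ p ^ (n - n₀) * (p ^ n₀ - 1) ≤ r := by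

  exact Aux.main H hsol hOp x hx n hn r hr

end Cfsg.Agent.S0633
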