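import Cfsg.Statements.S0634
import Cfsg.Agent.Lib.PLocal.Constrained

set_option autoImplicit false
open Cfsg

namespace Cfsg.Agent.S0634

/-- In a p-soluble group each p-factor of the upper p-series contains its own centralizer in the corresponding quotient. -/
theorem result {G : Type*} [Group G] [Finite G] {p : ℕ} [Fact p.Prime] (hsol : Cfsg.IsPSolvable p G) (k : ℕ) : Subgroup.centralizer ((((Cfsg.upperPSeries p G (2 * k + 2)).1.map (QuotientGroup.mk' (Cfsg.upperPSeries p G (2 * k + 1)).1)) : Subgroup (G ⧸ (Cfsg.upperPSeries p G (2 * k + 1)).1)) : Set (G ⧸ (Cfsg.upperPSeries p G (2 * k + 1)).1)) ≤ (Cfsg.upperPSeries p G (2 * k + 2)).1.map (QuotientGroup.mk' (Cfsg.upperPSeries p G (2 * k + 1)).1) := by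
  haveI hUn : (Cfsg.upperPSeries p G (2 * k)).1.Normal := (Cfsg.upperPSeries p G (2 * k)).2
  haveI hMn : (Cfsg.upperPSeries p G (2 * k + 1)).1.Normal := (Cfsg.upperPSeries p G (2 * k + 1)).2
  have h1 : (Cfsg.upperPSeries p G (2 * k + 1)).1 =
      (Cfsg.pPrimeCore p (G ⧸ (Cfsg.upperPSeries p G (2 * k)).1)).comap (QuotientGroup.mk' _) := by
    rw [Cfsg.upperPSeries]
    simp only [if_pos (even_two_mul k)]
  have h2 : (Cfsg.upperPSeries p G (2 * k + 2)).1 =
      (Cfsg.pCore p (G ⧸ (Cfsg.upperPSeries p G (2 * k + 1)).1)).comap (QuotientGroup.mk' _) := by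
    show (Cfsg.upperPSeries p G ((2 * k + 1) + 1)).1 = _
    rw [Cfsg.upperPSeries]
    simp only [if_neg (show ¬ Even (2 * k + 1) from Nat.not_even_iff_odd.2 ⟨k, rfl⟩)]
  rw [h2, Subgroup.map_comap_eq_self_of_surjective (QuotientGroup.mk'_surjective _)]
  exact CfsgLib.Blocks.hall_higman (Cfsg.Agent.S3744.isPSolvable_quotient hsol _)
    (CfsgLib.PLocal.pPrimeCore_quotient_comap_eq_bot _ h1)

end Cfsg.Agent.S0634
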