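import Cfsg.Statements.S0641

set_option autoImplicit false
open Cfsg

namespace Cfsg.Agent.S0641

/-- Regularity of a p-group passes to quotient groups. -/
theorem result {G : Type*} [Group G] {p : ℕ} [Fact p.Prime] (hG : Cfsg.IsRegularPGroup p G) (N : Subgroup G) [N.Normal] : Cfsg.IsRegularPGroup p (G ⧸ N) := by
  refine ⟨hG.1.to_quotient N, fun a b n => ?_⟩
  induction a using QuotientGroup.induction_on with
  | H a =>
    induction b using QuotientGroup.induction_on with
    | H b =>
      obtain ⟨c, hc, h⟩ := hG.2 a b n
      refine ⟨(c : G ⧸ N), ?_, ?_⟩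
      · have hpush : ∀ H : Subgroup G, (Cfsg.powerClosure p n H).map (QuotientGroup.mk' N) ≤
            Cfsg.powerClosure p n (H.map (QuotientGroup.mk' N)) := by
          intro H
          rw [Cfsg.powerClosure, MonoidHom.map_closure]
          refine Subgroup.closure_mono ?_
          rintro _ ⟨y, ⟨x, hx, rfl⟩, rfl⟩
          exact ⟨_, Subgroup.mem_map_of_mem _ hx, map_pow _ _ _⟩
        have := hpush _ (Subgroup.mem_map_of_mem (QuotientGroup.mk' N) hc)
        rwa [Subgroup.map_commutator, MonoidHom.map_closure, Set.image_insert_eq,
          Set.image_singleton] at this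
      · have := congrArg (QuotientGroup.mk' N) h
        simpa using this

end Cfsg.Agent.S0641
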