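import Cfsg.Statements.S0642

set_option autoImplicit false
open Cfsg

namespace Cfsg.Agent.S0642

/-- Among finite 2-groups the regular ones are exactly the abelian ones. -/
theorem result {G : Type*} [Group G] [Finite G] (hG : IsPGroup 2 G) : Cfsg.IsRegularPGroup 2 G ↔ ∀ a b : G, a * b = b * a := by
  constructor
  · intro hreg
    -- squares detect commutators
    suffices key : ∀ k : ℕ, ∀ a b : G, Nat.card (Subgroup.closure ({a, b} : Set G)) ≤ k →
        a * b = b * a from fun a b => key _ a b le_rfl
    intro k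
    induction k using Nat.strong_induction_on with
    | _ k ih =>
      intro a b hk
      set H := Subgroup.closure ({a, b} : Set G) with hH
      by_contra hne
      have hHp : IsPGroup 2 H := hG.to_subgroup H
      obtain ⟨c, hc, h⟩ := hreg.2 a b 1
      rw [pow_one] at h
      rw [← hH] at hc
      -- derived group D of H
      have : Nontrivial H := by
        rw [Subgroup.nontrivial_iff_ne_bot]
        intro hb
        have ha : a ∈ H := Subgroup.subset_closure (by simp)
        rw [hb, Subgroup.mem_bot] at ha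
        simp [ha] at hne
      have hD : commutator H < ⊤ := by
        have : Group.IsNilpotent H := hHp.isNilpotent
        exact Group.IsSolvable.commutator_lt_top_of_nontrivial H
      have hDH : ⁅H, H⁆ = (commutator H).map H.subtype := (Subgroup.map_subtype_commutator H).symm
      have hlt : Nat.card ↥⁅H, H⁆ < k := by
        rw [hDH, Subgroup.card_map_of_injective H.subtype_injective]
        refine lt_of_lt_of_le ?_ hk
        have := (Subgroup.card_dvd_of_le (le_top : commutator H ≤ ⊤))
        rw [Subgroup.card_top] at this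
        refine lt_of_le_of_ne (Nat.le_of_dvd Nat.card_pos this) fun e => hD.ne ?_
        exact Subgroup.eq_top_of_card_eq _ e
      -- D is abelian
      have hab : ∀ x ∈ ⁅H, H⁆, ∀ y ∈ ⁅H, H⁆, x * y = y * x := by
        intro x hx y hy
        refine ih _ hlt x y (Subgroup.card_le_of_le ?_)
        rw [Subgroup.closure_le]
        rintro z (rfl | rfl) <;> assumption
      -- squares of D form a subgroup
      have hsq : ∃ d ∈ ⁅H, H⁆, c = d ^ 2 := by
        clear h
        induction hc using Subgroup.closure_induction with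
        | mem y hy => obtain ⟨x, hx, rfl⟩ := hy; exact ⟨x, hx, by rw [pow_one]⟩
        | one => exact ⟨1, one_mem _, by simp⟩
        | mul y z _ _ hy hz =>
          obtain ⟨d, hd, rfl⟩ := hy
          obtain ⟨e, he, rfl⟩ := hz
          exact ⟨d * e, mul_mem hd he, ((Commute.mul_pow (hab d hd e he)) 2).symm⟩
        | inv y _ hy =>
          obtain ⟨d, hd, rfl⟩ := hy
          exact ⟨d⁻¹, inv_mem hd, (inv_pow d 2).symm⟩
      obtain ⟨d, hd, rfl⟩ := hsq
      -- squaring D is a normal subgroup of H containing [a,b]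
      let S : Subgroup H :=
        { carrier := {x | ∃ e ∈ ⁅H, H⁆, (x : G) = e ^ 2}
          one_mem' := ⟨1, one_mem _, by simp⟩
          mul_mem' := by
            rintro x y ⟨d, hd, hx⟩ ⟨e, he, hy⟩
            exact ⟨d * e, mul_mem hd he,
              by rw [Subgroup.coe_mul, hx, hy, (show Commute d e from hab d hd e he).mul_pow]⟩
          inv_mem' := by
            rintro x ⟨d, hd, hx⟩
            exact ⟨d⁻¹, inv_mem hd, by rw [Subgroup.coe_inv, hx, inv_pow]⟩ }
      have hn : ∀ g ∈ H, ∀ x ∈ ⁅H, H⁆, g * x * g⁻¹ ∈ ⁅H, H⁆ := by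
        intro g hg x hx
        rw [hDH] at hx ⊢
        obtain ⟨y, hy, rfl⟩ := hx
        exact ⟨⟨g, hg⟩ * y * ⟨g, hg⟩⁻¹, (inferInstance : (commutator H).Normal).conj_mem y hy _, by simp⟩
      have : S.Normal := ⟨fun x ⟨e, he, hx⟩ g => ⟨g * e * (g : G)⁻¹, hn _ g.2 _ he,
        by rw [Subgroup.coe_mul, Subgroup.coe_mul, Subgroup.coe_inv, hx, conj_pow]⟩⟩
      have haH : a ∈ H := Subgroup.subset_closure (by simp)
      have hbH : b ∈ H := Subgroup.subset_closure (by simp)
      have hmem : (⟨b⁻¹ * a⁻¹ * b * a, by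
          exact mul_mem (mul_mem (mul_mem (inv_mem hbH) (inv_mem haH)) hbH) haH⟩ : H) ∈ S := by
        refine ⟨b * d * b⁻¹, hn b hbH d hd, ?_⟩
        show b⁻¹ * a⁻¹ * b * a = (b * d * b⁻¹) ^ 2
        rw [conj_pow]
        calc b⁻¹ * a⁻¹ * b * a = b * ((a ^ 2 * b ^ 2)⁻¹ * (a * b) ^ 2) * b⁻¹ := by
              simp only [pow_two]; group
          _ = _ := by rw [h]; group
      have hgen : Subgroup.closure ({⟨a, haH⟩, ⟨b, hbH⟩} : Set H) = ⊤ := by
        apply Subgroup.map_injective H.subtype_injective
        rw [MonoidHom.map_closure, Set.image_insert_eq, Set.image_singleton, ← MonoidHom.range_eq_map,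
          Subgroup.range_subtype]
        rfl
      have hcomm : ∀ x y : H ⧸ S, x * y = y * x := by
        have hg2 : Subgroup.closure ({((⟨a, haH⟩ : H) : H ⧸ S), ((⟨b, hbH⟩ : H) : H ⧸ S)} : Set (H ⧸ S)) = ⊤ := by
          have := congrArg (Subgroup.map (QuotientGroup.mk' S)) hgen
          rw [MonoidHom.map_closure, Set.image_insert_eq, Set.image_singleton,
            Subgroup.map_top_of_surjective _ (QuotientGroup.mk'_surjective S)] at this
          exact this
        have hab' : ((⟨a, haH⟩ : H) : H ⧸ S) * ((⟨b, hbH⟩ : H) : H ⧸ S) =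
            ((⟨b, hbH⟩ : H) : H ⧸ S) * ((⟨a, haH⟩ : H) : H ⧸ S) := by
          rw [← QuotientGroup.mk_mul, ← QuotientGroup.mk_mul, QuotientGroup.eq]
          convert hmem using 1
          exact Subtype.ext (by simp [mul_assoc])
        intro x y
        have hx : x ∈ Subgroup.closure ({((⟨a, haH⟩ : H) : H ⧸ S), ((⟨b, hbH⟩ : H) : H ⧸ S)} : Set (H ⧸ S)) := by
          rw [hg2]; trivial
        have hy : y ∈ Subgroup.closure ({((⟨a, haH⟩ : H) : H ⧸ S), ((⟨b, hbH⟩ : H) : H ⧸ S)} : Set (H ⧸ S)) := by
          rw [hg2]; trivial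
        exact Subgroup.closure_induction₂
          (p := fun u v _ _ => Commute u v)
          (fun u v hu hv => by
            rcases hu with rfl | rfl <;> rcases hv with rfl | rfl <;>
              first | exact Commute.refl _ | exact hab' | exact hab'.symm)
          (fun u _ => Commute.one_left u) (fun u _ => Commute.one_right u)
          (fun _ _ _ _ _ _ h1 h2 => h1.mul_left h2) (fun _ _ _ _ _ _ h1 h2 => h1.mul_right h2)
          (fun _ _ _ _ h => h.inv_left) (fun _ _ _ _ h => h.inv_right) hx hy
      have hle : commutator H ≤ S := by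
        rw [commutator_eq_closure, Subgroup.closure_le]
        rintro _ ⟨x, y, rfl⟩
        rw [SetLike.mem_coe, ← QuotientGroup.eq_one_iff, commutatorElement_def, QuotientGroup.mk_mul,
          QuotientGroup.mk_mul, QuotientGroup.mk_mul, QuotientGroup.mk_inv, QuotientGroup.mk_inv,
          hcomm (x : H ⧸ S) (y : H ⧸ S)]
        group
      -- so squaring is bijective on D
      have hsurj : Function.Surjective (fun x : ↥⁅H, H⁆ => x ^ 2) := by
        rintro ⟨x, hx⟩
        rw [hDH] at hx
        obtain ⟨y, hy, rfl⟩ := hx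
        obtain ⟨e, he, heq⟩ := hle hy
        exact ⟨⟨e, he⟩, Subtype.ext (by simpa using heq.symm)⟩
      have hinj := Finite.injective_iff_surjective.2 hsurj
      have hDbot : ⁅H, H⁆ = ⊥ := by
        by_contra hne'
        have : Nontrivial ↥⁅H, H⁆ := (Subgroup.nontrivial_iff_ne_bot _).2 hne'
        obtain ⟨k', hk'0, hk'⟩ := (hG.to_subgroup ⁅H, H⁆).nontrivial_iff_card.1 inferInstance
        obtain ⟨z, hz⟩ := exists_prime_orderOf_dvd_card' (G := ↥⁅H, H⁆) 2
          (hk' ▸ dvd_pow_self 2 hk'0.ne')
        have : z = 1 := hinj (by show z ^ 2 = 1 ^ 2; rw [one_pow, ← hz, pow_orderOf_eq_one])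
        rw [this, orderOf_one] at hz
        omega
      refine hne ?_
      have := (Subgroup.commutator_eq_bot_iff_le_centralizer.1 hDbot) haH
      exact (Subgroup.mem_centralizer_iff.1 this b hbH).symm
  · intro hab
    refine ⟨hG, fun a b n => ⟨1, one_mem _, ?_⟩⟩
    rw [mul_one, (show Commute a b from hab a b).mul_pow]

end Cfsg.Agent.S0642
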