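import Cfsg.Statements.S0644
import Mathlib
import Cfsg.Agent.Lib.RegularPGroup
-- import your own Cfsg.Agent.* helpers here

set_option autoImplicit false
open Cfsg

namespace Cfsg.Agent.S0644

/-- In a regular p-group the p^n-th powers of the elements of any subgroup H form a subgroup, whose derived subgroup is contained in the subgroup generated by the p^n-th powers of elements of the derived subgroup of H. -/
theorem result {G : Type*} [Group G] [Finite G] {p : ℕ} [Fact p.Prime] (hG : Cfsg.IsRegularPGroup p G) (H : Subgroup G) (n : ℕ) : {y : G | ∃ x ∈ H, y = x ^ (p ^ n)} = (Cfsg.powerClosure p n H : Set G) ∧ ⁅Cfsg.powerClosure p n H, Cfsg.powerClosure p n H⁆ ≤ Cfsg.powerClosure p n ⁅H, H⁆ := by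
  have hR := CfsgLib.Regular.r1_of_regular hG
  refine ⟨hR.powerClosure_eq H n, Subgroup.commutator_le.mpr fun u hu v hv => ?_⟩
  have hu' : u ∈ (Cfsg.powerClosure p n H : Set G) := hu
  have hv' : v ∈ (Cfsg.powerClosure p n H : Set G) := hv
  rw [← hR.powerClosure_eq] at hu' hv'
  obtain ⟨x, hx, rfl⟩ := hu'
  obtain ⟨y, hy, rfl⟩ := hv'
  have := CfsgLib.Regular.powerClosure_normal (p := p) n (commutator H)
  let π := QuotientGroup.mk' (Cfsg.powerClosure p n (commutator H))
  have hRq := (hR.subgroup H).quotient (Cfsg.powerClosure p n (commutator H))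
  let x' : H := ⟨x, hx⟩
  let y' : H := ⟨y, hy⟩
  have h1 : Commute (π x' ^ p ^ n) (π y') := by
    refine (hRq.commute_pow_iff _ _ n).mpr (CfsgLib.Regular.pow_eq_one_of_commutator_quotient n ?_)
    exact Subgroup.commutator_mem_commutator (Subgroup.mem_top _) (Subgroup.mem_top _)
  open scoped commutatorElement in
  have h2 : ⁅x' ^ p ^ n, y' ^ p ^ n⁆ ∈ Cfsg.powerClosure p n (commutator H) := by
    refine (QuotientGroup.eq_one_iff _).mp ?_
    show π _ = 1
    rw [map_commutatorElement, commutatorElement_eq_one_iff_mul_comm, map_pow, map_pow]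
    exact (h1.pow_right _).eq
  have h3 := Subgroup.mem_map_of_mem H.subtype h2
  rw [CfsgLib.Regular.map_powerClosure, commutator_def, Subgroup.map_commutator, ← MonoidHom.range_eq_map,
    Subgroup.range_subtype] at h3
  rw [map_commutatorElement, map_pow, map_pow] at h3
  exact h3

end Cfsg.Agent.S0644
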