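import Cfsg.Statements.S0645
import Cfsg.Agent.Lib.PGroup.CyclicMax

set_option autoImplicit false
open Cfsg
open scoped commutatorElement

namespace Cfsg.Agent.S0645

/-- Classification of p-groups with a cyclic maximal subgroup, odd p: a non-abelian one of order p^n has generators a of order p^(n-1) and b of order p, b outside the cyclic subgroup generated by a, with b a b⁻¹ = a^(1 + p^(n-2)). -/
theorem result {G : Type*} [Group G] [Finite G] {p : ℕ} [Fact p.Prime] (hp : p ≠ 2) (n : ℕ) (hn : 3 ≤ n) (hG : Nat.card G = p ^ n) (C : Subgroup G) (hC : IsCyclic C) (hCi : C.index = p) (hna : ∃ x y : G, x * y ≠ y * x) : ∃ a b : G, orderOf a = p ^ (n - 1) ∧ orderOf b = p ∧ b ∉ Subgroup.zpowers a ∧ b * a * b⁻¹ = a ^ (1 + p ^ (n - 2)) := by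
  have hpr : p.Prime := Fact.out
  have hR : IsPGroup p G := IsPGroup.of_card hG
  haveI := CfsgLib.CyclicMax.normal_of_index_prime hR hCi
  have hnc : ¬ IsCyclic G := fun h => by
    obtain ⟨x, y, hxy⟩ := hna
    exact hxy ((inferInstance : IsMulCommutative G).is_comm.comm x y)
  obtain ⟨K, hK, -, hKc⟩ := CfsgLib.CyclicMax.omega_cyclic_index hR hp hnc hC hCi
  obtain ⟨hcen, hexp⟩ := CfsgLib.CyclicMax.commutator_central hR hp hC hCi
  obtain ⟨a, ha⟩ := (Subgroup.isCyclic_iff_exists_zpowers_eq_top (H := C)).mp hC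
  have hord : orderOf a = p ^ (n - 1) := by
    have h1 := C.card_mul_index
    rw [hCi, hG, ← ha, Nat.card_zpowers, ← Nat.succ_pred_eq_of_pos (show 0 < n by omega), pow_succ] at h1
    exact Nat.eq_of_mul_eq_mul_right hpr.pos h1
  obtain ⟨b, hbK, hbC⟩ : ∃ b, b ^ p = 1 ∧ b ∉ C := by
    by_contra h
    push Not at h
    have hle : K ≤ C := fun x hx => h x ((hK x).mp hx)
    classical
    have := Fintype.ofFinite C
    have h1 := IsCyclic.card_pow_eq_one_le (α := C) hpr.pos
    have h2 : Nat.card K ≤ p := by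
      refine le_trans ?_ h1
      rw [← Nat.card_congr (Subgroup.subgroupOfEquivOfLe hle).toEquiv, Nat.card_eq_fintype_card, ← Finset.card_univ]
      refine Finset.card_le_card_of_injOn (fun x : K.subgroupOf C => (x : C)) (fun x _ => ?_) (fun x _ y _ e => Subtype.ext e)
      simp only [Finset.coe_filter, Finset.mem_univ, true_and, Set.mem_setOf_eq]
      exact Subtype.ext ((hK _).mp x.2)
    rw [hKc] at h2
    nlinarith [hpr.two_le]
  set d := a ^ p ^ (n - 2) with hd
  have hdord : orderOf d = p := by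
    rw [hd, orderOf_pow_of_dvd (pow_ne_zero _ hpr.ne_zero) (by rw [hord]; exact pow_dvd_pow p (by omega)), hord,
      Nat.pow_div (by omega) hpr.pos, show n - 1 - (n - 2) = 1 by omega, pow_one]
  set c := ⁅b, a⁆ with hc
  have hcm : c ∈ commutator G := Subgroup.commutator_mem_commutator (Subgroup.mem_top _) (Subgroup.mem_top _)
  have hca : c ∈ Subgroup.zpowers a := by
    rw [ha, hc, commutatorElement_def]
    exact C.mul_mem ((inferInstance : C.Normal).conj_mem a (ha ▸ Subgroup.mem_zpowers a) b) (C.inv_mem (ha ▸ Subgroup.mem_zpowers a))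
  have hc1 : c ≠ 1 := by
    intro h
    have hab : Commute b a := commutatorElement_eq_one_iff_mul_comm.mp h
    obtain ⟨x, y, hxy⟩ := hna
    obtain ⟨i, j, rfl⟩ := CfsgLib.CyclicMax.exists_decomp hCi ha.symm hbC x
    obtain ⟨k, l, rfl⟩ := CfsgLib.CyclicMax.exists_decomp hCi ha.symm hbC y
    exact hxy ((((Commute.refl a).zpow_zpow i k).mul_left (hab.zpow_zpow j k)).mul_right
      ((hab.symm.zpow_zpow i l).mul_left ((Commute.refl b).zpow_zpow j l))).eq
  obtain ⟨k, hk⟩ : ∃ k : ℤ, d ^ k = c := by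
    obtain ⟨i, hi⟩ := Subgroup.mem_zpowers_iff.mp hca
    have h1 := hexp c hcm
    rw [← hi, ← zpow_natCast, ← zpow_mul, ← orderOf_dvd_iff_zpow_eq_one, hord, Nat.cast_pow,
      show n - 1 = n - 2 + 1 by omega, pow_succ] at h1
    obtain ⟨k, hk⟩ := (mul_dvd_mul_iff_right (Nat.cast_ne_zero.mpr hpr.ne_zero)).mp h1
    exact ⟨k, by rw [← hi, hk, hd, zpow_mul, ← Nat.cast_pow, zpow_natCast]⟩
  have hpk : ¬ (p : ℤ) ∣ k := fun h => hc1 (by
    rw [← hk, orderOf_dvd_iff_zpow_eq_one.mp (hdord.symm ▸ h)])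
  obtain ⟨u, v, huv⟩ := ((Int.prime_iff_natAbs_prime.mpr (by simpa using hpr)).coprime_iff_not_dvd).mpr hpk
  have hcb : Commute b c := Subgroup.mem_center_iff.mp (hcen hcm) b
  have hca' : Commute a c := Subgroup.mem_center_iff.mp (hcen hcm) a
  have hb1 : b * a * b⁻¹ = a * c := by
    rw [(hca').eq, hc, commutatorElement_def]; group
  have hpow : ∀ j : ℕ, b ^ j * a * (b ^ j)⁻¹ = a * c ^ j := by
    intro j
    induction j with
    | zero => simp
    | succ j ih =>
      calc b ^ (j + 1) * a * (b ^ (j + 1))⁻¹ = b * (b ^ j * a * (b ^ j)⁻¹) * b⁻¹ := by rw [pow_succ']; group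
        _ = (b * a * b⁻¹) * (b * c ^ j * b⁻¹) := by rw [ih]; group
        _ = _ := by rw [hb1, (hcb.pow_right j).eq, mul_inv_cancel_right, mul_assoc, ← pow_succ']
  obtain ⟨j, hj⟩ : ∃ j : ℕ, (j : ℤ) = v % (p : ℤ) := ⟨_, Int.toNat_of_nonneg (Int.emod_nonneg _ (Nat.cast_ne_zero.mpr hpr.ne_zero))⟩
  have hcj : c ^ j = d := by
    have h1 : d ^ (p : ℤ) = 1 := by rw [zpow_natCast, ← hdord, pow_orderOf_eq_one]
    rw [← zpow_natCast, hj, ← hk, ← zpow_mul]
    calc d ^ (k * (v % (p : ℤ))) = d ^ ((p : ℤ) * (-u - k * (v / (p : ℤ))) + 1) := by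
          congr 1
          linear_combination huv + k * (Int.emod_add_mul_ediv v (p : ℤ))
      _ = d := by rw [zpow_add, zpow_mul, h1, one_zpow, one_mul, zpow_one]
  have hbj : b ^ j ∉ C := by
    intro h
    have : b ^ j * a * (b ^ j)⁻¹ = a := by
      rw [← ha] at h
      obtain ⟨i, hi⟩ := Subgroup.mem_zpowers_iff.mp h
      rw [← hi]; group
    rw [hpow, hcj, mul_eq_left] at this
    rw [this, orderOf_one] at hdord
    exact hpr.one_lt.ne hdord
  refine ⟨a, b ^ j, hord, ?_, ha ▸ hbj, ?_⟩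
  · refine ((Nat.dvd_prime hpr).mp (orderOf_dvd_of_pow_eq_one ?_)).resolve_left fun h => hbj ?_
    · rw [← pow_mul, mul_comm, pow_mul, hbK, one_pow]
    · rw [orderOf_eq_one_iff.mp h]; exact C.one_mem
  · rw [hpow, hcj, pow_add, pow_one, hd]

end Cfsg.Agent.S0645
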