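import Cfsg.Statements.S0647

set_option autoImplicit false
open Cfsg

namespace Cfsg.Agent.S0647

/-- For a nonempty family of maximal abelian subgroups of a finite group, the intersection of the family is the centre of the subgroup it generates, which is also the full centralizer of that subgroup. -/
theorem result {S : Type*} [Group S] [Finite S] (𝒜 : Set (Subgroup S)) (hne : 𝒜.Nonempty) (hab : ∀ A ∈ 𝒜, IsMulCommutative A) (hmax : ∀ A ∈ 𝒜, ∀ B : Subgroup S, IsMulCommutative B → A ≤ B → B = A) : sInf 𝒜 = sSup 𝒜 ⊓ Subgroup.centralizer ((sSup 𝒜 : Subgroup S) : Set S) ∧ sInf 𝒜 = Subgroup.centralizer ((sSup 𝒜 : Subgroup S) : Set S) := by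
  obtain ⟨A₀, hA₀⟩ := hne
  have hC : Subgroup.centralizer ((sSup 𝒜 : Subgroup S) : Set S) = sInf 𝒜 := by
    refine le_antisymm (le_sInf fun A hA x hx => ?_) ?_
    · have hxA : ∀ a ∈ A, a * x = x * a := fun a ha => hx a (le_sSup hA ha)
      have := hab A hA
      have hcomm : IsMulCommutative (Subgroup.closure ((A : Set S) ∪ {x})) :=
        Subgroup.isMulCommutative_closure fun u hu v hv => by
          rcases hu with hu | hu <;> rcases hv with hv | hv
          · exact Subgroup.mul_comm_of_mem_isMulCommutative A hu hv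
          · rw [hv]; exact hxA u hu
          · rw [hu]; exact (hxA v hv).symm
          · rw [hu, hv]
      rw [← hmax A hA _ hcomm fun a ha => Subgroup.subset_closure (Or.inl ha)]
      exact Subgroup.subset_closure (Or.inr rfl)
    · intro x hx
      have hle : sSup 𝒜 ≤ Subgroup.centralizer ({x} : Set S) := sSup_le fun A hA a ha =>
        Subgroup.mem_centralizer_singleton_iff.2
          (haveI := hab A hA; Subgroup.mul_comm_of_mem_isMulCommutative A ha (Subgroup.mem_sInf.1 hx A hA))
      exact fun y hy => Subgroup.mem_centralizer_singleton_iff.1 (hle hy)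
  refine ⟨?_, hC.symm⟩
  rw [hC]
  exact (inf_eq_right.2 ((sInf_le hA₀).trans (le_sSup hA₀))).symm

end Cfsg.Agent.S0647
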