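import Cfsg.Statements.S0649
import Mathlib

set_option autoImplicit false
open Cfsg
open scoped Pointwise

namespace Cfsg.Agent.S0649

/-- In the Glauberman replacement situation, if B does not normalize A then some element of B normalizes N_S(A) without normalizing A. -/
theorem result {S : Type*} [Group S] [Finite S] {p : ℕ} [Fact p.Prime] (hS : IsPGroup p S) (B : Subgroup S) [B.Normal] (hB2 : p = 2 → IsMulCommutative B) (A : Subgroup S) (hA : IsMulCommutative A) (hBA : ⁅B, B⁆ ≤ A) (hnot : ¬ B ≤ Subgroup.normalizer (A : Set S)) : ∃ b ∈ B, b ∈ Subgroup.normalizer ((Subgroup.normalizer (A : Set S)) : Set S) ∧ b ∉ Subgroup.normalizer (A : Set S) := by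
  set N := Subgroup.normalizer (A : Set S) with hN
  haveI := hS.isNilpotent
  have hlt : N < N ⊔ B := lt_of_le_of_ne le_sup_left fun h => hnot (h ▸ le_sup_right)
  have h2 : N.subgroupOf (N ⊔ B) < ⊤ := lt_top_iff_ne_top.mpr fun h => hlt.not_ge (Subgroup.subgroupOf_eq_top.mp h)
  obtain ⟨w, hw, hwN⟩ := SetLike.exists_of_lt (Group.normalizerCondition_of_isNilpotent (G := ↥(N ⊔ B)) _ h2)
  have hwS : (w : S) ∈ Subgroup.normalizer (N : Set S) := by
    rw [Subgroup.mem_normalizer_iff]
    intro x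
    constructor
    · intro hx
      exact (Subgroup.mem_normalizer_iff.mp hw ⟨x, hlt.le hx⟩).mp hx
    · intro hx
      have hxL : x ∈ N ⊔ B := by
        have := Subgroup.mul_mem _ (Subgroup.mul_mem _ (Subgroup.inv_mem _ w.2) (hlt.le hx)) w.2
        simpa [mul_assoc] using this
      exact (Subgroup.mem_normalizer_iff.mp hw ⟨x, hxL⟩).mpr hx
  have hmem : (w : S) ∈ ((N ⊔ B : Subgroup S) : Set S) := w.2
  rw [Subgroup.mul_normal] at hmem
  obtain ⟨n, hn, b, hb, e⟩ := hmem
  refine ⟨b, hb, ?_, fun hbA => hwN ?_⟩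
  · have : b = n⁻¹ * w := by rw [← e]; simp
    rw [this]
    exact Subgroup.mul_mem _ (Subgroup.inv_mem _ (Subgroup.le_normalizer hn)) hwS
  · show (w : S) ∈ N
    rw [← e]
    exact N.mul_mem hn hbA

end Cfsg.Agent.S0649
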