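import Cfsg.Statements.S0650
import Cfsg.Agent.Lib.ZJ.ReplacementFull

set_option autoImplicit false
open Cfsg
open scoped commutatorElement Pointwise

namespace Cfsg.Agent.S0650

/-- The Glauberman replacement Theorem: from an abelian A ⊇ [B, B] not normalized by the normal subgroup B and a suitable b ∈ B one gets the abelian subgroup A* = (A ∩ b⁻¹Ab)[A, b] of the same order, containing [B, B], meeting B strictly more than A does but not containing B, mutually normalizing with A, with strictly larger normalizer containing b, and (p odd) of no larger exponent. -/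
theorem result {S : Type*} [Group S] [Finite S] {p : ℕ} [Fact p.Prime] (hS : IsPGroup p S) (B : Subgroup S) [B.Normal] (hB2 : p = 2 → IsMulCommutative B) (A : Subgroup S) (hA : IsMulCommutative A) (hBA : ⁅B, B⁆ ≤ A) (hnot : ¬ B ≤ Subgroup.normalizer (A : Set S)) (b : S) (hb : b ∈ B) (hbN : b ∈ Subgroup.normalizer ((Subgroup.normalizer (A : Set S)) : Set S)) (hbA : b ∉ Subgroup.normalizer (A : Set S)) : Nat.card ↥((A ⊓ A.map (MulAut.conj (b⁻¹)).toMonoidHom) ⊔ Subgroup.closure {g : S | ∃ a ∈ A, g = a * b⁻¹ * a⁻¹ * b}) = Nat.card A ∧ IsMulCommutative ↥((A ⊓ A.map (MulAut.conj (b⁻¹)).toMonoidHom) ⊔ Subgroup.closure {g : S | ∃ a ∈ A, g = a * b⁻¹ * a⁻¹ * b}) ∧ ⁅B, B⁆ ≤ ((A ⊓ A.map (MulAut.conj (b⁻¹)).toMonoidHom) ⊔ Subgroup.closure {g : S | ∃ a ∈ A, g = a * b⁻¹ * a⁻¹ * b}) ∧ A ⊓ B < ((A ⊓ A.map (MulAut.conj (b⁻¹)).toMonoidHom) ⊔ Subgroup.closure {g : S | ∃ a ∈ A, g = a * b⁻¹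 * a⁻¹ * b}) ⊓ B ∧ ((A ⊓ A.map (MulAut.conj (b⁻¹)).toMonoidHom) ⊔ Subgroup.closure {g : S | ∃ a ∈ A, g = a * b⁻¹ * a⁻¹ * b}) ⊓ B < B ∧ A ≤ Subgroup.normalizer (((A ⊓ A.map (MulAut.conj (b⁻¹)).toMonoidHom) ⊔ Subgroup.closure {g : S | ∃ a ∈ A, g = a * b⁻¹ * a⁻¹ * b} : Subgroup S) : Set S) ∧ ((A ⊓ A.map (MulAut.conj (b⁻¹)).toMonoidHom) ⊔ Subgroup.closure {g : S | ∃ a ∈ A, g = a * b⁻¹ * a⁻¹ * b}) ≤ Subgroup.normalizer (A : Set S) ∧ b ∈ Subgroup.normalizer (((A ⊓ A.map (MulAut.conj (b⁻¹)).toMonoidHom) ⊔ Subgroup.closure {g : S | ∃ a ∈ A, g = a * b⁻¹ * a⁻¹ * b} : Subgroup S) : Set S) ∧ Subgroup.normalizer (A : Set S) < Subgroup.normalizer (((A ⊓ A.map (MulAut.conj (b⁻¹)).toMonoidHom) ⊔ Subgroup.closure {g : S | ∃ a ∈ A, g = a * b⁻¹ * a⁻¹ * b} : Subgroup S) : Set S) ∧ (p ≠ 2 → Monoid.exponent ↥((A ⊓ A.map (MulAut.conj (b⁻¹)).toMonoidHom) ⊔ Subgroup.closure {g : S | ∃ a ∈ A, g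 = a * b⁻¹ * a⁻¹ * b}) ∣ Monoid.exponent A) := by
  classical
  set Xs := {g : S | ∃ a ∈ A, g = a * b⁻¹ * a⁻¹ * b}
  set C := A ⊓ A.map (MulAut.conj (b⁻¹)).toMonoidHom
  have hbA' : b⁻¹ ∉ Subgroup.normalizer (A : Set S) := fun h => hbA (inv_mem_iff.1 h)
  have h := CfsgLib.ZJ.replacement_full hS (B := B) (A := A)
    (if h2 : p = 2 then Or.inr (fun x hx y hy => haveI := hB2 h2; Subgroup.mul_comm_of_mem_isMulCommutative B hx hy)
      else Or.inl h2)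
    (fun x hx y hy => haveI := hA; Subgroup.mul_comm_of_mem_isMulCommutative A hx hy)
    hBA (B.inv_mem hb) hbA' (inv_mem hbN)
  have heq : C ⊔ Subgroup.closure Xs = Subgroup.closure (((A ⊓ MulAut.conj b⁻¹ • A : Subgroup S) : Set S) ∪
      (fun a => a⁻¹ * (b⁻¹ * a * (b⁻¹)⁻¹)) '' (A : Set S)) := by
    have hset : Xs = (fun a => a⁻¹ * (b⁻¹ * a * (b⁻¹)⁻¹)) '' (A : Set S) := by
      ext g
      constructor
      · rintro ⟨a, ha, rfl⟩
        exact ⟨a⁻¹, A.inv_mem ha, by group⟩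
      · rintro ⟨a, ha, rfl⟩
        exact ⟨a⁻¹, A.inv_mem ha, by group⟩
    rw [Subgroup.closure_union, Subgroup.closure_eq, hset]
    rfl
  obtain ⟨h1, h2, h3, h4, h5, h6, h7, h8, h9, h10⟩ := h
  rw [heq]
  exact ⟨h1, h2, Subgroup.commutator_le.2 h3, h4, h5, h6, h7, by simpa using inv_mem h8, h9, h10⟩

end Cfsg.Agent.S0650
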