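import Cfsg.Statements.S0654
import Cfsg.Agent.Lib.ZJ.Theorem

set_option autoImplicit false
open Cfsg

namespace Cfsg.Agent.S0654

/-- The ZJ-Theorem for the elementary-abelian Thompson subgroup: for an odd prime p, a finite group G with C_G(O_p(G)) ≤ O_p(G) acting p-stably on its normal p-subgroups, and a Sylow p-subgroup S of G, the subgroup generated by the elements of order dividing p in Z(J_e(S)) is characteristic in G. -/
theorem result {G : Type*} [Group G] [Finite G] {p : ℕ} [Fact p.Prime] (hp : p ≠ 2) (hc : Subgroup.centralizer (Cfsg.pCore p G : Set G) ≤ Cfsg.pCore p G) (hst : ∀ (P : Subgroup G) [P.Normal], IsPGroup p P → Cfsg.IsPStableOn p P) (S : Sylow p G) : ((Cfsg.omegaCenterThompson p ↥(S : Subgroup G)).map (S : Subgroup G).subtype).Characteristic := by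
  have hchar := CfsgLib.ZJ.zj_characteristic hp (Or.inr rfl) hc (CfsgLib.ZJ.quadStable_of_isPStableOn hst) S
  set Z := CfsgLib.ZJ.zj p (S : Subgroup G) with hZ
  have heq : (Cfsg.omegaCenterThompson p ↥(S : Subgroup G)).map (S : Subgroup G).subtype =
      Cfsg.omegaOne p Z := by
    have h1 : CfsgLib.ZJ.zj p (⊤ : Subgroup ↥(S : Subgroup G)) =
        Cfsg.thompsonSubgroup p ↥(S : Subgroup G) ⊓
          Subgroup.centralizer (Cfsg.thompsonSubgroup p ↥(S : Subgroup G) : Set ↥(S : Subgroup G)) := by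
      simp only [CfsgLib.ZJ.zj, CfsgLib.ZJ.thompsonJ, CfsgLib.ZJ.goodMax_top_prime, Cfsg.thompsonSubgroup]
    have h2 : Z = (CfsgLib.ZJ.zj p (⊤ : Subgroup ↥(S : Subgroup G))).map (S : Subgroup G).subtype := by
      rw [← CfsgLib.ZJ.zj_map p (S : Subgroup G).subtype_injective, ← MonoidHom.range_eq_map,
        Subgroup.range_subtype]
    rw [Cfsg.omegaCenterThompson, ← h1, Cfsg.omegaOne, MonoidHom.map_closure, Cfsg.omegaOne, h2]
    congr 1
    ext x
    constructor
    · rintro ⟨y, ⟨hy, hyp⟩, rfl⟩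
      exact ⟨⟨y, hy, rfl⟩, by rw [← map_pow, hyp, map_one]⟩
    · rintro ⟨⟨y, hy, rfl⟩, hyp⟩
      exact ⟨y, ⟨hy, Subtype.ext (by simpa using hyp)⟩, rfl⟩
  rw [heq]
  refine Subgroup.characteristic_iff_map_eq.mpr fun φ => ?_
  rw [Cfsg.omegaOne, MonoidHom.map_closure]
  congr 1
  have hφ := Subgroup.characteristic_iff_map_eq.mp hchar φ
  ext x
  constructor
  · rintro ⟨y, ⟨hy, hyp⟩, rfl⟩
    exact ⟨hφ ▸ Subgroup.mem_map_of_mem φ.toMonoidHom hy, by rw [← map_pow, hyp, map_one]⟩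
  · rintro ⟨hx, hxp⟩
    rw [← hφ] at hx
    obtain ⟨y, hy, rfl⟩ := hx
    refine ⟨y, ⟨hy, ?_⟩, rfl⟩
    apply φ.injective
    simpa using hxp

end Cfsg.Agent.S0654
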