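import Cfsg.Statements.S0656
import Cfsg.Agent.Lib.Quadratic.Stable

set_option autoImplicit false
set_option linter.unusedVariables false
open Cfsg
open scoped commutatorElement

namespace Cfsg.Agent.S0656

/-- For odd p, a faithful group on an elementary abelian p-group with no nontrivial normal p-subgroup in which some nontrivial p-element acts quadratically has a section isomorphic to SL(2, p). -/
theorem result {G : Type*} [Group G] [Finite G] {p : ℕ} [Fact p.Prime] (hp : p ≠ 2) (V H : Subgroup G) (hV : Cfsg.IsElementaryAbelian p V) (hHV : H ≤ Subgroup.normalizer (V : Set G)) (hf : H ⊓ Subgroup.centralizer (V : Set G) = ⊥) (hO : Cfsg.pCore p ↥H = ⊥) (x : G) (hxH : x ∈ H) (hx1 : x ≠ 1) (hxp : ∃ k : ℕ, orderOf x = p ^ k) (hq : ⁅⁅V, Subgroup.zpowers x⁆, Subgroup.zpowers x⁆ = ⊥) : ∃ (K L : Subgroup G) (hL : (L.subgroupOf K).Normal), K ≤ H ∧ Nonempty ((K ⧸ L.subgroupOf K) ≃* Matrix.SpecialLinearGroup (Fin 2) (ZMod p)) := by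
  have hbot : (Subgroup.centralizer (V : Set G)).subgroupOf H = ⊥ := by
    rw [Subgroup.subgroupOf_eq_bot, disjoint_iff, inf_comm, hf]
  haveI hn : ((Subgroup.centralizer (V : Set G)).subgroupOf H).Normal := by
    rw [hbot]; infer_instance
  set π := QuotientGroup.mk' ((Subgroup.centralizer (V : Set G)).subgroupOf H) with hπ
  have hout : π ⟨x, hxH⟩ ∉ Cfsg.pCore p _ := by
    intro h
    haveI : ((Cfsg.pCore p _).comap π).Normal := Subgroup.normal_comap _
    have h1 : (⟨x, hxH⟩ : H) ∈ Cfsg.pCore p H :=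
      CfsgLib.le_pCore (N := (Cfsg.pCore p _).comap π) ((CfsgLib.isPGroup_pCore p).comap_of_ker_isPGroup π
        (by rw [hπ, QuotientGroup.ker_mk', hbot]; exact IsPGroup.of_bot)) h
    rw [hO, Subgroup.mem_bot] at h1
    exact hx1 (congrArg Subtype.val h1)
  obtain ⟨e, he⟩ : ∃ e, Nat.card V = p ^ e := (IsPGroup.exists_card_eq (fun v => ⟨1, Subtype.ext (by
    simpa using hV.2 v v.2)⟩))
  obtain ⟨K, hKH, f, hf'⟩ := CfsgLib.Quadratic.exists_sl2_section hp (IsPGroup.of_card he) hHV hxH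
    (CfsgLib.Quadratic.quad_pointwise hq) hout
  obtain ⟨L, hL, hiso⟩ := CfsgLib.Quadratic.exists_section_of_surjective K f hf'
  exact ⟨K, L, hL, hKH, hiso⟩

end Cfsg.Agent.S0656
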