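import Cfsg.Statements.S0657
import Cfsg.Agent.Lib.Quadratic.Stable

set_option autoImplicit false
set_option linter.unusedVariables false
open Cfsg
open scoped commutatorElement

namespace Cfsg.Agent.S0657

/-- For odd p, a group that fails to be p-stable modulo its largest normal subgroup of order prime to p, and whose upper p-series does not stop there, has a section isomorphic to SL(2, p). -/
theorem result {G : Type*} [Group G] [Finite G] {p : ℕ} [Fact p.Prime] (hp : p ≠ 2) (hO : Cfsg.pPrimeCore p G < Cfsg.pPrimePCore p G) (hns : ¬ Cfsg.IsPStable p (G ⧸ Cfsg.pPrimeCore p G)) : ∃ (K L : Subgroup G) (hL : (L.subgroupOf K).Normal), K ≤ ⊤ ∧ Nonempty ((K ⧸ L.subgroupOf K) ≃* Matrix.SpecialLinearGroup (Fin 2) (ZMod p)) := by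
  have hne : Cfsg.pCore p (G ⧸ Cfsg.pPrimeCore p G) ≠ ⊥ := fun h => hO.ne (by
    rw [Cfsg.pPrimePCore, h, MonoidHom.comap_bot, QuotientGroup.ker_mk'])
  unfold Cfsg.IsPStable at hns
  push Not at hns
  obtain ⟨A, P, hA, hP, hAP, -, -, hq, hout⟩ := hns ((Fact.out : p.Prime).odd_of_ne_two hp) hne
  obtain ⟨a, ha, ha'⟩ := SetLike.not_le_iff_exists.1 hout
  obtain ⟨⟨a, haN⟩, haA, rfl⟩ := ha
  have hqa : ⁅⁅P, Subgroup.zpowers a⁆, Subgroup.zpowers a⁆ = ⊥ := eq_bot_iff.2 (hq ▸ Subgroup.commutator_mono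
    (Subgroup.commutator_mono le_rfl (Subgroup.zpowers_le.2 haA)) (Subgroup.zpowers_le.2 haA))
  obtain ⟨L, -, f, hf⟩ := CfsgLib.Quadratic.exists_sl2_section hp hP le_rfl haN
    (CfsgLib.Quadratic.quad_pointwise hqa) ha'
  obtain ⟨f', hf'⟩ := CfsgLib.Quadratic.exists_surjective_comap _ (QuotientGroup.mk'_surjective _) f hf
  obtain ⟨L', hL', hiso⟩ := CfsgLib.Quadratic.exists_section_of_surjective _ f' hf'
  exact ⟨_, L', hL', le_top, hiso⟩

end Cfsg.Agent.S0657
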