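import Cfsg.Statements.S0660

set_option autoImplicit false
open Cfsg

namespace Cfsg.Agent.S0660

/-- Under a coprime action on an abelian group, an invariant subgroup that is complemented admits an invariant complement. -/
theorem result {G : Type*} [Group G] [Finite G] (V A U : Subgroup G) (hVab : IsMulCommutative V) (hAV : A ≤ Subgroup.normalizer (V : Set G)) (hcop : (Nat.card A).Coprime (Nat.card V)) (hUV : U ≤ V) (hAU : A ≤ Subgroup.normalizer (U : Set G)) (W : Subgroup G) (hWV : W ≤ V) (hUW : U ⊓ W = ⊥) (hUWV : U ⊔ W = V) : ∃ W' : Subgroup G, W' ≤ V ∧ A ≤ Subgroup.normalizer (W' : Set G) ∧ U ⊓ W' = ⊥ ∧ U ⊔ W' = V := by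
  classical
  have : Fintype A := Fintype.ofFinite A
  letI : CommGroup V := { (inferInstance : Group V) with mul_comm := fun a b => mul_comm' a b }
  have hmemU : ∀ a ∈ A, ∀ x ∈ U, a * x * a⁻¹ ∈ U := fun a ha x hx =>
    (Subgroup.mem_normalizer_iff.1 (hAU ha) x).1 hx
  have hmemV : ∀ a ∈ A, ∀ x ∈ V, a * x * a⁻¹ ∈ V := fun a ha x hx =>
    (Subgroup.mem_normalizer_iff.1 (hAV ha) x).1 hx
  -- the projection onto U along W
  have hsplit : ∀ v : V, ∃ u ∈ U, (u⁻¹ * (v : G)) ∈ W := by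
    intro v
    have hv : v ∈ U.subgroupOf V ⊔ W.subgroupOf V := by
      rw [← Subgroup.subgroupOf_sup hUV hWV, hUWV, Subgroup.subgroupOf_self]; trivial
    obtain ⟨u, hu, w, hw, rfl⟩ := Subgroup.mem_sup.1 hv
    exact ⟨u, hu, by simpa [Subgroup.mem_subgroupOf] using hw⟩
  choose proj hprojU hprojW using hsplit
  have hproj : ∀ (v : V) (u : G), u ∈ U → u⁻¹ * (v : G) ∈ W → proj v = u := fun v u hu hw => by
    have h1 : (proj v)⁻¹ * u ∈ U ⊓ W := by
      refine ⟨U.mul_mem (U.inv_mem (hprojU v)) hu, ?_⟩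
      have := mul_mem (hprojW v) (inv_mem hw)
      simpa [mul_assoc] using this
    rw [hUW, Subgroup.mem_bot, inv_mul_eq_one] at h1
    exact h1
  let π : V →* V := MonoidHom.mk' (fun v => ⟨proj v, hUV (hprojU v)⟩) fun v v' => by
    refine Subtype.ext (hproj _ _ (mul_mem (hprojU v) (hprojU v')) ?_)
    have e : (proj v * proj v')⁻¹ * ((v * v' : V) : G) = (proj v)⁻¹ * (v : G) * ((proj v')⁻¹ * (v' : G)) := by
      have := congrArg Subtype.val (show (⟨proj v, hUV (hprojU v)⟩ * ⟨proj v', hUV (hprojU v')⟩ : V)⁻¹ * (v * v')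
        = (⟨proj v, hUV (hprojU v)⟩ : V)⁻¹ * v * ((⟨proj v', hUV (hprojU v')⟩ : V)⁻¹ * v') by
          rw [mul_inv_rev]; ac_rfl)
      simpa using this
    show (proj v * proj v')⁻¹ * ((v * v' : V) : G) ∈ W
    rw [e]
    exact mul_mem (hprojW v) (hprojW v')
  let c : A → V →* V := fun a => MonoidHom.mk' (fun v => ⟨(a : G) * v * (a : G)⁻¹, hmemV a a.2 v v.2⟩)
    fun v v' => Subtype.ext (by simp [mul_assoc])
  -- average over A
  let τ : V →* V := ∏ a : A, (c a).comp (π.comp (c a⁻¹))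
  let m := (Nat.card A).gcdA (Nat.card V)
  have hcV : ∀ v : V, v ^ Nat.card V = 1 := fun v => pow_card_eq_one'
  have hm : ∀ v : V, (v ^ Nat.card A) ^ m = v := fun v => by
    have h1 : (1 : ℤ) = Nat.card A * m + Nat.card V * (Nat.card A).gcdB (Nat.card V) := by
      rw [← Nat.gcd_eq_gcd_ab, hcop.gcd_eq_one]; rfl
    calc (v ^ Nat.card A) ^ m = v ^ ((Nat.card A : ℤ) * m) := by rw [zpow_mul, zpow_natCast]
      _ = v ^ ((Nat.card A : ℤ) * m + Nat.card V * (Nat.card A).gcdB (Nat.card V)) := by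
          rw [zpow_add, zpow_mul v (Nat.card V : ℤ), zpow_natCast, hcV, one_zpow, mul_one]
      _ = v := by rw [← h1, zpow_one]
  have hτU : ∀ u : V, (u : G) ∈ U → τ u = u ^ Nat.card A := by
    intro u hu
    simp only [τ, MonoidHom.finset_prod_apply, MonoidHom.comp_apply]
    rw [Finset.prod_congr rfl (g := fun _ => u) fun a _ => ?_, Finset.prod_const, Finset.card_univ,
      ← Nat.card_eq_fintype_card]
    have hmem : (c a⁻¹ u : G) ∈ U := hmemU _ (a⁻¹).2 _ hu
    have hp : π (c a⁻¹ u) = c a⁻¹ u :=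
      Subtype.ext (hproj _ _ hmem (by rw [inv_mul_cancel]; exact one_mem _))
    rw [hp]
    exact Subtype.ext (by simp [c, mul_assoc])
  have hτmem : ∀ v : V, (τ v : G) ∈ U := fun v => by
    simp only [τ, MonoidHom.finset_prod_apply, MonoidHom.comp_apply]
    have : ∀ a : A, (c a (π (c a⁻¹ v))) ∈ U.subgroupOf V := fun a => hmemU _ a.2 _ (hprojU _)
    exact (U.subgroupOf V).prod_mem fun a _ => this a
  refine ⟨τ.ker.map V.subtype, Subgroup.map_subtype_le _, ?_, ?_, ?_⟩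
  · -- invariance
    have heq : ∀ (b : A) (v : V), τ (c b v) = c b (τ v) := by
      intro b v
      simp only [τ, MonoidHom.finset_prod_apply, MonoidHom.comp_apply, map_prod]
      refine Fintype.prod_equiv (Equiv.mulLeft b⁻¹) _ _ fun a => ?_
      apply Subtype.ext
      have e : c (b⁻¹ * a)⁻¹ v = c a⁻¹ (c b v) := Subtype.ext (by simp [c, mul_assoc])
      simp only [Equiv.coe_mulLeft, e]
      simp [c, mul_assoc]
    have hfwd : ∀ b ∈ A, ∀ x ∈ τ.ker.map V.subtype, b * x * b⁻¹ ∈ τ.ker.map V.subtype := by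
      rintro b hb _ ⟨v, hv, rfl⟩
      exact ⟨c ⟨b, hb⟩ v, by rw [SetLike.mem_coe, MonoidHom.mem_ker, heq, MonoidHom.mem_ker.1 hv, map_one], rfl⟩
    intro b hb
    rw [Subgroup.mem_normalizer_iff]
    refine fun x => ⟨hfwd b hb x, fun h => ?_⟩
    have := hfwd b⁻¹ (inv_mem hb) _ h
    simpa [mul_assoc] using this
  · rw [eq_bot_iff]
    rintro _ ⟨hu, v, hv, rfl⟩
    have h1 := MonoidHom.mem_ker.1 hv
    rw [hτU v hu] at h1
    have := hm v
    rw [h1, one_zpow] at this
    rw [Subgroup.mem_bot, ← this]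
    rfl
  · refine le_antisymm (sup_le hUV (Subgroup.map_subtype_le _)) fun x hx => ?_
    let v : V := ⟨x, hx⟩
    have hu : (((τ v) ^ m : V) : G) ∈ U := by
      rw [Subgroup.coe_zpow]; exact U.zpow_mem (hτmem v) _
    have hk : ((τ v) ^ m)⁻¹ * v ∈ τ.ker := by
      rw [MonoidHom.mem_ker, map_mul, map_inv, hτU _ hu]
      rw [← zpow_natCast (τ v ^ m), ← zpow_mul, mul_comm m, zpow_mul, zpow_natCast, hm]
      simp
    rw [show x = (((τ v) ^ m : V) : G) * ((((τ v) ^ m)⁻¹ * v : V) : G) by simp [v]]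
    exact Subgroup.mul_mem_sup hu ⟨_, hk, rfl⟩

end Cfsg.Agent.S0660
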