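import Cfsg.Statements.S0662
import Mathlib
import Cfsg.Agent.Lib.MaximalClass
-- import your own Cfsg.Agent.* helpers here

set_option autoImplicit false
open Cfsg

namespace Cfsg.Agent.S0662

/-- In a p-group of maximal class of order at least p³ the normal subgroups of index at least p² are exactly the terms of the lower central series, and there are exactly p + 1 normal subgroups of index p. -/
theorem result {G : Type*} [Group G] [Finite G] {p : ℕ} [Fact p.Prime] (n : ℕ) (hG : Nat.card G = p ^ n) (hcl : Group.nilpotencyClass G = n - 1) (hn : 3 ≤ n) : (∀ (N : Subgroup G) [N.Normal] (r : ℕ), 2 ≤ r → N.index = p ^ r → N = (⊤ : Subgroup G).lowerCentralSeries (r - 1)) ∧ Nat.card {N : Subgroup G // N.Normal ∧ N.index = p} = p + 1 := by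
  classical
  refine ⟨fun N hN r hr hidx => CfsgLib.MaximalClass.normal_eq_lcs hn hG hcl N hr hidx, ?_⟩
  have hp := (Fact.out : p.Prime)
  set D := commutator G with hD
  have hQ : Nat.card (G ⧸ D) = p ^ 2 := CfsgLib.MaximalClass.index_commutator hn hG hcl
  have hexp : ∀ q : G ⧸ D, q ^ p = 1 := by
    intro q
    obtain ⟨g, rfl⟩ := QuotientGroup.mk'_surjective _ q
    rw [← map_pow]
    exact (QuotientGroup.eq_one_iff _).mpr (CfsgLib.MaximalClass.pow_mem_commutator hn hG hcl g)
  have hsurj : Function.Surjective (QuotientGroup.mk' D) := QuotientGroup.mk'_surjective D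
  have hle : ∀ N : Subgroup G, N.Normal → N.index = p → D ≤ N := fun N hN hi => by
    have := isCyclic_of_prime_card (p := p) (α := G ⧸ N) hi
    rw [hD, commutator_def, Subgroup.commutator_le]
    intro x _ y _
    open scoped commutatorElement in
    refine (QuotientGroup.eq_one_iff _).mp ?_
    rw [← QuotientGroup.mk'_apply, map_commutatorElement, commutatorElement_eq_one_iff_mul_comm]
    exact IsMulCommutative.is_comm.comm _ _
  -- index `p` normal subgroups and subgroups of order `p` of the quotient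
  have hcomm : ∀ u v : G ⧸ D, u * v = v * u := fun u v => by
    have := IsPGroup.commGroupOfCardEqPrimeSq hQ
    exact (IsPGroup.commGroupOfCardEqPrimeSq hQ).mul_comm u v
  have hidxQ : ∀ H : Subgroup (G ⧸ D), Nat.card H = p → H.index = p := fun H hH => by
    have h := H.card_mul_index
    rw [hH, hQ, pow_two] at h
    exact Nat.eq_of_mul_eq_mul_left hp.pos h
  let e : {H : Subgroup (G ⧸ D) // Nat.card H = p} ≃ {N : Subgroup G // N.Normal ∧ N.index = p} :=
    { toFun := fun H => ⟨H.1.comap (QuotientGroup.mk' D), by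
        have : H.1.Normal := ⟨fun x hx g => by rwa [hcomm g x, mul_inv_cancel_right]⟩
        exact ⟨Subgroup.normal_comap _, by rw [Subgroup.index_comap_of_surjective _ hsurj, hidxQ _ H.2]⟩⟩
      invFun := fun N => ⟨N.1.map (QuotientGroup.mk' D), by
        have h2 := (N.1.map (QuotientGroup.mk' D)).card_mul_index
        rw [hQ, pow_two] at h2
        rw [Subgroup.index_map_eq _ hsurj (by rw [QuotientGroup.ker_mk']; exact hle _ N.2.1 N.2.2), N.2.2] at h2
        exact Nat.eq_of_mul_eq_mul_right hp.pos h2⟩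
      left_inv := fun H => Subtype.ext (Subgroup.map_comap_eq_self_of_surjective hsurj _)
      right_inv := fun N => Subtype.ext (by
        show (N.1.map (QuotientGroup.mk' D)).comap (QuotientGroup.mk' D) = N.1
        rw [Subgroup.comap_map_eq, QuotientGroup.ker_mk', sup_eq_left.mpr (hle _ N.2.1 N.2.2)]) }
  rw [← Nat.card_congr e]
  have hgen : ∀ H : {H : Subgroup (G ⧸ D) // Nat.card H = p}, ∀ x ∈ H.1, x ≠ 1 → Subgroup.zpowers x = H.1 := by
    intro H x hx hx1
    refine Subgroup.eq_of_le_of_card_ge (Subgroup.zpowers_le.mpr hx) ?_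
    rw [Nat.card_zpowers, orderOf_eq_prime (hexp x) hx1, H.2]
  let σ : (Σ H : {H : Subgroup (G ⧸ D) // Nat.card H = p}, {x : H.1 // x ≠ 1}) ≃ {x : G ⧸ D // x ≠ 1} :=
    Equiv.ofBijective (fun s => ⟨(s.2.1 : G ⧸ D), fun h => s.2.2 (Subtype.ext h)⟩) (by
      constructor
      · rintro ⟨H, x, hx⟩ ⟨H', y, hy⟩ h
        have hxy : (x : G ⧸ D) = y := congrArg Subtype.val h
        have hx' : (x : G ⧸ D) ≠ 1 := fun e => hx (Subtype.ext e)
        have hH : H = H' := Subtype.ext ((hgen H x x.2 hx').symm.trans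
          ((congrArg Subgroup.zpowers hxy).trans (hgen H' y y.2 (fun e => hy (Subtype.ext e)))))
        subst hH
        congr
        exact Subtype.ext hxy
      · rintro ⟨x, hx⟩
        exact ⟨⟨⟨Subgroup.zpowers x, by rw [Nat.card_zpowers, orderOf_eq_prime (hexp x) hx]⟩,
          ⟨⟨x, Subgroup.mem_zpowers x⟩, fun e => hx (congrArg Subtype.val e)⟩⟩, rfl⟩)
  have hc1 : ∀ {α : Type _} [Finite α] (a : α), Nat.card {x : α // x ≠ a} = Nat.card α - 1 := by
    intro α _ a
    have := Fintype.ofFinite α
    rw [Nat.card_eq_fintype_card, Nat.card_eq_fintype_card]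
    simp [Fintype.card_subtype_compl]
  have := Fintype.ofFinite {H : Subgroup (G ⧸ D) // Nat.card H = p}
  have hcount := Nat.card_congr σ
  rw [Nat.card_sigma, hc1, hQ, Finset.sum_congr rfl (fun H _ => (hc1 (1 : H.1)).trans (by rw [H.2])),
    Finset.sum_const, Finset.card_univ, smul_eq_mul, ← Nat.card_eq_fintype_card] at hcount
  obtain ⟨q, rfl⟩ : ∃ q, p = q + 2 := ⟨p - 2, by have := hp.two_le; omega⟩
  rw [show q + 2 - 1 = q + 1 by omega, show (q + 2) ^ 2 - 1 = (q + 2 + 1) * (q + 1) by
    rw [show (q + 2) ^ 2 = (q + 2 + 1) * (q + 1) + 1 by ring]; omega] at hcount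
  exact Nat.eq_of_mul_eq_mul_right (Nat.succ_pos q) hcount

end Cfsg.Agent.S0662
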