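import Cfsg.Statements.S0663
import Cfsg.Agent.Lib.PGroup.Uniserial

set_option autoImplicit false
open Cfsg
open scoped commutatorElement

namespace Cfsg.Agent.S0663

/-- A p-group acts uniserially on a p-group N of order p^n exactly when the iterated commutator chain from N has length n; in that case the chain terms are all the invariant subgroups of N and they are normal in N. -/
theorem result {L : Type*} [Group L] [Finite L] {p : ℕ} [Fact p.Prime] (N G : Subgroup L) (hN : IsPGroup p N) (hG : IsPGroup p G) (hGN : G ≤ Subgroup.normalizer (N : Set L)) (n : ℕ) (hn : Nat.card N = p ^ n) : ((∀ H : Subgroup L, H ≤ N → G ≤ Subgroup.normalizer (H : Set L) → H ≠ ⊥ → (⁅H, G⁆).relIndex H = p) ↔ Cfsg.iterCommutator N G (n - 1) ≠ ⊥ ∨ n = 0) ∧ ((∀ H : Subgroup L, H ≤ N → G ≤ Subgroup.normalizer (H : Set L) → H ≠ ⊥ → (⁅H, G⁆).relIndex H = p) → ∀ H : Subgroup L, H ≤ N → G ≤ Subgroup.normalizer (H : Set L) → (∃ i ≤ n, H = Cfsg.iterCommutator N G i) ∧ N ≤ Subgroup.normalizer (H : Set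 L)) := by
  refine ⟨⟨fun hU => ?_, fun h H hH hGH hne =>
    CfsgLib.Uniserial.uniserial_of_card hN hG hGN (CfsgLib.Uniserial.card_iter_of_ne hN hG hGN hn h) hH hGH hne⟩,
    fun hU H hH hGH => ?_⟩
  · rcases Nat.eq_zero_or_pos n with h0 | h0
    · exact Or.inr h0
    · refine Or.inl fun e => ?_
      have := CfsgLib.Uniserial.card_iter_of_uniserial hGN hn hU (n - 1) (Nat.sub_le n 1)
      rw [e, Subgroup.card_bot] at this
      have : 1 < p ^ (n - (n - 1)) := Nat.one_lt_pow (by omega) (Fact.out : p.Prime).one_lt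
      omega
  · have hc := CfsgLib.Uniserial.card_iter_of_uniserial hGN hn hU
    obtain ⟨i, hi, rfl⟩ := CfsgLib.Uniserial.eq_iter hN hG hGN hc hH hGH
    exact ⟨⟨i, hi, rfl⟩, CfsgLib.Uniserial.iter_normal hN hG hGN hc i hi⟩

end Cfsg.Agent.S0663
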