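import Cfsg.Statements.S0668
import Mathlib
-- import your own Cfsg.Agent.* helpers here

set_option autoImplicit false
open Cfsg

namespace Cfsg.Agent.S0668

/-- The equivariant linear maps between the permutation modules of two finite `G`-sets form a space whose dimension is the number of `G`-orbits on the product of the two sets. -/
theorem result {G : Type*} [Group G] {K : Type*} [Field K] {Ω₁ Ω₂ : Type*} [Fintype Ω₁] [Fintype Ω₂] [MulAction G Ω₁] [MulAction G Ω₂] : Module.finrank K ((Cfsg.permRep K G Ω₁).linHom (Cfsg.permRep K G Ω₂)).invariants = Nat.card (MulAction.orbitRel.Quotient G (Ω₁ × Ω₂)) := by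
  classical
  set V := ((Cfsg.permRep K G Ω₁).linHom (Cfsg.permRep K G Ω₂)).invariants
  let Q := MulAction.orbitRel.Quotient G (Ω₁ × Ω₂)
  haveI : Fintype Q := Fintype.ofFinite Q
  have hrep1 : ∀ (g : G) (x : Ω₁), Cfsg.permRep K G Ω₁ g (Pi.single x 1) = Pi.single (g • x) 1 := by
    intro g x
    funext z
    show (Pi.single x (1 : K) : Ω₁ → K) (g⁻¹ • z) = _
    by_cases hz : z = g • x
    · subst hz; rw [inv_smul_smul, Pi.single_eq_same, Pi.single_eq_same]
    · rw [Pi.single_eq_of_ne hz, Pi.single_eq_of_ne (fun e => hz (by rw [← e, smul_inv_smul]))]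
  have hinv : ∀ f : V, ∀ (g : G) (x : Ω₁) (y : Ω₂),
      (f : (Ω₁ → K) →ₗ[K] (Ω₂ → K)) (Pi.single (g • x) 1) (g • y) = (f : (Ω₁ → K) →ₗ[K] (Ω₂ → K)) (Pi.single x 1) y := by
    intro f g x y
    have h := f.2 g
    have h1 := congrArg (fun F : (Ω₁ → K) →ₗ[K] (Ω₂ → K) => F (Pi.single (g • x) 1) (g • y)) h
    simp only [Representation.linHom_apply, LinearMap.comp_apply] at h1
    rw [hrep1, inv_smul_smul] at h1
    rw [← h1]
    show (f : (Ω₁ → K) →ₗ[K] (Ω₂ → K)) (Pi.single x 1) (g⁻¹ • g • y) = _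
    rw [inv_smul_smul]
  let F : (Q → K) →ₗ[K] ((Ω₁ → K) →ₗ[K] (Ω₂ → K)) :=
    { toFun := fun φ =>
        { toFun := fun v y => ∑ x, v x * φ (Quotient.mk'' (x, y))
          map_add' := fun v w => by funext y; simp [add_mul, Finset.sum_add_distrib]
          map_smul' := fun c v => by funext y; simp [mul_assoc, Finset.mul_sum] }
      map_add' := fun φ ψ => by ext v y; simp [mul_add, Finset.sum_add_distrib]
      map_smul' := fun c φ => by ext v y; simp [mul_left_comm, Finset.mul_sum] }
  have hFs : ∀ φ x y, F φ (Pi.single x 1) y = φ (Quotient.mk'' (x, y)) := by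
    intro φ x y
    show ∑ z, (Pi.single x (1 : K) : Ω₁ → K) z * _ = _
    rw [Finset.sum_eq_single x]
    · simp
    · intro z _ hz; simp [Pi.single_eq_of_ne hz]
    · simp
  have hFV : ∀ φ, F φ ∈ V := by
    intro φ g
    refine LinearMap.ext fun v => ?_
    funext y
    show ∑ x, (Cfsg.permRep K G Ω₁ g⁻¹ v) x * φ (Quotient.mk'' (x, g⁻¹ • y)) = ∑ x, v x * φ (Quotient.mk'' (x, y))
    refine Fintype.sum_equiv (MulAction.toPerm g) _ _ fun x => ?_
    show v ((g⁻¹)⁻¹ • x) * _ = v (g • x) * _
    rw [inv_inv]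
    refine congrArg (v (g • x) * φ ·) (Quotient.sound' ⟨g⁻¹, ?_⟩)
    exact Prod.ext (inv_smul_smul g x) rfl
  let F' : (Q → K) →ₗ[K] V := F.codRestrict V hFV
  have hbij : Function.Bijective F' := by
    constructor
    · intro φ ψ e
      funext q
      induction q using Quotient.inductionOn' with | h p => ?_
      rw [← hFs φ, ← hFs ψ]
      rw [show F φ = F ψ from congrArg Subtype.val e]
    · intro f
      refine ⟨fun q => Quotient.liftOn' q (fun p => (f : (Ω₁ → K) →ₗ[K] (Ω₂ → K)) (Pi.single p.1 1) p.2) ?_, ?_⟩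
      · rintro p q ⟨g, rfl⟩
        exact hinv f g q.1 q.2
      · refine Subtype.ext ?_
        refine LinearMap.pi_ext' fun x => LinearMap.ext_ring ?_
        funext y
        exact hFs _ x y
  rw [← LinearEquiv.finrank_eq (LinearEquiv.ofBijective F' hbij), Module.finrank_pi, Nat.card_eq_fintype_card]

end Cfsg.Agent.S0668
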