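import Cfsg.Statements.S0669

-- import your own Cfsg.Agent.* helpers here

set_option autoImplicit false
open Cfsg

namespace Cfsg.Agent.S0669

/-- The rank of a transitive action: orbits on ordered pairs correspond to orbits of a point stabiliser. -/
theorem result {G : Type*} [Group G] {Ω : Type*} [Finite Ω] [MulAction G Ω] [MulAction.IsPretransitive G Ω] (a : Ω) : Nat.card (MulAction.orbitRel.Quotient G (Ω × Ω)) = Nat.card (MulAction.orbitRel.Quotient (MulAction.stabilizer G a) Ω) := by
  classical
  let f : MulAction.orbitRel.Quotient (MulAction.stabilizer G a) Ω → MulAction.orbitRel.Quotient G (Ω × Ω) :=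
    Quotient.map' (fun x => (a, x)) (fun x y h => by
      obtain ⟨g, rfl⟩ := h
      exact ⟨(g : G), Prod.ext g.2 rfl⟩)
  refine (Nat.card_congr (Equiv.ofBijective f ⟨?_, ?_⟩)).symm
  · intro u v
    induction u using Quotient.inductionOn' with | h x => ?_
    induction v using Quotient.inductionOn' with | h y => ?_
    intro h
    have h' : (a, x) ∈ MulAction.orbit G (a, y) := Quotient.exact' h
    obtain ⟨g, hg⟩ := h'
    exact Quotient.sound' ⟨⟨g, congrArg Prod.fst hg⟩, congrArg Prod.snd hg⟩
  · intro u
    induction u using Quotient.inductionOn' with | h p => ?_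
    obtain ⟨g, hg⟩ := MulAction.exists_smul_eq G p.1 a
    exact ⟨Quotient.mk'' (g • p.2), Quotient.sound' ⟨g, Prod.ext hg rfl⟩⟩

end Cfsg.Agent.S0669
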