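import Cfsg.Statements.S0670
import Mathlib
-- import your own Cfsg.Agent.* helpers here

set_option autoImplicit false
open Cfsg

namespace Cfsg.Agent.S0670

/-- In characteristic `p`, the permutation module of a transitive action of degree `p ^ f` has the line of constant functions as its only irreducible submodule: every non-zero subrepresentation contains it. -/
theorem result {G : Type*} [Group G] [Finite G] {K : Type*} [Field K] {p f : ℕ} [Fact p.Prime] [CharP K p] {Ω : Type*} [Fintype Ω] [MulAction G Ω] [MulAction.IsPretransitive G Ω] (hf : 1 ≤ f) (hcard : Fintype.card Ω = p ^ f) (W : Subrepresentation (Cfsg.permRep K G Ω)) (hW : W.toSubmodule ≠ ⊥) : (Cfsg.permConstants K G Ω).toSubmodule ≤ W.toSubmodule := by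
  classical
  obtain ⟨w, hw, hw0⟩ := Submodule.exists_mem_ne_zero_of_ne_bot hW
  obtain ⟨P⟩ : Nonempty (Sylow p G) := inferInstance
  -- `P` is transitive
  have htrans : ∀ x y : Ω, ∃ g ∈ (P : Subgroup G), g • x = y := by
    intro x y
    have hS := MulAction.index_stabilizer_of_transitive G x
    rw [Nat.card_eq_fintype_card, hcard] at hS
    have h1 : p ^ f ∣ (MulAction.orbit (P : Subgroup G) x).ncard := by
      have h2 : (MulAction.stabilizer (P : Subgroup G) x).index = (MulAction.orbit (P : Subgroup G) x).ncard :=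
        MulAction.index_stabilizer _ _
      rw [← h2]
      -- compare orders
      have h3 := P.card_eq_multiplicity
      have h4 : Nat.card (MulAction.stabilizer (P : Subgroup G) x) ∣ p ^ ((Nat.card G).factorization p - f) := by
        have h5 := (MulAction.stabilizer G x).card_mul_index
        rw [hS] at h5
        obtain ⟨i, hi⟩ := (P.2.to_subgroup (MulAction.stabilizer (P : Subgroup G) x)).exists_card_eq
        rw [hi]
        refine Nat.pow_dvd_pow p ?_
        have h6 : p ^ i ∣ Nat.card (MulAction.stabilizer G x) := by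
          rw [← hi, ← Subgroup.card_map_of_injective (P : Subgroup G).subtype_injective]
          refine Subgroup.card_dvd_of_le ?_
          rintro _ ⟨z, hz, rfl⟩
          exact hz
        have h7 : p ^ (i + f) ∣ Nat.card G := by
          rw [← h5, pow_add]; exact mul_dvd_mul h6 dvd_rfl
        have := (Nat.Prime.pow_dvd_iff_le_factorization Fact.out Nat.card_pos.ne').mp h7
        omega
      have h8 := (MulAction.stabilizer (P : Subgroup G) x).card_mul_index
      have hfle : f ≤ (Nat.card G).factorization p := (Nat.Prime.pow_dvd_iff_le_factorization Fact.out Nat.card_pos.ne').mp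
        (hS ▸ Subgroup.index_dvd_card _)
      rw [h3] at h8
      have h9 : p ^ ((Nat.card G).factorization p - f) * p ^ f ∣
          p ^ ((Nat.card G).factorization p - f) * (MulAction.stabilizer (P : Subgroup G) x).index := by
        rw [← pow_add, Nat.sub_add_cancel hfle]
        nth_rewrite 1 [← h8]
        exact mul_dvd_mul_right h4 _
      exact Nat.dvd_of_mul_dvd_mul_left (pow_pos (Fact.out : p.Prime).pos _) h9
    have hle : (MulAction.orbit (P : Subgroup G) x).ncard ≤ p ^ f := by
      rw [← hcard, ← Nat.card_eq_fintype_card, ← Set.ncard_univ]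
      exact Set.ncard_le_ncard (Set.subset_univ _) (Set.toFinite _)
    have huniv : MulAction.orbit (P : Subgroup G) x = Set.univ := by
      refine Set.eq_of_subset_of_ncard_le (Set.subset_univ _) ?_ (Set.toFinite _)
      rw [Set.ncard_univ, Nat.card_eq_fintype_card, hcard]
      exact Nat.le_of_dvd ((Set.ncard_pos (Set.toFinite _)).mpr ⟨x, MulAction.mem_orbit_self x⟩) h1
    have hy : y ∈ MulAction.orbit (P : Subgroup G) x := huniv ▸ Set.mem_univ y
    obtain ⟨⟨g, hg⟩, rfl⟩ := hy
    exact ⟨g, hg, rfl⟩
  -- a non-zero vector of `W` fixed by `P`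
  let ρ := Cfsg.permRep K G Ω
  let S : AddSubgroup (Ω → K) := AddSubgroup.closure (Set.range fun g : (P : Subgroup G) => ρ g w)
  have hSW : ∀ v ∈ S, v ∈ W.toSubmodule := fun v hv => by
    refine AddSubgroup.closure_induction (fun u hu => ?_) W.toSubmodule.zero_mem
      (fun a b _ _ ha hb => W.toSubmodule.add_mem ha hb) (fun a _ ha => W.toSubmodule.neg_mem ha) hv
    obtain ⟨g, rfl⟩ := hu
    exact W.apply_mem_toSubmodule (g : G) hw
  have hSP : ∀ g : (P : Subgroup G), ∀ v ∈ S, ρ g v ∈ S := fun g v hv => by
    refine AddSubgroup.closure_induction (fun u hu => ?_) (by rw [map_zero]; exact S.zero_mem)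
      (fun a b _ _ ha hb => by rw [map_add]; exact S.add_mem ha hb) (fun a _ ha => by rw [map_neg]; exact S.neg_mem ha) hv
    obtain ⟨h, rfl⟩ := hu
    refine AddSubgroup.subset_closure ⟨g * h, ?_⟩
    show ρ ((g : G) * h) w = ρ (g : G) (ρ (h : G) w)
    rw [map_mul]; rfl
  have hexp : ∀ v : Ω → K, p • v = 0 := fun v => by
    funext x; simp [CharP.cast_eq_zero K p]
  haveI : Module (ZMod p) S := AddCommGroup.zmodModule fun v => Subtype.ext (hexp v)
  haveI : AddGroup.FG S := (AddGroup.fg_iff_addSubgroup_fg S).mpr
    ((AddSubgroup.fg_iff S).mpr ⟨_, rfl, Set.finite_range _⟩)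
  haveI : Module.Finite ℤ S := Module.Finite.iff_addGroup_fg.mpr inferInstance
  haveI : Module.Finite (ZMod p) S := Module.Finite.of_restrictScalars_finite ℤ (ZMod p) S
  haveI : Finite S := Module.finite_of_finite (ZMod p)
  letI : MulAction (P : Subgroup G) S :=
    { smul := fun g v => ⟨ρ g v, hSP g v v.2⟩
      one_smul := fun v => Subtype.ext (by show ρ ((1 : (P : Subgroup G)) : G) (v : Ω → K) = v; simp)
      mul_smul := fun g h v => Subtype.ext (by
        show ρ ((g : G) * h) (v : Ω → K) = ρ g (ρ h v); rw [map_mul]; rfl) }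
  have hwS : w ∈ S := AddSubgroup.subset_closure ⟨1, by show ρ ((1 : (P : Subgroup G)) : G) w = w; simp⟩
  have hd : p ∣ Nat.card S := by
    have ho : addOrderOf (⟨w, hwS⟩ : S) = p := addOrderOf_eq_prime (Subtype.ext (hexp w)) fun e => hw0 (congrArg Subtype.val e)
    rw [← ho]
    exact addOrderOf_dvd_natCard _
  obtain ⟨v, hv, hv0⟩ := P.2.exists_fixed_point_of_prime_dvd_card_of_fixed_point S hd (a := (0 : S))
    (fun g => Subtype.ext (map_zero _))
  have hconst : ∀ x y : Ω, (v : Ω → K) x = (v : Ω → K) y := by
    intro x y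
    obtain ⟨g, hg, rfl⟩ := htrans x y
    have h1 : (fun z => (v : Ω → K) (g⁻¹ • z)) = (v : Ω → K) := congrArg Subtype.val (hv ⟨g, hg⟩)
    have h2 := congrFun h1 (g • x)
    simp only [inv_smul_smul] at h2
    exact h2
  obtain ⟨x, hx⟩ : ∃ x, (v : Ω → K) x ≠ 0 := by
    by_contra hno
    push Not at hno
    exact hv0 (Subtype.ext (funext hno)).symm
  show Submodule.span K {fun _ => (1 : K)} ≤ W.toSubmodule
  rw [Submodule.span_le, Set.singleton_subset_iff]
  have h2 : (fun _ : Ω => (1 : K)) = ((v : Ω → K) x)⁻¹ • (v : Ω → K) := funext fun y => by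
    simp [hconst y x, hx]
  rw [h2]
  exact W.toSubmodule.smul_mem _ (hSW v v.2)

end Cfsg.Agent.S0670
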