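import Cfsg.Statements.S0671
import Mathlib
-- import your own Cfsg.Agent.* helpers here

set_option autoImplicit false
open Cfsg

namespace Cfsg.Agent.S0671

/-- If the heart of the permutation module in characteristic `p` of a transitive action of degree `p ^ f` has no trivial composition factor, the action is doubly transitive. The hypothesis is phrased without composition series: no invariant subspaces `W < W'` between the constants and the sum-zero functions with trivial action on the quotient. -/
theorem result {G : Type*} [Group G] [Finite G] {K : Type*} [Field K] {p f : ℕ} [Fact p.Prime] [CharP K p] {Ω : Type*} [Fintype Ω] [MulAction G Ω] [MulAction.IsPretransitive G Ω] (hf : 1 ≤ f) (hcard : Fintype.card Ω = p ^ f) (h : ∀ W W' : Subrepresentation (Cfsg.permRep K G Ω), (Cfsg.permConstants K G Ω).toSubmodule ≤ W.toSubmodule → W.toSubmodule < W'.toSubmodule → W'.toSubmodule ≤ (Cfsg.permSumZero K G Ω).toSubmodule → ∃ g : G, ∃ v ∈ W'.toSubmodule, Cfsg.permRep K G Ω g v - v ∉ W.toSubmodule) : MulAction.IsMultiplyPretransitive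 G Ω 2 := by
  classical
  have hp : p.Prime := Fact.out
  haveI : Finite Ω := Finite.of_fintype Ω
  have hne : Nonempty Ω := Fintype.card_pos_iff.1 (hcard ▸ pow_pos hp.pos f)
  by_contra h2
  rw [MulAction.is_two_pretransitive_iff] at h2
  push Not at h2
  obtain ⟨a', b', c', d', hab, hcd, hno⟩ := h2
  obtain ⟨g₀, hg₀⟩ := MulAction.exists_smul_eq G a' c'
  set a := c' with ha
  set b := g₀ • b' with hb
  have hab' : b ≠ a := fun e => hab (smul_left_cancel g₀ (hg₀.trans e.symm))
  have hnoR : ∀ g : G, g • a = a → g • b ≠ d' := fun g hga hgb =>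
    hno (g * g₀) (by rw [mul_smul, hg₀, hga]) (by rw [mul_smul]; exact hgb)
  let R : Ω → Ω → Prop := fun x y => ∃ g : G, g • a = y ∧ g • b = x
  have hRsmul : ∀ (g : G) x y, R (g • x) (g • y) ↔ R x y := by
    intro g x y
    constructor
    · rintro ⟨h, h1, h2⟩
      exact ⟨g⁻¹ * h, by rw [mul_smul, h1, inv_smul_smul], by rw [mul_smul, h2, inv_smul_smul]⟩
    · rintro ⟨h, h1, h2⟩
      exact ⟨g * h, by rw [mul_smul, h1], by rw [mul_smul, h2]⟩
  let kin : Ω → ℕ := fun y => (Finset.univ.filter fun x => R x y).card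
  let kout : Ω → ℕ := fun x => (Finset.univ.filter fun y => R x y).card
  have hkin : ∀ y, kin y = kin a := by
    intro y
    obtain ⟨g, rfl⟩ := MulAction.exists_smul_eq G a y
    exact (Finset.card_nbij' (fun x => g • x) (fun x => g⁻¹ • x)
      (fun x hx => by simpa [hRsmul] using hx)
      (fun x hx => by
        simp only [Finset.coe_filter, Finset.mem_univ, true_and, Set.mem_setOf_eq] at hx ⊢
        rw [← hRsmul g, smul_inv_smul]; exact hx)
      (fun x _ => inv_smul_smul g x) (fun x _ => smul_inv_smul g x)).symm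
  have hkout : ∀ x, kout x = kout a := by
    intro x
    obtain ⟨g, rfl⟩ := MulAction.exists_smul_eq G a x
    exact (Finset.card_nbij' (fun y => g • y) (fun y => g⁻¹ • y)
      (fun y hy => by simpa [hRsmul] using hy)
      (fun y hy => by
        simp only [Finset.coe_filter, Finset.mem_univ, true_and, Set.mem_setOf_eq] at hy ⊢
        rw [← hRsmul g, smul_inv_smul]; exact hy)
      (fun y _ => inv_smul_smul g y) (fun y _ => smul_inv_smul g y)).symm
  have hkio : kout a = kin a := by
    have h1 : ∑ x, kout x = ∑ y, kin y := by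
      simp only [kout, kin, Finset.card_filter]
      exact Finset.sum_comm
    rw [Finset.sum_congr rfl fun x _ => hkout x, Finset.sum_congr rfl fun y _ => hkin y,
      Finset.sum_const, Finset.sum_const, smul_eq_mul, smul_eq_mul] at h1
    exact Nat.eq_of_mul_eq_mul_left (Finset.card_pos.2 ⟨a, Finset.mem_univ a⟩) h1
  set k : ℕ := kin a with hk
  let B : (Ω → K) →ₗ[K] (Ω → K) :=
    { toFun := fun f y => (∑ x, if R x y then f x else 0) - (k : K) * f y
      map_add' := fun f f' => funext fun y => by
        simp only [Pi.add_apply]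
        rw [show (∑ x, if R x y then f x + f' x else (0 : K)) =
          (∑ x, if R x y then f x else 0) + ∑ x, if R x y then f' x else 0 from by
            rw [← Finset.sum_add_distrib]; exact Finset.sum_congr rfl fun x _ => by split_ifs <;> simp]
        ring
      map_smul' := fun r f => funext fun y => by
        simp only [Pi.smul_apply, smul_eq_mul, RingHom.id_apply, mul_sub, Finset.mul_sum]
        congr 1
        · exact Finset.sum_congr rfl fun x _ => by split_ifs <;> simp
        · ring }
  have hBg : ∀ (g : G) f, B (Cfsg.permRep K G Ω g f) = Cfsg.permRep K G Ω g (B f) := by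
    intro g f
    funext y
    show (∑ x, if R x y then f (g⁻¹ • x) else 0) - (k : K) * f (g⁻¹ • y) =
      (∑ x, if R x (g⁻¹ • y) then f x else 0) - (k : K) * f (g⁻¹ • y)
    congr 1
    exact Fintype.sum_equiv (MulAction.toPerm g⁻¹) _ _ fun x => by
      simp only [MulAction.toPerm_apply]
      exact if_congr (hRsmul g⁻¹ x y).symm rfl rfl
  have hBsum : ∀ f, ∑ y, B f y = 0 := by
    intro f
    show ∑ y, ((∑ x, if R x y then f x else 0) - (k : K) * f y) = 0
    rw [Finset.sum_sub_distrib, Finset.sum_comm, ← Finset.mul_sum, sub_eq_zero, Finset.mul_sum]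
    refine Finset.sum_congr rfl fun x _ => ?_
    rw [← Finset.sum_filter, Finset.sum_const, nsmul_eq_mul]
    show (kout x : K) * f x = _
    rw [hkout, hkio]
  have hB1 : B (fun _ => 1) = 0 := by
    funext y
    show (∑ x, if R x y then (1 : K) else 0) - (k : K) * 1 = 0
    rw [Finset.sum_boole]
    show (kin y : K) - _ = 0
    rw [hkin, mul_one, sub_self]
  obtain ⟨P⟩ := (inferInstance : Nonempty (Sylow p G))
  have hPtrans : ∀ x : Ω, ∃ t : (P : Subgroup G), (t : G) • a = x := by
    have h1 : p ^ f ∣ Nat.card (MulAction.orbit (P : Subgroup G) a) := by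
      set Pa : Subgroup G := (P : Subgroup G) ⊓ MulAction.stabilizer G a
      have e1 : Pa.index = (MulAction.stabilizer G a).index * Pa.relIndex (MulAction.stabilizer G a) := by
        rw [mul_comm]; exact (Subgroup.relIndex_mul_index inf_le_right).symm
      have e2 : Pa.index = Pa.relIndex (P : Subgroup G) * (P : Subgroup G).index :=
        (Subgroup.relIndex_mul_index inf_le_left).symm
      rw [MulAction.index_stabilizer_of_transitive, Nat.card_eq_fintype_card, hcard] at e1
      have e3 : Pa.relIndex (P : Subgroup G) = Nat.card (MulAction.orbit (P : Subgroup G) a) := by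
        rw [Nat.card_coe_set_eq, ← MulAction.index_stabilizer, Subgroup.inf_relIndex_left]
        rfl
      refine (Nat.Coprime.pow_left f (hp.coprime_iff_not_dvd.2 P.not_dvd_index)).dvd_of_dvd_mul_right ?_
      rw [← e3, ← e2]
      exact ⟨_, e1⟩
    have hall : Nat.card (MulAction.orbit (P : Subgroup G) a) = Nat.card Ω := by
      refine le_antisymm (Nat.card_le_card_of_injective _ Subtype.val_injective) ?_
      rw [Nat.card_eq_fintype_card (α := Ω), hcard]
      haveI : Nonempty (MulAction.orbit (P : Subgroup G) a) := ⟨⟨a, MulAction.mem_orbit_self a⟩⟩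
      exact Nat.le_of_dvd Nat.card_pos h1
    intro x
    have : (⟨x, trivial⟩ : (Set.univ : Set Ω)).1 ∈ MulAction.orbit (P : Subgroup G) a := by
      rw [Set.eq_of_subset_of_ncard_le (Set.subset_univ (MulAction.orbit (P : Subgroup G) a))
        (by rw [Set.ncard_univ, ← Nat.card_coe_set_eq, hall]) Set.finite_univ]
      trivial
    exact this
  set S := (Cfsg.permSumZero K G Ω).toSubmodule
  -- non-zero invariant submodules contain the constants
  have F1 : ∀ U : Submodule K (Ω → K), (∀ g : G, ∀ v ∈ U, Cfsg.permRep K G Ω g v ∈ U) → U ≠ ⊥ →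
      (fun _ => (1 : K)) ∈ U := by
    intro U hU hne
    obtain ⟨u, hu, hu0⟩ := U.exists_mem_ne_zero_of_ne_bot hne
    haveI : Fintype (P : Subgroup G) := Fintype.ofFinite _
    let Φ : (↥(P : Subgroup G) → ZMod p) →+ (Ω → K) :=
      { toFun := fun c => ∑ t : (P : Subgroup G), (ZMod.castHom (dvd_refl p) K (c t)) • Cfsg.permRep K G Ω (t : G) u
        map_zero' := by simp
        map_add' := fun c c' => by simp [add_smul, Finset.sum_add_distrib] }
    letI : MulAction (P : Subgroup G) Φ.range :=
      { smul := fun t v => ⟨Cfsg.permRep K G Ω (t : G) v.1, by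
          obtain ⟨c, hc⟩ := v.2
          refine ⟨fun s => c (t⁻¹ * s), ?_⟩
          rw [← hc]
          show ∑ s : (P : Subgroup G), _ = Cfsg.permRep K G Ω (t : G) (∑ s : (P : Subgroup G), _)
          rw [map_sum]
          symm
          refine Fintype.sum_equiv (Equiv.mulLeft t) _ _ fun s => ?_
          simp only [Equiv.coe_mulLeft, inv_mul_cancel_left, map_smul, Subgroup.coe_mul, map_mul]
          rfl⟩
        one_smul := fun v => Subtype.ext (by
          show Cfsg.permRep K G Ω ((1 : (P : Subgroup G)) : G) v.1 = v.1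
          simp)
        mul_smul := fun s t v => Subtype.ext (by
          show Cfsg.permRep K G Ω ((s * t : (P : Subgroup G)) : G) v.1 =
            Cfsg.permRep K G Ω (s : G) (Cfsg.permRep K G Ω (t : G) v.1)
          rw [Subgroup.coe_mul, map_mul]; rfl) }
    haveI : Finite Φ.range := Finite.of_surjective Φ.rangeRestrict Φ.rangeRestrict_surjective
    have hu' : u ∈ Φ.range := ⟨Pi.single 1 1, by
      show ∑ t : (P : Subgroup G), _ = u
      rw [Finset.sum_eq_single 1 (fun t _ ht => by simp [Pi.single_eq_of_ne ht]) (by simp)]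
      simp⟩
    have hdvd : p ∣ Nat.card Φ.range := by
      have h1 : (⟨u, hu'⟩ : Φ.range) ≠ 0 := fun e => hu0 (congrArg Subtype.val e)
      have h2 : addOrderOf (⟨u, hu'⟩ : Φ.range) = p := by
        refine addOrderOf_eq_prime (Subtype.ext ?_) h1
        rw [AddSubmonoidClass.coe_nsmul]
        funext x
        simp
      have h3 := addOrderOf_dvd_natCard (G := Φ.range) ⟨u, hu'⟩
      rwa [h2] at h3
    have h0fix : (0 : Φ.range) ∈ MulAction.fixedPoints (P : Subgroup G) Φ.range := fun t =>
      Subtype.ext (map_zero (Cfsg.permRep K G Ω (t : G)))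
    obtain ⟨v, hv, hv0⟩ := P.2.exists_fixed_point_of_prime_dvd_card_of_fixed_point Φ.range hdvd h0fix
    have hvU : (v : Ω → K) ∈ U := by
      obtain ⟨c, hc⟩ := v.2
      rw [← hc]
      exact Submodule.sum_mem _ fun t _ => U.smul_mem _ (hU _ u hu)
    have hconst : ∀ x, (v : Ω → K) x = (v : Ω → K) a := by
      intro x
      obtain ⟨t, rfl⟩ := hPtrans x
      have := congrFun (congrArg Subtype.val (hv t)) ((t : G) • a)
      change (v : Ω → K) ((t : G)⁻¹ • (t : G) • a) = _ at this
      rw [inv_smul_smul] at this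
      exact this.symm
    have hva : (v : Ω → K) a ≠ 0 := fun e => hv0 (Subtype.ext (funext fun x => by
      rw [hconst x, e]; rfl))
    have e : (fun _ => (1 : K)) = ((v : Ω → K) a)⁻¹ • (v : Ω → K) := funext fun x => by
      rw [Pi.smul_apply, smul_eq_mul, hconst x, inv_mul_cancel₀ hva]
    rw [e]
    exact U.smul_mem _ hvU
  have hS1 : (fun _ => (1 : K)) ∈ S := by
    show ∑ _x : Ω, (1 : K) = 0
    rw [Finset.sum_const, Finset.card_univ, hcard, nsmul_eq_mul, mul_one, Nat.cast_pow,
      CharP.cast_eq_zero, zero_pow (by omega)]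
  have hbne : B ≠ 0 := by
    intro e
    have h1 : B (Pi.single b 1) a = 0 := by rw [e]; rfl
    change (∑ x, if R x a then (Pi.single b (1 : K) : Ω → K) x else 0) - (k : K) * (Pi.single b (1 : K) : Ω → K) a = 0 at h1
    rw [Finset.sum_eq_single b, if_pos ⟨1, one_smul G a, one_smul G b⟩, Pi.single_eq_same,
      Pi.single_eq_of_ne hab'.symm, mul_zero, sub_zero] at h1
    · exact one_ne_zero h1
    · intro x _ hx; simp [Pi.single_eq_of_ne hx]
    · simp
  by_cases hW : S.map B = ⊥
  · -- `B` kills the sum-zero functions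
    have hS0 : (Pi.single b (1 : K) : Ω → K) - Pi.single d' 1 ∈ S := by
      show ∑ x, ((Pi.single b (1 : K) : Ω → K) x - (Pi.single d' 1 : Ω → K) x) = 0
      simp [Finset.sum_sub_distrib]
    have h1 : B ((Pi.single b (1 : K) : Ω → K) - (Pi.single d' 1 : Ω → K)) = 0 :=
      (Submodule.eq_bot_iff _).1 hW _ ⟨_, hS0, rfl⟩
    have h2 := congrFun h1 a
    change (∑ x, if R x a then ((Pi.single b (1 : K) : Ω → K) - (Pi.single d' 1 : Ω → K)) x else 0) -
      (k : K) * ((Pi.single b (1 : K) : Ω → K) - (Pi.single d' 1 : Ω → K)) a = 0 at h2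
    rw [Finset.sum_eq_single b] at h2
    · rw [if_pos ⟨1, one_smul G a, one_smul G b⟩, Pi.sub_apply, Pi.sub_apply, Pi.single_eq_same,
        Pi.single_eq_of_ne hab'.symm, Pi.single_eq_of_ne hcd, sub_zero, mul_zero, sub_zero,
        Pi.single_eq_of_ne] at h2
      · simp at h2
      · intro e
        exact hnoR 1 (one_smul G a) (by rw [one_smul, e])
    · intro x _ hx
      rcases eq_or_ne x d' with rfl | hxd
      · rw [if_neg]
        rintro ⟨g, hg1, hg2⟩
        exact hnoR g hg1 hg2
      · simp [Pi.single_eq_of_ne hx, Pi.single_eq_of_ne hxd]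
    · simp
  -- the two subrepresentations
  let W : Subrepresentation (Cfsg.permRep K G Ω) := ⟨S.map B, fun g v hv => by
    obtain ⟨s, hs, rfl⟩ := hv
    exact ⟨_, (Cfsg.permSumZero K G Ω).apply_mem_toSubmodule g hs, hBg g s⟩⟩
  let W' : Subrepresentation (Cfsg.permRep K G Ω) := ⟨LinearMap.range B, fun g v hv => by
    obtain ⟨s, rfl⟩ := hv
    exact ⟨_, hBg g s⟩⟩
  have hCW : (Cfsg.permConstants K G Ω).toSubmodule ≤ W.toSubmodule :=
    (Submodule.span_singleton_le_iff_mem _ _).2 (F1 _ (fun g v hv => W.apply_mem_toSubmodule g hv) hW)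
  have hlt : W.toSubmodule < W'.toSubmodule := by
    refine lt_of_le_of_ne (LinearMap.map_le_range) fun e => hbne ?_
    -- the kernel is everything
    set U := LinearMap.ker B
    obtain ⟨s, hs, hse⟩ : B (Pi.single a 1) ∈ S.map B := by
      show B (Pi.single a 1) ∈ W.toSubmodule
      rw [e]; exact ⟨_, rfl⟩
    set w : Ω → K := Pi.single a 1 - s
    have hwU : w ∈ U := by
      show B w = 0
      rw [map_sub, hse, sub_self]
    by_contra hB0
    let D : Submodule K (Ω → K) :=
      { carrier := {z | ∀ u ∈ U, ∑ x, z x * u x = 0}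
        add_mem' := fun {z z'} hz hz' u hu => by
          simp [add_mul, Finset.sum_add_distrib, hz u hu, hz' u hu]
        zero_mem' := fun u _ => by simp
        smul_mem' := fun r z hz u hu => by
          simp [mul_assoc, ← Finset.mul_sum, hz u hu] }
    have hDinv : ∀ g : G, ∀ v ∈ D, Cfsg.permRep K G Ω g v ∈ D := by
      intro g v hv u hu
      have hu' : Cfsg.permRep K G Ω g⁻¹ u ∈ U := by
        show B _ = 0
        rw [hBg, show B u = 0 from hu, map_zero]
      refine Eq.trans ?_ (hv _ hu')
      refine Fintype.sum_equiv (MulAction.toPerm g⁻¹) _ _ fun x => ?_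
      show v (g⁻¹ • x) * u x = v (g⁻¹ • x) * u ((g⁻¹)⁻¹ • g⁻¹ • x)
      rw [inv_smul_smul]
    have hDne : D ≠ ⊥ := by
      have hUt : U ≠ ⊤ := fun e' => hB0 (LinearMap.ker_eq_top.1 e')
      obtain ⟨φ, hφ, hφU⟩ := Submodule.exists_le_ker_of_lt_top U (lt_top_iff_ne_top.2 hUt)
      intro hD
      apply hφ
      have hmem : (fun x => φ (Pi.single x 1)) ∈ D := by
        intro u hu
        refine Eq.trans ?_ (hφU hu : φ u = 0)
        conv_rhs => rw [pi_eq_sum_univ u, map_sum]
        refine Finset.sum_congr rfl fun x _ => ?_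
        rw [map_smul, smul_eq_mul, mul_comm]
        congr 1
        show φ _ = φ _
        congr 1
        funext y
        simp [Pi.single_apply, eq_comm]
      rw [hD, Submodule.mem_bot] at hmem
      exact LinearMap.pi_ext' fun x => LinearMap.ext_ring (by simpa using congrFun hmem x)
    have h1 := F1 D hDinv hDne w hwU
    have h2 : ∑ x, s x = 0 := hs
    simp [w, Finset.sum_sub_distrib, h2] at h1
  obtain ⟨g, v, hv, hgv⟩ := h W W' hCW hlt (fun v hv => by
    obtain ⟨s, rfl⟩ := hv
    exact hBsum s)
  obtain ⟨u, rfl⟩ := hv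
  apply hgv
  refine ⟨Cfsg.permRep K G Ω g u - u, ?_, by rw [map_sub, hBg]⟩
  show ∑ x, (u (g⁻¹ • x) - u x) = 0
  rw [Finset.sum_sub_distrib, sub_eq_zero]
  exact Fintype.sum_equiv (MulAction.toPerm g⁻¹) _ _ fun x => rfl

end Cfsg.Agent.S0671
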