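import Cfsg.Statements.S0677
import Mathlib
import Cfsg.Agent.Lib.Perm.PrimeDegree
import Cfsg.Agent.Lib.Perm.CycleCoords
-- import your own Cfsg.Agent.* helpers here

set_option autoImplicit false
open Cfsg

namespace Cfsg.Agent.S0677

open scoped Pointwise

/-- A symmetric difference set in `ZMod p` is trivial. -/
theorem symmetricDifferenceSet {p : ℕ} [Fact p.Prime] (hp2 : p ≠ 2) (D : Finset (ZMod p)) (N : ℕ)
    (hN : ∀ d : ZMod p, d ≠ 0 → (D.filter fun x => x + d ∈ D).card = N) (hD : D.Nonempty) (hDu : D ≠ Finset.univ)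
    (i₀ : ZMod p) (hneg : ∀ x, -x ∈ D ↔ x - i₀ ∈ D) : ∃ z, (∀ x, x ∈ D ↔ x = z) ∨ (∀ x, x ∈ D ↔ x ≠ z) := by
  classical
  have h2 : (2 : ZMod p) ≠ 0 := by
    have := (ZMod.natCast_eq_zero_iff 2 p).not.2 (fun hd => hp2 ((Nat.prime_dvd_prime_iff_eq Fact.out Nat.prime_two).1 hd))
    exact_mod_cast this
  -- the centre of symmetry
  set z : ZMod p := -i₀ / 2 with hz
  have hz2 : z + z = -i₀ := by rw [hz]; field_simp; ring
  have hsym : ∀ x, x ∈ D → z + z - x ∈ D := fun x hx => by
    have := (hneg (-x)).1 (by rwa [neg_neg])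
    rw [hz2]; convert this using 1; ring
  have hpar : ∀ y, y ≠ z → (y ∈ D ↔ Odd N) := fun y hy => by
    set d : ZMod p := (z - y) + (z - y) with hd
    have hd0 : d ≠ 0 := by
      rw [hd, ← two_mul]; exact mul_ne_zero h2 (sub_ne_zero.2 (Ne.symm hy))
    have hyd : y + d = z + z - y := by rw [hd]; ring
    let S := D.filter fun x => x + d ∈ D
    let ι : S → S := fun x => ⟨z + z - (x.1 + d), by
      obtain ⟨hx1, hx2⟩ := Finset.mem_filter.1 x.2
      refine Finset.mem_filter.2 ⟨hsym _ hx2, ?_⟩
      have := hsym _ hx1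
      convert this using 1; ring⟩
    have hinv : Function.Involutive ι := fun x => Subtype.ext (show z + z - (z + z - (x.1 + d) + d) = x.1 by ring)
    have hfix : ∀ x : S, x ∈ (hinv.toPerm ι).supportᶜ ↔ x.1 = y := fun x => by
      rw [Finset.mem_compl, Equiv.Perm.mem_support, not_not, Function.Involutive.coe_toPerm, Subtype.ext_iff]
      constructor
      · intro h
        have h' : (2 : ZMod p) * (x.1 - y) = 0 := by
          have : z + z - (x.1 + d) = x.1 := h
          rw [hd] at this
          linear_combination -this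
        exact sub_eq_zero.1 ((mul_eq_zero.1 h').resolve_left h2)
      · intro h
        show z + z - (x.1 + d) = x.1
        rw [h, hd]; ring
    have hmod : (hinv.toPerm ι).supportᶜ.card ≡ Fintype.card S [MOD 2] :=
      (Equiv.Perm.card_compl_support_modEq (n := 1) (p := 2) (Equiv.ext fun x => by
        rw [pow_one, sq, Equiv.Perm.mul_apply]; exact hinv x))
    rw [Fintype.card_coe, hN d hd0] at hmod
    by_cases hyD : y ∈ D
    · have hyS : y ∈ S := Finset.mem_filter.2 ⟨hyD, hyd ▸ hsym y hyD⟩
      rw [show (hinv.toPerm ι).supportᶜ = {⟨y, hyS⟩} from Finset.ext fun x => by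
        rw [hfix, Finset.mem_singleton, Subtype.ext_iff], Finset.card_singleton] at hmod
      exact iff_of_true hyD (Nat.odd_iff.2 hmod.symm)
    · rw [show (hinv.toPerm ι).supportᶜ = ∅ from Finset.eq_empty_of_forall_notMem fun x hx =>
        hyD ((hfix x).1 hx ▸ (Finset.mem_filter.1 x.2).1), Finset.card_empty] at hmod
      exact iff_of_false hyD (fun ho => by have := Nat.odd_iff.1 ho; simp [Nat.ModEq] at hmod; omega)
  by_cases hodd : Odd N
  · refine ⟨z, Or.inr fun x => ⟨fun hx e => hDu ?_, fun hx => (hpar x hx).2 hodd⟩⟩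
    refine Finset.eq_univ_of_forall fun y => ?_
    rcases eq_or_ne y z with rfl | hy
    · exact e ▸ hx
    · exact (hpar y hy).2 hodd
  · refine ⟨z, Or.inl fun x => ⟨fun hx => by_contra fun hne => hodd ((hpar x hne).1 hx), fun hx => ?_⟩⟩
    obtain ⟨y, hy⟩ := hD
    by_cases hyz : y = z
    · rwa [hx, ← hyz]
    · exact absurd ((hpar y hyz).1 hy) hodd

/-- A subgroup of prime index fixing a point is the stabiliser of that point. -/
theorem eqStabilizer {α : Type*} {G : Type*} [Group G] [Finite G] [MulAction G α] [MulAction.IsPretransitive G α]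
    (H : Subgroup G) (a : α) (hidx : H.index = Nat.card α) (h : ∀ g ∈ H, g • a = a) :
    H = MulAction.stabilizer G a := by
  have hle : H ≤ MulAction.stabilizer G a := fun g hg => h g hg
  refine le_antisymm hle (Subgroup.relIndex_eq_one.1 ?_)
  have h1 := Subgroup.relIndex_mul_index hle
  rw [MulAction.index_stabilizer_of_transitive, hidx] at h1
  exact (Nat.mul_eq_right (hidx ▸ Subgroup.index_ne_zero_of_finite)).1 h1

/-- In a transitive permutation group of prime degree `p` whose Sylow `p`-normaliser has even order, the point stabilisers are the only subgroups of index `p`. -/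
theorem result {α : Type*} [Fintype α] [DecidableEq α] {p : ℕ} [Fact p.Prime] (hα : Fintype.card α = p) (G : Subgroup (Equiv.Perm α)) [MulAction.IsPretransitive G α] (P : Sylow p G) (heven : Even (Nat.card (Subgroup.normalizer ((P : Subgroup G) : Set G)))) (H : Subgroup G) (hH : H.index = p) : ∃ a : α, H = MulAction.stabilizer G a := by
  classical
  have hp : p.Prime := Fact.out
  have hαn : Nat.card α = p := by rw [Nat.card_eq_fintype_card, hα]
  obtain ⟨a₀⟩ : Nonempty α := Fintype.card_pos_iff.1 (hα ▸ hp.pos)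
  suffices h : ∃ a : α, ∀ g ∈ H, g • a = a by
    obtain ⟨a, ha⟩ := h
    exact ⟨a, eqStabilizer H a (hH.trans hαn.symm) ha⟩
  rcases eq_or_ne p 2 with hp2 | hp2
  · refine ⟨a₀, fun g hg => ?_⟩
    have h1 : Nat.card G ∣ 2 := by
      have := Subgroup.card_subgroup_dvd_card G
      rwa [Nat.card_eq_fintype_card (α := Equiv.Perm α), Fintype.card_perm, hα, hp2] at this
    have h2 := Subgroup.card_mul_index H
    rw [hH, hp2] at h2
    have h3 := Nat.le_of_dvd two_pos h1
    have : H = ⊥ := Subgroup.card_eq_one.1 (by have := Nat.card_pos (α := H); omega)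
    rw [this, Subgroup.mem_bot] at hg
    rw [hg, one_smul]
  obtain ⟨σ, t, e, hσ, he, ht⟩ := CfsgLib.CycleCoords.exists_reflection hα hp2 G P heven
  have hpH : ¬ p ∣ Nat.card H := fun hd => by
    have h2 := Subgroup.card_mul_index H
    rw [hH] at h2
    have h3 : p ^ 2 ∣ p.factorial := by
      have := Subgroup.card_subgroup_dvd_card G
      rw [Nat.card_eq_fintype_card (α := Equiv.Perm α), Fintype.card_perm, hα, ← h2] at this
      exact (sq p).symm ▸ ((Nat.mul_dvd_mul_right hd p).trans this)
    rw [sq, ← Nat.mul_factorial_pred hp.ne_zero, Nat.mul_dvd_mul_iff_left hp.pos, hp.dvd_factorial] at h3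
    have := hp.pos
    omega
  by_cases h2 : MulAction.IsMultiplyPretransitive G α 2
  · haveI := h2
    let O : Set α := MulAction.orbit H a₀
    have hOne : O.Nonempty := ⟨a₀, MulAction.mem_orbit_self a₀⟩
    have hOu : O ≠ Set.univ := fun hu => by
      refine hpH ?_
      have h3 := MulAction.card_orbit_mul_card_stabilizer_eq_card_group H a₀
      rw [← Nat.card_eq_fintype_card, ← Nat.card_eq_fintype_card, ← Nat.card_eq_fintype_card,
        show MulAction.orbit H a₀ = Set.univ from hu, Nat.card_congr (Equiv.Set.univ α), hαn] at h3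
      exact h3 ▸ Dvd.intro _ rfl
    have hHS : H ≤ MulAction.stabilizer G O := fun g hg => by
      rw [MulAction.mem_stabilizer_iff]
      exact MulAction.smul_orbit (⟨g, hg⟩ : H) a₀
    -- the translates of `O`
    have htr : ∀ (z : ℤ) x, e x ∈ σ ^ z • O ↔ e (x - z) ∈ O := fun z x => by
      rw [Set.mem_smul_set_iff_inv_smul_mem, ← zpow_neg, he, Int.cast_neg, ← sub_eq_add_neg]
    let T : ZMod p → MulAction.orbit G O := fun i => ⟨σ ^ (i.val : ℤ) • O, MulAction.mem_orbit _ _⟩
    have hTmem : ∀ i x, e x ∈ (T i : Set α) ↔ e (x - i) ∈ O := fun i x => by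
      rw [htr, Int.cast_natCast, ZMod.natCast_zmod_val]
    have hTinj : Function.Injective T := fun i j hij => by
      by_contra hne
      have h3 : ∀ x, e x ∈ O ↔ e (x + (i - j)) ∈ O := fun x => by
        have := (hTmem i (x + i)).symm.trans ((Set.ext_iff.1 (congrArg Subtype.val hij) _).trans (hTmem j (x + i)))
        rwa [add_sub_cancel_right, add_sub_assoc] at this
      apply hOu
      refine Set.eq_univ_of_forall fun a => ?_
      obtain ⟨b, hb⟩ := hOne
      have h4 : ∀ n : ℕ, e (e.symm b + n * (i - j)) ∈ O := fun n => by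
        induction n with
        | zero => simpa using hb
        | succ n ih => rw [Nat.cast_succ, add_mul, one_mul, ← add_assoc]; exact (h3 _).1 ih
      have := h4 ((e.symm a - e.symm b) / (i - j)).val
      rwa [ZMod.natCast_zmod_val, div_mul_cancel₀ _ (sub_ne_zero.2 hne), add_sub_cancel, Equiv.apply_symm_apply] at this
    have hcard : Nat.card (MulAction.orbit G O) = p := by
      refine le_antisymm ?_ ?_
      · rw [← hH, Nat.card_congr (MulAction.orbitEquivQuotientStabilizer G O)]
        exact Nat.le_of_dvd (Nat.pos_of_ne_zero Subgroup.index_ne_zero_of_finite) (Subgroup.index_dvd_of_le hHS)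
      · simpa using Nat.card_le_card_of_injective T hTinj
    have hTbij : Function.Bijective T := (Nat.bijective_iff_injective_and_card T).2 ⟨hTinj, by rw [hcard, Nat.card_zmod]⟩
    let D : Finset (ZMod p) := Finset.univ.filter fun x => e x ∈ O
    have hD : ∀ x, x ∈ D ↔ e x ∈ O := fun x => by simp [D]
    let lam : α → α → ℕ := fun a b => Nat.card {Q : MulAction.orbit G O // a ∈ (Q : Set α) ∧ b ∈ (Q : Set α)}
    have hlam : ∀ (g : G) a b, lam (g • a) (g • b) = lam a b := fun g a b =>
      (Nat.card_congr ((MulAction.toPerm g : Equiv.Perm (MulAction.orbit G O)).subtypeEquiv fun Q => by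
        show _ ↔ g • a ∈ g • (Q : Set α) ∧ g • b ∈ g • (Q : Set α)
        rw [Set.smul_mem_smul_set_iff, Set.smul_mem_smul_set_iff])).symm
    have hlamD : ∀ d : ZMod p, lam (e 0) (e d) = (D.filter fun x => x + d ∈ D).card := fun d => by
      rw [← Fintype.card_coe, ← Nat.card_eq_fintype_card]
      refine (Nat.card_congr (((Equiv.neg _).trans (Equiv.ofBijective T hTbij)).subtypeEquiv fun x => ?_)).symm
      show _ ↔ e 0 ∈ (T (-x) : Set α) ∧ e d ∈ (T (-x) : Set α)
      rw [Finset.mem_filter, hD, hD, hTmem, hTmem, zero_sub, neg_neg, sub_neg_eq_add, add_comm d]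
    obtain ⟨i₀, hi₀⟩ := hTbij.2 ⟨t • O, MulAction.mem_orbit _ _⟩
    have hneg : ∀ x, -x ∈ D ↔ x - i₀ ∈ D := fun x => by
      rw [hD, hD, ← hTmem i₀ x, hi₀]
      show _ ↔ e x ∈ t • O
      rw [← Set.smul_mem_smul_set_iff (a := t), ht, neg_neg]
    have hne2 : ∀ d : ZMod p, d ≠ 0 → (D.filter fun x => x + d ∈ D).card = (D.filter fun x => x + 1 ∈ D).card := fun d hd => by
      obtain ⟨g, hg1, hg2⟩ := MulAction.is_two_pretransitive_iff.1 h2 (e.injective.ne (zero_ne_one (α := ZMod p))) (e.injective.ne (Ne.symm hd))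
      have h3 := hlam g (e 0) (e 1)
      rw [hg1, hg2] at h3
      rw [← hlamD, ← hlamD, h3]
    have hDne : D.Nonempty := ⟨e.symm a₀, (hD _).2 (by rw [Equiv.apply_symm_apply]; exact MulAction.mem_orbit_self a₀)⟩
    have hDu : D ≠ Finset.univ := fun hu => hOu (Set.eq_univ_of_forall fun a => by
      have := (hD (e.symm a)).1 (hu ▸ Finset.mem_univ _)
      rwa [Equiv.apply_symm_apply] at this)
    obtain ⟨z, hz⟩ := symmetricDifferenceSet hp2 D _ hne2 hDne hDu i₀ hneg
    refine ⟨e z, fun g hg => ?_⟩
    have hgO : g • O = O := hHS hg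
    have hmem : e.symm (g • e z) ∈ D ↔ z ∈ D := by
      rw [hD, hD, Equiv.apply_symm_apply]
      conv_lhs => rw [← hgO]
      rw [Set.smul_mem_smul_set_iff]
    rcases hz with hz | hz
    · rw [hz, hz, Equiv.symm_apply_eq] at hmem
      exact hmem.2 rfl
    · rw [hz, hz] at hmem
      exact Equiv.symm_apply_eq _ |>.1 (not_not.1 fun h => hmem.1 h rfl)
  · obtain ⟨e', he'⟩ := CfsgLib.PrimeDegree.affine_coordinates (G := G) hαn h2
    choose A B hAB using he'
    have hmul : ∀ g h : G, A (g * h) = A g * A h ∧ B (g * h) = A g * B h + B g := fun g h => by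
      have h0 : ∀ x, A (g * h) * x + B (g * h) = A g * (A h * x + B h) + B g := fun x =>
        e'.injective (by rw [← hAB, ← hAB, ← hAB, mul_smul])
      have e0 := h0 0
      have e1 := h0 1
      exact ⟨by linear_combination e1 - e0, by linear_combination e0⟩
    have hone : ∀ g ∈ H, A g = 1 → g = 1 := fun g hg hA1 => by
      have hpow : ∀ x, g • e' x = e' (x + B g) := fun x => by rw [hAB, hA1, one_mul]
      have hgp : g ^ p = 1 := by
        refine Subtype.ext (Equiv.ext fun a => ?_)
        have h3 : ∀ (n : ℕ) x, g ^ n • e' x = e' (x + n * B g) := fun n => by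
          induction n with
          | zero => intro x; simp
          | succ n ih => intro x; rw [pow_succ', mul_smul, ih, hpow]; congr 1; push_cast; ring
        have := h3 p (e'.symm a)
        rw [Equiv.apply_symm_apply, CharP.cast_eq_zero, zero_mul, add_zero, Equiv.apply_symm_apply,
          Subgroup.smul_def, Equiv.Perm.smul_def] at this
        simpa using this
      rcases (Nat.dvd_prime hp).1 (orderOf_dvd_of_pow_eq_one hgp) with h | h
      · exact orderOf_eq_one_iff.1 h
      · exfalso
        have := orderOf_dvd_natCard (⟨g, hg⟩ : H)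
        rw [Subgroup.orderOf_mk, h] at this
        exact hpH this
    by_cases hH1 : H = ⊥
    · exfalso
      have h3 := Subgroup.card_mul_index H
      rw [hH, hH1, Subgroup.card_bot, one_mul] at h3
      have h4 := (Subgroup.card_subgroup_dvd_card (Subgroup.normalizer ((P : Subgroup G) : Set G)))
      rw [← h3] at h4
      exact hp2 (((Nat.prime_dvd_prime_iff_eq Nat.prime_two hp).1 (heven.two_dvd.trans h4)).symm)
    obtain ⟨h, hhH, hh1⟩ := (Subgroup.bot_or_exists_ne_one H).resolve_left hH1
    have hA1 : 1 - A h ≠ 0 := fun e0 => hh1 (hone h hhH (sub_eq_zero.1 e0).symm)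
    have huniq : ∀ x, h • e' x = e' x ↔ x = B h / (1 - A h) := fun x => by
      rw [hAB, e'.apply_eq_iff_eq, eq_div_iff hA1]
      constructor <;> intro e0 <;> linear_combination -e0
    refine ⟨e' (B h / (1 - A h)), fun g hg => ?_⟩
    have hcomm : h * g = g * h := by
      have h3 : A (g * h) = A (h * g) := by rw [(hmul g h).1, (hmul h g).1, mul_comm]
      have h4 : (g * h)⁻¹ * (h * g) = 1 := hone _ (H.mul_mem (H.inv_mem (H.mul_mem hg hhH)) (H.mul_mem hhH hg)) (by
        have h5 := (hmul (g * h) ((g * h)⁻¹ * (h * g))).1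
        rw [mul_inv_cancel_left, ← h3] at h5
        have h6 : A (g * h) ≠ 0 := fun e0 => by
          have := hAB (g * h) 0
          have h7 := hAB (g * h) 1
          rw [e0, zero_mul, zero_add] at this h7
          exact zero_ne_one (e'.injective (MulAction.injective (g * h) (this.trans h7.symm)))
        exact (mul_eq_left₀ h6).1 h5.symm)
      exact (inv_mul_eq_one.1 h4).symm
    have h3 : h • (g • e' (B h / (1 - A h))) = g • e' (B h / (1 - A h)) := by
      rw [← mul_smul, hcomm, mul_smul, (huniq _).2 rfl]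
    obtain ⟨y, hy⟩ := e'.surjective (g • e' (B h / (1 - A h)))
    rw [← hy] at h3 ⊢
    rw [(huniq y).1 h3]

end Cfsg.Agent.S0677
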