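import Cfsg.Statements.S0681
import Mathlib
-- import your own Cfsg.Agent.* helpers here

set_option autoImplicit false
open Cfsg

namespace Cfsg.Agent.S0681

/-- The affine maps `x ↦ x * a + b`, `a ≠ 0`, of a near-field form a sharply doubly transitive permutation group. -/
theorem result {F : Type*} [Cfsg.NearField F] : ∃ H : Subgroup (Equiv.Perm F), (∀ σ : Equiv.Perm F, σ ∈ H ↔ ∃ a b : F, a ≠ 0 ∧ ∀ x : F, σ x = x * a + b) ∧ MulAction.IsMultiplyPretransitive H F 2 ∧ ∀ x : Fin 2 ↪ F, MulAction.stabilizer H x = ⊥ := by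
  classical
  have hrd := @Cfsg.NearField.right_distrib F _
  have hmz := @Cfsg.NearField.mul_zero F _
  have hzm : ∀ c : F, 0 * c = 0 := fun c => by
    have h := hrd (0 : F) 0 c
    rwa [add_zero, left_eq_add] at h
  have hinv : ∀ a : F, a ≠ 0 → ∃ b : F, a * b = 1 ∧ b * a = 1 := Cfsg.NearField.exists_inv
  have hne : (1 : F) ≠ 0 := Ne.symm Cfsg.NearField.zero_ne_one
  have hmne : ∀ a c : F, a ≠ 0 → c ≠ 0 → a * c ≠ 0 := by
    intro a c ha hc e
    obtain ⟨d, hd, -⟩ := hinv c hc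
    have := congrArg (· * d) e
    simp only [mul_assoc, hd, mul_one, hzm] at this
    exact ha this
  have hnegmul : ∀ a c : F, (-a) * c = -(a * c) := fun a c => by
    have h := hrd a (-a) c
    rw [add_neg_cancel, hzm] at h
    exact (neg_eq_of_add_eq_zero_right h.symm).symm
  let H : Subgroup (Equiv.Perm F) :=
    { carrier := {σ | ∃ a b : F, a ≠ 0 ∧ ∀ x : F, σ x = x * a + b}
      one_mem' := ⟨1, 0, hne, fun x => by simp⟩
      mul_mem' := by
        rintro σ τ ⟨a, b, ha, hσ⟩ ⟨c, d, hc, hτ⟩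
        refine ⟨c * a, d * a + b, hmne c a hc ha, fun x => ?_⟩
        show σ (τ x) = _
        rw [hσ, hτ, hrd, mul_assoc, add_assoc]
      inv_mem' := by
        rintro σ ⟨a, b, ha, hσ⟩
        obtain ⟨c, hac, hca⟩ := hinv a ha
        refine ⟨c, -(b * c), fun e => hne (by rw [← hac, e, hmz]), fun x => σ.injective ?_⟩
        rw [← hnegmul, ← hrd, Equiv.Perm.inv_def, Equiv.apply_symm_apply, hσ, mul_assoc, hca, mul_one,
          add_assoc, neg_add_cancel, add_zero] }
  have hsolve : ∀ x y z w : F, x ≠ y → z ≠ w → ∃ a b : F, a ≠ 0 ∧ x * a + b = z ∧ y * a + b = w := by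
    intro x y z w hxy hzw
    have h1 : x + -y ≠ 0 := fun e => hxy (add_neg_eq_zero.mp e)
    obtain ⟨c, hc1, hc2⟩ := hinv _ h1
    have h2 : z + -w ≠ 0 := fun e => hzw (add_neg_eq_zero.mp e)
    set a := c * (z + -w) with ha
    refine ⟨a, -(y * a) + w, hmne _ _ (fun e => hne (by rw [← hc1, e, hmz])) h2, ?_, by rw [add_neg_cancel_left]⟩
    have h3 : (x + -y) * a = z + -w := by rw [ha, ← mul_assoc, hc1, one_mul]
    rw [hrd, hnegmul] at h3
    rw [← add_assoc, h3, neg_add_cancel_right]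
  have hperm : ∀ a b : F, a ≠ 0 → ∃ σ : Equiv.Perm F, ∀ x, σ x = x * a + b := by
    intro a b ha
    obtain ⟨c, hac, hca⟩ := hinv a ha
    exact ⟨⟨fun x => x * a + b, fun x => (x + -b) * c, fun x => by simp [mul_assoc, hac],
      fun x => by simp [mul_assoc, hca]⟩, fun x => rfl⟩
  refine ⟨H, fun σ => Iff.rfl, ?_, ?_⟩
  · rw [MulAction.isMultiplyPretransitive_iff]
    intro e f
    obtain ⟨a, b, ha, h0, h1⟩ := hsolve (e 0) (e 1) (f 0) (f 1)
      (fun h => by simpa using e.injective h) (fun h => by simpa using f.injective h)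
    obtain ⟨σ, hσ⟩ := hperm a b ha
    refine ⟨⟨σ, a, b, ha, hσ⟩, Function.Embedding.ext fun i => ?_⟩
    fin_cases i
    · exact (hσ _).trans h0
    · exact (hσ _).trans h1
  · intro e
    rw [Subgroup.eq_bot_iff_forall]
    rintro ⟨σ, a, b, ha, hσ⟩ hmem
    have h0 : e 0 * a + b = e 0 := (hσ _).symm.trans (DFunLike.congr_fun hmem 0)
    have h1 : e 1 * a + b = e 1 := (hσ _).symm.trans (DFunLike.congr_fun hmem 1)
    have hd : e 0 + -(e 1) ≠ 0 := fun h => by simpa using e.injective (add_neg_eq_zero.mp h)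
    have h2 : (e 0 + -(e 1)) * a = e 0 + -(e 1) := by
      rw [hrd, hnegmul]
      conv_rhs => rw [← h0, ← h1]
      rw [neg_add_rev, add_assoc, add_neg_cancel_left]
    obtain ⟨d, -, hd2⟩ := hinv _ hd
    have ha1 : a = 1 := by rw [← one_mul a, ← hd2, mul_assoc, h2]
    subst ha1
    have hb : b = 0 := by rwa [mul_one, add_eq_left] at h0
    exact Subtype.ext (Equiv.ext fun x => by rw [hσ, hb, mul_one, add_zero]; rfl)

end Cfsg.Agent.S0681
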