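import Cfsg.Statements.S0685
import Mathlib
import Cfsg.Agent.S0684
-- import your own Cfsg.Agent.* helpers here

set_option autoImplicit false
open Cfsg

namespace Cfsg.Agent.S0685

/-- In a linear group over the prime field that is regular on non-zero vectors and has no irreducible cyclic normal subgroup, a maximal normal abelian subgroup is properly contained in its centraliser, which is non-abelian. -/
theorem result {p : ℕ} [Fact p.Prime] {V : Type*} [AddCommGroup V] [Module (ZMod p) V] [Finite V] (H : Subgroup (V ≃ₗ[ZMod p] V)) (hreg : ∀ v w : V, v ≠ 0 → w ≠ 0 → ∃! h : H, (h : V ≃ₗ[ZMod p] V) v = w) (hI : ∀ A : Subgroup H, A.Normal → IsCyclic A → ∃ W : Submodule (ZMod p) V, W ≠ ⊥ ∧ W ≠ ⊤ ∧ ∀ a ∈ A, ∀ v ∈ W, ((a : H) : V ≃ₗ[ZMod p] V) v ∈ W) (A : Subgroup H) (hAn : A.Normal) (hAc : IsMulCommutative A) (hAmax : ∀ B : Subgroup H, B.Normal → IsMulCommutative B → A ≤ B → B = A) : A < Subgroup.centralizer (A : Set H) ∧ ¬ IsMulCommutative (Subgroup.centralizer (A : Set H)) := by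
  classical
  obtain ⟨hcyc, W, hW, hWt, hWi, hWm, hdvd⟩ := Cfsg.Agent.S0684.result H hreg hI A hAn hAc hAmax
  haveI := hcyc
  haveI := hAn
  haveI := hAc
  have hA_le : A ≤ Subgroup.centralizer (A : Set H) := Subgroup.le_centralizer_iff_isMulCommutative.2 hAc
  have hne : A ≠ Subgroup.centralizer (A : Set H) := by
    intro heq
    obtain ⟨w₀, hw₀W, hw₀⟩ := Submodule.exists_mem_ne_zero_of_ne_bot hW
    obtain ⟨v, hv⟩ : ∃ v, v ∉ W := by
      by_contra hh
      push Not at hh
      exact hWt (eq_top_iff.2 fun v _ => hh v)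
    have hv0 : v ≠ 0 := fun e => hv (e ▸ W.zero_mem)
    -- a translate of `W` meeting it trivially
    obtain ⟨h, hh, -⟩ := hreg w₀ v hw₀ hv0
    set W' := W.map ((h : V ≃ₗ[ZMod p] V).toLinearMap) with hW'
    have hW'i : ∀ a ∈ A, ∀ x ∈ W', ((a : H) : V ≃ₗ[ZMod p] V) x ∈ W' := by
      rintro a ha _ ⟨y, hy, rfl⟩
      refine ⟨((h⁻¹ * a * h : H) : V ≃ₗ[ZMod p] V) y, hWi _ (hAn.conj_mem' a ha h) y hy, ?_⟩
      show (h : V ≃ₗ[ZMod p] V) (((h⁻¹ * a * h : H) : V ≃ₗ[ZMod p] V) y) = _
      rw [← LinearEquiv.mul_apply, ← Subgroup.coe_mul, show h * (h⁻¹ * a * h) = a * h by group]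
      rfl
    have hdisj : W ⊓ W' = ⊥ := by
      rcases hWm (W ⊓ W') inf_le_left (fun a ha x hx => ⟨hWi a ha x hx.1, hW'i a ha x hx.2⟩) with e | e
      · exact e
      · exfalso
        have h1 : W ≤ W' := inf_eq_left.1 e
        have h2 : W = W' := Submodule.eq_of_le_of_finrank_le h1 (by rw [hW']; exact Submodule.finrank_map_le _ _)
        exact hv (h2 ▸ ⟨w₀, hw₀W, hh⟩)
    have hd2 : 2 * Module.finrank (ZMod p) W ≤ Module.finrank (ZMod p) V := by
      have h1 := Submodule.finrank_sup_add_finrank_inf_eq W W'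
      rw [hdisj, finrank_bot, add_zero, hW', LinearEquiv.finrank_map_eq] at h1
      have := Submodule.finrank_le (W ⊔ W')
      rw [hW'] at this
      omega
    -- the order of `H`
    have hH : Nat.card H = p ^ Module.finrank (ZMod p) V - 1 := by
      have hb : Function.Bijective (fun g : H => (⟨(g : V ≃ₗ[ZMod p] V) w₀, by simp [hw₀]⟩ : {x : V // x ≠ 0})) := by
        refine ⟨fun a b e => ?_, fun ⟨x, hx⟩ => ?_⟩
        · exact (hreg w₀ _ hw₀ (by simp [hw₀])).unique (congrArg Subtype.val e) rfl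
        · obtain ⟨g, hg, -⟩ := hreg w₀ x hw₀ hx
          exact ⟨g, Subtype.ext hg⟩
      have := Fintype.ofFinite V
      rw [Nat.card_congr (Equiv.ofBijective _ hb), Nat.card_eq_fintype_card, Fintype.card_subtype_compl,
        Fintype.card_subtype_eq, ← Nat.card_eq_fintype_card, Module.natCard_eq_pow_finrank (K := ZMod p) (V := V), Nat.card_zmod]
    haveI : Finite H := Nat.finite_of_card_ne_zero (by
      rw [hH]
      have h2 := Nat.one_lt_pow (show Module.finrank (ZMod p) V ≠ 0 from (Module.finrank_pos_iff.2 ⟨⟨v, 0, hv0⟩⟩).ne') (Fact.out : p.Prime).one_lt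
      omega)
    -- the conjugation action on `A` has kernel `A`
    have hker : (MulAut.conjNormal (H := A) : H →* MulAut A).ker = A := by
      refine le_antisymm (fun g hg => ?_) (fun g hg => ?_)
      · rw [heq]
        intro a ha
        have := congrArg Subtype.val (DFunLike.congr_fun hg ⟨a, ha⟩)
        simp only [MulAut.conjNormal_apply, MulAut.one_apply] at this
        exact (mul_inv_eq_iff_eq_mul.1 this).symm
      · rw [MonoidHom.mem_ker]
        refine MulEquiv.ext fun a => Subtype.ext ?_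
        rw [MulAut.conjNormal_apply, MulAut.one_apply,
          ← ((heq ▸ hg : g ∈ Subgroup.centralizer (A : Set H)) a a.2), mul_inv_cancel_right]
    have hle : Nat.card H ≤ Nat.card A * Nat.card A := by
      rw [← Subgroup.index_mul_card A, mul_comm (Nat.card A)]
      refine Nat.mul_le_mul_right _ ?_
      conv_lhs => rw [← hker]
      rw [Subgroup.index_ker]
      refine le_trans (Subgroup.card_le_card_group _) ?_
      rw [IsCyclic.card_mulAut]
      exact Nat.totient_le _
    have hA1 : Nat.card A ≤ p ^ Module.finrank (ZMod p) W - 1 := by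
      refine Nat.le_of_dvd ?_ hdvd
      have := Nat.one_lt_pow (show Module.finrank (ZMod p) W ≠ 0 from fun e => hW (Submodule.finrank_eq_zero.1 e)) (Fact.out : p.Prime).one_lt
      omega
    have hP := Nat.pow_le_pow_right (Fact.out : p.Prime).pos hd2
    rw [two_mul, pow_add] at hP
    have hp1 := Nat.one_lt_pow (show Module.finrank (ZMod p) W ≠ 0 from fun e => hW (Submodule.finrank_eq_zero.1 e)) (Fact.out : p.Prime).one_lt
    generalize p ^ Module.finrank (ZMod p) W = q at hP hA1 hp1
    generalize p ^ Module.finrank (ZMod p) V = Q at hP hH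
    have := Nat.mul_le_mul hA1 hA1
    obtain ⟨q, rfl⟩ : ∃ k, q = k + 1 := ⟨q - 1, by omega⟩
    simp only [Nat.add_sub_cancel] at this
    rw [Nat.add_mul, Nat.mul_add] at hP
    omega
  refine ⟨lt_of_le_of_ne hA_le hne, fun hc => hne (hAmax _ ?_ hc hA_le).symm⟩
  exact Subgroup.normal_centralizer

end Cfsg.Agent.S0685
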