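import Cfsg.Statements.S0689
import Mathlib
import Cfsg.Agent.Lib.Zassenhaus.Action
import Cfsg.Agent.S3378

set_option autoImplicit false
open Cfsg

namespace Cfsg.Agent.S0689

abbrev sl25 := Matrix.SpecialLinearGroup (Fin 2) (ZMod 5)

def iS : sl25 := ⟨!![0, 1; 4, 0], by decide⟩
def jS : sl25 := ⟨!![2, 0; 0, 3], by decide⟩
def zS : sl25 := ⟨!![4, 0; 0, 4], by decide⟩

theorem rel_quat : iS * iS = zS ∧ jS * jS = zS ∧ iS * jS = zS * (jS * iS) ∧ zS ≠ 1 ∧ zS * zS = 1 := by decide +kernel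

theorem free_card_dvd {M Ω : Type*} [Group M] [Finite M] [MulAction M Ω] [Finite Ω]
    (h : ∀ (x : Ω) (g : M), g • x = x → g = 1) : Nat.card M ∣ Nat.card Ω := by
  classical
  haveI := Fintype.ofFinite (MulAction.orbitRel.Quotient M Ω)
  rw [Nat.card_congr (MulAction.selfEquivSigmaOrbits M Ω), Nat.card_sigma]
  refine Finset.dvd_sum fun ω _ => ?_
  rw [Nat.card_congr (MulAction.orbitEquivQuotientStabilizer M ω.out),
    show MulAction.stabilizer M ω.out = ⊥ from (Subgroup.eq_bot_iff_forall _).mpr fun g hg => h ω.out g hg]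
  exact dvd_of_eq (Subgroup.index_bot).symm

abbrev Pre (q e : ℕ) : Prop :=
  2 ≤ q ∧ q ≠ 119 ∧ (q * q - 1) % (120 * e) = 0 ∧ (q - 1) % ((q * q - 1) / (120 * e)) = 0 ∧
    Nat.gcd ((q * q - 1) / (120 * e)) 30 = 1

abbrev Post (q e : ℕ) : Prop :=
  e = 1 ∧ ((q = 11 ∧ (q * q - 1) / (120 * e) = 1) ∨ (q = 29 ∧ (q * q - 1) / (120 * e) = 7) ∨
    (q = 59 ∧ (q * q - 1) / (120 * e) = 29))

theorem arith : ∀ q < 240, ∀ e ∈ [1, 2], Pre q e → Post q e := by decide +kernel

/-- The insoluble sharply doubly transitive groups: a non-solvable linear group over the prime field that is regular on the non-zero vectors of `V` occurs only for `|V| = 11², 29², 59²`, and is `SL(2,5) × C_m` with `m = 1, 7, 29` respectively. -/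
theorem result {p : ℕ} [Fact p.Prime] {V : Type*} [AddCommGroup V] [Module (ZMod p) V] [Finite V] (H : Subgroup (V ≃ₗ[ZMod p] V)) (hreg : ∀ v w : V, v ≠ 0 → w ≠ 0 → ∃! h : H, (h : V ≃ₗ[ZMod p] V) v = w) (hsolv : ¬ Group.IsSolvable H) : (Nat.card V = 121 ∧ Nonempty (H ≃* Matrix.SpecialLinearGroup (Fin 2) (ZMod 5))) ∨ (Nat.card V = 841 ∧ Nonempty (H ≃* Matrix.SpecialLinearGroup (Fin 2) (ZMod 5) × Multiplicative (ZMod 7))) ∨ (Nat.card V = 3481 ∧ Nonempty (H ≃* Matrix.SpecialLinearGroup (Fin 2) (ZMod 5) × Multiplicative (ZMod 29))) := by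
  classical
  obtain ⟨v0, hv0⟩ : ∃ v0 : V, v0 ≠ 0 := by
    by_contra h
    push Not at h
    refine hsolv (Group.isSolvable_of_comm fun a b => Subtype.ext (LinearEquiv.ext fun v => ?_))
    rw [h ((↑(a * b) : V ≃ₗ[ZMod p] V) v), h ((↑(b * a) : V ≃ₗ[ZMod p] V) v)]
  haveI : Nontrivial V := ⟨⟨v0, 0, hv0⟩⟩
  have hfix : ∀ g : H, g ≠ 1 → ∀ v : V, (g : V ≃ₗ[ZMod p] V) v = v → v = 0 := by
    intro g hg v hv
    by_contra h
    exact hg ((hreg v v h h).unique hv rfl)
  have hcardH : Nat.card H = Nat.card V - 1 := by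
    rw [Nat.card_eq_of_bijective (fun h : H => (⟨(h : V ≃ₗ[ZMod p] V) v0, fun e => hv0 ((h : V ≃ₗ[ZMod p] V).map_eq_zero_iff.mp e)⟩ : {v : V // v ≠ 0}))
      ⟨fun a b e => (hreg v0 _ hv0 (by simpa using hv0)).unique (congrArg Subtype.val e) rfl, fun w => by
        obtain ⟨h, hh, -⟩ := hreg v0 w hv0 w.2
        exact ⟨h, Subtype.ext hh⟩⟩]
    have := Set.ncard_compl ({0} : Set V)
    rw [Set.ncard_singleton] at this
    rw [← this, ← Nat.card_coe_set_eq]
    rfl
  haveI : Finite H := Finite.of_injective (fun h : H => ((h : V ≃ₗ[ZMod p] V) : V → V)) fun a b e =>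
    Subtype.ext (LinearEquiv.ext (congrFun e))
  let α : H →* MulAut (Multiplicative V) :=
    { toFun := fun h => AddEquiv.toMultiplicative (h : V ≃ₗ[ZMod p] V).toAddEquiv
      map_one' := MulEquiv.ext fun _ => rfl
      map_mul' := fun a b => MulEquiv.ext fun _ => rfl }
  obtain ⟨I, M, hIn, hMn, ⟨eI⟩, hbot, hcomm, hidx, -, hcop⟩ := CfsgLib.Zassenhaus.zass_of_action α
    (fun g hg a ha => Multiplicative.toAdd.injective (hfix g hg a.toAdd (congrArg Multiplicative.toAdd ha))) hsolv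
  haveI := hIn
  haveI := hMn
  -- the product
  let φ : I × M →* H := MonoidHom.noncommCoprod I.subtype M.subtype fun a b => (commute_iff_eq _ _).mpr (hcomm a a.2 b b.2)
  have hφinj : Function.Injective φ := by
    rw [injective_iff_map_eq_one]
    rintro ⟨a, b⟩ hab
    have h1 : (a : H) * b = 1 := hab
    have hb : (b : H) ∈ I ⊓ M := ⟨by rw [eq_inv_of_mul_eq_one_right h1]; exact I.inv_mem a.2, b.2⟩
    rw [hbot, Subgroup.mem_bot] at hb
    rw [hb, mul_one] at h1
    exact Prod.ext (Subtype.ext h1) (Subtype.ext hb)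
  have hφrange : φ.range = I ⊔ M := by
    show (MonoidHom.noncommCoprod I.subtype M.subtype _).range = _
    rw [MonoidHom.noncommCoprod_range, Subgroup.range_subtype, Subgroup.range_subtype]
  have hIc : Nat.card I = 120 := by rw [Nat.card_congr eI.toEquiv]; exact Cfsg.Agent.S3378.card_sl25
  have hIMc : Nat.card (I ⊔ M : Subgroup H) = 120 * Nat.card M := by
    rw [← hφrange, ← Nat.card_congr (MonoidHom.ofInjective hφinj).toEquiv, Nat.card_prod, hIc]
  -- the quaternion elements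
  obtain ⟨hii, hjj, hij, hz1, hzz⟩ := rel_quat
  let act : I → V → V := fun a v => ((a : H) : V ≃ₗ[ZMod p] V) v
  have hmul : ∀ (a b : I) (v : V), act (a * b) v = act a (act b v) := fun _ _ _ => rfl
  have hT : ∀ v, act (eI.symm zS) v = -v := fun v => by
    have h2 : act (eI.symm zS) (act (eI.symm zS) v) = v := by
      rw [← hmul, ← map_mul, hzz, map_one]; rfl
    have h0 := hfix (eI.symm zS : I) (fun e => hz1 (by
      have := congrArg eI (Subtype.ext e : eI.symm zS = 1)
      rwa [MulEquiv.apply_symm_apply, map_one] at this)) (v + act (eI.symm zS) v) (by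
        show act (eI.symm zS) (v + act (eI.symm zS) v) = _
        rw [show act (eI.symm zS) (v + act (eI.symm zS) v) = act (eI.symm zS) v + act (eI.symm zS) (act (eI.symm zS) v) from map_add _ _ _,
          h2, add_comm])
    exact eq_neg_of_add_eq_zero_right h0
  have h2 : (2 : ZMod p) ≠ 0 := fun e => by
    refine hv0 (hfix (eI.symm zS : I) (fun e => hz1 (by
      have := congrArg eI (Subtype.ext e : eI.symm zS = 1)
      rwa [MulEquiv.apply_symm_apply, map_one] at this)) v0 ?_)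
    show act (eI.symm zS) v0 = v0
    rw [hT, ← sub_eq_zero, show -v0 - v0 = -((2 : ZMod p) • v0) by rw [two_smul]; abel, e, zero_smul, neg_zero]
  let iI : I := eI.symm iS
  let jI : I := eI.symm jS
  have hi2 : ∀ v, act iI (act iI v) = -v := fun v => by rw [← hmul, ← map_mul, hii, hT]
  have hj2 : ∀ v, act jI (act jI v) = -v := fun v => by rw [← hmul, ← map_mul, hjj, hT]
  have hij' : ∀ v, act iI (act jI v) = -(act jI (act iI v)) := fun v => by
    rw [← hmul, ← map_mul, hij, map_mul, hmul, hT, map_mul, hmul]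
  obtain ⟨a, b, hab⟩ := ZMod.sq_add_sq p (-1)
  let u : V →ₗ[ZMod p] V := a • ((iI : H) : V ≃ₗ[ZMod p] V).toLinearMap + b • ((jI : H) : V ≃ₗ[ZMod p] V).toLinearMap
  have hu : ∀ v, u v = a • act iI v + b • act jI v := fun v => rfl
  have hl : ∀ (c : I) (r : ZMod p) (v : V), act c (r • v) = r • act c v := fun c r v => map_smul _ _ _
  have hadd : ∀ (c : I) (v w : V), act c (v + w) = act c v + act c w := fun c v w => map_add _ _ _
  have hneg : ∀ (c : I) (v : V), act c (-v) = -act c v := fun c v => map_neg _ _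
  have huu : ∀ v, u (u v) = v := fun v => by
    calc u (u v) = (-(a ^ 2 + b ^ 2)) • v + (a * b) • (act iI (act jI v) + act jI (act iI v)) := by
          simp only [hu, hadd, hl, hi2, hj2]; module
      _ = v := by rw [hab, hij', neg_neg, one_smul, neg_add_cancel, smul_zero, add_zero]
  have huk : ∀ v, u (act jI (act iI v)) = -act jI (act iI (u v)) := fun v => by
    simp only [hu, hadd, hl, hi2, hj2, hij', hneg]
    module
  let U := LinearMap.ker (u - LinearMap.id)
  let U' := LinearMap.ker (u + LinearMap.id)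
  have hU : ∀ v, v ∈ U ↔ u v = v := fun v => by
    rw [LinearMap.mem_ker, LinearMap.sub_apply, LinearMap.id_apply, sub_eq_zero]
  have hU' : ∀ v, v ∈ U' ↔ u v = -v := fun v => by
    rw [LinearMap.mem_ker, LinearMap.add_apply, LinearMap.id_apply, add_eq_zero_iff_eq_neg]
  have hk : ∀ v, v ∈ U → act jI (act iI v) ∈ U' := fun v hv => by rw [hU'] ; rw [hU] at hv; rw [huk, hv]
  have hk' : ∀ v, v ∈ U' → act jI (act iI v) ∈ U := fun v hv => by
    rw [hU]; rw [hU'] at hv; rw [huk, hv, hneg, hneg, neg_neg]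
  have hkinj : Function.Injective fun v => act jI (act iI v) :=
    ((jI : H) : V ≃ₗ[ZMod p] V).injective.comp ((iI : H) : V ≃ₗ[ZMod p] V).injective
  have hUU : Nat.card U = Nat.card U' := le_antisymm
    (Nat.card_le_card_of_injective (fun x : U => (⟨_, hk x x.2⟩ : U')) fun x y e => Subtype.ext (hkinj (congrArg Subtype.val e)))
    (Nat.card_le_card_of_injective (fun x : U' => (⟨_, hk' x x.2⟩ : U)) fun x y e => Subtype.ext (hkinj (congrArg Subtype.val e)))
  have hVU : Nat.card V = Nat.card U * Nat.card U := by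
    conv_rhs => arg 2; rw [hUU]
    rw [← Nat.card_prod]
    refine (Nat.card_eq_of_bijective (fun x : U × U' => (x.1 : V) + x.2) ⟨fun x y e => ?_, fun v => ?_⟩).symm
    · have e1 := congrArg u e
      simp only [map_add, (hU _).mp x.1.2, (hU _).mp y.1.2, (hU' _).mp x.2.2, (hU' _).mp y.2.2] at e1
      simp only at e
      have h3 : (2 : ZMod p) • (x.1 : V) = (2 : ZMod p) • (y.1 : V) := by
        rw [two_smul, two_smul]
        calc (x.1 : V) + x.1 = ((x.1 : V) + x.2) + ((x.1 : V) + -(x.2 : V)) := by abel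
          _ = _ := by rw [e, e1]; abel
      have h4 : (x.1 : V) = y.1 := smul_right_injective V h2 h3
      rw [h4, add_right_inj] at e
      exact Prod.ext (Subtype.ext h4) (Subtype.ext e)
    · refine ⟨(⟨(2 : ZMod p)⁻¹ • (v + u v), ?_⟩, ⟨(2 : ZMod p)⁻¹ • (v - u v), ?_⟩), ?_⟩
      · rw [hU, map_smul, map_add, huu, add_comm]
      · rw [hU', map_smul, map_sub, huu, ← smul_neg, neg_sub]
      · show (2 : ZMod p)⁻¹ • (v + u v) + (2 : ZMod p)⁻¹ • (v - u v) = v
        rw [← smul_add, show v + u v + (v - u v) = (2 : ZMod p) • v by rw [two_smul]; abel, inv_smul_smul₀ h2]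
  -- the complement acts semiregularly on the eigenspace
  have hMU : ∀ (g : M) (v : V), v ∈ U → ((g : H) : V ≃ₗ[ZMod p] V) v ∈ U := fun g v hv => by
    have hc : ∀ (c : I) (w : V), act c (((g : H) : V ≃ₗ[ZMod p] V) w) = ((g : H) : V ≃ₗ[ZMod p] V) (act c w) := fun c w =>
      congrArg (fun h : H => (h : V ≃ₗ[ZMod p] V) w) (hcomm c c.2 g g.2)
    rw [hU] at hv ⊢
    conv_rhs => rw [← hv]
    rw [hu, hu, map_add, map_smul, map_smul, hc, hc]
  have hdvd : Nat.card M ∣ Nat.card U - 1 := by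
    letI : MulAction M {x : U // x ≠ 0} :=
      { smul := fun g x => ⟨⟨((g : H) : V ≃ₗ[ZMod p] V) (x.1 : V), hMU g x.1 x.1.2⟩, fun e => x.2 (Subtype.ext
          (((g : H) : V ≃ₗ[ZMod p] V).map_eq_zero_iff.mp (congrArg Subtype.val e)))⟩
        one_smul := fun x => rfl
        mul_smul := fun g h x => rfl }
    have hd := free_card_dvd (M := M) (Ω := {x : U // x ≠ 0}) fun x g hx => by
      by_contra hg
      exact x.2 (Subtype.ext (hfix g (fun e => hg (Subtype.ext e)) x.1 (congrArg (fun y : {x : U // x ≠ 0} => (y.1 : V)) hx)))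
    have hc : Nat.card {x : U // x ≠ 0} = Nat.card U - 1 := by
      have := Set.ncard_compl ({0} : Set U)
      rw [Set.ncard_singleton] at this
      rw [← this, ← Nat.card_coe_set_eq]
      rfl
    rwa [hc] at hd
  -- arithmetic
  obtain ⟨q, hq⟩ : ∃ q, q = Nat.card U := ⟨_, rfl⟩
  obtain ⟨e, he⟩ : ∃ e, e = (I ⊔ M).index := ⟨_, rfl⟩
  have hq2 : 2 ≤ q := by
    have h1 : 1 < Nat.card V := Finite.one_lt_card
    rw [hVU, ← hq] at h1
    by_contra hlt
    interval_cases q <;> omega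
  have hH : 120 * e * Nat.card M = q * q - 1 := by
    rw [hq, ← hVU, ← hcardH, ← (I ⊔ M).card_mul_index, hIMc, he]; ring
  rw [← hq] at hdvd
  rw [← he] at hidx
  have hm : Nat.card M ≤ q - 1 := Nat.le_of_dvd (by omega) hdvd
  have hq240 : q < 240 := by
    by_contra hlt
    have h4 : 240 * (q - 1) < q * q - 1 := by
      have : 240 * q ≤ q * q := Nat.mul_le_mul_right q (by omega)
      omega
    rcases hidx with h5 | h5 <;> rw [h5] at hH <;> omega
  have hmdiv : (q * q - 1) / (120 * e) = Nat.card M := by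
    rw [← hH, Nat.mul_div_cancel_left _ (by omega)]
  have h119 : q ≠ 119 := by
    intro h
    have hc : Nat.card V = p ^ Module.finrank (ZMod p) V := by
      rw [Module.natCard_eq_pow_finrank (K := ZMod p), Nat.card_zmod]
    rw [hVU, ← hq, h] at hc
    have h7 : 7 ∣ p ^ Module.finrank (ZMod p) V := hc ▸ (by norm_num)
    have h17 : 17 ∣ p ^ Module.finrank (ZMod p) V := hc ▸ (by norm_num)
    have a7 := (Nat.prime_dvd_prime_iff_eq (by norm_num) Fact.out).mp ((by norm_num : Nat.Prime 7).dvd_of_dvd_pow h7)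
    have a17 := (Nat.prime_dvd_prime_iff_eq (by norm_num) Fact.out).mp ((by norm_num : Nat.Prime 17).dvd_of_dvd_pow h17)
    omega
  obtain ⟨he1, hcases⟩ := arith q hq240 e (by rcases hidx with h | h <;> simp [h]) ⟨hq2, h119,
    by rw [← hH, Nat.mul_mod_right], by rw [hmdiv]; exact Nat.mod_eq_zero_of_dvd hdvd,
    by rw [hmdiv]; exact hcop⟩
  rw [hmdiv] at hcases
  have htop : I ⊔ M = ⊤ := Subgroup.index_eq_one.mp (by rw [← he, he1])
  let ψ : I × M ≃* H := MulEquiv.ofBijective φ ⟨hφinj, MonoidHom.range_eq_top.mp (hφrange.trans htop)⟩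
  have hiso : ∀ r : ℕ, r.Prime → Nat.card M = r → Nonempty (H ≃* sl25 × Multiplicative (ZMod r)) := fun r hr hc => by
    haveI := Fact.mk hr
    exact ⟨ψ.symm.trans (eI.prodCongr (mulEquivOfPrimeCardEq hc (by simp)))⟩
  rcases hcases with ⟨rfl, hc⟩ | ⟨rfl, hc⟩ | ⟨rfl, hc⟩
  · haveI := (Nat.card_eq_one_iff_unique.mp hc).1
    refine Or.inl ⟨by rw [hVU, ← hq], ⟨ψ.symm.trans ((MulEquiv.prodCongr eI (MulEquiv.refl M)).trans ?_)⟩⟩
    haveI : Unique M := uniqueOfSubsingleton 1
    exact MulEquiv.prodUnique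
  · exact Or.inr (Or.inl ⟨by rw [hVU, ← hq], hiso 7 (by norm_num) hc⟩)
  · exact Or.inr (Or.inr ⟨by rw [hVU, ← hq], hiso 29 (by norm_num) hc⟩)

end Cfsg.Agent.S0689
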