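import Cfsg.Statements.S0686
import Mathlib
import Cfsg.Agent.Lib.Perm.SharpSolvableGroup
import Cfsg.Agent.S0684
import Cfsg.Agent.S0689
import Cfsg.Agent.Lib.QuatHom
import Cfsg.Agent.Lib.StSL.Two
-- import your own Cfsg.Agent.* helpers here

set_option autoImplicit false
open Cfsg

namespace Cfsg.Agent.S0686

theorem hypOf {p : ℕ} [Fact p.Prime] {V : Type*} [AddCommGroup V] [Module (ZMod p) V] [Finite V] [Nontrivial V]
    (H : Subgroup (V ≃ₗ[ZMod p] V)) (hreg : ∀ v w : V, v ≠ 0 → w ≠ 0 → ∃! h : H, (h : V ≃ₗ[ZMod p] V) v = w)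
    (A : Subgroup H) (hAn : A.Normal) (hcyc : IsCyclic A)
    (hAmax : ∀ B : Subgroup H, B.Normal → IsMulCommutative B → A ≤ B → B = A) : CfsgLib.SharpSolvable.Hyp A := by
  haveI := hcyc
  letI := IsCyclic.commGroup (α := A)
  refine ⟨hAn, hcyc, fun B h1 h2 h3 => hAmax B h1 ⟨⟨fun x y => Subtype.ext (h2 x x.2 y y.2)⟩⟩ h3,
    fun u hu q hq z hz hoz huq => ?_⟩
  haveI := Fact.mk hq
  haveI : Finite H := Finite.of_injective (fun h : H => ((h : V ≃ₗ[ZMod p] V) : V → V)) fun a b e =>
    Subtype.ext (LinearEquiv.ext (congrFun e))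
  by_cases hu1 : u = 1
  · exact hu1 ▸ one_mem A
  let K : Subgroup H := A ⊔ Subgroup.zpowers u
  have hKcomm : ∀ a ∈ K, ∀ b ∈ K, a * b = b * a := by
    intro a ha b hb
    have hle : K ≤ Subgroup.centralizer (K : Set H) := by
      refine sup_le (fun c hc => Subgroup.mem_centralizer_iff.mpr fun d hd => ?_) (Subgroup.zpowers_le.mpr ?_)
      · have : K ≤ Subgroup.centralizer ({c} : Set H) := sup_le
          (fun e he => Subgroup.mem_centralizer_singleton_iff.mpr
            (congrArg Subtype.val (mul_comm (⟨e, he⟩ : A) ⟨c, hc⟩)))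
          (Subgroup.zpowers_le.mpr (Subgroup.mem_centralizer_singleton_iff.mpr (Subgroup.mem_centralizer_iff.mp hu c hc).symm))
        exact Subgroup.mem_centralizer_singleton_iff.mp (this hd)
      · refine Subgroup.mem_centralizer_iff.mpr fun d hd => ?_
        have : K ≤ Subgroup.centralizer ({u} : Set H) := sup_le
          (fun e he => Subgroup.mem_centralizer_singleton_iff.mpr (Subgroup.mem_centralizer_iff.mp hu e he))
          (Subgroup.zpowers_le.mpr (Subgroup.mem_centralizer_singleton_iff.mpr rfl))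
        exact Subgroup.mem_centralizer_singleton_iff.mp (this hd)
    exact (Subgroup.mem_centralizer_iff.mp (hle ha) b hb).symm
  let ρ : K →* (V ≃ₗ[ZMod p] V) := H.subtype.comp K.subtype
  have hfree : ∀ (a : K) v, v ≠ 0 → ρ a v = v → a = 1 := fun a v hv e =>
    Subtype.ext ((hreg v v hv hv).unique e (by simp))
  obtain ⟨W, -, hW, hi, hm⟩ := Cfsg.Agent.S0684.existsMinimal (p := p) (fun (a : K) v => ρ a v) ⊤ top_ne_bot (fun _ _ _ => trivial)
  have hKcyc : IsCyclic K :=
    (Cfsg.Agent.S0684.cyclicOfMinimal (A := K) (fun a b => Subtype.ext (hKcomm a a.2 b b.2)) ρ hfree W hW hi hm).1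
  have := CfsgLib.SharpSolvable.mem_zpowers_of_orderOf_dvd hKcyc (Subgroup.mem_sup_left hz : z ∈ K)
    (Subgroup.mem_sup_right (Subgroup.mem_zpowers u) : u ∈ K) (by rw [hoz]; exact orderOf_dvd_of_pow_eq_one huq)
  exact (Subgroup.zpowers_le.mpr hz) this

open scoped commutatorElement in
theorem sl25_nonabelian_normal (S : Subgroup (Matrix.SpecialLinearGroup (Fin 2) (ZMod 5))) (hS : S.Normal)
    (hna : ¬ ∀ a ∈ S, ∀ b ∈ S, a * b = b * a) : ⁅S, S⁆ = ⊤ := by
  haveI := Fact.mk (show Nat.Prime 5 by norm_num)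
  haveI := hS
  have hperf : commutator (Matrix.SpecialLinearGroup (Fin 2) (ZMod 5)) = ⊤ :=
    CfsgLib.StSL.perfect_SL2 (by rw [ZMod.card]; norm_num)
  haveI : IsSimpleGroup (Matrix.ProjectiveSpecialLinearGroup (Fin 2) (ZMod 5)) :=
    Matrix.ProjectiveSpecialLinearGroup.rank_two_simple (by rw [Nat.card_zmod]; norm_num)
  set Z := Subgroup.center (Matrix.SpecialLinearGroup (Fin 2) (ZMod 5)) with hZ
  let π := QuotientGroup.mk' Z
  have hπ : Function.Surjective π := QuotientGroup.mk'_surjective Z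
  rcases (hS.map π hπ).eq_bot_or_eq_top with h | h
  · exfalso
    refine hna fun a ha b hb => ?_
    have : π a ∈ (⊥ : Subgroup _) := h ▸ Subgroup.mem_map_of_mem π ha
    exact (Subgroup.mem_center_iff.mp ((QuotientGroup.eq_one_iff a).mp this) b).symm
  · have hdec : ∀ g, ∃ s ∈ S, ∃ c ∈ Z, g = s * c := by
      intro g
      obtain ⟨s, hs, hsg⟩ : π g ∈ S.map π := h ▸ Subgroup.mem_top _
      exact ⟨s, hs, s⁻¹ * g, QuotientGroup.eq.mp hsg, by group⟩
    rw [eq_top_iff]
    conv_lhs => rw [← hperf, commutator_def]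
    rw [Subgroup.commutator_le]
    intro g _ g' _
    obtain ⟨s, hs, c, hc, rfl⟩ := hdec g
    obtain ⟨t, ht, d, hd, rfl⟩ := hdec g'
    have e : ⁅s * c, t * d⁆ = ⁅s, t⁆ := by
      have hc' : ∀ k, k * c = c * k := fun k => Subgroup.mem_center_iff.mp hc k
      have hd' : ∀ k, k * d = d * k := fun k => Subgroup.mem_center_iff.mp hd k
      rw [commutatorElement_def, commutatorElement_def, mul_inv_rev, mul_inv_rev]
      calc s * c * (t * d) * (c⁻¹ * s⁻¹) * (d⁻¹ * t⁻¹) = s * (c * (t * d)) * c⁻¹ * (s⁻¹ * d⁻¹) * t⁻¹ := by group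
        _ = s * ((t * d) * c) * c⁻¹ * (s⁻¹ * d⁻¹) * t⁻¹ := by rw [hc' (t * d)]
        _ = s * t * (d * s⁻¹) * d⁻¹ * t⁻¹ := by group
        _ = s * t * (s⁻¹ * d) * d⁻¹ * t⁻¹ := by rw [hd' s⁻¹]
        _ = s * t * s⁻¹ * t⁻¹ := by group
    rw [e]
    exact Subgroup.commutator_mem_commutator hs ht

/-- In a linear group over the prime field that is regular on non-zero vectors and has no irreducible cyclic normal subgroup, let `A` be a maximal normal abelian subgroup and `N` a normal subgroup centralising `A` that is minimal among non-abelian normal subgroups centralising `A`. Then `N` is quaternion of order 8 or isomorphic to `SL(2,5)`. -/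
theorem result {p : ℕ} [Fact p.Prime] {V : Type*} [AddCommGroup V] [Module (ZMod p) V] [Finite V] (H : Subgroup (V ≃ₗ[ZMod p] V)) (hreg : ∀ v w : V, v ≠ 0 → w ≠ 0 → ∃! h : H, (h : V ≃ₗ[ZMod p] V) v = w) (hI : ∀ A : Subgroup H, A.Normal → IsCyclic A → ∃ W : Submodule (ZMod p) V, W ≠ ⊥ ∧ W ≠ ⊤ ∧ ∀ a ∈ A, ∀ v ∈ W, ((a : H) : V ≃ₗ[ZMod p] V) v ∈ W) (A : Subgroup H) (hAn : A.Normal) (hAc : IsMulCommutative A) (hAmax : ∀ B : Subgroup H, B.Normal → IsMulCommutative B → A ≤ B → B = A) (N : Subgroup H) (hNn : N.Normal) (hNle : N ≤ Subgroup.centralizer (A : Set H)) (hNna : ¬ IsMulCommutative N) (hNmin : ∀ M : Subgroup H, M.Normal → M ≤ N → ¬ IsMulCommutative M → M = N) : Nonempty (N ≃* QuaternionGroup 2) ∨ Nonempty (N ≃* Matrix.SpecialLinearGroup (Fin 2) (ZMod 5)) := by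
  classical
  haveI : Finite H := Finite.of_injective (fun h : H => ((h : V ≃ₗ[ZMod p] V) : V → V)) fun a b e =>
    Subtype.ext (LinearEquiv.ext (congrFun e))
  obtain ⟨hcyc, W, hW, -⟩ := Cfsg.Agent.S0684.result H hreg hI A hAn hAc hAmax
  haveI : Nontrivial V := by
    obtain ⟨v, -, hv⟩ := Submodule.exists_mem_ne_zero_of_ne_bot hW
    exact ⟨⟨v, 0, hv⟩⟩
  have hna : ∀ M : Subgroup H, ¬ IsMulCommutative M ↔ ¬ ∀ a ∈ M, ∀ b ∈ M, a * b = b * a := fun M =>
    not_congr ⟨fun h a ha b hb => congrArg Subtype.val (h.is_comm.comm ⟨a, ha⟩ ⟨b, hb⟩),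
      fun h => ⟨⟨fun x y => Subtype.ext (h x x.2 y y.2)⟩⟩⟩
  by_cases hsolv : Group.IsSolvable H
  · left
    obtain ⟨x, y, hx4, hy2, hconj, hnm, hN⟩ := (hypOf H hreg A hAn hcyc hAmax).quat hsolv hNn hNle ((hna N).mp hNna)
      (fun M h1 h2 h3 => hNmin M h1 h2 ((hna M).mpr h3))
    obtain ⟨e⟩ := CfsgLib.Quat.nonempty_equiv (n := 2) (a := x) (b := y)
      (by rw [show 2 * 2 = 4 from rfl, ← hx4]; exact pow_orderOf_eq_one x) hy2 hconj hx4 hnm
    exact ⟨(MulEquiv.subgroupCongr hN.symm).trans e⟩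
  · right
    have hprod : ∀ {C : Type} [CommGroup C] (e : H ≃* Matrix.SpecialLinearGroup (Fin 2) (ZMod 5) × C),
        Nonempty (N ≃* Matrix.SpecialLinearGroup (Fin 2) (ZMod 5)) := by
      intro C _ e
      set M := N.map e.toMonoidHom with hM
      haveI hMn : M.Normal := hNn.map e.toMonoidHom e.surjective
      set S := M.map (MonoidHom.fst (Matrix.SpecialLinearGroup (Fin 2) (ZMod 5)) C) with hS
      have hSn : S.Normal := hMn.map _ (fun s => ⟨(s, 1), rfl⟩)
      have hSna : ¬ ∀ a ∈ S, ∀ b ∈ S, a * b = b * a := fun h => (hna N).mp hNna fun a ha b hb => e.injective (by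
        rw [map_mul, map_mul]
        exact Prod.ext (h _ ⟨e a, ⟨a, ha, rfl⟩, rfl⟩ _ ⟨e b, ⟨b, hb, rfl⟩, rfl⟩) (mul_comm _ _))
      have htop := sl25_nonabelian_normal S hSn hSna
      set T := (⊤ : Subgroup (Matrix.SpecialLinearGroup (Fin 2) (ZMod 5))).prod (⊥ : Subgroup C) with hT
      open scoped commutatorElement in
      have hle : T ≤ M := by
        rintro ⟨s, c⟩ ⟨-, hc⟩
        obtain rfl : c = 1 := hc
        have hs : s ∈ ⁅S, S⁆ := htop ▸ Subgroup.mem_top s
        rw [Subgroup.commutator_def] at hs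
        induction hs using Subgroup.closure_induction with
        | mem v hv =>
          obtain ⟨_, ⟨⟨s, cs⟩, hs, rfl⟩, _, ⟨⟨t, ct⟩, ht, rfl⟩, rfl⟩ := hv
          have hm : ⁅((s, cs) : Matrix.SpecialLinearGroup (Fin 2) (ZMod 5) × C), (t, ct)⁆ ∈ M :=
            mul_mem (mul_mem (mul_mem hs ht) (inv_mem hs)) (inv_mem ht)
          convert hm using 1
          refine Prod.ext rfl ?_
          simp [commutatorElement_def, mul_comm cs ct]
        | one => exact one_mem M
        | mul v w _ _ hv hw => simpa using mul_mem hv hw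
        | inv v _ hv => simpa using inv_mem hv
      have hTn : (T.comap e.toMonoidHom).Normal := by
        have : T.Normal := Subgroup.Normal.mk fun v hv g => ⟨trivial, by
          have : v.2 = 1 := hv.2
          simp [this]⟩
        exact this.comap _
      have hNT := hNmin (T.comap e.toMonoidHom) hTn (fun a ha => by
        obtain ⟨b, hb, hba⟩ := hle ha
        rw [← e.injective hba]; exact hb) ((hna _).mpr fun h => by
        have hns := hSna
        refine hns fun s _ t _ => ?_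
        have := h (e.symm (s, 1)) ⟨trivial, by simp⟩ (e.symm (t, 1)) ⟨trivial, by simp⟩
        have := congrArg e this
        rw [map_mul, map_mul, MulEquiv.apply_symm_apply, MulEquiv.apply_symm_apply] at this
        exact congrArg Prod.fst this)
      subst hNT
      exact ⟨{ toFun := fun a => (e a.1).1
               invFun := fun s => ⟨e.symm (s, 1), ⟨trivial, by simp⟩⟩
               left_inv := fun a => Subtype.ext (by
                 have h : (e a.1).2 = 1 := a.2.2
                 show e.symm ((e a.1).1, 1) = a.1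
                 rw [← h, Prod.mk.eta, MulEquiv.symm_apply_apply])
               right_inv := fun s => by simp
               map_mul' := fun a b => congrArg Prod.fst (map_mul e a.1 b.1) }⟩
    rcases Cfsg.Agent.S0689.result H hreg hsolv with ⟨-, ⟨e⟩⟩ | ⟨-, ⟨e⟩⟩ | ⟨-, ⟨e⟩⟩
    · exact hprod (C := Unit) (e.trans MulEquiv.prodUnique.symm)
    · exact hprod e
    · exact hprod e

end Cfsg.Agent.S0686
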