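import Cfsg.Statements.S0688
import Mathlib
import Cfsg.Agent.Lib.Perm.SharpSolvableGroup
import Cfsg.Agent.S0684
import Cfsg.Agent.S0685
-- import your own Cfsg.Agent.* helpers here

set_option autoImplicit false
open Cfsg

namespace Cfsg.Agent.S0688

theorem zmod3_sq : ∀ c : ZMod 3, c ≠ 0 → c * c = 1 := by decide

open Polynomial in
theorem arith (p e d N a r s i : ℕ) (hp : p.Prime) (hp2 : p ≠ 2) (he : e ≠ 0) (hed : e < d) (hN : N * (p ^ e - 1) = p ^ d - 1)
    (hs : s ∣ 24) (hi : i ∣ e) (hNr : N * r * a = i * s * a) (ha : a ≠ 0) :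
    (e = 1 ∧ d = 2 ∧ (p = 3 ∨ p = 5 ∨ p = 7 ∨ p = 11 ∨ p = 23)) := by
  have h1 : N * r = i * s := Nat.eq_of_mul_eq_mul_right (Nat.pos_of_ne_zero ha) hNr
  have hN24 : N ∣ 24 * e := (Dvd.intro r rfl).trans (h1 ▸ (mul_comm 24 e ▸ Nat.mul_dvd_mul hi hs))
  have hle : N ≤ 24 * e := Nat.le_of_dvd (by omega) hN24
  have h3 : 3 ≤ p := by have := hp.two_le; omega
  have hq3 : 3 ≤ p ^ e := h3.trans (Nat.le_self_pow he p)
  -- the exponent divides
  obtain ⟨n, hn⟩ : e ∣ d := by
    have hmod : (p ^ d) % (p ^ e - 1) = p ^ (d % e) % (p ^ e - 1) := by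
      conv_lhs => rw [← Nat.div_add_mod d e, pow_add, pow_mul, Nat.mul_mod, Nat.pow_mod,
        show p ^ e % (p ^ e - 1) = 1 by
          conv_lhs => rw [show p ^ e = 1 + (p ^ e - 1) by omega, Nat.add_sub_cancel_left, Nat.add_mod_right]
          exact Nat.mod_eq_of_lt (by omega), one_pow]
      rw [Nat.mod_eq_of_lt (show 1 < p ^ e - 1 by omega), one_mul, Nat.mod_mod]
    have hlt : p ^ (d % e) < p ^ e := Nat.pow_lt_pow_right hp.one_lt (Nat.mod_lt _ (Nat.pos_of_ne_zero he))
    have hpd : p ^ d % (p ^ e - 1) = 1 := by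
      rw [show p ^ d = 1 + (p ^ e - 1) * N by
        have : 1 ≤ p ^ d := Nat.one_le_pow _ _ hp.pos
        rw [mul_comm, hN]; omega, Nat.add_mul_mod_self_left]
      exact Nat.mod_eq_of_lt (by omega)
    rw [hpd] at hmod
    refine Nat.dvd_of_mod_eq_zero ?_
    rcases Nat.lt_or_ge (p ^ (d % e)) (p ^ e - 1) with h | h
    · rw [Nat.mod_eq_of_lt h] at hmod
      exact (Nat.pow_eq_one.mp hmod.symm).resolve_left hp.ne_one
    · exfalso
      have : p ^ (d % e) = p ^ e - 1 := by omega
      rw [this, Nat.mod_self] at hmod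
      omega
  subst hn
  rw [pow_mul] at hN
  have hn2 : 2 ≤ n := by
    by_contra hh
    interval_cases n <;> simp at hed
  generalize hq : p ^ e = q at hN hq3
  obtain ⟨q', rfl⟩ : ∃ k, q = k + 1 := ⟨q - 1, by omega⟩
  rw [Nat.add_sub_cancel] at hN
  have hgeom : N = ∑ j ∈ Finset.range n, (q' + 1) ^ j := by
    have := geom_sum_mul_add q' n
    refine Nat.eq_of_mul_eq_mul_right (show 0 < q' by omega) ?_
    omega
  have hexp : ∀ k : ℕ, 24 * (k + 5) < 3 ^ (k + 5) := by
    intro k
    induction k with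
    | zero => norm_num
    | succ k ih => rw [show k + 1 + 5 = (k + 5) + 1 by ring, pow_succ]; omega
  rcases Nat.lt_or_ge n 3 with hn3 | hn3
  · obtain rfl : n = 2 := by omega
    have hN2 : N = p ^ e + 1 := by rw [hgeom, hq, Finset.sum_range_succ, Finset.sum_range_succ, Finset.sum_range_zero]; ring
    rw [hN2] at hle hN24
    have he4 : e ≤ 4 := by
      by_contra hh
      obtain ⟨k, rfl⟩ : ∃ k, e = k + 5 := ⟨e - 5, by omega⟩
      have := hexp k
      have := Nat.pow_le_pow_left h3 (k + 5)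
      omega
    have hpe : p ≤ p ^ e := Nat.le_self_pow he p
    have hp95 : p ≤ 95 := by omega
    have he1 : 1 ≤ e := Nat.pos_of_ne_zero he
    interval_cases e
    · refine ⟨rfl, rfl, ?_⟩
      have : p ≤ 23 := by omega
      interval_cases p <;> norm_num at * <;> omega
    all_goals
      exfalso
      have : p ≤ 9 := by
        by_contra hh
        have := Nat.pow_le_pow_left (show 10 ≤ p by omega)
        first
          | (have := this 2; omega)
          | (have := this 3; omega)
          | (have := this 4; omega)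
      interval_cases p <;> norm_num at *
  · exfalso
    have h9 : (q' + 1) ^ 2 + (q' + 1) + 1 ≤ N := by
      rw [hgeom]
      have := Finset.sum_le_sum_of_subset (f := fun j => (q' + 1) ^ j) (Finset.range_mono hn3)
      simp only [Finset.sum_range_succ, Finset.sum_range_zero, pow_zero, pow_one] at this ⊢
      omega
    rcases Nat.lt_or_ge 1 e with he2 | he2
    · have h4 : 24 * e + 1 < (3 ^ e) ^ 2 := by
        clear * - he2
        induction e, he2 using Nat.le_induction with
        | base => norm_num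
        | succ e he ih => rw [pow_succ 3 e, mul_pow]; nlinarith
      have := Nat.pow_le_pow_left (hq ▸ Nat.pow_le_pow_left h3 e : 3 ^ e ≤ q' + 1) 2
      omega
    · obtain rfl : e = 1 := by omega
      have hq4 : q' + 1 < 5 := by
        by_contra hh
        have := Nat.pow_le_pow_left (show 5 ≤ q' + 1 by omega) 2
        omega
      have hq'4 : q' < 4 := by omega
      interval_cases q' <;> norm_num at hq h9 hgeom <;> try omega
      · rcases Nat.lt_or_ge n 4 with hn4 | hn4
        · obtain rfl : n = 3 := by omega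
          rw [hgeom] at hN24; norm_num [Finset.sum_range_succ] at hN24
        · have := Finset.sum_le_sum_of_subset (f := fun j => 3 ^ j) (Finset.range_mono hn4)
          norm_num [Finset.sum_range_succ] at this
          omega
      all_goals exact absurd (hq ▸ hp) (by norm_num)

/-- Degrees of the soluble exceptional sharply doubly transitive groups: if a solvable linear group over the prime field is regular on the non-zero vectors of `V` and has no irreducible cyclic normal subgroup, then `V` has 25, 49, 121 or 529 elements. -/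
theorem result {p : ℕ} [Fact p.Prime] {V : Type*} [AddCommGroup V] [Module (ZMod p) V] [Finite V] (H : Subgroup (V ≃ₗ[ZMod p] V)) (hreg : ∀ v w : V, v ≠ 0 → w ≠ 0 → ∃! h : H, (h : V ≃ₗ[ZMod p] V) v = w) (hI : ∀ A : Subgroup H, A.Normal → IsCyclic A → ∃ W : Submodule (ZMod p) V, W ≠ ⊥ ∧ W ≠ ⊤ ∧ ∀ a ∈ A, ∀ v ∈ W, ((a : H) : V ≃ₗ[ZMod p] V) v ∈ W) (hsolv : Group.IsSolvable H) : Nat.card V = 25 ∨ Nat.card V = 49 ∨ Nat.card V = 121 ∨ Nat.card V = 529 := by
  classical
  let ρ : H →* Module.End (ZMod p) V :=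
    { toFun := fun g => (g : V ≃ₗ[ZMod p] V).toLinearMap
      map_one' := rfl
      map_mul' := fun _ _ => rfl }
  have hρ : ∀ (g : H) v, ρ g v = (g : V ≃ₗ[ZMod p] V) v := fun _ _ => rfl
  have hρinj : Function.Injective ρ := fun g h e => Subtype.ext (LinearEquiv.toLinearMap_injective e)
  have hfree : ∀ (g : H) v, v ≠ 0 → ρ g v = v → g = 1 := fun g v hv e => (hreg v v hv hv).unique e (by simp)
  haveI : Finite (Module.End (ZMod p) V) := Finite.of_injective (fun f => (f : V → V)) DFunLike.coe_injective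
  haveI : Finite H := Finite.of_injective ρ hρinj
  -- a maximal normal abelian subgroup
  obtain ⟨A, ⟨hAn, hAc⟩, hAmax'⟩ := (Set.toFinite {B : Subgroup H | B.Normal ∧ IsMulCommutative B}).exists_maximal
    ⟨⊥, inferInstance, inferInstance⟩
  have hAmax : ∀ B : Subgroup H, B.Normal → IsMulCommutative B → A ≤ B → B = A := fun B h1 h2 h3 =>
    le_antisymm (hAmax' ⟨h1, h2⟩ h3) h3
  obtain ⟨hcyc, W, hW, hWt, hWi, hWm, hdvd⟩ := Cfsg.Agent.S0684.result H hreg hI A hAn hAc hAmax
  obtain ⟨hAlt, -⟩ := Cfsg.Agent.S0685.result H hreg hI A hAn hAc hAmax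
  haveI := hAn
  haveI := hcyc
  obtain ⟨⟨a, haA⟩, hagen⟩ := IsCyclic.exists_generator (α := A)
  have hApow : ∀ b ∈ A, ∃ n : ℕ, a ^ n = b := fun b hb => by
    obtain ⟨n, hn⟩ := (mem_powers_iff_mem_zpowers.mpr (hagen ⟨b, hb⟩) : (⟨b, hb⟩ : A) ∈ Submonoid.powers ⟨a, haA⟩)
    exact ⟨n, congrArg Subtype.val hn⟩
  set R := ρ a with hR
  obtain ⟨x₀, hx₀W, hx₀⟩ := Submodule.exists_mem_ne_zero_of_ne_bot hW
  -- translates
  let tr : H → Submodule (ZMod p) V := fun g => W.map (ρ g)
  have htr_inv : ∀ g : H, ∀ b ∈ A, ∀ v ∈ tr g, ρ b v ∈ tr g := by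
    rintro g b hb _ ⟨w, hw, rfl⟩
    refine ⟨ρ (g⁻¹ * b * g) w, hWi _ (hAn.conj_mem' b hb g) w hw, ?_⟩
    rw [← Module.End.mul_apply, ← map_mul, show g * (g⁻¹ * b * g) = b * g by group, map_mul, Module.End.mul_apply]
  have htr_eq : ∀ g : H, ∀ v, v ≠ 0 → v ∈ W → v ∈ tr g → tr g = W := by
    intro g v hv hvW hvg
    rcases hWm (W ⊓ tr g) inf_le_left (fun b hb x hx => ⟨hWi b hb x hx.1, htr_inv g b hb x hx.2⟩) with e | e
    · have hm : v ∈ W ⊓ tr g := ⟨hvW, hvg⟩
      rw [e] at hm
      exact absurd ((Submodule.mem_bot _).mp hm) hv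
    · exact (Submodule.eq_of_le_of_finrank_le (inf_eq_left.mp e) (Submodule.finrank_map_le _ _)).symm
  have hcomm_poly : ∀ (q : Polynomial (ZMod p)), ∀ b ∈ A, ρ b * Polynomial.aeval R q = Polynomial.aeval R q * ρ b := by
    intro q b hb
    obtain ⟨n, rfl⟩ := hApow b hb
    rw [map_pow, ← Polynomial.aeval_X_pow R (R := ZMod p), ← map_mul, ← map_mul, mul_comm]
  -- the minimal polynomial on `W`
  let T : Module.End (ZMod p) W := R.restrict (fun v hv => hWi a haA v hv)
  have hTq : ∀ (q : Polynomial (ZMod p)) (x : W), ((Polynomial.aeval T q x : W) : V) = Polynomial.aeval R q x := by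
    intro q
    induction q using Polynomial.induction_on with
    | C c => intro x; simp
    | add q r hq hr => intro x; simp [hq, hr]
    | monomial n c ih =>
      intro x
      rw [pow_succ, ← mul_assoc, map_mul (Polynomial.aeval T), map_mul (Polynomial.aeval R), Polynomial.aeval_X,
        Polynomial.aeval_X, Module.End.mul_apply, Module.End.mul_apply, ih (T x)]
      rfl
  have hker : ∀ (q : Polynomial (ZMod p)) (x : W), x ≠ 0 → Polynomial.aeval T q x = 0 → Polynomial.aeval T q = 0 := by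
    intro q x hx h0
    rcases hWm (W ⊓ LinearMap.ker (Polynomial.aeval R q)) inf_le_left (fun b hb v hv => ⟨hWi b hb v hv.1, by
        refine LinearMap.mem_ker.mpr ?_
        show Polynomial.aeval R q (ρ b v) = 0
        rw [← Module.End.mul_apply, ← hcomm_poly q b hb, Module.End.mul_apply,
          LinearMap.mem_ker.mp hv.2, map_zero]⟩) with e | e
    · exfalso
      refine hx (Subtype.ext ((Submodule.mem_bot (ZMod p)).mp (e ▸ ⟨x.2, ?_⟩)))
      exact LinearMap.mem_ker.mpr ((hTq q x).symm.trans (by rw [h0]; rfl))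
    · refine LinearMap.ext fun y => Subtype.ext ?_
      rw [hTq]
      exact LinearMap.mem_ker.mp (inf_eq_left.mp e y.2)
  haveI : Nontrivial W := ⟨⟨⟨x₀, hx₀W⟩, 0, fun e => hx₀ (congrArg Subtype.val e)⟩⟩
  set f := minpoly (ZMod p) T with hf
  have hfm : f.Monic := minpoly.monic (Algebra.IsIntegral.isIntegral T)
  have hfirr : Irreducible f := by
    refine ⟨minpoly.not_isUnit _ _, fun g h hgh => ?_⟩
    have h0 : Polynomial.aeval T g (Polynomial.aeval T h ⟨x₀, hx₀W⟩) = 0 := by
      rw [← Module.End.mul_apply, ← map_mul, ← hgh, minpoly.aeval, LinearMap.zero_apply]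
    by_cases hh : Polynomial.aeval T h ⟨x₀, hx₀W⟩ = 0
    · left
      obtain ⟨c, hc⟩ := minpoly.dvd _ _ (hker h ⟨x₀, hx₀W⟩ (fun e => hx₀ (congrArg Subtype.val e)) hh)
      refine isUnit_iff_exists_inv.mpr ⟨c, mul_left_cancel₀ hfm.ne_zero ?_⟩
      rw [mul_one]
      conv_rhs => rw [hgh]
      rw [hc, ← hf] <;> ring
    · right
      obtain ⟨c, hc⟩ := minpoly.dvd _ _ (hker g _ hh h0)
      refine isUnit_iff_exists_inv.mpr ⟨c, mul_left_cancel₀ hfm.ne_zero ?_⟩
      rw [mul_one]
      conv_rhs => rw [hgh]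
      rw [hc, ← hf] <;> ring
  have hfR : Polynomial.aeval R f = 0 := by
    have hW0 : ∀ w ∈ W, Polynomial.aeval R f w = 0 := fun w hw => by
      rw [← hTq f ⟨w, hw⟩, minpoly.aeval]; rfl
    refine LinearMap.ext fun y => ?_
    rw [LinearMap.zero_apply]
    by_cases hy : y ∈ W
    · exact hW0 y hy
    have hy0 : y ≠ 0 := fun e => hy (e ▸ W.zero_mem)
    have hxy : x₀ + y ≠ 0 := fun e => hy (by rw [show y = -x₀ from eq_neg_of_add_eq_zero_right e]; exact W.neg_mem hx₀W)
    obtain ⟨g, hg, -⟩ := hreg x₀ (x₀ + y) hx₀ hxy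
    obtain ⟨g', hg', -⟩ := hreg x₀ y hx₀ hy0
    by_contra ht
    have stab : ∀ (g : H) v, v ∈ tr g → Polynomial.aeval R f v ∈ tr g := by
      intro g v hv
      clear ht
      induction f using Polynomial.induction_on generalizing v with
      | C c => simp only [Polynomial.aeval_C, Module.algebraMap_end_apply]; exact Submodule.smul_mem _ _ hv
      | add q r hq hr => rw [map_add, LinearMap.add_apply]; exact add_mem (hq v hv) (hr v hv)
      | monomial n c ih =>
        rw [pow_succ, ← mul_assoc, map_mul (Polynomial.aeval R), Polynomial.aeval_X, Module.End.mul_apply]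
        exact ih _ (htr_inv g a haA v hv)
    have h1 : Polynomial.aeval R f y ∈ tr g := by
      have := stab g (x₀ + y) ⟨x₀, hx₀W, hg⟩
      rwa [map_add, hW0 _ hx₀W, zero_add] at this
    obtain ⟨w₁, hw₁, hw₁'⟩ := h1
    obtain ⟨w₂, hw₂, hw₂'⟩ := stab g' y ⟨x₀, hx₀W, hg'⟩
    have hmem : w₁ ∈ tr (g⁻¹ * g') := ⟨w₂, hw₂, by
      rw [map_mul, Module.End.mul_apply, hw₂', ← hw₁', ← Module.End.mul_apply, ← map_mul, inv_mul_cancel, map_one]
      rfl⟩
    have e := htr_eq _ w₁ (fun e => ht (by rw [← hw₁', e, map_zero])) hw₁ hmem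
    have hyg : y ∈ tr g := by
      have : ρ (g⁻¹ * g') x₀ ∈ W := e ▸ Submodule.mem_map_of_mem hx₀W
      refine ⟨_, this, ?_⟩
      rw [← Module.End.mul_apply, ← map_mul, mul_inv_cancel_left]
      exact hg'
    have hxg : x₀ ∈ tr g := by
      have h2 : x₀ + y ∈ tr g := ⟨x₀, hx₀W, hg⟩
      simpa using sub_mem h2 hyg
    exact hy (htr_eq g x₀ hx₀ hx₀W hxg ▸ hyg)
  have hdiv : ∀ q : Polynomial (ZMod p), Polynomial.aeval R q = 0 ↔ f ∣ q := by
    intro q
    refine ⟨fun h => minpoly.dvd _ _ (LinearMap.ext fun x => Subtype.ext ?_), fun ⟨c, hc⟩ => by rw [hc, map_mul, hfR, zero_mul]⟩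
    rw [hTq, h]; rfl
  -- degree
  set e := Module.finrank (ZMod p) W with he
  have hdeg : f.natDegree = e := by
    let Φ : Polynomial.degreeLT (ZMod p) f.natDegree →ₗ[ZMod p] W :=
      ((LinearMap.applyₗ (⟨x₀, hx₀W⟩ : W)).comp (Polynomial.aeval T).toLinearMap).comp (Submodule.subtype _)
    have hΦ : Function.Bijective Φ := by
      refine ⟨(injective_iff_map_eq_zero Φ).mpr fun q hq => Subtype.ext ?_, fun w => ?_⟩
      · have h0 := hker q.1 ⟨x₀, hx₀W⟩ (fun e => hx₀ (congrArg Subtype.val e)) hq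
        refine Polynomial.eq_zero_of_dvd_of_degree_lt (minpoly.dvd _ _ h0) ?_
        rw [← hf, Polynomial.degree_eq_natDegree hfm.ne_zero]
        exact Polynomial.mem_degreeLT.mp q.2
      · let U : Submodule (ZMod p) V := LinearMap.range ((LinearMap.applyₗ x₀).comp (Polynomial.aeval R).toLinearMap)
        have hUW : ∀ q : Polynomial (ZMod p), Polynomial.aeval R q x₀ ∈ W := fun q => by
          rw [← hTq q ⟨x₀, hx₀W⟩]; exact Subtype.mem _
        have hU : U = W := by
          rcases hWm U (by rintro _ ⟨q, rfl⟩; exact hUW q) (by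
              rintro b hb _ ⟨q, rfl⟩
              obtain ⟨n, rfl⟩ := hApow b hb
              refine ⟨Polynomial.X ^ n * q, ?_⟩
              show Polynomial.aeval R (Polynomial.X ^ n * q) x₀ = ρ (a ^ n) (Polynomial.aeval R q x₀)
              rw [map_mul, Polynomial.aeval_X_pow, map_pow]; rfl) with h | h
          · exfalso
            refine hx₀ ((Submodule.mem_bot (ZMod p)).mp (h ▸ ⟨1, ?_⟩))
            show Polynomial.aeval R (1 : Polynomial (ZMod p)) x₀ = x₀
            rw [map_one]; rfl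
          · exact h
        obtain ⟨q, hq⟩ : (w : V) ∈ U := hU ▸ w.2
        refine ⟨⟨q %ₘ f, Polynomial.mem_degreeLT.mpr (by
          rw [← Polynomial.degree_eq_natDegree hfm.ne_zero]; exact Polynomial.degree_modByMonic_lt _ hfm)⟩, Subtype.ext ?_⟩
        show ((Polynomial.aeval T (q %ₘ f) ⟨x₀, hx₀W⟩ : W) : V) = w
        rw [hTq, Polynomial.aeval_modByMonic_eq_self_of_root hfR]
        exact hq
    rw [he, ← (LinearEquiv.ofBijective Φ hΦ).finrank_eq, (Polynomial.degreeLTEquiv (ZMod p) f.natDegree).finrank_eq,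
      Module.finrank_fin_fun]
  have he0 : e ≠ 0 := fun e0 => hW (Submodule.finrank_eq_zero.1 e0)
  haveI := Fact.mk hfirr
  let E := AdjoinRoot f
  haveI : Module.Finite (ZMod p) E := (AdjoinRoot.powerBasis hfirr.ne_zero).finite
  haveI : Finite E := Module.finite_of_finite (ZMod p)
  -- roots of unity
  have hroot : ∀ u ∈ Subgroup.centralizer (A : Set H), ∀ q : ℕ, q.Prime → ∀ z ∈ A, orderOf z = q → u ^ q = 1 → u ∈ A := by
    intro u hu q hq z hz hoz huq
    haveI := Fact.mk hq
    obtain ⟨j, rfl⟩ := hApow z hz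
    set U := ρ u with hU
    have hRU : R * U = U * R := by rw [hR, hU, ← map_mul, ← map_mul, (Subgroup.mem_centralizer_iff.mp hu a haA)]
    let S := Algebra.adjoin (ZMod p) ({R, U} : Set (Module.End (ZMod p) V))
    letI : CommRing S := Algebra.adjoinCommRingOfComm (ZMod p) (by
      intro x hx y hy
      rcases hx with rfl | rfl <;> rcases hy with rfl | rfl <;> first | rfl | exact hRU | exact hRU.symm)
    let RS : S := ⟨R, Algebra.subset_adjoin (Or.inl rfl)⟩
    let US : S := ⟨U, Algebra.subset_adjoin (Or.inr rfl)⟩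
    have hfS : Polynomial.eval₂ (algebraMap (ZMod p) S) RS f = 0 := by
      apply Subtype.ext
      show ((Polynomial.aeval RS f : S) : Module.End (ZMod p) V) = 0
      rw [Polynomial.aeval_subalgebra_coe]
      exact hfR
    let φ : E →+* S := AdjoinRoot.lift (algebraMap (ZMod p) S) RS hfS
    set ζ := AdjoinRoot.root f ^ j with hζ
    have hζq : ζ ^ q = 1 := by
      rw [hζ, ← pow_mul, ← AdjoinRoot.mk_X, ← map_pow, ← map_one (AdjoinRoot.mk f), AdjoinRoot.mk_eq_mk, ← hdiv,
        map_sub, Polynomial.aeval_X_pow, map_one, hR, ← map_pow, pow_mul, ← hoz, pow_orderOf_eq_one, map_one, sub_self]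
    have hz1 : a ^ j ≠ 1 := fun e' => by rw [e', orderOf_one] at hoz; exact hq.ne_one hoz.symm
    have hζ1 : ζ ≠ 1 := fun e' => hz1 (hρinj (by
      rw [hζ, ← AdjoinRoot.mk_X, ← map_pow, ← map_one (AdjoinRoot.mk f), AdjoinRoot.mk_eq_mk, ← hdiv, map_sub,
        Polynomial.aeval_X_pow, map_one, sub_eq_zero] at e'
      rw [map_pow, map_one]; exact e'))
    have hprim : IsPrimitiveRoot ζ q := orderOf_eq_prime hζq hζ1 ▸ IsPrimitiveRoot.orderOf ζ
    have hprod := congrArg (Polynomial.eval₂ φ US) (Polynomial.X_pow_sub_one_eq_prod hq.pos hprim)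
    rw [Polynomial.eval₂_finsetProd] at hprod
    simp only [Polynomial.eval₂_sub, Polynomial.eval₂_X_pow, Polynomial.eval₂_X, Polynomial.eval₂_C, Polynomial.eval₂_one] at hprod
    have hUq : US ^ q = 1 := Subtype.ext (show U ^ q = 1 by rw [hU, ← map_pow, huq, map_one])
    rw [hUq, sub_self] at hprod
    by_contra huA
    have hinj : ∀ (s : Finset E), (∀ ξ ∈ s, ξ ^ q = 1) →
        Function.Injective ((∏ ξ ∈ s, (US - φ ξ) : S) : Module.End (ZMod p) V) := by
      intro s
      induction s using Finset.induction with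
      | empty => intro _ x y h; simpa using h
      | @insert ξ t hξ ih =>
        intro hs
        rw [Finset.prod_insert hξ, Subalgebra.coe_mul, Module.End.mul_eq_comp, LinearMap.coe_comp]
        refine Function.Injective.comp ?_ (ih fun η hη => hs η (Finset.mem_insert_of_mem hη))
        haveI : NeZero q := ⟨hq.ne_zero⟩
        obtain ⟨i, -, hi⟩ := hprim.eq_pow_of_pow_eq_one (hs ξ (Finset.mem_insert_self _ _))
        have hφξ : ((φ ξ : S) : Module.End (ZMod p) V) = ρ (a ^ (j * i)) := by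
          rw [← hi, hζ, ← pow_mul, map_pow φ, AdjoinRoot.lift_root, map_pow ρ, ← hR]
          exact SubmonoidClass.coe_pow RS _
        refine (injective_iff_map_eq_zero _).mpr fun v hv => ?_
        by_contra hv0
        rw [AddSubgroupClass.coe_sub, hφξ, LinearMap.sub_apply, sub_eq_zero] at hv
        change ρ u v = ρ (a ^ (j * i)) v at hv
        have h1 := hfree ((a ^ (j * i))⁻¹ * u) v hv0 (by
          rw [map_mul, Module.End.mul_apply, hv, ← Module.End.mul_apply, ← map_mul, inv_mul_cancel, map_one]; rfl)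
        exact huA (inv_mul_eq_one.mp h1 ▸ pow_mem haA _)
    have h0 := hinj (Polynomial.nthRootsFinset q (1 : E)) (fun ξ hξ => (Polynomial.mem_nthRootsFinset hq.pos 1).mp hξ)
    rw [← hprod] at h0
    exact hx₀ (h0 (a₁ := x₀) (a₂ := 0) (by simp))
  have hyp : CfsgLib.SharpSolvable.Hyp A := ⟨hAn, hcyc,
    fun B h1 h2 h3 => hAmax B h1 ⟨⟨fun x y => Subtype.ext (h2 x x.2 y y.2)⟩⟩ h3, hroot⟩
  obtain ⟨h24, x4, hx4⟩ := hyp.main hsolv hAlt.not_ge
  set C := Subgroup.centralizer (A : Set H) with hC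
  -- Frobenius
  have hfrob : ∀ g : H, ∃ i : ℕ, g * a * g⁻¹ = a ^ p ^ i := by
    intro g
    obtain ⟨j, hj⟩ := hApow _ (hAn.conj_mem a haA g)
    have hsemi : ∀ q : Polynomial (ZMod p), Polynomial.aeval (R ^ j) q * ρ g = ρ g * Polynomial.aeval R q := by
      intro q
      induction q using Polynomial.induction_on' with
      | add q r hq hr => rw [map_add, map_add, add_mul, mul_add, hq, hr]
      | monomial n c =>
        rw [Polynomial.aeval_monomial, Polynomial.aeval_monomial, mul_assoc, ← mul_assoc (ρ g), ← Algebra.commutes,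
          mul_assoc]
        congr 1
        rw [hR, ← map_pow, ← map_pow, ← map_pow, ← map_mul, ← map_mul, hj, conj_pow, inv_mul_cancel_right]
    have hfj : Polynomial.aeval (R ^ j) f = 0 := by
      have := hsemi f
      rw [hfR, mul_zero] at this
      refine LinearMap.ext fun v => ?_
      have h := LinearMap.congr_fun this (ρ g⁻¹ v)
      rw [Module.End.mul_apply, ← Module.End.mul_apply (ρ g), ← map_mul, mul_inv_cancel, map_one] at h
      exact h
    have hβ : Polynomial.aeval (AdjoinRoot.root f ^ j) f = 0 := by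
      have : f ∣ f.comp (Polynomial.X ^ j) := (hdiv _).mp (by rw [Polynomial.aeval_comp, Polynomial.aeval_X_pow, hfj])
      have h2 := AdjoinRoot.mk_eq_zero.mpr this
      rwa [← AdjoinRoot.aeval_eq, Polynomial.aeval_comp, Polynomial.aeval_X_pow] at h2
    let σ : E →ₐ[ZMod p] E := AdjoinRoot.liftAlgHom f (Algebra.ofId (ZMod p) E) (AdjoinRoot.root f ^ j) hβ
    obtain ⟨i, hi⟩ := (FiniteField.bijective_frobeniusAlgHom_pow (ZMod p) E).2 σ
    refine ⟨(i : ℕ), ?_⟩
    have hpow : ∀ (i : ℕ) (x : E), (FiniteField.frobeniusAlgHom (ZMod p) E ^ i) x = x ^ p ^ i := by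
      intro i
      induction i with
      | zero => intro x; simp
      | succ i ih =>
        intro x
        rw [pow_succ', AlgHom.mul_apply, ih, FiniteField.coe_frobeniusAlgHom, ZMod.card]
        show (x ^ p ^ i) ^ p = _
        rw [← pow_mul, ← pow_succ]
    have h3 := DFunLike.congr_fun hi (AdjoinRoot.root f)
    simp only at h3
    rw [hpow, show σ (AdjoinRoot.root f) = AdjoinRoot.root f ^ j from AdjoinRoot.lift_root hβ, ← AdjoinRoot.mk_X,
      ← map_pow, ← map_pow, AdjoinRoot.mk_eq_mk, ← hdiv, map_sub, Polynomial.aeval_X_pow, Polynomial.aeval_X_pow,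
      sub_eq_zero, hR, ← map_pow, ← map_pow] at h3
    rw [← hj, hρinj h3]
  haveI := Fintype.ofFinite A
  have hAcard : Nat.card A ∣ p ^ e - 1 := hdvd
  have hp1 : 1 < p ^ e := Nat.one_lt_pow he0 (Fact.out : p.Prime).one_lt
  have hcopA : (Nat.card A).Coprime p := by
    refine ((Nat.Prime.coprime_iff_not_dvd Fact.out).mpr fun h => ?_).symm
    have h1 : p ∣ p ^ e - 1 := h.trans hAcard
    have h3 : p ∣ p ^ e := dvd_pow_self p he0
    have := Nat.dvd_sub h3 h1
    rw [show p ^ e - (p ^ e - 1) = 1 by omega, Nat.dvd_one] at this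
    exact (Fact.out : p.Prime).ne_one this
  letI : CommGroup A := IsCyclic.commGroup
  let π : MulAut A := MulEquiv.ofBijective (powMonoidHom p) (powCoprime hcopA).bijective
  have hπ : ∀ (i : ℕ) (x : A), (π ^ i) x = x ^ p ^ i := by
    intro i
    induction i with
    | zero => intro x; simp
    | succ i ih =>
      intro x
      rw [pow_succ', MulAut.mul_apply, ih]
      show (x ^ p ^ i) ^ p = _
      rw [← pow_mul, ← pow_succ]
  have hπe : π ^ e = 1 := by
    refine MulEquiv.ext fun x => ?_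
    rw [hπ, MulAut.one_apply]
    obtain ⟨c, hc⟩ := hAcard
    rw [show p ^ e = Nat.card A * c + 1 by omega, pow_succ, pow_mul, pow_card_eq_one', one_pow, one_mul]
  have hindexC : C.index ∣ e := by
    let θ : H →* MulAut A := MulAut.conjNormal
    have hker : θ.ker = C := by
      ext g
      rw [MonoidHom.mem_ker, hC, Subgroup.mem_centralizer_iff]
      constructor
      · intro hg b hb
        have := congrArg Subtype.val (DFunLike.congr_fun hg ⟨b, hb⟩)
        simp only [θ, MulAut.conjNormal_apply, MulAut.one_apply] at this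
        exact (mul_inv_eq_iff_eq_mul.1 this).symm
      · intro hg
        refine MulEquiv.ext fun b => Subtype.ext ?_
        rw [MulAut.conjNormal_apply, MulAut.one_apply, ← hg b b.2, mul_inv_cancel_right]
    have hrange : θ.range ≤ Subgroup.zpowers π := by
      rintro _ ⟨g, rfl⟩
      obtain ⟨i, hi⟩ := hfrob g
      refine ⟨(i : ℤ), ?_⟩
      simp only [zpow_natCast]
      refine MulEquiv.ext fun b => Subtype.ext ?_
      obtain ⟨n, hn⟩ := hApow b b.2
      rw [hπ, Subgroup.coe_pow, MulAut.conjNormal_apply, ← hn, ← conj_pow, hi, ← pow_mul, ← pow_mul, mul_comm]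
    rw [← hker, Subgroup.index_ker]
    refine (Subgroup.card_dvd_of_le hrange).trans ?_
    rw [Nat.card_zpowers]
    exact orderOf_dvd_of_pow_eq_one hπe
  -- counting
  set d := Module.finrank (ZMod p) V with hd
  have hcardV : Nat.card V = p ^ d := by rw [Module.natCard_eq_pow_finrank (K := ZMod p) (V := V), Nat.card_zmod]
  have hH : Nat.card H = p ^ d - 1 := by
    have hb : Function.Bijective (fun g : H => (⟨(g : V ≃ₗ[ZMod p] V) x₀, by simp [hx₀]⟩ : {x : V // x ≠ 0})) := by
      refine ⟨fun g h e => ?_, fun ⟨x, hx⟩ => ?_⟩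
      · exact (hreg x₀ _ hx₀ (by simp [hx₀])).unique (congrArg Subtype.val e) rfl
      · obtain ⟨g, hg, -⟩ := hreg x₀ x hx₀ hx
        exact ⟨g, Subtype.ext hg⟩
    have := Fintype.ofFinite V
    rw [Nat.card_congr (Equiv.ofBijective _ hb), Nat.card_eq_fintype_card, Fintype.card_subtype_compl,
      Fintype.card_subtype_eq, ← Nat.card_eq_fintype_card, hcardV]
  let S : Subgroup H :=
    { carrier := {g | tr g = W}
      one_mem' := by show W.map (ρ 1) = W; rw [map_one]; exact Submodule.map_id W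
      mul_mem' := fun {g h} hg hh => by
        show W.map (ρ (g * h)) = W
        rw [map_mul, Module.End.mul_eq_comp, Submodule.map_comp, show W.map (ρ h) = W from hh]; exact hg
      inv_mem' := fun {g} hg => by
        show W.map (ρ g⁻¹) = W
        conv_lhs => rw [← show W.map (ρ g) = W from hg]
        rw [← Submodule.map_comp, ← Module.End.mul_eq_comp, ← map_mul, inv_mul_cancel, map_one]; exact Submodule.map_id W }
  have hS : Nat.card S = p ^ e - 1 := by
    have hmaps : ∀ g : S, (⟨ρ g x₀, (g.2 : tr g = W) ▸ Submodule.mem_map_of_mem hx₀W⟩ : W) ≠ 0 := fun g e' => by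
      have : (g.1 : V ≃ₗ[ZMod p] V) x₀ = 0 := congrArg Subtype.val e'
      exact hx₀ ((g.1 : V ≃ₗ[ZMod p] V).map_eq_zero_iff.mp this)
    have hb : Function.Bijective (fun g : S => (⟨_, hmaps g⟩ : {w : W // w ≠ 0})) := by
      refine ⟨fun g h e' => ?_, fun ⟨⟨w, hw⟩, hw0⟩ => ?_⟩
      · have e2 : (g.1 : V ≃ₗ[ZMod p] V) x₀ = (h.1 : V ≃ₗ[ZMod p] V) x₀ := congrArg (fun z => ((z.1 : W) : V)) e'
        exact Subtype.ext ((hreg x₀ _ hx₀ (by simp [hx₀])).unique e2 rfl)
      · have hw0' : w ≠ 0 := fun e' => hw0 (Subtype.ext e')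
        obtain ⟨g, hg, -⟩ := hreg x₀ w hx₀ hw0'
        exact ⟨⟨g, htr_eq g w hw0' hw ⟨x₀, hx₀W, hg⟩⟩, Subtype.ext (Subtype.ext hg)⟩
    have := Fintype.ofFinite W
    rw [Nat.card_congr (Equiv.ofBijective _ hb), Nat.card_eq_fintype_card, Fintype.card_subtype_compl,
      Fintype.card_subtype_eq, ← Nat.card_eq_fintype_card, Module.natCard_eq_pow_finrank (K := ZMod p) (V := W), Nat.card_zmod]
  have hp2 : p ≠ 2 := by
    intro h
    have h4 : 4 ∣ p ^ d - 1 := by rw [← hH, ← hx4]; exact orderOf_dvd_natCard x4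
    have hd0 : d ≠ 0 := fun h0 => by
      have : p ^ e ≤ p ^ d := Nat.pow_le_pow_right (Fact.out : p.Prime).pos (Submodule.finrank_le W)
      rw [h0, pow_zero] at this; omega
    have h2 : 2 ∣ p ^ d := h ▸ dvd_pow_self p hd0
    have := Nat.one_le_pow d p (Fact.out : p.Prime).pos
    omega
  obtain ⟨r, hr⟩ := hAcard
  obtain ⟨he1, hd2, hp⟩ := arith p e d S.index (Nat.card A) r (A.relIndex C) C.index Fact.out hp2 he0
    (Submodule.finrank_lt hWt)
    (by rw [← hS, Subgroup.index_mul_card, hH]) h24 hindexC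
    (by
      rw [mul_assoc, mul_comm r, ← hr, ← hS, Subgroup.index_mul_card, mul_comm C.index, Subgroup.relIndex_mul_index
        (fun b hb => Subgroup.mem_centralizer_iff.mpr fun c hc => (by exact congrArg Subtype.val (mul_comm (⟨c, hc⟩ : A) ⟨b, hb⟩)) : A ≤ C),
        Subgroup.index_mul_card])
    Nat.card_pos.ne'
  rw [hd2] at hcardV hH
  rcases hp with h | h | h | h | h
  · exfalso
    subst h
    have hcard4 : Nat.card (Subgroup.zpowers x4) = 4 := by rw [Nat.card_zpowers, hx4]
    have hidx : (Subgroup.zpowers x4).index = 2 := by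
      have := (Subgroup.zpowers x4).index_mul_card
      rw [hcard4, hH] at this
      omega
    haveI : (Subgroup.zpowers x4).Normal := Subgroup.normal_of_index_eq_two hidx
    obtain ⟨W', hW', hW't, hW'i⟩ := hI (Subgroup.zpowers x4) inferInstance inferInstance
    have h1 : Module.finrank (ZMod 3) W' = 1 := by
      have h2 := Submodule.finrank_lt hW't
      have h3 : Module.finrank (ZMod 3) W' ≠ 0 := fun e' => hW' (Submodule.finrank_eq_zero.1 e')
      omega
    obtain ⟨⟨v, hv⟩, hv0, hgen⟩ := finrank_eq_one_iff'.mp h1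
    obtain ⟨c, hc⟩ := hgen ⟨(x4 : V ≃ₗ[ZMod 3] V) v, hW'i x4 (Subgroup.mem_zpowers x4) v hv⟩
    have hc' : c • v = (x4 : V ≃ₗ[ZMod 3] V) v := congrArg Subtype.val hc
    have hvne : v ≠ 0 := fun e' => hv0 (Subtype.ext e')
    have hx2 : x4 * x4 = 1 := by
      refine hfree _ v hvne ?_
      rw [map_mul, Module.End.mul_apply, hρ, hρ, ← hc', map_smul, ← hc', smul_smul]
      have hc0 : c ≠ 0 := fun e' => by
        rw [e', zero_smul] at hc'
        exact hvne ((x4 : V ≃ₗ[ZMod 3] V).map_eq_zero_iff.mp hc'.symm)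
      have : c * c = 1 := zmod3_sq c hc0
      rw [this, one_smul]
    have := orderOf_dvd_of_pow_eq_one (show x4 ^ 2 = 1 by rw [sq, hx2])
    rw [hx4] at this
    norm_num at this
  all_goals rw [hcardV, h]; norm_num

end Cfsg.Agent.S0688
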