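import Cfsg.Statements.S0687
import Mathlib
import Cfsg.Agent.S0688
import Cfsg.Agent.S0689
-- import your own Cfsg.Agent.* helpers here

set_option autoImplicit false
open Cfsg

namespace Cfsg.Agent.S0687

/-- In a linear group over the prime field that is regular on non-zero vectors and has no irreducible cyclic normal subgroup, a normal subgroup `N` minimal among the non-abelian normal subgroups centralising a maximal normal abelian subgroup `A` is irreducible on `V`, and its centraliser is `A`. -/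
theorem result {p : ℕ} [Fact p.Prime] {V : Type*} [AddCommGroup V] [Module (ZMod p) V] [Finite V] (H : Subgroup (V ≃ₗ[ZMod p] V)) (hreg : ∀ v w : V, v ≠ 0 → w ≠ 0 → ∃! h : H, (h : V ≃ₗ[ZMod p] V) v = w) (hI : ∀ A : Subgroup H, A.Normal → IsCyclic A → ∃ W : Submodule (ZMod p) V, W ≠ ⊥ ∧ W ≠ ⊤ ∧ ∀ a ∈ A, ∀ v ∈ W, ((a : H) : V ≃ₗ[ZMod p] V) v ∈ W) (A : Subgroup H) (hAn : A.Normal) (hAc : IsMulCommutative A) (hAmax : ∀ B : Subgroup H, B.Normal → IsMulCommutative B → A ≤ B → B = A) (N : Subgroup H) (hNn : N.Normal) (hNle : N ≤ Subgroup.centralizer (A : Set H)) (hNna : ¬ IsMulCommutative N) (hNmin : ∀ M : Subgroup H, M.Normal → M ≤ N → ¬ IsMulCommutative M → M = N) : (∀ W : Submodule (ZMod p) V, (∀ n ∈ N, ∀ v ∈ W, ((n : H) : V ≃ₗ[ZMod p] V) v ∈ W) → W = ⊥ ∨ W = ⊤) ∧ Subgroup.centralizer (N : Set H) = A := by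
  classical
  have hd : Module.finrank (ZMod p) V = 2 := by
    have hcard : Nat.card V = p ^ Module.finrank (ZMod p) V := by
      rw [Module.natCard_eq_pow_finrank (K := ZMod p) (V := V), Nat.card_zmod]
    have key : ∀ q : ℕ, q.Prime → Nat.card V = q ^ 2 → Module.finrank (ZMod p) V = 2 := fun q hq h => by
      rw [hcard] at h
      have hd0 : Module.finrank (ZMod p) V ≠ 0 := fun e => by
        rw [e, pow_zero] at h
        have := Nat.one_lt_pow two_ne_zero hq.one_lt
        omega
      exact (((Fact.out : p.Prime).pow_inj' hq hd0 two_ne_zero h).2)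
    by_cases hsolv : Group.IsSolvable H
    · rcases Cfsg.Agent.S0688.result H hreg hI hsolv with h | h | h | h
      · exact key 5 (by norm_num) (by rw [h]; norm_num)
      · exact key 7 (by norm_num) (by rw [h]; norm_num)
      · exact key 11 (by norm_num) (by rw [h]; norm_num)
      · exact key 23 (by norm_num) (by rw [h]; norm_num)
    · rcases Cfsg.Agent.S0689.result H hreg hsolv with ⟨h, -⟩ | ⟨h, -⟩ | ⟨h, -⟩
      · exact key 11 (by norm_num) (by rw [h]; norm_num)
      · exact key 29 (by norm_num) (by rw [h]; norm_num)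
      · exact key 59 (by norm_num) (by rw [h]; norm_num)
  have hirr : ∀ W : Submodule (ZMod p) V, (∀ n ∈ N, ∀ v ∈ W, ((n : H) : V ≃ₗ[ZMod p] V) v ∈ W) → W = ⊥ ∨ W = ⊤ := by
    intro W hWi
    by_contra hh
    push Not at hh
    have h1 : Module.finrank (ZMod p) W = 1 := by
      have h2 := Submodule.finrank_lt hh.2
      have h3 : Module.finrank (ZMod p) W ≠ 0 := fun e => hh.1 (Submodule.finrank_eq_zero.1 e)
      omega
    obtain ⟨⟨v, hv⟩, hv0, hgen⟩ := finrank_eq_one_iff'.mp h1
    have hvne : v ≠ 0 := fun e => hv0 (Subtype.ext e)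
    refine hNna ⟨⟨fun a b => Subtype.ext ?_⟩⟩
    obtain ⟨ca, ha⟩ := hgen ⟨_, hWi a a.2 v hv⟩
    obtain ⟨cb, hb⟩ := hgen ⟨_, hWi b b.2 v hv⟩
    have ha' : ca • v = ((a : H) : V ≃ₗ[ZMod p] V) v := congrArg Subtype.val ha
    have hb' : cb • v = ((b : H) : V ≃ₗ[ZMod p] V) v := congrArg Subtype.val hb
    have e : (((a * b : N) : H) : V ≃ₗ[ZMod p] V) v = (((b * a : N) : H) : V ≃ₗ[ZMod p] V) v := by
      simp only [Subgroup.coe_mul, LinearEquiv.mul_apply, ← ha', ← hb', map_smul, smul_smul, mul_comm]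
    exact (hreg v _ hvne (by simp [hvne])).unique e rfl
  refine ⟨hirr, ?_⟩
  have hAN : A ≤ Subgroup.centralizer (N : Set H) := Subgroup.le_centralizer_iff.mp hNle
  haveI := hNn
  refine hAmax _ inferInstance ?_ hAN
  -- Schur and Wedderburn
  set S : Subring (Module.End (ZMod p) V) := Subring.centralizer {f | ∃ n ∈ N, f = ((n : H) : V ≃ₗ[ZMod p] V).toLinearMap} with hS
  haveI : Finite (Module.End (ZMod p) V) := Finite.of_injective (fun f => (f : V → V)) DFunLike.coe_injective
  haveI : Nontrivial V := Module.nontrivial_of_finrank_pos (R := ZMod p) (by omega)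
  haveI : NoZeroDivisors S := ⟨fun {r t} h => by
    by_contra hh
    push Not at hh
    rcases hirr (LinearMap.ker (r : Module.End (ZMod p) V)) (fun n hn v hv => by
      have := LinearMap.congr_fun ((Subring.mem_centralizer_iff.mp r.2) _ ⟨n, hn, rfl⟩) v
      simp only [Module.End.mul_apply, LinearEquiv.coe_coe] at this
      rw [LinearMap.mem_ker] at hv ⊢
      rw [← this, hv, map_zero]) with e | e
    · refine hh.2 (Subtype.ext (LinearMap.ext fun v => ?_))
      have h2 := LinearMap.congr_fun (congrArg Subtype.val h) v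
      exact LinearMap.ker_eq_bot.mp e (h2.trans (map_zero (r : Module.End (ZMod p) V)).symm)
    · exact hh.1 (Subtype.ext (LinearMap.ker_eq_top.mp e))⟩
  haveI : IsDomain S := NoZeroDivisors.to_isDomain S
  have hF := Finite.isDomain_to_isField S
  refine ⟨⟨fun a b => Subtype.ext ?_⟩⟩
  have mk : ∀ y ∈ Subgroup.centralizer (N : Set H), ((y : H) : V ≃ₗ[ZMod p] V).toLinearMap ∈ S := fun y hy => by
    rw [hS, Subring.mem_centralizer_iff]
    rintro _ ⟨n, hn, rfl⟩
    have := congrArg (fun z : H => ((z : V ≃ₗ[ZMod p] V)).toLinearMap) (Subgroup.mem_centralizer_iff.mp hy n hn)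
    exact this
  have := congrArg Subtype.val (hF.mul_comm ⟨_, mk a a.2⟩ ⟨_, mk b b.2⟩)
  exact Subtype.ext (LinearEquiv.toLinearMap_injective this)

end Cfsg.Agent.S0687
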