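import Cfsg.Statements.S0690
import Mathlib
import Cfsg.Agent.Lib.ZassenhausFC.Main
-- import your own Cfsg.Agent.* helpers here

set_option autoImplicit false
open Cfsg

namespace Cfsg.Agent.S0690

/-- Zassenhaus: a perfect non-trivial group of fixed-point-free automorphisms of a finite group is isomorphic to `SL(2,5)`. -/
theorem result {K : Type*} [Group K] [Finite K] (G : Subgroup (MulAut K)) (hfpf : ∀ φ ∈ G, φ ≠ 1 → ∀ k : K, φ k = k → k = 1) (hperf : commutator G = ⊤) (hne : G ≠ ⊥) : Nonempty (G ≃* Matrix.SpecialLinearGroup (Fin 2) (ZMod 5)) := by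
  have : Finite (MulAut K) := Finite.of_injective (fun a : MulAut K => (fun k => a k)) fun a b h =>
    MulEquiv.ext fun k => congrFun h k
  have hnt : Nontrivial G := (Subgroup.nontrivial_iff_ne_bot G).mpr hne
  have hns : ¬ Group.IsSolvable G := fun h =>
    (Group.IsSolvable.commutator_lt_top_of_nontrivial G).ne hperf
  obtain ⟨f, M, hker, hmap, ⟨e⟩, hMn, hMC, hcop, hMZ, hjoin, hdisj⟩ :=
    CfsgLib.ZasFC.main (CfsgLib.ZasFC.hasFunctional_of_aut G hfpf hne) hns
  have hperf' : ∀ {A : Type} [CommGroup A] (g : G →* A), g.range = ⊥ := fun {A} _ g => by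
    rw [MonoidHom.range_eq_bot_iff, ← MonoidHom.ker_eq_top_iff, eq_top_iff, ← hperf]
    exact Abelianization.commutator_subset_ker g
  have htop : CfsgLib.ZasFC.three G ⊔ M = ⊤ := by
    rw [hjoin, eq_top_iff]
    intro g _
    rw [Subgroup.mem_comap, Equiv.Perm.mem_alternatingGroup]
    have h1 := hperf' (Equiv.Perm.sign.comp f)
    exact DFunLike.congr_fun (MonoidHom.range_eq_bot_iff.mp h1) g
  have hT : CfsgLib.ZasFC.three G = ⊤ := by
    by_contra hne3
    haveI : Nontrivial (G ⧸ CfsgLib.ZasFC.three G) := (QuotientGroup.nontrivial_iff).mpr hne3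
    haveI := hMZ
    haveI : Group.IsSolvable (G ⧸ CfsgLib.ZasFC.three G) := by
      refine Group.isSolvable_of_surjective (f := (QuotientGroup.mk' (CfsgLib.ZasFC.three G)).comp M.subtype) fun q => ?_
      obtain ⟨x, rfl⟩ := QuotientGroup.mk_surjective q
      obtain ⟨y, hy, w, hw, rfl⟩ := Subgroup.mem_sup_of_normal_left.mp (htop.ge (Subgroup.mem_top x))
      refine ⟨⟨w, hw⟩, ?_⟩
      rw [MonoidHom.comp_apply, Subgroup.coe_subtype, QuotientGroup.mk'_apply, QuotientGroup.mk_mul,
        (QuotientGroup.eq_one_iff y).mpr hy, one_mul]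
    refine (Group.IsSolvable.commutator_lt_top_of_nontrivial (G ⧸ CfsgLib.ZasFC.three G)).ne ?_
    rw [commutator_def, ← Subgroup.map_top_of_surjective _ (QuotientGroup.mk'_surjective (CfsgLib.ZasFC.three G)),
      ← Subgroup.map_commutator, ← commutator_def, hperf]
  exact ⟨((MulEquiv.subgroupCongr hT).trans Subgroup.topEquiv).symm.trans e⟩

end Cfsg.Agent.S0690
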