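import Cfsg.Statements.S0691
import Mathlib
import Cfsg.Agent.Lib.Perm.SharpGL2
-- import your own Cfsg.Agent.* helpers here

set_option autoImplicit false
open Cfsg

namespace Cfsg.Agent.S0691

/-- An exceptional sharply doubly transitive group of degree 5^2: the listed matrices generate a subgroup of GL(2,5) of order 24 acting regularly on the non-zero vectors. -/
theorem result (A : Matrix.GeneralLinearGroup (Fin 2) (ZMod 5)) (B : Matrix.GeneralLinearGroup (Fin 2) (ZMod 5)) (C : Matrix.GeneralLinearGroup (Fin 2) (ZMod 5)) (hA : (A : Matrix (Fin 2) (Fin 2) (ZMod 5)) = !![2, 0; 0, -2]) (hB : (B : Matrix (Fin 2) (Fin 2) (ZMod 5)) = !![0, -1; 1, 0]) (hC : (C : Matrix (Fin 2) (Fin 2) (ZMod 5)) = !![1, 2; 1, -2]) : Nat.card (Subgroup.closure ({A, B, C} : Set (Matrix.GeneralLinearGroup (Fin 2) (ZMod 5)))) = 24 ∧ ∀ v w : Fin 2 → ZMod 5, v ≠ 0 → w ≠ 0 → ∃! h : Subgroup.closure ({A, B, C} : Set (Matrix.GeneralLinearGroup (Fin 2) (ZMod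 5))), Matrix.mulVec ((h : Matrix.GeneralLinearGroup (Fin 2) (ZMod 5)) : Matrix (Fin 2) (Fin 2) (ZMod 5)) v = w := by
  haveI : Fact (Nat.Prime 5) := ⟨by norm_num⟩
  have hr : ({A, B, C} : Set (Matrix.GeneralLinearGroup (Fin 2) (ZMod 5))) = Set.range (![A, B, C] : Fin 3 → _) := by
    ext x; simp [Fin.exists_fin_succ, eq_comm, or_comm, or_left_comm]
  rw [hr]
  refine CfsgLib.SharpGL2.main 5 (![A, B, C]) (![(2, 0, 0, 3), (0, 4, 1, 0), (1, 2, 1, 3)]) ?_
    [(2, 0, 0, 3), (0, 4, 1, 0), (1, 2, 1, 3)] [(0, 0), (1, 0), (2, 0), (0, 1), (1, 1), (2, 1), (0, 2), (2, 2), (1, 3), (2, 3), (0, 4), (1, 4), (2, 4), (1, 6), (2, 6), (2, 7), (2, 8), (0, 9), (2, 9), (2, 13), (2, 14), (2, 16), (2, 18)] 24 ?_ ?_ ?_ (by norm_num) ?_ ?_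
  · intro i
    fin_cases i
    · exact hA.trans (by decide)
    · exact hB.trans (by decide)
    · exact hC.trans (by decide)
  · decide +kernel
  · decide +kernel
  · decide +kernel
  · decide +kernel
  · decide +kernel

end Cfsg.Agent.S0691
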