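import Cfsg.Statements.S0692
import Mathlib
import Cfsg.Agent.Lib.Perm.SharpGL2
-- import your own Cfsg.Agent.* helpers here

set_option autoImplicit false
open Cfsg

namespace Cfsg.Agent.S0692

/-- An exceptional sharply doubly transitive group of degree 11^2: the listed matrices generate a subgroup of GL(2,11) of order 120 acting regularly on the non-zero vectors. -/
theorem result (A : Matrix.GeneralLinearGroup (Fin 2) (ZMod 11)) (B : Matrix.GeneralLinearGroup (Fin 2) (ZMod 11)) (hA : (A : Matrix (Fin 2) (Fin 2) (ZMod 11)) = !![0, -1; 1, 0]) (hB : (B : Matrix (Fin 2) (Fin 2) (ZMod 11)) = !![2, 4; 1, -3]) : Nat.card (Subgroup.closure ({A, B} : Set (Matrix.GeneralLinearGroup (Fin 2) (ZMod 11)))) = 120 ∧ ∀ v w : Fin 2 → ZMod 11, v ≠ 0 → w ≠ 0 → ∃! h : Subgroup.closure ({A, B} : Set (Matrix.GeneralLinearGroup (Fin 2) (ZMod 11))), Matrix.mulVec ((h : Matrix.GeneralLinearGroup (Fin 2) (ZMod 11)) : Matrix (Fin 2) (Fin 2) (ZMod 11))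 v = w := by
  haveI : Fact (Nat.Prime 11) := ⟨by norm_num⟩
  have hr : ({A, B} : Set (Matrix.GeneralLinearGroup (Fin 2) (ZMod 11))) = Set.range (![A, B] : Fin 2 → _) := by
    ext x; simp [Fin.exists_fin_succ, eq_comm, or_comm, or_left_comm]
  rw [hr]
  refine CfsgLib.SharpGL2.main 11 (![A, B]) (![(0, 10, 1, 0), (2, 4, 1, 8)]) ?_
    [(0, 10, 1, 0), (2, 4, 1, 8)] [(0, 0), (1, 0), (0, 1), (1, 1), (0, 2), (1, 2), (0, 3), (1, 3), (0, 4), (1, 4), (1, 5), (0, 6), (1, 7), (0, 8), (1, 8), (1, 9), (0, 10), (0, 11), (1, 11), (1, 12), (0, 13), (1, 13), (1, 14), (0, 15), (0, 16), (1, 16), (1, 17), (1, 18), (0, 19), (0, 20), (1, 20), (1, 21), (0, 22), (0, 23), (1, 23), (1, 24), (1, 25), (0, 26), (0, 27), (1, 27), (1, 28), (1, 29), (1, 30), (0, 32), (1, 32), (1, 33), (1, 34), (0, 35), (0, 36), (1, 36), (1, 37), (1, 38), (1, 39), (0, 41), (0, 42), (1, 42), (1, 43), (1, 44), (0, 45), (0, 46), (1, 46), (1, 47), (1, 48), (1, 49), (0, 51), (0, 52),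 (1, 52), (1, 53), (1, 54), (1, 55), (0, 57), (1, 58), (1, 59), (1, 60), (0, 62), (0, 63), (1, 63), (1, 64), (1, 65), (1, 66), (0, 68), (0, 69), (1, 69), (1, 70), (1, 71), (0, 72), (0, 73), (1, 73), (1, 74), (1, 75), (1, 76), (0, 78), (0, 79), (1, 79), (1, 80), (1, 81), (1, 82), (0, 84), (0, 85), (1, 86), (1, 87), (0, 90), (1, 90), (1, 91), (1, 92), (0, 95), (0, 96), (1, 97), (1, 98), (1, 99), (0, 100), (1, 100), (1, 101), (0, 105), (1, 106), (1, 107), (0, 108), (0, 109), (1, 110)] 120 ?_ ?_ ?_ (by norm_num) ?_ ?_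
  · intro i
    fin_cases i
    · exact hA.trans (by decide)
    · exact hB.trans (by decide)
  · decide +kernel
  · decide +kernel
  · decide +kernel
  · decide +kernel
  · decide +kernel

end Cfsg.Agent.S0692
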