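import Cfsg.Statements.S0693
import Mathlib
-- import your own Cfsg.Agent.* helpers here

set_option autoImplicit false
open Cfsg

namespace Cfsg.Agent.S0693

set_option maxRecDepth 100000

private def mk4 (m : ZMod 59 × ZMod 59 × ZMod 59 × ZMod 59) : Matrix (Fin 2) (Fin 2) (ZMod 59) :=
  !![m.1, m.2.1; m.2.2.1, m.2.2.2]

private def mul4 (m n : ZMod 59 × ZMod 59 × ZMod 59 × ZMod 59) : ZMod 59 × ZMod 59 × ZMod 59 × ZMod 59 :=
  (m.1 * n.1 + m.2.1 * n.2.2.1, m.1 * n.2.1 + m.2.1 * n.2.2.2,
    m.2.2.1 * n.1 + m.2.2.2 * n.2.2.1, m.2.2.1 * n.2.1 + m.2.2.2 * n.2.2.2)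

private theorem mk4_mul (m n : ZMod 59 × ZMod 59 × ZMod 59 × ZMod 59) : mk4 (mul4 m n) = mk4 m * mk4 n := by
  simp [mk4, mul4, Matrix.mul_fin_two]

private def s693L : List (ZMod 59 × ZMod 59 × ZMod 59 × ZMod 59) := [(1, 0, 0, 1), (0, 58, 1, 0), (9, 15, 49, 49), (58, 0, 0, 58), (15, 50, 49, 10), (10, 10, 9, 15), (49, 44, 10, 9), (0, 1, 58, 0), (50, 44, 10, 10), (10, 49, 15, 50), (44, 10, 9, 49), (48, 20, 46, 45), (49, 50, 49, 44), (44, 9, 10, 49), (49, 49, 50, 44), (10, 15, 49, 50), (20, 11, 45, 13), (50, 10, 44, 10), (13, 14, 48, 20), (1, 29, 4, 58), (55, 48, 23, 4), (49, 10, 44, 9), (15, 49, 50, 10), (11, 39, 13, 14), (10, 9, 10, 15), (14, 46, 20, 11), (29, 58, 58, 55), (48, 4, 4, 36), (11, 13, 39, 14), (55, 1, 1, 29), (36, 55, 55, 48), (14, 20, 46, 11), (39, 48, 14, 46), (9, 49, 15, 49), (46, 45, 11, 39), (58, 30, 55, 1), (4, 11, 36, 55), (13, 48, 14, 20), (1, 4, 29, 58), (55, 23, 48, 4), (20, 45, 11, 13), (35, 32, 31, 25), (38, 31, 30, 54), (28, 35, 34, 32), (45, 13, 39, 48), (30, 1, 1, 4), (11, 55, 55, 23), (48, 46, 20, 45), (4, 58, 58, 30), (23, 4, 4, 11), (45, 39, 13, 48),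 (32, 24, 25, 28), (31, 21, 54, 29), (35, 31, 32, 25), (28, 34, 35, 32), (29, 5, 38, 31), (25, 27, 28, 35), (54, 28, 29, 38), (46, 11, 45, 39), (58, 55, 30, 1), (4, 36, 11, 55), (39, 14, 48, 46), (24, 27, 28, 34), (21, 28, 29, 5), (31, 24, 25, 27), (34, 31, 32, 24), (5, 30, 31, 21), (27, 34, 35, 31), (28, 5, 38, 30), (10, 19, 19, 48), (5, 38, 38, 53), (30, 21, 54, 28), (27, 35, 34, 31), (28, 38, 5, 30), (24, 28, 27, 34), (31, 25, 24, 27), (30, 54, 21, 28), (34, 32, 31, 24), (5, 31, 30, 21), (19, 49, 48, 40), (38, 54, 53, 21), (21, 29, 28, 5), (40, 11, 10, 19), (21, 6, 5, 38), (25, 16, 42, 34), (18, 19, 45, 41), (25, 28, 27, 35), (54, 29, 28, 38), (32, 25, 24, 28), (31, 54, 21, 29), (49, 40, 40, 11), (54, 21, 21, 6), (29, 38, 5, 31), (11, 19, 19, 49), (6, 38, 38, 54), (16, 34, 34, 17), (19, 41, 41, 14), (38, 30, 31, 54), (17, 25, 25, 16), (14, 18, 18, 19), (40, 10, 11, 19), (21, 5, 6, 38), (19, 48, 49, 40), (38, 53, 54, 21), (34, 43, 17, 25), (41, 40, 14, 18), (25, 42, 16, 34), (18, 45, 19, 41), (40, 18, 18, 45), (56, 52, 52, 3), (42, 34, 34, 43), (48, 40, 40, 10), (53, 21, 21, 5),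 (43, 25, 25, 42), (45, 41, 41, 40), (52, 3, 3, 7), (34, 17, 43, 25), (41, 14, 40, 18), (7, 56, 56, 52), (3, 7, 7, 56)]
private def s693T : List (ℕ × ℕ) := [(0, 0), (12, 11), (26, 15), (106, 23), (19, 0), (27, 2), (78, 26), (63, 24), (118, 20), (36, 28), (72, 12), (41, 17), (2, 8), (30, 7), (68, 19), (102, 10), (54, 19), (16, 25), (66, 26), (4, 1), (56, 23), (81, 24), (119, 4), (22, 1), (117, 22), (47, 2), (112, 18), (96, 10), (11, 2), (38, 0), (84, 23), (21, 11), (105, 22), (40, 25), (101, 24), (114, 5), (73, 19), (50, 5), (53, 17), (95, 27), (34, 21), (33, 8), (55, 15), (70, 26), (48, 28), (67, 12), (79, 10), (60, 28), (83, 24), (92, 15), (111, 2), (58, 21), (44, 5), (86, 23), (14, 11), (90, 11), (43, 19), (98, 9), (6, 11), (3, 15), (24, 26), (45, 1), (116, 9), (35, 15), (46, 17), (57, 12), (42, 10), (115, 6), (20, 14), (51, 27), (62, 3), (8, 23), (49, 22), (89, 5), (82, 25), (75, 5), (32, 11), (87, 12), (13, 16), (77, 9), (97, 10), (109, 19), (10, 16), (107, 8), (28, 17), (94, 4), (108, 25), (23, 17), (59, 15), (104, 9), (9, 26), (85, 8), (61, 11), (80, 10), (99, 20), (52, 5), (31,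 20), (74, 3), (113, 13), (18, 7), (17, 23), (76, 1), (91, 12), (29, 14), (88, 27), (100, 25), (39, 14), (103, 10), (71, 1), (93, 17), (37, 7), (25, 20), (65, 9), (5, 26), (69, 26), (64, 5), (110, 24), (15, 26), (1, 0), (7, 15)]
private def s693A : List ℕ := [1, 3, 5, 7, 9, 8, 12, 0, 14, 13, 17, 18, 15, 21, 2, 24, 25, 22, 23, 29, 30, 4, 33, 34, 6, 32, 38, 39, 40, 35, 36, 37, 44, 10, 11, 48, 49, 50, 45, 46, 47, 54, 55, 56, 16, 59, 60, 61, 19, 20, 58, 65, 66, 67, 62, 63, 64, 71, 31, 26, 27, 28, 75, 76, 77, 72, 73, 74, 81, 82, 83, 78, 86, 87, 88, 41, 42, 43, 92, 93, 94, 89, 90, 91, 98, 99, 51, 52, 53, 97, 102, 103, 57, 100, 101, 106, 107, 68, 104, 105, 111, 112, 69, 70, 110, 114, 113, 108, 117, 118, 84, 79, 80, 116, 85, 109, 95, 96, 119, 115]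
private def s693B : List ℕ := [2, 4, 6, 8, 10, 11, 0, 13, 15, 16, 1, 19, 20, 22, 23, 3, 26, 27, 28, 5, 31, 32, 7, 35, 36, 37, 9, 40, 41, 42, 43, 12, 45, 46, 47, 14, 50, 51, 52, 53, 17, 18, 56, 57, 58, 21, 61, 62, 63, 64, 24, 25, 67, 68, 69, 70, 29, 30, 72, 73, 74, 33, 34, 77, 78, 79, 80, 38, 39, 83, 84, 85, 44, 88, 89, 90, 91, 48, 49, 94, 95, 96, 97, 54, 55, 93, 100, 101, 59, 60, 103, 104, 105, 71, 65, 66, 102, 108, 109, 110, 112, 113, 81, 75, 76, 111, 115, 116, 82, 114, 119, 92, 86, 87, 98, 117, 118, 106, 107, 99]

private theorem stepA : ∀ j : Fin 120, s693A.getD j.1 0 < 120 ∧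
    mul4 (0, -1, 1, 0) (s693L.getD j.1 (0, 0, 0, 0)) = s693L.getD (s693A.getD j.1 0) (0, 0, 0, 0) := by decide +kernel

private theorem stepB : ∀ j : Fin 120, s693B.getD j.1 0 < 120 ∧
    mul4 (9, 15, -10, -10) (s693L.getD j.1 (0, 0, 0, 0)) = s693L.getD (s693B.getD j.1 0) (0, 0, 0, 0) := by decide +kernel

private def s693W : List (List Bool) := [[], [true], [false], [true, true], [false, true], [true, false], [false, false], [true, true, true], [false, true, true], [true, false, true], [false, false, true], [false, true, false], [true, false, false], [false, true, true, true], [true, false, true, true], [false, false, true, true], [false, true, false, true], [true, false, false, true], [true, false, true, false], [false, false, true, false], [false, true, false, false], [true, false, true, true, true], [false, false, true, true, true], [false, true, false, true, true], [true, false, false, true, true], [true, false, true, false, true], [false, false, true, false, true], [false, true, false, false, true], [false, true, false, true, false], [true, false, false, true, false], [true,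 false, true, false, false], [false, false, true, false, false], [false, true, false, true, true, true], [true, false, false, true, true, true], [true, false, true, false, true, true], [false, false, true, false, true, true], [false, true, false, false, true, true], [false, true, false, true, false, true], [true, false, false, true, false, true], [true, false, true, false, false, true], [false, false, true, false, false, true], [false, false, true, false, true, false], [false, true, false, false, true, false], [false, true, false, true, false, false], [true, false, true, false, true, true, true], [false, false, true, false, true, true, true], [false, true, false, false, true, true, true], [false, true, false, true, false, true, true], [true, false, false, true, false, true, true], [true, false, true, false, false, true, true], [false, false, true, false, false, true, true], [false, false, true, false, true, false, true], [false, true, false, false, true, false, true], [false, true, false, true, false, false, true], [true, false, false, true, false, true, false], [true, false, true,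 false, false, true, false], [false, false, true, false, false, true, false], [false, false, true, false, true, false, false], [false, true, false, true, false, true, true, true], [true, false, false, true, false, true, true, true], [true, false, true, false, false, true, true, true], [false, false, true, false, false, true, true, true], [false, false, true, false, true, false, true, true], [false, true, false, false, true, false, true, true], [false, true, false, true, false, false, true, true], [true, false, false, true, false, true, false, true], [true, false, true, false, false, true, false, true], [false, false, true, false, false, true, false, true], [false, false, true, false, true, false, false, true], [false, true, false, false, true, false, true, false], [false, true, false, true, false, false, true, false], [true, false, false, true, false, true, false, false], [false, false, true, false, true, false, true, true, true], [false, true, false, false, true, false, true, true, true], [false, true, false, true, false, false, true, true, true], [true, false, false, true, false,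 true, false, true, true], [true, false, true, false, false, true, false, true, true], [false, false, true, false, false, true, false, true, true], [false, false, true, false, true, false, false, true, true], [false, true, false, false, true, false, true, false, true], [false, true, false, true, false, false, true, false, true], [true, false, false, true, false, true, false, false, true], [true, false, true, false, false, true, false, true, false], [false, false, true, false, false, true, false, true, false], [false, false, true, false, true, false, false, true, false], [false, true, false, false, true, false, true, false, false], [true, false, false, true, false, true, false, true, true, true], [true, false, true, false, false, true, false, true, true, true], [false, false, true, false, false, true, false, true, true, true], [false, false, true, false, true, false, false, true, true, true], [false, true, false, false, true, false, true, false, true, true], [false, true, false, true, false, false, true, false, true, true], [true, false, false, true, false, true, false, false, true,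 true], [true, false, true, false, false, true, false, true, false, true], [false, false, true, false, false, true, false, true, false, true], [false, false, true, false, true, false, false, true, false, true], [false, true, false, false, true, false, true, false, false, true], [false, true, false, true, false, false, true, false, true, false], [true, false, false, true, false, true, false, false, true, false], [true, false, true, false, false, true, false, true, false, false], [false, true, false, false, true, false, true, false, true, true, true], [false, true, false, true, false, false, true, false, true, true, true], [true, false, true, false, false, true, false, true, false, true, true], [false, false, true, false, false, true, false, true, false, true, true], [false, false, true, false, true, false, false, true, false, true, true], [false, true, false, false, true, false, true, false, false, true, true], [true, false, false, true, false, true, false, false, true, false, true], [true, false, true, false, false, true, false, true, false, false, true], [false, false, true, false,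 true, false, false, true, false, true, false], [false, true, false, false, true, false, true, false, false, true, false], [false, true, false, true, false, false, true, false, true, false, false], [true, false, true, false, false, true, false, true, false, true, true, true], [false, false, true, false, false, true, false, true, false, true, true, true], [false, false, true, false, true, false, false, true, false, true, true, true], [true, false, true, false, false, true, false, true, false, false, true, true], [false, true, false, false, true, false, true, false, false, true, false, true], [false, true, false, true, false, false, true, false, true, false, false, true], [true, false, false, true, false, true, false, false, true, false, true, false], [true, false, true, false, false, true, false, true, false, false, true, false], [false, false, true, false, true, false, false, true, false, true, false, false]]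

private theorem reach (j : Fin 120) : ∃ l : List Bool, l = s693W.getD j.1 [] ∧
    s693L.getD j.1 (0, 0, 0, 0) = l.foldr (fun b m => mul4 (if b then (0, -1, 1, 0) else (9, 15, -10, -10)) m) (1, 0, 0, 1) :=
  ⟨_, rfl, by revert j; decide +kernel⟩

private def rep (r : Fin 120) : ZMod 59 × ZMod 59 :=
  if r.1 < 59 then (1, (r.1 : ZMod 59)) else if r.1 < 118 then (2, 2 * ((r.1 - 59 : ℕ) : ZMod 59))
  else if r.1 = 118 then (0, 1) else (0, 2)

private theorem hit : ∀ r : Fin 120, (s693T.getD r.1 (0, 0)).1 < 120 ∧
    (4 : ZMod 59) ^ (s693T.getD r.1 (0, 0)).2 * (s693L.getD (s693T.getD r.1 (0, 0)).1 (0, 0, 0, 0)).1 = (rep r).1 ∧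
    (4 : ZMod 59) ^ (s693T.getD r.1 (0, 0)).2 * (s693L.getD (s693T.getD r.1 (0, 0)).1 (0, 0, 0, 0)).2.2.1 = (rep r).2 := by
  decide +kernel

private theorem units59 : ∀ c : ZMod 59, c ≠ 0 → ∃ k : Fin 29, c = (4 : ZMod 59) ^ k.1 ∨ c = 2 * (4 : ZMod 59) ^ k.1 := by
  decide +kernel

private theorem four59 : (4 : ZMod 59) ≠ 0 := by decide

private theorem two59 : (2 : ZMod 59) ≠ 0 := by decide

private theorem cover (v : Fin 2 → ZMod 59) (hv : v ≠ 0) : ∃ (r : Fin 120) (k : ℕ),
    v 0 = (4 : ZMod 59) ^ k * (rep r).1 ∧ v 1 = (4 : ZMod 59) ^ k * (rep r).2 := by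
  haveI : Fact (Nat.Prime 59) := ⟨by norm_num⟩
  by_cases h0 : v 0 = 0
  · have h1 : v 1 ≠ 0 := fun h1 => hv (funext fun i => by fin_cases i <;> simp [h0, h1])
    obtain ⟨k, hk | hk⟩ := units59 _ h1
    · exact ⟨118, k, by simp [rep, h0], by simp [rep, hk]⟩
    · exact ⟨119, k, by simp [rep, h0], by simp [rep, hk, mul_comm]⟩
  · obtain ⟨k, hk | hk⟩ := units59 _ h0
    · set x : ZMod 59 := v 1 / (4 : ZMod 59) ^ k.1 with hx
      have hk0 : (4 : ZMod 59) ^ k.1 ≠ 0 := pow_ne_zero _ four59
      refine ⟨⟨x.val, by have := ZMod.val_lt x; omega⟩, k, ?_, ?_⟩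
      · simp [rep, ZMod.val_lt x, hk]
      · have hr : (rep ⟨x.val, by have := ZMod.val_lt x; omega⟩).2 = x := by simp [rep, ZMod.val_lt x]
        rw [hr, hx, mul_div_cancel₀ _ hk0]
    · set x : ZMod 59 := v 1 / (2 * (4 : ZMod 59) ^ k.1) with hx
      have hk0 : (2 : ZMod 59) * (4 : ZMod 59) ^ k.1 ≠ 0 := mul_ne_zero two59 (pow_ne_zero _ four59)
      have h1 := ZMod.val_lt x
      refine ⟨⟨x.val + 59, by omega⟩, k, ?_, ?_⟩
      · simp [rep, show x.val + 59 < 118 by omega, hk, mul_comm]
      · have hr : (rep ⟨x.val + 59, by omega⟩).2 = 2 * x := by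
          simp [rep, show x.val + 59 < 118 by omega]
        rw [hr, hx, ← mul_assoc, mul_comm _ (2 : ZMod 59), mul_div_cancel₀ _ hk0]

/-- An exceptional sharply doubly transitive group of degree 59^2: the listed matrices generate a subgroup of GL(2,59) of order 3480 acting regularly on the non-zero vectors. -/
theorem result (A : Matrix.GeneralLinearGroup (Fin 2) (ZMod 59)) (B : Matrix.GeneralLinearGroup (Fin 2) (ZMod 59)) (C : Matrix.GeneralLinearGroup (Fin 2) (ZMod 59)) (hA : (A : Matrix (Fin 2) (Fin 2) (ZMod 59)) = !![0, -1; 1, 0]) (hB : (B : Matrix (Fin 2) (Fin 2) (ZMod 59)) = !![9, 15; -10, -10]) (hC : (C : Matrix (Fin 2) (Fin 2) (ZMod 59)) = !![4, 0; 0, 4]) : Nat.card (Subgroup.closure ({A, B, C} : Set (Matrix.GeneralLinearGroup (Fin 2) (ZMod 59)))) = 3480 ∧ ∀ v w : Fin 2 → ZMod 59, v ≠ 0 → w ≠ 0 → ∃! h : Subgroup.closure ({A, B, C} : Set (Matrix.GeneralLinearGroup (Fin 2) (ZMod 59))), Matrix.mulVec ((h : Matrix.GeneralLinearGroup (Fin 2) (ZMod 59)) : Matrix (Fin 2) (Fin 2) (ZMod 59)) v = w := by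
    classical
    set L := fun j : Fin 120 => s693L.getD j.1 (0, 0, 0, 0) with hL
    set H := Subgroup.closure ({A, B, C} : Set (Matrix.GeneralLinearGroup (Fin 2) (ZMod 59)))
    let GL2 := Matrix.GeneralLinearGroup (Fin 2) (ZMod 59)
    let S : GL2 → Prop := fun g => ∃ (j : Fin 120) (k : Fin 29),
      (g : Matrix (Fin 2) (Fin 2) (ZMod 59)) = (4 : ZMod 59) ^ k.1 • mk4 (L j)
    have h4 : (4 : ZMod 59) ^ 29 = 1 := by decide +kernel
    have hpow : ∀ k : ℕ, (4 : ZMod 59) ^ k = (4 : ZMod 59) ^ (k % 29) := fun k => by
      conv_lhs => rw [← Nat.div_add_mod k 29, pow_add, pow_mul, h4, one_pow, one_mul]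
    have hA4 : (A : Matrix (Fin 2) (Fin 2) (ZMod 59)) = mk4 (0, -1, 1, 0) := hA
    have hB4 : (B : Matrix (Fin 2) (Fin 2) (ZMod 59)) = mk4 (9, 15, -10, -10) := hB
    have hC4 : (C : Matrix (Fin 2) (Fin 2) (ZMod 59)) = (4 : ZMod 59) • (1 : Matrix (Fin 2) (Fin 2) (ZMod 59)) := by
      rw [hC, Matrix.one_fin_two]; simp [Matrix.smul_of]
    have hleft : ∀ x ∈ ({A, B, C} : Set GL2), ∀ g, S g → S (x * g) := by
      rintro x hx g ⟨j, k, hg⟩
      simp only [Set.mem_insert_iff, Set.mem_singleton_iff] at hx
      rcases hx with rfl | rfl | rfl
      · exact ⟨⟨_, (stepA j).1⟩, k, by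
          rw [Units.val_mul, hg, hA4, Matrix.mul_smul, ← mk4_mul]; simp only [hL, (stepA j).2]⟩
      · exact ⟨⟨_, (stepB j).1⟩, k, by
          rw [Units.val_mul, hg, hB4, Matrix.mul_smul, ← mk4_mul]; simp only [hL, (stepB j).2]⟩
      · refine ⟨j, ⟨(k.1 + 1) % 29, Nat.mod_lt _ (by norm_num)⟩, ?_⟩
        rw [Units.val_mul, hg, hC4, Matrix.smul_mul, one_mul, smul_smul, ← pow_succ', ← hpow]
    have hleftinv : ∀ x ∈ ({A, B, C} : Set GL2), ∀ g, S g → S (x⁻¹ * g) := fun x hx g hg => by
      have hi : ∀ n : ℕ, S (x ^ n * g) := fun n => by
        induction n with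
        | zero => simpa using hg
        | succ n ih => rw [pow_succ', mul_assoc]; exact hleft x hx _ ih
      have : x⁻¹ = x ^ (orderOf x - 1) := by
        rw [inv_eq_iff_mul_eq_one, ← pow_succ', Nat.sub_add_cancel (orderOf_pos x), pow_orderOf_eq_one]
      rw [this]; exact hi _
    have hone : S 1 := ⟨0, 0, by simp [hL, mk4, s693L, Matrix.one_fin_two]⟩
    have hsub : ∀ g ∈ H, S g := fun g hg => by
      induction hg using Subgroup.closure_induction_left with
      | one => exact hone
      | mul_left x hx y _ hy => exact hleft x hx y hy
      | inv_mul_cancel x hx y _ hy => exact hleftinv x hx y hy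
    -- every listed matrix lies in the group
    have hcl : ∀ (j : Fin 120) (k : Fin 29) (g : GL2), (g : Matrix (Fin 2) (Fin 2) (ZMod 59)) = (4 : ZMod 59) ^ k.1 • mk4 (L j) → S g :=
      fun j k g h => ⟨j, k, h⟩
    let nz := {v : Fin 2 → ZMod 59 // v ≠ 0}
    let e1 : nz := ⟨![1, 0], by decide⟩
    have hne : ∀ (h : H) (v : nz), Matrix.mulVec ((h : GL2) : Matrix (Fin 2) (Fin 2) (ZMod 59)) v.1 ≠ 0 := fun h v e => v.2 (by
      have := congrArg (Matrix.mulVec (((h : GL2)⁻¹ : GL2) : Matrix (Fin 2) (Fin 2) (ZMod 59))) e
      rwa [Matrix.mulVec_mulVec, ← Units.val_mul, inv_mul_cancel, Units.val_one, Matrix.one_mulVec, Matrix.mulVec_zero] at this)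
    have hgen : ∀ x ∈ ({A, B, C} : Set GL2), x ∈ H := fun x hx => Subgroup.subset_closure hx
    have hword : ∀ j : Fin 120, ∃ g ∈ H, (g : Matrix (Fin 2) (Fin 2) (ZMod 59)) = mk4 (L j) := by
      intro j
      have := reach j
      obtain ⟨l, hl, e⟩ := this
      refine ⟨(l.map fun b : Bool => if b then A else B).prod, list_prod_mem fun x hx => ?_, ?_⟩
      · obtain ⟨b, -, rfl⟩ := List.mem_map.mp hx
        cases b
        · exact hgen B (by simp)
        · exact hgen A (by simp)
      · have e' : mk4 (L j) = mk4 (l.foldr (fun b m => mul4 (if b then (0, -1, 1, 0) else (9, 15, -10, -10)) m) (1, 0, 0, 1)) :=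
          congrArg mk4 e
        rw [e']
        clear e' e hl
        induction l with
        | nil => simp [mk4, Matrix.one_fin_two]
        | cons b l ih =>
          simp only [List.map_cons, List.prod_cons, Units.val_mul, List.foldr_cons, mk4_mul]
          rw [← ih]
          cases b <;> simp [hA4, hB4]
    have hsurj : ∀ v : nz, ∃ h : H, Matrix.mulVec ((h : GL2) : Matrix (Fin 2) (Fin 2) (ZMod 59)) e1.1 = v.1 := by
      intro v
      obtain ⟨r, k, h1, h2⟩ := cover v.1 v.2
      obtain ⟨hj, hr1, hr2⟩ := hit r
      obtain ⟨g, hg, hgm⟩ := hword ⟨_, hj⟩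
      refine ⟨⟨C ^ ((s693T.getD r.1 (0, 0)).2 + k) * g, mul_mem (pow_mem (hgen C (by simp)) _) hg⟩, ?_⟩
      rw [Units.val_mul, Units.val_pow_eq_pow_val, hC4, hgm, smul_pow, one_pow, Matrix.smul_mul, one_mul, Matrix.smul_mulVec]
      funext i
      fin_cases i
      · simp only [Pi.smul_apply, smul_eq_mul, pow_add]
        refine Eq.trans ?_ (h1.trans (by rw [← hr1])).symm
        simp [hL, mk4, e1, Matrix.mulVec, dotProduct, Fin.sum_univ_two]; ring
      · simp only [Pi.smul_apply, smul_eq_mul, pow_add]
        refine Eq.trans ?_ (h2.trans (by rw [← hr2])).symm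
        simp [hL, mk4, e1, Matrix.mulVec, dotProduct, Fin.sum_univ_two]; ring
    let f : H → nz := fun h => ⟨_, hne h e1⟩
    have hf : Function.Surjective f := fun v => (hsurj v).imp fun h e => Subtype.ext e
    have hnz : Nat.card nz = 3480 := by
      rw [Nat.card_eq_fintype_card]
      simp only [nz, Fintype.card_subtype_compl, Fintype.card_subtype_eq, Fintype.card_pi, ZMod.card]
      rfl
    have hle : Nat.card H ≤ 3480 := by
      choose cj ck hck using fun h : H => hsub h h.2
      let code : H → Fin 120 × Fin 29 := fun h => (cj h, ck h)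
      have hinj : Function.Injective code := fun a b e => by
        refine Subtype.ext (Units.ext ?_)
        obtain ⟨h1, h2⟩ := Prod.ext_iff.mp e
        simp only [code] at h1 h2
        rw [hck a, hck b, h1, h2]
      refine (Nat.card_le_card_of_injective code hinj).trans ?_
      simp
    have hcard : Nat.card H = 3480 := le_antisymm hle (hnz ▸ Nat.card_le_card_of_surjective f hf)
    have hbij : Function.Bijective f := (Nat.bijective_iff_surjective_and_card f).mpr ⟨hf, hcard.trans hnz.symm⟩
    refine ⟨hcard, fun v w hv hw => ?_⟩
    obtain ⟨a, ha⟩ := hf ⟨v, hv⟩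
    obtain ⟨b, hb⟩ := hf ⟨w, hw⟩
    have ha' : Matrix.mulVec ((a : GL2) : Matrix (Fin 2) (Fin 2) (ZMod 59)) e1.1 = v := congrArg Subtype.val ha
    have hb' : Matrix.mulVec ((b : GL2) : Matrix (Fin 2) (Fin 2) (ZMod 59)) e1.1 = w := congrArg Subtype.val hb
    refine ⟨b * a⁻¹, ?_, fun h hh => ?_⟩
    · show Matrix.mulVec ((↑(b * a⁻¹) : GL2) : Matrix (Fin 2) (Fin 2) (ZMod 59)) v = w
      rw [← ha', Matrix.mulVec_mulVec, ← Units.val_mul, ← Subgroup.coe_mul, inv_mul_cancel_right, hb']
    · have : h * a = b := hbij.1 (Subtype.ext (by
        show Matrix.mulVec ((↑(h * a) : GL2) : Matrix (Fin 2) (Fin 2) (ZMod 59)) e1.1 = Matrix.mulVec _ e1.1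
        rw [hb', Subgroup.coe_mul, Units.val_mul, ← Matrix.mulVec_mulVec, ha']; exact hh))
      rw [← this, mul_inv_cancel_right]

end Cfsg.Agent.S0693
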