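import Cfsg.Statements.S0694
import Mathlib
-- import your own Cfsg.Agent.* helpers here

set_option autoImplicit false
open Cfsg

namespace Cfsg.Agent.S0694

/-- Geometric sums. -/
def geo (q i : ℕ) : ℕ := ∑ j ∈ Finset.range i, q ^ j

theorem geo_mul (q i : ℕ) (hq : 1 ≤ q) : q ^ i = (q - 1) * geo q i + 1 := by
  induction i with
  | zero => simp [geo]
  | succ i ih =>
    simp only [geo, Finset.sum_range_succ] at ih ⊢
    rw [mul_add, pow_succ]
    obtain ⟨r, rfl⟩ := Nat.exists_eq_add_of_le hq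
    rw [Nat.add_sub_cancel_left] at ih ⊢
    linarith [ih]

theorem modEq_one_iff {q n i : ℕ} (hq : 2 ≤ q) : q ^ i ≡ 1 [MOD n * (q - 1)] ↔ n ∣ geo q i := by
  rw [Nat.ModEq.comm, Nat.modEq_iff_dvd' (Nat.one_le_pow _ _ (by omega)), geo_mul q i (by omega),
    Nat.add_sub_cancel, mul_comm n, Nat.mul_dvd_mul_iff_left (by omega)]

theorem geo_modEq {q r : ℕ} (hr : r ∣ q - 1) (hq : 1 ≤ q) (i : ℕ) : geo q i ≡ i [MOD r] := by
  have h1 : q ≡ 1 [MOD r] := ((Nat.modEq_iff_dvd' hq).mpr hr).symm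
  induction i with
  | zero => rfl
  | succ i ih =>
    simp only [geo, Finset.sum_range_succ] at ih ⊢
    simpa using ih.add (h1.pow i)

theorem geo_pos {q i : ℕ} (hi : i ≠ 0) : geo q i ≠ 0 := by
  obtain ⟨j, rfl⟩ := Nat.exists_eq_succ_of_ne_zero hi
  simp only [geo, Finset.sum_range_succ']
  simp

/-- The valuation of a geometric sum. -/
theorem pow_dvd_geo_iff {q r e i : ℕ} (hq : 2 ≤ q) (hr : r.Prime) (hrq : r ∣ q - 1)
    (h4 : r = 2 → 2 ≤ e → 4 ∣ q - 1) : r ^ e ∣ geo q i ↔ r ^ e ∣ i := by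
  rcases Nat.eq_zero_or_pos i with rfl | hi
  · simp [geo]
  have := Fact.mk hr
  have hmod := geo_modEq hrq (by omega) i
  rcases Nat.lt_or_ge e 2 with he | he
  · interval_cases e
    · simp
    · rw [pow_one]; exact hmod.dvd_iff dvd_rfl
  by_cases hri : r ∣ i
  swap
  · exact iff_of_false (fun h => hri ((hmod.dvd_iff dvd_rfl).mp ((dvd_pow_self r (by omega)).trans h)))
      (fun h => hri ((dvd_pow_self r (by omega)).trans h))
  have hv : padicValNat r (geo q i) = padicValNat r i := by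
    have hprod : q ^ i - 1 ^ i = (q - 1) * geo q i := by rw [one_pow, geo_mul q i (by omega), Nat.add_sub_cancel]
    have hnq : ¬ r ∣ q := fun h => hr.not_dvd_one (by
      have := Nat.dvd_sub h hrq
      rwa [show q - (q - 1) = 1 by omega] at this)
    have hmul : padicValNat r ((q - 1) * geo q i) = padicValNat r (q - 1) + padicValNat r (geo q i) :=
      padicValNat.mul (by omega) (geo_pos (by omega))
    by_cases h2 : r = 2
    · subst h2
      have h4' := h4 rfl he
      have h := padicValNat.pow_two_sub_pow (x := q) (y := 1) (by omega) (by simpa using hrq) hnq (n := i) (by omega) (even_iff_two_dvd.mpr hri)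
      rw [hprod, hmul] at h
      have hq1 : padicValNat 2 (q + 1) = 1 := by
        obtain ⟨t, ht⟩ := h4'
        have hq' : q + 1 = 2 * (2 * t + 1) := by omega
        rw [hq', padicValNat.mul (by norm_num) (by omega), padicValNat.self (by norm_num),
          padicValNat.eq_zero_of_not_dvd (by omega)]
      rw [hq1] at h
      omega
    · have h := padicValNat.pow_sub_pow (p := r) (hr.odd_of_ne_two h2) (x := q) (y := 1) (by omega) (by simpa using hrq) hnq (n := i) (by omega)
      rw [hprod, hmul] at h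
      omega
  rw [padicValNat_dvd_iff_le (geo_pos (by omega)), padicValNat_dvd_iff_le (by omega), hv]

theorem dvd_geo_iff {q n i : ℕ} (hq : 2 ≤ q) (hn : n ≠ 0)
    (h : ∀ r : ℕ, r.Prime → r ∣ n → r ∣ q - 1) (h4 : 4 ∣ n → 4 ∣ q - 1) : n ∣ geo q i ↔ n ∣ i := by
  have key : ∀ m, n ∣ m ↔ ∀ r e, r.Prime → r ^ e ∣ n → r ^ e ∣ m := fun m =>
    ⟨fun hm r e _ he => he.trans hm, fun hm => (Nat.dvd_iff_prime_pow_dvd_dvd m n).mpr fun r e hr he => hm r e hr he⟩
  rw [key, key]
  refine forall_congr' fun r => forall_congr' fun e => imp_congr_right fun hr => imp_congr_right fun he => ?_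
  rcases Nat.eq_zero_or_pos e with rfl | he0
  · simp
  exact pow_dvd_geo_iff hq hr (h r hr ((dvd_pow_self r (by omega)).trans he))
    fun h2 h2e => h4 ((show 4 ∣ r ^ e by subst h2; exact pow_dvd_pow 2 h2e).trans he)

theorem dickson_conv {q n : ℕ} (hq : 2 ≤ q) (hn : 1 < n) (hdvd : n ∣ geo q n)
    (hmin : ∀ M, n ∣ geo q M → n ∣ M) :
    (∀ r : ℕ, r.Prime → r ∣ n → r ∣ q - 1) ∧ (4 ∣ n → 4 ∣ q - 1) := by
  classical
  have hgeo_dvd : ∀ a b, a ∣ b → geo q a ∣ geo q b := by
    intro a b hab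
    refine Nat.dvd_of_mul_dvd_mul_left (show 0 < q - 1 by omega) ?_
    have h1 : (q - 1) * geo q a = q ^ a - 1 := by rw [geo_mul q a (by omega), Nat.add_sub_cancel]
    have h2 : (q - 1) * geo q b = q ^ b - 1 := by rw [geo_mul q b (by omega), Nat.add_sub_cancel]
    rw [h1, h2]
    exact Nat.pow_sub_one_dvd_pow_sub_one q hab
  have hgood : ∀ r f i, r.Prime → r ∣ q - 1 → r ^ f ∣ i → r ^ f ∣ geo q i := by
    intro r f
    induction f with
    | zero => simp
    | succ f ih =>
      intro i hr hrq hi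
      obtain ⟨t, rfl⟩ := hi
      have e : r ^ (f + 1) * t = (r ^ f * t) * r := by ring
      rw [e]
      have hsplit : geo q ((r ^ f * t) * r) = geo q (r ^ f * t) * geo (q ^ (r ^ f * t)) r := by
        have h1 : (q - 1) * geo q ((r ^ f * t) * r) + 1 = (q - 1) * (geo q (r ^ f * t) * geo (q ^ (r ^ f * t)) r) + 1 := by
          rw [← geo_mul q _ (by omega), pow_mul, geo_mul (q ^ (r ^ f * t)) r (Nat.one_le_pow _ _ (by omega))]
          rw [show q ^ (r ^ f * t) - 1 = (q - 1) * geo q (r ^ f * t) by rw [geo_mul q (r ^ f * t) (by omega), Nat.add_sub_cancel]]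
          ring
        exact Nat.eq_of_mul_eq_mul_left (show 0 < q - 1 by omega) (by omega)
      rw [hsplit, pow_succ]
      refine mul_dvd_mul (ih _ hr hrq (dvd_mul_right _ _)) ?_
      have h2 : r ∣ q ^ (r ^ f * t) - 1 := hrq.trans (Nat.sub_one_dvd_pow_sub_one q _)
      exact ((geo_modEq h2 (Nat.one_le_pow _ _ (by omega)) r).dvd_iff dvd_rfl).mpr dvd_rfl
  have hcop : ∀ r, r.Prime → r ∣ n → ¬ r ∣ q := by
    intro r hr hrn hrq
    have h1 : r ∣ geo q n := hrn.trans hdvd
    obtain ⟨m, rfl⟩ := Nat.exists_eq_succ_of_ne_zero (show n ≠ 0 by omega)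
    simp only [geo, Finset.sum_range_succ', pow_zero] at h1
    refine hr.not_dvd_one ((Nat.dvd_add_right (Finset.dvd_sum fun j _ => ?_)).mp h1)
    exact hrq.trans (dvd_pow_self q (by omega))
  have hbad : ∀ r f, r.Prime → r ∣ n → ¬ r ∣ q - 1 → r ^ f ∣ geo q (Nat.totient (r ^ f)) := by
    intro r f hr hrn hrq
    have h1 : q ^ Nat.totient (r ^ f) ≡ 1 [MOD r ^ f] :=
      Nat.ModEq.pow_totient ((hr.coprime_iff_not_dvd.mpr (hcop r hr hrn)).symm.pow_right f)
    have h2 := (Nat.modEq_iff_dvd' (Nat.one_le_pow _ _ (by omega))).mp h1.symm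
    rw [geo_mul q _ (by omega), Nat.add_sub_cancel] at h2
    exact ((hr.coprime_iff_not_dvd.mpr hrq).pow_left f).dvd_of_dvd_mul_left h2
  have hfirst : ∀ r : ℕ, r.Prime → r ∣ n → r ∣ q - 1 := by
    by_contra hno
    push Not at hno
    obtain ⟨r₀, hr₀, hr₀n, hr₀q⟩ := hno
    set B := n.primeFactors.filter (fun s => ¬ s ∣ q - 1) with hB
    have hBne : B.Nonempty := ⟨r₀, by rw [hB, Finset.mem_filter, Nat.mem_primeFactors]; exact ⟨⟨hr₀, hr₀n, by omega⟩, hr₀q⟩⟩
    set r := B.max' hBne with hr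
    have hrB := B.max'_mem hBne
    rw [← hr] at hrB
    have hrB' := Finset.mem_filter.mp hrB
    obtain ⟨hrp, hrn, -⟩ := Nat.mem_primeFactors.mp hrB'.1
    set M := n / r * ∏ s ∈ B, (s - 1) with hM
    have hnM : n ∣ M := hmin M ((Nat.dvd_iff_prime_pow_dvd_dvd _ n).mpr fun s f hs hf => by
      rcases Nat.eq_zero_or_pos f with rfl | hf0
      · simp
      have hsn : s ∣ n := (dvd_pow_self s (by omega)).trans hf
      have hs_r : s ≠ r → s ^ f ∣ n / r := fun hne => by
        refine Nat.dvd_div_of_mul_dvd ?_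
        exact Nat.Coprime.mul_dvd_of_dvd_of_dvd (((Nat.coprime_primes hrp hs).mpr (Ne.symm hne)).pow_right f) hrn hf
      by_cases hsq : s ∣ q - 1
      · have hne : s ≠ r := fun e => hrB'.2 (e ▸ hsq)
        exact hgood s f M hs hsq ((hs_r hne).trans (dvd_mul_right _ _))
      · refine (hbad s f hs hsn hsq).trans (hgeo_dvd _ _ ?_)
        rw [Nat.totient_prime_pow hs hf0]
        refine mul_dvd_mul ?_ (Finset.dvd_prod_of_mem _ (by rw [hB, Finset.mem_filter, Nat.mem_primeFactors]; exact ⟨⟨hs, hsn, by omega⟩, hsq⟩))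
        by_cases hne : s = r
        · subst hne
          refine Nat.dvd_div_of_mul_dvd ?_
          rw [← pow_succ', show f - 1 + 1 = f by omega]
          exact hf
        · exact (pow_dvd_pow s (by omega)).trans (hs_r hne))
    have hrc : r.Coprime (∏ s ∈ B, (s - 1)) := Nat.Coprime.prod_right fun s hs => by
      have hsp := Nat.prime_of_mem_primeFactors (Finset.mem_filter.mp hs).1
      refine hrp.coprime_iff_not_dvd.mpr fun hd => ?_
      have h1 := Nat.le_of_dvd (by have := hsp.two_le; omega) hd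
      have h2 := B.le_max' s hs
      rw [← hr] at h2
      have := hsp.two_le
      omega
    have h3 : r * (n / r) ∣ (n / r) * ∏ s ∈ B, (s - 1) := by rwa [Nat.mul_div_cancel' hrn]
    rw [mul_comm r] at h3
    have h4 := Nat.dvd_of_mul_dvd_mul_left (Nat.div_pos (Nat.le_of_dvd (by omega) hrn) hrp.pos) h3
    exact hrp.not_dvd_one (hrc ▸ Nat.dvd_gcd dvd_rfl h4)
  refine ⟨hfirst, fun h4n => ?_⟩
  by_contra h4q
  have h2q : 2 ∣ q - 1 := hfirst 2 Nat.prime_two ((show 2 ∣ 4 by norm_num).trans h4n)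
  have hnM : n ∣ n / 2 := hmin _ ((Nat.dvd_iff_prime_pow_dvd_dvd _ n).mpr fun s f hs hf => by
    rcases Nat.eq_zero_or_pos f with rfl | hf0
    · simp
    have hsn : s ∣ n := (dvd_pow_self s (by omega)).trans hf
    by_cases hs2 : s = 2
    · subst hs2
      by_cases hf2 : f = 1
      · subst hf2
        refine hgood 2 1 _ Nat.prime_two h2q ?_
        obtain ⟨t, rfl⟩ := h4n
        rw [pow_one]; omega
      have hd : 2 ^ (f - 1) ∣ n / 2 := Nat.dvd_div_of_mul_dvd (by rw [← pow_succ', show f - 1 + 1 = f by omega]; exact hf)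
      refine Dvd.dvd.trans ?_ (hgeo_dvd _ _ hd)
      -- `2 ^ f` divides the sum over `2 ^ (f - 1)` terms
      have hq4 : ∃ t, q = 4 * t + 3 := ⟨q / 4, by omega⟩
      obtain ⟨t, ht⟩ := hq4
      suffices key : ∀ g, 2 ^ (g + 2) ∣ geo q (2 ^ (g + 1)) by
        have := key (f - 2)
        rwa [show f - 2 + 2 = f by omega, show f - 2 + 1 = f - 1 by omega] at this
      intro g
      induction g with
      | zero =>
        refine ⟨t + 1, ?_⟩
        simp [geo, Finset.sum_range_succ]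
        omega
      | succ g ih =>
        have hsplit : geo q (2 ^ (g + 1 + 1)) = geo q (2 ^ (g + 1)) * (1 + q ^ (2 ^ (g + 1))) := by
          rw [pow_succ, show geo q (2 ^ (g + 1) * 2) = ∑ j ∈ Finset.range (2 ^ (g + 1) + 2 ^ (g + 1)), q ^ j by
            rw [geo, mul_two], Finset.sum_range_add]
          simp only [geo, pow_add, ← Finset.mul_sum]
          ring
        rw [hsplit, show g + 1 + 2 = g + 2 + 1 by omega, pow_succ]
        refine mul_dvd_mul ih ?_
        have : Odd (q ^ (2 ^ (g + 1))) := (show Odd q from ⟨2 * t + 1, by omega⟩).pow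
        obtain ⟨v, hv⟩ := this
        exact ⟨v + 1, by omega⟩
    · refine hgood s f _ hs (hfirst s hs hsn) (Nat.dvd_div_of_mul_dvd ?_)
      exact Nat.Coprime.mul_dvd_of_dvd_of_dvd (((Nat.coprime_primes Nat.prime_two hs).mpr (Ne.symm hs2)).pow_right f)
        ((show 2 ∣ 4 by norm_num).trans h4n) hf)
  have := Nat.le_of_dvd (Nat.div_pos (by omega) (by norm_num)) hnM
  omega

/-- The Dickson pair condition: for a prime power `q` and `n > 1`, (every prime factor of `n` divides `q - 1`, and `4 ∣ n → 4 ∣ q - 1`) holds exactly when `q ^ n ≡ 1` modulo `n * (q - 1)` but `q ^ i` is not, for `0 < i < n`. -/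
theorem result (q n : ℕ) (hq : IsPrimePow q) (hn : 1 < n) : ((∀ r : ℕ, r.Prime → r ∣ n → r ∣ q - 1) ∧ (4 ∣ n → 4 ∣ q - 1)) ↔ (q ^ n ≡ 1 [MOD n * (q - 1)] ∧ ∀ i : ℕ, 0 < i → i < n → ¬ q ^ i ≡ 1 [MOD n * (q - 1)]) := by
  have hq2 : 2 ≤ q := hq.two_le
  simp only [modEq_one_iff hq2]
  constructor
  · rintro ⟨h, h4⟩
    refine ⟨(dvd_geo_iff hq2 (by omega) h h4).mpr dvd_rfl, fun i hi hin hd => ?_⟩
    exact absurd (Nat.le_of_dvd hi ((dvd_geo_iff hq2 (by omega) h h4).mp hd)) (by omega)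
  · rintro ⟨hd, hmin⟩
    refine dickson_conv hq2 hn hd fun M hM => ?_
    set i := Nat.gcd M n with hi
    have hgeo : n ∣ geo q i := by
      rw [← modEq_one_iff hq2] at hM hd ⊢
      set N := n * (q - 1)
      rw [← ZMod.natCast_eq_natCast_iff, Nat.cast_pow, Nat.cast_one] at hM hd ⊢
      exact orderOf_dvd_iff_pow_eq_one.mp (Nat.dvd_gcd (orderOf_dvd_of_pow_eq_one hM) (orderOf_dvd_of_pow_eq_one hd))
    have hipos : 0 < i := Nat.gcd_pos_of_pos_right _ (by omega)
    rcases lt_or_eq_of_le (Nat.le_of_dvd (by omega) (Nat.gcd_dvd_right M n)) with hlt | he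
    · exact absurd hgeo (hmin i hipos hlt)
    · exact he ▸ Nat.gcd_dvd_left M n

end Cfsg.Agent.S0694
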