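import Cfsg.Statements.S0701

-- import your own Cfsg.Agent.* helpers here

set_option autoImplicit false
open Cfsg

namespace Cfsg.Agent.S0701

/-- The centraliser in the full symmetric group of a transitive permutation group `G` is semiregular, and it is transitive if and only if `G` is regular. -/
theorem result {α : Type*} (G : Subgroup (Equiv.Perm α)) [MulAction.IsPretransitive G α] : (∀ c ∈ Subgroup.centralizer (G : Set (Equiv.Perm α)), ∀ a : α, c a = a → c = 1) ∧ (MulAction.IsPretransitive (Subgroup.centralizer (G : Set (Equiv.Perm α))) α ↔ ∀ a : α, MulAction.stabilizer G a = ⊥) := by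
  classical
  have key : ∀ c ∈ Subgroup.centralizer (G : Set (Equiv.Perm α)), ∀ g ∈ G, ∀ x : α, c (g x) = g (c x) := by
    intro c hc g hg x
    have h := congrArg (fun σ : Equiv.Perm α => σ x) (hc g hg)
    simpa using h.symm
  refine ⟨fun c hc a ha => Equiv.ext fun x => ?_, ⟨fun ht a => ?_, fun hreg => ⟨fun x y => ?_⟩⟩⟩
  · obtain ⟨g, rfl⟩ := MulAction.exists_smul_eq G a x
    show c ((g : Equiv.Perm α) a) = (g : Equiv.Perm α) a
    rw [key c hc g g.2, ha]
  · rw [Subgroup.eq_bot_iff_forall]
    intro g hg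
    refine Subtype.ext (Equiv.ext fun x => ?_)
    obtain ⟨c, rfl⟩ := ht.exists_smul_eq a x
    show (g : Equiv.Perm α) ((c : Equiv.Perm α) a) = (c : Equiv.Perm α) a
    rw [← key c c.2 g g.2]
    exact congrArg (c : Equiv.Perm α) hg
  · have hb : ∀ z : α, Function.Bijective (fun g : G => g • z) := fun z => by
      refine ⟨fun g h e => ?_, fun w => MulAction.exists_smul_eq G z w⟩
      have h1 : h⁻¹ * g ∈ MulAction.stabilizer G z := by
        rw [MulAction.mem_stabilizer_iff, mul_smul]
        exact inv_smul_eq_iff.mpr e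
      rw [hreg z, Subgroup.mem_bot, inv_mul_eq_one] at h1
      exact h1.symm
    let σ : Equiv.Perm α := (Equiv.ofBijective _ (hb x)).symm.trans (Equiv.ofBijective _ (hb y))
    have hσ : ∀ g : G, σ (g • x) = g • y := fun g => by
      show (Equiv.ofBijective _ (hb y)) ((Equiv.ofBijective _ (hb x)).symm ((Equiv.ofBijective _ (hb x)) g)) = _
      rw [Equiv.symm_apply_apply]; rfl
    refine ⟨⟨σ, fun g hg => Equiv.ext fun z => ?_⟩, ?_⟩
    · obtain ⟨h, rfl⟩ := MulAction.exists_smul_eq G x z
      show g (σ (h • x)) = σ (g (h • x))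
      rw [hσ, show g (h • x) = ((⟨g, hg⟩ : G) * h) • x from rfl, hσ]
      rfl
    · have := hσ 1
      rwa [one_smul, one_smul] at this

end Cfsg.Agent.S0701
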