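import Cfsg.Statements.S0702
import Mathlib
-- import your own Cfsg.Agent.* helpers here

set_option autoImplicit false
open Cfsg

namespace Cfsg.Agent.S0702

/-- For a transitive permutation group `G` on a finite set, the centraliser of `G` in the symmetric group is isomorphic to `N_G(G_ω)/G_ω`, and its orbit of `ω` is the set of fixed points of `G_ω`. -/
theorem result {α : Type*} [Finite α] (G : Subgroup (Equiv.Perm α)) [MulAction.IsPretransitive G α] (a : α) : Nonempty (Subgroup.centralizer (G : Set (Equiv.Perm α)) ≃* Subgroup.normalizer ((MulAction.stabilizer G a : Subgroup G) : Set G) ⧸ (MulAction.stabilizer G a).subgroupOf (Subgroup.normalizer ((MulAction.stabilizer G a : Subgroup G) : Set G))) ∧ MulAction.orbit (Subgroup.centralizer (G : Set (Equiv.Perm α))) a = MulAction.fixedPoints (MulAction.stabilizer G a) α := by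
  classical
  set H := MulAction.stabilizer G a with hH
  set N := Subgroup.normalizer ((H : Subgroup G) : Set G) with hN
  have key : ∀ c ∈ Subgroup.centralizer (G : Set (Equiv.Perm α)), ∀ g : G, ∀ x : α, c (g • x) = g • c x := by
    intro c hc g x
    show c ((g : Equiv.Perm α) x) = (g : Equiv.Perm α) (c x)
    have h := congrArg (fun σ : Equiv.Perm α => σ x) (hc g g.2)
    simpa using h.symm
  have hcext : ∀ c d : Subgroup.centralizer (G : Set (Equiv.Perm α)), (c : Equiv.Perm α) a = (d : Equiv.Perm α) a → c = d := by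
    intro c d e
    refine Subtype.ext (Equiv.ext fun x => ?_)
    obtain ⟨g, rfl⟩ := MulAction.exists_smul_eq G a x
    rw [key c c.2, key d d.2, e]
  choose t ht using fun x => MulAction.exists_smul_eq G a x
  have hwd : ∀ n ∈ N, ∀ g g' : G, g • a = g' • a → (g * n) • a = (g' * n) • a := by
    intro n hn g g' e
    have h1 : g'⁻¹ * g ∈ H := by
      rw [hH, MulAction.mem_stabilizer_iff, mul_smul, e, inv_smul_smul]
    have h2 : n⁻¹ * (g'⁻¹ * g) * n ∈ H := by
      have := (Subgroup.mem_normalizer_iff.mp (N.inv_mem hn) (g'⁻¹ * g)).mp h1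
      simpa using this
    have h3 : (n⁻¹ * (g'⁻¹ * g) * n) • a = a := h2
    calc (g * n) • a = (g' * n) • ((n⁻¹ * (g'⁻¹ * g) * n) • a) := by rw [← mul_smul]; group
      _ = (g' * n) • a := by rw [h3]
  let cn : N → Equiv.Perm α := fun n =>
    { toFun := fun x => (t x * (n : G)⁻¹) • a
      invFun := fun x => (t x * (n : G)) • a
      left_inv := fun x => by
        show (t ((t x * (n : G)⁻¹) • a) * (n : G)) • a = x
        rw [hwd n n.2 _ (t x * (n : G)⁻¹) (ht _)]
        rw [inv_mul_cancel_right, ht]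
      right_inv := fun x => by
        show (t ((t x * (n : G)) • a) * (n : G)⁻¹) • a = x
        rw [hwd _ (N.inv_mem n.2) _ (t x * (n : G)) (ht _)]
        rw [mul_inv_cancel_right, ht] }
  have hcn : ∀ (n : N) (g : G), cn n (g • a) = (g * (n : G)⁻¹) • a := fun n g =>
    hwd _ (N.inv_mem n.2) _ g (ht _)
  have hcnC : ∀ n, cn n ∈ Subgroup.centralizer (G : Set (Equiv.Perm α)) := by
    intro n g hg
    refine Equiv.ext fun x => ?_
    obtain ⟨h, rfl⟩ := MulAction.exists_smul_eq G a x
    show (⟨g, hg⟩ : G) • cn n (h • a) = cn n ((⟨g, hg⟩ : G) • h • a)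
    rw [← mul_smul, hcn, hcn, ← mul_smul, mul_assoc]
  let f : N →* Subgroup.centralizer (G : Set (Equiv.Perm α)) :=
    MonoidHom.mk' (fun n => ⟨cn n, hcnC n⟩) (fun m n => hcext _ _ (by
      show cn (m * n) a = cn m (cn n a)
      conv_lhs => rw [← one_smul G a, hcn]
      conv_rhs => rw [← one_smul G a, hcn, hcn]
      simp))
  have hfix : ∀ b ∈ MulAction.fixedPoints H α, ∃ n : N, (f n : Equiv.Perm α) a = b := by
    intro b hb
    obtain ⟨g, rfl⟩ := MulAction.exists_smul_eq G a b
    have hle : ∀ h ∈ H, g⁻¹ * h * g ∈ H := fun h hh => by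
      rw [hH, MulAction.mem_stabilizer_iff, mul_smul, mul_smul]
      rw [show h • g • a = g • a from hb ⟨h, hh⟩, inv_smul_smul]
    have hgN : g⁻¹ ∈ N := by
      have he : H.map (MulAut.conj g⁻¹).toMonoidHom = H := Subgroup.eq_of_le_of_card_ge
        (by rintro _ ⟨h, hh, rfl⟩; simpa using hle h hh)
        (by rw [Subgroup.card_map_of_injective (MulEquiv.injective _)])
      exact Subgroup.mem_normalizer_iff_map_conj_eq.mpr he
    refine ⟨⟨g⁻¹, hgN⟩, ?_⟩
    show cn ⟨g⁻¹, hgN⟩ a = g • a
    conv_lhs => rw [← one_smul G a, hcn]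
    simp
  have hcfix : ∀ c : Subgroup.centralizer (G : Set (Equiv.Perm α)), (c : Equiv.Perm α) a ∈ MulAction.fixedPoints H α := by
    intro c h
    show (h : G) • (c : Equiv.Perm α) a = _
    rw [← key c c.2, show (h : G) • a = a from h.2]
  have hsurj : Function.Surjective f := fun c => by
    obtain ⟨n, hn⟩ := hfix _ (hcfix c)
    exact ⟨n, hcext _ _ hn⟩
  have hker : f.ker = H.subgroupOf N := by
    ext n
    rw [MonoidHom.mem_ker, Subgroup.mem_subgroupOf, hH, MulAction.mem_stabilizer_iff]
    constructor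
    · intro e
      have h1 : cn n a = a := congrArg (fun c : Subgroup.centralizer (G : Set (Equiv.Perm α)) => (c : Equiv.Perm α) a) e
      conv_lhs at h1 => rw [← one_smul G a, hcn]
      rw [one_mul, inv_smul_eq_iff] at h1
      exact h1.symm
    · intro e
      refine hcext _ _ ?_
      show cn n a = a
      conv_lhs => rw [← one_smul G a, hcn]
      rw [one_mul, inv_smul_eq_iff, e]
  refine ⟨⟨((QuotientGroup.quotientMulEquivOfEq hker.symm).trans (QuotientGroup.quotientKerEquivOfSurjective f hsurj)).symm⟩, ?_⟩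
  ext b
  constructor
  · rintro ⟨c, rfl⟩
    exact hcfix c
  · intro hb
    obtain ⟨n, hn⟩ := hfix b hb
    exact ⟨f n, hn⟩

end Cfsg.Agent.S0702
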