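import Cfsg.Statements.S0703
import Mathlib
import Cfsg.Agent.S0701
import Cfsg.Agent.Lib.Elementary
-- import your own Cfsg.Agent.* helpers here

set_option autoImplicit false
open Cfsg

namespace Cfsg.Agent.S0703

/-- An abelian transitive minimal normal subgroup `M` of a permutation group on a finite set is self-centralising in the symmetric group, regular, elementary abelian, and is the unique minimal normal subgroup. -/
theorem result {α : Type*} [Finite α] (G : Subgroup (Equiv.Perm α)) (M : Subgroup G) [M.Normal] (hM : M ≠ ⊥) (hmin : ∀ L : Subgroup G, L.Normal → L ≤ M → L = ⊥ ∨ L = M) (hab : IsMulCommutative M) (htrans : MulAction.IsPretransitive M α) : Subgroup.centralizer ((M.map G.subtype : Subgroup (Equiv.Perm α)) : Set (Equiv.Perm α)) = M.map G.subtype ∧ (∀ a : α, MulAction.stabilizer M a = ⊥) ∧ (∃ p : ℕ, p.Prime ∧ ∀ m ∈ M, m ^ p = 1) ∧ ∀ L : Subgroup G, L.Normal → L ≠ ⊥ → (∀ L' : Subgroup G, L'.Normal → L' ≤ L → L' = ⊥ ∨ L' = L) → L = M := by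
  classical
  set M' := M.map G.subtype with hM'
  haveI : MulAction.IsPretransitive M' α := ⟨fun x y => by
    obtain ⟨m, hm⟩ := htrans.exists_smul_eq x y
    exact ⟨⟨_, (m : G), m.2, rfl⟩, hm⟩⟩
  obtain ⟨hsemi, hiff⟩ := Cfsg.Agent.S0701.result M'
  have hle : M' ≤ Subgroup.centralizer (M' : Set (Equiv.Perm α)) := by
    rintro _ ⟨b, hb, rfl⟩ _ ⟨a, ha, rfl⟩
    rw [← map_mul, ← map_mul, show a * b = b * a from congrArg Subtype.val (hab.is_comm.comm ⟨a, ha⟩ ⟨b, hb⟩)]
  rcases isEmpty_or_nonempty α with he | ⟨⟨a₀⟩⟩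
  · exact absurd ((Subgroup.eq_bot_iff_forall _).mpr fun m _ => Subtype.ext (Equiv.ext fun x => isEmptyElim x)) hM
  have hC : Subgroup.centralizer (M' : Set (Equiv.Perm α)) = M' := by
    refine le_antisymm (fun c hc => ?_) hle
    obtain ⟨b, hb⟩ := MulAction.exists_smul_eq M' a₀ (c a₀)
    have h2 : (b : Equiv.Perm α)⁻¹ * c = 1 := hsemi _ (mul_mem (inv_mem (hle b.2)) hc) a₀ (by
      show (b : Equiv.Perm α).symm (c a₀) = a₀
      rw [← hb]; exact Equiv.symm_apply_apply _ _)
    rw [← inv_mul_eq_one.mp h2]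
    exact b.2
  have hreg : ∀ a : α, MulAction.stabilizer M a = ⊥ := by
    intro a
    rw [Subgroup.eq_bot_iff_forall]
    intro m hm
    exact Subtype.ext (Subtype.ext (hsemi _ (hle ⟨(m : G), m.2, rfl⟩) a hm))
  haveI := hab
  have hMs : Group.IsSolvable M := Group.isSolvable_of_comm fun a b => hab.is_comm.comm a b
  obtain ⟨-, hexp⟩ := CfsgLib.minimal_normal_elementary hM hMs hmin
  refine ⟨hC, hreg, hexp, fun L hL hL0 hLmin => ?_⟩
  by_contra hLM
  have hdis : Disjoint M L := by
    rw [disjoint_iff]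
    rcases hmin (M ⊓ L) inferInstance inf_le_left with h | h
    · exact h
    · rcases hLmin M inferInstance (h.ge.trans inf_le_right) with e | e
      · exact absurd e hM
      · exact absurd e.symm hLM
  have h1 : L.map G.subtype ≤ M' := hC ▸ (by
    rintro _ ⟨l, hl, rfl⟩ _ ⟨m, hm, rfl⟩
    rw [← map_mul, ← map_mul, (Subgroup.commute_of_normal_of_disjoint M L inferInstance hL hdis m l hm hl).eq])
  rcases hmin L hL (Subgroup.map_subtype_le_map_subtype.mp h1) with e | e
  · exact hL0 e
  · exact hLM e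

end Cfsg.Agent.S0703
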