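import Cfsg.Statements.S0704
import Mathlib
import Cfsg.Agent.S0701
-- import your own Cfsg.Agent.* helpers here

set_option autoImplicit false
open Cfsg

namespace Cfsg.Agent.S0704

/-- Two distinct transitive minimal normal subgroups `M`, `N` of a permutation group are regular, non-abelian, isomorphic, each other's centraliser in the symmetric group, and the only minimal normal subgroups. -/
theorem result {α : Type*} (G : Subgroup (Equiv.Perm α)) (M N : Subgroup G) [M.Normal] [N.Normal] (hM : M ≠ ⊥) (hN : N ≠ ⊥) (hMmin : ∀ L : Subgroup G, L.Normal → L ≤ M → L = ⊥ ∨ L = M) (hNmin : ∀ L : Subgroup G, L.Normal → L ≤ N → L = ⊥ ∨ L = N) (hMN : M ≠ N) (hMt : MulAction.IsPretransitive M α) (hNt : MulAction.IsPretransitive N α) : (∀ a : α, MulAction.stabilizer M a = ⊥) ∧ (∀ a : α, MulAction.stabilizer N a = ⊥) ∧ ¬ IsMulCommutative M ∧ Nonempty (M ≃* N) ∧ Subgroup.centralizer ((M.map G.subtype : Subgroup (Equiv.Perm α)) : Set (Equiv.Perm α)) = N.map G.subtype ∧ Subgroup.centralizer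 ((N.map G.subtype : Subgroup (Equiv.Perm α)) : Set (Equiv.Perm α)) = M.map G.subtype ∧ ∀ L : Subgroup G, L.Normal → L ≠ ⊥ → (∀ L' : Subgroup G, L'.Normal → L' ≤ L → L' = ⊥ ∨ L' = L) → L = M ∨ L = N := by
  classical
  have hd : ∀ A B : Subgroup G, A.Normal → B.Normal → (∀ L : Subgroup G, L.Normal → L ≤ A → L = ⊥ ∨ L = A) →
      (∀ L : Subgroup G, L.Normal → L ≤ B → L = ⊥ ∨ L = B) → A ≠ B → A ≠ ⊥ → ∀ a ∈ A, ∀ b ∈ B, a * b = b * a := by
    intro A B hA hB hAm hBm hAB hA0 a ha b hb
    refine (Subgroup.commute_of_normal_of_disjoint A B hA hB ?_ a b ha hb).eq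
    rw [disjoint_iff]
    rcases hAm (A ⊓ B) inferInstance inf_le_left with h | h
    · exact h
    · rcases hBm A hA (h.ge.trans inf_le_right) with e | e
      · exact absurd e hA0
      · exact absurd e hAB
  set M' := M.map G.subtype with hM'
  set N' := N.map G.subtype with hN'
  have hpre : ∀ A : Subgroup G, MulAction.IsPretransitive A α → MulAction.IsPretransitive (A.map G.subtype) α := fun A hA =>
    ⟨fun x y => by
      obtain ⟨m, hm⟩ := hA.exists_smul_eq x y
      exact ⟨⟨_, (m : G), m.2, rfl⟩, hm⟩⟩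
  have hcomm : ∀ m ∈ M, ∀ n ∈ N, m * n = n * m := hd M N inferInstance inferInstance hMmin hNmin hMN hM
  have hle : ∀ A B : Subgroup G, (∀ a ∈ A, ∀ b ∈ B, a * b = b * a) →
      B.map G.subtype ≤ Subgroup.centralizer ((A.map G.subtype : Subgroup (Equiv.Perm α)) : Set (Equiv.Perm α)) := by
    rintro A B h _ ⟨b, hb, rfl⟩ _ ⟨a, ha, rfl⟩
    rw [← map_mul, ← map_mul, h a ha b hb]
  have main : ∀ A B : Subgroup G, MulAction.IsPretransitive A α → MulAction.IsPretransitive B α →
      (∀ a ∈ A, ∀ b ∈ B, a * b = b * a) → (∀ a : α, MulAction.stabilizer A a = ⊥) ∧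
        Subgroup.centralizer ((A.map G.subtype : Subgroup (Equiv.Perm α)) : Set (Equiv.Perm α)) = B.map G.subtype := by
    intro A B hA hB h
    haveI := hpre A hA
    haveI := hpre B hB
    obtain ⟨hsemi, hiff⟩ := Cfsg.Agent.S0701.result (A.map G.subtype)
    constructor
    · intro a
      have hct : MulAction.IsPretransitive (Subgroup.centralizer ((A.map G.subtype : Subgroup (Equiv.Perm α)) : Set (Equiv.Perm α))) α :=
        ⟨fun x y => by
          obtain ⟨b, hb⟩ := (hpre B hB).exists_smul_eq x y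
          exact ⟨⟨b, hle A B h b.2⟩, hb⟩⟩
      rw [Subgroup.eq_bot_iff_forall]
      intro m hm
      have h1 : (⟨_, (m : G), m.2, rfl⟩ : A.map G.subtype) ∈ MulAction.stabilizer (A.map G.subtype) a := hm
      rw [hiff.mp hct a, Subgroup.mem_bot] at h1
      exact Subtype.ext (Subtype.ext (congrArg Subtype.val h1 :))
    · refine le_antisymm (fun c hc => ?_) (hle A B h)
      rcases isEmpty_or_nonempty α with he | ⟨⟨a⟩⟩
      · rw [show c = 1 from Equiv.ext fun x => isEmptyElim x]; exact one_mem _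
      obtain ⟨b, hb⟩ := (hpre B hB).exists_smul_eq a (c a)
      have h2 : (b : Equiv.Perm α)⁻¹ * c = 1 := hsemi _ (mul_mem (inv_mem (hle A B h b.2)) hc) a (by
        show (b : Equiv.Perm α).symm (c a) = a
        rw [← hb]
        exact Equiv.symm_apply_apply _ _)
      rw [← inv_mul_eq_one.mp h2]
      exact b.2
  obtain ⟨hMreg, hCM⟩ := main M N hMt hNt hcomm
  obtain ⟨hNreg, hCN⟩ := main N M hNt hMt fun n hn m hm => (hcomm m hm n hn).symm
  refine ⟨hMreg, hNreg, fun hab => hM ?_, ?_, hCM, hCN, fun L hL hL0 hLmin => ?_⟩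
  · have h1 : M' ≤ N' := (hle M M (fun a ha b hb => congrArg Subtype.val (hab.is_comm.comm ⟨a, ha⟩ ⟨b, hb⟩))).trans hCM.le
    have h2 : M ≤ N := (Subgroup.map_subtype_le_map_subtype).mp h1
    rcases hNmin M inferInstance h2 with e | e
    · exact e
    · exact absurd e hMN
  · rcases isEmpty_or_nonempty α with he | ⟨⟨a⟩⟩
    · exact absurd ((Subgroup.eq_bot_iff_forall _).mpr fun m _ => Subtype.ext (Equiv.ext fun x => isEmptyElim x)) hM
    have hbij : ∀ A : Subgroup G, MulAction.IsPretransitive A α → (∀ a : α, MulAction.stabilizer A a = ⊥) →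
        Function.Bijective (fun m : A => m • a) := fun A hA hr => by
      refine ⟨fun u v e => ?_, fun y => hA.exists_smul_eq a y⟩
      have h1 : v⁻¹ * u ∈ MulAction.stabilizer A a := by
        rw [MulAction.mem_stabilizer_iff, mul_smul]
        exact inv_smul_eq_iff.mpr e
      rw [hr a, Subgroup.mem_bot, inv_mul_eq_one] at h1
      exact h1.symm
    let e : M ≃ N := ((Equiv.inv M).trans (Equiv.ofBijective _ (hbij M hMt hMreg))).trans (Equiv.ofBijective _ (hbij N hNt hNreg)).symm
    have he : ∀ m : M, e m • a = m⁻¹ • a := fun m => by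
      show (fun n : N => n • a) ((Equiv.ofBijective _ (hbij N hNt hNreg)).symm (m⁻¹ • a)) = _
      exact Equiv.apply_symm_apply (Equiv.ofBijective _ (hbij N hNt hNreg)) _
    refine ⟨{ e with map_mul' := fun m₁ m₂ => (hbij N hNt hNreg).1 ?_ }⟩
    show e (m₁ * m₂) • a = (e m₁ * e m₂) • a
    rw [he, mul_smul, he, mul_inv_rev, mul_smul, ← he m₁]
    show ((m₂⁻¹ : M) : G) • (e m₁ : G) • a = (e m₁ : G) • ((m₂⁻¹ : M) : G) • a
    rw [← mul_smul, hcomm _ (m₂⁻¹).2 _ (e m₁).2, mul_smul]
  · by_contra hno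
    push Not at hno
    have h1 : L.map G.subtype ≤ N' := (hle M L (fun m hm l hl => hd M L inferInstance hL hMmin hLmin (Ne.symm hno.1) hM m hm l hl)).trans hCM.le
    rcases hNmin L hL (Subgroup.map_subtype_le_map_subtype.mp h1) with e | e
    · exact hL0 e
    · exact hno.2 e

end Cfsg.Agent.S0704
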