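import Cfsg.Statements.S0705
import Mathlib
import Cfsg.Agent.Lib.Perm.Fixing
-- import your own Cfsg.Agent.* helpers here

set_option autoImplicit false
open scoped Pointwise
open Cfsg

namespace Cfsg.Agent.S0705

/-- A generously `k`-transitive permutation group (every `(k+1)`-subset has its full symmetric group induced by the setwise stabiliser) of degree greater than `k` is `k`-transitive, and for a `k`-subset the setwise and pointwise stabilisers have the same orbits outside it. -/
theorem result {α : Type*} [Fintype α] [DecidableEq α] (G : Subgroup (Equiv.Perm α)) {k : ℕ} (hk : k < Fintype.card α) (hgen : ∀ s : Finset α, s.card = k + 1 → ∀ σ : Equiv.Perm ↥s, ∃ g ∈ G, ∀ x : ↥s, g (x : α) = σ x) : MulAction.IsMultiplyPretransitive G α k ∧ ∀ s : Finset α, s.card = k → ∀ a b : α, a ∉ s → b ∉ s → (∃ g ∈ G, g • s = s ∧ g a = b) → ∃ g ∈ G, (∀ x ∈ s, g x = x) ∧ g a = b := by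
  classical
  by_cases hk0 : k = 0
  · subst hk0
    refine ⟨CfsgLib.PermFixing.isMultiplyPretransitive_of_fixTrans fun j hj => absurd hj (Nat.not_lt_zero j),
      fun s hs a b _ _ ⟨g, hg, _, hgab⟩ => ⟨g, hg, fun x hx => ?_, hgab⟩⟩
    rw [Finset.card_eq_zero.mp hs] at hx
    exact absurd hx (Finset.notMem_empty x)
  have hlev : CfsgLib.PermFixing.FixTrans G α (k - 1) := by
    intro r hr x y hx hy
    by_cases hxy : x = y
    · exact ⟨1, fun z _ => one_smul _ z, by rw [one_smul, hxy]⟩
    have hs : (insert x (insert y r)).card = k + 1 := by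
      rw [Finset.card_insert_of_notMem (by simp [hxy, hx]), Finset.card_insert_of_notMem hy, hr]
      omega
    obtain ⟨g, hg, hgs⟩ := hgen _ hs (Equiv.swap ⟨x, by simp⟩ ⟨y, by simp⟩)
    refine ⟨⟨g, hg⟩, fun z hz => ?_, ?_⟩
    · have h1 := hgs ⟨z, by simp [hz]⟩
      rw [Equiv.swap_apply_of_ne_of_ne (by simp; rintro rfl; exact hx hz) (by simp; rintro rfl; exact hy hz)] at h1
      exact h1
    · have h1 := hgs ⟨x, by simp⟩
      rw [Equiv.swap_apply_left] at h1
      exact h1
  refine ⟨CfsgLib.PermFixing.isMultiplyPretransitive_of_fixTrans fun j hj =>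
    CfsgLib.PermFixing.fixTrans_of_le (by omega) (by omega) hlev, fun s hs a b ha hb hex => ?_⟩
  obtain ⟨g, hg, hgs, hgab⟩ := hex
  by_cases hab : a = b
  · exact ⟨1, G.one_mem, fun x _ => rfl, hab⟩
  have hcard : (insert b s).card = k + 1 := by rw [Finset.card_insert_of_notMem hb, hs]
  have hginv : ∀ x ∈ s, g⁻¹ x ∈ s := fun x hx => by
    rw [← hgs] at hx
    obtain ⟨y, hy, rfl⟩ := Finset.mem_smul_finset.mp hx
    simpa using hy
  let e : Equiv.Perm ↥(insert b s) :=
    Equiv.Perm.subtypePerm (Equiv.Perm.ofSubtype ((g⁻¹).subtypePerm (p := (· ∈ s)) (fun x => ⟨fun hx => by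
      have h1 : g (g⁻¹ x) ∈ g • s := Finset.smul_mem_smul_finset hx
      rw [hgs] at h1
      simpa using h1, hginv x⟩))) (fun x => by
      rw [Finset.mem_insert, Finset.mem_insert]
      by_cases hxs : x ∈ s
      · rw [Equiv.Perm.ofSubtype_apply_of_mem _ hxs]
        exact iff_of_true (Or.inr (hginv x hxs)) (Or.inr hxs)
      · simp [Equiv.Perm.ofSubtype_apply_of_not_mem _ hxs, hxs])
  obtain ⟨h, hh, hhe⟩ := hgen _ hcard e
  refine ⟨h * g, G.mul_mem hh hg, fun x hx => ?_, ?_⟩
  · have hgx : g x ∈ s := by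
      have h1 : g x ∈ g • s := Finset.smul_mem_smul_finset hx
      rwa [hgs] at h1
    have h1 := hhe ⟨g x, Finset.mem_insert_of_mem hgx⟩
    show h (g x) = x
    rw [h1]
    simp [e, Equiv.Perm.ofSubtype_apply_of_mem _ hgx]
  · have h1 := hhe ⟨b, Finset.mem_insert_self b s⟩
    show h (g a) = b
    rw [hgab, h1]
    simp [e, Equiv.Perm.ofSubtype_apply_of_not_mem _ hb]

end Cfsg.Agent.S0705
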