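import Cfsg.Statements.S0707
import Mathlib
-- import your own Cfsg.Agent.* helpers here

set_option autoImplicit false
open Cfsg

namespace Cfsg.Agent.S0707

open scoped Pointwise

/-- In a primitive permutation group, distinct points have distinct stabilisers unless the group is regular of prime degree. -/
theorem result {α : Type*} (G : Subgroup (Equiv.Perm α)) [MulAction.IsPreprimitive G α] (h : ¬ (Nat.card α).Prime ∨ ∃ a : α, MulAction.stabilizer G a ≠ ⊥) {a b : α} (hab : a ≠ b) : MulAction.stabilizer G a ≠ MulAction.stabilizer G b := by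
  classical
  intro he
  set B : Set α := {x | MulAction.stabilizer G x = MulAction.stabilizer G a} with hB
  have hBb : MulAction.IsBlock G B := by
    rw [MulAction.isBlock_iff_smul_eq_or_disjoint]
    intro g
    by_cases hd : Disjoint (g • B) B
    · exact Or.inr hd
    · left
      obtain ⟨y, ⟨x, hx, rfl⟩, hy⟩ := Set.not_disjoint_iff.mp hd
      replace hy : MulAction.stabilizer G (g • x) = MulAction.stabilizer G a := hy
      replace hx : MulAction.stabilizer G x = MulAction.stabilizer G a := hx
      ext z
      constructor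
      · rintro ⟨w, hw, rfl⟩
        show MulAction.stabilizer G (g • w) = _
        rw [MulAction.stabilizer_smul_eq_stabilizer_map_conj, show MulAction.stabilizer G w = _ from hw,
          ← hx, ← MulAction.stabilizer_smul_eq_stabilizer_map_conj, hy, hx]
      · intro hz
        refine ⟨g⁻¹ • z, ?_, smul_inv_smul g z⟩
        replace hz : MulAction.stabilizer G z = MulAction.stabilizer G (g • x) := hz.trans hy.symm
        show MulAction.stabilizer G (g⁻¹ • z) = _
        rw [MulAction.stabilizer_smul_eq_stabilizer_map_conj, hz,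
          ← MulAction.stabilizer_smul_eq_stabilizer_map_conj, inv_smul_smul, hx]
  rcases MulAction.IsPreprimitive.isTrivialBlock_of_isBlock hBb with hs | hu
  · exact hab (hs rfl he.symm)
  · have hall : ∀ x, MulAction.stabilizer G x = MulAction.stabilizer G a := fun x => hu ▸ Set.mem_univ x
    have hbot : ∀ x, MulAction.stabilizer G x = ⊥ := fun x => by
      rw [Subgroup.eq_bot_iff_forall]
      intro g hg
      refine Subtype.ext (Equiv.ext fun y => ?_)
      rw [hall x, ← hall y] at hg
      exact hg
    rcases h with h | ⟨c, hc⟩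
    swap
    · exact hc (hbot c)
    apply h
    haveI : Nontrivial α := ⟨⟨a, b, hab⟩⟩
    have hco := MulAction.IsPreprimitive.isCoatom_stabilizer_of_isPreprimitive G a
    rw [hbot a] at hco
    have hbij : Function.Bijective (fun g : G => g • a) := by
      refine ⟨fun g h e => ?_, fun y => MulAction.exists_smul_eq G a y⟩
      have h1 : h⁻¹ * g ∈ MulAction.stabilizer G a := by
        rw [MulAction.mem_stabilizer_iff, mul_smul]
        exact inv_smul_eq_iff.mpr e
      rw [hbot a, Subgroup.mem_bot, inv_mul_eq_one] at h1
      exact h1.symm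
    rw [← Nat.card_eq_of_bijective _ hbij]
    obtain ⟨g, hg⟩ : ∃ g : G, g ≠ 1 := by
      by_contra hno
      push Not at hno
      exact hco.1 (eq_top_iff.mpr fun g _ => by simp [hno g])
    have hz : ∀ g : G, g ≠ 1 → Subgroup.zpowers g = ⊤ := fun g hg => hco.2 _ (bot_lt_iff_ne_bot.mpr (by simpa using hg))
    have hfin : IsOfFinOrder g := by
      by_contra hinf
      have h2 : g ^ 2 ≠ 1 := fun e => hinf (isOfFinOrder_iff_pow_eq_one.mpr ⟨2, two_pos, e⟩)
      have hgm : g ∈ Subgroup.zpowers (g ^ 2) := by rw [hz _ h2]; trivial
      obtain ⟨i, hi⟩ := hgm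
      have := (injective_zpow_iff_not_isOfFinOrder.mpr hinf) (a₁ := 2 * i) (a₂ := 1) (by
        show g ^ (2 * i) = g ^ (1 : ℤ)
        rw [zpow_mul, zpow_one]; exact hi)
      omega
    have : Finite G := by
      have h3 : Finite (Subgroup.zpowers g) := (hfin.finite_zpowers).to_subtype
      rw [hz g hg] at h3
      exact Finite.of_equiv _ Subgroup.topEquiv.toEquiv
    obtain ⟨q, hq, hqd⟩ := Nat.exists_prime_and_dvd (n := Nat.card G) (fun e => hg
      ((Nat.card_eq_one_iff_unique.mp e).1.elim g 1))
    have := Fact.mk hq
    obtain ⟨y, hy⟩ := exists_prime_orderOf_dvd_card' q hqd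
    rw [← Subgroup.card_top, ← hz y (fun e => hq.ne_one (by rw [← hy, e, orderOf_one])), Nat.card_zpowers, hy]
    exact hq

end Cfsg.Agent.S0707
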