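import Cfsg.Statements.S0708
import Mathlib
-- import your own Cfsg.Agent.* helpers here

set_option autoImplicit false
open Cfsg

namespace Cfsg.Agent.S0708

theorem emb4 {Ω : Type*} {a b c d : Ω} (hab : a ≠ b) (hac : a ≠ c) (had : a ≠ d) (hbc : b ≠ c) (hbd : b ≠ d)
    (hcd : c ≠ d) : Function.Injective ![a, b, c, d] := by
  intro i j h
  fin_cases i <;> fin_cases j <;> simp_all [eq_comm]

/-- Tits' argument: a sharply 4-transitive group (no finiteness assumed) has finite degree at most 11, and at most 6 when the degree is even. -/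
theorem result {G : Type*} [Group G] {Ω : Type*} [MulAction G Ω] (h4 : MulAction.IsMultiplyPretransitive G Ω 4) (hsharp : ∀ x : Fin 4 ↪ Ω, MulAction.stabilizer G x = ⊥) (hne : Nonempty (Fin 4 ↪ Ω)) : Finite Ω ∧ Nat.card Ω ≤ 11 ∧ (Even (Nat.card Ω) → Nat.card Ω ≤ 6) := by
  classical
  obtain ⟨x0⟩ := hne
  haveI := h4
  have trans4 : ∀ a b c d a' b' c' d' : Ω, Function.Injective ![a, b, c, d] → Function.Injective ![a', b', c', d'] →
      ∃ g : G, g • a = a' ∧ g • b = b' ∧ g • c = c' ∧ g • d = d' := by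
    intro a b c d a' b' c' d' h1 h2
    obtain ⟨g, hg⟩ := MulAction.exists_smul_eq G (⟨_, h1⟩ : Fin 4 ↪ Ω) ⟨_, h2⟩
    exact ⟨g, congrArg (fun e : Fin 4 ↪ Ω => e 0) hg, congrArg (fun e : Fin 4 ↪ Ω => e 1) hg,
      congrArg (fun e : Fin 4 ↪ Ω => e 2) hg, congrArg (fun e : Fin 4 ↪ Ω => e 3) hg⟩
  have eq_one : ∀ (g : G) (a b c d : Ω), Function.Injective ![a, b, c, d] → g • a = a → g • b = b → g • c = c →
      g • d = d → g = 1 := by
    intro g a b c d h ha hb hc hd
    have hmem : g ∈ MulAction.stabilizer G (⟨_, h⟩ : Fin 4 ↪ Ω) := by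
      rw [MulAction.mem_stabilizer_iff]
      ext i
      fin_cases i
      · exact ha
      · exact hb
      · exact hc
      · exact hd
    rw [hsharp] at hmem
    exact Subgroup.mem_bot.1 hmem
  set p1 := x0 0; set p2 := x0 1; set p3 := x0 2; set p4 := x0 3
  have hne12 : p1 ≠ p2 := x0.injective.ne (by decide)
  have hne13 : p1 ≠ p3 := x0.injective.ne (by decide)
  have hne14 : p1 ≠ p4 := x0.injective.ne (by decide)
  have hne23 : p2 ≠ p3 := x0.injective.ne (by decide)
  have hne24 : p2 ≠ p4 := x0.injective.ne (by decide)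
  have hne34 : p3 ≠ p4 := x0.injective.ne (by decide)
  obtain ⟨t, t1, t2, t3, t4⟩ := trans4 p1 p2 p3 p4 p2 p1 p3 p4 (emb4 hne12 hne13 hne14 hne23 hne24 hne34)
    (emb4 hne12.symm hne23 hne24 hne13 hne14 hne34)
  have htt : ∀ x : Ω, t • t • x = x := by
    have h : t * t = 1 := eq_one _ p1 p2 p3 p4 (emb4 hne12 hne13 hne14 hne23 hne24 hne34)
      (by rw [mul_smul, t1, t2]) (by rw [mul_smul, t2, t1]) (by rw [mul_smul, t3, t3]) (by rw [mul_smul, t4, t4])
    intro x
    rw [← mul_smul, h, one_smul]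
  set F := {x : Ω | t • x = x} with hF
  have hFle : ∀ s : Finset Ω, (∀ x ∈ s, x ∈ F) → s.card ≤ 3 := by
    intro s hs
    by_contra hc
    obtain ⟨e⟩ := Function.Embedding.nonempty_of_card_le (α := Fin 4) (β := s) (by simp; omega)
    let e' := e.trans (Function.Embedding.subtype _)
    have hmem : t ∈ MulAction.stabilizer G e' := by
      rw [MulAction.mem_stabilizer_iff]
      ext i
      exact hs _ (e i).2
    rw [hsharp, Subgroup.mem_bot] at hmem
    rw [hmem, one_smul] at t1
    exact hne12 t1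
  have hFfin : F.Finite := by
    by_contra hinf
    obtain ⟨s, hs, hcard⟩ := Set.Infinite.exists_subset_card_eq hinf 4
    have := hFle s (fun x hx => hs hx)
    omega
  set Y := {y : Ω | t • y ≠ y ∧ y ≠ p1 ∧ y ≠ p2} with hY
  have hinj : Finite Y ∧ Nat.card Y ≤ (Nat.card F).factorial := by
    haveI : Finite F := hFfin
    haveI := Fintype.ofFinite F
    rcases isEmpty_or_nonempty Y with hE | ⟨⟨y0, hy0⟩⟩
    · exact ⟨inferInstance, by rw [Nat.card_of_isEmpty]; exact Nat.zero_le _⟩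
    have hty : ∀ y ∈ Y, t • y ≠ p1 ∧ t • y ≠ p2 ∧ y ≠ t • y := by
      intro y hy
      refine ⟨fun h => hy.2.2 ?_, fun h => hy.2.1 ?_, fun h => hy.1 h.symm⟩
      · rw [← htt y, h, t1]
      · rw [← htt y, h, t2]
    have hinjY : ∀ y ∈ Y, Function.Injective ![p1, p2, y, t • y] := fun y hy =>
      emb4 hne12 hy.2.1.symm (hty y hy).1.symm hy.2.2.symm (hty y hy).2.1.symm (hty y hy).2.2
    have hg : ∀ y : Y, ∃ g : G, g • p1 = p1 ∧ g • y0 = (y : Ω) ∧ ∀ x : Ω, g • t • x = t • g • x := by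
      rintro ⟨y, hy⟩
      obtain ⟨g, g1, g2, g3, g4⟩ := trans4 p1 p2 y0 (t • y0) p1 p2 y (t • y) (hinjY y0 hy0) (hinjY y hy)
      have h : (g * t)⁻¹ * (t * g) = 1 := by
        refine eq_one _ p1 p2 y0 (t • y0) (hinjY y0 hy0) ?_ ?_ ?_ ?_ <;>
          simp only [mul_smul, inv_smul_eq_iff, g1, g2, g3, g4, t1, t2, htt]
      have h' : g * t = t * g := inv_mul_eq_one.1 h
      exact ⟨g, g1, g3, fun x => by rw [← mul_smul, h', mul_smul]⟩
    choose g g1 g2 g3 using hg
    let φ : Y → (F ↪ F) := fun y => ⟨fun x => ⟨g y • (x : Ω), by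
        show t • g y • (x : Ω) = g y • (x : Ω)
        rw [← g3, x.2]⟩, fun a b h => Subtype.ext (smul_left_cancel _ (congrArg Subtype.val h))⟩
    have hφ : Function.Injective φ := by
      intro y z h
      have hfix : ∀ x ∈ F, g y • x = g z • x := fun x hx => congrArg Subtype.val (DFunLike.congr_fun h ⟨x, hx⟩)
      have hp2 : ∀ w, g w • p2 = p2 := fun w => by rw [← t1, g3, g1]
      have heq : (g z)⁻¹ * g y = 1 := by
        refine eq_one _ p1 p2 p3 p4 (emb4 hne12 hne13 hne14 hne23 hne24 hne34) ?_ ?_ ?_ ?_ <;>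
          rw [mul_smul, inv_smul_eq_iff]
        · rw [g1, g1]
        · rw [hp2, hp2]
        · exact hfix p3 t3
        · exact hfix p4 t4
      apply Subtype.ext
      rw [← g2 y, ← g2 z, ← inv_mul_eq_one.1 heq]
    refine ⟨Finite.of_injective φ hφ, (Nat.card_le_card_of_injective φ hφ).trans ?_⟩
    rw [Nat.card_eq_fintype_card, Fintype.card_embedding_eq, Nat.descFactorial_self, ← Nat.card_eq_fintype_card]
  obtain ⟨hYfin, hYcard⟩ := hinj
  have hcover : (Set.univ : Set Ω) = F ∪ (Y ∪ {p1, p2}) := by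
    ext x
    simp only [hF, hY, Set.mem_univ, Set.mem_union, Set.mem_setOf_eq, Set.mem_insert_iff, Set.mem_singleton_iff]
    tauto
  haveI hfin : Finite Ω := by
    rw [← Set.finite_univ_iff, hcover]
    exact hFfin.union ((Set.toFinite Y).union (by simp))
  haveI := Fintype.ofFinite Ω
  have hFc : Nat.card F ≤ 3 := by
    rw [Nat.card_eq_card_toFinset]
    exact hFle _ (fun x hx => Set.mem_toFinset.1 hx)
  have hF2 : 2 ≤ Nat.card F := by
    have h : ({p3, p4} : Set Ω) ⊆ F := Set.insert_subset_iff.2 ⟨t3, Set.singleton_subset_iff.2 t4⟩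
    have h2 := Set.ncard_le_ncard h
    rw [Set.ncard_pair hne34] at h2
    exact h2.trans_eq (Nat.card_coe_set_eq F).symm
  have hn : Nat.card Ω ≤ Nat.card F + (Nat.card Y + 2) := by
    rw [← Set.ncard_univ, hcover, Nat.card_coe_set_eq, Nat.card_coe_set_eq]
    refine (Set.ncard_union_le _ _).trans (Nat.add_le_add_left ((Set.ncard_union_le _ _).trans ?_) _)
    rw [Set.ncard_pair hne12]
  have hpar : Nat.card F % 2 = Nat.card Ω % 2 := by
    let σ : Equiv.Perm Ω := MulAction.toPerm t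
    have hσ : σ ^ 2 ^ 1 = 1 := Equiv.ext fun x => by
      rw [pow_one, pow_two]; exact htt x
    haveI : Fact (Nat.Prime 2) := ⟨Nat.prime_two⟩
    have h := Equiv.Perm.card_compl_support_modEq (p := 2) (n := 1) hσ
    have e : Nat.card F = σ.supportᶜ.card := by
      rw [Nat.card_eq_card_toFinset]
      congr 1
      ext x
      simp [hF, σ]
    rw [e, Nat.card_eq_fintype_card]
    exact h
  have h23 : Nat.card F = 2 ∨ Nat.card F = 3 := by omega
  refine ⟨hfin, ?_, fun he => ?_⟩
  · rcases h23 with h | h <;> rw [h] at hYcard hn <;> simp only [Nat.factorial] at hYcard <;> omega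
  · rcases h23 with h | h <;> rw [h] at hYcard hn hpar <;> simp only [Nat.factorial] at hYcard
    · omega
    · obtain ⟨k, hk⟩ := he; omega

end Cfsg.Agent.S0708
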