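import Cfsg.Statements.S0709
import Mathlib
-- import your own Cfsg.Agent.* helpers here

set_option autoImplicit false
open Cfsg

namespace Cfsg.Agent.S0709

/-- Witt's Lemma for constructing transitive extensions. Points `q 1, …, q t` (`t ≥ 2`) of a finite set are given; `G` fixes `q i` for `i ≥ 3` and is doubly transitive on the remaining points; `s 1 ∈ G` swaps `q 1, q 2`; for `2 ≤ i ≤ t-1`, `s i` swaps `q i, q (i+1)` and fixes the other `q j`; with `H` the stabiliser of `q 1, q 2` in `G`: `s i ^ 2 ∈ H`, `(s i * s (i+1)) ^ 3 ∈ H`, `(s i * s j) ^ 2 ∈ H` for `j ≥ i + 2`, and `s i` (`i ≥ 2`) normalises the stabiliser of `q 2` in `G`. Then `G` and the `s i` generate a `t`-transitive group whose pointwise stabiliser of the `q`'s is `H`. -/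
theorem result {α : Type*} [Fintype α] [DecidableEq α] (t : ℕ) (ht : 2 ≤ t) (q : ℕ → α) (hq : ∀ i j : ℕ, 1 ≤ i → i ≤ t → 1 ≤ j → j ≤ t → q i = q j → i = j) (G : Subgroup (Equiv.Perm α)) (hfix : ∀ g ∈ G, ∀ i : ℕ, 3 ≤ i → i ≤ t → g (q i) = q i) (h2 : ∀ a b c d : α, (∀ i, 3 ≤ i → i ≤ t → a ≠ q i ∧ b ≠ q i ∧ c ≠ q i ∧ d ≠ q i) → a ≠ b → c ≠ d → ∃ g ∈ G, g a = c ∧ g b = d) (s : ℕ → Equiv.Perm α) (hs1 : s 1 ∈ G) (hs1q : s 1 (q 1) = q 2 ∧ s 1 (q 2) = q 1) (hsq : ∀ i : ℕ, 2 ≤ i → i + 1 ≤ t → s i (q i) = q (i + 1) ∧ s i (q (i + 1)) = q i ∧ ∀ j : ℕ, 1 ≤ j → j ≤ t → j ≠ i → j ≠ i + 1 → s i (q j) = q j) (H : Subgroup (Equiv.Perm α)) (hH : H = G ⊓ MulAction.stabilizer (Equiv.Perm α) (q 1) ⊓ MulAction.stabilizer (Equiv.Perm α) (q 2)) (hsq2 : ∀ i : ℕ, 1 ≤ i → i + 1 ≤ t → s i ^ 2 ∈ H) (hbraid : ∀ i : ℕ, 1 ≤ i → i + 2 ≤ t → (s i * s (i + 1)) ^ 3 ∈ H) (hcomm : ∀ i j : ℕ, 1 ≤ i → i + 2 ≤ j → j + 1 ≤ t → (s i * s j) ^ 2 ∈ H ∧ (s j * s i)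 ^ 2 ∈ H) (hnorm : ∀ i : ℕ, 2 ≤ i → i + 1 ≤ t → ∀ g ∈ G ⊓ MulAction.stabilizer (Equiv.Perm α) (q 2), s i * g * (s i)⁻¹ ∈ G ⊓ MulAction.stabilizer (Equiv.Perm α) (q 2)) : MulAction.IsMultiplyPretransitive ↥(Subgroup.closure ((G : Set (Equiv.Perm α)) ∪ {x | ∃ i : ℕ, 2 ≤ i ∧ i + 1 ≤ t ∧ x = s i})) α t ∧ Subgroup.closure ((G : Set (Equiv.Perm α)) ∪ {x | ∃ i : ℕ, 2 ≤ i ∧ i + 1 ≤ t ∧ x = s i}) ⊓ fixingSubgroup (Equiv.Perm α) {x | ∃ i : ℕ, 1 ≤ i ∧ i ≤ t ∧ x = q i} = H := by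
  set G1 := G ⊓ MulAction.stabilizer (Equiv.Perm α) (q 2) with hG1
  have hmemG1 : ∀ g, g ∈ G1 ↔ g ∈ G ∧ g (q 2) = q 2 := fun g => Subgroup.mem_inf
  let L : ℕ → Subgroup (Equiv.Perm α) := fun k =>
    Subgroup.closure ((G1 : Set (Equiv.Perm α)) ∪ {x | ∃ i : ℕ, 1 ≤ i ∧ i + 1 ≤ k ∧ x = s i})
  have hLm : ∀ {k l : ℕ}, k ≤ l → L k ≤ L l := fun {k l} h => Subgroup.closure_mono
    (Set.union_subset_union_right _ fun x ⟨i, h1, h2, e⟩ => ⟨i, h1, h2.trans h, e⟩)
  have hGL : ∀ k, G1 ≤ L k := fun k g hg => Subgroup.subset_closure (Or.inl hg)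
  have hsL : ∀ i k, 1 ≤ i → i + 1 ≤ k → s i ∈ L k := fun i k h1 h2 => Subgroup.subset_closure (Or.inr ⟨i, h1, h2, rfl⟩)
  have hH1 : H ≤ G1 := fun g hg => by
    rw [hH] at hg
    obtain ⟨hg1, hg2⟩ := Subgroup.mem_inf.mp hg
    exact Subgroup.mem_inf.mpr ⟨(Subgroup.mem_inf.mp hg1).1, hg2⟩
  have hfixL : ∀ k, k ≤ t → ∀ g ∈ L k, ∀ j, max k 1 < j → j ≤ t → g (q j) = q j := by
    intro k hk g hg j hj hjt
    induction hg using Subgroup.closure_induction with
    | mem x hx =>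
      rcases hx with hx | ⟨i, h1, h2, rfl⟩
      · obtain ⟨hxG, hx2⟩ := (hmemG1 x).mp hx
        rcases eq_or_ne j 2 with rfl | hj2
        · exact hx2
        · exact hfix x hxG j (by omega) hjt
      · rcases eq_or_ne i 1 with rfl | hi1
        · exact hfix _ hs1 j (by omega) hjt
        · exact (hsq i (by omega) (by omega)).2.2 j (by omega) hjt (by omega) (by omega)
    | one => rfl
    | mul x y _ _ h1 h2 => rw [Equiv.Perm.mul_apply, h2, h1]
    | inv x _ h1 =>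
      rw [Equiv.Perm.inv_def, Equiv.symm_apply_eq]
      exact h1.symm
  have hnormL : ∀ j k, 2 ≤ j → j + 1 ≤ t → k + 1 ≤ j → ∀ g ∈ L k, s j * g * (s j)⁻¹ ∈ L k := by
    intro j k hj hjt hkj g hg
    induction hg using Subgroup.closure_induction with
    | mem x hx =>
      rcases hx with hx | ⟨i, h1, h2, rfl⟩
      · exact hGL k (hnorm j hj hjt x hx)
      · have e : s j * s i * (s j)⁻¹ = (s j * s i) ^ 2 * (s i)⁻¹ * (s j ^ 2)⁻¹ := by simp only [pow_two]; group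
        rw [e]
        exact (L k).mul_mem ((L k).mul_mem (hGL k (hH1 (hcomm i j h1 (by omega) hjt).2)) ((L k).inv_mem (hsL i k h1 h2)))
          ((L k).inv_mem (hGL k (hH1 (hsq2 j (by omega) hjt))))
    | one => simp
    | mul x y _ _ h1 h2 =>
      have e : s j * (x * y) * (s j)⁻¹ = (s j * x * (s j)⁻¹) * (s j * y * (s j)⁻¹) := by group
      rw [e]; exact (L k).mul_mem h1 h2
    | inv x _ h1 =>
      have e : s j * x⁻¹ * (s j)⁻¹ = (s j * x * (s j)⁻¹)⁻¹ := by group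
      rw [e]; exact (L k).inv_mem h1
  have hG2 : ∀ g ∈ G, g ∈ L 1 ∨ ∃ a ∈ L 1, ∃ b ∈ L 1, g = a * s 1 * b := by
    intro g hg
    by_cases hg2 : g (q 2) = q 2
    · exact Or.inl (hGL 1 ((hmemG1 g).mpr ⟨hg, hg2⟩))
    obtain ⟨a, haG, ha1, ha2⟩ := h2 (q 1) (q 2) (g (q 2)) (q 2) (fun i hi3 hit => ⟨fun e => by
        have := hq 1 i le_rfl (by omega) (by omega) hit e; omega,
        fun e => by have := hq 2 i (by omega) ht (by omega) hit e; omega,
        fun e => by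
          have := hq 2 i (by omega) ht (by omega) hit (g.injective (e.trans (hfix g hg i hi3 hit).symm)); omega,
        fun e => by have := hq 2 i (by omega) ht (by omega) hit e; omega⟩)
      (fun e => by have := hq 1 2 le_rfl (by omega) (by omega) ht e; omega) hg2
    refine Or.inr ⟨a, hGL 1 ((hmemG1 a).mpr ⟨haG, ha2⟩), (s 1)⁻¹ * a⁻¹ * g, hGL 1 ((hmemG1 _).mpr
      ⟨G.mul_mem (G.mul_mem (G.inv_mem hs1) (G.inv_mem haG)) hg, ?_⟩), by group⟩
    rw [Equiv.Perm.mul_apply, Equiv.Perm.mul_apply, ← ha1, Equiv.Perm.inv_def a, Equiv.symm_apply_apply,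
      Equiv.Perm.inv_def, Equiv.symm_apply_eq]
    exact hs1q.2.symm
  have hL2 : L 2 = G := by
    refine le_antisymm ((Subgroup.closure_le _).mpr ?_) fun g hg => ?_
    · rintro x (hx | ⟨i, h1, h2, rfl⟩)
      · exact ((hmemG1 x).mp hx).1
      · rw [show i = 1 by omega]; exact hs1
    · rcases hG2 g hg with h | ⟨a, ha, b, hb, rfl⟩
      · exact hLm (by omega) h
      · exact (L 2).mul_mem ((L 2).mul_mem (hLm (by omega) ha) (hsL 1 2 le_rfl le_rfl)) (hLm (by omega) hb)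
  have hdec : ∀ k, 1 ≤ k → k + 1 ≤ t → ∀ g ∈ L (k + 1), g ∈ L k ∨ ∃ a ∈ L k, ∃ b ∈ L k, g = a * s k * b := by
    intro k hk1
    induction k, hk1 using Nat.le_induction with
    | base => exact fun _ g hg => hG2 g (hL2 ▸ hg)
    | succ k hk IH =>
      intro hkt
      set u := s (k + 1) with hu
      set M := L (k + 1) with hM
      have hu2 : u ^ 2 ∈ L k := hGL k (hH1 (hsq2 (k + 1) (by omega) hkt))
      have hnu : ∀ g ∈ L k, u * g * u⁻¹ ∈ L k := hnormL (k + 1) k (by omega) hkt le_rfl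
      have hnu' : ∀ g ∈ L k, u⁻¹ * g * u ∈ L k := fun g hg => by
        rw [show u⁻¹ * g * u = (u ^ 2)⁻¹ * (u * g * u⁻¹) * u ^ 2 by simp only [pow_two]; group]
        exact (L k).mul_mem ((L k).mul_mem ((L k).inv_mem hu2) (hnu g hg)) hu2
      let X : Set (Equiv.Perm α) := {g | g ∈ M ∨ ∃ a ∈ M, ∃ b ∈ M, g = a * u * b}
      have hkey : ∀ m ∈ M, u * m * u ∈ X := by
        intro m hm
        rcases IH (by omega) m hm with h | ⟨a, ha, b, hb, rfl⟩
        · refine Or.inl (hLm (Nat.le_succ k) ?_)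
          rw [show u * m * u = (u * m * u⁻¹) * u ^ 2 by simp only [pow_two]; group]
          exact (L k).mul_mem (hnu m h) hu2
        · have hr : s k ∈ M := hsL k (k + 1) hk le_rfl
          have hh : (s k * u) ^ 3 ∈ M := hLm (Nat.le_succ k) (hGL k (hH1 (hbraid k hk hkt)))
          refine Or.inr ⟨(u * a * u⁻¹) * ((s k)⁻¹ * (s k * u) ^ 3 * (u ^ 2)⁻¹), ?_,
            (s k)⁻¹ * (u⁻¹ * b * u), M.mul_mem (M.inv_mem hr) (hLm (Nat.le_succ k) (hnu' b hb)), ?_⟩
          · exact M.mul_mem (hLm (Nat.le_succ k) (hnu a ha))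
              (M.mul_mem (M.mul_mem (M.inv_mem hr) hh) (M.inv_mem (hLm (Nat.le_succ k) hu2)))
          · simp only [pow_succ, pow_zero, one_mul]; group
      have hXl : ∀ a ∈ M, ∀ x ∈ X, a * x ∈ X := by
        rintro a ha x (h | ⟨c, hc, d, hd, rfl⟩)
        · exact Or.inl (M.mul_mem ha h)
        · exact Or.inr ⟨a * c, M.mul_mem ha hc, d, hd, by group⟩
      have hXr : ∀ a ∈ M, ∀ x ∈ X, x * a ∈ X := by
        rintro a ha x (h | ⟨c, hc, d, hd, rfl⟩)
        · exact Or.inl (M.mul_mem h ha)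
        · exact Or.inr ⟨c, hc, d * a, M.mul_mem hd ha, by group⟩
      intro g hg
      show g ∈ X
      induction hg using Subgroup.closure_induction with
      | mem x hx =>
        rcases hx with hx | ⟨i, h1, h2, rfl⟩
        · exact Or.inl (hGL _ hx)
        · rcases Nat.lt_or_ge i (k + 1) with h | h
          · exact Or.inl (hsL i _ h1 (by omega))
          · exact Or.inr ⟨1, M.one_mem, 1, M.one_mem, by rw [one_mul, mul_one, hu, show i = k + 1 by omega]⟩
      | one => exact Or.inl M.one_mem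
      | mul x y _ _ hx hy =>
        rcases hx with hx | ⟨a, ha, b, hb, rfl⟩
        · exact hXl x hx y hy
        rcases hy with hy | ⟨c, hc, d, hd, rfl⟩
        · exact hXr y hy _ (Or.inr ⟨a, ha, b, hb, rfl⟩)
        rw [show a * u * b * (c * u * d) = a * (u * (b * c) * u) * d by group]
        exact hXr d hd _ (hXl a ha _ (hkey _ (M.mul_mem hb hc)))
      | inv x _ hx =>
        rcases hx with hx | ⟨a, ha, b, hb, rfl⟩
        · exact Or.inl (M.inv_mem hx)
        · exact Or.inr ⟨b⁻¹ * (u ^ 2)⁻¹, M.mul_mem (M.inv_mem hb) (M.inv_mem (hLm (Nat.le_succ k) hu2)), a⁻¹,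
            M.inv_mem ha, by simp only [pow_two]; group⟩
  have hsk : ∀ k, 1 ≤ k → k + 1 ≤ t → s k (q (k + 1)) = q k ∧ s k (q k) = q (k + 1) := by
    intro k hk hkt
    rcases eq_or_ne k 1 with rfl | h
    · exact ⟨hs1q.2, hs1q.1⟩
    · exact ⟨(hsq k (by omega) hkt).2.1, (hsq k (by omega) hkt).1⟩
  have hdown : ∀ k, 1 ≤ k → k + 1 ≤ t → ∀ g ∈ L (k + 1), g (q (k + 1)) = q (k + 1) → g ∈ L k := by
    intro k hk hkt g hg hgq
    rcases hdec k hk hkt g hg with h | ⟨a, ha, b, hb, rfl⟩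
    · exact h
    exfalso
    rw [Equiv.Perm.mul_apply, Equiv.Perm.mul_apply, hfixL k (by omega) b hb (k + 1) (by omega) hkt,
      (hsk k hk hkt).1] at hgq
    have := hq k (k + 1) hk (by omega) (by omega) hkt
      (a.injective (hgq.trans (hfixL k (by omega) a ha (k + 1) (by omega) hkt).symm))
    omega
  have horb : ∀ k, 1 ≤ k → k ≤ t → ∀ x : α, (∀ j, k < j → j ≤ t → x ≠ q j) → ∃ g ∈ L k, g (q k) = x := by
    intro k hk
    induction k, hk using Nat.le_induction with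
    | base =>
      intro _ x hx
      obtain ⟨g, hgG, hg1, hg2⟩ := h2 (q 1) (q 2) x (q 2) (fun i hi3 hit => ⟨fun e => by
          have := hq 1 i le_rfl (by omega) (by omega) hit e; omega,
          fun e => by have := hq 2 i (by omega) ht (by omega) hit e; omega,
          hx i (by omega) hit,
          fun e => by have := hq 2 i (by omega) ht (by omega) hit e; omega⟩)
        (fun e => by have := hq 1 2 le_rfl (by omega) (by omega) ht e; omega) (hx 2 (by omega) ht)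
      exact ⟨g, hGL 1 ((hmemG1 g).mpr ⟨hgG, hg2⟩), hg1⟩
    | succ k hk IH =>
      intro hkt x hx
      by_cases hxk : x = q (k + 1)
      · exact ⟨1, one_mem _, hxk.symm⟩
      obtain ⟨g, hg, hgx⟩ := IH (by omega) x (fun j hj hjt => by
        rcases eq_or_ne j (k + 1) with rfl | h
        · exact hxk
        · exact hx j (by omega) hjt)
      refine ⟨g * s k, (L (k + 1)).mul_mem (hLm (Nat.le_succ k) hg) (hsL k _ hk le_rfl), ?_⟩
      rw [Equiv.Perm.mul_apply, (hsk k hk hkt).1, hgx]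
  have htup : ∀ k, k ≤ t → ∀ x : Fin k → α, Function.Injective x → (∀ i j, k < j → j ≤ t → x i ≠ q j) →
      ∃ g ∈ L k, ∀ i : Fin k, g (q ((i : ℕ) + 1)) = x i := by
    intro k
    induction k with
    | zero => exact fun _ x _ _ => ⟨1, one_mem _, fun i => i.elim0⟩
    | succ k IH =>
      intro hkt x hxi hx
      obtain ⟨g, hg, hgx⟩ := horb (k + 1) (by omega) hkt (x (Fin.last k)) (fun j hj hjt => hx _ j hj hjt)
      have hgj : ∀ j, k + 1 < j → j ≤ t → g (q j) = q j := fun j hj hjt => hfixL (k + 1) hkt g hg j (by omega) hjt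
      obtain ⟨h, hh, hhx⟩ := IH (by omega) (fun i => g⁻¹ (x i.castSucc))
        (g⁻¹.injective.comp (hxi.comp (Fin.castSucc_injective k))) (fun i j hj hjt e => by
          have e' : x i.castSucc = g (q j) := Equiv.Perm.inv_eq_iff_eq.mp e
          rcases eq_or_ne j (k + 1) with rfl | h
          · rw [hgx] at e'
            exact absurd (hxi e') (Fin.castSucc_lt_last i).ne
          · rw [hgj j (by omega) hjt] at e'
            exact hx i.castSucc j (by omega) hjt e')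
      obtain ⟨h, hh, hhx, hhq⟩ : ∃ h' ∈ L k, (∀ i : Fin k, h' (q ((i : ℕ) + 1)) = g⁻¹ (x i.castSucc)) ∧
          h' (q (k + 1)) = q (k + 1) := by
        rcases Nat.eq_zero_or_pos k with hk0 | hk0
        · exact ⟨1, one_mem _, fun i => absurd i.2 (by omega), rfl⟩
        · exact ⟨h, hh, hhx, hfixL k (by omega) h hh (k + 1) (by omega) hkt⟩
      refine ⟨g * h, (L (k + 1)).mul_mem hg (hLm (Nat.le_succ k) hh), fun i => ?_⟩
      rw [Equiv.Perm.mul_apply]
      induction i using Fin.lastCases with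
      | last => rw [Fin.val_last, hhq, hgx]
      | cast i => rw [Fin.val_castSucc, hhx, Equiv.Perm.inv_def, Equiv.apply_symm_apply]
  have hfinal : ∀ k, 2 ≤ k → k ≤ t → ∀ g ∈ L k, (∀ i, 1 ≤ i → i ≤ t → g (q i) = q i) → g ∈ H := by
    intro k hk
    induction k, hk using Nat.le_induction with
    | base =>
      intro _ g hg hgq
      rw [hH]
      exact Subgroup.mem_inf.mpr ⟨Subgroup.mem_inf.mpr ⟨hL2 ▸ hg, hgq 1 le_rfl (by omega)⟩, hgq 2 (by omega) ht⟩
    | succ k hk IH =>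
      exact fun hkt g hg hgq => IH (by omega) g (hdown k (by omega) hkt g hg (hgq (k + 1) (by omega) hkt)) hgq
  have hK : Subgroup.closure ((G : Set (Equiv.Perm α)) ∪ {x | ∃ i : ℕ, 2 ≤ i ∧ i + 1 ≤ t ∧ x = s i}) = L t := by
    refine le_antisymm ((Subgroup.closure_le _).mpr ?_) ((Subgroup.closure_le _).mpr ?_)
    · rintro x (hx | ⟨i, h1, h2, rfl⟩)
      · exact hLm ht (hL2.symm ▸ hx : x ∈ L 2)
      · exact hsL i t (by omega) h2
    · rintro x (hx | ⟨i, h1, h2, rfl⟩)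
      · exact Subgroup.subset_closure (Or.inl ((hmemG1 x).mp hx).1)
      · rcases eq_or_ne i 1 with rfl | h
        · exact Subgroup.subset_closure (Or.inl hs1)
        · exact Subgroup.subset_closure (Or.inr ⟨i, by omega, h2, rfl⟩)
  rw [hK]
  constructor
  · refine MulAction.isPretransitive_iff _ _ |>.mpr fun x y => ?_
    obtain ⟨g, hg, hgx⟩ := htup t le_rfl x x.injective (fun i j h1 h2 => by omega)
    obtain ⟨g', hg', hgy⟩ := htup t le_rfl y y.injective (fun i j h1 h2 => by omega)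
    refine ⟨⟨g' * g⁻¹, (L t).mul_mem hg' ((L t).inv_mem hg)⟩, Function.Embedding.ext fun i => ?_⟩
    show (g' * g⁻¹) (x i) = y i
    rw [Equiv.Perm.mul_apply, ← hgx i, Equiv.Perm.inv_def, Equiv.symm_apply_apply, hgy]
  · refine le_antisymm (fun g hg => ?_) (fun g hg => Subgroup.mem_inf.mpr ⟨hGL t (hH1 hg), ?_⟩)
    · obtain ⟨hgL, hgF⟩ := Subgroup.mem_inf.mp hg
      rw [mem_fixingSubgroup_iff] at hgF
      exact hfinal t ht le_rfl g hgL fun i h1 h2 => hgF _ ⟨i, h1, h2, rfl⟩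
    · rw [mem_fixingSubgroup_iff]
      rintro _ ⟨i, h1, h2, rfl⟩
      have hg' := hg
      rw [hH] at hg'
      obtain ⟨hg12, hgq2⟩ := Subgroup.mem_inf.mp hg'
      obtain ⟨hgG, hgq1⟩ := Subgroup.mem_inf.mp hg12
      rcases eq_or_ne i 1 with rfl | hi1
      · exact hgq1
      rcases eq_or_ne i 2 with rfl | hi2
      · exact hgq2
      exact hfix g hgG i (by omega) h2

end Cfsg.Agent.S0709
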