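import Cfsg.Statements.S0710
import Mathlib
-- import your own Cfsg.Agent.* helpers here

set_option autoImplicit false
open Cfsg

namespace Cfsg.Agent.S0710

/-- No transitive permutation group on 13 points has order `13 * 12 * 11 * 10 * 9 * 8`. -/
theorem result {α : Type*} [Fintype α] [DecidableEq α] (hα : Fintype.card α = 13) (G : Subgroup (Equiv.Perm α)) [MulAction.IsPretransitive G α] : Nat.card G ≠ 13 * 12 * 11 * 10 * 9 * 8 := by
  classical
  intro hc
  have : Fact (Nat.Prime 13) := ⟨by norm_num⟩
  obtain ⟨P⟩ : Nonempty (Sylow 13 G) := inferInstance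
  have hP : Nat.card P = 13 := by
    rw [Sylow.card_eq_multiplicity, hc, show (13 * 12 * 11 * 10 * 9 * 8 : ℕ) = 13 * 95040 from by norm_num,
      Nat.factorization_mul (by norm_num) (by norm_num), Finsupp.add_apply,
      Nat.Prime.factorization_self (by norm_num : (13 : ℕ).Prime),
      Nat.factorization_eq_zero_of_not_dvd (by norm_num : ¬ 13 ∣ 95040)]
    norm_num
  obtain ⟨c, hc13⟩ := exists_prime_orderOf_dvd_card' (G := (P : Subgroup G)) 13 (by rw [hP])
  set σ : Equiv.Perm α := ((c : G) : Equiv.Perm α) with hσ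
  have hσo : orderOf σ = 13 := by
    rw [hσ, Subgroup.orderOf_coe, Subgroup.orderOf_coe, hc13]
  have hσs : Nat.card (Subgroup.centralizer ({σ} : Set (Equiv.Perm α))) = 13 := by
    have hcy : σ.IsCycle := Equiv.Perm.isCycle_of_prime_order' (by rw [hσo]; norm_num) (by rw [hσo, hα]; norm_num)
    rw [Equiv.Perm.nat_card_centralizer, hcy.cycleType, hα,
      show σ.support.card = 13 from (hcy.orderOf.symm.trans hσo)]
    simp
  set M := Subgroup.normalizer ((P : Subgroup G) : Set G) with hM
  have hzp : Subgroup.zpowers (c : G) = (P : Subgroup G) := Subgroup.eq_of_le_of_card_ge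
    (Subgroup.zpowers_le.mpr c.2) (by rw [Nat.card_zpowers, Subgroup.orderOf_coe, hc13, hP])
  let act : M →* MulAut (P : Subgroup G) := Subgroup.normalizerMonoidHom (P : Subgroup G)
  have hker : Nat.card act.ker ≤ 13 := by
    refine le_of_le_of_eq ?_ hσs
    refine Nat.card_le_card_of_injective (fun m => (⟨((m : M) : G), ?_⟩ : Subgroup.centralizer ({σ} : Set (Equiv.Perm α)))) ?_
    · have h1 : act (m : M) c = c := by rw [show act (m : M) = 1 from m.2]; rfl
      have h2 : ((m : M) : G) * c * ((m : M) : G)⁻¹ = c := congrArg Subtype.val h1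
      rw [Subgroup.mem_centralizer_singleton_iff]
      exact congrArg Subtype.val (mul_inv_eq_iff_eq_mul.mp h2)
    · intro u v e
      exact Subtype.ext (Subtype.ext (Subtype.ext (congrArg Subtype.val e :)))
  have hcard : Nat.card M ∣ Nat.card act.ker * 12 := by
    rw [← act.ker.card_mul_index, Subgroup.index_ker]
    refine mul_dvd_mul_left _ ((Subgroup.card_subgroup_dvd_card _).trans ?_)
    haveI : IsCyclic (P : Subgroup G) := isCyclic_of_prime_card hP
    rw [IsCyclic.card_mulAut, hP, Nat.totient_prime (by norm_num)]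
  have hPM : 13 ∣ Nat.card M := hP ▸ Subgroup.card_dvd_of_le Subgroup.le_normalizer
  have hker13 : Nat.card act.ker = 13 := by
    have h1 : 13 ∣ Nat.card act.ker := (Nat.Coprime.dvd_of_dvd_mul_right (by norm_num) (hPM.trans hcard))
    have h2 := Nat.le_of_dvd Nat.card_pos h1
    omega
  rw [hker13] at hcard
  have h1 := card_sylow_modEq_one 13 G
  have h2 : Nat.card (Sylow 13 G) = M.index := Sylow.card_eq_index_normalizer P
  have h3 := M.card_mul_index
  rw [hc, ← h2] at h3
  obtain ⟨d, hd⟩ := hPM
  rw [hd] at h3 hcard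
  have hd12 : d ∣ 12 := Nat.dvd_of_mul_dvd_mul_left (by norm_num) hcard
  have hlt : d ≤ 12 := Nat.le_of_dvd (by norm_num) hd12
  have h4 : d * Nat.card (Sylow 13 G) = 95040 := by
    have h5 : 13 * (d * Nat.card (Sylow 13 G)) = 13 * 95040 := by rw [← mul_assoc]; exact h3.trans (by norm_num)
    omega
  unfold Nat.ModEq at h1
  have h6 : d * Nat.card (Sylow 13 G) % 13 = d % 13 := by
    rw [Nat.mul_mod, h1]; simp
  rw [h4] at h6
  have h7 : d = 10 := by
    have : 95040 % 13 = 10 := by norm_num
    omega
  rw [h7] at hd12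
  norm_num at hd12

end Cfsg.Agent.S0710
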