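import Cfsg.Statements.S0712
import Mathlib
import Cfsg.Agent.Lib.Perm.Fixing
-- import your own Cfsg.Agent.* helpers here

set_option autoImplicit false
open Cfsg

namespace Cfsg.Agent.S0712

/-- Jordan: a primitive group in which the pointwise stabiliser of a set `s` is doubly transitive on the complement of `s` (which has at least 2 points) is `(|s| + 2)`-transitive. -/
theorem result {α : Type*} [Fintype α] [DecidableEq α] (G : Subgroup (Equiv.Perm α)) (hG : MulAction.IsPreprimitive G α) (s : Set α) {m : ℕ} (hsm : s.ncard = m) (hm : m + 2 ≤ Fintype.card α) (h2 : MulAction.IsMultiplyPretransitive (fixingSubgroup G s) (SubMulAction.ofFixingSubgroup G s) 2) : MulAction.IsMultiplyPretransitive G α (m + 2) := by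
  classical
  rcases Nat.eq_zero_or_pos m with rfl | hm0
  · rw [MulAction.is_two_pretransitive_iff] at h2 ⊢
    intro a b c d hab hcd
    have hs : s = ∅ := (Set.ncard_eq_zero (Set.toFinite s)).mp hsm
    have hmem : ∀ x : α, x ∈ SubMulAction.ofFixingSubgroup G s := fun x => by
      rw [SubMulAction.mem_ofFixingSubgroup_iff, hs]; exact Set.notMem_empty x
    obtain ⟨g, hg1, hg2⟩ := h2 (a := ⟨a, hmem a⟩) (b := ⟨b, hmem b⟩) (c := ⟨c, hmem c⟩) (d := ⟨d, hmem d⟩)
      (fun e => hab (congrArg Subtype.val e)) (fun e => hcd (congrArg Subtype.val e))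
    exact ⟨g.1, congrArg Subtype.val hg1, congrArg Subtype.val hg2⟩
  obtain ⟨n, rfl⟩ : ∃ n, m = n + 1 := ⟨m - 1, by omega⟩
  haveI := h2
  haveI : MulAction.IsPreprimitive (fixingSubgroup G s) (SubMulAction.ofFixingSubgroup G s) :=
    MulAction.isPreprimitive_of_is_two_pretransitive h2
  have hP := MulAction.IsPreprimitive.isMultiplyPreprimitive hG hsm (by rw [Nat.card_eq_fintype_card]; omega) inferInstance
  haveI htr : MulAction.IsMultiplyPretransitive G α (n + 2) := hP.isMultiplyPretransitive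
  refine CfsgLib.PermFixing.isMultiplyPretransitive_of_fixTrans fun j hj => ?_
  haveI : MulAction.IsMultiplyPretransitive G α (n + 1) := MulAction.isMultiplyPretransitive_of_le (n := n + 2) (by omega) (by rw [Nat.card_eq_fintype_card]; omega)
  have hsc : s.toFinset.card = n + 1 := by rw [← Set.ncard_eq_toFinset_card']; exact hsm
  have hmove : ∀ r₀ : Finset α, r₀.card = n + 1 → ∃ g : G, ∀ z, z ∈ r₀ ↔ g • z ∈ s := by
    intro r₀ hr₀c
    let e1 : Fin (n + 1) ↪ α := (r₀.equivFinOfCardEq hr₀c).symm.toEmbedding.trans (Function.Embedding.subtype _)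
    let e2 : Fin (n + 1) ↪ α := (s.toFinset.equivFinOfCardEq hsc).symm.toEmbedding.trans (Function.Embedding.subtype _)
    obtain ⟨g, hg⟩ := MulAction.exists_smul_eq G e1 e2
    refine ⟨g, ?_⟩
    have hfw : ∀ z ∈ r₀, g • z ∈ s := fun z hz => by
      have := congrArg (fun e : Fin (n + 1) ↪ α => e (r₀.equivFinOfCardEq hr₀c ⟨z, hz⟩)) hg
      simp only [e1, e2, Function.Embedding.trans_apply, Equiv.coe_toEmbedding, Function.Embedding.subtype_apply,
        Function.Embedding.smul_apply, Equiv.symm_apply_apply] at this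
      rw [this]
      exact Set.mem_toFinset.mp (Finset.coe_mem _)
    refine fun z => ⟨hfw z, fun hz => ?_⟩
    have himg : r₀.image (g • ·) = s.toFinset :=
      Finset.eq_of_subset_of_card_le (fun w hw => by obtain ⟨u, hu, rfl⟩ := Finset.mem_image.mp hw; exact Set.mem_toFinset.mpr (hfw u hu))
        (by rw [Finset.card_image_of_injective _ (MulAction.injective g), hsc, hr₀c])
    obtain ⟨u, hu, e⟩ := Finset.mem_image.mp (himg.symm ▸ Set.mem_toFinset.mpr hz)
    exact smul_left_cancel g e ▸ hu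
  by_cases hj' : j ≤ n + 1
  · refine CfsgLib.PermFixing.fixTrans_of_le hj' (by omega) ?_
    intro r hr x y hx hy
    obtain ⟨g, hgr⟩ := hmove r hr
    have hmem : ∀ z, z ∉ r → g • z ∈ SubMulAction.ofFixingSubgroup G s := fun z hz => by
      rw [SubMulAction.mem_ofFixingSubgroup_iff]; exact fun h => hz ((hgr z).mpr h)
    obtain ⟨k, hk⟩ := MulAction.exists_smul_eq (fixingSubgroup G s) (⟨_, hmem x hx⟩ : SubMulAction.ofFixingSubgroup G s) ⟨_, hmem y hy⟩
    have hk' : (k : G) • g • x = g • y := congrArg Subtype.val hk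
    refine ⟨g⁻¹ * k * g, fun z hz => ?_, by rw [mul_smul, mul_smul, hk', inv_smul_smul]⟩
    rw [mul_smul, mul_smul, (mem_fixingSubgroup_iff G).mp k.2 _ ((hgr z).mp hz), inv_smul_smul]
  obtain rfl : j = n + 2 := by omega
  intro r hr x y hx hy
  by_cases hxy : x = y
  · exact ⟨1, fun z _ => one_smul _ z, by rw [one_smul]; exact hxy⟩
  -- split off one point of `r` and send the rest to `s`
  obtain ⟨c, hc⟩ : r.Nonempty := Finset.card_pos.mp (by omega)
  set r₀ := r.erase c with hr₀
  have hr₀c : r₀.card = n + 1 := by rw [hr₀, Finset.card_erase_of_mem hc, hr]; omega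
  obtain ⟨g, hgr⟩ := hmove r₀ hr₀c
  have hmem : ∀ z, z ∉ r₀ → g • z ∈ SubMulAction.ofFixingSubgroup G s := fun z hz => by
    rw [SubMulAction.mem_ofFixingSubgroup_iff]; exact fun h => hz ((hgr z).mpr h)
  have hxc : x ≠ c := fun e => hx (e ▸ hc)
  have hyc : y ≠ c := fun e => hy (e ▸ hc)
  have hcm := hmem c (Finset.notMem_erase c r)
  have hxm := hmem x (fun h => hx (Finset.mem_of_mem_erase h))
  have hym := hmem y (fun h => hy (Finset.mem_of_mem_erase h))
  rw [MulAction.is_two_pretransitive_iff] at h2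
  obtain ⟨k, hk1, hk2⟩ := h2 (a := ⟨_, hcm⟩) (b := ⟨_, hxm⟩) (c := ⟨_, hcm⟩) (d := ⟨_, hym⟩)
    (fun e => hxc (smul_left_cancel g (congrArg Subtype.val e)).symm) (fun e => hyc (smul_left_cancel g (congrArg Subtype.val e)).symm)
  have hk1' : (k : G) • g • c = g • c := congrArg Subtype.val hk1
  have hk2' : (k : G) • g • x = g • y := congrArg Subtype.val hk2
  refine ⟨g⁻¹ * k * g, fun z hz => ?_, by rw [mul_smul, mul_smul, hk2', inv_smul_smul]⟩
  rw [mul_smul, mul_smul]
  by_cases hzc : z = c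
  · rw [hzc, hk1', inv_smul_smul]
  · rw [(mem_fixingSubgroup_iff G).mp k.2 _ ((hgr z).mp (Finset.mem_erase.mpr ⟨hzc, hz⟩)), inv_smul_smul]

end Cfsg.Agent.S0712
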