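import Cfsg.Statements.S0714
import Mathlib
-- import your own Cfsg.Agent.* helpers here

set_option autoImplicit false
open Cfsg

namespace Cfsg.Agent.S0714

universe u v
variable {α : Type u} [Fintype α] [DecidableEq α] {K : Type v} [Field K]

/-- Translating a vector by an even permutation. -/
private theorem diff_mem {W : Subrepresentation (Cfsg.permRep K (alternatingGroup α) α)} {f : α → K} (hf : f ∈ W.toSubmodule)
    (σ : Equiv.Perm α) (hσ : σ ∈ alternatingGroup α) : (fun x => f (σ x) - f x) ∈ W.toSubmodule := by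
  have h := W.apply_mem_toSubmodule (⟨σ, hσ⟩ : alternatingGroup α)⁻¹ hf
  have e : (Cfsg.permRep K (alternatingGroup α) α (⟨σ, hσ⟩ : alternatingGroup α)⁻¹) f = fun x => f (σ x) := by
    funext x
    show f ((⟨σ, hσ⟩ : alternatingGroup α)⁻¹⁻¹ • x) = f (σ x)
    rw [inv_inv]
    rfl
  rw [e] at h
  exact W.toSubmodule.sub_mem h hf

private theorem two_swaps {a b c d : α} (hab : a ≠ b) (hcd : c ≠ d) :
    Equiv.swap a b * Equiv.swap c d ∈ alternatingGroup α := by
  rw [Equiv.Perm.mem_alternatingGroup, map_mul, Equiv.Perm.sign_swap hab, Equiv.Perm.sign_swap hcd]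
  decide

private theorem two_outside (hα : 5 ≤ Fintype.card α) (s : Finset α) (hs : s.card ≤ 3) :
    ∃ c e : α, c ∉ s ∧ e ∉ s ∧ c ≠ e := by
  obtain ⟨c, hc, e, he, hne⟩ := Finset.one_lt_card.mp (show 1 < (Finset.univ \ s).card by
    rw [Finset.card_univ_sdiff]; omega)
  exact ⟨c, e, (Finset.mem_sdiff.mp hc).2, (Finset.mem_sdiff.mp he).2, hne⟩

private theorem exists_single_diff (hα : 5 ≤ Fintype.card α) {W : Subrepresentation (Cfsg.permRep K (alternatingGroup α) α)}
    {w : α → K} (hw : w ∈ W.toSubmodule) {i j : α} (hij : w i ≠ w j) :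
    ∃ (a b : α) (t : K), a ≠ b ∧ t ≠ 0 ∧ t • (Pi.single a 1 - Pi.single b 1 : α → K) ∈ W.toSubmodule := by
  have hne : i ≠ j := fun e => hij (e ▸ rfl)
  obtain ⟨k, _, hk, _, -⟩ := two_outside hα {i, j} ((Finset.card_insert_le _ _).trans (by simp))
  rw [Finset.mem_insert, Finset.mem_singleton, not_or] at hk
  set d : α → K := fun x => w ((Equiv.swap i j * Equiv.swap j k) x) - w x with hd
  have hdW : d ∈ W.toSubmodule := diff_mem hw _ (two_swaps hne (Ne.symm hk.2))
  have hd0 : ∀ x, x ≠ i → x ≠ j → x ≠ k → d x = 0 := fun x h1 h2 h3 => by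
    simp [hd, Equiv.swap_apply_of_ne_of_ne h2 h3, Equiv.swap_apply_of_ne_of_ne h1 h2]
  have hdi : d i ≠ 0 := by
    simp [hd, Equiv.swap_apply_of_ne_of_ne hne (Ne.symm hk.1), Equiv.swap_apply_left]
    exact sub_ne_zero.mpr hij.symm
  obtain ⟨c, e, hc, he, hce⟩ := two_outside hα {i, j, k} ((Finset.card_insert_le _ _).trans (by
    have := Finset.card_insert_le j ({k} : Finset α); simp at this ⊢; omega))
  simp only [Finset.mem_insert, Finset.mem_singleton, not_or] at hc he
  have pair : ∀ x y : α, x ≠ y → d x ≠ d y → (x = i ∨ x = j ∨ x = k) → (y = i ∨ y = j ∨ y = k) →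
      ∃ (a b : α) (t : K), a ≠ b ∧ t ≠ 0 ∧ t • (Pi.single a 1 - Pi.single b 1 : α → K) ∈ W.toSubmodule := by
    intro x y hxy hd' hx hy
    refine ⟨x, y, d y - d x, hxy, sub_ne_zero.mpr hd'.symm, ?_⟩
    have hxc : x ≠ c ∧ x ≠ e := by rcases hx with rfl | rfl | rfl <;> simp [Ne.symm hc.1, Ne.symm hc.2.1, Ne.symm hc.2.2, Ne.symm he.1, Ne.symm he.2.1, Ne.symm he.2.2]
    have hyc : y ≠ c ∧ y ≠ e := by rcases hy with rfl | rfl | rfl <;> simp [Ne.symm hc.1, Ne.symm hc.2.1, Ne.symm hc.2.2, Ne.symm he.1, Ne.symm he.2.1, Ne.symm he.2.2]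
    convert diff_mem hdW _ (two_swaps hxy hce) using 1
    funext z
    by_cases h1 : z = x
    · subst h1
      simp [Equiv.swap_apply_of_ne_of_ne hxc.1 hxc.2, hxy]
    by_cases h2 : z = y
    · subst h2
      simp [Equiv.swap_apply_of_ne_of_ne hyc.1 hyc.2, Ne.symm hxy]
    by_cases h3 : z = c
    · subst h3
      simp [h1, h2, Equiv.swap_apply_of_ne_of_ne (Ne.symm hxc.2) (Ne.symm hyc.2), hd0 z hc.1 hc.2.1 hc.2.2, hd0 e he.1 he.2.1 he.2.2]
    by_cases h4 : z = e
    · subst h4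
      simp [h1, h2, Equiv.swap_apply_of_ne_of_ne (Ne.symm hxc.1) (Ne.symm hyc.1), hd0 z he.1 he.2.1 he.2.2, hd0 c hc.1 hc.2.1 hc.2.2]
    simp [h1, h2, Equiv.swap_apply_of_ne_of_ne h1 h2, Equiv.swap_apply_of_ne_of_ne h3 h4]
  by_cases h1 : d i = d j
  swap
  · exact pair i j hne h1 (Or.inl rfl) (Or.inr (Or.inl rfl))
  by_cases h2 : d i = d k
  swap
  · exact pair i k (Ne.symm hk.1) h2 (Or.inl rfl) (Or.inr (Or.inr rfl))
  refine ⟨c, k, d i, hc.2.2, hdi, ?_⟩
  convert diff_mem hdW _ (two_swaps hne (Ne.symm hc.2.2)) using 1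
  funext z
  by_cases z1 : z = i
  · subst z1
    simp [Ne.symm hc.1, Ne.symm hk.1, Equiv.swap_apply_of_ne_of_ne (Ne.symm hk.1) (Ne.symm hc.1), h1]
  by_cases z2 : z = j
  · subst z2
    simp [Ne.symm hc.2.1, Ne.symm hk.2, Equiv.swap_apply_of_ne_of_ne (Ne.symm hk.2) (Ne.symm hc.2.1), h1]
  by_cases z3 : z = k
  · subst z3
    simp [Ne.symm hc.2.2, Equiv.swap_apply_of_ne_of_ne hc.1 hc.2.1, hd0 c hc.1 hc.2.1 hc.2.2, h2]
  by_cases z4 : z = c
  · subst z4
    simp [z3, Equiv.swap_apply_of_ne_of_ne hk.1 hk.2, hd0 z hc.1 hc.2.1 hc.2.2, h2]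
  simp [z3, z4, Equiv.swap_apply_of_ne_of_ne z1 z2, Equiv.swap_apply_of_ne_of_ne z3 z4]

/-- Over any field, the permutation module of the alternating group of degree at least 5 has exactly four invariant subspaces: zero, the constant functions, the functions with coordinate sum zero, and everything. -/
theorem result {α : Type*} [Fintype α] [DecidableEq α] (hα : 5 ≤ Fintype.card α) {K : Type*} [Field K] (W : Subrepresentation (Cfsg.permRep K (alternatingGroup α) α)) : W.toSubmodule = ⊥ ∨ W = Cfsg.permConstants K (alternatingGroup α) α ∨ W = Cfsg.permSumZero K (alternatingGroup α) α ∨ W.toSubmodule = ⊤ := by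
  classical
  by_cases hcon : ∀ w ∈ W.toSubmodule, ∀ i j : α, w i = w j
  · haveI : Nonempty α := Fintype.card_pos_iff.mp (by omega)
    by_cases h0 : W.toSubmodule = ⊥
    · exact Or.inl h0
    refine Or.inr (Or.inl (Subrepresentation.toSubmodule_injective ?_))
    obtain ⟨w, hw, hw0⟩ := Submodule.exists_mem_ne_zero_of_ne_bot h0
    obtain ⟨i₀, hi⟩ := Function.ne_iff.mp hw0
    refine le_antisymm (fun f hf => Submodule.mem_span_singleton.mpr ⟨f i₀, funext fun x => ?_⟩) ?_
    · simpa using hcon f hf i₀ x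
    · refine (Submodule.span_singleton_le_iff_mem _ _).mpr ?_
      have e : (fun _ => 1 : α → K) = (w i₀)⁻¹ • w := funext fun x => by
        rw [Pi.smul_apply, smul_eq_mul, hcon w hw x i₀, inv_mul_cancel₀ hi]
      rw [e]; exact W.toSubmodule.smul_mem _ hw
  push Not at hcon
  obtain ⟨w, hw, i, j, hij⟩ := hcon
  obtain ⟨a₀, b₀, t, hab₀, ht, hmem⟩ := exists_single_diff hα hw hij
  have hbase : (Pi.single a₀ 1 - Pi.single b₀ 1 : α → K) ∈ W.toSubmodule := (Submodule.smul_mem_iff _ ht).mp hmem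
  have hall : ∀ a b : α, a ≠ b → (Pi.single a 1 - Pi.single b 1 : α → K) ∈ W.toSubmodule := by
    intro a b hab
    obtain ⟨π, hπa, hπb⟩ : ∃ π : Equiv.Perm α, π a₀ = a ∧ π b₀ = b := by
      refine ⟨Equiv.swap (Equiv.swap a₀ a b₀) b * Equiv.swap a₀ a, ?_, ?_⟩
      · rw [Equiv.Perm.mul_apply, Equiv.swap_apply_left, Equiv.swap_apply_of_ne_of_ne ?_ hab]
        intro e
        exact hab₀ ((Equiv.swap a₀ a).injective (by rw [Equiv.swap_apply_left]; exact e))
      · rw [Equiv.Perm.mul_apply, Equiv.swap_apply_left]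
    obtain ⟨σ, hσ, hσa, hσb⟩ : ∃ σ ∈ alternatingGroup α, σ a₀ = a ∧ σ b₀ = b := by
      rcases Int.units_eq_one_or (Equiv.Perm.sign π) with h | h
      · exact ⟨π, Equiv.Perm.mem_alternatingGroup.mpr h, hπa, hπb⟩
      · obtain ⟨c, e, hc, he, hce⟩ := two_outside hα {a, b} ((Finset.card_insert_le _ _).trans (by simp))
        simp only [Finset.mem_insert, Finset.mem_singleton, not_or] at hc he
        refine ⟨Equiv.swap c e * π, Equiv.Perm.mem_alternatingGroup.mpr (by rw [map_mul, h, Equiv.Perm.sign_swap hce]; decide), ?_, ?_⟩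
        · rw [Equiv.Perm.mul_apply, hπa, Equiv.swap_apply_of_ne_of_ne (Ne.symm hc.1) (Ne.symm he.1)]
        · rw [Equiv.Perm.mul_apply, hπb, Equiv.swap_apply_of_ne_of_ne (Ne.symm hc.2) (Ne.symm he.2)]
    have h := W.apply_mem_toSubmodule (⟨σ, hσ⟩ : alternatingGroup α) hbase
    convert h using 1
    funext x
    show _ = (Pi.single a₀ 1 - Pi.single b₀ 1 : α → K) (σ.symm x)
    simp only [Pi.sub_apply, Pi.single_apply, Equiv.symm_apply_eq, hσa, hσb]
  have hle : ∀ f : α → K, ∑ x, f x = 0 → f ∈ W.toSubmodule := by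
    intro f hf
    have e : f = ∑ x, f x • (Pi.single x 1 - Pi.single a₀ 1 : α → K) := by
      funext y
      simp only [Finset.sum_apply, Pi.smul_apply, Pi.sub_apply, smul_eq_mul, mul_sub, Finset.sum_sub_distrib, ← Finset.sum_mul, hf, zero_mul, sub_zero]
      simp [Pi.single_apply]
    rw [e]
    refine Submodule.sum_mem _ fun x _ => Submodule.smul_mem _ _ ?_
    by_cases hx : x = a₀
    · rw [hx, sub_self]; exact Submodule.zero_mem _
    · exact hall x a₀ hx
  right; right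
  by_cases hsz : ∀ w ∈ W.toSubmodule, ∑ x, w x = 0
  · exact Or.inl (Subrepresentation.toSubmodule_injective (le_antisymm (fun f hf => hsz f hf) hle))
  push Not at hsz
  obtain ⟨v, hv, hs⟩ := hsz
  refine Or.inr (eq_top_iff.mpr fun f _ => ?_)
  have h := hle (f - ((∑ x, f x) / ∑ x, v x) • v) (by
    simp only [Pi.sub_apply, Pi.smul_apply, smul_eq_mul, Finset.sum_sub_distrib, ← Finset.mul_sum, div_mul_cancel₀ _ hs, sub_self])
  simpa using W.toSubmodule.add_mem h (W.toSubmodule.smul_mem ((∑ x, f x) / ∑ x, v x) hv)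

end Cfsg.Agent.S0714
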