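import Cfsg.Statements.S0715
import Mathlib
import Cfsg.Agent.Lib.CharTheory.SelfPaired
-- import your own Cfsg.Agent.* helpers here

set_option autoImplicit false
open Cfsg

namespace Cfsg.Agent.S0715

universe u v

variable {G : Type u} [Group G] [Fintype G] {Ω : Type v} [Fintype Ω] [MulAction G Ω]

/-- The dimension of an invariant subspace: the number of constants in it plus a multiple of `f`. -/
private theorem finrank_subrep [MulAction.IsPretransitive G Ω] [Nonempty Ω] (f : ℕ)
    (hf : ∀ χ : G → ℂ, Cfsg.IsIrrCharacter G χ → χ ≠ (fun _ => 1) → Cfsg.classInner (Cfsg.permRep ℂ G Ω).character χ ≠ 0 → ∃ m : ℕ, χ 1 = (f : ℂ) * m)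
    (K : Subrepresentation (Cfsg.permRep ℂ G Ω)) :
    ∃ N : ℕ, ((fun _ => 1 : Ω → ℂ) ∈ K.toSubmodule → Module.finrank ℂ K.toSubmodule = 1 + f * N) ∧
      ((fun _ => 1 : Ω → ℂ) ∉ K.toSubmodule → Module.finrank ℂ K.toSubmodule = f * N) := by
  classical
  obtain ⟨Q, hKQ⟩ := CfsgLib.CharTheory.exists_isCompl_subrep _ K
  have h1 := CfsgLib.CharTheory.isIrrCharacter_one (G := G)
  -- multiplicity of the trivial character in `K`
  set σ := CfsgLib.CharTheory.linearRep (1 : G →* ℂˣ) with hσ
  have hσc : σ.character = fun _ => (1 : ℂ) := by rw [hσ, CfsgLib.CharTheory.linearRep_character]; simp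
  have hσ1 : ∀ (g : G) (x : Fin 1 → ℂ), σ g x = x := fun g x => by
    ext i; simp [hσ, CfsgLib.CharTheory.linearRep]
  have hinv : ∀ (φ : Representation.IntertwiningMap σ K.toRepresentation) (x : Fin 1 → ℂ), ∃ c : ℂ, ((φ.toLinearMap x : K.toSubmodule) : Ω → ℂ) = fun _ => c := by
    intro φ x
    obtain ⟨a⟩ := (inferInstance : Nonempty Ω)
    refine ⟨((φ.toLinearMap x : K.toSubmodule) : Ω → ℂ) a, funext fun z => ?_⟩
    obtain ⟨g, hg⟩ := MulAction.exists_smul_eq G a z
    have h := congrArg Subtype.val (LinearMap.congr_fun (φ.isIntertwining' g) x)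
    simp only [LinearMap.comp_apply, hσ1] at h
    have h' := congrFun h z
    rw [h']
    show ((φ.toLinearMap x : K.toSubmodule) : Ω → ℂ) (g⁻¹ • z) = _
    rw [← hg, inv_smul_smul]
  have hdim : Cfsg.classInner K.toRepresentation.character (fun _ => (1 : ℂ)) = if (fun _ => 1 : Ω → ℂ) ∈ K.toSubmodule then 1 else 0 := by
    rw [← hσc, CfsgLib.CharTheory.classInner_character]
    split
    · rename_i hmem
      refine (Nat.cast_inj.mpr ?_).trans Nat.cast_one
      let φ₀ : Representation.IntertwiningMap σ K.toRepresentation :=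
        ⟨{ toFun := fun x => ⟨fun _ => x 0, by
            have := K.toSubmodule.smul_mem (x 0) hmem
            simpa [Pi.smul_def] using this⟩
           map_add' := fun x y => rfl
           map_smul' := fun c x => rfl }, fun g => LinearMap.ext fun x => Subtype.ext (funext fun z => by
            show σ g x 0 = x 0
            rw [hσ1])⟩
      refine finrank_eq_one φ₀ (fun e => ?_) fun φ => ?_
      · obtain ⟨a⟩ := (inferInstance : Nonempty Ω)
        have := congrFun (congrArg Subtype.val (LinearMap.congr_fun (congrArg (fun m : Representation.IntertwiningMap σ K.toRepresentation => m.toLinearMap) e) (fun _ => (1 : ℂ)))) a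
        exact one_ne_zero (α := ℂ) this
      · obtain ⟨c, hc⟩ := hinv φ (fun _ => 1)
        refine ⟨c, Representation.IntertwiningMap.ext (LinearMap.ext fun x => Subtype.ext ?_)⟩
        have hx : x = x 0 • (fun _ => (1 : ℂ)) := funext fun i => by rw [Subsingleton.elim i 0]; simp
        conv_rhs => rw [hx, map_smul, Submodule.coe_smul, hc]
        funext z
        show c * x 0 = x 0 * c
        ring
    · rename_i hmem
      refine (Nat.cast_inj.mpr ?_).trans Nat.cast_zero
      haveI : Subsingleton (Representation.IntertwiningMap σ K.toRepresentation) := by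
        refine ⟨fun φ ψ => Representation.IntertwiningMap.ext (LinearMap.ext fun x => ?_)⟩
        have : ∀ η : Representation.IntertwiningMap σ K.toRepresentation, η.toLinearMap x = 0 := fun η => by
          obtain ⟨c, hc⟩ := hinv η x
          by_cases hc0 : c = 0
          · exact Subtype.ext (hc.trans (by rw [hc0]; rfl))
          · exfalso
            refine hmem ?_
            have := K.toSubmodule.smul_mem c⁻¹ (η.toLinearMap x).2
            rw [hc] at this
            simpa [Pi.smul_def, hc0] using this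
        rw [this, this]
      exact Module.finrank_zero_of_subsingleton
  have hdeg : ∀ ψ : Cfsg.IrrCharacter G, (ψ : G → ℂ) ≠ (fun _ => 1) → ∃ N : ℕ, Cfsg.classInner K.toRepresentation.character (ψ : G → ℂ) * (ψ : G → ℂ) 1 = (f : ℂ) * N := by
    intro ψ hψ
    obtain ⟨a, b, ha, hb, hab⟩ := CfsgLib.CharTheory.classInner_split K Q hKQ ψ.2
    by_cases ha0 : a = 0
    · exact ⟨0, by rw [ha, ha0]; simp⟩
    obtain ⟨m, hm⟩ := hf ψ ψ.2 hψ (by rw [hab, Nat.cast_ne_zero]; omega)
    exact ⟨a * m, by rw [ha, hm]; push_cast; ring⟩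
  choose N hN using hdeg
  refine ⟨∑ ψ : Cfsg.IrrCharacter G, if h : (ψ : G → ℂ) ≠ (fun _ => 1) then N ψ h else 0, ?_⟩
  have key : (Module.finrank ℂ K.toSubmodule : ℂ) = (if (fun _ => 1 : Ω → ℂ) ∈ K.toSubmodule then 1 else 0) + (f : ℂ) * ((∑ ψ : Cfsg.IrrCharacter G, if h : (ψ : G → ℂ) ≠ (fun _ => 1) then N ψ h else 0 : ℕ) : ℂ) := by
    rw [← Representation.char_one K.toRepresentation]
    conv_lhs => rw [CfsgLib.CharTheory.eq_sum_irr (CfsgLib.CharTheory.isClassFunction_char (CfsgLib.CharTheory.isCharacter_character K.toRepresentation))]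
    simp only [Finset.sum_apply, Pi.smul_apply, smul_eq_mul]
    rw [← Finset.add_sum_erase _ _ (Finset.mem_univ (⟨_, h1⟩ : Cfsg.IrrCharacter G))]
    rw [← Finset.add_sum_erase _ (fun ψ : Cfsg.IrrCharacter G => if h : (ψ : G → ℂ) ≠ (fun _ => 1) then N ψ h else 0) (Finset.mem_univ (⟨_, h1⟩ : Cfsg.IrrCharacter G))]
    simp only [ne_eq, not_true_eq_false, dite_false, zero_add, Nat.cast_sum, Finset.mul_sum, mul_one, hdim]
    congr 1
    refine Finset.sum_congr rfl fun ψ hψ => ?_
    have hne : (ψ : G → ℂ) ≠ (fun _ => 1) := fun e => Finset.ne_of_mem_erase hψ (Subtype.ext e)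
    rw [dif_pos hne]
    exact hN ψ hne
  constructor
  · intro hmem; rw [if_pos hmem] at key; exact_mod_cast key
  · intro hmem; rw [if_neg hmem, zero_add] at key; exact_mod_cast key

/-- If a natural number `f` divides the degree of every non-principal irreducible constituent of the permutation character of a transitive group, then `f` divides every non-trivial subdegree. -/
theorem result {G : Type*} [Group G] [Fintype G] {Ω : Type*} [Fintype Ω] [MulAction G Ω] [MulAction.IsPretransitive G Ω] (f : ℕ) (hf : ∀ χ : G → ℂ, Cfsg.IsIrrCharacter G χ → χ ≠ (fun _ => 1) → Cfsg.classInner (fun g : G => (Nat.card (MulAction.fixedBy Ω g) : ℂ)) χ ≠ 0 → ∃ m : ℕ, χ 1 = (f : ℂ) * m) (a b : Ω) (hab : b ≠ a) : f ∣ Nat.card (MulAction.orbit (MulAction.stabilizer G a) b) := by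
  classical
  haveI : Nonempty Ω := ⟨a⟩
  let O : Ω → Ω → Prop := fun x y => ∃ g : G, g • a = x ∧ g • b = y
  let M : Matrix Ω Ω ℤ := fun x y => if O x y then 1 else 0
  let MC : Matrix Ω Ω ℂ := M.map (Int.castRingHom ℂ)
  let A : Module.End ℂ (Ω → ℂ) := Matrix.toLin' MC
  have hO : ∀ (k : G) x y, O (k • x) (k • y) ↔ O x y := fun k x y => by
    constructor
    · rintro ⟨g, h1, h2⟩; exact ⟨k⁻¹ * g, by rw [mul_smul, h1, inv_smul_smul], by rw [mul_smul, h2, inv_smul_smul]⟩
    · rintro ⟨g, h1, h2⟩; exact ⟨k * g, by rw [mul_smul, h1], by rw [mul_smul, h2]⟩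
  have hAapp : ∀ w x, A w x = ∑ y, if O x y then w y else 0 := fun w x => by
    simp only [A, Matrix.toLin'_apply, Matrix.mulVec, dotProduct]
    refine Finset.sum_congr rfl fun y _ => ?_
    show (Int.castRingHom ℂ) (if O x y then 1 else 0) * w y = _
    split <;> simp
  have hAg : ∀ g, A * Cfsg.permRep ℂ G Ω g = Cfsg.permRep ℂ G Ω g * A := fun g => LinearMap.ext fun w => funext fun x => by
    show A (Cfsg.permRep ℂ G Ω g w) x = A w (g⁻¹ • x)
    rw [hAapp, hAapp]
    refine Fintype.sum_equiv (MulAction.toPerm g⁻¹) _ _ fun y => ?_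
    exact if_congr (hO g⁻¹ x y).symm rfl rfl
  set d := Nat.card (MulAction.orbit (MulAction.stabilizer G a) b) with hd
  have hA1 : A (fun _ => 1) = (d : ℂ) • (fun _ => 1 : Ω → ℂ) := funext fun x => by
    rw [hAapp, Pi.smul_apply, smul_eq_mul, mul_one, Finset.sum_boole, Nat.cast_inj]
    obtain ⟨k, rfl⟩ := MulAction.exists_smul_eq G a x
    rw [hd, Nat.card_eq_fintype_card, ← Set.toFinset_card]
    conv_rhs => rw [← Finset.card_image_of_injective _ (MulAction.injective k)]
    congr 1
    ext y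
    simp only [Finset.mem_filter, Finset.mem_univ, true_and, Finset.mem_image, Set.mem_toFinset]
    constructor
    · rintro ⟨g, h1, h2⟩
      refine ⟨k⁻¹ • y, ⟨⟨k⁻¹ * g, by rw [MulAction.mem_stabilizer_iff, mul_smul, h1, inv_smul_smul]⟩, ?_⟩, smul_inv_smul k y⟩
      show (k⁻¹ * g) • b = k⁻¹ • y
      rw [mul_smul, h2]
    · rintro ⟨_, ⟨h, rfl⟩, rfl⟩
      exact ⟨k * h, by rw [mul_smul, MulAction.mem_stabilizer_iff.mp h.2], mul_smul _ _ _⟩
  have htr : LinearMap.trace ℂ (Ω → ℂ) A = 0 := by
    rw [Matrix.trace_toLin'_eq]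
    refine Finset.sum_eq_zero fun x _ => ?_
    show ((Int.castRingHom ℂ) (if O x x then 1 else 0)) = 0
    rw [if_neg, map_zero]
    rintro ⟨g, h1, h2⟩
    exact hab (smul_left_cancel g (h2.trans h1.symm))
  have hsub : ∀ μ : ℂ, ∃ N : ℕ, (A.charpoly.roots.count μ : ℂ) = (if μ = (d : ℂ) then 1 else 0) + (f : ℂ) * N := by
    intro μ
    rw [Polynomial.count_roots, ← LinearMap.finrank_maxGenEigenspace_eq]
    let K : Subrepresentation (Cfsg.permRep ℂ G Ω) := ⟨Module.End.maxGenEigenspace A μ, fun g w hw => by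
      rw [Module.End.mem_maxGenEigenspace] at hw ⊢
      obtain ⟨k, hk⟩ := hw
      refine ⟨k, ?_⟩
      have hc : Commute (A - μ • 1) (Cfsg.permRep ℂ G Ω g) := Commute.sub_left (hAg g) ((Commute.one_left _).smul_left μ)
      have := LinearMap.congr_fun (hc.pow_left k).eq w
      simp only [Module.End.mul_apply] at this
      rw [this, hk, map_zero]⟩
    obtain ⟨N, h1, h2⟩ := finrank_subrep f (by rw [CfsgLib.CharTheory.permRep_character]; exact hf) K
    refine ⟨N, ?_⟩
    have hpow : ∀ k : ℕ, ((A - μ • 1) ^ k) (fun _ => 1) = ((d : ℂ) - μ) ^ k • (fun _ => 1 : Ω → ℂ) := fun k => by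
      induction k with
      | zero => simp
      | succ k ih =>
        rw [pow_succ', Module.End.mul_apply, ih, map_smul, LinearMap.sub_apply, hA1, LinearMap.smul_apply, Module.End.one_apply, ← sub_smul, smul_smul, pow_succ]
    have hmem : (fun _ => 1 : Ω → ℂ) ∈ K.toSubmodule ↔ μ = (d : ℂ) := by
      show _ ∈ Module.End.maxGenEigenspace A μ ↔ _
      rw [Module.End.mem_maxGenEigenspace]
      constructor
      · rintro ⟨k, hk⟩
        rw [hpow, smul_eq_zero] at hk
        rcases hk with hk | hk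
        · exact (sub_eq_zero.mp (pow_eq_zero_iff'.mp hk).1).symm
        · exact absurd (congrFun hk a) one_ne_zero
      · intro e
        exact ⟨1, by rw [hpow, e, sub_self, pow_one, zero_smul]⟩
    split
    · rename_i e
      rw [h1 (hmem.mpr e)]; push_cast; ring
    · rename_i e
      rw [h2 (fun h => e (hmem.mp h))]; push_cast; ring
  have hint : ∀ μ ∈ A.charpoly.roots, IsIntegral ℤ μ := by
    intro μ hμ
    refine ⟨M.charpoly, M.charpoly_monic, ?_⟩
    have hAc : A.charpoly = M.charpoly.map (Int.castRingHom ℂ) := by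
      rw [← Matrix.charpoly_map, ← LinearMap.charpoly_toMatrix A (Pi.basisFun ℂ Ω)]
      congr 1
      rw [show A = Matrix.toLin' MC from rfl, ← Matrix.toLin_eq_toLin', LinearMap.toMatrix_toLin]
    rw [← Polynomial.eval_map, show algebraMap ℤ ℂ = Int.castRingHom ℂ from rfl, ← hAc]
    exact (Polynomial.mem_roots'.mp hμ).2
  rw [Module.End.trace_eq_sum_roots_charpoly_of_splits (IsAlgClosed.splits _), Finset.sum_multiset_count] at htr
  choose N hN using hsub
  have hd_root : (d : ℂ) ∈ A.charpoly.roots.toFinset := by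
    rw [Multiset.mem_toFinset, ← Multiset.count_ne_zero]
    intro h0
    have := hN (d : ℂ)
    rw [h0, if_pos rfl, Nat.cast_zero] at this
    have h' : ((1 + f * N (d : ℂ) : ℕ) : ℂ) = ((0 : ℕ) : ℂ) := by push_cast; exact this.symm
    exact absurd (Nat.cast_inj.mp h') (by omega)
  simp only [nsmul_eq_mul, hN, add_mul, ite_mul, one_mul, zero_mul, Finset.sum_add_distrib, Finset.sum_ite_eq', hd_root, if_true] at htr
  set X := ∑ μ ∈ A.charpoly.roots.toFinset, (N μ : ℂ) * μ with hX
  have hXint : IsIntegral ℤ X := IsIntegral.sum _ fun μ hμ => (show IsIntegral ℤ ((N μ : ℕ) : ℂ) by simpa using (isIntegral_algebraMap (R := ℤ) (A := ℂ) (x := (N μ : ℤ)))).mul (hint μ (Multiset.mem_toFinset.mp hμ))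
  have heq : (d : ℂ) = (f : ℂ) * (-X) := by
    simp only [mul_assoc, ← Finset.mul_sum] at htr
    rw [hX]; linear_combination htr
  rcases Nat.eq_zero_or_pos f with hf0 | hf0
  · rw [hf0, Nat.cast_zero, zero_mul, Nat.cast_eq_zero] at heq
    rw [hf0, heq]
  · have hrat : (((d : ℚ) / f : ℚ) : ℂ) = -X := by
      have hne : (f : ℂ) ≠ 0 := Nat.cast_ne_zero.mpr hf0.ne'
      push_cast
      rw [heq]; field_simp
    have hi : IsIntegral ℤ ((d : ℚ) / f) := by
      have h := hXint.neg
      rw [← hrat] at h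
      exact (isIntegral_algHom_iff (Rat.castHom ℂ).toIntAlgHom (Rat.cast_injective (α := ℂ))).mp h
    obtain ⟨z, hz⟩ := (IsIntegrallyClosed.isIntegral_iff).mp hi
    have : (d : ℤ) = (f : ℤ) * z := by
      have hne : (f : ℚ) ≠ 0 := Nat.cast_ne_zero.mpr hf0.ne'
      have hz' : (z : ℚ) * f = d := by rw [show (z : ℚ) = (d : ℚ) / f from hz]; field_simp
      have : ((f : ℤ) * z : ℚ) = ((d : ℤ) : ℚ) := by push_cast; linarith
      exact_mod_cast this.symm
    exact Int.natCast_dvd_natCast.mp ⟨z, this⟩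

end Cfsg.Agent.S0715
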