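import Cfsg.Statements.S0716
import Mathlib
import Cfsg.Agent.Lib.CharTheory.SelfPaired
import Cfsg.Agent.S0669
import Cfsg.Agent.S0715
-- import your own Cfsg.Agent.* helpers here

set_option autoImplicit false
open Cfsg

namespace Cfsg.Agent.S0716

universe u v

variable {G : Type u} [Group G] [Fintype G] {Ω : Type v} [Fintype Ω] [MulAction G Ω]

/-- The counting facts about the permutation character. -/
private theorem counts [MulAction.IsPretransitive G Ω] (a : Ω) :
    ∃ (m d : Cfsg.IrrCharacter G → ℕ) (one : Cfsg.IrrCharacter G),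
      (one : G → ℂ) = (fun _ => 1) ∧ m one = 1 ∧ d one = 1 ∧
      (∀ ψ : Cfsg.IrrCharacter G, Cfsg.classInner (fun g : G => (Nat.card (MulAction.fixedBy Ω g) : ℂ)) (ψ : G → ℂ) = (m ψ : ℂ)) ∧
      (∀ ψ : Cfsg.IrrCharacter G, (ψ : G → ℂ) 1 = (d ψ : ℂ)) ∧
      Fintype.card Ω = ∑ ψ, m ψ * d ψ ∧
      Nat.card (MulAction.orbitRel.Quotient (MulAction.stabilizer G a) Ω) = ∑ ψ, m ψ * m ψ := by
  classical
  set π : G → ℂ := fun g : G => (Nat.card (MulAction.fixedBy Ω g) : ℂ) with hπdef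
  have hπc : Cfsg.IsCharacter G π := by
    rw [hπdef, ← CfsgLib.CharTheory.permRep_character]
    exact CfsgLib.CharTheory.isCharacter_character _
  choose m hm using fun ψ : Cfsg.IrrCharacter G => CfsgLib.CharTheory.classInner_char_nat hπc (CfsgLib.CharTheory.isCharacter_of_irr ψ.2)
  choose d hd using fun ψ : Cfsg.IrrCharacter G => CfsgLib.CharTheory.char_one_eq_natCast (CfsgLib.CharTheory.isCharacter_of_irr ψ.2)
  let one : Cfsg.IrrCharacter G := ⟨_, CfsgLib.CharTheory.isIrrCharacter_one⟩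
  have hG : (Nat.card G : ℂ) ≠ 0 := Nat.cast_ne_zero.mpr Nat.card_pos.ne'
  haveI : Nonempty Ω := ⟨a⟩
  refine ⟨m, d, one, rfl, ?_, ?_, hm, hd, ?_, ?_⟩
  · have h := hm one
    have hb := MulAction.sum_card_fixedBy_eq_card_orbits_mul_card_group G Ω
    have h1 : Nat.card (Quotient (MulAction.orbitRel G Ω)) = 1 := by
      haveI : Subsingleton (Quotient (MulAction.orbitRel G Ω)) := ⟨fun x y => by
        induction x using Quotient.inductionOn' with | h x => ?_
        induction y using Quotient.inductionOn' with | h y => ?_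
        exact Quotient.sound' (MulAction.exists_smul_eq G y x)⟩
      haveI : Nonempty (Quotient (MulAction.orbitRel G Ω)) := ⟨Quotient.mk'' a⟩
      exact Nat.card_unique
    rw [Nat.card_eq_fintype_card] at h1
    rw [h1, one_mul] at hb
    simp only [Cfsg.classInner, one, map_one, mul_one, hπdef] at h
    rw [← Nat.cast_sum] at h
    simp only [Nat.card_eq_fintype_card] at h
    rw [hb, inv_mul_cancel₀ (by exact_mod_cast Fintype.card_ne_zero)] at h
    exact_mod_cast h.symm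
  · have := hd one
    simp only [one] at this
    exact_mod_cast this.symm
  · have h := congrFun (CfsgLib.CharTheory.eq_sum_irr (CfsgLib.CharTheory.isClassFunction_char hπc)) 1
    simp only [Finset.sum_apply, Pi.smul_apply, smul_eq_mul, hm, hd] at h
    simp only [hπdef, ← Nat.cast_mul, ← Nat.cast_sum, Nat.cast_inj] at h
    rw [← h, ← Nat.card_eq_fintype_card]
    exact (Nat.card_congr (Equiv.subtypeUnivEquiv fun x : Ω => (one_smul G x : (1 : G) • x = x))).symm
  · have h := CfsgLib.CharTheory.classInner_eq_sum_irr (b := π) (CfsgLib.CharTheory.isClassFunction_char hπc)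
    have hm' : ∀ ψ : Cfsg.IrrCharacter G, Cfsg.classInner (ψ : G → ℂ) π = (m ψ : ℂ) := fun ψ => by
      rw [← CfsgLib.CharTheory.classInner_comm π, hm, map_natCast]
    simp only [hm, hm', ← Nat.cast_mul, ← Nat.cast_sum] at h
    rw [← Cfsg.Agent.S0669.result (G := G) a]
    have hb := MulAction.sum_card_fixedBy_eq_card_orbits_mul_card_group G (Ω × Ω)
    have hfix : ∀ g : G, (Fintype.card (MulAction.fixedBy (Ω × Ω) g) : ℂ) = π g * starRingEnd ℂ (π g) := fun g => by
      simp only [hπdef, map_natCast, ← Nat.cast_mul, Nat.cast_inj]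
      rw [← Nat.card_prod, ← Nat.card_eq_fintype_card]
      exact Nat.card_congr
        { toFun := fun p => (⟨p.1.1, congrArg Prod.fst p.2⟩, ⟨p.1.2, congrArg Prod.snd p.2⟩)
          invFun := fun p => ⟨(p.1.1, p.2.1), Prod.ext p.1.2 p.2.2⟩
          left_inv := fun p => rfl
          right_inv := fun p => rfl }
    rw [Cfsg.classInner, ← Finset.sum_congr rfl fun g _ => hfix g, ← Nat.cast_sum, hb, Nat.cast_mul,
      ← Nat.card_eq_fintype_card, ← Nat.card_eq_fintype_card (α := G), mul_comm, mul_assoc, mul_inv_cancel₀ hG, mul_one] at h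
    exact_mod_cast h

/-- Equal degrees force multiplicity one and equal subdegrees. -/
private theorem equal_degrees [MulAction.IsPretransitive G Ω] (a : Ω) (f : ℕ)
    (hf : ∀ χ : G → ℂ, Cfsg.IsIrrCharacter G χ → χ ≠ (fun _ => 1) → Cfsg.classInner (fun g : G => (Nat.card (MulAction.fixedBy Ω g) : ℂ)) χ ≠ 0 → χ 1 = f) :
    (∀ χ : G → ℂ, Cfsg.IsIrrCharacter G χ → Cfsg.classInner (fun g : G => (Nat.card (MulAction.fixedBy Ω g) : ℂ)) χ = 0 ∨ Cfsg.classInner (fun g : G => (Nat.card (MulAction.fixedBy Ω g) : ℂ)) χ = 1) ∧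
      ∀ b : Ω, b ≠ a → Nat.card (MulAction.orbit (MulAction.stabilizer G a) b) = f := by
  classical
  obtain ⟨m, d, one, hone, hm1, hd1, hm, hd, hn, hr⟩ := counts (G := G) a
  set S := Finset.univ.erase one with hS
  have hdf : ∀ ψ ∈ S, m ψ * d ψ = f * m ψ := fun ψ hψ => by
    by_cases h0 : m ψ = 0
    · rw [h0, zero_mul, mul_zero]
    have := hf ψ ψ.2 (fun e => Finset.ne_of_mem_erase hψ (Subtype.ext (e.trans hone.symm))) (by rw [hm, Nat.cast_ne_zero]; exact h0)
    rw [hd, Nat.cast_inj] at this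
    rw [this, mul_comm]
  rw [← Finset.add_sum_erase _ _ (Finset.mem_univ one), hm1, hd1, one_mul, Finset.sum_congr rfl hdf, ← Finset.mul_sum] at hn
  rw [← Finset.add_sum_erase _ _ (Finset.mem_univ one), hm1, one_mul] at hr
  -- the suborbits
  haveI : Fintype (MulAction.orbitRel.Quotient (MulAction.stabilizer G a) Ω) := Fintype.ofFinite _
  let Q := MulAction.orbitRel.Quotient (MulAction.stabilizer G a) Ω
  let s : Q → ℕ := fun ω => Nat.card (MulAction.orbit (MulAction.stabilizer G a) ω.out)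
  have htot : Fintype.card Ω = ∑ ω : Q, s ω := by
    rw [← Nat.card_eq_fintype_card, Nat.card_congr (MulAction.selfEquivSigmaOrbits (MulAction.stabilizer G a) Ω), Nat.card_sigma]
  have hfa : ∀ x ∈ MulAction.orbit (MulAction.stabilizer G a) a, x = a := by rintro _ ⟨g, rfl⟩; exact g.2
  let ω₀ : Q := Quotient.mk'' a
  have hout : ω₀.out = a := hfa _ (Quotient.exact' (Quotient.out_eq' ω₀))
  have hne : ∀ ω ∈ Finset.univ.erase ω₀, ω.out ≠ a := fun ω hω e => Finset.ne_of_mem_erase hω (by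
    rw [← Quotient.out_eq' ω, e])
  have hs0 : s ω₀ = 1 := by
    show Nat.card (MulAction.orbit (MulAction.stabilizer G a) ω₀.out) = 1
    rw [hout]
    haveI : Unique (MulAction.orbit (MulAction.stabilizer G a) a) := ⟨⟨⟨a, MulAction.mem_orbit_self a⟩⟩, fun x => Subtype.ext (hfa x x.2)⟩
    exact Nat.card_unique
  have hge : ∀ ω ∈ Finset.univ.erase ω₀, f ≤ s ω := fun ω hω => by
    refine Nat.le_of_dvd ?_ (Cfsg.Agent.S0715.result f (fun χ hχ h1 h2 => ⟨1, by rw [hf χ hχ h1 h2, Nat.cast_one, mul_one]⟩) a ω.out (hne ω hω))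
    haveI : Nonempty (MulAction.orbit (MulAction.stabilizer G a) ω.out) := ⟨⟨_, MulAction.mem_orbit_self _⟩⟩
    exact Nat.card_pos
  rw [← Finset.add_sum_erase _ _ (Finset.mem_univ ω₀), hs0, hn] at htot
  have hcardQ : (Finset.univ.erase ω₀).card = ∑ ψ ∈ S, m ψ * m ψ := by
    rw [Finset.card_erase_of_mem (Finset.mem_univ _), Finset.card_univ, ← Nat.card_eq_fintype_card, hr, hS]
    omega
  have hlow : f * (∑ ψ ∈ S, m ψ * m ψ) ≤ ∑ ω ∈ Finset.univ.erase ω₀, s ω := by
    rw [← hcardQ, mul_comm, ← smul_eq_mul]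
    exact Finset.card_nsmul_le_sum _ _ _ hge
  have hle : ∀ ψ ∈ S, m ψ ≤ m ψ * m ψ := fun ψ _ => Nat.le_mul_self _
  have hsum_le := Finset.sum_le_sum hle
  constructor
  · intro χ hχ
    by_cases h : χ = fun _ => 1
    · right
      have := hm one
      rw [hone, hm1, Nat.cast_one] at this
      rw [h]; exact this
    have hmem : (⟨χ, hχ⟩ : Cfsg.IrrCharacter G) ∈ S := Finset.mem_erase.mpr ⟨fun e => h ((congrArg Subtype.val e).trans hone), Finset.mem_univ _⟩
    by_cases h0 : m ⟨χ, hχ⟩ = 0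
    · left; have := hm ⟨χ, hχ⟩; rwa [h0, Nat.cast_zero] at this
    right
    have hfpos : 0 < f := by
      obtain ⟨k, hk, e⟩ := CfsgLib.CharTheory.irr_degree_pos hχ
      have := hf χ hχ h (by rw [show Cfsg.classInner _ χ = _ from hm ⟨χ, hχ⟩, Nat.cast_ne_zero]; exact h0)
      rw [e, Nat.cast_inj] at this
      omega
    have heq : ∑ ψ ∈ S, m ψ = ∑ ψ ∈ S, m ψ * m ψ := by
      have : f * (∑ ψ ∈ S, m ψ * m ψ) ≤ f * ∑ ψ ∈ S, m ψ := by omega
      exact le_antisymm hsum_le (Nat.le_of_mul_le_mul_left this hfpos)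
    have := (Finset.sum_eq_sum_iff_of_le hle).mp heq _ hmem
    have h1 : m ⟨χ, hχ⟩ = 1 := by
      rcases Nat.lt_or_ge (m ⟨χ, hχ⟩) 2 with h' | h'
      · omega
      · nlinarith
    have h2 := hm ⟨χ, hχ⟩
    rwa [h1, Nat.cast_one] at h2
  · intro b hb
    have hsum : ∑ ω ∈ Finset.univ.erase ω₀, f = ∑ ω ∈ Finset.univ.erase ω₀, s ω := by
      refine le_antisymm (Finset.sum_le_sum hge) ?_
      rw [Finset.sum_const, smul_eq_mul, hcardQ, mul_comm]
      have := Nat.mul_le_mul_left f hsum_le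
      omega
    let ω : Q := Quotient.mk'' b
    have hω : ω ∈ Finset.univ.erase ω₀ := Finset.mem_erase.mpr ⟨fun e => hb (hfa b (Quotient.exact' e)), Finset.mem_univ _⟩
    have hfs : f = Nat.card (MulAction.orbit (MulAction.stabilizer G a) ω.out) := (Finset.sum_eq_sum_iff_of_le hge).mp hsum ω hω
    rw [hfs, MulAction.orbit_eq_iff.mpr (Quotient.exact' (Quotient.out_eq' ω))]

/-- (a) If all non-principal irreducible constituents of the permutation character of a transitive group have the same degree `f`, the character is multiplicity-free and all non-trivial subdegrees equal `f`. (b) A transitive group of rank at most 5 has multiplicity-free permutation character. -/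
theorem result {G : Type*} [Group G] [Fintype G] {Ω : Type*} [Fintype Ω] [MulAction G Ω] [MulAction.IsPretransitive G Ω] (a : Ω) : ((f : ℕ) → (∀ χ : G → ℂ, Cfsg.IsIrrCharacter G χ → χ ≠ (fun _ => 1) → Cfsg.classInner (fun g : G => (Nat.card (MulAction.fixedBy Ω g) : ℂ)) χ ≠ 0 → χ 1 = f) → (∀ χ : G → ℂ, Cfsg.IsIrrCharacter G χ → Cfsg.classInner (fun g : G => (Nat.card (MulAction.fixedBy Ω g) : ℂ)) χ = 0 ∨ Cfsg.classInner (fun g : G => (Nat.card (MulAction.fixedBy Ω g) : ℂ)) χ = 1) ∧ ∀ b : Ω, b ≠ a → Nat.card (MulAction.orbit (MulAction.stabilizer G a) b) = f) ∧ (Nat.card (MulAction.orbitRel.Quotient (MulAction.stabilizer G a) Ω) ≤ 5 → ∀ χ : G → ℂ, Cfsg.IsIrrCharacter G χ → Cfsg.classInner (fun g : G => (Nat.card (MulAction.fixedBy Ω g) : ℂ)) χ = 0 ∨ Cfsg.classInner (fun g : G => (Nat.card (MulAction.fixedBy Ω g) : ℂ)) χ = 1) := by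
  classical
  refine ⟨fun f hf => equal_degrees a f hf, fun hr5 χ hχ => ?_⟩
  obtain ⟨m, d, one, hone, hm1, hd1, hm, hd, hn, hr⟩ := counts (G := G) a
  by_contra hcon
  have h2 : 2 ≤ m ⟨χ, hχ⟩ := by
    rcases Nat.lt_or_ge (m ⟨χ, hχ⟩) 2 with h | h
    · exfalso
      refine hcon ?_
      have := hm ⟨χ, hχ⟩
      interval_cases hmv : m ⟨χ, hχ⟩
      · left; rw [Nat.cast_zero] at this; exact this
      · right; rw [Nat.cast_one] at this; exact this
    · exact h
  have hχ1 : (⟨χ, hχ⟩ : Cfsg.IrrCharacter G) ≠ one := fun e => by rw [e, hm1] at h2; omega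
  rw [← Finset.add_sum_erase _ _ (Finset.mem_univ one), hm1, one_mul] at hr
  have e1 := Finset.add_sum_erase (Finset.univ.erase one) (fun ψ => m ψ * m ψ) (a := ⟨χ, hχ⟩) (Finset.mem_erase.mpr ⟨hχ1, Finset.mem_univ _⟩)
  rw [← e1] at hr
  have h4 : 4 ≤ m ⟨χ, hχ⟩ * m ⟨χ, hχ⟩ := Nat.mul_le_mul h2 h2
  have hzero : ∀ ψ ∈ (Finset.univ.erase one).erase ⟨χ, hχ⟩, m ψ * m ψ = 0 := Finset.sum_eq_zero_iff.mp (by omega)
  have hdeg : ∀ ψ : G → ℂ, Cfsg.IsIrrCharacter G ψ → ψ ≠ (fun _ => 1) → Cfsg.classInner (fun g : G => (Nat.card (MulAction.fixedBy Ω g) : ℂ)) ψ ≠ 0 → ψ 1 = (d ⟨χ, hχ⟩ : ℂ) := by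
    intro ψ hψ hψ1 hne
    by_cases e : ψ = χ
    · rw [e]; exact hd ⟨χ, hχ⟩
    exfalso
    have := hzero ⟨ψ, hψ⟩ (Finset.mem_erase.mpr ⟨fun e' => e (congrArg Subtype.val e'), Finset.mem_erase.mpr ⟨fun e' => hψ1 ((congrArg Subtype.val e').trans hone), Finset.mem_univ _⟩⟩)
    refine hne ?_
    have h := hm ⟨ψ, hψ⟩
    rwa [mul_self_eq_zero.mp this, Nat.cast_zero] at h
  exact hcon ((equal_degrees a _ hdeg).1 χ hχ)

end Cfsg.Agent.S0716
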