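import Cfsg.Statements.S0717
import Mathlib
import Cfsg.Agent.Lib.CharTheory.SelfPaired
import Cfsg.Agent.Lib.CharTheory.FrobeniusSchur
-- import your own Cfsg.Agent.* helpers here

set_option autoImplicit false
open Cfsg

namespace Cfsg.Agent.S0717

open scoped ComplexConjugate
universe u v

variable {G : Type u} [Group G] [Fintype G] {Ω : Type v} [Fintype Ω] [MulAction G Ω]

private theorem dot_perm (g : G) (f h : Ω → ℂ) :
    ∑ x, Cfsg.permRep ℂ G Ω g f x * h x = ∑ x, f x * Cfsg.permRep ℂ G Ω g⁻¹ h x := by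
  refine Fintype.sum_equiv (MulAction.toPerm g⁻¹) _ _ fun x => ?_
  show f (g⁻¹ • x) * h x = f (g⁻¹ • x) * h ((g⁻¹)⁻¹ • g⁻¹ • x)
  rw [inv_inv, smul_inv_smul]

/-- Generous transitivity makes equivariant maps symmetric, hence commuting. -/
private theorem commute_of_generous (h : ∀ a b : Ω, ∃ g : G, g • a = b ∧ g • b = a) (S T : Module.End ℂ (Ω → ℂ))
    (hS : ∀ g, S * Cfsg.permRep ℂ G Ω g = Cfsg.permRep ℂ G Ω g * S)
    (hT : ∀ g, T * Cfsg.permRep ℂ G Ω g = Cfsg.permRep ℂ G Ω g * T) : S * T = T * S := by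
  classical
  have hsymm : ∀ R : Module.End ℂ (Ω → ℂ), (∀ g, R * Cfsg.permRep ℂ G Ω g = Cfsg.permRep ℂ G Ω g * R) →
      ∀ x y, R (Pi.single y 1) x = R (Pi.single x 1) y := by
    intro R hR x y
    obtain ⟨g, hgx, hgy⟩ := h x y
    have e : Cfsg.permRep ℂ G Ω g (Pi.single x 1) = Pi.single y 1 := funext fun z => by
      show (Pi.single x (1 : ℂ) : Ω → ℂ) (g⁻¹ • z) = _
      rw [Pi.single_apply, Pi.single_apply]
      exact if_congr ⟨fun e => by rw [← hgx, ← e, smul_inv_smul], fun e => by rw [e, ← hgx, inv_smul_smul]⟩ rfl rfl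
    have := congrFun (LinearMap.congr_fun (hR g) (Pi.single x 1)) x
    change R (Cfsg.permRep ℂ G Ω g (Pi.single x 1)) x = R (Pi.single x 1) (g⁻¹ • x) at this
    rw [e] at this
    rw [this, show g⁻¹ • x = y by rw [inv_smul_eq_iff, hgy]]
  have happ : ∀ (R : Module.End ℂ (Ω → ℂ)) (f : Ω → ℂ) x, R f x = ∑ z, f z * R (Pi.single z 1) x := fun R f x => by
    conv_lhs => rw [show f = ∑ z, f z • (Pi.single z (1 : ℂ) : Ω → ℂ) from funext fun w => by simp [Finset.sum_apply, Pi.single_apply]]
    simp [map_sum, Finset.sum_apply]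
  refine LinearMap.pi_ext' fun y => LinearMap.ext_ring (funext fun x => ?_)
  have hcomm : ∀ g, (S * T) * Cfsg.permRep ℂ G Ω g = Cfsg.permRep ℂ G Ω g * (S * T) := fun g => by
    rw [mul_assoc, hT, ← mul_assoc, hS, mul_assoc]
  show (S * T) (Pi.single y 1) x = (T * S) (Pi.single y 1) x
  rw [hsymm _ hcomm x y, Module.End.mul_apply, Module.End.mul_apply, happ S (T _), happ T (S _)]
  refine Finset.sum_congr rfl fun z _ => ?_
  rw [hsymm T hT z x, hsymm S hS y z]
  ring

private theorem sum_fix_sq : ∑ g : G, (Nat.card (MulAction.fixedBy Ω g)) ^ 2 = ∑ p : Ω × Ω, Nat.card {g : G // g • p.1 = p.1 ∧ g • p.2 = p.2} := by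
  classical
  simp only [Nat.card_eq_fintype_card, Fintype.card_subtype, Finset.card_filter]
  rw [Finset.sum_comm]
  refine Finset.sum_congr rfl fun g _ => ?_
  rw [← Finset.card_filter, ← Finset.card_filter, sq, ← Finset.card_product]
  congr 1
  ext ⟨a, b⟩
  simp [MulAction.mem_fixedBy]

private theorem sum_fix_mul_self : ∑ g : G, Nat.card (MulAction.fixedBy Ω (g * g)) = ∑ p : Ω × Ω, Nat.card {g : G // g • p.1 = p.2 ∧ g • p.2 = p.1} := by
  classical
  simp only [Nat.card_eq_fintype_card, Fintype.card_subtype, Finset.card_filter]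
  conv_rhs => rw [Finset.sum_comm]
  refine Finset.sum_congr rfl fun g _ => ?_
  rw [← Finset.card_filter, ← Finset.card_filter]
  refine Finset.card_bij' (fun a _ => (a, g • a)) (fun p _ => p.1) ?_ ?_ ?_ ?_
  · intro a ha; simpa [MulAction.mem_fixedBy, mul_smul] using ha
  · intro p hp
    simp only [Finset.mem_filter, Finset.mem_univ, true_and] at hp
    simp [MulAction.mem_fixedBy, mul_smul, hp.1, hp.2]
  · intro a _; rfl
  · intro p hp
    simp only [Finset.mem_filter, Finset.mem_univ, true_and] at hp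
    exact Prod.ext rfl hp.1

/-- All suborbits of a transitive group are self-paired (every pair of points is interchanged by some group element) if and only if the permutation character is multiplicity-free and each of its irreducible constituents is real-valued. -/
theorem result {G : Type*} [Group G] [Fintype G] {Ω : Type*} [Fintype Ω] [MulAction G Ω] [MulAction.IsPretransitive G Ω] : (∀ a b : Ω, ∃ g : G, g • a = b ∧ g • b = a) ↔ ∀ χ : G → ℂ, Cfsg.IsIrrCharacter G χ → Cfsg.classInner (fun g : G => (Nat.card (MulAction.fixedBy Ω g) : ℂ)) χ ≠ 0 → Cfsg.classInner (fun g : G => (Nat.card (MulAction.fixedBy Ω g) : ℂ)) χ = 1 ∧ ∀ g : G, (starRingEnd ℂ) (χ g) = χ g := by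
  classical
  set π : G → ℂ := fun g : G => (Nat.card (MulAction.fixedBy Ω g) : ℂ) with hπ
  have hchar : (Cfsg.permRep ℂ G Ω).character = π := CfsgLib.CharTheory.permRep_character
  constructor
  · intro hgen χ hχ hne
    have hmf : ∀ ψ : G → ℂ, Cfsg.IsIrrCharacter G ψ → Cfsg.classInner π ψ = 0 ∨ Cfsg.classInner π ψ = 1 := fun ψ hψ => by
      have := CfsgLib.CharTheory.multFree_of_commute (Cfsg.permRep ℂ G Ω) (fun S T hS hT => commute_of_generous hgen S T hS hT) ψ hψ
      rwa [hchar] at this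
    refine ⟨(hmf χ hχ).resolve_left hne, ?_⟩
    -- all indicators of constituents are one
    have hswap : ∀ p : Ω × Ω, Nat.card {g : G // g • p.1 = p.2 ∧ g • p.2 = p.1} = Nat.card {g : G // g • p.1 = p.1 ∧ g • p.2 = p.2} := by
      intro p
      obtain ⟨t, ht1, ht2⟩ := hgen p.1 p.2
      refine Nat.card_congr ((Equiv.mulLeft t).subtypeEquiv fun g => ?_)
      simp only [Equiv.coe_mulLeft, mul_smul]
      constructor
      · rintro ⟨h1, h2⟩; exact ⟨by rw [h1, ht2], by rw [h2, ht1]⟩
      · rintro ⟨h1, h2⟩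
        exact ⟨smul_left_cancel t (h1.trans ht2.symm), smul_left_cancel t (h2.trans ht1.symm)⟩
    have hcount : ∑ g : G, π (g * g) = ∑ g : G, π g * conj (π g) := by
      have h := (sum_fix_mul_self (G := G) (Ω := Ω)).trans ((Finset.sum_congr rfl fun p _ => hswap p).trans sum_fix_sq.symm)
      simp only [hπ, map_natCast, ← Nat.cast_mul, ← pow_two]
      simp only [pow_two] at h ⊢
      exact_mod_cast h
    have hexp : π = ∑ ψ : Cfsg.IrrCharacter G, Cfsg.classInner π ψ • (ψ : G → ℂ) :=
      CfsgLib.CharTheory.eq_sum_irr (hchar ▸ CfsgLib.CharTheory.isClassFunction_char (CfsgLib.CharTheory.isCharacter_character _))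
    have hrhs : ∑ g : G, π g * conj (π g) = ∑ ψ : Cfsg.IrrCharacter G, Cfsg.classInner π ψ * (Nat.card G : ℂ) := by
      have h := CfsgLib.CharTheory.classInner_eq_sum_irr (a := π) (b := π) (hchar ▸ CfsgLib.CharTheory.isClassFunction_char (CfsgLib.CharTheory.isCharacter_character _))
      have h2 : Cfsg.classInner π π = ∑ ψ : Cfsg.IrrCharacter G, Cfsg.classInner π ψ := by
        rw [h]
        refine Finset.sum_congr rfl fun ψ _ => ?_
        rw [← CfsgLib.CharTheory.classInner_comm π]
        rcases hmf ψ ψ.2 with e | e <;> rw [e] <;> simp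
      rw [← Finset.sum_mul, ← h2]
      simp only [Cfsg.classInner]
      rw [mul_comm ((Nat.card G : ℂ)⁻¹), mul_assoc, inv_mul_cancel₀ (Nat.cast_ne_zero.mpr Nat.card_pos.ne'), mul_one]
    have hlhs : ∑ g : G, π (g * g) = ∑ ψ : Cfsg.IrrCharacter G, Cfsg.classInner π ψ * ∑ g : G, (ψ : G → ℂ) (g * g) := by
      conv_lhs => rw [hexp]
      simp only [Finset.sum_apply, Pi.smul_apply, smul_eq_mul]
      rw [Finset.sum_comm]
      simp only [Finset.mul_sum]
    rw [hlhs, hrhs] at hcount
    have hfs : ∀ ψ : Cfsg.IrrCharacter G, (∑ g : G, (ψ : G → ℂ) (g * g)).re ≤ (Nat.card G : ℝ) ∧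
        (∑ g : G, (ψ : G → ℂ) (g * g) = (Nat.card G : ℂ) → ∑ g : G, (ψ : G → ℂ) g * (ψ : G → ℂ) g = (Nat.card G : ℂ)) := by
      intro ψ
      obtain ⟨n, ρ, hρ, e⟩ := ψ.2
      haveI := hρ
      rw [← e]
      have hpos : (0 : ℝ) < Nat.card G := Nat.cast_pos.mpr Nat.card_pos
      rcases CfsgLib.CharTheory.frobenius_schur ρ with ⟨-, h2⟩ | ⟨ε, hε, h1, h2, -⟩
      · rw [h2]
        refine ⟨by simp, fun h => absurd h.symm (Nat.cast_ne_zero.mpr Nat.card_pos.ne')⟩
      · refine ⟨?_, fun _ => h1⟩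
        rw [h2]
        rcases hε with rfl | rfl <;> simp <;> linarith
    have hre := congrArg Complex.re hcount
    rw [Complex.re_sum, Complex.re_sum] at hre
    have hle : ∀ ψ ∈ (Finset.univ : Finset (Cfsg.IrrCharacter G)),
        (Cfsg.classInner π ψ * ∑ g : G, (ψ : G → ℂ) (g * g)).re ≤ (Cfsg.classInner π ψ * (Nat.card G : ℂ)).re := by
      intro ψ _
      rcases hmf ψ ψ.2 with e | e <;> rw [e]
      · simp
      · simpa using (hfs ψ).1
    have heq := (Finset.sum_eq_sum_iff_of_le hle).mp hre ⟨χ, hχ⟩ (Finset.mem_univ _)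
    rw [show Cfsg.classInner π (⟨χ, hχ⟩ : Cfsg.IrrCharacter G) = 1 from (hmf χ hχ).resolve_left hne, one_mul, one_mul] at heq
    have hsq : ∑ g : G, χ g * χ g = (Nat.card G : ℂ) := by
      obtain ⟨n, ρ, hρ, e⟩ := id hχ
      haveI := hρ
      rcases CfsgLib.CharTheory.frobenius_schur ρ with ⟨-, h2⟩ | ⟨ε, hε, h1, -, -⟩
      · exfalso
        rw [show ∑ g : G, ((⟨χ, hχ⟩ : Cfsg.IrrCharacter G) : G → ℂ) (g * g) = 0 by
          show ∑ g : G, χ (g * g) = 0
          rw [← e]; exact h2] at heq
        simp only [Complex.zero_re, Complex.natCast_re] at heq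
        exact Nat.card_pos.ne' (Nat.cast_eq_zero.mp heq.symm)
      · rw [← e]; exact h1
    have hnorm := CfsgLib.CharTheory.classInner_irr_self hχ
    simp only [Cfsg.classInner] at hnorm
    rw [inv_mul_eq_one₀ (Nat.cast_ne_zero.mpr Nat.card_pos.ne')] at hnorm
    have hzero : ∑ g : G, Complex.normSq (χ g - conj (χ g)) = 0 := by
      have : ((∑ g : G, Complex.normSq (χ g - conj (χ g)) : ℝ) : ℂ) = 0 := by
        push_cast
        have hterm : ∀ g : G, ((Complex.normSq (χ g - conj (χ g)) : ℝ) : ℂ) = 2 * (χ g * conj (χ g)) - χ g * χ g - conj (χ g * χ g) := fun g => by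
          rw [← Complex.mul_conj, map_sub, map_mul, Complex.conj_conj]; ring
        simp only [hterm, Finset.sum_sub_distrib, ← Finset.mul_sum, ← map_sum, ← hnorm, hsq, map_natCast]
        ring
      exact_mod_cast this
    intro g
    have := (Finset.sum_eq_zero_iff_of_nonneg fun x _ => Complex.normSq_nonneg _).mp hzero g (Finset.mem_univ g)
    rw [Complex.normSq_eq_zero, sub_eq_zero] at this
    exact this.symm
  · intro h a b
    have hmf : ∀ ψ : G → ℂ, Cfsg.IsIrrCharacter G ψ →
        Cfsg.classInner (Cfsg.permRep ℂ G Ω).character ψ = 0 ∨ Cfsg.classInner (Cfsg.permRep ℂ G Ω).character ψ = 1 := fun ψ hψ => by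
      rw [hchar]
      exact or_iff_not_imp_left.mpr fun hne => (h ψ hψ hne).1
    let β : (Ω → ℂ) → (Ω → ℂ) → ℂ := fun f k => ∑ x, f x * k x
    let O : Ω → Ω → Prop := fun x y => ∃ g : G, g • a = x ∧ g • b = y
    let S : Module.End ℂ (Ω → ℂ) :=
      { toFun := fun f x => ∑ y, if O x y then f y else 0
        map_add' := fun f k => funext fun x => by simp only [Pi.add_apply, ← Finset.sum_add_distrib]; exact Finset.sum_congr rfl fun y _ => by split <;> simp
        map_smul' := fun c f => funext fun x => by simp [Finset.mul_sum] }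
    let S' : Module.End ℂ (Ω → ℂ) :=
      { toFun := fun f x => ∑ y, if O y x then f y else 0
        map_add' := fun f k => funext fun x => by simp only [Pi.add_apply, ← Finset.sum_add_distrib]; exact Finset.sum_congr rfl fun y _ => by split <;> simp
        map_smul' := fun c f => funext fun x => by simp [Finset.mul_sum] }
    have hO : ∀ (k : G) x y, O (k • x) (k • y) ↔ O x y := fun k x y => by
      constructor
      · rintro ⟨g, h1, h2⟩; exact ⟨k⁻¹ * g, by rw [mul_smul, h1, inv_smul_smul], by rw [mul_smul, h2, inv_smul_smul]⟩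
      · rintro ⟨g, h1, h2⟩; exact ⟨k * g, by rw [mul_smul, h1], by rw [mul_smul, h2]⟩
    have hSg : ∀ g, S * Cfsg.permRep ℂ G Ω g = Cfsg.permRep ℂ G Ω g * S := fun g => LinearMap.ext fun f => funext fun x => by
      show ∑ y, (if O x y then f (g⁻¹ • y) else 0) = ∑ y, if O (g⁻¹ • x) y then f y else 0
      refine Fintype.sum_equiv (MulAction.toPerm g⁻¹) _ _ fun y => ?_
      exact if_congr (hO g⁻¹ x y).symm rfl rfl
    have hS'g : ∀ g, S' * Cfsg.permRep ℂ G Ω g = Cfsg.permRep ℂ G Ω g * S' := fun g => LinearMap.ext fun f => funext fun x => by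
      show ∑ y, (if O y x then f (g⁻¹ • y) else 0) = ∑ y, if O y (g⁻¹ • x) then f y else 0
      refine Fintype.sum_equiv (MulAction.toPerm g⁻¹) _ _ fun y => ?_
      exact if_congr (hO g⁻¹ y x).symm rfl rfl
    have hadj : ∀ f k, β (S f) k = β f (S' k) := fun f k => by
      show ∑ x, (∑ y, if O x y then f y else 0) * k x = ∑ x, f x * ∑ y, if O y x then k y else 0
      simp only [Finset.sum_mul, Finset.mul_sum, ite_mul, mul_ite, zero_mul, mul_zero]
      exact Finset.sum_comm
    have hβc : ∀ f k, β f k = β k f := fun f k => Finset.sum_congr rfl fun x _ => mul_comm _ _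
    set D := S - S' with hD
    have hDg : ∀ g, D * Cfsg.permRep ℂ G Ω g = Cfsg.permRep ℂ G Ω g * D := fun g => by rw [hD, sub_mul, mul_sub, hSg, hS'g]
    have hDanti : ∀ f k, β (D f) k = - β f (D k) := fun f k => by
      have e1 := hadj f k
      have e2 := hadj k f
      rw [hβc (S k) f, hβc k (S' f)] at e2
      simp only [β, hD, LinearMap.sub_apply, Pi.sub_apply, sub_mul, mul_sub, Finset.sum_sub_distrib] at e1 e2 ⊢
      rw [e1, ← e2]; ring
    have hDzero : D = 0 := by
      rw [← mul_one D, ← CfsgLib.CharTheory.sum_isoProj (Cfsg.permRep ℂ G Ω), Finset.mul_sum]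
      refine Finset.sum_eq_zero fun ψ _ => ?_
      by_cases hz : Cfsg.classInner (Cfsg.permRep ℂ G Ω).character (ψ : G → ℂ) = 0
      · rw [CfsgLib.CharTheory.isoProj_eq_zero _ ψ.2 hz, mul_zero]
      have hreal : ∀ g, conj ((ψ : G → ℂ) g) = (ψ : G → ℂ) g := (h ψ ψ.2 (hchar ▸ hz)).2
      set E := CfsgLib.CharTheory.isoProj (Cfsg.permRep ℂ G Ω) (ψ : G → ℂ) with hE
      have hEsymm : ∀ f k, β (E f) k = β f (E k) := fun f k => by
        simp only [β, hE, CfsgLib.CharTheory.isoProj, LinearMap.sum_apply, LinearMap.smul_apply, Finset.sum_apply, Pi.smul_apply, smul_eq_mul, Finset.sum_mul, Finset.mul_sum]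
        rw [Finset.sum_comm]
        conv_rhs => rw [Finset.sum_comm]
        refine Fintype.sum_equiv (Equiv.inv G) _ _ fun g => ?_
        show _ = ∑ x, f x * ((ψ : G → ℂ) 1 / (Nat.card G : ℂ) * conj ((ψ : G → ℂ) g⁻¹) * Cfsg.permRep ℂ G Ω g⁻¹ k x)
        rw [CfsgLib.CharTheory.char_apply_inv (CfsgLib.CharTheory.isCharacter_of_irr ψ.2), Complex.conj_conj, hreal]
        rw [Finset.sum_congr rfl fun x _ => mul_assoc _ (Cfsg.permRep ℂ G Ω g f x) (k x), ← Finset.mul_sum, dot_perm, Finset.mul_sum]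
        exact Finset.sum_congr rfl fun x _ => by ring
      obtain ⟨c, hc⟩ := CfsgLib.CharTheory.exists_scalar_isoProj _ hmf D hDg ψ.2
      have hDE : E * D = D * E := by
        rw [hE]
        simp only [CfsgLib.CharTheory.isoProj, Finset.sum_mul, Finset.mul_sum, smul_mul_assoc, mul_smul_comm, hDg]
      have hzero' : ∀ f k, β (D (E f)) k = 0 := fun f k => by
        have e1 : β (D (E f)) k = c * β (E f) k := by
          rw [show D (E f) = c • E f from LinearMap.congr_fun hc f]
          simp [β, Finset.mul_sum, mul_assoc]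
        have e2 : β (D (E f)) k = - (c * β (E f) k) := by
          rw [hDanti, hEsymm, hEsymm f k, show E (D k) = c • E k from (LinearMap.congr_fun hDE k).trans (LinearMap.congr_fun hc k)]
          simp [β, Finset.mul_sum, mul_left_comm]
        linear_combination (1 / 2 : ℂ) * e1 + (1 / 2 : ℂ) * e2
      refine LinearMap.ext fun f => funext fun x => ?_
      have := hzero' f (Pi.single x 1)
      simp only [β, Pi.single_apply, mul_ite, mul_one, mul_zero, Finset.sum_ite_eq', Finset.mem_univ, if_true] at this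
      simpa using this
    have h1 := congrFun (LinearMap.congr_fun hDzero (Pi.single b 1)) a
    rw [hD, LinearMap.sub_apply, Pi.sub_apply, LinearMap.zero_apply, Pi.zero_apply, sub_eq_zero] at h1
    change (∑ y, if O a y then (Pi.single b (1 : ℂ) : Ω → ℂ) y else 0) = ∑ y, if O y a then (Pi.single b (1 : ℂ) : Ω → ℂ) y else 0 at h1
    rw [Finset.sum_eq_single b (fun y _ hy => by simp [Pi.single_eq_of_ne hy]) (by simp),
      Finset.sum_eq_single b (fun y _ hy => by simp [Pi.single_eq_of_ne hy]) (by simp),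
      if_pos (show O a b from ⟨1, one_smul _ _, one_smul _ _⟩), Pi.single_eq_same] at h1
    by_cases hba : O b a
    · exact hba
    · rw [if_neg hba] at h1; exact absurd h1 one_ne_zero

end Cfsg.Agent.S0717
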