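import Cfsg.Statements.S0718
import Mathlib
import Cfsg.Agent.Lib.CharTheory.MultFree
-- import your own Cfsg.Agent.* helpers here

set_option autoImplicit false
open Cfsg

namespace Cfsg.Agent.S0718

/-- Multiplicity-freeness of the permutation character is equivalent to commutativity of the centraliser ring, i.e. of the algebra of `G`-equivariant endomorphisms of the complex permutation module. -/
theorem result {G : Type*} [Group G] [Fintype G] {Ω : Type*} [Fintype Ω] [MulAction G Ω] : (∀ χ : G → ℂ, Cfsg.IsIrrCharacter G χ → Cfsg.classInner (fun g : G => (Nat.card (MulAction.fixedBy Ω g) : ℂ)) χ = 0 ∨ Cfsg.classInner (fun g : G => (Nat.card (MulAction.fixedBy Ω g) : ℂ)) χ = 1) ↔ ∀ S T : (Ω → ℂ) →ₗ[ℂ] (Ω → ℂ), S ∈ ((Cfsg.permRep ℂ G Ω).linHom (Cfsg.permRep ℂ G Ω)).invariants → T ∈ ((Cfsg.permRep ℂ G Ω).linHom (Cfsg.permRep ℂ G Ω)).invariants → S ∘ₗ T = T ∘ₗ S := by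
  classical
  have hinv : ∀ S : (Ω → ℂ) →ₗ[ℂ] (Ω → ℂ), S ∈ ((Cfsg.permRep ℂ G Ω).linHom (Cfsg.permRep ℂ G Ω)).invariants ↔
      ∀ g, S * Cfsg.permRep ℂ G Ω g = Cfsg.permRep ℂ G Ω g * S := by
    intro S
    constructor
    · intro h g
      refine LinearMap.ext fun x => ?_
      have := LinearMap.congr_fun (h g) (Cfsg.permRep ℂ G Ω g x)
      simp only [Representation.linHom_apply, LinearMap.comp_apply, Representation.inv_self_apply] at this
      exact this.symm
    · intro h g
      refine LinearMap.ext fun x => ?_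
      simp only [Representation.linHom_apply, LinearMap.comp_apply]
      rw [show Cfsg.permRep ℂ G Ω g (S (Cfsg.permRep ℂ G Ω g⁻¹ x)) = S (Cfsg.permRep ℂ G Ω g (Cfsg.permRep ℂ G Ω g⁻¹ x)) from
        (LinearMap.congr_fun (h g) _).symm, Representation.self_inv_apply]
  simp only [← CfsgLib.CharTheory.permRep_character]
  refine ⟨fun h S T hS hT => CfsgLib.CharTheory.commute_of_multFree _ h S T ((hinv S).mp hS) ((hinv T).mp hT),
    fun h χ hχ => CfsgLib.CharTheory.multFree_of_commute _ (fun S T hS hT => h S T ((hinv S).mpr hS) ((hinv T).mpr hT)) χ hχ⟩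

end Cfsg.Agent.S0718
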