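import Cfsg.Statements.S0719
import Mathlib
import Cfsg.Agent.Lib.CharTheory.SelfPaired
-- import your own Cfsg.Agent.* helpers here

set_option autoImplicit false
open Cfsg

namespace Cfsg.Agent.S0719

open scoped ComplexConjugate

set_option maxHeartbeats 1600000

/-- Groups of Wielandt type: if a primitive group of degree `2m` has rank 3 and permutation character `1 + χ₁ + χ₂` with irreducible `χ₁, χ₂` of degrees `m - 1` and `m`, then `m = 2a² + 2a + 1` for some positive integer `a` and the two non-trivial subdegrees are `a(2a+1)` and `(a+1)(2a+1)`. -/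
theorem result {G : Type*} [Group G] [Fintype G] {Ω : Type*} [Fintype Ω] [MulAction G Ω] (hprim : MulAction.IsPreprimitive G Ω) {m : ℕ} (hm : Fintype.card Ω = 2 * m) (a₀ : Ω) (hrank : Nat.card (MulAction.orbitRel.Quotient (MulAction.stabilizer G a₀) Ω) = 3) (χ₁ χ₂ : G → ℂ) (h₁ : Cfsg.IsIrrCharacter G χ₁) (h₂ : Cfsg.IsIrrCharacter G χ₂) (hπ : (fun g : G => (Nat.card (MulAction.fixedBy Ω g) : ℂ)) = fun g => 1 + χ₁ g + χ₂ g) (hd₁ : χ₁ 1 = (m : ℂ) - 1) (hd₂ : χ₂ 1 = m) : ∃ a : ℕ, 0 < a ∧ m = 2 * a ^ 2 + 2 * a + 1 ∧ ∀ b : Ω, b ≠ a₀ → Nat.card (MulAction.orbit (MulAction.stabilizer G a₀) b) = a * (2 * a + 1) ∨ Nat.card (MulAction.orbit (MulAction.stabilizer G a₀) b) = (a + 1) * (2 * a + 1) := by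
  classical
  haveI := hprim
  haveI : MulAction.IsPretransitive G Ω := hprim.toIsPretransitive
  obtain ⟨nn, hn0, hnn⟩ : ∃ nn : ℕ, 0 < nn ∧ Fintype.card Ω = nn := ⟨_, Fintype.card_pos_iff.2 ⟨a₀⟩, rfl⟩
  have hm0 : 0 < m := by omega
  set ρ := Cfsg.permRep ℂ G Ω with hρ
  have hπ' : ρ.character = fun g => 1 + χ₁ g + χ₂ g := by rw [hρ, CfsgLib.CharTheory.permRep_character, hπ]
  have h0irr := CfsgLib.CharTheory.isIrrCharacter_one (G := G)
  -- the constituents
  obtain ⟨d₁, hd1p, hd1e⟩ := CfsgLib.CharTheory.irr_degree_pos h₁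
  have hm2 : 2 ≤ m := by
    have e : (m : ℂ) = ((d₁ + 1 : ℕ) : ℂ) := by rw [Nat.cast_add, Nat.cast_one]; linear_combination hd1e - hd₁
    have := Nat.cast_injective e
    omega
  have h20 : χ₂ ≠ fun _ => 1 := fun e => by
    have := congrFun e 1
    rw [hd₂] at this
    have : m = 1 := by exact_mod_cast this
    omega
  have h12 : χ₁ ≠ χ₂ := fun e => by
    have := congrFun e 1
    rw [hd₁, hd₂, sub_eq_self] at this
    exact one_ne_zero this
  have hinner : ∀ ψ, Cfsg.IsIrrCharacter G ψ → Cfsg.classInner ρ.character ψ =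
      (if (fun _ => (1 : ℂ)) = ψ then 1 else 0) + (if χ₁ = ψ then 1 else 0) + (if χ₂ = ψ then 1 else 0) := fun ψ hψ => by
    rw [hπ', show (fun g => 1 + χ₁ g + χ₂ g) = ((fun _ : G => (1 : ℂ)) + χ₁) + χ₂ from rfl,
      CfsgLib.CharTheory.classInner_add_left, CfsgLib.CharTheory.classInner_add_left,
      CfsgLib.CharTheory.classInner_irr h0irr hψ, CfsgLib.CharTheory.classInner_irr h₁ hψ, CfsgLib.CharTheory.classInner_irr h₂ hψ]
  have htriv : Cfsg.classInner ρ.character (fun _ => 1) = 1 := by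
    rw [hρ, CfsgLib.CharTheory.permRep_character]
    simp only [Cfsg.classInner, map_one, mul_one]
    haveI : Fintype (MulAction.orbitRel.Quotient G Ω) := Fintype.ofFinite _
    have h := MulAction.sum_card_fixedBy_eq_card_orbits_mul_card_group G Ω
    haveI : Subsingleton (MulAction.orbitRel.Quotient G Ω) :=
      (MulAction.pretransitive_iff_subsingleton_quotient G Ω).1 inferInstance
    haveI : Nonempty (MulAction.orbitRel.Quotient G Ω) := ⟨Quotient.mk'' a₀⟩
    rw [Fintype.card_eq_one_iff_nonempty_unique.2 ⟨uniqueOfSubsingleton (Quotient.mk'' a₀)⟩, one_mul] at h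
    simp only [Nat.card_eq_fintype_card]
    rw [← Nat.cast_sum, h, inv_mul_cancel₀ (Nat.cast_ne_zero.2 Fintype.card_ne_zero)]
  have h10 : χ₁ ≠ fun _ => 1 := fun e => by
    rw [hinner _ h0irr, if_pos rfl, if_pos e, if_neg h20] at htriv
    norm_num at htriv
  have hmf : ∀ ψ, Cfsg.IsIrrCharacter G ψ → Cfsg.classInner ρ.character ψ = 0 ∨ Cfsg.classInner ρ.character ψ = 1 := fun ψ hψ => by
    rw [hinner ψ hψ]
    rcases eq_or_ne (fun _ => (1 : ℂ)) ψ with rfl | h
    · right; simp [h10, h20]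
    rcases eq_or_ne χ₁ ψ with rfl | h'
    · right; simp [h, h12.symm]
    rcases eq_or_ne χ₂ ψ with rfl | h''
    · right; simp [h, h']
    · left; simp [h, h', h'']
  -- the projections
  set E₀ := CfsgLib.CharTheory.isoProj ρ (fun _ => 1) with hE₀
  set E₁ := CfsgLib.CharTheory.isoProj ρ χ₁ with hE₁
  set E₂ := CfsgLib.CharTheory.isoProj ρ χ₂ with hE₂
  have hsum : E₀ + E₁ + E₂ = 1 := by
    rw [← CfsgLib.CharTheory.sum_isoProj ρ,
      ← Finset.sum_subset (Finset.subset_univ ({⟨_, h0irr⟩, ⟨χ₁, h₁⟩, ⟨χ₂, h₂⟩} : Finset (Cfsg.IrrCharacter G))) fun ψ _ hψ => ?_]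
    · rw [Finset.sum_insert (by simp [Subtype.ext_iff, h10.symm, h20.symm]), Finset.sum_pair (by simp [Subtype.ext_iff, h12]), add_assoc]
    · refine CfsgLib.CharTheory.isoProj_eq_zero ρ ψ.2 ?_
      simp only [Finset.mem_insert, Finset.mem_singleton, Subtype.ext_iff, not_or] at hψ
      rw [hinner _ ψ.2, if_neg (Ne.symm hψ.1), if_neg (Ne.symm hψ.2.1), if_neg (Ne.symm hψ.2.2)]
      simp
  have htr : ∀ ψ, Cfsg.IsIrrCharacter G ψ →
      LinearMap.trace ℂ (Ω → ℂ) (CfsgLib.CharTheory.isoProj ρ ψ) = ψ 1 * Cfsg.classInner ρ.character ψ := fun ψ hψ => by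
    simp only [CfsgLib.CharTheory.isoProj, Cfsg.classInner, map_sum, map_smul, smul_eq_mul, Finset.mul_sum]
    refine Finset.sum_congr rfl fun g _ => ?_
    show _ * ρ.character g = _
    rw [div_eq_mul_inv]; ring
  have ht0 : LinearMap.trace ℂ (Ω → ℂ) E₀ = 1 := by rw [hE₀, htr _ h0irr, htriv, one_mul]
  have ht1 : LinearMap.trace ℂ (Ω → ℂ) E₁ = (m : ℂ) - 1 := by
    rw [hE₁, htr _ h₁, hinner _ h₁, if_neg (Ne.symm h10), if_pos rfl, if_neg (Ne.symm h12), zero_add, add_zero, mul_one, hd₁]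
  have ht2 : LinearMap.trace ℂ (Ω → ℂ) E₂ = (m : ℂ) := by
    rw [hE₂, htr _ h₂, hinner _ h₂, if_neg (Ne.symm h20), if_neg h12, if_pos rfl, zero_add, zero_add, mul_one, hd₂]
  -- the suborbits
  set H := MulAction.stabilizer G a₀ with hH
  haveI : Fintype (MulAction.orbitRel.Quotient H Ω) := Fintype.ofFinite _
  rw [Nat.card_eq_fintype_card] at hrank
  let q : Ω → MulAction.orbitRel.Quotient H Ω := Quotient.mk''
  have hq : ∀ x y, q x = q y ↔ x ∈ MulAction.orbit H y := fun x y => Quotient.eq''.trans MulAction.orbitRel_apply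
  have hq0 : ∀ x, q x = q a₀ ↔ x = a₀ := fun x => by
    refine ⟨fun h => ?_, fun h => h ▸ rfl⟩
    obtain ⟨g, rfl⟩ := (hq _ _).1 h
    exact g.2
  obtain ⟨b₁, hb₁⟩ : ∃ b, q b ≠ q a₀ := by
    by_contra hh
    push Not at hh
    have : Fintype.card (MulAction.orbitRel.Quotient H Ω) ≤ 1 := Fintype.card_le_one_iff.2 fun x y => by
      obtain ⟨x, rfl⟩ := Quotient.mk''_surjective x
      obtain ⟨y, rfl⟩ := Quotient.mk''_surjective y
      exact (hh x).trans (hh y).symm
    omega
  obtain ⟨b₂, hb₂, hb₂'⟩ : ∃ b, q b ≠ q a₀ ∧ q b ≠ q b₁ := by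
    by_contra hh
    push Not at hh
    have : (Finset.univ : Finset (MulAction.orbitRel.Quotient H Ω)) ⊆ {q a₀, q b₁} := fun x _ => by
      obtain ⟨x, rfl⟩ := Quotient.mk''_surjective x
      by_cases h : q x = q a₀
      · exact Finset.mem_insert.2 (Or.inl h)
      · exact Finset.mem_insert.2 (Or.inr (Finset.mem_singleton.2 (hh x h)))
    have := Finset.card_le_card this
    rw [Finset.card_univ] at this
    exact absurd (this.trans Finset.card_le_two) (by omega)
  have hthree : ∀ x, x ≠ a₀ → x ∈ MulAction.orbit H b₁ ∨ x ∈ MulAction.orbit H b₂ := fun x hx => by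
    rw [← hq, ← hq]
    by_contra hh
    push Not at hh
    have hc : ({q a₀, q b₁, q b₂, q x} : Finset (MulAction.orbitRel.Quotient H Ω)).card ≤ 3 :=
      (Finset.card_le_univ _).trans hrank.le
    rw [Finset.card_insert_of_notMem (by simp [hb₁.symm, hb₂.symm, Ne.symm (fun h => hx ((hq0 x).1 h))]),
      Finset.card_insert_of_notMem (by simp [hb₂'.symm, Ne.symm hh.1]), Finset.card_insert_of_notMem (by simp [Ne.symm hh.2]), Finset.card_singleton] at hc
    omega
  have hcards : Nat.card (MulAction.orbit H b₁) + Nat.card (MulAction.orbit H b₂) + 1 = Fintype.card Ω := by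
    rw [Nat.card_coe_set_eq, Nat.card_coe_set_eq, ← Set.ncard_union_eq (Set.disjoint_left.2 fun x hx hy =>
      hb₂' (((hq _ _).2 hy).symm.trans ((hq _ _).2 hx)))]
    rw [show MulAction.orbit H b₁ ∪ MulAction.orbit H b₂ = {a₀}ᶜ from Set.ext fun x => ⟨fun h e => by
      rw [Set.mem_singleton_iff] at e
      subst e
      rcases h with h | h
      · exact hb₁ ((hq _ _).2 h).symm
      · exact hb₂ ((hq _ _).2 h).symm, fun h => hthree x h⟩, Set.ncard_compl, Set.ncard_singleton, Nat.card_eq_fintype_card]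
    omega
  -- choose the smaller one
  obtain ⟨b, b', hbe, hk, hbb', hb, hall⟩ : ∃ b b', (∀ x, x ≠ a₀ → x ∈ MulAction.orbit H b ∨ x ∈ MulAction.orbit H b') ∧
      Nat.card (MulAction.orbit H b) + 1 ≤ m ∧ Nat.card (MulAction.orbit H b) + Nat.card (MulAction.orbit H b') + 1 = 2 * m ∧
      b ≠ a₀ ∧ q b' ≠ q b := by
    rcases le_total (Nat.card (MulAction.orbit H b₁)) (Nat.card (MulAction.orbit H b₂)) with h | h
    · exact ⟨b₁, b₂, hthree, by omega, by omega, fun e => hb₁ (e ▸ rfl), hb₂'⟩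
    · exact ⟨b₂, b₁, fun x hx => (hthree x hx).symm, by omega, by omega, fun e => hb₂ (e ▸ rfl), hb₂'.symm⟩
  set k := Nat.card (MulAction.orbit H b) with hkdef
  set l := Nat.card (MulAction.orbit H b') with hldef
  -- the orbital graph
  let O : Ω → Ω → Prop := fun x y => ∃ g : G, g • a₀ = x ∧ g • b = y
  have hO : ∀ (c : G) x y, O (c • x) (c • y) ↔ O x y := fun c x y => by
    constructor
    · rintro ⟨g, h1, h2⟩; exact ⟨c⁻¹ * g, by rw [mul_smul, h1, inv_smul_smul], by rw [mul_smul, h2, inv_smul_smul]⟩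
    · rintro ⟨g, h1, h2⟩; exact ⟨c * g, by rw [mul_smul, h1], by rw [mul_smul, h2]⟩
  have hO0 : ∀ y, O a₀ y ↔ y ∈ MulAction.orbit H b := fun y =>
    ⟨fun ⟨g, h1, h2⟩ => ⟨⟨g, h1⟩, h2⟩, fun ⟨g, hg⟩ => ⟨g.1, g.2, hg⟩⟩
  have hdeg : ∀ x, (Finset.univ.filter fun y => O x y).card = k := fun x => by
    obtain ⟨c, rfl⟩ := MulAction.exists_smul_eq G a₀ x
    rw [hkdef, Nat.card_eq_fintype_card, ← Set.toFinset_card]
    conv_rhs => rw [← Finset.card_image_of_injective _ (MulAction.injective c)]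
    congr 1
    ext y
    rw [Finset.mem_filter, Finset.mem_image]
    exact ⟨fun h => ⟨c⁻¹ • y, Set.mem_toFinset.2 ((hO0 _).1 ((hO c _ _).1 (by rw [smul_inv_smul]; exact h.2))), smul_inv_smul c y⟩,
      by rintro ⟨z, hz, rfl⟩; exact ⟨Finset.mem_univ _, (hO c _ _).2 ((hO0 z).2 (Set.mem_toFinset.1 hz))⟩⟩
  have hirr : ∀ x, ¬ O x x := fun x ⟨g, h1, h2⟩ => hb (smul_left_cancel g (h2.trans h1.symm))
  have hsymm : ∀ x y, O x y → O y x := by
    by_contra hns
    push Not at hns
    obtain ⟨x, y, hxy, hyx⟩ := hns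
    -- then the transpose is the other orbital
    have htrans : ∀ y, O y a₀ → y ∈ MulAction.orbit H b' := by
      intro z hz
      have hz0 : z ≠ a₀ := fun e => hirr _ (e ▸ hz)
      refine (hbe z hz0).resolve_left fun h => hyx ?_
      obtain ⟨g, h1, h2⟩ := hxy
      obtain ⟨g', h1', h2'⟩ := (hO0 z).2 h
      have : O (g' • a₀) (g' • b) := ⟨g', rfl, rfl⟩
      have hz' : O b a₀ := by
        have := (hO g'⁻¹ z a₀).2 hz
        rwa [← h2', inv_smul_smul, show g'⁻¹ • a₀ = a₀ by rw [inv_smul_eq_iff, h1']] at this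
      rw [← h1, ← h2]
      exact (hO g _ _).2 hz'
    have hrev : ∀ z, z ∈ MulAction.orbit H b' → O z a₀ := by
      obtain ⟨g, h1, h2⟩ := hxy
      have hz : O (g⁻¹ • x) (g⁻¹ • y) := (hO g⁻¹ x y).2 ⟨g, h1, h2⟩
      obtain ⟨c, hc⟩ := MulAction.exists_smul_eq G b a₀
      have hz2 : O (c • a₀) a₀ := ⟨c, rfl, hc⟩
      intro z hz'
      obtain ⟨g₁, hg₁⟩ := htrans _ hz2
      obtain ⟨g₂, rfl⟩ := hz'
      have h5 : O (g₁ • b') a₀ := by rw [show g₁ • b' = c • a₀ from hg₁]; exact hz2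
      have h6 := (hO ((g₂ : G) * (g₁ : G)⁻¹) _ _).2 h5
      have h7 : ((g₂ : G) * (g₁ : G)⁻¹) • a₀ = a₀ := by
        rw [mul_smul, inv_smul_eq_iff.2 (show a₀ = (g₁ : G) • a₀ from g₁.2.symm), g₂.2]
      rw [h7] at h6
      rwa [show ((g₂ : G) * (g₁ : G)⁻¹) • g₁ • b' = g₂ • b' by
        show ((g₂ : G) * (g₁ : G)⁻¹) • (g₁ : G) • b' = (g₂ : G) • b'
        rw [mul_smul, inv_smul_smul]] at h6
    have hindeg : ∀ x : Ω, (Finset.univ.filter fun z => O z x).card = l := fun x => by
      obtain ⟨c, rfl⟩ := MulAction.exists_smul_eq G a₀ x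
      rw [hldef, Nat.card_eq_fintype_card, ← Set.toFinset_card]
      conv_rhs => rw [← Finset.card_image_of_injective _ (MulAction.injective c)]
      congr 1
      ext z
      rw [Finset.mem_filter, Finset.mem_image]
      exact ⟨fun h => ⟨c⁻¹ • z, Set.mem_toFinset.2 (htrans _ ((hO c _ _).1 (by rw [smul_inv_smul]; exact h.2))), smul_inv_smul c z⟩,
        by rintro ⟨w, hw, rfl⟩; exact ⟨Finset.mem_univ _, (hO c _ _).2 (hrev w (Set.mem_toFinset.1 hw))⟩⟩
    have h := Finset.sum_card_bipartiteAbove_eq_sum_card_bipartiteBelow O (s := (Finset.univ : Finset Ω)) (t := Finset.univ)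
    simp only [Finset.bipartiteAbove, Finset.bipartiteBelow, hdeg, hindeg, Finset.sum_const, smul_eq_mul, Finset.card_univ] at h
    have := Nat.eq_of_mul_eq_mul_left (by omega : 0 < Fintype.card Ω) h
    omega
  -- adjacency operator
  let A : Module.End ℂ (Ω → ℂ) :=
    { toFun := fun w x => ∑ y, if O x y then w y else 0
      map_add' := fun w w' => funext fun x => by
        simp only [Pi.add_apply, ← Finset.sum_add_distrib]
        exact Finset.sum_congr rfl fun y _ => by split_ifs <;> simp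
      map_smul' := fun c w => funext fun x => by
        simp only [Pi.smul_apply, smul_eq_mul, RingHom.id_apply, Finset.mul_sum, mul_ite, mul_zero] }
  have hAapp : ∀ w x, A w x = ∑ y, if O x y then w y else 0 := fun w x => rfl
  have hAg : ∀ g, A * ρ g = ρ g * A := fun g => LinearMap.ext fun w => funext fun x => by
    show A (ρ g w) x = A w (g⁻¹ • x)
    rw [hAapp, hAapp]
    exact Fintype.sum_equiv (MulAction.toPerm g⁻¹) _ _ fun y => if_congr (hO g⁻¹ x y).symm rfl rfl
  obtain ⟨c₀, hc₀⟩ := CfsgLib.CharTheory.exists_scalar_isoProj ρ hmf A hAg h0irr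
  obtain ⟨c₁, hc₁⟩ := CfsgLib.CharTheory.exists_scalar_isoProj ρ hmf A hAg h₁
  obtain ⟨c₂, hc₂⟩ := CfsgLib.CharTheory.exists_scalar_isoProj ρ hmf A hAg h₂
  rw [← hE₀] at hc₀
  rw [← hE₁] at hc₁
  rw [← hE₂] at hc₂
  have hone : E₀ (fun _ => 1) = fun _ => 1 := by
    funext x
    have hr : ∀ g, ρ g (fun _ : Ω => (1 : ℂ)) x = 1 := fun g => rfl
    simp only [hE₀, CfsgLib.CharTheory.isoProj, LinearMap.sum_apply, LinearMap.smul_apply, Finset.sum_apply, Pi.smul_apply,
      smul_eq_mul, map_one, mul_one, hr, one_div, Finset.sum_const, Finset.card_univ, nsmul_eq_mul, Nat.card_eq_fintype_card]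
    exact mul_inv_cancel₀ (Nat.cast_ne_zero.2 Fintype.card_ne_zero)
  have hc0k : c₀ = k := by
    have h := congrFun (LinearMap.congr_fun hc₀ (fun _ => 1)) a₀
    simp only [Module.End.mul_apply, LinearMap.smul_apply, hone, Pi.smul_apply, smul_eq_mul, mul_one] at h
    rw [hAapp, Finset.sum_boole, hdeg] at h
    exact h.symm
  subst hc0k
  have hA : A = (k : ℂ) • E₀ + c₁ • E₁ + c₂ • E₂ := by
    rw [← hc₀, ← hc₁, ← hc₂, ← mul_add, ← mul_add, hsum, mul_one]
  have hA2 : A * A = ((k : ℂ) * k) • E₀ + (c₁ * c₁) • E₁ + (c₂ * c₂) • E₂ := by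
    conv_lhs => arg 2; rw [hA]
    rw [mul_add, mul_add, mul_smul_comm, mul_smul_comm, mul_smul_comm, hc₀, hc₁, hc₂, smul_smul, smul_smul, smul_smul]
  have htraces : ∀ T : Module.End ℂ (Ω → ℂ), LinearMap.trace ℂ (Ω → ℂ) T = ∑ x, T (Pi.single x 1) x := fun T => by
    rw [LinearMap.trace_eq_matrix_trace ℂ (Pi.basisFun ℂ Ω), Matrix.trace]
    simp [LinearMap.toMatrix_apply]
  have eq1 : (k : ℂ) + c₁ * ((m : ℂ) - 1) + c₂ * m = 0 := by
    have h := htraces A
    rw [hA, map_add, map_add, map_smul, map_smul, map_smul, ht0, ht1, ht2, smul_eq_mul, smul_eq_mul, smul_eq_mul, mul_one] at h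
    rw [h, ← hA]
    refine Finset.sum_eq_zero fun x _ => ?_
    rw [hAapp, Finset.sum_eq_zero]
    intro y _
    split_ifs with h'
    · rw [Pi.single_apply, if_neg]
      intro e; exact hirr x (e ▸ h')
    · rfl
  have hAs : ∀ x z, A (Pi.single x 1) z = if O z x then 1 else 0 := fun x z => by
    rw [hAapp, Finset.sum_eq_single x (fun y _ hy => by rw [Pi.single_eq_of_ne hy]; simp) (by simp), Pi.single_eq_same]
  have hAA : ∀ x y, (A * A) (Pi.single x 1) y = ((Finset.univ.filter fun z => O y z ∧ O z x).card : ℂ) := fun x y => by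
    rw [Module.End.mul_apply, hAapp, ← Finset.sum_boole]
    exact Finset.sum_congr rfl fun z _ => by rw [hAs]; split_ifs <;> simp_all
  have hfilt : ∀ x, (Finset.univ.filter fun z => O x z ∧ O z x) = Finset.univ.filter fun z => O x z := fun x =>
    Finset.filter_congr fun z _ => ⟨fun h => h.1, fun h => ⟨h, hsymm _ _ h⟩⟩
  have eq2 : (k : ℂ) * k + c₁ * c₁ * ((m : ℂ) - 1) + c₂ * c₂ * m = 2 * m * k := by
    have h := htraces (A * A)
    rw [hA2, map_add, map_add, map_smul, map_smul, map_smul, ht0, ht1, ht2, smul_eq_mul, smul_eq_mul, smul_eq_mul, mul_one] at h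
    rw [h, ← hA2, Finset.sum_congr rfl fun x _ => by rw [hAA, hfilt, hdeg], Finset.sum_const, Finset.card_univ, hm, nsmul_eq_mul]
    push_cast; ring
  -- two-step numbers
  obtain ⟨lam, mu, hquad⟩ : ∃ lam mu : ℕ, ∀ x y, x ≠ y → (Finset.univ.filter fun z => O y z ∧ O z x).card = if O y x then lam else mu := by
    refine ⟨(Finset.univ.filter fun z => O a₀ z ∧ O z b).card, (Finset.univ.filter fun z => O a₀ z ∧ O z b').card, fun x y hxy => ?_⟩
    obtain ⟨c, rfl⟩ := MulAction.exists_smul_eq G a₀ y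
    have hcx : c⁻¹ • x ≠ a₀ := fun e => hxy (inv_smul_eq_iff.1 e)
    have key : ∀ w, c⁻¹ • x ∈ MulAction.orbit H w →
        (Finset.univ.filter fun z => O (c • a₀) z ∧ O z x).card = (Finset.univ.filter fun z => O a₀ z ∧ O z w).card := by
      rintro w ⟨g, hg⟩
      have hx : x = (c * (g : G)) • w := by
        rw [mul_smul, show (g : G) • w = c⁻¹ • x from hg, smul_inv_smul]
      have h0 : (c * (g : G)) • a₀ = c • a₀ := by rw [mul_smul, show (g : G) • a₀ = a₀ from g.2]
      rw [hx, ← h0]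
      conv_rhs => rw [← Finset.card_image_of_injective _ (MulAction.injective (c * (g : G)))]
      congr 1
      ext z
      rw [Finset.mem_filter, Finset.mem_image]
      refine ⟨fun h => ⟨(c * (g : G))⁻¹ • z, Finset.mem_filter.2 ⟨Finset.mem_univ _, ?_, ?_⟩, smul_inv_smul _ z⟩, ?_⟩
      · rw [← hO (c * (g : G)), smul_inv_smul]; exact h.2.1
      · rw [← hO (c * (g : G)), smul_inv_smul]; exact h.2.2
      · rintro ⟨z', hz', rfl⟩
        obtain ⟨h1, h2⟩ := (Finset.mem_filter.1 hz').2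
        exact ⟨Finset.mem_univ _, (hO _ _ _).2 h1, (hO _ _ _).2 h2⟩
    by_cases hadj : O (c • a₀) x
    · rw [if_pos hadj]
      exact key b ((hO0 _).1 (by rw [← hO c, smul_inv_smul]; exact hadj))
    · rw [if_neg hadj]
      refine key b' ((hbe _ hcx).resolve_left fun h => hadj ?_)
      have h8 := (hO c _ _).2 ((hO0 _).2 h)
      rwa [smul_inv_smul] at h8
  let J : Module.End ℂ (Ω → ℂ) :=
    { toFun := fun w _ => ∑ y, w y
      map_add' := fun w w' => funext fun x => by simp [Finset.sum_add_distrib]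
      map_smul' := fun c w => funext fun x => by simp [Finset.mul_sum] }
  have hrel : A * A = ((k : ℂ) - mu) • (1 : Module.End ℂ (Ω → ℂ)) + ((lam : ℂ) - mu) • A + (mu : ℂ) • J := by
    refine LinearMap.pi_ext' fun x => LinearMap.ext_ring (funext fun y => ?_)
    simp only [LinearMap.comp_apply, LinearMap.coe_single, LinearMap.add_apply, LinearMap.smul_apply, Pi.add_apply, Pi.smul_apply, smul_eq_mul,
      Module.End.one_apply, hAs, hAA]
    show _ = _ + _ * _ + (mu : ℂ) * (∑ z, (Pi.single x (1 : ℂ) : Ω → ℂ) z)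
    rw [Finset.sum_pi_single', if_pos (Finset.mem_univ x)]
    rcases eq_or_ne y x with rfl | hyx
    · rw [hfilt, hdeg, Pi.single_eq_same, if_neg (hirr y)]; ring
    · rw [hquad x y hyx.symm, Pi.single_eq_of_ne hyx]
      split_ifs <;> ring
  -- eigenvalues on the two projections
  have heig : ∀ (E : Module.End ℂ (Ω → ℂ)) (c d : ℂ) (ψ : G → ℂ), Cfsg.IsIrrCharacter G ψ → ψ ≠ (fun _ => 1) →
      E = CfsgLib.CharTheory.isoProj ρ ψ → LinearMap.trace ℂ (Ω → ℂ) E = d → d ≠ 0 → A * E = c • E →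
      c * c = ((k : ℂ) - mu) + ((lam : ℂ) - mu) * c := by
    intro E c d ψ hψ hψ0 hEdef hEt hd hc
    have hJ : J * E = 0 := by
      refine LinearMap.ext fun w => funext fun x => ?_
      show ∑ y, E w y = 0
      have hz : ∑ g : G, conj (ψ g) = 0 := by
        have h := CfsgLib.CharTheory.classInner_irr_ne h0irr hψ (Ne.symm hψ0)
        simp only [Cfsg.classInner, one_mul, mul_eq_zero, inv_eq_zero, Nat.cast_eq_zero, Nat.card_pos.ne', false_or] at h
        exact h
      rw [hEdef]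
      simp only [CfsgLib.CharTheory.isoProj, LinearMap.sum_apply, Finset.sum_apply, LinearMap.smul_apply, Pi.smul_apply, smul_eq_mul]
      rw [Finset.sum_comm, Finset.sum_congr rfl fun g _ => by
        rw [← Finset.mul_sum, show ∑ y, ρ g w y = ∑ y, w y from Equiv.sum_comp (MulAction.toPerm g⁻¹) w],
        ← Finset.sum_mul, ← Finset.mul_sum, hz, mul_zero, zero_mul]
    have h := congrArg (· * E) hrel
    simp only [mul_assoc, add_mul, smul_mul_assoc, one_mul, hc, hJ, smul_zero, add_zero, mul_smul_comm, smul_smul] at h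
    rw [← add_smul] at h
    have h' := congrArg (LinearMap.trace ℂ (Ω → ℂ)) h
    rw [map_smul, map_smul, hEt, smul_eq_mul, smul_eq_mul] at h'
    exact mul_right_cancel₀ hd h'
  have hm1 : (m : ℂ) - 1 ≠ 0 := fun e => by
    have : (m : ℂ) = ((1 : ℕ) : ℂ) := by push_cast; linear_combination e
    have := Nat.cast_injective this
    omega
  have q1 := heig E₁ c₁ _ χ₁ h₁ h10 hE₁ ht1 hm1 hc₁
  have q2 := heig E₂ c₂ _ χ₂ h₂ h20 hE₂ ht2 (Nat.cast_ne_zero.2 (by omega)) hc₂
  have hmC : (2 : ℂ) * m - 1 ≠ 0 := fun e => by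
    have : ((2 * m : ℕ) : ℂ) = ((1 : ℕ) : ℂ) := by push_cast; linear_combination e
    have := Nat.cast_injective this
    omega
  have hk1 : 1 ≤ k := by
    rw [hkdef]
    haveI : Nonempty (MulAction.orbit H b) := ⟨⟨b, MulAction.mem_orbit_self b⟩⟩
    exact Nat.card_pos
  have hne12 : c₁ ≠ c₂ := by
    intro e
    subst e
    have h5 : (k : ℂ) * (2 * m) * ((k : ℂ) - (2 * m - 1)) = 0 := by
      linear_combination ((2 : ℂ) * m - 1) * eq2 - (c₁ * ((2 : ℂ) * m - 1) - (k : ℂ)) * eq1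
    rcases mul_eq_zero.1 h5 with h6 | h6
    · rcases mul_eq_zero.1 h6 with h7 | h7
      · have := Nat.cast_eq_zero.1 h7; omega
      · have : ((2 * m : ℕ) : ℂ) = 0 := by push_cast; exact h7
        have := Nat.cast_eq_zero.1 this; omega
    · have : ((k + 1 : ℕ) : ℂ) = ((2 * m : ℕ) : ℂ) := by push_cast; linear_combination h6
      have := Nat.cast_injective this
      omega
  have hS : c₁ + c₂ = (lam : ℂ) - mu := mul_left_cancel₀ (sub_ne_zero.2 hne12) (by linear_combination q1 - q2)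
  set S : ℤ := (lam : ℤ) - mu with hSdef
  set t : ℤ := -(k : ℤ) - ((m : ℤ) - 1) * S with htdef
  have hSC : (S : ℂ) = c₁ + c₂ := by rw [hS, hSdef]; push_cast; ring
  have htC : (t : ℂ) = c₂ := by
    rw [htdef]; push_cast; rw [hSC]; linear_combination -eq1
  have eqZ : (k : ℤ) * k + (S - t) * (S - t) * ((m : ℤ) - 1) + t * t * m = 2 * m * k := by
    have h : (((k : ℤ) * k + (S - t) * (S - t) * ((m : ℤ) - 1) + t * t * m : ℤ) : ℂ) = ((2 * m * k : ℤ) : ℂ) := by
      push_cast; rw [hSC, htC]; linear_combination eq2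
    exact_mod_cast h
  have hk2 : 2 ≤ k := by
    by_contra hlt
    have hk1' : k = 1 := by omega
    rw [hkdef, Nat.card_eq_one_iff_unique] at hk1'
    have hfix : H ≤ MulAction.stabilizer G b := fun g hg =>
      congrArg Subtype.val (@Subsingleton.elim _ hk1'.1 (⟨g • b, ⟨⟨g, hg⟩, rfl⟩⟩ : MulAction.orbit H b) ⟨b, MulAction.mem_orbit_self b⟩)
    haveI : Nontrivial Ω := ⟨⟨b, a₀, hb⟩⟩
    have hco : IsCoatom H := MulAction.IsPreprimitive.isCoatom_stabilizer_of_isPreprimitive G a₀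
    obtain ⟨g, hg⟩ := MulAction.exists_smul_eq G a₀ b
    have hgH : g ∉ H := fun h => hb (hg.symm.trans h)
    have hgN : g ∈ Subgroup.normalizer (H : Set G) := by
      have heq : MulAction.stabilizer G b = H := by
        refine (Subgroup.eq_of_le_of_card_ge hfix (le_of_eq ?_)).symm
        rw [← hg, MulAction.stabilizer_smul_eq_stabilizer_map_conj]
        exact Subgroup.card_map_of_injective (MulAut.conj g).injective
      rw [Subgroup.mem_normalizer_iff]
      intro x
      show x ∈ H ↔ g * x * g⁻¹ ∈ H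
      conv_rhs => rw [← heq, MulAction.mem_stabilizer_iff, ← hg, mul_smul, inv_smul_smul, mul_smul, smul_left_cancel_iff]
      exact MulAction.mem_stabilizer_iff
    haveI hHn : H.Normal := Subgroup.normalizer_eq_top_iff.1 ((hco.le_iff.1 H.le_normalizer).resolve_right fun e => hgH (e ▸ hgN))
    have hbot : ∀ x : Ω, ∀ h ∈ H, h • x = x := fun x h hh => by
      obtain ⟨c, rfl⟩ := MulAction.exists_smul_eq G a₀ x
      have h9 := MulAction.mem_stabilizer_iff.1 (hHn.conj_mem h hh c⁻¹)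
      rwa [inv_inv, mul_smul, mul_smul, inv_smul_eq_iff] at h9
    have hinj : Function.Injective q := fun x y e => by
      obtain ⟨h', rfl⟩ := (hq _ _).1 e
      exact hbot y h'.1 h'.2
    have := Fintype.card_le_of_injective q hinj
    omega
  clear_value t
  have hm1z : (1 : ℤ) ≤ (m : ℤ) - 1 := by omega
  have hm3 : 3 ≤ m := by omega
  have ht2 : t * t < 2 * (k : ℤ) := by
    have hpos : 0 ≤ (S - t) * (S - t) * ((m : ℤ) - 1) := mul_nonneg (mul_self_nonneg _) (by omega)
    by_contra hh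
    push Not at hh
    have : 2 * (k : ℤ) * m ≤ t * t * m := mul_le_mul_of_nonneg_right hh (by omega)
    nlinarith
  have htk : (k : ℤ) + t = -((m : ℤ) - 1) * S := by rw [htdef]; ring
  have hS1 : S = -1 := by
    have hlow : 0 < (k : ℤ) + t := by
      by_contra hh
      push Not at hh
      have : (k : ℤ) * k ≤ t * t := by nlinarith
      have hk3 : (2 : ℤ) ≤ k := by exact_mod_cast hk2
      nlinarith
    have hhigh : (k : ℤ) + t < 2 * ((m : ℤ) - 1) := by
      by_contra hh
      push Not at hh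
      have : ((m : ℤ) - 1) * ((m : ℤ) - 1) ≤ t * t := by nlinarith
      nlinarith
    have h1 : S < 0 := by
      by_contra hh
      push Not at hh
      nlinarith
    have h2 : -2 < S := by
      by_contra hh
      push Not at hh
      nlinarith
    omega
  have hmt : (m : ℤ) = 2 * t ^ 2 + 2 * t + 1 := by
    have hkz : (k : ℤ) = (m : ℤ) - 1 - t := by rw [hS1] at htk; linarith
    rw [hkz, hS1] at eqZ
    nlinarith
  have hkz : (k : ℤ) = t * (2 * t + 1) := by rw [hS1] at htk; nlinarith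
  have ht0 : 0 < t := by
    have : (k : ℤ) + 1 ≤ m := by exact_mod_cast hk
    rw [hS1] at htk
    rcases lt_trichotomy t 0 with h | h | h
    · linarith
    · subst h; simp at hkz; omega
    · exact h
  obtain ⟨a, rfl⟩ : ∃ a : ℕ, t = (a : ℤ) := ⟨t.toNat, by omega⟩
  refine ⟨a, by omega, by exact_mod_cast hmt, fun y hy => ?_⟩
  rcases hbe y hy with h | h
  · left
    rw [MulAction.orbit_eq_iff.2 h, ← hkdef]
    exact_mod_cast hkz
  · right
    rw [MulAction.orbit_eq_iff.2 h, ← hldef]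
    have hl : (l : ℤ) = 2 * m - 1 - k := by omega
    have : (l : ℤ) = ((a : ℤ) + 1) * (2 * a + 1) := by rw [hl, hmt, hkz]; ring
    exact_mod_cast this

end Cfsg.Agent.S0719
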