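import Cfsg.Statements.S0722
import Cfsg.Agent.Lib.Coprime
-- import your own Cfsg.Agent.* helpers here

set_option autoImplicit false
open Cfsg

namespace Cfsg.Agent.S0722

/-- In a primitive group `H`, with `N` a minimal normal subgroup and `K` a point stabiliser, `K ⊓ N` is maximal among proper `K`-invariant subgroups of `N`. -/
theorem result {α : Type*} [Finite α] (H : Subgroup (Equiv.Perm α)) [MulAction.IsPreprimitive H α] (N : Subgroup H) [N.Normal] (hN : N ≠ ⊥) (hmin : ∀ M : Subgroup H, M.Normal → M ≤ N → M = ⊥ ∨ M = N) (a : α) (X : Subgroup H) (hX : X ≤ N) (hKX : MulAction.stabilizer H a ⊓ N ≤ X) (hinv : MulAction.stabilizer H a ≤ Subgroup.normalizer (X : Set H)) : X = MulAction.stabilizer H a ⊓ N ∨ X = N := by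
  classical
  rcases subsingleton_or_nontrivial α with hs | hn
  · exact absurd (by
      rw [Subgroup.eq_bot_iff_forall]
      intro n _
      exact Subtype.ext (Equiv.ext fun x => Subsingleton.elim _ _) : N = ⊥) hN
  set K := MulAction.stabilizer H a with hK
  have hco : IsCoatom K := MulAction.IsPreprimitive.isCoatom_stabilizer_of_isPreprimitive H a
  rcases hco.le_iff.mp (le_sup_left : K ≤ K ⊔ X) with h | h
  · right
    refine le_antisymm hX fun n hn => ?_
    have hn' : n ∈ K ⊔ X := h ▸ Subgroup.mem_top n
    rw [sup_comm] at hn'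
    obtain ⟨x, hx, s, hs, rfl⟩ := CfsgLib.mem_sup_of_le_normalizer hinv hn'
    refine X.mul_mem hx (hKX ⟨hs, ?_⟩)
    have := N.mul_mem (N.inv_mem (hX hx)) hn
    rwa [inv_mul_cancel_left] at this
  · left
    refine le_antisymm (le_inf ?_ hX) hKX
    exact le_sup_right.trans h.le

end Cfsg.Agent.S0722
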