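import Cfsg.Statements.S0723
import Mathlib
import Cfsg.Agent.Lib.Perm.Socle
import Cfsg.Agent.Lib.Coprime
import Cfsg.Agent.S0722
-- import your own Cfsg.Agent.* helpers here

set_option autoImplicit false
set_option maxHeartbeats 2000000
open Cfsg

namespace Cfsg.Agent.S0723

theorem prime_like {G T : Type*} [Group G] [Group T] [IsSimpleGroup T] (hT : ¬ IsMulCommutative T) (f : G →* T)
    (hf : Function.Surjective f) (A B : Subgroup G) [A.Normal] [B.Normal] (hAB : ∀ x ∈ A, x ∈ B → f x = 1) :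
    A ≤ f.ker ∨ B ≤ f.ker := by
  rcases (Subgroup.Normal.map (inferInstance : A.Normal) f hf).eq_bot_or_eq_top with hA | hA
  · exact Or.inl fun x hx => (Subgroup.eq_bot_iff_forall _).1 hA _ ⟨x, hx, rfl⟩
  rcases (Subgroup.Normal.map (inferInstance : B.Normal) f hf).eq_bot_or_eq_top with hB | hB
  · exact Or.inr fun x hx => (Subgroup.eq_bot_iff_forall _).1 hB _ ⟨x, hx, rfl⟩
  exfalso
  refine hT ⟨⟨fun u v => ?_⟩⟩
  obtain ⟨a, ha, rfl⟩ := hA.ge (Subgroup.mem_top u)
  obtain ⟨b, hb, rfl⟩ := hB.ge (Subgroup.mem_top v)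
  have h1 : a * b * a⁻¹ * b⁻¹ ∈ A := by
    rw [mul_assoc, mul_assoc, ← mul_assoc b]
    exact mul_mem ha (Subgroup.Normal.conj_mem inferInstance _ (inv_mem ha) b)
  have h2 : a * b * a⁻¹ * b⁻¹ ∈ B := mul_mem (Subgroup.Normal.conj_mem inferInstance _ hb a) (inv_mem hb)
  have h3 := hAB _ h1 h2
  rwa [map_mul, map_mul, map_mul, map_inv, map_inv, mul_inv_eq_one, mul_inv_eq_iff_eq_mul] at h3

/-- The core of the O'Nan–Scott Theorem. Let `H` be a primitive permutation group on a finite set whose unique minimal normal subgroup `N` is non-abelian, and `K` a point stabiliser. Then there are a non-abelian simple group `T` and an isomorphism `N ≃* T^m` (`m ≥ 1`) under which `K ⊓ N` becomes either a product `∏ K_i` of proper subgroups `K_i < T`, or the set of functions constant on each block of a partition of the index set into blocks of one common size `k ≥ 2`. -/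
theorem result {α : Type*} [Finite α] (H : Subgroup (Equiv.Perm α)) [MulAction.IsPreprimitive H α] (N : Subgroup H) [N.Normal] (hN : N ≠ ⊥) (hmin : ∀ M : Subgroup H, M.Normal → M ≤ N → M = ⊥ ∨ M = N) (huniq : ∀ L : Subgroup H, L.Normal → L ≠ ⊥ → (∀ M : Subgroup H, M.Normal → M ≤ L → M = ⊥ ∨ M = L) → L = N) (hnab : ¬ IsMulCommutative N) (a : α) : ∃ (T : Type) (_ : Group T) (m : ℕ) (e : N ≃* (Fin m → T)), IsSimpleGroup T ∧ ¬ IsMulCommutative T ∧ 0 < m ∧ ((∃ K : Fin m → Subgroup T, (∀ i, K i ≠ ⊤) ∧ ∀ n : N, (n : H) ∈ MulAction.stabilizer H a ↔ ∀ i, e n i ∈ K i) ∨ (∃ (k : ℕ) (c : Fin m → Fin m), 2 ≤ k ∧ (∀ j : Fin m, Nat.card {i : Fin m // c i = j} = k ∨ Nat.card {i : Fin m // c i = j} = 0) ∧ ∀ n : N, (n : H) ∈ MulAction.stabilizer H a ↔ ∀ i j : Fin m, c i = c j → e n i = e n j)) := by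
  classical
  obtain ⟨D⟩ := CfsgLib.Socle.exists_data N hN hmin hnab
  haveI : Nonempty α := ⟨a⟩
  set K := MulAction.stabilizer H a with hK
  haveI hnt : Nontrivial α := by
    rcases subsingleton_or_nontrivial α with hs | hn
    · exact absurd (by
        rw [Subgroup.eq_bot_iff_forall]
        intro n _
        exact Subtype.ext (Equiv.ext fun x => Subsingleton.elim _ _) : N = ⊥) hN
    · exact hn
  have hco : IsCoatom K := MulAction.IsPreprimitive.isCoatom_stabilizer_of_isPreprimitive H a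
  have hNK : ¬ N ≤ K := by
    intro hle
    refine hN ((Subgroup.eq_bot_iff_forall _).2 fun n hn => Subtype.ext (Equiv.ext fun x => ?_))
    obtain ⟨g, rfl⟩ := MulAction.exists_smul_eq H a x
    have h := hle (Subgroup.Normal.conj_mem inferInstance n hn g⁻¹)
    rw [hK, MulAction.mem_stabilizer_iff, inv_inv, mul_smul, mul_smul, inv_smul_eq_iff] at h
    exact h
  have hKN : N ⊔ K = ⊤ := by
    rcases hco.le_iff.mp (le_sup_right : K ≤ N ⊔ K) with h | h
    · exact h
    · exact absurd (le_sup_left.trans h.le) hNK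
  have hfactor : ∀ g : H, ∃ x ∈ N, ∃ k ∈ K, g = x * k := fun g => by
    obtain ⟨x, hx, k, hk, e⟩ := CfsgLib.mem_sup_of_le_normalizer
      (by rw [Subgroup.normalizer_eq_top]; exact le_top : K ≤ Subgroup.normalizer (N : Set H)) (hKN.symm ▸ Subgroup.mem_top g : g ∈ N ⊔ K)
    exact ⟨x, hx, k, hk, e.symm⟩
  set X := K ⊓ N with hX
  have hXN : X ≤ N := inf_le_right
  have hKX : ∀ k ∈ K, ∀ x ∈ X, k * x * k⁻¹ ∈ X := fun k hk x hx =>
    Subgroup.mem_inf.2 ⟨mul_mem (mul_mem hk (Subgroup.mem_inf.1 hx).1) (inv_mem hk),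
      Subgroup.Normal.conj_mem inferInstance x (Subgroup.mem_inf.1 hx).2 k⟩
  set m := D.s.card with hm
  let ι : Fin m → Subgroup H := fun i => (D.s.equivFin.symm i : Subgroup H)
  have hι : ∀ i, ι i ∈ D.s := fun i => (D.s.equivFin.symm i).2
  have hιinj : Function.Injective ι := fun i j h => D.s.equivFin.symm.injective (Subtype.ext h)
  have hιsurj : ∀ T ∈ D.s, ∃ i, ι i = T := fun T hT => ⟨D.s.equivFin ⟨T, hT⟩, by simp [ι]⟩
  have hmove : ∀ (i : Fin m) (g : H), ∃ j, ι j = (ι i).map (MulAut.conj g).toMonoidHom := fun i g =>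
    hιsurj _ (D.conj _ (hι i) g)
  have htransK : ∀ i j, ∃ k ∈ K, (ι i).map (MulAut.conj k).toMonoidHom = ι j := by
    intro i j
    obtain ⟨g, hg⟩ := D.trans _ (hι i) _ (hι j)
    obtain ⟨x, hx, k, hk, rfl⟩ := hfactor g
    refine ⟨k, hk, ?_⟩
    rw [← hg]
    have hT' := D.conj _ (hι i) k
    ext y
    rw [CfsgLib.Socle.mem_map_conj, CfsgLib.Socle.mem_map_conj]
    constructor
    · intro hy
      have hy' : y ∈ (ι i).map (MulAut.conj k).toMonoidHom := CfsgLib.Socle.mem_map_conj.2 hy
      have h := D.norm _ hT' x⁻¹ (inv_mem hx) y hy'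
      rw [inv_inv, CfsgLib.Socle.mem_map_conj] at h
      simpa [mul_assoc] using h
    · intro hy
      have h1 : x⁻¹ * y * x ∈ (ι i).map (MulAut.conj k).toMonoidHom := CfsgLib.Socle.mem_map_conj.2 (by simpa [mul_assoc] using hy)
      have h := D.norm _ hT' x hx _ h1
      rw [show x * (x⁻¹ * y * x) * x⁻¹ = y by group] at h
      exact CfsgLib.Socle.mem_map_conj.1 h
  let π : ∀ i : Fin m, N →* ι i := fun i =>
    { toFun := fun n => ⟨CfsgLib.Socle.Data.proj (ι i) n, CfsgLib.Socle.Data.proj_mem _ _⟩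
      map_one' := Subtype.ext (D.proj_one (hι i))
      map_mul' := fun x y => Subtype.ext (D.proj_mul (hι i) x.2 y.2) }
  have hbuild : ∀ t : ∀ i, ι i, ∀ A : Finset (Fin m), ∃ n : N, (∀ i ∈ A, π i n = t i) ∧ ∀ i ∉ A, π i n = 1 := by
    intro t A
    induction A using Finset.induction_on with
    | empty => exact ⟨1, by simp, fun i _ => map_one _⟩
    | insert j A hjA ih =>
      obtain ⟨n, h1, h2⟩ := ih
      refine ⟨n * ⟨t j, D.le _ (hι j) (t j).2⟩, fun i hi => ?_, fun i hi => ?_⟩
      · rcases Finset.mem_insert.1 hi with rfl | hi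
        · rw [map_mul, h2 i hjA, one_mul]; exact Subtype.ext (D.proj_of_mem (hι i) (t i).2)
        · have hne : ι j ≠ ι i := fun e => hjA (hιinj e ▸ hi)
          rw [map_mul, h1 i hi]
          exact mul_eq_left.2 (Subtype.ext (D.proj_of_other (hι i) (hι j) hne (t j).2))
      · rw [Finset.mem_insert, not_or] at hi
        rw [map_mul, h2 i hi.2, one_mul]
        exact Subtype.ext (D.proj_of_other (hι i) (hι j) (fun e => hi.1 (hιinj e).symm) (t j).2)
  have hπext : ∀ n n' : N, (∀ i, π i n = π i n') → n = n' := by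
    intro n n' h
    have h1 : ∀ i, π i (n⁻¹ * n') = 1 := fun i => by rw [map_mul, map_inv, h i, inv_mul_cancel]
    have h2 : ((n⁻¹ * n' : N) : H) = 1 := by
      refine D.centerN _ (n⁻¹ * n').2 fun y hy => ?_
      have hle : N ≤ Subgroup.centralizer ({((n⁻¹ * n' : N) : H)} : Set H) := D.le_of_forall fun T hT z hz => by
        rw [Subgroup.mem_centralizer_singleton_iff]
        obtain ⟨i, rfl⟩ := hιsurj T hT
        have h3 := D.proj_spec (hι i) (n⁻¹ * n').2 z hz
        have h4 : CfsgLib.Socle.Data.proj (ι i) ((n⁻¹ * n' : N) : H) = 1 := congrArg Subtype.val (h1 i)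
        rw [h4, one_mul, inv_one, mul_one, mul_inv_eq_iff_eq_mul] at h3
        exact h3.symm
      exact (Subgroup.mem_centralizer_singleton_iff.1 (hle hy)).symm
    exact inv_mul_eq_one.1 (Subtype.ext h2)
  set i0 : Fin m := ⟨0, Finset.card_pos.2 D.nonempty⟩ with hi0
  haveI : Small.{0} (ι i0) := Countable.toSmall (ι i0)
  let T := Shrink.{0} (ι i0)
  let e2 : T ≃* ι i0 := Shrink.mulEquiv
  haveI hTs : IsSimpleGroup T := by
    haveI := D.simple _ (hι i0)
    exact e2.isSimpleGroup
  have hTna : ¬ IsMulCommutative T := by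
    intro hc
    obtain ⟨x, hx, hx1⟩ := D.exists_ne (hι i0)
    refine hx1 (D.center _ (hι i0) x hx fun y hy => ?_)
    have := congrArg e2 (hc.is_comm.comm (e2.symm ⟨x, hx⟩) (e2.symm ⟨y, hy⟩))
    rw [map_mul, map_mul, e2.apply_symm_apply, e2.apply_symm_apply] at this
    exact congrArg Subtype.val this
  have hψ0 : ∀ i, Nonempty (ι i ≃* T) := fun i => by
    obtain ⟨g, hg⟩ := D.trans _ (hι i0) _ (hι i)
    exact ⟨(MulEquiv.subgroupCongr hg.symm).trans (((ι i0).equivMapOfInjective _ (MulAut.conj g).injective).symm.trans e2.symm)⟩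
  have hmk : ∀ ψ : ∀ i, ι i ≃* T, ∃ e : N ≃* (Fin m → T), ∀ n i, e n i = ψ i (π i n) := by
    intro ψ
    refine ⟨MulEquiv.ofBijective (Pi.monoidHom fun i => (ψ i).toMonoidHom.comp (π i)) ⟨fun n n' h => ?_, fun f => ?_⟩,
      fun n i => rfl⟩
    · exact hπext n n' fun i => (ψ i).injective (congrFun h i)
    · obtain ⟨n, hn, -⟩ := hbuild (fun i => (ψ i).symm (f i)) Finset.univ
      exact ⟨n, funext fun i => by
        show ψ i (π i n) = f i
        rw [hn i (Finset.mem_univ i), MulEquiv.apply_symm_apply]⟩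
  let f : ∀ i, X →* ι i := fun i => (π i).comp (Subgroup.inclusion hXN)
  -- transport along an element of the stabiliser
  have htr : ∀ k ∈ K, ∀ i j, ι j = (ι i).map (MulAut.conj k).toMonoidHom → ∀ x : X,
      ∀ x' : X, (x' : H) = k * x * k⁻¹ → (f j x' : H) = k * (f i x : H) * k⁻¹ := by
    intro k _ i j hij x x' hx'
    show CfsgLib.Socle.Data.proj (ι j) (x' : H) = k * CfsgLib.Socle.Data.proj (ι i) (x : H) * k⁻¹
    rw [hx', hij]
    exact D.proj_conj (hι i) (hXN x.2) k
  by_cases hsurj : ∀ i, Function.Surjective (f i)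
  swap
  · -- the product case
    have hall : ∀ i, ¬ Function.Surjective (f i) := by
      intro i hi
      apply hsurj
      intro j y
      obtain ⟨k, hk, hkij⟩ := htransK i j
      have hy : k⁻¹ * (y : H) * k ∈ ι i := CfsgLib.Socle.mem_map_conj.1 (hkij.symm ▸ y.2)
      obtain ⟨x, hx⟩ := hi ⟨_, hy⟩
      refine ⟨⟨k * x * k⁻¹, hKX k hk x x.2⟩, Subtype.ext ?_⟩
      rw [htr k hk i j hkij.symm x ⟨k * x * k⁻¹, hKX k hk x x.2⟩ rfl, hx]
      group
    obtain ⟨e, he⟩ := hmk fun i => (hψ0 i).some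
    refine ⟨T, inferInstance, m, e, hTs, hTna, Finset.card_pos.2 D.nonempty,
      Or.inl ⟨fun i => (f i).range.map ((hψ0 i).some).toMonoidHom, fun i htop => hall i fun y => ?_, fun n => ?_⟩⟩
    · obtain ⟨z, ⟨x, hx⟩, hz⟩ := htop.ge (Subgroup.mem_top ((hψ0 i).some y))
      exact ⟨x, hx.trans ((hψ0 i).some.injective hz)⟩
    constructor
    · intro hn i
      rw [he]
      exact ⟨π i n, ⟨⟨n, Subgroup.mem_inf.2 ⟨hn, n.2⟩⟩, rfl⟩, rfl⟩
    · intro hn
      let Y : Subgroup H := (⨅ i, (f i).range.comap (π i)).map N.subtype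
      have hXY : K ⊓ N ≤ Y := fun x hx =>
        ⟨⟨x, hXN hx⟩, Subgroup.mem_iInf.2 fun i => ⟨⟨x, hx⟩, rfl⟩, rfl⟩
      have hinv : K ≤ Subgroup.normalizer (Y : Set H) := by
        have half : ∀ k ∈ K, ∀ y ∈ Y, k * y * k⁻¹ ∈ Y := by
          rintro k hk _ ⟨⟨n', hn'⟩, hmem, rfl⟩
          refine ⟨⟨k * n' * k⁻¹, Subgroup.Normal.conj_mem inferInstance n' hn' k⟩, ?_, rfl⟩
          rw [SetLike.mem_coe, Subgroup.mem_iInf] at hmem ⊢
          intro j
          obtain ⟨i, hi⟩ := hmove j k⁻¹
          obtain ⟨x, hx⟩ := hmem i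
          have hij : ι j = (ι i).map (MulAut.conj k).toMonoidHom := by
            rw [hi]; ext z; rw [CfsgLib.Socle.mem_map_conj, CfsgLib.Socle.mem_map_conj]; simp [mul_assoc]
          refine ⟨⟨k * x * k⁻¹, hKX k hk x x.2⟩, Subtype.ext ?_⟩
          rw [htr k hk i j hij x ⟨k * x * k⁻¹, hKX k hk x x.2⟩ rfl, hx]
          show k * CfsgLib.Socle.Data.proj (ι i) n' * k⁻¹ = CfsgLib.Socle.Data.proj (ι j) (k * n' * k⁻¹)
          rw [hij]
          exact (D.proj_conj (hι i) hn' k).symm
        intro k hk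
        rw [Subgroup.mem_normalizer_iff]
        intro y
        refine ⟨half k hk y, fun h => ?_⟩
        have := half k⁻¹ (inv_mem hk) _ h
        simpa [mul_assoc] using this
      rcases Cfsg.Agent.S0722.result H N hN hmin a Y (Subgroup.map_subtype_le _) hXY hinv with hY | hY
      · have hnY : (n : H) ∈ Y := ⟨n, Subgroup.mem_iInf.2 fun i => by
          obtain ⟨z, hz, hzn⟩ := hn i
          rw [he] at hzn
          rw [Subgroup.mem_comap, ← (hψ0 i).some.injective hzn]
          exact hz, rfl⟩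
        rw [hY] at hnY
        exact (Subgroup.mem_inf.1 hnY).1
      · exfalso
        refine hall i0 fun y => ?_
        obtain ⟨n', hn', he'⟩ := hY.ge (D.le _ (hι i0) y.2)
        obtain ⟨x, hx⟩ := Subgroup.mem_iInf.1 hn' i0
        refine ⟨x, hx.trans (Subtype.ext ?_)⟩
        show CfsgLib.Socle.Data.proj (ι i0) (n' : H) = _
        rw [show (n' : H) = y from he', D.proj_of_mem (hι i0) y.2]
  -- the diagonal case
  haveI : Nonempty (Fin m) := ⟨i0⟩
  let fk : Fin m → Subgroup X := fun i => (f i).ker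
  have hiso : ∀ i, ∃ ψ : ι i ≃* T, ∀ x : X, ψ (f i x) = (hψ0 (Function.invFun fk (fk i))).some (f (Function.invFun fk (fk i)) x) := by
    intro i
    set r := Function.invFun fk (fk i) with hr
    have hker : (f i).ker = (f r).ker := (Function.invFun_eq (f := fk) ⟨i, rfl⟩).symm
    refine ⟨(((QuotientGroup.quotientKerEquivOfSurjective (f i) (hsurj i)).symm.trans
      (QuotientGroup.quotientMulEquivOfEq hker)).trans
      (QuotientGroup.quotientKerEquivOfSurjective (f r) (hsurj r))).trans (hψ0 r).some, fun x => ?_⟩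
    have h1 : (QuotientGroup.quotientKerEquivOfSurjective (f i) (hsurj i)).symm (f i x) = QuotientGroup.mk x := by
      rw [MulEquiv.symm_apply_eq]; rfl
    simp only [MulEquiv.trans_apply, h1]
    rfl
  choose ψ hψ using hiso
  obtain ⟨e, he⟩ := hmk ψ
  let c : Fin m → Fin m := fun i => Function.invFun fk (fk i)
  have hfkc : ∀ i, fk (c i) = fk i := fun i => Function.invFun_eq ⟨i, rfl⟩
  have hcfk : ∀ i j, c i = c j ↔ fk i = fk j := fun i j =>
    ⟨fun h => by rw [← hfkc i, ← hfkc j, h], fun h => by show Function.invFun fk (fk i) = _; rw [h]⟩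
  -- kernels of the other classes
  have hothers : ∀ i, ∀ A : Finset (Fin m), (∀ j ∈ A, fk j ≠ fk i) → ∀ y : ι i, ∃ x : X, (∀ j ∈ A, f j x = 1) ∧ f i x = y := by
    intro i A hA
    haveI := D.simple _ (hι i)
    have hna : ¬ IsMulCommutative (ι i) := by
      intro hc
      obtain ⟨x, hx, hx1⟩ := D.exists_ne (hι i)
      exact hx1 (D.center _ (hι i) x hx fun y hy => congrArg Subtype.val (hc.is_comm.comm ⟨x, hx⟩ ⟨y, hy⟩))
    have hnot : ¬ (⨅ j ∈ A, fk j) ≤ fk i := by
      induction A using Finset.induction_on with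
      | empty =>
        intro hle
        obtain ⟨z, hz, hz1⟩ := D.exists_ne (hι i)
        obtain ⟨x, hx⟩ := hsurj i ⟨z, hz⟩
        have : x ∈ fk i := hle (by simp)
        exact hz1 (congrArg Subtype.val (hx.symm.trans (MonoidHom.mem_ker.1 this)))
      | insert j A hj ih =>
        intro hle
        haveI : (⨅ l ∈ A, fk l).Normal := Subgroup.normal_iInf_normal fun l => Subgroup.normal_iInf_normal fun _ => inferInstance
        have hle' : ∀ x ∈ fk j, x ∈ (⨅ l ∈ A, fk l) → f i x = 1 := fun x h1 h2 => MonoidHom.mem_ker.1 (hle (by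
          rw [Finset.iInf_insert]; exact Subgroup.mem_inf.2 ⟨h1, h2⟩))
        rcases prime_like hna (f i) (hsurj i) (fk j) (⨅ l ∈ A, fk l) hle' with h | h
        · -- both kernels are maximal normal
          apply hA j (Finset.mem_insert_self j A)
          refine le_antisymm h fun x hx => ?_
          haveI := D.simple _ (hι j)
          rcases (Subgroup.Normal.map (inferInstance : (fk i).Normal) (f j) (hsurj j)).eq_bot_or_eq_top with hb | ht
          · exact (Subgroup.eq_bot_iff_forall _).1 hb _ ⟨x, hx, rfl⟩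
          · exfalso
            obtain ⟨z, hz, hz1⟩ := D.exists_ne (hι i)
            obtain ⟨w, hw⟩ := hsurj i ⟨z, hz⟩
            obtain ⟨x', hx', hxw⟩ := ht.ge (Subgroup.mem_top (f j w))
            have h1 : x'⁻¹ * w ∈ fk j := by
              show f j (x'⁻¹ * w) = 1
              rw [map_mul, map_inv, hxw, inv_mul_cancel]
            have h2 : f i (x'⁻¹ * w) = 1 := h h1
            rw [map_mul, map_inv, MonoidHom.mem_ker.1 hx', inv_one, one_mul, hw] at h2
            exact hz1 (congrArg Subtype.val h2)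
        · exact ih (fun l hl => hA l (Finset.mem_insert_of_mem hl)) h
    intro y
    have hBn : (⨅ j ∈ A, fk j).Normal := Subgroup.normal_iInf_normal fun j => Subgroup.normal_iInf_normal fun _ => inferInstance
    rcases (Subgroup.Normal.map hBn (f i) (hsurj i)).eq_bot_or_eq_top with hb | ht
    · exact absurd (fun x hx => (Subgroup.eq_bot_iff_forall _).1 hb _ ⟨x, hx, rfl⟩) hnot
    · obtain ⟨x, hx, hxy⟩ := ht.ge (Subgroup.mem_top y)
      exact ⟨x, fun j hj => MonoidHom.mem_ker.1 (Subgroup.mem_iInf.1 (Subgroup.mem_iInf.1 hx j) hj), hxy⟩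
  have hchar : ∀ n : N, (n : H) ∈ K ↔ ∀ i j : Fin m, c i = c j → e n i = e n j := by
    have hfi : ∀ (x : X) (i j : Fin m), c i = c j → ψ i (f i x) = ψ j (f j x) := fun x i j hij => by
      rw [hψ, hψ, show Function.invFun fk (fk i) = Function.invFun fk (fk j) from hij]
    intro n
    constructor
    · intro hn i j hij
      rw [he, he]
      exact hfi ⟨n, Subgroup.mem_inf.2 ⟨hn, n.2⟩⟩ i j hij
    · intro hn
      have step : ∀ A : Finset (Fin m), ∃ x : X, ∀ i, (c i ∈ A → ψ i (f i x) = e n i) ∧ (c i ∉ A → f i x = 1) := by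
        intro A
        induction A using Finset.induction_on with
        | empty => exact ⟨1, fun i => ⟨fun h => absurd h (by simp), fun _ => map_one _⟩⟩
        | insert q A hq ih =>
          obtain ⟨x, hx⟩ := ih
          by_cases hqc : c q = q
          · obtain ⟨y, hy1, hy2⟩ := hothers q (Finset.univ.filter fun j => fk j ≠ fk q)
              (fun j hj => (Finset.mem_filter.1 hj).2) (π q n)
            refine ⟨x * y, fun i => ⟨fun hi => ?_, fun hi => ?_⟩⟩
            · rcases Finset.mem_insert.1 hi with hi | hi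
              · rw [map_mul, map_mul, (hx i).2 (hi ▸ hq), map_one, one_mul,
                  hfi y i q (hi.trans hqc.symm), hy2, hn i q (hi.trans hqc.symm), he]
              · have hne : fk i ≠ fk q := fun h => hq (by rw [← hqc, ← (hcfk i q).2 h]; exact hi)
                rw [map_mul, hy1 i (Finset.mem_filter.2 ⟨Finset.mem_univ i, hne⟩), mul_one, (hx i).1 hi]
            · rw [Finset.mem_insert, not_or] at hi
              have hne : fk i ≠ fk q := fun h => hi.1 (((hcfk i q).2 h).trans hqc)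
              rw [map_mul, (hx i).2 hi.2, hy1 i (Finset.mem_filter.2 ⟨Finset.mem_univ i, hne⟩), one_mul]
          · refine ⟨x, fun i => ⟨fun hi => ?_, fun hi => (hx i).2 fun h => hi (Finset.mem_insert_of_mem h)⟩⟩
            rcases Finset.mem_insert.1 hi with hi | hi
            · exact absurd ((hcfk q i).2 (by rw [← hi, hfkc]) |>.trans hi) hqc
            · exact (hx i).1 hi
      obtain ⟨x, hx⟩ := step Finset.univ
      have : Subgroup.inclusion hXN x = n := hπext _ _ fun i => (ψ i).injective (((hx i).1 (Finset.mem_univ _)).trans (he n i))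
      rw [← this]
      exact (Subgroup.mem_inf.1 x.2).1
  have hfib : ∀ i j, Nat.card {l // fk l = fk i} = Nat.card {l // fk l = fk j} := by
    suffices h : ∀ i j, Nat.card {l // fk l = fk i} ≤ Nat.card {l // fk l = fk j} from fun i j => le_antisymm (h i j) (h j i)
    intro i j
    obtain ⟨k, hk, hkij⟩ := htransK i j
    choose σ hσ using fun l => hmove l k
    have hσinj : Function.Injective σ := fun l l' h => hιinj (Subgroup.map_injective (MulAut.conj k).injective
      ((hσ l).symm.trans ((congrArg ι h).trans (hσ l'))))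
    have hσi : σ i = j := hιinj ((hσ i).trans hkij)
    have hmem : ∀ l, ∀ x : X, x ∈ fk (σ l) ↔ (⟨k⁻¹ * x * k, by simpa using hKX k⁻¹ (inv_mem hk) x x.2⟩ : X) ∈ fk l := by
      intro l x
      have h := htr k hk l (σ l) (hσ l) ⟨k⁻¹ * x * k, by simpa using hKX k⁻¹ (inv_mem hk) x x.2⟩ x (by group)
      show f (σ l) x = 1 ↔ f l _ = 1
      rw [← Subtype.coe_inj, h, OneMemClass.coe_one, conj_eq_one_iff]
      exact Subtype.coe_inj (b := (1 : ι l))
    refine Nat.card_le_card_of_injective (fun l => ⟨σ l.1, ?_⟩) fun l l' h => Subtype.ext (hσinj (congrArg Subtype.val h))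
    rw [← hσi]
    ext x
    rw [hmem, hmem, l.2]
  refine ⟨T, inferInstance, m, e, hTs, hTna, Finset.card_pos.2 D.nonempty, Or.inr ⟨Nat.card {l // fk l = fk i0}, c, ?_, ?_, hchar⟩⟩
  · by_contra hlt
    push_neg at hlt
    apply hNK
    intro n hn
    refine (hchar ⟨n, hn⟩).2 fun i j hij => ?_
    have : Subsingleton {l // fk l = fk i} := Finite.card_le_one_iff_subsingleton.1 (by rw [hfib i i0]; omega)
    rw [show i = j from congrArg Subtype.val (Subsingleton.elim (⟨i, rfl⟩ : {l // fk l = fk i}) ⟨j, ((hcfk i j).1 hij).symm⟩)]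
  · intro j
    by_cases h : ∃ i, c i = j
    · obtain ⟨i, rfl⟩ := h
      left
      rw [← hfib i i0]
      exact Nat.card_congr (Equiv.subtypeEquivRight fun l => hcfk l i)
    · right
      haveI : IsEmpty {i : Fin m // c i = j} := ⟨fun i => h ⟨i.1, i.2⟩⟩
      exact Nat.card_of_isEmpty

end Cfsg.Agent.S0723
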