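import Cfsg.Statements.S0724
import Mathlib
-- import your own Cfsg.Agent.* helpers here

set_option autoImplicit false
open Cfsg

namespace Cfsg.Agent.S0724

open scoped Pointwise

/-- Blichfeldt's Theorem: if a finite set `L` of natural numbers contains the number of fixed points of every non-identity element of a permutation group `G` of degree `n`, then the order of `G` divides `∏ (n - l)` over `l ∈ L`. -/
theorem result {α : Type*} [Fintype α] [DecidableEq α] (G : Subgroup (Equiv.Perm α)) (L : Finset ℕ) (hL : ∀ g ∈ G, g ≠ 1 → Nat.card (MulAction.fixedBy α g) ∈ L) : Nat.card G ∣ ∏ l ∈ L, (Fintype.card α - l) := by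
  classical
  haveI : Fintype G := Fintype.ofFinite G
  by_cases hbig : ∃ l ∈ L, Fintype.card α < l
  · obtain ⟨l, hl, hlt⟩ := hbig
    rw [Finset.prod_eq_zero hl (by omega)]
    exact dvd_zero _
  push Not at hbig
  let fx : G → ℤ := fun g => ((Nat.card (MulAction.fixedBy α g) : ℕ) : ℤ)
  have hfx : ∀ g : G, MulAction.fixedBy α ((g : G) : Equiv.Perm α) = MulAction.fixedBy α g := fun g => rfl
  have hburn : ∀ j : ℕ, (Nat.card G : ℤ) ∣ ∑ g : G, fx g ^ j := by
    intro j
    have h1 := MulAction.sum_card_fixedBy_eq_card_orbits_mul_card_group G (Fin j → α)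
    refine ⟨((Fintype.card (MulAction.orbitRel.Quotient G (Fin j → α)) : ℕ) : ℤ), ?_⟩
    rw [Nat.card_eq_fintype_card, mul_comm, ← Nat.cast_mul, ← h1, Nat.cast_sum]
    refine Finset.sum_congr rfl fun g _ => ?_
    show ((Nat.card (MulAction.fixedBy α g) : ℕ) : ℤ) ^ j = _
    rw [← Nat.cast_pow, Nat.card_eq_fintype_card]
    congr 1
    rw [← Fintype.card_pi_const]
    refine Fintype.card_congr
      { toFun := fun f => ⟨fun i => (f i : α), funext fun i => (f i).2⟩
        invFun := fun f i => ⟨(f : Fin j → α) i, congrFun f.2 i⟩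
        left_inv := fun f => rfl
        right_inv := fun f => rfl }
  have key : ∀ L' : Finset ℕ, ∀ j : ℕ, (Nat.card G : ℤ) ∣ ∑ g : G, fx g ^ j * ∏ l ∈ L', (fx g - (l : ℤ)) := by
    intro L'
    induction L' using Finset.induction_on with
    | empty => intro j; simpa using hburn j
    | insert a s ha ih =>
      intro j
      have e : ∀ g : G, fx g ^ j * ∏ l ∈ insert a s, (fx g - (l : ℤ)) =
          fx g ^ (j + 1) * ∏ l ∈ s, (fx g - (l : ℤ)) - (a : ℤ) * (fx g ^ j * ∏ l ∈ s, (fx g - (l : ℤ))) := fun g => by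
        rw [Finset.prod_insert ha]; ring
      rw [Finset.sum_congr rfl fun g _ => e g, Finset.sum_sub_distrib, ← Finset.mul_sum]
      exact dvd_sub (ih (j + 1)) ((ih j).mul_left _)
  have h := key L 0
  rw [Finset.sum_eq_single (1 : G)] at h
  · have e1 : fx 1 = (Fintype.card α : ℤ) := by
      show ((Nat.card (MulAction.fixedBy α (1 : G)) : ℕ) : ℤ) = _
      rw [MulAction.fixedBy_one_eq_univ, Nat.card_univ, Nat.card_eq_fintype_card]
    rw [pow_zero, one_mul, e1] at h
    rw [← Int.natCast_dvd_natCast, Nat.cast_prod]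
    rw [Finset.prod_congr rfl fun l hl => Nat.cast_sub (hbig l hl)]
    exact h
  · intro g _ hg
    rw [pow_zero, one_mul]
    refine Finset.prod_eq_zero (hL (g : Equiv.Perm α) g.2 fun e => hg (Subtype.ext e)) ?_
    show fx g - _ = 0
    rw [hfx g]
    exact sub_self _
  · exact fun h => absurd (Finset.mem_univ _) h

end Cfsg.Agent.S0724
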