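import Cfsg.Statements.S0726
import Mathlib
-- import your own Cfsg.Agent.* helpers here

set_option autoImplicit false
open Cfsg

namespace Cfsg.Agent.S0726

/-- The left and right regular permutation representations of a group are each other's centralisers in the symmetric group: the centraliser of the left regular image is the right regular image, and a transitive subgroup centralising the left regular image is the whole right regular image. -/
theorem result {G : Type*} [Group G] : Subgroup.centralizer ((MulAction.toPermHom G G).range : Set (Equiv.Perm G)) = (MulAction.toPermHom Gᵐᵒᵖ G).range ∧ ∀ H : Subgroup (Equiv.Perm G), H ≤ Subgroup.centralizer ((MulAction.toPermHom G G).range : Set (Equiv.Perm G)) → MulAction.IsPretransitive H G → H = (MulAction.toPermHom Gᵐᵒᵖ G).range := by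
  classical
  have key : ∀ c ∈ Subgroup.centralizer ((MulAction.toPermHom G G).range : Set (Equiv.Perm G)), ∀ x : G,
      c x = x * c 1 := by
    intro c hc x
    have h := congrArg (fun σ : Equiv.Perm G => σ 1) (hc (MulAction.toPermHom G G x) ⟨x, rfl⟩)
    simpa using h.symm
  constructor
  · refine le_antisymm (fun c hc => ?_) ?_
    · refine ⟨MulOpposite.op (c 1), Equiv.ext fun x => ?_⟩
      simpa using (key c hc x).symm
    · rintro _ ⟨g, rfl⟩ _ ⟨x, rfl⟩
      refine Equiv.ext fun z => ?_
      simp [mul_assoc]
  · intro H hH ht
    refine le_antisymm (fun c hc => ?_) ?_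
    · refine ⟨MulOpposite.op (c 1), Equiv.ext fun x => ?_⟩
      simpa using (key c (hH hc) x).symm
    · rintro _ ⟨g, rfl⟩
      obtain ⟨c, hc⟩ := ht.exists_smul_eq (1 : G) g.unop
      have : (c : Equiv.Perm G) = MulAction.toPermHom Gᵐᵒᵖ G g := by
        refine Equiv.ext fun x => ?_
        rw [key c (hH c.2) x, show (c : Equiv.Perm G) 1 = g.unop from hc]
        simp
      exact this ▸ c.2

end Cfsg.Agent.S0726
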