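import Cfsg.Statements.S0728
import Mathlib
import Cfsg.Agent.Lib.Perm.SharpThree
-- import your own Cfsg.Agent.* helpers here

set_option autoImplicit false
open Cfsg

namespace Cfsg.Agent.S0728

/-- In a sharply triply transitive group of even degree at least 6 (degree `q + 1`, `q` odd), a two-point stabiliser has at most one subgroup of order 3. -/
theorem result {α : Type*} [Fintype α] [DecidableEq α] (heven : Even (Fintype.card α)) (h6 : 6 ≤ Fintype.card α) (G : Subgroup (Equiv.Perm α)) (h3 : MulAction.IsMultiplyPretransitive G α 3) (hsharp : ∀ x : Fin 3 ↪ α, MulAction.stabilizer G x = ⊥) {a b : α} (hab : a ≠ b) (A B : Subgroup G) (hA : A ≤ MulAction.stabilizer G a ⊓ MulAction.stabilizer G b) (hB : B ≤ MulAction.stabilizer G a ⊓ MulAction.stabilizer G b) (hA3 : Nat.card A = 3) (hB3 : Nat.card B = 3) : A = B := by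
  obtain ⟨c, hc⟩ : ∃ c : α, c ∉ ({a, b} : Finset α) := by
    refine not_forall.mp fun hall => ?_
    have e : ({a, b} : Finset α) = Finset.univ := Finset.eq_univ_of_forall hall
    have := (Finset.card_univ (α := α)).symm.trans (e ▸ Finset.card_pair hab)
    omega
  simp only [Finset.mem_insert, Finset.mem_singleton, not_or] at hc
  obtain ⟨hca', hcb'⟩ := hc
  have hca : c ≠ a := hca'
  have hcb : c ≠ b := hcb'
  obtain ⟨s, hsa, hsb, hsc⟩ := CfsgLib.SharpThree.exists_move h3 hab hca.symm hcb.symm hab.symm hcb.symm hca.symm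
  obtain ⟨K, hKa, hKc, hKn, hKt, hKf⟩ := CfsgLib.SharpThree.exists_translations hsharp h3 (by omega) a
  haveI : Fact (Nat.Prime 3) := ⟨Nat.prime_three⟩
  obtain ⟨⟨w, hwA⟩, hw⟩ := exists_prime_orderOf_dvd_card' (G := A) 3 (hA3 ▸ dvd_rfl)
  obtain ⟨⟨v, hvB⟩, hv⟩ := exists_prime_orderOf_dvd_card' (G := B) 3 (hB3 ▸ dvd_rfl)
  rw [Subgroup.orderOf_mk] at hw hv
  have hinv : ∀ x : G, x • a = a → x • b = b → orderOf x = 3 → s * x * s⁻¹ = x⁻¹ := fun x h1 h2 h =>
    CfsgLib.SharpThree.order_three hsharp h3 heven (by omega) hab hca.symm hcb.symm hsa hsb hsc h1 h2 h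
  obtain ⟨hwa, hwb⟩ := Subgroup.mem_inf.mp (hA hwA)
  obtain ⟨hva, hvb⟩ := Subgroup.mem_inf.mp (hB hvB)
  rw [MulAction.mem_stabilizer_iff] at hwa hwb hva hvb
  set D := MulAction.stabilizer G a ⊓ MulAction.stabilizer G b with hD
  have hwD : w ∈ D := hA hwA
  have hvD : v ∈ D := hB hvB
  obtain ⟨hv'a, hv'b⟩ := Subgroup.mem_inf.mp (D.mul_mem (D.mul_mem hwD hvD) (D.inv_mem hwD))
  have hv' := hinv (w * v * w⁻¹) hv'a hv'b (((MulAut.conj w).orderOf_eq v).trans hv)
  have hcomm : Commute w v := by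
    have h1 : s * (w * v * w⁻¹) * s⁻¹ = w⁻¹ * v⁻¹ * w := by
      calc s * (w * v * w⁻¹) * s⁻¹ = (s * w * s⁻¹) * (s * v * s⁻¹) * (s * w * s⁻¹)⁻¹ := by group
        _ = w⁻¹ * v⁻¹ * w := by rw [hinv w hwa hwb hw, hinv v hva hvb hv, inv_inv]
    have h2 : Commute (w ^ 2) v⁻¹ := by
      calc w ^ 2 * v⁻¹ = w * (w * v * w⁻¹)⁻¹ * w := by rw [pow_two]; group
        _ = w * (w⁻¹ * v⁻¹ * w) * w := by rw [← hv', h1]
        _ = v⁻¹ * w ^ 2 := by rw [pow_two]; group
    have h3 := (h2.pow_left 2).inv_right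
    rw [inv_inv, ← pow_mul, show 2 * 2 = 3 + 1 from rfl, pow_succ, ← hw, pow_orderOf_eq_one, one_mul] at h3
    exact h3
  haveI : IsMulCommutative K := ⟨⟨fun x y => Subtype.ext (hKc _ x.2 _ y.2)⟩⟩
  have hKb : K ≠ ⊥ := fun e => by
    obtain ⟨k, hk, hkc⟩ := hKt b c hab.symm hca
    rw [e, Subgroup.mem_bot] at hk
    rw [hk, one_smul] at hkc
    exact hcb hkc.symm
  have hDK : D ≤ Subgroup.normalizer (K : Set G) := fun d hd => by
    rw [Subgroup.mem_normalizer_iff]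
    intro k
    refine ⟨fun h => hKn d (Subgroup.mem_inf.mp hd).1 k h, fun h => ?_⟩
    have := hKn d⁻¹ (Subgroup.mem_inf.mp (D.inv_mem hd)).1 _ h
    simpa [mul_assoc] using this
  have hfpf : ∀ x ∈ D, x ≠ 1 → K ⊓ Subgroup.centralizer ({x} : Set G) = ⊥ := by
    intro x hx hx1
    rw [Subgroup.eq_bot_iff_forall]
    intro k hk
    obtain ⟨hkK, hkx⟩ := Subgroup.mem_inf.mp hk
    rw [Subgroup.mem_centralizer_singleton_iff] at hkx
    obtain ⟨hxa, hxb⟩ := Subgroup.mem_inf.mp hx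
    by_contra hk1
    have hkb : k • b ≠ b := fun e => hk1 (hKf k hkK b hab.symm e)
    refine hx1 (CfsgLib.SharpThree.eq_one_of_three hsharp hab
      (fun e => hab (smul_left_cancel k ((hKa k hkK).trans e))) (Ne.symm hkb) hxa hxb ?_)
    rw [← mul_smul, ← hkx, mul_smul, hxb]
  have hvw := CfsgLib.Frob.no_elementary_fpf hKb Nat.prime_three hDK hfpf hwD hvD hw hv hcomm.eq
  have hA' : Subgroup.zpowers w = A := Subgroup.eq_of_le_of_card_ge (Subgroup.zpowers_le.mpr hwA) (by rw [Nat.card_zpowers, hw, hA3])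
  have hB' : Subgroup.zpowers v = B := Subgroup.eq_of_le_of_card_ge (Subgroup.zpowers_le.mpr hvB) (by rw [Nat.card_zpowers, hv, hB3])
  refine (Subgroup.eq_of_le_of_card_ge ?_ (by rw [hA3, hB3])).symm
  rw [← hB', ← hA', Subgroup.zpowers_le]
  exact hvw

end Cfsg.Agent.S0728
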