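import Cfsg.Statements.S0729
import Mathlib
import Cfsg.Agent.Lib.Perm.SharpThreeIndexTwo
-- import your own Cfsg.Agent.* helpers here

set_option autoImplicit false
open Cfsg

namespace Cfsg.Agent.S0729

/-- In a sharply triply transitive group of even degree at least 6, the two-point stabiliser `H = G_{a,b}` has a normal subgroup of index 2 that is normalised by the element `s` interchanging `a, b` and fixing a third point `c`. -/
theorem result {α : Type*} [Fintype α] [DecidableEq α] (heven : Even (Fintype.card α)) (h6 : 6 ≤ Fintype.card α) (G : Subgroup (Equiv.Perm α)) (h3 : MulAction.IsMultiplyPretransitive G α 3) (hsharp : ∀ x : Fin 3 ↪ α, MulAction.stabilizer G x = ⊥) {a b c : α} (hab : a ≠ b) (hac : a ≠ c) (hbc : b ≠ c) (s : G) (hsa : s • a = b) (hsb : s • b = a) (hsc : s • c = c) : ∃ N : Subgroup G, N ≤ MulAction.stabilizer G a ⊓ MulAction.stabilizer G b ∧ (N.subgroupOf (MulAction.stabilizer G a ⊓ MulAction.stabilizer G b)).Normal ∧ N.relIndex (MulAction.stabilizer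 G a ⊓ MulAction.stabilizer G b) = 2 ∧ ∀ n ∈ N, s * n * s⁻¹ ∈ N := by
  classical
  let D := CfsgLib.SharpIndexTwo.D G a b
  obtain ⟨lam, hlam, hinv⟩ := CfsgLib.SharpIndexTwo.exists_invariant_linear hsharp h3 heven (by omega) hab hac hbc hsa hsb hsc
  obtain ⟨z, e, hzD, hz, -, -, -, -, -, hcent, -, -, -⟩ :=
    CfsgLib.SharpIndexTwo.exists_invol hsharp h3 heven (by omega) hab hac hbc hsa hsb hsc
  have hconj : ∀ d ∈ D, s * d * s⁻¹ ∈ D := fun d hd =>
    CfsgLib.SharpIndexTwo.swap_conj hsharp hab hac hbc hsa hsb hsc hd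
  letI : Fintype D := Fintype.ofFinite _
  let f : D → D := fun d => d⁻¹ * ⟨s * d * s⁻¹, hconj d d.2⟩
  have hfker : ∀ d, f d ∈ lam.ker := fun d => by
    show lam (d⁻¹ * _) = 1
    rw [map_mul, map_inv, hinv d ⟨_, hconj d d.2⟩ rfl, inv_mul_cancel]
  have hfib : ∀ y ∈ Finset.univ.image f, ((Finset.univ.filter fun d => f d = y).card) ≤ 2 := by
    intro y hy
    obtain ⟨d₀, -, rfl⟩ := Finset.mem_image.mp hy
    refine (Finset.card_le_card (t := {d₀, ⟨z, hzD⟩ * d₀}) fun d hd => ?_).trans Finset.card_le_two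
    have hd' : (d : G)⁻¹ * (s * d * s⁻¹) = (d₀ : G)⁻¹ * (s * d₀ * s⁻¹) :=
      congrArg Subtype.val (Finset.mem_filter.mp hd).2
    have hc' : ((d : G) * (d₀ : G)⁻¹) * s = s * ((d : G) * (d₀ : G)⁻¹) := by
      calc ((d : G) * (d₀ : G)⁻¹) * s = (d : G) * ((d₀ : G)⁻¹ * (s * d₀ * s⁻¹)) * (s * (d₀ : G)⁻¹ * s⁻¹) * s := by group
        _ = s * ((d : G) * (d₀ : G)⁻¹) := by rw [← hd']; group
    rcases hcent _ (mul_mem d.2 (inv_mem d₀.2)) hc' with h' | h'
    · exact Finset.mem_insert.mpr (Or.inl (Subtype.ext (mul_inv_eq_one.mp h')))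
    · exact Finset.mem_insert.mpr (Or.inr (Finset.mem_singleton.mpr (Subtype.ext (mul_inv_eq_iff_eq_mul.mp h'))))
  have himg := Finset.card_le_mul_card_image (Finset.univ : Finset D) 2 hfib
  have hle : (Finset.univ.image f).card ≤ Nat.card lam.ker := by
    rw [Nat.card_eq_fintype_card, Fintype.card_subtype]
    refine Finset.card_le_card fun y hy => ?_
    obtain ⟨d, -, rfl⟩ := Finset.mem_image.mp hy
    exact Finset.mem_filter.mpr ⟨Finset.mem_univ _, hfker d⟩
  have hidx : lam.ker.index = 2 := by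
    have h1 := lam.ker.index_mul_card
    rw [Finset.card_univ, ← Nat.card_eq_fintype_card, ← h1] at himg
    have h2 : lam.ker.index ≤ 2 := Nat.le_of_mul_le_mul_right
      (himg.trans (Nat.mul_le_mul_left 2 hle)) Nat.card_pos
    have h3 : lam.ker.index ≠ 1 := fun h' => hlam (MonoidHom.ker_eq_top_iff.mp (Subgroup.index_eq_one.mp h'))
    have h4 : lam.ker.index ≠ 0 := Subgroup.index_ne_zero_of_finite
    omega
  have hsub : (lam.ker.map D.subtype).subgroupOf D = lam.ker :=
    Subgroup.comap_map_eq_self_of_injective D.subtype_injective _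
  refine ⟨lam.ker.map D.subtype, Subgroup.map_subtype_le _, ?_, ?_, ?_⟩
  · show ((lam.ker.map D.subtype).subgroupOf D).Normal
    rw [hsub]
    infer_instance
  · show (lam.ker.map D.subtype).relIndex D = 2
    rw [Subgroup.relIndex, hsub, hidx]
  · rintro _ ⟨d, hd, rfl⟩
    refine ⟨⟨_, hconj d d.2⟩, ?_, rfl⟩
    show lam _ = 1
    rw [hinv d _ rfl]
    exact hd

end Cfsg.Agent.S0729
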