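import Cfsg.Statements.S0733
import Mathlib
-- import your own Cfsg.Agent.* helpers here

set_option autoImplicit false
open Cfsg

namespace Cfsg.Agent.S0733

open scoped Pointwise

/-- A permutation group of affine type — generated by the translations of a finite vector space `V` over `ZMod p` together with a group `G₀` of linear automorphisms — is primitive on `V` if and only if `G₀` is irreducible on `V`. -/
theorem result {p : ℕ} [Fact p.Prime] {V : Type*} [AddCommGroup V] [Module (ZMod p) V] [Finite V] [Nontrivial V] (G₀ : Subgroup (V ≃ₗ[ZMod p] V)) (G : Subgroup (Equiv.Perm V)) (hG : ∀ σ : Equiv.Perm V, σ ∈ G ↔ ∃ g ∈ G₀, ∃ b : V, ∀ x : V, σ x = (g : V ≃ₗ[ZMod p] V) x + b) : MulAction.IsPreprimitive G V ↔ ∀ W : Submodule (ZMod p) V, (∀ g ∈ G₀, ∀ v ∈ W, (g : V ≃ₗ[ZMod p] V) v ∈ W) → W = ⊥ ∨ W = ⊤ := by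
  classical
  have hmemG : ∀ g ∈ G₀, ∀ b : V, ∃ σ ∈ G, ∀ x : V, σ x = g x + b := fun g hg b =>
    ⟨g.toEquiv.trans (Equiv.addRight b), (hG _).mpr ⟨g, hg, b, fun x => rfl⟩, fun x => rfl⟩
  haveI : MulAction.IsPretransitive G V := ⟨fun x y => by
    obtain ⟨σ, hσ, h⟩ := hmemG 1 G₀.one_mem (y - x)
    exact ⟨⟨σ, hσ⟩, (h x).trans (by simp)⟩⟩
  constructor
  · intro hp W hW
    have hblock : MulAction.IsBlock G (W : Set V) := by
      rw [MulAction.isBlock_iff_smul_eq_or_disjoint]
      intro σ
      by_cases hd : Disjoint (σ • (W : Set V)) (W : Set V)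
      · exact Or.inr hd
      left
      obtain ⟨g, hg, b, hσ⟩ := (hG σ).mp σ.2
      obtain ⟨z, ⟨w, hw, rfl⟩, hz⟩ := Set.not_disjoint_iff.mp hd
      have hb : b ∈ W := by
        have h1 : g w + b ∈ W := (hσ w) ▸ hz
        simpa using W.sub_mem h1 (hW g hg w hw)
      ext y
      constructor
      · rintro ⟨x, hx, rfl⟩
        show (σ : Equiv.Perm V) x ∈ W
        rw [hσ]
        exact W.add_mem (hW g hg x hx) hb
      · intro hy
        refine ⟨g.symm (y - b), hW _ (G₀.inv_mem hg) _ (W.sub_mem hy hb), ?_⟩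
        show (σ : Equiv.Perm V) (g.symm (y - b)) = y
        rw [hσ]; simp
    rcases MulAction.IsPreprimitive.isTrivialBlock_of_isBlock hblock with hs | hu
    · left
      rw [Submodule.eq_bot_iff]
      exact fun x hx => hs hx W.zero_mem
    · exact Or.inr (Submodule.eq_top_iff'.mpr fun x => by
        have : x ∈ (W : Set V) := hu ▸ Set.mem_univ x
        exact this)
  · intro hirr
    refine MulAction.IsPreprimitive.of_isTrivialBlock_base (0 : V) (fun {B} h0 hB => ?_)
    have hBlk := MulAction.isBlock_iff_smul_eq_or_disjoint.mp hB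
    have hstab : ∀ σ : G, ∀ y ∈ B, (σ : Equiv.Perm V) y ∈ B → ∀ x ∈ B, (σ : Equiv.Perm V) x ∈ B := by
      intro σ y hy hσy x hx
      rcases hBlk σ with e | e
      · exact e ▸ Set.smul_mem_smul_set hx
      · exact absurd hσy (Set.disjoint_left.mp e (Set.smul_mem_smul_set hy))
    have hadd : ∀ x ∈ B, ∀ y ∈ B, x + y ∈ B := by
      intro x hx y hy
      obtain ⟨σ, hσ, h⟩ := hmemG 1 G₀.one_mem y
      have h1 := hstab ⟨σ, hσ⟩ 0 h0 (by show σ 0 ∈ B; rw [h]; simpa using hy) x hx
      change σ x ∈ B at h1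
      rw [h] at h1
      simpa using h1
    have hg : ∀ g ∈ G₀, ∀ x ∈ B, g x ∈ B := by
      intro g hg x hx
      obtain ⟨σ, hσ, h⟩ := hmemG g hg 0
      have h1 := hstab ⟨σ, hσ⟩ 0 h0 (by show σ 0 ∈ B; rw [h]; simpa using h0) x hx
      change σ x ∈ B at h1
      rw [h, add_zero] at h1
      exact h1
    let W : Submodule (ZMod p) V :=
      { carrier := B
        add_mem' := fun {a b} ha hb => hadd a ha b hb
        zero_mem' := h0
        smul_mem' := fun c x hx => by
          have hn : ∀ n : ℕ, n • x ∈ B := fun n => by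
            induction n with
            | zero => simpa using h0
            | succ n ih => rw [succ_nsmul]; exact hadd _ ih _ hx
          obtain ⟨n, rfl⟩ : ∃ n : ℕ, (n : ZMod p) = c := ⟨c.val, ZMod.natCast_zmod_val c⟩
          show (n : ZMod p) • x ∈ B
          rw [Nat.cast_smul_eq_nsmul]
          exact hn n }
    rcases hirr W (fun g hgg v hv => hg g hgg v hv) with h | h
    · left
      intro x hx y hy
      have hx' : x ∈ W := hx
      have hy' : y ∈ W := hy
      rw [h, Submodule.mem_bot] at hx' hy'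
      rw [hx', hy']
    · right
      refine Set.eq_univ_of_forall fun x => ?_
      have : x ∈ W := h ▸ Submodule.mem_top
      exact this

end Cfsg.Agent.S0733
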