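import Cfsg.Statements.S0734
import Mathlib
-- import your own Cfsg.Agent.* helpers here

set_option autoImplicit false
open Cfsg

namespace Cfsg.Agent.S0734

open scoped Pointwise

/-- Higman's criterion for primitivity: a transitive action on a finite set is primitive if and only if every non-trivial orbital graph (edges = images of a fixed pair of distinct points) is connected. -/
theorem result {G : Type*} [Group G] {Ω : Type*} [Finite Ω] [MulAction G Ω] [MulAction.IsPretransitive G Ω] [Nontrivial Ω] : MulAction.IsPreprimitive G Ω ↔ ∀ a b : Ω, a ≠ b → (SimpleGraph.fromRel fun x y : Ω => ∃ g : G, g • a = x ∧ g • b = y).Connected := by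
  classical
  constructor
  · intro hp a b hab
    set Γ := SimpleGraph.fromRel fun x y : Ω => ∃ g : G, g • a = x ∧ g • b = y with hΓ
    have hadj : Γ.Adj a b := by
      rw [hΓ, SimpleGraph.fromRel_adj]; exact ⟨hab, Or.inl ⟨1, one_smul _ _, one_smul _ _⟩⟩
    have hmap : ∀ (g : G) x y, Γ.Adj x y → Γ.Adj (g • x) (g • y) := by
      intro g x y h
      rw [hΓ, SimpleGraph.fromRel_adj] at h ⊢
      refine ⟨fun e => h.1 (smul_left_cancel g e), ?_⟩
      rcases h.2 with ⟨k, h1, h2⟩ | ⟨k, h1, h2⟩
      · exact Or.inl ⟨g * k, by rw [mul_smul, h1], by rw [mul_smul, h2]⟩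
      · exact Or.inr ⟨g * k, by rw [mul_smul, h1], by rw [mul_smul, h2]⟩
    have hreach : ∀ (g : G) x y, Γ.Reachable x y → Γ.Reachable (g • x) (g • y) := fun g x y h =>
      h.map ⟨fun z => g • z, hmap g _ _⟩
    set B : Set Ω := {x | Γ.Reachable a x} with hB
    have hBb : MulAction.IsBlock G B := by
      rw [MulAction.isBlock_iff_smul_eq_or_disjoint]
      intro g
      by_cases hd : Disjoint (g • B) B
      · exact Or.inr hd
      left
      obtain ⟨z, ⟨w, hw, rfl⟩, hz⟩ := Set.not_disjoint_iff.mp hd
      have h1 : Γ.Reachable a (g • a) := hz.trans (hreach g _ _ hw).symm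
      ext y
      constructor
      · rintro ⟨x, hx, rfl⟩
        exact h1.trans (hreach g _ _ hx)
      · intro hy
        refine ⟨g⁻¹ • y, ?_, smul_inv_smul g y⟩
        have h2 := hreach g⁻¹ _ _ (h1.symm.trans hy)
        rwa [inv_smul_smul] at h2
    rcases MulAction.IsPreprimitive.isTrivialBlock_of_isBlock hBb with hs | hu
    · exact absurd (hs (show a ∈ B from SimpleGraph.Reachable.refl a) (show b ∈ B from hadj.reachable)) hab
    · refine ⟨fun x y => ?_⟩
      exact (show x ∈ B from hu ▸ Set.mem_univ x).symm.trans (show y ∈ B from hu ▸ Set.mem_univ y)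
  · intro h
    refine ⟨fun {B} hB => ?_⟩
    show B.Subsingleton ∨ B = Set.univ
    rw [or_iff_not_imp_left]
    intro hns
    rw [Set.not_subsingleton_iff] at hns
    obtain ⟨a, ha, b, hb, hab⟩ := hns
    refine Set.eq_univ_of_forall fun x => ?_
    have hc := (h a b hab).preconnected a x
    obtain ⟨w⟩ := hc
    clear h
    suffices key : ∀ {u v : Ω}, (SimpleGraph.fromRel fun x y : Ω => ∃ g : G, g • a = x ∧ g • b = y).Walk u v → u ∈ B → v ∈ B from key w ha
    intro u v w
    induction w with
    | nil => exact id
    | @cons u v' v hadj _ ih =>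
      intro hu
      refine ih ?_
      rw [SimpleGraph.fromRel_adj] at hadj
      have hBlk := MulAction.isBlock_iff_smul_eq_or_disjoint.mp hB
      rcases hadj.2 with ⟨g, rfl, rfl⟩ | ⟨g, rfl, rfl⟩
      · rcases hBlk g with e | e
        · rw [← e]; exact Set.smul_mem_smul_set hb
        · exact absurd hu (Set.disjoint_left.mp e (Set.smul_mem_smul_set ha))
      · rcases hBlk g with e | e
        · rw [← e]; exact Set.smul_mem_smul_set ha
        · exact absurd hu (Set.disjoint_left.mp e (Set.smul_mem_smul_set hb))

end Cfsg.Agent.S0734
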