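import Cfsg.Statements.S0735
import Mathlib
-- import your own Cfsg.Agent.* helpers here

set_option autoImplicit false
open Cfsg

namespace Cfsg.Agent.S0735

open scoped Pointwise

/-- A 2-homogeneous permutation group (transitive on 2-subsets) of even order is doubly transitive; a non-trivial 2-homogeneous group is primitive. -/
theorem result {α : Type*} [Fintype α] [DecidableEq α] (G : Subgroup (Equiv.Perm α)) (h2 : MulAction.IsPretransitive G (Set.powersetCard α 2)) (hα : 3 ≤ Fintype.card α) : (Even (Nat.card G) → MulAction.IsMultiplyPretransitive G α 2) ∧ (G ≠ ⊥ → MulAction.IsPreprimitive G α) := by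
  classical
  have hpair : ∀ x y z w : α, x ≠ y → z ≠ w → ∃ g : G, (g • x = z ∧ g • y = w) ∨ (g • x = w ∧ g • y = z) := by
    intro x y z w hxy hzw
    obtain ⟨g, hg⟩ := h2.exists_smul_eq (Set.powersetCard.ofCard (s := {x, y}) (Finset.card_pair hxy))
      (Set.powersetCard.ofCard (s := {z, w}) (Finset.card_pair hzw))
    have hg' : (g • ({x, y} : Finset α)) = {z, w} := congrArg Subtype.val hg
    have hx : g • x ∈ ({z, w} : Finset α) := hg' ▸ Finset.smul_mem_smul_finset (by simp)
    have hy : g • y ∈ ({z, w} : Finset α) := hg' ▸ Finset.smul_mem_smul_finset (by simp)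
    simp only [Finset.mem_insert, Finset.mem_singleton] at hx hy
    refine ⟨g, ?_⟩
    rcases hx with hx | hx <;> rcases hy with hy | hy
    · exact absurd (smul_left_cancel g (hx.trans hy.symm)) hxy
    · exact Or.inl ⟨hx, hy⟩
    · exact Or.inr ⟨hx, hy⟩
    · exact absurd (smul_left_cancel g (hx.trans hy.symm)) hxy
  have hother : ∀ x y : α, ∃ z, z ≠ x ∧ z ≠ y := fun x y => by
    obtain ⟨z, hz⟩ := Finset.exists_mem_notMem_of_card_lt_card (s := ({x, y} : Finset α)) (t := Finset.univ) (by
      rw [Finset.card_univ]; exact lt_of_le_of_lt Finset.card_le_two (by omega))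
    exact ⟨z, by simpa [not_or] using hz.2⟩
  constructor
  · intro he
    have := Fact.mk Nat.prime_two
    obtain ⟨t, ht⟩ := exists_prime_orderOf_dvd_card' (G := G) 2 (even_iff_two_dvd.mp he)
    obtain ⟨x, hx⟩ : ∃ x, t • x ≠ x := by
      by_contra hno
      push Not at hno
      have : t = 1 := Subtype.ext (Equiv.ext hno)
      rw [this, orderOf_one] at ht
      omega
    have htt : t • t • x = x := by rw [← mul_smul, ← sq, ← ht, pow_orderOf_eq_one, one_smul]
    rw [MulAction.isMultiplyPretransitive_iff]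
    intro e f
    have key : ∀ a b : α, a ≠ b → ∃ g : G, g • x = a ∧ g • (t • x) = b := by
      intro a b hab
      obtain ⟨g, hg | hg⟩ := hpair x (t • x) a b (Ne.symm hx) hab
      · exact ⟨g, hg⟩
      · exact ⟨g * t, by rw [mul_smul, hg.2], by rw [mul_smul, htt, hg.1]⟩
    obtain ⟨g, hg0, hg1⟩ := key (e 0) (e 1) fun h => by simpa using e.injective h
    obtain ⟨k, hk0, hk1⟩ := key (f 0) (f 1) fun h => by simpa using f.injective h
    refine ⟨k * g⁻¹, Function.Embedding.ext fun i => ?_⟩
    show (k * g⁻¹) • e i = f i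
    fin_cases i
    · show (k * g⁻¹) • e 0 = f 0
      rw [mul_smul, ← hg0, inv_smul_smul, hk0]
    · show (k * g⁻¹) • e 1 = f 1
      rw [mul_smul, ← hg1, inv_smul_smul, hk1]
  · intro hG
    obtain ⟨⟨t, htG⟩, ht⟩ := G.bot_or_exists_ne_one.resolve_left hG |> fun ⟨t, h1, h2⟩ => (⟨⟨t, h1⟩, h2⟩ : ∃ s : G, (s : Equiv.Perm α) ≠ 1)
    obtain ⟨x₀, hx₀⟩ : ∃ x, t x ≠ x := by
      by_contra hno
      push Not at hno
      exact ht (Equiv.ext hno)
    haveI : MulAction.IsPretransitive G α := by
      refine ⟨fun x y => ?_⟩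
      by_cases hxy : x = y
      · exact ⟨1, by rw [one_smul, hxy]⟩
      by_contra hno
      push Not at hno
      -- `x₀` and `t x₀` are in one orbit, hence so is every pair
      obtain ⟨g, hg | hg⟩ := hpair x₀ (t x₀) x y (Ne.symm hx₀) hxy
      · refine hno (g * ⟨t, htG⟩ * g⁻¹) ?_
        rw [mul_smul, mul_smul, ← hg.1, inv_smul_smul]
        exact hg.2
      · refine hno (g * ⟨t, htG⟩⁻¹ * g⁻¹) ?_
        rw [mul_smul, mul_smul, ← hg.2, inv_smul_smul, show (⟨t, htG⟩ : G)⁻¹ • t x₀ = x₀ from inv_smul_smul (⟨t, htG⟩ : G) x₀]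
        exact hg.1
    refine ⟨fun {B} hB => ?_⟩
    show B.Subsingleton ∨ B = Set.univ
    rw [or_iff_not_imp_left]
    intro hns
    rw [Set.not_subsingleton_iff] at hns
    obtain ⟨a, ha, b, hb, hab⟩ := hns
    refine Set.eq_univ_of_forall fun z => ?_
    by_cases hza : z = a
    · rwa [hza]
    have hBlk := MulAction.isBlock_iff_smul_eq_or_disjoint.mp hB
    obtain ⟨g, hg | hg⟩ := hpair a b a z hab (Ne.symm hza)
    all_goals
      rcases hBlk g with e | e
      · rw [← e]
        first | exact hg.2 ▸ Set.smul_mem_smul_set hb | exact hg.1 ▸ Set.smul_mem_smul_set ha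
      · refine absurd ha (Set.disjoint_left.mp e ?_)
        first | exact hg.1 ▸ Set.smul_mem_smul_set ha | exact hg.2 ▸ Set.smul_mem_smul_set hb

end Cfsg.Agent.S0735
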