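import Cfsg.Statements.S0737
import Mathlib
import Cfsg.Agent.S0205
import Cfsg.Agent.S0548
import Cfsg.Agent.S0735
import Cfsg.Agent.Lib.AfterFT.HalfTransField

set_option autoImplicit false
open Cfsg

namespace Cfsg.Agent.S0737

set_option maxHeartbeats 1000000
set_option linter.style.haveILetI false

open scoped Pointwise

/-- A non-trivial 2-homogeneous permutation group that is not doubly transitive has odd order and degree `p^f ≡ 3 (mod 4)`, and is permutation-isomorphic to a group of semi-affine transformations `x ↦ a φ(x) + b` of the field with `p^f` elements containing all translations. -/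
theorem result {α : Type*} [Fintype α] [DecidableEq α] (G : Subgroup (Equiv.Perm α)) (hne : G ≠ ⊥) (h2 : MulAction.IsPretransitive G (Set.powersetCard α 2)) (hn2 : ¬ MulAction.IsMultiplyPretransitive G α 2) : Odd (Nat.card G) ∧ ∃ (p f : ℕ) (_ : Fact p.Prime), p ≠ 2 ∧ Fintype.card α = p ^ f ∧ p ^ f % 4 = 3 ∧ ∃ e : α ≃ GaloisField p f, (∀ g : G, e.symm.trans (((g : Equiv.Perm α)).trans e) ∈ Cfsg.semiaffineGroup (GaloisField p f)) ∧ ∀ b : GaloisField p f, ∃ g : G, ∀ x : α, e ((g : Equiv.Perm α) x) = e x + b := by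
  classical
  have hc : 3 ≤ Fintype.card α := by
    by_contra hlt
    apply hn2
    rw [MulAction.is_two_pretransitive_iff]
    obtain ⟨g, hg, hg1⟩ := (Subgroup.ne_bot_iff_exists_ne_one.mp hne).imp fun g h => And.intro g.2 h
    obtain ⟨z, hz⟩ : ∃ z, (g : Equiv.Perm α) z ≠ z := by
      by_contra hno
      exact hg1 (Subtype.ext (Equiv.ext fun x => not_not.mp fun h => hno ⟨x, h⟩))
    have htwo : ∀ a b c : α, a ≠ b → c = a ∨ c = b := fun a b c hab => by
      by_contra hno
      push Not at hno
      have h3 : ({a, b, c} : Finset α).card = 3 := by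
        rw [Finset.card_insert_of_notMem (by simp [hab, Ne.symm hno.1]), Finset.card_pair (Ne.symm hno.2)]
      have := Finset.card_le_univ ({a, b, c} : Finset α)
      omega
    intro a b c d hab hcd
    have hswap : (g : Equiv.Perm α) a = b ∧ (g : Equiv.Perm α) b = a := by
      have hza : (g : Equiv.Perm α) a ≠ a := by
        intro h
        rcases htwo a b z hab with rfl | rfl
        · exact hz h
        · rcases htwo a z ((g : Equiv.Perm α) z) hab with h' | h'
          · exact hab ((g : Equiv.Perm α).injective (h.trans h'.symm))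
          · exact hz h'
      have h1 : (g : Equiv.Perm α) a = b := (htwo a b _ hab).resolve_left hza
      refine ⟨h1, (htwo a b _ hab).resolve_right fun h => hab ((g : Equiv.Perm α).injective (h1.trans h.symm))⟩
    rcases htwo a b c hab with rfl | rfl
    · exact ⟨1, one_smul _ _, by rw [one_smul]; exact ((htwo c b d hab).resolve_left (Ne.symm hcd)).symm⟩
    · exact ⟨g, hswap.1, hswap.2.trans ((htwo a c d hab).resolve_right (Ne.symm hcd)).symm⟩
  have hodd : Odd (Nat.card G) := Nat.not_even_iff_odd.mp fun he => hn2 ((Cfsg.Agent.S0735.result G h2 hc).1 he)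
  haveI : Group.IsSolvable G := Cfsg.Agent.S0205.result hodd
  have hprim := (Cfsg.Agent.S0735.result G h2 hc).2 hne
  obtain ⟨M, ⟨hMn, hM⟩, hMmin⟩ := exists_minimal_of_wellFoundedLT (fun K : Subgroup G => K.Normal ∧ K ≠ ⊥)
    ⟨⊤, inferInstance, fun h => hne (by
      haveI : Subsingleton G := subsingleton_of_bot_eq_top h.symm |> fun _ => Subgroup.subsingleton_iff.mp (subsingleton_of_bot_eq_top h.symm)
      exact Subgroup.eq_bot_of_subsingleton G)⟩
  haveI := hMn
  have hmin : ∀ K : Subgroup G, K.Normal → K ≤ M → K = ⊥ ∨ K = M := fun K hK hle => by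
    by_cases h : K = ⊥
    · exact Or.inl h
    · exact Or.inr (le_antisymm hle (hMmin ⟨hK, h⟩ hle))
  obtain ⟨hab, q, hq, hexp⟩ := CfsgLib.minimal_normal_elementary hM inferInstance hmin
  haveI := Fact.mk hq
  obtain ⟨a₀⟩ : Nonempty α := Fintype.card_pos_iff.mp (by omega)
  obtain ⟨hcomp, hbot, -⟩ := Cfsg.Agent.S0548.result hprim M hM hmin a₀
  letI : CommGroup M := { (inferInstance : Group M) with mul_comm := hab.is_comm.comm }
  let β : Additive M → α := fun v => ((Additive.toMul v : M) : G) • a₀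
  have hβi : Function.Injective β := fun v w h => by
    refine Additive.toMul.injective (Subtype.ext ?_)
    have h' : ((Additive.toMul w : M) : G)⁻¹ * (Additive.toMul v : M) ∈ M ⊓ MulAction.stabilizer G a₀ :=
      ⟨M.mul_mem (M.inv_mem (Additive.toMul w).2) (Additive.toMul v).2, by
        show (((Additive.toMul w : M) : G)⁻¹ * ((Additive.toMul v : M) : G)) • a₀ = a₀
        rw [mul_smul, inv_smul_eq_iff]; exact h⟩
    rw [hcomp.disjoint.eq_bot, Subgroup.mem_bot, inv_mul_eq_one] at h'
    exact h'.symm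
  have hdec : ∀ g : G, ∃ n : M, ∃ r : MulAction.stabilizer G a₀, g = (n : G) * r := fun g => by
    obtain ⟨⟨n, r⟩, h⟩ := hcomp.2 g
    exact ⟨n, r, h.symm⟩
  have hGt : ∀ x : α, ∃ g : G, g • a₀ = x := fun x => MulAction.exists_smul_eq G a₀ x
  have hβs : Function.Surjective β := fun x => by
    obtain ⟨g, rfl⟩ := hGt x
    obtain ⟨n, r, rfl⟩ := hdec g
    exact ⟨Additive.ofMul n, by show (n : G) • a₀ = _; rw [mul_smul, show (r : G) • a₀ = a₀ from r.2]⟩
  letI : DistribMulAction (MulAction.stabilizer G a₀) (Additive M) :=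
    { smul := fun r v => Additive.ofMul (MulAut.conjNormal (r : G) (Additive.toMul v))
      one_smul := fun v => by show Additive.ofMul (MulAut.conjNormal (1 : G) (Additive.toMul v)) = v; simp
      mul_smul := fun r s v => by
        show Additive.ofMul (MulAut.conjNormal ((r : G) * s) (Additive.toMul v)) = Additive.ofMul (MulAut.conjNormal (r : G) (MulAut.conjNormal (s : G) (Additive.toMul v)))
        rw [map_mul]; rfl
      smul_zero := fun r => by show Additive.ofMul (MulAut.conjNormal (r : G) (1 : M)) = 0; simp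
      smul_add := fun r v w => by
        show Additive.ofMul (MulAut.conjNormal (r : G) (Additive.toMul v * Additive.toMul w)) = _
        rw [map_mul]; rfl }
  have hsmul : ∀ (r : MulAction.stabilizer G a₀) (v : Additive M), β (r • v) = (r : G) • β v := fun r v => by
    show ((MulAut.conjNormal (r : G) (Additive.toMul v) : M) : G) • a₀ = (r : G) • _
    rw [MulAut.conjNormal_apply, mul_smul, mul_smul, inv_smul_eq_iff.mpr r.2.symm]
  haveI : FaithfulSMul (MulAction.stabilizer G a₀) (Additive M) := ⟨fun {r s} h => by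
    have h' : ((r⁻¹ * s : MulAction.stabilizer G a₀) : G) ∈ MulAction.stabilizer G a₀ ⊓ Subgroup.centralizer (M : Set G) := by
      refine ⟨(r⁻¹ * s).2, Subgroup.mem_centralizer_iff.mpr fun m hm => ?_⟩
      have h1 : (r⁻¹ * s) • Additive.ofMul (⟨m, hm⟩ : M) = Additive.ofMul (⟨m, hm⟩ : M) := by
        rw [mul_smul, inv_smul_eq_iff, h]
      have h2 : ((r⁻¹ * s : MulAction.stabilizer G a₀) : G) * m * ((r⁻¹ * s : MulAction.stabilizer G a₀) : G)⁻¹ = m :=
        congrArg Subtype.val (Additive.ofMul.injective h1)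
      exact (mul_inv_eq_iff_eq_mul.mp h2).symm
    rw [hbot, Subgroup.mem_bot] at h'
    exact inv_mul_eq_one.mp (Subtype.ext h')⟩
  haveI : Nontrivial (Additive M) := by
    haveI : Nontrivial M := (Subgroup.nontrivial_iff_ne_bot M).mpr hM
    infer_instance
  have hE : ∀ v : Additive M, q • v = 0 := fun v => by
    apply Additive.toMul.injective
    exact Subtype.ext (hexp _ (Additive.toMul v).2)
  have hpair : ∀ x y z w : α, x ≠ y → z ≠ w → ∃ g : G, (g • x = z ∧ g • y = w) ∨ (g • x = w ∧ g • y = z) := by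
    intro x y z w hxy hzw
    obtain ⟨g, hg⟩ := h2.exists_smul_eq (Set.powersetCard.ofCard (s := {x, y}) (Finset.card_pair hxy))
      (Set.powersetCard.ofCard (s := {z, w}) (Finset.card_pair hzw))
    have hg' : (g • ({x, y} : Finset α)) = {z, w} := congrArg Subtype.val hg
    have hx : g • x ∈ ({z, w} : Finset α) := hg' ▸ Finset.smul_mem_smul_finset (by simp)
    have hy : g • y ∈ ({z, w} : Finset α) := hg' ▸ Finset.smul_mem_smul_finset (by simp)
    simp only [Finset.mem_insert, Finset.mem_singleton] at hx hy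
    refine ⟨g, ?_⟩
    rcases hx with hx | hx <;> rcases hy with hy | hy
    · exact absurd (smul_left_cancel g (hx.trans hy.symm)) hxy
    · exact Or.inl ⟨hx, hy⟩
    · exact Or.inr ⟨hx, hy⟩
    · exact absurd (smul_left_cancel g (hx.trans hy.symm)) hxy
  have hβ0 : β 0 = a₀ := one_smul G a₀
  have hpm : ∀ v w : Additive M, v ≠ 0 → w ≠ 0 → ∃ r : MulAction.stabilizer G a₀, r • v = w ∨ r • v = -w := by
    intro v w hv hw
    obtain ⟨g, ⟨h1, h3⟩ | ⟨h1, h3⟩⟩ := hpair a₀ (β v) a₀ (β w) (fun h => hv (hβi (hβ0.trans h)).symm)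
      (fun h => hw (hβi (hβ0.trans h)).symm)
    · exact ⟨⟨g, h1⟩, Or.inl (hβi ((hsmul _ v).trans h3))⟩
    · refine ⟨⟨((Additive.toMul w : M) : G)⁻¹ * g, ?_⟩, Or.inr (hβi ((hsmul _ v).trans ?_))⟩
      · show (((Additive.toMul w : M) : G)⁻¹ * g) • a₀ = a₀
        rw [mul_smul, h1]; exact inv_smul_smul _ a₀
      · show (((Additive.toMul w : M) : G)⁻¹ * g) • β v = ((Additive.toMul (-w) : M) : G) • a₀
        rw [mul_smul, h3]; rfl
  have hcardV : Nat.card (Additive M) = Fintype.card α := by
    rw [Nat.card_eq_of_bijective β ⟨hβi, hβs⟩, Nat.card_eq_fintype_card]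
  have hdvd : Nat.card (Additive M) ∣ Nat.card G := M.card_subgroup_dvd_card
  have hq2 : q ≠ 2 := by
    rintro rfl
    obtain ⟨k, hk⟩ : ∃ k, Nat.card M = 2 ^ k := IsPGroup.iff_card.mp fun m => ⟨1, by rw [pow_one]; exact Subtype.ext (hexp _ m.2)⟩
    have hk0 : k ≠ 0 := fun h => hM (Subgroup.card_eq_one.mp (by rw [hk, h, pow_zero]))
    exact (Nat.not_even_iff_odd.mpr (hodd.of_dvd_nat M.card_subgroup_dvd_card)) (by rw [hk]; exact even_two.pow_of_ne_zero hk0)
  haveI : Group.IsSolvable (MulAction.stabilizer G a₀) := inferInstance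
  obtain ⟨f, hf, θ, hθ⟩ := CfsgLib.AfterFT.HalfTrans.exists_semilinear
    (hodd.of_dvd_nat (MulAction.stabilizer G a₀).card_subgroup_dvd_card) hq2 hE hpm
  have hcard : Fintype.card α = q ^ f := by
    rw [← hcardV, Nat.card_congr θ.toEquiv, GaloisField.card q f hf]
  have hchoose : Odd ((q ^ f).choose 2) := by
    have ne : Nonempty (Set.powersetCard α 2) := by
      obtain ⟨x, y, hxy⟩ := Fintype.exists_pair_of_one_lt_card (α := α) (by omega)
      exact ⟨Set.powersetCard.ofCard (s := {x, y}) (Finset.card_pair hxy)⟩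
    obtain ⟨s⟩ := ne
    refine hodd.of_dvd_nat ?_
    rw [← hcard, ← Nat.card_eq_fintype_card, ← Set.powersetCard.card, ← MulAction.index_stabilizer_of_transitive G s]
    exact Subgroup.index_dvd_card _
  have hmod : q ^ f % 4 = 3 := by
    have ho : Odd (q ^ f) := (hq.odd_of_ne_two hq2).pow
    obtain ⟨a, ha⟩ := ho
    rw [Nat.choose_two_right, ha, Nat.add_sub_cancel, show (2 * a + 1) * (2 * a) / 2 = (2 * a + 1) * a by
      rw [mul_left_comm, Nat.mul_div_cancel_left _ two_pos]] at hchoose
    obtain ⟨b, hb⟩ := (Nat.odd_mul.mp hchoose).2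
    omega
  let e : α ≃ GaloisField q f := (Equiv.ofBijective β ⟨hβi, hβs⟩).symm.trans θ.toEquiv
  have hev : ∀ v, e (β v) = θ v := fun v => by
    show θ ((Equiv.ofBijective β ⟨hβi, hβs⟩).symm (β v)) = θ v
    exact congrArg θ ((Equiv.ofBijective β ⟨hβi, hβs⟩).symm_apply_apply v)
  have htr : ∀ (n v : Additive M), ((Additive.toMul n : M) : G) • β v = β (n + v) := fun n v =>
    (mul_smul ((Additive.toMul n : M) : G) ((Additive.toMul v : M) : G) a₀).symm
  refine ⟨hodd, q, f, ⟨hq⟩, hq2, hcard, hmod, e, fun g => ?_, fun b => ?_⟩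
  · obtain ⟨n, r, rfl⟩ := hdec g
    obtain ⟨a, φ, ha⟩ := hθ r
    refine ⟨a, θ (Additive.ofMul n), φ, fun y => ?_⟩
    obtain ⟨v, rfl⟩ := θ.surjective y
    rw [← hev, Equiv.trans_apply, Equiv.trans_apply, Equiv.symm_apply_apply]
    show e (((n : G) * (r : G)) • β v) = _
    rw [mul_smul, ← hsmul]
    show e (((Additive.toMul (Additive.ofMul n) : M) : G) • β (r • v)) = _
    rw [htr, hev, map_add, ha, hev, add_comm]
  · refine ⟨((Additive.toMul (θ.symm b) : M) : G), fun x => ?_⟩
    obtain ⟨v, rfl⟩ := hβs x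
    show e (((Additive.toMul (θ.symm b) : M) : G) • β v) = _
    rw [htr, hev, hev, map_add, θ.apply_symm_apply, add_comm]

end Cfsg.Agent.S0737
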