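import Cfsg.Statements.S0752
import Mathlib

set_option autoImplicit false
open Cfsg

namespace Cfsg.Agent.S0752

theorem aux {F V : Type*} [Field F] [AddCommGroup V] [Module F V] [FiniteDimensional F V]
    (B : LinearMap.BilinForm F V) (hA : B.IsAlt) : ∀ (n : ℕ) (W : Submodule F V),
    Module.finrank F W = n → ∃ (m k : ℕ) (f : (Fin m ⊕ Fin m) ⊕ Fin k → V),
      (∀ i, f i ∈ W) ∧ m + m + k = n ∧ (W ≤ Submodule.span F (Set.range f)) ∧
      (∀ i j : Fin m, B (f (Sum.inl (Sum.inl i))) (f (Sum.inl (Sum.inr j))) = if i = j then 1 else 0) ∧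
      (∀ i j : Fin m, B (f (Sum.inl (Sum.inl i))) (f (Sum.inl (Sum.inl j))) = 0) ∧
      (∀ i j : Fin m, B (f (Sum.inl (Sum.inr i))) (f (Sum.inl (Sum.inr j))) = 0) ∧
      (∀ (j : Fin k), ∀ w ∈ W, B (f (Sum.inr j)) w = 0) := by
  intro n
  induction n using Nat.strong_induction_on with
  | _ n ih =>
    intro W hW
    classical
    by_cases hz : ∀ x ∈ W, ∀ y ∈ W, B x y = 0
    · let b := Module.finBasisOfFinrankEq F W hW
      refine ⟨0, n, Sum.elim (fun s => s.elim Fin.elim0 Fin.elim0) (fun j => (b j : V)), ?_, by simp,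
        ?_, fun i => i.elim0, fun i => i.elim0, fun i => i.elim0, fun j w hw => hz _ (b j).2 _ hw⟩
      · rintro ((i | i) | j)
        · exact i.elim0
        · exact i.elim0
        · exact (b j).2
      · intro x hx
        have h := b.sum_repr ⟨x, hx⟩
        have hx' : x = ∑ j, b.repr ⟨x, hx⟩ j • (b j : V) := by
          have h' := congrArg Subtype.val h
          simp only [Submodule.coe_sum, Submodule.coe_smul] at h'
          exact h'.symm
        rw [hx']
        exact Submodule.sum_mem _ fun j _ =>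
          Submodule.smul_mem _ _ (Submodule.subset_span ⟨Sum.inr j, rfl⟩)
    push Not at hz
    obtain ⟨e, he, y, hy, hey⟩ := hz
    set g := (B e y)⁻¹ • y with hg
    have hgW : g ∈ W := W.smul_mem _ hy
    have heg : B e g = 1 := by simp [hg, hey]
    have hge : B g e = -1 := by rw [← LinearMap.IsAlt.neg hA e g, heg]
    set W' : Submodule F V := W ⊓ (LinearMap.ker (B e) ⊓ LinearMap.ker (B g)) with hW'
    have mW' : ∀ x, x ∈ W' ↔ x ∈ W ∧ B e x = 0 ∧ B g x = 0 := fun x => by simp [hW']
    let L : (F × F) × W' →ₗ[F] W :=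
      { toFun := fun p => ⟨p.1.1 • e + p.1.2 • g + (p.2 : V),
          W.add_mem (W.add_mem (W.smul_mem _ he) (W.smul_mem _ hgW)) ((mW' _).mp p.2.2).1⟩
        map_add' := fun p q => by
          apply Subtype.ext
          simp only [Prod.fst_add, Prod.snd_add, add_smul, Submodule.coe_add]
          abel
        map_smul' := fun c p => by
          apply Subtype.ext
          simp [smul_add, mul_smul] }
    have hLi : Function.Injective L := by
      rw [injective_iff_map_eq_zero]
      rintro ⟨⟨a, c⟩, w, hw⟩ h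
      have h0 : a • e + c • g + w = 0 := congrArg Subtype.val h
      obtain ⟨-, hew, hgw⟩ := (mW' w).mp hw
      have h1 := congrArg (B e) h0
      have h2 := congrArg (B g) h0
      simp [heg, hge, hew, hgw, hA e, hA g] at h1 h2
      subst h1 h2
      simp at h0
      simp [h0]
    have hdec : ∀ x ∈ W, x - (-(B g x)) • e - (B e x) • g ∈ W' := by
      intro x hx
      rw [mW']
      refine ⟨W.sub_mem (W.sub_mem hx (W.smul_mem _ he)) (W.smul_mem _ hgW), ?_, ?_⟩
      · simp [heg, hA e]
      · simp [hge, hA g]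
    have hLs : Function.Surjective L := fun x =>
      ⟨((-(B g (x : V)), B e (x : V)), ⟨_, hdec x x.2⟩), Subtype.ext (by
        show (-(B g (x : V))) • e + (B e (x : V)) • g + _ = (x : V)
        simp only
        abel)⟩
    have hfr : 2 + Module.finrank F W' = n := by
      rw [← hW, ← (LinearEquiv.ofBijective L ⟨hLi, hLs⟩).finrank_eq, Module.finrank_prod,
        Module.finrank_prod, Module.finrank_self]
    obtain ⟨m, k, f, hf, hn, hsp, h1, h2, h3, h4⟩ := ih _ (by omega) W' rfl
    refine ⟨m + 1, k, Sum.elim (Sum.elim (Fin.cons e fun i => f (Sum.inl (Sum.inl i)))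
      (Fin.cons g fun i => f (Sum.inl (Sum.inr i)))) (fun j => f (Sum.inr j)), ?_, by omega, ?_,
      ?_, ?_, ?_, ?_⟩
    · rintro ((i | i) | j)
      · refine Fin.cases he (fun i => ?_) i
        simpa using ((mW' _).mp (hf _)).1
      · refine Fin.cases hgW (fun i => ?_) i
        simpa using ((mW' _).mp (hf _)).1
      · exact ((mW' _).mp (hf _)).1
    · intro x hx
      have hxd : x = (-(B g x)) • e + (B e x) • g + (x - (-(B g x)) • e - (B e x) • g) := by abel
      rw [hxd]
      refine add_mem (add_mem (Submodule.smul_mem _ _ ?_) (Submodule.smul_mem _ _ ?_)) ?_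
      · exact Submodule.subset_span ⟨Sum.inl (Sum.inl 0), by simp⟩
      · exact Submodule.subset_span ⟨Sum.inl (Sum.inr 0), by simp⟩
      · refine Submodule.span_mono ?_ (hsp (hdec x hx))
        rintro _ ⟨((i | i) | j), rfl⟩
        · exact ⟨Sum.inl (Sum.inl i.succ), by simp⟩
        · exact ⟨Sum.inl (Sum.inr i.succ), by simp⟩
        · exact ⟨Sum.inr j, rfl⟩
    · intro i j
      refine Fin.cases ?_ (fun i => ?_) i <;> refine Fin.cases ?_ (fun j => ?_) j
      · simp [heg]
      · simp [((mW' _).mp (hf (Sum.inl (Sum.inr j)))).2.1, Ne.symm (Fin.succ_ne_zero j)]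
      · have := ((mW' _).mp (hf (Sum.inl (Sum.inl i)))).2.2
        simp [hA.isRefl g _ this, Fin.succ_ne_zero]
      · simp [h1]
    · intro i j
      refine Fin.cases ?_ (fun i => ?_) i <;> refine Fin.cases ?_ (fun j => ?_) j
      · simp [hA e]
      · simp [((mW' _).mp (hf (Sum.inl (Sum.inl j)))).2.1]
      · simp [hA.isRefl e _ ((mW' _).mp (hf (Sum.inl (Sum.inl i)))).2.1]
      · simp [h2]
    · intro i j
      refine Fin.cases ?_ (fun i => ?_) i <;> refine Fin.cases ?_ (fun j => ?_) j
      · simp [hA g]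
      · simp [((mW' _).mp (hf (Sum.inl (Sum.inr j)))).2.2]
      · simp [hA.isRefl g _ ((mW' _).mp (hf (Sum.inl (Sum.inr i)))).2.2]
      · simp [h3]
    · intro j x hx
      have hw := h4 j _ (hdec x hx)
      obtain ⟨-, hje, hjg⟩ := (mW' _).mp (hf (Sum.inr j))
      simpa [hA.isRefl e _ hje, hA.isRefl g _ hjg] using hw


/-- Classification of alternating forms: for an alternating bilinear form B on a finite-dimensional space over any field there is a basis indexed by (Fin m ⊕ Fin m) ⊕ Fin k such that B (e_i, f_j) = δ_ij, the e's are pairwise orthogonal, the f's are pairwise orthogonal, and the last k basis vectors are orthogonal to everything (they span the radical). -/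
theorem result {F V : Type*} [Field F] [AddCommGroup V] [Module F V] [FiniteDimensional F V] (B : LinearMap.BilinForm F V) (hA : B.IsAlt) : ∃ (m k : ℕ) (b : Module.Basis ((Fin m ⊕ Fin m) ⊕ Fin k) F V), (∀ i j : Fin m, B (b (Sum.inl (Sum.inl i))) (b (Sum.inl (Sum.inr j))) = if i = j then 1 else 0) ∧ (∀ i j : Fin m, B (b (Sum.inl (Sum.inl i))) (b (Sum.inl (Sum.inl j))) = 0) ∧ (∀ i j : Fin m, B (b (Sum.inl (Sum.inr i))) (b (Sum.inl (Sum.inr j))) = 0) ∧ (∀ (j : Fin k) (v : V), B (b (Sum.inr j)) v = 0) := by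
  classical
  obtain ⟨m, k, f, -, hn, hsp, h1, h2, h3, h4⟩ := aux B hA _ ⊤ (finrank_top F V)
  let b := basisOfTopLeSpanOfCardEqFinrank f hsp (by simp [← hn])
  have hb : ∀ i, b i = f i := fun i => by simp [b]
  exact ⟨m, k, b, fun i j => by rw [hb, hb, h1], fun i j => by rw [hb, hb, h2],
    fun i j => by rw [hb, hb, h3], fun j v => by rw [hb]; exact h4 j v trivial⟩

end Cfsg.Agent.S0752
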