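import Cfsg.Statements.S0753
import Mathlib

set_option autoImplicit false
open Cfsg

namespace Cfsg.Agent.S0753



/-- If σ is a ring endomorphism of the field F other than the identity and B is a σ-sesquilinear conjugate-symmetric form with B v v = 0 for every v, then B = 0. -/
theorem result {F V : Type*} [Field F] [AddCommGroup V] [Module F V] (σ : F →+* F) (hσ : σ ≠ RingHom.id F) (B : V →ₛₗ[σ] V →ₗ[F] F) (hS : B.IsSymm) (h0 : ∀ v : V, B v v = 0) : B = 0 := by
  have hskew : ∀ x y, B x y = - B y x := by
    intro x y
    have := h0 (x + y)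
    simp only [map_add, LinearMap.add_apply, h0, zero_add, add_zero] at this
    exact eq_neg_of_add_eq_zero_left (by rw [add_comm]; exact this)
  ext x y
  simp only [LinearMap.zero_apply]
  by_contra hb
  have hσb : ∀ u w, σ (B u w) = - B u w := by
    intro u w; rw [hS.eq u w]; exact hskew w u
  apply hσ
  ext a
  have h1 := hσb (a • x) y
  rw [B.map_smulₛₗ, LinearMap.smul_apply, smul_eq_mul, map_mul, hσb x y, mul_neg, neg_inj] at h1
  exact σ.injective (mul_right_cancel₀ hb h1)

end Cfsg.Agent.S0753
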