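import Cfsg.Statements.S0754
import Mathlib

set_option autoImplicit false
open Cfsg

namespace Cfsg.Agent.S0754



/-- In a field F with q^2 elements, every non-zero μ with μ^q = μ (that is, μ in the subfield of order q) has exactly q + 1 solutions λ of λ^(q+1) = μ. -/
theorem result {F : Type*} [Field F] [Fintype F] {q : ℕ} (hF : Fintype.card F = q ^ 2) (μ : F) (hμ : μ ≠ 0) (hμq : μ ^ q = μ) : Nat.card {x : F // x ^ (q + 1) = μ} = q + 1 := by
  classical
  have hq1 : 1 ≤ q := by
    rcases Nat.eq_zero_or_pos q with h | h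
    · subst h; simp at hF
    · exact h
  have hcardU : Nat.card Fˣ = q ^ 2 - 1 := by
    rw [Nat.card_eq_fintype_card, Fintype.card_units, hF]
  have hfac : q ^ 2 - 1 = (q + 1) * (q - 1) := by
    obtain ⟨r, rfl⟩ := Nat.exists_eq_add_of_le hq1
    have e : (1 + r) ^ 2 = (1 + r + 1) * (1 + r - 1) + 1 := by
      simp only [Nat.add_sub_cancel_left]; ring
    omega
  let f : Fˣ →* Fˣ := powMonoidHom (q + 1)
  let g : Fˣ →* Fˣ := powMonoidHom (q - 1)
  have hle : f.range ≤ g.ker := by
    rintro x ⟨y, rfl⟩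
    show (y ^ (q + 1)) ^ (q - 1) = 1
    rw [← pow_mul, ← hfac, ← hcardU, pow_card_eq_one']
  have hrange : f.range = g.ker := by
    apply Subgroup.eq_of_le_of_card_ge hle
    rw [IsCyclic.card_powMonoidHom_range, IsCyclic.card_powMonoidHom_ker, hcardU, hfac,
      Nat.gcd_mul_right_left, Nat.gcd_mul_left_left]
    · rw [Nat.mul_div_cancel_left _ (by omega)]
  have hker : Nat.card f.ker = q + 1 := by
    rw [IsCyclic.card_powMonoidHom_ker, hcardU, hfac, Nat.gcd_mul_right_left]
  have hu : Units.mk0 μ hμ ∈ f.range := by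
    rw [hrange]
    show (Units.mk0 μ hμ) ^ (q - 1) = 1
    apply Units.ext
    push_cast
    have : μ * μ ^ (q - 1) = μ * 1 := by
      rw [← pow_succ', Nat.sub_add_cancel hq1, hμq, mul_one]
    exact mul_left_cancel₀ hμ this
  obtain ⟨y, hy⟩ := hu
  have hy' : (y : F) ^ (q + 1) = μ := by
    have := congrArg (Units.val) hy
    simpa [f] using this
  let e : {x : F // x ^ (q + 1) = μ} ≃ f.ker :=
    { toFun := fun x => ⟨Units.mk0 x.1 (by
          intro h0; have := x.2; rw [h0, zero_pow (by omega)] at this; exact hμ this.symm) * y⁻¹, by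
        rw [MonoidHom.mem_ker, map_mul, map_inv, mul_inv_eq_one]
        apply Units.ext
        simp [f, x.2, hy']⟩
      invFun := fun k => ⟨((k.1 * y : Fˣ) : F), by
        have hk : (k.1 : Fˣ) ^ (q + 1) = 1 := k.2
        rw [Units.val_mul, mul_pow, hy', ← Units.val_pow_eq_pow_val, hk, Units.val_one, one_mul]⟩
      left_inv := fun x => by ext; simp
      right_inv := fun k => by
        apply Subtype.ext; apply Units.ext; simp }
  rw [Nat.card_congr e, hker]

end Cfsg.Agent.S0754
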