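import Cfsg.Statements.S0755
import Mathlib

set_option autoImplicit false
open Cfsg

namespace Cfsg.Agent.S0755

theorem norm_surj {F : Type*} [Field F] [Finite F] (σ : F →+* F) (hσ : σ ≠ RingHom.id F)
    (hσ2 : ∀ a : F, σ (σ a) = a) {c : F} (hc : σ c = c) (hc0 : c ≠ 0) :
    ∃ a : F, σ a * a = c := by
  classical
  have := Fintype.ofFinite F
  let s : Fˣ →* Fˣ := Units.map (σ : F →* F)
  have hs : ∀ u : Fˣ, ((s u : Fˣ) : F) = σ u := fun u => rfl
  let Fix : Subgroup Fˣ := MonoidHom.eqLocus s (MonoidHom.id _)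
  have mFix : ∀ u : Fˣ, u ∈ Fix ↔ σ u = u := fun u => by
    show s u = u ↔ _
    rw [Units.ext_iff, hs]
  let N : Fˣ →* Fˣ := s * MonoidHom.id _
  let D : Fˣ →* Fˣ := s / MonoidHom.id _
  have hle : N.range ≤ Fix := by
    rintro _ ⟨u, rfl⟩
    rw [mFix]
    simp [N, hs, hσ2, mul_comm]
  have hD : D.ker = Fix := by
    ext u
    show s u / u = 1 ↔ s u = u
    exact div_eq_one
  have hrange : N.ker ≤ D.range := by
    intro u hu
    have hu' : σ u * u = 1 := by simpa [N, Units.ext_iff, hs] using hu
    obtain ⟨a, ha, hσa⟩ : ∃ a : F, a ≠ 0 ∧ σ a = u * a := by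
      by_cases h : (u : F) = -1
      · obtain ⟨x, hx⟩ : ∃ x, σ x ≠ x := by
          by_contra hh
          push Not at hh
          exact hσ (RingHom.ext hh)
        exact ⟨x - σ x, sub_ne_zero.mpr hx.symm, by rw [map_sub, hσ2, h]; ring⟩
      · refine ⟨1 + σ u, fun h0 => h ?_, by rw [map_add, map_one, hσ2]; linear_combination -hu'⟩
        have := congrArg σ h0
        rw [map_add, map_one, hσ2, map_zero] at this
        linear_combination this
    refine ⟨Units.mk0 a ha, ?_⟩
    ext
    simp [D, div_eq_mul_inv, hs, hσa, ha]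
  have key : ∀ f : Fˣ →* Fˣ, Nat.card f.range * Nat.card f.ker = Nat.card Fˣ := fun f => by
    rw [← Subgroup.index_ker, mul_comm, Subgroup.card_mul_index]
  have hN := key N
  have hD' := key D
  rw [hD] at hD'
  have h1 : Nat.card N.ker ≤ Nat.card D.range := Subgroup.card_le_of_le hrange
  have h2 : Nat.card Fix ≤ Nat.card N.range := by
    have : Nat.card Fix * Nat.card N.ker ≤ Nat.card N.range * Nat.card N.ker := by
      calc _ ≤ Nat.card Fix * Nat.card D.range := Nat.mul_le_mul_left _ h1
        _ = _ := by rw [mul_comm, hD', hN]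
    exact Nat.le_of_mul_le_mul_right this Nat.card_pos
  have heq := Subgroup.eq_of_le_of_card_ge hle h2
  obtain ⟨a, ha⟩ : Units.mk0 c hc0 ∈ N.range := by rw [heq, mFix]; exact hc
  exact ⟨a, by simpa [N, Units.ext_iff, hs] using ha⟩

theorem aux {F V : Type*} [Field F] [Finite F] [AddCommGroup V] [Module F V]
    [FiniteDimensional F V] (σ : F →+* F) (hσ : σ ≠ RingHom.id F) (hσ2 : ∀ a : F, σ (σ a) = a)
    (B : V →ₛₗ[σ] V →ₗ[F] F) (hS : B.IsSymm) : ∀ (n : ℕ) (W : Submodule F V),
    Module.finrank F W = n → (∀ x ∈ W, (∀ y ∈ W, B x y = 0) → x = 0) →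
    ∃ f : Fin n → V, (∀ i, f i ∈ W) ∧ ∀ i j, B (f i) (f j) = if i = j then 1 else 0 := by
  intro n
  induction n with
  | zero => exact fun W _ _ => ⟨Fin.elim0, fun i => i.elim0, fun i => i.elim0⟩
  | succ n ih =>
    intro W hW hnd
    have := Module.nontrivial_of_finrank_pos (R := F) (M := W) (by omega)
    obtain ⟨x₀, hx₀⟩ := exists_ne (0 : W)
    obtain ⟨v, hv, hvv⟩ : ∃ v ∈ W, B v v ≠ 0 := by
      by_contra hh
      push Not at hh
      obtain ⟨y, hy, hxy⟩ : ∃ y ∈ W, B (x₀ : V) y ≠ 0 := by
        by_contra h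
        push Not at h
        exact hx₀ (Subtype.ext (hnd _ x₀.2 h))
      set w := (B (x₀ : V) y)⁻¹ • y
      have hxw : B (x₀ : V) w = 1 := by simp [w, hxy]
      have hwx : B w (x₀ : V) = 1 := by rw [← hS.eq, hxw, map_one]
      have key : ∀ a : F, σ a + a = 0 := fun a => by
        have h := hh (a • (x₀ : V) + w) (W.add_mem (W.smul_mem _ x₀.2) (W.smul_mem _ hy))
        simp only [map_add, LinearMap.map_smulₛₗ, LinearMap.add_apply, LinearMap.smul_apply,
          hh _ x₀.2, hh w (W.smul_mem _ hy), hxw, hwx, smul_eq_mul, RingHom.id_apply] at h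
        linear_combination h
      have h2 : (2 : F) = 0 := by simpa [one_add_one_eq_two] using key 1
      exact hσ (RingHom.ext fun a => by
        show σ a = a
        linear_combination key a - a * h2)
    obtain ⟨a, ha⟩ := norm_surj σ hσ hσ2 (c := (B v v)⁻¹) (by rw [map_inv₀, hS.eq]) (inv_ne_zero hvv)
    set e := a • v
    have heW : e ∈ W := W.smul_mem _ hv
    have hee : B e e = 1 := by
      simp only [e, LinearMap.map_smulₛₗ, LinearMap.smul_apply, smul_eq_mul, RingHom.id_apply]
      rw [show a * (σ a * B v v) = σ a * a * B v v by ring, ha, inv_mul_cancel₀ hvv]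
    set φ : W →ₗ[F] F := (B e).comp W.subtype with hφ
    set W' : Submodule F V := (LinearMap.ker φ).map W.subtype with hW'
    have mW' : ∀ x, x ∈ W' ↔ x ∈ W ∧ B e x = 0 := fun x => by
      simp [hW', hφ, LinearMap.mem_ker, and_comm]
    have hfr : Module.finrank F W' = n := by
      rw [hW', Submodule.finrank_map_subtype_eq]
      have h := LinearMap.finrank_range_add_finrank_ker φ
      rw [hW, LinearMap.range_eq_top.mpr (fun c => ⟨c • ⟨e, heW⟩, by simp [hφ, hee]⟩),
        finrank_top, Module.finrank_self] at h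
      omega
    obtain ⟨f, hf, hff⟩ := ih W' hfr fun x hx h => hnd x ((mW' x).mp hx).1 fun y hy => by
      have hxe : B x e = 0 := by rw [← hS.eq, ((mW' x).mp hx).2, map_zero]
      have h' := h (y - B e y • e) ((mW' _).mpr
        ⟨W.sub_mem hy (W.smul_mem _ heW), by simp [hee]⟩)
      simpa [hxe] using h'
    refine ⟨Fin.cons e f, fun i => ?_, fun i j => ?_⟩
    · refine Fin.cases heW (fun i => ?_) i
      simpa using ((mW' _).mp (hf i)).1
    · refine Fin.cases ?_ (fun i => ?_) i <;> refine Fin.cases ?_ (fun j => ?_) j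
      · simp [hee]
      · simp [((mW' _).mp (hf j)).2, Ne.symm (Fin.succ_ne_zero j)]
      · rw [Fin.cons_succ, Fin.cons_zero, ← hS.eq, ((mW' _).mp (hf i)).2, map_zero,
          if_neg (Fin.succ_ne_zero i)]
      · simp [hff]


/-- Classification of Hermitian forms over finite fields: if σ is a non-identity involutive automorphism of the finite field F and B is a non-degenerate conjugate-symmetric σ-sesquilinear form on the finite-dimensional space V, then V has a B-orthonormal basis. -/
theorem result {F V : Type*} [Field F] [Finite F] [AddCommGroup V] [Module F V] [FiniteDimensional F V] (σ : F →+* F) (hσ : σ ≠ RingHom.id F) (hσ2 : ∀ a : F, σ (σ a) = a) (B : V →ₛₗ[σ] V →ₗ[F] F) (hS : B.IsSymm) (hB : B.Nondegenerate) : ∃ b : Module.Basis (Fin (Module.finrank F V)) F V, ∀ i j, B (b i) (b j) = if i = j then 1 else 0 := by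
  classical
  obtain ⟨f, -, hf⟩ := aux σ hσ hσ2 B hS _ ⊤ (finrank_top F V) fun x _ h => hB.1 x fun y => h y trivial
  have hli : LinearIndependent F f := by
    rw [Fintype.linearIndependent_iff]
    intro g hg i
    have := congrArg (B (f i)) hg
    simpa [hf] using this
  refine ⟨basisOfLinearIndependentOfCardEqFinrank' f hli (by simp), fun i j => ?_⟩
  simp [hf]

end Cfsg.Agent.S0755
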