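import Cfsg.Statements.S0756
import Mathlib
import Cfsg.Agent.Lib.FiniteForms.Witt
import Cfsg.Agent.Lib.FiniteForms.Quad

set_option autoImplicit false
open Cfsg

namespace Cfsg.Agent.S0756



/-- Classification of symmetric bilinear forms over finite fields of odd characteristic: if B is non-degenerate symmetric on V of dimension n + 1 and α is a fixed non-square of F, there is an orthogonal basis b_0, ..., b_n with B(b_i, b_i) = 1 for i < n and B(b_n, b_n) ∈ {1, α}. -/
theorem result {F V : Type*} [Field F] [Finite F] [AddCommGroup V] [Module F V] [FiniteDimensional F V] (h2 : (2 : F) ≠ 0) (B : LinearMap.BilinForm F V) (hS : B.IsSymm) (hB : B.Nondegenerate) {n : ℕ} (hn : Module.finrank F V = n + 1) (α : F) (hα : ¬ IsSquare α) : ∃ b : Module.Basis (Fin (n + 1)) F V, (∀ i j, i ≠ j → B (b i) (b j) = 0) ∧ (∀ i, i ≠ Fin.last n → B (b i) (b i) = 1) ∧ (B (b (Fin.last n)) (b (Fin.last n)) = 1 ∨ B (b (Fin.last n)) (b (Fin.last n)) = α) := by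
  classical
  open CfsgLib.FiniteForms in
  exact by
    let b₀ : Module.Basis (Fin (n + 1)) F V := Module.finBasisOfFinrankEq F V hn
    set G := LinearMap.BilinForm.toMatrix b₀ B with hG
    have hGs : G.IsSymm := Matrix.IsSymm.ext fun i j => by
      simp only [hG, LinearMap.BilinForm.toMatrix_apply]
      exact (hS.eq (b₀ j) (b₀ i))
    have hG0 : G.det ≠ 0 :=
      Matrix.nondegenerate_iff_det_ne_zero.mp
        ((LinearMap.BilinForm.nondegenerate_toMatrix_iff b₀).mpr hB)
    have hα0 : α ≠ 0 := fun h => hα (h ▸ IsSquare.zero)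
    obtain ⟨γ, hγ, hsq⟩ : ∃ γ, (γ = 1 ∨ γ = α) ∧ IsSquare (G.det * γ) := by
      by_cases h : IsSquare G.det
      · exact ⟨1, Or.inl rfl, by rwa [mul_one]⟩
      · exact ⟨α, Or.inr rfl, (isSquare_mul_iff hG0 hα0).mpr (iff_of_false h hα)⟩
    have hγ0 : γ ≠ 0 := by
      rcases hγ with rfl | rfl
      · exact one_ne_zero
      · exact hα0
    set H : Matrix (Fin (n + 1)) (Fin (n + 1)) F :=
      Matrix.diagonal (Function.update 1 (Fin.last n) γ)
    have hHd : H.det = γ := by
      rw [Matrix.det_diagonal, Finset.prod_update_of_mem (Finset.mem_univ _)]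
      simp
    obtain ⟨P, hP, hPe⟩ := (congr_iff h2 hGs (Matrix.isSymm_diagonal _) hG0
      (by rw [hHd]; exact hγ0)).mpr (by rw [hHd]; exact hsq)
    let e := Matrix.toLinearEquiv b₀ P (isUnit_iff_ne_zero.mpr hP)
    let b := b₀.map e
    have hbP : b₀.toMatrix ⇑b = P := by
      ext i j
      rw [Module.Basis.toMatrix_apply, Module.Basis.map_apply]
      show b₀.repr (Matrix.toLin b₀ b₀ P (b₀ j)) i = _
      rw [← LinearMap.toMatrix_apply b₀ b₀ (Matrix.toLin b₀ b₀ P), LinearMap.toMatrix_toLin]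
    have hb : ∀ i j, B (b i) (b j) = H i j := by
      intro i j
      rw [← LinearMap.BilinForm.toMatrix_apply b B i j,
        ← LinearMap.BilinForm.toMatrix_mul_basis_toMatrix b₀ b B, hbP, ← hG, hPe]
    refine ⟨b, fun i j h => ?_, fun i h => ?_, ?_⟩
    · rw [hb]; simp only [H]; rw [Matrix.diagonal_apply_ne _ h]
    · rw [hb]; simp only [H]; rw [Matrix.diagonal_apply_eq, Function.update_of_ne h]; rfl
    · rw [hb]; simp only [H]; rw [Matrix.diagonal_apply_eq, Function.update_self]; exact hγ

end Cfsg.Agent.S0756
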