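import Cfsg.Statements.S0757
import Mathlib
import Cfsg.Agent.Lib.FiniteForms.Witt
import Cfsg.Agent.Lib.FiniteForms.Quad

set_option autoImplicit false
open Cfsg

namespace Cfsg.Agent.S0757



/-- The two diagonal forms Σ x_i^2 and Σ_(i<n) x_i^2 + α x_n^2 on F^(n+1), with α a non-square and 2 ≠ 0 in F, are inequivalent quadratic forms (so over a finite field of odd order there are exactly two classes of non-singular symmetric bilinear forms in each dimension). -/
theorem result {F : Type*} [Field F] (h2 : (2 : F) ≠ 0) (n : ℕ) (α : F) (hα : ¬ IsSquare α) : ¬ (QuadraticMap.weightedSumSquares F (fun _ : Fin (n + 1) => (1 : F))).Equivalent (QuadraticMap.weightedSumSquares F (fun i : Fin (n + 1) => if i = Fin.last n then α else (1 : F))) := by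
  classical
  rintro ⟨g⟩
  have hc := CfsgLib.FiniteForms.congr_of_isometry _ _ g.toLinearEquiv g.map_app
  obtain ⟨p, hp, hd⟩ := hc.det_eq
  have hdet : ∀ w : Fin (n + 1) → F,
      (CfsgLib.FiniteForms.polarMat ⇑(QuadraticMap.weightedSumSquares F w)).det
        = (2 : F) ^ (n + 1) * ∏ i, w i := by
    intro w
    have : CfsgLib.FiniteForms.polarMat ⇑(QuadraticMap.weightedSumSquares F w)
        = Matrix.diagonal (fun i => 2 * w i) := by
      ext i j
      simp only [CfsgLib.FiniteForms.polarMat, Matrix.of_apply, QuadraticMap.polar,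
        QuadraticMap.weightedSumSquares_apply, Pi.add_apply, ← Finset.sum_sub_distrib]
      rcases eq_or_ne i j with rfl | h
      · rw [Matrix.diagonal_apply_eq, Finset.sum_eq_single i]
        · simp only [Pi.single_eq_same, smul_eq_mul]; ring
        · intro b _ hb; simp [hb]
        · simp
      · rw [Matrix.diagonal_apply_ne _ h]
        refine Finset.sum_eq_zero fun b _ => ?_
        rcases eq_or_ne b i with rfl | hb
        · simp [h]
        · simp [hb]
    rw [this, Matrix.det_diagonal, Finset.prod_mul_distrib, Finset.prod_const, Finset.card_univ,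
      Fintype.card_fin]
  rw [hdet, hdet, Finset.prod_const_one, Finset.prod_ite_eq' Finset.univ (Fin.last n) (fun _ => α),
    if_pos (Finset.mem_univ _), mul_one] at hd
  refine hα ⟨p⁻¹, ?_⟩
  have h2n : (2 : F) ^ (n + 1) ≠ 0 := pow_ne_zero _ h2
  field_simp
  exact mul_left_cancel₀ h2n (by linear_combination -hd)

end Cfsg.Agent.S0757
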