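import Cfsg.Statements.S0758
import Mathlib
import Cfsg.Agent.Lib.FiniteForms.Witt
import Cfsg.Agent.Lib.FiniteForms.Quad

set_option autoImplicit false
open Cfsg

namespace Cfsg.Agent.S0758



/-- For a finite field F of odd order q and a non-square α: the form x² + y² is isotropic iff q ≡ 1 mod 4, and the form x² + α y² is isotropic iff q ≡ 3 mod 4. -/
theorem result {F : Type*} [Field F] [Fintype F] (h2 : (2 : F) ≠ 0) (α : F) (hα : ¬ IsSquare α) : ((∃ x y : F, (x ≠ 0 ∨ y ≠ 0) ∧ x ^ 2 + y ^ 2 = 0) ↔ Fintype.card F % 4 = 1) ∧ ((∃ x y : F, (x ≠ 0 ∨ y ≠ 0) ∧ x ^ 2 + α * y ^ 2 = 0) ↔ Fintype.card F % 4 = 3) := by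
  classical
  have key : ∀ c : F, c ≠ 0 →
      ((∃ x y : F, (x ≠ 0 ∨ y ≠ 0) ∧ x ^ 2 + c * y ^ 2 = 0) ↔ IsSquare (-c)) := by
    intro c hc
    constructor
    · rintro ⟨x, y, hne, h⟩
      have hy : y ≠ 0 := by
        rintro rfl
        simp at h
        simp [h] at hne
      exact ⟨x / y, by field_simp; linear_combination (-1 : F) * h⟩
    · rintro ⟨t, ht⟩
      exact ⟨t, 1, Or.inr one_ne_zero, by linear_combination -ht⟩
  have hα0 : α ≠ 0 := fun h => hα (h ▸ IsSquare.zero)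
  have hodd : Fintype.card F % 2 = 1 := by
    apply FiniteField.odd_card_of_char_ne_two
    intro hc
    haveI := ringChar.of_eq hc
    exact h2 (CharTwo.two_eq_zero)
  have hm1 := FiniteField.isSquare_neg_one_iff (F := F)
  have e1 : ∀ x y : F, x ^ 2 + y ^ 2 = x ^ 2 + 1 * y ^ 2 := fun x y => by rw [one_mul]
  simp only [e1]
  rw [key 1 one_ne_zero, key α hα0, hm1]
  refine ⟨⟨fun h => by omega, fun h => by omega⟩, ?_⟩
  rw [show -α = -1 * α by ring,
    CfsgLib.FiniteForms.isSquare_mul_iff (neg_ne_zero.mpr one_ne_zero) hα0, hm1]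
  exact ⟨fun h => by
    by_contra h3
    exact hα (h.mp h3), fun h => ⟨fun h' => absurd h h', fun h' => absurd h' hα⟩⟩

end Cfsg.Agent.S0758
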