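import Cfsg.Statements.S0759
import Mathlib
import Cfsg.Agent.Lib.BilinLag

set_option autoImplicit false
open Cfsg

namespace Cfsg.Agent.S0759



/-- Type of the orthonormal form: over a finite field of odd order q and for m ≥ 1, the quadratic form Σ_(i<2m) x_i² on F^(2m) admits an m-dimensional subspace on which it vanishes identically if and only if it is not the case that q ≡ 3 (mod 4) and m is odd. -/
theorem result {F : Type*} [Field F] [Fintype F] (h2 : (2 : F) ≠ 0) (m : ℕ) (hm : 1 ≤ m) : (∃ W : Submodule F (Fin (2 * m) → F), Module.finrank F W = m ∧ ∀ w ∈ W, ∑ i, w i ^ 2 = 0) ↔ ¬ (Fintype.card F % 4 = 3 ∧ Odd m) := by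
  classical
  let B : LinearMap.BilinForm F (Fin (2 * m) → F) := Matrix.toBilin' (1 : Matrix (Fin (2 * m)) (Fin (2 * m)) F)
  have hBa : ∀ x y, B x y = ∑ i, x i * y i := fun x y => by
    simp [B, Matrix.toBilin'_apply', dotProduct]
  have hS : B.IsSymm := ⟨fun x y => by simp [hBa, mul_comm]⟩
  have hdet : (LinearMap.BilinForm.toMatrix (Pi.basisFun F (Fin (2 * m))) B).det = 1 := by
    rw [LinearMap.BilinForm.toMatrix_basisFun, LinearMap.BilinForm.toMatrix'_toBilin', Matrix.det_one]
  have h := CfsgLib.BilinLag.hasLag_iff h2 (m := m) (Pi.basisFun F (Fin (2 * m))) (by simp) B hS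
    (by rw [hdet]; exact one_ne_zero)
  rw [hdet, mul_one] at h
  have hiff : (∃ W : Submodule F (Fin (2 * m) → F), Module.finrank F W = m ∧ ∀ w ∈ W, ∑ i, w i ^ 2 = 0) ↔
      CfsgLib.BilinLag.HasLag B m := by
    refine exists_congr fun W => and_congr_right fun _ => ⟨fun hw x hx y hy => ?_, fun hw w hw' => ?_⟩
    · have h1 := hw _ (W.add_mem hx hy)
      have hxx := hw x hx
      have hyy := hw y hy
      have : (2 : F) * B x y = 0 := by
        rw [hBa, Finset.mul_sum]
        simp only [Pi.add_apply, add_sq, Finset.sum_add_distrib, hxx, hyy, zero_add, add_zero] at h1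
        rw [← h1]
        exact Finset.sum_congr rfl fun i _ => by ring
      exact (mul_eq_zero.mp this).resolve_left h2
    · rw [← hw w hw' w hw', hBa]
      exact Finset.sum_congr rfl fun i _ => pow_two _
  rw [hiff, h]
  rcases Nat.even_or_odd m with he | ho
  · simp [he.neg_one_pow, Nat.not_odd_iff_even.mpr he]
  · rw [ho.neg_one_pow, FiniteField.isSquare_neg_one_iff]
    simp [ho]

end Cfsg.Agent.S0759
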