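import Cfsg.Statements.S0760
import Mathlib
import Cfsg.Agent.Lib.WittExtension

set_option autoImplicit false
open Cfsg

namespace Cfsg.Agent.S0760

theorem dim_eq {F V : Type*} [Field F] [AddCommGroup V] [Module F V] [FiniteDimensional F V]
    (Q : QuadraticForm F V) (hQ : (QuadraticMap.polarBilin Q).Nondegenerate)
    (W₁ W₂ : Submodule F V) (h₁ : ∀ w ∈ W₁, Q w = 0) (h₂ : ∀ w ∈ W₂, Q w = 0)
    (hmax₁ : ∀ W : Submodule F V, W₁ ≤ W → (∀ w ∈ W, Q w = 0) → W = W₁)
    (hle : Module.finrank F W₁ ≤ Module.finrank F W₂) :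
    Module.finrank F W₁ = Module.finrank F W₂ := by
  obtain ⟨ψ, hψ⟩ := finrank_le_iff_exists_linearMap.mp hle
  obtain ⟨g, hg, hgX⟩ := CfsgLib.WittExtension.quad_extend Q hQ W₁ (W₂.subtype.comp ψ)
    (Subtype.val_injective.comp hψ) (fun x => by
      simp only [LinearMap.comp_apply, Submodule.subtype_apply]
      rw [h₂ _ (ψ x).2, h₁ _ x.2])
  have hW : W₂.map (g.symm : V →ₗ[F] V) = W₁ := by
    refine hmax₁ _ (fun x hx => ⟨g x, ?_, g.symm_apply_apply x⟩) ?_
    · have := hgX ⟨x, hx⟩
      simp only at this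
      rw [SetLike.mem_coe, this]
      exact (ψ ⟨x, hx⟩).2
    · rintro _ ⟨w, hw, rfl⟩
      show Q (g.symm w) = 0
      rw [← hg, g.apply_symm_apply, h₂ w hw]
  rw [← hW]
  exact LinearEquiv.finrank_map_eq g.symm W₂


/-- Witt index is well defined: if Q is a quadratic form on a finite-dimensional space V over a finite field with non-degenerate polar form, and W₁, W₂ are subspaces on which Q vanishes that are maximal with this property, then W₁ and W₂ have the same dimension, and twice this dimension is at most dim V. -/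
theorem result {F V : Type*} [Field F] [Finite F] [AddCommGroup V] [Module F V] [FiniteDimensional F V] (Q : QuadraticForm F V) (hQ : (QuadraticMap.polarBilin Q).Nondegenerate) (W₁ W₂ : Submodule F V) (h₁ : ∀ w ∈ W₁, Q w = 0) (h₂ : ∀ w ∈ W₂, Q w = 0) (hmax₁ : ∀ W : Submodule F V, W₁ ≤ W → (∀ w ∈ W, Q w = 0) → W = W₁) (hmax₂ : ∀ W : Submodule F V, W₂ ≤ W → (∀ w ∈ W, Q w = 0) → W = W₂) : Module.finrank F W₁ = Module.finrank F W₂ ∧ 2 * Module.finrank F W₁ ≤ Module.finrank F V := by
  refine ⟨?_, ?_⟩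
  · rcases le_total (Module.finrank F W₁) (Module.finrank F W₂) with h | h
    · exact dim_eq Q hQ W₁ W₂ h₁ h₂ hmax₁ h
    · exact (dim_eq Q hQ W₂ W₁ h₂ h₁ hmax₂ h).symm
  · have href : (QuadraticMap.polarBilin Q).IsRefl := fun u v h => by
      simpa [QuadraticMap.polar_comm Q v u] using h
    have h := LinearMap.BilinForm.finrank_orthogonal hQ W₁
    have hle : W₁ ≤ LinearMap.BilinForm.orthogonal (QuadraticMap.polarBilin Q) W₁ := by
      intro w hw u hu
      show QuadraticMap.polar Q u w = 0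
      simp [QuadraticMap.polar, h₁ u hu, h₁ w hw, h₁ _ (W₁.add_mem hu hw)]
    have := Submodule.finrank_mono hle
    have := W₁.finrank_le
    omega

end Cfsg.Agent.S0760
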