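import Cfsg.Statements.S0761
import Mathlib
import Cfsg.Agent.Lib.FiniteForms.Witt
import Cfsg.Agent.Lib.FiniteForms.Quad

set_option autoImplicit false
open Cfsg

namespace Cfsg.Agent.S0761



/-- Hyperbolic partners: let B be a non-degenerate bilinear form on a finite-dimensional space, either alternating, or symmetric with 2 ≠ 0. If Z is a subspace on which B vanishes, x ∉ Z is isotropic and orthogonal to Z, then there is an isotropic y with B x y = 1 which is orthogonal to Z. -/
theorem result {F V : Type*} [Field F] [AddCommGroup V] [Module F V] [FiniteDimensional F V] (B : LinearMap.BilinForm F V) (hB : B.Nondegenerate) (hform : B.IsAlt ∨ (B.IsSymm ∧ (2 : F) ≠ 0)) (x : V) (Z : Submodule F V) (hxZ : x ∉ Z) (hx : B x x = 0) (hxz : ∀ z ∈ Z, B x z = 0) (hZ : ∀ z ∈ Z, ∀ z' ∈ Z, B z z' = 0) : ∃ y : V, B y y = 0 ∧ B x y = 1 ∧ ∀ z ∈ Z, B z y = 0 := by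
  classical
  have href : B.IsRefl := hform.elim (fun h => h.isRefl) (fun h => h.1.isRefl)
  obtain ⟨f, hfx, hf⟩ := Submodule.exists_dual_map_eq_bot_of_notMem (p := Z) hxZ inferInstance
  have hfz : ∀ z ∈ Z, f z = 0 := fun z hz => by
    have := Submodule.mem_map_of_mem (f := f) hz
    rwa [hf, Submodule.mem_bot] at this
  set g : Module.Dual F V := (f x)⁻¹ • f
  have hB' : LinearMap.BilinForm.Nondegenerate B.flip := hB.flip
  set y := (LinearMap.BilinForm.toDual B.flip hB').symm g
  have hy : ∀ v, B v y = g v := fun v =>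
    LinearMap.BilinForm.apply_toDual_symm_apply (B := B.flip) (hB := hB') g v
  have hxy : B x y = 1 := by rw [hy]; exact inv_mul_cancel₀ hfx
  have hzy : ∀ z ∈ Z, B z y = 0 := fun z hz => by
    rw [hy]; simp [g, hfz z hz]
  rcases hform with hA | ⟨hS, h2⟩
  · exact ⟨y, hA y, hxy, hzy⟩
  refine ⟨y + (-(B y y) / 2) • x, ?_, ?_, fun z hz => ?_⟩
  · have hyx : B y x = 1 := by rw [← hxy]; exact (hS.eq y x)
    simp only [map_add, map_smul, LinearMap.add_apply, LinearMap.smul_apply, smul_eq_mul, hx,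
      hxy, hyx]
    field_simp
    ring
  · simp [hxy, hx]
  · simp [hzy z hz, href x z (hxz z hz)]

end Cfsg.Agent.S0761
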