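import Cfsg.Statements.S0763
import Mathlib
import Cfsg.Agent.Lib.FiniteForms.Witt
import Cfsg.Agent.Lib.FiniteForms.Quad

set_option autoImplicit false
open Cfsg

namespace Cfsg.Agent.S0763



/-- Binary quadratic forms in characteristic two over a finite field: if Q is a quadratic form on a 2-dimensional space whose polar form is non-degenerate, then either there are vectors v, w with Q v = Q w = 0 and polar value 1 (Q is xy in these coordinates), or there are v, w and μ with Q v = 1, Q w = μ, polar value 1 and x² + x + μ without roots in F (Q is x² + xy + μy²). -/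
theorem result {F V : Type*} [Field F] [Finite F] [CharP F 2] [AddCommGroup V] [Module F V] (Q : QuadraticForm F V) (h2 : Module.finrank F V = 2) (hQ : (QuadraticMap.polarBilin Q).Nondegenerate) : (∃ v w : V, LinearIndependent F ![v, w] ∧ Q v = 0 ∧ Q w = 0 ∧ QuadraticMap.polar Q v w = 1) ∨ (∃ (v w : V) (μ : F), LinearIndependent F ![v, w] ∧ (∀ x : F, x ^ 2 + x + μ ≠ 0) ∧ Q v = 1 ∧ Q w = μ ∧ QuadraticMap.polar Q v w = 1) := by
  classical
  open CfsgLib.FiniteForms in
  exact by
    haveI : Module.Finite F V := Module.finite_of_finrank_eq_succ h2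
    have hnd : PolarNondeg Q := fun x hx => hQ.1 x hx
    by_cases hs : ∃ v, v ≠ 0 ∧ Q v = 0
    · obtain ⟨v, hv, hqv⟩ := hs
      obtain ⟨w, hvw, hqw⟩ := exists_partner hnd hv hqv
      refine Or.inl ⟨v, w, ?_, hqv, hqw, hvw⟩
      rw [LinearIndependent.pair_iff]
      intro s t hst
      have h1 := congrArg (QuadraticMap.polar Q v) hst
      have h2' := congrArg (QuadraticMap.polar Q w) hst
      have hvv : QuadraticMap.polar Q v v = 0 := by rw [QuadraticMap.polar_self, hqv, smul_zero]
      have hww : QuadraticMap.polar Q w w = 0 := by rw [QuadraticMap.polar_self, hqw, smul_zero]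
      have hwv : QuadraticMap.polar Q w v = 1 := by rw [QuadraticMap.polar_comm, hvw]
      simp [QuadraticMap.polar_add_right, QuadraticMap.polar_smul_right, hvv, hvw, hww, hwv]
        at h1 h2'
      exact ⟨h2', h1⟩
    · push Not at hs
      obtain ⟨x, y, -, -, hx, hxy, ht, hind⟩ := exists_elliptic_basis (Q := Q) (P := ⊤)
        (by rw [finrank_top, h2]) (fun x _ h => hnd x fun y => h y trivial)
        (fun x _ h => by by_contra hx; exact hs x hx h)
      exact Or.inr ⟨x, y, Q y, hind, ht, hx, rfl, hxy⟩

end Cfsg.Agent.S0763
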