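import Cfsg.Statements.S0769
import Mathlib

set_option autoImplicit false
open Cfsg

namespace Cfsg.Agent.S0769



/-- Order of the Borel subgroup of GL_n(q): the invertible lower-triangular n × n matrices over a field with q elements number q^(n(n-1)/2) (q-1)^n (unitriangular part times the diagonal torus). -/
theorem result {F : Type*} [Field F] [Fintype F] {q : ℕ} (hF : Fintype.card F = q) (n : ℕ) : Nat.card {g : Matrix.GeneralLinearGroup (Fin n) F // ∀ i j : Fin n, i < j → (g : Matrix (Fin n) (Fin n) F) i j = 0} = q ^ (n * (n - 1) / 2) * (q - 1) ^ n := by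
  classical
  let e : {g : Matrix.GeneralLinearGroup (Fin n) F // ∀ i j : Fin n, i < j → (g : Matrix (Fin n) (Fin n) F) i j = 0} ≃
      (Fin n → Fˣ) × ((i : Fin n) → Fin i → F) :=
    { toFun := fun g => (fun i => Units.mk0 (g.1.1 i i) (by
          have h := g.1.det_ne_zero
          rw [Matrix.det_of_isLowerTriangular _ g.2, Finset.prod_ne_zero_iff] at h
          exact h i (Finset.mem_univ i)),
        fun i j => g.1.1 i ⟨j, by omega⟩)
      invFun := fun p => ⟨Matrix.GeneralLinearGroup.mkOfDetNeZero
          (Matrix.of fun i j => if h : (j : ℕ) < i then p.2 i ⟨j, h⟩ else if j = i then (p.1 i : F) else 0)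
          (by
            rw [Matrix.det_of_isLowerTriangular _ (fun i j h => by
              have h' : ¬ ((j : ℕ) < i) := by
                simp only [OrderDual.toDual_lt_toDual, Fin.lt_def] at h; omega
              simp only [Matrix.of_apply, dif_neg h']
              rw [if_neg]; intro e; subst e; simp at h)]
            exact Finset.prod_ne_zero_iff.mpr fun i _ => by
              show (if h : (i : ℕ) < i then p.2 i ⟨i, h⟩ else if i = i then (p.1 i : F) else 0) ≠ 0
              rw [dif_neg (lt_irrefl _), if_pos rfl]
              exact Units.ne_zero _),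
        fun i j h => by
          show (if h : (j : ℕ) < i then _ else if j = i then _ else 0) = (0 : F)
          rw [dif_neg (by rw [Fin.lt_def] at h; omega), if_neg (fun e => absurd e h.ne')]⟩
      left_inv := fun g => by
        apply Subtype.ext; apply Units.ext; ext i j
        show (if h : (j : ℕ) < i then g.1.1 i ⟨j, _⟩ else if j = i then g.1.1 i i else 0) = g.1.1 i j
        split_ifs with h1 h2
        · rfl
        · rw [h2]
        · exact (g.2 i j (by rw [Fin.lt_def]; have := Fin.val_ne_iff.mpr h2; omega)).symm
      right_inv := fun p => by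
        refine Prod.ext (funext fun i => Units.ext ?_) (funext fun i => funext fun j => ?_)
        · simp [Matrix.GeneralLinearGroup.mkOfDetNeZero]
        · exact dif_pos j.2 }
  rw [Nat.card_congr e, Nat.card_prod, Nat.card_fun, Nat.card_units, Nat.card_eq_fintype_card (α := F),
    Nat.card_fin, Nat.card_pi]
  simp only [Nat.card_fun, Nat.card_fin, Nat.card_eq_fintype_card (α := F)]
  rw [Finset.prod_pow_eq_pow_sum, Fin.sum_univ_eq_sum_range (fun i => i) n, Finset.sum_range_id, hF, mul_comm]

end Cfsg.Agent.S0769
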