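import Cfsg.Statements.S0770
import Mathlib

set_option autoImplicit false
open Cfsg

namespace Cfsg.Agent.S0770



/-- For a field with at least 3 elements, an invertible matrix normalises the subgroup of invertible diagonal matrices of GL_n if and only if it is monomial (exactly one non-zero entry in each row). -/
theorem result {F : Type*} [Field F] (hF : ∃ a : F, a ≠ 0 ∧ a ≠ 1) (n : ℕ) (g : Matrix.GeneralLinearGroup (Fin n) F) : g ∈ Subgroup.normalizer ((Units.map (Matrix.diagonalRingHom (Fin n) F).toMonoidHom).range : Subgroup (Matrix.GeneralLinearGroup (Fin n) F)) ↔ ∀ i : Fin n, ∃! j : Fin n, (g : Matrix (Fin n) (Fin n) F) i j ≠ 0 := by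
  classical
  have hdet : (g : Matrix (Fin n) (Fin n) F).det ≠ 0 := g.det_ne_zero
  have hrow : ∀ i : Fin n, ∃ j, (g : Matrix (Fin n) (Fin n) F) i j ≠ 0 := by
    intro i
    by_contra h
    push Not at h
    exact hdet (Matrix.det_eq_zero_of_row_eq_zero i h)
  have hcol : ∀ j : Fin n, ∃ i, (g : Matrix (Fin n) (Fin n) F) i j ≠ 0 := by
    intro j
    by_contra h
    push Not at h
    exact hdet (Matrix.det_eq_zero_of_column_eq_zero j h)
  constructor
  · intro hg i
    obtain ⟨j, hj⟩ := hrow i
    refine ⟨j, hj, fun k hk => ?_⟩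
    by_contra hkj
    obtain ⟨a, ha0, ha1⟩ := hF
    let d : (Fin n → F)ˣ := MulEquiv.piUnits.symm (Function.update (1 : Fin n → Fˣ) j (Units.mk0 a ha0))
    have hd : ∀ x, d.val x = ((Function.update (1 : Fin n → Fˣ) j (Units.mk0 a ha0) x : Fˣ) : F) := fun x => rfl
    obtain ⟨e, he⟩ := (Subgroup.mem_normalizer_iff.mp hg
      ((Units.map (Matrix.diagonalRingHom (Fin n) F).toMonoidHom) d)).mp ⟨d, rfl⟩
    rw [eq_mul_inv_iff_mul_eq] at he
    have he' := congrArg Units.val he
    simp only [Units.val_mul] at he'
    change Matrix.diagonal e.val * g.1 = g.1 * Matrix.diagonal d.val at he'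
    have h1 := congrFun (congrFun he' i) j
    have h2 := congrFun (congrFun he' i) k
    rw [Matrix.diagonal_mul, Matrix.mul_diagonal, hd, Function.update_self, mul_comm] at h1
    rw [Matrix.diagonal_mul, Matrix.mul_diagonal, hd, Function.update_of_ne hkj, mul_comm] at h2
    have e1 := mul_left_cancel₀ hj h1
    have e2 := mul_left_cancel₀ hk h2
    rw [e1] at e2
    exact ha1 (by simpa using e2)
  · intro h
    choose σ hσ hσu using h
    have hsurj : Function.Surjective σ := fun j => by
      obtain ⟨i, hi⟩ := hcol j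
      exact ⟨i, (hσu i j hi).symm⟩
    let π := Equiv.ofBijective σ ⟨Finite.injective_iff_surjective.mpr hsurj, hsurj⟩
    have hkey : ∀ d : Fin n → F,
        Matrix.diagonal (d ∘ π) * g.1 = g.1 * Matrix.diagonal d := by
      intro d
      ext i j
      rw [Matrix.diagonal_mul, Matrix.mul_diagonal]
      by_cases hij : g.1 i j = 0
      · rw [hij, mul_zero, zero_mul]
      · rw [hσu i j hij, Function.comp_apply, mul_comm]
        rfl
    rw [Subgroup.mem_normalizer_iff]
    intro x
    constructor
    · rintro ⟨d, rfl⟩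
      refine ⟨MulEquiv.piUnits.symm (fun i => MulEquiv.piUnits d (π i)), ?_⟩
      rw [eq_mul_inv_iff_mul_eq]
      exact Units.ext (hkey d.val)
    · rintro ⟨d, hd⟩
      refine ⟨MulEquiv.piUnits.symm (fun i => MulEquiv.piUnits d (π.symm i)), ?_⟩
      have hd' : g * x * g⁻¹ * g = (Units.map (Matrix.diagonalRingHom (Fin n) F).toMonoidHom) d * g := by
        exact congrArg (· * g) hd.symm
      rw [inv_mul_cancel_right] at hd'
      apply mul_left_cancel (a := g)
      rw [hd']
      apply Units.ext
      have := hkey (fun i => d.val (π.symm i))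
      rw [show ((fun i => d.val (π.symm i)) ∘ π) = d.val from funext fun i => by simp] at this
      exact this.symm

end Cfsg.Agent.S0770
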