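import Cfsg.Statements.S0774
import Mathlib

set_option autoImplicit false
open Cfsg

namespace Cfsg.Agent.S0774

open Matrix in
theorem spBorel {F : Type*} [Field F] [Fintype F] (m : ℕ) :
    Nat.card ↥(⨅ k : Fin m, Cfsg.stabilizing (Cfsg.spToMat m F)
      {v : Fin m ⊕ Fin m → F | (∀ i : Fin m, (k : ℕ) < (i : ℕ) → v (Sum.inl i) = 0) ∧
        ∀ i : Fin m, v (Sum.inr i) = 0}) =
      Fintype.card F ^ (m ^ 2) * (Fintype.card F - 1) ^ m := by
  classical
  let V : Fin m → Set (Fin m ⊕ Fin m → F) := fun k =>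
    {v | (∀ i : Fin m, (k : ℕ) < (i : ℕ) → v (Sum.inl i) = 0) ∧ ∀ i : Fin m, v (Sum.inr i) = 0}
  set H := ⨅ k : Fin m, Cfsg.stabilizing (Cfsg.spToMat m F) (V k) with hH
  have hmem : ∀ g : Matrix.symplecticGroup (Fin m) F, g ∈ H ↔
      g.1.toBlocks₂₁ = 0 ∧ ∀ i j : Fin m, j < i → g.1.toBlocks₁₁ i j = 0 := by
    intro g
    rw [hH, Subgroup.mem_iInf]
    constructor
    · intro h
      have key : ∀ j, g.1 *ᵥ Pi.single (Sum.inl j) 1 ∈ V j := fun j =>
        ((h j) _).mp ⟨fun i hi => by simp [Fin.ne_of_gt (show j < i from hi)], fun i => by simp⟩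
      refine ⟨?_, fun i j hij => ?_⟩
      · ext i j; simpa [toBlocks₂₁] using (key j).2 i
      · simpa [toBlocks₁₁] using (key j).1 i hij
    · rintro ⟨h21, h11⟩ k v
      have hmaps : Set.MapsTo (fun v => g.1 *ᵥ v) (V k) (V k) := by
        rintro w ⟨hw1, hw2⟩
        have hw : w = Sum.elim (w ∘ Sum.inl) (0 : Fin m → F) := funext fun i => by
          rcases i with i | i
          · rfl
          · exact hw2 i
        have hgw : g.1 *ᵥ w = Sum.elim (g.1.toBlocks₁₁ *ᵥ (w ∘ Sum.inl)) (0 : Fin m → F) := by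
          conv_lhs => rw [← fromBlocks_toBlocks g.1, h21, hw, fromBlocks_mulVec]
          simp
        show g.1 *ᵥ w ∈ V k
        rw [hgw]
        refine ⟨fun i hi => ?_, fun i => rfl⟩
        simp only [Sum.elim_inl, mulVec, dotProduct]
        refine Finset.sum_eq_zero fun j _ => ?_
        by_cases hj : j < i
        · simp [h11 i j hj]
        · simp [hw1 j (lt_of_lt_of_le hi (not_lt.mp hj))]
      have hinj : Function.Injective (fun v => g.1 *ᵥ v) := fun a b hab => by
        have := congrArg (fun v => (g⁻¹).1 *ᵥ v) hab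
        simpa [mulVec_mulVec, show (g⁻¹).1 * g.1 = 1 from congrArg Subtype.val (inv_mul_cancel g)] using this
      have hbij := ((Set.toFinite (V k)).injOn_iff_bijOn_of_mapsTo hmaps).mp hinj.injOn
      refine ⟨fun hv => hmaps hv, fun hv => ?_⟩
      obtain ⟨w, hw, hwv⟩ := hbij.surjOn hv
      exact hinj hwv ▸ hw
  let U := {A : Matrix (Fin m) (Fin m) F // (∀ i j, j < i → A i j = 0) ∧ ∀ i, A i i ≠ 0}
  let Sy := {S : Matrix (Fin m) (Fin m) F // Sᵀ = S}
  have hdet : ∀ A : U, IsUnit A.1.det := fun A => by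
    rw [det_of_upperTriangular (fun i j h => A.2.1 i j h)]
    exact isUnit_iff_ne_zero.mpr (Finset.prod_ne_zero_iff.mpr fun i _ => A.2.2 i)
  have hsp : ∀ p : U × Sy, fromBlocks p.1.1 (p.1.1 * p.2.1) 0 (p.1.1⁻¹)ᵀ ∈ symplecticGroup (Fin m) F := by
    intro ⟨A, S⟩
    have h1 : A.1ᵀ * A.1⁻¹ᵀ = 1 := by rw [← transpose_mul, nonsing_inv_mul _ (hdet A), transpose_one]
    rw [SymplecticGroup.mem_iff']
    simp only [Matrix.J, fromBlocks_transpose, fromBlocks_multiply, transpose_zero, transpose_mul,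
      transpose_transpose, Matrix.mul_zero, Matrix.zero_mul, Matrix.mul_one, Matrix.one_mul,
      Matrix.mul_neg, Matrix.neg_mul, zero_add, add_zero, neg_zero, S.2]
    rw [h1, nonsing_inv_mul _ (hdet A), Matrix.mul_assoc, h1, ← Matrix.mul_assoc,
      nonsing_inv_mul _ (hdet A)]
    simp
  have hHU : Nat.card H = Nat.card U * Nat.card Sy := by
    rw [← Nat.card_prod]
    refine (Nat.card_eq_of_bijective (fun p : U × Sy => (⟨⟨_, hsp p⟩, (hmem _).mpr
      ⟨toBlocks_fromBlocks₂₁ _ _ _ _, fun i j h => by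
        rw [toBlocks_fromBlocks₁₁]; exact p.1.2.1 i j h⟩⟩ : H)) ⟨?_, ?_⟩).symm
    · rintro ⟨A, S⟩ ⟨A', S'⟩ h
      have h' := fromBlocks_inj.mp (congrArg (fun x : H => x.1.1) h)
      have hA : A = A' := Subtype.ext h'.1
      subst hA
      refine Prod.ext rfl (Subtype.ext ?_)
      have := congrArg (fun X => A.1⁻¹ * X) h'.2.1
      simpa [← Matrix.mul_assoc, nonsing_inv_mul _ (hdet A)] using this
    · rintro ⟨⟨g, hg⟩, hgH⟩
      obtain ⟨h21, h11⟩ := (hmem _).mp hgH
      have hgg := SymplecticGroup.mem_iff'.mp hg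
      rw [← fromBlocks_toBlocks g, h21] at hgg
      simp only [Matrix.J, fromBlocks_transpose, fromBlocks_multiply, transpose_zero, Matrix.mul_zero,
        Matrix.zero_mul, Matrix.mul_one, Matrix.one_mul, Matrix.mul_neg, Matrix.neg_mul, zero_add,
        add_zero, neg_zero, fromBlocks_inj] at hgg
      obtain ⟨-, hAD, -, hS⟩ := hgg
      replace hAD : g.toBlocks₁₁ᵀ * g.toBlocks₂₂ = 1 := neg_injective hAD
      have hdA : IsUnit g.toBlocks₁₁.det := by
        rw [← det_transpose]
        exact (isUnit_iff_isUnit_det _).mp (IsUnit.of_mul_eq_one _ hAD)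
      have hD : g.toBlocks₂₂ = g.toBlocks₁₁⁻¹ᵀ := by
        rw [transpose_nonsing_inv]
        exact (inv_eq_right_inv hAD).symm
      refine ⟨(⟨g.toBlocks₁₁, h11, fun i => ?_⟩, ⟨g.toBlocks₁₁⁻¹ * g.toBlocks₁₂, ?_⟩),
        Subtype.ext (Subtype.ext ?_)⟩
      · have := hdA.ne_zero
        rw [det_of_upperTriangular (fun i j h => h11 i j h)] at this
        exact Finset.prod_ne_zero_iff.mp this i (Finset.mem_univ _)
      · rw [hD, transpose_transpose] at hS
        rw [transpose_mul]
        linear_combination (norm := abel) -hS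
      · show fromBlocks _ _ _ _ = g
        dsimp only
        rw [← Matrix.mul_assoc, mul_nonsing_inv _ hdA, Matrix.one_mul, ← hD]
        conv_rhs => rw [← fromBlocks_toBlocks g, h21]
  let LT := {p : Fin m × Fin m // p.1 < p.2}
  let LE := {p : Fin m × Fin m // p.1 ≤ p.2}
  have hU : Nat.card U = Nat.card (LT → F) * (Fintype.card F - 1) ^ m := by
    rw [Nat.card_eq_of_bijective
      (fun A : U => ((fun p : LT => A.1 p.1.1 p.1.2), fun i => Units.mk0 _ (A.2.2 i))) ⟨?_, ?_⟩,
      Nat.card_prod, Nat.card_fun (β := Fˣ), Nat.card_units, Nat.card_eq_fintype_card (α := F),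
      Nat.card_fin]
    · intro A A' h
      refine Subtype.ext (Matrix.ext fun i j => ?_)
      rcases lt_trichotomy i j with hij | hij | hij
      · exact congrFun (congrArg Prod.fst h) ⟨(i, j), hij⟩
      · subst hij; exact congrArg Units.val (congrFun (congrArg Prod.snd h) i)
      · rw [A.2.1 i j hij, A'.2.1 i j hij]
    · rintro ⟨u, d⟩
      refine ⟨⟨of fun i j => if h : i < j then u ⟨(i, j), h⟩ else if i = j then (d i : F) else 0,
        fun i j h => by simp [h.not_gt, h.ne'], fun i => by simp⟩, ?_⟩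
      refine Prod.ext (funext fun p => ?_) (funext fun i => Units.ext ?_)
      · simp [p.2]
      · simp
  have hSy : Nat.card Sy = Nat.card (LE → F) := by
    refine Nat.card_eq_of_bijective (fun S (p : LE) => S.1 p.1.1 p.1.2) ⟨?_, ?_⟩
    · intro S S' h
      refine Subtype.ext (Matrix.ext fun i j => ?_)
      rcases le_total i j with hij | hij
      · exact congrFun h ⟨(i, j), hij⟩
      · rw [← S.2, ← S'.2]; exact congrFun h ⟨(j, i), hij⟩
    · intro s
      refine ⟨⟨of fun i j => if h : i ≤ j then s ⟨(i, j), h⟩ else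
        if h' : j ≤ i then s ⟨(j, i), h'⟩ else 0, ?_⟩, funext fun p => by simp [p.2]⟩
      ext i j
      simp only [transpose_apply, of_apply]
      rcases lt_trichotomy i j with hij | hij | hij
      · simp [hij.le, hij.not_ge]
      · subst hij; rfl
      · simp [hij.le, hij.not_ge]
  have hsum : Nat.card LT + Nat.card LE = m ^ 2 := by
    rw [← Nat.card_sum, Nat.card_eq_of_bijective
      (Sum.elim (fun p : LT => p.1) (fun p : LE => p.1.swap)) ⟨?_, ?_⟩, Nat.card_prod, Nat.card_fin, sq]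
    · rintro (p | p) (p' | p') h <;> simp only [Sum.elim_inl, Sum.elim_inr] at h
      · rw [Subtype.ext h]
      · have := p.2; have := p'.2; rw [h] at *; exact absurd ‹p'.1.1 ≤ p'.1.2› (not_le.mpr ‹_›)
      · have := p.2; have := p'.2; rw [← h] at *; exact absurd ‹p.1.1 ≤ p.1.2› (not_le.mpr ‹_›)
      · rw [Subtype.ext (Prod.swap_injective h)]
    · intro x
      rcases lt_or_ge x.1 x.2 with h | h
      · exact ⟨Sum.inl ⟨x, h⟩, rfl⟩
      · exact ⟨Sum.inr ⟨x.swap, h⟩, by simp⟩
  change Nat.card H = _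
  rw [hHU, hU, hSy, ← hsum, pow_add, Nat.card_fun, Nat.card_fun, Nat.card_eq_fintype_card (α := F)]
  ring

/-- Borel subgroup of the symplectic group: the elements of Sp_2m(q) stabilising each of the totally isotropic coordinate subspaces ⟨e_0, ..., e_k⟩ (k < m) form a subgroup of order q^(m²) (q − 1)^m. -/
theorem result {F : Type*} [Field F] [Fintype F] {q : ℕ} (hF : Fintype.card F = q) (m : ℕ) : Nat.card ↥(⨅ k : Fin m, Cfsg.stabilizing (Cfsg.spToMat m F) {v : Fin m ⊕ Fin m → F | (∀ i : Fin m, (k : ℕ) < (i : ℕ) → v (Sum.inl i) = 0) ∧ ∀ i : Fin m, v (Sum.inr i) = 0}) = q ^ (m ^ 2) * (q - 1) ^ m := by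
  subst hF
  exact spBorel m

end Cfsg.Agent.S0774
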