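import Cfsg.Statements.S0775
import Mathlib
import Cfsg.Agent.Lib.IsotropicSymp
import Cfsg.Agent.S0245

set_option autoImplicit false
open Cfsg

namespace Cfsg.Agent.S0775

theorem prod_eq (q l : ℕ) : ∀ k : ℕ, (∏ i ∈ Finset.range k, (q ^ (2 * (l + k) - i) - q ^ i)) *
    ∏ i ∈ Finset.range l, (q ^ (2 * (i + 1)) - 1) =
      q ^ (k * (k - 1) / 2) * ∏ i ∈ Finset.range (l + k), (q ^ (2 * (i + 1)) - 1) := by
  intro k
  have h1 : ∀ i ∈ Finset.range k, q ^ (2 * (l + k) - i) - q ^ i =
      q ^ i * (q ^ (2 * (l + (k - 1 - i) + 1)) - 1) := fun i hi => by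
    have := Finset.mem_range.mp hi
    rw [Nat.mul_sub, mul_one, ← pow_add]
    congr 2
    omega
  rw [Finset.prod_congr rfl h1, Finset.prod_mul_distrib, Finset.prod_pow_eq_pow_sum,
    Finset.sum_range_id, Finset.prod_range_add,
    Finset.prod_range_reflect (fun i => q ^ (2 * (l + i + 1)) - 1) k]
  ring


/-- Maximal parabolics of the symplectic group: if W is a k-dimensional subspace of F^(2m) on which the symplectic form vanishes identically, its stabiliser in Sp_2m(q) has order q^(k(k+1)/2 + 2k(m−k)) · |Sp_(2m−2k)(q)| · |GL_k(q)|. -/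
theorem result {F : Type*} [Field F] [Fintype F] {q : ℕ} (hF : Fintype.card F = q) (m k : ℕ) (hk : k ≤ m) (W : Submodule F (Fin m ⊕ Fin m → F)) (hWk : Module.finrank F W = k) (hW : ∀ u ∈ W, ∀ v ∈ W, Cfsg.sympForm m F u v = 0) : Nat.card ↥(Cfsg.stabilizing (Cfsg.spToMat m F) (W : Set (Fin m ⊕ Fin m → F))) = q ^ (k * (k + 1) / 2 + 2 * k * (m - k)) * (q ^ ((m - k) ^ 2) * ∏ i ∈ Finset.range (m - k), (q ^ (2 * (i + 1)) - 1)) * ∏ i : Fin k, (q ^ k - q ^ (i : ℕ)) := by
  classical
  open CfsgLib.IsotropicCount in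
  exact by
    subst hF
    set q := Fintype.card F with hq
    have hq1 : 1 < q := Fintype.one_lt_card
    have h := card_stab (Cfsg.spToMat m F) (Cfsg.sympForm m F) symp_preserves symp_trans
      (⟨W, hWk, hW⟩ : Sub (Cfsg.sympForm m F) k)
    rw [card_sympFrame, Cfsg.Agent.S0245.result rfl m, ← hq] at h
    obtain ⟨l, rfl⟩ : ∃ l, m = l + k := ⟨m - k, by omega⟩
    have hpos : 0 < ∏ i ∈ Finset.range k, (q ^ (2 * (l + k) - i) - q ^ i) :=
      Finset.prod_pos fun i hi => by
        have := Finset.mem_range.mp hi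
        exact Nat.sub_pos_of_lt (Nat.pow_lt_pow_right hq1 (by omega))
    refine Nat.eq_of_mul_eq_mul_right hpos (h.trans ?_)
    rw [Nat.add_sub_cancel, mul_assoc (q ^ (k * (k + 1) / 2 + 2 * k * l))]
    have hp := prod_eq q l k
    set E := ∏ i ∈ Finset.range k, (q ^ (2 * (l + k) - i) - q ^ i)
    set Pl := ∏ i ∈ Finset.range l, (q ^ (2 * (i + 1)) - 1)
    set Pm := ∏ i ∈ Finset.range (l + k), (q ^ (2 * (i + 1)) - 1)
    have he : k * (k + 1) / 2 + k * (k - 1) / 2 = k * k := by
      have h1 : k * (k + 1) / 2 = k + k * (k - 1) / 2 := by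
        rw [show k * (k + 1) = k * (k - 1) + 2 * k by cases k <;> simp; ring]
        omega
      have h2 := Finset.sum_range_id_mul_two k
      rw [Finset.sum_range_id] at h2
      have h3 : k * (k - 1) + k = k * k := by cases k <;> simp; ring
      omega
    show q ^ (l + k) ^ 2 * Pm * glc q k = _
    calc q ^ (l + k) ^ 2 * Pm * glc q k
        = q ^ (k * (k + 1) / 2 + 2 * k * l + l ^ 2) * (q ^ (k * (k - 1) / 2) * Pm) * glc q k := by
          rw [show (l + k) ^ 2 = k * (k + 1) / 2 + 2 * k * l + l ^ 2 + k * (k - 1) / 2 by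
            rw [show (l + k) ^ 2 = k * k + 2 * k * l + l ^ 2 by ring, ← he]; ring]
          simp only [pow_add]; ring
      _ = _ := by rw [← hp, glc]; simp only [pow_add]; ring

end Cfsg.Agent.S0775
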