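import Cfsg.Statements.S0777
import Mathlib

set_option autoImplicit false
open Cfsg

namespace Cfsg.Agent.S0777

set_option maxHeartbeats 1600000 in
open Matrix in
theorem spMonomial {F : Type*} [Field F] [Fintype F] (hq : 4 ≤ Fintype.card F) (m : ℕ) :
    Nat.card ↥(Subgroup.normalizer ((⨅ i : Fin m ⊕ Fin m, Cfsg.stabilizing (Cfsg.spToMat m F)
      ((Submodule.span F {(Pi.single i (1 : F) : Fin m ⊕ Fin m → F)} : Submodule F (Fin m ⊕ Fin m → F)) :
        Set (Fin m ⊕ Fin m → F)) : Subgroup (Matrix.symplecticGroup (Fin m) F)) :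
        Set (Matrix.symplecticGroup (Fin m) F))) =
      2 ^ m * Nat.factorial m * (Fintype.card F - 1) ^ m := by
  classical
  set T := ⨅ i : Fin m ⊕ Fin m, Cfsg.stabilizing (Cfsg.spToMat m F)
      ((Submodule.span F {(Pi.single i (1 : F) : Fin m ⊕ Fin m → F)} : Submodule F (Fin m ⊕ Fin m → F)) :
        Set (Fin m ⊕ Fin m → F)) with hT
  let e : Fin m ⊕ Fin m → (Fin m ⊕ Fin m → F) := fun a => Pi.single a 1
  let Sp := Matrix.symplecticGroup (Fin m) F
  have hginj : ∀ g : Sp, Function.Injective g.1.mulVec := fun g a b hab => by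
    have := congrArg (g⁻¹).1.mulVec hab
    simpa [mulVec_mulVec, show (g⁻¹).1 * g.1 = 1 from congrArg Subtype.val (inv_mul_cancel g)] using this
  have hTmem : ∀ h : Sp, h ∈ T ↔ ∀ a, h.1 *ᵥ e a = h.1 a a • e a := by
    intro h
    rw [hT, Subgroup.mem_iInf]
    constructor
    · intro hh a
      obtain ⟨c, hc⟩ := Submodule.mem_span_singleton.mp
        ((hh a (e a)).mp (Submodule.mem_span_singleton_self _))
      have hca : c = h.1 a a := by simpa [e, Cfsg.spToMat] using congrFun hc a
      rw [← hca]; exact hc.symm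
    · intro hh a v
      have hne : h.1 a a ≠ 0 := fun h0 => by
        have := hginj h (show h.1 *ᵥ e a = h.1 *ᵥ 0 by rw [hh a, h0, zero_smul, mulVec_zero])
        simpa [e] using congrFun this a
      show v ∈ Submodule.span F {e a} ↔ h.1 *ᵥ v ∈ Submodule.span F {e a}
      simp only [Submodule.mem_span_singleton]
      constructor
      · rintro ⟨c, rfl⟩
        exact ⟨c * h.1 a a, by rw [mulVec_smul, hh, smul_smul]⟩
      · rintro ⟨c, hc⟩
        exact ⟨c / h.1 a a, hginj h (show h.1 *ᵥ _ = h.1 *ᵥ v by
          rw [mulVec_smul, hh, smul_smul, div_mul_cancel₀ _ hne, hc])⟩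
  -- monomial matrices
  let D := Equiv.Perm (Fin m) × (Fin m → Bool) × (Fin m → Fˣ)
  let tgt : D → Fin m ⊕ Fin m → Fin m ⊕ Fin m := fun d => Sum.elim
    (fun i => if d.2.1 i then Sum.inr (d.1 i) else Sum.inl (d.1 i))
    (fun i => if d.2.1 i then Sum.inl (d.1 i) else Sum.inr (d.1 i))
  let val : D → Fin m ⊕ Fin m → F := fun d => Sum.elim (fun i => (d.2.2 i : F))
    (fun i => if d.2.1 i then -(↑(d.2.2 i)⁻¹ : F) else (↑(d.2.2 i)⁻¹ : F))
  let Mx : D → Matrix (Fin m ⊕ Fin m) (Fin m ⊕ Fin m) F :=
    fun d => of fun b a => if b = tgt d a then val d a else 0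
  have hMe : ∀ d a, Mx d *ᵥ e a = val d a • e (tgt d a) := fun d a => funext fun b => by
    simp [Mx, e, mulVec_single, Pi.single_apply]
  have hMsp : ∀ d, Mx d ∈ symplecticGroup (Fin m) F := fun d => by
    rw [SymplecticGroup.mem_iff']
    ext a b
    have : ((Mx d)ᵀ * Matrix.J (Fin m) F * Mx d) a b =
        val d a * Matrix.J (Fin m) F (tgt d a) (tgt d b) * val d b := by
      simp [Mx, Matrix.mul_apply, Finset.sum_mul, ite_mul, mul_ite]
    rw [this]
    clear this hTmem hginj hT
    rcases a with i | i <;> rcases b with j | j <;> rcases eq_or_ne i j with rfl | hij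
    all_goals first
      | (rcases hi : d.2.1 i <;> simp [tgt, val, Matrix.J, hi]; done)
      | (rcases hi : d.2.1 i <;> rcases hj : d.2.1 j <;>
          simp [tgt, val, Matrix.J, hi, hj, hij, d.1.injective.eq_iff, Matrix.one_apply])
  let G : D → Sp := fun d => ⟨Mx d, hMsp d⟩
  have hval : ∀ d a, val d a ≠ 0 := fun d a => by
    rcases a with i | i
    · exact (d.2.2 i).ne_zero
    · show (if _ then _ else _) ≠ (0 : F)
      split_ifs <;> simp
  have htinj : ∀ d, Function.Injective (tgt d) := fun d => by
    clear hTmem hginj hT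
    rintro (i | i) (j | j) h <;> rcases hi : d.2.1 i <;> rcases hj : d.2.1 j <;>
      simp [tgt, hi, hj, d.1.injective.eq_iff] at h <;> simp_all
  have hGN : ∀ d, G d ∈ Subgroup.normalizer (T : Set Sp) := by
    intro d
    have hle : T.map (MulAut.conj (G d)).toMonoidHom ≤ T := by
      rintro _ ⟨h, hh, rfl⟩
      rw [hTmem]
      intro b
      obtain ⟨a, rfl⟩ := (Finite.injective_iff_surjective.mp (htinj d)) b
      set k := MulAut.conj (G d) h with hk
      have hka : k.1 *ᵥ e (tgt d a) = h.1 a a • e (tgt d a) := by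
        have h0 : val d a • (k.1 *ᵥ e (tgt d a)) = val d a • (h.1 a a • e (tgt d a)) := by
          rw [← mulVec_smul, ← hMe d a]
          show k.1 *ᵥ ((G d).1 *ᵥ e a) = _
          rw [mulVec_mulVec, show k.1 * (G d).1 = (G d).1 * h.1 from congrArg Subtype.val
              (show k * G d = G d * h by rw [hk, MulAut.conj_apply, inv_mul_cancel_right]),
            ← mulVec_mulVec, (hTmem h).mp hh a, mulVec_smul]
          show h.1 a a • (Mx d *ᵥ e a) = _
          rw [hMe, smul_comm]
        exact smul_right_injective _ (hval d a) h0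
      show k.1 *ᵥ _ = k.1 _ _ • _
      rw [hka]
      have := congrFun hka (tgt d a)
      simp [e] at this
      rw [this]
    have heq := Subgroup.eq_of_le_of_card_ge hle
      (Subgroup.card_map_of_injective (MulAut.conj (G d)).injective).ge
    rw [Subgroup.mem_normalizer_iff]
    intro h
    conv_rhs => rw [← heq]
    exact (Subgroup.mem_map_iff_mem (MulAut.conj (G d)).injective).symm
  have hGinj : Function.Injective G := by
    rintro ⟨π, s, c⟩ ⟨π', s', c'⟩ h
    have hcol : ∀ i, val (π, s, c) (Sum.inl i) • e (tgt (π, s, c) (Sum.inl i)) =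
        val (π', s', c') (Sum.inl i) • e (tgt (π', s', c') (Sum.inl i)) := fun i => by
      rw [← hMe, ← hMe, show Mx (π, s, c) = Mx (π', s', c') from congrArg Subtype.val h]
    have ht : ∀ i, tgt (π, s, c) (Sum.inl i) = tgt (π', s', c') (Sum.inl i) := fun i => by
      by_contra hne
      have := congrFun (hcol i) (tgt (π, s, c) (Sum.inl i))
      simp [e, hne] at this
      exact hval _ _ this
    have h1 : π = π' := Equiv.ext fun i => by
      have := ht i
      rcases hs : s i <;> rcases hs' : s' i <;> simp_all [tgt]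
    have h2 : s = s' := funext fun i => by
      have := ht i
      rcases hs : s i <;> rcases hs' : s' i <;> simp_all [tgt]
    have h3 : c = c' := funext fun i => Units.ext (by
      have := congrFun (hcol i) (tgt (π, s, c) (Sum.inl i))
      rw [← ht i] at this
      simpa [e, val] using this)
    rw [h1, h2, h3]
  have hsurj : ∀ g ∈ Subgroup.normalizer (T : Set Sp), ∃ d, G d = g := by
    intro g hg
    -- characters of the torus separate coordinates
    have hsep : ∀ a b : Fin m ⊕ Fin m, a ≠ b → ∃ t ∈ T, t.1 a a ≠ t.1 b b := by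
      obtain ⟨ζ, hζ⟩ := IsCyclic.exists_generator (α := Fˣ)
      have hord : orderOf ζ = Fintype.card F - 1 := by
        rw [orderOf_eq_card_of_forall_mem_zpowers hζ, Nat.card_units, Nat.card_eq_fintype_card]
      have hζ1 : (ζ : F) ≠ 1 := fun h => by
        rw [Units.val_eq_one.mp h, orderOf_one] at hord; omega
      have hζi : (ζ : F) ≠ (↑ζ⁻¹ : F) := fun h => by
        have : ζ ^ 2 = 1 := by rw [sq]; nth_rw 2 [Units.ext h]; exact mul_inv_cancel ζ
        have := Nat.le_of_dvd (by omega) (orderOf_dvd_of_pow_eq_one this)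
        omega
      have hdiag : ∀ u : Fin m → Fˣ, G (1, (fun _ => false), u) ∈ T ∧
          ∀ a, (G (1, (fun _ => false), u)).1 a a =
            Sum.elim (fun i => (u i : F)) (fun i => (↑(u i)⁻¹ : F)) a := fun u => by
        have h : ∀ a, (G (1, (fun _ => false), u)).1 a a =
            Sum.elim (fun i => (u i : F)) (fun i => (↑(u i)⁻¹ : F)) a := fun a => by
          rcases a with i | i <;> simp [G, Mx, tgt, val]
        refine ⟨(hTmem _).mpr fun a => ?_, h⟩
        rw [h]
        show Mx _ *ᵥ e a = _
        rw [hMe]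
        rcases a with i | i <;> simp [tgt, val]
      intro a b hab
      have hζi' : (ζ : F) ≠ (ζ : F)⁻¹ := by simpa using hζi
      have hζ1' : (↑ζ⁻¹ : F) ≠ 1 := fun h => hζ1 (by simpa using h)
      rcases a with i | i <;> rcases b with j | j <;>
        refine ⟨_, (hdiag (Function.update (fun _ => 1) i ζ)).1, ?_⟩ <;>
        rw [(hdiag _).2, (hdiag _).2] <;> rcases eq_or_ne j i with rfl | hji
      all_goals first
        | exact absurd rfl hab
        | simp [hζi', hζi'.symm, hζ1, hζ1', Function.update_of_ne, *] at hζ1 ⊢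
    have hmono : ∀ a, ∃ b, ∃ v : F, v ≠ 0 ∧ g.1 *ᵥ e a = v • e b := by
      intro a
      set x := g.1 *ᵥ e a with hx
      obtain ⟨b, hb⟩ : ∃ b, x b ≠ 0 := by
        by_contra h
        push Not at h
        have := hginj g (show g.1 *ᵥ e a = g.1 *ᵥ 0 by rw [mulVec_zero]; exact funext h)
        simpa [e] using congrFun this a
      refine ⟨b, x b, hb, funext fun c => ?_⟩
      rcases eq_or_ne c b with rfl | hcb
      · simp [e]
      · simp only [Pi.smul_apply, e, Pi.single_apply, hcb, if_false, smul_zero]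
        by_contra hc
        obtain ⟨t, ht, hne⟩ := hsep b c (Ne.symm hcb)
        have ht' : g⁻¹ * t * g ∈ T := by
          exact (Subgroup.mem_normalizer_iff''.mp hg t).mp ht
        have h1 : t.1 *ᵥ x = (g⁻¹ * t * g).1 a a • x := by
          rw [hx, ← mulVec_smul, ← (hTmem _).mp ht' a, mulVec_mulVec, mulVec_mulVec]
          congr 1
          show (t * g).1 = (g * (g⁻¹ * t * g)).1
          rw [show g * (g⁻¹ * t * g) = t * g by rw [← mul_assoc, ← mul_assoc, mul_inv_cancel, one_mul]]
        have h2 : ∀ c, (t.1 *ᵥ x) c = t.1 c c * x c := fun c => by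
          conv_lhs => rw [pi_eq_sum_univ' x, mulVec_sum, Finset.sum_apply]
          rw [Finset.sum_eq_single c]
          · rw [mulVec_smul, show (Pi.single c (1 : F)) = e c from rfl, (hTmem _).mp ht c]
            simp [e, mul_comm]
          · intro j _ hj
            rw [mulVec_smul, show (Pi.single j (1 : F)) = e j from rfl, (hTmem _).mp ht j]
            simp [e, Ne.symm hj]
          · simp
        refine hne ((?_ : t.1 b b = (g⁻¹ * t * g).1 a a).trans (?_ : t.1 c c = _).symm)
        · exact mul_right_cancel₀ hb ((h2 b).symm.trans (congrFun h1 b))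
        · exact mul_right_cancel₀ hc ((h2 c).symm.trans (congrFun h1 c))
    choose τ v hv hτ using hmono
    have hτinj : Function.Injective τ := fun a b hab => by
      by_contra hne
      have h0 : g.1 *ᵥ (v b • e a) = g.1 *ᵥ (v a • e b) := by
        rw [mulVec_smul, mulVec_smul, hτ, hτ, hab, smul_comm]
      have := congrFun (hginj g h0) a
      simp [e, hne, hv] at this
    have hJ : ∀ a b, v a * v b * Matrix.J (Fin m) F (τ a) (τ b) = Matrix.J (Fin m) F a b := fun a b => by
      have h0 : (g.1 *ᵥ e a) ⬝ᵥ (Matrix.J (Fin m) F *ᵥ (g.1 *ᵥ e b)) =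
          e a ⬝ᵥ (Matrix.J (Fin m) F *ᵥ e b) := by
        rw [mulVec_mulVec, dotProduct_mulVec, ← vecMul_transpose, vecMul_vecMul, ← dotProduct_mulVec,
          ← Matrix.mul_assoc, SymplecticGroup.mem_iff'.mp g.2]
      rw [hτ, hτ] at h0
      simpa [e, mulVec_smul, mul_comm, mul_left_comm, mul_assoc] using h0
    let p : Fin m → Fin m := fun i => (τ (Sum.inl i)).elim id id
    let s : Fin m → Bool := fun i => (τ (Sum.inl i)).isRight
    have hinr : ∀ i, τ (Sum.inr i) = (τ (Sum.inl i)).swap := fun i => by
      have h := hJ (Sum.inl i) (Sum.inr i)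
      rcases h1 : τ (Sum.inl i) with k | k <;> rcases h2 : τ (Sum.inr i) with l | l <;>
        simp [h1, h2, Matrix.J, Matrix.one_apply] at h ⊢ <;>
        by_contra hkl <;> simp [Ne.symm hkl, hkl] at h
    have hp : Function.Injective p := fun i j h => by
      by_contra hij
      have h1 : τ (Sum.inl i) = τ (Sum.inl j) ∨ τ (Sum.inl i) = τ (Sum.inr j) := by
        rw [hinr]
        rcases h1 : τ (Sum.inl i) with k | k <;> rcases h2 : τ (Sum.inl j) with l | l <;>
          simp_all [p]
      rcases h1 with h1 | h1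
      · exact hij (Sum.inl_injective (hτinj h1))
      · exact Sum.inl_ne_inr (hτinj h1)
    let d : D := (Equiv.ofBijective p (Finite.injective_iff_bijective.mp hp), s,
      fun i => Units.mk0 _ (hv (Sum.inl i)))
    refine ⟨d, Subtype.ext (Matrix.toLin'.injective (LinearMap.pi_ext fun a c => ?_))⟩
    have key : ∀ a, Mx d *ᵥ e a = g.1 *ᵥ e a := by
      intro a
      rw [hMe, hτ]
      rcases a with i | i
      · rcases h1 : τ (Sum.inl i) with k | k <;> simp [d, tgt, val, s, p, h1]
      · have h := hJ (Sum.inl i) (Sum.inr i)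
        rw [hinr] at h
        rcases h1 : τ (Sum.inl i) with k | k
        all_goals
          simp [h1, Matrix.J] at h
          simp [d, tgt, val, s, p, h1, hinr]
        · congr 1
          exact inv_eq_of_mul_eq_one_right (by linear_combination h)
        · rw [← neg_smul]; congr 1
          rw [neg_eq_iff_eq_neg]
          exact inv_eq_of_mul_eq_one_right (by linear_combination -h)
    show Mx d *ᵥ Pi.single a c = g.1 *ᵥ Pi.single a c
    rw [show Pi.single a c = c • e a from by rw [← Pi.single_smul']; simp, mulVec_smul, mulVec_smul, key]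
  rw [← Nat.card_eq_of_bijective (fun d => (⟨G d, hGN d⟩ : Subgroup.normalizer (T : Set Sp)))
    ⟨fun a b h => hGinj (congrArg Subtype.val h), fun g => by
      obtain ⟨d, hd⟩ := hsurj g.1 g.2; exact ⟨d, Subtype.ext hd⟩⟩]
  rw [Nat.card_prod, Nat.card_prod, Nat.card_perm, Nat.card_fun, Nat.card_fun, Nat.card_units,
    Nat.card_eq_fintype_card (α := Bool), Fintype.card_bool, Nat.card_fin,
    Nat.card_eq_fintype_card (α := F)]
  ring

/-- Weyl group of type C_m: for q ≥ 4 the diagonal matrices of Sp_2m(q) form a torus T ≅ (C_(q−1))^m (the elements stabilising every coordinate axis), and the normaliser of T in Sp_2m(q) has order 2^m · m! · (q − 1)^m. -/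
theorem result {F : Type*} [Field F] [Fintype F] {q : ℕ} (hF : Fintype.card F = q) (hq : 4 ≤ q) (m : ℕ) : Nat.card ↥(Subgroup.normalizer (⨅ i : Fin m ⊕ Fin m, Cfsg.stabilizing (Cfsg.spToMat m F) ((Submodule.span F {(Pi.single i (1 : F) : Fin m ⊕ Fin m → F)} : Submodule F (Fin m ⊕ Fin m → F)) : Set (Fin m ⊕ Fin m → F)) : Set (Matrix.symplecticGroup (Fin m) F))) = 2 ^ m * Nat.factorial m * (q - 1) ^ m := by
  subst hF
  simp only [Set.iInf_eq_iInter, ← Subgroup.coe_iInf]
  exact spMonomial hq m

end Cfsg.Agent.S0777
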