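import Cfsg.Statements.S0778
import Mathlib

set_option autoImplicit false
open Cfsg
open scoped Matrix

namespace Cfsg.Agent.S0778

theorem key {F : Type*} [Field F] {m : ℕ} {M : Matrix (Fin m ⊕ Fin m) (Fin m ⊕ Fin m) F}
    (h1 : ∀ v : Fin m ⊕ Fin m → F, (∀ i, v (Sum.inr i) = 0) → ∀ i, (M *ᵥ v) (Sum.inr i) = 0)
    (h2 : ∀ v : Fin m ⊕ Fin m → F, (∀ i, v (Sum.inl i) = 0) → ∀ i, (M *ᵥ v) (Sum.inl i) = 0) :
    M = Matrix.fromBlocks M.toBlocks₁₁ 0 0 M.toBlocks₂₂ := by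
  classical
  conv_lhs => rw [← Matrix.fromBlocks_toBlocks M]
  congr 1
  · ext i j
    simpa [Matrix.mulVec_single_one, Matrix.toBlocks₁₂] using
      h2 (Pi.single (Sum.inr j) 1) (fun k => by simp) i
  · ext i j
    simpa [Matrix.mulVec_single_one, Matrix.toBlocks₂₁] using
      h1 (Pi.single (Sum.inl j) 1) (fun k => by simp) i

theorem mem_symp {F : Type*} [Field F] {m : ℕ} (A D : Matrix (Fin m) (Fin m) F) :
    Matrix.fromBlocks A 0 0 D ∈ Matrix.symplecticGroup (Fin m) F ↔ A * Dᵀ = 1 := by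
  rw [SymplecticGroup.mem_iff, Matrix.J, Matrix.fromBlocks_transpose,
    Matrix.fromBlocks_multiply, Matrix.fromBlocks_multiply, Matrix.fromBlocks_inj]
  simp only [Matrix.transpose_zero, mul_zero, zero_mul, add_zero, zero_add, Matrix.mul_neg,
    Matrix.neg_mul, mul_one, neg_inj, true_and, and_true, neg_zero, one_mul, Matrix.mul_one,
    Matrix.one_mul]
  refine ⟨fun h => h.1, fun h => ⟨h, ?_⟩⟩
  rw [← Matrix.transpose_transpose (D * Aᵀ), Matrix.transpose_mul, Matrix.transpose_transpose, h,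
    Matrix.transpose_one]


/-- The elements of Sp_2m(F) stabilising both W = ⟨e_1..e_m⟩ and U = ⟨f_1..f_m⟩ form a subgroup isomorphic to GL_m(F) (block-diagonal matrices diag(X, X^(−ᵀ)) up to the sign convention of J), for m ≥ 1 or m = 0 alike. -/
theorem result {F : Type*} [Field F] (m : ℕ) : Nonempty (↥(Cfsg.stabilizing (Cfsg.spToMat m F) {v : Fin m ⊕ Fin m → F | ∀ i : Fin m, v (Sum.inr i) = 0} ⊓ Cfsg.stabilizing (Cfsg.spToMat m F) {v : Fin m ⊕ Fin m → F | ∀ i : Fin m, v (Sum.inl i) = 0}) ≃* Matrix.GeneralLinearGroup (Fin m) F) := by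
  classical
  set S := stabilizing (spToMat m F) {v : Fin m ⊕ Fin m → F | ∀ i : Fin m, v (Sum.inr i) = 0} ⊓
    stabilizing (spToMat m F) {v : Fin m ⊕ Fin m → F | ∀ i : Fin m, v (Sum.inl i) = 0}
  have hb : ∀ g : S, g.1.1 = Matrix.fromBlocks g.1.1.toBlocks₁₁ 0 0 g.1.1.toBlocks₂₂ := fun g =>
    key (fun v hv => (g.2.1 v).mp hv) (fun v hv => (g.2.2 v).mp hv)
  have hu : ∀ g : S, g.1.1.toBlocks₁₁ * g.1.1.toBlocks₂₂ᵀ = 1 := fun g =>
    (mem_symp _ _).mp ((hb g) ▸ g.1.2)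
  let f : S →* Matrix.GeneralLinearGroup (Fin m) F :=
    { toFun := fun g => ⟨g.1.1.toBlocks₁₁, g.1.1.toBlocks₂₂ᵀ, hu g,
        mul_eq_one_comm.mp (hu g)⟩
      map_one' := by
        apply Units.ext
        show (1 : Matrix (Fin m ⊕ Fin m) (Fin m ⊕ Fin m) F).toBlocks₁₁ = 1
        rw [← Matrix.fromBlocks_one, Matrix.toBlocks_fromBlocks₁₁]
      map_mul' := fun a b => by
        apply Units.ext
        show (a.1.1 * b.1.1).toBlocks₁₁ = a.1.1.toBlocks₁₁ * b.1.1.toBlocks₁₁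
        conv_lhs => rw [hb a, hb b, Matrix.fromBlocks_multiply]
        simp }
  refine ⟨MulEquiv.ofBijective f ⟨fun a b h => ?_, fun g => ?_⟩⟩
  · have h1 : a.1.1.toBlocks₁₁ = b.1.1.toBlocks₁₁ := congrArg Units.val h
    have h2 : a.1.1.toBlocks₂₂ᵀ = b.1.1.toBlocks₂₂ᵀ := by
      have := congrArg (fun u : Matrix.GeneralLinearGroup (Fin m) F => (u⁻¹).1) h
      exact this
    apply Subtype.ext; apply Subtype.ext
    rw [hb a, hb b, h1, Matrix.transpose_injective h2]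
  · have hgi : g.1ᵀ * (g⁻¹).1ᵀ = 1 := by
      rw [← Matrix.transpose_mul, show (g⁻¹).1 * g.1 = 1 from congrArg Units.val (inv_mul_cancel g), Matrix.transpose_one]
    set N := Matrix.fromBlocks g.1 0 0 (g⁻¹).1ᵀ with hN
    have hm : N ∈ Matrix.symplecticGroup (Fin m) F := (mem_symp _ _).mpr (by
      rw [Matrix.transpose_transpose]; exact congrArg Units.val (mul_inv_cancel g))
    have hinj1 : ∀ v, g.1 *ᵥ v = 0 → v = 0 := fun v hv => by
      have := congrArg (fun w => (g⁻¹).1 *ᵥ w) hv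
      simpa [Matrix.mulVec_mulVec, show (g⁻¹).1 * g.1 = 1 from congrArg Units.val (inv_mul_cancel g)] using this
    have hinj2 : ∀ v, (g⁻¹).1ᵀ *ᵥ v = 0 → v = 0 := fun v hv => by
      have := congrArg (fun w => g.1ᵀ *ᵥ w) hv
      simp only [Matrix.mulVec_mulVec, hgi, Matrix.one_mulVec, Matrix.mulVec_zero] at this
      exact this
    have hin : (⟨N, hm⟩ : Matrix.symplecticGroup (Fin m) F) ∈ S := by
      constructor
      · intro v
        show (∀ i, v (Sum.inr i) = 0) ↔ ∀ i, (N *ᵥ v) (Sum.inr i) = 0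
        simp only [hN, Matrix.fromBlocks_mulVec, Sum.elim_inr, Matrix.zero_mulVec, zero_add]
        refine ⟨fun h i => ?_, fun h i => congrFun (hinj2 (v ∘ Sum.inr) (funext h)) i⟩
        rw [show v ∘ Sum.inr = 0 from funext h, Matrix.mulVec_zero]; rfl
      · intro v
        show (∀ i, v (Sum.inl i) = 0) ↔ ∀ i, (N *ᵥ v) (Sum.inl i) = 0
        simp only [hN, Matrix.fromBlocks_mulVec, Sum.elim_inl, Matrix.zero_mulVec, add_zero]
        refine ⟨fun h i => ?_, fun h i => congrFun (hinj1 (v ∘ Sum.inl) (funext h)) i⟩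
        rw [show v ∘ Sum.inl = 0 from funext h, Matrix.mulVec_zero]; rfl
    exact ⟨⟨⟨N, hm⟩, hin⟩, Units.ext (by show N.toBlocks₁₁ = g.1; simp [hN])⟩

end Cfsg.Agent.S0778
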