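import Cfsg.Statements.S0779
import Mathlib

set_option autoImplicit false
open Cfsg

namespace Cfsg.Agent.S0779



/-- Unitary transvections: let |F| = q², h the standard Hermitian form Σ x_i y_i^q and v ≠ 0 with h(v, v) = 0. The linear map x ↦ x + c h(x, v) v is an isometry of h if and only if c = 0 or c^(q−1) = −1. -/
theorem result {F : Type*} [Field F] [Fintype F] {q : ℕ} (hF : Fintype.card F = q ^ 2) (n : ℕ) (v : Fin n → F) (hv : v ≠ 0) (hv0 : Cfsg.hermForm n F q v v = 0) (c : F) : (∀ x y : Fin n → F, Cfsg.hermForm n F q ((Cfsg.unitaryTransvection n q v c).mulVec x) ((Cfsg.unitaryTransvection n q v c).mulVec y) = Cfsg.hermForm n F q x y) ↔ (c = 0 ∨ c ^ (q - 1) = -1) := by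
  classical
  obtain ⟨p, hp⟩ := CharP.exists F
  obtain ⟨d, hpp, hcard⟩ := FiniteField.card F p
  haveI := Fact.mk hpp
  obtain ⟨k, -, hk⟩ := (Nat.dvd_prime_pow hpp).mp (show q ∣ p ^ (d : ℕ) from ⟨q, by rw [← hcard, hF, sq]⟩)
  have hq1 : 1 ≤ q := by rw [hk]; exact Nat.one_le_pow _ _ hpp.pos
  have hqq : ∀ a : F, (a ^ q) ^ q = a := by
    intro a; rw [← pow_mul, ← sq, ← hF]; exact FiniteField.pow_card a
  have hadd : ∀ a b : F, (a + b) ^ q = a ^ q + b ^ q := by
    intro a b; rw [hk]; exact add_pow_char_pow a b p k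
  have hsum : ∀ f : Fin n → F, (∑ i, f i) ^ q = ∑ i, (f i) ^ q := by
    intro f
    exact map_sum ({ toFun := fun a => a ^ q, map_zero' := zero_pow (by omega), map_add' := hadd } : F →+ F) f _
  have hT : ∀ x : Fin n → F, (Cfsg.unitaryTransvection n q v c).mulVec x =
      fun i => x i + c * Cfsg.hermForm n F q x v * v i := by
    intro x
    funext i
    simp only [Cfsg.unitaryTransvection, Matrix.add_mulVec, Matrix.one_mulVec, Matrix.smul_mulVec,
      Matrix.vecMulVec_mulVec, Pi.add_apply, Pi.smul_apply, op_smul_eq_smul, smul_eq_mul]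
    rw [show Cfsg.hermForm n F q x v = (fun j => (v j) ^ q) ⬝ᵥ x from by
      rw [dotProduct_comm]; rfl]
    ring
  have hswap : ∀ y : Fin n → F, (Cfsg.hermForm n F q y v) ^ q = Cfsg.hermForm n F q v y := by
    intro y
    unfold Cfsg.hermForm
    rw [hsum]
    exact Finset.sum_congr rfl fun i _ => by rw [mul_pow, hqq]; ring
  have key : ∀ x y : Fin n → F, Cfsg.hermForm n F q ((Cfsg.unitaryTransvection n q v c).mulVec x)
      ((Cfsg.unitaryTransvection n q v c).mulVec y) = Cfsg.hermForm n F q x y +
      (c + c ^ q) * (Cfsg.hermForm n F q x v * Cfsg.hermForm n F q v y) := by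
    intro x y
    rw [hT, hT]
    have e : Cfsg.hermForm n F q (fun i => x i + c * Cfsg.hermForm n F q x v * v i)
        (fun i => y i + c * Cfsg.hermForm n F q y v * v i) =
        Cfsg.hermForm n F q x y
        + c ^ q * (Cfsg.hermForm n F q y v) ^ q * Cfsg.hermForm n F q x v
        + c * Cfsg.hermForm n F q x v * Cfsg.hermForm n F q v y
        + c * Cfsg.hermForm n F q x v * (c * Cfsg.hermForm n F q y v) ^ q * Cfsg.hermForm n F q v v := by
      generalize hA : Cfsg.hermForm n F q x v = A
      generalize hB : Cfsg.hermForm n F q y v = B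
      conv_rhs => rw [← hA]
      unfold Cfsg.hermForm at hA ⊢
      simp only [hadd, mul_pow]
      rw [hA]
      conv_rhs => arg 1; arg 1; arg 2; rw [← hA]
      simp only [Finset.mul_sum, ← Finset.sum_add_distrib]
      exact Finset.sum_congr rfl fun i _ => by ring
    rw [e, hv0, hswap]
    ring
  constructor
  · intro h
    obtain ⟨i, hi⟩ := Function.ne_iff.mp hv
    have := h (Pi.single i 1) (Pi.single i 1)
    rw [key, add_eq_left] at this
    have e1 : Cfsg.hermForm n F q (Pi.single i 1) v = v i ^ q := by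
      simp [Cfsg.hermForm, Pi.single_apply]
    have e2 : Cfsg.hermForm n F q v (Pi.single i 1) = v i := by
      simp [Cfsg.hermForm, Pi.single_apply, ite_pow, zero_pow (show q ≠ 0 by omega)]
    rw [e1, e2] at this
    have hi' : v i ≠ 0 := hi
    have hc : c + c ^ q = 0 := by simpa [hi'] using this
    by_cases h0 : c = 0
    · exact Or.inl h0
    · right
      apply mul_left_cancel₀ h0
      rw [← pow_succ', Nat.sub_add_cancel hq1]
      linear_combination hc
  · intro h x y
    rw [key]
    have hc : c + c ^ q = 0 := by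
      rcases h with rfl | h
      · simp [zero_pow (show q ≠ 0 by omega)]
      · rw [← Nat.sub_add_cancel hq1, pow_succ', h]; ring
    rw [hc, zero_mul, add_zero]

end Cfsg.Agent.S0779
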