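import Cfsg.Statements.S0783
import Mathlib
import Cfsg.Agent.Lib.UnitaryBasic

set_option autoImplicit false
open Cfsg

namespace Cfsg.Agent.S0783



/-- PGU_n(q)/PSU_n(q) is cyclic of order (n, q+1): for n ≥ 2 and |F| = q² there is a surjective homomorphism from GU_n(q) onto the cyclic group of order gcd(n, q + 1) whose kernel is generated by the determinant-one elements together with the centre. -/
theorem result {F : Type*} [Field F] [Fintype F] {q : ℕ} (hF : Fintype.card F = q ^ 2) (n : ℕ) (hn : 2 ≤ n) : ∃ φ : ↥(Cfsg.GU n F q) →* Multiplicative (ZMod (Nat.gcd n (q + 1))), Function.Surjective φ ∧ φ.ker = (Matrix.GeneralLinearGroup.det : Matrix.GeneralLinearGroup (Fin n) F →* Fˣ).ker.subgroupOf (Cfsg.GU n F q) ⊔ Subgroup.center ↥(Cfsg.GU n F q) := by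
  classical
  obtain ⟨hq, -⟩ := CfsgLib.UnitaryBasic.frob_exists hF
  set U : Subgroup Fˣ := (powMonoidHom (q + 1) : Fˣ →* Fˣ).ker with hU
  have hcardU : Nat.card U = q + 1 := by
    rw [hU, IsCyclic.card_powMonoidHom_ker, Nat.card_units, Nat.card_eq_fintype_card, hF]
    apply Nat.gcd_eq_right
    obtain ⟨r, rfl⟩ := Nat.exists_eq_add_of_le hq.le
    refine ⟨r, ?_⟩
    have e : (1 + r) ^ 2 = (1 + r + 1) * r + 1 := by ring
    omega
  set N : Subgroup U := (powMonoidHom n : U →* U).range with hN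
  have hcard : Nat.card (U ⧸ N) = Nat.card (Multiplicative (ZMod (Nat.gcd n (q + 1)))) := by
    show N.index = _
    rw [hN, IsCyclic.index_powMonoidHom_range, hcardU, Nat.card_congr Multiplicative.toAdd, Nat.card_zmod,
      Nat.gcd_comm]
  haveI : IsCyclic (U ⧸ N) := isCyclic_of_surjective _ (QuotientGroup.mk'_surjective N)
  let e := mulEquivOfCyclicCardEq hcard
  let δ : Cfsg.GU n F q →* U :=
    (Matrix.GeneralLinearGroup.det.comp (Cfsg.GU n F q).subtype).codRestrict U
      fun g => CfsgLib.UnitaryBasic.det_pow hF g.2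
  let φ : Cfsg.GU n F q →* Multiplicative (ZMod (Nat.gcd n (q + 1))) :=
    e.toMonoidHom.comp ((QuotientGroup.mk' N).comp δ)
  have hφ : ∀ g, φ g = 1 ↔ δ g ∈ N := fun g => by
    show e (QuotientGroup.mk' N (δ g)) = 1 ↔ _
    rw [MulEquiv.map_eq_one_iff]
    exact QuotientGroup.eq_one_iff _
  refine ⟨φ, fun y => ?_, ?_⟩
  · obtain ⟨u, hu⟩ := QuotientGroup.mk'_surjective N (e.symm y)
    refine ⟨⟨CfsgLib.UnitaryBasic.dgl (Function.update (1 : Fin n → Fˣ) ⟨0, by omega⟩ u.1),
      CfsgLib.UnitaryBasic.dgl_mem _ fun k => ?_⟩, ?_⟩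
    · rcases eq_or_ne k ⟨0, by omega⟩ with rfl | hk
      · rw [Function.update_self]; exact u.2
      · rw [Function.update_of_ne hk, Pi.one_apply, one_pow]
    · show e (QuotientGroup.mk' N (δ _)) = y
      rw [show δ ⟨CfsgLib.UnitaryBasic.dgl (Function.update (1 : Fin n → Fˣ) ⟨0, by omega⟩ u.1), _⟩ = u from
        Subtype.ext (Units.ext (by
          show (Matrix.diagonal fun i => ((Function.update (1 : Fin n → Fˣ) ⟨0, by omega⟩ u.1 i : Fˣ) : F)).det = _
          rw [Matrix.det_diagonal, Finset.prod_eq_single (⟨0, by omega⟩ : Fin n)]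
          · rw [Function.update_self]
          · intro k _ hk; rw [Function.update_of_ne hk]; simp
          · simp)), hu, MulEquiv.apply_symm_apply]
  · apply le_antisymm
    · intro g hg
      obtain ⟨μ, hμ⟩ := (hφ g).mp hg
      have hμ1 : (μ : Fˣ) ^ (q + 1) = 1 := μ.2
      have hdet : (μ : Fˣ) ^ n = Matrix.GeneralLinearGroup.det g.1 := congrArg Subtype.val hμ
      let c : Cfsg.GU n F q := ⟨CfsgLib.UnitaryBasic.dgl fun _ => μ.1,
        CfsgLib.UnitaryBasic.dgl_mem _ fun _ => hμ1⟩
      have hc : c ∈ Subgroup.center (Cfsg.GU n F q) := Subgroup.mem_center_iff.mpr fun x =>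
        Subtype.ext (Units.ext ((Matrix.scalar_commute ((μ : Fˣ) : F) (fun _ => Commute.all _ _) x.1.1).eq).symm)
      have hg' : g * c⁻¹ ∈ (Matrix.GeneralLinearGroup.det : Matrix.GeneralLinearGroup (Fin n) F →* Fˣ).ker.subgroupOf
          (Cfsg.GU n F q) := by
        rw [Subgroup.mem_subgroupOf, MonoidHom.mem_ker]
        show Matrix.GeneralLinearGroup.det (g.1 * c.1⁻¹) = 1
        have : Matrix.GeneralLinearGroup.det c.1 = (μ : Fˣ) ^ n := Units.ext (by
          show (Matrix.diagonal fun _ : Fin n => ((μ : Fˣ) : F)).det = _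
          simp)
        rw [map_mul, map_inv, this, hdet, mul_inv_cancel]
      have := Subgroup.mul_mem_sup hg' hc
      rwa [inv_mul_cancel_right] at this
    · refine sup_le (fun g hg => (hφ g).mpr ?_) (fun g hg => (hφ g).mpr ?_)
      · rw [show δ g = 1 from Subtype.ext hg]
        exact one_mem _
      · obtain ⟨r, hr⟩ := CfsgLib.UnitaryBasic.center_GU_scalar hF (by omega) hg
        have hr0 : r ≠ 0 := by
          intro h
          have := g.1.det_ne_zero
          apply this
          haveI : Nonempty (Fin n) := ⟨⟨0, by omega⟩⟩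
          rw [hr, h, map_zero, Matrix.det_zero]
        have hrq : Units.mk0 r hr0 ∈ U := by
          have h := g.2 (Pi.single ⟨0, by omega⟩ 1) (Pi.single ⟨0, by omega⟩ 1)
          change Cfsg.hermForm n F q (g.1.1.mulVec _) (g.1.1.mulVec _) = _ at h
          rw [hr] at h
          simp [Cfsg.hermForm, Pi.single_apply, mul_pow, ite_pow, zero_pow (show q ≠ 0 by omega)] at h
          exact Units.ext (by rw [powMonoidHom_apply]; push_cast; rw [pow_succ']; exact h)
        refine ⟨⟨Units.mk0 r hr0, hrq⟩, Subtype.ext (Units.ext ?_)⟩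
        show r ^ n = g.1.1.det
        rw [hr]; simp

end Cfsg.Agent.S0783
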