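import Cfsg.Statements.S0784
import Mathlib
import Cfsg.Agent.Lib.PolarVec

set_option autoImplicit false
open Cfsg

namespace Cfsg.Agent.S0784



/-- Reflections: if Q(v) ≠ 0 then the matrix R = 1 − Q(v)⁻¹ · v f(v, ·)ᵀ preserves Q, maps v to −v, fixes each x with f(v, x) = 0, and has determinant −1 (in characteristic two, −1 = 1 and R is the orthogonal transvection of v). -/
theorem result {F : Type*} [Field F] {n : ℕ} (Q : QuadraticForm F (Fin n → F)) (v : Fin n → F) (hv : Q v ≠ 0) : (∀ x, Q ((Cfsg.reflectionMatrix ⇑Q v).mulVec x) = Q x) ∧ (Cfsg.reflectionMatrix ⇑Q v).mulVec v = -v ∧ (∀ x, QuadraticMap.polar ⇑Q v x = 0 → (Cfsg.reflectionMatrix ⇑Q v).mulVec x = x) ∧ (Cfsg.reflectionMatrix ⇑Q v).det = -1 := by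
  classical
  refine ⟨fun x => ?_, ?_, fun x hx => ?_, ?_⟩
  · rw [CfsgLib.PolarVec.reflection_mulVec, CfsgLib.PolarVec.map_add, QuadraticMap.map_smul,
      QuadraticMap.polar_smul_right, QuadraticMap.polar_comm (⇑Q) x v]
    simp only [smul_eq_mul]
    field_simp
    ring
  · rw [CfsgLib.PolarVec.reflection_mulVec, CfsgLib.PolarVec.polar_self]
    rw [show -((Q v)⁻¹ * (2 * Q v)) = (-2 : F) by field_simp]
    module
  · rw [CfsgLib.PolarVec.reflection_mulVec, hx]
    simp
  · have e : Cfsg.reflectionMatrix (⇑Q) v = 1 + Matrix.replicateCol Unit ((-(Q v)⁻¹) • v) *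
        Matrix.replicateRow Unit (Cfsg.polarVec (⇑Q) v) := by
      rw [← Matrix.vecMulVec_eq Unit, Matrix.smul_vecMulVec, neg_smul]
      exact sub_eq_add_neg _ _
    rw [e, Matrix.det_one_add_replicateCol_mul_replicateRow, dotProduct_smul,
      CfsgLib.PolarVec.dot_eq_polar, CfsgLib.PolarVec.polar_self, smul_eq_mul]
    field_simp
    ring

end Cfsg.Agent.S0784
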