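import Cfsg.Statements.S0785
import Mathlib
import Cfsg.Agent.Lib.FiniteForms.Quad
import Cfsg.Agent.Lib.PolarVec

set_option autoImplicit false
open Cfsg
open scoped Matrix

namespace Cfsg.Agent.S0785



/-- det(I) = {±1}: for a quadratic form on F^n whose polar form is non-degenerate, every element of the isometry group has determinant 1 or −1, and as soon as Q takes a non-zero value some isometry has determinant −1. -/
theorem result {F : Type*} [Field F] {n : ℕ} (Q : QuadraticForm F (Fin n → F)) (hQ : (QuadraticMap.polarBilin Q).Nondegenerate) : (∀ g : ↥(Cfsg.isometryGroup F ⇑Q), ((g : Matrix.GeneralLinearGroup (Fin n) F) : Matrix (Fin n) (Fin n) F).det = 1 ∨ ((g : Matrix.GeneralLinearGroup (Fin n) F) : Matrix (Fin n) (Fin n) F).det = -1) ∧ ((∃ v, Q v ≠ 0) → ∃ g : ↥(Cfsg.isometryGroup F ⇑Q), ((g : Matrix.GeneralLinearGroup (Fin n) F) : Matrix (Fin n) (Fin n) F).det = -1) := by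
  classical
  open CfsgLib.FiniteForms CfsgLib.PolarVec in
  exact by
    refine ⟨fun g => ?_, ?_⟩
    · have hg : ∀ v, Q (g.1.1 *ᵥ v) = Q v := fun v => g.2 v v
      have e : g.1.1ᵀ * polarMat ⇑Q * g.1.1 = polarMat (ι := Fin n) ⇑Q := by
        ext i j
        have h : QuadraticMap.polar Q (g.1.1 *ᵥ Pi.single i 1) (g.1.1 *ᵥ Pi.single j 1) =
            QuadraticMap.polar Q (Pi.single i 1) (Pi.single j 1) := by
          simp only [QuadraticMap.polar, ← Matrix.mulVec_add, hg]
        rw [CfsgLib.FiniteForms.polar_eq, Matrix.mulVec_single_one, Matrix.mulVec_single_one] at h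
        rw [Matrix.mul_assoc]
        exact h
      have hd := congrArg Matrix.det e
      rw [Matrix.det_mul, Matrix.det_mul, Matrix.det_transpose] at hd
      have hM := polarMat_det_ne_zero hQ
      exact mul_self_eq_one_iff.mp (mul_right_cancel₀ hM
        (by rw [one_mul]; linear_combination hd))
    · rintro ⟨v, hv⟩
      have hdet : (Cfsg.reflectionMatrix (⇑Q) v).det = -1 := by
        rw [Cfsg.reflectionMatrix, sub_eq_add_neg, ← neg_smul, ← Matrix.smul_vecMulVec,
          Matrix.vecMulVec_eq Unit, Matrix.det_one_add_replicateCol_mul_replicateRow,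
          dotProduct_smul, dot_eq_polar, CfsgLib.PolarVec.polar_self, smul_eq_mul]
        field_simp
        ring
      refine ⟨⟨Matrix.GeneralLinearGroup.mkOfDetNeZero (Cfsg.reflectionMatrix (⇑Q) v)
        (by rw [hdet]; exact neg_ne_zero.mpr one_ne_zero), fun x _ => ?_⟩, hdet⟩
      show Q (Cfsg.reflectionMatrix (⇑Q) v *ᵥ x) = Q x
      rw [reflection_mulVec, CfsgLib.PolarVec.map_add, QuadraticMap.map_smul,
        QuadraticMap.polar_smul_right, QuadraticMap.polar_comm Q x v, smul_eq_mul, smul_eq_mul]
      field_simp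
      ring

end Cfsg.Agent.S0785
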