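import Cfsg.Statements.S0792
import Mathlib
import Cfsg.Agent.Lib.ReflectionGen

set_option autoImplicit false
open Cfsg

namespace Cfsg.Agent.S0792



/-- For q odd and Q with non-degenerate polar form on F^n, the determinant-one isometries form the subgroup generated by all products r_u r_v of two reflections (Q(u), Q(v) ≠ 0). -/
theorem result {F : Type*} [Field F] [Fintype F] (h2 : (2 : F) ≠ 0) {n : ℕ} (Q : QuadraticForm F (Fin n → F)) (hQ : (QuadraticMap.polarBilin Q).Nondegenerate) : Cfsg.specialIsometryGroup F ⇑Q = Subgroup.closure {g : ↥(Cfsg.isometryGroup F ⇑Q) | ∃ u v : Fin n → F, Q u ≠ 0 ∧ Q v ≠ 0 ∧ ((g : Matrix.GeneralLinearGroup (Fin n) F) : Matrix (Fin n) (Fin n) F) = Cfsg.reflectionMatrix ⇑Q u * Cfsg.reflectionMatrix ⇑Q v} := by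
  classical
  set P := Subgroup.closure {g : ↥(Cfsg.isometryGroup F ⇑Q) | ∃ u v : Fin n → F, Q u ≠ 0 ∧ Q v ≠ 0 ∧
    ((g : Matrix.GeneralLinearGroup (Fin n) F) : Matrix (Fin n) (Fin n) F) =
      Cfsg.reflectionMatrix ⇑Q u * Cfsg.reflectionMatrix ⇑Q v} with hP
  have hdet : ∀ v, Q v ≠ 0 → (Cfsg.reflectionMatrix (⇑Q) v).det = -1 := by
    intro v hv
    rw [Cfsg.reflectionMatrix, sub_eq_add_neg, ← neg_smul, ← Matrix.smul_vecMulVec,
      Matrix.vecMulVec_eq Unit, Matrix.det_one_add_replicateCol_mul_replicateRow,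
      dotProduct_smul, CfsgLib.PolarVec.dot_eq_polar, CfsgLib.PolarVec.polar_self, smul_eq_mul]
    field_simp
    ring
  have hmul : ∀ a b : ↥(Cfsg.isometryGroup F ⇑Q), (a * b).1.1 = a.1.1 * b.1.1 := fun _ _ => rfl
  apply le_antisymm
  · intro g hg
    have hg1 : g.1.1.det = 1 := congrArg Units.val (MonoidHom.mem_ker.mp hg)
    set S := {g : ↥(Cfsg.isometryGroup F ⇑Q) | ∃ v : Fin n → F, Q v ≠ 0 ∧
      ((g : Matrix.GeneralLinearGroup (Fin n) F) : Matrix (Fin n) (Fin n) F) = Cfsg.reflectionMatrix ⇑Q v}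
    have hmem : g ∈ Subgroup.closure S := by
      rw [CfsgLib.ReflectionGen.matrix_closure Q hQ (Or.inl ⟨-1, neg_ne_zero.mpr one_ne_zero,
        fun h => h2 (by linear_combination -h)⟩)]
      trivial
    have hinv : ∀ x ∈ S, x⁻¹ ∈ S := by
      rintro x ⟨v, hv, hx⟩
      have hxx : x * x = 1 := by
        refine Subtype.ext (Units.ext (Matrix.ext_of_mulVec_single fun i => ?_))
        rw [hmul, hx, ← Matrix.mulVec_mulVec, CfsgLib.PolarVec.reflection_mulVec,
          CfsgLib.PolarVec.reflection_mulVec, QuadraticMap.polar_add_right,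
          QuadraticMap.polar_smul_right, CfsgLib.PolarVec.polar_self, smul_eq_mul]
        show _ = (1 : Matrix (Fin n) (Fin n) F).mulVec _
        rw [Matrix.one_mulVec]
        match_scalars <;> field_simp <;> ring
      rw [inv_eq_of_mul_eq_one_right hxx]
      exact ⟨v, hv, hx⟩
    have key : (g.1.1.det = 1 ∧ g ∈ P) ∨ (g.1.1.det = -1 ∧ ∀ r ∈ S, r * g ∈ P) := by
      clear hg hg1
      induction hmem using Subgroup.closure_induction_left with
      | one => exact Or.inl ⟨Matrix.det_one, one_mem _⟩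
      | mul_left x hx y hy ih =>
        obtain ⟨v, hv, hxv⟩ := hx
        have hd : (x * y).1.1.det = -y.1.1.det := by
          rw [hmul, Matrix.det_mul, hxv, hdet v hv, neg_one_mul]
        rcases ih with ⟨h1, h2'⟩ | ⟨h1, h2'⟩
        · refine Or.inr ⟨by rw [hd, h1], fun r hr => ?_⟩
          obtain ⟨u, hu, hru⟩ := hr
          rw [← mul_assoc]
          refine mul_mem (Subgroup.subset_closure ⟨u, v, hu, hv, ?_⟩) h2'
          rw [hmul, hru, hxv]
        · exact Or.inl ⟨by rw [hd, h1, neg_neg], h2' x ⟨v, hv, hxv⟩⟩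
      | inv_mul_cancel x hx y hy ih =>
        obtain ⟨v, hv, hxv⟩ := hinv x hx
        have hd : (x⁻¹ * y).1.1.det = -y.1.1.det := by
          rw [hmul, Matrix.det_mul, hxv, hdet v hv, neg_one_mul]
        rcases ih with ⟨h1, h2'⟩ | ⟨h1, h2'⟩
        · refine Or.inr ⟨by rw [hd, h1], fun r hr => ?_⟩
          obtain ⟨u, hu, hru⟩ := hr
          rw [← mul_assoc]
          refine mul_mem (Subgroup.subset_closure ⟨u, v, hu, hv, ?_⟩) h2'
          rw [hmul, hru, hxv]
        · exact Or.inl ⟨by rw [hd, h1, neg_neg], h2' x⁻¹ ⟨v, hv, hxv⟩⟩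
    rcases key with h | h
    · exact h.2
    · exact absurd (hg1.symm.trans h.1) (fun e => h2 (by linear_combination e))
  · rw [hP, Subgroup.closure_le]
    rintro g ⟨u, v, hu, hv, hg⟩
    refine MonoidHom.mem_ker.mpr (Units.ext ?_)
    show g.1.1.det = 1
    rw [hg, Matrix.det_mul, hdet u hu, hdet v hv, neg_mul_neg, one_mul]

end Cfsg.Agent.S0792
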