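import Cfsg.Statements.S0793
import Mathlib
import Cfsg.Agent.Lib.PolarVec

set_option autoImplicit false
open Cfsg

namespace Cfsg.Agent.S0793



/-- Root elements: if Q(u) = Q(v) = 0 and f(u, v) = 0 (f the polar form), then for every c the Siegel matrix T_(u,v)(c) preserves Q, fixes u and v, and T(c) T(d) = T(c + d). -/
theorem result {F : Type*} [Field F] {n : ℕ} (Q : QuadraticForm F (Fin n → F)) (u v : Fin n → F) (hu : Q u = 0) (hv : Q v = 0) (huv : QuadraticMap.polar ⇑Q u v = 0) : (∀ c x, Q ((Cfsg.siegelMatrix ⇑Q u v c).mulVec x) = Q x) ∧ (∀ c, (Cfsg.siegelMatrix ⇑Q u v c).mulVec u = u ∧ (Cfsg.siegelMatrix ⇑Q u v c).mulVec v = v) ∧ ∀ c d, Cfsg.siegelMatrix ⇑Q u v c * Cfsg.siegelMatrix ⇑Q u v d = Cfsg.siegelMatrix ⇑Q u v (c + d) := by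
  classical
  have huu : QuadraticMap.polar (⇑Q) u u = 0 := by rw [CfsgLib.PolarVec.polar_self, hu, mul_zero]
  have hvv : QuadraticMap.polar (⇑Q) v v = 0 := by rw [CfsgLib.PolarVec.polar_self, hv, mul_zero]
  have hvu : QuadraticMap.polar (⇑Q) v u = 0 := by rw [QuadraticMap.polar_comm]; exact huv
  refine ⟨fun c x => ?_, fun c => ⟨?_, ?_⟩, fun c d => ?_⟩
  · rw [CfsgLib.PolarVec.siegel_mulVec, CfsgLib.PolarVec.map_add, CfsgLib.PolarVec.map_add,
      QuadraticMap.map_smul, QuadraticMap.map_smul, QuadraticMap.polar_smul_left,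
      QuadraticMap.polar_smul_right, QuadraticMap.polar_add_right, QuadraticMap.polar_smul_right,
      QuadraticMap.polar_smul_right, hu, hv, hvu, QuadraticMap.polar_comm (⇑Q) x v,
      QuadraticMap.polar_comm (⇑Q) x u]
    simp only [smul_eq_mul]
    ring
  · rw [CfsgLib.PolarVec.siegel_mulVec, huu, hvu]; simp
  · rw [CfsgLib.PolarVec.siegel_mulVec, hvv, huv]; simp
  · unfold Cfsg.siegelMatrix
    have hN : (Matrix.vecMulVec v (Cfsg.polarVec (⇑Q) u) - Matrix.vecMulVec u (Cfsg.polarVec (⇑Q) v)) *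
        (Matrix.vecMulVec v (Cfsg.polarVec (⇑Q) u) - Matrix.vecMulVec u (Cfsg.polarVec (⇑Q) v)) = 0 := by
      simp [sub_mul, mul_sub, Matrix.vecMulVec_mul_vecMulVec, CfsgLib.PolarVec.dot_eq_polar, huu, hvv, huv, hvu]
    rw [add_mul, one_mul, mul_add, mul_one, Matrix.smul_mul, Matrix.mul_smul, hN, smul_zero, smul_zero,
      add_zero, add_smul]
    abel

end Cfsg.Agent.S0793
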