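import Cfsg.Statements.S0798
import Mathlib
import Cfsg.Agent.Lib.EichlerMatrix
import Cfsg.Agent.Lib.ClassReflections

set_option autoImplicit false
open Cfsg

namespace Cfsg.Agent.S0798



/-- For q odd, n ≥ 2 even, Q with non-degenerate polar form (n, |F|) ≠ (4, 3), and a fixed c ≠ 0: the subgroup of the isometry group generated by the reflections r_v with Q(v) ∈ c·(F^×)² has index 2. -/
theorem result {F : Type*} [Field F] [Fintype F] (h2 : (2 : F) ≠ 0) {n : ℕ} (hn : 2 ≤ n) (heven : Even n) (Q : QuadraticForm F (Fin n → F)) (hQ : (QuadraticMap.polarBilin Q).Nondegenerate) (h43 : ¬ (n = 4 ∧ Fintype.card F = 3)) (c : F) (hc : c ≠ 0) : (Subgroup.closure {g : ↥(Cfsg.isometryGroup F ⇑Q) | ∃ (v : Fin n → F) (t : F), t ≠ 0 ∧ Q v = c * t ^ 2 ∧ ((g : Matrix.GeneralLinearGroup (Fin n) F) : Matrix (Fin n) (Fin n) F) = Cfsg.reflectionMatrix ⇑Q v}).index = 2 := by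
  have hset : {g : ↥(Cfsg.isometryGroup F ⇑Q) | ∃ (v : Fin n → F) (t : F), t ≠ 0 ∧ Q v = c * t ^ 2 ∧
      ((g : Matrix.GeneralLinearGroup (Fin n) F) : Matrix (Fin n) (Fin n) F) = Cfsg.reflectionMatrix ⇑Q v} =
      (CfsgLib.SpinorMatrix.isoEquiv Q).symm.toMonoidHom '' CfsgLib.ClassReflections.CRefl Q c := by
    ext g
    constructor
    · rintro ⟨v, t, ht, hv, hg⟩
      have hv0 : Q v ≠ 0 := by rw [hv]; exact mul_ne_zero hc (pow_ne_zero _ ht)
      refine ⟨CfsgLib.SpinorNorm.refl Q hv0, ⟨v, hv0, ⟨t, ht, hv⟩, rfl⟩, ?_⟩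
      rw [← (CfsgLib.EichlerMatrix.refl_iff Q g hv0).mp hg]
      simp
    · rintro ⟨x, ⟨v, hv0, ⟨t, ht, hv⟩, rfl⟩, rfl⟩
      exact ⟨v, t, ht, hv, (CfsgLib.EichlerMatrix.refl_iff Q _ hv0).mpr (by simp)⟩
  rw [hset, ← MonoidHom.map_closure, Subgroup.index_map_of_bijective (CfsgLib.SpinorMatrix.isoEquiv Q).symm.bijective]
  refine CfsgLib.ClassReflections.index_two Q h2 hQ ?_ hc
  rw [Module.finrank_fin_fun]
  obtain ⟨k, hk⟩ := heven
  by_cases h5 : 5 ≤ n
  · exact Or.inr ⟨by omega, Or.inr h5⟩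
  · rcases (show n = 2 ∨ n = 4 by omega) with h | h
    · exact Or.inl h
    · refine Or.inr ⟨by omega, Or.inl ?_⟩
      obtain ⟨p, hp⟩ := CharP.exists F
      obtain ⟨r, hpr, hcard⟩ := FiniteField.card F p
      have hodd : Fintype.card F % 2 = 1 := by
        rcases Nat.mod_two_eq_zero_or_one (Fintype.card F) with h0 | h0
        · exact absurd (by
            haveI := ringChar.of_eq ((FiniteField.even_card_iff_char_two (F := F)).mpr h0)
            exact CharTwo.two_eq_zero) h2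
        · exact h0
      have := Fintype.one_lt_card (α := F)
      by_contra hlt
      exact h43 ⟨h, by omega⟩

end Cfsg.Agent.S0798
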