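import Cfsg.Statements.S0800
import Mathlib
import Cfsg.Agent.Lib.SL2Orders

set_option autoImplicit false
open Cfsg

namespace Cfsg.Agent.S0800



/-- Tori of SL_2(q): if g ∈ SL_2(q) has order coprime to the characteristic p, then the order of g divides q − 1 or q + 1. -/
theorem result {F : Type*} [Field F] [Fintype F] {q : ℕ} (hF : Fintype.card F = q) (p : ℕ) [Fact p.Prime] [CharP F p] (g : Matrix.SpecialLinearGroup (Fin 2) F) (hg : Nat.Coprime (orderOf g) p) : orderOf g ∣ q - 1 ∨ orderOf g ∣ q + 1 := by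
  subst hF
  have hp : p.Prime := Fact.out
  have hpp : ∀ x : Matrix.SpecialLinearGroup (Fin 2) F, x ^ p = 1 → orderOf x ∣ p := fun x h => orderOf_dvd_of_pow_eq_one h
  rcases CfsgLib.SL2Orders.pow_cases p g with h | h | h | h
  · exact Or.inl (orderOf_dvd_of_pow_eq_one h)
  · exact Or.inr (orderOf_dvd_of_pow_eq_one h)
  · left
    have := Nat.eq_one_of_dvd_coprimes hg dvd_rfl (orderOf_dvd_of_pow_eq_one h)
    rw [this]; exact one_dvd _
  · have h2 : g ^ (p * 2) = 1 := by rw [pow_mul, h]; simp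
    have h3 : orderOf g ∣ 2 := hg.dvd_of_dvd_mul_left (orderOf_dvd_of_pow_eq_one h2)
    rcases Nat.even_or_odd (Fintype.card F) with he | ho
    · left
      have hp2 : p = 2 := by
        obtain ⟨n, -, hn⟩ := FiniteField.card F p
        have h2' : 2 ∣ p ^ (n : ℕ) := hn ▸ he.two_dvd
        exact ((Nat.prime_dvd_prime_iff_eq Nat.prime_two hp).mp (Nat.prime_two.dvd_of_dvd_pow h2')).symm
      have := Nat.eq_one_of_dvd_coprimes hg dvd_rfl (hp2 ▸ h3)
      rw [this]; exact one_dvd _
    · left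
      obtain ⟨m, hm⟩ := ho
      exact h3.trans ⟨m, by omega⟩

end Cfsg.Agent.S0800
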