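import Cfsg.Statements.S0802
import Mathlib
import Cfsg.Agent.Lib.PSL2Platonic
import Cfsg.Agent.Lib.PSL2Subfield
import Cfsg.Agent.S0252
import Cfsg.Agent.Lib.TwoByTwo

set_option autoImplicit false
open Cfsg

namespace Cfsg.Agent.S0802

/-- `A₄` is a subgroup of `A₅`. -/
theorem exists_A4_to_A5 : ∃ f : alternatingGroup (Fin 4) →* alternatingGroup (Fin 5), Function.Injective f := by
  let e : Fin 4 ≃ {x : Fin 5 // x.val < 4} := ⟨fun i => ⟨i.castSucc, i.isLt⟩, fun x => ⟨x.1.val, x.2⟩, fun i => rfl, fun x => rfl⟩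
  refine ⟨((Equiv.Perm.extendDomainHom e).comp (alternatingGroup (Fin 4)).subtype).codRestrict _ fun σ => ?_,
    fun a b h => ?_⟩
  · rw [Equiv.Perm.mem_alternatingGroup]
    show Equiv.Perm.sign (Equiv.Perm.extendDomain σ.1 e) = 1
    rw [Equiv.Perm.sign_extendDomain]
    exact Equiv.Perm.mem_alternatingGroup.mp σ.2
  · exact Subtype.ext (Equiv.Perm.extendDomainHom_injective e (congrArg Subtype.val h))

/-- PSL_2(p^n) has a subgroup isomorphic to A_4 if and only if it is not the case that p = 2 and n is odd. -/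
theorem result {F : Type*} [Field F] [Fintype F] (p n : ℕ) [Fact p.Prime] [CharP F p] (hF : Fintype.card F = p ^ n) : (∃ H : Subgroup (Matrix.ProjectiveSpecialLinearGroup (Fin 2) F), Nonempty (H ≃* alternatingGroup (Fin 4))) ↔ ¬ (p = 2 ∧ Odd n) := by
  classical
  constructor
  · rintro ⟨H, ⟨e⟩⟩ ⟨hp, hn⟩
    subst hp
    -- a four-group and an element of order three normalising it
    obtain ⟨u, v, g, hu, huv, hu1, hv1, huv1, hg, hg1, hgu⟩ : ∃ u v g : alternatingGroup (Fin 4), u * u = 1 ∧
        u * v = v * u ∧ u ≠ 1 ∧ v ≠ 1 ∧ v ≠ u ∧ g * g * g = 1 ∧ g ≠ 1 ∧ g * u = v * g := by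
      decide +kernel
    have hinj : Function.Injective (H.subtype.comp e.symm.toMonoidHom) :=
      H.subtype_injective.comp e.symm.injective
    set f := H.subtype.comp e.symm.toMonoidHom
    obtain ⟨U, hU⟩ := CfsgLib.PSL2Product.mk_surjective (f u)
    obtain ⟨V, hV⟩ := CfsgLib.PSL2Product.mk_surjective (f v)
    obtain ⟨G, hG⟩ := CfsgLib.PSL2Product.mk_surjective (f g)
    have h2 : (2 : F) = 0 := CharTwo.two_eq_zero
    have hneg : ∀ A : Matrix (Fin 2) (Fin 2) F, -A = A := fun A => by
      ext i j; exact CharTwo.neg_eq _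
    have hmk : Function.Injective (CfsgLib.PSL2.mk : Matrix.SpecialLinearGroup (Fin 2) F →* _) := fun A B h => by
      rcases CfsgLib.PSL2.mk_eq_mk.mp h with e | e
      · exact Subtype.ext e.symm
      · rw [hneg] at e; exact Subtype.ext e.symm
    have hU2 : U * U = 1 := hmk (by rw [map_mul, hU, map_one, ← map_mul, hu, map_one])
    have hUV : U * V = V * U := hmk (by rw [map_mul, map_mul, hU, hV, ← map_mul, ← map_mul, huv])
    have hU1 : U ≠ 1 := fun e => hu1 (hinj (by rw [← hU, e, map_one, map_one]))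
    have hV1 : V ≠ 1 := fun e => hv1 (hinj (by rw [← hV, e, map_one, map_one]))
    have hVU : V ≠ U := fun e => huv1 (hinj (by rw [← hV, e, hU]))
    have hG3 : G * G * G = 1 := hmk (by rw [map_mul, map_mul, hG, map_one, ← map_mul, ← map_mul, hg, map_one])
    have hG1 : G ≠ 1 := fun e => hg1 (hinj (by rw [← hG, e, map_one, map_one]))
    have hGU : G * U = V * G := hmk (by rw [map_mul, map_mul, hG, hU, hV, ← map_mul, ← map_mul, hgu])
    have hsq : (U.1 - 1) * (U.1 - 1) = 0 := by
      have h : U.1 * U.1 = 1 := congrArg Subtype.val hU2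
      have hAA : ∀ A : Matrix (Fin 2) (Fin 2) F, A + A = 0 := fun A => by
        ext i j; exact CharTwo.add_self_eq_zero _
      calc (U.1 - 1) * (U.1 - 1) = (U.1 * U.1 + 1) - (U.1 + U.1) := by noncomm_ring
        _ = 0 := by rw [h, hAA, hAA, sub_zero]
    obtain ⟨d, hd, hc⟩ := CfsgLib.TwoByTwo.exists_isConj_uSL hsq hU1
    obtain ⟨c, hc⟩ := isConj_iff.mp hc.symm
    let φ := MulAut.conj c
    have hφU : φ U = CfsgLib.PSL2.uSL d := hc
    have e1 : φ U * φ V = φ V * φ U := by rw [← map_mul, hUV, map_mul]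
    have e2 : φ G * φ U = φ V * φ G := by rw [← map_mul, hGU, map_mul]
    have e3 : φ G * φ G * φ G = 1 := by rw [← map_mul, ← map_mul, hG3, map_one]
    have hv' : φ V ≠ 1 := fun e => hV1 (φ.injective (by rw [e, map_one]))
    have hg' : φ G ≠ 1 := fun e => hG1 (φ.injective (by rw [e, map_one]))
    have hv2 : φ V * φ V = 1 := by
      have : V * V = 1 := by
        have h' : V = G * U * G⁻¹ := by rw [hGU, mul_inv_cancel_right]
        rw [h']
        calc G * U * G⁻¹ * (G * U * G⁻¹) = G * (U * U) * G⁻¹ := by group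
          _ = 1 := by rw [hU2, mul_one, mul_inv_cancel]
      rw [← map_mul, this, map_one]
    rw [hφU] at e1 e2
    generalize φ V = W at e1 e2 hv' hv2
    generalize φ G = K at e2 e3 hg'
    -- `W` is upper unitriangular
    have w1 : W.1 * W.1 = 1 := congrArg Subtype.val hv2
    have f1 : (CfsgLib.PSL2.uSL d).1 * W.1 = W.1 * (CfsgLib.PSL2.uSL d).1 := congrArg Subtype.val e1
    simp only [CfsgLib.PSL2.coe_uSL] at f1
    have a00 := congrFun (congrFun f1 0) 0
    have a01 := congrFun (congrFun f1 0) 1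
    simp [Matrix.mul_apply, Fin.sum_univ_two] at a00 a01
    have hc0 : W.1 1 0 = 0 := a00.resolve_left hd
    have hw11 : W.1 1 1 = W.1 0 0 := mul_left_cancel₀ hd (by linear_combination a01)
    have hw00 : W.1 0 0 = 1 := by
      have h := congrFun (congrFun w1 0) 0
      simp [Matrix.mul_apply, Fin.sum_univ_two, hc0] at h
      rcases mul_self_eq_one_iff.mp h with e | e
      · exact e
      · rw [e, CharTwo.neg_eq]
    have hw01 : W.1 0 1 ≠ 0 := fun e => hv' (Subtype.ext (by
      ext i j; fin_cases i <;> fin_cases j <;> simp [e, hc0, hw00, hw11]))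
    have f2 : K.1 * (CfsgLib.PSL2.uSL d).1 = W.1 * K.1 := congrArg Subtype.val e2
    simp only [CfsgLib.PSL2.coe_uSL] at f2
    have b00 := congrFun (congrFun f2 0) 0
    simp [Matrix.mul_apply, Fin.sum_univ_two, hw00] at b00
    have hk10 : K.1 1 0 = 0 := b00.resolve_left hw01
    have hkk : K.1 * K.1 * K.1 = 1 := congrArg Subtype.val e3
    have hk00 : K.1 0 0 = 1 := by
      have h := congrFun (congrFun hkk 0) 0
      simp [Matrix.mul_apply, Fin.sum_univ_two, hk10] at h
      have h' : (Units.mk0 (K.1 0 0) fun e => by simp [e] at h) ^ 3 = 1 := Units.ext (by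
        simp [pow_succ, h])
      have hd3 := orderOf_dvd_of_pow_eq_one h'
      rcases (Nat.dvd_prime (by norm_num)).mp hd3 with h1 | h1
      · exact congrArg Units.val (orderOf_eq_one_iff.mp h1)
      · exfalso
        have h4 := orderOf_dvd_natCard (Units.mk0 (K.1 0 0) fun e => by simp [e] at h)
        rw [h1, Nat.card_units, Nat.card_eq_fintype_card, hF] at h4
        obtain ⟨k, rfl⟩ := hn
        rw [pow_succ, pow_mul] at h4
        have : (2 ^ 2) ^ k % 3 = 1 := by rw [Nat.pow_mod]; norm_num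
        omega
    have hk11 : K.1 1 1 = 1 := by
      have h := K.2
      rw [Matrix.det_fin_two, hk10, hk00] at h
      simpa using h
    refine hg' (Subtype.ext ?_)
    have hK2 : K.1 * K.1 = 1 := by
      ext i j
      fin_cases i <;> fin_cases j <;>
        simp [Matrix.mul_apply, Fin.sum_univ_two, hk10, hk00, hk11, ← two_mul, h2]
    rw [hK2, one_mul] at hkk
    exact hkk
  · intro hnot
    by_cases hp : p = 2
    · subst hp
      obtain ⟨k, rfl⟩ := Nat.not_odd_iff_even.mp (fun h => hnot ⟨rfl, h⟩)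
      have hk : 1 ≤ k := by
        rcases Nat.eq_zero_or_pos k with rfl | h
        · have := Fintype.one_lt_card (α := F); simp [hF] at this
        · exact h
      letI := Fintype.ofFinite (GaloisField 2 2)
      have h4 : Fintype.card (GaloisField 2 2) = 4 := by
        rw [Fintype.card_eq_nat_card, GaloisField.card 2 2 (by norm_num)]; norm_num
      obtain ⟨H, ⟨e⟩⟩ := CfsgLib.PSL2Subfield.exists_sub (F := F) (K := GaloisField 2 2) k hk
        (by rw [h4, hF, ← two_mul, pow_mul]; norm_num)
      obtain ⟨e5⟩ := Cfsg.Agent.S0252.result h4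
      obtain ⟨g, hg⟩ := exists_A4_to_A5
      let f : alternatingGroup (Fin 4) →* Matrix.ProjectiveSpecialLinearGroup (Fin 2) F :=
        H.subtype.comp ((e.trans e5).symm.toMonoidHom.comp g)
      have hf : Function.Injective f := H.subtype_injective.comp ((e.trans e5).symm.injective.comp hg)
      exact ⟨f.range, ⟨(MonoidHom.ofInjective hf).symm⟩⟩
    · exact CfsgLib.PSL2Platonic.exists_A4 (Ring.two_ne_zero (by rw [ringChar.eq F p]; exact hp))

end Cfsg.Agent.S0802
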