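import Cfsg.Statements.S0803
import Mathlib
import Cfsg.Agent.Lib.PSL2Platonic
import Cfsg.Agent.Lib.SLCard

set_option autoImplicit false
open Cfsg

namespace Cfsg.Agent.S0803



/-- PSL_2(q) has a subgroup isomorphic to S_4 iff q² ≡ 1 (mod 16). -/
theorem result {F : Type*} [Field F] [Fintype F] {q : ℕ} (hF : Fintype.card F = q) : (∃ H : Subgroup (Matrix.ProjectiveSpecialLinearGroup (Fin 2) F), Nonempty (H ≃* Equiv.Perm (Fin 4))) ↔ q ^ 2 % 16 = 1 := by
  classical
  subst hF
  have hp := CfsgLib.SLCard.gcd_mul_card_PSL (F := F) (n := 2) (by norm_num)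
  rw [CfsgLib.SLCard.card_SL_two] at hp
  rcases Nat.even_or_odd (Fintype.card F) with heven | hodd
  · refine iff_of_false ?_ ?_
    · rintro ⟨H, ⟨e⟩⟩
      have hc : ringChar F = 2 := FiniteField.even_card_iff_char_two.mpr (Nat.even_iff.mp heven)
      haveI : CharP F 2 := ringChar.of_eq hc
      obtain ⟨g, hg2, hg4⟩ : ∃ g : Equiv.Perm (Fin 4), g * g ≠ 1 ∧ g * g * g * g = 1 := by decide +kernel
      have hinj : Function.Injective (H.subtype.comp e.symm.toMonoidHom) :=
        H.subtype_injective.comp e.symm.injective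
      set f := H.subtype.comp e.symm.toMonoidHom
      obtain ⟨A, hA⟩ := CfsgLib.PSL2Product.mk_surjective (f g)
      have hneg : ∀ M : Matrix (Fin 2) (Fin 2) F, -M = M := fun M => by ext i j; exact CharTwo.neg_eq _
      have hmk : Function.Injective (CfsgLib.PSL2.mk : Matrix.SpecialLinearGroup (Fin 2) F →* _) := fun A B h => by
        rcases CfsgLib.PSL2.mk_eq_mk.mp h with e | e
        · exact Subtype.ext e.symm
        · rw [hneg] at e; exact Subtype.ext e.symm
      have hA4 : A ^ 4 = 1 := hmk (by
        rw [map_pow, hA, map_one, ← map_pow, show g ^ 4 = g * g * g * g by simp [pow_succ, mul_assoc], hg4, map_one])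
      refine hg2 (hinj ?_)
      rw [map_one, map_mul, ← hA, ← map_mul, ← pow_two, ← map_one (CfsgLib.PSL2.mk : Matrix.SpecialLinearGroup (Fin 2) F →* _)]
      refine congrArg _ ?_
      rcases CfsgLib.SL2Orders.pow_cases_char_two A with h | h | h
      all_goals first
        | exact h
        | (refine orderOf_dvd_iff_pow_eq_one.mp (Dvd.dvd.trans ?_ (one_dvd 2))
           refine Nat.eq_one_of_dvd_coprimes (k := orderOf A) ?_ (orderOf_dvd_of_pow_eq_one hA4) (orderOf_dvd_of_pow_eq_one h) ▸ dvd_rfl
           refine Nat.Coprime.pow_left 2 (Nat.prime_two.coprime_iff_not_dvd.mpr ?_)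
           have := Nat.even_iff.mp heven
           have := Fintype.one_lt_card (α := F)
           omega)
    · have h4 : 2 ∣ Fintype.card F ^ 2 % 16 := by
        rw [Nat.dvd_mod_iff (by norm_num)]
        exact dvd_pow heven.two_dvd two_ne_zero
      omega
  · have hg : Nat.gcd 2 (Fintype.card F - 1) = 2 := Nat.gcd_eq_left (by
      obtain ⟨m, hm⟩ := hodd; exact ⟨m, by omega⟩)
    rw [hg] at hp
    constructor
    · rintro ⟨H, ⟨e⟩⟩
      have hd := H.card_subgroup_dvd_card
      rw [Nat.card_congr e.toEquiv, Nat.card_perm, Nat.card_eq_fintype_card, Fintype.card_fin] at hd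
      have h16 : 16 ∣ Fintype.card F * (Fintype.card F ^ 2 - 1) := by
        rw [← hp]
        exact Dvd.dvd.trans (by norm_num : 16 ∣ 2 * Nat.factorial 4) (Nat.mul_dvd_mul_left 2 hd)
      have hcop : Nat.Coprime 16 (Fintype.card F) :=
        Nat.Coprime.pow_left 4 (Nat.prime_two.coprime_iff_not_dvd.mpr (by
          have := Nat.odd_iff.mp hodd; omega))
      have := hcop.dvd_of_dvd_mul_left h16
      have h1 : 1 ≤ Fintype.card F ^ 2 := Nat.one_le_pow _ _ Fintype.card_pos
      omega
    · intro h16
      refine CfsgLib.PSL2Platonic.exists_S4 (CfsgLib.SL2Orders.two_ne_zero_of_odd hodd) ?_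
      rw [FiniteField.isSquare_two_iff]
      have h := h16
      rw [Nat.pow_mod] at h
      have h8 : Fintype.card F % 8 = Fintype.card F % 16 % 8 := by omega
      have := Nat.mod_lt (Fintype.card F) (show 16 > 0 by norm_num)
      interval_cases Fintype.card F % 16 <;> simp at h <;> omega

end Cfsg.Agent.S0803
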