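import Cfsg.Statements.S0807
import Mathlib
import Cfsg.Agent.Lib.PSL2Klein
import Cfsg.Agent.Lib.SLCard

set_option autoImplicit false
open Cfsg

namespace Cfsg.Agent.S0807



/-- For q odd, twelve times the number of Klein four-subgroups of PSL_2(q) equals the order of PSL_2(q). -/
theorem result {F : Type*} [Field F] [Fintype F] {q : ℕ} (hF : Fintype.card F = q) (hodd : Odd q) : 12 * Nat.card {V : Subgroup (Matrix.ProjectiveSpecialLinearGroup (Fin 2) F) // IsKleinFour V} = Nat.card (Matrix.ProjectiveSpecialLinearGroup (Fin 2) F) := by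
  subst hF
  have h2 := CfsgLib.SL2Orders.two_ne_zero_of_odd hodd
  have h := CfsgLib.PSL2Klein.twelve_mul_card h2
  have hp := CfsgLib.SLCard.gcd_mul_card_PSL (F := F) (n := 2) (by norm_num)
  have hg : Nat.gcd 2 (Fintype.card F - 1) = 2 := Nat.gcd_eq_left (by
    obtain ⟨m, hm⟩ := hodd
    exact ⟨m, by omega⟩)
  rw [hg] at hp
  omega

end Cfsg.Agent.S0807
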