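import Cfsg.Statements.S0808
import Mathlib
import Cfsg.Agent.Lib.PSL2Klein
import Cfsg.Agent.Lib.SLCard

set_option autoImplicit false
open Cfsg

namespace Cfsg.Agent.S0808

/-- Orbit–stabiliser for conjugation of subgroups. -/
theorem orbit_card {G : Type*} [Group G] [Finite G] (V : Subgroup G) :
    Nat.card {W : Subgroup G // ∃ g : G, W = V.map (MulAut.conj g).toMonoidHom} *
      Nat.card ↥(Subgroup.normalizer (V : Set G)) = Nat.card G := by
  classical
  haveI := Fintype.ofFinite G
  let O := {W : Subgroup G // ∃ g : G, W = V.map (MulAut.conj g).toMonoidHom}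
  let f : G → O := fun g => ⟨V.map (MulAut.conj g).toMonoidHom, g, rfl⟩
  have : Fintype O := Fintype.ofFinite O
  symm
  rw [Nat.card_congr (Equiv.sigmaFiberEquiv f).symm, Nat.card_sigma,
    Finset.sum_congr rfl (g := fun _ => Nat.card ↥(Subgroup.normalizer (V : Set G))), Finset.sum_const,
    smul_eq_mul, Finset.card_univ, ← Nat.card_eq_fintype_card]
  rintro ⟨W, c, rfl⟩ _
  refine Nat.card_congr ((Equiv.mulLeft c).subtypeEquiv fun n => ?_).symm
  show n ∈ Subgroup.normalizer (V : Set G) ↔ f (c * n) = _
  rw [Subgroup.mem_normalizer_iff_map_conj_eq, Subtype.ext_iff]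
  show _ ↔ V.map (MulAut.conj (c * n)).toMonoidHom = V.map (MulAut.conj c).toMonoidHom
  have e : V.map (MulAut.conj (c * n)).toMonoidHom = (V.map (MulAut.conj n).toMonoidHom).map (MulAut.conj c).toMonoidHom := by
    rw [Subgroup.map_map]
    congr 1
    refine MonoidHom.ext fun x => ?_
    show c * n * x * (c * n)⁻¹ = c * (n * x * n⁻¹) * c⁻¹
    group
  rw [e, (Subgroup.map_injective (f := (MulAut.conj c).toMonoidHom) (MulAut.conj c).injective).eq_iff]
  exact Iff.rfl

/-- Conjugacy classes of four-groups in PSL_2(q), q odd: if q ≡ 3 or 5 (mod 8) all Klein four-subgroups are conjugate; if q ≡ 1 or 7 (mod 8) there are two Klein four-subgroups which are not conjugate, and every Klein four-subgroup is conjugate to one of them. -/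
theorem result {F : Type*} [Field F] [Fintype F] {q : ℕ} (hF : Fintype.card F = q) (hodd : Odd q) : ((q % 8 = 3 ∨ q % 8 = 5) → ∀ V W : Subgroup (Matrix.ProjectiveSpecialLinearGroup (Fin 2) F), IsKleinFour V → IsKleinFour W → ∃ g : Matrix.ProjectiveSpecialLinearGroup (Fin 2) F, W = V.map (MulAut.conj g).toMonoidHom) ∧ ((q % 8 = 1 ∨ q % 8 = 7) → ∃ V₁ V₂ : Subgroup (Matrix.ProjectiveSpecialLinearGroup (Fin 2) F), IsKleinFour V₁ ∧ IsKleinFour V₂ ∧ (¬ ∃ g : Matrix.ProjectiveSpecialLinearGroup (Fin 2) F, V₂ = V₁.map (MulAut.conj g).toMonoidHom) ∧ ∀ W : Subgroup (Matrix.ProjectiveSpecialLinearGroup (Fin 2) F), IsKleinFour W → (∃ g : Matrix.ProjectiveSpecialLinearGroup (Fin 2) F, W = V₁.map (MulAut.conj g).toMonoidHom) ∨ (∃ g : Matrix.ProjectiveSpecialLinearGroup (Fin 2) F, W = V₂.map (MulAut.conj g).toMonoidHom)) := by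
  classical
  subst hF
  have h2 := CfsgLib.SL2Orders.two_ne_zero_of_odd hodd
  have hcnt := CfsgLib.PSL2Klein.twelve_mul_card h2
  have hp := CfsgLib.SLCard.gcd_mul_card_PSL (F := F) (n := 2) (by norm_num)
  rw [Nat.gcd_eq_left (show 2 ∣ Fintype.card F - 1 by obtain ⟨m, hm⟩ := hodd; exact ⟨m, by omega⟩)] at hp
  have hG : 12 * Nat.card {V : Subgroup (Matrix.ProjectiveSpecialLinearGroup (Fin 2) F) // IsKleinFour V} = Nat.card (Matrix.ProjectiveSpecialLinearGroup (Fin 2) F) := by
    have : 2 * Nat.card (Matrix.ProjectiveSpecialLinearGroup (Fin 2) F) = Nat.card (Matrix.SpecialLinearGroup (Fin 2) F) := hp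
    omega
  have hcardG : 2 * Nat.card (Matrix.ProjectiveSpecialLinearGroup (Fin 2) F) = Fintype.card F * (Fintype.card F ^ 2 - 1) :=
    hp.trans CfsgLib.SLCard.card_SL_two
  haveI : Fact (Nat.Prime 2) := ⟨Nat.prime_two⟩
  refine ⟨fun hq V W hV hW => ?_, fun hq => ?_⟩
  · -- the four-groups are Sylow subgroups
    have h8 : ¬ 8 ∣ Nat.card (Matrix.ProjectiveSpecialLinearGroup (Fin 2) F) := by
      intro h
      have h16 : 16 ∣ Fintype.card F * (Fintype.card F ^ 2 - 1) := by
        rw [← hcardG]; exact Nat.mul_dvd_mul_left 2 h
      have hcop : Nat.Coprime 16 (Fintype.card F) :=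
        Nat.Coprime.pow_left 4 (Nat.prime_two.coprime_iff_not_dvd.mpr (by omega))
      have h' := hcop.dvd_of_dvd_mul_left h16
      have h1 : 1 ≤ Fintype.card F ^ 2 := Nat.one_le_pow _ _ Fintype.card_pos
      have h2' : Fintype.card F ^ 2 % 16 = 1 := by omega
      rw [Nat.pow_mod] at h2'
      have := Nat.mod_lt (Fintype.card F) (show 16 > 0 by norm_num)
      have h8' : Fintype.card F % 8 = Fintype.card F % 16 % 8 := by omega
      interval_cases Fintype.card F % 16 <;> omega
    have hsyl : ∀ U : Subgroup (Matrix.ProjectiveSpecialLinearGroup (Fin 2) F), IsKleinFour U → ∃ P : Sylow 2 (Matrix.ProjectiveSpecialLinearGroup (Fin 2) F), (P : Subgroup (Matrix.ProjectiveSpecialLinearGroup (Fin 2) F)) = U := by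
      intro U hU
      have hc : Nat.card U = 2 ^ 2 := by rw [hU.card_four]; norm_num
      obtain ⟨P, hP⟩ := (IsPGroup.of_card hc).exists_le_sylow
      refine ⟨P, (Subgroup.eq_of_le_of_card_ge hP ?_).symm⟩
      obtain ⟨k, hk⟩ := P.isPGroup'.exists_card_eq
      rw [hc, hk]
      refine Nat.pow_le_pow_right (by norm_num) (not_lt.mp fun hlt => h8 ?_)
      have h23 := Nat.pow_dvd_pow 2 (show 3 ≤ k from hlt)
      rw [← hk] at h23
      exact h23.trans (Subgroup.card_subgroup_dvd_card _)
    obtain ⟨P, rfl⟩ := hsyl V hV
    obtain ⟨Q, rfl⟩ := hsyl W hW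
    obtain ⟨g, hg⟩ := MulAction.exists_smul_eq (Matrix.ProjectiveSpecialLinearGroup (Fin 2) F) P Q
    exact ⟨g, by rw [← hg]; rfl⟩
  · -- every normaliser has order 24
    have h8 : 8 ∣ Nat.card (Matrix.ProjectiveSpecialLinearGroup (Fin 2) F) := by
      have h1 : 1 ≤ Fintype.card F ^ 2 := Nat.one_le_pow _ _ Fintype.card_pos
      have h2' : Fintype.card F ^ 2 % 16 = 1 := by
        rw [Nat.pow_mod]
        have := Nat.mod_lt (Fintype.card F) (show 16 > 0 by norm_num)
        have h8' : Fintype.card F % 8 = Fintype.card F % 16 % 8 := by omega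
        interval_cases Fintype.card F % 16 <;> omega
      have : 16 ∣ Fintype.card F * (Fintype.card F ^ 2 - 1) := Dvd.dvd.mul_left (by omega) _
      rw [← hcardG] at this
      omega
    have hN : ∀ V : Subgroup (Matrix.ProjectiveSpecialLinearGroup (Fin 2) F), IsKleinFour V → Nat.card ↥(Subgroup.normalizer (V : Set (Matrix.ProjectiveSpecialLinearGroup (Fin 2) F))) = 24 := by
      intro V hV
      have hub : Nat.card ↥(Subgroup.normalizer (V : Set (Matrix.ProjectiveSpecialLinearGroup (Fin 2) F))) ∣ 24 := by
        have hcard := V.normalizerMonoidHom.ker.card_mul_index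
        rw [Subgroup.index_ker] at hcard
        have hr : Nat.card V.normalizerMonoidHom.range ∣ 6 := by
          refine (Subgroup.card_subgroup_dvd_card _).trans ?_
          let ψ : MulAut V → Equiv.Perm {v : V // v ≠ 1} := fun φ =>
            φ.toEquiv.subtypeEquiv fun v => (map_ne_one_iff φ φ.injective).symm
          have hψ : Function.Injective ψ := fun φ φ' e => by
            refine MulEquiv.ext fun v => ?_
            rcases eq_or_ne v 1 with rfl | hv
            · rw [map_one, map_one]
            · exact congrArg Subtype.val (Equiv.ext_iff.mp e ⟨v, hv⟩)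
          refine (Subgroup.card_dvd_of_injective (MonoidHom.mk' ψ fun φ φ' => Equiv.ext fun v => rfl) hψ).trans ?_
          haveI := hV
          haveI := Fintype.ofFinite V
          rw [Nat.card_perm, Nat.card_eq_fintype_card, Fintype.card_subtype_compl, Fintype.card_subtype_eq,
            ← Nat.card_eq_fintype_card, hV.card_four]
          decide
        have hk : Nat.card V.normalizerMonoidHom.ker ∣ 4 := by
          rw [Subgroup.normalizerMonoidHom_ker,
            Nat.card_congr (Subgroup.subgroupOfEquivOfLe (Subgroup.centralizer_le_normalizer (s := (V : Set (Matrix.ProjectiveSpecialLinearGroup (Fin 2) F))))).toEquiv]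
          refine (Subgroup.card_dvd_of_le ?_).trans hV.card_four.dvd
          intro c hc
          -- two lifts generating the preimage
          haveI := hV
          haveI := Fintype.ofFinite V
          haveI : Nontrivial V := Fintype.one_lt_card_iff_nontrivial.mp
            (by rw [← Nat.card_eq_fintype_card, hV.card_four]; norm_num)
          obtain ⟨x, hx1⟩ := exists_ne (1 : V)
          have h3 : ∃ y : V, y ≠ 1 ∧ y ≠ x := by
            by_contra! hcon
            have : Fintype.card V ≤ ({1, x} : Finset V).card := Finset.card_le_card fun v _ => by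
              by_cases e : v = 1
              · simp [e]
              · simp [hcon v e]
            have h' : ({1, x} : Finset V).card ≤ 2 := Finset.card_le_two
            rw [← Nat.card_eq_fintype_card, hV.card_four] at this
            omega
          obtain ⟨y, hy1, hyx⟩ := h3
          obtain ⟨a, ha⟩ := CfsgLib.PSL2Product.mk_surjective (x : (Matrix.ProjectiveSpecialLinearGroup (Fin 2) F))
          obtain ⟨b, hb⟩ := CfsgLib.PSL2Product.mk_surjective (y : (Matrix.ProjectiveSpecialLinearGroup (Fin 2) F))
          obtain ⟨k, hk⟩ := CfsgLib.PSL2Product.mk_surjective c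
          have hat : a.1.trace = 0 := (CfsgLib.PSL2Klein.invol_iff h2).mp
            ⟨fun e => hx1 (Subtype.ext (ha.symm.trans e)), by rw [ha]; exact congrArg Subtype.val (IsKleinFour.mul_self x)⟩
          have hbt : b.1.trace = 0 := (CfsgLib.PSL2Klein.invol_iff h2).mp
            ⟨fun e => hy1 (Subtype.ext (hb.symm.trans e)), by rw [hb]; exact congrArg Subtype.val (IsKleinFour.mul_self y)⟩
          have hab : b * a = -a * b := by
            have e : CfsgLib.PSL2.mk (a * b) = CfsgLib.PSL2.mk (b * a) := by
              rw [map_mul, map_mul, ha, hb]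
              exact congrArg Subtype.val (mul_comm_of_exponent_two IsKleinFour.exponent_two x y)
            rcases CfsgLib.PSL2Klein.mk_eq_iff.mp e with e | e
            · rcases CfsgLib.PSL2Klein.eq_or_eq_neg h2 hat hbt e with e' | e'
              · exact absurd (Subtype.ext (hb.symm.trans ((congrArg _ e').trans ha))) hyx
              · refine absurd (Subtype.ext ?_) hyx
                rw [← ha, ← hb]
                exact CfsgLib.PSL2Klein.mk_eq_iff.mpr (Or.inr (by rw [e', neg_neg]))
            · rw [e, neg_mul]
          have hcom : ∀ (z : (Matrix.ProjectiveSpecialLinearGroup (Fin 2) F)) (d : Matrix.SpecialLinearGroup (Fin 2) F), z ∈ V → CfsgLib.PSL2.mk d = z →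
              k * d = d * k ∨ k * d = -(d * k) := fun z d hz hd => by
            have e : CfsgLib.PSL2.mk (d * k) = CfsgLib.PSL2.mk (k * d) := by
              rw [map_mul, map_mul, hd, hk]
              exact Subgroup.mem_centralizer_iff.mp hc z hz
            exact CfsgLib.PSL2Klein.mk_eq_iff.mp e
          rcases hcom _ a x.2 ha with e1 | e1
          · -- in the centraliser of `a`
            obtain ⟨u, v, huv⟩ := CfsgLib.SL2Centralizer.exists_of_commute
              (CfsgLib.SL2Centralizer.not_scalar_of_trace (g := a) (by rw [hat]; exact CfsgLib.PSL2Klein.zero_sq_ne_four h2))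
              (show Commute k.1 a.1 from congrArg Subtype.val e1)
            have hm : CfsgLib.PSL2.mk k = 1 ∨ CfsgLib.PSL2.mk k = CfsgLib.PSL2.mk a := by
              have hd : k.1.det = 1 := k.2
              rw [huv, CfsgLib.SL2Centralizer.det_lin, hat] at hd
              have hb0 : u * v = 0 := by
                have hmb : b.1 * a.1 = -(a.1 * b.1) := by
                  have := congrArg Subtype.val hab
                  rw [neg_mul] at this
                  exact this
                rcases hcom _ b y.2 hb with e2 | e2
                · have e : k.1 * b.1 = b.1 * k.1 := congrArg Subtype.val e2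
                  rw [huv] at e
                  simp only [Matrix.add_mul, Matrix.mul_add, Matrix.smul_mul, Matrix.mul_smul, one_mul, mul_one, hmb,
                    smul_neg, add_right_inj] at e
                  have : ((2 : F) * v) • (a * b).1 = 0 := by
                    rw [two_mul, add_smul]
                    exact add_eq_zero_iff_eq_neg.mpr e
                  rcases smul_eq_zero.mp this with e' | e'
                  · rw [(mul_eq_zero.mp e').resolve_left h2, mul_zero]
                  · exact absurd (a * b).2 (by rw [e']; simp)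
                · have e : k.1 * b.1 = -(b.1 * k.1) := congrArg Subtype.val e2
                  rw [huv] at e
                  simp only [Matrix.add_mul, Matrix.mul_add, Matrix.smul_mul, Matrix.mul_smul, one_mul, mul_one, hmb,
                    smul_neg, neg_add, neg_neg, add_left_inj] at e
                  have : ((2 : F) * u) • b.1 = 0 := by
                    rw [two_mul, add_smul]
                    exact add_eq_zero_iff_eq_neg.mpr e
                  rcases smul_eq_zero.mp this with e' | e'
                  · rw [(mul_eq_zero.mp e').resolve_left h2, zero_mul]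
                  · exact absurd b.2 (by rw [e']; simp)
              rw [← map_one (CfsgLib.PSL2.mk : Matrix.SpecialLinearGroup (Fin 2) F →* _), CfsgLib.PSL2.mk_eq_mk, CfsgLib.PSL2.mk_eq_mk]
              rcases mul_eq_zero.mp hb0 with e' | e' <;> subst e'
              · rcases mul_self_eq_one_iff.mp (show v * v = 1 by linear_combination hd) with rfl | rfl
                · right; left; rw [huv]; simp
                · right; right; rw [huv]; simp
              · rcases mul_self_eq_one_iff.mp (show u * u = 1 by linear_combination hd) with rfl | rfl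
                · left; left; rw [huv]; simp
                · left; right; rw [huv]; simp
            rw [← hk]
            rcases hm with e | e <;> rw [e]
            · exact one_mem V
            · rw [ha]; exact x.2
          · -- multiply by `b`
            obtain ⟨u, v, huv⟩ := CfsgLib.SL2Centralizer.exists_of_commute
              (CfsgLib.SL2Centralizer.not_scalar_of_trace (g := a) (by rw [hat]; exact CfsgLib.PSL2Klein.zero_sq_ne_four h2))
              (show Commute (k * b).1 a.1 from congrArg Subtype.val
                (show (k * b) * a = a * (k * b) by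
                  rw [mul_assoc, hab, neg_mul, mul_neg, ← mul_assoc, e1, neg_mul, neg_neg, mul_assoc]))
            have hd : (k * b).1.det = 1 := (k * b).2
            rw [huv, CfsgLib.SL2Centralizer.det_lin, hat] at hd
            have hb0 : u * v = 0 := by
              have hmb : b.1 * a.1 = -(a.1 * b.1) := by
                have := congrArg Subtype.val hab
                rw [neg_mul] at this
                exact this
              rcases hcom _ b y.2 hb with e2 | e2
              · have e : (k * b).1 * b.1 = b.1 * (k * b).1 :=
                  congrArg Subtype.val (show (k * b) * b = b * (k * b) by rw [← mul_assoc, ← e2])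
                rw [huv] at e
                simp only [Matrix.add_mul, Matrix.mul_add, Matrix.smul_mul, Matrix.mul_smul, one_mul, mul_one, hmb,
                  smul_neg, add_right_inj] at e
                have : ((2 : F) * v) • (a * b).1 = 0 := by
                  rw [two_mul, add_smul]
                  exact add_eq_zero_iff_eq_neg.mpr e
                rcases smul_eq_zero.mp this with e' | e'
                · rw [(mul_eq_zero.mp e').resolve_left h2, mul_zero]
                · exact absurd (a * b).2 (by rw [e']; simp)
              · have e : (k * b).1 * b.1 = -(b.1 * (k * b).1) :=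
                  congrArg Subtype.val (show (k * b) * b = -(b * (k * b)) by rw [← mul_assoc, ← neg_mul, ← e2])
                rw [huv] at e
                simp only [Matrix.add_mul, Matrix.mul_add, Matrix.smul_mul, Matrix.mul_smul, one_mul, mul_one, hmb,
                  smul_neg, neg_add, neg_neg, add_left_inj] at e
                have : ((2 : F) * u) • b.1 = 0 := by
                  rw [two_mul, add_smul]
                  exact add_eq_zero_iff_eq_neg.mpr e
                rcases smul_eq_zero.mp this with e' | e'
                · rw [(mul_eq_zero.mp e').resolve_left h2, zero_mul]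
                · exact absurd b.2 (by rw [e']; simp)
            have hm : CfsgLib.PSL2.mk (k * b) = 1 ∨ CfsgLib.PSL2.mk (k * b) = CfsgLib.PSL2.mk a := by
              rw [← map_one (CfsgLib.PSL2.mk : Matrix.SpecialLinearGroup (Fin 2) F →* _), CfsgLib.PSL2.mk_eq_mk, CfsgLib.PSL2.mk_eq_mk]
              rcases mul_eq_zero.mp hb0 with e' | e' <;> subst e'
              · rcases mul_self_eq_one_iff.mp (show v * v = 1 by linear_combination hd) with rfl | rfl
                · right; left; rw [huv]; simp
                · right; right; rw [huv]; simp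
              · rcases mul_self_eq_one_iff.mp (show u * u = 1 by linear_combination hd) with rfl | rfl
                · left; left; rw [huv]; simp
                · left; right; rw [huv]; simp
            rw [map_mul, hk, hb] at hm
            refine (Subgroup.mul_mem_cancel_right V y.2).mp ?_
            rcases hm with e | e <;> rw [e]
            · exact one_mem V
            · rw [ha]; exact x.2
        calc _ = _ := hcard.symm
          _ ∣ 4 * 6 := Nat.mul_dvd_mul hk hr
      -- eight divides
      have h8N : 8 ∣ Nat.card ↥(Subgroup.normalizer (V : Set (Matrix.ProjectiveSpecialLinearGroup (Fin 2) F))) := by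
        have hc : Nat.card V = 2 ^ 2 := by rw [hV.card_four]; norm_num
        obtain ⟨K, hK, hVK⟩ := Sylow.exists_subgroup_card_pow_succ (p := 2) (n := 2) (by simpa using h8) hc
        have hKc : Nat.card K = 8 := hK
        have hKN : K ≤ Subgroup.normalizer (V : Set (Matrix.ProjectiveSpecialLinearGroup (Fin 2) F)) := by
          have hidx : (V.subgroupOf K).index = 2 := by
            have h' := (V.subgroupOf K).card_mul_index
            rw [Nat.card_congr (Subgroup.subgroupOfEquivOfLe hVK).toEquiv, hc, hKc] at h'
            omega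
          haveI := Subgroup.normal_of_index_eq_two hidx
          exact Subgroup.le_normalizer_of_normal_subgroupOf hVK
        exact hKc ▸ Subgroup.card_dvd_of_le hKN
      have horb := orbit_card V
      have hle : Nat.card {W : Subgroup (Matrix.ProjectiveSpecialLinearGroup (Fin 2) F) // ∃ g : (Matrix.ProjectiveSpecialLinearGroup (Fin 2) F), W = V.map (MulAut.conj g).toMonoidHom} ≤
          Nat.card {V : Subgroup (Matrix.ProjectiveSpecialLinearGroup (Fin 2) F) // IsKleinFour V} :=
        Nat.card_le_card_of_injective (fun W => ⟨W.1, by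
          obtain ⟨g, hg⟩ := W.2
          rw [hg]
          exact ⟨by rw [Subgroup.card_map_of_injective (MulAut.conj g).injective]; exact hV.card_four,
            by
              rw [← Monoid.exponent_eq_of_mulEquiv (V.equivMapOfInjective _ (MulAut.conj g).injective)]
              exact hV.exponent_two⟩⟩) fun a b e => Subtype.ext (by simpa using e)
      have hpos : 0 < Nat.card (Matrix.ProjectiveSpecialLinearGroup (Fin 2) F) := Nat.card_pos
      obtain ⟨m, hm⟩ := h8N
      rw [hm] at horb hub ⊢
      rw [show (24 : ℕ) = 8 * 3 from rfl, Nat.mul_dvd_mul_iff_left (by norm_num : 0 < 8)] at hub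
      rcases (Nat.dvd_prime (by norm_num)).mp hub with rfl | rfl <;> omega
    have hne : Nonempty {V : Subgroup (Matrix.ProjectiveSpecialLinearGroup (Fin 2) F) // IsKleinFour V} := by
      rw [← not_isEmpty_iff]
      intro h
      have := Nat.card_pos (α := (Matrix.ProjectiveSpecialLinearGroup (Fin 2) F))
      rw [Nat.card_of_isEmpty] at hG
      omega
    obtain ⟨V₁, hV₁⟩ := hne
    let O := fun V : Subgroup (Matrix.ProjectiveSpecialLinearGroup (Fin 2) F) => {W : Subgroup (Matrix.ProjectiveSpecialLinearGroup (Fin 2) F) // ∃ g : (Matrix.ProjectiveSpecialLinearGroup (Fin 2) F), W = V.map (MulAut.conj g).toMonoidHom}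
    have hhalf : ∀ V : Subgroup (Matrix.ProjectiveSpecialLinearGroup (Fin 2) F), IsKleinFour V → 2 * Nat.card (O V) = Nat.card {V : Subgroup (Matrix.ProjectiveSpecialLinearGroup (Fin 2) F) // IsKleinFour V} := by
      intro V hV
      have h' := orbit_card V
      rw [hN V hV] at h'
      show 2 * Nat.card {W : Subgroup (Matrix.ProjectiveSpecialLinearGroup (Fin 2) F) // ∃ g : (Matrix.ProjectiveSpecialLinearGroup (Fin 2) F), W = V.map (MulAut.conj g).toMonoidHom} = _
      omega
    have hklein : ∀ (V : Subgroup (Matrix.ProjectiveSpecialLinearGroup (Fin 2) F)) (g : (Matrix.ProjectiveSpecialLinearGroup (Fin 2) F)), IsKleinFour V → IsKleinFour (V.map (MulAut.conj g).toMonoidHom) :=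
      fun V g hV => ⟨by rw [Subgroup.card_map_of_injective (MulAut.conj g).injective]; exact hV.card_four,
        by
          rw [← Monoid.exponent_eq_of_mulEquiv (V.equivMapOfInjective _ (MulAut.conj g).injective)]
          exact hV.exponent_two⟩
    obtain ⟨V₂, hV₂, hnc⟩ : ∃ V₂ : Subgroup (Matrix.ProjectiveSpecialLinearGroup (Fin 2) F), IsKleinFour V₂ ∧ ¬ ∃ g : (Matrix.ProjectiveSpecialLinearGroup (Fin 2) F), V₂ = V₁.map (MulAut.conj g).toMonoidHom := by
      by_contra! hcon
      have : Nat.card {V : Subgroup (Matrix.ProjectiveSpecialLinearGroup (Fin 2) F) // IsKleinFour V} ≤ Nat.card (O V₁) :=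
        Nat.card_le_card_of_injective (fun W => (⟨W.1, hcon W.1 W.2⟩ : O V₁)) fun a b e => Subtype.ext (congrArg (fun z : O V₁ => z.1) e)
      have := hhalf V₁ hV₁
      have := Nat.card_pos (α := (Matrix.ProjectiveSpecialLinearGroup (Fin 2) F))
      omega
    refine ⟨V₁, V₂, hV₁, hV₂, hnc, fun W hW => ?_⟩
    by_contra hcon
    push Not at hcon
    have hdisj : ∀ (g g' : (Matrix.ProjectiveSpecialLinearGroup (Fin 2) F)), V₁.map (MulAut.conj g).toMonoidHom ≠ V₂.map (MulAut.conj g').toMonoidHom := by
      intro g g' e
      refine hnc ⟨g'⁻¹ * g, ?_⟩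
      have e' := congrArg (fun U : Subgroup (Matrix.ProjectiveSpecialLinearGroup (Fin 2) F) => U.map (MulAut.conj g'⁻¹).toMonoidHom) e
      simp only [Subgroup.map_map] at e'
      have i1 : (MulAut.conj g'⁻¹).toMonoidHom.comp (MulAut.conj g').toMonoidHom = MonoidHom.id (Matrix.ProjectiveSpecialLinearGroup (Fin 2) F) :=
        MonoidHom.ext fun x => by
          show g'⁻¹ * (g' * x * g'⁻¹) * g'⁻¹⁻¹ = x
          group
      have i2 : (MulAut.conj g'⁻¹).toMonoidHom.comp (MulAut.conj g).toMonoidHom = (MulAut.conj (g'⁻¹ * g)).toMonoidHom :=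
        MonoidHom.ext fun x => by
          show g'⁻¹ * (g * x * g⁻¹) * g'⁻¹⁻¹ = g'⁻¹ * g * x * (g'⁻¹ * g)⁻¹
          group
      rw [i1, i2, Subgroup.map_id] at e'
      exact e'.symm
    let f : Option (O V₁ ⊕ O V₂) → {V : Subgroup (Matrix.ProjectiveSpecialLinearGroup (Fin 2) F) // IsKleinFour V} := fun o =>
      match o with
      | none => ⟨W, hW⟩
      | some (Sum.inl U) => ⟨U.1, by obtain ⟨g, hg⟩ := U.2; rw [hg]; exact hklein _ g hV₁⟩
      | some (Sum.inr U) => ⟨U.1, by obtain ⟨g, hg⟩ := U.2; rw [hg]; exact hklein _ g hV₂⟩
    have hf : Function.Injective f := by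
      rintro (_ | ⟨U, g, hU⟩ | ⟨U, g, hU⟩) (_ | ⟨U', g', hU'⟩ | ⟨U', g', hU'⟩) e <;>
        have e' := congrArg Subtype.val e <;> simp only [f] at e'
      · rfl
      · exact absurd (e'.trans hU') (hcon.1 g')
      · exact absurd (e'.trans hU') (hcon.2 g')
      · exact absurd (e'.symm.trans hU) (hcon.1 g)
      · subst e'; rfl
      · exact absurd (hU.symm.trans (e'.trans hU')) (hdisj g g')
      · exact absurd (e'.symm.trans hU) (hcon.2 g)
      · exact absurd (hU'.symm.trans (e'.symm.trans hU)) (hdisj g' g)
      · subst e'; rfl
    have hle := Nat.card_le_card_of_injective f hf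
    rw [Finite.card_option, Nat.card_sum] at hle
    have := hhalf V₁ hV₁
    have := hhalf V₂ hV₂
    omega

end Cfsg.Agent.S0808
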