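import Cfsg.Statements.S0809
import Mathlib
import Cfsg.Agent.Lib.PSL2Klein

set_option autoImplicit false
open Cfsg

namespace Cfsg.Agent.S0809



/-- In SL_2(q), q odd: any two subgroups of order 4 are conjugate, and the normaliser of a subgroup of order 4 has order 2(q − 1) if q ≡ 1 (mod 4) and 2(q + 1) if q ≡ 3 (mod 4); consequently all involutions of PSL_2(q) are conjugate. -/
theorem result {F : Type*} [Field F] [Fintype F] {q : ℕ} (hF : Fintype.card F = q) (hodd : Odd q) (A : Subgroup (Matrix.SpecialLinearGroup (Fin 2) F)) (hA : Nat.card A = 4) : (∀ B : Subgroup (Matrix.SpecialLinearGroup (Fin 2) F), Nat.card B = 4 → ∃ g : Matrix.SpecialLinearGroup (Fin 2) F, B = A.map (MulAut.conj g).toMonoidHom) ∧ (q % 4 = 1 → Nat.card ↥(Subgroup.normalizer (A : Set (Matrix.SpecialLinearGroup (Fin 2) F))) = 2 * (q - 1)) ∧ (q % 4 = 3 → Nat.card ↥(Subgroup.normalizer (A : Set (Matrix.SpecialLinearGroup (Fin 2) F))) = 2 * (q + 1)) ∧ (∀ x y : Matrix.ProjectiveSpecialLinearGroup (Fin 2) F,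 orderOf x = 2 → orderOf y = 2 → IsConj x y) := by
  subst hF
  classical
  have h2 := CfsgLib.SL2Orders.two_ne_zero_of_odd hodd
  obtain ⟨g, hg, rfl, hAel⟩ := CfsgLib.PSL2Klein.exists_gen h2 hA
  have hgs := CfsgLib.PSL2Klein.sq_of_trace h2 hg
  have hN : Nat.card ↥(Subgroup.normalizer (Subgroup.zpowers g : Set (Matrix.SpecialLinearGroup (Fin 2) F))) =
      2 * Nat.card (Subgroup.centralizer ({g} : Set (Matrix.SpecialLinearGroup (Fin 2) F))) := by
    rw [← CfsgLib.PSL2Klein.card_normalizer h2 hg]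
    refine Nat.card_congr (Equiv.subtypeEquivRight fun k => ?_)
    constructor
    · intro hk
      have hmem := (Subgroup.mem_normalizer_iff.mp hk g).mp (Subgroup.mem_zpowers g)
      rcases hAel _ hmem with e | e | e | e
      · exact absurd (conj_eq_one_iff.mp e) hgs.2.1
      · exfalso
        refine hgs.2.2 ?_
        calc g = k⁻¹ * (k * g * k⁻¹) * k := by simp [mul_assoc]
          _ = -1 := by rw [e, mul_neg, mul_one, neg_mul, inv_mul_cancel]
      · exact Or.inl (mul_inv_eq_iff_eq_mul.mp e)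
      · exact Or.inr (mul_inv_eq_iff_eq_mul.mp e)
    · intro hk
      have hmem : k * g * k⁻¹ ∈ Subgroup.zpowers g := by
        rcases hk with e | e
        · rw [e, mul_inv_cancel_right]; exact Subgroup.mem_zpowers g
        · rw [e, mul_inv_cancel_right]
          have : g ^ (3 : ℕ) = -g := by rw [pow_succ, pow_two, hgs.1, neg_one_mul]
          exact this ▸ pow_mem (Subgroup.mem_zpowers g) 3
      have hmap : (Subgroup.zpowers g).map (MulAut.conj k).toMonoidHom = Subgroup.zpowers g :=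
        Subgroup.eq_of_le_of_card_ge (by
          rw [MonoidHom.map_zpowers, Subgroup.zpowers_le]
          exact hmem)
          (by rw [Subgroup.card_map_of_injective (MulAut.conj k).injective])
      rw [Subgroup.mem_normalizer_iff_map_conj_eq]
      exact hmap
  refine ⟨fun B hB => ?_, fun hq => ?_, fun hq => ?_, fun x y hx hy => ?_⟩
  · obtain ⟨b, hb, rfl, -⟩ := CfsgLib.PSL2Klein.exists_gen h2 hB
    obtain ⟨c, hc⟩ := isConj_iff.mp (CfsgLib.PSL2Klein.isConj_trace_zero h2 hg hb)
    refine ⟨c, ?_⟩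
    rw [MonoidHom.map_zpowers, MulEquiv.coe_toMonoidHom, MulAut.conj_apply, hc]
  · rw [hN, CfsgLib.PSL2Klein.card_centralizer_one h2 hg hq]
  · rw [hN, CfsgLib.PSL2Klein.card_centralizer_three h2 hg hq]
  · obtain ⟨a, rfl⟩ := CfsgLib.PSL2Product.mk_surjective x
    obtain ⟨b, rfl⟩ := CfsgLib.PSL2Product.mk_surjective y
    have tr : ∀ c : Matrix.SpecialLinearGroup (Fin 2) F, orderOf (CfsgLib.PSL2.mk c) = 2 → c.1.trace = 0 :=
      fun c hc => (CfsgLib.PSL2Klein.invol_iff h2).mp ⟨fun e => by simp [e] at hc,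
        by rw [← pow_two]; exact orderOf_dvd_iff_pow_eq_one.mp (by rw [hc])⟩
    exact MonoidHom.map_isConj _ (CfsgLib.PSL2Klein.isConj_trace_zero h2 (tr a hx) (tr b hy))

end Cfsg.Agent.S0809
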