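import Cfsg.Statements.S0818
import Cfsg.Agent.Lib.OrthAut.MinusOut

set_option autoImplicit false
open Cfsg

namespace Cfsg.Agent.S0818

/-- |Aut(PΩ⁻_2m(q))| for q = p^f, m ≥ 4 (form quadFormMinus (m−1) with anisotropic binary part): |PΩ⁻_2m(q)| times f, times 2 if p = 2, and times 4 or 8 if p is odd according as m(q−1)/2 is even or odd. -/
theorem result {F : Type*} [Field F] [Fintype F] (p f : ℕ) [Fact p.Prime] (hf : 1 ≤ f) (hF : Fintype.card F = p ^ f) (m : ℕ) (hm : 4 ≤ m) (a b : F) (hab : ∀ z₁ z₂ : F, z₁ ^ 2 + a * z₁ * z₂ + b * z₂ ^ 2 = 0 → z₁ = 0 ∧ z₂ = 0) : Nat.card (MulAut (Cfsg.POmega F (Cfsg.quadFormMinus (m - 1) F a b))) = (if p = 2 then 2 else (if Even (m * (p ^ f - 1) / 2) then 4 else 8)) * f * Nat.card (Cfsg.POmega F (Cfsg.quadFormMinus (m - 1) F a b)) := by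
  rw [show Cfsg.quadFormMinus (m - 1) F a b = ⇑(CfsgLib.StdQuadForms.Qm (m - 1) a b) from
    funext fun v => (CfsgLib.StdQuadForms.Qm_apply (m - 1) a b v).symm]
  rw [← Subgroup.index_mul_card (Cfsg.Inn (Cfsg.POmega F ⇑(CfsgLib.StdQuadForms.Qm (m - 1) a b))),
    ← Nat.card_congr (MonoidHom.ofInjective (CfsgLib.OrthAut.conj_injective
      (CfsgLib.StdQuadForms.Qm_nondeg (m - 1) hab) (CfsgLib.OrthMinus.hn_minus (by omega)))).toEquiv]
  congr 1
  show Nat.card (Cfsg.Out _) = _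
  by_cases hp : p = 2
  · subst hp
    rw [if_pos rfl, (CfsgLib.OrthMinus.out_even (m := m - 1) (by omega) hab hf hF).2]
  rw [if_neg hp]
  have h := CfsgLib.OrthMinus.out_odd_minus (m := m - 1) (by omega) hab hp hf hF
  have hq : p ^ f % 2 = 1 := Nat.odd_iff.1 ((Fact.out : p.Prime).odd_of_ne_two hp).pow
  have hpar : Even (m * (p ^ f - 1) / 2) ↔ ¬ (p ^ f % 4 = 3 ∧ Even (m - 1)) := by
    obtain ⟨k, hk⟩ : ∃ k, p ^ f = 2 * k + 1 := ⟨p ^ f / 2, by omega⟩
    rw [hk, Nat.add_sub_cancel, ← mul_assoc, mul_comm m 2, mul_assoc, Nat.mul_div_cancel_left _ two_pos,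
      Nat.even_mul, Nat.even_iff, Nat.even_iff, Nat.even_iff]
    omega
  by_cases hc : p ^ f % 4 = 3 ∧ Even (m - 1)
  · rw [if_pos hc] at h
    obtain ⟨e⟩ := h
    rw [if_neg (fun he => hpar.1 he hc), Nat.card_congr e.toEquiv, Nat.card_prod, DihedralGroup.nat_card,
      Nat.card_congr Multiplicative.toAdd, Nat.card_zmod]
  · rw [if_neg hc] at h
    obtain ⟨e⟩ := h
    rw [if_pos (hpar.2 hc), Nat.card_congr (e.toEquiv.trans Multiplicative.toAdd), Nat.card_prod, Nat.card_zmod,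
      Nat.card_zmod]
    ring

end Cfsg.Agent.S0818
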