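import Cfsg.Statements.S0823
import Mathlib
import Cfsg.Agent.Lib.ExceptionalIso
import Cfsg.Agent.Lib.OrthOrderBase
import Cfsg.Prelude.Def_ClassicalGeometry

set_option autoImplicit false
set_option maxRecDepth 8000
open Cfsg

namespace Cfsg.Agent.S0823

open Equiv

/-- Three coordinates. -/
abbrev V3 := Unit ⊕ (Fin 1 ⊕ Fin 1) → ZMod 3

/-- Four coordinates. -/
abbrev V4 := Fin 4 → ZMod 3

/-- Coordinates to a vector with zero sum. -/
def emb : V3 →ₗ[ZMod 3] V4 where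
  toFun v := fun k => v (.inl ()) * (![1, 2, 0, 0] : V4) k + v (.inr (.inl 0)) * (![1, 1, 1, 0] : V4) k +
    v (.inr (.inr 0)) * (![2, 2, 0, 2] : V4) k
  map_add' u v := funext fun k => by simp [add_mul]; abel
  map_smul' c v := funext fun k => by simp [mul_add, mul_assoc]

/-- A vector with zero sum in coordinates. -/
def pr : V4 →ₗ[ZMod 3] V3 where
  toFun w := Sum.elim (fun _ => 2 * ∑ k, w k * (![1, 2, 0, 0] : V4) k)
    (Sum.elim (fun _ => ∑ k, w k * (![2, 2, 0, 2] : V4) k) (fun _ => ∑ k, w k * (![1, 1, 1, 0] : V4) k))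
  map_add' u v := funext fun s => by rcases s with s | (s | s) <;> simp [add_mul, Finset.sum_add_distrib, mul_add]
  map_smul' c v := funext fun s => by rcases s with s | (s | s) <;> simp [Finset.mul_sum, mul_assoc, mul_left_comm]

/-- Permutation of coordinates. -/
def permL (g : Perm (Fin 4)) : V4 →ₗ[ZMod 3] V4 where
  toFun w := fun k => w (g.symm k)
  map_add' _ _ := rfl
  map_smul' _ _ := rfl

/-- Zero sum. -/
def Zero' (w : V4) : Prop := ∑ k, w k = 0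

instance (w : V4) : Decidable (Zero' w) := by unfold Zero'; infer_instance

theorem emb_zero : ∀ v : V3, Zero' (emb v) := by decide +kernel
theorem pr_emb : ∀ v : V3, pr (emb v) = v := by decide +kernel
theorem emb_pr : ∀ w : V4, Zero' w → emb (pr w) = w := by decide +kernel
theorem form_pr : ∀ w : V4, Zero' w → Cfsg.quadFormOdd 1 (ZMod 3) (pr w) = -∑ k, w k * w k := by decide +kernel

theorem zero_perm {g : Perm (Fin 4)} {w : V4} (h : Zero' w) : Zero' (permL g w) := by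
  unfold Zero' at h ⊢
  rw [← h]
  exact Equiv.sum_comp g.symm w

/-- The sign of a permutation. -/
def sgn (g : Perm (Fin 4)) : ZMod 3 := (((Perm.sign g : ℤˣ) : ℤ) : ZMod 3)

/-- The action. -/
def T (g : Perm (Fin 4)) : V3 →ₗ[ZMod 3] V3 := sgn g • (pr ∘ₗ permL g ∘ₗ emb)

theorem T_one : T 1 = LinearMap.id := LinearMap.ext fun v => by
  show sgn 1 • pr (emb v) = v
  rw [pr_emb, sgn]; simp

theorem T_mul (g h : Perm (Fin 4)) : T (g * h) = T g ∘ₗ T h := LinearMap.ext fun v => by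
  show sgn (g * h) • pr (permL (g * h) (emb v)) = sgn g • pr (permL g (emb (sgn h • pr (permL h (emb v)))))
  rw [map_smul, map_smul, map_smul, emb_pr _ (zero_perm (emb_zero v)), smul_smul]
  congr 1
  simp [sgn]

theorem sgn_sq : ∀ g : Perm (Fin 4), sgn g * sgn g = 1 := by decide +kernel

theorem form_T (g : Perm (Fin 4)) (v : V3) :
    Cfsg.quadFormOdd 1 (ZMod 3) (T g v) = Cfsg.quadFormOdd 1 (ZMod 3) v := by
  have e : ∀ (c : ZMod 3) (w : V3), Cfsg.quadFormOdd 1 (ZMod 3) (c • w) = c * c * Cfsg.quadFormOdd 1 (ZMod 3) w := by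
    intro c w; simp [Cfsg.quadFormOdd]; ring
  show Cfsg.quadFormOdd 1 (ZMod 3) (sgn g • pr (permL g (emb v))) = _
  rw [e, sgn_sq, one_mul, form_pr _ (zero_perm (emb_zero v))]
  conv_rhs => rw [← pr_emb v, form_pr _ (emb_zero v)]
  congr 1
  exact Equiv.sum_comp g.symm fun k => emb v k * emb v k

/-- The matrix of the action. -/
def M (g : Perm (Fin 4)) : Matrix (Unit ⊕ (Fin 1 ⊕ Fin 1)) (Unit ⊕ (Fin 1 ⊕ Fin 1)) (ZMod 3) :=
  Matrix.of fun i j => T g (Pi.single j 1) i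

theorem det_M : ∀ g : Perm (Fin 4), (M g).det = 1 := by decide +kernel

theorem M_inj : ∀ g : Perm (Fin 4), M g = 1 → g = 1 := by decide +kernel

theorem toMatrix_T (g : Perm (Fin 4)) : LinearMap.toMatrix' (T g) = M g := by
  ext i j
  rw [LinearMap.toMatrix'_apply]
  rfl

theorem coe_homOfAct {G : Type*} [Group G] {F : Type*} [Field F] {ι : Type} [Fintype ι] [DecidableEq ι]
    (f : (ι → F) → F) (A : G → (ι → F) →ₗ[F] (ι → F)) (h1 : A 1 = LinearMap.id)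
    (hmul : ∀ g h, A (g * h) = A g ∘ₗ A h) (hQ : ∀ g v, f (A g v) = f v) (g : G) :
    ((CfsgLib.ExceptionalIso.homOfAct f A h1 hmul hQ g).1 : Matrix ι ι F) = LinearMap.toMatrix' (A g) := rfl

theorem det_neg_one :
    (-1 : Matrix (Unit ⊕ (Fin 1 ⊕ Fin 1)) (Unit ⊕ (Fin 1 ⊕ Fin 1)) (ZMod 3)).det ≠ 1 := by decide +kernel

attribute [local irreducible] T M

/-- The isomorphism over the prime field. -/
theorem prime_field : Nonempty (Perm (Fin 4) ≃* Cfsg.specialIsometryGroup (ZMod 3) (Cfsg.quadFormOdd 1 (ZMod 3))) := by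
  haveI : Fact (Nat.Prime 3) := ⟨by norm_num⟩
  let h := CfsgLib.ExceptionalIso.homOfAct (Cfsg.quadFormOdd 1 (ZMod 3)) T T_one T_mul form_T
  have hval : ∀ g, ((h g).1 : Matrix (Unit ⊕ (Fin 1 ⊕ Fin 1)) (Unit ⊕ (Fin 1 ⊕ Fin 1)) (ZMod 3)) = M g := fun g => (coe_homOfAct _ T T_one T_mul form_T g).trans (toMatrix_T g)
  have hdet : ∀ g, h g ∈ Cfsg.specialIsometryGroup (ZMod 3) (Cfsg.quadFormOdd 1 (ZMod 3)) := fun g => by
    refine MonoidHom.mem_ker.mpr (Units.ext ?_)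
    show ((h g).1 : Matrix (Unit ⊕ (Fin 1 ⊕ Fin 1)) (Unit ⊕ (Fin 1 ⊕ Fin 1)) (ZMod 3)).det = 1
    rw [hval, det_M]
  let f := h.codRestrict _ hdet
  have hf : Function.Injective f := by
    rw [injective_iff_map_eq_one]
    intro g hg
    refine M_inj g ?_
    rw [← hval]
    exact congrArg (fun x : Cfsg.specialIsometryGroup (ZMod 3) (Cfsg.quadFormOdd 1 (ZMod 3)) => ((x.1).1 : Matrix (Unit ⊕ (Fin 1 ⊕ Fin 1)) (Unit ⊕ (Fin 1 ⊕ Fin 1)) (ZMod 3))) hg
  refine ⟨MulEquiv.ofBijective f (hf.bijective_of_nat_card_le ?_)⟩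
  set S := Cfsg.specialIsometryGroup (ZMod 3) (Cfsg.quadFormOdd 1 (ZMod 3)) with hS
  have hc := S.card_mul_index
  have hmul := S.card_mul_index
  rw [CfsgLib.OrthOrder.card_O_odd (by rw [ZMod.card]; decide) 1, ZMod.card] at hc
  have hne : S.index ≠ 1 := by
    rw [Ne, Subgroup.index_eq_one]
    intro htop
    let m : Cfsg.isometryGroup (ZMod 3) (Cfsg.quadFormOdd 1 (ZMod 3)) :=
      ⟨-1, fun u _ => by
        show Cfsg.quadFormOdd 1 (ZMod 3) ((-1 : Matrix (Unit ⊕ (Fin 1 ⊕ Fin 1)) (Unit ⊕ (Fin 1 ⊕ Fin 1)) (ZMod 3)).mulVec u) = _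
        simp [Cfsg.quadFormOdd, Matrix.neg_mulVec]⟩
    have hm : m ∈ S := by rw [htop]; trivial
    have hd : (-1 : Matrix (Unit ⊕ (Fin 1 ⊕ Fin 1)) (Unit ⊕ (Fin 1 ⊕ Fin 1)) (ZMod 3)).det = 1 :=
      congrArg Units.val (MonoidHom.mem_ker.mp hm)
    exact det_neg_one hd
  rw [Nat.card_perm, Nat.card_fin]
  norm_num [Finset.prod_range_succ] at hc
  rcases Nat.lt_or_ge S.index 2 with h' | h'
  · have : S.index ≠ 0 := Subgroup.index_ne_zero_of_finite
    omega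
  · have : 2 * Nat.card S ≤ S.index * Nat.card S := Nat.mul_le_mul_right _ h'
    rw [mul_comm S.index] at this
    simp only [Nat.factorial]
    omega


/-- SO_3(3) ≅ S_4: the determinant-one isometries of the form x_0² + x_1y_1 over the field with 3 elements form a group isomorphic to the symmetric group on 4 letters. -/
theorem result {F : Type*} [Field F] [Fintype F] (hF : Fintype.card F = 3) : Nonempty (↥(Cfsg.specialIsometryGroup F (Cfsg.quadFormOdd 1 F)) ≃* Equiv.Perm (Fin 4)) := by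
  haveI : Fact (Nat.Prime 3) := ⟨by norm_num⟩
  let r := ZMod.ringEquivOfPrime F (by norm_num : Nat.Prime 3) hF
  obtain ⟨e⟩ := prime_field
  let Φ : GL (Unit ⊕ (Fin 1 ⊕ Fin 1)) (ZMod 3) ≃* GL (Unit ⊕ (Fin 1 ⊕ Fin 1)) F := Units.mapEquiv r.mapMatrix.toMulEquiv
  have hQ : ∀ v : Unit ⊕ (Fin 1 ⊕ Fin 1) → ZMod 3, Cfsg.quadFormOdd 1 F (r ∘ v) = r (Cfsg.quadFormOdd 1 (ZMod 3) v) :=
    fun v => by simp [Cfsg.quadFormOdd]
  have hmv : ∀ (g : GL (Unit ⊕ (Fin 1 ⊕ Fin 1)) (ZMod 3)) (v : Unit ⊕ (Fin 1 ⊕ Fin 1) → ZMod 3),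
      ((Φ g : GL (Unit ⊕ (Fin 1 ⊕ Fin 1)) F) : Matrix (Unit ⊕ (Fin 1 ⊕ Fin 1)) (Unit ⊕ (Fin 1 ⊕ Fin 1)) F).mulVec (r ∘ v) =
        r ∘ ((g : Matrix (Unit ⊕ (Fin 1 ⊕ Fin 1)) (Unit ⊕ (Fin 1 ⊕ Fin 1)) (ZMod 3)).mulVec v) := fun g v => funext fun i =>
    (RingHom.map_mulVec r.toRingHom g.1 v i).symm
  have hmem : ∀ g, Φ g ∈ Cfsg.isometryGroup F (Cfsg.quadFormOdd 1 F) ↔
      g ∈ Cfsg.isometryGroup (ZMod 3) (Cfsg.quadFormOdd 1 (ZMod 3)) := by
    intro g
    constructor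
    · intro h u v
      exact r.injective ((hQ _).symm.trans ((congrArg (Cfsg.quadFormOdd 1 F) (hmv g u)).symm.trans
        ((h (r ∘ u) (r ∘ u)).trans (hQ u))))
    · intro h u v
      obtain ⟨u, rfl⟩ : ∃ u', r ∘ u' = u := ⟨r.symm ∘ u, funext fun i => r.apply_symm_apply _⟩
      exact (congrArg (Cfsg.quadFormOdd 1 F) (hmv g u)).trans ((hQ _).trans ((congrArg r (h u u)).trans (hQ u).symm))
  let ψ : Cfsg.isometryGroup (ZMod 3) (Cfsg.quadFormOdd 1 (ZMod 3)) ≃* Cfsg.isometryGroup F (Cfsg.quadFormOdd 1 F) :=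
    (Φ.subgroupMap _).trans (MulEquiv.subgroupCongr (by
      ext g
      obtain ⟨g, rfl⟩ := Φ.surjective g
      exact (Subgroup.mem_map_iff_mem (f := Φ.toMonoidHom) Φ.injective).trans (hmem g).symm))
  have hs : (Cfsg.specialIsometryGroup (ZMod 3) (Cfsg.quadFormOdd 1 (ZMod 3))).map ψ.toMonoidHom =
      Cfsg.specialIsometryGroup F (Cfsg.quadFormOdd 1 F) := by
    ext g
    obtain ⟨g, rfl⟩ := ψ.surjective g
    refine (Subgroup.mem_map_iff_mem (f := ψ.toMonoidHom) ψ.injective).trans ?_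
    show Matrix.GeneralLinearGroup.det g.1 = 1 ↔ Matrix.GeneralLinearGroup.det (Φ g.1) = 1
    rw [Units.ext_iff, Units.ext_iff]
    show g.1.1.det = 1 ↔ (r.mapMatrix g.1.1).det = 1
    rw [← RingEquiv.map_det, map_eq_one_iff _ r.injective]
  exact ⟨((e.trans (ψ.subgroupMap _)).trans (MulEquiv.subgroupCongr hs)).symm⟩

end Cfsg.Agent.S0823
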