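import Cfsg.Statements.S0828
import Mathlib
import Cfsg.Agent.Lib.IsotropicSymp

set_option autoImplicit false
open Cfsg

namespace Cfsg.Agent.S0828



/-- The symplectic generalised quadrangle over a field with q elements: the number of 2-dimensional subspaces of F^4 on which the symplectic form vanishes is (q + 1)(q² + 1), and every non-zero vector lies in exactly q + 1 of them. -/
theorem result {F : Type*} [Field F] [Fintype F] {q : ℕ} (hF : Fintype.card F = q) : Nat.card {W : Submodule F (Fin 2 ⊕ Fin 2 → F) // Module.finrank F W = 2 ∧ ∀ u ∈ W, ∀ v ∈ W, Cfsg.sympForm 2 F u v = 0} = (q + 1) * (q ^ 2 + 1) ∧ ∀ v : Fin 2 ⊕ Fin 2 → F, v ≠ 0 → Nat.card {W : Submodule F (Fin 2 ⊕ Fin 2 → F) // Module.finrank F W = 2 ∧ v ∈ W ∧ ∀ u ∈ W, ∀ w ∈ W, Cfsg.sympForm 2 F u w = 0} = q + 1 := by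
  classical
  open CfsgLib.IsotropicCount in
  exact by
    subst hF
    set q := Fintype.card F with hq
    have hq1 : 1 < q := Fintype.one_lt_card
    have h2 : q < q ^ 2 := lt_self_pow₀ hq1 one_lt_two
    refine ⟨?_, fun v hv => ?_⟩
    · have h := card_frame_eq (Cfsg.sympForm 2 F) symp_span2 2
      rw [card_sympFrame] at h
      simp only [glc, ← hq, Finset.prod_range_succ, Finset.prod_range_zero, Fin.prod_univ_two,
        Fin.val_zero, Fin.val_one, one_mul] at h
      refine Nat.eq_of_mul_eq_mul_right (Nat.mul_pos (Nat.sub_pos_of_lt (Nat.one_lt_pow two_ne_zero hq1))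
        (Nat.sub_pos_of_lt h2)) ?_
      simp only [pow_zero, pow_one] at h
      rw [← h]
      have h3 : q ≤ q ^ 3 := Nat.le_self_pow (by norm_num) q
      have h4 : 1 ≤ q ^ 4 := Nat.one_le_pow _ _ (by omega)
      norm_num
      zify [h3, h4, h2.le, Nat.one_le_pow 2 q (by omega)]
      ring
    · let s : Frame (Cfsg.sympForm 2 F) 1 :=
        ⟨fun _ => v, linearIndependent_unique_iff.mpr hv, fun _ _ => CfsgLib.SympTransvection.dot_J_self v⟩
      have h := symp_next s
      have hspan : Submodule.span F (Set.range s.1) = F ∙ v := by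
        simp [s, Set.range_const]
      let T := {W : Submodule F (Fin 2 ⊕ Fin 2 → F) //
        Module.finrank F W = 2 ∧ v ∈ W ∧ ∀ u ∈ W, ∀ w ∈ W, Cfsg.sympForm 2 F u w = 0}
      let N := {w : Fin 2 ⊕ Fin 2 → F // w ∉ Submodule.span F (Set.range s.1) ∧
        Cfsg.sympForm 2 F w w = 0 ∧ ∀ i, Cfsg.sympForm 2 F (s.1 i) w = 0 ∧ Cfsg.sympForm 2 F w (s.1 i) = 0}
      have hli : ∀ w : N, LinearIndependent F ![v, w.1] := fun w => by
        rw [LinearIndependent.pair_iff' hv]
        intro a ha
        exact w.2.1 (hspan.ge (Submodule.mem_span_singleton.mpr ⟨a, ha⟩))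
      let f : N → T := fun w => ⟨Submodule.span F {v, w.1}, by
          have := finrank_span_eq_card (hli w)
          rw [Matrix.range_cons_cons_empty, Fintype.card_fin] at this
          exact this, Submodule.subset_span (Set.mem_insert _ _),
        symp_span2 _ (by
          rintro a (rfl | rfl) b (rfl | rfl)
          · exact CfsgLib.SympTransvection.dot_J_self _
          · exact (w.2.2.2 0).1
          · exact (w.2.2.2 0).2
          · exact CfsgLib.SympTransvection.dot_J_self _)⟩
      have hfib : ∀ W : T, Nat.card {w // f w = W} = q ^ 2 - q := by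
        intro W
        have hsub : (F ∙ v) ≤ W.1 := (Submodule.span_singleton_le_iff_mem _ _).mpr W.2.2.1
        have e : {w // f w = W} ≃ ↥((W.1 : Set (Fin 2 ⊕ Fin 2 → F)) \ (F ∙ v : Submodule F _)) :=
          { toFun := fun w => ⟨w.1.1, (congrArg Subtype.val w.2).le
              (Submodule.subset_span (Set.mem_insert_of_mem _ rfl)), fun h => w.1.2.1 (hspan.ge h)⟩
            invFun := fun x => ⟨⟨x.1, fun h => x.2.2 (hspan.le h), CfsgLib.SympTransvection.dot_J_self _,
                fun _ => ⟨W.2.2.2 _ W.2.2.1 _ x.2.1, W.2.2.2 _ x.2.1 _ W.2.2.1⟩⟩,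
              Subtype.ext (by
                refine Submodule.eq_of_le_of_finrank_eq (Submodule.span_le.mpr ?_) ?_
                · rintro a (rfl | rfl)
                  · exact W.2.2.1
                  · exact x.2.1
                · exact ((f ⟨x.1, fun h => x.2.2 (hspan.le h), CfsgLib.SympTransvection.dot_J_self _,
                    fun _ => ⟨W.2.2.2 _ W.2.2.1 _ x.2.1, W.2.2.2 _ x.2.1 _ W.2.2.1⟩⟩).2.1).trans W.2.1.symm)⟩
            left_inv := fun w => rfl
            right_inv := fun x => rfl }
        rw [Nat.card_congr e]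
        show Set.ncard _ = _
        rw [Set.ncard_sdiff hsub]
        show Nat.card W.1 - Nat.card (F ∙ v : Submodule F _) = _
        rw [Module.natCard_eq_pow_finrank (K := F) (V := W.1),
          Module.natCard_eq_pow_finrank (K := F) (V := (F ∙ v : Submodule F _)), W.2.1,
          finrank_span_singleton hv, Nat.card_eq_fintype_card, pow_one]
      haveI : Fintype T := Fintype.ofFinite T
      have hN : Nat.card N = Nat.card T * (q ^ 2 - q) := by
        rw [← Nat.card_congr (Equiv.sigmaFiberEquiv f), Nat.card_sigma,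
          Finset.sum_congr rfl fun W _ => hfib W, Finset.sum_const, Finset.card_univ, smul_eq_mul,
          ← Nat.card_eq_fintype_card]
      rw [hN] at h
      refine Nat.eq_of_mul_eq_mul_right (Nat.sub_pos_of_lt h2) (h.trans ?_)
      have h3 : q ≤ q ^ 3 := Nat.le_self_pow (by norm_num) q
      rw [show 2 * 2 - 1 = 3 by norm_num, pow_one, ← hq]
      zify [h3, h2.le]
      ring

end Cfsg.Agent.S0828
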