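import Cfsg.Statements.S0830
import Mathlib
import Cfsg.Agent.Lib.IsotropicHerm

set_option autoImplicit false
open Cfsg

namespace Cfsg.Agent.S0830

theorem A0_sub_one {F : Type*} [Field F] [Fintype F] {q : ℕ} (hF : Fintype.card F = q ^ 2) (r : ℕ) :
    CfsgLib.HermCount.A0 F q (r + 2) - 1 =
      (if Even r then q ^ (r + 1) + 1 else q ^ (r + 1) - 1) *
        (if Even (r + 1) then q ^ (r + 2) + 1 else q ^ (r + 2) - 1) := by
  have hq := (CfsgLib.UnitaryBasic.frob_exists hF).1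
  have h := CfsgLib.HermCount.q_mul_A0 hF (r + 2)
  have hA : 1 ≤ CfsgLib.HermCount.A0 F q (r + 2) :=
    Nat.one_le_iff_ne_zero.mpr (Nat.card_ne_zero.mpr
      ⟨⟨⟨0, by simp [Cfsg.hermForm]⟩⟩, inferInstance⟩)
  have hq0 : (q : ℤ) ≠ 0 := by exact_mod_cast (by omega : q ≠ 0)
  have h1 : 1 ≤ q ^ (r + 1) := Nat.one_le_pow _ _ (by omega)
  have h2 : 1 ≤ q ^ (r + 2) := Nat.one_le_pow _ _ (by omega)
  rcases Nat.even_or_odd r with he | ho
  · rw [if_pos he, if_neg (by rw [Nat.not_even_iff_odd]; exact he.add_one)]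
    zify [hA, h2]
    refine mul_left_cancel₀ hq0 ?_
    rw [mul_sub, h, Even.neg_pow (he.add even_two)]
    ring
  · rw [if_neg (Nat.not_even_iff_odd.mpr ho), if_pos ho.add_one]
    zify [hA, h1]
    refine mul_left_cancel₀ hq0 ?_
    rw [mul_sub, h, Odd.neg_pow (ho.add_even even_two)]
    ring


/-- The unitary quadrangle of PSU_5(q): with |F| = q², the number of 2-dimensional subspaces of F^5 on which the Hermitian form vanishes is (q³ + 1)(q⁵ + 1). -/
theorem result {F : Type*} [Field F] [Fintype F] {q : ℕ} (hF : Fintype.card F = q ^ 2) : Nat.card {W : Submodule F (Fin 5 → F) // Module.finrank F W = 2 ∧ ∀ u ∈ W, ∀ v ∈ W, Cfsg.hermForm 5 F q u v = 0} = (q ^ 3 + 1) * (q ^ 5 + 1) := by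
  classical
  open CfsgLib.IsotropicCount in
  exact by
    have hq := (CfsgLib.UnitaryBasic.frob_exists hF).1
    have h := card_frame_eq (Cfsg.hermForm 5 F q) (herm_span2 hF) 2
    rw [card_hermFrame hF 2 (by norm_num)] at h
    simp only [glc, hF, Finset.prod_range_succ, Finset.prod_range_zero, Fin.prod_univ_two,
      Fin.val_zero, Fin.val_one, one_mul, mul_zero, Nat.sub_zero, mul_one, pow_zero, pow_one] at h
    rw [A0_sub_one hF (5 - 2), A0_sub_one hF (5 - 4)] at h
    norm_num [Nat.even_iff, -Nat.card_eq_fintype_card] at h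
    have h2 : q < q ^ 2 := lt_self_pow₀ hq one_lt_two
    refine Nat.eq_of_mul_eq_mul_right (Nat.mul_pos (Nat.sub_pos_of_lt (Nat.one_lt_pow two_ne_zero (Nat.one_lt_pow two_ne_zero hq)))
        (Nat.sub_pos_of_lt (lt_self_pow₀ (Nat.one_lt_pow two_ne_zero hq) one_lt_two))) ?_
    rw [← h]
    have a1 : q ^ 2 ≤ (q ^ 2) ^ 2 := Nat.le_self_pow two_ne_zero _
    zify [a1, Nat.one_le_pow 2 q (by omega), Nat.one_le_pow 4 q (by omega), Nat.one_le_pow 2 (q^2) (by positivity)]
    ring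

end Cfsg.Agent.S0830
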