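import Cfsg.Statements.S0831
import Mathlib
import Cfsg.Agent.Lib.Lagrangian

set_option autoImplicit false
open Cfsg

namespace Cfsg.Agent.S0831



/-- The two families of maximal totally singular subspaces of the hyperbolic quadric: for the form Σ x_i y_i on F^(2m), m ≥ 1, and m-dimensional subspaces U, W, X on which it vanishes, the parities of m − dim(U ∩ W), m − dim(W ∩ X) and m − dim(U ∩ X) sum to an even number (so 'even codimension of the intersection' is an equivalence relation), and there exist two such subspaces meeting in codimension 1 (so there are exactly two classes). -/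
theorem result {F : Type*} [Field F] (m : ℕ) (hm : 1 ≤ m) : (∀ U W X : Submodule F (Fin m ⊕ Fin m → F), (Module.finrank F U = m ∧ ∀ w ∈ U, Cfsg.quadFormPlus m F w = 0) → (Module.finrank F W = m ∧ ∀ w ∈ W, Cfsg.quadFormPlus m F w = 0) → (Module.finrank F X = m ∧ ∀ w ∈ X, Cfsg.quadFormPlus m F w = 0) → Even ((m - Module.finrank F ↥(U ⊓ W)) + (m - Module.finrank F ↥(W ⊓ X)) + (m - Module.finrank F ↥(U ⊓ X)))) ∧ ∃ U W : Submodule F (Fin m ⊕ Fin m → F), (Module.finrank F U = m ∧ ∀ w ∈ U, Cfsg.quadFormPlus m F w = 0) ∧ (Module.finrank F W = m ∧ ∀ w ∈ W, Cfsg.quadFormPlus m F w = 0) ∧ Module.finrank F ↥(U ⊓ W) + 1 = m := by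
  classical
  open CfsgLib.Lagrangian in
  exact by
    refine ⟨fun U W X hU hW hX => parity _ U W X hU hW hX rfl, ?_⟩
    set i₀ : Fin m := ⟨0, by omega⟩
    set T₁ : Finset (Fin m ⊕ Fin m) := Finset.univ.image fun i : Fin m => if true then Sum.inl i else Sum.inr i
    set T₂ : Finset (Fin m ⊕ Fin m) :=
      Finset.univ.image fun i : Fin m => if decide (i ≠ i₀) then Sum.inl i else Sum.inr i
    refine ⟨coordSub (F := F) (T₁ : Set (Fin m ⊕ Fin m)), coordSub (F := F) (T₂ : Set (Fin m ⊕ Fin m)),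
      isLag_coord (fun _ => true), isLag_coord (fun i => decide (i ≠ i₀)), ?_⟩
    have hI : coordSub (F := F) (T₁ : Set (Fin m ⊕ Fin m)) ⊓ coordSub (F := F) (T₂ : Set (Fin m ⊕ Fin m)) =
        coordSub (F := F) ((T₁ ∩ T₂ : Finset (Fin m ⊕ Fin m)) : Set (Fin m ⊕ Fin m)) := by
      ext v
      refine ⟨fun h s hs => ?_, fun h => ⟨fun s hs => h s (by simp; tauto), fun s hs => h s (by simp; tauto)⟩⟩
      by_cases h1 : s ∈ T₁
      · exact h.2 s (fun h2 => hs (by simp [h1]; simpa using h2))
      · exact h.1 s (by simpa using h1)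
    have mT : ∀ i, (Sum.inl i ∈ T₂ ↔ i ≠ i₀) ∧ (Sum.inr i ∈ T₂ ↔ i = i₀) := fun i => by
      simp only [T₂, Finset.mem_image, Finset.mem_univ, true_and, decide_eq_true_eq]
      refine ⟨⟨?_, fun h => ⟨i, if_pos h⟩⟩, ⟨?_, fun h => ⟨i, if_neg (not_not.mpr h)⟩⟩⟩
      · rintro ⟨a, ha⟩
        split_ifs at ha with h
        exact Sum.inl.inj ha ▸ h
      · rintro ⟨a, ha⟩
        split_ifs at ha with h
        exact Sum.inr.inj ha ▸ not_not.mp h
    have hT : T₁ ∩ T₂ = (Finset.univ.erase i₀).image Sum.inl := by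
      ext (i | i) <;> simp [T₁, mT i]
    rw [hI, finrank_coordSub, hT, Finset.card_image_of_injective _ Sum.inl_injective,
      Finset.card_erase_of_mem (Finset.mem_univ _), Finset.card_univ, Fintype.card_fin]
    omega

end Cfsg.Agent.S0831
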