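import Cfsg.Statements.S0832
import Mathlib
import Cfsg.Agent.Lib.Lagrangian

set_option autoImplicit false
open Cfsg

namespace Cfsg.Agent.S0832



/-- For the form Σ x_i y_i on F^(2m) over a finite field, m ≥ 1: an (m−1)-dimensional subspace on which the form vanishes is contained in exactly two m-dimensional subspaces on which it vanishes. -/
theorem result {F : Type*} [Field F] [Finite F] (m : ℕ) (hm : 1 ≤ m) (U : Submodule F (Fin m ⊕ Fin m → F)) (hU : Module.finrank F U + 1 = m ∧ ∀ u ∈ U, Cfsg.quadFormPlus m F u = 0) : Nat.card {W : Submodule F (Fin m ⊕ Fin m → F) // Module.finrank F W = m ∧ (∀ w ∈ W, Cfsg.quadFormPlus m F w = 0) ∧ U ≤ W} = 2 := by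
  classical
  open CfsgLib.Lagrangian in
  exact by
    obtain ⟨hUd, hUs⟩ := hU
    set i₀ : Fin m := ⟨0, by omega⟩
    set T₁ : Finset (Fin m ⊕ Fin m) := Finset.univ.image fun i : Fin m => if true then Sum.inl i else Sum.inr i
    set T₂ : Finset (Fin m ⊕ Fin m) :=
      Finset.univ.image fun i : Fin m => if decide (i ≠ i₀) then Sum.inl i else Sum.inr i
    have hL₁ : IsLag (F := F) (coordSub (T₁ : Set (Fin m ⊕ Fin m))) := isLag_coord (fun _ => true)
    have hL₂ : IsLag (F := F) (coordSub (T₂ : Set (Fin m ⊕ Fin m))) := isLag_coord (fun i => decide (i ≠ i₀))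
    have mT : ∀ i, (Sum.inl i ∈ T₂ ↔ i ≠ i₀) ∧ (Sum.inr i ∈ T₂ ↔ i = i₀) := fun i => by
      simp only [T₂, Finset.mem_image, Finset.mem_univ, true_and, decide_eq_true_eq]
      refine ⟨⟨?_, fun h => ⟨i, if_pos h⟩⟩, ⟨?_, fun h => ⟨i, if_neg (not_not.mpr h)⟩⟩⟩
      · rintro ⟨a, ha⟩
        split_ifs at ha with h
        exact Sum.inl.inj ha ▸ h
      · rintro ⟨a, ha⟩
        split_ifs at ha with h
        exact Sum.inr.inj ha ▸ not_not.mp h
    set T₀ : Finset (Fin m ⊕ Fin m) := (Finset.univ.erase i₀).image Sum.inl with hT₀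
    have hd0 : Module.finrank F (coordSub (F := F) (T₀ : Set (Fin m ⊕ Fin m))) + 1 = m := by
      rw [finrank_coordSub, hT₀, Finset.card_image_of_injective _ Sum.inl_injective,
        Finset.card_erase_of_mem (Finset.mem_univ _), Finset.card_univ, Fintype.card_fin]
      omega
    have hle₁ : coordSub (F := F) (T₀ : Set (Fin m ⊕ Fin m)) ≤ coordSub (T₁ : Set (Fin m ⊕ Fin m)) :=
      fun v hv s hs => hv s (by rcases s with i | i <;> simp [hT₀, T₁] at hs ⊢)
    have hle₂ : coordSub (F := F) (T₀ : Set (Fin m ⊕ Fin m)) ≤ coordSub (T₂ : Set (Fin m ⊕ Fin m)) :=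
      fun v hv s hs => hv s (by rcases s with i | i <;> simp [hT₀, mT i] at hs ⊢ <;> exact hs)
    let e : ↥(coordSub (F := F) (T₀ : Set (Fin m ⊕ Fin m))) ≃ₗ[F] U :=
      LinearEquiv.ofFinrankEq _ _ (by omega)
    obtain ⟨g, hg, hgX⟩ := CfsgLib.WittExtension.quad_extend (Qp m F) Qp_nondeg _
      (U.subtype.comp e.toLinearMap) (Subtype.val_injective.comp e.injective) (fun x => by
        rw [Qp_apply, Qp_apply, hL₁.2 _ (hle₁ x.2)]
        exact hUs _ (e x).2)
    have himg : ∀ L : Submodule F (Fin m ⊕ Fin m → F), IsLag L →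
        coordSub (F := F) (T₀ : Set (Fin m ⊕ Fin m)) ≤ L →
        IsLag (L.map g.toLinearMap) ∧ U ≤ L.map g.toLinearMap := by
      intro L hL hle
      refine ⟨⟨(LinearEquiv.finrank_map_eq g L).trans hL.1, ?_⟩, fun u hu => ?_⟩
      · rintro _ ⟨w, hw, rfl⟩
        rw [← Qp_apply]
        show Qp m F (g w) = 0
        rw [hg, Qp_apply, hL.2 w hw]
      · refine ⟨(e.symm ⟨u, hu⟩).1, hle (e.symm ⟨u, hu⟩).2, ?_⟩
        show g _ = u
        rw [hgX]
        simp
    obtain ⟨hW₁, hU₁⟩ := himg _ hL₁ hle₁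
    obtain ⟨hW₂, hU₂⟩ := himg _ hL₂ hle₂
    set W₁ := (coordSub (F := F) (T₁ : Set (Fin m ⊕ Fin m))).map g.toLinearMap
    set W₂ := (coordSub (F := F) (T₂ : Set (Fin m ⊕ Fin m))).map g.toLinearMap
    have hne : W₁ ≠ W₂ := fun h => by
      have h' := Submodule.map_injective_of_injective g.injective h
      have hmem : (Pi.single (Sum.inl i₀) 1 : Fin m ⊕ Fin m → F) ∈ coordSub (F := F) (T₁ : Set (Fin m ⊕ Fin m)) :=
        fun s hs => Pi.single_eq_of_ne (fun e => hs (by simp [e, T₁])) _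
      rw [h'] at hmem
      simpa using hmem (Sum.inl i₀) (fun h => ((mT i₀).1.mp h) rfl)
    rw [Nat.card_eq_two_iff]
    refine ⟨⟨W₁, hW₁.1, hW₁.2, hU₁⟩, ⟨W₂, hW₂.1, hW₂.2, hU₂⟩,
      fun h => hne (congrArg Subtype.val h), Set.eq_univ_of_forall fun W => ?_⟩
    have hsub : ∀ x ∈ W.1, x ∈ W₁ ∨ x ∈ W₂ := fun x hx =>
      perp_subset hW₁ hW₂ hU₁ hU₂ hUd hne
        (fun h hh => polar_eq_zero W.2.2.1 (W.2.2.2 hh) hx) (W.2.2.1 x hx)
    by_cases h : W.1 ≤ W₁
    · exact Or.inl (Subtype.ext (Submodule.eq_of_le_of_finrank_eq h (W.2.1.trans hW₁.1.symm)))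
    · refine Or.inr (Subtype.ext (Submodule.eq_of_le_of_finrank_eq (fun x hx => ?_) (W.2.1.trans hW₂.1.symm)))
      by_contra hx2
      obtain ⟨y, hy, hy1⟩ := SetLike.not_le_iff_exists.mp h
      have hx1 := (hsub x hx).resolve_right hx2
      have hy2 := (hsub y hy).resolve_left hy1
      rcases hsub _ (W.1.add_mem hx hy) with h' | h'
      · exact hy1 (by simpa using W₁.sub_mem h' hx1)
      · exact hx2 (by simpa using W₂.sub_mem h' hy2)

end Cfsg.Agent.S0832
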