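import Cfsg.Statements.S0833
import Mathlib
import Cfsg.Agent.Lib.BilinLag

set_option autoImplicit false
open Cfsg

namespace Cfsg.Agent.S0833

theorem disjoint_span_singleton_of_notMem {F U : Type*} [Field F] [AddCommGroup U] [Module F U]
    {L : Submodule F U} {x : U} (hx : x ∉ L) : Disjoint L (F ∙ x) :=
  (Submodule.disjoint_span_singleton' (fun h => hx (by rw [h]; exact L.zero_mem))).mpr hx
theorem exists_lag {F U : Type*} [Field F] [AddCommGroup U] [Module F U] [FiniteDimensional F U] :
    ∀ (k : ℕ) (B : LinearMap.BilinForm F U) (L : Submodule F U), (∀ x ∈ L, ∀ y ∈ L, B x y = 0) →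
      B.Nondegenerate → B.IsAlt → Module.finrank F U = 2 * k → Module.finrank F L ≤ k →
      ∃ L' : Submodule F U, Module.finrank F L' = k ∧ ∀ x ∈ L', ∀ y ∈ L', B x y = 0 := by
  intro k B L hL hB hA hU
  induction hd : k - Module.finrank F L generalizing L with
  | zero => exact fun hle => ⟨L, by omega, hL⟩
  | succ d ih =>
    intro hle
    have hperp := LinearMap.BilinForm.finrank_orthogonal hB L
    have hlt : L < B.orthogonal L := lt_of_le_of_ne (fun x hx y hy => hL y hy x hx) fun h => by
      rw [← h, hU] at hperp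
      omega
    obtain ⟨x, hx, hxL⟩ := SetLike.exists_of_lt hlt
    have hx' : ∀ y ∈ L, B y x = 0 := hx
    refine ih (L ⊔ F ∙ x) ?_ ?_ ?_
    · intro a ha b hb
      obtain ⟨u, hu, _, hv, rfl⟩ := Submodule.mem_sup.mp ha
      obtain ⟨u', hu', _, hv', rfl⟩ := Submodule.mem_sup.mp hb
      obtain ⟨c, rfl⟩ := Submodule.mem_span_singleton.mp hv
      obtain ⟨c', rfl⟩ := Submodule.mem_span_singleton.mp hv'
      simp [hL u hu u' hu', hx' u hu, hA x, hA.isRefl _ _ (hx' u' hu')]
    all_goals
      have : Module.finrank F ↥(L ⊔ F ∙ x) = Module.finrank F L + 1 := by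
        have h1 := Submodule.finrank_sup_add_finrank_inf_eq L (F ∙ x)
        have h2 : L ⊓ (F ∙ x) = ⊥ :=
          disjoint_iff.mp (disjoint_span_singleton_of_notMem hxL)
        rw [h2, finrank_bot, finrank_span_singleton (fun h => hxL (by rw [h]; exact L.zero_mem))] at h1
        omega
      omega


/-- If B₁, B₂ are non-degenerate alternating forms on U (dim 2k) and W (dim 2l), then B₁ ⊗ B₂ on U ⊗ W is symmetric, non-degenerate, and vanishes identically on some subspace of dimension 2kl (half of dim U ⊗ W). -/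
theorem result {F U W : Type*} [Field F] [Fintype F] [AddCommGroup U] [Module F U] [FiniteDimensional F U] [AddCommGroup W] [Module F W] [FiniteDimensional F W] (B₁ : LinearMap.BilinForm F U) (B₂ : LinearMap.BilinForm F W) (h₁ : B₁.Nondegenerate) (h₂ : B₂.Nondegenerate) (hA₁ : B₁.IsAlt) (hA₂ : B₂.IsAlt) (k l : ℕ) (hU : Module.finrank F U = 2 * k) (hW : Module.finrank F W = 2 * l) : (B₁.tmul B₂).IsSymm ∧ (B₁.tmul B₂).Nondegenerate ∧ (∃ X : Submodule F (TensorProduct F U W), Module.finrank F X = 2 * k * l ∧ ∀ x ∈ X, ∀ y ∈ X, (B₁.tmul B₂) x y = 0) := by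
  classical
  refine ⟨⟨fun x y => ?_⟩, CfsgLib.BilinLag.tmul_nondegenerate h₁ h₂, ?_⟩
  · induction x using TensorProduct.induction_on with
    | zero => simp
    | add a b ha hb => simp only [map_add, LinearMap.add_apply, ha, hb]
    | tmul u w =>
      induction y using TensorProduct.induction_on with
      | zero => simp
      | add a b ha hb => simp only [map_add, LinearMap.add_apply, ha, hb]
      | tmul u' w' =>
        simp [LinearMap.BilinForm.tmul, LinearMap.BilinForm.tensorDistrib_tmul,
          ← LinearMap.IsAlt.neg hA₁ u' u, ← LinearMap.IsAlt.neg hA₂ w' w]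
  obtain ⟨L, hLd, hL⟩ := exists_lag k B₁ ⊥ (by simp) h₁ hA₁ hU (by simp)
  refine ⟨LinearMap.range (LinearMap.rTensor W L.subtype), ?_, ?_⟩
  · rw [LinearMap.finrank_range_of_inj (Module.Flat.rTensor_preserves_injective_linearMap _ L.subtype_injective),
      Module.finrank_tensorProduct, hLd, hW]
    ring
  · rintro _ ⟨a, rfl⟩ _ ⟨b, rfl⟩
    induction a using TensorProduct.induction_on with
    | zero => simp
    | add a a' ha hb => simp only [map_add, LinearMap.add_apply, ha, hb, add_zero]
    | tmul u w =>
      induction b using TensorProduct.induction_on with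
      | zero => simp
      | add b b' ha hb => simp only [map_add, ha, hb, add_zero]
      | tmul u' w' =>
        simp [LinearMap.BilinForm.tmul, LinearMap.BilinForm.tensorDistrib_tmul, hL u u.2 u' u'.2]

end Cfsg.Agent.S0833
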