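import Cfsg.Statements.S0835
import Mathlib
import Cfsg.Agent.Lib.BilinLag

set_option autoImplicit false
open Cfsg

namespace Cfsg.Agent.S0835



/-- Over a finite field with 2 ≠ 0: if B₁ on U (dim 2k, k ≥ 1) is non-degenerate symmetric of minus type (no totally isotropic k-subspace) and B₂ on W (dim 2l + 1) is non-degenerate symmetric, then B₁ ⊗ B₂ (dimension 2k(2l+1)) admits no totally isotropic subspace of dimension k(2l+1) (minus type). -/
theorem result {F U W : Type*} [Field F] [Fintype F] [AddCommGroup U] [Module F U] [FiniteDimensional F U] [AddCommGroup W] [Module F W] [FiniteDimensional F W] (h2 : (2 : F) ≠ 0) (B₁ : LinearMap.BilinForm F U) (B₂ : LinearMap.BilinForm F W) (h₁ : B₁.Nondegenerate) (h₂ : B₂.Nondegenerate) (hS₁ : B₁.IsSymm) (hS₂ : B₂.IsSymm) (k l : ℕ) (hk : 1 ≤ k) (hU : Module.finrank F U = 2 * k) (hW : Module.finrank F W = 2 * l + 1) (hm₁ : ¬ (∃ X : Submodule F (U), Module.finrank F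 X = k ∧ ∀ x ∈ X, ∀ y ∈ X, (B₁) x y = 0)) : ¬ (∃ X : Submodule F (TensorProduct F U W), Module.finrank F X = k * (2 * l + 1) ∧ ∀ x ∈ X, ∀ y ∈ X, (B₁.tmul B₂) x y = 0) := by
  classical
  let bU := Module.finBasisOfFinrankEq F U hU
  let bW := Module.finBasisOfFinrankEq F W hW
  have hS : LinearMap.BilinForm.IsSymm (B₁.tmul B₂) :=
    ⟨(LinearMap.IsSymm.tmul (B₁ := B₁) (B₂ := B₂) ⟨hS₁.eq⟩ ⟨hS₂.eq⟩).eq⟩
  intro h
  apply hm₁
  have h' := (CfsgLib.BilinLag.hasLag_iff h2 (m := k * (2 * l + 1)) (bU.tensorProduct bW) (by simp; ring)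
    _ hS (CfsgLib.BilinLag.det_ne_zero _ (CfsgLib.BilinLag.tmul_nondegenerate h₁ h₂))).mp h
  rw [CfsgLib.BilinLag.tmul_det, Fintype.card_fin, Fintype.card_fin] at h'
  refine (CfsgLib.BilinLag.hasLag_iff h2 (m := k) bU (by simp) B₁ hS₁
    (CfsgLib.BilinLag.det_ne_zero _ h₁)).mpr ?_
  set d₁ := (LinearMap.BilinForm.toMatrix bU B₁).det
  set d₂ := (LinearMap.BilinForm.toMatrix bW B₂).det
  have hd₁ : d₁ ≠ 0 := CfsgLib.BilinLag.det_ne_zero _ h₁
  have hd₂ : d₂ ≠ 0 := CfsgLib.BilinLag.det_ne_zero _ h₂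
  refine (CfsgLib.FiniteForms.isSquare_sq_mul_iff (p := d₁ ^ l * d₂ ^ k) (mul_ne_zero (pow_ne_zero _ hd₁) (pow_ne_zero _ hd₂))).mp ?_
  convert h' using 1
  rw [show k * (2 * l + 1) = k + (k * l + k * l) by ring, pow_add, pow_add,
    show ((-1 : F) ^ (k * l) * (-1) ^ (k * l)) = 1 by rw [← mul_pow]; simp]
  ring

end Cfsg.Agent.S0835
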