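import Cfsg.Statements.S0837
import Mathlib
import Cfsg.Agent.Lib.IsotropicHerm
import Cfsg.Agent.S0755

set_option autoImplicit false
open Cfsg

namespace Cfsg.Agent.S0837

open Matrix in
theorem split {F : Type*} [Field F] [Fintype F] {q : ℕ} (hF : Fintype.card F = q ^ 2) {n k m : ℕ}
    (E : Fin k ⊕ Fin m ≃ Fin n) (W : Submodule F (Fin n → F)) (hWk : Module.finrank F W = k)
    (hW : ∀ u ∈ W, (∀ v ∈ W, Cfsg.hermForm n F q u v = 0) → u = 0) :
    Nonempty (↥((Cfsg.stabilizing (Cfsg.glToMat (Fin n) F) (W : Set (Fin n → F))).subgroupOf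
      (Cfsg.GU n F q)) ≃* ↥(Cfsg.GU k F q) × ↥(Cfsg.GU m F q)) := by
  classical
  obtain ⟨σ, B, hσid, hσ2, hσ, hS, hnd, hB⟩ := CfsgLib.IsotropicCount.herm_sesq hF n
  obtain ⟨f, hfW, hf⟩ := Cfsg.Agent.S0755.aux σ hσid hσ2 B hS k W hWk fun x hx h => hW x hx
    fun v hv => by rw [← hB, ← hS.eq, h v hv, map_zero]
  -- the coordinate subspace
  let W0 : Submodule F (Fin n → F) :=
    { carrier := {v | ∀ j, v (E (Sum.inr j)) = 0}
      zero_mem' := fun _ => rfl
      add_mem' := fun ha hb j => by simp [ha j, hb j]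
      smul_mem' := fun c a ha j => by simp [ha j] }
  have hsplit : ∀ u v : Fin n → F, Cfsg.hermForm n F q u v =
      Cfsg.hermForm k F q (u ∘ E ∘ Sum.inl) (v ∘ E ∘ Sum.inl) +
        Cfsg.hermForm m F q (u ∘ E ∘ Sum.inr) (v ∘ E ∘ Sum.inr) := fun u v => by
    simp only [Cfsg.hermForm, Function.comp_apply]
    rw [← E.sum_comp, Fintype.sum_sum_type]
  have hq1 : 1 < q := (CfsgLib.UnitaryBasic.frob_exists hF).1
  let φ : W0 →ₗ[F] (Fin n → F) :=
    { toFun := fun x => ∑ i, x.1 (E (Sum.inl i)) • f i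
      map_add' := fun a b => by simp [add_smul, Finset.sum_add_distrib]
      map_smul' := fun c a => by simp [Finset.smul_sum, smul_smul] }
  have hφW : ∀ x, φ x ∈ W := fun x =>
    show (∑ i, x.1 (E (Sum.inl i)) • f i) ∈ W from W.sum_mem fun i _ => W.smul_mem _ (hfW i)
  have hφi : ∀ x i, B (f i) (φ x) = x.1 (E (Sum.inl i)) := fun x i => by simp [φ, hf]
  have hinj : Function.Injective φ := fun x y h => by
    refine Subtype.ext (funext fun a => ?_)
    obtain ⟨a, rfl⟩ := E.surjective a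
    rcases a with i | j
    · rw [← hφi, ← hφi, h]
    · rw [x.2 j, y.2 j]
  have hφ : ∀ x x' : W0, Cfsg.hermForm n F q (φ x) (φ x') = Cfsg.hermForm n F q x x' := fun x x' => by
    rw [hsplit x.1 x'.1]
    have h0 : (x.1 ∘ E ∘ Sum.inr) = 0 := funext fun j => x.2 j
    rw [h0, ← hB, show φ x' = ∑ i, x'.1 (E (Sum.inl i)) • f i from rfl]
    simp only [map_sum, LinearMap.map_smulₛₗ, LinearMap.sum_apply, LinearMap.smul_apply, hφi,
      smul_eq_mul, hσ, Cfsg.hermForm, Function.comp_apply, Pi.zero_apply, zero_mul,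
      Finset.sum_const_zero, add_zero]
    exact Finset.sum_congr rfl fun i _ => mul_comm _ _
  obtain ⟨g, hg⟩ := CfsgLib.IsotropicCount.herm_extend hF W0 φ hinj hφ
  have hgg : ∀ v, g.1.1 *ᵥ (g⁻¹.1.1 *ᵥ v) = v := fun v => by
    rw [mulVec_mulVec, show g.1.1 * g⁻¹.1.1 = 1 from by exact_mod_cast g.1.mul_inv, one_mulVec]
  have hgg' : ∀ v, g⁻¹.1.1 *ᵥ (g.1.1 *ᵥ v) = v := fun v => by
    rw [mulVec_mulVec, show g⁻¹.1.1 * g.1.1 = 1 from by exact_mod_cast g.1.inv_mul, one_mulVec]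
  have hfr : Module.finrank F W0 = k := by
    let e : W0 ≃ₗ[F] (Fin k → F) :=
      { toFun := fun x i => x.1 (E (Sum.inl i))
        invFun := fun c => ⟨Sum.elim c 0 ∘ E.symm, fun j => by simp⟩
        left_inv := fun x => Subtype.ext <| funext fun a => by
          obtain ⟨a, rfl⟩ := E.surjective a
          rcases a with i | j
          · simp
          · simpa using (x.2 j).symm
        right_inv := fun c => funext fun i => by simp
        map_add' := fun _ _ => rfl
        map_smul' := fun _ _ => rfl }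
    rw [e.finrank_eq, Module.finrank_fin_fun]
  have hrange : LinearMap.range φ = W := by
    refine Submodule.eq_of_le_of_finrank_eq (by rintro _ ⟨x, rfl⟩; exact hφW x) ?_
    rw [LinearMap.finrank_range_of_inj hinj, hfr, hWk]
  have hmemW : ∀ v, v ∈ W ↔ g⁻¹.1.1 *ᵥ v ∈ W0 := by
    intro v
    constructor
    · intro hv
      obtain ⟨x, rfl⟩ := hrange.ge hv
      rw [← hg, hgg']
      exact x.2
    · intro hv
      have := hφW ⟨_, hv⟩
      rwa [← hg, hgg] at this
  -- block embedding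
  let emb : Matrix (Fin k) (Fin k) F → Matrix (Fin m) (Fin m) F → Matrix (Fin n) (Fin n) F :=
    fun A C => (fromBlocks A 0 0 C).submatrix E.symm E.symm
  have hemb_l : ∀ A C (v : Fin n → F), (emb A C *ᵥ v) ∘ E ∘ Sum.inl = A *ᵥ (v ∘ E ∘ Sum.inl) :=
    fun A C v => funext fun i => by
      simp [emb, submatrix_mulVec_equiv, fromBlocks_mulVec, Function.comp_assoc]
  have hemb_r : ∀ A C (v : Fin n → F), (emb A C *ᵥ v) ∘ E ∘ Sum.inr = C *ᵥ (v ∘ E ∘ Sum.inr) :=
    fun A C v => funext fun i => by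
      simp [emb, submatrix_mulVec_equiv, fromBlocks_mulVec, Function.comp_assoc]
  have hmulE : ∀ A C A' C', emb A C * emb A' C' = emb (A * A') (C * C') := fun A C A' C' => by
    simp [emb, submatrix_mul_equiv, fromBlocks_multiply]
  have honeE : emb 1 1 = 1 := by simp [emb]
  let Φ : Cfsg.GU k F q × Cfsg.GU m F q →* Cfsg.GU n F q :=
    { toFun := fun p => ⟨⟨emb p.1.1.1 p.2.1.1, emb p.1⁻¹.1.1 p.2⁻¹.1.1,
          by rw [hmulE, show p.1.1.1 * p.1⁻¹.1.1 = 1 from by exact_mod_cast p.1.1.mul_inv,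
            show p.2.1.1 * p.2⁻¹.1.1 = 1 from by exact_mod_cast p.2.1.mul_inv, honeE],
          by rw [hmulE, show p.1⁻¹.1.1 * p.1.1.1 = 1 from by exact_mod_cast p.1.1.inv_mul,
            show p.2⁻¹.1.1 * p.2.1.1 = 1 from by exact_mod_cast p.2.1.inv_mul, honeE]⟩,
        fun u v => by
          show Cfsg.hermForm n F q (emb _ _ *ᵥ u) (emb _ _ *ᵥ v) = _
          rw [hsplit, hsplit u v, hemb_l, hemb_l, hemb_r, hemb_r]
          exact congrArg₂ (· + ·) (p.1.2 _ _) (p.2.2 _ _)⟩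
      map_one' := Subtype.ext (Units.ext honeE)
      map_mul' := fun p p' => Subtype.ext (Units.ext (hmulE _ _ _ _).symm) }
  have hΦv : ∀ p, (Φ p).1.1 = emb p.1.1.1 p.2.1.1 := fun p => rfl
  let Ψ : Cfsg.GU k F q × Cfsg.GU m F q →* Cfsg.GU n F q := (MulAut.conj g).toMonoidHom.comp Φ
  have hΨinj : Function.Injective Ψ := fun p p' h => by
    have h' : (Φ p).1.1 = (Φ p').1.1 := congrArg (fun x => x.1.1) ((MulAut.conj g).injective h)
    rw [hΦv, hΦv] at h'
    refine Prod.ext (Subtype.ext (Units.ext ?_)) (Subtype.ext (Units.ext ?_))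
    · ext i j; simpa [emb] using congrFun (congrFun h' (E (Sum.inl i))) (E (Sum.inl j))
    · ext i j; simpa [emb] using congrFun (congrFun h' (E (Sum.inr i))) (E (Sum.inr j))
  have hmk : ∀ (l : ℕ) (M : Matrix (Fin l) (Fin l) F),
      (∀ u v, Cfsg.hermForm l F q (M *ᵥ u) (M *ᵥ v) = Cfsg.hermForm l F q u v) →
      ∃ x : Cfsg.GU l F q, x.1.1 = M := by
    intro l M hM
    have hu : IsUnit M := by
      rw [← mulVec_injective_iff_isUnit]
      intro u v h
      refine sub_eq_zero.mp (funext fun i => ?_)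
      have h' := hM (u - v) (Pi.single i 1)
      rw [mulVec_sub, h, sub_self, CfsgLib.UnitaryOrder.herm_single_right hF] at h'
      simpa [Cfsg.hermForm] using h'.symm
    exact ⟨⟨hu.unit, fun u v => hM u v⟩, rfl⟩
  have hr : Ψ.range =
      (Cfsg.stabilizing (Cfsg.glToMat (Fin n) F) (W : Set (Fin n → F))).subgroupOf (Cfsg.GU n F q) := by
    ext h
    rw [Subgroup.mem_subgroupOf]
    constructor
    · rintro ⟨p, rfl⟩ v
      show v ∈ W ↔ (g.1.1 * (Φ p).1.1 * g⁻¹.1.1) *ᵥ v ∈ W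
      rw [hmemW, hmemW, ← mulVec_mulVec, ← mulVec_mulVec, hgg']
      set w := g⁻¹.1.1 *ᵥ v
      have hw := hemb_r p.1.1.1 p.2.1.1 w
      constructor
      · intro h0 j
        have : w ∘ E ∘ Sum.inr = 0 := funext h0
        rw [this, mulVec_zero] at hw
        exact congrFun hw j
      · intro h0 j
        have : (emb p.1.1.1 p.2.1.1 *ᵥ w) ∘ E ∘ Sum.inr = 0 := funext h0
        rw [this] at hw
        have hinj2 : Function.Injective p.2.1.1.mulVec := mulVec_injective_iff_isUnit.mpr p.2.1.isUnit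
        exact congrFun (hinj2 (a₁ := w ∘ E ∘ Sum.inr) (a₂ := 0) (by rw [mulVec_zero]; exact hw.symm)) j
    · intro hh
      set M : Cfsg.GU n F q := g⁻¹ * h * g with hM
      have hMv : ∀ v, M.1.1 *ᵥ v = g⁻¹.1.1 *ᵥ (h.1.1 *ᵥ (g.1.1 *ᵥ v)) := fun v => by
        rw [mulVec_mulVec, mulVec_mulVec]; rfl
      have hM0 : ∀ v, v ∈ W0 ↔ M.1.1 *ᵥ v ∈ W0 := fun v => by
        rw [hMv, ← hmemW]
        have h2 : g.1.1 *ᵥ v ∈ W ↔ h.1.1 *ᵥ (g.1.1 *ᵥ v) ∈ W := hh _
        rw [← h2, hmemW, hgg']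
      set M' := M.1.1.submatrix E E with hM'
      have hMM : M.1.1 = M'.submatrix E.symm E.symm := by simp [hM']
      have h21 : M'.toBlocks₂₁ = 0 := by
        ext i j
        have := (hM0 (Pi.single (E (Sum.inl j)) 1)).mp
          (fun l => by simp) i
        simpa [hM', toBlocks₂₁] using this
      have h12 : M'.toBlocks₁₂ = 0 := by
        ext i j
        -- pull back the basis vector `E (inl i)`
        let w : Fin n → F := M⁻¹.1.1 *ᵥ Pi.single (E (Sum.inl i)) 1
        have hMw : M.1.1 *ᵥ w = Pi.single (E (Sum.inl i)) 1 := by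
          rw [mulVec_mulVec, show M.1.1 * M⁻¹.1.1 = 1 from by exact_mod_cast M.1.mul_inv, one_mulVec]
        have hw : w ∈ W0 := by
          rw [hM0, hMw]; exact fun l => by simp
        have hp : Cfsg.hermForm n F q (M.1.1 *ᵥ Pi.single (E (Sum.inr j)) 1) (M.1.1 *ᵥ w) =
            Cfsg.hermForm n F q (Pi.single (E (Sum.inr j)) 1) w := M.2 _ _
        rw [hMw, CfsgLib.UnitaryOrder.herm_single_right hF, hsplit] at hp
        simpa [hM', toBlocks₁₂, Cfsg.hermForm, Function.comp_def, Pi.single_apply,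
          show ∀ l, w (E (Sum.inr l)) = 0 from hw, zero_pow (show q ≠ 0 by omega)] using hp
      have hMe : M.1.1 = emb M'.toBlocks₁₁ M'.toBlocks₂₂ := by
        rw [hMM]
        show M'.submatrix _ _ = (fromBlocks _ 0 0 _).submatrix _ _
        congr 1
        conv_lhs => rw [← fromBlocks_toBlocks M', h12, h21]
      have hel : ∀ a, (Sum.elim a (0 : Fin m → F) ∘ E.symm) ∘ E ∘ Sum.inl = a := fun a =>
        funext fun i => by simp
      have her : ∀ a, (Sum.elim a (0 : Fin m → F) ∘ E.symm) ∘ E ∘ Sum.inr = (0 : Fin m → F) :=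
        fun a => funext fun i => by simp
      have hel' : ∀ a, (Sum.elim (0 : Fin k → F) a ∘ E.symm) ∘ E ∘ Sum.inl = (0 : Fin k → F) :=
        fun a => funext fun i => by simp
      have her' : ∀ a, (Sum.elim (0 : Fin k → F) a ∘ E.symm) ∘ E ∘ Sum.inr = a := fun a =>
        funext fun i => by simp
      have hz : ∀ l, Cfsg.hermForm l F q (0 : Fin l → F) 0 = 0 := fun l => by simp [Cfsg.hermForm]
      obtain ⟨A, hA⟩ := hmk k M'.toBlocks₁₁ fun u v => by
        have hp : Cfsg.hermForm n F q (M.1.1 *ᵥ (Sum.elim u 0 ∘ E.symm))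
            (M.1.1 *ᵥ (Sum.elim v 0 ∘ E.symm)) = _ := M.2 _ _
        rw [hsplit, hsplit (Sum.elim u 0 ∘ E.symm), hMe, hemb_l, hemb_l, hemb_r, hemb_r, hel, hel,
          her, her, mulVec_zero, hz, add_zero, add_zero] at hp
        exact hp
      obtain ⟨C, hC⟩ := hmk m M'.toBlocks₂₂ fun u v => by
        have hp : Cfsg.hermForm n F q (M.1.1 *ᵥ (Sum.elim 0 u ∘ E.symm))
            (M.1.1 *ᵥ (Sum.elim 0 v ∘ E.symm)) = _ := M.2 _ _
        rw [hsplit, hsplit (Sum.elim 0 u ∘ E.symm), hMe, hemb_l, hemb_l, hemb_r, hemb_r, hel', hel',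
          her', her', mulVec_zero, hz, zero_add, zero_add] at hp
        exact hp
      refine ⟨(A, C), ?_⟩
      have hPhi : Φ (A, C) = M := Subtype.ext (Units.ext (by rw [hΦv, hA, hC, hMe]))
      show g * Φ (A, C) * g⁻¹ = h
      rw [hPhi, hM]
      group
  exact ⟨((MonoidHom.ofInjective hΨinj).trans (MulEquiv.subgroupCongr hr)).symm⟩

/-- If W ≤ F^n (|F| = q²) is a k-dimensional subspace on which the Hermitian form Σ x_i y_i^q is non-degenerate, then the stabiliser of W in GU_n(q) is isomorphic to GU_k(q) × GU_(n−k)(q). -/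
theorem result {F : Type*} [Field F] [Fintype F] {q : ℕ} (hF : Fintype.card F = q ^ 2) (n k : ℕ) (hk : k ≤ n) (W : Submodule F (Fin n → F)) (hWk : Module.finrank F W = k) (hW : ∀ u ∈ W, (∀ v ∈ W, Cfsg.hermForm n F q u v = 0) → u = 0) : Nonempty (↥((Cfsg.stabilizing (Cfsg.glToMat (Fin n) F) (W : Set (Fin n → F))).subgroupOf (Cfsg.GU n F q)) ≃* ↥(Cfsg.GU k F q) × ↥(Cfsg.GU (n - k) F q)) := by
  exact split hF (finSumFinEquiv.trans (finCongr (Nat.add_sub_cancel' hk))) W hWk hW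

end Cfsg.Agent.S0837
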