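import Cfsg.Statements.S0838
import Mathlib
import Cfsg.Agent.Lib.FiniteForms.Witt
import Cfsg.Agent.Lib.FiniteForms.Quad

set_option autoImplicit false
open Cfsg

namespace Cfsg.Agent.S0838



/-- Over a finite field with 2 ≠ 0 and n odd: two quadratic forms Q₁, Q₂ on F^n with non-degenerate polar forms are similar — there are an invertible linear map g and a scalar c ≠ 0 with Q₂ (g v) = c · Q₁ v for all v. -/
theorem result {F : Type*} [Field F] [Fintype F] (h2 : (2 : F) ≠ 0) {n : ℕ} (hn : Odd n) (Q₁ Q₂ : QuadraticForm F (Fin n → F)) (h₁ : (QuadraticMap.polarBilin Q₁).Nondegenerate) (h₂ : (QuadraticMap.polarBilin Q₂).Nondegenerate) : ∃ (g : (Fin n → F) ≃ₗ[F] (Fin n → F)) (c : F), c ≠ 0 ∧ ∀ v, Q₂ (g v) = c * Q₁ v := by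
  classical
  open CfsgLib.FiniteForms in
  exact by
    set A := polarMat (ι := Fin n) ⇑Q₁ with hA
    set C := polarMat (ι := Fin n) ⇑Q₂ with hC
    have hA0 : A.det ≠ 0 := polarMat_det_ne_zero h₁
    have hC0 : C.det ≠ 0 := polarMat_det_ne_zero h₂
    obtain ⟨k, rfl⟩ := hn
    set c := C.det / A.det with hc
    have hc0 : c ≠ 0 := div_ne_zero hC0 hA0
    have hsm : polarMat ⇑(c • Q₁) = c • A := polarMat_smul Q₁ c
    have hdet : (c • A).det = c ^ (2 * k + 1) * A.det := by
      rw [Matrix.det_smul, Fintype.card_fin]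
    have hcg : Congr C (polarMat ⇑(c • Q₁)) := by
      rw [hsm, congr_iff h2 (polarMat_isSymm _) (hsm ▸ polarMat_isSymm _) hC0
        (by rw [hdet]; exact mul_ne_zero (pow_ne_zero _ hc0) hA0), hdet]
      refine ⟨c ^ k * C.det, ?_⟩
      have : c * A.det = C.det := div_mul_cancel₀ _ hA0
      linear_combination c ^ (2 * k) * C.det * this
    obtain ⟨g, hg⟩ := isometry_of_congr h2 (c • Q₁) Q₂ hcg
    exact ⟨g, c, hc0, fun v => by rw [hg]; rfl⟩

end Cfsg.Agent.S0838
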