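import Cfsg.Statements.S0839
import Mathlib

set_option autoImplicit false
open Cfsg
open scoped Matrix

namespace Cfsg.Agent.S0839

theorem exists_sl {F : Type*} [Field F] (n : ℕ) (b : Fin (n + 2) → F) (hb : b ≠ 0) :
    ∃ (g : Matrix.SpecialLinearGroup (Fin (n + 2)) F) (k : F), k ≠ 0 ∧
      b ᵥ* g.1 = Pi.single 0 k := by
  classical
  obtain ⟨g₀, hg₀⟩ : ∃ g₀ : Matrix.SpecialLinearGroup (Fin (n + 2)) F, (b ᵥ* g₀.1) 0 ≠ 0 := by
    by_cases h : b 0 = 0
    · obtain ⟨i, hi⟩ := Function.ne_iff.mp hb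
      have hi' : i ≠ 0 := by rintro rfl; exact hi h
      refine ⟨⟨Matrix.transvection i 0 1, Matrix.det_transvection_of_ne _ _ hi' _⟩, ?_⟩
      simp only [Matrix.transvection, Matrix.vecMul_add, Matrix.vecMul_one, Pi.add_apply]
      rw [h, zero_add]
      show (∑ k, b k * Matrix.single i (0 : Fin (n + 2)) (1 : F) k 0) ≠ 0
      rw [Finset.sum_eq_single i (fun k _ hk => by rw [Matrix.single_apply, if_neg (fun hh => hk hh.1.symm), mul_zero]) (by simp)]
      simpa using hi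
    · exact ⟨1, by simpa using h⟩
  set c := b ᵥ* g₀.1
  let M : Matrix (Fin (n + 2)) (Fin (n + 2)) F :=
    (1 : Matrix (Fin (n + 2)) (Fin (n + 2)) F).updateRow 0 ((c 0)⁻¹ • c)
  have hM : M.det = 1 := by
    show ((1 : Matrix (Fin (n + 2)) (Fin (n + 2)) F).updateRow 0 ((c 0)⁻¹ • c)).det = 1
    have := Matrix.cramer_transpose_apply (1 : Matrix (Fin (n + 2)) (Fin (n + 2)) F) ((c 0)⁻¹ • c) 0
    rw [← this, Matrix.transpose_one, Matrix.cramer_one]
    simp [hg₀]
  let G : Matrix.SpecialLinearGroup (Fin (n + 2)) F := ⟨M, hM⟩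
  refine ⟨g₀ * G⁻¹, c 0, hg₀, ?_⟩
  have h1 : Pi.single 0 (c 0) ᵥ* M = c := by
    funext j
    simp [M, Matrix.updateRow_self, hg₀]
  have h2 : M * (G⁻¹).1 = 1 := congrArg Subtype.val (mul_inv_cancel G)
  show b ᵥ* (g₀.1 * (G⁻¹).1) = _
  rw [← Matrix.vecMul_vecMul, show b ᵥ* g₀.1 = c from rfl]
  conv_lhs => rw [← h1]
  rw [Matrix.vecMul_vecMul, h2, Matrix.vecMul_one]


/-- Every transvection t ∈ SL_(n+2)(F) (rank(t − 1) = 1, (t − 1)² = 0) is conjugate in SL_(n+2)(F) to 1 + v·e_0ᵀ for some column vector v with v_0 = 0 (the group A of matrices that are the identity except in the first column below the diagonal); the dimension is written n + 2 ≥ 2. -/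
theorem result {F : Type*} [Field F] (n : ℕ) (t : Matrix.SpecialLinearGroup (Fin (n + 2)) F) (ht : Cfsg.IsTransvection (t : Matrix (Fin (n + 2)) (Fin (n + 2)) F)) : ∃ (g : Matrix.SpecialLinearGroup (Fin (n + 2)) F) (v : Fin (n + 2) → F), v 0 = 0 ∧ ((g⁻¹ * t * g : Matrix.SpecialLinearGroup (Fin (n + 2)) F) : Matrix (Fin (n + 2)) (Fin (n + 2)) F) = 1 + Matrix.vecMulVec v (Pi.single 0 1) := by
  classical
  obtain ⟨hr, hsq⟩ := ht
  set M := (t : Matrix (Fin (n + 2)) (Fin (n + 2)) F) - 1 with hM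
  obtain ⟨⟨a, ha⟩, ha0, haall⟩ := finrank_eq_one_iff'.mp (show Module.finrank F (LinearMap.range M.mulVecLin) = 1 from hr)
  choose b hb using fun j : Fin (n + 2) => haall ⟨M *ᵥ Pi.single j 1, ⟨_, rfl⟩⟩
  have hMab : M = Matrix.vecMulVec a b := by
    ext i j
    have h := congrFun (congrArg Subtype.val (hb j)) i
    simp [Matrix.mulVec_single_one] at h
    rw [Matrix.vecMulVec_apply, ← h, mul_comm]
  have hb0 : b ≠ 0 := by
    intro h
    rw [hMab, h, Matrix.vecMulVec_zero, Matrix.rank_zero] at hr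
    exact zero_ne_one hr
  have ha0' : a ≠ 0 := fun h => ha0 (Subtype.ext h)
  have hba : b ⬝ᵥ a = 0 := by
    rw [hMab, Matrix.vecMulVec_mul_vecMulVec] at hsq
    obtain ⟨i, hi⟩ := Function.ne_iff.mp ha0'
    obtain ⟨j, hj⟩ := Function.ne_iff.mp hb0
    have h := congrFun (congrFun hsq i) j
    simp [Matrix.vecMulVec_apply, MulOpposite.smul_eq_mul_unop] at h
    tauto
  obtain ⟨g, k, hk, hg⟩ := exists_sl n b hb0
  refine ⟨g, k • (g⁻¹).1 *ᵥ a, ?_, ?_⟩
  · have h : (b ᵥ* g.1) ⬝ᵥ ((g⁻¹).1 *ᵥ a) = 0 := by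
      rw [Matrix.dotProduct_mulVec, Matrix.vecMul_vecMul,
        show g.1 * (g⁻¹).1 = 1 from congrArg Subtype.val (mul_inv_cancel g), Matrix.vecMul_one, hba]
    rw [hg, single_dotProduct] at h
    simpa using h
  · show (g⁻¹).1 * t.1 * g.1 = _
    rw [show t.1 = 1 + M by simp [M], Matrix.mul_add, Matrix.add_mul, Matrix.mul_one,
      show (g⁻¹).1 * g.1 = 1 from congrArg Subtype.val (inv_mul_cancel g), hMab,
      Matrix.mul_vecMulVec, Matrix.vecMulVec_mul, hg]
    congr 1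
    ext i j
    simp only [Matrix.vecMulVec_apply, Pi.single_apply, Pi.smul_apply, smul_eq_mul]
    split_ifs <;> ring

end Cfsg.Agent.S0839
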