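import Cfsg.Statements.S0840
import Cfsg.Agent.Lib.CharTheory
import Cfsg.Agent.Lib.CharTheory.Clifford
import Cfsg.Agent.Lib.CharTheory.Schur
-- import your own Cfsg.Agent.* helpers here

set_option autoImplicit false
open scoped ComplexConjugate
open Cfsg

namespace Cfsg.Agent.S0840

open CfsgLib.CharTheory
open scoped ComplexConjugate

/-- Class multiplication coefficients from the character table: for elements a, b, c of a finite group G, the number of ordered pairs (x, y) with x conjugate to a, y conjugate to b and x * y = c equals the product of the sizes of the conjugacy classes of a and b, divided by the order of G, times the sum over the irreducible characters χ of χ a * χ b * conj (χ c) / χ 1. -/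
theorem result {G : Type*} [Group G] [Finite G] (a b c : G) : (Nat.card {p : G × G // IsConj a p.1 ∧ IsConj b p.2 ∧ p.1 * p.2 = c} : ℂ) = (Nat.card {x : G // IsConj a x} : ℂ) * (Nat.card {x : G // IsConj b x} : ℂ) / (Nat.card G : ℂ) * ∑ᶠ χ : Cfsg.IrrCharacter G, (χ : G → ℂ) a * (χ : G → ℂ) b * conj ((χ : G → ℂ) c) / (χ : G → ℂ) 1 := by
  classical
  have := Fintype.ofFinite G
  rw [finsum_eq_sum_of_fintype]
  set S := Finset.univ.filter fun x : G => IsConj a x
  set T := Finset.univ.filter fun x : G => IsConj b x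
  have hG : (Nat.card G : ℂ) ≠ 0 := Nat.cast_ne_zero.mpr Nat.card_pos.ne'
  have hN : (Nat.card {p : G × G // IsConj a p.1 ∧ IsConj b p.2 ∧ p.1 * p.2 = c} : ℂ) =
      ∑ x ∈ S, ∑ y ∈ T, if x * y = c then (1 : ℂ) else 0 := by
    rw [← Finset.sum_product', Finset.sum_boole, Nat.card_eq_fintype_card, Fintype.card_subtype]
    congr 2
    ext p
    simp [S, T, and_assoc]
  rw [hN, div_mul_eq_mul_div, eq_div_iff hG, Finset.mul_sum]
  have hind : ∀ x y : G, (if x * y = c then (1 : ℂ) else 0) * (Nat.card G : ℂ) =
      ∑ χ : Cfsg.IrrCharacter G, (χ : G → ℂ) (x * y * c⁻¹) * (χ : G → ℂ) 1 := fun x y => by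
    rw [sum_irr_apply_mul_degree, ite_mul, one_mul, zero_mul]
    exact if_congr mul_inv_eq_one.symm rfl rfl
  simp only [Finset.sum_mul, hind]
  rw [Finset.sum_congr rfl fun x (_ : x ∈ S) => Finset.sum_comm, Finset.sum_comm]
  refine Finset.sum_congr rfl fun χ _ => ?_
  simp only [← Finset.sum_mul]
  rw [sum_class_class_char χ.2 a b c⁻¹, char_apply_inv (isCharacter_of_irr χ.2)]
  have hne : (χ : G → ℂ) 1 ≠ 0 := irr_ne_zero χ.2
  field_simp

end Cfsg.Agent.S0840
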