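import Cfsg.Statements.S0841
import Mathlib
-- import your own Cfsg.Agent.* helpers here

set_option autoImplicit false
open Cfsg

namespace Cfsg.Agent.S0841

open scoped commutatorElement

/-- If the commutator subgroup of G lies in the centre, then for all x, y in G and every natural number n one has (x * y) ^ n = x ^ n * y ^ n * c ^ (n * (n - 1) / 2) with c = y⁻¹ * x⁻¹ * y * x. -/
theorem result {G : Type*} [Group G] (hG : commutator G ≤ Subgroup.center G) (x y : G) (n : ℕ) : (x * y) ^ n = x ^ n * y ^ n * (y⁻¹ * x⁻¹ * y * x) ^ (n * (n - 1) / 2) := by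
  set c := y⁻¹ * x⁻¹ * y * x with hc
  have hcen : ∀ g : G, c * g = g * c := by
    have hm : c ∈ commutator G := by
      rw [hc, show y⁻¹ * x⁻¹ * y * x = ⁅y⁻¹, x⁻¹⁆ by rw [commutatorElement_def, inv_inv, inv_inv]]
      exact Subgroup.commutator_mem_commutator (Subgroup.mem_top _) (Subgroup.mem_top _)
    exact fun g => (Subgroup.mem_center_iff.mp (hG hm) g).symm
  have hcp : ∀ (k : ℕ) (g : G), c ^ k * g = g * c ^ k := fun k g =>
    ((show Commute c g from hcen g).pow_left k).eq
  have hyx : ∀ k : ℕ, y ^ k * x = x * y ^ k * c ^ k := by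
    intro k
    induction k with
    | zero => simp
    | succ k ih =>
      calc y ^ (k + 1) * x = y ^ k * (y * x) := by rw [pow_succ]; group
        _ = y ^ k * (x * y * c) := by rw [show y * x = x * y * c by rw [hc]; group]
        _ = (y ^ k * x) * (y * c) := by group
        _ = x * y ^ k * c ^ k * (y * c) := by rw [ih]
        _ = x * y ^ k * (c ^ k * y) * c := by group
        _ = x * y ^ k * (y * c ^ k) * c := by rw [hcp]
        _ = x * (y ^ k * y) * (c ^ k * c) := by simp only [mul_assoc]
        _ = _ := by rw [← pow_succ, ← pow_succ]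
  induction n with
  | zero => simp
  | succ k ih =>
    have harith : k * (k - 1) / 2 + k = (k + 1) * (k + 1 - 1) / 2 := by
      rw [← Finset.sum_range_id, ← Finset.sum_range_id, Finset.sum_range_succ]
    calc (x * y) ^ (k + 1) = x ^ k * y ^ k * c ^ (k * (k - 1) / 2) * (x * y) := by rw [pow_succ, ih]
      _ = x ^ k * y ^ k * (c ^ (k * (k - 1) / 2) * (x * y)) := by group
      _ = x ^ k * y ^ k * ((x * y) * c ^ (k * (k - 1) / 2)) := by rw [hcp]
      _ = x ^ k * (y ^ k * x) * (y * c ^ (k * (k - 1) / 2)) := by simp only [mul_assoc]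
      _ = x ^ k * (x * y ^ k * c ^ k) * (y * c ^ (k * (k - 1) / 2)) := by rw [hyx]
      _ = x ^ k * x * y ^ k * (c ^ k * y) * c ^ (k * (k - 1) / 2) := by simp only [mul_assoc]
      _ = x ^ k * x * y ^ k * (y * c ^ k) * c ^ (k * (k - 1) / 2) := by rw [hcp]
      _ = (x ^ k * x) * (y ^ k * y) * (c ^ k * c ^ (k * (k - 1) / 2)) := by simp only [mul_assoc]
      _ = _ := by rw [← pow_succ, ← pow_succ, ← pow_add, add_comm k (k * (k - 1) / 2), harith]

end Cfsg.Agent.S0841
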