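import Cfsg.Statements.S0842
import Cfsg.Agent.Lib.BrauerSuzukiQ.Fusion
-- import your own Cfsg.Agent.* helpers here

set_option autoImplicit false
open Cfsg

namespace Cfsg.Agent.S0842

open CfsgLib.QuaternionSylow

/-- Suppose a Sylow 2-subgroup S of the finite group G is generalized quaternion of order at least 16, and let D be the commutator subgroup of S, C its centralizer and N its normalizer in G. Then there is a subgroup K of odd order, contained in C and normalized by N, with K ⊔ S = N and K ⊔ (S ⊓ C) = C, and C has index 2 in N. -/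
theorem result {G : Type*} [Group G] [Finite G] (S : Sylow 2 G) (n : ℕ) (e : (S : Subgroup G) ≃* QuaternionGroup (2 ^ (n + 2))) (D : Subgroup G) (hD : D = ⁅(S : Subgroup G), (S : Subgroup G)⁆) : ∃ K : Subgroup G, Odd (Nat.card K) ∧ K ≤ Subgroup.centralizer (D : Set G) ∧ Subgroup.normalizer (D : Set G) ≤ Subgroup.normalizer (K : Set G) ∧ K ⊔ (S : Subgroup G) = Subgroup.normalizer (D : Set G) ∧ K ⊔ ((S : Subgroup G) ⊓ Subgroup.centralizer (D : Set G)) = Subgroup.centralizer (D : Set G) ∧ ((Subgroup.centralizer (D : Set G)).subgroupOf (Subgroup.normalizer (D : Set G))).index = 2 := by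
    obtain ⟨a, x, K, ha, hx, hao, hxa, hDz, hDcard, hSN, hSC, hKcard, hKC, hKN, hKodd, hKa, hKS, hcases⟩ :=
      local_structure S n e D hD
    refine ⟨K, hKcard, hKC, hKN, hKS, by rw [hSC]; exact hKa, ?_⟩
    have hxC : x ∉ Subgroup.centralizer (D : Set G) := by
      intro h
      have hc : x * a ^ 2 * x⁻¹ = a ^ 2 := by
        rw [← Subgroup.mem_centralizer_iff.mp h (a ^ 2) (hDz ▸ Subgroup.mem_zpowers _), mul_inv_cancel_right]
      rw [← conj_pow, hxa, inv_pow] at hc
      have h2 : a ^ 4 = 1 := by
        have : a ^ 2 * a ^ 2 = 1 := by nth_rw 1 [← hc]; exact inv_mul_cancel _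
        rwa [← pow_add] at this
      have h3 := Nat.le_of_dvd (by norm_num) (orderOf_dvd_of_pow_eq_one h2)
      rw [hao] at h3
      have h5 : 2 ^ 3 ≤ 2 ^ (n + 3) := Nat.pow_le_pow_right two_pos (by omega)
      omega
    rw [Subgroup.index_eq_two_iff']
    refine ⟨⟨x⁻¹, (Subgroup.normalizer (D : Set G)).inv_mem (hSN hx)⟩, fun g => ?_⟩
    simp only [Subgroup.mem_subgroupOf, Subgroup.coe_mul]
    rcases hcases (g : G) g.2 with h | h
    · refine Or.inr ⟨h, fun h' => hxC ?_⟩
      have := (Subgroup.centralizer (D : Set G)).mul_mem h' ((Subgroup.centralizer (D : Set G)).inv_mem h)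
      rw [mul_inv_cancel_right] at this
      simpa using (Subgroup.centralizer (D : Set G)).inv_mem this
    · refine Or.inl ⟨h, fun h' => hxC ?_⟩
      have := (Subgroup.centralizer (D : Set G)).mul_mem h ((Subgroup.centralizer (D : Set G)).inv_mem h')
      rw [mul_inv_cancel_right] at this
      simpa using (Subgroup.centralizer (D : Set G)).inv_mem this

end Cfsg.Agent.S0842
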