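import Cfsg.Statements.S0848
import Mathlib
import Cfsg.Agent.Lib.CharTheory.TI
import Cfsg.Agent.Lib.BrauerSuzukiQ.Exceptional
import Cfsg.Agent.Lib.CharTheory.Schur
import Cfsg.Agent.Lib.CharTheory.Linear
import Cfsg.Agent.Lib.TransferExtremal
-- import your own Cfsg.Agent.* helpers here

set_option autoImplicit false
set_option maxHeartbeats 1000000
open Cfsg

namespace Cfsg.Agent.S0848

open CfsgLib CfsgLib.CharTheory CfsgLib.QuaternionSylow
open scoped commutatorElement
open scoped ComplexConjugate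

theorem isChar_matrix {D : Type*} [Group D] {n : ℕ} (f : D →* Matrix (Fin n) (Fin n) ℤ) :
    Cfsg.IsCharacter D (fun g => ((f g).trace : ℂ)) := by
  refine ⟨n, (Matrix.toLinAlgEquiv' (R := ℂ) (n := Fin n)).toMonoidHom.comp
    (((Int.castRingHom ℂ).mapMatrix.toMonoidHom).comp f), funext fun g => ?_⟩
  show LinearMap.trace ℂ _ (Matrix.toLinAlgEquiv' ((f g).map (Int.castRingHom ℂ))) = _
  rw [show Matrix.toLinAlgEquiv' ((f g).map (Int.castRingHom ℂ)) = Matrix.toLin' ((f g).map (Int.castRingHom ℂ))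
    from rfl, Matrix.trace_toLin'_eq]
  simp [Matrix.trace]

abbrev D4 := DihedralGroup 4

/-- The trivial representation. -/
def rho0 : D4 →* Matrix (Fin 1) (Fin 1) ℤ := 1

/-- The sign representation trivial on rotations. -/
def rho1 : D4 →* Matrix (Fin 1) (Fin 1) ℤ where
  toFun
    | .r _ => !![1]
    | .sr _ => !![-1]
  map_one' := by decide +kernel
  map_mul' := by decide +kernel

/-- The sign representation alternating on rotations. -/
def rho2 : D4 →* Matrix (Fin 1) (Fin 1) ℤ where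
  toFun
    | .r i => !![(-1) ^ i.val]
    | .sr i => !![(-1) ^ i.val]
  map_one' := by decide +kernel
  map_mul' := by decide +kernel

/-- The two-dimensional representation. -/
def rho3 : D4 →* Matrix (Fin 2) (Fin 2) ℤ where
  toFun
    | .r i => !![0, -1; 1, 0] ^ i.val
    | .sr i => !![1, 0; 0, -1] * !![0, -1; 1, 0] ^ i.val
  map_one' := by decide +kernel
  map_mul' := by decide +kernel

/-- The function to be induced. -/
def alpha (d : D4) : ℤ := (rho0 d).trace + (rho1 d).trace - (rho3 d).trace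

theorem sum_D4 {M : Type*} [AddCommMonoid M] (f : D4 → M) :
    ∑ d, f d = f (.r 0) + (f (.r 1) + (f (.r 2) + (f (.r 3) + (f (.sr 0) + (f (.sr 1) + (f (.sr 2) + f (.sr 3))))))) := by
  have h : (Finset.univ : Finset D4) = {DihedralGroup.r 0, DihedralGroup.r 1, DihedralGroup.r 2, DihedralGroup.r 3,
      DihedralGroup.sr 0, DihedralGroup.sr 1, DihedralGroup.sr 2, DihedralGroup.sr 3} := by decide
  rw [h, Finset.sum_insert (by decide), Finset.sum_insert (by decide), Finset.sum_insert (by decide),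
    Finset.sum_insert (by decide), Finset.sum_insert (by decide), Finset.sum_insert (by decide),
    Finset.sum_insert (by decide), Finset.sum_singleton]

/-- The involutions of the dihedral group. -/
def invs : Finset D4 := Finset.univ.filter fun d => d * d = 1 ∧ d ≠ 1

/-- If a finite group equals its own commutator subgroup and contains an involution whose centralizer is isomorphic to the dihedral group of order 8, then the group has order 168 or 360. -/
theorem result {G : Type*} [Group G] [Finite G] (hperf : commutator G = ⊤) (t : G) (ht : orderOf t = 2) (e : Subgroup.centralizer ({t} : Set G) ≃* DihedralGroup 4) : Nat.card G = 168 ∨ Nat.card G = 360 := by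
  classical
  haveI := Fintype.ofFinite G
  haveI := Fact.mk Nat.prime_two
  set D := Subgroup.centralizer ({t} : Set G) with hD
  have htt : t * t = 1 := by rw [← pow_two, ← ht, pow_orderOf_eq_one]
  have ht1 : t ≠ 1 := fun h => by rw [h, orderOf_one] at ht; exact absurd ht (by norm_num)
  have hmemD : ∀ g : G, g ∈ D ↔ g * t = t * g := fun g => by
    rw [hD, Subgroup.mem_centralizer_iff]
    exact ⟨fun h => (h t rfl).symm, fun h y hy => by rw [Set.mem_singleton_iff.1 hy]; exact h.symm⟩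
  have htD : t ∈ D := (hmemD t).2 rfl
  let j : D4 →* G := D.subtype.comp e.symm.toMonoidHom
  have hjD : ∀ d, j d ∈ D := fun d => (e.symm d).2
  have hje : ∀ x : D, j (e x) = x := fun x => by show ((e.symm (e x) : D) : G) = x; rw [e.symm_apply_apply]
  have hjinj : Function.Injective j := fun a b h => e.symm.injective (Subtype.ext h)
  have hcardD : Nat.card D = 8 := by rw [Nat.card_congr e.toEquiv, DihedralGroup.nat_card]
  have hdec2 : ∀ d : D4, (∀ x, d * x = x * d) → d * d = 1 → d ≠ 1 → d = DihedralGroup.r 2 := by decide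
  have het : e ⟨t, htD⟩ = DihedralGroup.r 2 := by
    refine hdec2 _ (fun x => ?_) ?_ ?_
    · obtain ⟨y, rfl⟩ := e.surjective x
      rw [← map_mul, ← map_mul]
      exact congrArg e (Subtype.ext ((hmemD y).1 y.2).symm)
    · rw [← map_mul, show (⟨t, htD⟩ : D) * ⟨t, htD⟩ = 1 from Subtype.ext htt, map_one]
    · intro h
      exact ht1 (congrArg Subtype.val ((map_eq_one_iff e e.injective).1 h))
  have hjt : j (DihedralGroup.r 2) = t := by rw [← het, hje]
  set c := j (DihedralGroup.r 1) with hc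
  have hr1 : DihedralGroup.r 1 * DihedralGroup.r 1 = (DihedralGroup.r 2 : D4) := by decide
  have hcc : c * c = t := by rw [hc, ← map_mul, hr1, hjt]
  -- the centraliser of `t` is a Sylow subgroup
  have hDp : IsPGroup 2 D := IsPGroup.of_card (n := 3) (by rw [hcardD]; norm_num)
  obtain ⟨P, hP⟩ := hDp.exists_le_sylow
  have hPD : (P : Subgroup G) = D := by
    refine le_antisymm ?_ hP
    by_contra hne
    haveI := P.isPGroup'.isNilpotent
    have hlt : D.subgroupOf (P : Subgroup G) < ⊤ := lt_top_iff_ne_top.2 fun h => hne (Subgroup.subgroupOf_eq_top.1 h)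
    obtain ⟨g, hgN, hgD⟩ := SetLike.exists_of_lt (Group.normalizerCondition_of_isNilpotent _ hlt)
    apply hgD
    rw [Subgroup.mem_subgroupOf, hmemD]
    have hconjD : ∀ x ∈ D, (g : G)⁻¹ * x * g ∈ D ∧ (g : G) * x * (g : G)⁻¹ ∈ D := by
      intro x hx
      have hgi := inv_mem hgN
      rw [Subgroup.mem_normalizer_iff] at hgN hgi
      refine ⟨?_, (hgN ⟨x, hP hx⟩).1 hx⟩
      have := (hgi ⟨x, hP hx⟩).1 hx
      rw [Subgroup.mem_subgroupOf] at this
      simpa using this
    have h2 : e ⟨_, (hconjD t htD).2⟩ = DihedralGroup.r 2 := by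
      refine hdec2 _ (fun x => ?_) ?_ ?_
      · obtain ⟨y, rfl⟩ := e.surjective x
        rw [← map_mul, ← map_mul]
        refine congrArg e (Subtype.ext ?_)
        show (g : G) * t * (g : G)⁻¹ * y = y * ((g : G) * t * (g : G)⁻¹)
        have h := (hmemD _).1 (hconjD y y.2).1
        calc (g : G) * t * (g : G)⁻¹ * y = (g : G) * (t * ((g : G)⁻¹ * y * g)) * (g : G)⁻¹ := by group
          _ = (g : G) * ((g : G)⁻¹ * y * g * t) * (g : G)⁻¹ := by rw [h]
          _ = y * ((g : G) * t * (g : G)⁻¹) := by group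
      · rw [← map_mul, map_eq_one_iff e e.injective]
        exact Subtype.ext (by show (g : G) * t * (g : G)⁻¹ * ((g : G) * t * (g : G)⁻¹) = 1; rw [conj_mul, htt]; simp)
      · intro h
        have := congrArg Subtype.val ((map_eq_one_iff e e.injective).1 h)
        exact ht1 (conj_eq_one_iff.1 this)
    rw [← het, e.injective.eq_iff] at h2
    exact mul_inv_eq_iff_eq_mul.1 (congrArg Subtype.val h2)
  have hG2 : ∀ M : Subgroup G, M.Normal → M.index ≠ 2 := by
    intro M hM h2
    have hQ : Nat.card (G ⧸ M) = 2 := by rw [← Subgroup.index_eq_card, h2]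
    haveI := isCyclic_of_prime_card hQ
    have hle : commutator G ≤ M := by
      rw [commutator_def, Subgroup.commutator_le]
      intro a _ b _
      rw [← QuotientGroup.eq_one_iff]
      show QuotientGroup.mk' M ⁅a, b⁆ = 1
      rw [map_commutatorElement, commutatorElement_eq_one_iff_mul_comm]
      letI := IsCyclic.commGroup (α := G ⧸ M)
      exact mul_comm _ _
    rw [hperf, top_le_iff] at hle
    rw [hle, Subgroup.index_top] at h2
    norm_num at h2
  have hcard_c : Nat.card (Subgroup.zpowers c) = 4 := by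
    rw [Nat.card_zpowers, hc, orderOf_injective j hjinj, DihedralGroup.orderOf_r_one]
  have hcD : Subgroup.zpowers c ≤ D := Subgroup.zpowers_le.2 (hjD _)
  have hfus : ∀ d : D4, d * d = 1 → d ≠ 1 → IsConj t (j d) := by
    intro d hd hd1
    have hQi : (Subgroup.zpowers c).relIndex (P : Subgroup G) = 2 := by
      rw [hPD]
      have h := Subgroup.card_mul_index ((Subgroup.zpowers c).subgroupOf D)
      rw [Nat.card_congr (Subgroup.subgroupOfEquivOfLe hcD).toEquiv, hcard_c, hcardD] at h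
      show ((Subgroup.zpowers c).subgroupOf D).index = 2
      omega
    obtain ⟨g, hg, -⟩ := CfsgLib.TransferExtremal.exists_conj hG2 P _ (hcD.trans hPD.ge) hQi (j d)
      (by rw [pow_two, ← map_mul, hd, map_one])
    obtain ⟨k, hk⟩ := hg
    refine isConj_iff.2 ⟨g⁻¹, ?_⟩
    have hk2 : c ^ k = j (DihedralGroup.r (k : ZMod 4)) := by rw [hc, ← map_zpow, DihedralGroup.r_one_zpow]
    have hdec : ∀ i : ZMod 4, DihedralGroup.r i * DihedralGroup.r i = (1 : D4) → DihedralGroup.r i ≠ (1 : D4) →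
        DihedralGroup.r i = (DihedralGroup.r 2 : D4) := by decide
    have hk' : g * j d * g⁻¹ = j (DihedralGroup.r (k : ZMod 4)) := by rw [← hk2]; exact hk.symm
    have hsq : j (DihedralGroup.r (k : ZMod 4)) * j (DihedralGroup.r (k : ZMod 4)) = 1 := by
      rw [← hk', conj_mul, ← map_mul, hd, map_one, mul_one, mul_inv_cancel]
    have hne : DihedralGroup.r (k : ZMod 4) ≠ (1 : D4) := by
      intro h
      rw [h, map_one, conj_eq_one_iff] at hk'
      exact hd1 (hjinj (hk'.trans (map_one j).symm))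
    rw [hdec _ (hjinj (by rw [map_mul, hsq, map_one])) hne, hjt] at hk'
    rw [← hk']; group
  -- the induced character
  let α : D → ℂ := fun x => (alpha (e x) : ℂ)
  have hα0 : Cfsg.IsGeneralizedCharacter D α := by
    have h := isGenChar_sub
      (isGenChar_of_char (isCharacter_add (isChar_matrix (rho0.comp e.toMonoidHom)) (isChar_matrix (rho1.comp e.toMonoidHom))))
      (isGenChar_of_char (isChar_matrix (rho3.comp e.toMonoidHom)))
    convert h using 1
    funext x
    simp [α, alpha]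
  set Φ := Cfsg.indFun D α with hΦ
  have hΦg : Cfsg.IsGeneralizedCharacter G Φ := isGenChar_indFun D hα0
  have halpha : alpha (DihedralGroup.r 0) = 0 ∧ alpha (DihedralGroup.r 1) = 2 ∧ alpha (DihedralGroup.r 2) = 4 ∧
      alpha (DihedralGroup.r 3) = 2 ∧ ∀ i, alpha (DihedralGroup.sr i) = 0 := by decide +kernel
  have hαcls : Cfsg.IsClassFunction D α := by
    intro x y
    have : ∀ a b : D4, alpha (b * a * b⁻¹) = alpha a := by decide +kernel
    show (alpha (e (y * x * y⁻¹)) : ℂ) = (alpha (e x) : ℂ)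
    rw [map_mul, map_mul, map_inv, this]
  set T : Set G := {g | ∃ d : D4, alpha d ≠ 0 ∧ g = j d} with hT
  have hsupp : ∀ d : D4, alpha d ≠ 0 → d = DihedralGroup.r 2 ∨ d * d = DihedralGroup.r 2 := by decide +kernel
  have hTI : ∀ g : G, g ∉ D → ∀ s ∈ T, g * s * g⁻¹ ∈ T → s = 1 := by
    rintro g hg _ ⟨d, hd, rfl⟩ ⟨d', hd', hdd⟩
    exfalso
    apply hg
    rw [hmemD]
    have key : ∀ d d' : D4, alpha d ≠ 0 → alpha d' ≠ 0 → (d = DihedralGroup.r 2 → d' * d' = 1 → d' = DihedralGroup.r 2) ∧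
        (d * d = DihedralGroup.r 2 → d' * d' ≠ 1 → d' * d' = DihedralGroup.r 2) ∧ (d * d = DihedralGroup.r 2 → d * d ≠ 1) := by
      decide +kernel
    obtain ⟨k1, k2, k3⟩ := key d d' hd hd'
    rcases hsupp d hd with h | h
    · have hsq : d' * d' = 1 := hjinj (by
        rw [map_mul, map_one, ← hdd, conj_mul, h, hjt, htt, mul_one, mul_inv_cancel])
      rw [h, k1 h hsq, hjt] at hdd
      exact mul_inv_eq_iff_eq_mul.1 hdd
    · have hsq : j (d' * d') = g * t * g⁻¹ := by rw [map_mul, ← hdd, conj_mul, ← map_mul, h, hjt]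
      have hne : d' * d' ≠ 1 := fun h1 => by
        rw [h1, map_one, eq_comm, conj_eq_one_iff] at hsq
        exact ht1 hsq
      rw [k2 h hne, hjt, eq_comm] at hsq
      exact mul_inv_eq_iff_eq_mul.1 hsq
  have hαT : ∀ x : D, (x : G) ∉ T → α x = 0 := by
    intro x hx
    by_contra h
    exact hx ⟨e x, fun h0 => h (by show (alpha (e x) : ℂ) = 0; rw [h0, Int.cast_zero]), (hje x).symm⟩
  have hα1 : α 1 = 0 := by
    show (alpha (e 1) : ℂ) = 0
    rw [map_one]
    exact_mod_cast halpha.1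
  have hΦd : ∀ d : D4, alpha d ≠ 0 → Φ (j d) = (alpha d : ℂ) := by
    intro d hd
    have h := indFun_apply_of_TI D T hTI hαcls hαT hα1 (e.symm d) ⟨d, hd, rfl⟩
    rw [show α (e.symm d) = (alpha d : ℂ) by show (alpha (e (e.symm d)) : ℂ) = _; rw [e.apply_symm_apply]] at h
    exact h
  have hΦt : Φ t = 4 := by
    rw [← hjt, hΦd _ (by rw [halpha.2.2.1]; norm_num), halpha.2.2.1]; norm_num
  have hΦc : Φ c = 2 := by
    rw [hc, hΦd _ (by rw [halpha.2.1]; norm_num), halpha.2.1]; norm_num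
  have hΦ1 : Φ 1 = 0 := by rw [hΦ, indFun_apply_one, hα1, mul_zero]
  have hsumD : ∀ f : D → ℂ, ∑ x, f x = ∑ d : D4, f (e.symm d) := fun f => (Equiv.sum_comp e.symm.toEquiv f).symm
  have h8 : ((Nat.card D : ℂ))⁻¹ = 8⁻¹ := by rw [hcardD]; norm_num
  have h3 : Cfsg.classInner Φ Φ = 3 := by
    rw [hΦ, classInner_indFun_of_TI D T hTI hαcls hαT hαT hα1, Cfsg.classInner, hsumD, h8, sum_D4]
    simp only [α, e.apply_symm_apply, halpha.1, halpha.2.1, halpha.2.2.1, halpha.2.2.2.1, halpha.2.2.2.2]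
    norm_num [Complex.conj_ofNat]
  have hone : Cfsg.classInner Φ (fun _ => 1) = 1 := by
    rw [hΦ, frobenius_reciprocity D α isClassFunction_one, Cfsg.classInner, hsumD, h8, sum_D4]
    simp only [α, e.apply_symm_apply, halpha.1, halpha.2.1, halpha.2.2.1, halpha.2.2.2.1, halpha.2.2.2.2]
    norm_num
  obtain ⟨χ1, χ2, hi1, hi2, hn1, hn2, hdeg, hdec⟩ := exists_decomp_norm_three hΦg h3 hone hΦ1
  -- values of an irreducible character
  have hjr3 : IsConj c (j (DihedralGroup.r 3)) := isConj_iff.2 ⟨j (DihedralGroup.sr 0), by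
    rw [hc, ← map_inv, ← map_mul, ← map_mul,
      show DihedralGroup.sr 0 * DihedralGroup.r 1 * (DihedralGroup.sr 0)⁻¹ = (DihedralGroup.r 3 : D4) by decide]⟩
  have hsr : ∀ i : ZMod 4, IsConj t (j (DihedralGroup.sr i)) := fun i => hfus _ (by revert i; decide) (by revert i; decide)
  have hvals : ∀ χ : G → ℂ, Cfsg.IsIrrCharacter G χ → ∃ (x : ℕ) (A C : ℤ), 0 < x ∧ χ 1 = x ∧ χ t = A ∧ χ c = C ∧
      (8 : ℤ) ∣ x + 5 * A + 2 * C ∧ (8 : ℤ) ∣ x + A - 2 * C := by
    intro χ hχ
    obtain ⟨x, hx, hx1⟩ := irr_degree_pos hχ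
    have hcl : ∀ a b, IsConj a b → χ a = χ b := isClassFunction_iff_isConj.1 (isClassFunction_irr hχ)
    have hres := isCharacter_restrict (isCharacter_of_irr hχ) D
    have v : ∀ d : D4, ((e.symm d : D) : G) = j d := fun d => rfl
    have hj0 : j (DihedralGroup.r 0) = 1 := map_one j
    have key : ∀ (ρ : D4 →* Matrix (Fin 1) (Fin 1) ℤ), ∃ n : ℕ, χ 1 * ((ρ (.r 0)).trace : ℂ) +
        (χ c * ((ρ (.r 1)).trace : ℂ) + (χ t * ((ρ (.r 2)).trace : ℂ) + (χ c * ((ρ (.r 3)).trace : ℂ) +
        (χ t * ((ρ (.sr 0)).trace : ℂ) + (χ t * ((ρ (.sr 1)).trace : ℂ) + (χ t * ((ρ (.sr 2)).trace : ℂ) +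
          χ t * ((ρ (.sr 3)).trace : ℂ))))))) = 8 * n := by
      intro ρ
      obtain ⟨n, hn⟩ := classInner_char_nat hres (isChar_matrix (ρ.comp e.toMonoidHom))
      refine ⟨n, ?_⟩
      rw [Cfsg.classInner, hsumD, h8, sum_D4, inv_mul_eq_iff_eq_mul₀ (by norm_num)] at hn
      simpa only [v, hj0, ← hc, hjt, ← hcl _ _ hjr3, ← hcl _ _ (hsr _), MonoidHom.comp_apply, MulEquiv.coe_toMonoidHom,
        e.apply_symm_apply, map_intCast] using hn
    obtain ⟨n1, h1⟩ := key rho0
    obtain ⟨n2, h2⟩ := key rho1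
    obtain ⟨n3, h3⟩ := key rho2
    have t0 : ∀ d, (rho0 d).trace = 1 := by decide +kernel
    have t1 : (∀ i, (rho1 (.r i)).trace = 1) ∧ ∀ i, (rho1 (.sr i)).trace = -1 := by decide +kernel
    have t2 : (rho2 (.r 0)).trace = 1 ∧ (rho2 (.r 1)).trace = -1 ∧ (rho2 (.r 2)).trace = 1 ∧ (rho2 (.r 3)).trace = -1 ∧
        (rho2 (.sr 0)).trace = 1 ∧ (rho2 (.sr 1)).trace = -1 ∧ (rho2 (.sr 2)).trace = 1 ∧ (rho2 (.sr 3)).trace = -1 := by
      decide +kernel
    simp only [t0, t1.1, t1.2, t2, Int.cast_one, Int.cast_neg, mul_one, mul_neg, hx1] at h1 h2 h3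
    refine ⟨x, (n1 : ℤ) - n2, 2 * (n1 : ℤ) - 2 * n3 - ((n1 : ℤ) - n2), hx, hx1, ?_, ?_, ?_, ?_⟩
    · push_cast; linear_combination (1 / 8 : ℂ) * h1 - (1 / 8 : ℂ) * h2
    · push_cast; linear_combination (1 / 4 : ℂ) * h1 - (1 / 4 : ℂ) * h3 - (1 / 8 : ℂ) * h1 + (1 / 8 : ℂ) * h2
    · refine ⟨n1, ?_⟩
      have e1 : χ t = (((n1 : ℤ) - n2 : ℤ) : ℂ) := by push_cast; linear_combination (1 / 8 : ℂ) * h1 - (1 / 8 : ℂ) * h2
      have e2 : χ c = ((2 * (n1 : ℤ) - 2 * n3 - ((n1 : ℤ) - n2) : ℤ) : ℂ) := by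
        push_cast; linear_combination (1 / 8 : ℂ) * h1 - (1 / 4 : ℂ) * h3 + (1 / 8 : ℂ) * h2
      apply Int.cast_injective (α := ℂ)
      rw [e1, e2] at h1
      push_cast at h1 ⊢
      linear_combination h1
    · refine ⟨n3, ?_⟩
      have e1 : χ t = (((n1 : ℤ) - n2 : ℤ) : ℂ) := by push_cast; linear_combination (1 / 8 : ℂ) * h1 - (1 / 8 : ℂ) * h2
      have e2 : χ c = ((2 * (n1 : ℤ) - 2 * n3 - ((n1 : ℤ) - n2) : ℤ) : ℂ) := by
        push_cast; linear_combination (1 / 8 : ℂ) * h1 - (1 / 4 : ℂ) * h3 + (1 / 8 : ℂ) * h2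
      apply Int.cast_injective (α := ℂ)
      rw [e1, e2] at h3
      push_cast at h3 ⊢
      linear_combination h3
  obtain ⟨x, A, C, hx, hx1, hA, hC, hxa, hxb⟩ := hvals χ1 hi1
  obtain ⟨y, B, E', hy, hy1, hB, hE, hya, hyb⟩ := hvals χ2 hi2
  have hxy : (x : ℤ) = y + 1 := by rw [hx1, hy1] at hdeg; exact_mod_cast hdeg
  have hAB : B - A = 3 := by
    have h := hdec t
    rw [hΦt, hA, hB] at h
    apply Int.cast_injective (α := ℂ)
    push_cast
    linear_combination -h
  have hCE : E' - C = 1 := by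
    have h := hdec c
    rw [hΦc, hC, hE] at h
    apply Int.cast_injective (α := ℂ)
    push_cast
    linear_combination -h
  -- column orthogonality
  have hne12 : χ1 ≠ χ2 := fun h => by rw [h] at hdeg; simp at hdeg
  have hcol : ∀ (g : G) (a b : ℤ), χ1 g = a → χ2 g = b →
      1 + a * a + b * b ≤ (Nat.card (Subgroup.centralizer ({g} : Set G)) : ℤ) := by
    intro g a b ha hb
    have h := sum_irr_mul_conj g g
    rw [if_pos (IsConj.refl g)] at h
    simp only [Complex.mul_conj] at h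
    have hreal : ∑ χ : Cfsg.IrrCharacter G, Complex.normSq ((χ : G → ℂ) g) =
        (Nat.card (Subgroup.centralizer ({g} : Set G)) : ℝ) := by exact_mod_cast h
    have hle := Finset.sum_le_univ_sum_of_nonneg (s := ({⟨_, isIrrCharacter_one⟩, ⟨χ1, hi1⟩, ⟨χ2, hi2⟩} : Finset (Cfsg.IrrCharacter G)))
      (fun χ : Cfsg.IrrCharacter G => Complex.normSq_nonneg ((χ : G → ℂ) g))
    rw [hreal, Finset.sum_insert (by simp [Subtype.ext_iff, hn1.symm, hn2.symm]),
      Finset.sum_pair (by simp [Subtype.ext_iff, hne12])] at hle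
    simp only [ha, hb, map_one, Complex.normSq_intCast] at hle
    exact_mod_cast (by linarith : (1 : ℝ) + (a : ℝ) * a + (b : ℝ) * b ≤ (Nat.card (Subgroup.centralizer ({g} : Set G)) : ℝ))
  have hb8 : A * A + B * B ≤ 7 := by
    have h := hcol t A B hA hB
    rw [show Nat.card (Subgroup.centralizer ({t} : Set G)) = 8 from hcardD] at h
    push_cast at h
    linarith
  have hb4 : C * C + E' * E' ≤ 3 := by
    have h := hcol c C E' hC hE
    have hle : Subgroup.centralizer ({c} : Set G) ≤ D := fun g hg => by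
      have h := Subgroup.mem_centralizer_iff.1 hg c rfl
      rw [hmemD, ← hcc, ← mul_assoc, ← h, mul_assoc, ← h, mul_assoc]
    have hcomm4 : (Finset.univ.filter fun d : D4 => DihedralGroup.r 1 * d = d * DihedralGroup.r 1).card = 4 := by decide
    have hcc4 : Nat.card (Subgroup.centralizer ({c} : Set G)) = 4 := by
      rw [← hcomm4, ← Fintype.card_subtype, ← Nat.card_eq_fintype_card]
      refine (Nat.card_congr (Equiv.ofBijective (fun d : {d : D4 // DihedralGroup.r 1 * d = d * DihedralGroup.r 1} =>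
        (⟨j d.1, Subgroup.mem_centralizer_iff.2 fun z hz => ?_⟩ : Subgroup.centralizer ({c} : Set G)))
        ⟨fun a b hab => Subtype.ext (hjinj (congrArg (fun z : Subgroup.centralizer ({c} : Set G) => (z : G)) hab)), fun g => ?_⟩)).symm
      · rw [Set.mem_singleton_iff.1 hz, hc, ← map_mul, ← map_mul, d.2]
      · refine ⟨⟨e ⟨g, hle g.2⟩, hjinj ?_⟩, Subtype.ext (hje _)⟩
        rw [map_mul, map_mul, hje]
        exact Subgroup.mem_centralizer_iff.1 g.2 c rfl
    rw [hcc4] at h
    push_cast at h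
    linarith
  -- counting products of two involutions
  set F : G → ℂ := Cfsg.extendByZero D α with hF
  set Kc : Finset G := Finset.univ.image (fun p : G => p * t * p⁻¹) with hKc
  have hfib : ∀ f : G → ℂ, ∑ p : G, f (p * t * p⁻¹) = 8 * ∑ u ∈ Kc, f u := by
    intro f
    rw [Finset.sum_comp, Finset.mul_sum]
    refine Finset.sum_congr rfl fun u hu => ?_
    obtain ⟨q, -, rfl⟩ := Finset.mem_image.1 hu
    rw [nsmul_eq_mul, ← Fintype.card_subtype, ← Nat.card_eq_fintype_card]
    have hh : Nat.card {p : G // p * t * p⁻¹ = q * t * q⁻¹} = 8 := by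
      refine (Nat.card_congr (Equiv.subtypeEquiv (Equiv.mulLeft q⁻¹) (fun p => ?_))).trans hcardD
      rw [Equiv.coe_mulLeft, hmemD]
      constructor
      · intro h
        calc q⁻¹ * p * t = q⁻¹ * (p * t * p⁻¹) * p := by group
          _ = t * (q⁻¹ * p) := by rw [h]; group
      · intro h
        calc p * t * p⁻¹ = q * (q⁻¹ * p * t) * p⁻¹ := by group
          _ = q * t * q⁻¹ := by rw [h]; group
    rw [hh]
    norm_num
  have hKmem : ∀ u, u ∈ Kc ↔ IsConj t u := fun u => by simp [hKc, isConj_iff]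
  have hFj : ∀ d, F (j d) = (alpha d : ℂ) := fun d => by
    rw [hF, extendByZero_of_mem _ _ (hjD d)]
    show (alpha (e (e.symm d)) : ℂ) = _
    rw [e.apply_symm_apply]
  have hKsq : ∀ u ∈ Kc, u * u = 1 := by
    intro u hu
    obtain ⟨q, -, rfl⟩ := Finset.mem_image.1 hu
    rw [conj_mul, htt, mul_one, mul_inv_cancel]
  have hinD : ∀ u ∈ Kc, ∀ v ∈ Kc, F (u * v) ≠ 0 → u ∈ D ∧ v ∈ D := by
    intro u hu v hv hne
    have hmem : u * v ∈ D := by
      by_contra h
      exact hne (by rw [hF, extendByZero_of_not_mem _ _ h])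
    set d := e ⟨u * v, hmem⟩ with hd
    have hjd : j d = u * v := hje _
    rw [← hjd, hFj] at hne
    have hne' : alpha d ≠ 0 := fun h => hne (by rw [h, Int.cast_zero])
    have hui : u⁻¹ = u := inv_eq_of_mul_eq_one_right (hKsq u hu)
    have hvi : v⁻¹ = v := inv_eq_of_mul_eq_one_right (hKsq v hv)
    have hconj : u * (u * v) * u⁻¹ = (u * v)⁻¹ := by
      rw [mul_inv_rev, hui, hvi, ← mul_assoc, hKsq u hu, one_mul]
    have hti : t⁻¹ = t := inv_eq_of_mul_eq_one_right htt
    have hut : u * t * u⁻¹ = t := by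
      rcases hsupp d hne' with h | h
      · rw [h, hjt] at hjd
        rw [← hjd, hti] at hconj
        exact hconj
      · have h2 : (u * v) * (u * v) = t := by rw [← hjd, ← map_mul, h, hjt]
        rw [← h2, ← conj_mul, hconj, ← mul_inv_rev, h2, hti]
    have huD : u ∈ D := (hmemD u).2 (mul_inv_eq_iff_eq_mul.1 hut)
    exact ⟨huD, by have := mul_mem (inv_mem huD) hmem; rwa [inv_mul_cancel_left] at this⟩
  have hKD : Kc.filter (fun u => u ∈ D) = invs.image j := by
    ext u
    rw [Finset.mem_filter, hKmem, Finset.mem_image]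
    constructor
    · rintro ⟨hu, huD⟩
      refine ⟨e ⟨u, huD⟩, ?_, hje _⟩
      simp only [invs, Finset.mem_filter, Finset.mem_univ, true_and]
      have hu' := (hKmem u).2 hu
      refine ⟨?_, fun h => ?_⟩
      · rw [← map_mul, show (⟨u, huD⟩ : D) * ⟨u, huD⟩ = 1 from Subtype.ext (hKsq u hu'), map_one]
      · obtain rfl : u = 1 := congrArg Subtype.val ((map_eq_one_iff e e.injective).1 h)
        exact ht1 (isConj_one_left.1 hu)
    · rintro ⟨d, hd, rfl⟩
      simp only [invs, Finset.mem_filter, Finset.mem_univ, true_and] at hd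
      exact ⟨hfus d hd.1 hd.2, hjD d⟩
  have hS : ∑ a : G, Φ (a * t * a⁻¹ * t) = 256 := by
    have h1 : ∀ a : G, Φ (a * t * a⁻¹ * t) = 8⁻¹ * ∑ x : G, F (x⁻¹ * (a * t * a⁻¹ * t) * x) := fun a => by
      rw [hΦ, Cfsg.indFun, h8]
    simp only [h1]
    rw [← Finset.mul_sum, Finset.sum_comm]
    have h2 : ∀ x : G, ∑ a : G, F (x⁻¹ * (a * t * a⁻¹ * t) * x) = 8 * ∑ u ∈ Kc, F (u * (x⁻¹ * t * x)) := by
      intro x
      rw [← hfib fun u => F (u * (x⁻¹ * t * x)), ← Equiv.sum_comp (Equiv.mulLeft x)]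
      refine Finset.sum_congr rfl fun p _ => congrArg F ?_
      rw [Equiv.coe_mulLeft]; group
    simp only [h2]
    rw [← Finset.mul_sum, ← Equiv.sum_comp (Equiv.inv G)]
    simp only [Equiv.inv_apply, inv_inv]
    rw [hfib fun v => ∑ u ∈ Kc, F (u * v)]
    have h3 : ∑ v ∈ Kc, ∑ u ∈ Kc, F (u * v) = ∑ b ∈ invs, ∑ a ∈ invs, (alpha (a * b) : ℂ) := by
      rw [← Finset.sum_filter_of_ne (p := fun v => v ∈ D) (fun v hv hne => by
        obtain ⟨u, hu, hu'⟩ := Finset.exists_ne_zero_of_sum_ne_zero hne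
        exact (hinD u hu v hv hu').2), hKD, Finset.sum_image (fun a _ b _ h => hjinj h)]
      refine Finset.sum_congr rfl fun b hb => ?_
      have hbK : j b ∈ Kc := by
        simp only [invs, Finset.mem_filter, Finset.mem_univ, true_and] at hb
        exact (hKmem _).2 (hfus b hb.1 hb.2)
      rw [← Finset.sum_filter_of_ne (p := fun u => u ∈ D) (fun u hu hne => (hinD u hu _ hbK hne).1), hKD,
        Finset.sum_image (fun a _ b _ h => hjinj h)]
      exact Finset.sum_congr rfl fun a _ => by rw [← map_mul, hFj]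
    have h4 : ∑ b ∈ invs, ∑ a ∈ invs, alpha (a * b) = 32 := by decide +kernel
    rw [h3, show ∑ b ∈ invs, ∑ a ∈ invs, (alpha (a * b) : ℂ) = 32 by exact_mod_cast h4]
    norm_num
  have hS2 : ∑ a : G, Φ (a * t * a⁻¹ * t) = (Nat.card G : ℂ) * (1 + (B : ℂ) ^ 2 / y - (A : ℂ) ^ 2 / x) := by
    simp only [hdec]
    rw [Finset.sum_sub_distrib, Finset.sum_add_distrib, sum_conj_mul_char hi2 t t, sum_conj_mul_char hi1 t t,
      Finset.sum_const, Finset.card_univ, ← Nat.card_eq_fintype_card, nsmul_eq_mul, hA, hB, hx1, hy1]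
    ring
  obtain ⟨n, hn⟩ : 8 ∣ Nat.card G := hcardD ▸ Subgroup.card_subgroup_dvd_card D
  have heq : (Nat.card G : ℤ) * (x * y + B * B * x - A * A * y) = 256 * (x * y) := by
    have hx0 : (x : ℂ) ≠ 0 := Nat.cast_ne_zero.2 hx.ne'
    have hy0 : (y : ℂ) ≠ 0 := Nat.cast_ne_zero.2 hy.ne'
    have h := hS.symm.trans hS2
    field_simp at h
    apply Int.cast_injective (α := ℂ)
    push_cast
    linear_combination -h
  have hy_ne : y ≠ 1 := by
    intro h1
    rw [h1, Nat.cast_one] at hy1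
    obtain ⟨φ, hφ⟩ := exists_hom_of_degree_one (isCharacter_of_irr hi2) hy1
    apply hn2
    funext g
    have hker : commutator G ≤ φ.ker := Abelianization.commutator_subset_ker φ
    have hg : g ∈ φ.ker := hker (hperf.ge (Subgroup.mem_top g))
    rw [hφ]
    simp [MonoidHom.mem_ker.1 hg]
  have hrA : -2 ≤ A ∧ A ≤ 2 := ⟨by nlinarith, by nlinarith⟩
  have hrC : -1 ≤ C ∧ C ≤ 1 := ⟨by nlinarith, by nlinarith⟩
  have hrE : -1 ≤ E' ∧ E' ≤ 1 := ⟨by nlinarith, by nlinarith⟩
  have hn' : (Nat.card G : ℤ) = 8 * n := by exact_mod_cast hn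
  rcases (show A = -2 ∨ A = -1 by
    obtain ⟨l, h'⟩ := hrA
    interval_cases A <;> first | omega | (exfalso; nlinarith)) with hA2 | hA1
  · -- `360`
    obtain rfl : B = 1 := by omega
    subst hA2
    obtain ⟨m, hm⟩ : (8 : ℤ) ∣ (y : ℤ) - 1 := by omega
    have hm0 : m ≠ 0 := fun h => hy_ne (by subst h; omega)
    have hy' : (y : ℤ) = 8 * m + 1 := by omega
    rw [hxy, hn', hy'] at heq
    have h2 : (n : ℤ) * (m * m) = (8 * m + 1) * (4 * m + 1) := by linarith
    have hd : m ∣ 1 := ⟨(n : ℤ) * m - 32 * m - 12, by linarith⟩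
    rcases Int.isUnit_iff.1 (isUnit_of_dvd_one hd) with h | h
    · subst h; right; omega
    · subst h; exfalso; omega
  · -- `168`
    obtain rfl : B = 2 := by omega
    subst hA1
    obtain ⟨m, hm⟩ : (8 : ℤ) ∣ (x : ℤ) + 1 := by omega
    have hx' : (x : ℤ) = 8 * m - 1 := by omega
    have hy' : (y : ℤ) = 8 * m - 2 := by omega
    rw [hn', hy', hx'] at heq
    have h2 : (n : ℤ) * (m * m) = (8 * m - 1) * (4 * m - 1) := by linarith
    have hd : m ∣ 1 := ⟨(n : ℤ) * m - 32 * m + 12, by linarith⟩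
    rcases Int.isUnit_iff.1 (isUnit_of_dvd_one hd) with h | h
    · subst h; left; omega
    · subst h; exfalso; omega

end Cfsg.Agent.S0848
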