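import Cfsg.Statements.S0849
import Mathlib
import Cfsg.Agent.Lib.CharTheory.Induced
-- import your own Cfsg.Agent.* helpers here

set_option autoImplicit false
open Cfsg

namespace Cfsg.Agent.S0849

/-- Let H be a subgroup of a finite group G and S a subset of H that is mapped to itself under conjugation by H, is disjoint from its conjugate by any element outside H, and is closed under inverses. Let φ be a class function of H vanishing on H away from S, and let u, v be involutions of G. Then the sum of the induced function of φ over all products a * b with a conjugate to u and b conjugate to v equals the index of H times the sum of φ (a * b) over such pairs with a and b in H. -/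
theorem result {G : Type*} [Group G] [Fintype G] (H : Subgroup G) (S : Set G) (hSH : S ⊆ H) (hHS : ∀ h ∈ H, ∀ s ∈ S, h * s * h⁻¹ ∈ S) (hTI : ∀ g : G, g ∉ H → ∀ s ∈ S, g * s * g⁻¹ ∉ S) (hinv : ∀ s ∈ S, s⁻¹ ∈ S) (φ : H → ℂ) (hφ : Cfsg.IsClassFunction H φ) (hφS : ∀ x : H, (x : G) ∉ S → φ x = 0) (u v : G) (hu : orderOf u = 2) (hv : orderOf v = 2) : ∑ᶠ p ∈ {p : G × G | IsConj u p.1 ∧ IsConj v p.2}, Cfsg.indFun H φ (p.1 * p.2) = (H.index : ℂ) * ∑ᶠ p ∈ {p : H × H | IsConj u (p.1 : G) ∧ IsConj v (p.2 : G)}, φ (p.1 * p.2) := by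
  classical
  rw [finsum_mem_eq_finite_toFinset_sum _ (Set.toFinite _), finsum_mem_eq_finite_toFinset_sum _ (Set.toFinite _)]
  set P := (Set.toFinite {p : G × G | IsConj u p.1 ∧ IsConj v p.2}).toFinset with hP
  set Q := (Set.toFinite {p : H × H | IsConj u (p.1 : G) ∧ IsConj v (p.2 : G)}).toFinset with hQ
  have hmemP : ∀ p, p ∈ P ↔ IsConj u p.1 ∧ IsConj v p.2 := fun p => Set.Finite.mem_toFinset _
  have hmemQ : ∀ p, p ∈ Q ↔ IsConj u (p.1 : G) ∧ IsConj v (p.2 : G) := fun p => Set.Finite.mem_toFinset _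
  have hext : ∑ p ∈ P, Cfsg.extendByZero H φ (p.1 * p.2) = ∑ p ∈ Q, φ (p.1 * p.2) := by
    have himg : Q.image (fun p : H × H => ((p.1 : G), (p.2 : G))) ⊆ P := fun p hp => by
      obtain ⟨q, hq, rfl⟩ := Finset.mem_image.mp hp
      exact (hmemP _).mpr ((hmemQ q).mp hq)
    rw [← Finset.sum_subset himg, Finset.sum_image (fun a _ b _ h => Prod.ext (Subtype.ext (congrArg Prod.fst h)) (Subtype.ext (congrArg Prod.snd h)))]
    · exact Finset.sum_congr rfl fun p _ => by
        rw [← Subgroup.coe_mul]; exact CfsgLib.CharTheory.extendByZero_coe H φ _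
    · rintro ⟨x, y⟩ hp hnot
      obtain ⟨hx, hy⟩ := (hmemP _).mp hp
      by_cases hz : x * y ∈ H
      swap
      · exact CfsgLib.CharTheory.extendByZero_of_not_mem H φ hz
      rw [CfsgLib.CharTheory.extendByZero_of_mem H φ hz]
      refine hφS _ fun hS => hnot ?_
      have hx2 : x * x = 1 := by
        obtain ⟨c, rfl⟩ := isConj_iff.mp hx
        rw [show c * u * c⁻¹ * (c * u * c⁻¹) = c * u ^ 2 * c⁻¹ by rw [pow_two]; group, show u ^ 2 = 1 from hu ▸ pow_orderOf_eq_one u]; group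
      have hy2 : y * y = 1 := by
        obtain ⟨c, rfl⟩ := isConj_iff.mp hy
        rw [show c * v * c⁻¹ * (c * v * c⁻¹) = c * v ^ 2 * c⁻¹ by rw [pow_two]; group, show v ^ 2 = 1 from hv ▸ pow_orderOf_eq_one v]; group
      have hinvx : x * (x * y) * x⁻¹ = (x * y)⁻¹ := by
        rw [mul_inv_rev, ← mul_assoc x x y, hx2, one_mul, inv_eq_of_mul_eq_one_right hy2]
      have hxH : x ∈ H := by
        by_contra hxH
        exact hTI x hxH _ hS (hinvx ▸ hinv _ hS)
      have hyH : y ∈ H := by simpa using H.mul_mem (H.inv_mem hxH) hz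
      exact Finset.mem_image.mpr ⟨(⟨x, hxH⟩, ⟨y, hyH⟩), (hmemQ _).mpr ⟨hx, hy⟩, rfl⟩
  have hconj : ∀ c : G, ∑ p ∈ P, Cfsg.extendByZero H φ (c⁻¹ * (p.1 * p.2) * c) = ∑ p ∈ P, Cfsg.extendByZero H φ (p.1 * p.2) := by
    intro c
    refine Finset.sum_equiv ((MulAut.conj c⁻¹).toEquiv.prodCongr (MulAut.conj c⁻¹).toEquiv) (fun p => ?_) fun p _ => ?_
    · rw [hmemP, hmemP]
      have h1 : ∀ (a b : G), IsConj a b ↔ IsConj a ((MulAut.conj c⁻¹) b) := fun a b =>
        ⟨fun h => h.trans (isConj_iff.mpr ⟨c⁻¹, rfl⟩), fun h => h.trans (isConj_iff.mpr ⟨c⁻¹, rfl⟩ : IsConj b ((MulAut.conj c⁻¹) b)).symm⟩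
      exact and_congr (h1 _ _) (h1 _ _)
    · congr 1
      simp [mul_assoc]
  simp only [Cfsg.indFun]
  rw [← Finset.mul_sum, Finset.sum_comm, Finset.sum_congr rfl fun c _ => hconj c, Finset.sum_const, Finset.card_univ, nsmul_eq_mul, hext,
    ← Nat.card_eq_fintype_card, ← H.card_mul_index, Nat.cast_mul, ← mul_assoc, ← mul_assoc, inv_mul_cancel₀ (Nat.cast_ne_zero.mpr (Nat.card_pos (α := H)).ne'), one_mul]

end Cfsg.Agent.S0849
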