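import Cfsg.Statements.S0850
import Cfsg.Agent.Lib.CharTheory.TI
import Cfsg.Agent.Lib.CharTheory.BrauerSuzuki
-- import your own Cfsg.Agent.* helpers here

set_option autoImplicit false
open Cfsg

namespace Cfsg.Agent.S0850

open CfsgLib.CharTheory

/-- Let K be a subgroup of the finite group G that meets each conjugate by an element outside its normalizer N trivially, is properly contained in N, and contains the centralizer of each of its non-identity elements (a T.I. subgroup with Frobenius normalizer). Then no element of N outside K is conjugate in G to an element of K, and for every class function ϑ of N that vanishes on N away from K and at the identity, the function induced from ϑ to G agrees with ϑ on all of N. -/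
theorem result {G : Type*} [Group G] [Fintype G] (K : Subgroup G) (hTI : ∀ g : G, g ∉ Subgroup.normalizer (K : Set G) → ∀ k ∈ K, g * k * g⁻¹ ∈ K → k = 1) (hlt : K < Subgroup.normalizer (K : Set G)) (hC : ∀ k ∈ K, k ≠ 1 → Subgroup.centralizer ({k} : Set G) ≤ K) : (∀ x ∈ Subgroup.normalizer (K : Set G), x ∉ K → ∀ g : G, g * x * g⁻¹ ∉ K) ∧ ∀ (ϑ : Subgroup.normalizer (K : Set G) → ℂ), Cfsg.IsClassFunction (Subgroup.normalizer (K : Set G)) ϑ → (∀ x : Subgroup.normalizer (K : Set G), (x : G) ∉ K → ϑ x = 0) → ϑ 1 = 0 → ∀ x : Subgroup.normalizer (K : Set G), Cfsg.indFun (Subgroup.normalizer (K : Set G)) ϑ x = ϑ x := by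
    classical
    -- `K` is a Hall subgroup
    have hHall : Nat.Coprime (Nat.card K) K.index := by
      refine Nat.coprime_of_dvd fun q hq hqK hqi => ?_
      have := Fact.mk hq
      obtain ⟨⟨z, hz⟩, hzo⟩ := exists_prime_orderOf_dvd_card' (G := K) q hqK
      rw [Subgroup.orderOf_mk] at hzo
      have hz1 : z ≠ 1 := fun e => by rw [e, orderOf_one] at hzo; exact hq.ne_one hzo.symm
      obtain ⟨S, hS⟩ : ∃ S : Sylow q G, Subgroup.zpowers z ≤ S :=
        (IsPGroup.of_card (n := 1) (by rw [Nat.card_zpowers, hzo, pow_one])).exists_le_sylow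
      have : Nontrivial (S : Subgroup G) :=
        ⟨⟨z, hS (Subgroup.mem_zpowers z)⟩, 1, fun e => hz1 (congrArg Subtype.val e)⟩
      have hnt : Nontrivial (Subgroup.center (S : Subgroup G)) := S.2.center_nontrivial
      obtain ⟨⟨w, hw⟩, hw1⟩ := exists_ne (1 : Subgroup.center (S : Subgroup G))
      have hwS : ∀ s ∈ (S : Subgroup G), s * (w : G) = (w : G) * s := fun s hs =>
        congrArg Subtype.val (Subgroup.mem_center_iff.mp hw ⟨s, hs⟩)
      have hwK : (w : G) ∈ K :=
        hC z hz hz1 (Subgroup.mem_centralizer_singleton_iff.mpr (hwS z (hS (Subgroup.mem_zpowers z))).symm)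
      have hw1' : (w : G) ≠ 1 := fun e => hw1 (Subtype.ext (Subtype.ext e))
      have hSK : (S : Subgroup G) ≤ K := fun s hs =>
        hC (w : G) hwK hw1' (Subgroup.mem_centralizer_singleton_iff.mpr (hwS s hs))
      exact S.not_dvd_index (hqi.trans (Subgroup.index_dvd_of_le hSK))
    have hpart1 : ∀ x ∈ Subgroup.normalizer (K : Set G), x ∉ K → ∀ g : G, g * x * g⁻¹ ∉ K := by
      intro x hx hxK g hg
      apply hxK
      have hxo : orderOf x ∣ Nat.card K := by
        have h := orderOf_dvd_natCard (⟨_, hg⟩ : K)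
        rwa [Subgroup.orderOf_mk, orderOf_conj_self] at h
      let N := Subgroup.normalizer (K : Set G)
      have : (K.subgroupOf N).Normal := Subgroup.normal_in_normalizer
      have hpow : (⟨x, hx⟩ : N) ^ K.relIndex N ∈ K.subgroupOf N := Subgroup.pow_index_mem _ _
      have h2 : (⟨x, hx⟩ : N) ∈ K.subgroupOf N := by
        refine mem_of_pow_mem_of_coprime ?_ hpow
        rw [Subgroup.orderOf_mk]
        exact (hHall.coprime_dvd_left hxo).coprime_dvd_right
          (Subgroup.relIndex_dvd_index_of_le Subgroup.le_normalizer)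
      exact h2
    refine ⟨hpart1, fun ϑ hϑ hϑ0 hϑ1 x => ?_⟩
    by_cases hx : (x : G) ∈ K
    · exact indFun_apply_of_TI _ (K : Set G) hTI hϑ hϑ0 hϑ1 x hx
    · rw [hϑ0 x hx]
      refine (congrArg _ (Finset.sum_eq_zero fun g _ => ?_)).trans (mul_zero _)
      by_cases hg : g⁻¹ * (x : G) * g ∈ Subgroup.normalizer (K : Set G)
      · rw [extendByZero_of_mem _ _ hg]
        refine hϑ0 _ fun h => hpart1 x x.2 hx g⁻¹ ?_
        rw [inv_inv]; exact h
      · rw [extendByZero_of_not_mem _ _ hg]

end Cfsg.Agent.S0850
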