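import Cfsg.Statements.S0852
import Mathlib
import Cfsg.Agent.Lib.CharTheory.FrobKernelTI
import Cfsg.Agent.Lib.CharTheory.Linear
-- import your own Cfsg.Agent.* helpers here

set_option autoImplicit false
open Cfsg

namespace Cfsg.Agent.S0852

/-- Let K be a subgroup of the finite group G that meets each conjugate by an element outside its normalizer N trivially, is properly contained in N, and contains the centralizer of each of its non-identity elements (a T.I. subgroup with Frobenius normalizer). Let S be the set of irreducible characters of N taking at some element of K a value different from their degree, suppose S has at least two members, and let star be a linear isometry on the integer span of S into the generalized characters of G that agrees with induction on the members vanishing at the identity (so S is coherent, with star as the extending isometry). Then an irreducible character ψ of G is of the form star χ or -star χ for some χ in S if and only if ψ is not constant on the non-identity elements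 of K. -/
theorem result {G : Type*} [Group G] [Fintype G] (K : Subgroup G) (hTI : ∀ g : G, g ∉ Subgroup.normalizer (K : Set G) → ∀ k ∈ K, g * k * g⁻¹ ∈ K → k = 1) (hlt : K < Subgroup.normalizer (K : Set G)) (hC : ∀ k ∈ K, k ≠ 1 → Subgroup.centralizer ({k} : Set G) ≤ K) [Fintype ↥(Subgroup.normalizer (K : Set G))] (S : Set (↥(Subgroup.normalizer (K : Set G)) → ℂ)) (hS : S = {χ : ↥(Subgroup.normalizer (K : Set G)) → ℂ | Cfsg.IsIrrCharacter ↥(Subgroup.normalizer (K : Set G)) χ ∧ ∃ k : ↥(Subgroup.normalizer (K : Set G)), (k : G) ∈ K ∧ χ k ≠ χ 1}) (htwo : ∃ χ ∈ S, ∃ ξ ∈ S, χ ≠ ξ) (star : (↥(Subgroup.normalizer (K : Set G)) → ℂ) → (G → ℂ)) (hstar : Cfsg.IsLinearIsometryOn (Cfsg.zspan S) star) (hext : ∀ α ∈ Cfsg.zspanOn S ({1}ᶜ : Set ↥(Subgroup.normalizer (K : Set G))), star α = Cfsg.indFun (Subgroup.normalizer (K : Set G)) α) (ψ : G → ℂ) (hψ : Cfsg.IsIrrCharacter G ψ) : (∃ χ ∈ S, ψ = star χ ∨ ψ = -star χ) ↔ ∃ a ∈ K, ∃ b ∈ K, a ≠ 1 ∧ b ≠ 1 ∧ ψ a ≠ ψ b := by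
  classical
  haveI : (K.subgroupOf (Subgroup.normalizer (K : Set G))).Normal := Subgroup.normal_in_normalizer
  letI : Fintype (K.subgroupOf (Subgroup.normalizer (K : Set G))) := Fintype.ofFinite _
  have hC' : ∀ k ∈ K.subgroupOf (Subgroup.normalizer (K : Set G)), k ≠ 1 → Subgroup.centralizer ({k} : Set (Subgroup.normalizer (K : Set G))) ≤ K.subgroupOf (Subgroup.normalizer (K : Set G)) := by
    intro k hk hk1 g hg
    refine Subgroup.mem_subgroupOf.mpr (hC _ (Subgroup.mem_subgroupOf.mp hk) (fun e => hk1 (Subtype.ext e)) ?_)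
    rw [Subgroup.mem_centralizer_singleton_iff] at hg ⊢
    exact congrArg Subtype.val hg
  have hKL : K.subgroupOf (Subgroup.normalizer (K : Set G)) < ⊤ := lt_top_iff_ne_top.mpr fun e => hlt.not_ge (Subgroup.subgroupOf_eq_top.mp e)
  have hTI' : ∀ g : G, g ∉ (Subgroup.normalizer (K : Set G)) → ∀ t ∈ (Subtype.val '' (K.subgroupOf (Subgroup.normalizer (K : Set G)) : Set (Subgroup.normalizer (K : Set G))) : Set G),
      g * t * g⁻¹ ∈ (Subtype.val '' (K.subgroupOf (Subgroup.normalizer (K : Set G)) : Set (Subgroup.normalizer (K : Set G))) : Set G) → t = 1 := by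
    rintro g hg _ ⟨t, ht, rfl⟩ ⟨s, hs, e⟩
    exact hTI g hg _ (Subgroup.mem_subgroupOf.mp ht) (e ▸ Subgroup.mem_subgroupOf.mp hs)
  have hS' : S = CfsgLib.FrobKernelTI.S (K.subgroupOf (Subgroup.normalizer (K : Set G))) := by
    rw [hS]; ext χ
    simp only [CfsgLib.FrobKernelTI.S, Set.mem_setOf_eq, Subgroup.mem_subgroupOf]
  subst hS'
  rw [CfsgLib.FrobKernelTI.exceptional_iff (Subgroup.normalizer (K : Set G)) (K.subgroupOf (Subgroup.normalizer (K : Set G))) hC' hKL hTI' hstar hext htwo hψ]
  constructor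
  · rintro ⟨a, ha, b, hb, ha1, hb1, hne⟩
    exact ⟨a, Subgroup.mem_subgroupOf.mp ha, b, Subgroup.mem_subgroupOf.mp hb,
      fun e => ha1 (Subtype.ext e), fun e => hb1 (Subtype.ext e), hne⟩
  · rintro ⟨a, ha, b, hb, ha1, hb1, hne⟩
    exact ⟨⟨a, Subgroup.le_normalizer ha⟩, Subgroup.mem_subgroupOf.mpr ha, ⟨b, Subgroup.le_normalizer hb⟩,
      Subgroup.mem_subgroupOf.mpr hb, fun e => ha1 (congrArg Subtype.val e), fun e => hb1 (congrArg Subtype.val e), hne⟩

end Cfsg.Agent.S0852
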