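import Cfsg.Statements.S0857
import Cfsg.Agent.Lib.CharTheory.Clifford
import Cfsg.Agent.Lib.CharTheory.Linear
-- import your own Cfsg.Agent.* helpers here

set_option autoImplicit false
open Cfsg

namespace Cfsg.Agent.S0857

open CfsgLib.CharTheory
open scoped ComplexConjugate

/-- Let L < K be normal subgroups of the finite group G with no normal subgroup of G strictly between them and with K / L abelian (the commutator subgroup of K lies in L). Let ϑ be an irreducible character of K invariant under conjugation by G. Then the restriction of ϑ to L is irreducible; or it equals e times an irreducible character of L with e ^ 2 equal to the index of L in K; or it is the sum of a family of pairwise distinct irreducible characters of L indexed by a set whose size is the index of L in K. -/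
theorem result {G : Type*} [Group G] [Fintype G] (K L : Subgroup G) [hK : K.Normal] [L.Normal] (hLK : L < K) (hchief : ∀ M : Subgroup G, M.Normal → L ≤ M → M ≤ K → M = L ∨ M = K) (hab : ⁅K, K⁆ ≤ L) (ϑ : K → ℂ) (hϑ : Cfsg.IsIrrCharacter K ϑ) (hinv : ∀ (g : G) (n : K), ϑ ⟨g * n * g⁻¹, hK.conj_mem (n : G) n.2 g⟩ = ϑ n) : Cfsg.IsIrrCharacter L (fun x : L => ϑ ⟨(x : G), hLK.le x.2⟩) ∨ (∃ (φ : L → ℂ) (e : ℕ), Cfsg.IsIrrCharacter L φ ∧ (fun x : L => ϑ ⟨(x : G), hLK.le x.2⟩) = (e : ℂ) • φ ∧ e ^ 2 = L.relIndex K) ∨ (∃ F : Finset (L → ℂ), (∀ φ ∈ F, Cfsg.IsIrrCharacter L φ) ∧ F.card = L.relIndex K ∧ (fun x : L => ϑ ⟨(x : G), hLK.le x.2⟩) = ∑ φ ∈ F, φ) := by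
    classical
    have hle : L ≤ K := hLK.le
    let L' := L.subgroupOf K
    have : Fintype L := Fintype.ofFinite L
    have : Fintype K := Fintype.ofFinite K
    have : Fintype L' := Fintype.ofFinite L'
    let eqv : L' ≃* L := Subgroup.subgroupOfEquivOfLe hle
    have hidx : L'.index = L.relIndex K := rfl
    have hres := isCharacter_restrict (isCharacter_of_irr hϑ) L'
    obtain ⟨φ', hφ', hc⟩ := exists_constituent hres (fun h => irr_ne_zero hϑ (congrFun h 1))
    let φ : L → ℂ := fun x => φ' (eqv.symm x)
    have hφ : Cfsg.IsIrrCharacter L φ :=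
      isIrrCharacter_comp_surjective hφ' eqv.symm.toMonoidHom eqv.symm.surjective
    have hinv' : ∀ (g : G) (n : L'), ϑ ⟨g * ((n : K) : G) * g⁻¹, hK.conj_mem _ (n : K).2 g⟩ = ϑ (n : K) :=
      fun g n => hinv g (n : K)
    -- the inertia group is transitive modulo `K`
    let T := inertia L φ
    have hKconj : ∀ (g : G), ∃ k : K, conjNormFun L g φ = conjNormFun L (k : G) φ := by
      intro g
      let ψ : L' → ℂ := fun n => conjNormFun L g φ (eqv n)
      have hψ : Cfsg.IsIrrCharacter L' ψ :=
        isIrrCharacter_comp_surjective (isIrr_conjNormFun L g hφ) eqv.toMonoidHom eqv.surjective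
      have hψc : Cfsg.classInner (fun n : L' => ϑ n) ψ ≠ 0 := by
        have e : Cfsg.classInner (fun n : L' => ϑ n) ψ = Cfsg.classInner (fun n : L' => ϑ n) φ' := by
          simp only [Cfsg.classInner]
          congr 1
          refine Fintype.sum_equiv
            (eqv.toEquiv.trans ((MulAut.conjNormal g : L ≃* L).toEquiv.trans eqv.symm.toEquiv)) _ _ fun n => ?_
          have h1 : φ (MulAut.conjNormal g (eqv n)) = ψ n := by
            simp only [ψ, conjNormFun_eq]
          show ϑ (n : K) * conj (ψ n) = ϑ (eqv.symm (MulAut.conjNormal g (eqv n)) : K) * conj (φ (MulAut.conjNormal g (eqv n)))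
          rw [h1, ← hinv' g n]
          congr 2
        rw [e]; exact hc
      obtain ⟨k, hk⟩ := exists_conj_of_constituents L' hϑ hφ' hψ hc hψc
      refine ⟨k, funext fun x => ?_⟩
      have h1 := congrFun hk (eqv.symm x)
      simp only [ψ, MulEquiv.apply_symm_apply] at h1
      rw [← h1]
      simp only [conjNormFun_eq, φ, Function.comp_apply]
      refine congrArg φ' ?_
      apply eqv.injective
      apply Subtype.ext
      simp [eqv, MulAut.conjNormal_apply, Subgroup.subgroupOfEquivOfLe]
    have hMn : (T ⊓ K).Normal := by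
      refine ⟨fun y hy g => ?_⟩
      obtain ⟨k, hk⟩ := hKconj g
      -- write `g = (g k⁻¹) k` up to the inertia group
      have ht : g * (k : G)⁻¹ ∈ T := by
        show conjNormFun L (g * (k : G)⁻¹) φ = φ
        rw [conjNormFun_mul, hk, conjNormFun_inv]
      have hkey : ∀ (b : K) (y : G), y ∈ T ⊓ K → (b : G) * y * (b : G)⁻¹ ∈ T ⊓ K := by
        intro b y hy
        have hcm : (b : G) * y * (b : G)⁻¹ * y⁻¹ ∈ L := by
          have := hab (Subgroup.commutator_mem_commutator b.2 hy.2)
          rwa [commutatorElement_def] at this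
        have := (T ⊓ K).mul_mem (show (b : G) * y * (b : G)⁻¹ * y⁻¹ ∈ T ⊓ K from
          ⟨le_inertia L (isClassFunction_irr hφ) hcm, hle hcm⟩) hy
        rwa [inv_mul_cancel_right] at this
      have hkeyT : ∀ t ∈ T, ∀ y ∈ T ⊓ K, t * y * t⁻¹ ∈ T ⊓ K := fun t ht y hy =>
        ⟨T.mul_mem (T.mul_mem ht hy.1) (T.inv_mem ht), hK.conj_mem y hy.2 t⟩
      have h1 := hkeyT _ ht _ (hkey k y hy)
      convert h1 using 1
      group
    have hLM : L ≤ T ⊓ K := le_inf (le_inertia L (isClassFunction_irr hφ)) hle
    have hT' : ∀ k : K, k ∈ inertia L' φ' ↔ (k : G) ∈ T := by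
      intro k
      rw [mem_inertia, mem_inertia]
      have hval : ∀ x : L', conjNormFun L (k : G) φ (eqv x) = conjNormFun L' k φ' x := by
        intro x
        simp only [conjNormFun_eq, φ, Function.comp_apply]
        refine congrArg φ' ?_
        apply eqv.injective
        apply Subtype.ext
        simp [eqv, MulAut.conjNormal_apply, Subgroup.subgroupOfEquivOfLe]
      constructor
      · intro h
        funext x
        obtain ⟨x', rfl⟩ := eqv.surjective x
        rw [hval, h]
        simp [φ]
      · intro h
        funext x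
        rw [← hval, h]
        simp [φ]
    have hcliff := clifford L' hϑ hφ' hc
    have hdeg := clifford_degree L' hϑ hφ' hc
    obtain ⟨e, he⟩ := classInner_char_nat hres (isCharacter_of_irr hφ')
    have he0 : (e : ℂ) ≠ 0 := he ▸ hc
    rw [he] at hcliff hdeg
    rcases hchief (T ⊓ K) hMn hLM inf_le_right with hM | hM
    · -- a single orbit of length `|K : L|`
      refine Or.inr (Or.inr ⟨(conjOrbit L' φ').image (fun ψ (x : L) => ψ (eqv.symm x)), ?_, ?_, ?_⟩)
      · intro ψ hψ
        obtain ⟨ψ', hψ', rfl⟩ := Finset.mem_image.mp hψ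
        obtain ⟨k, rfl⟩ := (mem_conjOrbit L').mp hψ'
        exact isIrrCharacter_comp_surjective (isIrr_conjNormFun L' k hφ') eqv.symm.toMonoidHom eqv.symm.surjective
      all_goals
        have hT : inertia L' φ' = L' := by
          refine le_antisymm (fun k hk => ?_) (le_inertia L' (isClassFunction_irr hφ'))
          exact Subgroup.mem_subgroupOf.mpr (hM ▸ (⟨(hT' k).mp hk, k.2⟩ : (k : G) ∈ T ⊓ K))
        have hinj : Function.Injective (fun (ψ : L' → ℂ) (x : L) => ψ (eqv.symm x)) := fun a b h =>
          funext fun x => by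
            have := congrFun h (eqv x)
            simpa using this
      · rw [Finset.card_image_of_injective _ hinj, ← hidx]
        have h1 := congrFun hcliff 1
        simp only [Pi.smul_apply, Finset.sum_apply, smul_eq_mul, OneMemClass.coe_one] at h1
        rw [Finset.sum_congr rfl fun ψ hψ => show ψ 1 = φ' 1 by
          obtain ⟨k, rfl⟩ := (mem_conjOrbit L').mp hψ
          exact conjNormFun_apply_one L' k φ', Finset.sum_const, nsmul_eq_mul] at h1
        rw [hdeg] at h1
        have h2 : (((conjOrbit L' φ').card : ℕ) : ℂ) = ((inertia L' φ').index : ℂ) :=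
          mul_left_cancel₀ he0 (mul_right_cancel₀ (irr_ne_zero hφ') (by linear_combination -h1))
        rw [hT] at h2
        exact_mod_cast h2
      · have hirr : Cfsg.IsIrrCharacter K (Cfsg.indFun L' φ') := by
          refine irr_of_char_norm_one (isCharacter_indFun L' (isCharacter_of_irr hφ')) ?_
          have h := classInner_indFun_self L' hφ'
          rw [hT] at h
          exact mul_left_cancel₀ (Nat.cast_ne_zero.mpr Nat.card_pos.ne') (h.trans (mul_one _).symm)
        have h1 : Cfsg.classInner (Cfsg.indFun L' φ') ϑ = (e : ℂ) := by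
          rw [frobenius_reciprocity L' φ' (isClassFunction_irr hϑ), ← classInner_comm, he, Complex.conj_natCast]
        have heq : Cfsg.indFun L' φ' = ϑ := by
          by_contra hne
          exact he0 (h1.symm.trans (classInner_irr_ne hirr hϑ hne))
        rw [heq, classInner_irr_self hϑ] at h1
        funext x
        have h2 := congrFun hcliff (eqv.symm x)
        rw [← h1, one_smul] at h2
        rw [Finset.sum_image fun a _ b _ h => hinj h]
        simp only [Finset.sum_apply] at h2 ⊢
        rw [← h2]
        rfl
    · -- invariant constituent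
      have hT : inertia L' φ' = ⊤ := (Subgroup.eq_top_iff' _).mpr fun k =>
        (hT' k).mpr (hM.symm ▸ k.2 : (k : G) ∈ T ⊓ K).1
      have hres' : (fun n : L' => ϑ n) = (e : ℂ) • φ' := by
        rw [← he]
        exact clifford_invariant L' hϑ hφ' hc fun k => (mem_inertia L').mp (hT ▸ Subgroup.mem_top k)
      have hresL : ∀ x : L, ϑ ⟨(x : G), hle x.2⟩ = (e : ℂ) * φ x := fun x => by
        have := congrFun hres' (eqv.symm x)
        simp only [Pi.smul_apply, smul_eq_mul] at this
        exact this
      let M₂ := L ⊔ Subgroup.closure {y : G | ∃ h : y ∈ K, ϑ ⟨y, h⟩ ≠ 0}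
      have hM₂n : M₂.Normal := by
        have hcn : (Subgroup.closure {y : G | ∃ h : y ∈ K, ϑ ⟨y, h⟩ ≠ 0}).Normal := by
          refine ⟨fun y hy g => ?_⟩
          have hmap : (Subgroup.closure {y : G | ∃ h : y ∈ K, ϑ ⟨y, h⟩ ≠ 0}).map (MulAut.conj g).toMonoidHom ≤
              Subgroup.closure {y : G | ∃ h : y ∈ K, ϑ ⟨y, h⟩ ≠ 0} := by
            rw [MonoidHom.map_closure]
            refine Subgroup.closure_mono ?_
            rintro _ ⟨w, ⟨hw, hne⟩, rfl⟩
            exact ⟨hK.conj_mem w hw g, by
              show ϑ ⟨g * w * g⁻¹, hK.conj_mem w hw g⟩ ≠ 0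
              rw [hinv g ⟨w, hw⟩]; exact hne⟩
          exact hmap ⟨y, hy, rfl⟩
        exact Subgroup.sup_normal _ _
      have hM₂K : M₂ ≤ K := sup_le hle ((Subgroup.closure_le _).mpr fun y ⟨h, _⟩ => h)
      have hn0 : (Nat.card L' : ℂ) ≠ 0 := Nat.cast_ne_zero.mpr Nat.card_pos.ne'
      rcases hchief M₂ hM₂n le_sup_left hM₂K with h2 | h2
      · refine Or.inr (Or.inl ⟨φ, e, hφ, funext fun x => by rw [hresL]; rfl, ?_⟩)
        have hvan : ∀ k : K, k ∉ L' → ϑ k = 0 := fun k hk => by
          by_contra hne
          exact hk (Subgroup.mem_subgroupOf.mpr (h2 ▸ ((le_sup_right : _ ≤ M₂)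
            (Subgroup.subset_closure (show (k : G) ∈ {y : G | ∃ h : y ∈ K, ϑ ⟨y, h⟩ ≠ 0} from ⟨k.2, hne⟩)))))
        have h3 := classInner_irr_self hϑ
        simp only [Cfsg.classInner] at h3
        rw [← Finset.sum_filter_add_sum_filter_not Finset.univ (fun k : K => k ∈ L'),
          Finset.sum_eq_zero (s := Finset.univ.filter fun k : K => k ∉ L')
            (fun k hk => by rw [hvan k (Finset.mem_filter.mp hk).2, zero_mul]), add_zero,
          Finset.sum_subtype (Finset.univ.filter fun k : K => k ∈ L') (p := fun k => k ∈ L') (by simp)] at h3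
        have h4 : Cfsg.classInner (fun n : L' => ϑ n) (fun n : L' => ϑ n) = (e : ℂ) * e := by
          rw [hres', classInner_smul_left, classInner_smul_right, classInner_irr_self hφ', Complex.conj_natCast,
            mul_one]
        simp only [Cfsg.classInner] at h4
        rw [inv_mul_eq_iff_eq_mul₀ hn0] at h4
        rw [h4, inv_mul_eq_one₀ (Nat.cast_ne_zero.mpr Nat.card_pos.ne')] at h3
        have h5 : (Nat.card L' * L'.index : ℕ) = Nat.card L' * (e * e) := by
          rw [Subgroup.card_mul_index]; exact_mod_cast h3
        rw [← hidx, sq]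
        exact (Nat.eq_of_mul_eq_mul_left Nat.card_pos h5).symm
      · refine Or.inl ?_
        have hL'n : L'.Normal := inferInstance
        have hab' : ∀ a b : K ⧸ L', a * b = b * a := by
          intro a b
          obtain ⟨a, rfl⟩ := QuotientGroup.mk'_surjective L' a
          obtain ⟨b, rfl⟩ := QuotientGroup.mk'_surjective L' b
          rw [← map_mul, ← map_mul, QuotientGroup.mk'_eq_mk']
          refine ⟨(a * b)⁻¹ * (b * a), ?_, ?_⟩
          · rw [Subgroup.mem_subgroupOf]
            have := hab (Subgroup.commutator_mem_commutator (K.inv_mem b.2) (K.inv_mem a.2))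
            rw [commutatorElement_def] at this
            simpa [mul_assoc] using this
          · group
        letI : CommGroup (K ⧸ L') := { (inferInstance : Group (K ⧸ L')) with mul_comm := hab' }
        let lin : ((K ⧸ L') →* ℂˣ) → (K → ℂ) := fun lam k => (lam (k : K ⧸ L') : ℂ) * ϑ k
        have hlinirr : ∀ lam, Cfsg.IsIrrCharacter K (lin lam) := by
          intro lam
          refine irr_of_char_norm_one (isCharacter_mul (isCharacter_of_irr
            (isIrrCharacter_linear (lam.comp (QuotientGroup.mk' L')))) (isCharacter_of_irr hϑ)) ?_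
          conv_rhs => rw [← classInner_irr_self hϑ]
          simp only [Cfsg.classInner, Pi.mul_apply]
          congr 1
          refine Finset.sum_congr rfl fun k _ => ?_
          have h1 : ((lam.comp (QuotientGroup.mk' L') k : ℂˣ) : ℂ) * conj ((lam.comp (QuotientGroup.mk' L') k : ℂˣ) : ℂ) = 1 := by
            have := char_apply_inv (isCharacter_of_irr (isIrrCharacter_linear (lam.comp (QuotientGroup.mk' L')))) k
            rw [← this, map_inv, ← Units.val_mul, mul_inv_cancel, Units.val_one]
          rw [map_mul]
          simp only [MonoidHom.comp_apply, QuotientGroup.mk'_apply] at h1 ⊢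
          linear_combination (ϑ k * conj (ϑ k)) * h1
        have hlininj : Function.Injective lin := by
          intro l₁ l₂ h
          have hle2 : (M₂.subgroupOf K : Subgroup K) ≤
              MonoidHom.eqLocus (l₁.comp (QuotientGroup.mk' L')) (l₂.comp (QuotientGroup.mk' L')) := by
            intro k hk
            have hgen : M₂ ≤ (MonoidHom.eqLocus (l₁.comp (QuotientGroup.mk' L'))
                (l₂.comp (QuotientGroup.mk' L'))).map K.subtype := by
              refine sup_le (fun y hy => ⟨⟨y, hle hy⟩, ?_, rfl⟩) ((Subgroup.closure_le _).mpr ?_)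
              · show l₁ ((⟨y, hle hy⟩ : K) : K ⧸ L') = l₂ ((⟨y, hle hy⟩ : K) : K ⧸ L')
                rw [show ((⟨y, hle hy⟩ : K) : K ⧸ L') = 1 from (QuotientGroup.eq_one_iff _).mpr hy]
                simp
              · rintro y ⟨hy, hne⟩
                refine ⟨⟨y, hy⟩, ?_, rfl⟩
                have := congrFun h ⟨y, hy⟩
                exact Units.ext (mul_right_cancel₀ hne this)
            obtain ⟨k', hk', hkk⟩ := hgen hk
            exact (Subtype.ext hkk : k' = k) ▸ hk'
          refine MonoidHom.ext fun q => ?_
          obtain ⟨k, rfl⟩ := QuotientGroup.mk'_surjective L' q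
          exact hle2 (show k ∈ M₂.subgroupOf K from h2.symm ▸ k.2)
        have hmult : ∀ lam, Cfsg.classInner (Cfsg.indFun L' φ') (lin lam) = (e : ℂ) := by
          intro lam
          rw [frobenius_reciprocity L' φ' (isClassFunction_irr (hlinirr lam))]
          have : (fun n : L' => lin lam n) = (e : ℂ) • φ' := by
            rw [← hres']
            funext n
            simp only [lin]
            rw [(QuotientGroup.eq_one_iff (n : K)).mpr n.2]
            simp
          rw [this, classInner_smul_right, classInner_irr_self hφ', Complex.conj_natCast, mul_one]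
        have hnorm : Cfsg.classInner (Cfsg.indFun L' φ') (Cfsg.indFun L' φ') = (L'.index : ℂ) := by
          have h := classInner_indFun_self L' hφ'
          rw [hT, Subgroup.card_top, ← Subgroup.card_mul_index L', Nat.cast_mul] at h
          exact mul_left_cancel₀ hn0 h
        have : Finite ((K ⧸ L') →* ℂˣ) :=
          Finite.of_injective (fun l => (⟨lin l, hlinirr l⟩ : Cfsg.IrrCharacter K))
            (fun a b h => hlininj (congrArg Subtype.val h))
        have : Fintype ((K ⧸ L') →* ℂˣ) := Fintype.ofFinite _
        have hcount : Fintype.card ((K ⧸ L') →* ℂˣ) = L'.index := by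
          rw [← Nat.card_eq_fintype_card, CommGroup.card_monoidHom_of_hasEnoughRootsOfUnity]
          rfl
        have he1 : e = 1 := by
          have hchar := isCharacter_indFun L' (isCharacter_of_irr hφ')
          choose c hc' using fun ψ : Cfsg.IrrCharacter K => classInner_char_nat hchar (isCharacter_of_irr ψ.2)
          have hsum : (L'.index : ℕ) = ∑ ψ, c ψ * c ψ := by
            apply Nat.cast_injective (R := ℂ)
            rw [← hnorm, classInner_eq_sum_irr (isClassFunction_char hchar)]
            push_cast
            exact Finset.sum_congr (by ext; simp) fun ψ _ => by rw [hc', ← classInner_comm, hc', Complex.conj_natCast]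
          let j : ((K ⧸ L') →* ℂˣ) ↪ Cfsg.IrrCharacter K :=
            ⟨fun l => ⟨lin l, hlinirr l⟩, fun a b h => hlininj (congrArg Subtype.val h)⟩
          have hge : ∑ l, c (j l) * c (j l) ≤ L'.index := by
            rw [hsum, ← Finset.sum_map Finset.univ j (fun ψ => c ψ * c ψ)]
            exact Finset.sum_le_sum_of_subset (Finset.subset_univ _)
          have hcj : ∀ l, c (j l) = e := fun l => by
            apply Nat.cast_injective (R := ℂ)
            rw [← hc']; exact hmult l
          simp only [hcj, Finset.sum_const, Finset.card_univ, hcount, smul_eq_mul] at hge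
          have hpos : 0 < L'.index := Nat.pos_of_ne_zero Subgroup.index_ne_zero_of_finite
          have : e * e ≤ 1 := Nat.le_of_mul_le_mul_left (by rw [mul_one]; exact hge) hpos
          have : e ≠ 0 := fun h => he0 (by simp [h])
          have := Nat.le_mul_self e
          omega
        subst he1
        rw [show (fun x : L => ϑ ⟨(x : G), hle x.2⟩) = φ from funext fun x => by rw [hresL]; simp]
        exact hφ

end Cfsg.Agent.S0857
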