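import Cfsg.Statements.S0858
import Cfsg.Agent.Lib.CharTheory.RelativeM
-- import your own Cfsg.Agent.* helpers here

set_option autoImplicit false
open Cfsg

namespace Cfsg.Agent.S0858

/-- Let N be a normal subgroup of the finite group G with G / N solvable, and suppose that for every subgroup H containing N and all subgroups L < K between N and H that are normal in H with no subgroup normal in H strictly between them, the index of L in K is not a perfect square. Then every irreducible character χ of G is induced from an irreducible character ψ of some subgroup H containing N such that the restriction of ψ to N is irreducible. -/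
theorem result {G : Type*} [Group G] [Fintype G] (N : Subgroup G) [N.Normal] (hsolv : Group.IsSolvable (G ⧸ N)) (hchief : ∀ (H K L : Subgroup G), N ≤ L → L < K → K ≤ H → (∀ h ∈ H, ∀ k ∈ K, h * k * h⁻¹ ∈ K) → (∀ h ∈ H, ∀ l ∈ L, h * l * h⁻¹ ∈ L) → (∀ M : Subgroup G, L ≤ M → M ≤ K → (∀ h ∈ H, ∀ m ∈ M, h * m * h⁻¹ ∈ M) → M = L ∨ M = K) → ¬ IsSquare (L.relIndex K)) (χ : G → ℂ) (hχ : Cfsg.IsIrrCharacter G χ) : ∃ (H : Subgroup G) (hNH : N ≤ H) (ψ : H → ℂ), Cfsg.IsIrrCharacter H ψ ∧ Cfsg.indFun H ψ = χ ∧ Cfsg.IsIrrCharacter N (fun n : N => ψ ⟨(n : G), hNH n.2⟩) := by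
  classical
  let Good : Finset (Subgroup G) := Finset.univ.filter fun T =>
    N ≤ T ∧ ∃ ψ : T → ℂ, Cfsg.IsIrrCharacter T ψ ∧ Cfsg.indFun T ψ = χ
  have hne : Good.Nonempty := ⟨⊤, by
    simp only [Good, Finset.mem_filter, Finset.mem_univ, true_and]
    exact ⟨le_top, fun x => χ x, CfsgLib.CharTheory.isIrrCharacter_comp_surjective hχ (⊤ : Subgroup G).subtype
      (fun g => ⟨⟨g, Subgroup.mem_top g⟩, rfl⟩),
      CfsgLib.CharTheory.indFun_top (CfsgLib.CharTheory.isClassFunction_irr hχ) fun x => rfl⟩⟩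
  obtain ⟨T, hT, hTmin⟩ := Good.exists_min_image (fun T => Nat.card T) hne
  simp only [Good, Finset.mem_filter, Finset.mem_univ, true_and] at hT hTmin
  obtain ⟨hNT, ψ, hψ, hψχ⟩ := hT
  haveI : Fintype T := Fintype.ofFinite T
  have hsolvT : Group.IsSolvable (T ⧸ N.subgroupOf T) := by
    haveI := hsolv
    refine Group.isSolvable_of_isSolvable_injective (f := QuotientGroup.lift (N.subgroupOf T)
      ((QuotientGroup.mk' N).comp T.subtype) (fun x hx => by
        rw [MonoidHom.mem_ker, MonoidHom.comp_apply, QuotientGroup.mk'_apply,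
          QuotientGroup.eq_one_iff]
        exact hx)) ?_
    rw [injective_iff_map_eq_one]
    intro q hq
    obtain ⟨x, rfl⟩ := QuotientGroup.mk'_surjective _ q
    rw [QuotientGroup.mk'_apply, QuotientGroup.eq_one_iff, Subgroup.mem_subgroupOf]
    rw [QuotientGroup.mk'_apply, QuotientGroup.lift_mk, MonoidHom.comp_apply,
      QuotientGroup.mk'_apply, QuotientGroup.eq_one_iff] at hq
    exact hq
  have hns : ∀ K L : Subgroup T, K.Normal → L.Normal → N.subgroupOf T ≤ K → K < L →
      (∀ M : Subgroup T, M.Normal → K ≤ M → M ≤ L → M = K ∨ M = L) → ¬ IsSquare (K.relIndex L) := by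
    intro K L hK hL hNK hKL hmin
    have h := hchief T (L.map T.subtype) (K.map T.subtype)
      (fun n hn => ⟨⟨n, hNT hn⟩, hNK (Subgroup.mem_subgroupOf.2 hn), rfl⟩)
      (lt_of_le_of_ne (Subgroup.map_mono hKL.le) fun e =>
        hKL.ne (Subgroup.map_injective T.subtype_injective e))
      (Subgroup.map_subtype_le L)
      (by rintro t ht _ ⟨k, hk, rfl⟩; exact ⟨⟨t, ht⟩ * k * ⟨t, ht⟩⁻¹, hL.conj_mem k hk _, rfl⟩)
      (by rintro t ht _ ⟨k, hk, rfl⟩; exact ⟨⟨t, ht⟩ * k * ⟨t, ht⟩⁻¹, hK.conj_mem k hk _, rfl⟩)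
      (fun M h1 h2 h3 => by
        have hMT : M ≤ T := h2.trans (Subgroup.map_subtype_le L)
        have hn : (M.subgroupOf T).Normal := ⟨fun m hm t => by
          rw [Subgroup.mem_subgroupOf] at hm ⊢
          exact h3 t t.2 m hm⟩
        have hback : (M.subgroupOf T).map T.subtype = M := Subgroup.map_subgroupOf_eq_of_le hMT
        rcases hmin (M.subgroupOf T) hn
          (fun k hk => h1 ⟨k, hk, rfl⟩)
          (fun m hm => by
            obtain ⟨l, hl, hle⟩ := h2 hm
            rwa [← T.subtype_injective hle]) with e | e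
        · exact Or.inl (by rw [← hback, e])
        · exact Or.inr (by rw [← hback, e]))
    rwa [Subgroup.relIndex_map_map_of_injective K L T.subtype_injective] at h
  rcases CfsgLib.CharTheory.RelativeM.descend (N.subgroupOf T) hsolvT hns hψ with
    ⟨M, hMn, θ, hNM, hθ, hc, hne'⟩ | hirr
  · exfalso
    haveI := hMn
    haveI : Fintype M := Fintype.ofFinite M
    set T' := CfsgLib.CharTheory.inertia M θ with hT'
    haveI : Fintype T' := Fintype.ofFinite T'
    obtain ⟨ξ, hξ, -, hξψ⟩ := CfsgLib.CharTheory.exists_clifford_pre M hθ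
      (CfsgLib.CharTheory.le_inertia M (CfsgLib.CharTheory.isClassFunction_irr hθ)) hT' hψ hc
    set T'' := T'.map T.subtype with hT''
    have hle : T'' ≤ T := Subgroup.map_subtype_le _
    have e : T''.subgroupOf T = T' :=
      Subgroup.comap_map_eq_self_of_injective T.subtype_injective T'
    have hmem : ∀ x : T'', (⟨(x : G), hle x.2⟩ : T) ∈ T' := fun x => by
      rw [← e]; exact Subgroup.mem_subgroupOf.2 x.2
    let ζ : T'' → ℂ := fun x => ξ ⟨⟨(x : G), hle x.2⟩, hmem x⟩
    have hζ : Cfsg.IsIrrCharacter T'' ζ := by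
      refine CfsgLib.CharTheory.isIrrCharacter_comp_surjective hξ
        (MonoidHom.mk' (fun x : T'' => (⟨⟨(x : G), hle x.2⟩, hmem x⟩ : T'))
          (fun a b => rfl)) ?_
      rintro ⟨x, hx⟩
      exact ⟨⟨(x : G), ⟨x, hx, rfl⟩⟩, rfl⟩
    have hind : Cfsg.indFun T'' ζ = χ := by
      rw [← hψχ, ← hξψ, ← CfsgLib.CharTheory.indFun_trans T'' T hle ζ]
      congr 1
      rw [CfsgLib.CharTheory.indFun_congr_subgroup e]
    have := hTmin T'' ⟨fun n hn => ⟨⟨n, hNT hn⟩,
      CfsgLib.CharTheory.le_inertia M (CfsgLib.CharTheory.isClassFunction_irr hθ)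
        (hNM (Subgroup.mem_subgroupOf.2 hn)), rfl⟩, ζ, hζ, hind⟩
    apply hne'
    apply Subgroup.eq_top_of_le_card
    rw [Subgroup.card_map_of_injective T.subtype_injective] at this
    exact this
  · exact ⟨T, hNT, ψ, hψ, hψχ, CfsgLib.CharTheory.isIrrCharacter_comp_surjective hirr
      (Subgroup.subgroupOfEquivOfLe hNT).symm.toMonoidHom (Subgroup.subgroupOfEquivOfLe hNT).symm.surjective⟩

end Cfsg.Agent.S0858
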