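import Cfsg.Statements.S0859
import Cfsg.Agent.Lib.CharTheory.MonomialASylow
-- import your own Cfsg.Agent.* helpers here

set_option autoImplicit false
open Cfsg

namespace Cfsg.Agent.S0859

/-- Let G be a finite solvable group and N a normal subgroup such that for every prime p every Sylow p-subgroup of N is abelian. Suppose every irreducible character of G is induced from an irreducible character of some subgroup containing N whose restriction to N is irreducible. Then every irreducible character of G is induced from a character of degree 1 of some subgroup. -/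
theorem result {G : Type*} [Group G] [Fintype G] [Group.IsSolvable G] (N : Subgroup G) [N.Normal] (hab : ∀ (p : ℕ) [Fact p.Prime] (P : Sylow p N), ∀ a ∈ P, ∀ b ∈ P, a * b = b * a) (hrel : ∀ χ : G → ℂ, Cfsg.IsIrrCharacter G χ → ∃ (H : Subgroup G) (hNH : N ≤ H) (ψ : H → ℂ), Cfsg.IsIrrCharacter H ψ ∧ Cfsg.indFun H ψ = χ ∧ Cfsg.IsIrrCharacter N (fun n : N => ψ ⟨(n : G), hNH n.2⟩)) (χ : G → ℂ) (hχ : Cfsg.IsIrrCharacter G χ) : ∃ (U : Subgroup G) (lam : U → ℂ), Cfsg.IsCharacter U lam ∧ lam 1 = 1 ∧ Cfsg.indFun U lam = χ := by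
  obtain ⟨H, hNH, ψ, hψ, hind, hψN⟩ := hrel χ hχ
  haveI : Fintype H := Fintype.ofFinite H
  haveI : (N.subgroupOf H).Normal := Subgroup.Normal.subgroupOf inferInstance H
  have hA : CfsgLib.CharTheory.MonomialASylow.ASyl (N.subgroupOf H) := by
    intro p hp P hP hPp a ha b hb
    have hp' : IsPGroup p ((P.map H.subtype).subgroupOf N) :=
      ((hPp.map H.subtype).comap_of_injective N.subtype N.subtype_injective)
    obtain ⟨Q, hQ⟩ := hp'.exists_le_sylow
    have hmem : ∀ x : H, x ∈ P → (x : G) ∈ N := fun x hx => hP hx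
    have := hab p Q ⟨(a : G), hmem a ha⟩ (hQ ⟨a, ha, rfl⟩) ⟨(b : G), hmem b hb⟩ (hQ ⟨b, hb, rfl⟩)
    exact Subtype.ext (congrArg Subtype.val this :)
  have hirr : Cfsg.IsIrrCharacter (N.subgroupOf H) (fun x : N.subgroupOf H => ψ x) :=
    CfsgLib.CharTheory.isIrrCharacter_comp_surjective hψN
      (Subgroup.subgroupOfEquivOfLe hNH).toMonoidHom (Subgroup.subgroupOfEquivOfLe hNH).surjective
  have hm := CfsgLib.CharTheory.isMonomialChar_indFun
    (CfsgLib.CharTheory.MonomialASylow.monomial _ H rfl (N.subgroupOf H) hA ψ hψ hirr)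
  rw [hind] at hm
  obtain ⟨U, lam, hU⟩ := hm
  exact ⟨U, fun u => (lam u : ℂ), CfsgLib.CharTheory.isCharacter_of_irr
    (CfsgLib.CharTheory.isIrrCharacter_linear lam), by simp, hU.symm⟩

end Cfsg.Agent.S0859
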