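import Cfsg.Statements.S0861
import Cfsg.Agent.Lib.CharTheory.Galois
import Cfsg.Agent.Lib.CharTheory.Degree
import Cfsg.Agent.Lib.CharTheory.Clifford
import Cfsg.Prelude.Def_Blocks
-- import your own Cfsg.Agent.* helpers here

set_option autoImplicit false
open Cfsg

namespace Cfsg.Agent.S0861

open CfsgLib.CharTheory
open scoped ComplexConjugate

theorem mem_of_pow_coprime {G : Type*} [Group G] {H : Subgroup G} {g : G} {k : ℕ}
    (hk : Nat.Coprime (orderOf g) k) (h : g ^ k ∈ H) : g ∈ H := by
  have hb : (1 : ℤ) = (orderOf g : ℤ) * Nat.gcdA (orderOf g) k + (k : ℤ) * Nat.gcdB (orderOf g) k := by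
    rw [← Nat.gcd_eq_gcd_ab, hk.gcd_eq_one, Nat.cast_one]
  rw [← zpow_one g, hb, zpow_add, zpow_mul, zpow_natCast, pow_orderOf_eq_one, one_zpow, one_mul,
    zpow_mul, zpow_natCast]
  exact H.zpow_mem h _

/-- Let P be a normal abelian Sylow p-subgroup of the finite group G and suppose some element g of P has centralizer exactly P. Then the number of irreducible characters of G is at most the order of P, and if equality holds then G / P is abelian (the commutator subgroup lies in P). -/
theorem result {G : Type*} [Group G] [Finite G] (p : ℕ) [Fact p.Prime] (P : Sylow p G) [(P : Subgroup G).Normal] (hab : ∀ a ∈ P, ∀ b ∈ P, a * b = b * a) (g : G) (hg : g ∈ P) (hC : Subgroup.centralizer ({g} : Set G) = P) : Nat.card (Cfsg.IrrCharacter G) ≤ Nat.card P ∧ (Nat.card (Cfsg.IrrCharacter G) = Nat.card P → commutator G ≤ P) := by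
    classical
    have := Fintype.ofFinite G
    have hp : p.Prime := Fact.out
    have hGne : Nat.card G ≠ 0 := Nat.card_pos.ne'
    have : NeZero (Nat.card G) := ⟨hGne⟩
    obtain ⟨v, hv⟩ := P.2.exists_card_eq
    have hgv : g ^ p ^ v = 1 := by
      rw [← hv]
      exact congrArg Subtype.val (pow_card_eq_one' (x := (⟨g, hg⟩ : (P : Subgroup G))))
    -- no character vanishes at a `p`-element when `p` does not divide the degree
    have hnz : ∀ (χ : Cfsg.IrrCharacter G) (h : G), h ^ p ^ v = 1 → (χ : G → ℂ) h ≠ 0 := by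
      intro χ h hh h0
      obtain ⟨m, ρ, hρ, hρc⟩ := χ.2
      obtain ⟨s, hs, hpow⟩ := exists_roots_pow (isCharacter_of_irr χ.2) h
      let T : Multiset Cfsg.AlgInt := s.attach.map fun x => ⟨x.1, by
        exact IsIntegral.of_pow (Nat.card_pos (α := G)) (by rw [hs x.1 x.2]; exact isIntegral_one)⟩
      have hT : ∀ k : ℕ, (((T.map (· ^ k)).sum : Cfsg.AlgInt) : ℂ) = (χ : G → ℂ) (h ^ k) := fun k => by
        rw [hpow k]
        show algebraMap Cfsg.AlgInt ℂ _ = _
        rw [map_multiset_sum, Multiset.map_map, Multiset.map_map]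
        conv_rhs => rw [← Multiset.attach_map_val s, Multiset.map_map]
        exact congrArg _ (Multiset.map_congr rfl fun x _ => by simp)
      have hnu : ¬ IsUnit ((p : ℕ) : Cfsg.AlgInt) := by
        intro hu
        obtain ⟨z, hz⟩ := hu.exists_right_inv
        have hz' : (p : ℂ) * (z : ℂ) = 1 := by exact_mod_cast congrArg Subtype.val hz
        have hz2 : (z : ℂ) = (((p : ℚ)⁻¹ : ℚ) : ℂ) := by
          push_cast
          exact eq_inv_of_mul_eq_one_right hz'
        obtain ⟨k, hk⟩ := exists_int_of_isIntegral_ratCast (hz2 ▸ z.2)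
        have hk' : (p : ℚ) * k = 1 := by rw [← hk]; exact mul_inv_cancel₀ (Nat.cast_ne_zero.mpr hp.ne_zero)
        have hk'' : (p : ℤ) * k = 1 := by exact_mod_cast hk'
        exact hp.ne_one (Nat.dvd_one.mp (Int.natCast_dvd_natCast.mp ⟨k, hk''.symm⟩))
      have : CharP (Cfsg.AlgInt ⧸ Ideal.span {((p : ℕ) : Cfsg.AlgInt)}) p := CharP.quotient _ p hnu
      let π := Ideal.Quotient.mk (Ideal.span {((p : ℕ) : Cfsg.AlgInt)})
      have h1 : π (T.map (· ^ p ^ v)).sum = π T.sum ^ p ^ v := by
        rw [map_multiset_sum π T, multiset_sum_pow_char_pow, map_multiset_sum π]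
        simp only [T, Multiset.map_map]
        refine congrArg _ (Multiset.map_congr rfl fun x _ => ?_)
        exact map_pow π _ _
      have hT0 : T.sum = 0 := Subtype.ext (by
        have := hT 1
        simp only [pow_one, Multiset.map_id'] at this
        rw [this]; exact h0)
      have hTd : (T.map (· ^ p ^ v)).sum = ((Module.finrank ℂ (Fin m → ℂ) : ℕ) : Cfsg.AlgInt) :=
        Subtype.ext (by rw [hT, hh, ← hρc, ρ.char_one]; rfl)
      rw [hTd, hT0, map_zero, zero_pow (pow_ne_zero _ hp.ne_zero), map_natCast,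
        CharP.cast_eq_zero_iff _ p] at h1
      exact P.not_dvd_index (h1.trans (degree_dvd_index_of_abelian_normal ρ (P : Subgroup G) hab))
    -- averaging over the algebraic conjugates of `g`
    let x : Cfsg.IrrCharacter G → (ZMod (Nat.card G))ˣ → ℝ := fun χ u =>
      Complex.normSq ((χ : G → ℂ) (g ^ (u : ZMod (Nat.card G)).val))
    have hxp : ∀ χ u, 0 < x χ u := fun χ u => Complex.normSq_pos.mpr (hnz χ _ (by
      rw [← pow_mul, mul_comm, pow_mul, hgv, one_pow]))
    have hprod : ∀ χ, (1 : ℝ) ≤ ∏ u, x χ u := by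
      intro χ
      have hc := isCharacter_of_irr χ.2
      let F : (ZMod (Nat.card G))ˣ → rootField (Nat.card G) := fun u =>
        ⟨_, char_mem_rootField hc (g ^ (u : ZMod (Nat.card G)).val)⟩ *
          ⟨_, char_mem_rootField hc (g ^ (u : ZMod (Nat.card G)).val)⁻¹⟩
      have ha : ((∏ u, F u : rootField (Nat.card G)) : ℂ) = ((∏ u, x χ u : ℝ) : ℂ) := by
        show algebraMap (rootField (Nat.card G)) ℂ _ = _
        rw [map_prod, Complex.ofReal_prod]
        refine Finset.prod_congr rfl fun u _ => ?_
        simp only [F, map_mul]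
        show (χ : G → ℂ) _ * (χ : G → ℂ) _ = _
        rw [char_apply_inv hc, Complex.mul_conj]
      obtain ⟨q, hq⟩ := rat_of_fixed hGne (∏ u, F u) fun σ => by
        obtain ⟨k, hk, hσ⟩ := exists_pow_of_galois_hom hGne σ
        have hF : ∀ u, σ (F u) = (χ : G → ℂ) ((g ^ (u : ZMod (Nat.card G)).val) ^ k) *
            (χ : G → ℂ) (((g ^ (u : ZMod (Nat.card G)).val)⁻¹) ^ k) := fun u => by
          simp only [F, map_mul, galois_apply_char hc _ σ hσ]
        rw [map_prod]
        simp only [hF]
        show _ = algebraMap (rootField (Nat.card G)) ℂ _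
        rw [map_prod]
        refine Fintype.prod_equiv (Equiv.mulRight (ZMod.unitOfCoprime k hk)) _ _ fun u => ?_
        simp only [F, map_mul]
        show _ = (χ : G → ℂ) _ * (χ : G → ℂ) _
        have e : g ^ ((u * ZMod.unitOfCoprime k hk : (ZMod (Nat.card G))ˣ) : ZMod (Nat.card G)).val =
            (g ^ (u : ZMod (Nat.card G)).val) ^ k := by
          rw [← pow_mul, pow_eq_pow_iff_modEq]
          refine Nat.ModEq.of_dvd (orderOf_dvd_natCard g) ?_
          rw [← ZMod.natCast_eq_natCast_iff]
          simp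
        simp only [Equiv.coe_mulRight, e, inv_pow]
      have hint : IsIntegral ℤ (q : ℂ) := by
        rw [← hq]
        show IsIntegral ℤ (algebraMap (rootField (Nat.card G)) ℂ _)
        rw [map_prod]
        refine IsIntegral.prod _ fun u _ => ?_
        simp only [F, map_mul]
        exact (isIntegral_of_char hc _).mul (isIntegral_of_char hc _)
      obtain ⟨k, rfl⟩ := exists_int_of_isIntegral_ratCast hint
      rw [ha, Rat.cast_intCast] at hq
      have hk : ∏ u, x χ u = (k : ℝ) := by exact_mod_cast hq
      have h0 : (0 : ℝ) < k := hk ▸ Finset.prod_pos fun u _ => hxp χ u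
      rw [hk]
      exact_mod_cast (show (0 : ℤ) < k by exact_mod_cast h0)
    have hlog : ∀ χ, 0 ≤ ∑ u, (x χ u - 1) := fun χ =>
      le_trans (by rw [← Real.log_prod fun u _ => (hxp χ u).ne']; exact Real.log_nonneg (hprod χ))
        (Finset.sum_le_sum fun u _ => Real.log_le_sub_one_of_pos (hxp χ u))
    have hcol : ∀ u, ∑ χ, x χ u = (Nat.card (P : Subgroup G) : ℝ) := by
      intro u
      set h := g ^ (u : ZMod (Nat.card G)).val with hh
      have hcent : Subgroup.centralizer ({h} : Set G) = (P : Subgroup G) := by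
        refine le_antisymm ?_ fun y hy => Subgroup.mem_centralizer_singleton_iff.mpr
          (hab y hy h ((P : Subgroup G).pow_mem hg _))
        rw [← hC]
        intro y hy
        have hco : Nat.Coprime (orderOf g) (u : ZMod (Nat.card G)).val :=
          ((ZMod.val_coe_unit_coprime u).symm.coprime_dvd_left (orderOf_dvd_natCard g))
        have hmem : g ∈ Subgroup.centralizer ({y} : Set G) := by
          refine mem_of_pow_coprime ?_ (Subgroup.mem_centralizer_singleton_iff.mpr
            (Subgroup.mem_centralizer_singleton_iff.mp hy).symm)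
          exact hco
        exact Subgroup.mem_centralizer_singleton_iff.mpr (Subgroup.mem_centralizer_singleton_iff.mp hmem).symm
      have h1 := sum_irr_mul_conj h h
      rw [if_pos (IsConj.refl h), hcent] at h1
      have h2 := congrArg Complex.re h1
      rw [Complex.re_sum, Complex.natCast_re] at h2
      rw [← h2]
      refine Finset.sum_congr (by ext; simp) fun χ _ => ?_
      rw [Complex.mul_conj, Complex.ofReal_re]
    let φn := Fintype.card (ZMod (Nat.card G))ˣ
    have hφpos : (0 : ℝ) < φn := Nat.cast_pos.mpr Fintype.card_pos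
    have htot : ∑ χ, ∑ u, (x χ u - 1) =
        (φn : ℝ) * ((Nat.card (P : Subgroup G) : ℝ) - (Nat.card (Cfsg.IrrCharacter G) : ℝ)) := by
      simp only [Finset.sum_sub_distrib, Finset.sum_const, Finset.card_univ, nsmul_eq_mul, mul_one]
      rw [Finset.sum_comm, Finset.sum_congr rfl fun u _ => hcol u, Finset.sum_const, Finset.card_univ,
        nsmul_eq_mul, Nat.card_eq_fintype_card (α := Cfsg.IrrCharacter G)]
      ring
    refine ⟨?_, fun heq => ?_⟩
    · have := (Finset.sum_nonneg fun χ _ => hlog χ).trans_eq htot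
      have h2 := nonneg_of_mul_nonneg_right this hφpos
      exact_mod_cast sub_nonneg.mp h2
    · rw [heq, sub_self, mul_zero] at htot
      have hx1 : ∀ χ u, x χ u = 1 := by
        intro χ u
        by_contra hne
        have h0 := (Finset.sum_eq_zero_iff_of_nonneg fun χ _ => hlog χ).mp htot χ (Finset.mem_univ χ)
        have hl : ∑ u, Real.log (x χ u) < ∑ u, (x χ u - 1) :=
          Finset.sum_lt_sum (fun u _ => Real.log_le_sub_one_of_pos (hxp χ u))
            ⟨u, Finset.mem_univ u, Real.log_lt_sub_one_of_pos (hxp χ u) hne⟩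
        rw [h0, ← Real.log_prod fun u _ => (hxp χ u).ne'] at hl
        linarith [Real.log_nonneg (hprod χ)]
      -- all characters of the quotient are linear
      have hlin : ∀ a b : G ⧸ (P : Subgroup G), a * b = b * a := by
        refine commutative_iff_degree_one.mpr fun η => ?_
        have hχ : Cfsg.IsIrrCharacter G (fun y : G => (η : G ⧸ (P : Subgroup G) → ℂ) (y : G ⧸ (P : Subgroup G))) :=
          isIrrCharacter_comp_surjective η.2 (QuotientGroup.mk' (P : Subgroup G)) (QuotientGroup.mk'_surjective _)
        obtain ⟨d, hd, hd'⟩ := irr_degree_pos η.2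
        have h1 := hx1 ⟨_, hχ⟩ 1
        simp only [x] at h1
        rw [(QuotientGroup.eq_one_iff _).mpr ((P : Subgroup G).pow_mem hg _), hd', Complex.normSq_natCast] at h1
        have hdd : d * d = 1 := by exact_mod_cast h1
        rw [hd', Nat.eq_one_of_mul_eq_one_right hdd, Nat.cast_one]
      rw [commutator_def, Subgroup.commutator_le]
      intro a _ b _
      rw [← QuotientGroup.eq_one_iff, commutatorElement_def]
      show ((a : G ⧸ (P : Subgroup G)) * b * (a : G ⧸ (P : Subgroup G))⁻¹ * (b : G ⧸ (P : Subgroup G))⁻¹) = 1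
      rw [hlin a b, mul_inv_cancel_right, mul_inv_cancel]

end Cfsg.Agent.S0861
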