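import Cfsg.Statements.S0864
import Cfsg.Agent.Lib.CharTheory
import Cfsg.Agent.Lib.CharTheory.ExtCriteria
-- import your own Cfsg.Agent.* helpers here

set_option autoImplicit false
open Cfsg

namespace Cfsg.Agent.S0864

open CfsgLib.CharTheory
open scoped ComplexConjugate

/-- Let N be a normal subgroup of the finite group G and λ a character of N of degree 1 invariant under conjugation by G. Suppose that for every prime p dividing the order of λ (in the group of functions under pointwise multiplication) there is a subgroup H containing N, of index prime to p and with the index of N in H a power of p, together with a character of H of degree 1 restricting to λ. Then λ is the restriction of a character of G of degree 1. -/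
theorem result {G : Type*} [Group G] [Finite G] (N : Subgroup G) [hN : N.Normal] (lam : N → ℂ) (hlam : Cfsg.IsCharacter N lam ∧ lam 1 = 1) (hinv : ∀ (g : G) (n : N), lam ⟨g * n * g⁻¹, hN.conj_mem (n : G) n.2 g⟩ = lam n) (hsyl : ∀ p : ℕ, p.Prime → p ∣ orderOf lam → ∃ (H : Subgroup G) (hNH : N ≤ H) (ν : H → ℂ), Nat.Coprime H.index p ∧ (∃ k : ℕ, N.relIndex H = p ^ k) ∧ Cfsg.IsCharacter H ν ∧ ν 1 = 1 ∧ ∀ n : N, ν ⟨(n : G), hNH n.2⟩ = lam n) : ∃ μ : G → ℂ, Cfsg.IsCharacter G μ ∧ μ 1 = 1 ∧ ∀ n : N, μ n = lam n := by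
  obtain ⟨f, hf⟩ := exists_hom_of_degree_one hlam.1 hlam.2
  subst hf
  have hinv' : ∀ (g : G) (x : N), f (MulAut.conjNormal g x) = f x := fun g x => Units.ext (by
    rw [show MulAut.conjNormal g x = (⟨g * x * g⁻¹, hN.conj_mem (x : G) x.2 g⟩ : N) from
      Subtype.ext (MulAut.conjNormal_apply g x)]
    exact hinv g x)
  obtain ⟨t, ht⟩ := exists_hom_extending_of_local f hinv' fun p hp hdvd => by
    obtain ⟨H, hNH, ν, hidx, -, hν, hν1, hres⟩ := hsyl p hp (by rwa [orderOf_homFun])
    obtain ⟨g, rfl⟩ := exists_hom_of_degree_one hν hν1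
    exact ⟨H, hNH, g, hp.coprime_iff_not_dvd.mp hidx.symm, fun n => Units.ext (hres n)⟩
  exact ⟨fun g => (t g : ℂ), isCharacter_of_irr (isIrrCharacter_linear t), by simp,
    fun n => congrArg Units.val (ht n)⟩

end Cfsg.Agent.S0864
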