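import Cfsg.Statements.S0865
import Cfsg.Agent.Lib.CharTheory
import Cfsg.Agent.Lib.CharTheory.ExtCriteria
-- import your own Cfsg.Agent.* helpers here

set_option autoImplicit false
open Cfsg

namespace Cfsg.Agent.S0865

open CfsgLib.CharTheory
open scoped ComplexConjugate

/-- Let N be a normal subgroup of the finite group G and λ a character of N of degree 1, invariant under conjugation by G, whose order (under pointwise multiplication) is coprime to the index of N. Then there is a character μ of G of degree 1 restricting to λ with the same order as λ, and μ is the only degree-1 character of G restricting to λ whose order is coprime to the index of N. -/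
theorem result {G : Type*} [Group G] [Finite G] (N : Subgroup G) [hN : N.Normal] (lam : N → ℂ) (hlam : Cfsg.IsCharacter N lam ∧ lam 1 = 1) (hinv : ∀ (g : G) (n : N), lam ⟨g * n * g⁻¹, hN.conj_mem (n : G) n.2 g⟩ = lam n) (hcop : Nat.Coprime N.index (orderOf lam)) : ∃ μ : G → ℂ, (Cfsg.IsCharacter G μ ∧ μ 1 = 1 ∧ (∀ n : N, μ n = lam n) ∧ orderOf μ = orderOf lam) ∧ ∀ μ' : G → ℂ, Cfsg.IsCharacter G μ' ∧ μ' 1 = 1 → (∀ n : N, μ' n = lam n) → Nat.Coprime N.index (orderOf μ') → μ' = μ := by
  obtain ⟨f, hf⟩ := exists_hom_of_degree_one hlam.1 hlam.2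
  subst hf
  rw [orderOf_homFun] at hcop
  have hinv' : ∀ (g : G) (x : N), f (MulAut.conjNormal g x) = f x := fun g x => Units.ext (by
    rw [show MulAut.conjNormal g x = (⟨g * x * g⁻¹, hN.conj_mem (x : G) x.2 g⟩ : N) from
      Subtype.ext (MulAut.conjNormal_apply g x)]
    exact hinv g x)
  obtain ⟨μ, hμ, hord, huniq⟩ := exists_hom_extending_coprime f hinv' hcop
  refine ⟨fun g => (μ g : ℂ), ⟨isCharacter_of_irr (isIrrCharacter_linear μ), by simp,
    fun n => congrArg Units.val (hμ n), by rw [orderOf_homFun, orderOf_homFun, hord]⟩, ?_⟩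
  rintro μ' ⟨hc, hc1⟩ hres hcop'
  obtain ⟨g, rfl⟩ := exists_hom_of_degree_one hc hc1
  rw [orderOf_homFun] at hcop'
  rw [huniq g (fun n => Units.ext (hres n)) hcop']

end Cfsg.Agent.S0865
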