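import Cfsg.Statements.S0868
import Cfsg.Agent.Lib.CharTheory
import Cfsg.Agent.Lib.CharTheory.ExtCriteria
-- import your own Cfsg.Agent.* helpers here

set_option autoImplicit false
open scoped ComplexConjugate
open Cfsg

namespace Cfsg.Agent.S0868

open CfsgLib.CharTheory
open scoped ComplexConjugate

/-- Let N be a normal subgroup of the finite group G, χ an irreducible character of G whose restriction ϑ to N is irreducible, and ψ an irreducible character of G. Define η on G by η g = (1 / order of N) * Σ over n in N of ψ (n * g) * conj (χ (n * g)). Then: if the restriction of ψ to N has nonzero inner product with ϑ, η is an irreducible character of G; if that inner product is zero, η vanishes identically; and if ψ = χ then η is identically 1. -/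
theorem result {G : Type*} [Group G] [Fintype G] (N : Subgroup G) [N.Normal] [Fintype N] (χ : G → ℂ) (hχ : Cfsg.IsIrrCharacter G χ) (hχN : Cfsg.IsIrrCharacter N (fun n : N => χ n)) (ψ : G → ℂ) (hψ : Cfsg.IsIrrCharacter G ψ) (η : G → ℂ) (hη : η = fun g => (Nat.card N : ℂ)⁻¹ * ∑ n : N, ψ ((n : G) * g) * conj (χ ((n : G) * g))) : (Cfsg.classInner (fun n : N => ψ n) (fun n : N => χ n) ≠ 0 → Cfsg.IsIrrCharacter G η) ∧ (Cfsg.classInner (fun n : N => ψ n) (fun n : N => χ n) = 0 → η = 0) ∧ (ψ = χ → η = fun _ => 1) := by
  have havg : η = cosetAvg N (ψ * fun g => conj (χ g)) := hη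
  have hchar : Cfsg.IsCharacter G η := havg ▸ isCharacter_cosetAvg N
    (isCharacter_mul (isCharacter_of_irr hψ) (isCharacter_conj (isCharacter_of_irr hχ)))
  refine ⟨fun h => ?_, fun h => ?_, fun h => ?_⟩
  · obtain ⟨β, hβ, hk, e⟩ := (gallagher N (isCharacter_of_irr hχ) hχN).2.2 ψ hψ h
    have e2 : η = β := by
      rw [havg, e]
      funext g
      have h1 := congrFun (cosetAvg_mul_conj N hχ hχN) g
      simp only [cosetAvg, Pi.mul_apply] at h1 ⊢
      simp only [apply_mul_of_kernel N (isCharacter_of_irr hβ) hk, mul_assoc, ← Finset.mul_sum]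
      rw [mul_left_comm, h1, mul_one]
    rw [e2]; exact hβ
  · refine eq_zero_of_degree_zero hchar ?_
    rw [hη, ← h]
    simp [Cfsg.classInner]
  · rw [havg, h, cosetAvg_mul_conj N hχ hχN]

end Cfsg.Agent.S0868
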