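import Cfsg.Statements.S0869
import Cfsg.Agent.Lib.CharTheory.Brauer
-- import your own Cfsg.Agent.* helpers here

set_option autoImplicit false
open Cfsg

namespace Cfsg.Agent.S0869

/-- Let S be a nonempty finite type and R an additive subgroup of the integer-valued functions on S that is closed under pointwise multiplication. If the constant function 1 is not in R, then there exist a point x of S and a prime p such that p divides f x for every f in R. -/
theorem result {S : Type*} [Finite S] [Nonempty S] (R : AddSubgroup (S → ℤ)) (hmul : ∀ f ∈ R, ∀ g ∈ R, f * g ∈ R) (h1 : (1 : S → ℤ) ∉ R) : ∃ (x : S) (p : ℕ), p.Prime ∧ ∀ f ∈ R, (p : ℤ) ∣ f x := by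
    classical
    by_contra hcon
    push Not at hcon
    have hone : ∀ x : S, ∃ f ∈ R, f x = 1 := by
      intro x
      let ev : AddSubgroup ℤ := R.map (Pi.evalAddMonoidHom (fun _ : S => ℤ) x)
      obtain ⟨a, ha⟩ := Int.subgroup_cyclic ev
      have hev : ∀ f ∈ R, a ∣ f x := by
        intro f hf
        have h2 : f x ∈ ev := ⟨f, hf, rfl⟩
        rw [ha, AddSubgroup.mem_closure_singleton] at h2
        obtain ⟨i, hi⟩ := h2
        exact ⟨i, by rw [← hi, smul_eq_mul, mul_comm]⟩
      have hna : a.natAbs = 1 := by
        by_contra hna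
        obtain ⟨p, hp, hpa⟩ := Nat.exists_prime_and_dvd hna
        obtain ⟨f, hf, hnd⟩ := hcon x p hp
        exact hnd ((Int.natCast_dvd.mpr hpa).trans (hev f hf))
      have hmem : a ∈ ev := by rw [ha]; exact AddSubgroup.subset_closure (Set.mem_singleton a)
      obtain ⟨f, hf, hfa⟩ := hmem
      change f x = a at hfa
      rcases Int.natAbs_eq a with e | e <;> rw [hna, Nat.cast_one] at e
      · exact ⟨f, hf, hfa.trans e⟩
      · exact ⟨-f, neg_mem hf, by rw [Pi.neg_apply, hfa, e, neg_neg]⟩
    choose F hF hF1 using hone
    have := Fintype.ofFinite S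
    have key : ∀ s : Finset S, (1 - ∏ x ∈ s, (1 - F x)) ∈ R := by
      intro s
      induction s using Finset.induction with
      | empty => simp
      | insert a s ha ih =>
        rw [Finset.prod_insert ha]
        have : 1 - (1 - F a) * ∏ x ∈ s, (1 - F x) =
            (1 - ∏ x ∈ s, (1 - F x)) + F a - F a * (1 - ∏ x ∈ s, (1 - F x)) := by ring
        rw [this]
        exact sub_mem (add_mem ih (hF a)) (hmul _ (hF a) _ ih)
    apply h1
    have hzero : ∏ x : S, (1 - F x) = 0 := by
      funext y
      rw [Finset.prod_apply]
      exact Finset.prod_eq_zero (Finset.mem_univ y) (by simp [hF1])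
    simpa [hzero] using key Finset.univ

end Cfsg.Agent.S0869
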