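import Cfsg.Statements.S0872
import Cfsg.Agent.Lib.CharTheory.Brauer
-- import your own Cfsg.Agent.* helpers here

set_option autoImplicit false
open Cfsg

namespace Cfsg.Agent.S0872

open CfsgLib.CharTheory

/-- For a finite group G and a prime p there are an integer m not divisible by p and a ℤ-linear combination of functions induced from the constant function 1 on subgroups H, each having a cyclic normal subgroup of order prime to p and p-power index in H, that equals the constant function m. -/
theorem result {G : Type*} [Group G] [Fintype G] (p : ℕ) (hp : p.Prime) : ∃ (m : ℤ) (a : Subgroup G → ℤ), ¬ (p : ℤ) ∣ m ∧ (∀ H, a H ≠ 0 → (∃ C : Subgroup G, C ≤ H ∧ H ≤ Subgroup.normalizer (C : Set G) ∧ IsCyclic C ∧ Nat.Coprime (Nat.card C) p ∧ ∃ k : ℕ, C.relIndex H = p ^ k)) ∧ (fun _ : G => (m : ℂ)) = ∑ H : Subgroup G, (a H : ℂ) • Cfsg.indFun H (fun _ => 1) := by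
    classical
    obtain ⟨m, hm, hmem⟩ := solomon (G := G) hp
    suffices ∀ f ∈ AddSubgroup.closure {h : G → ℤ | ∃ H, IsQuasi p H ∧ h = permChar H},
        ∃ a : Subgroup G → ℤ, (∀ H, a H ≠ 0 → IsQuasi p H) ∧
          (fun x : G => (f x : ℂ)) = ∑ H : Subgroup G, (a H : ℂ) • Cfsg.indFun H (fun _ => 1) by
      obtain ⟨a, ha, he⟩ := this _ hmem
      exact ⟨m, a, hm, ha, he⟩
    intro f hf
    induction hf using AddSubgroup.closure_induction with
    | mem f hf =>
      obtain ⟨H, hH, rfl⟩ := hf
      refine ⟨Pi.single H 1, fun K hK => ?_, ?_⟩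
      · by_cases e : K = H
        · exact e ▸ hH
        · simp [e] at hK
      · rw [Finset.sum_eq_single H (fun K _ hK => by simp [hK]) (by simp)]
        funext x
        rw [Pi.single_eq_same, Int.cast_one, one_smul, indFun_one_eq_permChar]
    | zero => exact ⟨0, by simp, by funext x; simp⟩
    | add f g _ _ h h' =>
      obtain ⟨a, ha, he⟩ := h
      obtain ⟨b, hb, he'⟩ := h'
      refine ⟨a + b, fun K hK => ?_, ?_⟩
      · by_cases e : a K = 0
        · exact hb K (fun e' => hK (by simp [e, e']))
        · exact ha K e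
      · rw [show (fun x => ((f + g) x : ℂ)) = (fun x => (f x : ℂ)) + fun x => (g x : ℂ) from
          funext fun x => by simp, he, he', ← Finset.sum_add_distrib]
        exact Finset.sum_congr rfl fun K _ => by rw [Pi.add_apply, Int.cast_add, add_smul]
    | neg f _ h =>
      obtain ⟨a, ha, he⟩ := h
      refine ⟨-a, fun K hK => ha K (fun e => hK (by simp [e])), ?_⟩
      rw [show (fun x => ((-f) x : ℂ)) = -(fun x => (f x : ℂ)) from funext fun x => by simp, he,
        ← Finset.sum_neg_distrib]
      exact Finset.sum_congr rfl fun K _ => by rw [Pi.neg_apply, Int.cast_neg, neg_smul]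

end Cfsg.Agent.S0872
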