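import Cfsg.Statements.S0876
import Cfsg.Agent.Lib.CharTheory.PSection
import Cfsg.Agent.Lib.Blocks.Local
-- import your own Cfsg.Agent.* helpers here

set_option autoImplicit false
open Cfsg

namespace Cfsg.Agent.S0876

open CfsgLib.CharTheory

/-- Let G be a finite group, p a prime and M a maximal ideal of the ring of algebraic integers containing p. Let x, y be elements with p-parts a and b (so a⁻¹ * x and b⁻¹ * y are their p-regular parts). Then a⁻¹ * x and b⁻¹ * y are conjugate in G if and only if, for every irreducible character χ, the difference χ x - χ y lies in the local ideal at M. -/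
theorem result {G : Type*} [Group G] [Finite G] (p : ℕ) (M : Ideal Cfsg.AlgInt) (hM : Cfsg.IsPModular p M) (x y a b : G) (ha : Cfsg.IsPPart p x a) (hb : Cfsg.IsPPart p y b) : IsConj (a⁻¹ * x) (b⁻¹ * y) ↔ ∀ χ : Cfsg.IrrCharacter G, Cfsg.MemLocalIdeal M ((χ : G → ℂ) x - (χ : G → ℂ) y) := by
    classical
    have := Fintype.ofFinite G
    have := hM.2.1
    have := hM.2.1.isPrime
    have hp : p.Prime := hM.1
    letI : Field (Cfsg.AlgInt ⧸ M) := Ideal.Quotient.field M
    have hchar : CharP (Cfsg.AlgInt ⧸ M) p := CfsgLib.Blocks.res_charP hM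
    have := Fact.mk hp
    have hloc : ∀ z : Cfsg.AlgInt, Cfsg.MemLocalIdeal M (z : ℂ) ↔ z ∈ M := by
      intro z
      constructor
      · rintro ⟨u, v, hu, hv, he⟩
        have h1 : u = z * v := Subtype.ext (by
          have := CfsgLib.Blocks.coe_ne_zero hv
          rw [Subalgebra.coe_mul, ← he, div_mul_cancel₀ _ this])
        exact ((hM.2.1.isPrime.mem_or_mem (h1 ▸ hu))).resolve_right hv
      · exact fun hz => ⟨z, 1, hz, CfsgLib.Blocks.one_notMem hM, by simp⟩
    let V : Cfsg.IrrCharacter G → G → Cfsg.AlgInt := fun χ g =>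
      ⟨(χ : G → ℂ) g, isIntegral_of_char (isCharacter_of_irr χ.2) g⟩
    have hiff : ∀ (χ : Cfsg.IrrCharacter G) (g h : G),
        Cfsg.MemLocalIdeal M ((χ : G → ℂ) g - (χ : G → ℂ) h) ↔ V χ g - V χ h ∈ M := fun χ g h => by
      rw [← hloc]; rfl
    -- an element is congruent to its regular part
    have hreg : ∀ (χ : Cfsg.IrrCharacter G) (g c : G), Cfsg.IsPPart p g c → V χ g - V χ (c⁻¹ * g) ∈ M := by
      rintro χ g c ⟨d, rfl, hcd, ⟨i, hi⟩, hd⟩
      rw [inv_mul_cancel_left]
      set C := Subgroup.closure ({c, d} : Set G) with hC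
      have hcC : c ∈ C := Subgroup.subset_closure (Set.mem_insert _ _)
      have hdC : d ∈ C := Subgroup.subset_closure (Set.mem_insert_of_mem _ rfl)
      have hab : ∀ u v : C, u * v = v * u := by
        have hle : C ≤ Subgroup.centralizer ({c, d} : Set G) := by
          rw [hC, Subgroup.closure_le]
          intro u hu
          rw [SetLike.mem_coe, Subgroup.mem_centralizer_iff]
          intro v hv
          rcases hu with rfl | rfl <;> rcases hv with rfl | rfl
          · rfl
          · exact hcd.eq.symm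
          · exact hcd.eq
          · rfl
        have hle2 : C ≤ Subgroup.centralizer (C : Set G) := by
          conv_rhs => rw [hC, Subgroup.centralizer_closure]
          exact hle
        exact fun u v => Subtype.ext (Subgroup.mem_centralizer_iff.mp (hle2 v.2) u u.2)
      have hres := isCharacter_restrict (isCharacter_of_irr χ.2) C
      choose k hk using fun ψ : Cfsg.IrrCharacter C => classInner_char_nat hres (isCharacter_of_irr ψ.2)
      let W : Cfsg.IrrCharacter C → C → Cfsg.AlgInt := fun ψ u =>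
        ⟨(ψ : C → ℂ) u, isIntegral_of_char (isCharacter_of_irr ψ.2) u⟩
      have hexp : ∀ u : C, V χ u = ∑ ψ, (k ψ : Cfsg.AlgInt) * W ψ u := fun u => Subtype.ext (by
        have := congrFun (eq_sum_irr (isClassFunction_char hres)) u
        simp only [V, W, AddSubmonoidClass.coe_finsetSum, Subalgebra.coe_mul]
        rw [this]
        simp [hk])
      have e1 := hexp ⟨c * d, C.mul_mem hcC hdC⟩
      have e2 := hexp ⟨d, hdC⟩
      rw [show V χ (c * d) = _ from e1, show V χ d = _ from e2, ← Finset.sum_sub_distrib]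
      refine M.sum_mem fun ψ _ => ?_
      rw [← mul_sub]
      refine M.mul_mem_left _ ?_
      obtain ⟨φ, hφ⟩ := exists_hom_of_degree_one (isCharacter_of_irr ψ.2) (degree_one_of_commutative hab ψ.2)
      rw [← Ideal.Quotient.eq_zero_iff_mem, map_sub, sub_eq_zero]
      have hmul : W ψ (⟨c, hcC⟩ * ⟨d, hdC⟩) = W ψ ⟨c, hcC⟩ * W ψ ⟨d, hdC⟩ :=
        Subtype.ext (by simp only [W, hφ, Subalgebra.coe_mul, map_mul, Units.val_mul])
      rw [show (⟨c * d, C.mul_mem hcC hdC⟩ : C) = ⟨c, hcC⟩ * ⟨d, hdC⟩ from rfl, hmul, map_mul]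
      have hpow : W ψ ⟨c, hcC⟩ ^ p ^ i = 1 := Subtype.ext (by
        simp only [W, SubmonoidClass.coe_pow, OneMemClass.coe_one, hφ]
        rw [← Units.val_pow_eq_pow_val, ← map_pow,
          show (⟨c, hcC⟩ : C) ^ p ^ i = 1 from Subtype.ext (by simp [← hi, pow_orderOf_eq_one]),
          map_one, Units.val_one])
      have ht : (Ideal.Quotient.mk M (W ψ ⟨c, hcC⟩)) = 1 := by
        have h1 : (Ideal.Quotient.mk M (W ψ ⟨c, hcC⟩) - 1) ^ p ^ i = 0 := by
          rw [sub_pow_char_pow, one_pow, ← map_pow, hpow, map_one, sub_self]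
        exact sub_eq_zero.mp (eq_zero_of_pow_eq_zero h1)
      rw [ht, one_mul]
    constructor
    · intro hconj χ
      rw [hiff]
      have h1 : V χ (a⁻¹ * x) = V χ (b⁻¹ * y) := Subtype.ext (by
        obtain ⟨w, hw⟩ := isConj_iff.mp hconj
        show (χ : G → ℂ) _ = (χ : G → ℂ) _
        rw [← hw]
        exact (isClassFunction_irr χ.2 _ w).symm)
      have h2 : V χ x - V χ y = (V χ x - V χ (a⁻¹ * x)) - (V χ y - V χ (b⁻¹ * y)) := by
        rw [h1]; ring
      rw [h2]
      exact M.sub_mem (hreg χ x a ha) (hreg χ y b hb)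
    · intro hall
      by_contra hnc
      obtain ⟨n, hn, hn'⟩ : ∃ n, Nat.card G = p ^ (Nat.card G).factorization p * n ∧ ¬ p ∣ n :=
        ⟨_, (Nat.ordProj_mul_ordCompl_eq_self _ p).symm, Nat.not_dvd_ordCompl hp Nat.card_pos.ne'⟩
      set m := p ^ (Nat.card G).factorization p with hm
      have hcop : Nat.Coprime m n := (hp.coprime_iff_not_dvd.mpr hn').pow_left _
      obtain ⟨xd, hxd, hxc, ⟨i, hi⟩, hxo⟩ := ha
      obtain ⟨yd, hyd, hyc, ⟨j, hj⟩, hyo⟩ := hb
      have hxd' : a⁻¹ * x = xd := by rw [← hxd, inv_mul_cancel_left]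
      have hyd' : b⁻¹ * y = yd := by rw [← hyd, inv_mul_cancel_left]
      have hpo : ∀ (w : G) (l : ℕ), orderOf w = p ^ l → Nat.Coprime (orderOf w) n := fun w l h => by
        rw [h]; exact (hp.coprime_iff_not_dvd.mpr hn').pow_left _
      have hpn : ∀ w : G, ¬ p ∣ orderOf w → Nat.Coprime (orderOf w) m := fun w h =>
        ((hp.coprime_iff_not_dvd.mpr h).symm).pow_right _
      let ϑ : G → ℂ := fun z => if InSection m n xd z then (n : ℂ) else 0
      have hint := fun χ : Cfsg.IrrCharacter G => isIntegral_classInner_section hn hcop xd (ϑ := ϑ)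
        (fun z hz => if_pos hz) (fun z hz => if_neg hz) χ.2
      have hcl : Cfsg.IsClassFunction G ϑ := by
        intro z k
        by_cases h : InSection m n xd z
        · simp [ϑ, if_pos h, if_pos (inSection_conj h k)]
        · have h' : ¬ InSection m n xd (k * z * k⁻¹) := fun h' =>
            h (by simpa [mul_assoc] using inSection_conj h' k⁻¹)
          simp [ϑ, if_neg h, if_neg h']
      have hx1 : InSection m n xd x :=
        ⟨xd, IsConj.refl _, a, hxd.symm, hxc, hpo a i hi, hpn xd hxo⟩
      have hy0 : ¬ InSection m n xd y := by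
        rintro ⟨v, hv, u, hyu, hc, hu, hvo⟩
        have := part_unique hn hcop hyc hc (hyd.trans hyu) (hpo b j hj) (hpn yd hyo) hu hvo
        exact hnc (by rw [hxd', hyd', this]; exact hv.symm)
      have hsum : (n : Cfsg.AlgInt) = ∑ χ : Cfsg.IrrCharacter G,
          (⟨Cfsg.classInner ϑ (χ : G → ℂ), hint χ⟩ : Cfsg.AlgInt) * (V χ x - V χ y) := by
        apply Subtype.ext
        simp only [AddSubmonoidClass.coe_finsetSum, Subalgebra.coe_mul, SubringClass.coe_natCast,
          AddSubgroupClass.coe_sub, V, mul_sub, Finset.sum_sub_distrib]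
        have ex := congrFun (eq_sum_irr hcl) x
        have ey := congrFun (eq_sum_irr hcl) y
        simp only [Finset.sum_apply, Pi.smul_apply, smul_eq_mul] at ex ey
        rw [← ex, ← ey]
        simp [ϑ, if_pos hx1, if_neg hy0]
      have hnM : (n : Cfsg.AlgInt) ∈ M := by
        rw [hsum]
        exact M.sum_mem fun χ _ => M.mul_mem_left _ ((hiff χ x y).mp (hall χ))
      rw [← Ideal.Quotient.eq_zero_iff_mem, map_natCast] at hnM
      exact hn' ((CharP.cast_eq_zero_iff _ p n).mp hnM)

end Cfsg.Agent.S0876
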