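import Cfsg.Statements.S0878
import Cfsg.Agent.Lib.Perm.Zassenhaus
-- import your own Cfsg.Agent.* helpers here

set_option autoImplicit false
open Cfsg

namespace Cfsg.Agent.S0878

open CfsgLib.Zassenhaus MulAction

/-- Let G be a Zassenhaus group on the finite set Ω, a a point, and let H be the subgroup of the stabilizer of a consisting of the identity and the elements fixing no point other than a (given here as a subgroup of the stabilizer of order one less than the number of points whose non-identity elements fix only a; it is the Frobenius kernel of the stabilizer). Then an element outside the stabilizer of a conjugates no non-identity element of H into H, and the normalizer of H is exactly the stabilizer of a. -/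
theorem result {G Ω : Type*} [Group G] [Finite G] [MulAction G Ω] [Fintype Ω] (hZ : Cfsg.IsZassenhausGroup G Ω) (a : Ω) (H : Subgroup G) (hHa : H ≤ MulAction.stabilizer G a) (hHcard : Nat.card H + 1 = Fintype.card Ω) (hHfix : ∀ u ∈ H, u ≠ 1 → ∀ c : Ω, u • c = c → c = a) : (∀ g : G, g ∉ MulAction.stabilizer G a → ∀ u ∈ H, g * u * g⁻¹ ∈ H → u = 1) ∧ Subgroup.normalizer (H : Set G) = MulAction.stabilizer G a := by
    refine ⟨?_, ?_⟩
    · intro g hg u hu hu'
      by_contra hu1
      have hfixg : (g * u * g⁻¹) • (g • a) = g • a := by
        rw [← mul_smul, inv_mul_cancel_right, mul_smul, mem_stabilizer_iff.mp (hHa hu)]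
      have hne1 : g * u * g⁻¹ ≠ 1 := fun e => hu1 (by
        rw [mul_inv_eq_one] at e
        exact mul_left_cancel (e.trans (mul_one g).symm))
      exact hg (mem_stabilizer_iff.mpr (hHfix _ hu' hne1 _ hfixg))
    · apply le_antisymm
      · intro n hn
        have hH : H ≠ ⊥ := fun e => by
          rw [e, Subgroup.card_bot] at hHcard
          have := card_ge_three hZ
          omega
        obtain ⟨u, hu, hu1⟩ := (Subgroup.bot_or_exists_ne_one H).resolve_left hH
        have h' := (Subgroup.mem_normalizer_iff.mp hn u).mp hu
        have hne1 : n * u * n⁻¹ ≠ 1 := fun e => hu1 (by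
          rw [mul_inv_eq_one] at e
          exact mul_left_cancel (e.trans (mul_one n).symm))
        refine mem_stabilizer_iff.mpr (hHfix _ h' hne1 _ ?_)
        rw [← mul_smul, inv_mul_cancel_right, mul_smul, mem_stabilizer_iff.mp (hHa hu)]
      · intro n hn
        have key : ∀ k ∈ stabilizer G a, ∀ x ∈ H, k * x * k⁻¹ ∈ H := by
          intro k hk x hx
          have hmem : k * x * k⁻¹ ∈ stabilizer G a :=
            (stabilizer G a).mul_mem ((stabilizer G a).mul_mem hk (hHa hx)) ((stabilizer G a).inv_mem hk)
          rw [regular_normal hZ a hHa hHcard hHfix hmem]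
          rcases (regular_normal hZ a hHa hHcard hHfix (hHa hx)).mp hx with rfl | h'
          · left; simp
          · right
            intro c hc e
            refine h' (k⁻¹ • c) (fun e' => hc ?_) ?_
            · rw [inv_smul_eq_iff.mp e', mem_stabilizer_iff.mp hk]
            · rw [mul_smul, mul_smul] at e
              rw [eq_inv_smul_iff]
              exact e
        rw [Subgroup.mem_normalizer_iff]
        refine fun x => ⟨key n hn x, fun hx => ?_⟩
        have := key n⁻¹ ((stabilizer G a).inv_mem hn) _ hx
        simpa [mul_assoc] using this

end Cfsg.Agent.S0878
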