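import Cfsg.Statements.S0879
import Cfsg.Agent.Lib.Perm.Zassenhaus
-- import your own Cfsg.Agent.* helpers here

set_option autoImplicit false
open Cfsg

namespace Cfsg.Agent.S0879

open CfsgLib.Zassenhaus MulAction

/-- Let G be a Zassenhaus group on the finite set Ω and E the stabilizer of two distinct points a, b. Then an element outside the normalizer of E conjugates no non-identity element of E into E, and E has index 2 in its normalizer. -/
theorem result {G Ω : Type*} [Group G] [Finite G] [MulAction G Ω] [Fintype Ω] (hZ : Cfsg.IsZassenhausGroup G Ω) {a b : Ω} (hab : a ≠ b) : (∀ g : G, g ∉ Subgroup.normalizer ((MulAction.stabilizer G a ⊓ MulAction.stabilizer G b : Subgroup G) : Set G) → ∀ x ∈ (MulAction.stabilizer G a ⊓ MulAction.stabilizer G b : Subgroup G), g * x * g⁻¹ ∈ (MulAction.stabilizer G a ⊓ MulAction.stabilizer G b : Subgroup G) → x = 1) ∧ ((MulAction.stabilizer G a ⊓ MulAction.stabilizer G b : Subgroup G).subgroupOf (Subgroup.normalizer ((MulAction.stabilizer G a ⊓ MulAction.stabilizer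 G b : Subgroup G) : Set G))).index = 2 := by
    refine ⟨fun g hg x hx hx' => ?_, ?_⟩
    · by_contra hx1
      exact hg ((normalizer_two_point_iff hZ hab g).mpr (pair_of_mem_normalizer hZ hab ⟨x, hx, hx1, hx'⟩))
    · obtain ⟨s, hsa, hsb⟩ := exists_smul_pair hZ hab (Ne.symm hab)
      rw [Subgroup.index_eq_two_iff']
      refine ⟨⟨s, (normalizer_two_point_iff hZ hab s).mpr (Or.inr ⟨hsa, hsb⟩)⟩, fun g => ?_⟩
      simp only [Subgroup.mem_subgroupOf, Subgroup.mem_inf, mem_stabilizer_iff, Subgroup.coe_mul, mul_smul]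
      rcases (normalizer_two_point_iff hZ hab (g : G)).mp g.2 with ⟨ha, hb⟩ | ⟨ha, hb⟩
      · refine Or.inr ⟨⟨ha, hb⟩, fun h => hab ?_⟩
        rw [ha, hsa] at h
        exact h.1.symm
      · refine Or.inl ⟨?_, fun h => hab ?_⟩
        · rw [ha, hb]; exact ⟨hsb, hsa⟩
        · rw [ha] at h; exact h.1.symm

end Cfsg.Agent.S0879
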