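import Cfsg.Statements.S0880
import Mathlib
import Cfsg.Agent.Lib.Perm.ZassenhausOdd
-- import your own Cfsg.Agent.* helpers here

set_option autoImplicit false
open Cfsg
open MulAction CfsgLib.ZassenhausOdd

namespace Cfsg.Agent.S0880

/-- Let G be a finite simple Zassenhaus group on Ω with n points whose two-point stabilizer E has odd order less than n - 2. Then there are two elements of G, each fixing no point of Ω, that are not conjugate. -/
theorem result {G Ω : Type*} [Group G] [Finite G] [MulAction G Ω] [Fintype Ω] (hZ : Cfsg.IsZassenhausGroup G Ω) {a b : Ω} (hab : a ≠ b) [IsSimpleGroup G] (hodd : Odd (Nat.card ↥(MulAction.stabilizer G a ⊓ MulAction.stabilizer G b : Subgroup G))) (hlt : Nat.card ↥(MulAction.stabilizer G a ⊓ MulAction.stabilizer G b : Subgroup G) < Fintype.card Ω - 2) : ∃ x y : G, (∀ c : Ω, x • c ≠ c) ∧ (∀ c : Ω, y • c ≠ c) ∧ ¬ IsConj x y := by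
  classical
  have hoddall : ∀ c d : Ω, c ≠ d → Odd (Nat.card (D (G := G) c d)) := fun c d hcd =>
    card_D_eq hZ hab hcd ▸ hodd
  letI := Fintype.ofFinite G
  set e := Nat.card (D (G := G) a b) with he'
  have he : ∀ c d : Ω, c ≠ d → Nat.card (D (G := G) c d) = e := fun c d hcd => card_D_eq hZ hcd hab
  have h3 := CfsgLib.Zassenhaus.card_ge_three hZ
  obtain ⟨h, hn⟩ : ∃ h, Fintype.card Ω = h + 1 := ⟨Fintype.card Ω - 1, by omega⟩
  have hF := two_mul_card_free hZ hn he
  set F := (Finset.univ : Finset G).filter fun g => fixSet (Ω := Ω) g = ∅ with hFdef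
  have hlt' : e + 1 < h := by omega
  obtain ⟨k, hk⟩ := hodd
  rw [← he'] at *
  have hk1 : 1 ≤ k := by
    by_contra hk0
    exact CfsgLib.Zassenhaus.two_point_ne_bot hZ hab (Subgroup.card_eq_one.mp (show e = 1 by omega))
  have hFpos : 0 < F.card := by
    rw [hk] at hF
    have : h * h + h < (h + 1) * h * (2 * k + 1) + h := by
      nlinarith [Nat.mul_pos (Nat.mul_pos (Nat.succ_pos h) (show 0 < h by omega)) (show 0 < k by omega)]
    rw [pow_two] at hF
    omega
  obtain ⟨x, hx⟩ := Finset.card_pos.mp hFpos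
  have hfree : ∀ g : G, g ∈ F ↔ ∀ c : Ω, g • c ≠ c := fun g => by
    simp [hFdef, fixSet, Finset.filter_eq_empty_iff]
  by_contra hno
  push Not at hno
  have hFeq : F = Finset.univ.filter fun g : G => IsConj x g := by
    ext g
    simp only [Finset.mem_filter, Finset.mem_univ, true_and]
    constructor
    · exact fun hg => hno x g ((hfree x).mp hx) ((hfree g).mp hg)
    · intro hg
      obtain ⟨t, rfl⟩ := isConj_iff.mp hg
      refine (hfree _).mpr fun c hc => (hfree x).mp hx (t⁻¹ • c) ?_
      rw [mul_smul, mul_smul, smul_eq_iff_eq_inv_smul] at hc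
      exact hc
  have hdvd : F.card ∣ (h + 1) * h * e := by
    rw [← card_G hZ hn he (exists_pair hZ), ← CfsgLib.CharTheory.card_isConj_mul_card_centralizer x, hFeq,
      Nat.card_eq_fintype_card (α := {g : G // IsConj x g}), Fintype.card_subtype]
    exact dvd_mul_right _ _
  have hM : h * (h * (2 * k) + (2 * k + 2)) ∣ h * (2 * ((h + 1) * (2 * k + 1))) := by
    have e1 : h * (h * (2 * k) + (2 * k + 2)) = 2 * F.card := by
      rw [hk, pow_two] at hF
      nlinarith
    rw [e1, hk] at *
    rw [show h * (2 * ((h + 1) * (2 * k + 1))) = 2 * ((h + 1) * h * (2 * k + 1)) by ring]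
    exact Nat.mul_dvd_mul_left 2 hdvd
  have hM' := Nat.dvd_of_mul_dvd_mul_left (show 0 < h by omega) hM
  set M := h * (2 * k) + (2 * k + 2) with hMdef
  obtain ⟨i, hi⟩ := hM'
  have hlo : 2 < i ∨ i ≤ 2 := lt_or_ge 2 i
  rcases hlo with hlo | hlo
  · have := Nat.mul_le_mul_left M hlo
    nlinarith
  · interval_cases i <;> nlinarith

end Cfsg.Agent.S0880
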