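import Cfsg.Statements.S0884
import Mathlib
import Cfsg.Agent.Lib.Perm.ZassenhausOdd
-- import your own Cfsg.Agent.* helpers here

set_option autoImplicit false
open Cfsg
open MulAction CfsgLib.ZassenhausOdd

namespace Cfsg.Agent.S0884

/-- Let G be a finite simple Zassenhaus group on Ω with h + 1 points whose two-point stabilizer E has odd order e with 2e < h - 1, and let H be the subgroup of the stabilizer of a consisting of the identity and the elements fixing no point other than a (given here as a subgroup of the stabilizer of order one less than the number of points whose non-identity elements fix only a; it is the Frobenius kernel of the stabilizer). Then at least e conjugacy classes of G contain no element of H. -/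
theorem result {G Ω : Type*} [Group G] [Finite G] [MulAction G Ω] [Fintype Ω] (hZ : Cfsg.IsZassenhausGroup G Ω) {a b : Ω} (hab : a ≠ b) [IsSimpleGroup G] (h e : ℕ) (hh : Fintype.card Ω = h + 1) (he : Nat.card ↥(MulAction.stabilizer G a ⊓ MulAction.stabilizer G b : Subgroup G) = e) (hodd : Odd e) (hlt : 2 * e < h - 1) (H : Subgroup G) (hHa : H ≤ MulAction.stabilizer G a) (hHcard : Nat.card H + 1 = Fintype.card Ω) (hHfix : ∀ u ∈ H, u ≠ 1 → ∀ c : Ω, u • c = c → c = a) : e ≤ Nat.card {C : ConjClasses G // ∀ g : G, ConjClasses.mk g = C → g ∉ H} := by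
  classical
  letI := Fintype.ofFinite G
  letI := Fintype.ofFinite (ConjClasses G)
  have he' : ∀ c d : Ω, c ≠ d → Nat.card (D (G := G) c d) = e := fun c d hcd => (card_D_eq hZ hcd hab).trans he
  have hoddall : ∀ c d : Ω, c ≠ d → Odd (Nat.card (D (G := G) c d)) := fun c d hcd => (he' c d hcd).symm ▸ hodd
  have hf := free_classes (G := G) hZ hoddall hh he' (by omega)
  set F := ((Finset.univ : Finset G).filter fun g => fixSet (Ω := Ω) g = ∅).image ConjClasses.mk with hFdef
  set Dn := (Finset.univ : Finset G).filter fun g => g ∈ D a b ∧ g ≠ 1 with hDn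
  have hDcard : Dn.card + 1 = e := by
    have h1 : (Finset.univ.filter fun g : G => g ∈ D a b) = insert 1 Dn := by
      ext g
      simp only [hDn, Finset.mem_insert, Finset.mem_filter, Finset.mem_univ, true_and]
      by_cases hg : g = 1
      · simp [hg]
      · simp [hg]
    rw [← he, Nat.card_eq_fintype_card, Fintype.card_subtype, h1, Finset.card_insert_of_notMem (by simp [hDn])]
  set E2 := Dn.image ConjClasses.mk with hE2
  obtain ⟨w, hww, hwa, hwb⟩ := exists_swap hZ hoddall hab
  have hinvert := swap_inverts hZ hoddall hab hww hwa hwb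
  have hE2card : Dn.card ≤ 2 * E2.card := by
    refine Finset.card_le_mul_card_image _ _ fun C hC => ?_
    obtain ⟨d, hd, rfl⟩ := Finset.mem_image.mp hC
    obtain ⟨-, hdD, hd1⟩ := Finset.mem_filter.mp hd
    refine (Finset.card_le_card (t := {d, d⁻¹}) fun x hx => ?_).trans Finset.card_le_two
    obtain ⟨hxD, hxd⟩ := Finset.mem_filter.mp hx
    obtain ⟨g, hg⟩ := isConj_iff.mp (ConjClasses.mk_eq_mk_iff_isConj.mp hxd).symm
    have hxD' := (Finset.mem_filter.mp hxD).2.1
    have hcom := fun u hu => D_comm hZ hoddall hab u hu d hdD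
    rcases CfsgLib.Zassenhaus.pair_of_mem_normalizer hZ hab ⟨d, hdD, hd1, hg ▸ hxD'⟩ with ⟨ga, gb⟩ | ⟨ga, gb⟩
    · simp only [Finset.mem_insert, Finset.mem_singleton]
      left
      rw [← hg, hcom g (mem_D.mpr ⟨ga, gb⟩), mul_inv_cancel_right]
    · simp only [Finset.mem_insert, Finset.mem_singleton]
      right
      have hm : w⁻¹ * g ∈ D a b := by
        rw [inv_eq_of_mul_eq_one_right hww]
        exact mem_D.mpr ⟨by rw [mul_smul, ga, hwb], by rw [mul_smul, gb, hwa]⟩
      calc x = w * (w⁻¹ * g * d * (w⁻¹ * g)⁻¹) * w⁻¹ := by rw [← hg]; group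
        _ = d⁻¹ := by rw [hcom _ hm, mul_inv_cancel_right, hinvert d hdD]
  have hdisj : Disjoint E2 F := by
    rw [Finset.disjoint_left]
    intro C hC hC'
    obtain ⟨d, hd, rfl⟩ := Finset.mem_image.mp hC
    obtain ⟨g, hg, hgd⟩ := Finset.mem_image.mp hC'
    obtain ⟨t, rfl⟩ := isConj_iff.mp (ConjClasses.mk_eq_mk_iff_isConj.mp hgd).symm
    have hda := (mem_D.mp (Finset.mem_filter.mp hd).2.1).1
    exact Finset.notMem_empty (t • a) ((Finset.mem_filter.mp hg).2 ▸ mem_fixSet.mpr (by
      rw [mul_smul, mul_smul, inv_smul_smul, hda]))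
  have hsub : ∀ C ∈ E2 ∪ F, ∀ g : G, ConjClasses.mk g = C → g ∉ H := by
    intro C hC g hgC hgH
    have hga : g • a = a := mem_stabilizer_iff.mp (hHa hgH)
    rcases Finset.mem_union.mp hC with hC | hC
    · obtain ⟨d, hd, rfl⟩ := Finset.mem_image.mp hC
      obtain ⟨-, hdD, hd1⟩ := Finset.mem_filter.mp hd
      obtain ⟨t, rfl⟩ := isConj_iff.mp (ConjClasses.mk_eq_mk_iff_isConj.mp hgC).symm
      obtain ⟨hda, hdb⟩ := mem_D.mp hdD
      have hne : t * d * t⁻¹ ≠ 1 := fun e1 => hd1 (by rwa [mul_inv_eq_one, mul_eq_left] at e1)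
      have f1 := hHfix _ hgH hne (t • a) (by rw [mul_smul, mul_smul, inv_smul_smul, hda])
      have f2 := hHfix _ hgH hne (t • b) (by rw [mul_smul, mul_smul, inv_smul_smul, hdb])
      exact hab (MulAction.injective t (f1.trans f2.symm))
    · obtain ⟨x, hx, rfl⟩ := Finset.mem_image.mp hC
      obtain ⟨t, rfl⟩ := isConj_iff.mp (ConjClasses.mk_eq_mk_iff_isConj.mp hgC).symm
      rw [mul_smul, mul_smul, smul_eq_iff_eq_inv_smul] at hga
      exact Finset.notMem_empty (t⁻¹ • a) ((Finset.mem_filter.mp hx).2 ▸ mem_fixSet.mpr hga)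
  have hle : (E2 ∪ F).card ≤ Nat.card {C : ConjClasses G // ∀ g : G, ConjClasses.mk g = C → g ∉ H} := by
    rw [Nat.card_eq_fintype_card, Fintype.card_subtype]
    exact Finset.card_le_card fun C hC => Finset.mem_filter.mpr ⟨Finset.mem_univ _, hsub C hC⟩
  rw [Finset.card_union_of_disjoint hdisj] at hle
  omega

end Cfsg.Agent.S0884
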