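import Cfsg.Statements.S0887
import Cfsg.Agent.Lib.CharTheory
import Cfsg.Agent.Lib.CharTheory.ExtCriteria
-- import your own Cfsg.Agent.* helpers here

set_option autoImplicit false
open Cfsg

namespace Cfsg.Agent.S0887

open CfsgLib.CharTheory
open scoped ComplexConjugate

/-- Let N be a normal subgroup of the finite group G, χ an irreducible character of G and ϑ an irreducible character of N having nonzero inner product with the restriction of χ. If χ 1 = c and ϑ 1 = d as natural numbers, then d divides c and c / d divides the index of N. -/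
theorem result {G : Type*} [Group G] [Fintype G] (N : Subgroup G) [N.Normal] [Fintype N] (χ : G → ℂ) (hχ : Cfsg.IsIrrCharacter G χ) (ϑ : N → ℂ) (hϑ : Cfsg.IsIrrCharacter N ϑ) (hcon : Cfsg.classInner (fun n : N => χ n) ϑ ≠ 0) (c d : ℕ) (hc : χ 1 = c) (hd : ϑ 1 = d) : d ∣ c ∧ c / d ∣ N.index := by
  obtain ⟨e, he, hdvd⟩ := degree_ratio_dvd hχ hϑ hcon
  rw [hc, hd, ← Nat.cast_mul, Nat.cast_inj] at he
  obtain ⟨t, ht, ht1⟩ := irr_degree_pos hϑ
  have hd0 : 0 < d := by
    rw [hd, Nat.cast_inj] at ht1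
    omega
  exact ⟨⟨e, by rw [he, mul_comm]⟩, by rw [he, Nat.mul_div_cancel _ hd0]; exact hdvd⟩

end Cfsg.Agent.S0887
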