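import Cfsg.Statements.S0893
import Cfsg.Agent.Lib.CharTheory.Extraspecial
-- import your own Cfsg.Agent.* helpers here

set_option autoImplicit false
open Cfsg

namespace Cfsg.Agent.S0893

open CfsgLib.CharTheory
open scoped ComplexConjugate

/-- Let P be an extraspecial p-group of order p ^ (2 * n + 1), A an abelian subgroup of order p ^ (n + 1), and λ a character of A of degree 1 that is not identically 1 on the elements of A lying in the centre of P. Then the function induced from λ to P is an irreducible character of P and vanishes at every element outside the centre. -/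
theorem result {P : Type*} [Group P] [Fintype P] (p n : ℕ) [Fact p.Prime] (hP : Cfsg.IsExtraspecial p P) (hcard : Nat.card P = p ^ (2 * n + 1)) (A : Subgroup P) (hab : ∀ a ∈ A, ∀ b ∈ A, a * b = b * a) (hA : Nat.card A = p ^ (n + 1)) (lam : A → ℂ) (hlam : Cfsg.IsCharacter A lam ∧ lam 1 = 1) (hZ : ∃ a : A, (a : P) ∈ Subgroup.center P ∧ lam a ≠ 1) : Cfsg.IsIrrCharacter P (Cfsg.indFun A lam) ∧ ∀ x : P, x ∉ Subgroup.center P → Cfsg.indFun A lam x = 0 := by
    classical
    have hp : p.Prime := Fact.out
    obtain ⟨φ, rfl⟩ := exists_hom_of_degree_one hlam.1 hlam.2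
    obtain ⟨a, haZ, ha⟩ := hZ
    have := Fintype.ofFinite A
    have hφ : Cfsg.IsCharacter A (fun x => (φ x : ℂ)) := hlam.1
    have hidx : A.index = p ^ n := by
      have h := Subgroup.card_mul_index A
      rw [hA, hcard, show 2 * n + 1 = (n + 1) + n by ring, pow_add p (n + 1) n] at h
      exact Nat.eq_of_mul_eq_mul_left (pow_pos hp.pos _) h
    have hind := isCharacter_indFun A hφ
    have hdeg : Cfsg.indFun A (fun x => (φ x : ℂ)) 1 = (p : ℂ) ^ n := by
      rw [indFun_apply_one, hidx, map_one, Units.val_one, mul_one, Nat.cast_pow]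
    obtain ⟨χ, hχ, hc⟩ := exists_constituent hind (fun h => by
      have := congrFun h 1
      rw [hdeg] at this
      exact pow_ne_zero n (Nat.cast_ne_zero.mpr hp.ne_zero) this)
    have hsub := isCharacter_sub_irr hind hχ hc
    rw [frobenius_reciprocity A _ (isClassFunction_irr hχ)] at hc
    rcases extraspecial_dichotomy hp hP hcard hχ with hk | ⟨hd, hvan⟩
    · exfalso
      have hav : ∀ x : A, χ ((a : P) * x) = χ x := fun x =>
        apply_mul_of_kernel (Subgroup.center P) (isCharacter_of_irr hχ) hk ⟨(a : P), haZ⟩ x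
      have e : Cfsg.classInner (fun x => (φ x : ℂ)) (fun x : A => χ x) =
          (φ a : ℂ) * Cfsg.classInner (fun x => (φ x : ℂ)) (fun x : A => χ x) := by
        simp only [Cfsg.classInner, Finset.mul_sum]
        conv_lhs => rw [← Equiv.sum_comp (Equiv.mulLeft a)]
        refine Finset.sum_congr rfl fun x _ => ?_
        simp only [Equiv.coe_mulLeft, map_mul, Units.val_mul, Subgroup.coe_mul, hav]
        ring
      have h2 : ((φ a : ℂ) - 1) * Cfsg.classInner (fun x => (φ x : ℂ)) (fun x : A => χ x) = 0 := by
        linear_combination -e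
      exact hc ((mul_eq_zero.mp h2).resolve_left (sub_ne_zero.mpr ha))
    · have h0 := eq_zero_of_degree_zero hsub (by rw [Pi.sub_apply, hdeg, hd, sub_self])
      rw [sub_eq_zero.mp h0]
      exact ⟨hχ, hvan⟩

end Cfsg.Agent.S0893
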