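import Cfsg.Statements.S0895
import Cfsg.Agent.Lib.CharTheory
import Cfsg.Agent.Lib.CharTheory.Clifford
import Cfsg.Agent.Lib.CharTheory.FrobeniusSchur
-- import your own Cfsg.Agent.* helpers here

set_option autoImplicit false
open Cfsg

namespace Cfsg.Agent.S0895

open CfsgLib.CharTheory
open scoped ComplexConjugate

/-- Let χ be a real-valued irreducible character of a finite group G whose degree is an odd natural number. Then the average over s in G of χ (s * s) equals 1. -/
theorem result {G : Type*} [Group G] [Fintype G] (χ : G → ℂ) (hχ : Cfsg.IsIrrCharacter G χ) (hreal : ∀ g : G, (χ g).im = 0) (d : ℕ) (hd : χ 1 = d) (hodd : Odd d) : (Nat.card G : ℂ)⁻¹ * ∑ s : G, χ (s * s) = 1 := by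
  obtain ⟨n, ρ, hρ, rfl⟩ := hχ
  have hn : Module.finrank ℂ (Fin n → ℂ) = d := by
    rw [ρ.char_one] at hd; exact_mod_cast hd
  rcases frobenius_schur ρ with ⟨hsq, -⟩ | ⟨ε, -, -, hν, hεodd⟩
  · exfalso
    have h1 := classInner_irr_self (isIrrCharacter_character ρ)
    simp only [Cfsg.classInner] at h1
    rw [Finset.sum_congr rfl fun x _ => by rw [Complex.conj_eq_iff_im.mpr (hreal x)], hsq, mul_zero] at h1
    exact zero_ne_one h1
  · rw [hν, hεodd (hn ▸ hodd), one_mul, inv_mul_cancel₀ (Nat.cast_ne_zero.mpr Nat.card_pos.ne')]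

end Cfsg.Agent.S0895
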