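import Cfsg.Statements.S0897
import Cfsg.Agent.Lib.CharTheory.Dade
import Cfsg.Agent.Lib.CharTheory.ExtCriteria
-- import your own Cfsg.Agent.* helpers here

set_option autoImplicit false
open Cfsg

namespace Cfsg.Agent.S0897

open CfsgLib.CharTheory
open scoped ComplexConjugate

/-- Let N be a normal subgroup of the finite group G with the index of N a power of the prime p, and P a Sylow p-subgroup of G such that P ⊓ N lies in the centre of P and every character of degree 1 of P ⊓ N is the restriction of a character of degree 1 of P. Then every irreducible character of N invariant under conjugation by G is the restriction of an irreducible character of G. -/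
theorem result {G : Type*} [Group G] [Fintype G] (p : ℕ) [Fact p.Prime] (N : Subgroup G) [hN : N.Normal] (hind : ∃ k : ℕ, N.index = p ^ k) (P : Sylow p G) (hcent : ∀ x ∈ (P : Subgroup G) ⊓ N, ∀ y ∈ (P : Subgroup G), x * y = y * x) (hlin : ∀ lam : ↥((P : Subgroup G) ⊓ N) → ℂ, Cfsg.IsCharacter ↥((P : Subgroup G) ⊓ N) lam → lam 1 = 1 → ∃ μ : ↥(P : Subgroup G) → ℂ, Cfsg.IsCharacter ↥(P : Subgroup G) μ ∧ μ 1 = 1 ∧ ∀ x : ↥((P : Subgroup G) ⊓ N), μ ⟨(x : G), x.2.1⟩ = lam x) (ϑ : N → ℂ) (hϑ : Cfsg.IsIrrCharacter N ϑ) (hinv : ∀ (g : G) (n : N), ϑ ⟨g * n * g⁻¹, hN.conj_mem (n : G) n.2 g⟩ = ϑ n) : ∃ χ : G → ℂ, Cfsg.IsIrrCharacter G χ ∧ ∀ n : N, χ n = ϑ n := by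
    classical
    have hp : p.Prime := Fact.out
    obtain ⟨k, hk⟩ := hind
    have := Fintype.ofFinite N
    obtain ⟨E, φ₀, hE, htop, hφ₀, hφinv, m, hpm, hm⟩ := dade_elementary hp N hk hϑ hinv
    have hEnil := isNilpotent_of_elementary hp hE
    obtain ⟨z, hz, hzcop, kz, hkz⟩ := hE
    set Z := Subgroup.zpowers z with hZdef
    have hZc : Z ≤ Subgroup.center E := Subgroup.zpowers_le.mpr hz
    -- `Z` lies in `N`
    have hzN : (z : G) ∈ N := by
      refine mem_of_pow_mem_of_coprime (m := N.index) ?_ (N.pow_index_mem (z : G))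
      rw [Subgroup.orderOf_coe, hk]
      exact hzcop.pow_right k
    -- the `p`-part of `E`
    obtain ⟨R⟩ : Nonempty (Sylow p E) := inferInstance
    have hcompl : Subgroup.IsComplement' Z (R : Subgroup E) := by
      have hndvd : ¬ p ∣ Nat.card Z := by
        rw [Nat.card_zpowers]; exact hp.coprime_iff_not_dvd.mp hzcop.symm
      refine Subgroup.isComplement'_of_coprime ?_ ?_
      · rw [R.card_eq_multiplicity, ← Subgroup.card_mul_index Z, hkz,
          Nat.factorization_mul Nat.card_pos.ne' (pow_ne_zero _ hp.ne_zero), Nat.factorization_pow]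
        simp [hp.factorization_self, ← Nat.card_eq_fintype_card, Nat.factorization_eq_zero_of_not_dvd hndvd]
      · obtain ⟨j, hj⟩ := R.2.exists_card_eq
        rw [hj, Nat.card_zpowers]
        exact hzcop.pow_right j
    -- move the `p`-part into `P`
    let RG : Subgroup G := (R : Subgroup E).map E.subtype
    obtain ⟨P', hP'⟩ := (R.2.map E.subtype).exists_le_sylow
    obtain ⟨g, hg⟩ := MulAction.exists_smul_eq G P P'
    have hRP : ∀ r : (R : Subgroup E), g⁻¹ * ((r : E) : G) * g ∈ (P : Subgroup G) := by
      intro r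
      have h1 : ((r : E) : G) ∈ (P' : Subgroup G) := hP' ⟨(r : E), r.2, rfl⟩
      rw [← hg, Sylow.coe_subgroup_smul] at h1
      simpa using Subgroup.mem_pointwise_smul_iff_inv_smul_mem.mp h1
    -- the elements of `E ⊓ N` are central in `E`
    let toR : (R : Subgroup E) →* (P : Subgroup G) :=
      { toFun := fun r => ⟨g⁻¹ * ((r : E) : G) * g, hRP r⟩
        map_one' := Subtype.ext (by simp)
        map_mul' := fun a b => Subtype.ext (by simp [mul_assoc]) }
    have hsplit : ∀ e : E, ∃ a ∈ Z, ∃ r ∈ (R : Subgroup E), a * r = e := fun e => by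
      obtain ⟨⟨a, r⟩, har⟩ := hcompl.2 e
      exact ⟨a, a.2, r, r.2, har⟩
    have hZN : ∀ a ∈ Z, (a : G) ∈ N := fun a ha => by
      obtain ⟨i, rfl⟩ := Subgroup.mem_zpowers_iff.mp ha
      simpa using N.zpow_mem hzN i
    have hMc : ∀ x : E, (x : G) ∈ N → ∀ e : E, e * x = x * e := by
      intro x hx e
      obtain ⟨a, ha, r, hr, rfl⟩ := hsplit x
      obtain ⟨b, hb, s, hs, rfl⟩ := hsplit e
      have hrN : (r : G) ∈ N := by
        have := N.mul_mem (N.inv_mem (hZN a ha)) hx
        simpa using this
      have hrs : s * r = r * s := by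
        have h1 := hcent (g⁻¹ * (r : G) * g) ⟨hRP ⟨r, hr⟩, hN.conj_mem' _ hrN g⟩ (g⁻¹ * (s : G) * g)
          (hRP ⟨s, hs⟩)
        have h2 : (r : G) * s = (s : G) * r := by
          calc (r : G) * s = g * ((g⁻¹ * (r : G) * g) * (g⁻¹ * (s : G) * g)) * g⁻¹ := by group
            _ = g * ((g⁻¹ * (s : G) * g) * (g⁻¹ * (r : G) * g)) * g⁻¹ := by rw [h1]
            _ = _ := by group
        exact Subtype.ext h2.symm
      have ca : ∀ y : E, y * a = a * y := Subgroup.mem_center_iff.mp (hZc ha)
      have cb : ∀ y : E, y * b = b * y := Subgroup.mem_center_iff.mp (hZc hb)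
      calc b * s * (a * r) = b * (s * a) * r := by group
        _ = b * a * (s * r) := by rw [ca s]; group
        _ = a * b * (r * s) := by rw [ca b, hrs]
        _ = a * (b * r) * s := by group
        _ = a * (r * b) * s := by rw [cb r]
        _ = _ := by group
    have hMab : ∀ x y : ↥(E ⊓ N), x * y = y * x := fun x y => Subtype.ext (by
      have h := hMc ⟨(y : G), y.2.1⟩ y.2.2 ⟨(x : G), x.2.1⟩
      exact congrArg (fun w : E => (w : G)) h)
    have : Fintype ↥(E ⊓ N) := Fintype.ofFinite _
    obtain ⟨φ, rfl⟩ := exists_hom_of_degree_one (isCharacter_of_irr hφ₀)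
      (degree_one_of_commutative hMab hφ₀)
    -- the abelian group `P ⊓ N`
    let A := (P : Subgroup G) ⊓ N
    let RN : Subgroup (R : Subgroup E) := (N.comap (E.subtype.comp (R : Subgroup E).subtype))
    let f : RN →* A :=
      { toFun := fun r => ⟨g⁻¹ * (((r : (R : Subgroup E)) : E) : G) * g,
          hRP _, hN.conj_mem' _ r.2 g⟩
        map_one' := Subtype.ext (by simp)
        map_mul' := fun a b => Subtype.ext (by simp [mul_assoc]) }
    have hf : Function.Injective f := fun a b h => by
      have := congrArg (fun z : A => (z : G)) h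
      simp only [f, MonoidHom.coe_mk, OneHom.coe_mk, mul_left_inj, mul_right_inj] at this
      exact Subtype.ext (Subtype.ext (Subtype.ext this))
    let fφ : RN →* ℂˣ :=
      { toFun := fun r => φ ⟨(((r : (R : Subgroup E)) : E) : G), (((r : (R : Subgroup E)) : E)).2, r.2⟩
        map_one' := by
          rw [← map_one φ]; exact congrArg φ (Subtype.ext (by simp))
        map_mul' := fun a b => by
          rw [← map_mul φ]; exact congrArg φ (Subtype.ext (by simp)) }
    let lam0 : f.range →* ℂˣ := fφ.comp (MonoidHom.ofInjective hf).symm.toMonoidHom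
    letI : CommGroup A := { (inferInstance : Group A) with
      mul_comm := fun a b => Subtype.ext (hcent a a.2 b b.2.1) }
    obtain ⟨lam, hlam⟩ := MonoidHom.restrict_surjective f.range (M := ℂ) lam0
    obtain ⟨μ₀, hμ₀, hμ1, hμ₀e⟩ := hlin (fun a => (lam a : ℂ))
      (isCharacter_of_irr (isIrrCharacter_linear lam)) (by simp)
    obtain ⟨μ, rfl⟩ := exists_hom_of_degree_one hμ₀ hμ1
    have hagree : ∀ (r : (R : Subgroup E)) (hr : ((r : E) : G) ∈ N),
        μ (toR r) = φ ⟨((r : E) : G), (r : E).2, hr⟩ := by
      intro r hr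
      apply Units.ext
      have h1 := hμ₀e (f ⟨r, hr⟩)
      refine h1.trans ?_
      have h2 := DFunLike.congr_fun hlam ⟨f ⟨r, hr⟩, ⟨r, hr⟩, rfl⟩
      have h3 : (MonoidHom.ofInjective hf).symm ⟨f ⟨r, hr⟩, ⟨r, hr⟩, rfl⟩ = ⟨r, hr⟩ := by
        rw [MulEquiv.symm_apply_eq]; rfl
      simp only [lam0, MonoidHom.comp_apply, MulEquiv.toMonoidHom_eq_coe, MonoidHom.coe_coe, h3] at h2
      exact congrArg Units.val h2
    -- the extension to `E`
    have hcomm : ∀ (a : Z) (r : (R : Subgroup E)), Commute (a : E) (r : E) := fun a r =>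
      (Subgroup.mem_center_iff.mp (hZc a.2) (r : E)).symm
    let eqv : Z × (R : Subgroup E) ≃* E :=
      MulEquiv.ofBijective (MonoidHom.noncommCoprod Z.subtype (R : Subgroup E).subtype hcomm) hcompl
    let φZ : Z →* ℂˣ :=
      { toFun := fun a => φ ⟨((a : E) : G), (a : E).2, hZN a a.2⟩
        map_one' := by rw [← map_one φ]; exact congrArg φ (Subtype.ext (by simp))
        map_mul' := fun a b => by rw [← map_mul φ]; exact congrArg φ (Subtype.ext (by simp)) }
    let t : E →* ℂˣ := (MonoidHom.coprod φZ (μ.comp toR)).comp eqv.symm.toMonoidHom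
    have ht : ∀ x : ↥(E ⊓ N), t ⟨(x : G), x.2.1⟩ = φ x := by
      intro x
      obtain ⟨⟨a, r⟩, har⟩ := eqv.surjective (⟨(x : G), x.2.1⟩ : E)
      rw [← har]
      simp only [t, MonoidHom.comp_apply, MulEquiv.toMonoidHom_eq_coe, MonoidHom.coe_coe,
        MulEquiv.symm_apply_apply, MonoidHom.coprod_apply]
      have har' : ((a : E) : G) * ((r : E) : G) = (x : G) := congrArg Subtype.val har
      have hrN : ((r : E) : G) ∈ N := by
        have := N.mul_mem (N.inv_mem (hZN a a.2)) x.2.2
        rwa [← har', inv_mul_cancel_left] at this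
      rw [hagree r hrN]
      change φ _ * φ _ = φ x
      rw [← map_mul]
      exact congrArg φ (Subtype.ext har')
    -- induce and pick a constituent
    have := Fintype.ofFinite E
    have hχE := isCharacter_of_irr (isIrrCharacter_linear t)
    set Φ := Cfsg.indFun E (fun e => (t e : ℂ)) with hΦ
    have hΦc : Cfsg.IsCharacter G Φ := isCharacter_indFun E hχE
    have hres : Cfsg.classInner (fun n : N => Φ n) ϑ = (m : ℂ) := by
      have h1 : ∀ n : N, Φ n = Cfsg.indFun ((E ⊓ N).subgroupOf N)
          (fun x => (φ ⟨((x : N) : G), x.2⟩ : ℂ)) n := by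
        intro n
        simp only [hΦ, Cfsg.indFun]
        have hcN : Nat.card ((E ⊓ N).subgroupOf N) = Nat.card ↥(E ⊓ N) :=
          Nat.card_congr (Subgroup.subgroupOfEquivOfLe inf_le_right).toEquiv
        rw [hcN]
        have hmul : (Nat.card G : ℂ) * Nat.card ↥(E ⊓ N) = Nat.card N * Nat.card E := by
          have h3 : N.relIndex E * Nat.card N = Nat.card G := by
            rw [mul_comm, ← Subgroup.relIndex_sup_right E N, htop, Subgroup.relIndex_top_right,
              Subgroup.card_mul_index]
          have h4 : N.relIndex E * Nat.card ↥(E ⊓ N) = Nat.card E := by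
            rw [mul_comm, ← Subgroup.inf_relIndex_left E N, ← Subgroup.relIndex_bot_left,
              ← Subgroup.relIndex_bot_left]
            exact Subgroup.relIndex_mul_relIndex ⊥ (E ⊓ N) E bot_le inf_le_left
          rw [← Nat.cast_mul, ← Nat.cast_mul, Nat.cast_inj, ← h3, ← h4]
          ring
        -- each coset of `N` contributes equally
        let F : G → ℂ := fun x => Cfsg.extendByZero E (fun e => (t e : ℂ)) (x⁻¹ * (n : G) * x)
        have hFN : ∀ y : N, Cfsg.extendByZero ((E ⊓ N).subgroupOf N)
            (fun x => (φ ⟨((x : N) : G), x.2⟩ : ℂ)) (y⁻¹ * n * y) = F y := by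
          intro y
          simp only [F]
          by_cases hy : (y : G)⁻¹ * (n : G) * (y : G) ∈ E
          · have hy' : y⁻¹ * n * y ∈ (E ⊓ N).subgroupOf N := Subgroup.mem_subgroupOf.mpr ⟨hy, (y⁻¹ * n * y : N).2⟩
            rw [extendByZero_of_mem _ _ hy, extendByZero_of_mem _ _ hy']
            exact congrArg Units.val (ht ⟨_, hy'⟩).symm
          · have hy' : ¬ y⁻¹ * n * y ∈ (E ⊓ N).subgroupOf N := fun h => hy h.1
            rw [extendByZero_of_not_mem _ _ hy, extendByZero_of_not_mem _ _ hy']
        have hFE : ∀ (y : G) (e : E), F (y * e) = F y := by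
          intro y e
          simp only [F]
          rw [show (y * (e : G))⁻¹ * (n : G) * (y * (e : G)) = (e : G)⁻¹ * (y⁻¹ * (n : G) * y) * (e : G) by group]
          by_cases hy : y⁻¹ * (n : G) * y ∈ E
          · rw [extendByZero_of_mem _ _ hy, extendByZero_of_mem _ _
              (E.mul_mem (E.mul_mem (E.inv_mem e.2) hy) e.2)]
            rw [show (⟨(e : G)⁻¹ * (y⁻¹ * (n : G) * y) * (e : G),
              E.mul_mem (E.mul_mem (E.inv_mem e.2) hy) e.2⟩ : E) = e⁻¹ * ⟨_, hy⟩ * e from rfl]
            simp only [map_mul, map_inv]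
            rw [mul_comm _ (t e), mul_inv_cancel_left]
          · rw [extendByZero_of_not_mem _ _ hy, extendByZero_of_not_mem]
            intro h
            refine hy ?_
            have := E.mul_mem (E.mul_mem e.2 h) (E.inv_mem e.2)
            simpa [mul_assoc] using this
        have hsum : (Nat.card ↥(E ⊓ N) : ℂ) * ∑ x : G, F x = (Nat.card E : ℂ) * ∑ y : N, F y := by
          have hfib : ∀ x : G, ∑ ye : N × E, (if (ye.1 : G) * ye.2 = x then (1 : ℂ) else 0) =
              Nat.card ↥(E ⊓ N) := by
            intro x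
            obtain ⟨a, ha, b, hb, rfl⟩ := Subgroup.mem_sup_of_normal_right.mp (htop ▸ Subgroup.mem_top x)
            rw [Finset.sum_boole, Nat.cast_inj, ← Fintype.card_subtype, ← Nat.card_eq_fintype_card]
            refine Nat.card_congr
              { toFun := fun ye => ⟨(ye.1.2 : G) * a⁻¹, ?_, ?_⟩
                invFun := fun m => ⟨(⟨a * b * a⁻¹ * (m : G)⁻¹, N.mul_mem (hN.conj_mem b hb a) (N.inv_mem m.2.2)⟩,
                  ⟨(m : G) * a, E.mul_mem m.2.1 ha⟩), by simp [mul_assoc]⟩
                left_inv := fun ye => ?_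
                right_inv := fun m => Subtype.ext (by simp [mul_assoc]) }
            · exact E.mul_mem ye.1.2.2 (E.inv_mem ha)
            · have h := ye.2
              have e1 : (ye.1.2 : G) * a⁻¹ = (ye.1.1 : G)⁻¹ * (a * b * a⁻¹) := by
                rw [show a * b * a⁻¹ = (ye.1.1 : G) * (ye.1.2 : G) * a⁻¹ from congrArg (· * a⁻¹) h.symm]; group
              rw [e1]
              exact N.mul_mem (N.inv_mem ye.1.1.2) (hN.conj_mem b hb a)
            · apply Subtype.ext
              have h := ye.2
              refine Prod.ext (Subtype.ext ?_) (Subtype.ext (by simp))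
              simp only
              rw [show a * b * a⁻¹ = (ye.1.1 : G) * (ye.1.2 : G) * a⁻¹ from congrArg (· * a⁻¹) h.symm]; group
          calc (Nat.card ↥(E ⊓ N) : ℂ) * ∑ x : G, F x
              = ∑ x : G, ∑ ye : N × E, (if (ye.1 : G) * ye.2 = x then (1 : ℂ) else 0) * F x := by
                rw [Finset.mul_sum]
                exact Finset.sum_congr rfl fun x _ => by rw [← Finset.sum_mul, hfib]
            _ = ∑ ye : N × E, F ((ye.1 : G) * ye.2) := by
                rw [Finset.sum_comm]
                refine Finset.sum_congr rfl fun ye _ => ?_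
                simp [ite_mul]
            _ = _ := by
                rw [Fintype.sum_prod_type, Finset.mul_sum]
                refine Finset.sum_congr rfl fun y _ => ?_
                simp [hFE, Nat.card_eq_fintype_card]
        rw [Finset.sum_congr rfl fun y _ => hFN y]
        have hM0 : (Nat.card ↥(E ⊓ N) : ℂ) ≠ 0 := Nat.cast_ne_zero.mpr Nat.card_pos.ne'
        have hE0 : (Nat.card E : ℂ) ≠ 0 := Nat.cast_ne_zero.mpr Nat.card_pos.ne'
        field_simp
        linear_combination hsum
      rw [show (fun n : N => Φ n) = Cfsg.indFun ((E ⊓ N).subgroupOf N)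
        (fun x => (φ ⟨((x : N) : G), x.2⟩ : ℂ)) from funext h1]
      have := Fintype.ofFinite ((E ⊓ N).subgroupOf N)
      rw [frobenius_reciprocity _ _ (isClassFunction_irr hϑ), ← classInner_comm]
      rw [show Cfsg.classInner (fun x : (E ⊓ N).subgroupOf N => ϑ x)
        (fun x => (φ ⟨((x : N) : G), x.2⟩ : ℂ)) = (m : ℂ) by
          rw [← hm, finsum_eq_sum_of_fintype]
          simp only [Cfsg.classInner]
          rw [Nat.card_congr (Subgroup.subgroupOfEquivOfLe (inf_le_right : E ⊓ N ≤ N)).toEquiv]
          congr 1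
          exact Fintype.sum_equiv (Subgroup.subgroupOfEquivOfLe (inf_le_right : E ⊓ N ≤ N)).toEquiv _ _
            fun x => rfl, Complex.conj_natCast]
    -- some constituent has multiplicity prime to `p`
    obtain ⟨χ, hχ, e, he, hpe⟩ : ∃ χ : G → ℂ, Cfsg.IsIrrCharacter G χ ∧
        ∃ e : ℕ, Cfsg.classInner (fun n : N => χ n) ϑ = e ∧ ¬ p ∣ e := by
      by_contra hcon
      push Not at hcon
      choose c hc using fun χ : Cfsg.IrrCharacter G => classInner_char_nat hΦc (isCharacter_of_irr χ.2)
      choose e he using fun χ : Cfsg.IrrCharacter G =>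
        classInner_char_nat (isCharacter_restrict (isCharacter_of_irr χ.2) N) (isCharacter_of_irr hϑ)
      refine hpm ?_
      have hsum : m = ∑ χ, c χ * e χ := by
        apply Nat.cast_injective (R := ℂ)
        rw [← hres]
        have hdec := eq_sum_irr (isClassFunction_char hΦc)
        rw [show (fun n : N => Φ n) = ∑ χ : Cfsg.IrrCharacter G, (c χ : ℂ) • (fun n : N => (χ : G → ℂ) n) by
          funext n
          conv_lhs => rw [hdec]
          simp [hc], classInner_sum_left]
        push_cast
        exact Finset.sum_congr rfl fun χ _ => by rw [classInner_smul_left, he]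
      rw [hsum]
      exact Finset.dvd_sum fun χ _ => Dvd.dvd.mul_left (hcon χ χ.2 (e χ) (he χ)) _
    have hne : Cfsg.classInner (fun n : N => χ n) ϑ ≠ 0 := by
      rw [he, Nat.cast_ne_zero]
      exact fun h => hpe (h ▸ dvd_zero p)
    have hinv' : ∀ x : G, conjNormFun N x ϑ = ϑ := fun x => funext fun n => hinv x n
    have hres' := clifford_invariant N hχ hϑ hne hinv'
    obtain ⟨e', he', hedvd⟩ := degree_ratio_dvd hχ hϑ hne
    have h1 := congrFun hres' 1
    simp only [Pi.smul_apply, smul_eq_mul, OneMemClass.coe_one, he] at h1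
    have hee : e = e' := by
      rw [he'] at h1
      exact (Nat.cast_inj.mp (mul_right_cancel₀ (irr_ne_zero hϑ) h1)).symm
    subst hee
    rw [hk] at hedvd
    obtain ⟨i, -, hi⟩ := (Nat.dvd_prime_pow hp).mp hedvd
    rcases Nat.eq_zero_or_pos i with rfl | hi0
    · refine ⟨χ, hχ, fun n => ?_⟩
      have := congrFun hres' n
      simpa [he, hi] using this
    · exact absurd (hi ▸ dvd_pow_self p hi0.ne') hpe

end Cfsg.Agent.S0897
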