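import Cfsg.Statements.S0900
import Cfsg.Agent.Lib.CharTheory.Clifford
-- import your own Cfsg.Agent.* helpers here

set_option autoImplicit false
open Cfsg

namespace Cfsg.Agent.S0900

open CfsgLib.CharTheory
open scoped ComplexConjugate

/-- Let N be a normal subgroup of the finite group G, χ an irreducible character of G and ϑ an irreducible character of N having nonzero inner product with the restriction of χ. Consider: (a) the restriction of χ to N is e • ϑ for a natural number e with e ^ 2 equal to the index of N; (b) χ vanishes outside N and ϑ is invariant under conjugation by G; (c) ϑ is invariant and every irreducible character of G having nonzero inner product with the function induced from ϑ equals χ. Then (a) ↔ (b) and (a) ↔ (c). -/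
theorem result {G : Type*} [Group G] [Fintype G] (N : Subgroup G) [hN : N.Normal] [Fintype N] (χ : G → ℂ) (hχ : Cfsg.IsIrrCharacter G χ) (ϑ : N → ℂ) (hϑ : Cfsg.IsIrrCharacter N ϑ) (hcon : Cfsg.classInner (fun n : N => χ n) ϑ ≠ 0) : ((∃ e : ℕ, (fun n : N => χ n) = (e : ℂ) • ϑ ∧ e ^ 2 = N.index) ↔ ((∀ g : G, g ∉ N → χ g = 0) ∧ ∀ (g : G) (n : N), ϑ ⟨g * n * g⁻¹, hN.conj_mem (n : G) n.2 g⟩ = ϑ n)) ∧ ((∃ e : ℕ, (fun n : N => χ n) = (e : ℂ) • ϑ ∧ e ^ 2 = N.index) ↔ (∀ (g : G) (n : N), ϑ ⟨g * n * g⁻¹, hN.conj_mem (n : G) n.2 g⟩ = ϑ n ∧ ∀ ψ : G → ℂ, Cfsg.IsIrrCharacter G ψ → Cfsg.classInner (Cfsg.indFun N ϑ) ψ ≠ 0 → ψ = χ)) := by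
    classical
    obtain ⟨c, hc⟩ := classInner_char_nat (isCharacter_restrict (isCharacter_of_irr hχ) N) (isCharacter_of_irr hϑ)
    have hc0 : (c : ℂ) ≠ 0 := hc ▸ hcon
    have hN0 : (Nat.card N : ℂ) ≠ 0 := Nat.cast_ne_zero.mpr Nat.card_pos.ne'
    have hG0 : (Nat.card G : ℂ) ≠ 0 := Nat.cast_ne_zero.mpr Nat.card_pos.ne'
    have hcard : (Nat.card G : ℂ) = N.index * Nat.card N := by
      rw [← Nat.cast_mul, Subgroup.index_mul_card]
    have hself : ∀ a : ℂ, Cfsg.classInner (a • ϑ) ϑ = a := fun a => by
      rw [classInner_smul_left, classInner_irr_self hϑ, mul_one]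
    have hres : (∀ g : G, ∀ n : N, ϑ ⟨g * n * g⁻¹, hN.conj_mem (n : G) n.2 g⟩ = ϑ n) →
        (fun n : N => χ n) = (c : ℂ) • ϑ := by
      intro hinv
      rw [← hc]
      exact clifford_invariant N hχ hϑ hcon fun g => funext fun n => hinv g n
    have hinv_of : ∀ e : ℕ, (fun n : N => χ n) = (e : ℂ) • ϑ →
        e = c ∧ ∀ g : G, ∀ n : N, ϑ ⟨g * n * g⁻¹, hN.conj_mem (n : G) n.2 g⟩ = ϑ n := by
      intro e he
      have hec : e = c := by
        apply Nat.cast_injective (R := ℂ)
        rw [← hc, he, hself]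
      refine ⟨hec, fun g n => ?_⟩
      subst hec
      have h1 := congrFun he ⟨g * n * g⁻¹, hN.conj_mem (n : G) n.2 g⟩
      have h2 := congrFun he n
      simp only [Pi.smul_apply, smul_eq_mul] at h1 h2
      rw [isClassFunction_irr hχ (n : G) g] at h1
      exact mul_left_cancel₀ hc0 (h1.symm.trans h2)
    -- the norm of the restriction
    let S : ℝ := ∑ g ∈ Finset.univ.filter (fun g => g ∉ N), Complex.normSq (χ g)
    have hnorm : (fun n : N => χ n) = (c : ℂ) • ϑ →
        ((c : ℂ) ^ 2) * Nat.card N + (S : ℂ) = Nat.card G := by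
      intro he
      have h1 := classInner_irr_self hχ
      simp only [Cfsg.classInner] at h1
      rw [inv_mul_eq_one₀ hG0] at h1
      rw [h1, ← Finset.sum_filter_add_sum_filter_not Finset.univ (fun g : G => g ∈ N)
        (fun g : G => χ g * conj (χ g))]
      congr 1
      · rw [Finset.sum_subtype (Finset.univ.filter fun g : G => g ∈ N) (p := fun g => g ∈ N) (by simp)]
        have h2 : Cfsg.classInner (fun n : N => χ n) (fun n : N => χ n) = (c : ℂ) * c := by
          rw [he, classInner_smul_left, classInner_smul_right, classInner_irr_self hϑ, Complex.conj_natCast,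
            mul_one]
        simp only [Cfsg.classInner] at h2
        rw [inv_mul_eq_iff_eq_mul₀ hN0] at h2
        rw [h2, sq, mul_comm]
      · simp only [S, Complex.ofReal_sum, Complex.mul_conj]
    have hvan_iff : (∀ g : G, g ∉ N → χ g = 0) ↔ S = 0 := by
      constructor
      · exact fun h => Finset.sum_eq_zero fun g hg => by simp [h g (Finset.mem_filter.mp hg).2]
      · intro h g hg
        exact Complex.normSq_eq_zero.mp ((Finset.sum_eq_zero_iff_of_nonneg
          fun g _ => Complex.normSq_nonneg (χ g)).mp h g (by simp [hg]))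
    have hA : (∃ e : ℕ, (fun n : N => χ n) = (e : ℂ) • ϑ ∧ e ^ 2 = N.index) ↔
        ((∀ g : G, g ∉ N → χ g = 0) ∧ ∀ (g : G) (n : N), ϑ ⟨g * n * g⁻¹, hN.conj_mem (n : G) n.2 g⟩ = ϑ n) := by
      constructor
      · rintro ⟨e, he, he2⟩
        obtain ⟨rfl, hinv⟩ := hinv_of e he
        refine ⟨hvan_iff.mpr ?_, hinv⟩
        have h := hnorm he
        rw [hcard, ← he2, Nat.cast_pow] at h
        exact_mod_cast (add_left_cancel (h.trans (add_zero _).symm) : (S : ℂ) = 0)
      · rintro ⟨hvan, hinv⟩
        refine ⟨c, hres hinv, ?_⟩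
        have h := hnorm (hres hinv)
        rw [hvan_iff.mp hvan, Complex.ofReal_zero, add_zero, hcard] at h
        exact_mod_cast mul_right_cancel₀ hN0 h
    refine ⟨hA, ?_⟩
    have hind : ∀ ψ : G → ℂ, Cfsg.IsIrrCharacter G ψ →
        Cfsg.classInner (Cfsg.indFun N ϑ) ψ = conj (Cfsg.classInner (fun n : N => ψ n) ϑ) := fun ψ hψ => by
      rw [frobenius_reciprocity N ϑ (isClassFunction_irr hψ), classInner_comm]
    constructor
    · intro h
      obtain ⟨e, he, he2⟩ := h
      obtain ⟨rfl, hinv⟩ := hinv_of e he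
      intro g n
      refine ⟨hinv g n, fun ψ hψ hne => ?_⟩
      by_contra hψχ
      refine hne ?_
      -- orthogonality: both vanish off `N` up to the restriction
      have hdec : Cfsg.classInner ψ χ = 0 := classInner_irr_ne hψ hχ hψχ
      have hvan := (hA.mp ⟨e, he, he2⟩).1
      simp only [Cfsg.classInner] at hdec
      rw [← Finset.sum_filter_add_sum_filter_not Finset.univ (fun g : G => g ∈ N),
        Finset.sum_eq_zero (s := Finset.univ.filter fun g : G => g ∉ N)
          (fun g hg => by rw [hvan g (Finset.mem_filter.mp hg).2, map_zero, mul_zero]), add_zero,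
        Finset.sum_subtype (Finset.univ.filter fun g : G => g ∈ N) (p := fun g => g ∈ N) (by simp)] at hdec
      have h2 : (Nat.card N : ℂ) * Cfsg.classInner (fun n : N => ψ n) (fun n : N => χ n) = 0 := by
        simp only [Cfsg.classInner]
        rw [mul_inv_cancel_left₀ hN0]
        exact (mul_eq_zero.mp hdec).resolve_left (inv_ne_zero hG0)
      rw [he, classInner_smul_right, Complex.conj_natCast] at h2
      rw [hind ψ hψ, (mul_eq_zero.mp ((mul_eq_zero.mp h2).resolve_left hN0)).resolve_left hc0, map_zero]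
    · intro h
      have hinv := fun g n => (h g n).1
      have huniq := (h 1 1).2
      refine ⟨c, hres hinv, ?_⟩
      have hexp := eq_sum_irr (isClassFunction_char (isCharacter_indFun N (isCharacter_of_irr hϑ)))
      rw [Finset.sum_eq_single (⟨χ, hχ⟩ : Cfsg.IrrCharacter G) (fun ψ _ hne => by
        have h0 : Cfsg.classInner (Cfsg.indFun N ϑ) (ψ : G → ℂ) = 0 := by
          by_contra h0
          exact hne (Subtype.ext (huniq ψ ψ.2 h0))
        rw [h0, zero_smul]) (by simp), hind χ hχ, hc, Complex.conj_natCast] at hexp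
      have h1 := congrFun hexp 1
      rw [indFun_apply_one, Pi.smul_apply, smul_eq_mul] at h1
      have h2 := congrFun (hres hinv) 1
      simp only [Pi.smul_apply, smul_eq_mul, OneMemClass.coe_one] at h2
      simp only [h2, ← mul_assoc] at h1
      apply Nat.cast_injective (R := ℂ)
      rw [Nat.cast_pow, sq]
      exact (mul_right_cancel₀ (irr_ne_zero hϑ) h1).symm

end Cfsg.Agent.S0900
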