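import Cfsg.Statements.S0901
import Cfsg.Agent.Lib.Blocks.BlockAlgebra

set_option autoImplicit false
open Cfsg CfsgLib.CharTheory CfsgLib.Blocks Polynomial
open scoped ComplexConjugate

set_option linter.unusedVariables false

namespace Cfsg.Agent.S0901

/-- Let M be a maximal ideal of the ring of algebraic integers containing the prime p, and let U be the set of complex roots of unity of order prime to p. Then reduction modulo M is injective on U, and every algebraic integer not in M is congruent modulo M to an element of U (so U maps bijectively onto the nonzero residues). -/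
theorem result (p : ℕ) [Fact p.Prime] (M : Ideal Cfsg.AlgInt) (hM : Cfsg.IsPModular p M) : (∀ ε₁ ε₂ : Cfsg.AlgInt, (∃ m : ℕ, ¬ p ∣ m ∧ (ε₁ : ℂ) ^ m = 1) → (∃ m : ℕ, ¬ p ∣ m ∧ (ε₂ : ℂ) ^ m = 1) → ε₁ - ε₂ ∈ M → ε₁ = ε₂) ∧ (∀ a : Cfsg.AlgInt, a ∉ M → ∃ ε : Cfsg.AlgInt, (∃ m : ℕ, ¬ p ∣ m ∧ (ε : ℂ) ^ m = 1) ∧ a - ε ∈ M) := by
  classical
  have hp := hM.1
  letI := ((Ideal.Quotient.maximal_ideal_iff_isField_quotient M).1 hM.2.1).toField
  haveI := res_charP hM
  have inj : ∀ ε₁ ε₂ : Cfsg.AlgInt, (∃ m : ℕ, ¬ p ∣ m ∧ (ε₁ : ℂ) ^ m = 1) →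
      (∃ m : ℕ, ¬ p ∣ m ∧ (ε₂ : ℂ) ^ m = 1) → ε₁ - ε₂ ∈ M → ε₁ = ε₂ := by
    rintro ε₁ ε₂ ⟨m₁, hm₁, h₁⟩ ⟨m₂, hm₂, h₂⟩ hd
    have e1 : ε₁ ^ (m₁ * m₂) = 1 := by
      rw [pow_mul]
      have : ε₁ ^ m₁ = 1 := Subtype.ext h₁
      rw [this, one_pow]
    have e2 : ε₂ ^ (m₁ * m₂) = 1 := by
      rw [mul_comm, pow_mul]
      have : ε₂ ^ m₂ = 1 := Subtype.ext h₂
      rw [this, one_pow]
    have hz : Ideal.Quotient.mk M ε₁ = Ideal.Quotient.mk M ε₂ := Ideal.Quotient.eq.2 hd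
    have hgeo := geom_sum₂_mul ε₁ ε₂ (m₁ * m₂)
    rw [e1, e2, sub_self, mul_eq_zero] at hgeo
    rcases hgeo with h | h
    · exfalso
      have h2 := congrArg (Ideal.Quotient.mk M) h
      rw [map_sum, map_zero] at h2
      have hne : Ideal.Quotient.mk M ε₂ ≠ 0 := fun h0 => by
        have := congrArg (Ideal.Quotient.mk M) e2
        rw [map_pow, h0, map_one, zero_pow (by rintro h00; rcases mul_eq_zero.1 h00 with h' | h' <;> simp_all)] at this
        exact zero_ne_one this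
      rw [Finset.sum_congr rfl fun i hi => show Ideal.Quotient.mk M (ε₁ ^ i * ε₂ ^ (m₁ * m₂ - 1 - i)) =
        Ideal.Quotient.mk M ε₂ ^ (m₁ * m₂ - 1) by
          rw [map_mul, map_pow, map_pow, hz, ← pow_add]
          congr 1
          have := Finset.mem_range.1 hi
          omega, Finset.sum_const, Finset.card_range, nsmul_eq_mul] at h2
      rcases mul_eq_zero.1 h2 with h3 | h3
      · rw [CharP.cast_eq_zero_iff (Cfsg.AlgInt ⧸ M) p] at h3
        exact (hp.dvd_mul.1 h3).elim hm₁ hm₂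
      · exact hne (eq_zero_of_pow_eq_zero h3)
    · exact sub_eq_zero.1 h
  refine ⟨inj, fun a ha => ?_⟩
  set x := Ideal.Quotient.mk M a with hx
  have hx0 : x ≠ 0 := mk_ne_zero ha
  letI : Algebra (ZMod p) (Cfsg.AlgInt ⧸ M) := ZMod.algebra _ p
  have hint : IsIntegral (ZMod p) x := by
    have h1 : IsIntegral ℤ a :=
      (isIntegral_algHom_iff (Subalgebra.val Cfsg.AlgInt) Subtype.val_injective).1 a.2
    haveI : IsScalarTower ℤ (ZMod p) (Cfsg.AlgInt ⧸ M) :=
      IsScalarTower.of_algebraMap_eq' (RingHom.ext_int _ _)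
    have h2 : IsIntegral ℤ x := h1.map (Ideal.Quotient.mkₐ ℤ M)
    exact h2.tower_top
  set K := IntermediateField.adjoin (ZMod p) ({x} : Set (Cfsg.AlgInt ⧸ M))
  haveI : FiniteDimensional (ZMod p) K := IntermediateField.adjoin.finiteDimensional hint
  haveI : Finite K := Module.finite_of_finite (ZMod p)
  haveI := Fintype.ofFinite K
  set m := Fintype.card K - 1 with hm
  have hxm : x ^ m = 1 := by
    have h := FiniteField.pow_card_sub_one_eq_one (⟨x, IntermediateField.mem_adjoin_simple_self _ x⟩ : K)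
      fun h => hx0 (congrArg Subtype.val h)
    exact congrArg Subtype.val h
  have hpm : ¬ p ∣ m := by
    intro hd
    have h1 : p ∣ Fintype.card K := by
      haveI : CharP K p := charP_of_injective_algebraMap (algebraMap (ZMod p) K).injective p
      obtain ⟨n, -, hn⟩ := FiniteField.card K p
      exact hn ▸ dvd_pow_self p n.ne_zero
    have h2 := Fintype.one_lt_card (α := K)
    have : p ∣ 1 := by
      have := Nat.dvd_sub h1 hd
      rwa [show Fintype.card K - m = 1 by omega] at this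
    exact hp.not_dvd_one this
  have hm0 : m ≠ 0 := fun h => hpm (h ▸ dvd_zero p)
  haveI : NeZero m := ⟨hm0⟩
  have hζ := Complex.isPrimitiveRoot_exp m hm0
  set ζ : Cfsg.AlgInt := ⟨Complex.exp (2 * Real.pi * Complex.I / m), ⟨Polynomial.X ^ m - Polynomial.C 1, Polynomial.monic_X_pow_sub_C 1 hm0,
    by simp [hζ.pow_eq_one]⟩⟩ with hζd
  have hζm : ∀ i : ℕ, ((ζ ^ i : Cfsg.AlgInt) : ℂ) ^ m = 1 := by
    intro i
    rw [SubmonoidClass.coe_pow, ← pow_mul, mul_comm, pow_mul, hζ.pow_eq_one, one_pow]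
  have hprim : IsPrimitiveRoot (Ideal.Quotient.mk M ζ) m := by
    refine ⟨?_, fun l hl => hζ.dvd_of_pow_eq_one l ?_⟩
    · rw [← map_pow, show ζ ^ m = 1 from Subtype.ext (by rw [SubmonoidClass.coe_pow]; exact hζ.pow_eq_one),
        map_one]
    · have h := inj (ζ ^ l) 1 ⟨m, hpm, hζm l⟩ ⟨m, hpm, by simp⟩ (Ideal.Quotient.eq.1 (by
        rw [map_pow, hl, map_one]))
      exact congrArg Subtype.val h
  obtain ⟨i, -, hi⟩ := hprim.eq_pow_of_pow_eq_one hxm
  exact ⟨ζ ^ i, ⟨m, hpm, hζm i⟩, Ideal.Quotient.eq.1 (by rw [map_pow, hi])⟩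

end Cfsg.Agent.S0901
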