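import Cfsg.Statements.S0903


set_option autoImplicit false
open Cfsg 


set_option linter.unusedVariables false

namespace Cfsg.Agent.S0903

/-- Let P be a p-subgroup of the finite group G, let c centralize P and let g, h ∈ G. The number of pairs (x, y) with x conjugate to g, y conjugate to h and x * y = c is congruent modulo p to the number of such pairs in which x and y both centralize P. (This is why the Brauer map on class sums is multiplicative.) -/
theorem result {G : Type*} [Group G] [Finite G] (p : ℕ) [Fact p.Prime] (P : Subgroup G) (hP : IsPGroup p P) (c : G) (hc : c ∈ Subgroup.centralizer (P : Set G)) (g h : G) : Nat.card {xy : G × G // IsConj g xy.1 ∧ IsConj h xy.2 ∧ xy.1 * xy.2 = c} ≡ Nat.card {xy : G × G // IsConj g xy.1 ∧ IsConj h xy.2 ∧ xy.1 * xy.2 = c ∧ xy.1 ∈ Subgroup.centralizer (P : Set G) ∧ xy.2 ∈ Subgroup.centralizer (P : Set G)} [MOD p] := by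
  classical
  haveI := Fintype.ofFinite G
  let α := {xy : G × G // IsConj g xy.1 ∧ IsConj h xy.2 ∧ xy.1 * xy.2 = c}
  have hst : ∀ (u : P) (t : α), IsConj g ((u : G) * t.1.1 * (u : G)⁻¹) ∧
      IsConj h ((u : G) * t.1.2 * (u : G)⁻¹) ∧
      ((u : G) * t.1.1 * (u : G)⁻¹) * ((u : G) * t.1.2 * (u : G)⁻¹) = c := by
    intro u t
    refine ⟨t.2.1.trans (isConj_iff.2 ⟨u, rfl⟩), t.2.2.1.trans (isConj_iff.2 ⟨u, rfl⟩), ?_⟩
    rw [show (u : G) * t.1.1 * (u : G)⁻¹ * ((u : G) * t.1.2 * (u : G)⁻¹) =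
      (u : G) * (t.1.1 * t.1.2) * (u : G)⁻¹ by group, t.2.2.2,
      Subgroup.mem_centralizer_iff.1 hc u u.2, mul_inv_cancel_right]
  letI : MulAction P α :=
    { smul := fun u t => ⟨((u : G) * t.1.1 * (u : G)⁻¹, (u : G) * t.1.2 * (u : G)⁻¹), hst u t⟩
      one_smul := fun t => Subtype.ext (show (((1 : G) * t.1.1 * (1 : G)⁻¹,
        (1 : G) * t.1.2 * (1 : G)⁻¹) : G × G) = t.1 by simp)
      mul_smul := fun a b t => Subtype.ext (show ((((a : G) * (b : G)) * t.1.1 * ((a : G) * (b : G))⁻¹,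
        ((a : G) * (b : G)) * t.1.2 * ((a : G) * (b : G))⁻¹) : G × G) =
        ((a : G) * ((b : G) * t.1.1 * (b : G)⁻¹) * (a : G)⁻¹,
          (a : G) * ((b : G) * t.1.2 * (b : G)⁻¹) * (a : G)⁻¹) by
        refine Prod.ext ?_ ?_ <;> group) }
  refine (hP.card_modEq_card_fixedPoints α).trans (congrArg (· % p) ?_)
  have hiff : ∀ t : α, t ∈ MulAction.fixedPoints P α ↔
      t.1.1 ∈ Subgroup.centralizer (P : Set G) ∧ t.1.2 ∈ Subgroup.centralizer (P : Set G) := by
    intro t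
    simp only [MulAction.mem_fixedPoints, Subgroup.mem_centralizer_iff]
    constructor
    · intro ht
      refine ⟨fun u hu => ?_, fun u hu => ?_⟩
      · exact mul_inv_eq_iff_eq_mul.1 (congrArg (fun z : α => z.1.1) (ht ⟨u, hu⟩))
      · exact mul_inv_eq_iff_eq_mul.1 (congrArg (fun z : α => z.1.2) (ht ⟨u, hu⟩))
    · intro ⟨h1, h2⟩ u
      exact Subtype.ext (Prod.ext (mul_inv_eq_iff_eq_mul.2 (h1 u u.2))
        (mul_inv_eq_iff_eq_mul.2 (h2 u u.2)))
  exact Nat.card_congr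
    { toFun := fun t => ⟨t.1.1, t.1.2.1, t.1.2.2.1, t.1.2.2.2, ((hiff t.1).1 t.2).1,
        ((hiff t.1).1 t.2).2⟩
      invFun := fun t => ⟨⟨t.1, t.2.1, t.2.2.1, t.2.2.2.1⟩,
        (hiff _).2 ⟨t.2.2.2.2.1, t.2.2.2.2.2⟩⟩
      left_inv := fun t => rfl
      right_inv := fun t => rfl }

end Cfsg.Agent.S0903
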