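import Cfsg.Statements.S0905
import Cfsg.Agent.Lib.Blocks.GroupAlgebra
import Cfsg.Agent.Lib.Basic

set_option autoImplicit false
open Cfsg CfsgLib.Blocks Module MonoidAlgebra
open scoped ComplexConjugate

set_option linter.unusedVariables false

namespace Cfsg.Agent.S0905

/-- Let F be a field of characteristic p and let g be an element of the finite group G no conjugate of which centralizes O_p(G). Then the class sum of g is a nilpotent element of the group algebra F[G]. -/
theorem result {G : Type*} [Group G] [Finite G] (p : ℕ) [Fact p.Prime] (F : Type*) [Field F] [CharP F p] (g : G) (hg : ∀ x : G, IsConj g x → x ∉ Subgroup.centralizer (Cfsg.pCore p G : Set G)) : IsNilpotent (∑ᶠ x ∈ ConjClasses.carrier (ConjClasses.mk g), MonoidAlgebra.single x (1 : F) : MonoidAlgebra F G) := by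
  classical
  haveI := Fintype.ofFinite G
  haveI : FiniteDimensional F (MonoidAlgebra F G) := Module.Finite.of_basis (MonoidAlgebra.basis G F)
  set Q := Cfsg.pCore p G with hQdef
  haveI hQn : Q.Normal := inferInstance
  have hQp : IsPGroup p Q := CfsgLib.isPGroup_pCore p
  set K : MonoidAlgebra F G :=
    ∑ᶠ x ∈ ConjClasses.carrier (ConjClasses.mk g), MonoidAlgebra.single x (1 : F) with hKdef
  have hK : K = ∑ x ∈ Finset.univ.filter (fun x => IsConj g x), MonoidAlgebra.single x (1 : F) := by
    rw [hKdef, finsum_mem_eq_finite_toFinset_sum _ (Set.toFinite _)]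
    refine Finset.sum_congr ?_ fun _ _ => rfl
    ext x
    rw [Set.Finite.mem_toFinset, ConjClasses.mem_carrier_iff_mk_eq, ConjClasses.mk_eq_mk_iff_isConj,
      Finset.mem_filter]
    exact ⟨fun h => ⟨Finset.mem_univ _, h.symm⟩, fun h => h.2.symm⟩
  -- central
  have hKc : ∀ h : G, MonoidAlgebra.of F G h * K = K * MonoidAlgebra.of F G h := by
    intro h
    rw [hK, Finset.mul_sum, Finset.sum_mul]
    simp only [MonoidAlgebra.of_apply, MonoidAlgebra.single_mul_single, one_mul]
    refine Finset.sum_equiv (MulAut.conj h).toEquiv (fun x => ?_) (fun x _ => ?_)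
    · simp only [Finset.mem_filter, Finset.mem_univ, true_and, MulEquiv.toEquiv_eq_coe,
        MulEquiv.coe_toEquiv, MulAut.conj_apply]
      exact ⟨fun hx => hx.trans (isConj_iff.2 ⟨h, rfl⟩),
        fun hx => hx.trans (isConj_iff.2 ⟨h, rfl⟩).symm⟩
    · simp [mul_assoc]
  -- K kills the vectors fixed by Q
  have hkill : ∀ w : MonoidAlgebra F G, (∀ u : Q, MonoidAlgebra.of F G (u : G) * w = w) →
      K * w = 0 := by
    intro w hw
    let α := {x : G // IsConj g x}
    letI : MulAction Q α :=
      { smul := fun u x => ⟨(u : G) * (x : G) * (u : G)⁻¹, x.2.trans (isConj_iff.2 ⟨u, rfl⟩)⟩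
        one_smul := fun x => Subtype.ext (show (1 : G) * (x : G) * (1 : G)⁻¹ = x by group)
        mul_smul := fun a b x => Subtype.ext (show (a : G) * (b : G) * (x : G) *
          ((a : G) * (b : G))⁻¹ = (a : G) * ((b : G) * (x : G) * (b : G)⁻¹) * (a : G)⁻¹ by
            group) }
    have hfix : ∀ (u : Q) (z : G), w.coeff ((u : G) * z) = w.coeff z := by
      intro u z
      conv_lhs => rw [← hw u, coeff_of_mul, inv_mul_cancel_left]
    ext a
    have hval : (K * w).coeff a = ∑ x : α, w.coeff ((x : G)⁻¹ * a) := by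
      rw [hK, Finset.sum_mul, MonoidAlgebra.coeff_sum, Finsupp.finset_sum_apply]
      rw [Finset.sum_subtype (Finset.univ.filter fun x => IsConj g x)
        (p := fun x => IsConj g x) (fun x => by simp)]
      exact Finset.sum_congr rfl fun x _ => coeff_of_mul (x : G) w a
    rw [hval, MonoidAlgebra.coeff_zero, Finsupp.coe_zero, Pi.zero_apply,
      ← Equiv.sum_comp (MulAction.selfEquivSigmaOrbits Q α).symm, Fintype.sum_sigma]
    refine Finset.sum_eq_zero fun o _ => ?_
    set x₀ := o.out
    rw [Finset.sum_congr rfl fun y _ => show w.coeff (((MulAction.selfEquivSigmaOrbits Q α).symm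
        ⟨o, y⟩ : α).1⁻¹ * a) = w.coeff ((x₀ : G)⁻¹ * a) from ?_, Finset.sum_const, nsmul_eq_mul]
    · have hd : p ∣ Nat.card (MulAction.orbit Q x₀) := by
        obtain ⟨k, hk⟩ := hQp.card_orbit x₀
        rcases k with _ | k
        · exfalso
          rw [pow_zero, Nat.card_eq_one_iff_unique] at hk
          refine hg x₀ x₀.2 (Subgroup.mem_centralizer_iff.2 fun u hu => ?_)
          have := @Subsingleton.elim _ hk.1 ⟨(⟨u, hu⟩ : Q) • x₀, MulAction.mem_orbit _ _⟩
            ⟨x₀, MulAction.mem_orbit_self _⟩
          have h2 : u * (x₀ : G) * u⁻¹ = x₀ := congrArg Subtype.val (congrArg Subtype.val this)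
          exact mul_inv_eq_iff_eq_mul.1 h2
        · exact hk ▸ dvd_pow_self p (Nat.succ_ne_zero k)
      rw [Finset.card_univ, ← Nat.card_eq_fintype_card]
      obtain ⟨m, hm⟩ := hd
      rw [hm, Nat.cast_mul, CharP.cast_eq_zero, zero_mul, zero_mul]
    · obtain ⟨u, hu⟩ := y.2
      have hy : ((MulAction.selfEquivSigmaOrbits Q α).symm ⟨o, y⟩ : α).1 =
          (u : G) * (x₀ : G) * (u : G)⁻¹ := congrArg Subtype.val hu.symm
      rw [hy, show ((u : G) * (x₀ : G) * (u : G)⁻¹)⁻¹ * a =
          ((u : G) * ((x₀ : G)⁻¹ * (u : G)⁻¹ * (x₀ : G))) * ((x₀ : G)⁻¹ * a) by group]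
      exact hfix ⟨_, Q.mul_mem u.2 (by
        simpa using hQn.conj_mem _ (Q.inv_mem u.2) (x₀ : G)⁻¹)⟩ _
  -- nilpotence
  set L := LinearMap.mulLeft F K with hL
  have hpow : ∀ n v, (L ^ n) v = K ^ n * v := by
    intro n v; rw [hL, LinearMap.pow_mulLeft]; rfl
  have hstep : ∀ n, (L ^ n = 0) ∨
      finrank F (LinearMap.range (L ^ n)) + n ≤ finrank F (MonoidAlgebra F G) := by
    intro n
    induction n with
    | zero => exact Or.inr (by simpa using Submodule.finrank_le _)
    | succ n ih =>
      rcases ih with h0 | hle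
      · left; rw [pow_succ, h0, zero_mul]
      by_cases h0 : L ^ n = 0
      · left; rw [pow_succ, h0, zero_mul]
      right
      obtain ⟨v, hv⟩ : ∃ v, (L ^ n) v ≠ 0 := by
        by_contra hno; push Not at hno; exact h0 (LinearMap.ext hno)
      obtain ⟨w, hwW, hw0, hwfix⟩ := exists_fixed_vector hQp
        (((Algebra.lmul F (MonoidAlgebra F G)).toMonoidHom.comp (MonoidAlgebra.of F G)).comp Q.subtype)
        hv (LinearMap.range (L ^ n)) ⟨v, rfl⟩ (fun u w hw => by
          obtain ⟨z, rfl⟩ := hw
          refine ⟨MonoidAlgebra.of F G (u : G) * z, ?_⟩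
          show (L ^ n) _ = MonoidAlgebra.of F G (u : G) * (L ^ n) z
          rw [hpow, hpow, ← mul_assoc, ← mul_assoc,
            (Commute.pow_right (hKc (u : G)) n).eq])
      have hker : L w = 0 := hkill w hwfix
      set W := LinearMap.range (L ^ n) with hW
      have hr := LinearMap.finrank_range_add_finrank_ker (L.domRestrict W)
      have hpos : 0 < finrank F (LinearMap.ker (L.domRestrict W)) := by
        by_contra hcon
        have hbot : LinearMap.ker (L.domRestrict W) = ⊥ := Submodule.finrank_eq_zero.1 (by omega)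
        have hmem : (⟨w, hwW⟩ : W) ∈ LinearMap.ker (L.domRestrict W) := hker
        rw [hbot, Submodule.mem_bot] at hmem
        exact hw0 (congrArg Subtype.val hmem)
      have hrange : LinearMap.range (L.domRestrict W) = LinearMap.range (L ^ (n + 1)) := by
        rw [pow_succ', Module.End.mul_eq_comp, LinearMap.range_comp, LinearMap.range_domRestrict]
      rw [← hrange]
      omega
  refine ⟨finrank F (MonoidAlgebra F G) + 1, ?_⟩
  rcases hstep (finrank F (MonoidAlgebra F G) + 1) with h | h
  · have := hpow (finrank F (MonoidAlgebra F G) + 1) 1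
    rwa [h, LinearMap.zero_apply, mul_one, eq_comm] at this
  · omega

end Cfsg.Agent.S0905
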