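import Cfsg.Statements.S0911
import Cfsg.Agent.Lib.Blocks.MinMax

set_option autoImplicit false
set_option linter.style.haveILetI false
open Cfsg

namespace Cfsg.Agent.S0911

open CfsgLib.Blocks CfsgLib.CharTheory

/-- The min–max Theorem for defect classes. Let B be a block of the finite group G relative to a maximal ideal M of the algebraic integers containing the prime p, let g represent a defect class of B and let D be a Sylow p-subgroup of the centralizer of g (viewed in G). For any h: (a) if the idempotent coefficient of B at h is a local integer outside the local ideal, then some conjugate of D contains a Sylow p-subgroup of the centralizer of h; (b) if the central character of some member of B at h is outside the local ideal, then some conjugate of D is contained in a Sylow p-subgroup of the centralizer of h. -/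
theorem result {G : Type*} [Group G] [Finite G] (p : ℕ) [Fact p.Prime] (M : Ideal Cfsg.AlgInt) (hM : Cfsg.IsPModular p M) (B : Set (Cfsg.IrrCharacter G)) (hB : Cfsg.IsPBlock M B) (g : G) (hg : Cfsg.IsDefectClass M B g) (D : Sylow p (Subgroup.centralizer ({g} : Set G))) (h : G) : (Cfsg.MemLocalRing M (Cfsg.blockCoeff B h) → ¬ Cfsg.MemLocalIdeal M (Cfsg.blockCoeff B h) → ∃ (x : G) (Q : Sylow p (Subgroup.centralizer ({h} : Set G))), (Q : Subgroup (Subgroup.centralizer ({h} : Set G))).map (Subgroup.centralizer ({h} : Set G)).subtype ≤ ((D : Subgroup (Subgroup.centralizer ({g} : Set G))).map (Subgroup.centralizer ({g} : Set G)).subtype).map (MulAut.conj x).toMonoidHom) ∧ ((∃ χ ∈ B, ¬ Cfsg.MemLocalIdeal M (Cfsg.centralChar (χ : G → ℂ) h)) → ∃ (x : G) (Q : Sylow p (Subgroup.centralizer ({h} : Set G))), ((D : Subgroup (Subgroup.centralizer ({g} : Set G))).map (Subgroup.centralizer ({g} : Set G)).subtype).map (MulAut.conj x).toMonoidHom ≤ (Q : Subgroup (Subgroup.centralizer ({h} : Set G))).map (Subgroup.centralizer ({h} : Set G)).subtype) :=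 by
  classical
  haveI := Fintype.ofFinite G
  obtain ⟨φ, hφ⟩ := block_nonempty hM hB
  have hcomm : ∀ (a : G) (Q : Subgroup (Subgroup.centralizer ({a} : Set G))),
      Q.map (Subgroup.centralizer ({a} : Set G)).subtype ≤ Subgroup.centralizer ({a} : Set G) := by
    rintro a Q _ ⟨r, -, rfl⟩; exact r.2
  refine ⟨fun _ hu => ?_, fun ⟨χ, hχ, hu⟩ => ?_⟩
  · obtain ⟨Q⟩ : Nonempty (Sylow p (Subgroup.centralizer ({h} : Set G))) := inferInstance
    obtain ⟨x, hx⟩ := sylow_le_conj hM hB hφ (hg.2.2 φ hφ) hu (Q.isPGroup'.map _) (hcomm _ _) D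
    refine ⟨x⁻¹, Q, fun y hy => ?_⟩
    rw [conjMap_mem_iff, inv_inv]
    exact hx (conjMap_mem_iff.2 (by simpa [mul_assoc] using hy))
  · obtain ⟨Q⟩ : Nonempty (Sylow p (Subgroup.centralizer ({h} : Set G))) := inferInstance
    obtain ⟨x, hx⟩ := sylow_le_conj hM hB hχ hu hg.2.1 (D.isPGroup'.map _) (hcomm _ _) Q
    exact ⟨x, Q, hx⟩

end Cfsg.Agent.S0911
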