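import Cfsg.Statements.S0914
import Cfsg.Agent.Lib.Blocks.Proj

set_option autoImplicit false
set_option linter.style.haveILetI false
open Cfsg

namespace Cfsg.Agent.S0914

open CfsgLib.Blocks CfsgLib.CharTheory

/-- Let χ be an irreducible character of the finite group G, p a prime and M a maximal ideal of the algebraic integers containing p. Then p does not divide the integer (Nat.card G) / χ(1) if and only if the block of χ relative to M consists of χ alone. -/
theorem result {G : Type*} [Group G] [Finite G] (p : ℕ) [Fact p.Prime] (M : Ideal Cfsg.AlgInt) (hM : Cfsg.IsPModular p M) (χ : Cfsg.IrrCharacter G) : ¬ p ∣ Nat.card G / Cfsg.charDegree (χ : G → ℂ) ↔ Cfsg.blockOf M (χ : G → ℂ) = {χ} := by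
  haveI := Fintype.ofFinite G
  have hp : p.Prime := Fact.out
  rw [← defect_zero_iff hM χ]
  obtain ⟨n, ρ, hirr, hρ⟩ := χ.2
  haveI := hirr
  have hd : Cfsg.charDegree (χ : G → ℂ) ∣ Nat.card G := by
    have h := finrank_dvd_card ρ
    have e : Cfsg.charDegree (χ : G → ℂ) = Module.finrank ℂ (Fin n → ℂ) := by
      have h1 := irr_charDegree_cast χ
      rw [← hρ, Representation.char_one] at h1
      rw [← hρ]
      exact_mod_cast h1
    rw [e]; exact h
  have hne := (irr_charDegree_pos χ).ne'
  have hle := (Nat.factorization_le_iff_dvd hne Nat.card_pos.ne').2 hd p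
  have hq : Nat.card G / Cfsg.charDegree (χ : G → ℂ) ≠ 0 :=
    (Nat.div_pos (Nat.le_of_dvd Nat.card_pos hd) (irr_charDegree_pos χ)).ne'
  rw [hp.dvd_iff_one_le_factorization hq, Nat.factorization_div hd, Finsupp.tsub_apply]
  unfold dv
  omega

end Cfsg.Agent.S0914
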