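import Cfsg.Statements.S0915
import Cfsg.Agent.Lib.Blocks.FongReduction

set_option autoImplicit false
open Cfsg

namespace Cfsg.Agent.S0915

open CfsgLib.Blocks CfsgLib.CharTheory


/-- Let G be a finite p-solvable group with trivial largest normal subgroup of order prime to p. Then any two irreducible characters of G lie in the same block relative to every maximal ideal M of the algebraic integers containing p: G has a single p-block. -/
theorem result {G : Type*} [Group G] [Finite G] (p : ℕ) [Fact p.Prime] (M : Ideal Cfsg.AlgInt) (hM : Cfsg.IsPModular p M) (hsolv : Cfsg.IsPSolvable p G) (hcore : Cfsg.pPrimeCore p G = ⊥) (χ ψ : Cfsg.IrrCharacter G) : Cfsg.SameBlock M (χ : G → ℂ) (ψ : G → ℂ) := by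
  classical
  haveI := Fintype.ofFinite G
  haveI := Fintype.ofFinite (pPrimeCore p G)
  haveI : Subsingleton (pPrimeCore p G) := ⟨fun a b => Subtype.ext
    ((Subgroup.mem_bot.1 (hcore ▸ a.2)).trans (Subgroup.mem_bot.1 (hcore ▸ b.2)).symm)⟩
  obtain ⟨B, hB, hmem, -⟩ := Cfsg.Agent.S4492.result p M hM hsolv (pPrimeCore p G) rfl
    ⟨_, isIrrCharacter_one⟩ (fun g n => rfl)
  have hin : ∀ φ : IrrCharacter G, φ ∈ B := fun φ => (hmem φ).2 (by
    simp only [classInner, map_one, mul_one, Nat.card_unique, Nat.cast_one, inv_one, one_mul]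
    rw [Fintype.sum_subsingleton _ (1 : pPrimeCore p G)]
    exact irr_ne_zero φ.2)
  exact sameBlock_of_mem hM hB (hin χ) (hin ψ)

end Cfsg.Agent.S0915
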