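import Cfsg.Statements.S0916
import Mathlib.GroupTheory.Nilpotent


set_option autoImplicit false
open Cfsg 


set_option linter.unusedVariables false

namespace Cfsg.Agent.S0916

/-- Let P be a p-subgroup of the finite group G, C its centralizer and N its normalizer. Say that a conjugacy class (of G, or of N) has defect group P when P is a Sylow p-subgroup of the centralizer (in G, respectively in N) of some element of the class. Then: (i) if the class of g in G has defect group P, the elements of that class lying in C form a single N-class, again with defect group P; (ii) every N-class with defect group P arises this way from exactly one G-class with defect group P. -/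
theorem result {G : Type*} [Group G] [Finite G] (p : ℕ) [Fact p.Prime] (P : Subgroup G) (hP : IsPGroup p P) : (∀ g : G, (∃ S : Sylow p (Subgroup.centralizer ({g} : Set G)), (S : Subgroup (Subgroup.centralizer ({g} : Set G))).map (Subgroup.centralizer ({g} : Set G)).subtype = P) → (∃ c : G, IsConj g c ∧ c ∈ Subgroup.centralizer (P : Set G)) ∧ (∀ c₁ c₂ : G, IsConj g c₁ → IsConj g c₂ → c₁ ∈ Subgroup.centralizer (P : Set G) → c₂ ∈ Subgroup.centralizer (P : Set G) → ∃ n ∈ Subgroup.normalizer (P : Set G), n * c₁ * n⁻¹ = c₂)) ∧ (∀ c : G, c ∈ Subgroup.centralizer (P : Set G) → (∃ S : Sylow p (Subgroup.centralizer ({c} : Set G) ⊓ Subgroup.normalizer (P : Set G) : Subgroup G), (S : Subgroup ↥(Subgroup.centralizer ({c} : Set G) ⊓ Subgroup.normalizer (P : Set G))).map (Subgroup.centralizer ({c} : Set G) ⊓ Subgroup.normalizer (P : Set G)).subtype = P) → ∃ S : Sylow p (Subgroup.centralizer ({c} : Set G)), (S : Subgroup (Subgroup.centralizer ({c} : Set G))).map (Subgroup.centralizer ({c} : Set G)).subtype = P) := by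
  classical
  haveI := Fintype.ofFinite G
  refine ⟨fun g ⟨S, hS⟩ => ⟨⟨g, IsConj.refl g, Subgroup.mem_centralizer_iff.2 fun u hu => ?_⟩, ?_⟩, ?_⟩
  · rw [← hS] at hu
    obtain ⟨w, -, rfl⟩ := hu
    exact Subgroup.mem_centralizer_singleton_iff.1 w.2
  · intro c₁ c₂ h1 h2 hc1 hc2
    have hcard : Nat.card P = p ^ (Nat.card (Subgroup.centralizer ({c₂} : Set G))).factorization p := by
      rw [← hS, Subgroup.card_map_of_injective (Subgroup.subtype_injective _),
        Sylow.card_eq_multiplicity S]
      congr 2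
      obtain ⟨a, rfl⟩ := isConj_iff.1 h2
      refine congrArg (fun n : ℕ => n.factorization) (Nat.card_congr (Equiv.subtypeEquiv
        (MulAut.conj a).toEquiv fun x => ?_))
      simp only [Subgroup.mem_centralizer_singleton_iff, MulEquiv.toEquiv_eq_coe,
        MulEquiv.coe_toEquiv, MulAut.conj_apply]
      rw [show a * x * a⁻¹ * (a * g * a⁻¹) = a * (x * g) * a⁻¹ by group,
        show a * g * a⁻¹ * (a * x * a⁻¹) = a * (g * x) * a⁻¹ by group]
      exact ⟨fun hh => by rw [hh], fun hh => mul_left_cancel (mul_right_cancel hh)⟩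
    obtain ⟨x, hx⟩ := isConj_iff.1 (h1.symm.trans h2)
    set P' := P.map (MulAut.conj x).toMonoidHom with hP'
    have hA : P ≤ Subgroup.centralizer ({c₂} : Set G) := fun u hu =>
      Subgroup.mem_centralizer_singleton_iff.2 (Subgroup.mem_centralizer_iff.1 hc2 u hu)
    have hB : P' ≤ Subgroup.centralizer ({c₂} : Set G) := by
      rintro _ ⟨u, hu, rfl⟩
      rw [Subgroup.mem_centralizer_singleton_iff, ← hx]
      show x * u * x⁻¹ * (x * c₁ * x⁻¹) = x * c₁ * x⁻¹ * (x * u * x⁻¹)
      rw [show x * u * x⁻¹ * (x * c₁ * x⁻¹) = x * (u * c₁) * x⁻¹ by group,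
        Subgroup.mem_centralizer_iff.1 hc1 u hu]
      group
    let SA := Sylow.ofCard (P.subgroupOf (Subgroup.centralizer ({c₂} : Set G))) (by
      rw [Nat.card_congr (Subgroup.subgroupOfEquivOfLe hA).toEquiv, hcard])
    let SB := Sylow.ofCard (P'.subgroupOf (Subgroup.centralizer ({c₂} : Set G))) (by
      rw [Nat.card_congr (Subgroup.subgroupOfEquivOfLe hB).toEquiv, hP',
        Subgroup.card_map_of_injective (MulAut.conj x).injective, hcard])
    obtain ⟨y, hy⟩ := MulAction.exists_smul_eq (Subgroup.centralizer ({c₂} : Set G)) SB SA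
    have hmem : ∀ u ∈ P, ((y : G) * x) * u * ((y : G) * x)⁻¹ ∈ P := by
      intro u hu
      have h3 : (⟨x * u * x⁻¹, hB ⟨u, hu, rfl⟩⟩ : Subgroup.centralizer ({c₂} : Set G)) ∈
          (SB : Subgroup (Subgroup.centralizer ({c₂} : Set G))) := ⟨u, hu, rfl⟩
      have h4 : y * ⟨x * u * x⁻¹, hB ⟨u, hu, rfl⟩⟩ * y⁻¹ ∈
          (SA : Subgroup (Subgroup.centralizer ({c₂} : Set G))) := by
        rw [← hy, Sylow.coe_subgroup_smul]
        exact ⟨_, h3, rfl⟩
      have h5 : (y : G) * (x * u * x⁻¹) * (y : G)⁻¹ ∈ P := h4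
      rwa [show ((y : G) * x) * u * ((y : G) * x)⁻¹ = (y : G) * (x * u * x⁻¹) * (y : G)⁻¹ by group]
    refine ⟨(y : G) * x, ?_, ?_⟩
    · have hmap : P.map (MulAut.conj ((y : G) * x)).toMonoidHom = P := by
        refine Subgroup.eq_of_le_of_card_ge ?_ (le_of_eq (Subgroup.card_map_of_injective
          (MulAut.conj ((y : G) * x)).injective).symm)
        rintro _ ⟨u, hu, rfl⟩
        exact hmem u hu
      exact Subgroup.mem_normalizer_iff.2 fun u => ⟨hmem u, fun h => by
        rw [← hmap] at h
        obtain ⟨v, hv, hv'⟩ := h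
        have : v = u := (MulAut.conj ((y : G) * x)).injective hv'
        exact this ▸ hv⟩
    · rw [show (y : G) * x * c₁ * ((y : G) * x)⁻¹ = (y : G) * (x * c₁ * x⁻¹) * (y : G)⁻¹ by group,
        hx, Subgroup.mem_centralizer_singleton_iff.1 y.2, mul_inv_cancel_right]
  · intro c hc hex
    set C := Subgroup.centralizer ({c} : Set G) with hCdef
    set K := C ⊓ Subgroup.normalizer (P : Set G) with hKdef
    obtain ⟨S, hS⟩ := hex
    have hPC : P ≤ C := fun u hu =>
      Subgroup.mem_centralizer_singleton_iff.2 (Subgroup.mem_centralizer_iff.1 hc u hu)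
    have hPK : Nat.card P = p ^ (Nat.card K).factorization p := by
      rw [← hS, Subgroup.card_map_of_injective (Subgroup.subtype_injective _),
        Sylow.card_eq_multiplicity S]
    have hPp : IsPGroup p (P.subgroupOf C) := hP.comap_subtype
    obtain ⟨T, hT⟩ := hPp.exists_le_sylow
    refine ⟨T, ?_⟩
    have heq : (T : Subgroup C) = P.subgroupOf C := by
      refine le_antisymm ?_ hT
      by_contra hlt
      haveI : Finite C := Subtype.finite
      haveI := IsPGroup.isNilpotent (p := p) T.isPGroup'
      set Q := (P.subgroupOf C).subgroupOf (T : Subgroup C) with hQ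
      have hQlt : Q < ⊤ := lt_top_iff_ne_top.2 fun h => hlt (Subgroup.subgroupOf_eq_top.1 h)
      have h1 := normalizerCondition_of_isNilpotent Q hQlt
      obtain ⟨t, htN, htQ⟩ := SetLike.exists_of_lt h1
      set U := Subgroup.normalizer (Q : Set (T : Subgroup C)) with hU
      have hUK : ∀ u : (T : Subgroup C), u ∈ U → ((u : C) : G) ∈ K := by
        intro u hu
        refine Subgroup.mem_inf.2 ⟨(u : C).2, ?_⟩
        have hfw : ∀ v : (T : Subgroup C), v ∈ U → ∀ a ∈ P, ((v : C) : G) * a * ((v : C) : G)⁻¹ ∈ P := by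
          intro v hv a ha
          have hmemT : (⟨a, hPC ha⟩ : C) ∈ (T : Subgroup C) := hT (Subgroup.mem_subgroupOf.2 ha)
          exact (Subgroup.mem_normalizer_iff.1 hv ⟨⟨a, hPC ha⟩, hmemT⟩).1 ha
        refine Subgroup.mem_normalizer_iff.2 fun a => ⟨hfw u hu a, fun h => ?_⟩
        have := hfw u⁻¹ (inv_mem hu) _ h
        simpa [mul_assoc] using this
      let f : U →* K := MonoidHom.mk' (fun u => ⟨((u : (T : Subgroup C)) : C), hUK u u.2⟩)
        fun _ _ => rfl
      have hf : Function.Injective f := fun a b hab => by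
        have := congrArg Subtype.val hab
        exact Subtype.ext (Subtype.ext (Subtype.ext this))
      have hd : Nat.card U ∣ Nat.card K := by
        rw [Nat.card_congr (MonoidHom.ofInjective hf).toEquiv]
        exact Subgroup.card_subgroup_dvd_card _
      obtain ⟨k, hk⟩ := (T.2.to_subgroup U).exists_card_eq
      rw [hk, (Fact.out : p.Prime).pow_dvd_iff_le_factorization Nat.card_pos.ne'] at hd
      have hlt2 : Nat.card Q < Nat.card U := Set.Finite.card_lt_card (Set.toFinite _) h1
      rw [hk, hQ, Nat.card_congr (Subgroup.subgroupOfEquivOfLe hT).toEquiv,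
        Nat.card_congr (Subgroup.subgroupOfEquivOfLe hPC).toEquiv, hPK] at hlt2
      exact absurd ((Nat.pow_lt_pow_iff_right (Fact.out : p.Prime).one_lt).1 hlt2) (by omega)
    rw [heq]
    exact Subgroup.map_subgroupOf_eq_of_le hPC

end Cfsg.Agent.S0916
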