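import Cfsg.Statements.S0922
import Cfsg.Agent.Lib.Blocks.Apply

set_option autoImplicit false
set_option linter.style.haveILetI false
open Cfsg

namespace Cfsg.Agent.S0922

open CfsgLib.Blocks CfsgLib.CharTheory

/-- Let H be a subgroup of the finite group G and let the block b of H induce the block B of G (relative to a maximal ideal M of the algebraic integers containing the prime p). Let h ∈ H be such that the centralizer in G of the p-part of h lies in H, and let χ be an irreducible character of G not in B. Then the sum over k ∈ H of (the idempotent coefficient of b at k) times χ (k * h) vanishes; that is, χ annihilates f_b h where f_b is the sum of the central idempotents of the members of b. -/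
theorem result {G : Type*} [Group G] [Finite G] (p : ℕ) [Fact p.Prime] (M : Ideal Cfsg.AlgInt) (hM : Cfsg.IsPModular p M) (H : Subgroup G) (b : Set (Cfsg.IrrCharacter H)) (B : Set (Cfsg.IrrCharacter G)) (hind : Cfsg.IsInducedBlock M H b B) (h : H) (hC : ∀ z : G, Cfsg.IsPPart p (h : G) z → Subgroup.centralizer ({z} : Set G) ≤ H) (χ : Cfsg.IrrCharacter G) (hχ : χ ∉ B) : ∑ᶠ k : H, Cfsg.blockCoeff b k * (χ : G → ℂ) ((k : G) * (h : G)) = 0 := by
  classical
  haveI := Fintype.ofFinite G
  haveI := Fintype.ofFinite H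
  obtain ⟨z, w, hzw, hc, hz, hw, -, -⟩ := exists_pPart (Fact.out : p.Prime) (h : G)
  have hCz := hC z ⟨w, hzw, hc, hz, hw⟩
  rw [finsum_eq_sum_of_fintype, ← hzw]
  obtain ⟨φ, hφ⟩ := block_nonempty hM hind.2.1
  refine second_main_induced hM H hind.1 ?_ (fun ξ hξ => ⟨φ, hind.2.2 ξ hξ φ hφ⟩) hc hz hw hCz
  intro h'
  apply hχ
  obtain ⟨ξ, hξ⟩ := block_nonempty hM hind.1
  have hs : Cfsg.SameBlock M (φ : G → ℂ) (χ : G → ℂ) := by
    rw [sameBlock_iff_res hM]
    intro g
    have h1 := hind.2.2 ξ hξ φ hφ g
    have h2 := h'.2.2 ξ hξ χ (mem_blockOf_self hM χ) g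
    rw [memIdeal_sub_iff hM (memRing_inducedCentralChar H hM ξ g) (show MemLocalRing M (Cfsg.centralChar (φ : G → ℂ) g) from memRing_clv hM g φ)] at h1
    rw [memIdeal_sub_iff hM (memRing_inducedCentralChar H hM ξ g) (show MemLocalRing M (Cfsg.centralChar (χ : G → ℂ) g) from memRing_clv hM g χ)] at h2
    exact h1.symm.trans h2
  rw [eq_blockOf hM hind.2.1 hφ]
  exact hs

end Cfsg.Agent.S0922
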