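import Cfsg.Statements.S0923
import Cfsg.Agent.Lib.Blocks.Apply

set_option autoImplicit false
set_option linter.style.haveILetI false
open Cfsg

namespace Cfsg.Agent.S0923

open CfsgLib.Blocks CfsgLib.CharTheory

/-- Brauer's Second Main Theorem, in terms of ordinary characters. Let x be a p-element of the finite group G with centralizer C, let χ lie in the block B of G and let b be a block of C that does not induce B (relative to a maximal ideal M of the algebraic integers containing p). Form the class function ϑ(c) = χ(x c) on C and its b-part (the sum over ψ ∈ b of the inner product of ϑ with ψ, times ψ). Then the b-part of ϑ vanishes at every p-regular element of C. (Equivalently, the generalized decomposition numbers of χ with respect to b are zero.) -/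
theorem result {G : Type*} [Group G] [Finite G] (p : ℕ) [Fact p.Prime] (M : Ideal Cfsg.AlgInt) (hM : Cfsg.IsPModular p M) (x : G) (hx : ∃ k : ℕ, orderOf x = p ^ k) (B : Set (Cfsg.IrrCharacter G)) (hB : Cfsg.IsPBlock M B) (χ : Cfsg.IrrCharacter G) (hχ : χ ∈ B) (b : Set (Cfsg.IrrCharacter (Subgroup.centralizer ({x} : Set G)))) (hb : Cfsg.IsPBlock M b) (hnot : ¬ Cfsg.IsInducedBlock M (Subgroup.centralizer ({x} : Set G)) b B) (y : Subgroup.centralizer ({x} : Set G)) (hy : ¬ p ∣ orderOf y) : Cfsg.blockPart b (fun c : Subgroup.centralizer ({x} : Set G) => (χ : G → ℂ) (x * (c : G))) y = 0 := by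
  classical
  haveI := Fintype.ofFinite G
  haveI := Fintype.ofFinite (Subgroup.centralizer ({x} : Set G))
  have hzC : Subgroup.centralizer ((Subgroup.zpowers x : Subgroup G) : Set G) ≤
      Subgroup.centralizer ({x} : Set G) :=
    Subgroup.centralizer_le (Set.singleton_subset_iff.2 (Subgroup.mem_zpowers x))
  have hxC : x ∈ Subgroup.centralizer ({x} : Set G) :=
    Subgroup.mem_centralizer_singleton_iff.2 rfl
  have hP : IsPGroup p (Subgroup.zpowers x) := by
    obtain ⟨k, hk⟩ := hx
    exact IsPGroup.iff_card.2 ⟨k, by rw [Nat.card_zpowers, hk]⟩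
  have hN : Subgroup.centralizer ({x} : Set G) ≤
      Subgroup.normalizer ((Subgroup.zpowers x : Subgroup G) : Set G) := by
    intro u hu
    have hu' : Commute u x := Subgroup.mem_centralizer_singleton_iff.1 hu
    rw [Subgroup.mem_normalizer_iff]
    intro h
    refine ⟨fun hh => ?_, fun hh => ?_⟩
    · obtain ⟨m, rfl⟩ := hh
      rw [(hu'.zpow_right m).eq, mul_inv_cancel_right]
      exact ⟨m, rfl⟩
    · obtain ⟨m, hm⟩ := hh
      refine ⟨m, ?_⟩
      have : h = u⁻¹ * x ^ m * u := by
        show h = u⁻¹ * (fun n : ℤ => x ^ n) m * u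
        rw [hm]; group
      rw [this, mul_assoc, ← (hu'.zpow_right m).eq, inv_mul_cancel_left]
  rw [eq_blockOf hM hB hχ] at hnot
  have h := second_main_induced hM _ hb hnot
    (fun ξ _ => exists_induced_brauer (Subgroup.zpowers x) _ hM hP hzC
      (Subgroup.zpowers_le.2 hxC) hN ξ)
    (z := x) (w := (y : G)) (Subgroup.mem_centralizer_singleton_iff.1 y.2).symm hx
    (by rwa [Subgroup.orderOf_coe]) le_rfl
  rw [blockPart_eq_sum b ?_ y]
  · rw [← h]
    refine Finset.sum_congr rfl fun k _ => ?_
    congr 2
    rw [Subgroup.coe_mul, ← mul_assoc, ← mul_assoc, Subgroup.mem_centralizer_singleton_iff.1 k.2]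
  · intro a c
    show (χ : G → ℂ) (x * ((c * a * c⁻¹ : Subgroup.centralizer ({x} : Set G)) : G)) = (χ : G → ℂ) (x * (a : G))
    rw [← irr_isClassFun χ (x * (a : G)) (c : G)]
    congr 1
    have hcx : Commute (c : G) x := Subgroup.mem_centralizer_singleton_iff.1 c.2
    simp only [Subgroup.coe_mul, Subgroup.coe_inv]
    rw [← mul_assoc (c : G) x, hcx.eq]
    simp only [mul_assoc]

end Cfsg.Agent.S0923
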