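import Cfsg.Statements.S0924
import Cfsg.Agent.Lib.Blocks.Principal

set_option autoImplicit false
set_option linter.style.haveILetI false
open Cfsg

namespace Cfsg.Agent.S0924

open CfsgLib.Blocks CfsgLib.CharTheory

/-- Let χ be an irreducible character of the finite group G and g ∈ G, and fix a maximal ideal M of the algebraic integers containing the prime p. If the p-part of g is contained in no defect group of the block of χ, then χ g = 0. -/
theorem result {G : Type*} [Group G] [Finite G] (p : ℕ) [Fact p.Prime] (M : Ideal Cfsg.AlgInt) (hM : Cfsg.IsPModular p M) (χ : Cfsg.IrrCharacter G) (g x : G) (hx : Cfsg.IsPPart p g x) (hD : ∀ D : Subgroup G, Cfsg.IsDefectGroup p M (Cfsg.blockOf M (χ : G → ℂ)) D → x ∉ D) : (χ : G → ℂ) g = 0 := by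
  classical
  haveI := Fintype.ofFinite G
  haveI : Fintype (Subgroup.centralizer ({x} : Set G)) := Fintype.ofFinite _
  obtain ⟨w, rfl, hc, hk, hw⟩ := hx
  have hH := isCentr_singleton x
  have hB := blockOf_isPBlock (M := M) χ
  have hy : ¬ p ∣ orderOf (⟨w, (hH w).2 hc.symm⟩ : Subgroup.centralizer ({x} : Set G)) := by
    rwa [Subgroup.orderOf_mk]
  have h := sec_eq_overBlocks hM hH hk hB χ hy
  rw [ind_of_mem (mem_blockOf_self hM χ), one_mul] at h
  rw [← h, blockPart_apply]
  refine Finset.sum_eq_zero fun ψ hψ => ?_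
  exfalso
  obtain ⟨k, hu⟩ := exists_unit_of_induced hM _ (mem_bset.1 hψ :)
  obtain ⟨D, hD', hle⟩ := exists_defectGroup_ge hM hB hu (isPGroup_zpowers hM.1 hk)
    (Subgroup.zpowers_le.2 (Subgroup.mem_centralizer_singleton_iff.2 ((hH k).1 k.2).symm.eq))
  exact hD D hD' (hle (Subgroup.mem_zpowers x))

end Cfsg.Agent.S0924
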