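import Cfsg.Statements.S0925
import Cfsg.Agent.Lib.Blocks.SecondMain

set_option autoImplicit false
set_option linter.style.haveILetI false
open Cfsg

namespace Cfsg.Agent.S0925

open CfsgLib.Blocks CfsgLib.CharTheory

/-- (i) Let ϑ be a class function on the finite group G and x a p-element, and suppose ϑ vanishes at every element whose p-part is conjugate to x. Then for every block B (relative to a maximal ideal M of the algebraic integers containing p) the B-part of ϑ — the sum over χ ∈ B of the inner product of ϑ with χ, times χ — also vanishes at every such element. (ii) Block orthogonality, its corollary: if the p-parts of g and h are not conjugate, then the sum over χ ∈ B of χ g * χ h⁻¹ is zero for every block B. -/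
theorem result {G : Type*} [Group G] [Finite G] (p : ℕ) [Fact p.Prime] (M : Ideal Cfsg.AlgInt) (hM : Cfsg.IsPModular p M) : (∀ (ϑ : G → ℂ), Cfsg.IsClassFunction G ϑ → ∀ x : G, (∃ k : ℕ, orderOf x = p ^ k) → (∀ u z : G, Cfsg.IsPPart p u z → IsConj x z → ϑ u = 0) → ∀ B : Set (Cfsg.IrrCharacter G), Cfsg.IsPBlock M B → ∀ u z : G, Cfsg.IsPPart p u z → IsConj x z → Cfsg.blockPart B ϑ u = 0) ∧ (∀ g h x y : G, Cfsg.IsPPart p g x → Cfsg.IsPPart p h y → ¬ IsConj x y → ∀ B : Set (Cfsg.IrrCharacter G), Cfsg.IsPBlock M B → ∑ᶠ χ ∈ B, (χ : G → ℂ) g * (χ : G → ℂ) h⁻¹ = 0) := by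
  classical
  haveI := Fintype.ofFinite G
  refine ⟨fun ϑ hϑ x hx hvan B hB u z hz hxz => ?_, fun g h x y hgx hhy hne B hB => ?_⟩
  · have e : Cfsg.blockPart B ϑ u = (Nat.card G : ℂ)⁻¹ *
        ∑ v, ϑ v * ∑ ψ ∈ bset B, (ψ : G → ℂ) u * (ψ : G → ℂ) v⁻¹ := by
      rw [Cfsg.blockPart, finsum_mem_bset]
      simp only [classInner_congr_inst (Fintype.ofFinite G) inferInstance, Cfsg.classInner,
        irr_conjInv, Finset.mul_sum, Finset.sum_mul]
      rw [Finset.sum_comm]
      exact Finset.sum_congr (by ext; simp) fun v _ => Finset.sum_congr rfl fun ψ _ => by ring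
    rw [e, Finset.sum_eq_zero, mul_zero]
    intro v _
    obtain ⟨s, t, hst, hc, hs, ht, -, -⟩ := exists_pPart (Fact.out : p.Prime) v
    have hv : Cfsg.IsPPart p v s := ⟨t, hst, hc, hs, ht⟩
    by_cases hzs : IsConj z s
    · rw [hvan v s hv (hxz.trans hzs), zero_mul]
    · rw [block_orth hM hB hz hv hzs, mul_zero]
  · rw [finsum_mem_bset]
    exact block_orth hM hB hgx hhy hne

end Cfsg.Agent.S0925
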