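import Cfsg.Statements.S0926
import Cfsg.Agent.Lib.Blocks.Principal

set_option autoImplicit false
set_option linter.style.haveILetI false
open Cfsg

namespace Cfsg.Agent.S0926

open CfsgLib.Blocks CfsgLib.CharTheory

/-- Let B be a block of the finite group G with defect group D (relative to a maximal ideal M of the algebraic integers containing p), let χ ∈ B have height zero, and let x be a p-element. Then some conjugate of x lies in D if and only if χ does not vanish on the whole p-section of x (the elements whose p-part is conjugate to x). -/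
theorem result {G : Type*} [Group G] [Finite G] (p : ℕ) [Fact p.Prime] (M : Ideal Cfsg.AlgInt) (hM : Cfsg.IsPModular p M) (B : Set (Cfsg.IrrCharacter G)) (hB : Cfsg.IsPBlock M B) (D : Subgroup G) (hD : Cfsg.IsDefectGroup p M B D) (χ : Cfsg.IrrCharacter G) (hχ : χ ∈ B) (h0 : Cfsg.blockHeight p B (χ : G → ℂ) = 0) (x : G) (hx : ∃ k : ℕ, orderOf x = p ^ k) : (∃ g : G, g * x * g⁻¹ ∈ D) ↔ ∃ u : G, (∃ z : G, Cfsg.IsPPart p u z ∧ IsConj x z) ∧ (χ : G → ℂ) u ≠ 0 := by
  classical
  haveI := Fintype.ofFinite G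
  constructor
  · rintro ⟨g, hg⟩
    set x' := g * x * g⁻¹ with hx'
    have hx'o : ∃ k : ℕ, orderOf x' = p ^ k := hx.imp fun k hk => by rw [hx', conj_orderOf, hk]
    haveI : Fintype (Subgroup.centralizer ({x'} : Set G)) := Fintype.ofFinite _
    have hH := isCentr_singleton x'
    obtain ⟨d, hd, S, rfl⟩ := hD
    obtain ⟨r, -, hr⟩ := hg
    have hcomm : Commute x' d := by
      have := Subgroup.mem_centralizer_singleton_iff.1 r.2
      rw [show (r : G) = x' from hr] at this
      exact this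
    have hk : d ∈ Subgroup.centralizer ((Subgroup.zpowers x' : Subgroup G) : Set G) := by
      rintro _ ⟨m, rfl⟩
      exact hcomm.zpow_left m
    obtain ⟨b, hb⟩ := exists_inducing hM (Subgroup.zpowers x')
      (Subgroup.centralizer ({x'} : Set G)) (isPGroup_zpowers hM.1 hx'o)
      (Subgroup.zpowers_le.2 hH.self_mem) hH.centralizer_zpowers_le hH.le_normalizer hB hk hd.2.1
    obtain ⟨y, hy, hne⟩ := exists_blockPart_ne_zero hM hH hx'o hb hχ h0
    rw [blockPart_regular hM (fun ψ hψ => (eq_blockOf hM hb.1 hψ).ge) _ hy] at hne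
    obtain ⟨c, hc, hne'⟩ := Finset.exists_ne_zero_of_sum_ne_zero (right_ne_zero_of_mul hne)
    refine ⟨x' * (c : G), ⟨x', ⟨(c : G), rfl, ((hH c).1 c.2).symm, hx'o, ?_⟩, ?_⟩,
      left_ne_zero_of_mul hne'⟩
    · rw [Subgroup.orderOf_coe]; exact (Finset.mem_filter.1 hc).2
    · exact isConj_iff.2 ⟨g, rfl⟩
  · rintro ⟨u, ⟨z, hz, hxz⟩, hne⟩
    by_contra hcon
    push Not at hcon
    apply hne
    haveI : Fintype (Subgroup.centralizer ({z} : Set G)) := Fintype.ofFinite _
    obtain ⟨w, rfl, hc, hk, hw⟩ := hz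
    have hH := isCentr_singleton z
    have hy : ¬ p ∣ orderOf (⟨w, (hH w).2 hc.symm⟩ : Subgroup.centralizer ({z} : Set G)) := by
      rwa [Subgroup.orderOf_mk]
    have h := sec_eq_overBlocks hM hH hk hB χ hy
    rw [ind_of_mem hχ, one_mul] at h
    rw [← h, blockPart_apply]
    refine Finset.sum_eq_zero fun ψ hψ => ?_
    exfalso
    obtain ⟨k, hu⟩ := exists_unit_of_induced hM _ (mem_bset.1 hψ :)
    obtain ⟨E, hE, hle⟩ := exists_defectGroup_ge hM hB hu (isPGroup_zpowers hM.1 hk)
      (Subgroup.zpowers_le.2 (Subgroup.mem_centralizer_singleton_iff.2 ((hH k).1 k.2).symm.eq))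
    obtain ⟨a, ha⟩ := defectGroup_conjugate hM hB hE hD
    obtain ⟨g, rfl⟩ := isConj_iff.1 hxz
    refine hcon (a * g) ?_
    rw [← ha, conjMap_mem_iff]
    have := hle (Subgroup.mem_zpowers (g * x * g⁻¹))
    simpa [mul_assoc] using this

end Cfsg.Agent.S0926
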