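import Cfsg.Statements.S0944
import Cfsg.Agent.Lib.Blocks.Central

set_option autoImplicit false
open Cfsg CfsgLib.CharTheory CfsgLib.Blocks
open scoped ComplexConjugate

set_option linter.unusedVariables false

namespace Cfsg.Agent.S0944

/-- Let χ be an irreducible character of the finite group G and u an involution. Then χ u is a rational integer n with n ≡ χ 1 (mod 2). -/
theorem result {G : Type*} [Group G] [Finite G] (χ : Cfsg.IrrCharacter G) (u : G) (hu : orderOf u = 2) : ∃ n : ℤ, (χ : G → ℂ) u = (n : ℂ) ∧ (2 : ℤ) ∣ (Cfsg.charDegree (χ : G → ℂ) : ℤ) - n := by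
  classical
  haveI := Fintype.ofFinite G
  obtain ⟨χ, hirr⟩ := χ
  obtain ⟨n, ρ, hρ, rfl⟩ := hirr
  set E : (Fin n → ℂ) →ₗ[ℂ] (Fin n → ℂ) := (2 : ℂ)⁻¹ • (1 + ρ u) with he
  have hidem : IsIdempotentElem E := by
    have h1 : ρ u * ρ u = 1 := by
      rw [← map_mul, ← pow_two, ← hu, pow_orderOf_eq_one, map_one]
    show E * E = E
    rw [he, smul_mul_smul_comm, show (1 + ρ u) * (1 + ρ u) = (2 : ℂ) • (1 + ρ u) by
      rw [mul_add, add_mul, add_mul, h1, one_mul, one_mul, mul_one, two_smul]; abel, smul_smul]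
    norm_num
  have h1 := (LinearMap.IsIdempotentElem.isProj_range E hidem).trace
  rw [he, map_smul, map_add, LinearMap.trace_one, Module.finrank_fin_fun, smul_eq_mul] at h1
  refine ⟨2 * (Module.finrank ℂ (LinearMap.range E) : ℤ) - n, ?_, ?_⟩
  · show LinearMap.trace ℂ _ (ρ u) = _
    rw [he]
    push_cast
    linear_combination 2 * h1
  · have hd : Cfsg.charDegree ρ.character = n := by
      have h2 := irr_charDegree_cast (⟨_, n, ρ, hρ, rfl⟩ : IrrCharacter G)
      have h3 : ρ.character 1 = (n : ℂ) := by rw [Representation.char_one, Module.finrank_fin_fun]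
      exact_mod_cast h2.trans h3
    show (2 : ℤ) ∣ (Cfsg.charDegree ρ.character : ℤ) - _
    rw [hd]
    exact ⟨(n : ℤ) - Module.finrank ℂ (LinearMap.range E), by ring⟩

end Cfsg.Agent.S0944
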