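import Cfsg.Statements.S0945
import Cfsg.Agent.Lib.Blocks.Homocyclic

set_option autoImplicit false
open Cfsg CfsgLib.Blocks.Homocyclic


set_option linter.unusedVariables false

namespace Cfsg.Agent.S0945

/-- Let P be a Sylow 2-subgroup of the finite group G isomorphic to Z/2^m × Z/2^m with m ≥ 1. Then (i) the index of C_G(P) in N_G(P) is 1 or 3, and (ii) if it is not 1, then for every z ≠ 1 in P, C_G(z) ∩ N_G(P) = C_G(P). -/
theorem result {G : Type*} [Group G] [Finite G] (P : Sylow 2 G) (m : ℕ) (hm : 1 ≤ m) (e : (P : Subgroup G) ≃* Multiplicative (ZMod (2 ^ m) × ZMod (2 ^ m))) : ((Subgroup.centralizer (P : Set G)).relIndex (Subgroup.normalizer (P : Set G)) = 1 ∨ (Subgroup.centralizer (P : Set G)).relIndex (Subgroup.normalizer (P : Set G)) = 3) ∧ ((Subgroup.centralizer (P : Set G)).relIndex (Subgroup.normalizer (P : Set G)) ≠ 1 → ∀ z ∈ (P : Subgroup G), z ≠ 1 → Subgroup.centralizer ({z} : Set G) ⊓ Subgroup.normalizer (P : Set G) = Subgroup.centralizer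 (P : Set G)) := by
  classical
  haveI : Fact (Nat.Prime 2) := ⟨Nat.prime_two⟩
  refine ⟨(action_facts P hm e).2, fun h z hz hz1 => le_antisymm ?_ ?_⟩
  · intro n hn
    obtain ⟨hnz, hnN⟩ := Subgroup.mem_inf.1 hn
    by_contra hC
    obtain ⟨k, hk⟩ := IsPGroup.iff_orderOf.1 P.2 ⟨z, hz⟩
    rw [← Subgroup.orderOf_coe] at hk
    have hk' : orderOf z = 2 ^ k := hk
    rcases k with _ | k
    · exact hz1 (orderOf_eq_one_iff.1 hk')
    · have ht1 : z ^ (2 ^ k) ≠ 1 :=
        pow_ne_one_of_lt_orderOf (by positivity) (by rw [hk']; exact Nat.pow_lt_pow_right (by norm_num) (by omega))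
      have ht2 : z ^ (2 ^ k) * z ^ (2 ^ k) = 1 := by
        rw [← pow_add, ← two_mul, ← pow_succ', ← hk', pow_orderOf_eq_one]
      refine (exists_transfer P hm e h).1 ⟨n, hnN⟩ hC ⟨z ^ (2 ^ k), pow_mem hz _, ht2, ht1⟩ (Subtype.ext ?_)
      show n * z ^ (2 ^ k) * n⁻¹ = z ^ (2 ^ k)
      rw [← conj_pow, Subgroup.mem_centralizer_singleton_iff.1 hnz, mul_inv_cancel_right]
  · intro c hc
    exact Subgroup.mem_inf.2 ⟨Subgroup.mem_centralizer_singleton_iff.2
      (Subgroup.mem_centralizer_iff.1 hc z hz).symm, Subgroup.centralizer_le_normalizer _ hc⟩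

end Cfsg.Agent.S0945
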