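import Cfsg.Statements.S0946
import Cfsg.Agent.Lib.Blocks.Homocyclic

set_option autoImplicit false
open Cfsg CfsgLib.Blocks.Homocyclic


set_option linter.unusedVariables false

namespace Cfsg.Agent.S0946

/-- Let P be a Sylow 2-subgroup of the finite group G isomorphic to Z/2^m × Z/2^m with m ≥ 1. Then either P has a normal complement in G, or all involutions of G are conjugate. -/
theorem result {G : Type*} [Group G] [Finite G] (P : Sylow 2 G) (m : ℕ) (hm : 1 ≤ m) (e : (P : Subgroup G) ≃* Multiplicative (ZMod (2 ^ m) × ZMod (2 ^ m))) : (∃ N : Subgroup G, N.Normal ∧ Subgroup.IsComplement' N (P : Subgroup G)) ∨ ∀ s t : G, orderOf s = 2 → orderOf t = 2 → IsConj s t := by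
  classical
  haveI : Fact (Nat.Prime 2) := ⟨Nat.prime_two⟩
  by_cases h : (Subgroup.centralizer (P : Set G)).relIndex (Subgroup.normalizer (P : Set G)) = 1
  · left
    have hle := Subgroup.relIndex_eq_one.1 h
    exact ⟨_, MonoidHom.normal_ker _, MonoidHom.ker_transferSylow_isComplement' P hle⟩
  · right
    have key : ∀ s : G, orderOf s = 2 → ∃ z : CfsgLib.Blocks.Homocyclic.Inv P, IsConj s z.1 := by
      intro s hs
      have hp : IsPGroup 2 (Subgroup.zpowers s) :=
        IsPGroup.of_card (n := 1) (by rw [Nat.card_zpowers, hs, pow_one])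
      obtain ⟨Q, hQ⟩ := hp.exists_le_sylow
      obtain ⟨g, hg⟩ := MulAction.exists_smul_eq G Q P
      have hmem : g * s * g⁻¹ ∈ (P : Subgroup G) := by
        rw [← hg, Sylow.coe_subgroup_smul]
        exact ⟨s, hQ (Subgroup.mem_zpowers s), rfl⟩
      have hs1 : s ≠ 1 := fun hh => by rw [hh, orderOf_one] at hs; norm_num at hs
      have hs2 : g * s * g⁻¹ * (g * s * g⁻¹) = 1 := by
        rw [show g * s * g⁻¹ * (g * s * g⁻¹) = g * s ^ 2 * g⁻¹ by rw [pow_two]; group, ← hs,
          pow_orderOf_eq_one, mul_one, mul_inv_cancel]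
      exact ⟨⟨_, hmem, hs2, fun hh => hs1 (conj_eq_one_iff.1 hh)⟩, isConj_iff.2 ⟨g, rfl⟩⟩
    intro s t hs ht
    obtain ⟨z, hz⟩ := key s hs
    obtain ⟨w, hw⟩ := key t ht
    obtain ⟨n, hn⟩ := (exists_transfer P hm e h).2 z w
    exact hz.trans ((isConj_iff.2 ⟨(n : G), congrArg Subtype.val hn⟩).trans hw.symm)

end Cfsg.Agent.S0946
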