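import Cfsg.Statements.S0950
import Cfsg.Agent.Lib.Blocks.QuaternionEight

set_option autoImplicit false
open Cfsg

namespace Cfsg.Agent.S0950

/-- Let S be a Sylow 2-subgroup of the finite group G that is isomorphic to the quaternion group of order 8, and suppose S has no normal complement in G. Then any two subgroups of order 4 of S are conjugate by an element of the normalizer of S. -/
theorem result {G : Type*} [Group G] [Finite G] (S : Sylow 2 G) (e : (S : Subgroup G) ≃* QuaternionGroup 2) (hnc : ∀ N : Subgroup G, N.Normal → ¬ Subgroup.IsComplement' N (S : Subgroup G)) (A B : Subgroup G) (hA : A ≤ S) (hB : B ≤ S) (hA4 : Nat.card A = 4) (hB4 : Nat.card B = 4) : ∃ n ∈ Subgroup.normalizer ((S : Subgroup G) : Set G), B = A.map (MulAut.conj n).toMonoidHom := by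
  classical
  have : Fact (Nat.Prime 2) := ⟨Nat.prime_two⟩
  have hnc' : ¬ HasNormalPComplement 2 G := by
    rintro ⟨P, N, hN, hc⟩
    have hP : Nat.card (S : Subgroup G) = Nat.card (P : Subgroup G) := by
      rw [Sylow.card_eq_multiplicity S, Sylow.card_eq_multiplicity P]
    refine hnc N hN (Subgroup.isComplement'_of_coprime ?_ ?_)
    · rw [hP]; exact hc.card_mul_card
    · rw [hP, ← hc.index_eq_card, Sylow.card_eq_multiplicity P]
      exact (((Nat.prime_two.coprime_iff_not_dvd).2 P.not_dvd_index).pow_left _).symm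
  -- a subgroup of order four is generated by an element whose square is not one
  have gen : ∀ H : Subgroup G, H ≤ (S : Subgroup G) → Nat.card H = 4 →
      ∃ a : G, a ∈ (S : Subgroup G) ∧ a * a ≠ 1 ∧ H = Subgroup.zpowers a := by
    intro H hHS hH4
    obtain ⟨a, haH, ha⟩ : ∃ a ∈ H, a * a ≠ 1 := by
      by_contra hall
      push Not at hall
      let z : G := (e.symm (QuaternionGroup.a 2) : (S : Subgroup G))
      have hle : (H : Set G) ⊆ ({1, z} : Set G) := by
        intro a ha
        rcases CfsgLib.Blocks.QuaternionEight.q8_inv (e ⟨a, hHS ha⟩)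
          (by rw [← map_mul, map_eq_one_iff e e.injective]; exact Subtype.ext (hall a ha)) with h | h
        · exact Or.inl (congrArg Subtype.val ((map_eq_one_iff e e.injective).1 h))
        · exact Or.inr (congrArg Subtype.val ((e.symm_apply_apply _).symm.trans (congrArg e.symm h)))
      have h2 : (H : Set G).ncard ≤ 2 :=
        (Set.ncard_le_ncard hle).trans ((Set.ncard_insert_le _ _).trans (by simp))
      rw [← Nat.card_coe_set_eq] at h2
      have : Nat.card H ≤ 2 := h2
      omega
    refine ⟨a, hHS haH, ha, (Subgroup.eq_of_le_of_card_ge (Subgroup.zpowers_le.2 haH) ?_).symm⟩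
    rw [Nat.card_zpowers, hH4]
    have h1 : orderOf a ∣ 2 ^ 2 := by
      have h := orderOf_dvd_natCard (⟨a, haH⟩ : H)
      rw [hH4, Subgroup.orderOf_mk] at h
      exact h
    obtain ⟨j, hj, hje⟩ := (Nat.dvd_prime_pow Nat.prime_two).1 h1
    have hj2 : j = 2 := by
      by_contra hne
      have hd : orderOf a ∣ 2 := by
        rw [hje, show (2 : ℕ) = 2 ^ 1 from rfl]
        exact pow_dvd_pow 2 (by omega)
      exact ha (by rw [← pow_two]; exact orderOf_dvd_iff_pow_eq_one.1 hd)
    rw [hje, hj2]; norm_num
  obtain ⟨a, haS, ha2, rfl⟩ := gen A hA hA4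
  obtain ⟨b, hbS, hb2, rfl⟩ := gen B hB hB4
  obtain ⟨n, hn, h⟩ :=
    CfsgLib.Blocks.QuaternionEight.normalizer_transitive e hnc' a b haS hbS ha2 hb2
  refine ⟨n, hn, ?_⟩
  rw [MonoidHom.map_zpowers]
  show Subgroup.zpowers b = Subgroup.zpowers (n * a * n⁻¹)
  rcases h with h | h
  · rw [h]
  · rw [h, Subgroup.zpowers_inv]

end Cfsg.Agent.S0950
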