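import Cfsg.Statements.S0953
import Cfsg.Agent.Lib.Blocks.FullDefect

set_option autoImplicit false
open Cfsg CfsgLib.CharTheory CfsgLib.Blocks CfsgLib.Blocks.FullDefect
open scoped ComplexConjugate

set_option linter.unusedVariables false

namespace Cfsg.Agent.S0953

/-- Let P be a Sylow p-subgroup of the finite group G with normalizer N, and fix a maximal ideal M of the algebraic integers containing p. The number of blocks of G having P as a defect group equals the number of conjugacy classes of N consisting of elements of order prime to p that centralize P. -/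
theorem result {G : Type*} [Group G] [Finite G] (p : ℕ) [Fact p.Prime] (M : Ideal Cfsg.AlgInt) (hM : Cfsg.IsPModular p M) (P : Sylow p G) : Nat.card {B : Set (Cfsg.IrrCharacter G) // Cfsg.IsPBlock M B ∧ Cfsg.IsDefectGroup p M B (P : Subgroup G)} = Nat.card {C : ConjClasses (Subgroup.normalizer ((P : Subgroup G) : Set G)) // ∀ n : Subgroup.normalizer ((P : Subgroup G) : Set G), ConjClasses.mk n = C → ¬ p ∣ orderOf n ∧ (n : G) ∈ Subgroup.centralizer ((P : Subgroup G) : Set G)} := by
  classical
  haveI := Fintype.ofFinite G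
  set N := Subgroup.normalizer ((P : Subgroup G) : Set G) with hN
  haveI := Fintype.ofFinite N
  have hPN : (P : Subgroup G) ≤ N := Subgroup.le_normalizer
  set P' : Sylow p N := P.subtype hPN with hP'
  have hP'coe : (P' : Subgroup N) = (P : Subgroup G).subgroupOf N := rfl
  haveI : (P' : Subgroup N).Normal :=
    ⟨fun x hx n => (Subgroup.mem_normalizer_iff.1 n.2 x).1 hx⟩
  have hiff : ∀ n : N, (n : G) ∈ Subgroup.centralizer ((P : Subgroup G) : Set G) ↔
      n ∈ Subgroup.centralizer ((P' : Subgroup N) : Set N) := fun n => by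
    simp only [Subgroup.mem_centralizer_iff]
    exact ⟨fun h u hu => Subtype.ext (h u hu),
      fun h u hu => congrArg Subtype.val (h ⟨u, hPN hu⟩ hu)⟩
  have hall : ∀ b : Set (IrrCharacter N), IsPBlock M b →
      IsDefectGroup p M b ((P : Subgroup G).subgroupOf N) := by
    intro b hb
    obtain ⟨D, hD⟩ := exists_defectGroup hM hb
    have hle : (P' : Subgroup N) ≤ D :=
      (CfsgLib.le_pCore P'.2).trans (Cfsg.Agent.S0912.result p M hM b hb D hD)
    rwa [← hP'coe, ← P'.is_maximal' (defectGroup_isPGroup hD) hle]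
  obtain ⟨hup, hdown⟩ := Cfsg.Agent.S0920.result p M hM (P : Subgroup G) P.2
  choose F hF hFD hFind using fun b : {b : Set (IrrCharacter N) // IsPBlock M b} =>
    hup b.1 b.2 (hall b.1 b.2)
  have e : {b : Set (IrrCharacter N) // IsPBlock M b} ≃
      {B : Set (IrrCharacter G) // IsPBlock M B ∧ IsDefectGroup p M B (P : Subgroup G)} :=
    Equiv.ofBijective (fun b => ⟨F b, hF b, hFD b⟩)
      ⟨fun b b' h => Subtype.ext ((hdown (F b) (hF b) (hFD b)).unique
          ⟨b.2, hall b.1 b.2, hFind b⟩
          ⟨b'.2, hall b'.1 b'.2, by rw [show F b = F b' from congrArg Subtype.val h]; exact hFind b'⟩),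
        fun B => by
          obtain ⟨b, ⟨hb, -, hind⟩, -⟩ := hdown B.1 B.2.1 B.2.2
          exact ⟨⟨b, hb⟩, Subtype.ext (isInducedBlock_unique hM (hFind ⟨b, hb⟩) hind)⟩⟩
  rw [← Nat.card_congr e, card_blocks_normal_sylow hM P']
  refine Nat.card_congr (Equiv.subtypeEquivRight fun C => forall₂_congr fun n _ => ?_)
  exact and_congr_right fun _ => (hiff n).symm

end Cfsg.Agent.S0953
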