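import Cfsg.Statements.S0955
import Cfsg.Agent.Lib.Blocks.Induced
import Cfsg.Agent.Lib.Basic

set_option autoImplicit false
set_option linter.style.haveILetI false
open Cfsg

namespace Cfsg.Agent.S0955

open CfsgLib.Blocks CfsgLib.CharTheory

/-- Let D be a defect group of a block of the finite group G relative to a maximal ideal M of the algebraic integers containing the prime p. Then D is the largest normal p-subgroup of its own normalizer: O_p(N_G(D)) = D. -/
theorem result {G : Type*} [Group G] [Finite G] (p : ℕ) [Fact p.Prime] (M : Ideal Cfsg.AlgInt) (hM : Cfsg.IsPModular p M) (B : Set (Cfsg.IrrCharacter G)) (hB : Cfsg.IsPBlock M B) (D : Subgroup G) (hD : Cfsg.IsDefectGroup p M B D) : (Cfsg.pCore p (Subgroup.normalizer (D : Set G))).map (Subgroup.normalizer (D : Set G)).subtype = D := by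
  haveI := Fintype.ofFinite G
  set N := Subgroup.normalizer (D : Set G)
  haveI := Fintype.ofFinite N
  obtain ⟨c, ⟨hc, hcD, -⟩, -⟩ := firstMain_down (H := N) hM le_rfl hB hD
  haveI hn : (D.subgroupOf N).Normal :=
    ⟨fun n hn g => (Subgroup.mem_normalizer_iff.1 g.2 n).1 hn⟩
  have h1 : D.subgroupOf N ≤ Cfsg.pCore p N :=
    le_sSup ⟨hn, defectGroup_isPGroup hcD⟩
  have hpc : (Cfsg.pCore p N).Normal ∧ IsPGroup p (Cfsg.pCore p N) :=
    CfsgLib.sSup_prop_of_closed_sup (fun A : Subgroup N => A.Normal ∧ IsPGroup p A)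
      ⟨inferInstance, IsPGroup.of_bot⟩ (fun _ _ a b => CfsgLib.pCore_mem_sup p a b) fun _ h => h
  haveI := hpc.1
  obtain ⟨g, hg⟩ := exists_defectClass hM hc
  have hgC := mem_centralizer_normal hM hc hpc.2 hg.2.1
  obtain ⟨E, hE, hle⟩ := exists_defectGroup_ge hM hc hg.2.1 hpc.2
    (fun r hr => Subgroup.mem_centralizer_singleton_iff.2 (hgC r hr))
  obtain ⟨x, hx⟩ := defectGroup_conjugate hM hc hcD hE
  rw [map_conj_normalizer (by rw [Subgroup.normalizer_eq_top]; trivial)] at hx
  rw [le_antisymm (hx ▸ hle) h1, Subgroup.map_subgroupOf_eq_of_le Subgroup.le_normalizer]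

end Cfsg.Agent.S0955
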