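import Cfsg.Statements.S0957


set_option autoImplicit false
open Cfsg 


set_option linter.unusedVariables false

namespace Cfsg.Agent.S0957

/-- Let P be a Sylow p-subgroup of the finite group G, let g, h ∈ G and let p ^ d be the order of a Sylow p-subgroup of the centralizer of g. Then the number of pairs (y, z) with y conjugate to g, z conjugate to h and z * y⁻¹ ∈ P is divisible by the order of P divided by p ^ d. -/
theorem result {G : Type*} [Group G] [Finite G] (p : ℕ) [Fact p.Prime] (P : Sylow p G) (g h : G) (S : Sylow p (Subgroup.centralizer ({g} : Set G))) : Nat.card P / Nat.card S ∣ Nat.card {yz : G × G // IsConj g yz.1 ∧ IsConj h yz.2 ∧ yz.2 * yz.1⁻¹ ∈ (P : Subgroup G)} := by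
  classical
  haveI := Fintype.ofFinite G
  let α := {yz : G × G // IsConj g yz.1 ∧ IsConj h yz.2 ∧ yz.2 * yz.1⁻¹ ∈ (P : Subgroup G)}
  have hst : ∀ (u : (P : Subgroup G)) (t : α), IsConj g ((u : G) * t.1.1 * (u : G)⁻¹) ∧
      IsConj h ((u : G) * t.1.2 * (u : G)⁻¹) ∧
      ((u : G) * t.1.2 * (u : G)⁻¹) * ((u : G) * t.1.1 * (u : G)⁻¹)⁻¹ ∈ (P : Subgroup G) := by
    intro u t
    refine ⟨t.2.1.trans (isConj_iff.2 ⟨u, rfl⟩), t.2.2.1.trans (isConj_iff.2 ⟨u, rfl⟩), ?_⟩
    rw [show (u : G) * t.1.2 * (u : G)⁻¹ * ((u : G) * t.1.1 * (u : G)⁻¹)⁻¹ =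
      (u : G) * (t.1.2 * t.1.1⁻¹) * (u : G)⁻¹ by group]
    exact mul_mem (mul_mem u.2 t.2.2.2) (inv_mem u.2)
  letI : MulAction (P : Subgroup G) α :=
    { smul := fun u t => ⟨((u : G) * t.1.1 * (u : G)⁻¹, (u : G) * t.1.2 * (u : G)⁻¹), hst u t⟩
      one_smul := fun t => Subtype.ext (show (((1 : G) * t.1.1 * (1 : G)⁻¹,
        (1 : G) * t.1.2 * (1 : G)⁻¹) : G × G) = t.1 by simp)
      mul_smul := fun a b t => Subtype.ext (show ((((a : G) * (b : G)) * t.1.1 * ((a : G) * (b : G))⁻¹,
        ((a : G) * (b : G)) * t.1.2 * ((a : G) * (b : G))⁻¹) : G × G) =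
        ((a : G) * ((b : G) * t.1.1 * (b : G)⁻¹) * (a : G)⁻¹,
          (a : G) * ((b : G) * t.1.2 * (b : G)⁻¹) * (a : G)⁻¹) by
        refine Prod.ext ?_ ?_ <;> group) }
  show _ ∣ Nat.card α
  rw [Nat.card_congr (MulAction.selfEquivSigmaOrbits (P : Subgroup G) α), Nat.card_sigma]
  refine Finset.dvd_sum fun o _ => ?_
  obtain ⟨a, ha⟩ := P.2.exists_card_eq
  obtain ⟨d, hd⟩ := S.2.exists_card_eq
  obtain ⟨j, hj⟩ := P.2.card_orbit o.out
  obtain ⟨i, hi⟩ := (P.2.to_subgroup (MulAction.stabilizer (P : Subgroup G) o.out)).exists_card_eq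
  have hos : Nat.card (MulAction.orbit (P : Subgroup G) o.out) *
      Nat.card (MulAction.stabilizer (P : Subgroup G) o.out) = Nat.card (P : Subgroup G) := by
    rw [← Nat.card_prod]
    exact Nat.card_congr (MulAction.orbitProdStabilizerEquivGroup _ _)
  obtain ⟨k, hk⟩ := isConj_iff.1 o.out.2.1
  have hle : Nat.card (MulAction.stabilizer (P : Subgroup G) o.out) ∣ Nat.card (S : Subgroup (Subgroup.centralizer ({g} : Set G))) := by
    set f : MulAction.stabilizer (P : Subgroup G) o.out → Subgroup.centralizer ({g} : Set G) :=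
      fun u => ⟨k⁻¹ * ((u : (P : Subgroup G)) : G) * k, by
        rw [Subgroup.mem_centralizer_singleton_iff]
        have h1 : ((u : (P : Subgroup G)) : G) * o.out.1.1 * ((u : (P : Subgroup G)) : G)⁻¹ =
            o.out.1.1 := congrArg (fun z : α => z.1.1) u.2
        rw [mul_inv_eq_iff_eq_mul, ← hk] at h1
        calc k⁻¹ * ((u : (P : Subgroup G)) : G) * k * g
            = k⁻¹ * (((u : (P : Subgroup G)) : G) * (k * g * k⁻¹)) * k := by group
          _ = g * (k⁻¹ * ((u : (P : Subgroup G)) : G) * k) := by rw [h1]; group⟩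
    let F : MulAction.stabilizer (P : Subgroup G) o.out →* Subgroup.centralizer ({g} : Set G) :=
      MonoidHom.mk' f fun x y => Subtype.ext (by
        show k⁻¹ * (((x : (P : Subgroup G)) : G) * ((y : (P : Subgroup G)) : G)) * k =
          (k⁻¹ * ((x : (P : Subgroup G)) : G) * k) * (k⁻¹ * ((y : (P : Subgroup G)) : G) * k)
        group)
    have hinj : Function.Injective F := fun x y hxy => Subtype.ext (Subtype.ext (by
      have := congrArg Subtype.val hxy
      exact mul_left_cancel (mul_right_cancel this)))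
    have hFp : IsPGroup p F.range := by
      refine IsPGroup.of_card (n := i) ?_
      rw [← Nat.card_congr (MonoidHom.ofInjective hinj).toEquiv, hi]
    obtain ⟨T, hT⟩ := hFp.exists_le_sylow
    rw [Nat.card_congr (MonoidHom.ofInjective hinj).toEquiv,
      Sylow.card_eq_multiplicity S, ← Sylow.card_eq_multiplicity T]
    exact Subgroup.card_dvd_of_le hT
  have hpp := (Fact.out : p.Prime)
  have hSP : Nat.card (S : Subgroup (Subgroup.centralizer ({g} : Set G))) ∣ Nat.card (P : Subgroup G) := by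
    rw [Sylow.card_eq_multiplicity S, Sylow.card_eq_multiplicity P]
    exact pow_dvd_pow p ((Nat.factorization_le_iff_dvd Nat.card_pos.ne' Nat.card_pos.ne').2
      (Subgroup.card_subgroup_dvd_card _) p)
  show Nat.card (P : Subgroup G) / Nat.card (S : Subgroup (Subgroup.centralizer ({g} : Set G))) ∣
    Nat.card (MulAction.orbit (P : Subgroup G) o.out)
  rw [hi, hd] at hle
  rw [ha, hd] at hSP
  rw [hi, hj, ha, ← pow_add] at hos
  have e1 := Nat.pow_right_injective hpp.two_le hos
  rw [ha, hd, hj, Nat.pow_div ((Nat.pow_dvd_pow_iff_le_right hpp.one_lt).1 hSP) hpp.pos]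
  have e2 := (Nat.pow_dvd_pow_iff_le_right hpp.one_lt).1 hle
  exact pow_dvd_pow p (by omega)

end Cfsg.Agent.S0957
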