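import Cfsg.Statements.S0958
import Cfsg.Agent.Lib.Blocks.Induced

set_option autoImplicit false
set_option linter.style.haveILetI false
open Cfsg

namespace Cfsg.Agent.S0958

open CfsgLib.Blocks CfsgLib.CharTheory

/-- Let P be a p-subgroup of the finite group G and H a subgroup with P ⊔ C_G(P) ≤ H ≤ N_G(P); fix a maximal ideal M of the algebraic integers containing p. Then a block B of G is induced by some block of H if and only if some conjugate of P is contained in a defect group of B. -/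
theorem result {G : Type*} [Group G] [Finite G] (p : ℕ) [Fact p.Prime] (M : Ideal Cfsg.AlgInt) (hM : Cfsg.IsPModular p M) (P H : Subgroup G) (hP : IsPGroup p P) (hPH : P ⊔ Subgroup.centralizer (P : Set G) ≤ H) (hHN : H ≤ Subgroup.normalizer (P : Set G)) (B : Set (Cfsg.IrrCharacter G)) (hB : Cfsg.IsPBlock M B) : (∃ b : Set (Cfsg.IrrCharacter H), Cfsg.IsInducedBlock M H b B) ↔ ∃ D : Subgroup G, Cfsg.IsDefectGroup p M B D ∧ ∃ x : G, P.map (MulAut.conj x).toMonoidHom ≤ D := by
  haveI := Fintype.ofFinite G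
  haveI := Fintype.ofFinite H
  have hPH' : P ≤ H := le_sup_left.trans hPH
  have hC : Subgroup.centralizer (P : Set G) ≤ H := le_sup_right.trans hPH
  constructor
  · rintro ⟨b, hind⟩
    obtain ⟨t, ht⟩ := exists_defectClass hM hind.1
    haveI : (P.subgroupOf H).Normal :=
      ⟨fun n hn g => (Subgroup.mem_normalizer_iff.1 (hHN g.2) n).1 hn⟩
    have hP' : IsPGroup p (P.subgroupOf H) :=
      hP.of_equiv (Subgroup.subgroupOfEquivOfLe hPH').symm
    obtain ⟨E, hE, hle⟩ := exists_defectGroup_ge hM hind.1 ht.2.1 hP'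
      (fun r hr => Subgroup.mem_centralizer_singleton_iff.2
        (mem_centralizer_normal hM hind.1 hP' ht.2.1 r hr))
    obtain ⟨D, hD, hED⟩ := defect_le_of_induced hM hind hE
    refine ⟨D, hD, 1, ?_⟩
    rw [conjMap_one]
    refine le_trans ?_ hED
    rw [← Subgroup.map_subgroupOf_eq_of_le hPH']
    exact Subgroup.map_mono hle
  · rintro ⟨D, hD, x, hx⟩
    have hD' := isDefectGroup_conj hD x⁻¹
    have hPD : P ≤ D.map (MulAut.conj x⁻¹).toMonoidHom := fun r hr => by
      rw [conjMap_mem_iff, inv_inv]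
      exact hx ⟨r, hr, by simp⟩
    obtain ⟨e, hmax⟩ := exists_maximal_at hM hB hD'
    obtain ⟨f, ⟨hf, hle⟩, -⟩ := existsUnique_subpair hM hmax.1.1.1 hmax.1.1.2 P hPD
    have hpair := (pairOf_subpair_iff hM (a := ⟨P, f⟩) (b := ⟨_, e⟩) hle B).2 hmax.1
    obtain ⟨a, ha, hae, hab⟩ := exists_upIdx (H := H) hPH' hC hf
    obtain ⟨b, hb⟩ := exists_block_of_pair hM (upIdx_pGroup hae hP) hab
    exact ⟨b, (induced_iff_pair hM hP hPH' hC hHN hae hb hB).2 hpair⟩

end Cfsg.Agent.S0958
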