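import Cfsg.Statements.S0959
import Cfsg.Agent.Lib.Blocks.Induced

set_option autoImplicit false
set_option linter.style.haveILetI false
open Cfsg

namespace Cfsg.Agent.S0959

open CfsgLib.Blocks CfsgLib.CharTheory

/-- Let B be a block of the finite group G with defect group D (relative to a maximal ideal M of the algebraic integers containing the prime p), and let P be a p-subgroup. Then there is an element g whose idempotent coefficient for B is a local integer outside the local ideal at M and which has a conjugate centralizing P, if and only if some conjugate of P is contained in D. -/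
theorem result {G : Type*} [Group G] [Finite G] (p : ℕ) [Fact p.Prime] (M : Ideal Cfsg.AlgInt) (hM : Cfsg.IsPModular p M) (B : Set (Cfsg.IrrCharacter G)) (hB : Cfsg.IsPBlock M B) (D : Subgroup G) (hD : Cfsg.IsDefectGroup p M B D) (P : Subgroup G) (hP : IsPGroup p P) : (∃ g : G, Cfsg.MemLocalRing M (Cfsg.blockCoeff B g) ∧ ¬ Cfsg.MemLocalIdeal M (Cfsg.blockCoeff B g) ∧ ∃ c : G, IsConj g c ∧ c ∈ Subgroup.centralizer (P : Set G)) ↔ ∃ x : G, P.map (MulAut.conj x).toMonoidHom ≤ D := by
  haveI := Fintype.ofFinite G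
  constructor
  · rintro ⟨g, -, hg, c, hgc, hc⟩
    have hu : ¬ Cfsg.MemLocalIdeal M (Cfsg.blockCoeff B c) := by
      obtain ⟨y, rfl⟩ := isConj_iff.1 hgc
      rwa [blockCoeff_isClassFunction B g y]
    obtain ⟨e, he⟩ := exists_pair_of_unit hM hB hP hc hu
    obtain ⟨⟨R, g'⟩, hle, hmax⟩ := exists_maximal_ge hM ⟨P, e⟩ he
    obtain ⟨x, hx⟩ := defectGroup_conjugate hM hB (maximal_isDefectGroup hM hmax) hD
    refine ⟨x, ?_⟩
    rw [← hx]
    exact Subgroup.map_mono (subpairLE_le hle)
  · rintro ⟨x, hx⟩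
    have hD' := isDefectGroup_conj hD x⁻¹
    have hPD : P ≤ D.map (MulAut.conj x⁻¹).toMonoidHom := fun r hr => by
      rw [conjMap_mem_iff, inv_inv]
      exact hx ⟨r, hr, by simp⟩
    obtain ⟨g, hg, S, hS⟩ := hD'
    refine ⟨g, hg.1, hg.2.1, g, IsConj.refl g, fun r hr => ?_⟩
    have hr' := hPD hr
    rw [hS] at hr'
    obtain ⟨r', -, rfl⟩ := hr'
    exact Subgroup.mem_centralizer_singleton_iff.1 r'.2

end Cfsg.Agent.S0959
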