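import Cfsg.Statements.S0961
import Cfsg.Agent.Lib.Blocks.RegInt

set_option autoImplicit false
set_option linter.style.haveILetI false
open Cfsg

namespace Cfsg.Agent.S0961

open CfsgLib.Blocks CfsgLib.CharTheory

/-- Let χ be an irreducible character of the finite group G and let p ^ a be the largest power of the prime p dividing the order of G. Then the function equal to p ^ a * χ x at elements x of order prime to p and to 0 elsewhere is a generalized character (a difference of characters). -/
theorem result {G : Type*} [Group G] [Finite G] (p : ℕ) [Fact p.Prime] (χ : Cfsg.IrrCharacter G) : Cfsg.IsGeneralizedCharacter G (fun x : G => if p ∣ orderOf x then 0 else ((p ^ (Nat.card G).factorization p : ℕ) : ℂ) * (χ : G → ℂ) x) := by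
  haveI := Fintype.ofFinite G
  rw [isGenChar_iff_coeff_int]
  refine ⟨fun g h => ?_, fun ψ hψ => ?_⟩
  · simp only [conj_orderOf]
    split_ifs
    · rfl
    · rw [irr_isClassFun χ]
  · obtain ⟨n, hn⟩ := exists_int_regS (Fact.out : p.Prime) χ ⟨ψ, hψ⟩
    refine ⟨n, ?_⟩
    have hG : (Nat.card G : ℂ) = ((p ^ (Nat.card G).factorization p : ℕ) : ℂ) *
        ((Nat.card G / p ^ (Nat.card G).factorization p : ℕ) : ℂ) := by
      exact_mod_cast (Nat.ordProj_mul_ordCompl_eq_self (Nat.card G) p).symm
    have hG0 : (Nat.card G : ℂ) ≠ 0 := Nat.cast_ne_zero.2 Nat.card_pos.ne'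
    rw [classInner]
    rw [Finset.sum_congr rfl fun g _ => show
      (if p ∣ orderOf g then (0 : ℂ) else ((p ^ (Nat.card G).factorization p : ℕ) : ℂ) *
        (χ : G → ℂ) g) * (starRingEnd ℂ) (ψ g) =
      ((p ^ (Nat.card G).factorization p : ℕ) : ℂ) * (regFn p ψ g * (χ : G → ℂ) g) by
        rw [show (starRingEnd ℂ) (ψ g) = ψ g⁻¹ from irr_conjInv ⟨ψ, hψ⟩ g]
        simp only [regFn]
        split_ifs <;> ring,
      ← Finset.mul_sum]
    change _ * (_ * regS p (χ : G → ℂ) ψ) = _
    rw [show regS p (χ : G → ℂ) ψ = _ from hn, ← mul_assoc _ _ (n : ℂ), ← hG, ← mul_assoc,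
      inv_mul_cancel₀ hG0, one_mul]

end Cfsg.Agent.S0961
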