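import Cfsg.Statements.S0965
import Cfsg.Agent.Lib.Blocks.Covering

set_option autoImplicit false
set_option linter.style.haveILetI false
open Cfsg

namespace Cfsg.Agent.S0965

open CfsgLib.Blocks CfsgLib.CharTheory

/-- Let N be a normal subgroup of the finite group G and let B, b be blocks of G and of N relative to a maximal ideal M of the algebraic integers containing the prime p. Then some χ ∈ B has a constituent in b on restriction to N if and only if, for all χ ∈ B, θ ∈ b and n ∈ N, the central character of χ at n is congruent modulo the local ideal at M to the sum of θ m / θ 1 over the elements m ∈ N conjugate in G to n. -/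
theorem result {G : Type*} [Group G] [Fintype G] (p : ℕ) [Fact p.Prime] (M : Ideal Cfsg.AlgInt) (hM : Cfsg.IsPModular p M) (N : Subgroup G) [N.Normal] [Fintype N] (B : Set (Cfsg.IrrCharacter G)) (hB : Cfsg.IsPBlock M B) (b : Set (Cfsg.IrrCharacter N)) (hb : Cfsg.IsPBlock M b) : (∃ χ ∈ B, ∃ θ ∈ b, Cfsg.classInner (fun n : N => (χ : G → ℂ) n) (θ : N → ℂ) ≠ 0) ↔ ∀ χ ∈ B, ∀ θ ∈ b, ∀ n : N, Cfsg.MemLocalIdeal M (Cfsg.centralChar (χ : G → ℂ) (n : G) - Cfsg.inducedCentralChar N (θ : N → ℂ) (n : G)) := by
  classical
  constructor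
  · intro hcov χ hχ θ hθ n
    rw [memIdeal_sub_iff hM (show MemLocalRing M (Cfsg.centralChar (χ : G → ℂ) (n : G)) from
      memRing_clv hM _ χ) (memRing_inducedCentralChar N hM θ _),
      ← omega_classInd (n : G) χ, ← omega_restrict_classInd N (n : G)]
    exact res_omega_covers hM hB hb hcov hχ hθ (isClassFunction_classInd _)
      (memRing_classInd hM _) (supp_classInd n.2)
  · intro h
    obtain ⟨χ, hχ⟩ := block_nonempty hM hB
    obtain ⟨θ, hθ⟩ := block_nonempty hM hb
    obtain ⟨θ', hθ', hc⟩ : ∃ θ' ∈ b, classInner (fun n : N => (χ : G → ℂ) n) (θ' : N → ℂ) ≠ 0 := by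
      refine covers_of_res hM ?_
      haveI : Fintype (ConjClasses G) := Fintype.ofFinite _
      have e1 : res hM (omega (θ : N → ℂ) fun k : N => covFn b k) = 1 := by
        rw [omega_covFn_of_mem hM hb (self_mem_covOrb b) hθ, res_one]
      rw [← e1, omega_eq_sum_classes (covFn_cls b), omega_restrict_expand (θ : N → ℂ) (covFn_cls b),
        res_sum hM fun C _ => (loc hM).mul_mem (covFn_mem hM hb _)
          (show MemLocalRing M (Cfsg.centralChar (χ : G → ℂ) (crep C)) from memRing_clv hM _ χ),
        res_sum hM fun C _ => (loc hM).mul_mem (covFn_mem hM hb _)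
          (memRing_inducedCentralChar N hM θ _)]
      refine Finset.sum_congr rfl fun C _ => ?_
      by_cases hC : crep C ∈ N
      · rw [res_mul hM (covFn_mem hM hb _)
          (show MemLocalRing M (Cfsg.centralChar (χ : G → ℂ) (crep C)) from memRing_clv hM _ χ),
          res_mul hM (covFn_mem hM hb _) (memRing_inducedCentralChar N hM θ _),
          (memIdeal_sub_iff hM (show MemLocalRing M (Cfsg.centralChar (χ : G → ℂ) (crep C)) from
            memRing_clv hM _ χ) (memRing_inducedCentralChar N hM θ _)).1 (h χ hχ θ hθ ⟨_, hC⟩)]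
      · rw [covFn_off b hC, zero_mul, zero_mul]
    exact ⟨χ, hχ, θ', hθ', hc⟩

end Cfsg.Agent.S0965
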