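import Cfsg.Statements.S0968
import Cfsg.Agent.Lib.Blocks.CentralDefect

set_option autoImplicit false
set_option linter.style.haveILetI false
open Cfsg

namespace Cfsg.Agent.S0968

open CfsgLib.Blocks CfsgLib.CharTheory

/-- Let P be a p-subgroup of the finite group G with P ⊔ C_G(P) = G, and let B be a block with defect group P relative to a maximal ideal M of the algebraic integers containing p. Then there is exactly one θ ∈ B with θ x = θ 1 for all x ∈ P; for this θ the exponent of p in θ(1) equals the exponent of p in the index of P; and the number of members of B equals the number of conjugacy classes of P. -/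
theorem result {G : Type*} [Group G] [Finite G] (p : ℕ) [Fact p.Prime] (M : Ideal Cfsg.AlgInt) (hM : Cfsg.IsPModular p M) (P : Subgroup G) (hP : IsPGroup p P) (hG : P ⊔ Subgroup.centralizer (P : Set G) = ⊤) (B : Set (Cfsg.IrrCharacter G)) (hB : Cfsg.IsPBlock M B) (hD : Cfsg.IsDefectGroup p M B P) : (∃! θ : Cfsg.IrrCharacter G, θ ∈ B ∧ ∀ x ∈ P, (θ : G → ℂ) x = (θ : G → ℂ) 1) ∧ (∀ θ ∈ B, (∀ x ∈ P, (θ : G → ℂ) x = (θ : G → ℂ) 1) → (Cfsg.charDegree (θ : G → ℂ)).factorization p = P.index.factorization p) ∧ Nat.card B = Nat.card (ConjClasses P) := by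
  haveI := Fintype.ofFinite G
  haveI : P.Normal := by
    rw [← Subgroup.normalizer_eq_top_iff]
    exact top_le_iff.1 (hG ▸ pcent_le_normalizer P)
  have hcard := card_defectGroup hM hB hD
  obtain ⟨θ, hθB, hθ⟩ := exists_triv hM hP hB
  refine ⟨⟨θ, ⟨hθB, hθ⟩, fun θ' h => triv_unique hM hP hG hB hcard h.1 h.2 hθB hθ⟩, ?_,
    card_pcent hM hP hG hB hD⟩
  intro θ' hθB' hθ'
  obtain ⟨-, -, h0⟩ := triv_props hM hP hG hB hcard hθB' hθ'
  have h1 : p ^ Cfsg.blockDefect p B = p ^ (Nat.card P).factorization p := by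
    rw [hcard, hM.1.factorization_pow, Finsupp.single_eq_same]
  have h2 := Nat.pow_right_injective hM.1.two_le h1
  have h3 := minDv_le_card hM hB
  have h4 := blockDefect_eq p B
  have h5 := factorization_index_add p P
  show dv p (θ' : G → ℂ) = _
  omega

end Cfsg.Agent.S0968
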