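import Cfsg.Statements.S0969
import Cfsg.Agent.Lib.Blocks.CentralDefect
import Cfsg.Agent.Lib.Blocks.Sections

set_option autoImplicit false
set_option linter.style.haveILetI false
open Cfsg

namespace Cfsg.Agent.S0969

open CfsgLib.Blocks CfsgLib.CharTheory

/-- Let D be a central p-subgroup of the finite group G and χ an irreducible character with the exponent of p in χ(1) equal to the exponent of p in the index of D; fix a maximal ideal M of the algebraic integers containing p. Then D is a defect group of the block of χ, and χ g = 0 whenever the p-part of g does not lie in D. -/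
theorem result {G : Type*} [Group G] [Finite G] (p : ℕ) [Fact p.Prime] (M : Ideal Cfsg.AlgInt) (hM : Cfsg.IsPModular p M) (D : Subgroup G) (hD : IsPGroup p D) (hDZ : D ≤ Subgroup.center G) (χ : Cfsg.IrrCharacter G) (hdeg : (Cfsg.charDegree (χ : G → ℂ)).factorization p = D.index.factorization p) : Cfsg.IsDefectGroup p M (Cfsg.blockOf M (χ : G → ℂ)) D ∧ ∀ g x : G, Cfsg.IsPPart p g x → x ∉ D → (χ : G → ℂ) g = 0 := by
  haveI := Fintype.ofFinite G
  haveI := normal_of_central hDZ
  set B := Cfsg.blockOf M (χ : G → ℂ)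
  have hB : Cfsg.IsPBlock M B := blockOf_isPBlock χ
  have hχ : χ ∈ B := mem_blockOf_self hM χ
  have hreg : ∀ y : G, ¬ p ∣ orderOf y → y ∈ Subgroup.centralizer (D : Set G) :=
    fun y _ z hz => (Subgroup.mem_center_iff.1 (hDZ hz) y).symm
  obtain ⟨q, hq0, hq, hqd⟩ := norm_le hM hD hreg hB hχ
    (fun u hu y _ => normSq_central_mul (hDZ hu) χ y)
  obtain ⟨t, ht⟩ := exists_defectClass hM hB
  obtain ⟨E, hE, hDE⟩ := exists_defectGroup_ge hM hB ht.2.1 hD
    (fun r hr => Subgroup.mem_centralizer_singleton_iff.2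
      (Subgroup.mem_center_iff.1 (hDZ hr) t).symm)
  obtain ⟨δ, hδ⟩ := hD.exists_card_eq
  have hf : (Nat.card D).factorization p = δ := by
    rw [hδ, hM.1.factorization_pow, Finsupp.single_eq_same]
  have hδle : δ ≤ Cfsg.blockDefect p B := by
    have h1 := Subgroup.card_le_of_le hDE
    rw [card_defectGroup hM hB hE, hδ] at h1
    exact (Nat.pow_le_pow_iff_right hM.1.one_lt).1 h1
  have h3 := minDv_le_card hM hB
  have h4 := blockDefect_eq p B
  have h5 := factorization_index_add p D
  have h6 : minDv p B ≤ dv p (χ : G → ℂ) := minDv_le hχ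
  have h7 : dv p (χ : G → ℂ) = D.index.factorization p := hdeg
  have hd : Cfsg.blockDefect p B = δ := by
    refine le_antisymm ?_ hδle
    by_contra hlt
    have hh : minDv p B < dv p (χ : G → ℂ) := by omega
    have h8 := Int.le_of_dvd hq0 (hqd hh)
    have h9 : ((p : ℤ) ^ δ) * (p : ℤ) ^ (dv p (χ : G → ℂ) - minDv p B + 1) ≤
        (p : ℤ) ^ Cfsg.blockDefect p B := by
      refine le_trans ?_ hq
      rw [hδ, Nat.cast_pow]
      exact mul_le_mul_of_nonneg_left h8 (by positivity)
    rw [← pow_add, pow_le_pow_iff_right₀ (by exact_mod_cast hM.1.one_lt)] at h9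
    omega
  have hDEq : D = E := Subgroup.eq_of_le_of_card_ge hDE (by
    rw [card_defectGroup hM hB hE, hd, hδ])
  refine ⟨hDEq ▸ hE, fun g x hgx hx => ?_⟩
  refine (central_props hM hDZ hD hB (by rw [hδ, hd]) hχ).2.1 g ?_
  rintro ⟨u, hu, y, -, hy, rfl⟩
  obtain ⟨w, hxw, hc, hxp, hw⟩ := hgx
  obtain ⟨k, hk⟩ := (IsPGroup.iff_orderOf.1 hD) ⟨u, hu⟩
  rw [Subgroup.orderOf_mk] at hk
  exact hx ((pPart_unique hM.1 hc (Subgroup.mem_center_iff.1 (hDZ hu) y).symm hxp ⟨k, hk⟩ hw hy
    hxw).1 ▸ hu)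

end Cfsg.Agent.S0969
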