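import Cfsg.Statements.S0971
import Cfsg.Agent.Lib.Blocks.BlockBasics

set_option autoImplicit false
open Cfsg CfsgLib.CharTheory CfsgLib.Blocks CfsgLib.Blocks.BlockBasics
open scoped ComplexConjugate

set_option linter.unusedVariables false

namespace Cfsg.Agent.S0971

/-- Let Q be a normal p-subgroup of the finite group G, let N = Q ⊔ C_G(Q) (a normal subgroup) and let b be a block of N relative to a maximal ideal M of the algebraic integers containing p. Then b induces some block of G, and every block B of G containing a character whose restriction to N has a constituent in b is induced by b. -/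
theorem result {G : Type*} [Group G] [Fintype G] (p : ℕ) [Fact p.Prime] (M : Ideal Cfsg.AlgInt) (hM : Cfsg.IsPModular p M) (Q : Subgroup G) [Q.Normal] (hQ : IsPGroup p Q) [Fintype ↥(Q ⊔ Subgroup.centralizer (Q : Set G))] (b : Set (Cfsg.IrrCharacter ↥(Q ⊔ Subgroup.centralizer (Q : Set G)))) (hb : Cfsg.IsPBlock M b) : Cfsg.InducedBlockDefined M (Q ⊔ Subgroup.centralizer (Q : Set G)) b ∧ ∀ B : Set (Cfsg.IrrCharacter G), Cfsg.IsPBlock M B → (∃ χ ∈ B, ∃ θ ∈ b, Cfsg.classInner (fun n : ↥(Q ⊔ Subgroup.centralizer (Q : Set G)) => (χ : G → ℂ) n) (θ : ↥(Q ⊔ Subgroup.centralizer (Q : Set G)) → ℂ) ≠ 0) → Cfsg.IsInducedBlock M (Q ⊔ Subgroup.centralizer (Q : Set G)) b B := by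
  classical
  haveI hCn : (Subgroup.centralizer (Q : Set G)).Normal := Subgroup.normal_centralizer
  haveI hNn : (Q ⊔ Subgroup.centralizer (Q : Set G)).Normal := Subgroup.sup_normal Q (Subgroup.centralizer (Q : Set G))
  have hCN : Subgroup.centralizer (Q : Set G) ≤ (Q ⊔ Subgroup.centralizer (Q : Set G)) := le_sup_right
  have hQN : Q ≤ (Q ⊔ Subgroup.centralizer (Q : Set G)) := le_sup_left
  have hnorm : (Q ⊔ Subgroup.centralizer (Q : Set G)) ≤ Subgroup.normalizer (Q : Set G) :=
    (Subgroup.normalizer_eq_top_iff.2 ‹Q.Normal›).symm ▸ le_top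
  obtain ⟨ξ, hξ⟩ := block_nonempty hM hb
  obtain ⟨χ₀, h₀⟩ := exists_induced_brauer (H := (Q ⊔ Subgroup.centralizer (Q : Set G))) (P := Q) hM hQ hCN hQN hnorm ξ
  refine ⟨⟨blockOf M (χ₀ : G → ℂ), isInducedBlock_of_congr (Q ⊔ Subgroup.centralizer (Q : Set G)) hM hb (blockOf_isPBlock χ₀) hξ
    (mem_blockOf_self hM χ₀) h₀⟩, ?_⟩
  rintro B hB ⟨χ, hχ, θ, hθ, hne⟩
  refine isInducedBlock_of_congr (Q ⊔ Subgroup.centralizer (Q : Set G)) hM hb hB hθ hχ fun g => ?_
  by_cases hg : g ∈ (Q ⊔ Subgroup.centralizer (Q : Set G))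
  · rw [← omega_classInd g χ, ← omega_restrict_classInd (Q ⊔ Subgroup.centralizer (Q : Set G)) g, omega_eq_of_constituent hne
      (isClassFunction_classInd g) fun x hx => if_neg fun hc => hx ?_, sub_self]
    · exact memIdeal_zero hM
    · obtain ⟨c, rfl⟩ := isConj_iff.1 hc
      exact hNn.conj_mem g hg c
  · have hno : ∀ k : ↥(Q ⊔ Subgroup.centralizer (Q : Set G)), ¬ IsConj g (k : G) := fun k hc => hg (by
      obtain ⟨c, hc⟩ := isConj_iff.1 hc.symm
      exact hc ▸ hNn.conj_mem (k : G) k.2 c)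
    have h1 : inducedCentralChar (Q ⊔ Subgroup.centralizer (Q : Set G)) (θ : ↥(Q ⊔ Subgroup.centralizer (Q : Set G)) → ℂ) g = 0 := by
      rw [← omega_restrict_classInd (Q ⊔ Subgroup.centralizer (Q : Set G)) g, omega]
      rw [Finset.sum_eq_zero fun k _ => by rw [if_neg (hno k), zero_mul], zero_div]
    have h2 : MemLocalIdeal M (centralChar (χ : G → ℂ) g) := by
      rw [← omega_classInd g χ]
      exact omega_vanish_off_centralizer hM Q hQ (isClassFunction_classInd g)
        (memRing_classInd hM g) (fun x hx => if_neg fun hc => hno ⟨x, hCN hx⟩ hc) χ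
    rw [h1, zero_sub]
    exact memIdeal_neg hM h2

end Cfsg.Agent.S0971
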