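import Cfsg.Statements.S0973
import Cfsg.Agent.Lib.Blocks.PCent

set_option autoImplicit false
set_option linter.style.haveILetI false
open Cfsg

namespace Cfsg.Agent.S0973

open CfsgLib.Blocks CfsgLib.CharTheory

/-- Let B be a block of the finite group G with defect group P (relative to a maximal ideal M of the algebraic integers containing p), and let L = P ⊔ C_G(P). Then (i) some block b of L with defect group P (viewed in L) induces B, and (ii) if b and b' are blocks of L both inducing B, there is n ∈ N_G(P) carrying b to b': for every θ ∈ b there is θ' ∈ b' with θ' x = θ (n x n⁻¹) for all x ∈ L. -/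
theorem result {G : Type*} [Group G] [Finite G] (p : ℕ) [Fact p.Prime] (M : Ideal Cfsg.AlgInt) (hM : Cfsg.IsPModular p M) (B : Set (Cfsg.IrrCharacter G)) (hB : Cfsg.IsPBlock M B) (P : Subgroup G) (hP : Cfsg.IsDefectGroup p M B P) : (∃ b : Set (Cfsg.IrrCharacter ↥(P ⊔ Subgroup.centralizer (P : Set G))), Cfsg.IsDefectGroup p M b (P.subgroupOf (P ⊔ Subgroup.centralizer (P : Set G))) ∧ Cfsg.IsInducedBlock M (P ⊔ Subgroup.centralizer (P : Set G)) b B) ∧ ∀ b b' : Set (Cfsg.IrrCharacter ↥(P ⊔ Subgroup.centralizer (P : Set G))), Cfsg.IsInducedBlock M (P ⊔ Subgroup.centralizer (P : Set G)) b B → Cfsg.IsInducedBlock M (P ⊔ Subgroup.centralizer (P : Set G)) b' B → ∃ n ∈ Subgroup.normalizer (P : Set G), ∀ θ ∈ b, ∃ θ' ∈ b', ∀ x : ↥(P ⊔ Subgroup.centralizer (P : Set G)), ∀ hx : n * (x : G) * n⁻¹ ∈ P ⊔ Subgroup.centralizer (P : Set G), (θ' : ↥(P ⊔ Subgroup.centralizer (P : Set G)) → ℂ) x = (θ : ↥(P ⊔ Subgroup.centralizer (P : Set G)) → ℂ) ⟨n *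 (x : G) * n⁻¹, hx⟩ := by
  haveI := Fintype.ofFinite G
  set H := P ⊔ Subgroup.centralizer (P : Set G) with hH
  haveI := Fintype.ofFinite H
  have hPH : P ≤ H := le_sup_left
  have hC : Subgroup.centralizer (P : Set G) ≤ H := le_sup_right
  have hN : H ≤ Subgroup.normalizer (P : Set G) := pcent_le_normalizer P
  obtain ⟨e, hmax⟩ := exists_maximal_at hM hB hP
  have hPp := hmax.1.1.1
  obtain ⟨a, ha, hae, hab⟩ := exists_upIdx (H := H) hPH hC hmax.1.1.2
  obtain ⟨b0, hb0⟩ := exists_block_of_pair hM (upIdx_pGroup hae hPp) hab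
  have hm0 := maximal_down hM hae hmax hb0
  refine ⟨⟨b0, upIdx_subgroupOf hae ▸ maximal_isDefectGroup hM hm0,
    (induced_iff_pair hM hPp hPH hC hN hae hb0 hB).2 hmax.1⟩, ?_⟩
  have key : ∀ b : Set (Cfsg.IrrCharacter H), Cfsg.IsInducedBlock M H b B →
      ∃ m, ∃ hm : m ∈ Subgroup.normalizer (P : Set G),
        irrPull (conjE (normalizer_le_normalizer_pcent P hm)) '' b0 = b := by
    intro b hb
    haveI : (P.subgroupOf H).Normal :=
      ⟨fun n hn g => (Subgroup.mem_normalizer_iff.1 (hN g.2) n).1 hn⟩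
    have hP' : IsPGroup p (P.subgroupOf H) :=
      hPp.of_equiv (Subgroup.subgroupOfEquivOfLe hPH).symm
    obtain ⟨t, ht⟩ := exists_defectClass hM hb.1
    obtain ⟨f', hf'⟩ := exists_pair_of_unit hM hb.1 hP'
      (mem_centralizer_normal hM hb.1 hP' ht.2.1) ht.2.1
    have hmap : (P.subgroupOf H).map H.subtype = P := Subgroup.map_subgroupOf_eq_of_le hPH
    have hc : Subgroup.centralizer (((P.subgroupOf H).map H.subtype : Subgroup G) : Set G) ≤ H :=
      hmap.symm ▸ hC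
    generalize hi : upIdx (⟨P.subgroupOf H, f'⟩ : Cfsg.BrauerPairIdx H) hc = i
    have hi1 : i.1 = P := by rw [← hi]; exact hmap
    obtain ⟨Q, f⟩ := i
    change Q = P at hi1
    subst hi1
    have hpair := (induced_iff_pair hM hPp hPH hC hN hi hf' hB).1 hb
    obtain ⟨m, hm, hfm⟩ := pairs_orbit hM hmax hpair
    refine ⟨m, hm, ?_⟩
    obtain ⟨η, hη⟩ := bne hM hmax.1.1.2
    have hb0'' : Cfsg.IsPBlock M (irrPull (conjE (normalizer_le_normalizer_pcent _ hm)) '' b0) :=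
      isPBlock_image _ hb0.2.1
    have h2 := lam_image hM hm (normalizer_le_normalizer_pcent _ hm) b0 η
    rw [(pairOf_iff_lam_up hM hab hae hPp hb0.2.1 hη).1 hb0] at h2
    have hmem : irrPull (conjE (normalizer_le_normalizer_cent _ hm)) η ∈ f :=
      hfm ▸ ⟨η, hη, rfl⟩
    exact pairOf_block_unique hM ((pairOf_iff_lam_up hM hf'.1.2 hi hPp hb0'' hmem).2 h2) hf'
  intro b b' hb hb'
  obtain ⟨m, hm, rfl⟩ := key b hb
  obtain ⟨m', hm', rfl⟩ := key b' hb'
  have hd : m * m'⁻¹ ∈ Subgroup.normalizer (P : Set G) :=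
    Subgroup.mul_mem _ hm (Subgroup.inv_mem _ hm')
  refine ⟨m * m'⁻¹, hd, ?_⟩
  rintro _ ⟨θ, hθ, rfl⟩
  refine ⟨_, ⟨θ, hθ, rfl⟩, fun x hx => ?_⟩
  rw [irrPull_apply, irrPull_apply]
  refine congrArg _ ?_
  apply Subtype.ext
  show m'⁻¹ * (x : G) * m' = m⁻¹ * (m * m'⁻¹ * (x : G) * (m * m'⁻¹)⁻¹) * m
  group

end Cfsg.Agent.S0973
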