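import Cfsg.Statements.S0986
import Mathlib

set_option autoImplicit false
open Cfsg

namespace Cfsg.Agent.S0986



/-- Let P and Q be distinct Sylow p-subgroups of a finite group G chosen so that the order of P ∩ Q is as large as possible among intersections of two distinct Sylow p-subgroups, and let N be the normalizer of P ∩ Q. Then N has more than one Sylow p-subgroup, any two distinct Sylow p-subgroups of N intersect exactly in P ∩ Q, and each Sylow p-subgroup of N lies in exactly one Sylow p-subgroup of G. -/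
theorem result {G : Type*} [Group G] [Finite G] (p : ℕ) [Fact p.Prime] (P Q : Sylow p G) (hPQ : P ≠ Q) (hmax : ∀ P' Q' : Sylow p G, P' ≠ Q' → Nat.card ↥((P' : Subgroup G) ⊓ (Q' : Subgroup G)) ≤ Nat.card ↥((P : Subgroup G) ⊓ (Q : Subgroup G))) : 1 < Nat.card (Sylow p ↥(Subgroup.normalizer (((P : Subgroup G) ⊓ (Q : Subgroup G) : Subgroup G) : Set G))) ∧ (∀ S T : Sylow p ↥(Subgroup.normalizer (((P : Subgroup G) ⊓ (Q : Subgroup G) : Subgroup G) : Set G)), S ≠ T → (S : Subgroup _) ⊓ (T : Subgroup _) = ((P : Subgroup G) ⊓ (Q : Subgroup G)).subgroupOf (Subgroup.normalizer (((P : Subgroup G) ⊓ (Q : Subgroup G) : Subgroup G) : Set G))) ∧ ∀ S : Sylow p ↥(Subgroup.normalizer (((P : Subgroup G) ⊓ (Q : Subgroup G) : Subgroup G) : Set G)), ∃! T : Sylow p G, (S : Subgroup _).map (Subgroup.normalizer (((P : Subgroup G) ⊓ (Q : Subgroup G) : Subgroup G) : Set G)).subtype ≤ (T : Subgroup G) := by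
  classical
  set D := (P : Subgroup G) ⊓ (Q : Subgroup G) with hD
  set N := Subgroup.normalizer (D : Set G) with hN
  have hDN : D ≤ N := Subgroup.le_normalizer
  have huniq : ∀ (H : Subgroup G) (T T' : Sylow p G), Nat.card D < Nat.card H → H ≤ T → H ≤ T' → T = T' :=
    fun H T T' hlt h1 h2 => by
      by_contra e
      exact absurd (hmax T T' e) (not_le.mpr (hlt.trans_le (Subgroup.card_le_of_le (le_inf h1 h2))))
  have hgrow : ∀ R : Sylow p G, D ≤ R → D ≠ R → Nat.card D < Nat.card ↥((R : Subgroup G) ⊓ N) := by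
    intro R hle hne
    haveI := R.2.isNilpotent
    have hlt : D.subgroupOf (R : Subgroup G) < ⊤ := lt_top_iff_ne_top.mpr fun e =>
      hne (le_antisymm hle (Subgroup.subgroupOf_eq_top.mp e))
    obtain ⟨x, hx, hxD⟩ := SetLike.exists_of_lt (normalizerCondition_of_isNilpotent _ hlt)
    have hxN : (x : G) ∈ N := by
      refine Subgroup.mem_normalizer_iff.mpr fun y => ⟨fun hy => ?_, fun hy => ?_⟩
      · exact Subgroup.mem_subgroupOf.mp ((Subgroup.mem_normalizer_iff.mp hx ⟨y, hle hy⟩).mp hy)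
      · have hyR : y ∈ (R : Subgroup G) := by
          have := R.mul_mem (R.mul_mem (R.inv_mem x.2) (hle hy)) x.2
          simpa [mul_assoc] using this
        exact (Subgroup.mem_normalizer_iff.mp hx ⟨y, hyR⟩).mpr hy
    refine lt_of_le_of_ne (Subgroup.card_le_of_le (le_inf hle hDN)) fun e => hxD ?_
    exact Subgroup.mem_subgroupOf.mpr ((Subgroup.eq_of_le_of_card_ge (le_inf hle hDN) e.ge).ge ⟨x.2, hxN⟩)
  have hneP : D ≠ P := fun e => hPQ (Sylow.ext (P.is_maximal' Q.2 (e.ge.trans inf_le_right)).symm)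
  have hneQ : D ≠ Q := fun e => hPQ (Sylow.ext (Q.is_maximal' P.2 (e.ge.trans inf_le_left)))
  have hP' := hgrow P inf_le_left hneP
  have hQ' := hgrow Q inf_le_right hneQ
  have hDp : IsPGroup p ↥(D.subgroupOf N) := IsPGroup.of_equiv (P.2.to_le inf_le_left) (Subgroup.subgroupOfEquivOfLe hDN).symm
  haveI : (D.subgroupOf N).Normal := Subgroup.normal_in_normalizer
  have hDS : ∀ S : Sylow p N, D ≤ (S : Subgroup N).map N.subtype := fun S d hd =>
    Subgroup.mem_map.mpr ⟨⟨d, hDN hd⟩, sup_eq_right.mp (S.is_maximal' (hDp.to_sup_of_normal_left S.2) le_sup_right) (Subgroup.mem_subgroupOf.mpr hd), rfl⟩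
  have hcardS : ∀ S : Sylow p N, Nat.card D < Nat.card ↥((S : Subgroup N).map N.subtype) := by
    intro S
    have h1 : IsPGroup p ↥(((P : Subgroup G) ⊓ N).subgroupOf N) :=
      IsPGroup.of_equiv (P.2.to_le inf_le_left) (Subgroup.subgroupOfEquivOfLe inf_le_right).symm
    obtain ⟨S', hS'⟩ := h1.exists_le_sylow
    refine hP'.trans_le ?_
    rw [Subgroup.card_map_of_injective N.subtype_injective, ← Nat.card_congr (Subgroup.subgroupOfEquivOfLe (inf_le_right : (P : Subgroup G) ⊓ N ≤ N)).toEquiv, Sylow.card_eq_multiplicity S, ← Sylow.card_eq_multiplicity S']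
    exact Subgroup.card_le_of_le hS'
  have hex : ∀ S : Sylow p N, ∃ T : Sylow p G, (S : Subgroup N).map N.subtype ≤ T := fun S => (S.2.map _).exists_le_sylow
  refine ⟨?_, fun S T hST => ?_, fun S => ?_⟩
  · by_contra hcon
    have h1 : Nat.card (Sylow p N) = 1 := by
      have : 0 < Nat.card (Sylow p N) := Nat.card_pos
      omega
    obtain ⟨S⟩ : Nonempty (Sylow p N) := inferInstance
    obtain ⟨T, hT⟩ := hex S
    have hin : ∀ R : Sylow p G, (R : Subgroup G) ⊓ N ≤ T := by
      intro R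
      have h2 : IsPGroup p ↥(((R : Subgroup G) ⊓ N).subgroupOf N) :=
        IsPGroup.of_equiv (R.2.to_le inf_le_left) (Subgroup.subgroupOfEquivOfLe inf_le_right).symm
      obtain ⟨S', hS'⟩ := h2.exists_le_sylow
      rw [(Nat.card_eq_one_iff_unique.mp h1).1.elim S' S] at hS'
      exact fun y hy => hT (Subgroup.mem_map.mpr ⟨⟨y, hy.2⟩, hS' (Subgroup.mem_subgroupOf.mpr hy), rfl⟩)
    exact hPQ ((huniq _ P T hP' inf_le_left (hin P)).trans (huniq _ Q T hQ' inf_le_left (hin Q)).symm)
  · obtain ⟨S', hS'⟩ := hex S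
    obtain ⟨T', hT'⟩ := hex T
    have hne : S' ≠ T' := by
      rintro rfl
      have hp : IsPGroup p ↥((S' : Subgroup G).subgroupOf N) := S'.2.comap_subtype
      exact hST (Sylow.ext ((S.is_maximal' hp (Subgroup.map_le_iff_le_comap.mp hS')).symm.trans (T.is_maximal' hp (Subgroup.map_le_iff_le_comap.mp hT'))))
    have hle : ((S : Subgroup N) ⊓ T).map N.subtype = D :=
      (Subgroup.eq_of_le_of_card_ge
        (fun d hd => by
          obtain ⟨a, ha, ha'⟩ := hDS S hd
          obtain ⟨b, hb, hb'⟩ := hDS T hd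
          exact ⟨a, ⟨ha, (N.subtype_injective (hb'.trans ha'.symm)) ▸ hb⟩, ha'⟩)
        ((Subgroup.card_le_of_le (le_inf ((Subgroup.map_mono inf_le_left).trans hS') ((Subgroup.map_mono inf_le_right).trans hT'))).trans (hmax S' T' hne))).symm
    rw [← hle, Subgroup.subgroupOf, Subgroup.comap_map_eq_self_of_injective N.subtype_injective]
  · obtain ⟨T, hT⟩ := hex S
    exact ⟨T, hT, fun T' hT' => huniq _ T' T (hcardS S) hT' hT⟩

end Cfsg.Agent.S0986
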