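import Cfsg.Statements.S0987
import Mathlib

set_option autoImplicit false
open Cfsg

namespace Cfsg.Agent.S0987

theorem unique_sylow_large {G : Type*} [Group G] [Finite G] {q r : ℕ} (hq : q.Prime) [Fact r.Prime]
    (hqr : q < r) (hG : Nat.card G = q * r) : Nat.card (Sylow r G) = 1 := by
  obtain ⟨R⟩ : Nonempty (Sylow r G) := inferInstance
  have h1 : Nat.card (Sylow r G) ∣ q * r := by
    rw [← hG]; exact (R.card_dvd_index).trans (Subgroup.index_dvd_card _)
  have hcop : Nat.Coprime (Nat.card (Sylow r G)) r :=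
    Nat.Coprime.symm ((Nat.Prime.coprime_iff_not_dvd Fact.out).mpr (not_dvd_card_sylow r G))
  rcases (Nat.dvd_prime hq).mp (hcop.dvd_of_dvd_mul_right h1) with h | h
  · exact h
  · have h3 := card_sylow_modEq_one r G
    rw [h, Nat.ModEq, Nat.mod_eq_of_lt hqr, Nat.mod_eq_of_lt (Fact.out : r.Prime).one_lt] at h3
    exact absurd h3 hq.ne_one

/-- If a finite group has order pqr for primes p < q < r, then its Sylow r-subgroups are normal. -/
theorem result {G : Type*} [Group G] [Finite G] (p q r : ℕ) (hp : p.Prime) (hq : q.Prime) [Fact r.Prime] (hpq : p < q) (hqr : q < r) (hG : Nat.card G = p * q * r) (R : Sylow r G) : (R : Subgroup G).Normal := by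
  haveI := Fact.mk hp
  obtain ⟨P⟩ : Nonempty (Sylow p G) := inferInstance
  have hr : r.Prime := Fact.out
  have hmin : (Nat.card G).minFac = p := by
    apply le_antisymm (Nat.minFac_le_of_dvd hp.two_le (hG ▸ dvd_mul_of_dvd_left (dvd_mul_right p q) r))
    have hne : Nat.card G ≠ 1 := by rw [hG]; exact fun e => hp.ne_one (Nat.eq_one_of_mul_eq_one_right (Nat.eq_one_of_mul_eq_one_right e))
    have hm := Nat.minFac_prime hne
    have hd := Nat.minFac_dvd (Nat.card G)
    rw [hG] at hd hm ⊢
    rcases hm.dvd_mul.mp hd with h | h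
    · rcases hm.dvd_mul.mp h with h | h
      · exact ((Nat.prime_dvd_prime_iff_eq hm hp).mp h).ge
      · rw [(Nat.prime_dvd_prime_iff_eq hm hq).mp h]; exact hpq.le
    · rw [(Nat.prime_dvd_prime_iff_eq hm hr).mp h]; exact (hpq.trans hqr).le
  have hPc : Nat.card P = p := by
    obtain ⟨k, hk⟩ := P.2.exists_card_eq
    have h1 : p ∣ Nat.card P := P.dvd_card_of_dvd_card (hG ▸ dvd_mul_of_dvd_left (dvd_mul_right p q) r)
    have h2 : Nat.card P ∣ p * q * r := hG ▸ Subgroup.card_subgroup_dvd_card _
    have hc : Nat.Coprime (Nat.card P) (q * r) := by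
      rw [hk]
      exact Nat.Coprime.pow_left k (((Nat.coprime_primes hp hq).mpr hpq.ne).mul_right ((Nat.coprime_primes hp hr).mpr (hpq.trans hqr).ne))
    rw [mul_assoc] at h2
    exact Nat.dvd_antisymm (hc.dvd_of_dvd_mul_right h2) h1
  have hcyc : IsCyclic P := isCyclic_of_prime_card hPc
  set K := (MonoidHom.transferSylow P (hcyc.normalizer_le_centralizer hmin)).ker
  have hK : Nat.card K = q * r := by
    have h1 := (IsCyclic.isComplement' hmin hcyc).card_mul
    change Nat.card K * _ = _ at h1
    rw [hG, hPc] at h1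
    exact Nat.eq_of_mul_eq_mul_right hp.pos (by rw [h1]; ring)
  have hu : Subsingleton (Sylow r K) := (Nat.card_eq_one_iff_unique.mp (unique_sylow_large hq hqr hK)).1
  obtain ⟨S⟩ : Nonempty (Sylow r K) := inferInstance
  haveI : (S : Subgroup K).Characteristic := Sylow.characteristic_of_subsingleton S
  haveI : ((S : Subgroup K).map K.subtype).Normal := inferInstance
  have hle : (S : Subgroup K).map K.subtype ≤ R := by
    exact sup_eq_right.mp (R.is_maximal' ((S.2.map _).to_sup_of_normal_left R.2) le_sup_right)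
  have hRS : (R : Subgroup G) = (S : Subgroup K).map K.subtype := by
    refine (Subgroup.eq_of_le_of_card_ge hle ?_).symm
    rw [Subgroup.card_map_of_injective K.subtype_injective, Sylow.card_eq_multiplicity, Sylow.card_eq_multiplicity, hK, hG]
    apply le_of_eq
    congr 1
    rw [mul_assoc p q r, Nat.factorization_mul hp.pos.ne' (Nat.mul_pos hq.pos hr.pos).ne', Finsupp.add_apply,
      hp.factorization, Finsupp.single_eq_of_ne (hpq.trans hqr).ne', zero_add]
  rw [hRS]; infer_instance

end Cfsg.Agent.S0987
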