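import Cfsg.Statements.S0988
import Mathlib
import Cfsg.Agent.Lib.SmallOrder
import Cfsg.Agent.Lib.TransferApps
import Cfsg.Agent.S0144

set_option autoImplicit false
open Cfsg

namespace Cfsg.Agent.S0988

theorem main {G : Type*} [Group G] [Finite G] [IsSimpleGroup G] (p q r : ℕ) (hp : p.Prime) (hq : q.Prime) (hr : r.Prime)
    (hG : Nat.card G = p ^ 2 * q * r) : Nat.card G = 60 := by
  classical
  have hpq0 : 1 < p ^ 2 * q := lt_of_lt_of_le hq.one_lt (Nat.le_mul_of_pos_left _ (pow_pos hp.pos 2))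
  have hnp : ¬ (Nat.card G).Prime := hG ▸ Nat.not_prime_mul (by omega) hr.ne_one
  have hns : ¬ Group.IsSolvable G := fun hs => hnp (by
    letI : CommGroup G := { (inferInstance : Group G) with mul_comm := IsSimpleGroup.comm_iff_isSolvable.mpr hs }
    exact IsSimpleGroup.prime_card)
  have hpq : p ≠ q := by
    rintro rfl
    exact hns (Cfsg.Agent.S0144.result p r 3 1 hp hr (by rw [hG]; ring))
  have hpr : p ≠ r := by
    rintro rfl
    exact hns (Cfsg.Agent.S0144.result p q 3 1 hp hq (by rw [hG]; ring))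
  have hqr : q ≠ r := by
    rintro rfl
    exact hns (Cfsg.Agent.S0144.result p q 2 2 hp hq (by rw [hG]; ring))
  have sylow_card : ∀ (s k n : ℕ) [Fact s.Prime] (P : Sylow s G), Nat.card G = s ^ k * n → n.Coprime s →
      Nat.card P = s ^ k := fun s k n _ P h hc => CfsgLib.SmallOrder.card_sylow_eq P (h ▸ dvd_mul_right _ _) (by
    rw [h, pow_succ, Nat.mul_dvd_mul_iff_left (pow_pos (Fact.out : s.Prime).pos k)]
    exact fun hd => (Fact.out : s.Prime).ne_one (Nat.eq_one_of_dvd_coprimes hc hd dvd_rfl))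
  have hnoburnside : ∀ (s k n : ℕ) [Fact s.Prime] (P : Sylow s G), Nat.card G = s ^ k * n → n.Coprime s → k ≠ 0 → n ≠ 1 →
      ¬ Subgroup.normalizer (P : Set G) ≤ Subgroup.centralizer (P : Set G) := fun s k n _ P h hc hk hn hle => by
    have hPc := sylow_card s k n P h hc
    have hne : (P : Subgroup G) ≠ ⊥ := fun e => by
      rw [show Nat.card P = Nat.card (P : Subgroup G) from rfl, e, Subgroup.card_bot] at hPc
      exact absurd hPc.symm (Nat.one_lt_pow hk (Fact.out : s.Prime).one_lt).ne'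
    have := CfsgLib.SmallOrder.card_eq_sylow_of_normalizer_le_centralizer P hle hne
    rw [hPc, h] at this
    exact hn (Nat.eq_of_mul_eq_mul_left (pow_pos (Fact.out : s.Prime).pos k) (this.trans (mul_one _).symm))
  -- the repeated prime is the smallest
  have hsmall : ∀ s t u : ℕ, s.Prime → t.Prime → u.Prime → Nat.card G = s * (t ^ 2 * u) → s ≠ t → s ≠ u →
      ¬ (s < t ∧ s < u) := by
    intro s t u hs ht hu hcard hst hsu hlt
    haveI := Fact.mk hs
    obtain ⟨P⟩ : Nonempty (Sylow s G) := inferInstance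
    have hc : (t ^ 2 * u).Coprime s :=
      Nat.Coprime.mul_left (Nat.Coprime.pow_left 2 ((Nat.coprime_primes ht hs).mpr hst.symm)) ((Nat.coprime_primes hu hs).mpr hsu.symm)
    have hcard' : Nat.card G = s ^ 1 * (t ^ 2 * u) := by rw [pow_one, hcard]
    have hP := sylow_card s 1 _ P hcard' hc
    haveI : IsCyclic P := isCyclic_of_prime_card (hP.trans (pow_one s))
    have hmin : (Nat.card G).minFac = s := by
      refine le_antisymm (Nat.minFac_le_of_dvd hs.two_le (hcard ▸ dvd_mul_right _ _)) ?_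
      have hm := Nat.minFac_prime (n := Nat.card G) (Finite.one_lt_card (α := G)).ne'
      have hd := Nat.minFac_dvd (Nat.card G)
      rw [hcard] at hd hm ⊢
      rcases hm.dvd_mul.mp hd with h | h
      · exact ((Nat.prime_dvd_prime_iff_eq hm hs).mp h).ge
      rcases hm.dvd_mul.mp h with h | h
      · rw [(Nat.prime_dvd_prime_iff_eq hm ht).mp (hm.dvd_of_dvd_pow h)]; exact hlt.1.le
      · rw [(Nat.prime_dvd_prime_iff_eq hm hu).mp h]; exact hlt.2.le
    refine hnoburnside s 1 _ P hcard' hc one_ne_zero ?_ ((inferInstance : IsCyclic P).normalizer_le_centralizer hmin)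
    intro e
    exact hu.ne_one (Nat.eq_one_of_mul_eq_one_left e)
  have hpq' : p < q := by
    rcases lt_trichotomy q r with h | h | h
    · by_contra hc
      exact hsmall q p r hq hp hr (by rw [hG]; ring) hpq.symm hqr ⟨by omega, h⟩
    · exact absurd h hqr
    · by_contra hc
      exact hsmall r p q hr hp hq (by rw [hG]; ring) hpr.symm hqr.symm ⟨by omega, h⟩
  have hpr' : p < r := by
    by_contra hc
    exact hsmall r p q hr hp hq (by rw [hG]; ring) hpr.symm hqr.symm ⟨by omega, by omega⟩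
  -- the Sylow subgroup of square order is not central in its normalizer
  haveI := Fact.mk hp
  obtain ⟨P⟩ : Nonempty (Sylow p G) := inferInstance
  have hG2 : Nat.card G = p ^ 2 * (q * r) := by rw [hG, mul_assoc]
  have hcop : (q * r).Coprime p :=
    Nat.Coprime.mul_left ((Nat.coprime_primes hq hp).mpr hpq.symm) ((Nat.coprime_primes hr hp).mpr hpr.symm)
  have hqr1 : q * r ≠ 1 := fun e => hq.ne_one (Nat.eq_one_of_mul_eq_one_right e)
  have hP2 := sylow_card p 2 _ P hG2 hcop
  haveI hPc : IsMulCommutative (P : Subgroup G) := ⟨⟨IsPGroup.commutative_of_card_eq_prime_sq hP2⟩⟩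
  set φ := (P : Subgroup G).normalizerMonoidHom
  have hrange : φ.range ≠ ⊥ := fun h => hnoburnside p 2 _ P hG2 hcop two_ne_zero hqr1 fun g hg => by
    have hk : (⟨g, hg⟩ : Subgroup.normalizer ((P : Subgroup G) : Set G)) ∈ φ.ker := by
      rw [MonoidHom.range_eq_bot_iff.mp h]; rfl
    rw [Subgroup.normalizerMonoidHom_ker] at hk
    exact hk
  obtain ⟨ℓ, hℓ, hℓd⟩ := Nat.exists_prime_and_dvd (fun e => hrange (Subgroup.card_eq_one.mp e))
  haveI := Fact.mk hℓ
  obtain ⟨β, hβ⟩ := exists_prime_orderOf_dvd_card' ℓ hℓd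
  obtain ⟨j, hj, hjd⟩ := CfsgLib.TransferApps.exists_dvd_sub_of_orderOf (β := (β : MulAut (P : Subgroup G))) (q := ℓ) hP2
    (by rw [Subgroup.orderOf_coe, hβ])
  have hℓqr : ℓ ∣ q * r := by
    refine hℓd.trans ?_
    rw [← Subgroup.index_ker, Subgroup.normalizerMonoidHom_ker]
    refine (Subgroup.index_dvd_of_le (K := ((Subgroup.centralizer ((P : Subgroup G) : Set G)).subgroupOf _))
      (H := (P : Subgroup G).subgroupOf _) (Subgroup.comap_mono (P : Subgroup G).le_centralizer)).trans ?_
    have h1 : Subgroup.relIndex (P : Subgroup G) (Subgroup.normalizer ((P : Subgroup G) : Set G)) ∣ (P : Subgroup G).index :=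
      Subgroup.relIndex_dvd_index_of_le Subgroup.le_normalizer
    have h2 : (P : Subgroup G).index = q * r := Nat.eq_of_mul_eq_mul_left (pow_pos hp.pos 2) (by
      rw [← hG2, ← hP2]; exact (P : Subgroup G).card_mul_index)
    exact h2 ▸ h1
  have hℓgt : p < ℓ := by
    rcases hℓ.dvd_mul.mp hℓqr with h | h
    · rw [(Nat.prime_dvd_prime_iff_eq hℓ hq).mp h]; exact hpq'
    · rw [(Nat.prime_dvd_prime_iff_eq hℓ hr).mp h]; exact hpr'
  have hp2le := hp.two_le
  have hℓp1 : ℓ ∣ p + 1 := by
    have hnot : ¬ ℓ ∣ p - 1 := fun h => by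
      have := Nat.le_of_dvd (by omega) h
      omega
    have hnotp : ¬ ℓ ∣ p := fun h => by
      have := Nat.le_of_dvd hp.pos h
      omega
    obtain rfl | rfl : j = 0 ∨ j = 1 := by omega
    · rw [pow_zero, show p ^ 2 - 1 = p ^ 2 - 1 ^ 2 by norm_num, Nat.sq_sub_sq] at hjd
      exact (hℓ.dvd_mul.mp hjd).resolve_right hnot
    · rw [pow_one, show p ^ 2 - p = p * (p - 1) by rw [Nat.mul_sub, mul_one, sq]] at hjd
      exact absurd (hℓ.dvd_mul.mp hjd) (by tauto)
  have hℓeq : ℓ = p + 1 := by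
    have := Nat.le_of_dvd (by omega) hℓp1
    omega
  have hp2 : p = 2 := by
    rcases hp.eq_two_or_odd with h | h
    · exact h
    · have h' := hℓ.eq_two_or_odd
      omega
  obtain ⟨m, hm, hm3, hGm⟩ : ∃ m : ℕ, m.Prime ∧ 3 < m ∧ Nat.card G = 12 * m := by
    rcases hℓ.dvd_mul.mp hℓqr with h | h
    · have hq3 : q = 3 := by rw [← (Nat.prime_dvd_prime_iff_eq hℓ hq).mp h, hℓeq, hp2]
      exact ⟨r, hr, by omega, by rw [hG, hp2, hq3]; ring⟩
    · have hr3 : r = 3 := by rw [← (Nat.prime_dvd_prime_iff_eq hℓ hr).mp h, hℓeq, hp2]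
      exact ⟨q, hq, by omega, by rw [hG, hp2, hr3]; ring⟩
  haveI := Fact.mk hm
  obtain ⟨M⟩ : Nonempty (Sylow m G) := inferInstance
  have hcop' : (12 : ℕ).Coprime m :=
    show ((2 * 2) * 3).Coprime m from
      (((Nat.coprime_primes Nat.prime_two hm).mpr (by omega)).mul_left ((Nat.coprime_primes Nat.prime_two hm).mpr (by omega))).mul_left
        ((Nat.coprime_primes Nat.prime_three hm).mpr (by omega))
  have hGm' : Nat.card G = m ^ 1 * 12 := by rw [hGm, pow_one, mul_comm]
  have hMc := sylow_card m 1 _ M hGm' hcop'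
  rw [pow_one] at hMc
  have hn := CfsgLib.SmallOrder.card_sylow_mem_filter M hMc (n := 12) (by rw [hGm, mul_comm]) hm.pos.ne'
  have hn1 := CfsgLib.SmallOrder.card_sylow_ne_one M (by rw [hMc]; exact hm.ne_one) (by rw [hMc, hGm]; omega)
  rw [Finset.mem_filter, Nat.mem_divisors] at hn
  obtain ⟨⟨hnd, -⟩, hnm⟩ := hn
  have hle : Nat.card (Sylow m G) ≤ 12 := Nat.le_of_dvd (by norm_num) hnd
  have hge : m < Nat.card (Sylow m G) := by
    by_contra hc
    rcases (Nat.le_of_not_lt hc).lt_or_eq with h | h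
    · rw [Nat.mod_eq_of_lt h] at hnm; exact hn1 hnm
    · rw [h, Nat.mod_self] at hnm; exact one_ne_zero hnm.symm
  have hm5 : m = 5 ∨ Nat.card (Sylow m G) = 12 := by
    rcases eq_or_ne (Nat.card (Sylow m G)) 12 with h | h
    · exact Or.inr h
    · left
      have hle' : Nat.card (Sylow m G) ≤ 6 := by
        obtain ⟨c, hc⟩ := hnd
        rcases Nat.lt_or_ge c 2 with hc2 | hc2
        · interval_cases c <;> omega
        · nlinarith
      have : m ≠ 4 := fun e => by rw [e] at hm; exact absurd hm (by norm_num)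
      omega
  rcases hm5 with rfl | h12
  · rw [hGm]
  exfalso
  refine hnoburnside m 1 12 M hGm' hcop' one_ne_zero (by norm_num) ?_
  have hN := CfsgLib.SmallOrder.card_normalizer_mul_card_sylow M
  rw [h12, hGm, mul_comm 12] at hN
  have hNc : Nat.card (Subgroup.normalizer ((M : Subgroup G) : Set G)) = m := Nat.eq_of_mul_eq_mul_right (by norm_num) hN
  have hNM := Subgroup.eq_of_le_of_card_ge (Subgroup.le_normalizer (H := (M : Subgroup G))) (by rw [hNc]; exact hMc.ge)
  haveI : IsCyclic (M : Subgroup G) := isCyclic_of_prime_card hMc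
  exact hNM.ge.trans (M : Subgroup G).le_centralizer

/-- If a finite simple group has order p^2 * q * r with p, q and r prime, then its order is 60. -/
theorem result {G : Type*} [Group G] [Finite G] [IsSimpleGroup G] (p q r : ℕ) (hp : p.Prime) (hq : q.Prime) (hr : r.Prime) (hG : Nat.card G = p ^ 2 * q * r) : Nat.card G = 60 := by
  exact main p q r hp hq hr hG

end Cfsg.Agent.S0988
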