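import Cfsg.Statements.S0989
import Mathlib

set_option autoImplicit false
open Cfsg

namespace Cfsg.Agent.S0989



/-- In the symmetric group on p or p + 1 letters, p a prime, the normalizer of a Sylow p-subgroup has order p * (p - 1). -/
theorem result {α : Type*} [Fintype α] [DecidableEq α] (p : ℕ) [Fact p.Prime] (hα : Fintype.card α = p ∨ Fintype.card α = p + 1) (P : Sylow p (Equiv.Perm α)) : Nat.card ↥(Subgroup.normalizer ((P : Subgroup (Equiv.Perm α)) : Set (Equiv.Perm α))) = p * (p - 1) := by
  classical
  have hp : p.Prime := Fact.out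
  have hp1 : (p - 1).factorial.factorization p = 0 :=
    Nat.factorization_eq_zero_of_not_dvd fun h => by
      have := hp.dvd_factorial.mp h
      have := hp.two_le
      omega
  have hfp : p.factorial.factorization p = 1 := by
    obtain ⟨k, rfl⟩ : ∃ k, p = k + 1 := ⟨p - 1, by have := hp.two_le; omega⟩
    rw [Nat.factorial_succ, Nat.factorization_mul (by omega) (Nat.factorial_ne_zero _), Finsupp.add_apply,
      hp.factorization_self]
    simp only [Nat.add_sub_cancel] at hp1
    omega
  have hfac : (Fintype.card α).factorial.factorization p = 1 := by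
    rcases hα with h | h <;> rw [h]
    · exact hfp
    · rw [Nat.factorial_succ, Nat.factorization_mul (by omega) (Nat.factorial_ne_zero _), Finsupp.add_apply, hfp,
        Nat.factorization_eq_zero_of_not_dvd fun hd => by
          have := Nat.dvd_sub hd (dvd_refl p)
          simp at this
          exact hp.one_lt.ne' this]
  have hP : Nat.card (P : Subgroup (Equiv.Perm α)) = p := by
    rw [P.card_eq_multiplicity, Nat.card_perm, Nat.card_eq_fintype_card, hfac, pow_one]
  set H := (P : Subgroup (Equiv.Perm α)) with hH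
  haveI : IsCyclic H := isCyclic_of_prime_card hP
  obtain ⟨g, hg⟩ := IsCyclic.exists_generator (α := H)
  have hgo : orderOf (g : Equiv.Perm α) = p := by
    rw [Subgroup.orderOf_coe, orderOf_eq_card_of_forall_mem_zpowers hg, hP]
  have hPg : H = Subgroup.zpowers (g : Equiv.Perm α) :=
    (Subgroup.eq_of_le_of_card_ge (Subgroup.zpowers_le.mpr g.2) (by rw [Nat.card_zpowers, hgo, hP])).symm
  have hcyc : ∀ x : Equiv.Perm α, orderOf x = p → x.IsCycle ∧ x.cycleType = {p} := fun x hx => by
    have hc : x.IsCycle := Equiv.Perm.isCycle_of_prime_order' (by rw [hx]; exact hp)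
      (by rw [hx]; rcases hα with h | h <;> have := hp.two_le <;> omega)
    refine ⟨hc, ?_⟩
    rw [hc.cycleType, ← hc.orderOf, hx]
  have hC : Subgroup.centralizer (H : Set (Equiv.Perm α)) = Subgroup.centralizer {(g : Equiv.Perm α)} := by
    conv_lhs => rw [hPg, Subgroup.zpowers_eq_closure, Subgroup.centralizer_closure]
  have hker : Nat.card H.normalizerMonoidHom.ker = p := by
    rw [Subgroup.normalizerMonoidHom_ker,
      Nat.card_congr (Subgroup.subgroupOfEquivOfLe (Subgroup.centralizer_le_normalizer (s := (H : Set (Equiv.Perm α))))).toEquiv,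
      hC,
      Equiv.Perm.nat_card_centralizer, (hcyc _ hgo).2]
    rcases hα with h | h <;> simp [h]
  have hsurj : Function.Surjective H.normalizerMonoidHom := fun φ => by
    have ho : orderOf ((φ g : H) : Equiv.Perm α) = p := by
      rw [Subgroup.orderOf_coe, MulEquiv.orderOf_eq, ← Subgroup.orderOf_coe, hgo]
    obtain ⟨c, hc⟩ := isConj_iff.mp (Equiv.Perm.isConj_iff_cycleType_eq.mpr ((hcyc _ hgo).2.trans (hcyc _ ho).2.symm))
    have hφg : Subgroup.zpowers ((φ g : H) : Equiv.Perm α) = H :=
      Subgroup.eq_of_le_of_card_ge (Subgroup.zpowers_le.mpr (φ g).2) (by rw [Nat.card_zpowers, ho, hP])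
    have hcN : c ∈ Subgroup.normalizer (H : Set (Equiv.Perm α)) := by
      rw [Subgroup.mem_normalizer_iff_map_conj_eq]
      conv_lhs => rw [hPg]
      rw [MonoidHom.map_zpowers]
      conv_rhs => rw [← hφg]
      rw [← hc]
      rfl
    refine ⟨⟨c, hcN⟩, MulEquiv.ext fun x => ?_⟩
    obtain ⟨k, rfl⟩ := Subgroup.mem_zpowers_iff.mp (hg x)
    rw [map_zpow, map_zpow]
    congr 1
    exact Subtype.ext hc
  have h := H.normalizerMonoidHom.ker.card_mul_index
  rw [Subgroup.index_ker, MonoidHom.range_eq_top.mpr hsurj, Subgroup.card_top, IsCyclic.card_mulAut, hP,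
    Nat.totient_prime hp, hker] at h
  exact h.symm

end Cfsg.Agent.S0989
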