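import Cfsg.Statements.S0990
import Mathlib

set_option autoImplicit false
open Cfsg

namespace Cfsg.Agent.S0990



/-- Let p be an odd prime and P a Sylow p-subgroup of the symmetric group on a finite set with at least two elements. Then P is contained in the alternating group, and twice the order of the normalizer of P inside the alternating group equals the order of the normalizer of P in the symmetric group. -/
theorem result {α : Type*} [Fintype α] [DecidableEq α] (hα : 2 ≤ Fintype.card α) (p : ℕ) [Fact p.Prime] (hp : p ≠ 2) (P : Sylow p (Equiv.Perm α)) : (P : Subgroup (Equiv.Perm α)) ≤ alternatingGroup α ∧ 2 * Nat.card ↥(Subgroup.normalizer ((((P : Subgroup (Equiv.Perm α)).subgroupOf (alternatingGroup α) : Subgroup ↥(alternatingGroup α)) : Set ↥(alternatingGroup α)))) = Nat.card ↥(Subgroup.normalizer ((P : Subgroup (Equiv.Perm α)) : Set (Equiv.Perm α))) := by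
  classical
  haveI : Nontrivial α := Fintype.one_lt_card_iff_nontrivial.mp (by omega)
  have hle : (P : Subgroup (Equiv.Perm α)) ≤ alternatingGroup α := fun x hx => by
    rw [Equiv.Perm.mem_alternatingGroup]
    obtain ⟨k, hk⟩ := P.isPGroup' ⟨x, hx⟩
    have hx' : x ^ p ^ k = 1 := congrArg Subtype.val hk
    have h := congrArg Equiv.Perm.sign hx'
    rw [map_pow, map_one] at h
    rcases Int.units_eq_one_or (Equiv.Perm.sign x) with e | e
    · exact e
    · rw [e, neg_one_pow_eq_one_iff_even (by decide)] at h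
      have hodd : Odd (p ^ k) := ((Fact.out : p.Prime).odd_of_ne_two hp).pow
      exact absurd h (Nat.not_even_iff_odd.mpr hodd)
  refine ⟨hle, ?_⟩
  set A := alternatingGroup α
  set N := Subgroup.normalizer ((P : Subgroup (Equiv.Perm α)) : Set (Equiv.Perm α)) with hN
  have hsup := Sylow.normalizer_sup_eq_top' P hle
  let f : N →* ℤˣ := Equiv.Perm.sign.comp N.subtype
  have hker : Nat.card f.ker =
      Nat.card ↥(Subgroup.normalizer ((((P : Subgroup (Equiv.Perm α)).subgroupOf A : Subgroup ↥A)) : Set ↥A)) := by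
    refine Nat.card_congr ⟨fun x => ⟨⟨x.1.1, Equiv.Perm.mem_alternatingGroup.mpr x.2⟩, ?_⟩,
      fun y => ⟨⟨y.1.1, ?_⟩, Equiv.Perm.mem_alternatingGroup.mp y.1.2⟩, fun x => rfl, fun y => rfl⟩
    · rw [Subgroup.mem_normalizer_iff]
      intro a
      exact Subgroup.mem_normalizer_iff.mp x.1.2 a.1
    · rw [hN, Subgroup.mem_normalizer_iff_map_conj_eq]
      refine Subgroup.eq_of_le_of_card_ge ?_ (by rw [Subgroup.card_map_of_injective (MulAut.conj _).injective])
      rintro _ ⟨a, ha, rfl⟩
      exact (Subgroup.mem_normalizer_iff.mp y.2 ⟨a, hle ha⟩).mp ha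
  have hsurj : Function.Surjective f := by
    intro u
    rcases Int.units_eq_one_or u with rfl | rfl
    · exact ⟨1, map_one f⟩
    obtain ⟨τ, hτ⟩ := Equiv.Perm.sign_surjective α (-1)
    have : τ ∈ (Subgroup.normalizer ((P : Subgroup (Equiv.Perm α)) : Set (Equiv.Perm α)) ⊔ A : Subgroup (Equiv.Perm α)) := by
      rw [show Subgroup.normalizer ((P : Subgroup (Equiv.Perm α)) : Set (Equiv.Perm α)) ⊔ A = ⊤ from hsup]; trivial
    rw [← SetLike.mem_coe, Subgroup.mul_normal] at this
    obtain ⟨n, hn, a, ha, rfl⟩ := this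
    refine ⟨⟨n, hn⟩, ?_⟩
    rw [map_mul, Equiv.Perm.mem_alternatingGroup.mp ha, mul_one] at hτ
    exact hτ
  have h := f.ker.card_mul_index
  rw [Subgroup.index_ker, MonoidHom.range_eq_top.mpr hsurj, Subgroup.card_top, Nat.card_eq_fintype_card (α := ℤˣ),
    Fintype.card_units_int, hker, mul_comm] at h
  exact h

end Cfsg.Agent.S0990
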