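import Cfsg.Statements.S0994
import Mathlib
import Cfsg.Agent.Lib.SmallOrder

set_option autoImplicit false
open Cfsg

namespace Cfsg.Agent.S0994



/-- No finite simple group has order 1188 = 2^2 * 3^3 * 11. -/
theorem result {G : Type*} [Group G] [Finite G] [IsSimpleGroup G] : Nat.card G ≠ 1188 := by
  intro hG
  haveI : Fact (Nat.Prime 11) := ⟨by norm_num⟩
  obtain ⟨P⟩ : Nonempty (Sylow 11 G) := inferInstance
  have hP : Nat.card P = 11 := by
    simpa using CfsgLib.SmallOrder.card_sylow_eq P (k := 1) (by rw [hG]; norm_num) (by rw [hG]; norm_num)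
  have hn := CfsgLib.SmallOrder.card_sylow_mem_filter P hP (n := 108) (by rw [hG]) (by norm_num)
  have hne := CfsgLib.SmallOrder.card_sylow_ne_one P (by rw [hP]; norm_num) (by rw [hP, hG]; norm_num)
  rw [show (108 : ℕ).divisors.filter (fun d => d % 11 = 1) = {1, 12} by decide, Finset.mem_insert, Finset.mem_singleton] at hn
  have hN := CfsgLib.SmallOrder.card_normalizer_mul_card_sylow P
  rw [hn.resolve_left hne, hG] at hN
  have hle : (P : Subgroup G) ≤ Subgroup.normalizer (P : Set G) := Subgroup.le_normalizer
  have hidx : ((P : Subgroup G).subgroupOf (Subgroup.normalizer (P : Set G))).index = 9 := by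
    have h1 := ((P : Subgroup G).subgroupOf (Subgroup.normalizer (P : Set G))).card_mul_index
    rw [Nat.card_congr (Subgroup.subgroupOfEquivOfLe hle).toEquiv] at h1
    change Nat.card P * _ = _ at h1
    rw [hP] at h1
    omega
  have h := CfsgLib.SmallOrder.card_eq_sylow_of_normalizer_le_centralizer P
    (CfsgLib.SmallOrder.normalizer_le_centralizer_of_coprime (P : Subgroup G) hP ((congrArg (fun m => Nat.Coprime m (11 - 1)) hidx).mpr (by norm_num)))
    (fun e => by
      have : Nat.card (P : Subgroup G) = 1 := Subgroup.card_eq_one.mpr e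
      change Nat.card P = 1 at this; omega)
  rw [hP, hG] at h; omega

end Cfsg.Agent.S0994
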