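import Cfsg.Statements.S0995
import Mathlib
import Cfsg.Agent.Lib.SmallOrder
import Cfsg.Agent.Lib.TwoByTwo

set_option autoImplicit false
open Cfsg

namespace Cfsg.Agent.S0995



/-- Let G be a finite perfect group containing an element z of prime order p whose centralizer is the cyclic group it generates. Let t be the number of conjugacy classes of elements of order p. Then t divides p - 1, the number of Sylow p-subgroups has the form 1 + n * p, and |G| * t = (p - 1) * p * (1 + n * p). -/
theorem result {G : Type*} [Group G] [Finite G] (hperf : commutator G = ⊤) (p : ℕ) [Fact p.Prime] (z : G) (hz : orderOf z = p) (hC : Subgroup.centralizer ({z} : Set G) = Subgroup.zpowers z) : ∃ n t : ℕ, t = Nat.card {c : ConjClasses G // ∃ g : G, ConjClasses.mk g = c ∧ orderOf g = p} ∧ t ∣ p - 1 ∧ Nat.card (Sylow p G) = 1 + n * p ∧ Nat.card G * t = (p - 1) * p * (1 + n * p) := by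
  classical
  haveI := Fintype.ofFinite G
  have hp : p.Prime := Fact.out
  have hzC : ∀ x : G, x * z = z * x → x ∈ Subgroup.zpowers z := fun x hx =>
    hC ▸ Subgroup.mem_centralizer_singleton_iff.mpr hx
  have hcardZ : Nat.card (Subgroup.zpowers z) = p := by rw [Nat.card_zpowers, hz]
  have hpdvd : p ∣ Nat.card G := hz ▸ orderOf_dvd_natCard z
  have hsq : ¬ p ^ 2 ∣ Nat.card G := by
    intro h
    obtain ⟨K, hK, hle⟩ := Sylow.exists_subgroup_card_pow_succ (p := p) (n := 1) h (H := Subgroup.zpowers z) (by rw [hcardZ, pow_one])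
    have hKC : K ≤ Subgroup.zpowers z := fun x hx => by
      refine hzC x ?_
      exact congrArg Subtype.val ((IsPGroup.commGroupOfCardEqPrimeSq (p := p) hK).mul_comm ⟨x, hx⟩ ⟨z, hle (Subgroup.mem_zpowers z)⟩)
    have h' := Subgroup.card_le_of_le hKC
    rw [hK, hcardZ, pow_succ, pow_one] at h'
    have := hp.two_le
    nlinarith
  have hS : ∀ P : Sylow p G, Nat.card (P : Subgroup G) = p := fun P => by
    have := CfsgLib.SmallOrder.card_sylow_eq (k := 1) P (by rwa [pow_one]) hsq
    rwa [pow_one] at this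
  obtain ⟨P₀, hP₀⟩ : ∃ P : Sylow p G, (P : Subgroup G) = Subgroup.zpowers z := by
    obtain ⟨P, hP⟩ := (IsPGroup.of_card (n := 1) (by rw [hcardZ, pow_one]) : IsPGroup p (Subgroup.zpowers z)).exists_le_sylow
    exact ⟨P, (Subgroup.eq_of_le_of_card_ge hP (by rw [hS, hcardZ])).symm⟩
  have hzp : ∀ (P : Sylow p G) (x : G), x ∈ (P : Subgroup G) → x ≠ 1 → orderOf x = p := fun P x hx hx1 => by
    have : orderOf x ∣ p := by
      rw [← hS P, ← Subgroup.orderOf_mk x hx]
      exact orderOf_dvd_natCard _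
    exact ((Nat.dvd_prime hp).mp this).resolve_left (fun e => hx1 (orderOf_eq_one_iff.mp e))
  have hsyl : ∀ x : G, orderOf x = p → ∃ P : Sylow p G, (P : Subgroup G) = Subgroup.zpowers x := fun x hx => by
    have hc : Nat.card (Subgroup.zpowers x) = p := by rw [Nat.card_zpowers, hx]
    obtain ⟨P, hP⟩ := (IsPGroup.of_card (n := 1) (by rw [hc, pow_one]) : IsPGroup p (Subgroup.zpowers x)).exists_le_sylow
    exact ⟨P, (Subgroup.eq_of_le_of_card_ge hP (by rw [hS, hc])).symm⟩
  -- centralisers
  have hcen : ∀ x : G, orderOf x = p → Nat.card (Subgroup.centralizer ({x} : Set G)) = p := by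
    intro x hx
    obtain ⟨P, hP⟩ := hsyl x hx
    obtain ⟨g, hg⟩ := MulAction.exists_smul_eq G P₀ P
    have hmap : (Subgroup.zpowers z).map (MulAut.conj g).toMonoidHom = Subgroup.zpowers x := by
      rw [← hP, ← hP₀, ← hg]; rfl
    rw [MonoidHom.map_zpowers] at hmap
    have e1 : Subgroup.centralizer ({x} : Set G) = Subgroup.centralizer ({g * z * g⁻¹} : Set G) := by
      rw [← Subgroup.centralizer_closure, ← Subgroup.zpowers_eq_closure, ← hmap, Subgroup.zpowers_eq_closure,
        Subgroup.centralizer_closure]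
      rfl
    rw [e1, ← hcardZ, ← hC]
    refine (Nat.card_congr ((MulAut.conj g).toEquiv.subtypeEquiv fun c => ?_)).symm
    show c ∈ Subgroup.centralizer {z} ↔ g * c * g⁻¹ ∈ Subgroup.centralizer {g * z * g⁻¹}
    rw [Subgroup.mem_centralizer_singleton_iff, Subgroup.mem_centralizer_singleton_iff]
    simp only [mul_assoc, inv_mul_cancel_left, mul_left_cancel_iff]
    rw [← mul_assoc c, ← mul_assoc z, mul_left_inj]
  -- elements of order `p`
  have hcount : Nat.card {x : G // orderOf x = p} = Nat.card (Sylow p G) * (p - 1) := by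
    let e : {x : G // orderOf x = p} ≃ (P : Sylow p G) × {x : (P : Subgroup G) // x ≠ 1} :=
      (Equiv.ofBijective (fun s : (P : Sylow p G) × {x : (P : Subgroup G) // x ≠ 1} =>
        (⟨s.2.1.1, hzp s.1 _ s.2.1.2 fun h => s.2.2 (Subtype.ext h)⟩ : {x : G // orderOf x = p}))
        ⟨by
          rintro ⟨P, ⟨x, hx⟩, hx1⟩ ⟨Q, ⟨y, hy⟩, hy1⟩ e
          obtain rfl : x = y := congrArg Subtype.val e
          have ho := hzp P x hx fun h => hx1 (Subtype.ext h)
          have eP : ∀ R : Sylow p G, x ∈ (R : Subgroup G) → (R : Subgroup G) = Subgroup.zpowers x := fun R hR =>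
            (Subgroup.eq_of_le_of_card_ge (Subgroup.zpowers_le.mpr hR) (by rw [hS, Nat.card_zpowers, ho])).symm
          obtain rfl : P = Q := Sylow.ext ((eP P hx).trans (eP Q hy).symm)
          rfl, fun x => by
          obtain ⟨P, hP⟩ := hsyl x.1 x.2
          refine ⟨⟨P, ⟨x.1, hP ▸ Subgroup.mem_zpowers _⟩, fun h => ?_⟩, rfl⟩
          have h1 : x.1 = 1 := congrArg Subtype.val h
          have := x.2
          rw [h1, orderOf_one] at this
          exact hp.one_lt.ne this⟩).symm
    rw [Nat.card_congr e, Nat.card_sigma, Finset.sum_congr rfl (g := fun _ => p - 1), Finset.sum_const, smul_eq_mul,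
      Finset.card_univ, ← Nat.card_eq_fintype_card]
    intro P _
    rw [Nat.card_eq_fintype_card, Fintype.card_subtype_compl, Fintype.card_subtype_eq, ← Nat.card_eq_fintype_card, hS]
  -- classes
  set C := {c : ConjClasses G // ∃ g : G, ConjClasses.mk g = c ∧ orderOf g = p}
  have hiso : ∀ g h : G, IsConj g h → orderOf h = orderOf g := fun g h hgh => by
    obtain ⟨c, rfl⟩ := isConj_iff.mp hgh
    exact MulEquiv.orderOf_eq (MulAut.conj c) g
  have hcls : Nat.card C * Nat.card G = p * (Nat.card (Sylow p G) * (p - 1)) := by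
    rw [← hcount]
    let f : {x : G // orderOf x = p} → C := fun x => ⟨ConjClasses.mk x.1, x.1, rfl, x.2⟩
    rw [Nat.card_congr (Equiv.sigmaFiberEquiv f).symm, Nat.card_sigma, Finset.mul_sum,
      Finset.sum_congr rfl (g := fun _ => Nat.card G), Finset.sum_const, smul_eq_mul, Finset.card_univ,
      ← Nat.card_eq_fintype_card]
    rintro ⟨c, g, rfl, hg⟩ _
    have hg' := CfsgLib.TwoByTwo.card_carrier_mul_centralizer g
    rw [hcen g hg] at hg'
    rw [← hg', mul_comm p]
    congr 1
    exact Nat.card_congr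
      ⟨fun x => ⟨x.1.1, ConjClasses.mem_carrier_iff_mk_eq.mpr (congrArg Subtype.val x.2)⟩,
        fun x => ⟨⟨x.1, (hiso g x.1 (ConjClasses.mk_eq_mk_iff_isConj.mp
          (ConjClasses.mem_carrier_iff_mk_eq.mp x.2).symm)).trans hg⟩,
          Subtype.ext (ConjClasses.mem_carrier_iff_mk_eq.mp x.2)⟩, fun x => rfl, fun x => rfl⟩
  have hmod : Nat.card (Sylow p G) % p = 1 := by
    have h := card_sylow_modEq_one p G
    rwa [Nat.ModEq, Nat.mod_eq_of_lt hp.one_lt] at h
  refine ⟨Nat.card (Sylow p G) / p, Nat.card C, rfl, ?_, ?_, ?_⟩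
  · -- `|N| = p e`
    have hNle : (P₀ : Subgroup G) ≤ Subgroup.normalizer ((P₀ : Subgroup G) : Set G) := Subgroup.le_normalizer
    obtain ⟨e, he⟩ := Subgroup.card_dvd_of_le hNle
    rw [hS] at he
    have hG : Nat.card (Subgroup.normalizer ((P₀ : Subgroup G) : Set G)) * Nat.card (Sylow p G) = Nat.card G :=
      CfsgLib.SmallOrder.card_normalizer_mul_card_sylow P₀
    rw [he] at hG
    refine ⟨e, ?_⟩
    have hn : 0 < p * Nat.card (Sylow p G) := Nat.mul_pos hp.pos Nat.card_pos
    refine Nat.eq_of_mul_eq_mul_left hn ?_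
    rw [← hG] at hcls
    linarith [hcls]
  · have := Nat.mod_add_div (Nat.card (Sylow p G)) p
    rw [hmod] at this
    linarith [this]
  · have := Nat.mod_add_div (Nat.card (Sylow p G)) p
    rw [hmod] at this
    rw [mul_comm (Nat.card (Sylow p G) / p) p, this, mul_comm (Nat.card G), hcls]
    ring

end Cfsg.Agent.S0995
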