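import Cfsg.Statements.S1004
import Mathlib
import Cfsg.Agent.Lib.SmallSimple.Order168Props

set_option autoImplicit false
set_option maxRecDepth 20000
attribute [local irreducible] CfsgLib.Order168Model.mulC CfsgLib.Order168Model.invC CfsgLib.Order168Model.detC CfsgLib.Order168Model.mkT
open Cfsg

namespace Cfsg.Agent.S1004



/-- Let G be a simple group of order 168 and T a Sylow 2-subgroup. Then T is dihedral of order 8, T is its own normalizer, and T is the centralizer of any non-identity element of T that commutes with every element of T. -/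
theorem result {G : Type*} [Group G] [Finite G] [IsSimpleGroup G] (h : Nat.card G = 168) (T : Sylow 2 G) : Nonempty (↥(T : Subgroup G) ≃* DihedralGroup 4) ∧ Subgroup.normalizer ((T : Subgroup G) : Set G) = T ∧ ∀ z : G, z ∈ (T : Subgroup G) → z ≠ 1 → (∀ t ∈ (T : Subgroup G), t * z = z * t) → Subgroup.centralizer ({z} : Set G) = T := by
  obtain ⟨φ, hφ⟩ := CfsgLib.Order168Model.exists_equiv_sylow h T
  obtain ⟨d⟩ := CfsgLib.Order168Model.T0_equiv
  have hmem : ∀ g, φ g ∈ CfsgLib.Order168Model.T0 ↔ g ∈ (T : Subgroup G) := fun g => by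
    rw [← hφ]
    exact Subgroup.mem_map_iff_mem φ.injective
  refine ⟨⟨(((T : Subgroup G).equivMapOfInjective φ.toMonoidHom φ.injective).trans (MulEquiv.subgroupCongr hφ)).trans d⟩,
    ?_, fun z hz hz1 hcom => ?_⟩
  · refine Subgroup.map_injective (f := φ.toMonoidHom) φ.injective ?_
    rw [Subgroup.map_equiv_normalizer_eq, hφ]
    exact CfsgLib.Order168Model.normalizer_T0_eq
  · have key := CfsgLib.Order168Model.center_T0 (φ z) ((hmem z).mpr hz)
      (fun e => hz1 (φ.injective (e.trans (map_one φ).symm))) (fun t ht => by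
        obtain ⟨t', rfl⟩ := φ.surjective t
        rw [← map_mul, ← map_mul, hcom t' ((hmem t').mp ht)])
    ext g
    rw [Subgroup.mem_centralizer_singleton_iff, ← hmem, ← key, ← map_mul, ← map_mul, φ.injective.eq_iff]

end Cfsg.Agent.S1004
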