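import Cfsg.Statements.S1005
import Mathlib
import Cfsg.Agent.Lib.SmallSimple.Order168Props

set_option autoImplicit false
set_option maxRecDepth 20000
attribute [local irreducible] CfsgLib.Order168Model.mulC CfsgLib.Order168Model.invC CfsgLib.Order168Model.detC CfsgLib.Order168Model.mkT
open Cfsg

namespace Cfsg.Agent.S1005



/-- In a simple group of order 168 every element has order 1, 2, 3, 4 or 7; there are exactly 21 elements of order 2, and any two of them are conjugate. -/
theorem result {G : Type*} [Group G] [Finite G] [IsSimpleGroup G] (h : Nat.card G = 168) : (∀ g : G, orderOf g = 1 ∨ orderOf g = 2 ∨ orderOf g = 3 ∨ orderOf g = 4 ∨ orderOf g = 7) ∧ Nat.card {g : G // orderOf g = 2} = 21 ∧ ∀ s t : G, orderOf s = 2 → orderOf t = 2 → IsConj s t := by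
  obtain ⟨e⟩ := CfsgLib.Order168Model.exists_equiv h
  refine ⟨fun g => by rw [← MulEquiv.orderOf_eq e g]; exact CfsgLib.Order168Model.orderOf_cases (e g), ?_,
    fun s t hs ht => ?_⟩
  · rw [← CfsgLib.Order168Model.counts.1, ← Nat.card_eq_fintype_card]
    exact Nat.card_congr (e.toEquiv.subtypeEquiv fun g => by
      show orderOf g = 2 ↔ _
      rw [← MulEquiv.orderOf_eq e g]; exact CfsgLib.Order168Model.orderOf_two_iff (e g))
  · have key : ∀ s : G, orderOf s = 2 → IsConj (e s) (CfsgLib.Order168Model.mkT 275) := fun s hs => by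
      have h' := (CfsgLib.Order168Model.orderOf_two_iff (e s)).mp (by rw [MulEquiv.orderOf_eq, hs])
      exact isConj_iff.mpr (CfsgLib.Order168Model.conj_two _ h'.1 h'.2)
    have := MonoidHom.map_isConj e.symm.toMonoidHom ((key s hs).trans (key t ht).symm)
    simpa using this

end Cfsg.Agent.S1005
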