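import Cfsg.Statements.S1006
import Mathlib
import Cfsg.Agent.Lib.SmallSimple.Order168Props

set_option autoImplicit false
set_option maxRecDepth 20000
attribute [local irreducible] CfsgLib.Order168Model.mulC CfsgLib.Order168Model.invC CfsgLib.Order168Model.detC CfsgLib.Order168Model.mkT
open Cfsg

namespace Cfsg.Agent.S1006



/-- In a simple group of order 168 there are 56 elements of order 3, all conjugate; 42 elements of order 4, all conjugate; and 48 elements of order 7 falling into two conjugacy classes of size 24, an element of order 7 not being conjugate to its inverse. -/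
theorem result {G : Type*} [Group G] [Finite G] [IsSimpleGroup G] (h : Nat.card G = 168) : Nat.card {g : G // orderOf g = 3} = 56 ∧ (∀ s t : G, orderOf s = 3 → orderOf t = 3 → IsConj s t) ∧ Nat.card {g : G // orderOf g = 4} = 42 ∧ (∀ s t : G, orderOf s = 4 → orderOf t = 4 → IsConj s t) ∧ Nat.card {g : G // orderOf g = 7} = 48 ∧ ∀ x : G, orderOf x = 7 → Nat.card {g : G // IsConj x g} = 24 ∧ ¬ IsConj x x⁻¹ := by
  obtain ⟨e⟩ := CfsgLib.Order168Model.exists_equiv h
  have back : ∀ s t : G, IsConj (e s) (e t) → IsConj s t := fun s t hst => by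
    simpa using MonoidHom.map_isConj e.symm.toMonoidHom hst
  refine ⟨?_, fun s t hs ht => back s t ?_, ?_, fun s t hs ht => back s t ?_, ?_, fun x hx => ?_⟩
  · rw [← CfsgLib.Order168Model.counts.2.1, ← Nat.card_eq_fintype_card]
    exact Nat.card_congr (e.toEquiv.subtypeEquiv fun g => by
      show orderOf g = 3 ↔ _
      rw [← MulEquiv.orderOf_eq e g]; exact CfsgLib.Order168Model.orderOf_three_iff (e g))
  · have key : ∀ s : G, orderOf s = 3 → IsConj (e s) (CfsgLib.Order168Model.mkT 282) := fun s hs => by
      have h' := (CfsgLib.Order168Model.orderOf_three_iff (e s)).mp (by rw [MulEquiv.orderOf_eq, hs])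
      exact isConj_iff.mpr (CfsgLib.Order168Model.conj_three _ h'.1 h'.2)
    exact (key s hs).trans (key t ht).symm
  · rw [← CfsgLib.Order168Model.counts.2.2.1, ← Nat.card_eq_fintype_card]
    exact Nat.card_congr (e.toEquiv.subtypeEquiv fun g => by
      show orderOf g = 4 ↔ _
      rw [← MulEquiv.orderOf_eq e g]; exact CfsgLib.Order168Model.orderOf_four_iff (e g))
  · have key : ∀ s : G, orderOf s = 4 → IsConj (e s) (CfsgLib.Order168Model.mkT 307) := fun s hs => by
      have h' := (CfsgLib.Order168Model.orderOf_four_iff (e s)).mp (by rw [MulEquiv.orderOf_eq, hs])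
      exact isConj_iff.mpr (CfsgLib.Order168Model.conj_four _ h'.1 h'.2)
    exact (key s hs).trans (key t ht).symm
  · rw [← CfsgLib.Order168Model.counts.2.2.2, ← Nat.card_eq_fintype_card]
    exact Nat.card_congr (e.toEquiv.subtypeEquiv fun g => by
      show orderOf g = 7 ↔ _
      rw [← MulEquiv.orderOf_eq e g]; exact CfsgLib.Order168Model.orderOf_seven_iff (e g))
  · obtain ⟨h1, h2⟩ := CfsgLib.Order168Model.card_class_seven (x := e x) (by rw [MulEquiv.orderOf_eq, hx])
    refine ⟨?_, fun hc => h2 ?_⟩
    · rw [← h1]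
      exact Nat.card_congr (e.toEquiv.subtypeEquiv fun g => ⟨fun hg => e.toMonoidHom.map_isConj hg, back x g⟩)
    · rw [← map_inv]
      exact e.toMonoidHom.map_isConj hc

end Cfsg.Agent.S1006
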