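import Cfsg.Statements.S1008
import Mathlib
import Cfsg.Agent.Lib.SmallSimple.Order168Props

set_option autoImplicit false
set_option maxRecDepth 20000
attribute [local irreducible] CfsgLib.Order168Model.mulC CfsgLib.Order168Model.invC CfsgLib.Order168Model.detC CfsgLib.Order168Model.mkT
open Cfsg

namespace Cfsg.Agent.S1008

/-- Conjugation commutes with an isomorphism. -/
theorem map_conj_comm {A B : Type*} [Group A] [Group B] (f : A ≃* B) (X : Subgroup A) (g : A) :
    (X.map (MulAut.conj g).toMonoidHom).map f.toMonoidHom = (X.map f.toMonoidHom).map (MulAut.conj (f g)).toMonoidHom := by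
  rw [Subgroup.map_map, Subgroup.map_map]
  congr 1
  exact MonoidHom.ext fun x => by simp

theorem map_conj_inv {A : Type*} [Group A] {X Y : Subgroup A} {g : A} (h : X.map (MulAut.conj g).toMonoidHom = Y) :
    X = Y.map (MulAut.conj g⁻¹).toMonoidHom := by
  rw [← h, Subgroup.map_map]
  conv_lhs => rw [← X.map_id]
  congr 1
  exact MonoidHom.ext fun x => by simp [mul_assoc]

/-- In a simple group of order 168 every maximal subgroup is either isomorphic to the symmetric group of degree 4 or non-abelian of order 21; the maximal subgroups of order 21 form one conjugacy class and those isomorphic to the symmetric group of degree 4 form exactly two conjugacy classes. -/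
theorem result {G : Type*} [Group G] [Finite G] [IsSimpleGroup G] (h : Nat.card G = 168) : (∀ M : Subgroup G, IsCoatom M → Nonempty (↥M ≃* Equiv.Perm (Fin 4)) ∨ (Nat.card ↥M = 21 ∧ ¬ IsMulCommutative ↥M)) ∧ (∀ M M' : Subgroup G, IsCoatom M → IsCoatom M' → Nat.card ↥M = 21 → Nat.card ↥M' = 21 → ∃ g : G, M' = M.map (MulAut.conj g).toMonoidHom) ∧ ∃ M₁ M₂ : Subgroup G, IsCoatom M₁ ∧ IsCoatom M₂ ∧ Nonempty (↥M₁ ≃* Equiv.Perm (Fin 4)) ∧ Nonempty (↥M₂ ≃* Equiv.Perm (Fin 4)) ∧ (∀ g : G, M₂ ≠ M₁.map (MulAut.conj g).toMonoidHom) ∧ ∀ M : Subgroup G, IsCoatom M → Nonempty (↥M ≃* Equiv.Perm (Fin 4)) → ∃ g : G, M = M₁.map (MulAut.conj g).toMonoidHom ∨ M = M₂.map (MulAut.conj g).toMonoidHom := by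
  obtain ⟨e⟩ := CfsgLib.Order168Model.exists_equiv h
  obtain ⟨a⟩ := CfsgLib.Order168Model.SA_equiv
  obtain ⟨b⟩ := CfsgLib.Order168Model.SB_equiv
  have hco : ∀ M : Subgroup G, IsCoatom M → IsCoatom (M.map e.toMonoidHom) := fun M hM =>
    (e.mapSubgroup.isCoatom_iff M).mpr hM
  have hcard : ∀ M : Subgroup G, Nat.card (M.map e.toMonoidHom) = Nat.card M := fun M =>
    Subgroup.card_map_of_injective e.injective
  have hcs : Nat.card (Equiv.Perm (Fin 4)) = 24 := by rw [Nat.card_perm, Nat.card_fin]; rfl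
  have hback : ∀ (M : Subgroup G) (S : Subgroup CfsgLib.Order168Model.T) (c : CfsgLib.Order168Model.T),
      (M.map e.toMonoidHom).map (MulAut.conj c).toMonoidHom = S →
      M = (S.map e.symm.toMonoidHom).map (MulAut.conj (e.symm c⁻¹)).toMonoidHom := by
    intro M S c hc
    rw [← map_conj_comm, ← map_conj_inv hc, Subgroup.map_map]
    conv_lhs => rw [← M.map_id]
    congr 1
    exact MonoidHom.ext fun x => by simp
  refine ⟨fun M hM => ?_, fun M M' hM hM' h21 h21' => ?_, ?_⟩
  · rcases CfsgLib.Order168Model.maximal_cases (hco M hM) with ⟨h21, -⟩ | ⟨c, hc⟩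
    · rw [hcard] at h21
      refine Or.inr ⟨h21, fun hcomm => ?_⟩
      haveI : Fact (Nat.Prime 7) := ⟨by norm_num⟩
      haveI : Fact (Nat.Prime 3) := ⟨by norm_num⟩
      obtain ⟨x, hx⟩ := exists_prime_orderOf_dvd_card' (G := M) 7 (by rw [h21]; norm_num)
      obtain ⟨y, hy⟩ := exists_prime_orderOf_dvd_card' (G := M) 3 (by rw [h21]; norm_num)
      have hxy : Commute x y := hcomm.is_comm.comm x y
      have ho := hxy.orderOf_mul_eq_mul_orderOf_of_coprime (by rw [hx, hy]; norm_num)
      rw [hx, hy, ← Subgroup.orderOf_coe, ← MulEquiv.orderOf_eq e] at ho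
      rcases CfsgLib.Order168Model.orderOf_cases (e ↑(x * y)) with o | o | o | o | o <;> omega
    · left
      rcases hc with hc | hc
      · exact ⟨((M.equivMapOfInjective e.toMonoidHom e.injective).trans
          ((((M.map e.toMonoidHom).equivMapOfInjective _ (MulAut.conj c).injective)).trans (MulEquiv.subgroupCongr hc))).trans a⟩
      · exact ⟨((M.equivMapOfInjective e.toMonoidHom e.injective).trans
          ((((M.map e.toMonoidHom).equivMapOfInjective _ (MulAut.conj c).injective)).trans (MulEquiv.subgroupCongr hc))).trans b⟩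
  · have get : ∀ M : Subgroup G, IsCoatom M → Nat.card M = 21 → ∃ c : CfsgLib.Order168Model.T,
        (M.map e.toMonoidHom).map (MulAut.conj c).toMonoidHom =
          Subgroup.normalizer (Subgroup.zpowers (CfsgLib.Order168Model.mkT 94) : Set CfsgLib.Order168Model.T) := by
      intro M hM h21
      rcases CfsgLib.Order168Model.maximal_cases (hco M hM) with ⟨-, x, hx, hM'⟩ | ⟨c, hc⟩
      · have hx' := (CfsgLib.Order168Model.orderOf_seven_iff x).mp hx
        obtain ⟨c, hc⟩ := CfsgLib.Order168Model.conj_seven x hx'.1 hx'.2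
        refine ⟨c, ?_⟩
        rw [hM', Subgroup.map_equiv_normalizer_eq, MonoidHom.map_zpowers, MulEquiv.coe_toMonoidHom, MulAut.conj_apply]
        rcases hc with e1 | e1 <;> rw [e1]
        rw [Subgroup.zpowers_inv]
      · exfalso
        have h' : Nat.card ((M.map e.toMonoidHom).map (MulAut.conj c).toMonoidHom) = 21 := by
          rw [Subgroup.card_map_of_injective (MulAut.conj c).injective, hcard, h21]
        rcases hc with hc | hc <;> rw [hc] at h'
        · rw [CfsgLib.Order168Model.card_subgroups.2.2.2.1] at h'; omega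
        · rw [CfsgLib.Order168Model.card_subgroups.2.2.2.2] at h'; omega
    obtain ⟨c, hc⟩ := get M hM h21
    obtain ⟨d, hd⟩ := get M' hM' h21'
    refine ⟨e.symm d⁻¹ * e.symm c, ?_⟩
    rw [hback M' _ d hd, ← hc]
    rw [Subgroup.map_map, Subgroup.map_map, Subgroup.map_map]
    congr 1
    exact MonoidHom.ext fun x => by simp [mul_assoc]
  · have hcoA : ∀ S : Subgroup CfsgLib.Order168Model.T, Nat.card S = 24 → IsCoatom (S.map e.symm.toMonoidHom) := fun S hS =>
      (e.symm.mapSubgroup.isCoatom_iff S).mpr (CfsgLib.Order168Model.isCoatom_of_card_24 hS)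
    refine ⟨CfsgLib.Order168Model.SA.map e.symm.toMonoidHom, CfsgLib.Order168Model.SB.map e.symm.toMonoidHom,
      hcoA _ CfsgLib.Order168Model.card_subgroups.2.2.2.1, hcoA _ CfsgLib.Order168Model.card_subgroups.2.2.2.2,
      ⟨(Subgroup.equivMapOfInjective _ e.symm.toMonoidHom e.symm.injective).symm.trans a⟩,
      ⟨(Subgroup.equivMapOfInjective _ e.symm.toMonoidHom e.symm.injective).symm.trans b⟩, fun g hg => ?_,
      fun M hM ⟨iso⟩ => ?_⟩
    · obtain ⟨v, hv, hv'⟩ := CfsgLib.Order168Model.SA_not_conj_SB (e g)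
      apply hv'
      have hmem : g * e.symm v * g⁻¹ ∈ CfsgLib.Order168Model.SB.map e.symm.toMonoidHom := by
        rw [hg]
        exact ⟨e.symm v, ⟨v, hv, rfl⟩, rfl⟩
      obtain ⟨w, hw, hwv⟩ := hmem
      have : w = e g * v * (e g)⁻¹ := e.symm.injective (by simpa using hwv)
      rwa [this] at hw
    · have h24 : Nat.card M = 24 := by rw [Nat.card_congr iso.toEquiv, hcs]
      rcases CfsgLib.Order168Model.maximal_cases (hco M hM) with ⟨h21, -⟩ | ⟨c, hc⟩
      · rw [hcard] at h21; omega
      · exact ⟨e.symm c⁻¹, hc.imp (hback M _ c) (hback M _ c)⟩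

end Cfsg.Agent.S1008
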