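import Cfsg.Statements.S1009
import Mathlib

set_option autoImplicit false
open Cfsg
open scoped Pointwise

namespace Cfsg.Agent.S1009



/-- Brodkey's Theorem: if a finite group has abelian Sylow p-subgroups, then there are two Sylow p-subgroups whose intersection equals the intersection of all Sylow p-subgroups. -/
theorem result {G : Type*} [Group G] [Finite G] (p : ℕ) [Fact p.Prime] (hab : ∀ P : Sylow p G, IsMulCommutative ↥(P : Subgroup G)) : ∃ P Q : Sylow p G, (P : Subgroup G) ⊓ (Q : Subgroup G) = ⨅ R : Sylow p G, (R : Subgroup G) := by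
  classical
  obtain ⟨⟨P, Q⟩, -, hmin⟩ := Set.Finite.exists_minimalFor (fun x : Sylow p G × Sylow p G => (x.1 : Subgroup G) ⊓ (x.2 : Subgroup G)) Set.univ Set.finite_univ Set.univ_nonempty
  refine ⟨P, Q, le_antisymm (le_iInf fun R => ?_) (le_inf (iInf_le _ P) (iInf_le _ Q))⟩
  set D := (P : Subgroup G) ⊓ (Q : Subgroup G) with hD
  set C := Subgroup.centralizer (D : Set G)
  have hPC : (P : Subgroup G) ≤ C := fun x hx d hd => congrArg Subtype.val ((hab P).is_comm.comm ⟨d, hd.1⟩ ⟨x, hx⟩)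
  have hQC : (Q : Subgroup G) ≤ C := fun x hx d hd => congrArg Subtype.val ((hab Q).is_comm.comm ⟨d, hd.2⟩ ⟨x, hx⟩)
  obtain ⟨R', hR'⟩ := (IsPGroup.of_equiv (R.2.to_le inf_le_left) (Subgroup.subgroupOfEquivOfLe (inf_le_right : (R : Subgroup G) ⊓ C ≤ C)).symm).exists_le_sylow
  obtain ⟨x, hx⟩ := MulAction.exists_smul_eq C R' (P.subtype hPC)
  set R₁ : Sylow p G := (x : G) • R with hR₁
  have h1 : (R₁ : Subgroup G) ⊓ C ≤ P := by
    intro y hy0
    obtain ⟨hy, hyC⟩ := Subgroup.mem_inf.mp hy0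
    replace hy : y ∈ (R₁ : Subgroup G) := hy
    rw [hR₁, Sylow.coe_subgroup_smul, Subgroup.mem_pointwise_smul_iff_inv_smul_mem] at hy
    have hy' : ((x : G)⁻¹ * y * x) ∈ (R : Subgroup G) ⊓ C := ⟨(show (x : G)⁻¹ * y * x ∈ (R : Subgroup G) by simpa [mul_assoc] using hy), C.mul_mem (C.mul_mem (C.inv_mem x.2) hyC) x.2⟩
    have h2 : (⟨(x : G)⁻¹ * y * x, hy'.2⟩ : C) ∈ (R' : Subgroup C) := hR' (Subgroup.mem_subgroupOf.mpr hy')
    have h3 : (⟨y, hyC⟩ : C) ∈ ((P.subtype hPC : Sylow p C) : Subgroup C) := by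
      rw [← hx, Sylow.coe_subgroup_smul, Subgroup.mem_pointwise_smul_iff_inv_smul_mem]
      convert h2 using 1
      apply Subtype.ext
      simp [mul_assoc]
    exact Subgroup.mem_subgroupOf.mp h3
  have h4 : (R₁ : Subgroup G) ⊓ (Q : Subgroup G) ≤ D := fun y hy => ⟨h1 ⟨hy.1, hQC hy.2⟩, hy.2⟩
  have h5 : D ≤ (R₁ : Subgroup G) ⊓ (Q : Subgroup G) := hmin (j := (R₁, Q)) trivial h4
  intro d hd
  have h6 : d ∈ (R₁ : Subgroup G) := (h5 hd).1
  rw [hR₁, Sylow.coe_subgroup_smul, Subgroup.mem_pointwise_smul_iff_inv_smul_mem] at h6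
  have h7 : (x : G)⁻¹ * d * x ∈ (R : Subgroup G) := by simpa [mul_assoc] using h6
  have h8 : d * (x : G) = (x : G) * d := x.2 d hd
  rwa [mul_assoc, h8, inv_mul_cancel_left] at h7

end Cfsg.Agent.S1009
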