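import Mathlib
import Cfsg.Statements.S1010
import Cfsg.Agent.Lib.SylowCount
import Cfsg.Agent.Lib.SmallOrder
import Cfsg.Agent.Lib.Involutions

set_option autoImplicit false
open Cfsg

namespace Cfsg.Agent.S1010

open MulAction Subgroup

universe u

variable {G : Type u} [Group G] [Finite G]

/-- The fixed points of `g` on the Sylow `5`-subgroups. -/
def Fix (g : G) : Set (Sylow 5 G) := {Q | g • Q = Q}

omit [Finite G] in
theorem conj_mem_of_mem_centralizer {P : Subgroup G} {n c : G}
    (hn : n ∈ normalizer (P : Set G)) (hc : c ∈ centralizer (P : Set G)) :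
    n * c * n⁻¹ ∈ centralizer (P : Set G) := by
  rw [mem_centralizer_iff] at *
  intro q hq
  have h1 := (Subgroup.mem_normalizer_iff.mp (inv_mem hn) q).mp hq
  rw [inv_inv] at h1
  have h2 := hc _ h1
  calc q * (n * c * n⁻¹) = n * (n⁻¹ * q * n * c) * n⁻¹ := by group
    _ = n * (c * (n⁻¹ * q * n)) * n⁻¹ := by rw [h2]
    _ = n * c * n⁻¹ * q := by group

section Faithful

variable [Fact (Nat.Prime 5)]

theorem inf_normalizer (P Q : Sylow 5 G) :
    (P : Subgroup G) ⊓ normalizer ((Q : Subgroup G) : Set G) = (P : Subgroup G) ⊓ Q :=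
  P.2.inf_normalizer_sylow Q

theorem smul_mem_iff {P Q : Sylow 5 G} {x : G} (hx : x ∈ (P : Subgroup G)) :
    x • Q = Q ↔ x ∈ (Q : Subgroup G) := by
  rw [Sylow.smul_eq_iff_mem_normalizer]
  constructor
  · intro h
    have h2 : x ∈ (P : Subgroup G) ⊓ normalizer ((Q : Subgroup G) : Set G) := ⟨hx, h⟩
    rw [inf_normalizer] at h2
    exact h2.2
  · exact fun h => le_normalizer h

theorem eq_of_le {P Q : Sylow 5 G} (h : (P : Subgroup G) ≤ Q) : P = Q :=
  Sylow.ext (P.3 Q.2 h).symm

theorem orbit_five (hn : Nat.card (Sylow 5 G) = 21) {P Q : Sylow 5 G} (hPQ : P ≠ Q) :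
    Nat.card ((P : Subgroup G) ⊓ Q : Subgroup G) * 5 = Nat.card (P : Subgroup G) := by
  classical
  haveI := Fintype.ofFinite (Sylow 5 G)
  have hst : stabilizer (P : Subgroup G) Q = ((P : Subgroup G) ⊓ Q).subgroupOf P := by
    ext x
    rw [mem_stabilizer_iff, mem_subgroupOf, Subgroup.smul_def, smul_mem_iff x.2, Subgroup.mem_inf]
    exact (and_iff_right x.2).symm
  have hidx := index_stabilizer (P : Subgroup G) Q
  obtain ⟨k, hk⟩ := P.2.index (((P : Subgroup G) ⊓ Q).subgroupOf P)
  rw [hst, hk] at hidx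
  have hP : P ∉ orbit (P : Subgroup G) Q := by
    rintro ⟨x, hx⟩
    refine hPQ ?_
    have hxP : (x : G) • P = P := Sylow.smul_eq_iff_mem_normalizer.mpr (le_normalizer x.2)
    exact (smul_left_cancel (x : G) (hxP.trans hx.symm))
  have hle : (orbit (P : Subgroup G) Q).ncard < 21 := by
    rw [← hn, ← Set.ncard_univ]
    exact Set.ncard_lt_ncard (Set.ssubset_univ_iff.mpr fun e => hP (e ▸ Set.mem_univ P))
  have hk1 : k = 1 := by
    rcases k with _ | _ | k
    · exfalso
      rw [pow_zero, index_eq_one, subgroupOf_eq_top, le_inf_iff] at hk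
      exact hPQ (eq_of_le hk.2)
    · rfl
    · exfalso
      have : 5 ^ 2 ≤ 5 ^ (k + 1 + 1) := Nat.pow_le_pow_right (by norm_num) (by omega)
      omega
  have h2 := (((P : Subgroup G) ⊓ Q).subgroupOf P).card_mul_index
  rwa [hk, hk1, pow_one, Nat.card_congr (subgroupOfEquivOfLe inf_le_left).toEquiv] at h2

theorem eq_inf (hn : Nat.card (Sylow 5 G) = 21) {P R T : Sylow 5 G} (hRT : R ≠ T) {E : Subgroup G}
    (hR : E ≤ R) (hT : E ≤ T) (hE : Nat.card E * 5 = Nat.card (P : Subgroup G)) :
    E = (R : Subgroup G) ⊓ T := by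
  refine Subgroup.eq_of_le_of_card_ge (le_inf hR hT) ?_
  have h1 := orbit_five hn hRT
  have h2 : Nat.card (R : Subgroup G) = Nat.card (P : Subgroup G) :=
    Nat.card_congr (R.equiv P).toEquiv
  omega

theorem card_block (hn : Nat.card (Sylow 5 G) = 21) {P Q : Sylow 5 G} (hPQ : P ≠ Q) :
    6 ≤ Nat.card {R : Sylow 5 G // (P : Subgroup G) ⊓ Q ≤ R} := by
  set D := (P : Subgroup G) ⊓ Q with hD
  have hpD : IsPGroup 5 D := P.2.to_le inf_le_left
  have h := hpD.card_modEq_card_fixedPoints (Sylow 5 G)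
  have e : Nat.card (fixedPoints D (Sylow 5 G)) = Nat.card {R : Sylow 5 G // D ≤ R} := by
    refine Nat.card_congr (Equiv.subtypeEquivRight fun R => ?_)
    constructor
    · intro hR x hx
      exact (smul_mem_iff (P := P) hx.1).mp (hR ⟨x, hx⟩)
    · intro hR x
      exact (smul_mem_iff (P := P) x.2.1).mpr (hR x.2)
  rw [e, hn] at h
  have h2 : 2 ≤ Nat.card {R : Sylow 5 G // D ≤ R} := by
    haveI : Nontrivial {R : Sylow 5 G // D ≤ R} :=
      ⟨⟨P, inf_le_left⟩, ⟨Q, inf_le_right⟩, fun e => hPQ (congrArg Subtype.val e)⟩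
    exact Finite.one_lt_card
  have h3 : Nat.card {R : Sylow 5 G // D ≤ R} % 5 = 1 := h.symm
  omega

variable [IsSimpleGroup G] (hn : Nat.card (Sylow 5 G) = 21)
include hn

theorem dvd21 : 21 ∣ Nat.card G := by
  let P : Sylow 5 G := default
  have h2 := P.card_eq_index_normalizer
  rw [hn] at h2
  exact h2 ▸ Subgroup.index_dvd_card _

theorem sylow_ne_top (P : Sylow 5 G) : (P : Subgroup G) ≠ ⊤ := fun h => by
  have h2 : 21 = (normalizer ((P : Subgroup G) : Set G)).index := hn ▸ P.card_eq_index_normalizer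
  rw [normalizer_eq_top_iff.mpr (by rw [h]; infer_instance), index_top] at h2
  norm_num at h2

theorem sylow_ne_bot (P : Sylow 5 G) : (P : Subgroup G) ≠ ⊥ := fun h => by
  have h2 : 21 = (normalizer ((P : Subgroup G) : Set G)).index := hn ▸ P.card_eq_index_normalizer
  rw [normalizer_eq_top_iff.mpr (by rw [h]; infer_instance), index_top] at h2
  norm_num at h2

theorem exists_ne (P : Sylow 5 G) : ∃ Q, Q ≠ P := by
  haveI : Nontrivial (Sylow 5 G) := Finite.one_lt_card_iff_nontrivial.mp (by omega)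
  exact _root_.exists_ne P

theorem card_sylow_five (P : Sylow 5 G) : Nat.card (P : Subgroup G) = 5 := by
  classical
  haveI := Fintype.ofFinite (Sylow 5 G)
  by_contra hne
  obtain ⟨Q, hQP⟩ := exists_ne hn P
  have hPQ : P ≠ Q := hQP.symm
  have hD5 := orbit_five hn hPQ
  have hB6 := card_block hn hPQ
  set D := (P : Subgroup G) ⊓ Q with hD
  clear_value D
  have hDne : D ≠ ⊥ := fun h => hne (by rw [← hD5, h, card_bot])
  obtain ⟨R, hR⟩ : ∃ R : Sylow 5 G, ¬ D ≤ R := by
    by_contra hall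
    push Not at hall
    have hle : D ≤ (P : Subgroup G).normalCore := by
      intro x hx g
      have h2 : x ∈ ((g⁻¹ • P : Sylow 5 G) : Subgroup G) := hall _ hx
      rw [Sylow.coe_subgroup_smul] at h2
      obtain ⟨y, hy, he⟩ := Subgroup.mem_map.mp h2
      have he2 : g⁻¹ * y * g = x := by simpa using he
      have hxy : g * x * g⁻¹ = y := by rw [← he2]; group
      rw [hxy]; exact hy
    rcases Normal.eq_bot_or_eq_top (P : Subgroup G).normalCore_normal with e | e
    · exact hDne (le_bot_iff.mp (e ▸ hle))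
    · exact sylow_ne_top hn P (top_le_iff.mp (e ▸ normalCore_le _))
  let B := Finset.univ.filter (fun S : Sylow 5 G => D ≤ S)
  have hBcard : 6 ≤ B.card := by
    rw [Nat.card_eq_fintype_card, Fintype.card_subtype] at hB6; exact hB6
  let L := fun S : Sylow 5 G => Finset.univ.filter
    (fun T : Sylow 5 G => (R : Subgroup G) ⊓ S ≤ T ∧ T ≠ R)
  have hSR : ∀ S ∈ B, R ≠ S := fun S hS e => hR (e ▸ (Finset.mem_filter.mp hS).2)
  have hL5 : ∀ S ∈ B, 5 ≤ (L S).card := by
    intro S hS
    have h6 := card_block hn (hSR S hS)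
    rw [Nat.card_eq_fintype_card, Fintype.card_subtype] at h6
    have hmem : R ∈ Finset.univ.filter (fun T : Sylow 5 G => (R : Subgroup G) ⊓ S ≤ T) := by simp
    have : L S = (Finset.univ.filter (fun T : Sylow 5 G => (R : Subgroup G) ⊓ S ≤ T)).erase R := by
      ext T; simp [L, and_comm]
    rw [this, Finset.card_erase_of_mem hmem]
    omega
  have hdisj : (B : Set (Sylow 5 G)).PairwiseDisjoint L := by
    intro S hS S' hS' hne'
    simp only [Function.onFun, Finset.disjoint_left]
    intro T hT hT'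
    simp only [L, Finset.mem_filter, Finset.mem_univ, true_and] at hT hT'
    have hR5 := orbit_five hn (hSR S hS)
    have hcR : Nat.card (R : Subgroup G) = Nat.card (P : Subgroup G) :=
      Nat.card_congr (R.equiv P).toEquiv
    have hR5' := orbit_five hn (hSR S' hS')
    have e1 : (R : Subgroup G) ⊓ S = (R : Subgroup G) ⊓ T :=
      eq_inf hn (P := P) (Ne.symm hT.2) inf_le_left hT.1 (by omega)
    have e2 : (R : Subgroup G) ⊓ S' = (R : Subgroup G) ⊓ T :=
      eq_inf hn (P := P) (Ne.symm hT.2) inf_le_left hT'.1 (by omega)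
    have e3 : (R : Subgroup G) ⊓ S = (S : Subgroup G) ⊓ S' :=
      eq_inf hn (P := P) hne' inf_le_right ((e1.trans e2.symm).le.trans inf_le_right) (by omega)
    have e4 : D = (S : Subgroup G) ⊓ S' :=
      eq_inf hn (P := P) hne' (Finset.mem_filter.mp hS).2 (Finset.mem_filter.mp hS').2 hD5
    exact hR ((e4.trans e3.symm).le.trans inf_le_left)
  have hsub : B.biUnion L ⊆ Finset.univ.erase R := by
    intro T hT
    obtain ⟨S, _, hT'⟩ := Finset.mem_biUnion.mp hT
    simp only [L, Finset.mem_filter] at hT'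
    simp [hT'.2.2]
  have hc := Finset.card_le_card hsub
  rw [Finset.card_biUnion hdisj, Finset.card_erase_of_mem (Finset.mem_univ R), Finset.card_univ,
    ← Nat.card_eq_fintype_card, hn] at hc
  have := Finset.card_nsmul_le_sum B (fun S => (L S).card) 5 hL5
  simp only [smul_eq_mul] at this
  omega

theorem free {P Q : Sylow 5 G} (h : P ≠ Q) {x : G} (hx : x ∈ (P : Subgroup G)) (hf : x • Q = Q) :
    x = 1 := by
  have h5 := orbit_five hn h
  rw [card_sylow_five hn P] at h5
  have : (P : Subgroup G) ⊓ Q = ⊥ := Subgroup.card_eq_one.mp (by omega)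
  exact Subgroup.mem_bot.mp (this ▸ ⟨hx, (smul_mem_iff hx).mp hf⟩)

theorem toPerm_injective : Function.Injective (MulAction.toPermHom G (Sylow 5 G)) := by
  rw [← MonoidHom.ker_eq_bot_iff]
  rcases Normal.eq_bot_or_eq_top (inferInstance : (MulAction.toPermHom G (Sylow 5 G)).ker.Normal)
    with e | e
  · exact e
  · exfalso
    let P : Sylow 5 G := default
    obtain ⟨Q, hQ⟩ := exists_ne hn P
    obtain ⟨g, hg⟩ := exists_smul_eq G P Q
    have hk : g ∈ (MulAction.toPermHom G (Sylow 5 G)).ker := e ▸ Subgroup.mem_top g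
    have h := Equiv.congr_fun (MonoidHom.mem_ker.mp hk) P
    exact hQ (hg.symm.trans h)

theorem eq_one_of_fix_all {g : G} (h : ∀ Q : Sylow 5 G, g • Q = Q) : g = 1 :=
  toPerm_injective hn (by rw [map_one]; ext Q : 1; exact h Q)

theorem sign_eq_one [Fintype (Sylow 5 G)] [DecidableEq (Sylow 5 G)] (g : G) :
    Equiv.Perm.sign (MulAction.toPermHom G (Sylow 5 G) g) = 1 := by
  let s : G →* ℤˣ := Equiv.Perm.sign.comp (MulAction.toPermHom G (Sylow 5 G))
  change s g = 1
  rcases Normal.eq_bot_or_eq_top (inferInstance : s.ker.Normal) with e | e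
  · exfalso
    have h2 := Nat.card_le_card_of_injective s (s.ker_eq_bot_iff.mp e)
    have h3 : Nat.card ℤˣ = 2 := by simp
    have := Nat.le_of_dvd Nat.card_pos (dvd21 hn)
    omega
  · have hk : g ∈ s.ker := e ▸ Subgroup.mem_top g
    exact MonoidHom.mem_ker.mp hk

theorem ncard_fix_add_support [Fintype (Sylow 5 G)] [DecidableEq (Sylow 5 G)] (g : G) :
    (Fix g).ncard + (MulAction.toPermHom G (Sylow 5 G) g).support.card = 21 := by
  have h : Fix g = (((MulAction.toPermHom G (Sylow 5 G) g).support)ᶜ : Finset (Sylow 5 G)) := by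
    ext Q; simp [Fix]
  rw [h, Set.ncard_coe_finset, Finset.card_compl, ← Nat.card_eq_fintype_card, hn]
  have := Finset.card_le_univ (MulAction.toPermHom G (Sylow 5 G) g).support
  rw [← Nat.card_eq_fintype_card, hn] at this
  omega

theorem fix_mod_four {t : G} (ht : orderOf t = 2) : (Fix t).ncard % 4 = 1 := by
  classical
  haveI := Fintype.ofFinite (Sylow 5 G)
  have ho : orderOf (MulAction.toPermHom G (Sylow 5 G) t) = 2 :=
    (orderOf_injective _ (toPerm_injective hn) t).trans ht
  have hs := sign_eq_one hn t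
  have hsum := ncard_fix_add_support hn t
  obtain ⟨m, hm⟩ := Equiv.Perm.cycleType_prime_order (σ := MulAction.toPermHom G (Sylow 5 G) t)
    (by rw [ho]; exact Nat.prime_two)
  rw [ho] at hm
  rw [← Equiv.Perm.sum_cycleType, hm, Multiset.sum_replicate, smul_eq_mul] at hsum
  rw [Equiv.Perm.sign_of_cycleType, hm, Multiset.sum_replicate, Multiset.card_replicate,
    smul_eq_mul] at hs
  rcases Nat.even_or_odd ((m + 1) * 2 + (m + 1)) with he | he
  · obtain ⟨r, hr⟩ := he; omega
  · rw [he.neg_one_pow] at hs; exact absurd hs (by decide)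

theorem fix_mod_five (P : Sylow 5 G) {g : G} (hg : g ∈ centralizer ((P : Subgroup G) : Set G)) :
    (Fix g).ncard % 5 = 1 := by
  let Y : SubMulAction (P : Subgroup G) (Sylow 5 G) :=
    { carrier := Fix g
      smul_mem' := fun x Q hQ => by
        show g • ((x : G) • Q) = (x : G) • Q
        rw [← mul_smul, show g * (x : G) = x * g from (mem_centralizer_iff.mp hg x x.2).symm, mul_smul]
        exact congrArg _ hQ }
  have hgP : g • P = P :=
    Sylow.smul_eq_iff_mem_normalizer.mpr (centralizer_le_normalizer _ hg)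
  have h := P.2.card_modEq_card_fixedPoints Y
  have h1 : Nat.card (fixedPoints (P : Subgroup G) Y) = 1 := by
    rw [Nat.card_eq_one_iff_exists]
    refine ⟨⟨⟨P, hgP⟩, fun x => Subtype.ext (Sylow.smul_eq_iff_mem_normalizer.mpr (le_normalizer x.2))⟩,
      fun ⟨⟨Q, hQ⟩, hfix⟩ => ?_⟩
    have hPQ : P = Q := eq_of_le fun x hx =>
      (smul_mem_iff hx).mp (congrArg Subtype.val (hfix ⟨x, hx⟩))
    subst hPQ
    rfl
  rw [h1] at h
  exact h

theorem fix_le_one_of_conj_eq (P : Sylow 5 G) {g : G}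
    (hg : g ∉ centralizer ((P : Subgroup G) : Set G))
    {q : G} (hq : q ∈ (P : Subgroup G)) (he : g * q * g⁻¹ = q) : q = 1 := by
  by_contra hq1
  apply hg
  have hz : zpowers q = (P : Subgroup G) := by
    refine Subgroup.eq_of_le_of_card_ge (zpowers_le.mpr hq) ?_
    rw [card_sylow_five hn P, Nat.card_zpowers]
    have hd := Subgroup.orderOf_dvd_natCard _ hq
    rw [card_sylow_five hn P] at hd
    rcases (Nat.dvd_prime (by norm_num)).mp hd with e | e
    · exact absurd (orderOf_eq_one_iff.mp e) hq1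
    · omega
  rw [← hz, mem_centralizer_iff]
  rintro x ⟨k, rfl⟩
  exact (Commute.zpow_left (show Commute q g from (mul_inv_eq_iff_eq_mul.mp he).symm) k).eq

/-- `(R, p) ↦ p • R` on the other fixed points of `g`. -/
theorem inj_key (P : Sylow 5 G) {g : G}
    (hg : g ∉ centralizer ((P : Subgroup G) : Set G)) (hgP : g • P = P) :
    Function.Injective (fun a : ((Fix g \ {P} : Set _)) × (P : Subgroup G) =>
      ((a.2 : G) • (a.1 : Sylow 5 G))) := by
  rintro ⟨⟨R, hR, hR'⟩, p⟩ ⟨⟨R', hR₁, hR₁'⟩, p'⟩ he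
  simp only at he
  have hR'' : R' = ((p' : G)⁻¹ * p) • R := by
    rw [mul_smul, he, inv_smul_smul]
  set q := (p' : G)⁻¹ * p with hq
  have hqP : q ∈ (P : Subgroup G) := mul_mem (inv_mem p'.2) p.2
  have hgN : g ∈ normalizer ((P : Subgroup G) : Set G) := Sylow.smul_eq_iff_mem_normalizer.mp hgP
  have h1 : (q⁻¹ * (g * q * g⁻¹)) • R = R := by
    rw [mul_smul, mul_smul, mul_smul, show g⁻¹ • R = R from (inv_smul_eq_iff).mpr hR.symm, ← hR'',
      show g • R' = R' from hR₁, hR'', inv_smul_smul]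
  have h2 := free hn (Ne.symm hR') (mul_mem (inv_mem hqP) ((mem_normalizer_iff.mp hgN q).mp hqP)) h1
  have h3 := fix_le_one_of_conj_eq hn P hg hqP (inv_mul_eq_one.mp h2).symm
  have hpp : p' = p := Subtype.ext (inv_mul_eq_one.mp h3)
  subst hpp
  rw [h3, one_smul] at hR''
  subst hR''
  rfl

theorem fix_le_five (P : Sylow 5 G) {g : G}
    (hg : g ∉ centralizer ((P : Subgroup G) : Set G)) (hgP : g • P = P) :
    (Fix g).ncard ≤ 5 := by
  have h := Nat.card_le_card_of_injective
    (fun a => (⟨_, fun e => a.1.2.2 ((smul_left_cancel (a.2 : G)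
      (e.trans (Sylow.smul_eq_iff_mem_normalizer.mpr (le_normalizer a.2.2)).symm)))⟩ :
        ({P}ᶜ : Set (Sylow 5 G))))
    (fun a b e => inj_key hn P hg hgP (congrArg Subtype.val e))
  rw [Nat.card_prod, card_sylow_five hn P, Nat.card_coe_set_eq, Nat.card_coe_set_eq,
    Set.ncard_compl, Set.ncard_singleton, hn,
    Set.ncard_sdiff_singleton_of_mem (show P ∈ Fix g from hgP)] at h
  omega

theorem smul_mem_orbit_five (P : Sylow 5 G) {g : G}
    (hg : g ∉ centralizer ((P : Subgroup G) : Set G)) (hgP : g • P = P) (h5 : (Fix g).ncard = 5)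
    {Q : Sylow 5 G} (hQ : Q ≠ P) : ∃ q ∈ (P : Subgroup G), g • Q = q • Q := by
  classical
  haveI := Fintype.ofFinite (Sylow 5 G)
  let f := fun a : ((Fix g \ {P} : Set _)) × (P : Subgroup G) => ((a.2 : G) • (a.1 : Sylow 5 G))
  have hsub : Set.range f ⊆ {P}ᶜ := by
    rintro _ ⟨a, rfl⟩ (e : (a.2 : G) • (a.1 : Sylow 5 G) = P)
    exact a.1.2.2 (smul_left_cancel (a.2 : G)
      (e.trans (Sylow.smul_eq_iff_mem_normalizer.mpr (le_normalizer a.2.2)).symm))
  have hcard : ({P}ᶜ : Set (Sylow 5 G)).ncard ≤ (Set.range f).ncard := by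
    rw [← Nat.card_coe_set_eq (Set.range f), Nat.card_range_of_injective (inj_key hn P hg hgP),
      Nat.card_prod, card_sylow_five hn P, Nat.card_coe_set_eq, Set.ncard_compl,
      Set.ncard_singleton, hn, Set.ncard_sdiff_singleton_of_mem (show P ∈ Fix g from hgP), h5]
  obtain ⟨⟨⟨R, hR, _⟩, p⟩, hp⟩ : Q ∈ Set.range f :=
    (Set.eq_of_subset_of_ncard_le hsub hcard).symm ▸ hQ
  change (p : G) • R = Q at hp
  subst hp
  refine ⟨(g * p * g⁻¹) * (p : G)⁻¹, mul_mem ((mem_normalizer_iff.mp
    (Sylow.smul_eq_iff_mem_normalizer.mp hgP) p).mp p.2) (inv_mem p.2), ?_⟩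
  rw [mul_smul _ (p : G)⁻¹, inv_smul_smul, mul_smul, mul_smul,
    show g⁻¹ • R = R from inv_smul_eq_iff.mpr hR.symm]

theorem conj_eq_inv (P : Sylow 5 G) {y : G} (hy2 : y * y = 1)
    (hy : y ∉ centralizer ((P : Subgroup G) : Set G)) (hyP : y • P = P) {q : G}
    (hq : q ∈ (P : Subgroup G)) : y * q * y⁻¹ = q⁻¹ := by
  have hyN : y ∈ normalizer ((P : Subgroup G) : Set G) := Sylow.smul_eq_iff_mem_normalizer.mp hyP
  have hq' : y * q * y⁻¹ ∈ (P : Subgroup G) := (mem_normalizer_iff.mp hyN q).mp hq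
  haveI : IsCyclic (P : Subgroup G) := isCyclic_of_prime_card (card_sylow_five hn P)
  have hc : q * (y * q * y⁻¹) = y * q * y⁻¹ * q :=
    congrArg Subtype.val ((IsCyclic.isMulCommutative (α := (P : Subgroup G))).is_comm.comm ⟨q, hq⟩ ⟨_, hq'⟩)
  have h1 : y * (q * (y * q * y⁻¹)) * y⁻¹ = q * (y * q * y⁻¹) := by
    have hyi : y⁻¹ = y := inv_eq_of_mul_eq_one_right hy2
    rw [hc]; nth_rewrite 2 [hyi]
    calc y * (y * q * y⁻¹ * q) * y = (y * y) * q * y⁻¹ * q * y := by group
      _ = q * (y⁻¹ * q * y) := by rw [hy2]; group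
      _ = q * (y * q * y) := by rw [hyi]
      _ = q * (y * q * y⁻¹) := by rw [hyi]
    rw [← hc]
  have := fix_le_one_of_conj_eq hn P hy (mul_mem hq hq') h1
  exact eq_inv_of_mul_eq_one_right this

theorem mul_mem_five (P : Sylow 5 G) {y z : G} (hy2 : y * y = 1) (hz2 : z * z = 1)
    (hy : y ∉ centralizer ((P : Subgroup G) : Set G)) (hyP : y • P = P) (hy5 : (Fix y).ncard = 5)
    (hz : z ∉ centralizer ((P : Subgroup G) : Set G)) (hzP : z • P = P) (hz5 : (Fix z).ncard = 5) :
    z * y ∈ (P : Subgroup G) := by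
  have hcomm : ∀ q ∈ (P : Subgroup G), Commute (z * y) q := by
    intro q hq
    have h1 := conj_eq_inv hn P hy2 hy hyP hq
    have h2 := conj_eq_inv hn P hz2 hz hzP (inv_mem hq)
    rw [inv_inv, ← h1] at h2
    refine mul_inv_eq_iff_eq_mul.mp ?_
    rw [_root_.mul_inv_rev]
    simpa [mul_assoc] using h2
  have h5 : (z * y) ^ 5 = 1 := by
    refine eq_one_of_fix_all hn fun Q => ?_
    by_cases hQ : Q = P
    · subst hQ
      exact Sylow.smul_eq_iff_mem_normalizer.mpr (pow_mem (Sylow.smul_eq_iff_mem_normalizer.mp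
        (by rw [mul_smul, hyP, hzP])) _)
    obtain ⟨a, ha, hya⟩ := smul_mem_orbit_five hn P hy hyP hy5 hQ
    obtain ⟨b, hb, hzb⟩ := smul_mem_orbit_five hn P hz hzP hz5 hQ
    have hzy : (z * y) • Q = (a⁻¹ * b) • Q := by
      rw [mul_smul, hya, ← mul_smul, show z * a = a⁻¹ * z from
        mul_inv_eq_iff_eq_mul.mp (conj_eq_inv hn P hz2 hz hzP ha), mul_smul, hzb, ← mul_smul]
    have hq : a⁻¹ * b ∈ (P : Subgroup G) := mul_mem (inv_mem ha) hb
    generalize a⁻¹ * b = q at hq hzy
    have hn' : ∀ k : ℕ, (z * y) ^ k • Q = q ^ k • Q := by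
      intro k
      induction k with
      | zero => simp
      | succ k ih =>
        rw [pow_succ, mul_smul, hzy, ← mul_smul, ((hcomm q hq).pow_left k).eq, mul_smul, ih,
          ← mul_smul, ← pow_succ']
    rw [hn' 5, show q ^ 5 = 1 by
      have := Subgroup.orderOf_dvd_natCard _ hq
      rw [card_sylow_five hn P] at this
      exact orderOf_dvd_iff_pow_eq_one.mp this, one_smul]
  have hN : z * y ∈ normalizer ((P : Subgroup G) : Set G) :=
    Sylow.smul_eq_iff_mem_normalizer.mp (by rw [mul_smul, hyP, hzP])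
  have hp : IsPGroup 5 (zpowers (z * y)) := by
    obtain ⟨k, _, hk⟩ := (Nat.dvd_prime_pow (p := 5) (m := 1) (by norm_num)).mp
      (show orderOf (z * y) ∣ 5 ^ 1 by rw [pow_one]; exact orderOf_dvd_of_pow_eq_one h5)
    exact IsPGroup.of_card (n := k) (by rw [Nat.card_zpowers, hk])
  have h2 : zpowers (z * y) ⊓ normalizer ((P : Subgroup G) : Set G) = zpowers (z * y) ⊓ P :=
    hp.inf_normalizer_sylow P
  rw [inf_of_le_left (zpowers_le.mpr hN)] at h2
  exact (h2.le (mem_zpowers _)).2

theorem fix_ne_five {y : G} (hy : orderOf y = 2) : (Fix y).ncard ≠ 5 := by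
  classical
  haveI := Fintype.ofFinite G
  haveI := Fintype.ofFinite (Sylow 5 G)
  intro h5
  have hC : ¬ 5 ∣ Nat.card (centralizer ({y} : Set G)) := by
    intro hd
    obtain ⟨⟨x, hx⟩, hxo⟩ := exists_prime_orderOf_dvd_card' 5 hd
    have hx5 : orderOf x = 5 := by rw [← hxo, Subgroup.orderOf_mk]
    obtain ⟨P, hP⟩ := (IsPGroup.of_card (p := 5) (n := 1)
      (show Nat.card (zpowers x) = 5 ^ 1 by rw [Nat.card_zpowers, hx5, pow_one])).exists_le_sylow
    have he : zpowers x = (P : Subgroup G) :=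
      Subgroup.eq_of_le_of_card_ge hP (by rw [card_sylow_five hn P, Nat.card_zpowers, hx5])
    have hc : y ∈ centralizer ((P : Subgroup G) : Set G) := by
      rw [← he, mem_centralizer_iff]
      rintro _ ⟨k, rfl⟩
      exact (Commute.zpow_left (show Commute x y from (mem_centralizer_singleton_iff.mp hx)) k).eq
    have := fix_mod_five hn P hc
    omega
  let cl := Finset.univ.filter (fun z : G => IsConj y z)
  have hcl : cl.card = (centralizer ({y} : Set G)).index := by
    rw [← CfsgLib.ncard_carrier_eq_index_centralizer y, ← Set.ncard_coe_finset]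
    congr 1
    ext z
    simp only [cl, Finset.coe_filter, Finset.mem_univ, true_and, Set.mem_ofPred_eq,
      ConjClasses.mem_carrier_iff_mk_eq, ConjClasses.mk_eq_mk_iff_isConj]
    exact isConj_comm
  have hfix : ∀ z ∈ cl, orderOf z = 2 ∧ (Fix z).ncard = 5 := by
    intro z hz
    obtain ⟨g, rfl⟩ := isConj_iff.mp (Finset.mem_filter.mp hz).2
    refine ⟨by rw [CfsgLib.Involutions.orderOf_conj, hy], ?_⟩
    have : Fix (g * y * g⁻¹) = (fun Q => g • Q) '' Fix y := by
      ext Q
      constructor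
      · intro h
        refine ⟨g⁻¹ • Q, ?_, smul_inv_smul g Q⟩
        show y • g⁻¹ • Q = g⁻¹ • Q
        rw [eq_inv_smul_iff, ← mul_smul, ← mul_smul]
        exact h
      · rintro ⟨R, hR, rfl⟩
        show (g * y * g⁻¹) • g • R = g • R
        rw [mul_smul, inv_smul_smul, mul_smul, show y • R = R from hR]
    rw [this, Set.ncard_image_of_injective _ (MulAction.injective g), h5]
  have hd := Finset.sum_card_bipartiteAbove_eq_sum_card_bipartiteBelow
    (fun (z : G) (Q : Sylow 5 G) => z • Q = Q) (s := cl) (t := Finset.univ)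
  let P : Sylow 5 G := default
  have hk : ∀ Q : Sylow 5 G, (cl.filter fun z => z • Q = Q).card = (cl.filter fun z => z • P = P).card := by
    intro Q
    obtain ⟨g, rfl⟩ := exists_smul_eq G P Q
    refine Finset.card_nbij' (fun z => g⁻¹ * z * g) (fun z => g * z * g⁻¹) ?_ ?_ ?_ ?_
    · intro z hz
      simp only [Finset.coe_filter, Set.mem_setOf_eq, cl, Finset.mem_filter, Finset.mem_univ, true_and] at hz ⊢
      refine ⟨hz.1.trans (isConj_iff.mpr ⟨g⁻¹, by group⟩), ?_⟩
      rw [mul_smul, mul_smul, hz.2, inv_smul_smul]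
    · intro z hz
      simp only [Finset.coe_filter, Set.mem_setOf_eq, cl, Finset.mem_filter, Finset.mem_univ, true_and] at hz ⊢
      refine ⟨hz.1.trans (isConj_iff.mpr ⟨g, rfl⟩), ?_⟩
      rw [mul_smul, inv_smul_smul, mul_smul, hz.2]
    · intro z _; show g * (g⁻¹ * z * g) * g⁻¹ = z; group
    · intro z _; show g⁻¹ * (g * z * g⁻¹) * g = z; group
  simp only [Finset.bipartiteAbove, Finset.bipartiteBelow] at hd
  rw [Finset.sum_congr rfl (g := fun _ => 5) (fun z hz => by
      refine Eq.trans ?_ (hfix z hz).2; rw [← Set.ncard_coe_finset]; congr 1; ext Q; simp [Fix]),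
    Finset.sum_congr rfl (fun Q _ => hk Q), Finset.sum_const, Finset.sum_const, Finset.card_univ,
    ← Nat.card_eq_fintype_card, hn, smul_eq_mul, smul_eq_mul, hcl] at hd
  set K := cl.filter fun z => z • P = P with hK
  have hK5 : K.card ≤ 5 := by
    rcases K.eq_empty_or_nonempty with e | ⟨y0, hy0⟩
    · simp [e]
    have hmem : ∀ z ∈ K, z * z = 1 ∧ z ∉ centralizer ((P : Subgroup G) : Set G) ∧ z • P = P ∧
        (Fix z).ncard = 5 := by
      intro z hz
      obtain ⟨hz1, hz2⟩ := Finset.mem_filter.mp hz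
      obtain ⟨ho, hf⟩ := hfix z hz1
      refine ⟨CfsgLib.Involutions.mul_self_eq_one_of_orderOf ho, fun hc => ?_, hz2, hf⟩
      have := fix_mod_five hn P hc
      omega
    obtain ⟨a1, a2, a3, a4⟩ := hmem y0 hy0
    have hm : ∀ z : {z // z ∈ K}, (z : G) * y0 ∈ (P : Subgroup G) := fun z => by
      obtain ⟨b1, b2, b3, b4⟩ := hmem z z.2
      exact mul_mem_five hn P a1 b1 a2 a3 a4 b2 b3 b4
    have := Nat.card_le_card_of_injective (fun z : {z // z ∈ K} => (⟨_, hm z⟩ : (P : Subgroup G)))
      (fun a b e => Subtype.ext (mul_right_cancel (congrArg Subtype.val e)))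
    rwa [Nat.card_eq_finsetCard, card_sylow_five hn P] at this
  have hidx : 5 ∣ (centralizer ({y} : Set G)).index := by
    have h : 5 ∣ Nat.card G := card_sylow_five hn P ▸ Subgroup.card_subgroup_dvd_card _
    rw [← (centralizer ({y} : Set G)).card_mul_index] at h
    exact ((Nat.Prime.dvd_mul (by norm_num)).mp h).resolve_left hC
  have hpos := Nat.pos_of_ne_zero (centralizer ({y} : Set G)).index_ne_zero_of_finite
  obtain ⟨r, hr⟩ := hidx
  omega

theorem fix_eq_one {t : G} (ht : orderOf t = 2) : (Fix t).ncard = 1 := by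
  classical
  haveI := Fintype.ofFinite (Sylow 5 G)
  have h4 := fix_mod_four hn ht
  obtain ⟨P, hP⟩ := Set.nonempty_of_ncard_ne_zero (show (Fix t).ncard ≠ 0 by omega)
  by_cases hc : t ∈ centralizer ((P : Subgroup G) : Set G)
  · have h5 := fix_mod_five hn P hc
    have hle : (Fix t).ncard ≤ 21 := hn ▸ Set.ncard_le_card _
    have h21 : (Fix t).ncard ≠ 21 := by
      intro h
      have hu : Fix t = Set.univ :=
        Set.eq_of_subset_of_ncard_le (Set.subset_univ _) (by rw [Set.ncard_univ, hn, h])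
      have ht1 := eq_one_of_fix_all hn fun Q => show Q ∈ Fix t from hu ▸ Set.mem_univ Q
      rw [ht1, orderOf_one] at ht
      norm_num at ht
    omega
  · have := fix_le_five hn P hc hP
    have := fix_ne_five hn ht
    omega

theorem eq_of_fixed {t : G} (ht : orderOf t = 2) {P Q : Sylow 5 G} (hP : t • P = P)
    (hQ : t • Q = Q) : P = Q :=
  (Set.ncard_le_one_iff).mp (fix_eq_one hn ht).le hP hQ

theorem orderOf_ne_four (u : G) : orderOf u ≠ 4 := by
  classical
  haveI := Fintype.ofFinite (Sylow 5 G)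
  intro hu
  set σ := MulAction.toPermHom G (Sylow 5 G) u with hσ
  have ho : orderOf σ = 4 := (orderOf_injective _ (toPerm_injective hn) u).trans hu
  have hu2 : orderOf (u ^ 2) = 2 := by rw [orderOf_pow' _ (by norm_num), hu]; rfl
  have h2 := ncard_fix_add_support hn (u ^ 2)
  rw [fix_eq_one hn hu2, map_pow, ← hσ] at h2
  have hsub : (σ ^ 2).support ⊆ σ.support := Equiv.Perm.support_pow_le σ 2
  have h1 := ncard_fix_add_support hn u
  rw [← hσ] at h1
  obtain ⟨Q0, hQ0⟩ : (Fix u).Nonempty := by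
    obtain ⟨Q, hQ⟩ := Set.ncard_eq_one.mp (fix_eq_one hn hu2)
    have hQf : (u ^ 2) • Q = Q := (hQ ▸ rfl : Q ∈ Fix (u ^ 2))
    refine ⟨Q, ?_⟩
    refine eq_of_fixed hn hu2 ?_ hQf
    rw [← mul_smul, ← pow_succ, pow_succ', mul_smul, hQf]
  have hpos : 0 < (Fix u).ncard := (Set.ncard_pos).mpr ⟨Q0, hQ0⟩
  have hle := Finset.card_le_card hsub
  have heq : (σ ^ 2).support = σ.support := Finset.eq_of_subset_of_card_le hsub (by omega)
  have hall : ∀ k ∈ σ.cycleType, k = 4 := by
    intro k hk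
    have hd := ho ▸ Equiv.Perm.dvd_of_mem_cycleType hk
    have h2k := Equiv.Perm.two_le_of_mem_cycleType hk
    have h4 := Nat.le_of_dvd (by norm_num) hd
    interval_cases k
    · exfalso
      rw [Equiv.Perm.cycleType_def, Multiset.mem_map] at hk
      obtain ⟨c, hc, hc2⟩ := hk
      rw [Finset.mem_val, Equiv.Perm.mem_cycleFactorsFinset_iff] at hc
      simp only [Function.comp_apply] at hc2
      obtain ⟨x, hx⟩ := Finset.card_pos.mp (show 0 < c.support.card by omega)
      have hcx : c x ∈ c.support := Equiv.Perm.apply_mem_support.mpr hx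
      have e1 : c (c x) = x := by
        have : c ^ 2 = 1 := by rw [← hc2, ← hc.1.orderOf, pow_orderOf_eq_one]
        exact Equiv.congr_fun (by rwa [sq] at this : c * c = 1) x
      have e2 : (σ ^ 2) x = x := by
        rw [sq, Equiv.Perm.mul_apply, ← hc.2 x hx, ← hc.2 _ hcx, e1]
      have hxs : x ∈ σ.support := by
        rw [Equiv.Perm.mem_support, ← hc.2 x hx]; exact Equiv.Perm.mem_support.mp hx
      rw [← heq, Equiv.Perm.mem_support] at hxs
      exact hxs e2
    · omega
    · rfl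
  have hrep := Multiset.eq_replicate_card.mpr hall
  have hsum := Equiv.Perm.sum_cycleType σ
  rw [hrep, Multiset.sum_replicate, smul_eq_mul] at hsum
  have hs := sign_eq_one hn u
  rw [← hσ, Equiv.Perm.sign_of_cycleType, hrep, Multiset.sum_replicate, Multiset.card_replicate,
    smul_eq_mul] at hs
  have hc5 : Multiset.card σ.cycleType = 5 := by omega
  rw [hc5] at hs
  exact absurd hs (by decide)

theorem exists_inverting (P : Sylow 5 G) :
    ∃ u : G, orderOf u = 2 ∧ u • P = P ∧ u ∉ centralizer ((P : Subgroup G) : Set G) := by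
  have hNC : ¬ normalizer ((P : Subgroup G) : Set G) ≤ centralizer ((P : Subgroup G) : Set G) := by
    intro h
    have h2 := CfsgLib.SmallOrder.card_eq_sylow_of_normalizer_le_centralizer P h (sylow_ne_bot hn P)
    have h3 := dvd21 hn
    rw [h2, card_sylow_five hn P] at h3
    norm_num at h3
  obtain ⟨g, hgN, hgC⟩ := SetLike.not_le_iff_exists.mp hNC
  haveI : IsCyclic (P : Subgroup G) := isCyclic_of_prime_card (card_sylow_five hn P)
  let f := (P : Subgroup G).normalizerMonoidHom
  have h4 : g ^ 4 ∈ centralizer ((P : Subgroup G) : Set G) := by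
    have hc : Nat.card (MulAut (P : Subgroup G)) = 4 := by
      rw [(inferInstance : IsCyclic (P : Subgroup G)).card_mulAut, card_sylow_five hn P,
        Nat.totient_prime (by norm_num)]
    have : f (⟨g, hgN⟩ ^ 4) = 1 := by rw [map_pow, ← hc, pow_card_eq_one']
    have h5 := MonoidHom.mem_ker.mpr this
    rw [Subgroup.normalizerMonoidHom_ker, mem_subgroupOf] at h5
    exact h5
  obtain ⟨k, m, hm, hkm⟩ := Nat.exists_eq_two_pow_mul_odd (orderOf_pos g).ne'
  have hu : orderOf (g ^ m) = 2 ^ k := by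
    rw [orderOf_pow' _ hm.pos.ne', hkm, Nat.gcd_mul_left_left, Nat.mul_div_cancel _ hm.pos]
  have hnc : g ^ m ∉ centralizer ((P : Subgroup G) : Set G) := by
    intro hmc
    apply hgC
    obtain ⟨a, rfl⟩ := hm
    rcases Nat.even_or_odd' a with ⟨b, rfl | rfl⟩
    · have h1 := mul_mem (inv_mem (pow_mem h4 b)) hmc
      rwa [← pow_mul, show 2 * (2 * b) + 1 = 4 * b + 1 by ring, pow_succ, inv_mul_cancel_left] at h1
    · have h1 := mul_mem (inv_mem hmc) (pow_mem h4 (b + 1))
      rwa [← pow_mul, show 4 * (b + 1) = 2 * (2 * b + 1) + 1 + 1 by ring, pow_succ _ (2 * (2 * b + 1) + 1),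
        inv_mul_cancel_left] at h1
  refine ⟨g ^ m, ?_, Sylow.smul_eq_iff_mem_normalizer.mpr (pow_mem hgN m), hnc⟩
  rcases k with _ | _ | k
  · have h1 : g ^ m = 1 := orderOf_eq_one_iff.mp (by rw [hu]; rfl)
    exact absurd (h1 ▸ one_mem _) hnc
  · rw [hu]; rfl
  · exfalso
    refine orderOf_ne_four hn ((g ^ m) ^ (2 ^ k)) ?_
    rw [orderOf_pow_of_dvd (by positivity) (by rw [hu]; exact pow_dvd_pow 2 (by omega)), hu,
      Nat.pow_div (by omega) (by norm_num), show k + 1 + 1 - k = 2 by omega]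

theorem exists_central :
    ∃ P : Sylow 5 G, ∃ v : G, orderOf v = 2 ∧ v • P = P ∧ v ∈ centralizer ((P : Subgroup G) : Set G) := by
  classical
  haveI : Fact (Nat.Prime 2) := ⟨Nat.prime_two⟩
  let P0 : Sylow 5 G := default
  obtain ⟨u, hu, -, -⟩ := exists_inverting hn P0
  have h2G : 2 ∣ Nat.card G := hu ▸ orderOf_dvd_natCard u
  let T : Sylow 2 G := default
  have h21 := dvd21 hn
  have hT3 : 3 ≤ Nat.card (T : Subgroup G) := by
    have h2T : 2 ∣ Nat.card (T : Subgroup G) := Sylow.dvd_card_of_dvd_card T h2G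
    by_contra h
    have hT2 : Nat.card (T : Subgroup G) = 2 := by
      have := Nat.le_of_dvd Nat.card_pos h2T
      omega
    haveI : IsCyclic (T : Subgroup G) := isCyclic_of_prime_card hT2
    have hmin : (Nat.card G).minFac = 2 := (Nat.minFac_eq_two_iff _).mpr h2G
    have h3 := CfsgLib.SmallOrder.card_eq_sylow_of_normalizer_le_centralizer T
      (IsCyclic.normalizer_le_centralizer hmin (P := T) inferInstance)
      (fun e => by rw [e, card_bot] at hT2; omega)
    rw [h3, hT2] at h21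
    norm_num at h21
  obtain ⟨P, hP⟩ := T.2.nonempty_fixed_point_of_prime_not_dvd_card (Sylow 5 G) (by rw [hn]; norm_num)
  refine ⟨P, ?_⟩
  have hinv : ∀ t ∈ (T : Subgroup G), t ≠ 1 → orderOf t = 2 := by
    intro t ht ht1
    obtain ⟨k, hk⟩ := (IsPGroup.iff_orderOf.mp T.2) ⟨t, ht⟩
    rw [Subgroup.orderOf_mk] at hk
    rcases k with _ | _ | k
    · exact absurd (orderOf_eq_one_iff.mp (by rw [hk, pow_zero])) ht1
    · rw [hk]; rfl
    · exfalso
      refine orderOf_ne_four hn (t ^ (2 ^ k)) ?_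
      rw [orderOf_pow_of_dvd (by positivity) (by rw [hk]; exact pow_dvd_pow 2 (by omega)), hk,
        Nat.pow_div (by omega) (by norm_num), show k + 1 + 1 - k = 2 by omega]
  haveI : Nontrivial (T : Subgroup G) := Finite.one_lt_card_iff_nontrivial.mp (by omega)
  obtain ⟨a, ha⟩ := _root_.exists_ne (1 : (T : Subgroup G))
  obtain ⟨b, hb1, hba⟩ : ∃ b : (T : Subgroup G), b ≠ 1 ∧ b ≠ a := by
    by_contra h
    push Not at h
    haveI := Fintype.ofFinite (T : Subgroup G)
    rw [Nat.card_eq_fintype_card] at hT3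
    have := Finset.card_le_card (show (Finset.univ : Finset (T : Subgroup G)) ⊆ {1, a} from
      fun x _ => by
        by_cases hx : x = 1
        · simp [hx]
        · simp [h x hx])
    rw [Finset.card_univ] at this
    have := this.trans Finset.card_le_two
    omega
  have ha' : (a : G) ≠ 1 := fun e => ha (Subtype.ext e)
  have hb' : (b : G) ≠ 1 := fun e => hb1 (Subtype.ext e)
  have hab : (b : G) ≠ a := fun e => hba (Subtype.ext e)
  by_cases h1 : (a : G) ∈ centralizer ((P : Subgroup G) : Set G)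
  · exact ⟨a, hinv a a.2 ha', hP a, h1⟩
  by_cases h2 : (b : G) ∈ centralizer ((P : Subgroup G) : Set G)
  · exact ⟨b, hinv b b.2 hb', hP b, h2⟩
  have sa := CfsgLib.Involutions.mul_self_eq_one_of_orderOf (hinv a a.2 ha')
  have sb := CfsgLib.Involutions.mul_self_eq_one_of_orderOf (hinv b b.2 hb')
  refine ⟨(a : G) * b, hinv _ (mul_mem a.2 b.2) fun e => hab ?_, ?_, ?_⟩
  · rw [← inv_eq_of_mul_eq_one_right e, inv_eq_of_mul_eq_one_right sa]
  · rw [mul_smul]
    exact (congrArg ((a : G) • ·) (hP b)).trans (hP a)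
  · rw [mem_centralizer_iff]
    intro q hq
    have e1 := conj_eq_inv hn P sa h1 (hP a) (inv_mem hq)
    have e2 := conj_eq_inv hn P sb h2 (hP b) hq
    rw [inv_inv, ← e2] at e1
    refine (mul_inv_eq_iff_eq_mul.mp ?_).symm
    rw [_root_.mul_inv_rev]
    simpa [mul_assoc] using e1

theorem contradiction : False := by
  obtain ⟨P, v, hv, hvP, hvC⟩ := exists_central hn
  obtain ⟨u, hu, huP, huC⟩ := exists_inverting hn P
  obtain ⟨Q, hQ⟩ := exists_ne hn P
  obtain ⟨g0, rfl⟩ := exists_smul_eq G P Q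
  set w := g0 * u * g0⁻¹ with hw
  have hwo : orderOf w = 2 := by rw [hw, CfsgLib.Involutions.orderOf_conj, hu]
  have hwQ : w • g0 • P = g0 • P := by rw [hw, mul_smul, inv_smul_smul, mul_smul, huP]
  have hnot : ∀ d : G, d * v * d⁻¹ ≠ w := by
    intro d hd
    have e : (g0⁻¹ * d) * v * (g0⁻¹ * d)⁻¹ = u := by
      rw [show (g0⁻¹ * d) * v * (g0⁻¹ * d)⁻¹ = g0⁻¹ * (d * v * d⁻¹) * g0 by group, hd, hw]; group
    generalize g0⁻¹ * d = g at e
    have hgP : u • g • P = g • P := by rw [← e, mul_smul, inv_smul_smul, mul_smul, hvP]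
    have hgN := Sylow.smul_eq_iff_mem_normalizer.mp (eq_of_fixed hn hu hgP huP)
    exact huC (e ▸ conj_mem_of_mem_centralizer hgN hvC)
  have sv := CfsgLib.Involutions.mul_self_eq_one_of_orderOf hv
  have sw := CfsgLib.Involutions.mul_self_eq_one_of_orderOf hwo
  have heven : Even (orderOf (v * w)) := by
    rw [← Nat.not_odd_iff_even]
    intro ho
    obtain ⟨d, -, hd⟩ := CfsgLib.Involutions.exists_conj_eq_of_odd sv sw ho
    exact hnot d hd
  obtain ⟨c1, c2⟩ := CfsgLib.Involutions.central_half sv sw heven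
  have hio := CfsgLib.Involutions.orderOf_half (x := v) (y := w) heven
  generalize (v * w) ^ (orderOf (v * w) / 2) = i at c1 c2 hio
  have hiP : i • P = P := by
    refine eq_of_fixed hn hv ?_ hvP
    rw [← mul_smul, ← c1.eq, mul_smul, hvP]
  have hiQ : i • g0 • P = g0 • P := by
    refine eq_of_fixed hn hwo ?_ hwQ
    rw [← mul_smul, ← c2.eq, mul_smul, hwQ]
  exact hQ (eq_of_fixed hn hio hiQ hiP)

end Faithful

theorem reduce : ∀ (n : ℕ) (G : Type u) [Group G] [Finite G],
    Nat.card G = n → Nat.card (Sylow 5 G) ≠ 21 := by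
  intro n
  induction n using Nat.strong_induction_on with
  | _ n ih =>
  intro G _ _ hG h21
  haveI : Fact (Nat.Prime 5) := ⟨by norm_num⟩
  by_cases hs : IsSimpleGroup G
  · exact contradiction h21
  haveI : Nontrivial G := by
    by_contra hnt
    rw [not_nontrivial_iff_subsingleton] at hnt
    have hle := Subgroup.index_dvd_card (normalizer (((default : Sylow 5 G) : Subgroup G) : Set G))
    rw [show (normalizer (((default : Sylow 5 G) : Subgroup G) : Set G)).index = 21 from
      (default : Sylow 5 G).card_eq_index_normalizer.symm.trans h21,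
      Nat.card_of_subsingleton (1 : G)] at hle
    norm_num at hle
  obtain ⟨M, hM, hMb, hMt⟩ : ∃ M : Subgroup G, M.Normal ∧ M ≠ ⊥ ∧ M ≠ ⊤ := by
    by_contra h
    push Not at h
    exact hs ⟨fun M hM => or_iff_not_imp_left.mpr (h M hM)⟩
  have hdiv : ∀ a : ℕ, a ∣ 21 → a % 5 = 1 → a = 1 ∨ a = 21 := by
    intro a ha hm
    have := Nat.le_of_dvd (by norm_num) ha
    interval_cases a <;> omega
  have hmod : ∀ (K : Type u) [Group K] [Finite K], Nat.card (Sylow 5 K) % 5 = 1 := fun K _ _ =>
    card_sylow_modEq_one 5 K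
  have key : ∀ (N : Subgroup G) [N.Normal], N ≠ ⊥ → ∀ P : Sylow 5 G,
      (normalizer ((P : Subgroup G) : Set G)).relIndex N = 21 := by
    intro N _ hN P
    have h := CfsgLib.card_sylow_eq_mul_relIndex P N
    rw [h21] at h
    rcases hdiv _ ⟨_, h⟩ (hmod _) with e | e
    · rw [e, one_mul] at h; exact h.symm
    · exact absurd e (ih _ (by rw [← hG]; exact CfsgLib.card_quotient_lt_of_ne_bot hN) _ rfl)
  obtain ⟨S⟩ : Nonempty (Sylow 5 M) := inferInstance
  obtain ⟨P, hP⟩ := Sylow.exists_comap_subtype_eq S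
  have hle : (normalizer ((P : Subgroup G) : Set G)).subgroupOf M ≤
      normalizer ((S : Subgroup M) : Set M) := by
    rw [← hP]
    exact Subgroup.le_normalizer_comap _
  have hSd : Nat.card (Sylow 5 M) ∣ 21 := by
    rw [S.card_eq_index_normalizer, ← key M hMb P]
    exact Subgroup.index_dvd_of_le hle
  rcases hdiv _ hSd (hmod _) with e | e
  swap
  · exact ih _ (by rw [← hG]; exact CfsgLib.card_lt_of_ne_top hMt) _ rfl e
  haveI : Subsingleton (Sylow 5 M) := (Nat.card_eq_one_iff_unique.mp e).1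
  haveI := Sylow.characteristic_of_subsingleton S
  by_cases hSb : (S : Subgroup M) = ⊥
  swap
  · have hne : (S : Subgroup M).map M.subtype ≠ ⊥ := fun h =>
      hSb ((Subgroup.map_eq_bot_iff_of_injective _ M.subtype_injective).mp h)
    have h := key _ hne P
    have hle' : (S : Subgroup M).map M.subtype ≤ normalizer ((P : Subgroup G) : Set G) := by
      rw [← hP]
      exact (Subgroup.map_comap_le _ _).trans le_normalizer
    rw [Subgroup.relIndex_eq_one.mpr hle'] at h
    norm_num at h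
  have h5M : ¬ 5 ∣ Nat.card M := by
    intro h
    have h2 := Sylow.dvd_card_of_dvd_card S h
    rw [show Nat.card S = Nat.card (S : Subgroup M) from rfl, hSb, card_bot] at h2
    norm_num at h2
  haveI : Fact (Nat.Prime 7) := ⟨by norm_num⟩
  obtain ⟨R⟩ : Nonempty (Sylow 7 M) := inferInstance
  set R' := (R : Subgroup M).map M.subtype with hR'
  have hfr : normalizer (R' : Set G) ⊔ M = ⊤ := Sylow.normalizer_sup_eq_top R
  have hidx : ¬ 5 ∣ (normalizer (R' : Set G)).index := by
    intro h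
    apply h5M
    refine h.trans ?_
    rw [← Subgroup.relIndex_top_right, ← hfr, CfsgLib.relIndex_sup_normal_eq]
    exact Subgroup.relIndex_dvd_card _ _
  obtain ⟨T⟩ : Nonempty (Sylow 5 (normalizer (R' : Set G))) := inferInstance
  let P' : Sylow 5 G := (T.2.map (normalizer (R' : Set G)).subtype).toSylow (by
    rw [Subgroup.index_map_subtype]
    exact (Nat.Prime.not_dvd_mul (by norm_num) T.not_dvd_index hidx))
  have hP' : (P' : Subgroup G) ≤ normalizer (R' : Set G) := Subgroup.map_subtype_le _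
  have h21' := key M hMb P'
  have hPM : (P' : Subgroup G) ⊓ M = ⊥ := by
    obtain ⟨k, hk⟩ := P'.2.exists_card_eq
    refine Subgroup.card_eq_one.mp (Nat.eq_one_of_dvd_coprimes
      (a := 5 ^ k) (b := Nat.card M) ?_ ?_ (Subgroup.card_dvd_of_le inf_le_right))
    · exact Nat.Coprime.pow_left _ ((Nat.Prime.coprime_iff_not_dvd (by norm_num)).mpr h5M)
    · exact hk ▸ Subgroup.card_dvd_of_le inf_le_left
  have hR7 : IsPGroup 7 R' := R.2.map _
  have hRM : R' ≤ M := Subgroup.map_subtype_le _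
  set N := normalizer ((P' : Subgroup G) : Set G) with hN
  -- `P'` acting on `R'`
  letI act : MulAction (P' : Subgroup G) R' :=
    { smul := fun x r => ⟨(x : G) * r * (x : G)⁻¹, (mem_normalizer_iff.mp (hP' x.2) _).mp r.2⟩
      one_smul := fun r => Subtype.ext (show ((1 : (P' : Subgroup G)) : G) * r * ((1 : (P' : Subgroup G)) : G)⁻¹ = r by simp)
      mul_smul := fun x y r => Subtype.ext (show ((x * y : (P' : Subgroup G)) : G) * r * ((x * y : (P' : Subgroup G)) : G)⁻¹ = x * (y * r * (y : G)⁻¹) * (x : G)⁻¹ by simp [mul_assoc]) }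
  have hfix : Nat.card (fixedPoints (P' : Subgroup G) R') = Nat.card (R' ⊓ N : Subgroup G) := by
    refine Nat.card_congr
      { toFun := fun r => ⟨r.1.1, r.1.2, ?_⟩
        invFun := fun r => ⟨⟨r.1, r.2.1⟩, fun x => Subtype.ext ?_⟩
        left_inv := fun r => rfl
        right_inv := fun r => rfl }
    · have hc : (r.1 : G) ∈ centralizer ((P' : Subgroup G) : Set G) := by
        rw [mem_centralizer_iff]
        intro x hx
        exact mul_inv_eq_iff_eq_mul.mp (congrArg Subtype.val (r.2 ⟨x, hx⟩))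
      exact centralizer_le_normalizer _ hc
    · show (x : G) * r.1 * (x : G)⁻¹ = r.1
      rw [← CfsgLib.commute_of_mem_normalizer P' M hPM (hRM r.2.1) r.2.2 x.2, mul_inv_cancel_right]
  have hcong := P'.2.card_modEq_card_fixedPoints R'
  rw [hfix] at hcong
  have hri : (R' ⊓ N).relIndex R' ∣ 7 ^ (Nat.card R') := by
    obtain ⟨k, hk⟩ := hR7.exists_card_eq
    refine (Subgroup.relIndex_dvd_card _ _).trans ?_
    rw [hk]
    exact pow_dvd_pow 7 (Nat.lt_pow_self (by norm_num)).le
  have hle21 : (R' ⊓ N).relIndex R' ≤ 21 := by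
    rw [inf_comm, Subgroup.inf_relIndex_right]
    calc N.relIndex R' ≤ N.relIndex M := Subgroup.relIndex_le_of_le_right hRM (by rw [h21']; norm_num)
      _ = 21 := h21'
  obtain ⟨k, -, hk⟩ := (Nat.dvd_prime_pow (by norm_num)).mp hri
  have hmul : (R' ⊓ N).relIndex R' * Nat.card (R' ⊓ N : Subgroup G) = Nat.card R' := by
    rw [mul_comm, ← Subgroup.relIndex_bot_left, ← Subgroup.relIndex_bot_left,
      Subgroup.relIndex_mul_relIndex _ _ _ bot_le inf_le_left]
  rw [hk] at hmul hle21
  have hk1 : k < 2 := by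
    by_contra hk2
    have : 7 ^ 2 ≤ 7 ^ k := Nat.pow_le_pow_right (by norm_num) (not_lt.mp hk2)
    omega
  obtain ⟨j, hj⟩ := (hR7.to_le (inf_le_left : R' ⊓ N ≤ R')).exists_card_eq
  interval_cases k
  · -- `R' ≤ N`, against `7 ∣ |M : M ∩ N|`
    have hRN : R' ≤ N := by
      have : N.relIndex R' = 1 := by
        rw [← Subgroup.inf_relIndex_right, inf_comm, hk, pow_zero]
      exact Subgroup.relIndex_eq_one.mp this
    have h7 : ¬ 7 ∣ (R : Subgroup M).index := R.not_dvd_index
    apply h7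
    have hd : N.relIndex M ∣ (R : Subgroup M).index := by
      rw [show (R : Subgroup M).index = R'.relIndex M by
        rw [Subgroup.relIndex, Subgroup.subgroupOf, hR',
          Subgroup.comap_map_eq_self_of_injective M.subtype_injective]]
      exact Subgroup.relIndex_dvd_of_le_left _ hRN
    rw [h21'] at hd
    exact Dvd.dvd.trans (by norm_num) hd
  · rw [← hmul, hj, Nat.ModEq] at hcong
    have h5 : ¬ 5 ∣ 7 ^ j := fun h => by
      have := (Nat.prime_dvd_prime_iff_eq (by norm_num) (by norm_num)).mp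
        ((by norm_num : Nat.Prime 5).dvd_of_dvd_pow h)
      omega
    omega

/-- No finite group has exactly twenty-one Sylow 5-subgroups. -/
theorem result {G : Type*} [Group G] [Finite G] : Nat.card (Sylow 5 G) ≠ 21 :=
  reduce _ G rfl

end Cfsg.Agent.S1010
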