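import Cfsg.Statements.S1012
import Mathlib
import Cfsg.Agent.Lib.SmallOrder

set_option autoImplicit false
open Cfsg

namespace Cfsg.Agent.S1012



/-- A group of order 24 containing no element of order 6 is isomorphic to the symmetric group of degree 4. -/
theorem result {G : Type*} [Group G] [Finite G] (h : Nat.card G = 24) (h6 : ∀ g : G, orderOf g ≠ 6) : Nonempty (G ≃* Equiv.Perm (Fin 4)) := by
  classical
  haveI := Fact.mk Nat.prime_three; haveI := Fact.mk Nat.prime_two
  obtain ⟨P⟩ : Nonempty (Sylow 3 G) := inferInstance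
  have hP : Nat.card P = 3 := by
    simpa using CfsgLib.SmallOrder.card_sylow_eq P (k := 1) (by rw [h]; norm_num) (by rw [h]; norm_num)
  have hn := CfsgLib.SmallOrder.card_sylow_mem_filter P hP (n := 8) (by rw [h]) (by norm_num)
  rw [show (8 : ℕ).divisors.filter (fun d => d % 3 = 1) = {1, 4} by decide, Finset.mem_insert, Finset.mem_singleton] at hn
  have hC : ∀ Q : Sylow 3 G, ∀ g : G, orderOf g = 2 → g ∉ Subgroup.centralizer ((Q : Subgroup G) : Set G) := by
    intro Q g hg hgC
    obtain ⟨q, hq⟩ := exists_prime_orderOf_dvd_card' (G := ↥(Q : Subgroup G)) 3 (Q.dvd_card_of_dvd_card (by rw [h]; norm_num))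
    refine h6 (g * q) ?_
    rw [Commute.orderOf_mul_eq_mul_orderOf_of_coprime (hgC q q.2).symm]
    · rw [hg, Subgroup.orderOf_coe, hq]
    · rw [hg, Subgroup.orderOf_coe, hq]; norm_num
  have hn4 : Nat.card (Sylow 3 G) = 4 := by
    refine hn.resolve_left fun e => ?_
    haveI : IsCyclic (P : Subgroup G) := isCyclic_of_prime_card hP
    have key := Subgroup.card_dvd_of_injective _ (QuotientGroup.kerLift_injective (P : Subgroup G).normalizerMonoidHom)
    rw [Subgroup.normalizerMonoidHom_ker, (inferInstance : IsCyclic (P : Subgroup G)).card_mulAut, show Nat.card ↥(P : Subgroup G) = 3 from hP, Nat.totient_prime Nat.prime_three, ← Subgroup.index] at key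
    set N := Subgroup.normalizer ((P : Subgroup G) : Set G) with hNdef
    set C := (Subgroup.centralizer ((P : Subgroup G) : Set G)).subgroupOf N with hCdef
    have hN : Nat.card N = 24 := by
      have h1 := CfsgLib.SmallOrder.card_normalizer_mul_card_sylow P
      rw [e, h, mul_one] at h1
      exact h1
    have hm := C.card_mul_index
    rw [hN] at hm
    have h2 : 2 ∣ Nat.card C := by
      rcases (Nat.dvd_prime Nat.prime_two).mp key with k | k <;> rw [k] at hm <;> omega
    obtain ⟨g, hg⟩ := exists_prime_orderOf_dvd_card' 2 h2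
    exact hC P (((g : N) : G)) (by rw [Subgroup.orderOf_coe, Subgroup.orderOf_coe]; exact hg) g.2
  let φ : G →* Equiv.Perm (Sylow 3 G) := MulAction.toPermHom G (Sylow 3 G)
  have hinj : Function.Injective φ := by
    rw [← MonoidHom.ker_eq_bot_iff]
    set K := φ.ker
    have hKN : ∀ Q : Sylow 3 G, K ≤ Subgroup.normalizer ((Q : Subgroup G) : Set G) := fun Q k hk => by
      have : φ k Q = Q := by rw [MonoidHom.mem_ker.mp hk]; rfl
      exact Sylow.smul_eq_iff_mem_normalizer.mp this
    have hN6 : Nat.card (Subgroup.normalizer ((P : Subgroup G) : Set G)) = 6 := by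
      have h1 := CfsgLib.SmallOrder.card_normalizer_mul_card_sylow P
      rw [hn4, h] at h1
      change Nat.card (Subgroup.normalizer ((P : Subgroup G) : Set G)) * 4 = 24 at h1
      omega
    have hd : Nat.card K ∣ 6 := hN6 ▸ Subgroup.card_dvd_of_le (hKN P)
    have h3 : ¬ 3 ∣ Nat.card K := by
      intro h3
      obtain ⟨g, hg⟩ := exists_prime_orderOf_dvd_card' (G := K) 3 h3
      have hg' : orderOf (g : G) = 3 := by rw [Subgroup.orderOf_coe]; exact hg
      have hall : ∀ Q : Sylow 3 G, (Q : Subgroup G) = Subgroup.zpowers (g : G) := by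
        intro Q
        refine Q.is_maximal' ?_ ?_ |>.symm
        · exact IsPGroup.of_card (n := 1) (by rw [Nat.card_zpowers, hg', pow_one])
        · have hsup : IsPGroup 3 ↥(Subgroup.zpowers (g : G) ⊔ (Q : Subgroup G)) :=
            (IsPGroup.of_card (n := 1) (by rw [Nat.card_zpowers, hg', pow_one])).to_sup_of_normal_right' Q.2 (Subgroup.zpowers_le.mpr (hKN Q g.2))
          have heq := Q.is_maximal' hsup le_sup_right
          have hle : Subgroup.zpowers (g : G) ≤ (Q : Subgroup G) := heq ▸ le_sup_left
          refine (Subgroup.eq_of_le_of_card_ge hle ?_).ge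
          rw [Nat.card_zpowers, hg', show Nat.card ↥(Q : Subgroup G) = Nat.card Q from rfl, Sylow.card_eq_multiplicity Q, ← Sylow.card_eq_multiplicity P, hP]
      have : Subsingleton (Sylow 3 G) := ⟨fun A B => Sylow.ext ((hall A).trans (hall B).symm)⟩
      rw [Nat.card_unique] at hn4; omega
    by_contra hne
    have h1 : Nat.card K ≠ 1 := fun e => hne (Subgroup.card_eq_one.mp e)
    have h2 : Nat.card K = 2 := by
      have : Nat.card K ∈ (6 : ℕ).divisors := Nat.mem_divisors.mpr ⟨hd, by norm_num⟩
      rw [show (6 : ℕ).divisors = {1, 2, 3, 6} by decide] at this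
      simp only [Finset.mem_insert, Finset.mem_singleton] at this
      rcases this with e | e | e | e
      · exact absurd e h1
      · exact e
      · exact absurd (by rw [e]) h3
      · exact absurd (by rw [e]; norm_num) h3
    obtain ⟨g, hg⟩ := exists_prime_orderOf_dvd_card' (G := K) 2 h2.symm.dvd
    refine hC P g (by rw [Subgroup.orderOf_coe]; exact hg) fun q _ => ?_
    have hc : q * (g : G) * q⁻¹ = g := by
      have hmem : q * (g : G) * q⁻¹ ∈ K := (inferInstance : K.Normal).conj_mem _ g.2 q
      have hne1 : (⟨q * (g : G) * q⁻¹, hmem⟩ : K) ≠ 1 := fun e => by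
        have e' : q * (g : G) * q⁻¹ = 1 := congrArg Subtype.val e
        rw [conj_eq_one_iff] at e'
        have h1 : g = 1 := Subtype.ext e'
        rw [h1, orderOf_one] at hg
        exact absurd hg (by norm_num)
      have hg1 : g ≠ 1 := fun e => by rw [e, orderOf_one] at hg; exact absurd hg (by norm_num)
      obtain ⟨a, ha, huniq⟩ := (Nat.card_eq_two_iff' (1 : K)).mp h2
      exact congrArg Subtype.val ((huniq _ hne1).trans (huniq g hg1).symm)
    exact mul_inv_eq_iff_eq_mul.mp hc
  have hb : Function.Bijective φ := by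
    refine (Nat.bijective_iff_injective_and_card φ).mpr ⟨hinj, ?_⟩
    rw [h, Nat.card_perm, hn4]; rfl
  have e : Sylow 3 G ≃ Fin 4 := Finite.equivFinOfCardEq hn4
  exact ⟨(MulEquiv.ofBijective φ hb).trans (Equiv.permCongrHom e)⟩

end Cfsg.Agent.S1012
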