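import Cfsg.Statements.S1018
import Mathlib
import Cfsg.Agent.Lib.Local

set_option autoImplicit false
open Cfsg
open scoped Pointwise

namespace Cfsg.Agent.S1018

theorem zpowers_eq_of_card {G : Type*} [Group G] [Finite G] {p : ℕ} [Fact p.Prime] {P : Subgroup G}
    (hP : Nat.card P = p) {y : G} (hy : y ∈ P) (hy1 : y ≠ 1) : Subgroup.zpowers y = P := by
  refine Subgroup.eq_of_le_of_card_ge (Subgroup.zpowers_le.mpr hy) ?_
  rw [hP, Nat.card_zpowers]
  have h1 : orderOf y ∣ p := hP ▸ Subgroup.orderOf_dvd_natCard P hy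
  rcases (Nat.dvd_prime Fact.out).mp h1 with h | h
  · exact absurd (orderOf_eq_one_iff.mp h) hy1
  · exact h.ge

/-- Let P be a Sylow p-subgroup of order p of a finite group G, and consider the action of G on the left cosets of the normalizer N of P. Then every element of order p fixes exactly one coset, and an element of N that does not centralize P fixes at most as many cosets as there are orbits of P. -/
theorem result {G : Type*} [Group G] [Finite G] (p : ℕ) [Fact p.Prime] (P : Sylow p G) (hP : Nat.card ↥(P : Subgroup G) = p) : (∀ y : G, orderOf y = p → Nat.card (MulAction.fixedBy (G ⧸ Subgroup.normalizer ((P : Subgroup G) : Set G)) y) = 1) ∧ ∀ x : G, x ∈ Subgroup.normalizer ((P : Subgroup G) : Set G) → x ∉ Subgroup.centralizer ((P : Subgroup G) : Set G) → Nat.card (MulAction.fixedBy (G ⧸ Subgroup.normalizer ((P : Subgroup G) : Set G)) x) ≤ Nat.card (MulAction.orbitRel.Quotient ↥(P : Subgroup G) (G ⧸ Subgroup.normalizer ((P : Subgroup G) : Set G))) := by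
  classical
  have hp : p.Prime := Fact.out
  set N := Subgroup.normalizer ((P : Subgroup G) : Set G) with hN
  have hfix : ∀ (y g : G), y • (g : G ⧸ N) = g ↔ g⁻¹ * y * g ∈ N := by
    intro y g
    rw [eq_comm, MulAction.Quotient.smul_mk, QuotientGroup.eq, smul_eq_mul, mul_assoc]
  have hpN : ∀ z ∈ N, z ^ p = 1 → z ∈ (P : Subgroup G) := by
    intro z hz hzp
    have hZ : IsPGroup p (Subgroup.zpowers z) := by
      rintro ⟨w, m, rfl⟩
      refine ⟨1, Subtype.ext ?_⟩
      show (z ^ m) ^ p ^ 1 = 1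
      rw [pow_one, ← zpow_natCast, ← zpow_mul, mul_comm, zpow_mul, zpow_natCast, hzp, one_zpow]
    rw [← P.is_maximal' (hZ.to_sup_of_normal_right' P.2 (Subgroup.zpowers_le.mpr hz)) le_sup_right]
    exact Subgroup.mem_sup_left (Subgroup.mem_zpowers z)
  refine ⟨fun y hy => ?_, fun x hxN hxC => ?_⟩
  · have hy1 : y ≠ 1 := fun e => by rw [e, orderOf_one] at hy; exact hp.ne_one hy.symm
    have hconj : ∀ g : G, y • (g : G ⧸ N) = g → (P : Subgroup G).map (MulAut.conj g).toMonoidHom = Subgroup.zpowers y := by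
      intro g hg
      have hP' : g⁻¹ * y * g ∈ (P : Subgroup G) := by
        refine hpN _ ((hfix y g).mp hg) ?_
        have := map_pow (MulAut.conj g⁻¹) y p
        rw [← hy, pow_orderOf_eq_one, map_one] at this
        rw [← hy]
        simpa [MulAut.conj_apply] using this.symm
      rw [← zpowers_eq_of_card hP hP' (fun e => hy1 (by simpa [mul_assoc] using congrArg (fun w => g * w * g⁻¹) e)), MonoidHom.map_zpowers]
      congr 1
      simp [mul_assoc]
    have hZ : IsPGroup p (Subgroup.zpowers y) := IsPGroup.of_card (n := 1) (by rw [Nat.card_zpowers, hy, pow_one])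
    obtain ⟨Q, hQ⟩ := hZ.exists_le_sylow
    obtain ⟨g, hg⟩ := MulAction.exists_smul_eq G P Q
    refine Nat.card_eq_one_iff_unique.mpr ⟨⟨?_⟩, ⟨⟨(g : G ⧸ N), ?_⟩⟩⟩
    · rintro ⟨a, ha⟩ ⟨b, hb⟩
      obtain ⟨a, rfl⟩ := QuotientGroup.mk_surjective a
      obtain ⟨b, rfl⟩ := QuotientGroup.mk_surjective b
      apply Subtype.ext
      refine QuotientGroup.eq.mpr (CfsgLib.Local.mem_normalizer_of_map_conj_eq ?_)
      rw [← CfsgLib.Local.map_conj_mul, hconj b hb, ← hconj a ha, CfsgLib.Local.map_conj_mul, inv_mul_cancel]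
      ext z; simp
    · show y • (g : G ⧸ N) = g
      rw [hfix]
      have h1 : y ∈ (Q : Subgroup G) := hQ (Subgroup.mem_zpowers y)
      rw [← hg, Sylow.coe_subgroup_smul, Subgroup.mem_pointwise_smul_iff_inv_smul_mem] at h1
      exact Subgroup.le_normalizer (by simpa [mul_assoc] using h1)
  · refine Nat.card_le_card_of_injective (fun z => Quotient.mk'' (z : G ⧸ N)) ?_
    rintro ⟨a, ha⟩ ⟨b, hb⟩ hab
    apply Subtype.ext
    obtain ⟨⟨u, hu⟩, rfl⟩ : a ∈ MulAction.orbit ↥(P : Subgroup G) b := Quotient.exact hab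
    by_contra hne
    have ha' : x • (u • b) = u • b := ha
    have hb' : x • b = b := hb
    have hk : (u⁻¹ * (x * u * x⁻¹)) • b = b := by
      have hx1 : x⁻¹ • b = b := inv_smul_eq_iff.mpr hb'.symm
      rw [mul_smul, mul_smul, mul_smul, hx1, ha', inv_smul_smul]
    have hu1 : u ≠ 1 := fun e => hne (by show u • b = b; rw [e, one_smul])
    have hcu : x * u * x⁻¹ ∈ (P : Subgroup G) := (Subgroup.mem_normalizer_iff.mp hxN u).mp hu
    have hmem : u⁻¹ * (x * u * x⁻¹) ∈ (P : Subgroup G) := (P : Subgroup G).mul_mem ((P : Subgroup G).inv_mem hu) hcu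
    by_cases h1 : u⁻¹ * (x * u * x⁻¹) = 1
    · apply hxC
      intro d hd
      rw [SetLike.mem_coe, ← zpowers_eq_of_card hP hu hu1] at hd
      obtain ⟨m, rfl⟩ := Subgroup.mem_zpowers_iff.mp hd
      have hxu : Commute x u := by
        have : x * u * x⁻¹ = u := by rwa [inv_mul_eq_one, eq_comm] at h1
        exact mul_inv_eq_iff_eq_mul.mp this
      exact (hxu.zpow_right m).eq.symm
    · apply hne
      show u • b = b
      have : u ∈ MulAction.stabilizer G b := by
        have h2 : Subgroup.zpowers (u⁻¹ * (x * u * x⁻¹)) ≤ MulAction.stabilizer G b := Subgroup.zpowers_le.mpr hk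
        rw [zpowers_eq_of_card hP hmem h1] at h2
        exact h2 hu
      exact this

end Cfsg.Agent.S1018
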