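import Cfsg.Statements.S1014
import Mathlib
import Cfsg.Agent.Lib.SmallOrder
import Cfsg.Agent.S1018

set_option autoImplicit false
open Cfsg

namespace Cfsg.Agent.S1014



/-- No finite simple group has order 1104 = 2^4 * 3 * 23. -/
theorem result {G : Type*} [Group G] [Finite G] [IsSimpleGroup G] : Nat.card G ≠ 1104 := by
  classical
  intro hG
  haveI : Fact (Nat.Prime 23) := ⟨by norm_num⟩
  obtain ⟨P⟩ : Nonempty (Sylow 23 G) := inferInstance
  have hP : Nat.card P = 23 := by
    simpa using CfsgLib.SmallOrder.card_sylow_eq P (k := 1) (by rw [hG]; norm_num) (by rw [hG]; norm_num)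
  have hn := CfsgLib.SmallOrder.card_sylow_mem_filter P hP (n := 48) (by rw [hG]) (by norm_num)
  have hne := CfsgLib.SmallOrder.card_sylow_ne_one P (by rw [hP]; norm_num) (by rw [hP, hG]; norm_num)
  rw [show (48 : ℕ).divisors.filter (fun d => d % 23 = 1) = {1, 24} by decide, Finset.mem_insert, Finset.mem_singleton] at hn
  set N := Subgroup.normalizer ((P : Subgroup G) : Set G) with hNdef
  set C := Subgroup.centralizer ((P : Subgroup G) : Set G) with hCdef
  have h24 : N.index = 24 := by
    rw [← hn.resolve_left hne, P.card_eq_index_normalizer]; rfl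
  have hN46 : Nat.card N = 46 := by
    have := N.card_mul_index; rw [h24, hG] at this; omega
  obtain ⟨u, hu⟩ := exists_prime_orderOf_dvd_card' (G := N) 2 (by rw [hN46]; norm_num)
  have hu2 : orderOf (u : G) = 2 := by rw [Subgroup.orderOf_coe]; exact hu
  by_cases huC : (u : G) ∈ C
  · -- N = C : Burnside
    have hPC : (P : Subgroup G) ≤ C := by
      haveI : IsCyclic (P : Subgroup G) := isCyclic_of_prime_card hP
      exact Subgroup.le_centralizer _
    have hCN : C ≤ N := Subgroup.centralizer_le_normalizer _
    have h2 : 2 ∣ Nat.card C := hu2 ▸ Subgroup.orderOf_dvd_natCard C huC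
    have h23 : 23 ∣ Nat.card C := by
      have := Subgroup.card_dvd_of_le hPC
      change Nat.card P ∣ _ at this
      rwa [hP] at this
    have hC46 : 46 ∣ Nat.card C := Nat.Coprime.mul_dvd_of_dvd_of_dvd (by norm_num : Nat.Coprime 2 23) h2 h23
    have hNC : N ≤ C := (Subgroup.eq_of_le_of_card_ge hCN (hN46 ▸ Nat.le_of_dvd Nat.card_pos hC46)).ge
    have h := CfsgLib.SmallOrder.card_eq_sylow_of_normalizer_le_centralizer P hNC
      (fun e => by
        have : Nat.card (P : Subgroup G) = 1 := Subgroup.card_eq_one.mpr e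
        change Nat.card P = 1 at this; omega)
    rw [hP, hG] at h; omega
  · have hfix : Nat.card (MulAction.fixedBy (G ⧸ N) (u : G)) ≤ Nat.card (MulAction.orbitRel.Quotient ↥(P : Subgroup G) (G ⧸ N)) :=
      (S1018.result 23 P hP).2 u u.2 huC
    have horb : Nat.card (MulAction.orbitRel.Quotient ↥(P : Subgroup G) (G ⧸ N)) ≤ 2 := by
      let o := Quotient.mk'' (s₁ := MulAction.orbitRel ↥(P : Subgroup G) (G ⧸ N))
      haveI := Fintype.ofFinite (MulAction.orbitRel.Quotient ↥(P : Subgroup G) (G ⧸ N))
      have hsum : ∑ x : MulAction.orbitRel.Quotient ↥(P : Subgroup G) (G ⧸ N), Nat.card (MulAction.orbit ↥(P : Subgroup G) x.out) = 24 := by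
        rw [← Nat.card_sigma, ← Nat.card_congr (MulAction.selfEquivSigmaOrbits ↥(P : Subgroup G) (G ⧸ N))]
        exact h24
      have hlow : ∀ x : MulAction.orbitRel.Quotient ↥(P : Subgroup G) (G ⧸ N), x ≠ Quotient.mk'' ((1 : G) : G ⧸ N) →
          23 ≤ Nat.card (MulAction.orbit ↥(P : Subgroup G) x.out) := by
        intro x hx
        have hd : Nat.card (MulAction.orbit ↥(P : Subgroup G) x.out) ∣ 23 := by
          have h0 := Nat.card_congr (MulAction.orbitProdStabilizerEquivGroup ↥(P : Subgroup G) x.out)
          rw [Nat.card_prod] at h0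
          exact Dvd.intro _ (h0.trans hP)
        rcases (Nat.dvd_prime (by norm_num)).mp hd with h | h
        · exfalso
          obtain ⟨y, hy⟩ := exists_prime_orderOf_dvd_card' (G := ↥(P : Subgroup G)) 23 (dvd_of_eq hP.symm)
          have huniq := (S1018.result 23 P hP).1 (y : G) (by rw [Subgroup.orderOf_coe]; exact hy)
          have hsub := (Nat.card_eq_one_iff_unique.mp h).1
          have h1 : (y : G) • x.out = x.out := congrArg Subtype.val
            (hsub.elim ⟨y • x.out, MulAction.mem_orbit _ _⟩ ⟨x.out, MulAction.mem_orbit_self _⟩)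
          have h2 : (y : G) • ((1 : G) : G ⧸ N) = ((1 : G) : G ⧸ N) := by
            rw [MulAction.Quotient.smul_mk, smul_eq_mul, mul_one, eq_comm, QuotientGroup.eq, inv_one, one_mul]
            exact Subgroup.le_normalizer y.2
          have h3 := congrArg Subtype.val ((Nat.card_eq_one_iff_unique.mp huniq).1.elim ⟨x.out, h1⟩ ⟨_, h2⟩)
          apply hx
          rw [← Quotient.out_eq' x]
          exact congrArg Quotient.mk'' h3
        · exact h.ge
      have h1 : (Finset.univ.erase (Quotient.mk'' ((1 : G) : G ⧸ N) : MulAction.orbitRel.Quotient ↥(P : Subgroup G) (G ⧸ N))).card * 23 ≤ 24 := by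
        rw [← hsum, ← smul_eq_mul, ← Finset.sum_const]
        exact le_trans (Finset.sum_le_sum fun x hx => hlow x (Finset.ne_of_mem_erase hx)) (Finset.sum_le_sum_of_subset (Finset.erase_subset _ _))
      rw [Finset.card_erase_of_mem (Finset.mem_univ _), Finset.card_univ, ← Nat.card_eq_fintype_card] at h1
      exact (show Nat.card (Quotient (MulAction.orbitRel ↥(P : Subgroup G) (G ⧸ N))) ≤ 2 by omega)
    -- sign of `u` on the 24 cosets
    haveI := Fintype.ofFinite (G ⧸ N)
    let φ := MulAction.toPermHom G (G ⧸ N)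
    have hφ2 : (φ (u : G)) ^ 2 = 1 := by rw [← map_pow, ← hu2, pow_orderOf_eq_one, map_one]
    have hsupp : (φ (u : G)).support.card + Nat.card (MulAction.fixedBy (G ⧸ N) (u : G)) = 24 := by
      rw [← h24, Subgroup.index, Nat.card_eq_fintype_card (α := G ⧸ N),
        show Nat.card (MulAction.fixedBy (G ⧸ N) (u : G)) = ((φ (u : G)).supportᶜ).card from ?_, Finset.card_add_card_compl]
      rw [Nat.card_eq_fintype_card, Fintype.card_subtype]
      congr 1; ext z
      simp [φ]
    have hφ1 : φ (u : G) ≠ 1 := by
      intro e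
      rw [e, Equiv.Perm.support_one, Finset.card_empty] at hsupp
      omega
    have hct : (φ (u : G)).cycleType = Multiset.replicate (Multiset.card (φ (u : G)).cycleType) 2 := by
      refine Multiset.eq_replicate.mpr ⟨rfl, fun k hk => ?_⟩
      have h1 := (Equiv.Perm.dvd_of_mem_cycleType hk).trans (orderOf_dvd_of_pow_eq_one hφ2)
      have h2 := Equiv.Perm.two_le_of_mem_cycleType hk
      exact le_antisymm (Nat.le_of_dvd (by norm_num) h1) h2
    have hs := Equiv.Perm.sum_cycleType (φ (u : G))
    rw [hct, Multiset.sum_replicate, smul_eq_mul] at hs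
    have hk : Multiset.card (φ (u : G)).cycleType = 11 := by
      have := hfix.trans horb
      have h0 : 0 < Nat.card (MulAction.fixedBy (G ⧸ N) (u : G)) := by
        rw [Nat.card_pos_iff]
        refine ⟨⟨⟨((1 : G) : G ⧸ N), ?_⟩⟩, inferInstance⟩
        show (u : G) • _ = _
        rw [MulAction.Quotient.smul_mk, smul_eq_mul, mul_one, eq_comm, QuotientGroup.eq, inv_one, one_mul]
        exact u.2
      omega
    have hsign : Equiv.Perm.sign (φ (u : G)) = -1 := by
      rw [Equiv.Perm.sign_of_cycleType, hct, hk]; decide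
    let s : G →* ℤˣ := Equiv.Perm.sign.comp φ
    rcases Subgroup.Normal.eq_bot_or_eq_top (inferInstance : s.ker.Normal) with e | e
    · have := Subgroup.card_dvd_of_injective s ((MonoidHom.ker_eq_bot_iff s).mp e)
      rw [hG, Nat.card_eq_fintype_card, Fintype.card_units_int] at this
      norm_num at this
    · have : s (u : G) = 1 := MonoidHom.mem_ker.mp (e.symm ▸ Subgroup.mem_top _)
      exact absurd (hsign.symm.trans this) (by decide)

end Cfsg.Agent.S1014
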