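import Cfsg.Statements.S1015
import Mathlib
import Cfsg.Agent.Lib.SmallOrder
import Cfsg.Agent.S0985

set_option autoImplicit false
open Cfsg

namespace Cfsg.Agent.S1015



/-- No finite simple group has order 1200 = 2^4 * 3 * 5^2. -/
theorem result {G : Type*} [Group G] [Finite G] [IsSimpleGroup G] : Nat.card G ≠ 1200 := by
  intro hG
  haveI : Fact (Nat.Prime 5) := ⟨by norm_num⟩
  obtain ⟨P₀⟩ : Nonempty (Sylow 5 G) := inferInstance
  have hP : ∀ P : Sylow 5 G, Nat.card P = 25 := fun P => by
    simpa using CfsgLib.SmallOrder.card_sylow_eq P (k := 2) (by rw [hG]; norm_num) (by rw [hG]; norm_num)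
  have hn := CfsgLib.SmallOrder.card_sylow_mem_filter P₀ (hP P₀) (n := 48) (by rw [hG]) (by norm_num)
  have hne := CfsgLib.SmallOrder.card_sylow_ne_one P₀ (by rw [hP]; norm_num) (by rw [hP, hG]; norm_num)
  rw [show (48 : ℕ).divisors.filter (fun d => d % 5 = 1) = {1, 6, 16} by decide, Finset.mem_insert, Finset.mem_insert, Finset.mem_singleton] at hn
  have hfac : ∀ H : Subgroup G, H ≠ ⊤ → H.index ≤ 9 → False := fun H hH hle => by
    have h1 := (CfsgLib.SmallOrder.card_dvd_factorial_index hH).trans (Nat.factorial_dvd_factorial hle)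
    rw [hG] at h1
    norm_num [Nat.factorial] at h1
  rcases hn.resolve_left hne with h6 | h16
  · rw [P₀.card_eq_index_normalizer] at h6
    refine hfac (Subgroup.normalizer (P₀ : Set G)) (fun e => ?_) (by omega)
    rw [e, Subgroup.index_top] at h6; omega
  · obtain ⟨P, R, hPR, hidx⟩ := S0985.result (G := G) 5 2 (by rw [h16]; decide)
    set D := (P : Subgroup G) ⊓ (R : Subgroup G) with hD
    have h1 := ((R : Subgroup G).subgroupOf (P : Subgroup G)).card_mul_index
    rw [← Subgroup.inf_subgroupOf_left, Nat.card_congr (Subgroup.subgroupOfEquivOfLe (inf_le_left : (P : Subgroup G) ⊓ R ≤ P)).toEquiv, Subgroup.inf_subgroupOf_left] at h1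
    change Nat.card D * _ = Nat.card P at h1
    rw [hP] at h1
    have hD5 : 5 ≤ Nat.card D := by
      by_contra hcon
      have : ((R : Subgroup G).subgroupOf (P : Subgroup G)).index ≤ 5 := by simpa using hidx
      nlinarith [Nat.card_pos (α := D)]
    have habP : ∀ S : Sylow 5 G, (S : Subgroup G) ≤ Subgroup.centralizer ((S : Subgroup G) : Set G) := by
      intro S x hx y hy
      have := (IsPGroup.commutative_of_card_eq_prime_sq (p := 5) (G := ↥(S : Subgroup G)) (by rw [show Nat.card ↥(S : Subgroup G) = Nat.card S from rfl, hP]; norm_num)) ⟨y, hy⟩ ⟨x, hx⟩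
      exact congrArg Subtype.val this
    set N := Subgroup.normalizer (D : Set G)
    have hPN : ∀ S : Sylow 5 G, D ≤ (S : Subgroup G) → (S : Subgroup G) ≤ N := fun S hle =>
      le_trans ((habP S).trans (Subgroup.centralizer_le (SetLike.coe_subset_coe.mpr hle))) (Subgroup.centralizer_le_normalizer _)
    have hNtop : N ≠ ⊤ := by
      intro e
      haveI : D.Normal := Subgroup.normalizer_eq_top_iff.mp e
      rcases Subgroup.Normal.eq_bot_or_eq_top (inferInstance : D.Normal) with h | h
      · rw [h, Subgroup.card_bot] at hD5; omega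
      · have h2 : Nat.card D ≤ Nat.card P := Subgroup.card_le_of_le inf_le_left
        rw [h, Subgroup.card_top, hG, hP] at h2; omega
    obtain ⟨S⟩ : Nonempty (Sylow 5 N) := inferInstance
    have hN25 : 25 ∣ Nat.card N := hP P ▸ Subgroup.card_dvd_of_le (hPN P inf_le_left)
    have hS : Nat.card S = 25 := by
      have h2 : Nat.card N ∣ 1200 := hG ▸ Subgroup.card_subgroup_dvd_card _
      simpa using CfsgLib.SmallOrder.card_sylow_eq S (k := 2) (by simpa using hN25) (fun h3 => by have := h3.trans h2; norm_num at this)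
    have hS1 : Nat.card (Sylow 5 N) ≠ 1 := fun e => hPR (Sylow.ext (by
      haveI : Subsingleton (Sylow 5 N) := (Nat.card_eq_one_iff_unique.mp e).1
      have h2 := congrArg (fun Q : Sylow 5 N => (Q : Subgroup N).map N.subtype)
        (Subsingleton.elim (P.subtype (hPN P inf_le_left)) (R.subtype (hPN R inf_le_right)))
      simpa only [Sylow.coe_subtype, Subgroup.map_subgroupOf_eq_of_le (hPN P inf_le_left), Subgroup.map_subgroupOf_eq_of_le (hPN R inf_le_right)] using h2))
    have h5 : Nat.card (Sylow 5 N) % 5 = 1 := by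
      have h := card_sylow_modEq_one 5 N
      rwa [Nat.ModEq, Nat.one_mod_eq_one.mpr (by norm_num)] at h
    have hd := (S.card_dvd_index)
    have hsix : 6 ≤ Nat.card (Sylow 5 N) := by have : 0 < Nat.card (Sylow 5 N) := Nat.card_pos; omega
    have hi : (S : Subgroup N).index * 25 = Nat.card N := by
      rw [← hS]; exact (S : Subgroup N).index_mul_card
    have hle := Nat.le_of_dvd (Nat.pos_of_ne_zero Subgroup.index_ne_zero_of_finite) hd
    have h8 := N.index_mul_card
    rw [hG] at h8
    exact hfac N hNtop (by nlinarith)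

end Cfsg.Agent.S1015
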