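import Cfsg.Statements.S1019
import Mathlib

set_option autoImplicit false
open Cfsg
open scoped Pointwise

namespace Cfsg.Agent.S1019

theorem card_conj_pred {G : Type*} [Group G] [Finite G] (x : G) (P : G → Prop) :
    Nat.card {g : G // P (g⁻¹ * x * g)} =
      Nat.card {y : G // IsConj x y ∧ P y} * Nat.card (Subgroup.centralizer ({x} : Set G)) := by
  classical
  haveI := Fintype.ofFinite G
  let f : {g : G // P (g⁻¹ * x * g)} → {y : G // IsConj x y ∧ P y} := fun g =>
    ⟨(g : G)⁻¹ * x * g, isConj_iff.mpr ⟨(g : G)⁻¹, by group⟩, g.2⟩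
  have hfib : ∀ y, Nat.card {g // f g = y} = Nat.card (Subgroup.centralizer ({x} : Set G)) := by
    rintro ⟨y, hy, hP⟩
    obtain ⟨c, hc⟩ := isConj_iff.mp hy
    have hc' : c * x * c⁻¹ = y := hc
    subst hc'
    refine (Nat.card_congr ?_).symm
    refine Equiv.ofBijective (fun d => ⟨⟨(d : G) * c⁻¹, ?_⟩, ?_⟩) ⟨fun a b hab => ?_, ?_⟩
    · have hd := Subgroup.mem_centralizer_singleton_iff.mp d.2
      have : ((d : G) * c⁻¹)⁻¹ * x * ((d : G) * c⁻¹) = c * x * c⁻¹ := by
        rw [show ((d : G) * c⁻¹)⁻¹ * x * ((d : G) * c⁻¹) = c * ((d : G)⁻¹ * (x * d)) * c⁻¹ by group, ← hd, inv_mul_cancel_left]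
      rwa [this]
    · have hd := Subgroup.mem_centralizer_singleton_iff.mp d.2
      apply Subtype.ext
      show ((d : G) * c⁻¹)⁻¹ * x * ((d : G) * c⁻¹) = c * x * c⁻¹
      rw [show ((d : G) * c⁻¹)⁻¹ * x * ((d : G) * c⁻¹) = c * ((d : G)⁻¹ * (x * d)) * c⁻¹ by group, ← hd, inv_mul_cancel_left]
    · have := congrArg (fun g : {g // f g = _} => (g.1 : G)) hab
      exact Subtype.ext (mul_right_cancel this)
    · rintro ⟨⟨g, hg⟩, he⟩
      have he' : g⁻¹ * x * g = c * x * c⁻¹ := congrArg Subtype.val he
      refine ⟨⟨g * c, Subgroup.mem_centralizer_singleton_iff.mpr ?_⟩, ?_⟩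
      · calc g * c * x = g * (c * x * c⁻¹) * c := by group
          _ = g * (g⁻¹ * x * g) * c := by rw [he']
          _ = x * (g * c) := by group
      · apply Subtype.ext; apply Subtype.ext; show g * c * c⁻¹ = g; group
  rw [← Nat.card_congr (Equiv.sigmaFiberEquiv f), Nat.card_sigma, Finset.sum_congr rfl (fun y _ => hfib y),
    Finset.sum_const, smul_eq_mul, Finset.card_univ, Nat.card_eq_fintype_card (α := {y : G // IsConj x y ∧ P y})]

/-- Let H be a subgroup of a finite group G and x an element of H. In the action of G on the left cosets of H, the number of cosets fixed by x, multiplied by the size of the conjugacy class of x, equals the index of H multiplied by the number of conjugates of x that lie in H. -/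
theorem result {G : Type*} [Group G] [Finite G] (H : Subgroup G) (x : G) (hx : x ∈ H) : Nat.card (MulAction.fixedBy (G ⧸ H) x) * Nat.card {g : G // IsConj x g} = H.index * Nat.card {g : G // IsConj x g ∧ g ∈ H} := by
  have h1 := card_conj_pred x (fun y => y ∈ H)
  have h2 := card_conj_pred x (fun _ => True)
  have h3 : Nat.card {g : G // g⁻¹ * x * g ∈ H} = Nat.card H * Nat.card (MulAction.fixedBy (G ⧸ H) x) := by
    rw [← Nat.card_prod]
    refine Nat.card_congr ((Equiv.subtypeEquivRight fun g => ?_).trans (QuotientGroup.preimageMkEquivSubgroupProdSet H (MulAction.fixedBy (G ⧸ H) x)))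
    show _ ↔ ((x • (g : G ⧸ H)) = (g : G ⧸ H))
    rw [eq_comm, MulAction.Quotient.smul_mk, QuotientGroup.eq, smul_eq_mul, mul_assoc]
  simp only [and_true] at h2
  rw [Nat.card_congr (Equiv.subtypeUnivEquiv (fun _ : G => trivial)), ← H.index_mul_card] at h2
  have hC : 0 < Nat.card (Subgroup.centralizer ({x} : Set G)) := Nat.card_pos
  have hH : 0 < Nat.card H := Nat.card_pos
  rw [h3] at h1
  apply Nat.eq_of_mul_eq_mul_right hH
  apply Nat.eq_of_mul_eq_mul_right hC
  linear_combination (Nat.card {g : G // IsConj x g} * Nat.card (Subgroup.centralizer ({x} : Set G))) * h1 - (Nat.card {g : G // IsConj x g ∧ g ∈ H} * Nat.card (Subgroup.centralizer ({x} : Set G))) * h2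

end Cfsg.Agent.S1019
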