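import Cfsg.Statements.S1026
import Cfsg.Agent.Lib.Chev.Words
import Cfsg.Agent.Lib.Chev.Inst

set_option autoImplicit false
open Cfsg

namespace Cfsg.Agent.S1026

/-- Every element of `U` has a unique expression `∏_{r ∈ Φ⁺} x_r(t_r)`, the product over the positive roots in increasing index order (the coefficient family `t`, supported on the positive roots, exists and is unique); and conversely every such ordered product is the matrix of an element of `U`. -/
theorem result {F : Type*} [Field F] (D : Cfsg.Lie.ChevalleyDatum) (hD : D ∈ [Cfsg.Lie.chevG2, Cfsg.Lie.chevB2, Cfsg.Lie.chevD4, Cfsg.Lie.chevF4, Cfsg.Lie.chevE6, Cfsg.Lie.chevE7, Cfsg.Lie.chevE8]) :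
    (∀ g : GL D.Idx F, g ∈ D.posUnipotent F →
      ∃! t : ℕ → F, (∀ r, ¬ D.IsPosRoot r → t r = 0) ∧
        (g : Matrix D.Idx D.Idx F) = D.wordMat F (D.posRoots.map fun r => (r, t r))) ∧
    (∀ t : ℕ → F, ∃ g : GL D.Idx F, g ∈ D.posUnipotent F ∧
      (g : Matrix D.Idx D.Idx F) = D.wordMat F (D.posRoots.map fun r => (r, t r))) := by
  obtain ⟨Φ⟩ := CfsgLib.Chev.exists_chev hD
  constructor
  · intro g hg
    rw [Φ.posUnipotent_eq_US] at hg
    obtain ⟨t, rfl⟩ := (Φ.mem_US_iff (fun r h => h) Φ.closed_pos).mp hg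
    refine ⟨fun r => if h : r < D.nroots ∧ D.IsPosRoot r then t ⟨r, h.1⟩ else 0, ⟨fun r hr => by simp [hr], ?_⟩, ?_⟩
    · rw [Φ.posRoots_eq, Φ.wordMat_map_val]
      congr 1
      rw [CfsgLib.Chev.Chev.prodL, CfsgLib.Chev.Chev.prodL]
      congr 1
      refine List.map_congr_left fun r hr => ?_
      rw [dif_pos ⟨r.isLt, (Φ.posRoot_iff r).mpr (CfsgLib.Chev.Chev.mem_rootList.mp hr)⟩]
    · rintro t' ⟨h0, hval⟩
      rw [Φ.posRoots_eq, Φ.wordMat_map_val, Units.val_inj] at hval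
      funext r
      by_cases h : r < D.nroots ∧ D.IsPosRoot r
      · simp only [dif_pos h]
        exact (Φ.prodL_injective (CfsgLib.Chev.Chev.pairwise_rootList _)
          (fun x hx => CfsgLib.Chev.Chev.mem_rootList.mp hx) hval ⟨r, h.1⟩
          (CfsgLib.Chev.Chev.mem_rootList.mpr ((Φ.posRoot_iff ⟨r, h.1⟩).mp h.2))).symm
      · simp only [dif_neg h]
        exact h0 r fun h' => h ⟨h'.1, h'⟩
  · intro t
    refine ⟨Φ.prodL (CfsgLib.Chev.Chev.rootList Φ.toTables.Pos) fun r => t r.val, ?_,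
      by rw [Φ.posRoots_eq, Φ.wordMat_map_val]⟩
    rw [Φ.posUnipotent_eq_US]
    exact (Φ.mem_US_iff (fun r h => h) Φ.closed_pos).mpr ⟨_, rfl⟩

end Cfsg.Agent.S1026
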