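import Cfsg.Statements.S1030
import Cfsg.Agent.Lib.Chev.SL2Hom
import Cfsg.Agent.Lib.Chev.Inst

set_option autoImplicit false
open Cfsg

namespace Cfsg.Agent.S1030

/-- There is a homomorphism `SL₂(F) → GL` with image `⟨X_r, X_{-r}⟩` sending `[[1,t],[0,1]]` to `x_r(t)` and `[[1,0],[t,1]]` to `x_{-r}(t)`. -/
theorem result {F : Type*} [Field F] (D : Cfsg.Lie.ChevalleyDatum) (hD : D ∈ [Cfsg.Lie.chevG2, Cfsg.Lie.chevB2, Cfsg.Lie.chevD4, Cfsg.Lie.chevF4, Cfsg.Lie.chevE6, Cfsg.Lie.chevE7, Cfsg.Lie.chevE8]) (r : ℕ) (hr : r < D.nroots) :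
    ∃ φ : Matrix.SpecialLinearGroup (Fin 2) F →* GL D.Idx F,
      φ.range = D.rootSubgroup F r ⊔ D.rootSubgroup F (D.neg r) ∧
      ∀ (g : Matrix.SpecialLinearGroup (Fin 2) F) (t : F),
        ((g : Matrix (Fin 2) (Fin 2) F) = !![1, t; 0, 1] → ((φ g : GL D.Idx F) : Matrix D.Idx D.Idx F) = D.x F r t) ∧
        ((g : Matrix (Fin 2) (Fin 2) F) = !![1, 0; t, 1] → ((φ g : GL D.Idx F) : Matrix D.Idx D.Idx F) = D.x F (D.neg r) t) := by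
  obtain ⟨Φ⟩ := CfsgLib.Chev.exists_chev hD
  set R := Φ.rankOne F ⟨r, hr⟩ with hR
  have hneg : D.neg r = (⟨r, hr⟩ : Fin D.nroots).rev.val := Φ.negIdx_eq ⟨r, hr⟩
  refine ⟨R.hom, ?_, fun g t => ⟨fun hg => ?_, fun hg => ?_⟩⟩
  · rw [R.range_hom, Subgroup.closure_union, hneg, Φ.toAlg.rootSubgroup_eq ⟨r, hr⟩ |>.trans rfl,
      Φ.toAlg.rootSubgroup_eq]
    congr 1
    · rw [← Subgroup.closure_eq ((Φ.toAlg.xHom (F := F) ⟨r, hr⟩).range)]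
      rfl
    · rw [← Subgroup.closure_eq ((Φ.toAlg.xHom (F := F) (⟨r, hr⟩ : Fin D.nroots).rev).range)]
      rfl
  · rw [show g = CfsgLib.Chev.RankOne.u t from Subtype.ext hg, R.hom_u, Φ.toAlg.x_val' hr]
    rfl
  · rw [show g = CfsgLib.Chev.RankOne.l t from Subtype.ext hg, R.hom_l, hneg, Φ.toAlg.x_val]
    rfl

end Cfsg.Agent.S1030
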