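import Cfsg.Statements.S1031
import Cfsg.Agent.Lib.Chev.Comm
import Cfsg.Agent.Lib.Chev.Weyl
import Cfsg.Agent.Lib.Chev.Inst

set_option autoImplicit false
open Cfsg

namespace Cfsg.Agent.S1031

/-- For a fundamental root `p = p_{i+1}` and any root `s`: `n_p x_s(t) n_p⁻¹ = x_{w_p(s)}(η t)` with a sign `η = ±1` independent of `t`, where `w_p(s)` is the reflected root (`reflectRoot`). Stated as `n_p x_s(t) = x_{w_p(s)}(η t) n_p`. -/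
theorem result {F : Type*} [Field F] (D : Cfsg.Lie.ChevalleyDatum) (hD : D ∈ [Cfsg.Lie.chevG2, Cfsg.Lie.chevB2, Cfsg.Lie.chevD4, Cfsg.Lie.chevF4, Cfsg.Lie.chevE6, Cfsg.Lie.chevE7, Cfsg.Lie.chevE8]) (i s : ℕ) (hi : i < D.rank) (hs : s < D.nroots) :
    ∃ η : ℤ, (η = 1 ∨ η = -1) ∧
      ∀ t : F, D.nMat F (D.simple i) 1 * D.x F s t = D.x F (D.reflectRoot i s) ((η : F) * t) * D.nMat F (D.simple i) 1 := by
  obtain ⟨Φ⟩ := CfsgLib.Chev.exists_chev hD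
  refine ⟨Φ.eta ⟨i, hi⟩ ⟨s, hs⟩, Φ.eta_unit _ _, fun t => ?_⟩
  have h := congrArg Units.val (Φ.nw_conj_xg ⟨i, hi⟩ ⟨s, hs⟩ t)
  rw [Units.val_mul, Units.val_mul, Φ.nw_val, Units.val_one] at h
  rw [show D.simple i = (Φ.p ⟨i, hi⟩).val from Φ.simple_val ⟨i, hi⟩,
    show D.reflectRoot i s = (Φ.refl ⟨i, hi⟩ ⟨s, hs⟩).val from Φ.reflectRoot_eq ⟨i, hi⟩ ⟨s, hs⟩,
    Φ.toAlg.x_val' hs, Φ.toAlg.x_val]
  exact h

end Cfsg.Agent.S1031
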