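import Cfsg.Statements.S1039
import Cfsg.Agent.Lib.Chev.CoxeterG2
import Cfsg.Agent.Lib.Chev.CoxeterB2
import Cfsg.Agent.Lib.Chev.CoxeterD4
import Cfsg.Agent.Lib.Chev.CoxeterF4
import Cfsg.Agent.Lib.Chev.CoxeterE6
import Cfsg.Agent.Lib.Chev.CoxeterE7
import Cfsg.Agent.Lib.Chev.CoxeterE8

set_option autoImplicit false
open Cfsg

namespace Cfsg.Agent.S1039

theorem aux {F : Type*} [Field F] {D : Cfsg.Lie.ChevalleyDatum} (Φ : CfsgLib.Chev.Chev D)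
    (CM : CoxeterMatrix (Fin D.rank))
    (h : ∃ e : CM.Group ≃* Φ.WL, ∀ i, (e (CM.simple i) : Equiv.Perm (Fin D.nroots)) = Φ.reflPerm i) :
    ∃ φ : ↥(D.monomialSubgroup F) →* CM.Group, Function.Surjective φ ∧
      φ.ker = (D.diagonalSubgroup F).subgroupOf (D.monomialSubgroup F) ∧
      ∀ (i : Fin D.rank) (g : ↥(D.monomialSubgroup F)),
        ((g : GL D.Idx F) : Matrix D.Idx D.Idx F) = D.nMat F (D.simple i) 1 → φ g = CM.simple i := by
  obtain ⟨e, he⟩ := h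
  refine ⟨e.symm.toMonoidHom.comp (Φ.permN F), e.symm.surjective.comp Φ.permN_surjective, ?_,
    fun i g hg => ?_⟩
  · rw [← Φ.permN_ker]
    ext g
    simp [MonoidHom.mem_ker]
  · show e.symm (Φ.permN F g) = _
    rw [MulEquiv.symm_apply_eq]
    refine Subtype.ext ?_
    rw [he]
    exact Φ.permN_nw i g (Units.ext (by rw [hg, Φ.simple_val, Φ.nw_val, Units.val_one]))


/-- `N/H ≅ W`: there is a surjective homomorphism from `N` onto the Coxeter group of the type (Mathlib's Coxeter matrix G₂, B₂, F₄, E₆, E₇, E₈, nodes numbered as the fundamental roots) with kernel `H`, mapping each `n_{p_i}` to the `i`-th simple reflection. -/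
theorem result {F : Type*} [Field F]
    (p : Cfsg.Lie.ChevalleyDatum × (Σ n : ℕ, CoxeterMatrix (Fin n)))
    (hp : p ∈ [(Cfsg.Lie.chevG2, ⟨2, CoxeterMatrix.G₂⟩), (Cfsg.Lie.chevB2, ⟨2, CoxeterMatrix.B 2⟩), (Cfsg.Lie.chevD4, ⟨4, Cfsg.Lie.coxeterD4⟩), (Cfsg.Lie.chevF4, ⟨4, CoxeterMatrix.F₄⟩),
      (Cfsg.Lie.chevE6, ⟨6, CoxeterMatrix.E₆⟩), (Cfsg.Lie.chevE7, ⟨7, CoxeterMatrix.E₇⟩), (Cfsg.Lie.chevE8, ⟨8, CoxeterMatrix.E₈⟩)]) :
    ∃ φ : ↥(p.1.monomialSubgroup F) →* p.2.2.Group, Function.Surjective φ ∧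
      φ.ker = (p.1.diagonalSubgroup F).subgroupOf (p.1.monomialSubgroup F) ∧
      ∀ (i : Fin p.2.1) (g : ↥(p.1.monomialSubgroup F)),
        ((g : GL p.1.Idx F) : Matrix p.1.Idx p.1.Idx F) = p.1.nMat F (p.1.simple i) 1 → φ g = p.2.2.simple i := by
  simp only [List.mem_cons, List.not_mem_nil, or_false] at hp
  rcases hp with rfl | rfl | rfl | rfl | rfl | rfl | rfl
  · exact aux CfsgLib.Chev.chevG2 _ CfsgLib.Chev.coxIsoG2
  · exact aux CfsgLib.Chev.chevB2 _ CfsgLib.Chev.coxIsoB2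
  · exact aux CfsgLib.Chev.chevD4 _ CfsgLib.Chev.coxIsoD4
  · exact aux CfsgLib.Chev.chevF4 _ CfsgLib.Chev.coxIsoF4
  · exact aux CfsgLib.Chev.chevE6 _ CfsgLib.Chev.coxIsoE6
  · exact aux CfsgLib.Chev.chevE7 _ CfsgLib.Chev.coxIsoE7
  · exact aux CfsgLib.Chev.chevE8 _ CfsgLib.Chev.coxIsoE8

end Cfsg.Agent.S1039
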