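import Cfsg.Statements.S1044
import Cfsg.Agent.Lib.Chev.BNP
import Cfsg.Agent.Lib.Chev.Inst

set_option autoImplicit false
open Cfsg

namespace Cfsg.Agent.S1044

/-- For a fundamental root `p` the set `B ∪ B n_p B` is (the carrier of) a subgroup of the general linear group. -/
theorem result {F : Type*} [Field F] (D : Cfsg.Lie.ChevalleyDatum) (hD : D ∈ [Cfsg.Lie.chevG2, Cfsg.Lie.chevB2, Cfsg.Lie.chevD4, Cfsg.Lie.chevF4, Cfsg.Lie.chevE6, Cfsg.Lie.chevE7, Cfsg.Lie.chevE8]) (i : ℕ) (hi : i < D.rank) (n : GL D.Idx F)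
    (hn : (n : Matrix D.Idx D.Idx F) = D.nMat F (D.simple i) 1) :
    ∃ P : Subgroup (GL D.Idx F), (P : Set (GL D.Idx F)) =
      (D.borelSubgroup F : Set (GL D.Idx F)) ∪ DoubleCoset.doubleCoset n (D.borelSubgroup F : Set (GL D.Idx F)) (D.borelSubgroup F) := by
  obtain ⟨Φ⟩ := CfsgLib.Chev.exists_chev hD
  refine ⟨D.parabolicSubgroup F {i}, ?_⟩
  have hn' : n = Φ.nw (Φ.p ⟨i, hi⟩) 1 := Units.ext (by rw [hn, Φ.nw_val, Units.val_one, ← Φ.simple_val])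
  subst hn'
  have hs : (⟨Φ.nw (Φ.p ⟨i, hi⟩) 1, Φ.nw_mem_group _ _⟩ : D.group F) ∈ (Φ.bnPair F).S := ⟨⟨i, hi⟩, rfl⟩
  set s : (Φ.bnPair F).S := ⟨_, hs⟩
  have hJ : Φ.simpleSet F {j : Fin D.rank | j.val ∈ ({i} : Set ℕ)} = {(s : D.group F)} := by
    have : {j : Fin D.rank | j.val ∈ ({i} : Set ℕ)} = {⟨i, hi⟩} := by ext j; simp [Fin.ext_iff]
    rw [this, CfsgLib.Chev.Chev.simpleSet, Set.image_singleton]
  ext g
  rw [SetLike.mem_coe, Φ.mem_parabolicSubgroup, hJ, Set.mem_union, DoubleCoset.mem_doubleCoset]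
  constructor
  · rintro ⟨hg, hmem⟩
    obtain ⟨q, hq, hgq⟩ := (CfsgLib.BN.mem_parabolic_iff _ (Set.singleton_subset_iff.2 hs)).1 hmem
    obtain ⟨l, hl, hred, rfl⟩ := CfsgLib.BN.InJ.reduced _ hq
    rcases l with _ | ⟨a, _ | ⟨b, t⟩⟩
    · rw [CfsgLib.BN.wd_nil, CfsgLib.BN.cell_one] at hgq
      exact Or.inl hgq
    · obtain rfl : a = s := Subtype.ext (hl a (by simp))
      rw [CfsgLib.BN.wd_cons, CfsgLib.BN.wd_nil, mul_one, CfsgLib.BN.σ,
        CfsgLib.BN.mem_cell_cls] at hgq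
      obtain ⟨a, ha, b, hb, e⟩ := hgq
      exact Or.inr ⟨a, ha, b, hb, congrArg Subtype.val e⟩
    · exfalso
      obtain rfl : a = s := Subtype.ext (hl a (by simp))
      obtain rfl : b = s := Subtype.ext (hl b (by simp))
      have h1 := CfsgLib.BN.len_le _ t
      simp [CfsgLib.BN.Red] at hred
      omega
  · rintro (hg | ⟨a, ha, b, hb, rfl⟩)
    · exact ⟨Φ.B_le_group hg, Subgroup.mem_sup_left hg⟩
    · refine ⟨mul_mem (mul_mem (Φ.B_le_group ha) (Φ.nw_mem_group _ _)) (Φ.B_le_group hb), ?_⟩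
      have h1 : (⟨a, Φ.B_le_group ha⟩ : D.group F) ∈ (Φ.bnPair F).parabolic {(s : D.group F)} :=
        Subgroup.mem_sup_left ha
      have h2 : (⟨b, Φ.B_le_group hb⟩ : D.group F) ∈ (Φ.bnPair F).parabolic {(s : D.group F)} :=
        Subgroup.mem_sup_left hb
      have h3 : (s : D.group F) ∈ (Φ.bnPair F).parabolic {(s : D.group F)} :=
        Subgroup.mem_sup_right (Subgroup.subset_closure (Set.mem_singleton _))
      exact Subgroup.mul_mem _ (Subgroup.mul_mem _ h1 h3) h2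

end Cfsg.Agent.S1044
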