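import Cfsg.Statements.S1045
import Cfsg.Agent.Lib.Chev.BNP
import Cfsg.Agent.Lib.Chev.Inst

set_option autoImplicit false
open Cfsg

namespace Cfsg.Agent.S1045

/-- For a fundamental root `p`, the subgroup `U_p` generated by the `X_s`, `s` positive and `s ≠ p`, is normalised by `X_p` and `X_{-p}`, and `U = U_p ⊔ X_p`. -/
theorem result {F : Type*} [Field F] (D : Cfsg.Lie.ChevalleyDatum) (hD : D ∈ [Cfsg.Lie.chevG2, Cfsg.Lie.chevB2, Cfsg.Lie.chevD4, Cfsg.Lie.chevF4, Cfsg.Lie.chevE6, Cfsg.Lie.chevE7, Cfsg.Lie.chevE8]) (i : ℕ) (hi : i < D.rank) :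
    D.rootSubgroup F (D.simple i) ⊔ D.rootSubgroup F (D.neg (D.simple i)) ≤
        Subgroup.normalizer (Subgroup.closure {g : GL D.Idx F | ∃ (s : ℕ) (t : F), D.IsPosRoot s ∧ s ≠ D.simple i ∧
          (g : Matrix D.Idx D.Idx F) = D.x F s t} : Set (GL D.Idx F)) ∧
      Subgroup.closure {g : GL D.Idx F | ∃ (s : ℕ) (t : F), D.IsPosRoot s ∧ s ≠ D.simple i ∧
          (g : Matrix D.Idx D.Idx F) = D.x F s t} ⊔ D.rootSubgroup F (D.simple i) = D.posUnipotent F := by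
  obtain ⟨Φ⟩ := CfsgLib.Chev.exists_chev hD
  set j : Fin D.rank := ⟨i, hi⟩
  have hp : D.simple i = (Φ.p j).val := Φ.simple_val j
  have hn : D.neg (D.simple i) = (Φ.p j).rev.val := by rw [hp]; exact Φ.negIdx_eq _
  have hU : Subgroup.closure {g : GL D.Idx F | ∃ (s : ℕ) (t : F), D.IsPosRoot s ∧ s ≠ D.simple i ∧
      (g : Matrix D.Idx D.Idx F) = D.x F s t} = Φ.US F (Φ.Out {j}) := by
    rw [CfsgLib.Chev.Chev.US]
    congr 1
    ext g
    constructor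
    · rintro ⟨s, t, hs, hne, hg⟩
      refine ⟨⟨s, hs.1⟩, t, Φ.out_singleton_iff.mpr ⟨(Φ.posRoot_iff ⟨s, hs.1⟩).mp hs, ?_⟩,
        (Φ.toAlg.eq_xg_iff (r := ⟨s, hs.1⟩).mp hg).symm⟩
      intro e
      exact hne (by rw [hp, ← e])
    · rintro ⟨r, t, hr, rfl⟩
      obtain ⟨h1, h2⟩ := Φ.out_singleton_iff.mp hr
      exact ⟨r, t, (Φ.posRoot_iff r).mpr h1, fun e => h2 (Fin.ext (by rw [e, hp])), Φ.toAlg.eq_xg_iff.mpr rfl⟩
  rw [hU, hn, hp]
  constructor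
  · refine sup_le (fun x hx => ?_) (fun x hx => ?_)
    · obtain ⟨t, rfl⟩ := (Φ.toAlg.mem_rootSubgroup (F := F) (r := Φ.p j)).mp hx
      exact Φ.xg_mem_normalizer_out (Φ.sub_p.mpr (Set.mem_singleton j)) t
    · obtain ⟨t, rfl⟩ := (Φ.toAlg.mem_rootSubgroup (F := F) (r := (Φ.p j).rev)).mp hx
      exact Φ.xg_mem_normalizer_out (Φ.sub_rev.mpr (Φ.sub_p.mpr (Set.mem_singleton j))) t
  · refine le_antisymm (sup_le ?_ ?_) ?_
    · rw [Φ.posUnipotent_eq_US]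
      exact Φ.US_mono fun r hr => CfsgLib.Chev.Chev.Out.pos Φ hr
    · intro x hx
      obtain ⟨t, rfl⟩ := (Φ.toAlg.mem_rootSubgroup (F := F) (r := Φ.p j)).mp hx
      rw [Φ.posUnipotent_eq_US]
      exact Φ.xg_mem_US (Φ.p_pos j) t
    · intro x hx
      obtain ⟨u, hu, t, rfl⟩ := (Φ.mem_U_iff_out (i := j)).mp hx
      exact mul_mem (Subgroup.mem_sup_left hu)
        (Subgroup.mem_sup_right ((Φ.toAlg.mem_rootSubgroup (F := F) (r := Φ.p j)).mpr ⟨t, rfl⟩))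

end Cfsg.Agent.S1045
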