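import Cfsg.Statements.S1047
import Cfsg.Agent.Lib.Chev.Levi
import Cfsg.Agent.Lib.Chev.Inst

set_option autoImplicit false
open Cfsg

namespace Cfsg.Agent.S1047

/-- `P_J = ⟨H, X_r : r ∈ Φ⁺ ∪ Φ_J⟩`. -/
theorem result {F : Type*} [Field F] (D : Cfsg.Lie.ChevalleyDatum) (hD : D ∈ [Cfsg.Lie.chevG2, Cfsg.Lie.chevB2, Cfsg.Lie.chevD4, Cfsg.Lie.chevF4, Cfsg.Lie.chevE6, Cfsg.Lie.chevE7, Cfsg.Lie.chevE8]) (J : Set ℕ) :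
    D.parabolicSubgroup F J = D.diagonalSubgroup F ⊔
      Subgroup.closure {g : GL D.Idx F | ∃ (r : ℕ) (t : F), (D.IsPosRoot r ∨ D.InRootSub J r) ∧ (g : Matrix D.Idx D.Idx F) = D.x F r t} := by
  obtain ⟨Φ⟩ := CfsgLib.Chev.exists_chev hD
  rw [Φ.parabolic_eq_gen, CfsgLib.Chev.Chev.US]
  congr 2
  ext g
  constructor
  · rintro ⟨r, t, hr, rfl⟩
    exact ⟨r.val, t, hr.imp (Φ.posRoot_iff r).mpr (Φ.inRootSub_iff J r).mpr, Φ.toAlg.eq_xg_iff.mpr rfl⟩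
  · rintro ⟨r, t, hr, hg⟩
    have hlt : r < D.nroots := hr.elim (fun h => h.1) (fun h => h.1)
    exact ⟨⟨r, hlt⟩, t, hr.imp (Φ.posRoot_iff ⟨r, hlt⟩).mp (Φ.inRootSub_iff J ⟨r, hlt⟩).mp,
      (Φ.toAlg.eq_xg_iff (r := ⟨r, hlt⟩).mp hg).symm⟩

end Cfsg.Agent.S1047
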