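import Cfsg.Statements.S1050
import Cfsg.Agent.Lib.Chev.HN
import Cfsg.Agent.Lib.Chev.Inst

set_option autoImplicit false
open Cfsg

namespace Cfsg.Agent.S1050

/-- `B = UH` is solvable (U nilpotent, H abelian, U ⊴ B). -/
theorem result {F : Type*} [Field F] (D : Cfsg.Lie.ChevalleyDatum) (hD : D ∈ [Cfsg.Lie.chevG2, Cfsg.Lie.chevB2, Cfsg.Lie.chevD4, Cfsg.Lie.chevF4, Cfsg.Lie.chevE6, Cfsg.Lie.chevE7, Cfsg.Lie.chevE8]) : Group.IsSolvable ↥(D.borelSubgroup F) := by
  obtain ⟨Φ⟩ := CfsgLib.Chev.exists_chev hD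
  set B := D.borelSubgroup F
  have hUB : D.posUnipotent F ≤ B := le_sup_left
  have hnorm : B ≤ Subgroup.normalizer (D.posUnipotent F : Set (GL D.Idx F)) :=
    sup_le Subgroup.le_normalizer Φ.H_le_normalizer_U
  haveI : ((D.posUnipotent F).subgroupOf B).Normal :=
    (Subgroup.normal_subgroupOf_iff_le_normalizer hUB).mpr hnorm
  haveI : Group.IsNilpotent (D.posUnipotent F) := by
    rw [Φ.posUnipotent_eq_US]
    exact CfsgLib.Chev.isNilpotent_of_le_raiseSubgroup _ Φ.US_pos_le_raise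
  haveI : Group.IsSolvable ↥((D.posUnipotent F).subgroupOf B) :=
    solvable_of_solvable_injective (f := ((D.posUnipotent F).subgroupOfEquivOfLe hUB).toMonoidHom)
      ((D.posUnipotent F).subgroupOfEquivOfLe hUB).injective
  haveI : Group.IsSolvable (↥B ⧸ (D.posUnipotent F).subgroupOf B) := by
    have hrep : ∀ a : ↥B ⧸ (D.posUnipotent F).subgroupOf B,
        ∃ h : ↥B, (h : GL D.Idx F) ∈ D.diagonalSubgroup F ∧ QuotientGroup.mk h = a := by
      intro a
      induction a using QuotientGroup.induction_on with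
      | _ x =>
        obtain ⟨u, hu, h, hh, e⟩ := Φ.mem_B_iff.mp x.2
        refine ⟨⟨h, Subgroup.mem_sup_right hh⟩, hh, QuotientGroup.eq.mpr ?_⟩
        rw [Subgroup.mem_subgroupOf]
        have hh' := (Subgroup.mem_normalizer_iff.mp
          (Φ.H_le_normalizer_U (Subgroup.inv_mem _ hh)) u).mp hu
        simp only [Subgroup.coe_mul, Subgroup.coe_inv, e]
        rw [inv_inv, mul_assoc] at hh'
        exact hh'
    refine isSolvable_of_comm fun a b => ?_
    obtain ⟨x, hx, rfl⟩ := hrep a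
    obtain ⟨y, hy, rfl⟩ := hrep b
    rw [← QuotientGroup.mk_mul, ← QuotientGroup.mk_mul,
      show x * y = y * x from Subtype.ext (Φ.H_comm hx hy).eq]
  exact solvable_of_ker_le_range ((D.posUnipotent F).subgroupOf B).subtype
    (QuotientGroup.mk' ((D.posUnipotent F).subgroupOf B))
    (by rw [QuotientGroup.ker_mk', Subgroup.range_subtype])

end Cfsg.Agent.S1050
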