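import Cfsg.Statements.S1051
import Cfsg.Agent.Lib.Chev.Inst
import Cfsg.Agent.Lib.Chev.Bruhat

set_option autoImplicit false
open Cfsg

namespace Cfsg.Agent.S1051

/-- `⋂_g g B g⁻¹ = 1`: the normal core of `B` in the Chevalley group is trivial. -/
theorem result {F : Type*} [Field F] (D : Cfsg.Lie.ChevalleyDatum) (hD : D ∈ [Cfsg.Lie.chevG2, Cfsg.Lie.chevB2, Cfsg.Lie.chevD4, Cfsg.Lie.chevF4, Cfsg.Lie.chevE6, Cfsg.Lie.chevE7, Cfsg.Lie.chevE8]) : ((D.borelSubgroup F).subgroupOf (D.group F)).normalCore = ⊥ := by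
  obtain ⟨Φ⟩ := CfsgLib.Chev.exists_chev hD
  rw [Subgroup.eq_bot_iff_forall]
  obtain ⟨π, hW, hπ⟩ := Φ.exists_long
  obtain ⟨n, hn, hm⟩ := Φ.exists_preimage F hW
  set C := ((D.borelSubgroup F).subgroupOf (D.group F)).normalCore with hC
  have key : ∀ x ∈ C, (x : GL D.Idx F) ∈ D.diagonalSubgroup F := by
    intro x hx
    rw [← Φ.B_inf_VH]
    refine ⟨(Subgroup.normalCore_le ((D.borelSubgroup F).subgroupOf (D.group F)) hx : x ∈ (D.borelSubgroup F).subgroupOf (D.group F)), ?_⟩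
    have h1 : n⁻¹ * (x : GL D.Idx F) * n ∈ D.borelSubgroup F := by
      have := hx ⟨n⁻¹, inv_mem (Φ.N_le_group hn)⟩
      simpa [Subgroup.mem_subgroupOf] using this
    obtain ⟨u, hu, h, hh, e⟩ := Φ.mem_B_iff.mp h1
    rw [show (x : GL D.Idx F) = n * (n⁻¹ * (x : GL D.Idx F) * n) * n⁻¹ by group, e,
      show n * (u * h) * n⁻¹ = n * u * n⁻¹ * (n * h * n⁻¹) by group]
    refine mul_mem (Subgroup.mem_sup_left ?_) (Subgroup.mem_sup_right (Φ.H_conj_mem hn hh))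
    rw [Φ.posUnipotent_eq_US] at hu
    rw [Φ.negUnipotent_eq_US]
    exact Φ.mono_conj_US hm hπ hu
  intro x hx
  obtain ⟨c, hc⟩ := Φ.exists_torus_of_mem_H (key x hx)
  have hc1 : c = 1 := by
    funext i
    let y : ↥(D.group F) := ⟨Φ.toAlg.xg (Φ.p i) (1 : F), Φ.toAlg.xg_mem_group _ _⟩
    have hy := key _ ((Subgroup.normalCore_normal _).conj_mem x hx y)
    have hmem : Φ.toAlg.xg (Φ.p i) (1 - (Φ.toSys.chi c (Φ.p i) : F)) ∈ D.diagonalSubgroup F := by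
      have e : ((y * x * y⁻¹ : ↥(D.group F)) : GL D.Idx F) =
          Φ.toAlg.xg (Φ.p i) (1 - (Φ.toSys.chi c (Φ.p i) : F)) * Φ.toAlg.torus c := by
        simp only [Subgroup.coe_mul, Subgroup.coe_inv, y, hc]
        rw [sub_eq_add_neg, Φ.toAlg.xg_add, Φ.toAlg.xg_inv, mul_assoc, Φ.toAlg.torus_xg, mul_assoc]
        simp
      rw [e] at hy
      have := mul_mem hy (inv_mem (hc ▸ key x hx : Φ.toAlg.torus c ∈ D.diagonalSubgroup F))
      simpa using this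
    have h1 : Φ.toAlg.xg (Φ.p i) (1 - (Φ.toSys.chi c (Φ.p i) : F)) = 1 :=
      Φ.eq_one_of_mem_U_of_mem_N (Φ.xg_mem_U (Φ.p_pos i) _) (CfsgLib.Chev.Chev.H_le_N hmem)
    rw [Φ.toAlg.xg_eq_one_iff, sub_eq_zero, Φ.toSys.chi_simple] at h1
    exact Units.ext h1.symm
  exact Subtype.ext (by rw [hc, hc1, map_one]; rfl)

end Cfsg.Agent.S1051
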