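import Cfsg.Statements.S1053
import Cfsg.Agent.Lib.Chev.Inst
import Cfsg.Agent.Lib.Chev.Bruhat

set_option autoImplicit false
open Cfsg

namespace Cfsg.Agent.S1053

/-- There is `n₀ ∈ N` with `n₀ U n₀⁻¹ = V` (a representative of the longest element of the Weyl group). -/
theorem result {F : Type*} [Field F] (D : Cfsg.Lie.ChevalleyDatum) (hD : D ∈ [Cfsg.Lie.chevG2, Cfsg.Lie.chevB2, Cfsg.Lie.chevD4, Cfsg.Lie.chevF4, Cfsg.Lie.chevE6, Cfsg.Lie.chevE7, Cfsg.Lie.chevE8]) :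
    ∃ n ∈ D.monomialSubgroup F, (D.posUnipotent F).map (MulAut.conj n).toMonoidHom = D.negUnipotent F := by
  obtain ⟨Φ⟩ := CfsgLib.Chev.exists_chev hD
  obtain ⟨π, hW, hπ⟩ := Φ.exists_long
  obtain ⟨n, hn, hm⟩ := Φ.exists_preimage F hW
  refine ⟨n, hn, le_antisymm ?_ ?_⟩
  · rintro _ ⟨u, hu, rfl⟩
    rw [Φ.posUnipotent_eq_US] at hu
    rw [Φ.negUnipotent_eq_US]
    exact Φ.mono_conj_US hm hπ hu
  · intro v hv
    rw [Φ.negUnipotent_eq_US] at hv
    refine ⟨n⁻¹ * v * n, ?_, by simp [MulAut.conj_apply]; group⟩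
    rw [SetLike.mem_coe, Φ.posUnipotent_eq_US]
    have := Φ.mono_conj_US (T := Φ.toTables.Pos) (Φ.mono_inv hn hm) (fun r hr => ?_) hv
    · simpa using this
    · by_contra h
      have h2 := hπ _ ((Φ.pos_rev_iff _).mpr h)
      rw [Φ.map_rev hW, show π (π⁻¹ r) = r from π.apply_symm_apply r, Φ.pos_rev_iff] at h2
      exact h2 hr

end Cfsg.Agent.S1053
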