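import Cfsg.Statements.S1077
import Cfsg.Agent.Lib.Chev.SteinbergData

set_option autoImplicit false
open Cfsg

namespace Cfsg.Agent.S1077

/-- Steinberg's Theorem: there is a homomorphism `x̄_r(t) ↦ x_r(t)` from the presented group onto the Chevalley group whose kernel is precisely the centre; hence `L(K) ≅ Ḡ/Z(Ḡ)`. -/
theorem result {K : Type*} [Field K] (D : Cfsg.Lie.ChevalleyDatum) (hD : D ∈ [Cfsg.Lie.chevG2, Cfsg.Lie.chevB2, Cfsg.Lie.chevD4, Cfsg.Lie.chevF4, Cfsg.Lie.chevE6, Cfsg.Lie.chevE7, Cfsg.Lie.chevE8]) :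
    ∃ θ : D.SteinbergGroup K →* ↥(D.group K), Function.Surjective θ ∧ θ.ker = Subgroup.center (D.SteinbergGroup K) ∧
      ∀ (r : ℕ) (t : K), r < D.nroots → ((θ (D.stGen K r t) : GL D.Idx K) : Matrix D.Idx D.Idx K) = D.x K r t := by
  obtain ⟨Φ, hadj⟩ := CfsgLib.Chev.exists_adj hD
  refine ⟨(Φ.proj K).codRestrict (D.group K) Φ.proj_mem_group, ?_, ?_, fun r t hr => ?_⟩
  · rintro ⟨g, hg⟩
    have hle : D.group K ≤ (Φ.proj K).range := by
      rw [Φ.toAlg.group_eq, Subgroup.closure_le]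
      rintro _ ⟨r, t, rfl⟩
      exact ⟨_, Φ.proj_gx r t⟩
    obtain ⟨y, hy⟩ := hle hg
    exact ⟨y, Subtype.ext hy⟩
  · rw [MonoidHom.ker_codRestrict, Φ.ker_proj_eq_center hadj]
  · show ((Φ.proj K (Φ.gx ⟨r, hr⟩ t)) : Matrix D.Idx D.Idx K) = _
    rw [Φ.proj_gx, Φ.toAlg.x_val' hr]

end Cfsg.Agent.S1077
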