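import Cfsg.Statements.S1080
import Cfsg.Agent.Lib.Chev.Group
import Cfsg.Agent.Lib.Chev.Inst

set_option autoImplicit false
open Cfsg

namespace Cfsg.Agent.S1080

/-- Field automorphisms: for every field automorphism `f` there is a group automorphism sending each `x_r(t)` to `x_r(f t)`. -/
theorem result {F : Type*} [Field F] (D : Cfsg.Lie.ChevalleyDatum) (hD : D ∈ [Cfsg.Lie.chevG2, Cfsg.Lie.chevB2, Cfsg.Lie.chevD4, Cfsg.Lie.chevF4, Cfsg.Lie.chevE6, Cfsg.Lie.chevE7, Cfsg.Lie.chevE8]) (f : F ≃+* F) :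
    ∃ α : ↥(D.group F) ≃* ↥(D.group F), ∀ (g : ↥(D.group F)) (r : ℕ) (t : F), r < D.nroots →
      ((g : GL D.Idx F) : Matrix D.Idx D.Idx F) = D.x F r t → ((α g : GL D.Idx F) : Matrix D.Idx D.Idx F) = D.x F r (f t) := by
  obtain ⟨Φ⟩ := CfsgLib.Chev.exists_alg hD
  let e : GL D.Idx F ≃* GL D.Idx F := Units.mapEquiv (f.mapMatrix).toMulEquiv
  have he : ∀ (r : Fin D.nroots) (t : F), e (Φ.xg r t) = Φ.xg r (f t) := fun r t =>
    Units.ext (Φ.toSys.X_map f r t)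
  have hmap : (D.group F).map (e : GL D.Idx F →* GL D.Idx F) = D.group F := by
    rw [Φ.group_eq, MonoidHom.map_closure]
    congr 1
    ext g
    constructor
    · rintro ⟨x, ⟨r, t, rfl⟩, rfl⟩
      exact ⟨r, f t, (he r t).symm⟩
    · rintro ⟨r, t, rfl⟩
      exact ⟨Φ.xg r (f.symm t), ⟨r, _, rfl⟩, by simpa using he r (f.symm t)⟩
  refine ⟨(e.subgroupMap (D.group F)).trans (MulEquiv.subgroupCongr hmap), fun g r t hr hg => ?_⟩
  have hg' : (g : GL D.Idx F) = Φ.xg ⟨r, hr⟩ t := Units.ext (hg.trans (Φ.x_val' hr t))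
  show ((e (g : GL D.Idx F)) : Matrix D.Idx D.Idx F) = _
  rw [hg', he, Φ.x_val' hr]

end Cfsg.Agent.S1080
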