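import Cfsg.Statements.S1083
import Cfsg.Agent.Lib.ChevClassical.B2

set_option autoImplicit false
open Cfsg

namespace Cfsg.Agent.S1083

/-- B₂(F) ≅ PΩ₅(F) for the form `x₀² + x₁y₁ + x₂y₂`, over every field with more than two elements. -/
theorem result {F : Type*} [Field F] (hF : ∃ a : F, a ≠ 0 ∧ a ≠ 1) :
    Nonempty (↥(Cfsg.Lie.chevB2.group F) ≃* Cfsg.POmega F (Cfsg.quadFormOdd 2 F)) := by
  obtain ⟨Φ⟩ := CfsgLib.Chev.exists_chev (D := Cfsg.Lie.chevB2) (by simp)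
  have h := CfsgLib.ChevClassical.Tab.nonempty_equiv CfsgLib.ChevClassical.B2.ok
    (R := CfsgLib.ChevClassical.qform (F := F) CfsgLib.ChevClassical.B2.tab)
    (CfsgLib.Chev.simple_of_conn CfsgLib.Chev.chevB2 CfsgLib.Chev.connB2 ⟨0, by decide⟩
      (CfsgLib.Chev.perfect_of_mem (by simp) fun _ => hF))
    (fun r t => ⟨Φ.xg r t, by rw [Φ.xg_val]; exact (Φ.xMat_eq F r t).symm⟩)
    (CfsgLib.ChevClassical.B2.omega_model hF)
  rwa [CfsgLib.ChevClassical.B2.form_eq] at h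

end Cfsg.Agent.S1083
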