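import Cfsg.Statements.S1094
import Cfsg.Agent.Lib.Chev.CoxeterG2
import Cfsg.Agent.Lib.Chev.CoxeterB2
import Cfsg.Agent.Lib.Chev.CoxeterD4
import Cfsg.Agent.Lib.Chev.CoxeterF4
import Cfsg.Agent.Lib.Chev.CoxeterE6
import Cfsg.Agent.Lib.Chev.CoxeterE7
import Cfsg.Agent.Lib.Chev.CoxeterE8

set_option autoImplicit false
open Cfsg

namespace Cfsg.Agent.S1094

theorem aux {D : Cfsg.Lie.ChevalleyDatum} (Φ : CfsgLib.Chev.Chev D) (CM : CoxeterMatrix (Fin D.rank))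
    (e : CM.Group ≃* Φ.WL)
    (he : ∀ i, (e (CM.simple i) : Equiv.Perm (Fin D.nroots)) = Φ.reflPerm i) {n : ℕ}
    (hn : orderOf ((List.finRange D.rank).map Φ.reflPerm).prod = n) :
    orderOf ((List.finRange D.rank).map CM.simple).prod = n := by
  rw [← MulEquiv.orderOf_eq e, ← Subgroup.orderOf_coe, ← hn, map_list_prod, List.map_map,
    SubmonoidClass.coe_list_prod, List.map_map]
  congr 2
  exact List.map_congr_left fun i _ => he i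


/-- The Coxeter element `s₁ s₂ ⋯ s_l` of the Coxeter group of type B₂, G₂, D₄, F₄, E₆, E₇, E₈ has order `h = 2N/l` = 4, 6, 6, 12, 12, 18, 30. -/
theorem result (p : (Σ n : ℕ, CoxeterMatrix (Fin n)) × ℕ)
    (hp : p ∈ [(⟨2, CoxeterMatrix.B 2⟩, 4), (⟨2, CoxeterMatrix.G₂⟩, 6), (⟨4, Cfsg.Lie.coxeterD4⟩, 6), (⟨4, CoxeterMatrix.F₄⟩, 12),
      (⟨6, CoxeterMatrix.E₆⟩, 12), (⟨7, CoxeterMatrix.E₇⟩, 18), (⟨8, CoxeterMatrix.E₈⟩, 30)]) :
    orderOf ((List.finRange p.1.1).map p.1.2.simple).prod = p.2 := by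
  simp only [List.mem_cons, List.not_mem_nil, or_false] at hp
  rcases hp with rfl | rfl | rfl | rfl | rfl | rfl | rfl
  · obtain ⟨e, he⟩ := CfsgLib.Chev.coxIsoB2
    exact aux _ _ e he CfsgLib.Chev.coxEltB2
  · obtain ⟨e, he⟩ := CfsgLib.Chev.coxIsoG2
    exact aux _ _ e he CfsgLib.Chev.coxEltG2
  · obtain ⟨e, he⟩ := CfsgLib.Chev.coxIsoD4
    exact aux _ _ e he CfsgLib.Chev.coxEltD4
  · obtain ⟨e, he⟩ := CfsgLib.Chev.coxIsoF4
    exact aux _ _ e he CfsgLib.Chev.coxEltF4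
  · obtain ⟨e, he⟩ := CfsgLib.Chev.coxIsoE6
    exact aux _ _ e he CfsgLib.Chev.coxEltE6
  · obtain ⟨e, he⟩ := CfsgLib.Chev.coxIsoE7
    exact aux _ _ e he CfsgLib.Chev.coxEltE7
  · obtain ⟨e, he⟩ := CfsgLib.Chev.coxIsoE8
    exact aux _ _ e he CfsgLib.Chev.coxEltE8

end Cfsg.Agent.S1094
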