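import Cfsg.Statements.S1095
import Cfsg.Agent.Lib.Chev.Comm
import Cfsg.Agent.Lib.Chev.Weyl
import Cfsg.Agent.Lib.Chev.Inst

set_option autoImplicit false
open Cfsg

namespace Cfsg.Agent.S1095

/-- `n_p` (p = p_{i+1} fundamental) is the signed monomial matrix `h_{p_j} ↦ h_{p_j} - A_{p_j,p} h_p`, `e_s ↦ η_s e_{w_p(s)}`, with `η_s = ±1`, `η_p = η_{-p} = -1`, `η_s η_{w_p(s)} = (-1)^{A_{p,s}}`, `η_s η_{-s} = 1`. -/
theorem result {F : Type*} [Field F] (D : Cfsg.Lie.ChevalleyDatum) (hD : D ∈ [Cfsg.Lie.chevG2, Cfsg.Lie.chevB2, Cfsg.Lie.chevD4, Cfsg.Lie.chevF4, Cfsg.Lie.chevE6, Cfsg.Lie.chevE7, Cfsg.Lie.chevE8]) (i : ℕ) (hi : i < D.rank) :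
    ∃ η : ℕ → ℤ, (∀ s < D.nroots, η s = 1 ∨ η s = -1) ∧ η (D.simple i) = -1 ∧ η (D.neg (D.simple i)) = -1 ∧
      (∀ s < D.nroots, η s * η (D.reflectRoot i s) = (-1) ^ (D.cartan i s).natAbs ∧ η s * η (D.neg s) = 1) ∧
      D.nMat F (D.simple i) 1 = Matrix.of (fun (row col : D.Idx) =>
        Sum.elim
          (fun j' : Fin D.rank => Sum.elim
            (fun j : Fin D.rank => (if j' = j then (1 : F) else 0) - (if (j' : ℕ) = i then ((D.cartan j (D.simple i) : ℤ) : F) else 0))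
            (fun _ => (0 : F)) col)
          (fun s' : Fin D.nroots => Sum.elim
            (fun _ => (0 : F))
            (fun s : Fin D.nroots => if (s' : ℕ) = D.reflectRoot i s then ((η s : ℤ) : F) else 0) col)
          row) := by
  obtain ⟨Φ⟩ := CfsgLib.Chev.exists_chev hD
  set I : Fin D.rank := ⟨i, hi⟩
  have hp : D.simple i = (Φ.p I).val := Φ.simple_val I
  have hn : ∀ r : Fin D.nroots, D.neg r.val = r.rev.val := Φ.negIdx_eq
  have hR : ∀ s : Fin D.nroots, D.reflectRoot i s.val = (Φ.refl I s).val := Φ.reflectRoot_eq I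
  set η : ℕ → ℤ := fun s => if h : s < D.nroots then Φ.eta I ⟨s, h⟩ else 1 with hη
  have hηv : ∀ s : Fin D.nroots, η s.val = Φ.eta I s := fun s => by simp [hη, s.isLt]
  refine ⟨η, fun s hs => ?_, ?_, ?_, fun s hs => ?_, ?_⟩
  · rw [hηv ⟨s, hs⟩]; exact Φ.eta_unit _ _
  · rw [hp, hηv]; exact (Φ.eta_p I).1
  · rw [hp, hn, hηv]; exact (Φ.eta_p I).2
  · have h1 := hR ⟨s, hs⟩
    have h2 := hn ⟨s, hs⟩
    have h3 : D.cartan i s = Φ.A I ⟨s, hs⟩ := Φ.cartan_val I ⟨s, hs⟩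
    simp only at h1 h2
    rw [h1, h2, hηv, hηv, h3, show η s = Φ.eta I ⟨s, hs⟩ from hηv ⟨s, hs⟩]
    exact ⟨Φ.eta_refl I ⟨s, hs⟩, Φ.eta_rev I ⟨s, hs⟩⟩
  · rw [hp, ← Units.val_one (α := F), ← Φ.nw_val, Φ.nw_one_val]
    refine Matrix.ext fun x y => ?_
    rcases y with j | s
    · rw [Φ.nOne_apply_inl]
      rcases x with k | u
      · have hA : D.cartan j.val (Φ.p I).val = Φ.A j (Φ.p I) := Φ.cartan_val j (Φ.p I)
        simp only [Matrix.of_apply, Sum.elim_inl, Sum.inl.injEq, hA, Units.val_one]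
        by_cases hk : k = I
        · rw [if_pos hk, if_pos (congrArg Fin.val hk)]
        · rw [if_neg hk, if_neg (fun e => hk (Fin.ext e))]
      · simp
    · rw [Φ.nOne_apply_inr]
      rcases x with k | u
      · simp
      · simp only [Matrix.of_apply, Sum.elim_inr, Sum.inr.injEq, hR, hηv, Fin.val_inj]

end Cfsg.Agent.S1095
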