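import Cfsg.Statements.S1096
import Cfsg.Agent.Lib.Chev.Comm
import Cfsg.Agent.Lib.Chev.Weyl
import Cfsg.Agent.Lib.Chev.Inst

set_option autoImplicit false
open Cfsg

namespace Cfsg.Agent.S1096

/-- `n_p h_{p_j}(t) n_p⁻¹ = h_{w_p(p_j)}(t)` for fundamental `p`, `p_j` and `t ≠ 0`, stated as `n_p h_{p_j}(t) = h_{w_p(p_j)}(t) n_p`. -/
theorem result {F : Type*} [Field F] (D : Cfsg.Lie.ChevalleyDatum) (hD : D ∈ [Cfsg.Lie.chevG2, Cfsg.Lie.chevB2, Cfsg.Lie.chevD4, Cfsg.Lie.chevF4, Cfsg.Lie.chevE6, Cfsg.Lie.chevE7, Cfsg.Lie.chevE8]) (i j : ℕ) (hi : i < D.rank) (hj : j < D.rank) (t : F) (ht : t ≠ 0) :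
    D.nMat F (D.simple i) 1 * D.hMat F (D.simple j) t = D.hMat F (D.reflectRoot i (D.simple j)) t * D.nMat F (D.simple i) 1 := by
  obtain ⟨Φ⟩ := CfsgLib.Chev.exists_chev hD
  set I : Fin D.rank := ⟨i, hi⟩
  set J : Fin D.rank := ⟨j, hj⟩
  set u : Fˣ := Units.mk0 t ht
  have h : Φ.nw (Φ.p I) 1 * Φ.hw (Φ.p J) u = Φ.hw (Φ.refl I (Φ.p J)) u * Φ.nw (Φ.p I) 1 := by
    rw [Φ.hw_eq, Φ.hw_eq, Φ.torus_nw_one I, Φ.coChar_refl, Φ.refl_refl]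
  have h' := congrArg Units.val h
  rw [Units.val_mul, Units.val_mul, Φ.nw_val, Φ.hw_val, Φ.hw_val, Units.val_one, Units.val_mk0] at h'
  rw [show D.simple i = (Φ.p I).val from Φ.simple_val I, show D.simple j = (Φ.p J).val from Φ.simple_val J,
    show D.reflectRoot i (Φ.p J).val = (Φ.refl I (Φ.p J)).val from Φ.reflectRoot_eq I (Φ.p J)]
  exact h'

end Cfsg.Agent.S1096
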