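import Cfsg.Statements.S1099
import Cfsg.Agent.Lib.Chev.GraphAut

set_option autoImplicit false
open Cfsg

namespace Cfsg.Agent.S1099

/-- Graph automorphism of G₂ in characteristic 3 (K perfect): `x_a(t) ↦ x_b(t³)`, `x_b(t) ↦ x_a(t)`, `x_{-a}(t) ↦ x_{-b}(t³)`, `x_{-b}(t) ↦ x_{-a}(t)` extend to an automorphism of the group. -/
theorem result {K : Type*} [Field K] [CharP K 3] (hperf : ∀ x : K, ∃ y : K, y ^ 3 = x) :
    ∃ α : ↥(Cfsg.Lie.chevG2.group K) ≃* ↥(Cfsg.Lie.chevG2.group K), ∀ (g : ↥(Cfsg.Lie.chevG2.group K)) (t : K),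
      (((g : GL Cfsg.Lie.chevG2.Idx K) : Matrix _ _ K) = Cfsg.Lie.chevG2.x K Cfsg.Lie.g2a t →
        ((α g : GL Cfsg.Lie.chevG2.Idx K) : Matrix _ _ K) = Cfsg.Lie.chevG2.x K Cfsg.Lie.g2b (t ^ 3)) ∧
      (((g : GL Cfsg.Lie.chevG2.Idx K) : Matrix _ _ K) = Cfsg.Lie.chevG2.x K Cfsg.Lie.g2b t →
        ((α g : GL Cfsg.Lie.chevG2.Idx K) : Matrix _ _ K) = Cfsg.Lie.chevG2.x K Cfsg.Lie.g2a t) ∧
      (((g : GL Cfsg.Lie.chevG2.Idx K) : Matrix _ _ K) = Cfsg.Lie.chevG2.x K Cfsg.Lie.g2ma t →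
        ((α g : GL Cfsg.Lie.chevG2.Idx K) : Matrix _ _ K) = Cfsg.Lie.chevG2.x K Cfsg.Lie.g2mb (t ^ 3)) ∧
      (((g : GL Cfsg.Lie.chevG2.Idx K) : Matrix _ _ K) = Cfsg.Lie.chevG2.x K Cfsg.Lie.g2mb t →
        ((α g : GL Cfsg.Lie.chevG2.Idx K) : Matrix _ _ K) = Cfsg.Lie.chevG2.x K Cfsg.Lie.g2ma t) := by
  haveI : Fact (Nat.Prime 3) := ⟨Nat.prime_three⟩
  have hok := CfsgLib.Chev.Chev.morOK_prime K 3 hperf
  have h3 : ∃ a : K, a ≠ 0 ∧ a ≠ 1 := by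
    refine ⟨-1, by simp, fun h => ?_⟩
    have h2 : ((2 : ℕ) : K) = 0 := by push_cast; linear_combination -h
    rw [CharP.cast_eq_zero_iff K 3] at h2
    exact absurd h2 (by decide)
  obtain ⟨α, h⟩ := CfsgLib.Chev.chevG2.exists_mor_equiv (CfsgLib.Chev.chevG2.adj_of_check CfsgLib.Chev.adjG2) hok
    CfsgLib.Chev.checkMorG2 (Or.inl (CfsgLib.Chev.simpleG2 K h3))
  refine ⟨α, fun g t => ⟨fun hg => ?_, fun hg => ?_, fun hg => ?_, fun hg => ?_⟩⟩ <;>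
    rw [h _ (by decide) t g hg]
  · rw [show CfsgLib.Chev.morG2.ρ Cfsg.Lie.g2a = Cfsg.Lie.g2b by decide,
      show CfsgLib.Chev.morG2.e Cfsg.Lie.g2a = 1 by decide,
      show CfsgLib.Chev.morG2.l Cfsg.Lie.g2a = 3 by decide, Int.cast_one, one_mul]
  · rw [show CfsgLib.Chev.morG2.ρ Cfsg.Lie.g2b = Cfsg.Lie.g2a by decide,
      show CfsgLib.Chev.morG2.e Cfsg.Lie.g2b = 1 by decide,
      show CfsgLib.Chev.morG2.l Cfsg.Lie.g2b = 1 by decide, Int.cast_one, one_mul, pow_one]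
  · rw [show CfsgLib.Chev.morG2.ρ Cfsg.Lie.g2ma = Cfsg.Lie.g2mb by decide,
      show CfsgLib.Chev.morG2.e Cfsg.Lie.g2ma = 1 by decide,
      show CfsgLib.Chev.morG2.l Cfsg.Lie.g2ma = 3 by decide, Int.cast_one, one_mul]
  · rw [show CfsgLib.Chev.morG2.ρ Cfsg.Lie.g2mb = Cfsg.Lie.g2ma by decide,
      show CfsgLib.Chev.morG2.e Cfsg.Lie.g2mb = 1 by decide,
      show CfsgLib.Chev.morG2.l Cfsg.Lie.g2mb = 1 by decide, Int.cast_one, one_mul, pow_one]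

end Cfsg.Agent.S1099
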