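import Cfsg.Statements.S1100
import Cfsg.Agent.Lib.Chev.Inst
import Cfsg.Agent.Lib.Chev.Bruhat

set_option autoImplicit false
open Cfsg

namespace Cfsg.Agent.S1100

/-- Canonical form `g = b n_w u` (`b ∈ B`, `u ∈ U_w⁻ = ⟨X_r : r > 0, n_w X_r n_w⁻¹ ≤ V⟩`): such a decomposition exists for every element of the group; the coset `n_w H` is determined by `g`; and for a fixed representative `n_w` the factors `b`, `u` are unique. -/
theorem result {F : Type*} [Field F] (D : Cfsg.Lie.ChevalleyDatum) (hD : D ∈ [Cfsg.Lie.chevG2, Cfsg.Lie.chevB2, Cfsg.Lie.chevD4, Cfsg.Lie.chevF4, Cfsg.Lie.chevE6, Cfsg.Lie.chevE7, Cfsg.Lie.chevE8]) :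
    (∀ g ∈ D.group F, ∃ b ∈ D.borelSubgroup F, ∃ n ∈ D.monomialSubgroup F,
      ∃ u ∈ Subgroup.closure {x : GL D.Idx F | ∃ (r : ℕ) (t : F), D.IsPosRoot r ∧
            (D.rootSubgroup F r).map (MulAut.conj n).toMonoidHom ≤ D.negUnipotent F ∧ (x : Matrix D.Idx D.Idx F) = D.x F r t},
        g = b * n * u) ∧
    (∀ (b b' n n' u u' : GL D.Idx F), b ∈ D.borelSubgroup F → b' ∈ D.borelSubgroup F →
      n ∈ D.monomialSubgroup F → n' ∈ D.monomialSubgroup F →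
      u ∈ Subgroup.closure {x : GL D.Idx F | ∃ (r : ℕ) (t : F), D.IsPosRoot r ∧
            (D.rootSubgroup F r).map (MulAut.conj n).toMonoidHom ≤ D.negUnipotent F ∧ (x : Matrix D.Idx D.Idx F) = D.x F r t} →
      u' ∈ Subgroup.closure {x : GL D.Idx F | ∃ (r : ℕ) (t : F), D.IsPosRoot r ∧
            (D.rootSubgroup F r).map (MulAut.conj n').toMonoidHom ≤ D.negUnipotent F ∧ (x : Matrix D.Idx D.Idx F) = D.x F r t} →
      b * n * u = b' * n' * u' → n⁻¹ * n' ∈ D.diagonalSubgroup F ∧ (n = n' → b = b' ∧ u = u')) := by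
  obtain ⟨Φ⟩ := CfsgLib.Chev.exists_chev hD
  have key : ∀ (n : GL D.Idx F) (π : Equiv.Perm (Fin D.nroots)), Φ.Mono n π →
      Subgroup.closure {x : GL D.Idx F | ∃ (r : ℕ) (t : F), D.IsPosRoot r ∧
        (D.rootSubgroup F r).map (MulAut.conj n).toMonoidHom ≤ D.negUnipotent F ∧
        (x : Matrix D.Idx D.Idx F) = D.x F r t} = Φ.Uneg F π := by
    intro n π hm
    refine congrArg Subgroup.closure (Set.ext fun x => ?_)
    constructor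
    · rintro ⟨r, t, hr, hle, hx⟩
      refine ⟨⟨r, hr.1⟩, t, ⟨(Φ.posRoot_iff ⟨r, hr.1⟩).mp hr, fun hpos => ?_⟩,
        ((Φ.toAlg.eq_xg_iff (r := ⟨r, hr.1⟩)).mp hx).symm⟩
      obtain ⟨a, ha, ha', -⟩ := hm.1 ⟨r, hr.1⟩
      have hmem : n * Φ.toAlg.xg ⟨r, hr.1⟩ (1 : F) * n⁻¹ ∈ D.negUnipotent F :=
        hle ⟨_, (Φ.toAlg.mem_rootSubgroup (r := ⟨r, hr.1⟩)).mpr ⟨1, rfl⟩, rfl⟩
      rw [ha', mul_one] at hmem
      have h2 : Φ.toAlg.xg (π ⟨r, hr.1⟩) a ∈ D.borelSubgroup F ⊓ D.negUnipotent F :=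
        ⟨CfsgLib.Chev.Chev.U_le_B (Φ.xg_mem_U hpos a), hmem⟩
      rw [Φ.B_inf_V, Subgroup.mem_bot, Φ.toAlg.xg_eq_one_iff] at h2
      exact ha h2
    · rintro ⟨r, t, ⟨hr, hneg⟩, rfl⟩
      refine ⟨r.val, t, (Φ.posRoot_iff r).mpr hr, ?_, (Φ.toAlg.x_val r t).symm⟩
      rintro _ ⟨y, hy, rfl⟩
      obtain ⟨s, rfl⟩ := Φ.toAlg.mem_rootSubgroup.mp hy
      obtain ⟨a, -, ha', -⟩ := hm.1 r
      show n * Φ.toAlg.xg r s * n⁻¹ ∈ D.negUnipotent F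
      rw [ha']
      exact Φ.xg_mem_V hneg _
  refine ⟨fun g hg => ?_, fun b b' n n' u u' hb hb' hn hn' hu hu' h => ?_⟩
  · obtain ⟨b, hb, n, hn, π, -, hm, u, hu, e⟩ := Φ.exists_normal_form hg
    exact ⟨b, hb, n, hn, u, (key n π hm).symm ▸ hu, e⟩
  · obtain ⟨π, -, hm, -⟩ := Φ.exists_mono_W hn
    obtain ⟨π', -, hm', -⟩ := Φ.exists_mono_W hn'
    rw [key n π hm] at hu
    rw [key n' π' hm'] at hu'
    refine ⟨Φ.bnb_unique hb hb' (CfsgLib.Chev.Chev.U_le_B (Φ.Uneg_le_U hu))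
      (CfsgLib.Chev.Chev.U_le_B (Φ.Uneg_le_U hu')) hn hn' h, ?_⟩
    rintro rfl
    obtain rfl := CfsgLib.Chev.Chev.Mono.unique Φ hm hm'
    exact Φ.normal_form_unique hm hb hb' hu hu' h

end Cfsg.Agent.S1100
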