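import Cfsg.Statements.S1147
import Cfsg.Agent.Lib.SuzukiZT.Square
import Cfsg.Agent.Lib.SuzukiTwo.Weight

set_option autoImplicit false
open Cfsg

namespace Cfsg.Agent.S1147

/-- Let a finite simple Zassenhaus group `G` on `Ω` have a normal subgroup `U` of `G_a`, regular on `Ω` minus `a`, which is a non-abelian 2-group. Then `|Ω| = 2^(2n) + 1` with `n` odd, `n > 1`, a two-point stabiliser `G_a ⊓ G_b` is cyclic of order `2^n - 1`, and `U` is isomorphic to the type-A group over a field with `2^n` elements for some field automorphism `φ`. -/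
theorem result {G Ω : Type*} [Group G] [Finite G] [MulAction G Ω] [Finite Ω]
    (hZ : Cfsg.IsZassenhausGroup G Ω) [IsSimpleGroup G] {a b : Ω} (hab : a ≠ b)
    (U : Subgroup G) (hUle : U ≤ MulAction.stabilizer G a)
    (hUn : ∀ h ∈ MulAction.stabilizer G a, ∀ u ∈ U, h * u * h⁻¹ ∈ U)
    (hreg : ∀ c d : Ω, c ≠ a → d ≠ a → ∃! u : U, (u : G) • c = d)
    (hU2 : IsPGroup 2 U) (hUna : ∃ u ∈ U, ∃ v ∈ U, u * v ≠ v * u) :
    ∃ n : ℕ, Odd n ∧ 1 < n ∧ Nat.card Ω = 2 ^ (2 * n) + 1 ∧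
      IsCyclic ↥(MulAction.stabilizer G a ⊓ MulAction.stabilizer G b) ∧
      Nat.card ↥(MulAction.stabilizer G a ⊓ MulAction.stabilizer G b) = 2 ^ n - 1 ∧
      ∃ (F : Type) (_ : Field F) (_ : Fintype F) (φ : F ≃+* F), Fintype.card F = 2 ^ n ∧
        Nonempty (U ≃* Cfsg.suzukiTypeA F (φ : F →+* F)) := by
  classical
  letI := Fintype.ofFinite G
  letI := Fintype.ofFinite Ω
  have hsemi : ∀ u ∈ U, u ≠ 1 → ∀ c : Ω, u • c = c → c = a := fun u hu hu1 c e => by
    by_contra hc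
    exact hu1 (congrArg Subtype.val ((hreg c c hc hc).unique (y₁ := ⟨u, hu⟩) (y₂ := 1) e (one_smul G c)))
  let P : CfsgLib.ZassenhausDegree.Datum G Ω :=
    { isZ := hZ, a := a, b := b, hab := hab, H := U, le := hUle
      card := by
        rw [← Nat.card_eq_fintype_card]
        exact (CfsgLib.CAEven.card_omega a U hUle hreg hab.symm).symm
      fix := hsemi }
  obtain ⟨u, hu, v, hv, huv⟩ := hUna
  let S : CfsgLib.SuzukiZT.Hyp G Ω := ⟨P, inferInstance, hU2, u, hu, v, hv, huv⟩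
  obtain ⟨n, hn, hn1, hq⟩ := S.q_odd_pow
  have hh := S.h_eq_sq
  obtain ⟨F, iF, iFt, φ, hF, -, -, ⟨iso⟩⟩ :=
    CfsgLib.SuzukiTwo.exists_typeA S.isSuzukiTwo (by rw [S.P.card_K]; exact hh)
  refine ⟨n, hn, hn1, ?_, (Cfsg.Agent.S0345.result hZ hab).1, ?_, F, iF, iFt, φ, hF.trans hq, ?_⟩
  · rw [CfsgLib.CAEven.card_omega a U hUle hreg hab.symm, show Nat.card U = S.h from rfl, hh, hq, ← pow_mul,
      mul_comm n 2]
  · show S.e = 2 ^ n - 1
    have := S.q_eq
    omega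
  · exact ⟨(Subgroup.subgroupOfEquivOfLe hUle).symm.trans iso⟩


end Cfsg.Agent.S1147
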