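import Cfsg.Statements.S1159
import Cfsg.Agent.Lib.ReeTori.Instance
import Cfsg.Agent.Lib.ReeTori.Spectrum

set_option autoImplicit false
open Cfsg

namespace Cfsg.Agent.S1159

/-- In the small Ree group ²G₂(q), q = 3^(2m+1) with m ≥ 1, realised as G¹ inside the Chevalley group G₂ over the field with q elements (θ the 3^m-th power map), with `r = 3^(m+1)`: a natural number is the order of an element of `G¹` iff it divides one of `6`, `9`, `q - 1`, `(q + 1)/2`, `q - r + 1`, `q + r + 1`. -/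
theorem result {K : Type*} [Field K] [Fintype K] {m : ℕ} (hm : 1 ≤ m) (hK : Fintype.card K = 3 ^ (2 * m + 1)) (d : ℕ) :
    (∃ g : ↥(Cfsg.Lie.twistedG2 K (3 ^ m)), orderOf g = d) ↔
      (d ∣ 6 ∨ d ∣ 9 ∨ d ∣ 3 ^ (2 * m + 1) - 1 ∨ d ∣ (3 ^ (2 * m + 1) + 1) / 2 ∨
        d ∣ 3 ^ (2 * m + 1) - 3 ^ (m + 1) + 1 ∨ d ∣ 3 ^ (2 * m + 1) + 3 ^ (m + 1) + 1) := by
  haveI := CfsgLib.Chev.T2G2.charP_three hK
  haveI := Fact.mk Nat.prime_three
  haveI : Finite ↥(Cfsg.Lie.twistedG2 K (3 ^ m)) := Subgroup.instFiniteSubtypeMem _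
  classical
  obtain ⟨R⟩ := CfsgLib.ReeTori.exists_ree hm hK
  rw [← hK]
  exact CfsgLib.ReeTori.orders R d


end Cfsg.Agent.S1159
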