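import Cfsg.Statements.S1167
import Cfsg.Agent.Lib.Perm.ZassenhausAbelian

set_option autoImplicit false
open Cfsg

namespace Cfsg.Agent.S1167

/-- Let `G` be a finite simple Zassenhaus group on `Ω`, `U` a normal subgroup of `G_a` regular on `Ω` minus `a` which is an abelian 2-group, and `v` an involution with `v • a ≠ a`. Then there is a unique `u₀ ∈ U`, `u₀ ≠ 1`, with `v u₀ v = u₀ v u₀`. -/
theorem result {G Ω : Type*} [Group G] [Finite G] [MulAction G Ω] [Finite Ω]
    (hZ : Cfsg.IsZassenhausGroup G Ω) [IsSimpleGroup G] {a : Ω}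
    (U : Subgroup G) (hUle : U ≤ MulAction.stabilizer G a)
    (hUn : ∀ h ∈ MulAction.stabilizer G a, ∀ u ∈ U, h * u * h⁻¹ ∈ U)
    (hreg : ∀ c d : Ω, c ≠ a → d ≠ a → ∃! u : U, (u : G) • c = d)
    (hU2 : IsPGroup 2 U) (hUab : ∀ u ∈ U, ∀ u' ∈ U, u * u' = u' * u)
    (v : G) (hv1 : v ≠ 1) (hv2 : v * v = 1) (hva : v • a ≠ a) :
    ∃! u₀ : G, u₀ ∈ U ∧ u₀ ≠ 1 ∧ v * u₀ * v = u₀ * v * u₀ := by
  classical
  haveI := Fintype.ofFinite Ω
  haveI := hZ.1
  haveI := Fact.mk Nat.prime_two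
  have hUn' : (U.subgroupOf (MulAction.stabilizer G a)).Normal :=
    ⟨fun u hu h => hUn h h.2 u hu⟩
  have hUa : IsMulCommutative U := ⟨⟨fun u v => Subtype.ext (hUab u u.2 v v.2)⟩⟩
  set b := v • a with hb
  have hba : b ≠ a := hva
  have hvb : v • b = a := by rw [hb, smul_smul, hv2, one_smul]
  have hUinj : ∀ u ∈ U, ∀ u' ∈ U, ∀ c : Ω, c ≠ a → u • c = u' • c → u = u' := by
    intro u hu u' hu' c hc e
    have hne : u • c ≠ a := fun h => hc (MulAction.injective u (h.trans (MulAction.mem_stabilizer_iff.mp (hUle hu)).symm))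
    obtain ⟨w, -, hw⟩ := hreg c (u • c) hc hne
    exact congrArg Subtype.val ((hw ⟨u, hu⟩ rfl).trans (hw ⟨u', hu'⟩ e.symm).symm)
  have hcardU : Nat.card U + 1 = Fintype.card Ω := by
    have hbij : Function.Bijective (fun u : U => (⟨(u : G) • b, fun h => hba (MulAction.injective (u : G)
        (h.trans (MulAction.mem_stabilizer_iff.mp (hUle u.2)).symm))⟩ : {c : Ω // c ≠ a})) := by
      refine ⟨fun u u' e => Subtype.ext (hUinj u u.2 u' u'.2 b hba (congrArg Subtype.val e)), fun c => ?_⟩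
      obtain ⟨u, hu, -⟩ := hreg b c.1 hba c.2
      exact ⟨u, Subtype.ext hu⟩
    rw [Nat.card_congr (Equiv.ofBijective _ hbij), Nat.card_eq_fintype_card, Fintype.card_subtype_compl, Fintype.card_subtype_eq]
    have := Fintype.card_pos_iff.mpr ⟨a⟩
    omega
  have hge : 3 ≤ Fintype.card Ω := CfsgLib.Zassenhaus.card_ge_three hZ
  haveI : Nontrivial U := Finite.one_lt_card_iff_nontrivial.mp (by omega)
  obtain ⟨k, hk0, hk⟩ := hU2.nontrivial_iff_card.mp inferInstance
  have heven : 2 ∣ Nat.card U := by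
    rw [hk]; exact dvd_pow_self 2 (by omega)
  obtain ⟨y, hay, hd, h3t, -⟩ : ∃ y : Ω, a ≠ y ∧ Nat.card ↥(MulAction.stabilizer G a ⊓ MulAction.stabilizer G y) = Fintype.card Ω - 2 ∧
      (MulAction.IsMultiplyPretransitive G Ω 3 ∧ ∀ t : Fin 3 ↪ Ω, MulAction.stabilizer G t = ⊥) := by
    rcases CfsgLib.ZassenhausAbelian.cases hZ a U hUle hUn' hUa hreg with h | ⟨y, -, h, -⟩
    · exact h
    · exfalso
      obtain ⟨j, hj⟩ := heven
      omega
  -- the subgroup has exponent two
  obtain ⟨i, hi⟩ := exists_prime_orderOf_dvd_card' (G := U) 2 heven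
  have hi2 : (i : G) * i = 1 := by
    have h := pow_orderOf_eq_one i
    rw [hi, pow_two] at h
    exact congrArg Subtype.val h
  have hi1 : (i : G) ≠ 1 := fun e => by
    rw [show i = 1 from Subtype.ext e, orderOf_one] at hi
    omega
  have hexp : ∀ u ∈ U, u * u = 1 := by
    intro u hu
    by_cases hu1 : u = 1
    · rw [hu1, one_mul]
    have hne1 : ∀ w ∈ U, w ≠ 1 → w • y ≠ a ∧ w • y ≠ y := fun w hw hw1 =>
      ⟨fun h => hay (MulAction.injective w ((MulAction.mem_stabilizer_iff.mp (hUle hw)).trans h.symm)),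
        fun h => hw1 (hUinj w hw 1 (one_mem _) y hay.symm (h.trans (one_smul G y).symm))⟩
    obtain ⟨h1, h2⟩ := hne1 u hu hu1
    obtain ⟨h1', h2'⟩ := hne1 i i.2 hi1
    let e1 : Fin 3 ↪ Ω := ⟨![a, y, (i : G) • y], fun p q h => by
      fin_cases p <;> fin_cases q <;> first | rfl | exact (hay h).elim | exact (hay h.symm).elim | exact (h1' h).elim | exact (h1' h.symm).elim | exact (h2' h).elim | exact (h2' h.symm).elim⟩
    let e2 : Fin 3 ↪ Ω := ⟨![a, y, u • y], fun p q h => by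
      fin_cases p <;> fin_cases q <;> first | rfl | exact (hay h).elim | exact (hay h.symm).elim | exact (h1 h).elim | exact (h1 h.symm).elim | exact (h2 h).elim | exact (h2 h.symm).elim⟩
    obtain ⟨g, hg⟩ := MulAction.exists_smul_eq G e1 e2
    have hga : g • a = a := congrArg (fun e : Fin 3 ↪ Ω => e 0) hg
    have hgy : g • y = y := congrArg (fun e : Fin 3 ↪ Ω => e 1) hg
    have hgi : g • (i : G) • y = u • y := congrArg (fun e : Fin 3 ↪ Ω => e 2) hg
    have hu' : g * i * g⁻¹ = u := by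
      refine hUinj _ (hUn g hga i i.2) u hu y hay.symm ?_
      rw [mul_smul, mul_smul, inv_smul_eq_iff.mpr hgy.symm, hgi]
    rw [← hu', show g * i * g⁻¹ * (g * i * g⁻¹) = g * (i * i) * g⁻¹ by group, hi2, mul_one, mul_inv_cancel]
  -- the involution fixes exactly one point
  have hinvp : (MulAction.toPerm v : Equiv.Perm Ω) ^ 2 ^ 1 = 1 := by
    ext x; simp [pow_two, smul_smul, hv2]
  have hodd : ¬ 2 ∣ Fintype.card Ω := by omega
  obtain ⟨c, hc⟩ := Equiv.Perm.exists_fixed_point_of_prime (p := 2) (n := 1) hodd hinvp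
  have hvc : v • c = c := hc
  have huniq : ∀ c' : Ω, v • c' = c' → c' = c := by
    intro c' hc'
    by_contra hne
    let w : Equiv.Perm {x : Ω // x ≠ c} := (MulAction.toPerm v : Equiv.Perm Ω).subtypePerm fun x =>
      ⟨fun h e => h (by simpa [e] using hvc), fun h e => h (MulAction.injective v (e.trans hvc.symm))⟩
    have hw : w ^ 2 ^ 1 = 1 := by
      ext x; simp [w, pow_two, smul_smul, hv2]
    obtain ⟨d, hd, hdne⟩ := Equiv.Perm.exists_fixed_point_of_prime' (p := 2) (n := 1) (α := {x : Ω // x ≠ c})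
      (by rw [Fintype.card_subtype_compl, Fintype.card_subtype_eq]; omega) hw (a := ⟨c', hne⟩) (Subtype.ext hc')
    have hd' : v • d.1 = d.1 := congrArg Subtype.val hd
    exact hv1 (hZ.2.2.1 v c c' d.1 (Ne.symm hne) (fun e => hdne (Subtype.ext e.symm)) (Ne.symm d.2) hvc hc' hd')
  have hca : c ≠ a := fun e => hva (by rw [hb, ← e]; exact hvc)
  have hcb : c ≠ b := fun e => hba (by rw [← hvb, ← e, hvc])
  obtain ⟨⟨u, hu⟩, hub', -⟩ := hreg b c hba hca
  have hub : u • b = c := hub'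
  have hu1 : u ≠ 1 := fun e => hcb (by rw [← hub, e, one_smul])
  have hua : u • a = a := hUle hu
  have huc : u • c = b := by rw [← hub, smul_smul, hexp u hu, one_smul]
  have hfix : (v * u) * (v * u) * (v * u) = 1 := by
    refine hZ.2.2.1 _ a b c (Ne.symm hba) (Ne.symm hcb) (Ne.symm hca) ?_ ?_ ?_
    · simp only [mul_smul, hua, ← hb, hub, hvc, huc, hvb]
    · simp only [mul_smul, hua, ← hb, hub, hvc, huc, hvb]
    · simp only [mul_smul, hua, ← hb, hub, hvc, huc, hvb]
  have huu := hexp u hu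
  have heq : v * u * v = u * v * u := by
    calc v * u * v = (v * u * (v * u) * (v * u)) * (u⁻¹ * v⁻¹ * u⁻¹) := by group
      _ = u * v * u := by rw [hfix, one_mul, inv_eq_of_mul_eq_one_right huu, inv_eq_of_mul_eq_one_right hv2]
  refine ⟨u, ⟨hu, hu1, heq⟩, fun u' hu' => ?_⟩
  obtain ⟨h1, -, h3⟩ := hu'
  have hu'a : u' • a = a := hUle h1
  have e : v • u' • b = u' • b := by
    have h := congrArg (fun g : G => g • a) h3
    simp only [mul_smul, hu'a, ← hb] at h
    exact h
  exact hUinj u' h1 u hu b hba ((huniq _ e).trans hub.symm)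

end Cfsg.Agent.S1167
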