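import Cfsg.Statements.S1176
import Mathlib.GroupTheory.Commutator.Basic
-- import your own Cfsg.Agent.* helpers here

set_option autoImplicit false
open Cfsg

namespace Cfsg.Agent.S1176

open scoped commutatorElement

/-- Let x₀ be an involution of the finite group G and D its conjugacy class. Assume (a) for each x ∈ D the subgroup W(x) generated by the members of D commuting with x is a 2-group of nilpotency class at most 2, and (b) the product of two distinct commuting members of D again lies in D. Then for all x, y ∈ D, if xy has even order greater than 2, its order is 4. -/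
theorem result {G : Type*} [Group G] [Finite G] (x₀ : G) (hx₀ : orderOf x₀ = 2) (ha : ∀ x : G, IsConj x₀ x → IsPGroup 2 ↥(Subgroup.closure {y : G | IsConj x₀ y ∧ Commute y x}) ∧ ⁅⁅Subgroup.closure {y : G | IsConj x₀ y ∧ Commute y x}, Subgroup.closure {y : G | IsConj x₀ y ∧ Commute y x}⁆, Subgroup.closure {y : G | IsConj x₀ y ∧ Commute y x}⁆ = ⊥) (hb : ∀ x y : G, IsConj x₀ x → IsConj x₀ y → x ≠ y → Commute x y → IsConj x₀ (x * y)) (x y : G) (hx : IsConj x₀ x) (hy : IsConj x₀ y) (heven : Even (orderOf (x * y))) (hgt : 2 < orderOf (x * y)) : orderOf (x * y) = 4 := by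
  classical
  have inv2 : ∀ a, IsConj x₀ a → a * a = 1 := by
    intro a ha'
    obtain ⟨c, rfl⟩ := isConj_iff.mp ha'
    have h : x₀ * x₀ = 1 := by
      have := pow_orderOf_eq_one x₀
      rwa [hx₀, pow_two] at this
    calc c * x₀ * c⁻¹ * (c * x₀ * c⁻¹) = c * (x₀ * x₀) * c⁻¹ := by group
      _ = 1 := by rw [h]; group
  have hxx := inv2 x hx
  have hyy := inv2 y hy
  have hxi : x⁻¹ = x := inv_eq_of_mul_eq_one_right hxx
  have hyi : y⁻¹ = y := inv_eq_of_mul_eq_one_right hyy
  generalize hd : x * y = d at heven hgt ⊢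
  have hyd : y = x * d := by rw [← hd, ← mul_assoc, hxx, one_mul]
  have hxdx : x * d * x⁻¹ = d⁻¹ := by
    rw [← hd, mul_inv_rev, hxi, hyi]
    calc x * (x * y) * x = (x * x) * (y * x) := by simp only [mul_assoc]
      _ = y * x := by rw [hxx, one_mul]
  have hxp : ∀ m : ℕ, d ^ m * x = x * (d ^ m)⁻¹ := by
    intro m
    have h1 : x * d ^ m * x⁻¹ = (d⁻¹) ^ m := by rw [← hxdx, conj_pow]
    rw [inv_pow] at h1
    calc d ^ m * x = x * (x * d ^ m * x⁻¹) := by rw [hxi]; simp only [← mul_assoc, hxx, one_mul]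
      _ = x * (d ^ m)⁻¹ := by rw [h1]
  obtain ⟨k, hk⟩ := heven
  set z := d ^ k with hzdef
  have hzne : z ≠ 1 := by
    intro h
    have := orderOf_dvd_of_pow_eq_one h
    have := Nat.le_of_dvd (by omega) this
    omega
  have hzz : z * z = 1 := by rw [hzdef, ← pow_add, ← hk, pow_orderOf_eq_one]
  have hzi : z⁻¹ = z := inv_eq_of_mul_eq_one_right hzz
  have hzx : Commute z x := by
    show z * x = x * z
    rw [hzdef, hxp, ← hzdef, hzi]
  have hzy : Commute z y := by
    rw [hyd]
    exact hzx.mul_right ((Commute.refl d).pow_left k)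
  have hconj : ∀ j : ℕ, (d ^ j)⁻¹ * x * d ^ j = x * d ^ (2 * j) := by
    intro j
    rw [two_mul, pow_add, ← mul_assoc x]
    congr 1
    calc (d ^ j)⁻¹ * x = (d ^ j)⁻¹ * (d ^ j * x) * d ^ j := by rw [hxp j]; group
      _ = x * d ^ j := by group
  have hxzD : IsConj x₀ (x * z) := by
    rcases Nat.even_or_odd k with ⟨j, hj⟩ | ⟨j, hj⟩
    · refine hx.trans (isConj_iff.mpr ⟨(d ^ j)⁻¹, ?_⟩)
      rw [inv_inv, hconj, hzdef, hj, two_mul]
    · refine hy.trans (isConj_iff.mpr ⟨(d ^ j)⁻¹, ?_⟩)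
      rw [inv_inv, hyd, hzdef, hj, pow_succ, ← mul_assoc x, ← hconj j]
      have h : Commute d (d ^ j) := (Commute.refl d).pow_right j
      simp only [mul_assoc]
      rw [h.eq]
  have hxne : x ≠ x * z := by simpa using hzne
  have hcomm : Commute x (x * z) := (Commute.refl x).mul_right hzx.symm
  have hzD : IsConj x₀ z := by
    have := hb x (x * z) hx hxzD hxne hcomm
    rwa [← mul_assoc, hxx, one_mul] at this
  obtain ⟨-, hW⟩ := ha z hzD
  have hxW : x ∈ Subgroup.closure {a : G | IsConj x₀ a ∧ Commute a z} :=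
    Subgroup.subset_closure ⟨hx, hzx.symm⟩
  have hyW : y ∈ Subgroup.closure {a : G | IsConj x₀ a ∧ Commute a z} :=
    Subgroup.subset_closure ⟨hy, hzy.symm⟩
  have h := Subgroup.commutator_mem_commutator (Subgroup.commutator_mem_commutator hxW hyW) hxW
  rw [hW, Subgroup.mem_bot, commutatorElement_eq_one_iff_commute] at h
  have e : ⁅x, y⁆ = d ^ 2 := by
    rw [commutatorElement_def, hxi, hyi, ← hd, pow_two]; simp only [mul_assoc]
  rw [e] at h
  have h2 : x * (d ^ 2)⁻¹ = x * d ^ 2 := by rw [← hxp 2, h.eq]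
  have h3 : (d ^ 2)⁻¹ = d ^ 2 := mul_left_cancel h2
  have h4 : d ^ (2 ^ 2) = 1 := by
    show d ^ 4 = 1
    calc d ^ 4 = d ^ 2 * d ^ 2 := pow_add d 2 2
      _ = (d ^ 2)⁻¹ * d ^ 2 := by rw [h3]
      _ = 1 := inv_mul_cancel _
  obtain ⟨i, hi, hio⟩ := (Nat.dvd_prime_pow Nat.prime_two).mp (orderOf_dvd_of_pow_eq_one h4)
  rw [hio] at hgt ⊢
  interval_cases i <;> omega

end Cfsg.Agent.S1176
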