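import Cfsg.Statements.S1177
import Mathlib.GroupTheory.PGroup
import Mathlib.Tactic.Group
-- import your own Cfsg.Agent.* helpers here

set_option autoImplicit false
open Cfsg

namespace Cfsg.Agent.S1177

/-- Let A be a nontrivial elementary abelian 2-subgroup of a finite group G which is a T.I. set (each conjugate of A meets A trivially or equals A) and which does not commute elementwise with any conjugate of A other than A itself. Then for every a ∈ A, a ≠ 1, every conjugate of A contained in C_G(a) is equal to A (A is weakly closed in C_G(a)). -/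
theorem result {G : Type*} [Group G] [Finite G] (A : Subgroup G) (hA : Cfsg.IsElementaryAbelian 2 A) (hA1 : A ≠ ⊥) (hTI : ∀ g : G, A.map (MulAut.conj g).toMonoidHom ⊓ A = ⊥ ∨ A.map (MulAut.conj g).toMonoidHom = A) (hb : ∀ g : G, (∀ a ∈ A, ∀ b ∈ A.map (MulAut.conj g).toMonoidHom, a * b = b * a) → A.map (MulAut.conj g).toMonoidHom = A) (a : G) (ha : a ∈ A) (ha1 : a ≠ 1) (g : G) (hg : A.map (MulAut.conj g).toMonoidHom ≤ Subgroup.centralizer ({a} : Set G)) : A.map (MulAut.conj g).toMonoidHom = A := by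
  set B := A.map (MulAut.conj g).toMonoidHom with hB
  have hmul : ∀ (h k : G) (K : Subgroup G), (K.map (MulAut.conj k).toMonoidHom).map (MulAut.conj h).toMonoidHom
      = K.map (MulAut.conj (h * k)).toMonoidHom := by
    intro h k K
    rw [Subgroup.map_map]
    congr 1
    ext x
    simp [mul_assoc]
  -- `B` normalizes `A`
  have hBA : ∀ b ∈ B, A.map (MulAut.conj b).toMonoidHom = A := by
    intro b hbB
    refine (hTI b).resolve_left fun h => ha1 ?_
    have hc := Subgroup.mem_centralizer_singleton_iff.mp (hg hbB)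
    have h1 : a ∈ A.map (MulAut.conj b).toMonoidHom ⊓ A :=
      ⟨⟨a, ha, by show b * a * b⁻¹ = a; rw [hc, mul_inv_cancel_right]⟩, ha⟩
    rw [h] at h1
    exact Subgroup.mem_bot.mp h1
  by_contra hne
  have hint : B ⊓ A = ⊥ := (hTI g).resolve_right hne
  haveI := hA.1
  have hcommA : ∀ x ∈ A, ∀ y ∈ A, x * y = y * x := fun x hx y hy => setLike_mul_comm hx hy
  -- if `x ∈ A` commutes with some nontrivial element of `B` it centralizes `B`
  have hA0 : ∀ x ∈ A, ∀ b ∈ B, b ≠ 1 → x * b = b * x → ∀ b' ∈ B, x * b' = b' * x := by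
    intro x hx b hb hb1 hxb b' hb'
    have hconj : B.map (MulAut.conj x).toMonoidHom = B := by
      rcases hTI (g⁻¹ * x * g) with h | h
      · exfalso
        apply hb1
        obtain ⟨b₀, hb₀, rfl⟩ := hb
        have e : g * b₀ * g⁻¹ = (MulAut.conj g).toMonoidHom b₀ := rfl
        rw [← e] at hxb ⊢
        have h1 : b₀ ∈ A.map (MulAut.conj (g⁻¹ * x * g)).toMonoidHom ⊓ A := by
          refine ⟨⟨b₀, hb₀, ?_⟩, hb₀⟩
          show g⁻¹ * x * g * b₀ * (g⁻¹ * x * g)⁻¹ = b₀
          calc g⁻¹ * x * g * b₀ * (g⁻¹ * x * g)⁻¹ = g⁻¹ * (x * (g * b₀ * g⁻¹)) * x⁻¹ * g := by group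
            _ = b₀ := by rw [hxb]; group
        rw [h] at h1
        rw [Subgroup.mem_bot.mp h1]
        group
      · rw [hB, hmul]
        conv_rhs => rw [← h, hmul]
        congr 3
        group
    have h1 : x * b' * x⁻¹ ∈ B := hconj ▸ ⟨b', hb', rfl⟩
    have h2 : x * b' * x⁻¹ * b'⁻¹ ∈ B ⊓ A := by
      refine Subgroup.mem_inf.mpr ⟨mul_mem h1 (inv_mem hb'), ?_⟩
      have h3 : b' * x⁻¹ * b'⁻¹ ∈ A := (hBA b' hb') ▸ ⟨x⁻¹, inv_mem hx, rfl⟩
      simpa [mul_assoc] using mul_mem hx h3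
    rw [hint, Subgroup.mem_bot, mul_inv_eq_one] at h2
    exact mul_inv_eq_iff_eq_mul.mp h2
  have hBel : ∀ b ∈ B, b * b = 1 := by
    rintro _ ⟨c, hc, rfl⟩
    rw [← map_mul, ← sq]
    rw [hA.2 c hc, map_one]
  -- all of `A` centralizes `B`
  have hall : ∀ x ∈ A, ∀ b ∈ B, x * b = b * x := by
    by_contra hcon
    push Not at hcon
    obtain ⟨x, hx, b₀, hb₀, hxb⟩ := hcon
    let A0 : Subgroup G := A ⊓ Subgroup.centralizer (B : Set G)
    have hmem : ∀ b : B, x * b * x⁻¹ * (b : G)⁻¹ ∈ A0 := by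
      rintro ⟨b, hb⟩
      have hc : x * b * x⁻¹ * b⁻¹ ∈ A := by
        have h3 : b * x⁻¹ * b⁻¹ ∈ A := (hBA b hb) ▸ ⟨x⁻¹, inv_mem hx, rfl⟩
        simpa [mul_assoc] using mul_mem hx h3
      refine ⟨hc, Subgroup.mem_centralizer_iff.mpr fun b' hb' => ?_⟩
      by_cases hb1 : b = 1
      · subst hb1
        simp
      refine ((hA0 _ hc b hb hb1 ?_) b' hb').symm
      have hb2 := hBel b hb
      have hbi : b⁻¹ = b := inv_eq_of_mul_eq_one_right hb2
      have hxi : x⁻¹ = x := inv_eq_of_mul_eq_one_right (by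
        rw [← sq]
        exact hA.2 x hx)
      have hxm : b * x * b ∈ A := by
        have h5 : b * x * b⁻¹ ∈ A := (hBA b hb) ▸ ⟨x, hx, rfl⟩
        rwa [hbi] at h5
      rw [hbi, hxi]
      calc x * b * x * b * b = x * b * x * (b * b) := by group
        _ = (b * b) * x * b * x := by rw [hb2]; group
        _ = b * ((b * x * b) * x) := by group
        _ = b * (x * b * x * b) := by rw [hcommA _ hxm _ hx]; group
    have hinj : Function.Injective (fun b : B => (⟨_, hmem b⟩ : A0)) := by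
      intro b₁ b₂ he
      replace he : x * b₁ * x⁻¹ * (b₁ : G)⁻¹ = x * b₂ * x⁻¹ * (b₂ : G)⁻¹ := congrArg Subtype.val he
      by_contra hne'
      have hb12 : ((b₁ : G) * (b₂ : G)⁻¹) ≠ 1 := fun e => hne' (Subtype.ext (mul_inv_eq_one.mp e))
      have hm : (b₁ : G) * (b₂ : G)⁻¹ ∈ B := mul_mem b₁.2 (inv_mem b₂.2)
      refine hxb (hA0 x hx _ hm hb12 ?_ b₀ hb₀)
      have hc := Subgroup.mem_centralizer_iff.mp (hmem b₁).2 _ hm
      apply mul_inv_eq_iff_eq_mul.mp
      calc x * ((b₁ : G) * (b₂ : G)⁻¹) * x⁻¹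
          = (x * b₁ * x⁻¹ * (b₁ : G)⁻¹) * ((b₁ : G) * (b₂ : G)⁻¹) * (x * b₂ * x⁻¹ * (b₂ : G)⁻¹)⁻¹ := by group
        _ = (b₁ : G) * (b₂ : G)⁻¹ := by rw [← he, ← hc, mul_inv_cancel_right]
    have h1 : Nat.card A0 < Nat.card A := by
      refine lt_of_le_of_ne (Subgroup.card_le_of_le inf_le_left) fun e => hxb ?_
      have h2 : A0 = A := Subgroup.eq_of_le_of_card_ge inf_le_left e.ge
      exact (Subgroup.mem_centralizer_iff.mp (h2.ge hx).2 b₀ hb₀).symm
    have h2 : Nat.card B = Nat.card A := Nat.card_congr (Subgroup.equivMapOfInjective A _ (MulEquiv.injective (MulAut.conj g))).toEquiv.symm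
    have h3 := Nat.card_le_card_of_injective _ hinj
    omega
  exact hne (hb g hall)

end Cfsg.Agent.S1177
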