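import Cfsg.Statements.S1178
import Mathlib.GroupTheory.PGroup
import Mathlib.GroupTheory.Sylow
-- import your own Cfsg.Agent.* helpers here

set_option autoImplicit false
open Cfsg

namespace Cfsg.Agent.S1178

/-- Let A be a subgroup of a Sylow 2-subgroup S of the finite group G which is weakly closed in S. If a conjugate g A g⁻¹ commutes elementwise with A, then g A g⁻¹ = A. -/
theorem result {G : Type*} [Group G] [Finite G] (S : Sylow 2 G) (A : Subgroup G) (hW : Cfsg.IsWeaklyClosed A (S : Subgroup G)) (g : G) (hc : ∀ a ∈ A, ∀ b ∈ A.map (MulAut.conj g).toMonoidHom, a * b = b * a) : A.map (MulAut.conj g).toMonoidHom = A := by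
  have hA : IsPGroup 2 A := S.2.to_le hW.1
  set B := A.map (MulAut.conj g).toMonoidHom
  have hle : A ≤ Subgroup.normalizer (B : Set G) := by
    refine le_trans ?_ (Subgroup.centralizer_le_normalizer _)
    exact fun a ha => Subgroup.mem_centralizer_iff.mpr fun b hb => (hc a ha b hb).symm
  obtain ⟨R, hR⟩ := (hA.to_sup_of_normal_right' (hA.map (MulAut.conj g).toMonoidHom) hle).exists_le_sylow
  obtain ⟨k, hk⟩ := MulAction.exists_smul_eq G R S
  have hmove : ∀ x ∈ (R : Subgroup G), k * x * k⁻¹ ∈ (S : Subgroup G) := fun x hx => by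
    rw [← hk, Sylow.coe_subgroup_smul, Subgroup.mem_pointwise_smul_iff_inv_smul_mem]
    simpa [MulAut.conj_symm_apply, mul_assoc] using hx
  have h1 : A.map (MulAut.conj k).toMonoidHom = A := hW.2 k (by
    rintro _ ⟨a, ha, rfl⟩
    exact hmove a (hR (Subgroup.mem_sup_left ha)))
  have h2 : A.map (MulAut.conj (k * g)).toMonoidHom = A := hW.2 _ (by
    rintro _ ⟨a, ha, rfl⟩
    have := hmove _ (hR (Subgroup.mem_sup_right ⟨a, ha, rfl⟩ : g * a * g⁻¹ ∈ A ⊔ B))
    show k * g * a * (k * g)⁻¹ ∈ (S : Subgroup G)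
    simpa [mul_assoc] using this)
  refine Subgroup.map_injective (f := (MulAut.conj k).toMonoidHom) (MulEquiv.injective (MulAut.conj k)) ?_
  calc B.map (MulAut.conj k).toMonoidHom = A.map (MulAut.conj (k * g)).toMonoidHom := by
        rw [Subgroup.map_map]
        congr 1
        ext x
        simp [mul_assoc]
    _ = A.map (MulAut.conj k).toMonoidHom := h2.trans h1.symm

end Cfsg.Agent.S1178
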