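import Cfsg.Statements.S1180
import Cfsg.Agent.Lib.Involutions
-- import your own Cfsg.Agent.* helpers here

set_option autoImplicit false
open Cfsg

namespace Cfsg.Agent.S1180

/-- Let z be an isolated involution of the finite group G and H a subgroup containing z. Then every conjugate g z g⁻¹ that lies in H is conjugate to z by an element of H. -/
theorem result {G : Type*} [Group G] [Finite G] (z : G) (hz : Cfsg.IsIsolatedInvolution z) (H : Subgroup G) (hzH : z ∈ H) (g : G) (hg : g * z * g⁻¹ ∈ H) : ∃ h ∈ H, h * z * h⁻¹ = g * z * g⁻¹ := by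
  have hg2 : g * z * g⁻¹ * (g * z * g⁻¹) = 1 := by
    rw [conj_mul, CfsgLib.Involutions.mul_self_eq_one_of_orderOf hz.1, mul_one, mul_inv_cancel]
  obtain ⟨d, hd, hd'⟩ := CfsgLib.Involutions.exists_conj_eq_of_odd
    (CfsgLib.Involutions.mul_self_eq_one_of_orderOf hz.1) hg2
    (CfsgLib.Involutions.odd_of_isolated hz.1 hz.2 g)
  refine ⟨d, ?_, hd'⟩
  refine (Subgroup.closure_le H).mpr ?_ hd
  rintro _ (rfl | rfl)
  exacts [hzH, hg]

end Cfsg.Agent.S1180
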