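import Cfsg.Statements.S1181
import Cfsg.Agent.Lib.Involutions
import Mathlib.Tactic.Group
-- import your own Cfsg.Agent.* helpers here

set_option autoImplicit false
open Cfsg

namespace Cfsg.Agent.S1181

/-- Let z be an isolated involution of the finite group G and N a normal subgroup with z ∉ N. Then the centralizer of zN in G/N is the image of C_G(z), and zN is an isolated involution of G/N. -/
theorem result {G : Type*} [Group G] [Finite G] (z : G) (hz : Cfsg.IsIsolatedInvolution z) (N : Subgroup G) [N.Normal] (hzN : z ∉ N) : Subgroup.centralizer ({(QuotientGroup.mk z : G ⧸ N)} : Set (G ⧸ N)) = (Subgroup.centralizer ({z} : Set G)).map (QuotientGroup.mk' N) ∧ Cfsg.IsIsolatedInvolution (QuotientGroup.mk z : G ⧸ N) := by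
  open CfsgLib.Involutions in
  have key : ∀ g : G, Commute (z : G ⧸ N) ((g * z * g⁻¹ : G) : G ⧸ N) →
      ((g * z * g⁻¹ : G) : G ⧸ N) = (z : G ⧸ N) := by
    intro g hc
    have hodd := CfsgLib.Involutions.odd_of_isolated hz.1 hz.2 g
    have hz2 : (z : G ⧸ N) * z = 1 := by
      rw [← QuotientGroup.mk_mul, CfsgLib.Involutions.mul_self_eq_one_of_orderOf hz.1, QuotientGroup.mk_one]
    have hw2 : ((g * z * g⁻¹ : G) : G ⧸ N) * ((g * z * g⁻¹ : G) : G ⧸ N) = 1 := by
      rw [← QuotientGroup.mk_mul, CfsgLib.Involutions.mul_self_eq_one_of_orderOf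
        ((CfsgLib.Involutions.orderOf_conj g z).trans hz.1), QuotientGroup.mk_one]
    have hr : ((z * (g * z * g⁻¹) : G) : G ⧸ N) ^ 2 = 1 := by
      rw [QuotientGroup.mk_mul, hc.mul_pow, sq, sq, hz2, hw2, mul_one]
    obtain ⟨k, hk⟩ := hodd
    have h1 : ((z * (g * z * g⁻¹) : G) : G ⧸ N) ^ (2 * k + 1) = 1 := by
      rw [← QuotientGroup.mk_pow, ← hk, pow_orderOf_eq_one, QuotientGroup.mk_one]
    rw [pow_succ, pow_mul, hr, one_pow, one_mul, QuotientGroup.mk_mul] at h1
    calc ((g * z * g⁻¹ : G) : G ⧸ N) = ((z : G ⧸ N))⁻¹ := eq_inv_of_mul_eq_one_right h1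
      _ = z := inv_eq_of_mul_eq_one_right hz2
  refine ⟨le_antisymm ?_ ?_, ?_, ?_⟩
  · intro gb hgb
    obtain ⟨g, rfl⟩ := QuotientGroup.mk_surjective gb
    rw [Subgroup.mem_centralizer_singleton_iff] at hgb
    -- `z (g z g⁻¹) ∈ N`
    have hzz := CfsgLib.Involutions.mul_self_eq_one_of_orderOf hz.1
    set w := g * z * g⁻¹ with hwdef
    have hw : orderOf w = 2 := (CfsgLib.Involutions.orderOf_conj g z).trans hz.1
    have hww := CfsgLib.Involutions.mul_self_eq_one_of_orderOf hw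
    have hwN : ((w : G) : G ⧸ N) = (z : G ⧸ N) := by
      rw [hwdef, QuotientGroup.mk_mul, QuotientGroup.mk_mul, QuotientGroup.mk_inv, hgb, mul_inv_cancel_right]
    have hN' : z * w ∈ N := by
      rw [← QuotientGroup.eq_one_iff, QuotientGroup.mk_mul, hwN, ← QuotientGroup.mk_mul, hzz, QuotientGroup.mk_one]
    obtain ⟨k, hk⟩ := CfsgLib.Involutions.odd_of_isolated hz.1 hz.2 g
    rw [← hwdef] at hk
    obtain ⟨d, hdN, hd⟩ : ∃ d ∈ N, d * z * d⁻¹ = w := by
      refine ⟨(z * w) ^ (k : ℤ), zpow_mem hN' _, ?_⟩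
      rw [CfsgLib.Involutions.zpow_mul_eq hzz hww, mul_assoc, ← zpow_neg, ← zpow_add]
      have h3 : (z * w) ^ (-(k : ℤ) + -(k : ℤ)) = z * w := by
        rw [show (-(k : ℤ) + -(k : ℤ)) = 1 + -((2 * k + 1 : ℕ) : ℤ) by push_cast; ring, zpow_add, zpow_one,
          zpow_neg, zpow_natCast, ← hk, pow_orderOf_eq_one, inv_one, mul_one]
      rw [h3, ← mul_assoc, hzz, one_mul]
    refine ⟨d⁻¹ * g, ?_, ?_⟩
    · show d⁻¹ * g ∈ Subgroup.centralizer ({z} : Set G)
      rw [Subgroup.mem_centralizer_singleton_iff]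
      calc d⁻¹ * g * z = d⁻¹ * w * g := by rw [hwdef]; group
        _ = z * (d⁻¹ * g) := by rw [← hd]; group
    · show ((d⁻¹ * g : G) : G ⧸ N) = g
      rw [QuotientGroup.mk_mul, (QuotientGroup.eq_one_iff _).mpr (inv_mem hdN), one_mul]
  · rintro _ ⟨g, hg, rfl⟩
    rw [Subgroup.mem_centralizer_singleton_iff]
    replace hg : g ∈ Subgroup.centralizer ({z} : Set G) := hg
    rw [Subgroup.mem_centralizer_singleton_iff] at hg
    have h : ((g * z : G) : G ⧸ N) = ((z * g : G) : G ⧸ N) := by rw [hg]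
    simpa using h
  · rw [CfsgLib.Involutions.orderOf_eq_two_iff', ← QuotientGroup.mk_mul,
      CfsgLib.Involutions.mul_self_eq_one_of_orderOf hz.1, QuotientGroup.mk_one]
    exact ⟨rfl, fun e => hzN ((QuotientGroup.eq_one_iff _).mp e)⟩
  · intro gb hc
    obtain ⟨g, rfl⟩ := QuotientGroup.mk_surjective gb
    rw [← QuotientGroup.mk_inv, ← QuotientGroup.mk_mul, ← QuotientGroup.mk_mul] at hc ⊢
    exact key g hc

end Cfsg.Agent.S1181
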