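import Cfsg.Statements.S1182
import Cfsg.Agent.Lib.Involutions
import Mathlib.Tactic.Group
-- import your own Cfsg.Agent.* helpers here

set_option autoImplicit false
open Cfsg

namespace Cfsg.Agent.S1182

/-- Let z be an isolated involution of the finite group G and H a subgroup normalized by z. If x, y ∈ H both commute with z and y = h x h⁻¹ for some h ∈ H, then y = c x c⁻¹ for some c ∈ H commuting with z. -/
theorem result {G : Type*} [Group G] [Finite G] (z : G) (hz : Cfsg.IsIsolatedInvolution z) (H : Subgroup G) (hzH : z ∈ Subgroup.normalizer (H : Set G)) (x y : G) (hx : x ∈ H) (hy : y ∈ H) (hxz : Commute x z) (hyz : Commute y z) (h : G) (hh : h ∈ H) (hconj : h * x * h⁻¹ = y) : ∃ c ∈ H, Commute c z ∧ c * x * c⁻¹ = y := by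
  have hzi := CfsgLib.Involutions.inv_eq_self_of_orderOf hz.1
  set h' := z * h * z⁻¹ with hh'def
  have hh' : h' ∈ H := (Subgroup.mem_normalizer_iff.mp hzH h).mp hh
  set u := h⁻¹ * h' with hudef
  have huH : u ∈ H := mul_mem (inv_mem hh) hh'
  have hodd : Odd (orderOf u) := by
    have h1 := CfsgLib.Involutions.odd_of_isolated hz.1 hz.2 h⁻¹
    have e : u = (h⁻¹ * z * h⁻¹⁻¹) * z⁻¹ := by rw [hudef, hh'def]; group
    rw [e, hzi]
    have e2 : h⁻¹ * z * h⁻¹⁻¹ * z = z⁻¹ * (z * (h⁻¹ * z * h⁻¹⁻¹)) * z⁻¹⁻¹ := by group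
    rw [e2, CfsgLib.Involutions.orderOf_conj]
    exact h1
  have hzu : z * u * z⁻¹ = u⁻¹ := by
    calc z * u * z⁻¹ = (z * h⁻¹ * z) * h * (z⁻¹ * z⁻¹) := by rw [hudef, hh'def]; group
      _ = (z * h⁻¹ * z⁻¹) * h * (z * z⁻¹) := by rw [hzi]
      _ = u⁻¹ := by rw [hudef, hh'def]; group
  obtain ⟨m, hm⟩ := CfsgLib.Involutions.exists_sqrt hodd
  set v := u ^ m with hvdef
  have hux : Commute u x := by
    have h1 : z * x * z⁻¹ = x := by rw [← hxz.eq, mul_inv_cancel_right]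
    have h2 : z * y * z⁻¹ = y := by rw [← hyz.eq, mul_inv_cancel_right]
    refine mul_inv_eq_iff_eq_mul.mp ?_
    calc u * x * u⁻¹ = h⁻¹ * (z * (h * (z⁻¹ * x * z) * h⁻¹) * z⁻¹) * h := by rw [hudef, hh'def]; group
      _ = h⁻¹ * (z * (h * x * h⁻¹) * z⁻¹) * h := by
          rw [show z⁻¹ * x * z = z⁻¹ * (z * x * z⁻¹) * z by rw [h1]]; group
      _ = x := by rw [hconj, h2, ← hconj]; group
  refine ⟨h * v, mul_mem hh (pow_mem huH m), ?_, ?_⟩
  · have h3 : z * (h * v) * z⁻¹ = h * v := by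
      calc z * (h * v) * z⁻¹ = h * u * (z * v * z⁻¹) := by rw [hudef, hh'def]; group
        _ = h * (v * v) * v⁻¹ := by rw [hm, hvdef, ← conj_pow, hzu, inv_pow]
        _ = h * v := by group
    exact (mul_inv_eq_iff_eq_mul.mp h3).symm
  · have h4 : v * x * v⁻¹ = x := by rw [hvdef, (hux.pow_left m).eq, mul_inv_cancel_right]
    calc h * v * x * (h * v)⁻¹ = h * (v * x * v⁻¹) * h⁻¹ := by group
      _ = y := by rw [h4, hconj]

end Cfsg.Agent.S1182
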