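import Cfsg.Statements.S1189
import Cfsg.Agent.Lib.QuasiDihedral
import Mathlib.Data.Set.Card
-- import your own Cfsg.Agent.* helpers here

set_option autoImplicit false
open Cfsg

namespace Cfsg.Agent.S1189

/-- A quasi-dihedral 2-group has exactly two conjugacy classes of elements of order 2 and exactly two conjugacy classes of elements of order 4. -/
theorem result {S : Type*} [Group S] [Finite S] (hS : Cfsg.IsQuasiDihedral S) : Nat.card {C : ConjClasses S // ∃ t : S, orderOf t = 2 ∧ ConjClasses.mk t = C} = 2 ∧ Nat.card {C : ConjClasses S // ∃ t : S, orderOf t = 4 ∧ ConjClasses.mk t = C} = 2 := by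
  obtain ⟨n, -, -, d, -⟩ := CfsgLib.QD.exists_data hS
  open CfsgLib.QD in
  constructor
  · have hset : {C : ConjClasses S | ∃ t : S, orderOf t = 2 ∧ ConjClasses.mk t = C} =
        {ConjClasses.mk d.z, ConjClasses.mk d.y} := by
      ext C
      constructor
      · rintro ⟨t, ht, rfl⟩
        rcases CfsgLib.QD.involution_cases d ht with rfl | ⟨j, rfl⟩
        · exact Or.inl rfl
        · right
          show _ = _
          rw [ConjClasses.mk_eq_mk_iff_isConj]
          have h := CfsgLib.QD.isConj_shift d 0 j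
          rw [zpow_zero, one_mul, zero_add] at h
          exact h.symm
      · rintro (rfl | rfl)
        · exact ⟨_, CfsgLib.QD.orderOf_z d, rfl⟩
        · exact ⟨_, d.hy, rfl⟩
    show Nat.card ({C : ConjClasses S | ∃ t : S, orderOf t = 2 ∧ ConjClasses.mk t = C} : Set _) = 2
    rw [hset, Nat.card_coe_set_eq, Set.ncard_pair]
    rw [Ne, ConjClasses.mk_eq_mk_iff_isConj, isConj_iff]
    rintro ⟨g, hg⟩
    rw [Subgroup.mem_center_iff.mp (CfsgLib.QD.z_central d) g, mul_inv_cancel_right] at hg
    exact CfsgLib.QD.y_not_mem d (hg ▸ CfsgLib.QD.z_mem_X d)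
  · have hset : {C : ConjClasses S | ∃ t : S, orderOf t = 4 ∧ ConjClasses.mk t = C} =
        {ConjClasses.mk (d.x ^ (2 * (d.M : ℤ))), ConjClasses.mk (d.x ^ (1 : ℤ) * d.y)} := by
      ext C
      constructor
      · rintro ⟨t, ht, rfl⟩
        rcases CfsgLib.QD.order_four_cases d ht with rfl | rfl | ⟨j, rfl⟩
        · exact Or.inl rfl
        · left
          rw [ConjClasses.mk_eq_mk_iff_isConj, isConj_iff]
          refine ⟨d.y, ?_⟩
          rw [CfsgLib.QD.conj_y, CfsgLib.QD.zpow_eq_iff]
          exact ⟨d.M, by ring⟩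
        · right
          show _ = _
          rw [ConjClasses.mk_eq_mk_iff_isConj]
          have h := CfsgLib.QD.isConj_shift d 1 j
          rw [add_comm] at h
          exact h.symm
      · rintro (rfl | rfl)
        · exact ⟨_, CfsgLib.QD.orderOf_zpow_quarter d, rfl⟩
        · refine ⟨_, ?_, rfl⟩
          have h := CfsgLib.QD.orderOf_xy_odd d 0
          rwa [mul_zero, zero_add] at h
    show Nat.card ({C : ConjClasses S | ∃ t : S, orderOf t = 4 ∧ ConjClasses.mk t = C} : Set _) = 2
    rw [hset, Nat.card_coe_set_eq, Set.ncard_pair]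
    rw [Ne, ConjClasses.mk_eq_mk_iff_isConj, isConj_iff]
    rintro ⟨g, hg⟩
    refine CfsgLib.QD.xy_not_mem d 1 (hg ▸ ?_)
    exact (CfsgLib.QD.normal_X d).conj_mem _ (CfsgLib.QD.zpow_mem_X d _) g

end Cfsg.Agent.S1189
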