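import Cfsg.Statements.S1192
import Cfsg.Agent.Lib.QuasiDihedralSubgroups
-- import your own Cfsg.Agent.* helpers here

set_option autoImplicit false
open Cfsg

namespace Cfsg.Agent.S1192

/-- A quasi-dihedral group S of order 2^(n+1) has exactly three maximal subgroups; one is cyclic, one is isomorphic to the generalized quaternion group of order 2^n and one to the dihedral group of order 2^n. -/
theorem result {S : Type*} [Group S] [Finite S] (hS : Cfsg.IsQuasiDihedral S) (n : ℕ) (hn : Nat.card S = 2 ^ (n + 1)) : ∃ M₁ M₂ M₃ : Subgroup S, IsCoatom M₁ ∧ IsCoatom M₂ ∧ IsCoatom M₃ ∧ M₁ ≠ M₂ ∧ M₁ ≠ M₃ ∧ M₂ ≠ M₃ ∧ (∀ M : Subgroup S, IsCoatom M → M = M₁ ∨ M = M₂ ∨ M = M₃) ∧ IsCyclic M₁ ∧ Nonempty (M₂ ≃* QuaternionGroup (2 ^ (n - 2))) ∧ Nonempty (M₃ ≃* DihedralGroup (2 ^ (n - 1))) := by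
  obtain ⟨m, hm, hcard, d, hdM⟩ := CfsgLib.QD.exists_data hS
  obtain rfl : m = n := by
    have := Nat.pow_right_injective le_rfl (hcard.symm.trans hn)
    omega
  have h1 : (2 : ℕ) ^ (m - 2) = 2 * d.M := by rw [hdM, ← pow_succ']; congr 1; omega
  have h2 : (2 : ℕ) ^ (m - 1) = 4 * d.M := by
    rw [show (4 : ℕ) = 2 ^ 2 from rfl, hdM, ← pow_add]; congr 1; omega
  have hyD : d.y ∈ d.D := Subgroup.subset_closure (Or.inr rfl)
  have hbQ : d.x ^ (1 : ℤ) * d.y ∈ d.Q := Subgroup.subset_closure (Or.inr rfl)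
  refine ⟨d.X, d.Q, d.D, CfsgLib.QD.isCoatom_of_index_two (CfsgLib.QD.index_X d),
    CfsgLib.QD.isCoatom_of_index_two (CfsgLib.QD.index_of_card d (CfsgLib.QD.card_Q d)),
    CfsgLib.QD.isCoatom_of_index_two (CfsgLib.QD.index_of_card d (CfsgLib.QD.card_D d)), ?_, ?_, ?_,
    fun M hM => CfsgLib.QD.coatom_cases d (IsPGroup.of_card hcard) hM, ?_, ?_, ?_⟩
  · exact fun e => CfsgLib.QD.xy_not_mem d 1 (e ▸ hbQ)
  · exact fun e => CfsgLib.QD.y_not_mem d (e ▸ hyD)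
  · intro e
    have hx : d.x ∈ d.D := by
      have h3 := mul_mem (e ▸ hbQ) hyD
      rwa [mul_assoc, CfsgLib.QD.hyy, mul_one, zpow_one] at h3
    have h4 := CfsgLib.QD.eq_of_le_of_index (Subgroup.zpowers_le.mpr hx) (CfsgLib.QD.index_X d)
      (CfsgLib.QD.index_of_card d (CfsgLib.QD.card_D d))
    exact CfsgLib.QD.y_not_mem d (show d.y ∈ Subgroup.zpowers d.x from h4.ge hyD)
  · exact ⟨⟨d.x, Subgroup.mem_zpowers _⟩, fun g => by
      obtain ⟨i, hi⟩ := g.2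
      exact ⟨i, Subtype.ext (by simpa using hi)⟩⟩
  · rw [h1]; exact CfsgLib.QD.Q_equiv d
  · rw [h2]; exact CfsgLib.QD.D_equiv d

end Cfsg.Agent.S1192
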