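import Cfsg.Statements.S1193
import Cfsg.Agent.Lib.QuasiDihedralSubgroups
import Mathlib.GroupTheory.Frattini
import Mathlib.GroupTheory.Abelianization.Defs
-- import your own Cfsg.Agent.* helpers here

set_option autoImplicit false
open Cfsg

namespace Cfsg.Agent.S1193

/-- Let S be quasi-dihedral of order 2^(n+1). Then S' = Φ(S) is cyclic of order 2^(n-1), the centre of S has order 2, and the subgroup generated by the involutions of S is dihedral of order 2^n. -/
theorem result {S : Type*} [Group S] [Finite S] (hS : Cfsg.IsQuasiDihedral S) (n : ℕ) (hn : Nat.card S = 2 ^ (n + 1)) : commutator S = frattini S ∧ IsCyclic (commutator S) ∧ Nat.card (commutator S) = 2 ^ (n - 1) ∧ Nat.card (Subgroup.center S) = 2 ∧ Nonempty (↥(Subgroup.closure {x : S | orderOf x = 2}) ≃* DihedralGroup (2 ^ (n - 1))) := by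
  obtain ⟨m, hm, hcard, d, hdM⟩ := CfsgLib.QD.exists_data hS
  obtain rfl : m = n := by
    have := Nat.pow_right_injective le_rfl (hcard.symm.trans hn)
    omega
  haveI : Fact (Nat.Prime 2) := ⟨Nat.prime_two⟩
  have h2 : (2 : ℕ) ^ (m - 1) = 4 * d.M := by
    rw [show (4 : ℕ) = 2 ^ 2 from rfl, hdM, ← pow_add]; congr 1; omega
  rw [h2]
  have hpg : IsPGroup 2 S := IsPGroup.of_card hcard
  have hM0 := d.hM
  -- `x ^ 2` is a commutator
  have hc : d.x ^ (2 : ℤ) ∈ commutator S := by
    have hc0 : d.x ^ (4 * (d.M : ℤ) - 2) ∈ commutator S := by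
      have h := Subgroup.commutator_mem_commutator (Subgroup.mem_top d.y) (Subgroup.mem_top d.x)
      have e : d.x ^ (4 * (d.M : ℤ) - 2) = d.y * d.x * d.y⁻¹ * d.x⁻¹ := by
        rw [d.hxy, ← zpow_sub_one]
        congr 1
        ring
      rw [e, commutator_def, ← commutatorElement_def]
      exact h
    have h3 := zpow_mem hc0 (2 * (d.M : ℤ) - 1)
    rw [← zpow_mul] at h3
    have e : d.x ^ (2 : ℤ) = d.x ^ ((4 * (d.M : ℤ) - 2) * (2 * (d.M : ℤ) - 1)) := by
      rw [CfsgLib.QD.zpow_eq_iff]
      exact ⟨(d.M : ℤ) - 1, by ring⟩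
    rwa [e]
  have hfr : frattini S ≤ Subgroup.zpowers (d.x ^ (2 : ℤ)) :=
    le_trans (le_inf
      (frattini_le_coatom (CfsgLib.QD.isCoatom_of_index_two (CfsgLib.QD.index_of_card d (CfsgLib.QD.card_D d))))
      (frattini_le_coatom (CfsgLib.QD.isCoatom_of_index_two (CfsgLib.QD.index_X d))))
      (CfsgLib.QD.D_inf_X_le d)
  have hcf : commutator S ≤ frattini S := CfsgLib.commutator_le_frattini_pGroup hpg
  have hcomm : commutator S = Subgroup.zpowers (d.x ^ (2 : ℤ)) :=
    le_antisymm (hcf.trans hfr) (Subgroup.zpowers_le.mpr hc)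
  refine ⟨le_antisymm hcf (hfr.trans_eq hcomm.symm), ?_, ?_, ?_, ?_⟩
  · rw [hcomm]
    exact ⟨⟨_, Subgroup.mem_zpowers _⟩, fun g => by
      obtain ⟨i, hi⟩ := g.2
      exact ⟨i, Subtype.ext (by simpa using hi)⟩⟩
  · rw [hcomm, Nat.card_zpowers, CfsgLib.QD.orderOf_x_sq]
  · have hZ : Subgroup.center S = Subgroup.zpowers d.z := by
      refine le_antisymm (fun g hg => ?_) (Subgroup.zpowers_le.mpr (CfsgLib.QD.z_central d))
      rw [Subgroup.mem_center_iff] at hg
      obtain ⟨k, rfl | rfl⟩ := CfsgLib.QD.cases_elem d g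
      · have h := (CfsgLib.QD.commute_xy_iff d (i := 0)).mp (show Commute (d.x ^ k) _ from (hg _).symm)
        rcases CfsgLib.QD.zpow_sq_eq_one_cases d h with e | e
        · rw [e]; exact one_mem _
        · rw [e]; exact Subgroup.mem_zpowers _
      · exfalso
        have h := (CfsgLib.QD.commute_xy_iff d).mp (show Commute (d.x ^ (2 * (d.M : ℤ))) _ from hg _)
        have := Int.le_of_dvd (by omega) h
        omega
    rw [hZ, Nat.card_zpowers, CfsgLib.QD.orderOf_z]
  · have hD : Subgroup.closure {g : S | orderOf g = 2} = d.D := by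
      apply le_antisymm
      · rw [Subgroup.closure_le]
        have hx2 : d.x ^ (2 : ℤ) ∈ d.D := by
          rw [← CfsgLib.QD.two_involutions_mul d]
          exact mul_mem (Subgroup.subset_closure (Or.inl rfl)) (Subgroup.subset_closure (Or.inr rfl))
        intro g hg
        rcases CfsgLib.QD.involution_cases d hg with rfl | ⟨j, rfl⟩
        · rw [CfsgLib.QD.Data.z, show 4 * (d.M : ℤ) = 2 * (2 * d.M) by ring, zpow_mul]
          exact zpow_mem hx2 _
        · rw [zpow_mul]
          exact mul_mem (zpow_mem hx2 j) (Subgroup.subset_closure (Or.inr rfl))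
      · rw [CfsgLib.QD.Data.D, Subgroup.closure_le]
        rintro g (rfl | rfl)
        · exact Subgroup.subset_closure (CfsgLib.QD.orderOf_xy_even d 1)
        · exact Subgroup.subset_closure d.hy
    rw [hD]
    exact CfsgLib.QD.D_equiv d

end Cfsg.Agent.S1193
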