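import Cfsg.Statements.S1194
import Cfsg.Agent.Lib.QuasiDihedral
import Mathlib.GroupTheory.Abelianization.Defs
import Mathlib.RingTheory.Coprime.Lemmas
-- import your own Cfsg.Agent.* helpers here

set_option autoImplicit false
open Cfsg

namespace Cfsg.Agent.S1194

theorem isCoatom_of_index_two {S : Type*} [Group S] [Finite S] {N : Subgroup S} (h : N.index = 2) :
    IsCoatom N := by
  refine ⟨fun e => by rw [e, Subgroup.index_top] at h; omega, fun M hM => ?_⟩
  have h2 := Subgroup.relIndex_mul_index hM.le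
  rw [h] at h2
  rcases (Nat.dvd_prime Nat.prime_two).mp (Dvd.intro_left _ h2) with e | e
  · exact Subgroup.index_eq_one.mp e
  · rw [e] at h2
    exact absurd (Subgroup.relIndex_eq_one.mp (by omega : N.relIndex M = 1)) hM.not_ge

/-- In a quasi-dihedral 2-group S, every proper normal subgroup is either a maximal subgroup or a cyclic subgroup contained in the derived subgroup S'. -/
theorem result {S : Type*} [Group S] [Finite S] (hS : Cfsg.IsQuasiDihedral S) (N : Subgroup S) [N.Normal] (hN : N ≠ ⊤) : IsCoatom N ∨ (IsCyclic N ∧ N ≤ commutator S) := by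
  obtain ⟨n, -, -, d, hdM⟩ := CfsgLib.QD.exists_data hS
  by_cases hNX : N ≤ d.X
  · by_cases hx : d.x ∈ N
    · left
      have e : N = d.X := le_antisymm hNX (Subgroup.zpowers_le.mpr hx)
      rw [e]
      exact isCoatom_of_index_two (CfsgLib.QD.index_X d)
    · right
      haveI : IsCyclic d.X := ⟨⟨d.x, Subgroup.mem_zpowers _⟩, fun g => by
        obtain ⟨i, hi⟩ := g.2
        exact ⟨i, Subtype.ext (by simpa using hi)⟩⟩
      refine ⟨isCyclic_of_injective (Subgroup.inclusion hNX) (Subgroup.inclusion_injective hNX), ?_⟩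
      have h2 : ∀ j : ℤ, d.x ^ (2 * j) ∈ commutator S := by
        intro j
        have hc : d.x ^ (4 * (d.M : ℤ) - 2) ∈ commutator S := by
          have h := Subgroup.commutator_mem_commutator (Subgroup.mem_top d.y) (Subgroup.mem_top d.x)
          have e : d.x ^ (4 * (d.M : ℤ) - 2) = d.y * d.x * d.y⁻¹ * d.x⁻¹ := by
            rw [d.hxy, ← zpow_sub_one]
            congr 1
            ring
          rw [e, commutator_def, ← commutatorElement_def]
          exact h
        have := zpow_mem hc ((2 * (d.M : ℤ) - 1) * j)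
        rw [← zpow_mul] at this
        have e : d.x ^ (2 * j) = d.x ^ ((4 * (d.M : ℤ) - 2) * ((2 * (d.M : ℤ) - 1) * j)) := by
          rw [CfsgLib.QD.zpow_eq_iff]
          exact ⟨((d.M : ℤ) - 1) * j, by ring⟩
        rwa [e]
      intro g hg
      obtain ⟨t, rfl⟩ := hNX hg
      obtain ⟨j, rfl | rfl⟩ := Int.even_or_odd' t
      · exact h2 j
      · exfalso
        apply hx
        obtain ⟨a, b, hab⟩ : IsCoprime (2 * j + 1) ((2 : ℤ) ^ (n - 3 + 3)) :=
          IsCoprime.pow_right ⟨1, -j, by ring⟩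
        have e : d.x = (d.x ^ (2 * j + 1)) ^ a := by
          rw [← zpow_mul]
          conv_lhs => rw [← zpow_one d.x]
          rw [CfsgLib.QD.zpow_eq_iff]
          refine ⟨-b, ?_⟩
          have h8 : 8 * (d.M : ℤ) = 2 ^ (n - 3 + 3) := by
            rw [hdM, pow_add]; push_cast; ring
          rw [h8]
          linear_combination hab
        rw [e]
        exact zpow_mem hg a
  · left
    obtain ⟨g, hg, hgX⟩ := SetLike.not_le_iff_exists.mp hNX
    obtain ⟨i, rfl | rfl⟩ := CfsgLib.QD.cases_elem d g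
    · exact absurd (CfsgLib.QD.zpow_mem_X d i) hgX
    have hconj : ∀ j : ℤ, d.x ^ (i + 2 * j) * d.y ∈ N := fun j => by
      obtain ⟨c, hc⟩ := isConj_iff.mp (CfsgLib.QD.isConj_shift d i j)
      exact hc ▸ Subgroup.Normal.conj_mem inferInstance _ hg c
    have heven : ∀ j : ℤ, d.x ^ (2 * j) ∈ N := fun j => by
      have := mul_mem (hconj j) (inv_mem hg)
      rwa [mul_inv_rev, ← mul_assoc, mul_assoc (d.x ^ (i + 2 * j)), mul_inv_cancel, mul_one, ← zpow_neg, ← zpow_add,
        add_neg_cancel_comm] at this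
    apply isCoatom_of_index_two
    rw [Subgroup.index_eq_two_iff]
    have hxN : d.x ∉ N := fun hx => hN (by
      rw [eq_top_iff]
      intro s _
      have hy : d.y ∈ N := by
        have := mul_mem (inv_mem (zpow_mem hx i)) hg
        rwa [inv_mul_cancel_left] at this
      obtain ⟨t, rfl | rfl⟩ := CfsgLib.QD.cases_elem d s
      · exact zpow_mem hx t
      · exact mul_mem (zpow_mem hx t) hy)
    have hodd : ∀ j : ℤ, d.x ^ (2 * j + 1) ∉ N := fun j h => hxN (by
      have := mul_mem (inv_mem (heven j)) h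
      rwa [← zpow_neg, ← zpow_add, neg_add_cancel_left, zpow_one] at this)
    refine ⟨d.x, fun b => ?_⟩
    have hx' : ∀ t : ℤ, (d.x ^ (t + 1) ∈ N ∧ d.x ^ t ∉ N) ∨ (d.x ^ t ∈ N ∧ d.x ^ (t + 1) ∉ N) := fun t => by
      obtain ⟨j, rfl | rfl⟩ := Int.even_or_odd' t
      · exact Or.inr ⟨heven j, hodd j⟩
      · exact Or.inl ⟨by rw [show 2 * j + 1 + 1 = 2 * (j + 1) by ring]; exact heven _, hodd j⟩
    obtain ⟨t, rfl | rfl⟩ := CfsgLib.QD.cases_elem d b
    · rw [← zpow_add_one]
      exact hx' t
    · have e1 : d.x ^ t * d.y = d.x ^ (t - i) * (d.x ^ i * d.y) := by rw [← mul_assoc, ← zpow_add, sub_add_cancel]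
      have e2 : d.x ^ t * d.y * d.x = d.x ^ (t - i + (4 * (d.M : ℤ) - 1)) * (d.x ^ i * d.y) := by
        conv_lhs => rw [← zpow_one d.x]
        rw [zpow_one]
        conv_lhs => arg 2; rw [← zpow_one d.x]
        rw [CfsgLib.QD.xy_mul_zpow, ← mul_assoc, ← zpow_add]
        congr 2
        ring
      rw [e2, e1, Subgroup.mul_mem_cancel_right _ hg, Subgroup.mul_mem_cancel_right _ hg]
      have e3 : d.x ^ (t - i + (4 * (d.M : ℤ) - 1)) ∈ N ↔ d.x ^ (t - i + 1) ∈ N := by
        rw [show t - i + (4 * (d.M : ℤ) - 1) = 2 * (2 * d.M - 1) + (t - i + 1) by ring, zpow_add,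
          Subgroup.mul_mem_cancel_left _ (heven _)]
      rw [e3]
      exact hx' (t - i)

end Cfsg.Agent.S1194
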