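import Cfsg.Statements.S1195
import Cfsg.Agent.Lib.Wreathed
import Mathlib.Data.Set.Card
-- import your own Cfsg.Agent.* helpers here

set_option autoImplicit false
open Cfsg

namespace Cfsg.Agent.S1195

/-- A wreathed 2-group has exactly three conjugacy classes of elements of order 2. -/
theorem result {S : Type*} [Group S] [Finite S] (hS : Cfsg.IsWreathed S) : Nat.card {C : ConjClasses S // ∃ t : S, orderOf t = 2 ∧ ConjClasses.mk t = C} = 3 := by
  obtain ⟨n, -, -, d, -⟩ := CfsgLib.Wr.exists_data hS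
  obtain ⟨o1, o2⟩ := CfsgLib.Wr.orderOf_half_u d
  have o3 : orderOf (d.v 0 0) = 2 := by
    have e : d.v 0 0 = d.z := by simp [CfsgLib.Wr.Data.v]
    rw [e, d.hz]
  have hset : {C : ConjClasses S | ∃ t : S, orderOf t = 2 ∧ ConjClasses.mk t = C} =
      {ConjClasses.mk (d.u d.h 0), ConjClasses.mk d.w, ConjClasses.mk (d.v 0 0)} := by
    ext C
    constructor
    · rintro ⟨t, ht, rfl⟩
      obtain ⟨htt, ht1⟩ := CfsgLib.Involutions.orderOf_eq_two_iff'.mp ht
      obtain ⟨i, j, rfl | rfl⟩ := CfsgLib.Wr.cases_elem d t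
      · rcases CfsgLib.Wr.u_involution_cases d htt with e | e | e | e
        · exact absurd e ht1
        · exact Or.inl (by rw [e])
        · left
          rw [e, ConjClasses.mk_eq_mk_iff_isConj, isConj_iff]
          exact ⟨d.v 0 0, CfsgLib.Wr.conj_u_by_v d 0 0 0 d.h⟩
        · exact Or.inr (Or.inl (by rw [e]))
      · right; right
        show _ = _
        rw [ConjClasses.mk_eq_mk_iff_isConj]
        have h := CfsgLib.Wr.isConj_v d 0 0 i
        rw [zero_add, zero_sub] at h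
        have e : d.v i j = d.v i (-i) := by
          rw [CfsgLib.Wr.v_eq_iff, sub_self]
          refine ⟨dvd_zero _, ?_⟩
          rw [show -i - j = -(i + j) by ring, dvd_neg]
          exact (CfsgLib.Wr.v_mul_self_eq_one_iff d).mp htt
        rw [e]
        exact h.symm
    · rintro (rfl | rfl | rfl)
      · exact ⟨_, o1, rfl⟩
      · exact ⟨_, o2, rfl⟩
      · exact ⟨_, o3, rfl⟩
  show Nat.card ({C : ConjClasses S | ∃ t : S, orderOf t = 2 ∧ ConjClasses.mk t = C} : Set _) = 3
  rw [hset, Nat.card_coe_set_eq, Set.ncard_eq_three]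
  refine ⟨_, _, _, ?_, ?_, ?_, rfl⟩
  · rw [Ne, ConjClasses.mk_eq_mk_iff_isConj]
    intro h
    obtain ⟨g, hg⟩ := isConj_iff.mp h.symm
    rw [Subgroup.mem_center_iff.mp (CfsgLib.Wr.w_central d) g, mul_inv_cancel_right, CfsgLib.Wr.Data.w,
      CfsgLib.Wr.u_eq_iff, zero_sub, dvd_neg] at hg
    have := Int.le_of_dvd (by have := d.h2; omega) hg.2
    have := d.h2
    omega
  · rw [Ne, ConjClasses.mk_eq_mk_iff_isConj, isConj_iff]
    rintro ⟨g, hg⟩
    haveI := Subgroup.normal_of_index_eq_two (CfsgLib.Wr.index_U d)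
    exact CfsgLib.Wr.v_not_mem d 0 0 (hg ▸ Subgroup.Normal.conj_mem inferInstance _ (CfsgLib.Wr.u_mem d _ _) g)
  · rw [Ne, ConjClasses.mk_eq_mk_iff_isConj, isConj_iff]
    rintro ⟨g, hg⟩
    haveI := Subgroup.normal_of_index_eq_two (CfsgLib.Wr.index_U d)
    exact CfsgLib.Wr.v_not_mem d 0 0 (hg ▸ Subgroup.Normal.conj_mem inferInstance _ (CfsgLib.Wr.u_mem d _ _) g)

end Cfsg.Agent.S1195
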