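import Cfsg.Statements.S1198
import Cfsg.Agent.Lib.WreathedSubgroups
-- import your own Cfsg.Agent.* helpers here

set_option autoImplicit false
open Cfsg

namespace Cfsg.Agent.S1198

theorem isKleinFour_of {S : Type*} [Group S] {T : Subgroup S} (h4 : Nat.card T = 4)
    (h2 : ∀ g ∈ T, g * g = 1) : IsKleinFour T := by
  refine ⟨h4, ?_⟩
  haveI : Finite T := Nat.finite_of_card_ne_zero (by omega)
  haveI : Nontrivial T := Finite.one_lt_card_iff_nontrivial.mp (by omega)
  rw [Monoid.exponent_eq_prime_iff Nat.prime_two]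
  exact fun g hg => orderOf_eq_prime (by rw [sq]; exact Subtype.ext (h2 g g.2)) hg

/-- A wreathed 2-group S has a normal Klein four-subgroup T such that every Klein four-subgroup of S other than T is conjugate in S to any other such subgroup; in particular S has exactly two conjugacy classes of Klein four-subgroups. -/
theorem result {S : Type*} [Group S] [Finite S] (hS : Cfsg.IsWreathed S) : ∃ T : Subgroup S, IsKleinFour T ∧ T.Normal ∧ (∃ T₀ : Subgroup S, IsKleinFour T₀ ∧ T₀ ≠ T) ∧ ∀ T₁ T₂ : Subgroup S, IsKleinFour T₁ → IsKleinFour T₂ → T₁ ≠ T → T₂ ≠ T → ∃ s : S, T₁.map (MulAut.conj s).toMonoidHom = T₂ := by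
  classical
  obtain ⟨n, -, -, d, -⟩ := CfsgLib.Wr.exists_data hS
  have hh := d.h2
  obtain ⟨o1, o2⟩ := CfsgLib.Wr.orderOf_half_u d
  set a := d.u d.h 0 with ha
  set b := d.u 0 d.h with hb
  have hmemU : ∀ {g : S}, g ∈ d.U → g * g = 1 → g = 1 ∨ g = a ∨ g = b ∨ g = d.w := by
    rintro _ ⟨i, j, rfl⟩ hgg
    exact CfsgLib.Wr.u_involution_cases d hgg
  let T : Subgroup S :=
    { carrier := {g | g ∈ d.U ∧ g * g = 1}
      one_mem' := ⟨one_mem _, one_mul 1⟩
      mul_mem' := by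
        rintro g k ⟨hg, hgg⟩ ⟨hk, hkk⟩
        refine ⟨mul_mem hg hk, ?_⟩
        rw [mul_assoc g k, ← mul_assoc k g, CfsgLib.Wr.U_comm d hk hg, mul_assoc g k k, hkk, mul_one, hgg]
      inv_mem' := by
        rintro g ⟨hg, hgg⟩
        exact ⟨inv_mem hg, by rw [← mul_inv_rev, hgg, inv_one]⟩ }
  have hTset : (T : Set S) = ({1, a, b, d.w} : Finset S) := by
    ext g
    constructor
    · rintro ⟨hg, hgg⟩
      simpa using hmemU hg hgg
    · intro hg
      simp only [Finset.coe_insert, Finset.coe_singleton, Set.mem_insert_iff, Set.mem_singleton_iff] at hg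
      rcases hg with rfl | rfl | rfl | rfl
      · exact one_mem T
      · exact ⟨CfsgLib.Wr.u_mem d _ _, CfsgLib.Involutions.mul_self_eq_one_of_orderOf o1⟩
      · refine ⟨CfsgLib.Wr.u_mem d _ _, ?_⟩
        rw [hb, CfsgLib.Wr.u_mul_u, CfsgLib.Wr.u_eq_one_iff]
        exact ⟨dvd_zero _, ⟨1, by ring⟩⟩
      · exact ⟨CfsgLib.Wr.u_mem d _ _, CfsgLib.Involutions.mul_self_eq_one_of_orderOf o2⟩
  have hnd : ¬ (2 * (d.h : ℤ) ∣ (d.h : ℤ)) := fun h => by
    have := Int.le_of_dvd (by omega) h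
    omega
  have hTcard : Nat.card T = 4 := by
    rw [show Nat.card T = (T : Set S).ncard from Nat.card_coe_set_eq _, hTset, Set.ncard_coe_finset]
    rw [Finset.card_eq_four]
    refine ⟨1, a, b, d.w, ?_, ?_, ?_, ?_, ?_, ?_, rfl⟩ <;>
      simp only [ha, hb, CfsgLib.Wr.Data.w, ne_eq, eq_comm (a := (1 : S)), CfsgLib.Wr.u_eq_one_iff, CfsgLib.Wr.u_eq_iff,
        sub_zero, zero_sub, sub_self, dvd_neg] <;>
      tauto
  have hT : IsKleinFour T := isKleinFour_of hTcard fun g hg => hg.2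
  -- structure of the other four subgroups
  have hother : ∀ T₁ : Subgroup S, IsKleinFour T₁ → T₁ ≠ T → ∃ i j : ℤ, 2 * (d.h : ℤ) ∣ i + j ∧
      (T₁ : Set S) = ({1, d.w, d.v i j, d.w * d.v i j} : Finset S) := by
    intro T₁ hT₁ hne
    haveI := hT₁
    have hsq : ∀ {g}, g ∈ T₁ → g * g = 1 := fun {g} hg => congrArg Subtype.val (IsKleinFour.mul_self (⟨g, hg⟩ : T₁))
    have hcomm : ∀ {g k}, g ∈ T₁ → k ∈ T₁ → g * k = k * g := fun {g k} hg hk => by
      haveI := IsKleinFour.isMulCommutative (G := T₁)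
      exact setLike_mul_comm hg hk
    have hle : ¬ T₁ ≤ d.U := fun hle => hne
      (Subgroup.eq_of_le_of_card_ge (fun g hg => (⟨hle hg, hsq hg⟩ : g ∈ T)) (by rw [hTcard, IsKleinFour.card_four]))
    obtain ⟨i, j, hv⟩ := CfsgLib.Wr.v_mem_of_not_le d hle
    have hij : 2 * (d.h : ℤ) ∣ i + j := (CfsgLib.Wr.v_mul_self_eq_one_iff d).mp (hsq hv)
    refine ⟨i, j, hij, ?_⟩
    have hU : ∀ g ∈ T₁, g ∈ d.U → g = 1 ∨ g = d.w := by
      rintro _ hg ⟨k, l, rfl⟩
      have hd : 2 * (d.h : ℤ) ∣ l - k := (CfsgLib.Wr.commute_u_v_iff d).mp (hcomm hg hv)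
      rcases CfsgLib.Wr.u_involution_cases d (hsq hg) with e | e | e | e
      · exact Or.inl e
      · exfalso
        rw [CfsgLib.Wr.u_eq_iff] at e
        apply hnd
        exact dvd_neg.mp (by
          have h9 := dvd_sub (dvd_add hd e.2) e.1
          ring_nf at h9 ⊢
          exact h9)
      · exfalso
        rw [CfsgLib.Wr.u_eq_iff] at e
        apply hnd
        have h9 := dvd_sub (dvd_add hd e.2) e.1
        ring_nf at h9 ⊢
        exact h9
      · exact Or.inr e
    refine Set.eq_of_subset_of_ncard_le (fun g hg => ?_) ?_ (Finset.finite_toSet _)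
    · by_cases hgU : g ∈ d.U
      · rcases hU g hg hgU with e | e <;> simp [e]
      · have h1 : g * d.v i j ∈ d.U := (Subgroup.mul_mem_iff_of_index_two (CfsgLib.Wr.index_U d)).mpr
          ⟨fun h => absurd h hgU, fun h => absurd h (CfsgLib.Wr.v_not_mem d i j)⟩
        have e2 : g = g * d.v i j * d.v i j := by rw [mul_assoc, hsq hv, mul_one]
        rcases hU _ (mul_mem hg hv) h1 with e | e
        · rw [e, one_mul] at e2
          simp [e2]
        · rw [e] at e2
          simp [e2]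
    · rw [Set.ncard_coe_finset, show (T₁ : Set S).ncard = Nat.card T₁ from (Nat.card_coe_set_eq _).symm,
        IsKleinFour.card_four]
      exact Finset.card_le_four
  refine ⟨T, hT, ⟨fun g hg k => ?_⟩, ?_, fun T₁ T₂ hT₁ hT₂ hne₁ hne₂ => ?_⟩
  · haveI := Subgroup.normal_of_index_eq_two (CfsgLib.Wr.index_U d)
    exact ⟨Subgroup.Normal.conj_mem inferInstance _ hg.1 k, by rw [conj_mul, hg.2, mul_one, mul_inv_cancel]⟩
  · -- the four subgroup `⟨w, z⟩`
    let T₀ : Subgroup S := Subgroup.closure {d.w, d.v 0 0}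
    have hvv : d.v 0 0 * d.v 0 0 = 1 := (CfsgLib.Wr.v_mul_self_eq_one_iff d).mpr (by simp)
    have hww := CfsgLib.Involutions.mul_self_eq_one_of_orderOf o2
    have hwc : d.w * d.v 0 0 = d.v 0 0 * d.w := (Subgroup.mem_center_iff.mp (CfsgLib.Wr.w_central d) _).symm
    have hwv : orderOf (d.v 0 0) = 2 :=
      CfsgLib.Involutions.orderOf_eq_two_iff'.mpr ⟨hvv, fun e => CfsgLib.Wr.u_ne_v d 0 0 0 0 (by rw [e, CfsgLib.Wr.u_zero])⟩
    have hne : d.w ≠ d.v 0 0 := CfsgLib.Wr.u_ne_v d _ _ _ _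
    have hord : orderOf (d.w * d.v 0 0) = 2 := by
      rw [CfsgLib.Involutions.orderOf_eq_two_iff', ← mul_assoc, mul_assoc d.w, ← hwc, ← mul_assoc, hww, one_mul, hvv]
      refine ⟨rfl, fun e => hne ?_⟩
      calc d.w = d.w * d.v 0 0 * d.v 0 0 := by rw [mul_assoc, hvv, mul_one]
        _ = d.v 0 0 := by rw [e, one_mul]
    refine ⟨T₀, isKleinFour_of ?_ ?_, fun e => CfsgLib.Wr.v_not_mem d 0 0
      ((e ▸ Subgroup.subset_closure (Or.inr rfl) : d.v 0 0 ∈ T)).1⟩
    · rw [← Nat.card_congr (MulEquiv.subgroupCongr (CfsgLib.Involutions.toClosure_range hww hvv)).toEquiv,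
        ← Nat.card_congr (MonoidHom.ofInjective (CfsgLib.Involutions.toClosure_injective o2 hwv hne)).toEquiv,
        DihedralGroup.nat_card, hord]
    · intro g hg
      obtain ⟨k, rfl | rfl⟩ := CfsgLib.Involutions.mem_closure_pair hww hvv hg
      · rw [← zpow_add, ← two_mul, zpow_mul, zpow_two, CfsgLib.Involutions.mul_self_eq_one_of_orderOf hord, one_zpow]
      · have hc : Commute d.w ((d.w * d.v 0 0) ^ k) :=
          ((Commute.refl d.w).mul_right hwc).zpow_right k
        rw [mul_assoc, ← mul_assoc _ d.w, ← hc.eq, mul_assoc, ← mul_assoc d.w d.w, hww, one_mul,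
          ← zpow_add, ← two_mul, zpow_mul, zpow_two, CfsgLib.Involutions.mul_self_eq_one_of_orderOf hord, one_zpow]
  · obtain ⟨i, j, hij, e₁⟩ := hother T₁ hT₁ hne₁
    obtain ⟨k, l, hkl, e₂⟩ := hother T₂ hT₂ hne₂
    refine ⟨d.u (k - i) 0, SetLike.coe_injective ?_⟩
    have hv : d.u (k - i) 0 * d.v i j * (d.u (k - i) 0)⁻¹ = d.v k l := by
      rw [CfsgLib.Wr.conj_v_by_u, CfsgLib.Wr.v_eq_iff, sub_zero, add_sub_cancel]
      refine ⟨by rw [sub_self]; exact dvd_zero _, ?_⟩
      rw [show l - (j - (k - i)) = (k + l) - (i + j) by ring]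
      exact dvd_sub hkl hij
    have hw : d.u (k - i) 0 * d.w * (d.u (k - i) 0)⁻¹ = d.w := by
      rw [Subgroup.mem_center_iff.mp (CfsgLib.Wr.w_central d), mul_inv_cancel_right]
    rw [Subgroup.coe_map, e₁, e₂]
    simp only [Finset.coe_insert, Finset.coe_singleton, Set.image_insert_eq, Set.image_singleton,
      MulEquiv.coe_toMonoidHom, map_one, map_mul, MulAut.conj_apply, hv, hw]

end Cfsg.Agent.S1198
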