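import Cfsg.Statements.S1199
import Cfsg.Agent.Lib.WreathedSubgroups
-- import your own Cfsg.Agent.* helpers here

set_option autoImplicit false
open Cfsg

namespace Cfsg.Agent.S1199

/-- A wreathed 2-group S of order 2^(2n+1) has exactly one subgroup of order 2^(n+1) isomorphic to a generalized quaternion group, and that subgroup is normal in S. -/
theorem result {S : Type*} [Group S] [Finite S] (hS : Cfsg.IsWreathed S) (n : ℕ) (hn : Nat.card S = 2 ^ (2 * n + 1)) : (∃! Y : Subgroup S, Nat.card Y = 2 ^ (n + 1) ∧ Nonempty (Y ≃* QuaternionGroup (2 ^ (n - 1)))) ∧ ∀ Y : Subgroup S, Nat.card Y = 2 ^ (n + 1) → Nonempty (Y ≃* QuaternionGroup (2 ^ (n - 1))) → Y.Normal := by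
  obtain ⟨m, hm, hcard, d, hdh⟩ := CfsgLib.Wr.exists_data hS
  obtain rfl : m = n := by
    have := Nat.pow_right_injective le_rfl (hcard.symm.trans hn)
    omega
  rw [← hdh]
  have hc : 2 ^ (m + 1) = 4 * d.h := by
    rw [show (4 : ℕ) = 2 ^ 2 from rfl, hdh, ← pow_add]; congr 1; omega
  refine ⟨⟨d.R, ⟨by rw [hc, CfsgLib.Wr.card_R], CfsgLib.Wr.R_equiv d⟩, ?_⟩, ?_⟩
  · rintro Y ⟨-, ⟨e⟩⟩
    exact CfsgLib.Wr.eq_R d e
  · rintro Y - ⟨e⟩
    rw [CfsgLib.Wr.eq_R d e]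
    exact CfsgLib.Wr.R_normal d

end Cfsg.Agent.S1199
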