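import Cfsg.Statements.S1200
import Cfsg.Agent.Lib.WreathedSubgroups
-- import your own Cfsg.Agent.* helpers here

set_option autoImplicit false
open Cfsg

namespace Cfsg.Agent.S1200

/-- Let S be a wreathed 2-group of order 2^(2n+1) and Ω the subgroup generated by its involutions. Then Ω has order 2^(n+2) and S/Ω is cyclic: some s ∈ S together with Ω generates S. -/
theorem result {S : Type*} [Group S] [Finite S] (hS : Cfsg.IsWreathed S) (n : ℕ) (hn : Nat.card S = 2 ^ (2 * n + 1)) : Nat.card (Subgroup.closure {x : S | orderOf x = 2}) = 2 ^ (n + 2) ∧ ∃ s : S, Subgroup.closure {x : S | orderOf x = 2} ⊔ Subgroup.zpowers s = ⊤ := by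
  obtain ⟨m, hm, hcard, d, hdh⟩ := CfsgLib.Wr.exists_data hS
  obtain rfl : m = n := by
    have := Nat.pow_right_injective le_rfl (hcard.symm.trans hn)
    omega
  have hh := d.h2
  have h2N : 2 ^ (m + 2) = 8 * d.h := by
    rw [show (8 : ℕ) = 2 ^ 3 from rfl, hdh, ← pow_add]; congr 1; omega
  rw [h2N]
  have hvi : ∀ i j : ℤ, (d.v i j)⁻¹ = d.v (-j) (-i) := fun i j => by
    apply inv_eq_of_mul_eq_one_right
    rw [CfsgLib.Wr.v_mul_v, add_neg_cancel, add_neg_cancel, CfsgLib.Wr.u_zero]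
  let H : Subgroup S :=
    { carrier := {g | ∃ i j : ℤ, (d.h : ℤ) ∣ i + j ∧ (g = d.u i j ∨ g = d.v i j)}
      one_mem' := ⟨0, 0, ⟨0, by simp⟩, Or.inl (CfsgLib.Wr.u_zero d).symm⟩
      mul_mem' := by
        rintro _ _ ⟨i, j, hij, rfl | rfl⟩ ⟨k, l, hkl, rfl | rfl⟩
        · refine ⟨i + k, j + l, ?_, Or.inl (CfsgLib.Wr.u_mul_u d i j k l)⟩
          rw [show i + k + (j + l) = i + j + (k + l) by ring]; exact dvd_add hij hkl
        · refine ⟨i + k, j + l, ?_, Or.inr (CfsgLib.Wr.u_mul_v d i j k l)⟩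
          rw [show i + k + (j + l) = i + j + (k + l) by ring]; exact dvd_add hij hkl
        · refine ⟨i + l, j + k, ?_, Or.inr (CfsgLib.Wr.v_mul_u d i j k l)⟩
          rw [show i + l + (j + k) = i + j + (k + l) by ring]; exact dvd_add hij hkl
        · refine ⟨i + l, j + k, ?_, Or.inl (CfsgLib.Wr.v_mul_v d i j k l)⟩
          rw [show i + l + (j + k) = i + j + (k + l) by ring]; exact dvd_add hij hkl
      inv_mem' := by
        rintro _ ⟨i, j, hij, rfl | rfl⟩
        · refine ⟨-i, -j, ?_, Or.inl (CfsgLib.Wr.u_inv d i j)⟩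
          rw [← neg_add]; exact dvd_neg.mpr hij
        · refine ⟨-j, -i, ?_, Or.inr (hvi i j)⟩
          rw [← neg_add, add_comm]; exact dvd_neg.mpr hij }
  have hmemu : ∀ i j : ℤ, d.u i j ∈ H → (d.h : ℤ) ∣ i + j := by
    rintro i j ⟨k, l, hkl, e | e⟩
    · rw [CfsgLib.Wr.u_eq_iff] at e
      obtain ⟨⟨p, hp⟩, q, hq⟩ := e
      obtain ⟨r, hr⟩ := hkl
      exact ⟨r - 2 * p - 2 * q, by linear_combination hr - hp - hq⟩
    · exact absurd e (CfsgLib.Wr.u_ne_v d _ _ _ _)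
  haveI hHn : H.Normal := by
    refine ⟨?_⟩
    rintro _ ⟨i, j, hij, rfl | rfl⟩ g <;> obtain ⟨a, b, rfl | rfl⟩ := CfsgLib.Wr.cases_elem d g
    · rw [CfsgLib.Wr.U_comm d (CfsgLib.Wr.u_mem d a b) (CfsgLib.Wr.u_mem d i j), mul_inv_cancel_right]
      exact ⟨i, j, hij, Or.inl rfl⟩
    · rw [CfsgLib.Wr.conj_u_by_v]
      exact ⟨j, i, by rwa [add_comm], Or.inl rfl⟩
    · rw [CfsgLib.Wr.conj_v_by_u]
      exact ⟨_, _, by rwa [show i + (a - b) + (j - (a - b)) = i + j by ring], Or.inr rfl⟩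
    · rw [hvi, CfsgLib.Wr.v_mul_v, CfsgLib.Wr.u_mul_v]
      exact ⟨_, _, by rwa [show a + j + -b + (b + i + -a) = i + j by ring], Or.inr rfl⟩
  have hcl : Subgroup.closure {g : S | orderOf g = 2} = H := by
    apply le_antisymm
    · rw [Subgroup.closure_le]
      intro g hg
      obtain ⟨hgg, -⟩ := CfsgLib.Involutions.orderOf_eq_two_iff'.mp (show orderOf g = 2 from hg)
      obtain ⟨i, j, rfl | rfl⟩ := CfsgLib.Wr.cases_elem d g
      · obtain ⟨h1, h2⟩ := CfsgLib.Wr.u_mul_self_eq_one d hgg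
        exact ⟨i, j, dvd_add h1 h2, Or.inl rfl⟩
      · exact ⟨i, j, dvd_trans (dvd_mul_left _ 2) ((CfsgLib.Wr.v_mul_self_eq_one_iff d).mp hgg), Or.inr rfl⟩
    · set K := Subgroup.closure {g : S | orderOf g = 2}
      have hv : ∀ i : ℤ, d.v i (-i) ∈ K := fun i => by
        refine Subgroup.subset_closure (CfsgLib.Involutions.orderOf_eq_two_iff'.mpr ⟨?_, fun e => ?_⟩)
        · rw [CfsgLib.Wr.v_mul_self_eq_one_iff, add_neg_cancel]
          exact dvd_zero _
        · exact CfsgLib.Wr.u_ne_v d 0 0 i (-i) (by rw [e, CfsgLib.Wr.u_zero])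
      have hh0 : d.u d.h 0 ∈ K := Subgroup.subset_closure (CfsgLib.Wr.orderOf_half_u d).1
      have hu : ∀ i j : ℤ, (d.h : ℤ) ∣ i + j → d.u i j ∈ K := by
        rintro i j ⟨t, ht⟩
        have h1 : d.u (-j) j ∈ K := by
          have := mul_mem (hv (-j)) (hv 0)
          rwa [CfsgLib.Wr.v_mul_v, neg_zero, add_zero, add_zero, neg_neg] at this
        have h2 := mul_mem (zpow_mem hh0 t) h1
        rw [CfsgLib.Wr.u_zpow, CfsgLib.Wr.u_mul_u, zero_mul, zero_add, show (d.h : ℤ) * t + -j = i by linarith] at h2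
        exact h2
      rintro _ ⟨i, j, hij, rfl | rfl⟩
      · exact hu i j hij
      · have := mul_mem (hu i j hij) (hv 0)
        rwa [CfsgLib.Wr.u_mul_v, neg_zero, add_zero, add_zero] at this
  rw [hcl]
  have htop : H ⊔ Subgroup.zpowers (d.u 1 0) = ⊤ := by
    rw [eq_top_iff]
    rintro g -
    obtain ⟨i, j, rfl | rfl⟩ := CfsgLib.Wr.cases_elem d g
    · have e : d.u i j = d.u (-j) j * (d.u 1 0) ^ (i + j) := by
        rw [CfsgLib.Wr.u_zpow, CfsgLib.Wr.u_mul_u]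
        congr 1 <;> ring
      rw [e]
      exact Subgroup.mul_mem_sup ⟨-j, j, ⟨0, by ring⟩, Or.inl rfl⟩ (zpow_mem (Subgroup.mem_zpowers _) _)
    · have e : d.v i j = (d.u 1 0) ^ (i + j) * d.v (-j) j := by
        rw [CfsgLib.Wr.u_zpow, CfsgLib.Wr.u_mul_v]
        congr 1 <;> ring
      rw [e]
      exact mul_mem (Subgroup.mem_sup_right (zpow_mem (Subgroup.mem_zpowers _) _))
        (Subgroup.mem_sup_left ⟨-j, j, ⟨0, by ring⟩, Or.inr rfl⟩)
  refine ⟨?_, d.u 1 0, htop⟩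
  set P := Subgroup.zpowers (d.u 1 0) with hP
  have h1 : (H.subgroupOf P).index = H.index := by
    rw [← Subgroup.relIndex_top_right H, ← htop, sup_comm, Subgroup.relIndex_sup_right]
    rfl
  have h2 : Nat.card (H.subgroupOf P) = 2 := by
    have e : H ⊓ P = Subgroup.zpowers (d.u d.h 0) := by
      apply le_antisymm
      · rintro g ⟨hg, k, rfl⟩
        replace hg : (d.u 1 0) ^ k ∈ H := hg
        rw [CfsgLib.Wr.u_zpow] at hg
        have h3 := hmemu _ _ hg
        rw [one_mul, zero_mul, add_zero] at h3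
        obtain ⟨t, rfl⟩ := h3
        refine ⟨t, ?_⟩
        show (d.u d.h 0) ^ t = (d.u 1 0) ^ ((d.h : ℤ) * t)
        rw [CfsgLib.Wr.u_zpow, CfsgLib.Wr.u_zpow, one_mul, zero_mul, zero_mul]
      · rw [Subgroup.zpowers_le]
        refine ⟨⟨d.h, 0, by simp, Or.inl rfl⟩, d.h, ?_⟩
        show (d.u 1 0) ^ (d.h : ℤ) = d.u d.h 0
        rw [CfsgLib.Wr.u_zpow, one_mul, zero_mul]
    rw [← Subgroup.inf_subgroupOf_right, Nat.card_congr (Subgroup.subgroupOfEquivOfLe inf_le_right).toEquiv,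
      e, Nat.card_zpowers, (CfsgLib.Wr.orderOf_half_u d).1]
  have h3 := (H.subgroupOf P).card_mul_index
  rw [h1, h2, hP, Nat.card_zpowers, CfsgLib.Wr.orderOf_u_one] at h3
  have h4 := H.card_mul_index
  rw [d.hcard, show H.index = d.h by omega] at h4
  exact Nat.eq_of_mul_eq_mul_right (by omega) (h4.trans (by ring))

end Cfsg.Agent.S1200
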