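import Cfsg.Statements.S1231
-- import your own Cfsg.Agent.* helpers here

set_option autoImplicit false
open Cfsg

namespace Cfsg.Agent.S1231

/-- Let H be a subgroup of the finite group G, p a prime, k ≥ 1, and P a Sylow p-subgroup of H whose p-rank is at least k. Then N_G(X) ≤ H for every subgroup X of P of p-rank at least k if and only if H ∩ gHg⁻¹ has p-rank less than k for every g ∉ H. -/
theorem result {G : Type*} [Group G] [Finite G] {p : ℕ} [Fact p.Prime] (k : ℕ) (hk : 1 ≤ k) (H : Subgroup G) (P : Sylow p ↥H) (hP : ¬ Cfsg.PRankLE p (k - 1) ↥(P : Subgroup ↥H)) : (∀ X : Subgroup G, X ≤ (P : Subgroup ↥H).map H.subtype → ¬ Cfsg.PRankLE p (k - 1) ↥X → Subgroup.normalizer (X : Set G) ≤ H) ↔ (∀ g : G, g ∉ H → Cfsg.PRankLE p (k - 1) ↥(H ⊓ H.map (MulAut.conj g).toMonoidHom)) := by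
  set P' := (P : Subgroup ↥H).map H.subtype with hP'
  have rle : ∀ (X Y : Subgroup G), X ≤ Y → Cfsg.PRankLE p (k - 1) ↥Y → Cfsg.PRankLE p (k - 1) ↥X := by
    intro X Y hXY hY A hA hAp
    haveI := hA
    refine le_of_eq_of_le (Subgroup.card_map_of_injective (Subgroup.inclusion_injective hXY)).symm (hY _ inferInstance ?_)
    rintro _ ⟨a, ha, rfl⟩
    rw [← map_pow, hAp a ha, map_one]
  have rmap : ∀ (X : Subgroup G) (g : G), Cfsg.PRankLE p (k - 1) ↥(X.map (MulAut.conj g).toMonoidHom) →
      Cfsg.PRankLE p (k - 1) ↥X := by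
    intro X g hY A hA hAp
    haveI := hA
    let e := X.equivMapOfInjective (MulAut.conj g).toMonoidHom (MulAut.conj g).injective
    refine le_of_eq_of_le (Subgroup.card_map_of_injective (f := e.toMonoidHom) e.injective).symm (hY _ inferInstance ?_)
    rintro _ ⟨a, ha, rfl⟩
    rw [← map_pow, hAp a ha, map_one]
  constructor
  · intro hΓ g hg A hA hAp
    haveI := hA
    by_contra hlt
    push Not at hlt
    set A' := A.map (H ⊓ H.map (MulAut.conj g).toMonoidHom).subtype with hA'
    have hA'p : IsPGroup p ↥A' := by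
      intro a
      obtain ⟨b, hb, e⟩ := a.2
      refine ⟨1, Subtype.ext ?_⟩
      push_cast
      rw [pow_one, ← e, ← map_pow, hAp b hb, map_one]
    have hA'r : ¬ Cfsg.PRankLE p (k - 1) ↥A' := by
      intro h
      let e := A.equivMapOfInjective (H ⊓ H.map (MulAut.conj g).toMonoidHom).subtype (Subgroup.subtype_injective _)
      have := h ⊤ (by
        refine ⟨⟨fun a b => Subtype.ext ?_⟩⟩
        obtain ⟨a', ha⟩ := e.surjective a.1
        obtain ⟨b', hb⟩ := e.surjective b.1
        show a.1 * b.1 = b.1 * a.1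
        rw [← ha, ← hb, ← map_mul, ← map_mul, hA.is_comm.comm]) (fun a _ => by
        obtain ⟨a', rfl⟩ := e.surjective a
        rw [← map_pow, show a' ^ p = 1 from Subtype.ext (by push_cast; exact hAp _ a'.2), map_one])
      rw [Subgroup.card_top, ← Nat.card_congr e.toEquiv] at this
      exact absurd this (not_le.mpr hlt)
    have key : ∀ n, ∀ (X : Subgroup G) (x : G), Nat.card G - Nat.card ↥X = n → X ≤ P' →
        ¬ Cfsg.PRankLE p (k - 1) ↥X → X.map (MulAut.conj x).toMonoidHom ≤ P' → x ∈ H := by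
      intro n
      induction n using Nat.strong_induction_on with
      | _ n ih =>
        intro X x hn hX hr hx
        subst hn
        have hPp : IsPGroup p ↥P' := P.2.map _
        have hN2 : Subgroup.normalizer ((X.map (MulAut.conj x).toMonoidHom : Subgroup G) : Set G) ≤ H :=
          hΓ _ hx (fun h => hr (rmap X x h))
        by_cases hXP : X = P'
        · subst hXP
          have e : P'.map (MulAut.conj x).toMonoidHom = P' :=
            Subgroup.eq_of_le_of_card_ge hx (Subgroup.card_map_of_injective (MulAut.conj x).injective).ge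
          refine hΓ P' le_rfl hr (Subgroup.mem_normalizer_iff.mpr fun y => ⟨fun hy => e ▸ ⟨y, hy, rfl⟩, fun hy => ?_⟩)
          rw [← e] at hy
          obtain ⟨z, hz, ez⟩ := hy
          exact (MulAut.conj x).injective ez ▸ hz
        set N := P' ⊓ Subgroup.normalizer (X : Set G) with hN
        have hlt : X < N := by
          refine lt_of_le_of_ne (le_inf hX Subgroup.le_normalizer) fun e => hXP ?_
          haveI : Group.IsNilpotent ↥P' := hPp.isNilpotent
          by_contra hne
          have hlt : X.subgroupOf P' < ⊤ :=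
            lt_top_iff_ne_top.mpr fun h => hne (le_antisymm hX (Subgroup.subgroupOf_eq_top.mp h))
          obtain ⟨z, hzN, hzX⟩ := SetLike.exists_of_lt (Group.normalizerCondition_of_isNilpotent _ hlt)
          rw [← Subgroup.subgroupOf_normalizer_eq hX] at hzN
          exact hzX (Subgroup.mem_subgroupOf.mpr (by rw [e, hN]; exact ⟨z.2, hzN⟩))
        set M := N.map (MulAut.conj x).toMonoidHom with hM
        have hMH : M ≤ H :=
          ((Subgroup.map_mono inf_le_right).trans (Subgroup.le_normalizer_map _)).trans hN2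
        have hMp : IsPGroup p ↥(M.subgroupOf H) :=
          ((hPp.to_le inf_le_left).map _).of_equiv (Subgroup.subgroupOfEquivOfLe hMH).symm
        obtain ⟨T, hT⟩ := hMp.exists_le_sylow
        obtain ⟨c, hc⟩ := MulAction.exists_smul_eq ↥H T P
        have hcard : Nat.card X < Nat.card N := by
          rcases lt_or_eq_of_le (Subgroup.card_le_of_le hlt.le) with h | h
          · exact h
          · exact absurd (Subgroup.eq_of_le_of_card_ge hlt.le h.ge) hlt.ne
        have hres := ih _ (by have := Subgroup.card_le_card_group N; omega) N ((c : G) * x) rfl inf_le_left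
          (fun h => hr (rle X N hlt.le h)) (by
            rintro _ ⟨y, hy, rfl⟩
            have hyH : x * y * x⁻¹ ∈ H := hMH ⟨y, hy, rfl⟩
            refine ⟨c * ⟨_, hyH⟩ * c⁻¹, ?_, ?_⟩
            · rw [SetLike.mem_coe, ← hc, Sylow.coe_subgroup_smul]
              exact ⟨⟨_, hyH⟩, hT (Subgroup.mem_subgroupOf.mpr ⟨y, hy, rfl⟩), rfl⟩
            · show (c : G) * (x * y * x⁻¹) * (c : G)⁻¹ = (c : G) * x * y * ((c : G) * x)⁻¹
              group)
        have := H.mul_mem (H.inv_mem c.2) hres
        simpa using this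
    have inP : ∀ B : Subgroup G, B ≤ H → IsPGroup p ↥B → ∃ c : ↥H, B.map (MulAut.conj (c : G)).toMonoidHom ≤ P' := by
      intro B hB hBp
      obtain ⟨T, hT⟩ := (hBp.of_equiv (Subgroup.subgroupOfEquivOfLe hB).symm).exists_le_sylow
      obtain ⟨c, hc⟩ := MulAction.exists_smul_eq ↥H T P
      refine ⟨c, ?_⟩
      rintro _ ⟨y, hy, rfl⟩
      refine ⟨c * ⟨y, hB hy⟩ * c⁻¹, ?_, rfl⟩
      rw [SetLike.mem_coe, ← hc, Sylow.coe_subgroup_smul]
      exact ⟨⟨y, hB hy⟩, hT (Subgroup.mem_subgroupOf.mpr hy), rfl⟩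
    have hAH : A' ≤ H := (Subgroup.map_subtype_le _).trans inf_le_left
    have hBH : A'.map (MulAut.conj g⁻¹).toMonoidHom ≤ H := by
      rintro _ ⟨y, hy, rfl⟩
      obtain ⟨h, hh, e⟩ := ((Subgroup.map_subtype_le A).trans inf_le_right) hy
      rw [← e]
      show g⁻¹ * (g * h * g⁻¹) * g⁻¹⁻¹ ∈ H
      simpa [mul_assoc] using hh
    obtain ⟨c, hc⟩ := inP A' hAH hA'p
    obtain ⟨d, hd⟩ := inP _ hBH (hA'p.map _)
    have hmem := key _ _ ((d : G) * g⁻¹ * (c : G)⁻¹) rfl hc (fun h => hA'r (rmap _ _ h)) (by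
      rintro _ ⟨_, ⟨y, hy, rfl⟩, rfl⟩
      exact hd ⟨g⁻¹ * y * g⁻¹⁻¹, ⟨y, hy, rfl⟩, by simp [mul_assoc]⟩)
    refine hg ?_
    have := H.inv_mem (H.mul_mem (H.mul_mem (H.inv_mem d.2) hmem) c.2)
    simpa [mul_assoc] using this
  · intro h X hX hr g hg
    by_contra hgH
    refine hr (rle X _ (show X ≤ H ⊓ H.map (MulAut.conj g).toMonoidHom from fun z hz => Subgroup.mem_inf.mpr ⟨Subgroup.map_subtype_le _ (hX hz), ⟨g⁻¹ * z * g, ?_, ?_⟩⟩) (h g hgH))
    · exact Subgroup.map_subtype_le _ (hX ((Subgroup.mem_normalizer_iff''.mp hg z).mp hz))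
    · show g * (g⁻¹ * z * g) * g⁻¹ = z
      group

end Cfsg.Agent.S1231
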