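import Cfsg.Statements.S1233
import Cfsg.Agent.Lib.ExtraRank.Main

set_option autoImplicit false
open Cfsg

namespace Cfsg.Agent.S1233

open QuaternionGroup in
private theorem q8_facts : (a 1 : QuaternionGroup 2) * a 1 = a 2 ∧ (xa 0 : QuaternionGroup 2) * xa 0 = a 2 ∧
    (xa 0 : QuaternionGroup 2) * a 1 = a 1 * xa 0 * a 2 ∧ (a 2 : QuaternionGroup 2) * a 2 = 1 ∧
    (a 2 : QuaternionGroup 2) ≠ 1 ∧ (∀ g : QuaternionGroup 2, (∀ k, g * k = k * g) → g = 1 ∨ g = a 2) ∧
    ∀ g : QuaternionGroup 2, ∃ m n : Fin 4, g = (xa 0) ^ (m : ℕ) * (a 1) ^ (n : ℕ) := by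
  decide

/-- Let S be a finite 2-group and Q a subgroup of order 32 generated by two elementwise-commuting subgroups Q₁, Q₂ each isomorphic to the quaternion group of order 8 (so Q = Q₁ ∗ Q₂). If C_S(Q) ≤ Q, then every section of S has 2-rank at most 4. -/
theorem result {S : Type*} [Group S] [Finite S] (hS : IsPGroup 2 S) (Q Q₁ Q₂ : Subgroup S) (e₁ : Q₁ ≃* QuaternionGroup 2) (e₂ : Q₂ ≃* QuaternionGroup 2) (hcomm : ∀ a ∈ Q₁, ∀ b ∈ Q₂, a * b = b * a) (hQ : Q₁ ⊔ Q₂ = Q) (hQ32 : Nat.card Q = 32) (hC : Subgroup.centralizer (Q : Set S) ≤ Q) : Cfsg.SectionalPRankLE 2 4 S := by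
  haveI : Fact (Nat.Prime 2) := ⟨Nat.prime_two⟩
  obtain ⟨f1, f2, f3, f4, f5, f6, f7⟩ := q8_facts
  let u : (QuaternionGroup 2) →* S := Q₁.subtype.comp e₁.symm.toMonoidHom
  let v : (QuaternionGroup 2) →* S := Q₂.subtype.comp e₂.symm.toMonoidHom
  have hu : ∀ g, u g ∈ Q₁ := fun g => (e₁.symm g).2
  have hv : ∀ g, v g ∈ Q₂ := fun g => (e₂.symm g).2
  have huv : ∀ g k, u g * v k = v k * u g := fun g k => hcomm _ (hu g) _ (hv k)
  have hui : Function.Injective u := Q₁.subtype_injective.comp e₁.symm.injective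
  have hvi : Function.Injective v := Q₂.subtype_injective.comp e₂.symm.injective
  have hus : ∀ x ∈ Q₁, ∃ g, u g = x := fun x hx => ⟨e₁ ⟨x, hx⟩, by simp [u]⟩
  have hvs : ∀ x ∈ Q₂, ∃ g, v g = x := fun x hx => ⟨e₂ ⟨x, hx⟩, by simp [v]⟩
  let Φ : QuaternionGroup 2 × QuaternionGroup 2 →* S := MonoidHom.noncommCoprod u v huv
  have hQmem : ∀ x, x ∈ Q ↔ ∃ g k, u g * v k = x := by
    intro x
    constructor
    · intro hx
      rw [← hQ] at hx
      have hle : Q₁ ⊔ Q₂ ≤ Φ.range := sup_le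
        (fun y hy => by obtain ⟨g, rfl⟩ := hus y hy; exact ⟨(g, 1), show u g * v 1 = u g by rw [map_one, mul_one]⟩)
        (fun y hy => by obtain ⟨g, rfl⟩ := hvs y hy; exact ⟨(1, g), show u 1 * v g = v g by rw [map_one, one_mul]⟩)
      obtain ⟨⟨g, k⟩, e⟩ := hle hx
      exact ⟨g, k, e⟩
    · rintro ⟨g, k, rfl⟩
      rw [← hQ]
      exact mul_mem (Subgroup.mem_sup_left (hu g)) (Subgroup.mem_sup_right (hv k))
  -- the two central involutions agree
  have hzz : u (QuaternionGroup.a 2) = v (QuaternionGroup.a 2) := by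
    by_contra hne
    let F : QuaternionGroup 2 × QuaternionGroup 2 → Q := fun p =>
      ⟨u p.1 * v p.2, (hQmem _).2 ⟨_, _, rfl⟩⟩
    have hF : Function.Injective F := by
      rintro ⟨g, k⟩ ⟨g', k'⟩ e
      have e1 : u g * v k = u g' * v k' := congrArg Subtype.val e
      have e2 : u (g'⁻¹ * g) = v (k' * k⁻¹) := by
        rw [map_mul, map_mul, map_inv, map_inv, eq_mul_inv_iff_mul_eq, mul_assoc, e1, inv_mul_cancel_left]
      have e3 : g'⁻¹ * g = 1 := by
        have hcen : ∀ l, (g'⁻¹ * g) * l = l * (g'⁻¹ * g) := fun l => hui (by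
          rw [map_mul, map_mul u l, e2]; exact (huv l _).symm)
        have hcen' : ∀ l, (k' * k⁻¹) * l = l * (k' * k⁻¹) := fun l => hvi (by
          rw [map_mul, map_mul v l, ← e2]; exact huv _ l)
        rcases f6 _ hcen with h | h
        · exact h
        · rcases f6 _ hcen' with h' | h'
          · exact hui (by rw [e2, h', map_one, map_one])
          · exact absurd (show u (QuaternionGroup.a 2) = v (QuaternionGroup.a 2) by
              rw [h, h'] at e2; exact e2) hne
      have e4 : g = g' := (inv_mul_eq_one.1 e3).symm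
      subst e4
      exact Prod.ext rfl (hvi (mul_left_cancel e1))
    have := Nat.card_le_card_of_injective F hF
    simp only [Nat.card_prod, QuaternionGroup.card, Nat.card_eq_fintype_card (α := QuaternionGroup 2), hQ32] at this
    omega
  have hzc : u (QuaternionGroup.a 2) ∈ Subgroup.center S := by
    haveI : Nontrivial S := ⟨⟨u (QuaternionGroup.a 2), 1, fun e => f5 (hui (by rw [e, map_one]))⟩⟩
    haveI := hS.center_nontrivial
    obtain ⟨⟨c, hc⟩, hc1⟩ := exists_ne (1 : Subgroup.center S)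
    have hcQ : c ∈ Q := hC (Subgroup.mem_centralizer_iff.2 fun y _ => Subgroup.mem_center_iff.1 hc y)
    obtain ⟨g, k, rfl⟩ := (hQmem c).1 hcQ
    have hg : g = 1 ∨ g = QuaternionGroup.a 2 := f6 g fun l => hui (by
      have := Subgroup.mem_center_iff.1 hc (u l)
      rw [← mul_assoc, mul_assoc (u g), ← huv l k, ← mul_assoc] at this
      rw [map_mul, map_mul]
      exact (mul_right_cancel this).symm)
    have hk : k = 1 ∨ k = QuaternionGroup.a 2 := f6 k fun l => hvi (by
      have := Subgroup.mem_center_iff.1 hc (v l)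
      rw [← mul_assoc, ← huv g l, mul_assoc, mul_assoc] at this
      rw [map_mul, map_mul]
      exact (mul_left_cancel this).symm)
    rcases hg with rfl | rfl <;> rcases hk with rfl | rfl
    · exact absurd (Subtype.ext (by simp)) hc1
    · simpa [hzz] using hc
    · simpa using hc
    · exact absurd (Subtype.ext (by
        show u (QuaternionGroup.a 2) * v (QuaternionGroup.a 2) = 1
        rw [← hzz, ← map_mul, f4, map_one])) hc1
  have hmem₁ : ∀ g, u g ∈ Q := fun g => hQ ▸ Subgroup.mem_sup_left (hu g)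
  have hmem₂ : ∀ g, v g ∈ Q := fun g => hQ ▸ Subgroup.mem_sup_right (hv g)
  have h : CfsgLib.ExtraRank.Setup Q (u (QuaternionGroup.a 2)) (u (QuaternionGroup.a 1)) (u (QuaternionGroup.xa 0))
      (v (QuaternionGroup.a 1)) (v (QuaternionGroup.xa 0)) :=
    { hS := hS
      hQ32 := hQ32
      hC := hC
      zz := by rw [← map_mul, f4, map_one]
      z1 := fun e => f5 (hui (by rw [e, map_one]))
      zc := hzc
      mem := ⟨hmem₁ _, hmem₁ _, hmem₁ _, hmem₂ _, hmem₂ _⟩
      ii₁ := by rw [← map_mul, f1]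
      jj₁ := by rw [← map_mul, f2]
      ji₁ := by rw [← map_mul, ← map_mul, ← map_mul, f3]
      ii₂ := by rw [← map_mul, f1, hzz]
      jj₂ := by rw [← map_mul, f2, hzz]
      ji₂ := by rw [hzz, ← map_mul, ← map_mul, ← map_mul, f3]
      comm := ⟨huv _ _, huv _ _, huv _ _, huv _ _⟩
      gen := by
        intro x hx
        obtain ⟨g, k, rfl⟩ := (hQmem x).1 hx
        obtain ⟨m, n, rfl⟩ := f7 g
        obtain ⟨m', n', rfl⟩ := f7 k
        simp only [map_mul, map_pow]
        refine mul_mem (mul_mem (pow_mem ?_ _) (pow_mem ?_ _)) (mul_mem (pow_mem ?_ _) (pow_mem ?_ _)) <;>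
          exact Subgroup.subset_closure (by simp) }
  exact h.sectional_rank

end Cfsg.Agent.S1233
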