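import Cfsg.Statements.S1235
import Cfsg.Agent.Lib.SixteenRank.Reduce

set_option autoImplicit false
open Cfsg

namespace Cfsg.Agent.S1235

/-- Let G be a finite group, x an involution and T ≤ G a Sylow 2-subgroup of C_G(x) (T ≤ C_G(x) with |C_G(x) : T| odd) which is the internal direct product of a subgroup D that is dihedral (of order ≥ 4) or quasi-dihedral and a Klein four-subgroup B. Suppose that for every involution b ∈ B, T ≤ C_G(b) with |C_G(b) : T| odd. Then every section of G has 2-rank at most 4. -/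
theorem result {G : Type*} [Group G] [Finite G] (x : G) (hx : orderOf x = 2) (T D B : Subgroup G) (hT : IsPGroup 2 T) (hTx : T ≤ Subgroup.centralizer ({x} : Set G)) (hTxi : Odd (T.relIndex (Subgroup.centralizer ({x} : Set G)))) (hprod : Cfsg.IsInternalDirectProduct D B T) (hD : (∃ m : ℕ, 2 ≤ m ∧ Nonempty (D ≃* DihedralGroup m)) ∨ Cfsg.IsQuasiDihedral D) (hB : IsKleinFour B) (hTb : ∀ b ∈ B, orderOf b = 2 → T ≤ Subgroup.centralizer ({b} : Set G) ∧ Odd (T.relIndex (Subgroup.centralizer ({b} : Set G)))) : Cfsg.SectionalPRankLE 2 4 G := by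
  haveI : Fact (Nat.Prime 2) := ⟨Nat.prime_two⟩
  obtain ⟨P, hTP⟩ := hT.exists_le_sylow
  have hB2 : ∀ b ∈ B, b * b = 1 := fun b hb => by
    have e := Monoid.pow_exponent_eq_one (⟨b, hb⟩ : B)
    rw [hB.exponent_two, pow_two] at e
    exact congrArg Subtype.val e
  have hC : ∀ b ∈ B, b ≠ 1 → (P : Subgroup G) ⊓ Subgroup.centralizer ({b} : Set G) = T := fun b hb hb1 => by
    obtain ⟨hle, hodd⟩ := hTb b hb (orderOf_eq_prime (by rw [pow_two, hB2 b hb]) hb1)
    refine le_antisymm (Subgroup.relIndex_eq_one.mp ?_) (le_inf hTP hle)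
    have hR : IsPGroup 2 ↥((P : Subgroup G) ⊓ Subgroup.centralizer ({b} : Set G)) := P.2.to_le inf_le_left
    obtain ⟨n, hn⟩ := hR.index (T.subgroupOf ((P : Subgroup G) ⊓ Subgroup.centralizer ({b} : Set G)))
    have hn' : T.relIndex ((P : Subgroup G) ⊓ Subgroup.centralizer ({b} : Set G)) = 2 ^ n := hn
    rw [← Subgroup.relIndex_mul_relIndex _ _ _ (le_inf hTP hle) inf_le_right, hn'] at hodd
    rcases n with - | n
    · simpa using hn'
    · have := Nat.Odd.of_mul_left hodd
      rw [Nat.odd_pow_iff (by omega)] at this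
      exact absurd this (by decide)
  refine CfsgLib.SixteenRank.sectional_of_sylow P ?_
  obtain ⟨hdec, hcardT⟩ := CfsgLib.SixteenRank.card_prod hprod
  rw [hB.card_four] at hcardT
  have finish : CfsgLib.SixteenRank.CyclicSquares D → ∀ c ∈ D, Nat.card D ≤ 2 * orderOf c →
      Cfsg.SectionalPRankLE 2 4 ↥(P : Subgroup G) := by
    intro hCS c hc hle
    rcases hTP.eq_or_lt with e | hlt
    · refine CfsgLib.SixteenRank.sectional_of_cyclic_index (⟨c, hTP (hprod.1 hc)⟩ : ↥(P : Subgroup G)) ?_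
      rw [Subgroup.orderOf_mk, ← e, hcardT]
      omega
    · exact (CfsgLib.SixteenRank.false_of_cyclicSquares P.2 hlt hprod hB hCS hC).elim
  rcases hD with ⟨m, hm, ⟨e⟩⟩ | hqd
  · haveI : NeZero m := ⟨by omega⟩
    have hcD : Nat.card D = 2 * m := (Nat.card_congr e.toEquiv).trans DihedralGroup.nat_card
    obtain ⟨k, hk⟩ := IsPGroup.iff_card.mp hT
    obtain ⟨j, -, hj⟩ := (Nat.dvd_prime_pow Nat.prime_two).mp (show m ∣ 2 ^ k from ⟨8, by rw [← hk, hcardT, hcD]; ring⟩)
    rcases (show m = 2 ∨ 4 ∣ m by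
      rcases j with - | - | j
      · simp at hj; omega
      · exact Or.inl (by simpa using hj)
      · exact Or.inr (hj ▸ ⟨2 ^ j, by ring⟩)) with rfl | h4
    · have hsq : ∀ u ∈ T, u * u = 1 := fun u hu => by
        obtain ⟨d, hd, b, hb, rfl⟩ := hdec u hu
        have h2 : ∀ w : DihedralGroup 2, w * w = 1 := by decide
        have hd2 : d * d = 1 := congrArg Subtype.val (e.injective (by rw [map_mul, h2, map_one]) :
          (⟨d, hd⟩ : D) * ⟨d, hd⟩ = 1)
        calc d * b * (d * b) = d * (b * d) * b := by group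
          _ = d * d * (b * b) := by rw [← hprod.2.2.1 d hd b hb]; group
          _ = 1 := by rw [hd2, hB2 b hb, one_mul]
      have hinv : ∀ a ∈ T, a⁻¹ = a := fun a ha => inv_eq_of_mul_eq_one_right (hsq a ha)
      refine CfsgLib.SixteenRank.Setup.sectional_rank (T := T.subgroupOf P) (B := B.subgroupOf P)
        ⟨P.2, ?_, fun a ha => Subtype.ext (hsq a ha), ?_, fun a ha => hprod.2.1 ha, ?_, ?_⟩
      · intro a ha b hb
        refine Subtype.ext (show (a : G) * b = b * a from ?_)
        have h := hinv _ (T.mul_mem ha hb)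
        rwa [mul_inv_rev, hinv _ ha, hinv _ hb, eq_comm] at h
      · rw [Nat.card_congr (Subgroup.subgroupOfEquivOfLe hTP).toEquiv, hcardT, hcD]
      · rw [Nat.card_congr (Subgroup.subgroupOfEquivOfLe (hprod.2.1.trans hTP)).toEquiv, hB.card_four]
      · intro b hb hb1
        ext u
        rw [Subgroup.mem_centralizer_singleton_iff, Subgroup.mem_subgroupOf, ← hC b hb fun e => hb1 (Subtype.ext e),
          Subgroup.mem_inf, Subgroup.mem_centralizer_singleton_iff]
        exact ⟨fun e => ⟨u.2, congrArg Subtype.val e⟩, fun e => Subtype.ext e.2⟩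
    · refine finish (CfsgLib.SixteenRank.cyclicSquares_dihedral h4 (by omega) e) _ (e.symm (DihedralGroup.r 1)).2 ?_
      rw [Subgroup.orderOf_coe, MulEquiv.orderOf_eq, DihedralGroup.orderOf_r_one, hcD]
  · obtain ⟨n, -, -, d, -⟩ := CfsgLib.QD.exists_data hqd
    refine finish (CfsgLib.SixteenRank.cyclicSquares_qd hqd) _ d.x.2 ?_
    rw [← d.X.card_mul_index, CfsgLib.QD.index_X d, CfsgLib.QD.card_X d, Subgroup.orderOf_coe, d.hx, mul_comm]

end Cfsg.Agent.S1235
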