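import Cfsg.Statements.S1236
import Cfsg.Agent.Lib.QuasiDihedralSubgroups
import Mathlib.GroupTheory.SpecificGroups.Dihedral
-- import your own Cfsg.Agent.* helpers here

set_option autoImplicit false
open Cfsg

namespace Cfsg.Agent.S1236

theorem dihedral_centralizer_le {m : ℕ} [NeZero m] {T : Subgroup (DihedralGroup m)} (hT : IsKleinFour T) :
    Subgroup.centralizer (T : Set (DihedralGroup m)) ≤ T := by
  classical
  haveI := hT
  -- a reflection in `T`
  obtain ⟨i, hi⟩ : ∃ i, DihedralGroup.sr i ∈ T := by
    by_contra hcon
    push Not at hcon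
    have hsub : ∀ g ∈ T, ∃ j : ZMod m, g = DihedralGroup.r j ∧ j + j = 0 := by
      intro g hg
      rcases g with j | j
      · refine ⟨j, rfl, ?_⟩
        have h := CfsgLib.QD.klein_mul_self hT hg
        rw [DihedralGroup.r_mul_r, DihedralGroup.one_def] at h
        exact DihedralGroup.r.inj h
      · exact absurd hg (hcon j)
    have h2 : Nat.card T ≤ 2 := by
      calc Nat.card T = (T : Set (DihedralGroup m)).ncard := Nat.card_coe_set_eq _
        _ ≤ (DihedralGroup.r '' {j : ZMod m | j + j = 0}).ncard := Set.ncard_le_ncard (fun g hg => by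
            obtain ⟨j, rfl, hj⟩ := hsub g hg
            exact ⟨j, hj, rfl⟩)
        _ ≤ ({j : ZMod m | j + j = 0}).ncard := Set.ncard_image_le
        _ ≤ ((({0, ((m / 2 : ℕ) : ZMod m)} : Finset (ZMod m))) : Set (ZMod m)).ncard :=
            Set.ncard_le_ncard fun j hj => by
              replace hj : j + j = 0 := hj
              rw [← ZMod.natCast_zmod_val j, ← Nat.cast_add, ZMod.natCast_eq_zero_iff] at hj
              obtain ⟨c, hc⟩ := hj
              have hlt := ZMod.val_lt j
              have hc2 : c < 2 := by
                by_contra hcon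
                have : m * 2 ≤ m * c := Nat.mul_le_mul_left m (not_lt.mp hcon)
                omega
              interval_cases c
              · have : j.val = 0 := by omega
                rw [Finset.mem_coe, Finset.mem_insert]
                left
                rw [← ZMod.natCast_zmod_val j, this, Nat.cast_zero]
              · have h3 : j.val = m / 2 := by omega
                rw [Finset.mem_coe, Finset.mem_insert, Finset.mem_singleton]
                right
                rw [← h3, ZMod.natCast_zmod_val]
        _ ≤ 2 := by rw [Set.ncard_coe_finset]; exact Finset.card_le_two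
    rw [IsKleinFour.card_four] at h2
    omega
  have hle : Subgroup.centralizer ({DihedralGroup.sr i} : Set (DihedralGroup m)) = T := by
    refine (Subgroup.eq_of_le_of_card_ge (fun g hg => Subgroup.mem_centralizer_singleton_iff.mpr
      (CfsgLib.QD.klein_comm hT hg hi)) ?_).symm
    rw [@IsKleinFour.card_four T _ hT]
    have hz : ∀ j : ZMod m, j + j = 0 → j = 0 ∨ j = ((m / 2 : ℕ) : ZMod m) := fun j hj => by
      rw [← ZMod.natCast_zmod_val j, ← Nat.cast_add, ZMod.natCast_eq_zero_iff] at hj
      obtain ⟨c, hc⟩ := hj
      have hlt := ZMod.val_lt j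
      have hc2 : c < 2 := by
        by_contra hcon
        have : m * 2 ≤ m * c := Nat.mul_le_mul_left m (not_lt.mp hcon)
        omega
      interval_cases c
      · left
        have : j.val = 0 := by omega
        rw [← ZMod.natCast_zmod_val j, this, Nat.cast_zero]
      · right
        have h3 : j.val = m / 2 := by omega
        rw [← h3, ZMod.natCast_zmod_val]
    let F : Finset (DihedralGroup m) := {DihedralGroup.r 0, DihedralGroup.r ((m / 2 : ℕ) : ZMod m),
      DihedralGroup.sr i, DihedralGroup.sr (i + ((m / 2 : ℕ) : ZMod m))}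
    calc Nat.card (Subgroup.centralizer ({DihedralGroup.sr i} : Set (DihedralGroup m)))
        = ((Subgroup.centralizer ({DihedralGroup.sr i} : Set (DihedralGroup m)) : Subgroup _) : Set (DihedralGroup m)).ncard :=
          Nat.card_coe_set_eq _
      _ ≤ (F : Set (DihedralGroup m)).ncard := Set.ncard_le_ncard (fun g hg => by
          replace hg : g ∈ Subgroup.centralizer ({DihedralGroup.sr i} : Set (DihedralGroup m)) := hg
          rw [Subgroup.mem_centralizer_singleton_iff] at hg
          rcases g with j | j
          · rw [DihedralGroup.r_mul_sr, DihedralGroup.sr_mul_r] at hg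
            have h := DihedralGroup.sr.inj hg
            rcases hz j (by linear_combination -h) with e | e <;> simp [F, e]
          · rw [DihedralGroup.sr_mul_sr, DihedralGroup.sr_mul_sr] at hg
            have h := DihedralGroup.r.inj hg
            rcases hz (j - i) (by linear_combination -h) with e | e
            · simp [F, sub_eq_zero.mp e]
            · simp [F, show j = i + ((m / 2 : ℕ) : ZMod m) by rw [← e]; ring])
      _ ≤ 4 := by rw [Set.ncard_coe_finset]; exact Finset.card_le_four
  exact (Subgroup.centralizer_le (Set.singleton_subset_iff.mpr hi)).trans_eq hle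

/-- Let R be a finite group, t a central involution of R such that R ⧸ ⟨t⟩ is dihedral (of order ≥ 4) or quasi-dihedral, and A ≤ R an elementary abelian subgroup of order 8 containing t. Then C_R(A) = A. -/
theorem result {R : Type*} [Group R] [Finite R] (t : R) (ht : orderOf t = 2) (htz : t ∈ Subgroup.center R) [(Subgroup.zpowers t).Normal] (hq : (∃ m : ℕ, 2 ≤ m ∧ Nonempty (R ⧸ Subgroup.zpowers t ≃* DihedralGroup m)) ∨ Cfsg.IsQuasiDihedral (R ⧸ Subgroup.zpowers t)) (A : Subgroup R) (hA : Cfsg.IsElementaryAbelian 2 A) (hA8 : Nat.card A = 8) (htA : t ∈ A) : Subgroup.centralizer (A : Set R) = A := by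
  set f := QuotientGroup.mk' (Subgroup.zpowers t)
  haveI := hA.1
  have hzA : Subgroup.zpowers t ≤ A := Subgroup.zpowers_le.mpr htA
  have hcard : Nat.card (A.map f) = 4 := by
    have h := ((Subgroup.zpowers t).subgroupOf A).card_mul_index
    have e1 : Nat.card ((Subgroup.zpowers t).subgroupOf A) = 2 := by
      rw [Nat.card_congr (Subgroup.subgroupOfEquivOfLe hzA).toEquiv, Nat.card_zpowers, ht]
    have e2 : ((Subgroup.zpowers t).subgroupOf A).index = Nat.card (A.map f) := by
      have hker : (f.comp A.subtype).ker = (Subgroup.zpowers t).subgroupOf A := by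
        ext a
        simp [f, Subgroup.mem_subgroupOf, MonoidHom.mem_ker]
      rw [← hker, Subgroup.index_ker, MonoidHom.range_comp, Subgroup.range_subtype]
    rw [e1, e2, hA8] at h
    omega
  have hT : IsKleinFour (A.map f) := by
    refine ⟨hcard, ?_⟩
    haveI : Nontrivial (A.map f) := Finite.one_lt_card_iff_nontrivial.mp (by omega)
    rw [Monoid.exponent_eq_prime_iff Nat.prime_two]
    rintro ⟨_, a, ha, rfl⟩ hne
    refine orderOf_eq_prime ?_ hne
    apply Subtype.ext
    show f a ^ 2 = 1
    rw [← map_pow, hA.2 a ha, map_one]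
  have hle : Subgroup.centralizer ((A.map f : Subgroup (R ⧸ Subgroup.zpowers t)) : Set (R ⧸ Subgroup.zpowers t)) ≤ A.map f := by
    rcases hq with ⟨m, hm, ⟨e⟩⟩ | hqd
    · haveI : NeZero m := ⟨by omega⟩
      have hT' : IsKleinFour ((A.map f).map e.toMonoidHom) := by
        refine ⟨?_, ?_⟩
        · rw [← Nat.card_congr (Subgroup.equivMapOfInjective (A.map f) _ e.injective).toEquiv, hcard]
        · rw [← Monoid.exponent_eq_of_mulEquiv (Subgroup.equivMapOfInjective (A.map f) _ e.injective)]
          exact hT.exponent_two
      intro g hg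
      have h2 : e g ∈ (A.map f).map e.toMonoidHom := by
        refine dihedral_centralizer_le hT' ?_
        rw [Subgroup.mem_centralizer_iff]
        rintro _ ⟨a, ha, rfl⟩
        rw [MulEquiv.coe_toMonoidHom, ← map_mul, ← map_mul, Subgroup.mem_centralizer_iff.mp hg a ha]
      obtain ⟨a, ha, hea⟩ := h2
      exact e.injective hea ▸ ha
    · obtain ⟨n, -, -, d, -⟩ := CfsgLib.QD.exists_data hqd
      obtain ⟨j, hj, e, -⟩ := CfsgLib.QD.klein_eq d hT
      exact (Subgroup.centralizer_le (Set.singleton_subset_iff.mpr hj)).trans_eq e.symm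
  refine le_antisymm (fun g hg => ?_) (fun a ha => Subgroup.mem_centralizer_iff.mpr fun b hb => setLike_mul_comm hb ha)
  have h2 : f g ∈ A.map f := hle (Subgroup.mem_centralizer_iff.mpr (by
    rintro _ ⟨a, ha, rfl⟩
    rw [← map_mul, ← map_mul, Subgroup.mem_centralizer_iff.mp hg a ha]))
  obtain ⟨a, ha, hag⟩ := h2
  have h3 : a⁻¹ * g ∈ Subgroup.zpowers t := by
    rw [← QuotientGroup.eq]
    exact hag
  simpa using mul_mem ha (hzA h3)

end Cfsg.Agent.S1236
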