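import Cfsg.Statements.S1241
import Cfsg.Agent.Lib.TwoFusion.TransferControl
-- import your own Cfsg.Agent.* helpers here

set_option autoImplicit false
open Cfsg

namespace Cfsg.Agent.S1241

/-- Let G be a finite group, p a prime, H a subgroup of index prime to p, K a subgroup of H normal in H with H/K commutative, and g ∈ H ∖ K an element of p-power order such that for all integers m and all a ∈ G with a g^m a⁻¹ ∈ H one has a g^m a⁻¹ ∈ g^m K. Then g ∉ G'. -/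
theorem result {G : Type*} [Group G] [Finite G] {p : ℕ} [Fact p.Prime] (H K : Subgroup G) (hHK : K ≤ H) (hKn : (K.subgroupOf H).Normal) (hab : ∀ x ∈ H, ∀ y ∈ H, x * y * x⁻¹ * y⁻¹ ∈ K) (hidx : Nat.Coprime p H.index) (g : G) (hgH : g ∈ H) (hgK : g ∉ K) (hgp : ∃ k : ℕ, orderOf g = p ^ k) (hctrl : ∀ (m : ℤ) (a : G), a * g ^ m * a⁻¹ ∈ H → (a * g ^ m * a⁻¹) * (g ^ m)⁻¹ ∈ K) : g ∉ commutator G := by
  haveI := hKn
  set π := QuotientGroup.mk' (K.subgroupOf H) with hπ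
  have hcomm : ∀ a b : ↥H ⧸ K.subgroupOf H, a * b = b * a := by
    intro a b
    obtain ⟨x, rfl⟩ := QuotientGroup.mk'_surjective _ a
    obtain ⟨y, rfl⟩ := QuotientGroup.mk'_surjective _ b
    rw [← map_mul, ← map_mul]
    refine (QuotientGroup.mk'_eq_mk' _).mpr ⟨(x * y)⁻¹ * (y * x), ?_, by group⟩
    rw [Subgroup.mem_subgroupOf]
    have := hab (y : G)⁻¹ (H.inv_mem y.2) (x : G)⁻¹ (H.inv_mem x.2)
    push_cast
    simpa [mul_assoc] using this
  letI : CommGroup (↥H ⧸ K.subgroupOf H) := { (inferInstance : Group (↥H ⧸ K.subgroupOf H)) with mul_comm := hcomm }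
  have key : ∀ (n : ℕ) (a : G) (ha : a⁻¹ * g ^ n * a ∈ H), π ⟨a⁻¹ * g ^ n * a, ha⟩ = π ⟨g, hgH⟩ ^ n := by
    intro n a ha
    rw [← map_pow]
    refine ((QuotientGroup.mk'_eq_mk' (K.subgroupOf H) (x := (⟨g, hgH⟩ : H) ^ n) (y := ⟨a⁻¹ * g ^ n * a, ha⟩)).mpr
      ⟨((⟨g, hgH⟩ : H) ^ n)⁻¹ * ⟨a⁻¹ * g ^ n * a, ha⟩, ?_, mul_inv_cancel_left _ _⟩).symm
    · rw [Subgroup.mem_subgroupOf]
      have h1 := hctrl n a⁻¹ (by rw [inv_inv, zpow_natCast]; exact ha)
      rw [inv_inv, zpow_natCast] at h1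
      have h2 : (g ^ n)⁻¹ * (a⁻¹ * g ^ n * a * (g ^ n)⁻¹) * g ^ n ∈ K := by
        have hn := hKn.conj_mem ⟨_, hHK h1⟩ (Subgroup.mem_subgroupOf.mpr h1) ⟨g ^ n, H.pow_mem hgH n⟩⁻¹
        have hn' := Subgroup.mem_subgroupOf.mp hn
        push_cast at hn'
        rwa [inv_inv] at hn'
      push_cast
      simpa [mul_assoc] using h2
  intro hgc
  haveI : H.FiniteIndex := inferInstance
  have h1 := CfsgLib.TransferControlOne.transfer_eq_pow_index π hgH key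
  rw [(MonoidHom.mem_ker.mp (Abelianization.commutator_subset_ker _ hgc) : MonoidHom.transfer π g = 1)] at h1
  obtain ⟨k, hk⟩ := hgp
  have h2 : π ⟨g, hgH⟩ = 1 := by
    refine orderOf_eq_one_iff.mp (Nat.eq_one_of_dvd_coprimes (hidx.pow_left k) ?_ (orderOf_dvd_of_pow_eq_one h1.symm))
    rw [← hk]
    exact (orderOf_map_dvd π (⟨g, hgH⟩ : H)).trans (by rw [Subgroup.orderOf_mk])
  exact hgK (Subgroup.mem_subgroupOf.mp ((QuotientGroup.eq_one_iff _).mp h2))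

end Cfsg.Agent.S1241
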