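import Cfsg.Statements.S1242
import Cfsg.Agent.Lib.TwoFusion.TransferControl
-- import your own Cfsg.Agent.* helpers here

set_option autoImplicit false
open Cfsg

namespace Cfsg.Agent.S1242

/-- Let G be a finite group, p a prime and H a subgroup of index prime to p such that any two elements of H of p-power order that are conjugate in G are conjugate in H. Then (O^p(G)·G') ∩ H = O^p(H)·H', where O^p denotes the subgroup generated by the elements of order prime to p. -/
theorem result {G : Type*} [Group G] [Finite G] {p : ℕ} [Fact p.Prime] (H : Subgroup G) (hidx : Nat.Coprime p H.index) (hfus : ∀ g ∈ H, (∃ k : ℕ, orderOf g = p ^ k) → ∀ a : G, a * g * a⁻¹ ∈ H → ∃ h ∈ H, h * g * h⁻¹ = a * g * a⁻¹) : (Cfsg.pResidual p G ⊔ commutator G) ⊓ H = (Cfsg.pResidual p ↥H ⊔ commutator ↥H).map H.subtype := by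
  set N := Cfsg.pResidual p ↥H ⊔ commutator ↥H with hN
  haveI : N.Normal := inferInstance
  set π := QuotientGroup.mk' N with hπ
  have hcomm : ∀ a b : ↥H ⧸ N, a * b = b * a := by
    intro a b
    obtain ⟨x, rfl⟩ := QuotientGroup.mk'_surjective _ a
    obtain ⟨y, rfl⟩ := QuotientGroup.mk'_surjective _ b
    rw [← map_mul, ← map_mul]
    refine (QuotientGroup.mk'_eq_mk' _).mpr ⟨(x * y)⁻¹ * (y * x), ?_, by group⟩
    refine Subgroup.mem_sup_right ?_
    rw [show (x * y)⁻¹ * (y * x) = commutatorElement.bracket y⁻¹ x⁻¹ by rw [commutatorElement_def]; group]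
    exact Subgroup.commutator_mem_commutator (Subgroup.mem_top _) (Subgroup.mem_top _)
  letI : CommGroup (↥H ⧸ N) := { (inferInstance : Group (↥H ⧸ N)) with mul_comm := hcomm }
  haveI : H.FiniteIndex := inferInstance
  have hpow : ∀ (x : ↥H), (orderOf x).Coprime p → π x = 1 := fun x hx =>
    (QuotientGroup.eq_one_iff x).mpr (Subgroup.mem_sup_left (Subgroup.subset_closure hx))
  have hAp : ∀ a : ↥H ⧸ N, ∃ k : ℕ, orderOf a ∣ p ^ k := by
    intro a
    obtain ⟨x, rfl⟩ := QuotientGroup.mk'_surjective _ a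
    obtain ⟨i, ⟨k, hk⟩, j, hj, e⟩ := CfsgLib.TransferControlOne.coprime_part (p := p) x
    refine ⟨k, ?_⟩
    rw [e, map_mul, hpow _ hj, mul_one, ← hk]
    exact orderOf_map_dvd π _
  have hker : ∀ y ∈ Cfsg.pResidual p G ⊔ commutator G, MonoidHom.transfer π y = 1 := by
    intro y hy
    refine (show Cfsg.pResidual p G ⊔ commutator G ≤ (MonoidHom.transfer π).ker from
      sup_le ?_ (Abelianization.commutator_subset_ker _)) hy
    rw [Cfsg.pResidual, Subgroup.closure_le]
    intro z hz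
    obtain ⟨k, hk⟩ := hAp (MonoidHom.transfer π z)
    exact MonoidHom.mem_ker.mpr (orderOf_eq_one_iff.mp (Nat.eq_one_of_dvd_coprimes
      ((show (orderOf z).Coprime p from hz).pow_right k) (orderOf_map_dvd _ z) hk))
  refine le_antisymm ?_ ?_
  · rintro h ⟨hh, hhH⟩
    refine ⟨⟨h, hhH⟩, ?_, rfl⟩
    rw [SetLike.mem_coe, ← QuotientGroup.eq_one_iff]
    obtain ⟨i, ⟨k, hk⟩, j, hj, e⟩ := CfsgLib.TransferControlOne.coprime_part (p := p) (⟨h, hhH⟩ : H)
    show π ⟨h, hhH⟩ = 1
    rw [e, map_mul, hpow _ hj, mul_one]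
    set y := (⟨h, hhH⟩ : H) ^ i with hy
    have hyR : (y : G) ∈ Cfsg.pResidual p G ⊔ commutator G := by
      rw [hy]; push_cast; exact Subgroup.pow_mem _ hh i
    have key : ∀ (n : ℕ) (a : G) (ha : a⁻¹ * (y : G) ^ n * a ∈ H), π ⟨a⁻¹ * (y : G) ^ n * a, ha⟩ = π ⟨y, y.2⟩ ^ n := by
      intro n a ha
      obtain ⟨c, hc, e2⟩ := hfus ((y : G) ^ n) (H.pow_mem y.2 n) (by
        obtain ⟨l, -, hl⟩ := (Nat.dvd_prime_pow (Fact.out : p.Prime)).mp
          (show orderOf ((y : G) ^ n) ∣ p ^ k by rw [← hk, ← Subgroup.orderOf_coe y]; exact orderOf_pow_dvd n)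
        exact ⟨l, hl⟩) a⁻¹ (by rw [inv_inv]; exact ha)
      rw [inv_inv] at e2
      have e3 : (⟨a⁻¹ * (y : G) ^ n * a, ha⟩ : H) = ⟨c, hc⟩ * y ^ n * ⟨c, hc⟩⁻¹ := Subtype.ext (by push_cast; rw [e2])
      rw [e3, map_mul, map_mul, map_inv, map_pow, mul_comm (π ⟨c, hc⟩), mul_assoc, mul_inv_cancel, mul_one]
    have h1 := CfsgLib.TransferControlOne.transfer_eq_pow_index π y.2 key
    rw [hker _ hyR] at h1
    refine orderOf_eq_one_iff.mp (Nat.eq_one_of_dvd_coprimes (hidx.pow_left k) ?_ (orderOf_dvd_of_pow_eq_one h1.symm))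
    rw [← hk]
    exact orderOf_map_dvd π y
  · rw [Subgroup.map_sup]
    refine le_inf (sup_le_sup ?_ ?_) (sup_le (Subgroup.map_subtype_le _) (Subgroup.map_subtype_le _))
    · exact CfsgLib.Transfer.map_pResidual_le H.subtype
    · rw [commutator_def, Subgroup.map_commutator, commutator_def]
      exact Subgroup.commutator_mono le_top le_top

end Cfsg.Agent.S1242
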