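import Cfsg.Statements.S1243
-- import your own Cfsg.Agent.* helpers here

set_option autoImplicit false
open Cfsg

namespace Cfsg.Agent.S1243

/-- Let T be a Sylow p-subgroup of the finite group G and W ≤ T a subgroup weakly closed in T. If d and g d g⁻¹ both centralize W, then g d g⁻¹ = h d h⁻¹ for some h ∈ N_G(W). -/
theorem result {G : Type*} [Group G] [Finite G] {p : ℕ} [Fact p.Prime] (T : Sylow p G) (W : Subgroup G) (hW : Cfsg.IsWeaklyClosed W (T : Subgroup G)) (d g : G) (hd : d ∈ Subgroup.centralizer (W : Set G)) (hgd : g * d * g⁻¹ ∈ Subgroup.centralizer (W : Set G)) : ∃ h ∈ Subgroup.normalizer (W : Set G), h * d * h⁻¹ = g * d * g⁻¹ := by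
  set x := g * d * g⁻¹ with hx
  set C := Subgroup.centralizer ({x} : Set G) with hC
  set W' := W.map (MulAut.conj g).toMonoidHom with hW'
  have h1 : W ≤ C := fun w hw => Subgroup.mem_centralizer_singleton_iff.mpr (hgd w hw)
  have h2 : W' ≤ C := by
    rintro _ ⟨w, hw, rfl⟩
    refine Subgroup.mem_centralizer_singleton_iff.mpr ?_
    show g * w * g⁻¹ * (g * d * g⁻¹) = g * d * g⁻¹ * (g * w * g⁻¹)
    calc g * w * g⁻¹ * (g * d * g⁻¹) = g * (w * d) * g⁻¹ := by group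
      _ = g * (d * w) * g⁻¹ := by rw [hd w hw]
      _ = _ := by group
  have hp1 : IsPGroup p ↥(W.subgroupOf C) := (T.2.to_le hW.1).of_equiv (Subgroup.subgroupOfEquivOfLe h1).symm
  have hp2 : IsPGroup p ↥(W'.subgroupOf C) :=
    ((T.2.to_le hW.1).map _).of_equiv (Subgroup.subgroupOfEquivOfLe h2).symm
  obtain ⟨P, hP⟩ := hp1.exists_le_sylow
  obtain ⟨P', hP'⟩ := hp2.exists_le_sylow
  obtain ⟨⟨c, hcC⟩, hc⟩ := MulAction.exists_smul_eq ↥C P' P
  obtain ⟨R, hR⟩ := (P.2.map C.subtype).exists_le_sylow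
  obtain ⟨r, hr⟩ := MulAction.exists_smul_eq G T R
  have inR : ∀ y ∈ P, r⁻¹ * (y : G) * r ∈ (T : Subgroup G) := fun y hy => by
    have h := hR ⟨y, hy, rfl⟩
    rw [← hr, Sylow.coe_subgroup_smul] at h
    obtain ⟨t, ht, e⟩ := h
    have e' : r * t * r⁻¹ = y := e
    rw [← e', show r⁻¹ * (r * t * r⁻¹) * r = t by group]
    exact ht
  have e1 := hW.2 r⁻¹ (by
    rintro _ ⟨w, hw, rfl⟩
    show r⁻¹ * w * r⁻¹⁻¹ ∈ _
    rw [inv_inv]
    exact inR ⟨w, h1 hw⟩ (hP hw))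
  have e2 := hW.2 (r⁻¹ * c * g) (by
    rintro _ ⟨w, hw, rfl⟩
    show r⁻¹ * c * g * w * (r⁻¹ * c * g)⁻¹ ∈ _
    rw [show r⁻¹ * c * g * w * (r⁻¹ * c * g)⁻¹ = r⁻¹ * (c * (g * w * g⁻¹) * c⁻¹) * r by group]
    have hwC : g * w * g⁻¹ ∈ C := h2 ⟨w, hw, rfl⟩
    refine inR ⟨_, C.mul_mem (C.mul_mem hcC hwC) (C.inv_mem hcC)⟩ ?_
    show _ ∈ (P : Subgroup ↥C)
    rw [← hc, Sylow.coe_subgroup_smul]
    exact ⟨⟨_, hwC⟩, hP' ⟨w, hw, rfl⟩, rfl⟩)
  have hn : ∀ h : G, W.map (MulAut.conj h).toMonoidHom = W → h ∈ Subgroup.normalizer (W : Set G) := fun h e => by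
    refine Subgroup.mem_normalizer_iff.mpr fun y => ⟨fun hy => e ▸ ⟨y, hy, rfl⟩, fun hy => ?_⟩
    rw [← e] at hy
    obtain ⟨w, hw, ew⟩ := hy
    exact (MulAut.conj h).injective ew ▸ hw
  refine ⟨c * g, ?_, ?_⟩
  · have := Subgroup.mul_mem _ (Subgroup.inv_mem _ (hn _ e1)) (hn _ e2)
    simpa [mul_assoc] using this
  · rw [show c * g * d * (c * g)⁻¹ = c * x * c⁻¹ by rw [hx]; group]
    rw [Subgroup.mem_centralizer_singleton_iff.mp hcC, mul_inv_cancel_right]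

end Cfsg.Agent.S1243
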