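import Cfsg.Statements.S1257
import Cfsg.Agent.Lib.RankTwoModel.Main
import Cfsg.Agent.Lib.RankTwoModel.Rows.InvolutionCount

set_option autoImplicit false
open Cfsg

namespace Cfsg.Agent.S1257

/-- Let G be a finite simple group whose number of involutions is ≡ 1 (mod 4). Then G has order 2, or G ≅ A₇, or G is simple of order 7920, or G ≅ PSL(2,F) with |F| odd, |F| > 3 and |F| ≡ ±1 (mod 8), or G ≅ PSL(3,F) with |F| ≡ 3 (mod 4), or G ≅ PSU(3) over a field with q² elements where q ≡ 1 (mod 4). -/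
theorem result {G : Type*} [Group G] [Finite G] [IsSimpleGroup G] (hI : Nat.card {t : G // orderOf t = 2} % 4 = 1) : Nat.card G = 2 ∨ Nonempty (G ≃* alternatingGroup (Fin 7)) ∨ Cfsg.IsM11 G ∨ (∃ (F : Type) (_ : Field F) (_ : Fintype F), 3 < Fintype.card F ∧ (Fintype.card F % 8 = 1 ∨ Fintype.card F % 8 = 7) ∧ Nonempty (G ≃* Matrix.ProjectiveSpecialLinearGroup (Fin 2) F)) ∨ (∃ (F : Type) (_ : Field F) (_ : Fintype F), Fintype.card F % 4 = 3 ∧ Nonempty (G ≃* Matrix.ProjectiveSpecialLinearGroup (Fin 3) F)) ∨ (∃ (F : Type) (_ : Field F) (_ : Fintype F) (q : ℕ), Fintype.card F = q ^ 2 ∧ q % 4 = 1 ∧ Nonempty (G ≃* Cfsg.PSU 3 F q)) := by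
  exact CfsgLib.RankTwoModel.Rows.involution_count CfsgLib.RankTwoModel.main hI

end Cfsg.Agent.S1257
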