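import Cfsg.Statements.S1271
import Cfsg.Agent.Lib.Comp.BalanceLocal
-- import your own Cfsg.Agent.* helpers here

set_option autoImplicit false
open Cfsg
open scoped commutatorElement

namespace Cfsg.Agent.S1271

/-- Let G be finite with O_{p'}(G) = 1. Suppose that for every component L of G and every subgroup H ≥ L in which L is normal, the quotient H / C_H(L) is balanced for the prime p. Then G is balanced for p. -/
theorem result {G : Type*} [Group G] [Finite G] (p : ℕ) [Fact p.Prime] (hO : Cfsg.pPrimeCore p G = ⊥) (h : ∀ L : Subgroup G, Cfsg.IsComponent L → ∀ H : Subgroup G, L ≤ H → (L.subgroupOf H).Normal → ∀ [((Subgroup.centralizer (L : Set G)).subgroupOf H).Normal], Cfsg.IsBalancedFor p (↥H ⧸ (Subgroup.centralizer (L : Set G)).subgroupOf H)) : Cfsg.IsBalancedFor p G := by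
  intro x hx
  rw [hO, le_bot_iff]
  refine CfsgLib.Comp.centralizerCore_eq_bot hO hx fun L hL hxN hLx => ?_
  set D := Cfsg.centralizerPPrimeCore p x with hD
  set X := Subgroup.zpowers x with hX
  have hDN : D ≤ Subgroup.normalizer (L : Set G) := CfsgLib.Comp.centralizerCore_normalizes hO hx hL
  set H := L ⊔ (X ⊔ D) with hH
  have hXDN : X ⊔ D ≤ Subgroup.normalizer (L : Set G) := sup_le (Subgroup.zpowers_le.mpr hxN) hDN
  have hHN : H ≤ Subgroup.normalizer (L : Set G) := sup_le Subgroup.le_normalizer hXDN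
  have hXDC : X ⊔ D ≤ Subgroup.centralizer ({x} : Set G) := sup_le
    (Subgroup.zpowers_le.mpr (Subgroup.mem_centralizer_singleton_iff.mpr rfl)) (CfsgLib.Comp.centralizerCore_le x)
  have hLH : L ≤ H := le_sup_left
  have hxH : x ∈ H := Subgroup.mem_sup_right (Subgroup.mem_sup_left (Subgroup.mem_zpowers x))
  have hHC : ∀ h ∈ H, ∃ l ∈ L, ∃ c ∈ H, c ∈ Subgroup.centralizer ({x} : Set G) ∧ h = l * c := by
    intro h hh
    obtain ⟨l, hl, c, hc, e⟩ := CfsgLib.mem_sup_of_le_normalizer hXDN hh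
    exact ⟨l, hl, c, Subgroup.mem_sup_right hc, hXDC hc, e.symm⟩
  set C := (Subgroup.centralizer (L : Set G)).subgroupOf H with hC
  haveI hCn : C.Normal := by
    refine ⟨fun c hc g => ?_⟩
    intro y hy
    have h1 := hc ((g : G)⁻¹ * y * g)
      ((Subgroup.mem_normalizer_iff''.mp (hHN g.2) y).mp hy)
    show y * ((g : G) * c * (g : G)⁻¹) = (g : G) * c * (g : G)⁻¹ * y
    calc y * ((g : G) * c * (g : G)⁻¹) = (g : G) * ((g : G)⁻¹ * y * g * c) * (g : G)⁻¹ := by group
      _ = (g : G) * ((c : G) * ((g : G)⁻¹ * y * g)) * (g : G)⁻¹ := by rw [show ((g : G)⁻¹ * y * g) * (c : G) = (c : G) * ((g : G)⁻¹ * y * g) from h1]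
      _ = (g : G) * c * (g : G)⁻¹ * y := by group
  have hLH' : (L.subgroupOf H).Normal := (Subgroup.normal_subgroupOf_iff_le_normalizer hLH).mpr hHN
  set ρ := QuotientGroup.mk' C with hρ
  have hρx : ρ ⟨x, hxH⟩ ≠ 1 := by
    intro e
    have h1 : x ∈ Subgroup.centralizer (L : Set G) := (QuotientGroup.eq_one_iff (⟨x, hxH⟩ : ↥H)).mp e
    have h2 : ⁅L, X⁆ = ⊥ := by
      rw [Subgroup.commutator_comm, Subgroup.commutator_eq_bot_iff_le_centralizer]
      exact Subgroup.zpowers_le.mpr h1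
    exact CfsgLib.isComponent_ne_bot hL (hLx ▸ h2)
  have hord : orderOf (ρ ⟨x, hxH⟩) = p := by
    refine orderOf_eq_prime ?_ hρx
    rw [← map_pow, show (⟨x, hxH⟩ : ↥H) ^ p = 1 from Subtype.ext (hx ▸ pow_orderOf_eq_one x), map_one]
  have hbal := h L hL H hLH hLH' (ρ ⟨x, hxH⟩) hord
  set O := Cfsg.pPrimeCore p (↥H ⧸ C) with hOdef
  haveI := hLH'
  haveI : ((L.subgroupOf H).map ρ).Normal := hLH'.map ρ (QuotientGroup.mk'_surjective C)
  -- `O_{p'}` of the induced group meets the image of `L` trivially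
  set W := (O.comap ρ).map H.subtype ⊓ L with hW
  haveI : (W.subgroupOf L).Normal := by
    refine (Subgroup.normal_subgroupOf_iff_le_normalizer inf_le_right).mpr fun l hl =>
      CfsgLib.Comp.mem_normalizer_of_maps fun w hw => Subgroup.mem_inf.mpr ⟨?_,
        mul_mem (mul_mem hl (Subgroup.mem_inf.mp hw).2) (inv_mem hl)⟩
    obtain ⟨u, hu, rfl⟩ := (Subgroup.mem_inf.mp hw).1
    exact ⟨⟨l, hLH hl⟩ * u * ⟨l, hLH hl⟩⁻¹, (inferInstance : (O.comap ρ).Normal).conj_mem u hu _, rfl⟩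
  have hWZ : W.subgroupOf L ≤ Subgroup.center ↥L := by
    refine (CfsgLib.quasisimple_normal_le_center_or_eq_top hL.2 _).resolve_right fun e => ?_
    refine CfsgLib.isQuasisimple_not_isSolvable hL.2 (Group.isSolvable_of_comm fun a b => ?_)
    have hle : CfsgLib.Comp.pEl p L ≤ Subgroup.centralizer (L : Set G) := by
      rw [CfsgLib.Comp.pEl, Subgroup.closure_le]
      rintro y ⟨hy, k, hk⟩
      have hyW : (⟨y, hy⟩ : ↥L) ∈ W.subgroupOf L := e ▸ Subgroup.mem_top _
      obtain ⟨u, hu, hue⟩ := (Subgroup.mem_inf.mp hyW).1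
      have h1 : ρ u = 1 := CfsgLib.Comp.pElement_eq_one_of_coprime (CfsgLib.card_pPrimeCore_coprime p) hu (n := k)
        (by rw [← map_pow, show u ^ p ^ k = 1 from Subtype.ext (by
          push_cast
          rw [show (u : G) = y from hue, hk]), map_one])
      have h2 : (u : G) ∈ Subgroup.centralizer (L : Set G) := (QuotientGroup.eq_one_iff u).mp h1
      rwa [show (u : G) = y from hue] at h2
    rw [CfsgLib.Comp.component_pEl_self hO hL] at hle
    exact Subtype.ext ((hle a.2) b b.2).symm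
  refine CfsgLib.Comp.centralizes_of_commutator_le_center hL ?_
  rw [Subgroup.commutator_le]
  intro d hd l hl
  have hdH : d ∈ H := Subgroup.mem_sup_right (Subgroup.mem_sup_right hd)
  have h1 : ρ ⟨d, hdH⟩ ∈ O := hbal (CfsgLib.Comp.core_image_le hO hx hL H hHN hLH hxH hHC ρ
    (QuotientGroup.mk'_surjective C) (QuotientGroup.ker_mk' C) (d := ⟨d, hdH⟩) hd)
  have hdl : ⁅d, l⁆ ∈ L := by
    rw [commutatorElement_def, show d * l * d⁻¹ * l⁻¹ = (d * l * d⁻¹) * l⁻¹ from rfl]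
    exact mul_mem ((Subgroup.mem_normalizer_iff.mp (hHN hdH) l).mp hl) (inv_mem hl)
  refine ⟨⟨⁅d, l⁆, hdl⟩, hWZ (Subgroup.mem_inf.mpr ⟨⟨⁅(⟨d, hdH⟩ : ↥H), ⟨l, hLH hl⟩⁆, ?_, rfl⟩, hdl⟩), rfl⟩
  show ρ ⁅(⟨d, hdH⟩ : ↥H), ⟨l, hLH hl⟩⁆ ∈ O
  rw [map_commutatorElement, commutatorElement_def,
    show ∀ a b : ↥H ⧸ C, a * b * a⁻¹ * b⁻¹ = a * (b * a⁻¹ * b⁻¹) from fun a b => by group]
  exact mul_mem h1 ((inferInstance : O.Normal).conj_mem _ (inv_mem h1) _)

end Cfsg.Agent.S1271
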