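import Cfsg.Statements.S1286
-- import your own Cfsg.Agent.* helpers here

set_option autoImplicit false
open Cfsg

namespace Cfsg.Agent.S1286

/-- There exist a finite group X, an elementary abelian subgroup A of order 4 and a solvable A-signalizer functor θ on X for the prime 2 which is not complete. -/
theorem result : ∃ (X : Type) (_ : Group X) (_ : Finite X) (A : Subgroup X) (θ : X → Subgroup X), Cfsg.IsElementaryAbelian 2 A ∧ Nat.card ↥A = 4 ∧ Cfsg.IsSolvableSignalizerFunctor 2 A θ ∧ ¬ Cfsg.IsCompleteSignalizerFunctor 2 A θ := by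
  let A : Subgroup (Equiv.Perm (Fin 5)) :=
    { carrier := {g | g = 1 ∨ g = Equiv.swap 0 1 ∨ g = Equiv.swap 2 3 ∨ g = Equiv.swap 0 1 * Equiv.swap 2 3}
      one_mem' := Or.inl rfl
      mul_mem' := fun {a b} => by simp only [Set.mem_setOf_eq]; revert a b; decide +kernel
      inv_mem' := fun {a} => by simp only [Set.mem_setOf_eq]; revert a; decide +kernel }
  let T₁ : Subgroup (Equiv.Perm (Fin 5)) :=
    { carrier := {g | g ^ 3 = 1 ∧ g 0 = 0 ∧ g 1 = 1}
      one_mem' := by simp
      mul_mem' := fun {a b} => by simp only [Set.mem_setOf_eq]; revert a b; decide +kernel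
      inv_mem' := fun {a} => by simp only [Set.mem_setOf_eq]; revert a; decide +kernel }
  let T₂ : Subgroup (Equiv.Perm (Fin 5)) :=
    { carrier := {g | g ^ 3 = 1 ∧ g 2 = 2 ∧ g 3 = 3}
      one_mem' := by simp
      mul_mem' := fun {a b} => by simp only [Set.mem_setOf_eq]; revert a b; decide +kernel
      inv_mem' := fun {a} => by simp only [Set.mem_setOf_eq]; revert a; decide +kernel }
  let θ : Equiv.Perm (Fin 5) → Subgroup (Equiv.Perm (Fin 5)) :=
    fun x => if x = Equiv.swap 0 1 then T₁ else if x = Equiv.swap 2 3 then T₂ else ⊥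
  have hθ1 : θ (Equiv.swap 0 1) = T₁ := if_pos rfl
  have hθ2 : θ (Equiv.swap 2 3) = T₂ := (if_neg (by decide)).trans (if_pos rfl)
  have hθ3 : θ (Equiv.swap 0 1 * Equiv.swap 2 3) = ⊥ := (if_neg (by decide +kernel)).trans (if_neg (by decide +kernel))
  have cases : ∀ a ∈ A, a ≠ 1 → a = Equiv.swap 0 1 ∨ a = Equiv.swap 2 3 ∨ a = Equiv.swap 0 1 * Equiv.swap 2 3 :=
    fun a ha ha1 => ha.resolve_left ha1
  haveI : Fact (Nat.Prime 3) := ⟨by norm_num⟩
  have p₁ : IsPGroup 3 T₁ := fun a => ⟨1, Subtype.ext (by push_cast; exact a.2.1)⟩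
  have p₂ : IsPGroup 3 T₂ := fun a => ⟨1, Subtype.ext (by push_cast; exact a.2.1)⟩
  have odd : ∀ T : Subgroup (Equiv.Perm (Fin 5)), IsPGroup 3 T → ¬ 2 ∣ Nat.card T := fun T hT h => by
    obtain ⟨n, hn⟩ := IsPGroup.iff_card.mp hT
    rw [hn] at h
    exact absurd (Nat.prime_two.dvd_of_dvd_pow h) (by norm_num)
  have hA : Cfsg.IsElementaryAbelian 2 A := by
    refine ⟨⟨⟨fun x y => Subtype.ext ?_⟩⟩, fun a ha => ?_⟩
    · show (x : Equiv.Perm (Fin 5)) * y = y * x
      rcases x.2 with hx | hx | hx | hx <;> rcases y.2 with hy | hy | hy | hy <;> rw [hx, hy] <;> decide +kernel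
    · rcases ha with h | h | h | h <;> subst h <;> decide +kernel
  refine ⟨Equiv.Perm (Fin 5), inferInstance, inferInstance, A, θ, hA, ?_, ⟨⟨?_, ?_, ?_, ?_⟩, ?_⟩, ?_⟩
  · exact (Nat.subtype_card {1, Equiv.swap 0 1, Equiv.swap 2 3, Equiv.swap 0 1 * Equiv.swap 2 3}
      (fun x => by simp only [Finset.mem_insert, Finset.mem_singleton]; rfl)).trans (by decide +kernel)
  · intro a ha ha1 g hg
    rw [Subgroup.mem_centralizer_singleton_iff]
    rcases cases a ha ha1 with h | h | h <;> subst h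
    · rw [hθ1] at hg; obtain ⟨-, h0, h1⟩ := hg
      clear ha ha1; revert h0 h1; revert g; decide +kernel
    · rw [hθ2] at hg; obtain ⟨-, h0, h1⟩ := hg
      clear ha ha1; revert h0 h1; revert g; decide +kernel
    · rw [hθ3] at hg; rw [show g = 1 from hg]; simp
  · intro a ha ha1
    rcases cases a ha ha1 with h | h | h <;> subst h
    · rw [hθ1]; exact odd _ p₁
    · rw [hθ2]; exact odd _ p₂
    · rw [hθ3, Subgroup.card_bot]; norm_num
  · intro a ha ha1 b hb g hg
    rcases cases a ha ha1 with h | h | h <;> subst h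
    · rw [hθ1] at hg ⊢
      rcases hb with hb | hb | hb | hb <;> subst hb <;> revert hg <;>
        show g ^ 3 = 1 ∧ g 0 = 0 ∧ g 1 = 1 → _ ^ 3 = 1 ∧ _ ∧ _ <;> revert g <;> decide +kernel
    · rw [hθ2] at hg ⊢
      rcases hb with hb | hb | hb | hb <;> subst hb <;> revert hg <;>
        show g ^ 3 = 1 ∧ g 2 = 2 ∧ g 3 = 3 → _ ^ 3 = 1 ∧ _ ∧ _ <;> revert g <;> decide +kernel
    · rw [hθ3] at hg ⊢; rw [show g = 1 from hg]; simp
  · intro a ha ha1 b hb hb1 g hg
    obtain ⟨hg, hc⟩ := hg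
    replace hc : g * b = b * g := Subgroup.mem_centralizer_singleton_iff.mp hc
    by_cases hab : a = b
    · exact hab ▸ hg
    suffices hg1 : g = 1 by rw [hg1]; exact one_mem _
    rcases cases a ha ha1 with h | h | h <;> subst h
    · rw [SetLike.mem_coe, hθ1] at hg
      have hg' : g ^ 3 = 1 ∧ g 0 = 0 ∧ g 1 = 1 := hg
      rcases cases b hb hb1 with h | h | h <;> subst h <;> first
        | exact absurd rfl hab
        | (revert hg' hc; clear hg; revert g; decide +kernel)
    · rw [SetLike.mem_coe, hθ2] at hg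
      have hg' : g ^ 3 = 1 ∧ g 2 = 2 ∧ g 3 = 3 := hg
      rcases cases b hb hb1 with h | h | h <;> subst h <;> first
        | exact absurd rfl hab
        | (revert hg' hc; clear hg; revert g; decide +kernel)
    · rw [SetLike.mem_coe, hθ3] at hg; exact hg
  · intro a ha ha1
    rcases cases a ha ha1 with h | h | h <;> subst h
    · rw [hθ1]; haveI := p₁.isNilpotent; infer_instance
    · rw [hθ2]; haveI := p₂.isNilpotent; infer_instance
    · rw [hθ3]; infer_instance
  · rintro ⟨-, X, -, hodd, hX⟩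
    let c : Equiv.Perm (Fin 5) := Equiv.swap 2 3 * Equiv.swap 3 4
    let d : Equiv.Perm (Fin 5) := Equiv.swap 0 1 * Equiv.swap 1 4
    have hc : c ∈ X := by
      have h : c ∈ θ (Equiv.swap 0 1) := by rw [hθ1]; show c ^ 3 = 1 ∧ c 0 = 0 ∧ c 1 = 1; decide +kernel
      rw [← hX _ (Or.inr (Or.inl rfl)) (by decide +kernel)] at h
      exact h.1
    have hd : d ∈ X := by
      have h : d ∈ θ (Equiv.swap 2 3) := by rw [hθ2]; show d ^ 3 = 1 ∧ d 2 = 2 ∧ d 3 = 3; decide +kernel
      rw [← hX _ (Or.inr (Or.inr (Or.inl rfl))) (by decide +kernel)] at h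
      exact h.1
    refine hodd ?_
    have hw : orderOf (c⁻¹ * d⁻¹ * c⁻¹ * d) = 2 := orderOf_eq_prime (by decide +kernel) (by decide +kernel)
    exact hw ▸ Subgroup.orderOf_dvd_natCard _ (mul_mem (mul_mem (mul_mem (inv_mem hc) (inv_mem hd)) (inv_mem hc)) hd)

end Cfsg.Agent.S1286
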