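import Cfsg.Statements.S1287
import Cfsg.Agent.Lib.Signalizer.OrderFormula
-- import your own Cfsg.Agent.* helpers here

set_option autoImplicit false
open scoped Pointwise
open Cfsg

namespace Cfsg.Agent.S1287

/-- Let A be a noncyclic elementary abelian p-subgroup of a finite group H normalizing a subgroup K of order prime to p, and X, Y ≤ K subgroups normalized by A with C_K(a) = C_X(a) C_Y(a) (as sets) for every non-identity a ∈ A, where X is also normalized by C_K(A). Then K = XY as sets. -/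
theorem result {H : Type*} [Group H] [Finite H] (p : ℕ) [Fact p.Prime] (A K X Y : Subgroup H) (hA : Cfsg.IsElementaryAbelian p A) (hA2 : p ^ 2 ≤ Nat.card ↥A) (hK : ¬ p ∣ Nat.card ↥K) (hAK : A ≤ Subgroup.normalizer (K : Set H)) (hX : X ≤ K) (hY : Y ≤ K) (hAX : A ≤ Subgroup.normalizer (X : Set H)) (hAY : A ≤ Subgroup.normalizer (Y : Set H)) (hCX : K ⊓ Subgroup.centralizer (A : Set H) ≤ Subgroup.normalizer (X : Set H)) (hfac : ∀ a ∈ A, a ≠ 1 → ((K ⊓ Subgroup.centralizer {a} : Subgroup H) : Set H) = ((X ⊓ Subgroup.centralizer {a} : Subgroup H) : Set H) * ((Y ⊓ Subgroup.centralizer {a} : Subgroup H) : Set H)) : (K : Set H) = (X : Set H) * (Y : Set H) := by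
  obtain ⟨A₀', hA₀⟩ := Sylow.exists_subgroup_card_pow_prime (G := ↥A) p (n := 2) (by
    obtain ⟨n, hn⟩ := IsPGroup.iff_card.mp (CfsgLib.Signalizer.isPGroup_ea hA)
    rw [hn] at hA2 ⊢
    exact pow_dvd_pow p ((Nat.pow_le_pow_iff_right (Fact.out : p.Prime).one_lt).mp hA2))
  set A₀ := A₀'.map A.subtype with hA₀def
  have hle : A₀ ≤ A := Subgroup.map_subtype_le _
  have hc : Nat.card A₀ = p ^ 2 := by rw [hA₀def, Subgroup.card_map_of_injective A.subtype_injective, hA₀]
  refine CfsgLib.Signalizer.eq_mul_of_fixed (CfsgLib.Signalizer.ea_le hA hle) hc (hle.trans hAK) hK hX hY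
    (hle.trans hAX) (hle.trans hAY) fun B => ?_
  haveI : Nontrivial ↥(B : Subgroup H) := Finite.one_lt_card_iff_nontrivial.mp (by
    rw [B.2.2]; exact (Fact.out : p.Prime).one_lt)
  obtain ⟨⟨b, hb⟩, hb1⟩ := exists_ne (1 : ↥(B : Subgroup H))
  have hb1' : b ≠ 1 := fun e => hb1 (Subtype.ext e)
  have hBz := CfsgLib.Signalizer.mem_line_eq B hb hb1'
  have hCb : Subgroup.centralizer ((B : Subgroup H) : Set H) = Subgroup.centralizer {b} := by
    rw [hBz, Subgroup.zpowers_eq_closure, Subgroup.centralizer_closure]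
  rw [hCb]
  exact hfac b (hle (B.2.1 hb)) hb1'

end Cfsg.Agent.S1287
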