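import Cfsg.Statements.S1295
import Cfsg.Agent.Lib.SolvSF.Apply
import Cfsg.Agent.Lib.PSolvable
import Cfsg.Agent.Lib.SolvSF.CoreBalance
-- import your own Cfsg.Agent.* helpers here

set_option autoImplicit false
open Cfsg

namespace Cfsg.Agent.S1295

/-- Let G be finite with O_{p'}(G) = 1 and p-rank at least 3, whose reduced rank-2 commuting graph for p is connected. Suppose that for every element a of order p with m_p(C_G(a)) ≥ 3 the p-layer of C_G(a) is trivial and O_{p'}(C_G(a)) is solvable. Then F*(C_G(a)) = O_p(C_G(a)) for every such a. -/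
theorem result {G : Type*} [Group G] [Finite G] (p : ℕ) [Fact p.Prime] (hO : Cfsg.pPrimeCore p G = ⊥) (hrk : ¬ Cfsg.PRankLE p 2 G) (hconn : Cfsg.IsRankGraphConnected p 2 G) (hL : ∀ a : G, (orderOf a = p ∧ ¬ Cfsg.PRankLE p 2 ↥(Subgroup.centralizer ({a} : Set G))) → Cfsg.pLayer p ↥(Subgroup.centralizer ({a} : Set G)) = ⊥ ∧ Group.IsSolvable ↥(Cfsg.centralizerPPrimeCore p a)) (a : G) (ha : (orderOf a = p ∧ ¬ Cfsg.PRankLE p 2 ↥(Subgroup.centralizer ({a} : Set G)))) : Cfsg.generalizedFittingSubgroup ↥(Subgroup.centralizer ({a} : Set G)) = Cfsg.pCore p ↥(Subgroup.centralizer ({a} : Set G)) := by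
  classical
  have hp : p.Prime := Fact.out
  have hbot : Cfsg.centralizerPPrimeCore p a = ⊥ := by
    refine CfsgLib.SolvSF.trivial_of_connected (θ := fun a => Cfsg.centralizerPPrimeCore p a) hO hconn
      (fun a ha => ⟨Subgroup.map_subtype_le _, ?_, (hL a ha).2⟩) ?_ ?_ ha
    · intro h
      rw [Cfsg.centralizerPPrimeCore, Subgroup.card_map_of_injective (Subgroup.subtype_injective _)] at h
      exact CfsgLib.not_dvd_card_pPrimeCore hp h
    · intro a g _
      exact (CfsgLib.SolvSF.map_centralizerPPrimeCore' g a).symm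
    · intro a b ha hb hab
      exact CfsgLib.SolvSF.core_balance_of_pLayer ha.1 (hL b hb).1 hab
  have hC1 : Cfsg.pPrimeCore p ↥(Subgroup.centralizer ({a} : Set G)) = ⊥ :=
    (Subgroup.map_eq_bot_iff_of_injective _ (Subgroup.subtype_injective _)).mp hbot
  have hlayer : Cfsg.layer ↥(Subgroup.centralizer ({a} : Set G)) = ⊥ := by
    rw [eq_bot_iff]
    refine sSup_le fun J hJ => ?_
    by_contra hne
    have hnc : ¬ J ≤ Cfsg.pPrimeCore p ↥(Subgroup.centralizer ({a} : Set G)) := hC1.symm ▸ hne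
    have h1 := CfsgLib.Comp.map_component hJ hnc
    have h2 := CfsgLib.le_layer h1
    rw [CfsgLib.Comp.pLayer_eq_bot_iff.mp (hL a ha).1, le_bot_iff] at h2
    exact CfsgLib.isComponent_ne_bot h1 h2
  rw [Cfsg.generalizedFittingSubgroup, hlayer, bot_sup_eq, CfsgLib.fitting_eq_pCore hp hC1]


end Cfsg.Agent.S1295
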