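import Cfsg.Statements.S1297
import Cfsg.Agent.Lib.Comp.KBalanceLocal
import Cfsg.Agent.Lib.Comp.Extended
-- import your own Cfsg.Agent.* helpers here

set_option autoImplicit false
open Cfsg

namespace Cfsg.Agent.S1297

/-- Let G be finite. Suppose that for every involution x, writing C = C_G(x), every component K of C / O(C) has K / Z(K) locally balanced. Then G is balanced. -/
theorem result {G : Type*} [Group G] [Finite G] (h : ∀ x : G, orderOf x = 2 → ∀ K : Subgroup (↥(Subgroup.centralizer ({x} : Set G)) ⧸ Cfsg.oddCore ↥(Subgroup.centralizer ({x} : Set G))), Cfsg.IsComponent K → Cfsg.IsLocallyBalanced (↥K ⧸ Subgroup.center ↥K)) : Cfsg.IsBalanced G := by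
  haveI : Fact (Nat.Prime 2) := ⟨Nat.prime_two⟩
  refine CfsgLib.Comp.balanced_iff.mpr (CfsgLib.Comp.isKBalanced_of_local le_rfl fun x hx K hK H hH A hA hAc => ?_)
  rw [pow_one] at hAc
  haveI : Nontrivial A := Finite.one_lt_card_iff_nontrivial.mp (by omega)
  obtain ⟨⟨a, ha⟩, ha1⟩ := exists_ne (1 : A)
  have ha1' : a ≠ 1 := fun e => ha1 (Subtype.ext e)
  rw [eq_bot_iff, ← h x hx K hK H hH a (orderOf_eq_prime (hA.2 a ha) ha1')]
  exact iInf_le (fun b : {b : ↥H // b ∈ A ∧ b ≠ 1} => Cfsg.centralizerPPrimeCore 2 (b : ↥H)) ⟨a, ha, ha1'⟩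

end Cfsg.Agent.S1297
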