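import Cfsg.Statements.S1303
-- import your own Cfsg.Agent.* helpers here

set_option autoImplicit false
open Cfsg

namespace Cfsg.Agent.S1303

/-- The group X = SL(2, 3): it is 2-constrained, O_{2'}(X) = 1, its centre A = Z(X) contains every involution of X = C_X(A), and X has a subgroup of order 3 (normalized by A) not contained in O_{2'}(X). -/
theorem result : Cfsg.IsPConstrained 2 (Matrix.SpecialLinearGroup (Fin 2) (ZMod 3)) ∧ Cfsg.pPrimeCore 2 (Matrix.SpecialLinearGroup (Fin 2) (ZMod 3)) = ⊥ ∧ (∀ t : Matrix.SpecialLinearGroup (Fin 2) (ZMod 3), orderOf t = 2 → t ∈ Subgroup.center (Matrix.SpecialLinearGroup (Fin 2) (ZMod 3))) ∧ ∃ Q : Subgroup (Matrix.SpecialLinearGroup (Fin 2) (ZMod 3)), Nat.card ↥Q = 3 ∧ ¬ (Q ≤ Cfsg.pPrimeCore 2 (Matrix.SpecialLinearGroup (Fin 2) (ZMod 3))) := by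
  have core : Cfsg.pPrimeCore 2 (Matrix.SpecialLinearGroup (Fin 2) (ZMod 3)) = ⊥ := by
    refine sSup_eq_bot.mpr fun N hN => ?_
    obtain ⟨hn, hodd⟩ := hN
    refine (Subgroup.eq_bot_iff_forall _).mpr fun g hg => ?_
    have key : ∀ h ∈ N, h ^ 3 = 1 := by
      intro h hh
      have h1 : orderOf h ∣ Nat.card N := Subgroup.orderOf_dvd_natCard _ hh
      have h2 : h ^ 24 = 1 := by clear hh h1 hg; revert h; decide +kernel
      have h3 : orderOf h ∣ 8 * 3 := orderOf_dvd_of_pow_eq_one h2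
      refine orderOf_dvd_iff_pow_eq_one.mp (Nat.Coprime.dvd_of_dvd_mul_left ?_ h3)
      exact Nat.Coprime.pow_right 3 (hodd.coprime_dvd_left h1)
    have hg3 := key g hg
    have hall : ∀ t, (g⁻¹ * (t * g * t⁻¹)) ^ 3 = 1 := fun t => key _ (mul_mem (inv_mem hg) (hn.conj_mem g hg t))
    revert hg3 hall
    clear hg hn hodd key
    revert g
    decide +kernel
  let Q : Subgroup (Matrix.SpecialLinearGroup (Fin 2) (ZMod 3)) :=
    { carrier := {g | g ^ 4 = 1}
      one_mem' := by simp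
      mul_mem' := fun {a b} => by
        simp only [Set.mem_setOf_eq]; revert a b; decide +kernel
      inv_mem' := fun {a} ha => by
        simp only [Set.mem_setOf_eq] at ha ⊢; rw [inv_pow, ha, inv_one] }
  have hQn : Q.Normal := ⟨fun a ha t => by
    show (t * a * t⁻¹) ^ 4 = 1
    rw [conj_pow, show a ^ 4 = 1 from ha, mul_one, mul_inv_cancel]⟩
  have hQp : IsPGroup 2 Q := fun a => ⟨2, Subtype.ext (by push_cast; exact a.2)⟩
  have hQle : Q ≤ Cfsg.pPrimePCore 2 (Matrix.SpecialLinearGroup (Fin 2) (ZMod 3)) := fun g hg => by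
    refine (le_sSup ?_ : Q.map (QuotientGroup.mk' _) ≤ _) ⟨g, hg, rfl⟩
    exact ⟨hQn.map _ (QuotientGroup.mk'_surjective _), hQp.map _⟩
  refine ⟨?_, core, ?_, ?_⟩
  · intro P g hg
    refine hQle ?_
    have hQP : Q.subgroupOf (Cfsg.pPrimePCore 2 _) ≤ (P : Subgroup ↥(Cfsg.pPrimePCore 2 _)) := by
      haveI : (Q.subgroupOf (Cfsg.pPrimePCore 2 _)).Normal := hQn.subgroupOf _
      obtain ⟨T, hT⟩ := (hQp.of_equiv (Subgroup.subgroupOfEquivOfLe hQle).symm).exists_le_sylow
      obtain ⟨c, hc⟩ := MulAction.exists_smul_eq ↥(Cfsg.pPrimePCore 2 (Matrix.SpecialLinearGroup (Fin 2) (ZMod 3))) T P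
      rw [← hc, Sylow.coe_subgroup_smul]
      intro x hx
      exact ⟨c⁻¹ * x * c, hT (by simpa using (inferInstance : (Q.subgroupOf (Cfsg.pPrimePCore 2 _)).Normal).conj_mem x hx c⁻¹), by simp [mul_assoc]⟩
    have hcomm : ∀ q, q ^ 4 = 1 → g * q = q * g := fun q hq =>
      (hg q ⟨⟨q, hQle hq⟩, hQP hq, rfl⟩).symm
    show g ^ 4 = 1
    revert hcomm
    clear hg hQP
    revert g
    decide +kernel
  · intro t ht
    rw [Subgroup.mem_center_iff]
    have h2 : t ^ 2 = 1 := (congrArg (fun n : ℕ => t ^ n) ht).symm.trans (pow_orderOf_eq_one t)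
    revert h2
    clear ht
    revert t
    decide +kernel
  · let u : Matrix.SpecialLinearGroup (Fin 2) (ZMod 3) := ⟨!![1, 1; 0, 1], by decide⟩
    have hu : orderOf u = 3 := by
      haveI : Fact (Nat.Prime 3) := ⟨by norm_num⟩
      exact orderOf_eq_prime (by decide +kernel) (fun h => absurd (congrArg (fun M : Matrix.SpecialLinearGroup (Fin 2) (ZMod 3) => (M : Matrix (Fin 2) (Fin 2) (ZMod 3)) 0 1) h) (by simp [u]))
    refine ⟨Subgroup.zpowers u, by rw [Nat.card_zpowers, hu], fun h => ?_⟩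
    rw [core, Subgroup.zpowers_le, Subgroup.mem_bot] at h
    rw [h, orderOf_one] at hu
    exact absurd hu (by norm_num)

end Cfsg.Agent.S1303
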