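import Cfsg.Statements.S1307
import Cfsg.Agent.Lib.Components
import Cfsg.Agent.Lib.UniqueSubgroup
import Cfsg.Agent.Lib.ZStar.Main
-- import your own Cfsg.Agent.* helpers here

set_option autoImplicit false
open Cfsg

namespace Cfsg.Agent.S1307

/-- Let G be finite, x an involution and L ≤ C_G(x) a component of C_G(x) of even order and 2-rank 1, such that L is a component of C_G(y) for every involution y ∈ C_G(L). Then some involution of L is a classical involution of G. -/
theorem result {G : Type*} [Group G] [Finite G] (x : G) (hx : orderOf x = 2) (L : Subgroup G) (hLx : L ≤ Subgroup.centralizer ({x} : Set G)) (hL : Cfsg.IsComponent (L.subgroupOf (Subgroup.centralizer ({x} : Set G)))) (heven : Even (Nat.card ↥L)) (hrk : Cfsg.PRankLE 2 1 ↥L) (hne : ∀ y : G, orderOf y = 2 → y ∈ Subgroup.centralizer (L : Set G) → L ≤ Subgroup.centralizer ({y} : Set G) ∧ Cfsg.IsComponent (L.subgroupOf (Subgroup.centralizer ({y} : Set G)))) : ∃ t ∈ L, Cfsg.IsClassicalInvolution t := by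
  classical
  have hq : Cfsg.IsQuasisimple ↥L := CfsgLib.isQuasisimple_of_equiv (Subgroup.subgroupOfEquivOfLe hLx) hL.2
  haveI : Fact (Nat.Prime 2) := ⟨Nat.prime_two⟩
  haveI hperf : Group.IsPerfect ↥L := hq.1
  -- two commuting involutions of `L` are equal
  have huniq : ∀ a b : ↥L, orderOf a = 2 → b ^ 2 = 1 → Commute a b → b ∈ Subgroup.zpowers a := by
    intro a b ha hb hab
    have ha2 : a ^ 2 = 1 := ha ▸ pow_orderOf_eq_one a
    set A := Subgroup.closure ({a, b} : Set ↥L) with hA
    have hAc : A ≤ Subgroup.centralizer (A : Set ↥L) := by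
      rw [hA, Subgroup.centralizer_closure, Subgroup.closure_le]
      intro u hu
      rw [SetLike.mem_coe, Subgroup.mem_centralizer_iff]
      intro v hv
      simp only [Set.mem_insert_iff, Set.mem_singleton_iff] at hu hv
      rcases hu with rfl | rfl <;> rcases hv with rfl | rfl
      · rfl
      · exact hab.symm
      · exact hab
      · rfl
    have hcomm : ∀ y ∈ A, ∀ z ∈ A, Commute y z := fun y hy z hz =>
      (Subgroup.mem_centralizer_iff.mp (hAc hz) y hy)
    haveI : IsMulCommutative ↥A :=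
      ⟨⟨fun y z => Subtype.ext (hcomm y y.2 z z.2)⟩⟩
    have hsq : ∀ y ∈ A, y ^ 2 = 1 := by
      intro y hy
      induction hy using Subgroup.closure_induction with
      | mem u hu =>
        simp only [Set.mem_insert_iff, Set.mem_singleton_iff] at hu
        rcases hu with rfl | rfl
        · exact ha2
        · exact hb
      | one => exact one_pow 2
      | mul y z hy hz ihy ihz => rw [(hcomm y hy z hz).mul_pow, ihy, ihz, one_mul]
      | inv y _ ihy => rw [inv_pow, ihy, inv_one]
    have hle : Subgroup.zpowers a ≤ A := Subgroup.zpowers_le.mpr (Subgroup.subset_closure (by simp))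
    have heq : Subgroup.zpowers a = A := by
      refine Subgroup.eq_of_le_of_card_ge hle ?_
      rw [Nat.card_zpowers, ha]
      simpa using hrk A inferInstance hsq
    rw [heq]
    exact Subgroup.subset_closure (by simp)
  have heq2 : ∀ a b : ↥L, orderOf a = 2 → orderOf b = 2 → Commute a b → b = a := by
    intro a b ha hb hab
    obtain ⟨k, hk⟩ := Subgroup.mem_zpowers_iff.mp (huniq a b ha (hb ▸ pow_orderOf_eq_one b) hab)
    rcases Int.even_or_odd k with ⟨m, rfl⟩ | ⟨m, rfl⟩
    · exfalso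
      have hA2 : a ^ 2 = 1 := by rw [← ha, pow_orderOf_eq_one]
      rw [← two_mul, zpow_mul, zpow_two, ← pow_two, hA2, one_zpow] at hk
      rw [← hk, orderOf_one] at hb
      omega
    · have hA2 : a ^ 2 = 1 := by rw [← ha, pow_orderOf_eq_one]
      rw [zpow_add, zpow_mul, zpow_two, ← pow_two, hA2, one_zpow, one_mul, zpow_one] at hk
      exact hk.symm
  -- a Sylow 2-subgroup, and a central involution of it
  obtain ⟨T⟩ : Nonempty (Sylow 2 ↥L) := inferInstance
  have h2 : 2 ∣ Nat.card (T : Subgroup ↥L) := T.dvd_card_of_dvd_card (even_iff_two_dvd.mp heven)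
  haveI : Nontrivial ↥(T : Subgroup ↥L) := by
    rw [← Finite.one_lt_card_iff_nontrivial]
    have := Nat.card_pos (α := ↥(T : Subgroup ↥L))
    omega
  haveI := T.isPGroup'.center_nontrivial
  obtain ⟨z, hz⟩ : ∃ z : ↥(Subgroup.center ↥(T : Subgroup ↥L)), orderOf z = 2 := by
    obtain ⟨n, hn, hcard⟩ :=
      ((T.isPGroup'.to_subgroup (Subgroup.center _)).nontrivial_iff_card).mp inferInstance
    exact exists_prime_orderOf_dvd_card' 2 (hcard ▸ dvd_pow_self 2 (by omega))
  set t : ↥(T : Subgroup ↥L) := (z : ↥(T : Subgroup ↥L)) with ht_def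
  have htT : orderOf t = 2 := by rw [ht_def, orderOf_submonoid, hz]
  have htL : orderOf (t : ↥L) = 2 := by rw [orderOf_submonoid, htT]
  have hTuniq : ∀ y : ↥(T : Subgroup ↥L), y ^ 2 = 1 → y ∈ Subgroup.zpowers t := by
    intro y hy
    have hc : Commute (t : ↥L) (y : ↥L) :=
      (congrArg (Subtype.val) (Subgroup.mem_center_iff.mp z.2 y)).symm
    obtain ⟨k, hk⟩ := Subgroup.mem_zpowers_iff.mp
      (huniq (t : ↥L) (y : ↥L) htL (by simpa using congrArg Subtype.val hy) hc)
    exact Subgroup.mem_zpowers_iff.mpr ⟨k, Subtype.ext (by simpa using hk)⟩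
  have hnc : ¬ IsCyclic ↥(T : Subgroup ↥L) := by
    intro hcyc
    have hmin : (Nat.card ↥L).minFac = 2 := (Nat.minFac_eq_two_iff _).mpr (even_iff_two_dvd.mp heven)
    have hcompl := IsCyclic.isComplement' (P := T) hmin hcyc
    set f := MonoidHom.transferSylow T (hcyc.normalizer_le_centralizer hmin)
    have hker : f.ker = ⊤ := by
      rw [eq_top_iff, ← Group.IsPerfect.commutator_eq_top (G := ↥L), commutator_def, Subgroup.commutator_le]
      intro u _ v _
      rw [MonoidHom.mem_ker, map_commutatorElement, commutatorElement_eq_one_iff_commute]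
      exact (haveI := hcyc; letI := IsCyclic.commGroup (α := ↥(T : Subgroup ↥L)); mul_comm _ _)
    have := hcompl.card_mul
    rw [hker, Subgroup.card_top] at this
    have h1 := Nat.card_pos (α := ↥L)
    have : Nat.card (T : Subgroup ↥L) = 1 := by nlinarith
    omega
  obtain ⟨n, hn, ⟨e⟩⟩ : ∃ n : ℕ, 1 ≤ n ∧ Nonempty (↥(T : Subgroup ↥L) ≃* QuaternionGroup (2 ^ n)) :=
    ((CfsgLib.UniqueSubgroup.cyclic_or_quaternion T.isPGroup' htT hTuniq).resolve_left hnc).2
  -- `t` is isolated in `L`, hence central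
  have hiso : Cfsg.IsIsolated (t : ↥L) := fun g hg => heq2 _ _ htL (((MulAut.conj g).orderOf_eq (t : ↥L)).trans htL) hg
  have hO : pPrimeCore 2 ↥L ≤ Subgroup.center ↥L := by
    rcases CfsgLib.quasisimple_normal_le_center_or_eq_top hq (pPrimeCore 2 ↥L) with h | h
    · exact h
    · exfalso
      have hc := CfsgLib.card_pPrimeCore_coprime (G := ↥L) 2
      rw [h, Subgroup.card_top, Nat.coprime_comm, Nat.Prime.coprime_iff_not_dvd Nat.prime_two] at hc
      exact hc (even_iff_two_dvd.mp heven)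
  have hcomm_c : ∀ g : ↥L, (t : ↥L) * g * (t : ↥L)⁻¹ * g⁻¹ ∈ Subgroup.center ↥L := fun g =>
    hO (CfsgLib.ZStar.commutator_mem htL hiso g)
  let φ : ↥L →* ↥(Subgroup.center ↥L) :=
    MonoidHom.mk' (fun g => ⟨_, hcomm_c g⟩) (by
      intro g h
      apply Subtype.ext
      show (t : ↥L) * (g * h) * (t : ↥L)⁻¹ * (g * h)⁻¹ = _ * _
      have e1 := Subgroup.mem_center_iff.mp (hcomm_c h) g
      calc (t : ↥L) * (g * h) * (t : ↥L)⁻¹ * (g * h)⁻¹
          = (t : ↥L) * g * (t : ↥L)⁻¹ * (((t : ↥L) * h * (t : ↥L)⁻¹ * h⁻¹) * g⁻¹) := by group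
        _ = (t : ↥L) * g * (t : ↥L)⁻¹ * (g⁻¹ * ((t : ↥L) * h * (t : ↥L)⁻¹ * h⁻¹)) := by
            rw [Subgroup.mem_center_iff.mp (hcomm_c h) g⁻¹]
        _ = _ := by group)
  have hker : φ.ker = ⊤ := by
    rw [eq_top_iff, ← Group.IsPerfect.commutator_eq_top (G := ↥L), commutator_def, Subgroup.commutator_le]
    intro u _ v _
    rw [MonoidHom.mem_ker, map_commutatorElement, commutatorElement_eq_one_iff_commute]
    exact Subtype.ext (Subgroup.mem_center_iff.mp (φ v).2 _)
  have htc : ((t : ↥L) : G) ∈ Subgroup.centralizer (L : Set G) := by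
    intro g hg
    have : φ ⟨g, hg⟩ = 1 := by rw [← MonoidHom.mem_ker, hker]; trivial
    have hmul : (t : ↥L) * ⟨g, hg⟩ * (t : ↥L)⁻¹ * (⟨g, hg⟩ : ↥L)⁻¹ = 1 := congrArg Subtype.val this
    have := congrArg (Subtype.val) (mul_inv_eq_one.mp hmul)
    simp only [Subgroup.coe_mul, Subgroup.coe_inv] at this
    rw [← mul_inv_eq_iff_eq_mul.mp this]
  have htG : orderOf ((t : ↥L) : G) = 2 := by rw [orderOf_submonoid, htL]
  obtain ⟨hLt, hcompt⟩ := hne _ htG htc
  refine ⟨_, (t : ↥L).2, htG, L, hLt, (t : ↥L).2, hcompt.1, T, n - 1, ?_⟩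
  rw [Nat.sub_add_cancel hn]
  exact ⟨e⟩

end Cfsg.Agent.S1307
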