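import Cfsg.Statements.S1314
import Cfsg.Agent.Lib.Comp.PComp
-- import your own Cfsg.Agent.* helpers here

set_option autoImplicit false
open Cfsg
open scoped commutatorElement

namespace Cfsg.Agent.S1314

/-- Let x be an involution of a group G and L a perfect subgroup with ⁅L, x L x⁻¹⁆ = 1. Then l ↦ l (x l x⁻¹) is a group homomorphism π from L to G whose kernel is central in L and whose image lies in C_G(x); and the commutator subgroup of C_{L ⊔ xLx⁻¹}(x) equals the image of π. -/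
theorem result {G : Type*} [Group G] [Finite G] (x : G) (hx : orderOf x = 2) (L : Subgroup G) (hperf : ⁅L, L⁆ = L) (hcomm : ⁅L, L.map (MulAut.conj x).toMonoidHom⁆ = ⊥) : ∃ π : ↥L →* G, (∀ l : ↥L, π l = (l : G) * (x * (l : G) * x⁻¹)) ∧ π.ker ≤ Subgroup.center ↥L ∧ π.range ≤ Subgroup.centralizer ({x} : Set G) ∧ ⁅(L ⊔ L.map (MulAut.conj x).toMonoidHom) ⊓ Subgroup.centralizer ({x} : Set G), (L ⊔ L.map (MulAut.conj x).toMonoidHom) ⊓ Subgroup.centralizer ({x} : Set G)⁆ = π.range := by
  have hx2 : x * x = 1 := by rw [← pow_two, ← hx]; exact pow_orderOf_eq_one x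
  set s : MulAut G := MulAut.conj x with hs
  have ss : ∀ t, s (s t) = t := fun t => by
    rw [← MulAut.mul_apply, hs, ← map_mul, hx2, map_one, MulAut.one_apply]
  set L' := L.map s.toMonoidHom with hL'
  have hmem' : ∀ l ∈ L, s l ∈ L' := fun l hl => ⟨l, hl, rfl⟩
  have hcom : ∀ l ∈ L, ∀ m ∈ L', l * m = m * l := fun l hl m hm =>
    (Subgroup.mem_centralizer_iff.mp (Subgroup.commutator_eq_bot_iff_le_centralizer.mp hcomm hl) m hm).symm
  let π : ↥L →* G :=
    { toFun := fun l => (l : G) * s l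
      map_one' := by simp
      map_mul' := fun a b => by
        show (a : G) * b * s ((a : G) * b) = (a : G) * s a * ((b : G) * s b)
        rw [map_mul]
        simp only [mul_assoc]
        rw [← mul_assoc (b : G), hcom b b.2 _ (hmem' _ a.2), mul_assoc] }
  have fix_iff : ∀ t, t ∈ Subgroup.centralizer ({x} : Set G) ↔ s t = t := fun t => by
    rw [Subgroup.mem_centralizer_singleton_iff, hs, MulAut.conj_apply, mul_inv_eq_iff_eq_mul, eq_comm]
  have hπfix : ∀ l : L, s (π l) = π l := fun l => by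
    show s ((l : G) * s l) = (l : G) * s l
    rw [map_mul, ss, hcom l l.2 _ (hmem' _ l.2)]
  refine ⟨π, fun l => rfl, ?_, ?_, ?_⟩
  · intro l hl
    have h0 : (l : G) * s l = 1 := hl
    refine Subgroup.mem_center_iff.mpr fun m => Subtype.ext ?_
    refine hcom m m.2 (l : G) ?_
    rw [eq_inv_of_mul_eq_one_left h0]
    exact inv_mem (hmem' _ l.2)
  · rintro _ ⟨l, rfl⟩
    exact (fix_iff _).mpr (hπfix l)
  set M := L ⊔ L' with hM
  set C := M ⊓ Subgroup.centralizer ({x} : Set G) with hC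
  have hπC : π.range ≤ C := by
    rintro _ ⟨l, rfl⟩
    exact Subgroup.mem_inf.mpr ⟨Subgroup.mul_mem _ (Subgroup.mem_sup_left l.2) (Subgroup.mem_sup_right (hmem' _ l.2)),
      (fix_iff _).mpr (hπfix l)⟩
  refine le_antisymm ?_ ?_
  · have dec : ∀ y ∈ C, ∃ l : L, ∃ z : G, (∀ w ∈ M, Commute w z) ∧ y = π l * z := by
      intro y hy
      obtain ⟨l, hl, _, ⟨m, hm, rfl⟩, rfl⟩ := CfsgLib.Comp.mem_sup_of_commutator_eq_bot hcomm hy.1
      have hy2 := (fix_iff _).mp hy.2
      simp only [MulEquiv.coe_toMonoidHom] at hy2 ⊢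
      rw [map_mul, ss] at hy2
      have hz : m⁻¹ * l = s l * (s m)⁻¹ := by
        rw [inv_mul_eq_iff_eq_mul, ← mul_assoc, hcom m hm _ (hmem' _ hl), hy2, mul_inv_cancel_right]
      have hzL : m⁻¹ * l ∈ L := mul_mem (inv_mem hm) hl
      have hzL' : m⁻¹ * l ∈ L' := hz ▸ mul_mem (hmem' _ hl) (inv_mem (hmem' _ hm))
      refine ⟨⟨m, hm⟩, m⁻¹ * l, fun w hw => ?_, ?_⟩
      · have hle : M ≤ Subgroup.centralizer ({m⁻¹ * l} : Set G) :=
          sup_le (fun a ha => Subgroup.mem_centralizer_singleton_iff.mpr (hcom a ha _ hzL'))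
            (fun a ha => Subgroup.mem_centralizer_singleton_iff.mpr (hcom _ hzL a ha).symm)
        exact Subgroup.mem_centralizer_singleton_iff.mp (hle hw)
      · show l * s m = m * s m * (m⁻¹ * l)
        rw [mul_assoc m (s m), ← hcom _ hzL _ (hmem' _ hm), ← mul_assoc m, mul_inv_cancel_left]
    refine Subgroup.commutator_le.mpr fun y hy y' hy' => ?_
    obtain ⟨a, z, hz, rfl⟩ := dec y hy
    obtain ⟨b, z', hz', rfl⟩ := dec y' hy'
    have ha := (hπC ⟨a, rfl⟩).1
    have hb := (hπC ⟨b, rfl⟩).1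
    have c1 : Commute (π b) z := hz _ hb
    have c2 : Commute (π a) z' := hz' _ ha
    have c3 : Commute z' z := hz z' (by
      have := Subgroup.mul_mem M (Subgroup.inv_mem M hb) hy'.1
      simpa using this)
    have e : ⁅π a * z, π b * z'⁆ = ⁅π a, π b⁆ := by
      rw [commutatorElement_def, commutatorElement_def, mul_inv_rev, mul_inv_rev]
      calc π a * z * (π b * z') * (z⁻¹ * (π a)⁻¹) * (z'⁻¹ * (π b)⁻¹)
          = π a * (z * (π b * z') * z⁻¹) * ((π a)⁻¹ * z'⁻¹) * (π b)⁻¹ := by group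
        _ = π a * (π b * z') * ((π a)⁻¹ * z'⁻¹) * (π b)⁻¹ := by
            rw [show z * (π b * z') = π b * z' * z from ((c1.mul_left c3).eq).symm, mul_inv_cancel_right]
        _ = π a * (π b * z') * (z'⁻¹ * (π a)⁻¹) * (π b)⁻¹ := by rw [(c2.inv_left.inv_right).eq]
        _ = π a * π b * (π a)⁻¹ * (π b)⁻¹ := by group
    rw [e, ← map_commutatorElement]
    exact ⟨_, rfl⟩
  · have htop : ⁅(⊤ : Subgroup L), (⊤ : Subgroup L)⁆ = (⊤ : Subgroup L) := by
      apply Subgroup.map_injective (Subgroup.subtype_injective L)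
      rw [Subgroup.map_commutator, ← MonoidHom.range_eq_map, Subgroup.range_subtype, hperf]
    rw [MonoidHom.range_eq_map, ← htop, Subgroup.map_commutator, ← MonoidHom.range_eq_map]
    exact Subgroup.commutator_mono hπC hπC

end Cfsg.Agent.S1314
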