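import Cfsg.Statements.S1315
import Cfsg.Agent.Lib.TwoCompFour.PartB
-- import your own Cfsg.Agent.* helpers here

set_option autoImplicit false
open Cfsg

namespace Cfsg.Agent.S1315

/-- Let G be finite and J ≠ K subgroups, each containing exactly one involution, z(J) resp. z(K), each a 2-component of the centralizer of its involution, with J / O(J) and K / O(K) both isomorphic to SL(2, F) for one finite field F of odd order, or both non-split double covers of A7. Then (i) every 2-element of K of order at least 4 centralizing z(J) normalizes J; (ii) if z(J) normalizes K then z(K) normalizes J. -/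
theorem result {G : Type*} [Group G] [Finite G] (J K : Subgroup G) (hJK : J ≠ K) (zJ zK : G) (hzJ : zJ ∈ J ∧ orderOf zJ = 2 ∧ ∀ t ∈ J, orderOf t = 2 → t = zJ) (hzK : zK ∈ K ∧ orderOf zK = 2 ∧ ∀ t ∈ K, orderOf t = 2 → t = zK) (hJ : J ≤ Subgroup.centralizer ({zJ} : Set G) ∧ Cfsg.IsPComponent 2 (J.subgroupOf (Subgroup.centralizer ({zJ} : Set G)))) (hK : K ≤ Subgroup.centralizer ({zK} : Set G) ∧ Cfsg.IsPComponent 2 (K.subgroupOf (Subgroup.centralizer ({zK} : Set G)))) (htype : (∃ (F : Type) (_ : Field F) (_ : Fintype F), Odd (Fintype.card F) ∧ Nonempty (↥J ⧸ Cfsg.oddCore ↥J ≃* Matrix.SpecialLinearGroup (Fin 2) F) ∧ Nonempty (↥K ⧸ Cfsg.oddCore ↥K ≃* Matrix.SpecialLinearGroup (Fin 2) F)) ∨ (Cfsg.IsNonsplitDoubleCover (↥J ⧸ Cfsg.oddCore ↥J) ↥(alternatingGroup (Fin 7)) ∧ Cfsg.IsNonsplitDoubleCover (↥K ⧸ Cfsg.oddCore ↥K) ↥(alternatingGroup (Fin 7)))) : (∀ y ∈ K, IsPGroup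 2 ↥(Subgroup.zpowers y) → 4 ≤ orderOf y → y * zJ = zJ * y → y ∈ Subgroup.normalizer (J : Set G)) ∧ (zJ ∈ Subgroup.normalizer (K : Set G) → zK ∈ Subgroup.normalizer (J : Set G)) := by
  classical
  have hJq : CfsgLib.TwoCompFour.QT zJ J ∧ CfsgLib.Comp.IsPC 2 J (CfsgLib.TwoCompFour.cen zJ) :=
    let h := CfsgLib.Comp.IsPC.of_pcompOf (p := 2) (H := Subgroup.centralizer ({zJ} : Set G)) ⟨hJ.1, hJ.2⟩
    ⟨⟨hzJ.2.1, hzJ.1, hzJ.2.2, h.pel, h.qs⟩, h⟩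
  have hKq : CfsgLib.TwoCompFour.QT zK K ∧ CfsgLib.Comp.IsPC 2 K (CfsgLib.TwoCompFour.cen zK) :=
    let h := CfsgLib.Comp.IsPC.of_pcompOf (p := 2) (H := Subgroup.centralizer ({zK} : Set G)) ⟨hK.1, hK.2⟩
    ⟨⟨hzK.2.1, hzK.1, hzK.2.2, h.pel, h.qs⟩, h⟩
  have hcard : Nat.card (↥J ⧸ Cfsg.oddCore ↥J) = Nat.card (↥K ⧸ Cfsg.oddCore ↥K) := by
    rcases htype with ⟨F, _, _, -, ⟨eJ⟩, ⟨eK⟩⟩ | ⟨⟨cJ, ⟨eJ⟩, -⟩, ⟨cK, ⟨eK⟩, -⟩⟩
    · rw [Nat.card_congr eJ.toEquiv, Nat.card_congr eK.toEquiv]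
    · rw [Subgroup.card_eq_card_quotient_mul_card_subgroup (Subgroup.center (↥J ⧸ Cfsg.oddCore ↥J)),
        Subgroup.card_eq_card_quotient_mul_card_subgroup (Subgroup.center (↥K ⧸ Cfsg.oddCore ↥K)),
        Nat.card_congr eJ.toEquiv, Nat.card_congr eK.toEquiv, cJ, cK]
  have hsc : CfsgLib.TwoCompFour.sc J = CfsgLib.TwoCompFour.sc K := by
    have h1 := hJq.1.sc_eq
    have h2 := hKq.1.sc_eq
    change _ = Nat.card (↥J ⧸ Cfsg.oddCore ↥J) at h1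
    change _ = Nat.card (↥K ⧸ Cfsg.oddCore ↥K) at h2
    omega
  refine ⟨fun y hy hp h4 hyz => ?_, CfsgLib.TwoCompFour.partA hJq.1 hJq.2 hKq.1 hKq.2 hsc⟩
  obtain ⟨k, hk⟩ := hp ⟨y, Subgroup.mem_zpowers y⟩
  exact CfsgLib.TwoCompFour.partB hJq.1 hJq.2 hKq.1 hKq.2 hcard hy ⟨k, congrArg Subtype.val hk⟩ h4 hyz

end Cfsg.Agent.S1315
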