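import Cfsg.Statements.S1323
import Cfsg.Agent.Lib.Perm.StandardAlt
-- import your own Cfsg.Agent.* helpers here

set_option autoImplicit false
open Cfsg

namespace Cfsg.Agent.S1323

/-- For n ≥ 9, the subgroup of the alternating group on Fin n fixing each of the points 0, 1, 2, 3 is a standard subgroup. -/
theorem result (n : ℕ) (h4 : 4 ≤ n) (hn : 9 ≤ n) : Cfsg.IsStandardSubgroup (⨅ i : Fin 4, MulAction.stabilizer ↥(alternatingGroup (Fin n)) (Fin.castLE h4 i : Fin n)) := by
  have hs : ((Finset.univ : Finset (Fin 4)).map (Fin.castLEEmb h4)).card = 4 := by simp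
  convert CfsgLib.StandardAlt.isStandardSubgroup_fixOn hs hn
  ext σ
  rw [Subgroup.mem_iInf, CfsgLib.StandardAlt.mem_fixOn]
  constructor
  · intro h x hx
    obtain ⟨i, -, rfl⟩ := Finset.mem_map.mp hx
    exact h i
  · intro h i
    exact h _ (Finset.mem_map.mpr ⟨i, Finset.mem_univ i, rfl⟩)

end Cfsg.Agent.S1323
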