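import Cfsg.Statements.S1328
import Cfsg.Agent.Lib.Comp.BalanceLocal
import Cfsg.Agent.Lib.Comp.CompMove
import Cfsg.Agent.Lib.Comp.Extended
-- import your own Cfsg.Agent.* helpers here

set_option autoImplicit false
open Cfsg

open scoped commutatorElement

namespace Cfsg.Agent.S1328

/-- Let G be finite, H ≤ G with O(H) = 1, t an involution of G normalizing H, and Y a nontrivial subgroup of O(C_H(t)). Then some component E of H is normalized by t and by Y and centralized by neither t nor Y. -/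
theorem result {G : Type*} [Group G] [Finite G] (H : Subgroup G) (hO : Cfsg.oddCore ↥H = ⊥) (t : G) (ht : orderOf t = 2) (htH : t ∈ Subgroup.normalizer (H : Set G)) (Y : Subgroup G) (hY1 : Y ≠ ⊥) (hY : Y ≤ (Cfsg.oddCore ↥(H ⊓ Subgroup.centralizer ({t} : Set G))).map (H ⊓ Subgroup.centralizer ({t} : Set G)).subtype) : ∃ E : Subgroup ↥H, Cfsg.IsComponent E ∧ (E.map H.subtype).map (MulAut.conj t).toMonoidHom = E.map H.subtype ∧ Y ≤ Subgroup.normalizer ((E.map H.subtype : Subgroup G) : Set G) ∧ ¬ (t ∈ Subgroup.centralizer ((E.map H.subtype : Subgroup G) : Set G)) ∧ ¬ (Y ≤ Subgroup.centralizer ((E.map H.subtype : Subgroup G) : Set G)) := by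
  classical
  haveI : Fact (Nat.Prime 2) := ⟨Nat.prime_two⟩
  let M : Subgroup G := H ⊔ Subgroup.zpowers t
  have hHM : H ≤ M := le_sup_left
  have htM : t ∈ M := Subgroup.mem_sup_right (Subgroup.mem_zpowers t)
  have hMN : M ≤ Subgroup.normalizer (H : Set G) := sup_le Subgroup.le_normalizer (Subgroup.zpowers_le.mpr htH)
  let N : Subgroup ↥M := H.subgroupOf M
  haveI hNn : N.Normal := (Subgroup.normal_subgroupOf_iff_le_normalizer hHM).mpr hMN
  have htt : t ^ 2 = 1 := ht ▸ pow_orderOf_eq_one t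
  let x : ↥M := ⟨t, htM⟩
  have hx : orderOf x = 2 := by rw [← ht]; exact (Subgroup.orderOf_coe x).symm
  -- every element of `M` is `h` or `h t`
  have hdec : ∀ m : ↥M, m ∈ N ∨ m * x ∈ N := by
    rintro ⟨m, hm⟩
    have hm' : m ∈ ((H ⊔ Subgroup.zpowers t : Subgroup G) : Set G) := hm
    rw [Subgroup.coe_mul_of_right_le_normalizer_left H (Subgroup.zpowers t) (Subgroup.zpowers_le.mpr htH)] at hm'
    obtain ⟨h, hh, _, ⟨i, rfl⟩, rfl⟩ := hm'
    rcases Int.even_or_odd i with ⟨j, rfl⟩ | ⟨j, rfl⟩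
    · left
      show h * t ^ (j + j) ∈ H
      rw [← two_mul, zpow_mul, show t ^ (2 : ℤ) = 1 from by rw [show (2 : ℤ) = ((2 : ℕ) : ℤ) from rfl, zpow_natCast, htt],
        one_zpow, mul_one]
      exact hh
    · right
      show h * t ^ (2 * j + 1) * t ∈ H
      rw [zpow_add, zpow_mul, show t ^ (2 : ℤ) = 1 from by rw [show (2 : ℤ) = ((2 : ℕ) : ℤ) from rfl, zpow_natCast, htt],
        one_zpow, one_mul, zpow_one, mul_assoc, ← pow_two, htt, mul_one]
      exact hh
  have hsq : ∀ m : ↥M, m * m ∈ N := by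
    intro m
    rcases hdec m with h | h
    · exact N.mul_mem h h
    · have h1 := hNn.conj_mem _ h x
      have e : m * m = (m * x) * (x * (m * x) * x⁻¹) * (x * x)⁻¹ * (x * x) := by
        have hx2 : x * x = 1 := Subtype.ext (by show t * t = 1; rw [← pow_two, htt])
        rw [hx2, inv_one, mul_one, mul_one]
        calc m * m = m * (x * x) * m * (x * x⁻¹) := by rw [hx2, mul_one, mul_inv_cancel, mul_one]
          _ = _ := by group
      rw [e]
      have hx2 : x * x = 1 := Subtype.ext (by show t * t = 1; rw [← pow_two, htt])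
      rw [hx2, inv_one, mul_one, mul_one]
      exact N.mul_mem h h1
  -- `O(M) = 1`
  have hO : Cfsg.pPrimeCore 2 ↥M = ⊥ := by
    set O := Cfsg.pPrimeCore 2 ↥M
    have hOcard : (Nat.card O).Coprime 2 := CfsgLib.card_pPrimeCore_coprime 2
    have hON : O ≤ N := by
      intro m hm
      have hodd : Odd (orderOf m) := by
        rw [← Nat.coprime_two_right]
        exact Nat.Coprime.coprime_dvd_left (Subgroup.orderOf_dvd_natCard _ hm) hOcard
      obtain ⟨k, hk⟩ := hodd
      have h1 : m ^ (2 * (k + 1)) = m := by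
        rw [show 2 * (k + 1) = orderOf m + 1 by omega, pow_succ, pow_orderOf_eq_one, one_mul]
      rw [← h1, pow_mul, pow_two]
      exact N.pow_mem (hsq m) _
    rw [eq_bot_iff]
    intro m hm
    let O' : Subgroup ↥H := (O.map M.subtype).subgroupOf H
    haveI : O'.Normal := by
      refine ⟨fun a ha g => ?_⟩
      obtain ⟨o, ho, e⟩ := ha
      refine ⟨⟨g, hHM g.2⟩ * o * ⟨g, hHM g.2⟩⁻¹, (inferInstance : O.Normal).conj_mem o ho _, ?_⟩
      show (g : G) * o * (g : G)⁻¹ = (g : G) * a * (g : G)⁻¹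
      rw [show (o : G) = a from e]
    have hle : O.map M.subtype ≤ H := by rintro _ ⟨o, ho, rfl⟩; exact hON ho
    have hO' : Odd (Nat.card O') := by
      rw [Nat.card_congr (Subgroup.subgroupOfEquivOfLe hle).toEquiv,
        Subgroup.card_map_of_injective M.subtype_injective, ← Nat.coprime_two_right]
      exact hOcard
    have h2 : O' ≤ Cfsg.oddCore ↥H := CfsgLib.le_oddCore (N := O') hO'
    rw [hO] at h2
    have h3 : (⟨(m : G), hON hm⟩ : ↥H) = 1 := Subgroup.mem_bot.mp (h2 ⟨m, hm, rfl⟩)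
    have h4 : (m : G) = 1 := congrArg (Subtype.val : ↥H → G) h3
    exact Subgroup.mem_bot.mpr (Subtype.ext h4)
  -- `Y ≤ O(C_M(t))`
  set D := Cfsg.centralizerPPrimeCore 2 x with hD
  have hYM : ∀ y ∈ Y, ∃ hy : y ∈ M, (⟨y, hy⟩ : ↥M) ∈ D := by
    intro y hy
    obtain ⟨u, hu, rfl⟩ := hY hy
    set Cx := Subgroup.centralizer ({x} : Set ↥M)
    let O := Cfsg.oddCore ↥(H ⊓ Subgroup.centralizer ({t} : Set G))
    let f : ↥(H ⊓ Subgroup.centralizer ({t} : Set G)) →* ↥Cx :=
      { toFun := fun u => ⟨⟨u, hHM u.2.1⟩, Subgroup.mem_centralizer_singleton_iff.mpr (Subtype.ext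
          (Subgroup.mem_centralizer_singleton_iff.mp u.2.2))⟩
        map_one' := rfl
        map_mul' := fun _ _ => rfl }
    have hxc : ∀ c : ↥Cx, ((c : ↥M) : G) * t = t * ((c : ↥M) : G) := fun c =>
      congrArg Subtype.val (Subgroup.mem_centralizer_singleton_iff.mp c.2)
    haveI : (O.map f).Normal := by
      refine ⟨?_⟩
      rintro _ ⟨o, ho, rfl⟩ c
      rcases hdec (c : ↥M) with h | h
      · refine ⟨⟨((c : ↥M) : G), h, Subgroup.mem_centralizer_singleton_iff.mpr (hxc c)⟩ * o *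
          ⟨((c : ↥M) : G), h, Subgroup.mem_centralizer_singleton_iff.mpr (hxc c)⟩⁻¹,
          (inferInstance : O.Normal).conj_mem o ho _, rfl⟩
      · have hc' : ((c : ↥M) : G) * t ∈ Subgroup.centralizer ({t} : Set G) :=
          Subgroup.mem_centralizer_singleton_iff.mpr (by rw [← mul_assoc, ← hxc c])
        refine ⟨⟨((c : ↥M) : G) * t, h, hc'⟩ * o * ⟨((c : ↥M) : G) * t, h, hc'⟩⁻¹,
          (inferInstance : O.Normal).conj_mem o ho _, ?_⟩
        apply Subtype.ext
        apply Subtype.ext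
        show ((c : ↥M) : G) * t * (o : G) * (((c : ↥M) : G) * t)⁻¹ = ((c : ↥M) : G) * (o : G) * ((c : ↥M) : G)⁻¹
        rw [mul_assoc ((c : ↥M) : G) t, show t * (o : G) = (o : G) * t from
          (Subgroup.mem_centralizer_singleton_iff.mp o.2.2).symm]
        group
    have hcop : (Nat.card (O.map f)).Coprime 2 :=
      Nat.Coprime.coprime_dvd_left (Subgroup.card_map_dvd _ _)
        (Nat.coprime_two_right.mpr (CfsgLib.odd_card_oddCore (G := ↥(H ⊓ Subgroup.centralizer ({t} : Set G)))))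
    exact ⟨hHM u.2.1, ⟨f u, CfsgLib.le_pPrimeCore hcop ⟨u, hu, rfl⟩, rfl⟩⟩
  obtain ⟨L, hL, hLY⟩ : ∃ L : Subgroup ↥M, Cfsg.IsComponent L ∧
      ¬ ∀ y ∈ Y, ∀ hy : y ∈ M, ∀ l ∈ L, (⟨y, hy⟩ : ↥M) * l = l * ⟨y, hy⟩ := by
    by_contra hh
    push Not at hh
    obtain ⟨y, hy, hy1⟩ := (Subgroup.bot_or_exists_ne_one Y).resolve_left hY1
    obtain ⟨hyM, hyD⟩ := hYM y hy
    have hc : (⟨y, hyM⟩ : ↥M) ∈ Subgroup.centralizer (Cfsg.generalizedFittingSubgroup ↥M : Set ↥M) := by
      have hle : Cfsg.generalizedFittingSubgroup ↥M ≤ Subgroup.centralizer {(⟨y, hyM⟩ : ↥M)} := by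
        refine sup_le (sSup_le fun L hL l hl => Subgroup.mem_centralizer_singleton_iff.mpr (hh L hL y hy hyM l hl).symm) ?_
        rw [CfsgLib.fitting_eq_pCore Nat.prime_two hO]
        intro l hl
        exact Subgroup.mem_centralizer_singleton_iff.mpr
          (CfsgLib.Comp.centralizerCore_centralizes_pCore hx hyD l hl)
      exact Subgroup.mem_centralizer_iff.mpr fun l hl => Subgroup.mem_centralizer_singleton_iff.mp (hle hl)
    have h1 : (⟨y, hyM⟩ : ↥M) ∈ Cfsg.fittingSubgroup ↥M := by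
      refine CfsgLib.le_fittingSubgroup (N := Subgroup.centralizer (Cfsg.generalizedFittingSubgroup ↥M : Set ↥M))
        (CfsgLib.Comp.nilpotent_of_comm fun a ha b hb => hb a (CfsgLib.centralizer_generalizedFitting_le ha)) hc
    rw [CfsgLib.fitting_eq_pCore Nat.prime_two hO] at h1
    obtain ⟨n, hn⟩ := CfsgLib.isPGroup_pCore (G := ↥M) 2 ⟨_, h1⟩
    have h2 := CfsgLib.Comp.pElement_eq_one_of_coprime (CfsgLib.Comp.card_centralizerCore_coprime x) hyD
      (congrArg Subtype.val hn)
    exact hy1 (congrArg Subtype.val h2)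
  -- the component found
  have hLD : ∀ d ∈ D, d ∈ Subgroup.normalizer (L : Set ↥M) := fun d hd =>
    CfsgLib.Comp.centralizerCore_normalizes hO hx hL hd
  have hne : ⁅L, Subgroup.zpowers x⁆ = L := by
    by_contra hne
    refine hLY fun y hy hyM l hl => ?_
    obtain ⟨hyM', hyD⟩ := hYM y hy
    exact ((CfsgLib.Comp.comm_of_commutator_eq_bot
      (CfsgLib.Comp.centralizerCore_centralizes hO hx hL hne) hl hyD)).symm
  have hxL : x ∈ Subgroup.normalizer (L : Set ↥M) := by
    have h1 := CfsgLib.right_le_normalizer_commutator (Subgroup.zpowers x) L (Subgroup.mem_zpowers x)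
    rwa [hne] at h1
  have hLN : L ≤ N := by
    rcases CfsgLib.component_le_or_commutator_eq_bot hL N with h | h
    · exact h
    · exfalso
      refine CfsgLib.isComponent_ne_bot hL ?_
      rw [← CfsgLib.isComponent_commutator_self hL, eq_bot_iff, Subgroup.commutator_le]
      intro a ha b hb
      have hcn : ∀ n ∈ N, a * n = n * a := fun n hn => CfsgLib.Comp.comm_of_commutator_eq_bot h ha hn
      rw [Subgroup.mem_bot, commutatorElement_eq_one_iff_mul_comm]
      rcases hdec b with hb' | hb'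
      · exact hcn b hb'
      rcases hdec a with ha' | ha'
      · exact (CfsgLib.Comp.comm_of_commutator_eq_bot h hb ha').symm
      · have hx2 : x * x = 1 := Subtype.ext (by show t * t = 1; rw [← pow_two, htt])
        have hax : a * x * a⁻¹ = x := by
          have h1 : a * (a * x) = a * x * a := hcn _ ha'
          calc a * x * a⁻¹ = a * (a * x) * (a⁻¹ * a⁻¹) * (a * a⁻¹) := by rw [h1]; group
            _ = x := by
              have h2 : a * (a * x) * (a⁻¹ * a⁻¹) = a * x * a * (a⁻¹ * a⁻¹) := by rw [h1]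
              calc a * (a * x) * (a⁻¹ * a⁻¹) * (a * a⁻¹) = a * (a * x) * (a⁻¹ * a⁻¹) := by group
                _ = a * x * a⁻¹ := by rw [h2]; group
                _ = x := by
                  have h3 : a * a * x = a * (x * a) := by rw [mul_assoc, h1, mul_assoc]
                  have h4 : a * x = x * a := by rw [mul_assoc] at h3; exact mul_left_cancel h3
                  rw [h4, mul_inv_cancel_right]
        have hax' : a * x = x * a := mul_inv_eq_iff_eq_mul.mp hax
        calc a * b = a * (b * x) * x := by rw [mul_assoc, mul_assoc, hx2, mul_one]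
          _ = (b * x) * (a * x) := by rw [hcn _ hb', mul_assoc]
          _ = b * (x * x) * a := by rw [hax']; group
          _ = b * a := by rw [hx2, mul_one]
  let e : ↥N ≃* ↥H := Subgroup.subgroupOfEquivOfLe hHM
  let E : Subgroup ↥H := (L.subgroupOf N).map e.toMonoidHom
  have hEmap : E.map H.subtype = L.map M.subtype := by
    ext g
    constructor
    · rintro ⟨_, ⟨l, hl, rfl⟩, rfl⟩
      exact ⟨l, hl, rfl⟩
    · rintro ⟨l, hl, rfl⟩
      exact ⟨e ⟨l, hLN hl⟩, ⟨⟨l, hLN hl⟩, hl, rfl⟩, rfl⟩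
  have hnorm : ∀ m : ↥M, m ∈ Subgroup.normalizer (L : Set ↥M) → (L.map M.subtype).map (MulAut.conj (m : G)).toMonoidHom = L.map M.subtype := by
    intro m hm
    ext g
    constructor
    · rintro ⟨_, ⟨l, hl, rfl⟩, rfl⟩
      exact ⟨m * l * m⁻¹, (Subgroup.mem_normalizer_iff.mp hm l).mp hl, rfl⟩
    · rintro ⟨l, hl, rfl⟩
      refine ⟨_, ⟨m⁻¹ * l * m, (Subgroup.mem_normalizer_iff''.mp hm l).mp hl, rfl⟩, ?_⟩
      show (m : G) * ((m : G)⁻¹ * l * m) * (m : G)⁻¹ = (l : G)
      group
  refine ⟨E, CfsgLib.isComponent_map_equiv e (CfsgLib.isComponent_subgroupOf hL hLN), ?_, ?_, ?_, ?_⟩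
  · rw [hEmap]; exact hnorm x hxL
  · intro y hy
    obtain ⟨hyM, hyD⟩ := hYM y hy
    rw [hEmap]
    refine Subgroup.mem_normalizer_fintype fun g hg => ?_
    have h := hnorm ⟨y, hyM⟩ (hLD _ hyD)
    exact h.le ⟨g, hg, rfl⟩
  · intro h
    rw [hEmap] at h
    refine CfsgLib.isComponent_ne_bot hL ?_
    rw [← hne, eq_bot_iff, Subgroup.commutator_le]
    rintro l hl _ ⟨i, rfl⟩
    rw [Subgroup.mem_bot, commutatorElement_eq_one_iff_mul_comm]
    have hc : Commute l x := Subtype.ext (Subgroup.mem_centralizer_iff.mp h _ ⟨l, hl, rfl⟩)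
    exact (hc.zpow_right i).eq
  · intro h
    refine hLY fun y hy hyM l hl => ?_
    rw [hEmap] at h
    exact Subtype.ext (Subgroup.mem_centralizer_iff.mp (h hy) _ ⟨l, hl, rfl⟩).symm

end Cfsg.Agent.S1328
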