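import Cfsg.Statements.S1335
-- import your own Cfsg.Agent.* helpers here

set_option autoImplicit false
open Cfsg

namespace Cfsg.Agent.S1335

/-- Let H be a subgroup of the finite group G, p a prime, k ≥ 1, P a Sylow p-subgroup of H of p-rank at least k, and suppose N_G(X) ≤ H for every subgroup X ≤ P of p-rank at least k. Then P is a Sylow p-subgroup of G. -/
theorem result {G : Type*} [Group G] [Finite G] {p : ℕ} [Fact p.Prime] (k : ℕ) (hk : 1 ≤ k) (H : Subgroup G) (P : Sylow p ↥H) (hP : ¬ Cfsg.PRankLE p (k - 1) ↥(P : Subgroup ↥H)) (hΓ : (∀ X : Subgroup G, X ≤ (P : Subgroup ↥H).map H.subtype → ¬ Cfsg.PRankLE p (k - 1) ↥X → Subgroup.normalizer (X : Set G) ≤ H)) : ∃ Q : Sylow p G, (Q : Subgroup G) = (P : Subgroup ↥H).map H.subtype := by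
  set P' := (P : Subgroup ↥H).map H.subtype with hP'
  obtain ⟨Q, hQ⟩ := (P.2.map H.subtype : IsPGroup p ↥P').exists_le_sylow
  refine ⟨Q, le_antisymm ?_ hQ⟩
  by_contra hne
  haveI : Group.IsNilpotent ↥(Q : Subgroup G) := Q.2.isNilpotent
  have hlt : P'.subgroupOf (Q : Subgroup G) < ⊤ :=
    lt_top_iff_ne_top.mpr fun e => hne (Subgroup.subgroupOf_eq_top.mp e)
  obtain ⟨⟨x, hxQ⟩, hxN, hxP⟩ := SetLike.exists_of_lt (normalizerCondition_of_isNilpotent _ hlt)
  have hxn : x ∈ Subgroup.normalizer (P' : Set G) := by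
    refine Subgroup.mem_normalizer_iff.mpr fun d => ⟨fun hd => ?_, fun hd => ?_⟩
    · exact (Subgroup.mem_normalizer_iff.mp hxN ⟨d, hQ hd⟩).mp hd
    · have hdQ : d ∈ (Q : Subgroup G) := by
        have := mul_mem (mul_mem (inv_mem hxQ) (hQ hd)) hxQ
        simpa [mul_assoc] using this
      exact (Subgroup.mem_normalizer_iff.mp hxN ⟨d, hdQ⟩).mpr hd
  have hrank : ¬ Cfsg.PRankLE p (k - 1) ↥P' := by
    intro h
    refine hP fun A hA hAp => ?_
    have e := Subgroup.equivMapOfInjective (P : Subgroup ↥H) H.subtype (Subgroup.subtype_injective H)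
    haveI := hA
    refine le_of_eq_of_le (Subgroup.card_map_of_injective (f := e.toMonoidHom) e.injective).symm (h _ ?_ ?_)
    · refine ⟨⟨?_⟩⟩
      rintro ⟨_, a, ha, rfl⟩ ⟨_, b, hb, rfl⟩
      exact Subtype.ext (show e a * e b = e b * e a by
        rw [← map_mul, ← map_mul, show a * b = b * a from congrArg Subtype.val (hA.is_comm.comm ⟨a, ha⟩ ⟨b, hb⟩)])
    · rintro _ ⟨a, ha, rfl⟩
      exact (map_pow e.toMonoidHom a p).symm.trans (by rw [hAp a ha, map_one])
  have hxH : x ∈ H := hΓ P' le_rfl hrank hxn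
  have h1 : (Q : Subgroup G).subgroupOf H = (P : Subgroup ↥H) :=
    P.3 (Q.2.of_injective (H.subtype.subgroupComap _)
      (fun u v w => Subtype.ext (Subtype.ext (congrArg (fun z : ↥(Q : Subgroup G) => (z : G)) w))))
      (fun y hy => Subgroup.mem_subgroupOf.mpr (hQ ⟨y, hy, rfl⟩))
  refine hxP (Subgroup.mem_subgroupOf.mpr ⟨⟨x, hxH⟩, ?_, rfl⟩)
  rw [SetLike.mem_coe, ← h1]
  exact hxQ

end Cfsg.Agent.S1335
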