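import Cfsg.Statements.S1336
-- import your own Cfsg.Agent.* helpers here

set_option autoImplicit false
open Cfsg

namespace Cfsg.Agent.S1336

/-- Let G be finite and p prime. Then G has a proper subgroup H with p ∣ |H| and p ∤ |H ∩ gHg⁻¹| for every g ∉ H (a strongly p-embedded subgroup) if and only if G is not 1-connected for p. -/
theorem result {G : Type*} [Group G] [Finite G] (p : ℕ) [Fact p.Prime] : (∃ H : Subgroup G, H ≠ ⊤ ∧ p ∣ Nat.card ↥H ∧ ∀ g : G, g ∉ H → ¬ p ∣ Nat.card ↥(H ⊓ H.map (MulAut.conj g).toMonoidHom)) ↔ ¬ Cfsg.IsKConnected p 1 G := by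
  classical
  let r : Subgroup G → Subgroup G → Prop := fun A B => Cfsg.IsElementaryAbelian p A ∧ p ^ 1 ≤ Nat.card ↥A ∧
    Cfsg.IsElementaryAbelian p B ∧ p ^ 1 ≤ Nat.card ↥B ∧ ∀ a ∈ A, ∀ b ∈ B, a * b = b * a
  let cj : G → Subgroup G → Subgroup G := fun g A => A.map (MulAut.conj g).toMonoidHom
  have hp : p.Prime := Fact.out
  have cyc : ∀ x : G, x ^ p = 1 → x ≠ 1 →
      Cfsg.IsElementaryAbelian p (Subgroup.zpowers x) ∧ p ^ 1 ≤ Nat.card ↥(Subgroup.zpowers x) := by
    intro x hx hx1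
    refine ⟨⟨inferInstance, ?_⟩, by rw [pow_one, Nat.card_zpowers, orderOf_eq_prime hx hx1]⟩
    intro y hy
    obtain ⟨i, rfl⟩ := Subgroup.mem_zpowers_iff.mp hy
    rw [← zpow_natCast, ← zpow_mul, mul_comm, zpow_mul, zpow_natCast, hx, one_zpow]
  have cjm : ∀ g h A, cj g (cj h A) = cj (g * h) A := by
    intro g h A
    show (A.map _).map _ = A.map _
    rw [Subgroup.map_map]
    congr 1
    ext x
    simp [mul_assoc]
  have cj1 : ∀ A, cj 1 A = A := by
    intro A
    show A.map _ = A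
    rw [map_one]
    exact Subgroup.map_id A
  have cjz : ∀ g x, cj g (Subgroup.zpowers x) = Subgroup.zpowers (g * x * g⁻¹) := fun g x =>
    (MonoidHom.map_zpowers _ _).trans rfl
  have cjv : ∀ g A, Cfsg.IsElementaryAbelian p A ∧ p ^ 1 ≤ Nat.card ↥A →
      Cfsg.IsElementaryAbelian p (cj g A) ∧ p ^ 1 ≤ Nat.card ↥(cj g A) := by
    intro g A ⟨⟨hA, hAp⟩, hc⟩
    refine ⟨⟨⟨⟨?_⟩⟩, ?_⟩, le_of_le_of_eq hc (Subgroup.card_map_of_injective (MulAut.conj g).injective).symm⟩
    · rintro ⟨_, a, ha, rfl⟩ ⟨_, b, hb, rfl⟩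
      exact Subtype.ext (show MulAut.conj g a * MulAut.conj g b = MulAut.conj g b * MulAut.conj g a by
        rw [← map_mul, ← map_mul, show a * b = b * a from congrArg Subtype.val (hA.is_comm.comm ⟨a, ha⟩ ⟨b, hb⟩)])
    · rintro _ ⟨a, ha, rfl⟩
      exact (map_pow (MulAut.conj g).toMonoidHom a p).symm.trans (by rw [hAp a ha, map_one])
  have hsymm : ∀ A B, Relation.ReflTransGen r A B → Relation.ReflTransGen r B A := fun A B h => by
    induction h with
    | refl => exact .refl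
    | tail _ h2 ih => exact (Relation.ReflTransGen.single
        ⟨h2.2.2.1, h2.2.2.2.1, h2.1, h2.2.1, fun a ha b hb => (h2.2.2.2.2 b hb a ha).symm⟩).trans ih
  have hconj : ∀ g A B, Relation.ReflTransGen r A B → Relation.ReflTransGen r (cj g A) (cj g B) := fun g A B h => by
    induction h with
    | refl => exact .refl
    | tail _ h2 ih =>
      refine ih.tail ⟨(cjv g _ ⟨h2.1, h2.2.1⟩).1, (cjv g _ ⟨h2.1, h2.2.1⟩).2, (cjv g _ ⟨h2.2.2.1, h2.2.2.2.1⟩).1,
        (cjv g _ ⟨h2.2.2.1, h2.2.2.2.1⟩).2, ?_⟩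
      rintro _ ⟨a, ha, rfl⟩ _ ⟨b, hb, rfl⟩
      rw [← map_mul, ← map_mul, h2.2.2.2.2 a ha b hb]
  constructor
  · rintro ⟨H, hne, hdvd, hH⟩ hconn
    obtain ⟨⟨x, hxH⟩, hx⟩ := exists_prime_orderOf_dvd_card' (G := ↥H) p hdvd
    rw [Subgroup.orderOf_mk] at hx
    obtain ⟨g, hg⟩ : ∃ g : G, g ∉ H := by
      by_contra hh
      push Not at hh
      exact hne ((Subgroup.eq_top_iff' _).mpr hh)
    have hx1 : x ≠ 1 := fun e => hp.one_lt.ne' (by rw [← hx, e, orderOf_one])
    have hxp : x ^ p = 1 := by rw [← hx]; exact pow_orderOf_eq_one x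
    have hord : orderOf (g * x * g⁻¹) = p :=
      (orderOf_injective (MulAut.conj g).toMonoidHom (MulAut.conj g).injective x).trans hx
    have hy1 : g * x * g⁻¹ ≠ 1 := fun e => hp.one_lt.ne' (by rw [← hord, e, orderOf_one])
    have hyp : (g * x * g⁻¹) ^ p = 1 := by rw [← hord]; exact pow_orderOf_eq_one _
    have path := hconn _ _ (cyc x hxp hx1).1 (cyc x hxp hx1).2 (cyc _ hyp hy1).1 (cyc _ hyp hy1).2
    have inH : ∀ B, Relation.ReflTransGen r (Subgroup.zpowers x) B → B ≤ H := by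
      intro B hB
      induction hB with
      | refl => exact Subgroup.zpowers_le.mpr hxH
      | @tail A B _ h2 ih =>
        intro b hb
        by_contra hbH
        refine hH b hbH (dvd_trans ?_ (Subgroup.card_dvd_of_le (show A ≤ _ from le_inf ih fun a ha =>
          ⟨a, ih ha, show b * a * b⁻¹ = a by rw [← h2.2.2.2.2 a ha b hb, mul_inv_cancel_right]⟩)))
        have hAne : A ≠ ⊥ := fun e => by
          have h3 := h2.2.1
          rw [e, Subgroup.card_bot, pow_one] at h3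
          exact absurd h3 (not_le.mpr hp.one_lt)
        obtain ⟨⟨a, ha⟩, ha'⟩ := Subgroup.ne_bot_iff_exists_ne_one.mp hAne
        have ha1 : a ≠ 1 := fun e => ha' (Subtype.ext e)
        exact (orderOf_eq_prime (h2.1.2 a ha) ha1) ▸ Subgroup.orderOf_dvd_natCard _ ha
    refine hH g hg ?_
    have hmem : g * x * g⁻¹ ∈ H ⊓ H.map (MulAut.conj g).toMonoidHom :=
      ⟨inH _ path (Subgroup.mem_zpowers _), ⟨x, hxH, rfl⟩⟩
    exact hord ▸ Subgroup.orderOf_dvd_natCard _ hmem
  · intro hnot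
    obtain ⟨E, E', hE, hEc, hE', hE'c, hn⟩ : ∃ E E', Cfsg.IsElementaryAbelian p E ∧ p ^ 1 ≤ Nat.card ↥E ∧
        Cfsg.IsElementaryAbelian p E' ∧ p ^ 1 ≤ Nat.card ↥E' ∧ ¬ Relation.ReflTransGen r E E' := by
      by_contra hh
      push Not at hh
      exact hnot fun E E' a b c d => hh E E' a b c d
    let H : Subgroup G :=
      { carrier := {g | Relation.ReflTransGen r E (cj g E)}
        one_mem' := by show Relation.ReflTransGen r E (cj 1 E); rw [cj1]
        mul_mem' := fun {g h} (hg : Relation.ReflTransGen r E (cj g E)) (hh : Relation.ReflTransGen r E (cj h E)) =>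
          show Relation.ReflTransGen r E (cj (g * h) E) from cjm g h E ▸ hg.trans (hconj g _ _ hh)
        inv_mem' := fun {g} (hg : Relation.ReflTransGen r E (cj g E)) =>
          show Relation.ReflTransGen r E (cj g⁻¹ E) from
            hsymm _ _ (by simpa [cjm, cj1] using hconj g⁻¹ _ _ hg) }
    have pgrp : ∀ F : Subgroup G, Cfsg.IsElementaryAbelian p F → IsPGroup p ↥F := fun F hF a =>
      ⟨1, Subtype.ext (by push_cast; rw [pow_one]; exact hF.2 a a.2)⟩
    obtain ⟨P, hEP⟩ := (pgrp E hE).exists_le_sylow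
    haveI : Nontrivial ↥(P : Subgroup G) := by
      rw [Subgroup.nontrivial_iff_ne_bot]
      intro e
      rw [le_bot_iff.mp (hEP.trans e.le), Subgroup.card_bot, pow_one] at hEc
      exact absurd hEc (not_le.mpr hp.one_lt)
    haveI : Nontrivial ↥(Subgroup.center ↥(P : Subgroup G)) := P.2.center_nontrivial
    obtain ⟨w, hw⟩ := exists_prime_orderOf_dvd_card' (G := ↥(Subgroup.center ↥(P : Subgroup G))) p (by
      obtain ⟨n, hn⟩ := IsPGroup.iff_card.mp (P.2.to_subgroup (Subgroup.center ↥(P : Subgroup G)))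
      rw [hn]
      refine dvd_pow_self p fun h0 => ?_
      rw [h0, pow_zero] at hn
      exact absurd hn (Finite.one_lt_card.ne'))
    set z : G := ((w : ↥(P : Subgroup G)) : G) with hz
    have hzo : orderOf z = p := by rw [hz, Subgroup.orderOf_coe, Subgroup.orderOf_coe, hw]
    have hz1 : z ≠ 1 := fun e => hp.one_lt.ne' (by rw [← hzo, e, orderOf_one])
    have hzp : z ^ p = 1 := by rw [← hzo]; exact pow_orderOf_eq_one z
    have hzc : ∀ u ∈ P, ∀ y ∈ Subgroup.zpowers z, u * y = y * u := fun u hu y hy => by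
      obtain ⟨i, rfl⟩ := Subgroup.mem_zpowers_iff.mp hy
      exact ((show Commute u z from congrArg Subtype.val (Subgroup.mem_center_iff.mp w.2 ⟨u, hu⟩)).zpow_right i).eq
    have hz' := cyc z hzp hz1
    have hEz : Relation.ReflTransGen r E (Subgroup.zpowers z) :=
      .single ⟨hE, hEc, hz'.1, hz'.2, fun a ha b hb => hzc a (hEP ha) b hb⟩
    have hzg : ∀ g, g ∈ H ↔ Relation.ReflTransGen r E (cj g (Subgroup.zpowers z)) := fun g =>
      ⟨fun hg => hg.trans (hconj g _ _ hEz), fun hg => hg.trans (hconj g _ _ (hsymm _ _ hEz))⟩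
    have hPH : (P : Subgroup G) ≤ H := fun u hu => (hzg u).mpr <| by
      rw [cjz, show u * z * u⁻¹ = z by rw [hzc u hu z (Subgroup.mem_zpowers z), mul_inv_cancel_right]]
      exact hEz
    have toE : ∀ x ∈ H, x ^ p = 1 → x ≠ 1 → Relation.ReflTransGen r E (Subgroup.zpowers x) := by
      intro x hxH hxp hx1
      have hq : IsPGroup p ↥((Subgroup.zpowers x).subgroupOf H) :=
        (pgrp _ (cyc x hxp hx1).1).of_equiv (Subgroup.subgroupOfEquivOfLe (Subgroup.zpowers_le.mpr hxH)).symm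
      obtain ⟨T, hT⟩ := hq.exists_le_sylow
      obtain ⟨h, hh⟩ := MulAction.exists_smul_eq ↥H (P.subtype hPH) T
      have hxT : (⟨x, hxH⟩ : H) ∈ (T : Subgroup H) := hT (Subgroup.mem_subgroupOf.mpr (Subgroup.mem_zpowers x))
      rw [← hh, Sylow.coe_subgroup_smul] at hxT
      obtain ⟨u, hu, e⟩ := hxT
      have e' : (h : G) * u * (h : G)⁻¹ = x := congrArg Subtype.val e
      have h3 := (hzg h).mp h.2
      refine h3.trans (.single ⟨(cjv h _ hz').1, (cjv h _ hz').2, (cyc x hxp hx1).1, (cyc x hxp hx1).2, ?_⟩)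
      rintro _ ⟨y, hy, rfl⟩ b hb
      obtain ⟨i, rfl⟩ := Subgroup.mem_zpowers_iff.mp hb
      refine (Commute.zpow_right ?_ i).eq
      rw [← e']
      show MulAut.conj (h : G) y * MulAut.conj (h : G) u = MulAut.conj (h : G) u * MulAut.conj (h : G) y
      rw [← map_mul, ← map_mul, hzc u hu y hy]
    refine ⟨H, fun htop => hn ?_, ?_, fun g hg hdiv => hg ?_⟩
    · obtain ⟨P', hP'⟩ := (pgrp E' hE').exists_le_sylow
      obtain ⟨g, hg⟩ := MulAction.exists_smul_eq G P P'
      refine ((hzg g).mp (htop ▸ Subgroup.mem_top g)).trans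
        (.single ⟨(cjv g _ hz').1, (cjv g _ hz').2, hE', hE'c, ?_⟩)
      rintro _ ⟨y, hy, rfl⟩ b hb
      have hb' : b ∈ (P' : Subgroup G) := hP' hb
      rw [← hg, Sylow.coe_subgroup_smul] at hb'
      obtain ⟨u, hu, rfl⟩ := hb'
      show MulAut.conj g y * MulAut.conj g u = MulAut.conj g u * MulAut.conj g y
      rw [← map_mul, ← map_mul, hzc u hu y hy]
    · exact hzo ▸ Subgroup.orderOf_dvd_natCard _
        (hPH (w : ↥(P : Subgroup G)).2)
    · obtain ⟨⟨x, hx⟩, hxo⟩ := exists_prime_orderOf_dvd_card'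
        (G := ↥(H ⊓ H.map (MulAut.conj g).toMonoidHom)) p hdiv
      rw [Subgroup.orderOf_mk] at hxo
      obtain ⟨hxH, y, hy, rfl⟩ := hx
      have hyo : orderOf y = p := (orderOf_injective (MulAut.conj g).toMonoidHom (MulAut.conj g).injective y).symm.trans hxo
      have hy1 : y ≠ 1 := fun e => hp.one_lt.ne' (by rw [← hyo, e, orderOf_one])
      have hyp : y ^ p = 1 := by rw [← hyo]; exact pow_orderOf_eq_one y
      have hxp : (g * y * g⁻¹) ^ p = 1 := by rw [conj_pow, hyp, mul_one, mul_inv_cancel]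
      have hx1 : g * y * g⁻¹ ≠ 1 := fun e => hy1 (conj_eq_one_iff.mp e)
      have a1 := toE _ hxH hxp hx1
      have a2 := hconj g _ _ (toE y hy hyp hy1)
      rw [cjz] at a2
      exact a1.trans (hsymm _ _ a2)

end Cfsg.Agent.S1336
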