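import Cfsg.Statements.S1338
import Cfsg.Agent.Lib.Signalizer.Connectivity
import Cfsg.Agent.S0122
-- import your own Cfsg.Agent.* helpers here

set_option autoImplicit false
open Cfsg

namespace Cfsg.Agent.S1338

/-- A finite 3-group of 3-rank at least 4 is 2-connected for the prime 3: its commuting graph on elementary abelian subgroups of order ≥ 9 is connected. -/
theorem result {P : Type*} [Group P] [Finite P] (hP : IsPGroup 3 P) (hrk : ¬ Cfsg.PRankLE 3 3 P) : Cfsg.IsKConnected 3 2 P := by
  exact by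
    simp only [Cfsg.PRankLE, not_forall, not_le] at hrk
    obtain ⟨A, hA, hA3, hc⟩ := hrk
    obtain ⟨k, hk⟩ := (hP.to_subgroup A).exists_card_eq
    rw [hk] at hc
    have hk4 : 4 ≤ k := (Nat.pow_lt_pow_iff_right (by norm_num)).1 hc
    obtain ⟨E, hE⟩ := Sylow.exists_subgroup_card_pow_prime (G := A) 3 (n := 4)
      (by rw [hk]; exact Nat.pow_dvd_pow 3 hk4)
    have hE' : Cfsg.IsElementaryAbelian 3 (E.map A.subtype) :=
      CfsgLib.Connectivity.elem_mono ⟨hA, hA3⟩ (Subgroup.map_subtype_le E)
    obtain ⟨B, hBn, hB, hB4⟩ := Cfsg.Agent.S0122.result (p := 3) (by norm_num) hP (E.map A.subtype) hE'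
      (by rw [Subgroup.card_map_of_injective A.subtype_injective, hE])
    haveI := hBn
    exact CfsgLib.Connectivity.isKConnected_of_normal hP hB hB4.ge

end Cfsg.Agent.S1338
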