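import Cfsg.Statements.S1340
import Cfsg.Agent.Lib.Signalizer.GLComponent
-- import your own Cfsg.Agent.* helpers here

set_option autoImplicit false
open Cfsg

namespace Cfsg.Agent.S1340

/-- Let F be a finite field of odd order and n ≥ 3 with (n, |F|) ≠ (3, 3). Then GL(n, F) has a non-central involution t such that C(t) / O(C(t)) has a component. -/
theorem result {F : Type*} [Field F] [Fintype F] [DecidableEq F] (hF : Odd (Fintype.card F)) (n : ℕ) (hn : 3 ≤ n) (h33 : ¬ (n = 3 ∧ Fintype.card F = 3)) : ∃ t : Matrix.GeneralLinearGroup (Fin n) F, orderOf t = 2 ∧ t ∉ Subgroup.center (Matrix.GeneralLinearGroup (Fin n) F) ∧ Cfsg.HasComponent (↥(Subgroup.centralizer ({t} : Set (Matrix.GeneralLinearGroup (Fin n) F))) ⧸ Cfsg.oddCore ↥(Subgroup.centralizer ({t} : Set (Matrix.GeneralLinearGroup (Fin n) F)))) := by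
  exact by
    obtain ⟨m, rfl⟩ : ∃ m, n = m + 1 := ⟨n - 1, by omega⟩
    have h2 : (2 : F) ≠ 0 := by
      intro h
      have hc : ringChar F = 2 := by
        have h' : ((2 : ℕ) : F) = 0 := by exact_mod_cast h
        exact ((Nat.dvd_prime Nat.prime_two).1 (ringChar.dvd h')).resolve_left CharP.ringChar_ne_one
      have := FiniteField.even_card_iff_char_two.1 hc
      rw [Nat.odd_iff] at hF
      omega
    have hq : m = 2 → 4 ≤ Nat.card F := by
      intro hm
      rw [Nat.card_eq_fintype_card]
      have h1 := Fintype.one_lt_card (α := F)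
      have h3 : Fintype.card F ≠ 3 := fun e => h33 ⟨by omega, e⟩
      obtain ⟨j, hj⟩ := hF
      omega
    exact ⟨CfsgLib.GLComponent.refl F m, CfsgLib.GLComponent.orderOf_refl h2,
      CfsgLib.GLComponent.refl_not_center h2 (by omega), CfsgLib.GLComponent.hasComponent h2 (by omega) hq⟩

end Cfsg.Agent.S1340
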