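import Cfsg.Statements.S1346
import Cfsg.Agent.Lib.Comp.ExtendedBalance
-- import your own Cfsg.Agent.* helpers here

set_option autoImplicit false
open Cfsg

namespace Cfsg.Agent.S1346

/-- Let G be a finite group all of whose 2-local subgroups have known non-abelian composition factors, and x, y commuting involutions. Then the extended 2-layer of L*_{2'}(C_G(x)) ∩ C_G(y) (as a group) is contained in L*_{2'}(C_G(y)). -/
theorem result {G : Type*} [Group G] [Finite G] (hK : ∀ T : Subgroup G, IsPGroup 2 ↥T → T ≠ ⊥ → Cfsg.IsCompositionKGroup ↥(Subgroup.normalizer (T : Set G))) (x y : G) (hx : orderOf x = 2) (hy : orderOf y = 2) (hxy : x * y = y * x) : (Cfsg.extendedTwoLayer ↥((Cfsg.extendedTwoLayer ↥(Subgroup.centralizer ({x} : Set G))).map (Subgroup.centralizer ({x} : Set G)).subtype ⊓ Subgroup.centralizer ({y} : Set G))).map ((Cfsg.extendedTwoLayer ↥(Subgroup.centralizer ({x} : Set G))).map (Subgroup.centralizer ({x} : Set G)).subtype ⊓ Subgroup.centralizer ({y}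 : Set G)).subtype ≤ (Cfsg.extendedTwoLayer ↥(Subgroup.centralizer ({y} : Set G))).map (Subgroup.centralizer ({y} : Set G)).subtype := by
  set Cx := Subgroup.centralizer ({x} : Set G) with hCx
  set Cy := Subgroup.centralizer ({y} : Set G) with hCy
  set Lx := (Cfsg.extendedTwoLayer ↥Cx).map Cx.subtype with hLx
  have hW : Lx ⊓ Cy ≤ Cx ⊓ Cy := inf_le_inf_right _ (Subgroup.map_subtype_le _)
  haveI : (Subgroup.inclusion hW).range.Normal := by
    rw [Subgroup.inclusion_range]
    refine (Subgroup.normal_subgroupOf_iff_le_normalizer hW).mpr fun g hg => ?_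
    refine CfsgLib.Comp.mem_normalizer_of_maps fun z hz => Subgroup.mem_inf.mpr ⟨?_, ?_⟩
    · obtain ⟨w, hw, rfl⟩ := (Subgroup.mem_inf.mp hz).1
      exact ⟨⟨g, (Subgroup.mem_inf.mp hg).1⟩ * w * ⟨g, (Subgroup.mem_inf.mp hg).1⟩⁻¹,
        (CfsgLib.Comp.extended_normal (G := ↥Cx)).conj_mem w hw _, rfl⟩
    · exact Cy.mul_mem (Cy.mul_mem (Subgroup.mem_inf.mp hg).2 (Subgroup.mem_inf.mp hz).2)
        (Cy.inv_mem (Subgroup.mem_inf.mp hg).2)
  have h0 := CfsgLib.Comp.extended_map_le_of_normal_range (Subgroup.inclusion hW) (Subgroup.inclusion_injective hW)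
  have hxy' : x ∈ Cy := Subgroup.mem_centralizer_singleton_iff.mpr hxy
  have h1 := CfsgLib.Comp.extended_map_le_of_centralizer
    (Subgroup.inclusion (inf_le_right : Cx ⊓ Cy ≤ Cy)) (Subgroup.inclusion_injective _)
    (Subgroup.zpowers (⟨x, hxy'⟩ : ↥Cy))
    (IsPGroup.of_card (n := 1) (by rw [Nat.card_zpowers, Subgroup.orderOf_mk, hx, pow_one])) (by
      rw [Subgroup.inclusion_range]
      ext g
      rw [Subgroup.zpowers_eq_closure, Subgroup.centralizer_closure, Subgroup.mem_centralizer_singleton_iff,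
        Subgroup.mem_subgroupOf, Subgroup.mem_inf, hCx, Subgroup.mem_centralizer_singleton_iff]
      exact ⟨fun h => Subtype.ext h.1, fun h => ⟨congrArg Subtype.val h, g.2⟩⟩)
  rintro _ ⟨w, hw, rfl⟩
  exact ⟨_, h1 ⟨_, h0 ⟨w, hw, rfl⟩, rfl⟩, rfl⟩

end Cfsg.Agent.S1346
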