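import Cfsg.Statements.S1348
import Cfsg.Agent.Lib.Signalizer.SLStandard
-- import your own Cfsg.Agent.* helpers here

set_option autoImplicit false
open Cfsg

namespace Cfsg.Agent.S1348

/-- Let F be a finite field of odd order, n ≥ 7 odd, and t ∈ SL(n, F) the diagonal matrix with entries −1, …, −1, 1. Then E(C(t)) is a standard subgroup of SL(n, F). -/
theorem result {F : Type*} [Field F] [Fintype F] [DecidableEq F] (hF : Odd (Fintype.card F)) (n : ℕ) (hn : 7 ≤ n) (hodd : Odd n) (t : Matrix.SpecialLinearGroup (Fin n) F) (ht : (t : Matrix (Fin n) (Fin n) F) = Matrix.diagonal (fun i : Fin n => if (i : ℕ) + 1 = n then (1 : F) else -1)) : Cfsg.IsStandardSubgroup ((Cfsg.layer ↥(Subgroup.centralizer ({t} : Set (Matrix.SpecialLinearGroup (Fin n) F)))).map (Subgroup.centralizer ({t} : Set (Matrix.SpecialLinearGroup (Fin n) F))).subtype) := by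
  exact by
    obtain ⟨m, rfl⟩ : ∃ m, n = m + 1 := ⟨n - 1, by omega⟩
    have h2 : (2 : F) ≠ 0 := by
      intro h
      have h' : ((2 : ℕ) : F) = 0 := by exact_mod_cast h
      have hc : ringChar F = 2 :=
        ((Nat.dvd_prime Nat.prime_two).1 (ringChar.dvd h')).resolve_left CharP.ringChar_ne_one
      have := FiniteField.even_card_iff_char_two.1 hc
      rw [Nat.odd_iff] at hF
      omega
    refine CfsgLib.SLStandard.main h2 (by omega) ?_ t ?_
    · rw [Nat.odd_iff] at hodd; rw [Nat.even_iff]; omega
    · rw [ht, CfsgLib.SLStandard.bfun_diag]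
      congr 1
      funext i
      simp

end Cfsg.Agent.S1348
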