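import Cfsg.Statements.S1349
import Cfsg.Agent.Lib.Signalizer.DihedralLemma
-- import your own Cfsg.Agent.* helpers here

set_option autoImplicit false
open Cfsg

namespace Cfsg.Agent.S1349

/-- Let G be finite, L ≤ G solvable of odd order, and A an elementary abelian 2-subgroup of order 2^d (d ≥ 1) normalizing L with C_A(L) = 1. Then there are subgroups A_1, …, A_d of A of order 2 generating A and subgroups L_1, …, L_d of L such that each A_i ⊔ L_i is dihedral of order 2 n_i with n_i odd and at least 3, and A_i ⊔ L_i commutes elementwise with A_j ⊔ L_j for i ≠ j. -/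
theorem result {G : Type*} [Group G] [Finite G] (L A : Subgroup G) (hLs : Group.IsSolvable ↥L) (hLodd : Odd (Nat.card ↥L)) (hA : Cfsg.IsElementaryAbelian 2 A) (d : ℕ) (hd : 1 ≤ d) (hAd : Nat.card ↥A = 2 ^ d) (hAL : A ≤ Subgroup.normalizer (L : Set G)) (hfaith : A ⊓ Subgroup.centralizer (L : Set G) = ⊥) : ∃ (Ai : Fin d → Subgroup G) (Li : Fin d → Subgroup G) (n : Fin d → ℕ), (∀ i, Ai i ≤ A ∧ Nat.card ↥(Ai i) = 2 ∧ Li i ≤ L ∧ Odd (n i) ∧ 3 ≤ n i ∧ Nonempty (↥(Ai i ⊔ Li i) ≃* DihedralGroup (n i))) ∧ (⨆ i, Ai i) = A ∧ ∀ i j, i ≠ j → ∀ x ∈ Ai i ⊔ Li i, ∀ y ∈ Ai j ⊔ Li j, x * y = y * x := by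
  exact by
    classical
    obtain ⟨hAab, hA2'⟩ := hA
    have hA2 : ∀ a ∈ A, a * a = 1 := fun a ha => by rw [← pow_two]; exact hA2' a ha
    obtain ⟨M, hMF, hMc, hFM, hAM, hself⟩ := CfsgLib.DihedralLemma.exists_abelian hAL hA2
    have hML : M ≤ L := hMF.trans (CfsgLib.DihedralLemma.fit_le L)
    have hModd : Odd (Nat.card M) := hLodd.of_dvd_nat (Subgroup.card_dvd_of_le hML)
    have hfM : ∀ a ∈ A, (∀ m ∈ M, a * m = m * a) → a = 1 := by
      intro a ha hfix
      have hN : ∀ n ∈ CfsgLib.DihedralLemma.fit L, a * n = n * a := by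
        intro n hn
        have hc : a * n * a⁻¹ * n⁻¹ ∈ CfsgLib.DihedralLemma.fit L :=
          Subgroup.mul_mem _ (CfsgLib.DihedralLemma.conj_fit (hAL ha) hn) (Subgroup.inv_mem _ hn)
        have hcM : a * n * a⁻¹ * n⁻¹ ∈ M := hself _ hc fun m hm => by
          have hm' : n⁻¹ * m * n ∈ M := by
            have := (Subgroup.mem_normalizer_iff.1 (hFM (Subgroup.inv_mem _ hn)) m).1 hm
            rwa [inv_inv] at this
          have h1 : Commute a (n⁻¹ * m * n) := hfix _ hm'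
          calc a * n * a⁻¹ * n⁻¹ * m = a * n * (a⁻¹ * (n⁻¹ * m * n)) * n⁻¹ := by group
            _ = a * n * ((n⁻¹ * m * n) * a⁻¹) * n⁻¹ := by rw [h1.inv_left.eq]
            _ = a * m * (n * a⁻¹ * n⁻¹) := by group
            _ = m * a * (n * a⁻¹ * n⁻¹) := by rw [hfix m hm]
            _ = m * (a * n * a⁻¹ * n⁻¹) := by group
        exact mul_inv_eq_iff_eq_mul.1 (CfsgLib.DihedralLemma.fixed_of_commutator_fixed hModd (hA2 a ha) hcM
          (mul_inv_eq_iff_eq_mul.2 (hfix _ hcM)))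
      have : a ∈ A ⊓ Subgroup.centralizer (L : Set G) := ⟨ha, fun l hl =>
        (CfsgLib.DihedralLemma.fixed_of_fixed_fit hLs hLodd (hA2 a ha) (hAL ha) hN hl).symm⟩
      rwa [hfaith, Subgroup.mem_bot] at this
    obtain ⟨a, x, hp, hoff, hgen⟩ :=
      CfsgLib.DihedralLemma.exists_basis hModd hMc hAM hA2 hfM d A le_rfl hAd
    have hodd : ∀ i, Odd (orderOf (x i)) := fun i => hModd.of_dvd_nat (by
      rw [← Subgroup.orderOf_mk (x i) (hp i).2.2.1]; exact orderOf_dvd_natCard _)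
    refine ⟨fun i => Subgroup.zpowers (a i), fun i => Subgroup.zpowers (x i), fun i => orderOf (x i),
      fun i => ⟨Subgroup.zpowers_le.2 (hp i).1, ?_, Subgroup.zpowers_le.2 (hML (hp i).2.2.1), hodd i, ?_, ?_⟩,
      ?_, ?_⟩
    · rw [Nat.card_zpowers]
      exact orderOf_eq_prime (by rw [pow_two, hA2 _ (hp i).1]) (hp i).2.1
    · have h1 : orderOf (x i) ≠ 1 := fun h => (hp i).2.2.2.1 (orderOf_eq_one_iff.1 h)
      have h2 := orderOf_pos (x i)
      obtain ⟨j, hj⟩ := hodd i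
      show 3 ≤ orderOf (x i)
      omega
    · exact CfsgLib.DihedralLemma.dihedral_of_pair (hA2 _ (hp i).1) (hp i).2.1 (hp i).2.2.2.2.1 (hodd i)
    · conv_rhs => rw [← hgen]
      refine le_antisymm (iSup_le fun i => Subgroup.zpowers_le.2 (Subgroup.subset_closure ⟨i, rfl⟩)) ?_
      rw [Subgroup.closure_le]
      rintro _ ⟨i, rfl⟩
      exact le_iSup (fun i => Subgroup.zpowers (a i)) i (Subgroup.mem_zpowers _)
    · intro i j hij u hu v hv
      have hxc : ∀ i j, i ≠ j → Commute (a i) (x j) := fun i j h => mul_inv_eq_iff_eq_mul.1 (hoff i j h)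
      have hle : Subgroup.zpowers (a i) ⊔ Subgroup.zpowers (x i) ≤
          Subgroup.centralizer (({a j, x j} : Set G)) := by
        refine sup_le (Subgroup.zpowers_le.2 ?_) (Subgroup.zpowers_le.2 ?_) <;> rintro w (rfl | rfl)
        · exact (congrArg Subtype.val (hAab.is_comm.comm ⟨a j, (hp j).1⟩ ⟨a i, (hp i).1⟩) : _)
        · exact (hxc i j hij).symm.eq
        · exact (hxc j i hij.symm).eq
        · exact hMc _ (hp j).2.2.1 _ (hp i).2.2.1
      have hvj : Subgroup.zpowers (a j) ⊔ Subgroup.zpowers (x j) ≤ Subgroup.centralizer ({u} : Set G) :=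
        sup_le (Subgroup.zpowers_le.2 (Subgroup.mem_centralizer_singleton_iff.2 (hle hu _ (Or.inl rfl))))
          (Subgroup.zpowers_le.2 (Subgroup.mem_centralizer_singleton_iff.2 (hle hu _ (Or.inr rfl))))
      exact (Subgroup.mem_centralizer_singleton_iff.1 (hvj hv)).symm

end Cfsg.Agent.S1349
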