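import Cfsg.Statements.S1358
import Mathlib
import Cfsg.Agent.Lib.MinSimpleOdd.KappaFacts
-- import your own Cfsg.Agent.* helpers here

set_option autoImplicit false
open Cfsg

namespace Cfsg.Agent.S1358

/-- Let G be a minimal simple group of odd order and M a maximal subgroup with standard factorisation M = K U M_σ. Then for every prime p, every Sylow p-subgroup of U is abelian and has no elementary abelian subgroup of order p ^ 3. -/
theorem result {G : Type*} [Group G] [Finite G] (hG : Cfsg.IsMinSimpleOddOrder G)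
    (M : Subgroup G) (hM : IsCoatom M) (K U : Subgroup G) (hKU : Cfsg.IsSigmaDecomposition M K U) :
    ∀ (p : ℕ), p.Prime → ∀ P : Sylow p U, IsMulCommutative (P : Subgroup U) ∧ Cfsg.PRankLE p 2 (P : Subgroup U) := by
  intro p hp P
  haveI := Fact.mk hp
  have hPU : (P : Subgroup U).map U.subtype ≤ U := Subgroup.map_subtype_le _
  have hP : IsPGroup p ↥((P : Subgroup U).map U.subtype) := P.2.map _
  have hPM : (P : Subgroup U).map U.subtype ≤ M := hPU.trans hKU.compl.1
  by_cases h : (P : Subgroup U) = ⊥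
  · rw [h]
    refine ⟨inferInstance, fun A _ _ => ?_⟩
    rw [Nat.card_eq_one_iff_unique.mpr ⟨inferInstance, inferInstance⟩]
    exact Nat.one_le_pow _ _ hp.pos
  have hd : p ∣ Nat.card U := by
    obtain ⟨k, hk⟩ := P.2.exists_card_eq
    refine dvd_trans ?_ (Subgroup.card_subgroup_dvd_card (P : Subgroup U))
    rw [hk]
    exact dvd_pow_self p fun e => h (Subgroup.card_eq_one.mp (by rw [hk, e, pow_zero]))
  have hps : p ∉ Cfsg.sigma M := (CfsgLib.MinSimpleOdd.decomp_U_primes hG hM hKU p hp hd).2
  haveI := CfsgLib.MinSimpleOdd.sigma'_pgroup_commutative hG hM hPM hP hps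
  let e := ((P : Subgroup U).equivMapOfInjective U.subtype U.subtype_injective)
  refine ⟨⟨⟨fun a b => e.injective (by rw [map_mul, map_mul]; exact mul_comm' _ _)⟩⟩, ?_⟩
  exact CfsgLib.MinSimpleOdd.pRankLE_map e.symm (CfsgLib.MinSimpleOdd.pRankLE_mono hPM
    (CfsgLib.MinSimpleOdd.rank_two_of_not_sigma hG hM hps))

end Cfsg.Agent.S1358
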