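import Cfsg.Statements.S1374
import Mathlib
import Cfsg.Agent.Lib.MinSimpleOdd.SigmaTilde
import Cfsg.Agent.Lib.MinSimpleOdd.DecompBasics
-- import your own Cfsg.Agent.* helpers here

set_option autoImplicit false
open Cfsg

namespace Cfsg.Agent.S1374

/-- Let G be a minimal simple group of odd order, M a maximal subgroup and x a non-identity element of M_σ. Then C_M(x) has order coprime to its index in C_G(x), and C_G(x) has a normal subgroup R complementing C_M(x) such that for every conjugate gMg⁻¹ containing x there is exactly one r ∈ R with rMr⁻¹ = gMg⁻¹. -/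
theorem result {G : Type*} [Group G] [Finite G] (hG : Cfsg.IsMinSimpleOddOrder G)
    (M : Subgroup G) (hM : IsCoatom M) (x : G) (hx : x ∈ Cfsg.sigmaCore M) (hx1 : x ≠ 1) :
    (Nat.card ↥(M ⊓ Subgroup.centralizer ({x} : Set G))).Coprime ((M ⊓ Subgroup.centralizer ({x} : Set G)).relIndex (Subgroup.centralizer ({x} : Set G))) ∧
      ∃ R : Subgroup G, Subgroup.centralizer ({x} : Set G) ≤ Subgroup.normalizer (R : Set G) ∧ Cfsg.IsComplIn (M ⊓ Subgroup.centralizer ({x} : Set G)) R (Subgroup.centralizer ({x} : Set G)) ∧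
        ∀ g : G, x ∈ M.map (MulAut.conj g).toMonoidHom → ∃! r : G, r ∈ R ∧ M.map (MulAut.conj r).toMonoidHom = M.map (MulAut.conj g).toMonoidHom := by
  obtain ⟨hc, hn⟩ := CfsgLib.MinSimpleOdd.centralizer_compl hG hM hx hx1
  refine ⟨?_, Cfsg.supportR M x, hn, hc, fun g hg => ?_⟩
  · have hcard := CfsgLib.MinSimpleOdd.card_complIn hc
    rw [← Subgroup.relIndex_bot_left (H := Subgroup.centralizer ({x} : Set G)),
      ← Subgroup.relIndex_mul_relIndex ⊥ (M ⊓ Subgroup.centralizer ({x} : Set G)) _ bot_le inf_le_right,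
      Subgroup.relIndex_bot_left] at hcard
    rw [Nat.eq_of_mul_eq_mul_left Nat.card_pos hcard]
    rcases CfsgLib.MinSimpleOdd.supportR_cases hG hM hx hx1 with ⟨-, h⟩ | ⟨N, hN, h⟩
    · rw [h, Subgroup.card_bot]; exact Nat.coprime_one_right _
    · rw [h]
      refine Nat.coprime_of_dvd fun p hp h1 h2 => ?_
      refine CfsgLib.MinSimpleOdd.complement_sigma' hG hN.hN hN.compl p hp (h1.trans (Subgroup.card_dvd_of_le ?_))
        ((CfsgLib.MinSimpleOdd.sigmaCore_hall hG hN.hN).1.2.1 p hp (h2.trans (Subgroup.card_dvd_of_le inf_le_left)))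
      exact le_inf inf_le_left (inf_le_right.trans hN.le)
  · exact CfsgLib.MinSimpleOdd.supportR_regular hG hM hx hx1 hg

end Cfsg.Agent.S1374
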