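import Cfsg.Statements.S1375
import Mathlib
import Cfsg.Agent.Lib.MinSimpleOdd.SigmaTilde
import Cfsg.Agent.Lib.MinSimpleOdd.DecompBasics
-- import your own Cfsg.Agent.* helpers here

set_option autoImplicit false
open Cfsg

namespace Cfsg.Agent.S1375

/-- Let G be a minimal simple group of odd order, M a maximal subgroup, x ≠ 1 in M_σ with C_G(x) not contained in M. Then exactly one maximal subgroup N contains C_G(x); for it N_σ = N_F, C_{N_σ}(x) is a normal subgroup of C_G(x) complementing C_M(x), M ∩ N is a complement to N_σ in N, and for every standard factorisation N = K' U' N_σ one has U' ≠ 1 and x ∈ A(N) with x ∉ N_σ. -/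
theorem result {G : Type*} [Group G] [Finite G] (hG : Cfsg.IsMinSimpleOddOrder G)
    (M : Subgroup G) (hM : IsCoatom M) (x : G) (hx : x ∈ Cfsg.sigmaCore M) (hx1 : x ≠ 1) (hxM : ¬ Subgroup.centralizer ({x} : Set G) ≤ M) :
    ∃ N : Subgroup G, (IsCoatom N ∧ Subgroup.centralizer ({x} : Set G) ≤ N) ∧ (∀ L : Subgroup G, IsCoatom L → Subgroup.centralizer ({x} : Set G) ≤ L → L = N) ∧
        Cfsg.sigmaCore N = Cfsg.fittingHallOf N ∧
        Subgroup.centralizer ({x} : Set G) ≤ Subgroup.normalizer ((Cfsg.sigmaCore N ⊓ Subgroup.centralizer ({x} : Set G) : Subgroup G) : Set G) ∧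
        Cfsg.IsComplIn (M ⊓ Subgroup.centralizer ({x} : Set G)) (Cfsg.sigmaCore N ⊓ Subgroup.centralizer ({x} : Set G)) (Subgroup.centralizer ({x} : Set G)) ∧
        Cfsg.IsComplIn (M ⊓ N) (Cfsg.sigmaCore N) N ∧
        ∀ K' U' : Subgroup G, Cfsg.IsSigmaDecomposition N K' U' → U' ≠ ⊥ ∧ x ∈ Cfsg.sigmaA N U' ∧ x ∉ Cfsg.sigmaCore N := by
  obtain ⟨N, hN⟩ := CfsgLib.MinSimpleOdd.exists_sigmaOver hG hM hx hx1 hxM
  obtain ⟨hc, hn⟩ := CfsgLib.MinSimpleOdd.centralizer_compl hG hM hx hx1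
  have hxm : x ∈ M := CfsgLib.MinSimpleOdd.piCoreOf_le _ _ hx
  have hxN : x ∈ N := hN.le (Subgroup.mem_centralizer_singleton_iff.mpr rfl)
  have hxns : x ∉ Cfsg.sigmaCore N := fun h => hx1 (Subgroup.mem_bot.mp
    (hN.compl.2.2.1 ▸ (⟨⟨hxm, hxN⟩, h⟩ : x ∈ (M ⊓ N) ⊓ Cfsg.sigmaCore N)))
  have hR := CfsgLib.MinSimpleOdd.supportR_eq hG hM hN
  refine ⟨N, ⟨hN.hN, hN.le⟩, hN.uniq, (CfsgLib.MinSimpleOdd.fittingHallOf_eq hG hN.hN hN.nil).symm, hR ▸ hn,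
    hR ▸ hc, hN.compl, fun K' U' hKU => ?_⟩
  have hmem : x ∈ U' ⊔ Cfsg.sigmaCore N := CfsgLib.MinSimpleOdd.mem_sup_of_order hG hN.hN hKU hxN
    fun r hr hd hk => CfsgLib.MinSimpleOdd.kappa_not_tau2 hG hN.hN hk (hN.tau2 r hr hd)
  refine ⟨fun e => hxns (by rwa [e, bot_sup_eq] at hmem), ⟨?_, hmem⟩, hxns⟩
  obtain ⟨⟨y, hy⟩, hy1⟩ := Subgroup.ne_bot_iff_exists_ne_one.mp hN.ne
  exact ⟨hxN, y, hy.1, fun e => hy1 (Subtype.ext e), (Subgroup.mem_centralizer_singleton_iff.mp hy.2).symm⟩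

end Cfsg.Agent.S1375
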