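import Cfsg.Statements.S1384
import Mathlib
import Cfsg.Agent.Lib.MinSimpleOdd.HallFusion
-- import your own Cfsg.Agent.* helpers here

set_option autoImplicit false
open Cfsg

namespace Cfsg.Agent.S1384

/-- Let G be a minimal simple group of odd order and H a nilpotent subgroup whose order is coprime to its index. If x ∈ H and gxg⁻¹ ∈ H for some g ∈ G, then nxn⁻¹ = gxg⁻¹ for some n in the normalizer of H. -/
theorem result {G : Type*} [Group G] [Finite G] (hG : Cfsg.IsMinSimpleOddOrder G)
    (H : Subgroup G) (hHn : Group.IsNilpotent H) (hHall : (Nat.card H).Coprime H.index) :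
    ∀ x ∈ H, ∀ g : G, g * x * g⁻¹ ∈ H → ∃ n ∈ Subgroup.normalizer (H : Set G), n * x * n⁻¹ = g * x * g⁻¹ := by
  open scoped Pointwise in
  open CfsgLib.MinSimpleOdd in
  exact (by
    intro x hx g hgx
    by_cases hH1 : H = ⊥
    · subst hH1
      rw [Subgroup.mem_bot] at hx
      exact ⟨1, one_mem _, by rw [hx]; group⟩
    obtain ⟨p, hp, hpd⟩ := Nat.exists_prime_and_dvd fun h => hH1 (Subgroup.card_eq_one.mp h)
    haveI := Fact.mk hp
    haveI := hHn
    have hsyl : ∀ (r : ℕ) (_ : Fact r.Prime) (P : Sylow r H), r ∣ Nat.card H →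
        IsPGroup r ((P : Subgroup H).map H.subtype) ∧ ¬ r ∣ ((P : Subgroup H).map H.subtype).index ∧
        H ≤ Subgroup.normalizer (((P : Subgroup H).map H.subtype : Subgroup G) : Set G) := by
      intro r _ P hr
      haveI : (P : Subgroup H).Characteristic := Sylow.characteristic_of_normal P inferInstance
      refine ⟨P.2.map _, ?_, (CfsgLib.le_normalizer_map_characteristic Subgroup.le_normalizer (P : Subgroup H)).1⟩
      rw [← Subgroup.relIndex_mul_index (Subgroup.map_subtype_le (P : Subgroup H))]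
      intro h
      rcases (Fact.out : r.Prime).dvd_mul.mp h with h | h
      · exact not_dvd_of_sylow H P h
      · exact (Fact.out : r.Prime).ne_one (Nat.eq_one_of_dvd_coprimes hHall hr h)
    obtain ⟨P₀⟩ : Nonempty (Sylow p H) := inferInstance
    obtain ⟨hPp, hPi, hHP⟩ := hsyl p inferInstance P₀ hpd
    set P := (P₀ : Subgroup H).map H.subtype with hP
    have hP1 : P ≠ ⊥ := fun e => by
      apply hPi
      rw [e, Subgroup.index_bot]
      exact hpd.trans (Subgroup.card_subgroup_dvd_card H)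
    obtain ⟨M, hM, hNM⟩ := exists_coatom_ge (normalizer_ne_top hG hP1 (pgroup_ne_top hG hPp))
    have hHM : H ≤ M := hHP.trans hNM
    have hPM : P ≤ M := Subgroup.le_normalizer.trans hNM
    have hpσ : p ∈ Cfsg.sigma M := by
      obtain ⟨S, hS, -⟩ := sylow_of_relIndex hPM hPp fun h => hPi (h.trans (Subgroup.relIndex_dvd_index_of_le hPM))
      exact ⟨hp, hpd.trans (Subgroup.card_dvd_of_le hHM), S, hS.symm ▸ hNM⟩
    set S := Cfsg.sigmaCore M with hSdef
    have hall : ∀ Y : Subgroup G, Y ≤ H → (∀ r : ℕ, r.Prime → r ∣ Nat.card Y → r ∈ Cfsg.sigma M) → Y ≤ S :=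
      fun Y hY hYσ => le_normal_hall (solvable_of_ne_top hG hM.1) (sigmaCore_hall hG hM).1
        (le_normalizer_sigmaCore hG hM le_rfl) (hY.trans hHM) hYσ
    obtain ⟨H₁, hH₁⟩ := CfsgLib.exists_isPiHallOf (Cfsg.sigma M) (M := H) inferInstance
    have hH₁S : H₁ ≤ S := hall H₁ hH₁.1 hH₁.2.1
    have hidx : ∀ r : ℕ, r.Prime → r ∣ Nat.card H₁ → ¬ r ∣ H₁.index := by
      intro r hr h1 h2
      rw [← Subgroup.relIndex_mul_index hH₁.1] at h2
      rcases hr.dvd_mul.mp h2 with h | h
      · exact hH₁.2.2 r hr (hH₁.2.1 r hr h1) h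
      · exact hr.ne_one (Nat.eq_one_of_dvd_coprimes hHall (h1.trans (Subgroup.card_dvd_of_le hH₁.1)) h)
    have hH₁Hall : (Nat.card H₁).Coprime (H₁.relIndex S) :=
      Nat.coprime_of_dvd fun r hr h1 h2 => hidx r hr h1 (h2.trans (Subgroup.relIndex_dvd_index_of_le hH₁S))
    have hH₁ne : H₁ ≠ ⊥ := fun e => hH₁.2.2 p hp hpσ (by rwa [e, Subgroup.relIndex_bot_left])
    have hσ : ∀ r : ℕ, r.Prime → r ∣ Nat.card H → r ∈ Cfsg.sigma M := by
      intro r hr hrd
      haveI := Fact.mk hr
      by_contra hrσ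
      obtain ⟨R₀⟩ : Nonempty (Sylow r H) := inferInstance
      obtain ⟨hRp, hRi, -⟩ := hsyl r inferInstance R₀ hrd
      set R := (R₀ : Subgroup H).map H.subtype with hR
      have hRH : R ≤ H := Subgroup.map_subtype_le _
      have hcent : R ≤ Subgroup.centralizer (H₁ : Set G) := by
        refine Subgroup.le_centralizer_iff.mp (le_centralizer_of_sylows fun v hv => ?_)
        haveI := Fact.mk hv
        obtain ⟨V⟩ : Nonempty (Sylow v H₁) := inferInstance
        refine ⟨_, Subgroup.map_subtype_le _, not_dvd_of_sylow _ V, ?_⟩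
        intro a ha b hb
        have haH : a ∈ H := hH₁.1 (Subgroup.map_subtype_le _ ha)
        by_cases hvr : v = r
        · subst hvr
          by_cases ha1 : a = 1
          · rw [ha1, one_mul, mul_one]
          exfalso
          refine hrσ (hH₁.2.1 v hv ?_)
          obtain ⟨k, hk⟩ := (V.2.map H₁.subtype).exists_card_eq
          have h1 : orderOf a ∣ v ^ k := hk ▸ Subgroup.orderOf_dvd_natCard _ ha
          obtain ⟨i, -, hi⟩ := (Nat.dvd_prime_pow hv).mp h1
          have hi0 : i ≠ 0 := fun e => ha1 (orderOf_eq_one_iff.mp (by rw [hi, e, pow_zero]))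
          exact ((dvd_pow_self v hi0).trans hi.symm.dvd).trans
            (Subgroup.orderOf_dvd_natCard _ (Subgroup.map_subtype_le _ ha))
        · have hbH : b ∈ H := hRH hb
          obtain ⟨i, hi⟩ := (V.2.map H₁.subtype) ⟨a, ha⟩
          obtain ⟨j, hj⟩ := hRp ⟨b, hb⟩
          have hiG : a ^ v ^ i = 1 := by simpa using congrArg Subtype.val hi
          have hjG : b ^ r ^ j = 1 := by simpa using congrArg Subtype.val hj
          have hco : (orderOf (⟨a, haH⟩ : H)).Coprime (orderOf (⟨b, hbH⟩ : H)) :=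
            Nat.Coprime.coprime_dvd_left (orderOf_dvd_of_pow_eq_one (Subtype.ext hiG : (⟨a, haH⟩ : H) ^ v ^ i = 1))
              (Nat.Coprime.coprime_dvd_right (orderOf_dvd_of_pow_eq_one (Subtype.ext hjG : (⟨b, hbH⟩ : H) ^ r ^ j = 1))
                (Nat.Coprime.pow i j ((Nat.coprime_primes hv hr).mpr hvr)))
          exact (congrArg Subtype.val (CfsgLib.commute_of_nilpotent _ _ hco)).symm
      obtain ⟨hc, hτ⟩ := cyclic_tau2_of_centralizes hG hM hH₁S hH₁ne hH₁Hall (hRH.trans hHM) hcent
        (pi_of_pgroup hRp (π := {r | r ∉ Cfsg.sigma M}) hrσ)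
      have hR1 : R ≠ ⊥ := fun e => by
        apply hRi
        rw [e, Subgroup.index_bot]
        exact hrd.trans (Subgroup.card_subgroup_dvd_card H)
      obtain ⟨Z, hZR, hZ⟩ := exists_sub_card hRp hR1
      refine (hτ r hr (hZ ▸ Subgroup.card_dvd_of_le hZR)).2.2.2 (pRankLE_of_sylow_rel (hRH.trans hHM) hRp
        (fun h => hRi (h.trans (Subgroup.relIndex_dvd_index_of_le (hRH.trans hHM)))) ?_)
      intro A hA2 hA3
      haveI := hc
      haveI : IsCyclic A := isCyclic_of_injective A.subtype A.subtype_injective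
      obtain ⟨a, hga⟩ := IsCyclic.exists_generator (α := A)
      rw [← orderOf_eq_card_of_forall_mem_zpowers hga]
      exact Nat.le_of_dvd (pow_pos hr.pos _) (by
        rw [pow_one]
        exact orderOf_dvd_of_pow_eq_one (Subtype.ext (hA3 a a.2)))
    have hHS : H ≤ S := hall H le_rfl hσ
    obtain ⟨n, hn, he⟩ := hall_fusion hG hM hHS
      (Nat.Coprime.coprime_dvd_right (Subgroup.relIndex_dvd_index_of_le hHS) hHall) hx hgx
    exact ⟨n, hn.2, he⟩)

end Cfsg.Agent.S1384
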