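import Cfsg.Statements.S1386
import Mathlib
-- import your own Cfsg.Agent.* helpers here

set_option autoImplicit false
open Cfsg

namespace Cfsg.Agent.S1386

/-- Let G be a finite group, W₁, W₂ subgroups forming a self-normalizing cyclic pair, S a subgroup with W₂ ≤ S and W₁ a complement to S' in S, and (W₁, U, W₂') type-P data for S. Then W₂' = W₂ (that is, C_{S'}(W₁) = W₂). -/
theorem result {G : Type*} [Group G] [Finite G] (W₁ W₂ S U W₂' : Subgroup G) (hW : Cfsg.IsSelfNormalizingCyclic W₁ W₂)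
    (hSW : Cfsg.IsComplIn ⁅S, S⁆ W₁ S) (hW₂S : W₂ ≤ S) (hP : Cfsg.IsTypePWith S W₁ U W₂') :
    W₂' = W₂ := by
  classical
  obtain ⟨x, hx, hx1⟩ := (Subgroup.bot_or_exists_ne_one W₁).resolve_left hP.W₁_ne
  obtain ⟨h1n, h2n, hinf, hcomm, hcyc, hnorm⟩ := hW
  obtain ⟨-, h2n', hinf', hcomm', hcyc', hnorm'⟩ := hP.selfNormalizing
  have hcW1 : ∀ u ∈ W₁, ∀ v ∈ W₁, u * v = v * u := fun u hu v hv => by
    letI := hP.W₁_cyclic.commGroup
    exact congrArg Subtype.val (mul_comm (⟨u, hu⟩ : W₁) ⟨v, hv⟩)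
  obtain ⟨y, hy, hy1⟩ := (Subgroup.bot_or_exists_ne_one W₂).resolve_left h2n
  have hle : W₁ ⊔ W₂ ≤ W₁ ⊔ W₂' := by
    refine sup_le le_sup_left fun w hw => ?_
    obtain ⟨s, hs, u, hu, rfl⟩ := hSW.2.2.2 w (hW₂S hw)
    have hsC : s * x = x * s := by
      have h := hcomm x hx _ hw
      calc s * x = (s * u * x) * u⁻¹ := by rw [mul_assoc s u x, hcW1 u hu x hx]; group
        _ = (x * (s * u)) * u⁻¹ := by rw [← h]
        _ = x * s := by group
    have : s ∈ W₂' := by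
      rw [← hP.W₂_centralizer x hx hx1]
      exact Subgroup.mem_inf.mpr ⟨hs, Subgroup.mem_centralizer_singleton_iff.mpr hsC⟩
    exact mul_mem (Subgroup.mem_sup_right this) (Subgroup.mem_sup_left hu)
  have hxy : x * y ∈ ((W₁ ⊔ W₂ : Subgroup G) : Set G) \ ((W₁ : Set G) ∪ W₂) := by
    refine ⟨mul_mem (Subgroup.mem_sup_left hx) (Subgroup.mem_sup_right hy), ?_⟩
    rintro (h | h)
    · refine hy1 (Subgroup.mem_bot.mp (hinf ▸ Subgroup.mem_inf.mpr ⟨?_, hy⟩))
      have := mul_mem (inv_mem hx) h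
      rwa [inv_mul_cancel_left] at this
    · refine hx1 (Subgroup.mem_bot.mp (hinf ▸ Subgroup.mem_inf.mpr ⟨hx, ?_⟩))
      have := mul_mem h (inv_mem hy)
      rwa [mul_inv_cancel_right] at this
  have heq : W₁ ⊔ W₂ = W₁ ⊔ W₂' := by
    refine le_antisymm hle fun c hc => ?_
    rw [← hnorm {x * y} (Set.singleton_subset_iff.mpr hxy) ⟨_, rfl⟩, Subgroup.mem_normalizer_iff_conj_image_eq, Set.image_singleton]
    letI := hcyc'.commGroup
    have hcc : c * (x * y) = (x * y) * c := congrArg Subtype.val (mul_comm (⟨c, hc⟩ : ↥(W₁ ⊔ W₂')) ⟨x * y, hle hxy.1⟩)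
    exact congrArg _ (mul_inv_eq_iff_eq_mul.mpr hcc)
  have hcard : ∀ V : Subgroup G, W₁ ⊓ V = ⊥ → (∀ a ∈ W₁, ∀ b ∈ V, a * b = b * a) → Nat.card ↥(W₁ ⊔ V) = Nat.card W₁ * Nat.card V := by
    intro V hV hc
    have hVn : V ≤ Subgroup.normalizer (W₁ : Set G) := fun v hv => Subgroup.mem_normalizer_iff.mpr fun a => by
      constructor
      · intro ha; rwa [← hc a ha v hv, mul_inv_cancel_right]
      · intro ha
        have h := hc _ ha v hv
        rw [inv_mul_cancel_right] at h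
        rwa [show v * a * v⁻¹ = a from (mul_left_cancel h).symm] at ha
    exact (Nat.card_congr (Equiv.ofBijective (fun z : W₁ × V => (⟨z.1 * z.2, mul_mem (Subgroup.mem_sup_left z.1.2) (Subgroup.mem_sup_right z.2.2)⟩ : ↥(W₁ ⊔ V)))
      ⟨fun z z' e => Subgroup.mul_injective_of_disjoint (disjoint_iff.mpr hV) (congrArg Subtype.val e), fun ⟨w, hw⟩ => by
        rw [sup_comm, ← SetLike.mem_coe, Subgroup.coe_mul_of_left_le_normalizer_right _ _ hVn] at hw
        obtain ⟨b, hb, a, ha, rfl⟩ := hw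
        change ∃ z : W₁ × V, (⟨(z.1 : G) * z.2, _⟩ : ↥(W₁ ⊔ V)) = ⟨b * a, _⟩
        exact ⟨(⟨a, ha⟩, ⟨b, hb⟩), Subtype.ext (hc a ha b hb)⟩⟩)).symm.trans (Nat.card_prod _ _)
  have hc2 : Nat.card W₂' = Nat.card W₂ := by
    have := (hcard W₂' hinf' hcomm').symm.trans ((congrArg (fun H : Subgroup G => Nat.card H) heq).symm.trans (hcard W₂ hinf hcomm))
    exact Nat.eq_of_mul_eq_mul_left Nat.card_pos this
  set L := W₁ ⊔ W₂' with hL
  haveI := hcyc'
  letI := hcyc'.commGroup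
  haveI := Fintype.ofFinite L
  have hle2 : W₂ ≤ L := heq ▸ le_sup_right
  have hsub : ∀ V : Subgroup G, V ≤ L → Nat.card V = Nat.card W₂ → (V.subgroupOf L : Set L) = {z : L | z ^ Nat.card W₂ = 1} := by
    intro V hV hVc
    refine Set.eq_of_subset_of_ncard_le (fun z hz => ?_) ?_
    · refine Subtype.ext ?_
      have := congrArg (Subtype.val) (pow_card_eq_one' (x := (⟨(z : G), hz⟩ : V)))
      rw [hVc] at this
      simpa using this
    · rw [← Nat.card_coe_set_eq, ← Nat.card_coe_set_eq, show Nat.card ↥(V.subgroupOf L : Set L) = Nat.card W₂ from (Nat.card_congr (Subgroup.subgroupOfEquivOfLe hV).toEquiv).trans hVc]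
      rw [Nat.card_eq_fintype_card, ← Set.toFinset_card, Set.toFinset_setOf]
      exact IsCyclic.card_pow_eq_one_le Nat.card_pos
  have key : W₂'.subgroupOf L = W₂.subgroupOf L := SetLike.coe_injective ((hsub W₂' le_sup_right hc2).trans (hsub W₂ hle2 rfl).symm)
  have := Subgroup.subgroupOf_inj.mp key
  rwa [inf_eq_left.mpr le_sup_right, inf_eq_left.mpr hle2] at this

end Cfsg.Agent.S1386
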