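import Cfsg.Statements.S1388
import Mathlib
import Cfsg.Agent.Lib.OddLocal.FittingHall
import Cfsg.Agent.S1387
-- import your own Cfsg.Agent.* helpers here

set_option autoImplicit false
open Cfsg

namespace Cfsg.Agent.S1388

/-- Let M be a subgroup of a finite group G with type-P data (W₁, U, W₂) and H = M_F. Then the derived subgroup of U centralizes H, and if U ≠ 1 then U does not centralize H. -/
theorem result {G : Type*} [Group G] [Finite G] (M W₁ U W₂ : Subgroup G) (hP : Cfsg.IsTypePWith M W₁ U W₂) :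
    ⁅U, U⁆ ≤ Subgroup.centralizer (Cfsg.fittingHallOf M : Set G) ∧ (U ≠ ⊥ → ¬ U ≤ Subgroup.centralizer (Cfsg.fittingHallOf M : Set G)) := by
  classical
  obtain ⟨hHM', hUM', hinf, hdec⟩ := hP.U_compl
  have h87 := Cfsg.Agent.S1387.result M W₁ U W₂ hP
  set H := Cfsg.fittingHallOf M with hH
  have hM'M : ⁅M, M⁆ ≤ M := Subgroup.commutator_le.mpr fun a ha b hb => mul_mem (mul_mem (mul_mem ha hb) (inv_mem ha)) (inv_mem hb)
  constructor
  · intro z hz
    have hzF : z ∈ Cfsg.fittingOf M := hP.fitting_eq ▸ hP.derived_two_le (Subgroup.commutator_mono hUM' hUM' hz)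
    rw [h87] at hzF
    have hzU : z ∈ U := (Subgroup.commutator_le.mpr fun a ha b hb => mul_mem (mul_mem (mul_mem ha hb) (inv_mem ha)) (inv_mem hb) : ⁅U, U⁆ ≤ U) hz
    have hHn : (U ⊓ Subgroup.centralizer (H : Set G)) ≤ Subgroup.normalizer (H : Set G) :=
      inf_le_right.trans (Subgroup.centralizer_le_normalizer _)
    obtain ⟨h, hh, c, hc, rfl⟩ : ∃ h ∈ H, ∃ c ∈ U ⊓ Subgroup.centralizer (H : Set G), z = h * c := by
      rw [sup_comm, ← SetLike.mem_coe, Subgroup.coe_mul_of_left_le_normalizer_right _ _ hHn] at hzF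
      obtain ⟨c, hc, h, hh, e⟩ := hzF
      exact ⟨h, hh, c, hc, by rw [← e, Subgroup.mem_centralizer_iff.mp hc.2 h hh]⟩
    have h1 : h = 1 := Subgroup.mem_bot.mp (hinf ▸ Subgroup.mem_inf.mpr ⟨hh, by
      have := mul_mem hzU (inv_mem hc.1)
      rwa [mul_inv_cancel_right] at this⟩)
    rw [h1, one_mul]; exact hc.2
  · intro hU hUC
    apply hU
    have hFM : Cfsg.fittingOf M = ⁅M, M⁆ := by
      refine le_antisymm hP.fitting_le fun m hm => ?_
      obtain ⟨h, hh, u, hu, rfl⟩ := hdec m hm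
      rw [h87]
      exact mul_mem (Subgroup.mem_sup_left hh) (Subgroup.mem_sup_right (Subgroup.mem_inf.mpr ⟨hu, hUC hu⟩))
    have hle : ⁅M, M⁆ ≤ H := by
      rw [← hFM]
      refine Subgroup.map_mono (le_sSup ⟨inferInstance, CfsgLib.FittingHall.fittingSubgroup_isNilpotent, ?_⟩)
      have hF' : (Cfsg.fittingSubgroup M) = ⁅M, M⁆.subgroupOf M := by
        rw [← hFM, Subgroup.subgroupOf, Cfsg.fittingOf, Subgroup.comap_map_eq_self_of_injective M.subtype_injective]
      obtain ⟨-, hW₁M, hWinf, hWdec⟩ := hP.W₁_compl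
      have hc : Subgroup.IsComplement' (⁅M, M⁆.subgroupOf M) (W₁.subgroupOf M) := by
        refine Subgroup.isComplement'_of_disjoint_and_mul_eq_univ ?_ (Set.eq_univ_of_forall fun x => ?_)
        · rw [disjoint_iff, Subgroup.subgroupOf, Subgroup.subgroupOf, ← Subgroup.comap_inf, hWinf]; simp
        · obtain ⟨a, ha, b, hb, e⟩ := hWdec x x.2
          exact ⟨⟨a, hM'M ha⟩, ha, ⟨b, hW₁M hb⟩, hb, Subtype.ext e.symm⟩
      rw [hF', hc.symm.index_eq_card]
      have h2 : Nat.card (⁅M, M⁆.subgroupOf M) = W₁.relIndex M := hc.index_eq_card.symm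
      rw [h2, Nat.card_congr (Subgroup.subgroupOfEquivOfLe hW₁M).toEquiv]
      exact hP.W₁_hall.symm
    exact le_bot_iff.mp fun u hu => hinf ▸ Subgroup.mem_inf.mpr ⟨hle (hUM' hu), hu⟩

end Cfsg.Agent.S1388
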