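import Cfsg.Statements.S1390
import Mathlib
import Cfsg.Agent.Lib.MinSimpleOdd.TypeOne
import Cfsg.Agent.S1381
import Cfsg.Agent.S1382
import Cfsg.Agent.S1358
import Cfsg.Agent.S1361
import Cfsg.Agent.S1362
-- import your own Cfsg.Agent.* helpers here

set_option autoImplicit false
open Cfsg

namespace Cfsg.Agent.S1390

/-- Let G be a minimal simple group of odd order, M a maximal subgroup and H = M_F; suppose M is of Type I and U is a complement to H in M, or M is of Type II and U is a complement to H in M'. Then every Sylow subgroup of U is abelian with no elementary abelian subgroup of order p ^ 3; for every nonempty set X of non-identity elements of U centralizing a non-identity element of H, C_G(X) ≤ M and M is the unique maximal subgroup containing C_G(X); and A(M) with A₁(M) removed is a TI-subset of G. -/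
theorem result {G : Type*} [Group G] [Finite G] (hG : Cfsg.IsMinSimpleOddOrder G)
    (M : Subgroup G) (hM : IsCoatom M) (U : Subgroup G)
    (hU : (Cfsg.IsOfTypeI M ∧ Cfsg.IsComplIn (Cfsg.fittingHallOf M) U M) ∨ (Cfsg.IsOfTypeII M ∧ Cfsg.IsComplIn (Cfsg.fittingHallOf M) U ⁅M, M⁆)) :
    (∀ (p : ℕ), p.Prime → ∀ P : Sylow p U, IsMulCommutative (P : Subgroup U) ∧ Cfsg.PRankLE p 2 (P : Subgroup U)) ∧
      (∀ X : Set G, X ⊆ (U : Set G) \ {1} → X.Nonempty → Cfsg.fittingHallOf M ⊓ Subgroup.centralizer X ≠ ⊥ →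
        Subgroup.centralizer X ≤ M ∧ ∀ L : Subgroup G, IsCoatom L → Subgroup.centralizer X ≤ L → L = M) ∧
      Cfsg.IsTISubset (Cfsg.typeA M \ Cfsg.typeA1 M) := by
  open scoped Pointwise in
  open CfsgLib.MinSimpleOdd in
  exact (by
    classical
    obtain ⟨K, hd, hH, hA⟩ : ∃ K : Subgroup G, Cfsg.IsSigmaDecomposition M K U ∧
        Cfsg.fittingHallOf M = Cfsg.sigmaCore M ∧
        Cfsg.typeA M \ Cfsg.typeA1 M = Cfsg.sigmaA M U \ (Cfsg.sigmaCore M : Set G) := by
      rcases hU with ⟨hI, hc⟩ | ⟨hII, hc⟩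
      · obtain ⟨hH, hd⟩ := typeI_decomp hG hM hI hc
        have hn34 : ¬ (Cfsg.IsOfTypeIII M ∨ Cfsg.IsOfTypeIV M) := fun h =>
          ((Cfsg.Agent.S1382.result hG M hM ⊥ U hd).mp h).1 rfl
        have hcore : Cfsg.typeCore M = Cfsg.sigmaCore M := (if_neg hn34).trans hH
        refine ⟨⊥, hd, hH, ?_⟩
        rw [Cfsg.typeA, if_pos hI, Cfsg.typeA1, hcore, hH]
        ext a
        constructor
        · rintro ⟨⟨ha, ha1, y, hy, hy1, hay⟩, hn⟩
          refine ⟨⟨⟨ha, y, hy, hy1, hay⟩, ?_⟩, fun h => hn ⟨h, ha1⟩⟩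
          obtain ⟨b, hb, c, hc', rfl⟩ := hd.compl.2.2.2 a ha
          rw [bot_sup_eq] at hc'
          exact mul_mem (Subgroup.mem_sup_left hb) (Subgroup.mem_sup_right hc')
        · rintro ⟨⟨⟨ha, y, hy, hy1, hay⟩, -⟩, hn⟩
          exact ⟨⟨ha, fun e => hn (e ▸ one_mem _), y, hy, hy1, hay⟩, fun h => hn h.1⟩
      · obtain ⟨K₀, hK₀⟩ := CfsgLib.exists_isPiHallOf (Cfsg.kappa M) (M := M) (solvable_of_ne_top hG hM.1)
        obtain ⟨U₀, hd₀⟩ := exists_sigmaDecomposition hG hM (kappaHall_cyclic hG hM hK₀) hK₀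
        obtain ⟨hK1, hU₀⟩ := (Cfsg.Agent.S1381.result hG M hM K₀ U₀ hd₀).mp hII
        obtain ⟨kd, hs⟩ := decomp_split hG hM hd₀ hK1
        have hH := fittingHallOf_eq hG hM (hs.two hU₀).1
        rw [hH] at hc
        obtain ⟨K, hd⟩ := exists_decomp_of_complement hG hM hd₀ hK1 hc
        have hKK : K ≠ ⊥ := by
          obtain ⟨r, hr, hrd⟩ := Nat.exists_prime_and_dvd fun e => hK1 (Subgroup.card_eq_one.mp e)
          rintro rfl
          have h2 := hd.hall.2.2 r hr (hK₀.2.1 r hr hrd)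
          rw [Subgroup.relIndex_bot_left] at h2
          exact h2 (hK₀.2.1 r hr hrd).2.1
        have hder := kappa_derived_eq hG hM hd hKK
        have hn34 : ¬ (Cfsg.IsOfTypeIII M ∨ Cfsg.IsOfTypeIV M) := fun h =>
          hU₀ ((Cfsg.Agent.S1382.result hG M hM K₀ U₀ hd₀).mp h).2.1
        have hnI : ¬ Cfsg.IsOfTypeI M := fun h => by
          obtain ⟨r, hr, hrd⟩ := Nat.exists_prime_and_dvd fun e => hK1 (Subgroup.card_eq_one.mp e)
          exact Set.notMem_empty r (typeF_kappa_eq_empty hG hM h.1 ▸ hK₀.2.1 r hr hrd)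
        have hcore : Cfsg.typeCore M = Cfsg.sigmaCore M := (if_neg hn34).trans hH
        refine ⟨K, hd, hH, ?_⟩
        rw [Cfsg.typeA, if_neg hnI, Cfsg.typeA1, hcore, hder]
        ext a
        constructor
        · rintro ⟨⟨ha, ha1, y, hy, hy1, hay⟩, hn⟩
          exact ⟨⟨⟨Subgroup.commutator_le_self M (hder.ge ha), y, hy, hy1, hay⟩, ha⟩, fun h => hn ⟨h, ha1⟩⟩
        · rintro ⟨⟨⟨ha, y, hy, hy1, hay⟩, hm⟩, hn⟩
          exact ⟨⟨hm, fun e => hn (e ▸ one_mem _), y, hy, hy1, hay⟩, fun h => hn h.1⟩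
    refine ⟨Cfsg.Agent.S1358.result hG M hM K U hd, fun X hX hne hXc => ?_, ?_⟩
    · obtain ⟨u, hu⟩ := hne
      have hc : Subgroup.centralizer X = Subgroup.centralizer ((Subgroup.closure X : Subgroup G) : Set G) :=
        (Subgroup.centralizer_closure X).symm
      rw [hc] at hXc ⊢
      refine centralizer_unique_of_fixed hG hM hd ((Subgroup.closure_le U).mpr fun v hv => (hX hv).1) ?_ (hH ▸ hXc)
      exact fun e => (hX hu).2 (Subgroup.mem_bot.mp (e ▸ Subgroup.subset_closure hu))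
    · rw [hA]
      exact Cfsg.Agent.S1362.result hG M hM K U hd)

end Cfsg.Agent.S1390
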