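import Cfsg.Statements.S1396
import Mathlib
import Cfsg.Agent.Lib.MinSimpleOdd.Transitivity
-- import your own Cfsg.Agent.* helpers here

set_option autoImplicit false
open Cfsg

namespace Cfsg.Agent.S1396

/-- Let G be a minimal simple group of odd order, p a prime dividing the order of G and A an abelian p-subgroup. Suppose either (1) A consists exactly of the elements x of C_G(A) with x^p = 1, and every proper subgroup of G has p-length at most one, or (2) A is normal and self-centralizing in some Sylow p-subgroup of G and has rank at least 2. Then A satisfies the transitivity hypothesis. -/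
theorem result {G : Type*} [Group G] [Finite G] (hG : Cfsg.IsMinSimpleOddOrder G)
    (p : ℕ) [Fact p.Prime] (hp : p ∣ Nat.card G) (A : Subgroup G) (hAp : IsPGroup p A) (hAc : IsMulCommutative A)
    (h : (∀ x ∈ Subgroup.centralizer (A : Set G), x ^ p = 1 ↔ x ∈ A) ∧ (∀ H : Subgroup G, H ≠ ⊤ → Cfsg.PLengthLE p 1 H) ∨
      ∃ P : Sylow p G, Cfsg.IsSCN (P : Subgroup G) A ∧ ¬ Cfsg.PRankLE p 1 A) :
    Cfsg.TransitivityHypothesis A := by
  have hp2 : p ≠ 2 := fun h => hG.1.not_two_dvd_nat (h ▸ hp)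
  rcases h with ⟨hΩ, -⟩ | ⟨P, ⟨hAP, hPA, hPC⟩, hr⟩
  · refine CfsgLib.MinSimpleOdd.transitivityHypothesis_of_omega hG hp2 hAp ?_ fun x hx ho =>
      (hΩ x hx).mp (ho ▸ pow_orderOf_eq_one x)
    rintro rfl
    obtain ⟨x, hx⟩ := exists_prime_orderOf_dvd_card' p hp
    have h1 : x ∈ (⊥ : Subgroup G) := (hΩ x fun a ha => by rw [Subgroup.mem_bot.mp ha, one_mul, mul_one]).mp (hx ▸ pow_orderOf_eq_one x)
    rw [Subgroup.mem_bot.mp h1, orderOf_one] at hx
    exact (Fact.out : p.Prime).one_lt.ne hx
  · refine CfsgLib.MinSimpleOdd.transitivityHypothesis_of_omega hG hp2 hAp ?_ ?_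
    · rintro rfl
      exact hr fun B _ _ => by
        rw [Subgroup.eq_bot_of_subsingleton B, Subgroup.card_bot]
        exact Nat.one_le_pow _ _ (Fact.out : p.Prime).pos
    intro x hx ho
    set C := Subgroup.centralizer (A : Set G)
    have hx' : ∀ a ∈ A, a * x = x * a := hx
    set T := A ⊔ Subgroup.zpowers x with hT
    have hTC : T ≤ C := sup_le (fun a ha b hb => congrArg Subtype.val (hAc.is_comm.comm ⟨b, hb⟩ ⟨a, ha⟩)) (Subgroup.zpowers_le.mpr hx)
    have hPN : (P : Subgroup G) ≤ Subgroup.normalizer (A : Set G) := hPA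
    set N := Subgroup.normalizer (A : Set G) with hN
    have hCN : C ≤ N := Subgroup.centralizer_le_normalizer _
    have hxn : Subgroup.zpowers x ≤ Subgroup.normalizer (A : Set G) := (Subgroup.zpowers_le.mpr hx).trans hCN
    have hTp : IsPGroup p T := by
      refine IsPGroup.to_sup_of_normal_left' hAp ?_ hxn
      exact IsPGroup.of_card (n := 1) (by rw [Nat.card_zpowers, ho, pow_one])
    obtain ⟨S, hS⟩ := (hTp.comap_subtype (K := N)).exists_le_sylow
    obtain ⟨g, hg⟩ := MulAction.exists_smul_eq N (P.subtype hPN) S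
    have key : ∀ t ∈ T, (g : G)⁻¹ * t * g ∈ A := by
      intro t ht
      have h1 : (⟨t, hCN (hTC ht)⟩ : N) ∈ (S : Subgroup N) := hS ht
      rw [← hg, Sylow.coe_subgroup_smul, CfsgLib.mem_conj_smul_iff] at h1
      have h2 : (g : G)⁻¹ * t * g ∈ (P : Subgroup G) := h1
      rw [← hPC]
      refine ⟨h2, fun a ha => ?_⟩
      have ha' : (g : G) * a * (g : G)⁻¹ ∈ A := (Subgroup.mem_normalizer_iff.mp g.2 a).mp ha
      have h3 := hTC ht _ ha'
      calc a * ((g : G)⁻¹ * t * g) = (g : G)⁻¹ * ((g * a * (g : G)⁻¹) * t) * g := by group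
        _ = (g : G)⁻¹ * (t * (g * a * (g : G)⁻¹)) * g := by rw [h3]
        _ = _ := by group
    have h4 := (Subgroup.mem_normalizer_iff''.mp g.2 x).mpr (key x (Subgroup.mem_sup_right (Subgroup.mem_zpowers x)))
    exact h4

end Cfsg.Agent.S1396
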