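import Cfsg.Statements.S1405
import Mathlib
import Cfsg.Agent.Lib.MinSimpleOdd.Sigma
-- import your own Cfsg.Agent.* helpers here

set_option autoImplicit false
open Cfsg

namespace Cfsg.Agent.S1405

/-- Let G be a minimal simple group of odd order and M a maximal subgroup, α(M) the set of primes p with M of p-rank at least 3, and M_α = O_{α(M)}(M). Then M_α is a Hall α(M)-subgroup of M and of G, M_α ≤ M_σ, the quotient M/M_α has no elementary abelian subgroup of order p ^ 3 for any prime p, and the image of M' in M/M_α is nilpotent. -/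
theorem result {G : Type*} [Group G] [Finite G] (hG : Cfsg.IsMinSimpleOddOrder G)
    (M : Subgroup G) (hM : IsCoatom M) :
    Cfsg.IsPiHallOf (Cfsg.alpha M) (Cfsg.alphaCore M) M ∧ Cfsg.IsPiHall (Cfsg.alpha M) (Cfsg.alphaCore M) ∧
      Cfsg.alphaCore M ≤ Cfsg.sigmaCore M ∧ Cfsg.RankLE 2 (↥M ⧸ Cfsg.piCore (Cfsg.alpha M) ↥M) ∧
      Group.IsNilpotent ↥((commutator ↥M).map (QuotientGroup.mk' (Cfsg.piCore (Cfsg.alpha M) ↥M))) := by
  have hs := CfsgLib.MinSimpleOdd.alpha_subset_sigma hG hM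
  obtain ⟨h1, h2⟩ := CfsgLib.MinSimpleOdd.isPiHall_core hG hM subset_rfl hs
  refine ⟨h1, h2, ?_, CfsgLib.MinSimpleOdd.rankLE_quotient_alpha hG hM, ?_⟩
  · exact CfsgLib.MinSimpleOdd.le_piCoreOf h1.1 (CfsgLib.MinSimpleOdd.le_normalizer_piCoreOf_self _ M) fun q hq hd => hs (h1.2.1 q hq hd)
  · haveI := CfsgLib.MinSimpleOdd.derived_quotient_nilpotent hG hM (π := Cfsg.alpha M) subset_rfl
    have e : (commutator ↥M).map (QuotientGroup.mk' (Cfsg.piCore (Cfsg.alpha M) ↥M)) = commutator (↥M ⧸ Cfsg.piCore (Cfsg.alpha M) ↥M) := by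
      rw [commutator_def, Subgroup.map_commutator, ← MonoidHom.range_eq_map, MonoidHom.range_eq_top.mpr (QuotientGroup.mk'_surjective _), commutator_def]
    rw [e]
    infer_instance

end Cfsg.Agent.S1405
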