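import Cfsg.Statements.S1427
import Mathlib
import Cfsg.Agent.Lib.MinSimpleOdd.PrimeAction
-- import your own Cfsg.Agent.* helpers here

set_option autoImplicit false
open Cfsg

namespace Cfsg.Agent.S1427

/-- Let G be a minimal simple group of odd order, M a maximal subgroup, E a complement to M_σ in M, and S a nontrivial cyclic Sylow subgroup of E (for some prime). Then M_σ ∩ C_G(x) = M_σ ∩ C_G(S) for every non-identity x ∈ S. -/
theorem result {G : Type*} [Group G] [Finite G] (hG : Cfsg.IsMinSimpleOddOrder G)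
    (M : Subgroup G) (hM : IsCoatom M) (E : Subgroup G) (hE : Cfsg.IsComplIn E (Cfsg.sigmaCore M) M) (p : ℕ) [Fact p.Prime] (S : Sylow p E) (hS1 : (S : Subgroup E) ≠ ⊥) (hSc : IsCyclic (S : Subgroup E)) :
    ∀ x ∈ (S : Subgroup E).map E.subtype, x ≠ 1 →
        Cfsg.sigmaCore M ⊓ Subgroup.centralizer ({x} : Set G) = Cfsg.sigmaCore M ⊓ Subgroup.centralizer (((S : Subgroup E).map E.subtype : Subgroup G) : Set G) := by
  intro x hx hx1
  haveI := hSc
  set S' := (S : Subgroup E).map E.subtype with hS'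
  have hS'E : S' ≤ E := Subgroup.map_subtype_le _
  have hS'p : IsPGroup p S' := S.2.map _
  have hS'c : IsCyclic S' :=
    isCyclic_of_surjective (E.subtype.subgroupMap (S : Subgroup E)) (MonoidHom.subgroupMap_surjective _ _)
  obtain ⟨k, hk⟩ := S.2.exists_card_eq
  have hk0 : k ≠ 0 := fun e => hS1 (Subgroup.card_eq_one.mp (by rw [hk, e, pow_zero]))
  have hpd : p ∣ Nat.card E := (hk ▸ dvd_pow_self p hk0).trans (Subgroup.card_subgroup_dvd_card _)
  have hpM : p ∉ sigma M := CfsgLib.MinSimpleOdd.complement_sigma' hG hM hE p Fact.out hpd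
  have hidx : ¬ p ∣ S'.relIndex M := by
    intro hd
    rw [← Subgroup.relIndex_mul_relIndex S' E M hS'E hE.1] at hd
    exact ((Fact.out : p.Prime).dvd_mul.mp hd).elim (CfsgLib.MinSimpleOdd.not_dvd_of_sylow E S)
      ((CfsgLib.MinSimpleOdd.complement_hall hG hM hE).2.2 p Fact.out hpM)
  have hr1 : PRankLE p 1 M := by
    refine CfsgLib.MinSimpleOdd.pRankLE_of_sylow_rel (hS'E.trans hE.1) hS'p hidx fun B _ hB => ?_
    rw [pow_one]
    haveI : IsCyclic B := inferInstance
    exact CfsgLib.MinSimpleOdd.card_le_of_cyclic Fact.out hB inferInstance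
  exact CfsgLib.MinSimpleOdd.cyclic_sylow_prime_action hG hM hpM hr1 hS'p hS'c (hS'E.trans hE.1) hx hx1

end Cfsg.Agent.S1427
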