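import Cfsg.Statements.S1429
import Mathlib
import Cfsg.Agent.Lib.MinSimpleOdd.Kappa
-- import your own Cfsg.Agent.* helpers here

set_option autoImplicit false
open Cfsg

namespace Cfsg.Agent.S1429

/-- Let G be a minimal simple group of odd order and M a maximal subgroup such that κ(M) is not the whole of the primes of M outside σ(M) (M is not of type P₁). Let p divide the order of M with p ∉ σ(M) ∪ κ(M), S a Sylow p-subgroup of M, and A the subgroup generated by the elements of S of order dividing p. Then A has order at most p ^ 2, M_σ ∩ C_G(A) = 1, and M_σ is nilpotent. -/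
theorem result {G : Type*} [Group G] [Finite G] (hG : Cfsg.IsMinSimpleOddOrder G)
    (M : Subgroup G) (hM : IsCoatom M) (hP1 : ¬ (∀ q : ℕ, q.Prime → q ∣ Nat.card M → q ∉ Cfsg.sigma M → q ∈ Cfsg.kappa M))
    (p : ℕ) [Fact p.Prime] (hpM : p ∣ Nat.card M) (hp : p ∉ Cfsg.sigma M ∪ Cfsg.kappa M) (S : Sylow p M) :
    Nat.card ↥(Subgroup.closure {x : G | x ∈ (S : Subgroup M).map M.subtype ∧ x ^ p = 1}) ≤ p ^ 2 ∧
      Cfsg.sigmaCore M ⊓ Subgroup.centralizer ((Subgroup.closure {x : G | x ∈ (S : Subgroup M).map M.subtype ∧ x ^ p = 1} : Subgroup G) : Set G) = ⊥ ∧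
      Group.IsNilpotent (Cfsg.sigmaCore M) := by
  open scoped Pointwise in
  open CfsgLib.MinSimpleOdd in
  exact (by
    haveI hMs := solvable_of_ne_top hG hM.1
    have hpσ : p ∉ Cfsg.sigma M := fun h => hp (Or.inl h)
    have hpκ : p ∉ Cfsg.kappa M := fun h => hp (Or.inr h)
    set P := (S : Subgroup M).map M.subtype with hP'
    have hPM : P ≤ M := Subgroup.map_subtype_le _
    have hP : IsPGroup p P := S.2.map _
    have hPi : ¬ p ∣ P.relIndex M := not_dvd_of_sylow M S
    have hhall : Cfsg.IsPiHallOf ({p} : Set ℕ) P M :=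
      ⟨hPM, pi_of_pgroup hP rfl, fun r _ hr => by rw [Set.mem_singleton_iff] at hr; rw [hr]; exact hPi⟩
    by_cases h2 : p ∈ Cfsg.tau2 M
    · obtain ⟨E, hE, -⟩ := exists_complement_ge hG hM (bot_le : (⊥ : Subgroup G) ≤ M)
        (fun r hr hd => absurd (Subgroup.card_bot (G := G) ▸ hd) hr.not_dvd_one)
      obtain ⟨B, hBE, hB, hB2⟩ := exists_elementary_in_complement hG hM hE h2
      obtain ⟨m, hm, hmB⟩ := CfsgLib.pi_le_conj_hall hMs hhall (hBE.trans hE.1) (pi_of_pgroup (isPGroup_of_exp hB.2) rfl)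
      have hA := elementary_conj hB m
      have hA2 : Nat.card ↥(MulAut.conj m • B) = p ^ 2 := by rw [CfsgLib.card_conj_smul, hB2]
      obtain ⟨A₀, hexc⟩ := exists_exc hG hM h2 (hmB.trans hPM) hA hA2
      obtain ⟨hΩ, hfix, -⟩ := hexc.structure' hG hM hmB hPM hP hPi
      have heq : Subgroup.closure {x : G | x ∈ P ∧ x ^ p = 1} = MulAut.conj m • B := by
        refine le_antisymm ((Subgroup.closure_le _).mpr fun x hx => (hΩ x hx.1).mp hx.2) fun x hx => ?_
        exact Subgroup.subset_closure ⟨hmB hx, hA.2 x hx⟩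
      rw [heq]
      exact ⟨hA2.le, hfix, tau2_nilpotent hG hM h2⟩
    · have hr1 := rank_one_of_not_sigma hG hM hpσ h2
      have hP1 : P ≠ ⊥ := fun e => hPi (by rwa [e, Subgroup.relIndex_bot_left])
      have hPc : IsCyclic P := rank_one_cyclic hG hr1 hP hPM
      obtain ⟨X, hXP, hX⟩ := exists_sub_card hP hP1
      have heq : Subgroup.closure {x : G | x ∈ P ∧ x ^ p = 1} = X := by
        refine le_antisymm ((Subgroup.closure_le _).mpr fun x hx => ?_) fun x hx =>
          Subgroup.subset_closure ⟨hXP hx, (elementary_of_card_prime hX).2 x hx⟩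
        by_cases hx1 : x = 1
        · rw [hx1]; exact one_mem _
        · have h := eq_of_card_cyclic hPc (Subgroup.zpowers_le.mpr hx.1) hXP
            (by rw [Nat.card_zpowers, orderOf_eq_prime hx.2 hx1, hX])
          exact h ▸ Subgroup.mem_zpowers x
      rw [heq]
      have hgood : Cfsg.sigmaCore M ⊓ Subgroup.centralizer (X : Set G) = ⊥ := by
        by_contra h
        exact hpκ (kappa_of_bad hG hM (tau1_or_tau3 hG hM hpσ hr1 hX (hXP.trans hPM)) hX (hXP.trans hPM) h)
      refine ⟨hX.le.trans (Nat.le_self_pow two_ne_zero p), hgood, ?_⟩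
      refine CfsgLib.FrobAction.isNilpotent_of_fpf_operators _ X (ne_bot_of_card hX)
        ((hXP.trans hPM).trans (le_normalizer_sigmaCore hG hM le_rfl)) fun e he he1 u hu hcomm => ?_
      have hgen : Subgroup.zpowers e = X := Subgroup.eq_of_le_of_card_ge (Subgroup.zpowers_le.mpr he)
        (by rw [Nat.card_zpowers, hX, orderOf_eq_prime ((elementary_of_card_prime hX).2 e he) he1])
      refine Subgroup.mem_bot.mp (hgood ▸ ⟨hu, fun y hy => ?_⟩)
      obtain ⟨i, rfl⟩ := Subgroup.mem_zpowers_iff.mp (hgen.ge hy)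
      exact ((show Commute e u from hcomm).zpow_left i).eq)

end Cfsg.Agent.S1429
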