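import Cfsg.Statements.S1434
import Mathlib
import Cfsg.Agent.Lib.MinSimpleOdd.KappaFacts2
-- import your own Cfsg.Agent.* helpers here

set_option autoImplicit false
open Cfsg

namespace Cfsg.Agent.S1434

/-- Let G be a minimal simple group of odd order, M a maximal subgroup with standard factorisation M = K U M_σ, K ≠ 1, K* = M_σ ∩ C_G(K), and M* a maximal subgroup with K = M*_σ ∩ C_G(K*) and K* a Hall κ(M*)-subgroup of M*. Then κ(M) = τ₁(M); K* is a Hall σ(M)-subgroup of M*; for non-identity x ∈ K and y ∈ K*, C_M(x), C_{M*}(y) and C_G(xy) all equal K K*; the set Ẑ of elements of K K* outside K ∪ K* meets no gMg⁻¹ with g ∉ M; and with k = #K, k* = #K*, the union of the conjugates of Ẑ has k·k*·(number of elements) = (k k* − k − k* + 1)·#G and more than #G / 2 elements. -/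
theorem result {G : Type*} [Group G] [Finite G] (hG : Cfsg.IsMinSimpleOddOrder G)
    (M : Subgroup G) (hM : IsCoatom M) (K U : Subgroup G) (hKU : Cfsg.IsSigmaDecomposition M K U) (hK1 : K ≠ ⊥) (Mstar : Subgroup G) (hMstar : IsCoatom Mstar)
    (hKst : K = Cfsg.sigmaCore Mstar ⊓ Subgroup.centralizer ((Cfsg.sigmaCore M ⊓ Subgroup.centralizer (K : Set G)) : Set G))
    (hKstH : Cfsg.IsPiHallOf (Cfsg.kappa Mstar) (Cfsg.sigmaCore M ⊓ Subgroup.centralizer (K : Set G)) Mstar) :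
    Cfsg.kappa M = Cfsg.tau1 M ∧ Cfsg.IsPiHallOf (Cfsg.sigma M) (Cfsg.sigmaCore M ⊓ Subgroup.centralizer (K : Set G)) Mstar ∧
      (∀ x ∈ K, x ≠ 1 → ∀ y ∈ (Cfsg.sigmaCore M ⊓ Subgroup.centralizer (K : Set G)), y ≠ 1 →
        M ⊓ Subgroup.centralizer ({x} : Set G) = K ⊔ (Cfsg.sigmaCore M ⊓ Subgroup.centralizer (K : Set G)) ∧ Mstar ⊓ Subgroup.centralizer ({y} : Set G) = K ⊔ (Cfsg.sigmaCore M ⊓ Subgroup.centralizer (K : Set G)) ∧
        Subgroup.centralizer ({x * y} : Set G) = K ⊔ (Cfsg.sigmaCore M ⊓ Subgroup.centralizer (K : Set G))) ∧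
      (∀ g : G, g ∉ M → ∀ z ∈ ((↑(K ⊔ (Cfsg.sigmaCore M ⊓ Subgroup.centralizer (K : Set G))) : Set G) \ ((K : Set G) ∪ ↑(Cfsg.sigmaCore M ⊓ Subgroup.centralizer (K : Set G)))), z ∉ M.map (MulAut.conj g).toMonoidHom) ∧
      Nat.card K * Nat.card ↥(Cfsg.sigmaCore M ⊓ Subgroup.centralizer (K : Set G)) * Set.ncard {a : G | ∃ g : G, ∃ z ∈ ((↑(K ⊔ (Cfsg.sigmaCore M ⊓ Subgroup.centralizer (K : Set G))) : Set G) \ ((K : Set G) ∪ ↑(Cfsg.sigmaCore M ⊓ Subgroup.centralizer (K : Set G)))), a = g * z * g⁻¹} =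
        (Nat.card K * Nat.card ↥(Cfsg.sigmaCore M ⊓ Subgroup.centralizer (K : Set G)) - Nat.card K - Nat.card ↥(Cfsg.sigmaCore M ⊓ Subgroup.centralizer (K : Set G)) + 1) * Nat.card G ∧
      Nat.card G < 2 * Set.ncard {a : G | ∃ g : G, ∃ z ∈ ((↑(K ⊔ (Cfsg.sigmaCore M ⊓ Subgroup.centralizer (K : Set G))) : Set G) \ ((K : Set G) ∪ ↑(Cfsg.sigmaCore M ⊓ Subgroup.centralizer (K : Set G)))), a = g * z * g⁻¹} := by
  open scoped Pointwise in
  open CfsgLib.MinSimpleOdd in
  exact (by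
    have d := kappaData_of_hall hG hM hKU.hall hK1
    obtain ⟨L, p⟩ := d.exists_pair hG
    obtain rfl := p.unique hG hMstar hKst
    have hZc := cyclic_isCommutative (p.cyclic hG)
    refine ⟨d.kappa_eq hG, p.hall_sigma hG, fun x hx hx1 y hy hy1 => ⟨d.centralizer_eq hG hx hx1, ?_, ?_⟩,
      fun g hg z hz hzM => ?_, ?_, p.conj_big hG⟩
    · have h := p.right.centralizer_eq hG hy hy1
      rw [p.symm_eq, sup_comm] at h
      exact h
    · refine le_antisymm (fun w hw => p.hat_conj hG (z := x * y) ⟨?_, ?_⟩ ?_) ?_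
      · exact Subgroup.mul_mem _ (Subgroup.mem_sup_left hx) (Subgroup.mem_sup_right hy)
      · rintro (h | h)
        · refine hy1 (Subgroup.mem_bot.mp (d.inf_bot hG ▸ (⟨?_, hy⟩ : y ∈ K ⊓ fixedCore M K)))
          have := K.mul_mem (K.inv_mem hx) h
          rwa [inv_mul_cancel_left] at this
        · refine hx1 (Subgroup.mem_bot.mp (d.inf_bot hG ▸ (⟨hx, ?_⟩ : x ∈ K ⊓ fixedCore M K)))
          have := (fixedCore M K).mul_mem h ((fixedCore M K).inv_mem hy)
          rwa [mul_inv_cancel_right] at this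
      · rw [Subgroup.mem_centralizer_singleton_iff.mp hw, mul_inv_cancel_right]
        exact Subgroup.mul_mem _ (Subgroup.mem_sup_left hx) (Subgroup.mem_sup_right hy)
      · haveI : IsMulCommutative ↥(K ⊔ (Cfsg.sigmaCore M ⊓ Subgroup.centralizer (K : Set G))) := hZc
        exact (Subgroup.le_centralizer _).trans (Subgroup.centralizer_le (Set.singleton_subset_iff.mpr
          (Subgroup.mul_mem _ (Subgroup.mem_sup_left hx) (Subgroup.mem_sup_right hy))))
    · obtain ⟨k, hk, c, hc, rfl⟩ := (d.compl hG).2.2.2 z hz.1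
      have hkc : Commute k c := ((d.fixed_centralizes hG) hk c hc).symm
      have h1 : (k * c) ^ orderOf k = c ^ orderOf k := by rw [hkc.mul_pow, pow_orderOf_eq_one, one_mul]
      have h2 : c ^ orderOf k ∈ fixedCore M K ⊓ MulAut.conj g • M :=
        ⟨(fixedCore M K).pow_mem hc _, h1 ▸ (MulAut.conj g • M).pow_mem hzM _⟩
      rw [d.fixed_inf_conj hG hg, Subgroup.mem_bot] at h2
      have hco : (orderOf c).Coprime (orderOf k) := Nat.coprime_of_dvd fun s hs ha hb =>
        d.sigma' hG hs (hb.trans (Subgroup.orderOf_dvd_natCard _ hk)) (order_sigma hG hM hc.1 s hs ha)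
      have hc1 : c = 1 := orderOf_eq_one_iff.mp (Nat.eq_one_of_dvd_coprimes hco dvd_rfl (orderOf_dvd_of_pow_eq_one h2))
      exact hz.2 (Or.inl (by rw [hc1, mul_one]; exact hk))
    · show Nat.card K * Nat.card ↥(fixedCore M K) * Set.ncard {a : G | ∃ g : G,
        ∃ z ∈ ((↑(K ⊔ fixedCore M K) : Set G) \ ((K : Set G) ∪ (fixedCore M K : Set G))), a = g * z * g⁻¹} =
        (Nat.card K * Nat.card ↥(fixedCore M K) - Nat.card K - Nat.card ↥(fixedCore M K) + 1) * Nat.card G
      have hk : 2 ≤ Nat.card K := Subgroup.one_lt_card_iff_ne_bot _ |>.mpr hK1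
      have hc : 2 ≤ Nat.card ↥(fixedCore M K) := Subgroup.one_lt_card_iff_ne_bot _ |>.mpr d.fixed_ne
      have hT := p.hat_card hG
      have hkc : Nat.card K + Nat.card ↥(fixedCore M K) ≤ Nat.card K * Nat.card ↥(fixedCore M K) := by nlinarith
      rw [p.conj_card hG, ← mul_assoc, ← card_complIn (d.compl hG), Subgroup.card_mul_index, mul_comm (Nat.card G)]
      congr 1
      have := card_complIn (d.compl hG)
      omega)

end Cfsg.Agent.S1434
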