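import Cfsg.Statements.S1441
import Mathlib
-- import your own Cfsg.Agent.* helpers here

set_option autoImplicit false
open Cfsg

namespace Cfsg.Agent.S1441

/-- Let G be a finite group, H a solvable subgroup and A a subgroup normalizing H. Suppose there is a chain H = H₀ ≥ H₁ ≥ ⋯ ≥ H_n = 1 of subgroups normal in H and normalized by A such that A acts trivially on each factor H_{i-1}/H_i (that is, [H_{i-1}, A] ≤ H_i). Then every prime dividing the index of C_A(H) in A divides the order of H. -/
theorem result {G : Type*} [Group G] [Finite G] (H A : Subgroup G) (hH : Group.IsSolvable H) (hA : (A ≤ Subgroup.normalizer (H : Set G)))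
    (n : ℕ) (c : Fin (n + 1) → Subgroup G) (hc0 : c 0 = H) (hcn : c (Fin.last n) = ⊥) (hanti : Antitone c)
    (hcN : ∀ i, H ≤ Subgroup.normalizer ((c i : Subgroup G) : Set G)) (hcA : ∀ i, A ≤ Subgroup.normalizer ((c i : Subgroup G) : Set G))
    (htriv : ∀ i : Fin n, ⁅c i.castSucc, A⁆ ≤ c i.succ) :
    ∀ p : ℕ, p.Prime → p ∣ (A ⊓ Subgroup.centralizer (H : Set G)).relIndex A → p ∣ Nat.card H := by
  intro p hp hdvd
  by_contra hpH
  haveI := Fact.mk hp
  set K := (A ⊓ Subgroup.centralizer (H : Set G)).subgroupOf A with hK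
  obtain ⟨P⟩ : Nonempty (Sylow p A) := inferInstance
  refine P.not_dvd_index (hdvd.trans (Subgroup.index_dvd_of_le ?_))
  intro x hxP
  refine Subgroup.mem_inf.mpr ⟨x.2, ?_⟩
  obtain ⟨j, hj⟩ := P.2 ⟨x, hxP⟩
  have hxo : (orderOf (x : G)).Coprime (Nat.card H) := by
    refine ((hp.coprime_iff_not_dvd.mpr hpH).pow_left j).coprime_dvd_left (orderOf_dvd_of_pow_eq_one ?_)
    simpa using congrArg (fun u : (P : Subgroup A) => ((u : A) : G)) hj
  have key : ∀ i : Fin (n + 1), ∀ r ∈ c i, (x : G) * r = r * x := by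
    intro i
    induction i using Fin.reverseInduction with
    | last => intro r hr; rw [hcn, Subgroup.mem_bot] at hr; rw [hr, mul_one, one_mul]
    | cast i ih =>
      intro r hr
      have hd0 : r⁻¹ * x * (r⁻¹)⁻¹ * (x : G)⁻¹ ∈ c i.succ := htriv i (Subgroup.commutator_mem_commutator (inv_mem hr) x.2)
      set d := r⁻¹ * x * (r⁻¹)⁻¹ * (x : G)⁻¹ with hd
      have hxd : (x : G) * d = d * x := ih d hd0
      have hstep : (x : G) * r * (x : G)⁻¹ = r * d := by rw [hd]; group
      have hiter : ∀ k : ℕ, (x : G) ^ k * r * ((x : G) ^ k)⁻¹ = r * d ^ k := fun k => by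
        induction k with
        | zero => simp
        | succ k ihk =>
          calc (x : G) ^ (k + 1) * r * ((x : G) ^ (k + 1))⁻¹ = x * ((x : G) ^ k * r * ((x : G) ^ k)⁻¹) * (x : G)⁻¹ := by rw [pow_succ']; group
            _ = (x * r * (x : G)⁻¹) * (x * d ^ k) * (x : G)⁻¹ := by rw [ihk]; group
            _ = (r * d) * (d ^ k * x) * (x : G)⁻¹ := by rw [hstep, (Commute.pow_right hxd k).eq]
            _ = _ := by rw [pow_succ']; group
      have h1 := hiter (orderOf (x : G))
      rw [pow_orderOf_eq_one, one_mul, inv_one, mul_one, left_eq_mul] at h1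
      have hdH : d ∈ H := hc0 ▸ hanti (Fin.zero_le _) hd0
      have hd1 : d = 1 := by
        rw [← orderOf_eq_one_iff]
        exact Nat.eq_one_of_dvd_coprimes hxo (orderOf_dvd_of_pow_eq_one h1) (Subgroup.orderOf_dvd_natCard _ hdH)
      rw [hd1, mul_one] at hstep
      exact mul_inv_eq_iff_eq_mul.mp hstep
  exact Subgroup.mem_centralizer_iff.mpr fun h hh => (key 0 h (hc0.symm ▸ hh)).symm

end Cfsg.Agent.S1441
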