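import Cfsg.Statements.S1444
import Mathlib
import Cfsg.Agent.Lib.OddLocal.CommutatorPLength
-- import your own Cfsg.Agent.* helpers here

set_option autoImplicit false
open Cfsg

namespace Cfsg.Agent.S1444

/-- Let G be a solvable group of odd order, H a normal subgroup of order coprime to its index, R a complement to H in G, and R₀ ≤ R a subgroup of prime order such that every Sylow subgroup of H ∩ C_G(R₀) is cyclic. Then for every prime p the commutator subgroup [H, R] satisfies [H,R] = O_{p',p,p'}([H,R]). -/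
theorem result {G : Type*} [Group G] [Finite G] [Group.IsSolvable G] (hodd : Odd (Nat.card G)) (H R R₀ : Subgroup G) [H.Normal] (hHall : (Nat.card H).Coprime H.index)
    (hR : Subgroup.IsComplement' H R) (hR₀ : R₀ ≤ R) (hR₀p : (Nat.card R₀).Prime) (hZ : IsZGroup ↥(H ⊓ Subgroup.centralizer (R₀ : Set G)))
    (p : ℕ) [Fact p.Prime] :
    Cfsg.PLengthLE p 1 ↥⁅H, R⁆ := by
  have hRH : R ≤ Subgroup.normalizer (H : Set G) := by rw [Subgroup.normalizer_eq_top]; exact le_top
  set L := ⁅H, R⁆ with hL
  have hLH : L ≤ H := CfsgLib.commutator_le_of_le_normalizer hRH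
  have hcop : (Nat.card R).Coprime (Nat.card H) := by
    rw [← hR.symm.index_eq_card]
    exact hHall.symm
  have hidem : ⁅L, R⁆ = L := CfsgLib.coprime_commutator_commutator hRH hcop (Or.inr inferInstance)
  set T := L ⊔ R with hT
  have hLn : (L.subgroupOf T).Normal := (Subgroup.normal_subgroupOf_iff_le_normalizer le_sup_left).mpr
    (sup_le Subgroup.le_normalizer (CfsgLib.right_le_normalizer_commutator R H))
  have hcard : ∀ U : Subgroup G, U ≤ T → Nat.card (U.subgroupOf T) = Nat.card U := fun U hU =>
    Nat.card_congr (Subgroup.subgroupOfEquivOfLe hU).toEquiv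
  have hLT : L ≤ T := le_sup_left
  have hRT : R ≤ T := le_sup_right
  have hR₀T : R₀ ≤ T := hR₀.trans hRT
  have hmap : ∀ U : Subgroup G, U ≤ T → (U.subgroupOf T).map T.subtype = U := fun U hU =>
    Subgroup.map_subgroupOf_eq_of_le hU
  have h := CfsgLib.CommPLength.main (p := p) _ T rfl (hodd.of_dvd_nat (Subgroup.card_subgroup_dvd_card T))
    (L.subgroupOf T) (R.subgroupOf T) (R₀.subgroupOf T) hLn
    (by rw [← Subgroup.subgroupOf_sup hLT hRT, Subgroup.subgroupOf_self])
    (by rw [hcard R hRT, hcard L hLT]; exact hcop.coprime_dvd_right (Subgroup.card_dvd_of_le hLH))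
    (fun x hx => hR₀ hx) (by rw [hcard R₀ hR₀T]; exact hR₀p) (by
      haveI := hZ
      refine IsZGroup.of_injective (G' := ↥(H ⊓ Subgroup.centralizer (R₀ : Set G)))
        (f := (T.subtype.comp (Subgroup.subtype _)).codRestrict _ fun x => ?_) ?_
      · exact ⟨hLH x.2.1, fun a ha => congrArg Subtype.val (x.2.2 ⟨a, hR₀T ha⟩ ha)⟩
      · intro a b e
        exact Subtype.ext (Subtype.ext (congrArg (fun t : ↥(H ⊓ Subgroup.centralizer (R₀ : Set G)) => (t : G)) e)))
    (by
      apply Subgroup.map_injective T.subtype_injective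
      rw [Subgroup.map_commutator, hmap L hLT, hmap R hRT, hidem])
  exact CfsgLib.PSeries.pLengthLE_map (Subgroup.subgroupOfEquivOfLe hLT).toMonoidHom
    (MulEquiv.surjective _) (CfsgLib.CommPLength.pLengthLE_of_pLen h)

end Cfsg.Agent.S1444
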