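import Cfsg.Statements.S1454
import Mathlib
import Cfsg.Agent.Lib.OddLocal.NarrowAut
import Cfsg.Agent.Lib.OddLocal.NarrowStructure
-- import your own Cfsg.Agent.* helpers here

set_option autoImplicit false
open Cfsg

namespace Cfsg.Agent.S1454

open scoped commutatorElement

/-- Let G be a finite group, p an odd prime, R a narrow p-subgroup and A a solvable subgroup of odd order normalizing R with A ∩ C_G(R) = 1. Then [A, A] ≤ O_p(A) and the index of O_p(A) in A is coprime to p; if R has an elementary abelian subgroup of order p ^ 3 then the order of every element of A of order coprime to p divides p − 1; and if the order of A is a prime not dividing p(p − 1), then 2·#A divides p + 1, and if in addition [R, A] = R and R is non-abelian then #R = p ^ 3. -/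
theorem result {G : Type*} [Group G] [Finite G] (p : ℕ) [Fact p.Prime] (hp : p ≠ 2) (R A : Subgroup G) (hR : IsPGroup p R) (hRn : Cfsg.IsNarrow p R)
    (hA : (A ≤ Subgroup.normalizer (R : Set G))) (hAs : Group.IsSolvable A) (hAodd : Odd (Nat.card A)) (hfaith : A ⊓ Subgroup.centralizer (R : Set G) = ⊥) :
    (commutator ↥A ≤ Cfsg.pCore p ↥A ∧ ((Cfsg.pCore p ↥A).index).Coprime p) ∧
      (¬ Cfsg.PRankLE p 2 R → ∀ a ∈ A, (orderOf a).Coprime p → orderOf a ∣ p - 1) ∧
      ((Nat.card A).Prime → ¬ Nat.card A ∣ p * (p - 1) →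
        2 * Nat.card A ∣ p + 1 ∧ (⁅R, A⁆ = R → ¬ IsMulCommutative R → Nat.card R = p ^ 3)) := by
  have hpp := (Fact.out : p.Prime)
  let φ : A →* MulAut R := (Subgroup.normalizerMonoidHom R).comp (Subgroup.inclusion hA)
  have hinj : Function.Injective φ := by
    rw [injective_iff_map_eq_one]
    intro a ha
    have hmem : (Subgroup.inclusion hA a) ∈ (Subgroup.normalizerMonoidHom R).ker := ha
    rw [Subgroup.normalizerMonoidHom_ker, Subgroup.mem_subgroupOf] at hmem
    have h2 : (a : G) ∈ A ⊓ Subgroup.centralizer (R : Set G) := ⟨a.2, hmem⟩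
    rw [hfaith, Subgroup.mem_bot] at h2
    exact Subtype.ext h2
  haveI := hAs
  obtain ⟨x0, hx0, hr0⟩ := CfsgLib.NarrowStructure.small_of_narrow hRn
  have hder := CfsgLib.NarrowDerived.derived_isPGroup hp hR hx0 hr0 hAodd φ hinj
  have part2 : ¬ Cfsg.PRankLE p 2 R → ∀ a : A, (orderOf a).Coprime p → a ^ (p - 1) = 1 := by
    intro hr a hao
    obtain ⟨R₀, R₁, hR₀, hcyc, hdisj, hcomm, hsup⟩ := hRn.resolve_left hr
    haveI : IsCyclic R₀ := isCyclic_of_prime_card hR₀
    obtain ⟨x, hx⟩ := (inferInstance : IsCyclic R₀).exists_generator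
    have hxp : (x : R) ^ p = 1 := by rw [← Subgroup.coe_pow, ← hR₀, pow_card_eq_one']; rfl
    have hx1 : (x : R) ≠ 1 := by
      intro h
      have hsub : ∀ y : R₀, y = 1 := fun y => by
        obtain ⟨k, rfl⟩ := Subgroup.mem_zpowers_iff.1 (hx y)
        rw [show x = 1 from Subtype.ext h, one_zpow]
      haveI : Subsingleton R₀ := ⟨fun u v => (hsub u).trans (hsub v).symm⟩
      rw [Nat.card_of_subsingleton (1 : R₀)] at hR₀
      exact hpp.one_lt.ne hR₀
    have hgen : ∀ c : R, c * x = x * c → c ∈ Subgroup.centralizer (R₀ : Set R) := fun c hc =>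
      Subgroup.mem_centralizer_iff.2 fun e he => by
        obtain ⟨k, hk⟩ := Subgroup.mem_zpowers_iff.1 (hx ⟨e, he⟩)
        have hk' : (x : R) ^ k = e := congrArg Subtype.val hk
        rw [← hk']
        exact ((show Commute c (x : R) from hc).zpow_right k).eq.symm
    have hcount : Nat.card {c : R // c * x = x * c ∧ c ^ p = 1} ≤ p ^ 2 := by
      have hdec : ∀ c : {c : R // c * x = x * c ∧ c ^ p = 1},
          ∃ uv : R₀ × {b : R₁ // b ^ p = 1}, ((uv.1 : R) * ((uv.2 : R₁) : R)) = (c : R) := by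
        intro c
        have ha : (c : R) ∈ R₀ ⊔ R₁ := by rw [hsup]; exact hgen c c.2.1
        have hnorm : R₁ ≤ Subgroup.normalizer (R₀ : Set R) := by
          refine le_trans (fun b hb => ?_) (Subgroup.centralizer_le_normalizer _)
          exact Subgroup.mem_centralizer_iff.2 fun u hu => hcomm u hu b hb
        rw [← SetLike.mem_coe, Subgroup.coe_mul_of_right_le_normalizer_left _ _ hnorm] at ha
        obtain ⟨u, hu, b, hb, hub⟩ := Set.mem_mul.1 ha
        have hap := c.2.2
        rw [← hub, (show Commute u b from hcomm u hu b hb).mul_pow,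
          show u ^ p = 1 from by
            have := congrArg Subtype.val (pow_card_eq_one' (G := R₀) (x := ⟨u, hu⟩))
            rwa [hR₀] at this, one_mul] at hap
        exact ⟨⟨⟨u, hu⟩, ⟨⟨b, hb⟩, Subtype.ext hap⟩⟩, hub⟩
      choose f hf using hdec
      have hfinj : Function.Injective f := fun a b h => by
        have h1 := hf a
        rw [h, hf b] at h1
        exact Subtype.ext h1.symm
      refine (Nat.card_le_card_of_injective f hfinj).trans ?_
      rw [Nat.card_prod, hR₀, pow_two]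
      refine Nat.mul_le_mul_left _ ?_
      classical
      haveI := Fintype.ofFinite R₁
      rw [Nat.card_eq_fintype_card, Fintype.card_subtype]
      exact IsCyclic.card_pow_eq_one_le hpp.pos
    refine hinj ?_
    rw [map_one, map_pow]
    exact CfsgLib.NarrowAut.pow_sub_one_eq_one hp hR hr hxp hx1 hcount
      (Nat.Coprime.coprime_dvd_left (orderOf_map_dvd φ a) hao)
  refine ⟨⟨CfsgLib.le_pCore hder, CfsgLib.PStructure.index_pCore hder⟩, fun hr a ha hao => ?_, fun hq hndvd => ?_⟩
  · refine orderOf_dvd_of_pow_eq_one ?_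
    exact congrArg Subtype.val (part2 hr ⟨a, ha⟩ (by rwa [Subgroup.orderOf_mk]))
  haveI : Fact (Nat.card A).Prime := ⟨hq⟩
  have hqp : Nat.card A ≠ p := fun h => hndvd (h ▸ dvd_mul_right _ _)
  have hq1 : ¬ Nat.card A ∣ p - 1 := fun h => hndvd (dvd_mul_of_dvd_right h _)
  have hq2 : Nat.card A ≠ 2 := fun h => by rw [h] at hAodd; exact absurd hAodd (by decide)
  obtain ⟨g, hg⟩ := exists_prime_orderOf_dvd_card' (G := A) (Nat.card A) dvd_rfl
  have hg1 : φ g ≠ 1 := fun h => by
    rw [hinj (h.trans (map_one φ).symm), orderOf_one] at hg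
    exact hq.one_lt.ne hg
  have hrk : Cfsg.PRankLE p 2 R := by
    by_contra hr
    have h := part2 hr g (by rw [hg]; exact (Nat.coprime_primes hq hpp).2 hqp)
    exact hq1 (hg ▸ orderOf_dvd_of_pow_eq_one h)
  have hαq : φ g ^ Nat.card A = 1 := by rw [← map_pow, pow_card_eq_one', map_one]
  haveI : Finite (MulAut R) := Finite.of_injective (fun f => (f : R → R)) DFunLike.coe_injective
  have hdvd2 := (CfsgLib.PGroupRankTwo.aut_prime_dvd hp hR hrk (Nat.card A) hq hqp
    ((orderOf_eq_prime hαq hg1).symm.dvd.trans (orderOf_dvd_natCard _))).1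
  have hp1 : Nat.card A ∣ p + 1 := by
    have h' : Nat.card A ∣ (p + 1) * (p - 1) := by rwa [← Nat.sq_sub_sq, one_pow]
    exact (hq.dvd_mul.1 h').resolve_right hq1
  refine ⟨Nat.Coprime.mul_dvd_of_dvd_of_dvd ((Nat.coprime_primes Nat.prime_two hq).2 hq2.symm) ?_ hp1, fun hRA hnab => ?_⟩
  · have := (hpp.eq_two_or_odd).resolve_left hp
    omega
  obtain ⟨D, hD3, hD⟩ := CfsgLib.NarrowAut.moves_into_three hp hR hrk hq2 hqp hq1 hαq hg1
    (fun h => hnab ⟨⟨h⟩⟩)
  have hpow : ∀ (k : ℕ) (r : R), r⁻¹ * (φ g ^ k) r ∈ D := by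
    intro k r
    induction k with
    | zero => simp
    | succ k ih =>
      rw [pow_succ', MulAut.mul_apply, show r⁻¹ * φ g ((φ g ^ k) r) =
        (r⁻¹ * (φ g ^ k) r) * (((φ g ^ k) r)⁻¹ * φ g ((φ g ^ k) r)) by group]
      exact mul_mem ih (hD _)
  have hle : ⁅R, A⁆ ≤ D.map R.subtype := by
    rw [Subgroup.commutator_le]
    intro r hr a ha
    have hgen : (⟨a, ha⟩ : A) ∈ Subgroup.zpowers g := mem_zpowers_of_prime_card rfl (fun h => hg1 (by rw [h, map_one]))
    obtain ⟨k, hk⟩ := mem_powers_iff_mem_zpowers.2 hgen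
    refine ⟨((⟨r, hr⟩ : R)⁻¹)⁻¹ * (φ g ^ k) (⟨r, hr⟩ : R)⁻¹, hpow k _, ?_⟩
    rw [← map_pow, show g ^ k = (⟨a, ha⟩ : A) from hk, Subgroup.coe_subtype, Subgroup.coe_mul, inv_inv]
    show r * (a * r⁻¹ * a⁻¹) = ⁅r, a⁆
    rw [commutatorElement_def]
    group
  rw [hRA] at hle
  have heq : D.map R.subtype = R := le_antisymm (Subgroup.map_subtype_le _) hle
  rw [← heq, ← Nat.card_congr (D.equivMapOfInjective _ R.subtype_injective).toEquiv, hD3]

end Cfsg.Agent.S1454
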