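import Cfsg.Statements.S1456
import Mathlib
import Cfsg.Agent.Lib.OddLocal.NarrowStructure
-- import your own Cfsg.Agent.* helpers here

set_option autoImplicit false
open Cfsg

namespace Cfsg.Agent.S1456

/-- Let G be a solvable group of odd order, p a prime, and E an elementary abelian p-subgroup of the Fitting subgroup F(G) such that F(G) ∩ C_G(E) has no elementary abelian subgroup of order q ^ 3 for any prime q. Then the derived subgroup of G is contained in F(G). -/
theorem result {G : Type*} [Group G] [Finite G] [Group.IsSolvable G] (hodd : Odd (Nat.card G)) (p : ℕ) [Fact p.Prime] (E : Subgroup G) (hE : E ≤ Cfsg.fittingSubgroup G) (hEe : Cfsg.IsElementaryAbelian p E)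
    (hr : Cfsg.RankLE 2 ↥(Cfsg.fittingSubgroup G ⊓ Subgroup.centralizer (E : Set G))) :
    commutator G ≤ Cfsg.fittingSubgroup G := by
  set F := Cfsg.fittingSubgroup G with hF
  have hnil : Group.IsNilpotent ↥F := CfsgLib.isNilpotent_fittingSubgroup
  have hcore : E ≤ Cfsg.pCore p G := by
    intro e he
    let P : Sylow p ↥F := default
    have hall : ∀ (r : ℕ) (_ : Fact r.Prime) (T : Sylow r ↥F), (T : Subgroup ↥F).Normal :=
      ((Group.isNilpotent_of_finite_tfae (G := ↥F)).out 0 3).mp hnil
    haveI hn : (P : Subgroup ↥F).Normal := hall p inferInstance P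
    have hee : IsPGroup p ↥(E.subgroupOf F) := fun x => ⟨1, by
      rw [pow_one]; exact Subtype.ext (Subtype.ext (hEe.2 _ x.2))⟩
    obtain ⟨Q, hQ⟩ := hee.exists_le_sylow
    haveI : Finite (Sylow p ↥F) := inferInstance
    haveI := Sylow.unique_of_normal P hn
    rw [Subsingleton.elim Q P, CfsgLib.sylow_eq_pCore_of_normal P] at hQ
    exact CfsgLib.map_pCore_le p F ⟨⟨e, hE he⟩, hQ he, rfl⟩
  refine CfsgLib.RankTwoTower.derived_le_fitting hodd (fun q hq => ?_)
  haveI := Fact.mk hq
  have hle : Cfsg.pCore q G ≤ F := CfsgLib.pCore_le_fittingSubgroup hq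
  by_cases hqp : q = p
  · subst hqp
    refine CfsgLib.NarrowStructure.exists_small (CfsgLib.isPGroup_pCore q) (E.subgroupOf (Cfsg.pCore q G))
      ⟨⟨⟨fun a b => ?_⟩⟩, fun a ha => Subtype.ext (hEe.2 _ ha)⟩ ?_
    · exact Subtype.ext (Subtype.ext (congrArg Subtype.val (hEe.1.is_comm.comm (⟨_, a.2⟩ : E) ⟨_, b.2⟩) :))
    · let f : ↥(Subgroup.centralizer ((E.subgroupOf (Cfsg.pCore q G) : Subgroup ↥(Cfsg.pCore q G)) : Set ↥(Cfsg.pCore q G))) →*
          ↥(F ⊓ Subgroup.centralizer (E : Set G)) :=
        ((Cfsg.pCore q G).subtype.comp (Subgroup.subtype _)).codRestrict _ (fun c => Subgroup.mem_inf.2 ⟨hle c.1.2,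
          Subgroup.mem_centralizer_iff.2 fun e he =>
            congrArg Subtype.val (Subgroup.mem_centralizer_iff.1 c.2 (⟨e, hcore he⟩ : ↥(Cfsg.pCore q G)) he)⟩)
      exact CfsgLib.RankTwoTower.pRankLE_of_injective f
        (fun a b h => Subtype.ext (Subtype.ext (congrArg (fun z : ↥(F ⊓ Subgroup.centralizer (E : Set G)) => (z : G)) h))) (hr q hq)
  · refine CfsgLib.RankTwoTower.small_of_rank ?_
    have hle2 : Cfsg.pCore q G ≤ F ⊓ Subgroup.centralizer (E : Set G) := by
      refine le_inf hle fun z hz => Subgroup.mem_centralizer_iff.2 fun e he => ?_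
      exact (Subgroup.commute_of_normal_of_disjoint _ _ inferInstance inferInstance
        (IsPGroup.disjoint_of_coprime (CfsgLib.isPGroup_pCore (G := G) q) (CfsgLib.isPGroup_pCore p)
          ((Nat.coprime_primes hq Fact.out).2 hqp)) z e hz (hcore he)).eq.symm
    exact CfsgLib.RankTwoTower.pRankLE_of_injective (Subgroup.inclusion hle2) (Subgroup.inclusion_injective _) (hr q hq)

end Cfsg.Agent.S1456
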