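import Cfsg.Statements.S1460
import Mathlib
import Cfsg.Agent.Lib.HallPi
-- import your own Cfsg.Agent.* helpers here

set_option autoImplicit false
open Cfsg

namespace Cfsg.Agent.S1460

open scoped Pointwise commutatorElement

/-- Let G be a finite solvable group, K a normal subgroup and U a subgroup with G = KU, and H ≤ U a subgroup whose order is coprime to that of K. Then H ∩ G' = H ∩ U'; N_G(H) is generated by K ∩ C_G(H) and U ∩ N_G(H); and if gHg⁻¹ ≤ U for some g ∈ G then g = u c with u ∈ U and c ∈ K ∩ C_G(H). -/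
theorem result {G : Type*} [Group G] [Finite G] [Group.IsSolvable G] (K U H : Subgroup G) [K.Normal] (hKU : K ⊔ U = ⊤) (hH : H ≤ U) (hcop : (Nat.card H).Coprime (Nat.card K)) :
    H ⊓ commutator G = H ⊓ ⁅U, U⁆ ∧
      Subgroup.normalizer (H : Set G) = (K ⊓ Subgroup.centralizer (H : Set G)) ⊔ (U ⊓ Subgroup.normalizer (H : Set G)) ∧
      ∀ g : G, H.map (MulAut.conj g).toMonoidHom ≤ U → ∃ u ∈ U, ∃ c ∈ K ⊓ Subgroup.centralizer (H : Set G), g = u * c := by
  have hKH : H ≤ Subgroup.normalizer (((U ⊓ K : Subgroup G)) : Set G) := by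
    intro h hh
    rw [Subgroup.mem_normalizer_iff]
    intro x
    constructor
    · intro hx
      exact ⟨U.mul_mem (U.mul_mem (hH hh) hx.1) (U.inv_mem (hH hh)), ‹K.Normal›.conj_mem x hx.2 h⟩
    · intro hx
      refine ⟨?_, ?_⟩
      · have := U.mul_mem (U.mul_mem (U.inv_mem (hH hh)) hx.1) (hH hh)
        simpa [mul_assoc] using this
      · have := ‹K.Normal›.conj_mem _ hx.2 h⁻¹
        simpa [mul_assoc] using this
  have hcopD : (Nat.card H).Coprime (Nat.card (U ⊓ K : Subgroup G)) :=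
    hcop.coprime_dvd_right (Subgroup.card_dvd_of_le inf_le_right)
  have hdisj : ∀ x ∈ H, x ∈ K → x = 1 := fun x h1 h2 =>
    Subgroup.disjoint_def.mp (Subgroup.disjoint_of_coprime_natCard hcop) h1 h2
  have key : ∀ g : G, H.map (MulAut.conj g).toMonoidHom ≤ U → ∃ u ∈ U, ∃ c ∈ K ⊓ Subgroup.centralizer (H : Set G), g = u * c := by
    intro g hg
    have hgm : g ∈ ((U : Set G) * (K : Set G)) := by
      rw [← Subgroup.mul_normal, sup_comm, hKU]; trivial
    obtain ⟨u, hu, k, hk, rfl⟩ := hgm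
    have hB : MulAut.conj k • H ≤ (U ⊓ K) ⊔ H := by
      intro x hx
      obtain ⟨y, hy, rfl⟩ := (CfsgLib.mem_conj_smul_iff.mp hx : k⁻¹ * x * k ∈ H) |> fun h => (⟨k⁻¹ * x * k, h, by group⟩ : ∃ y ∈ H, k * y * k⁻¹ = x)
      have h1 : u * (k * y * k⁻¹) * u⁻¹ ∈ U := hg ⟨y, hy, by simp [mul_assoc]⟩
      have h2 : k * y * k⁻¹ ∈ U := by
        have := U.mul_mem (U.mul_mem (U.inv_mem hu) h1) hu
        simpa [mul_assoc] using this
      have h3 : k * y * k⁻¹ * y⁻¹ ∈ U ⊓ K := ⟨U.mul_mem h2 (U.inv_mem (hH hy)), by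
        rw [show k * y * k⁻¹ * y⁻¹ = k * (y * k⁻¹ * y⁻¹) by group]
        exact K.mul_mem hk (‹K.Normal›.conj_mem _ (K.inv_mem hk) y)⟩
      have := Subgroup.mul_mem _ (Subgroup.mem_sup_left (T := H) h3) (Subgroup.mem_sup_right hy)
      simpa [mul_assoc] using this
    obtain ⟨w, hw, hwe⟩ := CfsgLib.exists_conj_complement hKH hcopD (Or.inl inferInstance) hB (CfsgLib.card_conj_smul k H)
    refine ⟨u * w, U.mul_mem hu hw.1, w⁻¹ * k, ⟨K.mul_mem (K.inv_mem hw.2) hk, ?_⟩, by group⟩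
    show w⁻¹ * k ∈ Subgroup.centralizer (H : Set G)
    rw [Subgroup.mem_centralizer_iff]
    intro x hx
    have h1 : k * x * k⁻¹ ∈ MulAut.conj w • H := hwe ▸ (CfsgLib.mem_conj_smul_iff.mpr (by simpa [mul_assoc] using hx))
    rw [CfsgLib.mem_conj_smul_iff] at h1
    have h2 : w⁻¹ * k * x * (w⁻¹ * k)⁻¹ * x⁻¹ = 1 := by
      refine hdisj _ (H.mul_mem (by simpa [mul_assoc] using h1) (H.inv_mem hx)) ?_
      rw [show w⁻¹ * k * x * (w⁻¹ * k)⁻¹ * x⁻¹ = (w⁻¹ * k) * (x * (w⁻¹ * k)⁻¹ * x⁻¹) by group]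
      have hm := K.mul_mem (K.inv_mem hw.2) hk
      exact K.mul_mem hm (‹K.Normal›.conj_mem _ (K.inv_mem hm) x)
    exact (mul_inv_eq_iff_eq_mul.mp (mul_inv_eq_one.mp h2)).symm
  refine ⟨?_, ?_, key⟩
  · refine le_antisymm ?_ (inf_le_inf le_rfl ?_)
    · rintro h ⟨hh, hc⟩
      refine ⟨hh, ?_⟩
      have hle : commutator G ≤ K ⊔ ⁅U, U⁆ := by
        rw [commutator_def, Subgroup.commutator_le]
        intro a _ b _
        have ha : a ∈ ((K : Set G) * (U : Set G)) := by rw [← Subgroup.normal_mul, hKU]; trivial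
        have hb : b ∈ ((K : Set G) * (U : Set G)) := by rw [← Subgroup.normal_mul, hKU]; trivial
        obtain ⟨k, hk, u, hu, rfl⟩ := ha
        obtain ⟨l, hl, v, hv, rfl⟩ := hb
        have e : (QuotientGroup.mk' K) ⁅k * u, l * v⁆ = (QuotientGroup.mk' K) ⁅u, v⁆ := by
          simp [map_commutatorElement, (QuotientGroup.eq_one_iff k).mpr hk, (QuotientGroup.eq_one_iff l).mpr hl]
        obtain ⟨z, hz, hze⟩ := (QuotientGroup.mk'_eq_mk' K).mp e.symm
        rw [← hze]
        exact Subgroup.mul_mem _ (Subgroup.mem_sup_right (Subgroup.commutator_mem_commutator hu hv)) (Subgroup.mem_sup_left hz)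
      have h1 : h ∈ ((K : Set G) * ((⁅U, U⁆ : Subgroup G) : Set G)) := by rw [← Subgroup.normal_mul]; exact hle hc
      obtain ⟨k, hk, c, hcU, hkc⟩ := h1
      simp only at hkc
      have hcU' : c ∈ U := (Subgroup.commutator_le_self U) hcU
      let C : Subgroup U := (⁅U, U⁆ : Subgroup G).subgroupOf U
      haveI : C.Normal := (Subgroup.normal_subgroupOf_iff_le_normalizer (Subgroup.commutator_le_self U)).mpr
        (CfsgLib.left_le_normalizer_commutator U U)
      have hkU : k ∈ U := by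
        have := U.mul_mem (hH hh) (U.inv_mem hcU')
        rwa [← hkc, mul_inv_cancel_right] at this
      let φ := QuotientGroup.mk' C
      have e1 : φ ⟨h, hH hh⟩ = φ ⟨k, hkU⟩ := by
        refine ((QuotientGroup.mk'_eq_mk' C).mpr ⟨⟨c, hcU'⟩, hcU, Subtype.ext hkc⟩).symm
      have e2 : φ ⟨h, hH hh⟩ = 1 := by
        rw [← orderOf_eq_one_iff]
        refine Nat.dvd_one.mp (hcop ▸ Nat.dvd_gcd ?_ ?_)
        · exact (orderOf_map_dvd φ _).trans (by rw [Subgroup.orderOf_mk]; exact Subgroup.orderOf_dvd_natCard H hh)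
        · rw [e1]; exact (orderOf_map_dvd φ _).trans (by rw [Subgroup.orderOf_mk]; exact Subgroup.orderOf_dvd_natCard K hk)
      exact (QuotientGroup.eq_one_iff (N := C) _).mp e2
    · exact Subgroup.commutator_mono le_top le_top
  · refine le_antisymm (fun g hg => ?_) (sup_le (inf_le_right.trans (Subgroup.centralizer_le_normalizer _)) inf_le_right)
    obtain ⟨u, hu, c, hc, rfl⟩ := key g (by
      rintro _ ⟨y, hy, rfl⟩
      exact hH ((Subgroup.mem_normalizer_iff.mp hg y).mp hy))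
    have hcN : c ∈ Subgroup.normalizer (H : Set G) := Subgroup.centralizer_le_normalizer _ hc.2
    have hu' : u ∈ Subgroup.normalizer (H : Set G) := by
      have := Subgroup.mul_mem _ hg (Subgroup.inv_mem _ hcN)
      simpa [mul_assoc] using this
    have hc' : u * c * u⁻¹ * u = u * c := by group
    exact Subgroup.mul_mem _ (Subgroup.mem_sup_right ⟨hu, hu'⟩) (Subgroup.mem_sup_left hc)

end Cfsg.Agent.S1460
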