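import Cfsg.Statements.S1462
import Mathlib
import Cfsg.Agent.Lib.OddLocal.PLengthOne
import Cfsg.Agent.Lib.Coprime
import Cfsg.Agent.Lib.CentralizeOmega
import Cfsg.Agent.Lib.ZJ.Center
-- import your own Cfsg.Agent.* helpers here

set_option autoImplicit false
open Cfsg

namespace Cfsg.Agent.S1462

open scoped commutatorElement

/-- Let G be a finite solvable group, p an odd prime with G = O_{p',p,p'}(G), E an elementary abelian p-subgroup contained in no larger elementary abelian p-subgroup of G, and L a subgroup of order coprime to p normalized by E. Then L ≤ O_{p'}(G). -/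
theorem result {G : Type*} [Group G] [Finite G] [Group.IsSolvable G] (p : ℕ) [Fact p.Prime] (hp : p ≠ 2) (hpl : Cfsg.PLengthLE p 1 G) (E L : Subgroup G) (hE : Cfsg.IsElementaryAbelian p E)
    (hEmax : ∀ B : Subgroup G, Cfsg.IsElementaryAbelian p B → E ≤ B → B = E) (hL : (Nat.card L).Coprime p) (hEL : E ≤ Subgroup.normalizer (L : Set G)) :
    L ≤ Cfsg.pPrimeCore p G := by
  set O := Cfsg.pPrimeCore p G with hO
  set π := QuotientGroup.mk' O with hπ
  have hπs : Function.Surjective π := QuotientGroup.mk'_surjective O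
  have hEp : IsPGroup p E := fun e => ⟨1, Subtype.ext (by simpa using hE.2 e e.2)⟩
  set T := Cfsg.pCore p (G ⧸ O) with hT
  have hTp : IsPGroup p T := CfsgLib.isPGroup_pCore p
  have hET : E.map π ≤ T := CfsgLib.PLengthOne.map_le_pCore hpl hEp
  have hLc : (Nat.card (L.map π)).Coprime p := hL.coprime_dvd_left (Subgroup.card_map_dvd _ _)
  have hd : Disjoint (L.map π) T := by
    obtain ⟨k, hk⟩ := IsPGroup.exists_card_eq hTp
    refine Subgroup.disjoint_of_coprime_natCard ?_
    rw [hk]
    exact hLc.pow_right k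
  have hcomm : E.map π ≤ Subgroup.centralizer ((L.map π : Subgroup (G ⧸ O)) : Set (G ⧸ O)) := by
    intro e he l hl
    have h1 : ⁅l, e⁆ ∈ T := by
      rw [commutatorElement_def]
      exact T.mul_mem (Subgroup.Normal.conj_mem inferInstance e (hET he) l) (T.inv_mem (hET he))
    have h2 : ⁅l, e⁆ ∈ L.map π := by
      obtain ⟨l0, hl0, rfl⟩ := hl
      obtain ⟨e0, he0, rfl⟩ := he
      rw [← map_commutatorElement]
      refine Subgroup.mem_map_of_mem π ?_
      rw [commutatorElement_def, mul_assoc, mul_assoc]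
      refine L.mul_mem hl0 ?_
      rw [← mul_assoc]
      exact (Subgroup.mem_normalizer_iff.mp (hEL he0) _).mp (L.inv_mem hl0)
    exact commutatorElement_eq_one_iff_mul_comm.mp (Subgroup.disjoint_def.mp hd h2 h1)
  have hTn : ∀ X : Subgroup (G ⧸ O), X ≤ Subgroup.normalizer (T : Set (G ⧸ O)) := fun X => by
    rw [Subgroup.normalizer_eq_top]; exact le_top
  have hLT : L.map π ≤ Subgroup.centralizer (T : Set (G ⧸ O)) := by
    refine CfsgLib.thompson_PxQ (hEp.map π) hLc hcomm T hTp (hTn _) (hTn _) ?_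
    intro y hy
    obtain ⟨hyT, hyE⟩ := Subgroup.mem_inf.mp hy
    intro l hl
    have hlc : (orderOf l).Coprime p := hLc.coprime_dvd_left ((L.map π).orderOf_dvd_natCard hl)
    have hle : ∀ e ∈ E.map π, l * e = e * l := fun e he => hcomm he l hl
    have key := CfsgLib.centralizes_of_fixes_order_p hp l hlc (T ⊓ Subgroup.centralizer ((E.map π : Subgroup (G ⧸ O)) : Set (G ⧸ O)))
      (hTp.to_le inf_le_left) ?_ ?_ y (Subgroup.mem_inf.mpr ⟨hyT, hyE⟩)
    · rw [mul_inv_eq_iff_eq_mul] at key
      exact key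
    · have hlC : l ∈ Subgroup.centralizer ((E.map π : Subgroup (G ⧸ O)) : Set (G ⧸ O)) :=
        fun e he => (hle e he).symm
      rw [Subgroup.mem_normalizer_iff]
      intro a
      constructor <;> intro ha <;> obtain ⟨ha1, ha2⟩ := Subgroup.mem_inf.mp ha
      · exact Subgroup.mem_inf.mpr ⟨Subgroup.Normal.conj_mem inferInstance a ha1 l,
          mul_mem (mul_mem hlC ha2) (inv_mem hlC)⟩
      · refine Subgroup.mem_inf.mpr ⟨?_, ?_⟩
        · simpa [mul_assoc] using Subgroup.Normal.conj_mem (inferInstance : T.Normal) _ ha1 l⁻¹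
        · simpa [mul_assoc] using mul_mem (mul_mem (inv_mem hlC) ha2) hlC
    · intro x hx hxp
      obtain ⟨hxT, hxE⟩ := Subgroup.mem_inf.mp hx
      obtain ⟨S, hES⟩ := hEp.exists_le_sylow
      obtain ⟨s, hs, rfl⟩ := CfsgLib.pCore_le_sylow (S.mapSurjective hπs) hxT
      have hdS := CfsgLib.PLengthOne.disjoint_core (p := p) S.2
      have hsp : s ^ p = 1 := Subgroup.disjoint_def.mp hdS (pow_mem hs p)
        ((QuotientGroup.eq_one_iff _).mp (by rw [← QuotientGroup.mk'_apply, map_pow]; exact hxp))
      have hsE : ∀ e ∈ E, e * s = s * e := by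
        intro e he
        have h1 : e * s * e⁻¹ * s⁻¹ = 1 := Subgroup.disjoint_def.mp hdS
          (mul_mem (mul_mem (mul_mem (hES he) hs) (inv_mem (hES he))) (inv_mem hs))
          ((QuotientGroup.eq_one_iff _).mp (by
            show π (e * s * e⁻¹ * s⁻¹) = 1
            rw [map_mul, map_mul, map_mul, map_inv, map_inv, hxE _ (Subgroup.mem_map_of_mem π he),
              mul_inv_cancel_right, mul_inv_cancel]))
        rwa [mul_inv_eq_one, mul_inv_eq_iff_eq_mul] at h1
      have hB : Cfsg.IsElementaryAbelian p (Subgroup.closure ((E : Set G) ∪ {s})) := by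
        have hg := CfsgLib.ZJ.isGood_closure (e := p) (S := (E : Set G) ∪ {s}) ?_ ?_
        · exact (CfsgLib.ZJ.isGood_prime_iff p _).mp hg
        · rintro a (ha | rfl) b (hb | rfl)
          · exact congrArg Subtype.val (hE.1.is_comm.comm ⟨a, ha⟩ ⟨b, hb⟩)
          · exact hsE a ha
          · exact (hsE b hb).symm
          · rfl
        · rintro a (ha | rfl)
          · exact hE.2 a ha
          · exact hsp
      have hsmem : s ∈ E := hEmax _ hB (fun e he => Subgroup.subset_closure (Or.inl he)) ▸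
        Subgroup.subset_closure (Or.inr rfl)
      rw [hle _ (Subgroup.mem_map_of_mem π hsmem), mul_inv_cancel_right]
  have hbot : L.map π ≤ ⊥ := by
    rw [← disjoint_iff.mp hd]
    exact le_inf le_rfl (hLT.trans (CfsgLib.centralizer_pCore_le Fact.out (CfsgLib.pPrimeCore_quotient_eq_bot p)))
  intro l hl
  exact (QuotientGroup.eq_one_iff l).mp (Subgroup.mem_bot.mp (hbot (Subgroup.mem_map_of_mem π hl)))

end Cfsg.Agent.S1462
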