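import Cfsg.Statements.S1463
import Mathlib
import Cfsg.Agent.Lib.Dickson.Main
-- import your own Cfsg.Agent.* helpers here

set_option autoImplicit false
open scoped MatrixGroups
open Cfsg

namespace Cfsg.Agent.S1463

variable {F : Type*} [Field F]

private theorem mem_span_of_det {v w : Fin 2 → F} (hv : v ≠ 0) (h : v 0 * w 1 - v 1 * w 0 = 0) : w ∈ Submodule.span F {v} := by
  rw [Submodule.mem_span_singleton]
  by_cases h0 : v 0 = 0
  · have h1 : v 1 ≠ 0 := fun h1 => hv (funext fun i => by fin_cases i <;> assumption)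
    refine ⟨w 1 / v 1, funext fun i => ?_⟩
    fin_cases i
    · have : w 0 = 0 := by
        rw [h0, zero_mul, zero_sub, neg_eq_zero, mul_eq_zero] at h
        exact h.resolve_left h1
      simp [h0, this]
    · simp [h1]
  · refine ⟨w 0 / v 0, funext fun i => ?_⟩
    fin_cases i
    · simp [h0]
    · simp only [Fin.mk_one, Pi.smul_apply, smul_eq_mul]
      field_simp
      linear_combination -h

private theorem eq_one_of_fixes {g : Matrix (Fin 2) (Fin 2) F} {v w : Fin 2 → F} (hv : v ≠ 0)
    (hw : w ∉ Submodule.span F {v}) (hgv : g.mulVec v = v) (hgw : g.mulVec w = w) : g = 1 := by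
  have hd : v 0 * w 1 - v 1 * w 0 ≠ 0 := fun h => hw (mem_span_of_det hv h)
  let M : Matrix (Fin 2) (Fin 2) F := !![v 0, w 0; v 1, w 1]
  have hM : IsUnit M.det := by
    rw [isUnit_iff_ne_zero, Matrix.det_fin_two_of, mul_comm (w 0)]
    exact hd
  have e : g * M = M := by
    have a0 := congrFun hgv 0
    have a1 := congrFun hgv 1
    have b0 := congrFun hgw 0
    have b1 := congrFun hgw 1
    simp [Matrix.mulVec, dotProduct, Fin.sum_univ_two] at a0 a1 b0 b1
    ext i j
    fin_cases i <;> fin_cases j <;> simp [M, Matrix.mul_apply, Fin.sum_univ_two] <;> assumption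
  have := congrArg (· * M⁻¹) e
  simpa [Matrix.mul_assoc, Matrix.mul_nonsing_inv _ hM] using this

/-- Let F be a field of odd characteristic p and H a finite subgroup of odd order of GL(2, F) that leaves no 1-dimensional subspace of F² invariant. Then p does not divide the order of H. -/
theorem result {F : Type*} [Field F] (p : ℕ) [Fact p.Prime] [CharP F p] (hp : p ≠ 2)
    (H : Subgroup (GL (Fin 2) F)) [Finite H] (hodd : Odd (Nat.card H))
    (hirr : ∀ v : Fin 2 → F, v ≠ 0 → ∃ g ∈ H, (g : Matrix (Fin 2) (Fin 2) F).mulVec v ∉ Submodule.span F {v}) :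
    ¬ p ∣ Nat.card H := by
  intro hpd
  obtain ⟨g, hg⟩ := exists_prime_orderOf_dvd_card' (G := H) p hpd
  have hg1 : (g : GL (Fin 2) F) ≠ 1 := fun e => (Fact.out : p.Prime).ne_one (by rw [← hg, ← Subgroup.orderOf_coe, e, orderOf_one])
  have hgp : (g : GL (Fin 2) F) ^ p = 1 := by rw [← hg, ← Subgroup.orderOf_coe, pow_orderOf_eq_one]
  have hdet : ∀ x : GL (Fin 2) F, x ^ p = 1 → (x : Matrix (Fin 2) (Fin 2) F).det = 1 := fun x hx => by
    have h1 : (x : Matrix (Fin 2) (Fin 2) F).det ^ p = 1 := by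
      rw [← Matrix.det_pow, ← Units.val_pow_eq_pow_val, hx, Units.val_one, Matrix.det_one]
    exact sub_eq_zero.mp (pow_eq_zero_iff (Fact.out : p.Prime).ne_zero |>.mp (by rw [sub_pow_char, h1, one_pow, sub_self]))
  let toSL : ∀ x : GL (Fin 2) F, x ^ p = 1 → Matrix.SpecialLinearGroup (Fin 2) F := fun x hx => ⟨x, hdet x hx⟩
  have htr : ∀ (x : GL (Fin 2) F) (hx : x ^ p = 1), (toSL x hx).1.trace = 2 := fun x hx => by
    refine CfsgLib.Dickson.trace_of_pow p (k := 1) (Subtype.ext ?_)
    rw [pow_one, Matrix.SpecialLinearGroup.coe_pow]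
    exact (Units.val_pow_eq_pow_val x p).symm.trans (by rw [hx]; rfl)
  have hdet0 : ((g : GL (Fin 2) F) : Matrix (Fin 2) (Fin 2) F).det = 1 := hdet _ hgp
  have ht0 := htr _ hgp
  rw [Matrix.trace_fin_two] at ht0
  obtain ⟨v, hv, hgv⟩ := Matrix.exists_mulVec_eq_zero_iff.mpr (show (((g : GL (Fin 2) F) : Matrix (Fin 2) (Fin 2) F) - 1).det = 0 by
    rw [Matrix.det_fin_two] at hdet0 ⊢
    simp only [Matrix.sub_apply, Matrix.one_apply_eq, ne_eq, Fin.reduceEq, not_false_eq_true, Matrix.one_apply_ne, sub_zero]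
    change ((g : GL (Fin 2) F) : Matrix (Fin 2) (Fin 2) F) 0 0 + ((g : GL (Fin 2) F) : Matrix (Fin 2) (Fin 2) F) 1 1 = 2 at ht0
    linear_combination hdet0 - ht0)
  rw [Matrix.sub_mulVec, Matrix.one_mulVec, sub_eq_zero] at hgv
  by_cases hcomm : ∀ h ∈ H, (h * g * h⁻¹ : GL (Fin 2) F) * g = g * (h * g * h⁻¹)
  · obtain ⟨h, hh, hhv⟩ := hirr v hv
    set g' : GL (Fin 2) F := h * g * h⁻¹
    have hfix : (g' : Matrix (Fin 2) (Fin 2) F).mulVec v = v := by
      have h1 : ((g : GL (Fin 2) F) : Matrix (Fin 2) (Fin 2) F).mulVec ((g' : Matrix (Fin 2) (Fin 2) F).mulVec v) = (g' : Matrix (Fin 2) (Fin 2) F).mulVec v := by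
        rw [Matrix.mulVec_mulVec, ← Units.val_mul, ← hcomm h hh, Units.val_mul, ← Matrix.mulVec_mulVec, hgv]
      by_cases hw : (g' : Matrix (Fin 2) (Fin 2) F).mulVec v ∈ Submodule.span F {v}
      · obtain ⟨c, hc⟩ := Submodule.mem_span_singleton.mp hw
        have hn : ∀ n : ℕ, ((g' ^ n : GL (Fin 2) F) : Matrix (Fin 2) (Fin 2) F).mulVec v = c ^ n • v := fun n => by
          induction n with
          | zero => simp
          | succ n ih => rw [pow_succ, Units.val_mul, ← Matrix.mulVec_mulVec, ← hc, Matrix.mulVec_smul, ih, smul_smul, ← pow_succ']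
        have hcp : (c - 1) • v = 0 := by
          have := hn p
          rw [conj_pow, hgp, mul_one, mul_inv_cancel, Units.val_one, Matrix.one_mulVec] at this
          have h2 : (c ^ p - 1) • v = 0 := by rw [sub_smul, one_smul, ← this, sub_self]
          have h3 : c ^ p - 1 = 0 := (smul_eq_zero.mp h2).resolve_right hv
          rw [show c - 1 = 0 from pow_eq_zero_iff (Fact.out : p.Prime).ne_zero |>.mp (by rw [sub_pow_char, one_pow, h3]), zero_smul]
        rw [sub_smul, one_smul, sub_eq_zero, hc] at hcp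
        exact hcp
      · exact absurd (Units.ext (eq_one_of_fixes hv hw hgv h1)) hg1
    refine hg1 ?_
    have hfix2 : (g' : Matrix (Fin 2) (Fin 2) F).mulVec ((h : Matrix (Fin 2) (Fin 2) F).mulVec v) = (h : Matrix (Fin 2) (Fin 2) F).mulVec v := by
      rw [Matrix.mulVec_mulVec, ← Units.val_mul, inv_mul_cancel_right, Units.val_mul, ← Matrix.mulVec_mulVec, hgv]
    have := Units.ext (eq_one_of_fixes hv hhv hfix hfix2) (u := g') (v := 1)
    rwa [conj_eq_one_iff] at this
  · push Not at hcomm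
    obtain ⟨h, hh, hne⟩ := hcomm
    have hconj : (h * g * h⁻¹ : GL (Fin 2) F) ^ p = 1 := by rw [conj_pow, hgp, mul_one, mul_inv_cancel]
    let ι : Matrix.SpecialLinearGroup (Fin 2) F →* GL (Fin 2) F := Matrix.SpecialLinearGroup.toGL
    have hι : Function.Injective ι := Matrix.SpecialLinearGroup.toGL_injective
    let G : Subgroup (Matrix.SpecialLinearGroup (Fin 2) F) := H.comap ι
    haveI : Finite G := Finite.of_injective (fun x : G => (⟨ι x, x.2⟩ : H)) fun x y e => Subtype.ext (hι (congrArg Subtype.val e))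
    have e1 : ι (toSL _ hgp) = g := Units.ext rfl
    have e2 : ι (toSL _ hconj) = h * g * h⁻¹ := Units.ext rfl
    obtain ⟨S, hS, ⟨e⟩⟩ := CfsgLib.Dickson.dickson p hp G ⟨toSL _ hconj, by show ι _ ∈ H; rw [e2]; exact H.mul_mem (H.mul_mem hh g.2) (H.inv_mem hh),
      toSL _ hgp, by show ι _ ∈ H; rw [e1]; exact g.2, htr _ hconj, htr _ hgp, fun e' => hne (by have := congrArg ι e'; rwa [map_mul, map_mul, e1, e2] at this)⟩
    let f : Matrix.SpecialLinearGroup (Fin 2) (ZMod p) →* H :=
      ((ι.comp (S.subtype.comp e.symm.toMonoidHom)).codRestrict H fun x => hS (e.symm x).2)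
    have hfi : Function.Injective f := fun x y exy => e.symm.injective (Subtype.ext (hι (congrArg Subtype.val exy)))
    have h2 : 2 ∣ Nat.card H := by
      have ho : orderOf (f (-1)) = 2 := by
        rw [orderOf_injective f hfi]
        refine orderOf_eq_prime (by rw [neg_one_sq]) fun e' => ?_
        have h00 := congrFun (congrFun (congrArg Subtype.val e') 0) 0
        haveI : Fact (2 < p) := ⟨lt_of_le_of_ne (Fact.out : p.Prime).two_le (Ne.symm hp)⟩
        exact ZMod.neg_one_ne_one (by simpa [Matrix.SpecialLinearGroup.coe_neg] using h00)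
      have hd := orderOf_dvd_natCard (f (-1))
      rwa [ho] at hd
    exact Nat.not_even_iff_odd.mpr hodd (even_iff_two_dvd.mpr h2)

end Cfsg.Agent.S1463
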