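import Cfsg.Statements.S1465
import Mathlib
import Cfsg.Agent.Lib.OddLocal.Stable
import Cfsg.Agent.Lib.ZJ.Theorem
import Cfsg.Agent.Lib.ZJ.Center
-- import your own Cfsg.Agent.* helpers here

set_option autoImplicit false
open Cfsg

namespace Cfsg.Agent.S1465

/-- Let p be an odd prime, G a solvable group of odd order, P a normal p-subgroup of G, and X the subgroup generated by a family of abelian p-subgroups of G each normalized by P. Then the image of X in G/C_G(P) lies in O_p(G/C_G(P)); and if O_{p'}(G) = 1 and O_p(G) ∩ C_G(P) ≤ P then X ≤ O_p(G). -/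
theorem result {G : Type*} [Group G] [Finite G] [Group.IsSolvable G] (hodd : Odd (Nat.card G)) (p : ℕ) [Fact p.Prime] (hp : p ≠ 2) (P : Subgroup G) [P.Normal] (hP : IsPGroup p P)
    (S : Set (Subgroup G)) (hS : ∀ B ∈ S, IsMulCommutative B ∧ IsPGroup p B ∧ P ≤ Subgroup.normalizer (B : Set G)) :
    (sSup S).map (QuotientGroup.mk' (Subgroup.centralizer (P : Set G))) ≤ Cfsg.pCore p (G ⧸ Subgroup.centralizer (P : Set G)) ∧
      (Cfsg.pPrimeCore p G = ⊥ → Cfsg.pCore p G ⊓ Subgroup.centralizer (P : Set G) ≤ P → sSup S ≤ Cfsg.pCore p G) := by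
  set C := Subgroup.centralizer (P : Set G) with hC
  have hst := CfsgLib.OddStable.quadStable (G := G) hodd hp
  have key : ∀ B ∈ S, ∀ b ∈ B, QuotientGroup.mk' C b ∈ Cfsg.pCore p (G ⧸ C) := by
    intro B hB b hb
    obtain ⟨hBc, hBp, hPB⟩ := hS B hB
    obtain ⟨k, hk⟩ := hBp ⟨b, hb⟩
    refine hst P hP b ⟨k, by simpa using congrArg Subtype.val hk⟩ ?_
    have h1 : ⁅P, Subgroup.zpowers b⁆ ≤ B := by
      refine (Subgroup.commutator_mono le_rfl (Subgroup.zpowers_le.mpr hb)).trans ?_
      rw [Subgroup.commutator_le]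
      intro x hx y hy
      rw [commutatorElement_def]
      exact B.mul_mem ((Subgroup.mem_normalizer_iff.mp (hPB hx) y).mp hy) (B.inv_mem hy)
    rw [eq_bot_iff, Subgroup.commutator_le]
    intro x hx y hy
    rw [Subgroup.mem_bot, commutatorElement_eq_one_iff_mul_comm]
    exact congrArg Subtype.val ((IsMulCommutative.is_comm (M := B)).comm ⟨x, h1 hx⟩ ⟨y, Subgroup.zpowers_le.mpr hb hy⟩)
  refine ⟨Subgroup.map_le_iff_le_comap.mpr (sSup_le fun B hB b hb => key B hB b hb), fun hO hCP => ?_⟩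
  haveI : C.Normal := Subgroup.normal_centralizer
  have hC0 : Cfsg.pPrimeCore p C = ⊥ := by
    haveI : ((Cfsg.pPrimeCore p C).map C.subtype).Normal := inferInstance
    have h1 := CfsgLib.le_pPrimeCore (N := (Cfsg.pPrimeCore p C).map C.subtype) (p := p) (by
      rw [Subgroup.card_map_of_injective C.subtype_injective]
      exact CfsgLib.card_pPrimeCore_coprime p)
    rw [hO, le_bot_iff, Subgroup.map_eq_bot_iff_of_injective _ C.subtype_injective] at h1
    exact h1
  have hCC : Cfsg.pCore p C = ⊤ := by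
    rw [eq_top_iff]
    refine le_trans ?_ (CfsgLib.centralizer_pCore_le (G := C) Fact.out hC0)
    intro c _ d hd
    haveI : ((Cfsg.pCore p C).map C.subtype).Normal := inferInstance
    have hdG : (d : G) ∈ Cfsg.pCore p G :=
      CfsgLib.le_pCore (N := (Cfsg.pCore p C).map C.subtype) ((CfsgLib.isPGroup_pCore p).map _) ⟨d, hd, rfl⟩
    have hdP : (d : G) ∈ P := hCP (Subgroup.mem_inf.mpr ⟨hdG, d.2⟩)
    exact Subtype.ext (c.2 _ hdP)
  have hCp : IsPGroup p C := by
    intro c
    obtain ⟨k, hk⟩ := CfsgLib.isPGroup_pCore (G := C) p ⟨c, by rw [hCC]; trivial⟩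
    exact ⟨k, congrArg Subtype.val hk⟩
  refine sSup_le fun B hB b hb => ?_
  exact CfsgLib.le_pCore (N := (Cfsg.pCore p (G ⧸ C)).comap (QuotientGroup.mk' C))
    ((CfsgLib.isPGroup_pCore (G := G ⧸ C) p).comap_of_ker_isPGroup _ (by rw [QuotientGroup.ker_mk']; exact hCp))
    (key B hB b hb)

end Cfsg.Agent.S1465
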