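import Cfsg.Statements.S1470
import Mathlib
-- import your own Cfsg.Agent.* helpers here

set_option autoImplicit false
open Cfsg

namespace Cfsg.Agent.S1470

open scoped Classical in
/-- `N (1 + t u) = 1` for all scalars `t` forces a degree bound. -/
private theorem le_of_norm_one {p q : ℕ} [Fact p.Prime] [Fact q.Prime] {u : GaloisField p q} (hu : u ≠ 0)
    (h : ∀ k : ℕ, Algebra.norm (ZMod p) (1 + (k : GaloisField p q) * u) = 1) : p ≤ q := by
  by_contra hlt
  rw [not_le] at hlt
  let P : Polynomial (GaloisField p q) :=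
    (∏ i ∈ Finset.range q, (Polynomial.C (u ^ (p ^ i)) * Polynomial.X + Polynomial.C 1)) - 1
  have hfac : ∀ i, (Polynomial.C (u ^ (p ^ i)) * Polynomial.X + Polynomial.C 1).natDegree ≤ 1 := fun i => by
    rw [Polynomial.natDegree_linear (pow_ne_zero _ hu)]
  have hdeg : P.natDegree ≤ q := by
    refine (Polynomial.natDegree_sub_le _ _).trans ?_
    rw [Polynomial.natDegree_one, Nat.max_le]
    refine ⟨(Polynomial.natDegree_prod_le _ _).trans ?_, Nat.zero_le _⟩
    exact (Finset.sum_le_sum fun i _ => hfac i).trans (by simp)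
  have hroot : ∀ k : ℕ, P.eval (k : GaloisField p q) = 0 := fun k => by
    have e := congrArg (algebraMap (ZMod p) (GaloisField p q)) (h k)
    rw [FiniteField.algebraMap_norm_eq_prod_pow, GaloisField.finrank p (Fact.out : q.Prime).ne_zero, map_one,
      Nat.card_zmod] at e
    simp only [P, Polynomial.eval_sub, Polynomial.eval_prod, Polynomial.eval_add, Polynomial.eval_mul,
      Polynomial.eval_C, Polynomial.eval_X, Polynomial.eval_one]
    rw [sub_eq_zero]
    refine Eq.trans (Finset.prod_congr rfl fun i _ => ?_) e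
    rw [add_pow_char_pow, one_pow, mul_pow, add_comm, mul_comm]
    congr 2
    symm
    have hk : ((k : ZMod p) ^ (p ^ i)) = (k : ZMod p) := ZMod.pow_card_pow _
    have := congrArg (algebraMap (ZMod p) (GaloisField p q)) hk
    rw [map_pow, map_natCast] at this
    exact this
  have hP : P = 0 := by
    refine Polynomial.eq_zero_of_natDegree_lt_card_of_eval_eq_zero P (f := fun t : ZMod p => algebraMap (ZMod p) (GaloisField p q) t)
      (algebraMap (ZMod p) (GaloisField p q)).injective (fun t => ?_) ?_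
    · rw [← ZMod.natCast_zmod_val t, map_natCast]; exact hroot _
    · rw [ZMod.card]; omega
  have hprod : ∀ (s : Finset ℕ), (∏ i ∈ s, (Polynomial.C (u ^ (p ^ i)) * Polynomial.X + Polynomial.C 1)).natDegree = s.card := fun s => by
    rw [Polynomial.natDegree_prod _ _ fun i _ => Polynomial.ne_zero_of_natDegree_gt (n := 0) (by rw [Polynomial.natDegree_linear (pow_ne_zero _ hu)]; exact one_pos),
      Finset.sum_congr rfl fun i _ => Polynomial.natDegree_linear (b := (1 : GaloisField p q)) (pow_ne_zero (p ^ i) hu), Finset.sum_const, smul_eq_mul, mul_one]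
  have e : (∏ i ∈ Finset.range q, (Polynomial.C (u ^ (p ^ i)) * Polynomial.X + Polynomial.C 1)) = 1 := sub_eq_zero.mp hP
  have := congrArg Polynomial.natDegree e
  rw [hprod, Finset.card_range, Polynomial.natDegree_one] at this
  exact (Fact.out : q.Prime).ne_zero this

/-- Let p and q be odd primes with (p^q − 1)/(p − 1) coprime to p − 1, and let E be the set of elements a of the field with p ^ q elements whose norm to the prime field is 1 and for which 2 − a also has norm 1. If a⁻¹ ∈ E for every a ∈ E and E has at least two elements, then p ≤ q. -/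
theorem result (p q : ℕ) [Fact p.Prime] [Fact q.Prime] (hp : p ≠ 2) (hq : q ≠ 2) (hA : Nat.Coprime ((p ^ q - 1) / (p - 1)) (p - 1))
    (hinv : ∀ a ∈ {a : GaloisField p q | Algebra.norm (ZMod p) a = 1 ∧ Algebra.norm (ZMod p) (2 - a) = 1}, a⁻¹ ∈ {a : GaloisField p q | Algebra.norm (ZMod p) a = 1 ∧ Algebra.norm (ZMod p) (2 - a) = 1})
    (h2 : 2 ≤ Set.ncard {a : GaloisField p q | Algebra.norm (ZMod p) a = 1 ∧ Algebra.norm (ZMod p) (2 - a) = 1}) :
    p ≤ q := by
  obtain ⟨a, ⟨ha1, ha2⟩, hne⟩ := Set.exists_ne_of_one_lt_ncard (s := {a : GaloisField p q | Algebra.norm (ZMod p) a = 1 ∧ Algebra.norm (ZMod p) (2 - a) = 1}) (by omega) (1 : GaloisField p q)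
  set u := 1 - a with hu
  refine le_of_norm_one (sub_ne_zero.mpr hne.symm) fun k => ?_
  let D : ℕ → GaloisField p q := fun k => 1 + (k : GaloisField p q) * u
  suffices H : ∀ k, Algebra.norm (ZMod p) (D k) = 1 ∧ D (k + 1) / D k ∈ {a : GaloisField p q | Algebra.norm (ZMod p) a = 1 ∧ Algebra.norm (ZMod p) (2 - a) = 1} from (H k).1
  have hnz : ∀ x : GaloisField p q, Algebra.norm (ZMod p) x = 1 → x ≠ 0 := fun x hx e => by
    rw [e, Algebra.norm_zero] at hx; exact zero_ne_one hx
  intro k
  induction k with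
  | zero =>
    have h0 : D 0 = 1 := by simp [D]
    have h1 : D (0 + 1) = 2 - a := by simp [D, hu]; ring
    refine ⟨by rw [h0, map_one], ?_⟩
    rw [h0, h1, div_one]
    exact ⟨ha2, by rw [sub_sub_cancel]; exact ha1⟩
  | succ k ih =>
    obtain ⟨hk, hb⟩ := ih
    have hk1 : Algebra.norm (ZMod p) (D (k + 1)) = 1 := by
      have := hb.1
      have e : D (k + 1) = D (k + 1) / D k * D k := (div_mul_cancel₀ _ (hnz _ hk)).symm
      rw [e, map_mul, hb.1, hk, mul_one]
    refine ⟨hk1, ?_⟩
    have hi := hinv _ hb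
    have e : D (k + 1 + 1) / D (k + 1) = 2 - (D (k + 1) / D k)⁻¹ := by
      rw [inv_div, eq_sub_iff_add_eq, ← add_div, div_eq_iff (hnz _ hk1)]
      simp only [D]
      push_cast
      ring
    rw [e]
    exact ⟨hi.2, by rw [sub_sub_cancel]; exact hi.1⟩

end Cfsg.Agent.S1470
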