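import Cfsg.Statements.S1471
import Mathlib
-- import your own Cfsg.Agent.* helpers here

set_option autoImplicit false
open Cfsg

namespace Cfsg.Agent.S1471

open scoped ComplexConjugate
open Finset

/-- The Fourier bound for the number of ways of writing `c` as a sum of two elements of a multiplicative subgroup. -/
private theorem sum_two_bound {F : Type*} [Field F] [Fintype F] [DecidableEq F] (ψ : AddChar F ℂ) (hψ : ψ.IsPrimitive)
    (U : Finset F) (h0 : ∀ u ∈ U, u ≠ 0) (hne : U.Nonempty) (hmul : ∀ a ∈ U, ∀ b ∈ U, a * b ∈ U) (c : F) (hc : c ≠ 0) :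
    (((U.filter fun u => c - u ∈ U).card : ℝ) * Fintype.card F - (U.card : ℝ) ^ 2) ^ 2 ≤ (Fintype.card F : ℝ) ^ 3 := by
  classical
  let S : F → ℂ := fun a => ∑ u ∈ U, ψ (a * u)
  set Q : ℝ := (Fintype.card F : ℝ) with hQ
  set n : ℝ := (U.card : ℝ) with hn
  have hnpos : 0 < n := by rw [hn]; exact_mod_cast Finset.card_pos.mpr hne
  have himg : ∀ v ∈ U, U.image (fun u => v * u) = U := fun v hv => Finset.eq_of_subset_of_card_le
    (Finset.image_subset_iff.mpr fun u hu => hmul v hv u hu)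
    (by rw [Finset.card_image_of_injective _ (mul_right_injective₀ (h0 v hv))])
  have hinv : ∀ v ∈ U, ∀ a : F, S (a * v) = S a := fun v hv a => by
    show ∑ u ∈ U, ψ (a * v * u) = ∑ u ∈ U, ψ (a * u)
    conv_rhs => rw [← himg v hv, Finset.sum_image fun x _ y _ h => mul_right_injective₀ (h0 v hv) h]
    exact Finset.sum_congr rfl fun u _ => by rw [mul_assoc]
  -- Parseval
  have hpar : ∑ a : F, (‖S a‖ ^ 2 : ℝ) = Q * n := by
    have h : ∑ a : F, S a * conj (S a) = ((Q * n : ℝ) : ℂ) := by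
      have e : ∀ a : F, S a * conj (S a) = ∑ u ∈ U, ∑ v ∈ U, ψ (a * (u - v)) := fun a => by
        simp only [S, map_sum, Finset.sum_mul, Finset.mul_sum]
        rw [Finset.sum_comm]
        refine Finset.sum_congr rfl fun u _ => Finset.sum_congr rfl fun v _ => ?_
        rw [← AddChar.map_neg_eq_conj, ← AddChar.map_add_eq_mul, mul_sub, sub_eq_add_neg]
      simp only [e]
      rw [Finset.sum_comm, Finset.sum_congr rfl fun u _ => Finset.sum_comm]
      simp only [AddChar.sum_mulShift _ hψ, sub_eq_zero, apply_ite (Nat.cast : ℕ → ℂ), Nat.cast_zero, Finset.sum_ite_eq, Finset.sum_ite_mem, Finset.inter_self, Finset.sum_const, nsmul_eq_mul]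
      simp [hQ, hn, mul_comm]
    apply Complex.ofReal_injective
    rw [← h, Complex.ofReal_sum]
    exact Finset.sum_congr rfl fun a _ => by rw [Complex.mul_conj', Complex.ofReal_pow]
  -- the bound on one value
  have hb : ∀ a : F, a ≠ 0 → ‖S a‖ ^ 2 ≤ Q := fun a ha => by
    have h1 : ∑ v ∈ U, ‖S (a * v)‖ ^ 2 ≤ ∑ x : F, ‖S x‖ ^ 2 := by
      rw [← Finset.sum_image (f := fun x => ‖S x‖ ^ 2) fun x _ y _ h => mul_right_injective₀ ha h]
      exact Finset.sum_le_univ_sum_of_nonneg fun x => sq_nonneg _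
    rw [hpar, Finset.sum_congr rfl fun v hv => by rw [hinv v hv a], Finset.sum_const, nsmul_eq_mul, ← hn] at h1
    nlinarith
  -- counting
  set N : ℝ := ((U.filter fun u => c - u ∈ U).card : ℝ) with hN
  have hcount : ∑ a : F, S a * S a * ψ (-(c * a)) = ((N * Q : ℝ) : ℂ) := by
    have e : ∀ a : F, S a * S a * ψ (-(c * a)) = ∑ u ∈ U, ∑ v ∈ U, ψ (a * (u + v - c)) := fun a => by
      simp only [S, Finset.sum_mul, Finset.mul_sum]
      rw [Finset.sum_comm]
      refine Finset.sum_congr rfl fun u _ => Finset.sum_congr rfl fun v _ => ?_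
      rw [← AddChar.map_add_eq_mul, ← AddChar.map_add_eq_mul]
      congr 1
      ring
    simp only [e]
    rw [Finset.sum_comm, Finset.sum_congr rfl fun u _ => Finset.sum_comm]
    simp only [AddChar.sum_mulShift _ hψ, sub_eq_zero, fun u v : F => show (u + v = c) ↔ (v = c - u) from eq_sub_iff_add_eq'.symm,
      apply_ite (Nat.cast : ℕ → ℂ), Nat.cast_zero, Finset.sum_ite_eq']
    rw [← Finset.sum_filter, Finset.sum_const, nsmul_eq_mul]
    simp [hN, hQ]
  have hS0 : S 0 = (n : ℂ) := by simp [S, hn]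
  set T := ∑ a ∈ Finset.univ.erase (0 : F), S a * S a * ψ (-(c * a)) with hT
  have hT1 : ((N * Q - n ^ 2 : ℝ) : ℂ) = T := by
    rw [Complex.ofReal_sub, ← hcount, ← Finset.add_sum_erase _ _ (Finset.mem_univ (0 : F)), hS0, mul_zero, neg_zero, AddChar.map_zero_eq_one]
    push_cast
    ring
  have hT2 : (n : ℂ) * T = ∑ a ∈ Finset.univ.erase (0 : F), S a * S a * S (-(c * a)) := by
    have hv : ∀ v ∈ U, T = ∑ a ∈ Finset.univ.erase (0 : F), S a * S a * ψ (-(c * a) * v) := fun v hv => by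
      refine (Finset.sum_bij' (fun a _ => a * v) (fun a _ => a * v⁻¹) ?_ ?_ ?_ ?_ ?_).symm
      · intro a ha; simp [h0 v hv, Finset.ne_of_mem_erase ha]
      · intro a ha; simp [h0 v hv, Finset.ne_of_mem_erase ha]
      · intro a _; simp [h0 v hv]
      · intro a _; simp [h0 v hv]
      · intro a _; rw [hinv v hv a]; congr 2; ring
    have h1 : ∑ v ∈ U, T = ∑ v ∈ U, ∑ a ∈ Finset.univ.erase (0 : F), S a * S a * ψ (-(c * a) * v) := Finset.sum_congr rfl hv
    rw [Finset.sum_const, nsmul_eq_mul, Finset.sum_comm] at h1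
    rw [hn, Complex.ofReal_natCast, h1]
    exact Finset.sum_congr rfl fun a _ => (Finset.mul_sum _ _ _).symm
  have hT3 : n * |N * Q - n ^ 2| ≤ Real.sqrt Q * (Q * n) := by
    have h1 : n * |N * Q - n ^ 2| = ‖∑ a ∈ Finset.univ.erase (0 : F), S a * S a * S (-(c * a))‖ := by
      rw [← hT2, ← hT1, norm_mul, Complex.norm_real, Complex.norm_real, Real.norm_eq_abs, Real.norm_eq_abs, abs_of_pos hnpos]
    rw [h1, ← hpar, Finset.mul_sum]
    refine (norm_sum_le _ _).trans (le_trans (Finset.sum_le_sum fun a ha => ?_) (Finset.sum_le_sum_of_subset_of_nonneg (Finset.erase_subset _ _) fun a _ _ => by positivity))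
    rw [norm_mul, norm_mul, mul_comm, sq]
    refine mul_le_mul_of_nonneg_right ?_ (by positivity)
    rw [← Real.sqrt_sq (norm_nonneg (S (-(c * a))))]
    exact Real.sqrt_le_sqrt (hb _ (neg_ne_zero.mpr (mul_ne_zero hc (Finset.ne_of_mem_erase ha))))
  have hT4 : |N * Q - n ^ 2| ≤ Real.sqrt Q * Q := by
    refine le_of_mul_le_mul_left (hT3.trans (le_of_eq ?_)) hnpos
    ring
  have hQ0 : 0 ≤ Q := Nat.cast_nonneg _
  calc (N * Q - n ^ 2) ^ 2 = |N * Q - n ^ 2| ^ 2 := (sq_abs _).symm
    _ ≤ (Real.sqrt Q * Q) ^ 2 := pow_le_pow_left₀ (abs_nonneg _) hT4 2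
    _ = Q ^ 3 := by rw [mul_pow, Real.sq_sqrt hQ0]; ring

/-- The cubic case. -/
private theorem cubic_case (p : ℕ) [Fact p.Prime] (hp : p ≠ 2) :
    2 ≤ Set.ncard {a : GaloisField p 3 | Algebra.norm (ZMod p) a = 1 ∧ Algebra.norm (ZMod p) (2 - a) = 1} := by
  classical
  open Polynomial in
  let f : ZMod p → (ZMod p)[X] := fun a => X ^ 3 + C a * X ^ 2 + C (-(3 + 2 * a)) * X + C (-1)
  have h2 : (2 : ZMod p) ≠ 0 := Ring.two_ne_zero (by rwa [ZMod.ringChar_zmod_n])
  let bad : Finset (ZMod p) := ((Finset.univ.erase 0).erase 2).image fun t => -((t ^ 3 - 3 * t - 1) / (t ^ 2 - 2 * t))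
  have hbad : ∀ a, a ∉ bad → ∀ t : ZMod p, ¬ (f a).IsRoot t := by
    intro a ha t ht
    simp only [f, Polynomial.IsRoot.def, Polynomial.eval_add, Polynomial.eval_mul, Polynomial.eval_pow, Polynomial.eval_C, Polynomial.eval_X] at ht
    have t0 : t ≠ 0 := by rintro rfl; simp at ht
    have t2 : t ≠ 2 := by rintro rfl; ring_nf at ht; exact one_ne_zero ht
    refine ha (Finset.mem_image.mpr ⟨t, Finset.mem_erase.mpr ⟨t2, Finset.mem_erase.mpr ⟨t0, Finset.mem_univ _⟩⟩, ?_⟩)
    have hd : t ^ 2 - 2 * t ≠ 0 := by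
      rw [show t ^ 2 - 2 * t = t * (t - 2) by ring]
      exact mul_ne_zero t0 (sub_ne_zero.mpr t2)
    rw [neg_eq_iff_eq_neg, div_eq_iff hd]
    linear_combination ht
  have hcard : bad.card + 2 ≤ p := by
    have h1 : bad.card ≤ ((Finset.univ.erase (0 : ZMod p)).erase 2).card := Finset.card_image_le
    rw [Finset.card_erase_of_mem (Finset.mem_erase.mpr ⟨h2, Finset.mem_univ _⟩), Finset.card_erase_of_mem (Finset.mem_univ _), Finset.card_univ, ZMod.card] at h1
    have := (Fact.out : p.Prime).two_le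
    omega
  obtain ⟨a, ha, b, hb, hab⟩ := Finset.one_lt_card.mp (show 1 < (Finset.univ \ bad).card by
    rw [Finset.card_univ_sdiff, ZMod.card]; omega)
  have key : ∀ a, a ∉ bad → ∃ θ : GaloisField p 3, (Algebra.norm (ZMod p) θ = 1 ∧ Algebra.norm (ZMod p) (2 - θ) = 1) ∧ minpoly (ZMod p) θ = f a := by
    intro a ha
    have hdeg : (f a).natDegree = 3 := by simp only [f]; compute_degree!
    have hm : (f a).Monic := by simp only [f]; monicity!
    have hirr : Irreducible (f a) := Polynomial.irreducible_of_degree_le_three_of_not_isRoot (by rw [hdeg]; decide) (hbad a ha)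
    haveI := Fact.mk hirr
    haveI : Module.Finite (ZMod p) (AdjoinRoot (f a)) := hm.finite_adjoinRoot
    haveI : Finite (AdjoinRoot (f a)) := Module.finite_of_finite (ZMod p)
    have hfr : Module.finrank (ZMod p) (AdjoinRoot (f a)) = 3 := by
      rw [(AdjoinRoot.powerBasis hirr.ne_zero).finrank, AdjoinRoot.powerBasis_dim, hdeg]
    have hc : Nat.card (AdjoinRoot (f a)) = p ^ 3 := by
      rw [Module.natCard_eq_pow_finrank (K := ZMod p), hfr, Nat.card_zmod]
    let e := GaloisField.algEquivGaloisField p 3 hc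
    let r := AdjoinRoot.root (f a)
    have hmin : minpoly (ZMod p) r = f a := by
      rw [AdjoinRoot.minpoly_root hirr.ne_zero, hm.leadingCoeff, inv_one, Polynomial.C_1, mul_one]
    let pb := AdjoinRoot.powerBasis hirr.ne_zero
    have hN : ∀ t : ZMod p, Algebra.norm (ZMod p) (algebraMap (ZMod p) (GaloisField p 3) t - e r) = (f a).eval t := by
      intro t
      rw [← AlgEquiv.commutes e t, ← map_sub, Algebra.norm_eq_of_algEquiv e, Algebra.norm_eq_matrix_det pb.basis, map_sub, AlgHom.commutes,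
        Matrix.algebraMap_eq_diagonal]
      have h1 : (Algebra.leftMulMatrix pb.basis) pb.gen = (Algebra.leftMulMatrix pb.basis) r := rfl
      have h2 := congrArg (Polynomial.eval t) (charpoly_leftMulMatrix pb)
      rw [Matrix.eval_charpoly, h1, show minpoly (ZMod p) pb.gen = minpoly (ZMod p) r from rfl, hmin] at h2
      rw [← h2]
      rfl
    refine ⟨e r, ⟨?_, ?_⟩, by rw [minpoly.algEquiv_eq, hmin]⟩
    · have h0 := hN 0
      rw [map_zero, zero_sub] at h0
      have hfr' : Module.finrank (ZMod p) (GaloisField p 3) = 3 := GaloisField.finrank p (by norm_num)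
      have e1 : -(e r) = algebraMap (ZMod p) (GaloisField p 3) (-1) * e r := by rw [map_neg, map_one, neg_one_mul]
      rw [e1, map_mul, Algebra.norm_algebraMap, hfr'] at h0
      simp only [f, Polynomial.eval_add, Polynomial.eval_mul, Polynomial.eval_pow, Polynomial.eval_C, Polynomial.eval_X] at h0
      linear_combination -h0
    · have h2' := hN 2
      rw [map_ofNat] at h2'
      rw [h2']
      simp only [f, Polynomial.eval_add, Polynomial.eval_mul, Polynomial.eval_pow, Polynomial.eval_C, Polynomial.eval_X]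
      ring
  obtain ⟨x, hx, hxm⟩ := key a (Finset.mem_sdiff.mp ha).2
  obtain ⟨y, hy, hym⟩ := key b (Finset.mem_sdiff.mp hb).2
  refine (Set.one_lt_ncard_iff (Set.toFinite _)).mpr ⟨x, y, hx, hy, fun e => hab ?_⟩
  have := congrArg (fun g => Polynomial.coeff g 2) (hxm.symm.trans (e ▸ hym))
  simpa [f, Polynomial.coeff_X_pow] using this

/-- The large case. -/
private theorem large_case (p q : ℕ) [Fact p.Prime] [Fact q.Prime] (hp : p ≠ 2) (hq : 5 ≤ q) :
    2 ≤ Set.ncard {a : GaloisField p q | Algebra.norm (ZMod p) a = 1 ∧ Algebra.norm (ZMod p) (2 - a) = 1} := by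
  classical
  haveI : Fintype (GaloisField p q) := Fintype.ofFinite _
  have hQ : Fintype.card (GaloisField p q) = p ^ q := by rw [← Nat.card_eq_fintype_card, GaloisField.card p q (by omega)]
  let ψ : AddChar (GaloisField p q) ℂ := ZMod.stdAddChar.compAddMonoidHom (Algebra.trace (ZMod p) (GaloisField p q)).toAddMonoidHom
  have hψ : ψ.IsPrimitive := by
    refine AddChar.IsPrimitive.of_ne_one (AddChar.ne_one_iff.mpr ?_)
    obtain ⟨a, ha⟩ := Algebra.trace_surjective (ZMod p) (GaloisField p q) 1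
    refine ⟨a, fun e => one_ne_zero (α := ZMod p) (ha.symm.trans (ZMod.injective_stdAddChar ?_))⟩
    rw [AddChar.map_zero_eq_one]
    exact e
  let U : Finset (GaloisField p q) := Finset.univ.filter fun a => Algebra.norm (ZMod p) a = 1
  have h0 : ∀ u ∈ U, u ≠ 0 := fun u hu e => by
    rw [Finset.mem_filter, e, Algebra.norm_zero] at hu; exact zero_ne_one hu.2
  have hmul : ∀ a ∈ U, ∀ b ∈ U, a * b ∈ U := fun a ha b hb => by
    rw [Finset.mem_filter] at ha hb ⊢; exact ⟨Finset.mem_univ _, by rw [map_mul, ha.2, hb.2, one_mul]⟩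
  have hcard : p ^ (q - 1) ≤ U.card := by
    let ν : (GaloisField p q)ˣ →* (ZMod p)ˣ := Units.map (Algebra.norm (ZMod p))
    have h1 : Nat.card ν.ker * (p - 1) = p ^ q - 1 := by
      have := Subgroup.card_mul_index ν.ker
      rwa [Subgroup.index_ker, MonoidHom.range_eq_top.mpr (FiniteField.unitsMap_norm_surjective _ _), Subgroup.card_top, Nat.card_units,
        Nat.card_units, Nat.card_zmod, GaloisField.card p q (by omega)] at this
    have h2 : Nat.card ν.ker ≤ U.card := by
      rw [← Nat.card_eq_finsetCard]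
      refine Nat.card_le_card_of_injective (fun x : ν.ker => (⟨((x : (GaloisField p q)ˣ) : GaloisField p q), Finset.mem_filter.mpr ⟨Finset.mem_univ _, congrArg Units.val (x.2 : ν _ = 1)⟩⟩ : U)) fun x y h => ?_
      exact Subtype.ext (Units.ext (congrArg Subtype.val h))
    have h3 : p ^ q = p ^ (q - 1) * p := by rw [← pow_succ]; congr 1; omega
    have hp2 := (Fact.out : p.Prime).two_le
    have hpos : 1 ≤ p ^ (q - 1) := Nat.one_le_pow _ _ (by omega)
    refine le_trans ?_ h2
    refine Nat.le_of_mul_le_mul_right (?_ : p ^ (q - 1) * (p - 1) ≤ Nat.card ν.ker * (p - 1)) (by omega)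
    rw [h1, h3, Nat.mul_sub, mul_one]
    omega
  have hc2 : (2 : GaloisField p q) ≠ 0 := Ring.two_ne_zero (by rwa [ringChar.eq (GaloisField p q) p])
  have hb := sum_two_bound ψ hψ U h0 ⟨1, Finset.mem_filter.mpr ⟨Finset.mem_univ _, map_one _⟩⟩ hmul 2 hc2
  by_contra hlt
  rw [not_le] at hlt
  have hN : (U.filter fun u => 2 - u ∈ U).card ≤ 1 := by
    refine le_trans (le_of_eq ?_) (Nat.lt_succ_iff.mp hlt)
    rw [← Set.ncard_coe_finset]
    congr 1
    ext a
    simp [U]
  rw [hQ] at hb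
  set N := (U.filter fun u => 2 - u ∈ U).card
  set R : ℝ := (p : ℝ) ^ (q - 2) with hR
  have hp3 : (3 : ℝ) ≤ p := by
    have := (Fact.out : p.Prime).two_le
    exact_mod_cast (show 3 ≤ p by omega)
  have hR3 : (p : ℝ) ^ 3 ≤ R := pow_le_pow_right₀ (by linarith) (by omega)
  have hQR : ((p ^ q : ℕ) : ℝ) = (p : ℝ) ^ 2 * R := by rw [hR, ← pow_add, Nat.cast_pow]; congr 1; omega
  have hn : ((p : ℝ) * R) ≤ (U.card : ℝ) := by
    rw [hR, ← pow_succ']
    calc (p : ℝ) ^ (q - 2 + 1) = ((p ^ (q - 1) : ℕ) : ℝ) := by rw [Nat.cast_pow]; congr 1; omega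
      _ ≤ _ := by exact_mod_cast hcard
  rw [hQR] at hb
  have hN' : (N : ℝ) ≤ 1 := by exact_mod_cast hN
  set P : ℝ := (p : ℝ)
  have hP : 0 < P := by linarith
  have hRpos : 0 < R := lt_of_lt_of_le (by positivity) hR3
  have h1 : (P * R) ^ 2 - P ^ 2 * R ≤ (U.card : ℝ) ^ 2 - (N : ℝ) * (P ^ 2 * R) := by
    have := pow_le_pow_left₀ (by positivity) hn 2
    nlinarith [mul_le_mul_of_nonneg_right hN' (by positivity : (0 : ℝ) ≤ P ^ 2 * R)]
  have hR1 : 1 ≤ R := le_trans (one_le_pow₀ (by linarith)) hR3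
  have h0' : 0 ≤ (P * R) ^ 2 - P ^ 2 * R := by nlinarith [mul_nonneg (by positivity : (0 : ℝ) ≤ P ^ 2 * R) (sub_nonneg.mpr hR1)]
  have h2 : ((P * R) ^ 2 - P ^ 2 * R) ^ 2 ≤ (P ^ 2 * R) ^ 3 := by
    refine le_trans ?_ hb
    rw [← neg_sq ((N : ℝ) * (P ^ 2 * R) - _), neg_sub]
    exact pow_le_pow_left₀ h0' h1 2
  have h3 : (R - 1) ^ 2 ≤ P ^ 2 * R := by
    have e1 : ((P * R) ^ 2 - P ^ 2 * R) ^ 2 = (P ^ 4 * R ^ 2) * (R - 1) ^ 2 := by ring
    have e2 : (P ^ 2 * R) ^ 3 = (P ^ 4 * R ^ 2) * (P ^ 2 * R) := by ring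
    rw [e1, e2] at h2
    exact le_of_mul_le_mul_left h2 (by positivity)
  have h5 : 0 < R - 2 - P ^ 2 := by nlinarith [mul_le_mul_of_nonneg_right hp3 (sq_nonneg P)]
  nlinarith [mul_pos hRpos h5]

/-- Let p and q be odd primes with (p^q − 1)/(p − 1) coprime to p − 1. Then there are at least two elements a of the field with p ^ q elements such that both a and 2 − a have norm 1 to the prime field. -/
theorem result (p q : ℕ) [Fact p.Prime] [Fact q.Prime] (hp : p ≠ 2) (hq : q ≠ 2) (hA : Nat.Coprime ((p ^ q - 1) / (p - 1)) (p - 1)) :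
    2 ≤ Set.ncard {a : GaloisField p q | Algebra.norm (ZMod p) a = 1 ∧ Algebra.norm (ZMod p) (2 - a) = 1} := by
  rcases Nat.lt_or_ge q 5 with h | h
  · have := (Fact.out : q.Prime).two_le
    interval_cases q
    · exact absurd rfl hq
    · exact cubic_case p hp
    · exact absurd (Fact.out : Nat.Prime 4) (by norm_num)
  · exact large_case p q hp h

end Cfsg.Agent.S1471
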