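import Cfsg.Statements.S1474
import Mathlib
import Cfsg.Agent.Lib.Solvable.CN
import Cfsg.Agent.Lib.OddLocal.FittingHall
-- import your own Cfsg.Agent.* helpers here

set_option autoImplicit false
open Cfsg

namespace Cfsg.Agent.S1474

open Subgroup in
open scoped Pointwise in
private theorem fpf_cn {G : Type*} [Group G] [Finite G] (hG : Cfsg.IsCNGroup G) (K : Subgroup G) [K.Normal]
    (hK : K = Cfsg.fittingSubgroup G) (hKn : Group.IsNilpotent K) (hK1 : K ≠ ⊥) (E : Subgroup G)
    (hd : Disjoint K E) (hco : (Nat.card E).Coprime (Nat.card K)) :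
    ∀ e ∈ E, e ≠ 1 → K ⊓ centralizer ({e} : Set G) = ⊥ := by
  intro e heE he
  rw [Subgroup.eq_bot_iff_forall]
  intro h hh
  obtain ⟨hhK, hhe⟩ := Subgroup.mem_inf.mp hh
  rw [mem_centralizer_singleton_iff] at hhe
  by_contra hh1
  obtain ⟨q, hq, hqd⟩ := Nat.exists_prime_and_dvd (mt orderOf_eq_one_iff.mp he)
  set e' := e ^ (orderOf e / q) with he'
  have he'o : orderOf e' = q := orderOf_pow_orderOf_div (orderOf_pos e).ne' hqd
  have he'E : e' ∈ E := E.pow_mem heE _
  have he'h : e' * h = h * e' := (Commute.pow_left (show Commute e h from hhe.symm) _).eq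
  have hcop : ∀ v ∈ K, (orderOf e').Coprime (orderOf v) := fun v hv =>
    (hco.coprime_dvd_left (E.orderOf_dvd_natCard he'E)).coprime_dvd_right (K.orderOf_dvd_natCard hv)
  have : Nontrivial K := (nontrivial_iff_ne_bot K).mpr hK1
  haveI := hKn
  have h2 := CfsgLib.inf_center_ne_bot_of_nilpotent (G := K) (N := ⊤) (bot_lt_top.ne')
  rw [top_inf_eq] at h2
  obtain ⟨⟨z, hzK⟩, hzc, hz1⟩ := (bot_or_exists_ne_one _).resolve_left h2
  have hz : z ≠ 1 := fun e => hz1 (Subtype.ext e)
  have hzcomm : ∀ u ∈ K, u * z = z * u := fun u hu =>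
    congrArg Subtype.val (Subgroup.mem_center_iff.mp hzc ⟨u, hu⟩)
  have hez : e' * z = z * e' :=
    CfsgLib.CN.commute_of_mem_centralizer hG hh1 he'h (hzcomm h hhK).symm (hcop z hzK)
  have heC : e' ∈ centralizer (K : Set G) := fun u hu =>
    (CfsgLib.CN.commute_of_mem_centralizer hG hz hez (hzcomm u hu) (hcop u hu)).symm
  haveI : (centralizer (K : Set G)).Normal := Subgroup.normal_centralizer
  have hCn : Group.IsNilpotent (centralizer (K : Set G)) :=
    CfsgLib.CN.isNilpotent_of_le (fun u hu => mem_centralizer_singleton_iff.mpr (hu z hzK).symm) (hG z hz)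
  have he'K : e' ∈ K := by
    rw [hK]
    exact CfsgLib.le_fittingSubgroup hCn heC
  have he'1 := Subgroup.disjoint_def.mp hd he'K he'E
  rw [he'1, orderOf_one] at he'o
  exact hq.ne_one he'o.symm

open Subgroup in
open scoped Pointwise in
private theorem nilpotent_compl {G : Type*} [Group G] [Finite G] (hG : Cfsg.IsCNGroup G) {V E : Subgroup G}
    [IsMulCommutative V] (hV : V ≠ ⊥) (hE : E ≠ ⊥) (hEV : E ≤ normalizer (V : Set G))
    (hfpf : ∀ x ∈ E, x ≠ 1 → V ⊓ centralizer {x} = ⊥) : Group.IsNilpotent E := by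
  suffices h : ∃ t : G, t ≠ 1 ∧ E ≤ centralizer ({t} : Set G) by
    obtain ⟨t, ht, hle⟩ := h
    exact CfsgLib.CN.isNilpotent_of_le hle (hG t ht)
  rcases Nat.even_or_odd (Nat.card E) with hev | hodd
  · have : Fact (Nat.Prime 2) := ⟨Nat.prime_two⟩
    obtain ⟨⟨t, htE⟩, ht⟩ := exists_prime_orderOf_dvd_card' (G := E) 2 (even_iff_two_dvd.mp hev)
    rw [Subgroup.orderOf_mk] at ht
    have hinv : ∀ s ∈ E, orderOf s = 2 → ∀ v ∈ V, s * v * s = v⁻¹ := by
      intro s hs hso v hv
      have hs1 : s ≠ 1 := fun e => by simp [e] at hso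
      have h1 := CfsgLib.Frob.fpf_pow_eq_one (hEV hs) (p := 2) (hso ▸ pow_orderOf_eq_one s) (hfpf s hs hs1) hv
      rw [pow_two] at h1
      rw [eq_inv_iff_mul_eq_one]
      calc s * v * s * v = v⁻¹ * ((v * s) * (v * s)) * v := by group
        _ = 1 := by rw [h1]; group
    refine ⟨t, fun e => by simp [e] at ht, fun g hg => mem_centralizer_singleton_iff.mpr ?_⟩
    set s := g * t * g⁻¹ with hs
    have hsE : s ∈ E := E.mul_mem (E.mul_mem hg htE) (E.inv_mem hg)
    have hso : orderOf s = 2 := by rw [← ht]; exact (MulAut.conj g).orderOf_eq t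
    have htt : t * t = 1 := by rw [← pow_two, ← ht]; exact pow_orderOf_eq_one t
    have hst : s * t = 1 := by
      by_contra hne
      obtain ⟨v, hvV, hv1⟩ := (bot_or_exists_ne_one V).resolve_left hV
      apply hv1
      have hmem : v ∈ V ⊓ centralizer ({s * t} : Set G) := by
        refine Subgroup.mem_inf.mpr ⟨hvV, mem_centralizer_singleton_iff.mpr ?_⟩
        have a1 := hinv t htE ht v hvV
        have a2 := hinv s hsE hso v⁻¹ (V.inv_mem hvV)
        rw [inv_inv] at a2
        have hss : s * s = 1 := by rw [← pow_two, ← hso]; exact pow_orderOf_eq_one s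
        have a3 : s * (t * v * t) * s = v := by rw [a1, a2]
        calc v * (s * t) = s * (t * v * t) * s * (s * t) := by rw [a3]
          _ = s * t * v * (t * (s * s) * t) := by group
          _ = s * t * v := by rw [hss, mul_one, htt, mul_one]
      rwa [hfpf _ (E.mul_mem hsE htE) hne, Subgroup.mem_bot] at hmem
    have h3 : s = t := mul_right_cancel (hst.trans htt.symm)
    calc g * t = s * g := by rw [hs]; group
      _ = t * g := by rw [h3]
  · obtain ⟨⟨z, hzE⟩, hzc, hz1⟩ := (bot_or_exists_ne_one _).resolve_left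
      (CfsgLib.Frob.center_ne_bot_of_odd hV hEV hfpf hodd hE)
    exact ⟨z, fun e => hz1 (Subtype.ext e), fun g hg => mem_centralizer_singleton_iff.mpr
      (congrArg Subtype.val (Subgroup.mem_center_iff.mp hzc ⟨g, hg⟩))⟩

open Subgroup in
private theorem fitting_coprime {G : Type*} [Group G] [Finite G] (hG : Cfsg.IsCNGroup G) (p : ℕ) [Fact p.Prime]
    (P : Sylow p G) (hP1 : (P : Subgroup G) ≠ ⊥) (hPn : (P : Subgroup G).Normal) :
    (Nat.card (Cfsg.fittingSubgroup G)).Coprime (Cfsg.fittingSubgroup G).index := by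
  set F := Cfsg.fittingSubgroup G with hF
  haveI hFn : F.Normal := inferInstance
  haveI hFnil : Group.IsNilpotent F := CfsgLib.FittingHall.fittingSubgroup_isNilpotent
  haveI := hPn
  have hPF : (P : Subgroup G) ≤ F := CfsgLib.le_fittingSubgroup P.2.isNilpotent
  refine Nat.coprime_of_dvd fun q hq h1 h2 => ?_
  haveI := Fact.mk hq
  by_cases hqp : q = p
  · subst hqp
    exact P.not_dvd_index (h2.trans (Subgroup.index_dvd_of_le hPF))
  obtain ⟨T⟩ : Nonempty (Sylow q F) := inferInstance
  have hTn : (T : Subgroup F).Normal :=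
    (Group.isNilpotent_of_finite_tfae (G := F)).out 0 3 rfl rfl |>.mp hFnil q inferInstance _
  haveI := Sylow.characteristic_of_normal T hTn
  haveI : ((T : Subgroup F).map F.subtype).Normal := inferInstance
  set O := (T : Subgroup F).map F.subtype with hO
  have hO1 : O ≠ ⊥ := by
    rw [hO, Ne, Subgroup.map_eq_bot_iff_of_injective _ F.subtype_injective]
    exact T.ne_bot_of_dvd_card h1
  have hOF : O ≤ F := map_subtype_le _
  obtain ⟨S⟩ : Nonempty (Sylow q G) := inferInstance
  have hOS : O ≤ (S : Subgroup G) :=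
    (CfsgLib.le_pCore (N := O) (T.2.map _)).trans (CfsgLib.pCore_le_sylow S)
  haveI : Group.IsNilpotent (S : Subgroup G) := S.2.isNilpotent
  obtain ⟨⟨z, hzS⟩, ⟨hzO, hzc⟩, hz1⟩ := (bot_or_exists_ne_one _).resolve_left
    (CfsgLib.inf_center_ne_bot_of_nilpotent (G := (S : Subgroup G)) (N := O.subgroupOf (S : Subgroup G)) (by
      rw [Ne, Subgroup.subgroupOf_eq_bot, disjoint_iff, inf_eq_left.mpr hOS]
      exact hO1))
  replace hzO : z ∈ O := hzO
  have hz : z ≠ 1 := fun e => hz1 (Subtype.ext e)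
  have hzcomm : ∀ u ∈ (S : Subgroup G), u * z = z * u := fun u hu =>
    congrArg Subtype.val (Subgroup.mem_center_iff.mp hzc ⟨u, hu⟩)
  have hcq : ∀ (s : G), s ∈ (S : Subgroup G) → ∀ u ∈ (P : Subgroup G), (orderOf s).Coprime (orderOf u) := by
    intro s hs u hu
    obtain ⟨k, hk⟩ := IsPGroup.exists_card_eq S.2
    refine CfsgLib.CN.coprime_orderOf_of_pGroup P.2 ?_ hu
    refine Nat.Coprime.coprime_dvd_left ((S : Subgroup G).orderOf_dvd_natCard hs) ?_
    rw [hk]
    exact ((Nat.coprime_primes hq Fact.out).mpr hqp).pow_left k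
  have hSC : (S : Subgroup G) ≤ centralizer ((P : Subgroup G) : Set G) := by
    intro s hs u hu
    have huz : u * z = z * u :=
      congrArg Subtype.val (CfsgLib.Frob.commute_of_nilpotent_coprime (G := F)
        (a := ⟨u, hPF hu⟩) (b := ⟨z, hOF hzO⟩) (by
          rw [Subgroup.orderOf_mk, Subgroup.orderOf_mk]; exact (hcq z hzS u hu).symm)).eq
    exact (CfsgLib.CN.commute_of_mem_centralizer hG hz (hzcomm s hs) huz (hcq s hs u hu)).symm
  obtain ⟨u, hu, hu1⟩ := (bot_or_exists_ne_one _).resolve_left hP1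
  haveI : (centralizer ((P : Subgroup G) : Set G)).Normal := Subgroup.normal_centralizer
  have hCn : Group.IsNilpotent (centralizer ((P : Subgroup G) : Set G)) :=
    CfsgLib.CN.isNilpotent_of_le (fun a ha => mem_centralizer_singleton_iff.mpr (ha u hu).symm) (hG u hu1)
  exact S.not_dvd_index (h2.trans (Subgroup.index_dvd_of_le (hSC.trans (CfsgLib.le_fittingSubgroup hCn))))

/-- Let G be a finite group in which every non-identity element has nilpotent centralizer, not itself nilpotent, and having a nontrivial normal Sylow p-subgroup for some prime p. Let H be the largest normal nilpotent Hall subgroup of G. Then H is a nontrivial proper normal subgroup with a complement E that is a Frobenius complement in G (no non-identity element of E centralizes a non-identity element of H), and G/H is nilpotent. -/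
theorem result {G : Type*} [Group G] [Finite G] (hCN : Cfsg.IsCNGroup G) (hnn : ¬ Group.IsNilpotent G) (p : ℕ) [Fact p.Prime] (P : Sylow p G)
    (hP1 : (P : Subgroup G) ≠ ⊥) (hPn : (P : Subgroup G).Normal) :
    Cfsg.fittingHall G ≠ ⊥ ∧ Cfsg.fittingHall G ≠ ⊤ ∧
      (∃ E : Subgroup G, Subgroup.IsComplement' (Cfsg.fittingHall G) E ∧ Cfsg.IsFrobeniusComplement E ∧
        ∀ e ∈ E, e ≠ 1 → Cfsg.fittingHall G ⊓ Subgroup.centralizer ({e} : Set G) = ⊥) ∧
      Group.IsNilpotent (G ⧸ Cfsg.fittingHall G) := by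
  haveI hFnil : Group.IsNilpotent (Cfsg.fittingSubgroup G) := CfsgLib.FittingHall.fittingSubgroup_isNilpotent
  have hcop := fitting_coprime hCN p P hP1 hPn
  have hKF : Cfsg.fittingHall G = Cfsg.fittingSubgroup G :=
    le_antisymm CfsgLib.FittingHall.fittingHall_le_fitting (le_sSup ⟨inferInstance, hFnil, hcop⟩)
  haveI := hPn
  haveI hKnil : Group.IsNilpotent (Cfsg.fittingHall G) := CfsgLib.FittingHall.fittingHall_isNilpotent
  replace hcop := CfsgLib.FittingHall.fittingHall_coprime (M := G)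
  have hK1 : Cfsg.fittingHall G ≠ ⊥ := fun e => hP1 (le_bot_iff.mp (e ▸ hKF ▸ CfsgLib.le_fittingSubgroup P.2.isNilpotent))
  have hK2 : Cfsg.fittingHall G ≠ ⊤ := fun e => hnn <| by
    haveI : Group.IsNilpotent (⊤ : Subgroup G) := e ▸ hKnil
    exact Group.nilpotent_of_mulEquiv (Subgroup.topEquiv : (⊤ : Subgroup G) ≃* G)
  obtain ⟨E, hE⟩ := Subgroup.exists_right_complement'_of_coprime hcop
  have hcardE : Nat.card E = (Cfsg.fittingHall G).index := hE.symm.card_left ▸ rfl
  have hE1 : E ≠ ⊥ := fun e => by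
    rw [e, Subgroup.isComplement'_bot_right] at hE
    exact hK2 hE
  have hfpf := fpf_cn hCN _ hKF hKnil hK1 E hE.disjoint (by rw [hcardE]; exact hcop.symm)
  refine ⟨hK1, hK2, ⟨E, hE, CfsgLib.Frob.frob_of_fpf hE hK1 hE1 hfpf, hfpf⟩, ?_⟩
  obtain ⟨V, hVc, hV1, hVn, hVf⟩ := CfsgLib.Frob.exists_abelian_module hE hK1 hE1 hfpf
  haveI := hVc
  haveI := nilpotent_compl hCN hV1 hE1 hVn hVf
  refine Group.nilpotent_of_surjective ((QuotientGroup.mk' (Cfsg.fittingHall G)).comp E.subtype) fun x => ?_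
  obtain ⟨g, rfl⟩ := QuotientGroup.mk'_surjective _ x
  obtain ⟨⟨⟨k, hk⟩, e⟩, rfl⟩ := (show Function.Surjective fun z : Cfsg.fittingHall G × E => (z.1 : G) * z.2 from hE.2) g
  refine ⟨e, ?_⟩
  show QuotientGroup.mk' _ (e : G) = QuotientGroup.mk' _ (k * (e : G))
  rw [map_mul, show QuotientGroup.mk' (Cfsg.fittingHall G) k = 1 from (QuotientGroup.eq_one_iff k).mpr hk, one_mul]

end Cfsg.Agent.S1474
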