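import Cfsg.Statements.S1476
import Mathlib
import Cfsg.Agent.S1474
import Cfsg.Agent.Lib.Solvable.CN
import Cfsg.Agent.Lib.OddLocal.FittingHall
-- import your own Cfsg.Agent.* helpers here

set_option autoImplicit false
open Cfsg

namespace Cfsg.Agent.S1476

open Subgroup
open scoped Pointwise

universe u
variable {G : Type u} [Group G] [Finite G]

private theorem card_sup_disjoint (M L : Subgroup G) [M.Normal] (hd : Disjoint M L) :
    Nat.card (M ⊔ L : Subgroup G) = Nat.card M * Nat.card L := by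
  have e : ((M ⊔ L : Subgroup G) : Set G) = (M : Set G) * (L : Set G) := Subgroup.normal_mul M L
  rw [← Nat.card_prod]
  refine (Nat.card_congr ((Equiv.ofBijective (fun z : M × L => (⟨(z.1 : G) * z.2, Set.mul_mem_mul z.1.2 z.2.2⟩ : ((M : Set G) * (L : Set G) : Set G))) ⟨fun a b h => ?_, ?_⟩).trans (Equiv.setCongr e.symm))).symm
  · exact Subgroup.mul_injective_of_disjoint hd (congrArg Subtype.val h)
  · rintro ⟨_, a, ha, b, hb, rfl⟩
    exact ⟨(⟨a, ha⟩, ⟨b, hb⟩), rfl⟩

/-- Subgroups of coprime order of a quotient lift. -/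
private theorem lift (N : Subgroup G) [N.Normal] (H : Subgroup (G ⧸ N))
    (h : (Nat.card N).Coprime (Nat.card H)) :
    ∃ A : Subgroup G, Nat.card A = Nat.card H ∧ N ⊔ A = H.comap (QuotientGroup.mk' N) ∧
      A.map (QuotientGroup.mk' N) = H ∧ Nonempty (A ≃* H) := by
  set π := QuotientGroup.mk' N with hπ
  set C := H.comap π with hC
  have hker : (⊥ : Subgroup (G ⧸ N)).comap π = N := QuotientGroup.ker_mk' N
  have hNC : N ≤ C := hker ▸ Subgroup.comap_mono bot_le
  have hCmap : C.map π = H := Subgroup.map_comap_eq_self_of_surjective (QuotientGroup.mk'_surjective N) H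
  have hN : Nat.card (N.subgroupOf C) = Nat.card N := Nat.card_congr (Subgroup.subgroupOfEquivOfLe hNC).toEquiv
  have hi : (N.subgroupOf C).index = Nat.card H := by
    show N.relIndex C = _
    conv_lhs => rw [← hker]
    rw [Subgroup.relIndex_comap, hCmap, Subgroup.relIndex_bot_left]
  obtain ⟨B, hB⟩ := Subgroup.exists_right_complement'_of_coprime
    (N := N.subgroupOf C) (by rw [hN, hi]; exact h)
  have hBc : Nat.card (B.map C.subtype) = Nat.card H := by
    rw [← Nat.card_congr (B.equivMapOfInjective _ C.subtype_injective).toEquiv, ← hi]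
    exact Nat.eq_of_mul_eq_mul_left Nat.card_pos (hB.card_mul.trans (N.subgroupOf C).card_mul_index.symm)
  have hsup : N ⊔ B.map C.subtype = C := by
    have e := congrArg (Subgroup.map C.subtype) hB.sup_eq_top
    rw [Subgroup.map_sup, Subgroup.map_subgroupOf_eq_of_le hNC, ← MonoidHom.range_eq_map, Subgroup.range_subtype] at e
    exact e
  have hmap : (B.map C.subtype).map π = H := by
    have e := congrArg (Subgroup.map π) hsup
    rwa [Subgroup.map_sup, QuotientGroup.map_mk'_self, bot_sup_eq, hCmap] at e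
  have hd : Disjoint N (B.map C.subtype) := Subgroup.disjoint_of_coprime_natCard (by rw [hBc]; exact h)
  refine ⟨B.map C.subtype, hBc, hsup, hmap, ⟨(MulEquiv.ofBijective (π.subgroupMap (B.map C.subtype))
    ⟨?_, π.subgroupMap_surjective _⟩).trans (MulEquiv.subgroupCongr hmap)⟩⟩
  rw [← MonoidHom.ker_eq_bot_iff, eq_bot_iff]
  intro a ha
  have h1 : π (a : G) = 1 := congrArg Subtype.val (MonoidHom.mem_ker.mp ha)
  exact Subgroup.mem_bot.mpr (Subtype.ext (Subgroup.disjoint_def.mp hd ((QuotientGroup.eq_one_iff _).mp h1) a.2))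

private theorem odd_quat {n : ℕ} {X : Type u} [Group X] (e : X ≃* QuaternionGroup (2 ^ n)) :
    2 ∣ Nat.card X := by
  rw [Nat.card_congr e.toEquiv, Nat.card_eq_fintype_card, QuaternionGroup.card]
  exact Dvd.intro (2 * 2 ^ n) (by ring)

private theorem cyclic_of_fpf {V : Subgroup G} [IsMulCommutative V] (hV : V ≠ ⊥) {A : Subgroup G}
    (hAV : A ≤ normalizer (V : Set G)) (hfpf : ∀ x ∈ A, x ≠ 1 → V ⊓ centralizer {x} = ⊥)
    (hn : Group.IsNilpotent A) (hodd : Odd (Nat.card A)) : IsCyclic A := by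
  haveI := hn
  haveI : IsZGroup A := ⟨fun q hq P => by
    have := Fact.mk hq
    rcases CfsgLib.Frob.sylow_cyclic_or_quaternion hV hAV hfpf P with h | ⟨n, ⟨e⟩⟩
    · exact h
    · exact absurd ((odd_quat e).trans (Subgroup.card_subgroup_dvd_card _)) hodd.not_two_dvd_nat⟩
  infer_instance

/-- A nilpotent fixed-point-free group. -/
private theorem nilpotent_fpf_structure {V : Subgroup G} [IsMulCommutative V] (hV : V ≠ ⊥) {E : Subgroup G}
    (hEV : E ≤ normalizer (V : Set G)) (hfpf : ∀ x ∈ E, x ≠ 1 → V ⊓ centralizer {x} = ⊥)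
    (hn : Group.IsNilpotent E) :
    IsCyclic E ∨ ∃ C Q : Subgroup G, C ⊔ Q = E ∧ (∀ a ∈ C, ∀ b ∈ Q, a * b = b * a) ∧ IsCyclic C ∧
      Odd (Nat.card C) ∧ ∃ n : ℕ, Nonempty (↥Q ≃* QuaternionGroup (2 ^ n)) := by
  haveI := hn
  by_cases hz : IsZGroup E
  · left
    infer_instance
  right
  obtain ⟨q, hq, P, hP⟩ : ∃ q, q.Prime ∧ ∃ P : Sylow q E, ¬ IsCyclic P := by
    by_contra hc
    refine hz ⟨fun q hq P => ?_⟩
    by_contra h
    exact hc ⟨q, hq, P, h⟩
  have := Fact.mk hq
  obtain ⟨n, ⟨e⟩⟩ := (CfsgLib.Frob.sylow_cyclic_or_quaternion hV hEV hfpf P).resolve_left hP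
  obtain ⟨k, hk⟩ := IsPGroup.exists_card_eq P.2
  have hq2 : q = 2 := ((Nat.prime_dvd_prime_iff_eq Nat.prime_two hq).mp
    (Nat.prime_two.dvd_of_dvd_pow (hk ▸ odd_quat e))).symm
  subst hq2
  haveI hPn : (P : Subgroup E).Normal :=
    (Group.isNilpotent_of_finite_tfae (G := E)).out 0 3 rfl rfl |>.mp hn 2 inferInstance _
  obtain ⟨B, hB⟩ := Subgroup.exists_right_complement'_of_coprime P.card_coprime_index
  have hBodd : Odd (Nat.card B) := by
    have e1 : Nat.card B = (P : Subgroup E).index :=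
      Nat.eq_of_mul_eq_mul_left Nat.card_pos (hB.card_mul.trans (P : Subgroup E).card_mul_index.symm)
    rw [e1, ← Nat.not_even_iff_odd, even_iff_two_dvd]
    exact P.not_dvd_index
  have hcC : Nat.card (B.map E.subtype) = Nat.card B :=
    (Nat.card_congr (B.equivMapOfInjective _ E.subtype_injective).toEquiv).symm
  refine ⟨B.map E.subtype, (P : Subgroup E).map E.subtype, ?_, ?_, ?_, hcC ▸ hBodd,
    n, ⟨((P : Subgroup E).equivMapOfInjective _ E.subtype_injective).symm.trans e⟩⟩
  · rw [← Subgroup.map_sup, hB.symm.sup_eq_top, ← MonoidHom.range_eq_map, Subgroup.range_subtype]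
  · rintro _ ⟨a, ha, rfl⟩ _ ⟨b, hb, rfl⟩
    rw [← map_mul, ← map_mul]
    refine congrArg E.subtype (CfsgLib.Frob.commute_of_nilpotent_coprime (G := E) ?_).eq
    refine Nat.Coprime.coprime_dvd_left (Subgroup.orderOf_dvd_natCard B ha) ?_
    refine Nat.Coprime.coprime_dvd_right (Subgroup.orderOf_dvd_natCard (P : Subgroup E) hb) ?_
    rw [hk]
    exact (Nat.coprime_two_right.mpr hBodd).pow_right k
  · have hle : B.map E.subtype ≤ E := map_subtype_le _
    exact cyclic_of_fpf hV (hle.trans hEV) (fun x hx => hfpf x (hle hx))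
      (Group.nilpotent_of_mulEquiv (B.equivMapOfInjective _ E.subtype_injective)) (hcC ▸ hBodd)

private theorem normal_of_le_cyclic {X : Type u} [Group X] {F H : Subgroup X} [F.Normal] [IsCyclic F]
    (h : H ≤ F) : H.Normal := by
  refine ⟨fun x hx g => ?_⟩
  obtain ⟨m, hm⟩ := MonoidHom.map_cyclic ((MulAut.conjNormal g : MulAut F).toMonoidHom)
  have e : g * x * g⁻¹ = x ^ m := by
    simpa using congrArg Subtype.val (hm ⟨x, h hx⟩)
  rw [e]
  exact H.zpow_mem hx m

private theorem mem_of_coprime_pow {X : Type u} [Group X] {H : Subgroup X} {f : X} {a b : ℕ}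
    (h : a.Coprime b) (ha : f ^ a ∈ H) (hb : f ^ b ∈ H) : f ∈ H := by
  have e : f = (f ^ a) ^ (Nat.gcdA a b) * (f ^ b) ^ (Nat.gcdB a b) := by
    rw [← zpow_natCast, ← zpow_natCast, ← zpow_mul, ← zpow_mul, ← zpow_add, ← Nat.gcd_eq_gcd_ab, h.gcd_eq_one,
      Nat.cast_one, zpow_one]
  rw [e]
  exact H.mul_mem (H.zpow_mem ha _) (H.zpow_mem hb _)

private theorem three_step [Group.IsSolvable G] (hG : Cfsg.IsCNGroup G) {p : ℕ} [Fact p.Prime]
    (hO : Cfsg.pCore p G ≠ ⊥) (S : Sylow p G) (hS : ¬ (S : Subgroup G).Normal) :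
    Cfsg.IsThreeStepGroup p G := by
  have hp : p.Prime := Fact.out
  set O := Cfsg.pCore p G with hOdef
  haveI : O.Normal := Subgroup.sSup_normal _ fun _ h => h.1
  have hOp : IsPGroup p O := CfsgLib.isPGroup_pCore p
  have hOS : O ≤ (S : Subgroup G) := CfsgLib.pCore_le_sylow S
  haveI : Group.IsNilpotent (S : Subgroup G) := S.2.isNilpotent
  obtain ⟨⟨z, hzS⟩, ⟨hzO, hzc⟩, hz1⟩ := (bot_or_exists_ne_one _).resolve_left
    (CfsgLib.inf_center_ne_bot_of_nilpotent (G := (S : Subgroup G)) (N := O.subgroupOf (S : Subgroup G)) (by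
      rw [Ne, Subgroup.subgroupOf_eq_bot, disjoint_iff, inf_eq_left.mpr hOS]
      exact hO))
  replace hzO : z ∈ O := hzO
  have hz : z ≠ 1 := fun e => hz1 (Subtype.ext e)
  have hzcomm : ∀ u ∈ (S : Subgroup G), u * z = z * u := fun u hu =>
    congrArg Subtype.val (Subgroup.mem_center_iff.mp hzc ⟨u, hu⟩)
  have hQ : Cfsg.pPrimeCore p G = ⊥ := by
    by_contra hQ1
    set Q := Cfsg.pPrimeCore p G with hQdef
    haveI : Q.Normal := Subgroup.sSup_normal _ (fun _ h => h.1)
    have hQp : ∀ a ∈ Q, (orderOf a).Coprime p := fun a ha =>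
      (CfsgLib.card_pPrimeCore_coprime p).coprime_dvd_left (Q.orderOf_dvd_natCard ha)
    have hSQ : (S : Subgroup G) ≤ centralizer (Q : Set G) := by
      intro u hu a ha
      have hdis : Disjoint Q O := by
        obtain ⟨k, hk⟩ := hOp.exists_card_eq
        exact Subgroup.disjoint_of_coprime_natCard (by rw [hk]; exact (CfsgLib.card_pPrimeCore_coprime p).pow_right k)
      have haz : a * z = z * a := (Subgroup.commute_of_normal_of_disjoint Q O inferInstance inferInstance hdis a z ha hzO).eq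
      exact CfsgLib.CN.commute_of_mem_centralizer hG hz haz (hzcomm u hu)
        (CfsgLib.CN.coprime_orderOf_of_pGroup S.2 (hQp a ha) hu)
    obtain ⟨w, hw, hw1⟩ := (bot_or_exists_ne_one Q).resolve_left hQ1
    set K := centralizer (Q : Set G) with hK
    haveI : K.Normal := Subgroup.normal_centralizer
    haveI : Group.IsNilpotent K := CfsgLib.CN.isNilpotent_of_le
      (fun u hu => mem_centralizer_singleton_iff.mpr (hu w hw).symm) (hG w hw1)
    have hn : ((S.subtype hSQ : Sylow p K) : Subgroup K).Normal :=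
      (Group.isNilpotent_of_finite_tfae (G := K)).out 0 3 rfl rfl |>.mp inferInstance p inferInstance _
    have hch := Sylow.characteristic_of_normal _ hn
    apply hS
    have e : ((S.subtype hSQ : Sylow p K) : Subgroup K).map K.subtype = (S : Subgroup G) := by
      show ((S : Subgroup G).subgroupOf K).map K.subtype = _
      rw [Subgroup.map_subgroupOf_eq_of_le hSQ]
    rw [← e]
    haveI := hch
    infer_instance
  have hCO : centralizer (O : Set G) ≤ O := CfsgLib.centralizer_pCore_le hp hQ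
  -- fixed-point-free action of `p'`-elements
  set V := (center O).map O.subtype with hV
  haveI : Nontrivial O := (Subgroup.nontrivial_iff_ne_bot O).mpr hO
  have hV1 : V ≠ ⊥ := by
    rw [hV, Ne, Subgroup.map_eq_bot_iff_of_injective _ O.subtype_injective]
    exact (Subgroup.nontrivial_iff_ne_bot _).mp hOp.center_nontrivial
  haveI : IsMulCommutative V := inferInstance
  haveI : V.Normal := inferInstance
  have hfix : ∀ a : G, (orderOf a).Coprime p → a ≠ 1 → O ⊓ centralizer {a} = ⊥ := by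
    intro a hap ha1
    rw [eq_bot_iff]
    intro u hu
    obtain ⟨huO, hua⟩ := Subgroup.mem_inf.mp hu
    by_contra hu1
    rw [Subgroup.mem_bot] at hu1
    obtain ⟨_, ⟨⟨z', hz'⟩, hz'c, rfl⟩, hz'1⟩ := (bot_or_exists_ne_one V).resolve_left hV1
    have hc : ∀ o ∈ O, o * z' = z' * o := fun o ho =>
      congrArg Subtype.val (Subgroup.mem_center_iff.mp hz'c ⟨o, ho⟩)
    have haz : a * z' = z' * a := CfsgLib.CN.commute_of_mem_centralizer hG hu1
      (mem_centralizer_singleton_iff.mp hua).symm (hc u huO).symm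
      (CfsgLib.CN.coprime_orderOf_of_pGroup hOp hap hz')
    have haO : a ∈ centralizer (O : Set G) := fun o ho =>
      (CfsgLib.CN.commute_of_mem_centralizer hG hz'1 haz (hc o ho)
        (CfsgLib.CN.coprime_orderOf_of_pGroup hOp hap ho)).symm
    obtain ⟨k, hk⟩ := hOp ⟨a, hCO haO⟩
    exact ha1 (orderOf_eq_one_iff.mp ((hap.pow_right k).eq_one_of_dvd
      (orderOf_dvd_of_pow_eq_one (by simpa using congrArg Subtype.val hk))))
  have hnorm : ∀ A : Subgroup G, A ≤ normalizer (V : Set G) := fun A => by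
    rw [normalizer_eq_top]; exact le_top
  have hfpf : ∀ A : Subgroup G, (Nat.card A).Coprime p → ∀ a ∈ A, a ≠ 1 → V ⊓ centralizer {a} = ⊥ :=
    fun A hA a ha ha1 => eq_bot_iff.mpr ((inf_le_inf (map_subtype_le _) le_rfl).trans
      (hfix a (hA.coprime_dvd_left (A.orderOf_dvd_natCard ha)) ha1).le)
  have hcopO : ∀ m : ℕ, m.Coprime p → (Nat.card O).Coprime m := fun m hm => by
    obtain ⟨k, hk⟩ := hOp.exists_card_eq
    rw [hk]
    exact (hm.pow_right k).symm
  -- the quotient by `O`
  haveI : Group.IsSolvable (G ⧸ O) := inferInstance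
  have hX : Cfsg.IsCNGroup (G ⧸ O) := CfsgLib.CN.isCN_quotient_pgroup hG O hOp
  have hcore : Cfsg.pCore p (G ⧸ O) = ⊥ := CfsgLib.ZJ.pCore_quotient_pCore_eq_bot
  set π := QuotientGroup.mk' O with hπ
  set F := Cfsg.fittingSubgroup (G ⧸ O) with hF
  haveI hFn : F.Normal := inferInstance
  haveI hFnil : Group.IsNilpotent F := CfsgLib.FittingHall.fittingSubgroup_isNilpotent
  have hFp : (Nat.card F).Coprime p := by
    refine (hp.coprime_iff_not_dvd.mpr fun h => ?_).symm
    obtain ⟨T⟩ : Nonempty (Sylow p F) := inferInstance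
    have hTn : (T : Subgroup F).Normal :=
      (Group.isNilpotent_of_finite_tfae (G := F)).out 0 3 rfl rfl |>.mp hFnil p inferInstance _
    haveI := Sylow.characteristic_of_normal T hTn
    haveI : ((T : Subgroup F).map F.subtype).Normal := inferInstance
    have h1 := CfsgLib.le_pCore (N := (T : Subgroup F).map F.subtype) (T.2.map _)
    rw [hcore, le_bot_iff, Subgroup.map_eq_bot_iff_of_injective _ F.subtype_injective] at h1
    exact T.ne_bot_of_dvd_card h h1
  have hXp : ¬ (Nat.card (G ⧸ O)).Coprime p := by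
    intro h
    apply hS
    have e : (S : Subgroup G) = O := by
      refine le_antisymm (fun u hu => ?_) hOS
      obtain ⟨k, hk⟩ := S.2 ⟨u, hu⟩
      refine (QuotientGroup.eq_one_iff u).mp (orderOf_eq_one_iff.mp
        (((h.coprime_dvd_left (orderOf_dvd_natCard (π u))).pow_right k).eq_one_of_dvd ?_))
      refine orderOf_dvd_of_pow_eq_one ?_
      show π u ^ p ^ k = 1
      rw [← map_pow, show u ^ p ^ k = 1 by simpa using congrArg Subtype.val hk, map_one]
    rw [e]
    infer_instance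
  have hF1 : F ≠ ⊥ := by
    intro e
    have hle : centralizer (F : Set (G ⧸ O)) ≤ F := CfsgLib.centralizer_fitting_le
    apply hXp
    have e0 : (⊤ : Subgroup (G ⧸ O)) ≤ centralizer (F : Set (G ⧸ O)) := fun x _ =>
      Subgroup.mem_centralizer_iff.mpr fun f hf => by
        rw [SetLike.mem_coe, e, Subgroup.mem_bot] at hf
        rw [hf, one_mul, mul_one]
    have e1 := e0.trans hle
    rwa [top_le_iff.mp e1, Subgroup.card_top] at hFp
  have hFX : F ≠ ⊤ := fun e => hXp (by rwa [e, Subgroup.card_top] at hFp)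
  obtain ⟨A, hAc, hAs, hAm, ⟨eA⟩⟩ := lift O F (hcopO _ hFp)
  have hAp : (Nat.card A).Coprime p := hAc ▸ hFp
  have hAfpf := hfpf A hAp
  have hAn : Group.IsNilpotent A := Group.nilpotent_of_mulEquiv eA.symm
  have hodd : Odd (Nat.card A) := by
    rw [← Nat.not_even_iff_odd, even_iff_two_dvd]
    intro h2
    haveI : Fact (Nat.Prime 2) := ⟨Nat.prime_two⟩
    obtain ⟨⟨t, htA⟩, ht⟩ := exists_prime_orderOf_dvd_card' (G := A) 2 h2
    rw [Subgroup.orderOf_mk] at ht
    have hinv : ∀ s ∈ A, orderOf s = 2 → ∀ v ∈ V, s * v * s = v⁻¹ := by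
      intro s hs hso v hv
      have hs1 : s ≠ 1 := fun e => by simp [e] at hso
      have h1 := CfsgLib.Frob.fpf_pow_eq_one (hnorm A hs) (p := 2) (hso ▸ pow_orderOf_eq_one s) (hAfpf s hs hs1) hv
      rw [pow_two] at h1
      rw [eq_inv_iff_mul_eq_one]
      calc s * v * s * v = v⁻¹ * ((v * s) * (v * s)) * v := by group
        _ = 1 := by rw [h1]; group
    have huniq : ∀ s ∈ A, orderOf s = 2 → s = t := by
      intro s hs hso
      obtain ⟨v, hvV, hv1⟩ := (bot_or_exists_ne_one V).resolve_left hV1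
      have htt : t * t = 1 := by rw [← pow_two, ← ht]; exact pow_orderOf_eq_one t
      by_contra hne
      have hst : s * t ≠ 1 := fun e => hne (mul_right_cancel (e.trans htt.symm))
      apply hv1
      have hmem : v ∈ V ⊓ centralizer ({s * t} : Set G) := by
        refine Subgroup.mem_inf.mpr ⟨hvV, mem_centralizer_singleton_iff.mpr ?_⟩
        have a1 := hinv t htA ht v hvV
        have a2 := hinv s hs hso v⁻¹ (V.inv_mem hvV)
        rw [inv_inv] at a2
        have hss : s * s = 1 := by rw [← pow_two, ← hso]; exact pow_orderOf_eq_one s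
        have a3 : s * (t * v * t) * s = v := by rw [a1, a2]
        calc v * (s * t) = s * (t * v * t) * s * (s * t) := by rw [a3]
          _ = s * t * v * (t * (s * s) * t) := by group
          _ = s * t * v := by rw [hss, mul_one, htt, mul_one]
      rwa [hAfpf _ (A.mul_mem hs htA) hst, Subgroup.mem_bot] at hmem
    set τ : G ⧸ O := ↑(eA ⟨t, htA⟩) with hτ
    have hτ2 : orderOf τ = 2 := by
      rw [hτ, Subgroup.orderOf_coe, eA.orderOf_eq, Subgroup.orderOf_mk, ht]
    have hcen : (⊤ : Subgroup (G ⧸ O)) ≤ centralizer ({τ} : Set (G ⧸ O)) := by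
      intro g _
      have hm : g * τ * g⁻¹ ∈ F := hFn.conj_mem τ (SetLike.coe_mem _) g
      have ho : orderOf (g * τ * g⁻¹) = 2 := ((MulAut.conj g).orderOf_eq τ).trans hτ2
      have h1 : eA.symm ⟨g * τ * g⁻¹, hm⟩ = ⟨t, htA⟩ := Subtype.ext (huniq _ (SetLike.coe_mem _) (by
        rw [Subgroup.orderOf_coe, eA.symm.orderOf_eq, Subgroup.orderOf_mk, ho]))
      have h2 : g * τ * g⁻¹ = τ := by
        rw [MulEquiv.symm_apply_eq] at h1
        exact congrArg Subtype.val h1
      rw [mem_centralizer_singleton_iff]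
      exact mul_inv_eq_iff_eq_mul.mp h2
    have hτ1 : τ ≠ 1 := fun e => by simp [e] at hτ2
    have hnX : Group.IsNilpotent (⊤ : Subgroup (G ⧸ O)) := CfsgLib.CN.isNilpotent_of_le hcen (hX τ hτ1)
    exact hFX (top_le_iff.mp (CfsgLib.le_fittingSubgroup hnX))
  haveI hAcyc : IsCyclic A := cyclic_of_fpf hV1 (hnorm A) hAfpf hAn hodd
  haveI hFcyc : IsCyclic F := eA.isCyclic.mp hAcyc
  have hFcomm : ∀ a ∈ F, ∀ b ∈ F, a * b = b * a := fun a ha b hb =>
    congrArg Subtype.val ((IsCyclic.commGroup (α := F)).mul_comm ⟨a, ha⟩ ⟨b, hb⟩)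
  have hCF : centralizer (F : Set (G ⧸ O)) ≤ F := CfsgLib.centralizer_fitting_le
  -- the index of `F` is a power of `p`
  have hindex : ∀ q : ℕ, q.Prime → q ≠ p → ¬ q ∣ F.index := by
    intro q hq hqp hqi
    haveI := Fact.mk hq
    have hqp' : q.Coprime p := (Nat.coprime_primes hq hp).mpr hqp
    by_cases hqF : q ∣ Nat.card F
    · have hq2 : q ≠ 2 := by
        rintro rfl
        exact hodd.not_two_dvd_nat (hAc ▸ hqF)
      obtain ⟨R⟩ : Nonempty (Sylow q (G ⧸ O)) := inferInstance
      obtain ⟨k, hk⟩ := IsPGroup.exists_card_eq R.2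
      have hRc : (Nat.card (R : Subgroup (G ⧸ O))).Coprime p := hk ▸ hqp'.pow_left k
      obtain ⟨B, hBc, -, -, ⟨eB⟩⟩ := lift O (R : Subgroup (G ⧸ O)) (hcopO _ hRc)
      haveI : Group.IsNilpotent (R : Subgroup (G ⧸ O)) := R.2.isNilpotent
      haveI : IsCyclic B := cyclic_of_fpf hV1 (hnorm B) (hfpf B (hBc ▸ hRc))
        (Group.nilpotent_of_mulEquiv eB.symm) (by
          rw [hBc, hk]
          exact (hq.odd_of_ne_two hq2).pow)
      haveI : IsCyclic (R : Subgroup (G ⧸ O)) := eB.isCyclic.mp inferInstance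
      have hRcomm : ∀ a ∈ (R : Subgroup (G ⧸ O)), ∀ b ∈ (R : Subgroup (G ⧸ O)), a * b = b * a :=
        fun a ha b hb => congrArg Subtype.val
          ((IsCyclic.commGroup (α := (R : Subgroup (G ⧸ O)))).mul_comm ⟨a, ha⟩ ⟨b, hb⟩)
      obtain ⟨⟨a, haF⟩, ha⟩ := exists_prime_orderOf_dvd_card' (G := F) q hqF
      rw [Subgroup.orderOf_mk] at ha
      have ha1 : a ≠ 1 := fun e => by rw [e, orderOf_one] at ha; exact hq.ne_one ha.symm
      have hqR : ∀ f ∈ F, (∃ i : ℕ, orderOf f ∣ q ^ i) → f ∈ (R : Subgroup (G ⧸ O)) := by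
        rintro f hf ⟨i, hi⟩
        haveI := normal_of_le_cyclic (F := F) (zpowers_le.mpr hf)
        obtain ⟨j, -, hj⟩ := (Nat.dvd_prime_pow hq).mp hi
        exact CfsgLib.pCore_le_sylow R (CfsgLib.le_pCore (N := zpowers f)
          (IsPGroup.of_card (n := j) (by rw [Nat.card_zpowers, hj])) (mem_zpowers f))
      have hRF : ¬ (R : Subgroup (G ⧸ O)) ≤ F := fun h =>
        R.not_dvd_index (hqi.trans (Subgroup.index_dvd_of_le h))
      obtain ⟨u, huR, huF⟩ := SetLike.not_le_iff_exists.mp hRF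
      apply huF
      refine hCF fun f hf => (?_ : f * u = u * f)
      have haR : a ∈ (R : Subgroup (G ⧸ O)) := hqR a haF ⟨1, by rw [ha, pow_one]⟩
      obtain ⟨i, m, hm, hfm⟩ := Nat.exists_eq_pow_mul_and_not_dvd (orderOf_pos f).ne' q hq.ne_one
      have hqm : (q ^ i).Coprime m := (hq.coprime_iff_not_dvd.mpr hm).pow_left i
      refine mem_centralizer_singleton_iff.mp (mem_of_coprime_pow (H := centralizer ({u} : Set (G ⧸ O))) hqm ?_ ?_)
      · rw [mem_centralizer_singleton_iff]
        refine CfsgLib.CN.commute_of_mem_centralizer hX ha1 (hFcomm _ (F.pow_mem hf _) a haF)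
          (hRcomm u huR a haR) (CfsgLib.CN.coprime_orderOf_of_pGroup R.2 ?_ huR)
        have h1 : orderOf (f ^ q ^ i) ∣ m := orderOf_dvd_of_pow_eq_one (by rw [← pow_mul, ← hfm, pow_orderOf_eq_one])
        exact (hq.coprime_iff_not_dvd.mpr fun h => hm (h.trans h1)).symm
      · rw [mem_centralizer_singleton_iff]
        refine hRcomm _ (hqR _ (F.pow_mem hf m) ⟨i, orderOf_dvd_of_pow_eq_one ?_⟩) u huR
        rw [← pow_mul, mul_comm, ← hfm, pow_orderOf_eq_one]
    · obtain ⟨y, hy⟩ := exists_prime_orderOf_dvd_card' (G := G ⧸ O) q (hqi.trans F.index_dvd_card)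
      obtain ⟨x, hxF, hx1⟩ := (bot_or_exists_ne_one F).resolve_left hF1
      obtain ⟨r, hr, hrd⟩ := Nat.exists_prime_and_dvd (mt orderOf_eq_one_iff.mp hx1)
      set w := x ^ (orderOf x / r) with hw
      have hwo : orderOf w = r := orderOf_pow_orderOf_div (orderOf_pos x).ne' hrd
      have hwF : w ∈ F := F.pow_mem hxF _
      have hw1 : w ≠ 1 := fun e => by rw [e, orderOf_one] at hwo; exact hr.ne_one hwo.symm
      haveI := normal_of_le_cyclic (F := F) (zpowers_le.mpr hwF)
      have hrp : r.Coprime p := hFp.coprime_dvd_left (hwo ▸ F.orderOf_dvd_natCard hwF)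
      have hrq : r ≠ q := fun e => hqF (e ▸ hwo ▸ F.orderOf_dvd_natCard hwF)
      set H := zpowers w ⊔ zpowers y with hH
      have hHc : Nat.card H = r * q := by
        rw [hH, card_sup_disjoint _ _ (Subgroup.disjoint_of_coprime_natCard (by
          rw [Nat.card_zpowers, Nat.card_zpowers, hwo, hy]; exact (Nat.coprime_primes hr hq).mpr hrq)),
          Nat.card_zpowers, Nat.card_zpowers, hwo, hy]
      have hHp : (Nat.card H).Coprime p := hHc ▸ hrp.mul_left hqp'
      obtain ⟨B, hBc, -, -, ⟨eB⟩⟩ := lift O H (hcopO _ hHp)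
      haveI : IsCyclic B := CfsgLib.Frob.isCyclic_of_fpf_pq hV1 (hnorm B) (hfpf B (hBc ▸ hHp)) hr hq (hBc.trans hHc)
      haveI : IsCyclic H := eB.isCyclic.mp inferInstance
      have hwy : y * w = w * y := congrArg Subtype.val ((IsCyclic.commGroup (α := H)).mul_comm
        ⟨y, (le_sup_right : _ ≤ H) (mem_zpowers y)⟩ ⟨w, (le_sup_left : _ ≤ H) (mem_zpowers w)⟩)
      refine hqF (hy ▸ F.orderOf_dvd_natCard (hCF fun f hf => ?_))
      refine CfsgLib.CN.commute_of_mem_centralizer hX hw1 (hFcomm f hf w hwF) hwy ?_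
      rw [hy]
      exact ((hq.coprime_iff_not_dvd.mpr fun h => hqF (h.trans (F.orderOf_dvd_natCard hf)))).symm
  obtain ⟨n, hn⟩ : ∃ n, F.index = p ^ n :=
    ⟨F.index.primeFactorsList.length, Nat.eq_prime_pow_of_unique_prime_dvd Subgroup.index_ne_zero_of_finite
      fun {q} hq hqd => by_contra fun hne => hindex q hq hne hqd⟩
  have hidx : (F.comap π).index = p ^ n := by
    rw [Subgroup.index_comap_of_surjective _ (QuotientGroup.mk'_surjective O), hn]
  refine ⟨hO, A, fun e => hF1 ?_, hAcyc, hodd, hAp, hAs ▸ Subgroup.normal_comap π, fun e => hFX ?_,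
    ⟨n, hAs ▸ hidx⟩, fun a ha ha1 => hfix a (hAp.coprime_dvd_left (A.orderOf_dvd_natCard ha)) ha1, ?_⟩
  · rw [← hAm, e, Subgroup.map_bot]
  · rw [← hAm]
    have e2 := congrArg (Subgroup.map π) e
    rwa [Subgroup.map_sup, QuotientGroup.map_mk'_self, bot_sup_eq,
      Subgroup.map_top_of_surjective _ (QuotientGroup.mk'_surjective O)] at e2
  intro x hx a ha ha1 hc
  apply hx
  rw [hAs, Subgroup.mem_comap]
  have haF : π a ∈ F := hAm ▸ Subgroup.mem_map_of_mem π ha
  have hpa : π a ≠ 1 := fun e => ha1 (orderOf_eq_one_iff.mp (by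
    have h1 : orderOf a ∣ Nat.card O := O.orderOf_dvd_natCard ((QuotientGroup.eq_one_iff a).mp e)
    exact Nat.eq_one_of_dvd_coprimes (hcopO _ hAp) h1 (A.orderOf_dvd_natCard ha)))
  have hxa : π x * π a = π a * π x := by
    have h1 : π (x * a * x⁻¹ * a⁻¹) = 1 := (QuotientGroup.eq_one_iff _).mpr hc
    rw [map_mul, map_mul, map_mul, map_inv, map_inv, mul_inv_eq_one, mul_inv_eq_iff_eq_mul] at h1
    exact h1
  obtain ⟨i, m, hm, hxm⟩ := Nat.exists_eq_pow_mul_and_not_dvd (orderOf_pos (π x)).ne' p hp.ne_one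
  have hxmo : orderOf (π x ^ m) ∣ p ^ i :=
    orderOf_dvd_of_pow_eq_one (by rw [← pow_mul, mul_comm, ← hxm, pow_orderOf_eq_one])
  have hxmF : π x ^ m ∈ F := hCF fun f hf => by
    refine CfsgLib.CN.commute_of_mem_centralizer hX hpa (hFcomm f hf _ haF)
      ((show Commute (π x) (π a) from hxa).pow_left m).eq ?_
    exact ((hFp.coprime_dvd_left (F.orderOf_dvd_natCard hf)).pow_right i).coprime_dvd_right hxmo
  have hxm1 : π x ^ m = 1 := orderOf_eq_one_iff.mp
    (Nat.eq_one_of_dvd_coprimes (hFp.pow_right i) (F.orderOf_dvd_natCard hxmF) hxmo)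
  refine mem_of_coprime_pow (a := p ^ n) (b := m) ((hp.coprime_iff_not_dvd.mpr hm).pow_left n) ?_ ?_
  · rw [← hn]
    exact Subgroup.pow_index_mem F _
  · rw [hxm1]
    exact one_mem _

/-- Let G be a finite solvable group in which every non-identity element has nilpotent centralizer. Then either G is nilpotent; or G has a normal subgroup K with a Frobenius complement E (K E = G, K ∩ E = 1, E meets its conjugates by outside elements trivially) such that E is cyclic or E is generated by two elementwise-commuting subgroups, one cyclic of odd order and one isomorphic to a generalized quaternion group; or G is a three-step group with respect to some prime p. -/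
theorem result {G : Type*} [Group G] [Finite G] [Group.IsSolvable G] (hCN : Cfsg.IsCNGroup G) :
    Group.IsNilpotent G ∨
      (∃ K E : Subgroup G, K.Normal ∧ Subgroup.IsComplement' K E ∧ Cfsg.IsFrobeniusComplement E ∧
        (IsCyclic E ∨ ∃ C Q : Subgroup G, C ⊔ Q = E ∧ (∀ a ∈ C, ∀ b ∈ Q, a * b = b * a) ∧ IsCyclic C ∧ Odd (Nat.card C) ∧
          ∃ n : ℕ, Nonempty (↥Q ≃* QuaternionGroup (2 ^ n)))) ∨
      ∃ p : ℕ, p.Prime ∧ Cfsg.IsThreeStepGroup p G := by
  by_cases hnil : Group.IsNilpotent G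
  · exact Or.inl hnil
  refine Or.inr ?_
  by_cases hA : ∃ p : ℕ, p.Prime ∧ ∃ P : Sylow p G, (P : Subgroup G) ≠ ⊥ ∧ (P : Subgroup G).Normal
  · left
    obtain ⟨p, hp, P, hP1, hPn⟩ := hA
    haveI := Fact.mk hp
    obtain ⟨hK1, -, ⟨E, hE, hEf, hfpf⟩, hKnil⟩ := Cfsg.Agent.S1474.result hCN hnil p P hP1 hPn
    refine ⟨Cfsg.fittingHall G, E, inferInstance, hE, hEf, ?_⟩
    obtain ⟨V, hVc, hV1, hVn, hVf⟩ := CfsgLib.Frob.exists_abelian_module hE hK1 hEf.1 hfpf
    haveI := hVc
    haveI := hKnil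
    exact nilpotent_fpf_structure hV1 hVn hVf (Group.nilpotent_of_mulEquiv hE.symm.QuotientMulEquiv)
  right
  haveI : Nontrivial G := by
    by_contra h
    rw [not_nontrivial_iff_subsingleton] at h
    exact hnil inferInstance
  obtain ⟨N, hNn, -, hN0, hNmin⟩ := CfsgLib.exists_minimal_normal (N := (⊤ : Subgroup G)) top_ne_bot
  haveI := hNn
  obtain ⟨-, p, hp, hNp⟩ := CfsgLib.minimal_normal_elementary hN0 inferInstance hNmin
  haveI := Fact.mk hp
  have hO : Cfsg.pCore p G ≠ ⊥ := fun e => hN0 (le_bot_iff.mp (e ▸ CfsgLib.le_pCore (N := N)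
    (fun g => ⟨1, Subtype.ext (by simpa using hNp g g.2)⟩)))
  obtain ⟨S⟩ : Nonempty (Sylow p G) := inferInstance
  exact ⟨p, hp, three_step hCN hO S fun hn => hA ⟨p, hp, S,
    fun e => hO (le_bot_iff.mp (e ▸ CfsgLib.pCore_le_sylow S)), hn⟩⟩

end Cfsg.Agent.S1476
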