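import Cfsg.Statements.S1480
import Cfsg.Agent.Lib.Transitivity
-- import your own Cfsg.Agent.* helpers here

set_option autoImplicit false
open Cfsg

namespace Cfsg.Agent.S1480

open scoped commutatorElement

/-- Let G be a finite group and p a prime such that the normalizer of every nontrivial p-subgroup of G is p-constrained; if p = 2 assume also that the Sylow 2-subgroups of G have nilpotency class at most 2. Let E be an abelian p-subgroup containing an elementary abelian subgroup of order p ^ 3 and containing every element of p-power order of C_G(E). Then for every prime q ≠ p, any two maximal E-invariant q-subgroups of G are conjugate by an element of O_{p'}(C_G(E)). -/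
theorem result {G : Type*} [Group G] [Finite G] (p : ℕ) [Fact p.Prime]
    (hloc : ∀ T : Subgroup G, IsPGroup p T → T ≠ ⊥ → Cfsg.IsPConstrained p ↥(Subgroup.normalizer (T : Set G)))
    (h2 : p = 2 → ∀ S : Sylow p G, Group.IsNilpotent (S : Subgroup G) ∧ Group.nilpotencyClass (S : Subgroup G) ≤ 2)
    (E : Subgroup G) (hEp : IsPGroup p E) (hEc : IsMulCommutative E) (hE3 : ¬ Cfsg.PRankLE p 2 E)
    (hEfull : ∀ x ∈ Subgroup.centralizer (E : Set G), IsPGroup p (Subgroup.zpowers x) → x ∈ E)
    (q : ℕ) [Fact q.Prime] (hqp : q ≠ p) :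
    ∀ Q₁ ∈ Cfsg.maxInvSubgroups ⊤ E {q}, ∀ Q₂ ∈ Cfsg.maxInvSubgroups ⊤ E {q},
        ∃ k ∈ Cfsg.piCoreOf (Cfsg.primesNotDvd p) (Subgroup.centralizer (E : Set G)), Q₂ = Q₁.map (MulAut.conj k).toMonoidHom := by
  intro Q₁ h₁ Q₂ h₂'
  haveI := hEc
  refine CfsgLib.Transitivity.transitivity hloc (fun hp T hT a ha b hb c hc => ?_) E hEp hE3
    (fun x hx hxp => hEfull x hx ?_) q hqp Q₁ Q₂ h₁ h₂'
  · obtain ⟨S, hS⟩ := hT.exists_le_sylow
    obtain ⟨hnil, hcl⟩ := h2 hp S
    haveI := hnil
    have h3 : ⁅⁅(⟨a, hS ha⟩ : (S : Subgroup G)), (⟨b, hS hb⟩ : (S : Subgroup G))⁆, (⟨c, hS hc⟩ : (S : Subgroup G))⁆ ∈ (⊤ : Subgroup (S : Subgroup G)).lowerCentralSeries 2 := by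
      rw [Subgroup.lowerCentralSeries_succ, Subgroup.lowerCentralSeries_succ, Subgroup.lowerCentralSeries_zero]
      exact Subgroup.commutator_mem_commutator (Subgroup.commutator_mem_commutator (Subgroup.mem_top _) (Subgroup.mem_top _)) (Subgroup.mem_top _)
    rw [Subgroup.lowerCentralSeries_eq_bot_iff_nilpotencyClass_le.mpr hcl, Subgroup.mem_bot,
      commutatorElement_eq_one_iff_mul_comm] at h3
    exact congrArg Subtype.val h3
  · obtain ⟨k, hk⟩ := hxp
    rintro ⟨_, i, rfl⟩
    refine ⟨k, Subtype.ext ?_⟩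
    show (x ^ i) ^ p ^ k = 1
    rw [← zpow_natCast, ← zpow_mul, mul_comm, zpow_mul, zpow_natCast, hk, one_zpow]

end Cfsg.Agent.S1480
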