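import Cfsg.Statements.S1485
import Cfsg.Agent.Lib.CharTheory
import Cfsg.Agent.Lib.CharTheory.Clifford
-- import your own Cfsg.Agent.* helpers here

set_option autoImplicit false
open Cfsg

namespace Cfsg.Agent.S1485

open CfsgLib.CharTheory

/-- Let H be a normal subgroup of the finite group G and θ an irreducible character of H. On H, the function induced from θ equals r times the sum of the distinct G-conjugates of θ, where r is the number of elements of G fixing θ under conjugation divided by the order of H (the index of H in the inertia group). -/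
theorem result {G : Type*} [Group G] [Fintype G] (H : Subgroup G) [hN : H.Normal] (θ : H → ℂ) (hθ : Cfsg.IsIrrCharacter H θ) : (fun h : H => Cfsg.indFun H θ h) = ((Nat.card {g : G // ∀ h : H, θ ⟨g * h * g⁻¹, hN.conj_mem h h.2 g⟩ = θ h} : ℂ) / (Nat.card H : ℂ)) • ∑ᶠ ψ ∈ {ψ : H → ℂ | ∃ g : G, ψ = fun h : H => θ ⟨g * h * g⁻¹, hN.conj_mem h h.2 g⟩}, ψ := by
  rw [show {ψ : H → ℂ | ∃ g : G, ψ = fun h : H => θ ⟨g * h * g⁻¹, hN.conj_mem h h.2 g⟩} =
    ↑(conjOrbit H θ) from Set.ext fun ψ => by
      simp only [Set.mem_setOf_eq, Finset.mem_coe, mem_conjOrbit]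
      exact exists_congr fun g => eq_comm,
    finsum_mem_coe_finset, indFun_res_eq_sum_conj, sum_conjNormFun, smul_smul, div_eq_inv_mul]
  congr 3
  exact (Nat.card_congr (Equiv.subtypeEquivRight fun g => by
    rw [mem_inertia]; exact funext_iff)).trans rfl

end Cfsg.Agent.S1485
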