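import Cfsg.Statements.S1487
import Cfsg.Agent.Lib.CharTheory
import Cfsg.Agent.Lib.CharTheory.Clifford
-- import your own Cfsg.Agent.* helpers here

set_option autoImplicit false
open Cfsg

namespace Cfsg.Agent.S1487

open CfsgLib.CharTheory

/-- Let A ≤ H be normal subgroups of the finite group G and θ an irreducible character of H. Then θ takes the value θ 1 on all of A if and only if the function induced from θ to G takes its value at 1 on all of A. -/
theorem result {G : Type*} [Group G] [Fintype G] (A H : Subgroup G) [A.Normal] [H.Normal] (hAH : A ≤ H) (θ : H → ℂ) (hθ : Cfsg.IsIrrCharacter H θ) : (∀ a : H, (a : G) ∈ A → θ a = θ 1) ↔ (∀ a : G, a ∈ A → Cfsg.indFun H θ a = Cfsg.indFun H θ 1) := by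
  have := Fintype.ofFinite H
  have h1 : Cfsg.indFun H θ 1 = (Nat.card H : ℂ)⁻¹ * ∑ _x : G, θ 1 := by
    rw [show (1 : G) = ((1 : H) : G) from rfl, indFun_normal_apply]
    congr 1
    exact Finset.sum_congr rfl fun x _ => congrArg θ (Subtype.ext (by simp))
  refine ⟨fun h a ha => ?_, fun h a ha => ?_⟩
  · rw [h1, show a = ((⟨a, hAH ha⟩ : H) : G) from rfl, indFun_normal_apply]
    congr 1
    exact Finset.sum_congr rfl fun x _ => h _ (Subgroup.Normal.conj_mem ‹A.Normal› a ha x)
  · have h2 := h a ha
    rw [h1, indFun_normal_apply] at h2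
    have h3 := congrArg Complex.re (mul_left_cancel₀
      (inv_ne_zero (Nat.cast_ne_zero.mpr (Nat.card_pos (α := H)).ne')) h2)
    rw [Complex.re_sum, Complex.re_sum] at h3
    obtain ⟨d, hd, hd1⟩ := irr_degree_pos hθ
    have hle : ∀ y : H, (θ y).re ≤ d := fun y => (Complex.re_le_norm _).trans
      ((norm_char_le (isCharacter_of_irr hθ) y).trans (by rw [hd1, Complex.norm_natCast]))
    have h4 : (θ a).re = d := by
      have := (Finset.sum_eq_sum_iff_of_le (fun x _ => by
        rw [hd1, Complex.natCast_re]; exact hle _)).mp h3 1 (Finset.mem_univ _)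
      simpa [hd1] using this
    have h5 : ‖θ a‖ ≤ (θ a).re := by
      rw [h4, ← Complex.norm_natCast d, ← hd1]
      exact norm_char_le (isCharacter_of_irr hθ) a
    have h6 := Complex.re_eq_norm.mp (le_antisymm (Complex.re_le_norm _) h5)
    rw [hd1]
    exact Complex.ext (by simp [h4]) (by simpa using (Complex.le_def.mp h6).2.symm)

end Cfsg.Agent.S1487
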