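import Cfsg.Statements.S1492
import Mathlib
import Cfsg.Agent.Lib.CharTheory.OddBasics
-- import your own Cfsg.Agent.* helpers here

set_option autoImplicit false
open Cfsg

namespace Cfsg.Agent.S1492

/-- Let ψ be an irreducible character of the finite group G and B ≤ D ≤ C subgroups with B normal in C, every commutator of an element of D with an element of C lying in B (so D/B is central in C/B), and ψ constant equal to ψ 1 on B. Then ψ(1) ^ 2 * |C| * |D| ≤ |G| ^ 2. -/
theorem result {G : Type*} [Group G] [Finite G] (ψ : G → ℂ) (hψ : Cfsg.IsIrrCharacter G ψ) (B C D : Subgroup G) (hBD : B ≤ D) (hDC : D ≤ C) (hBn : ∀ c ∈ C, ∀ b ∈ B, c * b * c⁻¹ ∈ B) (hcent : ∀ d ∈ D, ∀ c ∈ C, d * c * d⁻¹ * c⁻¹ ∈ B) (hker : ∀ b ∈ B, ψ b = ψ 1) : ‖ψ 1‖ ^ 2 * (Nat.card C : ℝ) * (Nat.card D : ℝ) ≤ (Nat.card G : ℝ) ^ 2 := by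
  classical
  haveI := Fintype.ofFinite G
  haveI := Fintype.ofFinite C
  have hch := CfsgLib.CharTheory.isCharacter_of_irr hψ
  have hres := CfsgLib.CharTheory.isCharacter_restrict hch C
  obtain ⟨θ, hθ, hne⟩ := CfsgLib.CharTheory.exists_constituent hres
    (fun e => CfsgLib.CharTheory.irr_ne_zero hψ (congrFun e 1))
  have hθker : ∀ b : C, (b : G) ∈ B → θ b = θ 1 := by
    intro b hb
    have hsub := CfsgLib.CharTheory.isCharacter_sub_irr hres hθ hne
    have h1 := CfsgLib.CharTheory.norm_char_le hsub b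
    have h2 := CfsgLib.CharTheory.norm_char_le (CfsgLib.CharTheory.isCharacter_of_irr hθ) b
    obtain ⟨s, hs⟩ := CfsgLib.CharTheory.char_one_eq_natCast hsub
    obtain ⟨t, -, ht⟩ := CfsgLib.CharTheory.irr_degree_pos hθ
    have h3 : ψ b = ψ 1 := hker b hb
    simp only [Pi.sub_apply] at h1 hs
    rw [hs, Complex.norm_natCast] at h1
    rw [ht, Complex.norm_natCast] at h2
    have h4 : (ψ ((1 : C) : G)) = (s : ℂ) + t := by rw [← hs, ← ht]; ring
    rw [h3, show ψ 1 = (s : ℂ) + t from h4] at h1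
    refine (ht.trans ?_).symm
    apply Complex.ext
    · have hre := (Complex.re_le_norm (↑s + ↑t - θ b)).trans h1
      have hre2 := (Complex.re_le_norm (θ b)).trans h2
      simp at hre hre2 ⊢
      linarith
    · have hre := (Complex.re_le_norm (↑s + ↑t - θ b)).trans h1
      have hre2 := (Complex.re_le_norm (θ b)).trans h2
      simp at hre hre2
      have hret : (θ b).re = t := by linarith
      have hn : (θ b).re ^ 2 + (θ b).im ^ 2 ≤ (t : ℝ) ^ 2 := by
        have := pow_le_pow_left₀ (norm_nonneg _) h2 2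
        rw [Complex.sq_norm, Complex.normSq_apply] at this
        nlinarith
      rw [hret] at hn
      simp
      nlinarith [sq_nonneg (θ b).im]
  obtain ⟨n, ρ, hρ, hρc⟩ := hθ
  haveI := hρ
  have hdim : θ 1 = n := by rw [← hρc, ρ.char_one, Module.finrank_fin_fun]
  have hbound := CfsgLib.CharTheory.degree_sq_mul_card_le ρ (D.subgroupOf C) fun d hd c => by
    have h1 : ρ (d * c * d⁻¹ * c⁻¹) = 1 := CfsgLib.CharTheory.rep_apply_eq_one_of_char_eq ρ (by
      rw [hρc]; exact hθker _ (hcent d hd c c.2))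
    calc ρ d * ρ c = ρ (d * c * d⁻¹ * c⁻¹) * (ρ c * ρ d) := by rw [← map_mul, ← map_mul, ← map_mul]; congr 1; group
      _ = ρ c * ρ d := by rw [h1, one_mul]
  rw [Module.finrank_fin_fun, Nat.card_congr (Subgroup.subgroupOfEquivOfLe hDC).toEquiv] at hbound
  have hθ' : IsIrrCharacter C θ := ⟨n, ρ, hρ, hρc⟩
  rw [← CfsgLib.CharTheory.frobenius_reciprocity' C θ (CfsgLib.CharTheory.isClassFunction_irr hψ), ← CfsgLib.CharTheory.classInner_comm] at hne
  have hne' : Cfsg.classInner (Cfsg.indFun C θ) ψ ≠ 0 := fun e => hne (by rw [e, map_zero])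
  obtain ⟨m, hm⟩ := CfsgLib.CharTheory.char_one_eq_natCast (CfsgLib.CharTheory.isCharacter_sub_irr (CfsgLib.CharTheory.isCharacter_indFun C (CfsgLib.CharTheory.isCharacter_of_irr hθ')) hψ hne')
  obtain ⟨a, ha, hae⟩ := CfsgLib.CharTheory.irr_degree_pos hψ
  rw [Pi.sub_apply, CfsgLib.CharTheory.indFun_apply_one, hae, hdim] at hm
  have hle : a ≤ C.index * n := by
    have : C.index * n = a + m := by exact_mod_cast (by linear_combination hm : ((C.index : ℂ) * n = a + m))
    omega
  rw [hae, Complex.norm_natCast]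
  have hG : Nat.card C * C.index = Nat.card G := C.card_mul_index
  have : a ^ 2 * Nat.card C * Nat.card D ≤ Nat.card G ^ 2 := by
    calc a ^ 2 * Nat.card C * Nat.card D ≤ (C.index * n) ^ 2 * Nat.card C * Nat.card D := by gcongr
      _ = C.index ^ 2 * Nat.card C * (n ^ 2 * Nat.card D) := by ring
      _ ≤ C.index ^ 2 * Nat.card C * Nat.card C := by gcongr
      _ = Nat.card G ^ 2 := by rw [← hG]; ring
  exact_mod_cast this

end Cfsg.Agent.S1492
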