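import Cfsg.Statements.S1493
import Mathlib
import Cfsg.Agent.Lib.CharTheory.PowerMap
-- import your own Cfsg.Agent.* helpers here

set_option autoImplicit false
open Cfsg

namespace Cfsg.Agent.S1493

/-- Let G be a finite group of order a * b with a and b coprime, let k be coprime to a, and let χ be a character of G. Then there is a character χ' of G such that χ'(g) = χ(g ^ k) whenever the order of g divides a and χ'(g) = χ(g) whenever the order of g is coprime to a; moreover χ' is irreducible if χ is. -/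
theorem result {G : Type*} [Group G] [Finite G] (a b k : ℕ) (hab : Nat.card G = a * b) (hcop : Nat.Coprime a b) (hk : Nat.Coprime k a) (χ : G → ℂ) (hχ : Cfsg.IsCharacter G χ) : ∃ χ' : G → ℂ, Cfsg.IsCharacter G χ' ∧ (Cfsg.IsIrrCharacter G χ → Cfsg.IsIrrCharacter G χ') ∧ (∀ g : G, orderOf g ∣ a → χ' g = χ (g ^ k)) ∧ (∀ g : G, Nat.Coprime (orderOf g) a → χ' g = χ g) := by
  classical
  haveI := Fintype.ofFinite G
  obtain ⟨k', h1, h2⟩ := Nat.chineseRemainder hcop k 1
  have hk' : k'.Coprime (Nat.card G) := by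
    rw [hab]
    refine Nat.Coprime.mul_right ?_ ?_
    · show Nat.gcd k' a = 1
      rw [h1.gcd_eq]; exact hk
    · show Nat.gcd k' b = 1
      rw [h2.gcd_eq, Nat.gcd_one_left]
  refine ⟨fun g => χ (g ^ k'), ?_, fun hi => CfsgLib.CharTheory.isIrrCharacter_pow hi hk', fun g hg => ?_, fun g hg => ?_⟩
  · obtain ⟨l, hl, rfl⟩ := CfsgLib.CharTheory.exists_list_irr hχ
    clear hχ
    induction l with
    | nil => exact CfsgLib.CharTheory.isCharacter_zero
    | cons x t ih =>
      have h3 := CfsgLib.CharTheory.isCharacter_add (CfsgLib.CharTheory.isCharacter_of_irr (CfsgLib.CharTheory.isIrrCharacter_pow (hl x List.mem_cons_self) hk')) (ih fun y hy => hl y (List.mem_cons_of_mem _ hy))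
      simp only [List.sum_cons, Pi.add_apply]
      exact h3
  · exact congrArg χ (pow_eq_pow_iff_modEq.mpr (h1.of_dvd hg))
  · have hgb : orderOf g ∣ b := hg.dvd_of_dvd_mul_left (hab ▸ orderOf_dvd_natCard g)
    show χ (g ^ k') = χ g
    conv_rhs => rw [← pow_one g]
    exact congrArg χ (pow_eq_pow_iff_modEq.mpr (h2.of_dvd hgb))

end Cfsg.Agent.S1493
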