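import Cfsg.Statements.S1497
import Mathlib
import Cfsg.Agent.Lib.CharTheory.OddBasics
-- import your own Cfsg.Agent.* helpers here

set_option autoImplicit false
open Cfsg

namespace Cfsg.Agent.S1497

/-- Let A be a nonempty subset of the finite group G not containing 1 and L a subgroup. Then A is a TI-subset whose normaliser is L if and only if the Dade hypothesis holds for A, L and the constant choice H(a) = ⊥. -/
theorem result {G : Type*} [Group G] [Finite G] (A : Set G) (hA : A.Nonempty) (h1 : (1 : G) ∉ A) (L : Subgroup G) : (Cfsg.IsTISubset A ∧ Subgroup.normalizer A = L) ↔ Cfsg.DadeHypothesis A L (fun _ => ⊥) := by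
  have hpow : ∀ c a : G, c ∈ Subgroup.centralizer ({a} : Set G) → c * a * c⁻¹ = a := fun c a hc => by
    rw [← Subgroup.mem_centralizer_iff.mp hc a rfl]; group
  constructor
  · rintro ⟨hTI, hN⟩
    have hnm : ∀ g a : G, a ∈ A → g * a * g⁻¹ ∈ A → g ∈ L := fun g a ha hga => by
      rw [← hN]
      by_contra hg
      exact h1 (hTI g hg a ha hga ▸ ha)
    have hCL : ∀ a ∈ A, Subgroup.centralizer ({a} : Set G) ≤ L := fun a ha c hc => hnm c a ha (by rw [hpow c a hc]; exact ha)
    exact ⟨h1, fun a ha => hnm a a ha (by simpa using ha), fun x hx a ha => by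
        rw [← hN] at hx
        exact (Subgroup.mem_set_normalizer_iff.mp hx a).mp ha,
      fun a ha g hga => ⟨g, hnm g a ha hga, rfl⟩, fun a _ => bot_le, fun a _ c _ u hu => by simp [Subgroup.mem_bot.mp hu],
      fun a _ => bot_inf_eq _, fun a ha => by rw [bot_sup_eq]; exact inf_eq_right.mpr (hCL a ha),
      fun a _ b _ => by rw [Subgroup.card_bot]; exact Nat.coprime_one_left _⟩
  · intro hD
    have hCL : ∀ a ∈ A, Subgroup.centralizer ({a} : Set G) ≤ L := fun a ha => by
      rw [← hD.sup_eq a ha, bot_sup_eq]; exact inf_le_left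
    have hnm : ∀ g a : G, a ∈ A → g * a * g⁻¹ ∈ A → g ∈ L := fun g a ha hga => by
      obtain ⟨x, hx, he⟩ := hD.fusion a ha g hga
      have : x⁻¹ * g ∈ Subgroup.centralizer ({a} : Set G) := Subgroup.mem_centralizer_iff.mpr fun w hw => by
        rw [Set.mem_singleton_iff.mp hw]
        calc a * (x⁻¹ * g) = x⁻¹ * (x * a * x⁻¹) * g := by group
          _ = x⁻¹ * (g * a * g⁻¹) * g := by rw [he]
          _ = x⁻¹ * g * a := by group
      simpa using L.mul_mem hx (hCL a ha this)
    have hLN : L ≤ Subgroup.normalizer A := fun x hx => Subgroup.mem_set_normalizer_iff.mpr fun a =>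
      ⟨hD.conj_mem x hx a, fun h => by simpa [mul_assoc] using hD.conj_mem x⁻¹ (L.inv_mem hx) _ h⟩
    have heq : Subgroup.normalizer A = L := le_antisymm (fun g hg => by
      obtain ⟨a, ha⟩ := hA
      exact hnm g a ha ((Subgroup.mem_set_normalizer_iff.mp hg a).mp ha)) hLN
    exact ⟨fun g hg a ha hga => absurd (heq ▸ hnm g a ha hga) hg, heq⟩

end Cfsg.Agent.S1497
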