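import Cfsg.Statements.S1498
import Mathlib
import Cfsg.Agent.Lib.CharTheory.OddBasics
-- import your own Cfsg.Agent.* helpers here

set_option autoImplicit false
open Cfsg

namespace Cfsg.Agent.S1498

/-- Under the Dade hypothesis for (A, L, H): for a ∈ A and x ∈ L, the subgroup attached to x * a * x⁻¹ is the conjugate of H a by x. -/
theorem result {G : Type*} [Group G] [Finite G] (A : Set G) (L : Subgroup G) (H : G → Subgroup G) (hD : Cfsg.DadeHypothesis A L H) (a : G) (ha : a ∈ A) (x : G) (hx : x ∈ L) : H (x * a * x⁻¹) = (H a).map (MulAut.conj x).toMonoidHom := by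
  classical
  have key : ∀ (a x : G), a ∈ A → x ∈ L → ∀ u ∈ H a, x * u * x⁻¹ ∈ H (x * a * x⁻¹) := by
    intro a x ha hx u hu
    set b := x * a * x⁻¹ with hb'
    have hb : b ∈ A := hD.conj_mem x hx a ha
    have hu1 := Subgroup.mem_centralizer_iff.mp (hD.le_centralizer a ha hu) a rfl
    have hv : x * u * x⁻¹ ∈ Subgroup.centralizer ({b} : Set G) := Subgroup.mem_centralizer_iff.mpr fun w hw => by
      rw [Set.mem_singleton_iff.mp hw, hb']
      calc x * a * x⁻¹ * (x * u * x⁻¹) = x * (a * u) * x⁻¹ := by group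
        _ = x * (u * a) * x⁻¹ := by rw [hu1]
        _ = x * u * x⁻¹ * (x * a * x⁻¹) := by group
    set v := x * u * x⁻¹ with hv'
    set C := L ⊓ Subgroup.centralizer ({b} : Set G) with hC
    have hnorm : C ≤ Subgroup.normalizer (H b : Set G) := fun c hc => Subgroup.mem_normalizer_iff.mpr fun w =>
      ⟨hD.conj_mem_H b hb c hc.2 w, fun h => by simpa [mul_assoc] using hD.conj_mem_H b hb c⁻¹ (inv_mem hc.2) _ h⟩
    rw [← hD.sup_eq b hb, sup_comm, ← SetLike.mem_coe, Subgroup.coe_mul_of_left_le_normalizer_right _ _ hnorm] at hv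
    obtain ⟨c, hc, w, hw, hcw⟩ := hv
    set P := H b ⊔ C with hP
    have hle : H b ≤ P := le_sup_left
    haveI : ((H b).subgroupOf P).Normal := (Subgroup.normal_subgroupOf_iff_le_normalizer hle).mpr (sup_le Subgroup.le_normalizer hnorm)
    let π := QuotientGroup.mk' ((H b).subgroupOf P)
    let cP : P := ⟨c, le_sup_right (a := H b) hc⟩
    let wP : P := ⟨w, hle hw⟩
    have h1 : π (cP * wP) = π cP := QuotientGroup.eq.mpr (by
      show ((cP * wP)⁻¹ * cP : G) ∈ H b
      simpa [cP, wP, mul_assoc] using inv_mem hw)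
    have h2 : orderOf (π cP) ∣ Nat.card C := (orderOf_map_dvd π cP).trans (by rw [← Subgroup.orderOf_coe]; exact C.orderOf_dvd_natCard hc)
    have h3 : orderOf (π cP) ∣ Nat.card (H a) := by
      rw [← h1]
      refine (orderOf_map_dvd π _).trans ?_
      rw [← Subgroup.orderOf_coe]
      show orderOf (c * w) ∣ _
      have hcw' : c * w = v := hcw
      rw [hcw', hv', show orderOf (x * u * x⁻¹) = orderOf u from MulEquiv.orderOf_eq (MulAut.conj x) u]
      exact (H a).orderOf_dvd_natCard hu
    have h4 : π cP = 1 := orderOf_eq_one_iff.mp (Nat.eq_one_of_dvd_coprimes (hD.coprime a ha b hb) h3 h2)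
    have h5 : c ∈ H b := (QuotientGroup.eq_one_iff cP).mp h4
    exact hcw ▸ (H b).mul_mem h5 hw
  refine le_antisymm (fun v hv => ?_) ?_
  · refine ⟨x⁻¹ * v * x, ?_, by simp [mul_assoc]⟩
    have := key _ x⁻¹ (hD.conj_mem x hx a ha) (L.inv_mem hx) v hv
    simpa [mul_assoc] using this
  · rintro _ ⟨u, hu, rfl⟩
    exact key a x ha hx u hu

end Cfsg.Agent.S1498
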