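import Cfsg.Statements.S1504
import Mathlib
import Cfsg.Agent.Lib.CharTheory.CyclicTI
-- import your own Cfsg.Agent.* helpers here

set_option autoImplicit false
open Cfsg

namespace Cfsg.Agent.S1504

/-- Let W₁, W₂ be subgroups of a finite group with W₁ ⊓ W₂ = ⊥ whose elements commute, and W = W₁ ⊔ W₂. For linear characters φ, ψ of W with φ trivial on W₂ and ψ trivial on W₁, the function (1 − φ)(1 − ψ) vanishes on W₁ ∪ W₂; and the family of these functions, indexed by pairs (φ, ψ) with φ ≠ 1 ≠ ψ, is linearly independent over ℂ. -/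
theorem result {G : Type*} [Group G] [Finite G] (W₁ W₂ : Subgroup G) (hdisj : W₁ ⊓ W₂ = ⊥) (hcomm : ∀ a ∈ W₁, ∀ b ∈ W₂, a * b = b * a) : (∀ φ ψ : ↥(W₁ ⊔ W₂) →* ℂˣ, (∀ w : ↥(W₁ ⊔ W₂), (w : G) ∈ W₂ → φ w = 1) → (∀ w : ↥(W₁ ⊔ W₂), (w : G) ∈ W₁ → ψ w = 1) → ∀ w : ↥(W₁ ⊔ W₂), ((w : G) ∈ W₁ ∨ (w : G) ∈ W₂) → (1 - (φ w : ℂ) - (ψ w : ℂ) + (φ w : ℂ) * (ψ w : ℂ)) = 0) ∧ LinearIndependent ℂ (fun p : {p : (↥(W₁ ⊔ W₂) →* ℂˣ) × (↥(W₁ ⊔ W₂) →* ℂˣ) // p.1 ≠ 1 ∧ p.2 ≠ 1 ∧ (∀ w : ↥(W₁ ⊔ W₂), (w : G) ∈ W₂ → p.1 w = 1) ∧ (∀ w : ↥(W₁ ⊔ W₂), (w : G) ∈ W₁ → p.2 w = 1)} => fun w : ↥(W₁ ⊔ W₂) => 1 - (p.1.1 w : ℂ) - (p.1.2 w : ℂ) + (p.1.1 w : ℂ) * (p.1.2 w : ℂ)) := by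
  classical
  haveI := Fintype.ofFinite ↥(W₁ ⊔ W₂)
  refine ⟨fun φ ψ hφ hψ w hw => CfsgLib.CharTheory.cycBeta_eq_zero φ ψ hφ hψ w hw, ?_⟩
  rw [linearIndependent_iff']
  intro s c hc q hq
  have h := congrArg (fun f => Cfsg.classInner f (fun w => (((q.1.1 * q.1.2 : ↥(W₁ ⊔ W₂) →* ℂˣ)) w : ℂ))) hc
  simp only [CfsgLib.CharTheory.classInner_sum_left, CfsgLib.CharTheory.classInner_smul_left, CfsgLib.CharTheory.classInner_zero_left] at h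
  rw [Finset.sum_eq_single q] at h
  · obtain ⟨⟨φ, ψ⟩, hφ, hψ, hφ₂, hψ₁⟩ := q
    obtain ⟨h1, h2, h3, -, -, -⟩ := CfsgLib.CharTheory.cyc_prod_facts hcomm hφ hψ hφ₂ hφ₂ hψ₁ hψ₁
    have := CfsgLib.CharTheory.classInner_cycBeta_linear φ ψ (φ * ψ)
    rw [if_neg (Ne.symm h1), if_neg h2, if_neg h3, if_pos rfl] at this
    change c _ * Cfsg.classInner (CfsgLib.CharTheory.cycBeta φ ψ) _ = 0 at h
    rw [this] at h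
    simpa using h
  · intro p _ hne
    obtain ⟨⟨φ, ψ⟩, hφ, hψ, hφ₂, hψ₁⟩ := q
    obtain ⟨⟨φ', ψ'⟩, hφ', hψ', hφ₂', hψ₁'⟩ := p
    obtain ⟨h1, h2, h3, h4, -, -⟩ := CfsgLib.CharTheory.cyc_prod_facts hcomm hφ hψ hφ₂' hφ₂ hψ₁' hψ₁
    have := CfsgLib.CharTheory.classInner_cycBeta_linear φ' ψ' (φ * ψ)
    rw [if_neg (Ne.symm h1), if_neg h2, if_neg h3, if_neg (fun e => hne (by obtain ⟨rfl, rfl⟩ := h4.mp e; rfl))] at this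
    change c _ * Cfsg.classInner (CfsgLib.CharTheory.cycBeta φ' ψ') _ = 0
    rw [this]; simp
  · exact fun h' => absurd hq h'

end Cfsg.Agent.S1504
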