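import Cfsg.Statements.S1512
import Mathlib
import Cfsg.Agent.Lib.CharTheory.OddBasics
-- import your own Cfsg.Agent.* helpers here

set_option autoImplicit false
open Cfsg

namespace Cfsg.Agent.S1512

/-- Let K be a normal subgroup of the finite group L and x a non-identity element whose order is coprime to the order of K, such that K ⊓ C_L(y) = W₂ for every non-identity element y of the cyclic group generated by x. Then the number of conjugacy classes of K mapped to themselves by conjugation by x is at most Nat.card W₂. -/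
theorem result {L : Type*} [Group L] [Finite L] (K W₂ : Subgroup L) [hK : K.Normal] (x : L) (hx1 : x ≠ 1) (hx : Nat.Coprime (orderOf x) (Nat.card K)) (hC : ∀ y ∈ Subgroup.zpowers x, y ≠ 1 → K ⊓ Subgroup.centralizer ({y} : Set L) = W₂) : Nat.card {C : ConjClasses K // ConjClasses.map (MulEquiv.toMonoidHom ((MulAut.conjNormal x : MulAut K))) C = C} ≤ Nat.card W₂ := by
  classical
  have hfix : K ⊓ Subgroup.centralizer ({x} : Set L) = W₂ := hC x (Subgroup.mem_zpowers x) hx1
  have hW : ∀ w : W₂, (w : L) ∈ K := fun w => ((hfix.ge) w.2).1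
  refine Nat.card_le_card_of_surjective (fun w : W₂ => ⟨ConjClasses.mk (⟨w, hW w⟩ : K), ?_⟩) ?_
  · have hw := (Subgroup.mem_centralizer_iff.mp ((hfix.ge) w.2).2) x rfl
    show ConjClasses.mk _ = _
    congr 1
    refine Subtype.ext ?_
    show x * (w : L) * x⁻¹ = w
    rw [hw]; group
  · rintro ⟨C, hCx⟩
    obtain ⟨a, rfl⟩ := ConjClasses.mk_surjective C
    have ha : IsConj a ⟨x * a * x⁻¹, hK.conj_mem a a.2 x⟩ := ConjClasses.mk_eq_mk_iff_isConj.mp hCx.symm
    obtain ⟨b, hb, hbx⟩ := CfsgLib.CharTheory.exists_fixed_in_class K hx a ha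
    refine ⟨⟨b, hfix.le ⟨b.2, Subgroup.mem_centralizer_iff.mpr fun w hw => by rw [Set.mem_singleton_iff.mp hw]; exact hbx⟩⟩, Subtype.ext ?_⟩
    show ConjClasses.mk (⟨(b : L), _⟩ : K) = ConjClasses.mk a
    exact (ConjClasses.mk_eq_mk_iff_isConj.mpr hb).symm

end Cfsg.Agent.S1512
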