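import Cfsg.Statements.S1522
import Mathlib
import Cfsg.Agent.Lib.CharTheory.CoherenceChain
import Cfsg.Agent.S1521
-- import your own Cfsg.Agent.* helpers here

set_option autoImplicit false
open Cfsg

namespace Cfsg.Agent.S1522

/-- Let K be a nilpotent normal subgroup of the finite group L of odd order with [K,K] < K < L and L/[K,K] a Frobenius group with kernel K/[K,K] (elements of K outside [K,K] are centralised modulo [K,K] only from inside K); let (S, τ, R) be a coherence system from L to G with S the functions induced from non-principal irreducible characters of K. Let Z be a nontrivial normal subgroup of L contained in the centre of K, and suppose every member of S outside S(Z) is an irreducible character of L. Then S minus S(Z) is the set of irreducible characters χ of L with χ z ≠ χ 1 for some z ∈ Z, and it is coherent. -/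
theorem result {L : Type*} [Group L] [Fintype L] {G : Type*} [Group G] [Fintype G] (K : Subgroup L) [hK : K.Normal] (hsolv : Group.IsSolvable K) (τ : (L → ℂ) → (G → ℂ)) (R : (L → ℂ) → Finset (G → ℂ)) (hS : Cfsg.IsCoherenceSystem (Cfsg.inducedIrrAbove K ⊥) τ R) (hodd : Odd (Nat.card L)) (hnil : Group.IsNilpotent K) (hH₁K : ⁅K, K⁆ < K) (hKL : K < ⊤) (hfrob : ∀ k ∈ K, k ∉ ⁅K, K⁆ → ∀ x : L, x * k * x⁻¹ * k⁻¹ ∈ ⁅K, K⁆ → x ∈ K) (Z : Subgroup L) [Z.Normal] (hZ1 : Z ≠ ⊥) (hZK : Z ≤ K) (hZc : ∀ z ∈ Z, ∀ k ∈ K, z * k = k * z) (hirr : ∀ χ ∈ Cfsg.inducedIrrAbove K ⊥ \ Cfsg.inducedIrrAbove K Z, Cfsg.IsIrrCharacter L χ) : Cfsg.inducedIrrAbove K ⊥ \ Cfsg.inducedIrrAbove K Z = {χ | Cfsg.IsIrrCharacter L χ ∧ ∃ z ∈ Z, χ z ≠ χ 1} ∧ Cfsg.IsCoherent (Cfsg.inducedIrrAbove K ⊥ \ Cfsg.inducedIrrAbove K Z) {1}ᶜ τ := by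
    classical
    refine ⟨CfsgLib.CharTheory.nontrivial_central_eq K Z hZK hirr, ?_⟩
    have hbotn : ((⊥ : Subgroup L).subgroupOf K).Normal := inferInstance
    have hH : ⁅K, K⁆ = ⁅K, K⁆ ⊔ ⊥ := (sup_bot_eq _).symm
    have hcard : (⊥ : Subgroup L).relIndex K = Nat.card K := Subgroup.relIndex_bot_left K
    by_cases hpg : ∃ p m : ℕ, p.Prime ∧ (⊥ : Subgroup L).relIndex K = p ^ m
    · obtain ⟨p, a, hp, hpa⟩ := hpg
      have := Fact.mk hp
      rw [hcard] at hpa
      have hab : ⁅K, K⁆ ≤ K := hH₁K.le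
      have ha0 : a ≠ 0 := fun e => by
        rw [e, pow_zero, Subgroup.card_eq_one] at hpa
        subst hpa
        exact not_lt_bot hH₁K
      have hp2 : p % 2 = 1 := Nat.odd_iff.mp (hodd.of_dvd_nat ((dvd_pow_self p ha0).trans (hpa ▸ Subgroup.card_subgroup_dvd_card K)))
      have hd := CfsgLib.CharTheory.relIndex_dvd_sub_one K ⁅K, K⁆ K le_rfl hab le_rfl hfrob
      have hrd : (⁅K, K⁆ : Subgroup L).relIndex K ∣ p ^ a := hpa ▸ Subgroup.index_dvd_card _
      obtain ⟨j, -, hj⟩ := (Nat.dvd_prime_pow hp).mp hrd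
      have hj0 : j ≠ 0 := fun e => not_le_of_gt hH₁K (Subgroup.relIndex_eq_one.mp (by rw [hj, e, pow_zero]))
      have hcop : K.index.Coprime p := by
        refine Nat.Coprime.coprime_dvd_right (dvd_pow_self p hj0) ?_
        refine Nat.Coprime.coprime_dvd_left (hj ▸ hd) ?_
        have h1 : 1 ≤ p ^ j := Nat.one_le_pow _ _ hp.pos
        exact ((Nat.coprime_self_sub_left h1).mpr (Nat.coprime_one_left _))
      exact CfsgLib.CharTheory.coherent_nontrivial_central K hS (p := p) (a := a)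
        (by have := hp.two_le; omega) hpa hcop (Nat.one_le_iff_ne_zero.mpr Subgroup.index_ne_zero_of_finite) Z hZ1 hZK hZc hirr
    · have hn : Group.IsNilpotent (↥K ⧸ (⊥ : Subgroup L).subgroupOf K) :=
        Group.nilpotent_of_surjective (QuotientGroup.mk' _) (QuotientGroup.mk'_surjective _)
      have hcoh := Cfsg.Agent.S1521.result K hsolv τ R hS hodd ⊥ bot_le hn ⁅K, K⁆ hH hH₁K hKL hfrob
        (Or.inr (Or.inr (Or.inl hpg)))
      refine CfsgLib.CharTheory.coherent_mono Set.diff_subset ?_ hcoh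
      obtain ⟨χ, hχ⟩ := CfsgLib.CharTheory.nontrivial_central_nonempty K Z hZ1 hZK
      refine ⟨χ - Cfsg.conjFun χ, ⟨Submodule.sub_mem _ (Submodule.subset_span hχ) (Submodule.subset_span ⟨
        CfsgLib.CharTheory.inducedIrrAbove_conj K ⊥ hχ.1, fun h => hχ.2 (by
          simpa [CfsgLib.CharTheory.cs_conj_conj] using CfsgLib.CharTheory.inducedIrrAbove_conj K Z h)⟩),
        (CfsgLib.CharTheory.cs_sub_conj_mem hS hχ.1).2⟩, sub_ne_zero.mpr (Ne.symm (hS.conj_ne _ hχ.1))⟩

end Cfsg.Agent.S1522
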