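import Cfsg.Statements.S1524
import Mathlib
import Cfsg.Agent.Lib.CharTheory.SibleyKernel
import Cfsg.Agent.Lib.Coprime
-- import your own Cfsg.Agent.* helpers here

set_option autoImplicit false
open Cfsg

namespace Cfsg.Agent.S1524

/-- Let G be a finite group and H ≤ L subgroups with L of odd order, H ≠ ⊥ nilpotent and normal in L with a nontrivial complement W₁ in L (H ⊓ W₁ = ⊥, H ⊔ W₁ = L) acting on H without non-identity fixed points (L is a Frobenius group with kernel H), and suppose the underlying set of H is a TI-subset of G whose normaliser is L. Let S be the set of functions on L induced from the non-principal irreducible characters of H. Then (S, L minus 1, induction to G) is coherent. -/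
theorem result {G : Type*} [Group G] [Fintype G] (H L W₁ : Subgroup G) [Fintype L] (hodd : Odd (Nat.card L)) (hHL : H ≤ L) (hW₁L : W₁ ≤ L) (hH1 : H ≠ ⊥) (hW1 : W₁ ≠ ⊥) (hnil : Group.IsNilpotent H) (hHn : ∀ x ∈ L, ∀ h ∈ H, x * h * x⁻¹ ∈ H) (hinf : H ⊓ W₁ = ⊥) (hsup : H ⊔ W₁ = L) (hfpf : ∀ w ∈ W₁, w ≠ 1 → ∀ h ∈ H, w * h = h * w → h = 1) (hTI : Cfsg.IsTISubset (H : Set G)) (hN : Subgroup.normalizer (H : Set G) = L) : Cfsg.IsCoherent (Cfsg.inducedIrrAbove (H.subgroupOf L) ⊥) {1}ᶜ (fun α : L → ℂ => Cfsg.indFun L α) := by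
    classical
    have hKn : (H.subgroupOf L).Normal := ⟨fun n hn x => hHn x x.2 n hn⟩
    refine CfsgLib.CharTheory.sibley_ti_kernel H L hHL hN hodd hH1 (lt_top_iff_ne_top.mpr fun h => ?_) hnil hTI ?_
    · rw [Subgroup.subgroupOf_eq_top] at h
      exact hW1 (le_bot_iff.mp (hinf ▸ le_inf (hW₁L.trans h) le_rfl))
    · intro k hk hk1 x hx
      have hxk : (x : G) * (k : G) = (k : G) * x := congrArg Subtype.val (Subgroup.mem_centralizer_singleton_iff.mp hx)
      have hW₁H : W₁ ≤ Subgroup.normalizer (H : Set G) := hW₁L.trans hN.ge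
      have hxm : (x : G) ∈ H ⊔ W₁ := hsup.symm ▸ x.2
      obtain ⟨h, hh, w, hw, hhw⟩ := CfsgLib.mem_sup_of_le_normalizer hW₁H hxm
      by_contra hxK
      have hw1 : w ≠ 1 := fun e => hxK (show (x : G) ∈ H by rw [← hhw, e, mul_one]; exact hh)
      let f : H → H := fun u => ⟨(u : G) * (w * (u : G)⁻¹ * w⁻¹), H.mul_mem u.2
        ((Subgroup.mem_normalizer_iff.mp (hW₁H hw) _).mp (H.inv_mem u.2))⟩
      have hf : Function.Injective f := fun a b e => by
        have e' : (a : G) * (w * (a : G)⁻¹ * w⁻¹) = (b : G) * (w * (b : G)⁻¹ * w⁻¹) := congrArg Subtype.val e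
        have h1 : w * ((a : G)⁻¹ * b) * w⁻¹ = (a : G)⁻¹ * b := by
          calc w * ((a : G)⁻¹ * b) * w⁻¹ = (w * (a : G)⁻¹ * w⁻¹) * (w * (b : G)⁻¹ * w⁻¹)⁻¹ := by group
            _ = (a : G)⁻¹ * ((a : G) * (w * (a : G)⁻¹ * w⁻¹)) * (w * (b : G)⁻¹ * w⁻¹)⁻¹ := by group
            _ = _ := by rw [e']; group
        have := hfpf w hw hw1 _ (H.mul_mem (H.inv_mem a.2) b.2) (mul_inv_eq_iff_eq_mul.mp h1)
        exact Subtype.ext (inv_mul_eq_one.mp this)
      obtain ⟨u, hu⟩ := (Finite.injective_iff_surjective.mp hf) ⟨h, hh⟩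
      have hu' : (u : G) * (w * (u : G)⁻¹ * w⁻¹) = h := congrArg Subtype.val hu
      have hxu : (x : G) = (u : G) * w * (u : G)⁻¹ := by rw [← hhw, ← hu']; group
      have h2 : w * ((u : G)⁻¹ * k * u) = ((u : G)⁻¹ * k * u) * w := by
        calc w * ((u : G)⁻¹ * k * u) = (u : G)⁻¹ * (((u : G) * w * (u : G)⁻¹) * k) * u := by group
          _ = (u : G)⁻¹ * ((k : G) * ((u : G) * w * (u : G)⁻¹)) * u := by rw [← hxu, hxk]
          _ = _ := by group
      have h3 := hfpf w hw hw1 _ (H.mul_mem (H.mul_mem (H.inv_mem u.2) hk) u.2) h2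
      refine hk1 (Subtype.ext ?_)
      calc (k : G) = (u : G) * ((u : G)⁻¹ * k * u) * (u : G)⁻¹ := by group
        _ = 1 := by rw [show (u : G)⁻¹ * (k : G) * u = 1 from h3]; group

end Cfsg.Agent.S1524
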