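import Cfsg.Statements.S1527
import Mathlib
-- import your own Cfsg.Agent.* helpers here

set_option autoImplicit false
open Cfsg

namespace Cfsg.Agent.S1527

/-- Let G be a finite group and H i (i in a finite index type) subgroups of pairwise coprime orders, each of whose underlying sets is a TI-subset of G, such that every non-identity element of G is conjugate to an element of some H i. Then Nat.card G − 1 = Σ_i [G : N_G(H i)] · (Nat.card (H i) − 1). -/
theorem result {G : Type*} [Group G] [Finite G] {ι : Type*} [Fintype ι] (H : ι → Subgroup G) (hcop : ∀ i j, i ≠ j → Nat.Coprime (Nat.card (H i)) (Nat.card (H j))) (hTI : ∀ i, Cfsg.IsTISubset (H i : Set G)) (hcover : ∀ g : G, g ≠ 1 → ∃ i, ∃ x : G, x * g * x⁻¹ ∈ H i) : Nat.card G - 1 = ∑ i, (Subgroup.normalizer (H i : Set G)).index * (Nat.card (H i) - 1) := by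
  classical
  haveI := Fintype.ofFinite G
  let T := Σ i, (G ⧸ Subgroup.normalizer (H i : Set G)) × {h : H i // h ≠ 1}
  let f : T → {g : G // g ≠ 1} := fun t => ⟨(Quotient.out t.2.1) * (t.2.2.1 : G) * (Quotient.out t.2.1)⁻¹, fun e => t.2.2.2 (Subtype.ext (by simpa [mul_inv_eq_one] using e))⟩
  have hf : Function.Bijective f := by
    constructor
    · rintro ⟨i, q, ⟨h, hh⟩⟩ ⟨j, r, ⟨k, hk⟩⟩ e
      have e' : Quotient.out q * (h : G) * (Quotient.out q)⁻¹ = Quotient.out r * (k : G) * (Quotient.out r)⁻¹ := congrArg Subtype.val e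
      set x := (Quotient.out r)⁻¹ * Quotient.out q with hx
      have ek : x * (h : G) * x⁻¹ = k := by
        calc x * (h : G) * x⁻¹ = (Quotient.out r)⁻¹ * (Quotient.out q * (h : G) * (Quotient.out q)⁻¹) * Quotient.out r := by rw [hx]; group
          _ = k := by rw [e']; group
      have hij : i = j := by
        by_contra hne
        have h1 : orderOf (h : G) = orderOf (k : G) := by rw [← ek]; exact (MulEquiv.orderOf_eq (MulAut.conj x) (h : G)).symm
        have h2 := Nat.eq_one_of_dvd_coprimes (hcop i j hne) ((H i).orderOf_dvd_natCard h.2) (h1 ▸ (H j).orderOf_dvd_natCard k.2)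
        exact hh (Subtype.ext (orderOf_eq_one_iff.mp h2))
      subst hij
      have hxN : x ∈ Subgroup.normalizer (H i : Set G) := by
        by_contra hxN
        exact hh (Subtype.ext (hTI i x hxN h h.2 (by rw [ek]; exact k.2)))
      have hqr : q = r := by
        rw [← Quotient.out_eq q, ← Quotient.out_eq r]
        exact (QuotientGroup.eq.mpr (by simpa [hx] using hxN)).symm
      subst hqr
      have : (h : G) = k := by simpa using e'
      obtain rfl : h = k := Subtype.ext this
      rfl
    · rintro ⟨g, hg⟩
      obtain ⟨i, x, hx⟩ := hcover g hg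
      set q : G ⧸ Subgroup.normalizer (H i : Set G) := QuotientGroup.mk x⁻¹ with hq
      obtain ⟨n, hn⟩ := QuotientGroup.mk_out_eq_mul (Subgroup.normalizer (H i : Set G)) x⁻¹
      have hmem : (Quotient.out q)⁻¹ * g * Quotient.out q ∈ H i := by
        rw [hq, hn]
        have := (Subgroup.mem_normalizer_iff.mp (Subgroup.inv_mem _ n.2) (x * g * x⁻¹)).mp hx
        simpa [mul_assoc] using this
      refine ⟨⟨i, q, ⟨⟨_, hmem⟩, fun e => hg ?_⟩⟩, Subtype.ext ?_⟩
      · have e' := congrArg (fun z => Quotient.out q * z * (Quotient.out q)⁻¹) (congrArg Subtype.val e)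
        simpa [mul_assoc] using e'
      · show Quotient.out q * ((Quotient.out q)⁻¹ * g * Quotient.out q) * (Quotient.out q)⁻¹ = g
        group
  have h1 := Nat.card_eq_of_bijective f hf
  rw [Nat.card_sigma] at h1
  have h2 : Nat.card {g : G // g ≠ 1} = Nat.card G - 1 := by
    simp [Nat.card_eq_fintype_card, Fintype.card_subtype_compl]
  rw [← h2, ← h1]
  refine Finset.sum_congr rfl fun i _ => ?_
  haveI := Fintype.ofFinite (H i)
  rw [Nat.card_prod, ← Subgroup.index_eq_card]
  congr 1
  simp [Nat.card_eq_fintype_card, Fintype.card_subtype_compl]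

end Cfsg.Agent.S1527
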