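import Cfsg.Statements.S1528
import Cfsg.Agent.Lib.CharTheory
import Cfsg.Agent.Lib.CharTheory.Clifford
-- import your own Cfsg.Agent.* helpers here

set_option autoImplicit false
open Cfsg

namespace Cfsg.Agent.S1528

open CfsgLib.CharTheory

/-- Let N be a normal subgroup of the finite group G such that every element of G commuting with a non-identity element of N lies in N. If χ is an irreducible character of G with χ n ≠ χ 1 for some n ∈ N, then χ is the function induced from some irreducible character of N. -/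
theorem result {G : Type*} [Group G] [Fintype G] (N : Subgroup G) [N.Normal] (hC : ∀ n ∈ N, n ≠ 1 → Subgroup.centralizer ({n} : Set G) ≤ N) (χ : G → ℂ) (hχ : Cfsg.IsIrrCharacter G χ) (hker : ∃ n ∈ N, χ n ≠ χ 1) : ∃ φ : N → ℂ, Cfsg.IsIrrCharacter N φ ∧ χ = Cfsg.indFun N φ := by
  have := Fintype.ofFinite N
  obtain ⟨n, hn, hne⟩ := hker
  obtain ⟨φ, hφ, hc, h1⟩ : ∃ φ, Cfsg.IsIrrCharacter N φ ∧
      Cfsg.classInner (fun x : N => χ x) φ ≠ 0 ∧ φ ≠ fun _ => 1 := by
    by_contra hno
    push Not at hno
    obtain ⟨φ, hφ, hc⟩ := exists_constituent (isCharacter_restrict (isCharacter_of_irr hχ) N)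
      (fun e => irr_ne_zero hχ (congrFun e 1))
    have h1 := hno φ hφ hc
    have hinv : ∀ g : G, conjNormFun N g φ = φ := fun g => by rw [h1]; rfl
    have h2 := clifford_invariant N hχ hφ hc hinv
    have e1 := congrFun h2 ⟨n, hn⟩
    have e2 := congrFun h2 1
    simp only [h1, Pi.smul_apply] at e1 e2
    exact hne (e1.trans e2.symm)
  have hirr := isIrrCharacter_indFun_of_inertia_eq N hφ (inertia_eq_of_centralizer_le N hC hφ h1)
  refine ⟨φ, hφ, ?_⟩
  by_contra hne'
  refine hc ?_
  rw [← frobenius_reciprocity' N φ (isClassFunction_irr hχ)]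
  exact classInner_irr_ne hχ hirr hne'

end Cfsg.Agent.S1528
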