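import Cfsg.Statements.S1532
import Mathlib
import Cfsg.Agent.Lib.CharTheory.TIKernel
-- import your own Cfsg.Agent.* helpers here

set_option autoImplicit false
open Cfsg

namespace Cfsg.Agent.S1532

/-- Let G be a finite group, p an odd prime and P a Sylow p-subgroup that is non-abelian, whose underlying set is a TI-subset of G, with P properly contained in its set normaliser N and C_G(x) ≤ P for every non-identity x ∈ P. Let Z be a nontrivial subgroup of the centre of P normalised by N. Then the set of irreducible characters χ of N with χ z ≠ χ 1 for some z ∈ Z is coherent for the map induced by induction from N to G. -/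
theorem result {G : Type*} [Group G] [Fintype G] (p : ℕ) [Fact p.Prime] (hp : p ≠ 2) (P : Sylow p G) (hna : ¬ IsMulCommutative (P : Subgroup G)) (hTI : Cfsg.IsTISubset ((P : Subgroup G) : Set G)) (hlt : (P : Subgroup G) < Subgroup.normalizer ((P : Subgroup G) : Set G)) (hC : ∀ k ∈ (P : Subgroup G), k ≠ 1 → Subgroup.centralizer ({k} : Set G) ≤ (P : Subgroup G)) [Fintype ↥(Subgroup.normalizer ((P : Subgroup G) : Set G))] (Z : Subgroup G) (hZ1 : Z ≠ ⊥) (hZP : ∀ z ∈ Z, z ∈ (P : Subgroup G) ∧ ∀ y ∈ (P : Subgroup G), z * y = y * z) (hZn : ∀ x ∈ Subgroup.normalizer ((P : Subgroup G) : Set G), ∀ z ∈ Z, x * z * x⁻¹ ∈ Z) : Cfsg.IsCoherent {χ : ↥(Subgroup.normalizer ((P : Subgroup G) : Set G)) → ℂ | Cfsg.IsIrrCharacter ↥(Subgroup.normalizer ((P : Subgroup G) : Set G)) χ ∧ ∃ z : ↥(Subgroup.normalizer ((P : Subgroup G) : Set G)), (z : G) ∈ Z ∧ χ z ≠ χ 1} {1}ᶜ (fun α => Cfsg.indFun (Subgroup.normalizer ((P : Subgroup G) : Set G)) α) := by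
    classical
    set N := Subgroup.normalizer ((P : Subgroup G) : Set G) with hN
    set K : Subgroup N := (P : Subgroup G).subgroupOf N with hKdef
    have hPN : (P : Subgroup G) ≤ N := Subgroup.le_normalizer
    have hKn : K.Normal := Subgroup.normal_in_normalizer
    have hP1 : (P : Subgroup G) ≠ ⊥ := fun h => hna (h ▸ ⟨⟨fun a b => Subsingleton.elim _ _⟩⟩)
    have hKC : ∀ k ∈ K, k ≠ 1 → Subgroup.centralizer ({k} : Set N) ≤ K := fun k hk hk1 x hx =>
      hC k hk (fun e => hk1 (Subtype.ext e)) (Subgroup.mem_centralizer_singleton_iff.mpr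
        (congrArg Subtype.val (Subgroup.mem_centralizer_singleton_iff.mp hx)))
    have hKtop : K < ⊤ := lt_top_iff_ne_top.mpr fun h => not_le_of_gt hlt (Subgroup.subgroupOf_eq_top.mp h)
    have hK1 : K ≠ ⊥ := fun h => hP1 (by
      rw [Subgroup.subgroupOf_eq_bot, disjoint_iff, inf_eq_left.mpr hPN] at h; exact h)
    obtain ⟨a, ha⟩ := IsPGroup.iff_card.mp P.isPGroup'
    have hKcard : Nat.card K = p ^ a := (Nat.card_congr (Subgroup.subgroupOfEquivOfLe hPN).toEquiv).trans ha
    have hcopidx : K.index.Coprime p := by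
      refine Nat.Coprime.symm ((Fact.out : p.Prime).coprime_iff_not_dvd.mpr fun h => ?_)
      have h2 : K.index ∣ (P : Subgroup G).index := by
        show (P : Subgroup G).relIndex N ∣ _
        exact Subgroup.relIndex_dvd_index_of_le hPN
      exact P.not_dvd_index (h.trans h2)
    have hodd : Odd (Nat.card N) := by
      rw [← K.card_mul_index, Nat.odd_mul]
      have hpodd : Odd p := (Fact.out : p.Prime).odd_of_ne_two hp
      refine ⟨by rw [hKcard]; exact hpodd.pow, ?_⟩
      rw [Nat.odd_iff]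
      by_contra hev
      have h2 : 2 ∣ Nat.card N := (show 2 ∣ K.index by omega).trans K.index_dvd_card
      obtain ⟨t, ht⟩ := exists_prime_orderOf_dvd_card' (G := N) 2 h2
      have htG : ((t : G)) ^ 2 = 1 := by rw [← Subgroup.coe_pow, ← ht, pow_orderOf_eq_one, Subgroup.coe_one]
      have htK : t ∉ K := fun h => by
        have h3 := orderOf_dvd_natCard (⟨t, h⟩ : K)
        rw [hKcard, ← Subgroup.orderOf_coe, ht] at h3
        have h4 := Nat.Prime.dvd_of_dvd_pow Nat.prime_two h3
        exact hp (((Nat.prime_dvd_prime_iff_eq Nat.prime_two Fact.out).mp h4).symm)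
      let φ : (P : Subgroup G) →* (P : Subgroup G) :=
        ((Subgroup.normalizerMonoidHom (P : Subgroup G)) t).toMonoidHom
      have hval : ∀ u, ((φ u : (P : Subgroup G)) : G) = (t : G) * u * (t : G)⁻¹ := fun u => rfl
      have hfix : MonoidHom.FixedPointFree φ := fun u hu => by
        by_contra hu1
        refine htK (hC u u.2 (fun e => hu1 (Subtype.ext e)) (Subgroup.mem_centralizer_singleton_iff.mpr ?_))
        have h1 : (t : G) * u * (t : G)⁻¹ = u := (hval u).symm.trans (congrArg Subtype.val hu)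
        exact mul_inv_eq_iff_eq_mul.mp h1
      have hinv : Function.Involutive φ := fun u => Subtype.ext (by
        rw [hval, hval]
        calc (t : G) * ((t : G) * u * (t : G)⁻¹) * (t : G)⁻¹ = ((t : G) * t) * u * ((t : G) * t)⁻¹ := by group
          _ = _ := by rw [← pow_two, htG]; group)
      exact hna ⟨⟨fun x y => MonoidHom.FixedPointFree.commute_all_of_involutive hfix hinv x y⟩⟩
    set Z' : Subgroup N := Z.subgroupOf N with hZ'
    have hZP' : Z ≤ (P : Subgroup G) := fun z hz => (hZP z hz).1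
    have hZn' : Z'.Normal := ⟨fun z hz x => hZn x x.2 z hz⟩
    have hZK : Z' ≤ K := fun z hz => hZP' hz
    have hZ1' : Z' ≠ ⊥ := fun h => hZ1 (by
      rw [Subgroup.subgroupOf_eq_bot, disjoint_iff, inf_eq_left.mpr (hZP'.trans hPN)] at h; exact h)
    have hZc' : ∀ z ∈ Z', ∀ k ∈ K, z * k = k * z := fun z hz k hk => Subtype.ext ((hZP z hz).2 k hk)
    have hT : ((P : Subgroup G) : Set G) = Subtype.val '' (K : Set N) := by
      ext x; exact ⟨fun h => ⟨⟨x, hPN h⟩, h, rfl⟩, fun ⟨y, hy, e⟩ => e ▸ hy⟩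
    obtain ⟨R, hR⟩ := CfsgLib.CharTheory.exists_system_ti_kernel N K hodd hK1 hKtop hKC hT hTI
    have hirr : ∀ χ ∈ Cfsg.inducedIrrAbove K ⊥ \ Cfsg.inducedIrrAbove K Z', Cfsg.IsIrrCharacter N χ :=
      fun χ hχ => CfsgLib.CharTheory.induced_irr_of_centralizer N K hKC hχ.1
    have hpl : 2 < p := lt_of_le_of_ne (Fact.out : p.Prime).two_le (Ne.symm hp)
    have h := CfsgLib.CharTheory.coherent_nontrivial_central K hR hpl hKcard hcopidx
      (Nat.one_le_iff_ne_zero.mpr Subgroup.index_ne_zero_of_finite) Z' hZ1' hZK hZc' hirr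
    rw [CfsgLib.CharTheory.nontrivial_central_eq K Z' hZK hirr] at h
    convert h using 2
    funext χ
    exact propext ⟨fun ⟨h1, z, hz, hne⟩ => ⟨h1, z, hz, hne⟩, fun ⟨h1, z, hz, hne⟩ => ⟨h1, z, hz, hne⟩⟩

end Cfsg.Agent.S1532
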