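import Cfsg.Statements.S1533
import Mathlib
import Cfsg.Agent.Lib.CharTheory.SibleyKernel
import Cfsg.Agent.Lib.CharTheory.EqualDegree
-- import your own Cfsg.Agent.* helpers here

set_option autoImplicit false
open Cfsg

namespace Cfsg.Agent.S1533

/-- Let G be a finite group, p an odd prime, and P a nontrivial Sylow p-subgroup whose underlying set is a TI-subset of G, with P properly contained in its set normaliser N and C_G(x) ≤ P for every non-identity x ∈ P. Let S be the set of irreducible characters χ of N with χ x ≠ χ 1 for some x ∈ P. Then either S has exactly one member, P is elementary abelian and Nat.card P = [N:P] + 1; or (S, N minus 1, induction to G) is coherent. -/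
theorem result {G : Type*} [Group G] [Fintype G] (p : ℕ) [Fact p.Prime] (hp : p ≠ 2) (P : Sylow p G) (hP1 : (P : Subgroup G) ≠ ⊥) (hTI : Cfsg.IsTISubset ((P : Subgroup G) : Set G)) (hlt : (P : Subgroup G) < Subgroup.normalizer ((P : Subgroup G) : Set G)) (hC : ∀ k ∈ (P : Subgroup G), k ≠ 1 → Subgroup.centralizer ({k} : Set G) ≤ (P : Subgroup G)) [Fintype ↥(Subgroup.normalizer ((P : Subgroup G) : Set G))] : (Nat.card {χ : ↥(Subgroup.normalizer ((P : Subgroup G) : Set G)) → ℂ // Cfsg.IsIrrCharacter ↥(Subgroup.normalizer ((P : Subgroup G) : Set G)) χ ∧ ∃ x : ↥(Subgroup.normalizer ((P : Subgroup G) : Set G)), (x : G) ∈ (P : Subgroup G) ∧ χ x ≠ χ 1} = 1 ∧ Cfsg.IsElementaryAbelian p (P : Subgroup G) ∧ Nat.card (P : Subgroup G) = ((P : Subgroup G).subgroupOf (Subgroup.normalizer ((P : Subgroup G) : Set G))).index + 1) ∨ Cfsg.IsCoherent {χ : ↥(Subgroup.normalizer ((P : Subgroup G) : Set G)) → ℂ | Cfsg.IsIrrCharacter ↥(Subgroup.normalizer ((P : Subgroup G) : Set G)) χ ∧ ∃ x : ↥(Subgroup.normalizer ((P :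 Subgroup G) : Set G)), (x : G) ∈ (P : Subgroup G) ∧ χ x ≠ χ 1} {1}ᶜ (fun α => Cfsg.indFun (Subgroup.normalizer ((P : Subgroup G) : Set G)) α) := by
    classical
    set N := Subgroup.normalizer ((P : Subgroup G) : Set G) with hN
    set K : Subgroup N := (P : Subgroup G).subgroupOf N with hKdef
    have hPN : (P : Subgroup G) ≤ N := Subgroup.le_normalizer
    have hKn : K.Normal := Subgroup.normal_in_normalizer
    have hKC : ∀ k ∈ K, k ≠ 1 → Subgroup.centralizer ({k} : Set N) ≤ K := fun k hk hk1 x hx =>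
      hC k hk (fun e => hk1 (Subtype.ext e)) (Subgroup.mem_centralizer_singleton_iff.mpr
        (congrArg Subtype.val (Subgroup.mem_centralizer_singleton_iff.mp hx)))
    have hKtop : K < ⊤ := lt_top_iff_ne_top.mpr fun h => not_le_of_gt hlt (Subgroup.subgroupOf_eq_top.mp h)
    have hK1 : K ≠ ⊥ := fun h => hP1 (by
      rw [Subgroup.subgroupOf_eq_bot, disjoint_iff, inf_eq_left.mpr hPN] at h; exact h)
    obtain ⟨a, ha⟩ := IsPGroup.iff_card.mp P.isPGroup'
    have hKcard : Nat.card K = p ^ a := (Nat.card_congr (Subgroup.subgroupOfEquivOfLe hPN).toEquiv).trans ha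
    have hT : ((P : Subgroup G) : Set G) = Subtype.val '' (K : Set N) := by
      ext x; exact ⟨fun h => ⟨⟨x, hPN h⟩, h, rfl⟩, fun ⟨y, hy, e⟩ => e ▸ hy⟩
    have hset : Cfsg.inducedIrrAbove K ⊥ = {χ : N → ℂ | Cfsg.IsIrrCharacter N χ ∧ ∃ x : N, (x : G) ∈ (P : Subgroup G) ∧ χ x ≠ χ 1} := by
      rw [CfsgLib.CharTheory.irr_nontrivial_on_eq K hKC]
      ext χ
      exact ⟨fun ⟨h1, z, hz, hne⟩ => ⟨h1, z, hz, hne⟩, fun ⟨h1, z, hz, hne⟩ => ⟨h1, z, hz, hne⟩⟩
    by_cases hna : IsMulCommutative (P : Subgroup G)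
    · have hab : ∀ x ∈ K, ∀ y ∈ K, x * y = y * x := fun x hx y hy =>
        Subtype.ext (congrArg (fun q : (P : Subgroup G) => (q : G)) (hna.is_comm.comm (⟨x.1, hx⟩ : (P : Subgroup G)) ⟨y.1, hy⟩))
      obtain ⟨hτ, hτ1⟩ := CfsgLib.CharTheory.induced_isometry N K hT (fun g hg => hTI g hg)
      rcases CfsgLib.CharTheory.abelian_kernel_dichotomy K hK1 hKtop hab hKC hτ hτ1 with ⟨h1, h2, q, hq, hqd, hq2⟩ | h
      · left
        refine ⟨?_, ⟨hna, fun x hx => ?_⟩, ?_⟩
        · rw [← h1]
          exact Nat.card_congr (Equiv.subtypeEquivRight fun χ => (Set.ext_iff.mp hset χ).symm)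
        · have hqp : q = p := by
            rw [hKcard] at hqd
            exact (Nat.prime_dvd_prime_iff_eq hq Fact.out).mp (hq.dvd_of_dvd_pow hqd)
          have := congrArg Subtype.val (hq2 ⟨x, hPN hx⟩ hx)
          rwa [Subgroup.coe_pow, hqp, Subgroup.coe_one] at this
        · rw [← h2]
          exact Nat.card_congr (Subgroup.subgroupOfEquivOfLe hPN).toEquiv.symm
      · right
        rw [hset] at h
        convert h using 1
    · right
      have hodd : Odd (Nat.card N) := by
        rw [← K.card_mul_index, Nat.odd_mul]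
        have hpodd : Odd p := (Fact.out : p.Prime).odd_of_ne_two hp
        refine ⟨by rw [hKcard]; exact hpodd.pow, ?_⟩
        rw [Nat.odd_iff]
        by_contra hev
        have h2 : 2 ∣ Nat.card N := (show 2 ∣ K.index by omega).trans K.index_dvd_card
        obtain ⟨t, ht⟩ := exists_prime_orderOf_dvd_card' (G := N) 2 h2
        have htG : ((t : G)) ^ 2 = 1 := by rw [← Subgroup.coe_pow, ← ht, pow_orderOf_eq_one, Subgroup.coe_one]
        have htK : t ∉ K := fun h => by
          have h3 := orderOf_dvd_natCard (⟨t, h⟩ : K)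
          rw [hKcard, ← Subgroup.orderOf_coe, ht] at h3
          have h4 := Nat.Prime.dvd_of_dvd_pow Nat.prime_two h3
          exact hp (((Nat.prime_dvd_prime_iff_eq Nat.prime_two Fact.out).mp h4).symm)
        let φ : (P : Subgroup G) →* (P : Subgroup G) :=
          ((Subgroup.normalizerMonoidHom (P : Subgroup G)) t).toMonoidHom
        have hval : ∀ u, ((φ u : (P : Subgroup G)) : G) = (t : G) * u * (t : G)⁻¹ := fun u => rfl
        have hfix : MonoidHom.FixedPointFree φ := fun u hu => by
          by_contra hu1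
          refine htK (hC u u.2 (fun e => hu1 (Subtype.ext e)) (Subgroup.mem_centralizer_singleton_iff.mpr ?_))
          have h1 : (t : G) * u * (t : G)⁻¹ = u := (hval u).symm.trans (congrArg Subtype.val hu)
          exact mul_inv_eq_iff_eq_mul.mp h1
        have hinv : Function.Involutive φ := fun u => Subtype.ext (by
          rw [hval, hval]
          calc (t : G) * ((t : G) * u * (t : G)⁻¹) * (t : G)⁻¹ = ((t : G) * t) * u * ((t : G) * t)⁻¹ := by group
            _ = _ := by rw [← pow_two, htG]; group)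
        exact hna ⟨⟨fun x y => MonoidHom.FixedPointFree.commute_all_of_involutive hfix hinv x y⟩⟩
      have hnil : Group.IsNilpotent (P : Subgroup G) := P.isPGroup'.isNilpotent
      have h := CfsgLib.CharTheory.sibley_ti_kernel (P : Subgroup G) N hPN hN.symm hodd hP1 hKtop hnil hTI hKC
      rw [hset] at h
      convert h using 1

end Cfsg.Agent.S1533
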