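import Cfsg.Statements.S1541
import Mathlib
import Cfsg.Agent.Lib.OddOrder.S12.Norm
import Cfsg.Agent.Lib.MinSimpleOdd.TypeOne
-- import your own Cfsg.Agent.* helpers here

set_option autoImplicit false
open Cfsg

namespace Cfsg.Agent.S1541

/-- Let G be a minimal simple group of odd order. Then some maximal subgroup of G is not of Type I. -/
theorem result {G : Type*} [Group G] [Finite G] (hG : Cfsg.IsMinSimpleOddOrder G) : ∃ M : Subgroup G, IsCoatom M ∧ ¬ Cfsg.IsOfTypeI M := by
  classical
  haveI := Fintype.ofFinite G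
  obtain ⟨M, hM, hk⟩ := CfsgLib.OddOrder.S12.exists_kappa_nonempty hG
  exact ⟨M, hM, fun hI => hk.ne_empty (CfsgLib.MinSimpleOdd.typeF_kappa_eq_empty hG hM hI.1)⟩

end Cfsg.Agent.S1541
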