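import Cfsg.Statements.S1542
import Cfsg.Agent.Lib.OddOrder.S12.Coherent
import Cfsg.Agent.Lib.MinSimpleOdd.TypeOne
import Cfsg.Agent.Lib.MinSimpleOdd.NonNilpotentCore
-- import your own Cfsg.Agent.* helpers here

set_option autoImplicit false
open Cfsg

namespace Cfsg.Agent.S1542

/-- Let G be a minimal simple group of odd order and L a maximal subgroup of Type I in which every non-identity element of H = L_F has its centraliser within L inside H. Let S be the set of functions on L induced from non-principal irreducible characters of H. Then every member of S is an irreducible character of L, and (S, L minus 1, τ) is coherent for τ the Dade map relative to A(L), L and a ↦ R(a). -/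
theorem result {G : Type*} [Group G] [Fintype G] (hG : Cfsg.IsMinSimpleOddOrder G) (L : Subgroup G) [Fintype L] (hL : IsCoatom L) (hI : Cfsg.IsOfTypeI L) (hfrob : ∀ x ∈ Cfsg.fittingHallOf L, x ≠ 1 → L ⊓ Subgroup.centralizer ({x} : Set G) ≤ Cfsg.fittingHallOf L) : (∀ χ ∈ Cfsg.inducedIrrAbove (Cfsg.fittingHall L) ⊥, Cfsg.IsIrrCharacter L χ) ∧ Cfsg.IsCoherent (Cfsg.inducedIrrAbove (Cfsg.fittingHall L) ⊥) {1}ᶜ (Cfsg.dadeIsometry (Cfsg.typeA L) L (Cfsg.supportR L)) := by
  have hκ := CfsgLib.MinSimpleOdd.typeF_kappa_eq_empty hG hL hI.1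
  have hnil := CfsgLib.MinSimpleOdd.nilpotent_of_kappa_empty hG hL hκ
  have hF : fittingHallOf L = sigmaCore L := CfsgLib.MinSimpleOdd.fittingHallOf_eq hG hL hnil
  rw [hF] at hfrob
  have hK : fittingHall L = (sigmaCore L).subgroupOf L := by
    rw [← hF, fittingHallOf]
    exact (Subgroup.comap_map_eq_self_of_injective L.subtype_injective _).symm
  have hA : typeA L = (sigmaCore L : Set G) \ {1} := by
    ext a
    rw [typeA, if_pos hI, hF]
    constructor
    · rintro ⟨haL, ha1, x, hx, hx1, hax⟩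
      exact ⟨hfrob x hx hx1 ⟨haL, Subgroup.mem_centralizer_singleton_iff.mpr hax⟩, ha1⟩
    · rintro ⟨ha, ha1⟩
      exact ⟨CfsgLib.MinSimpleOdd.piCoreOf_le _ _ ha, ha1, a, ha, ha1, rfl⟩
  rw [hK, hA]
  exact ⟨fun χ hχ => CfsgLib.OddOrder.S12.core_induced_irr hG hL hfrob hχ,
    CfsgLib.OddOrder.S12.core_coherent_of_nilpotent hG hL hfrob hnil⟩

end Cfsg.Agent.S1542
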