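import Cfsg.Statements.S1546
import Mathlib
-- import your own Cfsg.Agent.* helpers here

set_option autoImplicit false
open Cfsg

namespace Cfsg.Agent.S1546

/-- Let p and q be odd primes and N = (p ^ q − 1) / (p − 1) = 1 + p + ⋯ + p^(q−1). Then N is odd; if p ≡ 1 (mod q) then q ∣ N; and if p is not ≡ 1 (mod q) then N is coprime to p − 1 and every divisor of N is ≡ 1 (mod q). -/
theorem result (p q : ℕ) (hp : p.Prime) (hq : q.Prime) (hp2 : p ≠ 2) (hq2 : q ≠ 2) : Odd ((p ^ q - 1) / (p - 1)) ∧ (p % q = 1 → q ∣ (p ^ q - 1) / (p - 1)) ∧ (p % q ≠ 1 → Nat.Coprime ((p ^ q - 1) / (p - 1)) (p - 1) ∧ ∀ x : ℕ, x ∣ (p ^ q - 1) / (p - 1) → x % q = 1) := by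
  have hp2' : 2 ≤ p := hp.two_le
  have hgeom : (p ^ q - 1) / (p - 1) = ∑ i ∈ Finset.range q, p ^ i := (Nat.geomSum_eq hp2' q).symm
  rw [hgeom]
  set N := ∑ i ∈ Finset.range q, p ^ i with hN
  have hmod : N ≡ q [MOD (p - 1)] := by
    have hp1 : p ≡ 1 [MOD (p - 1)] := by
      apply Nat.ModEq.symm
      rw [Nat.modEq_iff_dvd' (by omega)]
    clear_value N
    subst hN
    induction q with
    | zero => simp; rfl
    | succ m _ => 
      have : ∀ k, (∑ i ∈ Finset.range k, p ^ i) ≡ k [MOD (p - 1)] := by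
        intro k
        induction k with
        | zero => simp; rfl
        | succ k ih =>
          rw [Finset.sum_range_succ]
          have := ih.add ((hp1.pow k).trans (by rw [one_pow]))
          exact this
      exact this _
  have hqodd : Odd q := hq.odd_of_ne_two hq2
  have hpodd : Odd p := hp.odd_of_ne_two hp2
  have hdiv : ∀ x, x ∣ p - 1 → x ∣ N → x ∣ q := fun x h1 h2 => by
    have := hmod.of_dvd h1
    exact Nat.modEq_zero_iff_dvd.mp (this.symm.trans (Nat.modEq_zero_iff_dvd.mpr h2))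
  refine ⟨?_, fun h => ?_, fun h => ?_⟩
  · rw [Nat.odd_iff, Finset.sum_nat_mod, Finset.sum_congr rfl (fun i _ => Nat.odd_iff.mp (hpodd.pow (n := i))), Finset.sum_const, Finset.card_range, smul_eq_mul, mul_one]
    exact Nat.odd_iff.mp hqodd
  · have h1 : q ∣ p - 1 := by
      rw [← Nat.modEq_iff_dvd' (by omega), Nat.ModEq, h, Nat.mod_eq_of_lt hq.one_lt]
    exact Nat.modEq_zero_iff_dvd.mp ((hmod.of_dvd h1).trans (Nat.modEq_zero_iff_dvd.mpr dvd_rfl))
  · have hqp : ¬ q ∣ p - 1 := fun h1 => h (by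
      have := (Nat.modEq_iff_dvd' (by omega : 1 ≤ p)).mpr h1
      rw [← this, Nat.mod_eq_of_lt hq.one_lt])
    have hcop : Nat.Coprime N (p - 1) := by
      rcases (Nat.dvd_prime hq).mp (hdiv _ (Nat.gcd_dvd_right N (p - 1)) (Nat.gcd_dvd_left _ _)) with h1 | h1
      · exact h1
      · exact absurd (h1 ▸ Nat.gcd_dvd_right N (p - 1)) hqp
    refine ⟨hcop, ?_⟩
    have hN0 : N ≠ 0 := by
      have : p ^ 0 ≤ N := Finset.single_le_sum (f := fun i => p ^ i) (fun _ _ => Nat.zero_le _) (Finset.mem_range.mpr hq.pos)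
      simp at this; omega
    have hprime : ∀ r : ℕ, r.Prime → r ∣ N → r % q = 1 := by
      intro r hr hrN
      haveI := Fact.mk hr
      have h1 : ((p : ZMod r)) ^ q = 1 := by
        have e : (∑ i ∈ Finset.range q, (p : ZMod r) ^ i) = 0 := by
          have h0 : ((N : ℕ) : ZMod r) = 0 := (ZMod.natCast_eq_zero_iff _ _).mpr hrN |> fun e => e
          rw [hN] at h0
          push_cast at h0
          exact h0
        have := geom_sum_mul (p : ZMod r) q
        rw [e, zero_mul, eq_comm, sub_eq_zero] at this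
        exact this
      have hne : (p : ZMod r) ≠ 1 := fun e => by
        have h2 : r ∣ p - 1 := by
          rw [← ZMod.natCast_eq_zero_iff, Nat.cast_sub (by omega), e]; simp
        exact hr.not_dvd_one (hcop ▸ Nat.dvd_gcd hrN h2)
      have h0 : (p : ZMod r) ≠ 0 := fun e => by
        rw [e, zero_pow hq.ne_zero] at h1; exact zero_ne_one h1
      haveI := Fact.mk hq
      have h3 : orderOf (p : ZMod r) = q := orderOf_eq_prime h1 hne
      have h4 : q ∣ r - 1 := h3 ▸ orderOf_dvd_of_pow_eq_one (ZMod.pow_card_sub_one_eq_one h0)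
      have h5 := (Nat.modEq_iff_dvd' hr.one_lt.le).mpr h4
      rw [← h5, Nat.mod_eq_of_lt hq.one_lt]
    intro x hx
    induction x using induction_on_primes with
    | zero => exact absurd (zero_dvd_iff.mp hx) hN0
    | one => exact Nat.mod_eq_of_lt hq.one_lt
    | prime_mul r a hr ih =>
      rw [Nat.mul_mod, hprime r hr ((Dvd.intro a rfl).trans hx), ih ((Dvd.intro_left r rfl).trans hx)]
      simp [Nat.mod_eq_of_lt hq.one_lt]

end Cfsg.Agent.S1546
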