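import Cfsg.Statements.S1551
import Cfsg.Agent.Lib.Golay.SextGroup

set_option autoImplicit false
open scoped Pointwise
open Cfsg

namespace Cfsg.Agent.S1551

/-- Structure of a sextet stabiliser: it induces every permutation of the six tetrads, the subgroup fixing each tetrad setwise has order 192, and there is a normal subgroup of order 64 consisting of elements squaring to the identity. -/
theorem result (S : Finset (Finset Cfsg.GolayPt)) (hS : S ∈ Cfsg.sextets) : (∀ e : Equiv.Perm ↥S, ∃ g ∈ MulAction.stabilizer Cfsg.M24 S, ∀ t : ↥S, (g : Equiv.Perm Cfsg.GolayPt) • (t : Finset Cfsg.GolayPt) = ((e t : ↥S) : Finset Cfsg.GolayPt)) ∧ Nat.card {g : ↥(MulAction.stabilizer Cfsg.M24 S) // ∀ t ∈ S, ((g : Cfsg.M24) : Equiv.Perm Cfsg.GolayPt) • t = t} = 192 ∧ ∃ N : Subgroup ↥(MulAction.stabilizer Cfsg.M24 S), N.Normal ∧ Nat.card N = 64 ∧ ∀ x ∈ N, x * x = 1 := by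
  obtain ⟨h1, h2, N, hle, hnorm, hcard, hinv⟩ := CfsgGolay.sextet_group hS
  refine ⟨fun e => ?_, ?_, ?_⟩
  · obtain ⟨g, hg, he⟩ := h1 e
    rw [← CfsgGolay.map_stab] at hg
    obtain ⟨k, hk, rfl⟩ := hg
    exact ⟨k, hk, he⟩
  · rw [← h2]
    refine Nat.card_congr
      { toFun := fun g => ⟨((g.1 : Cfsg.M24) : Equiv.Perm Cfsg.GolayPt), ⟨(g.1 : Cfsg.M24).2, g.1.2⟩, g.2⟩
        invFun := fun g => ⟨⟨⟨g.1, g.2.1.1⟩, g.2.1.2⟩, g.2.2⟩
        left_inv := fun g => rfl
        right_inv := fun g => rfl }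
  · set ι := Cfsg.M24.subtype.comp (MulAction.stabilizer Cfsg.M24 S).subtype with hι
    have hιinj : Function.Injective ι := fun a b h => Subtype.ext (Subtype.ext h)
    refine ⟨N.comap ι, ⟨fun x hx g => ?_⟩, ?_, fun x hx => hιinj ?_⟩
    · rw [Subgroup.mem_comap, map_mul, map_mul, map_inv]
      exact hnorm _ ⟨(g : Cfsg.M24).2, g.2⟩ _ hx
    · rw [← hcard]
      refine Nat.card_congr
        { toFun := fun x => ⟨ι x.1, x.2⟩
          invFun := fun x => ⟨⟨⟨x.1, (hle x.2).1⟩, (hle x.2).2⟩, x.2⟩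
          left_inv := fun x => rfl
          right_inv := fun x => rfl }
    · rw [map_mul, map_one]; exact hinv _ hx

end Cfsg.Agent.S1551
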