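import Cfsg.Statements.S1552
import Cfsg.Agent.Lib.Golay.Coatom

set_option autoImplicit false
open scoped Pointwise
open Cfsg

namespace Cfsg.Agent.S1552

/-- A sextet stabiliser has four orbits on the 1771 sextets, of sizes 1, 90, 240, 1440; and the stabiliser is a maximal proper subgroup. -/
theorem result (S : Finset (Finset Cfsg.GolayPt)) (hS : S ∈ Cfsg.sextets) : ∃ X₁ ∈ Cfsg.sextets, ∃ X₂ ∈ Cfsg.sextets, ∃ X₃ ∈ Cfsg.sextets, (MulAction.orbit ↥(MulAction.stabilizer Cfsg.M24 S) X₁).ncard = 90 ∧ (MulAction.orbit ↥(MulAction.stabilizer Cfsg.M24 S) X₂).ncard = 240 ∧ (MulAction.orbit ↥(MulAction.stabilizer Cfsg.M24 S) X₃).ncard = 1440 ∧ Cfsg.sextets = {S} ∪ MulAction.orbit ↥(MulAction.stabilizer Cfsg.M24 S) X₁ ∪ MulAction.orbit ↥(MulAction.stabilizer Cfsg.M24 S) X₂ ∪ MulAction.orbit ↥(MulAction.stabilizer Cfsg.M24 S) X₃ ∧ IsCoatom (MulAction.stabilizer Cfsg.M24 S) := by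
  obtain ⟨g, hg, rfl⟩ := CfsgGolay.exists_smul_S0 hS
  obtain ⟨hc, hsz, hmem⟩ := CfsgGolay.partSS
  simp only [CfsgGolay.repsSS, List.map_cons, List.map_nil, List.cons.injEq, and_true] at hsz
  obtain ⟨h0, h1, h2, h3⟩ := hsz
  have hc' := CfsgGolay.orbUnion_smul hg _ _ _ (fun h hh y hy => CfsgGolay.smul_mem_sextets hh hy) hc
  refine ⟨g • (CfsgGolay.famSet 6 11847444039760828071477751288397876026197000),
    CfsgGolay.smul_mem_sextets hg (hmem _ (by simp [CfsgGolay.repsSS])),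
    g • (CfsgGolay.famSet 6 11150391623871435084294352694298710624059425),
    CfsgGolay.smul_mem_sextets hg (hmem _ (by simp [CfsgGolay.repsSS])),
    g • (CfsgGolay.famSet 6 16728282737589973519941691265235352874451240),
    CfsgGolay.smul_mem_sextets hg (hmem _ (by simp [CfsgGolay.repsSS])),
    (CfsgGolay.isConjOf_stab_M24 hg CfsgGolay.S0 _).2.trans h1,
    (CfsgGolay.isConjOf_stab_M24 hg CfsgGolay.S0 _).2.trans h2,
    (CfsgGolay.isConjOf_stab_M24 hg CfsgGolay.S0 _).2.trans h3, ?_, ?_⟩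
  · conv_lhs => rw [hc']
    ext y
    simp [CfsgGolay.orbUnion, CfsgGolay.repsSS, or_assoc, ← show CfsgGolay.S0 = (CfsgGolay.famSet 6 11150382242010895008167239022564679587348520) from rfl, CfsgGolay.orbit_stab_self]
  · obtain ⟨hc, hsz, -⟩ := CfsgGolay.partSS
    refine CfsgGolay.isCoatom_of_partition hg _ _ CfsgGolay.sextets_eq_orbit _ [90, 240, 1440] hc ?_ ?_ (by decide) (by decide +kernel)
    · exact (List.cons_eq_cons.mp hsz).2
    · rw [CfsgGolay.sextets_ncard]; rfl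

end Cfsg.Agent.S1552
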