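import Cfsg.Statements.S1555
import Cfsg.Agent.Lib.Golay.ClassC

set_option autoImplicit false
open scoped Pointwise
open Cfsg

namespace Cfsg.Agent.S1555

/-- Bottom row of the Leech triangle: an octad is met in a prescribed pair of its points by exactly 16 octads and in a prescribed 4-subset by exactly 4 octads. -/
theorem result (o : Finset Cfsg.GolayPt) (ho : o ∈ Cfsg.octads) (s : Finset Cfsg.GolayPt) (hs : s ⊆ o) : (s.card = 2 → {o' : Finset Cfsg.GolayPt | o' ∈ Cfsg.octads ∧ o ∩ o' = s}.ncard = 16) ∧ (s.card = 4 → {o' : Finset Cfsg.GolayPt | o' ∈ Cfsg.octads ∧ o ∩ o' = s}.ncard = 4) := by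
  obtain ⟨g, hg, rfl⟩ := CfsgGolay.exists_smul_O0 ho
  obtain ⟨u, rfl⟩ : ∃ u, s = g • u := ⟨g⁻¹ • s, (smul_inv_smul g s).symm⟩
  rw [Finset.smul_finset_subset_smul_finset_iff] at hs
  have e : ∀ y, (g • y ∈ Cfsg.octads ∧ g • CfsgGolay.O0 ∩ g • y = g • u) ↔ (y ∈ Cfsg.octads ∧ CfsgGolay.O0 ∩ y = u) := fun y => by
    rw [CfsgGolay.smul_mem_octads_iff hg, ← Finset.smul_finset_inter, smul_left_cancel_iff]
  rw [Finset.card_smul_finset]
  exact ⟨fun h => (CfsgGolay.ncard_translate g e).trans ((CfsgGolay.octads_meeting hs).1 h),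
    fun h => (CfsgGolay.ncard_translate g e).trans ((CfsgGolay.octads_meeting hs).2 h)⟩

end Cfsg.Agent.S1555
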