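import Cfsg.Statements.S1557
import Cfsg.Agent.Lib.Golay.Sextets

set_option autoImplicit false
open scoped Pointwise
open Cfsg

namespace Cfsg.Agent.S1557

/-- The complement of the union of two disjoint octads is an octad, and the code has exactly 3795 trios of pairwise disjoint octads. -/
theorem result : (∀ o o' : Finset Cfsg.GolayPt, o ∈ Cfsg.octads → o' ∈ Cfsg.octads → Disjoint o o' → (o ∪ o')ᶜ ∈ Cfsg.octads) ∧ Cfsg.trios.ncard = 3795 := by
  refine ⟨fun o o' ho ho' hd => ?_, CfsgGolay.trios_ncard⟩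
  obtain ⟨⟨v, hv, rfl⟩, h8⟩ := ho
  obtain ⟨⟨w, hw, rfl⟩, h8'⟩ := ho'
  refine ⟨⟨1 + (v + w), add_mem (Submodule.subset_span (Or.inr rfl)) (add_mem hv hw), ?_⟩, ?_⟩
  · ext p
    have hp : ¬ (v p ≠ 0 ∧ w p ≠ 0) := fun h => Finset.disjoint_left.mp hd
      (by simp [support₂, h.1] : p ∈ support₂ v) (by simp [support₂, h.2])
    simp only [support₂, Finset.mem_filter, Finset.mem_univ, true_and, Pi.add_apply, Pi.one_apply,
      Finset.mem_compl, Finset.mem_union]
    revert hp; generalize v p = a; generalize w p = b; revert a b; decide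
  · rw [Finset.card_compl, Finset.card_union_of_disjoint hd, h8, h8']; decide

end Cfsg.Agent.S1557
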