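import Cfsg.Statements.S1559
import Cfsg.Agent.Lib.Golay.Coatom

set_option autoImplicit false
open scoped Pointwise
open Cfsg

namespace Cfsg.Agent.S1559

/-- A trio stabiliser has five orbits on the 3795 trios, of sizes 1, 42, 56, 1008, 2688; and the stabiliser is a maximal proper subgroup. -/
theorem result (T : Finset (Finset Cfsg.GolayPt)) (hT : T ∈ Cfsg.trios) : ∃ X₁ ∈ Cfsg.trios, ∃ X₂ ∈ Cfsg.trios, ∃ X₃ ∈ Cfsg.trios, ∃ X₄ ∈ Cfsg.trios, (MulAction.orbit ↥(MulAction.stabilizer Cfsg.M24 T) X₁).ncard = 42 ∧ (MulAction.orbit ↥(MulAction.stabilizer Cfsg.M24 T) X₂).ncard = 56 ∧ (MulAction.orbit ↥(MulAction.stabilizer Cfsg.M24 T) X₃).ncard = 1008 ∧ (MulAction.orbit ↥(MulAction.stabilizer Cfsg.M24 T) X₄).ncard = 2688 ∧ Cfsg.trios = {T} ∪ MulAction.orbit ↥(MulAction.stabilizer Cfsg.M24 T) X₁ ∪ MulAction.orbit ↥(MulAction.stabilizer Cfsg.M24 T) X₂ ∪ MulAction.orbit ↥(MulAction.stabilizer Cfsg.M24 T) X₃ ∪ MulAction.orbit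 ↥(MulAction.stabilizer Cfsg.M24 T) X₄ ∧ IsCoatom (MulAction.stabilizer Cfsg.M24 T) := by
  obtain ⟨g, hg, rfl⟩ := CfsgGolay.exists_smul_T0 hT
  obtain ⟨hc, hsz, hmem⟩ := CfsgGolay.partTT
  simp only [CfsgGolay.repsTT, List.map_cons, List.map_nil, List.cons.injEq, and_true] at hsz
  obtain ⟨h0, h1, h2, h3, h4⟩ := hsz
  have hc' := CfsgGolay.orbUnion_smul hg _ _ _ (fun h hh y hy => CfsgGolay.smul_mem_trios hh hy) hc
  refine ⟨g • (CfsgGolay.famSet 3 2402701737841094376960),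
    CfsgGolay.smul_mem_trios hg (hmem _ (by simp [CfsgGolay.repsTT])),
    g • (CfsgGolay.famSet 3 2453600308344789813300),
    CfsgGolay.smul_mem_trios hg (hmem _ (by simp [CfsgGolay.repsTT])),
    g • (CfsgGolay.famSet 3 2527256963559411982080),
    CfsgGolay.smul_mem_trios hg (hmem _ (by simp [CfsgGolay.repsTT])),
    g • (CfsgGolay.famSet 3 2444220172865853083520),
    CfsgGolay.smul_mem_trios hg (hmem _ (by simp [CfsgGolay.repsTT])),
    (CfsgGolay.isConjOf_stab_M24 hg CfsgGolay.T0 _).2.trans h1,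
    (CfsgGolay.isConjOf_stab_M24 hg CfsgGolay.T0 _).2.trans h2,
    (CfsgGolay.isConjOf_stab_M24 hg CfsgGolay.T0 _).2.trans h3,
    (CfsgGolay.isConjOf_stab_M24 hg CfsgGolay.T0 _).2.trans h4, ?_, ?_⟩
  · conv_lhs => rw [hc']
    ext y
    simp [CfsgGolay.orbUnion, CfsgGolay.repsTT, or_assoc, ← show CfsgGolay.T0 = (CfsgGolay.famSet 3 2402701777519073634240) from rfl, CfsgGolay.orbit_stab_self]
  · obtain ⟨hc, hsz, -⟩ := CfsgGolay.partTT
    refine CfsgGolay.isCoatom_of_partition hg _ _ CfsgGolay.trios_eq_orbit _ [42, 56, 1008, 2688] hc ?_ ?_ (by decide) (by decide +kernel)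
    · exact (List.cons_eq_cons.mp hsz).2
    · rw [CfsgGolay.trios_ncard]; rfl

end Cfsg.Agent.S1559
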