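import Cfsg.Statements.S1560
import Cfsg.Agent.Lib.Golay.ClassC

set_option autoImplicit false
open scoped Pointwise
open Cfsg

namespace Cfsg.Agent.S1560

/-- Intersection numbers of dodecads: a dodecad meets every other dodecad in 0, 4, 6 or 8 points, meeting 495 of them in 4 points, 1584 in 6 points and 495 in 8 points. -/
theorem result (d : Finset Cfsg.GolayPt) (hd : d ∈ Cfsg.dodecads) : (∀ d' ∈ Cfsg.dodecads, d' ≠ d → (d ∩ d').card = 0 ∨ (d ∩ d').card = 4 ∨ (d ∩ d').card = 6 ∨ (d ∩ d').card = 8) ∧ {d' : Finset Cfsg.GolayPt | d' ∈ Cfsg.dodecads ∧ (d ∩ d').card = 4}.ncard = 495 ∧ {d' : Finset Cfsg.GolayPt | d' ∈ Cfsg.dodecads ∧ (d ∩ d').card = 6}.ncard = 1584 ∧ {d' : Finset Cfsg.GolayPt | d' ∈ Cfsg.dodecads ∧ (d ∩ d').card = 8}.ncard = 495 := by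
  obtain ⟨g, hg, rfl⟩ := CfsgGolay.exists_smul_D0 hd
  refine ⟨fun d' hd' hne => ?_, ?_, ?_, ?_⟩
  · obtain ⟨x, hx, he⟩ := CfsgGolay.clsD.values (g⁻¹ • d') ⟨CfsgGolay.smul_mem_dodecads (inv_mem hg) hd', trivial⟩
    simp only [CfsgGolay.card_inter_inv] at he
    have h12 : (g • CfsgGolay.D0).card = 12 := (CfsgGolay.smul_mem_dodecads hg CfsgGolay.D0_mem).2
    simp only [List.mem_cons, List.not_mem_nil, or_false] at hx
    rcases hx with rfl | rfl | rfl | rfl | rfl <;> simp only at he <;> try omega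
    exact absurd (Finset.eq_of_subset_of_card_le (Finset.inter_eq_left.mp (Finset.eq_of_subset_of_card_le
      Finset.inter_subset_left (by omega))) (by rw [h12]; exact hd'.2.le)) (Ne.symm hne)
  · refine (CfsgGolay.ncard_translate g fun y => ?_).trans (CfsgGolay.clsD.count (4, 495) (by simp))
    simp only [Set.mem_ofPred_eq, CfsgGolay.smul_mem_dodecads_iff hg, CfsgGolay.card_inter_smul', and_assoc, true_and, and_true]
  · refine (CfsgGolay.ncard_translate g fun y => ?_).trans (CfsgGolay.clsD.count (6, 1584) (by simp))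
    simp only [Set.mem_ofPred_eq, CfsgGolay.smul_mem_dodecads_iff hg, CfsgGolay.card_inter_smul', and_assoc, true_and, and_true]
  · refine (CfsgGolay.ncard_translate g fun y => ?_).trans (CfsgGolay.clsD.count (8, 495) (by simp))
    simp only [Set.mem_ofPred_eq, CfsgGolay.smul_mem_dodecads_iff hg, CfsgGolay.card_inter_smul', and_assoc, true_and, and_true]

end Cfsg.Agent.S1560
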