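import Cfsg.Statements.S1561
import Cfsg.Agent.Lib.Golay.ClassC

set_option autoImplicit false
open scoped Pointwise
open Cfsg

namespace Cfsg.Agent.S1561

/-- Two dodecads meeting a fixed dodecad in equally many points lie in one orbit of its stabiliser. -/
theorem result (d d' d'' : Finset Cfsg.GolayPt) (hd : d ∈ Cfsg.dodecads) (hd' : d' ∈ Cfsg.dodecads) (hd'' : d'' ∈ Cfsg.dodecads) (h : (d ∩ d').card = (d ∩ d'').card) : ∃ g : Equiv.Perm Cfsg.GolayPt, g ∈ Cfsg.M24 ∧ g • d = d ∧ g • d' = d'' := by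
  obtain ⟨g, hg, rfl⟩ := CfsgGolay.exists_smul_D0 hd
  obtain ⟨k, hk, he⟩ := CfsgGolay.trans_translate (CfsgGolay.clsD.trans (g⁻¹ • d') ⟨CfsgGolay.smul_mem_dodecads (inv_mem hg) hd', trivial⟩ (g⁻¹ • d'') ⟨CfsgGolay.smul_mem_dodecads (inv_mem hg) hd'', trivial⟩ (by show _ = _; rw [CfsgGolay.card_inter_inv, CfsgGolay.card_inter_inv]; exact h))
  exact ⟨g * k * g⁻¹, CfsgGolay.conj_mem_M24 CfsgGolay.gD_ok hg hk, CfsgGolay.conj_fix (CfsgGolay.gD_fix hk), he⟩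

end Cfsg.Agent.S1561
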