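import Cfsg.Statements.S1562
import Cfsg.Agent.Lib.Golay.ClassT

set_option autoImplicit false
open scoped Pointwise
open Cfsg

namespace Cfsg.Agent.S1562

/-- Orbits of a triad stabiliser on the triads disjoint from it: the 210 triads inside a common octad with it form one orbit and the remaining 1120 another. -/
theorem result (T : Finset Cfsg.GolayPt) (hT : T.card = 3) : {U : Finset Cfsg.GolayPt | U.card = 3 ∧ Disjoint T U ∧ (∃ o ∈ Cfsg.octads, T ∪ U ⊆ o)}.ncard = 210 ∧ {U : Finset Cfsg.GolayPt | U.card = 3 ∧ Disjoint T U ∧ ¬ (∃ o ∈ Cfsg.octads, T ∪ U ⊆ o)}.ncard = 1120 ∧ ∀ U U' : Finset Cfsg.GolayPt, U.card = 3 → U'.card = 3 → Disjoint T U → Disjoint T U' → ((∃ o ∈ Cfsg.octads, T ∪ U ⊆ o) ↔ (∃ o ∈ Cfsg.octads, T ∪ U' ⊆ o)) → ∃ g : Equiv.Perm Cfsg.GolayPt, g ∈ Cfsg.M24 ∧ g • T = T ∧ g • U = U' := by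
  obtain ⟨g, hg, rfl⟩ := CfsgGolay.exists_smul_set (s := CfsgGolay.P30) (t := T) (by omega) (by rw [hT]; exact CfsgGolay.card_P30)
  refine ⟨?_, ?_, fun U U' hU hU' hd hd' h => ?_⟩
  · refine (CfsgGolay.ncard_translate g fun y => ?_).trans (CfsgGolay.clsR3.count (true, 210) (by simp))
    simp only [Set.mem_ofPred_eq, CfsgGolay.orbit_eq_card (CfsgGolay.card_P30.trans_le (by norm_num)), CfsgGolay.card_P30, CfsgGolay.disjoint_smul, CfsgGolay.inOct_smul hg, CfsgGolay.withP30_iff, Finset.card_smul_finset, and_assoc]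
  · refine (CfsgGolay.ncard_translate g fun y => ?_).trans (CfsgGolay.clsR3.count (false, 1120) (by simp))
    simp only [Set.mem_ofPred_eq, CfsgGolay.orbit_eq_card (CfsgGolay.card_P30.trans_le (by norm_num)), CfsgGolay.card_P30, CfsgGolay.disjoint_smul, CfsgGolay.inOct_smul hg, CfsgGolay.withP30_iff, Finset.card_smul_finset, and_assoc, Bool.eq_false_iff, ne_eq]
  · have hF : ∀ V : Finset Cfsg.GolayPt, V.card = 3 → Disjoint (g • CfsgGolay.P30) V →
        g⁻¹ • V ∈ MulAction.orbit Cfsg.M24 CfsgGolay.P30 ∧ Disjoint CfsgGolay.P30 (g⁻¹ • V) := fun V hV hdV => by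
      refine ⟨?_, ?_⟩
      · rw [CfsgGolay.orbit_eq_card (CfsgGolay.card_P30.trans_le (by norm_num))]
        exact (Finset.card_smul_finset _ _).trans (hV.trans CfsgGolay.card_P30.symm)
      · rw [← CfsgGolay.disjoint_smul (g := g), smul_inv_smul]; exact hdV
    have hw : ∀ V : Finset Cfsg.GolayPt, CfsgGolay.withP30 (g⁻¹ • V) = true ↔ ∃ o ∈ Cfsg.octads, g • CfsgGolay.P30 ∪ V ⊆ o := fun V => by
      rw [CfsgGolay.withP30_iff, ← CfsgGolay.inOct_smul hg, smul_inv_smul]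
    obtain ⟨k, hk, he⟩ := CfsgGolay.trans_translate (CfsgGolay.clsR3.trans _ (hF U hU hd) _ (hF U' hU' hd') (by
      rw [Bool.eq_iff_iff, hw, hw]; exact h))
    exact ⟨g * k * g⁻¹, CfsgGolay.conj_mem_M24 CfsgGolay.gR_ok hg hk,
      CfsgGolay.conj_fix (x := CfsgGolay.P30) (CfsgGolay.Gr_le_stab (K := CfsgGolay.maskK) (o := 8388611) (by show _ < 2 ^ 24; norm_num) CfsgGolay.fixR hk), he⟩

end Cfsg.Agent.S1562
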