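import Cfsg.Statements.S1564
import Cfsg.Agent.Lib.Golay.Small

set_option autoImplicit false
open scoped Pointwise
open Cfsg

namespace Cfsg.Agent.S1564

/-- The stabiliser of a set of three points (setwise) is a maximal proper subgroup of the group of the length-24 code. -/
theorem result (s : Finset Cfsg.GolayPt) (hs : s.card = 3) : IsCoatom (MulAction.stabilizer Cfsg.M24 s) := by
  obtain ⟨g, hg, rfl⟩ := CfsgGolay.exists_smul_set (s := CfsgGolay.P30) (t := s) (by omega)
    (by rw [hs, CfsgGolay.P30, CfsgGolay.card_toSet]; decide +kernel)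
  obtain ⟨hc, hsz, -⟩ := CfsgGolay.partRR
  refine CfsgGolay.isCoatom_of_partition hg _ _ rfl _ [63, 210, 630, 1120] hc ?_ ?_ (by decide) (by decide +kernel)
  · exact (List.cons_eq_cons.mp hsz).2
  · exact (CfsgGolay.orbit_M24 (K := CfsgGolay.maskK) (o := 8388611) (by show _ < 2 ^ 24; norm_num) CfsgGolay.cMR_ok).2

end Cfsg.Agent.S1564
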