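import Cfsg.Statements.S1565
import Cfsg.Agent.Lib.Golay.Coatom

set_option autoImplicit false
open scoped Pointwise
open Cfsg

namespace Cfsg.Agent.S1565

/-- The stabiliser of an octad is a maximal proper subgroup of the group of the length-24 code. -/
theorem result (o : Finset Cfsg.GolayPt) (ho : o ∈ Cfsg.octads) : IsCoatom (MulAction.stabilizer Cfsg.M24 o) := by
  obtain ⟨g, hg, rfl⟩ := CfsgGolay.exists_smul_O0 ho
  obtain ⟨hc, -, -⟩ := CfsgGolay.cover_OO
  rw [CfsgGolay.stabO.1] at hc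
  refine CfsgGolay.isCoatom_of_partition hg _ _ CfsgGolay.octads_eq_orbit _ [30, 280, 448] hc ?_ ?_ (by decide) (by decide +kernel)
  · simp only [List.map_cons, List.map_nil, List.cons.injEq, and_true]
    exact ⟨CfsgGolay.orbit_std (K := CfsgGolay.maskK) (o := 4202192) CfsgGolay.stabO.1 CfsgGolay.gO_ok (by show _ < 2 ^ 24; norm_num) CfsgGolay.cOO1_ok,
      CfsgGolay.orbit_std (K := CfsgGolay.maskK) (o := 8683614) CfsgGolay.stabO.1 CfsgGolay.gO_ok (by show _ < 2 ^ 24; norm_num) CfsgGolay.cOO2_ok,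
      CfsgGolay.orbit_std (K := CfsgGolay.maskK) (o := 12880401) CfsgGolay.stabO.1 CfsgGolay.gO_ok (by show _ < 2 ^ 24; norm_num) CfsgGolay.cOO3_ok⟩
  · rw [CfsgGolay.octads_ncard]; rfl

end Cfsg.Agent.S1565
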