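import Cfsg.Statements.S1566
import Cfsg.Agent.Lib.Golay.Small

set_option autoImplicit false
open scoped Pointwise
open Cfsg

namespace Cfsg.Agent.S1566

/-- The setwise stabiliser of a dodecad together with its complement is a maximal proper subgroup of the group of the length-24 code. -/
theorem result (d : Finset Cfsg.GolayPt) (hd : d ∈ Cfsg.dodecads) : IsCoatom (MulAction.stabilizer Cfsg.M24 ({d, dᶜ} : Finset (Finset Cfsg.GolayPt))) := by
  obtain ⟨g, hg, rfl⟩ := CfsgGolay.exists_smul_D0 hd
  rw [← CfsgGolay.smul_W0]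
  obtain ⟨hc, hsz, -⟩ := CfsgGolay.partWW
  refine CfsgGolay.isCoatom_of_partition hg _ _ rfl _ [495, 792] hc ?_ ?_ (by decide) (by decide +kernel)
  · exact (List.cons_eq_cons.mp hsz).2
  · exact (CfsgGolay.orbit_M24 (K := CfsgGolay.famK 2) (o := 275756764967775) (CfsgGolay.famValidB_sound (by decide +kernel)) CfsgGolay.cMW_ok).2

end Cfsg.Agent.S1566
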