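import Cfsg.Statements.S1587


set_option autoImplicit false
open Matrix
open Cfsg

namespace Cfsg.Agent.S1587

/-- First step of the characterisation of the rank-24 lattice: in an even lattice without roots, norm-8 vectors congruent modulo 2 are equal, opposite or orthogonal. -/
theorem result (B : Matrix (Fin 24) (Fin 24) ℤ) (hsymm : B.IsSymm) (hpos : ∀ x : Fin 24 → ℤ, x ≠ 0 → 0 < x ⬝ᵥ (B *ᵥ x)) (heven : ∀ x : Fin 24 → ℤ, (2 : ℤ) ∣ x ⬝ᵥ (B *ᵥ x)) (h2 : ∀ x : Fin 24 → ℤ, x ⬝ᵥ (B *ᵥ x) ≠ 2) (x y : Fin 24 → ℤ) (hx : x ⬝ᵥ (B *ᵥ x) = 8) (hy : y ⬝ᵥ (B *ᵥ y) = 8) (hc : ∀ i, (2 : ℤ) ∣ (x - y) i) : y = x ∨ y = -x ∨ x ⬝ᵥ (B *ᵥ y) = 0 := by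
  classical
  let q : (Fin 24 → ℤ) → ℤ := fun u => u ⬝ᵥ (B *ᵥ u)
  have hsym : ∀ u v : Fin 24 → ℤ, v ⬝ᵥ (B *ᵥ u) = u ⬝ᵥ (B *ᵥ v) := by
    intro u v
    rw [Matrix.dotProduct_mulVec, ← Matrix.mulVec_transpose, hsymm.eq, dotProduct_comm]
  obtain ⟨w, hw⟩ : ∃ w : Fin 24 → ℤ, x - y = (2 : ℤ) • w :=
    ⟨fun i => (x - y) i / 2, funext fun i => by
      simp only [Pi.smul_apply, smul_eq_mul]; exact (Int.mul_ediv_cancel' (hc i)).symm⟩
  have hxy : x + y = (2 : ℤ) • (y + w) := by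
    rw [smul_add, ← hw, two_smul]; abel
  have h1 : q (x - y) = 4 * q w := by
    simp only [q, hw, Matrix.mulVec_smul, dotProduct_smul, smul_dotProduct, smul_eq_mul]; ring
  have h2' : q (x + y) = 4 * q (y + w) := by
    simp only [q, hxy, Matrix.mulVec_smul, dotProduct_smul, smul_dotProduct, smul_eq_mul]; ring
  have e1 : q (x - y) = 16 - 2 * (x ⬝ᵥ (B *ᵥ y)) := by
    simp only [q, Matrix.mulVec_sub, dotProduct_sub, sub_dotProduct, hx, hy, hsym x y]; ring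
  have e2 : q (x + y) = 16 + 2 * (x ⬝ᵥ (B *ᵥ y)) := by
    simp only [q, Matrix.mulVec_add, dotProduct_add, add_dotProduct, hx, hy, hsym x y]; ring
  by_cases hw0 : w = 0
  · left; rw [hw0, smul_zero] at hw; exact (sub_eq_zero.mp hw).symm
  by_cases hu0 : y + w = 0
  · right; left; rw [hu0, smul_zero] at hxy; exact eq_neg_of_add_eq_zero_right hxy
  right; right
  have p1 : 0 < q w := hpos w hw0
  have p2 : 0 < q (y + w) := hpos _ hu0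
  have n1 : q w ≠ 2 := h2 w
  have n2 : q (y + w) ≠ 2 := h2 _
  obtain ⟨k1, k1e⟩ : (2 : ℤ) ∣ q w := heven w
  obtain ⟨k2, k2e⟩ : (2 : ℤ) ∣ q (y + w) := heven _
  omega

end Cfsg.Agent.S1587
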