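import Cfsg.Statements.S1588
import Cfsg.Agent.Lib.Leech.Frames

set_option autoImplicit false
open Matrix
open Cfsg

namespace Cfsg.Agent.S1588

/-- Second step of the characterisation: under the vector counts of the rank-24 lattice, the norm-8 vectors fall into congruence classes of exactly 48 modulo twice the lattice. -/
theorem result (B : Matrix (Fin 24) (Fin 24) ℤ) (hsymm : B.IsSymm) (hpos : ∀ x : Fin 24 → ℤ, x ≠ 0 → 0 < x ⬝ᵥ (B *ᵥ x)) (heven : ∀ x : Fin 24 → ℤ, (2 : ℤ) ∣ x ⬝ᵥ (B *ᵥ x)) (h2 : ∀ x : Fin 24 → ℤ, x ⬝ᵥ (B *ᵥ x) ≠ 2) (h4 : {x : Fin 24 → ℤ | x ⬝ᵥ (B *ᵥ x) = 4}.ncard = 196560) (h6 : {x : Fin 24 → ℤ | x ⬝ᵥ (B *ᵥ x) = 6}.ncard = 16773120) (h8 : {x : Fin 24 → ℤ | x ⬝ᵥ (B *ᵥ x) = 8}.ncard = 398034000) (x : Fin 24 → ℤ) (hx : x ⬝ᵥ (B *ᵥ x) = 8) : {y : Fin 24 → ℤ | y ⬝ᵥ (B *ᵥ y) = 8 ∧ ∀ i, (2 : ℤ) ∣ (x - y) i}.ncard = 48 := by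
  classical
  let d : (Fin 24 → ℤ) →+ (Fin 24 → ℤ) →+ ℤ :=
    AddMonoidHom.mk' (fun u => AddMonoidHom.mk' (fun v => u ⬝ᵥ (B *ᵥ v))
      fun a b => by simp [Matrix.mulVec_add, dotProduct_add])
      fun a b => by ext v; simp [add_dotProduct]
  have hd : ∀ u v, d u v = u ⬝ᵥ (B *ᵥ v) := fun _ _ => rfl
  have hsym : ∀ u v, d u v = d v u := fun u v => by
    rw [hd, hd, Matrix.dotProduct_mulVec, dotProduct_comm, ← Matrix.mulVec_transpose, hsymm.eq]
  have hmin : ∀ u : Fin 24 → ℤ, u ≠ 0 → 4 * 1 ≤ d u u := fun u hu => by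
    have := hpos u hu
    have := heven u
    have := h2 u
    rw [hd]; omega
  let D : CfsgLeech.FrameData (Fin 24 → ℤ) :=
    { d := d
      s := 1
      spos := one_pos
      symm := hsym
      pos := hmin
      frame := fun S h0 ho => by
        have := CfsgLeech.card_le_of_orthogonal (AddMonoidHom.id (Fin 24 → ℤ)) Function.injective_id d S
          (fun u hu h => by have := hmin u (h0 u hu); omega) ho
        simpa using this
      index := by rw [CfsgLeech.index_two_mul, Fintype.card_fin]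
      c4 := by simpa [hd] using h4
      c6 := by simpa [hd] using h6
      c8 := by simpa [hd] using h8 }
  have h := D.count.1 x (by show d x x = 8 * 1; rw [hd, hx]; rfl)
  rw [← h]
  congr 1
  ext y
  show (_ ∧ _) ↔ (d y y = 8 * 1 ∧ _)
  rw [hd, mul_one]
  refine and_congr_right fun _ => ⟨fun h => ?_, ?_⟩
  · choose z hz using h
    exact ⟨z, funext fun i => by simp [hz i]⟩
  · rintro ⟨z, hz⟩ i
    exact ⟨z i, by rw [hz]; simp⟩

end Cfsg.Agent.S1588
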