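import Cfsg.Statements.S1595
import Cfsg.Agent.Lib.SteinerCount

set_option autoImplicit false
open Cfsg

namespace Cfsg.Agent.S1595

/-- Leech triangle of S(5, 6, 12): blocks meet in 0, 2, 3 or 4 points, and a block is met exactly in a given 2-, 3- or 4-subset by 3, 2, 3 blocks respectively. -/
theorem result {α : Type*} [Fintype α] [DecidableEq α] (hα : Fintype.card α = 12) {B : Set (Finset α)} (hB : Cfsg.IsSteinerSystem 5 6 B) (b : Finset α) (hb : b ∈ B) : (∀ c ∈ B, c ≠ b → (b ∩ c).card = 0 ∨ (b ∩ c).card = 2 ∨ (b ∩ c).card = 3 ∨ (b ∩ c).card = 4) ∧ ∀ s ⊆ b, (s.card = 2 → {c : Finset α | c ∈ B ∧ b ∩ c = s}.ncard = 3) ∧ (s.card = 3 → {c : Finset α | c ∈ B ∧ b ∩ c = s}.ncard = 2) ∧ (s.card = 4 → {c : Finset α | c ∈ B ∧ b ∩ c = s}.ncard = 3) := by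
  refine ⟨fun c hc hne => ?_, fun s hs => ?_⟩
  · obtain ⟨-, h1, -⟩ := CfsgSteiner.dist_5_6_12 hα hB hb
    have := CfsgSteiner.inter_card_lt hB hb hc hne.symm
    have := CfsgSteiner.inter_ne_of_zero hc hne h1
    omega
  · have hcA : (b \ s).card = 6 - s.card := by rw [Finset.card_sdiff_of_subset hs, hB.1 b hb]
    have hset : {c : Finset α | c ∈ B ∧ b ∩ c = s}.ncard = (if s = b then 1 else
        ((((CfsgSteiner.blocks B).filter (s ⊆ ·)) \ {b}).filter fun d => (d ∩ (b \ s)).card = 0).card) := by
      rw [CfsgSteiner.ncard_setOf B (fun c => b ∩ c = s)]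
      split_ifs with hsb
      · rw [Finset.card_eq_one]
        refine ⟨b, Finset.eq_singleton_iff_unique_mem.mpr ⟨by simp [hb, hsb], fun d hd => ?_⟩⟩
        simp only [Finset.mem_filter, CfsgSteiner.mem_blocks, hsb, Finset.inter_eq_left] at hd
        exact (Finset.eq_of_subset_of_card_le hd.2 (by rw [hB.1 b hb, hB.1 d hd.1])).symm
      · congr 1
        ext d
        simp only [Finset.mem_filter, Finset.mem_sdiff, CfsgSteiner.mem_blocks, Finset.mem_singleton, Finset.card_eq_zero]
        constructor
        · rintro ⟨hd, he⟩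
          refine ⟨⟨⟨hd, he ▸ Finset.inter_subset_right⟩, fun h => hsb (by rw [← he, h, Finset.inter_self])⟩, ?_⟩
          ext x; simp [← he] <;> tauto
        · rintro ⟨⟨⟨hd, hsd⟩, -⟩, he⟩
          refine ⟨hd, ?_⟩
          ext x
          constructor
          · intro hx
            by_contra hxs
            have : x ∈ d ∩ (b \ s) := by simp at hx ⊢; exact ⟨hx.2, hx.1, hxs⟩
            simp [he] at this
          · intro hx; exact Finset.mem_inter.mpr ⟨hs hx, hsd hx⟩
    have key := fun (i L : ℕ) (hi : s.card + i ≤ 5)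
        (hL : L * Nat.choose (6 - (s.card + i)) (5 - (s.card + i)) = Nat.choose (12 - (s.card + i)) (5 - (s.card + i))) =>
      CfsgSteiner.moment_split hB hα (by norm_num) (S := s) (A := b \ s) disjoint_sdiff_self_right {b}
        (by simp [hb, hs]) (m := 5 - s.card) (i := i) (L := L)
        (fun d hd hne => by
          simp only [Finset.mem_filter, CfsgSteiner.mem_blocks, Finset.mem_singleton] at hd hne
          have h5 := CfsgSteiner.inter_card_lt hB hd.1 hb hne
          have : (d ∩ (b \ s)).card + s.card = (d ∩ b).card := by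
            rw [← Finset.card_union_of_disjoint (Finset.disjoint_of_subset_left Finset.inter_subset_right Finset.sdiff_disjoint)]
            congr 1; ext x
            simp only [Finset.mem_union, Finset.mem_inter, Finset.mem_sdiff]
            exact ⟨fun h => h.elim (fun h => ⟨h.1, h.2.1⟩) (fun h => ⟨hd.2 h, hs h⟩), fun h => by tauto⟩
          omega)
        hi hL
    have hbs : b ∩ (b \ s) = b \ s := Finset.inter_eq_right.mpr Finset.sdiff_subset
    refine ⟨fun h => ?_, fun h => ?_, fun h => ?_⟩ <;>
      rw [hset, if_neg (by rintro rfl; rw [hB.1 _ hb] at h; omega)]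
    · have e0 := key 0 30 (by omega) (by rw [h]; decide)
      have e1 := key 1 12 (by omega) (by rw [h]; decide)
      have e2 := key 2 4 (by omega) (by rw [h]; decide)
      rw [Finset.sum_singleton, hbs, hcA, h] at e0 e1 e2
      norm_num [Finset.sum_range_succ, Nat.choose_eq_descFactorial_div_factorial, Nat.descFactorial, Nat.factorial, -Finset.card_eq_zero] at e0 e1 e2
      omega
    · have e0 := key 0 12 (by omega) (by rw [h]; decide)
      have e1 := key 1 4 (by omega) (by rw [h]; decide)
      rw [Finset.sum_singleton, hbs, hcA, h] at e0 e1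
      norm_num [Finset.sum_range_succ, Nat.choose_eq_descFactorial_div_factorial, Nat.descFactorial, Nat.factorial, -Finset.card_eq_zero] at e0 e1
      omega
    · have e0 := key 0 4 (by omega) (by rw [h]; decide)
      rw [Finset.sum_singleton, hbs, hcA, h] at e0
      norm_num [Finset.sum_range_succ, Nat.choose_eq_descFactorial_div_factorial, Nat.descFactorial, Nat.factorial, -Finset.card_eq_zero] at e0
      omega

end Cfsg.Agent.S1595
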