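import Cfsg.Statements.S1596
import Cfsg.Agent.Lib.Golay.Quartet

set_option autoImplicit false
open scoped Pointwise
open Cfsg

namespace Cfsg.Agent.S1596

/-- A quartet of a dodecad is determined by any two of its triples: two disjoint triples uniting to a hexad extend to exactly one quartet. -/
theorem result (d : Finset Cfsg.GolayPt) (hd : d ∈ Cfsg.dodecads) (t u : Finset Cfsg.GolayPt) (ht : t.card = 3) (hu : u.card = 3) (htu : Disjoint t u) (hh : t ∪ u ∈ Cfsg.hexadsOn d) : ∃! Q : Finset (Finset Cfsg.GolayPt), Q ∈ Cfsg.quartets d ∧ t ∈ Q ∧ u ∈ Q := by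
  obtain ⟨g, hg, rfl, rfl, rfl⟩ := CfsgGolay.pair_transitive hd ht hu hh
  refine ⟨g • CfsgGolay.famSet 4 CfsgGolay.qQ0, ⟨CfsgGolay.smul_quartets hg CfsgGolay.Q0_quartet, ?_, ?_⟩, ?_⟩
  · exact Finset.smul_mem_smul_finset (Finset.mem_image.mpr ⟨14, List.mem_toFinset.mpr (by decide +kernel), rfl⟩)
  · exact Finset.smul_mem_smul_finset (Finset.mem_image.mpr ⟨262224, List.mem_toFinset.mpr (by decide +kernel), rfl⟩)
  · rintro Q ⟨hQ, h1, h2⟩
    rw [CfsgGolay.quartets_smul hg, Set.mem_smul_set_iff_inv_smul_mem] at hQ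
    have h1' := Finset.smul_mem_smul_finset (a := g⁻¹) h1
    have h2' := Finset.smul_mem_smul_finset (a := g⁻¹) h2
    rw [inv_smul_smul] at h1' h2'
    exact inv_smul_eq_iff.mp (CfsgGolay.std_quartet_unique hQ h1' h2')

end Cfsg.Agent.S1596
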