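import Cfsg.Statements.S1597
import Cfsg.Agent.Lib.Golay.Quartet

set_option autoImplicit false
open scoped Pointwise
open Cfsg

namespace Cfsg.Agent.S1597

/-- A dodecad has 220 quartets and its stabiliser is transitive on them. -/
theorem result (d : Finset Cfsg.GolayPt) (hd : d ∈ Cfsg.dodecads) : (Cfsg.quartets d).ncard = 220 ∧ ∀ Q ∈ Cfsg.quartets d, ∀ Q' ∈ Cfsg.quartets d, ∃ g : Equiv.Perm Cfsg.GolayPt, g ∈ Cfsg.M24 ∧ g • d = d ∧ g • Q = Q' := by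
  refine ⟨?_, fun Q hQ Q' hQ' => ?_⟩
  · obtain ⟨g, hg, rfl⟩ := CfsgGolay.exists_smul_D0 hd
    rw [CfsgGolay.quartets_smul hg, ← CfsgGolay.ncard_quartets_std]
    exact (MulAction.injective g).injOn.ncard_image
  · obtain ⟨a, ha, ha1, rfl⟩ := CfsgGolay.quartet_cfg hd hQ
    obtain ⟨b, hb, hb1, rfl⟩ := CfsgGolay.quartet_cfg hd hQ'
    refine ⟨b * a⁻¹, mul_mem hb (inv_mem ha), ?_, ?_⟩
    · rw [mul_smul, inv_smul_eq_iff.mpr ha1.symm, hb1]
    · rw [mul_smul, inv_smul_smul]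

end Cfsg.Agent.S1597
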