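import Cfsg.Statements.S1600
import Cfsg.Agent.Lib.Golay.M12More

set_option autoImplicit false
open scoped Pointwise
open Cfsg

namespace Cfsg.Agent.S1600

/-- The pointwise stabiliser of three points of a dodecad inside the dodecad stabiliser (order 72) is transitive on the complementary dodecad. -/
theorem result (d : Finset Cfsg.GolayPt) (hd : d ∈ Cfsg.dodecads) (p q r : Cfsg.GolayPt) (hp : p ∈ d) (hq : q ∈ d) (hr : r ∈ d) (hpq : p ≠ q) (hpr : p ≠ r) (hqr : q ≠ r) : Nat.card ↥(MulAction.stabilizer Cfsg.M24 d ⊓ MulAction.stabilizer Cfsg.M24 p ⊓ MulAction.stabilizer Cfsg.M24 q ⊓ MulAction.stabilizer Cfsg.M24 r) = 72 ∧ ∀ x ∉ d, ∀ y ∉ d, ∃ g ∈ (MulAction.stabilizer Cfsg.M24 d ⊓ MulAction.stabilizer Cfsg.M24 p ⊓ MulAction.stabilizer Cfsg.M24 q ⊓ MulAction.stabilizer Cfsg.M24 r), ((g : ↥Cfsg.M24) : Equiv.Perm Cfsg.GolayPt) x = y := by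
  set S := MulAction.stabilizer Cfsg.M24 d ⊓ MulAction.stabilizer Cfsg.M24 p ⊓ MulAction.stabilizer Cfsg.M24 q ⊓ MulAction.stabilizer Cfsg.M24 r with hS
  have hmap : S.map Cfsg.M24.subtype = CfsgGolay.dodTriple d p q r := by
    ext g
    simp only [hS, Subgroup.mem_map, Subgroup.mem_inf, MulAction.mem_stabilizer_iff, CfsgGolay.mem_dodTriple]
    constructor
    · rintro ⟨k, ⟨⟨⟨h1, h2⟩, h3⟩, h4⟩, rfl⟩
      exact ⟨⟨k.2, h1⟩, h2, h3, h4⟩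
    · rintro ⟨⟨hM, h1⟩, h2, h3, h4⟩
      exact ⟨⟨g, hM⟩, ⟨⟨⟨h1, h2⟩, h3⟩, h4⟩, rfl⟩
  refine ⟨(CfsgGolay.card_sub hmap).trans (CfsgGolay.card_dodTriple hd hp hq hr hpq hpr hqr), fun x hx y hy => ?_⟩
  obtain ⟨g, hg, he⟩ := CfsgGolay.dodTriple_transitive hd hp hq hr hpq hpr hqr hx hy
  rw [← hmap] at hg
  obtain ⟨k, hk, rfl⟩ := hg
  exact ⟨k, hk, he⟩

end Cfsg.Agent.S1600
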