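import Cfsg.Statements.S1604
import Cfsg.Agent.Lib.Golay.ClassC

set_option autoImplicit false
open scoped Pointwise
open Cfsg

namespace Cfsg.Agent.S1604

/-- A hexad stabiliser in the two-point stabiliser has orbits of sizes 1, 16, 60 on the 77 hexads: the 16 hexads disjoint from it and the 60 meeting it in two points. -/
theorem result (p q : Cfsg.GolayPt) (hpq : p ≠ q) (o o' o'' : Finset Cfsg.GolayPt) (ho : o ∈ Cfsg.octads) (ho' : o' ∈ Cfsg.octads) (ho'' : o'' ∈ Cfsg.octads) (hp : p ∈ o ∧ p ∈ o' ∧ p ∈ o'') (hq : q ∈ o ∧ q ∈ o' ∧ q ∈ o'') (h : (o ∩ o').card = (o ∩ o'').card) : {x : Finset Cfsg.GolayPt | x ∈ Cfsg.octads ∧ p ∈ x ∧ q ∈ x ∧ (o ∩ x).card = 2}.ncard = 16 ∧ {x : Finset Cfsg.GolayPt | x ∈ Cfsg.octads ∧ p ∈ x ∧ q ∈ x ∧ (o ∩ x).card = 4}.ncard = 60 ∧ ∃ g : Equiv.Perm Cfsg.GolayPt, g ∈ Cfsg.M24 ∧ g p = p ∧ g q = q ∧ g • o = o ∧ g • o' = o'' := by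
  obtain ⟨hp0, hp1, hp2⟩ := hp
  obtain ⟨hq0, hq1, hq2⟩ := hq
  obtain ⟨g, hg, rfl, rfl, rfl⟩ := CfsgGolay.cfgC ho hp0 hq0 hpq
  refine ⟨?_, ?_, ?_⟩
  · refine (CfsgGolay.ncard_translate g fun y => ?_).trans (CfsgGolay.clsC.count (2, 16) (by simp))
    simp only [Set.mem_ofPred_eq, CfsgGolay.smul_mem_octads_iff hg, CfsgGolay.card_inter_smul', CfsgGolay.pt_mem_smul, and_assoc, true_and, and_true]
  · refine (CfsgGolay.ncard_translate g fun y => ?_).trans (CfsgGolay.clsC.count (4, 60) (by simp))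
    simp only [Set.mem_ofPred_eq, CfsgGolay.smul_mem_octads_iff hg, CfsgGolay.card_inter_smul', CfsgGolay.pt_mem_smul, and_assoc, true_and, and_true]
  · obtain ⟨k, hk, he⟩ := CfsgGolay.trans_translate (CfsgGolay.clsC.trans (g⁻¹ • o') ⟨CfsgGolay.smul_mem_octads (inv_mem hg) ho', CfsgGolay.mem_inv_smul.mpr hp1, CfsgGolay.mem_inv_smul.mpr hq1⟩ (g⁻¹ • o'') ⟨CfsgGolay.smul_mem_octads (inv_mem hg) ho'', CfsgGolay.mem_inv_smul.mpr hp2, CfsgGolay.mem_inv_smul.mpr hq2⟩ (by show _ = _; rw [CfsgGolay.card_inter_inv, CfsgGolay.card_inter_inv]; exact h))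
    refine ⟨g * k * g⁻¹, CfsgGolay.conj_mem_M24 CfsgGolay.gC_ok hg hk, CfsgGolay.conj_fix_pt (x := CfsgGolay.pt 23) (CfsgGolay.Gr_le_stab (K := CfsgGolay.pointK) (o := 23) (by show _ < 24; norm_num) (by decide +kernel) hk), CfsgGolay.conj_fix_pt (x := CfsgGolay.pt 0) (CfsgGolay.Gr_le_stab (K := CfsgGolay.pointK) (o := 0) (by show _ < 24; norm_num) (by decide +kernel) hk), CfsgGolay.conj_fix (x := CfsgGolay.O0) (CfsgGolay.Gr_le_stab (K := CfsgGolay.maskK) (o := 8536111) (by show _ < 2 ^ 24; norm_num) (by decide +kernel) hk), he⟩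

end Cfsg.Agent.S1604
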