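import Cfsg.Statements.S1605
import Cfsg.Agent.Lib.Golay.ClassC

set_option autoImplicit false
open scoped Pointwise
open Cfsg

namespace Cfsg.Agent.S1605

/-- The two-point stabiliser acts on the 176 octads through the first point avoiding the second with rank 3 and subdegrees 1, 70, 105 (intersections 8, 2, 4). -/
theorem result (p q : Cfsg.GolayPt) (hpq : p ≠ q) : {x : Finset Cfsg.GolayPt | (x ∈ Cfsg.octads ∧ p ∈ x ∧ q ∉ x)}.ncard = 176 ∧ (∀ o o' : Finset Cfsg.GolayPt, (o ∈ Cfsg.octads ∧ p ∈ o ∧ q ∉ o) → (o' ∈ Cfsg.octads ∧ p ∈ o' ∧ q ∉ o') → ∃ g : Equiv.Perm Cfsg.GolayPt, g ∈ Cfsg.M24 ∧ g p = p ∧ g q = q ∧ g • o = o') ∧ ∀ o : Finset Cfsg.GolayPt, (o ∈ Cfsg.octads ∧ p ∈ o ∧ q ∉ o) → {x : Finset Cfsg.GolayPt | (x ∈ Cfsg.octads ∧ p ∈ x ∧ q ∉ x) ∧ (o ∩ x).card = 2}.ncard = 70 ∧ {x : Finset Cfsg.GolayPt | (x ∈ Cfsg.octads ∧ p ∈ x ∧ q ∉ x) ∧ (o ∩ x).card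 = 4}.ncard = 105 ∧ ∀ o' o'' : Finset Cfsg.GolayPt, (o' ∈ Cfsg.octads ∧ p ∈ o' ∧ q ∉ o') → (o'' ∈ Cfsg.octads ∧ p ∈ o'' ∧ q ∉ o'') → (o ∩ o').card = (o ∩ o'').card → ∃ g : Equiv.Perm Cfsg.GolayPt, g ∈ Cfsg.M24 ∧ g p = p ∧ g q = q ∧ g • o = o ∧ g • o' = o'' := by
  refine ⟨?_, fun o o' ho ho' => ?_, fun o ho => ?_⟩
  · obtain ⟨g, hg, rfl, rfl⟩ := CfsgGolay.cfgP hpq
    refine (CfsgGolay.ncard_translate g fun y => ?_).trans CfsgGolay.clsP.total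
    simp only [Set.mem_ofPred_eq, CfsgGolay.smul_mem_octads_iff hg, CfsgGolay.pt_mem_smul]
  · obtain ⟨g, hg, rfl, rfl⟩ := CfsgGolay.cfgP hpq
    obtain ⟨k, hk, he⟩ := CfsgGolay.trans_translate (CfsgGolay.clsP.trans (g⁻¹ • o) ⟨CfsgGolay.smul_mem_octads (inv_mem hg) ho.1, CfsgGolay.mem_inv_smul.mpr ho.2.1, fun hc => ho.2.2 (CfsgGolay.mem_inv_smul.mp hc)⟩ (g⁻¹ • o') ⟨CfsgGolay.smul_mem_octads (inv_mem hg) ho'.1, CfsgGolay.mem_inv_smul.mpr ho'.2.1, fun hc => ho'.2.2 (CfsgGolay.mem_inv_smul.mp hc)⟩ rfl)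
    exact ⟨g * k * g⁻¹, CfsgGolay.conj_mem_M24 CfsgGolay.gP_ok hg hk, CfsgGolay.conj_fix_pt (x := CfsgGolay.pt 23) (CfsgGolay.Gr_le_stab (K := CfsgGolay.pointK) (o := 23) (by show _ < 24; norm_num) (by decide +kernel) hk), CfsgGolay.conj_fix_pt (x := CfsgGolay.pt 4) (CfsgGolay.Gr_le_stab (K := CfsgGolay.pointK) (o := 4) (by show _ < 24; norm_num) (by decide +kernel) hk), he⟩
  obtain ⟨g, hg, rfl, rfl, rfl⟩ := CfsgGolay.cfgE ho.1 ho.2.1 ho.2.2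
  refine ⟨?_, ?_, fun o' o'' ho' ho'' h => ?_⟩
  · refine (CfsgGolay.ncard_translate g fun y => ?_).trans (CfsgGolay.clsE.count (2, 70) (by simp))
    simp only [Set.mem_ofPred_eq, CfsgGolay.smul_mem_octads_iff hg, CfsgGolay.card_inter_smul', CfsgGolay.pt_mem_smul, and_assoc, true_and, and_true]
  · refine (CfsgGolay.ncard_translate g fun y => ?_).trans (CfsgGolay.clsE.count (4, 105) (by simp))
    simp only [Set.mem_ofPred_eq, CfsgGolay.smul_mem_octads_iff hg, CfsgGolay.card_inter_smul', CfsgGolay.pt_mem_smul, and_assoc, true_and, and_true]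
  · obtain ⟨k, hk, he⟩ := CfsgGolay.trans_translate (CfsgGolay.clsE.trans (g⁻¹ • o') ⟨CfsgGolay.smul_mem_octads (inv_mem hg) ho'.1, CfsgGolay.mem_inv_smul.mpr ho'.2.1, fun hc => ho'.2.2 (CfsgGolay.mem_inv_smul.mp hc)⟩ (g⁻¹ • o'') ⟨CfsgGolay.smul_mem_octads (inv_mem hg) ho''.1, CfsgGolay.mem_inv_smul.mpr ho''.2.1, fun hc => ho''.2.2 (CfsgGolay.mem_inv_smul.mp hc)⟩ (by show _ = _; rw [CfsgGolay.card_inter_inv, CfsgGolay.card_inter_inv]; exact h))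
    refine ⟨g * k * g⁻¹, CfsgGolay.conj_mem_M24 CfsgGolay.gE_ok hg hk, CfsgGolay.conj_fix_pt (x := CfsgGolay.pt 23) (CfsgGolay.Gr_le_stab (K := CfsgGolay.pointK) (o := 23) (by show _ < 24; norm_num) (by decide +kernel) hk), CfsgGolay.conj_fix_pt (x := CfsgGolay.pt 4) (CfsgGolay.Gr_le_stab (K := CfsgGolay.pointK) (o := 4) (by show _ < 24; norm_num) (by decide +kernel) hk), CfsgGolay.conj_fix (x := CfsgGolay.O0) (CfsgGolay.Gr_le_stab (K := CfsgGolay.maskK) (o := 8536111) (by show _ < 2 ^ 24; norm_num) (by decide +kernel) hk), he⟩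

end Cfsg.Agent.S1605
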