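import Cfsg.Statements.S1607
import Cfsg.Agent.Lib.Golay.ClassC

set_option autoImplicit false
open scoped Pointwise
open Cfsg

namespace Cfsg.Agent.S1607

/-- The point stabiliser acts on the 253 heptads of its S(4, 7, 23) with rank 3 and subdegrees 1, 112, 140 (intersections 8, 2, 4). -/
theorem result (x : Cfsg.GolayPt) (o : Finset Cfsg.GolayPt) (ho : o ∈ Cfsg.octads) (hx : x ∈ o) : {o' : Finset Cfsg.GolayPt | o' ∈ Cfsg.octads ∧ x ∈ o' ∧ (o ∩ o').card = 2}.ncard = 112 ∧ {o' : Finset Cfsg.GolayPt | o' ∈ Cfsg.octads ∧ x ∈ o' ∧ (o ∩ o').card = 4}.ncard = 140 ∧ ∀ o' o'' : Finset Cfsg.GolayPt, o' ∈ Cfsg.octads → o'' ∈ Cfsg.octads → x ∈ o' → x ∈ o'' → (o ∩ o').card = (o ∩ o'').card → ∃ g : Equiv.Perm Cfsg.GolayPt, g ∈ Cfsg.M24 ∧ g x = x ∧ g • o = o ∧ g • o' = o'' := by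
  obtain ⟨g, hg, rfl, rfl⟩ := CfsgGolay.cfgA ho hx
  refine ⟨?_, ?_, fun o' o'' ho' ho'' hx' hx'' h => ?_⟩
  · refine (CfsgGolay.ncard_translate g fun y => ?_).trans (CfsgGolay.clsA.count (2, 112) (by simp))
    simp only [Set.mem_ofPred_eq, CfsgGolay.smul_mem_octads_iff hg, CfsgGolay.card_inter_smul', CfsgGolay.pt_mem_smul, and_assoc, true_and, and_true]
  · refine (CfsgGolay.ncard_translate g fun y => ?_).trans (CfsgGolay.clsA.count (4, 140) (by simp))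
    simp only [Set.mem_ofPred_eq, CfsgGolay.smul_mem_octads_iff hg, CfsgGolay.card_inter_smul', CfsgGolay.pt_mem_smul, and_assoc, true_and, and_true]
  · obtain ⟨k, hk, he⟩ := CfsgGolay.trans_translate (CfsgGolay.clsA.trans (g⁻¹ • o') ⟨CfsgGolay.smul_mem_octads (inv_mem hg) ho', CfsgGolay.mem_inv_smul.mpr hx'⟩ (g⁻¹ • o'') ⟨CfsgGolay.smul_mem_octads (inv_mem hg) ho'', CfsgGolay.mem_inv_smul.mpr hx''⟩ (by show _ = _; rw [CfsgGolay.card_inter_inv, CfsgGolay.card_inter_inv]; exact h))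
    refine ⟨g * k * g⁻¹, CfsgGolay.conj_mem_M24 CfsgGolay.gA_ok hg hk, CfsgGolay.conj_fix_pt (CfsgGolay.gA_fix hk).2, CfsgGolay.conj_fix (CfsgGolay.gA_fix hk).1, he⟩

end Cfsg.Agent.S1607
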