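import Cfsg.Statements.S1615
import Cfsg.Agent.Lib.ThreeTrans.TwinFive

set_option autoImplicit false
open Cfsg

namespace Cfsg.Agent.S1615

/-- If O(⟨D_x⟩) is not central in ⟨D_x⟩ for some transposition x, the 3-transposition group is the symmetric group of degree 5. -/
theorem result {G : Type*} [Group G] [Finite G] (hsol : ∀ N : Subgroup G, N.Normal → Group.IsSolvable ↥N → N = ⊥) (hperf : ⁅commutator G, commutator G⁆ = commutator G) {D : Set G} (hD : Cfsg.IsThreeTranspositionClass D) (x : G) (hx : x ∈ D) (h : ¬ Cfsg.oddCore ↥(Subgroup.closure {y : G | y ∈ D ∧ y ≠ x ∧ Commute x y}) ≤ Subgroup.center ↥(Subgroup.closure {y : G | y ∈ D ∧ y ≠ x ∧ Commute x y})) : Nonempty (G ≃* Equiv.Perm (Fin 5)) := by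
  have hD2 : ∃ a ∈ D, ∃ b ∈ D, a ≠ b := by
    by_contra hno
    push Not at hno
    have hE : {y : G | y ∈ D ∧ y ≠ x ∧ Commute x y} = ∅ :=
      Set.eq_empty_iff_forall_notMem.mpr fun y hy => hy.2.1 (hno y hy.1 x hx)
    refine h ?_
    rw [hE, Subgroup.closure_empty]
    intro z _
    exact Subgroup.mem_center_iff.mpr fun g => Subsingleton.elim _ _
  obtain ⟨hp, hw⟩ := CfsgThreeTrans.fischer_prim hsol hperf hD hD2
  exact CfsgThreeTrans.TwinFive.main hD hp hw hx (CfsgThreeTrans.TwinFive.exists_twins hD hx h)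

end Cfsg.Agent.S1615
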