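import Cfsg.Statements.S1618
import Cfsg.Agent.Lib.ZStar.PProducts
import Cfsg.Agent.Lib.Basic

set_option autoImplicit false
open Cfsg
open scoped commutatorElement

namespace Cfsg.Agent.S1618

/-- A group generated by a class of involutions whose pairwise products (of distinct members) have p-power order for a fixed odd prime p has nilpotent derived subgroup. -/
theorem result {G : Type*} [Group G] [Finite G] (p : ℕ) (hp : p.Prime) (hodd : p ≠ 2) {D : Set G} (hinv : ∀ d ∈ D, orderOf d = 2) (hconj : ∃ d ∈ D, D = conjugatesOf d) (hgen : Subgroup.closure D = ⊤) (hprod : ∀ x ∈ D, ∀ y ∈ D, x ≠ y → ∃ k : ℕ, orderOf (x * y) = p ^ k) : Group.IsNilpotent ↥(commutator G) := by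
  classical
  obtain ⟨d, hdD, hD⟩ := hconj
  have hd := hinv d hdD
  have hall := CfsgLib.ZStar.products_mem_pCore hp hodd hd (by
    intro a ha b hb
    rw [← hD] at ha hb
    rcases eq_or_ne a b with rfl | hne
    · refine ⟨0, ?_⟩
      rw [CfsgLib.ZStar.sq_eq_one (hinv a ha), orderOf_one, pow_zero]
    · exact hprod a ha b hb hne)
  haveI : Fact p.Prime := ⟨hp⟩
  set φ := QuotientGroup.mk' (Cfsg.pCore p G)
  have htop : (Subgroup.zpowers (φ d)) = ⊤ := by
    rw [eq_top_iff, ← Subgroup.map_top_of_surjective φ (QuotientGroup.mk'_surjective _), ← hgen,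
      MonoidHom.map_closure, Subgroup.closure_le]
    rintro _ ⟨x, hx, rfl⟩
    have h1 : d * x ∈ Cfsg.pCore p G := hall d (hD ▸ hdD) x (hD ▸ hx)
    have h2 : φ d * φ x = 1 := by
      rw [← map_mul]; exact (QuotientGroup.eq_one_iff _).2 h1
    rw [show φ x = (φ d)⁻¹ from eq_inv_of_mul_eq_one_right h2]
    exact inv_mem (Subgroup.mem_zpowers _)
  have hle : commutator G ≤ Cfsg.pCore p G := by
    rw [commutator_def, Subgroup.commutator_le]
    intro a _ b _
    have hcomm : φ a * φ b = φ b * φ a := by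
      obtain ⟨i, hi⟩ := Subgroup.mem_zpowers_iff.1 (htop ▸ Subgroup.mem_top (φ a))
      obtain ⟨j, hj⟩ := Subgroup.mem_zpowers_iff.1 (htop ▸ Subgroup.mem_top (φ b))
      rw [← hi, ← hj, zpow_mul_comm]
    exact (QuotientGroup.eq_one_iff _).1
      (show φ ⁅a, b⁆ = 1 by
        rw [map_commutatorElement, commutatorElement_eq_one_iff_mul_comm]; exact hcomm)
  exact ((CfsgLib.isPGroup_pCore p).to_le hle).isNilpotent

end Cfsg.Agent.S1618
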