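import Cfsg.Statements.S1626
import Cfsg.Agent.Lib.J3.Field
import Cfsg.Agent.Lib.J3.OrbitPoint
import Cfsg.Agent.Lib.J3.OrbitIso
import Cfsg.Agent.Lib.J3.Isotropic

set_option autoImplicit false
open scoped MatrixGroups
open Matrix
open Cfsg

namespace Cfsg.Agent.S1626

open CfsgLib.J3 CfsgLib.G24 CfsgLib.CosetEnum Cfsg.Spor

theorem point_root : dec (orbPoint.vec orbPoint.root) = Pi.single (0 : F9) (1 : K) := by
  funext z
  revert z
  decide +kernel

theorem root_lt : orbPoint.root < orbPoint.n ∧ orbIso.root < orbIso.n := by decide +kernel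

theorem iso_all {v : F9 → K} (hv : v ≠ 0) (h : ∑ z, v z ^ 3 = 0) :
    ∃ i < orbIso.n, ∃ c : K, c ≠ 0 ∧ v = c • dec (orbIso.vec i) := by
  classical
  have hok : ∀ i < orbIso.n, orbIso.okPt i = true := orbIso_ok
  have h0 : ∑ z, dec (orbIso.vec orbIso.root) z ^ 3 = 0 := by decide +kernel
  have hisoEl : ∀ x u, ∑ z, (((el x : GL F9 K) : Matrix F9 F9 K) *ᵥ u) z ^ 3 = ∑ z, u z ^ 3 := by
    intro x u
    have hU : ((el x : GL F9 K) : Matrix F9 F9 K)ᵀ * ((el x : GL F9 K) : Matrix F9 F9 K).map (fun a => a * a) = 1 := by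
      show (matC (mcols x))ᵀ * (matC (mcols x)).map (fun a => a * a) = 1
      by_cases hx : x < 4
      · have key : ∀ y : Fin 4, ∀ p : F9 × F9,
            ((matC (mcols y.val))ᵀ * (matC (mcols y.val)).map (fun a => a * a)) p.1 p.2 =
              (1 : Matrix F9 F9 K) p.1 p.2 := by decide +kernel
        exact Matrix.ext fun z w => key ⟨x, hx⟩ (z, w)
      · rw [mcols_default hx, matC_one, Matrix.transpose_one, one_mul]
        exact Matrix.map_one _ (by decide) (by decide)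
    set M := ((el x : GL F9 K) : Matrix F9 F9 K)
    let sq : K →+* K :=
      { toFun := fun a => a * a, map_one' := by decide, map_mul' := by decide, map_zero' := by decide,
        map_add' := by decide }
    calc ∑ z, (M *ᵥ u) z ^ 3 = (M *ᵥ u) ⬝ᵥ fun z => sq ((M *ᵥ u) z) :=
          Finset.sum_congr rfl fun z _ => by show (M *ᵥ u) z ^ 3 = (M *ᵥ u) z * ((M *ᵥ u) z * (M *ᵥ u) z); ring
      _ = (M *ᵥ u) ⬝ᵥ (M.map sq *ᵥ fun z => sq (u z)) := by
          congr 1
          funext z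
          exact sq.map_mulVec M u z
      _ = u ⬝ᵥ fun z => sq (u z) := by
          rw [Matrix.dotProduct_mulVec, Matrix.vecMul_mulVec, show Mᵀ * M.map sq = 1 from hU, Matrix.vecMul_one]
      _ = ∑ z, u z ^ 3 := Finset.sum_congr rfl fun z _ => by show u z * (u z * u z) = u z ^ 3; ring
  have hword : ∀ (w : List ℕ) u,
      ∑ z, ((((w.map el).prod : GL F9 K) : Matrix F9 F9 K) *ᵥ u) z ^ 3 = ∑ z, u z ^ 3 := by
    intro w
    induction w with
    | nil => intro u; simp
    | cons x w ih =>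
      intro u
      rw [List.map_cons, List.prod_cons, Units.val_mul, ← Matrix.mulVec_mulVec, hisoEl, ih]
  have hcube : ∀ (a : K) (u : F9 → K), a ≠ 0 → ∑ z, (a • u) z ^ 3 = ∑ z, u z ^ 3 := by
    intro a u ha
    have key : ∀ a b : K, a ≠ 0 → (a * b) ^ 3 = b ^ 3 := by decide
    exact Finset.sum_congr rfl fun z _ => key a (u z) ha
  have hiso : ∀ i < orbIso.n, ∑ z, dec (orbIso.vec i) z ^ 3 = 0 := by
    intro i hi
    obtain ⟨g, hg, c, hc, e⟩ := Orb.reach hok i hi
    obtain ⟨a, ha, w, -, rfl⟩ := exists_word hg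
    rw [Units.val_mul, coe_scal ha, Matrix.smul_mul, one_mul, Matrix.smul_mulVec] at e
    rw [← hcube c _ hc, ← e, hcube a _ ha, hword, h0]
  let f : {c : K // c ≠ 0} × Fin orbIso.n → {v : F9 → K // ∑ z, v z ^ 3 = 0 ∧ v ≠ 0} := fun p =>
    ⟨p.1.1 • dec (orbIso.vec p.2), by rw [hcube _ _ p.1.2, hiso _ p.2.2],
      smul_ne_zero p.1.2 (Orb.dec_ne_zero hok p.2.2)⟩
  have hinj : Function.Injective f := by
    rintro ⟨⟨c, hc⟩, i⟩ ⟨⟨d, hd⟩, j⟩ e
    have e' : c • dec (orbIso.vec i) = d • dec (orbIso.vec j) := congrArg Subtype.val e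
    have hij : i = j := Fin.ext (Orb.line_injective hok i.2 j.2 (c := c⁻¹ * d) (by
      rw [← smul_smul, ← e', smul_smul, inv_mul_cancel₀ hc, one_smul]))
    subst hij
    have : c = d := by
      by_contra hne
      have := sub_eq_zero.mpr e'
      rw [← sub_smul, smul_eq_zero, sub_eq_zero] at this
      exact this.elim hne (Orb.dec_ne_zero hok i.2)
    subst this
    rfl
  have hcard : Fintype.card {v : F9 → K // ∑ z, v z ^ 3 = 0 ∧ v ≠ 0} = 130815 := by
    have h := card_isotropic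
    rw [Fintype.card_subtype] at h ⊢
    rw [← Finset.filter_filter, Finset.filter_ne', Finset.card_erase_of_mem (by simp), h]
  have hbij : Function.Bijective f := by
    refine (Fintype.bijective_iff_injective_and_card f).mpr ⟨hinj, ?_⟩
    rw [hcard, Fintype.card_prod, Fintype.card_fin, show orbIso.n = 43605 from rfl,
      show Fintype.card {c : K // c ≠ 0} = 3 by decide]
  obtain ⟨⟨⟨c, hc⟩, i⟩, e⟩ := hbij.2 ⟨v, h, hv⟩
  exact ⟨i, i.2, c, hc, (congrArg Subtype.val e).symm⟩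

theorem transitive {v w : F9 → K} (hv : v ≠ 0) (hw : w ≠ 0) (h : ∑ z, v z ^ 3 = 0) (h' : ∑ z, w z ^ 3 = 0) :
    ∃ g ∈ T3, ∃ c : K, c ≠ 0 ∧ (g : Matrix F9 F9 K) *ᵥ v = c • w := by
  obtain ⟨i, hi, a, ha, rfl⟩ := iso_all hv h
  obtain ⟨j, hj, b, hb, rfl⟩ := iso_all hw h'
  obtain ⟨g, hg, c, hc, e⟩ := Orb.reach orbIso_ok i hi
  obtain ⟨g', hg', d, hd, e'⟩ := Orb.reach orbIso_ok j hj
  refine ⟨g' * g⁻¹, mul_mem hg' (inv_mem hg), a * c⁻¹ * d * b⁻¹, by simp [ha, hb, hc, hd], ?_⟩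
  have e2 : ((g⁻¹ : GL F9 K) : Matrix F9 F9 K) *ᵥ dec (orbIso.vec i) = c⁻¹ • dec (orbIso.vec orbIso.root) := by
    have := congrArg (fun u => ((g⁻¹ : GL F9 K) : Matrix F9 F9 K) *ᵥ u) e
    simp only [Matrix.mulVec_mulVec, ← Units.val_mul, inv_mul_cancel, Units.val_one, Matrix.one_mulVec,
      Matrix.mulVec_smul] at this
    rw [this, smul_smul, inv_mul_cancel₀ hc, one_smul]
  rw [Units.val_mul, ← Matrix.mulVec_mulVec, Matrix.mulVec_smul, e2, Matrix.mulVec_smul, Matrix.mulVec_smul, e',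
    smul_smul, smul_smul, smul_smul]
  congr 1
  rw [mul_assoc (a * c⁻¹ * d), inv_mul_cancel₀ hb, mul_one, mul_assoc]

/-- Orbits of the triple cover of the third Janko group on lines of its 9-space over the field with 4 elements: the line through the first basis vector has exactly 23256 images, and the isotropic lines (nonzero v with Σ v_z³ = 0) form a single orbit. -/
theorem result (F : Type) [Field F] [Fintype F] (hF : Fintype.card F = 4) (ω : F) (hω : ω ^ 2 + ω + 1 = 0) : {L : Submodule F (Cfsg.Spor.F9 → F) | ∃ g ∈ Cfsg.Spor.threeJ3 F ω, L = F ∙ ((g : Matrix Cfsg.Spor.F9 Cfsg.Spor.F9 F) *ᵥ (Pi.single (0 : Cfsg.Spor.F9) (1 : F) : Cfsg.Spor.F9 → F))}.ncard = 23256 ∧ ∀ v w : Cfsg.Spor.F9 → F, v ≠ 0 → w ≠ 0 → ∑ z, (v z) ^ 3 = 0 → ∑ z, (w z) ^ 3 = 0 → ∃ g ∈ Cfsg.Spor.threeJ3 F ω, ∃ c : F, c ≠ 0 ∧ (g : Matrix Cfsg.Spor.F9 Cfsg.Spor.F9 F) *ᵥ v = c • w := by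
  obtain ⟨φ, hφ⟩ := exists_field_equiv hF ω hω
  have hmap := map_threeJ3 φ hφ
  have hvec : ∀ (g : GL F9 K) (u : F9 → K),
      ((Units.mapEquiv (mapEquiv φ) g : GL F9 F) : Matrix F9 F9 F) *ᵥ (fun z => φ (u z)) =
        fun z => φ (((g : Matrix F9 F9 K) *ᵥ u) z) := by
    intro g u
    funext z
    exact (RingHom.map_mulVec φ.toRingHom (g : Matrix F9 F9 K) u z).symm
  have hfwd : ∀ g ∈ T3, Units.mapEquiv (mapEquiv φ) g ∈ threeJ3 F ω := fun g hg => hmap ▸ ⟨g, hg, rfl⟩
  have hback : ∀ g ∈ threeJ3 F ω, ∃ g₀ ∈ T3, Units.mapEquiv (mapEquiv φ) g₀ = g := fun g hg => by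
    rw [← hmap] at hg
    exact hg
  have hsm : ∀ (c : K) (u : F9 → K), (fun z => φ ((c • u) z)) = φ c • fun z => φ (u z) := by
    intro c u
    funext z
    exact map_mul φ c (u z)
  constructor
  · let line : Fin orbPoint.n → Submodule F (F9 → F) := fun i => F ∙ fun z => φ (dec (orbPoint.vec i) z)
    have hinj : Function.Injective line := by
      intro i j e
      obtain ⟨a, ha⟩ := Submodule.mem_span_singleton.mp
        (e ▸ Submodule.mem_span_singleton_self _ : (fun z => φ (dec (orbPoint.vec i) z)) ∈ line j)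
      refine Fin.ext (Orb.line_injective orbPoint_ok i.2 j.2 (c := φ.symm a) (funext fun z => φ.injective ?_))
      rw [Pi.smul_apply, smul_eq_mul, map_mul, φ.apply_symm_apply]
      exact (congrFun ha z).symm
    have hsingle : (Pi.single (0 : F9) (1 : F) : F9 → F) = fun z => φ ((Pi.single (0 : F9) (1 : K) : F9 → K) z) := by
      funext z
      rcases eq_or_ne z 0 with rfl | hz
      · rw [Pi.single_eq_same, Pi.single_eq_same, map_one]
      · rw [Pi.single_eq_of_ne hz, Pi.single_eq_of_ne hz, map_zero]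
    have hspan : ∀ (c : K), c ≠ 0 → ∀ u : F9 → K,
        (F ∙ fun z => φ ((c • u) z)) = F ∙ fun z => φ (u z) := by
      intro c hc u
      rw [hsm]
      exact Submodule.span_singleton_smul_eq (IsUnit.mk0 _ ((map_ne_zero φ).mpr hc)) _
    have hset : {L : Submodule F (F9 → F) | ∃ g ∈ threeJ3 F ω,
        L = F ∙ ((g : Matrix F9 F9 F) *ᵥ (Pi.single (0 : F9) (1 : F) : F9 → F))} = Set.range line := by
      ext L
      constructor
      · rintro ⟨g, hg, rfl⟩
        obtain ⟨g₀, hg₀, rfl⟩ := hback g hg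
        obtain ⟨j, hj, c, hc, e⟩ := Orb.image_mem orbPoint_ok hg₀ root_lt.1
        refine ⟨⟨j, hj⟩, ?_⟩
        rw [hsingle, hvec, ← point_root, e, hspan c hc]
      · rintro ⟨i, rfl⟩
        obtain ⟨g, hg, c, hc, e⟩ := Orb.reach orbPoint_ok i i.2
        refine ⟨_, hfwd g hg, ?_⟩
        rw [hsingle, hvec, ← point_root, e, hspan c hc]
    rw [hset, ← Nat.card_coe_set_eq, Nat.card_range_of_injective hinj, Nat.card_fin]
    rfl
  · intro v w hv hw hsv hsw
    have hx : ∀ u : F9 → F, u = fun z => φ (φ.symm (u z)) := fun u => funext fun z => (φ.apply_symm_apply _).symm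
    have hne : ∀ u : F9 → F, u ≠ 0 → (fun z => φ.symm (u z)) ≠ 0 := by
      intro u hu h
      apply hu
      funext z
      have := congrFun h z
      simpa using this
    have hsum : ∀ u : F9 → F, ∑ z, (u z) ^ 3 = 0 → ∑ z, (φ.symm (u z)) ^ 3 = 0 := by
      intro u hu
      simp only [← map_pow, ← map_sum, hu, map_zero]
    obtain ⟨g, hg, c, hc, e⟩ := transitive (hne v hv) (hne w hw) (hsum v hsv) (hsum w hsw)
    refine ⟨_, hfwd g hg, φ c, (map_ne_zero φ).mpr hc, ?_⟩
    conv_lhs => rw [hx v]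
    conv_rhs => rw [hx w]
    rw [hvec, e, hsm]

end Cfsg.Agent.S1626
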