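import Cfsg.Statements.S1628
import Cfsg.Agent.Lib.RuLattice.EvenRootless
-- import your own Cfsg.Agent.* helpers here

set_option autoImplicit false
open Cfsg

namespace Cfsg.Agent.S1628

/-- The Conway–Wales lattice as stored is even with no vectors of true norm 2: stored norms are multiples of 8, never equal to 8, and the minimum over nonzero vectors is 16. -/
theorem result : (∀ x ∈ Cfsg.Spor.ruLattice, (8 : ℤ) ∣ Cfsg.Spor.ruNorm x) ∧ (∀ x ∈ Cfsg.Spor.ruLattice, Cfsg.Spor.ruNorm x ≠ 8) ∧ (∀ x ∈ Cfsg.Spor.ruLattice, x ≠ 0 → 16 ≤ Cfsg.Spor.ruNorm x) ∧ ∃ x ∈ Cfsg.Spor.ruLattice, Cfsg.Spor.ruNorm x = 16 := by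
  have hmem : ∀ x ∈ Cfsg.Spor.ruLattice, x ∈ CfsgRuLat.span := fun x hx => CfsgRuLat.lattice_le hx
  have h8 : ∀ x ∈ Cfsg.Spor.ruLattice, (8 : ℤ) ∣ Cfsg.Spor.ruNorm x := fun x hx => by
    rw [CfsgRuLat.norm_eq]; exact CfsgRuLat.span_norm (hmem x hx)
  have hne : ∀ x ∈ Cfsg.Spor.ruLattice, Cfsg.Spor.ruNorm x ≠ 8 := fun x hx => by
    rw [CfsgRuLat.norm_eq]; exact CfsgRuLat.no_roots (hmem x hx)
  refine ⟨h8, hne, fun x hx hx0 => ?_, CfsgRuLat.norm_sixteen⟩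
  obtain ⟨t, ht⟩ := h8 x hx
  have h := hne x hx
  rw [CfsgRuLat.norm_eq] at ht h ⊢
  have hpos : 0 < CfsgRuLat.dotC x x := by
    rcases (Finset.sum_nonneg fun j _ => mul_self_nonneg (CfsgRuLat.crd x j) : 0 ≤ CfsgRuLat.dotC x x).lt_or_eq with h' | h'
    · exact h'
    · refine absurd ?_ hx0
      rw [← CfsgRuLat.toV_crd x, CfsgRuLat.toV_congr (g := fun _ => 0) fun j hj => mul_self_eq_zero.mp
        ((Finset.sum_eq_zero_iff_of_nonneg fun i _ => mul_self_nonneg (CfsgRuLat.crd x i)).mp h'.symm j (Finset.mem_range.mpr hj))]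
      exact funext fun p => rfl
  omega

end Cfsg.Agent.S1628
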