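import Cfsg.Statements.S1632
import Cfsg.Agent.Lib.Theta.Lattice

set_option autoImplicit false
open Matrix
open Cfsg

namespace Cfsg.Agent.S1632

/-- An even unimodular lattice of rank 24 without roots has 196560, 16773120 and 398034000 vectors of norms 4, 6 and 8. -/
theorem result (B : Matrix (Fin 24) (Fin 24) ℤ) (hsymm : B.IsSymm) (hpos : ∀ x : Fin 24 → ℤ, x ≠ 0 → 0 < x ⬝ᵥ (B *ᵥ x)) (heven : ∀ x : Fin 24 → ℤ, (2 : ℤ) ∣ x ⬝ᵥ (B *ᵥ x)) (hdet : B.det = 1) (h2 : ∀ x : Fin 24 → ℤ, x ⬝ᵥ (B *ᵥ x) ≠ 2) : {x : Fin 24 → ℤ | x ⬝ᵥ (B *ᵥ x) = 4}.ncard = 196560 ∧ {x : Fin 24 → ℤ | x ⬝ᵥ (B *ᵥ x) = 6}.ncard = 16773120 ∧ {x : Fin 24 → ℤ | x ⬝ᵥ (B *ᵥ x) = 8}.ncard = 398034000 := by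
  have hnn : ∀ k, 0 ≤ Lib.Theta.qInt B k := by
    intro k
    rcases eq_or_ne k 0 with rfl | hk
    · simp [Lib.Theta.qInt]
    · exact (hpos k hk).le
  have h0 : Lib.Theta.repCount B 0 = 1 := by
    have e : {k : Fin 24 → ℤ | Lib.Theta.qInt B k = 2 * ((0 : ℕ) : ℤ)} = {0} := by
      ext k
      simp only [Lib.Theta.qInt, Nat.cast_zero, mul_zero, Set.mem_singleton_iff]
      constructor
      · intro h
        by_contra hk
        exact (hpos k hk).ne' h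
      · rintro rfl
        simp
    rw [Lib.Theta.repCount, e, Set.ncard_singleton]
  have h1 : Lib.Theta.repCount B 1 = 0 := by
    have e : {k : Fin 24 → ℤ | Lib.Theta.qInt B k = 2 * ((1 : ℕ) : ℤ)} = ∅ :=
      Set.eq_empty_of_forall_notMem fun k h => h2 k (by simpa [Lib.Theta.qInt] using h)
    rw [Lib.Theta.repCount, e, Set.ncard_empty]
  have h := Lib.Theta.repCount_values hsymm hnn hdet heven h0 h1
  simpa only [Lib.Theta.repCount, Lib.Theta.qInt, Nat.cast_ofNat, show (2 : ℤ) * 2 = 4 from rfl,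
    show (2 : ℤ) * 3 = 6 from rfl, show (2 : ℤ) * 4 = 8 from rfl] using h

end Cfsg.Agent.S1632
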