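import Cfsg.Statements.S1633
import Cfsg.Agent.Lib.LeechOrbit.U35Model
-- import your own Cfsg.Agent.* helpers here

set_option autoImplicit false
open Cfsg

namespace Cfsg.Agent.S1633

/-- The Higman–Sims group acts transitively on 352 vectors, a set closed under x ↦ −w − x, with vector stabiliser isomorphic to PSU(3, 5). -/
theorem result (v w : ↥Cfsg.leechLattice) (hv : Cfsg.sqNorm (v : Cfsg.GolayPt → ℤ) = 48) (hw : Cfsg.sqNorm (w : Cfsg.GolayPt → ℤ) = 48) (hvw : Cfsg.dotInt (v : Cfsg.GolayPt → ℤ) (w : Cfsg.GolayPt → ℤ) = -32) (F : Type) [Field F] [Fintype F] (hF : Fintype.card F = 25) : {x : ↥Cfsg.leechLattice | Cfsg.sqNorm (x : Cfsg.GolayPt → ℤ) = 32 ∧ Cfsg.dotInt (v : Cfsg.GolayPt → ℤ) (x : Cfsg.GolayPt → ℤ) = 16 ∧ Cfsg.dotInt (w : Cfsg.GolayPt → ℤ) (x : Cfsg.GolayPt → ℤ) = -24}.ncard = 352 ∧ (∀ x ∈ {x : ↥Cfsg.leechLattice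 | Cfsg.sqNorm (x : Cfsg.GolayPt → ℤ) = 32 ∧ Cfsg.dotInt (v : Cfsg.GolayPt → ℤ) (x : Cfsg.GolayPt → ℤ) = 16 ∧ Cfsg.dotInt (w : Cfsg.GolayPt → ℤ) (x : Cfsg.GolayPt → ℤ) = -24}, -w - x ∈ {x : ↥Cfsg.leechLattice | Cfsg.sqNorm (x : Cfsg.GolayPt → ℤ) = 32 ∧ Cfsg.dotInt (v : Cfsg.GolayPt → ℤ) (x : Cfsg.GolayPt → ℤ) = 16 ∧ Cfsg.dotInt (w : Cfsg.GolayPt → ℤ) (x : Cfsg.GolayPt → ℤ) = -24}) ∧ (∀ x ∈ {x : ↥Cfsg.leechLattice | Cfsg.sqNorm (x : Cfsg.GolayPt → ℤ) = 32 ∧ Cfsg.dotInt (v : Cfsg.GolayPt → ℤ) (x : Cfsg.GolayPt → ℤ) = 16 ∧ Cfsg.dotInt (w : Cfsg.GolayPt → ℤ) (x : Cfsg.GolayPt → ℤ) = -24}, ∀ x' ∈ {x : ↥Cfsg.leechLattice | Cfsg.sqNorm (x : Cfsg.GolayPt → ℤ) = 32 ∧ Cfsg.dotInt (v : Cfsg.GolayPt → ℤ) (x : Cfsg.GolayPt → ℤ) = 16 ∧ Cfsg.dotInt (w : Cfsg.GolayPt → ℤ) (x : Cfsg.GolayPt → ℤ) = -24}, ∃ g : ↥Cfsg.Co0, g • v = v ∧ g • w = w ∧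 g • x = x') ∧ ∀ x ∈ {x : ↥Cfsg.leechLattice | Cfsg.sqNorm (x : Cfsg.GolayPt → ℤ) = 32 ∧ Cfsg.dotInt (v : Cfsg.GolayPt → ℤ) (x : Cfsg.GolayPt → ℤ) = 16 ∧ Cfsg.dotInt (w : Cfsg.GolayPt → ℤ) (x : Cfsg.GolayPt → ℤ) = -24}, Nonempty (↥(MulAction.stabilizer ↥Cfsg.Co0 v ⊓ MulAction.stabilizer ↥Cfsg.Co0 w ⊓ MulAction.stabilizer ↥Cfsg.Co0 x) ≃* Cfsg.PSU 3 F 5) := by
  have ht : Cfsg.sqNorm ((v + w : ↥leechLattice) : GolayPt → ℤ) = 32 := by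
    rw [AddSubgroup.coe_add, (CfsgLeech.sqNorm_sub_add _ _).2, hv, hw, hvw]; norm_num
  have hvt : Cfsg.dotInt (v : GolayPt → ℤ) ((v + w : ↥leechLattice) : GolayPt → ℤ) = 16 := by
    rw [CfsgLeech.dot_comm, AddSubgroup.coe_add, CfsgLeech.dot_add_left, CfsgLeech.dot_self,
      CfsgLeech.dot_comm (w : GolayPt → ℤ), hv, hvw]; norm_num
  obtain ⟨k, kv, kt⟩ := CfsgLeech.config_pairs (u' := CfsgLeechOrb.uL) (x' := CfsgLeechOrb.tL) (Or.inr rfl) hv ht hvt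
    CfsgLeech.std_facts.2.2.2.1 CfsgLeech.std_facts.2.2.2.2.2.1 CfsgLeech.std_facts.2.2.2.2.2.2.2
  have hlev : {y | y ∈ CfsgLeechOrb.S16 ∧ Cfsg.dotInt CfsgLeech.tStd (y : GolayPt → ℤ) = -8} =
      MulAction.orbit ↥CfsgLeechOrb.KHs CfsgLeechOrb.rHs3 := by
    have h := CfsgLeechOrb.levelsHs 4
    simpa only [Matrix.cons_val] using h
  have hmem : ∀ y : ↥leechLattice, y ∈ {x : ↥Cfsg.leechLattice | Cfsg.sqNorm (x : Cfsg.GolayPt → ℤ) = 32 ∧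
      Cfsg.dotInt (v : Cfsg.GolayPt → ℤ) (x : Cfsg.GolayPt → ℤ) = 16 ∧
      Cfsg.dotInt (w : Cfsg.GolayPt → ℤ) (x : Cfsg.GolayPt → ℤ) = -24} ↔
      k • y ∈ MulAction.orbit ↥CfsgLeechOrb.KHs CfsgLeechOrb.rHs3 := by
    intro y
    rw [← hlev]
    have hv' := CfsgLeech.aut_dot k v y
    have ht' := CfsgLeech.aut_dot k (v + w) y
    rw [kv] at hv'
    rw [kt, AddSubgroup.coe_add, CfsgLeech.dot_add_left] at ht'
    show _ ∧ _ ↔ (Cfsg.sqNorm _ = 32 ∧ _) ∧ _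
    rw [CfsgLeech.aut_norm]
    change _ ∧ _ ↔ (_ ∧ Cfsg.dotInt (CfsgLeechOrb.uL : GolayPt → ℤ) _ = 16) ∧
      Cfsg.dotInt (CfsgLeechOrb.tL : GolayPt → ℤ) _ = -8
    constructor
    · rintro ⟨h1, h2, h3⟩; exact ⟨⟨h1, by omega⟩, by omega⟩
    · rintro ⟨⟨h1, h2⟩, h3⟩; exact ⟨h1, by omega, by omega⟩
  refine ⟨?_, ?_, ?_, ?_⟩
  · rw [← CfsgLeechOrb.cards_hs.2.2.2, ← CfsgLeechOrb.ncard_smul_preimage k (MulAction.orbit ↥CfsgLeechOrb.KHs CfsgLeechOrb.rHs3)]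
    exact congrArg Set.ncard (Set.ext hmem)
  · rintro x ⟨h1, h2, h3⟩
    have e : ((-w - x : ↥leechLattice) : GolayPt → ℤ) = -(w : GolayPt → ℤ) - (x : GolayPt → ℤ) := by
      rw [AddSubgroup.coe_sub, AddSubgroup.coe_neg]
    have hn : ∀ a b : GolayPt → ℤ, Cfsg.sqNorm (-a - b) = Cfsg.sqNorm (a + b) := fun a b => by
      simp only [Cfsg.sqNorm, Pi.sub_apply, Pi.neg_apply, Pi.add_apply]
      exact Finset.sum_congr rfl fun i _ => by ring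
    have hd : ∀ a b c : GolayPt → ℤ, Cfsg.dotInt a (-b - c) = -Cfsg.dotInt a b - Cfsg.dotInt a c := fun a b c => by
      simp only [Cfsg.dotInt, Pi.sub_apply, Pi.neg_apply, ← Finset.sum_neg_distrib, ← Finset.sum_sub_distrib]
      exact Finset.sum_congr rfl fun i _ => by ring
    refine ⟨?_, ?_, ?_⟩
    · rw [e, hn, (CfsgLeech.sqNorm_sub_add _ _).2, hw, h1, h3]; norm_num
    · rw [e, hd, hvw, h2]; norm_num
    · rw [e, hd, CfsgLeech.dot_self, hw, h3]; norm_num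
  · intro x hx x' hx'
    rw [hmem] at hx hx'
    obtain ⟨⟨g, hg⟩, hgx⟩ : k • x' ∈ MulAction.orbit ↥CfsgLeechOrb.KHs (k • x) := by
      rwa [MulAction.orbit_eq_iff.mpr hx]
    change g • k • x = k • x' at hgx
    obtain ⟨hgu, hgt⟩ := Subgroup.mem_inf.mp hg
    rw [MulAction.mem_stabilizer_iff] at hgu hgt
    have ev : (k⁻¹ * (g * k)) • v = v := by rw [mul_smul, mul_smul, kv, hgu, inv_smul_eq_iff, kv]
    have et : (k⁻¹ * (g * k)) • (v + w) = v + w := by rw [mul_smul, mul_smul, kt, hgt, inv_smul_eq_iff, kt]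
    rw [CfsgLeech.aut_add, ev] at et
    exact ⟨k⁻¹ * (g * k), ev, add_left_cancel et, by rw [mul_smul, mul_smul, hgx, inv_smul_smul]⟩
  · intro x hx
    obtain ⟨⟨f, hf⟩, hfx⟩ := (hmem x).mp hx
    change f • CfsgLeechOrb.rHs3 = k • x at hfx
    obtain ⟨hfu, hft⟩ := Subgroup.mem_inf.mp hf
    rw [MulAction.mem_stabilizer_iff] at hfu hft
    have lx : (f⁻¹ * k) • x = CfsgLeechOrb.rHs3 := by rw [mul_smul, inv_smul_eq_iff, hfx]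
    have lv : (f⁻¹ * k) • v = CfsgLeechOrb.uL := by rw [mul_smul, inv_smul_eq_iff, hfu, kv]
    have lt : (f⁻¹ * k) • (v + w) = CfsgLeechOrb.tL := by rw [mul_smul, inv_smul_eq_iff, hft, kt]
    have hK : (MulAction.stabilizer ↥Cfsg.Co0 v ⊓ MulAction.stabilizer ↥Cfsg.Co0 w ⊓
        MulAction.stabilizer ↥Cfsg.Co0 x).map (MulAut.conj (f⁻¹ * k)).toMonoidHom = CfsgLeechOrb.KU35 := by
      ext g
      have e : ∀ h : ↥Cfsg.Co0, (h • v = v ∧ h • w = w) ↔ (h • v = v ∧ h • (v + w) = v + w) := fun h => by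
        rw [CfsgLeech.aut_add]
        exact ⟨fun ha => ⟨ha.1, by rw [ha.1, ha.2]⟩,
          fun ha => ⟨ha.1, add_left_cancel (a := v) (by simpa [ha.1] using ha.2)⟩⟩
      constructor
      · rintro ⟨h, hh, rfl⟩
        obtain ⟨h12, h3⟩ := Subgroup.mem_inf.mp hh
        obtain ⟨h1, h2⟩ := Subgroup.mem_inf.mp h12
        obtain ⟨h1, h2'⟩ := (e h).mp ⟨h1, h2⟩
        exact ⟨⟨(CfsgLeechOrb.conj_mem_stab lv h).mp h1, (CfsgLeechOrb.conj_mem_stab lt h).mp h2'⟩,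
          (CfsgLeechOrb.conj_mem_stab lx h).mp h3⟩
      · rintro ⟨⟨g1, g2⟩, g3⟩
        refine ⟨(f⁻¹ * k)⁻¹ * g * (f⁻¹ * k), ?_, by simp [mul_assoc]⟩
        have hc : (f⁻¹ * k) * ((f⁻¹ * k)⁻¹ * g * (f⁻¹ * k)) * (f⁻¹ * k)⁻¹ = g := by group
        obtain ⟨h1, h2⟩ := (e _).mpr ⟨(CfsgLeechOrb.conj_mem_stab lv _).mpr (by rwa [hc]),
          (CfsgLeechOrb.conj_mem_stab lt _).mpr (by rwa [hc])⟩
        exact ⟨⟨h1, h2⟩, (CfsgLeechOrb.conj_mem_stab lx _).mpr (by rwa [hc])⟩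
    obtain ⟨e⟩ := CfsgLeechOrb.stab_iso hF
    exact ⟨(Subgroup.equivMapOfInjective _ _ (MulAut.conj (f⁻¹ * k)).injective).trans
      ((MulEquiv.subgroupCongr hK).trans e)⟩

end Cfsg.Agent.S1633
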