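import Cfsg.Statements.S1634
import Cfsg.Agent.Lib.LeechOrbit.Transfer
-- import your own Cfsg.Agent.* helpers here

set_option autoImplicit false
open Cfsg

namespace Cfsg.Agent.S1634

/-- The McLaughlin group acts on 2025 points (minimal vectors orthogonal to v with customary inner product 2 with w) transitively with rank 4 and subdegrees 1, 330, 462, 1232. -/
theorem result (v w : ↥Cfsg.leechLattice) (hv : Cfsg.sqNorm (v : Cfsg.GolayPt → ℤ) = 32) (hw : Cfsg.sqNorm (w : Cfsg.GolayPt → ℤ) = 32) (hvw : Cfsg.dotInt (v : Cfsg.GolayPt → ℤ) (w : Cfsg.GolayPt → ℤ) = -8) : {x : ↥Cfsg.leechLattice | Cfsg.sqNorm (x : Cfsg.GolayPt → ℤ) = 32 ∧ Cfsg.dotInt (v : Cfsg.GolayPt → ℤ) (x : Cfsg.GolayPt → ℤ) = 0 ∧ Cfsg.dotInt (w : Cfsg.GolayPt → ℤ) (x : Cfsg.GolayPt → ℤ) = 16}.ncard = 2025 ∧ (∀ x ∈ {x : ↥Cfsg.leechLattice |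 Cfsg.sqNorm (x : Cfsg.GolayPt → ℤ) = 32 ∧ Cfsg.dotInt (v : Cfsg.GolayPt → ℤ) (x : Cfsg.GolayPt → ℤ) = 0 ∧ Cfsg.dotInt (w : Cfsg.GolayPt → ℤ) (x : Cfsg.GolayPt → ℤ) = 16}, ∀ x' ∈ {x : ↥Cfsg.leechLattice | Cfsg.sqNorm (x : Cfsg.GolayPt → ℤ) = 32 ∧ Cfsg.dotInt (v : Cfsg.GolayPt → ℤ) (x : Cfsg.GolayPt → ℤ) = 0 ∧ Cfsg.dotInt (w : Cfsg.GolayPt → ℤ) (x : Cfsg.GolayPt → ℤ) = 16}, ∃ g : ↥Cfsg.Co0, g • v = v ∧ g • w = w ∧ g • x = x') ∧ ∀ x ∈ {x : ↥Cfsg.leechLattice | Cfsg.sqNorm (x : Cfsg.GolayPt → ℤ) = 32 ∧ Cfsg.dotInt (v : Cfsg.GolayPt → ℤ) (x : Cfsg.GolayPt → ℤ) = 0 ∧ Cfsg.dotInt (w : Cfsg.GolayPt → ℤ) (x : Cfsg.GolayPt → ℤ) = 16}, ∃ y₁ ∈ {x : ↥Cfsg.leechLattice | Cfsg.sqNorm (x : Cfsg.GolayPt → ℤ) = 32 ∧ Cfsg.dotInt (v : Cfsg.GolayPt → ℤ) (x : Cfsg.GolayPt → ℤ) = 0 ∧ Cfsg.dotInt (w : Cfsg.GolayPt → ℤ) (x : Cfsg.GolayPt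 → ℤ) = 16}, ∃ y₂ ∈ {x : ↥Cfsg.leechLattice | Cfsg.sqNorm (x : Cfsg.GolayPt → ℤ) = 32 ∧ Cfsg.dotInt (v : Cfsg.GolayPt → ℤ) (x : Cfsg.GolayPt → ℤ) = 0 ∧ Cfsg.dotInt (w : Cfsg.GolayPt → ℤ) (x : Cfsg.GolayPt → ℤ) = 16}, ∃ y₃ ∈ {x : ↥Cfsg.leechLattice | Cfsg.sqNorm (x : Cfsg.GolayPt → ℤ) = 32 ∧ Cfsg.dotInt (v : Cfsg.GolayPt → ℤ) (x : Cfsg.GolayPt → ℤ) = 0 ∧ Cfsg.dotInt (w : Cfsg.GolayPt → ℤ) (x : Cfsg.GolayPt → ℤ) = 16}, (MulAction.orbit ↥(MulAction.stabilizer ↥Cfsg.Co0 v ⊓ MulAction.stabilizer ↥Cfsg.Co0 w ⊓ MulAction.stabilizer ↥Cfsg.Co0 x) y₁).ncard = 330 ∧ (MulAction.orbit ↥(MulAction.stabilizer ↥Cfsg.Co0 v ⊓ MulAction.stabilizer ↥Cfsg.Co0 w ⊓ MulAction.stabilizer ↥Cfsg.Co0 x) y₂).ncard = 462 ∧ (MulAction.orbit ↥(MulAction.stabilizer ↥Cfsg.Co0 v ⊓ MulAction.stabilizer ↥Cfsg.Co0 w ⊓ MulAction.stabilizer ↥Cfsg.Co0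 x) y₃).ncard = 1232 := by
  obtain ⟨k, kv, ku⟩ := CfsgLeechOrb.mcl_frame hv hw hvw
  have hmem : ∀ y : ↥leechLattice, y ∈ {x : ↥Cfsg.leechLattice | Cfsg.sqNorm (x : Cfsg.GolayPt → ℤ) = 32 ∧
      Cfsg.dotInt (v : Cfsg.GolayPt → ℤ) (x : Cfsg.GolayPt → ℤ) = 0 ∧
      Cfsg.dotInt (w : Cfsg.GolayPt → ℤ) (x : Cfsg.GolayPt → ℤ) = 16} ↔
      k • y ∈ {y | y ∈ CfsgLeechOrb.S16 ∧ Cfsg.dotInt CfsgLeech.aStd (y : GolayPt → ℤ) = 0} := by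
    intro y
    have hv' := CfsgLeech.aut_dot k v y
    have hu' := CfsgLeech.aut_dot k (v + w) y
    rw [kv] at hv'
    rw [ku, AddSubgroup.coe_add, CfsgLeech.dot_add_left] at hu'
    show _ ∧ _ ↔ (Cfsg.sqNorm _ = 32 ∧ _) ∧ _
    rw [CfsgLeech.aut_norm, show (CfsgLeechOrb.aL : GolayPt → ℤ) = CfsgLeech.aStd from rfl] at *
    change _ ∧ _ ↔ (_ ∧ Cfsg.dotInt (CfsgLeechOrb.uL : GolayPt → ℤ) _ = 16) ∧ _
    constructor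
    · rintro ⟨h1, h2, h3⟩; exact ⟨⟨h1, by omega⟩, by omega⟩
    · rintro ⟨⟨h1, h2⟩, h3⟩; exact ⟨h1, by omega, by omega⟩
  have hlev : {y | y ∈ CfsgLeechOrb.S16 ∧ Cfsg.dotInt CfsgLeech.aStd (y : GolayPt → ℤ) = 0} =
      MulAction.orbit ↥CfsgLeechOrb.KMcl CfsgLeechOrb.rMcl0 := by
    have h := CfsgLeechOrb.levelsMcl 0
    simpa only [Matrix.cons_val] using h
  refine ⟨?_, ?_, ?_⟩
  · rw [← CfsgLeechOrb.S16a_ncard, ← CfsgLeechOrb.ncard_smul_preimage k {y | y ∈ CfsgLeechOrb.S16 ∧ Cfsg.dotInt CfsgLeech.aStd (y : GolayPt → ℤ) = 0}]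
    exact congrArg Set.ncard (Set.ext hmem)
  · intro x hx x' hx'
    rw [hmem, hlev] at hx hx'
    obtain ⟨⟨g, hg⟩, hgx⟩ : k • x' ∈ MulAction.orbit ↥CfsgLeechOrb.KMcl (k • x) := by
      rwa [MulAction.orbit_eq_iff.mpr hx]
    change g • k • x = k • x' at hgx
    obtain ⟨hgu, hga⟩ := Subgroup.mem_inf.mp hg
    rw [MulAction.mem_stabilizer_iff] at hgu hga
    have ev : (k⁻¹ * (g * k)) • v = v := by rw [mul_smul, mul_smul, kv, hga, inv_smul_eq_iff, kv]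
    have eu : (k⁻¹ * (g * k)) • (v + w) = v + w := by rw [mul_smul, mul_smul, ku, hgu, inv_smul_eq_iff, ku]
    rw [CfsgLeech.aut_add, ev] at eu
    exact ⟨k⁻¹ * (g * k), ev, add_left_cancel eu, by rw [mul_smul, mul_smul, hgx, inv_smul_smul]⟩
  · intro x hx
    obtain ⟨⟨f, hf⟩, hfx⟩ : k • x ∈ MulAction.orbit ↥CfsgLeechOrb.KMcl CfsgLeechOrb.tL := by
      have ht : CfsgLeechOrb.tL ∈ MulAction.orbit ↥CfsgLeechOrb.KMcl CfsgLeechOrb.rMcl0 := by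
        rw [← hlev]
        exact ⟨⟨CfsgLeech.std_facts.2.2.2.2.2.1, CfsgLeech.std_facts.2.2.2.2.2.2.2⟩, CfsgLeechOrb.tt_dot.2⟩
      rw [MulAction.orbit_eq_iff.mpr ht, ← hlev]
      exact (hmem x).mp hx
    change f • CfsgLeechOrb.tL = k • x at hfx
    obtain ⟨hfu, hfa⟩ := Subgroup.mem_inf.mp hf
    rw [MulAction.mem_stabilizer_iff] at hfu hfa
    have lx : (f⁻¹ * k) • x = CfsgLeechOrb.tL := by rw [mul_smul, inv_smul_eq_iff, hfx]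
    have lv : (f⁻¹ * k) • v = CfsgLeechOrb.aL := by rw [mul_smul, inv_smul_eq_iff, hfa, kv]
    have lu : (f⁻¹ * k) • (v + w) = CfsgLeechOrb.uL := by rw [mul_smul, inv_smul_eq_iff, hfu, ku]
    have hK : ∀ g : ↥Co0, g ∈ MulAction.stabilizer ↥Co0 v ⊓ MulAction.stabilizer ↥Co0 w ⊓ MulAction.stabilizer ↥Co0 x ↔
        (f⁻¹ * k) * g * (f⁻¹ * k)⁻¹ ∈ CfsgLeechOrb.KM22 := by
      intro g
      have e : g • v = v ∧ g • w = w ↔ g • (v + w) = v + w ∧ g • v = v := by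
        rw [CfsgLeech.aut_add]
        exact ⟨fun h => ⟨by rw [h.1, h.2], h.1⟩, fun h => ⟨h.2, add_left_cancel (a := v) (by simpa [h.2] using h.1)⟩⟩
      simp only [Subgroup.mem_inf, ← CfsgLeechOrb.conj_mem_stab lx, ← CfsgLeechOrb.conj_mem_stab lv,
        ← CfsgLeechOrb.conj_mem_stab lu, MulAction.mem_stabilizer_iff] at e ⊢
      rw [e]
    have hin : ∀ r : ↥leechLattice, r ∈ {y | y ∈ CfsgLeechOrb.S16 ∧ Cfsg.dotInt CfsgLeech.aStd (y : GolayPt → ℤ) = 0} →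
        (f⁻¹ * k)⁻¹ • r ∈ {x : ↥Cfsg.leechLattice | Cfsg.sqNorm (x : Cfsg.GolayPt → ℤ) = 32 ∧
          Cfsg.dotInt (v : Cfsg.GolayPt → ℤ) (x : Cfsg.GolayPt → ℤ) = 0 ∧
          Cfsg.dotInt (w : Cfsg.GolayPt → ℤ) (x : Cfsg.GolayPt → ℤ) = 16} := by
      intro r hr
      rw [hmem, mul_inv_rev, inv_inv, mul_smul, smul_inv_smul]
      rw [hlev] at hr ⊢
      rw [← MulAction.orbit_eq_iff.mpr hr]
      exact ⟨⟨f, hf⟩, rfl⟩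
    obtain ⟨c0, c1, c2⟩ := CfsgLeechOrb.cards_m22
    exact ⟨_, hin _ (CfsgLeechOrb.subMclM222 (MulAction.mem_orbit_self _)).1,
      _, hin _ (CfsgLeechOrb.subMclM220 (MulAction.mem_orbit_self _)).1,
      _, hin _ (CfsgLeechOrb.subMclM221 (MulAction.mem_orbit_self _)).1,
      (CfsgLeechOrb.orbit_conj_ncard hK _).trans c2, (CfsgLeechOrb.orbit_conj_ncard hK _).trans c0,
      (CfsgLeechOrb.orbit_conj_ncard hK _).trans c1⟩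

end Cfsg.Agent.S1634
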