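import Cfsg.Statements.S1638
import Cfsg.Agent.Lib.Golay.ClassT

set_option autoImplicit false
open scoped Pointwise
open Cfsg

namespace Cfsg.Agent.S1638

/-- Fix two points p ≠ q and a pair s of two further points. Among the pairs avoiding p, q and disjoint from s, exactly 30 lie in an octad together with p, q and s and exactly 160 do not; and any two pairs other than s that meet s in equally many points and agree on that octad property are carried to one another by an element of the group of the length-24 code fixing p, q and s. -/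
theorem result (p q : Cfsg.GolayPt) (hpq : p ≠ q) (s : Finset Cfsg.GolayPt) (hs : (s.card = 2 ∧ p ∉ s ∧ q ∉ s)) : {t : Finset Cfsg.GolayPt | (t.card = 2 ∧ p ∉ t ∧ q ∉ t) ∧ Disjoint s t ∧ (∃ o ∈ Cfsg.octads, p ∈ o ∧ q ∈ o ∧ s ∪ t ⊆ o)}.ncard = 30 ∧ {t : Finset Cfsg.GolayPt | (t.card = 2 ∧ p ∉ t ∧ q ∉ t) ∧ Disjoint s t ∧ ¬ (∃ o ∈ Cfsg.octads, p ∈ o ∧ q ∈ o ∧ s ∪ t ⊆ o)}.ncard = 160 ∧ ∀ t t' : Finset Cfsg.GolayPt, (t.card = 2 ∧ p ∉ t ∧ q ∉ t) → (t'.card = 2 ∧ p ∉ t' ∧ q ∉ t') → t ≠ s → t' ≠ s → (s ∩ t).card = (s ∩ t').card → ((∃ o ∈ Cfsg.octads, p ∈ o ∧ q ∈ o ∧ s ∪ t ⊆ o) ↔ (∃ o ∈ Cfsg.octads, p ∈ o ∧ q ∈ o ∧ s ∪ t' ⊆ o)) → ∃ g : Equiv.Perm Cfsg.GolayPt, g ∈ Cfsg.M24 ∧ g p = p ∧ g q = q ∧ g • s = s ∧ g • t = t' := by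
  obtain ⟨hs2, hps, hqs⟩ := hs
  obtain ⟨g, hg, rfl, rfl, rfl⟩ := CfsgGolay.cfgH hpq hs2 hps hqs
  have hcnt : ∀ (b : Bool) (n : ℕ), (((0, b), n) : (ℕ × Bool) × ℕ) ∈ [((1, true), 40), ((0, false), 160), ((0, true), 30)] →
      {t : Finset Cfsg.GolayPt | (t.card = 2 ∧ g (CfsgGolay.pt 23) ∉ t ∧ g (CfsgGolay.pt 0) ∉ t) ∧ Disjoint (g • CfsgGolay.S20) t ∧
        (b = true ↔ ∃ o ∈ Cfsg.octads, g (CfsgGolay.pt 23) ∈ o ∧ g (CfsgGolay.pt 0) ∈ o ∧ g • CfsgGolay.S20 ∪ t ⊆ o)}.ncard = n := by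
    intro b n hbn
    refine (CfsgGolay.ncard_translate g fun y => ?_).trans (CfsgGolay.clsH.count ((0, b), n) hbn)
    simp only [Set.mem_ofPred_eq, CfsgGolay.orbit_eq_card (CfsgGolay.card_P20.trans_le (by norm_num)), CfsgGolay.card_P20, Finset.card_smul_finset, CfsgGolay.pt_mem_smul, CfsgGolay.disjoint_smul, CfsgGolay.inOctH_smul hg, and_assoc, CfsgGolay.invH, Prod.mk.injEq]
    rw [Finset.card_eq_zero, ← Finset.disjoint_iff_inter_eq_empty]
    have hne : Disjoint CfsgGolay.S20 y → y ≠ CfsgGolay.S20 := fun hd he => by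
      subst he
      exact absurd (disjoint_self.mp hd) (by decide +kernel)
    have hb : ∀ (P : Prop), @decide P (Classical.propDecidable _) = b ↔ (b = true ↔ P) := fun P => by
      cases b <;> simp
    exact ⟨fun ⟨a, b', c, d, e⟩ => ⟨a, b', c, hne d, d, (hb _).mpr e⟩, fun ⟨a, b', c, _, d, e⟩ => ⟨a, b', c, d, (hb _).mp e⟩⟩
  refine ⟨?_, ?_, fun t t' ht ht' hts hts' hc h => ?_⟩
  · simpa using hcnt true 30 (by simp)
  · simpa using hcnt false 160 (by simp)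
  · have hF : ∀ V : Finset Cfsg.GolayPt, (V.card = 2 ∧ g (CfsgGolay.pt 23) ∉ V ∧ g (CfsgGolay.pt 0) ∉ V) → V ≠ g • CfsgGolay.S20 →
        g⁻¹ • V ∈ {y | y ∈ MulAction.orbit Cfsg.M24 CfsgGolay.P20 ∧ (CfsgGolay.pt 23 ∉ y ∧ CfsgGolay.pt 0 ∉ y ∧ y ≠ CfsgGolay.S20)} := fun V hV hne => by
      refine ⟨?_, fun hm => hV.2.1 (CfsgGolay.mem_inv_smul.mp hm), fun hm => hV.2.2 (CfsgGolay.mem_inv_smul.mp hm), fun he => hne (by rw [← he, smul_inv_smul])⟩
      rw [CfsgGolay.orbit_eq_card (CfsgGolay.card_P20.trans_le (by norm_num))]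
      exact (Finset.card_smul_finset _ _).trans (hV.1.trans CfsgGolay.card_P20.symm)
    obtain ⟨k, hk, he⟩ := CfsgGolay.trans_translate (CfsgGolay.clsH.trans _ (hF t ht hts) _ (hF t' ht' hts') (by
      refine Prod.ext ?_ ?_
      · show (CfsgGolay.S20 ∩ g⁻¹ • t).card = (CfsgGolay.S20 ∩ g⁻¹ • t').card
        rw [CfsgGolay.card_inter_inv, CfsgGolay.card_inter_inv]; exact hc
      · show @decide _ (Classical.propDecidable _) = @decide _ (Classical.propDecidable _)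
        rw [Bool.eq_iff_iff, @decide_eq_true_iff _ (Classical.propDecidable _), @decide_eq_true_iff _ (Classical.propDecidable _),
          ← CfsgGolay.inOctH_smul hg, ← CfsgGolay.inOctH_smul hg (CfsgGolay.pt 23) (CfsgGolay.pt 0) CfsgGolay.S20 (g⁻¹ • t'), smul_inv_smul, smul_inv_smul]
        exact h))
    obtain ⟨h1, h2, h3⟩ := CfsgGolay.gH_fix hk
    exact ⟨g * k * g⁻¹, CfsgGolay.conj_mem_M24 CfsgGolay.gH_ok hg hk, CfsgGolay.conj_fix_pt h1, CfsgGolay.conj_fix_pt h2, CfsgGolay.conj_fix h3, he⟩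

end Cfsg.Agent.S1638
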