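import Cfsg.Statements.S1639
import Cfsg.Agent.Lib.Golay.ClassC

set_option autoImplicit false
open scoped Pointwise
open Cfsg

namespace Cfsg.Agent.S1639

/-- The point stabiliser acts on the 1288 dodecads through the point with rank 4 and subdegrees 1, 165, 330, 792, distinguished by intersection 4, 8, 6 with the fixed dodecad. -/
theorem result (x : Cfsg.GolayPt) (d : Finset Cfsg.GolayPt) (hd : d ∈ Cfsg.dodecads) (hx : x ∈ d) : {d' : Finset Cfsg.GolayPt | d' ∈ Cfsg.dodecads ∧ x ∈ d' ∧ (d ∩ d').card = 4}.ncard = 165 ∧ {d' : Finset Cfsg.GolayPt | d' ∈ Cfsg.dodecads ∧ x ∈ d' ∧ (d ∩ d').card = 8}.ncard = 330 ∧ {d' : Finset Cfsg.GolayPt | d' ∈ Cfsg.dodecads ∧ x ∈ d' ∧ (d ∩ d').card = 6}.ncard = 792 ∧ ∀ d' d'' : Finset Cfsg.GolayPt, d' ∈ Cfsg.dodecads → d'' ∈ Cfsg.dodecads → x ∈ d' → x ∈ d'' → (d ∩ d').card = (d ∩ d'').card → ∃ g : Equiv.Perm Cfsg.GolayPt, g ∈ Cfsg.M24 ∧ g x = x ∧ g • d = d ∧ g • d' = d''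 := by
  obtain ⟨g, hg, rfl, rfl⟩ := CfsgGolay.cfgF hd hx
  refine ⟨?_, ?_, ?_, fun d' d'' hd' hd'' hx' hx'' h => ?_⟩
  · refine (CfsgGolay.ncard_translate g fun y => ?_).trans (CfsgGolay.clsF.count (4, 165) (by simp))
    simp only [Set.mem_ofPred_eq, CfsgGolay.smul_mem_dodecads_iff hg, CfsgGolay.card_inter_smul', CfsgGolay.pt_mem_smul, and_assoc, true_and, and_true]
  · refine (CfsgGolay.ncard_translate g fun y => ?_).trans (CfsgGolay.clsF.count (8, 330) (by simp))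
    simp only [Set.mem_ofPred_eq, CfsgGolay.smul_mem_dodecads_iff hg, CfsgGolay.card_inter_smul', CfsgGolay.pt_mem_smul, and_assoc, true_and, and_true]
  · refine (CfsgGolay.ncard_translate g fun y => ?_).trans (CfsgGolay.clsF.count (6, 792) (by simp))
    simp only [Set.mem_ofPred_eq, CfsgGolay.smul_mem_dodecads_iff hg, CfsgGolay.card_inter_smul', CfsgGolay.pt_mem_smul, and_assoc, true_and, and_true]
  · obtain ⟨k, hk, he⟩ := CfsgGolay.trans_translate (CfsgGolay.clsF.trans (g⁻¹ • d') ⟨CfsgGolay.smul_mem_dodecads (inv_mem hg) hd', CfsgGolay.mem_inv_smul.mpr hx'⟩ (g⁻¹ • d'') ⟨CfsgGolay.smul_mem_dodecads (inv_mem hg) hd'', CfsgGolay.mem_inv_smul.mpr hx''⟩ (by show _ = _; rw [CfsgGolay.card_inter_inv, CfsgGolay.card_inter_inv]; exact h))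
    exact ⟨g * k * g⁻¹, CfsgGolay.conj_mem_M24 CfsgGolay.gF_ok hg hk, CfsgGolay.conj_fix_pt (x := CfsgGolay.pt 0) (CfsgGolay.Gr_le_stab (K := CfsgGolay.pointK) (o := 0) (by show _ < 24; norm_num) (by decide +kernel) hk), CfsgGolay.conj_fix (x := CfsgGolay.D0) (CfsgGolay.Gr_le_stab (K := CfsgGolay.maskK) (o := 340831) (by show _ < 2 ^ 24; norm_num) (by decide +kernel) hk), he⟩

end Cfsg.Agent.S1639
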