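import Cfsg.Statements.S1641
import Cfsg.Agent.Lib.LeechOrbit.Transfer
-- import your own Cfsg.Agent.* helpers here

set_option autoImplicit false
open Cfsg

namespace Cfsg.Agent.S1641

/-- The third Conway group acts on the 11178 cosets of the Higman–Sims group with rank 5 and subdegrees 1, 352, 1100, 4125, 5600. -/
theorem result (u x : ↥Cfsg.leechLattice) (hu : Cfsg.sqNorm (u : Cfsg.GolayPt → ℤ) = 48) (hx : x ∈ {x : ↥Cfsg.leechLattice | Cfsg.sqNorm (x : Cfsg.GolayPt → ℤ) = 32 ∧ Cfsg.dotInt (u : Cfsg.GolayPt → ℤ) (x : Cfsg.GolayPt → ℤ) = -16}) : ∃ y₁ ∈ {x : ↥Cfsg.leechLattice | Cfsg.sqNorm (x : Cfsg.GolayPt → ℤ) = 32 ∧ Cfsg.dotInt (u : Cfsg.GolayPt → ℤ) (x : Cfsg.GolayPt → ℤ) = -16}, ∃ y₂ ∈ {x : ↥Cfsg.leechLattice | Cfsg.sqNorm (x : Cfsg.GolayPt → ℤ) = 32 ∧ Cfsg.dotInt (u : Cfsg.GolayPt → ℤ) (x : Cfsg.GolayPt → ℤ) = -16},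 ∃ y₃ ∈ {x : ↥Cfsg.leechLattice | Cfsg.sqNorm (x : Cfsg.GolayPt → ℤ) = 32 ∧ Cfsg.dotInt (u : Cfsg.GolayPt → ℤ) (x : Cfsg.GolayPt → ℤ) = -16}, ∃ y₄ ∈ {x : ↥Cfsg.leechLattice | Cfsg.sqNorm (x : Cfsg.GolayPt → ℤ) = 32 ∧ Cfsg.dotInt (u : Cfsg.GolayPt → ℤ) (x : Cfsg.GolayPt → ℤ) = -16}, (MulAction.orbit ↥(MulAction.stabilizer ↥Cfsg.Co0 u ⊓ MulAction.stabilizer ↥Cfsg.Co0 x) y₁).ncard = 352 ∧ (MulAction.orbit ↥(MulAction.stabilizer ↥Cfsg.Co0 u ⊓ MulAction.stabilizer ↥Cfsg.Co0 x) y₂).ncard = 1100 ∧ (MulAction.orbit ↥(MulAction.stabilizer ↥Cfsg.Co0 u ⊓ MulAction.stabilizer ↥Cfsg.Co0 x) y₃).ncard = 4125 ∧ (MulAction.orbit ↥(MulAction.stabilizer ↥Cfsg.Co0 u ⊓ MulAction.stabilizer ↥Cfsg.Co0 x) y₄).ncard = 5600 ∧ {x : ↥Cfsg.leechLattice | Cfsg.sqNorm (x : Cfsg.GolayPt → ℤ) = 32 ∧ Cfsg.dotInt (u : Cfsg.GolayPt → ℤ) (x : Cfsg.GolayPt → ℤ)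 = -16} = {x} ∪ MulAction.orbit ↥(MulAction.stabilizer ↥Cfsg.Co0 u ⊓ MulAction.stabilizer ↥Cfsg.Co0 x) y₁ ∪ MulAction.orbit ↥(MulAction.stabilizer ↥Cfsg.Co0 u ⊓ MulAction.stabilizer ↥Cfsg.Co0 x) y₂ ∪ MulAction.orbit ↥(MulAction.stabilizer ↥Cfsg.Co0 u ⊓ MulAction.stabilizer ↥Cfsg.Co0 x) y₃ ∪ MulAction.orbit ↥(MulAction.stabilizer ↥Cfsg.Co0 u ⊓ MulAction.stabilizer ↥Cfsg.Co0 x) y₄ := by
  obtain ⟨hx1, hx2⟩ := hx
  obtain ⟨k, ku, kx⟩ := CfsgLeechOrb.hs_frame_neg hu hx1 hx2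
  have hK : ∀ g : ↥Co0, g ∈ MulAction.stabilizer ↥Co0 u ⊓ MulAction.stabilizer ↥Co0 x ↔
      k * g * k⁻¹ ∈ CfsgLeechOrb.KHs := by
    intro g
    rw [Subgroup.mem_inf, Subgroup.mem_inf, CfsgLeechOrb.conj_mem_stab ku, CfsgLeechOrb.conj_mem_stab kx]
    simp only [MulAction.mem_stabilizer_iff, CfsgLeech.aut_neg, neg_inj]
  have hmem : ∀ y : ↥leechLattice, y ∈ {x : ↥Cfsg.leechLattice | Cfsg.sqNorm (x : Cfsg.GolayPt → ℤ) = 32 ∧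
      Cfsg.dotInt (u : Cfsg.GolayPt → ℤ) (x : Cfsg.GolayPt → ℤ) = -16} ↔ k • y ∈ CfsgLeechOrb.S16 := by
    intro y
    show _ ↔ Cfsg.sqNorm _ = 32 ∧ _
    have hd := CfsgLeech.aut_dot k u y
    rw [ku, AddSubgroup.coe_neg, CfsgLeech.dot_neg_left] at hd
    rw [CfsgLeech.aut_norm]
    change _ ∧ _ ↔ _ ∧ Cfsg.dotInt CfsgLeech.uStd _ = 16
    constructor <;> rintro ⟨h1, h2⟩ <;> refine ⟨h1, ?_⟩
    · rw [show (CfsgLeechOrb.uL : GolayPt → ℤ) = CfsgLeech.uStd from rfl] at hd; omega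
    · rw [show (CfsgLeechOrb.uL : GolayPt → ℤ) = CfsgLeech.uStd from rfl] at hd; omega
  obtain ⟨c0, c1, c2, c3⟩ := CfsgLeechOrb.cards_hs
  have hin : ∀ r : ↥leechLattice, r ∈ CfsgLeechOrb.S16 → k⁻¹ • r ∈ {x : ↥Cfsg.leechLattice |
      Cfsg.sqNorm (x : Cfsg.GolayPt → ℤ) = 32 ∧ Cfsg.dotInt (u : Cfsg.GolayPt → ℤ) (x : Cfsg.GolayPt → ℤ) = -16} :=
    fun r hr => (hmem _).mpr (by rwa [smul_inv_smul])
  refine ⟨k⁻¹ • CfsgLeechOrb.rHs3, hin _ (CfsgLeechOrb.subHs3 (MulAction.mem_orbit_self _)).1,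
    k⁻¹ • CfsgLeechOrb.rHs0, hin _ (CfsgLeechOrb.subHs0 (MulAction.mem_orbit_self _)).1,
    k⁻¹ • CfsgLeechOrb.rHs2, hin _ (CfsgLeechOrb.subHs2 (MulAction.mem_orbit_self _)).1,
    k⁻¹ • CfsgLeechOrb.rHs1, hin _ (CfsgLeechOrb.subHs1 (MulAction.mem_orbit_self _)).1,
    (CfsgLeechOrb.orbit_conj_ncard hK _).trans c3, (CfsgLeechOrb.orbit_conj_ncard hK _).trans c0,
    (CfsgLeechOrb.orbit_conj_ncard hK _).trans c2, (CfsgLeechOrb.orbit_conj_ncard hK _).trans c1, ?_⟩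
  ext y
  rw [hmem]
  simp only [Set.mem_union, Set.mem_singleton_iff, CfsgLeechOrb.orbit_conj hK, smul_inv_smul]
  have l0 := CfsgLeechOrb.levelsHs 0
  have l1 := CfsgLeechOrb.levelsHs 1
  have l2 := CfsgLeechOrb.levelsHs 2
  have l3 := CfsgLeechOrb.levelsHs 3
  have l4 := CfsgLeechOrb.levelsHs 4
  simp only [Matrix.cons_val] at l0 l1 l2 l3 l4
  constructor
  · intro hy
    have hsum : ∃ i : Fin 5, Cfsg.dotInt CfsgLeech.tStd ((k • y : ↥leechLattice) : GolayPt → ℤ) = ![32, 16, 8, 0, -8] i :=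
      CfsgLeechOrb.dots_hs hy
    obtain ⟨i, hi⟩ := hsum
    have hh := CfsgLeechOrb.levelsHs i
    have hy' : k • y ∈ {z | z ∈ CfsgLeechOrb.S16 ∧ Cfsg.dotInt CfsgLeech.tStd (z : GolayPt → ℤ) = ![32, 16, 8, 0, -8] i} :=
      ⟨hy, hi⟩
    rw [hh] at hy'
    fin_cases i <;> simp only [Matrix.cons_val] at hy'
    · left; left; left; left
      exact smul_left_cancel k (hy'.trans kx.symm)
    · left; left; right; exact hy'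
    · right; exact hy'
    · left; right; exact hy'
    · left; left; left; right; exact hy'
  · rintro ((((rfl | h) | h) | h) | h)
    · exact (hmem _).mp ⟨hx1, hx2⟩
    · exact (CfsgLeechOrb.subHs3 h).1
    · exact (CfsgLeechOrb.subHs0 h).1
    · exact (CfsgLeechOrb.subHs2 h).1
    · exact (CfsgLeechOrb.subHs1 h).1

end Cfsg.Agent.S1641
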