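import Cfsg.Statements.S1646
import Cfsg.Agent.Lib.J4Order.Order
import Cfsg.Agent.Lib.JankoFour.FromShape
import Cfsg.Agent.Lib.JankoFour.TwoClasses

set_option autoImplicit false
open Cfsg

namespace Cfsg.Agent.S1646

theorem result {G : Type*} [Group G] [Finite G] [IsSimpleGroup G] (t : G) (ht : orderOf t = 2) (Q N M : Subgroup (Subgroup.centralizer ({t} : Set G))) [Q.Normal] [N.Normal] [M.Normal] (hQN : Q ≤ N) (hNM : N ≤ M) (hM : M.index = 2) (hQ : Cfsg.IsExtraspecial 2 Q) (hcard : Nat.card Q = 2 ^ 13) (hplus : ∃ E : Subgroup Q, Cfsg.IsElementaryAbelian 2 E ∧ Nat.card E = 2 ^ 7) (hN : Nat.card N = 3 * Nat.card Q) (hcent : ⁅M, N⁆ ≤ Q) (hperf : M ≤ ⁅M, M⁆ ⊔ Q) (h2c : Subgroup.centralizer (Q : Set (Subgroup.centralizer ({t} : Set G))) ≤ Q) (hout : ∀ c : Subgroup.centralizer ({t} : Set G), (∀ m ∈ M, c * m * c⁻¹ * m⁻¹ ∈ N) → c ∈ M) (hM22 :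 Cfsg.Spor.IsoM22 (M ⧸ N.subgroupOf M)) : Cfsg.IsJ4 G ∧ ∃ x y : G, orderOf x = 2 ∧ orderOf y = 2 ∧ ¬ IsConj x y ∧ ∀ z : G, orderOf z = 2 → IsConj z x ∨ IsConj z y := by
  obtain ⟨⟨P, hJ⟩, hG⟩ := CfsgLib.JankoFour.Shape.type_of_shape t ht Q N M hQN hNM hM hQ hcard hN hcent hperf h2c
    hout hM22
  exact ⟨⟨inferInstance, CfsgLib.J4Order.card_G hG ⟨t, P, hJ⟩⟩, CfsgLib.JankoFour.two_classes hG hJ⟩

end Cfsg.Agent.S1646
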