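import Cfsg.Statements.S1652
import Cfsg.Agent.Lib.J3Type.SixTwoRelation
import Cfsg.Agent.Lib.J3Type.SLSixteen
import Cfsg.Agent.Lib.J3Type.Final

set_option autoImplicit false
open Cfsg

namespace Cfsg.Agent.S1652

open CfsgLib.J3Type in
theorem of_cycle {G : Type*} [Group G] {A : Subgroup G} {o a u w : G} (K : Singer.Cyc A o a)
    (h4 : a * Singer.s o a 1 = Singer.s o a 4) (hw : w * w = 1) (hwA : w ∉ A) (hwo : w * o * w⁻¹ = o⁻¹)
    (haw : (a * w) ^ 3 = 1) (huu : u * u = 1) (huA : u ∉ A) (hua : u * a = a * u)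
    (huw : w * u = u * w) (huo : u * o * u⁻¹ = o ^ 4) :
    ∃ (H : Subgroup G) (N : Subgroup H) (F : Type) (_ : Field F) (_ : Fintype F), N.Normal ∧ N.index = 2 ∧
      Fintype.card F = 16 ∧ Nonempty (N ≃* Matrix.SpecialLinearGroup (Fin 2) F) := by
  obtain ⟨ψ, hψ, hrange, hcent⟩ := SLSixteen.exists_hom K h4 hw hwo haw hwA
  set L := ψ.range with hL
  have hui : u⁻¹ = u := inv_eq_of_mul_eq_one_right huu
  have hconj : ∀ l ∈ L, u * l * u⁻¹ ∈ L := by
    intro l hl
    have ma : a ∈ L := hrange ▸ Subgroup.subset_closure (Or.inl rfl)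
    have mw : w ∈ L := hrange ▸ Subgroup.subset_closure (Or.inr (Or.inl rfl))
    have mo : o ∈ L := hrange ▸ Subgroup.subset_closure (Or.inr (Or.inr rfl))
    have ha' : u * a * u⁻¹ ∈ L := by rw [hua, mul_inv_cancel_right]; exact ma
    have hw' : u * w * u⁻¹ ∈ L := by rw [← huw, mul_inv_cancel_right]; exact mw
    have ho' : u * o * u⁻¹ ∈ L := by rw [huo]; exact pow_mem mo 4
    have hle : Subgroup.closure ({a, w, o} : Set G) ≤ L.comap (MulAut.conj u).toMonoidHom := by
      rw [Subgroup.closure_le]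
      rintro _ (rfl | rfl | rfl)
      exacts [ha', hw', ho']
    exact hle (hrange ▸ hl)
  have huL : u ∉ L := fun hm => huA (hcent u hm hua)
  let H : Subgroup G :=
    { carrier := {g | g ∈ L ∨ g * u ∈ L}
      one_mem' := Or.inl L.one_mem
      mul_mem' := fun {g g'} hg hg' => by
        rcases hg with hg | hg <;> rcases hg' with hg' | hg'
        · exact Or.inl (mul_mem hg hg')
        · exact Or.inr (by rw [mul_assoc]; exact mul_mem hg hg')
        · refine Or.inr ?_
          have := mul_mem hg (hconj _ hg')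
          rwa [show g * u * (u * g' * u⁻¹) = g * (u * u) * g' * u⁻¹ by group, huu, mul_one, hui] at this
        · refine Or.inl ?_
          have := mul_mem hg (hconj _ hg')
          rwa [show g * u * (u * (g' * u) * u⁻¹) = g * (u * u) * g' * (u * u⁻¹) by group, huu, mul_one,
            mul_inv_cancel, mul_one] at this
      inv_mem' := fun {g} hg => by
        rcases hg with hg | hg
        · exact Or.inl (inv_mem hg)
        · refine Or.inr ?_
          have := hconj _ (inv_mem hg)
          rwa [show u * (g * u)⁻¹ * u⁻¹ = (u * u⁻¹) * g⁻¹ * u⁻¹ by group, mul_inv_cancel, one_mul, hui] at this }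
  have hLH : L ≤ H := fun g hg => Or.inl hg
  have huH : u ∈ H := Or.inr (by rw [huu]; exact L.one_mem)
  have hidx : (L.subgroupOf H).index = 2 := by
    rw [Subgroup.index_eq_two_iff]
    refine ⟨⟨u, huH⟩, fun b => ?_⟩
    simp only [Subgroup.mem_subgroupOf, Subgroup.coe_mul]
    by_cases hb : (b : G) ∈ L
    · refine Or.inr ⟨hb, fun hm => huL ?_⟩
      have := mul_mem (inv_mem hb) hm
      rwa [inv_mul_cancel_left] at this
    · exact Or.inl ⟨b.2.resolve_left hb, hb⟩
  refine ⟨H, L.subgroupOf H, CfsgLib.U34.C, inferInstance, inferInstance, Subgroup.normal_of_index_eq_two hidx, hidx,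
    CfsgLib.U34.C.card_eq, ⟨(Subgroup.subgroupOfEquivOfLe hLH).trans (MonoidHom.ofInjective hψ).symm⟩⟩

/-- A group of J₃ type contains SL(2,16):2: let a finite simple group have a single conjugacy class of involutions and an involution t whose centraliser C has a normal extraspecial subgroup Q of order 32 with no elementary abelian subgroup of order 8, whose centraliser in C lies in Q, with C / Q isomorphic to the alternating group of degree 5. Then some subgroup H has a normal subgroup of index 2 isomorphic to the special linear group of dimension 2 over a field with 16 elements. -/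
theorem result {G : Type*} [Group G] [Finite G] [IsSimpleGroup G] (t : G) (ht : orderOf t = 2) (Q : Subgroup (Subgroup.centralizer ({t} : Set G))) [Q.Normal] (hQ : Cfsg.IsExtraspecial 2 Q) (hcard : Nat.card Q = 32) (hminus : ∀ E : Subgroup Q, Cfsg.IsElementaryAbelian 2 E → Nat.card E ≤ 2 ^ 2) (h2c : Subgroup.centralizer (Q : Set (Subgroup.centralizer ({t} : Set G))) ≤ Q) (e : (Subgroup.centralizer ({t} : Set G)) ⧸ Q ≃* alternatingGroup (Fin 5)) (hone : ∀ x y : G, orderOf x = 2 → orderOf y = 2 → IsConj x y) : ∃ (H : Subgroup G) (N : Subgroup H) (K : Type) (_ : Field K) (_ : Fintype K), N.Normal ∧ N.index = 2 ∧ Fintype.card K = 16 ∧ Nonempty (N ≃* Matrix.SpecialLinearGroup (Fin 2) K) := by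
  open CfsgLib.J3Type in
  obtain ⟨pm, h⟩ := exists_JT t ht Q hQ hcard e
  haveI : Fact (Nat.Prime 2) := ⟨Nat.prime_two⟩
  have hs : CfsgLib.J3Type.SixType G := (h.type_cases hone).resolve_right fun hs => hs.absurd_type h hone
  obtain ⟨A, S⟩ := CfsgLib.J3Type.exists_sixteen h hone
  obtain ⟨a₀, ε, f, u, v, D⟩ := S.exists_cycle hs h hone
  obtain ⟨a, w, K, hua, hw, hwA, hwo, hwu, haw⟩ := D.exists_relation h hone
  have ho3 : ε ^ 3 = 1 := D.eo ▸ pow_orderOf_eq_one ε
  have ho5 : f ^ 5 = 1 := D.fo ▸ pow_orderOf_eq_one f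
  have huo : u * (ε * f) * u⁻¹ = (ε * f) ^ 4 := by
    have hf4 : f ^ 4 = f⁻¹ := eq_inv_of_mul_eq_one_left (by rw [← pow_succ, ho5])
    rw [(show Commute ε f from D.ef).mul_pow, pow_succ ε, ho3, one_mul, hf4,
      show u * (ε * f) * u⁻¹ = (u * ε * u⁻¹) * (u * f * u⁻¹) by group,
      show u * f * u⁻¹ = f⁻¹ from D.uf, D.ue, mul_inv_cancel_right]
  obtain ⟨i, hi, hz⟩ := K.zech
  rcases hi with rfl | rfl
  · exact of_cycle K hz hw hwA hwo haw D.uu D.u_not hua hwu huo
  · refine of_cycle K.inverse (K.inverse_four hz) hw hwA ?_ haw D.uu D.u_not hua hwu ?_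
    · rw [← conj_pow, hwo, inv_pow]
    · rw [← conj_pow, huo, ← pow_mul, ← pow_mul]

end Cfsg.Agent.S1652
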