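import Cfsg.Statements.S1678
import Cfsg.Agent.Lib.Co3Recog.Main

set_option autoImplicit false
open Cfsg

namespace Cfsg.Agent.S1678

/-- The third Conway group from an involution centraliser: let G be a finite group with no non-trivial normal subgroup of odd order and trivial centre, having an involution t whose centraliser is a non-split double cover of the symplectic group Sp(6, 2). Then G is isomorphic to the third Conway group (the stabiliser in the Leech lattice automorphism group of a vector of the second shortest length). -/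
theorem result {G : Type*} [Group G] [Finite G] (hO : Cfsg.oddCore G = ⊥) (hZ : Subgroup.center G = ⊥) (t : G) (ht : orderOf t = 2) (hC : Cfsg.IsNonsplitDoubleCover (Subgroup.centralizer ({t} : Set G)) (Matrix.symplecticGroup (Fin 3) (ZMod 2))) : Cfsg.Spor.IsoCo3 G := by
  -- a copy of the group among the permutations of finitely many points
  obtain ⟨n, ⟨b⟩⟩ := Finite.exists_equiv_fin G
  let f : G →* Equiv.Perm (Fin n) := (b.permCongrHom.toMonoidHom).comp (MulAction.toPermHom G G)
  have hf : Function.Injective f := b.permCongrHom.injective.comp fun x y h => by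
    simpa using DFunLike.congr_fun h 1
  let e : G ≃* f.range := MonoidHom.ofInjective hf
  have hO' : Cfsg.oddCore f.range = ⊥ := by
    rw [eq_bot_iff]
    refine sSup_le fun N hN => ?_
    obtain ⟨hNn, hNc⟩ := hN
    have hle : N.comap e.toMonoidHom ≤ Cfsg.oddCore G := by
      refine le_sSup ⟨hNn.comap _, ?_⟩
      rwa [Nat.card_congr (e.toEquiv.subtypeEquiv fun x => Iff.rfl : (N.comap e.toMonoidHom) ≃ N)]
    intro x hx
    have := hle (show e.symm x ∈ N.comap e.toMonoidHom by
      show e (e.symm x) ∈ N
      rwa [e.apply_symm_apply])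
    rw [hO, Subgroup.mem_bot] at this
    rw [Subgroup.mem_bot, ← e.apply_symm_apply x, this, map_one]
  have hZ' : Subgroup.center f.range = ⊥ := by
    rw [eq_bot_iff]
    intro x hx
    have : e.symm x ∈ Subgroup.center G := Subgroup.mem_center_iff.mpr fun g => e.injective (by
      rw [map_mul, map_mul, e.apply_symm_apply]
      exact Subgroup.mem_center_iff.mp hx (e g))
    rw [hZ, Subgroup.mem_bot] at this
    rw [Subgroup.mem_bot, ← e.apply_symm_apply x, this, map_one]
  -- the centraliser of the image of the involution
  let c : ↥(Subgroup.centralizer ({t} : Set G)) ≃* ↥(Subgroup.centralizer ({e t} : Set f.range)) :=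
    { toFun := fun x => ⟨e x, Subgroup.mem_centralizer_singleton_iff.mpr (by
        rw [← map_mul, ← map_mul, Subgroup.mem_centralizer_singleton_iff.mp x.2])⟩
      invFun := fun x => ⟨e.symm x, Subgroup.mem_centralizer_singleton_iff.mpr (e.injective (by
        rw [map_mul, map_mul, e.apply_symm_apply]
        exact Subgroup.mem_centralizer_singleton_iff.mp x.2))⟩
      left_inv := fun x => Subtype.ext (e.symm_apply_apply x)
      right_inv := fun x => Subtype.ext (e.apply_symm_apply x)
      map_mul' := fun x y => Subtype.ext (map_mul e _ _) }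
  obtain ⟨hc1, ⟨q⟩, hc3⟩ := hC
  have hcen : (Subgroup.center ↥(Subgroup.centralizer ({t} : Set G))).map c.toMonoidHom =
      Subgroup.center ↥(Subgroup.centralizer ({e t} : Set f.range)) := by
    ext x
    rw [Subgroup.mem_map_equiv, Subgroup.mem_center_iff, Subgroup.mem_center_iff]
    refine ⟨fun h g => c.symm.injective ?_, fun h g => c.injective ?_⟩
    · rw [map_mul, map_mul, h]
    · rw [map_mul, map_mul, c.apply_symm_apply, h]
  have hC' : Cfsg.IsNonsplitDoubleCover (Subgroup.centralizer ({e t} : Set f.range))
      (Matrix.symplecticGroup (Fin 3) (ZMod 2)) := by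
    refine ⟨?_, ⟨(QuotientGroup.congr _ _ c hcen).symm.trans q⟩, fun L hL => ?_⟩
    · rw [← hcen, Subgroup.card_map_of_injective c.injective, hc1]
    · refine hc3 (L.comap c.toMonoidHom) (Subgroup.isComplement'_of_disjoint_and_mul_eq_univ ?_ ?_)
      · rw [disjoint_iff, eq_bot_iff]
        rintro x ⟨hx1, hx2⟩
        have : c x ∈ Subgroup.center _ ⊓ L := ⟨hcen ▸ ⟨x, hx1, rfl⟩, hx2⟩
        rw [hL.disjoint.eq_bot, Subgroup.mem_bot] at this
        rw [Subgroup.mem_bot]
        exact c.injective (this.trans (map_one c).symm)
      · rw [Set.eq_univ_iff_forall]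
        intro x
        obtain ⟨a, ha, l, hl, h⟩ := Set.eq_univ_iff_forall.mp hL.mul_eq (c x)
        refine ⟨c.symm a, ?_, c.symm l, ?_, c.injective (by simpa using h)⟩
        · rw [← hcen] at ha
          obtain ⟨a', ha', rfl⟩ := ha
          simpa using ha'
        · show c (c.symm l) ∈ L
          rwa [c.apply_symm_apply]
  obtain ⟨e'⟩ := CfsgLib.Co3Recog.Main.iso_of_hyps hO' hZ' (e t)
    ((MulEquiv.orderOf_eq e t).trans ht) hC'
  exact ⟨e.trans e'⟩

end Cfsg.Agent.S1678
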