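import Cfsg.Statements.S1683
import Cfsg.Agent.Lib.CosetEnum.He2058.Main

set_option autoImplicit false
open Cfsg CfsgLib.CosetEnum

namespace Cfsg.Agent.S1683

open CfsgLib.CosetEnum in
theorem sub_eq : (Subgroup.closure ({Cfsg.Spor.He.a, Cfsg.Spor.He.c, Cfsg.Spor.He.d, Cfsg.Spor.He.e, Cfsg.Spor.He.f, (Cfsg.Spor.He.a * Cfsg.Spor.He.b) ^ 2, (Cfsg.Spor.He.b * Cfsg.Spor.He.c * Cfsg.Spor.He.d * Cfsg.Spor.He.e) ^ 7} : Set (FreeGroup Cfsg.Spor.He.Gen))).map (PresentedGroup.mk presHe.relSet) = He2058.cert.sub := by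
  have hσ : ∀ i, i < 7 → presHe.σ i = PresentedGroup.mk presHe.relSet (FreeGroup.of (presHe.gen i)) := fun i hi => if_pos hi
  rw [MonoidHom.map_closure, Cert.sub]
  congr 1
  ext g
  simp only [He2058.cert, He2058.hw, List.mem_cons, List.not_mem_nil, or_false, Set.mem_ofPred_eq, exists_eq_or_imp,
    exists_eq_left, List.map_cons, List.map_nil, List.prod_cons, List.prod_nil, mul_one,
    hσ 0 (by norm_num), hσ 1 (by norm_num), hσ 2 (by norm_num), hσ 3 (by norm_num), hσ 4 (by norm_num), hσ 5 (by norm_num)]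
  simp [presHe, Cfsg.Spor.He.a, Cfsg.Spor.He.b, Cfsg.Spor.He.c, Cfsg.Spor.He.d, Cfsg.Spor.He.e, Cfsg.Spor.He.f,
    pow_succ, mul_assoc, eq_comm]

/-- In the presented Held group, let H be the subgroup generated by the images of a, c, d, e, f, (ab)^2 and (bcde)^7. Then H has index 2058, there are four distinct H-orbits on the cosets of H other than H itself, of sizes 136, 136, 425 and 1360. -/
theorem result : (((Subgroup.closure ({Cfsg.Spor.He.a, Cfsg.Spor.He.c, Cfsg.Spor.He.d, Cfsg.Spor.He.e, Cfsg.Spor.He.f, (Cfsg.Spor.He.a * Cfsg.Spor.He.b) ^ 2, (Cfsg.Spor.He.b * Cfsg.Spor.He.c * Cfsg.Spor.He.d * Cfsg.Spor.He.e) ^ 7} : Set (FreeGroup Cfsg.Spor.He.Gen))).map (PresentedGroup.mk (Cfsg.Spor.coxRelators Cfsg.Spor.He.edges ∪ {r | r ∈ Cfsg.Spor.He.extra})))).index = 2058 ∧ ∃ q₁ q₂ q₃ q₄ : Cfsg.Spor.He ⧸ (((Subgroup.closure ({Cfsg.Spor.He.a, Cfsg.Spor.He.c, Cfsg.Spor.He.d,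 Cfsg.Spor.He.e, Cfsg.Spor.He.f, (Cfsg.Spor.He.a * Cfsg.Spor.He.b) ^ 2, (Cfsg.Spor.He.b * Cfsg.Spor.He.c * Cfsg.Spor.He.d * Cfsg.Spor.He.e) ^ 7} : Set (FreeGroup Cfsg.Spor.He.Gen))).map (PresentedGroup.mk (Cfsg.Spor.coxRelators Cfsg.Spor.He.edges ∪ {r | r ∈ Cfsg.Spor.He.extra})))), MulAction.orbit (((Subgroup.closure ({Cfsg.Spor.He.a, Cfsg.Spor.He.c, Cfsg.Spor.He.d, Cfsg.Spor.He.e, Cfsg.Spor.He.f, (Cfsg.Spor.He.a * Cfsg.Spor.He.b) ^ 2, (Cfsg.Spor.He.b * Cfsg.Spor.He.c * Cfsg.Spor.He.d * Cfsg.Spor.He.e) ^ 7} : Set (FreeGroup Cfsg.Spor.He.Gen))).map (PresentedGroup.mk (Cfsg.Spor.coxRelators Cfsg.Spor.He.edges ∪ {r | r ∈ Cfsg.Spor.He.extra})))) q₁ ≠ MulAction.orbit (((Subgroup.closure ({Cfsg.Spor.He.a, Cfsg.Spor.He.c, Cfsg.Spor.He.d, Cfsg.Spor.He.e, Cfsg.Spor.He.f, (Cfsg.Spor.He.a * Cfsg.Spor.He.b) ^ 2, (Cfsg.Spor.He.b * Cfsg.Spor.He.c * Cfsg.Spor.He.d * Cfsg.Spor.He.e)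 ^ 7} : Set (FreeGroup Cfsg.Spor.He.Gen))).map (PresentedGroup.mk (Cfsg.Spor.coxRelators Cfsg.Spor.He.edges ∪ {r | r ∈ Cfsg.Spor.He.extra})))) q₂ ∧ (MulAction.orbit (((Subgroup.closure ({Cfsg.Spor.He.a, Cfsg.Spor.He.c, Cfsg.Spor.He.d, Cfsg.Spor.He.e, Cfsg.Spor.He.f, (Cfsg.Spor.He.a * Cfsg.Spor.He.b) ^ 2, (Cfsg.Spor.He.b * Cfsg.Spor.He.c * Cfsg.Spor.He.d * Cfsg.Spor.He.e) ^ 7} : Set (FreeGroup Cfsg.Spor.He.Gen))).map (PresentedGroup.mk (Cfsg.Spor.coxRelators Cfsg.Spor.He.edges ∪ {r | r ∈ Cfsg.Spor.He.extra})))) q₁).ncard = 136 ∧ (MulAction.orbit (((Subgroup.closure ({Cfsg.Spor.He.a, Cfsg.Spor.He.c, Cfsg.Spor.He.d, Cfsg.Spor.He.e, Cfsg.Spor.He.f, (Cfsg.Spor.He.a * Cfsg.Spor.He.b) ^ 2, (Cfsg.Spor.He.b * Cfsg.Spor.He.c * Cfsg.Spor.He.d * Cfsg.Spor.He.e) ^ 7} : Set (FreeGroup Cfsg.Spor.He.Gen))).map (PresentedGroup.mk (Cfsg.Spor.coxRelators Cfsg.Spor.He.edges ∪ {r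 | r ∈ Cfsg.Spor.He.extra})))) q₂).ncard = 136 ∧ (MulAction.orbit (((Subgroup.closure ({Cfsg.Spor.He.a, Cfsg.Spor.He.c, Cfsg.Spor.He.d, Cfsg.Spor.He.e, Cfsg.Spor.He.f, (Cfsg.Spor.He.a * Cfsg.Spor.He.b) ^ 2, (Cfsg.Spor.He.b * Cfsg.Spor.He.c * Cfsg.Spor.He.d * Cfsg.Spor.He.e) ^ 7} : Set (FreeGroup Cfsg.Spor.He.Gen))).map (PresentedGroup.mk (Cfsg.Spor.coxRelators Cfsg.Spor.He.edges ∪ {r | r ∈ Cfsg.Spor.He.extra})))) q₃).ncard = 425 ∧ (MulAction.orbit (((Subgroup.closure ({Cfsg.Spor.He.a, Cfsg.Spor.He.c, Cfsg.Spor.He.d, Cfsg.Spor.He.e, Cfsg.Spor.He.f, (Cfsg.Spor.He.a * Cfsg.Spor.He.b) ^ 2, (Cfsg.Spor.He.b * Cfsg.Spor.He.c * Cfsg.Spor.He.d * Cfsg.Spor.He.e) ^ 7} : Set (FreeGroup Cfsg.Spor.He.Gen))).map (PresentedGroup.mk (Cfsg.Spor.coxRelators Cfsg.Spor.He.edges ∪ {r | r ∈ Cfsg.Spor.He.extra})))) q₄).ncard = 1360 := by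
  have h := sub_eq
  open CfsgLib.CosetEnum in
  obtain ⟨e, he⟩ := He2058.cert.exists_equiv He2058.hlt (by decide) He2058.hhw
  unfold CfsgLib.CosetEnum.Pres.relSet at h
  show (_ : Subgroup CfsgLib.CosetEnum.presHe.Grp).index = 2058 ∧ _
  erw [h]
  open CfsgLib.CosetEnum in
  refine ⟨index_eq_of_equiv e, e ⟨46, by decide⟩, e ⟨65, by decide⟩, e ⟨2, by decide⟩, e ⟨1, by decide⟩, ?_, ?_, ?_, ?_, ?_⟩

  · exact He2058.cert.orbit_ne He2058.hlt (by decide) He2058.hhw e he He2058.orb He2058.roots He2058.hwR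
      (by decide +kernel) He2058.orbs (by decide +kernel)
  · exact (He2058.cert.orbit_ncard He2058.hlt (by decide) He2058.hhw e he He2058.orb He2058.roots He2058.hwR
      (by decide +kernel) He2058.orbs (l := 3) (by decide) (by decide +kernel)).trans He2058.count3
  · exact (He2058.cert.orbit_ncard He2058.hlt (by decide) He2058.hhw e he He2058.orb He2058.roots He2058.hwR
      (by decide +kernel) He2058.orbs (l := 4) (by decide) (by decide +kernel)).trans He2058.count4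
  · exact (He2058.cert.orbit_ncard He2058.hlt (by decide) He2058.hhw e he He2058.orb He2058.roots He2058.hwR
      (by decide +kernel) He2058.orbs (l := 2) (by decide) (by decide +kernel)).trans He2058.count2
  · exact (He2058.cert.orbit_ncard He2058.hlt (by decide) He2058.hhw e he He2058.orb He2058.roots He2058.hwR
      (by decide +kernel) He2058.orbs (l := 1) (by decide) (by decide +kernel)).trans He2058.count1

end Cfsg.Agent.S1683
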