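import Cfsg.Statements.S1690
import Cfsg.Agent.Lib.CosetEnum.Fi24Table.Main
-- import your own Cfsg.Agent.* helpers here

set_option autoImplicit false
open Cfsg

open CfsgLib.CosetEnum

namespace Cfsg.Agent.S1690

/-- In the presented group Fi₂₄ = Fi₂₄′:2, the subgroup generated by the images of a, b, c, d, e, f, g, h, i, j and l (every generator but k) has index 306936. -/
theorem result : (((Subgroup.closure ({Cfsg.Spor.Fi24.a, Cfsg.Spor.Fi24.b, Cfsg.Spor.Fi24.c, Cfsg.Spor.Fi24.d, Cfsg.Spor.Fi24.e, Cfsg.Spor.Fi24.f, Cfsg.Spor.Fi24.g, Cfsg.Spor.Fi24.h, Cfsg.Spor.Fi24.i, Cfsg.Spor.Fi24.j, Cfsg.Spor.Fi24.l} : Set (FreeGroup Cfsg.Spor.Fi24.Gen))).map (PresentedGroup.mk (Cfsg.Spor.coxRelators Cfsg.Spor.Fi24.edges ∪ {r | r ∈ Cfsg.Spor.Fi24.extra})))).index = 306936 := by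
  obtain ⟨e, -⟩ := Fi24Table.cert.exists_equiv Fi24Table.hltRels hidFi24 Fi24Table.hhw
  refine Eq.trans (congrArg Subgroup.index ?_) ((index_eq_of_equiv e).trans rfl)
  rw [MonoidHom.map_closure]
  refine le_antisymm (Subgroup.closure_le _ |>.mpr ?_) (Subgroup.closure_le _ |>.mpr ?_)
  · rintro _ ⟨x, hx, rfl⟩
    simp only [Set.mem_insert_iff, Set.mem_singleton_iff] at hx
    have key : ∀ v : Cfsg.Spor.Fi24.Gen, v ≠ .k → PresentedGroup.mk presFi24.relSet (FreeGroup.of v) ∈ Fi24Table.cert.sub := by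
      intro v hv
      refine Subgroup.subset_closure ⟨[idxFi24 v], ?_, ?_⟩
      · cases v <;> first | exact absurd rfl hv | decide +kernel
      · rw [List.map_singleton, List.prod_singleton]
        exact presFi24.σ_idx v
    rcases hx with rfl | rfl | rfl | rfl | rfl | rfl | rfl | rfl | rfl | rfl | rfl <;> exact key _ (by decide)
  · rintro _ ⟨w, hw, rfl⟩
    have hgen : ∀ v : Cfsg.Spor.Fi24.Gen, v ≠ .k → presFi24.σ (idxFi24 v) ∈ Subgroup.closure
        (PresentedGroup.mk (Cfsg.Spor.coxRelators Cfsg.Spor.Fi24.edges ∪ {r | r ∈ Cfsg.Spor.Fi24.extra}) ''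
          ({Cfsg.Spor.Fi24.a, Cfsg.Spor.Fi24.b, Cfsg.Spor.Fi24.c, Cfsg.Spor.Fi24.d, Cfsg.Spor.Fi24.e,
            Cfsg.Spor.Fi24.f, Cfsg.Spor.Fi24.g, Cfsg.Spor.Fi24.h, Cfsg.Spor.Fi24.i, Cfsg.Spor.Fi24.j,
            Cfsg.Spor.Fi24.l} : Set (FreeGroup Cfsg.Spor.Fi24.Gen))) := by
      intro v hv
      refine Subgroup.subset_closure ⟨FreeGroup.of v, ?_, (presFi24.σ_idx v).symm⟩
      cases v <;> first | exact absurd rfl hv | simp
    change w ∈ Fi24Table.hw at hw
    simp only [Fi24Table.hw, List.mem_append, List.mem_cons, List.not_mem_nil, or_false] at hw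
    rcases hw with (rfl | rfl | rfl | rfl | rfl | rfl | rfl | rfl | rfl | rfl | rfl) | rfl
    all_goals first
      | (rw [List.map_singleton, List.prod_singleton]; first
          | exact hgen .l (by decide) | exact hgen .a (by decide) | exact hgen .b (by decide)
          | exact hgen .c (by decide) | exact hgen .d (by decide) | exact hgen .e (by decide)
          | exact hgen .f (by decide) | exact hgen .g (by decide) | exact hgen .j (by decide)
          | exact hgen .h (by decide) | exact hgen .i (by decide))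
      | (rw [presFi24.rels_one (List.mem_append_right _ (by simp [extraWFi24]))]; exact one_mem _)


end Cfsg.Agent.S1690
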