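import Cfsg.Statements.S1691

set_option autoImplicit false
open Cfsg

namespace Cfsg.Agent.S1691

open Cfsg.Spor

/-- The parity of a word. -/
def parity : FreeGroup Fi24.Gen →* Multiplicative (ZMod 2) := FreeGroup.lift fun _ => Multiplicative.ofAdd 1

theorem parity_rel : ∀ r ∈ coxRelators Fi24.edges ∪ {r | r ∈ Fi24.extra}, parity r = 1 := by
  rintro r (⟨x, -, y, -, rfl⟩ | hr)
  · rw [map_pow, map_mul, parity, FreeGroup.lift_apply_of, FreeGroup.lift_apply_of,
      show Multiplicative.ofAdd (1 : ZMod 2) * Multiplicative.ofAdd (1 : ZMod 2) = 1 from rfl, one_pow]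
  · simp only [Fi24.extra, Set.mem_setOf_eq, List.mem_cons, List.not_mem_nil, or_false] at hr
    rcases hr with rfl | rfl <;> simp only [map_mul, map_inv, map_pow, parity, FreeGroup.lift_apply_of] <;> decide

/-- The image of a generator in the abelianization. -/
def ab (x : Fi24.Gen) : Abelianization Cfsg.Spor.Fi24 := Abelianization.of (PresentedGroup.of x)

theorem ab_rel {x y : Fi24.Gen} (hx : x ∈ coxNodes Fi24.edges) (hy : y ∈ coxNodes Fi24.edges) :
    (ab x * ab y) ^ coxLabel Fi24.edges x y = 1 := by
  have h : PresentedGroup.mk (coxRelators Fi24.edges ∪ {r | r ∈ Fi24.extra})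
      ((FreeGroup.of x * FreeGroup.of y) ^ coxLabel Fi24.edges x y) = 1 :=
    (PresentedGroup.mk_eq_one_iff).mpr (Subgroup.subset_normalClosure (Or.inl ⟨x, hx, y, hy, rfl⟩))
  have := congrArg Abelianization.of h
  simpa only [map_pow, map_mul, map_one, ab, PresentedGroup.of] using this

theorem ab_sq (x : Fi24.Gen) : ab x * ab x = 1 := by
  have hm : x ∈ coxNodes Fi24.edges := by cases x <;> decide
  have := ab_rel hm hm
  rwa [show coxLabel Fi24.edges x x = 1 by simp [coxLabel], pow_one] at this

theorem ab_edge {x y : Fi24.Gen} (hx : x ∈ coxNodes Fi24.edges) (hy : y ∈ coxNodes Fi24.edges)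
    (h3 : coxLabel Fi24.edges x y = 3) : ab x = ab y := by
  have := ab_rel hx hy
  rw [h3, mul_pow, pow_succ, pow_succ (ab y), pow_two, pow_two, ab_sq, ab_sq, one_mul, one_mul] at this
  rw [eq_inv_of_mul_eq_one_left this, inv_eq_of_mul_eq_one_right (ab_sq y)]

theorem ab_eq (x : Fi24.Gen) : ab x = ab .d := by
  have lk := ab_edge (x := .l) (y := .k) (by decide) (by decide) (by decide)
  have ka := ab_edge (x := .k) (y := .a) (by decide) (by decide) (by decide)
  have ab' := ab_edge (x := .a) (y := .b) (by decide) (by decide) (by decide)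
  have bc := ab_edge (x := .b) (y := .c) (by decide) (by decide) (by decide)
  have cd := ab_edge (x := .c) (y := .d) (by decide) (by decide) (by decide)
  have ed := ab_edge (x := .e) (y := .d) (by decide) (by decide) (by decide)
  have fe := ab_edge (x := .f) (y := .e) (by decide) (by decide) (by decide)
  have gf := ab_edge (x := .g) (y := .f) (by decide) (by decide) (by decide)
  have jg := ab_edge (x := .j) (y := .g) (by decide) (by decide) (by decide)
  have hd := ab_edge (x := .h) (y := .d) (by decide) (by decide) (by decide)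
  have ih := ab_edge (x := .i) (y := .h) (by decide) (by decide) (by decide)
  cases x <;> simp [lk, ka, ab', bc, cd, ed, fe, gf, jg, hd, ih]

/-- In the presented group Fi24 the commutator subgroup (the simple group Fi24′) has index 2. -/
theorem result : (commutator Cfsg.Spor.Fi24).index = 2 := by
  show Nat.card (Abelianization Cfsg.Spor.Fi24) = 2
  set t := ab .d with ht
  have key : ∀ g : Cfsg.Spor.Fi24, Abelianization.of g = 1 ∨ Abelianization.of g = t := by
    intro g
    have hg : g ∈ Subgroup.closure (Set.range (PresentedGroup.of (rels := coxRelators Fi24.edges ∪ {r | r ∈ Fi24.extra}))) := by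
      rw [PresentedGroup.closure_range_of]; trivial
    induction hg using Subgroup.closure_induction with
    | mem g hg => obtain ⟨x, rfl⟩ := hg; exact Or.inr (ab_eq x)
    | one => exact Or.inl (map_one _)
    | mul a b _ _ iha ihb =>
      rcases iha with e | e <;> rcases ihb with e' | e' <;> rw [map_mul, e, e']
      exacts [Or.inl (one_mul _), Or.inr (one_mul _), Or.inr (mul_one _), Or.inl (ab_sq _)]
    | inv a _ iha =>
      rcases iha with e | e <;> rw [map_inv, e]
      exacts [Or.inl inv_one, Or.inr (inv_eq_of_mul_eq_one_right (ab_sq _))]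
  have hne : t ≠ 1 := by
    intro e
    have h := congrArg (Abelianization.lift (PresentedGroup.toGroup (f := fun _ : Fi24.Gen => Multiplicative.ofAdd (1 : ZMod 2))
      parity_rel)) e
    rw [ht, ab, Abelianization.lift_apply_of] at h
    have h2 : Multiplicative.ofAdd (1 : ZMod 2) = 1 :=
      (PresentedGroup.toGroup.of parity_rel (x := Fi24.Gen.d)).symm.trans (h.trans (map_one _))
    exact absurd h2 (by decide)
  refine (Nat.card_eq_two_iff' (1 : Abelianization Cfsg.Spor.Fi24)).mpr ⟨t, hne, fun y hy => ?_⟩
  obtain ⟨g, rfl⟩ : ∃ g, Abelianization.of g = y := QuotientGroup.mk_surjective y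
  exact (key g).resolve_left hy

end Cfsg.Agent.S1691
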