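import Cfsg.Statements.S1717
import Cfsg.Agent.Lib.PSLn.Sylow

set_option autoImplicit false
open Cfsg

namespace Cfsg.Agent.S1717

theorem zmod2_cases : ∀ c : ZMod 2, c = 0 ∨ c = 1 := by decide

open CfsgLib.PSLn in
theorem center_upper_card :
    Nat.card (Subgroup.center (upper (ZMod 2) 5)) = 2 := by
  set w : Matrix.SpecialLinearGroup (Fin 5) (ZMod 2) := xx (0 : Fin 5) 4 (by decide) 1 with hw
  have hwU : w ∈ upper (ZMod 2) 5 := xx_mem_upper (by decide) 1
  refine (Nat.card_eq_two_iff' (1 : Subgroup.center (upper (ZMod 2) 5))).mpr ⟨⟨⟨w, hwU⟩, ?_⟩, ?_, ?_⟩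
  · refine Subgroup.mem_center_iff.mpr fun A => Subtype.ext ?_
    exact long_root_commute (by decide) (by decide) (by decide) A.2 1
  · intro e
    have := congrArg (fun A : Subgroup.center (upper (ZMod 2) 5) => A.1.1.1 0 4) e
    simp [hw, coe_xx, Matrix.one_apply] at this
  · rintro ⟨A, hA⟩ hne
    have e := eq_long_root_of_commute (F := ZMod 2) (n := 5) (a := 0) (b := 4) (by decide) (by decide) (by decide) A.2
      (fun i j hij => by
        have := congrArg Subtype.val (Subgroup.mem_center_iff.mp hA ⟨_, xx_mem_upper hij 1⟩)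
        exact ((show Commute A.1 (xx i j hij.ne 1) from this.symm)).map _)
    have hc : ∀ c : ZMod 2, c = 0 ∨ c = 1 := by decide
    rcases hc (A.1.1 0 4) with h | h <;> rw [h] at e
    · refine absurd (Subtype.ext (Subtype.ext (e.trans ?_))) hne
      apply Subtype.ext
      rw [coe_xx]
      simp
    · exact Subtype.ext (Subtype.ext e)

theorem index_upper_odd : ¬ 2 ∣ (CfsgLib.PSLn.upper (ZMod 2) 5).index := by
  intro h2
  have h := Subgroup.card_mul_index (CfsgLib.PSLn.upper (ZMod 2) 5)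
  rw [CfsgLib.PSLn.card_upper] at h
  have hd : Nat.card (Matrix.SpecialLinearGroup (Fin 5) (ZMod 2)) ∣ Nat.card (GL (Fin 5) (ZMod 2)) :=
    Subgroup.card_dvd_of_injective _ (Matrix.SpecialLinearGroup.toGL_injective (n := Fin 5) (R := ZMod 2))
  rw [← h, Matrix.card_GL_field] at hd
  simp only [ZMod.card, Fin.prod_univ_five] at hd
  norm_num at hd
  have h3 : 2048 ∣ 9999360 := (mul_dvd_mul_left 1024 h2).trans hd
  norm_num at h3

theorem sylow_of_center_two {G : Type*} [Group G] [Finite G] {z : G} (hz : orderOf z = 2) {C : Subgroup G}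
    (hC : C = Subgroup.centralizer ({z} : Set G)) (T : Sylow 2 C)
    (hc : Nat.card (Subgroup.center ↥(T : Subgroup C)) = 2) :
    ¬ 2 ∣ ((T : Subgroup C).map C.subtype).index := by
  haveI : Fact (Nat.Prime 2) := ⟨Nat.prime_two⟩
  subst hC
  let C := Subgroup.centralizer ({z} : Set G)
  set T' := (T : Subgroup C).map C.subtype with hT'
  obtain ⟨P, hP⟩ := (T.isPGroup'.map C.subtype).exists_le_sylow
  have hzC : z ∈ C := Subgroup.mem_centralizer_singleton_iff.mpr rfl
  have hzT : (⟨z, hzC⟩ : C) ∈ (T : Subgroup C) := by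
    have hn : (Subgroup.zpowers (⟨z, hzC⟩ : C)).Normal := by
      refine ⟨fun n hn g => ?_⟩
      have : g * n * g⁻¹ = n := by
        obtain ⟨k, rfl⟩ := hn
        have : Commute g (⟨z, hzC⟩ : C) := Subtype.ext (Subgroup.mem_centralizer_singleton_iff.mp g.2)
        rw [(this.zpow_right k).eq, mul_inv_cancel_right]
      rwa [this]
    have hp : IsPGroup 2 (Subgroup.zpowers (⟨z, hzC⟩ : C)) := IsPGroup.of_card (n := 1) (by
      rw [Nat.card_zpowers, Subgroup.orderOf_mk, hz, pow_one])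
    obtain ⟨S, hS⟩ := hp.exists_le_sylow
    obtain ⟨g, hg⟩ := MulAction.exists_smul_eq C S T
    rw [← hg]
    show (⟨z, hzC⟩ : C) ∈ (g • S : Sylow 2 C).toSubgroup
    rw [Sylow.coe_subgroup_smul, Subgroup.mem_pointwise_smul_iff_inv_smul_mem]
    refine hS ?_
    have := hn.conj_mem _ (Subgroup.mem_zpowers (⟨z, hzC⟩ : C)) g⁻¹
    simpa [MulAut.smul_def] using this
  have hzz : ∀ c ∈ T', (∀ t ∈ T', c * t = t * c) → c = 1 ∨ c = z := by
    rintro _ ⟨c, hcT, rfl⟩ hct
    let w : Subgroup.center ↥(T : Subgroup C) := ⟨⟨⟨z, hzC⟩, hzT⟩, Subgroup.mem_center_iff.mpr fun t =>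
      Subtype.ext (Subtype.ext (Subgroup.mem_centralizer_singleton_iff.mp (t : C).2))⟩
    let v : Subgroup.center ↥(T : Subgroup C) := ⟨⟨c, hcT⟩, Subgroup.mem_center_iff.mpr fun t =>
      Subtype.ext (Subtype.ext (hct _ ⟨t, t.2, rfl⟩).symm)⟩
    obtain ⟨u, -, hu⟩ := (Nat.card_eq_two_iff' (1 : Subgroup.center ↥(T : Subgroup C))).mp hc
    have hw : w ≠ 1 := fun e => by
      have : z = 1 := congrArg (fun x : Subgroup.center ↥(T : Subgroup C) => (((x : ↥(T : Subgroup C)) : C) : G)) e
      rw [this, orderOf_one] at hz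
      exact absurd hz (by norm_num)
    by_cases hv : v = 1
    · exact Or.inl (congrArg (fun x : Subgroup.center ↥(T : Subgroup C) => (((x : ↥(T : Subgroup C)) : C) : G)) hv)
    · exact Or.inr (congrArg (fun x : Subgroup.center ↥(T : Subgroup C) => (((x : ↥(T : Subgroup C)) : C) : G))
        ((hu v hv).trans (hu w hw).symm))
  suffices hPT : T' = P by rw [hPT]; exact P.not_dvd_index
  refine le_antisymm hP ?_
  by_contra hlt
  haveI := P.isPGroup'.isNilpotent
  set U := T'.subgroupOf P with hU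
  have hUne : U < ⊤ := lt_top_iff_ne_top.mpr fun e => hlt (Subgroup.subgroupOf_eq_top.mp e)
  obtain ⟨g, hg, hgU⟩ := SetLike.exists_of_lt ((normalizerCondition_of_isNilpotent (G := P)) U hUne)
  have hzT' : z ∈ T' := ⟨⟨z, hzC⟩, hzT, rfl⟩
  have hconj : ∀ t ∈ T', (g : G) * t * (g : G)⁻¹ ∈ T' := fun t ht =>
    (Subgroup.mem_normalizer_iff.mp hg ⟨t, hP ht⟩).mp ht
  have hconj' : ∀ t ∈ T', (g : G)⁻¹ * t * (g : G) ∈ T' := fun t ht => by
    have := (Subgroup.mem_normalizer_iff.mp (inv_mem hg) ⟨t, hP ht⟩).mp ht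
    rw [inv_inv] at this
    exact this
  have hgz : (g : G) * z = z * g := by
    rcases hzz _ (hconj z hzT') (fun t ht => by
      have hz' : z * ((g : G)⁻¹ * t * g) = ((g : G)⁻¹ * t * g) * z := by
        obtain ⟨c, -, e⟩ := hconj' t ht
        rw [← e]
        exact (Subgroup.mem_centralizer_singleton_iff.mp c.2).symm
      have := congrArg (fun y => (g : G) * y * (g : G)⁻¹) hz'
      simpa [mul_assoc] using this) with e | e
    · rw [conj_eq_one_iff] at e
      rw [e, orderOf_one] at hz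
      exact absurd hz (by norm_num)
    · exact mul_inv_eq_iff_eq_mul.mp e
  refine hgU ?_
  have hgC : (g : G) ∈ C := Subgroup.mem_centralizer_singleton_iff.mpr hgz
  have hle : (T : Subgroup C) ≤ (P : Subgroup G).subgroupOf C := fun t ht => hP ⟨t, ht, rfl⟩
  have heq : (P : Subgroup G).subgroupOf C = T := T.is_maximal' (P.isPGroup'.comap_subtype) hle
  exact ⟨⟨g, hgC⟩, heq.le (show (⟨(g : G), hgC⟩ : C) ∈ (P : Subgroup G).subgroupOf C from g.2), rfl⟩

/-- If an involution z of a finite group has centraliser isomorphic to the centraliser of a transvection in SL(5,2), then every Sylow 2-subgroup of the centraliser of z is a Sylow 2-subgroup of the whole group. -/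
theorem result {G : Type*} [Group G] [Finite G] (s : Matrix.SpecialLinearGroup (Fin 5) (ZMod 2)) (hs : (s : Matrix (Fin 5) (Fin 5) (ZMod 2)) = Matrix.transvection 0 1 1) (z : G) (hz : orderOf z = 2) (e : (Subgroup.centralizer ({z} : Set G)) ≃* Subgroup.centralizer ({s} : Set (Matrix.SpecialLinearGroup (Fin 5) (ZMod 2)))) (T : Sylow 2 (Subgroup.centralizer ({z} : Set G))) : ¬ 2 ∣ ((T : Subgroup (Subgroup.centralizer ({z} : Set G))).map (Subgroup.subtype (Subgroup.centralizer ({z} : Set G)))).index := by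
  haveI : Fact (Nat.Prime 2) := ⟨Nat.prime_two⟩
  refine sylow_of_center_two hz rfl T ?_
  let SL5 := Matrix.SpecialLinearGroup (Fin 5) (ZMod 2)
  set w : SL5 := CfsgLib.PSLn.xx (0 : Fin 5) 4 (by decide) 1 with hw
  obtain ⟨a, ε, ha⟩ := CfsgLib.PSLn.exists_conj_root (F := ZMod 2) (show (0 : Fin 5) ≠ 4 by decide) (show (0 : Fin 5) ≠ 1 by decide)
  have hsx : s = CfsgLib.PSLn.xx (0 : Fin 5) 1 (by decide) 1 := Subtype.ext (by rw [hs, CfsgLib.PSLn.coe_xx]; rfl)
  have hsw : s = MulAut.conj a w := by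
    have hc : ∀ c : ZMod 2, c = 0 ∨ c = 1 := zmod2_cases
    rw [hsx, ha 1, mul_one, MulAut.conj_apply, hw]
    rcases hc ε with h | h <;> rw [h]
    exfalso
    have := congrArg (fun A : SL5 => A.1 0 1) (ha 1)
    rw [h, zero_mul, show CfsgLib.PSLn.xx (0 : Fin 5) 4 (by decide) (0 : ZMod 2) = 1 from Subtype.ext (by
      rw [CfsgLib.PSLn.coe_xx]; simp), mul_one, mul_inv_cancel] at this
    simp [CfsgLib.PSLn.coe_xx] at this
  set U := CfsgLib.PSLn.upper (ZMod 2) 5 with hU
  set U' := U.map (MulAut.conj a).toMonoidHom with hU'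
  set C := Subgroup.centralizer ({s} : Set SL5) with hC
  have hU'C : U' ≤ C := by
    rintro _ ⟨A, hA, rfl⟩
    refine Subgroup.mem_centralizer_singleton_iff.mpr ?_
    rw [hsw]
    show MulAut.conj a A * MulAut.conj a w = MulAut.conj a w * MulAut.conj a A
    rw [← map_mul, ← map_mul, hw, CfsgLib.PSLn.long_root_commute (by decide) (by decide) (by decide) hA 1]
  have hidx : ¬ 2 ∣ (U'.subgroupOf C).index := by
    intro h
    refine index_upper_odd ?_
    rw [← hU, ← Subgroup.index_map_equiv U (MulAut.conj a)]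
    exact h.trans (Subgroup.relIndex_dvd_index_of_le hU'C)
  have hp : IsPGroup 2 (U'.subgroupOf C) := by
    refine IsPGroup.of_equiv ?_ (Subgroup.subgroupOfEquivOfLe hU'C).symm
    exact (IsPGroup.of_card (n := 10) (by rw [hU, CfsgLib.PSLn.card_upper]; simp [Fin.prod_univ_five])).map _
  let eU : ↥U ≃* ↥(U'.subgroupOf C) :=
    (U.equivMapOfInjective (MulAut.conj a).toMonoidHom (MulAut.conj a).injective).trans
      (Subgroup.subgroupOfEquivOfLe hU'C).symm
  have hcU : Nat.card (Subgroup.center ↥(U'.subgroupOf C)) = 2 :=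
    (Nat.card_congr (Subgroup.centerCongr eU).toEquiv).symm.trans center_upper_card
  have T₀ : ↥((T.mapSurjective (f := e.toMonoidHom) e.surjective : Sylow 2 C) : Subgroup C) ≃* ↥(U'.subgroupOf C) :=
    (Sylow.equiv _ (hp.toSylow hidx)).trans (MulEquiv.refl _)
  have e1 : ↥(T : Subgroup (Subgroup.centralizer ({z} : Set G))) ≃* ↥(U'.subgroupOf C) :=
    (((T : Subgroup _).equivMapOfInjective e.toMonoidHom e.injective).trans
      (MulEquiv.subgroupCongr (Sylow.coe_mapSurjective (f := e.toMonoidHom) e.surjective T).symm)).trans T₀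
  rw [Nat.card_congr (Subgroup.centerCongr e1).toEquiv]
  exact hcU

end Cfsg.Agent.S1717
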