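import Cfsg.Statements.S1722
import Cfsg.Agent.Lib.HallJankoType.Five

set_option autoImplicit false
open Cfsg CfsgLib.HallJankoType

namespace Cfsg.Agent.S1722

/-- Sylow 5-structure of a group of Hall–Janko type (large-extraspecial hypothesis with Q of order 32, quotient Ω⁻(4, 2), z not weakly closed in Q, more than one class of involutions): a Sylow 5-subgroup P is its own centraliser, has order 25, its normaliser has order 300, and the subgroups of order 5 fall into exactly two conjugacy classes. -/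
theorem result {G : Type*} [Group G] [Finite G] (z : G) (hz : orderOf z = 2) (Q : Subgroup (Subgroup.centralizer ({z} : Set G))) [Q.Normal] (hF : Cfsg.generalizedFittingSubgroup (Subgroup.centralizer ({z} : Set G)) = Q) (hQ : Cfsg.IsExtraspecial 2 Q) (hcard : Nat.card Q = 2 ^ 5) (e : (Subgroup.centralizer ({z} : Set G)) ⧸ Q ≃* Cfsg.Omega (ZMod 2) (Cfsg.quadFormMinus 1 (ZMod 2) 1 1)) (hnwc : ∃ g : G, (∃ hq : g * z * g⁻¹ ∈ Subgroup.centralizer ({z} : Set G), (⟨g * z * g⁻¹, hq⟩ : Subgroup.centralizer ({z} : Set G)) ∈ Q) ∧ g * z * g⁻¹ ≠ z) (hcl : ∃ x y : G, orderOf x = 2 ∧ orderOf y = 2 ∧ ¬ IsConj x y) (P : Sylow 5 G) : Subgroup.centralizer ((P : Subgroup G) : Set G) = P ∧ Nat.card P = 25 ∧ Nat.card (Subgroup.normalizer ((P : Subgroup G) : Set G)) = 300 ∧ ∃ X Y : Subgroup G, Nat.card X = 5 ∧ Nat.card Y = 5 ∧ (∀ g : G, X.map (MulAut.conj g).toMonoidHom ≠ Y) ∧ ∀ W : Subgroup G, Nat.card W = 5 → ∃ g : G, W.map (MulAut.conj g).toMonoidHom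 = X ∨ W.map (MulAut.conj g).toMonoidHom = Y := by
  obtain ⟨pm, h⟩ := exists_HJ z hz Q hF hQ hcard e hnwc hcl
  obtain ⟨x, t, t', d, Q', pm', D⟩ := exists_cyc h
  obtain ⟨M, S⟩ := D.exists_sub
  refine ⟨S.cent_sylow_five P, S.card_sylow_five P, S.norm_sylow_five P, ?_⟩
  obtain ⟨fA, fB, -, hoA, -, hoB, -, hsep, hall⟩ := S.exists_five_data
  have hcA : Nat.card (Subgroup.zpowers fA) = 5 := (Nat.card_zpowers fA).trans hoA
  have hcB : Nat.card (Subgroup.zpowers fB) = 5 := (Nat.card_zpowers fB).trans hoB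
  refine ⟨Subgroup.zpowers fB, Subgroup.zpowers fA, hcB, hcA, fun g e' => hsep g ?_, fun W hW => ?_⟩
  · rw [← e']
    exact ⟨fB, Subgroup.mem_zpowers fB, rfl⟩
  haveI : Fact (Nat.Prime 5) := ⟨by norm_num⟩
  obtain ⟨⟨w, hwW⟩, hw⟩ := exists_prime_orderOf_dvd_card' (G := ↥W) 5 (by rw [hW])
  rw [Subgroup.orderOf_mk] at hw
  have hWw : W = Subgroup.zpowers w :=
    (Subgroup.eq_of_le_of_card_ge (Subgroup.zpowers_le.mpr hwW)
      (by rw [hW, Nat.card_zpowers, hw])).symm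
  have key : ∀ (g f : G), g * w * g⁻¹ ∈ Subgroup.zpowers f → orderOf f = 5 →
      W.map (MulAut.conj g).toMonoidHom = Subgroup.zpowers f := fun g f hm hf => by
    rw [hWw, MonoidHom.map_zpowers]
    exact (zpowers_eq_of_mem hf hm fun e'' => by
      rw [conj_eq_one_iff.mp e'', orderOf_one] at hw; omega).1
  obtain ⟨g, hg | hg⟩ := hall w hw
  · exact ⟨g, Or.inr (key g fA hg hoA)⟩
  · exact ⟨g, Or.inl (key g fB hg hoB)⟩

end Cfsg.Agent.S1722
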