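import Cfsg.Statements.S1723
import Cfsg.Agent.Lib.HallJankoType.ThreeNorm

set_option autoImplicit false
open Cfsg CfsgLib.HallJankoType

namespace Cfsg.Agent.S1723

/-- Sylow 3-structure of a group of Hall–Janko type (large-extraspecial hypothesis with Q of order 32, quotient Ω⁻(4, 2), z not weakly closed in Q, more than one class of involutions): a Sylow 3-subgroup P is extraspecial of order 27, its normaliser has order 216, and the elements of order 3 form exactly two conjugacy classes. -/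
theorem result {G : Type*} [Group G] [Finite G] (z : G) (hz : orderOf z = 2) (Q : Subgroup (Subgroup.centralizer ({z} : Set G))) [Q.Normal] (hF : Cfsg.generalizedFittingSubgroup (Subgroup.centralizer ({z} : Set G)) = Q) (hQ : Cfsg.IsExtraspecial 2 Q) (hcard : Nat.card Q = 2 ^ 5) (e : (Subgroup.centralizer ({z} : Set G)) ⧸ Q ≃* Cfsg.Omega (ZMod 2) (Cfsg.quadFormMinus 1 (ZMod 2) 1 1)) (hnwc : ∃ g : G, (∃ hq : g * z * g⁻¹ ∈ Subgroup.centralizer ({z} : Set G), (⟨g * z * g⁻¹, hq⟩ : Subgroup.centralizer ({z} : Set G)) ∈ Q) ∧ g * z * g⁻¹ ≠ z) (hcl : ∃ x y : G, orderOf x = 2 ∧ orderOf y = 2 ∧ ¬ IsConj x y) (P : Sylow 3 G) : Cfsg.IsExtraspecial 3 (P : Subgroup G) ∧ Nat.card P = 27 ∧ Nat.card (Subgroup.normalizer ((P : Subgroup G) : Set G)) = 216 ∧ ∃ a b : G, orderOf a = 3 ∧ orderOf b = 3 ∧ ¬ IsConj a b ∧ ∀ c : G, orderOf c = 3 → IsConj c a ∨ IsConj c b := by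
  obtain ⟨pm, h⟩ := exists_HJ z hz Q hF hQ hcard e hnwc hcl
  obtain ⟨x, t, t', d, Q', pm', D⟩ := exists_cyc h
  obtain ⟨M, S⟩ := D.exists_sub
  refine ⟨S.sylow_three_extraspecial P, S.card_sylow_three P, S.norm_sylow_three P, ?_⟩
  obtain ⟨c, ho, -, hcM, -⟩ := S.exists_c0
  refine ⟨c, d, ho, D.hd, fun hcd => ?_, fun v hv => ?_⟩
  · obtain ⟨g, hg⟩ := isConj_iff.mp hcd
    refine S.three_sep ho hcM g⁻¹ ?_
    rw [← hg, show g⁻¹ * (g * c * g⁻¹) * g⁻¹⁻¹ = c by group]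
    exact Subgroup.mem_zpowers c
  have key : ∀ (g a : G), orderOf a = 3 → g * v * g⁻¹ ∈ Subgroup.zpowers a → (∃ n : G, n * a * n⁻¹ = a⁻¹) →
      IsConj v a := fun g a ha hm hinv => by
    obtain ⟨i, hi⟩ := Subgroup.mem_zpowers_iff.mp hm
    rw [← zpow_mod_orderOf, ha] at hi
    have hv1 : g * v * g⁻¹ ≠ 1 := fun e' => by rw [conj_eq_one_iff.mp e', orderOf_one] at hv; omega
    rcases (show i % 3 = 0 ∨ i % 3 = 1 ∨ i % 3 = 2 by omega) with e' | e' | e'
    · simp only [Nat.cast_ofNat, e', zpow_zero] at hi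
      exact absurd hi.symm hv1
    · simp only [Nat.cast_ofNat, e', zpow_one] at hi
      exact isConj_iff.mpr ⟨g, hi.symm⟩
    · simp only [Nat.cast_ofNat, e'] at hi
      have h3 : a ^ 3 = 1 := ha ▸ pow_orderOf_eq_one a
      have h2 : a ^ (2 : ℤ) = a⁻¹ := by
        rw [show (2 : ℤ) = ((2 : ℕ) : ℤ) from rfl, zpow_natCast]
        exact eq_inv_of_mul_eq_one_left (by rw [← pow_succ, h3])
      obtain ⟨n, hn⟩ := hinv
      exact (isConj_iff.mpr ⟨g, hi.symm.trans h2⟩).trans (IsConj.symm (isConj_iff.mpr ⟨n, hn⟩))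
  obtain ⟨g, hg | hg⟩ := S.three_classes ho hcM hv
  · exact Or.inl (key g c ho hg (S.three_invert ho hcM))
  · refine Or.inr (key g d D.hd hg ?_)
    obtain ⟨n, -, -, hn⟩ := S.inverter S.dM (fun e' => by
      have := D.hd
      rw [e', orderOf_one] at this
      omega) (Or.inl D.d3)
    exact ⟨n, hn⟩

end Cfsg.Agent.S1723
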