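import Cfsg.Statements.S1724
import Cfsg.Agent.Lib.HallJankoType.Seven

set_option autoImplicit false
open Cfsg CfsgLib.HallJankoType

namespace Cfsg.Agent.S1724

/-- In a group of Hall–Janko type (large-extraspecial hypothesis with Q of order 32, quotient Ω⁻(4, 2), z not weakly closed in Q, more than one class of involutions), a Sylow 7-subgroup is its own centraliser and its normaliser is non-abelian of order 42. -/
theorem result {G : Type*} [Group G] [Finite G] (z : G) (hz : orderOf z = 2) (Q : Subgroup (Subgroup.centralizer ({z} : Set G))) [Q.Normal] (hF : Cfsg.generalizedFittingSubgroup (Subgroup.centralizer ({z} : Set G)) = Q) (hQ : Cfsg.IsExtraspecial 2 Q) (hcard : Nat.card Q = 2 ^ 5) (e : (Subgroup.centralizer ({z} : Set G)) ⧸ Q ≃* Cfsg.Omega (ZMod 2) (Cfsg.quadFormMinus 1 (ZMod 2) 1 1)) (hnwc : ∃ g : G, (∃ hq : g * z * g⁻¹ ∈ Subgroup.centralizer ({z} : Set G), (⟨g * z * g⁻¹, hq⟩ : Subgroup.centralizer ({z} : Set G)) ∈ Q) ∧ g * z * g⁻¹ ≠ z) (hcl :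 ∃ x y : G, orderOf x = 2 ∧ orderOf y = 2 ∧ ¬ IsConj x y) (D : Sylow 7 G) : Subgroup.centralizer ((D : Subgroup G) : Set G) = D ∧ Nat.card (Subgroup.normalizer ((D : Subgroup G) : Set G)) = 42 ∧ ¬ IsMulCommutative (Subgroup.normalizer ((D : Subgroup G) : Set G)) := by
  obtain ⟨pm, h⟩ := exists_HJ z hz Q hF hQ hcard e hnwc hcl
  obtain ⟨x, t, t', d, Q', pm', C⟩ := exists_cyc h
  obtain ⟨M, S⟩ := C.exists_sub
  obtain ⟨h1, h2⟩ := S.seven_data D
  refine ⟨h1, h2, fun hc => ?_⟩
  have hle : Subgroup.normalizer ((D : Subgroup G) : Set G) ≤ (D : Subgroup G) := by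
    intro n hn
    rw [← h1]
    refine Subgroup.mem_centralizer_iff.mpr fun a ha => ?_
    exact congrArg Subtype.val (hc.is_comm.comm ⟨a, Subgroup.le_normalizer ha⟩ ⟨n, hn⟩)
  have := Subgroup.card_le_of_le hle
  rw [S.card_sylow_seven] at this
  change _ ≤ 7 at this
  replace this := h2.symm.trans_le this
  omega

end Cfsg.Agent.S1724
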