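import Cfsg.Statements.S1725
import Cfsg.Agent.Lib.SuzThreeFive.Main
import Cfsg.Agent.S5380
import Cfsg.Agent.Lib.U43Mult.Group
-- import your own Cfsg.Agent.* helpers here

set_option autoImplicit false
open Cfsg

namespace Cfsg.Agent.S1725

/-- A 3-local step in the uniqueness proof for the sporadic Suzuki group: let G satisfy the large-extraspecial hypothesis with Q of order 2 ^ 7, quotient Ω⁻(6, 2) and z not weakly closed in Q, and let X be a subgroup of order 3 of the centraliser C of z with the commutator subgroup of Q and X of order 8 and non-abelian (a quaternion group). Then for any Sylow 3-subgroup P of the normaliser of X in G, P is a Sylow 3-subgroup of G (its index in G is prime to 3), and P contains an elementary abelian subgroup A of order 3 ^ 5 with C_G(A) = A and N_G(A) / A isomorphic to the Mathieu group M₁₁. -/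
theorem result {G : Type*} [Group G] [Finite G] (z : G) (hz : orderOf z = 2) (Q : Subgroup (Subgroup.centralizer ({z} : Set G))) [Q.Normal] (hF : Cfsg.generalizedFittingSubgroup (Subgroup.centralizer ({z} : Set G)) = Q) (hQ : Cfsg.IsExtraspecial 2 Q) (hcard : Nat.card Q = 2 ^ 7) (e : (Subgroup.centralizer ({z} : Set G)) ⧸ Q ≃* Cfsg.Omega (ZMod 2) (Cfsg.quadFormMinus 2 (ZMod 2) 1 1)) (hnwc : ∃ g : G, (∃ hq : g * z * g⁻¹ ∈ Subgroup.centralizer ({z} : Set G), (⟨g * z * g⁻¹, hq⟩ : Subgroup.centralizer ({z} : Set G)) ∈ Q) ∧ g * z * g⁻¹ ≠ z) (X : Subgroup (Subgroup.centralizer ({z} : Set G))) (hX : Nat.card X = 3) (hQX : Nat.card ↥⁅Q, X⁆ = 8) (hQXna : ¬ IsMulCommutative ↥⁅Q, X⁆) (P : Sylow 3 ↥(Subgroup.normalizer ((X.map (Subgroup.subtype (Subgroup.centralizer ({z} : Set G))) : Subgroup G) : Set G))) : ¬ 3 ∣ (((P : Subgroup ↥(Subgroup.normalizer ((X.map (Subgroup.subtype (Subgroup.centralizer ({z} : Set G))) : Subgroup G) : Set G))).map (Subgroup.subtype (Subgroup.normalizer ((X.map (Subgroup.subtype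 (Subgroup.centralizer ({z} : Set G))) : Subgroup G) : Set G)))).index) ∧ ∃ A : Subgroup G, A ≤ (P : Subgroup ↥(Subgroup.normalizer ((X.map (Subgroup.subtype (Subgroup.centralizer ({z} : Set G))) : Subgroup G) : Set G))).map (Subgroup.subtype (Subgroup.normalizer ((X.map (Subgroup.subtype (Subgroup.centralizer ({z} : Set G))) : Subgroup G) : Set G))) ∧ Cfsg.IsElementaryAbelian 3 A ∧ Nat.card A = 3 ^ 5 ∧ Subgroup.centralizer (A : Set G) = A ∧ ∃ _ : (A.subgroupOf (Subgroup.normalizer (A : Set G))).Normal, Cfsg.Spor.IsoM11 (↥(Subgroup.normalizer (A : Set G)) ⧸ A.subgroupOf (Subgroup.normalizer (A : Set G))) := by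
  haveI : Fact (Nat.Prime 3) := ⟨Nat.prime_three⟩
  obtain ⟨π, M, h⟩ := CfsgLib.SuzType.exists_ST z hz Q hF hQ hcard e hnwc
  obtain ⟨x, t, w, r, π₁, M₁, S⟩ := h.exists_setting
  obtain ⟨i⟩ := S.exists_iso
  have hN : Nat.card (Subgroup.normalizer ((X.map (Subgroup.subtype (Subgroup.centralizer ({z} : Set G))) : Subgroup G) : Set G)) = 19595520 := by
    clear P
    set Y := X.map (Subgroup.subtype (Subgroup.centralizer ({z} : Set G))) with hY
    haveI : (Y.subgroupOf (Subgroup.centralizer (Y : Set G))).Normal := by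
      refine ⟨fun y hy c => ?_⟩
      rw [Subgroup.mem_subgroupOf] at hy ⊢
      have hc : (y : G) * (c : G) = (c : G) * (y : G) := Subgroup.mem_centralizer_iff.mp c.2 _ hy
      rwa [Subgroup.coe_mul, Subgroup.coe_mul, Subgroup.coe_inv, ← hc, mul_inv_cancel_right]
    haveI := Fintype.ofFinite (GaloisField 3 2)
    have h9 : Fintype.card (GaloisField 3 2) = 9 := by
      rw [← Nat.card_eq_fintype_card, GaloisField.card 3 2 (by norm_num)]; norm_num
    obtain ⟨-, ⟨ψ⟩, hrel⟩ :=
      Cfsg.Agent.S5380.result z hz Q hF hQ hcard e hnwc X hX hQX hQXna (GaloisField 3 2) h9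
    have hYc : Nat.card Y = 3 := by rw [hY, Subgroup.card_map_of_injective (Subgroup.subtype_injective _), hX]
    have hYle : Y ≤ Subgroup.centralizer (Y : Set G) := by
      haveI : IsCyclic Y := isCyclic_of_prime_card hYc
      intro y hy
      refine Subgroup.mem_centralizer_iff.mpr fun a ha => ?_
      exact congrArg Subtype.val (IsMulCommutative.is_comm.comm (⟨a, ha⟩ : Y) ⟨y, hy⟩)
    have hC : Nat.card (Subgroup.centralizer (Y : Set G)) = 3265920 * 3 := by
      rw [Subgroup.card_eq_card_quotient_mul_card_subgroup (Y.subgroupOf (Subgroup.centralizer (Y : Set G))),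
        Nat.card_congr (Subgroup.subgroupOfEquivOfLe hYle).toEquiv, hYc, Nat.card_congr ψ.toEquiv,
        CfsgLib.U43Mult.psu_card h9]
    have hle : Subgroup.centralizer (Y : Set G) ≤ Subgroup.normalizer (Y : Set G) :=
      Subgroup.centralizer_le_normalizer _
    rw [← ((Subgroup.centralizer (Y : Set G)).subgroupOf (Subgroup.normalizer (Y : Set G))).card_mul_index,
      ← Subgroup.relIndex, hrel, Nat.card_congr (Subgroup.subgroupOfEquivOfLe hle).toEquiv, hC]
  exact CfsgLib.SuzThreeFive.result i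
    (fun j hjj hj s hjs hs => CfsgLib.SuzThreeFive.invol_eleven S.base S.st hjj hj hjs hs) _ hN P

end Cfsg.Agent.S1725
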