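import Cfsg.Statements.S1733
import Cfsg.Agent.S1678
import Cfsg.Agent.Lib.ZStar.Main
import Cfsg.Agent.Lib.StdCo3.Group
import Cfsg.Agent.Lib.StdCo3.Cover

set_option autoImplicit false
open Cfsg

namespace Cfsg.Agent.S1733

open Subgroup CfsgLib.StdCo3
open scoped commutatorElement
open CfsgLib.Co3Recog.X (Grp z)

/-- Let G be a non-abelian finite simple group which is locally balanced (the centralizer of every involution has no nontrivial normal subgroup of odd order) and has the strong B-property (every section of G has the B-property), and let L be a standard subgroup of G whose centre has order 2 with quotient isomorphic to the symplectic group of dimension 6 over the field with 2 elements. Then G is isomorphic to the third Conway group. -/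
theorem result {G : Type*} [Group G] [Finite G] [IsSimpleGroup G] (hG : ¬ IsMulCommutative G)
    (hbal : ∀ t : G, orderOf t = 2 → Cfsg.centralizerPPrimeCore 2 t = ⊥) (hB : Cfsg.HasStrongBProperty G)
    (L : Subgroup G) (hL : Cfsg.IsStandardSubgroup L)
    {F : Type*} [Field F] [Fintype F] (hF : Fintype.card F = 2) (hLX : (Nat.card ↥(Subgroup.center ↥L) = 2 ∧ Nonempty (↥L ⧸ Subgroup.center ↥L ≃* Cfsg.PSp 3 F))) :
    Cfsg.Spor.IsoCo3 G := by
  classical
  haveI : Fact (Nat.Prime 2) := ⟨Nat.prime_two⟩
  obtain ⟨⟨hperf, -⟩, ⟨-, htight⟩, -, hnorm⟩ := hL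
  obtain ⟨hZ, ⟨q⟩⟩ := hLX
  obtain ⟨ep⟩ := Cover.psp_equiv hF
  obtain ⟨ep2⟩ := Cover.psp_equiv (F := ZMod 2) (ZMod.card 2)
  obtain ⟨f, hfz⟩ := Cover.exists_iso hperf.commutator_eq_top hZ (q.trans ep)
  let ψ : Grp →* G := L.subtype.comp f.toMonoidHom
  have hinj : Function.Injective ψ := (subtype_injective L).comp f.injective
  have hr : ψ.range = L := by
    rw [MonoidHom.range_comp, MonoidHom.range_eq_top.mpr f.surjective, ← MonoidHom.range_eq_map, range_subtype]
  set zz := ψ z with hzz
  have hz2 : zz * zz = 1 := by rw [hzz, ← map_mul, CfsgLib.Co3Recog.X.basic.2.1, map_one]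
  have hz1 : zz ≠ 1 := fun e => CfsgLib.Co3Recog.X.basic.1 (hinj (e.trans (map_one ψ).symm))
  have hord : orderOf zz = 2 := orderOf_eq_prime (by rw [pow_two, hz2]) hz1
  -- the centre of the component
  have hzL : zz ∈ L := (f z).2
  have hzc : ∀ a ∈ L, Commute a zz := fun a ha =>
    congrArg Subtype.val (mem_center_iff.mp hfz ⟨a, ha⟩)
  have hzK : zz ∈ centralizer (L : Set G) := mem_centralizer_iff.mpr fun a ha => (hzc a ha).eq
  have hzuniq : ∀ y ∈ L, (∀ a ∈ L, Commute a y) → y ≠ 1 → y = zz := fun y hy hyc hy1 => by
    have hyC : (⟨y, hy⟩ : L) ∈ center L := mem_center_iff.mpr fun a => Subtype.ext (hyc a a.2).eq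
    obtain ⟨v, hv⟩ := f.surjective ⟨y, hy⟩
    have hvc : ∀ w, Commute v w := fun w => f.injective (by
      rw [map_mul, map_mul, hv]; exact (mem_center_iff.mp hyC (f w)).symm)
    rcases center_grp hvc with e | e
    · refine absurd ?_ hy1
      rw [e, map_one] at hv
      exact (congrArg Subtype.val hv).symm
    · rw [hzz, ← e]
      exact (congrArg Subtype.val hv).symm
  -- normaliser and centraliser
  have hNz : ∀ n : G, n ∈ normalizer (L : Set G) → Commute n zz := fun n hn => by
    have hy : n * zz * n⁻¹ ∈ L := (mem_normalizer_iff.mp hn zz).mp hzL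
    have := hzuniq _ hy (fun a ha => by
      have ha' : n⁻¹ * a * n ∈ L := by
        rw [mem_normalizer_iff.mp hn, show n * (n⁻¹ * a * n) * n⁻¹ = a by group]
        exact ha
      have h := (hzc _ ha').map (MulAut.conj n).toMonoidHom
      show Commute a (n * zz * n⁻¹)
      simpa [MulAut.conj_apply, mul_assoc] using h) (fun e => hz1 (conj_eq_one_iff.mp e))
    exact mul_inv_eq_iff_eq_mul.mp this
  have hNK : ∀ n : G, Commute n zz → n ∈ normalizer ((centralizer (L : Set G) : Subgroup G) : Set G) := fun n hn => by
    by_contra h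
    have h2 := htight n h
    have hmem : zz ∈ centralizer (L : Set G) ⊓ (centralizer (L : Set G)).map (MulAut.conj n).toMonoidHom :=
      ⟨hzK, zz, hzK, by show n * zz * n⁻¹ = zz; rw [hn.eq, mul_inv_cancel_right]⟩
    have h3 : 2 ∣ Nat.card ↥(centralizer (L : Set G) ⊓ (centralizer (L : Set G)).map (MulAut.conj n).toMonoidHom) := by
      have e : orderOf (⟨zz, hmem⟩ : ↥(centralizer (L : Set G) ⊓
          (centralizer (L : Set G)).map (MulAut.conj n).toMonoidHom)) = 2 :=
        (Subgroup.orderOf_mk zz hmem).trans hord
      exact e ▸ orderOf_dvd_natCard _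
    exact (Nat.not_even_iff_odd.mpr h2) (even_iff_two_dvd.mpr h3)
  let D : Cfg G :=
    { ψ := ψ
      inj := hinj
      core := hbal zz hord
      tight := fun g hg => by
        rw [hr]
        exact htight g fun h => hg (hNz g (hnorm ▸ h))
      norm := fun n hn k hk => by
        rw [hr] at hk ⊢
        exact (mem_normalizer_iff.mp (hNK n hn) k).mp hk
      dec := fun n hn => by
        have hnL : n ∈ normalizer (L : Set G) := hnorm ▸ hNK n hn
        let α : MulAut L :=
          { toFun := fun a => ⟨n * a * n⁻¹, (mem_normalizer_iff.mp hnL _).mp a.2⟩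
            invFun := fun a => ⟨n⁻¹ * a * n, by
              rw [mem_normalizer_iff.mp hnL, show n * (n⁻¹ * (a : G) * n) * n⁻¹ = a by group]
              exact a.2⟩
            left_inv := fun a => Subtype.ext (by show n⁻¹ * (n * a * n⁻¹) * n = a; group)
            right_inv := fun a => Subtype.ext (by show n * (n⁻¹ * a * n) * n⁻¹ = a; group)
            map_mul' := fun a b => Subtype.ext (by
              show n * (a * b) * n⁻¹ = n * a * n⁻¹ * (n * b * n⁻¹); group) }
        have hα : (center L).map α.toMonoidHom = center L := by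
          exact Subgroup.characteristic_iff_map_eq.mp inferInstance α
        let β : MulAut (L ⧸ center L) := QuotientGroup.congr (center L) (center L) α hα
        obtain ⟨c, hc⟩ := Cover.aut_inner ((q.trans ep).trans ep2.symm) β
        obtain ⟨c, rfl⟩ := QuotientGroup.mk_surjective c
        -- the two automorphisms differ by a central map of a perfect group
        have hmod : ∀ a : L, (c * a * c⁻¹)⁻¹ * α a ∈ center L := fun a => by
          rw [← QuotientGroup.eq]
          exact (hc (QuotientGroup.mk a)).symm
        let δ : L →* center L :=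
          { toFun := fun a => ⟨_, hmod a⟩
            map_one' := Subtype.ext (by simp)
            map_mul' := fun a b => Subtype.ext (by
              have hzm : ∀ w, Commute w ((c * a * c⁻¹)⁻¹ * α a) := fun w => mem_center_iff.mp (hmod a) w
              show (c * (a * b) * c⁻¹)⁻¹ * α (a * b) = (c * a * c⁻¹)⁻¹ * α a * ((c * b * c⁻¹)⁻¹ * α b)
              rw [map_mul]
              calc (c * (a * b) * c⁻¹)⁻¹ * (α a * α b)
                  = (c * b * c⁻¹)⁻¹ * ((c * a * c⁻¹)⁻¹ * α a) * α b := by group
                _ = (c * a * c⁻¹)⁻¹ * α a * (c * b * c⁻¹)⁻¹ * α b := by rw [(hzm (c * b * c⁻¹)⁻¹).eq]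
                _ = _ := by group) }
        have hδ : ∀ a, δ a = 1 := fun a => by
          have hle : commutator L ≤ δ.ker := by
            rw [_root_.commutator_def, commutator_le]
            intro p _ q _
            rw [MonoidHom.mem_ker, map_commutatorElement, commutatorElement_eq_one_iff_commute]
            exact Subtype.ext (mem_center_iff.mp (δ q).2 (δ p : L))
          rw [hperf.commutator_eq_top] at hle
          exact hle (mem_top a)
        have hact : ∀ a : L, n * (a : G) * n⁻¹ = c * a * (c : G)⁻¹ := fun a => by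
          have h : (c * a * c⁻¹)⁻¹ * α a = 1 := congrArg Subtype.val (hδ a)
          rw [inv_mul_eq_one] at h
          exact (congrArg Subtype.val h).symm
        obtain ⟨l, hl⟩ := f.surjective c
        refine ⟨l, (ψ l)⁻¹ * n, ?_, by group⟩
        rw [hr, show ψ l = (c : G) from congrArg Subtype.val hl]
        refine mem_centralizer_iff.mpr fun a ha => ?_
        have h := hact ⟨a, ha⟩
        calc a * ((c : G)⁻¹ * n) = (c : G)⁻¹ * (c * a * (c : G)⁻¹) * n := by group
          _ = (c : G)⁻¹ * (n * a * n⁻¹) * n := by rw [h]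
          _ = (c : G)⁻¹ * n * a := by group }
  have hO : Cfsg.pPrimeCore 2 G = ⊥ := by
    rcases Subgroup.Normal.eq_bot_or_eq_top (H := Cfsg.pPrimeCore 2 G) inferInstance with h | h
    · exact h
    · have h2 := CfsgLib.card_pPrimeCore_coprime (G := G) 2
      rw [h, card_top] at h2
      exact absurd (hord ▸ orderOf_dvd_natCard zz) ((Nat.prime_two.coprime_iff_not_dvd).mp h2.symm)
  have hcen : center G = ⊥ :=
    (Subgroup.Normal.eq_bot_or_eq_top (H := center G) inferInstance).resolve_right fun h => hG (isMulCommutative_iff.mpr fun a b =>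
      (mem_center_iff.mp (h.symm ▸ mem_top a : a ∈ center G) b).symm)
  have hiso : ¬ Cfsg.IsIsolated zz := fun h => by
    have hcz : zz ∈ center G := mem_center_iff.mpr fun g => by
      have h1 := CfsgLib.ZStar.commutator_mem hord h g
      rw [hO, mem_bot, mul_inv_eq_one, mul_inv_eq_iff_eq_mul] at h1
      exact h1.symm
    rw [hcen, mem_bot] at hcz
    exact hz1 hcz
  have hK := D.K_le hiso
  have hC : centralizer ({zz} : Set G) = L := by
    refine le_antisymm (fun n hn => ?_) fun a ha => mem_centralizer_singleton_iff.mpr (hzc a ha).eq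
    obtain ⟨l, k, hk, rfl⟩ := D.dec n (mem_centralizer_singleton_iff.mp hn)
    refine mul_mem (f l).2 ?_
    rcases hK k hk with e | e <;> rw [e]
    · exact one_mem _
    · exact hzL
  have hodd : Cfsg.oddCore G = ⊥ := hO
  refine Cfsg.Agent.S1678.result hodd hcen zz hord ?_
  rw [hC]
  exact Cover.nonsplit hperf.commutator_eq_top hZ (q.trans ep)

end Cfsg.Agent.S1733
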