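import Cfsg.Statements.S1735
import Cfsg.Agent.Lib.StdFi22.Main
import Cfsg.Agent.Lib.StdFi22.Recog

set_option autoImplicit false
open Cfsg

namespace Cfsg.Agent.S1735

/-- Let G be a non-abelian finite simple group which is locally balanced (the centralizer of every involution has no nontrivial normal subgroup of odd order) and has the strong B-property (every section of G has the B-property), and let L be a standard subgroup of G whose centre has order 2 with quotient isomorphic to the Fischer group Fi22. Then G is isomorphic to the Fischer group Fi23 or the Fischer group Fi24'. -/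
theorem result {G : Type*} [Group G] [Finite G] [IsSimpleGroup G] (hG : ¬ IsMulCommutative G)
    (hbal : ∀ t : G, orderOf t = 2 → Cfsg.centralizerPPrimeCore 2 t = ⊥) (hB : Cfsg.HasStrongBProperty G)
    (L : Subgroup G) (hL : Cfsg.IsStandardSubgroup L)
    (hLX : (Nat.card ↥(Subgroup.center ↥L) = 2 ∧ Nonempty (↥L ⧸ Subgroup.center ↥L ≃* Cfsg.Spor.Fi22))) :
    Cfsg.Spor.IsoFi23 G ∨ Cfsg.Spor.IsoFi24' G := by
  obtain ⟨hZ, ⟨e⟩⟩ := hLX
  rcases CfsgLib.StdFi22.main hG hbal L hL hZ e with h | ⟨⟨M⟩⟩
  · exact Or.inl h
  · exact Or.inr (CfsgLib.StdFi22.recognise M)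

end Cfsg.Agent.S1735
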