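import Cfsg.Statements.S1743
import Cfsg.Agent.Lib.G2Sylow.Main
import Cfsg.Agent.Lib.G2Sylow.Fusion

set_option autoImplicit false
open Cfsg

namespace Cfsg.Agent.S1743

/-- A finite simple group whose Sylow 2-subgroups S are isomorphic to those of G₂(q), q odd, either has a single
conjugacy class of involutions, or S has order 64 and there are exactly two classes of involutions. -/
theorem result {G : Type*} [Group G] [Finite G] [IsSimpleGroup G]
    {F : Type*} [Field F] [Fintype F] (hF : Odd (Fintype.card F)) (S : Sylow 2 G) (P : Sylow 2 ↥(Cfsg.Lie.chevG2.group F))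
    (hS : Nonempty (↥(S : Subgroup G) ≃* ↥(P : Subgroup ↥(Cfsg.Lie.chevG2.group F)))) :
    (∀ x y : G, orderOf x = 2 → orderOf y = 2 → IsConj x y) ∨
      (Nat.card ↥(S : Subgroup G) = 64 ∧ ∃ x y : G, orderOf x = 2 ∧ orderOf y = 2 ∧ ¬ IsConj x y ∧
        ∀ z : G, orderOf z = 2 → IsConj z x ∨ IsConj z y) := by
  classical
  obtain ⟨n, h, hne, hm, he, h4, ⟨ε⟩⟩ := CfsgLib.G2Sylow.exists_model hF P
  obtain ⟨σ⟩ := hS
  let ι : CfsgLib.G2Sylow.W (2 ^ n) →* G := (S : Subgroup G).subtype.comp (ε.trans σ.symm).toMonoidHom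
  have hinj : Function.Injective ι := Subtype.val_injective.comp (ε.trans σ.symm).injective
  have hι : ι.range = (S : Subgroup G) := by
    ext x
    exact ⟨fun ⟨w, e⟩ => e ▸ ((ε.trans σ.symm) w).2,
      fun hx => ⟨(ε.trans σ.symm).symm ⟨x, hx⟩, by simp [ι]⟩⟩
  have two := CfsgLib.G2Sylow.two_classes hm he h4 S ι hinj hι
  by_cases hc : IsConj (ι CfsgLib.G2Sylow.swp) (ι (CfsgLib.G2Sylow.zc h))
  · left
    intro x y hx hy
    have one : ∀ z, orderOf z = 2 → IsConj z (ι (CfsgLib.G2Sylow.zc h)) := fun z hz =>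
      (two z hz).elim id fun h' => h'.trans hc
    exact (one x hx).trans (one y hy).symm
  · right
    have h8 : ¬ 8 ≤ 2 ^ n := fun h8 => hc (CfsgLib.G2Sylow.swp_conj hm he h4 S ι hinj hι h8)
    have h44 : 2 ^ n = 4 := by
      obtain ⟨k, hk⟩ := he
      omega
    refine ⟨?_, ι (CfsgLib.G2Sylow.zc h), ι CfsgLib.G2Sylow.swp, ?_, ?_, fun e => hc e.symm, two⟩
    · rw [← hι, ← Nat.card_congr (MonoidHom.ofInjective hinj).toEquiv, CfsgLib.G2Sylow.card_W, h44]
      norm_num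
    · rw [orderOf_injective ι hinj]
      refine orderOf_eq_prime ?_ ?_
      · rw [sq]; simp [CfsgLib.G2Sylow.mul_def, CfsgLib.G2Sylow.one_def, CfsgLib.G2Sylow.rot,
          CfsgLib.G2Sylow.sg, CfsgLib.G2Sylow.two_h hm]
      · simp [CfsgLib.G2Sylow.one_def, CfsgLib.G2Sylow.rot, CfsgLib.G2Sylow.h_ne hm]
    · rw [orderOf_injective ι hinj]
      exact orderOf_eq_prime (by rw [sq]; simp [CfsgLib.G2Sylow.mul_def, CfsgLib.G2Sylow.one_def,
        CfsgLib.G2Sylow.swp, CfsgLib.G2Sylow.sg]) (by simp [CfsgLib.G2Sylow.one_def, CfsgLib.G2Sylow.swp])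

end Cfsg.Agent.S1743
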