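import Cfsg.Statements.S1744
import Cfsg.Agent.Lib.G2Cent.CFusion
import Cfsg.Agent.Lib.G2Sylow.Main
import Cfsg.Agent.Lib.PSolvable

set_option autoImplicit false
set_option linter.style.haveILetI false
open Cfsg

namespace Cfsg.Agent.S1744

open CfsgLib.G2Sylow in
theorem aux {G : Type*} [Group G] [Finite G] {n h : ℕ} [NeZero (2 ^ n)] (hm : 2 ^ n = 2 * h) (he : Even h)
    (h4 : 4 ≤ 2 ^ n) (S : Sylow 2 G) (ι : W (2 ^ n) →* G) (hinj : Function.Injective ι)
    (hι : ι.range = (S : Subgroup G))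
    (h1 : ∀ x y : G, orderOf x = 2 → orderOf y = 2 → IsConj x y) (t : G) (ht : t = ι (zc h)) :
    Nonempty (Σ' k : ℕ, CfsgLib.G2Cent.Setup
      (↥(Subgroup.centralizer ({t} : Set G)) ⧸ Cfsg.oddCore ↥(Subgroup.centralizer ({t} : Set G))) (2 ^ n) h k) := by
  classical
  haveI : Fact (Nat.Prime 2) := ⟨Nat.prime_two⟩
  set C := Subgroup.centralizer ({t} : Set G)
  set O := Cfsg.oddCore ↥C
  have hSC : ∀ w, ι w ∈ C := fun w => Subgroup.mem_centralizer_singleton_iff.mpr (by
    rw [ht]; exact ((show Commute w (zc h) from zc_central hm w).map ι).eq)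
  let j : W (2 ^ n) →* ↥C := ι.codRestrict C hSC
  have hj : Function.Injective j := fun a b e => hinj (congrArg Subtype.val e)
  obtain ⟨k, hk⟩ : ∃ k, n = k + 2 := by
    refine ⟨n - 2, ?_⟩
    by_contra hn
    have : n ≤ 1 := by omega
    have := Nat.pow_le_pow_right (show 0 < 2 by norm_num) this
    omega
  have hk' : h = 2 ^ (k + 1) := by
    rw [hk, pow_succ] at hm
    omega
  refine ⟨⟨k, {
    hm := hm
    hk := hk'
    κ := (QuotientGroup.mk' O).comp j
    inj := ?_
    odd := ?_
    cz := ?_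
    core := CfsgLib.pPrimeCore_quotient_eq_bot 2
    fus := ?_ }⟩⟩
  · rw [injective_iff_map_eq_one]
    intro w hw
    have hwO : j w ∈ O := (QuotientGroup.eq_one_iff _).mp hw
    have h2 : orderOf w ∣ 2 ^ (2 + 2 * n) := by
      refine (orderOf_dvd_natCard w).trans (dvd_of_eq ?_)
      rw [card_W]; ring
    have h3 : orderOf w ∣ Nat.card O := by
      rw [← orderOf_injective j hj]
      exact Subgroup.orderOf_dvd_natCard O hwO
    exact orderOf_eq_one_iff.mp (Nat.eq_one_of_dvd_coprimes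
      ((Nat.coprime_two_left.mpr CfsgLib.odd_card_oddCore).pow_left _) h2 h3)
  · intro hd
    rw [MonoidHom.range_comp] at hd
    have hd' := hd.trans (Subgroup.index_map_dvd j.range (QuotientGroup.mk'_surjective O))
    have hS : (j.range.map C.subtype).index = (S : Subgroup G).index := by
      rw [MonoidHom.map_range, ← hι]
      rfl
    have h2 : j.range.index ∣ (S : Subgroup G).index := by
      rw [← hS, Subgroup.index_map_subtype]
      exact dvd_mul_right _ _
    exact S.not_dvd_index (hd'.trans h2)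
  · intro x
    obtain ⟨c, rfl⟩ := QuotientGroup.mk'_surjective O x
    refine Commute.map (show Commute c (j (zc h)) from Subtype.ext ?_) (QuotientGroup.mk' O)
    show (c : G) * ι (zc h) = ι (zc h) * c
    rw [← ht]
    exact Subgroup.mem_centralizer_singleton_iff.mp c.2
  · intro w hw hw2 hw1 hwz
    obtain ⟨g, hgz, hg, hgc⟩ := CfsgLib.G2Cent.fusion hm he h4 S ι hinj hι h1 hw hw2 hw1 hwz
    rw [← ht] at hgz
    let g' : ↥C := ⟨g, Subgroup.mem_centralizer_singleton_iff.mpr hgz.eq⟩
    refine ⟨QuotientGroup.mk' O g', ?_, fun v hv => ?_⟩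
    · show QuotientGroup.mk' O g' * QuotientGroup.mk' O (j w) * (QuotientGroup.mk' O g')⁻¹ = QuotientGroup.mk' O (j (uc h))
      rw [← map_inv, ← map_mul, ← map_mul]
      exact congrArg _ (Subtype.ext hg)
    · obtain ⟨r, hr⟩ := hgc v hv
      refine ⟨r, ?_⟩
      show QuotientGroup.mk' O (j r) = QuotientGroup.mk' O g' * QuotientGroup.mk' O (j v) * (QuotientGroup.mk' O g')⁻¹
      rw [← map_inv, ← map_mul, ← map_mul]
      exact congrArg _ (Subtype.ext hr)

/-- Let G be a finite simple group whose Sylow 2-subgroups are isomorphic to a Sylow 2-subgroup of the Chevalley group of type G₂ over a finite field of odd order, in which all involutions are conjugate. Let S be a Sylow 2-subgroup, t an involution in the centre of S, C its centralizer and Q the quotient of C by its largest normal subgroup of odd order. Then Q has normal subgroups L₁ and L₂, isomorphic to special linear groups of dimension 2 over fields of odd orders, which commute elementwise and whose product is the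 commutator subgroup of Q. -/
theorem result {G : Type*} [Group G] [Finite G] [IsSimpleGroup G]
    {F : Type*} [Field F] [Fintype F] (hF : Odd (Fintype.card F)) (S : Sylow 2 G) (P : Sylow 2 ↥(Cfsg.Lie.chevG2.group F))
    (hS : Nonempty (↥(S : Subgroup G) ≃* ↥(P : Subgroup ↥(Cfsg.Lie.chevG2.group F))))
    (h1 : ∀ x y : G, orderOf x = 2 → orderOf y = 2 → IsConj x y) (t : G) (ht : orderOf t = 2) (htS : t ∈ (S : Subgroup G))
    (htZ : ∀ s ∈ (S : Subgroup G), s * t = t * s) :
    ∃ L₁ L₂ : Subgroup (↥(Subgroup.centralizer ({t} : Set G)) ⧸ Cfsg.oddCore ↥(Subgroup.centralizer ({t} : Set G))),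
      L₁.Normal ∧ L₂.Normal ∧
      (∃ (F₁ : Type) (_ : Field F₁) (_ : Fintype F₁), Odd (Fintype.card F₁) ∧ Nonempty (↥L₁ ≃* Matrix.SpecialLinearGroup (Fin 2) F₁)) ∧
      (∃ (F₂ : Type) (_ : Field F₂) (_ : Fintype F₂), Odd (Fintype.card F₂) ∧ Nonempty (↥L₂ ≃* Matrix.SpecialLinearGroup (Fin 2) F₂)) ∧
      ⁅L₁, L₂⁆ = ⊥ ∧ L₁ ⊔ L₂ = commutator _ := by
  classical
  obtain ⟨n, h, hne, hm, he, h4, ⟨ε⟩⟩ := CfsgLib.G2Sylow.exists_model hF P
  obtain ⟨σ⟩ := hS
  let ι : CfsgLib.G2Sylow.W (2 ^ n) →* G := (S : Subgroup G).subtype.comp (ε.trans σ.symm).toMonoidHom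
  have hinj : Function.Injective ι := Subtype.val_injective.comp (ε.trans σ.symm).injective
  have hι : ι.range = (S : Subgroup G) := by
    ext x
    exact ⟨fun ⟨w, e⟩ => e ▸ ((ε.trans σ.symm) w).2,
      fun hx => ⟨(ε.trans σ.symm).symm ⟨x, hx⟩, by simp [ι]⟩⟩
  obtain ⟨w, hw⟩ : t ∈ ι.range := by rw [hι]; exact htS
  have hwo : orderOf w = 2 := by rw [← orderOf_injective ι hinj, hw, ht]
  have hwz : w = CfsgLib.G2Sylow.zc h := CfsgLib.G2Sylow.eq_zc hm h4 (by rw [← sq]; exact orderOf_dvd_iff_pow_eq_one.mp (dvd_of_eq hwo))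
    (fun e => by rw [e, orderOf_one] at hwo; omega) fun v => hinj (by
      rw [map_mul, map_mul, hw]
      exact htZ _ (hι ▸ ⟨v, rfl⟩))
  rw [hwz] at hw
  obtain ⟨k, D⟩ := (aux hm he h4 S ι hinj hι h1 t hw.symm).some
  exact D.result

end Cfsg.Agent.S1744
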