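import Cfsg.Statements.S1753

set_option autoImplicit false
set_option linter.unusedVariables false
universe u
open Cfsg
open scoped commutatorElement

namespace Cfsg.Agent.S1753

/-- Let K be any property of groups. (1) If G is a minimal counterexample relative to K — a finite non-abelian simple group not satisfying K such that every finite non-abelian simple group of smaller order satisfies K — then every proper subgroup of G is a K-group (all its non-abelian simple sections satisfy K), since such sections have smaller order than G. (2) Consequently (induction on the order), if every finite non-abelian simple group all of whose proper subgroups are K-groups satisfies K, then every finite non-abelian simple group satisfies K. -/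
theorem result (K : ∀ (X : Type u) [Group X], Prop) :
    (∀ (G : Type u) [Group G], Cfsg.IsMinCounterexampleWith K G → Cfsg.IsKProperWith K G) ∧
      ((∀ (X : Type u) [Group X] [Finite X], IsSimpleGroup X → ¬ IsMulCommutative X → Cfsg.IsKProperWith K X → K X) →
        ∀ (G : Type u) [Group G] [Finite G], IsSimpleGroup G → ¬ IsMulCommutative G → K G) := by
  have key : ∀ (G : Type u) [Group G] [Finite G],
      (∀ (X : Type u) [Group X] [Finite X], IsSimpleGroup X → ¬ IsMulCommutative X → Nat.card X < Nat.card G → K X) →
      Cfsg.IsKProperWith K G := by
    intro G _ _ hsm H hH M N _ hs hn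
    have h1 : Nat.card (M ⧸ N) < Nat.card G :=
      calc Nat.card (M ⧸ N) ≤ Nat.card M := Nat.card_le_card_of_surjective _ (QuotientGroup.mk'_surjective N)
        _ ≤ Nat.card H := Subgroup.card_le_card_group M
        _ < Nat.card G := lt_of_le_of_ne (Subgroup.card_le_card_group H)
            (fun e => hH (Subgroup.eq_top_of_card_eq H e))
    exact hsm (M ⧸ N) hs hn h1
  refine ⟨fun G _ h => ?_, fun hyp => ?_⟩
  · obtain ⟨hfin, -, -, -, hsm⟩ := h
    exact key G hsm
  · suffices ∀ n, ∀ (G : Type u) [Group G] [Finite G], Nat.card G = n → IsSimpleGroup G → ¬ IsMulCommutative G → K G from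
      fun G _ _ hs hn => this _ G rfl hs hn
    intro n
    induction n using Nat.strong_induction_on with
    | _ n ih =>
      intro G _ _ hG hs hn
      exact hyp G hs hn (key G fun X _ _ hXs hXn hlt => ih _ (hG ▸ hlt) X rfl hXs hXn)

end Cfsg.Agent.S1753
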