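import Cfsg.Statements.S1755
import Cfsg.Agent.Lib.Components
-- import your own Cfsg.Agent.* helpers here

set_option autoImplicit false
open Cfsg

namespace Cfsg.Agent.S1755

/-- Let G be a finite group and let z be an involution of G such that Q, the generalized Fitting subgroup of the centralizer C of z, is a 2-group of symplectic type (every characteristic abelian subgroup of Q is cyclic). Let B be a characteristic abelian subgroup of Q, viewed as a subgroup of G. Then for every g in G, the conjugate of B by g either equals B or meets B trivially. -/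
theorem result {G : Type*} [Group G] [Finite G] (z : G) (hz : orderOf z = 2) (hQ : Cfsg.IsOfSymplecticType ↥(Cfsg.generalizedFittingSubgroup ↥(Subgroup.centralizer ({z} : Set G))))
    (B : Subgroup ↥(Cfsg.generalizedFittingSubgroup ↥(Subgroup.centralizer ({z} : Set G)))) (hBc : B.Characteristic) (hBa : IsMulCommutative ↥B) (g : G) :
    ((B.map (Cfsg.generalizedFittingSubgroup ↥(Subgroup.centralizer ({z} : Set G))).subtype).map (Subgroup.centralizer ({z} : Set G)).subtype).map (MulAut.conj g).toMonoidHom =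
        (B.map (Cfsg.generalizedFittingSubgroup ↥(Subgroup.centralizer ({z} : Set G))).subtype).map (Subgroup.centralizer ({z} : Set G)).subtype ∨
      ((B.map (Cfsg.generalizedFittingSubgroup ↥(Subgroup.centralizer ({z} : Set G))).subtype).map (Subgroup.centralizer ({z} : Set G)).subtype).map (MulAut.conj g).toMonoidHom ⊓
        (B.map (Cfsg.generalizedFittingSubgroup ↥(Subgroup.centralizer ({z} : Set G))).subtype).map (Subgroup.centralizer ({z} : Set G)).subtype = ⊥ := by
  classical
  have huniq : ∀ {T : Type _} [Group T] [Finite T] [IsCyclic T] (a b : T),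
      orderOf a = 2 → orderOf b = 2 → a = b := by
    intro T _ _ _ a b ha hb
    cases nonempty_fintype T
    by_contra hne
    have h1 : ({1, a, b} : Finset T) ⊆ (Finset.univ.filter fun x : T => x ^ 2 = 1) := by
      intro x hx
      simp only [Finset.mem_insert, Finset.mem_singleton] at hx
      simp only [Finset.mem_filter, Finset.mem_univ, true_and]
      rcases hx with rfl | rfl | rfl
      · simp
      · rw [← ha]; exact pow_orderOf_eq_one x
      · rw [← hb]; exact pow_orderOf_eq_one x
    have ha1 : a ≠ 1 := by intro h; rw [h, orderOf_one] at ha; omega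
    have hb1 : b ≠ 1 := by intro h; rw [h, orderOf_one] at hb; omega
    have h3 : ({1, a, b} : Finset T).card = 3 := by
      rw [Finset.card_eq_three]; exact ⟨1, a, b, ha1.symm, hb1.symm, hne, rfl⟩
    have := (Finset.card_le_card h1).trans (IsCyclic.card_pow_eq_one_le (α := T) two_pos)
    omega
  set zC : ↥(Subgroup.centralizer ({z} : Set G)) := ⟨z, Subgroup.mem_centralizer_singleton_iff.2 rfl⟩ with hzC
  have hzCz : ∀ c : ↥(Subgroup.centralizer ({z} : Set G)), c * zC = zC * c := fun c =>
    Subtype.ext (Subgroup.mem_centralizer_singleton_iff.1 c.2)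
  suffices H : ∀ (Q : Subgroup ↥(Subgroup.centralizer ({z} : Set G))) [Q.Normal], zC ∈ Q →
      Cfsg.IsOfSymplecticType ↥Q → ∀ B : Subgroup Q, B.Characteristic → IsMulCommutative ↥B →
      ((B.map Q.subtype).map (Subgroup.centralizer ({z} : Set G)).subtype).map (MulAut.conj g).toMonoidHom =
        (B.map Q.subtype).map (Subgroup.centralizer ({z} : Set G)).subtype ∨
      ((B.map Q.subtype).map (Subgroup.centralizer ({z} : Set G)).subtype).map (MulAut.conj g).toMonoidHom ⊓
        (B.map Q.subtype).map (Subgroup.centralizer ({z} : Set G)).subtype = ⊥ by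
    refine H _ ?_ hQ B hBc hBa
    have hcen : zC ∈ Subgroup.center ↥(Subgroup.centralizer ({z} : Set G)) := Subgroup.mem_center_iff.2 hzCz
    exact CfsgLib.fittingSubgroup_le_generalized
      (CfsgLib.le_fittingSubgroup (N := Subgroup.center _)
        (letI : CommGroup (Subgroup.center ↥(Subgroup.centralizer ({z} : Set G))) :=
          { (inferInstance : Group (Subgroup.center ↥(Subgroup.centralizer ({z} : Set G)))) with
            mul_comm := fun a b => Subtype.ext (Subgroup.mem_center_iff.1 b.2 a) }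
         CommGroup.isNilpotent (G := Subgroup.center ↥(Subgroup.centralizer ({z} : Set G)))) hcen)
  clear hQ hBc hBa B
  intro Q _ hzQ hQ B hBc hBa
  haveI := hBc
  have hzord : orderOf (⟨zC, hzQ⟩ : Q) = 2 := by
    rw [← Subgroup.orderOf_coe, ← Subgroup.orderOf_coe]; exact hz
  haveI : IsCyclic B := hQ.2 B hBc hBa
  haveI : IsCyclic (Subgroup.center Q) := hQ.2 _ inferInstance inferInstance
  have hzc : (⟨zC, hzQ⟩ : Q) ∈ Subgroup.center Q :=
    Subgroup.mem_center_iff.2 (fun q => Subtype.ext (hzCz q))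
  haveI : (B.map Q.subtype).Normal := inferInstance
  set B₂ := (B.map Q.subtype).map (Subgroup.centralizer ({z} : Set G)).subtype with hB₂
  have hinv : ∀ t ∈ B₂, orderOf t = 2 → t = z := by
    rintro t ⟨c, ⟨q, hq, rfl⟩, rfl⟩ ht
    have hq2 : orderOf q = 2 := by
      rw [← Subgroup.orderOf_coe, ← Subgroup.orderOf_coe]; exact ht
    have hqc : q ∈ Subgroup.center Q := by
      rw [Subgroup.mem_center_iff]
      intro r
      haveI : B.Normal := inferInstance
      have hr : r * q * r⁻¹ ∈ B := Subgroup.Normal.conj_mem inferInstance q hq r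
      have e := huniq (⟨r * q * r⁻¹, hr⟩ : B) ⟨q, hq⟩
        (by rw [← Subgroup.orderOf_coe]; exact (orderOf_injective (MulAut.conj r).toMonoidHom (MulAut.conj r).injective q).trans hq2)
        (by rw [← Subgroup.orderOf_coe]; exact hq2)
      have e' : r * q * r⁻¹ = q := congrArg Subtype.val e
      calc r * q = r * q * r⁻¹ * r := by group
        _ = q * r := by rw [e']
    have e := huniq (⟨q, hqc⟩ : Subgroup.center Q) ⟨⟨zC, hzQ⟩, hzc⟩
      (by rw [← Subgroup.orderOf_coe]; exact hq2) (by rw [← Subgroup.orderOf_coe]; exact hzord)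
    have e' : q = ⟨zC, hzQ⟩ := congrArg Subtype.val e
    rw [e']; rfl
  by_cases hbot : B₂.map (MulAut.conj g).toMonoidHom ⊓ B₂ = ⊥
  · exact Or.inr hbot
  left
  obtain ⟨x, hx, hx1⟩ := ((Subgroup.ne_bot_iff_exists_ne_one).1 hbot) |> fun ⟨x, h⟩ => (⟨x.1, x.2, fun e => h (Subtype.ext e)⟩ : ∃ x, x ∈ B₂.map (MulAut.conj g).toMonoidHom ⊓ B₂ ∧ x ≠ 1)
  have hp2 : IsPGroup 2 B₂ := ((hQ.1.to_subgroup B).map _).map _
  obtain ⟨n, hn⟩ := hp2 ⟨x, hx.2⟩
  have hn' : x ^ 2 ^ n = 1 := congrArg Subtype.val hn
  obtain ⟨k, -, hk⟩ := (Nat.dvd_prime_pow Nat.prime_two).1 (orderOf_dvd_of_pow_eq_one hn')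
  have hk0 : k ≠ 0 := by rintro rfl; exact hx1 (orderOf_eq_one_iff.1 (by simpa using hk))
  have ht : orderOf (x ^ 2 ^ (k - 1)) = 2 := by
    rw [orderOf_pow' _ (pow_ne_zero _ two_ne_zero), hk]
    have h2k : 2 ^ k = 2 * 2 ^ (k - 1) := by rw [← pow_succ']; congr 1; omega
    rw [h2k, Nat.gcd_mul_left_left, Nat.mul_div_cancel _ (Nat.two_pow_pos _)]
  have hz1 : x ^ 2 ^ (k - 1) = z := hinv _ (B₂.pow_mem hx.2 _) ht
  obtain ⟨y, hy, hye⟩ := Subgroup.pow_mem _ hx.1 (2 ^ (k - 1))
  rw [hz1] at hye
  have hy2 : orderOf y = 2 := by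
    rw [← orderOf_injective (MulAut.conj g).toMonoidHom (MulAut.conj g).injective y, hye]; exact hz
  rw [hinv y hy hy2] at hye
  have hgC : g ∈ Subgroup.centralizer ({z} : Set G) := by
    rw [Subgroup.mem_centralizer_singleton_iff]
    have : g * z * g⁻¹ = z := hye
    calc g * z = g * z * g⁻¹ * g := by group
      _ = z * g := by rw [this]
  apply le_antisymm
  · rintro _ ⟨b, ⟨c, hc, rfl⟩, rfl⟩
    exact ⟨⟨g, hgC⟩ * c * ⟨g, hgC⟩⁻¹, Subgroup.Normal.conj_mem inferInstance c hc _, rfl⟩
  · rintro _ ⟨c, hc, rfl⟩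
    refine ⟨g⁻¹ * c * g, ⟨⟨g, hgC⟩⁻¹ * c * ⟨g, hgC⟩, ?_, rfl⟩, ?_⟩
    · simpa using (inferInstance : (B.map Q.subtype).Normal).conj_mem c hc ⟨g, hgC⟩⁻¹
    · show g * (g⁻¹ * c * g) * g⁻¹ = c
      group

end Cfsg.Agent.S1755
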