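import Cfsg.Statements.S1756
import Mathlib
import Cfsg.Agent.Lib.RankFrattini

set_option autoImplicit false
set_option linter.unusedVariables false
open Cfsg
open scoped commutatorElement

namespace Cfsg.Agent.S1756

open scoped commutatorElement

/-- Let Q be an extraspecial 2-subgroup of the finite group G (special with centre of order 2) and t an involution of G normalizing Q such that the centralizer of t in Q has index at most 2 in Q. Then t lies in the product of Q with the centralizer of Q. -/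
theorem result {G : Type*} [Group G] [Finite G] (Q : Subgroup G)
    (hQ : Cfsg.IsExtraspecial 2 ↥Q) (t : G) (ht : orderOf t = 2) (htN : t ∈ Subgroup.normalizer (Q : Set G))
    (hi : (Subgroup.centralizer ({t} : Set G) ⊓ Q).relIndex Q ≤ 2) :
    t ∈ Q ⊔ Subgroup.centralizer (Q : Set G) := by
  classical
  haveI : Fact (Nat.Prime 2) := ⟨Nat.prime_two⟩
  obtain ⟨⟨hQp, hΦ, hQ'⟩, hZ⟩ := hQ
  set Z := Subgroup.center ↥Q with hZdef
  set C := (Subgroup.centralizer ({t} : Set G)).subgroupOf Q with hC
  have hidx : C.index ≤ 2 := by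
    rw [hC]
    show (Subgroup.centralizer ({t} : Set G)).relIndex Q ≤ 2
    rwa [Subgroup.inf_relIndex_right] at hi
  have hidx0 : C.index ≠ 0 := Subgroup.index_ne_zero_of_finite
  have hmem : ∀ y : ↥Q, y ∈ C ↔ t * (y : G) = (y : G) * t := fun y => by
    rw [hC, Subgroup.mem_subgroupOf, Subgroup.mem_centralizer_singleton_iff]
    exact ⟨fun h => h.symm, fun h => h.symm⟩
  have ht2 : t * t = 1 := by rw [← pow_two, ← ht]; exact pow_orderOf_eq_one t
  have hti : t⁻¹ = t := inv_eq_of_mul_eq_one_right ht2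
  rcases eq_or_ne C ⊤ with hCt | hCt
  · refine Subgroup.mem_sup_right (Subgroup.mem_centralizer_iff.mpr fun y hy => ?_)
    exact ((hmem ⟨y, hy⟩).mp (hCt ▸ Subgroup.mem_top _)).symm
  have hC2 : C.index = 2 := by
    have : C.index ≠ 1 := fun h => hCt (Subgroup.index_eq_one.mp h)
    omega
  obtain ⟨x, hx⟩ : ∃ x : ↥Q, x ∉ C := by
    by_contra h
    push Not at h
    exact hCt ((Subgroup.eq_top_iff' C).mpr h)
  have hCn : C.Normal := Subgroup.normal_of_index_eq_two hC2
  have hcomm : ∀ a b : ↥Q, ⁅a, b⁆ ∈ Z := fun a b => hQ' ▸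
    Subgroup.commutator_mem_commutator (Subgroup.mem_top a) (Subgroup.mem_top b)
  have hsq : ∀ a : ↥Q, a * a ∈ Z := fun a => by
    rw [← hΦ, ← pow_two]
    exact CfsgLib.pow_mem_frattini_pGroup hQp a
  have hZC : Z ≤ C := by
    rw [← hΦ]
    have hco : IsCoatom C := ⟨hCt, fun K hK => by
      have h1 : K.index ∣ 2 := hC2 ▸ Subgroup.index_dvd_of_le hK.le
      rcases (Nat.dvd_prime Nat.prime_two).mp h1 with h | h
      · exact Subgroup.index_eq_one.mp h
      · refine absurd ?_ hK.ne'
        symm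
        refine Subgroup.eq_of_le_of_card_ge hK.le ?_
        have e1 := C.card_mul_index
        have e2 := K.card_mul_index
        rw [hC2] at e1
        rw [h] at e2
        omega⟩
    exact frattini_le_coatom hco
  -- the conjugate of `x`
  let x' : ↥Q := ⟨t * (x : G) * t⁻¹, (Subgroup.mem_normalizer_iff.mp htN x).mp x.2⟩
  have hx' : x' ∉ C := fun h => hx <| (hmem x).mpr <| by
    have h1 := (hmem x').mp h
    simp only [x'] at h1
    calc t * (x : G) = t * (x : G) * t⁻¹ * t := by group
      _ = t * (t * (x : G) * t⁻¹) := h1.symm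
      _ = (t * t) * (x : G) * t⁻¹ := by group
      _ = (x : G) * t := by rw [ht2, hti, one_mul]
  set d := x⁻¹ * x' with hd
  have hdC : d ∈ C := by
    rw [hd, Subgroup.mul_mem_iff_of_index_two hC2]
    exact iff_of_false (fun h => hx (by simpa using C.inv_mem h)) hx'
  have hdt : t * (d : G) = (d : G) * t := (hmem d).mp hdC
  have htx : t * (x : G) * t⁻¹ = (x : G) * d := by
    have : x' = x * d := by rw [hd, mul_inv_cancel_left]
    exact congrArg Subtype.val this
  have htd : t * (d : G) * t⁻¹ = d := by rw [hdt, mul_inv_cancel_right]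
  have hdd : (d : G) * d = 1 := by
    have h1 : (x : G) = x * d * d := by
      calc (x : G) = (t * t) * x * (t * t)⁻¹ := by rw [ht2]; group
        _ = t * (t * x * t⁻¹) * t⁻¹ := by group
        _ = t * ((x : G) * d) * t⁻¹ := by rw [htx]
        _ = (t * x * t⁻¹) * (t * d * t⁻¹) := by group
        _ = x * d * d := by rw [htx, htd]
    rw [mul_assoc] at h1
    exact (mul_left_cancel (a := (x : G)) (b := 1) (by rw [mul_one]; exact h1)).symm
  have hCd : ∀ c ∈ C, d * c = c * d := by
    intro c hc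
    have h1 : x * c * x⁻¹ ∈ C := hCn.conj_mem c hc x
    have h2 := (hmem _).mp h1
    have h3 := (hmem c).mp hc
    refine Subtype.ext ?_
    rw [Subgroup.coe_mul, Subgroup.coe_mul] at h2 ⊢
    rw [Subgroup.coe_inv] at h2
    have h4 : ((x : G) * d) * c * ((x : G) * d)⁻¹ = (x : G) * c * (x : G)⁻¹ := by
      calc ((x : G) * d) * c * ((x : G) * d)⁻¹ = (t * x * t⁻¹) * (t * c * t⁻¹) * (t * x * t⁻¹)⁻¹ := by
            rw [htx, h3, mul_inv_cancel_right]
        _ = (t * ((x : G) * c * (x : G)⁻¹)) * t⁻¹ := by group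
        _ = (x : G) * c * (x : G)⁻¹ := by rw [h2, mul_inv_cancel_right]
    calc (d : G) * c = (x : G)⁻¹ * (((x : G) * d) * c * ((x : G) * d)⁻¹) * x * d := by group
      _ = (c : G) * d := by rw [h4]; group
  have hxd : d * x = x * d := by
    refine Subtype.ext ?_
    have h2 := (hmem _).mp (hZC (hsq x))
    rw [Subgroup.coe_mul] at h2
    have h3 : ((x : G) * d) * (x * d) = x * x := by
      calc ((x : G) * d) * (x * d) = t * ((x : G) * x) * t⁻¹ := by rw [← htx]; group
        _ = x * x := by rw [h2, mul_inv_cancel_right]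
    rw [Subgroup.coe_mul, Subgroup.coe_mul]
    calc (d : G) * x = (x : G)⁻¹ * ((x * d) * (x * d)) * (d : G)⁻¹ := by group
      _ = x * (d : G)⁻¹ := by rw [h3]; group
      _ = x * d := by rw [inv_eq_of_mul_eq_one_right hdd]
  have hgen : ∀ y : ↥Q, y ∈ C ∨ ∃ c ∈ C, y = x * c := fun y => by
    by_cases hy : y ∈ C
    · exact Or.inl hy
    · refine Or.inr ⟨x⁻¹ * y, ?_, (mul_inv_cancel_left x y).symm⟩
      rw [Subgroup.mul_mem_iff_of_index_two hC2]
      exact iff_of_false (fun h => hx (by simpa using C.inv_mem h)) hy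
  have hdZ : d ∈ Z := by
    rw [hZdef, Subgroup.mem_center_iff]
    intro y
    rcases hgen y with hy | ⟨c, hc, rfl⟩
    · exact (hCd y hy).symm
    · calc x * c * d = x * (d * c) := by rw [mul_assoc, hCd c hc]
        _ = d * x * c := by rw [← mul_assoc, hxd]
        _ = d * (x * c) := mul_assoc _ _ _
  rcases eq_or_ne d 1 with hd1 | hd1
  · exfalso
    refine hx ((hmem x).mpr ?_)
    rw [hd1, Subgroup.coe_one, mul_one] at htx
    calc t * (x : G) = t * x * t⁻¹ * t := by group
      _ = x * t := by rw [htx]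
  -- an element centralizing `C` but not `x`
  obtain ⟨q, hqC, hqx⟩ : ∃ q : ↥Q, q ∈ Subgroup.centralizer (C : Set ↥Q) ∧ q ∉ Z := by
    obtain ⟨k, hk⟩ := IsPGroup.iff_card.mp (hQp.to_subgroup C)
    have hk1 : 1 ≤ k := by
      rcases k with _ | k
      · have := Subgroup.card_le_of_le hZC
        rw [hk, hZ] at this
        omega
      · omega
    have h1 := CfsgLib.RankFrattini.index_centralizer_le (p := 2) Z hcomm le_rfl (l := 1) (by rw [hZ, pow_one]) (k - 1) C hZC
      (by rw [hk]; congr 1; omega)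
    by_contra hno
    push Not at hno
    have h2 : Subgroup.centralizer (C : Set ↥Q) ≤ Z := fun q hq => hno q hq
    have h3 := Subgroup.card_le_of_le h2
    have h4 := (Subgroup.centralizer (C : Set ↥Q)).card_mul_index
    have h5 := C.card_mul_index
    rw [hC2, hk] at h5
    rw [hZ] at h3
    have h6 : 2 ^ k = 2 ^ (k - 1) * 2 := by rw [← pow_succ]; congr 1; omega
    rw [one_mul] at h1
    have h7 : Nat.card ↥(Subgroup.centralizer (C : Set ↥Q)) * (Subgroup.centralizer (C : Set ↥Q)).index ≤ 2 * 2 ^ (k - 1) :=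
      Nat.mul_le_mul h3 h1
    have h8 : 0 < 2 ^ (k - 1) := Nat.two_pow_pos _
    omega
  have hqd : q * x * q⁻¹ = x * d := by
    have hne : q * x ≠ x * q := by
      intro h
      refine hqx ?_
      rw [hZdef, Subgroup.mem_center_iff]
      intro y
      rcases hgen y with hy | ⟨c, hc, rfl⟩
      · exact Subgroup.mem_centralizer_iff.mp hqC y hy
      · rw [mul_assoc, Subgroup.mem_centralizer_iff.mp hqC c hc, ← mul_assoc, ← h, mul_assoc]
    have hz : ⁅x⁻¹, q⁆ ∈ Z := hcomm _ _
    have hall : ∀ u ∈ Z, u = 1 ∨ u = d := by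
      intro u hu
      by_contra hcon
      push Not at hcon
      have : 3 ≤ Nat.card ↥Z := by
        have hinj : Function.Injective ![(⟨1, Z.one_mem⟩ : ↥Z), ⟨d, hdZ⟩, ⟨u, hu⟩] := by
          intro a b h
          fin_cases a <;> fin_cases b <;> simp [Ne.symm hd1, hd1, hcon.1, hcon.2, Ne.symm hcon.1, Ne.symm hcon.2] at h ⊢
        simpa using Nat.card_le_card_of_injective _ hinj
      omega
    rcases hall _ hz with h | h
    · exfalso
      apply hne
      rw [commutatorElement_eq_one_iff_mul_comm] at h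
      calc q * x = x * (x⁻¹ * q) * x := by group
        _ = x * (q * x⁻¹) * x := by rw [h]
        _ = x * q := by group
    · calc q * x * q⁻¹ = x * (x⁻¹ * q * x⁻¹⁻¹ * q⁻¹) := by group
        _ = x * d := by rw [← commutatorElement_def, h]
  have hres : (q : G)⁻¹ * t ∈ Subgroup.centralizer (Q : Set G) := by
    refine Subgroup.mem_centralizer_iff.mpr fun y hy => ?_
    have key : ∀ u : ↥Q, (q : G) * u * (q : G)⁻¹ = t * u * t⁻¹ := by
      intro u
      have hc : ∀ c ∈ C, (q : G) * c * (q : G)⁻¹ = t * c * t⁻¹ := fun c hc => by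
        rw [(hmem c).mp hc, mul_inv_cancel_right]
        have := congrArg Subtype.val (Subgroup.mem_centralizer_iff.mp hqC c hc)
        rw [Subgroup.coe_mul, Subgroup.coe_mul] at this
        rw [← this, mul_inv_cancel_right]
      rcases hgen u with hu | ⟨c, hc', rfl⟩
      · exact hc u hu
      · rw [Subgroup.coe_mul]
        calc (q : G) * (x * c) * (q : G)⁻¹ = ((q : G) * x * (q : G)⁻¹) * ((q : G) * c * (q : G)⁻¹) := by group
          _ = ((x * d : ↥Q) : G) * (t * c * t⁻¹) := by rw [hc c hc', ← hqd]; rfl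
          _ = t * (x * c) * t⁻¹ := by rw [Subgroup.coe_mul, ← htx]; group
    have := key ⟨y, hy⟩
    calc y * ((q : G)⁻¹ * t) = (q : G)⁻¹ * ((q : G) * y * (q : G)⁻¹) * t := by group
      _ = (q : G)⁻¹ * (t * y * t⁻¹) * t := by rw [this]
      _ = (q : G)⁻¹ * t * y := by group
  have := Subgroup.mul_mem_sup q.2 hres
  rwa [mul_inv_cancel_left] at this

end Cfsg.Agent.S1756
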