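import Cfsg.Statements.S1757
import Cfsg.Agent.Lib.Local
import Cfsg.Agent.Lib.Products

set_option autoImplicit false
set_option linter.unusedVariables false
open Cfsg
open scoped commutatorElement

namespace Cfsg.Agent.S1757

open CfsgLib.Local CfsgLib.Products

/-- Let p be a prime and A, B p-subgroups of the finite group G, each of which meets every conjugate of itself other than itself trivially. Suppose the order of A is at most that of B, A and B intersect trivially, and B normalizes A. Then A and B commute elementwise. -/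
theorem result {G : Type*} [Group G] [Finite G] (p : ℕ) [Fact p.Prime] (A B : Subgroup G)
    (hA : IsPGroup p ↥A) (hB : IsPGroup p ↥B)
    (hAti : ∀ g : G, A.map (MulAut.conj g).toMonoidHom = A ∨ A.map (MulAut.conj g).toMonoidHom ⊓ A = ⊥)
    (hBti : ∀ g : G, B.map (MulAut.conj g).toMonoidHom = B ∨ B.map (MulAut.conj g).toMonoidHom ⊓ B = ⊥)
    (hle : Nat.card ↥A ≤ Nat.card ↥B) (hAB : A ⊓ B = ⊥) (hN : B ≤ Subgroup.normalizer (A : Set G)) : ⁅A, B⁆ = ⊥ := by
  rw [eq_bot_iff, ← hAB, Subgroup.commutator_le]
  intro a ha b hb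
  rw [commutatorElement_def]
  refine ⟨?_, ?_⟩
  · rw [mul_assoc a, mul_assoc a]
    exact A.mul_mem ha (((Subgroup.mem_normalizer_iff.1 (hN hb)) a⁻¹).1 (A.inv_mem ha))
  · suffices haN : a ∈ Subgroup.normalizer (B : Set G) from
      B.mul_mem ((Subgroup.mem_normalizer_iff.1 haN b).1 hb) (B.inv_mem hb)
    rcases hBti a with h | h
    · exact mem_normalizer_of_map_conj_eq h
    set B' := B.map (MulAut.conj a).toMonoidHom with hB'
    have hJ : B ⊔ B' ≤ A ⊔ B := sup_le le_sup_right (map_conj_le fun x hx =>
      (A ⊔ B).mul_mem ((A ⊔ B).mul_mem (Subgroup.mem_sup_left ha) (Subgroup.mem_sup_right hx))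
        ((A ⊔ B).inv_mem (Subgroup.mem_sup_left ha)))
    haveI : (A.subgroupOf (A ⊔ B)).Normal :=
      (Subgroup.normal_subgroupOf_iff_le_normalizer le_sup_left).2 (sup_le Subgroup.le_normalizer hN)
    have hJcard : Nat.card ↥(A ⊔ B) = Nat.card A * Nat.card B := by
      have hrel : A.relIndex (A ⊔ B) = A.relIndex B :=
        le_antisymm (Nat.le_of_eq (by
          have := Subgroup.relIndex_sup_left (K := A.subgroupOf (A ⊔ B)) (H := B.subgroupOf (A ⊔ B))
          rw [← Subgroup.subgroupOf_sup le_sup_left le_sup_right] at this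
          rwa [Subgroup.relIndex_subgroupOf le_rfl, Subgroup.relIndex_subgroupOf le_sup_right] at this))
          (Subgroup.relIndex_le_of_le_right le_sup_right Subgroup.index_ne_zero_of_finite)
      rw [← card_mul_relIndex_of_le (le_sup_left : A ≤ A ⊔ B), hrel, ← card_inf_mul_relIndex A B, hAB,
        Subgroup.card_bot, one_mul]
    have hB'card : Nat.card B' = Nat.card B :=
      (Nat.card_congr (Subgroup.equivMapOfInjective _ _ (MulAut.conj a).injective).toEquiv).symm
    have h1 := card_mul_card_le B B'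
    rw [inf_comm B B', h, Subgroup.card_bot, mul_one, hB'card] at h1
    have h2 : Nat.card ↥(B ⊔ B') ≤ Nat.card B * Nat.card B :=
      (Subgroup.card_le_of_le hJ).trans (hJcard.le.trans (Nat.mul_le_mul_right _ hle))
    have heq : B ⊔ B' = A ⊔ B := Subgroup.eq_of_le_of_card_ge hJ
      (hJcard.le.trans ((Nat.mul_le_mul_right _ hle).trans h1))
    obtain ⟨y, hy, c, hc, hayc⟩ := exists_mul_of_card_eq (H := B) (K := B')
      (by rw [inf_comm B B', h, Subgroup.card_bot, mul_one, hB'card]; exact h2)
      (g := a) (heq ▸ Subgroup.mem_sup_left ha)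
    rw [hB', mem_map_conj] at hy
    have h5 : a⁻¹ * y = c⁻¹ := by rw [hayc]; group
    rw [h5] at hy
    exact Subgroup.le_normalizer (by simpa [mul_assoc] using B.mul_mem hc hy)

end Cfsg.Agent.S1757
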