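import Cfsg.Statements.S1774
import Mathlib
import Cfsg.Agent.Lib.Components
import Cfsg.Agent.Lib.AbelianTrace
import Cfsg.Agent.Lib.Elementary
import Cfsg.Agent.Lib.RankFrattini

set_option autoImplicit false
set_option linter.unusedVariables false
open Cfsg
open scoped commutatorElement

namespace Cfsg.Agent.S1774

open CfsgLib
open scoped commutatorElement

theorem cyclic_invol {T : Type*} [Group T] {K : Subgroup T} [Finite K] [IsCyclic K] {a b : T} (ha : a ∈ K) (hb : b ∈ K)
    (ha2 : a * a = 1) (hb2 : b * b = 1) (hb1 : b ≠ 1) : a = 1 ∨ a = b := by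
  classical
  by_contra h
  push Not at h
  cases nonempty_fintype K
  have h1 : ({1, ⟨a, ha⟩, ⟨b, hb⟩} : Finset K) ⊆ (Finset.univ.filter fun x : K => x ^ 2 = 1) := by
    intro x hx
    simp only [Finset.mem_insert, Finset.mem_singleton] at hx
    simp only [Finset.mem_filter, Finset.mem_univ, true_and, pow_two]
    rcases hx with rfl | rfl | rfl
    · exact one_mul 1
    · exact Subtype.ext ha2
    · exact Subtype.ext hb2
  have h3 : ({1, ⟨a, ha⟩, ⟨b, hb⟩} : Finset K).card = 3 := Finset.card_eq_three.mpr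
    ⟨1, _, _, fun e => h.1 (congrArg Subtype.val e).symm, fun e => hb1 (congrArg Subtype.val e).symm,
      fun e => h.2 (congrArg Subtype.val e), rfl⟩
  have := (Finset.card_le_card h1).trans (IsCyclic.card_pow_eq_one_le (α := K) two_pos)
  omega

/-- Squares in a group of symplectic type and exponent four. -/
theorem squares {T : Type*} [Group T] [Finite T] (hT : Cfsg.IsOfSymplecticType T) (h4 : ∀ x : T, x ^ 4 = 1) {z : T}
    (hz : z ∈ Subgroup.center T) (hz2 : z * z = 1) (hz1 : z ≠ 1) :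
    (∀ x : T, x * x = 1 ∨ x * x = z) ∧ ∀ x ∈ Subgroup.center T, x * x = 1 → x = 1 ∨ x = z := by
  classical
  haveI : Fact (Nat.Prime 2) := ⟨Nat.prime_two⟩
  haveI : IsCyclic (Subgroup.center T) := hT.2 _ inferInstance inferInstance
  refine ⟨?_, fun x hx hx2 => cyclic_invol hx hz hx2 hz2 hz1⟩
  set F := frattini T with hF
  set K := (Subgroup.center ↥F).map F.subtype with hK
  haveI hKc : K.Characteristic := by
    rw [Subgroup.characteristic_iff_map_le]
    rintro φ _ ⟨_, ⟨x, hx, rfl⟩, rfl⟩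
    have hFc : F.Characteristic := inferInstance
    have hmem : ∀ ψ : T ≃* T, ∀ y ∈ F, ψ y ∈ F := fun ψ y hy => (Subgroup.characteristic_iff_map_le.mp hFc ψ) ⟨y, hy, rfl⟩
    refine ⟨⟨φ (x : T), hmem φ x x.2⟩, Subgroup.mem_center_iff.mpr fun y => Subtype.ext ?_, rfl⟩
    have h := congrArg (fun w : ↥F => φ (w : T)) (Subgroup.mem_center_iff.mp hx ⟨φ.symm (y : T), hmem φ.symm y y.2⟩)
    simpa using h
  haveI : IsMulCommutative ↥K := IsMulCommutative.of_comm fun a b => Subtype.ext (by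
    obtain ⟨a', ha', ea⟩ := a.2
    obtain ⟨b', hb', eb⟩ := b.2
    show (a : T) * b = b * a
    rw [← ea, ← eb]
    exact congrArg Subtype.val ((Subgroup.mem_center_iff.mp ha' b').symm))
  haveI : IsCyclic ↥K := hT.2 K hKc ‹_›
  have hKn : K.Normal := inferInstance
  -- involutions of `K` are central
  have hKinv : ∀ v ∈ K, v * v = 1 → v ∈ Subgroup.center T := by
    intro v hv hv2
    rcases eq_or_ne v 1 with rfl | hv1
    · exact Subgroup.one_mem _
    rw [Subgroup.mem_center_iff]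
    intro g
    have h2 : (g * v * g⁻¹) * (g * v * g⁻¹) = 1 := by
      rw [show (g * v * g⁻¹) * (g * v * g⁻¹) = g * (v * v) * g⁻¹ by group, hv2, mul_one, mul_inv_cancel]
    rcases cyclic_invol (hKn.conj_mem v hv g) hv h2 hv2 hv1 with e | e
    · exact absurd (conj_eq_one_iff.mp e) hv1
    · calc g * v = g * v * g⁻¹ * g := by group
        _ = v * g := by rw [e]
  have hsqF : ∀ x : T, x * x ∈ F := fun x => by
    rw [← pow_two]; exact pow_mem_frattini_pGroup hT.1 x
  have hFgen : F ≤ Subgroup.closure {w : T | ∃ x, w = x * x} := by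
    refine RankFrattini.frattini_le_of_elementary hT.1 _ (fun a b => ?_) fun a => Subgroup.subset_closure ⟨a, pow_two a⟩
    rw [show ⁅a, b⁆ = (a * a) * ((a⁻¹ * b) * (a⁻¹ * b)) * (b * b)⁻¹ by rw [commutatorElement_def]; group]
    exact Subgroup.mul_mem _ (Subgroup.mul_mem _ (Subgroup.subset_closure ⟨a, rfl⟩) (Subgroup.subset_closure ⟨_, rfl⟩))
      (Subgroup.inv_mem _ (Subgroup.subset_closure ⟨b, rfl⟩))
  have hFK : F ≤ K := by
    by_contra hle
    have hKF : K ≤ F := Subgroup.map_subtype_le _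
    set π := QuotientGroup.mk' K
    have hne : F.map π ≠ ⊥ := by
      rw [ne_eq, Subgroup.map_eq_bot_iff, QuotientGroup.ker_mk']
      exact hle
    haveI : (F.map π).Normal := Subgroup.Normal.map inferInstance π (QuotientGroup.mk'_surjective K)
    obtain ⟨w, hw, hw1, hwc⟩ := AbelianTrace.exists_fixed (hT.1.to_quotient K |>.to_subgroup (F.map π))
      ((hT.1.to_quotient K).to_subgroup ⊤) (by rw [Subgroup.normalizer_eq_top]) hne
    obtain ⟨u0, hu0, rfl⟩ := hw
    obtain ⟨u, hu, huK, hu2, hcom⟩ : ∃ u ∈ F, u ∉ K ∧ u * u ∈ K ∧ ∀ g : T, g * u * g⁻¹ * u⁻¹ ∈ K := by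
      have hcom0 : ∀ g : T, g * u0 * g⁻¹ * u0⁻¹ ∈ K := fun g => by
        rw [← QuotientGroup.eq_one_iff, ← QuotientGroup.mk'_apply, map_mul, map_mul, map_mul, map_inv, map_inv,
          hwc (π g) (Subgroup.mem_top _), mul_inv_cancel_right, mul_inv_cancel]
      by_cases h : u0 * u0 ∈ K
      · exact ⟨u0, hu0, fun h' => hw1 ((QuotientGroup.eq_one_iff u0).mpr h'), h, hcom0⟩
      · refine ⟨u0 * u0, F.mul_mem hu0 hu0, h, ?_, fun g => ?_⟩
        · have := h4 u0
          rw [show u0 * u0 * (u0 * u0) = u0 ^ 4 by rw [pow_succ, pow_succ, pow_succ, pow_one]; group, this]; exact K.one_mem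
        · have := K.mul_mem (hcom0 g) (hKn.conj_mem _ (hcom0 g) u0)
          rw [show g * (u0 * u0) * g⁻¹ * (u0 * u0)⁻¹ = g * u0 * g⁻¹ * u0⁻¹ * (u0 * (g * u0 * g⁻¹ * u0⁻¹) * u0⁻¹) by group]
          exact this
    have hKcomm : ∀ k ∈ K, k * u = u * k := by
      rintro _ ⟨k, hk, rfl⟩
      exact (congrArg Subtype.val (Subgroup.mem_center_iff.mp hk ⟨u, hu⟩)).symm
    have hu2c : u * u ∈ Subgroup.center T := hKinv _ hu2 (by
      rw [show u * u * (u * u) = u ^ 4 by rw [pow_succ, pow_succ, pow_succ, pow_one]; group, h4])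
    refine huK ⟨⟨u, hu⟩, Subgroup.mem_center_iff.mpr fun y => Subtype.ext ?_, rfl⟩
    have hsq : ∀ g : T, g * g * u = u * (g * g) := by
      intro g
      set e := g * u * g⁻¹ * u⁻¹ with he
      have heu : g * u * g⁻¹ = e * u := by rw [he]; group
      have he2 : e * e = 1 := by
        have h1 : g * (u * u) * g⁻¹ = u * u := by rw [Subgroup.mem_center_iff.mp hu2c g, mul_inv_cancel_right]
        have h2 : g * (u * u) * g⁻¹ = e * e * (u * u) := by
          rw [show g * (u * u) * g⁻¹ = (g * u * g⁻¹) * (g * u * g⁻¹) by group, heu]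
          calc e * u * (e * u) = e * (u * e) * u := by group
            _ = e * (e * u) * u := by rw [hKcomm e (hcom g)]
            _ = e * e * (u * u) := by group
        exact mul_right_cancel (b := u * u) (by rw [← h2, h1, one_mul])
      have hec := Subgroup.mem_center_iff.mp (hKinv e (hcom g) he2) g
      calc g * g * u = g * (g * u * g⁻¹) * g := by group
        _ = g * (e * u) * g := by rw [heu]
        _ = (g * e) * u * g := by group
        _ = e * (g * u * g⁻¹) * (g * g) := by rw [hec]; group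
        _ = u * (g * g) := by rw [heu, ← mul_assoc e e, he2, one_mul]
    have hy : (y : T) ∈ Subgroup.centralizer ({u} : Set T) :=
      (hFgen.trans ((Subgroup.closure_le _).mpr (by rintro _ ⟨g, rfl⟩; exact Subgroup.mem_centralizer_singleton_iff.mpr (hsq g)))) y.2
    exact Subgroup.mem_centralizer_singleton_iff.mp hy
  intro x
  have hv : (x * x) * (x * x) = 1 := by rw [show x * x * (x * x) = x ^ 4 by rw [pow_succ, pow_succ, pow_succ, pow_one]; group, h4]
  have hxK := hFK (hsqF x)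
  exact cyclic_invol (hKinv _ hxK hv) hz hv hz2 hz1

/-- Let G be a finite group and let z be an involution of G such that Q, the generalized Fitting subgroup of the centralizer C of z, is a 2-group of symplectic type (every characteristic abelian subgroup of Q is cyclic); suppose every element of Q has order dividing 4. Let g ∈ G with z' = g z g⁻¹ ≠ z and z' ∈ Q. Then z lies in the conjugate g Q g⁻¹, and the subgroup X generated by Q and g Q g⁻¹ induces every automorphism of the four-group generated by z and z': for any two distinct non-identity elements u, v of that four-group there is x ∈ X with x z x⁻¹ = u and x z' x⁻¹ = v. -/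
theorem result {G : Type*} [Group G] [Finite G] (z : G) (hz : orderOf z = 2) (hQ : Cfsg.IsOfSymplecticType ↥(Cfsg.generalizedFittingSubgroup ↥(Subgroup.centralizer ({z} : Set G))))
    (h4 : ∀ q ∈ (Cfsg.generalizedFittingSubgroup ↥(Subgroup.centralizer ({z} : Set G))).map (Subgroup.centralizer ({z} : Set G)).subtype, q ^ 4 = 1) (g : G) (hne : g * z * g⁻¹ ≠ z) (hin : g * z * g⁻¹ ∈ (Cfsg.generalizedFittingSubgroup ↥(Subgroup.centralizer ({z} : Set G))).map (Subgroup.centralizer ({z} : Set G)).subtype) :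
    z ∈ ((Cfsg.generalizedFittingSubgroup ↥(Subgroup.centralizer ({z} : Set G))).map (Subgroup.centralizer ({z} : Set G)).subtype).map (MulAut.conj g).toMonoidHom ∧
      ∀ u ∈ Subgroup.closure ({z, g * z * g⁻¹} : Set G), ∀ v ∈ Subgroup.closure ({z, g * z * g⁻¹} : Set G),
        u ≠ 1 → v ≠ 1 → u ≠ v →
          ∃ x ∈ (Cfsg.generalizedFittingSubgroup ↥(Subgroup.centralizer ({z} : Set G))).map (Subgroup.centralizer ({z} : Set G)).subtype ⊔ ((Cfsg.generalizedFittingSubgroup ↥(Subgroup.centralizer ({z} : Set G))).map (Subgroup.centralizer ({z} : Set G)).subtype).map (MulAut.conj g).toMonoidHom, x * z * x⁻¹ = u ∧ x * (g * z * g⁻¹) * x⁻¹ = v := by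
  classical
  set C := Subgroup.centralizer ({z} : Set G) with hC
  set F := Cfsg.generalizedFittingSubgroup ↥C with hF
  set Q := F.map C.subtype with hQdef
  have hz1 : z ≠ 1 := fun e => by rw [e, orderOf_one] at hz; omega
  have hz2 : z * z = 1 := by rw [← pow_two, ← hz]; exact pow_orderOf_eq_one z
  have hzC : z ∈ C := Subgroup.mem_centralizer_singleton_iff.mpr rfl
  have hzcen : (⟨z, hzC⟩ : ↥C) ∈ Subgroup.center ↥C :=
    Subgroup.mem_center_iff.mpr fun c => Subtype.ext (Subgroup.mem_centralizer_singleton_iff.mp c.2)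
  have hcQ : ∀ q ∈ Q, q * z = z * q := by
    rintro _ ⟨q, -, rfl⟩
    exact Subgroup.mem_centralizer_singleton_iff.mp q.2
  have hCn : ∀ c : G, c * z = z * c → ∀ q ∈ Q, c * q * c⁻¹ ∈ Q := by
    rintro c hc _ ⟨q, hq, rfl⟩
    exact ⟨⟨c, Subgroup.mem_centralizer_singleton_iff.mpr hc⟩ * q * ⟨c, Subgroup.mem_centralizer_singleton_iff.mpr hc⟩⁻¹,
      Subgroup.Normal.conj_mem inferInstance q hq _, rfl⟩
  have hself : ∀ c : G, c * z = z * c → (∀ q ∈ Q, c * q = q * c) → c ∈ Q := fun c hc h =>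
    ⟨⟨c, Subgroup.mem_centralizer_singleton_iff.mpr hc⟩, centralizer_generalizedFitting_le
      (Subgroup.mem_centralizer_iff.mpr fun q hq => Subtype.ext (h _ ⟨q, hq, rfl⟩).symm), rfl⟩
  have hzF : (⟨z, hzC⟩ : ↥C) ∈ F :=
    centralizer_generalizedFitting_le (Subgroup.mem_centralizer_iff.mpr fun q _ => Subgroup.mem_center_iff.mp hzcen q)
  have hzQ : z ∈ Q := ⟨_, hzF, rfl⟩
  obtain ⟨hsq0, hcen0⟩ := squares hQ (fun x => Subtype.ext (Subtype.ext (h4 _ ⟨x, x.2, rfl⟩)))
    (z := (⟨⟨z, hzC⟩, hzF⟩ : ↥F)) (Subgroup.mem_center_iff.mpr fun x => Subtype.ext (Subgroup.mem_center_iff.mp hzcen x))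
    (Subtype.ext (Subtype.ext hz2)) (fun e => hz1 (congrArg (fun x : ↥F => ((x : ↥C) : G)) e))
  have hsq : ∀ q ∈ Q, q * q = 1 ∨ q * q = z := by
    rintro _ ⟨q, hq, rfl⟩
    rcases hsq0 ⟨q, hq⟩ with e | e
    · exact Or.inl (congrArg (fun x : ↥F => ((x : ↥C) : G)) e)
    · exact Or.inr (congrArg (fun x : ↥F => ((x : ↥C) : G)) e)
  have hcenQ : ∀ q ∈ Q, (∀ r ∈ Q, q * r = r * q) → q * q = 1 → q = 1 ∨ q = z := by
    rintro _ ⟨q, hq, rfl⟩ hc hq2
    rcases hcen0 ⟨q, hq⟩ (Subgroup.mem_center_iff.mpr fun r =>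
      Subtype.ext (Subtype.ext (hc _ ⟨r, r.2, rfl⟩).symm)) (Subtype.ext (Subtype.ext hq2)) with e | e
    · exact Or.inl (congrArg (fun x : ↥F => ((x : ↥C) : G)) e)
    · exact Or.inr (congrArg (fun x : ↥F => ((x : ↥C) : G)) e)
  -- commutators
  have hcomQ : ∀ a ∈ Q, ∀ b ∈ Q, a * b * a⁻¹ * b⁻¹ = 1 ∨ a * b * a⁻¹ * b⁻¹ = z := by
    intro a ha b hb
    rw [show a * b * a⁻¹ * b⁻¹ = (a * a) * ((a⁻¹ * b) * (a⁻¹ * b)) * (b * b)⁻¹ by group]
    have hzi : z⁻¹ = z := inv_eq_of_mul_eq_one_right hz2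
    rcases hsq a ha with e | e <;> rcases hsq _ (Q.mul_mem (Q.inv_mem ha) hb) with e' | e' <;>
      rcases hsq b hb with e'' | e'' <;> rw [e, e', e''] <;> simp [hzi, hz2]
  set y := g * z * g⁻¹ with hy
  set Q' := Q.map (MulAut.conj g).toMonoidHom with hQ'
  have hy2 : y * y = 1 := by
    rw [hy, show g * z * g⁻¹ * (g * z * g⁻¹) = g * (z * z) * g⁻¹ by group, hz2]; group
  have hy1 : y ≠ 1 := fun e => hz1 (conj_eq_one_iff.mp e)
  have hzy : z * y = y * z := (hcQ y hin).symm
  -- transported facts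
  have hmem' : ∀ q ∈ Q', ∃ q0 ∈ Q, g * q0 * g⁻¹ = q := fun q hq => by
    obtain ⟨q0, h0, e⟩ := hq
    exact ⟨q0, h0, e⟩
  have hmk : ∀ q ∈ Q, g * q * g⁻¹ ∈ Q' := fun q hq => ⟨q, hq, rfl⟩
  have hcQ' : ∀ q ∈ Q', q * y = y * q := by
    intro q hq
    obtain ⟨q0, h0, rfl⟩ := hmem' q hq
    calc g * q0 * g⁻¹ * y = g * (q0 * z) * g⁻¹ := by rw [hy]; group
      _ = g * (z * q0) * g⁻¹ := by rw [hcQ q0 h0]
      _ = y * (g * q0 * g⁻¹) := by rw [hy]; group
  have hsq' : ∀ q ∈ Q', q * q = 1 ∨ q * q = y := by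
    intro q hq
    obtain ⟨q0, h0, rfl⟩ := hmem' q hq
    rw [show g * q0 * g⁻¹ * (g * q0 * g⁻¹) = g * (q0 * q0) * g⁻¹ by group]
    rcases hsq q0 h0 with e | e <;> rw [e]
    · exact Or.inl (by group)
    · exact Or.inr rfl
  have hcomQ' : ∀ a ∈ Q', ∀ b ∈ Q', a * b * a⁻¹ * b⁻¹ = 1 ∨ a * b * a⁻¹ * b⁻¹ = y := by
    intro a ha b hb
    obtain ⟨a0, ha0, rfl⟩ := hmem' a ha
    obtain ⟨b0, hb0, rfl⟩ := hmem' b hb
    rw [show g * a0 * g⁻¹ * (g * b0 * g⁻¹) * (g * a0 * g⁻¹)⁻¹ * (g * b0 * g⁻¹)⁻¹ = g * (a0 * b0 * a0⁻¹ * b0⁻¹) * g⁻¹ by group]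
    rcases hcomQ a0 ha0 b0 hb0 with e | e <;> rw [e]
    · exact Or.inl (by group)
    · exact Or.inr rfl
  have hcenQ' : ∀ q ∈ Q', (∀ r ∈ Q', q * r = r * q) → q * q = 1 → q = 1 ∨ q = y := by
    intro q hq hc hq2
    obtain ⟨q0, h0, rfl⟩ := hmem' q hq
    rcases hcenQ q0 h0 (fun r hr => by
        calc q0 * r = g⁻¹ * ((g * q0 * g⁻¹) * (g * r * g⁻¹)) * g := by group
          _ = g⁻¹ * ((g * r * g⁻¹) * (g * q0 * g⁻¹)) * g := by rw [hc _ (hmk r hr)]
          _ = r * q0 := by group)
      (by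
        calc q0 * q0 = g⁻¹ * ((g * q0 * g⁻¹) * (g * q0 * g⁻¹)) * g := by group
          _ = 1 := by rw [hq2]; group) with e | e <;> rw [e]
    · exact Or.inl (by group)
    · exact Or.inr rfl
  have hCn' : ∀ c : G, c * y = y * c → ∀ q ∈ Q', c * q * c⁻¹ ∈ Q' := by
    intro c hc q hq
    obtain ⟨q0, h0, rfl⟩ := hmem' q hq
    have h1 : (g⁻¹ * c * g) * z = z * (g⁻¹ * c * g) := by
      calc (g⁻¹ * c * g) * z = g⁻¹ * (c * y) * g := by rw [hy]; group
        _ = g⁻¹ * (y * c) * g := by rw [hc]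
        _ = z * (g⁻¹ * c * g) := by rw [hy]; group
    have := hmk _ (hCn _ h1 q0 h0)
    rwa [show g * (g⁻¹ * c * g * q0 * (g⁻¹ * c * g)⁻¹) * g⁻¹ = c * (g * q0 * g⁻¹) * c⁻¹ by group] at this
  have hself' : ∀ c : G, c * y = y * c → (∀ q ∈ Q', c * q = q * c) → c ∈ Q' := by
    intro c hc h
    have h1 : (g⁻¹ * c * g) * z = z * (g⁻¹ * c * g) := by
      calc (g⁻¹ * c * g) * z = g⁻¹ * (c * y) * g := by rw [hy]; group
        _ = g⁻¹ * (y * c) * g := by rw [hc]
        _ = z * (g⁻¹ * c * g) := by rw [hy]; group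
    have := hmk _ (hself _ h1 fun q hq => by
      calc g⁻¹ * c * g * q = g⁻¹ * (c * (g * q * g⁻¹)) * g := by group
        _ = g⁻¹ * ((g * q * g⁻¹) * c) * g := by rw [h _ (hmk q hq)]
        _ = q * (g⁻¹ * c * g) := by group)
    rwa [show g * (g⁻¹ * c * g) * g⁻¹ = c by group] at this
  have hyQ' : y ∈ Q' := hmk z hzQ
  -- an element of `Q` moving `y`
  obtain ⟨q0, hq0, hq0y⟩ : ∃ q0 ∈ Q, q0 * y * q0⁻¹ = y * z := by
    by_contra hno
    push Not at hno
    have hc : ∀ r ∈ Q, y * r = r * y := by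
      intro r hr
      rcases hcomQ r hr y hin with e | e
      · calc y * r = (r * y * r⁻¹ * y⁻¹) * y * r := by rw [e, one_mul]
          _ = r * y := by group
      · refine absurd ?_ (hno r hr)
        calc r * y * r⁻¹ = (r * y * r⁻¹ * y⁻¹) * y := by group
          _ = y * z := by rw [e, hzy]
    rcases hcenQ y hin hc hy2 with e | e
    · exact hy1 e
    · exact hne e
  have hq0z : q0 * z * q0⁻¹ = z := by rw [hcQ q0 hq0, mul_inv_cancel_right]
  have hzQ' : z ∈ Q' := by
    by_contra hz'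
    have hR : ∀ x ∈ Q', x * z * x⁻¹ = y * z → False := by
      intro x hx hxz
      have hxy : x * y * x⁻¹ = y := by rw [hcQ' x hx, mul_inv_cancel_right]
      set h := x * q0 * x
      have hhy : h * y * h⁻¹ = z := by
        calc h * y * h⁻¹ = x * (q0 * (x * y * x⁻¹) * q0⁻¹) * x⁻¹ := by simp only [h]; group
          _ = (x * y * x⁻¹) * (x * z * x⁻¹) := by
            rw [show q0 * (x * y * x⁻¹) * q0⁻¹ = y * z by rw [hxy, hq0y]]; group
          _ = z := by rw [hxy, hxz, ← mul_assoc, hy2, one_mul]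
      have hhz : h * z * h⁻¹ = y := by
        calc h * z * h⁻¹ = x * (q0 * (x * z * x⁻¹) * q0⁻¹) * x⁻¹ := by simp only [h]; group
          _ = x * ((q0 * y * q0⁻¹) * (q0 * z * q0⁻¹)) * x⁻¹ := by rw [hxz]; group
          _ = y := by rw [hq0y, hq0z, mul_assoc y, hz2, mul_one, hxy]
      have hc : (g⁻¹ * h) * z = z * (g⁻¹ * h) := by
        calc g⁻¹ * h * z = g⁻¹ * (h * z * h⁻¹) * h := by group
          _ = g⁻¹ * y * h := by rw [hhz]
          _ = z * (g⁻¹ * h) := by rw [hy]; group
      have := hmk _ (hCn _ hc y hin)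
      rw [show g * (g⁻¹ * h * y * (g⁻¹ * h)⁻¹) * g⁻¹ = h * y * h⁻¹ by group, hhy] at this
      exact hz' this
    have hzy' : z * y = y * z := hzy
    have hR' : ∀ x ∈ Q', (x * z * x⁻¹ * z⁻¹ = 1 ∨ x * z * x⁻¹ * z⁻¹ = y) → x * z = z * x := by
      intro x hx h
      rcases h with e | e
      · calc x * z = (x * z * x⁻¹ * z⁻¹) * z * x := by group
          _ = z * x := by rw [e, one_mul]
      · refine (hR x hx ?_).elim
        calc x * z * x⁻¹ = (x * z * x⁻¹ * z⁻¹) * z := by group
          _ = y * z := by rw [e]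
    have hzn : ∀ q ∈ Q', z * q * z⁻¹ ∈ Q' := hCn' z hzy
    have hzZ : ∀ w ∈ Q', (∀ r ∈ Q', w * r = r * w) → w * z = z * w := by
      intro w hw hc
      set v := w * (z * w * z⁻¹)⁻¹ with hv
      have hw' := hzn w hw
      have hcw : ∀ r ∈ Q', (z * w * z⁻¹)⁻¹ * r = r * (z * w * z⁻¹)⁻¹ := fun r hr => by
        have h1 : z⁻¹ = z := inv_eq_of_mul_eq_one_right hz2
        have h2 : z * r * z⁻¹ ∈ Q' := hzn r hr
        have h3 := hc _ h2
        calc (z * w * z⁻¹)⁻¹ * r = z * (w⁻¹ * (z⁻¹ * r * z)) * z⁻¹ := by group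
          _ = z * (w⁻¹ * (z * r * z⁻¹)) * z⁻¹ := by rw [h1]
          _ = z * (w⁻¹ * ((z * r * z⁻¹) * w) * w⁻¹) * z⁻¹ := by group
          _ = z * (w⁻¹ * (w * (z * r * z⁻¹)) * w⁻¹) * z⁻¹ := by rw [h3]
          _ = (z * z) * r * (z⁻¹ * w⁻¹ * z⁻¹) := by group
          _ = r * (z * w * z⁻¹)⁻¹ := by rw [hz2, one_mul]; simp only [mul_inv_rev, h1, mul_assoc]
      have hvc : ∀ r ∈ Q', v * r = r * v := fun r hr => by
        rw [hv, mul_assoc, hcw r hr, ← mul_assoc, hc r hr, mul_assoc]
      have hv2 : v * v = 1 := by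
        calc v * v = w * ((z * w * z⁻¹)⁻¹ * w) * (z * w * z⁻¹)⁻¹ := by rw [hv]; group
          _ = (w * w) * (z * (w * w) * z⁻¹)⁻¹ := by rw [hcw w hw]; group
          _ = 1 := by
            rcases hsq' w hw with e | e <;> rw [e]
            · group
            · rw [hzy, mul_inv_cancel_right, mul_inv_cancel]
      refine hR' w hw ?_
      rw [show w * z * w⁻¹ * z⁻¹ = v by rw [hv]; group]
      exact hcenQ' v (Q'.mul_mem hw (Q'.inv_mem hw')) hvc hv2
    have hT : ∀ q ∈ Q', (q * z * q⁻¹ * z⁻¹) ∈ Q' ∧ (q * z * q⁻¹ * z⁻¹) * z = z * (q * z * q⁻¹ * z⁻¹) := by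
      intro q hq
      have h1 : q * z * q⁻¹ * z⁻¹ ∈ Q' := by
        have := Q'.mul_mem hq (hzn _ (Q'.inv_mem hq))
        rwa [show q * (z * q⁻¹ * z⁻¹) = q * z * q⁻¹ * z⁻¹ by group] at this
      refine ⟨h1, hR' _ h1 ?_⟩
      set t := q * z * q⁻¹ * z⁻¹ with ht
      have hzi : z⁻¹ = z := inv_eq_of_mul_eq_one_right hz2
      have : t * z * t⁻¹ * z⁻¹ = t * t := by
        calc t * z * t⁻¹ * z⁻¹ = t * ((z * z) * q * z⁻¹ * q⁻¹ * z⁻¹) := by rw [ht]; group
          _ = t * (q * z * q⁻¹ * z⁻¹) := by rw [hz2, hzi]; group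
      rw [this]
      exact hsq' t h1
    have hS : ∀ s ∈ Q', (∀ r ∈ Q', r * z = z * r → s * r = r * s) → s * z = z * s := by
      intro s hs hsc
      set v := s * z * s⁻¹ * z⁻¹ with hv
      obtain ⟨hvQ, hvz⟩ := hT s hs
      have hvc : ∀ q ∈ Q', v * q = q * v := by
        intro q hq
        obtain ⟨htQ, htz⟩ := hT q hq
        set t := q * z * q⁻¹ * z⁻¹ with ht
        have hst := hsc t htQ htz
        set s' := z * s * z⁻¹ with hs'
        have hs't : s' * t = t * s' := by
          calc s' * t = z * (s * (z⁻¹ * t * z)) * z⁻¹ := by rw [hs']; group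
            _ = z * (s * t) * z⁻¹ := by rw [mul_assoc z⁻¹, htz]; group
            _ = (z * t) * s * z⁻¹ := by rw [hst]; group
            _ = t * s' := by rw [← htz, hs']; group
        have hq' : z * q * z⁻¹ = t⁻¹ * q := by rw [ht]; group
        have hs'v : s' = v⁻¹ * s := by rw [hs', hv]; group
        set e := s * q * s⁻¹ * q⁻¹ with he
        have he' : s' * q * s'⁻¹ * q⁻¹ = e := by
          have h1 : z * e * z⁻¹ = e := by
            rcases hcomQ' s hs q hq with h | h <;> rw [he, h]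
            · group
            · rw [hzy, mul_inv_cancel_right]
          have h2 : z * e * z⁻¹ = s' * (t⁻¹ * q) * s'⁻¹ * (t⁻¹ * q)⁻¹ := by rw [← hq', he, hs']; group
          have h3 : s' * t⁻¹ = t⁻¹ * s' := ((show Commute s' t from hs't).inv_right).eq
          have het : t * e = e * t := by
            rcases hcomQ' s hs q hq with h | h <;> rw [he, h]
            · group
            · exact hcQ' t htQ
          calc s' * q * s'⁻¹ * q⁻¹ = t * ((t⁻¹ * s') * q * s'⁻¹ * (t⁻¹ * q)⁻¹) * t⁻¹ := by group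
            _ = t * (s' * (t⁻¹ * q) * s'⁻¹ * (t⁻¹ * q)⁻¹) * t⁻¹ := by rw [← h3]; group
            _ = t * e * t⁻¹ := by rw [← h2, h1]
            _ = e := by rw [het, mul_inv_cancel_right]
        have h4 : s' * q * s'⁻¹ = s * q * s⁻¹ := mul_right_cancel (b := q⁻¹) he'
        have hec : v * e = e * v := by
          rcases hcomQ' s hs q hq with h | h <;> rw [he, h]
          · group
          · exact hcQ' v hvQ
        have h5 : v * (e * q) * v⁻¹ = e * q := by
          have : s * q * s⁻¹ = e * q := by rw [he]; group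
          calc v * (e * q) * v⁻¹ = v * (s' * q * s'⁻¹) * v⁻¹ := by rw [h4, this]
            _ = s * q * s⁻¹ := by rw [hs'v]; group
            _ = e * q := this
        have h6 : e * (v * q) = e * (q * v) := by
          calc e * (v * q) = (v * e) * q := by rw [hec]; group
            _ = v * (e * q) * v⁻¹ * v := by group
            _ = e * (q * v) := by rw [h5]; group
        exact mul_left_cancel h6
      have hvz' := hzZ v hvQ hvc
      have hv2 : v * v = 1 := by
        have hzi : z⁻¹ = z := inv_eq_of_mul_eq_one_right hz2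
        have h1 : z * v * z⁻¹ = v := by rw [← hvz', mul_inv_cancel_right]
        calc v * v = v * (z * v * z⁻¹) := by rw [h1]
          _ = s * (z * z) * s⁻¹ * (z * z)⁻¹ := by rw [hv]; group
          _ = 1 := by rw [hz2]; group
      exact hR' s hs (hcenQ' v hvQ hvc hv2)
    have hzZ0 : z⁻¹ = z := inv_eq_of_mul_eq_one_right hz2
    -- the interaction of `D` and `R`
    have hD : ∀ q ∈ Q, q * y ≠ y * q → q * y * q⁻¹ = y * z := by
      intro q hq hne'
      rcases hcomQ q hq y hin with e | e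
      · exfalso
        apply hne'
        calc q * y = (q * y * q⁻¹ * y⁻¹) * y * q := by group
          _ = y * q := by rw [e, one_mul]
      · calc q * y * q⁻¹ = (q * y * q⁻¹ * y⁻¹) * y := by group
          _ = y * z := by rw [e, hzy]
    have hsplit : ∀ q ∈ Q, q * y = y * q ∨ ∃ d ∈ Q, d * y = y * d ∧ q = q0 * d := by
      intro q hq
      by_cases h : q * y = y * q
      · exact Or.inl h
      · refine Or.inr ⟨q0⁻¹ * q, Q.mul_mem (Q.inv_mem hq0) hq, ?_, (mul_inv_cancel_left q0 q).symm⟩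
        calc q0⁻¹ * q * y = q0⁻¹ * (q * y * q⁻¹) * q := by group
          _ = q0⁻¹ * (q0 * y * q0⁻¹) * q := by rw [hD q hq h, hq0y]
          _ = y * (q0⁻¹ * q) := by group
    have hcent : ∀ i ∈ Q, i * i = 1 → (∀ d ∈ Q, d * y = y * d → i * d = d * i) → i = 1 ∨ i = z ∨ i = y ∨ i = y * z := by
      intro i hi hi2 hid
      have hiy : i * y = y * i := by
        by_contra hne'
        exact hne' (hid y hin rfl)
      have hkey : ∀ j ∈ Q, j * j = 1 → (∀ d ∈ Q, d * y = y * d → j * d = d * j) → j * q0 = q0 * j → j = 1 ∨ j = z := by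
        intro j hj hj2 hjd hj0
        refine hcenQ j hj (fun r hr => ?_) hj2
        rcases hsplit r hr with h | ⟨d, hd, hdy, rfl⟩
        · exact hjd r hr h
        · rw [← mul_assoc, hj0, mul_assoc, hjd d hd hdy, ← mul_assoc]
      rcases hcomQ i hi q0 hq0 with e | e
      · have : i * q0 = q0 * i := by
          calc i * q0 = (i * q0 * i⁻¹ * q0⁻¹) * q0 * i := by group
            _ = q0 * i := by rw [e, one_mul]
        rcases hkey i hi hi2 hid this with h | h
        · exact Or.inl h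
        · exact Or.inr (Or.inl h)
      · have h0 : y * i * q0 = q0 * (y * i) := by
          have hyq : q0 * y = y * z * q0 := by rw [← hq0y]; group
          have hiq : q0 * i = z * (i * q0) := by
            have : i * q0 = z * (q0 * i) := by
              calc i * q0 = (i * q0 * i⁻¹ * q0⁻¹) * (q0 * i) := by group
                _ = z * (q0 * i) := by rw [e]
            rw [this, ← mul_assoc, hz2, one_mul]
          calc y * i * q0 = y * (z * z) * (i * q0) := by rw [hz2]; group
            _ = y * z * (z * (i * q0)) := by group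
            _ = y * z * q0 * i := by rw [← hiq]; group
            _ = q0 * (y * i) := by rw [← hyq]; group
        have hji : (y * i) * (y * i) = 1 := by
          calc (y * i) * (y * i) = y * (i * y) * i := by group
            _ = 1 := by rw [hiy, ← mul_assoc, hy2, one_mul, hi2]
        rcases hkey (y * i) (Q.mul_mem hin hi) hji (fun d hd hdy => by
            calc y * i * d = y * (i * d) := mul_assoc _ _ _
              _ = (d * y) * i := by rw [hid d hd hdy, ← mul_assoc, hdy]
              _ = d * (y * i) := mul_assoc _ _ _) h0 with h | h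
        · refine Or.inr (Or.inr (Or.inl ?_))
          calc i = (y * y) * i := by rw [hy2, one_mul]
            _ = y := by rw [mul_assoc, h, mul_one]
        · refine Or.inr (Or.inr (Or.inr ?_))
          calc i = (y * y) * i := by rw [hy2, one_mul]
            _ = y * z := by rw [mul_assoc, h]
    have hI : ∀ i ∈ Q, i ∈ Q' → i * y = y * i → i = 1 ∨ i = y := by
      intro i hi hi' hiy
      have hi2 : i * i = 1 := by
        rcases hsq i hi with e | e
        · exact e
        · exact absurd (e ▸ Q'.mul_mem hi' hi') hz'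
      have hid : ∀ d ∈ Q, d * y = y * d → i * d = d * i := by
        intro d hd hdy
        rcases hcomQ i hi d hd with e | e
        · calc i * d = (i * d * i⁻¹ * d⁻¹) * d * i := by group
            _ = d * i := by rw [e, one_mul]
        · refine absurd ?_ hz'
          rw [← e]
          have := Q'.mul_mem hi' (hCn' d hdy _ (Q'.inv_mem hi'))
          rwa [show i * (d * i⁻¹ * d⁻¹) = i * d * i⁻¹ * d⁻¹ by group] at this
      rcases hcent i hi hi2 hid with e | e | e | e
      · exact Or.inl e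
      · exact absurd (e ▸ hi') hz'
      · exact Or.inr e
      · refine absurd ?_ hz'
        have := Q'.mul_mem hyQ' (e ▸ hi' : y * z ∈ Q')
        rwa [← mul_assoc, hy2, one_mul] at this
    have hDR : ∀ d ∈ Q, d * y = y * d → ∀ r ∈ Q', r * z = z * r → d * r * d⁻¹ * r⁻¹ = 1 ∨ d * r * d⁻¹ * r⁻¹ = y := by
      intro d hd hdy r hr hrz
      refine hI _ ?_ (Q'.mul_mem (hCn' d hdy r hr) (Q'.inv_mem hr)) ?_
      · have := Q.mul_mem hd (hCn r hrz _ (Q.inv_mem hd))
        rwa [show d * (r * d⁻¹ * r⁻¹) = d * r * d⁻¹ * r⁻¹ by group] at this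
      · exact hcQ' _ (Q'.mul_mem (hCn' d hdy r hr) (Q'.inv_mem hr))
    have hd2 : ∀ d ∈ Q, d * y = y * d → d * d = 1 := by
      intro d hd hdy
      rcases hsq d hd with e | e
      · exact e
      exfalso
      refine hz' (hself' z hzy fun q hq => (hR' q hq ?_).symm)
      set s := q * d * q⁻¹ * d⁻¹ with hs
      have hsQ : s ∈ Q' := by
        have := Q'.mul_mem hq (hCn' d hdy _ (Q'.inv_mem hq))
        rwa [show q * (d * q⁻¹ * d⁻¹) = s by rw [hs]; group] at this
      have hsR : s * z = z * s := by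
        refine hS s hsQ fun r hr hrz => ?_
        set ε := d * r * d⁻¹ * r⁻¹ with hε
        set f := q * r * q⁻¹ * r⁻¹ with hf
        have hfd : d * f * d⁻¹ = f := by
          rcases hcomQ' q hq r hr with h | h <;> rw [hf, h]
          · group
          · rw [hdy, mul_inv_cancel_right]
        set q' := d * q * d⁻¹ with hq'
        have hq'Q : q' ∈ Q' := hCn' d hdy q hq
        have hεq : q' * ε = ε * q' := by
          rcases hDR d hd hdy r hr hrz with h | h <;> rw [hε, h]
          · group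
          · exact hcQ' _ hq'Q
        have hεr : ε * r * ε⁻¹ = r := by
          rcases hDR d hd hdy r hr hrz with h | h <;> rw [hε, h]
          · group
          · rw [← hcQ' r hr, mul_inv_cancel_right]
        have hεq' : ε * (q' * r * q'⁻¹ * r⁻¹) * ε⁻¹ = q' * r * q'⁻¹ * r⁻¹ := by
          have h1 : ε * q' * ε⁻¹ = q' := by rw [← hεq, mul_inv_cancel_right]
          calc ε * (q' * r * q'⁻¹ * r⁻¹) * ε⁻¹ =
              (ε * q' * ε⁻¹) * (ε * r * ε⁻¹) * (ε * q' * ε⁻¹)⁻¹ * (ε * r * ε⁻¹)⁻¹ := by group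
            _ = q' * r * q'⁻¹ * r⁻¹ := by rw [h1, hεr]
        have h2 : q' * r * q'⁻¹ * r⁻¹ = f := by
          have e1 : d * f * d⁻¹ = q' * (ε * r) * q'⁻¹ * (ε * r)⁻¹ := by rw [hf, hq', hε]; group
          have e2 : q' * (ε * r) * q'⁻¹ * (ε * r)⁻¹ = ε * (q' * r * q'⁻¹ * r⁻¹) * ε⁻¹ := by
            calc q' * (ε * r) * q'⁻¹ * (ε * r)⁻¹ = (q' * ε) * r * q'⁻¹ * (ε * r)⁻¹ := by group
              _ = (ε * q') * r * q'⁻¹ * (ε * r)⁻¹ := by rw [hεq]
              _ = ε * (q' * r * q'⁻¹ * r⁻¹) * ε⁻¹ := by group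
          rw [← hfd, e1, e2, hεq']
        have h3 : q' * r * q'⁻¹ = q * r * q⁻¹ := mul_right_cancel (b := r⁻¹) h2
        have hsq'' : s = q * q'⁻¹ := by rw [hs, hq']; group
        have hrq : q' * (r * (q'⁻¹ * q)) = q' * ((q'⁻¹ * q) * r) := by
          calc q' * (r * (q'⁻¹ * q)) = (q' * r * q'⁻¹) * q := by group
            _ = q' * ((q'⁻¹ * q) * r) := by rw [h3]; group
        have h4 := mul_left_cancel hrq
        -- `s` differs from `q'⁻¹ q` by a central element
        rcases hcomQ' q hq q'⁻¹ (Q'.inv_mem hq'Q) with h | h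
        · have : s = q'⁻¹ * q := by
            rw [hsq'']
            calc q * q'⁻¹ = (q * q'⁻¹ * q⁻¹ * q'⁻¹⁻¹) * q'⁻¹ * q := by group
              _ = q'⁻¹ * q := by rw [h, one_mul]
          rw [this]; exact h4.symm
        · have : s = y * (q'⁻¹ * q) := by
            rw [hsq'']
            calc q * q'⁻¹ = (q * q'⁻¹ * q⁻¹ * q'⁻¹⁻¹) * (q'⁻¹ * q) := by group
              _ = y * (q'⁻¹ * q) := by rw [h]
          rw [this, mul_assoc, ← h4, ← mul_assoc, ← hcQ' r hr, mul_assoc]
      have hds : ∃ ε : G, (ε = 1 ∨ ε = y) ∧ d * s * d⁻¹ = ε * s := ⟨_, hDR d hd hdy s hsQ hsR, by group⟩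
      obtain ⟨ε, hε, hεs⟩ := hds
      have key : z * q * z⁻¹ = s⁻¹ * ε⁻¹ * s⁻¹ * q := by
        calc z * q * z⁻¹ = (d * d) * q * (d * d)⁻¹ := by rw [e]
          _ = d * (s⁻¹ * q) * d⁻¹ := by rw [hs]; group
          _ = (d * s * d⁻¹)⁻¹ * (d * q * d⁻¹) := by group
          _ = s⁻¹ * ε⁻¹ * s⁻¹ * q := by rw [hεs, hs]; group
      have h5 : q * z * q⁻¹ * z⁻¹ = s * ε * s := by
        calc q * z * q⁻¹ * z⁻¹ = q * (z * q * z⁻¹)⁻¹ := by group
          _ = s * ε * s := by rw [key]; group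
      rw [h5]
      rcases hε with rfl | rfl
      · rw [mul_one]; exact hsq' s hsQ
      · rw [hcQ' s hsQ, mul_assoc]
        rcases hsq' s hsQ with h | h <;> rw [h]
        · exact Or.inr (mul_one y)
        · exact Or.inl hy2
    have hDab : ∀ a ∈ Q, a * y = y * a → ∀ b ∈ Q, b * y = y * b → a * b = b * a := by
      intro a ha hay b hb hby
      have h1 := hd2 (a * b) (Q.mul_mem ha hb) (by rw [mul_assoc, hby, ← mul_assoc, hay, mul_assoc])
      have e3 := inv_eq_of_mul_eq_one_right h1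
      rw [mul_inv_rev, inv_eq_of_mul_eq_one_right (hd2 a ha hay), inv_eq_of_mul_eq_one_right (hd2 b hb hby)] at e3
      exact e3.symm
    have hRy : ∀ x ∈ Q', x * z = z * x → x = 1 ∨ x = y := by
      intro x hx hxz
      have hxy := hcQ' x hx
      have hcD : ∀ d ∈ Q, d * y = y * d → x * d = d * x := by
        intro d hd hdy
        rcases hcent d hd (hd2 d hd hdy) (fun d' hd' hd'y => hDab d hd hdy d' hd' hd'y) with e | e | e | e <;> rw [e]
        · group
        · exact hxz
        · exact hxy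
        · rw [← mul_assoc, hxy, mul_assoc, hxz, ← mul_assoc]
      obtain ⟨d, hd, hdy, hxq⟩ : ∃ d ∈ Q, d * y = y * d ∧ x * q0 * x⁻¹ = q0 * d := by
        rcases hsplit _ (hCn x hxz q0 hq0) with h | h
        · exfalso
          have h1 : q0 * y = y * q0 := by
            calc q0 * y = x⁻¹ * (x * q0 * x⁻¹ * (x * y * x⁻¹)) * x := by group
              _ = x⁻¹ * (x * q0 * x⁻¹ * y) * x := by rw [hxy, mul_inv_cancel_right]
              _ = x⁻¹ * y * x * q0 := by rw [h]; group
              _ = y * q0 := by rw [mul_assoc x⁻¹ y x, ← hxy, inv_mul_cancel_left]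
          rw [h1, mul_inv_cancel_right] at hq0y
          exact hz1 (mul_left_cancel (hq0y.symm.trans (mul_one y).symm))
        · exact h
      have hdd : d = 1 ∨ d = z := by
        have h1 : (q0 * d) * (q0 * d) = q0 * q0 := by
          calc (q0 * d) * (q0 * d) = x * (q0 * q0) * x⁻¹ := by rw [← hxq]; group
            _ = q0 * q0 := by
              rcases hsq q0 hq0 with e | e <;> rw [e]
              · group
              · rw [hxz, mul_inv_cancel_right]
        rcases hcent d hd (hd2 d hd hdy) (fun d' hd' hd'y => hDab d hd hdy d' hd' hd'y) with e | e | e | e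
        · exact Or.inl e
        · exact Or.inr e
        · exfalso
          subst e
          have h2 : (q0 * y * q0⁻¹) * q0 * q0 * y = q0 * q0 := by rw [← h1]; group
          rcases hsq q0 hq0 with e' | e'
          · rw [mul_assoc (q0 * y * q0⁻¹), e', mul_one, hq0y, mul_assoc, hzy, ← mul_assoc, hy2, one_mul] at h2
            exact hz1 h2
          · rw [mul_assoc (q0 * y * q0⁻¹), e', hq0y, mul_assoc y z z, hz2, mul_one, hy2] at h2
            exact hz1 h2.symm
        · exfalso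
          subst e
          have h2 : (q0 * y * q0⁻¹) * (q0 * z * q0⁻¹) * q0 * q0 * (y * z) = q0 * q0 := by rw [← h1]; group
          rw [hq0y, hq0z, mul_assoc y z z, hz2, mul_one] at h2
          rcases hsq q0 hq0 with e' | e'
          · rw [mul_assoc y q0 q0, e', mul_one, ← mul_assoc, hy2, one_mul] at h2
            exact hz1 h2
          · rw [mul_assoc y q0 q0, e', ← mul_assoc (y * z), mul_assoc y z y, hzy, ← mul_assoc, hy2, one_mul, hz2] at h2
            exact hz1 h2.symm
      rcases hdd with rfl | rfl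
      · refine hI x (hself x hxz fun r hr => ?_) hx hxy
        rcases hsplit r hr with h | ⟨d', hd', hd'y, rfl⟩
        · exact hcD r hr h
        · rw [mul_one] at hxq
          rw [← mul_assoc, show x * q0 = q0 * x by rw [← mul_inv_eq_iff_eq_mul]; exact hxq, mul_assoc, hcD d' hd' hd'y, ← mul_assoc]
      · have hxq' : y * x * q0 = q0 * (y * x) := by
          have h1 : x * q0 = q0 * d * x := by rw [← hxq]; group
          calc y * x * q0 = y * (q0 * d) * x := by rw [mul_assoc, h1]; group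
            _ = y * (d * q0) * x := by rw [hcQ q0 hq0]
            _ = (q0 * y * q0⁻¹) * q0 * x := by rw [hq0y]; group
            _ = q0 * (y * x) := by group
        have hyxz : y * x * d = d * (y * x) := by rw [mul_assoc, hxz, ← mul_assoc, ← hzy, mul_assoc]
        have hmem : y * x ∈ Q := hself _ hyxz fun r hr => by
          rcases hsplit r hr with h | ⟨d', hd', hd'y, rfl⟩
          · rw [mul_assoc, hcD r hr h, ← mul_assoc, ← h, mul_assoc]
          · rw [← mul_assoc, hxq', mul_assoc q0, mul_assoc y x d', hcD d' hd' hd'y, ← mul_assoc y d' x, ← hd'y]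
            group
        rcases hI (y * x) hmem (Q'.mul_mem hyQ' hx) (by rw [mul_assoc, hxy]) with h | h
        · exact Or.inr (by rw [← one_mul x, ← hy2, mul_assoc, h, mul_one])
        · exact Or.inl (mul_left_cancel (h.trans (mul_one y).symm))
    -- so `Q'` is trivial
    have hall : ∀ q ∈ Q', q = 1 ∨ q = y := by
      intro q hq
      obtain ⟨htQ, htz⟩ := hT q hq
      exact hRy q hq (hR' q hq (hRy _ htQ htz))
    rcases hall _ (hmk y hin) with e | e
    · exact hy1 (conj_eq_one_iff.mp e)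
    · exact hne (mul_left_cancel (mul_right_cancel e))
  refine ⟨hzQ', ?_⟩
  -- an element of `Q'` moving `z`
  obtain ⟨x0, hx0, hx0z⟩ : ∃ x0 ∈ Q', x0 * z * x0⁻¹ = y * z := by
    by_contra hno
    push Not at hno
    have hc : ∀ r ∈ Q', z * r = r * z := by
      intro r hr
      rcases hcomQ' r hr z hzQ' with e | e
      · calc z * r = (r * z * r⁻¹ * z⁻¹) * z * r := by rw [e, one_mul]
          _ = r * z := by group
      · refine absurd ?_ (hno r hr)
        calc r * z * r⁻¹ = (r * z * r⁻¹ * z⁻¹) * z := by group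
          _ = y * z := by rw [e]
    rcases hcenQ' z hzQ' hc hz2 with e | e
    · exact hz1 e
    · exact hne e.symm
  have hx0y : x0 * y * x0⁻¹ = y := by rw [hcQ' x0 hx0, mul_inv_cancel_right]
  have hq0m : q0 ∈ Q ⊔ Q' := Subgroup.mem_sup_left hq0
  have hx0m : x0 ∈ Q ⊔ Q' := Subgroup.mem_sup_right hx0
  let V : Subgroup G :=
    { carrier := {u | u = 1 ∨ u = z ∨ u = y ∨ u = y * z}
      one_mem' := Or.inl rfl
      mul_mem' := by
        have e1 : z * (y * z) = y := by rw [← mul_assoc, hzy, mul_assoc, hz2, mul_one]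
        have e2 : y * z * y = z := by rw [mul_assoc, hzy, ← mul_assoc, hy2, one_mul]
        have e3 : y * z * (y * z) = 1 := by rw [← mul_assoc, e2, hz2]
        have e4 : y * (y * z) = z := by rw [← mul_assoc, hy2, one_mul]
        have e5 : y * z * z = y := by rw [mul_assoc, hz2, mul_one]
        rintro a b (rfl | rfl | rfl | rfl) (rfl | rfl | rfl | rfl) <;>
          simp only [one_mul, mul_one, hz2, hy2, hzy, e1, e2, e3, e4, e5, Set.mem_setOf_eq, true_or, or_true]
      inv_mem' := by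
        have e3 : (y * z)⁻¹ = y * z := inv_eq_of_mul_eq_one_right (by
          rw [← mul_assoc, mul_assoc y z y, hzy, ← mul_assoc, hy2, one_mul, hz2])
        rintro a (rfl | rfl | rfl | rfl) <;>
          simp only [inv_one, inv_eq_of_mul_eq_one_right hz2, inv_eq_of_mul_eq_one_right hy2, e3, Set.mem_setOf_eq, true_or, or_true] }
  have hV : Subgroup.closure ({z, y} : Set G) ≤ V := (Subgroup.closure_le _).mpr (by
    rintro u (rfl | rfl)
    · exact Or.inr (Or.inl rfl)
    · exact Or.inr (Or.inr (Or.inl rfl)))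
  intro u hu v hv hu1 hv1 huv
  rcases (hV hu).resolve_left hu1 with eu | eu | eu <;> rcases (hV hv).resolve_left hv1 with ev | ev | ev
  · exact absurd (eu.trans ev.symm) huv
  · exact ⟨1, Subgroup.one_mem _, by rw [eu]; group, by rw [ev]; group⟩
  · exact ⟨q0, hq0m, by rw [eu]; exact hq0z, by rw [ev]; exact hq0y⟩
  · refine ⟨x0 * q0 * x0, Subgroup.mul_mem _ (Subgroup.mul_mem _ hx0m hq0m) hx0m, ?_, ?_⟩
    · calc x0 * q0 * x0 * z * (x0 * q0 * x0)⁻¹ = x0 * (q0 * (x0 * z * x0⁻¹) * q0⁻¹) * x0⁻¹ := by group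
        _ = x0 * ((q0 * y * q0⁻¹) * (q0 * z * q0⁻¹)) * x0⁻¹ := by rw [hx0z]; group
        _ = u := by rw [hq0y, hq0z, mul_assoc y, hz2, mul_one, hx0y, eu]
    · calc x0 * q0 * x0 * y * (x0 * q0 * x0)⁻¹ = x0 * (q0 * (x0 * y * x0⁻¹) * q0⁻¹) * x0⁻¹ := by group
        _ = (x0 * y * x0⁻¹) * (x0 * z * x0⁻¹) := by
          rw [show q0 * (x0 * y * x0⁻¹) * q0⁻¹ = y * z by rw [hx0y, hq0y]]; group
        _ = v := by rw [hx0y, hx0z, ← mul_assoc, hy2, one_mul, ev]
  · exact absurd (eu.trans ev.symm) huv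
  · refine ⟨q0 * x0, Subgroup.mul_mem _ hq0m hx0m, ?_, ?_⟩
    · calc q0 * x0 * z * (q0 * x0)⁻¹ = (q0 * y * q0⁻¹) * (q0 * z * q0⁻¹) := by
            rw [show q0 * x0 * z * (q0 * x0)⁻¹ = q0 * (x0 * z * x0⁻¹) * q0⁻¹ by group, hx0z]; group
        _ = u := by rw [hq0y, hq0z, mul_assoc, hz2, mul_one, eu]
    · calc q0 * x0 * y * (q0 * x0)⁻¹ = q0 * (x0 * y * x0⁻¹) * q0⁻¹ := by group
        _ = v := by rw [hx0y, hq0y, ev]
  · refine ⟨x0 * q0, Subgroup.mul_mem _ hx0m hq0m, ?_, ?_⟩
    · calc x0 * q0 * z * (x0 * q0)⁻¹ = x0 * (q0 * z * q0⁻¹) * x0⁻¹ := by group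
        _ = u := by rw [hq0z, hx0z, eu]
    · calc x0 * q0 * y * (x0 * q0)⁻¹ = (x0 * y * x0⁻¹) * (x0 * z * x0⁻¹) := by
            rw [show x0 * q0 * y * (x0 * q0)⁻¹ = x0 * (q0 * y * q0⁻¹) * x0⁻¹ by group, hq0y]; group
        _ = v := by rw [hx0y, hx0z, ← mul_assoc, hy2, one_mul, ev]
  · exact ⟨x0, hx0m, by rw [eu]; exact hx0z, by rw [ev]; exact hx0y⟩
  · exact absurd (eu.trans ev.symm) huv

end Cfsg.Agent.S1774
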