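import Cfsg.Statements.S1775
import Cfsg.Agent.Lib.Comp.PTerminalBase
import Cfsg.Agent.Lib.Comp.StandardMax
import Cfsg.Agent.Lib.Comp.LayerMore
import Cfsg.Agent.Lib.PSolvable

set_option autoImplicit false
set_option linter.unusedVariables false
open Cfsg
open scoped commutatorElement

namespace Cfsg.Agent.S1775

universe u
open CfsgLib CfsgLib.Comp in
theorem key {C : Type u} [Group C] [Finite C] (x : C) (hx : orderOf x = 2)
    (hB : Cfsg.HasBProperty (C ⧸ Cfsg.oddCore C)) (K : Subgroup C)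
    (hK : IsPC 2 K (Subgroup.centralizer ({x} : Set C))) :
    Cfsg.IsComponent ((K.map (QuotientGroup.mk' (Cfsg.oddCore C))).subgroupOf
        (Subgroup.centralizer ({QuotientGroup.mk' (Cfsg.oddCore C) x} : Set (C ⧸ Cfsg.oddCore C)))) ∧
      ∀ E : Subgroup C, E ≤ Subgroup.centralizer ({x} : Set C) → Odd (Nat.card E) →
        (∀ j ∈ K, ∀ e ∈ E, j * e * j⁻¹ ∈ E) → ⁅K, E⁆ ≤ Cfsg.oddCore C := by
  haveI : Fact (Nat.Prime 2) := ⟨Nat.prime_two⟩
  set O := Cfsg.oddCore C with hO
  set π := QuotientGroup.mk' O with hπ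
  have hcopO : (Nat.card O).Coprime 2 := card_pPrimeCore_coprime 2
  have hxO : x ∉ O := fun h => by
    have h1 := orderOf_dvd_natCard (⟨x, h⟩ : O)
    rw [Subgroup.orderOf_mk, hx] at h1
    exact absurd (Nat.eq_one_of_dvd_coprimes hcopO h1 dvd_rfl) (by norm_num)
  have hx2 : orderOf (π x) = 2 := by
    refine orderOf_eq_prime ?_ fun h => hxO ((QuotientGroup.eq_one_iff x).mp h)
    rw [← map_pow, show x ^ 2 = 1 from hx ▸ pow_orderOf_eq_one x, map_one]
  have hmap := map_centralizer_bar (p := 2) (x := x) (n := 1) (by rw [pow_one, ← hx, pow_orderOf_eq_one])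
  set CQ := Subgroup.centralizer ({π x} : Set (C ⧸ O)) with hCQ
  have hker : (Nat.card ↥(Subgroup.centralizer ({x} : Set C) ⊓ π.ker)).Coprime 2 :=
    Nat.Coprime.coprime_dvd_left
      (Subgroup.card_dvd_of_le (inf_le_right.trans (le_of_eq (QuotientGroup.ker_mk' O)))) hcopO
  obtain ⟨h1, -⟩ := hK.map π hker
  rw [show (Subgroup.centralizer ({x} : Set C)).map π = CQ from hmap] at h1
  have h2 := h1.toPComp
  have hOQ : Cfsg.oddCore (C ⧸ O) = ⊥ := pPrimeCore_quotient_eq_bot 2
  have h3 := hB (π x) hx2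
  rw [hOQ, le_bot_iff, Subgroup.map_eq_bot_iff_of_injective _ (Subgroup.subtype_injective _)] at h3
  have hcomp : Cfsg.IsComponent ((K.map π).subgroupOf CQ) :=
    isComponent_of_pcomp_centralizes h2
      (le_bot_iff.mp (h3 ▸ Subgroup.commutator_mono (le_sSup h2) le_rfl))
  refine ⟨hcomp, fun E hE hodd hn => ?_⟩
  have hEle : E.map π ≤ CQ := by rw [← (show (Subgroup.centralizer ({x} : Set C)).map π = CQ from hmap)]
                                 exact Subgroup.map_mono hE
  set KQ := (K.map π).subgroupOf CQ with hKQ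
  set EQ := (E.map π).subgroupOf CQ with hEQ
  have hcard : Nat.card EQ ∣ Nat.card E := by
    rw [Nat.card_congr (Subgroup.subgroupOfEquivOfLe hEle).toEquiv]
    exact Subgroup.card_map_dvd _ _
  have hKn : KQ ≤ Subgroup.normalizer (EQ : Set CQ) := by
    intro k hk
    refine mem_normalizer_of_maps fun e he => ?_
    obtain ⟨j, hj, hjk⟩ := (Subgroup.mem_subgroupOf.mp hk)
    obtain ⟨e', he', hee⟩ := (Subgroup.mem_subgroupOf.mp he)
    refine Subgroup.mem_subgroupOf.mpr ⟨j * e' * j⁻¹, hn j hj e' he', ?_⟩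
    simp [hjk, hee]
  set N := Subgroup.normalizer (EQ : Set CQ) with hN
  haveI : (EQ.subgroupOf N).Normal :=
    (Subgroup.normal_subgroupOf_iff_le_normalizer Subgroup.le_normalizer).mpr le_rfl
  have hzero : ⁅KQ, EQ⁆ = ⊥ := by
    rcases component_le_or_commutator_eq_bot (isComponent_subgroupOf hcomp hKn) (EQ.subgroupOf N) with h | h
    · exfalso
      have hle : KQ ≤ EQ := fun k hk => Subgroup.mem_subgroupOf.mp (h (x := ⟨k, hKn hk⟩) hk)
      refine h1.not_le_coprime (A := E.map π) ?_ ?_
      · exact Nat.Coprime.coprime_dvd_left (Subgroup.card_map_dvd _ _) (Nat.coprime_two_right.mpr hodd)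
      · intro z hz
        exact Subgroup.mem_subgroupOf.mp (hle (x := ⟨z, h1.le hz⟩) hz)
    · exact commutator_subgroupOf_eq_bot hKn Subgroup.le_normalizer h
  rw [Subgroup.commutator_le]
  intro j hj e he
  have hjQ : π j ∈ CQ := h1.le ⟨j, hj, rfl⟩
  have heQ : π e ∈ CQ := hEle ⟨e, he, rfl⟩
  have := Subgroup.commutator_mem_commutator (show (⟨π j, hjQ⟩ : CQ) ∈ KQ from ⟨j, hj, rfl⟩)
    (show (⟨π e, heQ⟩ : CQ) ∈ EQ from ⟨e, he, rfl⟩)
  rw [hzero, Subgroup.mem_bot] at this
  have h4 := congrArg Subtype.val this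
  rw [← QuotientGroup.eq_one_iff, show ((⁅j, e⁆ : C) : C ⧸ O) = π ⁅j, e⁆ from rfl, map_commutatorElement]
  simpa [commutatorElement_def] using h4

/-- Let G be a finite group whose generalized Fitting subgroup is a non-abelian simple group and in which every proper section (every quotient H/N of a proper subgroup H, or of G by a nontrivial normal subgroup) has the B-property. Let x, y be commuting involutions, let D be the intersection of the 2-layer of C_G(x) with C_G(y), and let J be a 2-component of D. Write Q for the quotient of C_G(y) by its largest normal odd-order subgroup. Then (i) the image of J in Q is a component of the centralizer in Q of the image of x; and (ii) for every J-invariant subgroup E of odd order of C_G(x) ∩ C_G(y), the commutator subgroup [J, E] lies in the largest normal odd-order subgroup of C_G(y). -/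
theorem result {G : Type*} [Group G] [Finite G]
    (hF : IsSimpleGroup ↥(Cfsg.generalizedFittingSubgroup G)) (hF' : ¬ IsMulCommutative ↥(Cfsg.generalizedFittingSubgroup G))
    (hsec : ∀ (H : Subgroup G) (N : Subgroup ↥H) [N.Normal], (H ≠ ⊤ ∨ N ≠ ⊥) → Cfsg.HasBProperty (↥H ⧸ N))
    (x y : G) (hx : orderOf x = 2) (hy : orderOf y = 2) (hxy : x * y = y * x)
    (J : Subgroup ↥((Cfsg.pLayer 2 ↥(Subgroup.centralizer ({x} : Set G))).map (Subgroup.centralizer ({x} : Set G)).subtype ⊓ Subgroup.centralizer ({y} : Set G)))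
    (hJ : Cfsg.IsPComponent 2 J) :
    Cfsg.IsComponent
        ((((J.map (Subgroup.subtype _)).subgroupOf (Subgroup.centralizer ({y} : Set G))).map (QuotientGroup.mk' (Cfsg.oddCore ↥(Subgroup.centralizer ({y} : Set G))))).subgroupOf
          (Subgroup.centralizer ({(QuotientGroup.mk' (Cfsg.oddCore ↥(Subgroup.centralizer ({y} : Set G))) ⟨x, Subgroup.mem_centralizer_singleton_iff.mpr hxy⟩ : ↥(Subgroup.centralizer ({y} : Set G)) ⧸ Cfsg.oddCore ↥(Subgroup.centralizer ({y} : Set G)))} : Set _))) ∧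
      ∀ E : Subgroup G, E ≤ Subgroup.centralizer ({x} : Set G) ⊓ Subgroup.centralizer ({y} : Set G) → Odd (Nat.card ↥E) →
        (∀ j ∈ J.map (Subgroup.subtype _), ∀ e ∈ E, j * e * j⁻¹ ∈ E) →
          ⁅J.map (Subgroup.subtype _), E⁆ ≤ (Cfsg.oddCore ↥(Subgroup.centralizer ({y} : Set G))).map (Subgroup.centralizer ({y} : Set G)).subtype := by
  open scoped commutatorElement in
  haveI : Fact (Nat.Prime 2) := ⟨Nat.prime_two⟩
  have hJ'D : (J.map (((Cfsg.pLayer 2 ↥(Subgroup.centralizer ({x} : Set G))).map (Subgroup.centralizer ({x} : Set G)).subtype) ⊓ (Subgroup.centralizer ({y} : Set G))).subtype) ≤ (((Cfsg.pLayer 2 ↥(Subgroup.centralizer ({x} : Set G))).map (Subgroup.centralizer ({x} : Set G)).subtype) ⊓ (Subgroup.centralizer ({y} : Set G))) := Subgroup.map_subtype_le _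
  have h0 : CfsgLib.Comp.IsPC 2 (J.map (((Cfsg.pLayer 2 ↥(Subgroup.centralizer ({x} : Set G))).map (Subgroup.centralizer ({x} : Set G)).subtype) ⊓ (Subgroup.centralizer ({y} : Set G))).subtype) (((Cfsg.pLayer 2 ↥(Subgroup.centralizer ({x} : Set G))).map (Subgroup.centralizer ({x} : Set G)).subtype) ⊓ (Subgroup.centralizer ({y} : Set G))) := by
    refine CfsgLib.Comp.IsPC.of_pcompOf ⟨hJ'D, ?_⟩
    rw [Subgroup.subgroupOf, Subgroup.comap_map_eq_self_of_injective (((Cfsg.pLayer 2 ↥(Subgroup.centralizer ({x} : Set G))).map (Subgroup.centralizer ({x} : Set G)).subtype) ⊓ (Subgroup.centralizer ({y} : Set G))).subtype_injective]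
    exact hJ
  have hLn : (Subgroup.centralizer ({x} : Set G)) ≤ Subgroup.normalizer (((Cfsg.pLayer 2 ↥(Subgroup.centralizer ({x} : Set G))).map (Subgroup.centralizer ({x} : Set G)).subtype) : Set G) := by
    refine (Subgroup.normal_subgroupOf_iff_le_normalizer (Subgroup.map_subtype_le _)).mp ?_
    rw [Subgroup.subgroupOf, Subgroup.comap_map_eq_self_of_injective (Subgroup.centralizer ({x} : Set G)).subtype_injective]
    exact CfsgLib.Comp.pLayer_normal
  have hDM : (((Cfsg.pLayer 2 ↥(Subgroup.centralizer ({x} : Set G))).map (Subgroup.centralizer ({x} : Set G)).subtype) ⊓ (Subgroup.centralizer ({y} : Set G))) ≤ (Subgroup.centralizer ({x} : Set G)) ⊓ (Subgroup.centralizer ({y} : Set G)) := inf_le_inf_right _ (Subgroup.map_subtype_le _)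
  have h1 : CfsgLib.Comp.IsPC 2 (J.map (((Cfsg.pLayer 2 ↥(Subgroup.centralizer ({x} : Set G))).map (Subgroup.centralizer ({x} : Set G)).subtype) ⊓ (Subgroup.centralizer ({y} : Set G))).subtype) ((Subgroup.centralizer ({x} : Set G)) ⊓ (Subgroup.centralizer ({y} : Set G))) := h0.lift_normal hDM (fun g hg => CfsgLib.Comp.mem_normalizer_of_maps fun z hz =>
    ⟨(Subgroup.mem_normalizer_iff.mp (hLn hg.1) z).mp hz.1,
      Subgroup.mul_mem _ (Subgroup.mul_mem _ (Subgroup.mem_inf.mp hg).2 (Subgroup.mem_inf.mp hz).2) (Subgroup.inv_mem _ (Subgroup.mem_inf.mp hg).2)⟩)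
  have h2 := h1.subgroupOf (C := (Subgroup.centralizer ({y} : Set G))) inf_le_right
  let x' : (Subgroup.centralizer ({y} : Set G)) := ⟨x, Subgroup.mem_centralizer_singleton_iff.mpr hxy⟩
  have hx' : orderOf x' = 2 := by rw [← hx]; exact Subgroup.orderOf_mk _ _
  have hcx : ((Subgroup.centralizer ({x} : Set G)) ⊓ (Subgroup.centralizer ({y} : Set G))).subgroupOf (Subgroup.centralizer ({y} : Set G)) = Subgroup.centralizer ({x'} : Set (Subgroup.centralizer ({y} : Set G))) := by
    ext z
    rw [Subgroup.mem_subgroupOf, Subgroup.mem_inf, Subgroup.mem_centralizer_singleton_iff,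
      Subgroup.mem_centralizer_singleton_iff]
    rw [Subgroup.mem_centralizer_singleton_iff, Subtype.ext_iff]
    exact ⟨fun h => h.1, fun h => ⟨h, Subgroup.mem_centralizer_singleton_iff.mp z.2⟩⟩
  rw [hcx] at h2
  have hCy' : (Subgroup.centralizer ({y} : Set G)) ≠ ⊤ := by
    intro h
    have hyc : y ∈ Subgroup.center G := Subgroup.mem_center_iff.mpr fun g =>
      Subgroup.mem_centralizer_singleton_iff.mp (h ▸ Subgroup.mem_top g : g ∈ (Subgroup.centralizer ({y} : Set G)))
    let F := Cfsg.generalizedFittingSubgroup G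
    have hZF : Subgroup.center G ≤ F :=
      le_trans (CfsgLib.le_fittingSubgroup (CfsgLib.Comp.nilpotent_of_comm fun a ha b _ =>
        (Subgroup.mem_center_iff.mp ha b).symm)) le_sup_right
    haveI := hF
    rcases (inferInstance : ((Subgroup.center G).subgroupOf F).Normal).eq_bot_or_eq_top with h1 | h1
    · have hy1 : y = 1 := congrArg Subtype.val ((Subgroup.eq_bot_iff_forall _).mp h1 ⟨y, hZF hyc⟩ hyc)
      rw [hy1, orderOf_one] at hy
      norm_num at hy
    · exact hF' ⟨⟨fun a b => Subtype.ext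
        (Subgroup.mem_center_iff.mp (Subgroup.mem_subgroupOf.mp (h1 ▸ Subgroup.mem_top b : b ∈ (Subgroup.center G).subgroupOf F)) a)⟩⟩
  obtain ⟨hc, hcom⟩ := key x' hx' (hsec (Subgroup.centralizer ({y} : Set G)) (Cfsg.oddCore ↥(Subgroup.centralizer ({y} : Set G))) (Or.inl hCy')) _ h2
  refine ⟨hc, fun E hE hodd hn => ?_⟩
  have hEy : E ≤ (Subgroup.centralizer ({y} : Set G)) := hE.trans inf_le_right
  have hkey := hcom (E.subgroupOf (Subgroup.centralizer ({y} : Set G))) (fun e he => by
      rw [Subgroup.mem_centralizer_singleton_iff]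
      exact Subtype.ext (Subgroup.mem_centralizer_singleton_iff.mp (hE he).1))
    (by rwa [Nat.card_congr (Subgroup.subgroupOfEquivOfLe hEy).toEquiv])
    (fun j hj e he => hn j hj e he)
  rw [show J.map (Subgroup.subtype _) = ((J.map (((Cfsg.pLayer 2 ↥(Subgroup.centralizer ({x} : Set G))).map (Subgroup.centralizer ({x} : Set G)).subtype) ⊓ (Subgroup.centralizer ({y} : Set G))).subtype).subgroupOf (Subgroup.centralizer ({y} : Set G))).map (Subgroup.centralizer ({y} : Set G)).subtype from
      (Subgroup.map_subgroupOf_eq_of_le (hJ'D.trans inf_le_right)).symm,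
    ← Subgroup.map_subgroupOf_eq_of_le hEy, ← Subgroup.map_commutator]
  exact Subgroup.map_mono hkey

end Cfsg.Agent.S1775
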