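import Cfsg.Statements.S1780

set_option autoImplicit false
open Cfsg

namespace Cfsg.Agent.S1780

/-- Let A be a finite abelian 2-group and t an automorphism of A whose order is a power of 2. If every element of A fixed by t² is fixed by t, then t fixes every element of A. -/
theorem result {A : Type*} [CommGroup A] [Finite A]
    (hA : IsPGroup 2 A) (t : MulAut A) (ht : ∃ k : ℕ, orderOf t = 2 ^ k) (hC : ∀ a : A, t (t a) = a → t a = a) :
    ∀ a : A, t a = a := by
  obtain ⟨k, hk⟩ := ht
  have htk : ∀ a : A, (t ^ (2 ^ k) : MulAut A) a = a := fun a => by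
    rw [← hk, pow_orderOf_eq_one]; rfl
  -- the endomorphism `a ↦ t a / a` on the elements of order dividing two
  let f : A → A := fun a => t a * a
  have hsq : ∀ a : A, a ^ 2 = 1 → a * a = 1 := fun a ha => by rwa [pow_two] at ha
  have hfsq : ∀ a : A, a ^ 2 = 1 → (f a) ^ 2 = 1 := fun a ha => by
    simp only [f]; rw [mul_pow, ← map_pow, ha, map_one, one_mul]
  have hpow : ∀ j : ℕ, ∀ a : A, a ^ 2 = 1 → f^[2 ^ j] a = (t ^ (2 ^ j) : MulAut A) a * a := by
    intro j
    induction j with
    | zero => intro a _; simp [f]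
    | succ j ih =>
      intro a ha
      have hb : ((t ^ (2 ^ j) : MulAut A) a * a) ^ 2 = 1 := by
        rw [mul_pow, ← map_pow, ha, map_one, one_mul]
      rw [pow_succ, Nat.mul_two, Function.iterate_add_apply, ih a ha, ih _ hb, map_mul,
        ← MulAut.mul_apply, ← pow_add]
      have hh : (t ^ (2 ^ j) : MulAut A) a * (t ^ (2 ^ j) : MulAut A) a = 1 := by
        rw [← map_mul, hsq a ha, map_one]
      calc _ = (t ^ (2 ^ j + 2 ^ j) : MulAut A) a * a *
          ((t ^ (2 ^ j) : MulAut A) a * (t ^ (2 ^ j) : MulAut A) a) := by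
            ac_rfl
        _ = _ := by rw [hh, mul_one]
  have h2 : ∀ a : A, a ^ 2 = 1 → t a = a := by
    have hstep : ∀ a : A, a ^ 2 = 1 → f (f a) = 1 → f a = 1 := by
      intro a ha h
      have h' : t (t a) * (t a * t a) * a = 1 := by
        simp only [f, map_mul] at h
        rw [← h]; ac_rfl
      rw [← map_mul, hsq a ha, map_one, mul_one] at h'
      have := hC a (by rw [mul_eq_one_iff_eq_inv.1 h', inv_eq_of_mul_eq_one_right (hsq a ha)])
      simp only [f, this, hsq a ha]
    have hkill : ∀ n : ℕ, ∀ a : A, a ^ 2 = 1 → f^[n + 1] a = 1 → f a = 1 := by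
      intro n
      induction n with
      | zero => intro a _ h; simpa using h
      | succ n ih =>
        intro a ha h
        exact hstep a ha (ih (f a) (hfsq a ha) h)
    intro a ha
    have h1 : f a = 1 := by
      refine hkill (2 ^ k) a ha ?_
      rw [Function.iterate_succ_apply', hpow k a ha, htk, hsq a ha]
      simp [f]
    rw [mul_eq_one_iff_eq_inv.1 h1, inv_eq_of_mul_eq_one_right (hsq a ha)]
  intro a
  induction hn : orderOf a using Nat.strong_induction_on generalizing a with
  | _ n ih =>
    by_cases ha : a ^ 2 = 1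
    · exact h2 a ha
    obtain ⟨e, he⟩ := (IsPGroup.iff_orderOf.1 hA) a
    have hlt : orderOf (a ^ 2) < n := by
      rcases e with _ | e
      · rw [pow_zero, orderOf_eq_one_iff] at he
        exact absurd (by simp [he]) ha
      rw [← hn, orderOf_pow' a two_ne_zero, he, Nat.gcd_eq_right (dvd_pow_self _ e.succ_ne_zero)]
      exact Nat.div_lt_self (pow_pos two_pos _) one_lt_two
    have h3 : t (a ^ 2) = a ^ 2 := ih _ hlt _ rfl
    have hc : (t a * a⁻¹) ^ 2 = 1 := by rw [mul_pow, ← map_pow, h3, inv_pow, mul_inv_cancel]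
    have hc' := h2 _ hc
    refine hC a ?_
    rw [map_mul, map_inv, mul_inv_eq_iff_eq_mul] at hc'
    rw [hc']
    calc t a * a⁻¹ * t a = (t a * a⁻¹) ^ 2 * a := by rw [pow_two]; simp [mul_comm, mul_left_comm]
      _ = a := by rw [hc, one_mul]

end Cfsg.Agent.S1780
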