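import Cfsg.Statements.S1781
import Cfsg.Agent.Lib.Local

set_option autoImplicit false
set_option linter.unusedVariables false
open Cfsg
open scoped commutatorElement

namespace Cfsg.Agent.S1781

open CfsgLib.Local

/-- If `u` of order four in the abelian TI subgroup `A` normalizes the abelian 2-subgroup `B`,
then `B` normalizes `A` and centralizes `u`. -/
theorem key {G : Type*} [Group G] (A B : Subgroup G) (hB2 : IsPGroup 2 B)
    (hAa : IsMulCommutative A) (hBa : IsMulCommutative B)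
    (hti : ∀ h : G, A.map (MulAut.conj h).toMonoidHom = A ∨ A.map (MulAut.conj h).toMonoidHom ⊓ A = ⊥)
    (hAB : B ⊓ A = ⊥) {u : G} (hu : u ∈ A) (hun : u ∈ Subgroup.normalizer (B : Set G))
    (h4 : u ^ 4 = 1) (h2 : u ^ 2 ≠ 1) : B ≤ Subgroup.normalizer (A : Set G) := by
  have commA : ∀ a ∈ A, ∀ b ∈ A, a * b = b * a := fun a ha b hb =>
    Subtype.ext_iff.1 (hAa.is_comm.comm (⟨a, ha⟩ : A) ⟨b, hb⟩)
  have commB : ∀ a ∈ B, ∀ b ∈ B, a * b = b * a := fun a ha b hb =>
    Subtype.ext_iff.1 (hBa.is_comm.comm (⟨a, ha⟩ : B) ⟨b, hb⟩)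
  set t := u ^ 2 with ht
  have htA : t ∈ A := A.pow_mem hu 2
  have hnorm : ∀ b, b * t = t * b → b ∈ Subgroup.normalizer (A : Set G) := by
    intro b hb
    rcases hti b with h | h
    · exact mem_normalizer_of_map_conj_eq h
    · refine absurd ?_ h2
      have : t ∈ A.map (MulAut.conj b).toMonoidHom ⊓ A := by
        refine ⟨mem_map_conj.2 ?_, htA⟩
        rwa [mul_assoc, ← hb, inv_mul_cancel_left]
      rwa [h, Subgroup.mem_bot] at this
  have hfix : ∀ b ∈ B, b * t = t * b → u * b * u⁻¹ = b := by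
    intro b hb hbt
    have hm : u * b * u⁻¹ * b⁻¹ ∈ B ⊓ A := by
      refine ⟨B.mul_mem ((Subgroup.mem_normalizer_iff.1 hun b).1 hb) (B.inv_mem hb), ?_⟩
      have := A.mul_mem hu ((Subgroup.mem_normalizer_iff.1 (hnorm b hbt) u⁻¹).1 (A.inv_mem hu))
      simpa [mul_assoc] using this
    rw [hAB, Subgroup.mem_bot, mul_inv_eq_one] at hm
    exact hm
  obtain ⟨σ, hσ⟩ : ∃ σ : G → G, ∀ b, σ b = u * b * u⁻¹ := ⟨_, fun _ => rfl⟩
  have hσB : ∀ b ∈ B, σ b ∈ B := fun b hb => hσ b ▸ (Subgroup.mem_normalizer_iff.1 hun b).1 hb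
  have hσ2 : ∀ b, σ (σ b) = t * b * t⁻¹ := fun b => by simp only [hσ, ht, pow_two]; group
  have hσ4 : ∀ b, σ (σ (σ (σ b))) = b := fun b => by
    have e : σ (σ (σ (σ b))) = u ^ 4 * b * (u ^ 4)⁻¹ := by
      simp only [hσ, pow_succ, pow_zero, one_mul]; group
    rw [e, h4]; simp
  have hσm : ∀ a b, σ (a * b) = σ a * σ b := fun a b => by simp only [hσ]; group
  have hσi : ∀ a, σ a⁻¹ = (σ a)⁻¹ := fun a => by simp only [hσ]; group
  have fixt : ∀ b, σ (σ b) = b ↔ b * t = t * b := fun b => by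
    rw [hσ2, mul_inv_eq_iff_eq_mul]; exact ⟨Eq.symm, Eq.symm⟩
  have hfix : ∀ b ∈ B, b * t = t * b → σ b = b := fun b hb h => (hσ b).trans (hfix b hb h)
  have inv2 : ∀ x ∈ B, x * x = 1 → σ x = x := by
    intro x hx hxx
    refine hfix x hx ((fixt x).1 ?_)
    have hxi : x⁻¹ = x := inv_eq_of_mul_eq_one_left hxx
    have hyB : σ (σ x) * x ∈ B := B.mul_mem (hσB _ (hσB _ hx)) hx
    have hy : σ (σ x) * x * t = t * (σ (σ x) * x) := by
      rw [← fixt, hσm, hσm, hσ4]
      exact commB x hx _ (hσB _ (hσB _ hx))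
    have e1 : σ (σ (σ x) * x) = σ (σ x) * x := hfix _ hyB hy
    -- `w = σ x * x` satisfies `σ w * w = σ (σ x) * x`
    set w := σ x * x with hw
    have hwB : w ∈ B := B.mul_mem (hσB _ hx) hx
    have hx1 : σ x * σ x = 1 := by rw [← hσm, hxx]; simp [hσ]
    have hwy : σ w * w = σ (σ x) * x := by
      rw [hw, hσm, mul_assoc (σ (σ x)), ← mul_assoc (σ x), hx1, one_mul]
    have hww : w * w = 1 := by
      rw [hw, mul_assoc, ← mul_assoc x, commB x hx _ (hσB _ hx), mul_assoc, hxx, mul_one, hx1]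
    -- `σ (σ w) = w`
    have h22 : σ (σ w) = w := by
      rw [← hwy, hσm] at e1
      have := commB (σ w) (hσB _ hwB) w hwB
      rw [this] at e1
      rw [commB (σ (σ w)) (hσB _ (hσB _ hwB)) (σ w) (hσB _ hwB), ← this] at e1
      exact mul_left_cancel e1
    have h11 : σ w = w := hfix w hwB ((fixt w).1 h22)
    have h00 : σ (σ x) * x = 1 := by rw [← hwy, h11, hww]
    rw [mul_eq_one_iff_eq_inv.1 h00, hxi]
  have main : ∀ n, ∀ b ∈ B, b ^ 2 ^ n = 1 → σ b = b := by
    intro n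
    induction n with
    | zero => intro b _ hb; simp at hb; simp [hb, hσ]
    | succ n ih =>
      intro b hb hbn
      have hsq : σ (b * b) = b * b := ih _ (B.mul_mem hb hb) (by
        rw [← pow_two, ← pow_mul, ← pow_succ', hbn])
      set x := σ b * b⁻¹ with hxdef
      have hxB : x ∈ B := B.mul_mem (hσB _ hb) (B.inv_mem hb)
      have hxx : x * x = 1 := by
        rw [hσm] at hsq
        rw [hxdef, mul_assoc, ← mul_assoc b⁻¹, commB b⁻¹ (B.inv_mem hb) _ (hσB _ hb), mul_assoc,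
          ← mul_assoc, hsq]
        group
      have h1 : σ (σ b) * (σ b)⁻¹ = σ b * b⁻¹ := by
        have := inv2 x hxB hxx
        rwa [hxdef, hσm, hσi] at this
      refine hfix b hb ((fixt b).1 ?_)
      have e : σ (σ b) * b⁻¹ = x * x := by
        conv_rhs => rw [hxdef]
        nth_rewrite 1 [← h1]
        group
      rw [hxx, mul_inv_eq_one] at e
      exact e
  intro b hb
  obtain ⟨n, hn⟩ := hB2 ⟨b, hb⟩
  have := main n b hb (congrArg Subtype.val hn)
  refine hnorm b ((fixt b).1 ?_)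
  rw [this, this]

/-- Let A be an abelian 2-subgroup of the finite group G such that every conjugate of A equals A or meets A trivially, and let g ∈ G with g A g⁻¹ ≠ A. Then either the subgroup of those elements of A that normalize g A g⁻¹ is an elementary abelian 2-group, or A and g A g⁻¹ commute elementwise. -/
theorem result {G : Type*} [Group G] [Finite G] (A : Subgroup G)
    (hA2 : IsPGroup 2 ↥A) (hAa : IsMulCommutative ↥A)
    (hti : ∀ h : G, A.map (MulAut.conj h).toMonoidHom = A ∨ A.map (MulAut.conj h).toMonoidHom ⊓ A = ⊥)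
    (g : G) (hg : A.map (MulAut.conj g).toMonoidHom ≠ A) :
    Cfsg.IsElementaryAbelian 2 (A ⊓ Subgroup.normalizer ((A.map (MulAut.conj g).toMonoidHom : Subgroup G) : Set G)) ∨
      ⁅A, A.map (MulAut.conj g).toMonoidHom⁆ = ⊥ := by
  set B := A.map (MulAut.conj g).toMonoidHom with hBdef
  have hB2 : IsPGroup 2 B := hA2.map _
  have hBa : IsMulCommutative B := by
    refine ⟨⟨fun a b => ?_⟩⟩
    obtain ⟨_, x, hx, rfl⟩ := a
    obtain ⟨_, y, hy, rfl⟩ := b
    refine Subtype.ext ?_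
    show _ * _ = _ * _
    have hxy : x * y = y * x := Subtype.ext_iff.1 (hAa.is_comm.comm (⟨x, hx⟩ : A) ⟨y, hy⟩)
    rw [← map_mul, ← map_mul, hxy]
  have htiB : ∀ h : G, B.map (MulAut.conj h).toMonoidHom = B ∨ B.map (MulAut.conj h).toMonoidHom ⊓ B = ⊥ := by
    intro h
    have e : B.map (MulAut.conj h).toMonoidHom =
        (A.map (MulAut.conj (g⁻¹ * h * g)).toMonoidHom).map (MulAut.conj g).toMonoidHom := by
      rw [hBdef, CfsgLib.Local.map_conj_mul, CfsgLib.Local.map_conj_mul]; group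
    rcases hti (g⁻¹ * h * g) with h1 | h1
    · exact Or.inl (by rw [e, h1])
    · refine Or.inr ?_
      rw [e, hBdef, ← Subgroup.map_inf _ _ _ (MulEquiv.injective _), h1, Subgroup.map_bot]
  have hBA : B ⊓ A = ⊥ := (hti g).resolve_left hg
  by_cases hel : ∀ a ∈ A ⊓ Subgroup.normalizer (B : Set G), a ^ 2 = 1
  · refine Or.inl ⟨⟨⟨fun a b => Subtype.ext ?_⟩⟩, hel⟩
    have hab : (a : G) * b = b * a := Subtype.ext_iff.1 (hAa.is_comm.comm (⟨a, a.2.1⟩ : A) ⟨b, b.2.1⟩)
    exact hab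
  push Not at hel
  obtain ⟨a, ha, ha2⟩ := hel
  obtain ⟨u, hu, h4, h2⟩ : ∃ u ∈ A ⊓ Subgroup.normalizer (B : Set G), u ^ 4 = 1 ∧ u ^ 2 ≠ 1 := by
    obtain ⟨n, hn⟩ := hA2 ⟨a, ha.1⟩
    have hn' : a ^ 2 ^ n = 1 := congrArg Subtype.val hn
    clear hn
    induction n generalizing a with
    | zero => simp at hn'; simp [hn'] at ha2
    | succ n ih =>
      by_cases h : (a ^ 2) ^ 2 = 1
      · exact ⟨a, ha, by rw [← h, ← pow_mul], ha2⟩
      · exact ih (a ^ 2) (Subgroup.pow_mem _ ha 2) h (by rw [← pow_mul, ← pow_succ', hn'])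
  have hBN := S1781.key A B hB2 hAa hBa hti hBA hu.1 hu.2 h4 h2
  have hv : g * u * g⁻¹ ∈ B := CfsgLib.Local.mem_map_conj.2 (by simpa [mul_assoc] using hu.1)
  have hAN := S1781.key B A hA2 hBa hAa htiB (inf_comm A B ▸ hBA) hv (hBN hv)
    (by rw [← MulAut.conj_apply, ← map_pow, h4, map_one])
    (by rw [← MulAut.conj_apply, ← map_pow]; exact fun h => h2 ((MulEquiv.map_eq_one_iff _).1 h))
  refine Or.inr (eq_bot_iff.2 (Subgroup.commutator_le.2 fun x hx y hy => ?_))
  rw [← hBA]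
  constructor
  · have := B.mul_mem ((Subgroup.mem_normalizer_iff.1 (hAN hx) y).1 hy) (B.inv_mem hy)
    simpa [commutatorElement_def] using this
  · have := A.mul_mem hx ((Subgroup.mem_normalizer_iff.1 (hBN hy) x⁻¹).1 (A.inv_mem hx))
    simpa [commutatorElement_def, mul_assoc] using this

end Cfsg.Agent.S1781
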