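import Cfsg.Statements.S1782
import Mathlib
import Cfsg.Agent.Lib.Local
import Cfsg.Agent.Lib.Elementary
import Cfsg.Agent.Lib.YoshidaTransfer

set_option autoImplicit false
set_option linter.unusedVariables false
open Cfsg
open scoped commutatorElement

namespace Cfsg.Agent.S1782

open CfsgLib
open scoped Pointwise

theorem inner {S : Type*} [Group S] [Finite S] (hS : IsPGroup 2 S) (Δ : Set (Subgroup S))
    (hinv : ∀ s : S, ∀ R ∈ Δ, R.map (MulAut.conj s).toMonoidHom ∈ Δ)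
    (hΦ : ∀ R ∈ Δ, ∃ r ∈ R, r * r ≠ 1 ∨ ∃ a ∈ R, r * a ≠ a * r)
    (hord : ∀ R ∈ Δ, ∀ T ∈ Δ, Nat.card ↥R = Nat.card ↥T)
    (hti : ∀ R ∈ Δ, ∀ T ∈ Δ, R = T ∨ R ⊓ T = ⊥)
    (hIH : ∀ R ∈ Δ, ∀ T ∈ Δ, R ≠ T → R ⊔ T ≠ ⊤ → ∀ a ∈ R, ∀ b ∈ T, a * b = b * a)
    {R T : Subgroup S} (hR : R ∈ Δ) (hT : T ∈ Δ) (hne : R ≠ T) (hgen : R ⊔ T = ⊤) :
    ∀ a ∈ R, ∀ b ∈ T, a * b = b * a := by
  have hN : ∀ U ∈ Δ, ∀ g : S, ∀ x, x ∈ U → x ≠ 1 → x ∈ U.map (MulAut.conj g).toMonoidHom →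
      g ∈ Subgroup.normalizer (U : Set S) := fun U hU g x hx hx1 hx' =>
    Local.mem_normalizer_of_map_conj_eq ((hti _ (hinv g U hU) U hU).resolve_right fun h =>
      hx1 (Subgroup.mem_bot.mp (h ▸ Subgroup.mem_inf.mpr ⟨hx', hx⟩)))
  have hconj : ∀ U ∈ Δ, ∀ g g' : S, U.map (MulAut.conj g).toMonoidHom ≠ U.map (MulAut.conj g').toMonoidHom →
      ∀ a ∈ U.map (MulAut.conj g).toMonoidHom, ∀ b ∈ U.map (MulAut.conj g').toMonoidHom, a * b = b * a := by
    intro U hU g g' hd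
    refine hIH _ (hinv g U hU) _ (hinv g' U hU) hd fun htop => ?_
    by_cases hn : U.Normal
    · haveI := hn
      exact hd (by rw [Local.map_conj_eq_of_mem_normalizer (Subgroup.normalizer_eq_top (H := U) ▸ Subgroup.mem_top g),
        Local.map_conj_eq_of_mem_normalizer (Subgroup.normalizer_eq_top (H := U) ▸ Subgroup.mem_top g')])
    · obtain ⟨M, hM, hle⟩ := (eq_top_or_exists_le_coatom (Subgroup.normalizer (U : Set S))).resolve_left
        (fun h => hn (Subgroup.normalizer_eq_top_iff.mp h))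
      haveI := hS.isNilpotent
      haveI : M.Normal := Subgroup.NormalizerCondition.normal_of_coatom M Group.normalizerCondition_of_isNilpotent hM
      refine hM.1 (top_le_iff.mp (htop ▸ sup_le (Local.map_conj_le fun x hx => ?_) (Local.map_conj_le fun x hx => ?_)))
      · exact Subgroup.Normal.conj_mem inferInstance x (hle (Subgroup.le_normalizer hx)) g
      · exact Subgroup.Normal.conj_mem inferInstance x (hle (Subgroup.le_normalizer hx)) g'
  have hgrow : ∀ U : Subgroup S, (⨆ s : S, U.map (MulAut.conj s).toMonoidHom).Normal := fun U => by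
    rw [← Subgroup.normalizer_eq_top_iff]
    refine eq_top_iff.mpr fun g _ => Local.mem_normalizer_of_map_conj_eq (Subgroup.eq_of_le_of_card_ge ?_
      (Subgroup.card_map_of_injective (MulEquiv.injective (MulAut.conj g))).ge)
    rw [Subgroup.map_iSup]
    refine iSup_le fun s => ?_
    rw [Local.map_conj_mul]
    exact le_iSup (fun s : S => U.map (MulAut.conj s).toMonoidHom) (g * s)
  have hself : ∀ U : Subgroup S, U ≤ ⨆ s : S, U.map (MulAut.conj s).toMonoidHom := fun U =>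
    le_iSup_of_le 1 (fun x hx => ⟨x, hx, by simp⟩)
  have hDN : ∀ U ∈ Δ, (⨆ s : S, U.map (MulAut.conj s).toMonoidHom) ≤ Subgroup.normalizer (U : Set S) := by
    intro U hU
    refine iSup_le fun s => ?_
    by_cases hd : U.map (MulAut.conj s).toMonoidHom = U
    · rw [hd]; exact Subgroup.le_normalizer
    · intro x hx
      refine Local.mem_normalizer_of_map_conj_eq (Subgroup.eq_of_le_of_card_ge (Local.map_conj_le fun u hu => ?_)
        (Subgroup.card_map_of_injective (MulEquiv.injective (MulAut.conj x))).ge)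
      have e : U.map (MulAut.conj (1 : S)).toMonoidHom = U := by ext z; simp
      rw [hconj U hU s 1 (by rw [e]; exact hd) x hx u (by rw [e]; exact hu), mul_inv_cancel_right]
      exact hu
  -- the part for an ordered pair
  have half : ∀ R T : Subgroup S, R ∈ Δ → T ∈ Δ → R ⊔ T = ⊤ → R ≠ T →
      ¬ T ≤ Subgroup.normalizer (R : Set S) → ¬ R ≤ Subgroup.normalizer (T : Set S) →
      (R ⊓ ⨆ s : S, T.map (MulAut.conj s).toMonoidHom = ⊥) ∧ (∀ a ∈ R, ∀ b ∈ R, a * b = b * a) := by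
    intro R T hR hT hg hRT hTR hRT'
    set D := ⨆ s : S, T.map (MulAut.conj s).toMonoidHom with hD
    haveI : D.Normal := hgrow T
    obtain ⟨t, ht, htN⟩ := SetLike.not_le_iff_exists.mp hTR
    have hd : R.map (MulAut.conj t).toMonoidHom ≠ R := fun h => htN (Local.mem_normalizer_of_map_conj_eq h)
    have e1 : R.map (MulAut.conj (1 : S)).toMonoidHom = R := by ext z; simp
    have hcomm : ∀ a ∈ R.map (MulAut.conj t).toMonoidHom, ∀ b ∈ R, a * b = b * a := fun a ha b hb =>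
      hconj R hR t 1 (by rw [e1]; exact hd) a ha b (by rw [e1]; exact hb)
    have hZ : ∀ z ∈ R, z ∈ D → (∀ b ∈ R, z * b = b * z) → z = 1 := by
      intro z hz hzD hzc
      have hw : z * (t * z⁻¹ * t⁻¹) ∈ T := by
        have h := T.mul_mem ((Subgroup.mem_normalizer_iff.mp (hDN T hT hzD) t).mp ht) (T.inv_mem ht)
        simpa [mul_assoc] using h
      have hzt : t * z⁻¹ * t⁻¹ ∈ R.map (MulAut.conj t).toMonoidHom := ⟨z⁻¹, R.inv_mem hz, rfl⟩
      by_cases hw1 : z * (t * z⁻¹ * t⁻¹) = 1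
      · by_contra hz1
        refine htN (hN R hR t z hz hz1 ?_)
        have h2 : z = t * z * t⁻¹ := (eq_inv_of_mul_eq_one_left hw1).trans (by group)
        rw [h2]; exact ⟨z, hz, rfl⟩
      · exfalso
        refine hRT' fun r hr => hN T hT r _ hw hw1 ⟨_, hw, ?_⟩
        show r * (z * (t * z⁻¹ * t⁻¹)) * r⁻¹ = _
        rw [← mul_assoc r, ← hzc r hr, mul_assoc z r, ← hcomm _ hzt r hr, ← mul_assoc, mul_inv_cancel_right]
    have hRD : R ⊓ D = ⊥ := by
      by_contra hne'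
      haveI : Group.IsNilpotent ↥R := (hS.to_subgroup R).isNilpotent
      have h1 := CfsgLib.inf_center_ne_bot_of_nilpotent (N := D.subgroupOf R) (fun h => hne' (le_bot_iff.mp fun x hx => by
        have h2 : (⟨x, hx.1⟩ : ↥R) ∈ D.subgroupOf R := hx.2
        rw [h, Subgroup.mem_bot] at h2
        exact Subgroup.mem_bot.mpr (congrArg Subtype.val h2)))
      refine h1 (le_bot_iff.mp fun z hz => Subgroup.mem_bot.mpr (Subtype.ext ?_))
      exact hZ (z : S) z.2 hz.1 fun b hb => congrArg Subtype.val (Subgroup.mem_center_iff.mp hz.2 ⟨b, hb⟩).symm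
    refine ⟨hRD, fun a ha b hb => ?_⟩
    have hc : a * (t * a⁻¹ * t⁻¹) ∈ D := by
      have h := D.mul_mem (Subgroup.Normal.conj_mem inferInstance t (hself T ht) a) (D.inv_mem (hself T ht))
      simpa [mul_assoc] using h
    have hzt : t * a⁻¹ * t⁻¹ ∈ R.map (MulAut.conj t).toMonoidHom := ⟨a⁻¹, R.inv_mem ha, rfl⟩
    have h3 : a * b * a⁻¹ * b⁻¹ = (a * (t * a⁻¹ * t⁻¹)) * b * (a * (t * a⁻¹ * t⁻¹))⁻¹ * b⁻¹ := by
      have h4 : (t * a⁻¹ * t⁻¹) * b * (t * a⁻¹ * t⁻¹)⁻¹ = b := by rw [hcomm _ hzt b hb, mul_inv_cancel_right]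
      rw [show a * (t * a⁻¹ * t⁻¹) * b * (a * (t * a⁻¹ * t⁻¹))⁻¹ * b⁻¹ = a * ((t * a⁻¹ * t⁻¹) * b * (t * a⁻¹ * t⁻¹)⁻¹) * a⁻¹ * b⁻¹ by group, h4]
    have h5 : a * b * a⁻¹ * b⁻¹ ∈ D := by
      rw [h3, mul_assoc, mul_assoc, ← mul_assoc b]
      exact D.mul_mem hc (Subgroup.Normal.conj_mem inferInstance _ (D.inv_mem hc) b)
    have h6 : a * b * a⁻¹ * b⁻¹ = 1 := Subgroup.mem_bot.mp (hRD ▸ Subgroup.mem_inf.mpr
      ⟨R.mul_mem (R.mul_mem (R.mul_mem ha hb) (R.inv_mem ha)) (R.inv_mem hb), h5⟩)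
    exact eq_mul_of_mul_inv_eq (mul_inv_eq_one.mp h6)
  -- one normalises the other
  have asym : ∀ R T : Subgroup S, R ∈ Δ → T ∈ Δ → R ⊔ T = ⊤ → T ≤ Subgroup.normalizer (R : Set S) →
      R ≤ Subgroup.normalizer (T : Set S) := by
    intro R T hR hT hg hTR r hr
    by_contra hrN
    haveI hRn : R.Normal := Subgroup.normalizer_eq_top_iff.mp (top_le_iff.mp (hg ▸ sup_le Subgroup.le_normalizer hTR))
    have hd : T.map (MulAut.conj r).toMonoidHom ≠ T := fun h => hrN (Local.mem_normalizer_of_map_conj_eq h)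
    have e1 : T.map (MulAut.conj (1 : S)).toMonoidHom = T := by ext z; simp
    set T' := T.map (MulAut.conj r).toMonoidHom with hT'
    have hdis := (hti _ (hinv r T hT) T hT).resolve_left hd
    let f : ↥T' × ↥T → S := fun x => (x.1 : S) * x.2
    have hf : Function.Injective f := by
      rintro ⟨a, b⟩ ⟨a', b'⟩ h
      have h1 : (a' : S)⁻¹ * a = b' * (b : S)⁻¹ := by
        rw [eq_mul_inv_iff_mul_eq, mul_assoc, show (a : S) * b = a' * b' from h, inv_mul_cancel_left]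
      have h2 : (a' : S)⁻¹ * a = 1 := Subgroup.mem_bot.mp (hdis ▸ Subgroup.mem_inf.mpr
        ⟨T'.mul_mem (T'.inv_mem a'.2) a.2, h1 ▸ T.mul_mem b'.2 (T.inv_mem b.2)⟩)
      rw [h2] at h1
      exact Prod.ext (Subtype.ext (inv_mul_eq_one.mp h2).symm) (Subtype.ext (mul_inv_eq_one.mp h1.symm).symm)
    have hcard : Nat.card S ≤ Nat.card (↥T' × ↥T) := by
      rw [Nat.card_prod, hord _ (hinv r T hT) R hR, ← Subgroup.card_top, ← hg]
      have h := Subgroup.coe_mul_of_right_le_normalizer_left R T hTR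
      calc Nat.card ↥(R ⊔ T) = Nat.card ((R : Set S) * (T : Set S) : Set S) := by rw [← h]; rfl
        _ ≤ Nat.card ↥R * Nat.card ↥T := Set.natCard_mul_le
    have hbij := (Nat.bijective_iff_injective_and_card f).mpr ⟨hf, le_antisymm (Nat.card_le_card_of_injective f hf) hcard⟩
    obtain ⟨⟨a, b⟩, hab⟩ := hbij.2 r
    refine hrN ?_
    rw [← hab]
    refine Subgroup.mul_mem _ (Local.mem_normalizer_of_map_conj_eq (Subgroup.eq_of_le_of_card_ge
      (Local.map_conj_le fun u hu => ?_) (Subgroup.card_map_of_injective (MulEquiv.injective (MulAut.conj (a : S)))).ge))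
      (Subgroup.le_normalizer b.2)
    rw [hconj T hT r 1 (by rw [e1]; exact hd) a a.2 u (by rw [e1]; exact hu), mul_inv_cancel_right]
    exact hu
  by_cases h1 : T ≤ Subgroup.normalizer (R : Set S)
  · have h2 := asym R T hR hT hgen h1
    intro a ha b hb
    have h3 : a * b * a⁻¹ * b⁻¹ ∈ R ⊓ T := ⟨by
        have := R.mul_mem ha ((Subgroup.mem_normalizer_iff.mp (h1 hb) _).mp (R.inv_mem ha))
        simpa [mul_assoc] using this,
      T.mul_mem ((Subgroup.mem_normalizer_iff.mp (h2 ha) b).mp hb) (T.inv_mem hb)⟩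
    rw [(hti R hR T hT).resolve_left hne, Subgroup.mem_bot] at h3
    exact eq_mul_of_mul_inv_eq (mul_inv_eq_one.mp h3)
  by_cases h2 : R ≤ Subgroup.normalizer (T : Set S)
  · exact absurd (asym T R hT hR (sup_comm R T ▸ hgen) h2) h1
  exfalso
  obtain ⟨hRD, hRab⟩ := half R T hR hT hgen hne h1 h2
  obtain ⟨hTD, hTab⟩ := half T R hT hR (sup_comm R T ▸ hgen) hne.symm h2 h1
  obtain ⟨r, hr, hr2⟩ := hΦ R hR
  replace hr2 : r * r ≠ 1 := hr2.resolve_right fun ⟨a, ha, h⟩ => h (hRab r hr a ha)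
  obtain ⟨k, hk⟩ := hS r
  obtain ⟨r, hr, hr2, hr4⟩ : ∃ r ∈ R, r * r ≠ 1 ∧ r * r * (r * r) = 1 := by
    induction k generalizing r with
    | zero => rw [pow_zero, pow_one] at hk; exact absurd (by rw [hk, one_mul]) hr2
    | succ k ih =>
      by_cases h4 : r * r * (r * r) = 1
      · exact ⟨r, hr, hr2, h4⟩
      · exact ih (r * r) (R.mul_mem hr hr) h4 (by rw [← pow_two, ← pow_mul, ← pow_succ']; exact hk)
  obtain ⟨t, ht, htN⟩ := SetLike.not_le_iff_exists.mp h1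
  set DT := ⨆ s : S, T.map (MulAut.conj s).toMonoidHom
  set DR := ⨆ s : S, R.map (MulAut.conj s).toMonoidHom
  haveI : DT.Normal := hgrow T
  haveI : DR.Normal := hgrow R
  have hDab : ∀ U ∈ Δ, (∀ a ∈ U, ∀ b ∈ U, a * b = b * a) →
      ∀ a ∈ U, ∀ x ∈ (⨆ s : S, U.map (MulAut.conj s).toMonoidHom), x * a = a * x := by
    intro U hU hab a ha x hx
    have e1 : U.map (MulAut.conj (1 : S)).toMonoidHom = U := by ext z; simp
    have h : (⨆ s : S, U.map (MulAut.conj s).toMonoidHom) ≤ Subgroup.centralizer ({a} : Set S) := by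
      refine iSup_le fun s y hy => Subgroup.mem_centralizer_singleton_iff.mpr ?_
      by_cases hd : U.map (MulAut.conj s).toMonoidHom = U
      · exact hab y (hd ▸ hy) a ha
      · exact hconj U hU s 1 (by rw [e1]; exact hd) y hy a (by rw [e1]; exact ha)
    exact Subgroup.mem_centralizer_singleton_iff.mp (h hx)
  set c := r * t * r⁻¹ * t⁻¹ with hc
  have hcT : c ∈ DT := DT.mul_mem (Subgroup.Normal.conj_mem inferInstance t (hself T ht) r) (DT.inv_mem (hself T ht))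
  have hcR : c ∈ DR := by
    have h := DR.mul_mem (hself R hr) (Subgroup.Normal.conj_mem inferInstance _ (DR.inv_mem (hself R hr)) t)
    simpa [hc, mul_assoc] using h
  have hcen : ∀ x : S, x * c = c * x := fun x => by
    have h : (⊤ : Subgroup S) ≤ Subgroup.centralizer ({c} : Set S) := hgen ▸ sup_le
      (fun a ha => Subgroup.mem_centralizer_singleton_iff.mpr (hDab R hR hRab a ha c hcR).symm)
      (fun a ha => Subgroup.mem_centralizer_singleton_iff.mpr (hDab T hT hTab a ha c hcT).symm)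
    exact Subgroup.mem_centralizer_singleton_iff.mp (h (Subgroup.mem_top x))
  have hcC : c⁻¹ ∈ Subgroup.center S := Subgroup.inv_mem _ (Subgroup.mem_center_iff.mpr hcen)
  have e1 : t * r * t⁻¹ = c⁻¹ * r := by rw [hc]; group
  have e2 : t * (r * r) * t⁻¹ = c⁻¹ * c⁻¹ * (r * r) := by
    rw [show t * (r * r) * t⁻¹ = (t * r * t⁻¹) * (t * r * t⁻¹) by group, e1,
      show c⁻¹ * r * (c⁻¹ * r) = c⁻¹ * (r * c⁻¹) * r by group, Subgroup.mem_center_iff.mp hcC r]
    group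
  have e4 : c⁻¹ * c⁻¹ * (c⁻¹ * c⁻¹) = 1 := by
    have h : t * (r * r * (r * r)) * t⁻¹ = c⁻¹ * c⁻¹ * (r * r) * (c⁻¹ * c⁻¹ * (r * r)) := by
      rw [← e2]; group
    rw [show c⁻¹ * c⁻¹ * (r * r) * (c⁻¹ * c⁻¹ * (r * r)) = c⁻¹ * c⁻¹ * ((r * r) * (c⁻¹ * c⁻¹)) * (r * r) by group,
      Subgroup.mem_center_iff.mp (Subgroup.mul_mem _ hcC hcC) (r * r), hr4, mul_one, mul_inv_cancel] at h
    rw [show c⁻¹ * c⁻¹ * (c⁻¹ * c⁻¹ * (r * r)) * (r * r) = c⁻¹ * c⁻¹ * (c⁻¹ * c⁻¹) * (r * r * (r * r)) by group,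
      hr4, mul_one] at h
    exact h.symm
  have e5 : t * t * r * (t * t)⁻¹ = c⁻¹ * c⁻¹ * r := by
    rw [show t * t * r * (t * t)⁻¹ = t * (t * r * t⁻¹) * t⁻¹ by group, e1,
      show t * (c⁻¹ * r) * t⁻¹ = (t * c⁻¹) * r * t⁻¹ by group, Subgroup.mem_center_iff.mp hcC t,
      show c⁻¹ * t * r * t⁻¹ = c⁻¹ * (t * r * t⁻¹) by group, e1, ← mul_assoc]
  have e6 : t * t * (r * r) * (t * t)⁻¹ = r * r := by
    rw [show t * t * (r * r) * (t * t)⁻¹ = (t * t * r * (t * t)⁻¹) * (t * t * r * (t * t)⁻¹) by group, e5,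
      show c⁻¹ * c⁻¹ * r * (c⁻¹ * c⁻¹ * r) = c⁻¹ * c⁻¹ * (r * (c⁻¹ * c⁻¹)) * r by group,
      Subgroup.mem_center_iff.mp (Subgroup.mul_mem _ hcC hcC) r,
      show c⁻¹ * c⁻¹ * (c⁻¹ * c⁻¹ * r) * r = c⁻¹ * c⁻¹ * (c⁻¹ * c⁻¹) * (r * r) by group, e4, one_mul]
  have htt : t * t ∈ Subgroup.normalizer (R : Set S) :=
    hN R hR (t * t) _ (R.mul_mem hr hr) hr2 ⟨r * r, R.mul_mem hr hr, e6⟩
  have hcc : c⁻¹ * c⁻¹ = 1 := by
    have h1 : t * t * r * (t * t)⁻¹ * r⁻¹ ∈ R := R.mul_mem ((Subgroup.mem_normalizer_iff.mp htt r).mp hr) (R.inv_mem hr)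
    rw [e5, mul_inv_cancel_right] at h1
    exact Subgroup.mem_bot.mp (hRD ▸ Subgroup.mem_inf.mpr ⟨h1, DT.mul_mem (DT.inv_mem hcT) (DT.inv_mem hcT)⟩)
  rw [hcc, one_mul] at e2
  exact htN (hN R hR t _ (R.mul_mem hr hr) hr2 ⟨r * r, R.mul_mem hr hr, e2⟩)

theorem main_aux (k : ℕ) : ∀ (S : Type*) [Group S] [Finite S], Nat.card S ≤ k → IsPGroup 2 S →
    ∀ Δ : Set (Subgroup S), (∀ s : S, ∀ R ∈ Δ, R.map (MulAut.conj s).toMonoidHom ∈ Δ) →
    (∀ R ∈ Δ, ∃ r ∈ R, r * r ≠ 1 ∨ ∃ a ∈ R, r * a ≠ a * r) →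
    (∀ R ∈ Δ, ∀ T ∈ Δ, Nat.card ↥R = Nat.card ↥T) → (∀ R ∈ Δ, ∀ T ∈ Δ, R = T ∨ R ⊓ T = ⊥) →
    ∀ R ∈ Δ, ∀ T ∈ Δ, R ≠ T → ∀ a ∈ R, ∀ b ∈ T, a * b = b * a := by
  induction k with
  | zero => intro S _ _ h; exact absurd h Nat.card_pos.not_ge
  | succ k ih =>
    intro S _ _ hk hS Δ hinv hΦ hord hti
    have hIH : ∀ R ∈ Δ, ∀ T ∈ Δ, R ≠ T → R ⊔ T ≠ ⊤ → ∀ a ∈ R, ∀ b ∈ T, a * b = b * a := by
      intro R hR T hT hne hlt a ha b hb
      set H := R ⊔ T
      have hcard : Nat.card ↥H ≤ k := Nat.lt_succ_iff.mp (lt_of_lt_of_le (lt_of_le_of_ne (Subgroup.card_le_card_group H)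
        fun h => hlt (Subgroup.card_eq_iff_eq_top H |>.mp h)) hk)
      have hm : ∀ U : Subgroup ↥H, (U.map H.subtype).subgroupOf H = U := fun U =>
        Subgroup.comap_map_eq_self_of_injective H.subtype_injective U
      refine congrArg Subtype.val (ih ↥H hcard (hS.to_subgroup H) {U | U.map H.subtype ∈ Δ} ?_ ?_ ?_ ?_ (R.subgroupOf H)
        (by show _ ∈ Δ; rwa [Subgroup.map_subgroupOf_eq_of_le le_sup_left]) (T.subgroupOf H)
        (by show _ ∈ Δ; rwa [Subgroup.map_subgroupOf_eq_of_le le_sup_right]) ?_ ⟨a, (le_sup_left : R ≤ H) ha⟩ ha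
        ⟨b, (le_sup_right : T ≤ H) hb⟩ hb)
      · intro s U hU
        show _ ∈ Δ
        have h := hinv s _ hU
        rw [Subgroup.map_map] at h ⊢
        convert h using 2
        ext z; simp
      · intro U hU
        obtain ⟨_, ⟨r, hr, rfl⟩, h⟩ := hΦ _ hU
        rcases h with h | ⟨_, ⟨a, ha, rfl⟩, h⟩
        · exact ⟨r, hr, Or.inl fun e => h (by rw [← map_mul, e, map_one])⟩
        · exact ⟨r, hr, Or.inr ⟨a, ha, fun e => h (by rw [← map_mul, ← map_mul, e])⟩⟩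
      · intro U hU V hV
        have h := hord _ hU _ hV
        rwa [Subgroup.card_map_of_injective H.subtype_injective, Subgroup.card_map_of_injective H.subtype_injective] at h
      · intro U hU V hV
        refine (hti _ hU _ hV).imp (fun h => Subgroup.map_injective H.subtype_injective h) fun h => ?_
        rw [← Subgroup.map_inf _ _ _ H.subtype_injective] at h
        exact (Subgroup.map_eq_bot_iff_of_injective _ H.subtype_injective).mp h
      · intro h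
        refine hne ?_
        rw [← Subgroup.map_subgroupOf_eq_of_le (le_sup_left : R ≤ H), h, Subgroup.map_subgroupOf_eq_of_le (le_sup_right : T ≤ H)]
    intro R hR T hT hne
    by_cases hgen : R ⊔ T = ⊤
    · exact inner hS Δ hinv hΦ hord hti hIH hR hT hne hgen
    · exact hIH R hR T hT hne hgen

/-- Let S be a finite 2-group and Δ a set of subgroups of S closed under conjugation by S, all of the same order, each with nontrivial Frattini subgroup, and such that two distinct members of Δ meet trivially. Then any two distinct members of Δ commute elementwise. -/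
theorem result {S : Type*} [Group S] [Finite S] (hS : IsPGroup 2 S)
    (Δ : Set (Subgroup S)) (hinv : ∀ s : S, ∀ R ∈ Δ, R.map (MulAut.conj s).toMonoidHom ∈ Δ)
    (hΦ : ∀ R ∈ Δ, frattini ↥R ≠ ⊥) (hord : ∀ R ∈ Δ, ∀ T ∈ Δ, Nat.card ↥R = Nat.card ↥T)
    (hti : ∀ R ∈ Δ, ∀ T ∈ Δ, R = T ∨ R ⊓ T = ⊥) :
    ∀ R ∈ Δ, ∀ T ∈ Δ, R ≠ T → ⁅R, T⁆ = ⊥ := by
  intro R hR T hT hne
  rw [eq_bot_iff, Subgroup.commutator_le]
  intro a ha b hb
  rw [Subgroup.mem_bot, commutatorElement_eq_one_iff_mul_comm]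
  refine main_aux _ S le_rfl hS Δ hinv (fun U hU => ?_) hord hti R hR T hT hne a ha b hb
  by_contra h
  simp only [not_exists, not_and, not_or, ne_eq, not_not] at h
  letI : CommGroup ↥U := { (inferInstance : Group ↥U) with mul_comm := fun x y => Subtype.ext ((h x x.2).2 y y.2) }
  refine hΦ U hU (le_bot_iff.mp ((CfsgLib.YoshidaTransfer.frattini_le_ker (p := 2)
    (fun x : ↥U => by rw [pow_two]; exact Subtype.ext (h x x.2).1) (MonoidHom.id ↥U)).trans (le_of_eq MonoidHom.ker_id)))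

end Cfsg.Agent.S1782
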