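import Cfsg.Statements.S1783
import Cfsg.Agent.Lib.SmallElements
import Cfsg.Agent.Lib.Components
import Cfsg.Agent.Lib.Basic

set_option autoImplicit false
set_option linter.unusedVariables false
open Cfsg
open scoped commutatorElement

namespace Cfsg.Agent.S1783

variable {X : Type*} [Group X]

/-- One step of the commutator map of `a`. -/
def dlt (a q : X) : X := q⁻¹ * (a * q * a⁻¹)

theorem eventually_one [Finite X] {S : Subgroup X} (hS : IsPGroup 2 S) {a q : X} (ha : a ∈ S)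
    (hq : q ∈ S) : ∃ n, (dlt a)^[n] q = 1 := by
  have : Fact (Nat.Prime 2) := ⟨Nat.prime_two⟩
  obtain ⟨n, hn⟩ := (Subgroup.isNilpotent_iff_lowerCentralSeries S).mp hS.isNilpotent
  refine ⟨n, ?_⟩
  have key : ∀ k, (dlt a)^[k] q ∈ S.lowerCentralSeries k := by
    intro k
    induction k with
    | zero => simpa using hq
    | succ k ih =>
      rw [Function.iterate_succ_apply', Subgroup.lowerCentralSeries_succ]
      set y := (dlt a)^[k] q
      have : dlt a y = ⁅y⁻¹, a⁆ := by rw [dlt, commutatorElement_def]; group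
      rw [this]
      exact Subgroup.commutator_mem_commutator (inv_mem ih) ha
  have := key n
  rwa [hn, Subgroup.mem_bot] at this

theorem exists_step {D : Set X} (f : X → X) (hf : ∀ y ∈ D, f y ∈ D) (P : X → Prop) :
    ∀ n, ∀ q ∈ D, P (f^[n] q) → ¬ P q → ∃ y ∈ D, ¬ P y ∧ P (f y) := by
  intro n
  induction n with
  | zero => intro q _ h1 h2; exact absurd h1 h2
  | succ n ih =>
    intro q hq h1 h2
    by_cases h3 : P (f q)
    · exact ⟨q, hq, h2, h3⟩
    · exact ih (f q) (hf q hq) (by rwa [Function.iterate_succ_apply] at h1) h3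

/-- A two element stabilising the series of a critical subgroup lies in `O₂`. -/
theorem mem_pCore_of_stab [Finite X]
    (hcX : Subgroup.centralizer (Cfsg.pCore 2 X : Set X) ≤ Cfsg.pCore 2 X)
    (C : Subgroup ↥(Cfsg.pCore 2 X)) [C.Characteristic]
    (hcom : ∀ g : ↥(Cfsg.pCore 2 X), ∀ c ∈ C, ⁅g, c⁆ ∈ C ⊓ Subgroup.centralizer (C : Set ↥(Cfsg.pCore 2 X)))
    (hpow : ∀ c ∈ C, c ^ 2 ∈ C ⊓ Subgroup.centralizer (C : Set ↥(Cfsg.pCore 2 X)))
    (hcen : Subgroup.centralizer (C : Set ↥(Cfsg.pCore 2 X)) ≤ C)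
    (C0 Z0 : Subgroup X) [C0.Normal] [Z0.Normal] (hC0 : C0 = C.map (Cfsg.pCore 2 X).subtype)
    (hZ0 : Z0 = C0 ⊓ Subgroup.centralizer (C0 : Set X)) {x : X}
    (h1 : ∀ q ∈ C0, dlt x q ∈ Z0) (h2 : ∀ z ∈ Z0, ∃ w ∈ Z0, dlt x z = w ^ 2) :
    x ∈ Cfsg.pCore 2 X := by
  have : Fact (Nat.Prime 2) := ⟨Nat.prime_two⟩
  have hQ2 : IsPGroup 2 (Cfsg.pCore 2 X) := CfsgLib.isPGroup_pCore 2
  have hcomm : ∀ u ∈ Z0, ∀ v ∈ Z0, Commute u v := fun u hu v hv => by
    rw [hZ0] at hu hv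
    exact Subgroup.mem_centralizer_iff.mp hv.2 u hu.1
  have hZC : Z0 ≤ C0 := hZ0 ▸ inf_le_left
  let K : Subgroup X :=
    { carrier := {x | (∀ q ∈ C0, dlt x q ∈ Z0) ∧ ∀ z ∈ Z0, ∃ w ∈ Z0, dlt x z = w ^ 2}
      one_mem' := ⟨fun q _ => by simp [dlt], fun z _ => ⟨1, one_mem _, by simp [dlt]⟩⟩
      mul_mem' := fun {u v} hu hv => by
        have he : ∀ q : X, dlt (u * v) q = dlt v q * dlt u (v * q * v⁻¹) := fun q => by
          simp only [dlt]; group
        refine ⟨fun q hq => ?_, fun z hz => ?_⟩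
        · rw [he]
          exact mul_mem (hv.1 q hq) (hu.1 _ ((inferInstance : C0.Normal).conj_mem q hq v))
        · obtain ⟨w, hw, e⟩ := hv.2 z hz
          obtain ⟨w', hw', e'⟩ := hu.2 _ ((inferInstance : Z0.Normal).conj_mem z hz v)
          exact ⟨w * w', mul_mem hw hw', by rw [he, e, e', (hcomm w hw w' hw').mul_pow]⟩
      inv_mem' := fun {u} hu => by
        have he : ∀ q : X, dlt u⁻¹ q = (dlt u (u⁻¹ * q * u))⁻¹ := fun q => by
          simp only [dlt]; group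
        refine ⟨fun q hq => ?_, fun z hz => ?_⟩
        · rw [he]
          exact inv_mem (hu.1 _ (by simpa using (inferInstance : C0.Normal).conj_mem q hq u⁻¹))
        · obtain ⟨w, hw, e⟩ := hu.2 _ (show u⁻¹ * z * u ∈ Z0 by
            simpa using (inferInstance : Z0.Normal).conj_mem z hz u⁻¹)
          exact ⟨w⁻¹, inv_mem hw, by rw [he, e, inv_pow]⟩ }
  have hKn : K.Normal := ⟨fun u hu g => by
    have he : ∀ q : X, dlt (g * u * g⁻¹) q = g * dlt u (g⁻¹ * q * g) * g⁻¹ := fun q => by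
      simp only [dlt]; group
    refine ⟨fun q hq => ?_, fun z hz => ?_⟩
    · rw [he]
      exact (inferInstance : Z0.Normal).conj_mem _
        (hu.1 _ (by simpa using (inferInstance : C0.Normal).conj_mem q hq g⁻¹)) g
    · obtain ⟨w, hw, e⟩ := hu.2 _ (show g⁻¹ * z * g ∈ Z0 by
        simpa using (inferInstance : Z0.Normal).conj_mem z hz g⁻¹)
      exact ⟨g * w * g⁻¹, (inferInstance : Z0.Normal).conj_mem w hw g, by
        rw [he, e, conj_pow]⟩⟩
  suffices hK : IsPGroup 2 K from CfsgLib.le_pCore hK ⟨h1, h2⟩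
  intro u
  obtain ⟨k, m, hm, hum⟩ := Nat.exists_eq_two_pow_mul_odd (orderOf_pos (u : X)).ne'
  refine ⟨k, Subtype.ext ?_⟩
  rw [SubmonoidClass.coe_pow, OneMemClass.coe_one]
  set y := (u : X) ^ 2 ^ k with hy
  have hyK : y ∈ K := pow_mem u.2 _
  have hym : y ^ m = 1 := by rw [hy, ← pow_mul, ← hum, pow_orderOf_eq_one]
  have hodd : (orderOf y).Coprime 2 := by
    rw [Nat.coprime_two_right]
    exact hm.of_dvd_nat (orderOf_dvd_of_pow_eq_one hym)
  let α : MulAut (Cfsg.pCore 2 X) := MulAut.conjNormal y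
  have hα : (orderOf α).Coprime 2 :=
    Nat.Coprime.coprime_dvd_left (orderOf_map_dvd (MulAut.conjNormal (H := (Cfsg.pCore 2 X))) y) hodd
  have hαc : ∀ q : (Cfsg.pCore 2 X), ((α q : (Cfsg.pCore 2 X)) : X) = y * q * y⁻¹ := fun q => MulAut.conjNormal_apply y q
  -- fixes `Z0`, from the bottom up
  obtain ⟨N, hN⟩ := IsPGroup.iff_card.mp hQ2
  have hZfix : ∀ d j : ℕ, j + d = N → ∀ z : (Cfsg.pCore 2 X), (z : X) ∈ Z0 → α (z ^ 2 ^ j) = z ^ 2 ^ j := by
    intro d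
    induction d with
    | zero =>
      intro j hj z _
      rw [Nat.add_zero] at hj
      rw [hj, ← hN, pow_card_eq_one', map_one]
    | succ d ih =>
      intro j hj z hz
      refine CfsgLib.Small.apply_eq_self_of_step hQ2 hα ?_
      obtain ⟨w, hw, e⟩ := hyK.2 z hz
      have hwQ : w ∈ (Cfsg.pCore 2 X) := by
        have : w ∈ C0 := hZC hw
        rw [hC0] at this
        exact (Subgroup.map_subtype_le C) this
      have hcz : Commute z⁻¹ (α z) := by
        apply Subtype.ext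
        push_cast
        rw [hαc]
        exact hcomm _ (inv_mem hz) _ ((inferInstance : Z0.Normal).conj_mem _ hz y)
      have e1 : (z ^ 2 ^ j)⁻¹ * α (z ^ 2 ^ j) = (⟨w, hwQ⟩ : (Cfsg.pCore 2 X)) ^ 2 ^ (j + 1) := by
        rw [map_pow, ← inv_pow, ← hcz.mul_pow, pow_succ' (2 : ℕ) j, pow_mul]
        congr 1
        apply Subtype.ext
        push_cast
        rw [hαc]
        exact e
      rw [e1]
      exact ih (j + 1) (by omega) ⟨w, hwQ⟩ hw
  have hCfix : ∀ c ∈ C, α c = c := by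
    intro c hc
    refine CfsgLib.Small.apply_eq_self_of_step hQ2 hα ?_
    have hmem : ((c⁻¹ * α c : (Cfsg.pCore 2 X)) : X) ∈ Z0 := by
      push_cast
      rw [hαc]
      exact hyK.1 _ (hC0 ▸ ⟨c, hc, rfl⟩)
    have := hZfix N 0 (Nat.zero_add N) (c⁻¹ * α c) hmem
    simpa using this
  have hα1 : α = 1 := CfsgLib.Small.eq_one_of_fixes_critical hQ2 hcom hpow hcen hα fun c hc _ => hCfix c hc
  have hyC : y ∈ Subgroup.centralizer ((Cfsg.pCore 2 X) : Set X) := by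
    refine Subgroup.mem_centralizer_iff.mpr fun q hq => ?_
    have : y * q * y⁻¹ = q := by
      have h := hαc ⟨q, hq⟩
      rw [hα1] at h
      exact h.symm
    calc q * y = (y * q * y⁻¹) * y := by rw [this]
      _ = y * q := by group
  obtain ⟨i, hi⟩ := hQ2 ⟨y, hcX hyC⟩
  have hyi : y ^ 2 ^ i = 1 := congrArg Subtype.val hi
  exact orderOf_eq_one_iff.mp (Nat.eq_one_of_dvd_coprimes (Nat.Coprime.pow_right i hodd)
    dvd_rfl (orderOf_dvd_of_pow_eq_one hyi))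

/-- The common part of both assertions. -/
theorem core [Finite X] (hX : Cfsg.generalizedFittingSubgroup X = Cfsg.pCore 2 X) (A : Subgroup X)
    (hA2 : IsPGroup 2 ↥A) (hab : ∀ u ∈ A, ∀ v ∈ A, u * v = v * u)
    (hN : ∀ k e : X, e ∈ A → e ≠ 1 → k * e * k⁻¹ ∈ A → ∀ f ∈ A, k * f * k⁻¹ ∈ A) :
    (∀ a ∈ A, a ^ 2 ∈ Cfsg.pCore 2 X) ∧
      ((∀ a ∈ A, a ^ 4 = 1) ∨ ∃ Z0 : Subgroup X, Z0.Normal ∧ (∀ u ∈ Z0, ∀ v ∈ Z0, u * v = v * u) ∧
        ∃ e ∈ Z0, e ∈ A ∧ e ≠ 1) := by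
  have : Fact (Nat.Prime 2) := ⟨Nat.prime_two⟩
  set Q := Cfsg.pCore 2 X with hQ
  have hQ2 : IsPGroup 2 Q := CfsgLib.isPGroup_pCore 2
  have hcX : Subgroup.centralizer (Q : Set X) ≤ Q := hX ▸ CfsgLib.centralizer_generalizedFitting_le
  obtain ⟨C, hch, hcom, hpow, hcen⟩ := CfsgLib.Small.exists_critical (X := ↥Q) (p := 2) hQ2
  set C0 := C.map Q.subtype with hC0
  set Z0 := C0 ⊓ Subgroup.centralizer (C0 : Set X) with hZ0
  have hC0n : C0.Normal := inferInstance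
  have hZ0n : Z0.Normal := inferInstance
  have hC0Q : C0 ≤ Q := Subgroup.map_subtype_le C
  have hsqC : ∀ q ∈ C0, q ^ 2 ∈ Z0 := by
    rintro _ ⟨c, hc, rfl⟩
    refine ⟨⟨c ^ 2, pow_mem hc 2, by simp⟩, Subgroup.mem_centralizer_iff.mpr ?_⟩
    rintro _ ⟨d, hd, rfl⟩
    exact congrArg Subtype.val (Subgroup.mem_centralizer_iff.mp (hpow c hc).2 d hd)
  have hcomC : ∀ u ∈ C0, ∀ v ∈ C0, ∀ w ∈ C0, w * (u * v * u⁻¹ * v⁻¹) = u * v * u⁻¹ * v⁻¹ * w := by
    rintro _ ⟨u, hu, rfl⟩ _ ⟨v, hv, rfl⟩ _ ⟨w, hw, rfl⟩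
    have h := congrArg Subtype.val (Subgroup.mem_centralizer_iff.mp (hcom u v hv).2 w hw)
    simpa [commutatorElement_def] using h
  have hZcomm : ∀ z ∈ Z0, ∀ q ∈ C0, q * z = z * q := fun z hz q hq =>
    Subgroup.mem_centralizer_iff.mp hz.2 q hq
  have hCcen : ∀ x ∈ Q, (∀ q ∈ C0, q * x = x * q) → x ∈ Z0 := by
    intro x hx h
    have h1 : (⟨x, hx⟩ : Q) ∈ C := hcen (Subgroup.mem_centralizer_iff.mpr fun d hd =>
      Subtype.ext (h _ ⟨d, hd, rfl⟩))
    exact ⟨⟨_, h1, rfl⟩, Subgroup.mem_centralizer_iff.mpr h⟩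
  have hdlt : ∀ a ∈ A, ∀ e ∈ A, e ≠ 1 → ∀ q : X, q * e = e * q → dlt a q ∈ A := by
    intro a ha e he he1 q hq
    have h := hN q⁻¹ e he he1 (by rw [inv_inv, mul_assoc, ← hq, ← mul_assoc, inv_mul_cancel, one_mul]; exact he) a ha
    rw [inv_inv] at h
    have h' : dlt a q = (q⁻¹ * a * q) * a⁻¹ := by simp only [dlt]; group
    rw [h']
    exact mul_mem h (inv_mem ha)
  have hmem : ∀ a : X, ∀ q ∈ C0, dlt a q ∈ C0 := fun a q hq =>
    mul_mem (inv_mem hq) (hC0n.conj_mem q hq a)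
  have hmemZ : ∀ a : X, ∀ q ∈ Z0, dlt a q ∈ Z0 := fun a q hq =>
    mul_mem (inv_mem hq) (hZ0n.conj_mem q hq a)
  by_cases hcase : ∃ e ∈ Z0, e ∈ A ∧ e ≠ 1
  · -- `C0` normalizes `A`, so `A` acts quadratically on it
    refine ⟨fun a ha => ?_, Or.inr ⟨Z0, hZ0n, fun u hu v hv => hZcomm v hv u hu.1, hcase⟩⟩
    obtain ⟨e, heZ, heA, he1⟩ := hcase
    have hsq : ∀ q ∈ C0, dlt (a ^ 2) q = (dlt a q) ^ 2 := by
      intro q hq
      have hc : dlt a q ∈ A := hdlt a ha e heA he1 q (hZcomm e heZ q hq)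
      have hc' := hab a ha _ hc
      calc dlt (a ^ 2) q = dlt a q * (a * dlt a q * a⁻¹) := by simp only [dlt, pow_two]; group
        _ = (dlt a q) ^ 2 := by rw [hc', mul_inv_cancel_right, pow_two]
    exact mem_pCore_of_stab hcX C hcom hpow hcen C0 Z0 hC0 hZ0
      (fun q hq => by rw [hsq q hq]; exact hsqC _ (hmem a q hq))
      (fun z hz => ⟨dlt a z, hmemZ a z hz, hsq z hz.1⟩)
  push_neg at hcase
  -- now `A ∩ Z0 = 1`
  obtain ⟨S, hS⟩ := hA2.exists_le_sylow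
  have hQS : Q ≤ (S : Subgroup X) := CfsgLib.pCore_le_sylow S
  have main : ∀ a ∈ A, a ^ 2 ≠ 1 → a ^ 2 ∈ Q ∧ ∀ q ∈ C0, q * a ^ 4 = a ^ 4 * q := by
    intro a ha ha2
    set f : X → X := fun q => a * q * a⁻¹ with hf
    have hfm : ∀ u v : X, f (u * v) = f u * f v := fun u v => by simp only [hf]; group
    have hfi : ∀ u : X, f u⁻¹ = (f u)⁻¹ := fun u => by simp only [hf]; group
    have hfd : ∀ q : X, f q = q * dlt a q := fun q => by simp only [hf, dlt]; group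
    have hev : ∀ q ∈ C0, ∃ n, (dlt a)^[n] q = 1 := fun q hq =>
      eventually_one S.isPGroup' (hS ha) (hQS (hC0Q hq))
    have hd1 : dlt a (1 : X) = 1 := by simp [dlt]
    have h2N : ∀ q : X, f (f q) = q → dlt a q ∈ A := by
      intro q hq
      refine hdlt a ha (a ^ 2) (pow_mem ha 2) ha2 q ?_
      have e : a ^ 2 * q = f (f q) * a ^ 2 := by simp only [hf, pow_two]; group
      rw [e, hq]
    have hfix : ∀ z ∈ Z0, dlt a z = 1 := by
      intro z hz
      by_contra hne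
      obtain ⟨n, hn⟩ := hev z hz.1
      obtain ⟨y, hy, hy1, hy2⟩ := exists_step (D := (Z0 : Set X)) (dlt a) (hmemZ a) (fun u => dlt a u = 1)
        n z hz (by rw [hn]; exact hd1) hne
      set c := dlt a y with hc
      have hcZ : c ∈ Z0 := hmemZ a y hy
      have hfc : f c = c := by rw [hfd, hy2, mul_one]
      have hcy : Commute y c := hZcomm c hcZ y hy.1
      obtain ⟨k, hk⟩ := hQ2 ⟨c, hC0Q hcZ.1⟩
      have hk' : c ^ 2 ^ k = 1 := congrArg Subtype.val hk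
      obtain ⟨r, hr⟩ := (Nat.dvd_prime_pow Nat.prime_two).mp (orderOf_dvd_of_pow_eq_one hk')
      obtain ⟨r', rfl⟩ : ∃ r', r = r' + 1 := by
        rcases r with _ | r'
        · exact absurd (orderOf_eq_one_iff.mp hr.2) hy1
        · exact ⟨r', rfl⟩
      have hfp : f (y ^ 2 ^ r') = y ^ 2 ^ r' * c ^ 2 ^ r' := by
        rw [← hcy.mul_pow, ← hfd]; simp only [hf]; rw [conj_pow]
      have hfcp : f (c ^ 2 ^ r') = c ^ 2 ^ r' := by
        conv_rhs => rw [← hfc]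
        simp only [hf]; rw [conj_pow]
      have hA := h2N (y ^ 2 ^ r') (by
        rw [hfp, hfm, hfp, hfcp, mul_assoc, ← pow_add, show 2 ^ r' + 2 ^ r' = 2 ^ (r' + 1) by rw [pow_succ]; ring,
          ← hr.2, pow_orderOf_eq_one, mul_one])
      rw [show dlt a (y ^ 2 ^ r') = c ^ 2 ^ r' by
        rw [eq_comm, ← mul_right_inj (y ^ 2 ^ r'), ← hfd, hfp]] at hA
      have := hcase _ (pow_mem hcZ _) hA
      have hdiv := orderOf_dvd_of_pow_eq_one this
      rw [hr.2] at hdiv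
      have := (Nat.pow_dvd_pow_iff_le_right (by norm_num : 1 < 2)).mp hdiv
      omega
    have hffix : ∀ z ∈ Z0, f z = z := fun z hz => by rw [hfd, hfix z hz, mul_one]
    have fact1 : ∀ q ∈ C0, dlt a q ∈ Z0 → dlt a q = 1 := by
      intro q hq hz
      have hcq : Commute q (dlt a q) := hZcomm _ hz q hq
      have h1 : (q * dlt a q) ^ 2 = q ^ 2 := by
        rw [← hfd, ← hffix _ (hsqC q hq)]; simp only [hf]; rw [conj_pow]
      rw [hcq.mul_pow, mul_eq_left, pow_two] at h1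
      refine hcase _ hz (h2N q ?_)
      rw [hfd q, hfm, hffix _ hz, hfd q, mul_assoc, h1, mul_one]
    have hDD : ∀ q ∈ C0, dlt a (dlt a q) = 1 := by
      intro q hq
      refine fact1 _ (hmem a q hq) ?_
      by_contra hne
      obtain ⟨n, hn⟩ := hev q hq
      obtain ⟨q0, hq0, hno, hyes⟩ := exists_step (D := (C0 : Set X)) (dlt a) (hmem a)
        (fun u => dlt a (dlt a u) ∈ Z0) n q hq (by rw [hn, hd1, hd1]; exact one_mem _) hne
      set q1 := dlt a q0 with hq1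
      set c := dlt a q1 with hc
      have hq1C : q1 ∈ C0 := hmem a q0 hq0
      have hcC : c ∈ C0 := hmem a q1 hq1C
      have hdc : dlt a c = 1 := fact1 c hcC hyes
      have hfc : f c = c := by rw [hfd, hdc, mul_one]
      have f0 : f q0 = q0 * q1 := hfd q0
      have f1 : f q1 = q1 * c := hfd q1
      have hk : ∀ u ∈ C0, ∀ v ∈ C0, f (u * v * u⁻¹ * v⁻¹) = u * v * u⁻¹ * v⁻¹ := by
        intro u hu v hv
        apply hffix
        refine ⟨?_, ?_⟩
        · exact show u * v * u⁻¹ * v⁻¹ ∈ C0 from mul_mem (mul_mem (mul_mem hu hv) (inv_mem hu)) (inv_mem hv)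
        exact (
          Subgroup.mem_centralizer_iff.mpr fun w hw => hcomC u hu v hv w hw)
      have e1 : q1 * c * q1⁻¹ = c := by
        have h := hk q0 hq0 c hcC
        rw [hfm, hfm, hfm, hfi, hfi, f0, hfc] at h
        have h' : q0 * (q1 * c * q1⁻¹) * q0⁻¹ * c⁻¹ = q0 * c * q0⁻¹ * c⁻¹ := by rw [← h]; group
        simpa using h'
      have hcc : Commute q1 c := by
        show q1 * c = c * q1
        calc q1 * c = q1 * c * q1⁻¹ * q1 := by group
          _ = c * q1 := by rw [e1]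
      have hc2 : c ^ 2 = 1 := by
        have h1 : (q1 * c) ^ 2 = q1 ^ 2 := by
          rw [← f1, ← hffix _ (hsqC q1 hq1C)]; simp only [hf]; rw [conj_pow]
        rw [hcc.mul_pow, mul_eq_left] at h1
        exact h1
      have hcA : c ∈ A := h2N q1 (by rw [f1, hfm, f1, hfc, mul_assoc, ← pow_two, hc2, mul_one])
      have e2 : q0 * c * q0⁻¹ = c := by
        have h := hk q0 hq0 q1 hq1C
        rw [hfm, hfm, hfm, hfi, hfi, f0, f1] at h
        have hz := hcomC q0 hq0 c hcC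
        have h' : q0 * q1 * q0⁻¹ * q1⁻¹ * (q0 * c * q0⁻¹ * c⁻¹) = q0 * q1 * q0⁻¹ * q1⁻¹ := by
          calc q0 * q1 * q0⁻¹ * q1⁻¹ * (q0 * c * q0⁻¹ * c⁻¹)
              = q0 * q1 * q0⁻¹ * (q1⁻¹ * (q0 * c * q0⁻¹ * c⁻¹)) := by group
            _ = q0 * q1 * q0⁻¹ * ((q0 * c * q0⁻¹ * c⁻¹) * q1⁻¹) := by
                rw [hz q1⁻¹ (inv_mem hq1C)]
            _ = q0 * q1 * c * q0⁻¹ * c⁻¹ * q1⁻¹ := by group
            _ = q0 * q1 * (q1 * c * q1⁻¹) * q0⁻¹ * c⁻¹ * q1⁻¹ := by rw [e1]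
            _ = q0 * q1 * (q1 * c) * (q0 * q1)⁻¹ * (q1 * c)⁻¹ := by group
            _ = q0 * q1 * q0⁻¹ * q1⁻¹ := h
        have h'' := mul_eq_left.mp h'
        rwa [mul_inv_eq_one] at h''
      by_cases hc1 : c = 1
      · exact hno (show dlt a q1 ∈ Z0 by rw [← hc, hc1]; exact one_mem _)
      have hq0A : q1 ∈ A := hdlt a ha c hcA hc1 q0 (by
        calc q0 * c = q0 * c * q0⁻¹ * q0 := by group
          _ = c * q0 := by rw [e2])
      exact hc1 (by rw [hc, dlt, hab a ha q1 hq0A, mul_inv_cancel_right, inv_mul_cancel])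
    have hff : ∀ q ∈ C0, f (f q) = q * (dlt a q) ^ 2 := by
      intro q hq
      have : f (dlt a q) = dlt a q := by rw [hfd, hDD q hq, mul_one]
      rw [hfd q, hfm, hfd q, this, pow_two, mul_assoc]
    have hsq2 : ∀ q : X, dlt (a ^ 2) q = q⁻¹ * f (f q) := fun q => by
      simp only [dlt, hf, pow_two]; group
    refine ⟨mem_pCore_of_stab hcX C hcom hpow hcen C0 Z0 hC0 hZ0
      (fun q hq => by rw [hsq2, hff q hq, inv_mul_cancel_left]; exact hsqC _ (hmem a q hq))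
      (fun z hz => ⟨1, one_mem _, by rw [hsq2, hffix z hz, hffix z hz, inv_mul_cancel, one_pow]⟩), ?_⟩
    intro q hq
    set c := dlt a q with hc
    have hcC : c ∈ C0 := hmem a q hq
    have hfc : f c = c := by rw [hfd, hDD q hq, mul_one]
    have h1 : q * c * (q * c) = q * q := by
      rw [← hfd q, ← hfm]
      exact hffix _ (by rw [← pow_two]; exact hsqC q hq)
    have h2 : q⁻¹ * c * q = c⁻¹ := by
      calc q⁻¹ * c * q = q⁻¹ * q⁻¹ * (q * c * (q * c)) * c⁻¹ := by group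
        _ = c⁻¹ := by rw [h1]; group
    have h3 : c ^ 4 = 1 := by
      have hz := hsqC c hcC
      have h4 : q⁻¹ * c ^ 2 * q = c ^ 2 := by
        rw [mul_assoc, ← hZcomm _ hz q hq, inv_mul_cancel_left]
      have h5 : q⁻¹ * c ^ 2 * q = (c ^ 2)⁻¹ := by
        rw [← inv_pow, ← h2]; simpa using (conj_pow (a := q⁻¹) (b := c) (i := 2)).symm
      rw [h4] at h5
      rw [show (4 : ℕ) = 2 + 2 from rfl, pow_add]
      nth_rewrite 2 [h5]
      exact mul_inv_cancel _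
    have h6 : f (f (f (f q))) = q := by
      rw [hff q hq, hfm q, hfm (f q), hff q hq, ← hc]
      have : f (c ^ 2) = c ^ 2 := by
        conv_rhs => rw [← hfc]
        simp only [hf]; rw [conj_pow]
      rw [this, this, mul_assoc, ← pow_add, show (2 + 2 : ℕ) = 4 from rfl, h3, mul_one]
    calc q * a ^ 4 = f (f (f (f q))) * a ^ 4 := by rw [h6]
      _ = a ^ 4 * q := by simp only [hf, pow_succ, pow_zero, one_mul]; group
  refine ⟨fun a ha => ?_, Or.inl fun a ha => ?_⟩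
  · by_cases ha2 : a ^ 2 = 1
    · rw [ha2]; exact one_mem _
    · exact (main a ha ha2).1
  · by_cases ha2 : a ^ 2 = 1
    · rw [show (4 : ℕ) = 2 * 2 from rfl, pow_mul, ha2, one_pow]
    · obtain ⟨h1, h2⟩ := main a ha ha2
      have h4 : a ^ 4 ∈ Q := by rw [show (4 : ℕ) = 2 * 2 from rfl, pow_mul]; exact pow_mem h1 2
      exact hcase _ (hCcen _ h4 h2) (pow_mem ha 4)

/-- Let X be a finite group whose generalized Fitting subgroup equals its largest normal 2-subgroup Q, and let A be an abelian 2-subgroup of X such that every conjugate of A equals A or meets A trivially. Let B be the subgroup generated by the squares of the elements of A. Then B lies in Q, and if B is not an elementary abelian 2-group then the normal closure of B in X is commutative. -/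
theorem result {X : Type*} [Group X] [Finite X]
    (hX : Cfsg.generalizedFittingSubgroup X = Cfsg.pCore 2 X) (A : Subgroup X) (hA2 : IsPGroup 2 ↥A) (hAa : IsMulCommutative ↥A)
    (hti : ∀ h : X, A.map (MulAut.conj h).toMonoidHom = A ∨ A.map (MulAut.conj h).toMonoidHom ⊓ A = ⊥) :
    Subgroup.closure ((fun a : X => a ^ 2) '' (A : Set X)) ≤ Cfsg.pCore 2 X ∧
      (¬ Cfsg.IsElementaryAbelian 2 (Subgroup.closure ((fun a : X => a ^ 2) '' (A : Set X))) →
        IsMulCommutative ↥(Subgroup.normalClosure ((fun a : X => a ^ 2) '' (A : Set X)))) := by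
  classical
  have : Fact (Nat.Prime 2) := ⟨Nat.prime_two⟩
  have hab : ∀ u ∈ A, ∀ v ∈ A, u * v = v * u := fun u hu v hv => setLike_mul_comm hu hv
  have hN : ∀ k e : X, e ∈ A → e ≠ 1 → k * e * k⁻¹ ∈ A → ∀ f ∈ A, k * f * k⁻¹ ∈ A := by
    intro k e he he1 hke f hf
    rcases hti k with h | h
    · rw [← h]; exact ⟨f, hf, rfl⟩
    · exfalso
      have h1 : k * e * k⁻¹ ∈ A.map (MulAut.conj k).toMonoidHom ⊓ A := ⟨⟨e, he, rfl⟩, hke⟩
      rw [h, Subgroup.mem_bot] at h1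
      exact he1 (conj_eq_one_iff.mp h1)
  obtain ⟨hsq, hdis⟩ := core hX A hA2 hab hN
  refine ⟨(Subgroup.closure_le _).mpr ?_, fun hne => ?_⟩
  · rintro _ ⟨a, ha, rfl⟩
    exact hsq a ha
  rcases hdis with h4 | ⟨Z0, hZn, hZc, e0, he0Z, he0A, he01⟩
  · exfalso
    apply hne
    have hle : Subgroup.closure ((fun a : X => a ^ 2) '' (A : Set X)) ≤ A :=
      (Subgroup.closure_le _).mpr (by rintro _ ⟨a, ha, rfl⟩; exact pow_mem ha 2)
    refine ⟨⟨⟨fun u v => Subtype.ext (hab u (hle u.2) v (hle v.2))⟩⟩, fun x hx => ?_⟩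
    induction hx using Subgroup.closure_induction with
    | mem y hy =>
      obtain ⟨a, ha, rfl⟩ := hy
      rw [← pow_mul]; exact h4 a ha
    | one => simp
    | mul y z hy hz e1 e2 =>
      rw [(show Commute y z from hab y (hle hy) z (hle hz)).mul_pow, e1, e2, one_mul]
    | inv y hy e1 => rw [inv_pow, e1, inv_one]
  obtain ⟨j, hj, hj2⟩ : ∃ e ∈ Z0, e ∈ A ∧ e ≠ 1 ∧ e ^ 2 = 1 := by
    obtain ⟨k, hk⟩ := hA2 ⟨e0, he0A⟩
    have hk' : e0 ^ 2 ^ k = 1 := congrArg Subtype.val hk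
    obtain ⟨r, hr⟩ := (Nat.dvd_prime_pow Nat.prime_two).mp (orderOf_dvd_of_pow_eq_one hk')
    obtain ⟨r', rfl⟩ : ∃ r', r = r' + 1 := by
      rcases r with _ | r'
      · exact absurd (orderOf_eq_one_iff.mp hr.2) he01
      · exact ⟨r', rfl⟩
    refine ⟨e0 ^ 2 ^ r', pow_mem he0Z _, pow_mem he0A _, fun h => ?_, ?_⟩
    · have hdiv := orderOf_dvd_of_pow_eq_one h
      rw [hr.2] at hdiv
      have := (Nat.pow_dvd_pow_iff_le_right (by norm_num : 1 < 2)).mp hdiv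
      omega
    · rw [← pow_mul, ← pow_succ, ← hr.2, pow_orderOf_eq_one]
  -- squares normalize every conjugate of `A`
  have key : ∀ g : X, ∀ a ∈ A, ∀ f ∈ A, (g⁻¹ * a ^ 2 * g) * f * (g⁻¹ * a ^ 2 * g)⁻¹ ∈ A := by
    intro g a ha
    set z := g * j * g⁻¹ with hz
    have hzZ : z ∈ Z0 := hZn.conj_mem j hj g
    set c := z⁻¹ * (a * z * a⁻¹) with hc
    have hcZ : c ∈ Z0 := mul_mem (inv_mem hzZ) (hZn.conj_mem z hzZ a)
    have hcA : c ∈ A := by
      have hza : z⁻¹ * a * z ∈ A := by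
        have := hN z⁻¹ j hj2.1 hj2.2.1 (by
          rw [inv_inv, mul_assoc, hZc j hj z hzZ, inv_mul_cancel_left]; exact hj2.1) a ha
        simpa using this
      have : c = z⁻¹ * a * z * a⁻¹ := by rw [hc]; group
      rw [this]; exact mul_mem hza (inv_mem ha)
    have hz2 : z ^ 2 = 1 := by rw [hz, conj_pow, hj2.2.2, mul_one, mul_inv_cancel]
    have hc2 : c ^ 2 = 1 := by
      have h1 : Commute z⁻¹ (a * z * a⁻¹) := hZc _ (inv_mem hzZ) _ (hZn.conj_mem z hzZ a)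
      rw [hc, h1.mul_pow, inv_pow, hz2, conj_pow, hz2, mul_one, mul_inv_cancel, inv_one, one_mul]
    have hfix : a ^ 2 * z * (a ^ 2)⁻¹ = z := by
      have e1 : a * z * a⁻¹ = z * c := by rw [hc]; group
      calc a ^ 2 * z * (a ^ 2)⁻¹ = a * (a * z * a⁻¹) * a⁻¹ := by rw [pow_two]; group
        _ = (a * z * a⁻¹) * (a * c * a⁻¹) := by conv_lhs => rw [e1, ← conj_mul]
        _ = z * c * c := by rw [e1, hab a ha c hcA, mul_inv_cancel_right]
        _ = z := by rw [mul_assoc, ← pow_two, hc2, mul_one]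
    refine hN _ j hj2.1 hj2.2.1 ?_
    have : g⁻¹ * a ^ 2 * g * j * (g⁻¹ * a ^ 2 * g)⁻¹ = g⁻¹ * (a ^ 2 * z * (a ^ 2)⁻¹) * g := by rw [hz]; group
    rw [this, hfix, hz]
    have : g⁻¹ * (g * j * g⁻¹) * g = j := by group
    rw [this]; exact hj2.1
  have hcomm : ∀ g : X, ∀ a ∈ A, ∀ b ∈ A, a ^ 2 * (g * b ^ 2 * g⁻¹) = g * b ^ 2 * g⁻¹ * a ^ 2 := by
    intro g a ha b hb
    rcases hti g with h | h
    · refine hab _ (pow_mem ha 2) _ ?_
      rw [← h]; exact ⟨b ^ 2, pow_mem hb 2, rfl⟩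
    · set u := a ^ 2 with hu
      set v := g * b ^ 2 * g⁻¹ with hv
      have h1 : u * v * u⁻¹ * v⁻¹ ∈ A := by
        have := key g⁻¹ b hb u⁻¹ (inv_mem (pow_mem ha 2))
        rw [inv_inv] at this
        have e : u * v * u⁻¹ * v⁻¹ = u * (v * u⁻¹ * v⁻¹) := by group
        rw [e]; exact mul_mem (pow_mem ha 2) this
      have h2 : u * v * u⁻¹ * v⁻¹ ∈ A.map (MulAut.conj g).toMonoidHom := by
        refine ⟨(g⁻¹ * u * g) * b ^ 2 * (g⁻¹ * u * g)⁻¹ * (b ^ 2)⁻¹,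
          mul_mem (key g a ha _ (pow_mem hb 2)) (inv_mem (pow_mem hb 2)), ?_⟩
        simp only [MulEquiv.coe_toMonoidHom, MulAut.conj_apply, hv]; group
      have h3 : u * v * u⁻¹ * v⁻¹ ∈ A.map (MulAut.conj g).toMonoidHom ⊓ A := ⟨h2, h1⟩
      rw [h, Subgroup.mem_bot] at h3
      calc u * v = (u * v * u⁻¹ * v⁻¹) * (v * u) := by group
        _ = v * u := by rw [h3, one_mul]
  refine Subgroup.isMulCommutative_closure ?_
  intro x hx y hy
  obtain ⟨_, ⟨a, ha, rfl⟩, hxa⟩ := Group.mem_conjugatesOfSet_iff.mp hx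
  obtain ⟨_, ⟨b, hb, rfl⟩, hyb⟩ := Group.mem_conjugatesOfSet_iff.mp hy
  obtain ⟨g, rfl⟩ := isConj_iff.mp hxa
  obtain ⟨k, rfl⟩ := isConj_iff.mp hyb
  have h := hcomm (g⁻¹ * k) a ha b hb
  calc g * a ^ 2 * g⁻¹ * (k * b ^ 2 * k⁻¹) = g * (a ^ 2 * ((g⁻¹ * k) * b ^ 2 * (g⁻¹ * k)⁻¹)) * g⁻¹ := by group
    _ = k * b ^ 2 * k⁻¹ * (g * a ^ 2 * g⁻¹) := by rw [h]; group

end Cfsg.Agent.S1783
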