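import Cfsg.Statements.S1784
import Cfsg.Agent.Lib.ExtraspecialTwo
import Cfsg.Agent.Lib.Components

set_option autoImplicit false
set_option linter.unusedVariables false
open Cfsg
open scoped commutatorElement

namespace Cfsg.Agent.S1784

open scoped commutatorElement
universe u

variable {E : Type u} [Group E] [Finite E] {w : E}

theorem comm_left (h : CfsgLib.ExtraTwo.Ext2 E w) (a b c : E) : ⁅a * b, c⁆ = ⁅a, c⁆ * ⁅b, c⁆ := by
  rw [show ⁅a * b, c⁆ = a * ⁅b, c⁆ * a⁻¹ * ⁅a, c⁆ by simp only [commutatorElement_def]; group]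
  rcases h.comm_cases b c with e | e <;> rw [e]
  · simp
  · rw [(h.z_comm a).eq, mul_inv_cancel_right]
    exact (h.z_comm _).eq.symm

theorem comm_right (h : CfsgLib.ExtraTwo.Ext2 E w) (a b c : E) : ⁅a, b * c⁆ = ⁅a, b⁆ * ⁅a, c⁆ := by
  rw [show ⁅a, b * c⁆ = ⁅a, b⁆ * (b * ⁅a, c⁆ * b⁻¹) by simp only [commutatorElement_def]; group]
  rcases h.comm_cases a c with e | e <;> rw [e]
  · simp
  · rw [(h.z_comm b).eq, mul_inv_cancel_right]

/-- An involutory automorphism of an extraspecial 2-group: its commutators generate the centre of the group of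
elements fixed modulo the centre. -/
theorem closure_eq (h : CfsgLib.ExtraTwo.Ext2 E w) (φ : E ≃* E) (hφ : ∀ q, φ (φ q) = q) (hw : φ w = w)
    (hne : ∃ q, φ q ≠ q) (R : Subgroup E) (hR : ∀ q, q ∈ R ↔ (φ q * q⁻¹ = 1 ∨ φ q * q⁻¹ = w)) :
    Subgroup.closure (Set.range fun q => φ q * q⁻¹) = R ⊓ Subgroup.centralizer (R : Set E) := by
  classical
  set c : E → E := fun q => φ q * q⁻¹ with hc
  set K := Subgroup.closure (Set.range c) with hK
  have hφc : ∀ q r, φ ⁅r, q⁆ = ⁅r, q⁆ := fun q r => by
    rcases h.comm_cases r q with e | e <;> rw [e]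
    · exact map_one φ
    · exact hw
  have hKR : K ≤ R := (Subgroup.closure_le R).mpr (by
    rintro _ ⟨q, rfl⟩
    rw [SetLike.mem_coe, hR]
    have h1 : φ (c q) * (c q)⁻¹ = (c q * c q)⁻¹ := by simp only [hc, map_mul, map_inv, hφ]; group
    rw [h1]
    rcases h.sq (c q) with e | e <;> rw [e]
    · exact Or.inl inv_one
    · exact Or.inr (inv_eq_of_mul_eq_one_right h.zz))
  have hKc : K ≤ Subgroup.centralizer (R : Set E) := (Subgroup.closure_le _).mpr (by
    rintro _ ⟨q, rfl⟩ r hr
    have he : φ r * r⁻¹ ∈ Subgroup.center E := (h.center_iff _).mpr ((hR r).mp hr)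
    have h1 : ⁅φ r * r⁻¹ * r, c q * q⁆ = ⁅r, q⁆ := by
      simp only [hc, inv_mul_cancel_right]
      rw [← map_commutatorElement, hφc]
    rw [comm_left h, comm_right h r, commutatorElement_eq_one_iff_mul_comm.mpr
      (Subgroup.mem_center_iff.mp he _).symm, one_mul, mul_eq_right] at h1
    exact commutatorElement_eq_one_iff_mul_comm.mp h1)
  have hwK : w ∈ K := by
    by_contra hwK
    obtain ⟨q₀, hq₀⟩ := hne
    have hcc : ∀ r, c r ∈ Subgroup.center E := by
      intro r
      refine Subgroup.mem_center_iff.mpr fun q => commutatorElement_eq_one_iff_mul_comm.mp ?_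
      refine (h.comm_cases q (c r)).resolve_right fun e => hwK ?_
      have h1 : q * c r * q⁻¹ ∈ K := by
        have : q * c r * q⁻¹ = (c q)⁻¹ * c (q * r) := by simp only [hc, map_mul]; group
        rw [this]
        exact mul_mem (inv_mem (Subgroup.subset_closure ⟨q, rfl⟩)) (Subgroup.subset_closure ⟨q * r, rfl⟩)
      rw [← e, commutatorElement_def]
      exact mul_mem h1 (inv_mem (Subgroup.subset_closure ⟨r, rfl⟩))
    rcases (h.center_iff _).mp (hcc q₀) with e | e
    · exact hq₀ (mul_inv_eq_one.mp e)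
    · exact hwK (e ▸ Subgroup.subset_closure ⟨q₀, rfl⟩)
  have hCK : Subgroup.centralizer (K : Set E) ≤ R := by
    intro q hq
    rw [hR]
    refine (h.center_iff _).mp (Subgroup.mem_center_iff.mpr fun r => commutatorElement_eq_one_iff_mul_comm.mp ?_)
    have h1 : ⁅c r * r, c q * q⁆ = ⁅r, q⁆ := by
      simp only [hc, inv_mul_cancel_right]
      rw [← map_commutatorElement, hφc]
    have hxq : ⁅c r, q⁆ = 1 := commutatorElement_eq_one_iff_mul_comm.mpr (hq _ (Subgroup.subset_closure ⟨r, rfl⟩))
    have hxy : ⁅c r, c q⁆ = 1 := commutatorElement_eq_one_iff_mul_comm.mpr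
      ((hKc (Subgroup.subset_closure ⟨r, rfl⟩)) (c q) (hKR (Subgroup.subset_closure ⟨q, rfl⟩))).symm
    rw [comm_left h, comm_right h (c r), comm_right h r, hxy, hxq, one_mul, one_mul, mul_eq_right] at h1
    exact h1
  have hRK : R = Subgroup.centralizer (K : Set E) :=
    le_antisymm (fun r hr k hk => (hKc hk r hr).symm) hCK
  refine le_antisymm (le_inf hKR hKc) ?_
  have hwC : w ∈ Subgroup.centralizer (K : Set E) := fun k _ => (h.z_comm k).eq
  have h1 := h.card_mul_card_centralizer hwK
  have h2 := h.card_mul_card_centralizer hwC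
  have h3 : K = Subgroup.centralizer (Subgroup.centralizer (K : Set E) : Set E) := by
    refine Subgroup.eq_of_le_of_card_ge (fun k hk q hq => (hq k hk).symm) (le_of_eq ?_)
    refine Nat.eq_of_mul_eq_mul_left (Nat.card_pos (α := Subgroup.centralizer (K : Set E))) ?_
    rw [h2, ← h1, mul_comm]
  rw [hRK]
  exact inf_le_right.trans h3.ge

/-- Let G be a finite group and let z be an involution of G such that Q, the generalized Fitting subgroup of the centralizer C of z, is a 2-group of symplectic type (every characteristic abelian subgroup of Q is cyclic); suppose Q is extraspecial, and view Q inside G. Let α be an involution of C that is not in Q, and let Q₀ be the subgroup of those q ∈ Q whose commutator with α lies in the subgroup generated by z. Then (a) the subgroup generated by the commutators α q α⁻¹ q⁻¹, q ∈ Q, equals the centre of Q₀; and (b) if Q₀ is not contained in the product of the centralizer of α in Q with the subgroup generated by z, then some element of Q conjugates α to α z. -/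
theorem result {G : Type*} [Group G] [Finite G] (z : G) (hz : orderOf z = 2) (hQ : Cfsg.IsOfSymplecticType ↥(Cfsg.generalizedFittingSubgroup ↥(Subgroup.centralizer ({z} : Set G)))) (hE : Cfsg.IsExtraspecial 2 ↥(Cfsg.generalizedFittingSubgroup ↥(Subgroup.centralizer ({z} : Set G))))
    (α : G) (hα : orderOf α = 2) (hαC : α ∈ Subgroup.centralizer ({z} : Set G)) (hαQ : α ∉ (Cfsg.generalizedFittingSubgroup ↥(Subgroup.centralizer ({z} : Set G))).map (Subgroup.centralizer ({z} : Set G)).subtype)
    (Q₀ : Subgroup G) (hQ₀ : ∀ q : G, q ∈ Q₀ ↔ (q ∈ (Cfsg.generalizedFittingSubgroup ↥(Subgroup.centralizer ({z} : Set G))).map (Subgroup.centralizer ({z} : Set G)).subtype ∧ α * q * α⁻¹ * q⁻¹ ∈ Subgroup.zpowers z)) :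
    Subgroup.closure ((fun q : G => α * q * α⁻¹ * q⁻¹) '' ((Cfsg.generalizedFittingSubgroup ↥(Subgroup.centralizer ({z} : Set G))).map (Subgroup.centralizer ({z} : Set G)).subtype : Set G)) = (Subgroup.center ↥Q₀).map Q₀.subtype ∧
      (¬ Q₀ ≤ ((Cfsg.generalizedFittingSubgroup ↥(Subgroup.centralizer ({z} : Set G))).map (Subgroup.centralizer ({z} : Set G)).subtype ⊓ Subgroup.centralizer ({α} : Set G)) ⊔ Subgroup.zpowers z →
        ∃ q ∈ (Cfsg.generalizedFittingSubgroup ↥(Subgroup.centralizer ({z} : Set G))).map (Subgroup.centralizer ({z} : Set G)).subtype, q * α * q⁻¹ = α * z) := by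
    classical
    set C := Subgroup.centralizer ({z} : Set G) with hC
    set F := Cfsg.generalizedFittingSubgroup ↥C with hFdef
    set a : C := ⟨α, hαC⟩ with ha
    have hαα : α * α = 1 := by rw [← pow_two, ← hα, pow_orderOf_eq_one]
    have hαi : α⁻¹ = α := inv_eq_of_mul_eq_one_right hαα
    have haa : a * a = 1 := Subtype.ext hαα
    set zC : C := ⟨z, Subgroup.mem_centralizer_singleton_iff.mpr rfl⟩ with hzC
    have hzc : zC ∈ Subgroup.center C := Subgroup.mem_center_iff.mpr fun g =>
      Subtype.ext (Subgroup.mem_centralizer_singleton_iff.mp g.2)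
    have hzF : zC ∈ F := CfsgLib.centralizer_generalizedFitting_le fun g _ => Subgroup.mem_center_iff.mp hzc g
    obtain ⟨w, h⟩ := CfsgLib.ExtraTwo.ofExtraspecial hE
    have hzw : (⟨zC, hzF⟩ : F) = w := by
      refine ((h.center_iff _).mp (Subgroup.mem_center_iff.mpr fun g =>
        Subtype.ext (Subgroup.mem_center_iff.mp hzc g))).resolve_left fun e => ?_
      have : z = 1 := congrArg (fun u : F => ((u : C) : G)) e
      rw [this, orderOf_one] at hz
      exact absurd hz (by norm_num)
    set φ : F ≃* F := MulAut.conjNormal a with hφdef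
    have hφv : ∀ q : F, ((φ q : C) : G) = α * (q : C) * α⁻¹ := fun q => by
      rw [hφdef, MulAut.conjNormal_apply]
      rfl
    have hφ : ∀ q, φ (φ q) = q := fun q => by
      rw [hφdef, ← MulAut.mul_apply, ← map_mul, haa, map_one]
      rfl
    have hw : φ w = w := by
      refine Subtype.ext (Subtype.ext ?_)
      rw [hφv, ← hzw]
      show α * z * α⁻¹ = z
      rw [Subgroup.mem_centralizer_singleton_iff.mp hαC, mul_inv_cancel_right]
    have hne : ∃ q, φ q ≠ q := by
      by_contra hall
      push Not at hall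
      refine hαQ ⟨a, CfsgLib.centralizer_generalizedFitting_le fun g hg => ?_, rfl⟩
      refine Subtype.ext ?_
      have h1 := congrArg (fun u : F => ((u : C) : G)) (hall ⟨g, hg⟩)
      rw [hφv] at h1
      exact (mul_inv_eq_iff_eq_mul.mp h1).symm
    set ι : F →* G := C.subtype.comp F.subtype with hι
    have hιv : ∀ q : F, ι q = ((q : C) : G) := fun q => rfl
    have hrange : F.map C.subtype = ι.range := by
      rw [hι, MonoidHom.range_eq_map, ← Subgroup.map_map, ← MonoidHom.range_eq_map, Subgroup.range_subtype]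
    set R : Subgroup F := Q₀.comap ι with hRdef
    have hR : ∀ q, q ∈ R ↔ (φ q * q⁻¹ = 1 ∨ φ q * q⁻¹ = w) := by
      intro q
      rw [hRdef, Subgroup.mem_comap, hQ₀, hrange]
      have hinj : Function.Injective ι := Subtype.val_injective.comp Subtype.val_injective
      rw [← hinj.eq_iff, ← hinj.eq_iff, map_one, map_mul, map_inv]
      simp only [MonoidHom.mem_range, hιv, hφv]
      have hwv : ((w : C) : G) = z := by rw [← hzw]
      rw [hwv]
      constructor
      · rintro ⟨-, hm⟩
        obtain ⟨n, hn⟩ := Subgroup.mem_zpowers_iff.mp hm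
        rcases Int.emod_two_eq_zero_or_one n with e | e
        · left; rw [← hn, ← zpow_mod_orderOf, hz]; simp [e]
        · right; rw [← hn, ← zpow_mod_orderOf, hz]; simp [e]
      · intro hq
        refine ⟨⟨q, rfl⟩, ?_⟩
        rcases hq with e | e <;> rw [e]
        · exact one_mem _
        · exact Subgroup.mem_zpowers z
    have hQle : Q₀ ≤ ι.range := fun q hq => hrange ▸ ((hQ₀ q).mp hq).1
    have hmain := closure_eq h φ hφ hw hne R hR
    constructor
    · have himg : (fun q : G => α * q * α⁻¹ * q⁻¹) '' ((F.map C.subtype : Subgroup G) : Set G) =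
          ι '' Set.range fun q => φ q * q⁻¹ := by
        rw [hrange, MonoidHom.coe_range, ← Set.range_comp, ← Set.range_comp]
        rfl
      rw [himg, ← MonoidHom.map_closure, hmain]
      ext g
      simp only [Subgroup.mem_map, Subgroup.mem_inf, hRdef, Subgroup.mem_comap]
      constructor
      · rintro ⟨q, ⟨hq, hqc⟩, rfl⟩
        refine ⟨⟨ι q, hq⟩, Subgroup.mem_center_iff.mpr fun u => ?_, rfl⟩
        obtain ⟨v, hv⟩ := hQle u.2
        refine Subtype.ext ?_
        show (u : G) * ι q = ι q * u
        rw [← hv, ← map_mul, ← map_mul, hqc v (show ι v ∈ Q₀ from hv ▸ u.2)]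
      · rintro ⟨⟨g, hg⟩, hgc, rfl⟩
        obtain ⟨q, rfl⟩ := hQle hg
        refine ⟨q, ⟨hg, fun v hv => ?_⟩, rfl⟩
        refine (Subtype.val_injective.comp Subtype.val_injective : Function.Injective ι) ?_
        show ι (v * q) = ι (q * v)
        rw [map_mul, map_mul]
        exact congrArg Subtype.val (Subgroup.mem_center_iff.mp hgc ⟨ι v, hv⟩)
    · intro hnot
      obtain ⟨q, hq, hqn⟩ := SetLike.not_le_iff_exists.mp hnot
      obtain ⟨hqF, hqz⟩ := (hQ₀ q).mp hq
      refine ⟨q, hqF, ?_⟩
      obtain ⟨n, hn⟩ := Subgroup.mem_zpowers_iff.mp hqz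
      rcases Int.emod_two_eq_zero_or_one n with e | e
      · exfalso
        rw [← zpow_mod_orderOf, hz] at hn
        simp only [Nat.cast_ofNat, e, zpow_zero] at hn
        refine hqn (Subgroup.mem_sup_left ⟨hqF, Subgroup.mem_centralizer_singleton_iff.mpr ?_⟩)
        exact (mul_inv_eq_iff_eq_mul.mp (mul_inv_eq_one.mp hn.symm)).symm
      · rw [← zpow_mod_orderOf, hz] at hn
        simp only [Nat.cast_ofNat, e, zpow_one] at hn
        rw [hn, ← mul_assoc α, ← mul_assoc α, ← mul_assoc α, hαi, hαα, one_mul]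

end Cfsg.Agent.S1784
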