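import Cfsg.Statements.S1785
import Mathlib
import Cfsg.Agent.Lib.Elementary

set_option autoImplicit false
set_option linter.unusedVariables false
open Cfsg
open scoped commutatorElement

namespace Cfsg.Agent.S1785

open scoped commutatorElement Pointwise

theorem exists_eight {X : Type*} [Group X] [Finite X] {K W : Subgroup X} (hK : Cfsg.IsElementaryAbelian 2 K) (hWK : W ≤ K)
    (hK8 : 8 ≤ Nat.card K) (hW : Nat.card W ≤ 8) : ∃ A : Subgroup X, W ≤ A ∧ A ≤ K ∧ Cfsg.IsElementaryAbelian 2 A ∧ Nat.card A = 8 := by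
  haveI : Fact (Nat.Prime 2) := ⟨Nat.prime_two⟩
  have hKp : IsPGroup 2 ↥K := fun x => ⟨1, Subtype.ext (by simpa using hK.2 x x.2)⟩
  obtain ⟨k, hk⟩ := IsPGroup.iff_card.mp hKp
  obtain ⟨j, hj⟩ := IsPGroup.iff_card.mp (hKp.to_le hWK)
  have hk3 : 3 ≤ k := (Nat.pow_le_pow_iff_right (by norm_num : 1 < 2)).mp (by rw [← hk]; norm_num; exact hK8)
  have hj3 : j ≤ 3 := (Nat.pow_le_pow_iff_right (by norm_num : 1 < 2)).mp (by rw [← hj]; norm_num; exact hW)
  obtain ⟨A, hA, hWA⟩ := Sylow.exists_subgroup_card_pow_prime_le 2 (n := j) (m := 3) (G := ↥K)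
    (hk ▸ pow_dvd_pow 2 hk3) (W.subgroupOf K) (by rw [Nat.card_congr (Subgroup.subgroupOfEquivOfLe hWK).toEquiv, hj]) hj3
  refine ⟨A.map K.subtype, ?_, Subgroup.map_subtype_le A, ⟨?_, fun a ha => hK.2 a (Subgroup.map_subtype_le A ha)⟩, ?_⟩
  · rw [← Subgroup.map_subgroupOf_eq_of_le hWK]; exact Subgroup.map_mono hWA
  · refine IsMulCommutative.of_comm fun a b => Subtype.ext ?_
    have h := congrArg Subtype.val (hK.1.is_comm.comm (⟨a, Subgroup.map_subtype_le A a.2⟩ : ↥K) ⟨b, Subgroup.map_subtype_le A b.2⟩)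
    simpa using h
  · rw [Subgroup.card_map_of_injective K.subtype_injective, hA]; norm_num

theorem card_sq_le {X : Type*} [Group X] [Finite X] {U : Subgroup X} (hU : Cfsg.IsElementaryAbelian 2 U) {v : X}
    (hv : v * v = 1) (hn : ∀ u ∈ U, v * u * v⁻¹ ∈ U) :
    Nat.card U ≤ Nat.card ↥(U ⊓ Subgroup.centralizer ({v} : Set X)) ^ 2 := by
  have hc : ∀ a ∈ U, ∀ b ∈ U, a * b = b * a := fun a ha b hb => congrArg Subtype.val (hU.1.is_comm.comm (⟨a, ha⟩ : ↥U) ⟨b, hb⟩)
  have h2 : ∀ a ∈ U, a * a = 1 := fun a ha => by rw [← pow_two]; exact hU.2 a ha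
  set C := U ⊓ Subgroup.centralizer ({v} : Set X) with hC
  have hvi : v⁻¹ = v := inv_eq_of_mul_eq_one_right hv
  let f : ↥U →* ↥U := MonoidHom.mk' (fun u => ⟨(u : X) * (v * u * v⁻¹), U.mul_mem u.2 (hn u u.2)⟩) fun a b => Subtype.ext (by
    show (a : X) * b * (v * (a * b) * v⁻¹) = a * (v * a * v⁻¹) * (b * (v * b * v⁻¹))
    calc (a : X) * b * (v * (a * b) * v⁻¹) = a * (b * (v * a * v⁻¹)) * (v * b * v⁻¹) := by group
      _ = a * ((v * a * v⁻¹) * b) * (v * b * v⁻¹) := by rw [hc b b.2 _ (hn a a.2)]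
      _ = a * (v * a * v⁻¹) * (b * (v * b * v⁻¹)) := by group)
  have hker : Nat.card f.ker ≤ Nat.card C := by
    refine Nat.card_le_card_of_injective (fun u : ↥f.ker => (⟨u.1.1, u.1.2, ?_⟩ : ↥C)) fun a b e =>
      Subtype.ext (Subtype.ext (congrArg (fun x : ↥C => (x : X)) e))
    have h : (u.1 : X) * (v * u.1 * v⁻¹) = 1 := congrArg Subtype.val (MonoidHom.mem_ker.mp u.2)
    refine Subgroup.mem_centralizer_singleton_iff.mpr ?_
    have h1 : v * (u.1 : X) * v⁻¹ = u.1 := by
      rw [← inv_eq_of_mul_eq_one_right h, inv_eq_of_mul_eq_one_right (h2 _ u.1.2)]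
    calc (u.1 : X) * v = (v * u.1 * v⁻¹) * v := by rw [h1]
      _ = v * u.1 := by group
  have hran : Nat.card f.range ≤ Nat.card C := by
    refine Nat.card_le_card_of_injective (fun u : ↥f.range => (⟨u.1.1, u.1.2, ?_⟩ : ↥C)) fun a b e =>
      Subtype.ext (Subtype.ext (congrArg (fun x : ↥C => (x : X)) e))
    obtain ⟨a, ha⟩ := u.2
    rw [← ha]
    refine Subgroup.mem_centralizer_singleton_iff.mpr ?_
    show (a : X) * (v * a * v⁻¹) * v = v * (a * (v * a * v⁻¹))
    calc (a : X) * (v * a * v⁻¹) * v = a * (v * a) := by group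
      _ = (v * v) * (a * (v * a)) := by rw [hv, one_mul]
      _ = v * ((v * a * v⁻¹) * (v * v) * a) := by group
      _ = v * ((v * a * v⁻¹) * a) := by rw [hv, mul_one]
      _ = v * (a * (v * a * v⁻¹)) := by rw [hc _ (hn a a.2) a a.2]
  have h := Subgroup.card_eq_card_quotient_mul_card_subgroup f.ker
  rw [Nat.card_congr (QuotientGroup.quotientKerEquivRange f).toEquiv] at h
  rw [h, pow_two]
  exact Nat.mul_le_mul hran hker

theorem comm_bot {X : Type*} [Group X] {K C D : Subgroup X} (hK : Cfsg.IsElementaryAbelian 2 K) (hC : C ≤ K) (hD : D ≤ K) :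
    ⁅C, D⁆ = ⊥ :=
  Subgroup.commutator_eq_bot_iff_le_centralizer.mpr fun c hc => Subgroup.mem_centralizer_iff.mpr fun d hd =>
    congrArg Subtype.val (hK.1.is_comm.comm (⟨d, hD hd⟩ : ↥K) ⟨c, hC hc⟩)

theorem sup_elem {X : Type*} [Group X] {A D : Subgroup X} (hA : Cfsg.IsElementaryAbelian 2 A) (hD : Cfsg.IsElementaryAbelian 2 D)
    (hcom : D ≤ Subgroup.centralizer (A : Set X)) : Cfsg.IsElementaryAbelian 2 (A ⊔ D) := by
  have hAA : A ≤ Subgroup.centralizer (A : Set X) := fun a ha => Subgroup.mem_centralizer_iff.mpr fun b hb =>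
    congrArg Subtype.val (hA.1.is_comm.comm (⟨b, hb⟩ : ↥A) ⟨a, ha⟩)
  have hDD : D ≤ Subgroup.centralizer (D : Set X) := fun a ha => Subgroup.mem_centralizer_iff.mpr fun b hb =>
    congrArg Subtype.val (hD.1.is_comm.comm (⟨b, hb⟩ : ↥D) ⟨a, ha⟩)
  have h1 : A ⊔ D ≤ Subgroup.centralizer (A : Set X) := sup_le hAA hcom
  have h2 : A ⊔ D ≤ Subgroup.centralizer (D : Set X) := sup_le (Subgroup.le_centralizer_iff.mp hcom) hDD
  have h3 : A ⊔ D ≤ Subgroup.centralizer ((A ⊔ D : Subgroup X) : Set X) :=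
    Subgroup.le_centralizer_iff.mp (sup_le (Subgroup.le_centralizer_iff.mp h1) (Subgroup.le_centralizer_iff.mp h2))
  have hc : ∀ a ∈ A ⊔ D, ∀ b ∈ A ⊔ D, a * b = b * a := fun a ha b hb => Subgroup.mem_centralizer_iff.mp (h3 hb) a ha
  refine ⟨IsMulCommutative.of_comm fun a b => Subtype.ext (hc a a.2 b b.2), fun x hx => ?_⟩
  let T : Subgroup X :=
    { carrier := {w | w ∈ A ⊔ D ∧ w ^ 2 = 1}
      one_mem' := ⟨one_mem _, one_pow 2⟩
      mul_mem' := by
        rintro a b ⟨ha, ha2⟩ ⟨hb, hb2⟩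
        exact ⟨mul_mem ha hb, by rw [(show Commute a b from hc a ha b hb).mul_pow, ha2, hb2, one_mul]⟩
      inv_mem' := by
        rintro a ⟨ha, ha2⟩
        exact ⟨inv_mem ha, by rw [inv_pow, ha2, inv_one]⟩ }
  exact ((sup_le (fun a ha => ⟨Subgroup.mem_sup_left ha, hA.2 a ha⟩) fun a ha => ⟨Subgroup.mem_sup_right ha, hD.2 a ha⟩ :
    A ⊔ D ≤ T) hx).2

theorem card_cent {X : Type*} [Group X] [Finite X] {U V : Subgroup X} (hU : Cfsg.IsElementaryAbelian 2 U)
    (hV : Cfsg.IsElementaryAbelian 2 V) (hn : ∀ v ∈ V, ∀ u ∈ U, v * u * v⁻¹ ∈ U) {a b : X} (ha : a ∈ V) (hb : b ∈ V) :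
    Nat.card U ≤ Nat.card ↥(U ⊓ Subgroup.centralizer ({a, b} : Set X)) ^ 4 := by
  have hs : ∀ v ∈ V, v * v = 1 := fun v hv => by rw [← pow_two]; exact hV.2 v hv
  have h1 := card_sq_le hU (hs a ha) (hn a ha)
  set U1 := U ⊓ Subgroup.centralizer ({a} : Set X)
  have hab : a * b = b * a := congrArg Subtype.val (hV.1.is_comm.comm (⟨a, ha⟩ : ↥V) ⟨b, hb⟩)
  have h2 := card_sq_le (U := U1) ⟨IsMulCommutative.of_comm fun u w => Subtype.ext (by
    have h := congrArg Subtype.val (hU.1.is_comm.comm (⟨u, u.2.1⟩ : ↥U) ⟨w, w.2.1⟩)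
    simpa using h), fun u hu => hU.2 u hu.1⟩ (hs b hb)
    fun u hu => ⟨hn b hb u hu.1, by
      refine Subgroup.mul_mem _ (Subgroup.mul_mem _ ?_ hu.2) (Subgroup.inv_mem _ ?_) <;>
        exact Subgroup.mem_centralizer_singleton_iff.mpr hab.symm⟩
  have e : U1 ⊓ Subgroup.centralizer ({b} : Set X) = U ⊓ Subgroup.centralizer ({a, b} : Set X) := by
    ext x
    simp only [U1, Subgroup.mem_inf, Subgroup.mem_centralizer_iff, Set.mem_insert_iff, Set.mem_singleton_iff, forall_eq_or_imp, forall_eq, and_assoc]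
  rw [e] at h2
  calc Nat.card U ≤ Nat.card ↥U1 ^ 2 := h1
    _ ≤ (Nat.card ↥(U ⊓ Subgroup.centralizer ({a, b} : Set X)) ^ 2) ^ 2 := Nat.pow_le_pow_left h2 2
    _ = _ := by rw [← pow_mul]

/-- Let X be a finite 2-group having a normal elementary abelian subgroup of order at least 32. Then (a) for any two elementary abelian subgroups A, B of X of order 8 there is a chain A = A₁, A₂, …, Aₙ = B of elementary abelian subgroups of order 8 in which consecutive members commute elementwise; and (b) every elementary abelian subgroup of X of order 4 is contained in an elementary abelian subgroup of order 8. -/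
theorem result {X : Type*} [Group X] [Finite X]
    (hX : IsPGroup 2 X) (E : Subgroup X) [E.Normal] (hE : Cfsg.IsElementaryAbelian 2 E) (hE32 : 32 ≤ Nat.card ↥E) :
    (∀ A B : Subgroup X, Cfsg.IsElementaryAbelian 2 A → Nat.card ↥A = 8 → Cfsg.IsElementaryAbelian 2 B → Nat.card ↥B = 8 →
        Relation.ReflTransGen
          (fun C D : Subgroup X => Cfsg.IsElementaryAbelian 2 C ∧ Nat.card ↥C = 8 ∧ Cfsg.IsElementaryAbelian 2 D ∧ Nat.card ↥D = 8 ∧ ⁅C, D⁆ = ⊥)
          A B) ∧
      (∀ V : Subgroup X, Cfsg.IsElementaryAbelian 2 V → Nat.card ↥V = 4 →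
        ∃ A : Subgroup X, V ≤ A ∧ Cfsg.IsElementaryAbelian 2 A ∧ Nat.card ↥A = 8) := by
  classical
  haveI : Fact (Nat.Prime 2) := ⟨Nat.prime_two⟩
  have hn : ∀ x : X, ∀ u ∈ E, x * u * x⁻¹ ∈ E := fun x u hu => Subgroup.Normal.conj_mem inferInstance u hu x
  have hEsub : ∀ W : Subgroup X, W ≤ E → Cfsg.IsElementaryAbelian 2 W := fun W hW => ⟨IsMulCommutative.of_comm fun u w =>
    Subtype.ext (by
      have h := congrArg Subtype.val (hE.1.is_comm.comm (⟨u, hW u.2⟩ : ↥E) ⟨w, hW w.2⟩)
      simpa using h), fun u hu => hE.2 u (hW hu)⟩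
  have hpow : ∀ W : Subgroup X, ∃ j, Nat.card W = 2 ^ j := fun W => IsPGroup.iff_card.mp (hX.to_subgroup W)
  have gen2 : ∀ W : Subgroup X, ∀ a ∈ W, a ≠ 1 → ∀ b ∈ W, b ∉ Subgroup.zpowers a → Nat.card W ≤ 4 →
      W = Subgroup.zpowers a ⊔ Subgroup.zpowers b := by
    intro W a ha ha1 b hb hba hW
    refine (Subgroup.eq_of_le_of_card_ge (sup_le (Subgroup.zpowers_le.mpr ha) (Subgroup.zpowers_le.mpr hb)) (hW.trans ?_)).symm
    obtain ⟨j, hj⟩ := hpow (Subgroup.zpowers a ⊔ Subgroup.zpowers b)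
    obtain ⟨i, hi⟩ := hpow (Subgroup.zpowers a)
    have hlt : Nat.card (Subgroup.zpowers a) < Nat.card ↥(Subgroup.zpowers a ⊔ Subgroup.zpowers b) := by
      refine lt_of_le_of_ne (Subgroup.card_le_of_le le_sup_left) fun e => hba ?_
      exact (Subgroup.eq_of_le_of_card_ge le_sup_left e.ge).ge (Subgroup.mem_sup_right (Subgroup.mem_zpowers b))
    have hi0 : i ≠ 0 := by
      rintro rfl
      rw [pow_zero, Nat.card_zpowers, orderOf_eq_one_iff] at hi
      exact ha1 hi
    rw [hj, hi] at hlt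
    have h1 : i < j := (Nat.pow_lt_pow_iff_right (by norm_num : 1 < 2)).mp hlt
    rw [hj]
    calc 4 = 2 ^ 2 := by norm_num
      _ ≤ 2 ^ j := Nat.pow_le_pow_right (by norm_num) (by omega)
  have centpair : ∀ (W : Subgroup X) (a b : X), W ≤ Subgroup.zpowers a ⊔ Subgroup.zpowers b →
      Subgroup.centralizer ({a, b} : Set X) ≤ Subgroup.centralizer (W : Set X) := fun W a b h x hx =>
    Subgroup.mem_centralizer_iff.mpr fun w hw => by
      have : W ≤ Subgroup.centralizer ({x} : Set X) := h.trans (sup_le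
        (Subgroup.zpowers_le.mpr (Subgroup.mem_centralizer_singleton_iff.mpr (Subgroup.mem_centralizer_iff.mp hx a (Set.mem_insert a _))))
        (Subgroup.zpowers_le.mpr (Subgroup.mem_centralizer_singleton_iff.mpr (Subgroup.mem_centralizer_iff.mp hx b (Set.mem_insert_of_mem a rfl)))))
      exact Subgroup.mem_centralizer_singleton_iff.mp (this hw)
  -- four-groups have large centralizers in `E`
  have hfour : ∀ V : Subgroup X, Cfsg.IsElementaryAbelian 2 V → Nat.card V ≤ 4 → 4 ≤ Nat.card ↥(E ⊓ Subgroup.centralizer (V : Set X)) := by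
    intro V hV hV4
    have key : ∀ a ∈ V, ∀ b ∈ V, 4 ≤ Nat.card ↥(E ⊓ Subgroup.centralizer ({a, b} : Set X)) := by
      intro a ha b hb
      have h := hE32.trans (card_cent hE hV (fun v _ u hu => hn v u hu) ha hb)
      obtain ⟨j, hj⟩ := hpow (E ⊓ Subgroup.centralizer ({a, b} : Set X))
      rw [hj] at h ⊢
      rcases j with _ | _ | j
      · norm_num at h
      · norm_num at h
      · calc 4 = 2 ^ 2 := by norm_num
          _ ≤ 2 ^ (j + 2) := Nat.pow_le_pow_right (by norm_num) (by omega)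
    by_cases hex : ∃ a ∈ V, a ≠ 1 ∧ ∃ b ∈ V, b ∉ Subgroup.zpowers a
    · obtain ⟨a, ha, ha1, b, hb, hba⟩ := hex
      exact (key a ha b hb).trans (Subgroup.card_le_of_le (inf_le_inf_left _ (centpair V a b (gen2 V a ha ha1 b hb hba hV4).le)))
    · push Not at hex
      by_cases h1 : ∃ a ∈ V, a ≠ 1
      · obtain ⟨a, ha, ha1⟩ := h1
        exact (key a ha a ha).trans (Subgroup.card_le_of_le (inf_le_inf_left _ (centpair V a a fun b hb => Subgroup.mem_sup_left (hex a ha ha1 b hb))))
      · push Not at h1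
        exact (key 1 V.one_mem 1 V.one_mem).trans (Subgroup.card_le_of_le (inf_le_inf_left _ (centpair V 1 1 fun b hb => by
          rw [h1 b hb]; exact Subgroup.one_mem _)))
  refine ⟨?_, ?_⟩
  · set R := fun C D : Subgroup X => Cfsg.IsElementaryAbelian 2 C ∧ Nat.card ↥C = 8 ∧ Cfsg.IsElementaryAbelian 2 D ∧ Nat.card ↥D = 8 ∧ ⁅C, D⁆ = ⊥ with hR
    have hsymm : ∀ C D, R C D → R D C := fun C D ⟨h1, h2, h3, h4, h5⟩ => ⟨h3, h4, h1, h2, by rw [Subgroup.commutator_comm]; exact h5⟩
    have step : ∀ A : Subgroup X, Cfsg.IsElementaryAbelian 2 A → Nat.card A = 8 → ∀ W : Subgroup X, W ≤ E →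
        W ≤ Subgroup.centralizer (A : Set X) → Nat.card W ≤ 8 → ∃ A' : Subgroup X, R A A' ∧ W ≤ A' := by
      intro A hA hA8 W hWE hWA hW8
      obtain ⟨A', hWA', hA'K, hA', hA'8⟩ := exists_eight (sup_elem hA (hEsub W hWE) hWA) le_sup_right
        (hA8.ge.trans (Subgroup.card_le_of_le le_sup_left)) hW8
      exact ⟨A', ⟨hA, hA8, hA', hA'8, comm_bot (sup_elem hA (hEsub W hWE) hWA) le_sup_left hA'K⟩, hWA'⟩
    have toE : ∀ A : Subgroup X, Cfsg.IsElementaryAbelian 2 A → Nat.card A = 8 →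
        ∃ B : Subgroup X, Relation.ReflTransGen R A B ∧ B ≤ E ∧ Cfsg.IsElementaryAbelian 2 B ∧ Nat.card B = 8 := by
      intro A hA hA8
      -- a fixed point
      have hEne : (E : Subgroup X) ≠ ⊥ := fun e => by rw [e, Subgroup.card_bot] at hE32; omega
      obtain ⟨e, heE, he1, hec⟩ : ∃ e ∈ E, e ≠ 1 ∧ ∀ a ∈ A, a * e = e * a := by
        haveI : Group.IsNilpotent X := hX.isNilpotent
        obtain ⟨e, he, he1⟩ : ∃ e ∈ E ⊓ Subgroup.center X, e ≠ 1 := by
          by_contra h
          push Not at h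
          exact hEne (by
            by_contra hne
            exact absurd ((Subgroup.eq_bot_iff_forall _).mpr h)
              (CfsgLib.inf_center_ne_bot_of_nilpotent hne))
        exact ⟨e, he.1, he1, fun a _ => Subgroup.mem_center_iff.mp he.2 a⟩
      obtain ⟨A1, hA1, heA1⟩ := step A hA hA8 (Subgroup.zpowers e) (Subgroup.zpowers_le.mpr heE)
        (Subgroup.zpowers_le.mpr (Subgroup.mem_centralizer_iff.mpr hec)) (by
          rw [Nat.card_zpowers, orderOf_eq_prime (hE.2 e heE) he1]; norm_num)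
      have hR1 : R A A1 := hA1
      obtain ⟨-, -, hA1e, hA18, -⟩ := hA1
      -- an element pair generating `A1` with `e`
      obtain ⟨a, ha, hae⟩ : ∃ a ∈ A1, a ∉ Subgroup.zpowers e := by
        by_contra h
        push Not at h
        have := Subgroup.card_le_of_le (show A1 ≤ Subgroup.zpowers e from h)
        rw [hA18, Nat.card_zpowers, orderOf_eq_prime (hE.2 e heE) he1] at this
        omega
      obtain ⟨b, hb, hbea⟩ : ∃ b ∈ A1, b ∉ Subgroup.zpowers e ⊔ Subgroup.zpowers a := by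
        by_contra h
        push Not at h
        have hle := Subgroup.card_le_of_le (show A1 ≤ Subgroup.zpowers e ⊔ Subgroup.zpowers a from h)
        have he2 : Subgroup.zpowers e ≤ A1 := heA1
        obtain ⟨W, heW, hWA, hW, hW8⟩ := exists_eight hA1e le_rfl hA18.ge hA18.le
        have hcomm : Subgroup.zpowers a ≤ Subgroup.normalizer (Subgroup.zpowers e : Set X) := Subgroup.zpowers_le.mpr (by
          refine Subgroup.mem_normalizer_iff.mpr fun w => ?_
          constructor
          · intro hw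
            rw [congrArg Subtype.val (hA1e.1.is_comm.comm (⟨a, ha⟩ : ↥A1) ⟨w, he2 hw⟩) |> fun h' => (h' : a * w = w * a), mul_inv_cancel_right]
            exact hw
          · intro hw
            have h' : a * (a * w * a⁻¹) = (a * w * a⁻¹) * a := congrArg Subtype.val (hA1e.1.is_comm.comm (⟨a, ha⟩ : ↥A1) ⟨_, he2 hw⟩)
            have : a * w * a⁻¹ = w := by
              calc a * w * a⁻¹ = a⁻¹ * (a * (a * w * a⁻¹)) := by group
                _ = a⁻¹ * ((a * w * a⁻¹) * a) := by rw [h']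
                _ = w := by group
            rwa [this] at hw)
        have hmul : ((Subgroup.zpowers e ⊔ Subgroup.zpowers a : Subgroup X) : Set X) = (Subgroup.zpowers e : Set X) * (Subgroup.zpowers a : Set X) :=
          Subgroup.coe_mul_of_right_le_normalizer_left _ _ hcomm
        have h4 : Nat.card ↥(Subgroup.zpowers e ⊔ Subgroup.zpowers a) ≤ Nat.card ↥(Subgroup.zpowers e) * Nat.card ↥(Subgroup.zpowers a) := by
          show Nat.card ((Subgroup.zpowers e ⊔ Subgroup.zpowers a : Subgroup X) : Set X) ≤ _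
          rw [hmul, ← Nat.card_prod]
          exact Nat.card_le_card_of_surjective (fun w : ↥(Subgroup.zpowers e) × ↥(Subgroup.zpowers a) => ⟨_, Set.mul_mem_mul w.1.2 w.2.2⟩)
            (by rintro ⟨_, u, hu, w, hw, rfl⟩; exact ⟨⟨⟨u, hu⟩, ⟨w, hw⟩⟩, rfl⟩)
        have ha1 : a ≠ 1 := fun h1 => hae (h1 ▸ Subgroup.one_mem _)
        rw [Nat.card_zpowers, Nat.card_zpowers, orderOf_eq_prime (hE.2 e heE) he1, orderOf_eq_prime (hA1e.2 a ha) ha1] at h4
        omega
      have ha1 : a ≠ 1 := fun h1 => hae (h1 ▸ Subgroup.one_mem _)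
      set W1 := Subgroup.zpowers a ⊔ Subgroup.zpowers b with hW1
      have hW1A : W1 ≤ A1 := sup_le (Subgroup.zpowers_le.mpr ha) (Subgroup.zpowers_le.mpr hb)
      -- a second element of `E` centralizing `A1`
      have hcA1 : E ⊓ Subgroup.centralizer ({a, b} : Set X) ≤ Subgroup.centralizer (A1 : Set X) := by
        have htop : A1 = Subgroup.zpowers e ⊔ W1 := by
          refine (Subgroup.eq_of_le_of_card_ge (sup_le heA1 hW1A) ?_).symm
          obtain ⟨j, hj⟩ := hpow (Subgroup.zpowers e ⊔ W1)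
          obtain ⟨i, hi⟩ := hpow (Subgroup.zpowers e ⊔ Subgroup.zpowers a)
          have hle : Subgroup.zpowers e ⊔ Subgroup.zpowers a ≤ Subgroup.zpowers e ⊔ W1 := sup_le_sup_left le_sup_left _
          have hlt : 2 ^ i < 2 ^ j := by
            rw [← hi, ← hj]
            refine lt_of_le_of_ne (Subgroup.card_le_of_le hle) fun e' => hbea ?_
            exact (Subgroup.eq_of_le_of_card_ge hle e'.ge).ge (Subgroup.mem_sup_right (Subgroup.mem_sup_right (Subgroup.mem_zpowers b)))
          have hlt2 : 2 ^ 1 < 2 ^ i := by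
            rw [← hi, pow_one, ← orderOf_eq_prime (hE.2 e heE) he1, ← Nat.card_zpowers]
            refine lt_of_le_of_ne (Subgroup.card_le_of_le le_sup_left) fun e' => hae ?_
            exact (Subgroup.eq_of_le_of_card_ge le_sup_left e'.ge).ge (Subgroup.mem_sup_right (Subgroup.mem_zpowers a))
          have h1 := (Nat.pow_lt_pow_iff_right (by norm_num : 1 < 2)).mp hlt
          have h2 := (Nat.pow_lt_pow_iff_right (by norm_num : 1 < 2)).mp hlt2
          rw [hA18, hj]
          calc 8 = 2 ^ 3 := by norm_num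
            _ ≤ 2 ^ j := Nat.pow_le_pow_right (by norm_num) (by omega)
        intro x hx
        have h1 : A1 ≤ Subgroup.centralizer ({x} : Set X) := htop.le.trans (sup_le
          (Subgroup.zpowers_le.mpr (Subgroup.mem_centralizer_singleton_iff.mpr
            (congrArg Subtype.val (hE.1.is_comm.comm (⟨e, heE⟩ : ↥E) ⟨x, hx.1⟩))))
          fun w hw => Subgroup.mem_centralizer_singleton_iff.mpr (Subgroup.mem_centralizer_iff.mp (centpair W1 a b le_rfl hx.2) w hw))
        exact Subgroup.mem_centralizer_iff.mpr fun w hw => Subgroup.mem_centralizer_singleton_iff.mp (h1 hw)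
      have h4 : 4 ≤ Nat.card ↥(E ⊓ Subgroup.centralizer (A1 : Set X)) := by
        have h := hE32.trans (card_cent hE hA1e (fun v _ u hu => hn v u hu) ha hb)
        have h' := Subgroup.card_le_of_le (le_inf inf_le_left hcA1)
        obtain ⟨j, hj⟩ := hpow (E ⊓ Subgroup.centralizer ({a, b} : Set X))
        rw [hj] at h h'
        rcases j with _ | _ | j
        · norm_num at h
        · norm_num at h
        · refine le_trans ?_ h'
          calc 4 = 2 ^ 2 := by norm_num
            _ ≤ 2 ^ (j + 2) := Nat.pow_le_pow_right (by norm_num) (by omega)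
      obtain ⟨j, hj⟩ := hpow (E ⊓ Subgroup.centralizer (A1 : Set X))
      obtain ⟨F0, hF0⟩ := Sylow.exists_subgroup_card_pow_prime 2 (n := 2) (G := ↥(E ⊓ Subgroup.centralizer (A1 : Set X)))
        (hj ▸ pow_dvd_pow 2 ((Nat.pow_le_pow_iff_right (by norm_num : 1 < 2)).mp (by rw [← hj]; norm_num; exact h4)))
      set F := F0.map (E ⊓ Subgroup.centralizer (A1 : Set X)).subtype
      have hF4 : Nat.card F = 4 := by rw [Subgroup.card_map_of_injective (Subgroup.subtype_injective _), hF0]; norm_num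
      have hFE : F ≤ E := (Subgroup.map_subtype_le F0).trans inf_le_left
      obtain ⟨A2, hA2, hFA2⟩ := step A1 hA1e hA18 F hFE ((Subgroup.map_subtype_le F0).trans inf_le_right) (by omega)
      have hR2 : R A1 A2 := hA2
      obtain ⟨-, -, hA2e, hA28, -⟩ := hA2
      obtain ⟨c, hc, hcF⟩ : ∃ c ∈ A2, c ∉ F := by
        by_contra h
        push Not at h
        have := Subgroup.card_le_of_le (show A2 ≤ F from h)
        omega
      have hA2top : A2 = F ⊔ Subgroup.zpowers c := by
        refine (Subgroup.eq_of_le_of_card_ge (sup_le hFA2 (Subgroup.zpowers_le.mpr hc)) ?_).symm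
        obtain ⟨i, hi⟩ := hpow (F ⊔ Subgroup.zpowers c)
        have hlt : 2 ^ 2 < 2 ^ i := by
          rw [← hi, show 2 ^ 2 = 4 by norm_num, ← hF4]
          refine lt_of_le_of_ne (Subgroup.card_le_of_le le_sup_left) fun e' => hcF ?_
          exact (Subgroup.eq_of_le_of_card_ge le_sup_left e'.ge).ge (Subgroup.mem_sup_right (Subgroup.mem_zpowers c))
        have h1 := (Nat.pow_lt_pow_iff_right (by norm_num : 1 < 2)).mp hlt
        rw [hA28, hi]
        calc 8 = 2 ^ 3 := by norm_num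
          _ ≤ 2 ^ i := Nat.pow_le_pow_right (by norm_num) (by omega)
      have hC8 : 8 ≤ Nat.card ↥(E ⊓ Subgroup.centralizer (A2 : Set X)) := by
        have h := hE32.trans (card_sq_le hE (by rw [← pow_two]; exact hA2e.2 c hc) (fun u hu => hn c u hu))
        have h' : E ⊓ Subgroup.centralizer ({c} : Set X) ≤ E ⊓ Subgroup.centralizer (A2 : Set X) := by
          refine le_inf inf_le_left fun x hx => ?_
          have h1 : A2 ≤ Subgroup.centralizer ({x} : Set X) := hA2top.le.trans (sup_le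
            (fun w hw => Subgroup.mem_centralizer_singleton_iff.mpr (congrArg Subtype.val (hE.1.is_comm.comm (⟨w, hFE hw⟩ : ↥E) ⟨x, hx.1⟩)))
            (Subgroup.zpowers_le.mpr (Subgroup.mem_centralizer_singleton_iff.mpr (Subgroup.mem_centralizer_singleton_iff.mp hx.2).symm)))
          exact Subgroup.mem_centralizer_iff.mpr fun w hw => Subgroup.mem_centralizer_singleton_iff.mp (h1 hw)
        refine le_trans ?_ (Subgroup.card_le_of_le h')
        obtain ⟨i, hi⟩ := hpow (E ⊓ Subgroup.centralizer ({c} : Set X))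
        rw [hi] at h ⊢
        rcases i with _ | _ | _ | i
        · norm_num at h
        · norm_num at h
        · norm_num at h
        · calc 8 = 2 ^ 3 := by norm_num
            _ ≤ 2 ^ (i + 3) := Nat.pow_le_pow_right (by norm_num) (by omega)
      obtain ⟨B, -, hB, hBe, hB8⟩ := exists_eight (hEsub _ (inf_le_left : E ⊓ Subgroup.centralizer (A2 : Set X) ≤ E)) bot_le hC8
        (by rw [Subgroup.card_bot]; norm_num)
      refine ⟨B, ?_, hB.trans inf_le_left, hBe, hB8⟩
      exact ((Relation.ReflTransGen.single hR1).tail hR2).tail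
        (⟨hA2e, hA28, hBe, hB8, Subgroup.commutator_eq_bot_iff_le_centralizer.mpr (Subgroup.le_centralizer_iff.mp (hB.trans inf_le_right))⟩ : R A2 B)
    intro A B hA hA8 hB hB8
    obtain ⟨A', hAA', hA'E, hA', hA'8⟩ := toE A hA hA8
    obtain ⟨B', hBB', hB'E, hB', hB'8⟩ := toE B hB hB8
    have hrev : ∀ {a b}, Relation.ReflTransGen R a b → Relation.ReflTransGen R b a := fun h => by
      induction h with
      | refl => exact .refl
      | tail _ h2 ih => exact .head (hsymm _ _ h2) ih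
    exact (hAA'.tail (⟨hA', hA'8, hB', hB'8, comm_bot hE hA'E hB'E⟩ : R A' B')).trans
      (hrev hBB')
  · intro V hV hV4
    have h := hfour V hV (le_of_eq hV4)
    set D := E ⊓ Subgroup.centralizer (V : Set X)
    have hK := sup_elem hV (hEsub D inf_le_left) inf_le_right
    by_cases h8 : 8 ≤ Nat.card ↥(V ⊔ D)
    · obtain ⟨A, hVA, -, hA, hA8⟩ := exists_eight hK le_sup_left h8 (by omega)
      exact ⟨A, hVA, hA, hA8⟩
    · have hDV : V ⊔ D = V := by
        refine (Subgroup.eq_of_le_of_card_ge le_sup_left ?_).symm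
        obtain ⟨i, hi⟩ := hpow (V ⊔ D)
        rw [hi] at h8 ⊢
        rw [hV4]
        have : i < 3 := by
          by_contra hc
          exact h8 (by calc 8 = 2 ^ 3 := by norm_num
                         _ ≤ 2 ^ i := Nat.pow_le_pow_right (by norm_num) (by omega))
        calc 2 ^ i ≤ 2 ^ 2 := Nat.pow_le_pow_right (by norm_num) (by omega)
          _ = 4 := by norm_num
      have hVE : V ≤ E := by
        have : D = V := Subgroup.eq_of_le_of_card_ge (hDV ▸ le_sup_right) (hV4.le.trans h)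
        exact this ▸ inf_le_left
      obtain ⟨A, hVA, -, hA, hA8⟩ := exists_eight hE hVE (by omega) (by omega)
      exact ⟨A, hVA, hA, hA8⟩

end Cfsg.Agent.S1785
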