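import Cfsg.Statements.S1786
import Cfsg.Agent.Lib.TISpecial.Main
import Cfsg.Agent.Lib.Components

set_option autoImplicit false
open Cfsg

namespace Cfsg.Agent.S1786

/-- Let G be a finite group, V an elementary abelian 2-subgroup of G and M the normalizer of V; write Q for the largest normal 2-subgroup of M. Suppose (1) the generalized Fitting subgroup of M equals Q; (2) V is a maximal abelian normal subgroup of M; (3) every conjugate of V equals V or meets V trivially, and for some g ∈ G the conjugate V' = g V g⁻¹ is different from V and contained in Q. Let P be the centralizer of V in Q, W the subgroup generated by V and V', and H the subgroup generated by P and g P g⁻¹. Then: (a) V is contained in g Q g⁻¹; (b) every non-identity element of W lies in exactly one conjugate of V contained in W, H normalizes W, and H modulo the centralizer of W in H is isomorphic to the special linear group of dimension 2 over the field with |V| elements; (c) P = Q, and V equals the Frattini subgroup, the centre and the commutator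 subgroup of Q. -/
theorem result {G : Type*} [Group G] [Finite G] (V : Subgroup G)
    (hV : Cfsg.IsElementaryAbelian 2 V)
    (h1 : (Cfsg.generalizedFittingSubgroup ↥(Subgroup.normalizer (V : Set G))).map (Subgroup.normalizer (V : Set G)).subtype =
      (Cfsg.pCore 2 ↥(Subgroup.normalizer (V : Set G))).map (Subgroup.normalizer (V : Set G)).subtype)
    (h2 : ∀ A : Subgroup G, V ≤ A → A ≤ Subgroup.normalizer (V : Set G) → IsMulCommutative ↥A →
      (∀ m ∈ Subgroup.normalizer (V : Set G), ∀ a ∈ A, m * a * m⁻¹ ∈ A) → A = V)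
    (hti : ∀ x : G, V.map (MulAut.conj x).toMonoidHom = V ∨ V.map (MulAut.conj x).toMonoidHom ⊓ V = ⊥)
    (g : G) (hg : V.map (MulAut.conj g).toMonoidHom ≠ V)
    (hgQ : V.map (MulAut.conj g).toMonoidHom ≤ (Cfsg.pCore 2 ↥(Subgroup.normalizer (V : Set G))).map (Subgroup.normalizer (V : Set G)).subtype) :
    let Q : Subgroup G := (Cfsg.pCore 2 ↥(Subgroup.normalizer (V : Set G))).map (Subgroup.normalizer (V : Set G)).subtype
    let P : Subgroup G := Q ⊓ Subgroup.centralizer (V : Set G)
    let W : Subgroup G := V ⊔ V.map (MulAut.conj g).toMonoidHom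
    let H : Subgroup G := P ⊔ P.map (MulAut.conj g).toMonoidHom
    V ≤ Q.map (MulAut.conj g).toMonoidHom ∧
      (∀ w ∈ W, w ≠ 1 → ∃! U : Subgroup G, (∃ x : G, U = V.map (MulAut.conj x).toMonoidHom) ∧ U ≤ W ∧ w ∈ U) ∧
      H ≤ Subgroup.normalizer (W : Set G) ∧
      (∀ hN : ((Subgroup.centralizer (W : Set G)).subgroupOf H).Normal, ∃ (F : Type) (_ : Field F) (_ : Fintype F), Fintype.card F = Nat.card ↥V ∧
        Nonempty (↥H ⧸ (Subgroup.centralizer (W : Set G)).subgroupOf H ≃* Matrix.SpecialLinearGroup (Fin 2) F)) ∧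
      P = Q ∧ (frattini ↥Q).map Q.subtype = V ∧ (Subgroup.center ↥Q).map Q.subtype = V ∧ (commutator ↥Q).map Q.subtype = V := by
  intro Q P W H
  have hH : CfsgLib.TISpecial.Hyp V := by
    refine ⟨fun v hv => by simpa [pow_two] using hV.2 v hv,
      fun v hv w hw => congrArg Subtype.val (hV.1.is_comm.comm ⟨v, hv⟩ ⟨w, hw⟩), fun m hm hc => ?_,
      fun A hA hAN hAc hAn => h2 A hA hAN ⟨⟨fun a b => Subtype.ext (hAc a a.2 b b.2)⟩⟩ hAn, fun x => ?_⟩
    · have hmem : (⟨m, hm⟩ : ↥(Subgroup.normalizer (V : Set G))) ∈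
          Cfsg.generalizedFittingSubgroup ↥(Subgroup.normalizer (V : Set G)) :=
        CfsgLib.centralizer_generalizedFitting_le (Subgroup.mem_centralizer_iff.mpr fun q hq =>
          Subtype.ext (hc q (h1.le ⟨q, hq, rfl⟩)))
      exact h1.le ⟨_, hmem, rfl⟩
    · refine (hti x).imp id fun e v hv hvx => Subgroup.mem_bot.mp (e.le ⟨hvx, hv⟩)
  set U := CfsgLib.TISpecial.cj g V with hU
  have hline : CfsgLib.TISpecial.IsLine V U := hH.line_of_le_Q ⟨g, rfl⟩ hg hgQ
  obtain ⟨U', hp⟩ := hH.exists_pair hline
  have hPU : CfsgLib.TISpecial.Pof U = P.map (MulAut.conj g).toMonoidHom := CfsgLib.TISpecial.Pof_cj g V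
  have hHW : H ≤ Subgroup.normalizer (W : Set G) := by
    refine sup_le (hH.P_le_normalizer_W hline) ?_
    have h3 := (hH.line_hyp hline).P_le_normalizer_W (hH.swap hline)
    rw [sup_comm, hPU] at h3
    exact h3
  obtain ⟨hfr, hce, hco⟩ := hH.special hp
  refine ⟨?_, fun w hw hw1 => hH.lines hp hw hw1, hHW, fun hN => ?_, hH.Pof_eq_Qof hp, hfr, hce, hco⟩
  · intro v hv
    have h3 := (hH.symm_rel hline hv).1
    rwa [hU, CfsgLib.TISpecial.Qof_cj] at h3
  · refine hH.quotient_iso hp H ?_ hHW hN
    show P ⊔ P.map (MulAut.conj g).toMonoidHom = _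
    rw [hPU]
    rfl

end Cfsg.Agent.S1786
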