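import Cfsg.Statements.S1850
import Mathlib
import Cfsg.Agent.Lib.CharPLocal

set_option autoImplicit false
set_option linter.unusedVariables false
open Cfsg
open scoped commutatorElement

namespace Cfsg.Agent.S1850

open CfsgLib

/-- Let G be a non-abelian finite simple QTKE-group and T a Sylow 2-subgroup of G. If U is a nontrivial 2-subgroup of G with U ∩ Z(T) ≠ 1, then F*(N_G(U)) = O₂(N_G(U)). -/
theorem result {G : Type*} [Group G] [Finite G] [IsSimpleGroup G]
    (hG : ¬ IsMulCommutative G) (hQ : Cfsg.IsQTKE G) (T : Sylow 2 G) (U : Subgroup G)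
    (hU : IsPGroup 2 ↥U) (hZ : U ⊓ ((T : Subgroup G) ⊓ Subgroup.centralizer ((T : Subgroup G) : Set G)) ≠ ⊥) :
    Subgroup.normalizer (U : Set G) ∈ Cfsg.calHe G := by
  haveI : Fact (Nat.Prime 2) := ⟨Nat.prime_two⟩
  have hpar : Cfsg.IsOfParabolicCharacteristic 2 G := by
    intro R hR hR1 hP
    exact hQ.2.2 _ ⟨R, hR, hR1, rfl⟩ hP
  set W := U ⊓ ((T : Subgroup G) ⊓ Subgroup.centralizer ((T : Subgroup G) : Set G)) with hW
  obtain ⟨k, hk⟩ := IsPGroup.iff_card.mp (hU.to_le (inf_le_left : W ≤ U))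
  have hd : 2 ∣ Nat.card ↥W := by
    rw [hk]; exact dvd_pow_self 2 (fun e => hZ (Subgroup.eq_bot_of_card_eq _ (by rw [hk, e, pow_zero])))
  obtain ⟨z, hz⟩ := exists_prime_orderOf_dvd_card' 2 hd
  rw [← Subgroup.orderOf_coe] at hz
  have h1 : (z : G) ≠ 1 := fun e => by rw [e, orderOf_one] at hz; omega
  have h2 := CharPLocal.centralizer_of_parabolic hpar T h1 (hz ▸ pow_orderOf_eq_one _)
    (fun s hs => Subgroup.mem_centralizer_iff.mp z.2.2.2 s hs)
  exact (Comp.isPGroup_gfit_iff_eq 2).mp (CharPLocal.normalizer_of_mem hU z.2.1 h2)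

end Cfsg.Agent.S1850
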