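import Cfsg.Statements.S1851
import Cfsg.Agent.Lib.PResidual
import Cfsg.Agent.Lib.CharP
import Cfsg.Agent.Lib.CharPLocal
import Cfsg.Agent.Lib.Coprime
import Cfsg.Agent.Lib.CoprimeSeries
import Cfsg.Agent.Lib.Baumann.BlockBasic
import Cfsg.Agent.Lib.Baumann.BlockCenter
import Cfsg.Agent.Lib.Components

set_option autoImplicit false
set_option linter.unusedVariables false
open Cfsg
open scoped commutatorElement

namespace Cfsg.Agent.S1851

open scoped commutatorElement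

theorem residual_sup_le {G : Type*} [Group G] [Finite G] {p : ℕ} [Fact p.Prime] (N : Subgroup G) [N.Normal]
    (hN : IsPGroup p N) {A : Subgroup G} (hA : A.IsSubnormal) :
    ∀ g ∈ A ⊔ N, (orderOf g).Coprime p → g ∈ A := by
  induction hA with
  | top => exact fun g _ _ => Subgroup.mem_top g
  | step A B hle _ hn ih =>
    intro g hg hc
    have hgB : g ∈ B := ih g (sup_le_sup_right hle N hg) hc
    have hBA : B ≤ Subgroup.normalizer (A : Set G) := (Subgroup.normal_subgroupOf_iff_le_normalizer hle).1 hn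
    have hg' : g ∈ A ⊔ (N ⊓ B) := by
      obtain ⟨a, ha, n, hn', rfl⟩ := Subgroup.mem_sup_of_normal_right.1 hg
      refine Subgroup.mul_mem_sup ha ⟨hn', ?_⟩
      have := B.mul_mem (B.inv_mem (hle ha)) hgB
      rwa [inv_mul_cancel_left] at this
    exact CfsgLib.BBlock.mem_of_mem_sup_coprime (p := p) (hN.to_le inf_le_left) (inf_le_right.trans hBA) hg' hc

theorem perfect_odd {G : Type*} [Group G] [Finite G] {L : Subgroup G} (hperf : ⁅L, L⁆ = L) :
    L ≤ Subgroup.closure {x : G | x ∈ L ∧ Nat.Coprime (orderOf x) 2} := by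
  haveI : Fact (Nat.Prime 2) := ⟨Nat.prime_two⟩
  haveI := CfsgLib.PResidual.pResidual_normal (G := ↥L) (p := 2)
  have htop : Cfsg.pResidual 2 ↥L = ⊤ := by
    have hp : IsPGroup 2 (↥L ⧸ Cfsg.pResidual 2 ↥L) := fun q => by
      induction q using QuotientGroup.induction_on with | _ x => ?_
      obtain ⟨k, hk⟩ := CfsgLib.PResidual.pow_mem_pResidual (p := 2) x
      exact ⟨k, by rw [← QuotientGroup.mk_pow]; exact (QuotientGroup.eq_one_iff _).2 hk⟩
    by_contra hne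
    haveI : Nontrivial (↥L ⧸ Cfsg.pResidual 2 ↥L) := QuotientGroup.nontrivial_iff.2 hne
    haveI : Group.IsNilpotent (↥L ⧸ Cfsg.pResidual 2 ↥L) := hp.isNilpotent
    have hlt := Group.IsSolvable.commutator_lt_top_of_nontrivial (↥L ⧸ Cfsg.pResidual 2 ↥L)
    refine hlt.ne ?_
    have hL : commutator ↥L = ⊤ := by
      rw [← (Subgroup.map_injective L.subtype_injective).eq_iff, commutator_def, Subgroup.map_commutator,
        ← MonoidHom.range_eq_map, Subgroup.range_subtype, hperf]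
    rw [commutator_def] at hL ⊢
    rw [← Subgroup.map_top_of_surjective (QuotientGroup.mk' (Cfsg.pResidual 2 ↥L)) (QuotientGroup.mk'_surjective _),
      ← Subgroup.map_commutator, hL]
  intro x hx
  have h : (⟨x, hx⟩ : L) ∈ Cfsg.pResidual 2 ↥L := htop ▸ Subgroup.mem_top _
  have h' := Subgroup.mem_map_of_mem L.subtype h
  rw [Cfsg.pResidual, MonoidHom.map_closure] at h'
  refine (Subgroup.closure_mono ?_) h'
  rintro _ ⟨y, hy, rfl⟩
  refine ⟨y.2, ?_⟩
  show Nat.Coprime (orderOf (y : G)) 2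
  rw [Subgroup.orderOf_coe]
  exact hy

theorem sub_facts {G : Type*} [Group G] [Finite G] (hQ : Cfsg.IsQTKE G) (T : Sylow 2 G) (L : Subgroup G)
    (hL : L ∈ Cfsg.calL (T : Subgroup G)) :
    ⁅L, L⁆ = L ∧ L ≠ ⊥ ∧
    ∃ R : Subgroup G, IsPGroup 2 R ∧ R ≤ (T : Subgroup G) ∧
      R = (Cfsg.pCore 2 ↥(L ⊔ (T : Subgroup G))).map (L ⊔ (T : Subgroup G)).subtype ∧
      L ⊔ (T : Subgroup G) ≤ Subgroup.normalizer (R : Set G) ∧
      R ≤ Subgroup.normalizer (L : Set G) ∧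
      (∀ x ∈ L ⊔ (T : Subgroup G), (∀ r ∈ R, x * r = r * x) → x ∈ R) ∧
      Cfsg.generalizedFittingSubgroup ↥L = Cfsg.pCore 2 ↥L ∧ Cfsg.pCoreTwoOf L ≤ R := by
  haveI : Fact (Nat.Prime 2) := ⟨Nat.prime_two⟩
  obtain ⟨⟨hne, hperf, hsn, -⟩, -, hO⟩ := hL
  obtain ⟨H, hHdef⟩ : ∃ H, H = L ⊔ (T : Subgroup G) := ⟨_, rfl⟩
  rw [← hHdef] at hne hperf hsn hO ⊢
  have hLH : L ≤ H := hHdef ▸ le_sup_left
  have hTH : (T : Subgroup G) ≤ H := hHdef ▸ le_sup_right
  obtain ⟨R, hRdef⟩ : ∃ R, R = (Cfsg.pCore 2 ↥H).map H.subtype := ⟨_, rfl⟩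
  have hRp : IsPGroup 2 R := hRdef ▸ (CfsgLib.isPGroup_pCore 2).map _
  have hRT : R ≤ (T : Subgroup G) := by
    rw [hRdef]
    rintro _ ⟨x, hx, rfl⟩
    exact CfsgLib.pCore_le_sylow (T.subtype hTH) hx
  have hRN : H ≤ Subgroup.normalizer (R : Set G) := by
    intro g hg
    rw [hRdef]
    have h : (⟨g, hg⟩ : H) ∈ Subgroup.normalizer (Cfsg.pCore 2 ↥H : Set H) :=
      (Subgroup.normalizer_eq_top (H := Cfsg.pCore 2 ↥H)).ge (Subgroup.mem_top _)
    exact Subgroup.le_normalizer_map H.subtype ⟨_, h, rfl⟩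
  have hR1 : R ≠ ⊥ := fun e => hO ((Subgroup.map_eq_bot_iff_of_injective _ H.subtype_injective).1 (hRdef ▸ e))
  have hperf' : ⁅L, L⁆ = L := by
    have := congrArg (Subgroup.map H.subtype) hperf
    rwa [Subgroup.map_commutator, Subgroup.map_subgroupOf_eq_of_le hLH] at this
  -- characteristic two
  obtain ⟨M, hMdef⟩ : ∃ M, M = Subgroup.normalizer (R : Set G) := ⟨_, rfl⟩
  have hM := hQ.2.2 M ⟨R, hRp, hR1, hMdef⟩ ⟨T, hMdef ▸ hTH.trans hRN⟩
  have hTM : (T : Subgroup G) ≤ M := hMdef ▸ hTH.trans hRN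
  have hHM : H ≤ M := hMdef ▸ hRN
  haveI : Fact (Nat.Prime 2) := ⟨Nat.prime_two⟩
  have hMle : Cfsg.pCore 2 ↥M ≤ Subgroup.normalizer ((H.subgroupOf M : Subgroup ↥M) : Set ↥M) := fun x hx =>
    Subgroup.le_normalizer (hTH (show (x : G) ∈ (T : Subgroup G) from CfsgLib.pCore_le_sylow (T.subtype hTM) hx))
  have hHc : Subgroup.centralizer (Cfsg.pCore 2 ↥H : Set ↥H) ≤ Cfsg.pCore 2 ↥H := by
    have h1 := CfsgLib.CharP.charP_of_pCore_le_normalizer hM (H.subgroupOf M) hMle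
    have h2 := CfsgLib.Comp.gfit_pGroup_equiv 2 (Subgroup.subgroupOfEquivOfLe hHM)
      ((CfsgLib.Comp.isPGroup_gfit_iff_eq 2).2 ((CfsgLib.Comp.gfit_eq_pCore_iff 2).2 h1))
    exact (CfsgLib.Comp.gfit_eq_pCore_iff 2).1 ((CfsgLib.Comp.isPGroup_gfit_iff_eq 2).1 h2)
  refine ⟨hperf', fun e => hne (by rw [e, Subgroup.bot_subgroupOf]), R, hRp, hRT, hRdef, hRN, ?_, fun x hx hxR => ?_, ?_, ?_⟩
  · -- `R` normalises `L`
    haveI : (Cfsg.pCore 2 ↥H).Normal := inferInstance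
    have hres := residual_sup_le (Cfsg.pCore 2 ↥H) (CfsgLib.isPGroup_pCore 2) hsn
    intro r hr
    rw [hRdef] at hr
    obtain ⟨r', hr', rfl⟩ := hr
    have hfix : ∀ r' : ↥H, r' ∈ Cfsg.pCore 2 ↥H → ∀ l ∈ L, (r' : G) * l * (r' : G)⁻¹ ∈ L := by
      intro r' hr' l hl
      have hle : L ≤ L.comap (MulAut.conj (r' : G)).toMonoidHom := by
        refine (perfect_odd hperf').trans ((Subgroup.closure_le _).2 fun x ⟨hxL, hx⟩ => ?_)
        show (r' : G) * x * (r' : G)⁻¹ ∈ L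
        refine hres (r' * ⟨x, hLH hxL⟩ * r'⁻¹) ?_ ?_
        · exact mul_mem (mul_mem (Subgroup.mem_sup_right hr') (Subgroup.mem_sup_left hxL))
            (inv_mem (Subgroup.mem_sup_right hr'))
        · rw [← MulAut.conj_apply, MulEquiv.orderOf_eq, Subgroup.orderOf_mk]
          exact hx
      exact hle hl
    rw [Subgroup.mem_normalizer_iff]
    refine fun l => ⟨hfix r' hr' l, fun h => ?_⟩
    have := hfix r'⁻¹ (inv_mem hr') _ h
    simpa [mul_assoc] using this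
  · rw [hRdef]
    exact ⟨⟨x, hx⟩, hHc (fun r hr => Subtype.ext (hxR (r : G) (hRdef ▸ ⟨r, hr, rfl⟩)).symm), rfl⟩
  · have h1 := CfsgLib.CharPLocal.charP_subnormal (p := 2) hsn
      ((CfsgLib.Comp.isPGroup_gfit_iff_eq 2).2 ((CfsgLib.Comp.gfit_eq_pCore_iff 2).2 hHc))
    exact (CfsgLib.Comp.isPGroup_gfit_iff_eq 2).1
      (CfsgLib.Comp.gfit_pGroup_equiv 2 (Subgroup.subgroupOfEquivOfLe hLH) h1)
  · have hOsub : ((Cfsg.pCoreTwoOf L).subgroupOf H).IsSubnormal := by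
      have hle : Cfsg.pCoreTwoOf L ≤ L := Subgroup.map_subtype_le _
      refine Subgroup.Normal.isSubnormal (H := ((Cfsg.pCoreTwoOf L).subgroupOf H).subgroupOf (L.subgroupOf H)) ?_
        |>.trans (Subgroup.subgroupOf_mono H hle) hsn
      refine (Subgroup.normal_subgroupOf_iff_le_normalizer (Subgroup.subgroupOf_mono H hle)).2 ?_
      intro l hl
      have h := CfsgLib.BBlock.normalizer_le_normalizer_pCoreOf (p := 2) L (Subgroup.le_normalizer (H := L) hl)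
      rw [Subgroup.mem_normalizer_iff] at h ⊢
      exact fun y => h (y : G)
    have h := CfsgLib.isSubnormal_isPGroup_le_pCore hOsub
      (((CfsgLib.isPGroup_pCore 2).map L.subtype).comap_subtype)
    intro z hz
    rw [hRdef]
    exact ⟨⟨z, hLH (Subgroup.map_subtype_le _ hz)⟩, h (show (⟨z, _⟩ : ↥H) ∈ (Cfsg.pCoreTwoOf L).subgroupOf H from hz), rfl⟩

theorem mem_coreOf {G : Type*} [Group G] [Finite G] {L N : Subgroup G} (hN : IsPGroup 2 N)
    (hLN : L ≤ Subgroup.normalizer (N : Set G)) {x : G} (hx : x ∈ N ⊓ L) : x ∈ Cfsg.pCoreTwoOf L := by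
  haveI : (N.subgroupOf L).Normal := Subgroup.normal_subgroupOf_of_le_normalizer hLN
  exact ⟨⟨x, hx.2⟩, CfsgLib.le_pCore (N := N.subgroupOf L) hN.comap_subtype hx.1, rfl⟩

theorem up {G : Type*} [Group G] [Finite G] (hQ : Cfsg.IsQTKE G) (T : Sylow 2 G) (L K : Subgroup G)
    (hL : L ∈ Cfsg.calLf (T : Subgroup G)) (hK : K ∈ Cfsg.calL (T : Subgroup G)) (hLK : L ≤ K) :
    K ∈ Cfsg.calLf (T : Subgroup G) := by
  haveI : Fact (Nat.Prime 2) := ⟨Nat.prime_two⟩
  obtain ⟨hLl, -, hLV⟩ := hL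
  obtain ⟨hLp, -, R, hRp, hRT, hRdef, hRN, hRL, hRc, -⟩ := sub_facts hQ T L hLl
  obtain ⟨hKp, hKne, R', hR'p, hR'T, hR'def, hR'N, hR'K, hR'c, hKF, hKO⟩ := sub_facts hQ T K hK
  -- the odd generation
  refine ⟨hK, ⟨hKne, ?_, hKF⟩, fun hKV => hLV ?_⟩
  · refine le_antisymm ((Subgroup.closure_le _).2 fun x hx => hx.1) ((perfect_odd hKp).trans (Subgroup.closure_mono ?_))
    rintro x ⟨hx1, hx2⟩
    exact ⟨hx1, Nat.coprime_two_right.1 hx2⟩
  have hR'R : R' ≤ R := by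
    intro r hr
    have hrH : r ∈ L ⊔ (T : Subgroup G) := Subgroup.mem_sup_right (hR'T hr)
    haveI hn : (R'.subgroupOf (L ⊔ (T : Subgroup G))).Normal :=
      Subgroup.normal_subgroupOf_of_le_normalizer ((sup_le_sup_right hLK _).trans hR'N)
    rw [hRdef]
    exact ⟨⟨r, hrH⟩, CfsgLib.le_pCore (N := R'.subgroupOf (L ⊔ (T : Subgroup G))) hR'p.comap_subtype hr, rfl⟩
  -- the two modules
  obtain ⟨W, hWdef⟩ : ∃ W, W = Cfsg.omegaOne 2 (Cfsg.pCoreTwoOf L ⊓ Subgroup.centralizer (Cfsg.pCoreTwoOf L : Set G)) :=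
    ⟨_, rfl⟩
  obtain ⟨Z, hZdef⟩ : ∃ Z, Z = Cfsg.omegaOne 2 (Cfsg.pCoreTwoOf K ⊓ Subgroup.centralizer (Cfsg.pCoreTwoOf K : Set G)) :=
    ⟨_, rfl⟩
  change ⁅_, K⁆ = ⊥ at hKV
  show ⁅_, L⁆ = ⊥
  rw [← hWdef]
  rw [← hZdef] at hKV
  have hOL : Cfsg.pCoreTwoOf L ≤ L := Subgroup.map_subtype_le _
  have hOLT : ∀ x ∈ L ⊔ (T : Subgroup G), x ∈ Subgroup.normalizer (L : Set G) →
      x ∈ Subgroup.normalizer (Cfsg.pCoreTwoOf L : Set G) := fun x _ hx =>
    CfsgLib.BBlock.normalizer_le_normalizer_pCoreOf (p := 2) L hx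
  have hW : ∀ w ∈ W, w ∈ Cfsg.pCoreTwoOf L ∧ w ∈ Subgroup.centralizer (Cfsg.pCoreTwoOf L : Set G) := fun w hw =>
    (hWdef ▸ hw : w ∈ Cfsg.omegaOne 2 _) |> fun h => ((Subgroup.closure_le _).2 fun y hy => hy.1) h
  have hWR : R ≤ Subgroup.normalizer (W : Set G) := by
    rw [hWdef]
    exact hRL.trans ((CfsgLib.BBlock.normalizer_le_normalizer_pCoreOf (p := 2) L).trans
      (CfsgLib.BBlock.normalizer_le_normalizer_omegaOneCenter 2 _))
  have hWL : L ≤ Subgroup.normalizer (W : Set G) := by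
    rw [hWdef]
    exact Subgroup.le_normalizer.trans ((CfsgLib.BBlock.normalizer_le_normalizer_pCoreOf (p := 2) L).trans
      (CfsgLib.BBlock.normalizer_le_normalizer_omegaOneCenter 2 _))
  have hLR : L ≤ Subgroup.normalizer (R : Set G) := le_sup_left.trans hRN
  rw [Subgroup.commutator_eq_bot_iff_le_centralizer, Subgroup.le_centralizer_iff]
  refine (perfect_odd hLp).trans ((Subgroup.closure_le _).2 fun x ⟨hxL, hx⟩ => ?_)
  -- `R = C_R(x) (R ∩ L)`
  obtain ⟨X, hXdef⟩ : ∃ X, X = Subgroup.zpowers x := ⟨_, rfl⟩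
  have hXR : X ≤ Subgroup.normalizer (R : Set G) := hXdef ▸ Subgroup.zpowers_le.2 (hLR hxL)
  have hcop : (Nat.card X).Coprime (Nat.card R) := by
    obtain ⟨k, hk⟩ := IsPGroup.iff_card.1 hRp
    rw [hXdef, Nat.card_zpowers, hk]
    exact hx.pow_right k
  have hdec := CfsgLib.coprime_commutator_sup hXR hcop (Or.inr (by
    haveI : Group.IsNilpotent R := hRp.isNilpotent; infer_instance))
  have hcRL : ⁅R, X⁆ ≤ R ⊓ L := le_inf (CfsgLib.commutator_le_of_le_normalizer hXR) (by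
    rw [Subgroup.commutator_comm]
    exact (Subgroup.commutator_mono (hXdef ▸ Subgroup.zpowers_le.2 hxL) le_rfl).trans
      (CfsgLib.commutator_le_of_le_normalizer hRL))
  obtain ⟨Q, hQdef⟩ : ∃ Q, Q = R ⊓ Subgroup.centralizer (X : Set G) := ⟨_, rfl⟩
  have hfix : ∀ w ∈ W ⊓ Subgroup.centralizer (Q : Set G), x * w = w * x := by
    rintro w ⟨hwW, hwQ⟩
    have hwR : ∀ r ∈ R, w * r = r * w := by
      have hle : R ≤ Subgroup.centralizer ({w} : Set G) := by
        rw [← hdec, ← hQdef]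
        refine sup_le (fun r hr => ?_) (fun r hr => ?_)
        · exact Subgroup.mem_centralizer_singleton_iff.2
            ((hW w hwW).2 r (mem_coreOf hRp hLR (hcRL hr)))
        · exact Subgroup.mem_centralizer_singleton_iff.2 (hwQ r hr)
      exact fun r hr => (Subgroup.mem_centralizer_singleton_iff.1 (hle hr)).symm
    have hwH : w ∈ L ⊔ (T : Subgroup G) := Subgroup.mem_sup_left (hOL (hW w hwW).1)
    have hwRmem : w ∈ R := hRc w hwH hwR
    -- `w` is central in `R'`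
    have hwR' : w ∈ R' := hR'c w (sup_le_sup_right hLK _ hwH) fun r hr => hwR r (hR'R hr)
    -- `[w, K]` dies
    obtain ⟨D, hDdef⟩ : ∃ D, D = Cfsg.omegaOne 2 (R' ⊓ Subgroup.centralizer (R' : Set G)) := ⟨_, rfl⟩
    have hw2 : w ^ 2 = 1 := CfsgLib.BBlock.omegaOneCenter_pow 2 (Cfsg.pCoreTwoOf L) (show w ∈ Cfsg.omegaOne 2 _ from hWdef ▸ hwW)
    have hwD : w ∈ D := hDdef ▸ Subgroup.subset_closure ⟨⟨hwR', fun r hr => (hwR r (hR'R hr)).symm⟩, hw2⟩
    have hKR' : K ≤ Subgroup.normalizer (R' : Set G) := le_sup_left.trans hR'N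
    have hKD : K ≤ Subgroup.normalizer (D : Set G) := by
      rw [hDdef]
      exact hKR'.trans (CfsgLib.BBlock.normalizer_le_normalizer_omegaOneCenter 2 _)
    have hDR' : D ≤ R' ⊓ Subgroup.centralizer (R' : Set G) := hDdef ▸ (Subgroup.closure_le _).2 fun y hy => hy.1
    have hDK : ⁅D, K⁆ ≤ Z := by
      have h1 : ⁅D, K⁆ ≤ D := CfsgLib.commutator_le_of_le_normalizer hKD
      have h2 : ⁅D, K⁆ ≤ K := by
        rw [Subgroup.commutator_comm]
        exact CfsgLib.commutator_le_of_le_normalizer ((hDR'.trans inf_le_left).trans hR'K)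
      intro y hy
      rw [hZdef]
      refine Subgroup.subset_closure ⟨⟨mem_coreOf hR'p hKR' ⟨(hDR' (h1 hy)).1, h2 hy⟩, fun z hz => ?_⟩, ?_⟩
      · have hzK : z ∈ K := Subgroup.map_subtype_le _ hz
        refine (?_ : z * y = y * z)
        have hzR : z ∈ R' := hKO hz
        exact (hDR' (h1 hy)).2 z hzR
      · exact CfsgLib.BBlock.omegaOneCenter_pow 2 R' (show y ∈ Cfsg.omegaOne 2 _ from hDdef ▸ h1 hy)
    have h3 : ⁅⁅D, K⁆, K⁆ = ⊥ := le_bot_iff.1 (hKV ▸ Subgroup.commutator_mono hDK le_rfl)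
    have h4 : ⁅⁅K, D⁆, K⁆ = ⊥ := by rwa [Subgroup.commutator_comm K D]
    have h5 := Subgroup.commutator_commutator_eq_bot_of_rotate (H₁ := K) (H₂ := K) (H₃ := D) h4 h3
    rw [hKp, Subgroup.commutator_eq_bot_iff_le_centralizer] at h5
    exact (h5 (hLK hxL) w hwD).symm
  have hxW := CfsgLib.Stabilizer.thompson_axb (p := 2) (R := W) (Q := Q) (IsPGroup.to_le ((CfsgLib.isPGroup_pCore 2).map L.subtype)
      fun w hw => (hW w hw).1) (hRp.to_le (hQdef ▸ inf_le_left)) ((hQdef ▸ inf_le_left : Q ≤ R).trans hWR) hx (hWL hxL)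
    (fun q hq => (hQdef ▸ hq : q ∈ R ⊓ Subgroup.centralizer (X : Set G)).2 x (hXdef ▸ Subgroup.mem_zpowers x))
    hfix
  exact fun w hw => (hxW w hw).symm

/-- Let G be a non-abelian finite simple QTKE-group and T a Sylow 2-subgroup of G, and let L be a member of ℒ_f(G, T) (a member of ℒ(G, T) that lies in 𝒳 — L ≠ 1, L = O²(L), F*(L) = O₂(L) — and acts nontrivially on Ω₁(Z(O₂(L)))). Then (1) every member K of ℒ(G, T) containing L is again in ℒ_f(G, T) (a sharper form of (1) also compares the modules [Ω₁(Z(R)), L] and [Ω₁(Z(R')), K] for suitable 2-subgroups R, R'; that comparison is not included); and (2) if L is maximal under inclusion among the members of ℒ_f(G, T), then L is a maximal member of ℒ(G, T), hence a member of ℒ_f*(G, T). -/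
theorem result {G : Type*} [Group G] [Finite G] [IsSimpleGroup G]
    (hG : ¬ IsMulCommutative G) (hQ : Cfsg.IsQTKE G) (T : Sylow 2 G) (L : Subgroup G)
    (hL : L ∈ Cfsg.calLf (T : Subgroup G)) :
    (∀ K ∈ Cfsg.calL (T : Subgroup G), L ≤ K → K ∈ Cfsg.calLf (T : Subgroup G)) ∧
    ((∀ K ∈ Cfsg.calLf (T : Subgroup G), L ≤ K → K = L) → L ∈ Cfsg.calLfMax (T : Subgroup G)) := by
  refine ⟨fun K hK hLK => up hQ T L K hL hK hLK, fun hmax => ⟨⟨hL.1, fun K hK hLK => hmax K (up hQ T L K hL hK hLK) hLK⟩, hL.2⟩⟩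

end Cfsg.Agent.S1851
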