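import Cfsg.Statements.S1892
import Mathlib.GroupTheory.Commutator.Basic
import Cfsg.Agent.Lib.Blocks.HallHigman
-- import your own Cfsg.Agent.* helpers here

set_option autoImplicit false
open Cfsg

namespace Cfsg.Agent.S1892

open scoped commutatorElement

/-- Let S be a finite p-solvable group with no nontrivial normal subgroup of order prime to p, A a p-subgroup of S, and Q a nontrivial A-invariant subgroup of order prime to p with [A, Q] = Q. Then the commutator [O_p(S), A, Q] is nontrivial. -/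
theorem result {S : Type*} [Group S] [Finite S] {p : ℕ} [Fact p.Prime]
    (hS : Cfsg.IsPSolvable p S) (hred : Cfsg.pPrimeCore p S = ⊥)
    (A Q : Subgroup S) (hA : IsPGroup p A) (hQ : ¬ p ∣ Nat.card Q) (hQ1 : Q ≠ ⊥)
    (hinv : ∀ a ∈ A, ∀ x ∈ Q, a * x * a⁻¹ ∈ Q) (hAQ : ⁅A, Q⁆ = Q) :
    ⁅⁅Cfsg.pCore p S, A⁆, Q⁆ ≠ ⊥ := by
  classical
  intro hbot
  set V := Cfsg.pCore p S with hV
  haveI hVn : V.Normal := CfsgLib.Blocks.pCore_normal'
  have hVp : IsPGroup p V := CfsgLib.isPGroup_pCore p
  set W := ⁅V, A⁆ with hW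
  have hWV : W ≤ V := Subgroup.commutator_le_left V A
  have hWQ : ∀ w ∈ W, ∀ x ∈ Q, w * x = x * w := fun w hw x hx =>
    ((Subgroup.commutator_eq_bot_iff_le_centralizer.mp hbot) hw x hx).symm
  -- `A` is trivial on `V / W`, and `W` is invariant under `V`
  have hWn : ∀ v ∈ V, ∀ w ∈ W, v * w * v⁻¹ ∈ W := by
    intro v hv
    suffices h : W ≤ W.comap (MulAut.conj v).toMonoidHom from fun w hw => h hw
    rw [hW, Subgroup.commutator_le]
    intro v' hv' a ha
    rw [Subgroup.mem_comap, MulEquiv.coe_toMonoidHom, MulAut.conj_apply,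
      show v * ⁅v', a⁆ * v⁻¹ = ⁅v * v', a⁆ * ⁅v, a⁆⁻¹ by simp only [commutatorElement_def]; group]
    exact mul_mem (Subgroup.commutator_mem_commutator (V.mul_mem hv hv') ha)
      (inv_mem (Subgroup.commutator_mem_commutator hv ha))
  have hWA : ∀ a ∈ A, ∀ w ∈ W, a * w * a⁻¹ ∈ W := by
    intro a ha w hw
    have h := Subgroup.commutator_mem_commutator (hWV hw) ha
    have h' := W.mul_mem (W.inv_mem h) hw
    convert h' using 1
    rw [commutatorElement_def]; group
  -- so is `Q = [A, Q]`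
  let K : Subgroup S :=
    { carrier := {g | ∀ v ∈ V, g * v * g⁻¹ * v⁻¹ ∈ W ∧ g⁻¹ * v * g * v⁻¹ ∈ W}
      one_mem' := fun v hv => ⟨by simp, by simp⟩
      mul_mem' := by
        intro g h hg hh v hv
        constructor
        · have hv' : h * v * h⁻¹ ∈ V := hVn.conj_mem v hv h
          have := W.mul_mem (hg _ hv').1 (hh v hv).1
          convert this using 1; group
        · have hv' : g⁻¹ * v * g ∈ V := by simpa using hVn.conj_mem v hv g⁻¹
          have := W.mul_mem (hh _ hv').2 (hg v hv).2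
          convert this using 1; group
      inv_mem' := by
        intro g hg v hv
        exact ⟨by simpa using (hg v hv).2, by simpa using (hg v hv).1⟩ }
  have hAK : ∀ a ∈ A, a ∈ K := by
    have h1 : ∀ a ∈ A, ∀ v ∈ V, a * v * a⁻¹ * v⁻¹ ∈ W := by
      intro a ha v hv
      have := W.inv_mem (Subgroup.commutator_mem_commutator hv ha)
      convert this using 1
      rw [commutatorElement_def]; group
    intro a ha v hv
    exact ⟨h1 a ha v hv, by simpa using h1 a⁻¹ (A.inv_mem ha) v hv⟩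
  have hQK : Q ≤ K := by
    rw [← hAQ, Subgroup.commutator_le]
    intro a ha x hx
    rw [commutatorElement_def]
    have hconj : x * a⁻¹ * x⁻¹ ∈ K := by
      intro v hv
      have key : ∀ b ∈ A, x * b * x⁻¹ * v * (x * b * x⁻¹)⁻¹ * v⁻¹ ∈ W := by
        intro b hb
        have hv' : x⁻¹ * v * x ∈ V := by simpa using hVn.conj_mem v hv x⁻¹
        have h := (hAK b hb _ hv').1
        have h2 : x * (b * (x⁻¹ * v * x) * b⁻¹ * (x⁻¹ * v * x)⁻¹) * x⁻¹ ∈ W := by
          rw [← hWQ _ h x hx, mul_inv_cancel_right]; exact h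
        convert h2 using 1; group
      exact ⟨key a⁻¹ (A.inv_mem ha), by
        have := key a ha
        convert this using 1; group⟩
    have := K.mul_mem (hAK a ha) hconj
    convert this using 1; group
  -- coprime action
  obtain ⟨x, hx, hx1⟩ := (Subgroup.bot_or_exists_ne_one Q).resolve_left hQ1
  have hxV : x ∈ Subgroup.centralizer (V : Set S) := by
    intro v hv
    obtain ⟨w, hw, hxv⟩ : ∃ w ∈ W, x * v * x⁻¹ = w * v := ⟨_, (hQK hx v hv).1, by group⟩
    have hpow : ∀ k : ℕ, x ^ k * v * (x ^ k)⁻¹ = w ^ k * v := by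
      intro k
      induction k with
      | zero => simp
      | succ k ih =>
        have hc : x * w ^ k = w ^ k * x := (hWQ _ (W.pow_mem hw k) x hx).symm
        calc x ^ (k + 1) * v * (x ^ (k + 1))⁻¹ = x * (x ^ k * v * (x ^ k)⁻¹) * x⁻¹ := by rw [pow_succ']; group
          _ = (x * w ^ k) * v * x⁻¹ := by rw [ih]; group
          _ = w ^ k * (x * v * x⁻¹) := by rw [hc]; group
          _ = w ^ (k + 1) * v := by rw [hxv, pow_succ, mul_assoc]
    have h1 : w ^ orderOf x = 1 := by
      have := hpow (orderOf x)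
      rw [pow_orderOf_eq_one, inv_one, one_mul, mul_one] at this
      exact mul_eq_right.1 this.symm
    obtain ⟨k, hk⟩ := hVp ⟨w, hWV hw⟩
    have hcop : (orderOf x).Coprime (p ^ k) := by
      refine Nat.Coprime.pow_right _ (((Fact.out : p.Prime).coprime_iff_not_dvd.2 fun h => hQ ?_).symm)
      rw [← Subgroup.orderOf_mk x hx] at h
      exact h.trans (orderOf_dvd_natCard _)
    have hw1 : w = 1 := orderOf_eq_one_iff.1 (Nat.eq_one_of_dvd_coprimes hcop
      (orderOf_dvd_of_pow_eq_one h1) (orderOf_dvd_of_pow_eq_one (congrArg Subtype.val hk :)))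
    rw [hw1, one_mul] at hxv
    exact (mul_inv_eq_iff_eq_mul.1 hxv).symm
  have hxVmem := CfsgLib.Blocks.hall_higman hS hred hxV
  obtain ⟨k, hk⟩ := hVp ⟨x, hxVmem⟩
  refine hx1 (orderOf_eq_one_iff.1 (Nat.eq_one_of_dvd_coprimes (a := p ^ k) (b := Nat.card Q) ?_
    (orderOf_dvd_of_pow_eq_one (congrArg Subtype.val hk :)) ?_))
  · exact Nat.Coprime.pow_left _ ((Fact.out : p.Prime).coprime_iff_not_dvd.2 hQ)
  · rw [← Subgroup.orderOf_mk x hx]; exact orderOf_dvd_natCard _

end Cfsg.Agent.S1892
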