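import Cfsg.Statements.S1893
import Cfsg.Agent.Lib.Basic
import Cfsg.Agent.Lib.PSolvable
import Cfsg.Agent.Lib.Quadratic.Consequences
import Cfsg.Agent.Lib.PLocal.SolvableSeparable
import Cfsg.Agent.Lib.MinSimpleOdd.Sigma
import Cfsg.Agent.Lib.Solvable.ProductNilpotent

set_option autoImplicit false
set_option linter.unusedVariables false
open Cfsg
open scoped commutatorElement

namespace Cfsg.Agent.S1893

universe u

theorem fixed_of_step {T : Type u} [Group T] {x y d : T} (hy : x * y * x⁻¹ = y * d) (hd : x * d = d * x) (k : ℕ) :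
    x ^ k * y * (x ^ k)⁻¹ = y * d ^ k := by
  induction k with
  | zero => simp
  | succ k ih =>
    have h1 : x * d ^ k * x⁻¹ = d ^ k := by
      rw [(show Commute x (d ^ k) from (show Commute x d from hd).pow_right k).eq, mul_inv_cancel_right]
    calc x ^ (k + 1) * y * (x ^ (k + 1))⁻¹ = x * (x ^ k * y * (x ^ k)⁻¹) * x⁻¹ := by rw [pow_succ']; group
      _ = (x * y * x⁻¹) * (x * d ^ k * x⁻¹) := by rw [ih]; group
      _ = y * d ^ (k + 1) := by rw [hy, h1, pow_succ' d, mul_assoc]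

/-- A prime power element centralising `A` lies in `A`. -/
theorem core {T : Type u} [Group T] [Finite T] [Group.IsSolvable T] {p : ℕ} [Fact p.Prime] (hp2 : p ≠ 2) (hp3 : p ≠ 3)
    (F A : Subgroup T) (hfit : Cfsg.fittingSubgroup T ≤ F) (hA : A ≤ F)
    (hn : F ≤ Subgroup.normalizer (A : Set T)) (hc : ∀ y ∈ F, (∀ a ∈ A, a * y = y * a) → y ∈ A)
    (x : T) (hx : ∃ k : ℕ, x ^ p ^ k = 1) (hxA : ∀ a ∈ A, a * x = x * a) : x ∈ A := by
  have hp : p.Prime := Fact.out
  obtain ⟨e, he⟩ := hx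
  set N := Cfsg.fittingSubgroup T with hN
  -- the commutators with the Fitting subgroup are centralized by `x`
  have hstep : ∀ y ∈ N, x * (y⁻¹ * (x * y * x⁻¹)) = (y⁻¹ * (x * y * x⁻¹)) * x := by
    intro y hy
    refine (hxA _ (hc _ (mul_mem (inv_mem (hfit hy)) (hfit (CfsgLib.fittingSubgroup_normal.conj_mem y hy x))) ?_)).symm
    intro a ha
    have h1 : y * a * y⁻¹ ∈ A := (Subgroup.mem_normalizer_iff.mp (hn (hfit hy)) a).mp ha
    have h2 : x * (y * a * y⁻¹) * x⁻¹ = y * a * y⁻¹ := by rw [← hxA _ h1]; group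
    have h4 : x⁻¹ * a = a * x⁻¹ := ((show Commute a x from hxA a ha).inv_right).eq.symm
    calc a * (y⁻¹ * (x * y * x⁻¹)) = y⁻¹ * (x * (y * a * y⁻¹) * x⁻¹) * (x * y * x⁻¹) := by rw [h2]; group
      _ = y⁻¹ * x * y * (a * x⁻¹) := by group
      _ = y⁻¹ * x * y * (x⁻¹ * a) := by rw [h4]
      _ = _ := by group
  -- `x` centralizes the `p'`-part
  have hq : ∀ (q : ℕ), q.Prime → q ≠ p → ∀ y ∈ Cfsg.pCore q T, x * y = y * x := by
    intro q hqp hne y hy
    haveI := Fact.mk hqp
    have hyN : y ∈ N := CfsgLib.pCore_le_fittingSubgroup hqp hy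
    have hd : y⁻¹ * (x * y * x⁻¹) ∈ Cfsg.pCore q T :=
      mul_mem (inv_mem hy) ((inferInstance : (Cfsg.pCore q T).Normal).conj_mem y hy x)
    have h1 := fixed_of_step (x := x) (y := y) (d := y⁻¹ * (x * y * x⁻¹)) (by group) (hstep y hyN) (p ^ e)
    rw [he, one_mul, inv_one, mul_one, left_eq_mul] at h1
    obtain ⟨j, hj⟩ := (CfsgLib.isPGroup_pCore (G := T) q) ⟨_, hd⟩
    have hj' : (y⁻¹ * (x * y * x⁻¹)) ^ q ^ j = 1 := congrArg Subtype.val hj
    have h2 : orderOf (y⁻¹ * (x * y * x⁻¹)) = 1 := Nat.eq_one_of_dvd_coprimes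
      (Nat.Coprime.pow _ _ ((Nat.coprime_primes hp hqp).mpr (Ne.symm hne)))
      (orderOf_dvd_of_pow_eq_one h1) (orderOf_dvd_of_pow_eq_one hj')
    rw [orderOf_eq_one_iff, inv_mul_eq_one] at h2
    calc x * y = (x * y * x⁻¹) * x := by group
      _ = y * x := by rw [← h2]
  set P := Cfsg.pCore p T with hP
  have hPN : P ≤ N := CfsgLib.pCore_le_fittingSubgroup hp
  -- the image of `x` in the automorphisms of the `p`-core lies in the `p`-core
  haveI hCn : ((Subgroup.centralizer (P : Set T)).subgroupOf (⊤ : Subgroup T)).Normal :=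
    (inferInstance : (Subgroup.centralizer (P : Set T)).Normal).subgroupOf ⊤
  set π := QuotientGroup.mk' ((Subgroup.centralizer (P : Set T)).subgroupOf (⊤ : Subgroup T)) with hπ
  have hxD : π ⟨x, Subgroup.mem_top x⟩ ∈ Cfsg.pCore p _ := by
    by_contra hout
    obtain ⟨K, -, f, hf⟩ := CfsgLib.Quadratic.exists_sl2_section hp2 (CfsgLib.isPGroup_pCore (G := T) p)
      (H := ⊤) (a := x) (by rw [Subgroup.normalizer_eq_top]) (Subgroup.mem_top x) (by
        intro v hv
        have hc' : Commute x (v⁻¹ * (x⁻¹⁻¹ * v * x⁻¹)) := by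
          rw [inv_inv]; exact hstep v (hPN hv)
        have h3 := hstep v⁻¹ (hPN (inv_mem hv))
        have e1 : x * v * x⁻¹ * v⁻¹ = (v⁻¹⁻¹ * (x * v⁻¹ * x⁻¹))⁻¹ := by group
        rw [e1]
        have hc2 : Commute x ((v⁻¹⁻¹ * (x * v⁻¹ * x⁻¹))⁻¹) := (show Commute x (v⁻¹⁻¹ * (x * v⁻¹ * x⁻¹)) from h3).inv_right
        rw [hc2.eq, mul_inv_cancel_right]) hout
    exact hp3 (CfsgLib.Quadratic.eq_three_of_isPSolvable hp2
      (H := K) (CfsgLib.PLocal.isPSolvable_of_isSolvable _ K rfl inferInstance) le_rfl f hf)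
  -- a nilpotent normal subgroup containing `x`
  let E : Subgroup T :=
    { carrier := {g | π ⟨g, Subgroup.mem_top g⟩ ∈ Cfsg.pCore p _ ∧
        ∀ (q : ℕ), q.Prime → q ≠ p → g ∈ Subgroup.centralizer (Cfsg.pCore q T : Set T)}
      one_mem' := ⟨by
        rw [show (⟨1, Subgroup.mem_top 1⟩ : (⊤ : Subgroup T)) = 1 from rfl, map_one]; exact one_mem _,
        fun q _ _ => one_mem _⟩
      mul_mem' := fun {a b} ha hb => ⟨by
        rw [show (⟨a * b, Subgroup.mem_top _⟩ : (⊤ : Subgroup T)) = ⟨a, Subgroup.mem_top _⟩ * ⟨b, Subgroup.mem_top _⟩ from rfl,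
          map_mul]
        exact mul_mem ha.1 hb.1, fun q h h' => mul_mem (ha.2 q h h') (hb.2 q h h')⟩
      inv_mem' := fun {a} ha => ⟨by
        rw [show (⟨a⁻¹, Subgroup.mem_top _⟩ : (⊤ : Subgroup T)) = ⟨a, Subgroup.mem_top _⟩⁻¹ from rfl, map_inv]
        exact inv_mem ha.1, fun q h h' => inv_mem (ha.2 q h h')⟩ }
  haveI hEn : E.Normal := ⟨fun g hg c => ⟨by
    rw [show (⟨c * g * c⁻¹, Subgroup.mem_top _⟩ : (⊤ : Subgroup T)) =
      ⟨c, Subgroup.mem_top _⟩ * ⟨g, Subgroup.mem_top _⟩ * ⟨c, Subgroup.mem_top _⟩⁻¹ from rfl, map_mul, map_mul, map_inv]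
    exact (inferInstance : (Cfsg.pCore p _).Normal).conj_mem _ hg.1 _,
    fun q h h' => (inferInstance : (Subgroup.centralizer (Cfsg.pCore q T : Set T)).Normal).conj_mem g (hg.2 q h h') c⟩⟩
  have hxE : x ∈ E := ⟨hxD, fun q h h' => Subgroup.mem_centralizer_iff.mpr fun y hy => (hq q h h' y hy).symm⟩
  -- elements of order prime to `p` are central in `E`
  have hcentral : ∀ g ∈ E, (orderOf g).Coprime p → ∀ h ∈ E, h * g = g * h := by
    intro g hg hgc h hh
    have hgP : g ∈ Subgroup.centralizer (P : Set T) := by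
      obtain ⟨j, hj⟩ := (CfsgLib.isPGroup_pCore p) ⟨_, hg.1⟩
      have hj' : π (⟨g, Subgroup.mem_top g⟩ ^ p ^ j) = 1 := by rw [map_pow]; exact congrArg Subtype.val hj
      have hmem : g ^ p ^ j ∈ Subgroup.centralizer (P : Set T) := by
        have := (QuotientGroup.eq_one_iff _).mp hj'
        simpa [Subgroup.mem_subgroupOf] using this
      obtain ⟨m, hm⟩ := exists_pow_eq_self_of_coprime (Nat.Coprime.pow_left j hgc.symm)
      rw [← hm]; exact pow_mem hmem m
    have hgN : g ∈ N := CfsgLib.centralizer_fitting_le (by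
      have hle : N ≤ Subgroup.centralizer (({g} : Set T)) := by
        rw [hN, CfsgLib.fittingSubgroup_eq_iSup_pCore]
        refine iSup_le fun q y hy => Subgroup.mem_centralizer_singleton_iff.mpr ?_
        rcases eq_or_ne (q : ℕ) p with h' | h'
        · exact Subgroup.mem_centralizer_iff.mp hgP y (by rw [hP, ← h']; exact hy)
        · exact Subgroup.mem_centralizer_iff.mp (hg.2 q q.2 h') y hy
      exact Subgroup.mem_centralizer_iff.mpr fun y hy => Subgroup.mem_centralizer_singleton_iff.mp (hle hy))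
    -- `g` lies in the join of the other cores
    have hnil : Group.IsNilpotent N := CfsgLib.isNilpotent_fittingSubgroup
    have hle : N ≤ P ⊔ ⨆ q : {q : Nat.Primes // (q : ℕ) ≠ p}, Cfsg.pCore ((q : Nat.Primes) : ℕ) T := by
      rw [hN, CfsgLib.fittingSubgroup_eq_iSup_pCore]
      refine iSup_le fun q => ?_
      rcases eq_or_ne (q : ℕ) p with h' | h'
      · exact le_sup_of_le_left (by rw [hP, h'])
      · exact le_sup_of_le_right (le_iSup (fun q : {q : Nat.Primes // (q : ℕ) ≠ p} => Cfsg.pCore ((q : Nat.Primes) : ℕ) T) ⟨q, h'⟩)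
    obtain ⟨a, ha, b, hb, hab⟩ : ∃ a ∈ P, ∃ b ∈ ⨆ q : {q : Nat.Primes // (q : ℕ) ≠ p}, Cfsg.pCore ((q : Nat.Primes) : ℕ) T, a * b = g := by
      have := hle hgN
      rwa [← SetLike.mem_coe, Subgroup.normal_mul, Set.mem_mul] at this
    have hbh : h * b = b * h := by
      have : (⨆ q : {q : Nat.Primes // (q : ℕ) ≠ p}, Cfsg.pCore ((q : Nat.Primes) : ℕ) T) ≤ Subgroup.centralizer ({h} : Set T) :=
        iSup_le fun q y hy => Subgroup.mem_centralizer_singleton_iff.mpr
          (Subgroup.mem_centralizer_iff.mp (hh.2 q.1 q.1.2 q.2) y hy)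
      exact (Subgroup.mem_centralizer_singleton_iff.mp (this hb)).symm
    -- the `p`-part is trivial
    have hbc : (orderOf b).Coprime p := by
      have hle' : (⨆ q : {q : Nat.Primes // (q : ℕ) ≠ p}, Cfsg.pCore ((q : Nat.Primes) : ℕ) T) ≤ Cfsg.pPrimeCore p T :=
        iSup_le fun q => CfsgLib.pCore_le_pPrimeCore_of_ne hp q.1.2 (Ne.symm q.2)
      have h1 : orderOf b ∣ Nat.card (Cfsg.pPrimeCore p T) := by
        simpa [Subgroup.orderOf_mk] using orderOf_dvd_natCard (⟨b, hle' hb⟩ : Cfsg.pPrimeCore p T)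
      exact Nat.Coprime.coprime_dvd_left h1 (CfsgLib.card_pPrimeCore_coprime p)
    have hcomm : Commute a b := by
      have : (⨆ q : {q : Nat.Primes // (q : ℕ) ≠ p}, Cfsg.pCore ((q : Nat.Primes) : ℕ) T) ≤ Subgroup.centralizer ({a} : Set T) :=
        iSup_le fun q y hy => Subgroup.mem_centralizer_singleton_iff.mpr
          (Subgroup.commute_of_normal_of_disjoint _ _ inferInstance inferInstance (by
            rw [disjoint_iff]
            haveI := Fact.mk q.1.2
            refine Subgroup.inf_eq_bot_of_coprime ?_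
            obtain ⟨i, hi⟩ := (CfsgLib.isPGroup_pCore (G := T) (q.1 : ℕ)).exists_card_eq
            obtain ⟨i', hi'⟩ := (CfsgLib.isPGroup_pCore (G := T) p).exists_card_eq
            rw [hi, hi']
            exact Nat.Coprime.pow _ _ ((Nat.coprime_primes q.1.2 hp).mpr q.2)) y a hy ha).eq
      exact (Subgroup.mem_centralizer_singleton_iff.mp (this hb)).symm
    have ha1 : a = 1 := by
      obtain ⟨i, hi⟩ := (CfsgLib.isPGroup_pCore (G := T) p) ⟨a, ha⟩
      have hi' : a ^ p ^ i = 1 := congrArg Subtype.val hi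
      have h1 : a ^ (orderOf g * orderOf b) = 1 := by
        have e1 : a = g * b⁻¹ := by rw [← hab]; group
        have hgb : Commute g b⁻¹ := by rw [← hab]; exact (hcomm.mul_left (Commute.refl b)).inv_right
        rw [e1, hgb.mul_pow, pow_mul, pow_orderOf_eq_one, one_pow, inv_pow, mul_comm, pow_mul, pow_orderOf_eq_one, one_pow, inv_one, one_mul]
      have h2 : orderOf a = 1 := Nat.eq_one_of_dvd_coprimes
        ((Nat.Coprime.mul_left hgc hbc).pow_right i) (orderOf_dvd_of_pow_eq_one h1) (orderOf_dvd_of_pow_eq_one hi')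
      exact orderOf_eq_one_iff.mp h2
    rw [← hab, ha1, one_mul, hbh]
  have hEnil : Group.IsNilpotent E := by
    refine Group.of_quotient_center_nilpotent (IsPGroup.isNilpotent (p := p) fun y => ?_)
    obtain ⟨g, rfl⟩ := QuotientGroup.mk_surjective y
    refine ⟨(orderOf g).factorization p, ?_⟩
    rw [← QuotientGroup.mk_pow, QuotientGroup.eq_one_iff, Subgroup.mem_center_iff]
    intro h
    have hco : (orderOf (g ^ p ^ (orderOf g).factorization p)).Coprime p := by
      rw [orderOf_pow' g (pow_ne_zero _ hp.ne_zero), Nat.gcd_eq_right (Nat.ordProj_dvd (orderOf g) p)]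
      exact (Nat.coprime_ordCompl hp (orderOf_pos g).ne').symm
    exact Subtype.ext (hcentral _ (g ^ p ^ (orderOf g).factorization p).2 (by rwa [Subgroup.orderOf_coe]) h h.2)
  exact hc x (hfit (CfsgLib.le_fittingSubgroup hEnil hxE)) hxA

/-- Let S be a finite solvable group, π a set of primes containing neither 2 nor 3, H a Hall π-subgroup of S, and A a self-centralizing normal subgroup of the Fitting subgroup F(H). Then C_S(A) = A × D for a normal subgroup D of C_S(A) whose order has no prime divisor in π. -/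
theorem result {S : Type*} [Group S] [Finite S] [Group.IsSolvable S]
    (π : Set ℕ) (h2 : 2 ∉ π) (h3 : 3 ∉ π) (H : Subgroup S) (hH : Cfsg.IsPiHall π H)
    (A : Subgroup S) (hA : Cfsg.IsSCN ((Cfsg.fittingSubgroup H).map H.subtype) A) :
    ∃ D : Subgroup S, D ≤ Subgroup.centralizer (A : Set S) ∧
      (∀ c ∈ Subgroup.centralizer (A : Set S), ∀ d ∈ D, c * d * c⁻¹ ∈ D) ∧
      A ⊓ D = ⊥ ∧ A ⊔ D = Subgroup.centralizer (A : Set S) ∧
      ∀ q : ℕ, q.Prime → q ∣ Nat.card D → q ∉ π := by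
  set R := Cfsg.piCore πᶜ S with hR
  set f := QuotientGroup.mk' R with hf
  set C := Subgroup.centralizer (A : Set S) with hC
  have hfH : ∀ h ∈ H, f h = 1 → h = 1 := by
    intro h hh h1
    have hhR : h ∈ R := (QuotientGroup.eq_one_iff h).mp h1
    by_contra hne
    obtain ⟨r, hr, hd⟩ := Nat.exists_prime_and_dvd (show orderOf h ≠ 1 from fun e => hne (orderOf_eq_one_iff.mp e))
    have d1 : r ∣ Nat.card H := hd.trans (by simpa [Subgroup.orderOf_mk] using orderOf_dvd_natCard (⟨h, hh⟩ : H))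
    have d2 : r ∣ Nat.card R := hd.trans (by simpa [Subgroup.orderOf_mk] using orderOf_dvd_natCard (⟨h, hhR⟩ : R))
    exact CfsgLib.MinSimpleOdd.card_piCore πᶜ r hr d2 (hH.1 r hr d1)
  set F := (Cfsg.fittingSubgroup H).map H.subtype with hF
  have hFH : F ≤ H := Subgroup.map_subtype_le _
  have hAF : A ≤ F := hA.1
  have hAH : A ≤ H := hAF.trans hFH
  have hAc : ∀ a ∈ A, a ∈ C := by
    intro a ha
    have : a ∈ F ⊓ Subgroup.centralizer (A : Set S) := by rw [hA.2.2]; exact ha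
    exact this.2
  -- the Fitting subgroup of the quotient
  have hfit : Cfsg.fittingSubgroup (S ⧸ R) ≤ F.map f := by
    set N := Cfsg.fittingSubgroup (S ⧸ R) with hN
    have hNpi : ∀ r : ℕ, r.Prime → r ∣ Nat.card N → r ∈ π := by
      intro r hr hd
      haveI := Fact.mk hr
      by_contra hrπ
      have hb : Cfsg.pCore r (S ⧸ R) = ⊥ := by
        refine le_bot_iff.mp ((le_sSup ⟨inferInstance, fun t ht htd => ?_⟩ : Cfsg.pCore r (S ⧸ R) ≤ Cfsg.piCore πᶜ (S ⧸ R)).trans
          (CfsgLib.MinSimpleOdd.piCore_quotient_eq_bot (π := πᶜ)).le)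
        obtain ⟨i, hi⟩ := (CfsgLib.isPGroup_pCore (G := S ⧸ R) r).exists_card_eq
        rw [hi] at htd
        rw [(Nat.prime_dvd_prime_iff_eq ht hr).mp (ht.dvd_of_dvd_pow htd)]
        exact hrπ
      have hle : N ≤ Cfsg.pPrimeCore r (S ⧸ R) := by
        rw [hN, CfsgLib.fittingSubgroup_eq_iSup_pCore]
        refine iSup_le fun t => ?_
        rcases eq_or_ne (t : ℕ) r with e | e
        · rw [e, hb]; exact bot_le
        · exact CfsgLib.pCore_le_pPrimeCore_of_ne hr t.2 (Ne.symm e)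
      exact ((Nat.Prime.coprime_iff_not_dvd hr).mp (CfsgLib.card_pPrimeCore_coprime (G := S ⧸ R) r).symm)
        (hd.trans (Subgroup.card_dvd_of_le hle))
    have hNH : N ≤ H.map f := by
      refine CfsgLib.ProductNilpotent.normal_le_hall _ N (Nat.coprime_of_dvd fun r hr d1 d2 => ?_)
      exact hH.2 r hr (hNpi r hr d1) (d2.trans (H.index_map_dvd (QuotientGroup.mk'_surjective R)))
    let g : H →* S ⧸ R := f.comp H.subtype
    have hginj : Function.Injective g := (injective_iff_map_eq_one g).mpr fun x hx => Subtype.ext (hfH x x.2 hx)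
    haveI : (N.comap g).Normal := Subgroup.normal_comap g
    have hnil : Group.IsNilpotent ↥(N.comap g) := by
      haveI : Group.IsNilpotent ↥N := CfsgLib.isNilpotent_fittingSubgroup
      exact Subgroup.isNilpotent_of_ker_le_center (G := ↥(N.comap g)) (g.subgroupComap N) (by
        intro x hx
        have : g (x : H) = 1 := congrArg Subtype.val hx
        rw [show x = 1 from Subtype.ext (hginj (this.trans (map_one g).symm))]
        exact one_mem _)
    intro y hy
    obtain ⟨h, hh, rfl⟩ := hNH hy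
    exact ⟨h, ⟨⟨h, hh⟩, CfsgLib.le_fittingSubgroup hnil hy, rfl⟩, rfl⟩
  -- prime power elements of the centralizer
  have key : ∀ q : ℕ, q.Prime → q ∈ π → ∀ x ∈ C, (∃ k : ℕ, x ^ q ^ k = 1) → x ∈ A := by
    intro q hq hqπ x hx hxq
    haveI := Fact.mk hq
    have hfx : f x ∈ A.map f := by
      refine core (p := q) (fun e => h2 (e ▸ hqπ)) (fun e => h3 (e ▸ hqπ)) (F.map f) (A.map f) hfit
        (Subgroup.map_mono hAF) ((Subgroup.map_mono hA.2.1).trans (Subgroup.le_normalizer_map f)) ?_ (f x) ?_ ?_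
      · rintro _ ⟨y, hy, rfl⟩ hcy
        refine ⟨y, ?_, rfl⟩
        have : y ∈ F ⊓ Subgroup.centralizer (A : Set S) := by
          refine ⟨hy, Subgroup.mem_centralizer_iff.mpr fun a ha => ?_⟩
          have h1 : a * y * (y * a)⁻¹ = 1 := by
            refine hfH _ (mul_mem (mul_mem (hAH ha) (hFH hy)) (inv_mem (mul_mem (hFH hy) (hAH ha)))) ?_
            rw [map_mul, map_mul, map_inv, map_mul, hcy _ ⟨a, ha, rfl⟩, mul_inv_cancel]
          exact mul_inv_eq_one.mp h1
        rwa [hA.2.2] at this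
      · obtain ⟨k, hk⟩ := hxq
        exact ⟨k, by rw [← map_pow, hk, map_one]⟩
      · rintro _ ⟨a, ha, rfl⟩
        rw [← map_mul, ← map_mul, Subgroup.mem_centralizer_iff.mp hx a ha]
    obtain ⟨a, ha, hax⟩ := hfx
    have hrR : a⁻¹ * x ∈ R := by
      refine (QuotientGroup.eq_one_iff _).mp ?_
      show f (a⁻¹ * x) = 1
      rw [map_mul, map_inv, hax, inv_mul_cancel]
    have hcomm : Commute a⁻¹ x := (show Commute a x from Subgroup.mem_centralizer_iff.mp hx a ha).inv_left
    obtain ⟨k, hk⟩ := hxq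
    have hd1 : orderOf (a⁻¹ * x) ∣ Nat.card H * q ^ k := by
      refine orderOf_dvd_of_pow_eq_one ?_
      have ha1 : a⁻¹ ^ Nat.card H = 1 := orderOf_dvd_iff_pow_eq_one.mp (by
        simpa [Subgroup.orderOf_mk] using orderOf_dvd_natCard (⟨a⁻¹, inv_mem (hAH ha)⟩ : H))
      rw [hcomm.mul_pow, pow_mul, ha1, one_pow, mul_comm, pow_mul, hk, one_pow, one_mul]
    have hd2 : orderOf (a⁻¹ * x) ∣ Nat.card R := by
      simpa [Subgroup.orderOf_mk] using orderOf_dvd_natCard (⟨a⁻¹ * x, hrR⟩ : R)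
    have h1 : orderOf (a⁻¹ * x) = 1 := by
      by_contra hne
      obtain ⟨r, hr, hd⟩ := Nat.exists_prime_and_dvd hne
      refine CfsgLib.MinSimpleOdd.card_piCore πᶜ r hr (hd.trans hd2) ?_
      rcases hr.dvd_mul.mp (hd.trans hd1) with h | h
      · exact hH.1 r hr h
      · rw [(Nat.prime_dvd_prime_iff_eq hr hq).mp (hr.dvd_of_dvd_pow h)]; exact hqπ
    rw [← inv_mul_eq_one.mp (orderOf_eq_one_iff.mp h1)]
    exact ha
  -- `A` is a central Hall subgroup of its centralizer
  set A₀ := A.subgroupOf C with hA₀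
  have hA₀c : ∀ a ∈ A₀, ∀ c : C, c * a = a * c := fun a ha c =>
    Subtype.ext (Subgroup.mem_centralizer_iff.mp c.2 _ ha).symm
  haveI : A₀.Normal := ⟨fun a ha c => by rw [hA₀c a ha c, mul_inv_cancel_right]; exact ha⟩
  have hcard : Nat.card A₀ = Nat.card A := Nat.card_congr (Subgroup.subgroupOfEquivOfLe hAc).toEquiv
  have hidx : ∀ q : ℕ, q.Prime → q ∈ π → ¬ q ∣ A₀.index := by
    intro q hq hqπ
    haveI := Fact.mk hq
    obtain ⟨Q⟩ := (inferInstance : Nonempty (Sylow q C))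
    have hle : (Q : Subgroup C) ≤ A₀ := by
      intro x hx
      obtain ⟨k, hk⟩ := Q.2 ⟨x, hx⟩
      exact key q hq hqπ x x.2 ⟨k, congrArg (fun z : (Q : Subgroup C) => ((z : C) : S)) hk⟩
    exact fun h => Q.not_dvd_index (h.trans (Subgroup.index_dvd_of_le hle))
  have hcop : (Nat.card A₀).Coprime A₀.index := by
    refine Nat.coprime_of_dvd fun q hq d1 d2 => hidx q hq ?_ d2
    rw [hcard] at d1
    exact hH.1 q hq (d1.trans (Subgroup.card_dvd_of_le hAH))
  obtain ⟨D, hD⟩ := Subgroup.exists_right_complement'_of_coprime hcop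
  refine ⟨D.map C.subtype, Subgroup.map_subtype_le D, ?_, ?_, ?_, ?_⟩
  · rintro c hc _ ⟨d, hd, rfl⟩
    obtain ⟨⟨⟨a, ha⟩, ⟨e, he⟩⟩, hae⟩ := hD.2 (⟨c, hc⟩ : C)
    refine ⟨e * d * e⁻¹, mul_mem (mul_mem he hd) (inv_mem he), ?_⟩
    have h1 : (⟨c, hc⟩ : C) * d * (⟨c, hc⟩ : C)⁻¹ = e * d * e⁻¹ := by
      rw [← show a * e = (⟨c, hc⟩ : C) from hae]
      calc a * e * d * (a * e)⁻¹ = a * (e * d * e⁻¹) * a⁻¹ := by group
        _ = e * d * e⁻¹ := by rw [← hA₀c a ha (e * d * e⁻¹), mul_inv_cancel_right]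
    rw [← h1]; rfl
  · refine eq_bot_iff.mpr ?_
    rintro _ ⟨ha, d, hd, rfl⟩
    have : d ∈ A₀ ⊓ D := ⟨ha, hd⟩
    rw [disjoint_iff.mp hD.disjoint, Subgroup.mem_bot] at this
    rw [this]; exact one_mem _
  · refine le_antisymm (sup_le (fun a ha => hAc a ha) (Subgroup.map_subtype_le D)) fun c hc => ?_
    obtain ⟨⟨⟨a, ha⟩, ⟨e, he⟩⟩, hae⟩ := hD.2 (⟨c, hc⟩ : C)
    have h1 : (a : S) * (e : S) = c := congrArg Subtype.val (show a * e = (⟨c, hc⟩ : C) from hae)
    rw [← h1]
    exact Subgroup.mul_mem_sup ha ⟨e, he, rfl⟩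
  · intro q hq hd hqπ
    rw [Subgroup.card_map_of_injective C.subtype_injective] at hd
    exact hidx q hq hqπ (by rwa [hD.symm.index_eq_card])

end Cfsg.Agent.S1893
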