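import Cfsg.Statements.S1894
import Cfsg.Agent.Lib.Elementary

set_option autoImplicit false
set_option linter.unusedVariables false
open Cfsg
open scoped commutatorElement

namespace Cfsg.Agent.S1894

/-- Let P be a finite p-group, A a normal subgroup of P and B an abelian subgroup of A that is normal in P. Then some subgroup C of A containing B is normal in P and is self-centralizing and normal in A (C ∈ SCN(A)). -/
theorem result {P : Type*} [Group P] [Finite P] {p : ℕ} [Fact p.Prime] (hP : IsPGroup p P)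
    (A : Subgroup P) [A.Normal] (B : Subgroup P) [B.Normal] (hBA : B ≤ A) (hB : IsMulCommutative B) :
    ∃ C : Subgroup P, C.Normal ∧ B ≤ C ∧ Cfsg.IsSCN A C := by
  obtain ⟨C, hBC, hC⟩ := Finite.exists_le_maximal
    (p := fun C : Subgroup P => C.Normal ∧ IsMulCommutative C ∧ C ≤ A) (a := B) ⟨inferInstance, hB, hBA⟩
  obtain ⟨hCn, hCc, hCA⟩ := hC.prop
  haveI := hCn
  refine ⟨C, hCn, hBC, hCA, by simp [Subgroup.normalizer_eq_top], ?_⟩
  have hCle : C ≤ A ⊓ Subgroup.centralizer (C : Set P) := le_inf hCA fun a ha b hb =>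
    Subtype.ext_iff.1 (hCc.is_comm.comm (⟨b, hb⟩ : C) ⟨a, ha⟩)
  refine le_antisymm (fun d hd => ?_) hCle
  by_contra hdC
  set D := A ⊓ Subgroup.centralizer (C : Set P) with hD
  set π := QuotientGroup.mk' C
  haveI := hP.isNilpotent
  haveI : D.Normal := Subgroup.normal_inf_normal _ _
  haveI : (D.map π).Normal := Subgroup.Normal.map inferInstance π (QuotientGroup.mk'_surjective C)
  have hne : D.map π ≠ ⊥ := fun h => hdC (by
    have := Subgroup.map_eq_bot_iff _ |>.1 h hd
    simpa [π] using this)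
  obtain ⟨z, hz, hz1⟩ : ∃ z ∈ D.map π ⊓ Subgroup.center (P ⧸ C), z ≠ 1 := by
    have := CfsgLib.inf_center_ne_bot_of_nilpotent hne
    rw [Subgroup.ne_bot_iff_exists_ne_one] at this
    obtain ⟨⟨z, hz⟩, hz1⟩ := this
    exact ⟨z, hz, fun h => hz1 (Subtype.ext h)⟩
  obtain ⟨⟨x, hx, rfl⟩, hzc⟩ := hz
  have hxC : x ∉ C := fun h => hz1 (by simpa [π] using h)
  set C' := C ⊔ Subgroup.zpowers x
  have hC'ab : IsMulCommutative C' := by
    have hs : C' = Subgroup.closure ((C : Set P) ∪ {x}) := by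
      rw [Subgroup.closure_union, Subgroup.closure_eq, ← Subgroup.zpowers_eq_closure]
    rw [hs]
    refine Subgroup.isMulCommutative_closure ?_
    rintro a (ha | rfl) b (hb | rfl)
    · exact Subtype.ext_iff.1 (hCc.is_comm.comm (⟨a, ha⟩ : C) ⟨b, hb⟩)
    · exact hx.2 a ha
    · exact (hx.2 b hb).symm
    · rfl
  have hC'n : C'.Normal := by
    refine Subgroup.normalizer_eq_top_iff.1 (top_le_iff.1 (Subgroup.le_normalizer_iff.2 fun g _ y hy => ?_))
    have hmap : C' ≤ C'.comap (MulAut.conj g).toMonoidHom := by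
      refine sup_le (fun c hc => Subgroup.mem_sup_left (hCn.conj_mem c hc g)) ?_
      rw [Subgroup.zpowers_le]
      show g * x * g⁻¹ ∈ C'
      have h1 : π (x⁻¹ * (g * x * g⁻¹)) = 1 := by
        rw [map_mul, map_mul, map_mul, map_inv, map_inv, Subgroup.mem_center_iff.1 hzc (π g)]
        group
      have h2 : x⁻¹ * (g * x * g⁻¹) ∈ C := (QuotientGroup.eq_one_iff _).1 h1
      have := C'.mul_mem (Subgroup.mem_sup_right (Subgroup.mem_zpowers x)) (Subgroup.mem_sup_left h2)
      simpa [C', mul_assoc] using this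
    exact hmap hy
  exact hxC (hC.le_of_ge ⟨hC'n, hC'ab, sup_le hCA ((Subgroup.zpowers_le).2 hx.1)⟩ le_sup_left
    (Subgroup.mem_sup_right (Subgroup.mem_zpowers x)))

end Cfsg.Agent.S1894
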