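import Cfsg.Statements.S1895
import Cfsg.Agent.Lib.PResidual
import Cfsg.Agent.S3744
import Cfsg.Agent.Lib.Blocks.HallHigman
import Cfsg.Agent.Lib.MinSimpleOdd.Sigma
import Cfsg.Agent.Lib.SmallElements
import Cfsg.Agent.Lib.ZJ.Replacement
import Cfsg.Agent.Lib.Stabilizer
import Cfsg.Agent.Lib.KInf.Degree
import Cfsg.Agent.Lib.Elementary
import Cfsg.Agent.Lib.CharP

set_option autoImplicit false
set_option linter.unusedVariables false
open Cfsg
open scoped commutatorElement

namespace Cfsg.Agent.S1895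

open CfsgLib

universe u

variable {p : ℕ} [Fact p.Prime]

/-- In a group whose elements of order `p` are central, `x ^ (p * p) = 1` forces `⁅x, y⁆ ^ p = 1`. -/
theorem comm_pow {G : Type u} [Group G] [Finite G] (hp2 : p ≠ 2) {P : Subgroup G} (hP : IsPGroup p ↥P)
    (hc : ∀ x ∈ P, x ^ p = 1 → ∀ y ∈ P, x * y = y * x) :
    ∀ n : ℕ, ∀ x ∈ P, ∀ y ∈ P, Nat.card ↥(Subgroup.closure ({x, y} : Set G)) ≤ n →
      x ^ (p * p) = 1 → ⁅x, y⁆ ^ p = 1 := by
  intro n
  induction n with
  | zero => intro x _ y _ h; exact absurd h (Nat.not_le.mpr Nat.card_pos)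
  | succ n ih =>
    intro x hx y hy hcard hx2
    set K := Subgroup.closure ({x, y} : Set G) with hK
    have hxK : x ∈ K := Subgroup.subset_closure (Set.mem_insert _ _)
    have hyK : y ∈ K := Subgroup.subset_closure (Set.mem_insert_of_mem _ rfl)
    have hKP : K ≤ P := (Subgroup.closure_le _).mpr (Set.insert_subset hx (Set.singleton_subset_iff.mpr hy))
    set x' := y * x * y⁻¹ with hx'
    have hx'P : x' ∈ P := P.mul_mem (P.mul_mem hy hx) (P.inv_mem hy)
    set H := Subgroup.closure ({x, x'} : Set G) with hH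
    have hHK : H ≤ K := (Subgroup.closure_le _).mpr (Set.insert_subset hxK
      (Set.singleton_subset_iff.mpr (K.mul_mem (K.mul_mem hyK hxK) (K.inv_mem hyK))))
    by_cases hHe : H = K
    · have hKp : IsPGroup p ↥K := hP.to_le hKP
      have h1 : Subgroup.zpowers (⟨x, hxK⟩ : ↥K) ⊔ frattini ↥K = ⊤ := by
        refine eq_top_iff.mpr fun k _ => ?_
        have hk : (k : G) ∈ H := by rw [hHe]; exact k.2
        have hle : H ≤ (Subgroup.zpowers (⟨x, hxK⟩ : ↥K) ⊔ frattini ↥K).map K.subtype := by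
          refine (Subgroup.closure_le _).mpr (Set.insert_subset ?_ (Set.singleton_subset_iff.mpr ?_))
          · exact ⟨_, Subgroup.mem_sup_left (Subgroup.mem_zpowers _), rfl⟩
          · refine ⟨⁅(⟨y, hyK⟩ : ↥K), ⟨x, hxK⟩⁆ * ⟨x, hxK⟩, Subgroup.mul_mem _ (Subgroup.mem_sup_right
              (commutator_le_frattini_pGroup hKp (Subgroup.commutator_mem_commutator (Subgroup.mem_top _)
                (Subgroup.mem_top _)))) (Subgroup.mem_sup_left (Subgroup.mem_zpowers _)), ?_⟩
            show y * x * y⁻¹ * x⁻¹ * x = x'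
            rw [hx']; group
        obtain ⟨k', hk', e⟩ := hle hk
        rwa [← K.subtype_injective e]
      have h2 := frattini_nongenerating h1
      have hy' : (⟨y, hyK⟩ : ↥K) ∈ Subgroup.zpowers (⟨x, hxK⟩ : ↥K) := h2 ▸ Subgroup.mem_top _
      obtain ⟨i, hi⟩ := hy'
      have hi' : x ^ i = y := by simpa using congrArg Subtype.val hi
      rw [← hi', commutatorElement_eq_one_iff_mul_comm.mpr ((Commute.refl x).zpow_right i).eq, one_pow]
    have hlt : Nat.card ↥H ≤ n := by
      have h1 : Nat.card ↥H < Nat.card ↥K := lt_of_le_of_ne (Subgroup.card_le_of_le hHK)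
        fun e => hHe (Subgroup.eq_of_le_of_card_ge hHK e.ge)
      omega
    have h1 : ⁅x, x'⁆ ^ p = 1 := ih x hx x' hx'P hlt hx2
    have hcP : ⁅x, x'⁆ ∈ P := by
      rw [commutatorElement_def]; exact P.mul_mem (P.mul_mem (P.mul_mem hx hx'P) (P.inv_mem hx)) (P.inv_mem hx'P)
    have hxp : (x ^ p) ^ p = 1 := by rw [← pow_mul]; exact hx2
    have hxy : x ^ p * y = y * x ^ p := hc _ (P.pow_mem hx p) hxp y hy
    have hxp' : x' ^ p = x ^ p := by rw [hx', conj_pow, ← hxy, mul_inv_cancel_right]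
    set c := ⁅x'⁻¹, x⁆ with hcdef
    have hcc : c = x'⁻¹ * ⁅x, x'⁆ * x'⁻¹⁻¹ := by rw [hcdef]; simp only [commutatorElement_def]; group
    have hcP' : c ∈ P := by rw [hcc]; exact P.mul_mem (P.mul_mem (P.inv_mem hx'P) hcP) (P.inv_mem (P.inv_mem hx'P))
    have hcp : c ^ p = 1 := by rw [hcc, conj_pow, h1, mul_one, mul_inv_cancel]
    have hcen := fun z hz => hc c hcP' hcp z hz
    rw [show ⁅x, y⁆ = x * x'⁻¹ by rw [hx']; simp only [commutatorElement_def]; group,
      ZJ.mul_pow_class_two (u := x) (v := x'⁻¹) (c := c) (by rw [hcdef, commutatorElement_def]; group)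
        (hcen x hx) (hcen _ (P.inv_mem hx'P)) p,
      ZJ.choose_two_pow_eq_one Fact.out hp2 (Or.inr rfl) hcp, mul_one, inv_pow, hxp', mul_inv_cancel]

theorem rel_card {G : Type u} [Group G] [Finite G] {V U : Subgroup G} (h : V ≤ U) :
    Nat.card ↥V * V.relIndex U = Nat.card ↥U := by
  rw [← Subgroup.relIndex_bot_left V, ← Subgroup.relIndex_bot_left U]
  exact Subgroup.relIndex_mul_relIndex _ _ _ bot_le h

/-- A factor not meeting `N` outside `V` survives modulo `N`. -/
theorem map_factor {G : Type u} [Group G] [Finite G] {U V N : Subgroup G} [N.Normal] (hUV : IsChiefFactor U V)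
    (h : U ⊓ N ≤ V) :
    IsChiefFactor (U.map (QuotientGroup.mk' N)) (V.map (QuotientGroup.mk' N)) ∧
      (V.map (QuotientGroup.mk' N)).relIndex (U.map (QuotientGroup.mk' N)) = V.relIndex U := by
  obtain ⟨hlt, hU, hV, hch⟩ := hUV
  set π := QuotientGroup.mk' N with hπ
  have hs := QuotientGroup.mk'_surjective N
  have hc : ∀ W : Subgroup G, Nat.card ↥(W ⊓ N : Subgroup G) * Nat.card ↥(W.map π) = Nat.card ↥W := by
    intro W
    rw [← Subgroup.relIndex_ker, hπ, QuotientGroup.ker_mk', ← Subgroup.inf_relIndex_left W N]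
    exact rel_card inf_le_left
  have hN : U ⊓ N = V ⊓ N := le_antisymm (le_inf h inf_le_right) (inf_le_inf_right N hlt.le)
  have hrel : (V.map π).relIndex (U.map π) = V.relIndex U := by
    have h1 := hc U
    rw [hN, ← rel_card (Subgroup.map_mono (f := π) hlt.le), ← rel_card hlt.le, ← mul_assoc, hc V] at h1
    exact Nat.eq_of_mul_eq_mul_left Nat.card_pos h1
  refine ⟨⟨lt_of_le_of_ne (Subgroup.map_mono hlt.le) fun e => hlt.ne ?_, hU.map _ hs, hV.map _ hs, fun X hX h1 h2 => ?_⟩, hrel⟩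
  · rw [e, Subgroup.relIndex_self] at hrel
    exact le_antisymm hlt.le (Subgroup.relIndex_eq_one.mp hrel.symm)
  · haveI := hX
    haveI := hU
    have h3 : (X.comap π ⊓ U).map π = X := by
      refine le_antisymm ((Subgroup.map_mono inf_le_left).trans (Subgroup.map_comap_le _ _)) fun x hx => ?_
      obtain ⟨w, hw, rfl⟩ := h2 hx
      exact ⟨w, ⟨hx, hw⟩, rfl⟩
    rcases hch (X.comap π ⊓ U) inferInstance (le_inf (Subgroup.map_le_iff_le_comap.mp h1) hlt.le) inf_le_right with e | e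
    · left; rw [← h3, e]
    · right; rw [← h3, e]

/-- A factor meeting `N` outside `V` is one inside `N`. -/
theorem inf_factor {G : Type u} [Group G] [Finite G] {U V N : Subgroup G} [hNn : N.Normal] (hUV : IsChiefFactor U V)
    (h : ¬ U ⊓ N ≤ V) :
    IsChiefFactor (U ⊓ N) (V ⊓ N) ∧ (V ⊓ N).relIndex (U ⊓ N) = V.relIndex U := by
  obtain ⟨hlt, hU, hV, hch⟩ := hUV
  haveI := hU
  haveI := hV
  have htop : V ⊔ (U ⊓ N) = U := by
    rcases hch (V ⊔ (U ⊓ N)) (Subgroup.sup_normal _ _) le_sup_left (sup_le hlt.le inf_le_left) with e | e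
    · exact absurd (le_sup_right.trans e.le) h
    · exact e
  have hrel : (V ⊓ N).relIndex (U ⊓ N) = V.relIndex U := by
    conv_rhs => rw [← htop, sup_comm, Subgroup.relIndex_sup_right]
    rw [← Subgroup.inf_relIndex_right V (U ⊓ N), ← inf_assoc, inf_eq_left.mpr hlt.le]
  refine ⟨⟨lt_of_le_of_ne (inf_le_inf_right N hlt.le) fun e => h (e.ge.trans inf_le_left),
    inferInstance, inferInstance, fun X hX h1 h2 => ?_⟩, hrel⟩
  haveI := hX
  rcases hch (X ⊔ V) (Subgroup.sup_normal _ _) le_sup_right (sup_le (h2.trans inf_le_left) hlt.le) with e | e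
  · exact Or.inl (le_antisymm (le_inf (le_sup_left.trans e.le) (h2.trans inf_le_right)) h1)
  · refine Or.inr (le_antisymm h2 fun w hw => ?_)
    have hw' : w ∈ ((X ⊔ V : Subgroup G) : Set G) := by rw [e]; exact hw.1
    rw [Subgroup.mul_normal] at hw'
    obtain ⟨a, ha, b, hb, rfl⟩ := hw'
    refine X.mul_mem ha (h1 ⟨hb, ?_⟩)
    have := N.mul_mem (N.inv_mem (h2 ha).2) hw.2
    simpa using this

/-- Chief factors inside a group whose elements of order `p` are central. -/
theorem pcentral_bound (hp2 : p ≠ 2) : ∀ (n : ℕ) (G : Type u) [Group G] [Finite G] (P : Subgroup G) [P.Normal],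
    IsPGroup p ↥P → (∀ x ∈ P, x ^ p = 1 → ∀ y ∈ P, x * y = y * x) → Nat.card ↥P ≤ n →
      ∀ U V : Subgroup G, IsChiefFactor U V → U ≤ P → V.relIndex U ≤ Nat.card {x : G // x ∈ P ∧ x ^ p = 1} := by
  intro n
  induction n with
  | zero => intro G _ _ P _ _ _ h; exact absurd h (Nat.not_le.mpr Nat.card_pos)
  | succ n ih =>
    intro G _ _ P hPn hP hc hcard U V hUV hUP
    let W : Subgroup G := {
      carrier := {x | x ∈ P ∧ x ^ p = 1}
      one_mem' := ⟨P.one_mem, one_pow p⟩
      mul_mem' := fun {x y} hx hy => ⟨P.mul_mem hx.1 hy.1, by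
        rw [(show Commute x y from hc x hx.1 hx.2 y hy.1).mul_pow, hx.2, hy.2, one_mul]⟩
      inv_mem' := fun {x} hx => ⟨P.inv_mem hx.1, by rw [inv_pow, hx.2, inv_one]⟩ }
    haveI hWn : W.Normal := ⟨fun x hx g => ⟨hPn.conj_mem x hx.1 g, by rw [conj_pow, hx.2, mul_one, mul_inv_cancel]⟩⟩
    show V.relIndex U ≤ Nat.card ↥W
    by_cases hWV : U ⊓ W ≤ V
    swap
    · obtain ⟨-, h⟩ := inf_factor hUV hWV
      rw [← h]
      refine le_trans (Nat.le_of_dvd Nat.card_pos (Subgroup.relIndex_dvd_card _ _)) (Subgroup.card_le_of_le inf_le_right)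
    obtain ⟨hch', hrel⟩ := map_factor hUV hWV
    set π := QuotientGroup.mk' W with hπ
    haveI : (P.map π).Normal := hPn.map _ (QuotientGroup.mk'_surjective W)
    by_cases hW : W = ⊥
    · -- then `P` is trivial
      exfalso
      refine hUV.1.ne (le_antisymm hUV.1.le ?_)
      intro w hw
      rw [show w = 1 from ?_]
      · exact V.one_mem
      by_contra hw1
      have : Nontrivial ↥P := ⟨⟨w, hUP hw⟩, 1, fun e => hw1 (congrArg Subtype.val e)⟩
      obtain ⟨k, hk, hcP⟩ := hP.nontrivial_iff_card.mp this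
      obtain ⟨⟨z, hz⟩, hzo⟩ := exists_prime_orderOf_dvd_card' (G := ↥P) p (hcP ▸ dvd_pow_self p (by omega))
      rw [Subgroup.orderOf_mk] at hzo
      have hzW : z ∈ W := ⟨hz, hzo ▸ pow_orderOf_eq_one z⟩
      rw [hW, Subgroup.mem_bot] at hzW
      rw [hzW, orderOf_one] at hzo
      exact (Fact.out : p.Prime).one_lt.ne hzo
    have hlt : Nat.card ↥(P.map π) ≤ n := by
      have h1 : Nat.card ↥W * Nat.card ↥(P.map π) = Nat.card ↥P := by
        rw [← Subgroup.relIndex_ker, hπ, QuotientGroup.ker_mk']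
        exact rel_card fun x hx => hx.1
      have h2 : 1 < Nat.card ↥W := (Subgroup.one_lt_card_iff_ne_bot W).mpr hW
      have h3 : 0 < Nat.card ↥(P.map π) := Nat.card_pos
      nlinarith
    have hsq : ∀ x ∈ P, π x ^ p = 1 → x ^ (p * p) = 1 := by
      intro x hx h
      rw [← map_pow] at h
      rw [pow_mul]
      exact ((QuotientGroup.eq_one_iff _).mp h).2
    have hcom : ∀ x ∈ P, ∀ y ∈ P, π x ^ p = 1 → ⁅x, y⁆ ∈ W := fun x hx y hy h =>
      ⟨by rw [commutatorElement_def]; exact P.mul_mem (P.mul_mem (P.mul_mem hx hy) (P.inv_mem hx)) (P.inv_mem hy),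
        comm_pow hp2 hP hc _ x hx y hy le_rfl (hsq x hx h)⟩
    have h1 := ih (G ⧸ W) (P.map π) (hP.map π) (by
      rintro _ ⟨x, hx, rfl⟩ h _ ⟨y, hy, rfl⟩
      refine commutatorElement_eq_one_iff_mul_comm.mp ?_
      rw [← map_commutatorElement]
      exact (QuotientGroup.eq_one_iff _).mpr (hcom x hx y hy h)) hlt _ _ hch' (Subgroup.map_mono hUP)
    rw [hrel] at h1
    refine h1.trans ?_
    choose rep hrep using fun z : {z : G ⧸ W // z ∈ P.map π ∧ z ^ p = 1} => z.2.1
    let f : {z : G ⧸ W // z ∈ P.map π ∧ z ^ p = 1} → ↥W := fun z => ⟨rep z ^ p, P.pow_mem (hrep z).1 p, by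
      rw [← pow_mul]; exact hsq _ (hrep z).1 (by rw [(hrep z).2]; exact z.2.2)⟩
    refine Nat.card_le_card_of_injective f fun z₁ z₂ e => Subtype.ext ?_
    have e' : rep z₁ ^ p = rep z₂ ^ p := congrArg Subtype.val e
    rw [← (hrep z₁).2, ← (hrep z₂).2]
    set x := rep z₁
    set y := rep z₂
    have hx := (hrep z₁).1
    have hy := (hrep z₂).1
    have hpx : π x ^ p = 1 := by rw [(hrep z₁).2]; exact z₁.2.2
    have hxy : π x⁻¹ ^ p = 1 := by rw [map_inv, inv_pow, hpx, inv_one]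
    have hc1 : ⁅y, x⁻¹⁆ ∈ W := by
      rw [← commutatorElement_inv]
      exact W.inv_mem (hcom _ (P.inv_mem hx) _ hy hxy)
    have hcen := fun v hv => hc _ hc1.1 hc1.2 v hv
    have : x⁻¹ * y ∈ W := ⟨P.mul_mem (P.inv_mem hx) hy, by
      rw [ZJ.mul_pow_class_two (u := x⁻¹) (v := y) (c := ⁅y, x⁻¹⁆) (by rw [commutatorElement_def]; group)
        (hcen _ (P.inv_mem hx)) (hcen _ hy) p, ZJ.choose_two_pow_eq_one Fact.out hp2 (Or.inr rfl) hc1.2,
        mul_one, inv_pow, e', inv_mul_cancel]⟩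
    exact QuotientGroup.eq.mpr this

/-- A `p`-group of automorphisms of an elementary abelian group of order `p²` has order at most `p`. -/
theorem aut_bound {A : Type u} [Group A] [Finite A] (hcard : Nat.card A = p ^ 2) (hexp : ∀ a : A, a ^ p = 1)
    {P : Subgroup (MulAut A)} (hP : IsPGroup p ↥P) : Nat.card ↥P ≤ p := by
  haveI := hP.isNilpotent
  letI : MulAction ↥P A := MulAction.compHom A P.subtype
  have hfix : p ∣ Nat.card (MulAction.fixedPoints ↥P A) := by
    have h := hP.card_modEq_card_fixedPoints A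
    rw [hcard] at h
    exact (Nat.ModEq.dvd_iff h.symm dvd_rfl).mpr (dvd_pow_self p two_ne_zero)
  haveI : Finite (MulAction.fixedPoints ↥P A) := inferInstance
  have hone : (1 : A) ∈ MulAction.fixedPoints ↥P A := fun φ => map_one (φ : MulAut A)
  obtain ⟨⟨a, ha⟩, ha1⟩ : ∃ a : MulAction.fixedPoints ↥P A, a ≠ ⟨1, hone⟩ := by
    by_contra h
    push Not at h
    have hle : Nat.card (MulAction.fixedPoints ↥P A) ≤ 1 :=
      Finite.card_le_one_iff_subsingleton.mpr ⟨fun x y => (h x).trans (h y).symm⟩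
    haveI : Nonempty (MulAction.fixedPoints ↥P A) := ⟨⟨1, hone⟩⟩
    have := Nat.le_of_dvd Nat.card_pos hfix
    have := (Fact.out : p.Prime).two_le
    omega
  have ha1' : a ≠ 1 := fun e => ha1 (Subtype.ext e)
  have ho : orderOf a = p := orderOf_eq_prime (hexp a) ha1'
  set N := Subgroup.zpowers a
  have hNc : Nat.card ↥N = p := by rw [Nat.card_zpowers, ho]
  obtain ⟨b, hb⟩ : ∃ b, b ∉ N := by
    by_contra h
    push Not at h
    have h2 : p ^ 2 = p := by
      rw [← hcard, ← hNc]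
      exact (Nat.card_congr ((Equiv.subtypeUnivEquiv h))).symm
    have := (Fact.out : p.Prime).two_le
    nlinarith
  have hNfix : ∀ φ : ↥P, ∀ n ∈ N, (φ : MulAut A) n = n := by
    rintro φ _ ⟨i, rfl⟩
    show (φ : MulAut A) (a ^ i) = a ^ i
    rw [map_zpow, show (φ : MulAut A) a = a from ha φ]
  have hout : ∀ φ : ↥P, (φ : MulAut A) b ∉ N := fun φ h => hb (by
    rwa [(φ : MulAut A).injective (hNfix φ _ h : (φ : MulAut A) _ = _)] at h)
  have htop : N ⊔ Subgroup.zpowers b = ⊤ := by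
    refine Subgroup.eq_top_of_card_eq _ (le_antisymm (Subgroup.card_le_card_group _) ?_)
    obtain ⟨k, hk, hk'⟩ := (Nat.dvd_prime_pow (Fact.out : p.Prime)).mp
      (hcard ▸ Subgroup.card_subgroup_dvd_card (N ⊔ Subgroup.zpowers b))
    have hgt : p < Nat.card ↥(N ⊔ Subgroup.zpowers b) := by
      rw [← hNc]
      refine lt_of_le_of_ne (Subgroup.card_le_of_le le_sup_left) fun e => hb ?_
      rw [Subgroup.eq_of_le_of_card_ge (le_sup_left : N ≤ N ⊔ Subgroup.zpowers b) e.ge]
      exact Subgroup.mem_sup_right (Subgroup.mem_zpowers b)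
    rcases k with _ | _ | _ | k
    · rw [hk', pow_zero] at hgt; exact absurd hgt (by have := (Fact.out : p.Prime).two_le; omega)
    · rw [hk', pow_one] at hgt; exact absurd hgt (lt_irrefl p)
    · rw [hcard, hk']
    · omega
  let f : ↥P → {c : A // c ∉ N} := fun φ => ⟨(φ : MulAut A) b, hout φ⟩
  have hf : Function.Injective f := by
    intro φ ψ e
    have e' : (φ : MulAut A) b = (ψ : MulAut A) b := congrArg Subtype.val e
    have : N ⊔ Subgroup.zpowers b ≤ MonoidHom.eqLocus (φ : MulAut A).toMonoidHom (ψ : MulAut A).toMonoidHom :=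
      sup_le (fun n hn => (hNfix φ n hn).trans (hNfix ψ n hn).symm) (Subgroup.zpowers_le.mpr e')
    rw [htop] at this
    exact Subtype.ext (MulEquiv.ext fun x => this (Subgroup.mem_top x))
  have h1 : Nat.card ↥P ≤ Nat.card {c : A // c ∉ N} := Nat.card_le_card_of_injective f hf
  have h2 : Nat.card {c : A // c ∉ N} < p ^ 2 := by
    rw [← hcard]
    exact Finite.card_subtype_lt (x := (1 : A)) (not_not.mpr N.one_mem)
  obtain ⟨k, hk⟩ := IsPGroup.iff_card.mp hP
  rw [hk] at h1 ⊢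
  have : k < 2 := (Nat.pow_lt_pow_iff_right (Fact.out : p.Prime).one_lt).mp (h1.trans_lt h2)
  exact (Nat.pow_le_pow_right (Fact.out : p.Prime).pos (Nat.le_of_lt_succ this)).trans (pow_one p).le

section small

variable {G : Type u} [Group G] [Finite G]

/-- Conjugation on a normal subgroup of order `1` or `p`. -/
theorem tiny_normal {A : Subgroup G} [A.Normal] (hA : Nat.card ↥A ∣ p) (g h : G) :
    (∀ a ∈ A, g ^ (p - 1) * a = a * g ^ (p - 1)) ∧ ∀ a ∈ A, ⁅g, h⁆ * a = a * ⁅g, h⁆ := by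
  have hker : ∀ x : G, (MulAut.conjNormal : G →* MulAut ↥A) x = 1 → ∀ a ∈ A, x * a = a * x := fun x hx a ha => by
    have := congrArg Subtype.val (DFunLike.congr_fun hx ⟨a, ha⟩)
    rw [MulAut.conjNormal_apply] at this
    exact mul_inv_eq_iff_eq_mul.mp this
  rcases (Nat.dvd_prime (Fact.out : p.Prime)).mp hA with h1 | h1
  · have : A = ⊥ := Subgroup.card_eq_one.mp h1
    constructor <;> (intro a ha; rw [this, Subgroup.mem_bot] at ha; subst ha; simp)
  haveI : IsCyclic ↥A := isCyclic_of_prime_card h1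
  let e := IsCyclic.mulAutMulEquiv ↥A
  have hcomm : ∀ x y : MulAut ↥A, x * y = y * x := fun x y => e.injective (by rw [map_mul, map_mul, mul_comm])
  have hcard : Nat.card (MulAut ↥A) = p - 1 := by
    rw [IsCyclic.card_mulAut, h1, Nat.totient_prime (Fact.out : p.Prime)]
  refine ⟨hker _ ?_, hker _ ?_⟩
  · rw [map_pow, ← hcard, pow_card_eq_one']
  · rw [map_commutatorElement, commutatorElement_eq_one_iff_mul_comm]
    exact hcomm _ _

/-- Elements stabilising a section of order `1` or `p`. -/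
theorem tiny_section {L M : Subgroup G} [L.Normal] [M.Normal] (hML : M ≤ L) (h : M.relIndex L ∣ p) (g k : G) :
    (∀ a ∈ L, g ^ (p - 1) * a * (g ^ (p - 1))⁻¹ * a⁻¹ ∈ M) ∧ ∀ a ∈ L, ⁅g, k⁆ * a * ⁅g, k⁆⁻¹ * a⁻¹ ∈ M := by
  set π := QuotientGroup.mk' M with hπ
  haveI : (L.map π).Normal := Subgroup.Normal.map inferInstance _ (QuotientGroup.mk'_surjective M)
  have hc : Nat.card ↥(L.map π) ∣ p := by
    rwa [← Subgroup.relIndex_ker, hπ, QuotientGroup.ker_mk']
  obtain ⟨h1, h2⟩ := tiny_normal hc (π g) (π k)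
  have conv : ∀ x : G, (∀ a ∈ L.map π, π x * a = a * π x) → ∀ a ∈ L, x * a * x⁻¹ * a⁻¹ ∈ M := fun x hx a ha => by
    refine (QuotientGroup.eq_one_iff (N := M) _).mp ?_
    show π _ = 1
    rw [map_mul, map_mul, map_mul, map_inv, map_inv, hx _ ⟨a, ha, rfl⟩, mul_inv_cancel_right, mul_inv_cancel]
  exact ⟨conv _ (by rw [map_pow]; exact h1), conv _ (by rw [map_commutatorElement]; exact h2)⟩

/-- A group of exponent dividing `p - 1` modulo the kernel acts on an irreducible section by scalars. -/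
theorem rel_eq_of_scalar {U V : Subgroup G} (hUV : IsChiefFactor U V) (hUp : IsPGroup p ↥U)
    (hpow : ∀ g : G, ∀ u ∈ U, g ^ (p - 1) * u * (g ^ (p - 1))⁻¹ * u⁻¹ ∈ V)
    (hcom : ∀ g h : G, ∀ u ∈ U, ⁅g, h⁆ * u * ⁅g, h⁆⁻¹ * u⁻¹ ∈ V) : V.relIndex U = p := by
  obtain ⟨hlt, hU, hV, hch⟩ := hUV
  haveI := hU
  haveI := hV
  set π := QuotientGroup.mk' V with hπ
  have hπs := QuotientGroup.mk'_surjective V
  set A := U.map π with hA
  haveI : A.Normal := hU.map _ hπs
  have hcA : Nat.card ↥A = V.relIndex U := by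
    rw [hA, ← Subgroup.relIndex_ker, hπ, QuotientGroup.ker_mk']
  have hAne : A ≠ ⊥ := fun e => hlt.not_ge (by
    rwa [hA, Subgroup.map_eq_bot_iff, hπ, QuotientGroup.ker_mk'] at e)
  have hmin : ∀ B : Subgroup (G ⧸ V), B.Normal → B ≤ A → B = ⊥ ∨ B = A := by
    intro B hB hBA
    haveI := hB
    rcases hch (B.comap π) inferInstance (fun v hv => by
      show π v ∈ B
      rw [show π v = 1 from (QuotientGroup.eq_one_iff v).mpr hv]; exact B.one_mem)
      (fun x hx => by
        obtain ⟨w, hw, e⟩ := hBA hx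
        have : w⁻¹ * x ∈ V := QuotientGroup.eq.mp e
        rw [show x = w * (w⁻¹ * x) by group]
        exact U.mul_mem hw (hlt.le this)) with e | e
    · left
      rw [← Subgroup.map_comap_eq_self_of_surjective hπs B, e]
      exact (Subgroup.map_eq_bot_iff _).mpr (by rw [QuotientGroup.ker_mk'])
    · right; rw [← Subgroup.map_comap_eq_self_of_surjective hπs B, e]
  have hAp : IsPGroup p ↥A := hUp.map π
  haveI : Nontrivial ↥A := (Subgroup.nontrivial_iff_ne_bot A).mpr hAne
  -- `A` is elementary abelian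
  have hAab : ∀ x ∈ A, ∀ y ∈ A, x * y = y * x := by
    haveI := hAp.isNilpotent
    rcases hmin ⁅A, A⁆ inferInstance (Subgroup.commutator_le_self A) with e | e
    · intro x hx y hy
      refine commutatorElement_eq_one_iff_mul_comm.mp ?_
      rw [← Subgroup.mem_bot, ← e]
      exact Subgroup.commutator_mem_commutator hx hy
    · exfalso
      refine (Group.IsSolvable.commutator_lt_top_of_nontrivial ↥A).ne
        (Subgroup.map_injective A.subtype_injective ?_)
      rw [Subgroup.map_subtype_commutator, e, ← MonoidHom.range_eq_map, Subgroup.range_subtype]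
  let Ω : Subgroup (G ⧸ V) := {
    carrier := {x | x ∈ A ∧ x ^ p = 1}
    one_mem' := ⟨A.one_mem, one_pow p⟩
    mul_mem' := fun {x y} hx hy => ⟨A.mul_mem hx.1 hy.1, by
      rw [(show Commute x y from hAab x hx.1 y hy.1).mul_pow, hx.2, hy.2, one_mul]⟩
    inv_mem' := fun {x} hx => ⟨A.inv_mem hx.1, by rw [inv_pow, hx.2, inv_one]⟩ }
  have hΩn : Ω.Normal := ⟨fun x hx g => ⟨(inferInstance : A.Normal).conj_mem x hx.1 g,
    by rw [conj_pow, hx.2, mul_one, mul_inv_cancel]⟩⟩
  have hexp : ∀ x ∈ A, x ^ p = 1 := by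
    rcases hmin Ω hΩn (fun x hx => hx.1) with e | e
    · exfalso
      obtain ⟨k, hk, hcP⟩ := hAp.nontrivial_iff_card.mp inferInstance
      obtain ⟨⟨z, hz⟩, hzo⟩ := exists_prime_orderOf_dvd_card' (G := ↥A) p (hcP ▸ dvd_pow_self p (by omega))
      rw [Subgroup.orderOf_mk] at hzo
      have hzW : z ∈ Ω := ⟨hz, hzo ▸ pow_orderOf_eq_one z⟩
      rw [e, Subgroup.mem_bot] at hzW
      rw [hzW, orderOf_one] at hzo
      exact (Fact.out : p.Prime).one_lt.ne hzo
    · exact fun x hx => (e.ge hx).2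
  letI : CommGroup ↥A := { (inferInstance : Group ↥A) with mul_comm := fun a b => Subtype.ext (hAab a a.2 b b.2) }
  have hexp' : ∀ x : Additive ↥A, p • x = 0 := fun x => by
    apply Additive.toMul.injective
    rw [toMul_nsmul, toMul_zero]
    exact Subtype.ext (hexp _ (Additive.toMul x).2)
  letI mA : Module (ZMod p) (Additive ↥A) := AddCommGroup.zmodModule (n := p) (G := Additive ↥A) hexp'
  have hscal : ∀ g : G ⧸ V, ∃ c : ℤ, ∀ a ∈ A, g * a * g⁻¹ = a ^ c := by
    intro g
    set φ : MulAut ↥A := MulAut.conjNormal g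
    let σ : Module.End (ZMod p) (Additive ↥A) := AddMonoidHom.toZModLinearMap p (M := Additive ↥A) (M₁ := Additive ↥A) (MonoidHom.toAdditive φ.toMonoidHom)
    obtain ⟨g₀, rfl⟩ := hπs g
    have hn : ∀ n : ℕ, ∀ v : Additive ↥A, Additive.toMul ((σ ^ n) v) = (φ ^ n) (Additive.toMul v) := by
      intro n
      induction n with
      | zero => intro v; rfl
      | succ n ih =>
        intro v
        rw [pow_succ', pow_succ', Module.End.mul_apply, MulAut.mul_apply, ← ih v]
        rfl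
    have hσ : σ ^ (p - 1) = 1 := by
      refine LinearMap.ext fun v => Additive.toMul.injective ?_
      rw [hn, ← map_pow]
      apply Subtype.ext
      rw [MulAut.conjNormal_apply, ← map_pow]
      obtain ⟨w, hw, e⟩ := (Additive.toMul v).2
      show π (g₀ ^ (p - 1)) * _ * (π (g₀ ^ (p - 1)))⁻¹ = ((Additive.toMul v : ↥A) : G ⧸ V)
      rw [← e, ← map_inv, ← map_mul, ← map_mul]
      exact (QuotientGroup.eq_iff_div_mem).mpr (by rw [div_eq_mul_inv]; exact hpow g₀ w hw)
    haveI : Nontrivial (Additive ↥A) := Additive.toMul.nontrivial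
    have hdvd : minpoly (ZMod p) σ ∣ (Polynomial.X ^ (p - 1) - 1 : Polynomial (ZMod p)) :=
      minpoly.dvd _ _ (by simp [hσ])
    have hint : IsIntegral (ZMod p) σ := Algebra.IsIntegral.isIntegral σ
    obtain ⟨r, hr⟩ : ∃ r : ZMod p, (minpoly (ZMod p) σ).IsRoot r := by
      have hsp : Polynomial.Splits (Polynomial.X ^ (p - 1) - 1 : Polynomial (ZMod p)) := by
        have h1 : (Polynomial.X ^ p - Polynomial.X : Polynomial (ZMod p)).Splits := by
          have := FiniteField.splits_X_pow_card_sub_X (K := ZMod p) p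
          simpa [ZMod.card] using this
        refine h1.of_dvd (FiniteField.X_pow_card_sub_X_ne_zero _ (Fact.out : p.Prime).one_lt) ⟨Polynomial.X, ?_⟩
        rw [sub_mul, one_mul, ← pow_succ, Nat.sub_add_cancel (Fact.out : p.Prime).one_le]
      have hne : (Polynomial.X ^ (p - 1) - 1 : Polynomial (ZMod p)) ≠ 0 := by
        rw [← Polynomial.C_1]
        exact Polynomial.X_pow_sub_C_ne_zero (by have := (Fact.out : p.Prime).two_le; omega) _
      exact (hsp.of_dvd hne hdvd).exists_eval_eq_zero (minpoly.degree_pos hint).ne'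
    obtain ⟨v, hv, hv0⟩ := (Module.End.hasEigenvalue_iff_isRoot.mpr hr).exists_hasEigenvector
    rw [Module.End.mem_eigenspace_iff] at hv
    set c : ℤ := (r.val : ℤ)
    let E : Subgroup (G ⧸ V) := {
      carrier := {x | x ∈ A ∧ π g₀ * x * (π g₀)⁻¹ = x ^ c}
      one_mem' := ⟨A.one_mem, by simp⟩
      mul_mem' := fun {x y} hx hy => ⟨A.mul_mem hx.1 hy.1, by
        rw [← conj_mul, hx.2, hy.2, (show Commute x y from hAab x hx.1 y hy.1).mul_zpow]⟩
      inv_mem' := fun {x} hx => ⟨A.inv_mem hx.1, by rw [← conj_inv, hx.2, inv_zpow]⟩ }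
    have hEn : E.Normal := ⟨fun x hx k => by
      obtain ⟨k₀, rfl⟩ := hπs k
      refine ⟨(inferInstance : A.Normal).conj_mem x hx.1 _, ?_⟩
      have hk : ∀ z ∈ A, π ⁅g₀, k₀⁆ * z * (π ⁅g₀, k₀⁆)⁻¹ = z := by
        rintro _ ⟨w, hw, rfl⟩
        rw [← map_inv, ← map_mul, ← map_mul]
        exact (QuotientGroup.eq_iff_div_mem).mpr (by rw [div_eq_mul_inv]; exact hcom g₀ k₀ w hw)
      rw [conj_zpow, ← hx.2, show π g₀ * (π k₀ * x * (π k₀)⁻¹) * (π g₀)⁻¹ =
        π ⁅g₀, k₀⁆ * (π k₀ * (π g₀ * x * (π g₀)⁻¹) * (π k₀)⁻¹) * (π ⁅g₀, k₀⁆)⁻¹ by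
          rw [map_commutatorElement, commutatorElement_def]; group]
      exact hk _ ((inferInstance : A.Normal).conj_mem _ ((inferInstance : A.Normal).conj_mem x hx.1 _) _)⟩
    refine ⟨c, fun a ha => ((hmin E hEn fun x hx => hx.1).resolve_left (fun e => hv0 ?_) ▸ ha : a ∈ E).2⟩
    have hr' : r • v = (r.val : ℕ) • v := by
      conv_lhs => rw [← ZMod.natCast_zmod_val r]
      exact Nat.cast_smul_eq_nsmul _ _ _
    have hvE : ((Additive.toMul v : ↥A) : G ⧸ V) ∈ E := by
      refine ⟨(Additive.toMul v).2, ?_⟩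
      have h1 : φ (Additive.toMul v) = (Additive.toMul v) ^ r.val :=
        (congrArg Additive.toMul (hv.trans hr') : _)
      have h2 := congrArg Subtype.val h1
      rw [MulAut.conjNormal_apply, Subgroup.coe_pow] at h2
      rw [zpow_natCast]
      exact h2
    rw [e, Subgroup.mem_bot] at hvE
    exact Additive.toMul.injective (Subtype.ext hvE)
  obtain ⟨k, hk, hcP⟩ := hAp.nontrivial_iff_card.mp inferInstance
  obtain ⟨⟨z, hz⟩, hzo⟩ := exists_prime_orderOf_dvd_card' (G := ↥A) p (hcP ▸ dvd_pow_self p (by omega))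
  rw [Subgroup.orderOf_mk] at hzo
  have hZn : (Subgroup.zpowers z).Normal := ⟨fun x hx g => by
    obtain ⟨i, rfl⟩ := hx
    obtain ⟨c, hc⟩ := hscal g
    show g * z ^ i * g⁻¹ ∈ _
    rw [hc _ (A.zpow_mem hz i), ← zpow_mul]
    exact ⟨_, rfl⟩⟩
  rcases hmin _ hZn (Subgroup.zpowers_le.mpr hz) with e | e
  · rw [Subgroup.zpowers_eq_bot] at e
    rw [e, orderOf_one] at hzo
    exact absurd hzo (Fact.out : p.Prime).one_lt.ne
  · rw [← hcA, ← e, Nat.card_zpowers, hzo]

/-- All three layers of order at most `p`. -/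
theorem series_case (hhh : Subgroup.centralizer (pCore p G : Set G) ≤ pCore p G) {A1 A2 C : Subgroup G}
    [A1.Normal] [A2.Normal] [C.Normal] (hC : C ≤ pCore p G) (h12 : A1 ≤ A2) (h2C : A2 ≤ C)
    (hl : Nat.card ↥A1 ∣ p) (hm : A1.relIndex A2 ∣ p) (hu : A2.relIndex C ∣ p)
    (hF : ∀ g : G, (orderOf g).Coprime p → (∀ c ∈ C, g * c = c * g) → g = 1) :
    (∀ U V : Subgroup G, IsChiefFactor U V → U ≤ pCore p G → V.relIndex U = p) ∧
      ¬ p ∣ Nat.card (G ⧸ pCore p G) := by
  set Q := pCore p G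
  let K0 : Subgroup G := {
    carrier := {g | (∀ a ∈ A1, g * a * g⁻¹ * a⁻¹ ∈ (⊥ : Subgroup G)) ∧ (∀ a ∈ A2, g * a * g⁻¹ * a⁻¹ ∈ A1) ∧
      ∀ a ∈ C, g * a * g⁻¹ * a⁻¹ ∈ A2}
    one_mem' := ⟨fun a _ => by simp, fun a _ => by simp, fun a _ => by simp⟩
    mul_mem' := fun {x y} hx hy => by
      have key : ∀ (L M : Subgroup G), L.Normal → M.Normal → (∀ a ∈ L, x * a * x⁻¹ * a⁻¹ ∈ M) →
          (∀ a ∈ L, y * a * y⁻¹ * a⁻¹ ∈ M) → ∀ a ∈ L, x * y * a * (x * y)⁻¹ * a⁻¹ ∈ M := fun L M hL _ h1 h2 a ha => by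
        rw [show x * y * a * (x * y)⁻¹ * a⁻¹ = (x * (y * a * y⁻¹) * x⁻¹ * (y * a * y⁻¹)⁻¹) * (y * a * y⁻¹ * a⁻¹) by group]
        exact M.mul_mem (h1 _ (hL.conj_mem a ha y)) (h2 a ha)
      exact ⟨key A1 ⊥ inferInstance inferInstance hx.1 hy.1, key A2 A1 inferInstance inferInstance hx.2.1 hy.2.1,
        key C A2 inferInstance inferInstance hx.2.2 hy.2.2⟩
    inv_mem' := fun {x} hx => by
      have key : ∀ (L M : Subgroup G), L.Normal → (∀ a ∈ L, x * a * x⁻¹ * a⁻¹ ∈ M) →
          ∀ a ∈ L, x⁻¹ * a * x⁻¹⁻¹ * a⁻¹ ∈ M := fun L M hL h1 a ha => by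
        have := M.inv_mem (h1 _ (hL.conj_mem a ha x⁻¹))
        simpa [mul_assoc] using this
      exact ⟨key A1 ⊥ inferInstance hx.1, key A2 A1 inferInstance hx.2.1, key C A2 inferInstance hx.2.2⟩ }
  haveI hK0 : K0.Normal := ⟨fun k hk g => by
    have key : ∀ (L M : Subgroup G), L.Normal → M.Normal → (∀ a ∈ L, k * a * k⁻¹ * a⁻¹ ∈ M) →
        ∀ a ∈ L, g * k * g⁻¹ * a * (g * k * g⁻¹)⁻¹ * a⁻¹ ∈ M := fun L M hL hM h1 a ha => by
      have := hM.conj_mem _ (h1 _ (hL.conj_mem a ha g⁻¹)) g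
      simpa [mul_assoc] using this
    exact ⟨key A1 ⊥ inferInstance inferInstance hk.1, key A2 A1 inferInstance inferInstance hk.2.1,
      key C A2 inferInstance inferInstance hk.2.2⟩⟩
  have hKQ : K0 ≤ Q := by
    refine le_pCore fun k => ?_
    obtain ⟨j, hj⟩ := PResidual.exists_pow_coprime (p := p) (k : G)
    refine ⟨j, Subtype.ext ?_⟩
    show (k : G) ^ p ^ j = 1
    have hk := K0.pow_mem k.2 (p ^ j)
    set x := (k : G) ^ p ^ j
    refine hF x hj ?_
    have hCp : IsPGroup p ↥C := (isPGroup_pCore p).to_le hC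
    let S : ℕ → Subgroup G := fun i => match i with | 0 => ⊥ | 1 => A1 | 2 => A2 | _ => C
    refine fun c hc => Stabilizer.centralizes_of_series hj S 3 ?_ ?_ ?_ 3 le_rfl c hc
    · intro i hi
      match i, hi with
      | 0, _ => exact IsPGroup.of_bot
      | 1, _ => exact hCp.to_le (h12.trans h2C)
      | 2, _ => exact hCp.to_le h2C
    · intro r hr
      rw [Subgroup.mem_bot.mp hr]; simp
    · intro i hi r hr
      match i, hi with
      | 0, _ => exact hk.1 r hr
      | 1, _ => exact hk.2.1 r hr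
      | 2, _ => exact hk.2.2 r hr
  have hg : ∀ g k : G, g ^ (p - 1) ∈ Q ∧ ⁅g, k⁆ ∈ Q := fun g k => by
    obtain ⟨a1, b1⟩ := tiny_section (p := p) (M := ⊥) (L := A1) bot_le ((Subgroup.relIndex_bot_left A1).symm ▸ hl) g k
    obtain ⟨a2, b2⟩ := tiny_section h12 hm g k
    obtain ⟨a3, b3⟩ := tiny_section h2C hu g k
    exact ⟨hKQ ⟨a1, a2, a3⟩, hKQ ⟨b1, b2, b3⟩⟩
  refine ⟨fun U V hUV hU => rel_eq_of_scalar hUV ((isPGroup_pCore p).to_le hU) ?_ ?_, ?_⟩
  rotate_left 2
  · intro hd
    obtain ⟨z, hz⟩ := exists_prime_orderOf_dvd_card' (G := G ⧸ Q) p hd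
    obtain ⟨g, rfl⟩ := QuotientGroup.mk'_surjective Q z
    have h1 : orderOf (QuotientGroup.mk' Q g) ∣ p - 1 := orderOf_dvd_of_pow_eq_one (by
      rw [← map_pow]; exact (QuotientGroup.eq_one_iff _).mpr (hg g g).1)
    rw [hz] at h1
    have := (Fact.out : p.Prime).two_le
    have := Nat.le_of_dvd (by omega) h1
    omega
  all_goals
    haveI := hUV.2.2.1
    have hst := KInf.commutator_le_of_chief (isPGroup_pCore p) hUV hU
    have key : ∀ q ∈ Q, ∀ u ∈ U, q * u * q⁻¹ * u⁻¹ ∈ V := fun q hq u hu => by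
      rw [← commutatorElement_def, ← commutatorElement_inv]
      exact V.inv_mem (hst (Subgroup.commutator_mem_commutator hu hq))
  · exact fun g => key _ (hg g g).1
  · exact fun g k => key _ (hg g k).2

/-- The core statement for `O_{p'}(G) = 1`. -/
theorem main (hp2 : p ≠ 2) (hs : IsPSolvable p G) (hr : PRankLE p 2 G) (hO : pPrimeCore p G = ⊥)
    {U V : Subgroup G} (hUV : IsChiefFactor U V) {n : ℕ} (hn : V.relIndex U = p ^ n) : n ≤ 2 := by
  have hhh := Blocks.hall_higman hs hO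
  set Q := pCore p G with hQ
  have hp := (Fact.out : p.Prime)
  have above : U ⊓ Q ≤ V → ∀ m : ℕ, (∀ j, p ^ j ∣ Nat.card (G ⧸ Q) → j ≤ m) → n ≤ m := by
    intro h m hm
    obtain ⟨-, hrel⟩ := map_factor hUV h
    refine hm n ?_
    rw [← hn, ← hrel]
    exact (Subgroup.relIndex_dvd_card _ _).trans (Subgroup.card_subgroup_dvd_card _)
  have inside : ∀ b : ℕ, (∀ U' V' : Subgroup G, IsChiefFactor U' V' → U' ≤ Q → V'.relIndex U' ≤ p ^ b) →
      ¬ U ⊓ Q ≤ V → n ≤ b := by
    intro b hb h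
    obtain ⟨hch, hrel⟩ := inf_factor hUV h
    have := hb _ _ hch inf_le_right
    rw [hrel, hn] at this
    exact (Nat.pow_le_pow_iff_right hp.one_lt).mp this
  -- the critical subgroup
  have hQp : IsPGroup p ↥Q := isPGroup_pCore p
  obtain ⟨C₀, hC₀, hcom, hpow, hcen⟩ := Small.exists_critical hQp
  haveI := hC₀
  set C₁ := C₀.map Q.subtype with hC₁
  haveI hC₁n : C₁.Normal := ConjAct.normal_of_characteristic_of_normal
  have hcom₁ : ∀ b ∈ C₁, ∀ c ∈ C₁, ∀ d ∈ C₁, ⁅b, c⁆ * d = d * ⁅b, c⁆ := by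
    rintro _ ⟨b, hb, rfl⟩ _ ⟨c, hc, rfl⟩ _ ⟨d, hd, rfl⟩
    rw [← map_commutatorElement, ← map_mul, ← map_mul, Subgroup.mem_centralizer_iff.mp (hcom b c hc).2 d hd]
  have hcompow : ∀ b ∈ C₁, ∀ c ∈ C₁, ⁅b, c⁆ ^ p = 1 := by
    intro b hb c hc
    have hbp : ⁅b ^ p, c⁆ = 1 := by
      obtain ⟨b', hb', rfl⟩ := hb
      obtain ⟨c', hc', rfl⟩ := hc
      rw [← map_pow, ← map_commutatorElement, commutatorElement_eq_one_iff_mul_comm.mpr
        (Subgroup.mem_centralizer_iff.mp (hpow b' hb').2 c' hc').symm, map_one]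
    have : ∀ k : ℕ, ⁅b ^ k, c⁆ = ⁅b, c⁆ ^ k := by
      intro k
      induction k with
      | zero => simp
      | succ k ih =>
        rw [show ⁅b ^ (k + 1), c⁆ = b ^ k * ⁅b, c⁆ * (b ^ k)⁻¹ * ⁅b ^ k, c⁆ by
          rw [pow_succ]; simp only [commutatorElement_def]; group, ih,
          ← hcom₁ b hb c hc _ (C₁.pow_mem hb k), mul_inv_cancel_right, pow_succ']
    rw [← this, hbp]
  let C : Subgroup G := {
    carrier := {x | x ∈ C₁ ∧ x ^ p = 1}
    one_mem' := ⟨C₁.one_mem, one_pow p⟩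
    mul_mem' := fun {x y} hx hy => ⟨C₁.mul_mem hx.1 hy.1, by
      rw [ZJ.mul_pow_class_two (u := x) (v := y) (c := ⁅y, x⁆) (by rw [commutatorElement_def]; group)
        (hcom₁ y hy.1 x hx.1 x hx.1) (hcom₁ y hy.1 x hx.1 y hy.1) p,
        ZJ.choose_two_pow_eq_one hp hp2 (Or.inr rfl) (hcompow y hy.1 x hx.1), hx.2, hy.2, one_mul, one_mul]⟩
    inv_mem' := fun {x} hx => ⟨C₁.inv_mem hx.1, by rw [inv_pow, hx.2, inv_one]⟩ }
  haveI hCn : C.Normal := ⟨fun x hx g => ⟨hC₁n.conj_mem x hx.1 g, by rw [conj_pow, hx.2, mul_one, mul_inv_cancel]⟩⟩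
  have hCQ : C ≤ Q := fun x hx => Subgroup.map_subtype_le C₀ hx.1
  have hCp : IsPGroup p ↥C := hQp.to_le hCQ
  have hexpC : ∀ x ∈ C, x ^ p = 1 := fun x hx => hx.2
  have hF : ∀ g : G, (orderOf g).Coprime p → (∀ c ∈ C, g * c = c * g) → g = 1 := by
    intro g hg h
    have h1 : (MulAut.conjNormal g : MulAut ↥Q) = 1 := by
      refine Small.eq_one_of_fixes_critical hQp hcom hpow hcen
        (Nat.Coprime.coprime_dvd_left (orderOf_map_dvd _ g) hg) fun c hc hc1 => ?_
      rw [Small.smallExp, if_neg hp2] at hc1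
      apply Subtype.ext
      rw [MulAut.conjNormal_apply, h c ⟨⟨c, hc, rfl⟩, by simpa using congrArg Subtype.val hc1⟩, mul_inv_cancel_right]
    refine CharP.eq_one_of_centralizes_pCore hhh hg fun r hr => ?_
    have := congrArg Subtype.val (DFunLike.congr_fun h1 ⟨r, hr⟩)
    rw [MulAut.conjNormal_apply] at this
    exact mul_inv_eq_iff_eq_mul.mp this
  have hrank : ∀ A : Subgroup G, (∀ x ∈ A, ∀ y ∈ A, x * y = y * x) → (∀ x ∈ A, x ^ p = 1) → Nat.card ↥A ≤ p ^ 2 :=
    fun A h1 h2 => hr A ⟨⟨fun a b => Subtype.ext (h1 a a.2 b b.2)⟩⟩ h2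
  have hext : ∀ A : Subgroup G, (∀ x ∈ A, ∀ y ∈ A, x * y = y * x) → (∀ x ∈ A, x ^ p = 1) → ∀ x : G, x ^ p = 1 →
      (∀ a ∈ A, x * a = a * x) → x ∉ A → Nat.card ↥A * p ≤ p ^ 2 := by
    intro A hab he x hx hxa hxA
    haveI hA' : A.Normal ∨ True := Or.inr trivial
    let B : Subgroup G := A ⊔ Subgroup.zpowers x
    have hN : Subgroup.zpowers x ≤ Subgroup.normalizer (A : Set G) := by
      refine Subgroup.zpowers_le.mpr (Subgroup.mem_normalizer_iff.mpr fun a => ⟨fun ha => ?_, fun ha => ?_⟩)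
      · rw [hxa a ha, mul_inv_cancel_right]; exact ha
      · have := hxa _ ha
        have h' : x * a * x⁻¹ = a := by
          have := congrArg (fun t => x⁻¹ * t) this
          simpa [mul_assoc] using this
        rwa [h'] at ha
    have hBmem : ∀ b ∈ B, ∃ a ∈ A, ∃ i : ℤ, b = a * x ^ i := by
      intro b hb
      rw [← SetLike.mem_coe, Subgroup.coe_mul_of_right_le_normalizer_left A _ hN] at hb
      obtain ⟨a, ha, _, ⟨i, rfl⟩, rfl⟩ := hb
      exact ⟨a, ha, i, rfl⟩
    have hBc : ∀ u ∈ B, ∀ v ∈ B, u * v = v * u := by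
      intro u hu v hv
      obtain ⟨a, ha, i, rfl⟩ := hBmem u hu
      obtain ⟨b, hb, j, rfl⟩ := hBmem v hv
      have c1 : Commute a b := hab a ha b hb
      have c2 : Commute x a := hxa a ha
      have c3 : Commute x b := hxa b hb
      exact ((c1.mul_right (c2.symm.zpow_right j)).mul_left ((c3.zpow_left i).mul_right ((Commute.refl x).zpow_zpow i j))).eq
    have hBe : ∀ u ∈ B, u ^ p = 1 := by
      intro u hu
      obtain ⟨a, ha, i, rfl⟩ := hBmem u hu
      rw [((show Commute x a from hxa a ha).symm.zpow_right i).mul_pow, he a ha, one_mul, ← zpow_natCast (x ^ i),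
        ← zpow_mul, mul_comm, zpow_mul, zpow_natCast, hx, one_zpow]
    refine le_trans ?_ (hrank B hBc hBe)
    have hBp : IsPGroup p ↥B := fun u => ⟨1, Subtype.ext (by simpa using hBe u u.2)⟩
    obtain ⟨k, hk⟩ := IsPGroup.iff_card.mp hBp
    obtain ⟨j, hj⟩ := IsPGroup.iff_card.mp (hBp.to_le (le_sup_left : A ≤ B))
    have hlt : Nat.card ↥A < Nat.card ↥B := lt_of_le_of_ne (Subgroup.card_le_of_le le_sup_left) fun e => hxA (by
      rw [Subgroup.eq_of_le_of_card_ge (le_sup_left : A ≤ B) e.ge]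
      exact Subgroup.mem_sup_right (Subgroup.mem_zpowers x))
    rw [hk, hj] at hlt ⊢
    rw [← pow_succ]
    exact Nat.pow_le_pow_right hp.pos ((Nat.pow_lt_pow_iff_right hp.one_lt).mp hlt)
  set Z := C ⊓ Subgroup.centralizer (C : Set G) with hZ
  haveI hZn : Z.Normal := inferInstance
  have hZab : ∀ x ∈ Z, ∀ y ∈ Z, x * y = y * x := fun x hx y hy => (Subgroup.mem_centralizer_iff.mp hx.2 y hy.1).symm
  have hdvd_of_le : ∀ k : ℕ, k ∣ p ^ 2 → k ≤ p → k ∣ p := by
    intro k hk hle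
    obtain ⟨i, hi, rfl⟩ := (Nat.dvd_prime_pow hp).mp hk
    have : i ≤ 1 := (Nat.pow_le_pow_iff_right hp.one_lt).mp (by rwa [pow_one])
    conv_rhs => rw [← pow_one p]
    exact pow_dvd_pow p this
  -- `C / Z0` of order at most `p ^ 2` over `Z0` of order at most `p`
  obtain ⟨Z0, hZ0n, hZ0C, hZ0p, htop, habel⟩ : ∃ Z0 : Subgroup G, Z0.Normal ∧ Z0 ≤ C ∧ Nat.card ↥Z0 ∣ p ∧
      Z0.relIndex C ∣ p ^ 2 ∧ (Z0 = ⊥ ∧ Z = C ∨ Z0 = Z ∧ ∃ a ∈ C, ∃ b ∈ C, ⁅a, b⁆ ≠ 1 ∧
        C ≤ Z ⊔ Subgroup.zpowers a ⊔ Subgroup.zpowers b ∧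
        ∀ x : G, x ^ p = 1 → (∀ c ∈ C, x * c = c * x) → x ∈ Z) := by
    by_cases hZC : Z = C
    · refine ⟨⊥, inferInstance, bot_le, by rw [Subgroup.card_bot]; exact one_dvd p, ?_, Or.inl ⟨rfl, hZC⟩⟩
      rw [Subgroup.relIndex_bot_left]
      obtain ⟨k, hk⟩ := IsPGroup.iff_card.mp hCp
      rw [hk]
      refine pow_dvd_pow p ((Nat.pow_le_pow_iff_right hp.one_lt).mp ?_)
      rw [← hk]
      exact hrank C (fun x hx y hy => hZab x (hZC.ge hx) y (hZC.ge hy)) hexpC
    obtain ⟨a, ha, haZ⟩ := SetLike.exists_of_lt (lt_of_le_of_ne inf_le_left hZC)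
    obtain ⟨b, hb, hab⟩ : ∃ b ∈ C, a * b ≠ b * a := by
      by_contra h
      push Not at h
      exact haZ ⟨ha, Subgroup.mem_centralizer_iff.mpr fun c hc => (h c hc).symm⟩
    have hZcard : Nat.card ↥Z ≤ p := by
      have := hext Z hZab (fun x hx => hexpC x hx.1) a (hexpC a ha)
        (fun z hz => Subgroup.mem_centralizer_iff.mp hz.2 a ha) haZ
      rw [sq] at this
      exact Nat.le_of_mul_le_mul_right this hp.pos
    have hZd : Nat.card ↥Z ∣ p := by
      obtain ⟨i, hi⟩ := IsPGroup.iff_card.mp (hCp.to_le (inf_le_left : Z ≤ C))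
      rw [hi] at hZcard ⊢
      exact hdvd_of_le _ (pow_dvd_pow p ((Nat.pow_le_pow_iff_right hp.one_lt).mp
        (hZcard.trans (by nlinarith [hp.one_lt])))) hZcard
    have hcz : ∀ u ∈ C, ∀ v ∈ C, ⁅u, v⁆ ∈ Z := fun u hu v hv => ⟨by
      rw [commutatorElement_def]; exact C.mul_mem (C.mul_mem (C.mul_mem hu hv) (C.inv_mem hu)) (C.inv_mem hv),
      Subgroup.mem_centralizer_iff.mpr fun d hd => (hcom₁ u hu.1 v hv.1 d hd.1).symm⟩
    have hZc : Nat.card ↥Z = p := by
      refine ((Nat.dvd_prime hp).mp hZd).resolve_left fun h1 => hab ?_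
      have := hcz a ha b hb
      rw [Subgroup.card_eq_one.mp h1, Subgroup.mem_bot] at this
      exact commutatorElement_eq_one_iff_mul_comm.mp this
    -- the centralizer of `a` and `b`
    have hcentab : ∀ x : G, x ^ p = 1 → (∀ z ∈ Z, x * z = z * x) → x * a = a * x →
        x ∈ Z ⊔ Subgroup.zpowers a := by
      intro x hx hxz hxa
      by_contra hxn
      have hzN : Subgroup.zpowers a ≤ Subgroup.normalizer (Z : Set G) := le_top.trans (Subgroup.normalizer_eq_top Z).ge
      have hM : ∀ m ∈ Z ⊔ Subgroup.zpowers a, ∃ z ∈ Z, ∃ i : ℤ, m = z * a ^ i := by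
        intro m hm
        rw [← SetLike.mem_coe, Subgroup.coe_mul_of_right_le_normalizer_left Z _ hzN] at hm
        obtain ⟨z, hz, _, ⟨i, rfl⟩, rfl⟩ := hm
        exact ⟨z, hz, i, rfl⟩
      have hza : ∀ z ∈ Z, Commute z a := fun z hz => (Subgroup.mem_centralizer_iff.mp hz.2 a ha).symm
      have hMc : ∀ u ∈ Z ⊔ Subgroup.zpowers a, ∀ v ∈ Z ⊔ Subgroup.zpowers a, u * v = v * u := by
        intro u hu v hv
        obtain ⟨z, hz, i, rfl⟩ := hM u hu
        obtain ⟨w, hw, j, rfl⟩ := hM v hv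
        exact (((show Commute z w from hZab z hz w hw).mul_right ((hza z hz).zpow_right j)).mul_left
          (((hza w hw).zpow_right i).symm.mul_right ((Commute.refl a).zpow_zpow i j))).eq
      have hle : Z ⊔ Subgroup.zpowers a ≤ C := sup_le inf_le_left (Subgroup.zpowers_le.mpr ha)
      have h1 := hext _ hMc (fun m hm => hexpC m (hle hm)) x hx (fun m hm => by
        obtain ⟨z, hz, i, rfl⟩ := hM m hm
        exact ((show Commute x z from hxz z hz).mul_right ((show Commute x a from hxa).zpow_right i)).eq) hxn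
      have h2 : p < Nat.card ↥(Z ⊔ Subgroup.zpowers a) := by
        rw [← hZc]
        refine lt_of_le_of_ne (Subgroup.card_le_of_le le_sup_left) fun e => haZ ?_
        show a ∈ Z; rw [Subgroup.eq_of_le_of_card_ge (le_sup_left : Z ≤ Z ⊔ Subgroup.zpowers a) e.ge]
        exact Subgroup.mem_sup_right (Subgroup.mem_zpowers a)
      rw [sq] at h1
      exact absurd (Nat.le_of_mul_le_mul_right h1 hp.pos) (not_le.mpr h2)
    have hcentC : ∀ x : G, x ^ p = 1 → (∀ c ∈ C, x * c = c * x) → x ∈ Z := by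
      intro x hx hxc
      have hm := hcentab x hx (fun z hz => hxc z hz.1) (hxc a ha)
      rw [← SetLike.mem_coe, Subgroup.normal_mul] at hm
      obtain ⟨z, hz, _, ⟨i, rfl⟩, rfl⟩ := hm
      refine ⟨C.mul_mem hz.1 (C.zpow_mem ha i), Subgroup.mem_centralizer_iff.mpr fun c hc => (hxc c hc).symm⟩
    -- the map `c ↦ ([c, a], [c, b])`
    let β : ↥C → ↥Z × ↥Z := fun c => (⟨⁅(c : G), a⁆, hcz _ c.2 a ha⟩, ⟨⁅(c : G), b⁆, hcz _ c.2 b hb⟩)
    have hmul : ∀ d ∈ C, ∀ u ∈ C, ∀ v ∈ C, ⁅u * v, d⁆ = ⁅u, d⁆ * ⁅v, d⁆ := fun d hd u hu v hv => by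
      rw [show ⁅u * v, d⁆ = u * ⁅v, d⁆ * u⁻¹ * ⁅u, d⁆ by simp only [commutatorElement_def]; group,
        ← hcom₁ v hv.1 d hd.1 u hu.1, mul_inv_cancel_right]
      exact hZab _ (hcz v hv d hd) _ (hcz u hu d hd)
    have hab' : a * b * a⁻¹ * b⁻¹ ≠ 1 := fun e => hab (commutatorElement_eq_one_iff_mul_comm.mp
      ((commutatorElement_def a b).trans e))
    let T : Subgroup G := Z ⊔ Subgroup.zpowers a ⊔ Subgroup.zpowers b
    have hker : ∀ c : ↥C, (c : G) * a = a * c → (c : G) * b = b * c → (c : G) ∈ Z := by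
      intro c hca hcb
      have hm := hcentab c (hexpC c c.2) (fun z hz => Subgroup.mem_centralizer_iff.mp hz.2 c c.2) hca
      rw [← SetLike.mem_coe, Subgroup.normal_mul] at hm
      obtain ⟨z, hz, _, ⟨i, rfl⟩, he⟩ := hm
      dsimp only at he
      have hib : Commute (a ^ i) b := by
        have hzb : z * b = b * z := (Subgroup.mem_centralizer_iff.mp hz.2 b hb).symm
        have h5 : z * (a ^ i * b) = z * (b * a ^ i) := by
          rw [← mul_assoc, he, hcb, ← he, ← mul_assoc, ← hzb, mul_assoc]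
        exact mul_left_cancel h5
      rw [← he]
      refine Z.mul_mem hz ?_
      by_contra hai
      apply hab
      have hoa : orderOf a = p := orderOf_eq_prime (hexpC a ha) fun e => haZ (by rw [e]; exact Z.one_mem)
      have hco : Nat.Coprime i.natAbs (orderOf a) := by
        rw [hoa]
        refine (hp.coprime_iff_not_dvd.mpr fun hd => hai ?_).symm
        obtain ⟨j, hj⟩ := (Int.natCast_dvd.mpr hd : (p : ℤ) ∣ i)
        rw [hj, zpow_mul, zpow_natCast, hexpC a ha, one_zpow]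
        exact Z.one_mem
      obtain ⟨j, hj⟩ := exists_pow_eq_self_of_coprime hco
      rw [← hj]
      have hnat : Commute (a ^ i.natAbs) b := by
        rcases Int.natAbs_eq i with e | e
        · rw [e, zpow_natCast] at hib; exact hib
        · rw [e, zpow_neg, zpow_natCast] at hib; exact Commute.inv_left_iff.mp hib
      exact (hnat.pow_left j).eq
    haveI hZsub : (Z.subgroupOf C).Normal := Subgroup.normal_subgroupOf_of_le_normalizer
      (le_top.trans (Subgroup.normalizer_eq_top Z).ge)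
    let β' : ↥C ⧸ Z.subgroupOf C → ↥Z × ↥Z := Quotient.lift β (by
      intro c d hcd
      have hcd' : ((c⁻¹ * d : ↥C) : G) ∈ Z := (QuotientGroup.leftRel_apply (s := Z.subgroupOf C)).mp hcd
      have key : ∀ e ∈ C, ⁅(d : G), e⁆ = ⁅(c : G), e⁆ := fun e he => by
        rw [show (d : G) = c * ((c⁻¹ * d : ↥C) : G) by simp, hmul e he _ c.2 _ hcd'.1,
          commutatorElement_eq_one_iff_mul_comm.mpr (Subgroup.mem_centralizer_iff.mp hcd'.2 e he).symm, mul_one]
      exact Prod.ext (Subtype.ext (key a ha).symm) (Subtype.ext (key b hb).symm))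
    have hβinj : Function.Injective β' := by
      intro x y
      induction x using QuotientGroup.induction_on with
      | _ c =>
        induction y using QuotientGroup.induction_on with
        | _ d =>
          intro e
          refine QuotientGroup.eq.mpr ?_
          show ((c⁻¹ * d : ↥C) : G) ∈ Z
          have e1 : ⁅(c : G), a⁆ = ⁅(d : G), a⁆ := congrArg (fun t : ↥Z × ↥Z => (t.1 : G)) e
          have e2 : ⁅(c : G), b⁆ = ⁅(d : G), b⁆ := congrArg (fun t : ↥Z × ↥Z => (t.2 : G)) e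
          have key : ∀ v ∈ C, ⁅(c : G), v⁆ = ⁅(d : G), v⁆ → ((c⁻¹ * d : ↥C) : G) * v = v * ((c⁻¹ * d : ↥C) : G) := by
            intro v hv hcv
            refine commutatorElement_eq_one_iff_mul_comm.mp ?_
            have h1 := hmul v hv _ c.2 _ (c⁻¹ * d : ↥C).2
            rw [show (c : G) * ((c⁻¹ * d : ↥C) : G) = d by simp, ← hcv, left_eq_mul] at h1
            exact h1
          exact hker _ (key a ha e1) (key b hb e2)
    have hindex : Z.relIndex C ≤ p ^ 2 := by
      refine (Nat.card_le_card_of_injective β' hβinj).trans ?_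
      rw [Nat.card_prod, hZc, sq]
    refine ⟨Z, hZn, inf_le_left, hZd, ?_, Or.inr ⟨rfl, a, ha, b, hb, fun e => hab (commutatorElement_eq_one_iff_mul_comm.mp e), ?_, hcentC⟩⟩
    · have h1 := rel_card (inf_le_left : Z ≤ C)
      obtain ⟨k, hk⟩ := IsPGroup.iff_card.mp hCp
      obtain ⟨i, -, hi⟩ := (Nat.dvd_prime_pow hp).mp (show Z.relIndex C ∣ p ^ k from hk ▸ ⟨Nat.card ↥Z, by rw [← h1, mul_comm]⟩)
      rw [hi] at hindex ⊢
      exact pow_dvd_pow p ((Nat.pow_le_pow_iff_right hp.one_lt).mp hindex)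
    · have hT : Z ⊔ Subgroup.zpowers a ⊔ Subgroup.zpowers b ≤ C :=
        sup_le (sup_le inf_le_left (Subgroup.zpowers_le.mpr ha)) (Subgroup.zpowers_le.mpr hb)
      refine le_of_eq (Subgroup.eq_of_le_of_card_ge hT ?_).symm
      have h1 := rel_card (inf_le_left : Z ≤ C)
      have hc1 : Nat.card ↥Z * p ≤ Nat.card ↥(Z ⊔ Subgroup.zpowers a) := by
        obtain ⟨k, hk⟩ := IsPGroup.iff_card.mp (hCp.to_le (le_sup_left.trans hT))
        have hlt : Nat.card ↥Z < Nat.card ↥(Z ⊔ Subgroup.zpowers a) :=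
          lt_of_le_of_ne (Subgroup.card_le_of_le le_sup_left) fun e => haZ (by
            show a ∈ Z; rw [Subgroup.eq_of_le_of_card_ge (le_sup_left : Z ≤ Z ⊔ Subgroup.zpowers a) e.ge]
            exact Subgroup.mem_sup_right (Subgroup.mem_zpowers a))
        rw [hk, hZc] at hlt ⊢
        rw [← sq]
        exact Nat.pow_le_pow_right hp.pos ((Nat.pow_lt_pow_iff_right hp.one_lt).mp (by rwa [pow_one]))
      have hc2 : Nat.card ↥(Z ⊔ Subgroup.zpowers a) * p ≤ Nat.card ↥(Z ⊔ Subgroup.zpowers a ⊔ Subgroup.zpowers b) := by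
        obtain ⟨k, hk⟩ := IsPGroup.iff_card.mp (hCp.to_le hT)
        obtain ⟨j, hj⟩ := IsPGroup.iff_card.mp (hCp.to_le (le_sup_left.trans hT))
        have hbn : b ∉ Z ⊔ Subgroup.zpowers a := fun hbm => hab (by
          rw [← SetLike.mem_coe, Subgroup.normal_mul] at hbm
          obtain ⟨z, hz, _, ⟨i, rfl⟩, rfl⟩ := hbm
          exact ((show Commute a z from Subgroup.mem_centralizer_iff.mp hz.2 a ha).mul_right
            ((Commute.refl a).zpow_right i)).eq)
        have hlt : Nat.card ↥(Z ⊔ Subgroup.zpowers a) < Nat.card ↥(Z ⊔ Subgroup.zpowers a ⊔ Subgroup.zpowers b) :=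
          lt_of_le_of_ne (Subgroup.card_le_of_le le_sup_left) fun e => hbn (by
            rw [Subgroup.eq_of_le_of_card_ge (le_sup_left : Z ⊔ Subgroup.zpowers a ≤ _) e.ge]
            exact Subgroup.mem_sup_right (Subgroup.mem_zpowers b))
        rw [hk, hj] at hlt ⊢
        rw [← pow_succ]
        exact Nat.pow_le_pow_right hp.pos ((Nat.pow_lt_pow_iff_right hp.one_lt).mp hlt)
      calc Nat.card ↥C = p * Z.relIndex C := by rw [← h1, hZc]
        _ ≤ p * p ^ 2 := Nat.mul_le_mul_left _ hindex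
        _ = Nat.card ↥Z * p * p := by rw [hZc]; ring
        _ ≤ Nat.card ↥(Z ⊔ Subgroup.zpowers a) * p := Nat.mul_le_mul_right _ hc1
        _ ≤ _ := hc2
  haveI := hZ0n
  by_cases hred : ∃ A2 : Subgroup G, A2.Normal ∧ Z0 ≤ A2 ∧ A2 ≤ C ∧ Z0.relIndex A2 ∣ p ∧ A2.relIndex C ∣ p
  · obtain ⟨A2, hA2, h1, h2, h3, h4⟩ := hred
    obtain ⟨hQc, hnd⟩ := series_case hhh hCQ h1 h2 hZ0p h3 h4 hF
    by_cases h : U ⊓ Q ≤ V
    · exact (above h 0 fun j hj => Nat.le_zero.mpr (by
        by_contra hne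
        exact hnd ((dvd_pow_self p hne).trans hj))).trans (Nat.zero_le 2)
    · exact (inside 1 (fun U' V' h' hU' => by rw [hQc U' V' h' hU', pow_one]) h).trans one_le_two
  push Not at hred
  have htop2 : Z0.relIndex C = p ^ 2 := by
    obtain ⟨i, hi, e⟩ := (Nat.dvd_prime_pow hp).mp htop
    rcases hi.eq_or_lt with rfl | hlt
    · exact e
    · refine absurd ?_ (hred C hCn hZ0C le_rfl (by rw [e]; exact (pow_dvd_pow p (Nat.le_of_lt_succ hlt)).trans (by rw [pow_one])))
      rw [Subgroup.relIndex_self]; exact one_dvd p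
  have hchief : IsChiefFactor C Z0 := by
    refine ⟨lt_of_le_of_ne hZ0C fun e => ?_, hCn, hZ0n, fun N hN h1 h2 => ?_⟩
    · rw [e, Subgroup.relIndex_self] at htop2
      exact (Nat.one_lt_pow two_ne_zero hp.one_lt).ne htop2
    by_contra hcon
    push Not at hcon
    have hm := Subgroup.relIndex_mul_relIndex Z0 N C h1 h2
    rw [htop2] at hm
    have hlt1 : Z0.relIndex N ≠ 1 := fun e => hcon.1 (le_antisymm (Subgroup.relIndex_eq_one.mp e) h1)
    have hlt2 : N.relIndex C ≠ 1 := fun e => hcon.2 (le_antisymm h2 (Subgroup.relIndex_eq_one.mp e))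
    obtain ⟨i, hi, ei⟩ := (Nat.dvd_prime_pow hp).mp (show Z0.relIndex N ∣ p ^ 2 from ⟨_, hm.symm⟩)
    obtain ⟨j, hj, ej⟩ := (Nat.dvd_prime_pow hp).mp (show N.relIndex C ∣ p ^ 2 from ⟨_, (mul_comm _ _).trans hm |>.symm⟩)
    rw [ei, ej, ← pow_add] at hm
    have hij := Nat.pow_right_injective hp.two_le hm
    have hi0 : i ≠ 0 := fun e => hlt1 (by rw [ei, e, pow_zero])
    have hj0 : j ≠ 0 := fun e => hlt2 (by rw [ej, e, pow_zero])
    exact hred N hN h1 h2 (by rw [ei, show i = 1 by omega, pow_one]) (by rw [ej, show j = 1 by omega, pow_one])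
  have hQtriv : ∀ q ∈ Q, ∀ c ∈ C, q * c * q⁻¹ * c⁻¹ ∈ Z0 := fun q hq c hc => by
    rw [← commutatorElement_def, ← commutatorElement_inv]
    exact Z0.inv_mem (KInf.commutator_le_of_chief hQp hchief hCQ (Subgroup.commutator_mem_commutator hc hq))
  by_cases h : U ⊓ Q ≤ V
  · -- above `Q`
    refine (above h 1 fun j hj => ?_).trans one_le_two
    obtain ⟨T⟩ := (inferInstance : Nonempty (Sylow p G))
    set ρ := QuotientGroup.mk' Z0 with hρ
    set Cb := C.map ρ with hCb
    haveI : Cb.Normal := hCn.map _ (QuotientGroup.mk'_surjective Z0)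
    let χ : G →* MulAut ↥Cb := (MulAut.conjNormal (H := Cb)).comp ρ
    have hker : ∀ k : G, χ k = 1 → ∀ c ∈ C, k * c * k⁻¹ * c⁻¹ ∈ Z0 := fun k hk c hc => by
      have h1 := congrArg Subtype.val (DFunLike.congr_fun hk ⟨ρ c, ⟨c, hc, rfl⟩⟩)
      simp only [χ, MonoidHom.comp_apply, MulAut.conjNormal_apply, MulAut.one_apply] at h1
      rw [← map_inv, ← map_mul, ← map_mul] at h1
      rw [← div_eq_mul_inv]
      exact QuotientGroup.eq_iff_div_mem.mp h1
    have hTQ : ∀ k ∈ (T : Subgroup G), χ k = 1 → k ∈ Q := by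
      intro k hkT hk
      have hk1 : k ^ (p - 1) ∈ Q := by
        let K0 : Subgroup G := {
          carrier := {g | (∀ a ∈ Z0, g * a * g⁻¹ * a⁻¹ ∈ (⊥ : Subgroup G)) ∧ χ g = 1}
          one_mem' := ⟨fun a _ => by simp, map_one χ⟩
          mul_mem' := fun {x y} hx hy => ⟨fun a ha => by
            rw [show x * y * a * (x * y)⁻¹ * a⁻¹ = (x * (y * a * y⁻¹) * x⁻¹ * (y * a * y⁻¹)⁻¹) * (y * a * y⁻¹ * a⁻¹) by group]
            exact Subgroup.mul_mem _ (hx.1 _ (hZ0n.conj_mem a ha y)) (hy.1 a ha), by rw [map_mul, hx.2, hy.2, one_mul]⟩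
          inv_mem' := fun {x} hx => ⟨fun a ha => by
            have := Subgroup.inv_mem _ (hx.1 _ (hZ0n.conj_mem a ha x⁻¹))
            simpa [mul_assoc] using this, by rw [map_inv, hx.2, inv_one]⟩ }
        haveI : K0.Normal := ⟨fun x hx g => ⟨fun a ha => by
          have := (inferInstance : (⊥ : Subgroup G).Normal).conj_mem _ (hx.1 _ (hZ0n.conj_mem a ha g⁻¹)) g
          simpa [mul_assoc] using this, by rw [map_mul, map_mul, hx.2, mul_one, map_inv, mul_inv_cancel]⟩⟩
        have hK0Q : K0 ≤ Q := by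
          refine le_pCore fun x => ?_
          obtain ⟨i, hi⟩ := PResidual.exists_pow_coprime (p := p) (x : G)
          refine ⟨i, Subtype.ext ?_⟩
          show (x : G) ^ p ^ i = 1
          have hx := K0.pow_mem x.2 (p ^ i)
          set y := (x : G) ^ p ^ i
          let S : ℕ → Subgroup G := fun i => match i with | 0 => ⊥ | 1 => Z0 | _ => C
          refine hF y hi fun c hc => Stabilizer.centralizes_of_series hi S 2 ?_ ?_ ?_ 2 le_rfl c hc
          · intro m hm
            match m, hm with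
            | 0, _ => exact IsPGroup.of_bot
            | 1, _ => exact hCp.to_le hZ0C
          · intro r hr; rw [Subgroup.mem_bot.mp hr]; simp
          · intro m hm r hr
            rcases (show m = 0 ∨ m = 1 by omega) with rfl | rfl
            · exact hx.1 r hr
            · exact hker y hx.2 r hr
        refine hK0Q ⟨(tiny_section (p := p) (M := ⊥) (L := Z0) bot_le ((Subgroup.relIndex_bot_left Z0).symm ▸ hZ0p) k k).1, ?_⟩
        rw [map_pow, hk, one_pow]
      have h1 : orderOf (QuotientGroup.mk' Q k) ∣ p - 1 := orderOf_dvd_of_pow_eq_one (by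
        rw [← map_pow]; exact (QuotientGroup.eq_one_iff _).mpr hk1)
      obtain ⟨i, hi⟩ := T.2 ⟨k, hkT⟩
      have h2 : orderOf (QuotientGroup.mk' Q k) ∣ p ^ i := orderOf_dvd_of_pow_eq_one (by
        rw [← map_pow, show k ^ p ^ i = 1 from congrArg Subtype.val hi, map_one])
      refine (QuotientGroup.eq_one_iff (N := Q) k).mp (orderOf_eq_one_iff.mp (Nat.eq_one_of_dvd_coprimes ?_ h1 h2))
      refine Nat.Coprime.pow_right i (Nat.Coprime.symm (hp.coprime_iff_not_dvd.mpr fun hd => ?_))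
      have := hp.two_le
      have := Nat.le_of_dvd (by omega) hd
      omega
    have hcb : Nat.card ↥Cb = p ^ 2 := by
      rw [hCb, ← Subgroup.relIndex_ker, hρ, QuotientGroup.ker_mk', htop2]
    have hbound := aut_bound (A := ↥Cb) hcb (fun x => by
      obtain ⟨c, hc, e⟩ := x.2
      apply Subtype.ext
      rw [Subgroup.coe_pow, ← e, ← map_pow, hexpC c hc, map_one, Subgroup.coe_one]) (T.2.map χ)
    have hTle : Nat.card ↥((T : Subgroup G).map (QuotientGroup.mk' Q)) ≤ p := by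
      refine le_trans ?_ hbound
      have hdv : Nat.card ↥((T : Subgroup G).map (QuotientGroup.mk' Q)) ∣ Nat.card ↥((T : Subgroup G).map χ) := by
        rw [← Subgroup.relIndex_ker, ← Subgroup.relIndex_ker, QuotientGroup.ker_mk']
        rw [← Subgroup.inf_relIndex_right Q, ← Subgroup.inf_relIndex_right χ.ker]
        exact Subgroup.relIndex_dvd_of_le_left _ (fun k hk => ⟨hTQ k hk.2 hk.1, hk.2⟩)
      exact Nat.le_of_dvd Nat.card_pos hdv
    set T' := T.mapSurjective (QuotientGroup.mk'_surjective Q) with hT'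
    have hT'c : Nat.card ↥((T' : Subgroup (G ⧸ Q))) ≤ p := hTle
    rw [Sylow.card_eq_multiplicity] at hT'c
    have h3 : p ^ j ≤ p ^ (Nat.card (G ⧸ Q)).factorization p :=
      Nat.pow_le_pow_right hp.pos ((hp.pow_dvd_iff_le_factorization Nat.card_pos.ne').mp hj)
    exact (Nat.pow_le_pow_iff_right hp.one_lt).mp ((h3.trans hT'c).trans (pow_one p).ge)
  -- inside `Q`
  refine inside 2 (fun U' V' hch' hU' => ?_) h
  rcases habel with ⟨rfl, hZC⟩ | ⟨rfl, a, ha, b, hb, hab, hgen, hcentC⟩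
  · have hcent : ∀ q ∈ Q, ∀ c ∈ C, q * c = c * q := fun q hq c hc =>
      mul_inv_eq_iff_eq_mul.mp (mul_inv_eq_one.mp (Subgroup.mem_bot.mp (hQtriv q hq c hc)))
    have hcardC : Nat.card ↥C = p ^ 2 := by rw [← htop2, Subgroup.relIndex_bot_left]
    have hin : ∀ x ∈ Q, x ^ p = 1 → x ∈ C := by
      intro x hx hxp
      by_contra hxC
      have := hext C (fun u hu v hv => hcent u (hCQ hu) v hv) hexpC x hxp (hcent x hx) hxC
      rw [hcardC] at this
      have := hp.two_le
      nlinarith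
    refine (pcentral_bound hp2 _ G Q hQp (fun x hx hxp y hy => (hcent y hy x (hin x hx hxp)).symm) le_rfl U' V' hch' hU').trans ?_
    rw [← hcardC]
    exact Nat.card_le_card_of_injective (fun x => (⟨x.1, hin x.1 x.2.1 x.2.2⟩ : ↥C)) fun x y e => Subtype.ext (congrArg Subtype.val e :)
  · have hZc : Nat.card ↥Z ≤ p := Nat.le_of_dvd hp.pos hZ0p
    set D := Q ⊓ Subgroup.centralizer (C : Set G) with hD
    haveI : D.Normal := inferInstance
    have hDc : ∀ x ∈ D, ∀ c ∈ C, x * c = c * x := fun x hx c hc => (Subgroup.mem_centralizer_iff.mp hx.2 c hc).symm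
    by_cases hUD : U' ⊓ D ≤ V'
    · obtain ⟨-, hrel⟩ := map_factor hch' hUD
      rw [← hrel]
      refine (Nat.le_of_dvd Nat.card_pos (Subgroup.relIndex_dvd_card _ _)).trans
        ((Subgroup.card_le_of_le (Subgroup.map_mono hU')).trans ?_)
      rw [← Subgroup.relIndex_ker, QuotientGroup.ker_mk']
      haveI : (D.subgroupOf Q).Normal := Subgroup.normal_subgroupOf_of_le_normalizer
        (le_top.trans (Subgroup.normalizer_eq_top D).ge)
      let β : ↥Q → ↥Z × ↥Z := fun q => (⟨(q : G) * a * (q : G)⁻¹ * a⁻¹, hQtriv q q.2 a ha⟩,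
        ⟨(q : G) * b * (q : G)⁻¹ * b⁻¹, hQtriv q q.2 b hb⟩)
      have same : ∀ q r : ↥Q, ∀ c ∈ C, ((q : G) * c * (q : G)⁻¹ = (r : G) * c * (r : G)⁻¹) ↔
          ((q⁻¹ * r : ↥Q) : G) * c = c * ((q⁻¹ * r : ↥Q) : G) := by
        intro q r c hc
        simp only [Subgroup.coe_mul, Subgroup.coe_inv]
        constructor
        · intro e
          have := congrArg (fun t => (q : G)⁻¹ * t * r) e
          simpa [mul_assoc] using this.symm
        · intro e
          have := congrArg (fun t => (q : G) * t * (r : G)⁻¹) e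
          simpa [mul_assoc] using this.symm
      let β' : ↥Q ⧸ D.subgroupOf Q → ↥Z × ↥Z := Quotient.lift β (by
        intro q r hqr
        have hqr' : ((q⁻¹ * r : ↥Q) : G) ∈ D := (QuotientGroup.leftRel_apply (s := D.subgroupOf Q)).mp hqr
        exact Prod.ext (Subtype.ext (congrArg (· * a⁻¹) ((same q r a ha).mpr (hDc _ hqr' a ha))))
          (Subtype.ext (congrArg (· * b⁻¹) ((same q r b hb).mpr (hDc _ hqr' b hb)))))
      have hinj : Function.Injective β' := by
        intro x y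
        induction x using QuotientGroup.induction_on with
        | _ q =>
          induction y using QuotientGroup.induction_on with
          | _ r =>
            intro e
            refine QuotientGroup.eq.mpr ⟨(q⁻¹ * r : ↥Q).2, ?_⟩
            have e1 : (q : G) * a * (q : G)⁻¹ * a⁻¹ = (r : G) * a * (r : G)⁻¹ * a⁻¹ :=
              congrArg (fun t : ↥Z × ↥Z => (t.1 : G)) e
            have e2 : (q : G) * b * (q : G)⁻¹ * b⁻¹ = (r : G) * b * (r : G)⁻¹ * b⁻¹ :=
              congrArg (fun t : ↥Z × ↥Z => (t.2 : G)) e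
            have f1 := (same q r a ha).mp (mul_right_cancel e1)
            have f2 := (same q r b hb).mp (mul_right_cancel e2)
            set d := ((q⁻¹ * r : ↥Q) : G)
            have hle : C ≤ Subgroup.centralizer ({d} : Set G) := by
              refine hgen.trans (sup_le (sup_le (fun z hz => ?_) (Subgroup.zpowers_le.mpr
                (Subgroup.mem_centralizer_singleton_iff.mpr f1.symm))) (Subgroup.zpowers_le.mpr
                  (Subgroup.mem_centralizer_singleton_iff.mpr f2.symm)))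
              rw [Subgroup.mem_centralizer_singleton_iff]
              -- `Z` has order at most `p`, hence is centralised by the `p`-group `Q`
              have hz' : z ∈ Z := hz
              obtain ⟨i, hi⟩ := hQp ⟨d, (q⁻¹ * r : ↥Q).2⟩
              have hcomm := (tiny_normal (A := Z) hZ0p d d).1 z hz'
              have hco : Nat.Coprime (p - 1) (orderOf d) := by
                refine Nat.Coprime.coprime_dvd_right (orderOf_dvd_of_pow_eq_one (congrArg Subtype.val hi)) ?_
                refine Nat.Coprime.pow_right i (Nat.Coprime.symm (hp.coprime_iff_not_dvd.mpr fun hd => ?_))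
                have := hp.two_le
                have := Nat.le_of_dvd (by omega) hd
                omega
              obtain ⟨m, hm⟩ := exists_pow_eq_self_of_coprime hco
              rw [← hm]
              exact ((show Commute (d ^ (p - 1)) z from hcomm).pow_left m).eq.symm
            exact Subgroup.mem_centralizer_iff.mpr fun c hc => Subgroup.mem_centralizer_singleton_iff.mp (hle hc)
      refine (Nat.card_le_card_of_injective β' hinj).trans ?_
      rw [Nat.card_prod, sq]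
      exact Nat.mul_le_mul hZc hZc
    · obtain ⟨hch'', hrel⟩ := inf_factor hch' hUD
      rw [← hrel]
      have hZD : ∀ x ∈ D, x ^ p = 1 → x ∈ Z := fun x hx hxp => hcentC x hxp (hDc x hx)
      refine (pcentral_bound hp2 _ G D (hQp.to_le inf_le_left)
        (fun x hx hxp y hy => (hDc y hy x (hZD x hx hxp).1).symm) le_rfl _ _ hch'' inf_le_right).trans ?_
      refine le_trans ?_ ((hZc.trans (pow_one p).ge).trans (Nat.pow_le_pow_right hp.pos one_le_two))
      exact Nat.card_le_card_of_injective (fun x => (⟨x.1, hZD x.1 x.2.1 x.2.2⟩ : ↥Z)) fun x y e => Subtype.ext (congrArg Subtype.val e :)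

end small

/-- Let p be an odd prime and G a finite p-solvable group with no elementary abelian subgroup of order p³. Then every chief factor H/K of G (H, K normal in G with no normal subgroup of G strictly between them) whose order is a power of p has order p or p². -/
theorem result {G : Type*} [Group G] [Finite G] {p : ℕ} [Fact p.Prime] (hp : p ≠ 2)
    (hG : Cfsg.IsPSolvable p G) (hr : Cfsg.PRankLE p 2 G)
    (H K : Subgroup G) [H.Normal] [K.Normal] (hKH : K < H) (hpow : ∃ n : ℕ, K.relIndex H = p ^ n)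
    (hchief : ∀ L : Subgroup G, L.Normal → K ≤ L → L ≤ H → L = K ∨ L = H) :
    K.relIndex H = p ∨ K.relIndex H = p ^ 2 := by
  obtain ⟨n, hn⟩ := hpow
  set O := Cfsg.pPrimeCore p G
  have hOc : (Nat.card ↥O).Coprime p := CfsgLib.card_pPrimeCore_coprime p
  have hUV : Cfsg.IsChiefFactor H K := ⟨hKH, inferInstance, inferInstance, hchief⟩
  have hn0 : n ≠ 0 := fun e => by
    rw [e, pow_zero, Subgroup.relIndex_eq_one] at hn
    exact hKH.not_ge hn
  have hHO : H ⊓ O ≤ K := by
    by_contra hne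
    obtain ⟨-, hrel⟩ := inf_factor hUV hne
    have h1 : p ∣ Nat.card ↥O := by
      refine (dvd_pow_self p hn0).trans ?_
      rw [← hn, ← hrel]
      exact (Subgroup.relIndex_dvd_card _ _).trans (Subgroup.card_dvd_of_le inf_le_right)
    exact (Fact.out : p.Prime).coprime_iff_not_dvd.mp hOc.symm h1
  obtain ⟨hch, hrel⟩ := map_factor hUV hHO
  have h2 : n ≤ 2 := main hp (Cfsg.Agent.S3744.isPSolvable_quotient hG O)
    (CfsgLib.MinSimpleOdd.pRankLE_quotient O ((Fact.out : p.Prime).coprime_iff_not_dvd.mp hOc.symm) hr)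
    (CfsgLib.pPrimeCore_quotient_eq_bot p) hch (hrel.trans hn)
  rw [hn]
  rcases n with _ | _ | _ | n
  · exact absurd rfl hn0
  · exact Or.inl (pow_one p)
  · exact Or.inr rfl
  · omega

end Cfsg.Agent.S1895
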