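import Cfsg.Statements.S1897
import Cfsg.Agent.Lib.SpectrumU33.L27

set_option autoImplicit false
open Cfsg

namespace Cfsg.Agent.S1897

/-- The projective special unitary group PSU₃(3) (realised over the field with 9 elements) has a subgroup isomorphic to PSL₂(7). -/
theorem result {F : Type*} [Field F] [Fintype F] (hF : Fintype.card F = 9)
    {K : Type*} [Field K] [Fintype K] (hK : Fintype.card K = 7) :
    ∃ H : Subgroup (Cfsg.PSU 3 F 3), Nonempty (H ≃* Matrix.ProjectiveSpecialLinearGroup (Fin 2) K) := by
  obtain ⟨H, hcard, hsimp⟩ := CfsgLib.SpectrumU33.exists_L27 hF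
  set f := (QuotientGroup.mk' (Subgroup.center (Cfsg.SU 3 F 3))).comp H.subtype with hf
  have hinj : Function.Injective f := by
    rw [← MonoidHom.ker_eq_bot_iff]
    refine (IsSimpleGroup.eq_bot_or_eq_top_of_normal f.ker inferInstance).resolve_right fun htop => ?_
    have hcom : ∀ a b : H, a * b = b * a := fun a b => by
      have ha : (a : Cfsg.SU 3 F 3) ∈ Subgroup.center (Cfsg.SU 3 F 3) :=
        (QuotientGroup.eq_one_iff (a : Cfsg.SU 3 F 3)).mp (show f a = 1 from (htop ▸ Subgroup.mem_top a : a ∈ f.ker))
      exact Subtype.ext (Subgroup.mem_center_iff.mp ha b).symm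
    letI : CommGroup H := { (inferInstance : Group H) with mul_comm := hcom }
    have := IsSimpleGroup.prime_card (α := H)
    rw [hcard] at this
    norm_num at this
  obtain ⟨e⟩ := Cfsg.Agent.S0495.result hcard hK
  exact ⟨f.range, ⟨(MonoidHom.ofInjective hinj).symm.trans e⟩⟩

end Cfsg.Agent.S1897
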