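import Cfsg.Statements.S1898
import Cfsg.Agent.Lib.CentralizeOmega
-- import your own Cfsg.Agent.* helpers here

set_option autoImplicit false
open Cfsg

namespace Cfsg.Agent.S1898

/-- Let X be a finite 2-group whose derived subgroup is elementary abelian and central. Then the subgroup generated by the elements of order dividing 4 has exponent dividing 4, and every automorphism of X fixing each element of order dividing 4 has 2-power order. -/
theorem result {X : Type*} [Group X] [Finite X] (hX : IsPGroup 2 X)
    (hel : Cfsg.IsElementaryAbelian 2 (commutator X)) (hcen : commutator X ≤ Subgroup.center X) :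
    (∀ x ∈ Subgroup.closure {g : X | g ^ 4 = 1}, x ^ 4 = 1) ∧
      ∀ φ : MulAut X, (∀ g : X, g ^ 4 = 1 → φ g = g) → ∃ k : ℕ, φ ^ (2 ^ k) = 1 := by
  classical
  haveI : Finite (MulAut X) := Finite.of_injective (fun f => (f : X → X)) DFunLike.coe_injective
  have hmul : ∀ x y : X, ∀ n : ℕ, ∃ c : X, c ^ 2 = 1 ∧ (x * y) ^ n = c ^ (n * (n - 1) / 2) * (x ^ n * y ^ n) ∧ c ∈ Subgroup.center X := by
    intro x y n
    refine ⟨y * x * y⁻¹ * x⁻¹, ?_, ?_, ?_⟩
    · exact hel.2 _ (by rw [← commutatorElement_def]; exact Subgroup.commutator_mem_commutator (Subgroup.mem_top _) (Subgroup.mem_top _))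
    · have hc : y * x * y⁻¹ * x⁻¹ ∈ Subgroup.center X := hcen (by
        rw [← commutatorElement_def]; exact Subgroup.commutator_mem_commutator (Subgroup.mem_top _) (Subgroup.mem_top _))
      exact CfsgLib.mul_pow_central (by group) (Subgroup.mem_center_iff.1 hc x).symm (Subgroup.mem_center_iff.1 hc y).symm n
    · exact hcen (by rw [← commutatorElement_def]; exact Subgroup.commutator_mem_commutator (Subgroup.mem_top _) (Subgroup.mem_top _))
  refine ⟨fun x hx => ?_, fun φ hφ => ?_⟩
  · induction hx using Subgroup.closure_induction with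
    | mem y hy => exact hy
    | one => simp
    | mul y z _ _ hy hz =>
      obtain ⟨c, hc2, he, -⟩ := hmul y z 4
      rw [he, hy, hz, show 4 * (4 - 1) / 2 = 2 * 3 by norm_num, pow_mul, hc2, one_pow, one_mul, one_mul]
    | inv y _ hy => rw [inv_pow, hy, inv_one]
  · obtain ⟨k, m, hm2, hk⟩ := Nat.exists_eq_pow_mul_and_not_dvd (orderOf_pos φ).ne' 2 (by norm_num)
    refine ⟨k, ?_⟩
    set β := φ ^ 2 ^ k with hβ
    have hodd : Odd (orderOf β) := by
      rw [hβ, orderOf_pow' _ (pow_ne_zero _ two_ne_zero), hk, Nat.gcd_mul_right_left,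
        Nat.mul_div_cancel_left _ (Nat.two_pow_pos _)]
      exact Nat.odd_iff.2 (Nat.two_dvd_ne_zero.1 hm2)
    have hfix : ∀ g : X, g ^ 4 = 1 → β g = g := by
      intro g hg
      rw [hβ]
      clear hodd
      induction (2 ^ k) with
      | zero => simp
      | succ i ih => rw [pow_succ, MulAut.mul_apply, hφ g hg, ih]
    have key : ∀ (n : ℕ) (x : X), x ^ 2 ^ n = 1 → β x = x := by
      intro n
      induction n with
      | zero => intro x hx; simp at hx; simp [hx]
      | succ n ih =>
        intro x hx
        have h2 : β (x ^ 2) = x ^ 2 := ih _ (by rw [← pow_mul, ← pow_succ']; exact hx)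
        obtain ⟨w, hw⟩ : ∃ w, β x = x * w := ⟨x⁻¹ * β x, by rw [mul_inv_cancel_left]⟩
        obtain ⟨c, hc2, he, hcz⟩ := hmul x w 2
        rw [map_pow, hw, he, show 2 * (2 - 1) / 2 = 1 by norm_num, pow_one, ← mul_assoc,
          ← Subgroup.mem_center_iff.1 hcz, mul_assoc, mul_eq_left] at h2
        have hw4 : w ^ 4 = 1 := by
          have e : w ^ 2 = c⁻¹ := eq_inv_of_mul_eq_one_right h2
          rw [show (4 : ℕ) = 2 * 2 from rfl, pow_mul, e, inv_pow, hc2, inv_one]
        have hit : ∀ i : ℕ, (β ^ i) x = x * w ^ i := by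
          intro i
          induction i with
          | zero => simp
          | succ i ihi => rw [pow_succ', MulAut.mul_apply, ihi, map_mul, map_pow, hfix w hw4, hw, pow_succ', mul_assoc]
        have h1 := hit (orderOf β)
        rw [pow_orderOf_eq_one, MulAut.one_apply, eq_comm, mul_eq_left] at h1
        have hw1 : w = 1 := orderOf_eq_one_iff.1 (Nat.eq_one_of_dvd_coprimes
          ((Nat.coprime_two_left.2 hodd).pow_left 2) (orderOf_dvd_of_pow_eq_one (by norm_num; exact hw4))
          (orderOf_dvd_of_pow_eq_one h1))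
        rw [hw, hw1, mul_one]
    refine MulEquiv.ext fun x => ?_
    obtain ⟨n, hn⟩ := hX x
    exact key n x hn

end Cfsg.Agent.S1898
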