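import Cfsg.Statements.S1899
import Mathlib

set_option autoImplicit false
set_option linter.unusedVariables false
open Cfsg
open scoped commutatorElement

namespace Cfsg.Agent.S1899

/-- Let a dihedral group of order 2n, n odd and n > 1, act on a finite abelian 2-group A through automorphisms d and t with d^n = 1, t² = 1 and t d t⁻¹ = d⁻¹, and suppose that d fixes only the identity. Then A is the internal direct product of C_A(t) and its image under d. -/
theorem result {A : Type*} [CommGroup A] [Finite A] (hA : IsPGroup 2 A)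
    {n : ℕ} (hn : Odd n) (hn1 : 1 < n) (d t : MulAut A) (hd : d ^ n = 1) (ht : t ^ 2 = 1) (hdt : t * d * t⁻¹ = d⁻¹)
    (hfix : ∀ a : A, d a = a → a = 1) :
    (MulEquiv.toMonoidHom t).eqLocus (MonoidHom.id A) ⊓ ((MulEquiv.toMonoidHom t).eqLocus (MonoidHom.id A)).map d.toMonoidHom = ⊥ ∧
      (MulEquiv.toMonoidHom t).eqLocus (MonoidHom.id A) ⊔ ((MulEquiv.toMonoidHom t).eqLocus (MonoidHom.id A)).map d.toMonoidHom = ⊤ := by
  have h2 : ∀ x, d (d x) = x → x = 1 := by
    intro x hx
    refine hfix x ?_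
    obtain ⟨m, rfl⟩ := hn
    have h1 : ∀ k : ℕ, (d ^ (2 * k)) x = x := by
      intro k
      induction k with
      | zero => simp
      | succ k ih =>
        rw [show 2 * (k + 1) = 2 * k + 1 + 1 by ring, pow_succ, pow_succ, MulAut.mul_apply, MulAut.mul_apply, hx, ih]
    have h3 : (d ^ (2 * m + 1)) x = x := by rw [hd]; rfl
    rw [pow_succ', MulAut.mul_apply, h1 m] at h3
    exact h3
  have htd : ∀ x, t (d x) = d⁻¹ (t x) := fun x => by
    rw [← MulAut.mul_apply, ← MulAut.mul_apply, ← hdt, inv_mul_cancel_right]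
  have htd' : ∀ x, t (d⁻¹ x) = d (t x) := fun x => by
    have h := htd (d⁻¹ x)
    rw [MulAut.apply_inv_self] at h
    rw [h, MulAut.apply_inv_self]
  have htt : ∀ x, t (t x) = x := fun x => by
    rw [← MulAut.mul_apply, ← pow_two, ht]; rfl
  constructor
  · refine eq_bot_iff.mpr ?_
    rintro _ ⟨hc', c, hc, rfl⟩
    replace hc : t c = c := hc
    replace hc' : t (d c) = d c := hc'
    rw [htd, hc] at hc'
    have h3 : d (d c) = c := by rw [← hc', MulAut.apply_inv_self]
    rw [h2 c h3, map_one]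
    exact one_mem _
  · refine eq_top_iff.mpr fun a _ => ?_
    let φ : A →* A := MonoidHom.mk' (fun x => d x * (d⁻¹ x)⁻¹) (fun x y => by
      simp only [map_mul, mul_inv]; exact mul_mul_mul_comm _ _ _ _)
    have hinj : Function.Injective φ := (injective_iff_map_eq_one φ).mpr fun x hx => h2 x (by
      rw [show d x = d⁻¹ x from mul_inv_eq_one.mp hx, MulAut.apply_inv_self])
    obtain ⟨c, hc⟩ := Finite.surjective_of_injective hinj (a * (t a)⁻¹)
    replace hc : d c * (d⁻¹ c)⁻¹ = a * (t a)⁻¹ := hc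
    have htc : t c = c := hinj (by
      show d (t c) * (d⁻¹ (t c))⁻¹ = d c * (d⁻¹ c)⁻¹
      rw [← htd', ← htd, hc, ← map_inv, ← map_mul, show d⁻¹ c * (d c)⁻¹ = (d c * (d⁻¹ c)⁻¹)⁻¹ by simp [mul_comm], hc,
        map_inv, map_mul, map_inv, htt]
      simp [mul_comm])
    rw [show a = a * (d c)⁻¹ * d c by simp]
    refine Subgroup.mul_mem_sup ?_ ⟨c, htc, rfl⟩
    show t (a * (d c)⁻¹) = a * (d c)⁻¹
    rw [map_mul, map_inv, htd, htc, eq_mul_inv_iff_mul_eq, mul_assoc, mul_comm (d⁻¹ c)⁻¹, hc, mul_comm a, ← mul_assoc,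
      mul_inv_cancel, one_mul]

end Cfsg.Agent.S1899
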