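import Cfsg.Statements.S1901
import Cfsg.Agent.Lib.Basic

set_option autoImplicit false
set_option linter.unusedVariables false
open Cfsg
open scoped commutatorElement

namespace Cfsg.Agent.S1901


theorem mem_of_coprime {G : Type*} [Group G] {K : Subgroup G} {c : G} {a b : ℕ} (h : a.Coprime b)
    (ha : c ^ a ∈ K) (hb : c ^ b ∈ K) : c ∈ K := by
  have h1 : (c ^ a) ^ a.gcdA b * (c ^ b) ^ a.gcdB b ∈ K :=
    K.mul_mem (Subgroup.zpow_mem _ ha _) (Subgroup.zpow_mem _ hb _)
  rwa [← zpow_natCast, ← zpow_mul, ← zpow_natCast c b, ← zpow_mul, ← zpow_add, ← Nat.gcd_eq_gcd_ab,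
    h.gcd_eq_one, Nat.cast_one, zpow_one] at h1

theorem pow_relIndex_mem {G : Type*} [Group G] {K L : Subgroup G} [(K.subgroupOf L).Normal] {c : G} (hc : c ∈ L) :
    c ^ K.relIndex L ∈ K := by
  have := Subgroup.pow_index_mem (H := K.subgroupOf L) (⟨c, hc⟩ : ↥L)
  exact this

/-- Let G be a finite p-solvable group and Q a subgroup of order prime to p such that p divides the index of C_G(Q) in N_G(Q). Then Q normalizes no Sylow p-subgroup of G. -/
theorem result {G : Type*} [Group G] [Finite G] {p : ℕ} [Fact p.Prime]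
    (hG : Cfsg.IsPSolvable p G) (Q : Subgroup G) (hQ : ¬ p ∣ Nat.card Q)
    (hA : p ∣ (Subgroup.centralizer (Q : Set G)).relIndex (Subgroup.normalizer (Q : Set G)))
    (P : Sylow p G) : ¬ Q ≤ Subgroup.normalizer ((P : Subgroup G) : Set G) := by
  obtain ⟨n, H, h0, hlast, hmono, hnorm, hfac⟩ := hG
  have hp : p.Prime := Fact.out
  intro hQP
  set N := Subgroup.normalizer (Q : Set G) with hN
  set C := Subgroup.centralizer (Q : Set G) with hC
  refine hp.not_dvd_one (dvd_trans hA ?_)
  have hkey : ∀ x ∈ N, ∀ k : ℕ, x ^ p ^ k = 1 → x ∈ C := by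
    intro x hx k hk
    have hmain : ∀ i : Fin (n + 1), ∀ q ∈ Q, x * q * x⁻¹ * q⁻¹ ∈ H i := by
      intro i
      refine Fin.reverseInduction ?_ (fun i ih => ?_) i
      · intro q _; rw [hlast]; trivial
      intro q hq
      haveI := hnorm i.castSucc
      have hcQ : ∀ q ∈ Q, x * q * x⁻¹ * q⁻¹ ∈ Q := fun q hq =>
        Q.mul_mem ((Subgroup.mem_normalizer_iff.mp hx q).mp hq) (Q.inv_mem hq)
      rcases hfac i with ⟨m, hm⟩ | hcop
      · refine mem_of_coprime (a := Nat.card Q) (b := p ^ m)
          ((hp.coprime_iff_not_dvd.mpr hQ).symm.pow_right m) ?_ (hm ▸ pow_relIndex_mem (ih q hq))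
        rw [show (x * q * x⁻¹ * q⁻¹) ^ Nat.card Q = 1 from
          congrArg Subtype.val (pow_card_eq_one' (x := (⟨_, hcQ q hq⟩ : ↥Q)))]
        exact Subgroup.one_mem _
      set f := QuotientGroup.mk' (H i.castSucc) with hf
      set R := Q ⊓ H i.succ with hR
      haveI := hnorm i.succ
      set Rb := R.map f with hRb
      have hP : (P : Subgroup G).map f ≤ Subgroup.centralizer (Rb : Set _) := by
        rintro _ ⟨u, hu, rfl⟩ _ ⟨r, hr, rfl⟩
        have h1 : r * u * r⁻¹ * u⁻¹ ∈ (P : Subgroup G) := (P : Subgroup G).mul_mem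
          ((Subgroup.mem_normalizer_iff.mp (hQP (Subgroup.mem_inf.mp hr).1) u).mp hu) ((P : Subgroup G).inv_mem hu)
        have h2 : r * u * r⁻¹ * u⁻¹ ∈ H i.succ := by
          have := Subgroup.mul_mem _ (Subgroup.mem_inf.mp hr).2
            ((hnorm i.succ).conj_mem _ (Subgroup.inv_mem _ (Subgroup.mem_inf.mp hr).2) u)
          simpa [mul_assoc] using this
        obtain ⟨j, hj⟩ := P.2 ⟨_, h1⟩
        have h3 : r * u * r⁻¹ * u⁻¹ ∈ H i.castSucc := mem_of_coprime (hcop.pow_right j) (pow_relIndex_mem h2)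
          (by rw [show (r * u * r⁻¹ * u⁻¹) ^ p ^ j = 1 from congrArg Subtype.val hj]; exact Subgroup.one_mem _)
        rw [← map_mul, ← map_mul, hf, QuotientGroup.mk'_eq_mk']
        refine ⟨(r * u)⁻¹ * (u * r), ?_, by group⟩
        have h4 := (hnorm i.castSucc).conj_mem _ (Subgroup.inv_mem _ h3) (r * u)⁻¹
        have e : (r * u)⁻¹ * (r * u * r⁻¹ * u⁻¹)⁻¹ * (r * u)⁻¹⁻¹ = (r * u)⁻¹ * (u * r) := by group
        rwa [e] at h4
      have hxR : f x ∈ Subgroup.normalizer (Rb : Set _) := by
        refine Subgroup.le_normalizer_map f ⟨x, Subgroup.mem_normalizer_iff.mpr fun r => ?_, rfl⟩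
        rw [hR, Subgroup.mem_inf, Subgroup.mem_inf, ← Subgroup.mem_normalizer_iff.mp hx r]
        exact and_congr_right' ⟨fun h => (hnorm i.succ).conj_mem _ h x,
          fun h => by simpa [mul_assoc] using (hnorm i.succ).conj_mem _ h x⁻¹⟩
      have hxC : f x ∈ Subgroup.centralizer (Rb : Set _) := by
        set CR := Subgroup.centralizer (Rb : Set (G ⧸ H i.castSucc)) with hCR
        set NR := Subgroup.normalizer (Rb : Set (G ⧸ H i.castSucc)) with hNR
        haveI : (CR.subgroupOf NR).Normal := ⟨fun y hy g => by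
          rw [Subgroup.mem_subgroupOf] at hy ⊢
          intro r hr
          have h1 := hy _ ((Subgroup.mem_normalizer_iff''.mp g.2 r).mp hr)
          push_cast
          obtain ⟨g, hg⟩ := g
          obtain ⟨y, hy'⟩ := y
          dsimp only at h1 ⊢
          calc r * (g * y * g⁻¹) = g * ((g⁻¹ * r * g) * y) * g⁻¹ := by group
            _ = g * y * g⁻¹ * r := by rw [h1]; group⟩
        have hcop' : (CR.relIndex NR).Coprime p := by
          refine (hp.coprime_iff_not_dvd.mpr fun h => P.not_dvd_index ?_).symm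
          exact (h.trans (Subgroup.relIndex_dvd_index_of_le (Subgroup.centralizer_le_normalizer _))).trans
            ((Subgroup.index_dvd_of_le hP).trans (Subgroup.index_map_dvd _ (QuotientGroup.mk'_surjective _)))
        refine mem_of_coprime (hcop'.pow_right k) (pow_relIndex_mem hxR) ?_
        rw [← map_pow, hk, map_one]
        exact Subgroup.one_mem _
      set c := x * q * x⁻¹ * q⁻¹ with hc
      have hcR : c ∈ R := Subgroup.mem_inf.mpr ⟨hcQ q hq, ih q hq⟩
      have hcomm : f c * f x = f x * f c := hxC _ ⟨c, hcR, rfl⟩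
      have hit : ∀ j : ℕ, f x ^ j * f q * (f x ^ j)⁻¹ = f c ^ j * f q := by
        intro j
        induction j with
        | zero => simp
        | succ j ihj =>
          calc f x ^ (j + 1) * f q * (f x ^ (j + 1))⁻¹ = f x * (f x ^ j * f q * (f x ^ j)⁻¹) * (f x)⁻¹ := by
                rw [pow_succ']; group
            _ = (f x * f c ^ j) * f q * (f x)⁻¹ := by rw [ihj]; group
            _ = f c ^ j * (f x * f q * (f x)⁻¹) := by
                rw [((show Commute (f c) (f x) from hcomm).symm.pow_right j).eq]; group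
            _ = f c ^ (j + 1) * f q := by
                rw [pow_succ, hc, map_mul, map_mul, map_mul, map_inv, map_inv]; group
      have h5 := hit (p ^ k)
      rw [← map_pow, hk, map_one, one_mul, inv_one, mul_one] at h5
      have h6 : c ^ p ^ k ∈ H i.castSucc := by
        rw [← QuotientGroup.eq_one_iff, ← QuotientGroup.mk'_apply, map_pow]
        exact mul_eq_right.mp h5.symm
      refine mem_of_coprime (a := Nat.card Q) ((hp.coprime_iff_not_dvd.mpr hQ).symm.pow_right k) ?_ h6
      rw [show c ^ Nat.card Q = 1 from congrArg Subtype.val (pow_card_eq_one' (x := (⟨_, hcQ q hq⟩ : ↥Q)))]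
      exact Subgroup.one_mem _
    intro q hq
    have h1 := hmain 0 q hq
    rw [h0, Subgroup.mem_bot, mul_inv_eq_one, mul_inv_eq_iff_eq_mul] at h1
    exact h1.symm
  exfalso
  obtain ⟨T⟩ : Nonempty (Sylow p ↥N) := inferInstance
  have hT : (T : Subgroup ↥N) ≤ C.subgroupOf N := by
    intro t ht
    obtain ⟨k, hk⟩ := T.2 ⟨t, ht⟩
    exact hkey t t.2 k (congrArg Subtype.val (congrArg Subtype.val hk))
  exact T.not_dvd_index (dvd_trans hA (Subgroup.index_dvd_of_le hT))

end Cfsg.Agent.S1901
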