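import Cfsg.Statements.S1902
import Cfsg.Agent.Lib.Signalizer.OmegaInvariant
import Cfsg.Agent.Lib.Blocks.HallHigman
-- import your own Cfsg.Agent.* helpers here

set_option autoImplicit false
open Cfsg

namespace Cfsg.Agent.S1902

/-- Let p be an odd prime, G a finite p-solvable group, and B an elementary abelian subgroup of order p² such that B is the subgroup generated by the elements of order p of some Sylow p-subgroup of C_G(b₀), for some nontrivial b₀ ∈ B. Then every B-invariant subgroup of G of order prime to p lies in O_{p'}(G). -/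
theorem result {G : Type*} [Group G] [Finite G] {p : ℕ} [Fact p.Prime] (hp : p ≠ 2)
    (hG : Cfsg.IsPSolvable p G) (B : Subgroup G) (hB : Cfsg.IsElementaryAbelian p B) (hBc : Nat.card B = p ^ 2)
    (b₀ : G) (hb₀ : b₀ ∈ B) (hb₁ : b₀ ≠ 1) (P : Sylow p ↥(Subgroup.centralizer ({b₀} : Set G)))
    (hBP : B = Subgroup.closure {x : G | x ∈ ((P : Subgroup ↥(Subgroup.centralizer ({b₀} : Set G))).map
      (Subgroup.centralizer ({b₀} : Set G)).subtype : Subgroup G) ∧ orderOf x = p})
    (Q : Subgroup G) (hQ : ¬ p ∣ Nat.card Q) (hinv : ∀ b ∈ B, ∀ x ∈ Q, b * x * b⁻¹ ∈ Q) :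
    Q ≤ Cfsg.pPrimeCore p G := by
  have hcon : Cfsg.IsPConstrained p G := by
    intro R
    refine CfsgLib.Blocks.centralizer_le_pPrimePCore hG (Subgroup.map_subtype_le _) ?_
    rw [Subgroup.relIndex, Subgroup.subgroupOf, Subgroup.comap_map_eq_self_of_injective Subtype.val_injective]
    exact R.not_dvd_index
  have hBp : IsPGroup p B := IsPGroup.of_card hBc
  refine CfsgLib.Signalizer.le_pPrimeCore_of_omega hp hcon B hBp ?_ Q
    (((Fact.out : p.Prime).coprime_iff_not_dvd.2 hQ).symm) ?_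
  · intro x hx hxp
    haveI : IsMulCommutative B := hB.1
    set T := B ⊔ Subgroup.zpowers x with hT
    have hxB : Subgroup.zpowers x ≤ Subgroup.normalizer (B : Set G) :=
      (Subgroup.zpowers_le.2 hx).trans (Subgroup.centralizer_le_normalizer _)
    have hTp : IsPGroup p T :=
      hBp.to_sup_of_normal_left' (IsPGroup.of_card (n := 1) (by rw [Nat.card_zpowers, hxp, pow_one])) hxB
    have hBC : B ≤ (Subgroup.centralizer ({b₀} : Set G)) := fun b hb => Subgroup.mem_centralizer_singleton_iff.2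
      (congrArg Subtype.val (mul_comm' (⟨b, hb⟩ : B) ⟨b₀, hb₀⟩))
    have hTC : T ≤ (Subgroup.centralizer ({b₀} : Set G)) := sup_le hBC (Subgroup.zpowers_le.2
      (Subgroup.mem_centralizer_singleton_iff.2 (hx b₀ hb₀).symm))
    obtain ⟨U, hU⟩ := (hTp.comap_of_injective (Subgroup.centralizer ({b₀} : Set G)).subtype Subtype.val_injective).exists_le_sylow
    obtain ⟨c, rfl⟩ := MulAction.exists_smul_eq (Subgroup.centralizer ({b₀} : Set G)) P U
    have key : ∀ y ∈ T, orderOf y = p → (c : G)⁻¹ * y * c ∈ B := by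
      intro y hy hyo
      obtain ⟨s, hs, e⟩ := hU (x := ⟨y, hTC hy⟩) hy
      have e' : (c : G) * (s : G) * (c : G)⁻¹ = y := congrArg Subtype.val e
      have e2 : (c : G)⁻¹ * y * c = s := by rw [← e']; group
      rw [hBP, e2]
      refine Subgroup.subset_closure ⟨⟨s, hs, rfl⟩, ?_⟩
      rw [← hyo, ← e']
      exact (orderOf_injective (MulAut.conj (c : G)).toMonoidHom (MulAut.conj (c : G)).injective (s : G)).symm
    have hle : B.map (MulAut.conj (c : G)⁻¹).toMonoidHom ≤ B := by
      rintro _ ⟨b, hb, rfl⟩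
      show (c : G)⁻¹ * b * (c : G)⁻¹⁻¹ ∈ B
      rw [inv_inv]
      by_cases hb1 : b = 1
      · simp [hb1, B.one_mem]
      · exact key b (le_sup_left (b := Subgroup.zpowers x) hb) (orderOf_eq_prime (hB.2 b hb) hb1)
    have heq : B.map (MulAut.conj (c : G)⁻¹).toMonoidHom = B :=
      Subgroup.eq_of_le_of_card_ge hle (by rw [Subgroup.card_map_of_injective (MulAut.conj _).injective])
    have hxk := key x (le_sup_right (a := B) (Subgroup.mem_zpowers x)) hxp
    obtain ⟨b, hb, e⟩ := (heq.symm ▸ hxk : (c : G)⁻¹ * x * c ∈ B.map (MulAut.conj (c : G)⁻¹).toMonoidHom)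
    have e' : (c : G)⁻¹ * b * (c : G)⁻¹⁻¹ = (c : G)⁻¹ * x * c := e
    rw [inv_inv, mul_left_inj, mul_right_inj] at e'
    exact e' ▸ hb
  · intro b hb
    rw [Subgroup.mem_normalizer_iff]
    intro x
    refine ⟨hinv b hb x, fun h => ?_⟩
    simpa [mul_assoc] using hinv b⁻¹ (B.inv_mem hb) _ h

end Cfsg.Agent.S1902
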