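import Cfsg.Statements.S1905
import Cfsg.Agent.Lib.TwoFusion.StrongEmb
-- import your own Cfsg.Agent.* helpers here

set_option autoImplicit false
open Cfsg

namespace Cfsg.Agent.S1905

/-- Let M be a subgroup of even order of a finite group S such that M contains the centralizer in S of each of its involutions and the normal core of M in S has odd order. Then all involutions of S are conjugate. If moreover N_S(X) ≤ M for a Sylow 2-subgroup X of M and I is an involution in the centre of X, then all involutions of M are conjugate in M and M = M₀ C_M(I) for some subgroup M₀ of M of odd order. -/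
theorem result {S : Type*} [Group S] [Finite S] (M : Subgroup S) (hM : Even (Nat.card M))
    (hC : ∀ i ∈ M, orderOf i = 2 → Subgroup.centralizer ({i} : Set S) ≤ M) (hcore : Odd (Nat.card M.normalCore)) :
    (∀ x y : S, orderOf x = 2 → orderOf y = 2 → IsConj x y) ∧
      ∀ (X : Sylow 2 M) (I : M), I ∈ (Subgroup.center ↥(X : Subgroup ↥M)).map (X : Subgroup ↥M).subtype → orderOf I = 2 →
        Subgroup.normalizer (((X : Subgroup M).map M.subtype : Subgroup S) : Set S) ≤ M →
        (∀ x y : M, orderOf x = 2 → orderOf y = 2 → IsConj x y) ∧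
          ∃ M₀ : Subgroup M, Odd (Nat.card M₀) ∧
            ∀ m : M, ∃ a ∈ M₀, ∃ c ∈ Subgroup.centralizer ({I} : Set M), m = a * c := by
  classical
  haveI : Fact (Nat.Prime 2) := ⟨Nat.prime_two⟩
  obtain ⟨⟨s, hs⟩, hs2'⟩ := exists_prime_orderOf_dvd_card' (G := ↥M) 2 hM.two_dvd
  have hs2 : orderOf s = 2 := by rwa [Subgroup.orderOf_mk] at hs2'
  -- an involution outside `M`
  obtain ⟨i, hi, hi2⟩ : ∃ i : S, i ∉ M ∧ orderOf i = 2 := by
    by_contra hno
    push Not at hno
    have hscore : s ∈ M.normalCore := fun g => by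
      by_contra h
      exact hno _ h (by rw [CfsgLib.Involutions.orderOf_conj, hs2])
    have h2 := Subgroup.orderOf_dvd_natCard _ hscore
    rw [hs2] at h2
    exact (Nat.not_even_iff_odd.2 hcore) (even_iff_two_dvd.2 h2)
  have hodd : ∀ a b : S, a ∈ M → orderOf a = 2 → b ∉ M → orderOf b = 2 → IsConj a b := by
    intro a b ha ha2 hb hb2
    have ha' := CfsgLib.Involutions.mul_self_eq_one_of_orderOf ha2
    have hb' := CfsgLib.Involutions.mul_self_eq_one_of_orderOf hb2
    have ho : Odd (orderOf (a * b)) := by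
      rw [← Nat.not_even_iff_odd]
      intro he
      obtain ⟨c1, c2⟩ := CfsgLib.Involutions.central_half ha' hb' he
      have hc := hC a ha ha2 (Subgroup.mem_centralizer_singleton_iff.mpr c1.eq)
      exact hb (hC _ hc (CfsgLib.Involutions.orderOf_half he) (Subgroup.mem_centralizer_singleton_iff.mpr c2.eq.symm))
    obtain ⟨d, -, hd⟩ := CfsgLib.Involutions.exists_conj_eq_of_odd ha' hb' ho
    exact isConj_iff.2 ⟨d, hd⟩
  have hall : ∀ x : S, orderOf x = 2 → IsConj x s := by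
    intro x hx
    by_cases hxM : x ∈ M
    · exact (hodd x i hxM hx hi hi2).trans (hodd s i hs hs2 hi hi2).symm
    · exact (hodd s x hs hs2 hxM hx).symm
  refine ⟨fun x y hx hy => (hall x hx).trans (hall y hy).symm, fun X I hI hI2 hN => ?_⟩
  have hMne : M ≠ ⊤ := fun h => hi (h ▸ Subgroup.mem_top i)
  -- `M` is strongly embedded
  have hSE : Cfsg.IsStronglyEmbedded M := by
    refine ⟨hMne, hM, fun g hg => ?_⟩
    rw [← Nat.not_even_iff_odd]
    intro he
    set D := M ⊓ M.map (MulAut.conj g).toMonoidHom with hD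
    obtain ⟨⟨t, ht⟩, ht2'⟩ := exists_prime_orderOf_dvd_card' (G := ↥D) 2 he.two_dvd
    have ht2 : orderOf t = 2 := by rwa [Subgroup.orderOf_mk] at ht2'
    have hpull : ∀ a, a ∈ D → orderOf a = 2 → ∀ c, c * a = a * c → c ∈ D := by
      intro a ha ha2 c hc
      refine ⟨hC a ha.1 ha2 (Subgroup.mem_centralizer_singleton_iff.mpr hc), ?_⟩
      obtain ⟨a', ha', he'⟩ := ha.2
      have e : g * a' * g⁻¹ = a := he'
      have ha'2 : orderOf a' = 2 := by rw [← CfsgLib.Involutions.orderOf_conj g, e, ha2]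
      refine ⟨g⁻¹ * c * g, hC a' ha' ha'2 (Subgroup.mem_centralizer_singleton_iff.mpr ?_), show g * (g⁻¹ * c * g) * g⁻¹ = c by group⟩
      calc g⁻¹ * c * g * a' = g⁻¹ * (c * (g * a' * g⁻¹)) * g := by group
        _ = g⁻¹ * ((g * a' * g⁻¹) * c) * g := by rw [e, hc]
        _ = a' * (g⁻¹ * c * g) := by group
    -- a Sylow subgroup of `M` containing `t`
    obtain ⟨T, hT⟩ := (IsPGroup.of_card (p := 2) (n := 1)
      (show Nat.card (Subgroup.zpowers (⟨t, ht.1⟩ : M)) = 2 ^ 1 by rw [Nat.card_zpowers, Subgroup.orderOf_mk, ht2, pow_one])).exists_le_sylow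
    have htT : (⟨t, ht.1⟩ : M) ∈ (T : Subgroup M) := hT (Subgroup.mem_zpowers _)
    obtain ⟨m, rfl⟩ := MulAction.exists_smul_eq M X T
    obtain ⟨u, hu, hue⟩ := hI
    -- the central involution of `T`
    have hIc : ∀ x ∈ (X : Subgroup M), x * I = I * x := by
      intro x hx
      rw [← hue]
      exact congrArg Subtype.val (Subgroup.mem_center_iff.1 hu ⟨x, hx⟩)
    set z : S := (m : S) * I * (m : S)⁻¹ with hz
    have hz2 : orderOf z = 2 := by rw [hz, CfsgLib.Involutions.orderOf_conj, Subgroup.orderOf_coe, hI2]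
    have hzc : ∀ y : M, y ∈ ((m • X : Sylow 2 M) : Subgroup M) → (y : S) * z = z * y := by
      rintro _ ⟨x, hx, rfl⟩
      have h := congrArg Subtype.val (hIc x hx)
      show (m : S) * x * (m : S)⁻¹ * z = z * ((m : S) * x * (m : S)⁻¹)
      rw [hz]
      calc (m : S) * x * (m : S)⁻¹ * ((m : S) * I * (m : S)⁻¹) = (m : S) * ((x : S) * I) * (m : S)⁻¹ := by group
        _ = (m : S) * ((I : S) * x) * (m : S)⁻¹ := by rw [show (x : S) * I = I * x from h]
        _ = _ := by group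
    have hzD : z ∈ D := hpull t ht ht2 z (hzc _ htT).symm
    have hXD : ∀ y : M, y ∈ ((m • X : Sylow 2 M) : Subgroup M) → (y : S) ∈ D :=
      fun y hy => hpull z hzD hz2 y (hzc y hy)
    -- pull back by `g`
    let X' : Subgroup M := ((((m • X : Sylow 2 M) : Subgroup M).map M.subtype).map (MulAut.conj g⁻¹).toMonoidHom).subgroupOf M
    have hle : ((((m • X : Sylow 2 M) : Subgroup M).map M.subtype).map (MulAut.conj g⁻¹).toMonoidHom) ≤ M := by
      rintro _ ⟨_, ⟨y, hy, rfl⟩, rfl⟩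
      obtain ⟨w, hw, e⟩ := (hXD y hy).2
      have e' : g * w * g⁻¹ = y := e
      show g⁻¹ * (y : S) * g⁻¹⁻¹ ∈ M
      rw [← e']
      simpa [mul_assoc] using hw
    have hX'card : Nat.card X' = Nat.card (X : Subgroup M) := by
      show Nat.card ((((((m • X : Sylow 2 M) : Subgroup M).map M.subtype).map (MulAut.conj g⁻¹).toMonoidHom)).subgroupOf M) = _
      rw [Nat.card_congr (Subgroup.subgroupOfEquivOfLe hle).toEquiv,
        Subgroup.card_map_of_injective (MulAut.conj g⁻¹).injective, Subgroup.card_subtype]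
      exact Nat.card_congr (Sylow.equiv (m • X) X).toEquiv
    obtain ⟨k, hk⟩ := X.2.exists_card_eq
    obtain ⟨U, hU⟩ := (IsPGroup.of_card (p := 2) (n := k) (hX'card.trans hk)).exists_le_sylow
    obtain ⟨h, rfl⟩ := MulAction.exists_smul_eq M X U
    apply hg
    have hnorm : (h : S)⁻¹ * g⁻¹ * m ∈ M := by
      apply hN
      apply Subgroup.mem_normalizer_fintype
      rintro _ ⟨x, hx, rfl⟩
      have hy : (⟨(m : S) * x * (m : S)⁻¹, M.mul_mem (M.mul_mem m.2 x.2) (M.inv_mem m.2)⟩ : M) ∈ ((m • X : Sylow 2 M) : Subgroup M) :=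
        ⟨x, hx, rfl⟩
      have hmem : g⁻¹ * ((m : S) * x * (m : S)⁻¹) * g⁻¹⁻¹ ∈ M := hle ⟨_, ⟨_, hy, rfl⟩, rfl⟩
      obtain ⟨x', hx', e⟩ := hU (x := ⟨_, hmem⟩) ⟨_, ⟨_, hy, rfl⟩, rfl⟩
      refine ⟨x', hx', ?_⟩
      have e' : (h : S) * x' * (h : S)⁻¹ = g⁻¹ * ((m : S) * x * (m : S)⁻¹) * g⁻¹⁻¹ := congrArg Subtype.val e
      show (x' : S) = (h : S)⁻¹ * g⁻¹ * m * (x : S) * ((h : S)⁻¹ * g⁻¹ * m)⁻¹
      calc (x' : S) = (h : S)⁻¹ * ((h : S) * x' * (h : S)⁻¹) * h := by group
        _ = _ := by rw [e']; group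
    have := M.mul_mem (M.mul_mem h.2 hnorm) (M.inv_mem m.2)
    have e : (h : S) * ((h : S)⁻¹ * g⁻¹ * m) * (m : S)⁻¹ = g⁻¹ := by group
    rw [e] at this
    simpa using M.inv_mem this
  refine ⟨fun x y hx hy => ?_, ?_⟩
  · obtain ⟨d, hd, he⟩ := CfsgLib.StrongEmb.exists_conj_in_inter hSE hi2 hi x.2
      (by rwa [Subgroup.orderOf_coe]) y.2 (by rwa [Subgroup.orderOf_coe])
    exact isConj_iff.2 ⟨⟨d, hd.1⟩, Subtype.ext he⟩
  · refine ⟨(M ⊓ M.map (MulAut.conj i).toMonoidHom).subgroupOf M, ?_, fun m => ?_⟩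
    · rw [Nat.card_congr (Subgroup.subgroupOfEquivOfLe inf_le_left).toEquiv]
      exact hSE.2.2 i hi
    · obtain ⟨d, hd, he⟩ := CfsgLib.StrongEmb.exists_conj_in_inter hSE hi2 hi I.2
        (by rwa [Subgroup.orderOf_coe]) (M.mul_mem (M.mul_mem m.2 I.2) (M.inv_mem m.2))
        (by rw [CfsgLib.Involutions.orderOf_conj, Subgroup.orderOf_coe, hI2])
      refine ⟨⟨d, hd.1⟩, hd, ⟨d, hd.1⟩⁻¹ * m, Subgroup.mem_centralizer_singleton_iff.2 (Subtype.ext ?_), (mul_inv_cancel_left _ _).symm⟩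
      show d⁻¹ * m * I = I * (d⁻¹ * m)
      calc d⁻¹ * (m : S) * I = d⁻¹ * ((m : S) * I * (m : S)⁻¹) * m := by group
        _ = d⁻¹ * (d * I * d⁻¹) * m := by rw [he]
        _ = I * (d⁻¹ * m) := by group

end Cfsg.Agent.S1905
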