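import Cfsg.Statements.S1906
import Cfsg.Agent.Lib.InvolutionDiag
import Mathlib

set_option autoImplicit false
set_option linter.style.haveILetI false
open Cfsg

namespace Cfsg.Agent.S1906

open MulAction

/-- A central involution of a Sylow `2`-subgroup fixed by its normaliser lies in the kernel of every
homomorphism to the units of a finite field, when there is no subgroup of index two. -/
theorem transfer_central {G : Type*} [Group G] [Finite G] (hG : ∀ H : Subgroup G, H.index ≠ 2)
    (P : Sylow 2 G) {F : Type*} [Field F] [Fintype F] (φ : ↥(P : Subgroup G) →* Fˣ)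
    (z : ↥(P : Subgroup G)) (hz2 : z ^ 2 = 1) (hzc : ∀ x, x * z = z * x)
    (hfix : ∀ n ∈ Subgroup.normalizer ((P : Subgroup G) : Set G), n⁻¹ * (z : G) * n = z) :
    φ z = 1 := by
  classical
  by_contra hne
  have hsq : ∀ y : (P : Subgroup G), y ^ 2 = 1 → φ y = 1 ∨ φ y = -1 := by
    intro y hy
    have h : ((φ y : Fˣ) : F) * (φ y : F) = 1 := by rw [← Units.val_mul, ← map_mul, ← pow_two, hy, map_one, Units.val_one]
    rcases mul_self_eq_one_iff.mp h with h | h
    · exact Or.inl (Units.ext h)
    · exact Or.inr (Units.ext (by rw [h, Units.val_neg, Units.val_one]))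
  have hm1 : φ z = -1 := (hsq z hz2).resolve_left hne
  have hne1 : (-1 : Fˣ) ≠ 1 := hm1 ▸ hne
  let u : G := z
  have hu : u ^ 2 = 1 := congrArg Subtype.val hz2
  have huc : ∀ x ∈ (P : Subgroup G), x * u = u * x := fun x hx => congrArg Subtype.val (hzc ⟨x, hx⟩)
  let val : G → Fˣ := fun g => if h : g⁻¹ * u * g ∈ (P : Subgroup G) then φ ⟨_, h⟩ else 1
  let D : Set (G ⧸ (P : Subgroup G)) := {q | u • q = q ∧ val q.out = -1}
  have hmem : ∀ g : G, (g : G ⧸ (P : Subgroup G)) ∈ D ↔ ∃ h : g⁻¹ * u * g ∈ (P : Subgroup G), φ ⟨_, h⟩ = -1 := by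
    intro g
    set g' := (g : G ⧸ (P : Subgroup G)).out with hg'
    have hs : g⁻¹ * g' ∈ (P : Subgroup G) := QuotientGroup.eq.mp (QuotientGroup.out_eq' _).symm
    set s : (P : Subgroup G) := ⟨g⁻¹ * g', hs⟩ with hsdef
    have e : g'⁻¹ * u * g' = (g⁻¹ * g')⁻¹ * (g⁻¹ * u * g) * (g⁻¹ * g') := by group
    constructor
    · rintro ⟨hq, hv⟩
      have hgm : g⁻¹ * u * g ∈ (P : Subgroup G) := by
        rw [MulAction.Quotient.smul_mk, smul_eq_mul, QuotientGroup.eq] at hq
        rw [show g⁻¹ * u * g = ((u * g)⁻¹ * g)⁻¹ by group]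
        exact inv_mem hq
      refine ⟨hgm, ?_⟩
      have hgm' : g'⁻¹ * u * g' ∈ (P : Subgroup G) := e ▸ mul_mem (mul_mem (inv_mem hs) hgm) hs
      rw [show val g' = φ ⟨_, hgm'⟩ from dif_pos hgm',
        show (⟨g'⁻¹ * u * g', hgm'⟩ : (P : Subgroup G)) = s⁻¹ * ⟨_, hgm⟩ * s from Subtype.ext e, map_mul, map_mul,
        map_inv, mul_right_comm, inv_mul_cancel, one_mul] at hv
      exact hv
    · rintro ⟨hgm, hv⟩
      have hgm' : g'⁻¹ * u * g' ∈ (P : Subgroup G) := e ▸ mul_mem (mul_mem (inv_mem hs) hgm) hs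
      refine ⟨?_, ?_⟩
      · rw [MulAction.Quotient.smul_mk, smul_eq_mul, QuotientGroup.eq,
          show (u * g)⁻¹ * g = (g⁻¹ * u * g)⁻¹ by group]
        exact inv_mem hgm
      · rw [show val g' = φ ⟨_, hgm'⟩ from dif_pos hgm',
          show (⟨g'⁻¹ * u * g', hgm'⟩ : (P : Subgroup G)) = s⁻¹ * ⟨_, hgm⟩ * s from Subtype.ext e, map_mul, map_mul,
          map_inv, mul_right_comm, inv_mul_cancel, one_mul]
        exact hv
  -- an odd number of such cosets
  have hodd : Odd (Nat.card D) := by
    have hsm : ∀ x ∈ (P : Subgroup G), ∀ q ∈ D, x • q ∈ D := by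
      intro x hx q hq
      obtain ⟨g, rfl⟩ := QuotientGroup.mk_surjective q
      rw [MulAction.Quotient.smul_mk, smul_eq_mul, hmem]
      obtain ⟨h, hv⟩ := (hmem g).mp hq
      have e : (x * g)⁻¹ * u * (x * g) = g⁻¹ * u * g := by
        rw [show (x * g)⁻¹ * u * (x * g) = g⁻¹ * (x⁻¹ * (u * x)) * g by group, ← huc x hx, inv_mul_cancel_left]
      exact ⟨e ▸ h, by rw [← hv]; congr 1; exact Subtype.ext e⟩
    letI : MulAction (P : Subgroup G) D :=
      { smul := fun x q => ⟨(x : G) • (q : G ⧸ (P : Subgroup G)), hsm x x.2 q q.2⟩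
        one_smul := fun q => Subtype.ext (one_smul G _)
        mul_smul := fun a b q => Subtype.ext (mul_smul (a : G) b _) }
    have hfp : ∀ q : G ⧸ (P : Subgroup G), q ∈ MulAction.fixedPoints (P : Subgroup G) (G ⧸ (P : Subgroup G)) → q ∈ D := by
      intro q hq
      obtain ⟨g, rfl⟩ := QuotientGroup.mk_surjective q
      rw [Sylow.mem_fixedPoints_mul_left_cosets_iff_mem_normalizer] at hq
      have e := hfix g hq
      rw [hmem]
      exact ⟨(e.symm ▸ z.2 : g⁻¹ * u * g ∈ (P : Subgroup G)), by rw [← hm1]; congr 1; exact Subtype.ext e⟩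
    have h1 := IsPGroup.card_modEq_card_fixedPoints P.2 D
    have h2 := IsPGroup.card_modEq_card_fixedPoints P.2 (G ⧸ (P : Subgroup G))
    have hcard : Nat.card (MulAction.fixedPoints (P : Subgroup G) D) = Nat.card (MulAction.fixedPoints (P : Subgroup G) (G ⧸ (P : Subgroup G))) :=
      Nat.card_congr
        { toFun := fun q => ⟨q.1.1, fun x => congrArg Subtype.val (q.2 x)⟩
          invFun := fun q => ⟨⟨q.1, hfp _ q.2⟩, fun x => Subtype.ext (q.2 x)⟩
          left_inv := fun _ => rfl
          right_inv := fun _ => rfl }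
    rw [hcard] at h1
    have h3 : Nat.card D ≡ (P : Subgroup G).index [MOD 2] := h1.trans (h2.symm.trans (by rw [Subgroup.index]))
    have h4 : ¬ 2 ∣ (P : Subgroup G).index := P.not_dvd_index
    rw [Nat.odd_iff]
    have := Nat.two_dvd_ne_zero.mp h4
    rw [Nat.ModEq] at h3
    omega
  let V : G →* Fˣ := MonoidHom.transfer φ
  haveI : Fintype (Quotient (MulAction.orbitRel (Subgroup.zpowers u) (G ⧸ (P : Subgroup G)))) := Fintype.ofFinite _
  have hm : ∀ q : G ⧸ (P : Subgroup G), Function.minimalPeriod (u • ·) q = 1 ∨ Function.minimalPeriod (u • ·) q = 2 := by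
    intro q
    refine (Nat.dvd_prime Nat.prime_two).mp (Function.IsPeriodicPt.minimalPeriod_dvd ?_)
    show (fun x : G ⧸ (P : Subgroup G) => u • x)^[2] q = q
    rw [smul_iterate, hu]
    exact one_smul G q
  let T := Finset.univ.filter fun o : Quotient (MulAction.orbitRel (Subgroup.zpowers u) (G ⧸ (P : Subgroup G))) => o.out ∈ D
  have hV : V u = (-1) ^ T.card := by
    show MonoidHom.transfer φ u = _
    rw [MonoidHom.transfer_eq_prod_quotient_orbitRel_zpowers_quot, ← Finset.prod_const, Finset.prod_filter]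
    refine Finset.prod_congr rfl fun o _ => ?_
    have hval : ∀ (m : ℕ) (g₀ : G) (hmem' : g₀⁻¹ * u ^ m * g₀ ∈ (P : Subgroup G)), m = 1 ∨ m = 2 →
        (g₀ : G ⧸ (P : Subgroup G)) = o.out → Function.minimalPeriod (u • ·) o.out = m →
        φ ⟨g₀⁻¹ * u ^ m * g₀, hmem'⟩ = if o.out ∈ D then -1 else 1 := by
      rintro m g₀ hmem' (rfl | rfl) hg hper
      · have h1 : g₀⁻¹ * u * g₀ ∈ (P : Subgroup G) := by simpa using hmem'
        have e : (⟨g₀⁻¹ * u ^ 1 * g₀, hmem'⟩ : (P : Subgroup G)) = ⟨_, h1⟩ := Subtype.ext (by simp)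
        rw [e]
        by_cases hD : o.out ∈ D
        · rw [if_pos hD]
          rw [← hg] at hD
          exact ((hmem g₀).mp hD).2
        · rw [if_neg hD]
          refine (hsq _ (Subtype.ext ?_)).resolve_right fun h => hD (hg ▸ (hmem g₀).mpr ⟨h1, h⟩)
          show (g₀⁻¹ * u * g₀) ^ 2 = 1
          rw [pow_two, show g₀⁻¹ * u * g₀ * (g₀⁻¹ * u * g₀) = g₀⁻¹ * (u * u) * g₀ by group, ← pow_two, hu]
          group
      · have hnD : o.out ∉ D := fun h => by
          have h1 : Function.minimalPeriod (fun x : G ⧸ (P : Subgroup G) => u • x) o.out = 1 :=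
            Function.minimalPeriod_eq_one_iff_isFixedPt.mpr h.1
          rw [h1] at hper; omega
        rw [if_neg hnD, show (⟨g₀⁻¹ * u ^ 2 * g₀, hmem'⟩ : (P : Subgroup G)) = 1 from Subtype.ext (by simp [hu]), map_one]
    exact hval _ _ _ (hm o.out) (QuotientGroup.out_eq' _) rfl
  have hT : T.card = Nat.card D := by
    rw [← Nat.card_eq_finsetCard]
    refine Nat.card_congr (Equiv.ofBijective (fun o => (⟨o.1.out, (Finset.mem_filter.mp o.2).2⟩ : D)) ⟨?_, ?_⟩)
    · intro a b h
      have := congrArg (Quotient.mk (MulAction.orbitRel (Subgroup.zpowers u) (G ⧸ (P : Subgroup G)))) (congrArg Subtype.val h)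
      simp only [Quotient.out_eq] at this
      exact Subtype.ext this
    · intro q
      have he : (Quotient.mk (MulAction.orbitRel (Subgroup.zpowers u) (G ⧸ (P : Subgroup G))) q.1).out = q.1 := by
        obtain ⟨⟨w, k, rfl⟩, hw⟩ := MulAction.orbitRel_apply.mp
          (Quotient.mk_out (s := MulAction.orbitRel (Subgroup.zpowers u) (G ⧸ (P : Subgroup G))) q.1)
        rw [← hw]
        show (u ^ k) • q.1 = q.1
        have h1 : u ∈ MulAction.stabilizer G q.1 := q.2.1
        exact zpow_mem h1 k
      exact ⟨⟨Quotient.mk _ q.1, Finset.mem_filter.mpr ⟨Finset.mem_univ _, he.symm ▸ q.2⟩⟩, Subtype.ext he⟩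
  rw [hT, hodd.neg_one_pow] at hV
  -- a cyclic image of even order gives a subgroup of index two
  obtain ⟨w, hw⟩ := IsCyclic.exists_generator (α := ↥V.range)
  have hord : orderOf w = Nat.card V.range := orderOf_eq_card_of_forall_mem_zpowers hw
  have h2dvd : 2 ∣ orderOf w := by
    rw [hord]
    have : orderOf (⟨V u, u, rfl⟩ : V.range) = 2 := by
      rw [← Subgroup.orderOf_coe]
      show orderOf (V u) = 2
      exact orderOf_eq_prime (by rw [hV]; simp) (by rw [hV]; exact hne1)
    rw [← this]
    exact orderOf_dvd_natCard _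
  refine hG ((Subgroup.zpowers (w ^ 2)).comap V.rangeRestrict) ?_
  rw [Subgroup.index_comap_of_surjective _ V.rangeRestrict_surjective]
  have h := Subgroup.card_mul_index (Subgroup.zpowers (w ^ 2))
  rw [Nat.card_zpowers, orderOf_pow' w (by norm_num), Nat.gcd_eq_right h2dvd, ← hord] at h
  have hpos := orderOf_pos w
  obtain ⟨k, hk⟩ := h2dvd
  rw [hk, Nat.mul_div_cancel_left _ (by norm_num : 0 < 2)] at h
  exact mul_left_cancel₀ (by omega : k ≠ 0) (h.trans (mul_comm 2 k))

/-- Elementary abelian subgroups of order at least eight of `GL₃` in odd characteristic contain `-1`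
and have abelian centraliser. -/
theorem diag_eight {K : Type*} [Group K] [Finite K] {F : Type*} [Field F] (h2 : (2 : F) ≠ 0)
    (f : K →* GL (Fin 3) F) (hf : Function.Injective f) (E : Subgroup K)
    (hEc : ∀ a ∈ E, ∀ b ∈ E, a * b = b * a) (hE2 : ∀ a ∈ E, a ^ 2 = 1) (hE8 : 8 ≤ Nat.card E) :
    (∃ z ∈ E, (f z).1 = -1) ∧
      ∀ x y : K, (∀ e ∈ E, x * e = e * x) → (∀ e ∈ E, y * e = e * y) → x * y = y * x := by
  classical
  haveI : Fintype E := Fintype.ofFinite _
  obtain ⟨P, s, hs, hA⟩ := CfsgLib.InvolutionDiag.exists_diag h2 (fun e : E => (f e).1)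
    (fun e => by rw [← Units.val_mul, ← map_mul, ← pow_two, hE2 e e.2, map_one, Units.val_one])
    (fun a b => by rw [← Units.val_mul, ← Units.val_mul, ← map_mul, ← map_mul, hEc a a.2 b b.2])
  let g : E → Fin 3 → Bool := fun e j => decide (s e j = 1)
  have hg : Function.Injective g := by
    intro a b h
    have hsab : s a = s b := funext fun j => by
      have hj := congrFun h j
      simp only [g, decide_eq_decide] at hj
      rcases hs a j with ea | ea <;> rcases hs b j with eb | eb
      · rw [ea, eb]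
      · rw [hj.mp ea, ea]
      · rw [hj.mpr eb, eb]
      · rw [ea, eb]
    exact Subtype.ext (hf (Units.ext (by rw [hA a, hA b, hsab])))
  have hbij : Function.Bijective g := by
    refine hg.bijective_of_nat_card_le ?_
    rw [Nat.card_eq_fintype_card, Fintype.card_fun, Fintype.card_bool, Fintype.card_fin]
    simpa using hE8
  have hPP : P.1 * (P⁻¹).1 = 1 := by rw [← Units.val_mul, mul_inv_cancel, Units.val_one]
  have hPP' : (P⁻¹).1 * P.1 = 1 := by rw [← Units.val_mul, inv_mul_cancel, Units.val_one]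
  constructor
  · obtain ⟨e, he⟩ := hbij.2 (fun _ => false)
    refine ⟨e, e.2, ?_⟩
    have hse : s e = fun _ => (-1 : F) := funext fun j => by
      have hj := congrFun he j
      simp only [g, decide_eq_false_iff_not] at hj
      exact (hs e j).resolve_left hj
    rw [hA e, hse, show Matrix.diagonal (fun _ : Fin 3 => (-1 : F)) = -1 by
      rw [← Matrix.diagonal_one, Matrix.diagonal_neg], mul_neg, mul_one, neg_mul, hPP]
  · have key : ∀ x : K, (∀ e ∈ E, x * e = e * x) →
        ∃ d : Fin 3 → F, (P⁻¹).1 * (f x).1 * P.1 = Matrix.diagonal d := by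
      intro x hx
      set M := (P⁻¹).1 * (f x).1 * P.1 with hM
      refine ⟨fun i => M i i, ?_⟩
      have hcomm : ∀ e : E, M * Matrix.diagonal (s e) = Matrix.diagonal (s e) * M := by
        intro e
        have h := congrArg Units.val (congrArg f (hx e e.2))
        rw [map_mul, map_mul, Units.val_mul, Units.val_mul, hA e] at h
        have h' := congrArg (fun A => (P⁻¹).1 * A * P.1) h
        simp only [hM, ← mul_assoc, hPP', one_mul] at h' ⊢
        simp only [mul_assoc, hPP', mul_one] at h' ⊢
        exact h'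
      ext i j
      rcases eq_or_ne i j with rfl | hij
      · simp
      · rw [Matrix.diagonal_apply_ne _ hij]
        obtain ⟨e, he⟩ := hbij.2 (fun k => decide (k = i))
        have hi : s e i = 1 := by simpa [g] using congrFun he i
        have hj : s e j = -1 := by
          refine (hs e j).resolve_left ?_
          simpa [g, hij.symm] using congrFun he j
        have h := congrFun (congrFun (hcomm e) i) j
        rw [Matrix.mul_diagonal, Matrix.diagonal_mul, hi, hj] at h
        have h0 : (2 : F) * M i j = 0 := by linear_combination -h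
        exact (mul_eq_zero.mp h0).resolve_left h2
    intro x y hx hy
    obtain ⟨a, ha⟩ := key x hx
    obtain ⟨b, hb⟩ := key y hy
    refine hf (Units.ext ?_)
    have e1 : ∀ A : Matrix (Fin 3) (Fin 3) F, A = P.1 * ((P⁻¹).1 * A * P.1) * (P⁻¹).1 := fun A => by
      simp only [← mul_assoc, hPP, one_mul]
      simp only [mul_assoc, hPP, mul_one]
    rw [map_mul, map_mul, Units.val_mul, Units.val_mul, e1 (f x).1, e1 (f y).1, ha, hb]
    have e2 : ∀ A B : Matrix (Fin 3) (Fin 3) F,
        P.1 * A * (P⁻¹).1 * (P.1 * B * (P⁻¹).1) = P.1 * (A * B) * (P⁻¹).1 := fun A B => by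
      simp only [mul_assoc]
      rw [← mul_assoc (P⁻¹).1 P.1, hPP', one_mul]
    rw [e2, e2, Matrix.diagonal_mul_diagonal, Matrix.diagonal_mul_diagonal]
    simp_rw [mul_comm (a _)]

/-- Let G be a finite group with no subgroup of index 2 whose Sylow 2-subgroup X embeds in GL₃(F) for a finite field F of odd order. If X contains an elementary abelian subgroup of order 8, then X is abelian. -/
theorem result {G : Type*} [Group G] [Finite G] (hG : ∀ H : Subgroup G, H.index ≠ 2) (X : Sylow 2 G)
    {F : Type*} [Field F] [Fintype F] (hF : Odd (Fintype.card F))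
    (f : ↥(X : Subgroup G) →* GL (Fin 3) F) (hf : Function.Injective f)
    (E : Subgroup G) (hE : E ≤ (X : Subgroup G)) (hEa : Cfsg.IsElementaryAbelian 2 E) (hE8 : Nat.card E = 8) :
    IsMulCommutative (X : Subgroup G) := by
  classical
  haveI : Fact (Nat.Prime 2) := ⟨Nat.prime_two⟩
  have h2 : (2 : F) ≠ 0 := Ring.two_ne_zero fun h => by
    rw [FiniteField.even_card_iff_char_two] at h
    rw [Nat.odd_iff] at hF
    omega
  obtain ⟨z, hzE, hfz⟩ : ∃ z : (X : Subgroup G), z ∈ E.subgroupOf (X : Subgroup G) ∧ (f z).1 = -1 := by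
    refine (diag_eight h2 f hf (E.subgroupOf (X : Subgroup G)) ?_ ?_ ?_).1
    · intro a ha b hb
      exact Subtype.ext ((congrArg Subtype.val (hEa.1.is_comm.comm (⟨(a : G), ha⟩ : E) ⟨(b : G), hb⟩) :))
    · intro a ha
      exact Subtype.ext (hEa.2 _ ha)
    · rw [Nat.card_congr (Subgroup.subgroupOfEquivOfLe hE).toEquiv, hE8]
  have hz2 : z ^ 2 = 1 := Subtype.ext (hEa.2 _ hzE)
  have hzc : ∀ x, x * z = z * x := fun x => hf (Units.ext (by
    rw [map_mul, map_mul, Units.val_mul, Units.val_mul, hfz, mul_neg, mul_one, neg_mul, one_mul]))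
  by_contra hnab
  let φ : (X : Subgroup G) →* Fˣ := Matrix.GeneralLinearGroup.det.comp f
  have hφz : φ z = -1 := Units.ext (by
    show ((f z).1).det = ((-1 : Fˣ) : F)
    rw [hfz, Matrix.det_neg, Matrix.det_one]
    simp; norm_num)
  have hne : (-1 : Fˣ) ≠ 1 := fun h => h2 (by
    have h' : ((-1 : Fˣ) : F) = ((1 : Fˣ) : F) := congrArg Units.val h
    rw [Units.val_neg, Units.val_one] at h'
    linear_combination -h')
  -- the central involutions
  let Ω : Subgroup (X : Subgroup G) :=
    { carrier := {x | x ∈ Subgroup.center (X : Subgroup G) ∧ x ^ 2 = 1}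
      one_mem' := ⟨one_mem _, one_pow 2⟩
      mul_mem' := fun {a b} ha hb => ⟨mul_mem ha.1 hb.1, by
        rw [(show Commute a b from (Subgroup.mem_center_iff.mp ha.1 b).symm).mul_pow, ha.2, hb.2, one_mul]⟩
      inv_mem' := fun {a} ha => ⟨inv_mem ha.1, by rw [inv_pow, ha.2, inv_one]⟩ }
  have hΩ : Nat.card Ω ≤ 4 := by
    by_contra hlt
    have hpg : IsPGroup 2 Ω := X.2.to_subgroup Ω
    obtain ⟨k, hk⟩ := IsPGroup.iff_card.mp hpg
    have h8 : 8 ≤ Nat.card Ω := by
      rw [hk] at hlt ⊢
      have : 2 < k := (Nat.pow_lt_pow_iff_right (by norm_num : 1 < 2)).mp (by norm_num; omega)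
      calc 8 = 2 ^ 3 := by norm_num
        _ ≤ 2 ^ k := Nat.pow_le_pow_right (by norm_num) this
    refine hnab ⟨⟨fun x y => (diag_eight h2 f hf Ω (fun a ha b _ => (Subgroup.mem_center_iff.mp ha.1 b).symm)
      (fun a ha => ha.2) h8).2 x y ?_ ?_⟩⟩
    · exact fun e he => Subgroup.mem_center_iff.mp he.1 x
    · exact fun e he => Subgroup.mem_center_iff.mp he.1 y
  -- a central involution in the derived group
  obtain ⟨w, hw, hw1, hwc⟩ : ∃ w : (X : Subgroup G), w ∈ Ω ∧ w ≠ 1 ∧ w ∈ commutator (X : Subgroup G) := by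
    have hne' : commutator (X : Subgroup G) ≠ ⊥ := fun h => hnab ⟨⟨fun a b => by
      have := Subgroup.commutator_mem_commutator (Subgroup.mem_top a) (Subgroup.mem_top b)
      rw [show ⁅(⊤ : Subgroup (X : Subgroup G)), ⊤⁆ = commutator (X : Subgroup G) from (commutator_def (X : Subgroup G)).symm, h, Subgroup.mem_bot,
        commutatorElement_eq_one_iff_commute] at this
      exact this⟩⟩
    have hnt := (Subgroup.nontrivial_iff_ne_bot _).mpr hne'
    haveI : (commutator ↥(X : Subgroup G)).Normal := inferInstance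
    have hdvd : 2 ∣ Nat.card (commutator (X : Subgroup G)) := by
      obtain ⟨k, hk⟩ := IsPGroup.iff_card.mp (X.2.to_subgroup (commutator (X : Subgroup G)))
      rw [hk]
      refine dvd_pow_self 2 fun h0 => ?_
      rw [h0, pow_zero] at hk
      exact hne' (Subgroup.card_eq_one.mp hk)
    obtain ⟨c, hc, hc1⟩ := IsPGroup.exists_fixed_point_of_prime_dvd_card_of_fixed_point
      (G := ConjAct (X : Subgroup G)) (p := 2) (X.2.of_equiv ConjAct.toConjAct) (commutator (X : Subgroup G)) hdvd (a := 1) (fun g => smul_one g)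
    have hccen : (c : (X : Subgroup G)) ∈ Subgroup.center (X : Subgroup G) := Subgroup.mem_center_iff.mpr fun g => by
      have h := congrArg Subtype.val (hc (ConjAct.toConjAct g))
      rw [ConjAct.Subgroup.val_conj_smul, ConjAct.smul_def, ConjAct.ofConjAct_toConjAct, mul_inv_eq_iff_eq_mul] at h
      exact h
    obtain ⟨k, hk, hkord⟩ : ∃ k : ℕ, (c : (X : Subgroup G)) ^ k ≠ 1 ∧ ((c : (X : Subgroup G)) ^ k) ^ 2 = 1 := by
      obtain ⟨j, hj⟩ := X.2 (c : (X : Subgroup G))
      have hex : ∃ j, (c : (X : Subgroup G)) ^ (2 ^ j) = 1 := ⟨j, hj⟩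
      have h0 : Nat.find hex ≠ 0 := fun h => by
        have := Nat.find_spec hex
        rw [h, pow_zero, pow_one] at this
        exact hc1 (Subtype.ext this.symm)
      obtain ⟨i, hi⟩ := Nat.exists_eq_succ_of_ne_zero h0
      refine ⟨2 ^ i, Nat.find_min hex (by omega), ?_⟩
      rw [← pow_mul, ← pow_succ]
      have := Nat.find_spec hex
      rwa [hi] at this
    exact ⟨(c : (X : Subgroup G)) ^ k, ⟨pow_mem hccen k, hkord⟩, hk, pow_mem c.2 k⟩
  have hφw : φ w = 1 := by
    have h : commutator (X : Subgroup G) ≤ φ.ker := by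
      rw [commutator_def, Subgroup.commutator_le]
      intro a _ b _
      rw [MonoidHom.mem_ker, map_commutatorElement, commutatorElement_eq_one_iff_commute]
      exact Commute.all _ _
    exact h hwc
  have hzΩ : z ∈ Ω := ⟨Subgroup.mem_center_iff.mpr hzc, hz2⟩
  have hzw : z * w ∈ Ω := mul_mem hzΩ hw
  have hd1 : z ≠ 1 := fun h => hne (by rw [← hφz, h, map_one])
  have hd2 : z * w ≠ 1 := fun h => hne (by rw [← hφz, show φ z = φ (z * w) by rw [map_mul, hφw, mul_one], h, map_one])
  have hd3 : z ≠ w := fun h => hne (by rw [← hφz, h]; exact hφw)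
  have hd4 : z * w ≠ z := fun h => hw1 (by simpa using h)
  have hd5 : z * w ≠ w := fun h => hd1 (by simpa using h)
  have hall : ∀ x ∈ Ω, x = 1 ∨ x = z ∨ x = w ∨ x = z * w := by
    intro x hx
    haveI := Fintype.ofFinite Ω
    let S : Finset Ω := {1, ⟨z, hzΩ⟩, ⟨w, hw⟩, ⟨z * w, hzw⟩}
    have hS : S.card = 4 := by
      refine Finset.card_eq_four.mpr ⟨_, _, _, _, ?_, ?_, ?_, ?_, ?_, ?_, rfl⟩
      all_goals intro h
      · exact hd1.symm (congrArg Subtype.val h)
      · exact hw1.symm (congrArg Subtype.val h)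
      · exact hd2.symm (congrArg Subtype.val h)
      · exact hd3 (congrArg Subtype.val h)
      · exact hd4.symm (congrArg Subtype.val h)
      · exact hd5.symm (congrArg Subtype.val h)
    have huniv : S = Finset.univ := Finset.eq_univ_of_card S (le_antisymm (Finset.card_le_univ _)
      (by rw [hS, ← Nat.card_eq_fintype_card]; exact hΩ))
    have hm : (⟨x, hx⟩ : Ω) ∈ S := huniv ▸ Finset.mem_univ _
    simp only [S, Finset.mem_insert, Finset.mem_singleton] at hm
    rcases hm with h | h | h | h
    · exact Or.inl (congrArg Subtype.val h)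
    · exact Or.inr (Or.inl (congrArg Subtype.val h))
    · exact Or.inr (Or.inr (Or.inl (congrArg Subtype.val h)))
    · exact Or.inr (Or.inr (Or.inr (congrArg Subtype.val h)))
  have hfix : ∀ n ∈ Subgroup.normalizer ((X : Subgroup G) : Set G), n⁻¹ * (z : G) * n = z := by
    let c : ∀ n, n ∈ Subgroup.normalizer ((X : Subgroup G) : Set G) → ↥(X : Subgroup G) → ↥(X : Subgroup G) := fun n hn x =>
      ⟨n⁻¹ * x * n, (Subgroup.mem_normalizer_iff''.mp hn _).mp x.2⟩
    have hcinv : ∀ n hn (x : (X : Subgroup G)), c n hn (c n⁻¹ (inv_mem hn) x) = x := fun n hn x =>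
      Subtype.ext (show n⁻¹ * (n⁻¹⁻¹ * (x : G) * n⁻¹) * n = x by group)
    have hcmul : ∀ n hn (x y : (X : Subgroup G)), c n hn (x * y) = c n hn x * c n hn y := fun n hn x y =>
      Subtype.ext (show n⁻¹ * ((x : G) * y) * n = n⁻¹ * x * n * (n⁻¹ * y * n) by group)
    have hcΩ : ∀ n hn, ∀ x ∈ Ω, c n hn x ∈ Ω := by
      intro n hn x hx
      refine ⟨Subgroup.mem_center_iff.mpr fun y => ?_, ?_⟩
      · conv_lhs => rw [← hcinv n hn y]
        conv_rhs => rw [← hcinv n hn y]
        rw [← hcmul n hn, ← hcmul n hn, Subgroup.mem_center_iff.mp hx.1]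
      · rw [pow_two, ← hcmul n hn, ← pow_two, hx.2]
        exact Subtype.ext (show n⁻¹ * (1 : G) * n = 1 by group)
    have hcw : ∀ n hn, c n hn w = w := by
      intro n hn
      have hmemc : c n hn w ∈ commutator (X : Subgroup G) := by
        let e : (X : Subgroup G) →* (X : Subgroup G) := MonoidHom.mk' (c n hn) (hcmul n hn)
        have h : (commutator (X : Subgroup G)).map e ≤ commutator (X : Subgroup G) := by
          rw [commutator_def, Subgroup.map_commutator]
          exact Subgroup.commutator_mono le_top le_top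
        exact h ⟨w, hwc, rfl⟩
      have hφ1 : φ (c n hn w) = 1 := by
        have h : commutator (X : Subgroup G) ≤ φ.ker := by
          rw [commutator_def, Subgroup.commutator_le]
          intro a _ b _
          rw [MonoidHom.mem_ker, map_commutatorElement, commutatorElement_eq_one_iff_commute]
          exact Commute.all _ _
        exact h hmemc
      rcases hall _ (hcΩ n hn w hw) with h | h | h | h
      · exfalso
        refine hw1 (Subtype.ext ?_)
        have h' : n⁻¹ * (w : G) * n = 1 := congrArg Subtype.val h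
        calc (w : G) = n * (n⁻¹ * (w : G) * n) * n⁻¹ := by group
          _ = 1 := by rw [h']; group
      · exact absurd hφ1 (by rw [h, hφz]; exact hne)
      · exact h
      · exact absurd hφ1 (by rw [h, map_mul, hφz, hφw, mul_one]; exact hne)
    have hstep : ∀ n hn, c n hn z = z ∨ c n hn z = z * w := by
      intro n hn
      rcases hall _ (hcΩ n hn z hzΩ) with h | h | h | h
      · exfalso
        refine hd1 (Subtype.ext ?_)
        have h' : n⁻¹ * (z : G) * n = 1 := congrArg Subtype.val h
        calc (z : G) = n * (n⁻¹ * (z : G) * n) * n⁻¹ := by group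
          _ = 1 := by rw [h']; group
      · exact Or.inl h
      · exfalso
        refine hd3 (Subtype.ext ?_)
        have h' : n⁻¹ * (z : G) * n = n⁻¹ * (w : G) * n :=
          congrArg Subtype.val (h.trans (hcw n hn).symm)
        exact mul_left_cancel (mul_right_cancel h')
      · exact Or.inr h
    intro n hn
    rcases hstep n hn with h | h
    · exact congrArg Subtype.val h
    · exfalso
      -- powers of `n` alternate
      have halt : ∀ k : ℕ, c (n ^ k) (pow_mem hn k) z = if Even k then z else z * w := by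
        intro k
        induction k with
        | zero => exact Subtype.ext (by simp [c])
        | succ k ih =>
          have e : c (n ^ (k + 1)) (pow_mem hn _) z = c n hn (c (n ^ k) (pow_mem hn k) z) :=
            Subtype.ext (show (n ^ (k + 1))⁻¹ * (z : G) * n ^ (k + 1) = n⁻¹ * ((n ^ k)⁻¹ * z * n ^ k) * n by
              rw [pow_succ]; group)
          rw [e, ih]
          by_cases hk : Even k
          · rw [if_pos hk, if_neg (by rw [Nat.even_add_one]; exact not_not.mpr hk), h]
          · rw [if_neg hk, if_pos (Nat.even_add_one.mpr hk), hcmul n hn, h, hcw n hn, mul_assoc, ← pow_two, hw.2, mul_one]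
      haveI : ((X : Subgroup G).subgroupOf (Subgroup.normalizer ((X : Subgroup G) : Set G))).Normal := Subgroup.normal_in_normalizer
      have hm : n ^ ((X : Subgroup G).relIndex (Subgroup.normalizer ((X : Subgroup G) : Set G))) ∈ (X : Subgroup G) := by
        have := Subgroup.pow_index_mem ((X : Subgroup G).subgroupOf (Subgroup.normalizer ((X : Subgroup G) : Set G))) ⟨n, hn⟩
        exact this
      have hodd : Odd ((X : Subgroup G).relIndex (Subgroup.normalizer ((X : Subgroup G) : Set G))) := by
        rw [Nat.odd_iff, ← Nat.two_dvd_ne_zero]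
        exact fun hd => X.not_dvd_index (hd.trans (Subgroup.relIndex_dvd_index_of_le Subgroup.le_normalizer))
      have hk := halt ((X : Subgroup G).relIndex (Subgroup.normalizer ((X : Subgroup G) : Set G)))
      rw [if_neg (Nat.not_even_iff_odd.mpr hodd)] at hk
      have : c (n ^ (X : Subgroup G).relIndex (Subgroup.normalizer ((X : Subgroup G) : Set G))) (pow_mem hn _) z = z := Subtype.ext (by
        have e : (⟨_, hm⟩ : (X : Subgroup G)) * z = z * ⟨_, hm⟩ := hzc _
        have e' := congrArg Subtype.val e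
        show (n ^ (X : Subgroup G).relIndex (Subgroup.normalizer ((X : Subgroup G) : Set G)))⁻¹ * (z : G) * n ^ (X : Subgroup G).relIndex (Subgroup.normalizer ((X : Subgroup G) : Set G)) = z
        rw [mul_assoc]
        simp only [Subgroup.coe_mul] at e'
        rw [← e', inv_mul_cancel_left])
      rw [this] at hk
      exact hd4 hk.symm
  have := transfer_central hG X φ z hz2 hzc hfix
  rw [hφz] at this
  exact hne this

end Cfsg.Agent.S1906
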