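import Cfsg.Statements.S1907
import Cfsg.Agent.Lib.StrongFusion.Local

set_option autoImplicit false
set_option linter.unusedVariables false
open Cfsg
open scoped commutatorElement

namespace Cfsg.Agent.S1907

open CfsgLib CfsgLib.StrongFusion

theorem not_dvd_relIndex_sup {G : Type*} [Group G] [Finite G] {p : ℕ} [Fact p.Prime] {A K : Subgroup G}
    (hAK : A ≤ Subgroup.normalizer (K : Set G)) (hK : (Nat.card K).Coprime p) : ¬ p ∣ A.relIndex (A ⊔ K) := by
  set M := Subgroup.normalizer (K : Set G)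
  haveI : (K.subgroupOf M).Normal := Subgroup.normal_in_normalizer
  have h := card_sup_dvd_mul (A.subgroupOf M) (K.subgroupOf M)
  rw [← Subgroup.subgroupOf_sup hAK Subgroup.le_normalizer,
    Nat.card_congr (Subgroup.subgroupOfEquivOfLe (sup_le hAK Subgroup.le_normalizer)).toEquiv,
    Nat.card_congr (Subgroup.subgroupOfEquivOfLe hAK).toEquiv,
    Nat.card_congr (Subgroup.subgroupOfEquivOfLe (Subgroup.le_normalizer : K ≤ M)).toEquiv] at h
  have e : Nat.card (A.subgroupOf (A ⊔ K)) * A.relIndex (A ⊔ K) = Nat.card ↥(A ⊔ K) := Subgroup.card_mul_index _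
  rw [Nat.card_congr (Subgroup.subgroupOfEquivOfLe (le_sup_left : A ≤ A ⊔ K)).toEquiv] at e
  rw [← e] at h
  intro hd
  exact ((Fact.out : p.Prime).coprime_iff_not_dvd.1 hK.symm) (hd.trans ((Nat.mul_dvd_mul_iff_left Nat.card_pos).1 h))

/-- Let P be a Sylow p-subgroup of a finite group G, H = P ∩ O_{p',p}(G), N = N_G(H) and D = O_{p'}(G). (a) If y is an element of p-power order of N and d ∈ D with d⁻¹ y d ∈ N, then d = d₁ d₂ with d₁ ∈ C_D(y) and d₂ ∈ C_D(H). (b) Two elements of P that are conjugate in G are conjugate in N. -/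
theorem result {G : Type*} [Group G] [Finite G] {p : ℕ} [Fact p.Prime] (P : Sylow p G) :
    (∀ y ∈ Subgroup.normalizer (((P : Subgroup G) ⊓ Cfsg.pPrimePCore p G : Subgroup G) : Set G), (∃ k : ℕ, orderOf y = p ^ k) →
      ∀ d ∈ Cfsg.pPrimeCore p G, d⁻¹ * y * d ∈ Subgroup.normalizer (((P : Subgroup G) ⊓ Cfsg.pPrimePCore p G : Subgroup G) : Set G) →
        ∃ d₁ ∈ Cfsg.pPrimeCore p G ⊓ Subgroup.centralizer ({y} : Set G),
          ∃ d₂ ∈ Cfsg.pPrimeCore p G ⊓ Subgroup.centralizer (((P : Subgroup G) ⊓ Cfsg.pPrimePCore p G : Subgroup G) : Set G), d = d₁ * d₂) ∧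
    ∀ x y : G, x ∈ (P : Subgroup G) → y ∈ (P : Subgroup G) → IsConj x y →
      ∃ n ∈ Subgroup.normalizer (((P : Subgroup G) ⊓ Cfsg.pPrimePCore p G : Subgroup G) : Set G), n * x * n⁻¹ = y := by
  set O := Cfsg.pPrimeCore p G with hO
  set H := (P : Subgroup G) ⊓ Cfsg.pPrimePCore p G with hH
  set N := Subgroup.normalizer (H : Set G) with hN
  have hOp : (Nat.card O).Coprime p := CfsgLib.card_pPrimeCore_coprime p
  have hinf : ∀ A : Subgroup G, IsPGroup p A → O ⊓ A = ⊥ := fun A hA => by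
    obtain ⟨k, hk⟩ := IsPGroup.iff_card.1 hA
    exact Subgroup.inf_eq_bot_of_coprime (by rw [hk]; exact hOp.pow_right k)
  haveI : (Cfsg.pPrimePCore p G).Normal := Subgroup.Normal.comap inferInstance _
  have hON : O ≤ Subgroup.normalizer (O : Set G) := Subgroup.le_normalizer
  constructor
  · intro y hy hyp d hd hy'
    set D := O ⊓ N with hD
    have hDN : ∀ x ∈ N, x ∈ Subgroup.normalizer (D : Set G) := fun x hx => by
      refine CfsgLib.Local.mem_normalizer_of_map_conj_eq ?_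
      rw [hD, Subgroup.map_inf _ _ _ (MulAut.conj x).injective,
        CfsgLib.Local.map_conj_eq_of_mem_normalizer (Subgroup.le_normalizer hx),
        CfsgLib.Local.map_conj_eq_of_mem_normalizer (Subgroup.le_normalizer_of_normal (H := O) (Subgroup.mem_top x))]
    have hDC : D ≤ Subgroup.centralizer (H : Set G) := by
      intro x hx h hh
      have h1 : x * h * x⁻¹ * h⁻¹ ∈ O ⊓ H := ⟨by
        rw [show x * h * x⁻¹ * h⁻¹ = x * (h * x⁻¹ * h⁻¹) by group]
        exact mul_mem hx.1 ((inferInstance : O.Normal).conj_mem _ (inv_mem hx.1) h),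
        H.mul_mem ((Subgroup.mem_normalizer_iff.1 hx.2 h).1 hh) (H.inv_mem hh)⟩
      rw [hinf H (P.2.to_le inf_le_left), Subgroup.mem_bot, mul_inv_eq_one] at h1
      exact (mul_inv_eq_iff_eq_mul.1 h1).symm
    set y' := d⁻¹ * y * d with hy'def
    have hdiff : y⁻¹ * y' ∈ D := ⟨by
      rw [show y⁻¹ * y' = (y⁻¹ * d⁻¹ * y⁻¹⁻¹) * d by rw [hy'def]; group]
      exact O.mul_mem ((inferInstance : O.Normal).conj_mem _ (O.inv_mem hd) y⁻¹) hd, N.mul_mem (N.inv_mem hy) hy'⟩
    set Y := Subgroup.zpowers y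
    obtain ⟨k, hk⟩ := hyp
    have hYp : IsPGroup p Y := IsPGroup.of_card (n := k) (by rw [Nat.card_zpowers, hk])
    have hYp' : IsPGroup p (Subgroup.zpowers y') := IsPGroup.of_card (n := k) (by
      rw [Nat.card_zpowers, hy'def, ← hk]
      exact (orderOf_injective (MulAut.conj d⁻¹).toMonoidHom (MulAut.conj d⁻¹).injective y) ▸ by simp)
    obtain ⟨m, hm, hmle⟩ := exists_conj_le (Q := Y) (le_sup_left : Y ≤ Y ⊔ D) hYp
      (not_dvd_relIndex_sup (Subgroup.zpowers_le.2 (hDN y hy))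
        (hOp.coprime_dvd_left (Subgroup.card_dvd_of_le inf_le_left)))
      (R := Subgroup.zpowers y') (Subgroup.zpowers_le.2 (by
        rw [show y' = y * (y⁻¹ * y') by group]
        exact mul_mem (Subgroup.mem_sup_left (Subgroup.mem_zpowers y)) (Subgroup.mem_sup_right hdiff))) hYp'
    rw [← SetLike.mem_coe, Subgroup.coe_mul_of_left_le_normalizer_right Y D (Subgroup.zpowers_le.2 (hDN y hy)),
      Set.mem_mul] at hm
    obtain ⟨z, hz, e, he, rfl⟩ := hm
    obtain ⟨j, rfl⟩ := Subgroup.mem_zpowers_iff.1 hz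
    have h1 : e * y' * e⁻¹ ∈ Y := by
      have := Y.mul_mem (Y.mul_mem (Y.inv_mem hz) (hmle (conj_mem_cm (Subgroup.mem_zpowers y')))) hz
      rwa [show (y ^ j)⁻¹ * (y ^ j * e * y' * (y ^ j * e)⁻¹) * y ^ j = e * y' * e⁻¹ by group] at this
    have h2 : y⁻¹ * (e * y' * e⁻¹) ∈ O ⊓ Y := ⟨by
      rw [show y⁻¹ * (e * y' * e⁻¹) = (y⁻¹ * e * y⁻¹⁻¹) * (y⁻¹ * y') * e⁻¹ by group]
      exact O.mul_mem (O.mul_mem ((inferInstance : O.Normal).conj_mem _ he.1 y⁻¹) hdiff.1) (O.inv_mem he.1),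
      Y.mul_mem (Y.inv_mem (Subgroup.mem_zpowers y)) h1⟩
    rw [hinf Y hYp, Subgroup.mem_bot, inv_mul_eq_one] at h2
    refine ⟨d * e⁻¹, ⟨O.mul_mem hd (O.inv_mem he.1), ?_⟩, e, ⟨he.1, hDC he⟩, by group⟩
    intro a ha
    obtain rfl : a = y := ha
    calc a * (d * e⁻¹) = d * (d⁻¹ * a * d) * e⁻¹ := by group
      _ = d * e⁻¹ * (e * y' * e⁻¹) := by rw [hy'def]; group
      _ = d * e⁻¹ * a := by rw [← h2]
  · intro x y hx hy hxy
    obtain ⟨c, hc⟩ := isConj_iff.1 hxy
    have hPN : (P : Subgroup G) ≤ N := fun t ht => by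
      refine CfsgLib.Local.mem_normalizer_of_map_conj_eq ?_
      rw [hH, Subgroup.map_inf _ _ _ (MulAut.conj t).injective,
        CfsgLib.Local.map_conj_eq_of_mem_normalizer (Subgroup.le_normalizer ht),
        CfsgLib.Local.map_conj_eq_of_mem_normalizer
          (Subgroup.le_normalizer_of_normal (H := Cfsg.pPrimePCore p G) (Subgroup.mem_top t))]
    have hsub : Cfsg.pPrimePCore p G ≤ H ⊔ O := by
      intro g hg
      have himg := CfsgLib.pCore_le_sylow (P.mapSurjective (QuotientGroup.mk'_surjective O)) hg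
      rw [Sylow.coe_mapSurjective] at himg
      obtain ⟨t, ht, hte⟩ := himg
      have htg : t⁻¹ * g ∈ O := QuotientGroup.eq.1 hte
      have htH : t ∈ H := ⟨ht, show (QuotientGroup.mk' O) t ∈ Cfsg.pCore p (G ⧸ O) by rw [hte]; exact hg⟩
      rw [show g = t * (t⁻¹ * g) by group]
      exact mul_mem (Subgroup.mem_sup_left htH) (Subgroup.mem_sup_right htg)
    have hfac : O ⊔ N = ⊤ := by
      refine eq_top_iff.2 fun g _ => ?_
      obtain ⟨m, hm, hmle⟩ := exists_conj_le (Q := H) (le_sup_left : H ≤ H ⊔ O) (P.2.to_le inf_le_left)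
        (not_dvd_relIndex_sup Subgroup.le_normalizer_of_normal hOp) (R := cm g H)
        (by
          rintro _ ⟨t, ht, rfl⟩
          exact hsub ((inferInstance : (Cfsg.pPrimePCore p G).Normal).conj_mem _ ht.2 g))
        ((P.2.to_le inf_le_left).map _)
      rw [cm_cm] at hmle
      have hmg : m * g ∈ N := CfsgLib.Local.mem_normalizer_of_map_conj_eq
        (Subgroup.eq_of_le_of_card_ge hmle (card_cm _ H).ge)
      have hm' : m⁻¹ ∈ O ⊔ N := inv_mem (sup_le (le_sup_of_le_right Subgroup.le_normalizer) le_sup_left hm)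
      have := mul_mem hm' (Subgroup.mem_sup_right hmg)
      rwa [inv_mul_cancel_left] at this
    obtain ⟨n, hn, hne⟩ := agree_of_factor P O hOp hPN hfac (A := Subgroup.zpowers x) (Subgroup.zpowers_le.2 hx)
      (x := c) (by
        rw [cm, MonoidHom.map_zpowers]
        exact Subgroup.zpowers_le.2 (show c * x * c⁻¹ ∈ (P : Subgroup G) by rw [hc]; exact hy))
    exact ⟨n, hn, (hne x (Subgroup.mem_zpowers x)).trans hc⟩

end Cfsg.Agent.S1907
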