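import Cfsg.Statements.S1910
import Cfsg.Agent.Lib.TightPair
-- import your own Cfsg.Agent.* helpers here

set_option autoImplicit false
open Cfsg

namespace Cfsg.Agent.S1910

/-- Let Q be a tightly embedded subgroup of a finite group G, g an element outside N_G(Q), T a nontrivial Sylow 2-subgroup of Q^g ∩ N_G(Q), and S a Sylow 2-subgroup of QT containing T. Then T ∩ Q = 1, and N_S(T) is the direct product of T and N_S(T) ∩ Q, with N_S(T) ∩ Q isomorphic to T. -/
theorem result {G : Type*} [Group G] [Finite G] (Q : Subgroup G) (hQ : Cfsg.IsTightlyEmbedded Q)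
    (g : G) (hg : g ∉ Subgroup.normalizer (Q : Set G))
    (T : Subgroup G) (hT1 : T ≠ ⊥) (hT : T ≤ Q.map (MulAut.conj g).toMonoidHom ⊓ Subgroup.normalizer (Q : Set G))
    (hTsyl : IsPGroup 2 T ∧ ¬ 2 ∣ T.relIndex (Q.map (MulAut.conj g).toMonoidHom ⊓ Subgroup.normalizer (Q : Set G)))
    (S : Subgroup G) (hTS : T ≤ S) (hS : S ≤ Q ⊔ T) (hSsyl : IsPGroup 2 S ∧ ¬ 2 ∣ S.relIndex (Q ⊔ T)) :
    T ⊓ Q = ⊥ ∧
      T ⊓ (S ⊓ Subgroup.normalizer (T : Set G) ⊓ Q) = ⊥ ∧
      ⁅T, S ⊓ Subgroup.normalizer (T : Set G) ⊓ Q⁆ = ⊥ ∧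
      T ⊔ (S ⊓ Subgroup.normalizer (T : Set G) ⊓ Q) = S ⊓ Subgroup.normalizer (T : Set G) ∧
      Nonempty (↥(S ⊓ Subgroup.normalizer (T : Set G) ⊓ Q) ≃* T) := by
  classical
  haveI : Fact (Nat.Prime 2) := ⟨Nat.prime_two⟩
  obtain ⟨hTp, hTodd⟩ := hTsyl
  obtain ⟨hSp, hSodd⟩ := hSsyl
  set Q' := Q.map (MulAut.conj g).toMonoidHom with hQ'def
  have hmem : ∀ x, x ∈ Q' ↔ g⁻¹ * x * g ∈ Q := fun x => by
    rw [hQ'def, Subgroup.mem_map]
    exact ⟨fun ⟨y, hy, e⟩ => by rw [← e]; simpa [mul_assoc] using hy,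
      fun h => ⟨_, h, by simp [mul_assoc]⟩⟩
  have hTI : CfsgLib.TightPair.TI2 Q := by
    rintro s hs x hx hsx ⟨k, hk⟩
    obtain ⟨m, hm⟩ := hQ.2 s hs
    have hd : orderOf x ∣ 2 * m + 1 := by
      rw [← hm]
      refine (Subgroup.orderOf_mk _ ?_).symm.dvd.trans (orderOf_dvd_natCard _)
      exact ⟨hx, ⟨_, hsx, by simp [mul_assoc]⟩⟩
    rw [hk] at hd
    rcases k with _ | k
    · exact orderOf_eq_one_iff.mp (by rw [hk, pow_zero])
    · exfalso
      have h2 : 2 ∣ 2 * m + 1 := (dvd_pow_self 2 k.succ_ne_zero).trans hd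
      omega
  have hTI' : CfsgLib.TightPair.TI2 Q' := by
    rintro s hs x hx hsx ⟨k, hk⟩
    have hs' : g⁻¹ * s * g ∉ Subgroup.normalizer (Q : Set G) := by
      intro h
      refine hs (Subgroup.mem_normalizer_iff.mpr fun y => ?_)
      rw [hmem, hmem, Subgroup.mem_normalizer_iff.mp h (g⁻¹ * y * g),
        show g⁻¹ * s * g * (g⁻¹ * y * g) * (g⁻¹ * s * g)⁻¹ = g⁻¹ * (s * y * s⁻¹) * g by group]
    have h1 := hTI _ hs' (g⁻¹ * x * g) ((hmem x).mp hx) (by
      rw [show (g⁻¹ * s * g)⁻¹ * (g⁻¹ * x * g) * (g⁻¹ * s * g) = g⁻¹ * (s⁻¹ * x * s) * g by group]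
      exact (hmem _).mp hsx) ⟨k, by
        rw [← hk, show g⁻¹ * x * g = MulAut.conj g⁻¹ x by simp]
        exact MulEquiv.orderOf_eq _ x⟩
    rwa [show g⁻¹ * x * g = g⁻¹ * x * (g⁻¹)⁻¹ by rw [inv_inv], conj_eq_one_iff] at h1
  have hd : ∀ x ∈ Q, x ∈ Q' → (∃ k, orderOf x = 2 ^ k) → x = 1 := fun x hx hx' hk =>
    hTI g hg x hx ((hmem x).mp hx') hk
  obtain ⟨hTQ', hTN⟩ := le_inf_iff.mp hT
  have hTQ : T ⊓ Q = ⊥ := CfsgLib.TightPair.inf_eq_bot hd hTp hTQ'
  set R := S ⊓ Subgroup.normalizer (T : Set G) ⊓ Q with hR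
  have hRN : R ≤ Subgroup.normalizer (T : Set G) := inf_le_left.trans inf_le_right
  have hdisj : T ⊓ R = ⊥ := le_bot_iff.mp ((inf_le_inf_left T inf_le_right).trans hTQ.le)
  have hcomm : ⁅T, R⁆ = ⊥ := by
    rw [Subgroup.commutator_eq_bot_iff_le_centralizer]
    intro t ht
    exact Subgroup.mem_centralizer_iff.mpr fun r hr =>
      (CfsgLib.TightPair.commute_of hTQ hTN inf_le_right hRN ht hr).symm
  have hSN : S ≤ Subgroup.normalizer (Q : Set G) := hS.trans (sup_le Subgroup.le_normalizer hTN)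
  -- `S = (S ⊓ Q) T`
  have hdec : ∀ s ∈ S, ∃ t ∈ T, ∃ q ∈ S ⊓ Q, s = q * t := by
    intro s hs
    obtain ⟨q, hq, t, ht, he⟩ := CfsgLib.mem_sup_of_le_normalizer (A := T) (W := Q) hTN (hS hs)
    refine ⟨t, ht, q, ⟨?_, hq⟩, he.symm⟩
    rw [show q = s * t⁻¹ by rw [← he]; group]
    exact S.mul_mem hs (S.inv_mem (hTS ht))
  have hsup : T ⊔ R = S ⊓ Subgroup.normalizer (T : Set G) := by
    refine le_antisymm (sup_le (le_inf hTS Subgroup.le_normalizer) inf_le_left) ?_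
    rintro s ⟨hs, hsn⟩
    obtain ⟨t, ht, q, ⟨hqS, hqQ⟩, rfl⟩ := hdec s hs
    have hqn : q ∈ Subgroup.normalizer (T : Set G) := by
      have := (Subgroup.normalizer (T : Set G)).mul_mem hsn ((Subgroup.normalizer (T : Set G)).inv_mem (Subgroup.le_normalizer ht))
      rwa [mul_inv_cancel_right] at this
    exact mul_mem (Subgroup.mem_sup_right (show q ∈ R from ⟨⟨hqS, hqn⟩, hqQ⟩)) (Subgroup.mem_sup_left ht)
  refine ⟨hTQ, hdisj, hcomm, hsup, ?_⟩
  -- Sylow subgroups of `Q`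
  have hQQ' : Nat.card Q' = Nat.card Q := Subgroup.card_map_of_injective (MulAut.conj g).injective
  have sylQ : ∀ (Q T S : Subgroup G), T ≤ Subgroup.normalizer (Q : Set G) → T ⊓ Q = ⊥ → T ≤ S → S ≤ Q ⊔ T →
      IsPGroup 2 S → ¬ 2 ∣ S.relIndex (Q ⊔ T) → ¬ 2 ∣ (S ⊓ Q).relIndex Q := by
    intro Q T S hTN hTQ hTS hS hSp hSodd
    have hcard : ∀ L : Subgroup G, L ≤ Q → T ≤ Subgroup.normalizer (L : Set G) →
        Nat.card (L ⊔ T : Subgroup G) = Nat.card L * Nat.card T := by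
      intro L hL hn
      rw [← Nat.card_prod]
      refine (Nat.card_eq_of_bijective (fun p : L × T => (⟨(p.1 : G) * p.2,
        Subgroup.mul_mem_sup p.1.2 p.2.2⟩ : (L ⊔ T : Subgroup G))) ⟨?_, ?_⟩).symm
      · intro a b hab
        have h := congrArg Subtype.val hab
        dsimp only at h
        have h1 : (b.1 : G)⁻¹ * a.1 ∈ T ⊓ Q :=
          ⟨by rw [show (b.1 : G)⁻¹ * a.1 = b.2 * (a.2 : G)⁻¹ from inv_mul_eq_iff_eq_mul.mpr (by
                rw [← mul_assoc, ← h, mul_inv_cancel_right])]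
              exact T.mul_mem b.2.2 (T.inv_mem a.2.2), Q.mul_mem (Q.inv_mem (hL b.1.2)) (hL a.1.2)⟩
        rw [hTQ, Subgroup.mem_bot, inv_mul_eq_one] at h1
        rw [← h1] at h
        exact Prod.ext (Subtype.ext h1.symm) (Subtype.ext (mul_left_cancel h))
      · rintro ⟨x, hx⟩
        obtain ⟨l, hl, t, ht, he⟩ := CfsgLib.mem_sup_of_le_normalizer (A := T) (W := L) hn hx
        exact ⟨(⟨l, hl⟩, ⟨t, ht⟩), Subtype.ext he⟩
    have hTn : T ≤ Subgroup.normalizer ((S ⊓ Q : Subgroup G) : Set G) := by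
      intro t ht
      rw [Subgroup.mem_normalizer_iff]
      intro x
      simp only [Subgroup.mem_inf]
      rw [Subgroup.mem_normalizer_iff.mp (hTN ht) x,
        Subgroup.mem_normalizer_iff.mp (Subgroup.le_normalizer (hTS ht)) x]
    have hSeq : (S ⊓ Q) ⊔ T = S := by
      refine le_antisymm (sup_le inf_le_left hTS) fun s hs => ?_
      obtain ⟨q, hq, t, ht, he⟩ := CfsgLib.mem_sup_of_le_normalizer (A := T) (W := Q) hTN (hS hs)
      have hqS : q ∈ S := by
        rw [show q = s * t⁻¹ by rw [← he]; group]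
        exact S.mul_mem hs (S.inv_mem (hTS ht))
      rw [← he]
      exact Subgroup.mul_mem_sup ⟨hqS, hq⟩ ht
    have a1 := Subgroup.relIndex_mul_relIndex ⊥ S (Q ⊔ T) bot_le hS
    have a2 := Subgroup.relIndex_mul_relIndex ⊥ (S ⊓ Q) Q bot_le inf_le_right
    rw [Subgroup.relIndex_bot_left, Subgroup.relIndex_bot_left] at a1 a2
    have a3 := hcard (S ⊓ Q) inf_le_right hTn
    rw [hSeq] at a3
    rw [a3, hcard Q le_rfl hTN, ← a2] at a1
    have a4 : S.relIndex (Q ⊔ T) = (S ⊓ Q).relIndex Q := by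
      have hpos : 0 < Nat.card (S ⊓ Q : Subgroup G) * Nat.card T := Nat.mul_pos Nat.card_pos Nat.card_pos
      refine Nat.eq_of_mul_eq_mul_left hpos ?_
      rw [a1]; ring
    rwa [← a4]
  have hSQ := sylQ Q T S hTN hTQ hTS hS hSp hSodd
  have hTnU : T ≤ Subgroup.normalizer ((S ⊓ Q : Subgroup G) : Set G) := by
    intro t ht
    rw [Subgroup.mem_normalizer_iff]
    intro x
    simp only [Subgroup.mem_inf]
    rw [Subgroup.mem_normalizer_iff.mp (hTN ht) x,
      Subgroup.mem_normalizer_iff.mp (Subgroup.le_normalizer (hTS ht)) x]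
  have hReq : R = (S ⊓ Q) ⊓ Subgroup.normalizer (T : Set G) := by rw [hR]; ac_rfl
  have hRp : IsPGroup 2 R := hSp.to_le (inf_le_left.trans inf_le_left)
  have hRQ : R ≤ Q := inf_le_right
  have hRQ' : R ≤ Subgroup.normalizer (Q' : Set G) := fun r hr =>
    CfsgLib.TightPair.mem_normalizer_of_normalizes hTI' hTp hT1 hTQ' (hRN hr)
  have hd' : ∀ x ∈ Q', x ∈ Q → (∃ k, orderOf x = 2 ^ k) → x = 1 := fun x hx hx' => hd x hx' hx
  -- powers of two
  have hle2 : ∀ (A B : Subgroup G), IsPGroup 2 A → Nat.card A ∣ Nat.card B → ∀ C : Subgroup G, C ≤ B →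
      ¬ 2 ∣ C.relIndex B → Nat.card A ≤ Nat.card C := by
    intro A B hA hAB C hC hodd
    have h1 := Subgroup.relIndex_mul_relIndex ⊥ C B bot_le hC
    rw [Subgroup.relIndex_bot_left, Subgroup.relIndex_bot_left] at h1
    rw [← h1] at hAB
    obtain ⟨k, hk⟩ := hA.exists_card_eq
    rw [hk] at hAB ⊢
    exact Nat.le_of_dvd Nat.card_pos
      ((((Nat.prime_two.coprime_iff_not_dvd).mpr hodd).pow_left k).dvd_of_dvd_mul_right hAB)
  -- first alternative
  have case1 : (Nat.card T ≤ Nat.card R ∧ ¬ 2 ∣ R.relIndex Q) ∨ ∃ f : T →* R, Function.Injective f := by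
    rcases CfsgLib.TightPair.full_or_embed hTI' hd hTp hT1 hTQ' hTN
      (hSp.to_le inf_le_left) inf_le_right hTnU with h | ⟨f, hf⟩
    · left
      have hRe : R = S ⊓ Q := by rw [hReq, inf_eq_left.mpr h]
      rw [hRe]
      refine ⟨hle2 T Q hTp ?_ _ inf_le_right hSQ, hSQ⟩
      exact (Subgroup.card_dvd_of_le hTQ').trans hQQ'.dvd
    · exact Or.inr ⟨(MulEquiv.subgroupCongr hReq.symm).toMonoidHom.comp f,
        fun a b hab => hf ((MulEquiv.subgroupCongr hReq.symm).injective hab)⟩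
  have hR1 : R ≠ ⊥ := by
    intro h
    have hT2 : 1 < Nat.card T := (Subgroup.one_lt_card_iff_ne_bot T).mpr hT1
    rcases case1 with ⟨h1, -⟩ | ⟨f, hf⟩
    · rw [h, Subgroup.card_bot] at h1; omega
    · have h1 := Nat.card_le_card_of_injective f hf
      rw [h, Subgroup.card_bot] at h1; omega
  have hTR : T ≤ Subgroup.normalizer (R : Set G) := by
    intro t ht
    rw [Subgroup.mem_normalizer_iff]
    intro x
    have hc : ∀ r ∈ R, t * r * t⁻¹ = r := fun r hr => by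
      rw [CfsgLib.TightPair.commute_of hTQ hTN inf_le_right hRN ht hr, mul_inv_cancel_right]
    constructor
    · intro hx; rw [hc x hx]; exact hx
    · intro hx
      have h2 := hc _ hx
      have h3 : t * x * t⁻¹ = x := mul_left_cancel (mul_right_cancel h2)
      rwa [h3] at hx
  -- a Sylow subgroup on the other side
  obtain ⟨S', hS'1, hS'2, hS'3, hS'4⟩ : ∃ S' : Subgroup G, T ⊔ R ≤ S' ∧ S' ≤ Q' ⊔ R ∧ IsPGroup 2 S' ∧
      ¬ 2 ∣ S'.relIndex (Q' ⊔ R) := by
    have hle : T ⊔ R ≤ Q' ⊔ R := sup_le_sup_right hTQ' _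
    have hp : IsPGroup 2 (T ⊔ R : Subgroup G) := hSp.to_le (hsup.le.trans inf_le_left)
    obtain ⟨P, hP⟩ := (hp.of_equiv (Subgroup.subgroupOfEquivOfLe hle).symm).exists_le_sylow
    refine ⟨(P : Subgroup (Q' ⊔ R : Subgroup G)).map (Q' ⊔ R).subtype, ?_, Subgroup.map_subtype_le _,
      P.isPGroup'.map _, ?_⟩
    · have := Subgroup.map_mono (f := (Q' ⊔ R).subtype) hP
      rwa [Subgroup.map_subgroupOf_eq_of_le hle] at this
    · rw [Subgroup.relIndex, Subgroup.subgroupOf, Subgroup.comap_map_eq_self_of_injective (Subgroup.subtype_injective _)]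
      exact P.not_dvd_index
  have hRQbot : R ⊓ Q' = ⊥ := CfsgLib.TightPair.inf_eq_bot hd' hRp hRQ
  have hS'Q := sylQ Q' R S' hRQ' hRQbot (le_sup_right.trans hS'1) hS'2 hS'3 hS'4
  have hRnU : R ≤ Subgroup.normalizer ((S' ⊓ Q' : Subgroup G) : Set G) := by
    intro t ht
    rw [Subgroup.mem_normalizer_iff]
    intro x
    simp only [Subgroup.mem_inf]
    rw [Subgroup.mem_normalizer_iff.mp (hRQ' ht) x,
      Subgroup.mem_normalizer_iff.mp (Subgroup.le_normalizer ((le_sup_right.trans hS'1) ht)) x]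
  -- its fixed part is `T`
  set U' := (S' ⊓ Q') ⊓ Subgroup.normalizer (R : Set G) with hU'
  have hTU' : T ≤ U' := le_inf (le_inf (le_sup_left.trans hS'1) hTQ') hTR
  have hU'eq : U' = T := by
    have hle : U' ≤ Q' ⊓ Subgroup.normalizer (Q : Set G) := fun x hx =>
      ⟨hx.1.2, CfsgLib.TightPair.mem_normalizer_of_normalizes hTI hRp hR1 hRQ hx.2⟩
    refine (Subgroup.eq_of_le_of_card_ge hTU' ?_).symm
    exact hle2 U' _ (hS'3.to_le (inf_le_left.trans inf_le_left)) (Subgroup.card_dvd_of_le hle) T hT hTodd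
  have case2 : (Nat.card R ≤ Nat.card T ∧ ¬ 2 ∣ T.relIndex Q') ∨ ∃ f : R →* T, Function.Injective f := by
    rcases CfsgLib.TightPair.full_or_embed hTI hd' hRp hR1 hRQ hRQ'
      (hS'3.to_le inf_le_left) inf_le_right hRnU with h | ⟨f, hf⟩
    · left
      have he : S' ⊓ Q' = T := by rw [← hU'eq, hU', inf_eq_left.mpr h]
      rw [he] at hS'Q
      exact ⟨hle2 R Q' hRp ((Subgroup.card_dvd_of_le hRQ).trans hQQ'.symm.dvd) T hTQ' hS'Q, hS'Q⟩
    · exact Or.inr ⟨(MulEquiv.subgroupCongr hU'eq).toMonoidHom.comp f, fun a b hab => hf ((MulEquiv.subgroupCongr hU'eq).injective hab)⟩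
  rcases case1 with ⟨h1, hR2⟩ | ⟨f, hf⟩
  · rcases case2 with ⟨h2, hT2⟩ | ⟨f', hf'⟩
    · -- both are Sylow subgroups
      have hR' : R.map (MulAut.conj g).toMonoidHom ≤ Q' := Subgroup.map_mono hRQ
      have hcardR : Nat.card (R.map (MulAut.conj g).toMonoidHom) = Nat.card R :=
        Subgroup.card_map_of_injective (MulAut.conj g).injective
      have key : ∀ (A : Subgroup G) (hA : A ≤ Q'), IsPGroup 2 A → Nat.card A = Nat.card T →
          ∃ P : Sylow 2 Q', (P : Subgroup Q') = A.subgroupOf Q' := by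
        intro A hA hAp hcard
        refine ⟨(hAp.of_equiv (Subgroup.subgroupOfEquivOfLe hA).symm).toSylow ?_, rfl⟩
        have a1 := Subgroup.relIndex_mul_relIndex ⊥ A Q' bot_le hA
        have a2 := Subgroup.relIndex_mul_relIndex ⊥ T Q' bot_le hTQ'
        rw [Subgroup.relIndex_bot_left, Subgroup.relIndex_bot_left] at a1 a2
        rw [hcard, ← a2] at a1
        have := Nat.eq_of_mul_eq_mul_left Nat.card_pos a1
        rw [← this] at hT2
        exact hT2
      obtain ⟨P1, hP1⟩ := key _ hR' (hRp.map _) (by rw [hcardR]; omega)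
      obtain ⟨P2, hP2⟩ := key T hTQ' hTp rfl
      exact ⟨(((R.equivMapOfInjective _ (MulAut.conj g).injective).trans (Subgroup.subgroupOfEquivOfLe hR').symm).trans
        ((MulEquiv.subgroupCongr hP1.symm).trans ((P1.equiv P2).trans (MulEquiv.subgroupCongr hP2)))).trans
        (Subgroup.subgroupOfEquivOfLe hTQ')⟩
    · exact ⟨MulEquiv.ofBijective f' (hf'.bijective_of_nat_card_le h1)⟩
  · have h1 : Nat.card R ≤ Nat.card T := by
      rcases case2 with ⟨h2, -⟩ | ⟨f', hf'⟩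
      · exact h2
      · exact Nat.card_le_card_of_injective f' hf'
    exact ⟨(MulEquiv.ofBijective f (hf.bijective_of_nat_card_le h1)).symm⟩

end Cfsg.Agent.S1910
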