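-- S1915: rank one of the subgroup generated by normalisers in a four-group.
import Cfsg.Statements.S1915
import Cfsg.Agent.Lib.RankOneGamma.Main
import Cfsg.Agent.Lib.Components

set_option autoImplicit false
open Cfsg

namespace Cfsg.Agent.S1915

open Cfsg.Agent.RankOneGamma

universe u

/-- The rank bound for a perfect normal subgroup. -/
theorem main {H : Type u} [Group H] [Finite H] (A : Subgroup H) [A.Normal] (hperf : ⁅A, A⁆ = A) (U : Subgroup H)
    (hsq : ∀ u ∈ U, u * u = 1) (h3 : ∃ u ∈ U, ∃ v ∈ U, u ≠ 1 ∧ v ≠ 1 ∧ u ≠ v)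
    (hone : ∀ a ∈ A, ∀ b ∈ A, a * a = 1 → b * b = 1 → a ≠ 1 → b ≠ 1 → a * b = b * a →
      ∀ u ∈ U, ∀ v ∈ U, u ≠ 1 → v ≠ 1 → u * a = a * u → v * b = b * v → a = b) :
    ∀ a ∈ A, ∀ b ∈ A, a * a = 1 → b * b = 1 → a ≠ 1 → b ≠ 1 → a * b = b * a → a = b := by
  intro a ha b hb ha2 hb2 ha1 hb1 hab
  haveI : Fact (Nat.Prime 2) := ⟨Nat.prime_two⟩
  have hUp : IsPGroup 2 U := fun u => ⟨1, Subtype.ext (by
    show (u : H) ^ 2 ^ 1 = 1
    rw [pow_one, pow_two, hsq u u.2])⟩
  obtain ⟨P, hP⟩ := hUp.exists_le_sylow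
  set S := (P : Subgroup H) ⊓ A with hS
  have hSp : IsPGroup 2 S := P.isPGroup'.to_le inf_le_left
  have hrel : S.relIndex A = (P : Subgroup H).relIndex A := Subgroup.inf_relIndex_right _ _
  have hPn : ∀ p ∈ (P : Subgroup H), ∀ x ∈ S, p * x * p⁻¹ ∈ S := fun p hp x hx =>
    ⟨(P : Subgroup H).mul_mem ((P : Subgroup H).mul_mem hp hx.1) ((P : Subgroup H).inv_mem hp), (inferInstance : A.Normal).conj_mem x hx.2 p⟩
  have hSyl : ¬ 2 ∣ S.relIndex A := hrel ▸ CfsgLib.not_dvd_relIndex_of_sylow P A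
  -- move the two involutions into S
  let R : Subgroup H := Subgroup.zpowers a ⊔ Subgroup.zpowers b
  have hR : IsPGroup 2 R := by
    have hz : ∀ c : H, c * c = 1 → IsPGroup 2 (Subgroup.zpowers c) := fun c hc => by
      obtain ⟨j, -, hj⟩ := (Nat.dvd_prime_pow Nat.prime_two).1
        (show orderOf c ∣ 2 ^ 1 from orderOf_dvd_of_pow_eq_one (by rw [pow_one, pow_two, hc]))
      exact IsPGroup.of_card (n := j) (by rw [Nat.card_zpowers, hj])
    refine IsPGroup.to_sup_of_normal_left' (hz a ha2) (hz b hb2) (Subgroup.zpowers_le.2 ?_)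
    rw [Subgroup.mem_normalizer_iff]
    intro y
    constructor
    · rintro ⟨i, rfl⟩
      exact ⟨i, by rw [← conj_zpow, ← hab, mul_inv_cancel_right]⟩
    · rintro ⟨i, hi⟩
      refine ⟨i, ?_⟩
      have hi' : b * y * b⁻¹ = a ^ i := hi.symm
      calc a ^ i = b⁻¹ * a ^ i * b := by
            rw [mul_assoc, ← ((show Commute b a from hab.symm).zpow_right i).eq, inv_mul_cancel_left]
        _ = y := by rw [← hi']; group
  have hRA : R ≤ A := sup_le (Subgroup.zpowers_le.2 ha) (Subgroup.zpowers_le.2 hb)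
  obtain ⟨T, hT⟩ := (hR.comap_subtype (K := A)).exists_le_sylow
  obtain ⟨c, hc⟩ := MulAction.exists_smul_eq A T (CfsgLib.sylowInfNormal P A)
  have hmove : ∀ x ∈ R, (c : H) * x * (c : H)⁻¹ ∈ S := by
    intro x hx
    have h1 : c * ⟨x, hRA hx⟩ * c⁻¹ ∈ ((CfsgLib.sylowInfNormal P A : Sylow 2 A) : Subgroup A) := by
      rw [← hc, Sylow.coe_subgroup_smul]
      exact Subgroup.mem_map.2 ⟨_, hT hx, rfl⟩
    rw [CfsgLib.coe_sylowInfNormal] at h1
    exact ⟨h1, (inferInstance : A.Normal).conj_mem x (hRA hx) c⟩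
  have ha' := hmove a (Subgroup.mem_sup_left (Subgroup.mem_zpowers a))
  have hb' := hmove b (Subgroup.mem_sup_right (Subgroup.mem_zpowers b))
  have hne : ∀ x : H, x ≠ 1 → (c : H) * x * (c : H)⁻¹ ≠ 1 := fun x hx e => hx (by
    rw [mul_inv_eq_one, mul_eq_left] at e; exact e)
  -- a central involution
  have hSne : S.subgroupOf (P : Subgroup H) ≠ ⊥ := fun e => hne a ha1 (by
    have h1 : (⟨_, ha'.1⟩ : (P : Subgroup H)) ∈ S.subgroupOf (P : Subgroup H) := ha'
    rw [e, Subgroup.mem_bot] at h1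
    exact congrArg Subtype.val h1)
  haveI : (S.subgroupOf (P : Subgroup H)).Normal := ⟨fun x hx y => hPn y y.2 x hx⟩
  haveI : Group.IsNilpotent (P : Subgroup H) := P.isPGroup'.isNilpotent
  obtain ⟨z₀, ⟨hz₀S, hz₀c⟩, hz₀1⟩ :=
    SetLike.exists_of_lt (bot_lt_iff_ne_bot.2 (CfsgLib.inf_center_ne_bot_of_nilpotent hSne))
  obtain ⟨k, hk⟩ := P.isPGroup' z₀
  obtain ⟨j, -, hj⟩ := (Nat.dvd_prime_pow Nat.prime_two).1 (orderOf_dvd_of_pow_eq_one hk)
  have hj0 : j ≠ 0 := fun e => hz₀1 (Subgroup.mem_bot.2 (orderOf_eq_one_iff.1 (by rw [hj, e, pow_zero])))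
  set z : (P : Subgroup H) := z₀ ^ (2 ^ j / 2) with hzdef
  have hz2 : orderOf z = 2 := by
    rw [hzdef, ← hj]; exact orderOf_pow_orderOf_div (orderOf_pos z₀).ne' (hj ▸ dvd_pow_self 2 hj0)
  have hzS : (z : H) ∈ S := by
    have := (S.subgroupOf (P : Subgroup H)).pow_mem hz₀S (2 ^ j / 2)
    exact this
  have hzc : ∀ p ∈ (P : Subgroup H), p * z = z * p := fun p hp =>
    congrArg Subtype.val (Subgroup.mem_center_iff.1 ((Subgroup.center _).pow_mem hz₀c (2 ^ j / 2)) ⟨p, hp⟩)
  have hzz : (z : H) * z = 1 := by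
    have := pow_orderOf_eq_one z
    rw [hz2, pow_two] at this
    exact congrArg Subtype.val this
  have hz1 : (z : H) ≠ 1 := fun e => by
    rw [show z = 1 from Subtype.ext e, orderOf_one] at hz2
    exact absurd hz2 (by norm_num)
  obtain ⟨u₀, hu₀, v₀, hv₀, h01, h02, h03⟩ := h3
  have hset : Setup A U S (z : H) :=
    { perfect := hperf
      sq := hsq
      three := ⟨u₀, hu₀, v₀, hv₀, h01, h02, h03⟩
      le := inf_le_right
      two := hSp
      sylow := hSyl
      norm := fun u hu => by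
        rw [Subgroup.mem_normalizer_iff]
        intro x
        refine ⟨hPn u (hP hu) x, fun hx => ?_⟩
        have := hPn u⁻¹ ((P : Subgroup H).inv_mem (hP hu)) _ hx
        simpa [mul_assoc] using this
      zS := hzS
      z2 := hzz
      z1 := hz1
      zU := fun u hu => hzc u (hP hu)
      zcen := fun x hx => hzc x hx.1
      key := fun e he he2 he1 u hu hu1 hue =>
        (hone _ hzS.2 e he.2 hzz he2 hz1 he1 (hzc e he.1).symm u hu u hu hu1 hu1 (hzc u (hP hu)) hue).symm }
  have e1 := hset.one_involution ha' (mul_self_conj ha2) (hne a ha1)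
  have e2 := hset.one_involution hb' (mul_self_conj hb2) (hne b hb1)
  exact mul_left_cancel (mul_right_cancel (e1.trans e2.symm))

theorem rank_le_one {X : Type*} [Group X] [Finite X]
    (h : ∀ a b : X, a * a = 1 → b * b = 1 → a ≠ 1 → b ≠ 1 → a * b = b * a → a = b) : PRankLE 2 1 X := by
  intro V hc he
  by_contra hlt
  rw [pow_one, not_le] at hlt
  obtain ⟨a, ha, ha1⟩ : ∃ a ∈ V, a ≠ 1 := by
    by_contra hh
    push Not at hh
    rw [(Subgroup.eq_bot_iff_forall V).2 hh, Subgroup.card_bot] at hlt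
    omega
  have hsub : (V : Set X) ⊆ {1, a} := fun b hb => by
    rcases eq_or_ne b 1 with rfl | hb1
    · exact Or.inl rfl
    · exact Or.inr (h b a (by rw [← pow_two, he b hb]) (by rw [← pow_two, he a ha]) hb1 ha1
        (congrArg Subtype.val (hc.is_comm.comm (⟨b, hb⟩ : V) ⟨a, ha⟩)))
  have h1 := Set.ncard_le_ncard hsub (Set.toFinite _)
  rw [← Nat.card_coe_set_eq, Set.ncard_pair (Ne.symm ha1)] at h1
  exact absurd (lt_of_lt_of_le hlt h1) (lt_irrefl 2)

theorem unique_of_rank {X : Type*} [Group X] [Finite X] (h : PRankLE 2 1 X) {a b : X} (ha2 : a * a = 1)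
    (hb2 : b * b = 1) (ha1 : a ≠ 1) (hb1 : b ≠ 1) (hab : a * b = b * a) : a = b := by
  by_contra hne
  have hgen : ∀ x ∈ ({a, b} : Set X), ∀ y ∈ ({a, b} : Set X), x * y = y * x := by
    rintro x (rfl | rfl) y (rfl | rfl) <;> first | rfl | exact hab | exact hab.symm
  haveI := Subgroup.isMulCommutative_closure hgen
  have hexp : ∀ x ∈ Subgroup.closure ({a, b} : Set X), x ^ 2 = 1 := by
    intro x hx
    induction hx using Subgroup.closure_induction with
    | mem y hy => rcases hy with rfl | rfl <;> rw [pow_two] <;> assumption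
    | one => simp
    | mul p q hp hq e1 e2 => rw [(show Commute p q from setLike_mul_comm hp hq).mul_pow, e1, e2, one_mul]
    | inv p _ e1 => rw [inv_pow, e1, inv_one]
  have h1 := h _ inferInstance hexp
  rw [pow_one] at h1
  have hsub : ({1, a, b} : Set X) ⊆ (Subgroup.closure ({a, b} : Set X) : Set X) := by
    rintro x (rfl | hx)
    · exact one_mem _
    · exact Subgroup.subset_closure hx
  have h2 := Set.ncard_le_ncard hsub (Set.toFinite _)
  rw [Set.ncard_insert_of_notMem (by rintro (e | e) <;> [exact ha1 e.symm; exact hb1 e.symm]) (Set.toFinite _),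
    Set.ncard_pair hne, ← Nat.card_coe_set_eq] at h2
  exact absurd (le_trans h2 h1) (by norm_num)

/-- Let A be a semisimple subgroup (A = E(A)) of a finite group and U a Klein four-group normalizing A. If the subgroup of A generated by the normalizers N_A(V) of the nontrivial subgroups V of U has 2-rank exactly 1, then A has 2-rank exactly 1. -/
theorem result {G : Type*} [Group G] [Finite G] (A : Subgroup G) (hA : Cfsg.layer ↥A = ⊤)
    (U : Subgroup G) (hU : IsKleinFour U) (hUA : U ≤ Subgroup.normalizer (A : Set G))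
    (hΓ : Cfsg.PRankLE 2 1 ↥(⨆ V : {V : Subgroup G // V ≤ U ∧ V ≠ ⊥}, A ⊓ Subgroup.normalizer ((V : Subgroup G) : Set G)) ∧
      ¬ Cfsg.PRankLE 2 0 ↥(⨆ V : {V : Subgroup G // V ≤ U ∧ V ≠ ⊥}, A ⊓ Subgroup.normalizer ((V : Subgroup G) : Set G))) :
    Cfsg.PRankLE 2 1 A ∧ ¬ Cfsg.PRankLE 2 0 A := by
  classical
  set Γ : Subgroup G := ⨆ V : {V : Subgroup G // V ≤ U ∧ V ≠ ⊥}, A ⊓ Subgroup.normalizer ((V : Subgroup G) : Set G)
    with hΓdef
  have hΓA : Γ ≤ A := iSup_le fun _ => inf_le_left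
  refine ⟨rank_le_one fun a b ha2 hb2 ha1 hb1 hab => ?_, fun h0 => hΓ.2 fun V hc he => ?_⟩
  · set N := Subgroup.normalizer (A : Set G) with hN
    have hAN : A ≤ N := Subgroup.le_normalizer
    haveI : (A.subgroupOf N).Normal := Subgroup.normal_in_normalizer
    have hperf : ⁅A.subgroupOf N, A.subgroupOf N⁆ = A.subgroupOf N := by
      refine Subgroup.map_injective N.subtype_injective ?_
      rw [Subgroup.map_commutator, Subgroup.map_subgroupOf_eq_of_le hAN]
      have h1 := CfsgLib.layer_commutator_self (G := A)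
      rw [hA] at h1
      have h2 := congrArg (Subgroup.map A.subtype) h1
      rwa [Subgroup.map_commutator, ← MonoidHom.range_eq_map, Subgroup.range_subtype] at h2
    haveI := hU
    have hsqU : ∀ u : U, u * u = 1 := fun u => by
      have := Monoid.pow_exponent_eq_one u
      rwa [IsKleinFour.exponent_two, pow_two] at this
    obtain ⟨p, q, hp1, hq1, hpq⟩ : ∃ p q : U, p ≠ 1 ∧ q ≠ 1 ∧ p ≠ q := by
      have h4 : Nat.card U = 4 := IsKleinFour.card_four
      have : Fintype U := Fintype.ofFinite U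
      have hc : 2 ≤ (Finset.univ.erase (1 : U)).card := by
        rw [Finset.card_erase_of_mem (Finset.mem_univ _), Finset.card_univ, ← Nat.card_eq_fintype_card, h4]; norm_num
      obtain ⟨p, hp, q, hq, hpq⟩ := Finset.one_lt_card.1 (show 1 < (Finset.univ.erase (1 : U)).card by omega)
      exact ⟨p, q, (Finset.mem_erase.1 hp).1, (Finset.mem_erase.1 hq).1, hpq⟩
    have hmem : ∀ x : N, (x : G) ∈ A → ∀ u : N, (u : G) ∈ U → u ≠ 1 → u * x = x * u → (x : G) ∈ Γ := by
      intro x hx u hu hu1 hux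
      refine Subgroup.mem_iSup_of_mem (⟨Subgroup.zpowers (u : G), Subgroup.zpowers_le.2 hu, fun e => hu1 (Subtype.ext
        (Subgroup.zpowers_eq_bot.1 e))⟩ : {V : Subgroup G // V ≤ U ∧ V ≠ ⊥}) ⟨hx, ?_⟩
      have hcm : Commute (x : G) (u : G) := (congrArg Subtype.val hux).symm
      refine Subgroup.centralizer_le_normalizer (Subgroup.zpowers (u : G) : Set G) (Subgroup.mem_centralizer_iff.2 ?_)
      rintro _ ⟨i, rfl⟩
      exact (hcm.zpow_right i).eq.symm
    have key := main (A.subgroupOf N) hperf (U.subgroupOf N)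
      (fun u hu => Subtype.ext (congrArg Subtype.val (hsqU ⟨(u : G), hu⟩) : ((u : G) * u = 1)))
      ⟨⟨p, hUA p.2⟩, p.2, ⟨q, hUA q.2⟩, q.2, fun e => hp1 (Subtype.ext (congrArg (fun x : N => (x : G)) e)),
        fun e => hq1 (Subtype.ext (congrArg (fun x : N => (x : G)) e)),
        fun e => hpq (Subtype.ext (congrArg (fun x : N => (x : G)) e))⟩
      (fun x hx y hy hx2 hy2 hx1 hy1 hxy u hu v hv hu1 hv1 hux hvy => by
        have hxΓ := hmem x hx u hu hu1 hux
        have hyΓ := hmem y hy v hv hv1 hvy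
        have := unique_of_rank hΓ.1 (a := ⟨x, hxΓ⟩) (b := ⟨y, hyΓ⟩) (Subtype.ext (congrArg (fun w : N => (w : G)) hx2))
          (Subtype.ext (congrArg (fun w : N => (w : G)) hy2)) (fun e => hx1 (Subtype.ext (congrArg (fun w : Γ => (w : G)) e)))
          (fun e => hy1 (Subtype.ext (congrArg (fun w : Γ => (w : G)) e)))
          (Subtype.ext (congrArg (fun w : N => (w : G)) hxy))
        exact Subtype.ext (congrArg (fun w : Γ => (w : G)) this))
    have := key ⟨a, hAN a.2⟩ a.2 ⟨b, hAN b.2⟩ b.2 (Subtype.ext (congrArg (fun w : A => (w : G)) ha2))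
      (Subtype.ext (congrArg (fun w : A => (w : G)) hb2)) (fun e => ha1 (Subtype.ext (congrArg (fun w : N => (w : G)) e)))
      (fun e => hb1 (Subtype.ext (congrArg (fun w : N => (w : G)) e)))
      (Subtype.ext (congrArg (fun w : A => (w : G)) hab))
    exact Subtype.ext (congrArg (fun w : N => (w : G)) this)
  · set ι := Subgroup.inclusion hΓA
    have hinj : Function.Injective ι := Subgroup.inclusion_injective hΓA
    have hVc : IsMulCommutative (V.map ι) := ⟨⟨by
      rintro ⟨_, x, hx, rfl⟩ ⟨_, y, hy, rfl⟩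
      refine Subtype.ext ?_
      show ι x * ι y = ι y * ι x
      rw [← map_mul, ← map_mul]
      exact congrArg ι (congrArg Subtype.val (hc.is_comm.comm (⟨x, hx⟩ : V) ⟨y, hy⟩))⟩⟩
    have h1 := h0 (V.map ι) hVc (by rintro _ ⟨x, hx, rfl⟩; rw [← map_pow, he x hx, map_one])
    rwa [Subgroup.card_map_of_injective hinj] at h1

end Cfsg.Agent.S1915
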