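import Cfsg.Statements.S1919
import Cfsg.Agent.Lib.SF23.GlueMain

set_option autoImplicit false
open Cfsg

namespace Cfsg.Agent.S1919

/-- Let p be 2 or 3, G a finite group, A an abelian p-subgroup of G containing an elementary abelian subgroup of order p³, and θ an A-signalizer functor on G. Then θ is complete. -/
theorem result {G : Type*} [Group G] [Finite G] {p : ℕ} [Fact p.Prime] (hp : p = 2 ∨ p = 3)
    (A : Subgroup G) (hAc : IsMulCommutative A) (hAp : IsPGroup p A)
    (hA3 : ∃ E : Subgroup G, E ≤ A ∧ Cfsg.IsElementaryAbelian p E ∧ Nat.card E = p ^ 3)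
    (θ : G → Subgroup G) (hθ : Cfsg.IsSignalizerFunctor p A θ) :
    Cfsg.IsCompleteSignalizerFunctor p A θ := by
  refine CfsgLib.SF23.complete_of_noCtx hp A hAc hA3 θ hθ ?_
  rintro rfl
  exact CfsgLib.SF23.noCtx_three

end Cfsg.Agent.S1919
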