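import Cfsg.Statements.S1921
import Cfsg.Agent.Lib.Comp.LayerMore

set_option autoImplicit false
set_option linter.unusedVariables false
open Cfsg
open scoped commutatorElement

namespace Cfsg.Agent.S1921

/-- Let a be an involution of a finite group H and L a component of H with a L a⁻¹ ≠ L; put M = ⟨L, aLa⁻¹⟩ and let J be the subgroup generated by the elements x · a x a⁻¹ with x ∈ L (the diagonal). Then every element of M outside J·Z(M) generates M together with J. -/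
theorem result {H : Type*} [Group H] [Finite H] (a : H) (ha : orderOf a = 2) (L : Subgroup H) (hL : Cfsg.IsComponent L)
    (hLa : L.map (MulAut.conj a).toMonoidHom ≠ L) (x : H) (hxM : x ∈ L ⊔ L.map (MulAut.conj a).toMonoidHom)
    (hxJ : x ∉ Subgroup.closure {y : H | ∃ l ∈ L, y = l * (a * l * a⁻¹)} ⊔
      ((L ⊔ L.map (MulAut.conj a).toMonoidHom) ⊓ Subgroup.centralizer ((L ⊔ L.map (MulAut.conj a).toMonoidHom : Subgroup H) : Set H))) :
    Subgroup.closure {y : H | ∃ l ∈ L, y = l * (a * l * a⁻¹)} ⊔ Subgroup.zpowers x = L ⊔ L.map (MulAut.conj a).toMonoidHom := by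
  set La := L.map (MulAut.conj a).toMonoidHom with hLadef
  set J := Subgroup.closure {y : H | ∃ l ∈ L, y = l * (a * l * a⁻¹)} with hJ
  set M := L ⊔ La with hM
  have hcomm : ⁅L, La⁆ = ⊥ :=
    (CfsgLib.components_eq_or_commute hL (CfsgLib.isComponent_map_equiv (MulAut.conj a) hL)).resolve_left
      (fun e => hLa e.symm)
  have hgen : ∀ l ∈ L, l * (a * l * a⁻¹) ∈ J := fun l hl => Subgroup.subset_closure ⟨l, hl, rfl⟩
  have hJM : J ≤ M := (Subgroup.closure_le _).mpr (by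
    rintro _ ⟨l, hl, rfl⟩
    exact Subgroup.mul_mem _ (Subgroup.mem_sup_left hl) (Subgroup.mem_sup_right ⟨l, hl, rfl⟩))
  refine le_antisymm (sup_le hJM (Subgroup.zpowers_le.mpr hxM)) ?_
  obtain ⟨u, hu, w, hw, rfl⟩ := CfsgLib.Comp.mem_sup_of_commutator_eq_bot hcomm hxM
  obtain ⟨v, hv, rfl⟩ := hw
  set x := u * (MulAut.conj a).toMonoidHom v with hx
  set H₀ := J ⊔ Subgroup.zpowers x with hH₀
  set l := u * v⁻¹ with hl
  have hlL : l ∈ L := L.mul_mem hu (L.inv_mem hv)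
  have hxl : x = l * (v * (a * v * a⁻¹)) := by
    rw [hl, hx, MulEquiv.coe_toMonoidHom, MulAut.conj_apply]; group
  have hlH : l ∈ H₀ := by
    have : l = x * (v * (a * v * a⁻¹))⁻¹ := by rw [hxl, mul_inv_cancel_right]
    rw [this]
    exact H₀.mul_mem (Subgroup.mem_sup_right (Subgroup.mem_zpowers x)) (H₀.inv_mem (Subgroup.mem_sup_left (hgen v hv)))
  set N := (H₀ ⊓ L).subgroupOf L with hN
  haveI : N.Normal := by
    refine ⟨fun n hn m => ?_⟩
    obtain ⟨hn1, hn2⟩ := Subgroup.mem_inf.mp (Subgroup.mem_subgroupOf.mp hn)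
    refine Subgroup.mem_subgroupOf.mpr (Subgroup.mem_inf.mpr ⟨?_, (m * n * m⁻¹).2⟩)
    set g := (m : H) * (a * m * a⁻¹) with hg
    have hgH : g ∈ H₀ := Subgroup.mem_sup_left (hgen m m.2)
    have h1 : g * n * g⁻¹ = ((m * n * m⁻¹ : ↥L) : H) := by
      have h2 : a * (m : H) * a⁻¹ * (n : H) = (n : H) * (a * m * a⁻¹) :=
        (CfsgLib.Comp.comm_of_commutator_eq_bot hcomm n.2 (show a * (m : H) * a⁻¹ ∈ La from ⟨m, m.2, rfl⟩)).symm
      push_cast
      rw [hg]
      calc (m : H) * (a * m * a⁻¹) * n * ((m : H) * (a * m * a⁻¹))⁻¹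
          = (m : H) * (a * m * a⁻¹ * n) * (a * m * a⁻¹)⁻¹ * (m : H)⁻¹ := by group
        _ = (m : H) * ((n : H) * (a * m * a⁻¹)) * (a * m * a⁻¹)⁻¹ * (m : H)⁻¹ := by rw [h2]
        _ = (m : H) * n * (m : H)⁻¹ := by group
    rw [← h1]
    exact H₀.mul_mem (H₀.mul_mem hgH hn1) (H₀.inv_mem hgH)
  rcases CfsgLib.quasisimple_normal_le_center_or_eq_top hL.2 N with h | h
  · exfalso
    have hlc : (⟨l, hlL⟩ : ↥L) ∈ Subgroup.center ↥L := h (show (⟨l, hlL⟩ : ↥L) ∈ N from
      Subgroup.mem_subgroupOf.mpr (Subgroup.mem_inf.mpr ⟨hlH, hlL⟩))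
    refine hxJ ?_
    rw [hxl]
    refine Subgroup.mul_mem _ (Subgroup.mem_sup_right (Subgroup.mem_inf.mpr ⟨Subgroup.mem_sup_left hlL, ?_⟩))
      (Subgroup.mem_sup_left (hgen v hv))
    have hle : M ≤ Subgroup.centralizer {l} := by
      refine sup_le (fun y hy => ?_) (fun y hy => ?_)
      · exact Subgroup.mem_centralizer_singleton_iff.mpr
          (congrArg Subtype.val (Subgroup.mem_center_iff.mp hlc ⟨y, hy⟩))
      · exact Subgroup.mem_centralizer_singleton_iff.mpr (CfsgLib.Comp.comm_of_commutator_eq_bot hcomm hlL hy).symm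
    intro y hy
    exact Subgroup.mem_centralizer_singleton_iff.mp (hle hy)
  · have hLH : L ≤ H₀ := fun y hy => (Subgroup.mem_inf.mp (Subgroup.mem_subgroupOf.mp
      (show (⟨y, hy⟩ : ↥L) ∈ N from h ▸ Subgroup.mem_top _))).1
    refine sup_le hLH ?_
    rintro _ ⟨m, hm, rfl⟩
    have h1 := H₀.mul_mem (H₀.inv_mem (hLH hm)) (Subgroup.mem_sup_left (hgen m hm))
    rwa [inv_mul_cancel_left] at h1

end Cfsg.Agent.S1921
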