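import Cfsg.Statements.S1922
import Mathlib
import Cfsg.Agent.Lib.Involutions
import Cfsg.Agent.Lib.SylowExtra
import Cfsg.Agent.Lib.PRegularClass

set_option autoImplicit false
set_option linter.unusedVariables false
open Cfsg
open scoped commutatorElement

namespace Cfsg.Agent.S1922


theorem odd_of_unique_fixed {α : Type*} [Finite α] (f : α → α) (hf : ∀ a, f (f a) = a) (a₀ : α)
    (h₀ : f a₀ = a₀) (hu : ∀ a, f a = a → a = a₀) : ¬ 2 ∣ Nat.card α := by
  haveI : Fact (Nat.Prime 2) := ⟨Nat.prime_two⟩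
  set σ : Equiv.Perm α := Function.Involutive.toPerm f hf with hσ
  have hσ2 : σ ^ 2 = 1 := Equiv.ext fun a => by rw [sq, Equiv.Perm.mul_apply]; exact hf a
  have hP : IsPGroup 2 ↥(Subgroup.zpowers σ) := by
    rintro ⟨s, k, rfl⟩
    refine ⟨1, Subtype.ext ?_⟩
    show (σ ^ k) ^ 2 ^ 1 = 1
    rw [pow_one, ← zpow_natCast, ← zpow_mul, mul_comm, zpow_mul, zpow_natCast, hσ2, one_zpow]
  have h1 := hP.card_modEq_card_fixedPoints α
  have e : MulAction.fixedPoints ↥(Subgroup.zpowers σ) α = {a₀} := by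
    ext a
    refine ⟨fun h => hu a (h ⟨σ, Subgroup.mem_zpowers σ⟩), ?_⟩
    rintro rfl ⟨s, hs⟩
    have hm : σ ∈ MulAction.stabilizer (Equiv.Perm α) a := h₀
    exact (Subgroup.zpowers_le.mpr hm) hs
  rw [e, Nat.card_coe_set_eq, Set.ncard_singleton] at h1
  intro h
  have := h1.symm.trans (Nat.modEq_zero_iff_dvd.mpr h)
  exact absurd this (by decide)

theorem sq_inj {G : Type*} [Group G] {a b : G} (ha : Odd (orderOf a)) (hb : Odd (orderOf b))
    (h : a ^ 2 = b ^ 2) : a = b := by
  obtain ⟨n, hn⟩ := ha.mul hb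
  have h1 : ∀ c : G, orderOf c ∣ orderOf a * orderOf b → (c ^ 2) ^ (n + 1) = c := by
    intro c hc
    rw [← pow_mul, show 2 * (n + 1) = (2 * n + 1) + 1 by ring, pow_succ, orderOf_dvd_iff_pow_eq_one.mp (hn ▸ hc), one_mul]
  rw [← h1 a (dvd_mul_right _ _), h, h1 b (dvd_mul_left _ _)]

theorem fixed_cosets {G : Type*} [Group G] (H : Subgroup G) (g x : G) :
    g • (x : G ⧸ H) = x ↔ x⁻¹ * g * x ∈ H := by
  rw [MulAction.Quotient.smul_mk, smul_eq_mul]
  constructor
  · intro h
    have h2 := H.inv_mem (QuotientGroup.eq.mp h)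
    simpa [mul_assoc] using h2
  · intro h
    refine QuotientGroup.eq.mpr ?_
    simpa [mul_assoc] using H.inv_mem h

/-- Let z be an involution of a finite group G and H a proper subgroup such that z lies in gHg⁻¹ exactly when g ∈ H. Then the following are equivalent: (1) for every conjugate t ≠ z of z commuting with z, the product zt lies in gHg⁻¹ exactly when g ∈ H; (2) z lies in the centre of some Sylow 2-subgroup of G, and for every conjugate t ≠ z of z commuting with z, the centralizer of zt is contained in H. -/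
theorem result {G : Type*} [Group G] [Finite G] (z : G) (hz : orderOf z = 2) (H : Subgroup G) (hH : H ≠ ⊤)
    (h0 : ∀ g : G, z ∈ H.map (MulAut.conj g).toMonoidHom ↔ g ∈ H) :
    (∀ t : G, IsConj z t → t ≠ z → t * z = z * t → ∀ g : G, z * t ∈ H.map (MulAut.conj g).toMonoidHom ↔ g ∈ H) ↔
      ((∃ P : Sylow 2 G, z ∈ (Subgroup.center ↥(P : Subgroup G)).map (P : Subgroup G).subtype) ∧
        ∀ t : G, IsConj z t → t ≠ z → t * z = z * t → Subgroup.centralizer ({z * t} : Set G) ≤ H) := by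
  classical
  haveI : Fact (Nat.Prime 2) := ⟨Nat.prime_two⟩
  have h0' : ∀ g : G, g⁻¹ * z * g ∈ H ↔ g ∈ H := fun g => by
    rw [← h0 g, Subgroup.mem_map_equiv, MulAut.conj_symm_apply]
  have hmapmem : ∀ g w : G, w ∈ H.map (MulAut.conj g).toMonoidHom ↔ g⁻¹ * w * g ∈ H := fun g w => by
    rw [Subgroup.mem_map_equiv, MulAut.conj_symm_apply]
  have hz2 : z * z = 1 := CfsgLib.Involutions.mul_self_eq_one_of_orderOf hz
  have hzH : z ∈ H := by simpa using (h0' 1).mpr H.one_mem
  set C := Subgroup.centralizer ({z} : Set G) with hC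
  have hCH : C ≤ H := fun c hc => (h0' c).mp (by
    rw [show c⁻¹ * z * c = z by
      rw [mul_assoc, ← Subgroup.mem_centralizer_singleton_iff.mp hc, inv_mul_cancel_left]]
    exact hzH)
  obtain ⟨x, hx⟩ : ∃ x : G, x ∉ H := by
    by_contra h; push Not at h; exact hH (eq_top_iff.mpr fun y _ => h y)
  -- conjugates of `z` fixing a coset
  let Z : G → Type _ := fun g => {u : G // IsConj z u ∧ g⁻¹ * u * g ∈ H}
  have hZeq : ∀ g, Nat.card (Z g) = Nat.card (Z 1) := fun g => by
    refine Nat.card_congr (Equiv.subtypeEquiv (MulAut.conj g⁻¹).toEquiv fun u => ?_)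
    show _ ↔ IsConj z (g⁻¹ * u * g⁻¹⁻¹) ∧ 1⁻¹ * (g⁻¹ * u * g⁻¹⁻¹) * 1 ∈ H
    simp only [inv_inv, inv_one, one_mul, mul_one]
    refine and_congr_left' ⟨fun h => h.trans (isConj_iff.mpr ⟨g⁻¹, by rw [inv_inv]⟩), fun h => h.trans (isConj_iff.mpr ⟨g, by group⟩)⟩
  have hZ1 : Nat.card (Z 1) = C.relIndex H := by
    show _ = (C.subgroupOf H).index
    rw [show C.subgroupOf H = Subgroup.centralizer ({(⟨z, hzH⟩ : ↥H)} : Set ↥H) by
      ext w
      rw [Subgroup.mem_subgroupOf, Subgroup.mem_centralizer_singleton_iff, Subgroup.mem_centralizer_singleton_iff,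
        Subtype.ext_iff]
      rfl, ← CfsgLib.ncard_carrier_eq_index_centralizer, ← Nat.card_coe_set_eq]
    refine Nat.card_congr
      { toFun := fun u => ⟨⟨u.1, by simpa using u.2.2⟩, ?_⟩
        invFun := fun y => ⟨(y.1 : G), ?_⟩
        left_inv := fun u => rfl
        right_inv := fun y => rfl }
    · obtain ⟨g, hg⟩ := isConj_iff.mp u.2.1
      rw [ConjClasses.mem_carrier_iff_mk_eq, ConjClasses.mk_eq_mk_iff_isConj]
      refine (isConj_iff.mpr ⟨⟨g, ?_⟩, Subtype.ext hg⟩).symm
      have : g⁻¹⁻¹ * z * g⁻¹ ∈ H := by rw [inv_inv, hg]; simpa using u.2.2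
      simpa using H.inv_mem ((h0' g⁻¹).mp this)
    · have hy := ConjClasses.mk_eq_mk_iff_isConj.mp (ConjClasses.mem_carrier_iff_mk_eq.mp y.2)
      obtain ⟨g, hg⟩ := isConj_iff.mp hy.symm
      exact ⟨isConj_iff.mpr ⟨g, congrArg Subtype.val hg⟩, by simp⟩
  have hfixone : ∀ g : G, z • (g : G ⧸ H) = g ↔ g ∈ H := fun g => (fixed_cosets H z g).trans (h0' g)
  have hHindex : ¬ 2 ∣ H.index := by
    refine odd_of_unique_fixed (α := G ⧸ H) (fun q => z • q) (fun q => by rw [smul_smul, hz2, one_smul])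
      ((1 : G) : G ⧸ H) ((hfixone 1).mpr H.one_mem) fun q hq => ?_
    obtain ⟨g, rfl⟩ := QuotientGroup.mk_surjective q
    exact QuotientGroup.eq.mpr (by simpa using (hfixone g).mp hq)
  constructor
  · intro hyp
    have hyp' : ∀ t : G, IsConj z t → t ≠ z → t * z = z * t → ∀ g : G, g⁻¹ * (z * t) * g ∈ H ↔ g ∈ H :=
      fun t h1 h2 h3 g => by rw [← hmapmem]; exact hyp t h1 h2 h3 g
    refine ⟨?_, fun t h1 h2 h3 c hc => (hyp' t h1 h2 h3 c).mp ?_⟩
    swap
    · rw [mul_assoc c⁻¹, ← Subgroup.mem_centralizer_singleton_iff.mp hc, inv_mul_cancel_left]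
      simpa using (hyp' t h1 h2 h3 1).mpr H.one_mem
    -- products with conjugates outside `H` have odd order
    have hodd : ∀ u : G, IsConj z u → u ∉ H → Odd (orderOf (z * u)) := by
      intro u hu huH
      rw [← Nat.not_even_iff_odd]
      intro he
      obtain ⟨g, hg⟩ := isConj_iff.mp hu
      have hu2 : u * u = 1 := by rw [← hg, conj_mul, hz2]; group
      obtain ⟨hcz, hcu⟩ := CfsgLib.Involutions.central_half hz2 hu2 he
      have hi2 := CfsgLib.Involutions.orderOf_half (x := z) (y := u) he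
      generalize hn : orderOf (z * u) / 2 = n at hcz hcu hi2
      set i := (z * u) ^ n with hi
      have hzi : IsConj z (z * i) := by
        obtain ⟨j, hj | hj⟩ := Nat.even_or_odd' n
        · refine isConj_iff.mpr ⟨(z * u) ^ (-(j : ℤ)), ?_⟩
          rw [CfsgLib.Involutions.zpow_mul_eq hz2 hu2, neg_neg, mul_assoc, ← zpow_neg, neg_neg, ← zpow_add, hi, hj,
            ← zpow_natCast (z * u) (2 * j)]
          congr 2
          push_cast
          ring
        · refine hu.trans (isConj_iff.mpr ⟨(z * u) ^ (-(j : ℤ)), ?_⟩)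
          rw [show u = z * (z * u) by rw [← mul_assoc, hz2, one_mul], ← mul_assoc z, hz2, one_mul,
            ← mul_assoc, CfsgLib.Involutions.zpow_mul_eq hz2 hu2, neg_neg, ← zpow_neg, neg_neg, mul_assoc, mul_assoc, hi, hj,
            ← zpow_one_add, ← zpow_add, ← zpow_natCast (z * u) (2 * j + 1)]
          congr 2
          push_cast
          ring
      have hne : z * i ≠ z := fun h => by rw [mul_eq_left] at h; rw [h, orderOf_one] at hi2; omega
      have key := hyp' (z * i) hzi hne (by rw [mul_assoc, hcz.eq]) g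
      rw [← mul_assoc z z i, hz2, one_mul] at key
      refine huH ?_
      have hgi : g⁻¹ * i * g ∈ C := by
        rw [hC, Subgroup.mem_centralizer_singleton_iff]
        calc g⁻¹ * i * g * z = g⁻¹ * (i * (g * z * g⁻¹)) * g := by group
          _ = g⁻¹ * (g * z * g⁻¹ * i) * g := by rw [hg, hcu.eq]
          _ = z * (g⁻¹ * i * g) := by group
      have hgH : g ∈ H := key.mp (hCH hgi)
      rw [← hg]
      exact H.mul_mem (H.mul_mem hgH hzH) (H.inv_mem hgH)
    -- the conjugates of `z` moving `H` to `x H`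
    let W := {a : G // IsConj z a ∧ x⁻¹ * a ∈ H}
    have hWnot : ∀ a : W, a.1 ∉ H := fun a ha => hx (by
      have := H.mul_mem ha (H.inv_mem a.2.2); simpa using this)
    have hinv : ∀ a : G, IsConj z a → a * a = 1 := fun a ha => by
      obtain ⟨g, rfl⟩ := isConj_iff.mp ha; rw [conj_mul, hz2]; group
    let F : W → Z x := fun a => ⟨a.1 * z * a.1, a.2.1.trans (a.2.1.symm.trans (isConj_iff.mpr ⟨a.1, by
        rw [inv_eq_of_mul_eq_one_right (hinv _ a.2.1)]⟩)), by
      have h1 : a.1 * x ∈ H := by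
        have := H.inv_mem a.2.2
        rwa [mul_inv_rev, inv_inv, inv_eq_of_mul_eq_one_right (hinv _ a.2.1)] at this
      rw [show x⁻¹ * (a.1 * z * a.1) * x = (x⁻¹ * a.1) * z * (a.1 * x) by group]
      exact H.mul_mem (H.mul_mem a.2.2 hzH) h1⟩
    have hFinj : Function.Injective F := by
      intro a b hab
      have h1 : a.1 * z * a.1 = b.1 * z * b.1 := congrArg Subtype.val hab
      have h2 : ∀ c : W, Odd (orderOf (c.1 * z)) := fun c => by
        rw [← orderOf_inv, mul_inv_rev, inv_eq_of_mul_eq_one_right hz2, inv_eq_of_mul_eq_one_right (hinv _ c.2.1)]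
        exact hodd _ c.2.1 (hWnot c)
      refine Subtype.ext (mul_right_cancel (sq_inj (h2 a) (h2 b) ?_))
      calc (a.1 * z) ^ 2 = a.1 * z * a.1 * z := by rw [sq]; group
        _ = b.1 * z * b.1 * z := by rw [h1]
        _ = (b.1 * z) ^ 2 := by rw [sq]; group
    have hFsurj : Function.Surjective F := by
      rintro ⟨u, hu, hux⟩
      have huH : u ∉ H := by
        intro h
        obtain ⟨g, hg⟩ := isConj_iff.mp hu
        have h1 : g ∈ H := by
          have := (h0' g⁻¹).mp (by rw [inv_inv, hg]; exact h)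
          simpa using H.inv_mem this
        have h2 : (g⁻¹ * x)⁻¹ * z * (g⁻¹ * x) ∈ H := by rw [← hg] at hux; simpa [mul_assoc] using hux
        exact hx (by simpa using H.mul_mem h1 ((h0' _).mp h2))
      obtain ⟨n, hn⟩ := hodd u hu huH
      set r := z * u with hr
      have hu2 := hinv u hu
      set e := r ^ (-((n : ℤ) + 1)) with he
      have hd : r ^ (2 * (n : ℤ) + 1) = 1 := by
        rw [show (2 * (n : ℤ) + 1) = ((2 * n + 1 : ℕ) : ℤ) by push_cast; ring, zpow_natCast, ← hn, pow_orderOf_eq_one]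
      have hee : e * e = u * z := by
        rw [he, ← zpow_add, show (-((n : ℤ) + 1) + -((n : ℤ) + 1)) = -1 + -(2 * (n : ℤ) + 1) by ring, zpow_add,
          zpow_neg, zpow_neg, hd, zpow_one, hr, mul_inv_rev, inv_eq_of_mul_eq_one_right hu2, inv_eq_of_mul_eq_one_right hz2]
        group
      have hze : ∀ k : ℤ, z * r ^ k * z = r ^ (-k) := fun k => by
        have := CfsgLib.Involutions.conj_zpow_eq_inv hz2 hu2 k
        rwa [inv_eq_of_mul_eq_one_right hz2] at this
      have haz : IsConj z (e * z) := by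
        refine isConj_iff.mpr ⟨r ^ ((-((n : ℤ) + 1)) * ((n : ℤ) + 1)), ?_⟩
        set k := (-((n : ℤ) + 1)) * ((n : ℤ) + 1) with hk
        have h1 : z * r ^ (-k) = r ^ k * z := by
          rw [← hze k, ← mul_assoc, ← mul_assoc, hz2, one_mul]
        rw [← zpow_neg, mul_assoc, h1, ← mul_assoc, ← zpow_add, he,
          show k + k = -((n : ℤ) + 1) + (2 * (n : ℤ) + 1) * (-((n : ℤ) + 1)) by rw [hk]; ring,
          zpow_add, zpow_mul, hd, one_zpow, mul_one]
      have hval : e * z * z * (e * z) = u := by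
        rw [mul_assoc e z z, hz2, mul_one, ← mul_assoc, hee, mul_assoc, hz2, mul_one]
      refine ⟨⟨e * z, haz, ?_⟩, Subtype.ext hval⟩
      have ha2 := hinv _ haz
      have h3 : (e * z * x)⁻¹ * z * (e * z * x) ∈ H := by
        rw [show (e * z * x)⁻¹ * z * (e * z * x) = x⁻¹ * ((e * z)⁻¹ * z * (e * z)) * x by group,
          inv_eq_of_mul_eq_one_right ha2, hval]
        exact hux
      have h4 := H.inv_mem ((h0' _).mp h3)
      rwa [mul_inv_rev, inv_eq_of_mul_eq_one_right ha2] at h4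
    have hWodd : ¬ 2 ∣ Nat.card W := by
      haveI : Nonempty W := by
        obtain ⟨a, -⟩ := hFsurj ⟨x * z * x⁻¹, isConj_iff.mpr ⟨x, rfl⟩, by simpa [mul_assoc] using hzH⟩
        exact ⟨a⟩
      obtain ⟨a⟩ := (inferInstance : Nonempty W)
      have ha2 := hinv _ a.2.1
      refine odd_of_unique_fixed (α := W) (fun b => ⟨a.1 * b.1 * a.1, b.2.1.trans (isConj_iff.mpr ⟨a.1, by
          rw [inv_eq_of_mul_eq_one_right ha2]⟩), ?_⟩) (fun b => Subtype.ext ?_) a (Subtype.ext ?_) fun b hb => ?_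
      · -- `a b a` moves `H` to `x H`
        have h1 : b.1⁻¹ * x ∈ H := by simpa using H.inv_mem b.2.2
        rw [inv_eq_of_mul_eq_one_right (hinv _ b.2.1)] at h1
        have h2 := H.mul_mem (H.mul_mem a.2.2 h1) a.2.2
        have : x⁻¹ * a.1 * (b.1 * x) * (x⁻¹ * a.1) = x⁻¹ * (a.1 * b.1 * a.1) := by group
        rwa [this] at h2
      · show a.1 * (a.1 * b.1 * a.1) * a.1 = b.1
        calc a.1 * (a.1 * b.1 * a.1) * a.1 = (a.1 * a.1) * b.1 * (a.1 * a.1) := by group
          _ = b.1 := by rw [ha2]; group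
      · show a.1 * a.1 * a.1 = a.1
        rw [ha2, one_mul]
      · refine Subtype.ext ?_
        by_contra hne
        have hb' : a.1 * b.1 * a.1 = b.1 := congrArg Subtype.val hb
        have hcomm : b.1 * a.1 = a.1 * b.1 := by
          calc b.1 * a.1 = (a.1 * b.1 * a.1) * a.1 := by rw [hb']
            _ = a.1 * b.1 := by rw [mul_assoc, ha2, mul_one]
        obtain ⟨g, hg⟩ := isConj_iff.mp a.2.1
        have hbz : IsConj z (g⁻¹ * b.1 * g) := b.2.1.trans (isConj_iff.mpr ⟨g⁻¹, by rw [inv_inv]⟩)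
        have hbne : g⁻¹ * b.1 * g ≠ z := fun h => hne (by
          calc b.1 = g * (g⁻¹ * b.1 * g) * g⁻¹ := by group
            _ = a.1 := by rw [h, hg])
        have hbc : g⁻¹ * b.1 * g * z = z * (g⁻¹ * b.1 * g) := by
          calc g⁻¹ * b.1 * g * z = g⁻¹ * (b.1 * (g * z * g⁻¹)) * g := by group
            _ = g⁻¹ * ((g * z * g⁻¹) * b.1) * g := by rw [hg, hcomm]
            _ = z * (g⁻¹ * b.1 * g) := by group
        have key := hyp' _ hbz hbne hbc
        have e : ∀ y : G, y⁻¹ * (z * (g⁻¹ * b.1 * g)) * y = (g * y)⁻¹ * (a.1 * b.1) * (g * y) := fun y => by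
          rw [← hg]; group
        have h1 : a.1 * b.1 ∈ H := by
          have := H.mul_mem (H.inv_mem a.2.2) b.2.2
          rwa [mul_inv_rev, inv_inv, inv_eq_of_mul_eq_one_right ha2, show a.1 * x * (x⁻¹ * b.1) = a.1 * b.1 by group] at this
        have hgH : g⁻¹ ∈ H := (key g⁻¹).mp (by rw [e, mul_inv_cancel]; simpa using h1)
        have h2 : g⁻¹ * x ∈ H := (key (g⁻¹ * x)).mp (by
          rw [e, mul_inv_cancel_left]
          have := H.mul_mem a.2.2 (H.inv_mem b.2.2)
          rwa [mul_inv_rev, inv_inv, inv_eq_of_mul_eq_one_right (hinv _ b.2.1),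
            show x⁻¹ * a.1 * (b.1 * x) = x⁻¹ * (a.1 * b.1) * x by group] at this)
        exact hx (by simpa using H.mul_mem (H.inv_mem hgH) h2)
    have hk : ¬ 2 ∣ C.relIndex H := by
      rw [← hZ1, ← hZeq x, ← Nat.card_congr (Equiv.ofBijective F ⟨hFinj, hFsurj⟩)]
      exact hWodd
    have hCi : ¬ 2 ∣ C.index := by
      rw [← Subgroup.relIndex_mul_index hCH]
      exact Nat.Prime.not_dvd_mul Nat.prime_two hk hHindex
    obtain ⟨P, hP⟩ := CfsgLib.exists_sylow_le_of_not_dvd_index C hCi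
    have hzP : z ∈ (P : Subgroup G) := CfsgLib.mem_sylow_of_mem_centralizer P ⟨1, by rw [pow_one, sq, hz2]⟩
      fun y hy => (Subgroup.mem_centralizer_singleton_iff.mp (hP hy)).symm
    refine ⟨P, ⟨z, hzP⟩, Subgroup.mem_center_iff.mpr fun y => Subtype.ext ?_, rfl⟩
    exact Subgroup.mem_centralizer_singleton_iff.mp (hP y.2)
  · rintro ⟨⟨P, ⟨z', hz'P⟩, hzcen, hze⟩, hcent⟩ t hzt htz hcomm g
    have hzeq : z' = z := hze
    subst hzeq
    have hPC : (P : Subgroup G) ≤ C := fun y hy => Subgroup.mem_centralizer_singleton_iff.mpr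
      (congrArg Subtype.val (Subgroup.mem_center_iff.mp hzcen ⟨y, hy⟩))
    have hk : ¬ 2 ∣ C.relIndex H := fun h => P.not_dvd_index
      ((h.trans (Dvd.intro _ (Subgroup.relIndex_mul_index hCH))).trans (Subgroup.index_dvd_of_le hPC))
    have hzzt : z' * t ∈ H := H.mul_mem hzH (hCH (Subgroup.mem_centralizer_singleton_iff.mpr hcomm))
    rw [hmapmem]
    refine ⟨fun hg => ?_, fun hg => H.mul_mem (H.mul_mem (H.inv_mem hg) hzzt) hg⟩
    have hww : z' * t * (z' * t) = z' * z' * (t * t) := by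
      calc z' * t * (z' * t) = z' * (t * z') * t := by group
        _ = z' * z' * (t * t) := by rw [hcomm]; group
    set w := z' * t with hw
    have ht2 : t * t = 1 := by obtain ⟨c, rfl⟩ := isConj_iff.mp hzt; rw [conj_mul, hz2]; group
    have hw2 : w * w = 1 := by rw [hww, hz2, ht2, one_mul]
    have hne : ¬ 2 ∣ Nat.card (Z g) := by rwa [hZeq g, hZ1]
    haveI := Fintype.ofFinite (Z g)
    let f : Z g → Z g := fun u => ⟨w * u.1 * w, u.2.1.trans (isConj_iff.mpr ⟨w, by rw [inv_eq_of_mul_eq_one_right hw2]⟩), by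
      have := H.mul_mem (H.mul_mem hg u.2.2) hg
      rwa [show g⁻¹ * w * g * (g⁻¹ * u.1 * g) * (g⁻¹ * w * g) = g⁻¹ * (w * u.1 * w) * g by group] at this⟩
    have hf : ∀ u, f (f u) = u := fun u => Subtype.ext (by
      show w * (w * u.1 * w) * w = u.1
      calc w * (w * u.1 * w) * w = (w * w) * u.1 * (w * w) := by group
        _ = u.1 := by rw [hw2]; group)
    obtain ⟨u, hu⟩ := Equiv.Perm.exists_fixed_point_of_prime (p := 2) (n := 1) (by rwa [← Nat.card_eq_fintype_card])
      (σ := Function.Involutive.toPerm f hf) (by rw [pow_one, sq]; exact Equiv.ext hf)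
    have hu' : w * u.1 * w = u.1 := congrArg Subtype.val hu
    have hucomm : u.1 ∈ Subgroup.centralizer ({w} : Set G) := by
      rw [Subgroup.mem_centralizer_singleton_iff]
      calc u.1 * w = w * u.1 * w * w := by rw [hu']
        _ = w * u.1 := by rw [mul_assoc, hw2, mul_one]
    have huH : u.1 ∈ H := hcent t hzt htz hcomm hucomm
    obtain ⟨c, hc⟩ := isConj_iff.mp u.2.1
    have hc1 : c⁻¹ ∈ H := (h0' c⁻¹).mp (by rw [inv_inv, hc]; exact huH)
    have hc2 : c⁻¹ * g ∈ H := (h0' _).mp (by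
      have := u.2.2
      rw [← hc] at this
      simpa [mul_assoc] using this)
    simpa using H.mul_mem (H.inv_mem hc1) hc2

end Cfsg.Agent.S1922
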