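import Cfsg.Statements.S1924
import Cfsg.Agent.Lib.PComplement
import Cfsg.Agent.Lib.Transfer

set_option autoImplicit false
set_option linter.unusedVariables false
open Cfsg
open scoped commutatorElement

namespace Cfsg.Agent.S1924

universe u
open Equiv in
theorem sign_semiregular {α : Type*} [Fintype α] [DecidableEq α] (σ : Equiv.Perm α) (n o : ℕ) (hn : Even n)
    (ho : Odd o) (hpos : 0 < n) (hord : σ ^ n = 1) (hfree : ∀ (k : ℕ) (x : α), (σ ^ k) x = x → n ∣ k)
    (hcard : Fintype.card α = n * o) : Equiv.Perm.sign σ = -1 := by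
  have hn2 : 2 ≤ n := by
    obtain ⟨m, hm⟩ := hn
    omega
  have hsupp : σ.support = Finset.univ := by
    refine Finset.eq_univ_iff_forall.mpr fun x => Equiv.Perm.mem_support.mpr fun hx => ?_
    have := Nat.le_of_dvd one_pos (hfree 1 x (by rw [pow_one]; exact hx))
    omega
  have hall : ∀ L ∈ σ.cycleType, L = n := by
    intro L hL
    refine Nat.dvd_antisymm ((Equiv.Perm.dvd_of_mem_cycleType hL).trans (orderOf_dvd_of_pow_eq_one hord)) ?_
    obtain ⟨c, τ, e, hd, hc, hcL⟩ := Equiv.Perm.mem_cycleType_iff.mp hL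
    obtain ⟨x, hx⟩ : c.support.Nonempty := Finset.card_pos.mp (by
      have := hc.two_le_card_support
      omega)
    refine hfree L x ?_
    have hτ : τ x = x := (hd x).resolve_left (Equiv.Perm.mem_support.mp hx)
    have hcp : c ^ L = 1 := by rw [← hcL, ← hc.orderOf]; exact pow_orderOf_eq_one c
    rw [e, hd.commute.mul_pow, hcp, one_mul]
    exact Equiv.Perm.pow_apply_eq_self_of_apply_eq_self hτ L
  have hrep : σ.cycleType = Multiset.replicate (Multiset.card σ.cycleType) n := Multiset.eq_replicate_card.mpr hall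
  have hsum : σ.cycleType.sum = n * o := by rw [Equiv.Perm.sum_cycleType, hsupp, Finset.card_univ, hcard]
  have hcount : Multiset.card σ.cycleType = o := by
    have h := hsum
    rw [hrep, Multiset.sum_replicate, smul_eq_mul, mul_comm] at h
    exact Nat.eq_of_mul_eq_mul_left hpos h
  rw [Equiv.Perm.sign_of_cycleType, hsum, hcount]
  exact ((hn.mul_right o).add_odd ho).neg_one_pow

theorem not_mem_pResidual {G : Type u} [Group G] [Finite G] (T : Subgroup G) (d : G) (o : ℕ) (ho : Odd o)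
    (hd : Even (orderOf d)) (hidx : T.index = orderOf d * o)
    (hfree : ∀ (k : ℕ) (g : G), g * d ^ k * g⁻¹ ∈ T → d ^ k = 1) : d ∉ Cfsg.pResidual 2 G := by
  classical
  haveI : Fintype (G ⧸ T) := Fintype.ofFinite _
  let f : G →* ℤˣ := Equiv.Perm.sign.comp (MulAction.toPermHom G (G ⧸ T))
  have hker : Cfsg.pResidual 2 G ≤ f.ker := CfsgLib.pResidual_le fun g hg => by
    rw [MonoidHom.mem_ker, ← orderOf_eq_one_iff]
    exact Nat.eq_one_of_dvd_coprimes hg.symm
      (orderOf_dvd_of_pow_eq_one (by rcases Int.units_eq_one_or (f g) with e | e <;> rw [e] <;> rfl))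
      (orderOf_map_dvd f g)
  intro h
  have h1 : f d = 1 := hker h
  have h2 : f d = -1 := by
    refine sign_semiregular _ (orderOf d) o hd ho (orderOf_pos d) (by rw [← map_pow, pow_orderOf_eq_one, map_one]) ?_ ?_
    · intro k x hx
      rw [← map_pow] at hx
      obtain ⟨y, rfl⟩ := QuotientGroup.mk_surjective x
      refine orderOf_dvd_of_pow_eq_one (hfree k y⁻¹ ?_)
      have h3 : (QuotientGroup.mk y : G ⧸ T) = QuotientGroup.mk (d ^ k * y) := hx.symm
      rw [inv_inv, mul_assoc]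
      exact QuotientGroup.eq.mp h3
    · rw [← Nat.card_eq_fintype_card]; exact hidx
  rw [h1] at h2
  exact absurd h2 (by decide)

theorem relIndex_dvd_of_normal {G : Type u} [Group G] [Finite G] (S K : Subgroup G) [K.Normal] :
    S.relIndex K ∣ S.index := by
  have a := Subgroup.relIndex_mul_index (inf_le_left : S ⊓ K ≤ S)
  have b := Subgroup.relIndex_mul_index (inf_le_right : S ⊓ K ≤ K)
  have c := Subgroup.relIndex_mul_index (le_sup_right : K ≤ S ⊔ K)
  rw [Subgroup.inf_relIndex_left] at a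
  rw [Subgroup.inf_relIndex_right, ← a, ← c, Subgroup.relIndex_sup_right] at b
  refine ⟨(S ⊔ K).index, Nat.eq_of_mul_eq_mul_left (Nat.pos_of_ne_zero (Subgroup.index_ne_zero_of_finite : (K.subgroupOf S).index ≠ 0)) ?_⟩
  change K.relIndex S * S.index = K.relIndex S * (S.relIndex K * (S ⊔ K).index)
  rw [← b]; ring

theorem card_product {G : Type u} [Group G] [Finite G] {T D S : Subgroup G} (hT : T ≤ S) (hD : D ≤ S) (hi : D ⊓ T = ⊥)
    (hc : Nat.card T * Nat.card D = Nat.card S) (X : Subgroup G) (hTX : T ≤ X) (hXS : X ≤ S) :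
    Nat.card T * Nat.card ↥(D ⊓ X) = Nat.card X := by
  let f : ↥T × ↥D → ↥S := fun a => ⟨a.1.1 * a.2.1, S.mul_mem (hT a.1.2) (hD a.2.2)⟩
  have hf : Function.Injective f := by
    rintro ⟨⟨a, ha⟩, ⟨b, hb⟩⟩ ⟨⟨a', ha'⟩, ⟨b', hb'⟩⟩ e
    have e' : a * b = a' * b' := congrArg Subtype.val e
    have h1 : a'⁻¹ * a = b' * b⁻¹ := by
      rw [eq_mul_inv_iff_mul_eq, mul_assoc, e', inv_mul_cancel_left]
    have h2 : b' * b⁻¹ = 1 := Subgroup.mem_bot.mp (hi ▸ ⟨D.mul_mem hb' (D.inv_mem hb), h1 ▸ T.mul_mem (T.inv_mem ha') ha⟩ :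
      _ ∈ (⊥ : Subgroup G))
    obtain rfl : b' = b := mul_inv_eq_one.mp h2
    obtain rfl : a = a' := mul_right_cancel e'
    rfl
  have hb : Function.Bijective f := (Nat.bijective_iff_injective_and_card f).mpr ⟨hf, by rw [Nat.card_prod]; exact hc⟩
  let g : ↥T × ↥(D ⊓ X) → ↥X := fun a => ⟨a.1.1 * a.2.1, X.mul_mem (hTX a.1.2) a.2.2.2⟩
  have hg : Function.Bijective g := by
    refine ⟨?_, ?_⟩
    · rintro ⟨a, ⟨b, hb1⟩⟩ ⟨a', ⟨b', hb'⟩⟩ e
      have e' : (a : G) * b = a' * b' := congrArg (fun z : ↥X => (z : G)) e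
      have := hf (a₁ := (a, ⟨b, hb1.1⟩)) (a₂ := (a', ⟨b', hb'.1⟩)) (Subtype.ext e')
      simp only [Prod.mk.injEq] at this
      obtain ⟨rfl, h2⟩ := this
      obtain rfl : b = b' := congrArg Subtype.val h2
      rfl
    · rintro ⟨x, hx⟩
      obtain ⟨⟨⟨a, ha⟩, ⟨b, hb'⟩⟩, e⟩ := hb.2 ⟨x, hXS hx⟩
      have e' : a * b = x := congrArg Subtype.val e
      refine ⟨(⟨a, ha⟩, ⟨b, hb', ?_⟩), Subtype.ext e'⟩
      rw [show b = a⁻¹ * x by rw [← e', inv_mul_cancel_left]]
      exact X.mul_mem (X.inv_mem (hTX ha)) hx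
  rw [← Nat.card_congr (Equiv.ofBijective g hg), Nat.card_prod]

theorem involution_outside {D : Type u} [Group D] [Finite D] {n : ℕ} (hn : 2 ≤ n) (e : D ≃* DihedralGroup n)
    (C : Subgroup D) (hC : IsCyclic C) (hi : C.index = 2) {y : D} (hy : y ∉ C) : orderOf y = 2 := by
  haveI : NeZero n := ⟨by omega⟩
  rcases hz : e y with i | i
  swap
  · rw [← MulEquiv.orderOf_eq e y, hz]; exact DihedralGroup.orderOf_sr i
  obtain ⟨a, ha⟩ := hC.exists_generator
  have hDc : Nat.card D = 2 * n := by rw [Nat.card_congr e.toEquiv, DihedralGroup.nat_card]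
  have hCc : Nat.card C = n := by
    have h := C.card_mul_index
    rw [hi, hDc] at h
    omega
  have hao : orderOf (a : D) = n := by
    rw [Subgroup.orderOf_coe, orderOf_eq_card_of_forall_mem_zpowers ha, hCc]
  rcases Nat.lt_or_ge 2 n with hn3 | hn2
  · exfalso
    rcases ha' : e (a : D) with j | j
    swap
    · have : orderOf (e (a : D)) = 2 := by rw [ha']; exact DihedralGroup.orderOf_sr j
      rw [MulEquiv.orderOf_eq, hao] at this
      omega
    have hjr : orderOf (DihedralGroup.r j) = n := by rw [← ha', MulEquiv.orderOf_eq, hao]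
    refine hy ?_
    have hmem : DihedralGroup.r i ∈ Subgroup.zpowers (DihedralGroup.r j) := by
      have hle : Subgroup.zpowers (DihedralGroup.r j) ≤ Subgroup.zpowers (DihedralGroup.r (1 : ZMod n)) := by
        rw [Subgroup.zpowers_le]
        exact ⟨(j.val : ℤ), by simp [zpow_natCast, DihedralGroup.r_one_pow]⟩
      have heq : Subgroup.zpowers (DihedralGroup.r j) = Subgroup.zpowers (DihedralGroup.r (1 : ZMod n)) :=
        Subgroup.eq_of_le_of_card_ge hle (by rw [Nat.card_zpowers, Nat.card_zpowers, hjr, DihedralGroup.orderOf_r_one])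
      rw [heq]
      exact ⟨(i.val : ℤ), by simp [zpow_natCast, DihedralGroup.r_one_pow]⟩
    obtain ⟨k, hk⟩ := hmem
    have : y = (a : D) ^ k := e.injective (by rw [map_zpow, hz, ha']; exact hk.symm)
    rw [this]; exact C.zpow_mem a.2 k
  · obtain rfl : n = 2 := by omega
    refine orderOf_eq_prime ?_ (fun e1 => hy (e1 ▸ C.one_mem))
    refine e.injective ?_
    rw [map_pow, hz, map_one, pow_two, DihedralGroup.r_mul_r, DihedralGroup.one_def]
    congr 1
    exact (by decide : ∀ z : ZMod 2, z + z = 0) i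

/-- A consequence of Thompson's transfer lemma. Let G be a finite group, L a subgroup with O²(L) = L, T a Sylow 2-subgroup of L and S a Sylow 2-subgroup of G containing T. Suppose D ≤ S is a dihedral subgroup of order at least 4 (the four-group counts) with D ∩ T = 1 and S = TD as a set of products (so |S| = |T|·|D|), and C ≤ D is cyclic of index 2 in D. If no involution of D outside C is G-conjugate to an involution of the subgroup generated by T and C, and the involution of C is not G-conjugate to any involution of T, then G has a normal subgroup K, containing every Sylow 2-subgroup of L as a Sylow 2-subgroup, with G = KD. -/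
theorem result {G : Type*} [Group G] [Finite G] (L T S D C : Subgroup G) (hL : Cfsg.pResidual 2 ↥L = ⊤)
    (hTL : T ≤ L) (hT2 : IsPGroup 2 T) (hTsyl : ¬ 2 ∣ T.relIndex L)
    (hS2 : IsPGroup 2 S) (hSsyl : ¬ 2 ∣ S.index) (hTS : T ≤ S)
    (hDS : D ≤ S) (hDih : ∃ n : ℕ, 2 ≤ n ∧ Nonempty (↥D ≃* DihedralGroup n)) (hDT : D ⊓ T = ⊥) (hTD : T ⊔ D = S) (hTDc : Nat.card T * Nat.card D = Nat.card S)
    (hCD : C ≤ D) (hC : IsCyclic ↥C) (hCi : C.relIndex D = 2)
    (h1 : ∀ x ∈ D, x ∉ C → orderOf x = 2 → ∀ g : G, g * x * g⁻¹ ∈ T ⊔ C → False)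
    (h2 : ∀ c ∈ C, orderOf c = 2 → ∀ g : G, g * c * g⁻¹ ∈ T → False) :
    ∃ K : Subgroup G, K.Normal ∧ K ⊔ D = ⊤ ∧
      ∀ T' : Subgroup G, T' ≤ L → IsPGroup 2 T' → ¬ 2 ∣ T'.relIndex L → T' ≤ K ∧ ¬ 2 ∣ T'.relIndex K := by
  classical
  haveI : Fact (Nat.Prime 2) := ⟨Nat.prime_two⟩
  set K := Cfsg.pResidual 2 G with hKdef
  have hLK : L ≤ K := fun l hl => CfsgLib.Transfer.map_pResidual_le L.subtype ⟨⟨l, hl⟩, hL.ge (Subgroup.mem_top _), rfl⟩
  have hTK : T ≤ K := hTL.trans hLK
  obtain ⟨n, hn, ⟨e⟩⟩ := hDih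
  have hDpos : 0 < Nat.card ↥C := Nat.card_pos
  have hcardD : Nat.card ↥D = 2 * Nat.card ↥C := by
    have h := Subgroup.relIndex_mul_relIndex ⊥ C D bot_le hCD
    rw [Subgroup.relIndex_bot_left, Subgroup.relIndex_bot_left, hCi] at h
    omega
  have hout : ∀ y ∈ D, y ∉ C → orderOf y = 2 := by
    intro y hy hyC
    haveI : IsCyclic ↥(C.subgroupOf D) := (Subgroup.subgroupOfEquivOfLe hCD).isCyclic.mpr hC
    have := involution_outside hn e (C.subgroupOf D) inferInstance hCi (y := ⟨y, hy⟩) hyC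
    rwa [← Subgroup.orderOf_coe] at this
  have hSodd : Odd S.index := Nat.not_even_iff_odd.mp fun he => hSsyl he.two_dvd
  -- involutions outside `C`
  have hstep1 : ∀ y ∈ D, y ∉ C → y ∉ K := by
    intro y hy hyC
    have hy2 := hout y hy hyC
    have hM : (T ⊔ C) ≤ S := sup_le hTS (hCD.trans hDS)
    have hlt : y ∉ T ⊔ C := fun h => h1 y hy hyC hy2 1 (by simpa using h)
    have hDC : D ⊓ (T ⊔ C) = C := by
      refine le_antisymm (fun z hz => ?_) (le_inf hCD le_sup_right)
      by_contra hzC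
      exact h1 z hz.1 hzC (hout z hz.1 hzC) 1 (by simpa using hz.2)
    have hcM := card_product hTS hDS hDT hTDc (T ⊔ C) le_sup_left hM
    rw [hDC] at hcM
    have hrel : (T ⊔ C).relIndex S = 2 := by
      have h := Subgroup.relIndex_mul_relIndex ⊥ (T ⊔ C) S bot_le hM
      rw [Subgroup.relIndex_bot_left, Subgroup.relIndex_bot_left, ← hcM, ← hTDc, hcardD] at h
      refine Nat.eq_of_mul_eq_mul_left (Nat.mul_pos (Nat.card_pos (α := ↥T)) hDpos) ?_
      rw [h]; ring
    refine not_mem_pResidual (T ⊔ C) y S.index hSodd (hy2 ▸ even_two) ?_ ?_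
    · rw [hy2, ← Subgroup.relIndex_mul_index hM, hrel]
    · intro k g hg
      rcases Nat.even_or_odd k with ⟨m, rfl⟩ | ⟨m, rfl⟩
      · rw [← two_mul, pow_mul, ← hy2, pow_orderOf_eq_one, one_pow]
      · exfalso
        rw [pow_succ, pow_mul, ← hy2, pow_orderOf_eq_one, one_pow, one_mul] at hg
        exact h1 y hy hyC hy2 g hg
  set U := S ⊓ K with hU
  have hTU : T ≤ U := le_inf hTS hTK
  have hcU := card_product hTS hDS hDT hTDc U hTU inf_le_left
  have hDUC : D ⊓ U ≤ C := fun z hz => by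
    by_contra hzC
    exact hstep1 z hz.1 hzC hz.2.2
  -- the cyclic part
  have hDU : D ⊓ U = ⊥ := by
    by_contra hne
    haveI : IsCyclic ↥(D ⊓ U) := (Subgroup.subgroupOfEquivOfLe hDUC).isCyclic.mp inferInstance
    obtain ⟨⟨d, hd⟩, hgen⟩ := IsCyclic.exists_generator (α := ↥(D ⊓ U))
    have hdo : orderOf d = Nat.card ↥(D ⊓ U) := by
      rw [← orderOf_eq_card_of_forall_mem_zpowers hgen, ← Subgroup.orderOf_coe]
    have heven : Even (orderOf d) := by
      rw [hdo]
      obtain ⟨m, hm⟩ := (hS2.to_le (inf_le_left.trans hDS : D ⊓ U ≤ S)).exists_card_eq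
      rcases m with _ | m
      · exact absurd (Subgroup.eq_bot_of_card_eq _ (by simpa using hm)) hne
      · rw [hm]; exact (even_iff_two_dvd.mpr (dvd_pow_self 2 (by omega)))
    have hodd : Odd (U.relIndex K) := by
      refine Odd.of_dvd_nat hSodd ?_
      rw [hU, Subgroup.inf_relIndex_right]
      exact relIndex_dvd_of_normal S K
    have hidx : (T.subgroupOf K).index = orderOf d * U.relIndex K := by
      change T.relIndex K = _
      rw [← Subgroup.relIndex_mul_relIndex T U K hTU inf_le_right]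
      congr 1
      have h := Subgroup.relIndex_mul_relIndex ⊥ T U bot_le hTU
      rw [Subgroup.relIndex_bot_left, Subgroup.relIndex_bot_left, ← hcU] at h
      rw [hdo]
      exact Nat.eq_of_mul_eq_mul_left Nat.card_pos h
    set dK : ↥K := ⟨d, hd.2.2⟩ with hdK
    have hdKo : orderOf dK = orderOf d := by rw [← Subgroup.orderOf_coe]
    refine not_mem_pResidual (T.subgroupOf K) dK (U.relIndex K) hodd (hdKo ▸ heven) (by rw [hdKo]; exact hidx) ?_
      (CfsgLib.pResidual_idem.ge (Subgroup.mem_top dK))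
    intro k g hg
    by_contra hk
    have hg' : (g : G) * d ^ k * (g : G)⁻¹ ∈ T := by simpa [Subgroup.mem_subgroupOf] using hg
    have hk' : d ^ k ≠ 1 := fun h => hk (Subtype.ext (by simpa using h))
    obtain ⟨m, hm⟩ := hS2 ⟨d ^ k, S.pow_mem (hDS hd.1) k⟩
    have hm' : (d ^ k) ^ 2 ^ m = 1 := congrArg Subtype.val hm
    have hex : ∃ m, (d ^ k) ^ 2 ^ m = 1 := ⟨m, hm'⟩
    rcases hfm : Nat.find hex with _ | j
    · have := Nat.find_spec hex
      rw [hfm, pow_zero, pow_one] at this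
      exact hk' this
    · have hspec := Nat.find_spec hex
      rw [hfm, pow_succ, pow_mul] at hspec
      have hne1 : (d ^ k) ^ 2 ^ j ≠ 1 := Nat.find_min hex (by omega)
      refine h2 ((d ^ k) ^ 2 ^ j) (C.pow_mem (C.pow_mem (hDUC hd) k) _) (orderOf_eq_prime hspec hne1) g ?_
      rw [← conj_pow]
      exact T.pow_mem hg' _
  refine ⟨K, inferInstance, ?_, ?_⟩
  · have hS2' : ∃ P : Sylow 2 G, (P : Subgroup G) = S := ⟨hS2.toSylow hSsyl, rfl⟩
    obtain ⟨P, hP⟩ := hS2'
    refine top_unique ((CfsgLib.sylow_sup_eq_top_of_pResidual_le P (le_refl K)).ge.trans (sup_le le_sup_left ?_))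
    rw [hP, ← hTD]
    exact sup_le (hTK.trans le_sup_left) le_sup_right
  intro T' hT'L hT'2 hT'syl
  refine ⟨hT'L.trans hLK, fun hdiv => ?_⟩
  have hTK2 : ¬ 2 ∣ T.relIndex K := by
    intro hd
    rw [← Subgroup.relIndex_mul_relIndex T U K hTU inf_le_right] at hd
    have h1' : T.relIndex U = 1 := by
      have h := Subgroup.relIndex_mul_relIndex ⊥ T U bot_le hTU
      rw [Subgroup.relIndex_bot_left, Subgroup.relIndex_bot_left, ← hcU, hDU, Subgroup.card_bot, mul_one] at h
      exact Nat.eq_of_mul_eq_mul_left (Nat.card_pos (α := ↥T)) (by rw [h, mul_one])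
    rw [h1', one_mul, hU, Subgroup.inf_relIndex_right] at hd
    exact hSsyl (hd.trans (relIndex_dvd_of_normal S K))
  have hcard : Nat.card ↥T' = Nat.card ↥T := by
    obtain ⟨a, ha⟩ := hT'2.exists_card_eq
    obtain ⟨b, hb⟩ := hT2.exists_card_eq
    have e1 := Subgroup.relIndex_mul_relIndex ⊥ T' L bot_le hT'L
    have e2 := Subgroup.relIndex_mul_relIndex ⊥ T L bot_le hTL
    rw [Subgroup.relIndex_bot_left, Subgroup.relIndex_bot_left] at e1 e2
    rw [ha] at e1 ⊢
    rw [hb] at e2 ⊢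
    congr 1
    rcases Nat.le_total a b with hab | hab
    · by_contra hne
      obtain ⟨c, rfl⟩ := Nat.exists_eq_add_of_le hab
      rw [pow_add, mul_assoc] at e2
      have h3 := Nat.eq_of_mul_eq_mul_left (pow_pos two_pos a) (e1.trans e2.symm)
      exact hT'syl (h3 ▸ (dvd_pow_self 2 (by omega)).mul_right _)
    · by_contra hne
      obtain ⟨c, rfl⟩ := Nat.exists_eq_add_of_le hab
      rw [pow_add, mul_assoc] at e1
      have h3 := Nat.eq_of_mul_eq_mul_left (pow_pos two_pos b) (e2.trans e1.symm)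
      exact hTsyl (h3 ▸ (dvd_pow_self 2 (by omega)).mul_right _)
  refine hTK2 ?_
  have e1 := Subgroup.relIndex_mul_relIndex ⊥ T' K bot_le (hT'L.trans hLK)
  have e2 := Subgroup.relIndex_mul_relIndex ⊥ T K bot_le hTK
  rw [Subgroup.relIndex_bot_left, Subgroup.relIndex_bot_left] at e1 e2
  rw [hcard, ← e2] at e1
  rwa [← Nat.eq_of_mul_eq_mul_left (Nat.card_pos (α := ↥T)) e1]

end Cfsg.Agent.S1924
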