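import Cfsg.Statements.S1935
import Cfsg.Agent.Lib.OffenderDegen.Linear
-- import your own Cfsg.Agent.* helpers here

set_option autoImplicit false
open scoped commutatorElement
open Cfsg

namespace Cfsg.Agent.S1935

/-- Let p ≥ 5 be a prime and, inside an ambient finite group, let G be a p-subgroup acting faithfully by conjugation on an elementary abelian p-subgroup V that it normalizes (only the identity of G centralizes V). Suppose V is an F-module for G: some nontrivial elementary abelian subgroup E of G satisfies #E · #C_V(E) ≥ #V. Then G contains such an offender A that moreover acts quadratically on V ([V, A, A] = 1) and is normal in its normal closure in G. -/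
theorem result {Ω : Type*} [Group Ω] [Finite Ω] (p : ℕ) [Fact p.Prime] (hp : 5 ≤ p) (V G : Subgroup Ω) (hV : Cfsg.IsElementaryAbelian p V) (hG : IsPGroup p ↥G) (hGV : G ≤ Subgroup.normalizer (V : Set Ω)) (hfaith : G ⊓ Subgroup.centralizer (V : Set Ω) = ⊥) (hF : ∃ E : Subgroup Ω, E ≤ G ∧ E ≠ ⊥ ∧ Cfsg.IsElementaryAbelian p E ∧ Nat.card ↥V ≤ Nat.card ↥E * Nat.card ↥(V ⊓ Subgroup.centralizer (E : Set Ω))) : ∃ A : Subgroup Ω, A ≤ G ∧ A ≠ ⊥ ∧ Cfsg.IsElementaryAbelian p A ∧ Nat.card ↥V ≤ Nat.card ↥A * Nat.card ↥(V ⊓ Subgroup.centralizer (A : Set Ω)) ∧ ⁅⁅V, A⁆, A⁆ = ⊥ ∧ ∀ g ∈ Subgroup.closure {x : Ω | ∃ h ∈ G, ∃ a ∈ A, x = h * a * h⁻¹}, ∀ a ∈ A, g * a * g⁻¹ ∈ A := by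
  classical
  haveI hVc : IsMulCommutative V := hV.1
  letI : CommGroup ↥V := { (inferInstance : Group ↥V) with mul_comm := fun a b => hVc.is_comm.comm a b }
  have hexp : ∀ a : Additive ↥V, p • a = 0 := fun a =>
    congrArg Additive.ofMul (show (Additive.toMul a) ^ p = 1 from Subtype.ext (by
      simpa using hV.2 _ (Additive.toMul a).2))
  letI : Module (ZMod p) (Additive ↥V) := AddCommGroup.zmodModule (n := p) hexp
  let cj : ↥G → (Additive ↥V →ₗ[ZMod p] Additive ↥V) := fun g => AddMonoidHom.toZModLinearMap p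
    (AddMonoidHom.mk' (fun v => Additive.ofMul (⟨(g : Ω) * ((Additive.toMul v : ↥V) : Ω) * (g : Ω)⁻¹,
      (Subgroup.mem_normalizer_iff.mp (hGV g.2) _).mp (Additive.toMul v : ↥V).2⟩ : ↥V))
      fun v w => congrArg Additive.ofMul (Subtype.ext (by
        simp [mul_assoc])))
  have hcj : ∀ (g : ↥G) (v : Additive ↥V), ((Additive.toMul (cj g v) : ↥V) : Ω) =
      (g : Ω) * ((Additive.toMul v : ↥V) : Ω) * (g : Ω)⁻¹ := fun g v => rfl
  let ψ : ↥G →* Module.End (ZMod p) (Additive ↥V) :=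
    { toFun := cj
      map_one' := LinearMap.ext fun v => Additive.toMul.injective (Subtype.ext (by rw [hcj]; simp))
      map_mul' := fun a b => LinearMap.ext fun v => Additive.toMul.injective (Subtype.ext (by
        rw [Module.End.mul_apply, hcj, hcj, hcj]; simp [mul_assoc])) }
  let φ := ψ.toHomUnits
  have hφ : ∀ (g : ↥G) (v : Additive ↥V),
      ((Additive.toMul ((φ g : Module.End (ZMod p) (Additive ↥V)) v) : ↥V) : Ω) =
        (g : Ω) * ((Additive.toMul v : ↥V) : Ω) * (g : Ω)⁻¹ := fun g v => rfl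
  haveI : Finite (Additive ↥V) := inferInstanceAs (Finite ↥V)
  have hinj : Function.Injective φ := by
    rw [← MonoidHom.ker_eq_bot_iff, Subgroup.eq_bot_iff_forall]
    intro g hg
    have hg' : (φ g : Module.End (ZMod p) (Additive ↥V)) = 1 := congrArg Units.val (MonoidHom.mem_ker.mp hg)
    have : (g : Ω) ∈ G ⊓ Subgroup.centralizer (V : Set Ω) := ⟨g.2, fun v hv => by
      have h := hφ g (Additive.ofMul ⟨v, hv⟩)
      rw [hg', Module.End.one_apply] at h
      exact (eq_mul_inv_iff_mul_eq.mp h)⟩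
    rw [hfaith, Subgroup.mem_bot] at this
    exact Subtype.ext this
  have hfix : ∀ A : Subgroup ↥G, Nat.card ↥(CfsgLib.PGV.fixSpace (A.map φ)) =
      Nat.card ↥(V ⊓ Subgroup.centralizer ((A.map G.subtype : Subgroup Ω) : Set Ω)) := by
    intro A
    refine Nat.card_congr ⟨fun v => ⟨((Additive.toMul v.1 : ↥V) : Ω), (Additive.toMul v.1 : ↥V).2, ?_⟩,
      fun v => ⟨Additive.ofMul ⟨v.1, v.2.1⟩, ?_⟩, fun v => rfl, fun v => rfl⟩
    · rintro _ ⟨a, ha, rfl⟩
      have h := v.2 (φ a) ⟨a, ha, rfl⟩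
      have h2 := hφ a v.1
      rw [h] at h2
      exact (eq_mul_inv_iff_mul_eq.mp h2).symm
    · rintro _ ⟨a, ha, rfl⟩
      refine Additive.toMul.injective (Subtype.ext ?_)
      rw [hφ]
      show (a : Ω) * v.1 * (a : Ω)⁻¹ = v.1
      rw [mul_inv_eq_iff_eq_mul]
      exact v.2.2 _ ⟨a, ha, rfl⟩
  have hcardmap : ∀ A : Subgroup ↥G, Nat.card ↥(A.map φ) = Nat.card ↥(A.map G.subtype : Subgroup Ω) := fun A =>
    (Subgroup.card_map_of_injective hinj).trans (Subgroup.card_map_of_injective G.subtype_injective).symm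
  obtain ⟨E, hEG, hE1, hEea, hEoff⟩ := hF
  have hEmap : (E.subgroupOf G).map G.subtype = E := by
    rw [Subgroup.subgroupOf_map_subtype]; exact inf_eq_left.mpr hEG
  haveI := CfsgLib.PGV.finiteUnitsEnd (p := p) (V := Additive ↥V)
  haveI : IsMulCommutative E := hEea.1
  have hE' : Nat.card (Additive ↥V) ≤ Nat.card ↥((E.subgroupOf G).map φ) *
      Nat.card ↥(CfsgLib.PGV.fixSpace ((E.subgroupOf G).map φ)) := by
    rw [hcardmap, hfix, hEmap]
    exact hEoff
  obtain ⟨A₁, hA₁, hA₁ne, hA₁c, hA₁e, hA₁off, hA₁q, hA₁n⟩ :=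
    CfsgLib.OffenderDegen.exists_twoSubnormal hp (Γ := φ.range) (E := (E.subgroupOf G).map φ)
      (hG.of_surjective φ.rangeRestrict φ.rangeRestrict_surjective) (fun x ⟨a, _, ha⟩ => ⟨a, ha⟩)
      (fun h => hE1 (by
        rw [← hEmap, (Subgroup.map_eq_bot_iff_of_injective _ hinj).mp h, Subgroup.map_bot]))
      (by
        rintro _ ⟨a, ha, rfl⟩ _ ⟨b, hb, rfl⟩
        rw [← map_mul, ← map_mul]
        exact congrArg φ (Subtype.ext (Subgroup.mul_comm_of_mem_isMulCommutative E ha hb)))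
      (by
        rintro _ ⟨a, ha, rfl⟩
        rw [← map_pow, show a ^ p = 1 from Subtype.ext (by simpa using hEea.2 _ ha), map_one])
      hE'
  set A' := A₁.comap φ with hA'
  have hmapA : A'.map φ = A₁ := Subgroup.map_comap_eq_self hA₁
  refine ⟨A'.map G.subtype, fun x ⟨a, _, ha⟩ => ha ▸ a.2, fun h => hA₁ne ?_, ⟨?_, ?_⟩, ?_, ?_, ?_⟩
  · rw [← hmapA, (Subgroup.map_eq_bot_iff_of_injective _ G.subtype_injective).mp h, Subgroup.map_bot]
  · refine ⟨⟨?_⟩⟩
    rintro ⟨_, a, ha, rfl⟩ ⟨_, b, hb, rfl⟩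
    refine Subtype.ext ?_
    show (a : Ω) * b = b * a
    exact congrArg Subtype.val (hinj (by rw [map_mul, map_mul]; exact hA₁c _ ha _ hb) : a * b = b * a)
  · rintro _ ⟨a, ha, rfl⟩
    rw [← map_pow, show a ^ p = 1 from hinj (by rw [map_pow, map_one]; exact hA₁e _ ha), map_one]
  · rw [← hcardmap A', ← hfix A', hmapA]
    exact hA₁off
  · rw [Subgroup.commutator_eq_bot_iff_le_centralizer, Subgroup.commutator_le]
    rintro v hv _ ⟨a, ha, rfl⟩ _ ⟨b, hb, rfl⟩
    have hq := LinearMap.congr_fun (hA₁q (φ b) hb (φ a) ha) (Additive.ofMul ⟨v, hv⟩)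
    rw [Module.End.mul_apply, LinearMap.sub_apply (φ b : Module.End (ZMod p) (Additive ↥V)) 1,
      Module.End.one_apply, LinearMap.zero_apply, sub_eq_zero] at hq
    have h2 := hφ b (((φ a : Module.End (ZMod p) (Additive ↥V)) - 1) (Additive.ofMul ⟨v, hv⟩))
    rw [hq] at h2
    have h3 : ((Additive.toMul (((φ a : Module.End (ZMod p) (Additive ↥V)) - 1) (Additive.ofMul ⟨v, hv⟩)) : ↥V) : Ω) =
        (a : Ω) * v * (a : Ω)⁻¹ * v⁻¹ := by
      rw [LinearMap.sub_apply, Module.End.one_apply, toMul_sub, Subgroup.coe_div, hφ, div_eq_mul_inv]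
      rfl
    rw [h3] at h2
    have hc : Commute (b : Ω) ((a : Ω) * v * (a : Ω)⁻¹ * v⁻¹) := (eq_mul_inv_iff_mul_eq.mp h2).symm
    have h4 := hc.inv_right
    show (b : Ω) * ⁅v, (a : Ω)⁆ = ⁅v, (a : Ω)⁆ * (b : Ω)
    rw [show ⁅v, (a : Ω)⁆ = ((a : Ω) * v * (a : Ω)⁻¹ * v⁻¹)⁻¹ by rw [commutatorElement_def]; group]
    exact h4
  · intro g hg
    have : Subgroup.closure {x : Ω | ∃ h ∈ G, ∃ a ∈ A'.map G.subtype, x = h * a * h⁻¹} ≤
        Subgroup.normalizer ((A'.map G.subtype : Subgroup Ω) : Set Ω) := by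
      rw [Subgroup.closure_le]
      rintro _ ⟨h, hh, _, ⟨a, ha, rfl⟩, rfl⟩
      have hfwd : ∀ a' ∈ A', ∀ c ∈ A'.map G.subtype,
          h * (a' : Ω) * h⁻¹ * c * (h * (a' : Ω) * h⁻¹)⁻¹ ∈ A'.map G.subtype := by
        rintro a' ha' _ ⟨c, hc, rfl⟩
        refine ⟨⟨h, hh⟩ * a' * ⟨h, hh⟩⁻¹ * c * (⟨h, hh⟩ * a' * ⟨h, hh⟩⁻¹)⁻¹, ?_, rfl⟩
        have := hA₁n (φ ⟨h, hh⟩) ⟨_, rfl⟩ _ ha' _ hc
        show φ _ ∈ A₁
        simpa only [map_mul, map_inv] using this
      refine Subgroup.mem_normalizer_iff.mpr fun c => ⟨hfwd a ha c, fun hc => ?_⟩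
      have := hfwd a⁻¹ (inv_mem ha) _ hc
      simpa [mul_assoc] using this
    intro a ha
    exact (Subgroup.mem_normalizer_iff.mp (this hg) a).mp ha

end Cfsg.Agent.S1935
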