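import Cfsg.Statements.S1939
import Cfsg.Agent.Lib.Local

set_option autoImplicit false
open Cfsg

namespace Cfsg.Agent.S1939

open CfsgLib.Local

/-- Let S be a Sylow p-subgroup of the finite group G and a an element of S that is the only G-conjugate of a lying in S. Then every power of a has the same property: for every n, the only G-conjugate of a^n lying in S is a^n. -/
theorem result {G : Type*} [Group G] [Finite G] {p : ℕ} [Fact p.Prime] (S : Sylow p G) (a : G)
    (haS : a ∈ (S : Subgroup G)) (hwc : ∀ g : G, g * a * g⁻¹ ∈ (S : Subgroup G) → g * a * g⁻¹ = a) (n : ℕ) :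
    ∀ g : G, g * a ^ n * g⁻¹ ∈ (S : Subgroup G) → g * a ^ n * g⁻¹ = a ^ n := by
  intro g hg
  set b := g * a ^ n * g⁻¹ with hb
  have hcen : ∀ s ∈ (S : Subgroup G), s * a = a * s := fun s hs => by
    have := hwc s (Subgroup.mul_mem _ (Subgroup.mul_mem _ hs haS) (Subgroup.inv_mem _ hs))
    calc s * a = s * a * s⁻¹ * s := by group
      _ = a * s := by rw [this]
  have haC : a ∈ Subgroup.centralizer ({b} : Set G) :=
    Subgroup.mem_centralizer_singleton_iff.2 (hcen b hg).symm
  have haC' : g * a * g⁻¹ ∈ Subgroup.centralizer ({b} : Set G) := by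
    rw [Subgroup.mem_centralizer_singleton_iff, hb]
    have : Commute a (a ^ n) := Commute.self_pow a n
    exact ((Commute.conj_iff g).2 this).eq
  have hpa : IsPGroup p (Subgroup.zpowers a) := isPGroup_of_le (Subgroup.zpowers_le.2 haS) S.2
  have hpb : IsPGroup p (Subgroup.zpowers (g * a * g⁻¹)) := by
    have e : Subgroup.zpowers (g * a * g⁻¹) = (Subgroup.zpowers a).map (MulAut.conj g).toMonoidHom := by
      rw [MonoidHom.map_zpowers]; simp
    rw [e]; exact hpa.map _
  obtain ⟨c, hc, P, hP, -, haP, hgP⟩ := exists_conj_isPGroup hpa hpb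
    (Subgroup.zpowers_le.2 haC) (Subgroup.zpowers_le.2 haC')
  obtain ⟨T, hT⟩ := hP.exists_le_sylow
  obtain ⟨h, hh⟩ := MulAction.exists_smul_eq G T S
  have key : ∀ x, x ∈ P → h * x * h⁻¹ ∈ (S : Subgroup G) := fun x hx => by
    rw [← hh, Sylow.coe_subgroup_smul]
    exact Subgroup.smul_mem_pointwise_smul _ (MulAut.conj h) _ (hT hx)
  have h1 := hwc h (key a (haP (Subgroup.mem_zpowers a)))
  have h2 : h * c * g * a * (h * c * g)⁻¹ = a := by
    apply hwc
    have := key _ (hgP ⟨g * a * g⁻¹, Subgroup.mem_zpowers _, rfl⟩)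
    simpa [mul_assoc] using this
  have h4 : c * g * a * (c * g)⁻¹ = a := by
    calc c * g * a * (c * g)⁻¹ = h⁻¹ * (h * c * g * a * (h * c * g)⁻¹) * h := by group
      _ = h⁻¹ * (h * a * h⁻¹) * h := by rw [h2, h1]
      _ = a := by group
  have h5 : c * b * c⁻¹ = a ^ n := by
    calc c * b * c⁻¹ = (c * g) * a ^ n * (c * g)⁻¹ := by rw [hb]; group
      _ = ((c * g) * a * (c * g)⁻¹) ^ n := (conj_pow ..).symm
      _ = a ^ n := by rw [h4]
  have h6 : c * b = b * c := Subgroup.mem_centralizer_singleton_iff.1 hc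
  rwa [h6, mul_inv_cancel_right] at h5

end Cfsg.Agent.S1939
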