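import Cfsg.Statements.S1940
import Cfsg.Agent.Lib.Basic

set_option autoImplicit false
set_option linter.unusedVariables false
open Cfsg
open scoped commutatorElement

namespace Cfsg.Agent.S1940


universe u v

theorem avg {L : Type u} [Group L] [Finite L] {M : Type v} [CommGroup M] [Finite M] [MulDistribMulAction L M]
    {p : ℕ} [Fact p.Prime] (N : Subgroup M) (hquot : IsPGroup p (M ⧸ N))
    (htriv : ∀ (l : L) (m : M), (l • m) * m⁻¹ ∈ N) (T : Sylow p L)
    (c : M) (hc : ∀ t ∈ (T : Subgroup L), t • c = c) :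
    ∃ d : M, (∀ l : L, l • d = d) ∧ c * d⁻¹ ∈ N := by
  classical
  haveI := Fintype.ofFinite (L ⧸ (T : Subgroup L))
  let f : L ⧸ (T : Subgroup L) → M := fun q => Quotient.liftOn' q (fun g => g • c) (fun g h hgh => by
    rw [QuotientGroup.leftRel_apply] at hgh
    show g • c = h • c
    rw [show h = g * (g⁻¹ * h) by group, mul_smul, hc _ hgh])
  set S := ∏ q : L ⧸ (T : Subgroup L), f q with hS
  set k := Fintype.card (L ⧸ (T : Subgroup L)) with hk
  have hfix : ∀ l : L, l • S = S := by
    intro l
    rw [hS, Finset.smul_prod']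
    refine Fintype.prod_equiv (MulAction.toPerm l) _ _ fun q => ?_
    induction q using QuotientGroup.induction_on with
    | H g => exact (mul_smul l g c).symm
  have hmod : (QuotientGroup.mk S : M ⧸ N) = (QuotientGroup.mk c : M ⧸ N) ^ k := by
    rw [hS, ← QuotientGroup.mk'_apply, map_prod, hk, ← Finset.card_univ, ← Finset.prod_const]
    refine Finset.prod_congr rfl fun q _ => ?_
    induction q using QuotientGroup.induction_on with
    | H g =>
      show (QuotientGroup.mk (g • c) : M ⧸ N) = QuotientGroup.mk c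
      rw [QuotientGroup.eq]
      have := N.inv_mem (htriv g c)
      rwa [mul_inv_rev, inv_inv, mul_comm] at this
  obtain ⟨e, he⟩ := hquot (QuotientGroup.mk c)
  have hkp : k.Coprime (p ^ e) := by
    refine Nat.Coprime.pow_right e ?_
    rw [hk, ← Nat.card_eq_fintype_card, ← Subgroup.index_eq_card]
    exact ((Fact.out : p.Prime).coprime_iff_not_dvd.mpr T.not_dvd_index).symm
  obtain ⟨s, hs0, hs1⟩ := Nat.chineseRemainder hkp 0 1
  obtain ⟨r, hr⟩ := Nat.modEq_zero_iff_dvd.mp hs0
  refine ⟨S ^ r, fun l => by rw [smul_pow', hfix], ?_⟩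
  rw [← QuotientGroup.eq_one_iff, QuotientGroup.mk_mul, QuotientGroup.mk_inv, QuotientGroup.mk_pow, hmod,
    ← pow_mul, ← hr, mul_inv_eq_one]
  conv_lhs => rw [← pow_one (QuotientGroup.mk c : M ⧸ N)]
  refine pow_eq_pow_iff_modEq.mpr ?_
  exact (hs1.symm).of_dvd (orderOf_dvd_of_pow_eq_one he)

/-- Let the finite group L act by automorphisms on the finite abelian group M, and let N be an L-invariant subgroup of M such that M/N is a p-group on which L acts trivially (every l • m lies in the coset mN). If every element of M is a product of an element of N and an element fixed by a Sylow p-subgroup T of L, then every element of M is a product of an element of N and an element fixed by all of L. -/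
theorem result {L : Type*} [Group L] [Finite L] {M : Type*} [CommGroup M] [Finite M] [MulDistribMulAction L M]
    {p : ℕ} [Fact p.Prime] (N : Subgroup M) (hN : ∀ (l : L) (m : M), m ∈ N → l • m ∈ N)
    (hquot : IsPGroup p (M ⧸ N)) (htriv : ∀ (l : L) (m : M), (l • m) * m⁻¹ ∈ N) (T : Sylow p L)
    (hT : ∀ m : M, ∃ n ∈ N, ∃ c : M, (∀ t ∈ (T : Subgroup L), t • c = c) ∧ m = n * c) :
    ∀ m : M, ∃ n ∈ N, ∃ c : M, (∀ l : L, l • c = c) ∧ m = n * c := by
  intro m
  obtain ⟨n, hn, c, hc, rfl⟩ := hT m
  obtain ⟨d, hd, hcd⟩ := avg N hquot htriv T c hc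
  exact ⟨n * (c * d⁻¹), N.mul_mem hn hcd, d, hd, by rw [mul_assoc, inv_mul_cancel_right]⟩

end Cfsg.Agent.S1940
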