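import Cfsg.Statements.S1941
import Cfsg.Agent.Lib.Comp.Layer

set_option autoImplicit false
set_option linter.unusedVariables false
open Cfsg
open scoped commutatorElement

namespace Cfsg.Agent.S1941


universe u

theorem cocycle_inner {G : Type u} [Group G] [Finite G] {p : ℕ} [Fact p.Prime] (T : Sylow p G)
    (Z : Subgroup G) [Z.Normal] (hZc : ∀ a ∈ Z, ∀ b ∈ Z, a * b = b * a) (hZp : IsPGroup p ↥Z)
    (c : G → G) (hcZ : ∀ g, c g ∈ Z) (hmul : ∀ g h, c (g * h) = c g * (g * c h * g⁻¹))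
    (hT : ∀ t ∈ (T : Subgroup G), c t = 1) : ∃ z : G, ∀ g, c g = z * g * z⁻¹ * g⁻¹ := by
  classical
  letI : CommGroup ↥Z := { (inferInstance : Group ↥Z) with mul_comm := fun a b => Subtype.ext (hZc a a.2 b b.2) }
  haveI := Fintype.ofFinite (G ⧸ (T : Subgroup G))
  let f : G ⧸ (T : Subgroup G) → ↥Z := fun q => Quotient.liftOn' q (fun g => ⟨c g, hcZ g⟩) (fun g h hgh => by
    rw [QuotientGroup.leftRel_apply] at hgh
    refine Subtype.ext ?_
    show c g = c h
    rw [show h = g * (g⁻¹ * h) by group, hmul, hT _ hgh, mul_one, mul_inv_cancel, mul_one])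
  set S := ∏ q : G ⧸ (T : Subgroup G), f q with hS
  set k := Fintype.card (G ⧸ (T : Subgroup G)) with hk
  let conjZ : G → (↥Z →* ↥Z) := fun g => MonoidHom.mk'
    (fun a => ⟨g * a * g⁻¹, (inferInstance : Z.Normal).conj_mem a a.2 g⟩)
    (fun a b => Subtype.ext (by show g * ((a : G) * b) * g⁻¹ = g * a * g⁻¹ * (g * b * g⁻¹); group))
  have key : ∀ g : G, S = (⟨c g, hcZ g⟩ : ↥Z) ^ k * conjZ g S := by
    intro g
    rw [hS, map_prod, hk, ← Finset.card_univ, ← Finset.prod_const, ← Finset.prod_mul_distrib]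
    refine (Fintype.prod_equiv (MulAction.toPerm g) _ _ fun q => ?_).symm
    induction q using QuotientGroup.induction_on with
    | H h => exact Subtype.ext (hmul g h).symm
  obtain ⟨e, he⟩ := IsPGroup.iff_card.mp hZp
  have hkp : k.Coprime (p ^ e) := by
    refine Nat.Coprime.pow_right e ?_
    rw [hk, ← Nat.card_eq_fintype_card, ← Subgroup.index_eq_card]
    exact ((Fact.out : p.Prime).coprime_iff_not_dvd.mpr T.not_dvd_index).symm
  obtain ⟨s, hs0, hs1⟩ := Nat.chineseRemainder hkp 0 1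
  obtain ⟨r, hr⟩ := Nat.modEq_zero_iff_dvd.mp hs0
  refine ⟨((S ^ r : ↥Z) : G), fun g => ?_⟩
  have h1 : (⟨c g, hcZ g⟩ : ↥Z) * conjZ g (S ^ r) = S ^ r := by
    rw [map_pow]
    conv_rhs => rw [key g, mul_pow, ← pow_mul, ← hr]
    congr 1
    conv_lhs => rw [← pow_one (⟨c g, hcZ g⟩ : ↥Z)]
    refine pow_eq_pow_iff_modEq.mpr ((hs1.symm).of_dvd (orderOf_dvd_of_pow_eq_one ?_))
    rw [← he]; exact pow_card_eq_one'
  have h2 : c g * (g * ((S ^ r : ↥Z) : G) * g⁻¹) = ((S ^ r : ↥Z) : G) := congrArg Subtype.val h1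
  calc c g = c g * (g * ((S ^ r : ↥Z) : G) * g⁻¹) * (g * ((S ^ r : ↥Z) : G) * g⁻¹)⁻¹ := by group
    _ = ((S ^ r : ↥Z) : G) * (g * ((S ^ r : ↥Z) : G) * g⁻¹)⁻¹ := by rw [h2]
    _ = ((S ^ r : ↥Z) : G) * g * ((S ^ r : ↥Z) : G)⁻¹ * g⁻¹ := by group

/-- Let G be a finite group with no nontrivial normal subgroup of order prime to p, T a Sylow p-subgroup of G and E(G) the layer of G (the subgroup generated by its components). An automorphism of G of p-power order that fixes T and E(G) elementwise is inner. -/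
theorem result {G : Type*} [Group G] [Finite G] {p : ℕ} [Fact p.Prime] (hcore : Cfsg.pPrimeCore p G = ⊥)
    (T : Sylow p G) (α : MulAut G) (hα : ∃ j : ℕ, orderOf α = p ^ j) (hfixT : ∀ x ∈ (T : Subgroup G), α x = x)
    (hfixE : ∀ x ∈ Cfsg.layer G, α x = x) : ∃ g : G, ∀ x : G, α x = g * x * g⁻¹ := by
  haveI : (Cfsg.pCore p G).Normal := Subgroup.sSup_normal _ (fun _ h => h.1)
  have hF : Cfsg.fittingSubgroup G = Cfsg.pCore p G := CfsgLib.fitting_eq_pCore Fact.out hcore
  set F := Cfsg.generalizedFittingSubgroup G with hFdef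
  have hfixF : ∀ f ∈ F, α f = f := by
    have hle : F ≤ α.toMonoidHom.eqLocus (MonoidHom.id G) :=
      sup_le (fun f hf => hfixE f hf) (fun f hf => hfixT f (CfsgLib.pCore_le_sylow T (hF ▸ hf)))
    exact fun f hf => hle hf
  haveI : F.Normal := CfsgLib.generalizedFittingSubgroup_normal
  set Z := Subgroup.centralizer (F : Set G) with hZ
  haveI : Z.Normal := Subgroup.normal_centralizer
  have hZF : Z ≤ F := CfsgLib.centralizer_generalizedFitting_le
  have hZc : ∀ a ∈ Z, ∀ b ∈ Z, a * b = b * a := fun a ha b hb => (ha b (hZF hb)).symm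
  have hZp : IsPGroup p ↥Z := by
    refine (CfsgLib.isPGroup_pCore (G := G) p).to_le ?_
    rw [← hF]
    exact CfsgLib.le_fittingSubgroup (CfsgLib.Comp.nilpotent_of_comm hZc)
  have hcZ : ∀ g, α g * g⁻¹ ∈ Z := by
    intro g f hf
    have h1 : g⁻¹ * f * g ∈ F := by
      simpa using (inferInstance : F.Normal).conj_mem f hf g⁻¹
    have h2 := hfixF _ h1
    rw [map_mul, map_mul, map_inv, hfixF f hf] at h2
    calc f * (α g * g⁻¹) = α g * ((α g)⁻¹ * f * α g) * g⁻¹ := by group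
      _ = α g * (g⁻¹ * f * g) * g⁻¹ := by rw [h2]
      _ = α g * g⁻¹ * f := by group
  obtain ⟨z, hz⟩ := cocycle_inner T Z hZc hZp (fun g => α g * g⁻¹) hcZ
    (fun g h => by rw [map_mul]; group) (fun t ht => by rw [hfixT t ht, mul_inv_cancel])
  exact ⟨z, fun x => mul_right_cancel (b := x⁻¹) (hz x)⟩

end Cfsg.Agent.S1941
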