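import Cfsg.Statements.S1944
import Cfsg.Agent.Lib.CentralRetraction
import Cfsg.Agent.Lib.SylowExtra
import Cfsg.Agent.Lib.Blocks.HallHigman
-- import your own Cfsg.Agent.* helpers here

set_option autoImplicit false
open Cfsg

namespace Cfsg.Agent.S1944

/-- Let S be a Sylow p-subgroup of the finite group G and suppose that the centre Z(S) lies in O_{p',p}(G). The elements of S each of which is its only G-conjugate in S form a subgroup W of Z(S); W is then a direct factor of Z(S): there is a subgroup K of Z(S) with W ∩ K = 1 and WK = Z(S). -/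
theorem result {G : Type*} [Group G] [Finite G] {p : ℕ} [Fact p.Prime] (S : Sylow p G)
    (hZ : ((S : Subgroup G) ⊓ Subgroup.centralizer ((S : Subgroup G) : Set G)) ≤ Cfsg.pPrimePCore p G) :
    ∃ W K : Subgroup G, (∀ x : G, x ∈ W ↔ (x ∈ (S : Subgroup G) ∧ ∀ g : G, g * x * g⁻¹ ∈ (S : Subgroup G) → g * x * g⁻¹ = x)) ∧
      K ≤ ((S : Subgroup G) ⊓ Subgroup.centralizer ((S : Subgroup G) : Set G)) ∧ W ⊓ K = ⊥ ∧ W ⊔ K = ((S : Subgroup G) ⊓ Subgroup.centralizer ((S : Subgroup G) : Set G)) := by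
  set Z := (S : Subgroup G) ⊓ Subgroup.centralizer ((S : Subgroup G) : Set G) with hZdef
  set K₀ := Cfsg.pPrimeCore p G with hK₀
  set L := Cfsg.pPrimePCore p G with hLdef
  haveI : L.Normal := CfsgLib.Blocks.pPrimePCore_normal'
  haveI : K₀.Normal := inferInstance
  set P₀ := (S : Subgroup G) ⊓ L with hP₀
  set N := Subgroup.normalizer (P₀ : Set G) with hNdef
  have hSN : (S : Subgroup G) ≤ N := by
    intro s hs
    rw [Subgroup.mem_normalizer_iff]
    intro x
    constructor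
    · rintro ⟨hx, hxL⟩
      exact ⟨(S : Subgroup G).mul_mem ((S : Subgroup G).mul_mem hs hx) ((S : Subgroup G).inv_mem hs), Subgroup.Normal.conj_mem inferInstance x hxL s⟩
    · rintro ⟨hx, hxL⟩
      refine ⟨?_, ?_⟩
      · have h := (S : Subgroup G).mul_mem ((S : Subgroup G).mul_mem ((S : Subgroup G).inv_mem hs) hx) hs
        rwa [show s⁻¹ * (s * x * s⁻¹) * s = x by group] at h
      · simpa [mul_assoc] using (inferInstance : L.Normal).conj_mem _ hxL s⁻¹
  have htop : K₀ ⊔ N = ⊤ := by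
    have hF := Sylow.normalizer_sup_eq_top (CfsgLib.sylowInfNormal S L)
    rw [show ((CfsgLib.sylowInfNormal S L : Sylow p L) : Subgroup L).map L.subtype = P₀ from
      (CfsgLib.coe_sylowInfNormal S L).symm ▸ Subgroup.subgroupOf_map_subtype _ _] at hF
    have hKL : K₀ ≤ L := CfsgLib.Blocks.pPrimeCore_le_pPrimePCore
    have hLle : L ≤ K₀ ⊔ P₀ := by
      refine Subgroup.relIndex_eq_one.1 ?_
      obtain ⟨k, hk⟩ := CfsgLib.Blocks.relIndex_pPrimePCore (G := G) (p := p)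
      have h1 : ¬ p ∣ P₀.relIndex L := by
        rw [hP₀, Subgroup.inf_relIndex_right]; exact CfsgLib.not_dvd_relIndex_of_sylow S L
      refine Nat.eq_one_of_dvd_coprimes (((Fact.out : p.Prime).coprime_iff_not_dvd.2 h1).pow_left k) ?_ ?_
      · rw [← hk]; exact Subgroup.relIndex_dvd_of_le_left L le_sup_left
      · exact Subgroup.relIndex_dvd_of_le_left L le_sup_right
    rw [eq_top_iff, ← hF]
    exact sup_le le_sup_right (hLle.trans (sup_le_sup_left Subgroup.le_normalizer _))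
  have hdec : ∀ g : G, ∃ k ∈ K₀, ∃ n ∈ N, g = k * n := by
    intro g
    have hg : g ∈ ((K₀ ⊔ N : Subgroup G) : Set G) := by rw [htop]; trivial
    rw [Subgroup.normal_mul] at hg
    obtain ⟨k, hk, n, hn, rfl⟩ := hg
    exact ⟨k, hk, n, hn, rfl⟩
  have hKS : ∀ x ∈ K₀, x ∈ (S : Subgroup G) → x = 1 := fun x hx hxS =>
    Subgroup.disjoint_def.1 (Subgroup.disjoint_of_coprime_natCard (by
      obtain ⟨k, hk⟩ := S.2.exists_card_eq
      rw [hk]; exact (CfsgLib.card_pPrimeCore_coprime p).pow_right k)) hx hxS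
  obtain ⟨K, hKZ, hinf, hsup⟩ := CfsgLib.CentralRetraction.exists_complement S (N := N)
    (R := P₀ ⊓ Subgroup.centralizer (P₀ : Set G)) (Z := Z) hSN (fun n hn => by
      have hstep : ∀ m ∈ N, ∀ r ∈ P₀ ⊓ Subgroup.centralizer (P₀ : Set G),
          m * r * m⁻¹ ∈ P₀ ⊓ Subgroup.centralizer (P₀ : Set G) := by
        rintro m hm r ⟨hr, hrc⟩
        refine ⟨(Subgroup.mem_normalizer_iff.1 hm r).1 hr, Subgroup.mem_centralizer_iff.2 fun j hj => ?_⟩
        have hj' : m⁻¹ * j * m ∈ P₀ := by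
          have := (Subgroup.mem_normalizer_iff.1 (Subgroup.inv_mem _ hm) j).1 hj
          rwa [inv_inv] at this
        calc j * (m * r * m⁻¹) = m * ((m⁻¹ * j * m) * r) * m⁻¹ := by group
          _ = m * (r * (m⁻¹ * j * m)) * m⁻¹ := by rw [Subgroup.mem_centralizer_iff.1 hrc _ hj']
          _ = m * r * m⁻¹ * j := by group
      rw [Subgroup.mem_normalizer_iff]
      intro r
      refine ⟨hstep n hn r, fun h => ?_⟩
      simpa [mul_assoc] using hstep n⁻¹ (Subgroup.inv_mem _ hn) _ h)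
    (fun a ha b hb => Subgroup.mem_centralizer_iff.1 hb.2 a ha.1)
    (fun z hz => ⟨⟨hz.1, hZ hz⟩, fun j hj => hz.2 j hj.1⟩) inf_le_left (fun z hz s hs => hz.2 s hs)
    (fun r hr hn => ⟨hr.1.1, fun s hs => hn s (hSN hs)⟩)
  refine ⟨_, K, fun x => ⟨?_, ?_⟩, hKZ, hinf, hsup⟩
  · rintro ⟨hxZ, hxN⟩
    refine ⟨hxZ.1, fun g hg => ?_⟩
    obtain ⟨k, hk, n, hn, rfl⟩ := hdec g
    have e : k * n * x * (k * n)⁻¹ = k * x * k⁻¹ := by
      have := hxN n hn
      calc k * n * x * (k * n)⁻¹ = k * (n * x) * n⁻¹ * k⁻¹ := by group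
        _ = k * (x * n) * n⁻¹ * k⁻¹ := by rw [this]
        _ = k * x * k⁻¹ := by group
    rw [e] at hg ⊢
    have h1 : k * x * k⁻¹ * x⁻¹ ∈ K₀ := by
      have := K₀.mul_mem hk ((inferInstance : K₀.Normal).conj_mem k⁻¹ (K₀.inv_mem hk) x)
      simpa [mul_assoc] using this
    exact mul_inv_eq_one.1 (hKS _ h1 (mul_mem hg (inv_mem hxZ.1)))
  · rintro ⟨hxS, hx⟩
    have hxZ : x ∈ Z := by
      refine ⟨hxS, fun s hs => ?_⟩
      exact mul_inv_eq_iff_eq_mul.1 (hx s (mul_mem (mul_mem hs hxS) (inv_mem hs)))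
    refine ⟨hxZ, fun n hn => ?_⟩
    exact mul_inv_eq_iff_eq_mul.1 (hx n ((Subgroup.mem_normalizer_iff.1 hn x).1 ⟨hxS, hZ hxZ⟩).1)

end Cfsg.Agent.S1944
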