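import Cfsg.Statements.S1945
import Cfsg.Agent.Lib.WeakClosureTransfer
import Cfsg.Agent.Lib.CentralRetraction
import Cfsg.Agent.Lib.PSolvable

set_option autoImplicit false
set_option linter.unusedVariables false
open Cfsg
open scoped commutatorElement

namespace Cfsg.Agent.S1945

open CfsgLib CfsgLib.Local CfsgLib.ThompsonComplement in
theorem oddCase {G : Type*} [Group G] [Finite G] {p : ℕ} [Fact p.Prime] (hp : p ≠ 2) (S : Sylow p G) :
    ∃ W K : Subgroup G, (∀ x : G, x ∈ W ↔ (x ∈ (S : Subgroup G) ∧ ∀ g : G, g * x * g⁻¹ ∈ (S : Subgroup G) → g * x * g⁻¹ = x)) ∧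
      K ≤ ((S : Subgroup G) ⊓ Subgroup.centralizer ((S : Subgroup G) : Set G)) ∧ W ⊓ K = ⊥ ∧ W ⊔ K = ((S : Subgroup G) ⊓ Subgroup.centralizer ((S : Subgroup G) : Set G)) := by
  set Z := (S : Subgroup G) ⊓ Subgroup.centralizer ((S : Subgroup G) : Set G) with hZ
  set J := ZJ.thompsonJ 0 (S : Subgroup G)
  set N := Subgroup.normalizer (J : Set G)
  have hSN : (S : Subgroup G) ≤ N := Subgroup.le_normalizer.trans (normalizer_le_normalizer_J _)
  have hZJ : Z ≤ ZJ.zj 0 (S : Subgroup G) := by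
    rintro z ⟨hz, hzc⟩
    refine ⟨?_, fun j hj => hzc j (ZJ.thompsonJ_le 0 _ hj)⟩
    obtain ⟨A, hA⟩ := ZJ.goodMax_nonempty 0 (S : Subgroup G)
    set B := Subgroup.closure ((A : Set G) ∪ {z})
    have hB : ZJ.IsGood 0 B := ZJ.isGood_closure (e := 0) (by
      rintro c (hc' | rfl) d (hd | rfl)
      · exact hA.2.1.1 c hc' d hd
      · exact hzc c (hA.1 hc')
      · exact (hzc d (hA.1 hd)).symm
      · rfl) fun _ _ => pow_zero _
    have hBP : B ≤ (S : Subgroup G) :=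
      (Subgroup.closure_le _).2 (Set.union_subset hA.1 (Set.singleton_subset_iff.2 hz))
    have hAB : A ≤ B := fun c hc => Subgroup.subset_closure (Or.inl hc)
    have e : A = B := Subgroup.eq_of_le_of_card_ge hAB (hA.2.2 B hBP hB)
    exact ZJ.le_thompsonJ hA (e ▸ Subgroup.subset_closure (Or.inr rfl))
  obtain ⟨K, hKZ, hinf, hsup⟩ := CentralRetraction.exists_complement S (N := N)
    (R := ZJ.zj 0 (S : Subgroup G)) (Z := Z) hSN (fun n hn => by
      refine mem_normalizer_of_map_conj_eq (Subgroup.eq_of_le_of_card_ge (map_conj_le fun r hr => ?_)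
        (Subgroup.card_map_of_injective (MulAut.conj n).injective).ge)
      refine ⟨(Subgroup.mem_normalizer_iff.1 hn r).1 hr.1, fun j hj => ?_⟩
      have h1 := hr.2 (n⁻¹ * j * n) (by simpa using (Subgroup.mem_normalizer_iff.1 (N.inv_mem hn) j).1 hj)
      have := congrArg (fun u => n * u * n⁻¹) h1
      simpa [mul_assoc] using this)
    (fun a ha b hb => ZJ.zj_comm ha hb) hZJ inf_le_left (fun z hz s hs => hz.2 s hs)
    (fun r hr hn => ⟨ZJ.zj_le 0 _ hr, fun s hs => hn s (hSN hs)⟩)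
  refine ⟨_, K, fun x => ⟨?_, ?_⟩, hKZ, hinf, hsup⟩
  · rintro ⟨hxZ, hxN⟩
    exact ⟨hxZ.1, fun g hg => WeakClosureJ.weakly_closed S hxZ.1 hxN (Or.inl hp) g hg⟩
  · rintro ⟨hxS, hx⟩
    have hxZ : x ∈ Z := by
      refine ⟨hxS, fun s hs => ?_⟩
      exact mul_inv_eq_iff_eq_mul.1 (hx s (mul_mem (mul_mem hs hxS) (inv_mem hs)))
    refine ⟨hxZ, fun n hn => ?_⟩
    exact mul_inv_eq_iff_eq_mul.1 (hx n (ZJ.thompsonJ_le 0 _ ((Subgroup.mem_normalizer_iff.1 hn x).1 (hZJ hxZ).1)))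

open CfsgLib CfsgLib.Local Cfsg in
theorem solvableCase {G : Type*} [Group G] [Finite G] [Group.IsSolvable G] {p : ℕ} [Fact p.Prime] (S : Sylow p G) :
    ∃ W K : Subgroup G, (∀ x : G, x ∈ W ↔ (x ∈ (S : Subgroup G) ∧ ∀ g : G, g * x * g⁻¹ ∈ (S : Subgroup G) → g * x * g⁻¹ = x)) ∧
      K ≤ ((S : Subgroup G) ⊓ Subgroup.centralizer ((S : Subgroup G) : Set G)) ∧ W ⊓ K = ⊥ ∧ W ⊔ K = ((S : Subgroup G) ⊓ Subgroup.centralizer ((S : Subgroup G) : Set G)) := by
  set Z := (S : Subgroup G) ⊓ Subgroup.centralizer ((S : Subgroup G) : Set G) with hZ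
  set O := pPrimeCore p G with hO
  set π := QuotientGroup.mk' O
  have hs : Function.Surjective π := QuotientGroup.mk'_surjective O
  have hinj : ∀ a ∈ (S : Subgroup G), ∀ b ∈ (S : Subgroup G), π a = π b → a = b := by
    intro a ha b hb e
    obtain ⟨k, hk⟩ := S.2.exists_card_eq
    exact inv_mul_eq_one.1 (Subgroup.disjoint_def.1 (Subgroup.disjoint_of_coprime_natCard (by
      rw [hk]; exact ((card_pPrimeCore_coprime p).pow_right k).symm))
      ((S : Subgroup G).mul_mem ((S : Subgroup G).inv_mem ha) hb) (QuotientGroup.eq.1 e))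
  set Sb := S.mapSurjective hs with hSb
  have hSbc : (Sb : Subgroup (G ⧸ O)) = (S : Subgroup G).map π := rfl
  set Ob := pCore p (G ⧸ O) with hOb
  have hb : pPrimeCore p (G ⧸ O) = ⊥ := pPrimeCore_quotient_eq_bot p
  have hcen := centralizer_pCore_le (Fact.out : p.Prime) hb
  have hObS : Ob ≤ (S : Subgroup G).map π := pCore_le_sylow Sb
  set R := Ob ⊓ Subgroup.centralizer (Ob : Set (G ⧸ O))
  haveI : (Subgroup.centralizer (Ob : Set (G ⧸ O))).Normal := Subgroup.normal_centralizer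
  haveI : R.Normal := inferInstance
  have hZR : Z.map π ≤ R := by
    rintro _ ⟨z, hz, rfl⟩
    have h1 : π z ∈ Subgroup.centralizer (Ob : Set (G ⧸ O)) := fun o ho => by
      obtain ⟨s, hs', rfl⟩ := hObS ho
      rw [← map_mul, ← map_mul, hz.2 s hs']
    exact ⟨hcen h1, h1⟩
  -- lifting
  have hlift : ∀ {r : G}, r ∈ (S : Subgroup G) → (∀ s ∈ (S : Subgroup G), π s * π r = π r * π s) → r ∈ Z :=
    fun {r} hr h => ⟨hr, fun s hs' => hinj _ (mul_mem hs' hr) _ (mul_mem hr hs') (by rw [map_mul, map_mul, h s hs'])⟩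
  obtain ⟨Kb, hKZ, hinf, hsup⟩ := CentralRetraction.exists_complement Sb (N := ⊤) (R := R) (Z := Z.map π) le_top
    (by rw [Subgroup.normalizer_eq_top_iff.2 inferInstance])
    (fun a ha b hb' => hb'.2 a ha.1) hZR (Subgroup.map_mono inf_le_left)
    (by
      rintro _ ⟨z, hz, rfl⟩ _ ⟨s, hs', rfl⟩
      change π s * π z = π z * π s
      rw [← map_mul, ← map_mul, hz.2 s hs'])
    (fun r hr hn => by
      obtain ⟨s, hs', rfl⟩ := hObS hr.1
      exact ⟨s, hlift hs' fun t ht => hn _ (Subgroup.mem_top _), rfl⟩)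
  set W := Z ⊓ (Subgroup.centralizer ((⊤ : Subgroup (G ⧸ O)) : Set (G ⧸ O))).comap π
  refine ⟨W, Z ⊓ Kb.comap π, fun x => ⟨?_, ?_⟩, inf_le_left, ?_, le_antisymm (sup_le inf_le_left inf_le_left) fun z hz => ?_⟩
  · rintro ⟨hxZ, hxc⟩
    refine ⟨hxZ.1, fun g hg => hinj _ hg _ hxZ.1 ?_⟩
    rw [map_mul, map_mul, map_inv, hxc (π g) (Subgroup.mem_top _), mul_inv_cancel_right]
  · rintro ⟨hxS, hx⟩
    have hxZ : x ∈ Z := ⟨hxS, fun s hs' =>
      mul_inv_eq_iff_eq_mul.1 (hx s (mul_mem (mul_mem hs' hxS) (inv_mem hs')))⟩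
    refine ⟨hxZ, ?_⟩
    intro q _
    obtain ⟨g, rfl⟩ := hs q
    have h1 : π (g * x * g⁻¹) ∈ (S : Subgroup G).map π := by
      refine hObS ?_
      rw [map_mul, map_mul, map_inv]
      exact (inferInstance : Ob.Normal).conj_mem _ (hZR ⟨x, hxZ, rfl⟩).1 _
    set U := ((S : Subgroup G).map π).comap π
    have hgU : g * x * g⁻¹ ∈ U := h1
    have hSU : (S : Subgroup G) ≤ U := Subgroup.le_comap_map _ _
    have hzp : IsPGroup p (Subgroup.zpowers (g * x * g⁻¹)) := by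
      refine isPGroup_of_le ?_ (S.2.map (MulAut.conj g).toMonoidHom)
      rw [Subgroup.zpowers_le]
      exact ⟨x, hxS, rfl⟩
    obtain ⟨c, hcU, P, hP, -, hSP, hQP⟩ := exists_conj_isPGroup (C := U) S.2 hzp hSU
      (Subgroup.zpowers_le.2 hgU)
    rw [S.3 hP hSP] at hQP
    have h2 := hQP ⟨_, Subgroup.mem_zpowers _, rfl⟩
    simp only [MulEquiv.coe_toMonoidHom, MulAut.conj_apply] at h2
    have e : c * (g * x * g⁻¹) * c⁻¹ = (c * g) * x * (c * g)⁻¹ := by group
    rw [e] at h2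
    have h3 := hx _ h2
    obtain ⟨s, hs', hsc⟩ := hcU
    have h4 : π g * π x * (π g)⁻¹ = (π c)⁻¹ * π x * π c := by
      rw [← map_inv, ← map_inv, ← map_mul, ← map_mul, ← map_mul, ← map_mul]
      congr 1
      conv_rhs => rw [← h3]
      group
    have h5 : π g * π x * (π g)⁻¹ = π x := by
      rw [h4, mul_assoc, ← hsc, ← map_mul, ← hxZ.2 s hs', map_mul, inv_mul_cancel_left]
    exact mul_inv_eq_iff_eq_mul.1 h5
  · rw [Subgroup.eq_bot_iff_forall]
    rintro w ⟨⟨hwZ, hwc⟩, -, hwK⟩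
    have h1 : π w ∈ (Z.map π ⊓ Subgroup.centralizer ((⊤ : Subgroup (G ⧸ O)) : Set (G ⧸ O))) ⊓ Kb :=
      ⟨⟨⟨w, hwZ, rfl⟩, hwc⟩, hwK⟩
    rw [hinf, Subgroup.mem_bot, ← map_one π] at h1
    exact hinj _ hwZ.1 _ (one_mem _) h1
  · have h1 : π z ∈ Z.map π := ⟨z, hz, rfl⟩
    rw [← hsup] at h1
    haveI : (Z.map π ⊓ Subgroup.centralizer ((⊤ : Subgroup (G ⧸ O)) : Set (G ⧸ O))).Normal := ⟨fun a ha q => by
      rw [show q * a = a * q from ha.2 q (Subgroup.mem_top q), mul_inv_cancel_right]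
      exact ha⟩
    obtain ⟨a, ⟨⟨a', ha', hae⟩, hac⟩, b, hb', hab⟩ := Subgroup.mem_sup_of_normal_left.1 h1
    subst hae
    have e : z = a' * (a'⁻¹ * z) := by group
    rw [e]
    refine Subgroup.mul_mem _ (Subgroup.mem_sup_left ⟨ha', hac⟩) (Subgroup.mem_sup_right ⟨Z.mul_mem (Z.inv_mem ha') hz, ?_⟩)
    show π (a'⁻¹ * z) ∈ Kb
    rw [map_mul, map_inv, ← hab, inv_mul_cancel_left]
    exact hb'

/-- Let S be a Sylow p-subgroup of the finite group G, and assume that p is odd or that G is solvable. The elements of S each of which is its only G-conjugate in S form a subgroup W of Z(S); W is then a direct factor of Z(S): there is a subgroup K of Z(S) with W ∩ K = 1 and WK = Z(S). (For p = 2 and G not solvable this can fail.) -/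
theorem result {G : Type*} [Group G] [Finite G] {p : ℕ} [Fact p.Prime] (S : Sylow p G) (h : p ≠ 2 ∨ Group.IsSolvable G) :
    ∃ W K : Subgroup G, (∀ x : G, x ∈ W ↔ (x ∈ (S : Subgroup G) ∧ ∀ g : G, g * x * g⁻¹ ∈ (S : Subgroup G) → g * x * g⁻¹ = x)) ∧
      K ≤ ((S : Subgroup G) ⊓ Subgroup.centralizer ((S : Subgroup G) : Set G)) ∧ W ⊓ K = ⊥ ∧ W ⊔ K = ((S : Subgroup G) ⊓ Subgroup.centralizer ((S : Subgroup G) : Set G)) := by
  rcases h with h | h
  · exact oddCase h S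
  · exact solvableCase S

end Cfsg.Agent.S1945
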