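import Cfsg.Statements.S1947
import Cfsg.Agent.Lib.SmallFusion

set_option autoImplicit false
set_option linter.unusedVariables false
open Cfsg
open scoped commutatorElement

namespace Cfsg.Agent.S1947

/-- Let G be a finite group and p a prime. If every element of G of order dividing p (dividing 4 when p = 2) lies in some fixed term Z_n(G) of the upper central series, then G has a normal p-complement. -/
theorem result {G : Type*} [Group G] [Finite G] {p : ℕ} [Fact p.Prime] (n : ℕ)
    (h : ∀ a : G, (a ^ p = 1 ∨ (p = 2 ∧ a ^ 4 = 1)) → a ∈ Subgroup.upperCentralSeries G n) : Cfsg.HasNormalPComplement p G := by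
    obtain ⟨P⟩ := (inferInstance : Nonempty (Sylow p G))
    refine CfsgLib.SmallFusion.hasNormalPComplement_of_filtration P
      (fun i => Subgroup.upperCentralSeries G (n - i)) (fun x _ hx => ?_) (n := n)
      (by rw [Nat.sub_self]; exact Subgroup.upperCentralSeries_zero G) ?_
    · exact h x ((CfsgLib.Small.pow_smallExp_eq_one_iff x).1 hx)
    · intro g i x _ hxF _ _
      rcases Nat.eq_zero_or_pos (n - i) with h0 | hpos
      · rw [h0, Subgroup.upperCentralSeries_zero, Subgroup.mem_bot] at hxF
        rw [hxF]
        simp
      · rw [show n - i = (n - (i + 1)) + 1 by omega, Subgroup.mem_upperCentralSeries_succ_iff] at hxF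
        have h1 := Subgroup.inv_mem _ (hxF g)
        rw [commutatorElement_def] at h1
        simpa [mul_assoc] using h1

end Cfsg.Agent.S1947
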