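import Cfsg.Statements.S1948
import Cfsg.Agent.Lib.Comp.PCompMore

set_option autoImplicit false
set_option linter.unusedVariables false
open Cfsg
open scoped commutatorElement

namespace Cfsg.Agent.S1948


universe u

open CfsgLib.Comp

theorem pPrimePCore_sylow {G : Type u} [Group G] [Finite G] {p : ℕ} [Fact p.Prime]
    (M : Subgroup G) (hM : ∀ x ∈ M, bar p G x ∈ pCore p (G ⧸ pPrimeCore p G))
    (P : Sylow p ↥M) : (pPrimeCore p G).subgroupOf M ⊔ (P : Subgroup ↥M) = ⊤ := by
  have hres : pResidual p M ≤ (pPrimeCore p G).subgroupOf M := by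
    refine CfsgLib.pResidual_le_of_isPGroup_quotient ?_
    intro z
    obtain ⟨⟨x, hx⟩, rfl⟩ := QuotientGroup.mk'_surjective _ z
    obtain ⟨k, hk⟩ := CfsgLib.isPGroup_pCore (G := G ⧸ pPrimeCore p G) p ⟨bar p G x, hM x hx⟩
    refine ⟨k, ?_⟩
    rw [← map_pow, QuotientGroup.mk'_apply, QuotientGroup.eq_one_iff, Subgroup.mem_subgroupOf]
    push_cast
    rw [← QuotientGroup.eq_one_iff]
    exact congrArg Subtype.val hk
  exact CfsgLib.sylow_sup_eq_top_of_pResidual_le P hres

set_option maxHeartbeats 1000000 in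
theorem forward {G : Type u} [Group G] [Finite G] {p : ℕ} [Fact p.Prime] (S : Sylow p G)
    (h : Subgroup.normalizer ((S : Subgroup G) : Set G) ⊔ pPrimeCore p G = ⊤) : IsPConstrained p G := by
  rw [constrained_iff, charP_quotient_iff]
  set Gb := G ⧸ pPrimeCore p G
  set Sb : Subgroup Gb := (S : Subgroup G).map (bar p G) with hSb
  have hSbn : Sb.Normal := by
    refine Subgroup.normalizer_eq_top_iff.mp (top_le_iff.mp ?_)
    rw [← Subgroup.map_top_of_surjective (bar p G) (bar_surjective p), ← h, Subgroup.map_sup,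
      QuotientGroup.map_mk'_self, sup_bot_eq]
    exact Subgroup.le_normalizer_map _
  haveI := hSbn
  have hSbp : IsPGroup p ↥Sb := S.2.map _
  have hScore : Sb ≤ pCore p Gb := CfsgLib.le_pCore hSbp
  have hC : Subgroup.centralizer (pCore p Gb : Set Gb) ≤ Subgroup.centralizer (Sb : Set Gb) :=
    Subgroup.centralizer_le hScore
  set C := Subgroup.centralizer (Sb : Set Gb) with hCdef
  haveI : C.Normal := Subgroup.normal_centralizer
  obtain ⟨T⟩ : Nonempty (Sylow p ↥C) := inferInstance
  have hTS : (T : Subgroup ↥C).map C.subtype ≤ Sb := by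
    obtain ⟨U, hU⟩ := (T.2.map C.subtype).exists_le_sylow
    obtain ⟨g, hg⟩ := MulAction.exists_smul_eq Gb U (S.mapSurjective (bar_surjective p))
    intro w hw
    have h1 : (MulAut.conj g) w ∈ (S.mapSurjective (bar_surjective (G := G) p) : Subgroup Gb) := by
      rw [← hg, Sylow.coe_subgroup_smul]
      exact Subgroup.smul_mem_pointwise_smul _ _ _ (hU hw)
    rw [Sylow.coe_mapSurjective] at h1
    have h2 := hSbn.conj_mem _ h1 g⁻¹
    simpa [mul_assoc] using h2
  obtain ⟨P, W, hW, hcomp⟩ := CfsgLib.hasNormalPComplement_of_normalizer_le_centralizer T (fun g _ t ht => by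
    refine Subtype.ext ?_
    exact g.2 _ (hTS ⟨t, ht, rfl⟩))
  have hWc : (Nat.card W).Coprime p := by
    have h1 := P.not_dvd_index
    rw [hcomp.index_eq_card] at h1
    exact ((Fact.out : p.Prime).coprime_iff_not_dvd.mpr h1).symm
  have hW1 : W = ⊥ := by
    haveI := hW
    have h1 : (pPrimeCore p ↥C).map C.subtype ≤ ⊥ :=
      (CfsgLib.map_pPrimeCore_le p C).trans (CfsgLib.pPrimeCore_quotient_eq_bot p).le
    have h2 : W.map C.subtype ≤ ⊥ := (Subgroup.map_mono (CfsgLib.le_pPrimeCore hWc)).trans h1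
    exact (Subgroup.map_eq_bot_iff_of_injective _ C.subtype_injective).mp (le_bot_iff.mp h2)
  have hCp : IsPGroup p ↥C := by
    have h1 := hcomp.card_mul
    rw [hW1, Subgroup.card_bot, one_mul] at h1
    obtain ⟨k, hk⟩ := IsPGroup.iff_card.mp P.2
    exact IsPGroup.of_card (h1.symm.trans hk)
  exact hC.trans (CfsgLib.le_pCore hCp)

/-- Let S be a Sylow p-subgroup of the finite group G. Then G = N_G(S)·O_{p'}(G) if and only if G is p-constrained and N_G(S) controls fusion in S, in the sense that whenever a subgroup Q of S has a conjugate g Q g⁻¹ inside S, the element g is a product n c with n normalizing S and c centralizing Q. -/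
theorem result {G : Type*} [Group G] [Finite G] {p : ℕ} [Fact p.Prime] (S : Sylow p G) :
    Subgroup.normalizer ((S : Subgroup G) : Set G) ⊔ Cfsg.pPrimeCore p G = ⊤ ↔
      (Cfsg.IsPConstrained p G ∧
        ∀ Q : Subgroup G, Q ≤ (S : Subgroup G) → ∀ g : G, Q.map (MulAut.conj g).toMonoidHom ≤ (S : Subgroup G) →
          ∃ n ∈ Subgroup.normalizer ((S : Subgroup G) : Set G), ∃ c ∈ Subgroup.centralizer (Q : Set G), g = n * c) := by
  set N := Subgroup.normalizer ((S : Subgroup G) : Set G) with hN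
  constructor
  · intro h
    refine ⟨forward S h, fun Q hQ g hg => ?_⟩
    obtain ⟨n, hn, o, ho, rfl⟩ := Subgroup.mem_sup_of_normal_right.mp (h.symm ▸ Subgroup.mem_top g)
    refine ⟨n, hn, o, fun q hq => ?_, rfl⟩
    have h1 : n * o * q * (n * o)⁻¹ ∈ (S : Subgroup G) := hg ⟨q, hq, rfl⟩
    have h2 : o * q * o⁻¹ ∈ (S : Subgroup G) := by
      refine (Subgroup.mem_normalizer_iff.mp hn _).mpr ?_
      simpa [mul_assoc] using h1
    have h3 : o * q * o⁻¹ * q⁻¹ ∈ Cfsg.pPrimeCore p G ⊓ (S : Subgroup G) := Subgroup.mem_inf.mpr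
      ⟨by
        have := Subgroup.mul_mem _ ho ((inferInstance : (Cfsg.pPrimeCore p G).Normal).conj_mem _ (Subgroup.inv_mem _ ho) q)
        simpa [mul_assoc] using this,
      Subgroup.mul_mem _ h2 (Subgroup.inv_mem _ (hQ hq))⟩
    obtain ⟨k, hk⟩ := IsPGroup.iff_card.mp S.2
    rw [Subgroup.inf_eq_bot_of_coprime (by rw [hk]; exact (CfsgLib.card_pPrimeCore_coprime p).pow_right k),
      Subgroup.mem_bot, mul_inv_eq_one, mul_inv_eq_iff_eq_mul] at h3
    exact h3.symm
  · rintro ⟨hcon, hfus⟩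
    set M := Cfsg.pPrimePCore p G with hM
    obtain ⟨P₀⟩ : Nonempty (Sylow p ↥M) := inferInstance
    obtain ⟨U, hU⟩ := (P₀.2.map M.subtype).exists_le_sylow
    obtain ⟨g, hg⟩ := MulAction.exists_smul_eq G U S
    set e : ↥M ≃* ↥M := MulAut.conjNormal g with he
    set P : Sylow p ↥M := P₀.mapSurjective (f := e.toMonoidHom) e.surjective with hP
    set P' := (P : Subgroup ↥M).map M.subtype with hP'
    have hP'S : P' ≤ (S : Subgroup G) := by
      show ((P₀ : Subgroup ↥M).map e.toMonoidHom).map M.subtype ≤ (S : Subgroup G)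
      rintro _ ⟨_, ⟨w, hw, rfl⟩, rfl⟩
      rw [← hg, Sylow.coe_subgroup_smul]
      have : M.subtype (e.toMonoidHom w) = (MulAut.conj g) (w : G) := MulAut.conjNormal_apply g w
      rw [this]
      exact Subgroup.smul_mem_pointwise_smul _ _ _ (hU ⟨w, hw, rfl⟩)
    have hMle : M ≤ N ⊔ Cfsg.pPrimeCore p G := by
      intro m hm
      obtain ⟨o, ho, q, hq, e⟩ := Subgroup.mem_sup_of_normal_left.mp
        ((pPrimePCore_sylow M (fun _ hx => hx) P).symm ▸ Subgroup.mem_top (⟨m, hm⟩ : ↥M))
      have e' : (o : G) * q = m := congrArg Subtype.val e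
      rw [← e']
      exact Subgroup.mul_mem _ (Subgroup.mem_sup_right ho)
        (Subgroup.mem_sup_left (Subgroup.le_normalizer (hP'S ⟨q, hq, rfl⟩)))
    refine top_le_iff.mp ?_
    rw [← Sylow.normalizer_sup_eq_top P]
    refine sup_le ?_ hMle
    intro w hw
    obtain ⟨n, hn, c, hc, rfl⟩ := hfus P' hP'S w (fun z hz => by
      obtain ⟨z, hz, rfl⟩ := hz
      exact hP'S ((Subgroup.mem_normalizer_iff.mp hw z).mp hz))
    exact Subgroup.mul_mem _ (Subgroup.mem_sup_left hn) (hMle (hcon P hc))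

end Cfsg.Agent.S1948
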