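import Cfsg.Statements.S1949
import Cfsg.Agent.Lib.SmallElements

set_option autoImplicit false
set_option linter.unusedVariables false
open Cfsg
open scoped commutatorElement

namespace Cfsg.Agent.S1949

/-- Let P be a finite p-group and G a group of automorphisms of P containing the inner automorphisms. Then there is a G-invariant subgroup D of P, contained in the subgroup generated by the elements x⁻¹α(x) with x in P and α in O^p(G), of exponent dividing p when p is odd and dividing 4 when p = 2, with [D, P] ≤ Z(D), such that every automorphism in G of order prime to p that fixes D elementwise is the identity; moreover every maximal abelian subgroup A of D is normal in P and every automorphism in G fixing A elementwise has p-power order. -/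
theorem result {P : Type*} [Group P] [Finite P] {p : ℕ} [Fact p.Prime] (hP : IsPGroup p P)
    (G : Subgroup (MulAut P)) (hG : Cfsg.Inn P ≤ G) :
    ∃ D : Subgroup P,
      (∀ α ∈ G, D.map α.toMonoidHom = D) ∧
      D ≤ Subgroup.closure {y : P | ∃ α ∈ Cfsg.pResidual p ↥G, ∃ x : P, y = x⁻¹ * (α : MulAut P) x} ∧
      (∀ d ∈ D, d ^ p = 1 ∨ (p = 2 ∧ d ^ 4 = 1)) ∧
      ⁅D, (⊤ : Subgroup P)⁆ ≤ D ⊓ Subgroup.centralizer (D : Set P) ∧
      (∀ α ∈ G, (orderOf α).Coprime p → (∀ d ∈ D, α d = d) → α = 1) ∧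
      ∀ A : Subgroup P, A ≤ D → IsMulCommutative ↥A →
        (∀ B : Subgroup P, A ≤ B → B ≤ D → IsMulCommutative ↥B → B = A) →
        A.Normal ∧ ∀ α ∈ G, (∀ a ∈ A, α a = a) → ∃ k : ℕ, orderOf α = p ^ k := by
  obtain ⟨C, hch, hcom, hpow, hcen⟩ := CfsgLib.Small.exists_critical (X := P) (p := p) hP
  haveI := hch
  set K := Cfsg.pResidual p ↥G with hK
  set D := Subgroup.closure {y : P | ∃ α ∈ K, ∃ c ∈ C, c ^ CfsgLib.Small.smallExp p = 1 ∧ y = c⁻¹ * (α : MulAut P) c} with hD
  -- the small elements of the critical subgroup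
  let W : Subgroup P :=
    { carrier := {x | x ∈ C ∧ x ^ CfsgLib.Small.smallExp p = 1}
      one_mem' := ⟨one_mem _, one_pow _⟩
      mul_mem' := fun {a b} ha hb => ⟨mul_mem ha.1 hb.1, by
        rw [CfsgLib.Small.mul_pow_of_central ha.1 hb.1
          (fun u _ v hv w hw => (Subgroup.mem_centralizer_iff.mp (hcom u v hv).2 w hw).symm)
          (fun u hu w hw => (Subgroup.mem_centralizer_iff.mp (hpow u hu).2 w hw).symm)
          CfsgLib.Small.dvd_choose_smallExp, ha.2, hb.2, one_mul]⟩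
      inv_mem' := fun {a} ha => ⟨inv_mem ha.1, by rw [inv_pow, ha.2, inv_one]⟩ }
  have hWap : ∀ (α : MulAut P) (c : P), c ∈ W → α c ∈ W := by
    intro α c hc
    exact ⟨CfsgLib.Small.apply_mem_of_char α hc.1, by rw [← map_pow, hc.2, map_one]⟩
  have hDW : D ≤ W := by
    refine (Subgroup.closure_le W).mpr ?_
    rintro y ⟨α, -, c, hc, hc1, rfl⟩
    exact mul_mem (inv_mem (show c ∈ W from ⟨hc, hc1⟩)) (hWap _ c ⟨hc, hc1⟩)
  have hKn : K.Normal := by
    refine ⟨fun x hx g => ?_⟩
    have hle : K.map (MulAut.conj g).toMonoidHom ≤ K := by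
      rw [hK, Cfsg.pResidual, MonoidHom.map_closure, Subgroup.closure_le]
      rintro _ ⟨y, hy, rfl⟩
      refine Subgroup.subset_closure ?_
      show (orderOf ((MulAut.conj g) y)).Coprime p
      rw [MulEquiv.orderOf_eq]
      exact hy
    exact hle ⟨x, hx, rfl⟩
  have hDG : ∀ α ∈ G, ∀ d ∈ D, α d ∈ D := by
    intro α hα d hd
    have hle : D.map α.toMonoidHom ≤ D := by
      rw [hD, MonoidHom.map_closure, Subgroup.closure_le]
      rintro _ ⟨y, ⟨β, hβ, c, hc, hc1, rfl⟩, rfl⟩
      refine Subgroup.subset_closure ⟨⟨α, hα⟩ * β * ⟨α, hα⟩⁻¹, hKn.conj_mem β hβ _, α c,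
        CfsgLib.Small.apply_mem_of_char α hc, by rw [← map_pow, hc1, map_one], ?_⟩
      simp
    exact hle ⟨d, hd, rfl⟩
  have hDn : ∀ g : P, ∀ d ∈ D, g * d * g⁻¹ ∈ D := fun g d hd => by
    simpa using hDG (MulAut.conj g) (hG ⟨g, rfl⟩) d hd
  -- the centre of `D` contains the commutators with `P`
  have hZ : ∀ d ∈ D, ∀ g : P, ⁅g, d⁆ ∈ D ⊓ Subgroup.centralizer (D : Set P) := by
    intro d hd g
    refine ⟨?_, Subgroup.centralizer_le (fun x hx => (hDW hx).1) (hcom g d (hDW hd).1).2⟩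
    show ⁅g, d⁆ ∈ D
    rw [commutatorElement_def]
    exact mul_mem (hDn g d hd) (inv_mem hd)
  have hdet : ∀ α ∈ G, (orderOf α).Coprime p → (∀ d ∈ D, α d = d) → α = 1 := by
    intro α hα hco hfix
    refine CfsgLib.Small.eq_one_of_fixes_critical hP hcom hpow hcen hco fun c hc hc1 => ?_
    refine CfsgLib.Small.apply_eq_self_of_step hP hco (hfix _ (Subgroup.subset_closure ⟨⟨α, hα⟩, ?_, c, hc, hc1, rfl⟩))
    refine Subgroup.subset_closure ?_
    show (orderOf (⟨α, hα⟩ : ↥G)).Coprime p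
    rwa [Subgroup.orderOf_mk]
  refine ⟨D, ?_, ?_, ?_, ?_, hdet, ?_⟩
  · intro α hα
    refine le_antisymm (by rintro _ ⟨d, hd, rfl⟩; exact hDG α hα d hd) fun d hd => ?_
    exact ⟨α⁻¹ d, hDG _ (inv_mem hα) d hd, by simp⟩
  · refine Subgroup.closure_mono ?_
    rintro y ⟨α, hα, c, -, -, rfl⟩
    exact ⟨α, hα, c, rfl⟩
  · exact fun d hd => (CfsgLib.Small.pow_smallExp_eq_one_iff d).mp (hDW hd).2
  · rw [Subgroup.commutator_le]
    intro d hd g _
    rw [← commutatorElement_inv g d]
    exact inv_mem (hZ d hd g)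
  intro A hAD hAc hmax
  have hcm : ∀ a ∈ A, ∀ b ∈ A, a * b = b * a := fun a ha b hb =>
    congrArg Subtype.val (hAc.is_comm.comm ⟨a, ha⟩ ⟨b, hb⟩)
  -- `A` is self centralizing in `D`
  have hself : ∀ d ∈ D, (∀ a ∈ A, a * d = d * a) → d ∈ A := by
    intro d hd hda
    have hB : IsMulCommutative ↥(Subgroup.closure (insert d (A : Set P))) := by
      refine Subgroup.isMulCommutative_closure ?_
      rintro x (rfl | hx) y (rfl | hy)
      · rfl
      · exact (hda y hy).symm
      · exact hda x hx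
      · exact hcm x hx y hy
    have := hmax _ (fun a ha => Subgroup.subset_closure (Set.mem_insert_of_mem _ ha))
      ((Subgroup.closure_le D).mpr (Set.insert_subset hd hAD)) hB
    rw [← this]
    exact Subgroup.subset_closure (Set.mem_insert _ _)
  have hZA : D ⊓ Subgroup.centralizer (D : Set P) ≤ A := fun z hz =>
    hself z hz.1 fun a ha => Subgroup.mem_centralizer_iff.mp hz.2 a (hAD ha)
  have hAn : A.Normal := by
    refine ⟨fun a ha g => ?_⟩
    have : g * a * g⁻¹ = ⁅g, a⁆ * a := by rw [commutatorElement_def]; group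
    rw [this]
    exact mul_mem (hZA (hZ a (hAD ha) g)) ha
  refine ⟨hAn, fun α hα hfix => ?_⟩
  have hpos : 0 < orderOf α := orderOf_pos α
  set e := (orderOf α).factorization p with he
  have hβ : (orderOf (α ^ p ^ e)).Coprime p := by
    rw [orderOf_pow' α (pow_ne_zero _ (Fact.out : p.Prime).ne_zero),
      Nat.gcd_eq_right (Nat.ordProj_dvd (orderOf α) p)]
    exact Nat.Coprime.symm (Nat.coprime_ordCompl (Fact.out : p.Prime) hpos.ne')
  have hfix' : ∀ n : ℕ, ∀ a ∈ A, (α ^ n) a = a := by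
    intro n
    induction n with
    | zero => simp
    | succ n ih => intro a ha; rw [pow_succ, MulAut.mul_apply, hfix a ha, ih a ha]
  have h1 : α ^ p ^ e = 1 := by
    refine hdet _ (pow_mem hα _) hβ fun d hd => CfsgLib.Small.apply_eq_self_of_step hP hβ (hfix' _ _ (hself _ ?_ ?_))
    · exact mul_mem (inv_mem hd) (hDG _ (pow_mem hα _) d hd)
    · intro a ha
      have h2 : d * a * d⁻¹ ∈ A := hAn.conj_mem a ha d
      have h3 := hfix' (p ^ e) _ h2
      rw [map_mul, map_mul, map_inv, hfix' _ a ha] at h3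
      calc a * (d⁻¹ * (α ^ p ^ e) d) = d⁻¹ * (d * a * d⁻¹) * (α ^ p ^ e) d := by group
        _ = d⁻¹ * (α ^ p ^ e) d * a := by rw [← h3]; group
  obtain ⟨k, -, hk⟩ := (Nat.dvd_prime_pow (Fact.out : p.Prime)).mp (orderOf_dvd_of_pow_eq_one h1)
  exact ⟨k, hk⟩

end Cfsg.Agent.S1949
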