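import Cfsg.Statements.S1951
import Cfsg.Agent.Lib.PairsPSolvable.Count

set_option autoImplicit false
open Cfsg

namespace Cfsg.Agent.S1951

/-- Let p be a prime and P a nontrivial elementary abelian Sylow p-subgroup of a finite nonabelian simple group G whose nonidentity elements are all conjugate in G. Suppose that two elements of P are conjugate in G only if they are conjugate in N_G(P), that the centralizer of every element of order p of P has a normal p-complement, and that every two elements of order p of G generate a p-solvable subgroup. Then p = 2. -/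
theorem result {G : Type*} [Group G] [Finite G] [IsSimpleGroup G] (hG : ¬ IsMulCommutative G) {p : ℕ} [Fact p.Prime] (P : Sylow p G)
    (hP1 : (P : Subgroup G) ≠ ⊥) (hPe : Cfsg.IsElementaryAbelian p (P : Subgroup G))
    (hconj : ∀ x ∈ (P : Subgroup G), ∀ y ∈ (P : Subgroup G), x ≠ 1 → y ≠ 1 → ∃ g : G, g * x * g⁻¹ = y)
    (ha : ∀ x ∈ (P : Subgroup G), ∀ y ∈ (P : Subgroup G), (∃ g : G, g * x * g⁻¹ = y) →
      ∃ n ∈ Subgroup.normalizer ((P : Subgroup G) : Set G), n * x * n⁻¹ = y)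
    (hb : ∀ x ∈ (P : Subgroup G), orderOf x = p → Cfsg.HasNormalPComplement p ↥(Subgroup.centralizer ({x} : Set G)))
    (hc : ∀ x y : G, orderOf x = p → orderOf y = p → Cfsg.IsPSolvable p ↥(Subgroup.closure ({x, y} : Set G))) :
    p = 2 := by
  classical
  have := Fintype.ofFinite G
  obtain ⟨hcomm, hexp⟩ := hPe
  have hp : p.Prime := Fact.out
  have hconjP : ∀ S : Subgroup G, IsPGroup p S → ∃ g : G, ∀ a ∈ S, g * a * g⁻¹ ∈ (P : Subgroup G) := by
    intro S hS
    obtain ⟨Q, hQ⟩ := hS.exists_le_sylow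
    obtain ⟨g, hg⟩ := MulAction.exists_smul_eq G Q P
    refine ⟨g, fun a ha' => ?_⟩
    rw [← hg, Sylow.coe_subgroup_smul]
    exact Subgroup.smul_mem_pointwise_smul a (MulAut.conj g) _ (hQ ha')
  obtain ⟨⟨x₀, hx₀⟩, hne⟩ : ∃ y : (P : Subgroup G), y ≠ 1 := by
    haveI := (Subgroup.nontrivial_iff_ne_bot _).2 hP1
    exact exists_ne 1
  have hne' : x₀ ≠ 1 := fun e => hne (Subtype.ext e)
  have hordP : ∀ a ∈ (P : Subgroup G), a ≠ 1 → orderOf a = p := fun a ha' h1 =>
    orderOf_eq_prime (hexp a ha') h1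
  by_contra hp2
  have hx := hordP x₀ hx₀ hne'
  refine (CfsgLib.PairsPSolv.Data.contradiction (x := x₀) (P := P) ⟨hx, hx₀, ?_, ?_, ?_⟩ hp2
    (hb x₀ hx₀ hx) hc)
  · intro S hS a ha' b hb'
    obtain ⟨g, hg⟩ := hconjP S hS
    have h := congrArg Subtype.val (hcomm.is_comm.comm (⟨_, hg a ha'⟩ : (P : Subgroup G)) ⟨_, hg b hb'⟩)
    simp only [Subgroup.coe_mul] at h
    have e : ∀ u v : G, g * u * g⁻¹ * (g * v * g⁻¹) = g * (u * v) * g⁻¹ := fun u v => by group
    rw [e, e] at h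
    exact mul_left_cancel (mul_right_cancel h)
  · rintro z ⟨k, hk⟩ hz
    obtain ⟨g, hg⟩ := hconjP (Subgroup.zpowers z) (IsPGroup.iff_card.2 ⟨k, by rw [Nat.card_zpowers, hk]⟩)
    have h := hordP _ (hg z (Subgroup.mem_zpowers z)) (fun e => hz (conj_eq_one_iff.1 e))
    rwa [CfsgLib.Blocks.conj_orderOf] at h
  · intro z hz
    have hz1 : z ≠ 1 := fun e => hp.ne_one (by rw [← hz, e, orderOf_one])
    obtain ⟨g, hg⟩ := hconjP (Subgroup.zpowers z) (IsPGroup.iff_card.2 ⟨1, by rw [Nat.card_zpowers, hz, pow_one]⟩)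
    obtain ⟨u, hu⟩ := hconj x₀ hx₀ _ (hg z (Subgroup.mem_zpowers z)) hne'
      (fun e => hz1 (conj_eq_one_iff.1 e))
    exact (isConj_iff.2 ⟨u, hu⟩).trans (isConj_iff.2 ⟨g, rfl⟩).symm

end Cfsg.Agent.S1951
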