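import Cfsg.Statements.S1954
import Cfsg.Agent.Lib.Basic
-- import your own Cfsg.Agent.* helpers here

set_option autoImplicit false
open Cfsg

namespace Cfsg.Agent.S1954

open scoped Pointwise

variable {G : Type*} [Group G]

theorem map_le_iff {A B : Subgroup G} {g : G} :
    A.map (MulAut.conj g).toMonoidHom ≤ B ↔ ∀ a ∈ A, g * a * g⁻¹ ∈ B := by
  constructor
  · intro h a ha
    exact h ⟨a, ha, rfl⟩
  · rintro h _ ⟨a, ha, rfl⟩
    exact h a ha

/-- `H` controls strong fusion in `Q` relative to `N`. -/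
def Ctrl (N Q H : Subgroup G) : Prop :=
  ∀ A : Subgroup G, A ≤ Q → ∀ n ∈ N, (∀ a ∈ A, n * a * n⁻¹ ∈ Q) →
    ∃ h ∈ N ⊓ H, ∃ c ∈ N ⊓ Subgroup.centralizer (A : Set G), n = h * c

theorem conj_fix {A : Subgroup G} {c : G} (hc : c ∈ Subgroup.centralizer (A : Set G)) {a : G}
    (ha : a ∈ A) : c * a * c⁻¹ = a := by
  rw [← Subgroup.mem_centralizer_iff.mp hc a ha, mul_inv_cancel_right]

theorem comm_centralizer {A : Subgroup G} {g : G}
    (h : ∀ a ∈ A, g * a * g⁻¹ = a) : g ∈ Subgroup.centralizer (A : Set G) :=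
  Subgroup.mem_centralizer_iff.mpr fun a ha => (mul_inv_eq_iff_eq_mul.mp (h a ha)).symm

theorem mem_normalizer_of_le [Finite G] {B : Subgroup G} {g : G} (h : ∀ b ∈ B, g * b * g⁻¹ ∈ B) :
    g ∈ Subgroup.normalizer (B : Set G) := by
  have e : B.map (MulAut.conj g).toMonoidHom = B :=
    Subgroup.eq_of_le_of_card_ge (map_le_iff.mpr h) (le_of_eq
      (Subgroup.card_map_of_injective (f := (MulAut.conj g).toMonoidHom) (MulAut.conj g).injective).symm)
  rw [Subgroup.mem_normalizer_iff]
  refine fun a => ⟨h a, fun ha => ?_⟩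
  rw [← e] at ha
  obtain ⟨b, hb, hbe⟩ := ha
  have : b = a := (MulAut.conj g).injective hbe
  rwa [← this]

theorem map_conj_fix [Finite G] {B : Subgroup G} {g : G} :
    B.map (MulAut.conj g).toMonoidHom = B ↔ g ∈ Subgroup.normalizer (B : Set G) := by
  constructor
  · intro h
    exact mem_normalizer_of_le fun b hb => map_le_iff.mp h.le b hb
  · intro h
    exact Subgroup.eq_of_le_of_card_ge
      (map_le_iff.mpr fun b hb => (Subgroup.mem_normalizer_iff.mp h b).mp hb) (le_of_eq
      (Subgroup.card_map_of_injective (f := (MulAut.conj g).toMonoidHom) (MulAut.conj g).injective).symm)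

theorem ctrl_conj {N Q V : Subgroup G} [N.Normal] {m : G} (hm : m ∈ Subgroup.normalizer (Q : Set G))
    [Finite G] (h : Ctrl N Q (Subgroup.normalizer (V : Set G))) :
    Ctrl N Q (Subgroup.normalizer ((V.map (MulAut.conj m).toMonoidHom : Subgroup G) : Set G)) := by
  intro A hA n hn hnA
  have hm' := Subgroup.mem_normalizer_iff.mp (inv_mem hm)
  obtain ⟨h', hh', c, hc, e⟩ := h (A.map (MulAut.conj m⁻¹).toMonoidHom)
    (map_le_iff.mpr fun a ha => (hm' a).mp (hA ha)) (m⁻¹ * n * m)
    (by simpa using (inferInstance : N.Normal).conj_mem n hn m⁻¹)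
    (by
      rintro _ ⟨a, ha, rfl⟩
      have := (hm' _).mp (hnA a ha)
      simpa [mul_assoc] using this)
  refine ⟨m * h' * m⁻¹, ⟨?_, ?_⟩, m * c * m⁻¹, ⟨?_, ?_⟩, ?_⟩
  · exact (inferInstance : N.Normal).conj_mem _ (Subgroup.mem_inf.mp hh').1 m
  · refine mem_normalizer_of_le ?_
    rintro _ ⟨v, hv, rfl⟩
    refine ⟨h' * v * h'⁻¹, (Subgroup.mem_normalizer_iff.mp (Subgroup.mem_inf.mp hh').2 v).mp hv, ?_⟩
    simp [mul_assoc]
  · exact (inferInstance : N.Normal).conj_mem _ (Subgroup.mem_inf.mp hc).1 m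
  · refine comm_centralizer fun a ha => ?_
    have := conj_fix (Subgroup.mem_inf.mp hc).2 (⟨a, ha, rfl⟩ : m⁻¹ * a * m⁻¹⁻¹ ∈
      A.map (MulAut.conj m⁻¹).toMonoidHom)
    calc m * c * m⁻¹ * a * (m * c * m⁻¹)⁻¹ = m * (c * (m⁻¹ * a * m⁻¹⁻¹) * c⁻¹) * m⁻¹ := by group
      _ = a := by rw [this]; group
  · calc n = m * (m⁻¹ * n * m) * m⁻¹ := by group
      _ = _ := by rw [e]; group

/-- Simultaneous control by a finite family of normalisers. -/
theorem ctrl_family [Finite G] (N Q : Subgroup G) {ι : Type*} [DecidableEq ι] (U : ι → Subgroup G)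
    (hU : ∀ i, U i ≤ Q) (hn : ∀ i, Ctrl N Q (Subgroup.normalizer (U i : Set G))) (s : Finset ι) :
    Ctrl N Q (⨅ i ∈ s, Subgroup.normalizer (U i : Set G)) := by
  induction s using Finset.induction_on with
  | empty =>
    intro A _ n hnN _
    exact ⟨n, ⟨hnN, by simp⟩, 1, one_mem _, by simp⟩
  | @insert i s hi ih =>
    intro A hA n hnN hnA
    obtain ⟨h, hh, c, hc, rfl⟩ := ih A hA n hnN hnA
    obtain ⟨hhN, hhU⟩ := Subgroup.mem_inf.mp hh
    simp only [Subgroup.mem_iInf] at hhU
    set A' := A ⊔ ⨆ j ∈ s, U j with hA'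
    have hle : A' ≤ Q := sup_le hA (iSup₂_le fun j _ => hU j)
    have hmap : ∀ a ∈ A', h * a * h⁻¹ ∈ Q := by
      have : A' ≤ Q.comap (MulAut.conj h).toMonoidHom := by
        refine sup_le (fun a ha => ?_) (iSup₂_le fun j hj a ha => ?_)
        · show h * a * h⁻¹ ∈ Q
          have := hnA a ha
          rw [← conj_fix (Subgroup.mem_inf.mp hc).2 ha]
          simpa [mul_assoc] using this
        · exact hU j ((Subgroup.mem_normalizer_iff.mp (hhU j hj) a).mp ha)
      exact fun a ha => this ha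
    obtain ⟨h2, hh2, c2, hc2, rfl⟩ := hn i A' hle h hhN hmap
    obtain ⟨hh2N, hh2U⟩ := Subgroup.mem_inf.mp hh2
    obtain ⟨hc2N, hc2C⟩ := Subgroup.mem_inf.mp hc2
    refine ⟨h2, ⟨hh2N, ?_⟩, c2 * c, ⟨mul_mem hc2N (Subgroup.mem_inf.mp hc).1, ?_⟩, mul_assoc _ _ _⟩
    · show h2 ∈ ⨅ i_1 ∈ insert i s, Subgroup.normalizer (U i_1 : Set G)
      rw [Subgroup.mem_iInf]
      intro j
      rw [Subgroup.mem_iInf]
      intro hj
      rcases Finset.mem_insert.mp hj with rfl | hj
      · exact hh2U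
      · refine mem_normalizer_of_le fun u hu => ?_
        have h1 := (Subgroup.mem_normalizer_iff.mp (hhU j hj) u).mp hu
        have h2' := conj_fix hc2C (Subgroup.mem_sup_right
          (Subgroup.mem_iSup_of_mem j (Subgroup.mem_iSup_of_mem hj hu)) : u ∈ A')
        rw [← h2']
        simpa [mul_assoc] using h1
    · exact mul_mem (Subgroup.centralizer_le (le_sup_left : A ≤ A') hc2C) (Subgroup.mem_inf.mp hc).2

/-- Normal subgroups intersect a Sylow subgroup in a Sylow subgroup. -/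
theorem not_dvd_relIndex_inf [Finite G] {p : ℕ} [Fact p.Prime] {S J M : Subgroup G} (hJM : J ≤ M)
    (hMJ : M ≤ Subgroup.normalizer (J : Set G)) (hSM : S ≤ M) (hS : IsPGroup p S)
    (hidx : ¬ p ∣ S.relIndex M) : ¬ p ∣ S.relIndex J := by
  let S' : Sylow p M := (hS.comap_subtype : IsPGroup p (S.subgroupOf M)).toSylow hidx
  have hn : (J.subgroupOf M).Normal := Subgroup.normal_subgroupOf_of_le_normalizer hMJ
  intro hd
  refine hidx ?_
  have h1 : (S.subgroupOf M).relIndex (J.subgroupOf M) = S.relIndex J := Subgroup.relIndex_subgroupOf hJM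
  rw [← h1] at hd
  have h2 : (S.subgroupOf M).relIndex (J.subgroupOf M) ∣ (S.subgroupOf M).index := by
    set a := S.subgroupOf M
    set b := J.subgroupOf M
    have e1 := Subgroup.relIndex_mul_index (inf_le_right : a ⊓ b ≤ b)
    have e2 := Subgroup.relIndex_mul_index (inf_le_left : a ⊓ b ≤ a)
    have e3 := Subgroup.relIndex_mul_index (le_sup_right : b ≤ a ⊔ b)
    rw [Subgroup.inf_relIndex_right] at e1
    rw [inf_comm, Subgroup.inf_relIndex_right, inf_comm] at e2
    rw [Subgroup.relIndex_sup_right] at e3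
    rw [← e3, ← e2, mul_left_comm] at e1
    exact Dvd.intro _ (Nat.eq_of_mul_eq_mul_left (Nat.pos_of_dvd_of_pos (Subgroup.relIndex_dvd_card _ _) Nat.card_pos) e1)
  exact hd.trans h2

theorem mem_centralizer_pow_of_series [Finite G] {p : ℕ} {A R : Subgroup G} (hR : IsPGroup p R)
    {e : G} (hA : ∀ a ∈ A, a⁻¹ * (e * a * e⁻¹) ∈ R) (heR : e ∈ Subgroup.centralizer (R : Set G)) :
    e ^ Nat.card R ∈ Subgroup.centralizer (A : Set G) := by
  refine comm_centralizer fun a ha => ?_
  set r := a⁻¹ * (e * a * e⁻¹) with hr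
  have hn : ∀ n : ℕ, e ^ n * a * (e ^ n)⁻¹ = a * r ^ n := by
    intro n
    induction n with
    | zero => simp
    | succ n ih =>
      calc e ^ (n + 1) * a * (e ^ (n + 1))⁻¹ = e * (e ^ n * a * (e ^ n)⁻¹) * e⁻¹ := by
            rw [pow_succ']; group
        _ = (e * a * e⁻¹) * (e * r ^ n * e⁻¹) := by rw [ih]; group
        _ = a * r * r ^ n := by rw [conj_fix heR (pow_mem (hA a ha) n), hr]; group
        _ = _ := by rw [pow_succ', mul_assoc]
  rw [hn]
  have : r ^ Nat.card R = 1 := by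
    have := pow_card_eq_one' (x := (⟨r, hA a ha⟩ : R))
    exact congrArg Subtype.val this
  rw [this, mul_one]

theorem main [Finite G] {p : ℕ} [Fact p.Prime] (N : Subgroup G) [hNn : N.Normal] (P : Sylow p G)
    (W : Subgroup G) (hWQ : W ≤ (P : Subgroup G) ⊓ N)
    (hQW : Subgroup.normalizer (((P : Subgroup G) ⊓ N : Subgroup G) : Set G) ≤ Subgroup.normalizer (W : Set G))
    (hctrl : Ctrl N ((P : Subgroup G) ⊓ N) (Subgroup.normalizer (W : Set G))) :
    ∀ k : ℕ, ∀ A : Subgroup G, A ≤ (P : Subgroup G) → Nat.card (P : Subgroup G) ≤ Nat.card A + k →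
      ∀ g : G, (∀ a ∈ A, g * a * g⁻¹ ∈ (P : Subgroup G)) →
        ∃ h ∈ Subgroup.normalizer (W : Set G), ∃ c ∈ Subgroup.centralizer (A : Set G), g = h * c := by
  classical
  have hp : p.Prime := Fact.out
  set Q := (P : Subgroup G) ⊓ N with hQdef
  have hPQ : (P : Subgroup G) ≤ Subgroup.normalizer (Q : Set G) := fun x hx =>
    mem_normalizer_of_le fun q hq => Subgroup.mem_inf.mpr
      ⟨mul_mem (mul_mem hx (Subgroup.mem_inf.mp hq).1) (inv_mem hx),
        hNn.conj_mem q (Subgroup.mem_inf.mp hq).2 x⟩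
  -- W is weakly closed
  have hweak : ∀ g : G, (∀ w ∈ W, g * w * g⁻¹ ∈ (P : Subgroup G)) → g ∈ Subgroup.normalizer (W : Set G) := by
    intro g hg
    have hsup : Subgroup.normalizer (Q : Set G) ⊔ N = ⊤ := by
      have hQS : ¬ p ∣ (P : Subgroup G).relIndex N :=
        not_dvd_relIndex_inf le_top (by rw [Subgroup.normalizer_eq_top]) le_top P.2
          (by rw [Subgroup.relIndex_top_right]; exact P.not_dvd_index)
      let Q' : Sylow p N := (P.2.comap_subtype : IsPGroup p ((P : Subgroup G).subgroupOf N)).toSylow hQS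
      have := Sylow.normalizer_sup_eq_top (N := N) Q'
      have e : (Q' : Subgroup N).map N.subtype = Q := by
        show ((P : Subgroup G).subgroupOf N).map N.subtype = Q
        rw [Subgroup.subgroupOf_map_subtype]
      rwa [e] at this
    obtain ⟨n, hn, m, hm, rfl⟩ : ∃ n ∈ N, ∃ m ∈ Subgroup.normalizer (Q : Set G), n * m = g := by
      have hg' : g ∈ N ⊔ Subgroup.normalizer (Q : Set G) := by rw [sup_comm, hsup]; exact Subgroup.mem_top g
      exact Subgroup.mem_sup_of_normal_left.mp hg'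
    have hmW := hQW hm
    have hnW : ∀ w ∈ W, n * w * n⁻¹ ∈ Q := by
      intro w hw
      have hw' := (Subgroup.mem_normalizer_iff.mp (inv_mem hmW) w).mp hw
      have h1 := hg _ hw'
      refine Subgroup.mem_inf.mpr ⟨by simpa [mul_assoc] using h1, hNn.conj_mem w (Subgroup.mem_inf.mp (hWQ hw)).2 n⟩
    obtain ⟨h, hh, c, hc, rfl⟩ := hctrl W hWQ n hn hnW
    refine mul_mem (mul_mem (Subgroup.mem_inf.mp hh).2 ?_) hmW
    exact mem_normalizer_of_le fun w hw => by rw [conj_fix (Subgroup.mem_inf.mp hc).2 hw]; exact hw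
  intro k
  induction k using Nat.strong_induction_on with
  | _ k ih =>
  intro A hA hk
  -- fully normalised subgroups
  have tame : ∀ B : Subgroup G, B ≤ (P : Subgroup G) → Nat.card B = Nat.card A →
      ¬ p ∣ ((P : Subgroup G) ⊓ Subgroup.normalizer (B : Set G)).relIndex (Subgroup.normalizer (B : Set G)) →
      ∀ x ∈ Subgroup.normalizer (B : Set G),
        ∃ h ∈ Subgroup.normalizer (W : Set G), ∃ c ∈ Subgroup.centralizer (B : Set G), x = h * c := by
    intro B hB hcard htame x hx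
    by_cases hWB : W ≤ B
    · exact ⟨x, hweak x fun w hw => hB ((Subgroup.mem_normalizer_iff.mp hx w).mp (hWB hw)),
        1, one_mem _, by simp⟩
    set M := Subgroup.normalizer (B : Set G) with hM
    set R := B ⊓ N with hR
    have hMR : M ≤ Subgroup.normalizer (R : Set G) := fun y hy => mem_normalizer_of_le fun r hr =>
      Subgroup.mem_inf.mpr ⟨(Subgroup.mem_normalizer_iff.mp hy r).mp (Subgroup.mem_inf.mp hr).1,
        hNn.conj_mem r (Subgroup.mem_inf.mp hr).2 y⟩
    have hRQ : R ≤ Q := inf_le_inf_right N hB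
    -- the subgroup S0 of elements of W·C(R) in N_N(B)
    set L := N ⊓ M with hL
    set CR := N ⊓ Subgroup.centralizer (R : Set G) with hCR
    set WR := W ⊓ Subgroup.normalizer (R : Set G) with hWR
    set NR := N ⊓ Subgroup.normalizer (R : Set G) with hNR
    have hLNR : L ≤ NR := inf_le_inf_left N hMR
    have hCRnorm : NR ≤ Subgroup.normalizer (CR : Set G) := fun y hy => mem_normalizer_of_le fun c hc => by
      refine Subgroup.mem_inf.mpr ⟨hNn.conj_mem c (Subgroup.mem_inf.mp hc).1 y, comm_centralizer fun r hr => ?_⟩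
      have hr' := (Subgroup.mem_normalizer_iff.mp (inv_mem (Subgroup.mem_inf.mp hy).2) r).mp hr
      calc y * c * y⁻¹ * r * (y * c * y⁻¹)⁻¹ = y * (c * (y⁻¹ * r * y⁻¹⁻¹) * c⁻¹) * y⁻¹ := by group
        _ = r := by rw [conj_fix (Subgroup.mem_inf.mp hc).2 hr']; group
    have hWN : W ≤ N := hWQ.trans inf_le_right
    have hWRNR : WR ≤ NR := inf_le_inf_right _ hWN
    set S0 := (WR ⊔ CR) ⊓ L with hS0
    have hWRnorm : L ≤ Subgroup.normalizer ((WR ⊔ CR : Subgroup G) : Set G) := by
      intro l hl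
      obtain ⟨hlN, hlR⟩ := Subgroup.mem_inf.mp (hLNR hl)
      obtain ⟨h, hh, c, hc, rfl⟩ := hctrl R hRQ l hlN
        fun r hr => hRQ ((Subgroup.mem_normalizer_iff.mp hlR r).mp hr)
      obtain ⟨hhN, hhW⟩ := Subgroup.mem_inf.mp hh
      obtain ⟨hcN, hcC⟩ := Subgroup.mem_inf.mp hc
      have hcR : c ∈ Subgroup.normalizer (R : Set G) :=
        mem_normalizer_of_le fun r hr => by rw [conj_fix hcC hr]; exact hr
      have hhR : h ∈ Subgroup.normalizer (R : Set G) := by
        have := mul_mem hlR (inv_mem hcR)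
        rwa [mul_inv_cancel_right] at this
      refine mul_mem ?_ (Subgroup.le_normalizer (Subgroup.mem_sup_right (Subgroup.mem_inf.mpr ⟨hcN, hcC⟩)))
      refine mem_normalizer_of_le fun s hs => ?_
      have : (WR ⊔ CR) ≤ (WR ⊔ CR).comap (MulAut.conj h).toMonoidHom := by
        refine sup_le (fun w hw => ?_) (fun d hd => ?_)
        · exact Subgroup.mem_sup_left (Subgroup.mem_inf.mpr
            ⟨(Subgroup.mem_normalizer_iff.mp hhW w).mp (Subgroup.mem_inf.mp hw).1,
              mul_mem (mul_mem hhR (Subgroup.mem_inf.mp hw).2) (inv_mem hhR)⟩)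
        · exact Subgroup.mem_sup_right ((Subgroup.mem_normalizer_iff.mp
            (hCRnorm (Subgroup.mem_inf.mpr ⟨hhN, hhR⟩)) d).mp hd)
      exact this hs
    have hS0n : L ≤ Subgroup.normalizer (S0 : Set G) := fun l hl => mem_normalizer_of_le fun s hs =>
      Subgroup.mem_inf.mpr ⟨(Subgroup.mem_normalizer_iff.mp (hWRnorm hl) s).mp (Subgroup.mem_inf.mp hs).1,
        mul_mem (mul_mem hl (Subgroup.mem_inf.mp hs).2) (inv_mem hl)⟩
    have hS0p : ∀ s ∈ S0, ∃ i : ℕ, s ^ p ^ i ∈ Subgroup.centralizer (B : Set G) := by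
      intro s hs
      obtain ⟨hs1, hs2⟩ := Subgroup.mem_inf.mp hs
      -- write s as a product
      have hsub : ∃ i : ℕ, s ^ p ^ i ∈ CR := by
        have hn : (CR.subgroupOf NR).Normal := Subgroup.normal_subgroupOf_of_le_normalizer hCRnorm
        let π := QuotientGroup.mk' (CR.subgroupOf NR)
        have hWp : IsPGroup p ((WR.subgroupOf NR).map π) := by
          refine IsPGroup.map ?_ π
          exact ((P.2.to_le (inf_le_left.trans (hWQ.trans inf_le_left)) : IsPGroup p WR)).comap_subtype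
        have hmem : π ⟨s, hLNR hs2⟩ ∈ (WR.subgroupOf NR).map π := by
          have h1 : (⟨s, hLNR hs2⟩ : NR) ∈ WR.subgroupOf NR ⊔ CR.subgroupOf NR := by
            rw [← Subgroup.subgroupOf_sup hWRNR (inf_le_inf_left N (fun c hc =>
              mem_normalizer_of_le fun r hr => by rw [conj_fix hc hr]; exact hr))]
            exact hs1
          have h2 := Subgroup.mem_map_of_mem π h1
          have hb : (CR.subgroupOf NR).map π = ⊥ :=
            (Subgroup.map_eq_bot_iff _).mpr (le_of_eq (QuotientGroup.ker_mk' _).symm)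
          rw [Subgroup.map_sup, hb, sup_bot_eq] at h2
          exact h2
        obtain ⟨i, hi⟩ := hWp ⟨_, hmem⟩
        refine ⟨i, ?_⟩
        have h3 : π (⟨s, hLNR hs2⟩ ^ p ^ i) = 1 := by
          rw [map_pow]; exact congrArg Subtype.val hi
        have h4 : (⟨s, hLNR hs2⟩ ^ p ^ i : NR) ∈ π.ker := h3
        rw [QuotientGroup.ker_mk'] at h4
        exact h4
      obtain ⟨i, hi⟩ := hsub
      obtain ⟨j, hj⟩ := ((P.2.to_le (hRQ.trans inf_le_left)) : IsPGroup p R).exists_card_eq
      refine ⟨i + j, ?_⟩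
      rw [pow_add, pow_mul, ← hj]
      refine mem_centralizer_pow_of_series (P.2.to_le (hRQ.trans inf_le_left)) (fun a ha => ?_)
        (Subgroup.mem_inf.mp hi).2
      refine Subgroup.mem_inf.mpr ⟨mul_mem (inv_mem ha)
        ((Subgroup.mem_normalizer_iff.mp (pow_mem (Subgroup.mem_inf.mp hs2).2 _) a).mp ha), ?_⟩
      have h1 := hNn.conj_mem _ (Subgroup.mem_inf.mp hi).1 a⁻¹
      have h2 := mul_mem h1 (inv_mem (Subgroup.mem_inf.mp hi).1)
      simpa [mul_assoc] using h2
    -- push into O_p of the automizer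
    have hCn : ((Subgroup.centralizer (B : Set G)).subgroupOf M).Normal :=
      Subgroup.normal_subgroupOf_of_le_normalizer fun y hy => mem_normalizer_of_le fun c hc =>
        comm_centralizer fun b hb => by
          have hb' := (Subgroup.mem_normalizer_iff.mp (inv_mem hy) b).mp hb
          calc y * c * y⁻¹ * b * (y * c * y⁻¹)⁻¹ = y * (c * (y⁻¹ * b * y⁻¹⁻¹) * c⁻¹) * y⁻¹ := by group
            _ = b := by rw [conj_fix hc hb']; group
    let π := QuotientGroup.mk' ((Subgroup.centralizer (B : Set G)).subgroupOf M)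
    set Lb := (L.subgroupOf M).map π with hLb
    set S0b := (S0.subgroupOf M).map π with hS0b
    have hLbn : Lb.Normal := Subgroup.Normal.map (Subgroup.normal_subgroupOf_of_le_normalizer
      (fun y hy => mem_normalizer_of_le fun l hl => Subgroup.mem_inf.mpr
        ⟨hNn.conj_mem l (Subgroup.mem_inf.mp hl).1 y,
          mul_mem (mul_mem hy (Subgroup.mem_inf.mp hl).2) (inv_mem hy)⟩)) π (QuotientGroup.mk'_surjective _)
    have hS0L : S0b ≤ Lb := Subgroup.map_mono fun s hs => (Subgroup.mem_inf.mp (show (s : G) ∈ S0 from hs)).2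
    have hS0pg : IsPGroup p S0b := by
      rintro ⟨_, s, hs, rfl⟩
      obtain ⟨i, hi⟩ := hS0p s hs
      refine ⟨i, Subtype.ext ?_⟩
      show π s ^ p ^ i = 1
      rw [← map_pow]
      exact (QuotientGroup.eq_one_iff _).mpr hi
    have hS0bn : (S0b.subgroupOf Lb).Normal := by
      refine Subgroup.normal_subgroupOf_of_le_normalizer ?_
      rintro _ ⟨l, hl, rfl⟩
      refine mem_normalizer_of_le ?_
      rintro _ ⟨s, hs, rfl⟩
      exact ⟨l * s * l⁻¹, (Subgroup.mem_normalizer_iff.mp (hS0n hl) s).mp hs, by simp⟩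
    have hS0core : S0b ≤ Cfsg.pCore p (M ⧸ (Subgroup.centralizer (B : Set G)).subgroupOf M) := by
      have h1 : S0b.subgroupOf Lb ≤ Cfsg.pCore p Lb := CfsgLib.le_pCore hS0pg.comap_subtype
      have h2 : ((Cfsg.pCore p Lb).map Lb.subtype).Normal := inferInstance
      have h3 : IsPGroup p ((Cfsg.pCore p Lb).map Lb.subtype) := (CfsgLib.isPGroup_pCore p).map _
      intro y hy
      exact CfsgLib.le_pCore h3 ⟨⟨y, hS0L hy⟩, h1 hy, rfl⟩
    set J := ((Cfsg.pCore p (M ⧸ (Subgroup.centralizer (B : Set G)).subgroupOf M)).comap π).map M.subtype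
      with hJ
    have hJM : J ≤ M := Subgroup.map_subtype_le _
    have hMJ : M ≤ Subgroup.normalizer (J : Set G) := by
      intro y hy
      refine mem_normalizer_of_le ?_
      rintro _ ⟨j, hj, rfl⟩
      exact ⟨⟨y, hy⟩ * j * ⟨y, hy⟩⁻¹,
        (inferInstance : ((Cfsg.pCore p _).comap π).Normal).conj_mem j hj _, rfl⟩
    set SM := (P : Subgroup G) ⊓ M with hSM
    have hJidx := not_dvd_relIndex_inf hJM hMJ inf_le_right (P.2.to_le inf_le_left) htame
    set T1 := SM ⊓ J with hT1
    have hBM : B ≤ M := Subgroup.le_normalizer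
    have hBJ : B ≤ J := by
      intro b hb
      refine ⟨⟨b, hBM hb⟩, ?_, rfl⟩
      have hBn : (B.subgroupOf M).Normal := Subgroup.normal_subgroupOf_of_le_normalizer le_rfl
      have hn : ((B.subgroupOf M).map π).Normal :=
        Subgroup.Normal.map hBn π (QuotientGroup.mk'_surjective _)
      exact CfsgLib.le_pCore (hN := hn) ((P.2.to_le hB).comap_subtype.map π) ⟨⟨b, hBM hb⟩, hb, rfl⟩
    have hlt : B < T1 := by
      refine lt_of_le_of_ne (le_inf (le_inf hB hBM) hBJ) fun e => hWB ?_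
      -- W ⊓ M lies in B, so W lies in B
      have hWM : W ⊓ M ≤ B := by
        intro w hw
        obtain ⟨hwW, hwM⟩ := Subgroup.mem_inf.mp hw
        rw [e]
        refine Subgroup.mem_inf.mpr ⟨Subgroup.mem_inf.mpr ⟨(Subgroup.mem_inf.mp (hWQ hwW)).1, hwM⟩,
          ⟨w, hwM⟩, ?_, rfl⟩
        refine hS0core ⟨⟨w, hwM⟩, ?_, rfl⟩
        exact Subgroup.mem_inf.mpr ⟨Subgroup.mem_sup_left (Subgroup.mem_inf.mpr ⟨hwW, hMR hwM⟩),
          Subgroup.mem_inf.mpr ⟨hWN hwW, hwM⟩⟩
      by_contra hne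
      have hBW : B ≤ Subgroup.normalizer (W : Set G) := hB.trans (hPQ.trans hQW)
      have hXP : B ⊔ W ≤ (P : Subgroup G) := sup_le hB (hWQ.trans inf_le_left)
      have hX := (P.2.to_le hXP).isNilpotent
      have hBlt : B.subgroupOf (B ⊔ W) < ⊤ := by
        refine lt_top_iff_ne_top.mpr fun h => hne ?_
        rw [Subgroup.subgroupOf_eq_top] at h
        exact le_trans le_sup_right h
      have hnc := Group.normalizerCondition_of_isNilpotent (G := (B ⊔ W : Subgroup G)) _ hBlt
      obtain ⟨y, hy, hyB⟩ := SetLike.exists_of_lt hnc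
      refine hyB ?_
      show (y : G) ∈ B
      have hyM : (y : G) ∈ M := mem_normalizer_of_le fun b hb =>
        (Subgroup.mem_normalizer_iff.mp hy ⟨b, Subgroup.mem_sup_left hb⟩).mp hb
      obtain ⟨b, hb, w, hw, he⟩ : ∃ b ∈ B, ∃ w ∈ W, b * w = (y : G) := by
        have := Subgroup.coe_mul_of_left_le_normalizer_right B W hBW
        have hy2 : (y : G) ∈ (B : Set G) * (W : Set G) := by rw [← this]; exact y.2
        exact Set.mem_mul.mp hy2
      rw [← he]
      refine mul_mem hb (hWM (Subgroup.mem_inf.mpr ⟨hw, ?_⟩))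
      have := mul_mem (inv_mem (hBM hb)) hyM
      rwa [← he, inv_mul_cancel_left] at this
    -- Frattini
    let JM := J.subgroupOf M
    have hJMn : JM.Normal := Subgroup.normal_subgroupOf_of_le_normalizer hMJ
    let T1s : Sylow p JM := ((P.2.to_le (inf_le_left : SM ≤ P)).comap_subtype.comap_subtype :
      IsPGroup p ((SM.subgroupOf M).subgroupOf JM)).toSylow (by
        show ¬ p ∣ (SM.subgroupOf M).relIndex JM
        rw [Subgroup.relIndex_subgroupOf hJM]
        exact hJidx)
    have hfr := Sylow.normalizer_sup_eq_top (N := JM) T1s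
    have eT : (T1s : Subgroup JM).map JM.subtype = T1.subgroupOf M := by
      show ((SM.subgroupOf M).subgroupOf JM).map JM.subtype = _
      rw [Subgroup.subgroupOf_map_subtype]
      ext y
      simp [T1, JM, Subgroup.mem_subgroupOf]
    rw [eT] at hfr
    -- J is C(B) times T1
    have hJC : JM ≤ (Subgroup.centralizer (B : Set G)).subgroupOf M ⊔ T1.subgroupOf M := by
      intro j hj
      have hcomap : JM = (Cfsg.pCore p _).comap π := by
        ext y
        simp only [JM, J, Subgroup.mem_subgroupOf, Subgroup.mem_map]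
        exact ⟨fun ⟨z, hz, hze⟩ => by rwa [← (Subtype.ext hze : z = y)], fun hz => ⟨y, hz, rfl⟩⟩
      have hker : π.ker ≤ JM := by rw [hcomap]; exact MonoidHom.ker_le_comap π _
      rw [QuotientGroup.ker_mk'] at hker
      set C0 := (Subgroup.centralizer (B : Set G)).subgroupOf M
      have hle : C0 ⊔ T1.subgroupOf M ≤ JM := sup_le hker fun y hy => (Subgroup.mem_inf.mp (show (y : G) ∈ T1 from hy)).2
      have hcop : ∃ i, (C0 ⊔ T1.subgroupOf M).relIndex JM = p ^ i := by
        have hpg : IsPGroup p (JM.map π) := by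
          rw [hcomap]
          exact (CfsgLib.isPGroup_pCore p).to_le (Subgroup.map_comap_le _ _)
        have h1 : ((C0 ⊔ T1.subgroupOf M).map π).relIndex (JM.map π) = (C0 ⊔ T1.subgroupOf M).relIndex JM := by
          rw [← Subgroup.relIndex_comap, Subgroup.comap_map_eq_self (by rw [QuotientGroup.ker_mk']; exact le_sup_left)]
        obtain ⟨i, hi⟩ := hpg.exists_card_eq
        obtain ⟨l, -, hl⟩ := (Nat.dvd_prime_pow hp).mp (hi ▸ Subgroup.relIndex_dvd_card ((C0 ⊔ T1.subgroupOf M).map π) (JM.map π))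
        exact ⟨l, h1 ▸ hl⟩
      obtain ⟨i, hi⟩ := hcop
      have hnd : ¬ p ∣ (T1.subgroupOf M).relIndex JM := by
        rw [Subgroup.relIndex_subgroupOf hJM, hT1, Subgroup.inf_relIndex_right]
        exact hJidx
      have : (C0 ⊔ T1.subgroupOf M).relIndex JM = 1 := by
        rcases Nat.eq_zero_or_pos i with h0 | h0
        · rw [hi, h0, pow_zero]
        · exact absurd ((dvd_pow_self p h0.ne').trans (hi ▸ Subgroup.relIndex_dvd_of_le_left JM le_sup_right)) hnd
      exact Subgroup.relIndex_eq_one.mp this hj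
    have hx' : (⟨x, hx⟩ : M) ∈ Subgroup.normalizer ((T1.subgroupOf M : Subgroup M) : Set M) ⊔
        (Subgroup.centralizer (B : Set G)).subgroupOf M := by
      have htop : Subgroup.normalizer ((T1.subgroupOf M : Subgroup M) : Set M) ⊔
          (Subgroup.centralizer (B : Set G)).subgroupOf M = ⊤ := by
        refine top_le_iff.mp (hfr ▸ sup_le le_sup_left (hJC.trans (sup_le le_sup_right ?_)))
        exact Subgroup.le_normalizer.trans le_sup_left
      rw [htop]
      exact Subgroup.mem_top _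
    obtain ⟨y, hy, c, hc, hxe⟩ := Subgroup.mem_sup_of_normal_right.mp hx'
    have hT1P : T1 ≤ (P : Subgroup G) := inf_le_left.trans inf_le_left
    have hcard' : Nat.card A < Nat.card T1 := by
      rw [← hcard]
      rcases lt_or_eq_of_le (Subgroup.card_le_of_le hlt.le) with h | h
      · exact h
      · exact absurd (Subgroup.eq_of_le_of_card_ge hlt.le h.ge) hlt.ne
    have hTP := Subgroup.card_le_of_le hT1P
    obtain ⟨h1, hh1, c1, hc1, hy1⟩ := ih (k - 1) (by omega) T1 hT1P (by omega) (y : G) (fun t ht => hT1P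
      ((Subgroup.mem_normalizer_iff.mp hy ⟨t, (inf_le_left.trans inf_le_right : T1 ≤ M) ht⟩).mp ht))
    refine ⟨h1, hh1, c1 * (c : G), mul_mem (Subgroup.centralizer_le hlt.le hc1) hc, ?_⟩
    rw [← mul_assoc, ← hy1]
    exact (congrArg Subtype.val hxe).symm
  -- maps onto fully normalised subgroups
  have toTame : ∀ B B0 : Subgroup G, B ≤ (P : Subgroup G) → B0 ≤ (P : Subgroup G) →
      Nat.card B = Nat.card A →
      ¬ p ∣ ((P : Subgroup G) ⊓ Subgroup.normalizer (B0 : Set G)).relIndex (Subgroup.normalizer (B0 : Set G)) →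
      ∀ g : G, B.map (MulAut.conj g).toMonoidHom = B0 →
        ∃ h ∈ Subgroup.normalizer (W : Set G), ∃ c ∈ Subgroup.centralizer (B : Set G), g = h * c := by
    intro B B0 hB hB0 hcard htame g hg
    by_cases hBP : B = (P : Subgroup G)
    · refine ⟨g, hweak g fun w hw => hB0 (hg ▸ ⟨w, ?_, rfl⟩), 1, one_mem _, by simp⟩
      rw [hBP]
      exact (Subgroup.mem_inf.mp (hWQ hw)).1
    set NB := (P : Subgroup G) ⊓ Subgroup.normalizer (B : Set G) with hNB
    have hBNB : B < NB := by
      refine lt_of_le_of_ne (le_inf hB Subgroup.le_normalizer) fun e => hBP ?_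
      have hPn := P.2.isNilpotent
      by_contra hne
      have hlt : B.subgroupOf (P : Subgroup G) < ⊤ := lt_top_iff_ne_top.mpr fun h =>
        hne (le_antisymm hB (Subgroup.subgroupOf_eq_top.mp h))
      obtain ⟨y, hy, hyB⟩ := SetLike.exists_of_lt (Group.normalizerCondition_of_isNilpotent (G := (P : Subgroup G)) _ hlt)
      refine hyB (show (y : G) ∈ B from e.symm ▸ Subgroup.mem_inf.mpr ⟨y.2, ?_⟩)
      exact mem_normalizer_of_le fun b hb => (Subgroup.mem_normalizer_iff.mp hy ⟨b, hB hb⟩).mp hb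
    set X := NB.map (MulAut.conj g).toMonoidHom with hX
    set M0 := Subgroup.normalizer (B0 : Set G) with hM0
    have hXM : X ≤ M0 := by
      rintro _ ⟨y, hy, rfl⟩
      refine mem_normalizer_of_le fun b0 hb0 => ?_
      rw [← hg] at hb0 ⊢
      obtain ⟨b, hb, rfl⟩ := hb0
      refine ⟨y * b * y⁻¹, (Subgroup.mem_normalizer_iff.mp (Subgroup.mem_inf.mp hy).2 b).mp hb, ?_⟩
      simp [mul_assoc]
    let S0 : Sylow p M0 := ((P.2.to_le (inf_le_left : (P : Subgroup G) ⊓ M0 ≤ P)).comap_subtype :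
      IsPGroup p (((P : Subgroup G) ⊓ M0).subgroupOf M0)).toSylow htame
    have hXp : IsPGroup p (X.subgroupOf M0) :=
      ((P.2.to_le (inf_le_left : NB ≤ P)).map _).comap_subtype
    obtain ⟨S1, hS1⟩ := hXp.exists_le_sylow
    obtain ⟨y, hy⟩ := MulAction.exists_smul_eq M0 S1 S0
    have hyX : ∀ z ∈ X, (y : G) * z * (y : G)⁻¹ ∈ (P : Subgroup G) := by
      intro z hz
      have h1 : y * ⟨z, hXM hz⟩ * y⁻¹ ∈ (S0 : Subgroup M0) := by
        rw [← hy]
        exact ⟨⟨z, hXM hz⟩, hS1 hz, rfl⟩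
      exact (Subgroup.mem_inf.mp h1).1
    have hlt' : Nat.card A < Nat.card NB := by
      rw [← hcard]
      rcases lt_or_eq_of_le (Subgroup.card_le_of_le hBNB.le) with h | h
      · exact h
      · exact absurd (Subgroup.eq_of_le_of_card_ge hBNB.le h.ge) hBNB.ne
    have hNP : Nat.card NB ≤ Nat.card (P : Subgroup G) := Subgroup.card_le_of_le inf_le_left
    obtain ⟨h1, hh1, c1, hc1, he1⟩ := ih (k - 1) (by omega) NB inf_le_left (by omega) ((y : G) * g)
      (fun a ha => by simpa [mul_assoc] using hyX (g * a * g⁻¹) ⟨a, ha, rfl⟩)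
    obtain ⟨h2, hh2, c2, hc2, he2⟩ := tame B0 hB0 (by
      rw [← hg, Subgroup.card_map_of_injective (f := (MulAut.conj g).toMonoidHom) (MulAut.conj g).injective, hcard])
      htame (y : G)⁻¹ (inv_mem y.2)
    refine ⟨h2 * h1, mul_mem hh2 hh1, h1⁻¹ * c2 * h1 * c1, mul_mem ?_
      (Subgroup.centralizer_le hBNB.le hc1), ?_⟩
    · refine comm_centralizer fun b hb => ?_
      have hb0 : h1 * b * h1⁻¹ ∈ B0 := by
        have e : h1 * b * h1⁻¹ = (y : G) * (g * b * g⁻¹) * (y : G)⁻¹ := by
          calc h1 * b * h1⁻¹ = h1 * (c1 * b * c1⁻¹) * h1⁻¹ := by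
                rw [conj_fix hc1 (hBNB.le hb)]
            _ = (h1 * c1) * b * (h1 * c1)⁻¹ := by group
            _ = _ := by rw [← he1]; group
        rw [e]
        exact (Subgroup.mem_normalizer_iff.mp y.2 _).mp (hg ▸ ⟨b, hb, rfl⟩)
      calc h1⁻¹ * c2 * h1 * b * (h1⁻¹ * c2 * h1)⁻¹ = h1⁻¹ * (c2 * (h1 * b * h1⁻¹) * c2⁻¹) * h1 := by group
        _ = b := by rw [conj_fix hc2 hb0]; group
    · calc g = (y : G)⁻¹ * ((y : G) * g) := by group
        _ = h2 * c2 * (h1 * c1) := by rw [he1, he2]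
        _ = _ := by group
  -- a fully normalised conjugate
  intro g hg
  obtain ⟨g0, hg0P, hg0⟩ : ∃ g0 : G, A.map (MulAut.conj g0).toMonoidHom ≤ (P : Subgroup G) ∧
      ¬ p ∣ ((P : Subgroup G) ⊓ Subgroup.normalizer ((A.map (MulAut.conj g0).toMonoidHom : Subgroup G) : Set G)).relIndex
        (Subgroup.normalizer ((A.map (MulAut.conj g0).toMonoidHom : Subgroup G) : Set G)) := by
    set M := Subgroup.normalizer (A : Set G)
    obtain ⟨S, hS⟩ := ((P.2.to_le hA).comap_subtype : IsPGroup p (A.subgroupOf M)).exists_le_sylow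
    obtain ⟨S', hS'⟩ := (S.2.map M.subtype).exists_le_sylow
    obtain ⟨g0, hg0⟩ := MulAction.exists_smul_eq G S' P
    have hS'P : ∀ s ∈ S', g0 * s * g0⁻¹ ∈ (P : Subgroup G) := fun s hs => by
      rw [← hg0]; exact ⟨s, hs, rfl⟩
    refine ⟨g0, map_le_iff.mpr fun a ha => hS'P a (hS' ⟨⟨a, Subgroup.le_normalizer ha⟩, hS ha, rfl⟩), ?_⟩
    set A0 := A.map (MulAut.conj g0).toMonoidHom
    have hM0 : Subgroup.normalizer (A0 : Set G) = M.map (MulAut.conj g0).toMonoidHom :=
      (Subgroup.map_equiv_normalizer_eq A (MulAut.conj g0)).symm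
    rw [hM0]
    intro hd
    refine S.not_dvd_index ?_
    have h1 : ((S : Subgroup M).map M.subtype).map (MulAut.conj g0).toMonoidHom ≤
        (P : Subgroup G) ⊓ M.map (MulAut.conj g0).toMonoidHom := by
      refine le_inf ?_ (Subgroup.map_mono (Subgroup.map_subtype_le _))
      rintro _ ⟨s, hs, rfl⟩
      exact hS'P s (hS' hs)
    have h2 := hd.trans (Subgroup.relIndex_dvd_of_le_left _ h1)
    rw [Subgroup.relIndex_map_map_of_injective _ _ (f := (MulAut.conj g0).toMonoidHom) (MulAut.conj g0).injective] at h2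
    rw [← Subgroup.relIndex_top_right, ← Subgroup.relIndex_map_map_of_injective _ _ M.subtype_injective,
      ← MonoidHom.range_eq_map, Subgroup.range_subtype]
    exact h2
  set A0 := A.map (MulAut.conj g0).toMonoidHom with hA0
  set A' := A.map (MulAut.conj g).toMonoidHom with hA'
  obtain ⟨h1, hh1, c1, hc1, he1⟩ := toTame A A0 hA hg0P rfl hg0 g0 rfl
  obtain ⟨h2, hh2, c2, hc2, he2⟩ := toTame A' A0 (map_le_iff.mpr hg) hg0P
    (Subgroup.card_map_of_injective (f := (MulAut.conj g).toMonoidHom) (MulAut.conj g).injective) hg0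
    (g0 * g⁻¹) (by
      rw [hA', Subgroup.map_map]
      congr 1
      ext a
      simp [mul_assoc])
  refine ⟨h2⁻¹ * h1, mul_mem (inv_mem hh2) hh1, c1 * (g⁻¹ * c2 * g)⁻¹,
    mul_mem hc1 (inv_mem (comm_centralizer fun a ha => ?_)), ?_⟩
  · have := conj_fix hc2 (⟨a, ha, rfl⟩ : g * a * g⁻¹ ∈ A')
    calc g⁻¹ * c2 * g * a * (g⁻¹ * c2 * g)⁻¹ = g⁻¹ * (c2 * (g * a * g⁻¹) * c2⁻¹) * g := by group
      _ = a := by rw [this]; group
  · have e1 : c1 = h1⁻¹ * g0 := by rw [he1]; group
    have e2 : c2 = h2⁻¹ * (g0 * g⁻¹) := by rw [he2]; group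
    rw [e1, e2]
    group
/-- Let N be a normal subgroup of the finite group G, P a Sylow p-subgroup of G, and V a subgroup of P ∩ N normal in P ∩ N such that N_N(V) controls strong fusion in P ∩ N with respect to N (whenever a subgroup A of P ∩ N has n A n⁻¹ ≤ P ∩ N for some n in N, then n = h c with h in N_N(V) and c in C_N(A)). Let W be the subgroup generated by the conjugates of V under N_G(P ∩ N). Then N_G(W) controls strong fusion in P with respect to G. -/
theorem result {G : Type*} [Group G] [Finite G] {p : ℕ} [Fact p.Prime] (N : Subgroup G) [N.Normal] (P : Sylow p G) (V : Subgroup G)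
    (hV : V ≤ (P : Subgroup G) ⊓ N) (hVn : ∀ x ∈ (P : Subgroup G) ⊓ N, V.map (MulAut.conj x).toMonoidHom = V)
    (hctrl : ∀ A : Subgroup G, A ≤ (P : Subgroup G) ⊓ N → ∀ n ∈ N, A.map (MulAut.conj n).toMonoidHom ≤ (P : Subgroup G) ⊓ N →
      ∃ h ∈ N ⊓ Subgroup.normalizer (V : Set G), ∃ c ∈ N ⊓ Subgroup.centralizer (A : Set G), n = h * c)
    (W : Subgroup G) (hW : W = Subgroup.closure (⋃ x ∈ Subgroup.normalizer (((P : Subgroup G) ⊓ N : Subgroup G) : Set G),
      ((V.map (MulAut.conj x).toMonoidHom : Subgroup G) : Set G))) :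
    ∀ A : Subgroup G, A ≤ (P : Subgroup G) → ∀ g : G, A.map (MulAut.conj g).toMonoidHom ≤ (P : Subgroup G) →
        ∃ h ∈ Subgroup.normalizer (W : Set G), ∃ c ∈ Subgroup.centralizer (A : Set G), g = h * c := by
  classical
  set Q := (P : Subgroup G) ⊓ N with hQ
  have hctrlV : Ctrl N Q (Subgroup.normalizer (V : Set G)) :=
    fun A hA n hn hnA => hctrl A hA n hn (map_le_iff.mpr hnA)
  haveI : Fintype ↥(Subgroup.normalizer (Q : Set G)) := Fintype.ofFinite _
  let U : ↥(Subgroup.normalizer (Q : Set G)) → Subgroup G := fun m => V.map (MulAut.conj (m : G)).toMonoidHom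
  have hU : ∀ m, U m ≤ Q := fun m => map_le_iff.mpr fun v hv =>
    (Subgroup.mem_normalizer_iff.mp m.2 v).mp (hV hv)
  have hall := ctrl_family N Q U hU (fun m => ctrl_conj m.2 hctrlV) Finset.univ
  have hUW : ∀ m, U m ≤ W := fun m => by
    rw [hW]
    exact fun v hv => Subgroup.subset_closure (Set.mem_biUnion m.2 hv)
  have hWQ : W ≤ Q := by
    rw [hW, Subgroup.closure_le]
    exact Set.iUnion₂_subset fun m hm => hU ⟨m, hm⟩
  have hQW : Subgroup.normalizer (Q : Set G) ≤ Subgroup.normalizer (W : Set G) := by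
    intro m hm
    refine mem_normalizer_of_le fun w hw => ?_
    have : W ≤ W.comap (MulAut.conj m).toMonoidHom := by
      conv_lhs => rw [hW]
      rw [Subgroup.closure_le]
      refine Set.iUnion₂_subset fun y hy => ?_
      rintro _ ⟨v, hv, rfl⟩
      exact hUW ⟨m * y, mul_mem hm hy⟩ ⟨v, hv, by simp [mul_assoc]⟩
    exact this hw
  have hcW : Ctrl N Q (Subgroup.normalizer (W : Set G)) := by
    intro A hA n hn hnA
    obtain ⟨h, hh, rest⟩ := hall A hA n hn hnA
    refine ⟨h, Subgroup.mem_inf.mpr ⟨(Subgroup.mem_inf.mp hh).1, mem_normalizer_of_le fun w hw => ?_⟩, rest⟩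
    have hhU := (Subgroup.mem_inf.mp hh).2
    simp only [Subgroup.mem_iInf, Finset.mem_univ, forall_true_left] at hhU
    have : W ≤ W.comap (MulAut.conj h).toMonoidHom := by
      conv_lhs => rw [hW]
      rw [Subgroup.closure_le]
      exact Set.iUnion₂_subset fun y hy v hv => hUW ⟨y, hy⟩
        ((Subgroup.mem_normalizer_iff.mp (hhU ⟨y, hy⟩) v).mp hv)
    exact this hw
  intro A hA g hg
  exact main N P W hWQ hQW hcW _ A hA (Nat.le_add_left _ _) g (map_le_iff.mp hg)

end Cfsg.Agent.S1954
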