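import Cfsg.Statements.S1957
import Cfsg.Agent.Lib.CoprimeGen
import Cfsg.Agent.Lib.Basic
import Cfsg.Agent.Lib.Elementary

set_option autoImplicit false
set_option linter.unusedVariables false
open Cfsg
open scoped commutatorElement

namespace Cfsg.Agent.S1957

open Subgroup in
/-- An element whose commutators with `O₂(H)` lie in a central subgroup of exponent two lies in `O₂(H)`. -/
theorem mem_core {H : Type*} [Group H] [Finite H] (hch : Cfsg.IsOfCharacteristicTwo H) (u v : H)
    (hu : u * u = 1) (huc : u ∈ Subgroup.center H)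
    (hv : ∀ q ∈ Cfsg.pCore 2 H, q * v * q⁻¹ * v⁻¹ = 1 ∨ q * v * q⁻¹ * v⁻¹ = u) : v ∈ Cfsg.pCore 2 H := by
  haveI : Fact (Nat.Prime 2) := ⟨Nat.prime_two⟩
  have hun : ∀ k : H, k * u * k⁻¹ = u := fun k => by rw [Subgroup.mem_center_iff.mp huc k, mul_inv_cancel_right]
  have hui : u⁻¹ = u := inv_eq_of_mul_eq_one_right hu
  let W : Subgroup H := {
    carrier := {w | w = 1 ∨ w = u}
    one_mem' := Or.inl rfl
    mul_mem' := by
      rintro a b (rfl | rfl) (rfl | rfl)
      · exact Or.inl (mul_one _)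
      · exact Or.inr (one_mul _)
      · exact Or.inr (mul_one _)
      · exact Or.inl hu
    inv_mem' := by
      rintro a (rfl | rfl)
      · exact Or.inl inv_one
      · exact Or.inr hui }
  have hWc : ∀ (k : H) {w : H}, w ∈ W → k * w * k⁻¹ = w := by
    rintro k w (rfl | rfl)
    · simp
    · exact hun k
  let S : Subgroup H := {
    carrier := {h | ∀ q ∈ Cfsg.pCore 2 H, q * h * q⁻¹ * h⁻¹ ∈ W}
    one_mem' := fun q _ => by simpa using W.one_mem
    mul_mem' := fun {a b} ha hb q hq => by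
      have e : q * (a * b) * q⁻¹ * (a * b)⁻¹ =
          (q * a * q⁻¹ * a⁻¹) * (a * (q * b * q⁻¹ * b⁻¹) * a⁻¹) := by group
      rw [e, hWc a (hb q hq)]
      exact W.mul_mem (ha q hq) (hb q hq)
    inv_mem' := fun {a} ha q hq => by
      have h1 := W.inv_mem (ha q hq)
      have e : q * a⁻¹ * q⁻¹ * (a⁻¹)⁻¹ = a⁻¹ * (q * a * q⁻¹ * a⁻¹)⁻¹ * a⁻¹⁻¹ := by group
      rw [e, hWc a⁻¹ h1]
      exact h1 }
  haveI hSn : S.Normal := ⟨fun a ha g q hq => by
    have h1 := ha (g⁻¹ * q * g) (by
      simpa using (inferInstance : (Cfsg.pCore 2 H).Normal).conj_mem q hq g⁻¹)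
    have e : q * (g * a * g⁻¹) * q⁻¹ * (g * a * g⁻¹)⁻¹ =
        g * (g⁻¹ * q * g * a * (g⁻¹ * q * g)⁻¹ * a⁻¹) * g⁻¹ := by group
    rw [e, hWc g h1]
    exact h1⟩
  have hS : IsPGroup 2 S := by
    intro a
    have h2 : (a : H) * a ∈ Cfsg.pCore 2 H := by
      refine hch fun q hq => ?_
      have h1 := a.2 q hq
      have hw : (q * a * q⁻¹ * (a : H)⁻¹) * (q * a * q⁻¹ * (a : H)⁻¹) = 1 := by
        rcases h1 with h | h <;> rw [h] <;> simp [hu]
      have hca : Commute (a : H) (q * a * q⁻¹ * (a : H)⁻¹) := mul_inv_eq_iff_eq_mul.mp (hWc a h1)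
      set w := q * a * q⁻¹ * (a : H)⁻¹ with hwdef
      have e1 : q * ((a : H) * a) * q⁻¹ = (q * a * q⁻¹) * (q * a * q⁻¹) := by group
      have e2 : q * (a : H) * q⁻¹ = w * a := by rw [hwdef, inv_mul_cancel_right]
      rw [e2, mul_assoc w, ← mul_assoc (a : H), hca.eq, mul_assoc w, ← mul_assoc w, hw, one_mul] at e1
      exact mul_inv_eq_iff_eq_mul.mp e1
    obtain ⟨k, hk⟩ := (CfsgLib.isPGroup_pCore (G := H) 2) ⟨_, h2⟩
    refine ⟨k + 1, Subtype.ext ?_⟩
    have := congrArg Subtype.val hk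
    simp only [SubmonoidClass.coe_pow, OneMemClass.coe_one] at this ⊢
    rw [pow_succ', pow_mul, sq, this]
  exact CfsgLib.le_pCore (hN := hSn) hS (show v ∈ S from hv)

/-- A cyclic group has at most one involution. -/
theorem unique_inv {A : Type*} [Group A] [Finite A] [IsCyclic A] {a b : A} (ha : a * a = 1) (hb : b * b = 1)
    (hb1 : b ≠ 1) : a = 1 ∨ a = b := by
  classical
  haveI := Fintype.ofFinite A
  have h := IsCyclic.card_pow_eq_one_le (α := A) (n := 2) (by norm_num)
  by_contra hne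
  push Not at hne
  have : ({1, a, b} : Finset A) ⊆ Finset.univ.filter (fun x => x ^ 2 = 1) := by
    intro x hx
    simp only [Finset.mem_insert, Finset.mem_singleton] at hx
    rcases hx with rfl | rfl | rfl <;> simp [sq, ha, hb]
  have h3 := Finset.card_le_card this
  rw [Finset.card_eq_three.mpr ⟨1, a, b, hne.1.symm, hb1.symm, hne.2, rfl⟩] at h3
  omega

/-- The inclusion of `O₂` of a subgroup. -/
abbrev Qm {G : Type*} [Group G] (H : Subgroup G) : Subgroup G := (Cfsg.pCore 2 ↥H).map H.subtype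

theorem centre_cyclic {G : Type*} [Group G] [Finite G] (P R : Sylow 2 G)
    (hZ : IsCyclic ↥((P : Subgroup G) ⊓ Subgroup.centralizer ((P : Subgroup G) : Set G)))
    {a b : G} (ha : a ∈ (R : Subgroup G) ⊓ Subgroup.centralizer ((R : Subgroup G) : Set G))
    (hb : b ∈ (R : Subgroup G) ⊓ Subgroup.centralizer ((R : Subgroup G) : Set G))
    (ha2 : a * a = 1) (hb2 : b * b = 1) (hb1 : b ≠ 1) : a = 1 ∨ a = b := by
  let f : Subgroup.center ↥(P : Subgroup G) →*
      ↥((P : Subgroup G) ⊓ Subgroup.centralizer ((P : Subgroup G) : Set G)) :=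
    MonoidHom.mk' (fun x => ⟨x.1.1, x.1.2, fun y hy =>
      congrArg Subtype.val (Subgroup.mem_center_iff.mp x.2 ⟨y, hy⟩)⟩) fun _ _ => rfl
  haveI : IsCyclic (Subgroup.center ↥(P : Subgroup G)) :=
    isCyclic_of_injective f fun x y h => by
      have h2 := congrArg (fun z : ↥((P : Subgroup G) ⊓ Subgroup.centralizer ((P : Subgroup G) : Set G)) => (z : G)) h
      exact Subtype.ext (Subtype.ext h2)
  haveI : IsCyclic (Subgroup.center ↥(R : Subgroup G)) :=
    isCyclic_of_surjective (Subgroup.centerCongr (Sylow.equiv P R)) (MulEquiv.surjective _)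
  have key := unique_inv (A := Subgroup.center ↥(R : Subgroup G))
    (a := ⟨⟨a, ha.1⟩, Subgroup.mem_center_iff.mpr fun g => Subtype.ext (ha.2 g g.2)⟩)
    (b := ⟨⟨b, hb.1⟩, Subgroup.mem_center_iff.mpr fun g => Subtype.ext (hb.2 g g.2)⟩)
    (Subtype.ext (Subtype.ext ha2)) (Subtype.ext (Subtype.ext hb2))
    (fun h => hb1 (congrArg (fun z => z.1.1) h))
  rcases key with h | h
  · exact Or.inl (congrArg (fun z => z.1.1) h)
  · exact Or.inr (congrArg (fun z => z.1.1) h)

/-- Let `G` be a finite non-abelian simple group in which every local subgroup is solvable and which is of characteristic 2 type. Let `P` be a Sylow 2-subgroup of `G` and `U` a normal subgroup of `P` that is a four-group, with `U` central in `P` if the centre of `P` is not cyclic. Then `U` centralizes every subgroup of odd order of `G` that it normalizes. -/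
theorem result {G : Type*} [Group G] [Finite G]
    [IsSimpleGroup G] (hna : ¬ IsMulCommutative G) (hN : Cfsg.IsNGroup G) (h2 : Cfsg.IsCharacteristicTwoType G)
    (P : Sylow 2 G) (U : Subgroup G) (hUP : U ≤ (P : Subgroup G)) (hUn : (P : Subgroup G) ≤ Subgroup.normalizer (U : Set G))
    (hU4 : IsKleinFour ↥U)
    (hUZ : ¬ IsCyclic ↥((P : Subgroup G) ⊓ Subgroup.centralizer ((P : Subgroup G) : Set G)) →
      U ≤ Subgroup.centralizer ((P : Subgroup G) : Set G))
    (K : Subgroup G) (hK : Odd (Nat.card K)) (hUK : U ≤ Subgroup.normalizer (K : Set G)) :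
    U ≤ Subgroup.centralizer (K : Set G) := by
  classical
  haveI : Fact (Nat.Prime 2) := ⟨Nat.prime_two⟩
  haveI := hU4
  have hUsq : ∀ v ∈ U, v * v = 1 := fun v hv => by
    have := IsKleinFour.mul_self (⟨v, hv⟩ : U)
    exact congrArg Subtype.val this
  have hUc : ∀ a ∈ U, ∀ b ∈ U, a * b = b * a := fun a ha b hb =>
    congrArg Subtype.val (mul_comm_of_exponent_two IsKleinFour.exponent_two (⟨a, ha⟩ : U) ⟨b, hb⟩)
  have hUenum : ∀ a ∈ U, ∀ b ∈ U, a ≠ 1 → b ≠ 1 → a ≠ b → ∀ c ∈ U, c = 1 ∨ c = a ∨ c = b ∨ c = a * b := by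
    intro a ha b hb ha1 hb1 hab c hc
    by_contra hne
    push Not at hne
    obtain ⟨h1, h2, h3, h4⟩ := hne
    have hsub : ({1, a, b, a * b, c} : Finset G) ⊆ (Set.toFinite (U : Set G)).toFinset := by
      intro x hx
      simp only [Finset.mem_insert, Finset.mem_singleton] at hx
      rw [Set.Finite.mem_toFinset]
      rcases hx with rfl | rfl | rfl | rfl | rfl
      exacts [U.one_mem, ha, hb, U.mul_mem ha hb, hc]
    have hab1 : a * b ≠ 1 := fun h => hab (by rw [eq_inv_of_mul_eq_one_left h, inv_eq_of_mul_eq_one_right (hUsq b hb)])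
    have hcard : ({1, a, b, a * b, c} : Finset G).card = 5 := by
      rw [Finset.card_insert_of_notMem, Finset.card_insert_of_notMem, Finset.card_insert_of_notMem,
        Finset.card_insert_of_notMem, Finset.card_singleton]
      all_goals simp [Ne.symm ha1, Ne.symm hb1, Ne.symm hab1, Ne.symm h1, hab, Ne.symm h2, Ne.symm h3, Ne.symm h4,
        ha1, hb1]
    have h5 := Finset.card_le_card hsub
    rw [hcard, ← Nat.card_eq_card_finite_toFinset] at h5
    have := IsKleinFour.card_four (G := U)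
    simp only [SetLike.coe_sort_coe] at h5
    omega
  -- the key statement
  have key : ∀ u ∈ U, u ≠ 1 → ∀ v ∈ U, v ∈ Qm (Subgroup.normalizer (Subgroup.zpowers u : Set G)) := by
    intro u hu hu1 v hv
    set H := Subgroup.normalizer (Subgroup.zpowers u : Set G) with hH
    have hHc : ∀ h ∈ H, h * u = u * h := by
      intro h hh
      have h1 := (Subgroup.mem_normalizer_iff.mp hh u).mp (Subgroup.mem_zpowers u)
      obtain ⟨k, hk⟩ := Subgroup.mem_zpowers_iff.mp h1
      rcases Int.even_or_odd k with ⟨j, hj⟩ | ⟨j, hj⟩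
      · rw [hj, zpow_add, ← (Commute.refl u).mul_zpow, hUsq u hu, one_zpow] at hk
        exact absurd (conj_eq_one_iff.mp hk.symm) hu1
      · rw [hj, zpow_add, zpow_mul, show u ^ (2:ℤ) = 1 from (zpow_two u).trans (hUsq u hu), one_zpow, one_mul,
          zpow_one] at hk
        exact mul_inv_eq_iff_eq_mul.mp hk.symm
    have hcH : ∀ h : G, h * u = u * h → h ∈ H := fun h hh => by
      refine Subgroup.centralizer_le_normalizer _ ?_
      rw [Subgroup.zpowers_eq_closure, Subgroup.centralizer_closure]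
      exact Subgroup.mem_centralizer_singleton_iff.mpr hh
    have hvH : v ∈ H := hcH v (hUc v hv u hu)
    have huH : u ∈ H := hcH u rfl
    have hch : Cfsg.IsOfCharacteristicTwo H := h2.2 _
      (IsPGroup.of_card (n := 1) (by rw [Nat.card_zpowers, pow_one]; exact orderOf_eq_prime (by rw [sq]; exact hUsq u hu) hu1))
      (Subgroup.zpowers_ne_bot.mpr hu1)
    have hQ2 : IsPGroup 2 (Qm H) := (CfsgLib.isPGroup_pCore (G := ↥H) 2).map _
    have hQH : Qm H ≤ H := Subgroup.map_subtype_le _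
    have hQn : H ≤ Subgroup.normalizer (Qm H : Set G) := by
      refine (Subgroup.normal_subgroupOf_iff_le_normalizer hQH).mp ?_
      rw [Qm, Subgroup.subgroupOf, Subgroup.comap_map_eq_self_of_injective H.subtype_injective]
      infer_instance
    suffices hcomm : ∀ q ∈ Qm H, q * v * q⁻¹ * v⁻¹ = 1 ∨ q * v * q⁻¹ * v⁻¹ = u from
      ⟨⟨v, hvH⟩, mem_core hch ⟨u, huH⟩ ⟨v, hvH⟩ (Subtype.ext (hUsq u hu))
        (Subgroup.mem_center_iff.mpr fun g => Subtype.ext (hHc g g.2))
        (fun q hq => (hcomm q ⟨q, hq, rfl⟩).imp (fun h => Subtype.ext h) (fun h => Subtype.ext h)), rfl⟩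
    intro q hq
    set P0 := (P : Subgroup G) ⊓ Subgroup.centralizer ({u} : Set G) with hP0
    have hP0P : P0 ≤ (P : Subgroup G) := inf_le_left
    have hP0H : P0 ≤ H := fun h hh => hcH h (Subgroup.mem_centralizer_singleton_iff.mp hh.2)
    have hR2 : IsPGroup 2 ↥(P0 ⊔ Qm H) :=
      (P.isPGroup'.to_le hP0P).to_sup_of_normal_right' hQ2 (hP0H.trans hQn)
    obtain ⟨R, hR⟩ := hR2.exists_le_sylow
    have hPR : Nat.card (R : Subgroup G) = Nat.card (P : Subgroup G) := by
      rw [Sylow.card_eq_multiplicity, Sylow.card_eq_multiplicity]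
    by_cases hUZ' : U ≤ Subgroup.centralizer ((P : Subgroup G) : Set G)
    · have hP0eq : P0 = (P : Subgroup G) := inf_eq_left.mpr fun p hp =>
        Subgroup.mem_centralizer_singleton_iff.mpr (hUZ' hu p hp)
      have hqP : q ∈ (P : Subgroup G) := by
        have h := Subgroup.eq_of_le_of_card_ge ((hP0eq ▸ (le_sup_left.trans hR) : (P : Subgroup G) ≤ (R : Subgroup G))) hPR.le
        rw [h]
        exact hR (le_sup_right (a := P0) hq)
      left
      rw [hUZ' hv q hqP, mul_inv_cancel_right, mul_inv_cancel]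
    -- the centre of P is cyclic
    have hZ : IsCyclic ↥((P : Subgroup G) ⊓ Subgroup.centralizer ((P : Subgroup G) : Set G)) := by
      by_contra h
      exact hUZ' (hUZ h)
    obtain ⟨z, hzU, hz1, hzP⟩ : ∃ z ∈ U, z ≠ 1 ∧ ∀ p ∈ (P : Subgroup G), p * z = z * p := by
      haveI : (U.subgroupOf (P : Subgroup G)).Normal := (Subgroup.normal_subgroupOf_iff_le_normalizer hUP).mpr hUn
      haveI : Group.IsNilpotent ↥(P : Subgroup G) := P.isPGroup'.isNilpotent
      obtain ⟨z, hz, hz1⟩ := (Subgroup.bot_or_exists_ne_one _).resolve_left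
        (CfsgLib.inf_center_ne_bot_of_nilpotent (N := U.subgroupOf (P : Subgroup G)) (fun h => by
          have h1 := IsKleinFour.card_four (G := U)
          rw [← Nat.card_congr (Subgroup.subgroupOfEquivOfLe hUP).toEquiv, h, Subgroup.card_bot] at h1
          norm_num at h1))
      exact ⟨z, hz.1, fun e => hz1 (Subtype.ext e), fun p hp =>
        congrArg Subtype.val (Subgroup.mem_center_iff.mp hz.2 ⟨p, hp⟩)⟩
    have hzZ : z ∈ (P : Subgroup G) ⊓ Subgroup.centralizer ((P : Subgroup G) : Set G) := ⟨hUP hzU, hzP⟩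
    have hconj : ∀ p ∈ (P : Subgroup G), ∀ w ∈ U, p * w * p⁻¹ ∈ U := fun p hp w hw =>
      (Subgroup.mem_normalizer_iff.mp (hUn hp) w).mp hw
    by_cases huz : u = z
    · subst huz
      have hP0eq : P0 = (P : Subgroup G) := inf_eq_left.mpr fun p hp =>
        Subgroup.mem_centralizer_singleton_iff.mpr (hzP p hp)
      have hqP : q ∈ (P : Subgroup G) := by
        have h := Subgroup.eq_of_le_of_card_ge ((hP0eq ▸ (le_sup_left.trans hR) : (P : Subgroup G) ≤ (R : Subgroup G))) hPR.le
        rw [h]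
        exact hR (le_sup_right (a := P0) hq)
      by_cases hv1 : v = 1
      · left; simp [hv1]
      by_cases hvu : v = u
      · left; rw [hvu, hzP q hqP, mul_inv_cancel_right, mul_inv_cancel]
      rcases hUenum u hu v hv hu1 hv1 (Ne.symm hvu) _ (hconj q hqP v hv) with h | h | h | h
      · exact absurd (conj_eq_one_iff.mp h) hv1
      · exfalso
        refine hvu ?_
        calc v = q⁻¹ * (q * v * q⁻¹) * q := by group
          _ = q⁻¹ * (u * q) := by rw [h, mul_assoc]
          _ = u := by rw [← hzP q hqP, inv_mul_cancel_left]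
      · left; rw [h, mul_inv_cancel]
      · right; rw [h, mul_inv_cancel_right]
    -- now u is not central in P
    have hUgen : ∀ c ∈ U, c = 1 ∨ c = u ∨ c = z ∨ c = u * z := hUenum u hu z hzU hu1 hz1 huz
    have hP0U : ∀ p ∈ P0, ∀ c ∈ U, p * c = c * p := by
      intro p hp c hc
      have h1 : Commute p u := Subgroup.mem_centralizer_singleton_iff.mp hp.2
      have h2 : Commute p z := hzP p hp.1
      rcases hUgen c hc with rfl | rfl | rfl | rfl
      exacts [(Commute.one_right p).eq, h1.eq, h2.eq, (h1.mul_right h2).eq]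
    by_cases hqP0 : q ∈ P0
    · left; rw [hP0U q hqP0 v hv, mul_inv_cancel_right, mul_inv_cancel]
    have hP0R : P0 ≤ (R : Subgroup G) := le_sup_left.trans hR
    have hqR : q ∈ (R : Subgroup G) := hR (le_sup_right (a := P0) hq)
    have hne : P0 ≠ (P : Subgroup G) := by
      intro h
      have := Subgroup.eq_of_le_of_card_ge (h ▸ hP0R : (P : Subgroup G) ≤ (R : Subgroup G)) hPR.le
      exact hqP0 (h ▸ this ▸ hqR)
    obtain ⟨g, hgP, hg0⟩ : ∃ g ∈ (P : Subgroup G), g ∉ P0 := by
      by_contra h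
      push Not at h
      exact hne (le_antisymm hP0P h)
    have himg : ∀ p ∈ (P : Subgroup G), p * u * p⁻¹ = u ∨ p * u * p⁻¹ = u * z := by
      intro p hp
      rcases hUgen _ (hconj p hp u hu) with h | h | h | h
      · exact absurd (conj_eq_one_iff.mp h) hu1
      · exact Or.inl h
      · exfalso
        refine huz ?_
        calc u = p⁻¹ * (p * u * p⁻¹) * p := by group
          _ = p⁻¹ * (z * p) := by rw [h, mul_assoc]
          _ = z := by rw [← hzP p hp, inv_mul_cancel_left]
      · exact Or.inr h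
    have hmemP0 : ∀ p ∈ (P : Subgroup G), (p ∈ P0 ↔ p * u * p⁻¹ = u) := fun p hp => by
      rw [mul_inv_eq_iff_eq_mul]
      exact ⟨fun h => Subgroup.mem_centralizer_singleton_iff.mp h.2,
        fun h => ⟨hp, Subgroup.mem_centralizer_singleton_iff.mpr h⟩⟩
    have hguz : g * u * g⁻¹ = u * z := (himg g hgP).resolve_left fun h => hg0 ((hmemP0 g hgP).mpr h)
    have hidx : (P0.subgroupOf (P : Subgroup G)).index = 2 := by
      refine Subgroup.index_eq_two_iff.mpr ⟨⟨g, hgP⟩, fun b => ?_⟩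
      simp only [Subgroup.mem_subgroupOf, Subgroup.coe_mul]
      rw [hmemP0 _ b.2, hmemP0 _ (mul_mem b.2 hgP)]
      have e : (b : G) * g * u * ((b : G) * g)⁻¹ = ((b : G) * u * (b : G)⁻¹) * ((b : G) * z * (b : G)⁻¹) := by
        calc (b : G) * g * u * ((b : G) * g)⁻¹ = (b : G) * (g * u * g⁻¹) * (b : G)⁻¹ := by group
          _ = _ := by rw [hguz]; group
      rw [e, show (b : G) * z * (b : G)⁻¹ = z by rw [hzP b b.2, mul_inv_cancel_right]]
      rcases himg b b.2 with h | h <;> rw [h]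
      · refine Or.inr ⟨rfl, fun h2 => hz1 ?_⟩
        exact mul_eq_left.mp h2
      · refine Or.inl ⟨by rw [mul_assoc, hUsq z hzU, mul_one], fun h2 => hz1 (mul_eq_left.mp h2)⟩
    have hcard2 : Nat.card (P : Subgroup G) = 2 * Nat.card P0 := by
      rw [← Subgroup.index_mul_card (P0.subgroupOf (P : Subgroup G)), hidx,
        Nat.card_congr (Subgroup.subgroupOfEquivOfLe hP0P).toEquiv]
    have hidxR : (P0.subgroupOf (R : Subgroup G)).index = 2 := by
      have h1 := Subgroup.index_mul_card (P0.subgroupOf (R : Subgroup G))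
      rw [Nat.card_congr (Subgroup.subgroupOfEquivOfLe hP0R).toEquiv, hPR, hcard2] at h1
      exact Nat.eq_of_mul_eq_mul_right Nat.card_pos h1
    have hsq : q * q ∈ P0 := by
      simpa [Subgroup.mem_subgroupOf] using Subgroup.mul_self_mem_of_index_two hidxR ⟨q, hqR⟩
    have hnR : ∀ r ∈ (R : Subgroup G), r ∈ P0 ∨ ∃ p ∈ P0, r = p * q := by
      intro r hr
      by_cases hr0 : r ∈ P0
      · exact Or.inl hr0
      · refine Or.inr ⟨r * q⁻¹, ?_, by group⟩
        have h1 := (Subgroup.mul_mem_iff_of_index_two hidxR (a := ⟨r, hr⟩) (b := ⟨q⁻¹, inv_mem hqR⟩))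
        simp only [Subgroup.mem_subgroupOf, Subgroup.coe_mul] at h1
        exact h1.mpr (iff_of_false hr0 fun h => hqP0 (by simpa using inv_mem h))
    have hnorm : ∀ p ∈ P0, q⁻¹ * p * q ∈ P0 ∧ q * p * q⁻¹ ∈ P0 := by
      intro p hp
      have hn := (Subgroup.normal_of_index_eq_two hidxR).conj_mem ⟨p, hP0R hp⟩ hp
      exact ⟨by simpa [Subgroup.mem_subgroupOf] using hn ⟨q⁻¹, inv_mem hqR⟩,
        by simpa [Subgroup.mem_subgroupOf] using hn ⟨q, hqR⟩⟩
    set a := q * v * q⁻¹ * v⁻¹ with hadef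
    have hvP0 : v ∈ P0 := ⟨hUP hv, Subgroup.mem_centralizer_singleton_iff.mpr (hUc v hv u hu)⟩
    have hw : q * v * q⁻¹ ∈ P0 := (hnorm v hvP0).2
    have hwc : ∀ p ∈ P0, Commute p (q * v * q⁻¹) := by
      intro p hp
      have h1 : Commute (q⁻¹ * p * q) v := hP0U _ (hnorm p hp).1 v hv
      have h2 := h1.map (MulAut.conj q).toMonoidHom
      simpa [mul_assoc] using h2
    have hac : ∀ p ∈ P0, Commute p a := fun p hp => (hwc p hp).mul_right (Commute.inv_right (hP0U p hp v hv))
    have hvi : v⁻¹ = v := inv_eq_of_mul_eq_one_right (hUsq v hv)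
    have ha2 : a * a = 1 := by
      have e : (q * v * q⁻¹) * (q * v * q⁻¹) = 1 := by
        calc q * v * q⁻¹ * (q * v * q⁻¹) = q * (v * v) * q⁻¹ := by group
          _ = 1 := by rw [hUsq v hv, mul_one, mul_inv_cancel]
      have hc : Commute v (q * v * q⁻¹) := hwc v hvP0
      rw [hadef, hvi]
      calc q * v * q⁻¹ * v * (q * v * q⁻¹ * v) = (q * v * q⁻¹) * (v * (q * v * q⁻¹)) * v := by group
        _ = (q * v * q⁻¹) * ((q * v * q⁻¹) * v) * v := by rw [hc.eq]
        _ = ((q * v * q⁻¹) * (q * v * q⁻¹)) * (v * v) := by group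
        _ = 1 := by rw [e, hUsq v hv, mul_one]
    have hqa : Commute q a := by
      have h1 : (q * q) * v * (q * q)⁻¹ = v := by rw [hP0U _ hsq v hv, mul_inv_cancel_right]
      have e : q * a * q⁻¹ = ((q * q) * v * (q * q)⁻¹) * (q * v * q⁻¹)⁻¹ := by rw [hadef]; group
      rw [h1] at e
      have e2 : v * (q * v * q⁻¹)⁻¹ = a⁻¹ := by rw [hadef]; group
      rw [e2, inv_eq_of_mul_eq_one_right ha2] at e
      exact mul_inv_eq_iff_eq_mul.mp e
    have haR : a ∈ (R : Subgroup G) ⊓ Subgroup.centralizer ((R : Subgroup G) : Set G) := by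
      refine ⟨hP0R (mul_mem hw (inv_mem hvP0)), fun r hr => ?_⟩
      rcases hnR r hr with h | ⟨p, hp, rfl⟩
      · exact (hac r h).eq
      · exact ((hac p hp).mul_left hqa).eq
    have huR : u ∈ (R : Subgroup G) ⊓ Subgroup.centralizer ((R : Subgroup G) : Set G) := by
      refine ⟨hP0R ⟨hUP hu, Subgroup.mem_centralizer_singleton_iff.mpr rfl⟩, fun r hr => ?_⟩
      rcases hnR r hr with h | ⟨p, hp, rfl⟩
      · exact hHc r (hP0H h)
      · exact hHc _ (mul_mem (hP0H hp) (hQH hq))
    exact centre_cyclic P R hZ haR huR ha2 (hUsq u hu) hu1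
  -- conclusion
  have hUA : IsMulCommutative U := ⟨⟨fun a b => Subtype.ext (hUc a a.2 b b.2)⟩⟩
  have hcop : (Nat.card U).Coprime (Nat.card K) := by
    rw [IsKleinFour.card_four (G := U)]
    exact (Nat.coprime_two_left.mpr hK).pow_left 2
  have hgen := CfsgLib.coprime_generated_by_centralizers (A := U) (K := K) IsKleinFour.not_isCyclic hUK hcop
  intro v hv k hk
  suffices hle : K ≤ Subgroup.centralizer ({v} : Set G) from Subgroup.mem_centralizer_singleton_iff.mp (hle hk)
  rw [← hgen]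
  refine iSup₂_le fun u hu k' hk' => Subgroup.mem_centralizer_singleton_iff.mpr ?_
  obtain ⟨hku, hkc⟩ := Subgroup.mem_inf.mp hk'
  have hkH : k' ∈ Subgroup.normalizer (Subgroup.zpowers u : Set G) := by
    refine Subgroup.centralizer_le_normalizer _ ?_
    rw [Subgroup.zpowers_eq_closure, Subgroup.centralizer_closure]
    exact hkc
  have hm1 : k' * v * k'⁻¹ * v⁻¹ ∈ K := by
    have h1 : v * k'⁻¹ * v⁻¹ ∈ K := (Subgroup.mem_normalizer_iff.mp (hUK hv) _).mp (inv_mem hku)
    simpa [mul_assoc] using mul_mem hku h1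
  set H := Subgroup.normalizer (Subgroup.zpowers u : Set G)
  have hvQ := key u hu.1 hu.2 v hv
  have hm2 : k' * v * k'⁻¹ * v⁻¹ ∈ Qm H := by
    obtain ⟨w, hw, hwe⟩ := hvQ
    refine mul_mem ?_ (inv_mem ⟨w, hw, hwe⟩)
    exact ⟨⟨k', hkH⟩ * w * ⟨k', hkH⟩⁻¹, (inferInstance : (Cfsg.pCore 2 ↥H).Normal).conj_mem w hw _, by simp [← hwe]⟩
  obtain ⟨n, hn⟩ := IsPGroup.iff_card.mp ((CfsgLib.isPGroup_pCore (G := ↥H) 2).map H.subtype)
  have hd := Subgroup.disjoint_of_coprime_natCard (H := K) (K := Qm H)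
    (by rw [hn]; exact ((Nat.coprime_two_left.mpr hK).pow_left n).symm)
  have h1 := Subgroup.disjoint_def.mp hd hm1 hm2
  rw [mul_inv_eq_one, mul_inv_eq_iff_eq_mul] at h1
  exact h1

end Cfsg.Agent.S1957
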