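import Cfsg.Statements.S1958
import Cfsg.Agent.Lib.Comp.CharPType

set_option autoImplicit false
set_option linter.unusedVariables false
open Cfsg
open scoped commutatorElement

namespace Cfsg.Agent.S1958


universe u

theorem half {G : Type u} [Group G] [Finite G] (p : ℕ) [Fact p.Prime] (x y : G) (hx : orderOf x = p)
    (hxy : x * y = y * x) (hCy : Group.IsSolvable ↥(Subgroup.centralizer ({y} : Set G))) :
    Cfsg.centralizerPPrimeCore p x ⊓ Subgroup.centralizer {y} ≤ Cfsg.centralizerPPrimeCore p y := by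
  set Cx := Subgroup.centralizer ({x} : Set G) with hCxdef
  set H := Subgroup.centralizer ({y} : Set G) with hH
  set U := Cfsg.centralizerPPrimeCore p x ⊓ H with hU
  haveI := hCy
  set f := QuotientGroup.mk' (Cfsg.pPrimeCore p ↥H) with hf
  have hxH : x ∈ H := Subgroup.mem_centralizer_singleton_iff.mpr hxy
  intro u hu
  obtain ⟨huO, huH⟩ := Subgroup.mem_inf.mp hu
  obtain ⟨z, hz, hzu⟩ := huO
  have hcop : (orderOf u).Coprime p := by
    rw [← hzu]
    refine Nat.Coprime.coprime_dvd_left ((orderOf_map_dvd _ _).trans (Subgroup.orderOf_dvd_natCard _ hz))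
      (CfsgLib.card_pPrimeCore_coprime p)
  set ub := f ⟨u, huH⟩ with hub
  set P := (Subgroup.zpowers (⟨x, hxH⟩ : ↥H)).map f with hP
  have hPp : IsPGroup p ↥P := by
    refine IsPGroup.map ?_ _
    exact IsPGroup.of_card (n := 1) (by rw [Nat.card_zpowers, Subgroup.orderOf_mk, hx, pow_one])
  have hucop : (orderOf ub).Coprime p := by
    refine Nat.Coprime.coprime_dvd_left ((orderOf_map_dvd _ _).trans ?_) hcop
    rw [Subgroup.orderOf_mk]
  have hux : u * x = x * u :=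
    Subgroup.mem_centralizer_singleton_iff.mp (hzu ▸ z.2 : u ∈ Cx)
  have huP : ub ∈ Subgroup.centralizer (P : Set _) := by
    rintro _ ⟨w, hw, rfl⟩
    obtain ⟨i, rfl⟩ := Subgroup.mem_zpowers_iff.mp hw
    rw [hub, ← map_mul, ← map_mul]
    exact congrArg f ((show Commute (⟨u, huH⟩ : ↥H) ⟨x, hxH⟩ from Subtype.ext hux).zpow_right i).eq.symm
  have hUcop : (Nat.card ↥U).Coprime p := by
    refine Nat.Coprime.coprime_dvd_left (Subgroup.card_dvd_of_le inf_le_left) ?_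
    rw [Cfsg.centralizerPPrimeCore, Subgroup.card_map_of_injective (Subgroup.subtype_injective _)]
    exact CfsgLib.card_pPrimeCore_coprime p
  have hsol : Group.IsSolvable (↥H ⧸ Cfsg.pPrimeCore p ↥H) :=
    Group.isSolvable_of_surjective (f := f) (QuotientGroup.mk'_surjective _)
  haveI := hsol
  have hUO : Cfsg.pPrimeCore p (↥H ⧸ Cfsg.pPrimeCore p ↥H) = ⊥ := CfsgLib.pPrimeCore_quotient_eq_bot p
  haveI : (Cfsg.pCore p (↥H ⧸ Cfsg.pPrimeCore p ↥H)).Normal := Subgroup.sSup_normal _ (fun _ h => h.1)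
  have hC : ub ∈ Subgroup.centralizer (Cfsg.pCore p (↥H ⧸ Cfsg.pPrimeCore p ↥H) : Set _) := by
    refine CfsgLib.Comp.centralizes_pCore hPp hucop huP fun w hw hwP => ?_
    -- lift `w` to an element commuting with `x`
    obtain ⟨w₀, rfl⟩ := QuotientGroup.mk'_surjective _ w
    have hxw : f ⟨x, hxH⟩ * f w₀ = f w₀ * f ⟨x, hxH⟩ :=
      hwP (f ⟨x, hxH⟩) ⟨⟨x, hxH⟩, Subgroup.mem_zpowers _, rfl⟩
    obtain ⟨c, hc, hce⟩ : ∃ c : ↥H, (c : G) * x = x * c ∧ f c = f w₀ := by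
      have hAW : Subgroup.zpowers (⟨x, hxH⟩ : ↥H) ≤ Subgroup.normalizer (Cfsg.pPrimeCore p ↥H : Set ↥H) :=
        le_top.trans (Subgroup.normalizer_eq_top (Cfsg.pPrimeCore p ↥H)).ge
      obtain ⟨v, hv, hv'⟩ := CfsgLib.coprime_key_normalize (A := Subgroup.zpowers (⟨x, hxH⟩ : ↥H))
        (W := Cfsg.pPrimeCore p ↥H) (by
          rw [Nat.card_zpowers, Subgroup.orderOf_mk, hx]
          exact (CfsgLib.card_pPrimeCore_coprime p).symm)
        (Or.inr inferInstance) hAW (k := w₀) (fun a ha => by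
          obtain ⟨i, rfl⟩ := Subgroup.mem_zpowers_iff.mp ha
          have h1 : f (w₀⁻¹ * (⟨x, hxH⟩ : ↥H) ^ i * w₀) = f ((⟨x, hxH⟩ : ↥H) ^ i) := by
            rw [map_mul, map_mul, map_inv, map_zpow, mul_assoc,
              ((show Commute (f ⟨x, hxH⟩) (f w₀) from hxw).zpow_left i).eq, inv_mul_cancel_left]
          have h2 : w₀⁻¹ * (⟨x, hxH⟩ : ↥H) ^ i * w₀ * ((⟨x, hxH⟩ : ↥H) ^ i)⁻¹ ∈ Cfsg.pPrimeCore p ↥H := by
            rw [← QuotientGroup.eq_one_iff, ← QuotientGroup.mk'_apply, ← hf, map_mul, h1, map_inv, mul_inv_cancel]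
          have h3 := Subgroup.mul_mem_sup h2 ha
          rwa [inv_mul_cancel_right] at h3)
      refine ⟨w₀ * v, ?_, by rw [map_mul, show f v = 1 from (QuotientGroup.eq_one_iff v).mpr hv, mul_one]⟩
      obtain ⟨i, hi⟩ := Subgroup.mem_zpowers_iff.mp (hv' ⟨x, hxH⟩ (Subgroup.mem_zpowers _))
      have hfv : f (w₀ * v) = f w₀ := by
        rw [map_mul, show f v = 1 from (QuotientGroup.eq_one_iff v).mpr hv, mul_one]
      have h5 : f ((⟨x, hxH⟩ : ↥H) ^ i * (⟨x, hxH⟩ : ↥H)⁻¹) = 1 := by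
        rw [map_mul, hi, map_mul, map_mul, map_inv, map_inv, hfv, ← hxw, mul_inv_cancel_right, mul_inv_cancel]
      have h6 : (⟨x, hxH⟩ : ↥H) ^ i * (⟨x, hxH⟩ : ↥H)⁻¹ = 1 := by
        refine orderOf_eq_one_iff.mp (Nat.eq_one_of_dvd_coprimes (CfsgLib.card_pPrimeCore_coprime (G := ↥H) p)
          (Subgroup.orderOf_dvd_natCard _ ((QuotientGroup.eq_one_iff _).mp h5)) ?_)
        refine (orderOf_dvd_of_mem_zpowers (x := (⟨x, hxH⟩ : ↥H)) ?_).trans (by rw [Subgroup.orderOf_mk, hx])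
        exact Subgroup.mul_mem _ (Subgroup.zpow_mem _ (Subgroup.mem_zpowers _) i)
          (Subgroup.inv_mem _ (Subgroup.mem_zpowers _))
      rw [mul_inv_eq_one] at h6
      rw [h6] at hi
      exact congrArg Subtype.val (mul_inv_eq_iff_eq_mul.mp hi.symm)
    rw [hub, ← hce]
    -- the commutator lies in a `p'`-subgroup and in a `p`-subgroup
    have hcx : (c : G) ∈ Cx := Subgroup.mem_centralizer_singleton_iff.mpr hc
    have h7 : u * c * u⁻¹ * (c : G)⁻¹ ∈ U := by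
      refine Subgroup.mem_inf.mpr ⟨?_, ?_⟩
      · refine ⟨z * ((⟨c, hcx⟩ : ↥Cx) * z⁻¹ * (⟨c, hcx⟩ : ↥Cx)⁻¹), Subgroup.mul_mem _ hz
          ((inferInstance : (Cfsg.pPrimeCore p ↥Cx).Normal).conj_mem _ (Subgroup.inv_mem _ hz) _), ?_⟩
        rw [← hzu]
        simp [mul_assoc]
      · exact H.mul_mem (H.mul_mem (H.mul_mem huH c.2) (H.inv_mem huH)) (H.inv_mem c.2)
    have h8 : f (⟨u, huH⟩ * c * (⟨u, huH⟩ : ↥H)⁻¹ * c⁻¹) ∈ Cfsg.pCore p (↥H ⧸ Cfsg.pPrimeCore p ↥H) := by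
      rw [map_mul, map_mul, map_mul, map_inv, map_inv, hce]
      exact Subgroup.mul_mem _ ((inferInstance : (Cfsg.pCore p (↥H ⧸ Cfsg.pPrimeCore p ↥H)).Normal).conj_mem _ hw _)
        (Subgroup.inv_mem _ hw)
    obtain ⟨k, hk⟩ := CfsgLib.isPGroup_pCore (G := ↥H ⧸ Cfsg.pPrimeCore p ↥H) p ⟨_, h8⟩
    have h9 : f (⟨u, huH⟩ * c * (⟨u, huH⟩ : ↥H)⁻¹ * c⁻¹) = 1 := by
      refine orderOf_eq_one_iff.mp (Nat.eq_one_of_dvd_coprimes (hUcop.pow_right k)
        ((orderOf_map_dvd _ _).trans ?_) (orderOf_dvd_of_pow_eq_one (congrArg Subtype.val hk)))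
      rw [← Subgroup.orderOf_coe]
      exact Subgroup.orderOf_dvd_natCard _ (by simpa using h7)
    rw [map_mul, map_mul, map_mul, map_inv, map_inv, mul_inv_eq_one, mul_inv_eq_iff_eq_mul] at h9
    exact h9
  have h10 := CfsgLib.centralizer_pCore_le Fact.out hUO hC
  obtain ⟨k, hk⟩ := CfsgLib.isPGroup_pCore (G := ↥H ⧸ Cfsg.pPrimeCore p ↥H) p ⟨ub, h10⟩
  have h11 : ub = 1 := orderOf_eq_one_iff.mp (Nat.eq_one_of_dvd_coprimes (hucop.pow_right k) dvd_rfl
    (orderOf_dvd_of_pow_eq_one (congrArg Subtype.val hk)))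
  exact ⟨⟨u, huH⟩, (QuotientGroup.eq_one_iff _).mp h11, rfl⟩

/-- Let `G` be a finite group, `p` a prime, and `x, y` commuting elements of order `p` whose centralizers `C_G(x)` and `C_G(y)` are both solvable. Then `O_{p'}(C_G(x)) ∩ C_G(y) = O_{p'}(C_G(y)) ∩ C_G(x)` (balance). -/
theorem result {G : Type*} [Group G] [Finite G]
    (p : ℕ) [Fact p.Prime] (x y : G) (hx : orderOf x = p) (hy : orderOf y = p) (hxy : x * y = y * x)
    (hCx : Group.IsSolvable ↥(Subgroup.centralizer ({x} : Set G))) (hCy : Group.IsSolvable ↥(Subgroup.centralizer ({y} : Set G))) :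
    Cfsg.centralizerPPrimeCore p x ⊓ Subgroup.centralizer {y} = Cfsg.centralizerPPrimeCore p y ⊓ Subgroup.centralizer {x} := by
  have hle : ∀ z : G, Cfsg.centralizerPPrimeCore p z ≤ Subgroup.centralizer ({z} : Set G) :=
    fun z => Subgroup.map_subtype_le _
  refine le_antisymm (le_inf (half p x y hx hxy hCy) (inf_le_left.trans (hle x))) ?_
  exact le_inf (half p y x hy hxy.symm hCx) (inf_le_left.trans (hle y))

end Cfsg.Agent.S1958
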