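import Cfsg.Statements.S1961
import Cfsg.Agent.Lib.StrongFusion.Local

set_option autoImplicit false
set_option linter.unusedVariables false
open Cfsg
open scoped commutatorElement

namespace Cfsg.Agent.S1961

/-- Local-to-global control of strong fusion through well-placed subgroups. Let p be a prime, G a finite group with Sylow p-subgroup S, and W a conjugacy functor for p on G. If W controls strong fusion in N_G(T) for every nonidentity subgroup T of S that is well placed in S with respect to W, then W controls strong fusion in G. -/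
theorem result {G : Type*} [Group G] [Finite G] {p : ℕ} [Fact p.Prime] (S : Sylow p G) (W : Subgroup G → Subgroup G) (hW : Cfsg.IsConjugacyFunctor p W) (hloc : ∀ T : Subgroup G, T ≠ ⊥ → Cfsg.IsWellPlaced p W (S : Subgroup G) T → Cfsg.ControlsStrongFusionIn p W (Subgroup.normalizer ((T : Subgroup G) : Set G))) : Cfsg.ControlsStrongFusionIn p W ⊤ := by
  have hequiv : ∀ T ≤ (S : Subgroup G), ∀ y, CfsgLib.StrongFusion.cm y T ≤ (S : Subgroup G) →
      W (CfsgLib.StrongFusion.cm y T) = CfsgLib.StrongFusion.cm y (W T) :=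
    fun T hT y _ => (hW T (S.2.to_le hT)).2.2 y
  have hW' := fun T (hT : T ≤ (S : Subgroup G)) (hT0 : T ≠ ⊥) =>
    CfsgLib.StrongFusion.hW_of_isConjugacyFunctor S hW hT hT0
  refine ⟨S, le_top, S.2, by rw [Subgroup.relIndex_top_right]; exact S.not_dvd_index, fun A g _ hA hgA => ?_⟩
  have key : ∀ (B : Subgroup G) (x : G), B ≤ (S : Subgroup G) → CfsgLib.StrongFusion.cm x B ≤ (S : Subgroup G) →
      CfsgLib.StrongFusion.Chain (S : Subgroup G) (CfsgLib.StrongFusion.steps {W} (S : Subgroup G)) B x := by
    intro B x hB hx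
    refine CfsgLib.StrongFusion.chain_of_local S {W} (Cfsg.IsWellPlaced p W (S : Subgroup G))
      (fun U hU => CfsgLib.StrongFusion.exists_wellPlaced S hW' hequiv hU) (fun U _ h => h.2 0) ?_ ?_ hB hx
    · rintro W' rfl T hT _ hT0
      exact hW' T hT hT0
    · intro U hU hU0 hg C hC n hn hnC
      have hfam : Cfsg.FamilyControlsStrongFusionIn p {W} (Subgroup.normalizer (U : Set G)) := by
        obtain ⟨T, hT1, hT2, hT3, hT4⟩ := hloc U hU0 hg
        refine ⟨T, hT1, hT2, hT3, fun A h hh hA hhA => ?_⟩
        obtain ⟨y, hy, he⟩ := hT4 A h hh hA hhA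
        refine ⟨1, ![1, y], rfl, fun i => ⟨W, rfl, ?_⟩, fun i => ?_, fun a ha => he a ha⟩
        · fin_cases i
          simpa using hy
        · fin_cases i
          · simpa using hA
          · rintro _ ⟨a, ha, rfl⟩
            show y * a * y⁻¹ ∈ T
            rw [he a ha]
            exact hhA ⟨a, ha, rfl⟩
      exact CfsgLib.StrongFusion.chain_of_family (by rintro W' rfl; exact hW) hfam inf_le_right
        (S.2.to_le inf_le_left) (hg.2 0) hC hn hnC
  obtain ⟨x, hx, he⟩ := (CfsgLib.StrongFusion.controlsOf_of_chain S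
    (N := Subgroup.normalizer ((W (S : Subgroup G) : Subgroup G) : Set G))
    (by rintro n ⟨W', rfl, hn⟩; exact hn) key hA).2 g hgA
  exact ⟨x, ⟨trivial, hx⟩, fun a ha => (he a ha).symm⟩

end Cfsg.Agent.S1961
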