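import Cfsg.Statements.S1962
import Cfsg.Agent.Lib.TransferControl.Family

set_option autoImplicit false
set_option linter.unusedVariables false
open Cfsg
open scoped commutatorElement

namespace Cfsg.Agent.S1962

/-- Local-to-global control of transfer through well-placed subgroups. Let p be a prime, G a finite group with Sylow p-subgroup S, and W a conjugacy functor for p on G. If W controls transfer in N_G(T) for every nonidentity subgroup T of S that is well placed in S with respect to W, then W controls transfer in G: S ∩ G' = S ∩ (N_G(W(S)))'. -/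
theorem result {G : Type*} [Group G] [Finite G] {p : ℕ} [Fact p.Prime] (S : Sylow p G) (W : Subgroup G → Subgroup G) (hW : Cfsg.IsConjugacyFunctor p W) (hloc : ∀ T : Subgroup G, T ≠ ⊥ → Cfsg.IsWellPlaced p W (S : Subgroup G) T → Cfsg.ControlsTransferIn p W (Subgroup.normalizer ((T : Subgroup G) : Set G))) : Cfsg.ControlsTransferIn p W ⊤ := by
  have key : ∀ H : Subgroup G, Cfsg.FamilyControlsTransferIn p {W} H ↔ Cfsg.ControlsTransferIn p W H := fun H => by
    constructor <;> rintro ⟨T, h1, h2, h3, h4⟩ <;> refine ⟨T, h1, h2, h3, h4.trans ?_⟩ <;> simp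
  refine (key ⊤).1 (CfsgLib.TransferControl.familyControls_of_good S {W} (by rintro W' rfl; exact hW)
    (fun U => Cfsg.IsWellPlaced p W (S : Subgroup G) U) (fun U hU => CfsgLib.StrongFusion.exists_wellPlaced S
      (fun T hT hT0 => CfsgLib.StrongFusion.hW_of_isConjugacyFunctor S hW hT hT0)
      (fun T hT y _ => (hW T (S.2.to_le hT)).2.2 y) hU) (fun _ _ h => h.2 0) (fun U _ hU0 hg => (key _).2 (hloc U hU0 hg)))

end Cfsg.Agent.S1962
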