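import Cfsg.Statements.S1963
import Cfsg.Agent.Lib.Local

set_option autoImplicit false
set_option linter.unusedVariables false
open Cfsg
open scoped commutatorElement

namespace Cfsg.Agent.S1963

open CfsgLib.Local in
theorem eq_of_relIndex {G : Type*} [Group G] [Finite G] {p : ℕ} [Fact p.Prime] {A B C : Subgroup G}
    (hAB : A ≤ B) (hBC : B ≤ C) (hB : IsPGroup p B) (h : ¬ p ∣ A.relIndex C) : A = B := by
  refine le_antisymm hAB ?_
  rw [← Subgroup.relIndex_eq_one]
  obtain ⟨n, hn⟩ := hB.index (A.subgroupOf B)
  change A.relIndex B = p ^ n at hn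
  rcases Nat.eq_zero_or_pos n with h0 | h0
  · simpa [h0] using hn
  · exact absurd ((dvd_pow_self p h0.ne').trans (hn ▸ (Dvd.intro _ (Subgroup.relIndex_mul_relIndex A B C hAB hBC)))) h

/-- Let p be a prime, G a finite group with Sylow p-subgroup S, W a conjugacy functor for p on G and T a subgroup of S. Then some G-conjugate of T is well placed in S with respect to W. -/
theorem result {G : Type*} [Group G] [Finite G] {p : ℕ} [Fact p.Prime] (S : Sylow p G) (W : Subgroup G → Subgroup G) (hW : Cfsg.IsConjugacyFunctor p W) (T : Subgroup G) (hT : T ≤ (S : Subgroup G)) : ∃ g : G, Cfsg.IsWellPlaced p W (S : Subgroup G) (T.map (MulAut.conj g).toMonoidHom) := by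
  let N : G → ℕ → Subgroup G := fun g i => (S : Subgroup G) ⊓ Subgroup.normalizer
    ((Cfsg.functorTower W (S : Subgroup G) (T.map (MulAut.conj g).toMonoidHom) i : Subgroup G) : Set G)
  let Wt : G → ℕ → Subgroup G := fun g i => Cfsg.functorTower W (S : Subgroup G) (T.map (MulAut.conj g).toMonoidHom) i
  have hN : ∀ g i, IsPGroup p (N g i) := fun g i => CfsgLib.Local.isPGroup_of_le inf_le_left S.2
  have hmono : ∀ g i, N g i ≤ N g (i + 1) := by
    intro g i x hx
    refine ⟨hx.1, CfsgLib.Local.mem_normalizer_of_map_conj_eq ?_⟩
    show (W (N g i)).map (MulAut.conj x).toMonoidHom = W (N g i)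
    rw [← (hW _ (hN g i)).2.2 x, CfsgLib.Local.map_conj_eq_of_mem_normalizer (Subgroup.le_normalizer hx)]
  have hmono' : ∀ g i j, i ≤ j → N g i ≤ N g j := fun g i j hij =>
    monotone_nat_of_le_succ (hmono g) hij
  have step : ∀ n, ∃ g, T.map (MulAut.conj g).toMonoidHom ≤ (S : Subgroup G) ∧
      ∀ j < n, ¬ p ∣ (N g j).relIndex (Subgroup.normalizer (Wt g j : Set G)) := by
    intro n
    induction n with
    | zero => exact ⟨1, CfsgLib.Local.map_conj_le fun x hx => by simpa using hT hx, by simp⟩
    | succ i ih =>
      obtain ⟨g, hg, hgood⟩ := ih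
      set M := Subgroup.normalizer (Wt g i : Set G) with hMdef
      obtain ⟨R, hR⟩ := ((hN g i).of_injective (Subgroup.subgroupOfEquivOfLe
        (inf_le_right : N g i ≤ M)).toMonoidHom
        (MulEquiv.injective _)).exists_le_sylow
      set R' : Subgroup G := (R : Subgroup M).map M.subtype
      have hR' : IsPGroup p R' := R.2.map _
      have hNR : N g i ≤ R' := by
        intro x hx
        have hxM : x ∈ M := inf_le_right (a := (S : Subgroup G)) hx
        exact ⟨⟨x, hxM⟩, hR (Subgroup.mem_subgroupOf.2 hx), rfl⟩
      obtain ⟨P, hP⟩ := hR'.exists_le_sylow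
      obtain ⟨h, hh⟩ := MulAction.exists_smul_eq G P S
      have hRS : R'.map (MulAut.conj h).toMonoidHom ≤ (S : Subgroup G) := by
        rw [← hh, Sylow.coe_subgroup_smul]
        exact Subgroup.map_mono hP
      have hgS : T.map (MulAut.conj g).toMonoidHom ≤ N g i :=
        le_trans (le_inf hg Subgroup.le_normalizer) (hmono' g 0 i (Nat.zero_le i))
      refine ⟨h * g, ?_, ?_⟩
      · rw [← CfsgLib.Local.map_conj_mul]
        exact (Subgroup.map_mono (hgS.trans hNR)).trans hRS
      have hnorm : ∀ K : Subgroup G, (Subgroup.normalizer (K : Set G)).map (MulAut.conj h).toMonoidHom =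
          Subgroup.normalizer ((K.map (MulAut.conj h).toMonoidHom : Subgroup G) : Set G) := fun K =>
        Subgroup.map_equiv_normalizer_eq K (MulAut.conj h)
      have hrel : ∀ A B : Subgroup G, (A.map (MulAut.conj h).toMonoidHom).relIndex
          (B.map (MulAut.conj h).toMonoidHom) = A.relIndex B := fun A B =>
        Subgroup.relIndex_map_map_of_injective _ _ (MulEquiv.injective _)
      have main : ∀ j, j ≤ i → Wt (h * g) j = (Wt g j).map (MulAut.conj h).toMonoidHom ∧
          (j < i → N (h * g) j = (N g j).map (MulAut.conj h).toMonoidHom) := by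
        intro j
        induction j with
        | zero =>
          intro _
          have e : Wt (h * g) 0 = (Wt g 0).map (MulAut.conj h).toMonoidHom :=
            (CfsgLib.Local.map_conj_mul h g T).symm
          refine ⟨e, fun hji => (eq_of_relIndex ?_ inf_le_right (hN _ _) ?_).symm⟩
          · refine le_inf ((Subgroup.map_mono ((hmono' g 0 i (Nat.zero_le i)).trans hNR)).trans hRS) ?_
            show _ ≤ Subgroup.normalizer (Wt (h * g) 0 : Set G)
            rw [e, ← hnorm]
            exact Subgroup.map_mono inf_le_right
          · show ¬ p ∣ Subgroup.relIndex _ (Subgroup.normalizer (Wt (h * g) 0 : Set G))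
            rw [e, ← hnorm, hrel]
            exact hgood 0 hji
        | succ j ihj =>
          intro hji
          have e : Wt (h * g) (j + 1) = (Wt g (j + 1)).map (MulAut.conj h).toMonoidHom := by
            show W (N (h * g) j) = (W (N g j)).map _
            rw [(ihj (by omega)).2 (by omega), (hW _ (hN g j)).2.2 h]
          refine ⟨e, fun hlt => (eq_of_relIndex ?_ inf_le_right (hN _ _) ?_).symm⟩
          · refine le_inf ((Subgroup.map_mono ((hmono' g (j + 1) i (by omega)).trans hNR)).trans hRS) ?_
            show _ ≤ Subgroup.normalizer (Wt (h * g) (j + 1) : Set G)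
            rw [e, ← hnorm]
            exact Subgroup.map_mono inf_le_right
          · show ¬ p ∣ Subgroup.relIndex _ (Subgroup.normalizer (Wt (h * g) (j + 1) : Set G))
            rw [e, ← hnorm, hrel]
            exact hgood (j + 1) hlt
      intro j hj
      rcases Nat.lt_or_ge j i with hlt | hge
      · rw [(main j hlt.le).2 hlt, (main j hlt.le).1, ← hnorm, hrel]
        exact hgood j hlt
      · obtain rfl : j = i := by omega
        have e := (main j le_rfl).1
        have hle : R'.map (MulAut.conj h).toMonoidHom ≤ N (h * g) j := by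
          refine le_inf hRS ?_
          show _ ≤ Subgroup.normalizer (Wt (h * g) j : Set G)
          rw [e, ← hnorm]
          exact Subgroup.map_mono (Subgroup.map_subtype_le _)
        intro hd
        have hd' := hd.trans (Subgroup.relIndex_dvd_of_le_left _ hle)
        rw [e, ← hnorm, hrel] at hd'
        have e2 : R'.relIndex M = (R : Subgroup M).index := by
          rw [Subgroup.relIndex, Subgroup.subgroupOf, Subgroup.comap_map_eq_self_of_injective M.subtype_injective]
        exact R.not_dvd_index (e2 ▸ hd')
  obtain ⟨g, hg, hgood⟩ := step (Nat.card G + 3)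
  refine ⟨g, hg, ?_⟩
  have hstab : ∃ j ≤ Nat.card G, N g j = N g (j + 1) := by
    by_contra hne
    push Not at hne
    have hcard : ∀ j, j ≤ Nat.card G + 1 → j + 1 ≤ Nat.card (N g j) := by
      intro j
      induction j with
      | zero => intro _; exact Finite.card_pos
      | succ j ih =>
        intro hj
        have h1 := ih (by omega)
        have h2 : Nat.card (N g j) < Nat.card (N g (j + 1)) := by
          rcases (Subgroup.card_le_of_le (hmono g j)).lt_or_eq with h | h
          · exact h
          · exact absurd (Subgroup.eq_of_le_of_card_ge (hmono g j) h.ge) (hne j (by omega))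
        omega
    have := hcard (Nat.card G + 1) le_rfl
    have := Subgroup.card_le_card_group (N g (Nat.card G + 1))
    omega
  obtain ⟨j, hj, he⟩ := hstab
  have hconst : ∀ k, N g (j + 1 + k) = N g (j + 1) ∧ Wt g (j + 1 + k) = Wt g (j + 1) := by
    intro k
    induction k with
    | zero => exact ⟨rfl, rfl⟩
    | succ k ih =>
      have e : Wt g (j + 1 + (k + 1)) = Wt g (j + 1) := by
        show W (N g (j + 1 + k)) = W (N g j)
        rw [ih.1, he]
      exact ⟨congrArg (fun K : Subgroup G => (S : Subgroup G) ⊓ Subgroup.normalizer (K : Set G)) e, e⟩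
  intro i
  rcases Nat.lt_or_ge i (j + 1) with hlt | hge
  · exact hgood i (by omega)
  · obtain ⟨k, rfl⟩ := Nat.exists_eq_add_of_le hge
    show ¬ p ∣ (N g (j + 1 + k)).relIndex (Subgroup.normalizer (Wt g (j + 1 + k) : Set G))
    rw [(hconst k).1, (hconst k).2]
    exact hgood _ (by omega)

end Cfsg.Agent.S1963
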