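import Cfsg.Statements.S1965
import Cfsg.Agent.Lib.StrongFusion.Family

set_option autoImplicit false
set_option linter.unusedVariables false
open Cfsg
open scoped commutatorElement

namespace Cfsg.Agent.S1965

/-- Let p be a prime, G a finite group with Sylow p-subgroup S and 𝓕 a set of subgroups of S. Suppose that every subgroup T of S is G-conjugate to some member U of 𝓕 for which N_S(U) is a Sylow p-subgroup of N_G(U). Then 𝓕 is a conjugation family for S in G. -/
theorem result {G : Type*} [Group G] [Finite G] {p : ℕ} [Fact p.Prime] (S : Sylow p G) (𝓕 : Set (Subgroup G)) (h𝓕 : ∀ U ∈ 𝓕, U ≤ (S : Subgroup G)) (h : ∀ T : Subgroup G, T ≤ (S : Subgroup G) → ∃ U ∈ 𝓕, (∃ g : G, T.map (MulAut.conj g).toMonoidHom = U) ∧ ¬ p ∣ ((S : Subgroup G) ⊓ Subgroup.normalizer ((U : Subgroup G) : Set G)).relIndex (Subgroup.normalizer ((U : Subgroup G) : Set G))) : Cfsg.IsConjugationFamily 𝓕 (S : Subgroup G) := by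
  refine CfsgLib.StrongFusion.isConjugationFamily_of_good S 𝓕 h𝓕 (fun T hT => ?_)
  obtain ⟨U, hU, ⟨g, hg⟩, hfull⟩ := h T hT
  obtain ⟨m, hm, hmle⟩ := CfsgLib.StrongFusion.exists_conj_le (Q := (S : Subgroup G) ⊓ Subgroup.normalizer (U : Set G))
    inf_le_right (S.2.to_le inf_le_left) hfull (R := CfsgLib.StrongFusion.cm g ((S : Subgroup G) ⊓ Subgroup.normalizer (T : Set G)))
    (by
      refine (CfsgLib.StrongFusion.cm_mono inf_le_right).trans (le_of_eq ?_)
      rw [← hg]
      exact Subgroup.map_normalizer_eq_of_bijective T (f := (MulAut.conj g).toMonoidHom) (MulAut.conj g).bijective)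
    ((S.2.to_le inf_le_left).map _)
  rw [CfsgLib.StrongFusion.cm_cm] at hmle
  have e : CfsgLib.StrongFusion.cm (m * g) T = U := by
    rw [← CfsgLib.StrongFusion.cm_cm, show CfsgLib.StrongFusion.cm g T = U from hg]
    exact CfsgLib.Local.map_conj_eq_of_mem_normalizer hm
  exact ⟨m * g, hmle.trans inf_le_left, by rw [e]; exact ⟨hU, hfull⟩⟩

end Cfsg.Agent.S1965
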