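import Cfsg.Statements.S1966
import Cfsg.Agent.Lib.Basic

set_option autoImplicit false
set_option linter.unusedVariables false
open Cfsg
open scoped commutatorElement

namespace Cfsg.Agent.S1966

/-- Let p be a prime, G a finite group with Sylow p-subgroup S and 𝓕 a conjugation family for S in G. Then the members of 𝓕 containing O_p(G) still form a conjugation family for S in G. -/
theorem result {G : Type*} [Group G] [Finite G] {p : ℕ} [Fact p.Prime] (S : Sylow p G) (𝓕 : Set (Subgroup G)) (h : Cfsg.IsConjugationFamily 𝓕 (S : Subgroup G)) : Cfsg.IsConjugationFamily {T : Subgroup G | T ∈ 𝓕 ∧ Cfsg.pCore p G ≤ T} (S : Subgroup G) := by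
  refine ⟨fun T hT => h.1 T hT.1, fun A g hA hAS hg => ?_⟩
  have hO : (Cfsg.pCore p G : Set G) ⊆ (S : Subgroup G) := CfsgLib.pCore_le_sylow S
  haveI : (Cfsg.pCore p G).Normal := inferInstance
  have hconj : ∀ (c : G), ∀ a ∈ Cfsg.pCore p G, c⁻¹ * a * c ∈ Cfsg.pCore p G := fun c a ha => by
    have := Subgroup.Normal.conj_mem ‹(Cfsg.pCore p G).Normal› a ha c⁻¹
    rwa [inv_inv] at this
  obtain ⟨n, T, x, hp, hF, hx, h0, hstep⟩ := h.2 (A ∪ (Cfsg.pCore p G : Set G)) g (hA.mono Set.subset_union_left)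
    (Set.union_subset hAS hO) (by
      rintro _ ⟨a, ha, rfl⟩
      rcases ha with ha | ha
      · exact hg ⟨a, ha, rfl⟩
      · exact hO (hconj g a ha))
  refine ⟨n, T, x, hp, fun i => ⟨hF i, ?_⟩, hx, fun hn => Set.subset_union_left.trans (h0 hn),
    fun i hi => (Set.image_mono Set.subset_union_left).trans (hstep i hi)⟩
  intro a ha
  obtain ⟨i, hi⟩ := i
  rcases i with _ | j
  · exact h0 hi (Or.inr ha)
  · have hj : (⟨j, by omega⟩ : Fin n).val + 1 < n := hi
    have := hstep ⟨j, by omega⟩ hj ⟨_, Or.inr (hconj (((List.ofFn x).take (j + 1)).prod)⁻¹ a ha), rfl⟩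
    simpa [mul_assoc] using this

end Cfsg.Agent.S1966
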