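import Cfsg.Statements.S1967
import Cfsg.Agent.Lib.Local

set_option autoImplicit false
set_option linter.unusedVariables false
open Cfsg
open scoped commutatorElement

namespace Cfsg.Agent.S1967

/-- Let p be a prime, G a finite group with Sylow p-subgroup S and W a conjugacy functor for p on G. Then W controls strong fusion in G if and only if, whenever T ≤ S and g ∈ G satisfy gTg⁻¹ ≤ S, one can write g = n c with n ∈ N_G(W(S)) and c ∈ C_G(T). -/
theorem result {G : Type*} [Group G] [Finite G] {p : ℕ} [Fact p.Prime] (S : Sylow p G) (W : Subgroup G → Subgroup G) (hW : Cfsg.IsConjugacyFunctor p W) : Cfsg.ControlsStrongFusionIn p W ⊤ ↔ ∀ (T : Subgroup G) (g : G), T ≤ (S : Subgroup G) → T.map (MulAut.conj g).toMonoidHom ≤ (S : Subgroup G) → ∃ n ∈ Subgroup.normalizer ((W (S : Subgroup G) : Subgroup G) : Set G), ∃ c ∈ Subgroup.centralizer (T : Set G), g = n * c := by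
  constructor
  · rintro ⟨T₀, -, hT₀, hidx, h⟩ T g hTS hgT
    rw [Subgroup.relIndex_top_right] at hidx
    set P₀ : Sylow p G := hT₀.toSylow hidx
    obtain ⟨k, hk⟩ := MulAction.exists_smul_eq G P₀ S
    have hS : (S : Subgroup G) = T₀.map (MulAut.conj k).toMonoidHom := by
      rw [← hk, Sylow.coe_subgroup_smul]; rfl
    have hmem : ∀ {x : G}, x ∈ (S : Subgroup G) ↔ k⁻¹ * x * k ∈ T₀ := by
      intro x; rw [hS, CfsgLib.Local.mem_map_conj]
    obtain ⟨x, ⟨-, hx⟩, he⟩ := h ((fun a => k⁻¹ * a * k) '' (T : Set G)) (k⁻¹ * g * k) trivial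
      (by rintro _ ⟨a, ha, rfl⟩; exact hmem.1 (hTS ha))
      (by
        rintro _ ⟨_, ⟨a, ha, rfl⟩, rfl⟩
        have h1 := hmem.1 (hgT ⟨a, ha, rfl⟩)
        simpa [mul_assoc] using h1)
    refine ⟨k * x * k⁻¹, ?_, k * x⁻¹ * k⁻¹ * g, ?_, by group⟩
    · rw [hS, (hW T₀ hT₀).2.2 k]
      refine Subgroup.mem_normalizer_iff.2 fun y => ?_
      rw [CfsgLib.Local.mem_map_conj, CfsgLib.Local.mem_map_conj, Subgroup.mem_normalizer_iff.1 hx (k⁻¹ * y * k)]
      simp [mul_assoc]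
    · intro a ha
      have e := he _ ⟨a, ha, rfl⟩
      calc a * (k * x⁻¹ * k⁻¹ * g)
          = k * x⁻¹ * (x * (k⁻¹ * a * k) * x⁻¹) * k⁻¹ * g := by group
        _ = k * x⁻¹ * (k⁻¹ * g * k * (k⁻¹ * a * k) * (k⁻¹ * g * k)⁻¹) * k⁻¹ * g := by rw [e]
        _ = _ := by group
  · intro h
    refine ⟨S, le_top, S.2, by rw [Subgroup.relIndex_top_right]; exact S.not_dvd_index, fun A g _ hA hgA => ?_⟩
    obtain ⟨n, hn, c, hc, rfl⟩ := h (Subgroup.closure A) g ((Subgroup.closure_le _).2 hA) (by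
      rw [MonoidHom.map_closure]
      exact (Subgroup.closure_le _).2 hgA)
    refine ⟨n, ⟨trivial, hn⟩, fun a ha => ?_⟩
    have e := hc a (Subgroup.subset_closure ha)
    calc n * a * n⁻¹ = n * (a * c) * c⁻¹ * n⁻¹ := by group
      _ = n * (c * a) * c⁻¹ * n⁻¹ := by rw [e]
      _ = _ := by group

end Cfsg.Agent.S1967
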