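import Cfsg.Statements.S1968
import Cfsg.Agent.Lib.StrongFusion.Family

set_option autoImplicit false
set_option linter.unusedVariables false
open Cfsg
open scoped commutatorElement

namespace Cfsg.Agent.S1968

open CfsgLib CfsgLib.StrongFusion in
theorem exists_moving_step {G : Type*} [Group G] {St : Subgroup G → G → Prop} {A : Subgroup G} {g : G}
    (h : FChain St A g) (hne : cm g A ≠ A) : ∃ T n, St T n ∧ A ≤ T ∧ cm n A ≠ A := by
  induction h with
  | one => exact absurd (cm_one _) hne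
  | @step A T n g hs hA _ ih =>
    by_cases hn : cm n A = A
    · rw [hn] at ih
      rw [← cm_cm, hn] at hne
      exact ih hne
    · exact ⟨T, n, hs, hA, hn⟩

/-- Let p be a prime, G a finite group with Sylow p-subgroup S and W a conjugacy functor for p on G with Z(P) ≤ W(P) for every p-subgroup P. Let A be a subgroup of Z(S) normalized by N_G(W(S)) that is not weakly closed in S with respect to G. Then there is a subgroup T of S, well placed in S with respect to W, such that: A ≤ T; N_G(W(N_S(T))) normalizes A; N_S(T) is a Sylow p-subgroup of N_G(T); A ≤ Z(N_S(T)); and A is not weakly closed in N_S(T) with respect to N_G(T), that is, some N_G(T)-conjugate of A other than A lies in N_S(T). -/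
theorem result {G : Type*} [Group G] [Finite G] {p : ℕ} [Fact p.Prime] (S : Sylow p G) (W : Subgroup G → Subgroup G) (hW : Cfsg.IsConjugacyFunctor p W) (hWZ : ∀ P : Subgroup G, IsPGroup p ↥P → P ⊓ Subgroup.centralizer (P : Set G) ≤ W P) (A : Subgroup G) (hAZ : A ≤ (S : Subgroup G) ⊓ Subgroup.centralizer ((S : Subgroup G) : Set G)) (hAN : Subgroup.normalizer ((W (S : Subgroup G) : Subgroup G) : Set G) ≤ Subgroup.normalizer ((A : Subgroup G) : Set G)) (hnwc : ¬ Cfsg.IsWeaklyClosed A (S : Subgroup G)) : ∃ T : Subgroup G, Cfsg.IsWellPlaced p W (S : Subgroup G) T ∧ A ≤ T ∧ Subgroup.normalizer ((W ((S : Subgroup G) ⊓ Subgroup.normalizer ((T : Subgroup G) : Set G)) : Subgroup G) : Set G) ≤ Subgroup.normalizer ((A : Subgroup G) : Set G) ∧ ¬ p ∣ ((S : Subgroup G) ⊓ Subgroup.normalizer ((T : Subgroup G) : Set G)).relIndex (Subgroup.normalizer ((T : Subgroup G) : Set G)) ∧ A ≤ Subgroup.centralizer (((S : Subgroup G) ⊓ Subgroup.normalizer ((T : Subgroup G) : Set G) : Subgroup G)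 : Set G) ∧ ∃ g ∈ Subgroup.normalizer ((T : Subgroup G) : Set G), A.map (MulAut.conj g).toMonoidHom ≤ (S : Subgroup G) ⊓ Subgroup.normalizer ((T : Subgroup G) : Set G) ∧ A.map (MulAut.conj g).toMonoidHom ≠ A := by
  open CfsgLib.StrongFusion in
  have hgood : ∀ U ≤ (S : Subgroup G), ∃ y, cm y ((S : Subgroup G) ⊓ Subgroup.normalizer (U : Set G)) ≤ (S : Subgroup G) ∧
      Cfsg.IsWellPlaced p W (S : Subgroup G) (cm y U) := fun U hU => exists_wellPlaced S
    (fun T hT hT0 => hW_of_isConjugacyFunctor S hW hT hT0)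
    (fun T hT y _ => (hW T (S.2.to_le hT)).2.2 y) hU
  have hAS : A ≤ (S : Subgroup G) := hAZ.trans inf_le_left
  simp only [Cfsg.IsWeaklyClosed, not_and, not_forall] at hnwc
  obtain ⟨g, hg, hgne⟩ := hnwc hAS
  have hch := CfsgLib.StrongFusion.fchain_of_good (St := fun T n => Cfsg.IsWellPlaced p W (S : Subgroup G) T ∧
      n ∈ Subgroup.normalizer (T : Set G)) S ⟨fun _ _ h => h.2, fun _ _ h => ⟨h.1, inv_mem h.2⟩⟩
    (fun U => Cfsg.IsWellPlaced p W (S : Subgroup G) U) hgood (fun _ _ h => h.2 0)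
    (fun V _ hVg _ w hw => .single ⟨hVg, hw⟩ le_rfl) hAS hg
  obtain ⟨T₀, n₀, hs₀, hA₀, hne₀⟩ := exists_moving_step hch hgne
  set 𝒯 : Set (Subgroup G) := {T | Cfsg.IsWellPlaced p W (S : Subgroup G) T ∧ A ≤ T ∧
    ∃ n ∈ Subgroup.normalizer (T : Set G), A.map (MulAut.conj n).toMonoidHom ≠ A}
  obtain ⟨T, ⟨hwp, hAT, n, hn, hne⟩, hmax⟩ := Set.exists_max_image 𝒯
    (fun T : Subgroup G => Nat.card ↥((S : Subgroup G) ⊓ Subgroup.normalizer (T : Set G))) (Set.toFinite _)
    ⟨T₀, hs₀.1, hA₀, n₀, hs₀.2, hne₀⟩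
  set ST := (S : Subgroup G) ⊓ Subgroup.normalizer (T : Set G) with hST
  have hTST : T ≤ ST := le_inf hwp.1 Subgroup.le_normalizer
  have hAC : A ≤ Subgroup.centralizer (ST : Set G) :=
    (hAZ.trans inf_le_right).trans (Subgroup.centralizer_le (fun x hx => hx.1))
  refine ⟨T, hwp, hAT, ?_, hwp.2 0, hAC, n, hn, ?_, hne⟩
  · intro m hm
    by_cases hTS : ST = (S : Subgroup G)
    · exact hAN (hTS ▸ hm)
    refine CfsgLib.Local.mem_normalizer_of_map_conj_eq ?_
    by_contra hmne
    have hST0 : ST ≠ ⊥ := fun h => hne (by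
      have : A = ⊥ := le_bot_iff.1 ((hAT.trans hTST).trans h.le)
      rw [this, Subgroup.map_bot])
    obtain ⟨hWT, -, hWn⟩ := CfsgLib.StrongFusion.hW_of_isConjugacyFunctor S hW (T := ST) inf_le_left hST0
    have htower : ∀ i, Cfsg.functorTower W (S : Subgroup G) (W ST) i = Cfsg.functorTower W (S : Subgroup G) T (i + 1) := by
      intro i
      induction i with
      | zero => rfl
      | succ i ih =>
        show W ((S : Subgroup G) ⊓ _) = W ((S : Subgroup G) ⊓ _)
        rw [ih]
    have hwp' : Cfsg.IsWellPlaced p W (S : Subgroup G) (W ST) :=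
      ⟨hWT.trans inf_le_left, fun i => by rw [htower i]; exact hwp.2 (i + 1)⟩
    have hAW : A ≤ W ST := (le_inf (hAT.trans hTST) hAC).trans (hWZ ST (S.2.to_le inf_le_left))
    have hle := hmax (W ST) ⟨hwp', hAW, m, hm, hmne⟩
    have hlt : ST < (S : Subgroup G) ⊓ Subgroup.normalizer (W ST : Set G) :=
      (CfsgLib.StrongFusion.lt_inf_normalizer S inf_le_left hTS).trans_le (le_inf inf_le_left hWn)
    exact hlt.ne (Subgroup.eq_of_le_of_card_ge hlt.le hle)
  · exact ((Subgroup.map_mono hAT).trans (CfsgLib.Local.map_conj_eq_of_mem_normalizer hn).le).trans hTST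

end Cfsg.Agent.S1968
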