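import Cfsg.Statements.S1969
import Cfsg.Agent.Lib.StrongFusion.Functors

set_option autoImplicit false
set_option linter.unusedVariables false
universe u
open Cfsg
open scoped commutatorElement

namespace Cfsg.Agent.S1969

/-- Let p be a prime, G a finite group and W an isomorphism-invariant p-group functor (W assigns to every group Q a subgroup W(Q), nontrivial whenever Q is a nontrivial finite p-group, and every isomorphism from a finite p-group Q onto a group R carries W(Q) onto W(R)). Suppose that W(S*) is normal in G* whenever G* = K/R is a section of G with C_{G*}(O_p(G*)) ≤ O_p(G*) and S* is a Sylow p-subgroup of G*. Then W controls strong fusion in every section of G: for every section K/R and every Sylow p-subgroup T of K/R, the subgroup W(T) controls strong fusion in K/R. -/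
theorem result {G : Type u} [Group G] [Finite G] {p : ℕ} [Fact p.Prime] (W : ∀ (Q : Type u) [Group Q], Subgroup Q) (hW : Cfsg.IsCharPFunctor.{u} p W) (hloc : ∀ (K R : Subgroup G) [hR : (R.subgroupOf K).Normal], Subgroup.centralizer ((Cfsg.pCore p (↥K ⧸ R.subgroupOf K) : Subgroup (↥K ⧸ R.subgroupOf K)) : Set (↥K ⧸ R.subgroupOf K)) ≤ Cfsg.pCore p (↥K ⧸ R.subgroupOf K) → ∀ T : Sylow p (↥K ⧸ R.subgroupOf K), (Cfsg.inducedFunctor (G := (↥K ⧸ R.subgroupOf K)) W ((T : Subgroup (↥K ⧸ R.subgroupOf K)))).Normal) : ∀ (K R : Subgroup G) [hR : (R.subgroupOf K).Normal], ∀ T : Sylow p (↥K ⧸ R.subgroupOf K), Cfsg.ControlsStrongFusion p (Cfsg.inducedFunctor (G := (↥K ⧸ R.subgroupOf K)) W ((T : Subgroup (↥K ⧸ R.subgroupOf K)))) := by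
  intro K R hR T
  have hW' : ∀ W' ∈ ({W} : Set (∀ (Q : Type u) [Group Q], Subgroup Q)), Cfsg.IsCharPFunctor.{u} p W' := by
    rintro W' rfl; exact hW
  have hbase : CfsgLib.StrongFusion.Base p {W} True G := CfsgLib.StrongFusion.base_of_sections hW' True
    fun K' R' _ hcon T' D _ hfull A g hA hg => by
      haveI := hloc K' R' hcon T'
      refine .single (CfsgLib.StrongFusion.mem_steps_famAt.2 ⟨W, rfl, ?_⟩) hA hg
      rw [hfull trivial, inf_idem, Subgroup.normalizer_eq_top]
      trivial
  have hctrl := CfsgLib.StrongFusion.ctrl_of_base {W} True hW'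
    (fun Y _ _ hY => hbase Y (CfsgLib.StrongFusion.involves_of_section K R hY)) T _ ⟨le_rfl, fun x _ g hg => hg⟩ (fun _ => rfl)
  refine ⟨T, Subgroup.map_subtype_le _, fun A hA => ?_⟩
  refine CfsgLib.StrongFusion.controlsOf_of_chain T ?_ hctrl hA
  intro n hn
  obtain ⟨W', rfl, hn'⟩ := CfsgLib.StrongFusion.mem_steps_famAt.1 hn
  show n ∈ Subgroup.normalizer _
  rwa [inf_idem] at hn'

end Cfsg.Agent.S1969
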