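import Cfsg.Statements.S1972
import Cfsg.Agent.Lib.TransferControl.Apply

set_option autoImplicit false
set_option linter.unusedVariables false
universe u
open Cfsg
open scoped commutatorElement

namespace Cfsg.Agent.S1972

open CfsgLib CfsgLib.TransferControl in
theorem main {G : Type u} [Group G] [Finite G] {p : ℕ} [Fact p.Prime] (W : ∀ (Q : Type u) [Group Q], Subgroup Q) (hW : Cfsg.IsCharPFunctor.{u} p W) (hloc : ∀ (K R : Subgroup G) [hR : (R.subgroupOf K).Normal], Subgroup.centralizer ((Cfsg.pCore p (↥K ⧸ R.subgroupOf K) : Subgroup (↥K ⧸ R.subgroupOf K)) : Set (↥K ⧸ R.subgroupOf K)) ≤ Cfsg.pCore p (↥K ⧸ R.subgroupOf K) → ∀ T : Sylow p (↥K ⧸ R.subgroupOf K), ¬ (Cfsg.inducedFunctor (G := (↥K ⧸ R.subgroupOf K)) W ((T : Subgroup (↥K ⧸ R.subgroupOf K)))).Normal → ∃ g : (↥K ⧸ R.subgroupOf K), g ∈ (T : Subgroup (↥K ⧸ R.subgroupOf K)) ∧ g ∉ Cfsg.pCore p (↥K ⧸ R.subgroupOf K) ∧ ∀ U V : Subgroup (↥K ⧸ R.subgroupOf K), Cfsg.IsChiefFactor U V → U ≤ Cfsg.pCore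 p (↥K ⧸ R.subgroupOf K) → Cfsg.iterCommutator U (Subgroup.zpowers g) (p - 1) ≤ V) :
    ∀ (K R : Subgroup G) [hR : (R.subgroupOf K).Normal], Cfsg.ControlsTransferIn p (Cfsg.inducedFunctor (G := (↥K ⧸ R.subgroupOf K)) W) ⊤ := by
  have h𝔚 : ∀ W' ∈ ({W} : Set (∀ (Q : Type u) [Group Q], Subgroup Q)), IsCharPFunctor p W' := by
    rintro W' rfl; exact hW
  have hbase : Base p {W} G := by
    refine base_of_good hW fun Y _ _ hY hcon T hn => ?_
    refine involves_elim hY fun K R _ e => ?_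
    set T' := T.mapSurjective (f := e.symm.toMonoidHom) e.symm.surjective
    obtain ⟨g, hg, hgQ, hgood⟩ := hloc K R (StrongFusion.constrained_of_equiv e hcon) T' (fun h => hn (by
      have h' := StrongFusion.inducedFunctor_map hW e.toMonoidHom T'.2 e.injective.injOn
      rw [show ((T' : Subgroup (↥K ⧸ R.subgroupOf K))).map e.toMonoidHom = (T : Subgroup Y) by
        show ((T : Subgroup Y).map e.symm.toMonoidHom).map e.toMonoidHom = _
        rw [Subgroup.map_map, show e.toMonoidHom.comp e.symm.toMonoidHom = MonoidHom.id Y from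
          MonoidHom.ext fun y => e.apply_symm_apply y, Subgroup.map_id]] at h'
      rw [h']
      exact h.map _ e.surjective))
    obtain ⟨t, ht, hte⟩ := hg
    refine ⟨e g, ?_, fun h => hgQ ?_, good_equiv e (good_of_iterCommutator hgood)⟩
    · rw [← hte]; rw [MulEquiv.coe_toMonoidHom, e.apply_symm_apply]; exact ht
    · obtain ⟨z, hz, hze⟩ := (pCore_map_equiv p e).ge h
      exact e.injective hze ▸ hz
  exact fun K R _ => single_of_ok (ok_sections h𝔚 (derived_of_mem h𝔚 rfl) hbase K R)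

/-- Let p be a prime, G a finite group and W an isomorphism-invariant p-group functor (W assigns to every group Q a subgroup W(Q), nontrivial whenever Q is a nontrivial finite p-group, and every isomorphism from a finite p-group Q onto a group R carries W(Q) onto W(R)). Suppose that whenever G* = K/R is a section of G with C_{G*}(O_p(G*)) ≤ O_p(G*) and S* is a Sylow p-subgroup of G* with W(S*) not normal in G*, there is an element g of S* outside O_p(G*) such that [X, g, …, g] ≤ Y with p − 1 entries g, for every chief factor X/Y of G* with X ≤ O_p(G*). Then W controls transfer in every section of G. -/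
theorem result {G : Type u} [Group G] [Finite G] {p : ℕ} [Fact p.Prime] (W : ∀ (Q : Type u) [Group Q], Subgroup Q) (hW : Cfsg.IsCharPFunctor.{u} p W) (hloc : ∀ (K R : Subgroup G) [hR : (R.subgroupOf K).Normal], Subgroup.centralizer ((Cfsg.pCore p (↥K ⧸ R.subgroupOf K) : Subgroup (↥K ⧸ R.subgroupOf K)) : Set (↥K ⧸ R.subgroupOf K)) ≤ Cfsg.pCore p (↥K ⧸ R.subgroupOf K) → ∀ T : Sylow p (↥K ⧸ R.subgroupOf K), ¬ (Cfsg.inducedFunctor (G := (↥K ⧸ R.subgroupOf K)) W ((T : Subgroup (↥K ⧸ R.subgroupOf K)))).Normal → ∃ g : (↥K ⧸ R.subgroupOf K), g ∈ (T : Subgroup (↥K ⧸ R.subgroupOf K)) ∧ g ∉ Cfsg.pCore p (↥K ⧸ R.subgroupOf K) ∧ ∀ U V : Subgroup (↥K ⧸ R.subgroupOf K), Cfsg.IsChiefFactor U V → U ≤ Cfsg.pCore p (↥K ⧸ R.subgroupOf K) → Cfsg.iterCommutator U (Subgroup.zpowers g) (p - 1) ≤ V) : ∀ (K R : Subgroup G) [hR : (R.subgroupOf K).Normal], Cfsg.ControlsTransferIn p (Cfsg.inducedFunctor (G := (↥K ⧸ R.subgroupOf K)) W) ⊤ := by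
  exact main W hW hloc

end Cfsg.Agent.S1972
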