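import Cfsg.Statements.S1980

set_option autoImplicit false
set_option linter.unusedVariables false
open Cfsg
open scoped commutatorElement

namespace Cfsg.Agent.S1980

/-- Let P be a finite p-group and A an abelian normal subgroup of P. Then A belongs to every family used to build the K-sequence of P: the class-two family, every lower-star family relative to an odd-indexed term, and every upper-star family relative to an even-indexed term. In particular A lies in every term of the K-sequence. -/
theorem result {P : Type*} [Group P] [Finite P] {p : ℕ} [Fact p.Prime] (hP : IsPGroup p P) (A : Subgroup P) [A.Normal] (hA : IsMulCommutative ↥A) : A ∈ Cfsg.classTwoSubgroups P ∧ ∀ n : ℕ, A ∈ Cfsg.kLowerStarFamily (Cfsg.kSeqOdd P n) ∧ A ∈ Cfsg.kUpperStarFamily (Cfsg.kSeqEven P n) := by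
  have hAA : ⁅A, A⁆ = ⊥ := Subgroup.commutator_eq_bot_iff_le_centralizer.2 fun a ha b hb =>
    Subtype.ext_iff.1 (hA.is_comm.comm (⟨b, hb⟩ : A) ⟨a, ha⟩)
  have hAC : A ≤ Subgroup.centralizer (A : Set P) := Subgroup.commutator_eq_bot_iff_le_centralizer.1 hAA
  have h2 : A ∈ Cfsg.classTwoSubgroups P := by
    show ⁅A, A⁆ ≤ _
    rw [hAA]; exact bot_le
  have hle : ∀ B : Subgroup P, ⁅A, B⁆ ≤ A ⊓ Subgroup.centralizer (A : Set P) := fun B => by
    rw [inf_of_le_left hAC]
    exact Subgroup.commutator_le_left A B
  exact ⟨h2, fun n => ⟨⟨h2, by simp [Subgroup.normalizer_eq_top], fun B _ _ _ _ _ => hle B⟩, h2, hle _⟩⟩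

end Cfsg.Agent.S1980
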