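import Cfsg.Statements.S1981

set_option autoImplicit false
set_option linter.unusedVariables false
open Cfsg
open scoped commutatorElement

namespace Cfsg.Agent.S1981

/-- Let P be a finite p-group generated by its abelian normal subgroups. Then both K-infinity subgroups of P equal P. -/
theorem result {P : Type*} [Group P] [Finite P] {p : ℕ} [Fact p.Prime] (hP : IsPGroup p P) (hgen : ⨆ A ∈ {A : Subgroup P | A.Normal ∧ IsMulCommutative ↥A}, A = ⊤) : Cfsg.kInfLower P = ⊤ ∧ Cfsg.kInfUpper P = ⊤ := by
  have hlow : ∀ Q : Subgroup P, sSup (Cfsg.kLowerStarFamily Q) = ⊤ ∧ sSup (Cfsg.kUpperStarFamily Q) = ⊤ := by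
    intro Q
    constructor <;> rw [← top_le_iff, ← hgen] <;> refine iSup₂_le fun A hA => le_sSup ?_
    all_goals
      obtain ⟨hn, hA⟩ := hA
      haveI := hn
      have hAA : ⁅A, A⁆ = ⊥ := Subgroup.commutator_eq_bot_iff_le_centralizer.2 fun a ha b hb =>
        Subtype.ext_iff.1 (hA.is_comm.comm (⟨b, hb⟩ : A) ⟨a, ha⟩)
      have hAC : A ≤ Subgroup.centralizer (A : Set P) := Subgroup.commutator_eq_bot_iff_le_centralizer.1 hAA
      have h2 : A ∈ Cfsg.classTwoSubgroups P := by
        show ⁅A, A⁆ ≤ _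
        rw [hAA]; exact bot_le
      have hle : ∀ B : Subgroup P, ⁅A, B⁆ ≤ A ⊓ Subgroup.centralizer (A : Set P) := fun B => by
        rw [inf_of_le_left hAC]
        exact Subgroup.commutator_le_left A B
      first
      | exact ⟨h2, by simp [Subgroup.normalizer_eq_top], fun B _ _ _ _ _ => hle B⟩
      | exact ⟨h2, hle _⟩
  constructor
  · exact top_le_iff.1 (le_iSup_of_le 0 (hlow _).1.ge)
  · refine top_le_iff.1 (le_iInf fun n => ?_)
    cases n with
    | zero => exact le_rfl
    | succ n => exact (hlow _).2.ge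

end Cfsg.Agent.S1981
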