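import Cfsg.Statements.S1983
import Cfsg.Agent.Lib.KInf.Degree
import Cfsg.Agent.Lib.KInf.Stable

set_option autoImplicit false
set_option linter.unusedVariables false
universe u
open Cfsg
open scoped commutatorElement

namespace Cfsg.Agent.S1983

/-- Let p be a prime, G a finite group with Sylow p-subgroup S and T = O_p(G). Suppose that the lower or the upper K-infinity subgroup of S is not normal in G. Then there is an element g of S outside T such that [X, g, g, g, g] ≤ Y for every chief factor X/Y of G with X ≤ T, and [Z(T), g, g] = 1; and if moreover C_G(T) ≤ T then some quotient group of G is not p-stable (in the normalizer form: some quadratically acting element of a normalizer fails to map into O_p of the automizer). -/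
theorem result {G : Type u} [Group G] [Finite G] {p : ℕ} [Fact p.Prime] (S : Sylow p G) (hK : ¬ (Cfsg.inducedFunctor Cfsg.kInfLower (S : Subgroup G)).Normal ∨ ¬ (Cfsg.inducedFunctor Cfsg.kInfUpper (S : Subgroup G)).Normal) : ∃ g : G, g ∈ (S : Subgroup G) ∧ g ∉ (Cfsg.pCore p G) ∧ (∀ U V : Subgroup G, Cfsg.IsChiefFactor U V → U ≤ (Cfsg.pCore p G) → Cfsg.iterCommutator U (Subgroup.zpowers g) 4 ≤ V) ∧ ⁅⁅((Cfsg.pCore p G) ⊓ Subgroup.centralizer (((Cfsg.pCore p G) : Subgroup G) : Set G)), (Subgroup.zpowers g)⁆, (Subgroup.zpowers g)⁆ = ⊥ ∧ (Subgroup.centralizer (((Cfsg.pCore p G) : Subgroup G) : Set G) ≤ (Cfsg.pCore p G) → ∃ (N : Subgroup G) (_ : N.Normal), ¬ Cfsg.IsNormalizerPStable p (G ⧸ N)) := by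
  obtain ⟨A, hA, -, -, hA4⟩ := CfsgLib.KInf.exists_crit (G := G) (p := p)
  obtain ⟨g, hgS, hgT, hcub, hZq, hex⟩ := CfsgLib.KInf.witness_of_not_normal S hA hK
  haveI := hA.normal
  set T := Cfsg.pCore p G
  have hZA : T ⊓ Subgroup.centralizer (T : Set G) ≤ A ⊓ Subgroup.centralizer (A : Set G) := fun x hx =>
    have hxC := Subgroup.centralizer_le (SetLike.coe_subset_coe.2 hA.le) hx.2
    ⟨hA4 ⟨hx.1, hxC⟩, hxC⟩
  refine ⟨g, hgS, hgT, fun U V hUV hUT => ?_, ?_, fun hcon => ?_⟩
  · refine CfsgLib.KInf.degree_bound (i := 3) (j := 2) hA.pGroup hA.le hA.three hA4 (by norm_num) (by norm_num)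
      (fun U V hUV hUA => ?_) (fun U V hUV hUZ => ?_) hUV hUT
    · set Z := A ⊓ Subgroup.centralizer (A : Set G)
      haveI := hUV.2.1
      haveI := hUV.2.2.1
      haveI : Z.Normal := inferInstanceAs (A ⊓ Subgroup.centralizer (A : Set G)).Normal
      have hUTle : U ≤ T := hUA.trans hA.le
      have habU : ⁅U, U⁆ ≤ V :=
        (Subgroup.commutator_mono le_rfl hUTle).trans (CfsgLib.KInf.commutator_le_of_chief hA.pGroup hUV hUTle)
      refine CfsgLib.KInf.iterCommutator_le_of_dl habU fun u hu => ?_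
      rcases hUV.2.2.2 (V ⊔ U ⊓ Z) (Subgroup.sup_normal _ _) le_sup_left (sup_le hUV.1.le inf_le_left) with h | h
      · refine (le_sup_right.trans h.le) ⟨CfsgLib.KInf.dl_mem g hu 3, hcub ?_⟩
        exact CfsgLib.KInf.dl_mem_iterCommutator (hUA hu) 3
      · have hu' := h.ge hu
        rw [← SetLike.mem_coe, Subgroup.normal_mul] at hu'
        obtain ⟨v, hv, z, hz, rfl⟩ := hu'
        refine (QuotientGroup.eq_one_iff _).1 ?_
        show QuotientGroup.mk' V _ = 1
        rw [CfsgLib.KInf.map_dl, map_mul, show QuotientGroup.mk' V v = 1 from (QuotientGroup.eq_one_iff v).2 hv,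
          one_mul, ← CfsgLib.KInf.map_dl, CfsgLib.KInf.dl_succ]
        have h2 : CfsgLib.KInf.dl g 2 z = 1 := Subgroup.mem_bot.1 (hZq.le
          (CfsgLib.KInf.dl_mem_iterCommutator (U := A ⊓ Subgroup.centralizer (A : Set G)) hz.2 2))
        rw [h2, commutatorElement_one_right, map_one]
    · exact le_trans (le_trans (Subgroup.commutator_mono (Subgroup.commutator_mono hUZ le_rfl) le_rfl) hZq.le) bot_le
  · exact le_bot_iff.1 ((Subgroup.commutator_mono (Subgroup.commutator_mono hZA le_rfl) le_rfl).trans hZq.le)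
  · obtain ⟨U, V, hUV, hUA, h2, h1⟩ := hex hcon
    haveI := hUV.2.2.1
    exact ⟨V, hUV.2.2.1, CfsgLib.KInf.not_stable_quotient hUV (hA.pGroup.to_le (hUA.trans hA.le)) h2 h1⟩

end Cfsg.Agent.S1983
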