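import Cfsg.Statements.S1988
import Cfsg.Agent.Lib.KInf.Stable
import Cfsg.Agent.Lib.StrongFusion.Complement

set_option autoImplicit false
set_option linter.unusedVariables false
universe u
open Cfsg
open scoped commutatorElement

namespace Cfsg.Agent.S1988

open CfsgLib in
theorem npc_of_centralizer {G : Type u} [Group G] [Finite G] {p : ℕ} [Fact p.Prime] (S : Sylow p G) {U : Subgroup G}
    (hUS : U ≤ (S : Subgroup G)) (hSU : (S : Subgroup G) ≤ Subgroup.normalizer (U : Set G))
    (hCU : (S : Subgroup G) ⊓ Subgroup.centralizer (U : Set G) ≤ U)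
    (h : ∀ g ∈ Subgroup.normalizer (U : Set G), (orderOf g).Coprime p → g ∈ Subgroup.centralizer (U : Set G)) :
    Cfsg.HasNormalPComplement p ↥(Subgroup.normalizer (U : Set G)) := by
  set N := Subgroup.normalizer (U : Set G)
  set C := Subgroup.centralizer (U : Set G)
  set C' := C.subgroupOf N
  haveI : C'.Normal := (Subgroup.normal_subgroupOf_iff_le_normalizer (Subgroup.centralizer_le_normalizer _)).2
    (CharP.normalizer_le_normalizer_centralizer U)
  set R : Sylow p C' := Classical.arbitrary _
  set R₀ := ((R : Subgroup C').map C'.subtype).map N.subtype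
  obtain ⟨x, hx, hxS⟩ := StrongFusion.exists_conj_le (Q := (S : Subgroup G)) hSU S.2
    (fun hd => S.not_dvd_index (hd.trans (Subgroup.relIndex_dvd_index_of_le hSU))) (R := R₀)
    (Subgroup.map_subtype_le _) ((R.2.map _).map _)
  have hRC : ∀ r ∈ (R : Subgroup C'), ((r : N) : G) ∈ C := fun r _ => r.2
  have hcen : ∀ r ∈ (R : Subgroup C'), ∀ c : C', c * r = r * c := by
    intro r hr c
    have h1 : x * ((r : N) : G) * x⁻¹ ∈ (S : Subgroup G) := hxS ⟨_, ⟨_, ⟨r, hr, rfl⟩, rfl⟩, rfl⟩
    have h2 : x * ((r : N) : G) * x⁻¹ ∈ C :=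
      (Subgroup.mem_normalizer_iff.1 (CharP.normalizer_le_normalizer_centralizer U hx) _).1 r.2
    have h3 : ((r : N) : G) ∈ U := (Subgroup.mem_normalizer_iff.1 hx _).2 (hCU ⟨h1, h2⟩)
    exact Subtype.ext (Subtype.ext ((c.2 : ((c : N) : G) ∈ C) _ h3).symm)
  have hC' : HasNormalPComplement p C' := hasNormalPComplement_of_normalizer_le_centralizer R
    fun c _ r hr => (hcen r hr c).symm
  haveI : ((pPrimeCore p C').map C'.subtype).Normal := ConjAct.normal_of_characteristic_of_normal
  refine hasNormalPComplement_of_normal (N := (pPrimeCore p C').map C'.subtype) (by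
    rw [Subgroup.card_map_of_injective C'.subtype_injective]; exact card_pPrimeCore_coprime p) ?_
  refine isPGroup_quotient_of_pResidual_le (pResidual_le fun g hg => ?_)
  have hgC : g ∈ C' := h g g.2 (by rwa [Subgroup.orderOf_coe])
  exact ⟨⟨g, hgC⟩, mem_pPrimeCore_of_hasNormalPComplement hC' (by rwa [← Subgroup.orderOf_coe]), rfl⟩

open CfsgLib in
theorem centralizer_inf_le {G : Type u} [Group G] [Finite G] {p : ℕ} [Fact p.Prime] (S : Sylow p G) :
    (S : Subgroup G) ⊓ Subgroup.centralizer (Cfsg.inducedFunctor Cfsg.kInfLower (S : Subgroup G) : Set G) ≤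
      Cfsg.inducedFunctor Cfsg.kInfLower (S : Subgroup G) := fun x hx =>
  ⟨⟨x, hx.1⟩, (KInf.centralizer_kInf S.2).1 fun k hk => Subtype.ext (hx.2 k ⟨k, hk, rfl⟩), rfl⟩

/-- Let p be an odd prime, G a finite group with Sylow p-subgroup S and K the lower K-infinity subgroup of S. If N_G(K) has a normal p-complement, or if N_G(K)/C_G(K) is a p-group (every element of N_G(K) of order prime to p centralizes K), then G has a normal p-complement. -/
theorem result {G : Type u} [Group G] [Finite G] {p : ℕ} [Fact p.Prime] (hp : p ≠ 2) (S : Sylow p G) (h : Cfsg.HasNormalPComplement p ↥(Subgroup.normalizer ((Cfsg.inducedFunctor Cfsg.kInfLower (S : Subgroup G) : Subgroup G) : Set G)) ∨ ∀ g ∈ Subgroup.normalizer ((Cfsg.inducedFunctor Cfsg.kInfLower (S : Subgroup G) : Subgroup G) : Set G), (orderOf g).Coprime p → g ∈ Subgroup.centralizer ((Cfsg.inducedFunctor Cfsg.kInfLower (S : Subgroup G) : Subgroup G) : Set G)) : Cfsg.HasNormalPComplement p G := by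
  have hW := (CfsgLib.KInf.isCharPFunctor.{u} p).1
  refine CfsgLib.StrongFusion.hasNormalPComplement_of_control hp hW S ?_ ?_
  · intro Y _ _ _ hfree T
    exact CfsgLib.StrongFusion.ctrl_of_base {Cfsg.kInfLower} True (by rintro W' rfl; exact hW)
      (CfsgLib.KInf.base_kInf hp hfree (Or.inl rfl)) T (T : Subgroup Y) ⟨le_rfl, fun x _ y hy => hy⟩ fun _ => rfl
  · rcases h with h | h
    · exact h
    · exact npc_of_centralizer S (CfsgLib.StrongFusion.inducedFunctor_le _ _)
        (Subgroup.le_normalizer.trans (CfsgLib.StrongFusion.normalizer_le_normalizer_induced hW S.2))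
        (centralizer_inf_le S) h

end Cfsg.Agent.S1988
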