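import Cfsg.Statements.S1998
import Cfsg.Agent.Lib.TransferControl.Apply

set_option autoImplicit false
set_option linter.unusedVariables false
universe u
open Cfsg
open scoped commutatorElement

namespace Cfsg.Agent.S1998

open CfsgLib CfsgLib.TransferControl CfsgLib.StrongFusion in
theorem main {G : Type u} [Group G] [Finite G] {p : ℕ} [Fact p.Prime] (S : Sylow p G) (𝓦 : Set (∀ (Q : Type u) [Group Q], Subgroup Q)) (h𝓦 : ∀ W ∈ 𝓦, Cfsg.IsCharPFunctor.{u} p W) (hne : 𝓦.Nonempty) (hsec : ∀ (K R : Subgroup G) [hR : (R.subgroupOf K).Normal], (K = ⊤ → R ≠ ⊥) → Cfsg.FamilyControlsTransferIn p ((fun W => Cfsg.inducedFunctor (G := (↥K ⧸ R.subgroupOf K)) W) '' 𝓦) ⊤) (hG : ¬ Cfsg.FamilyControlsTransferIn p ((fun W => Cfsg.inducedFunctor (G := G) W) '' 𝓦) ⊤) (M : Subgroup G) (hM : M = Subgroup.normalizer ((tr 𝓦 (S : Subgroup G) ⊓ Cfsg.pCore p G : Subgroup G) : Set G)) :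
    Subgroup.centralizer ((Cfsg.pCore p G : Subgroup G) : Set G) ≤ Cfsg.pCore p G ∧ (M ≠ ⊤ ∧ ∀ H : Subgroup G, (S : Subgroup G) ≤ H → H ≠ ⊤ → H ≤ M) ∧ (⁅Cfsg.pCore p G, M⁆ ≤ Cfsg.pCore p G ⊓ ⁅M, M⁆ ∧ Cfsg.pCore p G ⊓ ⁅M, M⁆ ≤ Cfsg.pCore p G ⊓ tr 𝓦 (S : Subgroup G)) ∧ ∀ u : G, u ∈ (S : Subgroup G) → u ∉ Cfsg.pCore p G → ∃ U V : Subgroup G, Cfsg.IsChiefFactor U V ∧ U ≤ Cfsg.pCore p G ∧ ¬ Cfsg.iterCommutator U (Subgroup.zpowers u) (p - 1) ≤ V := by
  set Q := Cfsg.pCore p G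
  set P : Subgroup G := (S : Subgroup G)
  set T := tr 𝓦 P
  obtain ⟨W₀, hW₀⟩ := hne
  have hd : ⁅P, P⁆ ≤ T := derived_le_tr hW₀ (h𝓦 W₀ hW₀) S.2
  have hsub : ∀ H : Subgroup G, H ≠ ⊤ → Ok p 𝓦 H := by
    intro H hH
    have hok := ok_of_family h𝓦 (hsec H ⊥ (fun e => absurd e hH))
    exact ok_of_equiv h𝓦 ((QuotientGroup.quotientMulEquivOfEq (Subgroup.bot_subgroupOf H)).trans QuotientGroup.quotientBot) hok
  have hquot : ∀ (N : Subgroup G) [N.Normal], N ≠ ⊥ → Ok p 𝓦 (G ⧸ N) := by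
    intro N _ hN
    have hok := ok_of_family h𝓦 (hsec ⊤ N (fun _ => hN))
    exact ok_of_equiv h𝓦 (QuotientGroup.congr _ N Subgroup.topEquiv (by
      ext x
      exact ⟨fun ⟨y, hy, e⟩ => e ▸ hy, fun hx => ⟨⟨x, trivial⟩, hx, rfl⟩⟩)) hok
  have hbad : ¬ P ⊓ commutator G ≤ T := fun h => hG (family_of_ok (ok_of_sylow h𝓦 S h))
  have hO : Cfsg.pPrimeCore p G = ⊥ := by
    by_contra h
    exact hbad (le_tr_of_coprime S h𝓦 _ (card_pPrimeCore_coprime p) (hquot _ h))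
  have hQ0 : Q ≠ ⊥ := fun h => hbad (le_tr_of_pCore_eq_bot S h𝓦 hd hsub h)
  have hQP : Q ≤ P := pCore_le_sylow S
  have hQT : ¬ ⁅Q, (⊤ : Subgroup G)⁆ ≤ T := fun h => hbad (le_tr_of_pCore S h𝓦 hsub (hquot _ hQ0)
    (inf_commutator_le_of_commutator_le S hd hQP h))
  have hfix : ∀ H : Subgroup G, P ≤ H → H ≠ ⊤ → ∀ h ∈ H, ∀ q ∈ Q, ⁅h, q⁆ ∈ T := fun H hPH hH h hh q hq =>
    over_le h𝓦 S (hsub H hH) hPH ⟨hQP (by
      rw [commutatorElement_def]
      exact mul_mem ((inferInstance : Q.Normal).conj_mem q hq h) (inv_mem hq)),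
      Subgroup.commutator_mem_commutator hh (hPH (hQP hq))⟩
  have hover : ∀ H : Subgroup G, P ≤ H → H ≠ ⊤ → H ≤ M := by
    intro H hPH hH h hh
    rw [hM]
    refine Local.mem_normalizer_of_map_conj_eq (Subgroup.eq_of_le_of_card_ge (Local.map_conj_le fun y hy =>
      Subgroup.mem_inf.2 ⟨?_, (inferInstance : Q.Normal).conj_mem y hy.2 h⟩) (card_cm h _).ge)
    rw [show h * y * h⁻¹ = ⁅h, y⁆ * y by simp only [commutatorElement_def]; group]
    exact mul_mem (hfix H hPH hH h hh y hy.2) hy.1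
  have hMtop : M ≠ ⊤ := by
    intro htop
    have hTQ : (T ⊓ Q).Normal := Subgroup.normalizer_eq_top_iff.1 (hM ▸ htop)
    have hc : ∀ x : G, (∀ q ∈ Q, ⁅x, q⁆ ∈ T) → ∀ t ∈ T, t ∈ Q → x * t * x⁻¹ ∈ T :=
      fun x _ t ht htQ => (hTQ.conj_mem t ⟨ht, htQ⟩ x).1
    set Y := fixer Q T (fun q hq x => (inferInstance : Q.Normal).conj_mem q hq x) hc
    haveI hYn : Y.Normal := ⟨fun x hx y q hq => by
      have hq' : y⁻¹ * q * y ∈ Q := by simpa using (inferInstance : Q.Normal).conj_mem q hq y⁻¹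
      have h1 : ⁅x, y⁻¹ * q * y⁆ ∈ T ⊓ Q := Subgroup.mem_inf.2 ⟨hx _ hq', by
        rw [commutatorElement_def]
        exact mul_mem ((inferInstance : Q.Normal).conj_mem _ hq' x) (inv_mem hq')⟩
      rw [show ⁅y * x * y⁻¹, q⁆ = y * ⁅x, y⁻¹ * q * y⁆ * y⁻¹ by simp only [commutatorElement_def]; group]
      exact (hTQ.conj_mem _ h1 y).1⟩
    have hPY : P ≤ Y := fun s hs q hq => hd (Subgroup.commutator_mem_commutator hs (hQP hq))
    by_cases hNP : Subgroup.normalizer (P : Set G) = ⊤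
    · refine hbad (le_trans (le_of_eq ?_) (le_iSup₂ (f := fun W _ => P ⊓
        ⁅Subgroup.normalizer (Cfsg.inducedFunctor W P : Set G), Subgroup.normalizer (Cfsg.inducedFunctor W P : Set G)⁆)
        W₀ hW₀))
      rw [top_le_iff.1 (hNP.ge.trans (normalizer_le_normalizer_induced (h𝓦 W₀ hW₀) S.2))]
      rfl
    have hY : Y = ⊤ := by
      have hf := Sylow.normalizer_sup_eq_top (S.subtype hPY)
      rw [Sylow.coe_subtype, Subgroup.map_subgroupOf_eq_of_le hPY] at hf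
      rw [← top_le_iff, ← hf]
      exact sup_le (fun x hx q hq => hfix _ Subgroup.le_normalizer hNP x hx q hq) le_rfl
    refine hQT (Subgroup.commutator_le.2 fun q hq x _ => ?_)
    rw [← commutatorElement_inv]
    exact inv_mem ((hY.ge (Subgroup.mem_top x)) q hq)
  have hPM : P ≤ M := by
    by_cases hP : P = ⊤
    · exact absurd (le_trans (inf_le_inf le_rfl (by rw [hP]; exact le_rfl)) (le_trans inf_le_right hd)) hbad
    · exact hover P le_rfl hP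
  refine ⟨by_contra fun hcon => hQT (commutator_core_le S h𝓦 hsub hO hcon), ⟨hMtop, hover⟩, ⟨?_, ?_⟩, ?_⟩
  · exact le_inf (Subgroup.commutator_le_left _ _) (Subgroup.commutator_mono (hQP.trans hPM) le_rfl)
  · exact le_inf inf_le_left ((inf_le_inf_right _ hQP).trans (over_le h𝓦 S (hsub M hMtop) hPM))
  · intro u hu huQ
    by_contra hcn
    push Not at hcn
    exact hQT (commutator_le_tr_of_good S h𝓦 hsub hd hu huQ (good_of_iterCommutator hcn))

/-- Let p be a prime, G a finite group with Sylow p-subgroup S, and 𝓦 a nonempty set of isomorphism-invariant p-group functors (W assigns to every group Q a subgroup W(Q), nontrivial whenever Q is a nontrivial finite p-group, and every isomorphism from a finite p-group Q onto a group R carries W(Q) onto W(R)). Suppose the induced conjugacy functors control transfer in every section of G other than G itself, but not in G. Let T be the subgroup generated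 by the S ∩ (N_G(W(S)))', W ∈ 𝓦, and M = N_G(T ∩ O_p(G)). Then: C_G(O_p(G)) ≤ O_p(G); M is a proper subgroup of G containing every proper subgroup of G that contains S (the unique maximal subgroup over S); [O_p(G), M] ≤ O_p(G) ∩ M' ≤ O_p(G) ∩ T; and every element u of S outside O_p(G) satisfies [X, u, …, u] ≰ Y with p − 1 entries u, for some chief factor X/Y of G with X ≤ O_p(G). -/
theorem result {G : Type u} [Group G] [Finite G] {p : ℕ} [Fact p.Prime] (S : Sylow p G) (𝓦 : Set (∀ (Q : Type u) [Group Q], Subgroup Q)) (h𝓦 : ∀ W ∈ 𝓦, Cfsg.IsCharPFunctor.{u} p W) (hne : 𝓦.Nonempty) (hsec : ∀ (K R : Subgroup G) [hR : (R.subgroupOf K).Normal], (K = ⊤ → R ≠ ⊥) → Cfsg.FamilyControlsTransferIn p ((fun W => Cfsg.inducedFunctor (G := (↥K ⧸ R.subgroupOf K)) W) '' 𝓦) ⊤) (hG : ¬ Cfsg.FamilyControlsTransferIn p ((fun W => Cfsg.inducedFunctor (G := G) W) '' 𝓦) ⊤) (T M : Subgroup G) (hT : T = (⨆ W ∈ 𝓦, (S : Subgroup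 G) ⊓ ⁅Subgroup.normalizer ((Cfsg.inducedFunctor (G := G) W (S : Subgroup G) : Subgroup G) : Set G), Subgroup.normalizer ((Cfsg.inducedFunctor (G := G) W (S : Subgroup G) : Subgroup G) : Set G)⁆)) (hM : M = Subgroup.normalizer ((T ⊓ Cfsg.pCore p G : Subgroup G) : Set G)) : Subgroup.centralizer ((Cfsg.pCore p G : Subgroup G) : Set G) ≤ Cfsg.pCore p G ∧ (M ≠ ⊤ ∧ ∀ H : Subgroup G, (S : Subgroup G) ≤ H → H ≠ ⊤ → H ≤ M) ∧ (⁅Cfsg.pCore p G, M⁆ ≤ Cfsg.pCore p G ⊓ ⁅M, M⁆ ∧ Cfsg.pCore p G ⊓ ⁅M, M⁆ ≤ Cfsg.pCore p G ⊓ T) ∧ ∀ u : G, u ∈ (S : Subgroup G) → u ∉ Cfsg.pCore p G → ∃ U V : Subgroup G, Cfsg.IsChiefFactor U V ∧ U ≤ Cfsg.pCore p G ∧ ¬ Cfsg.iterCommutator U (Subgroup.zpowers u) (p - 1) ≤ V := by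
  subst hT
  exact main S 𝓦 h𝓦 hne hsec hG M hM

end Cfsg.Agent.S1998
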