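import Cfsg.Statements.S2761
import Cfsg.Agent.Lib.Qd
import Mathlib.Data.Fintype.Prod
import Mathlib.Data.Fintype.Pi
-- import your own Cfsg.Agent.* helpers here

set_option autoImplicit false
open Cfsg

namespace Cfsg.Agent.S2761

/-- The group Qd(2), the natural semidirect product of an elementary abelian group of order 4 by SL₂(2) (realised as the affine subgroup of SL₃(2)), is isomorphic to the symmetric group of degree 4. -/
theorem result : Nonempty (↥(Cfsg.qd 2) ≃* Equiv.Perm (Fin 4)) := by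
  have key : ∀ p₀ p₁ p₂ p₃ : ZMod 2 × ZMod 2,
      (p₀ ≠ p₁ ∧ p₀ ≠ p₂ ∧ p₀ ≠ p₃ ∧ p₁ ≠ p₂ ∧ p₁ ≠ p₃ ∧ p₂ ≠ p₃) →
      (p₁.1 - p₀.1) * (p₂.2 - p₀.2) - (p₂.1 - p₀.1) * (p₁.2 - p₀.2) = 1 ∧ p₃ = p₁ + p₂ - p₀ := by
    decide +kernel
  let f : Cfsg.qd 2 → (ZMod 2 × ZMod 2) → (ZMod 2 × ZMod 2) := fun g v =>
    (((g : Matrix.SpecialLinearGroup (Fin 3) (ZMod 2)) : Matrix (Fin 3) (Fin 3) (ZMod 2)) 0 0 * v.1
      + ((g : Matrix.SpecialLinearGroup (Fin 3) (ZMod 2)) : Matrix (Fin 3) (Fin 3) (ZMod 2)) 0 1 * v.2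
      + ((g : Matrix.SpecialLinearGroup (Fin 3) (ZMod 2)) : Matrix (Fin 3) (Fin 3) (ZMod 2)) 0 2,
     ((g : Matrix.SpecialLinearGroup (Fin 3) (ZMod 2)) : Matrix (Fin 3) (Fin 3) (ZMod 2)) 1 0 * v.1
      + ((g : Matrix.SpecialLinearGroup (Fin 3) (ZMod 2)) : Matrix (Fin 3) (Fin 3) (ZMod 2)) 1 1 * v.2
      + ((g : Matrix.SpecialLinearGroup (Fin 3) (ZMod 2)) : Matrix (Fin 3) (Fin 3) (ZMod 2)) 1 2)
  have hel : ∀ a b c d x y h v, f (CfsgLib.Qd.el a b c d x y h) v = (a * v.1 + b * v.2 + x, c * v.1 + d * v.2 + y) := by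
    intros; simp [f, CfsgLib.Qd.el, CfsgLib.Qd.mat]
  letI act : MulAction (Cfsg.qd 2) (ZMod 2 × ZMod 2) :=
    { smul := f
      one_smul := fun v => by show f 1 v = v; rw [CfsgLib.Qd.el_one, hel]; ext <;> simp
      mul_smul := fun g h v => by
        show f (g * h) v = f g (f h v)
        obtain ⟨a, b, c, d, x, y, hh, rfl⟩ := CfsgLib.Qd.exists_el g
        obtain ⟨a', b', c', d', x', y', hh', rfl⟩ := CfsgLib.Qd.exists_el h
        rw [CfsgLib.Qd.el_mul, hel, hel, hel]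
        ext <;> ring }
  let φ := MulAction.toPermHom (Cfsg.qd 2) (ZMod 2 × ZMod 2)
  have happ : ∀ g v, φ g v = f g v := fun g v => rfl
  have hinj : Function.Injective φ := by
    intro g h e
    obtain ⟨a, b, c, d, x, y, hh, rfl⟩ := CfsgLib.Qd.exists_el g
    obtain ⟨a', b', c', d', x', y', hh', rfl⟩ := CfsgLib.Qd.exists_el h
    have e0 := congrArg (fun σ : Equiv.Perm (ZMod 2 × ZMod 2) => σ (0, 0)) e
    have e1 := congrArg (fun σ : Equiv.Perm (ZMod 2 × ZMod 2) => σ (1, 0)) e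
    have e2 := congrArg (fun σ : Equiv.Perm (ZMod 2 × ZMod 2) => σ (0, 1)) e
    simp [happ, hel] at e0 e1 e2
    obtain ⟨hx, hy⟩ := e0
    subst hx hy
    simp only [add_left_inj] at e1 e2
    exact CfsgLib.Qd.el_congr e1.1 e2.1 e1.2 e2.2 rfl rfl
  have hsurj : Function.Surjective φ := by
    intro σ
    obtain ⟨hd, h3⟩ := key (σ (0, 0)) (σ (1, 0)) (σ (0, 1)) (σ (1, 1))
      ⟨σ.injective.ne (by decide), σ.injective.ne (by decide), σ.injective.ne (by decide),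
       σ.injective.ne (by decide), σ.injective.ne (by decide), σ.injective.ne (by decide)⟩
    refine ⟨CfsgLib.Qd.el ((σ (1, 0)).1 - (σ (0, 0)).1) ((σ (0, 1)).1 - (σ (0, 0)).1)
      ((σ (1, 0)).2 - (σ (0, 0)).2) ((σ (0, 1)).2 - (σ (0, 0)).2) (σ (0, 0)).1 (σ (0, 0)).2 hd, ?_⟩
    ext1 v
    rw [happ, hel]
    obtain rfl | rfl | rfl | rfl : v = (0, 0) ∨ v = (1, 0) ∨ v = (0, 1) ∨ v = (1, 1) := by
      revert v; decide
    · simp
    · simp
    · simp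
    · rw [h3]; ext <;> simp <;> ring
  exact ⟨(MulEquiv.ofBijective φ ⟨hinj, hsurj⟩).trans
    (Fintype.equivFinOfCardEq (by simp) : ZMod 2 × ZMod 2 ≃ Fin 4).permCongrHom⟩

end Cfsg.Agent.S2761
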