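import Cfsg.Statements.S2763
import Mathlib
import Cfsg.Agent.Lib.Qd
import Cfsg.Agent.Lib.Elementary
import Cfsg.Agent.Lib.Local

set_option autoImplicit false
set_option linter.unusedVariables false
open Cfsg
open scoped commutatorElement

namespace Cfsg.Agent.S2763

open CfsgLib CfsgLib.Qd

variable {p : ℕ} [Fact p.Prime]

def u (b x y : ZMod p) : Cfsg.qd p := el 1 b 0 1 x y (by ring)

theorem u_mul (b x y b' x' y' : ZMod p) : u b x y * u b' x' y' = u (b + b') (x + x' + b * y') (y + y') := by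
  unfold u
  rw [el_mul]
  exact el_congr (by ring) (by ring) (by ring) (by ring) (by ring) (by ring)

theorem u_one : u (0 : ZMod p) 0 0 = 1 := el_one.symm

theorem u_inj {b x y b' x' y' : ZMod p} (h : u b x y = u b' x' y') : b = b' ∧ x = x' ∧ y = y' := by
  have h' := congrArg (fun g : Cfsg.qd p => ((g : Matrix.SpecialLinearGroup (Fin 3) (ZMod p)) : Matrix (Fin 3) (Fin 3) (ZMod p))) h
  exact ⟨by simpa [u, el, mat] using congrFun₂ h' 0 1, by simpa [u, el, mat] using congrFun₂ h' 0 2,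
    by simpa [u, el, mat] using congrFun₂ h' 1 2⟩

def P₀ (p : ℕ) [Fact p.Prime] : Subgroup (Cfsg.qd p) where
  carrier := {g | ∃ b x y, g = u b x y}
  one_mem' := ⟨0, 0, 0, u_one.symm⟩
  mul_mem' := fun {g g'} hg hg' => by
    obtain ⟨b, x, y, rfl⟩ := hg
    obtain ⟨b', x', y', rfl⟩ := hg'
    exact ⟨_, _, _, u_mul b x y b' x' y'⟩
  inv_mem' := fun {g} hg => by
    obtain ⟨b, x, y, rfl⟩ := hg
    refine ⟨-b, -x + b * y, -y, inv_eq_of_mul_eq_one_right ?_⟩
    rw [u_mul, ← u_one]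
    congr 1 <;> ring

theorem isPGroup_P₀ : IsPGroup p ↥(P₀ p) := by
  let f : ZMod p × ZMod p × ZMod p → ↥(P₀ p) := fun v => ⟨u v.1 v.2.1 v.2.2, _, _, _, rfl⟩
  have hf : Function.Bijective f := ⟨fun a b h => by
      obtain ⟨h1, h2, h3⟩ := u_inj (congrArg Subtype.val h)
      exact Prod.ext h1 (Prod.ext h2 h3),
    fun ⟨g, b, x, y, hg⟩ => ⟨(b, x, y), Subtype.ext hg.symm⟩⟩
  refine IsPGroup.of_card (n := 3) ?_
  rw [← Nat.card_congr (Equiv.ofBijective f hf), Nat.card_prod, Nat.card_prod, Nat.card_zmod]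
  ring

theorem mem_normalizer_iff' {a b c d x y : ZMod p} (h : a * d - b * c = 1) :
    el a b c d x y h ∈ Subgroup.normalizer (P₀ p : Set (Cfsg.qd p)) ↔ c = 0 := by
  constructor
  · intro hn
    obtain ⟨b', x', y', e⟩ := (Subgroup.mem_normalizer_iff.mp hn (u 1 0 0)).mp ⟨_, _, _, rfl⟩
    rw [mul_inv_eq_iff_eq_mul] at e
    unfold u at e
    rw [el_mul, el_mul] at e
    have h' := congrArg (fun g : Cfsg.qd p => ((g : Matrix.SpecialLinearGroup (Fin 3) (ZMod p)) : Matrix (Fin 3) (Fin 3) (ZMod p))) e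
    have h2 : c * 1 + d * 1 = 0 * b + 1 * d := by simpa [el, mat] using congrFun₂ h' 1 1
    linear_combination h2
  · rintro rfl
    refine Local.mem_normalizer_of_map_conj_eq (Subgroup.eq_of_le_of_card_ge (Local.map_conj_le ?_)
      (Subgroup.card_map_of_injective (MulEquiv.injective (MulAut.conj _))).ge)
    rintro _ ⟨b₁, x₁, y₁, rfl⟩
    refine ⟨a * a * b₁, a * x₁ + b * y₁ - a * a * b₁ * y, d * y₁, mul_inv_eq_iff_eq_mul.mpr ?_⟩
    unfold u
    rw [el_mul, el_mul]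
    refine el_congr (by ring) ?_ (by ring) (by ring) (by ring) (by ring)
    linear_combination (-(a * b₁)) * h

theorem sylow_eq (S₀ : Sylow p ↥(Cfsg.qd p)) (h : P₀ p ≤ (S₀ : Subgroup ↥(Cfsg.qd p))) : (S₀ : Subgroup ↥(Cfsg.qd p)) = P₀ p := by
  by_contra hne
  haveI : Group.IsNilpotent ↥(S₀ : Subgroup ↥(Cfsg.qd p)) := S₀.2.isNilpotent
  have hlt : (P₀ p).subgroupOf (S₀ : Subgroup ↥(Cfsg.qd p)) < ⊤ :=
    lt_of_le_of_ne le_top fun e => hne (le_antisymm (Subgroup.subgroupOf_eq_top.mp e) h)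
  obtain ⟨⟨g, hgS⟩, hg1, hg2⟩ := SetLike.exists_of_lt (Group.normalizerCondition_of_isNilpotent _ hlt)
  have hgN : g ∈ Subgroup.normalizer (P₀ p : Set (Cfsg.qd p)) := by
    refine Local.mem_normalizer_of_map_conj_eq (Subgroup.eq_of_le_of_card_ge (Local.map_conj_le fun n hn => ?_)
      (Subgroup.card_map_of_injective (MulEquiv.injective (MulAut.conj _))).ge)
    exact (Subgroup.mem_normalizer_iff.mp hg1 ⟨n, h hn⟩).mp hn
  obtain ⟨a, b, c, d, x, y, hd, rfl⟩ := exists_el g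
  obtain rfl := (mem_normalizer_iff' hd).mp hgN
  obtain ⟨k, hk⟩ := S₀.2 ⟨_, hgS⟩
  have hk' : el a b 0 d x y hd ^ p ^ k = 1 := congrArg Subtype.val hk
  have hpow : ∀ n : ℕ, ∃ b' x' y' d' h', el a b 0 d x y hd ^ n = el (a ^ n) b' 0 d' x' y' h' := by
    intro n
    induction n with
    | zero => exact ⟨0, 0, 0, 1, by ring, by rw [pow_zero, el_one]; exact el_congr (pow_zero a).symm rfl rfl rfl rfl rfl⟩
    | succ n ih =>
      obtain ⟨b', x', y', d', h', e⟩ := ih
      refine ⟨a ^ n * b + b' * d, a ^ n * x + b' * y + x', d' * y + y', d' * d, by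
        linear_combination (a * d - b * 0) * h' + hd, ?_⟩
      rw [pow_succ, e, el_mul]
      exact el_congr (by ring) rfl (by ring) (by ring) rfl (by ring)
  obtain ⟨b', x', y', d', h', e⟩ := hpow (p ^ k)
  rw [hk', el_one] at e
  have h' := congrArg (fun g : Cfsg.qd p => ((g : Matrix.SpecialLinearGroup (Fin 3) (ZMod p)) : Matrix (Fin 3) (Fin 3) (ZMod p))) e
  have ha : a ^ p ^ k = 1 := by simpa [el, mat] using (congrFun₂ h' 0 0).symm
  rw [ZMod.pow_card_pow] at ha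
  subst ha
  have hd1 : d = 1 := by linear_combination hd
  subst hd1
  exact hg2 (Subgroup.mem_subgroupOf.mpr ⟨b, x, y, rfl⟩)

def σ (p : ℕ) [Fact p.Prime] : Cfsg.qd p → Cfsg.qd p := fun g =>
  u (((g : Matrix.SpecialLinearGroup (Fin 3) (ZMod p)) : Matrix (Fin 3) (Fin 3) (ZMod p)) 1 2)
    (((g : Matrix.SpecialLinearGroup (Fin 3) (ZMod p)) : Matrix (Fin 3) (Fin 3) (ZMod p)) 0 1 *
      ((g : Matrix.SpecialLinearGroup (Fin 3) (ZMod p)) : Matrix (Fin 3) (Fin 3) (ZMod p)) 1 2 -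
      ((g : Matrix.SpecialLinearGroup (Fin 3) (ZMod p)) : Matrix (Fin 3) (Fin 3) (ZMod p)) 0 2)
    (((g : Matrix.SpecialLinearGroup (Fin 3) (ZMod p)) : Matrix (Fin 3) (Fin 3) (ZMod p)) 0 1)

theorem σ_u (b x y : ZMod p) : σ p (u b x y) = u y (b * y - x) b := by simp [σ, u, el, mat]

theorem exists_swap : ∃ φ : ↥(P₀ p) ≃* ↥(P₀ p), ∀ b x y : ZMod p,
    ((φ ⟨u b x y, _, _, _, rfl⟩ : ↥(P₀ p)) : Cfsg.qd p) = u y (b * y - x) b := by
  let f : ↥(P₀ p) → ↥(P₀ p) := fun g => ⟨σ p g, _, _, _, rfl⟩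
  have hinv : ∀ g, f (f g) = g := by
    rintro ⟨_, b, x, y, rfl⟩
    refine Subtype.ext ?_
    show σ p (σ p (u b x y)) = u b x y
    rw [σ_u, σ_u]
    congr 1
    ring
  refine ⟨{ toFun := f, invFun := f, left_inv := hinv, right_inv := hinv, map_mul' := ?_ }, fun b x y => σ_u b x y⟩
  rintro ⟨_, b, x, y, rfl⟩ ⟨_, b', x', y', rfl⟩
  refine Subtype.ext ?_
  show σ p (u b x y * u b' x' y') = σ p (u b x y) * σ p (u b' x' y')
  rw [u_mul, σ_u, σ_u, σ_u, u_mul]
  congr 1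
  ring

theorem normalizer_le {T : Subgroup ↥(P₀ p)} (hT : T ≠ ⊥) (hTc : T.Characteristic) :
    Subgroup.normalizer ((T.map (P₀ p).subtype : Subgroup ↥(Cfsg.qd p)) : Set ↥(Cfsg.qd p)) ≤
      Subgroup.normalizer (P₀ p : Set (Cfsg.qd p)) := by
  haveI := hTc
  intro g hg
  obtain ⟨a, b, c, d, x, y, hd, rfl⟩ := exists_el g
  by_contra hN
  have hc : c ≠ 0 := fun h => hN ((mem_normalizer_iff' hd).mpr h)
  set T' := T.map (P₀ p).subtype with hT'
  -- the center
  haveI : Group.IsNilpotent ↥(P₀ p) := isPGroup_P₀.isNilpotent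
  obtain ⟨⟨_, b₀, x₀, y₀, rfl⟩, ⟨hzT, hzC⟩, hz1⟩ := (Subgroup.bot_or_exists_ne_one _).resolve_left
    (CfsgLib.inf_center_ne_bot_of_nilpotent hT)
  have hcm : ∀ b' x' y' : ZMod p, u b₀ x₀ y₀ * u b' x' y' = u b' x' y' * u b₀ x₀ y₀ := fun b' x' y' =>
    (congrArg Subtype.val (Subgroup.mem_center_iff.mp hzC ⟨u b' x' y', _, _, _, rfl⟩)).symm
  have h1 := hcm 1 0 0
  rw [u_mul, u_mul] at h1
  have hy₀ : y₀ = 0 := by have := (u_inj h1).2.1; linear_combination -this
  have h2 := hcm 0 0 1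
  rw [u_mul, u_mul] at h2
  have hb₀ : b₀ = 0 := by have := (u_inj h2).2.1; linear_combination this
  subst hy₀ hb₀
  have hx₀ : x₀ ≠ 0 := fun h => hz1 (Subtype.ext (by rw [h]; exact u_one))
  have hscale : ∀ (k x y : ZMod p), u 0 x y ∈ T' → u 0 (k * x) (k * y) ∈ T' := by
    intro k x y hm
    have key : ∀ n : ℕ, u 0 ((n : ZMod p) * x) ((n : ZMod p) * y) ∈ T' := by
      intro n
      induction n with
      | zero => simpa [u_one] using T'.one_mem
      | succ n ih =>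
        have := T'.mul_mem ih hm
        rw [u_mul] at this
        convert this using 2 <;> push_cast <;> ring
    simpa using key k.val
  have hZ : ∀ t, u 0 t 0 ∈ T' := fun t => by
    have := hscale (t * x₀⁻¹) x₀ 0 ⟨_, hzT, rfl⟩
    rwa [mul_assoc, inv_mul_cancel₀ hx₀, mul_one, mul_zero] at this
  have hac : u 0 a c ∈ T' := by
    have h := (Subgroup.mem_normalizer_iff.mp hg _).mp (hZ 1)
    convert h using 1
    refine eq_mul_inv_iff_mul_eq.mpr ?_
    unfold u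
    rw [el_mul, el_mul]
    exact el_congr (by ring) (by ring) (by ring) (by ring) (by ring) (by ring)
  have hW : ∀ s t, u 0 s t ∈ T' := fun s t => by
    have := T'.mul_mem (hscale (t * c⁻¹) a c hac) (hZ (s - t * c⁻¹ * a))
    rw [u_mul] at this
    convert this using 2
    · ring
    · ring
    · field_simp; ring
  obtain ⟨φ, hφ⟩ := exists_swap (p := p)
  have hB : ∀ b', u b' 0 0 ∈ T' := fun b' => by
    obtain ⟨⟨w, hw⟩, hwT, e⟩ := hW 0 b'
    have hφT : φ ⟨w, hw⟩ ∈ T := (Subgroup.characteristic_iff_map_eq.mp hTc φ).le ⟨_, hwT, rfl⟩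
    refine ⟨_, hφT, ?_⟩
    have ew : (⟨w, hw⟩ : ↥(P₀ p)) = ⟨u 0 0 b', _, _, _, rfl⟩ := Subtype.ext e
    rw [ew]
    show ((φ ⟨u 0 0 b', _, _, _, rfl⟩ : ↥(P₀ p)) : Cfsg.qd p) = _
    rw [hφ]
    congr 1
    ring
  have hall : T' = P₀ p := by
    refine le_antisymm (Subgroup.map_subtype_le _) ?_
    rintro _ ⟨b', x', y', rfl⟩
    have := T'.mul_mem (hW x' y') (hB b')
    rw [u_mul] at this
    convert this using 2 <;> ring
  exact hN (hall ▸ hg)

/-- In the group Qd(p) (p prime; the natural semidirect product of an elementary abelian group of order p² by SL₂(p)), the normalizer of every nontrivial characteristic subgroup of a Sylow p-subgroup S equals the normalizer of S, which is a proper subgroup; in particular no such characteristic subgroup is normal. -/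
theorem result {p : ℕ} [Fact p.Prime] (S : Sylow p ↥(Cfsg.qd p)) (T : Subgroup ↥(S : Subgroup ↥(Cfsg.qd p))) (hT : T ≠ ⊥) (hTc : T.Characteristic) : Subgroup.normalizer ((T.map (S : Subgroup ↥(Cfsg.qd p)).subtype : Subgroup ↥(Cfsg.qd p)) : Set ↥(Cfsg.qd p)) = Subgroup.normalizer ((S : Subgroup ↥(Cfsg.qd p)) : Set ↥(Cfsg.qd p)) ∧ Subgroup.normalizer ((S : Subgroup ↥(Cfsg.qd p)) : Set ↥(Cfsg.qd p)) ≠ ⊤ := by
  obtain ⟨S₀, hS₀⟩ := (isPGroup_P₀ (p := p)).exists_le_sylow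
  have e₀ := sylow_eq S₀ hS₀
  obtain ⟨k, hk⟩ := MulAction.exists_smul_eq ↥(Cfsg.qd p) S S₀
  have hmap : (S : Subgroup ↥(Cfsg.qd p)).map (MulAut.conj k).toMonoidHom = P₀ p := by
    rw [← e₀, ← hk, Sylow.coe_subgroup_smul]; rfl
  let e : ↥(S : Subgroup ↥(Cfsg.qd p)) ≃* ↥(P₀ p) :=
    ((MulAut.conj k).subgroupMap (S : Subgroup ↥(Cfsg.qd p))).trans (MulEquiv.subgroupCongr hmap)
  set T₁ := T.map e.toMonoidHom with hT₁
  have hT1 : T₁ ≠ ⊥ := fun h => hT ((Subgroup.map_eq_bot_iff_of_injective _ e.injective).mp h)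
  have hT1c : T₁.Characteristic := Subgroup.characteristic_iff_map_eq.mpr fun φ => by
    rw [hT₁, Subgroup.map_map]
    conv_rhs => rw [← Subgroup.characteristic_iff_map_eq.mp hTc ((e.trans φ).trans e.symm), Subgroup.map_map]
    congr 1
    ext z; simp
  have hTmap : T₁.map (P₀ p).subtype = (T.map (S : Subgroup ↥(Cfsg.qd p)).subtype).map (MulAut.conj k).toMonoidHom := by
    rw [hT₁, Subgroup.map_map, Subgroup.map_map]; rfl
  refine ⟨le_antisymm (fun g hg => ?_) ?_, fun htop => ?_⟩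
  · have h1 : k * g * k⁻¹ ∈ Subgroup.normalizer ((T₁.map (P₀ p).subtype : Subgroup ↥(Cfsg.qd p)) : Set ↥(Cfsg.qd p)) := by
      rw [hTmap]
      refine Local.mem_normalizer_of_map_conj_eq ?_
      rw [Local.map_conj_mul, inv_mul_cancel_right, ← Local.map_conj_mul, Local.map_conj_eq_of_mem_normalizer hg]
    have h2 := Local.map_conj_eq_of_mem_normalizer (normalizer_le hT1 hT1c h1)
    rw [← hmap, Local.map_conj_mul, inv_mul_cancel_right, ← Local.map_conj_mul] at h2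
    exact Local.mem_normalizer_of_map_conj_eq (Subgroup.map_injective (MulEquiv.injective (MulAut.conj k)) h2)
  · intro g hg
    refine Local.mem_normalizer_of_map_conj_eq ?_
    have hS := Local.map_conj_eq_of_mem_normalizer hg
    let φ : ↥(S : Subgroup ↥(Cfsg.qd p)) ≃* ↥(S : Subgroup ↥(Cfsg.qd p)) :=
      ((MulAut.conj g).subgroupMap _).trans (MulEquiv.subgroupCongr hS)
    conv_rhs => rw [← Subgroup.characteristic_iff_map_eq.mp hTc φ, Subgroup.map_map]
    rw [Subgroup.map_map]; rfl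
  · have h1 : k⁻¹ * w * k ∈ Subgroup.normalizer ((S : Subgroup ↥(Cfsg.qd p)) : Set ↥(Cfsg.qd p)) := htop ▸ Subgroup.mem_top _
    have h2 := Local.map_conj_eq_of_mem_normalizer h1
    have h3 : (P₀ p).map (MulAut.conj (w : Cfsg.qd p)).toMonoidHom = P₀ p := by
      rw [← hmap, Local.map_conj_mul]
      conv_rhs => rw [← h2, Local.map_conj_mul, mul_assoc k⁻¹, mul_inv_cancel_left]
    have h4 := (mem_normalizer_iff' (a := 0) (b := 1) (c := -1) (d := 0) (x := 0) (y := 0) (by ring)).mp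
      (Local.mem_normalizer_of_map_conj_eq h3)
    exact one_ne_zero (neg_eq_zero.mp h4)

end Cfsg.Agent.S2763
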