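import Cfsg.Statements.S2794
import Cfsg.Agent.Lib.StrongFusion.Functors

set_option autoImplicit false
set_option linter.unusedVariables false
open Cfsg
open scoped commutatorElement

namespace Cfsg.Agent.S2794

open CfsgLib CfsgLib.StrongFusion

theorem mem_W_of_commute {p : ℕ} [Fact p.Prime] {g : Cfsg.qd p} (h : ∀ w ∈ Qd.W p, w * g = g * w) :
    g ∈ Qd.W p := by
  obtain ⟨v, M, rfl⟩ := QdSection.exists_eq_mul g
  have hM : M = 1 := QdSection.act_ext fun u => by
    rw [QdSection.act_one]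
    have hu : QdSection.trHom u ∈ Qd.W p := ⟨_, _, rfl⟩
    have h1 := h _ hu
    have e : QdSection.trHom (QdSection.act M u) = QdSection.trHom u := by
      have h2 : QdSection.trHom v * QdSection.trHom (QdSection.act M u) * QdSection.linHom M
          = QdSection.trHom v * QdSection.trHom u * QdSection.linHom M := by
        rw [← QdSection.linHom_conj]
        calc QdSection.trHom v * (QdSection.linHom M * QdSection.trHom u * (QdSection.linHom M)⁻¹) * QdSection.linHom M
            = QdSection.trHom v * QdSection.linHom M * QdSection.trHom u := by group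
          _ = QdSection.trHom u * (QdSection.trHom v * QdSection.linHom M) := h1.symm
          _ = QdSection.trHom (u * v) * QdSection.linHom M := by rw [map_mul]; group
          _ = _ := by rw [mul_comm u v, map_mul]
      exact mul_left_cancel (mul_right_cancel h2)
    obtain ⟨h2, h3⟩ := Qd.tr_injective e
    exact Multiplicative.toAdd.injective (funext (by simp [Fin.forall_fin_two, h2, h3]))
  rw [hM, map_one, mul_one]
  exact ⟨_, _, rfl⟩

theorem not_controls {X : Type*} [Group X] [Finite X] {p : ℕ} [Fact p.Prime] (hp : p ≠ 2) (e : X ≃* Cfsg.qd p)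
    (h : ∀ T : Sylow p X, Cfsg.ControlsStrongFusion p (Cfsg.centerThompsonAOf (T : Subgroup X))) : False := by
  set φ := e.symm.toMonoidHom with hφ
  have hφs : Function.Surjective φ := e.symm.surjective
  set W' := (Qd.W p).map φ with hW'
  haveI : W'.Normal := Subgroup.Normal.map inferInstance φ hφs
  have hW'p : IsPGroup p W' := (Qd.isPGroup_W (p := p)).map φ
  -- a second abelian subgroup of order `p ^ 2`
  let B₀ : Subgroup (Cfsg.qd p) :=
    { carrier := {g | ∃ c x : ZMod p, g = Qd.el 1 c 0 1 x 0 (by ring)}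
      one_mem' := ⟨0, 0, Qd.el_one⟩
      mul_mem' := by
        rintro _ _ ⟨c, x, rfl⟩ ⟨c', x', rfl⟩
        refine ⟨c + c', x + x', ?_⟩
        rw [Qd.el_mul]
        exact Qd.el_congr (by ring) (by ring) (by ring) (by ring) (by ring) (by ring)
      inv_mem' := by
        rintro _ ⟨c, x, rfl⟩
        refine ⟨-c, -x, inv_eq_of_mul_eq_one_right ?_⟩
        rw [Qd.el_mul, Qd.el_one]
        exact Qd.el_congr (by ring) (by ring) (by ring) (by ring) (by ring) (by ring) }
  have hB₀c : Nat.card B₀ = p ^ 2 := by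
    let f : ZMod p × ZMod p → B₀ := fun v => ⟨Qd.el 1 v.1 0 1 v.2 0 (by ring), _, _, rfl⟩
    have hf : Function.Bijective f := by
      refine ⟨fun a b hab => ?_, fun ⟨g, c, x, hg⟩ => ⟨(c, x), Subtype.ext hg.symm⟩⟩
      have h1 := congrArg (fun g : B₀ => (((g : Cfsg.qd p) : Matrix.SpecialLinearGroup (Fin 3) (ZMod p)) :
        Matrix (Fin 3) (Fin 3) (ZMod p))) hab
      exact Prod.ext (by simpa [f, Qd.el, Qd.mat] using congrFun (congrFun h1 0) 1)
        (by simpa [f, Qd.el, Qd.mat] using congrFun (congrFun h1 0) 2)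
    rw [← Nat.card_congr (Equiv.ofBijective f hf), Nat.card_prod, Nat.card_zmod, pow_two]
  obtain ⟨T₀, hT₀⟩ := ((IsPGroup.of_card hB₀c).map φ).exists_le_sylow
  obtain ⟨T, hUT, hctl⟩ := h T₀
  set U := Cfsg.centerThompsonAOf (T₀ : Subgroup X) with hU
  have hUz : U = ZJ.zj 0 (T₀ : Subgroup X) := (ZJ.zj_zero _).symm
  have hW'T : ∀ S : Sylow p X, W' ≤ (S : Subgroup X) := fun S => (le_pCore hW'p).trans (pCore_le_sylow S)
  -- `U` meets `W'`
  have hirr : ∀ z ∈ W', z ≠ 1 → W' ≤ Subgroup.normalClosure ({z} : Set X) := by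
    intro z hz hz1
    set N := (Subgroup.normalClosure ({z} : Set X)).comap φ with hN
    haveI : N.Normal := Subgroup.normal_comap _
    have hNW : N ⊓ Qd.W p ≠ ⊥ := by
      obtain ⟨w, hw, rfl⟩ := hz
      intro hb
      have : w ∈ N ⊓ Qd.W p := ⟨Subgroup.subset_normalClosure rfl, hw⟩
      rw [hb, Subgroup.mem_bot] at this
      exact hz1 (by rw [this, map_one])
    rintro _ ⟨w, hw, rfl⟩
    exact (Qd.W_irreducible (N := N ⊓ Qd.W p) inf_le_right hNW hw).1
  have hUn : (T₀ : Subgroup X) ≤ Subgroup.normalizer (U : Set X) := by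
    rw [hUz]; exact Subgroup.le_normalizer.trans (ZJ.normalizer_le_normalizer_zj 0 _)
  have hW'c : ∀ x ∈ Subgroup.centralizer (W' : Set X), x ∈ W' := fun x hx => by
    refine ⟨e x, mem_W_of_commute fun w hw => ?_, e.symm_apply_apply x⟩
    have h1 := hx (φ w) ⟨w, hw, rfl⟩
    have h2 := congrArg e h1
    simpa [hφ] using h2
  have hne : U ⊓ W' ≠ ⊥ := by
    intro hb
    have hUW : U ≤ Subgroup.centralizer (W' : Set X) := fun u hu w hw => by
      have h1 : w * u * w⁻¹ * u⁻¹ ∈ U ⊓ W' := by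
        refine Subgroup.mem_inf.2 ⟨mul_mem ((Subgroup.mem_normalizer_iff.1 (hUn (hW'T T₀ hw)) u).1 hu) (inv_mem hu), ?_⟩
        rw [show w * u * w⁻¹ * u⁻¹ = w * (u * w⁻¹ * u⁻¹) by group]
        exact mul_mem hw ((inferInstance : W'.Normal).conj_mem _ (inv_mem hw) u)
      rw [hb, Subgroup.mem_bot, mul_inv_eq_one, mul_inv_eq_iff_eq_mul] at h1
      exact h1
    have hU0 : U = ⊥ := le_bot_iff.1 (hb ▸ le_inf le_rfl fun u hu => hW'c u (hUW hu))
    rw [hUz] at hU0
    refine ZJ.zj_ne_bot (p := p) (Or.inl rfl) T₀.2 (fun hT => ?_) hU0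
    have h1 := Subgroup.card_le_of_le ((hW'T T₀).trans hT.le)
    rw [hW', Subgroup.card_map_of_injective (f := φ) e.symm.injective, Qd.card_W, Subgroup.card_bot] at h1
    have := (Fact.out : p.Prime).two_le
    nlinarith
  obtain ⟨⟨z, hz⟩, hz1⟩ := Subgroup.ne_bot_iff_exists_ne_one.1 hne
  have hz1' : z ≠ 1 := fun h => hz1 (Subtype.ext h)
  by_cases hWU : W' ≤ U
  · -- every abelian subgroup of largest order equals `W'`
    have hUW : U = W' := by
      refine le_antisymm (fun u hu => hW'c u fun w hw => ?_) hWU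
      rw [hUz] at hu hWU
      exact (ZJ.zj_comm hu (hWU hw)).symm
    have hAW : ∀ A ∈ ZJ.goodMax 0 (T₀ : Subgroup X), A ≤ W' := fun A hA a ha => hW'c a fun w hw => by
      have hw' : w ∈ ZJ.zj 0 (T₀ : Subgroup X) := hUz ▸ hWU hw
      first
        | exact (ZJ.zj_commute hA hw' ha).symm
        | exact ZJ.zj_commute hA hw' ha
    obtain ⟨A, hA⟩ := ZJ.goodMax_nonempty 0 (T₀ : Subgroup X)
    have hBg : ZJ.IsGood 0 (B₀.map φ) := by
      refine ⟨?_, fun x _ => pow_zero x⟩
      rintro _ ⟨a, ⟨c, x, rfl⟩, rfl⟩ _ ⟨b, ⟨c', x', rfl⟩, rfl⟩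
      rw [← map_mul, ← map_mul, Qd.el_mul, Qd.el_mul]
      exact congrArg φ (Qd.el_congr (by ring) (by ring) (by ring) (by ring) (by ring) (by ring))
    have hBcard : Nat.card A ≤ Nat.card ↥(B₀.map φ) := by
      rw [Subgroup.card_map_of_injective (f := φ) e.symm.injective, hB₀c, ← Qd.card_W (p := p),
        ← Subgroup.card_map_of_injective (K := Qd.W p) (show Function.Injective φ from e.symm.injective)]
      exact Subgroup.card_le_of_le (hAW A hA)
    have hBmax : B₀.map φ ∈ ZJ.goodMax 0 (T₀ : Subgroup X) :=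
      ⟨hT₀, hBg, fun D hD hDg => (hA.2.2 D hD hDg).trans hBcard⟩
    obtain ⟨w, hw, hwe⟩ := hAW _ hBmax ⟨Qd.up 1, ⟨1, 0, rfl⟩, rfl⟩
    have h1 : Qd.up (1 : ZMod p) ∈ Qd.W p := e.symm.injective hwe ▸ hw
    rw [Qd.up_mem_W_iff] at h1
    exact one_ne_zero h1
  · obtain ⟨g, hg⟩ : ∃ g : X, g * z * g⁻¹ ∉ U := by
      by_contra hall
      push Not at hall
      refine hWU (((hirr z hz.2 hz1')).trans ((Subgroup.closure_le U).2 fun a ha => ?_))
      obtain ⟨b, hb, hc⟩ := Group.mem_conjugatesOfSet_iff.mp ha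
      obtain rfl : b = z := hb
      obtain ⟨g, rfl⟩ := isConj_iff.mp hc
      exact hall g
    obtain ⟨x, hx, hxe⟩ := (hctl {z} (by rintro a rfl; exact hUT hz.1)).2 g (by
      rintro _ ⟨a, rfl, rfl⟩; exact hW'T T ((inferInstance : W'.Normal).conj_mem _ hz.2 g))
    exact hg ((hxe z rfl) ▸ (Subgroup.mem_normalizer_iff.1 hx z).1 hz.1)

/-- For an odd prime p and a finite group G, the group Qd(p) is not involved in G if and only if in every section K/R of G, for every Sylow p-subgroup S* of K/R, the centre of J(S*) (J generated by the abelian subgroups of largest order) controls strong fusion in K/R. -/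
theorem result {G : Type*} [Group G] [Finite G] {p : ℕ} [Fact p.Prime] (hp : p ≠ 2) : ¬ Cfsg.Involves ↥(Cfsg.qd p) G ↔ ∀ (K R : Subgroup G) [hR : (R.subgroupOf K).Normal], ∀ T : Sylow p (K ⧸ R.subgroupOf K), Cfsg.ControlsStrongFusion p (Cfsg.centerThompsonAOf (T : Subgroup (K ⧸ R.subgroupOf K))) := by
  constructor
  · intro h K R hR T
    have hfree : ¬ Cfsg.Involves ↥(Cfsg.qd p) (↥K ⧸ R.subgroupOf K) := fun h' =>
      h (CfsgLib.Quadratic.involves_section K R h')
    refine ⟨T, (CfsgLib.ZJ.zj_zero _).ge.trans (CfsgLib.ZJ.zj_le 0 _), fun A hA => ?_⟩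
    rw [← CfsgLib.StrongFusion.inducedFunctor_zjA]
    exact CfsgLib.StrongFusion.controlsOf_zj hp hfree (Or.inl rfl) T ⟨le_rfl, fun x _ g hg => hg⟩ hA
  · rintro h ⟨K, R, hR, ⟨e⟩⟩
    exact not_controls hp e (h K R)

end Cfsg.Agent.S2794
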