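import Cfsg.Statements.S2000
import Cfsg.Agent.Lib.S3Free.Fusion
import Cfsg.Agent.Lib.StrongFusion.Functors
import Cfsg.Agent.S2763
import Cfsg.Agent.S2761
import Cfsg.Agent.S2794

set_option autoImplicit false
universe u
open Cfsg

namespace Cfsg.Agent.S2000

open CfsgLib CfsgLib.StrongFusion

variable {p : ℕ} [Fact p.Prime]

/-- Forward direction for odd `p`. -/
theorem controls_odd {X : Type u} [Group X] [Finite X] (hp : p ≠ 2) (hfree : ¬ Involves ↥(Cfsg.qd p) X) :
    FamilyControlsStrongFusionIn p ((fun W => inducedFunctor (G := X) W) '' {zjA}) ⊤ := by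
  obtain ⟨T⟩ := (inferInstance : Nonempty (Sylow p X))
  refine familyControls_of_chain T fun A g hA hg => ?_
  rw [← steps_famAt_self]
  exact ctrl_of_base {zjA} False (fun W hW => by rw [Set.mem_singleton_iff.1 hW]; exact isCharPFunctor_zjA)
    (base_zj hp hfree (Or.inl rfl) False) T _ ⟨le_rfl, fun x _ g hg => hg⟩ False.elim A g hA hg

/-- No family of functors controls strong fusion in `Qd(p)`. -/
theorem not_controls_qd {Y : Type u} [Group Y] [Finite Y] (e : Y ≃* Cfsg.qd p)
    (𝓦 : Set (∀ (Q : Type u) [Group Q], Subgroup Q)) (h𝓦 : ∀ W ∈ 𝓦, IsCharPFunctor.{u} p W) :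
    ¬ FamilyControlsStrongFusionIn p ((fun W => inducedFunctor (G := Y) W) '' 𝓦) ⊤ := by
  rintro ⟨T, -, hT, hidx, hctrl⟩
  rw [Subgroup.relIndex_top_right] at hidx
  set TS : Sylow p Y := hT.toSylow hidx
  set S : Sylow p (Cfsg.qd p) := TS.mapSurjective (f := e.toMonoidHom) e.surjective
  have hS : (S : Subgroup (Cfsg.qd p)) = T.map e.toMonoidHom := rfl
  have hSW : Qd.W p ≤ (S : Subgroup (Cfsg.qd p)) :=
    (le_pCore (Qd.isPGroup_W (p := p))).trans (pCore_le_sylow S)
  haveI : Nontrivial (S : Subgroup (Cfsg.qd p)) := by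
    rw [Subgroup.nontrivial_iff_ne_bot]
    intro hb
    have h1 := Subgroup.card_le_of_le hSW
    rw [hb, Qd.card_W, Subgroup.card_bot] at h1
    have := (Fact.out : p.Prime).two_le
    nlinarith
  -- the normalizers of the values
  have hN : ∀ W ∈ 𝓦, ∀ n ∈ Subgroup.normalizer (inducedFunctor (G := Y) W T : Set Y),
      e n ∈ Subgroup.normalizer ((S : Subgroup (Cfsg.qd p)) : Set (Cfsg.qd p)) := by
    intro W hW n hn
    haveI : Nontrivial T := by
      rw [Subgroup.nontrivial_iff_ne_bot]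
      intro hb
      exact (Subgroup.nontrivial_iff_ne_bot _).1 ‹Nontrivial (S : Subgroup (Cfsg.qd p))› (by
        rw [hS, hb, Subgroup.map_bot])
    let ε : T ≃* (S : Subgroup (Cfsg.qd p)) := T.equivMapOfInjective e.toMonoidHom e.injective
    set U := (W T).map ε.toMonoidHom
    have hU : U ≠ ⊥ := fun hb => (h𝓦 W hW).1 T hT inferInstance
      ((Subgroup.map_eq_bot_iff_of_injective _ ε.injective).1 hb)
    haveI hUc : U.Characteristic := by
      have hWc : (W T).Characteristic :=
        Subgroup.characteristic_iff_map_eq.mpr fun φ => (h𝓦 W hW).2 T T hT φ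
      refine Subgroup.characteristic_iff_map_eq.mpr fun φ => ?_
      rw [Subgroup.map_map]
      conv_rhs => rw [show U = (W T).map ε.toMonoidHom from rfl,
        ← Subgroup.characteristic_iff_map_eq.mp hWc ((ε.trans φ).trans ε.symm), Subgroup.map_map]
      congr 1
      ext z; simp
    have hUmap : U.map (S : Subgroup (Cfsg.qd p)).subtype = (inducedFunctor (G := Y) W T).map e.toMonoidHom := by
      show ((W T).map ε.toMonoidHom).map _ = ((W T).map T.subtype).map _
      rw [Subgroup.map_map, Subgroup.map_map]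
      rfl
    rw [← (Cfsg.Agent.S2763.result S U hU hUc).1, hUmap]
    exact Subgroup.le_normalizer_map e.toMonoidHom ⟨n, hn, rfl⟩
  -- a central element of `S` in `W` fused outside the centre
  set Z := (S : Subgroup (Cfsg.qd p)) ⊓ Subgroup.centralizer ((S : Subgroup (Cfsg.qd p)) : Set (Cfsg.qd p))
  obtain ⟨z, hzZ, hzW, hz1⟩ : ∃ z ∈ Z, z ∈ Qd.W p ∧ z ≠ 1 := by
    haveI : Group.IsNilpotent (S : Subgroup (Cfsg.qd p)) := S.2.isNilpotent
    haveI : ((Qd.W p).subgroupOf (S : Subgroup (Cfsg.qd p))).Normal := Subgroup.Normal.subgroupOf inferInstance _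
    have hne : (Qd.W p).subgroupOf (S : Subgroup (Cfsg.qd p)) ≠ ⊥ := by
      intro hb
      have h1 := congrArg (fun H : Subgroup (S : Subgroup (Cfsg.qd p)) => Nat.card H) hb
      simp only [Subgroup.card_bot, Nat.card_congr (Subgroup.subgroupOfEquivOfLe hSW).toEquiv, Qd.card_W] at h1
      have := (Fact.out : p.Prime).two_le
      nlinarith
    obtain ⟨⟨z, hz⟩, ⟨hzW, hzC⟩, hz1⟩ :=
      (Subgroup.bot_or_exists_ne_one _).resolve_left (CfsgLib.inf_center_ne_bot_of_nilpotent hne)
    exact ⟨z, ⟨hz, fun s hs => congrArg Subtype.val (Subgroup.mem_center_iff.1 hzC ⟨s, hs⟩)⟩, hzW,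
      fun h => hz1 (Subtype.ext h)⟩
  obtain ⟨g, hg⟩ : ∃ g, g * z * g⁻¹ ∉ Z := by
    by_contra hall
    push Not at hall
    set N := Subgroup.normalClosure ({z} : Set (Cfsg.qd p))
    have hNW : N ≤ Qd.W p := Subgroup.normalClosure_le_normal (Set.singleton_subset_iff.2 hzW)
    have hNZ : N ≤ Z := (Subgroup.closure_le Z).2 fun a ha => by
      obtain ⟨b, hb, hc⟩ := Group.mem_conjugatesOfSet_iff.mp ha
      obtain rfl : b = z := hb
      obtain ⟨g, rfl⟩ := isConj_iff.mp hc
      exact hall g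
    have hNne : N ≠ ⊥ := fun hb => hz1 (Subgroup.mem_bot.1 (hb ▸ Subgroup.subset_normalClosure rfl))
    have hWN : Qd.W p ≤ N := fun w hw => Qd.W_irreducible (N := N) hNW hNne hw
    have hSeq : (S : Subgroup (Cfsg.qd p)) = Qd.W p := le_antisymm
      (fun s hs => Cfsg.Agent.S2794.mem_W_of_commute fun w hw => ((hNZ (hWN hw)).2 s hs).symm) hSW
    refine (Cfsg.Agent.S2763.result S ⊤ top_ne_bot (by infer_instance)).2 ?_
    rw [hSeq]
    exact Subgroup.normalizer_eq_top _
  have hTmem : ∀ x, x ∈ (S : Subgroup (Cfsg.qd p)) → e.symm x ∈ T := by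
    rintro _ ⟨t, ht, rfl⟩
    show e.symm (e t) ∈ T
    rw [e.symm_apply_apply]
    exact ht
  obtain ⟨n, c, hc0, hstep, -, hlast⟩ := hctrl {e.symm z} (e.symm g) (Subgroup.mem_top _)
    (by rintro x rfl; exact hTmem z hzZ.1)
    (by
      rintro _ ⟨x, rfl, rfl⟩
      have : g * z * g⁻¹ ∈ (S : Subgroup (Cfsg.qd p)) :=
        hSW ((inferInstance : (Qd.W p).Normal).conj_mem z hzW g)
      simpa using hTmem _ this)
  have hcS : ∀ i : Fin (n + 1), e (c i) ∈ Subgroup.normalizer ((S : Subgroup (Cfsg.qd p)) : Set (Cfsg.qd p)) := by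
    intro i
    induction i using Fin.induction with
    | zero => rw [hc0, map_one]; exact one_mem _
    | succ i ih =>
      obtain ⟨_, ⟨W, hW, rfl⟩, -, hn⟩ := hstep i
      have h1 := Subgroup.mul_mem _ (hN W hW _ hn) ih
      rwa [← map_mul, inv_mul_cancel_right] at h1
  have h1 := congrArg e (hlast (e.symm z) rfl)
  simp only [map_mul, map_inv, MulEquiv.apply_symm_apply] at h1
  set k := e (c (Fin.last n))
  have hk := hcS (Fin.last n)
  refine hg (h1 ▸ ⟨(Subgroup.mem_normalizer_iff.1 hk z).1 hzZ.1, fun s hs => ?_⟩)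
  have hs' := (Subgroup.mem_normalizer_iff.1 (inv_mem hk) s).1 hs
  have h2 := hzZ.2 _ hs'
  calc s * (k * z * k⁻¹) = k * (k⁻¹ * s * k⁻¹⁻¹ * z) * k⁻¹ := by group
    _ = k * (z * (k⁻¹ * s * k⁻¹⁻¹)) * k⁻¹ := by rw [h2]
    _ = _ := by group

/-- Let p be a prime and G a finite group. Then Qd(p) (the natural semidirect product of an elementary abelian group of order p² by SL₂(p)) is not involved in G if and only if there is a set 𝓦 of isomorphism-invariant p-group functors (each nontrivial on nontrivial finite p-groups and carried onto W(R) by every isomorphism from a finite p-group Q onto R, hence with characteristic values on finite p-groups) whose induced conjugacy functors control strong fusion in every section of G. -/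
theorem result {G : Type u} [Group G] [Finite G] {p : ℕ} [Fact p.Prime] : ¬ Cfsg.Involves ↥(Cfsg.qd p) G ↔ ∃ 𝓦 : Set (∀ (Q : Type u) [Group Q], Subgroup Q), (∀ W ∈ 𝓦, Cfsg.IsCharPFunctor.{u} p W) ∧ ∀ (K R : Subgroup G) [hR : (R.subgroupOf K).Normal], Cfsg.FamilyControlsStrongFusionIn p ((fun W => Cfsg.inducedFunctor (G := (↥K ⧸ R.subgroupOf K)) W) '' 𝓦) ⊤ := by
  constructor
  · intro h
    have hfree : ∀ (K R : Subgroup G) [hR : (R.subgroupOf K).Normal],
        ¬ Cfsg.Involves ↥(Cfsg.qd p) (↥K ⧸ R.subgroupOf K) := fun K R _ h' =>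
      h (CfsgLib.Quadratic.involves_section K R h')
    by_cases hp : p = 2
    · subst hp
      refine ⟨{CfsgLib.S3Free.centerFun, CfsgLib.S3Free.thompsonFun}, ?_, fun K R hR => ?_⟩
      · rintro W (rfl | rfl)
        exacts [CfsgLib.S3Free.isCharPFunctor_centerFun, CfsgLib.S3Free.isCharPFunctor_thompsonFun]
      · rw [Set.image_pair]
        beta_reduce
        have e : (inducedFunctor (G := (↥K ⧸ R.subgroupOf K)) CfsgLib.S3Free.centerFun) =
            fun P : Subgroup (↥K ⧸ R.subgroupOf K) =>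
              P ⊓ Subgroup.centralizer (P : Set (↥K ⧸ R.subgroupOf K)) :=
          funext CfsgLib.S3Free.inducedFunctor_centerFun
        rw [e]
        refine CfsgLib.S3Free.controls_center_thompson fun hi => hfree K R ?_
        obtain ⟨A, B, hB, ⟨e'⟩⟩ := hi
        obtain ⟨e₂⟩ := Cfsg.Agent.S2761.result
        exact ⟨A, B, hB, ⟨e'.trans e₂.symm⟩⟩
    · exact ⟨{zjA}, fun W hW => by rw [Set.mem_singleton_iff.1 hW]; exact isCharPFunctor_zjA,
        fun K R hR => controls_odd hp (hfree K R)⟩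
  · rintro ⟨𝓦, h𝓦, h⟩ ⟨K, R, hR, ⟨e⟩⟩
    exact not_controls_qd e 𝓦 h𝓦 (h K R)

end Cfsg.Agent.S2000
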