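import Cfsg.Statements.S2001
import Cfsg.Agent.Lib.TransferControl.Family

set_option autoImplicit false
set_option linter.unusedVariables false
open Cfsg
open scoped commutatorElement

namespace Cfsg.Agent.S2001

open CfsgLib CfsgLib.StrongFusion CfsgLib.TransferControl
open scoped Pointwise commutatorElement

variable {G : Type*} [Group G] [Finite G] {p : ℕ} [Fact p.Prime]

/-- The two parts inside `H`. -/
def two (W V : Subgroup G → Subgroup G) (H Q : Subgroup G) : Subgroup G :=
  (Q ⊓ ⁅H ⊓ Subgroup.normalizer ((W Q : Subgroup G) : Set G), H ⊓ Subgroup.normalizer ((W Q : Subgroup G) : Set G)⁆) ⊔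
    (Q ⊓ ⁅H ⊓ Subgroup.centralizer ((V Q : Subgroup G) : Set G), H ⊓ Subgroup.centralizer ((V Q : Subgroup G) : Set G)⁆)

/-- Local control of transfer at `U` with Sylow subgroup `Q`. -/
def Loc (W V : Subgroup G → Subgroup G) (U Q : Subgroup G) : Prop :=
  Q ⊓ ⁅Subgroup.normalizer (U : Set G), Subgroup.normalizer (U : Set G)⁆ ≤ two W V (Subgroup.normalizer (U : Set G)) Q

omit [Finite G] [Fact p.Prime] in
theorem conj_normalizer {U : Subgroup G} {y x : G} (hx : x ∈ Subgroup.normalizer (U : Set G)) :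
    y * x * y⁻¹ ∈ Subgroup.normalizer (cm y U : Set G) :=
  Subgroup.le_normalizer_map (MulAut.conj y).toMonoidHom ⟨x, hx, rfl⟩

omit [Finite G] [Fact p.Prime] in
theorem conj_centralizer (V : Subgroup G) (y : G) :
    cm y (Subgroup.centralizer (V : Set G)) ≤ Subgroup.centralizer ((cm y V : Subgroup G) : Set G) := by
  rintro _ ⟨l, hl, rfl⟩ _ ⟨v, hv, rfl⟩
  show y * v * y⁻¹ * (y * l * y⁻¹) = y * l * y⁻¹ * (y * v * y⁻¹)
  calc _ = y * (v * l) * y⁻¹ := by group
    _ = y * (l * v) * y⁻¹ := by rw [hl v hv]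
    _ = _ := by group

omit [Fact p.Prime] in
theorem loc_conj {W V : Subgroup G → Subgroup G} (hW : Cfsg.IsConjugacyFunctor p W) (hV : Cfsg.IsConjugacyFunctor p V)
    {U Q : Subgroup G} (hQ : IsPGroup p Q) (h : Loc W V U Q) (y : G) : Loc W V (cm y U) (cm y Q) := by
  have hinj : Function.Injective (MulAut.conj y).toMonoidHom := (MulAut.conj y).injective
  have hN : Subgroup.normalizer ((cm y U : Subgroup G) : Set G) = cm y (Subgroup.normalizer (U : Set G)) :=
    (Subgroup.map_normalizer_eq_of_bijective U (f := (MulAut.conj y).toMonoidHom) (MulAut.conj y).bijective).symm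
  have h1 := Subgroup.map_mono (f := (MulAut.conj y).toMonoidHom) h
  rw [Subgroup.map_inf _ _ _ hinj, Subgroup.map_commutator] at h1
  rw [Loc, hN]
  refine h1.trans ?_
  rw [two, two, Subgroup.map_sup]
  refine sup_le_sup ?_ ?_
  · rw [Subgroup.map_inf _ _ _ hinj, Subgroup.map_commutator]
    have e : cm y (Subgroup.normalizer (U : Set G) ⊓ Subgroup.normalizer ((W Q : Subgroup G) : Set G)) ≤
        cm y (Subgroup.normalizer (U : Set G)) ⊓ Subgroup.normalizer ((W (cm y Q) : Subgroup G) : Set G) := by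
      refine le_inf (cm_mono inf_le_left) ?_
      rw [show W (cm y Q) = cm y (W Q) from (hW Q hQ).2.2 y]
      exact (cm_mono inf_le_right).trans (fun x ⟨l, hl, hlx⟩ => hlx ▸ conj_normalizer hl)
    exact inf_le_inf_left _ (Subgroup.commutator_mono e e)
  · rw [Subgroup.map_inf _ _ _ hinj, Subgroup.map_commutator]
    have e : cm y (Subgroup.normalizer (U : Set G) ⊓ Subgroup.centralizer ((V Q : Subgroup G) : Set G)) ≤
        cm y (Subgroup.normalizer (U : Set G)) ⊓ Subgroup.centralizer ((V (cm y Q) : Subgroup G) : Set G) := by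
      refine le_inf (cm_mono inf_le_left) ?_
      rw [show V (cm y Q) = cm y (V Q) from (hV Q hQ).2.2 y]
      exact (cm_mono inf_le_right).trans (conj_centralizer (V Q) y)
    exact inf_le_inf_left _ (Subgroup.commutator_mono e e)

/-- From local to global control of transfer through `W` and `V`. -/
theorem inf_commutator_le_two (P : Sylow p G) {W V : Subgroup G → Subgroup G} (hW : Cfsg.IsConjugacyFunctor p W)
    (hV : Cfsg.IsConjugacyFunctor p V)
    (hWZ : ∀ H : Subgroup G, IsPGroup p ↥H → H ⊓ Subgroup.centralizer ((H : Subgroup G) : Set G) ≤ W H)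
    (hVmono : ∀ H K : Subgroup G, IsPGroup p ↥H → IsPGroup p ↥K → H ≠ ⊥ → K ≠ ⊥ →
      H ⊓ Subgroup.centralizer ((H : Subgroup G) : Set G) ≤ K ⊓ Subgroup.centralizer ((K : Subgroup G) : Set G) →
      V H ≤ V K)
    (hloc : ∀ H : Subgroup G, (P : Subgroup G) ⊓ Subgroup.centralizer ((P : Subgroup G) : Set G) ≤ H →
      H ≤ (P : Subgroup G) → ∃ Q : Subgroup G, Q ≤ Subgroup.normalizer (H : Set G) ∧ IsPGroup p ↥Q ∧
        ¬ p ∣ Q.relIndex (Subgroup.normalizer (H : Set G)) ∧ Loc W V H Q) :
    (P : Subgroup G) ⊓ commutator G ≤ two W V ⊤ (P : Subgroup G) := by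
  set M := two W V ⊤ (P : Subgroup G) with hM
  have transport : ∀ U y, (P : Subgroup G) ⊓ Subgroup.centralizer ((P : Subgroup G) : Set G) ≤ U →
      U ≤ (P : Subgroup G) → Full p (P : Subgroup G) (cm y U) →
      Loc W V (cm y U) ((P : Subgroup G) ⊓ Subgroup.normalizer (cm y U : Set G)) := by
    intro U y hZU hU hf
    obtain ⟨Q, hQN, hQ, hidx, hQloc⟩ := hloc U hZU hU
    have hQy : cm y Q ≤ Subgroup.normalizer (cm y U : Set G) := fun x hx => by
      obtain ⟨q, hq, rfl⟩ := hx
      exact conj_normalizer (hQN hq)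
    obtain ⟨m, hm, hmle⟩ := exists_conj_le inf_le_right (P.2.to_le inf_le_left) hf hQy (hQ.map _)
    have hN : Subgroup.normalizer (cm y U : Set G) = cm y (Subgroup.normalizer (U : Set G)) :=
      (Subgroup.map_normalizer_eq_of_bijective U (f := (MulAut.conj y).toMonoidHom) (MulAut.conj y).bijective).symm
    obtain ⟨m', hm', hmle'⟩ := exists_conj_le hQy (hQ.map _) (by
      rw [hN, Subgroup.relIndex_map_map_of_injective _ _ (MulAut.conj y).injective]; exact hidx)
      (inf_le_right : (P : Subgroup G) ⊓ Subgroup.normalizer (cm y U : Set G) ≤ _) (P.2.to_le inf_le_left)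
    have heq : cm m (cm y Q) = (P : Subgroup G) ⊓ Subgroup.normalizer (cm y U : Set G) :=
      Subgroup.eq_of_le_of_card_ge hmle (by
        rw [card_cm]; exact card_cm m' ((P : Subgroup G) ⊓ Subgroup.normalizer (cm y U : Set G)) ▸
          Subgroup.card_le_of_le hmle')
    have h1 := loc_conj hW hV hQ hQloc (m * y)
    rwa [← cm_cm, ← cm_cm, heq, show cm m (cm y U) = cm y U from Local.map_conj_eq_of_mem_normalizer hm] at h1
  have key : ∀ d k : ℕ, Nat.card G - k = d →
      (∀ (A : Subgroup G) (g : G), k ≤ Nat.card A → A ≤ (P : Subgroup G) → cm g A ≤ (P : Subgroup G) → Fx M A g) ∧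
      (∀ U ≤ (P : Subgroup G), U ≠ ⊥ → Loc W V U ((P : Subgroup G) ⊓ Subgroup.normalizer (U : Set G)) →
        k ≤ Nat.card ↥((P : Subgroup G) ⊓ Subgroup.normalizer (U : Set G)) →
        (P : Subgroup G) ⊓ Subgroup.normalizer (U : Set G) ⊓
          ⁅Subgroup.normalizer (U : Set G), Subgroup.normalizer (U : Set G)⁆ ≤ M) := by
    intro d
    induction d using Nat.strong_induction_on with
    | h d ih =>
    intro k hd
    have hlt : ∀ n, k < n → n ≤ Nat.card G → Nat.card G - n < d := fun n h1 h2 => by omega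
    have cardG : ∀ A : Subgroup G, Nat.card A ≤ Nat.card G := fun A =>
      Nat.le_of_dvd Nat.card_pos A.card_subgroup_dvd_card
    have big1 : ∀ (A : Subgroup G) (g : G), k < Nat.card A → A ≤ (P : Subgroup G) → cm g A ≤ (P : Subgroup G) →
        Fx M A g := fun A g hA h1 h2 => (ih _ (hlt _ hA (cardG A)) _ rfl).1 A g le_rfl h1 h2
    have big2 : ∀ U ≤ (P : Subgroup G), U ≠ ⊥ → Loc W V U ((P : Subgroup G) ⊓ Subgroup.normalizer (U : Set G)) →
        k < Nat.card ↥((P : Subgroup G) ⊓ Subgroup.normalizer (U : Set G)) →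
        (P : Subgroup G) ⊓ Subgroup.normalizer (U : Set G) ⊓
          ⁅Subgroup.normalizer (U : Set G), Subgroup.normalizer (U : Set G)⁆ ≤ M :=
      fun U h1 h2 h3 hk => (ih _ (hlt _ hk (cardG _)) _ rfl).2 U h1 h2 h3 le_rfl
    have second : ∀ U ≤ (P : Subgroup G), U ≠ ⊥ → Loc W V U ((P : Subgroup G) ⊓ Subgroup.normalizer (U : Set G)) →
        k ≤ Nat.card ↥((P : Subgroup G) ⊓ Subgroup.normalizer (U : Set G)) →
        (P : Subgroup G) ⊓ Subgroup.normalizer (U : Set G) ⊓
          ⁅Subgroup.normalizer (U : Set G), Subgroup.normalizer (U : Set G)⁆ ≤ M := by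
      intro U hU hU0 hUloc hk
      rcases lt_or_eq_of_le hk with hk | hk
      · exact big2 U hU hU0 hUloc hk
      set T := (P : Subgroup G) ⊓ Subgroup.normalizer (U : Set G) with hT
      have hTP : T ≤ (P : Subgroup G) := inf_le_left
      have hT0 : T ≠ ⊥ := fun h => hU0 (le_bot_iff.1 (h ▸ le_inf hU Subgroup.le_normalizer))
      have hZT : (P : Subgroup G) ⊓ Subgroup.centralizer ((P : Subgroup G) : Set G) ≤
          T ⊓ Subgroup.centralizer (T : Set G) :=
        le_inf (center_le_inf_normalizer hU) (inf_le_right.trans (Subgroup.centralizer_le (fun x hx => hx.1)))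
      refine hUloc.trans (sup_le ?_ ?_)
      swap
      · refine le_trans ?_ le_sup_right
        have hc : Subgroup.normalizer (U : Set G) ⊓ Subgroup.centralizer ((V T : Subgroup G) : Set G) ≤
            ⊤ ⊓ Subgroup.centralizer ((V (P : Subgroup G) : Subgroup G) : Set G) := by
          refine inf_le_inf le_top (Subgroup.centralizer_le (fun x hx => hVmono _ _ P.2 (P.2.to_le hTP) ?_ hT0 hZT hx))
          exact fun h => hT0 (le_bot_iff.1 (hTP.trans h.le))
        exact inf_le_inf hTP (Subgroup.commutator_mono hc hc)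
      by_cases hTP' : T = (P : Subgroup G)
      · rw [hTP']
        refine le_trans ?_ le_sup_left
        exact inf_le_inf_left _ (Subgroup.commutator_mono (inf_le_inf_right _ le_top) (inf_le_inf_right _ le_top))
      obtain ⟨hWT, hW0, hWn⟩ := hW_of_isConjugacyFunctor P hW hTP hT0
      set U' := W T with hU'
      set T' := (P : Subgroup G) ⊓ Subgroup.normalizer (U' : Set G) with hT'
      have hTT' : T < T' := (lt_inf_normalizer P hTP hTP').trans_le (le_inf inf_le_left hWn)
      have hTT'c : k < Nat.card T' := hk ▸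
        lt_of_le_of_ne (Subgroup.card_le_of_le hTT'.le) fun h => hTT'.ne (Subgroup.eq_of_le_of_card_ge hTT'.le h.ge)
      obtain ⟨y, hy, hyf⟩ := exists_full P (hWT.trans hTP)
      have hyloc := transport U' y (hZT.trans (hWZ T (P.2.to_le hTP))) (hWT.trans hTP) hyf
      have hyT' := cm_inf_normalizer_le y hy
      have hU''P : cm y U' ≤ (P : Subgroup G) :=
        (cm_mono (le_inf (hWT.trans hTP) Subgroup.le_normalizer)).trans hy
      have hU''0 : cm y U' ≠ ⊥ := fun h =>
        hW0 ((Subgroup.map_eq_bot_iff_of_injective U' (MulAut.conj y).injective).1 h)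
      have hbig := big2 _ hU''P hU''0 hyloc (lt_of_lt_of_le hTT'c (card_cm y T' ▸ Subgroup.card_le_of_le hyT'))
      rintro x ⟨hxT, hxC⟩
      exact mem_of_fx (big1 T' y hTT'c inf_le_left hy x (hTT'.le hxT))
        (hbig ⟨hyT' (conj_mem_cm (hTT'.le hxT)), conj_mem_commutator (L := Subgroup.normalizer (U : Set G) ⊓ Subgroup.normalizer ((W T : Subgroup G) : Set G)) (fun l hl => conj_normalizer hl.2) hxC⟩)
    refine ⟨?_, second⟩
    intro A g hkA hA hg
    rcases lt_or_eq_of_le hkA with hkA | hkA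
    · exact big1 A g hkA hA hg
    rcases eq_or_ne A ⊥ with rfl | hA0
    · intro a ha
      rw [Subgroup.mem_bot.1 ha, commutatorElement_one_right]
      exact one_mem _
    have haut : ∀ U ≤ (P : Subgroup G), Nat.card U = Nat.card A → Full p (P : Subgroup G) U →
        ∀ w ∈ Subgroup.normalizer (U : Set G), Fx M U w := by
      intro U hUP hUc hVg w hwN a ha
      have hU0 : U ≠ ⊥ := fun h => hA0 (Subgroup.eq_bot_of_card_eq _ (by rw [← hUc, h, Subgroup.card_bot]))
      set C := Subgroup.centralizer (U : Set G) with hC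
      set D := (P : Subgroup G) ⊓ C with hD
      have hCN : C ≤ Subgroup.normalizer (U : Set G) := Subgroup.centralizer_le_normalizer (U : Set G)
      by_cases hDU : D ≤ U
      · have hZU : (P : Subgroup G) ⊓ Subgroup.centralizer ((P : Subgroup G) : Set G) ≤ U :=
          (inf_le_inf_left _ (Subgroup.centralizer_le hUP)).trans hDU
        have hl := transport U 1 hZU hUP (by rwa [cm_one])
        rw [cm_one] at hl
        have hle : U ≤ (P : Subgroup G) ⊓ Subgroup.normalizer (U : Set G) := le_inf hUP Subgroup.le_normalizer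
        refine second U hUP hU0 hl ((hkA.trans hUc.symm).le.trans (Subgroup.card_le_of_le hle))
          ⟨hle ?_, Subgroup.commutator_mem_commutator hwN (Subgroup.le_normalizer ha)⟩
        rw [commutatorElement_def]
        exact mul_mem ((Subgroup.mem_normalizer_iff.1 hwN a).1 ha) (inv_mem ha)
      have hnorm : ∀ x ∈ Subgroup.normalizer (U : Set G), ∀ c ∈ C, x * c * x⁻¹ ∈ C := by
        intro x hx c hc v hv
        have hv' : x⁻¹ * v * x ∈ U := by
          have := (Subgroup.mem_normalizer_iff.1 (inv_mem hx) v).1 hv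
          rwa [inv_inv] at this
        calc v * (x * c * x⁻¹) = x * (x⁻¹ * v * x * c) * x⁻¹ := by group
          _ = x * (c * (x⁻¹ * v * x)) * x⁻¹ := by rw [hc _ hv']
          _ = x * c * x⁻¹ * v := by group
      obtain ⟨R₀, hR₀⟩ := ((P.2.to_le (inf_le_left : D ≤ _)).of_equiv
        (Subgroup.subgroupOfEquivOfLe (inf_le_right : D ≤ C)).symm).exists_le_sylow
      have hRD : (R₀ : Subgroup C).map C.subtype = D := by
        have hDle : D ≤ (R₀ : Subgroup C).map C.subtype := fun d hd => ⟨⟨d, hd.2⟩, hR₀ hd, rfl⟩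
        refine (Subgroup.eq_of_le_of_card_ge hDle ?_).symm
        obtain ⟨m, hm, hmle⟩ := exists_conj_le (Q := (P : Subgroup G) ⊓ Subgroup.normalizer (U : Set G)) inf_le_right
          (P.2.to_le inf_le_left) hVg ((Subgroup.map_subtype_le _).trans hCN) (R₀.2.map C.subtype)
        rw [← card_cm m]
        refine Subgroup.card_le_of_le ?_
        rintro _ ⟨r, hr, rfl⟩
        exact ⟨(hmle ⟨r, hr, rfl⟩).1, hnorm m hm r ((Subgroup.map_subtype_le _) hr)⟩
      have hidx : ¬ p ∣ D.relIndex C := by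
        rw [← hRD, Subgroup.relIndex, Subgroup.subgroupOf, Subgroup.comap_map_eq_self_of_injective C.subtype_injective]
        exact R₀.not_dvd_index
      obtain ⟨c, hc, hcle⟩ := exists_conj_le (Q := D) inf_le_right (P.2.to_le inf_le_left) hidx (R := cm w D)
        (Local.map_conj_le fun d hd => hnorm w hwN d hd.2) ((P.2.to_le inf_le_left).map _)
      rw [cm_cm] at hcle
      have hlt : U < U ⊔ D := lt_of_le_of_ne le_sup_left fun h => hDU (h ▸ le_sup_right)
      have hcU : cm (c * w) (U ⊔ D) ≤ (P : Subgroup G) := by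
        rw [cm, Subgroup.map_sup]
        refine sup_le ?_ (hcle.trans inf_le_left)
        rw [show U.map (MulAut.conj (c * w)).toMonoidHom = U from
          Local.map_conj_eq_of_mem_normalizer (mul_mem (hCN hc) hwN)]
        exact hUP
      have hcard : k < Nat.card ↥(U ⊔ D) := by
        rw [hkA, ← hUc]
        exact lt_of_le_of_ne (Subgroup.card_le_of_le hlt.le) fun h => hlt.ne (Subgroup.eq_of_le_of_card_ge hlt.le h.ge)
      have h1 := big1 (U ⊔ D) (c * w) hcard (sup_le hUP inf_le_left) hcU a (Subgroup.mem_sup_left ha)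
      have hwa : w * a * w⁻¹ ∈ U := (Subgroup.mem_normalizer_iff.1 hwN a).1 ha
      have e : c * (w * a * w⁻¹) * c⁻¹ = w * a * w⁻¹ := by rw [← hc _ hwa, mul_inv_cancel_right]
      rw [commutatorElement_def] at h1 ⊢
      rw [show c * w * a * (c * w)⁻¹ = c * (w * a * w⁻¹) * c⁻¹ by group, e] at h1
      exact h1
    by_cases hAP : A = (P : Subgroup G)
    · refine haut A hA rfl ?_ g (Local.mem_normalizer_of_map_conj_eq
        (Subgroup.eq_of_le_of_card_ge (hg.trans hAP.ge) (card_cm g A).ge))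
      rw [Full, hAP]
      intro h
      rw [inf_eq_left.2 Subgroup.le_normalizer] at h
      exact P.not_dvd_index (h.trans (Subgroup.relIndex_dvd_index_of_le Subgroup.le_normalizer))
    have hlarge : ∀ C : Subgroup G, C ≤ (P : Subgroup G) → Nat.card C = Nat.card A →
        k < Nat.card ↥((P : Subgroup G) ⊓ Subgroup.normalizer (C : Set G)) := by
      intro C hC hc
      have hne : C ≠ (P : Subgroup G) := fun h => hAP (Subgroup.eq_of_le_of_card_ge hA (by rw [← hc, h]))
      have h := lt_inf_normalizer P hC hne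
      rw [hkA, ← hc]
      exact lt_of_le_of_ne (Subgroup.card_le_of_le h.le) fun e => h.ne (Subgroup.eq_of_le_of_card_ge h.le e.ge)
    obtain ⟨y₁, hy₁, hVg⟩ := exists_full P hA
    set U := cm y₁ A with hU
    have hUP : U ≤ (P : Subgroup G) := (cm_mono (le_inf hA Subgroup.le_normalizer)).trans hy₁
    have hchA : Fx M A y₁ :=
      (big1 _ y₁ (hlarge A hA rfl) inf_le_left hy₁).mono (le_inf hA Subgroup.le_normalizer)
    set TB := (P : Subgroup G) ⊓ Subgroup.normalizer (cm g A : Set G) with hTB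
    set z := y₁ * g⁻¹ with hz
    have hzB : cm z (cm g A) = U := by rw [cm_cm, hz, inv_mul_cancel_right]
    obtain ⟨w, hwN, hw⟩ := exists_conj_le (Q := (P : Subgroup G) ⊓ Subgroup.normalizer (U : Set G)) inf_le_right
      (P.2.to_le inf_le_left) hVg (R := cm z TB)
      (Local.map_conj_le fun x hx => Local.mem_normalizer_of_map_conj_eq (by
        show cm (z * x * z⁻¹) U = U
        rw [← hzB, cm_cm, show z * x * z⁻¹ * z = z * x by group, ← cm_cm]
        exact congrArg (cm z) (Local.map_conj_eq_of_mem_normalizer hx.2)))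
      ((P.2.to_le inf_le_left).map _)
    have hwz : cm (w * z) TB ≤ (P : Subgroup G) := by rw [← cm_cm]; exact hw.trans inf_le_left
    have hchB : Fx M (cm g A) (w * z) :=
      (big1 TB (w * z) (hlarge _ hg (card_cm g A)) inf_le_left hwz).mono (le_inf hg Subgroup.le_normalizer)
    have hRV := haut U hUP (card_cm y₁ A) hVg w hwN
    have hwU : cm w U = U := Local.map_conj_eq_of_mem_normalizer hwN
    have h3 := hchB.inv
    rw [← cm_cm, hzB, hwU] at h3
    have h4 : Fx M A ((w * z)⁻¹ * (w * y₁)) := by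
      refine (hchA.comp hRV).comp ?_
      rw [← cm_cm, hwU]
      exact h3
    rwa [show (w * z)⁻¹ * (w * y₁) = g by rw [hz]; group] at h4
  have hPd : ⁅(P : Subgroup G), (P : Subgroup G)⁆ ≤ M := by
    rcases eq_or_ne (P : Subgroup G) ⊥ with h | h
    · exact (Subgroup.commutator_le_self _).trans (h.le.trans bot_le)
    refine le_trans ?_ le_sup_left
    have hle : (P : Subgroup G) ≤ ⊤ ⊓ Subgroup.normalizer ((W (P : Subgroup G) : Subgroup G) : Set G) :=
      le_inf le_top ((le_inf le_rfl Subgroup.le_normalizer).trans (hW_of_isConjugacyFunctor P hW le_rfl h).2.2)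
    exact le_inf (Subgroup.commutator_le_self _) (Subgroup.commutator_mono hle hle)
  obtain ⟨hfx, -⟩ := key _ 0 rfl
  rw [inf_comm, Subgroup.commutator_inf_eq_focalSubgroup, Subgroup.focalSubgroup_def, Subgroup.closure_le]
  rintro _ ⟨hg, x, hx, u, rfl⟩
  have hux : u * x⁻¹ * u⁻¹ ∈ (P : Subgroup G) := by
    have := mul_mem (inv_mem hx) hg
    rwa [show x⁻¹ * ⁅x, u⁆ = u * x⁻¹ * u⁻¹ by simp only [commutatorElement_def]; group] at this
  have h1 := hfx (Subgroup.zpowers x⁻¹) u (Nat.zero_le _) (Subgroup.zpowers_le.2 (inv_mem hx)) (by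
    rintro _ ⟨a, ha, rfl⟩
    obtain ⟨j, rfl⟩ := Subgroup.mem_zpowers_iff.1 ha
    show u * x⁻¹ ^ j * u⁻¹ ∈ (P : Subgroup G)
    rw [← conj_zpow]; exact zpow_mem hux j) x⁻¹ (Subgroup.mem_zpowers _)
  have h2 := conj_mem_of_derived_le (sup_le inf_le_left inf_le_left) hPd hx h1
  rwa [show x * ⁅u, x⁻¹⁆ * x⁻¹ = ⁅x, u⁆ by simp only [commutatorElement_def]; group] at h2

/-- Let p be a prime dividing the order of the finite group G, P a Sylow p-subgroup, W a conjugacy functor for p on G with Z(H) ≤ W(H) for every nontrivial p-subgroup H, and V a central functor: a conjugacy functor with V(H) ≤ Z(H), and V(H) ≤ V(K) whenever Z(H) ≤ Z(K), for nontrivial p-subgroups H, K. Say that W with V controls transfer in a subgroup L when some Sylow p-subgroup Q of L satisfies Q ∩ L' = (Q ∩ (N_L(W(Q)))')·(Q ∩ (C_L(V(Q)))') as a product of two subgroups. If W with V controls transfer in N_G(H) for every subgroup H with Z(P) ≤ H ≤ P, then W with V controls transfer in G. -/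
theorem result {G : Type*} [Group G] [Finite G] {p : ℕ} [Fact p.Prime] (hdiv : p ∣ Nat.card G) (P : Sylow p G) (W V : Subgroup G → Subgroup G) (hW : Cfsg.IsConjugacyFunctor p W) (hV : Cfsg.IsConjugacyFunctor p V) (hWZ : ∀ H : Subgroup G, IsPGroup p ↥H → H ⊓ Subgroup.centralizer ((H : Subgroup G) : Set G) ≤ W H) (hVZ : ∀ H : Subgroup G, IsPGroup p ↥H → V H ≤ H ⊓ Subgroup.centralizer ((H : Subgroup G) : Set G)) (hVmono : ∀ H K : Subgroup G, IsPGroup p ↥H → IsPGroup p ↥K → H ≠ ⊥ → K ≠ ⊥ → H ⊓ Subgroup.centralizer ((H : Subgroup G) : Set G) ≤ K ⊓ Subgroup.centralizer ((K : Subgroup G) : Set G) → V H ≤ V K) (hloc : ∀ H : Subgroup G, (P : Subgroup G) ⊓ Subgroup.centralizer (((P : Subgroup G) : Subgroup G) : Set G) ≤ H → H ≤ (P : Subgroup G) → ∃ Q : Subgroup G, Q ≤ Subgroup.normalizer ((H : Subgroup G) : Set G) ∧ IsPGroup p ↥Q ∧ ¬ p ∣ (Q).relIndex (Subgroup.normalizer ((H : Subgroup G) : Set G)) ∧ ∀ x : G, x ∈ Q ⊓ ⁅Subgroup.normalizer ((H : Subgroup G) : Set G), Subgroup.normalizer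 ((H : Subgroup G) : Set G)⁆ ↔ ∃ a ∈ Q ⊓ ⁅Subgroup.normalizer ((H : Subgroup G) : Set G) ⊓ Subgroup.normalizer ((W Q : Subgroup G) : Set G), Subgroup.normalizer ((H : Subgroup G) : Set G) ⊓ Subgroup.normalizer ((W Q : Subgroup G) : Set G)⁆, ∃ b ∈ Q ⊓ ⁅Subgroup.normalizer ((H : Subgroup G) : Set G) ⊓ Subgroup.centralizer ((V Q : Subgroup G) : Set G), Subgroup.normalizer ((H : Subgroup G) : Set G) ⊓ Subgroup.centralizer ((V Q : Subgroup G) : Set G)⁆, x = a * b) : ∃ Q : Subgroup G, IsPGroup p ↥Q ∧ ¬ p ∣ Q.index ∧ ∀ x : G, x ∈ Q ⊓ commutator G ↔ ∃ a ∈ Q ⊓ ⁅Subgroup.normalizer ((W Q : Subgroup G) : Set G), Subgroup.normalizer ((W Q : Subgroup G) : Set G)⁆, ∃ b ∈ Q ⊓ ⁅Subgroup.centralizer ((V Q : Subgroup G) : Set G), Subgroup.centralizer ((V Q : Subgroup G) : Set G)⁆, x = a * b := by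
  have hkey : ∀ H : Subgroup G, (P : Subgroup G) ⊓ Subgroup.centralizer (((P : Subgroup G) : Subgroup G) : Set G) ≤ H →
      H ≤ (P : Subgroup G) → ∃ Q : Subgroup G, Q ≤ Subgroup.normalizer (H : Set G) ∧ IsPGroup p ↥Q ∧
        ¬ p ∣ Q.relIndex (Subgroup.normalizer (H : Set G)) ∧ Loc W V H Q := by
    intro H hZ hH
    obtain ⟨Q, hQN, hQ, hidx, hctl⟩ := hloc H hZ hH
    refine ⟨Q, hQN, hQ, hidx, fun x hx => ?_⟩
    obtain ⟨a, ha, b, hb, rfl⟩ := (hctl x).1 hx
    exact mul_mem (Subgroup.mem_sup_left ha) (Subgroup.mem_sup_right hb)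
  refine ⟨P, P.2, P.not_dvd_index, fun x => ⟨fun hx => ?_, ?_⟩⟩
  · have h := inf_commutator_le_two P hW hV hWZ hVmono hkey hx
    simp only [two, top_inf_eq] at h
    set B := (P : Subgroup G) ⊓ ⁅Subgroup.centralizer ((V (P : Subgroup G) : Subgroup G) : Set G),
      Subgroup.centralizer ((V (P : Subgroup G) : Subgroup G) : Set G)⁆ with hB
    have hPC : (P : Subgroup G) ≤ Subgroup.centralizer ((V (P : Subgroup G) : Subgroup G) : Set G) :=
      fun y hy v hv => ((hVZ _ P.2 hv).2 y hy).symm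
    have hAB : (P : Subgroup G) ⊓ ⁅Subgroup.normalizer ((W (P : Subgroup G) : Subgroup G) : Set G),
        Subgroup.normalizer ((W (P : Subgroup G) : Subgroup G) : Set G)⁆ ≤ Subgroup.normalizer (B : Set G) := by
      refine fun y hy => CfsgLib.Local.mem_normalizer_of_map_conj_eq ?_
      rw [hB, Subgroup.map_inf _ _ _ (MulAut.conj y).injective, Subgroup.map_commutator,
        CfsgLib.Local.map_conj_eq_of_mem_normalizer (Subgroup.le_normalizer hy.1),
        CfsgLib.Local.map_conj_eq_of_mem_normalizer (Subgroup.le_normalizer (hPC hy.1))]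
    rw [← SetLike.mem_coe, Subgroup.coe_mul_of_left_le_normalizer_right _ _ hAB, Set.mem_mul] at h
    obtain ⟨a, ha, b, hb, rfl⟩ := h
    exact ⟨a, ha, b, hb, rfl⟩
  · rintro ⟨a, ha, b, hb, rfl⟩
    exact mul_mem ⟨ha.1, Subgroup.commutator_mono le_top le_top ha.2⟩ ⟨hb.1, Subgroup.commutator_mono le_top le_top hb.2⟩

end Cfsg.Agent.S2001
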