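import Cfsg.Statements.S2002
import Cfsg.Agent.Lib.StrongFusion.Local

set_option autoImplicit false
set_option linter.unusedVariables false
open Cfsg
open scoped commutatorElement

namespace Cfsg.Agent.S2002

open CfsgLib CfsgLib.StrongFusion
open scoped Pointwise

variable {G : Type*} [Group G] [Finite G] {p : ℕ} [Fact p.Prime]

/-- Steps at `Q`. -/
def stp (W V : Subgroup G → Subgroup G) (Q : Subgroup G) : Set G :=
  {n | n ∈ Subgroup.normalizer ((W Q : Subgroup G) : Set G) ∨ n ∈ Subgroup.centralizer ((V Q : Subgroup G) : Set G)}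

omit [Finite G] [Fact p.Prime] in
theorem stp_inv (W V : Subgroup G → Subgroup G) (Q : Subgroup G) : ∀ n ∈ stp W V Q, n⁻¹ ∈ stp W V Q :=
  fun _ h => h.imp inv_mem inv_mem

omit [Finite G] [Fact p.Prime] in
theorem exists_list {T : Subgroup G} {S : Set G} {A : Subgroup G} {g : G} (h : Chain T S A g) :
    ∃ (k : ℕ) (b : Fin k → G), (∀ i, (b i)⁻¹ ∈ S) ∧
      (∀ j, j ≤ k → cm (((List.ofFn b).take j).prod)⁻¹ A ≤ T) ∧
      ∀ a ∈ A, ((List.ofFn b).prod)⁻¹ * a * (List.ofFn b).prod = g * a * g⁻¹ := by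
  induction h with
  | @refl A g hA hg =>
    exact ⟨0, fun i => i.elim0, fun i => i.elim0, fun j _ => by simpa [cm_one] using hA, fun a ha => by simp [hg a ha]⟩
  | @step A m g hA hm _ ih =>
    obtain ⟨k, b, hs, hT, hl⟩ := ih
    refine ⟨k + 1, Fin.cons m⁻¹ b, fun i => ?_, fun j hj => ?_, fun a ha => ?_⟩
    · refine Fin.cases ?_ (fun j => ?_) i
      · simpa using hm
      · simpa using hs j
    · rcases j with _ | j
      · simpa [cm_one] using hA
      · have := hT j (by omega)
        rw [cm_cm] at this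
        rw [List.ofFn_succ]
        simpa [mul_inv_rev] using this
    · rw [List.ofFn_succ]
      simp only [Fin.cons_zero, Fin.cons_succ, List.prod_cons]
      calc (m⁻¹ * (List.ofFn b).prod)⁻¹ * a * (m⁻¹ * (List.ofFn b).prod)
          = ((List.ofFn b).prod)⁻¹ * (m * a * m⁻¹) * (List.ofFn b).prod := by group
        _ = g * (m * a * m⁻¹) * g⁻¹ := hl _ (conj_mem_cm ha)
        _ = _ := by group

/-- Local control at `U` with Sylow subgroup `Q`. -/
def Loc (W V : Subgroup G → Subgroup G) (U Q : Subgroup G) : Prop :=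
  ∀ A ≤ Q, ∀ n ∈ Subgroup.normalizer (U : Set G), cm n A ≤ Q →
    Chain Q ((Subgroup.normalizer (U : Set G) : Set G) ∩ stp W V Q) A n

omit [Finite G] [Fact p.Prime] in
theorem conj_normalizer {U : Subgroup G} {y x : G} (hx : x ∈ Subgroup.normalizer (U : Set G)) :
    y * x * y⁻¹ ∈ Subgroup.normalizer (cm y U : Set G) :=
  Subgroup.le_normalizer_map (MulAut.conj y).toMonoidHom ⟨x, hx, rfl⟩

omit [Fact p.Prime] in
theorem loc_conj {W V : Subgroup G → Subgroup G} (hW : Cfsg.IsConjugacyFunctor p W) (hV : Cfsg.IsConjugacyFunctor p V)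
    {U Q : Subgroup G} (hQ : IsPGroup p Q) (h : Loc W V U Q) (y : G) : Loc W V (cm y U) (cm y Q) := by
  intro A hA n hn hnA
  have hA' : cm y⁻¹ A ≤ Q := (cm_mono hA).trans (cm_inv_cm y Q).le
  have hn' : y⁻¹ * n * y ∈ Subgroup.normalizer (U : Set G) := by
    have := conj_normalizer (y := y⁻¹) hn
    rwa [cm_inv_cm, inv_inv] at this
  have hnA' : cm (y⁻¹ * n * y) (cm y⁻¹ A) ≤ Q := by
    rw [cm_cm, mul_inv_cancel_right, ← cm_cm]
    exact (cm_mono hnA).trans (cm_inv_cm y Q).le
  have h1 := (h _ hA' _ hn' hnA').conj (S' := (Subgroup.normalizer (cm y U : Set G) : Set G) ∩ stp W V (cm y Q)) y (by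
    rintro l ⟨hl1, hl2⟩
    refine ⟨conj_normalizer hl1, ?_⟩
    rcases hl2 with hl | hl
    · left
      rw [show W (cm y Q) = cm y (W Q) from (hW Q hQ).2.2 y]
      exact conj_normalizer hl
    · right
      rw [show V (cm y Q) = cm y (V Q) from (hV Q hQ).2.2 y]
      rintro _ ⟨v, hv, rfl⟩
      show y * v * y⁻¹ * (y * l * y⁻¹) = y * l * y⁻¹ * (y * v * y⁻¹)
      calc _ = y * (v * l) * y⁻¹ := by group
        _ = y * (l * v) * y⁻¹ := by rw [hl v hv]
        _ = _ := by group)
  rwa [cm_cm, mul_inv_cancel, cm_one, show y * (y⁻¹ * n * y) * y⁻¹ = n by group] at h1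

/-- From local to global control through `W` and `V`. -/
theorem chain_of_locals (P : Sylow p G) {W V : Subgroup G → Subgroup G} (hW : Cfsg.IsConjugacyFunctor p W)
    (hV : Cfsg.IsConjugacyFunctor p V)
    (hWZ : ∀ H : Subgroup G, IsPGroup p ↥H → H ⊓ Subgroup.centralizer ((H : Subgroup G) : Set G) ≤ W H)
    (hVmono : ∀ H K : Subgroup G, IsPGroup p ↥H → IsPGroup p ↥K → H ≠ ⊥ → K ≠ ⊥ →
      H ⊓ Subgroup.centralizer ((H : Subgroup G) : Set G) ≤ K ⊓ Subgroup.centralizer ((K : Subgroup G) : Set G) →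
      V H ≤ V K)
    (hloc : ∀ H : Subgroup G, (P : Subgroup G) ⊓ Subgroup.centralizer ((P : Subgroup G) : Set G) ≤ H →
      H ≤ (P : Subgroup G) → ∃ Q : Subgroup G, Q ≤ Subgroup.normalizer (H : Set G) ∧ IsPGroup p ↥Q ∧
        ¬ p ∣ Q.relIndex (Subgroup.normalizer (H : Set G)) ∧ Loc W V H Q)
    {A : Subgroup G} {g : G} (hA : A ≤ (P : Subgroup G)) (hg : cm g A ≤ (P : Subgroup G)) :
    Chain (P : Subgroup G) (stp W V (P : Subgroup G)) A g := by
  induction hk : Nat.card G - Nat.card A using Nat.strong_induction_on generalizing A g with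
  | h k ih =>
  subst hk
  rcases eq_or_ne A ⊥ with rfl | hA0
  · exact .refl bot_le fun a ha => by simp [Subgroup.mem_bot.1 ha]
  have big : ∀ (B : Subgroup G) (y : G), Nat.card A < Nat.card B → B ≤ (P : Subgroup G) →
      cm y B ≤ (P : Subgroup G) → Chain (P : Subgroup G) (stp W V (P : Subgroup G)) B y := fun B y hc hB hy =>
    ih _ (by have := Nat.le_of_dvd Nat.card_pos B.card_subgroup_dvd_card; omega) hB hy rfl
  -- transport of the hypothesis to a full conjugate
  have transport : ∀ U y, (P : Subgroup G) ⊓ Subgroup.centralizer ((P : Subgroup G) : Set G) ≤ U →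
      U ≤ (P : Subgroup G) → Full p (P : Subgroup G) (cm y U) →
      Loc W V (cm y U) ((P : Subgroup G) ⊓ Subgroup.normalizer (cm y U : Set G)) := by
    intro U y hZU hU hf
    obtain ⟨Q, hQN, hQ, hidx, hQloc⟩ := hloc U hZU hU
    have hQy : cm y Q ≤ Subgroup.normalizer (cm y U : Set G) := fun x hx => by
      obtain ⟨q, hq, rfl⟩ := hx
      exact conj_normalizer (hQN hq)
    obtain ⟨m, hm, hmle⟩ := exists_conj_le inf_le_right (P.2.to_le inf_le_left) hf hQy (hQ.map _)
    have hN : Subgroup.normalizer (cm y U : Set G) = cm y (Subgroup.normalizer (U : Set G)) :=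
      (Subgroup.map_normalizer_eq_of_bijective U (f := (MulAut.conj y).toMonoidHom) (MulAut.conj y).bijective).symm
    obtain ⟨m', hm', hmle'⟩ := exists_conj_le hQy (hQ.map _) (by
      rw [hN, Subgroup.relIndex_map_map_of_injective _ _ (MulAut.conj y).injective]; exact hidx)
      (inf_le_right : (P : Subgroup G) ⊓ Subgroup.normalizer (cm y U : Set G) ≤ _) (P.2.to_le inf_le_left)
    have heq : cm m (cm y Q) = (P : Subgroup G) ⊓ Subgroup.normalizer (cm y U : Set G) :=
      Subgroup.eq_of_le_of_card_ge hmle (by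
        rw [card_cm]; exact card_cm m' ((P : Subgroup G) ⊓ Subgroup.normalizer (cm y U : Set G)) ▸
          Subgroup.card_le_of_le hmle')
    have h1 := loc_conj hW hV hQ hQloc (m * y)
    rwa [← cm_cm, ← cm_cm, heq, show cm m (cm y U) = cm y U from Local.map_conj_eq_of_mem_normalizer hm] at h1
  have R : ∀ m, ∀ U ≤ (P : Subgroup G), Loc W V U ((P : Subgroup G) ⊓ Subgroup.normalizer (U : Set G)) →
      Nat.card G - Nat.card ↥((P : Subgroup G) ⊓ Subgroup.normalizer (U : Set G)) = m →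
      ∀ B ≤ (P : Subgroup G) ⊓ Subgroup.normalizer (U : Set G), Nat.card B = Nat.card A →
      ∀ n ∈ Subgroup.normalizer (U : Set G), cm n B ≤ (P : Subgroup G) ⊓ Subgroup.normalizer (U : Set G) →
      Chain (P : Subgroup G) (stp W V (P : Subgroup G)) B n := by
    intro m
    induction m using Nat.strong_induction_on with
    | h m ihm =>
    intro U hU hUloc hm B₀ hB₀ hB₀A n hn hnB
    set T := (P : Subgroup G) ⊓ Subgroup.normalizer (U : Set G) with hT
    have hTP : T ≤ (P : Subgroup G) := inf_le_left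
    refine (hUloc B₀ hB₀ n hn hnB).bind hTP fun l hl B hBc hBT hlB => ?_
    obtain ⟨-, hl⟩ := hl
    by_cases hTP' : T = (P : Subgroup G)
    · exact .single (hTP' ▸ hl) (hBT.trans hTP) (hlB.trans hTP)
    have hZT : (P : Subgroup G) ⊓ Subgroup.centralizer ((P : Subgroup G) : Set G) ≤
        T ⊓ Subgroup.centralizer (T : Set G) :=
      le_inf (center_le_inf_normalizer hU) (inf_le_right.trans (Subgroup.centralizer_le (fun x hx => hx.1)))
    have hAT : Nat.card A ≤ Nat.card T := hB₀A ▸ Subgroup.card_le_of_le hB₀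
    have hT0 : T ≠ ⊥ := fun h => hA0 (Subgroup.eq_bot_of_card_eq _ (le_antisymm
      (hAT.trans (by rw [h, Subgroup.card_bot])) Nat.card_pos))
    rcases hl with hl | hl
    swap
    · refine .single (Or.inr ?_) (hBT.trans hTP) (hlB.trans hTP)
      refine Subgroup.centralizer_le (fun x hx => hVmono _ _ P.2 (P.2.to_le hTP) ?_ hT0 hZT hx) hl
      exact fun h => hT0 (le_bot_iff.1 (hTP.trans h.le))
    obtain ⟨hWT, -, hWn⟩ := hW_of_isConjugacyFunctor P hW hTP hT0
    set U' := W T with hU'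
    set T' := (P : Subgroup G) ⊓ Subgroup.normalizer (U' : Set G) with hT'
    have hlt : T < T' := (lt_inf_normalizer P hTP hTP').trans_le (le_inf inf_le_left hWn)
    have hltc : Nat.card T < Nat.card T' :=
      lt_of_le_of_ne (Subgroup.card_le_of_le hlt.le) fun h => hlt.ne (Subgroup.eq_of_le_of_card_ge hlt.le h.ge)
    obtain ⟨y, hy, hyf⟩ := exists_full P (hWT.trans hTP)
    have hloc' := transport U' y (hZT.trans (hWZ T (P.2.to_le hTP))) (hWT.trans hTP) hyf
    have hch : Chain (P : Subgroup G) (stp W V (P : Subgroup G)) T' y := big T' y (by omega) inf_le_left hy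
    have hyT' := cm_inf_normalizer_le y hy
    set T₂ := (P : Subgroup G) ⊓ Subgroup.normalizer (cm y U' : Set G)
    have hlt2 : Nat.card T < Nat.card T₂ := by
      have := card_cm y T' ▸ Subgroup.card_le_of_le hyT'
      omega
    have hl2 : y * l * y⁻¹ ∈ Subgroup.normalizer (cm y U' : Set G) := conj_normalizer hl
    have e : cm (y * l * y⁻¹) (cm y B) = cm y (cm l B) := by
      rw [cm_cm, show y * l * y⁻¹ * y = y * l by group, ← cm_cm]
    have hR := ihm (Nat.card G - Nat.card T₂) (by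
        have := Nat.le_of_dvd Nat.card_pos T₂.card_subgroup_dvd_card
        omega)
      (cm y U') ((cm_mono (le_inf (hWT.trans hTP) Subgroup.le_normalizer)).trans hy) hloc' rfl
      (cm y B) ((cm_mono (hBT.trans hlt.le)).trans hyT') ((card_cm y B).trans (hBc.trans hB₀A)) _ hl2
      (e ▸ (cm_mono (hlB.trans hlt.le)).trans hyT')
    have h1 := (hch.mono (hBT.trans hlt.le)).trans hR
    have h2 := (hch.mono (hlB.trans hlt.le)).inv (stp_inv W V _)
    rw [show y * l * y⁻¹ * y = y * l by group] at h1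
    rw [cm_cm] at h2
    simpa [← mul_assoc] using h1.trans h2
  by_cases hAP : A = (P : Subgroup G)
  · have hgN : g ∈ Subgroup.normalizer (A : Set G) :=
      Local.mem_normalizer_of_map_conj_eq (Subgroup.eq_of_le_of_card_ge (hg.trans hAP.ge) (card_cm g A).ge)
    have hfull : Full p (P : Subgroup G) (cm 1 A) := by
      rw [cm_one, Full, hAP]
      intro h
      rw [inf_eq_left.2 Subgroup.le_normalizer] at h
      exact P.not_dvd_index (h.trans (Subgroup.relIndex_dvd_index_of_le Subgroup.le_normalizer))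
    have hl := transport A 1 (inf_le_left.trans hAP.ge) hA hfull
    rw [cm_one] at hl
    exact R _ A hA hl rfl A (le_inf hA Subgroup.le_normalizer) rfl g hgN
      (by rw [show cm g A = A from Local.map_conj_eq_of_mem_normalizer hgN]; exact le_inf hA Subgroup.le_normalizer)
  have hlarge : ∀ C : Subgroup G, C ≤ (P : Subgroup G) → Nat.card C = Nat.card A →
      Nat.card A < Nat.card ↥((P : Subgroup G) ⊓ Subgroup.normalizer (C : Set G)) := by
    intro C hC hc
    have hne : C ≠ (P : Subgroup G) := fun h => hAP (Subgroup.eq_of_le_of_card_ge hA (by rw [← hc, h]))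
    have h := lt_inf_normalizer P hC hne
    rw [← hc]
    exact lt_of_le_of_ne (Subgroup.card_le_of_le h.le) fun e => h.ne (Subgroup.eq_of_le_of_card_ge h.le e.ge)
  obtain ⟨y₁, hy₁, hVg⟩ := exists_full P hA
  set U := cm y₁ A with hU
  have hUP : U ≤ (P : Subgroup G) := (cm_mono (le_inf hA Subgroup.le_normalizer)).trans hy₁
  have hchA : Chain (P : Subgroup G) (stp W V (P : Subgroup G)) A y₁ :=
    (big _ y₁ (hlarge A hA rfl) inf_le_left hy₁).mono (le_inf hA Subgroup.le_normalizer)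
  set TB := (P : Subgroup G) ⊓ Subgroup.normalizer (cm g A : Set G) with hTB
  set z := y₁ * g⁻¹ with hz
  have hzB : cm z (cm g A) = U := by rw [cm_cm, hz, inv_mul_cancel_right]
  obtain ⟨w, hwN, hw⟩ := exists_conj_le (Q := (P : Subgroup G) ⊓ Subgroup.normalizer (U : Set G)) inf_le_right
    (P.2.to_le inf_le_left) hVg (R := cm z TB)
    (Local.map_conj_le fun x hx => Local.mem_normalizer_of_map_conj_eq (by
      show cm (z * x * z⁻¹) U = U
      rw [← hzB, cm_cm, show z * x * z⁻¹ * z = z * x by group, ← cm_cm]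
      exact congrArg (cm z) (Local.map_conj_eq_of_mem_normalizer hx.2)))
    ((P.2.to_le inf_le_left).map _)
  have hwz : cm (w * z) TB ≤ (P : Subgroup G) := by rw [← cm_cm]; exact hw.trans inf_le_left
  have hchB : Chain (P : Subgroup G) (stp W V (P : Subgroup G)) (cm g A) (w * z) :=
    (big TB (w * z) (hlarge _ hg (card_cm g A)) inf_le_left hwz).mono (le_inf hg Subgroup.le_normalizer)
  have hwU : cm w U = U := Local.map_conj_eq_of_mem_normalizer hwN
  have hRU : Chain (P : Subgroup G) (stp W V (P : Subgroup G)) U w := by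
    set C := Subgroup.centralizer (U : Set G) with hC
    set D := (P : Subgroup G) ⊓ C with hD
    have hCN : C ≤ Subgroup.normalizer (U : Set G) := Subgroup.centralizer_le_normalizer (U : Set G)
    by_cases hDU : D ≤ U
    · have hZU : (P : Subgroup G) ⊓ Subgroup.centralizer ((P : Subgroup G) : Set G) ≤ U :=
        (inf_le_inf_left _ (Subgroup.centralizer_le hUP)).trans hDU
      have hl := transport U 1 hZU hUP (by rwa [cm_one])
      rw [cm_one] at hl
      exact R _ U hUP hl rfl U (le_inf hUP Subgroup.le_normalizer) (card_cm y₁ A) w hwN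
        (by rw [hwU]; exact le_inf hUP Subgroup.le_normalizer)
    have hnorm : ∀ x ∈ Subgroup.normalizer (U : Set G), ∀ c ∈ C, x * c * x⁻¹ ∈ C := by
      intro x hx c hc v hv
      have hv' : x⁻¹ * v * x ∈ U := by
        have := (Subgroup.mem_normalizer_iff.1 (inv_mem hx) v).1 hv
        rwa [inv_inv] at this
      calc v * (x * c * x⁻¹) = x * (x⁻¹ * v * x * c) * x⁻¹ := by group
        _ = x * (c * (x⁻¹ * v * x)) * x⁻¹ := by rw [hc _ hv']
        _ = x * c * x⁻¹ * v := by group
    obtain ⟨R₀, hR₀⟩ := ((P.2.to_le (inf_le_left : D ≤ _)).of_equiv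
      (Subgroup.subgroupOfEquivOfLe (inf_le_right : D ≤ C)).symm).exists_le_sylow
    have hRD : (R₀ : Subgroup C).map C.subtype = D := by
      have hDle : D ≤ (R₀ : Subgroup C).map C.subtype := fun d hd => ⟨⟨d, hd.2⟩, hR₀ hd, rfl⟩
      refine (Subgroup.eq_of_le_of_card_ge hDle ?_).symm
      obtain ⟨m, hm, hmle⟩ := exists_conj_le (Q := (P : Subgroup G) ⊓ Subgroup.normalizer (U : Set G)) inf_le_right
        (P.2.to_le inf_le_left) hVg ((Subgroup.map_subtype_le _).trans hCN) (R₀.2.map C.subtype)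
      rw [← card_cm m]
      refine Subgroup.card_le_of_le ?_
      rintro _ ⟨r, hr, rfl⟩
      exact ⟨(hmle ⟨r, hr, rfl⟩).1, hnorm m hm r ((Subgroup.map_subtype_le _) hr)⟩
    have hidx : ¬ p ∣ D.relIndex C := by
      rw [← hRD, Subgroup.relIndex, Subgroup.subgroupOf, Subgroup.comap_map_eq_self_of_injective C.subtype_injective]
      exact R₀.not_dvd_index
    obtain ⟨c, hc, hcle⟩ := exists_conj_le (Q := D) inf_le_right (P.2.to_le inf_le_left) hidx (R := cm w D)
      (Local.map_conj_le fun d hd => hnorm w hwN d hd.2) ((P.2.to_le inf_le_left).map _)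
    rw [cm_cm] at hcle
    have hlt : U < U ⊔ D := lt_of_le_of_ne le_sup_left fun h => hDU (h ▸ le_sup_right)
    have hcU : cm (c * w) (U ⊔ D) ≤ (P : Subgroup G) := by
      rw [cm, Subgroup.map_sup]
      refine sup_le ?_ (hcle.trans inf_le_left)
      rw [show U.map (MulAut.conj (c * w)).toMonoidHom = U from
        Local.map_conj_eq_of_mem_normalizer (mul_mem (hCN hc) hwN)]
      exact hUP
    have hch := (big (U ⊔ D) (c * w) (lt_of_lt_of_le
      (lt_of_le_of_ne (Subgroup.card_le_of_le hlt.le) fun h => hlt.ne (Subgroup.eq_of_le_of_card_ge hlt.le h.ge)) le_rfl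
      |> fun h => by rwa [hU, card_cm] at h) (sup_le hUP inf_le_left) hcU).mono hlt.le
    refine hch.congr fun a ha => ?_
    have hwa : w * a * w⁻¹ ∈ U := hwU.le (conj_mem_cm ha)
    calc w * a * w⁻¹ = c * (w * a * w⁻¹) * c⁻¹ := by rw [← hc _ hwa, mul_inv_cancel_right]
      _ = _ := by group
  have h3 := hchB.inv (stp_inv W V _)
  rw [← cm_cm, hzB, hwU] at h3
  have h4 : Chain (P : Subgroup G) (stp W V (P : Subgroup G)) A ((w * z)⁻¹ * (w * y₁)) := by
    refine (hchA.trans hRU).trans ?_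
    rw [← cm_cm, hwU]
    exact h3
  rwa [show (w * z)⁻¹ * (w * y₁) = g by rw [hz]; group] at h4

/-- Let p be a prime dividing the order of the finite group G, P a Sylow p-subgroup, W a conjugacy functor for p on G with Z(H) ≤ W(H) for every nontrivial p-subgroup H, and V a central functor (a conjugacy functor with V(H) ≤ Z(H), and V(H) ≤ V(K) whenever Z(H) ≤ Z(K)). Say that W with V controls strong fusion in a subgroup L when some Sylow p-subgroup Q of L has the property: whenever X ⊆ Q and a ∈ L with a⁻¹Xa ⊆ Q, then a = c b with c ∈ C_L(X) and b = b₁ ⋯ bₙ a product of elements each in N_L(W(Q)) or in C_L(V(Q)) such that every partial conjugate (b₁ ⋯ bₖ)⁻¹ X (b₁ ⋯ bₖ) lies in Q. If W with V controls strong fusion in N_G(H) for every subgroup H with Z(P) ≤ H ≤ P, then W with V controls strong fusion in G. -/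
theorem result {G : Type*} [Group G] [Finite G] {p : ℕ} [Fact p.Prime] (hdiv : p ∣ Nat.card G) (P : Sylow p G) (W V : Subgroup G → Subgroup G) (hW : Cfsg.IsConjugacyFunctor p W) (hV : Cfsg.IsConjugacyFunctor p V) (hWZ : ∀ H : Subgroup G, IsPGroup p ↥H → H ⊓ Subgroup.centralizer ((H : Subgroup G) : Set G) ≤ W H) (hVZ : ∀ H : Subgroup G, IsPGroup p ↥H → V H ≤ H ⊓ Subgroup.centralizer ((H : Subgroup G) : Set G)) (hVmono : ∀ H K : Subgroup G, IsPGroup p ↥H → IsPGroup p ↥K → H ≠ ⊥ → K ≠ ⊥ → H ⊓ Subgroup.centralizer ((H : Subgroup G) : Set G) ≤ K ⊓ Subgroup.centralizer ((K : Subgroup G) : Set G) → V H ≤ V K) (hloc : ∀ H : Subgroup G, (P : Subgroup G) ⊓ Subgroup.centralizer (((P : Subgroup G) : Subgroup G) : Set G) ≤ H → H ≤ (P : Subgroup G) → ∃ Q : Subgroup G, Q ≤ Subgroup.normalizer ((H : Subgroup G) : Set G) ∧ IsPGroup p ↥Q ∧ ¬ p ∣ (Q).relIndex (Subgroup.normalizer ((H : Subgroup G) : Set G)) ∧ ∀ (X : Set G) (a : G), X ⊆ Q → a ∈ Subgroup.normalizer ((H : Subgroup G) :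 Set G) → (fun x => a⁻¹ * x * a) '' X ⊆ Q → ∃ c ∈ Subgroup.normalizer ((H : Subgroup G) : Set G) ⊓ Subgroup.centralizer X, ∃ (n : ℕ) (b : Fin n → G), (∀ i, b i ∈ Subgroup.normalizer ((H : Subgroup G) : Set G) ⊓ Subgroup.normalizer ((W Q : Subgroup G) : Set G) ∨ b i ∈ Subgroup.normalizer ((H : Subgroup G) : Set G) ⊓ Subgroup.centralizer ((V Q : Subgroup G) : Set G)) ∧ a = c * (List.ofFn b).prod ∧ ∀ k : ℕ, k ≤ n → (fun x => (((List.ofFn b).take k).prod)⁻¹ * x * ((List.ofFn b).take k).prod) '' ((fun x => c⁻¹ * x * c) '' X) ⊆ Q) : ∃ Q : Subgroup G, IsPGroup p ↥Q ∧ ¬ p ∣ Q.index ∧ ∀ (X : Set G) (a : G), X ⊆ Q → (fun x => a⁻¹ * x * a) '' X ⊆ Q → ∃ c ∈ Subgroup.centralizer X, ∃ (n : ℕ) (b : Fin n → G), (∀ i, b i ∈ ⊤ ⊓ Subgroup.normalizer ((W Q : Subgroup G) : Set G) ∨ b i ∈ ⊤ ⊓ Subgroup.centralizer ((V Q : Subgroup G) : Set G)) ∧ a = c * (List.ofFn b).prod ∧ ∀ k : ℕ, k ≤ n → (fun x => (((List.ofFn b).take k).prod)⁻¹ * x * ((List.ofFn b).take k).prod) '' ((fun x => c⁻¹ * x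 * c) '' X) ⊆ Q := by
  have hkey : ∀ H : Subgroup G, (P : Subgroup G) ⊓ Subgroup.centralizer (((P : Subgroup G) : Subgroup G) : Set G) ≤ H →
      H ≤ (P : Subgroup G) → ∃ Q : Subgroup G, Q ≤ Subgroup.normalizer (H : Set G) ∧ IsPGroup p ↥Q ∧
        ¬ p ∣ Q.relIndex (Subgroup.normalizer (H : Set G)) ∧ Loc W V H Q := by
    intro H hZ hH
    obtain ⟨Q, hQN, hQ, hidx, hctl⟩ := hloc H hZ hH
    refine ⟨Q, hQN, hQ, hidx, fun A hA n hn hnA => ?_⟩
    obtain ⟨c, hc, k, b, hb, hab, hch⟩ := hctl (A : Set G) n⁻¹ hA (inv_mem hn) (by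
      rintro _ ⟨x, hx, rfl⟩
      show n⁻¹⁻¹ * x * n⁻¹ ∈ Q
      rw [inv_inv]
      exact hnA (CfsgLib.StrongFusion.conj_mem_cm hx))
    have hcA : ∀ x ∈ A, c⁻¹ * x * c = x := fun x hx => by
      rw [mul_assoc, hc.2 x hx, inv_mul_cancel_left]
    refine CfsgLib.StrongFusion.chain_of_fin k (fun i => (((List.ofFn b).take i.val).prod)⁻¹) (by simp) (fun i => ?_)
      (fun i => ?_) (fun x hx => ?_)
    · have e : (((List.ofFn b).take (i.val + 1)).prod)⁻¹ * ((((List.ofFn b).take i.val).prod)⁻¹)⁻¹ = (b i)⁻¹ := by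
        rw [List.take_add_one]
        simp [i.isLt]
      rw [show (i.succ : Fin (k + 1)).val = i.val + 1 from rfl, show (i.castSucc : Fin (k + 1)).val = i.val from rfl, e]
      refine ⟨?_, ?_⟩
      · exact inv_mem ((hb i).elim (fun h => h.1) fun h => h.1)
      · exact (hb i).imp (fun h => inv_mem h.2) fun h => inv_mem h.2
    · rintro _ ⟨x, hx, rfl⟩
      have := hch i.val (Nat.le_of_lt_succ i.isLt) ⟨_, ⟨x, hx, rfl⟩, rfl⟩
      simp only [hcA x hx] at this
      simpa using this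
    · have hfull : (List.ofFn b).take k = List.ofFn b := List.take_of_length_le (by simp)
      rw [show (Fin.last k).val = k from rfl, hfull]
      have hn' : n = ((List.ofFn b).prod)⁻¹ * c⁻¹ := by rw [← inv_inv n, hab, mul_inv_rev]
      rw [hn']
      calc _ = ((List.ofFn b).prod)⁻¹ * x * (List.ofFn b).prod := by group
        _ = ((List.ofFn b).prod)⁻¹ * (c⁻¹ * x * c) * (List.ofFn b).prod := by rw [hcA x hx]
        _ = _ := by group
  refine ⟨P, P.2, P.not_dvd_index, fun X a hX haX => ?_⟩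
  have hch := chain_of_locals P hW hV hWZ hVmono hkey (A := Subgroup.closure X) (g := a⁻¹)
    ((Subgroup.closure_le _).2 hX) (by
      rw [CfsgLib.StrongFusion.cm, MonoidHom.map_closure]
      refine (Subgroup.closure_le _).2 ?_
      rintro _ ⟨x, hx, rfl⟩
      have := haX ⟨x, hx, rfl⟩
      simpa using this)
  obtain ⟨k, b, hs, hT, hl⟩ := exists_list hch
  have hc : ∀ x ∈ X, (a * ((List.ofFn b).prod)⁻¹)⁻¹ * x * (a * ((List.ofFn b).prod)⁻¹) = x := fun x hx => by
    have h1 := hl x (Subgroup.subset_closure hx)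
    rw [inv_inv] at h1
    calc _ = (List.ofFn b).prod * (a⁻¹ * x * a) * ((List.ofFn b).prod)⁻¹ := by group
      _ = _ := by rw [← h1]; group
  refine ⟨a * ((List.ofFn b).prod)⁻¹, fun x hx => ?_, k, b, fun i => ?_, by simp, fun j hj => ?_⟩
  · have := hc x hx
    calc x * (a * ((List.ofFn b).prod)⁻¹) = (a * ((List.ofFn b).prod)⁻¹) *
        ((a * ((List.ofFn b).prod)⁻¹)⁻¹ * x * (a * ((List.ofFn b).prod)⁻¹)) := by group
      _ = _ := by rw [this]
  · rw [top_inf_eq, top_inf_eq]
    exact (hs i).imp (fun h => by simpa using inv_mem h) fun h => by simpa using inv_mem h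
  · rintro _ ⟨_, ⟨x, hx, rfl⟩, rfl⟩
    simp only [hc x hx]
    show _ ∈ (P : Subgroup G)
    have := hT j hj (CfsgLib.StrongFusion.conj_mem_cm (Subgroup.subset_closure hx))
    simpa using this

end Cfsg.Agent.S2002
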