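import Cfsg.Statements.S2004
import Cfsg.Agent.Lib.Quadratic.Stable

set_option autoImplicit false
set_option linter.unusedVariables false
open Cfsg
open scoped commutatorElement

namespace Cfsg.Agent.S2004

/-- Let p be an odd prime and G a finite group such that SL₂(p) is not involved in N_G(P) for any nonidentity p-subgroup P of G. Then every section of G is p-stable in the normalizer form: in each section, whenever an element of the normalizer of a p-subgroup Q acts quadratically on Q, its image in N(Q)/C(Q) lies in O_p(N(Q)/C(Q)). -/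
theorem result {G : Type*} [Group G] [Finite G] {p : ℕ} [Fact p.Prime] (hp : p ≠ 2) (h : ∀ P : Subgroup G, IsPGroup p ↥P → P ≠ ⊥ → ¬ Cfsg.Involves (Matrix.SpecialLinearGroup (Fin 2) (ZMod p)) ↥(Subgroup.normalizer ((P : Subgroup G) : Set G))) : ∀ (K R : Subgroup G) [hR : (R.subgroupOf K).Normal], Cfsg.IsNormalizerPStable p (↥K ⧸ R.subgroupOf K) := by
  intro K R hR P hP g hg hq
  by_contra hout
  have hP1 : P ≠ ⊥ := by
    rintro rfl
    refine hout ?_
    have : (QuotientGroup.mk ⟨g, hg⟩ : _ ⧸ (Subgroup.centralizer ((⊥ : Subgroup (↥K ⧸ R.subgroupOf K)) : Set _)).subgroupOf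
        (Subgroup.normalizer ((⊥ : Subgroup (↥K ⧸ R.subgroupOf K)) : Set _))) = 1 :=
      (QuotientGroup.eq_one_iff _).2 (Subgroup.mem_subgroupOf.2 fun v hv => by simp [(Subgroup.mem_bot.1 hv)])
    rw [this]
    exact one_mem _
  obtain ⟨L, hLN, f, hf⟩ := CfsgLib.Quadratic.exists_sl2_section hp hP le_rfl hg
    (CfsgLib.Quadratic.quad_pointwise hq) hout
  obtain ⟨T, hT, hTP, hcov, hPle⟩ := CfsgLib.Quadratic.exists_local_lift (p := p) (QuotientGroup.mk' (R.subgroupOf K))
    (QuotientGroup.mk'_surjective _) P hP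
  have hcov' : Subgroup.normalizer (P : Set _) ≤ (Subgroup.normalizer (T : Set K)).map (QuotientGroup.mk' (R.subgroupOf K)) :=
    hcov.trans (sup_le le_rfl hPle)
  set N := Subgroup.normalizer (T : Set K)
  set π := (QuotientGroup.mk' (R.subgroupOf K)).comp N.subtype
  have hπ : ∀ l ∈ L, ∃ n : N, π n = l := fun l hl => by
    obtain ⟨n, hn, rfl⟩ := hcov' (hLN hl)
    exact ⟨⟨n, hn⟩, rfl⟩
  let f' : L.comap π →* _ := f.comp ((π.comp (L.comap π).subtype).codRestrict L fun x => x.2)
  have hf' : Function.Surjective f' := hf.comp fun l => by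
    obtain ⟨n, hn⟩ := hπ l l.2
    exact ⟨⟨n, by rw [Subgroup.mem_comap, hn]; exact l.2⟩, Subtype.ext hn⟩
  set T' := T.map K.subtype with hT'
  let i : N →* Subgroup.normalizer (T' : Set G) :=
    (K.subtype.comp N.subtype).codRestrict _ fun n => Subgroup.le_normalizer_map K.subtype ⟨n, n.2, rfl⟩
  have hi : Function.Injective i := fun a b e => by
    have e0 := congrArg Subtype.val e
    have e1 : K.subtype (N.subtype a) = K.subtype (N.subtype b) := e0
    exact N.subtype_injective (K.subtype_injective e1)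
  obtain ⟨f'', hf''⟩ := CfsgLib.Quadratic.exists_surjective_map i hi f' hf'
  refine h T' (hT.map _) (fun hb => hP1 ?_) (CfsgLib.QdSection.involves_of_surjective _ f'' hf'')
  rw [← hTP, (Subgroup.map_eq_bot_iff_of_injective T K.subtype_injective).1 hb, Subgroup.map_bot]

end Cfsg.Agent.S2004
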