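import Cfsg.Statements.S2006
import Cfsg.Agent.Lib.StrongFusion.MaximalSylow
import Cfsg.Agent.Lib.WeakClosed.Cores
import Cfsg.Agent.Lib.KInf.Degree

set_option autoImplicit false
set_option linter.unusedVariables false
universe u
open Cfsg
open scoped commutatorElement

namespace Cfsg.Agent.S2006

open CfsgLib CfsgLib.StrongFusion CfsgLib.ZJ

/-- An element whose geometric sum vanishes centralizes every abelian `p'`-group of operators it normalizes. -/
theorem eq_of_sum_eq_zero {H R : Type*} [Group H] [Ring R] (ρ : H →* R) {p : ℕ} [hp : Fact p.Prime]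
    (hp0 : (p : R) = 0) {x : H} (hsum : ∑ i ∈ Finset.range p, ρ (x ^ i) = 0) {M : Subgroup H}
    (hx : x ∈ Subgroup.normalizer (M : Set H)) (hab : ∀ a ∈ M, ∀ b ∈ M, ρ a * ρ b = ρ b * ρ a)
    {a : H} (ha : a ∈ M) {n : ℕ} (hn : n.Coprime p) (han : ρ (a ^ n) = 1) :
    ρ (x * a * x⁻¹) = ρ a := by
  have hxp : ρ (x ^ p) = 1 := by
    have h : (∑ i ∈ Finset.range p, ρ x ^ i) * (ρ x - 1) = ρ x ^ p - 1 := geom_sum_mul _ _
    rw [Finset.sum_congr rfl fun i _ => (map_pow ρ x i).symm, hsum, zero_mul] at h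
    rw [map_pow]
    exact sub_eq_zero.1 h.symm
  have hcj : ∀ (k : ℕ) (b : H), b ∈ M → x ^ k * b * (x ^ k)⁻¹ ∈ M := fun k b hb =>
    (Subgroup.mem_normalizer_iff.1 (pow_mem hx k) b).1 hb
  have hβM : x * a * x⁻¹ * a⁻¹ ∈ M := mul_mem ((Subgroup.mem_normalizer_iff.1 hx a).1 ha) (inv_mem ha)
  set β := ρ (x * a * x⁻¹ * a⁻¹) with hβ
  -- every translate realises `β`
  have hreal : ∀ d, ¬ p ∣ d → ∃ b ∈ M, ρ (x ^ d * b * (x ^ d)⁻¹) = β * ρ b := by
    intro d hd
    set y := x ^ d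
    have hyM : ∀ (e : ℕ), y ^ e * a * (y ^ e)⁻¹ ∈ M := fun e => by rw [← pow_mul]; exact hcj _ a ha
    have hind : ∀ e : ℕ, ∃ b ∈ M, ρ (y * b * y⁻¹) = ρ (y ^ e * a * (y ^ e)⁻¹ * a⁻¹) * ρ b := by
      intro e
      induction e with
      | zero => exact ⟨1, one_mem _, by simp⟩
      | succ e ih =>
        obtain ⟨b, hb, hbe⟩ := ih
        refine ⟨y ^ e * a * (y ^ e)⁻¹ * b, mul_mem (hyM e) hb, ?_⟩
        have e1 : y * (y ^ e * a * (y ^ e)⁻¹ * b) * y⁻¹ =
            y ^ (e + 1) * a * (y ^ (e + 1))⁻¹ * (y * b * y⁻¹) := by rw [pow_succ']; group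
        rw [e1, map_mul, hbe, map_mul _ (y ^ e * a * (y ^ e)⁻¹) a⁻¹, map_mul _ (y ^ e * a * (y ^ e)⁻¹) b,
          map_mul _ (y ^ (e + 1) * a * (y ^ (e + 1))⁻¹) a⁻¹, hab _ (hyM e) _ (inv_mem ha)]
        simp only [mul_assoc]
    obtain ⟨e, -, he⟩ := Nat.exists_mul_mod_eq_one_of_coprime (hp.out.coprime_iff_not_dvd.2 hd).symm hp.out.one_lt
    obtain ⟨b, hb, hbe⟩ := hind e
    refine ⟨b, hb, hbe.trans ?_⟩
    congr 1
    obtain ⟨m, hm⟩ : ∃ m, d * e = 1 + p * m := ⟨d * e / p, by rw [← he]; exact (Nat.mod_add_div _ _).symm⟩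
    have hye : ρ (y ^ e) = ρ x := by rw [← pow_mul, hm, pow_add, pow_one, map_mul, pow_mul, map_pow, hxp, one_pow, mul_one]
    have hye' : ρ (y ^ e)⁻¹ = ρ x⁻¹ := by
      calc ρ (y ^ e)⁻¹ = ρ (y ^ e)⁻¹ * (ρ x * ρ x⁻¹) := by rw [← map_mul ρ x, mul_inv_cancel, map_one, mul_one]
        _ = ρ ((y ^ e)⁻¹ * y ^ e) * ρ x⁻¹ := by rw [map_mul, hye, mul_assoc]
        _ = ρ x⁻¹ := by rw [inv_mul_cancel, map_one, one_mul]
    rw [hβ, map_mul, map_mul, map_mul, hye, hye', ← map_mul, ← map_mul, ← map_mul]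
  set t := p - 1 with ht
  have main : ∀ k ≤ t, ∃ Q : ℕ → R, (∀ i, ∀ c ∈ M, Q i * ρ c = ρ c * Q i) ∧
      ∑ i ∈ Finset.range p, Q i * ρ (x ^ i) = 0 ∧ (∀ i < k, Q i = 0) ∧ ∃ m ∈ M, Q t = (β - 1) ^ k * ρ m := by
    intro k
    induction k with
    | zero =>
      exact fun _ => ⟨fun _ => 1, fun i c _ => by rw [one_mul, mul_one],
        by simpa using hsum, fun i hi => absurd hi (Nat.not_lt_zero i), 1, one_mem _, by simp⟩
    | succ k ih =>
      intro hk
      obtain ⟨Q, hQc, hQs, hQ0, m, hm, hQt⟩ := ih (by omega)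
      obtain ⟨b₀, hb₀, hb₀e⟩ := hreal (t - k) (fun h => by
        have := Nat.le_of_dvd (by omega) h
        have := hp.out.two_le
        omega)
      set b := (x ^ k)⁻¹ * b₀ * x ^ k with hb
      have hbM : b ∈ M := by
        have := (Subgroup.mem_normalizer_iff.1 (inv_mem (pow_mem hx k)) b₀).1 hb₀
        rwa [inv_inv] at this
      have hbk : x ^ k * b * (x ^ k)⁻¹ = b₀ := by rw [hb]; group
      have hbt : ρ (x ^ t * b * (x ^ t)⁻¹) = β * ρ b₀ := by
        rw [← hb₀e]
        congr 1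
        rw [hb, show x ^ t = x ^ (t - k) * x ^ k by rw [← pow_add]; congr 1; omega]
        group
      refine ⟨fun i => Q i * ρ (x ^ i * b * (x ^ i)⁻¹) - ρ b₀ * Q i, fun i c hc => ?_, ?_, fun i hi => ?_,
        b₀ * m, mul_mem hb₀ hm, ?_⟩
      · simp only [sub_mul, mul_sub]
        rw [mul_assoc, hab _ (hcj i b hbM) c hc, ← mul_assoc, hQc i c hc, mul_assoc (ρ c),
          mul_assoc (ρ b₀), hQc i c hc, ← mul_assoc (ρ b₀), hab b₀ hb₀ c hc, mul_assoc (ρ c) (ρ b₀)]
      · simp only [sub_mul, Finset.sum_sub_distrib]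
        rw [show ∑ i ∈ Finset.range p, Q i * ρ (x ^ i * b * (x ^ i)⁻¹) * ρ (x ^ i) =
            (∑ i ∈ Finset.range p, Q i * ρ (x ^ i)) * ρ b by
          rw [Finset.sum_mul]
          refine Finset.sum_congr rfl fun i _ => ?_
          rw [mul_assoc, ← map_mul, inv_mul_cancel_right, map_mul, mul_assoc],
          Finset.sum_congr rfl fun i _ => mul_assoc (ρ b₀) (Q i) (ρ (x ^ i)), ← Finset.mul_sum, hQs]
        simp
      · show Q i * _ - _ = 0
        rcases Nat.lt_succ_iff_lt_or_eq.1 hi with h | h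
        · rw [hQ0 i h]; simp
        · subst h
          rw [hbk, hQc i b₀ hb₀, sub_self]
      · show Q t * ρ (x ^ t * b * (x ^ t)⁻¹) - ρ b₀ * Q t = _
        have hcomm : Commute (ρ b₀) ((β - 1) ^ k) :=
          Commute.pow_right (Commute.sub_right (hab b₀ hb₀ _ hβM) (Commute.one_right _)) k
        have hcβ : Commute (ρ m) (β * ρ b₀) := by
          rw [hβ, ← map_mul]
          exact hab m hm _ (mul_mem hβM hb₀)
        rw [hbt, hQt, mul_assoc, hcβ.eq, ← mul_assoc (ρ b₀), hcomm.eq, map_mul, pow_succ]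
        simp only [mul_assoc, sub_mul, mul_sub, one_mul]
  obtain ⟨Q, -, hQs, hQ0, m, hm, hQt⟩ := main t le_rfl
  have h0 : (β - 1) ^ t = 0 := by
    rw [Finset.sum_eq_single t (fun i hi hne => by
      rw [hQ0 i (by have := Finset.mem_range.1 hi; omega), zero_mul])
      (fun h => absurd (Finset.mem_range.2 (by have := hp.out.two_le; omega)) h), hQt] at hQs
    have := congrArg (fun r => r * ρ (m * x ^ t)⁻¹) hQs
    simp only [zero_mul] at this
    rwa [mul_assoc, mul_assoc, ← map_mul, ← map_mul, ← mul_assoc m, mul_inv_cancel, map_one, mul_one] at this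
  have hβp : β ^ p = 1 := by
    obtain ⟨r, hr⟩ := (Commute.one_right (β - 1)).exists_add_pow_prime_eq hp.out
    rw [sub_add_cancel] at hr
    rw [hr, hp0, one_pow, ← Nat.succ_pred_eq_of_pos hp.out.pos, pow_succ, show p.pred = t from rfl, h0]
    simp
  -- `β` has order prime to `p`
  have hca : Commute (ρ (x * a * x⁻¹)) (ρ a⁻¹) := hab _ ((Subgroup.mem_normalizer_iff.1 hx a).1 ha) _ (inv_mem ha)
  have hβn : β ^ n = 1 := by
    rw [hβ, map_mul, hca.mul_pow, ← map_pow, ← map_pow, conj_pow, map_mul, map_mul, han, mul_one, ← map_mul,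
      mul_inv_cancel, map_one, one_mul, inv_pow]
    calc ρ (a ^ n)⁻¹ = ρ (a ^ n) * ρ (a ^ n)⁻¹ := by rw [han, one_mul]
      _ = 1 := by rw [← map_mul, mul_inv_cancel, map_one]
  have hβ1 : β = 1 := by
    obtain ⟨e, -, he⟩ := Nat.exists_mul_mod_eq_one_of_coprime hn hp.out.one_lt
    conv_lhs => rw [← pow_one β, ← he]
    rw [pow_eq_one_iff_modEq.2]
    exact (Nat.mod_modEq _ _).trans (Nat.modEq_zero_iff_dvd.2 ((orderOf_dvd_of_pow_eq_one hβn).trans (dvd_mul_right n e))) |> fun _ => by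
      have h1 : orderOf β ∣ 1 := hn ▸ Nat.dvd_gcd (orderOf_dvd_of_pow_eq_one hβn) (orderOf_dvd_of_pow_eq_one hβp)
      exact Nat.modEq_zero_iff_dvd.2 (h1.trans (one_dvd _))
  calc ρ (x * a * x⁻¹) = ρ (x * a * x⁻¹ * a⁻¹ * a) := by rw [inv_mul_cancel_right]
    _ = ρ a := by rw [map_mul, ← hβ, hβ1, one_mul]

/-- Conjugation on a normal subgroup as endomorphisms. -/
noncomputable def act {H : Type*} [Group H] (W : Subgroup H) [W.Normal] : H →* AddMonoid.End (Additive W) where
  toFun g := MonoidHom.toAdditive (MulAut.conjNormal (H := W) g).toMonoidHom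
  map_one' := by
    refine AddMonoidHom.ext fun w => Additive.toMul.injective (Subtype.ext ?_)
    show (1 : H) * (Additive.toMul w : W) * (1 : H)⁻¹ = (Additive.toMul w : W)
    simp
  map_mul' g h := by
    refine AddMonoidHom.ext fun w => Additive.toMul.injective (Subtype.ext ?_)
    show g * h * (Additive.toMul w : W) * (g * h)⁻¹ = g * (h * (Additive.toMul w : W) * h⁻¹) * g⁻¹
    group

theorem false_of_degree {Y : Type*} [Group Y] [Finite Y] {p : ℕ} [Fact p.Prime]
    (hcon : Subgroup.centralizer (Cfsg.pCore p Y : Set Y) ≤ Cfsg.pCore p Y)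
    (hnpc : Cfsg.HasNormalPComplement p (Y ⧸ Cfsg.pCore p Y)) (T : Sylow p Y) (hT : IsCoatom (T : Subgroup Y))
    {g : Y} (hgT : g ∈ (T : Subgroup Y)) (hgO : g ∉ Cfsg.pCore p Y) {U V : Subgroup Y}
    (hUV : Cfsg.IsChiefFactor U V) (hU : U ≤ Cfsg.pCore p Y)
    (hdeg : Cfsg.iterCommutator U (Subgroup.zpowers g) (p - 1) ≤ V) (hne : ¬ ⁅U, Subgroup.zpowers g⁆ ≤ V) : False := by
  set O := Cfsg.pCore p Y with hO
  set π := QuotientGroup.mk' O
  have hs : Function.Surjective π := QuotientGroup.mk'_surjective O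
  set Kb := Cfsg.pPrimeCore p (Y ⧸ O) with hKb
  set M := Kb.comap π with hM
  haveI hMn : M.Normal := Subgroup.normal_comap _
  have hOM : O ≤ M := fun o ho => by
    rw [hM, Subgroup.mem_comap, show π o = 1 from (QuotientGroup.eq_one_iff o).mpr ho]
    exact one_mem _
  have hpel : ∀ m ∈ M, m ∈ (T : Subgroup Y) → m ∈ O := by
    intro m hm hmT
    obtain ⟨k, hk⟩ := exists_pow_eq_one_of_mem T.2 hmT
    refine (QuotientGroup.eq_one_iff (N := O) m).1 (orderOf_eq_one_iff.1 (Nat.eq_one_of_dvd_coprimes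
      (((card_pPrimeCore_coprime p).coprime_dvd_left (Subgroup.orderOf_dvd_natCard Kb (show π m ∈ Kb from hm))).pow_right k)
      dvd_rfl (orderOf_dvd_of_pow_eq_one (x := π m) ?_)))
    rw [← map_pow, hk, map_one]
  have hMq : IsPGroup p (Y ⧸ M) := by
    intro z
    obtain ⟨y, rfl⟩ := QuotientGroup.mk'_surjective M z
    obtain ⟨k, hk⟩ := isPGroup_quotient_of_hasNormalPComplement hnpc (QuotientGroup.mk (π y))
    refine ⟨k, ?_⟩
    rw [← map_pow]
    refine (QuotientGroup.eq_one_iff _).mpr ?_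
    show π (y ^ p ^ k) ∈ Kb
    rw [map_pow]
    exact (QuotientGroup.eq_one_iff _).mp (by rw [QuotientGroup.mk_pow]; exact hk)
  have hTM : ∀ y : Y, ∃ t ∈ (T : Subgroup Y), ∃ m ∈ M, t * m = y := fun y => by
    refine Subgroup.mem_sup_of_normal_right.1 ?_
    rw [sup_comm, sylow_sup_eq_top_of_pResidual_le T (pResidual_le_of_isPGroup_quotient hMq)]
    exact Subgroup.mem_top y
  have hinv : ∀ L : Subgroup Y, O ≤ L → L ≤ M → (T : Subgroup Y) ≤ Subgroup.normalizer (L : Set Y) → L = O ∨ L = M := by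
    intro L hOL hLM hTL
    rcases hT.le_iff.1 (le_sup_left : (T : Subgroup Y) ≤ (T : Subgroup Y) ⊔ L) with h | h
    · right
      refine le_antisymm hLM fun m hm => ?_
      have hm' : m ∈ L ⊔ (T : Subgroup Y) := by rw [sup_comm, h]; exact Subgroup.mem_top m
      obtain ⟨l, hl, u, hu, rfl⟩ := mem_sup_of_le_normalizer hTL hm'
      have huM : u ∈ M := by
        have h2 := M.mul_mem (M.inv_mem (hLM hl)) hm
        simpa using h2
      exact mul_mem hl (hOL (hpel u huM hu))
    · left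
      exact le_antisymm (fun l hl => hpel l (hLM hl) (h ▸ Subgroup.mem_sup_right hl)) hOL
  -- `M / O` is abelian
  have hpre : ∀ Lb : Subgroup (Y ⧸ O), Lb ≤ Kb →
      (T : Subgroup Y).map π ≤ Subgroup.normalizer (Lb : Set (Y ⧸ O)) → Lb = Kb ∨ Lb = ⊥ := by
    intro Lb hle hPn
    rcases hinv (Lb.comap π) (fun x hx => by
      rw [Subgroup.mem_comap, show π x = 1 from (QuotientGroup.eq_one_iff x).mpr hx]
      exact one_mem _) (Subgroup.comap_mono hle) (by
      rw [← Subgroup.comap_normalizer_eq_of_surjective Lb hs]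
      exact Subgroup.map_le_iff_le_comap.mp hPn) with h1 | h1
    · right
      rw [Subgroup.eq_bot_iff_forall]
      intro y hy
      obtain ⟨z, rfl⟩ := hs y
      exact (QuotientGroup.eq_one_iff z).mpr (h1.le hy)
    · exact Or.inl ((Subgroup.comap_injective hs) h1)
  have hab : ∀ m ∈ M, ∀ n ∈ M, ⁅m, n⁆ ∈ O := by
    by_cases hKb0 : Kb = ⊥
    · intro m hm n _
      have hmO : m ∈ O := by
        rw [← QuotientGroup.eq_one_iff, ← Subgroup.mem_bot, ← hKb0]
        exact hm
      have h1 := O.mul_mem hmO ((inferInstance : O.Normal).conj_mem _ (O.inv_mem hmO) n)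
      simpa [commutatorElement_def, mul_assoc] using h1
    obtain ⟨q, hq, hqd⟩ := Nat.exists_prime_and_dvd (n := Nat.card Kb) (fun h =>
      hKb0 (Subgroup.eq_bot_of_card_eq Kb h))
    haveI := Fact.mk hq
    set Pb := (T : Subgroup Y).map π with hPb
    have hPbp : IsPGroup p Pb := T.2.map π
    obtain ⟨k, hk⟩ := hPbp.exists_card_eq
    haveI : Group.IsNilpotent Pb := hPbp.isNilpotent
    obtain ⟨Q, hQ⟩ := coprime_exists_invariant_sylow (A := Pb) (K := Kb)
      (Subgroup.le_normalizer_of_normal ..)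
      (by rw [hk]; exact ((card_pPrimeCore_coprime p).pow_right k).symm) (Or.inl inferInstance) q
    have hQ0 : (Q : Subgroup Kb).map Kb.subtype ≠ ⊥ := by
      rw [ne_eq, Subgroup.map_eq_bot_iff_of_injective _ Kb.subtype_injective]
      intro h
      have := Q.not_dvd_index
      rw [h, Subgroup.index_bot] at this
      exact this hqd
    have hQK := (hpre _ (Subgroup.map_subtype_le _) hQ).resolve_right hQ0
    have hKq : IsPGroup q Kb := by
      rw [← hQK]
      exact Q.2.map _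
    haveI : Group.IsNilpotent Kb := hKq.isNilpotent
    haveI : Nontrivial Kb := (Subgroup.nontrivial_iff_ne_bot Kb).mpr hKb0
    set D := (_root_.commutator Kb).map Kb.subtype with hD
    have hD' := hpre D (Subgroup.map_subtype_le _) (Subgroup.le_normalizer_of_normal ..)
    have hDbot : D = ⊥ := hD'.resolve_left fun h =>
      (Group.IsSolvable.commutator_lt_top_of_nontrivial Kb).ne (Subgroup.map_injective Kb.subtype_injective (by
        rw [← MonoidHom.range_eq_map, Subgroup.range_subtype]; exact h))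
    intro m hm n hn
    rw [← QuotientGroup.eq_one_iff, ← Subgroup.mem_bot, ← hDbot]
    exact ⟨⁅(⟨π m, hm⟩ : Kb), ⟨π n, hn⟩⁆,
      Subgroup.commutator_mem_commutator (Subgroup.mem_top _) (Subgroup.mem_top _),
      by simp only [map_commutatorElement, Subgroup.coe_subtype]; exact (map_commutatorElement π m n).symm⟩
  -- the action on the chief factor
  haveI := hUV.2.1
  haveI := hUV.2.2.1
  set σ := QuotientGroup.mk' V
  set W := U.map σ with hW
  haveI hWn : W.Normal := Subgroup.Normal.map inferInstance σ (QuotientGroup.mk'_surjective V)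
  have hUp : IsPGroup p U := (isPGroup_pCore p).to_le hU
  have hUO : ⁅U, O⁆ ≤ V := CfsgLib.KInf.commutator_le_of_chief (isPGroup_pCore p) hUV hU
  have hWc := CfsgLib.KInf.commutator_le_of_abelian (CfsgLib.KInf.commutator_le_of_chief hUp hUV le_rfl)
  haveI : IsMulCommutative W := ⟨⟨fun a b => Subtype.ext (hWc a a.2 b b.2)⟩⟩
  have hexp : ∀ q ∈ W, q ^ p = 1 := by
    rintro _ ⟨q, hq, rfl⟩
    rw [← map_pow]
    exact (QuotientGroup.eq_one_iff _).2 (CfsgLib.WeakClosed.pow_mem_of_chief hUV hUp hq)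
  open scoped IsMulCommutative in
  let ρ : Y →* AddMonoid.End (Additive W) := (act W).comp σ
  have hρ1 : ∀ y, ρ y = 1 ↔ ∀ u ∈ U, y * u * y⁻¹ * u⁻¹ ∈ V := by
    intro y
    constructor
    · intro h u hu
      have h2 := congrArg (fun f : AddMonoid.End (Additive W) =>
        ((Additive.toMul (f (Additive.ofMul (⟨σ u, u, hu, rfl⟩ : W)))) : W).1) h
      change σ y * σ u * (σ y)⁻¹ = σ u at h2
      rw [← QuotientGroup.eq_one_iff]
      show σ (y * u * y⁻¹ * u⁻¹) = 1
      rw [map_mul, map_mul, map_mul, map_inv, map_inv, h2, mul_inv_cancel]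
    · intro h
      refine AddMonoidHom.ext fun w => Additive.toMul.injective (Subtype.ext ?_)
      obtain ⟨u, hu, hue⟩ := (Additive.toMul w).2
      show σ y * (Additive.toMul w : W) * (σ y)⁻¹ = (Additive.toMul w : W)
      rw [← hue, ← mul_inv_eq_one, ← map_inv, ← map_inv, ← map_mul, ← map_mul, ← map_mul]
      exact (QuotientGroup.eq_one_iff _).2 (h u hu)
  have hker : ∀ y, ρ y = 1 → ∀ z, ρ (z * y * z⁻¹) = 1 := fun y hy z => by
    rw [map_mul, map_mul, hy, mul_one, ← map_mul, mul_inv_cancel, map_one]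
  let C : Subgroup Y :=
    { carrier := {y | ρ y = 1}
      one_mem' := map_one ρ
      mul_mem' := fun {a b} ha hb => show ρ (a * b) = 1 by
        rw [map_mul, show ρ a = 1 from ha, show ρ b = 1 from hb, mul_one]
      inv_mem' := fun {a} ha => show ρ a⁻¹ = 1 by
        calc ρ a⁻¹ = ρ a⁻¹ * ρ a := by rw [show ρ a = 1 from ha, mul_one]
          _ = 1 := by rw [← map_mul, inv_mul_cancel, map_one] }
  haveI hCn : C.Normal := ⟨fun y hy z => hker y hy z⟩
  have hρO : ∀ o ∈ O, ρ o = 1 := fun o ho => (hρ1 o).2 fun u hu => by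
    have h : ⁅o, u⁆ ∈ ⁅U, O⁆ := by rw [Subgroup.commutator_comm]; exact Subgroup.commutator_mem_commutator ho hu
    rw [commutatorElement_def] at h
    exact hUO h
  have hgC : g ∉ C := fun h => hne (by
    rw [Subgroup.commutator_comm, Subgroup.commutator_le]
    intro z hz u hu
    rw [commutatorElement_def]
    exact (hρ1 z).1 (Subgroup.zpowers_le.2 h hz) u hu)
  have hMC : M ⊓ C = O := by
    refine (hinv (M ⊓ C) (le_inf hOM fun o ho => hρO o ho) inf_le_left
      (fun t _ => Subgroup.le_normalizer_of_normal (H := M ⊓ C) (Subgroup.mem_top t))).resolve_right fun h => hgC ?_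
    have hMC' : M ≤ C := h.ge.trans inf_le_right
    -- the fixed points of `T` on the factor are normal
    set Tb := (T : Subgroup Y).map σ
    haveI : Group.IsNilpotent Tb := (T.2.map σ).isNilpotent
    have hWT : W ≤ Tb := Subgroup.map_mono (hU.trans (pCore_le_sylow T))
    let U₁ : Subgroup Y := U ⊓ (Subgroup.centralizer (Tb : Set (Y ⧸ V))).comap σ
    have hVU₁ : V ≤ U₁ := le_inf hUV.1.le fun v hv z _ => by
      rw [show σ v = 1 from (QuotientGroup.eq_one_iff v).2 hv, mul_one, one_mul]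
    haveI hU₁n : U₁.Normal := by
      refine ⟨fun u hu y => ?_⟩
      obtain ⟨t, ht, m, hm, rfl⟩ := hTM y
      have h1 : σ (m * u * m⁻¹) = σ u := by
        rw [← mul_inv_eq_one, ← map_inv, ← map_mul]
        exact (QuotientGroup.eq_one_iff _).2 ((hρ1 m).1 (hMC' hm) u hu.1)
      refine ⟨hUV.2.1.conj_mem u hu.1 _, ?_⟩
      intro z hz
      have h2 : σ t * σ u = σ u * σ t := hu.2 _ ⟨t, ht, rfl⟩
      have h3 : σ (t * m * u * (t * m)⁻¹) = σ u := by
        rw [show t * m * u * (t * m)⁻¹ = t * (m * u * m⁻¹) * t⁻¹ by group, map_mul, map_mul, h1, h2, map_inv,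
          mul_inv_cancel_right]
      rw [h3]
      exact hu.2 z hz
    have hU₁ : U₁ = U := by
      refine (hUV.2.2.2 U₁ hU₁n hVU₁ inf_le_left).resolve_left fun e => ?_
      haveI : (W.subgroupOf Tb).Normal := Subgroup.normal_subgroupOf
      refine hUV.1.not_ge fun u hu => ?_
      by_contra huV
      have hW0 : W.subgroupOf Tb ≠ ⊥ := fun h => huV ((QuotientGroup.eq_one_iff u).1
        (congrArg Subtype.val ((Subgroup.eq_bot_iff_forall _).1 h ⟨σ u, hWT ⟨u, hu, rfl⟩⟩ ⟨u, hu, rfl⟩)))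
      obtain ⟨z, hz, hz1⟩ := (Subgroup.bot_or_exists_ne_one (W.subgroupOf Tb ⊓ Subgroup.center Tb)).resolve_left
        (fun h => hW0 (by
          by_contra h0
          exact (inf_center_ne_bot_of_nilpotent h0) h))
      obtain ⟨u', hu', hue⟩ := hz.1
      have : u' ∈ V := e ▸ (show u' ∈ U₁ from ⟨hu', fun w hw => by
        rw [hue]
        exact congrArg Subtype.val (Subgroup.mem_center_iff.1 hz.2 ⟨w, hw⟩)⟩)
      exact hz1 (Subtype.ext (hue.symm.trans ((QuotientGroup.eq_one_iff u').2 this)))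
    refine (hρ1 g).2 fun u hu => ?_
    have h2 : σ g * σ u = σ u * σ g := (hU₁.ge hu).2 _ ⟨g, hgT, rfl⟩
    rw [← QuotientGroup.eq_one_iff]
    show σ (g * u * g⁻¹ * u⁻¹) = 1
    rw [map_mul, map_mul, map_mul, map_inv, map_inv, h2, mul_inv_cancel_right, mul_inv_cancel]
  -- the geometric sum vanishes
  have hp0 : (p : AddMonoid.End (Additive W)) = 0 := by
    refine AddMonoidHom.ext fun w => ?_
    show (p : AddMonoid.End (Additive W)) w = (0 : Additive W)
    rw [AddMonoid.End.natCast_apply]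
    exact Additive.toMul.injective (Subtype.ext (hexp _ (Additive.toMul w).2))
  have hsum : ∑ i ∈ Finset.range p, ρ (g ^ i) = 0 := by
    refine AddMonoidHom.ext fun w => ?_
    refine (AddMonoidHom.finsetSum_apply _ _ _).trans ?_
    have h := CfsgLib.WeakClosed.prod_conj_eq_one hexp (s := σ g) (y := ((Additive.toMul w : W) : Y ⧸ V))
      (Additive.toMul w).2 (by
        rintro _ ⟨u, hu, rfl⟩
        rw [← CfsgLib.KInf.map_dl]
        exact (QuotientGroup.eq_one_iff _).2 (hdeg (CfsgLib.KInf.dl_mem_iterCommutator hu _)))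
    refine Eq.trans ?_ (congrArg Additive.ofMul h)
    rw [ofMul_prod]
    refine Finset.sum_congr rfl fun i _ => Additive.toMul.injective (Subtype.ext ?_)
    show σ (g ^ i) * (Additive.toMul w : W) * (σ (g ^ i))⁻¹ = σ g ^ i * (Additive.toMul w : W) * (σ g ^ i)⁻¹
    rw [map_pow]
  -- `g` centralizes `M / O`
  have hcent : ∀ m ∈ M, π g * π m = π m * π g := by
    intro m hm
    set n := orderOf (π m)
    have hn : n.Coprime p := (card_pPrimeCore_coprime p).coprime_dvd_left (Subgroup.orderOf_dvd_natCard Kb hm)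
    have han : ρ (m ^ n) = 1 := hρO _ ((QuotientGroup.eq_one_iff (N := O) _).1 (by
      show π (m ^ n) = 1
      rw [map_pow, pow_orderOf_eq_one]))
    have hr := eq_of_sum_eq_zero ρ hp0 hsum (M := M) (Subgroup.le_normalizer_of_normal (H := M) (Subgroup.mem_top g))
      (fun a ha b hb => by
        rw [← map_mul, ← map_mul, show a * b = ⁅a, b⁆ * (b * a) by rw [commutatorElement_def]; group,
          map_mul, hρO _ (hab a ha b hb), one_mul]) hm hn han
    have hmem : g * m * g⁻¹ * m⁻¹ ∈ O := hMC.le ⟨M.mul_mem (hMn.conj_mem m hm g) (M.inv_mem hm), show ρ _ = 1 by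
      rw [map_mul, hr, ← map_mul, mul_inv_cancel, map_one]⟩
    have h1 : π (g * m * g⁻¹ * m⁻¹) = 1 := (QuotientGroup.eq_one_iff _).2 hmem
    rw [map_mul, map_mul, map_mul, map_inv, map_inv, mul_inv_eq_one, mul_inv_eq_iff_eq_mul] at h1
    exact h1
  set Z := Subgroup.centralizer (Kb : Set (Y ⧸ O)) ⊓ (T : Subgroup Y).map π with hZ
  haveI : Z.Normal := by
    refine ⟨fun z hz q => ?_⟩
    obtain ⟨y, rfl⟩ := hs q
    obtain ⟨t, ht, m, hm, rfl⟩ := hTM y
    have h1 : π m * z * (π m)⁻¹ = z := by rw [hz.1 (π m) hm, mul_inv_cancel_right]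
    rw [map_mul, show π t * π m * z * (π t * π m)⁻¹ = π t * (π m * z * (π m)⁻¹) * (π t)⁻¹ by group, h1]
    refine ⟨(inferInstance : (Subgroup.centralizer (Kb : Set (Y ⧸ O))).Normal).conj_mem z hz.1 _, ?_⟩
    exact Subgroup.mul_mem _ (Subgroup.mul_mem _ (Subgroup.mem_map_of_mem π ht) hz.2)
      (Subgroup.inv_mem _ (Subgroup.mem_map_of_mem π ht))
  have hgZ : π g ∈ Z := ⟨fun k hk => by
    obtain ⟨m, rfl⟩ := hs k
    exact (hcent m hk).symm, Subgroup.mem_map_of_mem π hgT⟩
  have h2 : π g ∈ Cfsg.pCore p (Y ⧸ O) := le_pCore (N := Z) ((T.2.map π).to_le inf_le_right) hgZ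
  rw [pCore_quotient_pCore_eq_bot, Subgroup.mem_bot] at h2
  exact hgO ((QuotientGroup.eq_one_iff g).1 h2)

/-- Let p be a prime, G a finite group with Sylow p-subgroup S, and W an isomorphism-invariant p-group functor (W assigns to every group Q a subgroup W(Q), nontrivial whenever Q is a nontrivial finite p-group, and every isomorphism from a finite p-group Q onto a group R carries W(Q) onto W(R)). Suppose N_G(W(S)) has a normal p-complement, and that whenever G* = K/R is a section of G with C_{G*}(O_p(G*)) ≤ O_p(G*) and S* is a Sylow p-subgroup of G* with W(S*) not normal in G*, there are an element g of S* outside O_p(G*) and a chief factor X/Y of G* with X ≤ O_p(G*) such that [X, g, …, g] ≤ Y with p − 1 entries g but [X, g] ≰ Y. Then G has a normal p-complement. -/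
theorem result {G : Type u} [Group G] [Finite G] {p : ℕ} [Fact p.Prime] (W : ∀ (Q : Type u) [Group Q], Subgroup Q) (hW : Cfsg.IsCharPFunctor.{u} p W) (S : Sylow p G) (hN : Cfsg.HasNormalPComplement p ↥(Subgroup.normalizer ((Cfsg.inducedFunctor (G := G) W (S : Subgroup G) : Subgroup G) : Set G))) (hloc : ∀ (K R : Subgroup G) [hR : (R.subgroupOf K).Normal], Subgroup.centralizer ((Cfsg.pCore p (↥K ⧸ R.subgroupOf K) : Subgroup (↥K ⧸ R.subgroupOf K)) : Set (↥K ⧸ R.subgroupOf K)) ≤ Cfsg.pCore p (↥K ⧸ R.subgroupOf K) → ∀ T : Sylow p (↥K ⧸ R.subgroupOf K), ¬ (Cfsg.inducedFunctor (G := (↥K ⧸ R.subgroupOf K)) W ((T : Subgroup (↥K ⧸ R.subgroupOf K)))).Normal → ∃ g : (↥K ⧸ R.subgroupOf K), g ∈ (T : Subgroup (↥K ⧸ R.subgroupOf K)) ∧ g ∉ Cfsg.pCore p (↥K ⧸ R.subgroupOf K) ∧ ∃ U V : Subgroup (↥K ⧸ R.subgroupOf K), Cfsg.IsChiefFactor U V ∧ U ≤ Cfsg.pCore p (↥K ⧸ R.subgroupOf K) ∧ Cfsg.iterCommutator U (Subgroup.zpowers g) (p - 1) ≤ V ∧ ¬ ⁅U, Subgroup.zpowers g⁆ ≤ V)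 : Cfsg.HasNormalPComplement p G := by
  refine CfsgLib.StrongFusion.hasNormalPComplement_of_maximal hW S
    (CfsgLib.StrongFusion.maxStep_of_sections hW fun K R _ hcon hnpc T hT => ?_) hN
  by_contra hn
  obtain ⟨g, hgT, hgO, U, V, hUV, hU, hdeg, hne⟩ := hloc K R hcon T hn
  exact false_of_degree hcon hnpc T hT hgT hgO hUV hU hdeg hne

end Cfsg.Agent.S2006
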