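import Cfsg.Statements.S2007
import Cfsg.Agent.Lib.PComplement
import Cfsg.Agent.Lib.StrongFusion.Chain

set_option autoImplicit false
set_option linter.unusedVariables false
open Cfsg
open scoped commutatorElement

namespace Cfsg.Agent.S2007

theorem coprime_core {G : Type*} [Group G] [Finite G] {p : ℕ} [Fact p.Prime] (C : Subgroup G) :
    (Nat.card ((Cfsg.pPrimeCore p C).map C.subtype)).Coprime p := by
  rw [Subgroup.card_map_of_injective C.subtype_injective]
  exact CfsgLib.card_pPrimeCore_coprime p

/-- Let p be a prime, G a finite group with Sylow p-subgroup S, and T a normal subgroup of S containing C_S(T). If N_G(T)/C_G(T) is a p-group (every element of N_G(T) of order prime to p centralizes T), then N_G(T) has a normal p-complement. -/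
theorem result {G : Type*} [Group G] [Finite G] {p : ℕ} [Fact p.Prime] (S : Sylow p G) (T : Subgroup G) (hTS : T ≤ (S : Subgroup G)) (hTn : (S : Subgroup G) ≤ Subgroup.normalizer ((T : Subgroup G) : Set G)) (hC : (S : Subgroup G) ⊓ Subgroup.centralizer ((T : Subgroup G) : Set G) ≤ T) (hN : ∀ g ∈ Subgroup.normalizer ((T : Subgroup G) : Set G), (orderOf g).Coprime p → g ∈ Subgroup.centralizer ((T : Subgroup G) : Set G)) : Cfsg.HasNormalPComplement p ↥(Subgroup.normalizer ((T : Subgroup G) : Set G)) := by
  set N := Subgroup.normalizer ((T : Subgroup G) : Set G) with hNdef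
  set C := Subgroup.centralizer ((T : Subgroup G) : Set G) with hCdef
  have hSidx : ¬ p ∣ (S : Subgroup G).relIndex N := fun h =>
    S.not_dvd_index (h.trans (Subgroup.relIndex_dvd_index_of_le hTn))
  have hCN : C ≤ N := Subgroup.centralizer_le_normalizer (T : Set G)
  obtain ⟨R⟩ : Nonempty (Sylow p C) := inferInstance
  have hRT : ∀ r ∈ (R : Subgroup C), (r : G) ∈ T := by
    obtain ⟨m, hm, hmle⟩ := CfsgLib.StrongFusion.exists_conj_le (Q := (S : Subgroup G)) hTn S.2 hSidx
      (R := (R : Subgroup C).map C.subtype) ((Subgroup.map_subtype_le _).trans hCN) (R.2.map _)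
    intro r hr
    have h1 : m * (r : G) * m⁻¹ ∈ T := by
      refine hC ⟨hmle (CfsgLib.StrongFusion.conj_mem_cm ⟨r, hr, rfl⟩), ?_⟩
      intro t ht
      have ht' : m⁻¹ * t * m ∈ T := by
        have := (Subgroup.mem_normalizer_iff.1 (inv_mem hm) t).1 ht
        rwa [inv_inv] at this
      have h2 := r.2 _ ht'
      calc t * (m * (r : G) * m⁻¹) = m * (m⁻¹ * t * m * (r : G)) * m⁻¹ := by group
        _ = m * ((r : G) * (m⁻¹ * t * m)) * m⁻¹ := by rw [h2]
        _ = m * (r : G) * m⁻¹ * t := by group
    exact (Subgroup.mem_normalizer_iff.1 hm (r : G)).2 h1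
  have hCnpc : Cfsg.HasNormalPComplement p C := CfsgLib.hasNormalPComplement_of_normalizer_le_centralizer R
    (fun c _ r hr => Subtype.ext (c.2 _ (hRT r hr)))
  rw [CfsgLib.hasNormalPComplement_iff_pResidual, ← Subgroup.card_map_of_injective (f := N.subtype) N.subtype_injective]
  refine (coprime_core C).coprime_dvd_left (Subgroup.card_dvd_of_le (K := (Cfsg.pPrimeCore p C).map C.subtype) ?_)
  rw [Subgroup.map_le_iff_le_comap]
  refine CfsgLib.pResidual_le fun g hg => ?_
  have hgo : (orderOf (g : G)).Coprime p := by rwa [Subgroup.orderOf_coe]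
  have hgC : (g : G) ∈ C := hN g g.2 hgo
  exact ⟨⟨g, hgC⟩, CfsgLib.mem_pPrimeCore_of_hasNormalPComplement hCnpc
    (by rw [← Subgroup.orderOf_coe]; exact hgo), rfl⟩

end Cfsg.Agent.S2007
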