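import Cfsg.Statements.S2009
import Cfsg.Agent.Lib.Local

set_option autoImplicit false
set_option linter.unusedVariables false
open Cfsg
open scoped commutatorElement

namespace Cfsg.Agent.S2009

theorem trivial_of_four {H : Type*} [Group H] [Finite H] (z : H)
    (hN : ∀ N : Subgroup H, N.Normal → N ≠ ⊤ → N ⊓ Subgroup.centralizer ({z} : Set H) = ⊥)
    (E : Subgroup H) (hE : IsKleinFour ↥E) (hc : ∀ e ∈ E, e ≠ 1 → IsConj z e) (N : Subgroup H)
    [N.Normal] (hNt : N ≠ ⊤) : N = ⊥ := by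
  have hfix : ∀ e ∈ E, e ≠ 1 → ∀ n ∈ N, e * n = n * e → n = 1 := by
    intro e he he1 n hn hcomm
    obtain ⟨c, hc⟩ := isConj_iff.1 (hc e he he1)
    have hm : c⁻¹ * n * c ∈ N ⊓ Subgroup.centralizer ({z} : Set H) := by
      refine ⟨by simpa using (inferInstance : N.Normal).conj_mem n hn c⁻¹, ?_⟩
      intro y hy
      rw [Set.mem_singleton_iff] at hy
      subst hy
      rw [← hc] at hcomm
      calc y * (c⁻¹ * n * c) = c⁻¹ * ((c * y * c⁻¹) * n) * c := by group
        _ = c⁻¹ * (n * (c * y * c⁻¹)) * c := by rw [hcomm]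
        _ = c⁻¹ * n * c * y := by group
    rw [hN N inferInstance hNt, Subgroup.mem_bot] at hm
    calc n = c * (c⁻¹ * n * c) * c⁻¹ := by group
      _ = 1 := by rw [hm]; group
  haveI := hE
  have hsq : ∀ e ∈ E, e * e = 1 := fun e he =>
    congrArg Subtype.val (IsKleinFour.mul_self (⟨e, he⟩ : E))
  have hinv : ∀ e ∈ E, e ≠ 1 → ∀ n ∈ N, e * n * e⁻¹ = n⁻¹ := by
    intro e he he1
    have hei : e⁻¹ = e := inv_eq_of_mul_eq_one_left (hsq e he)
    let f : N → N := fun m => ⟨(m : H)⁻¹ * (e * m * e⁻¹),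
      N.mul_mem (N.inv_mem m.2) ((inferInstance : N.Normal).conj_mem _ m.2 e)⟩
    have hinj : Function.Injective f := by
      intro a b hab
      have h : (a : H)⁻¹ * (e * a * e⁻¹) = (b : H)⁻¹ * (e * b * e⁻¹) := congrArg Subtype.val hab
      have : (b : H) * (a : H)⁻¹ = 1 := hfix e he he1 _ (N.mul_mem b.2 (N.inv_mem a.2)) (by
        calc e * ((b : H) * (a : H)⁻¹) = (b : H) * ((b : H)⁻¹ * (e * b * e⁻¹)) * (e * (a : H)⁻¹) := by group
          _ = (b : H) * ((a : H)⁻¹ * (e * a * e⁻¹)) * (e * (a : H)⁻¹) := by rw [h]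
          _ = _ := by group)
      exact Subtype.ext (mul_inv_eq_one.1 this).symm
    intro n hn
    obtain ⟨m, hm⟩ := (Finite.injective_iff_surjective.1 hinj) ⟨n, hn⟩
    have hm' : (m : H)⁻¹ * (e * m * e⁻¹) = n := congrArg Subtype.val hm
    rw [← hm']
    simp only [hei]
    calc e * ((m : H)⁻¹ * (e * m * e)) * e = (e * (m : H)⁻¹ * e) * m * (e * e) := by group
      _ = e⁻¹ * (m : H)⁻¹ * e⁻¹ * m := by rw [hsq e he, hei, mul_one]
      _ = ((m : H)⁻¹ * (e * m * e))⁻¹ := by group
  haveI : Nontrivial E := Finite.one_lt_card_iff_nontrivial.1 (by rw [IsKleinFour.card_four]; norm_num)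
  obtain ⟨⟨a, ha⟩, ha1⟩ := exists_ne (1 : E)
  obtain ⟨⟨b, hb⟩, hb1, hba⟩ : ∃ b : E, b ≠ 1 ∧ b ≠ ⟨a, ha⟩ := by
    classical
    have := Fintype.ofFinite E
    by_contra hne
    push Not at hne
    have hsub : (Finset.univ : Finset E) ⊆ {1, ⟨a, ha⟩} := fun x _ => by
      rcases eq_or_ne x 1 with rfl | hx
      · simp
      · simp [hne x hx]
    have h4 := (Finset.card_le_card hsub).trans Finset.card_le_two
    rw [Finset.card_univ, Fintype.card_eq_nat_card, IsKleinFour.card_four] at h4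
    omega
  have hb' : b ≠ 1 := fun h => hb1 (Subtype.ext h)
  have ha' : a ≠ 1 := fun h => ha1 (Subtype.ext h)
  have hab : a * b ≠ 1 := by
    intro h
    refine hba (Subtype.ext ?_)
    show b = a
    calc b = a * a * b := by rw [hsq a ha, one_mul]
      _ = a := by rw [mul_assoc, h, mul_one]
  refine (Subgroup.eq_bot_iff_forall _).2 fun n hn => hfix (a * b) (E.mul_mem ha hb) hab n hn ?_
  have h2 : a * b * n * (a * b)⁻¹ = n := by
    calc a * b * n * (a * b)⁻¹ = a * (b * n * b⁻¹) * a⁻¹ := by group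
      _ = (a * n * a⁻¹)⁻¹ := by rw [hinv b hb hb' n hn]; group
      _ = n := by rw [hinv a ha ha' n hn, inv_inv]
  exact mul_inv_eq_iff_eq_mul.1 h2

/-- Let H be a finite group and z an involution such that every proper normal subgroup of H meets the centralizer of z trivially, and suppose z lies in a Klein four-subgroup E of H all three of whose involutions are conjugate to z in H. Then H is simple. -/
theorem result {H : Type*} [Group H] [Finite H] (z : H) (hz : orderOf z = 2) (hN : ∀ N : Subgroup H, N.Normal → N ≠ ⊤ → N ⊓ Subgroup.centralizer ({z} : Set H) = ⊥) (E : Subgroup H) (hE : IsKleinFour ↥E) (hzE : z ∈ E) (hc : ∀ e ∈ E, e ≠ 1 → IsConj z e) : IsSimpleGroup H := by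
  haveI : Nontrivial H := ⟨z, 1, fun h => by simp [h] at hz⟩
  refine ⟨fun N hn => ?_⟩
  by_cases h : N = ⊤
  · exact Or.inr h
  · haveI := hn
    exact Or.inl (trivial_of_four z hN E hE hc N h)

end Cfsg.Agent.S2009
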