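import Cfsg.Statements.S2008
import Cfsg.Agent.S2009

set_option autoImplicit false
set_option linter.unusedVariables false
open Cfsg
open scoped commutatorElement

namespace Cfsg.Agent.S2008

/-- Let H be a finite group and z an involution such that every proper normal subgroup of H meets the centralizer of z trivially, and suppose z lies in a Klein four-subgroup E of H all three of whose involutions are conjugate to z in H. Then H has no non-trivial abelian normal subgroup. -/
theorem result {H : Type*} [Group H] [Finite H] (z : H) (hz : orderOf z = 2) (hN : ∀ N : Subgroup H, N.Normal → N ≠ ⊤ → N ⊓ Subgroup.centralizer ({z} : Set H) = ⊥) (E : Subgroup H) (hE : IsKleinFour ↥E) (hzE : z ∈ E) (hc : ∀ e ∈ E, e ≠ 1 → IsConj z e) (N : Subgroup H) [N.Normal] (hab : IsMulCommutative ↥N) : N = ⊥ := by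
  refine S2009.trivial_of_four z hN E hE hc N fun hT => ?_
  haveI := hE
  have hab' : ∀ x y : H, x * y = y * x := fun x y =>
    Subtype.ext_iff.1 (hab.is_comm.comm (⟨x, hT ▸ Subgroup.mem_top x⟩ : N) ⟨y, hT ▸ Subgroup.mem_top y⟩)
  have hone : ∀ e : E, e = 1 ∨ e = ⟨z, hzE⟩ := by
    intro e
    by_cases he : (e : H) = 1
    · exact Or.inl (Subtype.ext he)
    · obtain ⟨c, hc⟩ := isConj_iff.1 (hc e e.2 he)
      refine Or.inr (Subtype.ext ?_)
      rw [← hc, hab' c z]
      simp
  classical
  have := Fintype.ofFinite E
  have h4 := (Finset.card_le_card (t := ({1, ⟨z, hzE⟩} : Finset E)) (s := Finset.univ) fun e _ => by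
    rcases hone e with h | h <;> simp [h]).trans Finset.card_le_two
  rw [Finset.card_univ, Fintype.card_eq_nat_card, IsKleinFour.card_four] at h4
  omega

end Cfsg.Agent.S2008
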