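import Cfsg.Statements.S2011
import Cfsg.Agent.Lib.PComplement
import Cfsg.Agent.Lib.Fusion.Group

set_option autoImplicit false
set_option linter.unusedVariables false
open Cfsg
open scoped commutatorElement

namespace Cfsg.Agent.S2011


open CfsgLib
open scoped Pointwise

theorem exists_conj_le_sylow {G : Type*} [Group G] [Finite G] {p : ℕ} [Fact p.Prime] (P : Sylow p G)
    (R : Subgroup G) (hR : IsPGroup p ↥R) : ∃ g : G, R.map (MulAut.conj g).toMonoidHom ≤ (P : Subgroup G) := by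
  obtain ⟨U, hU⟩ := hR.exists_le_sylow
  obtain ⟨g, hg⟩ := MulAction.exists_smul_eq G U P
  refine ⟨g, ?_⟩
  rintro _ ⟨w, hw, rfl⟩
  rw [← hg, Sylow.coe_subgroup_smul]
  exact Subgroup.smul_mem_pointwise_smul _ _ _ (hU hw)

/-- Let G be a finite group with Sylow p-subgroup P and Q ≤ P. Then Q is centric in the fusion system of G on P (C_P(R) ≤ R for every G-conjugate R of Q lying in P) if and only if C_G(Q) is the internal direct product of Z(Q) = Q ∩ C_G(Q) and the largest normal subgroup of C_G(Q) of order prime to p. -/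
theorem result {G : Type*} [Group G] [Finite G] (p : ℕ) [Fact p.Prime] (P : Sylow p G) (Q : Subgroup G) (hQ : Q ≤ P) : (Cfsg.groupFusionSystem (P : Subgroup G)).IsCentric Q ↔ Cfsg.IsInternalDirectProduct (Q ⊓ Subgroup.centralizer (Q : Set G)) ((Cfsg.pPrimeCore p ↥(Subgroup.centralizer (Q : Set G))).map (Subgroup.centralizer (Q : Set G)).subtype) (Subgroup.centralizer (Q : Set G)) := by
  set C := Subgroup.centralizer (Q : Set G) with hC
  set Z := Q ⊓ C with hZ
  set O := (Cfsg.pPrimeCore p ↥C).map C.subtype with hO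
  have hQp : IsPGroup p ↥Q := P.2.to_le hQ
  have hOc : (Nat.card O).Coprime p := by
    rw [hO, Subgroup.card_map_of_injective C.subtype_injective]; exact CfsgLib.card_pPrimeCore_coprime p
  have hcomm : ∀ a ∈ Z, ∀ b ∈ C, a * b = b * a := fun a ha b hb => hb a (Subgroup.mem_inf.mp ha).1
  constructor
  · intro hcen
    have hT : ∀ T : Subgroup G, IsPGroup p ↥T → T ≤ C → T ≤ Z := by
      intro T hT hTC
      refine le_inf ?_ hTC
      have hQT : IsPGroup p ↥(T ⊔ Q) := IsPGroup.to_sup_of_normal_right' hT hQp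
        (hTC.trans (Subgroup.centralizer_le_normalizer _))
      obtain ⟨g, hg⟩ := exists_conj_le_sylow P _ hQT
      have hQ' : Q.map (MulAut.conj g).toMonoidHom ≤ (P : Subgroup G) :=
        (Subgroup.map_mono le_sup_right).trans hg
      have h1 := hcen.2 (Q.map (MulAut.conj g).toMonoidHom)
        (Cfsg.FusionSystem.isConj_groupFusionSystem_iff.mpr ⟨hQ, hQ', g, rfl⟩)
      intro t ht
      obtain ⟨q, hq, e⟩ := h1 (x := MulAut.conj g t) (Subgroup.mem_inf.mpr
        ⟨hg ⟨t, Subgroup.mem_sup_left ht, rfl⟩, by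
          rintro _ ⟨q, hq, rfl⟩
          show MulAut.conj g q * MulAut.conj g t = MulAut.conj g t * MulAut.conj g q
          rw [← map_mul, ← map_mul, hTC ht q hq]⟩)
      have : q = t := (MulAut.conj g).injective e
      exact this ▸ hq
    obtain ⟨T⟩ : Nonempty (Sylow p ↥C) := inferInstance
    have hTZ : (T : Subgroup ↥C).map C.subtype ≤ Z := hT _ (T.2.map _) (Subgroup.map_subtype_le _)
    obtain ⟨T', W, hW, hcomp⟩ := CfsgLib.hasNormalPComplement_of_normalizer_le_centralizer T (fun g _ t ht => by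
      refine Subtype.ext ?_
      exact hcomm _ (hTZ ⟨t, ht, rfl⟩) _ g.2)
    have hWc : (Nat.card W).Coprime p := by
      have h1 := T'.not_dvd_index
      rw [hcomp.index_eq_card] at h1
      exact ((Fact.out : p.Prime).coprime_iff_not_dvd.mpr h1).symm
    have hWO : W.map C.subtype ≤ O := Subgroup.map_mono (CfsgLib.le_pPrimeCore hWc)
    obtain ⟨k, hk⟩ := IsPGroup.iff_card.mp (hQp.to_le (inf_le_left : Z ≤ Q))
    refine ⟨inf_le_right, Subgroup.map_subtype_le _, fun a ha b hb => hcomm a ha b (Subgroup.map_subtype_le _ hb),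
      Subgroup.inf_eq_bot_of_coprime (by rw [hk]; exact (hOc.pow_right k).symm), ?_⟩
    refine le_antisymm (sup_le inf_le_right (Subgroup.map_subtype_le _)) fun c hc => ?_
    obtain ⟨w, hw, t, ht, e⟩ := Subgroup.mem_sup_of_normal_left.mp
      (hcomp.sup_eq_top.symm ▸ Subgroup.mem_top (⟨c, hc⟩ : ↥C))
    rw [show c = (w : G) * t from (congrArg Subtype.val e).symm]
    exact Subgroup.mul_mem _ (Subgroup.mem_sup_right (hWO ⟨w, hw, rfl⟩))
      (Subgroup.mem_sup_left (hT _ (T'.2.map _) (Subgroup.map_subtype_le _) ⟨t, ht, rfl⟩))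
  · rintro ⟨-, -, hzo, -, hsup⟩
    refine ⟨hQ, fun R hR => ?_⟩
    obtain ⟨-, -, g, rfl⟩ := Cfsg.FusionSystem.isConj_groupFusionSystem_iff.mp hR
    rintro x ⟨hxP, hxC⟩
    set y := g⁻¹ * x * g with hy
    have hyC : y ∈ C := fun q hq => by
      have h1 : (g * q * g⁻¹) * x = x * (g * q * g⁻¹) := hxC _ ⟨q, hq, rfl⟩
      calc q * y = g⁻¹ * ((g * q * g⁻¹) * x) * g := by rw [hy]; group
        _ = y * q := by rw [h1, hy]; group
    have hn : Subgroup.normalizer (Z : Set G) ≥ O := fun o ho => Subgroup.mem_normalizer_iff.mpr fun z => by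
      have hcl : ∀ o' ∈ O, ∀ z ∈ Z, o' * z * o'⁻¹ = z := fun o' ho' z hz => by rw [← hzo z hz o' ho', mul_inv_cancel_right]
      refine ⟨fun hz => by rw [hcl o ho z hz]; exact hz, fun hz => ?_⟩
      have h2 := hcl o⁻¹ (O.inv_mem ho) _ hz
      rw [show z = o * z * o⁻¹ from by
        calc z = o⁻¹ * (o * z * o⁻¹) * o⁻¹⁻¹ := by group
          _ = o * z * o⁻¹ := h2]
      exact hz
    obtain ⟨z, hz, o, ho, e⟩ := Set.mem_mul.mp (show y ∈ (Z : Set G) * (O : Set G) by
      rw [← Subgroup.coe_mul_of_right_le_normalizer_left Z O hn, hsup]; exact hyC)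
    obtain ⟨k, hk⟩ := P.2 ⟨x, hxP⟩
    have hyk : y ^ p ^ k = 1 := by
      rw [hy, show g⁻¹ * x * g = g⁻¹ * x * g⁻¹⁻¹ by group, conj_pow, show x ^ p ^ k = 1 from congrArg Subtype.val hk]
      group
    rw [← e, (show Commute z o from hzo z hz o ho).mul_pow] at hyk
    have h2 : o ^ p ^ k = 1 := by
      have h3 : o ^ p ^ k = (z ^ p ^ k)⁻¹ := eq_inv_of_mul_eq_one_right hyk
      obtain ⟨j, hj⟩ := hQp ⟨z, (Subgroup.mem_inf.mp hz).1⟩
      have hj' : z ^ p ^ j = 1 := congrArg Subtype.val hj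
      have h4 : o ^ p ^ (k + j) = 1 := by
        rw [pow_add, pow_mul, h3, inv_pow, ← pow_mul, mul_comm, pow_mul, hj', one_pow, inv_one]
      have ho1 : o = 1 := orderOf_eq_one_iff.mp (Nat.eq_one_of_dvd_coprimes (hOc.pow_right (k + j))
        (Subgroup.orderOf_dvd_natCard _ ho) (orderOf_dvd_of_pow_eq_one h4))
      rw [ho1, one_pow]
    have ho1 : o = 1 := orderOf_eq_one_iff.mp (Nat.eq_one_of_dvd_coprimes (hOc.pow_right k)
      (Subgroup.orderOf_dvd_natCard _ ho) (orderOf_dvd_of_pow_eq_one h2))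
    refine ⟨y, ?_, show g * y * g⁻¹ = x by rw [hy]; group⟩
    rw [← e, ho1, mul_one]
    exact (Subgroup.mem_inf.mp hz).1

end Cfsg.Agent.S2011
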