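import Cfsg.Statements.S2014
import Cfsg.Agent.Lib.Transfer
import Cfsg.Agent.Lib.StrongFusion.Chain

set_option autoImplicit false
set_option linter.unusedVariables false
open Cfsg
open scoped commutatorElement

namespace Cfsg.Agent.S2014

/-- Let P be a Sylow p-subgroup of a finite group G and A, C ≤ P subgroups conjugate in G, with C extremal: N_P(C) is a Sylow p-subgroup of N_G(C). Then there is g with gAg⁻¹ = C and g N_P(A) g⁻¹ ≤ N_P(C); moreover, given any h with hAh⁻¹ = C, g can be chosen so that h g⁻¹ lies in O^p(N_G(C)), the subgroup of N_G(C) generated by its elements of order prime to p. -/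
theorem result {G : Type*} [Group G] [Finite G] (p : ℕ) [Fact p.Prime] (P : Sylow p G) (A C : Subgroup G) (hA : A ≤ P) (hC : C ≤ P) (hext : ¬ p ∣ ((P : Subgroup G) ⊓ Subgroup.normalizer ((C : Subgroup G) : Set G)).relIndex (Subgroup.normalizer ((C : Subgroup G) : Set G))) (h : G) (hh : A.map (MulAut.conj h).toMonoidHom = C) : ∃ g : G, A.map (MulAut.conj g).toMonoidHom = C ∧ ((P : Subgroup G) ⊓ Subgroup.normalizer ((A : Subgroup G) : Set G)).map (MulAut.conj g).toMonoidHom ≤ (P : Subgroup G) ⊓ Subgroup.normalizer ((C : Subgroup G) : Set G) ∧ h * g⁻¹ ∈ (Cfsg.pResidual p ↥(Subgroup.normalizer ((C : Subgroup G) : Set G))).map (Subgroup.normalizer ((C : Subgroup G) : Set G)).subtype := by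
  set N := Subgroup.normalizer ((C : Subgroup G) : Set G) with hN
  set Q := (P : Subgroup G) ⊓ N with hQ
  have hQN : Q ≤ N := inf_le_right
  obtain ⟨m, hm, hmle⟩ := CfsgLib.StrongFusion.exists_conj_le (Q := Q) hQN (P.2.to_le inf_le_left) hext
    (R := CfsgLib.StrongFusion.cm h ((P : Subgroup G) ⊓ Subgroup.normalizer ((A : Subgroup G) : Set G)))
    (by
      refine (CfsgLib.StrongFusion.cm_mono inf_le_right).trans (le_of_eq ?_)
      rw [hN, ← hh]
      exact Subgroup.map_normalizer_eq_of_bijective A (f := (MulAut.conj h).toMonoidHom) (MulAut.conj h).bijective)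
    ((P.2.to_le inf_le_left).map _)
  set Qs : Sylow p N := ((P.2.to_le (inf_le_left : Q ≤ _)).of_equiv (Subgroup.subgroupOfEquivOfLe hQN).symm).toSylow hext
  haveI : (Cfsg.pResidual p N).Normal := inferInstance
  obtain ⟨s, hs, o, ho, hso⟩ := Subgroup.mem_sup_of_normal_right.1
    (show (⟨m, hm⟩ : N) ∈ (Qs : Subgroup N) ⊔ Cfsg.pResidual p N by
      rw [CfsgLib.Transfer.sylow_sup_pResidual]; exact Subgroup.mem_top _)
  have hm' : m = (s : G) * (o : G) := by rw [← Subgroup.coe_mul, hso]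
  refine ⟨(o : G) * h, ?_, ?_, ?_⟩
  · show CfsgLib.StrongFusion.cm ((o : G) * h) A = C
    rw [← CfsgLib.StrongFusion.cm_cm, show CfsgLib.StrongFusion.cm h A = C from hh]
    exact CfsgLib.Local.map_conj_eq_of_mem_normalizer o.2
  · rw [CfsgLib.StrongFusion.cm_cm, hm', mul_assoc] at hmle
    show CfsgLib.StrongFusion.cm ((o : G) * h) _ ≤ Q
    intro x hx
    have hsQ : (s : G) ∈ Q := hs
    have hx' : (s : G) * x * (s : G)⁻¹ ∈ Q := hmle (by
      rw [← CfsgLib.StrongFusion.cm_cm]
      exact CfsgLib.StrongFusion.conj_mem_cm hx)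
    have := Q.mul_mem (Q.mul_mem (Q.inv_mem hsQ) hx') hsQ
    rwa [show (s : G)⁻¹ * ((s : G) * x * (s : G)⁻¹) * (s : G) = x by group] at this
  · exact ⟨o⁻¹, inv_mem ho, by simp⟩

end Cfsg.Agent.S2014
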