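import Cfsg.Statements.S2029
import Cfsg.Agent.Lib.PairRank.Main

set_option autoImplicit false
open Cfsg

namespace Cfsg.Agent.S2029

open CfsgLib.PairRank

universe u

/-- A `p`-group in the normaliser of a `2`-group can be traded to one in an involution centraliser. -/
theorem exists_centralized {G : Type u} [Group G] [Finite G] {p : ℕ} [hp : Fact p.Prime] (hp2 : p ≠ 2)
    (hG : Cfsg.IsOfLocalCharacteristic p G) {T A : Subgroup G} (hT : IsPGroup 2 T) (hT1 : T ≠ ⊥) (hA : EA p A)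
    {m : ℕ} (hm : Nat.card A = p ^ m) (hm2 : 2 ≤ m) (hAT : A ≤ Subgroup.normalizer (T : Set G)) :
    ∃ z : G, z ^ 2 = 1 ∧ z ≠ 1 ∧ ∃ B : Subgroup G, EA p B ∧ Nat.card B = p ^ m ∧ ∀ b ∈ B, b * z = z * b := by
  haveI : Fact (Nat.Prime 2) := ⟨Nat.prime_two⟩
  let W : Subgroup G :=
    { carrier := {x | x ∈ T ∧ (∀ q ∈ T, q * x = x * q) ∧ x ^ 2 = 1}
      one_mem' := ⟨one_mem _, fun q _ => by simp, one_pow _⟩
      mul_mem' := fun {a b} ha hb => ⟨mul_mem ha.1 hb.1,
        fun q hq => (Commute.mul_right (ha.2.1 q hq) (hb.2.1 q hq)).eq, by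
        rw [(show Commute a b from hb.2.1 a ha.1).mul_pow, ha.2.2, hb.2.2, one_mul]⟩
      inv_mem' := fun {a} ha => ⟨inv_mem ha.1, fun q hq => (Commute.inv_right (ha.2.1 q hq)).eq, by
        rw [inv_pow, ha.2.2, inv_one]⟩ }
  have hW : EA 2 W := ⟨fun x hx y hy => hy.2.1 x hx.1, fun x hx => hx.2.2⟩
  obtain ⟨w0, hw0, hw01⟩ : ∃ w ∈ W, w ≠ 1 := by
    haveI : Nontrivial T := T.nontrivial_iff_ne_bot.mpr hT1
    have hc := hT.center_nontrivial
    have hcp : IsPGroup 2 (Subgroup.center T) := hT.to_subgroup _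
    obtain ⟨k, hk, hkc⟩ := hcp.nontrivial_iff_card.mp hc
    obtain ⟨x, hx⟩ := exists_prime_orderOf_dvd_card' (G := Subgroup.center T) 2 (by rw [hkc]; exact dvd_pow_self _ (by omega))
    refine ⟨((x : T) : G), ⟨(x : T).2, fun q hq => congrArg Subtype.val (Subgroup.mem_center_iff.mp x.2 ⟨q, hq⟩), ?_⟩, ?_⟩
    · have h := pow_orderOf_eq_one x
      rw [hx] at h
      exact congrArg (fun y : Subgroup.center T => ((y : T) : G)) h
    · intro h
      have : x = 1 := Subtype.ext (Subtype.ext h)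
      rw [this, orderOf_one] at hx
      omega
  by_cases hex : ∃ w ∈ W, w ≠ 1 ∧ ∀ a ∈ A, a * w = w * a
  · obtain ⟨w, hwW, hw1, hwA⟩ := hex
    exact ⟨w, hwW.2.2, hw1, A, hA, hm, hwA⟩
  push Not at hex
  have hAW : A ≤ Subgroup.normalizer (W : Set G) := by
    have key : ∀ a ∈ A, ∀ g ∈ W, a * g * a⁻¹ ∈ W := by
      intro a ha g hg
      refine ⟨(Subgroup.mem_normalizer_iff.mp (hAT ha) g).mp hg.1, fun q hq => ?_, ?_⟩
      · have h := hg.2.1 _ ((Subgroup.mem_normalizer_iff.mp (hAT (inv_mem ha)) q).mp hq)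
        rw [inv_inv] at h
        calc q * (a * g * a⁻¹) = a * (a⁻¹ * q * a * g) * a⁻¹ := by group
          _ = a * (g * (a⁻¹ * q * a)) * a⁻¹ := by rw [h]
          _ = a * g * a⁻¹ * q := by group
      · rw [conj_pow, hg.2.2, mul_one, mul_inv_cancel]
    intro a ha
    refine Subgroup.mem_normalizer_iff.mpr fun g => ⟨key a ha g, fun h => ?_⟩
    have := key a⁻¹ (inv_mem ha) _ h
    simpa [mul_assoc] using this
  have hA1 : A ≠ ⊥ := fun h => by
    obtain ⟨a, ha, hne⟩ := hex w0 hw0 hw01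
    rw [h, Subgroup.mem_bot] at ha
    exact hne (by rw [ha, one_mul, mul_one])
  have hcop : (Nat.card A).Coprime (Nat.card W) := by
    obtain ⟨j, hj⟩ := hW.exists_card
    rw [hm, hj]
    exact Nat.Coprime.pow _ _ ((Nat.coprime_primes hp.out Nat.prime_two).mpr hp2)
  obtain ⟨H, hHA, hHc, hH⟩ := exists_hyp hA hA1 hAW hcop (L := Subgroup.centralizer (A : Set G)) inf_le_right
    (fun h => by
      obtain ⟨a, ha, hne⟩ := hex w0 hw0 hw01
      exact hne (Subgroup.mem_centralizer_iff.mp (h hw0) a ha))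
  set V := W ⊓ Subgroup.centralizer (H : Set G)
  obtain ⟨v, hvV, hvA⟩ := SetLike.not_le_iff_exists.mp hH
  have hv1 : v ≠ 1 := fun h => hvA (h ▸ one_mem _)
  have hH1 : H ≠ ⊥ := fun h => by
    rw [h, Subgroup.card_bot, one_mul, hm] at hHc
    have h2 : p ^ 1 = p ^ m := by rw [pow_one]; exact hHc
    have := Nat.pow_right_injective hp.out.two_le h2
    omega
  have hcm : Cm H V := fun h hh g hg => Subgroup.mem_centralizer_iff.mp hg.2 h hh
  obtain ⟨K, hKV, hKc, B, -, hB, hBc, hBK⟩ := trade hp2 hG (hA.mono hHA) hH1 (hW.mono inf_le_left)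
    (fun h => hv1 (Subgroup.mem_bot.mp (h ▸ hvV))) hcm
  have hK1 : K ≠ ⊥ := by
    intro hK
    rw [hK, Subgroup.card_bot, one_mul] at hKc
    have hvz : Subgroup.zpowers v = V := Subgroup.eq_of_le_of_card_ge (Subgroup.zpowers_le.mpr hvV)
      (by rw [card_z hvV.1.2.2 hv1, hKc])
    obtain ⟨a, ha, hne⟩ := hex v hvV.1 hv1
    have hmem : a * v * a⁻¹ ∈ V := by
      refine ⟨(Subgroup.mem_normalizer_iff.mp (hAW ha) v).mp hvV.1, Subgroup.mem_centralizer_iff.mpr fun h hh => ?_⟩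
      have h1 : Commute h a := hA.comm h (hHA hh) a ha
      have h2 : Commute h v := Subgroup.mem_centralizer_iff.mp hvV.2 h hh
      exact ((h1.mul_right h2).mul_right h1.inv_right).eq
    rcases mem_z hvV.1.2.2 (hvz.symm ▸ hmem : a * v * a⁻¹ ∈ Subgroup.zpowers v) with h | h
    · exact hv1 (conj_eq_one_iff.mp h)
    · exact hne (mul_inv_eq_iff_eq_mul.mp h)
  obtain ⟨z, hz, hz1⟩ := K.bot_or_exists_ne_one.resolve_left hK1
  refine ⟨z, (hKV hz).1.2.2, hz1, B, hB, ?_, fun b hb => hBK b hb z hz⟩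
  rw [hBc, mul_comm, hHc, hm]

/-- Let p be an odd prime and G a finite group that is both of local characteristic p (p divides its order and every p-local subgroup N satisfies C_N(O_p(N)) ≤ O_p(N)) and of characteristic 2 type (even order and every 2-local subgroup M satisfies C_M(O_2(M)) ≤ O_2(M)). Then every 2-local subgroup of G has p-rank at most 2. -/
theorem result {G : Type*} [Group G] [Finite G] (p : ℕ) [Fact p.Prime] (hp : p ≠ 2) (hGp : Cfsg.IsOfLocalCharacteristic p G) (hG2 : Cfsg.IsCharacteristicTwoType G) : Cfsg.TwoLocalPRankLE p 2 G := by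
  classical
  rintro H ⟨T, hT, hT1, rfl⟩ A hAc hAp
  by_contra hlt
  set A' := A.map (Subgroup.normalizer (T : Set G)).subtype
  have hA : EA p A' := by
    refine ⟨?_, ?_⟩
    · rintro _ ⟨a, ha, rfl⟩ _ ⟨b, hb, rfl⟩
      rw [← map_mul, ← map_mul]
      exact congrArg _ (congrArg Subtype.val (hAc.is_comm.comm ⟨a, ha⟩ ⟨b, hb⟩))
    · rintro _ ⟨a, ha, rfl⟩
      rw [← map_pow, hAp a ha, map_one]
  obtain ⟨m, hm⟩ := hA.exists_card
  have hm3 : 3 ≤ m := by
    by_contra hm3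
    apply hlt
    have hcard : Nat.card A' = Nat.card A := Subgroup.card_map_of_injective (Subgroup.subtype_injective _)
    rw [← hcard]
    exact hm.le.trans (Nat.pow_le_pow_right (Fact.out : p.Prime).pos (by omega))
  obtain ⟨z0, hz0, hz01, B0, hB0, hB0c, hB0z⟩ := exists_centralized hp hGp hT hT1 hA hm (by omega)
    (Subgroup.map_subtype_le _)
  let P : ℕ → Prop := fun k => ∃ z : G, z ^ 2 = 1 ∧ z ≠ 1 ∧ ∃ B : Subgroup G, EA p B ∧ Nat.card B = p ^ k ∧
    ∀ b ∈ B, b * z = z * b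
  have hle : ∀ {k : ℕ}, P k → k ≤ Nat.card G := fun {k} ⟨_, _, _, B, _, hc, _⟩ =>
    (Nat.lt_pow_self (Fact.out : p.Prime).one_lt).le.trans (hc ▸ B.card_le_card_group)
  have hPm : P m := ⟨z0, hz0, hz01, B0, hB0, hB0c, hB0z⟩
  set n := Nat.findGreatest P (Nat.card G)
  have hmn : m ≤ n := Nat.le_findGreatest (hle hPm) hPm
  obtain ⟨z, hz, hz1, E, hE, hEc, hEz⟩ := Nat.findGreatest_spec (hle hPm) hPm
  refine false_of_ctx (p := p) (n := n) (z := z) (E := E)
    { ne_two := hp, loc := hGp, two := hG2, bound := ?_, three := le_trans hm3 hmn, ea := hE, card := hEc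
      sq := hz, ne_one := hz1, cm := hEz }
  intro w hw hw1 B hB hBw
  obtain ⟨k, hk⟩ := hB.exists_card
  rw [hk]
  have hPk : P k := ⟨w, hw, hw1, B, hB, hk, hBw⟩
  exact Nat.pow_le_pow_right (Fact.out : p.Prime).pos (Nat.le_findGreatest (hle hPk) hPk)

end Cfsg.Agent.S2029
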