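import Cfsg.Statements.S2041
import Cfsg.Agent.Lib.J3.Cover
import Cfsg.Agent.Lib.J3.Multiplier

set_option autoImplicit false
open Cfsg

namespace Cfsg.Agent.S2041

theorem ker_pi {Γ : Type*} [Group Γ] (K : Subgroup Γ) (h : Nat.card K = 1 ∨ Nat.card K = 3) :
    ∃ π : Multiplicative (ZMod 3) →* K, Function.Surjective π := by
  rcases h with h | h
  · have := (Nat.card_eq_one_iff_unique.mp h).1
    exact ⟨1, fun k => ⟨1, Subsingleton.elim _ _⟩⟩
  · have : Fact (Nat.Prime 3) := ⟨Nat.prime_three⟩
    have hcyc : IsCyclic K := isCyclic_of_prime_card h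
    have e := zmodCyclicMulEquiv hcyc
    rw [h] at e
    exact ⟨e.toMonoidHom, e.surjective⟩

theorem ker_card {Γ : Type*} [Group Γ] [Finite Γ] {G : Type*} [Group G]
    (f : CfsgLib.CosetEnum.presJ3.Grp ≃* G) (σ : Γ →* G) (hσ : IsStemExtension σ) :
    Nat.card σ.ker = 1 ∨ Nat.card σ.ker = 3 := by
  obtain ⟨n, ⟨e0⟩⟩ := Finite.exists_equiv_fin Γ
  have : Small.{0} Γ := Small.mk' e0
  let e : Shrink.{0} Γ ≃* Γ := Shrink.mulEquiv
  let φ : Shrink.{0} Γ →* CfsgLib.CosetEnum.presJ3.Grp := f.symm.toMonoidHom.comp (σ.comp e.toMonoidHom)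
  have hker : ∀ x, x ∈ φ.ker ↔ e x ∈ σ.ker := fun x => by
    simp only [φ, MonoidHom.mem_ker, MonoidHom.comp_apply, MulEquiv.coe_toMonoidHom, map_eq_one_iff _ f.symm.injective]
  have hs : Function.Surjective φ := f.symm.surjective.comp (hσ.1.comp e.surjective)
  have hc : φ.ker ≤ Subgroup.center _ := fun x hx => Subgroup.mem_center_iff.mpr fun y => e.injective (by
    rw [map_mul, map_mul]; exact Subgroup.mem_center_iff.mp (hσ.2.1 ((hker x).mp hx)) (e y))
  have hk : φ.ker ≤ commutator _ := fun x hx => by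
    have hmap : (commutator (Shrink.{0} Γ)).map e.toMonoidHom = commutator Γ := by
      rw [commutator_def, commutator_def, Subgroup.map_commutator, Subgroup.map_top_of_surjective _ e.surjective]
    obtain ⟨y, hy, hyx⟩ := (hmap.symm ▸ hσ.2.2 ((hker x).mp hx) : e x ∈ (commutator _).map e.toMonoidHom)
    rwa [← e.injective hyx]
  have hcard : Nat.card φ.ker = Nat.card σ.ker :=
    Nat.card_congr (e.toEquiv.subtypeEquiv hker)
  rw [← hcard]
  exact CfsgLib.J3.Mult.card_ker φ hc hs hk

/-- For any field with 4 elements and any element ω of it with ω² + ω + 1 = 0: the Schur multiplier of the Janko group J₃ (the group generated by explicit 9 × 9 matrices over that field built from ω, taken modulo its centre) is cyclic of order 3; here the Schur multiplier is described through stem extensions, as in the definitions: surjective homomorphisms onto the group from a finite group, whose kernel is central in that finite group and contained in that finite group's commutator subgroup. -/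
theorem result {F : Type*} [Field F] [Fintype F] (hF : Fintype.card F = 4) (ω : F) (hω : ω ^ 2 + ω + 1 = 0) : Cfsg.HasCyclicSchurMultiplier (Cfsg.Spor.J3 F ω) 3 := by
  obtain ⟨h3, hT, -, -⟩ := CfsgLib.J3.facts hF ω hω
  obtain ⟨f⟩ := CfsgLib.J3.exists_equiv_J3 hF ω hω
  refine ⟨⟨_, inferInstance, Nat.finite_of_card_ne_zero (by rw [hT]; norm_num), QuotientGroup.mk' _,
    ⟨QuotientGroup.mk'_surjective _, ?_, ?_⟩, ?_⟩, fun Γ _ _ σ hσ => ker_pi _ (ker_card (CfsgLib.J3.iso.trans f) σ hσ)⟩
  · rw [QuotientGroup.ker_mk']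
  · rw [QuotientGroup.ker_mk']
    exact CfsgLib.J3.center_le_commutator' hF ω hω
  · rw [QuotientGroup.ker_mk']
    have : Fact (Nat.Prime 3) := ⟨Nat.prime_three⟩
    have e := zmodCyclicMulEquiv (isCyclic_of_prime_card h3)
    rw [h3] at e
    exact ⟨e.symm⟩

end Cfsg.Agent.S2041
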