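import Cfsg.Statements.S2048
import Cfsg.Agent.Lib.SuzMult.Upper
import Cfsg.Agent.Lib.SuzMult.Cover

set_option autoImplicit false
open Cfsg CfsgLib.CosetEnum

namespace Cfsg.Agent.S2048

theorem ker_pi {Γ : Type*} [Group Γ] (K : Subgroup Γ) (hc : K ≤ Subgroup.center Γ)
    (h : Nat.card K = 1 ∨ Nat.card K = 2 ∨ Nat.card K = 3 ∨ Nat.card K = 6) :
    ∃ π : Multiplicative (ZMod 6) →* K, Function.Surjective π := by
  have hcyc : IsCyclic K := by
    rcases h with h | h | h | h
    · have := (Nat.card_eq_one_iff_unique.mp h).1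
      exact isCyclic_of_subsingleton
    · have : Fact (Nat.Prime 2) := ⟨Nat.prime_two⟩
      exact isCyclic_of_prime_card h
    · have : Fact (Nat.Prime 3) := ⟨Nat.prime_three⟩
      exact isCyclic_of_prime_card h
    · have : Finite K := Nat.finite_of_card_ne_zero (by omega)
      have : Fact (Nat.Prime 2) := ⟨Nat.prime_two⟩
      have : Fact (Nat.Prime 3) := ⟨Nat.prime_three⟩
      obtain ⟨a, ha⟩ := exists_prime_orderOf_dvd_card' (G := K) 2 (by rw [h]; norm_num)
      obtain ⟨b, hb⟩ := exists_prime_orderOf_dvd_card' (G := K) 3 (by rw [h]; norm_num)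
      have hab : Commute a b := Subtype.ext (Subgroup.mem_center_iff.mp (hc b.2) a)
      exact isCyclic_of_orderOf_eq_card (a * b)
        (by rw [hab.orderOf_mul_eq_mul_orderOf_of_coprime (by rw [ha, hb]; norm_num), ha, hb, h])
  have hd : Nat.card K ∣ 6 := by rcases h with h | h | h | h <;> rw [h] <;> norm_num
  refine ⟨(zmodCyclicMulEquiv hcyc).toMonoidHom.comp
    (ZMod.castHom hd (ZMod (Nat.card K))).toAddMonoidHom.toMultiplicative,
    (zmodCyclicMulEquiv hcyc).surjective.comp ?_⟩
  exact ZMod.castHom_surjective hd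

/-- The Schur multiplier of the Suzuki sporadic group (the finitely presented group of the definitions) is cyclic of order 6; here the Schur multiplier is described through stem extensions, as in the definitions: surjective homomorphisms onto the group from a finite group, whose kernel is central in that finite group and contained in that finite group's commutator subgroup. -/
theorem result : Cfsg.HasCyclicSchurMultiplier Cfsg.Spor.Suz 6 := by
  show Cfsg.HasCyclicSchurMultiplier presSuz.Grp 6
  have : Finite presSuz.Grp := Nat.finite_of_card_ne_zero (by rw [CfsgLib.SuzMult.cardSuz]; norm_num)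
  obtain ⟨h6, hcyc⟩ := CfsgLib.SuzMult.Cover.ker_card
  refine ⟨⟨CfsgLib.SuzMult.Cover.Cov, inferInstance, inferInstance, CfsgLib.SuzMult.Cover.proj,
    CfsgLib.SuzMult.Cover.stem, ?_⟩, fun Γ _ _ σ hσ => ker_pi _ hσ.2.1 (CfsgLib.SuzMult.card_ker σ hσ.1 hσ.2.1 hσ.2.2)⟩
  have e := zmodCyclicMulEquiv hcyc
  rw [h6] at e
  exact ⟨e.symm⟩

end Cfsg.Agent.S2048
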