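import Cfsg.Statements.S2064
import Mathlib
import Cfsg.Agent.Lib.Golay.Out24

set_option autoImplicit false
open Cfsg

namespace Cfsg.Agent.S2064



/-- The outer automorphism group of the Mathieu group M₂₄ (the automorphism group of the length-24 binary code) is trivial: every automorphism is inner. -/
theorem result : Nat.card (Cfsg.Out ↥Cfsg.M24) = 1 := by
  have h : Inn ↥M24 = ⊤ := by
    rw [Subgroup.eq_top_iff']
    intro θ
    exact CfsgGolay.Out24.aut_inner θ
  show (Inn ↥M24).index = 1
  rw [h, Subgroup.index_top]

end Cfsg.Agent.S2064
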