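import Cfsg.Statements.S2067
import Cfsg.Agent.Lib.J3.Outer

set_option autoImplicit false
open Cfsg

namespace Cfsg.Agent.S2067

/-- For any field with 4 elements and any element ω of it with ω² + ω + 1 = 0, the outer automorphism group of the Janko group J₃ (the group generated by explicit 9 × 9 matrices over that field built from ω, taken modulo its centre) has order 2. -/
theorem result {F : Type*} [Field F] [Fintype F] (hF : Fintype.card F = 4) (ω : F) (hω : ω ^ 2 + ω + 1 = 0) : Nat.card (Cfsg.Out (Cfsg.Spor.J3 F ω)) = 2 := by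
  obtain ⟨f⟩ := CfsgLib.J3.exists_equiv_J3 hF ω hω
  let e : Cfsg.Out (Cfsg.Spor.J3 CfsgLib.G24.K CfsgLib.G24.K.w) ≃* Cfsg.Out (Cfsg.Spor.J3 F ω) :=
    QuotientGroup.congr _ _ (MulAut.congr f) (by
      ext b
      constructor
      · rintro ⟨_, ⟨g, rfl⟩, rfl⟩
        exact ⟨f g, MulEquiv.ext fun x => by simp [MulAut.congr]⟩
      · rintro ⟨g, rfl⟩
        exact ⟨MulAut.conj (f.symm g), ⟨_, rfl⟩, MulEquiv.ext fun x => by simp [MulAut.congr]⟩)
  exact (Nat.card_congr e.toEquiv).symm.trans CfsgLib.J3.card_out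

end Cfsg.Agent.S2067
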