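import Cfsg.Statements.S2069
import Cfsg.Agent.Lib.Leech.OutCo1
-- import your own Cfsg.Agent.* helpers here

set_option autoImplicit false
open Cfsg

namespace Cfsg.Agent.S2069

/-- The outer automorphism group of the Conway group Co₁ (the automorphism group of the rank-24 lattice modulo its centre) is trivial: every automorphism is inner. -/
theorem result : Nat.card (Cfsg.Out Cfsg.Spor.Co1) = 1 := by
  have h : Inn Cfsg.Spor.Co1 = ⊤ := (Subgroup.eq_top_iff' _).mpr CfsgLeech.Out1.aut_inner
  show (Inn Cfsg.Spor.Co1).index = 1
  rw [h, Subgroup.index_top]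

end Cfsg.Agent.S2069
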