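import Cfsg.Statements.S2080
import Cfsg.Agent.Lib.CosetEnum.Fi23Aut.Main

set_option autoImplicit false
open Cfsg

namespace Cfsg.Agent.S2080

/-- The outer automorphism group of the Fischer group Fi₂₃ (the finitely presented group of the definitions) is trivial: every automorphism is inner. -/
theorem result : Nat.card (Cfsg.Out Cfsg.Spor.Fi23) = 1 := by
  have h : Cfsg.Inn Cfsg.Spor.Fi23 = ⊤ := by
    rw [Subgroup.eq_top_iff']
    intro α
    obtain ⟨g, hg⟩ := CfsgLib.CosetEnum.Fi23Aut.aut_inner α
    exact ⟨g, MulEquiv.ext fun y => (hg y).symm⟩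
  show (Cfsg.Inn Cfsg.Spor.Fi23).index = 1
  rw [h, Subgroup.index_top]

end Cfsg.Agent.S2080
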