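import Cfsg.Statements.S2087
import Cfsg.Agent.Lib.SmallSimple.MultiplierTransport
import Cfsg.Agent.Lib.SmallSimple.Order168
import Cfsg.Agent.Lib.SLCard
import Cfsg.Agent.S2086

set_option autoImplicit false
open Cfsg

namespace Cfsg.Agent.S2087

/-- Exceptional Schur multiplier: over the field with 2 elements, PSL₃ has Schur multiplier cyclic of order 2 (here the Schur multiplier is described through stem extensions, as in the definitions). -/
theorem result {F : Type*} [Field F] [Fintype F] (hF : Fintype.card F = 2) : Cfsg.HasCyclicSchurMultiplier (Matrix.ProjectiveSpecialLinearGroup (Fin 3) F) 2 := by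
  classical
  haveI : Fact (Nat.Prime 7) := ⟨by norm_num⟩
  let K := ULift.{u_1} (ZMod 7)
  have hK : Fintype.card K = 7 := by rw [Fintype.card_ulift, ZMod.card]
  haveI : IsSimpleGroup (Matrix.ProjectiveSpecialLinearGroup (Fin 2) K) :=
    Matrix.ProjectiveSpecialLinearGroup.rank_two_simple (by rw [Nat.card_eq_fintype_card, hK]; norm_num)
  haveI : IsSimpleGroup (Matrix.ProjectiveSpecialLinearGroup (Fin 3) F) :=
    CfsgLib.SLPerfect.isSimpleGroup (F := F) (n := 3) le_rfl
  have h7 : Nat.card (Matrix.ProjectiveSpecialLinearGroup (Fin 2) K) = 168 := by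
    have h := CfsgLib.SLCard.gcd_mul_card_PSL (F := K) (n := 2) (by norm_num)
    rw [CfsgLib.SLCard.card_SL_two, hK] at h
    have h' : 2 * Nat.card (Matrix.ProjectiveSpecialLinearGroup (Fin 2) K) = 336 := h
    omega
  have h2 : Nat.card (Matrix.ProjectiveSpecialLinearGroup (Fin 3) F) = 168 := by
    have h := CfsgLib.SLCard.gcd_mul_card_PSL (F := F) (n := 3) (by norm_num)
    have h3 := CfsgLib.SLCard.card_units_mul_card_SL (F := F) (n := 3) (by norm_num)
    rw [Matrix.card_GL_field, Fin.prod_univ_three, hF] at h3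
    rw [hF, show Nat.gcd 3 (2 - 1) = 1 from rfl, one_mul] at h
    have hu : Nat.card Fˣ = 1 := by rw [Nat.card_units, Nat.card_eq_fintype_card, hF]
    rw [show (2 : ℕ) - 1 = 1 from rfl, one_mul] at h3
    rw [h, h3]
    norm_num
  obtain ⟨e⟩ := CfsgLib.Order168.nonempty_mulEquiv h7 (H := Matrix.ProjectiveSpecialLinearGroup (Fin 3) F) h2
  refine CfsgLib.MultiplierTransport.of_mulEquiv e ?_
  exact Cfsg.Agent.S2086.result (F := K) hK 2 le_rfl (fun _ => by norm_num) (by norm_num)

end Cfsg.Agent.S2087
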