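import Cfsg.Statements.S2141
import Cfsg.Agent.Lib.SpMin.Main

set_option autoImplicit false
open Cfsg

namespace Cfsg.Agent.S2141

/-- Minimal index of a proper subgroup of the symplectic groups over fields with at least 3 elements: for m ≥ 2 and a field F with q ≥ 3 elements, (m, q) ≠ (2, 3), every proper subgroup of PSp_2m(F) has index at least (q^(2m) − 1)/(q − 1), and that index is attained. -/
theorem result {F : Type*} [Field F] [Fintype F] {q : ℕ} (hF : Fintype.card F = q) (m : ℕ) (hm : 2 ≤ m) (hq : 3 ≤ q) (hexc : ¬ (m = 2 ∧ q = 3)) : (∀ H : Subgroup (Cfsg.PSp m F), H ≠ ⊤ → (q ^ (2 * m) - 1) / (q - 1) ≤ H.index) ∧ (∃ H : Subgroup (Cfsg.PSp m F), H.index = (q ^ (2 * m) - 1) / (q - 1)) := by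
  classical
  subst hF
  rw [CfsgLib.SpMin.npts_eq (by omega)]
  refine ⟨fun H hH => ?_, ?_⟩
  · rw [← Subgroup.index_comap_of_surjective H (QuotientGroup.mk'_surjective _)]
    refine CfsgLib.SpMin.index_bound hq hm hexc _ fun h => hH ?_
    rw [← Subgroup.map_comap_eq_self_of_surjective (QuotientGroup.mk'_surjective _) H, h]
    exact Subgroup.map_top_of_surjective _ (QuotientGroup.mk'_surjective _)
  · haveI : MulAction.IsPretransitive (Cfsg.PSp m F) (Projectivization F (Fin m ⊕ Fin m → F)) := by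
      refine ⟨fun a b => ?_⟩
      obtain ⟨g, hg⟩ := CfsgLib.SympTransvection.transitive a.rep_nonzero b.rep_nonzero
      refine ⟨(g : Cfsg.PSp m F), ?_⟩
      rw [CfsgLib.SympSimple.psp_smul_mk, CfsgLib.SympSimple.smul_def, ← a.mk_rep,
        CfsgLib.SympSimple.smul_mk' g a.rep_nonzero (CfsgLib.SympSimple.mulVec_ne_zero g a.rep_nonzero),
        ← b.mk_rep, Projectivization.mk_eq_mk_iff']
      exact ⟨1, by rw [one_smul]; exact hg.symm⟩
    haveI : Nonempty (Fin m) := ⟨⟨0, by omega⟩⟩
    obtain ⟨p⟩ : Nonempty (Projectivization F (Fin m ⊕ Fin m → F)) := inferInstance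
    refine ⟨MulAction.stabilizer (Cfsg.PSp m F) p, ?_⟩
    rw [MulAction.index_stabilizer_of_transitive,
      Projectivization.card_of_finrank F (Fin m ⊕ Fin m → F) (n := 2 * m) (by simp [two_mul]),
      Nat.card_eq_fintype_card, Nat.geomSum_eq (by omega), CfsgLib.SpMin.npts_eq (by omega)]

end Cfsg.Agent.S2141
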