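import Cfsg.Statements.S2142
import Cfsg.Agent.Lib.SpMin.Two

set_option autoImplicit false
open Cfsg

namespace Cfsg.Agent.S2142

open Matrix CfsgLib.SpMin CfsgLib.SympGen

theorem exists_minus {F : Type*} [Field F] [Fintype F] (hF : Fintype.card F = 2) {m : ℕ} (hm : 2 ≤ m) :
    ∃ φ : (Fin m ⊕ Fin m → F) → F, (∀ x y, φ (x + y) = φ x + φ y + B x y) ∧
      ({x | φ x = 0} : Set (Fin m ⊕ Fin m → F)).ncard = bd m := by
  classical
  obtain ⟨hb, hb2⟩ := bd_le_npts hm
  have hbd := bd_pos hm
  let φ : (Fin m ⊕ Fin m → F) → F := fun x => ∑ i, x (Sum.inl i) * x (Sum.inr i)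
  have hφ : ∀ x y, φ (x + y) = φ x + φ y + B x y := fun x y => by
    simp only [φ]
    rw [B_sum, ← Finset.sum_add_distrib, ← Finset.sum_add_distrib]
    refine Finset.sum_congr rfl fun i _ => ?_
    simp only [Pi.add_apply]
    linear_combination (x (Sum.inl i) * y (Sum.inr i)) * two_eq_zero hF
  rcases zeros_eq hF φ hφ with h | h
  · exact ⟨φ, hφ, by omega⟩
  obtain ⟨a, ha⟩ : ∃ a, φ a = 1 := by
    by_contra hc
    push Not at hc
    have hu : ({x | φ x = 0} : Set (Fin m ⊕ Fin m → F)) = Set.univ :=
      Set.eq_univ_of_forall fun x => (zero_or_one hF _).resolve_right (hc x)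
    rw [hu, Set.ncard_univ, Nat.card_eq_fintype_card, card_vec hF] at h
    omega
  refine ⟨fun x => φ x + B x a, fun x y => ?_, ?_⟩
  · show φ (x + y) + B (x + y) a = _
    rw [hφ, B_add_left]; ring
  · have he : ({x | φ x + B x a = 0} : Set (Fin m ⊕ Fin m → F)) = (fun x => x + a) '' {x | φ x = 0}ᶜ := by
      ext x
      constructor
      · intro (hx : φ x + B x a = 0)
        refine ⟨x + a, ?_, ?_⟩
        · show φ (x + a) ≠ 0
          rw [hφ, ha, add_right_comm, hx, zero_add]
          exact one_ne_zero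
        · show x + a + a = x
          rw [add_assoc, ← two_smul F a, two_eq_zero hF, zero_smul, add_zero]
      · rintro ⟨y, hy, rfl⟩
        show φ (y + a) + B (y + a) a = 0
        rw [hφ, B_add_left, B_self, ha, (zero_or_one hF (φ y)).resolve_left hy]
        linear_combination (1 + B y a) * two_eq_zero hF
    rw [he, Set.ncard_image_of_injective _ (add_left_injective a), Set.ncard_compl ({x | φ x = 0} : Set (Fin m ⊕ Fin m → F)),
      Nat.card_eq_fintype_card, card_vec hF]
    omega

/-- Minimal index of a proper subgroup of the symplectic groups over the field with 2 elements: for m ≥ 3, every proper subgroup of Sp_2m(2) has index at least 2^(m−1)(2^m − 1), and that index is attained. -/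
theorem result {F : Type*} [Field F] [Fintype F] (hF : Fintype.card F = 2) (m : ℕ) (hm : 3 ≤ m) : (∀ H : Subgroup (Cfsg.PSp m F), H ≠ ⊤ → 2 ^ (m - 1) * (2 ^ m - 1) ≤ H.index) ∧ (∃ H : Subgroup (Cfsg.PSp m F), H.index = 2 ^ (m - 1) * (2 ^ m - 1)) := by
  classical
  refine ⟨fun H hH => ?_, ?_⟩
  · rw [← Subgroup.index_comap_of_surjective H (QuotientGroup.mk'_surjective _)]
    obtain ⟨k, rfl⟩ : ∃ k, m = k + 1 := ⟨m - 1, by omega⟩
    refine two_bound hF (by omega) (H := H.comap _) fun h => hH ?_
    rw [← Subgroup.map_comap_eq_self_of_surjective (QuotientGroup.mk'_surjective _) H, h]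
    exact Subgroup.map_top_of_surjective _ (QuotientGroup.mk'_surjective _)
  obtain ⟨φ, hφ, hz⟩ := exists_minus hF (m := m) (by omega)
  let K : Subgroup (Matrix.symplecticGroup (Fin m) F) :=
    { carrier := {g | ∀ x, φ (g.1 *ᵥ x) = φ x}
      mul_mem' := fun {g h} hg hh x => by rw [CfsgLib.SympGen.mul_apply, hg, hh]
      one_mem' := fun x => by rw [CfsgLib.SympGen.one_apply]
      inv_mem' := fun {g} hg x => by
        rw [← hg ((g⁻¹).1 *ᵥ x), ← CfsgLib.SympGen.mul_apply, mul_inv_cancel, CfsgLib.SympGen.one_apply] }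
  have hge : ({x | φ x = 0} : Set (Fin m ⊕ Fin m → F)).ncard ≤ K.index := quad_stab hF φ hφ K fun g hg => hg
  have hle : K.index ≤ ({x | φ x = 0} : Set (Fin m ⊕ Fin m → F)).ncard := by
    have hex : ∀ g : Matrix.symplecticGroup (Fin m) F, ∃ a, φ a = 0 ∧ ∀ x, φ ((g⁻¹).1 *ᵥ x) = φ x + B x a := by
      intro g
      let L : (Fin m ⊕ Fin m → F) → F := fun x => φ ((g⁻¹).1 *ᵥ x) + φ x
      have hadd : ∀ x y, L (x + y) = L x + L y := fun x y => by
        simp only [L, Matrix.mulVec_add, hφ, B_map]
        linear_combination (B x y) * two_eq_zero hF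
      have hsm : ∀ (c : F) x, L (c • x) = c * L x := fun c x => by
        rcases zero_or_one hF c with rfl | rfl
        · have := hadd 0 0
          rw [add_zero] at this
          rw [zero_smul, zero_mul]
          exact left_eq_add.1 this
        · rw [one_smul, one_mul]
      let Ll : (Fin m ⊕ Fin m → F) →ₗ[F] F := { toFun := L, map_add' := hadd, map_smul' := hsm }
      let a : Fin m ⊕ Fin m → F :=
        Sum.elim (fun i => L (Pi.single (Sum.inr i) 1)) fun i => L (Pi.single (Sum.inl i) 1)
      have hL : ∀ x, L x = B x a := by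
        intro x
        have e : L x = ∑ j, x j * L (Pi.single j 1) := by
          show Ll x = _
          rw [Ll.pi_apply_eq_sum_univ x]
          refine Finset.sum_congr rfl fun j _ => ?_
          rw [smul_eq_mul]
          congr 1
          show Ll _ = Ll _
          congr 1
          funext i
          simp [Pi.single_apply, eq_comm]
        rw [e, B_sum, Fintype.sum_sum_type, ← Finset.sum_add_distrib]
        refine Finset.sum_congr rfl fun i _ => ?_
        simp only [a, Sum.elim_inl, Sum.elim_inr]
        linear_combination (x (Sum.inl i) * L (Pi.single (Sum.inl i) 1)) * two_eq_zero hF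
      have hf : ∀ x, φ ((g⁻¹).1 *ᵥ x) = φ x + B x a := fun x => by
        rw [← hL]; linear_combination -(φ x) * two_eq_zero hF
      refine ⟨a, (zero_or_one hF _).resolve_right fun ha => ?_, hf⟩
      have hset : ({x | φ x = 0} : Set (Fin m ⊕ Fin m → F))ᶜ =
          (fun x => g.1 *ᵥ x + a) '' {x | φ x = 0} := by
        ext x
        constructor
        · intro (hx : φ x ≠ 0)
          refine ⟨(g⁻¹).1 *ᵥ (x + a), ?_, ?_⟩
          · show φ _ = 0
            rw [hf, hφ, B_add_left, B_self, ha, (zero_or_one hF (φ x)).resolve_left hx]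
            linear_combination (1 + B x a) * two_eq_zero hF
          · show g.1 *ᵥ ((g⁻¹).1 *ᵥ (x + a)) + a = x
            rw [← CfsgLib.SympGen.mul_apply, mul_inv_cancel, CfsgLib.SympGen.one_apply, add_assoc, ← two_smul F a,
              two_eq_zero hF, zero_smul, add_zero]
        · rintro ⟨y, hy, rfl⟩
          show φ (g.1 *ᵥ y + a) ≠ 0
          have := hf (g.1 *ᵥ y)
          rw [← CfsgLib.SympGen.mul_apply, inv_mul_cancel, CfsgLib.SympGen.one_apply, show φ y = 0 from hy] at this
          rw [hφ, ha, show φ (g.1 *ᵥ y) + 1 + B (g.1 *ᵥ y) a = 1 by linear_combination -this]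
          exact one_ne_zero
      have hcard := congrArg Set.ncard hset
      rw [Set.ncard_image_of_injective _ (show Function.Injective (fun x => g.1 *ᵥ x + a) from fun x y h => mulVec_inj g (add_left_injective a h)),
        Set.ncard_compl ({x | φ x = 0} : Set (Fin m ⊕ Fin m → F)), Nat.card_eq_fintype_card, card_vec hF, hz] at hcard
      obtain ⟨-, hb2⟩ := bd_le_npts (m := m) (by omega)
      have h2m : 0 < 2 ^ m := Nat.two_pow_pos m
      omega
    rw [← Nat.card_coe_set_eq]
    let f : (Matrix.symplecticGroup (Fin m) F) ⧸ K → ({x | φ x = 0} : Set (Fin m ⊕ Fin m → F)) :=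
      fun c => ⟨(hex c.out).choose, (hex c.out).choose_spec.1⟩
    refine Nat.card_le_card_of_injective f fun c c' hcc => ?_
    have h1 := (hex c.out).choose_spec.2
    have h2 := (hex c'.out).choose_spec.2
    rw [show (hex c.out).choose = (hex c'.out).choose from congrArg Subtype.val hcc] at h1
    rw [← c.out_eq, ← c'.out_eq]
    refine QuotientGroup.eq.2 fun x => ?_
    rw [CfsgLib.SympGen.mul_apply, h1, ← h2, ← CfsgLib.SympGen.mul_apply, inv_mul_cancel, CfsgLib.SympGen.one_apply]
  refine ⟨K.map (QuotientGroup.mk' _), ?_⟩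
  rw [Subgroup.index_map_eq _ (QuotientGroup.mk'_surjective _)]
  · rw [le_antisymm hle hge, hz]; rfl
  rw [QuotientGroup.ker_mk']
  intro g hg x
  obtain ⟨r, hr⟩ := CfsgLib.SympTransvection.scalar_of_central g hg
  rcases zero_or_one hF r with rfl | rfl
  · exfalso
    obtain ⟨i⟩ : Nonempty (Fin m) := ⟨⟨0, by omega⟩⟩
    refine CfsgLib.SympSimple.mulVec_ne_zero g (v := Pi.single (Sum.inl i) 1)
      (fun h => by simpa using congrFun h (Sum.inl i)) ?_
    rw [hr]; funext j; simp
  · rw [hr]; simp

end Cfsg.Agent.S2142
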