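import Cfsg.Statements.S2143
import Cfsg.Agent.Lib.OmegaMin.Main
import Cfsg.Agent.Lib.StdQuadForms
import Cfsg.Agent.Lib.SpMin.Basic
-- import your own Cfsg.Agent.* helpers here

set_option autoImplicit false
open Cfsg

namespace Cfsg.Agent.S2143

/-- Minimal index of a proper subgroup of the odd-dimensional orthogonal groups: for m ≥ 3 and a field F with q elements, q odd and q ≥ 5, every proper subgroup of PΩ_(2m+1)(F) (for the form x₀² + Σ xᵢyᵢ) has index at least (q^(2m) − 1)/(q − 1), and that index is attained. -/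
theorem result {F : Type*} [Field F] [Fintype F] {q : ℕ} (hF : Fintype.card F = q) (hodd : Odd q) (h5 : 5 ≤ q) (m : ℕ) (hm : 3 ≤ m) : (∀ H : Subgroup (Cfsg.POmega F (Cfsg.quadFormOdd m F)), H ≠ ⊤ → (q ^ (2 * m) - 1) / (q - 1) ≤ H.index) ∧ (∃ H : Subgroup (Cfsg.POmega F (Cfsg.quadFormOdd m F)), H.index = (q ^ (2 * m) - 1) / (q - 1)) := by
  classical
  subst hF
  have h2 : (2 : F) ≠ 0 := fun h => by
    have hc2 : ringChar F = 2 := CharP.ringChar_of_prime_eq_zero Nat.prime_two (by exact_mod_cast h)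
    exact absurd (FiniteField.even_card_of_char_two hc2) (by rw [Nat.odd_iff] at hodd; omega)
  set Q := CfsgLib.StdQuadForms.Qo (F := F) m
  have hQ : (QuadraticMap.polarBilin Q).Nondegenerate := CfsgLib.StdQuadForms.Qo_nondeg h2 m
  have hι : Fintype.card (Unit ⊕ (Fin m ⊕ Fin m)) = 2 * m + 1 := by simp; omega
  have hd : Module.finrank F (Unit ⊕ (Fin m ⊕ Fin m) → F) = 2 * m + 1 := by
    rw [Module.finrank_fintype_fun_eq_card, hι]
  set q := Fintype.card F with hq
  have hcnt : CfsgLib.OmegaMin.cnt Q (0 : F) = q ^ (2 * m) := by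
    rw [hq, ← CfsgLib.QuadCount.card_odd (F := F) m, CfsgLib.OmegaMin.cnt]
    exact Nat.card_congr (Equiv.subtypeEquivRight fun v => by rw [CfsgLib.StdQuadForms.Qo_apply])
  have hNeq : (q ^ (2 * m) - 1) / (q - 1) = CfsgLib.SpMin.npts q m := CfsgLib.SpMin.npts_eq (by omega) m
  have hN : Nat.card (CfsgLib.OmegaSimple.SPt Q) = CfsgLib.SpMin.npts q m := by
    refine CfsgLib.OmegaMin.spt_count hcnt ?_
    rw [mul_comm]; exact CfsgLib.SpMin.npts_spec (by omega) m
  rw [hNeq, ← hN]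
  refine CfsgLib.OmegaMin.transfer Q _ (fun v => (CfsgLib.StdQuadForms.Qo_apply m v).symm) hQ (show 7 ≤ Fintype.card (Unit ⊕ (Fin m ⊕ Fin m)) by rw [hι]; omega) _
    (fun H hH hne => CfsgLib.OmegaMin.main_big hQ (by omega) (by omega) H hH hne le_rfl ?_ ?_)
    (CfsgLib.OmegaMin.exists_point_stab hQ (by omega))
  · rw [hd, hN, show 2 * m + 1 - 2 = 2 * m - 1 by omega]
    refine Nat.le_of_mul_le_mul_right ?_ (show 0 < q - 1 by omega)
    have h1 := CfsgLib.SpMin.npts_spec (q := q) (by omega) m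
    have h2 : q ^ (2 * m) = q ^ (2 * m - 1) * q := by rw [← pow_succ]; congr 1; omega
    rw [h2] at h1
    have h3 : 2 * q ^ (2 * m - 1) * (q - 1) + 2 * q ^ (2 * m - 1) = 2 * q ^ (2 * m - 1) * q := by
      rw [← Nat.mul_succ]; congr 1; omega
    show _ ≤ 2 * q ^ (2 * m - 1) * (q - 1)
    have h4 : 2 * q ^ (2 * m - 1) ≤ q ^ (2 * m - 1) * q := by
      rw [mul_comm 2]; exact Nat.mul_le_mul_left _ (by omega)
    have h5 : 2 * q ^ (2 * m - 1) * q = 2 * (q ^ (2 * m - 1) * q) := by ring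
    omega
  · intro v x v' x' h hf hs
    obtain ⟨A, -, -, -, hM, -⟩ := hs
    have := h.finrank_mid
    omega

end Cfsg.Agent.S2143
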