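import Cfsg.Statements.S2144
import Cfsg.Agent.Lib.OmegaMin.Small
import Cfsg.Agent.Lib.OmegaMin.Levels
import Cfsg.Agent.Lib.OmegaMin.SpecialBound
import Cfsg.Agent.Lib.OmegaMin.Formulas
-- import your own Cfsg.Agent.* helpers here

set_option autoImplicit false
open Cfsg

namespace Cfsg.Agent.S2144

/-- Minimal index of a proper subgroup of the odd-dimensional orthogonal groups over the field with 3 elements: for m ≥ 3, every proper subgroup of PΩ_(2m+1)(3) (for the form x₀² + Σ xᵢyᵢ) has index at least 3^m(3^m − 1)/2, and that index is attained. -/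
theorem result {F : Type*} [Field F] [Fintype F] (hF : Fintype.card F = 3) (m : ℕ) (hm : 3 ≤ m) : (∀ H : Subgroup (Cfsg.POmega F (Cfsg.quadFormOdd m F)), H ≠ ⊤ → 3 ^ m * (3 ^ m - 1) / 2 ≤ H.index) ∧ (∃ H : Subgroup (Cfsg.POmega F (Cfsg.quadFormOdd m F)), H.index = 3 ^ m * (3 ^ m - 1) / 2) := by
  classical
  set Q := CfsgLib.StdQuadForms.Qo (F := F) m
  have hc0 : ringChar F = 3 := by
    obtain ⟨n, hp, hn⟩ := FiniteField.card F (ringChar F)
    rw [hF] at hn
    exact (((Nat.prime_dvd_prime_iff_eq hp Nat.prime_three).1 (hn ▸ dvd_pow_self _ n.pos.ne')))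
  have h30 : (3 : F) = 0 := by
    have := ringChar.Nat.cast_ringChar (R := F)
    rw [hc0] at this
    exact_mod_cast this
  have h2 : (2 : F) ≠ 0 := fun h => one_ne_zero (α := F) (by linear_combination h30 - h)
  have hQ : (QuadraticMap.polarBilin Q).Nondegenerate := CfsgLib.StdQuadForms.Qo_nondeg h2 m
  have hι : Fintype.card (Unit ⊕ (Fin m ⊕ Fin m)) = 2 * m + 1 := by simp; omega
  have hd : Module.finrank F (Unit ⊕ (Fin m ⊕ Fin m) → F) = 2 * m + 1 := by
    rw [Module.finrank_fintype_fun_eq_card, hι]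
  set A := 3 ^ m with hA
  have hA1 : 1 ≤ A := Nat.one_le_pow _ _ (by norm_num)
  have hcnt : ∀ c : F, (CfsgLib.OmegaMin.cnt Q c : ℤ) =
      (A : ℤ) * Nat.card {d : Unit → F // d () ^ 2 = c} + ((A : ℤ) - 1) * A := fun c => by
    rw [CfsgLib.OmegaMin.cnt_odd, hF, hA]; push_cast; rfl
  have h2M : 2 * (A * (A - 1) / 2) = A * (A - 1) := by
    refine Nat.mul_div_cancel' ?_
    obtain ⟨k, hk⟩ : ∃ k, A = k + 1 := ⟨A - 1, by omega⟩
    rw [hk, Nat.add_sub_cancel, mul_comm]
    exact even_iff_two_dvd.1 (Nat.even_mul_succ_self k)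
  set M := A * (A - 1) / 2
  have hlow : ∀ c : F, A * (A - 1) ≤ CfsgLib.OmegaMin.cnt Q c := fun c => by
    zify [hA1]
    rw [hcnt c]
    nlinarith [Int.natCast_nonneg (Nat.card {d : Unit → F // d () ^ 2 = c}), Int.natCast_nonneg A]
  have hneg : CfsgLib.OmegaMin.cnt Q (-1 : F) = A * (A - 1) := by
    have hempty : IsEmpty {d : Unit → F // d () ^ 2 = -1} := ⟨fun d => by
      rcases CfsgLib.OmegaMin.small_elems (le_of_eq hF) (d.1 ()) with e | e | e <;> have := d.2 <;> rw [e] at this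
      · exact one_ne_zero (α := F) (by linear_combination this)
      · exact h2 (by linear_combination this)
      · exact h2 (by linear_combination this)⟩
    zify [hA1]
    rw [hcnt, Nat.card_of_isEmpty (α := {d : Unit → F // d () ^ 2 = -1})]
    push_cast; ring
  have hN : (CfsgLib.OmegaMin.Sing Q).ncard + 1 = CfsgLib.OmegaMin.cnt Q (0 : F) := CfsgLib.OmegaMin.sing_card
  rw [CfsgLib.OmegaMin.sing_card_spt, hF] at hN
  have hcnt0 : CfsgLib.OmegaMin.cnt Q (0 : F) = A * A := by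
    rw [hA, ← pow_add, ← hF, show m + m = 2 * m by omega, ← CfsgLib.QuadCount.card_odd (F := F) m,
      CfsgLib.OmegaMin.cnt]
    exact Nat.card_congr (Equiv.subtypeEquivRight fun v => by rw [CfsgLib.StdQuadForms.Qo_apply])
  have hAA : A * A = A * (A - 1) + A := by
    obtain ⟨k, hk⟩ : ∃ k, A = k + 1 := ⟨A - 1, by omega⟩
    rw [hk, Nat.add_sub_cancel]; ring
  have hM1 : M ≤ Nat.card (CfsgLib.OmegaSimple.SPt Q) := by omega
  have hM2 : M ≤ 2 * 3 ^ (2 * m - 1) := by
    have : A * A = 3 * 3 ^ (2 * m - 1) := by rw [hA, ← pow_add, ← pow_succ']; congr 1; omega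
    omega
  refine CfsgLib.OmegaMin.transfer Q _ (fun v => (CfsgLib.StdQuadForms.Qo_apply m v).symm) hQ
    (show 7 ≤ Fintype.card (Unit ⊕ (Fin m ⊕ Fin m)) by omega) _
    (fun H hH hne => CfsgLib.OmegaMin.main_small hQ (by omega) (le_of_eq hF) H hH hne hM1 ?_ ?_ ?_) ?_
  · rw [hd, hF, show 2 * m + 1 - 2 = 2 * m - 1 by omega]; exact hM2
  · intro c _
    rw [hF]
    have := hlow c
    omega
  · intro v x v' x' h _ hs
    obtain ⟨h8, -⟩ := CfsgLib.OmegaMin.special_count hQ h hs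
    omega
  · have hpos : 0 < A * (A - 1) := by
      have : 3 ≤ A := Nat.le_self_pow (by omega) 3
      exact Nat.mul_pos (by omega) (by omega)
    haveI : Nonempty {v : Unit ⊕ (Fin m ⊕ Fin m) → F // Q v = -1} := (Nat.card_pos_iff.1 (by
      rw [← hneg] at hpos; exact hpos)).1
    obtain ⟨⟨a, ha⟩⟩ := this
    have hQa : Q a ≠ 0 := by rw [ha]; exact neg_ne_zero.2 one_ne_zero
    refine ⟨a, fun e => hQa (by rw [e, QuadraticMap.map_zero]), ?_⟩
    have h1 := CfsgLib.OmegaMin.pst_nonsing hQ (by omega) (le_of_eq hF) hQa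
    rw [ha, hneg, hF] at h1
    omega

end Cfsg.Agent.S2144
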