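import Cfsg.Statements.S2145
import Cfsg.Agent.Lib.OmegaMin.SpecialBound
import Cfsg.Agent.Lib.OmegaMin.Formulas
import Cfsg.Agent.Lib.Lagrangian
-- import your own Cfsg.Agent.* helpers here

set_option autoImplicit false
open Cfsg

namespace Cfsg.Agent.S2145

/-- Minimal index of a proper subgroup of the even-dimensional orthogonal groups of plus type: for m ≥ 4 and a field F with q ≥ 4 elements, every proper subgroup of PΩ⁺_2m(F) (for the form Σ xᵢyᵢ) has index at least (q^m − 1)(q^(m−1) + 1)/(q − 1), and that index is attained (the singular points). -/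
theorem result {F : Type*} [Field F] [Fintype F] {q : ℕ} (hF : Fintype.card F = q) (hq : 4 ≤ q) (m : ℕ) (hm : 4 ≤ m) : (∀ H : Subgroup (Cfsg.POmega F (Cfsg.quadFormPlus m F)), H ≠ ⊤ → (q ^ m - 1) * (q ^ (m - 1) + 1) / (q - 1) ≤ H.index) ∧ (∃ H : Subgroup (Cfsg.POmega F (Cfsg.quadFormPlus m F)), H.index = (q ^ m - 1) * (q ^ (m - 1) + 1) / (q - 1)) := by
  classical
  subst hF
  set Q := CfsgLib.Lagrangian.Qp m F
  have hQ : (QuadraticMap.polarBilin Q).Nondegenerate := CfsgLib.Lagrangian.Qp_nondeg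
  have hι : Fintype.card (Fin m ⊕ Fin m) = 2 * m := by simp; omega
  have hd : Module.finrank F (Fin m ⊕ Fin m → F) = 2 * m := by rw [Module.finrank_fintype_fun_eq_card, hι]
  obtain ⟨hNZ, hNle⟩ := CfsgLib.OmegaMin.plus_points (q := Fintype.card F) (show 3 ≤ Fintype.card F by omega)
    (show 2 ≤ m by omega)
  set N := (Fintype.card F ^ m - 1) * (Fintype.card F ^ (m - 1) + 1) / (Fintype.card F - 1)
  have hN : Nat.card (CfsgLib.OmegaSimple.SPt Q) = N := by
    refine CfsgLib.OmegaMin.spt_count ?_ hNZ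
    rw [← CfsgLib.QuadCount.card_plus (F := F) m (by omega), CfsgLib.OmegaMin.cnt]
    exact Nat.card_congr (Equiv.subtypeEquivRight fun v => by rw [CfsgLib.Lagrangian.Qp_apply])
  rw [← hN] at hNle ⊢
  refine CfsgLib.OmegaMin.transfer Q _ (fun v => (CfsgLib.Lagrangian.Qp_apply v).symm) hQ
    (show 7 ≤ Fintype.card (Fin m ⊕ Fin m) by omega) _
    (fun H hH hne => CfsgLib.OmegaMin.main_big hQ (by omega) hq H hH hne le_rfl (by rw [hd]; exact hNle) ?_)
    (CfsgLib.OmegaMin.exists_point_stab hQ (by omega))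
  intro v x v' x' h hf hs
  obtain ⟨h8, -⟩ := CfsgLib.OmegaMin.special_count hQ h hs
  refine CfsgLib.OmegaMin.special_bound hQ (by omega) h hH hf hs le_rfl ?_ (fun hlt => absurd hlt (by omega))
  rw [show 2 * m - 2 = 6 by omega] at hNle
  exact hNle

end Cfsg.Agent.S2145
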