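import Cfsg.Statements.S2146
import Cfsg.Agent.Lib.OmegaMin.Small
import Cfsg.Agent.Lib.OmegaMin.SpecialBound
import Cfsg.Agent.Lib.OmegaMin.Levels
-- import your own Cfsg.Agent.* helpers here

set_option autoImplicit false
open Cfsg

namespace Cfsg.Agent.S2146

/-- Minimal index of a proper subgroup of the even-dimensional orthogonal groups of plus type over the field with 2 elements: for m ≥ 4, every proper subgroup of Ω⁺_2m(2) (for the form Σ xᵢyᵢ) has index at least 2^(m−1)(2^m − 1), and that index is attained. -/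
theorem result {F : Type*} [Field F] [Fintype F] (hF : Fintype.card F = 2) (m : ℕ) (hm : 4 ≤ m) : (∀ H : Subgroup (Cfsg.POmega F (Cfsg.quadFormPlus m F)), H ≠ ⊤ → 2 ^ (m - 1) * (2 ^ m - 1) ≤ H.index) ∧ (∃ H : Subgroup (Cfsg.POmega F (Cfsg.quadFormPlus m F)), H.index = 2 ^ (m - 1) * (2 ^ m - 1)) := by
  classical
  set Q := CfsgLib.Lagrangian.Qp m F
  have hQ : (QuadraticMap.polarBilin Q).Nondegenerate := CfsgLib.Lagrangian.Qp_nondeg
  have hι : Fintype.card (Fin m ⊕ Fin m) = 2 * m := by simp; omega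
  have hd : Module.finrank F (Fin m ⊕ Fin m → F) = 2 * m := by rw [Module.finrank_fintype_fun_eq_card, hι]
  set B := 2 ^ (m - 1) with hB
  have hB1 : 1 ≤ B := Nat.one_le_pow _ _ (by norm_num)
  have h2B : 2 ^ m = 2 * B := by rw [hB, ← pow_succ']; congr 1; omega
  have hcnt : ∀ c : F, c ≠ 0 → CfsgLib.OmegaMin.cnt Q c = B * (2 ^ m - 1) := fun c hc => by
    have e := CfsgLib.OmegaMin.cnt_plus_ne m hc
    rw [hF] at e
    have h1 : (1 : ℕ) ≤ 2 * B := by omega
    rw [h2B]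
    zify [h1]
    have h3 : ((2 : ℤ) ^ m) = 2 * (B : ℤ) := by exact_mod_cast h2B
    rw [e]
    push_cast
    rw [h3, show ((2 : ℤ) * B - 1) * (2 * B) = 2 * ((B : ℤ) * (2 * B - 1)) by ring,
      Int.mul_ediv_cancel_left _ (by norm_num)]
  set M := B * (2 ^ m - 1) with hM
  have hcnt0 : CfsgLib.OmegaMin.cnt Q (0 : F) = 2 ^ (2 * m - 1) + 2 ^ m - 2 ^ (m - 1) := by
    have := CfsgLib.QuadCount.card_plus (F := F) m (by omega)
    rw [hF] at this
    rw [← this, CfsgLib.OmegaMin.cnt]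
    exact Nat.card_congr (Equiv.subtypeEquivRight fun v => by rw [CfsgLib.Lagrangian.Qp_apply])
  have hN : (CfsgLib.OmegaMin.Sing Q).ncard + 1 = CfsgLib.OmegaMin.cnt Q (0 : F) := CfsgLib.OmegaMin.sing_card
  rw [CfsgLib.OmegaMin.sing_card_spt, hF, hcnt0, ← hB, h2B] at hN
  have hp : 2 ^ (2 * m - 1) = 2 * (B * B) := by rw [hB, ← pow_add, ← pow_succ']; congr 1; omega
  have hM' : M + B = 2 * (B * B) := by
    rw [hM, h2B]
    obtain ⟨k, hk⟩ : ∃ k, B = k + 1 := ⟨B - 1, by omega⟩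
    rw [hk, show 2 * (k + 1) - 1 = 2 * k + 1 by omega]; ring
  have hM1 : M ≤ Nat.card (CfsgLib.OmegaSimple.SPt Q) := by omega
  have hM2 : M ≤ 2 * 2 ^ (2 * m - 2) := by
    rw [← pow_succ', show 2 * m - 2 + 1 = 2 * m - 1 by omega]; omega
  refine CfsgLib.OmegaMin.transfer Q _ (fun v => (CfsgLib.Lagrangian.Qp_apply v).symm) hQ
    (show 7 ≤ Fintype.card (Fin m ⊕ Fin m) by omega) _
    (fun H hH hne => CfsgLib.OmegaMin.main_small hQ (by omega) (by omega) H hH hne hM1 ?_ ?_ ?_) ?_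
  · rw [hd, hF]; exact hM2
  · intro c hc
    rw [hF, hcnt c hc]
    omega
  · intro v x v' x' h hf hs
    obtain ⟨h8, -⟩ := CfsgLib.OmegaMin.special_count hQ h hs
    have hm4 : m = 4 := by omega
    refine CfsgLib.OmegaMin.special_bound hQ (by omega) h hH hf hs hM1 ?_ ?_
    · rw [hF]
      rwa [show 2 * m - 2 = 6 by omega] at hM2
    · intro _
      rw [hM, hB, hF, hm4]
      norm_num
  · have hc := hcnt 1 one_ne_zero
    have hpos : 0 < M := by
      have : 2 ≤ 2 ^ m := Nat.le_self_pow (by omega) 2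
      exact Nat.mul_pos (by omega) (by omega)
    haveI : Nonempty {v : Fin m ⊕ Fin m → F // Q v = 1} := (Nat.card_pos_iff.1 (by
      rw [← hc] at hpos; exact hpos)).1
    obtain ⟨⟨a, ha⟩⟩ := this
    have hQa : Q a ≠ 0 := by rw [ha]; exact one_ne_zero
    refine ⟨a, fun e => hQa (by rw [e, QuadraticMap.map_zero]), ?_⟩
    have h1 := CfsgLib.OmegaMin.pst_nonsing hQ (by omega) (by omega) hQa
    rw [ha, hc, hF] at h1
    omega

end Cfsg.Agent.S2146
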