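import Cfsg.Statements.S2147
import Cfsg.Agent.Lib.OmegaMin.Small
import Cfsg.Agent.Lib.OmegaMin.SpecialBound
import Cfsg.Agent.Lib.OmegaMin.Levels
import Cfsg.Agent.Lib.OmegaMin.Formulas
-- import your own Cfsg.Agent.* helpers here

set_option autoImplicit false
open Cfsg

namespace Cfsg.Agent.S2147

/-- Minimal index of a proper subgroup of the even-dimensional orthogonal groups of minus type: for m ≥ 4 and a field F with q elements, every proper subgroup of PΩ⁻_2m(F) (for the form Σ_{i<m−1} xᵢyᵢ + z₁² + a z₁z₂ + b z₂² with anisotropic binary part) has index at least (q^m + 1)(q^(m−1) − 1)/(q − 1), and that index is attained. -/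
theorem result {F : Type*} [Field F] [Fintype F] {q : ℕ} (hF : Fintype.card F = q) (m : ℕ) (hm : 4 ≤ m) (a b : F) (hab : ∀ z₁ z₂ : F, z₁ ^ 2 + a * z₁ * z₂ + b * z₂ ^ 2 = 0 → z₁ = 0 ∧ z₂ = 0) : (∀ H : Subgroup (Cfsg.POmega F (Cfsg.quadFormMinus (m - 1) F a b)), H ≠ ⊤ → (q ^ m + 1) * (q ^ (m - 1) - 1) / (q - 1) ≤ H.index) ∧ (∃ H : Subgroup (Cfsg.POmega F (Cfsg.quadFormMinus (m - 1) F a b)), H.index = (q ^ m + 1) * (q ^ (m - 1) - 1) / (q - 1)) := by
  classical
  subst hF
  obtain ⟨k, rfl⟩ : ∃ k, m = k + 1 := ⟨m - 1, by omega⟩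
  simp only [Nat.add_sub_cancel]
  set Q := CfsgLib.StdQuadForms.Qm k a b
  set q := Fintype.card F with hq
  have hq2 : 2 ≤ q := Fintype.one_lt_card
  have hQ : (QuadraticMap.polarBilin Q).Nondegenerate := CfsgLib.StdQuadForms.Qm_nondeg k hab
  have hι : Fintype.card ((Fin k ⊕ Fin k) ⊕ Fin 2) = 2 * k + 2 := by simp; omega
  have hd : Module.finrank F ((Fin k ⊕ Fin k) ⊕ Fin 2 → F) = 2 * k + 2 := by
    rw [Module.finrank_fintype_fun_eq_card, hι]
  obtain ⟨hNZ, hNle⟩ := CfsgLib.OmegaMin.minus_points hq2 (show 2 ≤ k + 1 by omega)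
  simp only [Nat.add_sub_cancel] at hNZ hNle
  set N := (q ^ (k + 1) + 1) * (q ^ k - 1) / (q - 1) with hNdef
  have hN : Nat.card (CfsgLib.OmegaSimple.SPt Q) = N := by
    refine CfsgLib.OmegaMin.spt_count ?_ hNZ
    have := CfsgLib.QuadCount.card_minus (F := F) (k + 1) (by omega) a b hab
    simp only [Nat.add_sub_cancel] at this
    rw [← this, CfsgLib.OmegaMin.cnt]
    exact Nat.card_congr (Equiv.subtypeEquivRight fun v => by rw [CfsgLib.StdQuadForms.Qm_apply]; rfl)
  have hsp : ∀ v x v' x', ∀ h : CfsgLib.OmegaMin.Fr Q v x v' x', ∀ H : Subgroup _,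
      ¬ CfsgLib.OmegaMin.Special h H := by
    intro v x v' x' h H hs
    obtain ⟨h8, hc⟩ := CfsgLib.OmegaMin.special_count hQ h hs
    rw [hN, ← hq] at hc
    rw [hd] at h8
    obtain ⟨r, hr⟩ : ∃ r, q = r + 1 := ⟨q - 1, by omega⟩
    obtain rfl : k = 3 := by omega
    rw [hc] at hNZ
    norm_num at hNZ
    rw [hr, Nat.add_sub_cancel] at hNZ
    have h1 : (r + 1) ^ 4 ≤ (r + 1) ^ 7 := Nat.pow_le_pow_right (by omega) (by omega)
    have e : r * (((r + 1) ^ 3 + 1) * ((r + 1) ^ 3 + (r + 1) ^ 2 + (r + 1) + 1)) + 1 + (r + 1) ^ 3 =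
        (r + 1) ^ 7 + (r + 1) ^ 4 := by ring
    have h2 : (r + 1) ^ 3 < (r + 1) ^ 4 := Nat.pow_lt_pow_right (by omega) (by norm_num)
    omega
  rw [← hN] at hNle ⊢
  refine CfsgLib.OmegaMin.transfer Q _ (fun v => (CfsgLib.StdQuadForms.Qm_apply k a b v).symm) hQ
    (show 7 ≤ Fintype.card ((Fin k ⊕ Fin k) ⊕ Fin 2) by omega) _ ?_
    (CfsgLib.OmegaMin.exists_point_stab hQ (by omega))
  intro H hH hne
  have hM2 : Nat.card (CfsgLib.OmegaSimple.SPt Q) ≤
      2 * q ^ (Module.finrank F ((Fin k ⊕ Fin k) ⊕ Fin 2 → F) - 2) := by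
    rw [hd, show 2 * k + 2 - 2 = 2 * (k + 1) - 2 by omega]; exact hNle
  by_cases h4 : 4 ≤ q
  · exact CfsgLib.OmegaMin.main_big hQ (by omega) h4 H hH hne le_rfl hM2
      fun v x v' x' h _ hs => absurd hs (hsp v x v' x' h H)
  refine CfsgLib.OmegaMin.main_small hQ (by omega) (by omega) H hH hne le_rfl hM2 (fun c hc => ?_)
    fun v x v' x' h _ hs => absurd hs (hsp v x v' x' h H)
  -- every value is taken by the anisotropic part
  have hval : ∃ d : Fin 2 → F, d 0 ^ 2 + a * d 0 * d 1 + b * d 1 ^ 2 = c := by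
    have hb : b ≠ 0 := fun e => zero_ne_one (α := F) ((hab 0 1 (by rw [e]; ring)).2.symm)
    rcases CfsgLib.OmegaMin.small_elems (show Fintype.card F ≤ 3 by omega) c with e | e | e
    · exact absurd e hc
    · exact ⟨![1, 0], by rw [e]; simp⟩
    · rcases CfsgLib.OmegaMin.small_elems (show Fintype.card F ≤ 3 by omega) b with e' | e' | e'
      · exact absurd e' hb
      · by_cases h2 : (2 : F) = 0
        · exact ⟨![1, 0], by rw [e]; simp; linear_combination h2⟩
        have h30 : (3 : F) = 0 := by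
          rcases CfsgLib.OmegaMin.small_elems (show Fintype.card F ≤ 3 by omega) (2 : F) with u | u | u
          · exact absurd u h2
          · exact absurd (by linear_combination u) (one_ne_zero (α := F))
          · linear_combination u
        rcases CfsgLib.OmegaMin.small_elems (show Fintype.card F ≤ 3 by omega) a with e'' | e'' | e''
        · exact ⟨![1, 1], by rw [e, e', e'']; simp; linear_combination h30⟩
        · exact absurd (hab 1 1 (by rw [e', e'']; linear_combination h30)).1 one_ne_zero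
        · exact absurd (hab 1 (-1) (by rw [e', e'']; linear_combination h30)).1 one_ne_zero
      · exact ⟨![0, 1], by rw [e, e']; simp⟩
  have hone : 1 ≤ Nat.card {d : Fin 2 → F // d 0 ^ 2 + a * d 0 * d 1 + b * d 1 ^ 2 = c} := by
    haveI : Nonempty {d : Fin 2 → F // d 0 ^ 2 + a * d 0 * d 1 + b * d 1 ^ 2 = c} :=
      ⟨⟨hval.choose, hval.choose_spec⟩⟩
    exact Nat.card_pos
  have hK1 : 1 ≤ q ^ k := Nat.one_le_pow _ _ (by omega)
  have e := CfsgLib.OmegaMin.cnt_minus k a b c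
  rw [hN]
  refine le_trans (le_of_eq ?_) ((show (q ^ (k + 1) + 1) * (q ^ k - 1) ≤ CfsgLib.OmegaMin.cnt Q c from ?_))
  · obtain ⟨G, hG⟩ := CfsgLib.OmegaMin.geom_part hq2 k
    rw [hNdef, ← hq, ← hG, Nat.add_sub_cancel,
      show (q ^ (k + 1) + 1) * ((q - 1) * G) = (q - 1) * ((q ^ (k + 1) + 1) * G) by ring,
      Nat.mul_div_cancel_left _ (show 0 < q - 1 by omega)]
  · zify [hK1]
    rw [e, ← hq]
    have h1 : (1 : ℤ) ≤ (Nat.card {d : Fin 2 → F // d 0 ^ 2 + a * d 0 * d 1 + b * d 1 ^ 2 = c} : ℤ) := by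
      exact_mod_cast hone
    have h2 : (0 : ℤ) ≤ (q : ℤ) ^ k := by positivity
    have h3 := mul_le_mul_of_nonneg_left h1 h2
    rw [pow_succ]
    linarith

end Cfsg.Agent.S2147
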