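import Cfsg.Statements.S2155
import Cfsg.Agent.Lib.Chev.ParabolicFitting
import Cfsg.Agent.Lib.Chev.Inst
-- import your own Cfsg.Agent.* helpers here

set_option autoImplicit false
open Cfsg

namespace Cfsg.Agent.S2155

/-- In a Chevalley group of type G₂, B₂, D₄, F₄, E₆, E₇ or E₈ over a finite field of characteristic p (for types G₂ and B₂ the field is assumed to have at least 3 elements, so that the group is simple), the generalized Fitting subgroup of every proper standard parabolic subgroup P_J is a p-group (P_J is p-constrained with trivial largest normal subgroup of order prime to p). -/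
theorem result {F : Type*} [Field F] [Fintype F] (p : ℕ) [Fact p.Prime] [CharP F p] (D : Cfsg.Lie.ChevalleyDatum) (hD : D ∈ [Cfsg.Lie.chevG2, Cfsg.Lie.chevB2, Cfsg.Lie.chevD4, Cfsg.Lie.chevF4, Cfsg.Lie.chevE6, Cfsg.Lie.chevE7, Cfsg.Lie.chevE8]) (hq : (D = Cfsg.Lie.chevG2 ∨ D = Cfsg.Lie.chevB2) → 3 ≤ Fintype.card F) (J : Set ℕ) (hJ : ∃ i, i < D.rank ∧ i ∉ J) : IsPGroup p ↥(Cfsg.generalizedFittingSubgroup ↥(D.parabolicSubgroup F J)) := by
  obtain ⟨i, hi, hiJ⟩ := hJ
  simp only [List.mem_cons, List.not_mem_nil, or_false] at hD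
  rcases hD with rfl | rfl | rfl | rfl | rfl | rfl | rfl
  · exact CfsgLib.Chev.chevG2.isPGroup_gfit_parabolic p (by decide +kernel) (i0 := ⟨i, hi⟩) hiJ
  · exact CfsgLib.Chev.chevB2.isPGroup_gfit_parabolic p (by decide +kernel) (i0 := ⟨i, hi⟩) hiJ
  · exact CfsgLib.Chev.chevD4.isPGroup_gfit_parabolic p (by decide +kernel) (i0 := ⟨i, hi⟩) hiJ
  · exact CfsgLib.Chev.chevF4.isPGroup_gfit_parabolic p (by decide +kernel) (i0 := ⟨i, hi⟩) hiJ
  · exact CfsgLib.Chev.chevE6.isPGroup_gfit_parabolic p (by decide +kernel) (i0 := ⟨i, hi⟩) hiJ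
  · exact CfsgLib.Chev.chevE7.isPGroup_gfit_parabolic p (by decide +kernel) (i0 := ⟨i, hi⟩) hiJ
  · exact CfsgLib.Chev.chevE8.isPGroup_gfit_parabolic p (by decide +kernel) (i0 := ⟨i, hi⟩) hiJ

end Cfsg.Agent.S2155
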