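import Cfsg.Statements.S2158
import Cfsg.Agent.Lib.Chev.CharDiag
import Cfsg.Agent.S1049

set_option autoImplicit false
open Cfsg

namespace Cfsg.Agent.S2158

/-- In a Chevalley group of type G₂, B₂, D₄, F₄, E₆, E₇ or E₈ over any field, an element of the group whose matrix is the diagonal matrix `ĥ(χ)` of a character `χ` of the root lattice already lies in the diagonal subgroup H (the non-trivial inclusion of the statement that the group meets the group of all such diagonal matrices in H). -/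
theorem result {F : Type*} [Field F] (D : Cfsg.Lie.ChevalleyDatum) (hD : D ∈ [Cfsg.Lie.chevG2, Cfsg.Lie.chevB2, Cfsg.Lie.chevD4, Cfsg.Lie.chevF4, Cfsg.Lie.chevE6, Cfsg.Lie.chevE7, Cfsg.Lie.chevE8]) (χ : ℕ → Fˣ) (hχ : D.IsRootCharacter χ) (g : GL D.Idx F) (hg : g ∈ D.group F)
    (hgχ : (g : Matrix D.Idx D.Idx F) = D.charDiag F χ) : g ∈ D.diagonalSubgroup F := by
  classical
  obtain ⟨Φ⟩ := CfsgLib.Chev.exists_chev hD
  have hnorm : g ∈ Subgroup.normalizer (D.unipotentRadical F ∅ : Set (GL D.Idx F)) := by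
    have key : ∀ (k : GL D.Idx F) (ψ : ℕ → Fˣ), D.IsRootCharacter ψ →
        (k : Matrix D.Idx D.Idx F) = D.charDiag F ψ →
        ∀ x ∈ D.unipotentRadical F ∅, k * x * k⁻¹ ∈ D.unipotentRadical F ∅ := by
      intro k ψ hψ hk x hx
      induction hx using Subgroup.closure_induction with
      | mem y hy =>
        obtain ⟨r, t, hr, hJ, hy⟩ := hy
        refine Subgroup.subset_closure ⟨r, (ψ r : F) * t, hr, hJ, ?_⟩
        rw [Units.val_mul, Units.val_mul, hy, hk, Φ.charDiag_X hψ ⟨r, hr.1⟩ t, Matrix.mul_assoc, ← hk,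
          Units.mul_inv, Matrix.mul_one]
      | one => simp
      | mul a b _ _ ha hb => rw [show k * (a * b) * k⁻¹ = k * a * k⁻¹ * (k * b * k⁻¹) by group]; exact mul_mem ha hb
      | inv a _ ha => rw [show k * a⁻¹ * k⁻¹ = (k * a * k⁻¹)⁻¹ by group]; exact inv_mem ha
    have hχi : D.IsRootCharacter (fun s => (χ s)⁻¹) :=
      ⟨fun r hr => congrArg (·⁻¹) (hχ.1 r hr), fun r s k hr hs h => by
        show (χ k)⁻¹ = (χ r)⁻¹ * (χ s)⁻¹
        rw [hχ.2 r s k hr hs h, _root_.mul_inv]⟩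
    have hginv : ((g⁻¹ : GL D.Idx F) : Matrix D.Idx D.Idx F) = D.charDiag F (fun s => (χ s)⁻¹) :=
      Units.inv_eq_of_mul_eq_one_right (by rw [hgχ, CfsgLib.Chev.Chev.charDiag_mul_inv])
    rw [Subgroup.mem_normalizer_iff]
    refine fun x => ⟨fun hx => key g χ hχ hgχ x hx, fun hx => ?_⟩
    have := key g⁻¹ _ hχi hginv _ hx
    rwa [show g⁻¹ * (g * x * g⁻¹) * g⁻¹⁻¹ = x by group] at this
  have hB : g ∈ D.borelSubgroup F := by
    have h := (Cfsg.Agent.S1049.result D hD ∅ (by simp)).le ⟨hnorm, hg⟩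
    rwa [Cfsg.Lie.ChevalleyDatum.parabolicSubgroup, show Subgroup.closure {x : GL D.Idx F | ∃ j ∈ (∅ : Set ℕ), j < D.rank ∧
      (x : Matrix D.Idx D.Idx F) = D.nMat F (D.simple j) 1} = ⊥ from by
        rw [Subgroup.closure_eq_bot_iff]; rintro x ⟨j, hj, -⟩; exact absurd hj (Set.notMem_empty j), sup_bot_eq] at h
  obtain ⟨u, hu, h, hh, rfl⟩ := Φ.mem_B_iff.mp hB
  suffices hu1 : u = 1 by rw [hu1, one_mul]; exact hh
  have hu' := hu
  rw [Φ.posUnipotent_eq_US] at hu'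
  obtain ⟨hr, -⟩ := Φ.US_pos_le_raise hu'
  have hdiag : ∀ x y : D.Idx, x ≠ y → (u : Matrix D.Idx D.Idx F) x y = 0 := by
    intro x y hxy
    have e : (u : Matrix D.Idx D.Idx F) = D.charDiag F χ * ((h⁻¹ : GL D.Idx F) : Matrix D.Idx D.Idx F) := by
      rw [← hgχ, ← Units.val_mul, mul_inv_cancel_right]
    rw [e, CfsgLib.Chev.Chev.charDiag_eq, Matrix.diagonal_mul, Φ.diag_apply (inv_mem hh) hxy, mul_zero]
  refine Units.ext (sub_eq_zero.mp (Matrix.ext fun x y => ?_))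
  by_contra hne
  have hw : (1 : ℤ) * Φ.toSys.codeIdx y + 1 ≤ 1 * Φ.toSys.codeIdx x := hr x y hne
  have hxy : x ≠ y := fun e => by subst e; omega
  exact hne (by simp [Matrix.sub_apply, hdiag x y hxy, Matrix.one_apply_ne hxy])

end Cfsg.Agent.S2158
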