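import Cfsg.Statements.S2160
import Cfsg.Agent.Lib.Chev.SimpleGen
import Cfsg.Prelude.Def_ChevAutomorphisms

set_option autoImplicit false
open Cfsg

namespace Cfsg.Agent.S2160

/-- In a Chevalley group of type G₂, B₂, D₄, F₄, E₆, E₇ or E₈ over a finite field, every field automorphism commutes with every graph automorphism. -/
theorem result {F : Type*} [Field F] [Finite F] (D : Cfsg.Lie.ChevalleyDatum) (hD : D ∈ [Cfsg.Lie.chevG2, Cfsg.Lie.chevB2, Cfsg.Lie.chevD4, Cfsg.Lie.chevF4, Cfsg.Lie.chevE6, Cfsg.Lie.chevE7, Cfsg.Lie.chevE8]) (f g : ↥(D.group F) ≃* ↥(D.group F))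
    (hf : D.IsFieldAut f) (hg : D.IsGraphAut g) (y : ↥(D.group F)) : f (g y) = g (f y) := by
  obtain ⟨Φ⟩ := CfsgLib.Chev.exists_chev hD
  obtain ⟨σ, hσ⟩ := hf
  obtain ⟨π, -, hπ⟩ := hg
  have h := Φ.hom_ext (f.toMonoidHom.comp g.toMonoidHom) (g.toMonoidHom.comp f.toMonoidHom) ?_
  · exact DFunLike.congr_fun h y
  intro i t k hk
  show f (g k) = g (f k)
  apply Subtype.ext
  apply Units.ext
  have hlt : ∀ j : Fin D.rank, D.simple j < D.nroots ∧ D.neg (D.simple j) < D.nroots := fun j => by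
    rw [Φ.simple_val j, show D.neg (Φ.p j).val = (Φ.p j).rev.val from Φ.negIdx_eq _]
    exact ⟨Fin.isLt _, Fin.isLt _⟩
  rcases hk with hk | hk
  · rw [hσ _ _ _ (hlt _).1 ((hπ k i t).1 hk), (hπ (f k) i (σ t)).1 (hσ k _ t (hlt i).1 hk), map_pow]
  · rw [hσ _ _ _ (hlt _).2 ((hπ k i t).2 hk), (hπ (f k) i (σ t)).2 (hσ k _ t (hlt i).2 hk), map_pow]

end Cfsg.Agent.S2160
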