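import Cfsg.Statements.S2161
import Cfsg.Agent.Lib.Chev.Aut.GraphRoots
import Cfsg.Agent.Lib.Chev.Aut.SymData
-- import your own Cfsg.Agent.* helpers here

set_option autoImplicit false
open Cfsg

namespace Cfsg.Agent.S2161

/-- For the Chevalley groups of types D₄ and E₆ (one root length) over any field: if `π` is a symmetry of the Dynkin diagram and `φ` is an automorphism sending `x_{p_i}(t)` to `x_{p_{π i}}(t)` and `x_{-p_i}(t)` to `x_{-p_{π i}}(t)` for every fundamental root `p_i`, then for every root `r` there is a sign `ε = ±1` with `φ(x_r(t)) = x_{π·r}(ε t)` for all `t`, where `π·r` is the root whose coefficients are those of `r` permuted by `π`. -/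
theorem result {F : Type*} [Field F] (D : Cfsg.Lie.ChevalleyDatum) (hD : D ∈ [Cfsg.Lie.chevD4, Cfsg.Lie.chevE6])
    (π : Equiv.Perm (Fin D.rank)) (hπ : D.IsDiagramSymmetry π) (φ : ↥(D.group F) ≃* ↥(D.group F))
    (hφ : ∀ (g : ↥(D.group F)) (i : Fin D.rank) (t : F),
      (((g : GL D.Idx F) : Matrix D.Idx D.Idx F) = D.x F (D.simple i) t →
        ((φ g : GL D.Idx F) : Matrix D.Idx D.Idx F) = D.x F (D.simple (π i)) t) ∧
      (((g : GL D.Idx F) : Matrix D.Idx D.Idx F) = D.x F (D.neg (D.simple i)) t →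
        ((φ g : GL D.Idx F) : Matrix D.Idx D.Idx F) = D.x F (D.neg (D.simple (π i))) t))
    (r : ℕ) (hr : r < D.nroots) :
    ∃ ε : F, (ε = 1 ∨ ε = -1) ∧ ∀ (g : ↥(D.group F)) (t : F),
      ((g : GL D.Idx F) : Matrix D.Idx D.Idx F) = D.x F r t →
        ((φ g : GL D.Idx F) : Matrix D.Idx D.Idx F) = D.x F (D.permRoot π r) (ε * t) := by
  have main : ∀ (Φ : CfsgLib.Chev.Chev D) (L : List (List ℕ)), CfsgLib.Chev.symSearch D D.rank [] = L →
      (∀ i j : Fin D.rank, i ≠ j → (D.bonds i j = 0 ↔ CfsgLib.Chev.cartN D i j = 0)) →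
      (∀ M ∈ L, CfsgLib.Chev.permRootOK D M = true) →
      ∃ ε : F, (ε = 1 ∨ ε = -1) ∧ ∀ (g : ↥(D.group F)) (t : F),
        ((g : GL D.Idx F) : Matrix D.Idx D.Idx F) = D.x F r t →
          ((φ g : GL D.Idx F) : Matrix D.Idx D.Idx F) = D.x F (D.permRoot π r) (ε * t) := by
    intro Φ L hL hbond hall
    have hadj : ∀ i j, CfsgLib.Chev.adjN D (π i) (π j) = CfsgLib.Chev.adjN D i j := by
      intro i j
      rcases eq_or_ne i j with rfl | hne
      · simp [CfsgLib.Chev.adjN]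
      · have hne' : π i ≠ π j := π.injective.ne hne
        have h1 : CfsgLib.Chev.cartN D (π i) (π j) = 0 ↔ CfsgLib.Chev.cartN D i j = 0 := by
          rw [← hbond _ _ hne', hπ i j hne, hbond i j hne]
        simp only [CfsgLib.Chev.adjN, bne_iff_ne.2 hne, bne_iff_ne.2 hne', Bool.true_and]
        by_cases hA : CfsgLib.Chev.cartN D i j = 0
        · rw [hA, h1.2 hA]
        · rw [bne_iff_ne.2 hA, bne_iff_ne.2 (fun e => hA (h1.1 e))]
    have hok := hall _ (hL ▸ CfsgLib.Chev.mem_symSearch hadj)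
    obtain ⟨ε, hε, s, hs, hst⟩ := Φ.graph_roots π hok φ (fun i t =>
      ⟨Subtype.ext (Units.ext (((hφ (Φ.eg (Φ.p i) t) i t).1 (Φ.x_simple i t).symm).trans (Φ.x_simple (π i) t))),
        Subtype.ext (Units.ext (((hφ (Φ.eg (Φ.p i).rev t) i t).2 (Φ.x_neg_simple i t).symm).trans
          (Φ.x_neg_simple (π i) t)))⟩) ⟨r, hr⟩
    refine ⟨ε, hε, fun g t hg => ?_⟩
    have hg' : g = Φ.eg ⟨r, hr⟩ t := Subtype.ext ((Φ.toAlg.eq_xg_iff (r := ⟨r, hr⟩)).1 hg)
    rw [hg', hst t, ← show s.val = D.permRoot π r from hs, Φ.toAlg.x_val s]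
    rfl
  simp only [List.mem_cons, List.not_mem_nil, or_false] at hD
  rcases hD with rfl | rfl
  · exact main CfsgLib.Chev.chevD4 _ CfsgLib.Chev.symsD4 (by decide +kernel) (by decide +kernel)
  · exact main CfsgLib.Chev.chevE6 _ CfsgLib.Chev.symsE6 (by decide +kernel) (by decide +kernel)

end Cfsg.Agent.S2161
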