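import Cfsg.Statements.S2163


set_option autoImplicit false
open Cfsg

namespace Cfsg.Agent.S2163

/-- Over a finite field of characteristic two and for n ≥ 3: for every ℓ with 1 ≤ ℓ and 2ℓ ≤ n, the matrix j_ℓ that is the identity plus the entries 1 in positions (n − ℓ + i, i) for i < ℓ (an identity block of size ℓ in the lower left corner) lies in SL_n(F), has order 2, and j_ℓ − 1 has rank ℓ. Together with the conjugacy criterion by rank, these matrices represent the conjugacy classes of involutions of SL_n(F). -/
theorem result {F : Type*} [Field F] [Fintype F] [CharP F 2] {n : ℕ} (hn : 3 ≤ n) (ℓ : ℕ) (h1 : 1 ≤ ℓ) (h2 : 2 * ℓ ≤ n) :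
    ∃ a : Matrix.SpecialLinearGroup (Fin n) F, (a : Matrix (Fin n) (Fin n) F) = 1 + Matrix.of (fun i j : Fin n => if j.val < ℓ ∧ i.val = j.val + (n - ℓ) then (1 : F) else 0) ∧ orderOf a = 2 ∧ ((a : Matrix (Fin n) (Fin n) F) - 1).rank = ℓ := by
  classical
  set E : Matrix (Fin n) (Fin n) F :=
    Matrix.of (fun i j : Fin n => if j.val < ℓ ∧ i.val = j.val + (n - ℓ) then (1 : F) else 0) with hE
  have hEE : E * E = 0 := by
    ext i j
    rw [Matrix.mul_apply, Matrix.zero_apply]
    refine Finset.sum_eq_zero fun k _ => ?_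
    simp only [hE, Matrix.of_apply]
    split_ifs with a b <;> simp
    omega
  have hlow : (1 + E).IsLowerTriangular := fun i j (hij : i < j) => by
    rw [Matrix.add_apply, Matrix.one_apply_ne hij.ne, zero_add]
    simp only [hE, Matrix.of_apply]
    exact if_neg fun h => by have := Fin.lt_def.mp hij; omega
  have hdet : (1 + E).det = 1 := by
    rw [Matrix.det_of_isLowerTriangular _ hlow]
    refine Finset.prod_eq_one fun i _ => ?_
    rw [Matrix.add_apply, Matrix.one_apply_eq]
    simp only [hE, Matrix.of_apply]
    rw [if_neg (by omega), add_zero]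
  let a : Matrix.SpecialLinearGroup (Fin n) F := ⟨1 + E, hdet⟩
  have hrank : E.rank = ℓ := by
    apply le_antisymm
    · have : E = Matrix.of (fun (i : Fin n) (k : Fin ℓ) => if i.val = k.val + (n - ℓ) then (1 : F) else 0) *
          Matrix.of (fun (k : Fin ℓ) (j : Fin n) => if j.val = k.val then (1 : F) else 0) := by
        ext i j
        rw [Matrix.mul_apply]
        simp only [hE, Matrix.of_apply]
        by_cases hj : j.val < ℓ
        · rw [Finset.sum_eq_single (⟨j.val, hj⟩ : Fin ℓ)]
          · simp [hj]
          · intro k _ hk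
            rw [if_neg (show ¬ j.val = k.val from fun e => hk (Fin.ext e.symm)), mul_zero]
          · simp
        · rw [if_neg (fun h => hj h.1)]
          refine (Finset.sum_eq_zero fun k _ => ?_).symm
          rw [if_neg (show ¬ j.val = k.val from fun e => hj (by have := k.2; omega)), mul_zero]
      rw [this]
      exact (Matrix.rank_mul_le_left _ _).trans (Matrix.rank_le_width _)
    · have hsub : E.submatrix (fun k : Fin ℓ => (⟨k.val + (n - ℓ), by omega⟩ : Fin n))
          (fun k : Fin ℓ => (⟨k.val, by omega⟩ : Fin n)) = 1 := by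
        ext i j
        simp [hE, Matrix.one_apply, Fin.ext_iff]
      have := Matrix.rank_submatrix_le E (fun k : Fin ℓ => (⟨k.val + (n - ℓ), by omega⟩ : Fin n))
          (fun k : Fin ℓ => (⟨k.val, by omega⟩ : Fin n))
      rwa [hsub, Matrix.rank_one, Fintype.card_fin] at this
  have hsub1 : (a : Matrix (Fin n) (Fin n) F) - 1 = E := add_sub_cancel_left 1 E
  refine ⟨a, rfl, orderOf_eq_prime ?_ fun h => ?_, by rw [hsub1, hrank]⟩
  · apply Subtype.ext
    rw [sq, Matrix.SpecialLinearGroup.coe_mul]
    show (1 + E) * (1 + E) = 1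
    rw [Matrix.add_mul, Matrix.one_mul, Matrix.mul_add, Matrix.mul_one, hEE, add_zero, add_assoc]
    simp [← two_smul F E, CharTwo.two_eq_zero]
  · rw [← hrank, ← hsub1, h, Matrix.SpecialLinearGroup.coe_one, sub_self, Matrix.rank_zero] at h1
    omega

end Cfsg.Agent.S2163
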