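import Cfsg.Statements.S2165


set_option autoImplicit false
open Cfsg
open scoped Matrix

namespace Cfsg.Agent.S2165

/-- In SU_n(q), q even, n ≥ 3 (matrices of determinant 1 over the field with q² elements preserving Σ u_i v_i^q): for every ℓ with 1 ≤ ℓ and 2ℓ ≤ n, the permutation matrix of the involution of {0, …, n−1} exchanging i and n − ℓ + i for each i < ℓ lies in SU_n(q), has order 2, and differs from the identity by a matrix of rank ℓ. So every rank between 1 and n/2 occurs for involutions of SU_n(q). -/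
theorem result {F : Type*} [Field F] [Fintype F] [CharP F 2] {n q : ℕ} (hF : Fintype.card F = q ^ 2) (hn : 3 ≤ n) (ℓ : ℕ) (h1 : 1 ≤ ℓ) (h2 : 2 * ℓ ≤ n) :
    ∃ a : ↥(Cfsg.SU n F q), (((a : Matrix.SpecialLinearGroup (Fin n) F) : Matrix (Fin n) (Fin n) F) = Matrix.of (fun i j : Fin n => if (j.val < ℓ ∧ i.val = j.val + (n - ℓ)) ∨ (i.val < ℓ ∧ j.val = i.val + (n - ℓ)) ∨ (i = j ∧ ℓ ≤ i.val ∧ i.val < n - ℓ) then (1 : F) else 0)) ∧ orderOf a = 2 ∧ ((((a : Matrix.SpecialLinearGroup (Fin n) F) : Matrix (Fin n) (Fin n) F)) - 1).rank = ℓ := by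
  classical
  let τ : Fin n → Fin n := fun i =>
    if h : i.val < ℓ then ⟨i.val + (n - ℓ), by omega⟩
    else if n - ℓ ≤ i.val then ⟨i.val - (n - ℓ), by omega⟩ else i
  have hτ : Function.Involutive τ := fun i => by
    simp only [τ]
    rcases lt_or_ge i.val ℓ with h | h
    · rw [dif_pos h, dif_neg (show ¬ i.val + (n - ℓ) < ℓ by omega),
        if_pos (show n - ℓ ≤ i.val + (n - ℓ) by omega)]
      exact Fin.ext (show i.val + (n - ℓ) - (n - ℓ) = i.val by omega)
    · rw [dif_neg (show ¬ i.val < ℓ by omega)]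
      rcases le_or_gt (n - ℓ) i.val with h' | h'
      · rw [if_pos h', dif_pos (show i.val - (n - ℓ) < ℓ by omega)]
        exact Fin.ext (show i.val - (n - ℓ) + (n - ℓ) = i.val by omega)
      · rw [if_neg (show ¬ n - ℓ ≤ i.val by omega), dif_neg (show ¬ i.val < ℓ by omega),
          if_neg (show ¬ n - ℓ ≤ i.val by omega)]
  let σ : Equiv.Perm (Fin n) := Function.Involutive.toPerm τ hτ
  set P : Matrix (Fin n) (Fin n) F := Matrix.of (fun i j : Fin n => if (j.val < ℓ ∧ i.val = j.val + (n - ℓ)) ∨ (i.val < ℓ ∧ j.val = i.val + (n - ℓ)) ∨ (i = j ∧ ℓ ≤ i.val ∧ i.val < n - ℓ) then (1 : F) else 0) with hP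
  have hσ : ∀ i j, τ i = j ↔ ((j.val < ℓ ∧ i.val = j.val + (n - ℓ)) ∨ (i.val < ℓ ∧ j.val = i.val + (n - ℓ)) ∨ (i = j ∧ ℓ ≤ i.val ∧ i.val < n - ℓ)) := fun i j => by
    simp only [τ]
    split_ifs <;> simp only [Fin.ext_iff] <;> omega
  have hperm : P = σ.permMatrix F := by
    ext i j
    rw [hP, Equiv.Perm.permMatrix, PEquiv.toMatrix_apply]
    simp [σ, ← hσ]
  have hdet : P.det = 1 := by
    rw [hperm, Matrix.det_permutation]
    rcases Int.units_eq_one_or (Equiv.Perm.sign σ) with h | h <;> simp [h, CharTwo.neg_eq]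
  have hmem : (⟨P, hdet⟩ : Matrix.SpecialLinearGroup (Fin n) F) ∈ Cfsg.SU n F q := by
    intro u v
    show Cfsg.hermForm n F q (P *ᵥ u) (P *ᵥ v) = _
    rw [hperm, Matrix.permMatrix_mulVec, Matrix.permMatrix_mulVec]
    exact Equiv.sum_comp σ (fun i => u i * v i ^ q)
  have hrank : (P - 1).rank = ℓ := by
    let W : Matrix (Fin n) (Fin ℓ) F :=
      Matrix.of fun i k => if i.val = k.val ∨ i.val = k.val + (n - ℓ) then 1 else 0
    apply le_antisymm
    · have : P - 1 = W * W.transpose := by
        ext i j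
        rw [Matrix.sub_apply, CharTwo.sub_eq_add, Matrix.mul_apply]
        simp only [hP, W, Matrix.of_apply, Matrix.transpose_apply]
        by_cases hi : i.val < ℓ ∨ n - ℓ ≤ i.val
        · let k : Fin ℓ := ⟨if i.val < ℓ then i.val else i.val - (n - ℓ), by split_ifs <;> omega⟩
          have hk : k.val = if i.val < ℓ then i.val else i.val - (n - ℓ) := rfl
          rw [Finset.sum_eq_single k]
          · rw [Matrix.one_apply]
            split_ifs <;> simp only [Fin.ext_iff, mul_one, mul_zero, add_zero, zero_add,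
              CharTwo.add_self_eq_zero] at * <;> split_ifs at hk <;> omega
          · intro x _ hx
            rw [if_neg (fun h => hx (Fin.ext ?_)), zero_mul]
            split_ifs at hk <;> omega
          · simp
        · push Not at hi
          rw [Finset.sum_eq_zero fun x _ => by rw [if_neg (by omega), zero_mul], Matrix.one_apply]
          by_cases hij : i = j
          · rw [if_pos (Or.inr (Or.inr ⟨hij, hi.1, hi.2⟩)), if_pos hij, CharTwo.add_self_eq_zero]
          · rw [if_neg (fun h => ?_), if_neg hij, add_zero]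
            rcases h with h | h | h <;> omega
      rw [this]
      exact (Matrix.rank_mul_le_left _ _).trans (Matrix.rank_le_width _)
    · have hsub : (P - 1).submatrix (fun k : Fin ℓ => (⟨k.val + (n - ℓ), by omega⟩ : Fin n))
          (fun k : Fin ℓ => (⟨k.val, by omega⟩ : Fin n)) = 1 := by
        ext i j
        simp only [Matrix.submatrix_apply, Matrix.sub_apply, hP, Matrix.of_apply, Matrix.one_apply,
          Fin.ext_iff]
        split_ifs <;> simp <;> omega
      have := Matrix.rank_submatrix_le (P - 1) (fun k : Fin ℓ => (⟨k.val + (n - ℓ), by omega⟩ : Fin n))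
          (fun k : Fin ℓ => (⟨k.val, by omega⟩ : Fin n))
      rwa [hsub, Matrix.rank_one, Fintype.card_fin] at this
  refine ⟨⟨⟨P, hdet⟩, hmem⟩, rfl, orderOf_eq_prime ?_ fun h => ?_, hrank⟩
  · apply Subtype.ext
    apply Subtype.ext
    rw [sq]
    show P * P = 1
    rw [hperm, ← Matrix.permMatrix_mul]
    rw [show σ * σ = 1 from Equiv.ext hτ, Matrix.permMatrix_one]
  · have e : P = 1 := congrArg (fun z => z.1.1) h
    rw [e, sub_self, Matrix.rank_zero] at hrank
    omega

end Cfsg.Agent.S2165
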