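import Cfsg.Statements.S2166
import Cfsg.Agent.Lib.SympInvolution.Cent
-- import your own Cfsg.Agent.* helpers here

set_option autoImplicit false
open Cfsg

namespace Cfsg.Agent.S2166

open scoped Matrix

/-- Conjugacy of involutions in the symplectic group Sp_{2m}(F), F a finite field of characteristic two, m ≥ 2 (Sp taken as the matrices A with A J Aᵀ = J, acting on column vectors, with the alternating form f(u, v) = u ⬝ (J v)). For an involution t write V(t) for the set of vectors v with f(v, t v) = 0 (a subspace). Two involutions a, b are conjugate in Sp_{2m}(F) exactly when a − 1 and b − 1 have the same rank and, in case that rank is even, V(a) and V(b) have the same number of elements. -/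
theorem result {F : Type*} [Field F] [Fintype F] [CharP F 2] {m : ℕ} (hm : 2 ≤ m) (a b : ↥(Matrix.symplecticGroup (Fin m) F)) (ha : orderOf a = 2) (hb : orderOf b = 2) :
    IsConj a b ↔ ((((a : ↥(Matrix.symplecticGroup (Fin m) F)) : Matrix (Fin m ⊕ Fin m) (Fin m ⊕ Fin m) F) - 1).rank = (((b : ↥(Matrix.symplecticGroup (Fin m) F)) : Matrix (Fin m ⊕ Fin m) (Fin m ⊕ Fin m) F) - 1).rank ∧
      (Even (((a : ↥(Matrix.symplecticGroup (Fin m) F)) : Matrix (Fin m ⊕ Fin m) (Fin m ⊕ Fin m) F) - 1).rank → Nat.card {v : Fin m ⊕ Fin m → F // Cfsg.sympForm m F v (Matrix.mulVec ((a : ↥(Matrix.symplecticGroup (Fin m) F)) : Matrix (Fin m ⊕ Fin m) (Fin m ⊕ Fin m) F) v) = 0} = Nat.card {v : Fin m ⊕ Fin m → F // Cfsg.sympForm m F v (Matrix.mulVec ((b : ↥(Matrix.symplecticGroup (Fin m) F)) : Matrix (Fin m ⊕ Fin m) (Fin m ⊕ Fin m) F) v) = 0})) := by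
  have ha' : a * a = 1 := by rw [← pow_two, ← ha, pow_orderOf_eq_one]
  have hb' : b * b = 1 := by rw [← pow_two, ← hb, pow_orderOf_eq_one]
  rw [CfsgLib.SympInv.isConj_iff ha' hb']
  have hpos : ∀ c : ↥(Matrix.symplecticGroup (Fin m) F), c * c = 1 → CfsgLib.SympInv.rk c % 2 = 1 →
      ¬ CfsgLib.SympInv.Alt c := fun c hc hodd h => by
    obtain ⟨r, hr, -⟩ := CfsgLib.SympInv.rk_alt hc h
    omega
  have hall : ∀ c : ↥(Matrix.symplecticGroup (Fin m) F), CfsgLib.SympInv.Alt c ↔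
      Nat.card {v : Fin m ⊕ Fin m → F // Cfsg.sympForm m F v (c.1 *ᵥ v) = 0} = Nat.card (Fin m ⊕ Fin m → F) := by
    intro c
    rw [CfsgLib.SympInv.alt_iff]
    constructor
    · exact fun h => Nat.card_congr (Equiv.subtypeUnivEquiv h)
    · intro h x
      by_contra hx
      have hlt : Nat.card {v : Fin m ⊕ Fin m → F // Cfsg.sympForm m F v (c.1 *ᵥ v) = 0} <
          Nat.card (Fin m ⊕ Fin m → F) := Finite.card_subtype_lt hx
      omega
  constructor
  · rintro ⟨h1, h2⟩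
    refine ⟨h1, fun _ => ?_⟩
    obtain ⟨g, hg⟩ := isConj_iff.1 ((CfsgLib.SympInv.isConj_iff ha' hb').2 ⟨h1, h2⟩)
    refine Nat.card_congr (Equiv.subtypeEquiv (Equiv.ofBijective (fun v => g.1 *ᵥ v) ⟨fun x y h => ?_, fun y =>
      ⟨(g⁻¹).1 *ᵥ y, ?_⟩⟩) fun v => ?_)
    · have := congrArg (fun z => (g⁻¹).1 *ᵥ z) h
      simpa only [← CfsgLib.SympGen.mul_apply, inv_mul_cancel, CfsgLib.SympGen.one_apply] using this
    · simp only [← CfsgLib.SympGen.mul_apply, mul_inv_cancel, CfsgLib.SympGen.one_apply]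
    · show _ ↔ CfsgLib.SympGen.B (g.1 *ᵥ v) (b.1 *ᵥ (g.1 *ᵥ v)) = 0
      rw [← CfsgLib.SympGen.mul_apply b g, ← hg, inv_mul_cancel_right, CfsgLib.SympGen.mul_apply,
        CfsgLib.SympGen.B_map]
      rfl
  · rintro ⟨h1, h2⟩
    refine ⟨h1, ?_⟩
    rcases Nat.mod_two_eq_zero_or_one (CfsgLib.SympInv.rk a) with he | ho
    · have h3 := h2 (Nat.even_iff.2 he)
      rw [hall a, hall b, h3]
    · exact ⟨fun h => absurd h (hpos a ha' ho), fun h => absurd h (hpos b hb' ((show CfsgLib.SympInv.rk a = CfsgLib.SympInv.rk b from h1) ▸ ho))⟩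

end Cfsg.Agent.S2166
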