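import Cfsg.Statements.S2167
import Cfsg.Agent.Lib.Aschbacher.Forms

set_option autoImplicit false
open Cfsg
open scoped Matrix

namespace Cfsg.Agent.S2167

/-- For an involution t of the symplectic group Sp_{2m}(F), m ≥ 2, F a finite field of characteristic two (matrices A with A J Aᵀ = J acting on column vectors, alternating form f(u, v) = u ⬝ (J v)): the set (Fin m ⊕ Fin m → F)(t) of vectors v with f(v, t v) = 0 has either q^{2m} or q^{2m−1} elements, q the order of F (it is a subspace of codimension at most 1), and if it is the whole space then t − 1 has even rank. -/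
theorem result {F : Type*} [Field F] [Fintype F] [CharP F 2] {m : ℕ} (hm : 2 ≤ m) (a : ↥(Matrix.symplecticGroup (Fin m) F)) (ha : orderOf a = 2) :
    (Nat.card {v : Fin m ⊕ Fin m → F // Cfsg.sympForm m F v (Matrix.mulVec ((a : ↥(Matrix.symplecticGroup (Fin m) F)) : Matrix (Fin m ⊕ Fin m) (Fin m ⊕ Fin m) F) v) = 0} = Fintype.card F ^ (2 * m) ∨ Nat.card {v : Fin m ⊕ Fin m → F // Cfsg.sympForm m F v (Matrix.mulVec ((a : ↥(Matrix.symplecticGroup (Fin m) F)) : Matrix (Fin m ⊕ Fin m) (Fin m ⊕ Fin m) F) v) = 0} * Fintype.card F = Fintype.card F ^ (2 * m)) ∧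
    ((∀ v : Fin m ⊕ Fin m → F, Cfsg.sympForm m F v (Matrix.mulVec ((a : ↥(Matrix.symplecticGroup (Fin m) F)) : Matrix (Fin m ⊕ Fin m) (Fin m ⊕ Fin m) F) v) = 0) → Even (((a : ↥(Matrix.symplecticGroup (Fin m) F)) : Matrix (Fin m ⊕ Fin m) (Fin m ⊕ Fin m) F) - 1).rank) := by
  classical
  set A := ((a : ↥(Matrix.symplecticGroup (Fin m) F)) : Matrix (Fin m ⊕ Fin m) (Fin m ⊕ Fin m) F) with hA
  have h20 : (2 : F) = 0 := CharTwo.two_eq_zero
  let f : (Fin m ⊕ Fin m → F) → (Fin m ⊕ Fin m → F) → F := Cfsg.sympForm m F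
  have hfa : ∀ u v w, f (u + v) w = f u w + f v w := fun u v w => by simp [f, Cfsg.sympForm, add_dotProduct]
  have hfb : ∀ u v w, f u (v + w) = f u v + f u w := fun u v w => by
    simp [f, Cfsg.sympForm, Matrix.mulVec_add, dotProduct_add]
  have hfs : ∀ (c : F) u v, f (c • u) v = c * f u v := fun c u v => by simp [f, Cfsg.sympForm, smul_dotProduct]
  have hfs' : ∀ (c : F) u v, f u (c • v) = c * f u v := fun c u v => by
    simp [f, Cfsg.sympForm, Matrix.mulVec_smul, dotProduct_smul]
  have halt : ∀ v, f v v = 0 := by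
    intro v
    simp [f, Cfsg.sympForm, Matrix.J, Matrix.mulVec, dotProduct, Matrix.one_apply, Fintype.sum_sum_type,
      Matrix.fromBlocks, mul_comm]
  have hsymm : ∀ u v, f u v = f v u := by
    intro u v
    have := halt (u + v)
    rw [hfa, hfb, hfb, halt, halt, zero_add, add_zero, CharTwo.add_eq_zero] at this
    exact this
  have hinv : ∀ u v, f (A.mulVec u) (A.mulVec v) = f u v := by
    intro u v
    have h := SymplecticGroup.transpose_mem a.2
    rw [SymplecticGroup.mem_iff, Matrix.transpose_transpose] at h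
    simp only [f, Cfsg.sympForm]
    rw [Matrix.mulVec_mulVec, ← Matrix.vecMul_transpose, ← Matrix.dotProduct_mulVec, Matrix.mulVec_mulVec, ← mul_assoc, h]
  have hAA : A * A = 1 := by
    have := pow_orderOf_eq_one a
    rw [ha, pow_two] at this
    exact congrArg Subtype.val this
  have hcross : ∀ u v, f u (A.mulVec v) = f v (A.mulVec u) := by
    intro u v
    rw [← hinv u (A.mulVec v), Matrix.mulVec_mulVec, hAA, Matrix.one_mulVec, hsymm]
  let g : (Fin m ⊕ Fin m → F) →+ F := AddMonoidHom.mk' (fun v => f v (A.mulVec v)) fun u v => by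
    rw [Matrix.mulVec_add, hfa, hfb, hfb, hcross v u]
    linear_combination (f u (A.mulVec v)) * h20
  have hgs : ∀ (c : F) v, g (c • v) = c * c * g v := fun c v => by
    show f (c • v) (A.mulVec (c • v)) = _
    rw [Matrix.mulVec_smul, hfs, hfs', mul_assoc]; rfl
  have hV : Nat.card (Fin m ⊕ Fin m → F) = Fintype.card F ^ (2 * m) := by
      rw [Nat.card_fun, Nat.card_eq_fintype_card, Nat.card_eq_fintype_card, Fintype.card_sum, Fintype.card_fin, two_mul]
  refine ⟨?_, fun h0 => ?_⟩
  · show Nat.card {v : (Fin m ⊕ Fin m → F) // g v = 0} = _ ∨ Nat.card {v : (Fin m ⊕ Fin m → F) // g v = 0} * _ = _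
    by_cases hg : ∀ v, g v = 0
    · left
      rw [Nat.card_congr (Equiv.subtypeUnivEquiv hg), hV]
    · right
      push_neg at hg
      obtain ⟨v, hv⟩ := hg
      have hsurj : Function.Surjective g := by
        intro c
        obtain ⟨r, hr⟩ := (FiniteField.isSquare_of_char_two (ringChar.eq F 2) (c / g v))
        exact ⟨r • v, by rw [hgs, ← hr, div_mul_cancel₀ _ hv]⟩
      rw [← hV, ← AddSubgroup.card_mul_index g.ker, AddSubgroup.index_ker,
        AddMonoidHom.range_eq_top.mpr hsurj, AddSubgroup.card_top, Nat.card_eq_fintype_card (α := F)]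
      rfl
  · let T := A - 1
    let b : (Fin m ⊕ Fin m → F) → (Fin m ⊕ Fin m → F) → F := fun u v => f u (T.mulVec v)
    have hb : Cfsg.Geo.IsBilinearForm b := by
      constructor <;> intros <;> simp [b, Matrix.mulVec_add, Matrix.mulVec_smul, hfa, hfb, hfs, hfs']
    have hT : ∀ v, T.mulVec v = A.mulVec v + v := fun v => by
      ext i; simp [T, Matrix.sub_mulVec, CharTwo.sub_eq_add]
    have hbalt : ∀ v, b v v = 0 := fun v => by
      show f v (T.mulVec v) = 0
      rw [hT, hfb, halt, add_zero]
      exact h0 v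
    have hbsymm : ∀ u v, b u v = b v u := fun u v => by
      show f u (T.mulVec v) = f v (T.mulVec u)
      rw [hT, hT, hfb, hfb, hcross u v, hsymm u v]
    obtain ⟨W, hW⟩ := Submodule.exists_isCompl (LinearMap.ker T.mulVecLin)
    have hrn := LinearMap.finrank_range_add_finrank_ker T.mulVecLin
    rw [← Submodule.finrank_add_eq_of_isCompl hW] at hrn
    refine CfsgLib.Aschbacher.even_finrank_of_alternating hb hbalt _ W (by simp only [Matrix.rank, T] at *; omega) ?_
    intro w hw hw0
    by_contra hno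
    push_neg at hno
    have hall : ∀ x, b w x = 0 := by
      intro x
      obtain ⟨k, hk, y, hy, rfl⟩ := Submodule.mem_sup.mp (hW.sup_eq_top.ge (Submodule.mem_top (x := x)))
      show f w (T.mulVec (k + y)) = 0
      have hk0 : T.mulVec k = 0 := by simpa using hk
      rw [Matrix.mulVec_add, hk0, zero_add]
      exact hno y hy
    have hTw : T.mulVec w = 0 := by
      have hJ : Matrix.J (Fin m) F *ᵥ T.mulVec w = 0 := dotProduct_eq_zero _ fun x => by
        rw [dotProduct_comm]
        exact (hbsymm x w).trans (hall x)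
      have := congrArg (fun z => Matrix.J (Fin m) F *ᵥ z) hJ
      simp only [Matrix.mulVec_mulVec, ← mul_assoc, neg_mul, one_mul, Matrix.J_squared, Matrix.mulVec_zero, Matrix.neg_mulVec,
        Matrix.one_mulVec, neg_eq_zero] at this
      exact this
    exact hw0 (Submodule.disjoint_def.mp hW.disjoint w (by simpa using hTw) hw)

end Cfsg.Agent.S2167
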