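import Cfsg.Statements.S2172
import Cfsg.Agent.Lib.SympInvolution.OrthClasses

set_option autoImplicit false
open Cfsg

namespace Cfsg.Agent.S2172

open CfsgLib.SympOrth

/-- Splitting of involution classes from O to Ω for the hyperbolic quadratic form Q = Σ x_i y_i in dimension 2m over a finite field F of characteristic two, m ≥ 4. Let t, s be involutions of the commutator subgroup Ω that are conjugate in the full isometry group O. If it is not the case that t − 1 has rank m and Q(v + t v) = 0 for every vector v, then t and s are conjugate by an element of Ω. If t − 1 has rank m and Q(v + t v) = 0 for all v, then t and s are conjugate by an element of Ω exactly when the intersection of the images of t − 1 and s − 1 has even dimension (so the class of t in O meets at most two classes of Ω). -/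
theorem result {F : Type*} [Field F] [Fintype F] [CharP F 2] {m : ℕ} (hm : 4 ≤ m) (t s : ↥(Cfsg.isometryGroup F (Cfsg.quadFormPlus m F))) (ht : orderOf t = 2) (hs : orderOf s = 2) (htO : t ∈ Cfsg.Omega F (Cfsg.quadFormPlus m F)) (hsO : s ∈ Cfsg.Omega F (Cfsg.quadFormPlus m F)) (hconj : IsConj t s) :
    (¬ (((((t : ↥(Cfsg.isometryGroup F (Cfsg.quadFormPlus m F))) : GL (Fin m ⊕ Fin m) F) : Matrix (Fin m ⊕ Fin m) (Fin m ⊕ Fin m) F) - 1).rank = m ∧ ∀ v : Fin m ⊕ Fin m → F, Cfsg.quadFormPlus m F (v + Matrix.mulVec (((t : ↥(Cfsg.isometryGroup F (Cfsg.quadFormPlus m F))) : GL (Fin m ⊕ Fin m) F) : Matrix (Fin m ⊕ Fin m) (Fin m ⊕ Fin m) F) v) = 0) →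
      ∃ g ∈ Cfsg.Omega F (Cfsg.quadFormPlus m F), g * t * g⁻¹ = s) ∧
    ((((((t : ↥(Cfsg.isometryGroup F (Cfsg.quadFormPlus m F))) : GL (Fin m ⊕ Fin m) F) : Matrix (Fin m ⊕ Fin m) (Fin m ⊕ Fin m) F) - 1).rank = m ∧ ∀ v : Fin m ⊕ Fin m → F, Cfsg.quadFormPlus m F (v + Matrix.mulVec (((t : ↥(Cfsg.isometryGroup F (Cfsg.quadFormPlus m F))) : GL (Fin m ⊕ Fin m) F) : Matrix (Fin m ⊕ Fin m) (Fin m ⊕ Fin m) F) v) = 0) →
      ((∃ g ∈ Cfsg.Omega F (Cfsg.quadFormPlus m F), g * t * g⁻¹ = s) ↔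
        Even (Module.finrank F ↥(LinearMap.range (Matrix.toLin' ((((t : ↥(Cfsg.isometryGroup F (Cfsg.quadFormPlus m F))) : GL (Fin m ⊕ Fin m) F) : Matrix (Fin m ⊕ Fin m) (Fin m ⊕ Fin m) F) - 1)) ⊓ LinearMap.range (Matrix.toLin' ((((s : ↥(Cfsg.isometryGroup F (Cfsg.quadFormPlus m F))) : GL (Fin m ⊕ Fin m) F) : Matrix (Fin m ⊕ Fin m) (Fin m ⊕ Fin m) F) - 1)))))) := by
  let T := (LinearEquiv.refl F (Fin m ⊕ Fin m → F))
  have hT : ∀ v, CfsgLib.Lagrangian.Qp m F (T v) = Cfsg.quadFormPlus m F v := plus_hT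
  have hc := hc_plus (F := F) (m := m) (Or.inr (by omega))
  set a := isoE T hT t with hadef
  set b := isoE T hT s
  obtain ⟨ha, -⟩ := (invol_iff Qp_polar a).1 (by rw [orderOf_isoE, ht])
  have hab : IsConj a b := (isoE T hT).toMonoidHom.map_isConj hconj
  rw [← rk_isoE T hT Qp_polar t, ← alt_isoE_add T hT Qp_polar t]
  refine ⟨fun hn => ?_, fun ⟨hr, halt⟩ => ?_⟩
  · obtain ⟨g, hg, hgab⟩ := exists_conj_Omega Qp_polar hc ha hn hab
    refine ⟨(isoE T hT).symm g, (mem_Omega_isoE T hT _).1 (by rw [MulEquiv.apply_symm_apply]; exact hg),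
      (isoE T hT).injective ?_⟩
    rw [map_mul, map_mul, map_inv, MulEquiv.apply_symm_apply]
    exact hgab
  · obtain ⟨r, hmr, -⟩ := CfsgLib.SympInv.rk_alt (toSp_sq Qp_polar ha) halt
    have key : ∀ g, g * t * g⁻¹ = s → (g ∈ Cfsg.Omega F (Cfsg.quadFormPlus m F) ↔
        Even (Module.finrank F ↥(LinearMap.range (Matrix.toLin' (t.1.1 - 1)) ⊓
          LinearMap.range (Matrix.toLin' (s.1.1 - 1))))) := by
      intro g hg
      rw [← mem_Omega_isoE T hT, mem_Omega_iff_lag hc hr halt (b := b) (by rw [← map_inv, ← map_mul, ← map_mul, hg])]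
      have hle := Submodule.finrank_mono
        (inf_le_left : LinearMap.range (CfsgLib.SympInv.N (toSp Qp_polar a)) ⊓
          LinearMap.range (CfsgLib.SympInv.N (toSp Qp_polar b)) ≤ _)
      rw [← CfsgLib.SympInv.rk_eq, hr] at hle
      have e : Module.finrank F ↥(LinearMap.range (CfsgLib.SympInv.N (toSp Qp_polar a)) ⊓
          LinearMap.range (CfsgLib.SympInv.N (toSp Qp_polar b))) =
          Module.finrank F ↥(LinearMap.range (Matrix.toLin' (t.1.1 - 1)) ⊓
            LinearMap.range (Matrix.toLin' (s.1.1 - 1))) := by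
        rw [range_N_isoE T hT, range_N_isoE T hT, ← Submodule.map_inf _ T.injective, LinearEquiv.finrank_map_eq,
          Matrix.toLin'_apply', Matrix.toLin'_apply']
      rw [← e, Nat.even_sub hle]
      exact iff_true_left ⟨r, hr.symm.trans hmr⟩
    refine ⟨fun ⟨g, hg, hgts⟩ => (key g hgts).1 hg, fun h => ?_⟩
    obtain ⟨g, hg⟩ := _root_.isConj_iff.1 hconj
    exact ⟨g, (key g hg).2 h, hg⟩

end Cfsg.Agent.S2172
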