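import Cfsg.Statements.S2173
import Cfsg.Agent.Lib.SympInvolution.OrthClasses

set_option autoImplicit false
open Cfsg

namespace Cfsg.Agent.S2173

open CfsgLib.SympOrth

/-- For the quadratic form Σ x_i y_i + (z₁² + c z₁ z₂ + d z₂²) in dimension 2m with anisotropic binary part over a finite field F of characteristic two, m ≥ 4 (minus type): two involutions of the commutator subgroup Ω that are conjugate in the full isometry group O are conjugate by an element of Ω (no class of involutions of O inside Ω splits). -/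
theorem result {F : Type*} [Field F] [Fintype F] [CharP F 2] {m : ℕ} (hm : 4 ≤ m) (c d : F) (hcd : ∀ z₁ z₂ : F, z₁ ^ 2 + c * z₁ * z₂ + d * z₂ ^ 2 = 0 → z₁ = 0 ∧ z₂ = 0) (t s : ↥(Cfsg.isometryGroup F (Cfsg.quadFormMinus (m - 1) F c d))) (ht : orderOf t = 2) (hs : orderOf s = 2) (htO : t ∈ Cfsg.Omega F (Cfsg.quadFormMinus (m - 1) F c d)) (hsO : s ∈ Cfsg.Omega F (Cfsg.quadFormMinus (m - 1) F c d)) (hconj : IsConj t s) :
    ∃ g ∈ Cfsg.Omega F (Cfsg.quadFormMinus (m - 1) F c d), g * t * g⁻¹ = s := by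
  have ha := minus_a_ne_zero hcd
  let T := minusT (k := m - 1) ha
  have hT : ∀ v, Qd (lastVec (m - 1) 1) (lastVec (m - 1) (d / c ^ 2)) (T v) = Cfsg.quadFormMinus (m - 1) F c d v :=
    minusT_form ha
  obtain ⟨ha', -⟩ := (invol_iff (Qd_polar _ _) (isoE T hT t)).1 (by rw [orderOf_isoE, ht])
  obtain ⟨g, hg, hgab⟩ := exists_conj_Omega (Qd_polar _ _) (hc_minus hcd) ha' (minus_not_top hcd ha _)
    ((isoE T hT).toMonoidHom.map_isConj hconj)
  refine ⟨(isoE T hT).symm g, (mem_Omega_isoE T hT _).1 (by rw [MulEquiv.apply_symm_apply]; exact hg),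
    (isoE T hT).injective ?_⟩
  rw [map_mul, map_mul, map_inv, MulEquiv.apply_symm_apply]
  exact hgab

end Cfsg.Agent.S2173
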