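import Cfsg.Statements.S2174
import Cfsg.Agent.Lib.Chev.InvClass.DataF4Inv
import Cfsg.Agent.Lib.Chev.RootCentralizerF4
import Cfsg.Agent.Lib.Chev.InvClass.Classes

set_option autoImplicit false
open Cfsg

namespace Cfsg.Agent.S2174

open CfsgLib.Chev in
/-- The classes from the certificate. -/
theorem classes (F : Type*) [Field F] [Finite F] [CharP F 2] :
    let Ls : List (List (Fin Cfsg.Lie.chevF4.nroots)) := [[⟨47, by decide⟩], [⟨44, by decide⟩], [⟨47, by decide⟩, ⟨44, by decide⟩], [⟨39, by decide⟩, ⟨45, by decide⟩]]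
    Ls.map (fun L => L.map Fin.val) = invRepsF4 ∧
    ((∀ L ∈ Ls, (chevF4.el1 L : GL Cfsg.Lie.chevF4.Idx F) ∈ Cfsg.Lie.chevF4.group F ∧
        orderOf (chevF4.el1 L : GL Cfsg.Lie.chevF4.Idx F) = 2) ∧
      (∀ g ∈ Cfsg.Lie.chevF4.group F, orderOf g = 2 → ∃ L ∈ Ls,
        ∃ h ∈ Cfsg.Lie.chevF4.group F, h * g * h⁻¹ = (chevF4.el1 L : GL Cfsg.Lie.chevF4.Idx F)) ∧
      (∀ L ∈ Ls, ∀ L' ∈ Ls, ∀ h ∈ Cfsg.Lie.chevF4.group F,
        h * chevF4.el1 L * h⁻¹ = (chevF4.el1 L' : GL Cfsg.Lie.chevF4.Idx F) → L = L')) := by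
  intro Ls
  haveI : Fact (Nat.Prime 2) := ⟨Nat.prime_two⟩
  let k : List (Fin Cfsg.Lie.chevF4.nroots) → ℕ := fun L => (((chevF4.el1 L : GL Cfsg.Lie.chevF4.Idx F) :
      Matrix Cfsg.Lie.chevF4.Idx Cfsg.Lie.chevF4.Idx F) - 1).rank
  have k0 : k [⟨47, by decide⟩] = 16 := (packF4.rank_el1 (F := F) (L := [⟨47, by decide⟩]) rankF4_0).trans pivF4_0_length
  have k1 : k [⟨44, by decide⟩] = 16 := (packF4.rank_el1 (F := F) (L := [⟨44, by decide⟩]) rankF4_1).trans pivF4_1_length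
  have k2 : k [⟨47, by decide⟩, ⟨44, by decide⟩] = 21 := (packF4.rank_el1 (F := F) (L := [⟨47, by decide⟩, ⟨44, by decide⟩]) rankF4_2).trans pivF4_2_length
  have k3 : k [⟨39, by decide⟩, ⟨45, by decide⟩] = 24 := (packF4.rank_el1 (F := F) (L := [⟨39, by decide⟩, ⟨45, by decide⟩]) rankF4_3).trans pivF4_3_length
  have hk : ∀ L ∈ Ls, k L ≠ 0 := by
    intro L hL
    simp only [Ls, List.mem_cons, List.not_mem_nil, or_false] at hL
    rcases hL with rfl | rfl | rfl | rfl <;> simp only [k0, k1, k2, k3] <;> norm_num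
  have hsq : ∀ L ∈ Ls, (chevF4.el1 L : GL Cfsg.Lie.chevF4.Idx F) * chevF4.el1 L = 1 := by
    intro L hL
    refine packF4.el_sq_comms (L := L.map fun r => (r, (1 : F))) ?_
    rw [List.map_map]
    simp only [Ls, List.mem_cons, List.not_mem_nil, or_false] at hL
    rcases hL with rfl | rfl | rfl | rfl
    · show packF4.commsOK [47] = true; decide +kernel
    · show packF4.commsOK [44] = true; decide +kernel
    · show packF4.commsOK [47, 44] = true; decide +kernel
    · show packF4.commsOK [39, 45] = true; decide +kernel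
  refine ⟨rfl, fun L hL => ⟨CfsgLib.Chev.Chev.el1_mem_group L, orderOf_eq_prime ?_ ?_⟩,
    fun g hg ho => ?_, fun L hL L' hL' h hh e => ?_⟩
  · rw [sq]; exact hsq L hL
  · intro e
    refine hk L hL ?_
    show Matrix.rank _ = 0
    rw [e, Units.val_one, sub_self, Matrix.rank_zero]
  · have hg2 : g * g = 1 := by rw [← sq, ← ho, pow_orderOf_eq_one]
    have hg1 : g ≠ 1 := fun e => by
      rw [e, orderOf_one] at ho
      exact absurd ho (by norm_num)
    obtain ⟨R, hR, L, hLR, x, hx, hxe⟩ := packF4.involution_desc descF4_ok hg hg2 hg1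
    have hR' : R ∈ Ls.map (fun L => L.map Fin.val) := hR
    obtain ⟨L', hL', rfl⟩ := List.mem_map.1 hR'
    obtain rfl : L = L' := List.map_injective_iff.2 Fin.val_injective hLR
    exact ⟨L, hL', x, hx, hxe⟩
  · have hkk : k L = k L' := (CfsgLib.Chev.rank_sub_one_conj e).symm
    have fus : ∀ (a b : Fin Cfsg.Lie.chevF4.nroots), a.val = 47 → b.val = 44 → ∀ h ∈ Cfsg.Lie.chevF4.group F,
        h * chevF4.toAlg.xg a 1 * h⁻¹ = (chevF4.toAlg.xg b 1 : GL Cfsg.Lie.chevF4.Idx F) → False := by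
      intro a b ha hb h hh e
      have hpa : chevF4.toTables.Pos a := by show 48 ≤ 2 * a.val; omega
      have hpb : chevF4.toTables.Pos b := by show 48 ≤ 2 * b.val; omega
      obtain ⟨π, hπ, he⟩ := chevF4.fusion_central hpa hpb one_ne_zero
        (fun v x hx => chevF4.commute_U hpa (by
          obtain rfl : a = ⟨47, by decide⟩ := Fin.ext ha
          decide +kernel) v hx)
        (fun v x hx => chevF4.commute_U hpb (by
          obtain rfl : b = ⟨44, by decide⟩ := Fin.ext hb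
          decide +kernel) v hx) hh e
      have hcl : (List.range 4).all (fun i => invLongF4.all fun r =>
          invLongF4.contains (packF4.refl i r)) = true := by decide +kernel
      simp only [List.all_eq_true, List.contains_iff_mem, List.mem_range] at hcl
      have key : ∀ π ∈ chevF4.WL, ∀ r : Fin Cfsg.Lie.chevF4.nroots, (r.val ∈ invLongF4 ↔ (π r).val ∈ invLongF4) := by
        intro π hπ
        induction hπ using Subgroup.closure_induction with
        | mem y hy =>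
          obtain ⟨i, -, rfl⟩ := hy
          intro r
          rw [chevF4.reflPerm_apply]
          refine ⟨fun hr => hcl i.val i.isLt r.val hr, fun hr => ?_⟩
          have := hcl i.val i.isLt _ hr
          rw [show packF4.refl i.val (chevF4.refl i r).val = (chevF4.refl i (chevF4.refl i r)).val from rfl,
            chevF4.refl_refl] at this
          exact this
        | one => intro r; rfl
        | mul y z _ _ hy hz => intro r; exact (hz r).trans (hy (z r))
        | inv y _ hy => intro r; simpa using (hy (y⁻¹ r)).symm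
      have h1 := (key π hπ a).1 (by rw [ha]; decide)
      rw [he, hb] at h1
      exact absurd h1 (by decide)
    simp only [Ls, List.mem_cons, List.not_mem_nil, or_false] at hL hL'
    rcases hL with rfl | rfl | rfl | rfl <;> rcases hL' with rfl | rfl | rfl | rfl <;>
      first
      | rfl
      | (simp only [k0, k1, k2, k3] at hkk; omega)
      | skip
    · exfalso
      refine fus ⟨47, by decide⟩ ⟨44, by decide⟩ rfl rfl h hh ?_
      simpa [CfsgLib.Chev.Chev.el1, CfsgLib.Chev.Chev.el_cons, CfsgLib.Chev.Chev.el_nil] using e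
    · exfalso
      refine fus ⟨47, by decide⟩ ⟨44, by decide⟩ rfl rfl h⁻¹ (inv_mem hh) ?_
      simp only [CfsgLib.Chev.Chev.el1, List.map_cons, List.map_nil, CfsgLib.Chev.Chev.el_cons,
        CfsgLib.Chev.Chev.el_nil, mul_one] at e
      rw [← e]
      group

/-- Conjugacy classes of involutions in the Chevalley group of type F₄ over a finite field F of characteristic two (the matrix group generated by the root elements x_r(t)). In this problem's root numbering for type F₄ (the Chevalley data module; fundamental roots p₁, p₂ short and p₃, p₄ long; roots indexed by their coefficient vectors in increasing order) let r = 47 be the highest root (2,4,3,2), s = 44 the highest short root (2,3,2,1), and α = 39 = (1,2,2,1), β = 45 = (2,4,2,1), an orthogonal short/long pair; consider the four elements x_r(1), x_s(1), x_r(1)x_s(1), x_α(1)x_β(1). Then: each invertible matrix equal to one of these four products lies in the group and has order 2;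 every element of order 2 of the group is conjugate in the group to one of them; and no two of them are conjugate in the group (so, the four matrices being distinct, the group has exactly four conjugacy classes of involutions). -/
theorem result {F : Type*} [Field F] [Fintype F] [CharP F 2] :
    (∀ y : GL Cfsg.Lie.chevF4.Idx F, ((y : GL Cfsg.Lie.chevF4.Idx F) : Matrix Cfsg.Lie.chevF4.Idx Cfsg.Lie.chevF4.Idx F) ∈ [Cfsg.Lie.chevF4.x F 47 1, Cfsg.Lie.chevF4.x F 44 1, Cfsg.Lie.chevF4.x F 47 1 * Cfsg.Lie.chevF4.x F 44 1, Cfsg.Lie.chevF4.x F 39 1 * Cfsg.Lie.chevF4.x F 45 1] → y ∈ Cfsg.Lie.chevF4.group F ∧ orderOf y = 2) ∧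
    (∀ g ∈ Cfsg.Lie.chevF4.group F, orderOf g = 2 → ∃ y ∈ Cfsg.Lie.chevF4.group F, ((y : GL Cfsg.Lie.chevF4.Idx F) : Matrix Cfsg.Lie.chevF4.Idx Cfsg.Lie.chevF4.Idx F) ∈ [Cfsg.Lie.chevF4.x F 47 1, Cfsg.Lie.chevF4.x F 44 1, Cfsg.Lie.chevF4.x F 47 1 * Cfsg.Lie.chevF4.x F 44 1, Cfsg.Lie.chevF4.x F 39 1 * Cfsg.Lie.chevF4.x F 45 1] ∧ ∃ h ∈ Cfsg.Lie.chevF4.group F, h * g * h⁻¹ = y) ∧
    (∀ y₁ ∈ Cfsg.Lie.chevF4.group F, ∀ y₂ ∈ Cfsg.Lie.chevF4.group F, ((y₁ : GL Cfsg.Lie.chevF4.Idx F) : Matrix Cfsg.Lie.chevF4.Idx Cfsg.Lie.chevF4.Idx F) ∈ [Cfsg.Lie.chevF4.x F 47 1, Cfsg.Lie.chevF4.x F 44 1, Cfsg.Lie.chevF4.x F 47 1 * Cfsg.Lie.chevF4.x F 44 1, Cfsg.Lie.chevF4.x F 39 1 * Cfsg.Lie.chevF4.x F 45 1] → ((y₂ : GL Cfsg.Lie.chevF4.Idx F) : Matrix Cfsg.Lie.chevF4.Idx Cfsg.Lie.chevF4.Idx F) ∈ [Cfsg.Lie.chevF4.x F 47 1, Cfsg.Lie.chevF4.x F 44 1, Cfsg.Lie.chevF4.x F 47 1 * Cfsg.Lie.chevF4.x F 44 1, Cfsg.Lie.chevF4.x F 39 1 * Cfsg.Lie.chevF4.x F 45 1] →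
      (∃ h ∈ Cfsg.Lie.chevF4.group F, h * y₁ * h⁻¹ = y₂) → ((y₁ : GL Cfsg.Lie.chevF4.Idx F) : Matrix Cfsg.Lie.chevF4.Idx Cfsg.Lie.chevF4.Idx F) = ((y₂ : GL Cfsg.Lie.chevF4.Idx F) : Matrix Cfsg.Lie.chevF4.Idx Cfsg.Lie.chevF4.Idx F)) := by
  obtain ⟨hreps, h1, h2, h3⟩ := classes F
  generalize hLs : ([[⟨47, by decide⟩], [⟨44, by decide⟩], [⟨47, by decide⟩, ⟨44, by decide⟩], [⟨39, by decide⟩, ⟨45, by decide⟩]] : List (List (Fin Cfsg.Lie.chevF4.nroots))) = Ls at *
  have hval : ∀ L : List (Fin Cfsg.Lie.chevF4.nroots),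
      ((CfsgLib.Chev.chevF4.el1 L : GL Cfsg.Lie.chevF4.Idx F) : Matrix Cfsg.Lie.chevF4.Idx Cfsg.Lie.chevF4.Idx F) =
        ((L.map Fin.val).map fun r => Cfsg.Lie.chevF4.x F r 1).prod := by
    intro L
    induction L with
    | nil => rfl
    | cons a L ih =>
      rw [List.map_cons, List.map_cons, List.prod_cons, ← ih, CfsgLib.Chev.Alg.x_val CfsgLib.Chev.chevF4.toAlg]
      rfl
  have hM : Ls.map (fun L => ((CfsgLib.Chev.chevF4.el1 L : GL Cfsg.Lie.chevF4.Idx F) :
      Matrix Cfsg.Lie.chevF4.Idx Cfsg.Lie.chevF4.Idx F)) = [Cfsg.Lie.chevF4.x F 47 1, Cfsg.Lie.chevF4.x F 44 1, Cfsg.Lie.chevF4.x F 47 1 * Cfsg.Lie.chevF4.x F 44 1,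
        Cfsg.Lie.chevF4.x F 39 1 * Cfsg.Lie.chevF4.x F 45 1] := by
    simp only [hval]
    have e := congrArg (List.map fun R : List ℕ => (R.map fun r => Cfsg.Lie.chevF4.x F r (1 : F)).prod) hreps
    rw [List.map_map] at e
    refine e.trans ?_
    simp [CfsgLib.Chev.invRepsF4]
  rw [← hM]
  refine ⟨fun y hy => ?_, fun g hg ho => ?_, fun y₁ _ y₂ _ hy₁ hy₂ => ?_⟩
  · obtain ⟨L, hL, e⟩ := List.mem_map.1 hy
    rw [← Units.ext e]
    exact h1 L hL
  · obtain ⟨L, hL, hc⟩ := h2 g hg ho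
    exact ⟨_, (h1 L hL).1, List.mem_map.2 ⟨L, hL, rfl⟩, hc⟩
  · rintro ⟨h, hh, hc⟩
    obtain ⟨L, hL, e⟩ := List.mem_map.1 hy₁
    obtain ⟨L', hL', e'⟩ := List.mem_map.1 hy₂
    rw [← Units.ext e, ← Units.ext e'] at hc
    rw [← e, ← e', h3 L hL L' hL' h hh hc]

end Cfsg.Agent.S2174
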