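import Cfsg.Statements.S2175
import Cfsg.Agent.Lib.Chev.InvClass.Classes
import Cfsg.Agent.Lib.Chev.InvClass.Data
import Cfsg.Agent.Lib.Chev.InvClass.LacedData

set_option autoImplicit false
open Cfsg

namespace Cfsg.Agent.S2175

open CfsgLib.Chev in
/-- The classes from the certificate. -/
theorem classes (F : Type*) [Field F] [Finite F] [CharP F 2] :
    let Ls : List (List (Fin Cfsg.Lie.chevE6.nroots)) := [[⟨71, by decide⟩], [⟨68, by decide⟩, ⟨66, by decide⟩], [⟨55, by decide⟩, ⟨65, by decide⟩, ⟨67, by decide⟩]]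
    Ls.Nodup ∧ Ls.map (fun L => L.map Fin.val) = repsE6 ∧
    ((∀ L ∈ Ls, (chevE6.el1 L : GL Cfsg.Lie.chevE6.Idx F) ∈ Cfsg.Lie.chevE6.group F ∧
        orderOf (chevE6.el1 L : GL Cfsg.Lie.chevE6.Idx F) = 2) ∧
      (∀ g ∈ Cfsg.Lie.chevE6.group F, orderOf g = 2 → ∃ L ∈ Ls,
        ∃ h ∈ Cfsg.Lie.chevE6.group F, h * g * h⁻¹ = (chevE6.el1 L : GL Cfsg.Lie.chevE6.Idx F)) ∧
      (∀ L ∈ Ls, ∀ L' ∈ Ls, ∀ h : GL Cfsg.Lie.chevE6.Idx F,
        h * chevE6.el1 L * h⁻¹ = chevE6.el1 L' → L = L')) := by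
  intro Ls
  have hrk : Ls.map (fun L => (((chevE6.el1 L : GL Cfsg.Lie.chevE6.Idx F) :
      Matrix Cfsg.Lie.chevE6.Idx Cfsg.Lie.chevE6.Idx F) - 1).rank) = [22, 32, 38] := by
    simp only [Ls, List.map_cons, List.map_nil]
    refine List.ext_getElem (by rfl) fun i h1 h2 => ?_
    match i, h1 with
    | 0, _ => exact (packE6.rank_el1 (F := F) (L := [⟨71, by decide⟩]) rankE6_0).trans pivE6_0_length
    | 1, _ => exact (packE6.rank_el1 (F := F) (L := [⟨68, by decide⟩, ⟨66, by decide⟩]) rankE6_1).trans pivE6_1_length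
    | 2, _ => exact (packE6.rank_el1 (F := F) (L := [⟨55, by decide⟩, ⟨65, by decide⟩, ⟨67, by decide⟩]) rankE6_2).trans pivE6_2_length
    | n + 3, h => exact absurd h (by simp)
  refine ⟨by decide, rfl, packE6.involution_classes lacedE6 certE6_ok chainE6 chainE6_all
    chainE6_ok Ls rfl (by decide +kernel) _ (fun L _ => rfl) (fun L hL h0 => ?_) ?_⟩
  · have : (0 : ℕ) ∈ ([22, 32, 38] : List ℕ) := hrk ▸ List.mem_map.2 ⟨L, hL, h0⟩
    exact absurd this (by decide)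
  · exact (congrArg List.Nodup hrk).mpr (by decide)

/-- Conjugacy classes of involutions in the Chevalley group of type E₆ over a finite field F of characteristic two (the matrix group generated by the root elements x_r(t)). In this problem's root numbering for type E₆ (the Chevalley data module; fundamental roots numbered so that p₁–p₃–p₄–p₅–p₆ is the long chain of the diagram and p₂ is joined to p₄; roots indexed by their coefficient vectors in increasing order) let r = 71 be the highest root (1,2,2,3,2,1), α = 68 = (1,1,2,2,1,1), β = 66 = (1,1,1,2,2,1), γ = 55 = (0,1,1,2,2,1), δ = 65 = (1,1,1,2,1,1), ε = 67 = (1,1,2,2,1,0) (α ⊥ β and γ, δ, ε pairwise orthogonal); consider x_r(1), x_α(1)x_β(1) and x_γ(1)x_δ(1)x_ε(1). Then: each invertible matrix equal to one of these three products lies in the group and has order 2; every element of order 2 of the group is conjugate in the group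 to one of them; and no two of them are conjugate in the group (so, the three matrices being distinct, the group has exactly three conjugacy classes of involutions). -/
theorem result {F : Type*} [Field F] [Fintype F] [CharP F 2] :
    (∀ y : GL Cfsg.Lie.chevE6.Idx F, ((y : GL Cfsg.Lie.chevE6.Idx F) : Matrix Cfsg.Lie.chevE6.Idx Cfsg.Lie.chevE6.Idx F) ∈ [Cfsg.Lie.chevE6.x F 71 1, Cfsg.Lie.chevE6.x F 68 1 * Cfsg.Lie.chevE6.x F 66 1, Cfsg.Lie.chevE6.x F 55 1 * Cfsg.Lie.chevE6.x F 65 1 * Cfsg.Lie.chevE6.x F 67 1] → y ∈ Cfsg.Lie.chevE6.group F ∧ orderOf y = 2) ∧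
    (∀ g ∈ Cfsg.Lie.chevE6.group F, orderOf g = 2 → ∃ y ∈ Cfsg.Lie.chevE6.group F, ((y : GL Cfsg.Lie.chevE6.Idx F) : Matrix Cfsg.Lie.chevE6.Idx Cfsg.Lie.chevE6.Idx F) ∈ [Cfsg.Lie.chevE6.x F 71 1, Cfsg.Lie.chevE6.x F 68 1 * Cfsg.Lie.chevE6.x F 66 1, Cfsg.Lie.chevE6.x F 55 1 * Cfsg.Lie.chevE6.x F 65 1 * Cfsg.Lie.chevE6.x F 67 1] ∧ ∃ h ∈ Cfsg.Lie.chevE6.group F, h * g * h⁻¹ = y) ∧
    (∀ y₁ ∈ Cfsg.Lie.chevE6.group F, ∀ y₂ ∈ Cfsg.Lie.chevE6.group F, ((y₁ : GL Cfsg.Lie.chevE6.Idx F) : Matrix Cfsg.Lie.chevE6.Idx Cfsg.Lie.chevE6.Idx F) ∈ [Cfsg.Lie.chevE6.x F 71 1, Cfsg.Lie.chevE6.x F 68 1 * Cfsg.Lie.chevE6.x F 66 1, Cfsg.Lie.chevE6.x F 55 1 * Cfsg.Lie.chevE6.x F 65 1 * Cfsg.Lie.chevE6.x F 67 1] → ((y₂ : GL Cfsg.Lie.chevE6.Idx F) : Matrix Cfsg.Lie.chevE6.Idx Cfsg.Lie.chevE6.Idx F) ∈ [Cfsg.Lie.chevE6.x F 71 1, Cfsg.Lie.chevE6.x F 68 1 * Cfsg.Lie.chevE6.x F 66 1, Cfsg.Lie.chevE6.x F 55 1 *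 Cfsg.Lie.chevE6.x F 65 1 * Cfsg.Lie.chevE6.x F 67 1] →
      (∃ h ∈ Cfsg.Lie.chevE6.group F, h * y₁ * h⁻¹ = y₂) → ((y₁ : GL Cfsg.Lie.chevE6.Idx F) : Matrix Cfsg.Lie.chevE6.Idx Cfsg.Lie.chevE6.Idx F) = ((y₂ : GL Cfsg.Lie.chevE6.Idx F) : Matrix Cfsg.Lie.chevE6.Idx Cfsg.Lie.chevE6.Idx F)) := by
  obtain ⟨-, hreps, h1, h2, h3⟩ := classes F
  generalize hLs : ([[⟨71, by decide⟩], [⟨68, by decide⟩, ⟨66, by decide⟩], [⟨55, by decide⟩, ⟨65, by decide⟩, ⟨67, by decide⟩]] : List (List (Fin Cfsg.Lie.chevE6.nroots))) = Ls at *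
  have hval : ∀ L : List (Fin Cfsg.Lie.chevE6.nroots),
      ((CfsgLib.Chev.chevE6.el1 L : GL Cfsg.Lie.chevE6.Idx F) : Matrix Cfsg.Lie.chevE6.Idx
        Cfsg.Lie.chevE6.Idx F) = ((L.map Fin.val).map fun r => Cfsg.Lie.chevE6.x F r 1).prod := by
    intro L
    induction L with
    | nil => rfl
    | cons a L ih =>
      rw [List.map_cons, List.map_cons, List.prod_cons, ← ih, CfsgLib.Chev.Alg.x_val CfsgLib.Chev.chevE6.toAlg]
      rfl
  have hM : Ls.map (fun L => ((CfsgLib.Chev.chevE6.el1 L : GL Cfsg.Lie.chevE6.Idx F) :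
      Matrix Cfsg.Lie.chevE6.Idx Cfsg.Lie.chevE6.Idx F)) = [Cfsg.Lie.chevE6.x F 71 1,
        Cfsg.Lie.chevE6.x F 68 1 * Cfsg.Lie.chevE6.x F 66 1,
        Cfsg.Lie.chevE6.x F 55 1 * Cfsg.Lie.chevE6.x F 65 1 * Cfsg.Lie.chevE6.x F 67 1] := by
    simp only [hval]
    have e := congrArg (List.map fun R : List ℕ => (R.map fun r => Cfsg.Lie.chevE6.x F r (1 : F)).prod) hreps
    rw [List.map_map] at e
    refine e.trans ?_
    simp [CfsgLib.Chev.repsE6, mul_assoc]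
  rw [← hM]
  refine ⟨fun y hy => ?_, fun g hg ho => ?_, fun y₁ _ y₂ _ hy₁ hy₂ => ?_⟩
  · obtain ⟨L, hL, e⟩ := List.mem_map.1 hy
    rw [← Units.ext e]
    exact h1 L hL
  · obtain ⟨L, hL, hc⟩ := h2 g hg ho
    exact ⟨_, (h1 L hL).1, List.mem_map.2 ⟨L, hL, rfl⟩, hc⟩
  · rintro ⟨h, -, hc⟩
    obtain ⟨L, hL, e⟩ := List.mem_map.1 hy₁
    obtain ⟨L', hL', e'⟩ := List.mem_map.1 hy₂
    rw [← Units.ext e, ← Units.ext e'] at hc
    rw [← e, ← e', h3 L hL L' hL' h hc]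

end Cfsg.Agent.S2175
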