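import Cfsg.Statements.S2177
import Cfsg.Agent.Lib.Chev.InvolutionsG2
import Cfsg.Agent.Lib.Chev.RootPairs
-- import your own Cfsg.Agent.* helpers here

set_option autoImplicit false
open Cfsg

namespace Cfsg.Agent.S2177

/-- Conjugacy classes of involutions in the Chevalley group of type G₂ over a finite field F of characteristic two with at least four elements (the matrix group generated by the root elements x_r(t)). In this problem's root numbering for type G₂ (the Chevalley data module; p₁ = a short, p₂ = b long; roots indexed by coefficient vectors in increasing order) let 11 be the highest root 3a + 2b (long) and 9 the short root 2a + b; consider x_{3a+2b}(1) and x_{2a+b}(1). Then: each invertible matrix equal to one of these two products lies in the group and has order 2; every element of order 2 of the group is conjugate in the group to one of them; and no two of them are conjugate in the group (so,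 the two matrices being distinct, the group has exactly two conjugacy classes of involutions). -/
theorem result {F : Type*} [Field F] [Fintype F] [CharP F 2] (hF : 4 ≤ Fintype.card F) :
    (∀ y : GL Cfsg.Lie.chevG2.Idx F, ((y : GL Cfsg.Lie.chevG2.Idx F) : Matrix Cfsg.Lie.chevG2.Idx Cfsg.Lie.chevG2.Idx F) ∈ [Cfsg.Lie.chevG2.x F 11 1, Cfsg.Lie.chevG2.x F 9 1] → y ∈ Cfsg.Lie.chevG2.group F ∧ orderOf y = 2) ∧
    (∀ g ∈ Cfsg.Lie.chevG2.group F, orderOf g = 2 → ∃ y ∈ Cfsg.Lie.chevG2.group F, ((y : GL Cfsg.Lie.chevG2.Idx F) : Matrix Cfsg.Lie.chevG2.Idx Cfsg.Lie.chevG2.Idx F) ∈ [Cfsg.Lie.chevG2.x F 11 1, Cfsg.Lie.chevG2.x F 9 1] ∧ ∃ h ∈ Cfsg.Lie.chevG2.group F, h * g * h⁻¹ = y) ∧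
    (∀ y₁ ∈ Cfsg.Lie.chevG2.group F, ∀ y₂ ∈ Cfsg.Lie.chevG2.group F, ((y₁ : GL Cfsg.Lie.chevG2.Idx F) : Matrix Cfsg.Lie.chevG2.Idx Cfsg.Lie.chevG2.Idx F) ∈ [Cfsg.Lie.chevG2.x F 11 1, Cfsg.Lie.chevG2.x F 9 1] → ((y₂ : GL Cfsg.Lie.chevG2.Idx F) : Matrix Cfsg.Lie.chevG2.Idx Cfsg.Lie.chevG2.Idx F) ∈ [Cfsg.Lie.chevG2.x F 11 1, Cfsg.Lie.chevG2.x F 9 1] →
      (∃ h ∈ Cfsg.Lie.chevG2.group F, h * y₁ * h⁻¹ = y₂) → ((y₁ : GL Cfsg.Lie.chevG2.Idx F) : Matrix Cfsg.Lie.chevG2.Idx Cfsg.Lie.chevG2.Idx F) = ((y₂ : GL Cfsg.Lie.chevG2.Idx F) : Matrix Cfsg.Lie.chevG2.Idx Cfsg.Lie.chevG2.Idx F)) := by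
  let Φ := CfsgLib.Chev.chevG2
  have hz : ∀ y : GL Cfsg.Lie.chevG2.Idx F, ((y : GL Cfsg.Lie.chevG2.Idx F) : Matrix Cfsg.Lie.chevG2.Idx Cfsg.Lie.chevG2.Idx F) ∈ [Cfsg.Lie.chevG2.x F 11 1, Cfsg.Lie.chevG2.x F 9 1] →
      y = Φ.toAlg.xg (CfsgLib.Chev.Chev.rtG2 11 (by decide)) 1 ∨
        y = Φ.toAlg.xg (CfsgLib.Chev.Chev.rtG2 9 (by decide)) 1 := by
    intro y hy
    simp only [List.mem_cons, List.not_mem_nil, or_false] at hy
    rcases hy with e | e
    · exact Or.inl ((Φ.toAlg.eq_xg_iff (r := CfsgLib.Chev.Chev.rtG2 11 (by decide))).1 e)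
    · exact Or.inr ((Φ.toAlg.eq_xg_iff (r := CfsgLib.Chev.Chev.rtG2 9 (by decide))).1 e)
  refine ⟨fun y hy => ?_, fun g hg hord => ?_, ?_⟩
  · rcases hz y hy with rfl | rfl <;>
      exact ⟨Φ.toAlg.xg_mem_group _ _, orderOf_eq_prime (by rw [pow_two, Φ.xg_add_self])
        (by rw [Ne, Φ.toAlg.xg_eq_one_iff]; exact one_ne_zero)⟩
  · have h2 : g * g = 1 := by rw [← pow_two, ← hord, pow_orderOf_eq_one]
    have hne : g ≠ 1 := fun e => by rw [e, orderOf_one] at hord; omega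
    rcases Φ.involution_cases hg h2 hne with ⟨h, hh, e⟩ | ⟨h, hh, e⟩
    · exact ⟨_, Φ.toAlg.xg_mem_group _ _, List.mem_cons_of_mem _ (List.mem_cons.2 (Or.inl (Φ.toAlg.x_val _ _).symm)), h, hh, e⟩
    · exact ⟨_, Φ.toAlg.xg_mem_group _ _, List.mem_cons.2 (Or.inl (Φ.toAlg.x_val _ _).symm), h, hh, e⟩
  · intro y₁ _ y₂ _ h1 h2 hconj
    obtain ⟨h, hh, e⟩ := hconj
    rcases hz y₁ h1 with rfl | rfl <;> rcases hz y₂ h2 with rfl | rfl
    · rfl
    · exact (Φ.long_not_short ⟨h, hh, e⟩).elim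
    · exact (Φ.long_not_short ⟨h⁻¹, inv_mem hh, by rw [← e]; group⟩).elim
    · rfl

end Cfsg.Agent.S2177
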