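import Cfsg.Statements.S2181
import Cfsg.Agent.Lib.Chev.InvClass.Classes
import Cfsg.Agent.Lib.Chev.InvClass.Data
import Cfsg.Agent.Lib.Chev.InvClass.LacedData

set_option autoImplicit false
open Cfsg

namespace Cfsg.Agent.S2181

open CfsgLib.Chev in
/-- The classes from the certificate. -/
theorem classes (F : Type*) [Field F] [Finite F] [CharP F 2] :
    let Ls : List (List (Fin Cfsg.Lie.chevE7.nroots)) := [[⟨125, by decide⟩], [⟨125, by decide⟩, ⟨92, by decide⟩], [⟨125, by decide⟩, ⟨92, by decide⟩, ⟨63, by decide⟩], [⟨125, by decide⟩, ⟨92, by decide⟩, ⟨87, by decide⟩], [⟨125, by decide⟩, ⟨92, by decide⟩, ⟨63, by decide⟩, ⟨87, by decide⟩]]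
    Ls.Nodup ∧ Ls.map (fun L => L.map Fin.val) = repsE7 ∧
    ((∀ L ∈ Ls, (chevE7.el1 L : GL Cfsg.Lie.chevE7.Idx F) ∈ Cfsg.Lie.chevE7.group F ∧
        orderOf (chevE7.el1 L : GL Cfsg.Lie.chevE7.Idx F) = 2) ∧
      (∀ g ∈ Cfsg.Lie.chevE7.group F, orderOf g = 2 → ∃ L ∈ Ls,
        ∃ h ∈ Cfsg.Lie.chevE7.group F, h * g * h⁻¹ = (chevE7.el1 L : GL Cfsg.Lie.chevE7.Idx F)) ∧
      (∀ L ∈ Ls, ∀ L' ∈ Ls, ∀ h : GL Cfsg.Lie.chevE7.Idx F,
        h * chevE7.el1 L * h⁻¹ = chevE7.el1 L' → L = L')) := by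
  intro Ls
  have hrk : Ls.map (fun L => (((chevE7.el1 L : GL Cfsg.Lie.chevE7.Idx F) :
      Matrix Cfsg.Lie.chevE7.Idx Cfsg.Lie.chevE7.Idx F) - 1).rank) = [34, 52, 53, 62, 63] := by
    simp only [Ls, List.map_cons, List.map_nil]
    refine List.ext_getElem (by rfl) fun i h1 h2 => ?_
    match i, h1 with
    | 0, _ => exact (packE7.rank_el1 (F := F) (L := [⟨125, by decide⟩]) rankE7_0).trans pivE7_0_length
    | 1, _ => exact (packE7.rank_el1 (F := F) (L := [⟨125, by decide⟩, ⟨92, by decide⟩]) rankE7_1).trans pivE7_1_length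
    | 2, _ => exact (packE7.rank_el1 (F := F) (L := [⟨125, by decide⟩, ⟨92, by decide⟩, ⟨63, by decide⟩]) rankE7_2).trans pivE7_2_length
    | 3, _ => exact (packE7.rank_el1 (F := F) (L := [⟨125, by decide⟩, ⟨92, by decide⟩, ⟨87, by decide⟩]) rankE7_3).trans pivE7_3_length
    | 4, _ => exact (packE7.rank_el1 (F := F) (L := [⟨125, by decide⟩, ⟨92, by decide⟩, ⟨63, by decide⟩, ⟨87, by decide⟩]) rankE7_4).trans pivE7_4_length
    | n + 5, h => exact absurd h (by simp)
  refine ⟨by decide, rfl, packE7.involution_classes lacedE7 certE7_ok chainE7 chainE7_all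
    chainE7_ok Ls rfl (by decide +kernel) _ (fun L _ => rfl) (fun L hL h0 => ?_) ?_⟩
  · have : (0 : ℕ) ∈ ([34, 52, 53, 62, 63] : List ℕ) := hrk ▸ List.mem_map.2 ⟨L, hL, h0⟩
    exact absurd this (by decide)
  · exact (congrArg List.Nodup hrk).mpr (by decide)

/-- The Chevalley group of type E₇ over a finite field of characteristic two (the matrix group generated by the root elements) has exactly five conjugacy classes of elements of order 2. -/
theorem result {F : Type*} [Field F] [Fintype F] [CharP F 2] :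
    (ConjClasses.mk '' {g : ↥(Cfsg.Lie.chevE7.group F) | orderOf g = 2}).ncard = 5 := by
  obtain ⟨hnd, -, h⟩ := classes F
  exact CfsgLib.Chev.packE7.involution_classes_ncard _ hnd h

end Cfsg.Agent.S2181
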