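import Cfsg.Statements.S2186
import Cfsg.Agent.Lib.Chev.RootPairs
import Cfsg.Agent.Lib.Chev.Inst
-- import your own Cfsg.Agent.* helpers here

set_option autoImplicit false
open Cfsg
set_option maxRecDepth 100000

namespace Cfsg.Agent.S2186

/-- The two conjugates lemma with natural number indices. -/
theorem key {F : Type*} [Field F] [CharP F 2] {D : Cfsg.Lie.ChevalleyDatum} (Φ : CfsgLib.Chev.Chev D)
    (hn : D.nroots - 1 < D.nroots) (L : List ℕ)
    (he : CfsgLib.Chev.Chev.evenComm D ⟨D.nroots - 1, hn⟩ = true)
    (hok : CfsgLib.Chev.Chev.orbitCheck D (D.nroots - 1) L = true) {g : GL D.Idx F} (hg : g ∈ D.group F) :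
    IsPGroup 2 ↥(D.rootSubgroup F (D.nroots - 1) ⊔ (D.rootSubgroup F (D.nroots - 1)).map (MulAut.conj g).toMonoidHom) ∨
    ∃ h ∈ D.group F, (D.rootSubgroup F (D.nroots - 1) ⊔ (D.rootSubgroup F (D.nroots - 1)).map (MulAut.conj g).toMonoidHom).map (MulAut.conj h).toMonoidHom = D.rootSubgroup F (D.nroots - 1) ⊔ D.rootSubgroup F 0 := by
  have h := Φ.two_conjugates (h := ⟨D.nroots - 1, hn⟩) (show D.nroots ≤ 2 * (D.nroots - 1) by
    have := Φ.toSys.even; omega) he hok hg
  have e : (⟨D.nroots - 1, hn⟩ : Fin D.nroots).rev.val = 0 := by simp [Fin.val_rev]; omega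
  rwa [e] at h


set_option maxHeartbeats 1600000 in
/-- Let G be the Chevalley group of type G₂ (over a field with at least four elements), D₄, E₆, E₇ or E₈ over a finite field F of characteristic two, and let X be the root subgroup of the highest root (the last root index) — a long root subgroup, of order |F|. For every g in G, the subgroup generated by X and its conjugate g X g⁻¹ is either a 2-group or is conjugate by an element of G to the subgroup generated by X and the root subgroup of the lowest root (index 0, the negative of the highest root), which is a copy of SL₂(F). -/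
theorem result {F : Type*} [Field F] [Fintype F] [CharP F 2] (D : Cfsg.Lie.ChevalleyDatum) (hD : D ∈ [Cfsg.Lie.chevG2, Cfsg.Lie.chevD4, Cfsg.Lie.chevE6, Cfsg.Lie.chevE7, Cfsg.Lie.chevE8]) (hF : D = Cfsg.Lie.chevG2 → 4 ≤ Fintype.card F) (g : GL D.Idx F) (hg : g ∈ D.group F) :
    IsPGroup 2 ↥(D.rootSubgroup F (D.nroots - 1) ⊔ (D.rootSubgroup F (D.nroots - 1)).map (MulAut.conj g).toMonoidHom) ∨
    ∃ h ∈ D.group F, (D.rootSubgroup F (D.nroots - 1) ⊔ (D.rootSubgroup F (D.nroots - 1)).map (MulAut.conj g).toMonoidHom).map (MulAut.conj h).toMonoidHom = D.rootSubgroup F (D.nroots - 1) ⊔ D.rootSubgroup F 0 := by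
  simp only [List.mem_cons, List.not_mem_nil, or_false] at hD
  rcases hD with rfl | rfl | rfl | rfl | rfl
  · exact key CfsgLib.Chev.chevG2 (by decide) [0, 1, 5, 6, 10, 11] (by decide +kernel) (by decide +kernel) hg
  · exact key CfsgLib.Chev.chevD4 (by decide) (List.range 24) (by decide +kernel) (by decide +kernel) hg
  · exact key CfsgLib.Chev.chevE6 (by decide) (List.range 72) (by decide +kernel) (by decide +kernel) hg
  · exact key CfsgLib.Chev.chevE7 (by decide) (List.range 126) (by decide +kernel) (by decide +kernel) hg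
  · exact key CfsgLib.Chev.chevE8 (by decide) (List.range 240) (by decide +kernel) (by decide +kernel) hg

end Cfsg.Agent.S2186
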