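import Cfsg.Statements.S2189
import Cfsg.Agent.Lib.Chev.SubfieldMax.Final
import Mathlib.FieldTheory.Perfect
import Mathlib.FieldTheory.Finite.GaloisField

set_option autoImplicit false
open Cfsg

namespace Cfsg.Agent.S2189

/-- Finite subgroups of an adjoint Chevalley group over an algebraically closed field that contain the group over a finite subfield. Let k be an algebraically closed field of prime characteristic p, G the Chevalley group of type G₂, B₂, D₄, F₄, E₆, E₇ or E₈ over k (the matrix group generated by the root elements x_s(t), t ∈ k), and q = p^a with a ≥ 1. Let L be the subgroup generated by the root elements x_s(t) with t^q = t (the Chevalley group over the field of q elements inside G), and let M be a finite subgroup of G containing L. Then for some r ≥ 1, M contains every root element x_s(t) with t^(q^r) = t and every element of M is a matrix all of whose entries c satisfy c^(q^r) = c (so M lies between the Chevalley group over the field with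 q^r elements and the group of points of G fixed by the q^r-th power map). -/
theorem result {k : Type*} [Field k] [IsAlgClosed k] (p : ℕ) [Fact p.Prime] [CharP k p] (D : Cfsg.Lie.ChevalleyDatum) (hD : D ∈ [Cfsg.Lie.chevG2, Cfsg.Lie.chevB2, Cfsg.Lie.chevD4, Cfsg.Lie.chevF4, Cfsg.Lie.chevE6, Cfsg.Lie.chevE7, Cfsg.Lie.chevE8]) (a : ℕ) (ha : 1 ≤ a) (M : Subgroup (GL D.Idx k)) (hMfin : Finite ↥M) (hMG : M ≤ D.group k)
    (hLM : Subgroup.closure {g : GL D.Idx k | ∃ (s : ℕ) (t : k), t ^ (p ^ a) = t ∧ (g : Matrix D.Idx D.Idx k) = D.x k s t} ≤ M) :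
    ∃ r : ℕ, 1 ≤ r ∧ Subgroup.closure {g : GL D.Idx k | ∃ (s : ℕ) (t : k), t ^ ((p ^ a) ^ r) = t ∧ (g : Matrix D.Idx D.Idx k) = D.x k s t} ≤ M ∧
      ∀ g ∈ M, ∀ i j : D.Idx, ((g : Matrix D.Idx D.Idx k) i j) ^ ((p ^ a) ^ r) = (g : Matrix D.Idx D.Idx k) i j := by
  classical
  haveI : ExpChar k p := ExpChar.prime Fact.out
  have hq : 1 < p ^ a := Nat.one_lt_pow (by omega) (Fact.out : p.Prime).one_lt
  let gen : ℕ → Subgroup (GL D.Idx k) := fun r => Subgroup.closure
    {g : GL D.Idx k | ∃ (s : ℕ) (t : k), t ^ ((p ^ a) ^ r) = t ∧ (g : Matrix D.Idx D.Idx k) = D.x k s t}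
  let σ : ℕ → (k ≃+* k) := fun r => iterateFrobeniusEquiv k p (a * r)
  have hσ : ∀ r x, σ r x = x ^ (p ^ a) ^ r := fun r x => by
    rw [← pow_mul]; exact iterateFrobeniusEquiv_def k p (a * r) x
  have hroots : ∀ Q : ℕ, 1 < Q → p ∣ Q →
      {x : k | x ^ Q = x}.Finite ∧ Nat.card {x : k | x ^ Q = x} = Q := by
    intro Q hQ hdvd
    set P : Polynomial k := Polynomial.X ^ Q - Polynomial.X with hP
    have hP0 : P ≠ 0 := FiniteField.X_pow_card_sub_X_ne_zero k hQ
    have e : {x : k | x ^ Q = x} = P.rootSet k := by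
      ext x
      rw [Set.mem_ofPred_eq, Polynomial.mem_rootSet_of_ne hP0]
      simp [hP, sub_eq_zero]
    rw [e]
    refine ⟨(P.rootSet k).toFinite, ?_⟩
    rw [Nat.card_eq_fintype_card, Polynomial.card_rootSet_eq_natDegree (galois_poly_separable p Q hdvd)
      (IsAlgClosed.splits _), FiniteField.X_pow_card_sub_X_natDegree_eq k hQ]
  have hQ1 : ∀ r, 1 ≤ r → 1 < (p ^ a) ^ r ∧ p ∣ (p ^ a) ^ r := fun r hr =>
    ⟨Nat.one_lt_pow (by omega) hq, dvd_pow (dvd_pow_self p (by omega)) (by omega)⟩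
  obtain ⟨Φ, -⟩ := CfsgLib.Chev.exists_subfieldData (K := k) (σ := σ 1) p hD
  obtain ⟨h0, g0, hhg, -⟩ := (CfsgLib.Chev.exists_subfieldData (K := k) (σ := σ 1) p hD).choose_spec.high
  obtain ⟨hh0, -, -⟩ := (CfsgLib.Chev.exists_subfieldData (K := k) (σ := σ 1) p hD).choose.high_of_cert hhg
  have hgen : ∀ r, ∀ (s : Fin D.nroots) (t : k), t ^ ((p ^ a) ^ r) = t →
      Φ.toAlg.xg s t ∈ gen r := fun r s t ht =>
    Subgroup.subset_closure ⟨s.val, t, ht, (Φ.toAlg.x_val s t).symm⟩
  haveI := hMfin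
  -- the greatest field inside
  have hbound : ∀ r, 1 ≤ r → gen r ≤ M → r ≤ Nat.card ↥M := by
    intro r hr hle
    obtain ⟨hfin, hcard⟩ := hroots _ (hQ1 r hr).1 (hQ1 r hr).2
    haveI := hfin.to_subtype
    have h1 : Nat.card {x : k | x ^ (p ^ a) ^ r = x} ≤ Nat.card ↥M :=
      Nat.card_le_card_of_injective
        (fun x : {x : k | x ^ (p ^ a) ^ r = x} =>
          (⟨Φ.toAlg.xg ⟨h0, hh0⟩ x.1, hle (hgen r _ _ x.2)⟩ : ↥M))
        fun x y e => Subtype.ext (Φ.toAlg.xg_injective _ (congrArg Subtype.val e))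
    rw [hcard] at h1
    exact (Nat.lt_pow_self hq).le.trans h1
  have hS1 : gen 1 ≤ M := by simpa [gen] using hLM
  set r := Nat.findGreatest (fun r => gen r ≤ M) (Nat.card ↥M) with hrdef
  have hr1 : 1 ≤ r := Nat.le_findGreatest (hbound 1 le_rfl hS1) hS1
  have hrM : gen r ≤ M := Nat.findGreatest_spec (P := fun r => gen r ≤ M) (hbound 1 le_rfl hS1) hS1
  refine ⟨r, hr1, hrM, ?_⟩
  obtain ⟨Ψ, hdata⟩ := CfsgLib.Chev.exists_subfieldData (K := k) (σ := σ r) p hD
  have hgen' : ∀ r, ∀ (s : Fin D.nroots) (t : k), t ^ ((p ^ a) ^ r) = t →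
      Ψ.toAlg.xg s t ∈ gen r := fun r s t ht =>
    Subgroup.subset_closure ⟨s.val, t, ht, (Ψ.toAlg.x_val s t).symm⟩
  have hrat : Ψ.ratE (σ r) ≤ M := by
    rw [CfsgLib.Chev.Chev.ratE, Subgroup.closure_le]
    rintro _ ⟨s, t, ht, rfl⟩
    exact hrM (hgen' r s t (by rw [← hσ]; exact ht))
  have hfixset : {x : k | σ r x = x} = {x : k | x ^ (p ^ a) ^ r = x} := by
    ext x; simp [hσ]
  obtain ⟨hfin0, hcard0⟩ := hroots _ (hQ1 r hr1).1 (hQ1 r hr1).2
  have hfin : {x : k | σ r x = x}.Finite := hfixset ▸ hfin0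
  -- no irrational root element
  have hroot : ∀ (s : Fin D.nroots) (t : k), Ψ.toAlg.xg s t ∈ M → σ r t = t := by
    by_contra hcon
    push Not at hcon
    obtain ⟨s, t, ht, hσt⟩ := hcon
    obtain ⟨L, ⟨hL1, ⟨x0, hx0, hx0'⟩, hinv⟩, hL⟩ := hdata.root M hMfin hrat s t ht hσt
    haveI : Finite L := Finite.of_injective
      (fun x : L => (⟨Ψ.toAlg.xg ⟨h0, hh0⟩ x.1, hL _ _ x.2⟩ : ↥M))
      fun x y e => Subtype.ext (Ψ.toAlg.xg_injective _ (congrArg Subtype.val e))
    let F := RingHom.eqLocusField (σ r).toRingHom (RingHom.id k)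
    let L' : Subfield k := { L with inv_mem' := hinv }
    have hFL : F ≤ L' := fun x hx => hL1 x hx
    letI : Algebra F L' := (Subfield.inclusion hFL).toAlgebra
    haveI : Finite L' := ‹Finite L›
    haveI : Finite F := hfin.to_subtype
    haveI : Fintype L' := Fintype.ofFinite _
    haveI : Fintype F := Fintype.ofFinite _
    have hcF : Fintype.card F = (p ^ a) ^ r := by
      rw [← Nat.card_eq_fintype_card]
      exact (Nat.card_congr (Equiv.setCongr (hfixset))).trans hcard0
    set j := Module.finrank F L'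
    have hcL : Fintype.card L' = ((p ^ a) ^ r) ^ j := by
      rw [← hcF]; exact Module.card_eq_pow_finrank
    have hlt : (p ^ a) ^ r < Fintype.card L' := by
      rw [← hcF]
      refine Fintype.card_lt_of_injective_of_notMem (fun x : F => (⟨x.1, hFL x.2⟩ : L'))
        (fun x y e => Subtype.ext (congrArg (fun z : L' => z.1) e)) (b := ⟨x0, hx0⟩) ?_
      rintro ⟨y, hy⟩
      have e : y.1 = x0 := congrArg (fun z : L' => z.1) hy
      exact hx0' (e ▸ y.2)
    have hj : 2 ≤ j := by
      by_contra hj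
      have : ((p ^ a) ^ r) ^ j ≤ ((p ^ a) ^ r) ^ 1 :=
        Nat.pow_le_pow_right (Nat.pos_of_ne_zero (by positivity)) (by omega)
      rw [pow_one, ← hcL] at this
      omega
    rw [← pow_mul] at hcL
    -- the field `L` is the field of roots
    obtain ⟨hfinj, hcardj⟩ := hroots _ (hQ1 (r * j) (by nlinarith)).1 (hQ1 (r * j) (by nlinarith)).2
    haveI := hfinj.to_subtype
    have hsub : ∀ x : L', (x : k) ^ (p ^ a) ^ (r * j) = x := fun x => by
      rw [← hcL, ← SubmonoidClass.coe_pow, FiniteField.pow_card]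
    have heq : (L' : Set k) = {x : k | x ^ (p ^ a) ^ (r * j) = x} := by
      refine Set.eq_of_subset_of_ncard_le (fun x hx => hsub ⟨x, hx⟩) (le_of_eq ?_) hfinj
      rw [← Nat.card_coe_set_eq, ← Nat.card_coe_set_eq, hcardj, ← hcL, ← Nat.card_eq_fintype_card]
      rfl
    have hbig : gen (r * j) ≤ M := by
      rw [Subgroup.closure_le]
      rintro g ⟨s', t', ht', hg⟩
      by_cases hs : s' < D.nroots
      · have e : g = Ψ.toAlg.xg ⟨s', hs⟩ t' := Units.ext (hg.trans (Ψ.toAlg.x_val ⟨s', hs⟩ t'))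
        rw [e]
        exact hL _ _ (show t' ∈ (L' : Set k) by rw [heq]; exact ht')
      · have e : g = 1 := Units.ext (by rw [hg, Cfsg.Lie.ChevalleyDatum.x, dif_neg hs]; rfl)
        rw [e]; exact one_mem _
    have := Nat.le_findGreatest (P := fun r => gen r ≤ M) (hbound _ (by nlinarith) hbig) hbig
    rw [← hrdef] at this
    nlinarith
  have hle := CfsgLib.Chev.le_rat_of_no_root p hdata hfin hrat hMG hroot
  intro g hg i j
  have h2 : CfsgLib.Chev.fr (σ r) g = g := (hle hg).2
  rw [← hσ]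
  exact congrArg (fun g : GL D.Idx k => (g : Matrix D.Idx D.Idx k) i j) h2

end Cfsg.Agent.S2189
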