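import Cfsg.Statements.S2190
import Cfsg.Agent.Lib.Chev.SubfieldMax.Final
import Mathlib.FieldTheory.Fixed
import Mathlib.FieldTheory.Perfect

set_option autoImplicit false
open Cfsg

namespace Cfsg.Agent.S2190

/-- Subfield subgroups of prime degree are maximal. Let K be a finite field with q^r elements, r a prime, q a power of the characteristic, and G the Chevalley group of type G₂, B₂, D₄, F₄, E₆, E₇ or E₈ over K (the matrix group generated by the root elements). Let M be the subgroup of G consisting of the matrices all of whose entries lie in the subfield with q elements (entries c with c^q = c). Then M is a proper subgroup of G and is maximal: every subgroup of G containing M is M or G. -/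
theorem result {K : Type*} [Field K] [Fintype K] (p : ℕ) [Fact p.Prime] [CharP K p] (D : Cfsg.Lie.ChevalleyDatum) (hD : D ∈ [Cfsg.Lie.chevG2, Cfsg.Lie.chevB2, Cfsg.Lie.chevD4, Cfsg.Lie.chevF4, Cfsg.Lie.chevE6, Cfsg.Lie.chevE7, Cfsg.Lie.chevE8]) (a r : ℕ) (ha : 1 ≤ a) (hr : r.Prime) (hK : Fintype.card K = (p ^ a) ^ r) (M : Subgroup (GL D.Idx K))
    (hM : ∀ g : GL D.Idx K, g ∈ M ↔ g ∈ D.group K ∧ ∀ i j : D.Idx, ((g : Matrix D.Idx D.Idx K) i j) ^ (p ^ a) = (g : Matrix D.Idx D.Idx K) i j) :
    M ≠ D.group K ∧ ∀ H : Subgroup (GL D.Idx K), M ≤ H → H ≤ D.group K → H = M ∨ H = D.group K := by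
  classical
  haveI : Finite K := Finite.of_fintype K
  set σ : K ≃+* K := iterateFrobeniusEquiv K p a with hσdef
  have hσ : ∀ x : K, σ x = x ^ p ^ a := fun x => iterateFrobeniusEquiv_def K p a x
  have hq : 1 < p ^ a := Nat.one_lt_pow (by omega) (Fact.out : p.Prime).one_lt
  -- `σ` moves something
  obtain ⟨t, ht⟩ : ∃ t : K, σ t ≠ t := by
    by_contra hall
    push Not at hall
    have h0 : (Polynomial.X ^ (p ^ a) - Polynomial.X : Polynomial K) ≠ 0 :=
      FiniteField.X_pow_card_sub_X_ne_zero K hq
    have h1 : Fintype.card K ≤ (Polynomial.X ^ (p ^ a) - Polynomial.X : Polynomial K).natDegree := by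
      rw [← Finset.card_univ]
      refine Polynomial.card_le_degree_of_subset_roots (p := _) fun x _ => ?_
      rw [Polynomial.mem_roots h0]
      simp [← hσ, hall x]
    rw [FiniteField.X_pow_card_sub_X_natDegree_eq K hq, hK] at h1
    exact absurd h1 (not_le.2 (lt_self_pow₀ hq hr.one_lt))
  have hne : σ ≠ 1 := fun e => ht (by rw [e]; rfl)
  have hpow : ∀ (n : ℕ) (x : K), (σ ^ n) x = x ^ (p ^ a) ^ n := by
    intro n
    induction n with
    | zero => intro x; simp
    | succ n ih => intro x; rw [pow_succ, RingAut.mul_apply, hσ, ih, ← pow_mul, ← pow_succ']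
  have hord : σ ^ r = 1 := RingEquiv.ext fun x => by
    rw [hpow, ← hK, FiniteField.pow_card]; rfl
  haveI : Fact r.Prime := ⟨hr⟩
  have hordr : orderOf σ = r := orderOf_eq_prime hord hne
  -- the fixed field
  have hmax : ∀ L : Subring K, (∀ x, σ x = x → x ∈ L) → (∃ x ∈ L, σ x ≠ x) → L = ⊤ := by
    intro L hL hx
    haveI : Finite (K ≃+* K) := Finite.of_injective _ DFunLike.coe_injective
    haveI : Fintype (K ≃+* K) := Fintype.ofFinite _
    set G := Subgroup.zpowers σ
    haveI : Fintype G := Fintype.ofFinite G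
    set F := FixedPoints.subfield G K
    have hfix : ∀ x : K, x ∈ F ↔ σ x = x := by
      intro x
      constructor
      · intro h; exact h ⟨σ, Subgroup.mem_zpowers σ⟩
      · intro h g
        have : g.1 ∈ MulAction.stabilizer (K ≃+* K) x :=
          Subgroup.zpowers_le.2 (MulAction.mem_stabilizer_iff.2 h) g.2
        exact this
    have hdim : Module.finrank F K = r := by
      rw [FixedPoints.finrank_eq_card G K, ← Nat.card_eq_fintype_card, Nat.card_zpowers, hordr]
    haveI := Subalgebra.isSimpleOrder_of_finrank_prime (F := F) (A := K) (hdim ▸ hr)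
    let S : Subalgebra F K :=
      { L.toSubsemiring with algebraMap_mem' := fun x => hL _ ((hfix _).1 x.2) }
    rcases IsSimpleOrder.eq_bot_or_eq_top S with h | h
    · obtain ⟨x, hxL, hxn⟩ := hx
      have : x ∈ S := hxL
      rw [h, Algebra.mem_bot] at this
      obtain ⟨y, rfl⟩ := this
      exact absurd ((hfix _).1 y.2) hxn
    · refine Subring.ext fun x => ⟨fun _ => Subring.mem_top x, fun _ => ?_⟩
      show x ∈ S
      rw [h]; exact Algebra.mem_top
  obtain ⟨Φ, hdata⟩ := CfsgLib.Chev.exists_subfieldData (K := K) (σ := σ) p hD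
  have hMeq : M = CfsgLib.Chev.Chev.ratG σ := by
    ext g
    rw [hM, CfsgLib.Chev.Chev.mem_ratG]
    refine and_congr_right fun _ => ?_
    simp only [Units.ext_iff, ← Matrix.ext_iff]
    exact forall₂_congr fun i j => by rw [← hσ]; rfl
  subst hMeq
  obtain ⟨h, g, hhg, -⟩ := hdata.high
  obtain ⟨hh, -, -⟩ := Φ.high_of_cert hhg
  constructor
  · intro e
    have h1 : Φ.toAlg.xg ⟨h, hh⟩ t ∈ CfsgLib.Chev.Chev.ratG σ := e.symm ▸ Φ.toAlg.xg_mem_group _ t
    have h2 := h1.2
    change CfsgLib.Chev.fr σ _ = _ at h2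
    rw [Φ.fr_xg] at h2
    exact ht (Φ.toAlg.xg_injective _ h2)
  · intro H hMH hHG
    rcases CfsgLib.Chev.rat_or_group p hdata hmax hMH hHG with h' | h'
    · exact Or.inl (le_antisymm h' hMH)
    · exact Or.inr (le_antisymm hHG h')

end Cfsg.Agent.S2190
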