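import Cfsg.Statements.S2205
import Cfsg.Agent.Lib.DoublyPrimitive.Count
import Cfsg.Agent.Lib.DoublyPrimitive.Large

set_option autoImplicit false
open Cfsg
open scoped Pointwise

namespace Cfsg.Agent.S2205

/-- A finite group acting faithfully and 2-transitively on a set with p² + 1 points, p a prime, is doubly primitive — a point stabilizer acts primitively on the remaining p² points — unless p = 2 and the group is the Frobenius group of order 20. -/
theorem result {G Ω : Type*} [Group G] [Finite G] [Fintype Ω] [MulAction G Ω] [FaithfulSMul G Ω] (p : ℕ) (hp : p.Prime) (hΩ : Fintype.card Ω = p ^ 2 + 1) (h2 : MulAction.IsMultiplyPretransitive G Ω 2) (a : Ω) :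
    MulAction.IsPreprimitive ↥(MulAction.stabilizer G a) ↥(SubMulAction.ofStabilizer G a) ∨ (p = 2 ∧ Nat.card G = 20) := by
  classical
  rw [or_iff_not_imp_left]
  intro hprim
  haveI := Fact.mk hp
  haveI := h2
  haveI hGa : MulAction.IsPretransitive ↥(MulAction.stabilizer G a) ↥(SubMulAction.ofStabilizer G a) := by
    refine ⟨fun x y => ?_⟩
    obtain ⟨g, hga, hgx⟩ := (MulAction.is_two_pretransitive_iff.mp h2) (Ne.symm x.2) (Ne.symm y.2)
    exact ⟨⟨g, hga⟩, Subtype.ext hgx⟩
  obtain ⟨B, hB, hnt⟩ : ∃ B : Set ↥(SubMulAction.ofStabilizer G a), MulAction.IsBlock ↥(MulAction.stabilizer G a) B ∧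
      ¬ MulAction.IsTrivialBlock B := by
    by_contra hno
    push Not at hno
    exact hprim ⟨fun {B} hB => hno B hB⟩
  obtain ⟨b0, hb0⟩ : B.Nonempty := by
    by_contra h
    rw [Set.not_nonempty_iff_eq_empty] at h
    exact hnt (Or.inl (h ▸ Set.subsingleton_empty))
  have hcard : Nat.card ↥(SubMulAction.ofStabilizer G a) = p ^ 2 := by
    rw [show Nat.card ↥(SubMulAction.ofStabilizer G a) = Nat.card ↥({a}ᶜ : Set Ω) from rfl, Nat.card_coe_set_eq,
      Set.ncard_compl, Nat.card_eq_fintype_card, hΩ, Set.ncard_singleton, Nat.add_sub_cancel]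
  have hBp : B.ncard = p := by
    obtain ⟨m, hm, he⟩ := (Nat.dvd_prime_pow hp).mp (hcard ▸ hB.ncard_dvd_card ⟨b0, hb0⟩)
    interval_cases m
    · rw [pow_zero, Set.ncard_eq_one] at he
      obtain ⟨z, rfl⟩ := he
      exact absurd (Or.inl Set.subsingleton_singleton) hnt
    · rwa [pow_one] at he
    · refine absurd (Or.inr (Set.eq_of_subset_of_ncard_le (Set.subset_univ B) ?_ (Set.toFinite _))) hnt
      rw [Set.ncard_univ, hcard, he]
  set B0 : Finset Ω := Finset.univ.filter fun z => ∃ h : z ∈ SubMulAction.ofStabilizer G a, (⟨z, h⟩ : ↥(SubMulAction.ofStabilizer G a)) ∈ B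
  have hmem : ∀ z, z ∈ B0 ↔ ∃ h : z ∈ SubMulAction.ofStabilizer G a, (⟨z, h⟩ : ↥(SubMulAction.ofStabilizer G a)) ∈ B := fun z => by
    simp [B0]
  have hb : (b0 : Ω) ∈ B0 := (hmem _).mpr ⟨b0.2, hb0⟩
  have hne : ∀ z ∈ B0, a ≠ z := fun z hz => Ne.symm ((hmem z).mp hz).1
  have hsize : B0.card = p := by
    rw [← hBp, ← Set.ncard_coe_finset, ← Set.ncard_image_of_injective B Subtype.val_injective]
    congr 1
    ext z
    rw [Finset.mem_coe, hmem]
    constructor
    · rintro ⟨h, hz⟩; exact ⟨_, hz, rfl⟩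
    · rintro ⟨w, hw, rfl⟩; exact ⟨w.2, hw⟩
  have hstab : ∀ g : G, g • a = a → ∀ z ∈ B0, g • z ∈ B0 → ∀ w ∈ B0, g • w ∈ B0 := by
    intro g hga z hz hgz w hw
    obtain ⟨hz', hzB⟩ := (hmem z).mp hz
    obtain ⟨hgz', hgzB⟩ := (hmem _).mp hgz
    obtain ⟨hw', hwB⟩ := (hmem w).mp hw
    have h1 : (⟨g, hga⟩ : ↥(MulAction.stabilizer G a)) • B = B :=
      hB.smul_eq_of_mem (a := ⟨z, hz'⟩) hzB (by exact hgzB)
    have h3 : (⟨g, hga⟩ : ↥(MulAction.stabilizer G a)) • (⟨w, hw'⟩ : ↥(SubMulAction.ofStabilizer G a)) ∈ B :=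
      h1 ▸ Set.smul_mem_smul_set hwB
    exact (hmem _).mpr ⟨_, h3⟩
  have hex : ∀ x y : Ω, x ≠ y → ∃ g : G, g • a = x ∧ g • (b0 : Ω) = y := fun x y hxy =>
    (MulAction.is_two_pretransitive_iff.mp h2) (Ne.symm b0.2) hxy
  choose t ht1 ht2 using hex
  let bl : Ω → Ω → Finset Ω := fun x y => if h : x ≠ y then B0.image (t x y h • ·) else ∅
  have hbl : ∀ (g : G) (x y : Ω), g • a = x → g • (b0 : Ω) = y → bl x y = B0.image (g • ·) := by
    intro g x y hx hy
    have hxy : x ≠ y := fun e => b0.2 (smul_left_cancel g (by rw [hy, ← e, hx]))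
    simp only [bl, dif_pos hxy]
    set u := t x y hxy
    have hua : (g⁻¹ * u) • a = a := by rw [mul_smul, ht1, ← hx, inv_smul_smul]
    have hub : (g⁻¹ * u) • (b0 : Ω) = b0 := by rw [mul_smul, ht2, ← hy, inv_smul_smul]
    refine Finset.eq_of_subset_of_card_le (fun z hz => ?_) ?_
    · obtain ⟨w, hw, rfl⟩ := Finset.mem_image.mp hz
      exact Finset.mem_image.mpr ⟨(g⁻¹ * u) • w, hstab _ hua _ hb (hub.symm ▸ hb) w hw, by rw [mul_smul, smul_inv_smul]⟩
    · rw [Finset.card_image_of_injective _ (MulAction.injective g), Finset.card_image_of_injective _ (MulAction.injective _)]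
  let S : CfsgLib.DoublyPrim.Sys G Ω p :=
    { bl := bl
      prime := hp
      two := h2
      card := hΩ
      self_mem := fun x y hxy => by
        rw [hbl (t x y hxy) x y (ht1 x y hxy) (ht2 x y hxy)]
        exact Finset.mem_image.mpr ⟨_, hb, ht2 x y hxy⟩
      notMem := fun x y hxy hx => by
        rw [hbl (t x y hxy) x y (ht1 x y hxy) (ht2 x y hxy)] at hx
        obtain ⟨w, hw, e⟩ := Finset.mem_image.mp hx
        exact hne w hw (smul_left_cancel _ ((ht1 x y hxy).trans e.symm))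
      eq := fun x y z hxy hz => by
        rw [hbl (t x y hxy) x y (ht1 x y hxy) (ht2 x y hxy)] at hz ⊢
        obtain ⟨w, hw, rfl⟩ := Finset.mem_image.mp hz
        obtain ⟨h, hha, hhb⟩ := (MulAction.is_two_pretransitive_iff.mp h2) (Ne.symm b0.2) (hne w hw)
        rw [hbl (t x y hxy * h) _ _ (by rw [mul_smul, hha, ht1]) (by rw [mul_smul, hhb])]
        refine Finset.eq_of_subset_of_card_le (fun v hv => ?_) ?_
        · obtain ⟨v', hv', rfl⟩ := Finset.mem_image.mp hv
          exact Finset.mem_image.mpr ⟨h • v', hstab h hha _ hb (hhb.symm ▸ hw) v' hv', (mul_smul _ _ _).symm⟩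
        · rw [Finset.card_image_of_injective _ (MulAction.injective _), Finset.card_image_of_injective _ (MulAction.injective _)]
      size := fun x y hxy => by
        rw [hbl (t x y hxy) x y (ht1 x y hxy) (ht2 x y hxy), Finset.card_image_of_injective _ (MulAction.injective _), hsize]
      equiv := fun g x y z hxy hz => by
        rw [hbl (t x y hxy) x y (ht1 x y hxy) (ht2 x y hxy)] at hz
        obtain ⟨w, hw, rfl⟩ := Finset.mem_image.mp hz
        rw [hbl (g * t x y hxy) _ _ (by rw [mul_smul, ht1]) (by rw [mul_smul, ht2])]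
        exact Finset.mem_image.mpr ⟨w, hw, mul_smul _ _ _⟩ }
  by_cases hp2 : p = 2
  · exact ⟨hp2, S.card_twenty hp2⟩
  exfalso
  have hab : a ≠ (b0 : Ω) := Ne.symm b0.2
  by_cases hW : S.W a b0 = ⊥
  · exact S.regular_false hp2 hab fun g hg hgb => (Subgroup.eq_bot_iff_forall _).mp hW g (S.mem_W.mpr ⟨hg, hgb⟩)
  · exact S.nonregular_false hab hW

end Cfsg.Agent.S2205
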