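import Cfsg.Statements.S2214
import Cfsg.Agent.Lib.Chev.CentralizerFinite
import Cfsg.Agent.Lib.Chev.SteinbergData
-- import your own Cfsg.Agent.* helpers here

set_option autoImplicit false
open Cfsg

namespace Cfsg.Agent.S2214

/-- Let k be an algebraically closed field of prime characteristic p, G the adjoint Chevalley group of type G₂, B₂, D₄, F₄, E₆, E₇ or E₈ over k (the matrix group generated by the root elements x_s(t), t ∈ k, acting on the Lie algebra), q = p^a with a ≥ 1, and K a subgroup of G containing every root element x_s(t) with t^q = t and consisting of matrices all of whose entries c satisfy c^q = c. Then the centralizer of K in G is trivial, and the normalizer of K in G is exactly the set of elements of G all of whose entries c satisfy c^q = c. -/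
theorem result {k : Type*} [Field k] [IsAlgClosed k] (p : ℕ) [Fact p.Prime] [CharP k p] (D : Cfsg.Lie.ChevalleyDatum) (hD : D ∈ [Cfsg.Lie.chevG2, Cfsg.Lie.chevB2, Cfsg.Lie.chevD4, Cfsg.Lie.chevF4, Cfsg.Lie.chevE6, Cfsg.Lie.chevE7, Cfsg.Lie.chevE8]) (a : ℕ) (ha : 1 ≤ a) (K : Subgroup (GL D.Idx k)) (hKG : K ≤ D.group k)
    (hLK : Subgroup.closure {g : GL D.Idx k | ∃ (s : ℕ) (t : k), t ^ (p ^ a) = t ∧ (g : Matrix D.Idx D.Idx k) = D.x k s t} ≤ K)
    (hKfix : ∀ g ∈ K, ∀ i j : D.Idx, ((g : Matrix D.Idx D.Idx k) i j) ^ (p ^ a) = (g : Matrix D.Idx D.Idx k) i j) :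
    D.group k ⊓ Subgroup.centralizer (K : Set (GL D.Idx k)) = ⊥ ∧
    ∀ g : GL D.Idx k, g ∈ D.group k → (g ∈ Subgroup.normalizer (K : Set (GL D.Idx k)) ↔ ∀ i j : D.Idx, ((g : Matrix D.Idx D.Idx k) i j) ^ (p ^ a) = (g : Matrix D.Idx D.Idx k) i j) := by
  obtain ⟨Φ, -⟩ := CfsgLib.Chev.exists_adj hD
  have hbij : Function.Bijective (iterateFrobenius k p a) := bijective_iterateFrobenius k p a
  set σ : k ≃+* k := RingEquiv.ofBijective (iterateFrobenius k p a) hbij with hσdef
  have hσ : ∀ x : k, σ x = x ^ p ^ a := fun x => by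
    rw [hσdef, RingEquiv.ofBijective_apply, iterateFrobenius_def]
  have hfixg : ∀ g : GL D.Idx k, Matrix.GeneralLinearGroup.map σ.toRingHom g = g ↔
      ∀ i j : D.Idx, ((g : Matrix D.Idx D.Idx k) i j) ^ (p ^ a) = (g : Matrix D.Idx D.Idx k) i j := by
    intro g
    constructor
    · intro h i j
      have h2 : ((Matrix.GeneralLinearGroup.map σ.toRingHom g : GL D.Idx k) : Matrix D.Idx D.Idx k) i j =
          (g : Matrix D.Idx D.Idx k) i j := by rw [h]
      rw [← hσ]
      exact h2
    · intro h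
      refine Units.ext (Matrix.ext fun i j => ?_)
      show σ ((g : Matrix D.Idx D.Idx k) i j) = _
      rw [hσ, h i j]
  have hLK' : Φ.fixedRootGroup σ ≤ K := by
    refine (Subgroup.closure_le _).2 ?_
    rintro _ ⟨r, t, ht, rfl⟩
    exact hLK (Subgroup.subset_closure ⟨r.val, t, by rw [← hσ]; exact ht, (Φ.toAlg.x_val r t).symm⟩)
  refine ⟨(Subgroup.eq_bot_iff_forall _).2 ?_, fun g hg => ?_⟩
  · rintro g ⟨hg, hc⟩
    exact Φ.eq_one_of_commute_all hg fun r =>
      (hc _ (hLK' (Subgroup.subset_closure ⟨r, 1, map_one σ, rfl⟩))).symm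
  · rw [← hfixg]
    exact Φ.mem_normalizer_iff_fixed σ hKG hLK' (fun x hx => (hfixg x).2 (hKfix x hx)) hg

end Cfsg.Agent.S2214
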