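import Cfsg.Statements.S2220
import Cfsg.Agent.Lib.KFactNine.Main
import Cfsg.Agent.Lib.KFactThree.Automizer
import Cfsg.Agent.S3341

set_option autoImplicit false
open Cfsg

namespace Cfsg.Agent.S2220

/-- Let G be a non-abelian finite simple group of order 9·2ᵃ·qᵇ for a prime q other than 2 and 3, and suppose a Sylow 3-subgroup R of G is strongly self-centralizing: C_G(k) = R for every nonidentity k ∈ R. Then G is isomorphic to the alternating group of degree 6, to PSL(2,8) or to PSL(2,17). -/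
theorem result {G : Type*} [Group G] [Finite G] [IsSimpleGroup G] (hG : ¬ IsMulCommutative G)
    (q a b : ℕ) (hq : q.Prime) (hq2 : q ≠ 2) (hq3 : q ≠ 3) (hcard : Nat.card G = 9 * 2 ^ a * q ^ b)
    (R : Sylow 3 G) (hR : ∀ k ∈ (R : Subgroup G), k ≠ 1 → Subgroup.centralizer ({k} : Set G) = R) :
    Nonempty (G ≃* ↥(alternatingGroup (Fin 6))) ∨
      (∃ (F : Type) (_ : Field F) (_ : Fintype F), Fintype.card F = 8 ∧
        Nonempty (G ≃* Matrix.ProjectiveSpecialLinearGroup (Fin 2) F)) ∨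
      Nonempty (G ≃* Matrix.ProjectiveSpecialLinearGroup (Fin 2) (ZMod 17)) := by
  classical
  haveI := Fintype.ofFinite G
  haveI : Fact (Nat.Prime 3) := ⟨Nat.prime_three⟩
  have h3q : ¬ 3 ∣ 2 ^ a * q ^ b := fun hd => by
    rcases (Nat.Prime.dvd_mul Nat.prime_three).1 hd with e | e
    · have := Nat.prime_three.dvd_of_dvd_pow e; norm_num at this
    · exact hq3 ((Nat.prime_dvd_prime_iff_eq Nat.prime_three hq).1 (Nat.prime_three.dvd_of_dvd_pow e)).symm
  have hR9 : Nat.card (R : Subgroup G) = 9 := by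
    rw [R.card_eq_multiplicity, hcard, mul_assoc, Nat.factorization_mul (by norm_num)
      (by intro e; exact h3q (e ▸ dvd_zero 3)), Finsupp.add_apply, Nat.factorization_eq_zero_of_not_dvd h3q,
      show (9 : ℕ) = 3 ^ 2 by norm_num, Nat.prime_three.factorization_pow, Finsupp.single_eq_same]
  haveI hab : IsMulCommutative (R : Subgroup G) :=
    ⟨⟨IsPGroup.commutative_of_card_eq_prime_sq (p := 3) (show Nat.card (R : Subgroup G) = 3 ^ 2 by rw [hR9]; norm_num)⟩⟩
  have hmul : ∀ y ∈ (R : Subgroup G), ∀ z ∈ (R : Subgroup G), y * z = z * y := fun y hy z hz =>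
    congrArg Subtype.val (mul_comm' (⟨y, hy⟩ : (R : Subgroup G)) ⟨z, hz⟩)
  by_cases hcyc : ∃ g ∈ (R : Subgroup G), orderOf g = 9
  · -- cyclic Sylow subgroup: at least three classes
    obtain ⟨g, hgR, hg⟩ := hcyc
    refine Or.inr (CfsgLib.KFactThree.cases_main hG hq hq2 hq3 hcard ?_)
    have hg9 : g ^ 9 = 1 := by rw [← hg, pow_orderOf_eq_one]
    have hnc : ¬ IsConj g (g ^ 4) := by
      intro hc
      obtain ⟨c, hc⟩ := isConj_iff.1 hc
      obtain ⟨n, hn, e⟩ := R.conj_eq_normalizer_conj_of_mem g c⁻¹ hgR (by rw [inv_inv, hc]; exact pow_mem hgR 4)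
      rw [inv_inv, hc] at e
      set m := n⁻¹
      have em : m * g * m⁻¹ = g ^ 4 := by rw [e]; simp [m]
      have e2 : ∀ k : ℕ, m * g ^ k * m⁻¹ = g ^ (4 * k) := fun k => by rw [← conj_pow, em, ← pow_mul]
      have em3 : m ^ 3 * g * (m ^ 3)⁻¹ = g := by
        rw [show m ^ 3 * g * (m ^ 3)⁻¹ = m * (m * (m * g * m⁻¹) * m⁻¹) * m⁻¹ by
          rw [pow_succ, pow_succ, pow_one]; group, em, e2, e2, show (4 * (4 * 4)) = 9 * 7 + 1 by norm_num, pow_succ,
          pow_mul, hg9, one_pow, one_mul]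
      have hg1 : g ≠ 1 := fun e' => by rw [e', orderOf_one] at hg; omega
      have hm3 : m ^ 3 ∈ (R : Subgroup G) := by
        rw [← hR g hgR hg1]
        exact Subgroup.mem_centralizer_singleton_iff.2 (mul_inv_eq_iff_eq_mul.1 em3)
      have hp : IsPGroup 3 (Subgroup.zpowers m) := by
        obtain ⟨i, hi⟩ := R.2 ⟨m ^ 3, hm3⟩
        have hi' : m ^ 3 ^ (i + 1) = 1 := by
          rw [pow_succ', pow_mul]
          exact congrArg Subtype.val hi
        obtain ⟨j, -, hj⟩ := (Nat.dvd_prime_pow Nat.prime_three).1 (orderOf_dvd_of_pow_eq_one hi')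
        exact IsPGroup.of_card (n := j) (by rw [Nat.card_zpowers, hj])
      have hmR : m ∈ Subgroup.zpowers m ⊓ (R : Subgroup G) := by
        rw [← hp.inf_normalizer_sylow R]; exact Subgroup.mem_inf.2 ⟨Subgroup.mem_zpowers m, inv_mem hn⟩
      rw [hmul m hmR.2 g hgR, mul_inv_cancel_right, pow_succ, eq_comm, mul_eq_right] at em
      have := orderOf_dvd_of_pow_eq_one em
      rw [hg] at this
      norm_num at this
    have hne : ∀ k : ℕ, ¬ 9 ∣ k → g ^ k ≠ 1 := fun k hk e => hk (hg ▸ orderOf_dvd_of_pow_eq_one e)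
    have hdvd : ∀ k : ℕ, orderOf (g ^ k) ∣ 9 := fun k => hg ▸ orderOf_pow_dvd k
    have hmem : ∀ k : ℕ, ¬ 9 ∣ k → ∃ y ∈ (ConjClasses.mk (g ^ k)).carrier, y ≠ 1 ∧ orderOf y ∣ 9 := fun k hk =>
      ⟨g ^ k, ConjClasses.mem_carrier_mk, hne k hk, hdvd k⟩
    have h13 : ¬ IsConj g (g ^ 3) := fun hc => by
      obtain ⟨c, hc⟩ := isConj_iff.1 hc
      refine hne 3 (by norm_num) ?_
      have h1 : (c * g * c⁻¹) ^ 3 = 1 := by rw [hc, ← pow_mul, show 3 * 3 = 9 from rfl, hg9]
      rw [conj_pow] at h1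
      exact conj_eq_one_iff.1 h1
    have h43 : ¬ IsConj (g ^ 4) (g ^ 3) := fun hc => by
      obtain ⟨c, hc⟩ := isConj_iff.1 hc
      have h1 : (c * g ^ 4 * c⁻¹) ^ 3 = 1 := by rw [hc, ← pow_mul, show 3 * 3 = 9 from rfl, hg9]
      rw [conj_pow] at h1
      exact hne (4 * 3) (by norm_num) (by rw [pow_mul]; exact conj_eq_one_iff.1 h1)
    have hle := Nat.card_le_card_of_injective
      (fun i : Fin 3 => (⟨ConjClasses.mk (g ^ ![1, 4, 3] i), hmem _ (by fin_cases i <;> norm_num)⟩ :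
        {C : ConjClasses G // ∃ g ∈ C.carrier, g ≠ 1 ∧ orderOf g ∣ 9})) (by
        intro i j hij
        have e := ConjClasses.mk_eq_mk_iff_isConj.1 (congrArg Subtype.val hij)
        fin_cases i <;> fin_cases j <;> simp only [Fin.zero_eta, Fin.mk_one, Fin.reduceFinMk, Matrix.cons_val_zero,
          Matrix.cons_val_one, Matrix.cons_val, pow_one] at e ⊢
        exacts [absurd e hnc, absurd e h13, absurd e.symm hnc, absurd e h43, absurd e.symm h13, absurd e.symm h43])
    simpa using hle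
  push Not at hcyc
  have hexp : ∀ y ∈ (R : Subgroup G), y ^ 3 = 1 := fun y hy => by
    have hd : orderOf y ∣ 3 ^ 2 := by
      rw [← Subgroup.orderOf_mk y hy, show (3 : ℕ) ^ 2 = 9 by norm_num, ← hR9]
      exact orderOf_dvd_natCard _
    obtain ⟨i, hi, e⟩ := (Nat.dvd_prime_pow Nat.prime_three).1 hd
    interval_cases i
    · rw [pow_zero, orderOf_eq_one_iff] at e; rw [e, one_pow]
    · rw [pow_one] at e; rw [← e, pow_orderOf_eq_one]
    · exact absurd e (hcyc y hy)
  by_cases hcls : ∃ c d : G, orderOf c = 3 ∧ orderOf d = 3 ∧ ∀ g : G, g * c * g⁻¹ ≠ d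
  · exact Or.inl (Cfsg.Agent.S3341.result R R rfl hab hexp hR9 hcls hR)
  exfalso
  push Not at hcls
  have hone : CfsgLib.KFactNine.One G :=
    { simple := ‹_›
      nc := hG
      cube := fun y z hy hc => by
        have hp : IsPGroup 3 (Subgroup.zpowers y) := IsPGroup.of_card (n := 1) (by rw [Nat.card_zpowers, hy, pow_one])
        obtain ⟨Q, hQ⟩ := hp.exists_le_sylow
        obtain ⟨c, hc'⟩ := MulAction.exists_smul_eq G Q R
        have hcy : c * y * c⁻¹ ∈ (R : Subgroup G) := hc' ▸ ⟨y, hQ (Subgroup.mem_zpowers _), rfl⟩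
        have hne : c * y * c⁻¹ ≠ 1 := fun e => by rw [conj_eq_one_iff.1 e, orderOf_one] at hy; omega
        have hcz : c * z * c⁻¹ ∈ (R : Subgroup G) := by
          rw [← hR _ hcy hne, Subgroup.mem_centralizer_singleton_iff]
          have := (hc.map (MulAut.conj c).toMonoidHom).eq
          simpa using this.symm
        have := hexp _ hcz
        rwa [conj_pow, conj_eq_one_iff] at this
      conj := fun y z hy hz => by
        obtain ⟨g, hg⟩ := hcls y z hy hz
        exact isConj_iff.2 ⟨g, hg⟩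
      nine := hR9 ▸ (R : Subgroup G).card_subgroup_dvd_card
      not27 := fun h27 => by
        rw [hcard, show (27 : ℕ) = 9 * 3 by norm_num, mul_assoc] at h27
        exact h3q (Nat.dvd_of_mul_dvd_mul_left (k := 9) (by norm_num) h27) }
  obtain ⟨x, hx⟩ := exists_prime_orderOf_dvd_card' (G := G) 3
    (hcard ▸ dvd_mul_of_dvd_left (dvd_mul_of_dvd_left (by norm_num) _) _)
  have hq5 : 5 ≤ q := by
    have := hq.two_le
    rcases (show q = 2 ∨ q = 3 ∨ q = 4 ∨ 5 ≤ q by omega) with e | e | e | e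
    exacts [absurd e hq2, absurd e hq3, absurd (e ▸ hq) (by norm_num), e]
  by_cases hb : b = 0
  · subst hb
    exact (CfsgLib.KFactNine.P3.mk hone hx).impossible (q := 5) (b := 0) (a := a) Nat.prime_five le_rfl
      (fun _ => rfl) (by rw [hcard, pow_zero, pow_zero])
  · exact (CfsgLib.KFactNine.P3.mk hone hx).impossible hq hq5 (fun e => absurd e hb) hcard

end Cfsg.Agent.S2220
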