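import Cfsg.Statements.S2221
import Cfsg.Agent.Lib.AltSylowDecomp.Iff
-- import your own Cfsg.Agent.* helpers here

set_option autoImplicit false
open Cfsg

namespace Cfsg.Agent.S2221

open CfsgLib.AltSylowDecomp CfsgLib.SymSylow

private theorem four_five (n : ℕ) (h45 : n = 4 ∨ n = 5) (P : Sylow 2 (alternatingGroup (Fin n))) :
    ∃ S₁ S₂ : Subgroup (alternatingGroup (Fin n)), S₁ ≠ ⊥ ∧ S₂ ≠ ⊥ ∧
      Cfsg.IsInternalDirectProduct S₁ S₂ (P : Subgroup (alternatingGroup (Fin n))) := by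
  haveI : Fact (Nat.Prime 2) := ⟨Nat.prime_two⟩
  have hc : Nat.card (P : Subgroup (alternatingGroup (Fin n))) = 4 := by
    rw [Sylow.card_eq_multiplicity, Nat.card_eq_fintype_card]
    haveI : Nontrivial (Fin n) := Fin.nontrivial_iff_two_le.mpr (by omega)
    have := two_mul_card_alternatingGroup (α := Fin n)
    rw [Fintype.card_perm, Fintype.card_fin] at this
    have key : ∀ m : ℕ, m = 12 ∨ m = 60 → 2 ^ m.factorization 2 = 4 := by
      rintro m (rfl | rfl)
      · rw [show (12 : ℕ) = 2 ^ 2 * 3 from rfl, Nat.factorization_mul (by norm_num) (by norm_num),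
          Nat.prime_two.factorization_pow, Nat.prime_three.factorization]
        simp
      · rw [show (60 : ℕ) = 2 ^ 2 * 15 from rfl, Nat.factorization_mul (by norm_num) (by norm_num),
          Nat.prime_two.factorization_pow]
        simp [Nat.factorization_eq_zero_of_not_dvd (show ¬ 2 ∣ 15 by norm_num)]
    refine key _ ?_
    rcases h45 with rfl | rfl <;> norm_num [Nat.factorial] at this ⊢ <;> omega
  obtain ⟨S₁, S₂, h1, h2, h⟩ := dec_four (P : Subgroup (alternatingGroup (Fin n))) hc (by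
    rcases h45 with rfl | rfl <;> decide +kernel)
  exact ⟨S₁, S₂, h1, h2, h⟩

/-- Direct decomposability of the Sylow 2-subgroups of the alternating groups. Let n ≥ 4 and let P be a Sylow 2-subgroup of the alternating group of degree n. Then P is the internal direct product of two nontrivial subgroups if and only if n = 4, n = 5, or n ≡ 2, 3 (mod 4) with 4⌊n/4⌋ not a power of 2. In the remaining cases (n ≡ 0, 1 (mod 4) with n ≥ 8, or n ≡ 2, 3 (mod 4) with 4⌊n/4⌋ a power of 2) P is directly indecomposable. -/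
theorem result (n : ℕ) (hn : 4 ≤ n)
    (P : Sylow 2 (alternatingGroup (Fin n))) :
    (∃ S₁ S₂ : Subgroup (alternatingGroup (Fin n)), S₁ ≠ ⊥ ∧ S₂ ≠ ⊥ ∧
        Cfsg.IsInternalDirectProduct S₁ S₂ (P : Subgroup (alternatingGroup (Fin n)))) ↔
      (n = 4 ∨ n = 5 ∨ ((n % 4 = 2 ∨ n % 4 = 3) ∧ ∀ r : ℕ, 4 * (n / 4) ≠ 2 ^ r)) := by
  classical
  rcases Nat.lt_or_ge n 6 with hlt | h6
  · exact ⟨fun _ => by omega, fun _ => four_five n (by omega) P⟩
  obtain ⟨T, hT⟩ := exists_sylow_perm P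
  have hinj : Function.Injective (alternatingGroup (Fin n)).subtype := Subtype.val_injective
  constructor
  · rintro ⟨S₁, S₂, h₁, h₂, hle₁, hle₂, hcomm, hinf, hsup⟩
    have hD : Dec (T : Subgroup (Equiv.Perm (Fin n))) (S₁.map (alternatingGroup (Fin n)).subtype)
        (S₂.map (alternatingGroup (Fin n)).subtype) := by
      refine ⟨?_, ?_, ?_, ?_, ?_, ?_, ?_⟩
      · rintro _ ⟨x, hx, rfl⟩; exact (hT x).mp (hle₁ hx)
      · rintro _ ⟨x, hx, rfl⟩; exact (hT x).mp (hle₂ hx)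
      · rintro _ ⟨x, -, rfl⟩; exact x.2
      · rintro _ ⟨x, -, rfl⟩; exact x.2
      · rintro _ ⟨x, hx, rfl⟩ _ ⟨y, hy, rfl⟩
        rw [← map_mul, hcomm x hx y hy, map_mul]
      · rintro _ ⟨x, hx, rfl⟩ ⟨y, hy, e⟩
        obtain rfl := hinj e
        have : y ∈ S₁ ⊓ S₂ := ⟨hx, hy⟩
        rw [hinf, Subgroup.mem_bot] at this
        rw [this, map_one]
      · intro x hx hs
        have hxP : (⟨x, hs⟩ : alternatingGroup (Fin n)) ∈ (P : Subgroup (alternatingGroup (Fin n))) := (hT _).mpr hx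
        rw [← hsup] at hxP
        have hS : ∀ z ∈ S₁ ⊔ S₂, ∃ a ∈ S₁, ∃ b ∈ S₂, a * b = z := by
          intro z hz
          refine Subgroup.closure_induction (p := fun z _ => ∃ a ∈ S₁, ∃ b ∈ S₂, a * b = z) ?_ ?_ ?_ ?_
            ((Subgroup.sup_eq_closure S₁ S₂) ▸ hz)
          · rintro z (hz | hz)
            · exact ⟨z, hz, 1, one_mem _, mul_one z⟩
            · exact ⟨1, one_mem _, z, hz, one_mul z⟩
          · exact ⟨1, one_mem _, 1, one_mem _, one_mul 1⟩
          · rintro _ _ _ _ ⟨a, ha, b, hb, rfl⟩ ⟨c, hc, d, hd, rfl⟩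
            refine ⟨a * c, mul_mem ha hc, b * d, mul_mem hb hd, ?_⟩
            rw [mul_assoc, ← mul_assoc c, hcomm c hc b hb]
            group
          · rintro _ _ ⟨a, ha, b, hb, rfl⟩
            refine ⟨a⁻¹, inv_mem ha, b⁻¹, inv_mem hb, ?_⟩
            rw [hcomm _ (inv_mem ha) _ (inv_mem hb), mul_inv_rev]
        obtain ⟨a, ha, b, hb, e⟩ := hS _ hxP
        exact ⟨a.1, ⟨a, ha, rfl⟩, b.1, ⟨b, hb, rfl⟩, (congrArg Subtype.val e).symm⟩
    have := cond_of_dec T hD (by rwa [Ne, Subgroup.map_eq_bot_iff_of_injective _ hinj])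
      (by rwa [Ne, Subgroup.map_eq_bot_iff_of_injective _ hinj]) (by rwa [Fintype.card_fin])
    rw [Fintype.card_fin] at this
    exact Or.inr (Or.inr this)
  · intro h
    have hc : (n % 4 = 2 ∨ n % 4 = 3) ∧ ∀ r : ℕ, 4 * (n / 4) ≠ 2 ^ r := by
      rcases h with h | h | h
      · omega
      · omega
      · exact h
    obtain ⟨E₁, E₂, hD, h₁, h₂⟩ := dec_of_cond T (by rw [Fintype.card_fin]; exact hc.1)
      (by rw [Fintype.card_fin]; exact hc.2) (by rwa [Fintype.card_fin])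
    have hne : ∀ {E : Subgroup (Equiv.Perm (Fin n))}, (∀ x ∈ E, Equiv.Perm.sign x = 1) → E ≠ ⊥ →
        E.comap (alternatingGroup (Fin n)).subtype ≠ ⊥ := by
      intro E hev hE he
      refine hE ((Subgroup.eq_bot_iff_forall E).mpr fun x hx => ?_)
      have : (⟨x, hev x hx⟩ : alternatingGroup (Fin n)) ∈ E.comap (alternatingGroup (Fin n)).subtype := hx
      rw [he, Subgroup.mem_bot] at this
      exact congrArg Subtype.val this
    refine ⟨_, _, hne hD.ev₁ h₁, hne hD.ev₂ h₂, fun x hx => (hT x).mpr (hD.le₁ hx),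
      fun x hx => (hT x).mpr (hD.le₂ hx), fun a ha b hb => Subtype.ext (hD.comm _ ha _ hb),
      eq_bot_iff.mpr fun x hx => Subgroup.mem_bot.mpr (Subtype.ext (hD.disj _ hx.1 hx.2)), ?_⟩
    refine le_antisymm (sup_le (fun x hx => (hT x).mpr (hD.le₁ hx)) fun x hx => (hT x).mpr (hD.le₂ hx)) ?_
    intro x hx
    obtain ⟨a, ha, b, hb, e⟩ := hD.gen x.1 ((hT x).mp hx) x.2
    rw [show x = (⟨a, hD.ev₁ a ha⟩ : alternatingGroup (Fin n)) * ⟨b, hD.ev₂ b hb⟩ from Subtype.ext e]
    exact Subgroup.mul_mem_sup ha hb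

end Cfsg.Agent.S2221
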