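import Cfsg.Statements.S2222
import Cfsg.Agent.Lib.SymSylow
import Cfsg.Agent.Lib.SylowExtra

set_option autoImplicit false
open Cfsg

open Equiv

namespace Cfsg.Agent.S2222

private theorem pronormal_of_normalizer {G : Type} [Group G] [Finite G] (H : Subgroup G)
    (S : Sylow 2 G) (hS : (S : Subgroup G) ≤ H)
    (hN : Subgroup.normalizer ((S : Subgroup G) : Set G) ≤ H ∨ (S : Subgroup G) = H) :
    Cfsg.IsPronormal H := by
  intro g
  set K := H ⊔ H.map (MulAut.conj g).toMonoidHom with hK
  have h1 : (S : Subgroup G) ≤ K := hS.trans le_sup_left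
  have h2 : ((g • S : Sylow 2 G) : Subgroup G) ≤ K := by
    rw [Sylow.coe_subgroup_smul]
    exact (Subgroup.map_mono hS).trans le_sup_right
  obtain ⟨k, hk⟩ := MulAction.exists_smul_eq K ((g • S).subtype h2) (S.subtype h1)
  rw [Sylow.smul_subtype] at hk
  have hk' : ((k : G) * g) • S = S := by
    rw [mul_smul]; exact Sylow.subtype_injective hk
  have hn : (k : G) * g ∈ Subgroup.normalizer ((S : Subgroup G) : Set G) :=
    Sylow.smul_eq_iff_mem_normalizer.mp hk'
  have hfix : H.map (MulAut.conj ((k : G) * g)).toMonoidHom = H := by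
    have hmem : (k : G) * g ∈ Subgroup.normalizer (H : Set G) := by
      rcases hN with hN | hN
      · exact Subgroup.le_normalizer (hN hn)
      · exact hN ▸ hn
    ext y
    constructor
    · rintro ⟨z, hz, rfl⟩
      exact (Subgroup.mem_normalizer_iff.mp hmem z).mp hz
    · intro hy
      refine ⟨((k : G) * g)⁻¹ * y * ((k : G) * g), ?_, by simp [mul_assoc]⟩
      refine (Subgroup.mem_normalizer_iff.mp hmem _).mpr ?_
      simpa [mul_assoc] using hy
  refine ⟨(k : G)⁻¹, K.inv_mem k.2, ?_⟩
  conv_rhs => rw [← hfix]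
  rw [Subgroup.map_map]
  congr 1
  ext z
  simp [mul_assoc]

/-- The four group in `A₅`. -/
private def v1 : alternatingGroup (Fin 5) :=
  ⟨swap 0 1 * swap 2 3, Perm.mem_alternatingGroup.mpr (by decide)⟩
private def v2 : alternatingGroup (Fin 5) :=
  ⟨swap 0 2 * swap 1 3, Perm.mem_alternatingGroup.mpr (by decide)⟩

private def V : Subgroup (alternatingGroup (Fin 5)) where
  carrier := {x | x = 1 ∨ x = v1 ∨ x = v2 ∨ x = v1 * v2}
  one_mem' := Or.inl rfl
  mul_mem' := by
    have : ∀ x ∈ [1, v1, v2, v1 * v2], ∀ y ∈ [1, v1, v2, v1 * v2],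
        x * y ∈ [1, v1, v2, v1 * v2] := by decide +kernel
    intro x y hx hy
    simpa using this x (by simpa using hx) y (by simpa using hy)
  inv_mem' := by
    have : ∀ x ∈ [1, v1, v2, v1 * v2], x⁻¹ ∈ [1, v1, v2, v1 * v2] := by decide +kernel
    intro x hx
    simpa using this x (by simpa using hx)

private theorem five : ∀ h : alternatingGroup (Fin 5),
    (h.1 4 = 4 ∧ h * v1 * h⁻¹ ∈ [1, v1, v2, v1 * v2] ∧ h * v2 * h⁻¹ ∈ [1, v1, v2, v1 * v2]) ∨
      ∃ s ∈ [1, v1, v2, v1 * v2], (h * s) ^ 5 = 1 ∧ h * s ≠ 1 := by decide +kernel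

private theorem card_V : Nat.card V = 4 := by
  have e : (V : Set (alternatingGroup (Fin 5))) =
      ({1, v1, v2, v1 * v2} : Finset (alternatingGroup (Fin 5))) := by
    ext x; simp [V]
  rw [← SetLike.coe_sort_coe, e, Nat.card_coe_set_eq, Set.ncard_coe_finset]
  decide +kernel

private theorem isPGroup_V : IsPGroup 2 V := IsPGroup.of_card (n := 2) (by rw [card_V]; norm_num)

private theorem card_A5 : Nat.card (alternatingGroup (Fin 5)) = 60 := by
  have := two_mul_card_alternatingGroup (α := Fin 5)
  rw [Fintype.card_perm, Fintype.card_fin] at this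
  rw [Nat.card_eq_fintype_card]
  simp only [show Nat.factorial 5 = 120 from rfl] at this
  omega

private theorem degree_five (H : Subgroup (alternatingGroup (Fin 5))) (hH : Odd H.index)
    (hV : V ≤ H) : ∃ S : Sylow 2 (alternatingGroup (Fin 5)),
      (S : Subgroup (alternatingGroup (Fin 5))) ≤ H ∧
      (Subgroup.normalizer
          ((S : Subgroup (alternatingGroup (Fin 5))) : Set (alternatingGroup (Fin 5))) ≤ H ∨
        (S : Subgroup (alternatingGroup (Fin 5))) = H) := by
  have : Fact (Nat.Prime 2) := ⟨Nat.prime_two⟩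
  have hcard := card_A5
  have hV4 := card_V
  let S : Sylow 2 (alternatingGroup (Fin 5)) := isPGroup_V.toSylow (by
    have := V.card_mul_index
    rw [hV4, hcard] at this
    omega)
  refine ⟨S, hV, ?_⟩
  have hmemV : ∀ x : alternatingGroup (Fin 5), x ∈ V ↔ x ∈ [1, v1, v2, v1 * v2] := fun x => by
    simp [V]
  by_cases hall : ∀ h ∈ H, h ∈ Subgroup.normalizer (V : Set (alternatingGroup (Fin 5)))
  · -- H lies between V and its normalizer, of order 4 and 12
    have hN : Nat.card (Subgroup.normalizer (V : Set (alternatingGroup (Fin 5)))) ≤ 12 := by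
      have h1 : ∀ h : alternatingGroup (Fin 5), h * v1 * h⁻¹ ∈ [1, v1, v2, v1 * v2] →
          h * v2 * h⁻¹ ∈ [1, v1, v2, v1 * v2] → h.1 4 = 4 := by decide +kernel
      have h2 : (Finset.univ.filter fun h : alternatingGroup (Fin 5) => h.1 4 = 4).card = 12 := by
        decide +kernel
      rw [← h2, ← SetLike.coe_sort_coe, Nat.card_coe_set_eq, ← Set.ncard_coe_finset]
      refine Set.ncard_le_ncard (fun h hh => ?_) (Finset.finite_toSet _)
      have hc := Subgroup.mem_normalizer_iff.mp hh
      simpa using h1 h ((hmemV _).mp ((hc v1).mp ((hmemV _).mpr (by simp))))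
        ((hmemV _).mp ((hc v2).mp ((hmemV _).mpr (by simp))))
    obtain ⟨a, ha⟩ := Subgroup.card_dvd_of_le hV
    obtain ⟨b, hb⟩ := Subgroup.card_dvd_of_le
      (fun h hh => hall h hh : H ≤ Subgroup.normalizer (V : Set (alternatingGroup (Fin 5))))
    have hpos : 0 < Nat.card (Subgroup.normalizer (V : Set (alternatingGroup (Fin 5)))) :=
      Nat.card_pos
    rw [hV4] at ha
    have hle : Nat.card H ≤ 12 := le_trans (Nat.le_of_dvd hpos ⟨b, hb⟩) hN
    have hodd : a ≠ 2 := fun h2 => by
      have := H.card_mul_index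
      obtain ⟨r, hr⟩ := hH
      rw [ha, h2, hcard, hr] at this
      omega
    have ha0 : 0 < a := by
      have := Nat.card_pos (α := H); omega
    rcases (by omega : a = 1 ∨ a = 3) with rfl | rfl
    · exact Or.inr (Subgroup.eq_of_le_of_card_ge hV (by
        show Nat.card H ≤ Nat.card V
        rw [ha, hV4]))
    · exact Or.inl (Subgroup.eq_of_le_of_card_ge (fun h hh => hall h hh) (by omega)).ge
  · push Not at hall
    obtain ⟨h, hh, hn⟩ := hall
    left
    rcases five h with ⟨-, h1, h2⟩ | ⟨s, hs, h5, hne⟩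
    · refine absurd (Subgroup.mem_normalizer_fintype fun x hx => ?_) hn
      rw [SetLike.mem_coe, hmemV] at hx ⊢
      simp only [List.mem_cons, List.not_mem_nil, or_false] at hx
      rcases hx with rfl | rfl | rfl | rfl
      · simp
      · exact h1
      · exact h2
      · rw [show h * (v1 * v2) * h⁻¹ = (h * v1 * h⁻¹) * (h * v2 * h⁻¹) by group, ← hmemV]
        exact V.mul_mem ((hmemV _).mpr h1) ((hmemV _).mpr h2)
    · have h5' : 5 ∣ Nat.card H := by
        have : Fact (Nat.Prime 5) := ⟨by norm_num⟩
        have := Subgroup.orderOf_dvd_natCard H (H.mul_mem hh (hV ((hmemV s).mpr hs)))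
        rwa [orderOf_eq_prime h5 hne] at this
      obtain ⟨a, ha⟩ : 20 ∣ Nat.card H :=
        Nat.Coprime.mul_dvd_of_dvd_of_dvd (by norm_num : Nat.Coprime 4 5)
          (hV4 ▸ Subgroup.card_dvd_of_le hV) h5'
      have hi := H.card_mul_index
      rw [ha, hcard] at hi
      have hi3 : H.index = 3 ∨ H.index = 1 := by
        have : a * H.index = 3 := by nlinarith
        rcases (Nat.dvd_prime Nat.prime_three).mp ⟨a, (mul_comm a H.index ▸ this).symm⟩ with h | h
        exacts [Or.inr h, Or.inl h]
      rcases hi3 with h3 | h1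
      · exfalso
        have : Fintype (alternatingGroup (Fin 5) ⧸ H) := Fintype.ofFinite _
        have hker : H.normalCore = ⊥ := by
          refine (Subgroup.Normal.eq_bot_or_eq_top inferInstance).resolve_right fun hT => ?_
          have := top_le_iff.mp (hT ▸ Subgroup.normalCore_le H)
          rw [this, Subgroup.index_top] at h3
          omega
        have hinj : Function.Injective
            (MulAction.toPermHom (alternatingGroup (Fin 5)) (alternatingGroup (Fin 5) ⧸ H)) := by
          rw [← MonoidHom.ker_eq_bot_iff, ← Subgroup.normalCore_eq_ker, hker]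
        have := Nat.card_le_card_of_injective _ hinj
        rw [hcard, Nat.card_perm, ← Subgroup.index_eq_card, h3] at this
        simp [Nat.factorial] at this
      · rw [Subgroup.index_eq_one] at h1
        rw [h1]; exact le_top


/-- In the alternating group of degree n ≥ 5 every subgroup H of odd index is pronormal: for every element g, the subgroups H and gHg⁻¹ are conjugate by an element of the subgroup they generate. -/
theorem result (n : ℕ) (hn : 5 ≤ n)
    (H : Subgroup (alternatingGroup (Fin n))) (hH : Odd H.index) : Cfsg.IsPronormal H := by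
  have : Fact (Nat.Prime 2) := ⟨Nat.prime_two⟩
  have h2 : ¬ 2 ∣ H.index := hH.not_two_dvd_nat
  obtain ⟨S, hS⟩ := CfsgLib.exists_sylow_le_of_not_dvd_index H h2
  rcases Nat.lt_or_ge n 6 with h6 | h6
  · obtain rfl : n = 5 := by omega
    obtain ⟨S₀, hS₀⟩ := isPGroup_V.exists_le_sylow
    obtain ⟨g, hg⟩ := MulAction.exists_smul_eq (alternatingGroup (Fin 5)) S S₀
    -- move `H` so that it contains `V`
    set φ := (MulAut.conj g).toMonoidHom with hφ
    have hV' : V ≤ H.map φ := by
      refine hS₀.trans ?_
      rw [← hg, Sylow.coe_subgroup_smul]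
      exact Subgroup.map_mono hS
    have hi : Odd (H.map φ).index := by
      rwa [hφ, MulEquiv.toMonoidHom_eq_coe, Subgroup.index_map_equiv]
    obtain ⟨S₁, h1, h2⟩ := degree_five _ hi hV'
    have hp := pronormal_of_normalizer _ S₁ h1 h2
    intro x
    obtain ⟨y, hy, hxy⟩ := hp (g * x * g⁻¹)
    have key : ∀ z, (H.map φ).map (MulAut.conj (g * z * g⁻¹)).toMonoidHom =
        (H.map (MulAut.conj z).toMonoidHom).map φ := by
      intro z
      rw [Subgroup.map_map, Subgroup.map_map]
      congr 1
      ext w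
      simp [hφ, mul_assoc]
    rw [key, ← Subgroup.map_sup] at hy
    obtain ⟨z, hz, rfl⟩ := hy
    refine ⟨z, hz, Subgroup.map_injective (f := φ) (MulEquiv.injective _) ?_⟩
    rw [← key x, hxy, ← key z]
    rfl
  · refine pronormal_of_normalizer H S hS (Or.inl ?_)
    rw [CfsgLib.SymSylow.normalizer_sylow_alternating (by simpa using h6) S]
    exact hS

end Cfsg.Agent.S2222
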