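import Cfsg.Statements.S2225
import Cfsg.Agent.Lib.PronormalOddIndex.DimTwo
import Cfsg.Agent.Lib.PronormalOddIndex.CharTwo
import Cfsg.Agent.Lib.PronormalOddIndex.Linear
-- import your own Cfsg.Agent.* helpers here

set_option autoImplicit false
open Cfsg

namespace Cfsg.Agent.S2225

/-- Let F be a finite field and d = 2^w ≥ 2 a power of 2 such that PSL_d(F) is simple. Then every subgroup H of PSL_d(F) of odd index is pronormal: for every g, H and gHg⁻¹ are conjugate by an element of the subgroup they generate. -/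
theorem result {F : Type*} [Field F] [Fintype F]
    (w : ℕ) (hw : 1 ≤ w) (hs : IsSimpleGroup (Matrix.ProjectiveSpecialLinearGroup (Fin (2 ^ w)) F))
    (H : Subgroup (Matrix.ProjectiveSpecialLinearGroup (Fin (2 ^ w)) F)) (hH : Odd H.index) : Cfsg.IsPronormal H := by
  classical
  haveI : Fact (Nat.Prime 2) := ⟨Nat.prime_two⟩
  obtain ⟨p, hp⟩ := CharP.exists F
  haveI := hp
  haveI : Fact p.Prime := ⟨CharP.char_is_prime F p⟩
  have hH' : ¬ 2 ∣ H.index := fun h => Nat.not_even_iff_odd.mpr hH (even_iff_two_dvd.mpr h)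
  by_cases hp2 : p = 2
  · subst hp2
    exact CfsgLib.PronOdd.pronormal_PSL_two rfl hH'
  have h2 : (2 : F) ≠ 0 := Ring.two_ne_zero (by rw [ringChar.eq F p]; exact hp2)
  have hodd : Odd (Fintype.card F) :=
    Nat.odd_iff.mpr (FiniteField.odd_card_of_char_ne_two (F := F) (by rw [ringChar.eq F p]; exact hp2))
  obtain rfl | hw2 : w = 1 ∨ 2 ≤ w := by omega
  · exact CfsgLib.PronOdd.pronormal_PSL2 hodd hH'
  obtain ⟨j, rfl⟩ : ∃ j, w = j + 1 := ⟨w - 1, by omega⟩
  exact CfsgLib.PronOdd.pronormal_of_surjective (QuotientGroup.mk' _) (QuotientGroup.mk'_surjective _)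
    (fun K hK => CfsgLib.PronOdd.pronormal_SL_odd h2 (k := 2 ^ j) (j := j) (by ring) rfl
      (Nat.le_self_pow (show j ≠ 0 by omega) 2) hK) hH'

end Cfsg.Agent.S2225
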