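import Cfsg.Statements.S2226
import Cfsg.Agent.Lib.PronormalOddIndex.Unitary
import Cfsg.Agent.Lib.PronormalOddIndex.UnitaryTwo
-- import your own Cfsg.Agent.* helpers here

set_option autoImplicit false
open Cfsg

namespace Cfsg.Agent.S2226

/-- Let F be a finite field with q² elements and d = 2^w ≥ 4 a power of 2 such that the unitary group PSU_d(q) (realised over F) is simple. Then every subgroup H of PSU_d(q) of odd index is pronormal: for every g, H and gHg⁻¹ are conjugate by an element of the subgroup they generate. -/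
theorem result {F : Type*} [Field F] [Fintype F] (q : ℕ)
    (hF : Fintype.card F = q ^ 2) (w : ℕ) (hw : 2 ≤ w) (hs : IsSimpleGroup (Cfsg.PSU (2 ^ w) F q))
    (H : Subgroup (Cfsg.PSU (2 ^ w) F q)) (hH : Odd H.index) : Cfsg.IsPronormal H := by
  classical
  haveI : Fact (Nat.Prime 2) := ⟨Nat.prime_two⟩
  have hH' : ¬ 2 ∣ H.index := fun h => Nat.not_even_iff_odd.mpr hH (even_iff_two_dvd.mpr h)
  obtain ⟨p, hp⟩ := CharP.exists F
  haveI := hp
  haveI : Fact p.Prime := ⟨CharP.char_is_prime F p⟩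
  by_cases hp2 : p = 2
  · subst hp2
    obtain ⟨-, σ, hσ⟩ := CfsgLib.UnitaryBasic.frob_exists hF
    let c : CfsgLib.PSUBorel.Conj F := ⟨q, σ, hF, hσ⟩
    obtain ⟨E⟩ := CfsgLib.PSUBorel.exists_iso c (n := 2 ^ w)
    exact CfsgLib.PronOdd.pronormal_of_surjective
      ((QuotientGroup.mk' (Subgroup.center (Cfsg.SU (2 ^ w) F q))).comp E.toMonoidHom)
      ((QuotientGroup.mk'_surjective _).comp E.surjective)
      (fun K hK => CfsgLib.PronOdd.pronormal_SUs_two c hK) hH'
  have hodd : Fintype.card F % 2 = 1 :=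
    FiniteField.odd_card_of_char_ne_two (F := F) (by rw [ringChar.eq F p]; exact hp2)
  have hq : q % 2 = 1 := by
    rw [hF, Nat.pow_mod] at hodd
    rcases Nat.mod_two_eq_zero_or_one q with h | h
    · rw [h] at hodd
      exact absurd hodd (by norm_num)
    · exact h
  obtain ⟨j, rfl⟩ : ∃ j, w = j + 1 := ⟨w - 1, by omega⟩
  exact CfsgLib.PronOdd.pronormal_of_surjective (QuotientGroup.mk' _) (QuotientGroup.mk'_surjective _)
    (fun K hK => CfsgLib.PronOdd.pronormal_SU_odd hF hq (k := 2 ^ j) (j := j) (by ring) rfl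
      (Nat.le_self_pow (show j ≠ 0 by omega) 2) hK) hH'

end Cfsg.Agent.S2226
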