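import Cfsg.Statements.S2227
import Cfsg.Agent.Lib.TwE6Five.Fusion

set_option autoImplicit false
open Cfsg

namespace Cfsg.Agent.S2227

open CfsgLib.Chev CfsgLib.Chev.T2E6.Five in
/-- All elements of order five are conjugate to the standard one. -/
theorem exists_conj_x5 {K : Type*} [Field K] [Fintype K] [Fact (Fintype.card K = 4)]
    (x : ↥(Cfsg.Lie.twistedE6 K 2)) (hx : orderOf x = 5) :
    ∃ c : ↥(Cfsg.Lie.twistedE6 K 2), c.1 * x5 K * c.1⁻¹ = x.1 := by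
  have hxf : x.1 ∈ (TT K).fix := by rw [← GG_eq]; exact x.2
  obtain ⟨c, hc⟩ := isConj_iff.mp (isConj_xf (K := K) (y := ⟨x.1, hxf⟩)
    (by rw [Subgroup.orderOf_mk, Subgroup.orderOf_coe, hx]))
  have hcg : c.1 ∈ GG K := by rw [GG_eq]; exact c.2
  exact ⟨⟨c.1, hcg⟩, congrArg Subtype.val hc⟩

/-- In the twisted group ²E₆(2) all elements of order 5 are conjugate, and the centralizer of an element of order 5 is isomorphic to the direct product of a cyclic group of order 5 with the alternating group of degree 8. -/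
theorem result {K : Type*} [Field K] [Fintype K] (hK : Fintype.card K = 4) :
    (∀ x y : ↥(Cfsg.Lie.twistedE6 K 2), orderOf x = 5 → orderOf y = 5 → IsConj x y) ∧
      ∀ x : ↥(Cfsg.Lie.twistedE6 K 2), orderOf x = 5 →
        Nonempty (↥(Subgroup.centralizer ({x} : Set ↥(Cfsg.Lie.twistedE6 K 2))) ≃* (Multiplicative (ZMod 5) × ↥(alternatingGroup (Fin 8)))) := by
  haveI : Fact (Fintype.card K = 4) := ⟨hK⟩
  refine ⟨fun x y hx hy => ?_, fun x hx => ?_⟩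
  · obtain ⟨a, ha⟩ := exists_conj_x5 x hx
    obtain ⟨b, hb⟩ := exists_conj_x5 y hy
    refine isConj_iff.mpr ⟨b * a⁻¹, Subtype.ext ?_⟩
    show (b.1 * a.1⁻¹) * x.1 * (b.1 * a.1⁻¹)⁻¹ = y.1
    rw [← hb, ← ha]
    group
  · obtain ⟨a, ha⟩ := exists_conj_x5 x hx
    obtain ⟨e⟩ := CfsgLib.Chev.T2E6.Five.cent5_equiv (K := K)
    refine ⟨MulEquiv.trans ?_ e⟩
    have hG : (Cfsg.Lie.twistedE6 K 2) = (CfsgLib.Chev.T2E6.Five.TT K).fix := CfsgLib.Chev.T2E6.Five.GG_eq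
    exact
    { toFun := fun c => ⟨a.1⁻¹ * c.1.1 * a.1, Subgroup.mem_inf.mpr ⟨hG ▸ mul_mem (mul_mem (inv_mem a.2) c.1.2) a.2,
        Subgroup.mem_centralizer_singleton_iff.mpr (by
          have h : c.1.1 * x.1 = x.1 * c.1.1 := congrArg Subtype.val (Subgroup.mem_centralizer_singleton_iff.mp c.2)
          rw [← ha] at h
          calc a.1⁻¹ * c.1.1 * a.1 * CfsgLib.Chev.T2E6.Five.x5 K
              = a.1⁻¹ * (c.1.1 * (a.1 * CfsgLib.Chev.T2E6.Five.x5 K * a.1⁻¹)) * a.1 := by group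
            _ = a.1⁻¹ * ((a.1 * CfsgLib.Chev.T2E6.Five.x5 K * a.1⁻¹) * c.1.1) * a.1 := by rw [h]
            _ = _ := by group)⟩⟩
      invFun := fun d => ⟨⟨a.1 * d.1 * a.1⁻¹, mul_mem (mul_mem a.2 (hG ▸ d.2.1)) (inv_mem a.2)⟩,
        Subgroup.mem_centralizer_singleton_iff.mpr (Subtype.ext (by
          have h : d.1 * CfsgLib.Chev.T2E6.Five.x5 K = CfsgLib.Chev.T2E6.Five.x5 K * d.1 :=
            Subgroup.mem_centralizer_singleton_iff.mp d.2.2
          show a.1 * d.1 * a.1⁻¹ * x.1 = x.1 * (a.1 * d.1 * a.1⁻¹)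
          rw [← ha]
          calc a.1 * d.1 * a.1⁻¹ * (a.1 * CfsgLib.Chev.T2E6.Five.x5 K * a.1⁻¹)
              = a.1 * (d.1 * CfsgLib.Chev.T2E6.Five.x5 K) * a.1⁻¹ := by group
            _ = a.1 * (CfsgLib.Chev.T2E6.Five.x5 K * d.1) * a.1⁻¹ := by rw [h]
            _ = _ := by group))⟩
      left_inv := fun c => Subtype.ext (Subtype.ext (show a.1 * (a.1⁻¹ * c.1.1 * a.1) * a.1⁻¹ = c.1.1 by group))
      right_inv := fun d => Subtype.ext (show a.1⁻¹ * (a.1 * d.1 * a.1⁻¹) * a.1 = d.1 by group)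
      map_mul' := fun c c' => Subtype.ext (show a.1⁻¹ * (c.1.1 * c'.1.1) * a.1 =
        (a.1⁻¹ * c.1.1 * a.1) * (a.1⁻¹ * c'.1.1 * a.1) by group) }

end Cfsg.Agent.S2227
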