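import Cfsg.Statements.S2231
import Cfsg.Agent.Lib.PSL2.Aut
import Cfsg.Agent.Lib.PSLn.Sylow

set_option autoImplicit false
open Cfsg

namespace Cfsg.Agent.S2231

/-- Let p be an odd prime and K a finite field of characteristic p. Then Qd(p) (the natural semidirect product of an elementary abelian group of order p² by SL₂(p)) is not involved in the projective special linear group PSL₂(K). -/
theorem result {p : ℕ} [Fact p.Prime] (hp : p ≠ 2) {K : Type*} [Field K] [Fintype K] [CharP K p] : ¬ Cfsg.Involves ↥(Cfsg.qd p) (Matrix.ProjectiveSpecialLinearGroup (Fin 2) K) := by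
  rintro ⟨K₁, R, hR, ⟨e⟩⟩
  classical
  let u : Matrix.SpecialLinearGroup (Fin 3) (ZMod p) := CfsgLib.PSLn.xx 0 1 (by decide) 1
  let w : Matrix.SpecialLinearGroup (Fin 3) (ZMod p) := CfsgLib.PSLn.xx 1 2 (by decide) 1
  have hu : u ∈ Cfsg.qd p := Subgroup.subset_closure (by
    simp [u, CfsgLib.PSLn.coe_xx, Matrix.single_apply])
  have hw : w ∈ Cfsg.qd p := Subgroup.subset_closure (by
    simp [w, CfsgLib.PSLn.coe_xx, Matrix.single_apply])
  have hne : u * w ≠ w * u := by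
    intro h
    have := congrFun (congrFun (congrArg Subtype.val h) 0) 2
    simp [u, w, CfsgLib.PSLn.coe_xx, Matrix.mul_apply, Fin.sum_univ_three, Matrix.single_apply,
      Matrix.one_apply] at this
  -- a `p`-subgroup of `Qd(p)` containing both
  have hU : IsPGroup p (CfsgLib.PSLn.upper (ZMod p) 3) := by
    refine IsPGroup.of_card (n := 3) ?_
    rw [CfsgLib.PSLn.card_upper, Fin.prod_univ_three, ZMod.card]
    simp
    ring
  have hU' : IsPGroup p ((CfsgLib.PSLn.upper (ZMod p) 3).comap (Cfsg.qd p).subtype) :=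
    hU.comap_of_injective _ Subtype.val_injective
  obtain ⟨T, hT⟩ := hU'.exists_le_sylow
  let f : K₁ →* ↥(Cfsg.qd p) := e.toMonoidHom.comp (QuotientGroup.mk' (R.subgroupOf K₁))
  have hf : Function.Surjective f := e.surjective.comp (QuotientGroup.mk'_surjective _)
  obtain ⟨S⟩ : Nonempty (Sylow p K₁) := inferInstance
  obtain ⟨g, hg⟩ := MulAction.exists_smul_eq ↥(Cfsg.qd p) (S.mapSurjective hf) T
  -- `S` is commutative
  obtain ⟨P, hP⟩ := (S.2.map K₁.subtype).exists_le_sylow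
  obtain ⟨x, hx⟩ := MulAction.exists_smul_eq (Matrix.ProjectiveSpecialLinearGroup (Fin 2) K)
    (CfsgLib.PSL2.uSylow (F := K) p) P
  have hSc : ∀ a ∈ S, ∀ b ∈ S, a * b = b * a := by
    intro a ha b hb
    have hmem : ∀ c : K₁, c ∈ S → ∃ t, (c : Matrix.ProjectiveSpecialLinearGroup (Fin 2) K) =
        x * CfsgLib.PSL2.uu t * x⁻¹ := by
      intro c hc
      have h1 : (c : Matrix.ProjectiveSpecialLinearGroup (Fin 2) K) ∈
          (x • CfsgLib.PSL2.uSylow (F := K) p : Sylow p _) := by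
        rw [hx]; exact hP ⟨c, hc, rfl⟩
      obtain ⟨d, ⟨t, rfl⟩, hd⟩ := h1
      exact ⟨t.toAdd, hd.symm⟩
    obtain ⟨s, hs⟩ := hmem a ha
    obtain ⟨t, ht⟩ := hmem b hb
    refine Subtype.ext ?_
    rw [Subgroup.coe_mul, Subgroup.coe_mul, hs, ht]
    simp only [← MulAut.conj_apply, ← map_mul]
    rw [mul_comm (Multiplicative.ofAdd s)]
  have hTc : ∀ a ∈ T, ∀ b ∈ T, a * b = b * a := by
    intro a ha b hb
    rw [← hg] at ha hb
    obtain ⟨a', ⟨a₀, ha₀, rfl⟩, rfl⟩ := ha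
    obtain ⟨b', ⟨b₀, hb₀, rfl⟩, rfl⟩ := hb
    show MulAut.conj g (f a₀) * MulAut.conj g (f b₀) = MulAut.conj g (f b₀) * MulAut.conj g (f a₀)
    rw [← map_mul, ← map_mul, ← map_mul, ← map_mul, hSc a₀ ha₀ b₀ hb₀]
  refine hne (congrArg Subtype.val (hTc ⟨u, hu⟩ (hT ?_) ⟨w, hw⟩ (hT ?_)))
  · exact CfsgLib.PSLn.xx_mem_upper (by decide) _
  · exact CfsgLib.PSLn.xx_mem_upper (by decide) _

end Cfsg.Agent.S2231
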