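import Cfsg.Statements.S2240
import Cfsg.Agent.Lib.Suzuki.Fixed

set_option autoImplicit false
open Cfsg
open CfsgLib.Suzuki

namespace Cfsg.Agent.S2240

/-- Elementary abelian TI-subgroups of the Suzuki group: let q = 2^(2m+1) with m ≥ 1, the group realised as the stabiliser in SL₄ of the Suzuki–Tits ovoid, and n ≥ 2. There is an elementary abelian 2-subgroup E of order 2^n that is a TI-subgroup (every conjugate of E meeting E nontrivially is E itself) if and only if n divides 2m + 1. -/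
theorem result {F : Type*} [Field F] [Fintype F] {m : ℕ} (hm : 1 ≤ m) (hF : Fintype.card F = 2 ^ (2 * m + 1)) (n : ℕ) (hn : 2 ≤ n) :
    (∃ E : Subgroup ↥(Cfsg.Sz F m), Cfsg.IsElementaryAbelian 2 E ∧ Nat.card ↥E = 2 ^ n ∧
      ∀ x : ↥(Cfsg.Sz F m), E ⊓ E.map (MulAut.conj x).toMonoidHom ≠ ⊥ → x ∈ Subgroup.normalizer (E : Set ↥(Cfsg.Sz F m))) ↔ n ∣ 2 * m + 1 := by
  classical
  haveI : Fact (Nat.Prime 2) := ⟨Nat.prime_two⟩
  haveI := charTwo hF
  constructor
  · rintro ⟨E, hE, hEc, hTI⟩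
    obtain ⟨g, hg⟩ := exists_conj_le_U hF hm (IsPGroup.of_card (p := 2) (n := n) hEc)
    set B : Set F := {b | g⁻¹ * uS hF 0 b * g ∈ E} with hB
    have hform : ∀ e ∈ E, ∃ b, g * e * g⁻¹ = uS hF 0 b := by
      intro e he
      refine mem_Z_of_sq hF (hg ⟨e, he, rfl⟩) ?_
      calc g * e * g⁻¹ * (g * e * g⁻¹) = g * e ^ 2 * g⁻¹ := by rw [sq]; group
        _ = 1 := by rw [hE.2 e he]; group
    have hBmem : ∀ e ∈ E, ∃ b ∈ B, e = g⁻¹ * uS hF 0 b * g := by
      intro e he
      obtain ⟨b, hb⟩ := hform e he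
      have he' : g⁻¹ * uS hF 0 b * g = e := by rw [← hb]; group
      exact ⟨b, by show g⁻¹ * uS hF 0 b * g ∈ E; rw [he']; exact he, he'.symm⟩
    have hcard : Nat.card B = 2 ^ n := by
      rw [← hEc]
      refine Nat.card_congr (Equiv.ofBijective (fun b => (⟨g⁻¹ * uS hF 0 b.1 * g, b.2⟩ : E)) ⟨?_, ?_⟩)
      · intro b c h
        have h' := congrArg Subtype.val h
        simp only [mul_left_inj, mul_right_inj] at h'
        exact Subtype.ext (uS_inj hF h').2
      · rintro ⟨e, he⟩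
        obtain ⟨b, hb, rfl⟩ := hBmem e he
        exact ⟨⟨b, hb⟩, rfl⟩
    have hscale : ∀ c ∈ B, ∀ d ∈ B, ∀ lam : F, lam ≠ 0 → d ≠ 0 → d = lam * c →
        ∀ e ∈ B, lam * e ∈ B := by
      intro c hc d hd lam hlam hd0 hdc e he
      obtain ⟨t, ht⟩ := th_sq_surj hF hlam
      set x := g⁻¹ * dS hF t * g
      have hx : ∀ b : F, x * (g⁻¹ * uS hF 0 b * g) * x⁻¹ = g⁻¹ * uS hF 0 (lam * b) * g := by
        intro b
        have h0 := dS_uS hF t 0 b
        rw [mul_zero, ht] at h0
        calc x * (g⁻¹ * uS hF 0 b * g) * x⁻¹ = g⁻¹ * (dS hF t * uS hF 0 b * (dS hF t)⁻¹) * g := by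
              simp only [x]; group
          _ = _ := by rw [h0]
      have hne : E ⊓ E.map (MulAut.conj x).toMonoidHom ≠ ⊥ := by
        intro hbot
        have hmem : g⁻¹ * uS hF 0 d * g ∈ E ⊓ E.map (MulAut.conj x).toMonoidHom := by
          refine ⟨hd, ⟨g⁻¹ * uS hF 0 c * g, hc, ?_⟩⟩
          show x * (g⁻¹ * uS hF 0 c * g) * x⁻¹ = _
          rw [hx, ← hdc]
        rw [hbot, Subgroup.mem_bot] at hmem
        have hu : uS hF 0 d = 1 := by simpa [mul_assoc] using congrArg (fun y => g * y * g⁻¹) hmem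
        exact hd0 ((eq_one_iff_uS hF).mp hu).2
      have := (Subgroup.mem_normalizer_iff.mp (hTI x hne) _).mp he
      rw [hx] at this
      exact this
    have h0B : (0 : F) ∈ B := by
      show g⁻¹ * uS hF 0 0 * g ∈ E
      rw [uS_zero]; simp
    obtain ⟨b1, hb1, hb10⟩ : ∃ b1 ∈ B, b1 ≠ 0 := by
      by_contra hcon
      push Not at hcon
      have : Nat.card B ≤ 1 := Finite.card_le_one_iff_subsingleton.mpr
        ⟨fun b c => Subtype.ext ((hcon _ b.2).trans (hcon _ c.2).symm)⟩
      rw [hcard] at this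
      have : 2 ^ 1 ≤ 2 ^ n := Nat.pow_le_pow_right (by norm_num) (by omega)
      omega
    have hmulB : ∀ c ∈ B, ∀ d ∈ B, c * d / b1 ∈ B := by
      intro c hc d hd
      by_cases hc0 : c = 0
      · rw [hc0, zero_mul, zero_div]; exact h0B
      have := hscale b1 hb1 c hc (c / b1) (div_ne_zero hc0 hb10) hc0 (by field_simp) d hd
      rwa [div_mul_eq_mul_div] at this
    let M : Submonoid Fˣ :=
      { carrier := {u | (u : F) * b1 ∈ B}
        one_mem' := by simpa using hb1
        mul_mem' := fun {u v} hu hv => by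
          have := hmulB _ hu _ hv
          show ((u * v : Fˣ) : F) * b1 ∈ B
          rw [Units.val_mul]
          convert this using 1
          field_simp }
    let K : Subgroup Fˣ :=
      { M with
        inv_mem' := fun {u} hu => by
          have h := pow_mem (show u ∈ M from hu) (Fintype.card Fˣ - 1)
          have e : u⁻¹ = u ^ (Fintype.card Fˣ - 1) := by
            rw [inv_eq_iff_mul_eq_one, ← pow_succ', Nat.sub_add_cancel Fintype.card_pos, pow_card_eq_one]
          show u⁻¹ ∈ M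
          rw [e]; exact h }
    have hK : Nat.card K + 1 = 2 ^ n := by
      rw [← hcard]
      have e : K ≃ {b : B // b ≠ ⟨0, h0B⟩} :=
        Equiv.ofBijective (fun u => ⟨⟨(u.1 : F) * b1, u.2⟩, fun h =>
          mul_ne_zero u.1.ne_zero hb10 (congrArg Subtype.val h)⟩) ⟨fun u v h => by
            have := congrArg (fun y => y.1.1) h
            exact Subtype.ext (Units.ext (mul_right_cancel₀ hb10 this)), fun b => by
            have hb0 : b.1.1 ≠ 0 := fun h => b.2 (Subtype.ext h)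
            refine ⟨⟨Units.mk0 (b.1.1 / b1) (div_ne_zero hb0 hb10), ?_⟩, ?_⟩
            · show b.1.1 / b1 * b1 ∈ B
              rw [div_mul_cancel₀ _ hb10]; exact b.1.2
            · exact Subtype.ext (Subtype.ext (div_mul_cancel₀ _ hb10))⟩
      classical
      rw [Nat.card_congr e, Nat.card_eq_fintype_card, Nat.card_eq_fintype_card,
        Fintype.card_subtype_compl, Fintype.card_subtype_eq]
      have : 0 < Fintype.card B := Fintype.card_pos_iff.mpr ⟨⟨0, h0B⟩⟩
      omega
    have hdvd : 2 ^ n - 1 ∣ 2 ^ (2 * m + 1) - 1 := by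
      rw [← hK, Nat.add_sub_cancel]
      have := Subgroup.card_subgroup_dvd_card K
      rwa [Nat.card_units, Nat.card_eq_fintype_card (α := F), hF] at this
    have hgcd := Nat.gcd_eq_left hdvd
    rw [Nat.pow_sub_one_gcd_pow_sub_one] at hgcd
    have h2 : 2 ^ Nat.gcd n (2 * m + 1) = 2 ^ n := by
      have := Nat.one_le_two_pow (n := Nat.gcd n (2 * m + 1))
      have := Nat.one_le_two_pow (n := n)
      omega
    exact Nat.gcd_eq_left_iff_dvd.mp (Nat.pow_right_injective le_rfl h2)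
  · intro hdvd
    set B : Set F := {b | b ^ 2 ^ n = b} with hB
    have hadd : ∀ b c, b ∈ B → c ∈ B → b + c ∈ B := by
      intro b c hb hc
      show (b + c) ^ 2 ^ n = b + c
      rw [add_pow_char_pow b c 2 n, hb, hc]
    let E : Subgroup ↥(Cfsg.Sz F m) :=
      { carrier := {g | ∃ b ∈ B, g = uS hF 0 b}
        one_mem' := ⟨0, by simp [hB], (uS_zero hF).symm⟩
        mul_mem' := by
          rintro _ _ ⟨b, hb, rfl⟩ ⟨c, hc, rfl⟩
          exact ⟨b + c, hadd b c hb hc, by rw [uS_mul]; simp⟩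
        inv_mem' := by
          rintro _ ⟨b, hb, rfl⟩
          exact ⟨b, hb, by rw [uS_inv]; simp⟩ }
    have hcardB : Nat.card B = 2 ^ n := by
      classical
      have hd : 2 ^ n - 1 ∣ 2 ^ (2 * m + 1) - 1 := Nat.pow_sub_one_dvd_pow_sub_one 2 hdvd
      have hker : Nat.card (powMonoidHom (2 ^ n - 1) : Fˣ →* Fˣ).ker = 2 ^ n - 1 := by
        rw [IsCyclic.card_powMonoidHom_ker, Nat.card_units, Nat.card_eq_fintype_card, hF,
          Nat.gcd_eq_right hd]
      have h0B : (0 : F) ∈ B := zero_pow (by positivity)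
      have e : (powMonoidHom (2 ^ n - 1) : Fˣ →* Fˣ).ker ≃ {b : B // b ≠ ⟨0, h0B⟩} :=
        Equiv.ofBijective (fun u => ⟨⟨(u.1 : F), by
          show (u.1 : F) ^ 2 ^ n = (u.1 : F)
          have h := congrArg Units.val (MonoidHom.mem_ker.mp u.2)
          simp only [powMonoidHom_apply, Units.val_pow_eq_pow_val, Units.val_one] at h
          calc (u.1 : F) ^ 2 ^ n = (u.1 : F) ^ (2 ^ n - 1 + 1) :=
                congrArg ((u.1 : F) ^ ·) (Nat.sub_add_cancel Nat.one_le_two_pow).symm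
            _ = (u.1 : F) := by rw [pow_succ, h, one_mul]⟩, fun h => u.1.ne_zero (congrArg Subtype.val h)⟩) ⟨fun u v h =>
            Subtype.ext (Units.ext (congrArg (fun y => y.1.1) h)), fun b => by
            have hb0 : b.1.1 ≠ 0 := fun h => b.2 (Subtype.ext h)
            refine ⟨⟨Units.mk0 b.1.1 hb0, MonoidHom.mem_ker.mpr (Units.ext ?_)⟩, rfl⟩
            simp only [powMonoidHom_apply, Units.val_pow_eq_pow_val, Units.val_one, Units.val_mk0]
            apply mul_right_cancel₀ hb0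
            rw [← pow_succ, Nat.sub_add_cancel Nat.one_le_two_pow, one_mul]
            exact b.1.2⟩
      have := Nat.card_congr e
      rw [hker, Nat.card_eq_fintype_card, Fintype.card_subtype_compl, Fintype.card_subtype_eq] at this
      have h1 : 0 < Fintype.card B := Fintype.card_pos_iff.mpr ⟨⟨0, h0B⟩⟩
      have := Nat.one_le_two_pow (n := n)
      rw [Nat.card_eq_fintype_card]
      omega
    have hmulB : ∀ b c, b ∈ B → c ∈ B → b * c ∈ B := fun b c hb hc => by
      show (b * c) ^ 2 ^ n = b * c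
      rw [mul_pow, hb, hc]
    have hdivB : ∀ b c, b ∈ B → c ∈ B → b / c ∈ B := fun b c hb hc => by
      show (b / c) ^ 2 ^ n = b / c
      rw [div_pow, hb, hc]
    refine ⟨E, ⟨?_, ?_⟩, ?_, ?_⟩
    · refine ⟨⟨?_⟩⟩
      rintro ⟨_, b, -, rfl⟩ ⟨_, c, -, rfl⟩
      apply Subtype.ext
      show uS hF 0 b * uS hF 0 c = uS hF 0 c * uS hF 0 b
      rw [uS_mul, uS_mul, add_comm b c]
    · rintro _ ⟨b, -, rfl⟩
      rw [sq, uS_sq, th_zero, zero_mul, uS_zero]
    · rw [← hcardB]
      exact Nat.card_congr (Equiv.ofBijective (fun b : B => (⟨uS hF 0 b.1, b.1, b.2, rfl⟩ : E))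
        ⟨fun b c h => Subtype.ext (uS_inj hF (congrArg Subtype.val h)).2,
          fun ⟨_, b, hb, e⟩ => ⟨⟨b, hb⟩, Subtype.ext e.symm⟩⟩).symm
    · intro x hne
      obtain ⟨y, hy, hy1⟩ := (E ⊓ E.map (MulAut.conj x).toMonoidHom).bot_or_exists_ne_one.resolve_left hne
      obtain ⟨⟨b, hb, rfl⟩, ⟨_, ⟨c, hc, rfl⟩, hxy⟩⟩ := hy
      replace hxy : x * uS hF 0 c * x⁻¹ = uS hF 0 b := hxy
      have hc1 : uS hF 0 c ≠ 1 := by
        intro h
        rw [h] at hxy
        exact hy1 (by rw [← hxy]; group)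
      have hfix := conj_fix_inf hF ⟨0, c, rfl⟩ hc1 (by rw [hxy]; exact ⟨0, b, rfl⟩)
      obtain ⟨r, s, t, rfl⟩ := (mem_stabInf_iff hF hm).mp hfix
      rw [conj_uS_zero] at hxy
      have hlam : th m (t : F) * (t : F) ^ 2 ∈ B := by
        have hc0 : c ≠ 0 := fun h => hc1 (by rw [h, uS_zero])
        have e : th m (t : F) * (t : F) ^ 2 = b / c := by rw [← (uS_inj hF hxy).2]; field_simp
        rw [e]; exact hdivB _ _ hb hc
      have hne0 : th m (t : F) * (t : F) ^ 2 ≠ 0 :=
        mul_ne_zero (fun h => t.ne_zero (th_eq_zero_iff.mp h)) (pow_ne_zero _ t.ne_zero)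
      rw [Subgroup.mem_normalizer_iff]
      intro y
      constructor
      · rintro ⟨e, he, rfl⟩
        exact ⟨_, hmulB _ _ hlam he, conj_uS_zero hF r s t e⟩
      · rintro ⟨e, he, hey⟩
        refine ⟨e / (th m (t : F) * (t : F) ^ 2), hdivB _ _ he hlam, ?_⟩
        have := conj_uS_zero hF r s t (e / (th m (t : F) * (t : F) ^ 2))
        rw [mul_div_cancel₀ _ hne0, ← hey] at this
        exact (mul_left_cancel (mul_right_cancel this)).symm

end Cfsg.Agent.S2240
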