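import Cfsg.Statements.S2241
import Cfsg.Agent.Lib.Suzuki.Fixed

set_option autoImplicit false
open Cfsg
open CfsgLib.Suzuki

namespace Cfsg.Agent.S2241

/-- Real 2-elements of the Suzuki group: with q = 2^(2m+1), m ≥ 1, and the group realised as the stabiliser in SL₄ of the Suzuki–Tits ovoid, a non-identity element of a Sylow 2-subgroup is conjugate to its inverse if and only if it is an involution; in particular no element of order 4 is conjugate to its inverse. -/
theorem result {F : Type*} [Field F] [Fintype F] {m : ℕ} (hm : 1 ≤ m) (hF : Fintype.card F = 2 ^ (2 * m + 1)) (P : Sylow 2 ↥(Cfsg.Sz F m)) (g : ↥(Cfsg.Sz F m)) (hg : g ∈ (P : Subgroup ↥(Cfsg.Sz F m))) (h1 : g ≠ 1) :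
    IsConj g g⁻¹ ↔ orderOf g = 2 := by
  haveI : Fact (Nat.Prime 2) := ⟨Nat.prime_two⟩
  obtain ⟨k, hk⟩ := exists_conj_eq hF hm P
  rw [hk] at hg
  obtain ⟨u, hu, rfl⟩ := hg
  constructor
  · intro hconj
    have hu1 : u ≠ 1 := fun h => h1 (by rw [h, map_one])
    obtain ⟨c, hc⟩ := isConj_iff.mp hconj
    simp only [MulEquiv.coe_toMonoidHom, MulAut.conj_apply] at hc ⊢
    obtain ⟨x, hx⟩ : ∃ x, x = k⁻¹ * c * k := ⟨_, rfl⟩
    have hxu : x * u * x⁻¹ = u⁻¹ := by
      have h' : x * u * x⁻¹ = k⁻¹ * (c * (k * u * k⁻¹) * c⁻¹) * k := by rw [hx]; group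
      rw [h', hc]
      group
    have hfix : x • suzukiPointInfinity F = suzukiPointInfinity F :=
      conj_fix_inf hF hu hu1 (by rw [hxu]; exact inv_mem hu)
    obtain ⟨r, s, t, rfl⟩ := (mem_stabInf_iff hF hm).mp hfix
    obtain ⟨a, b, rfl⟩ := hu
    rw [conj_uS, uS_inv] at hxu
    obtain ⟨e1, e2⟩ := uS_inj hF hxu
    by_cases ha : a = 0
    · subst ha
      have hne : k * uS hF 0 b * k⁻¹ ≠ 1 := by simpa using h1
      refine orderOf_eq_prime ?_ hne
      rw [sq]
      calc k * uS hF 0 b * k⁻¹ * (k * uS hF 0 b * k⁻¹) = k * (uS hF 0 b * uS hF 0 b) * k⁻¹ := by group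
        _ = 1 := by rw [uS_sq, th_zero, zero_mul, uS_zero]; group
    · exfalso
      have ht : t = 1 := by
        apply Units.ext
        exact th_injective hF (((mul_eq_right₀ ha).mp e1).trans th_one.symm)
      subst ht
      simp only [Units.val_one, th_one, one_mul, one_pow, add_right_inj] at e2
      -- `r = ρ a`
      set ρ := r / a
      have hr : r = ρ * a := by simp [ρ, ha]
      rw [hr, th_mul] at e2
      have hρ : th m ρ + ρ = 1 := by
        have hne : th m a * a ≠ 0 := mul_ne_zero (fun h => ha (th_eq_zero_iff.mp h)) ha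
        apply mul_left_cancel₀ hne
        linear_combination e2
      have h3 : ρ ^ 2 + th m ρ = 1 := by
        have := congrArg (th m) hρ
        rwa [th_add hF, th_th hF, th_one] at this
      have h4 : ρ * (ρ - 1) = 0 := by linear_combination h3 - hρ
      rcases mul_eq_zero.mp h4 with h5 | h5
      · rw [h5] at hρ; simp at hρ
      · rw [sub_eq_zero.mp h5, th_one] at hρ
        have h2 := two_eq_zero hF
        exact one_ne_zero (show (1 : F) = 0 by linear_combination h2 - hρ)
  · intro h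
    simp only [MulEquiv.coe_toMonoidHom, MulAut.conj_apply] at h ⊢
    have : (k * u * k⁻¹)⁻¹ = k * u * k⁻¹ := by
      rw [inv_eq_iff_mul_eq_one, ← sq, ← h, pow_orderOf_eq_one]
    rw [this]

end Cfsg.Agent.S2241
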