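import Cfsg.Statements.S2244
import Cfsg.Agent.Lib.Chev.WeaklyClosedData
import Cfsg.Agent.Lib.Chev.Inst
-- import your own Cfsg.Agent.* helpers here

set_option autoImplicit false
open Cfsg

namespace Cfsg.Agent.S2244

open CfsgLib.Chev in
/-- Admissible exponents over a field with enough elements. -/
theorem goodExp {F : Type*} [Field F] [Fintype F] (one : Bool) (h : if one then 3 ≤ Fintype.card F else 4 ≤ Fintype.card F) :
    Chev.GoodExp F one := by
  intro e he
  have hcases : e = 1 ∨ e = -1 ∨ (one = false ∧ (e = 2 ∨ e = -2)) := by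
    simp only [WC.eTest, Bool.or_eq_true, Nat.beq_eq, Bool.and_eq_true, Bool.not_eq_true'] at he
    rcases he with h1 | ⟨h0, h2⟩
    · omega
    · exact Or.inr (Or.inr ⟨h0, by omega⟩)
  classical
  obtain ⟨g, hg⟩ := IsCyclic.exists_ofOrder_eq_natCard (α := Fˣ)
  rw [Nat.card_eq_fintype_card, Fintype.card_units] at hg
  constructor
  · refine ⟨g, fun e1 => ?_⟩
    have hd := orderOf_dvd_iff_zpow_eq_one.mpr e1
    rw [hg] at hd
    have hle := Int.le_of_dvd (by omega) ((Int.natCast_dvd_natCast.mpr (Int.natAbs_dvd_natAbs.mpr hd)))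
    rcases hcases with rfl | rfl | ⟨rfl, rfl | rfl⟩ <;>
      simp at hle h <;> (try split at h) <;> omega
  · intro a
    rcases hcases with rfl | rfl | ⟨-, rfl | rfl⟩
    · exact ⟨a ^ 2, zpow_one _⟩
    · exact ⟨(a ^ 2)⁻¹, by rw [zpow_neg_one, inv_inv]⟩
    · exact ⟨a, by rw [← zpow_natCast a 2]; rfl⟩
    · exact ⟨a⁻¹, by rw [zpow_neg, inv_zpow, inv_inv]; exact zpow_natCast a 2⟩

open CfsgLib.Chev in
/-- The three cases of the characteristic. -/
theorem cases3 {F : Type*} [Field F] [Fintype F] {D : Cfsg.Lie.ChevalleyDatum} (Φ : Chev D)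
    (h4 : 4 ≤ Fintype.card F) {T2 T3 T0 : List WC.Ent}
    (h2 : WC.tableOK D (fun c => c % 2 == 0) (fun c => !(c % 2 == 0)) false T2 = true)
    (h3 : WC.tableOK D (fun c => c % 3 == 0) (fun c => !(c % 3 == 0)) false T3 = true)
    (h0 : WC.tableOK D (fun c => c == 0) (fun c => !(c == 0) && Nat.blt c.natAbs 5) false T0 = true)
    (X : Subgroup (GL D.Idx F)) (hXU : X ≤ D.posUnipotent F)
    (hwc : ∀ g ∈ D.group F, X.map (MulAut.conj g).toMonoidHom ≤ D.posUnipotent F →
      X.map (MulAut.conj g).toMonoidHom = X) :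
    ∃ J : Set ℕ, (∀ j ∈ J, j < D.rank) ∧ X = D.unipotentRadical F J := by
  have he : Chev.GoodExp F false := goodExp false (by simpa using h4)
  obtain ⟨p, hp⟩ := CharP.exists F
  haveI := hp
  have hpr : p.Prime := CharP.char_is_prime F p
  have hmod : ∀ (q : ℕ), p = q → ∀ c : ℤ, ((c : F) = 0 ↔ c % (q : ℤ) = 0) := by
    rintro q rfl c
    rw [CharP.intCast_eq_zero_iff F p, Int.dvd_iff_emod_eq_zero]
  by_cases e2 : p = 2
  · exact Φ.exists_radical (fun c hc => (hmod 2 e2 c).mpr (by simpa using hc))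
      (fun c hc h => by
        have := (hmod 2 e2 c).mp h
        simp only [Nat.cast_ofNat] at this
        simp [this] at hc) he h2 X hXU hwc
  by_cases e3 : p = 3
  · exact Φ.exists_radical (fun c hc => (hmod 3 e3 c).mpr (by simpa using hc))
      (fun c hc h => by
        have := (hmod 3 e3 c).mp h
        simp only [Nat.cast_ofNat] at this
        simp [this] at hc) he h3 X hXU hwc
  refine Φ.exists_radical (fun c hc => ?_) (fun c hc h => ?_) he h0 X hXU hwc
  · simp only [beq_iff_eq] at hc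
    rw [hc, Int.cast_zero]
  · simp only [Bool.and_eq_true, Bool.not_eq_true', beq_eq_false_iff_ne, Nat.blt_eq] at hc
    have hdvd := Int.natCast_dvd.mp ((CharP.intCast_eq_zero_iff F p c).mp h)
    have hle := Nat.le_of_dvd (by omega) hdvd
    have h4' : p = 4 := by have := hpr.two_le; omega
    rw [h4'] at hpr
    norm_num at hpr

open CfsgLib.Chev in
/-- The case with unit coefficients. -/
theorem case1 {F : Type*} [Field F] [Fintype F] {D : Cfsg.Lie.ChevalleyDatum} (Φ : Chev D) {one : Bool}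
    (he : Chev.GoodExp F one) {T0 : List WC.Ent}
    (h0 : WC.tableOK D (fun c => c == 0) (fun c => Nat.beq c.natAbs 1) one T0 = true)
    (X : Subgroup (GL D.Idx F)) (hXU : X ≤ D.posUnipotent F)
    (hwc : ∀ g ∈ D.group F, X.map (MulAut.conj g).toMonoidHom ≤ D.posUnipotent F →
      X.map (MulAut.conj g).toMonoidHom = X) :
    ∃ J : Set ℕ, (∀ j ∈ J, j < D.rank) ∧ X = D.unipotentRadical F J := by
  refine Φ.exists_radical (fun c hc => ?_) (fun c hc => ?_) he h0 X hXU hwc
  · simp only [beq_iff_eq] at hc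
    rw [hc, Int.cast_zero]
  · simp only [Nat.beq_eq] at hc
    rcases Int.natAbs_eq_iff.mp hc with rfl | rfl <;> simp

/-- Weakly closed unipotent subgroups of Chevalley groups: let G be the Chevalley group of type G₂, B₂, D₄, F₄, E₆, E₇ or E₈ over a finite field F (the matrix group generated by the root elements), with |F| ≠ 2, and |F| ≠ 3 as well for the types G₂, B₂, D₄, F₄. Let U be the subgroup generated by the positive root subgroups. If X ≤ U is weakly closed in U with respect to G (every G-conjugate of X lying in U equals X), then X is the unipotent radical U_J of a standard parabolic subgroup for some set J of fundamental roots. -/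
theorem result {F : Type*} [Field F] [Fintype F] (D : Cfsg.Lie.ChevalleyDatum) (hD : D ∈ [Cfsg.Lie.chevG2, Cfsg.Lie.chevB2, Cfsg.Lie.chevD4, Cfsg.Lie.chevF4, Cfsg.Lie.chevE6, Cfsg.Lie.chevE7, Cfsg.Lie.chevE8])
    (h2 : Fintype.card F ≠ 2) (h3 : D ∈ [Cfsg.Lie.chevG2, Cfsg.Lie.chevB2, Cfsg.Lie.chevD4, Cfsg.Lie.chevF4] → Fintype.card F ≠ 3)
    (X : Subgroup (GL D.Idx F)) (hXU : X ≤ D.posUnipotent F)
    (hwc : ∀ g ∈ D.group F, X.map (MulAut.conj g).toMonoidHom ≤ D.posUnipotent F → X.map (MulAut.conj g).toMonoidHom = X) :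
    ∃ J : Set ℕ, (∀ j ∈ J, j < D.rank) ∧ X = D.unipotentRadical F J := by
  have hcard : 3 ≤ Fintype.card F := by
    have := Fintype.one_lt_card (α := F)
    omega
  have h4 : D ∈ [Cfsg.Lie.chevG2, Cfsg.Lie.chevB2, Cfsg.Lie.chevD4, Cfsg.Lie.chevF4] → 4 ≤ Fintype.card F :=
    fun h => by
      have := h3 h
      omega
  simp only [List.mem_cons, List.not_mem_nil, or_false] at hD
  rcases hD with rfl | rfl | rfl | rfl | rfl | rfl | rfl
  · exact cases3 CfsgLib.Chev.chevG2 (h4 (by simp)) CfsgLib.Chev.WC.tabG22_ok CfsgLib.Chev.WC.tabG23_ok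
      CfsgLib.Chev.WC.tabG2_ok X hXU hwc
  · exact cases3 CfsgLib.Chev.chevB2 (h4 (by simp)) CfsgLib.Chev.WC.tabB22_ok CfsgLib.Chev.WC.tabB23_ok
      CfsgLib.Chev.WC.tabB2_ok X hXU hwc
  · exact case1 CfsgLib.Chev.chevD4 (goodExp false (by simpa using h4 (by simp))) CfsgLib.Chev.WC.tabD4_ok X hXU hwc
  · exact cases3 CfsgLib.Chev.chevF4 (h4 (by simp)) CfsgLib.Chev.WC.tabF42_ok CfsgLib.Chev.WC.tabF43_ok
      CfsgLib.Chev.WC.tabF4_ok X hXU hwc
  · exact case1 CfsgLib.Chev.chevE6 (goodExp true (by simpa using hcard)) CfsgLib.Chev.WC.tabE6_ok X hXU hwc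
  · exact case1 CfsgLib.Chev.chevE7 (goodExp true (by simpa using hcard)) CfsgLib.Chev.WC.tabE7_ok X hXU hwc
  · exact case1 CfsgLib.Chev.chevE8 (goodExp true (by simpa using hcard)) CfsgLib.Chev.WC.tabE8_ok X hXU hwc

end Cfsg.Agent.S2244
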