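import Cfsg.Statements.S2245
import Cfsg.Agent.Lib.SymSylowMaximal

set_option autoImplicit false
open Cfsg

open CfsgLib.SymSylow

namespace Cfsg.Agent.S2245

private theorem main (n : ℕ) (hn : 5 ≤ n) (h6 : n ≠ 6) {H : Type} [Group H] [Finite H]
    {ι : H →* Equiv.Perm (Fin n)} {R : Subgroup H} {T : Sylow 2 (Equiv.Perm (Fin n))}
    (hA : Ambient ι R T) :
    (∃! M : Subgroup H, IsCoatom M ∧ R ≤ M) ↔ ∃ k : ℕ, 2 ≤ k ∧ n = 2 ^ k + 1 := by
  constructor
  · intro hu
    by_contra hk
    push Not at hk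
    rcases Nat.even_or_odd n with he | ho
    · by_cases hp : ∃ j, n = 2 ^ j
      · obtain ⟨j, hj⟩ := hp
        have h3 : 3 ≤ j := by
          by_contra h
          have : 2 ^ j ≤ 2 ^ 2 := Nat.pow_le_pow_right (by norm_num) (by omega)
          omega
        exact not_unique_pow hA j h3 (by simpa using hj) hu
      · push Not at hp
        exact not_unique_even hA (by obtain ⟨r, hr⟩ := he; simp; omega) (by simpa using he)
          (fun j => by simpa using hp j) hu
    · refine not_unique_odd hA (by simpa using hn) (by simpa using ho) (fun j hj => ?_) hu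
      rw [Fintype.card_fin] at hj
      rcases Nat.lt_or_ge j 2 with h | h
      · interval_cases j <;> omega
      · exact hk j h hj
  · rintro ⟨k, hk, rfl⟩
    exact unique_pow_add_one hA k hk (by simp)

/-- For n ≥ 5 with n ≠ 6, a Sylow 2-subgroup of the alternating group A_n lies in exactly one maximal subgroup of A_n if and only if n = 2^k + 1 for some k ≥ 2; the same holds for the symmetric group S_n. -/
theorem result (n : ℕ) (hn : 5 ≤ n) (h6 : n ≠ 6) :
    ((∀ R : Sylow 2 ↥(alternatingGroup (Fin n)), (∃! M : Subgroup ↥(alternatingGroup (Fin n)), IsCoatom M ∧ (R : Subgroup ↥(alternatingGroup (Fin n))) ≤ M) ↔ ∃ k : ℕ, 2 ≤ k ∧ n = 2 ^ k + 1) ∧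
    (∀ R : Sylow 2 (Equiv.Perm (Fin n)), (∃! M : Subgroup (Equiv.Perm (Fin n)), IsCoatom M ∧ (R : Subgroup (Equiv.Perm (Fin n))) ≤ M) ↔ ∃ k : ℕ, 2 ≤ k ∧ n = 2 ^ k + 1)) := by
  have : Fact (Nat.Prime 2) := ⟨Nat.prime_two⟩
  constructor
  · intro R
    obtain ⟨T, hT⟩ := exists_sylow_perm R
    refine main n hn h6 (ι := (alternatingGroup (Fin n)).subtype) (T := T) ⟨?_, ?_, ?_, ?_⟩
    · rw [Subgroup.range_subtype]
    · rintro _ ⟨x, hx, rfl⟩; exact (hT x).mp hx
    · exact fun x hx hs => ⟨⟨x, hs⟩, (hT ⟨x, hs⟩).mpr hx, rfl⟩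
    · intro M _ hM
      rw [eq_top_iff]
      intro x _
      obtain ⟨y, hy, hxy⟩ := hM x.2
      rwa [← Subtype.ext hxy]
  · intro R
    refine main n hn h6 (ι := MonoidHom.id (Equiv.Perm (Fin n))) (T := R) ⟨?_, ?_, ?_, ?_⟩
    · intro x _; exact ⟨x, rfl⟩
    · simp
    · intro x hx _; exact ⟨x, hx, rfl⟩
    · intro M hRM hM
      rw [Subgroup.map_id] at hM
      obtain ⟨p, hp, hmem⟩ := exists_pairing_mem R
      obtain ⟨c, hc⟩ : ∃ c, p c ≠ c := by
        by_contra h
        push Not at h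
        have := hp.fixed ⟨0, by omega⟩ ⟨1, by omega⟩ (h _) (h _)
        simp at this
      rw [eq_top_iff]
      intro x _
      rcases Int.units_eq_one_or (Equiv.Perm.sign x) with hs | hs
      · exact hM hs
      · have h2 : x * Equiv.swap c (p c) ∈ M := hM (by
          rw [Equiv.Perm.mem_alternatingGroup, map_mul, hs, Equiv.Perm.sign_swap (Ne.symm hc)]; rfl)
        exact (M.mul_mem_cancel_right (hRM (hmem c))).mp h2

end Cfsg.Agent.S2245
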