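import Cfsg.Statements.S2247
import Cfsg.Agent.Lib.Suzuki.Fixed

set_option autoImplicit false
open Cfsg
open CfsgLib.Suzuki

namespace Cfsg.Agent.S2247

/-- In the Suzuki group with q = 2^(2m+1), m ≥ 1 (realised as the stabiliser in SL₄ of the Suzuki–Tits ovoid), the normalizer of a Sylow 2-subgroup P is a maximal subgroup and is the only maximal subgroup containing P. -/
theorem result {F : Type*} [Field F] [Fintype F] {m : ℕ} (hm : 1 ≤ m) (hF : Fintype.card F = 2 ^ (2 * m + 1)) (P : Sylow 2 ↥(Cfsg.Sz F m)) :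
    IsCoatom (Subgroup.normalizer ((P : Subgroup ↥(Cfsg.Sz F m)) : Set ↥(Cfsg.Sz F m))) ∧
    ∀ M : Subgroup ↥(Cfsg.Sz F m), IsCoatom M → (P : Subgroup ↥(Cfsg.Sz F m)) ≤ M → M = Subgroup.normalizer ((P : Subgroup ↥(Cfsg.Sz F m)) : Set ↥(Cfsg.Sz F m)) := by
  haveI : Fact (Nat.Prime 2) := ⟨Nat.prime_two⟩
  obtain ⟨k, hk⟩ := exists_conj_eq hF hm P
  set S := MulAction.stabilizer (Cfsg.Sz F m) (suzukiPointInfinity F) with hS
  have hN : Subgroup.normalizer ((P : Subgroup ↥(Cfsg.Sz F m)) : Set ↥(Cfsg.Sz F m)) =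
      S.map (MulAut.conj k).toMonoidHom := by
    rw [hk, hS, ← normalizer_U hF hm, Subgroup.map_equiv_normalizer_eq]
  have key : ∀ M : Subgroup ↥(Cfsg.Sz F m), U hF ≤ M → ¬ M ≤ S → M = ⊤ := by
    intro M hUM hMS
    obtain ⟨g, hgM, hgS⟩ := SetLike.not_le_iff_exists.mp hMS
    rcases mem_ovoid_iff.mp (smul_mem_ovoid g.2 inf_mem :
        g • suzukiPointInfinity F ∈ suzukiOvoid F m) with h | ⟨a, b, h⟩
    · exact absurd (MulAction.mem_stabilizer_iff.mpr h) hgS
    replace h : g • suzukiPointInfinity F = pt m a b := h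
    have htr : ∀ p ∈ suzukiOvoid F m, ∃ x ∈ M, x • suzukiPointInfinity F = p := by
      intro p hp
      rcases mem_ovoid_iff.mp hp with rfl | ⟨x, y, rfl⟩
      · exact ⟨1, one_mem M, one_smul _ _⟩
      · refine ⟨uS hF x y * (uS hF a b)⁻¹ * g,
          mul_mem (mul_mem (hUM ⟨_, _, rfl⟩) (inv_mem (hUM ⟨_, _, rfl⟩))) hgM, ?_⟩
        rw [mul_smul, mul_smul, h, ← smul_uS_zero hF a b, inv_smul_smul, smul_uS_zero]
    have hn : Subgroup.normalClosure (U hF : Set ↥(Cfsg.Sz F m)) ≤ M := by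
      rw [Subgroup.normalClosure, Subgroup.closure_le]
      intro y hy
      obtain ⟨u, hu, huy⟩ := Group.mem_conjugatesOfSet_iff.mp hy
      obtain ⟨c, rfl⟩ := isConj_iff.mp huy
      obtain ⟨x, hxM, hx⟩ := htr _ (smul_mem_ovoid c.2 inf_mem :
        c • suzukiPointInfinity F ∈ suzukiOvoid F m)
      have hs : (x⁻¹ * c) • suzukiPointInfinity F = suzukiPointInfinity F := by
        rw [mul_smul, inv_smul_eq_iff]; exact hx.symm
      have hu' : x⁻¹ * c * u * (x⁻¹ * c)⁻¹ ∈ U hF := by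
        have hxc : x⁻¹ * c ∈ Subgroup.normalizer (U hF : Set ↥(Cfsg.Sz F m)) := by
          rw [normalizer_U hF hm]; exact hs
        exact (Subgroup.mem_normalizer_iff.mp hxc u).mp hu
      have := mul_mem (mul_mem hxM (hUM hu')) (inv_mem hxM)
      have e : x * (x⁻¹ * c * u * (x⁻¹ * c)⁻¹) * x⁻¹ = c * u * c⁻¹ := by group
      rwa [e] at this
    have htop : Subgroup.normalClosure (U hF : Set ↥(Cfsg.Sz F m)) = ⊤ :=
      eq_top_of_uS_mem hF hm _ (fun a b => Subgroup.subset_normalClosure ⟨a, b, rfl⟩)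
    rw [htop] at hn
    exact top_le_iff.mp hn
  have hUS : U hF ≤ S := U_le_stabInf hF
  have hne : S ≠ ⊤ := by
    intro h
    have hw : wS hF ∈ S := by rw [h]; trivial
    rw [hS, MulAction.mem_stabilizer_iff, smul_wS_inf, ← pt_zero (m := m)] at hw
    exact pt_ne_inf _ _ hw
  have hco : IsCoatom S := ⟨hne, fun M hM => key M (hUS.trans hM.le) (not_le_of_gt hM)⟩
  have hco' : IsCoatom (S.map (MulAut.conj k).toMonoidHom) :=
    (OrderIso.isCoatom_iff (MulAut.conj k).mapSubgroup S).mpr hco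
  refine ⟨hN ▸ hco', fun M hM hPM => ?_⟩
  rw [hN]
  by_contra hne'
  have hU : U hF ≤ M.comap (MulAut.conj k).toMonoidHom := by
    rw [← Subgroup.map_le_iff_le_comap, ← hk]; exact hPM
  by_cases h : M.comap (MulAut.conj k).toMonoidHom ≤ S
  · have hMS : M ≤ S.map (MulAut.conj k).toMonoidHom := by
      intro x hx
      obtain ⟨y, rfl⟩ := (MulAut.conj k).surjective x
      exact ⟨y, h hx, rfl⟩
    exact hco'.1 (hM.2 _ (lt_of_le_of_ne hMS hne'))
  · refine hM.1 (top_le_iff.mp fun x _ => ?_)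
    obtain ⟨y, rfl⟩ := (MulAut.conj k).surjective x
    have : y ∈ M.comap (MulAut.conj k).toMonoidHom := by rw [key _ hU h]; trivial
    exact this

end Cfsg.Agent.S2247
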