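import Cfsg.Statements.S2250
import Cfsg.Agent.Lib.LinearSylowTwo.Final
import Cfsg.Agent.Lib.FiniteForms.Standard
import Cfsg.Agent.Lib.SympTransvection
-- import your own Cfsg.Agent.* helpers here

set_option autoImplicit false
open Cfsg

namespace Cfsg.Agent.S2250

open Matrix CfsgLib.LinearSylowTwo CfsgLib.SymSylowGen CfsgLib.OmegaSylowTwo
set_option maxHeartbeats 1000000

/-- Orthogonal families of self-adjoint idempotents commuting with `E`. -/
def Fam {F : Type*} [Field F] {n : ℕ} (E : Subgroup (Matrix.symplecticGroup (Fin n) F))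
    (S : Finset (Matrix (Fin n ⊕ Fin n) (Fin n ⊕ Fin n) F)) : Prop :=
  (∀ P ∈ S, P ≠ 0 ∧ P * P = P ∧ Pᵀ * J (Fin n) F = J (Fin n) F * P ∧ ∀ e ∈ E, e.1 * P = P * e.1) ∧
    (∀ P ∈ S, ∀ Q ∈ S, P ≠ Q → P * Q = 0) ∧ ∑ P ∈ S, P = 1

theorem card_le_two_pow {F : Type*} [Field F] [Fintype F] (h2 : (2 : F) ≠ 0) {n : ℕ}
    (E : Subgroup (Matrix.symplecticGroup (Fin n) F)) (hE : Cfsg.IsElementaryAbelian 2 E) :
    Nat.card E ≤ 2 ^ n := by
  classical
  rcases Nat.eq_zero_or_pos n with rfl | hn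
  · haveI : Subsingleton E := ⟨fun a b => Subtype.ext (Subtype.ext (Subsingleton.elim _ _))⟩
    rw [Nat.card_of_subsingleton (1 : E)]; simp
  haveI : Nonempty (Fin n ⊕ Fin n) := ⟨Sum.inl ⟨0, hn⟩⟩
  have hcomm : ∀ a ∈ E, ∀ b ∈ E, a.1 * b.1 = b.1 * a.1 := fun a ha b hb =>
    congrArg (fun x : E => x.1.1) (hE.1.is_comm.comm ⟨a, ha⟩ ⟨b, hb⟩)
  have hsq : ∀ a ∈ E, a.1 * a.1 = 1 := fun a ha => by
    have := congrArg Subtype.val (hE.2 a ha)
    rwa [sq] at this
  have hself : ∀ a ∈ E, a.1ᵀ * J (Fin n) F = J (Fin n) F * a.1 := fun a ha => by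
    calc a.1ᵀ * J (Fin n) F = a.1ᵀ * J (Fin n) F * (a.1 * a.1) := by rw [hsq a ha, Matrix.mul_one]
      _ = a.1ᵀ * J (Fin n) F * a.1 * a.1 := by simp only [Matrix.mul_assoc]
      _ = J (Fin n) F * a.1 := by rw [SymplecticGroup.mem_iff'.1 a.2]
  have h1 : Fam E {1} := by
    refine ⟨fun P hP => ?_, fun P hP Q hQ h => ?_, Finset.sum_singleton _ _⟩
    · rw [Finset.mem_singleton] at hP
      subst hP
      exact ⟨one_ne_zero, one_mul _, by rw [transpose_one, Matrix.one_mul, Matrix.mul_one],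
        fun e _ => by rw [Matrix.mul_one, Matrix.one_mul]⟩
    · rw [Finset.mem_singleton] at hP hQ
      exact absurd (hP.trans hQ.symm) h
  obtain ⟨S, hS, hmax⟩ := Finset.exists_max_image
    (Finset.univ.filter fun S => Fam E S) Finset.card ⟨_, Finset.mem_filter.2 ⟨Finset.mem_univ _, h1⟩⟩
  obtain ⟨hp, horth, hsum⟩ := (Finset.mem_filter.1 hS).2
  have hsign : ∀ e ∈ E, ∀ P ∈ S, e.1 * P = P ∨ e.1 * P = -P := by
    intro e he P hP
    obtain ⟨hP0, hPP, hPJ, hPc⟩ := hp P hP
    by_contra hno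
    rw [not_or] at hno
    set c : F := (2 : F)⁻¹ with hc
    set A := c • (P + e.1 * P) with hA
    set B := c • (P - e.1 * P) with hB
    have hAB : A + B = P := by
      rw [hA, hB, ← smul_add, add_add_sub_cancel, ← two_smul F P, smul_smul, hc, inv_mul_cancel₀ h2, one_smul]
    have hA0 : A ≠ 0 := fun h => by
      rw [hA, smul_eq_zero, hc, inv_eq_zero] at h
      exact hno.2 (eq_neg_of_add_eq_zero_right (h.resolve_left h2))
    have hB0 : B ≠ 0 := fun h => by
      rw [hB, smul_eq_zero, hc, inv_eq_zero] at h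
      exact hno.1 (sub_eq_zero.1 (h.resolve_left h2)).symm
    have heP : e.1 * P * P = e.1 * P := by rw [Matrix.mul_assoc, hPP]
    have hePe : e.1 * P * (e.1 * P) = P := by
      rw [hPc e he, Matrix.mul_assoc, ← Matrix.mul_assoc e.1 P e.1, hPc e he, ← Matrix.mul_assoc P,
        ← Matrix.mul_assoc P P, hPP, Matrix.mul_assoc, hsq e he, Matrix.mul_one]
    have hPeP : P * (e.1 * P) = e.1 * P := by rw [← Matrix.mul_assoc, ← hPc e he, heP]
    have hc2 : c * c * 2 = c := by rw [mul_assoc, hc, inv_mul_cancel₀ h2, mul_one]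
    have hAA : A * A = A := by
      rw [hA, smul_mul_smul_comm, add_mul, mul_add, mul_add, hPP, hPeP, heP, hePe, add_comm (e.1 * P) P,
        ← two_smul F (P + e.1 * P), smul_smul, hc2]
    have hBB : B * B = B := by
      rw [hB, smul_mul_smul_comm, sub_mul, mul_sub, mul_sub, hPP, hPeP, heP, hePe,
        show P - e.1 * P - (e.1 * P - P) = (2 : F) • (P - e.1 * P) by rw [two_smul]; abel, smul_smul, hc2]
    have hABz : A * B = 0 := by
      rw [hA, hB, smul_mul_smul_comm, add_mul, mul_sub, mul_sub, hPP, hPeP, heP, hePe, sub_add_sub_cancel, sub_self,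
        smul_zero]
    have hBAz : B * A = 0 := by
      rw [hA, hB, smul_mul_smul_comm, sub_mul, mul_add, mul_add, hPP, hPeP, heP, hePe, add_comm (e.1 * P) P,
        sub_self, smul_zero]
    have heJ : (e.1 * P)ᵀ * J (Fin n) F = J (Fin n) F * (e.1 * P) := by
      rw [transpose_mul, Matrix.mul_assoc, hself e he, ← Matrix.mul_assoc, hPJ, Matrix.mul_assoc, hPc e he]
    have hAJ : Aᵀ * J (Fin n) F = J (Fin n) F * A := by
      rw [hA, transpose_smul, transpose_add, Matrix.smul_mul, Matrix.mul_smul, Matrix.add_mul, Matrix.mul_add,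
        heJ, hPJ]
    have hBJ : Bᵀ * J (Fin n) F = J (Fin n) F * B := by
      rw [hB, transpose_smul, transpose_sub, Matrix.smul_mul, Matrix.mul_smul, Matrix.sub_mul, Matrix.mul_sub,
        heJ, hPJ]
    have hec : ∀ a ∈ E, a.1 * (e.1 * P) = e.1 * P * a.1 := fun a ha => by
      rw [← Matrix.mul_assoc, hcomm a ha e he, Matrix.mul_assoc, hPc a ha, ← Matrix.mul_assoc]
    have hAc : ∀ a ∈ E, a.1 * A = A * a.1 := fun a ha => by
      rw [hA, Matrix.mul_smul, Matrix.smul_mul, Matrix.mul_add, Matrix.add_mul, hPc a ha, hec a ha]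
    have hBc : ∀ a ∈ E, a.1 * B = B * a.1 := fun a ha => by
      rw [hB, Matrix.mul_smul, Matrix.smul_mul, Matrix.mul_sub, Matrix.sub_mul, hPc a ha, hec a ha]
    have hPA : P * A = A ∧ A * P = A := by
      constructor
      · rw [hA, Matrix.mul_smul, Matrix.mul_add, hPP, hPeP]
      · rw [hA, Matrix.smul_mul, Matrix.add_mul, hPP, heP]
    have hPB : P * B = B ∧ B * P = B := by
      constructor
      · rw [hB, Matrix.mul_smul, Matrix.mul_sub, hPP, hPeP]
      · rw [hB, Matrix.smul_mul, Matrix.sub_mul, hPP, heP]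
    have hout : ∀ Q ∈ S.erase P, A * Q = 0 ∧ Q * A = 0 ∧ B * Q = 0 ∧ Q * B = 0 ∧ Q ≠ A ∧ Q ≠ B := by
      intro Q hQ
      obtain ⟨hne, hQS⟩ := Finset.mem_erase.1 hQ
      have e1 : A * Q = 0 := by rw [← hPA.2, Matrix.mul_assoc, horth P hP Q hQS hne.symm, Matrix.mul_zero]
      have e2 : Q * A = 0 := by rw [← hPA.1, ← Matrix.mul_assoc, horth Q hQS P hP hne, Matrix.zero_mul]
      have e3 : B * Q = 0 := by rw [← hPB.2, Matrix.mul_assoc, horth P hP Q hQS hne.symm, Matrix.mul_zero]
      have e4 : Q * B = 0 := by rw [← hPB.1, ← Matrix.mul_assoc, horth Q hQS P hP hne, Matrix.zero_mul]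
      refine ⟨e1, e2, e3, e4, ?_, ?_⟩
      · rintro rfl; exact hA0 (hAA ▸ e1)
      · rintro rfl; exact hB0 (hBB ▸ e3)
    have hAneB : A ≠ B := fun h => hA0 (by rw [← hAA]; nth_rewrite 2 [h]; exact hABz)
    have hA' : A ∉ insert B (S.erase P) := by
      rw [Finset.mem_insert]
      rintro (h | h)
      · exact hAneB h
      · exact (hout A h).2.2.2.2.1 rfl
    have hB' : B ∉ S.erase P := fun h => (hout B h).2.2.2.2.2 rfl
    have hfam : Fam E (insert A (insert B (S.erase P))) := by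
      refine ⟨fun X hX => ?_, fun X hX Y hY hne => ?_, ?_⟩
      · rcases Finset.mem_insert.1 hX with rfl | hX
        · exact ⟨hA0, hAA, hAJ, hAc⟩
        rcases Finset.mem_insert.1 hX with rfl | hX
        · exact ⟨hB0, hBB, hBJ, hBc⟩
        · exact hp X (Finset.mem_of_mem_erase hX)
      · rcases Finset.mem_insert.1 hX with hX | hX
        · rcases Finset.mem_insert.1 hY with hY | hY
          · exact absurd (hX.trans hY.symm) hne
          rcases Finset.mem_insert.1 hY with hY | hY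
          · rw [hX, hY]; exact hABz
          · rw [hX]; exact (hout Y hY).1
        rcases Finset.mem_insert.1 hX with hX | hX
        · rcases Finset.mem_insert.1 hY with hY | hY
          · rw [hX, hY]; exact hBAz
          rcases Finset.mem_insert.1 hY with hY | hY
          · exact absurd (hX.trans hY.symm) hne
          · rw [hX]; exact (hout Y hY).2.2.1
        · rcases Finset.mem_insert.1 hY with hY | hY
          · rw [hY]; exact (hout X hX).2.1
          rcases Finset.mem_insert.1 hY with hY | hY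
          · rw [hY]; exact (hout X hX).2.2.2.1
          · exact horth X (Finset.mem_of_mem_erase hX) Y (Finset.mem_of_mem_erase hY) hne
      · rw [Finset.sum_insert hA', Finset.sum_insert hB', ← add_assoc, hAB, Finset.add_sum_erase S (fun x => x) hP]
        exact hsum
    have := hmax _ (Finset.mem_filter.2 ⟨Finset.mem_univ _, hfam⟩)
    rw [Finset.card_insert_of_notMem hA', Finset.card_insert_of_notMem hB', Finset.card_erase_of_mem hP] at this
    have := Finset.card_pos.2 ⟨P, hP⟩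
    omega
  have hSn : S.card ≤ n := by
    let L : ((P : S) → LinearMap.range (Matrix.mulVecLin P.1)) →ₗ[F] (Fin n ⊕ Fin n → F) :=
      { toFun := fun v => ∑ P, (v P).1
        map_add' := fun v w => by simp [Finset.sum_add_distrib]
        map_smul' := fun a v => by simp [Finset.smul_sum] }
    have hLinj : Function.Injective L := by
      intro v w h
      funext P
      have happ : ∀ u : (Q : S) → LinearMap.range (Matrix.mulVecLin Q.1), P.1 *ᵥ L u = (u P).1 := by
        intro u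
        show P.1 *ᵥ ∑ Q, (u Q).1 = _
        rw [Matrix.mulVec_sum, Finset.sum_eq_single P ?_ (by simp)]
        · obtain ⟨z, hz⟩ := (u P).2
          rw [← hz, Matrix.mulVecLin_apply, Matrix.mulVec_mulVec, (hp _ P.2).2.1]
        · intro Q _ hQ
          obtain ⟨z, hz⟩ := (u Q).2
          rw [← hz, Matrix.mulVecLin_apply, Matrix.mulVec_mulVec,
            horth _ P.2 _ Q.2 (fun e => hQ (Subtype.ext e.symm)), Matrix.zero_mulVec]
      exact Subtype.ext (by rw [← happ v, ← happ w, h])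
    have hle := LinearMap.finrank_le_finrank_of_injective hLinj
    rw [Module.finrank_pi_fintype, Module.finrank_fintype_fun_eq_card, Fintype.card_sum, Fintype.card_fin] at hle
    have htwo : ∀ P : S, 2 ≤ Module.finrank F (LinearMap.range (Matrix.mulVecLin P.1)) := by
      intro P
      obtain ⟨hP0, hPP, hPJ, -⟩ := hp _ P.2
      by_contra hlt
      push_neg at hlt
      apply hP0
      obtain ⟨⟨w, hw⟩, hspan⟩ := finrank_le_one_iff.1 (Nat.le_of_lt_succ hlt)
      have hPv : ∀ v, ∃ a : F, P.1 *ᵥ v = a • w := fun v => by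
        obtain ⟨a, ha⟩ := hspan ⟨P.1 *ᵥ v, LinearMap.mem_range_self _ v⟩
        exact ⟨a, (congrArg Subtype.val ha).symm⟩
      have hPw : P.1 *ᵥ w = w := by
        obtain ⟨z, hz⟩ := hw
        rw [← hz, Matrix.mulVecLin_apply, Matrix.mulVec_mulVec, hPP]
      have hw0 : w ᵥ* J (Fin n) F = 0 := by
        funext i
        obtain ⟨a, ha⟩ := hPv (Pi.single i 1)
        calc (w ᵥ* J (Fin n) F) i = w ⬝ᵥ (J (Fin n) F *ᵥ Pi.single i 1) := by
              rw [Matrix.dotProduct_mulVec]; simp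
          _ = (P.1 *ᵥ w) ⬝ᵥ (J (Fin n) F *ᵥ Pi.single i 1) := by rw [hPw]
          _ = w ⬝ᵥ (J (Fin n) F *ᵥ (P.1 *ᵥ Pi.single i 1)) := by
              rw [← Matrix.vecMul_transpose, ← Matrix.dotProduct_mulVec, Matrix.mulVec_mulVec, Matrix.mulVec_mulVec, hPJ]
          _ = 0 := by rw [ha, Matrix.mulVec_smul, dotProduct_smul, CfsgLib.SympTransvection.dot_J_self, smul_zero]
      have hwz : w = 0 := by
        have := congrArg (fun u => u ᵥ* J (Fin n) F) hw0
        simpa [Matrix.vecMul_vecMul, Matrix.J_squared, Matrix.vecMul_neg] using this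
      refine Matrix.ext_of_mulVec_single fun i => ?_
      obtain ⟨a, ha⟩ := hPv (Pi.single i 1)
      rw [ha, hwz, smul_zero, Matrix.zero_mulVec]
    have h3 : ∑ _P : S, 2 ≤ n + n := (Finset.sum_le_sum fun P _ => htwo P).trans hle
    rw [Finset.sum_const, Finset.card_univ, Fintype.card_coe, smul_eq_mul] at h3
    omega
  calc Nat.card E ≤ Nat.card (S → Bool) := Nat.card_le_card_of_injective
        (fun e P => decide (e.1.1 * P.1 = P.1)) (fun a b h => by
          refine Subtype.ext (Subtype.ext ?_)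
          rw [← Matrix.mul_one a.1.1, ← Matrix.mul_one b.1.1, ← hsum, Finset.mul_sum, Finset.mul_sum]
          refine Finset.sum_congr rfl fun P hP => ?_
          have := congrFun h ⟨P, hP⟩
          simp only [decide_eq_decide] at this
          rcases hsign _ a.2 P hP with ha | ha
          · rw [ha, this.1 ha]
          rcases hsign _ b.2 P hP with hb | hb
          · rw [hb, this.2 hb]
          · rw [ha, hb])
    _ = 2 ^ S.card := by simp
    _ ≤ 2 ^ n := Nat.pow_le_pow_right two_pos hSn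

/-- The normal 2-rank of the symplectic group over a finite field of odd order: for n ≥ 1 and S a Sylow 2-subgroup of Sp_{2n}(F), the largest rank of an elementary abelian subgroup of S that is normal in S equals n. -/
theorem result {F : Type*} [Field F] [Fintype F] (hF : Odd (Fintype.card F)) (n : ℕ) (hn : 1 ≤ n) (S : Sylow 2 ↥(Matrix.symplecticGroup (Fin n) F)) :
    ((∃ E : Subgroup ↥(S : Subgroup ↥(Matrix.symplecticGroup (Fin n) F)), E.Normal ∧ Cfsg.IsElementaryAbelian 2 E ∧ 2 ^ (n) ≤ Nat.card ↥E) ∧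
      ∀ E : Subgroup ↥(S : Subgroup ↥(Matrix.symplecticGroup (Fin n) F)), E.Normal → Cfsg.IsElementaryAbelian 2 E → Nat.card ↥E ≤ 2 ^ (n)) := by
  classical
  haveI : Fact (Nat.Prime 2) := ⟨Nat.prime_two⟩
  have h2 : (2 : F) ≠ 0 := CfsgLib.FiniteForms.two_ne_zero_of_odd rfl hF
  refine ⟨?_, ?_⟩
  swap
  · intro E hEn hE
    rw [← Subgroup.card_map_of_injective (K := E) (f := S.1.subtype) S.1.subtype_injective]
    refine card_le_two_pow h2 _ ⟨⟨⟨?_⟩⟩, ?_⟩
    · rintro ⟨_, a, ha, rfl⟩ ⟨_, b, hb, rfl⟩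
      exact Subtype.ext (congrArg (fun x : E => x.1.1) (hE.1.is_comm.comm ⟨a, ha⟩ ⟨b, hb⟩))
    · rintro _ ⟨a, ha, rfl⟩
      rw [← map_pow, hE.2 a ha, map_one]
  obtain ⟨Q, hQk, hQs, hQc⟩ := exists_sqIn_ker (F := F) h2
  obtain ⟨T, hTp, hTc, hTg, -⟩ := exists_generated 2 n
  rw [← Nat.factorization_def _ Nat.prime_two] at hTc
  set P₁ := mono (r := 0) Q ⊥ T with hP₁
  let ψ : Matrix.symplecticGroup (Fin n) F →* GL (Ix n 0) F :=
    (glReindex (sympIx n)).toMonoidHom.comp (MonoidHom.toHomUnits (Matrix.symplecticGroup (Fin n) F).subtype)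
  have hinj : Function.Injective ψ := fun a b h => Subtype.ext
    (congrArg Units.val ((glReindex (sympIx n)).injective h))
  have key : ∀ g : GL (Ix n 0) F, g.1.submatrix (sympIx n) (sympIx n) ∈ Matrix.symplecticGroup (Fin n) F →
      g ∈ ψ.range := fun g hg => ⟨⟨_, hg⟩, Units.ext (by
        show (g.1.submatrix (sympIx n) (sympIx n)).submatrix (sympIx n).symm (sympIx n).symm = g.1
        simp)⟩
  have hBl : ∀ x : Dat F n 0, (∀ i, (x.1 i).1.det = 1) → Bl x ∈ ψ.range := by
    intro x hd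
    refine key _ ?_
    have hA : (Bl x).1.submatrix (sympIx n) (sympIx n) = Matrix.fromBlocks
        (Matrix.diagonal fun i => (x.1 i).1 0 0) (Matrix.diagonal fun i => (x.1 i).1 0 1)
        (Matrix.diagonal fun i => (x.1 i).1 1 0) (Matrix.diagonal fun i => (x.1 i).1 1 1) := by
      ext a b
      rcases a with i | i <;> rcases b with j | j <;>
        simp [Bl_val, sympIx, Matrix.blockDiagonal_apply, Matrix.diagonal_apply]
    rw [hA, SymplecticGroup.mem_iff, Matrix.J, Matrix.fromBlocks_transpose, Matrix.fromBlocks_multiply,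
      Matrix.fromBlocks_multiply]
    have hd' : ∀ i, (x.1 i).1 0 0 * (x.1 i).1 1 1 - (x.1 i).1 0 1 * (x.1 i).1 1 0 = 1 := fun i => by
      rw [← Matrix.det_fin_two]; exact hd i
    simp only [Matrix.diagonal_transpose, Matrix.mul_zero, Matrix.zero_mul, Matrix.mul_neg, Matrix.neg_mul,
      Matrix.mul_one, zero_add, add_zero, Matrix.diagonal_mul_diagonal, Matrix.diagonal_neg,
      Matrix.diagonal_add]
    congr 1
    · rw [← Matrix.diagonal_zero]
      exact congrArg _ (funext fun i => by (try simp only [Pi.neg_apply]); ring)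
    · rw [← Matrix.diagonal_one, Matrix.diagonal_neg]
      exact congrArg _ (funext fun i => by (try simp only [Pi.neg_apply]); linear_combination -(hd' i))
    · rw [← Matrix.diagonal_one]
      exact congrArg _ (funext fun i => by (try simp only [Pi.neg_apply]); linear_combination hd' i)
    · rw [← Matrix.diagonal_zero]
      exact congrArg _ (funext fun i => by (try simp only [Pi.neg_apply]); ring)
  have hrange : P₁ ≤ ψ.range := by
    refine sup_le ?_ ?_
    · rintro _ ⟨x, hx, rfl⟩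
      rw [SetLike.mem_coe, mem_datSub] at hx
      exact hBl x fun i => congrArg Units.val (MonoidHom.mem_ker.1 (hQk (hx.1 i)))
    · rintro _ ⟨w, -, rfl⟩
      refine key _ ?_
      have hA : (Prm (F := F) (r := 0) w).1.submatrix (sympIx n) (sympIx n) = Matrix.fromBlocks
          ((w⁻¹).permMatrix F) 0 0 ((w⁻¹).permMatrix F) := by
        ext a b
        rcases a with i | i <;> rcases b with j | j <;>
          simp [Prm_val, sympIx, ePerm, Equiv.toPEquiv_apply, PEquiv.toMatrix_apply, Equiv.Perm.inv_def]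
      rw [hA, SymplecticGroup.mem_iff, Matrix.J, Matrix.fromBlocks_transpose, Matrix.fromBlocks_multiply,
        Matrix.fromBlocks_multiply]
      simp [Matrix.transpose_permMatrix, ← Matrix.permMatrix_mul]
  set P₀ := P₁.comap ψ with hP₀
  have hmap : P₀.map ψ = P₁ := Subgroup.map_comap_eq_self hrange
  have hP₁p : IsPGroup 2 P₁ := isPGroup_mono Q ⊥ T (IsPGroup.of_card hQc) IsPGroup.of_bot hTp
  have hc : Nat.card P₀ = Nat.card P₁ := by rw [← hmap, Subgroup.card_map_of_injective hinj]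
  obtain ⟨d, hd⟩ := IsPGroup.iff_card.1 hP₁p
  have hcard := two_part_subgroup (IsPGroup.of_card (hc.trans hd)) (by
    rw [hc, v2_Sp h2]
    refine le_trans (le_of_eq ?_) (card_mono Q ⊥ T)
    rw [hQc, hTc, pow_zero, mul_one, ← pow_mul, ← pow_add]
    ring_nf)
  let sg : ℤˣ →* GL (Fin 2) F := (Matrix.GeneralLinearGroup.scalar (Fin 2)).comp (Units.map (Int.castRingHom F).toMonoidHom)
  have hsgc : ∀ (s : ℤˣ) (g : GL (Fin 2) F), g * sg s = sg s * g := fun s g =>
    Units.ext ((Matrix.scalar_commute _ (fun _ => Commute.all _ _) g.1).eq).symm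
  have hsgd : ∀ s : ℤˣ, (sg s).1.det = 1 := fun s => by
    show (Matrix.scalar (Fin 2) ((s : ℤ) : F)).det = 1
    rw [Matrix.scalar_apply, Matrix.det_diagonal, Fin.prod_univ_two]
    rcases Int.units_eq_one_or s with rfl | rfl <;> simp
  let D : (Fin n → ℤˣ) →* Dat F n 0 := (MonoidHom.inl _ _).comp (Pi.monoidHom fun i => sg.comp (Pi.evalMonoidHom _ i))
  set E₀ := ((Bl.comp D).range).comap ψ with hE₀
  have hE₀map : E₀.map ψ = (Bl.comp D).range := Subgroup.map_comap_eq_self (by
    rintro _ ⟨s, rfl⟩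
    exact hBl _ fun i => hsgd (s i))
  have hDinj : Function.Injective (Bl.comp D) := fun s t h => by
    funext i
    have h1 := congrArg (fun g : GL (Fin 2) F => g.1 0 0) (congrFun (congrArg Prod.fst (Bl_injective h)) i)
    change Matrix.scalar (Fin 2) (((s i : ℤ)) : F) 0 0 = Matrix.scalar (Fin 2) (((t i : ℤ)) : F) 0 0 at h1
    simp only [Matrix.scalar_apply, Matrix.diagonal_apply_eq] at h1
    rcases Int.units_eq_one_or (s i) with hs | hs <;> rcases Int.units_eq_one_or (t i) with ht | ht <;>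
      rw [hs, ht] at h1 ⊢ <;> push_cast at h1
    · exact absurd (by linear_combination h1) h2
    · exact absurd (by linear_combination -h1) h2
  have hE₀card : Nat.card E₀ = 2 ^ n := by
    rw [← Subgroup.card_map_of_injective hinj, hE₀map, ← Nat.card_congr (MonoidHom.ofInjective hDinj).toEquiv]
    simp
  have hconj : ∀ g ∈ P₀, ∀ e ∈ E₀, g * e * g⁻¹ ∈ E₀ := by
    intro g hg e he
    obtain ⟨x, -, w, -, hxw⟩ := mem_mono Q ⊥ T (show ψ g ∈ mono (r := 0) Q ⊥ T from hg)
    obtain ⟨s, hs⟩ := MonoidHom.mem_range.1 (Subgroup.mem_comap.1 he)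
    refine Subgroup.mem_comap.2 ⟨fun i => s (w⁻¹ i), ?_⟩
    rw [map_mul, map_mul, map_inv, hxw, ← hs]
    show Bl (D fun i => s (w⁻¹ i)) = Bl x * Prm w * Bl (D s) * (Bl x * Prm w)⁻¹
    rw [show Bl x * Prm w * Bl (D s) * (Bl x * Prm w)⁻¹ = Bl x * (Prm w * Bl (D s) * (Prm w)⁻¹) * (Bl x)⁻¹ by group,
      Bl_conj, ← map_inv, ← map_mul, ← map_mul]
    refine congrArg Bl (Prod.ext (funext fun i => ?_) (funext fun j => j.elim0))
    show sg (s (w⁻¹ i)) = x.1 i * sg (s (w⁻¹ i)) * (x.1 i)⁻¹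
    rw [hsgc, mul_inv_cancel_right]
  have hnorm : P₀ ≤ Subgroup.normalizer (E₀ : Set (Matrix.symplecticGroup (Fin n) F)) := by
    intro g hg
    rw [Subgroup.mem_normalizer_iff]
    refine fun e => ⟨hconj g hg e, fun he => ?_⟩
    have := hconj g⁻¹ (inv_mem hg) _ he
    rwa [show g⁻¹ * (g * e * g⁻¹) * g⁻¹⁻¹ = e by group] at this
  have hsup : IsPGroup 2 ↥(E₀ ⊔ P₀) :=
    IsPGroup.to_sup_of_normal_left' (IsPGroup.of_card hE₀card) (IsPGroup.of_card hcard) hnorm
  let P : Sylow 2 (Matrix.symplecticGroup (Fin n) F) := Sylow.ofCard P₀ hcard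
  have hEP : E₀ ≤ P₀ := by
    have h := P.3 hsup (show P.1 ≤ E₀ ⊔ P₀ by rw [Sylow.coe_ofCard]; exact le_sup_right)
    rw [Sylow.coe_ofCard] at h
    exact le_sup_left.trans h.le
  obtain ⟨g, hg⟩ := MulAction.exists_smul_eq (Matrix.symplecticGroup (Fin n) F) P S
  have hmem : ∀ x, x ∈ S.1 ↔ g⁻¹ * x * g ∈ P₀ := fun x => by
    rw [← hg, Sylow.coe_subgroup_smul, Subgroup.mem_pointwise_smul_iff_inv_smul_mem, Sylow.coe_ofCard]
    simp [MulAut.conj_apply]
  refine ⟨(E₀.map (MulAut.conj g).toMonoidHom).subgroupOf S.1, ⟨fun e he s => ?_⟩, ⟨⟨⟨fun a b => ?_⟩⟩, ?_⟩, ?_⟩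
  · rw [Subgroup.mem_subgroupOf] at he ⊢
    obtain ⟨e', he', hee⟩ := he
    refine ⟨(g⁻¹ * s.1 * g) * e' * (g⁻¹ * s.1 * g)⁻¹, hconj _ ((hmem _).1 s.2) _ he', ?_⟩
    show g * ((g⁻¹ * s.1 * g) * e' * (g⁻¹ * s.1 * g)⁻¹) * g⁻¹ = s.1 * e.1 * s.1⁻¹
    rw [← hee]
    show _ = s.1 * (g * e' * g⁻¹) * s.1⁻¹
    group
  · obtain ⟨a', ha', hae⟩ := Subgroup.mem_subgroupOf.1 a.2
    obtain ⟨b', hb', hbe⟩ := Subgroup.mem_subgroupOf.1 b.2
    obtain ⟨s, hs⟩ := MonoidHom.mem_range.1 (Subgroup.mem_comap.1 ha')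
    obtain ⟨t, ht⟩ := MonoidHom.mem_range.1 (Subgroup.mem_comap.1 hb')
    refine Subtype.ext (Subtype.ext ?_)
    show a.1.1 * b.1.1 = b.1.1 * a.1.1
    rw [← hae, ← hbe, ← map_mul, ← map_mul]
    refine congrArg _ (hinj ?_)
    rw [map_mul, map_mul, ← hs, ← ht, ← map_mul, ← map_mul, mul_comm]
  · intro a ha
    obtain ⟨a', ha', hae⟩ := Subgroup.mem_subgroupOf.1 ha
    obtain ⟨s, hs⟩ := MonoidHom.mem_range.1 (Subgroup.mem_comap.1 ha')
    refine Subtype.ext ?_
    show a.1 ^ 2 = 1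
    rw [← hae, ← map_pow, show a' ^ 2 = 1 from hinj (by rw [map_pow, ← hs, ← map_pow, map_one,
      show s ^ 2 = 1 from funext fun i => Int.units_sq _, map_one]), map_one]
  · have hle : E₀.map (MulAut.conj g).toMonoidHom ≤ S.1 := by
      rintro _ ⟨e, he, rfl⟩
      rw [hmem]
      show g⁻¹ * (g * e * g⁻¹) * g ∈ P₀
      rw [show g⁻¹ * (g * e * g⁻¹) * g = e by group]
      exact hEP he
    rw [Nat.card_congr (Subgroup.subgroupOfEquivOfLe hle).toEquiv,
      Subgroup.card_map_of_injective (MulAut.conj g).injective, hE₀card]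

end Cfsg.Agent.S2250
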