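import Cfsg.Statements.S2257
import Mathlib
import Cfsg.Agent.Lib.DicksonFull.Solvabilizer

set_option autoImplicit false
open Cfsg

namespace Cfsg.Agent.S2257

open CfsgLib.DicksonFull in
theorem a4_klein : ∃ v : alternatingGroup (Fin 4), v ^ 2 = 1 ∧ v ≠ 1 ∧ ∀ g : alternatingGroup (Fin 4),
    g * v * g⁻¹ * v = v * (g * v * g⁻¹) := by decide +kernel

theorem s4_four : ∃ a : Equiv.Perm (Fin 4), a ^ 2 ≠ 1 ∧ a ^ 4 = 1 := by decide +kernel

theorem exp_split {Q m r : ℕ} (hr : r.Prime) (h3 : 3 ≤ Q) (hm : 2 ≤ m) (hQ : Q ^ m = 2 ^ r) : False := by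
  obtain ⟨k, -, rfl⟩ := (Nat.dvd_prime_pow Nat.prime_two).mp (hQ ▸ dvd_pow_self Q (by omega : m ≠ 0))
  rw [← pow_mul] at hQ
  have hkm : k * m = r := Nat.pow_right_injective le_rfl hQ
  rcases (Nat.dvd_prime hr).mp ⟨m, hkm.symm⟩ with e | e
  · subst e; omega
  · subst e
    have : k * m = k * 1 := by omega
    have := Nat.eq_of_mul_eq_mul_left hr.pos this
    omega

theorem four_pow_mod5 : ∀ r : ℕ, r % 2 = 1 → (2 ^ r) ^ 2 % 5 = 4 := fun r h => by
  rcases Cfsg.Agent.S0810.pow2_mod5 r h with e | e <;> rw [Nat.pow_mod, e] <;> norm_num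


/-- Let G = PSL_2(F) with F a field of order q = 2^p, p prime, and for x ∈ G call the solubilizer of x the set of y ∈ G such that x and y generate a solvable subgroup. Then the solubilizer of an involution has 3q(q − 1) elements; that of a non-identity element of order dividing q − 1 has 2q(q − 1) elements; and that of a non-identity element of order dividing q + 1 has 2(q + 1) elements. -/
theorem result (p : ℕ) (hp : p.Prime) {F : Type*} [Field F] [Fintype F]
    (hF : Fintype.card F = 2 ^ p) (x : Matrix.ProjectiveSpecialLinearGroup (Fin 2) F) :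
    (orderOf x = 2 → Nat.card {y : Matrix.ProjectiveSpecialLinearGroup (Fin 2) F // Group.IsSolvable ↥(Subgroup.closure ({x, y} : Set (Matrix.ProjectiveSpecialLinearGroup (Fin 2) F)))} = 3 * 2 ^ p * (2 ^ p - 1)) ∧
    (x ≠ 1 → orderOf x ∣ 2 ^ p - 1 → Nat.card {y : Matrix.ProjectiveSpecialLinearGroup (Fin 2) F // Group.IsSolvable ↥(Subgroup.closure ({x, y} : Set (Matrix.ProjectiveSpecialLinearGroup (Fin 2) F)))} = 2 * 2 ^ p * (2 ^ p - 1)) ∧
    (x ≠ 1 → orderOf x ∣ 2 ^ p + 1 → Nat.card {y : Matrix.ProjectiveSpecialLinearGroup (Fin 2) F // Group.IsSolvable ↥(Subgroup.closure ({x, y} : Set (Matrix.ProjectiveSpecialLinearGroup (Fin 2) F)))} = 2 * (2 ^ p + 1)) := by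
  classical
  obtain ⟨c, hc⟩ := CharP.exists F
  haveI := Fact.mk (CharP.char_is_prime F c)
  obtain rfl : c = 2 := by
    obtain ⟨f, hcp, hf⟩ := FiniteField.card F c
    rw [hF] at hf
    exact ((Nat.prime_dvd_prime_iff_eq hcp Nat.prime_two).mp
      (hcp.dvd_of_dvd_pow (hf ▸ dvd_pow_self c f.ne_zero : c ∣ 2 ^ p)))
  open CfsgLib.DicksonFull in
  have main : (orderOf x = 2 → (Sol x).ncard = 3 * 2 ^ p * (2 ^ p - 1)) ∧
      (x ≠ 1 → orderOf x ∣ 2 ^ p - 1 → (Sol x).ncard = 2 * 2 ^ p * (2 ^ p - 1)) ∧
      (x ≠ 1 → orderOf x ∣ 2 ^ p + 1 → (Sol x).ncard = 2 * (2 ^ p + 1)) := by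
    have hp2 := hp.two_le
    have hq4 : 4 ≤ Fintype.card F := by
      rw [hF]; exact le_trans (by norm_num) (Nat.pow_le_pow_right (by norm_num : 0 < 2) hp2)
    have hev : Fintype.card F % 2 = 0 := by
      rw [hF, Nat.pow_mod]; simp [Nat.zero_pow hp.pos]
    have hg : Nat.gcd 2 (Fintype.card F - 1) = 1 := by
      rcases gcd_cases (F := F) 2 with ⟨h, -⟩ | ⟨-, h⟩
      · exact h
      · omega
    have h5 : ¬ 5 ∣ Fintype.card F * (Fintype.card F ^ 2 - 1) ∨ Fintype.card F = 4 ∨ Fintype.card F = 5 := by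
      rcases hp.eq_two_or_odd with h | h
      · subst h; exact Or.inr (Or.inl (by rw [hF]; rfl))
      · refine Or.inl fun hd => ?_
        rcases (Nat.Prime.dvd_mul (by norm_num)).mp hd with hd | hd
        · rw [hF] at hd
          have := (Nat.prime_dvd_prime_iff_eq (by norm_num) Nat.prime_two).mp
            ((by norm_num : Nat.Prime 5).dvd_of_dvd_pow hd)
          omega
        · have := four_pow_mod5 p h
          rw [hF] at hd
          have h1 : 1 ≤ (2 ^ p) ^ 2 := Nat.one_le_pow _ _ (by positivity)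
          omega
    have hall : ∀ M : Subgroup (Matrix.ProjectiveSpecialLinearGroup (Fin 2) F), M ≠ ⊤ → Group.IsSolvable M :=
      Cfsg.Agent.S0810.proper_solvable 2 h5
        (fun Q m h3 hm hQ => (exp_split hp h3 hm (hQ.trans hF)).elim)
    have hover : ∀ M : Subgroup (Matrix.ProjectiveSpecialLinearGroup (Fin 2) F), M ≠ ⊤ →
        (∃ u, orderOf u = 2 ∧ M ≤ bor u) ∨
        (∃ x0, SS 2 x0 ∧ M ≤ Subgroup.normalizer ((psl (F := F) 2).T x0 : Set _)) := by
      intro M hM
      rcases kind (psl (F := F) 2) M with h | ⟨z, hz, hzM, h⟩ | ⟨z, hz, hzM, h⟩ | h | h | h |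
        ⟨u, huM, hu, h⟩ | ⟨u, v, huM, hu, hvM, hv, huv, Q, hQ, h3, hh, hB, hmax⟩
      · obtain ⟨u, hu⟩ := exists_order_p (F := F) 2
        exact Or.inl ⟨u, hu, h ▸ bot_le⟩
      · exact Or.inr ⟨z, hz, h.trans Subgroup.le_normalizer⟩
      · obtain ⟨e⟩ := h
        refine Or.inr ⟨z, hz, le_norm_of_half _ hz hzM ?_⟩
        rw [Nat.card_congr e.toEquiv, DihedralGroup.nat_card]
      · obtain ⟨e⟩ := h
        obtain ⟨v, hv2, hv1, hv⟩ := a4_klein
        have ho : orderOf ((e.symm v : M) : Matrix.ProjectiveSpecialLinearGroup (Fin 2) F) = 2 := by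
          rw [Subgroup.orderOf_coe, e.symm.orderOf_eq]
          exact orderOf_eq_prime hv2 hv1
        refine Or.inl ⟨_, ho, fun g hg => (mem_bor (psl (F := F) 2) ho).mpr ?_⟩
        have h1 := congrArg (fun w => ((e.symm w : M) : Matrix.ProjectiveSpecialLinearGroup (Fin 2) F))
          (hv (e ⟨g, hg⟩))
        simpa [map_mul, map_inv, commute_iff_eq] using h1
      · exfalso
        obtain ⟨e⟩ := h
        obtain ⟨a, ha2, ha4⟩ := s4_four
        have hb2 : ((e.symm a : M) : Matrix.ProjectiveSpecialLinearGroup (Fin 2) F) ^ 2 ≠ 1 := fun h => by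
          refine ha2 (e.symm.injective ?_)
          rw [map_pow, map_one]
          exact Subtype.ext h
        have hb4 : ((e.symm a : M) : Matrix.ProjectiveSpecialLinearGroup (Fin 2) F) ^ 4 = 1 := by
          rw [← SubgroupClass.coe_pow, ← map_pow, ha4, map_one]; rfl
        generalize ((e.symm a : M) : Matrix.ProjectiveSpecialLinearGroup (Fin 2) F) = b at hb2 hb4
        rcases (psl (F := F) 2).order_cases b (fun h => hb2 (by rw [h, one_pow])) with hs | hs
        · obtain ⟨k, -, hk⟩ := (Nat.dvd_prime_pow Nat.prime_two).mp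
            (orderOf_dvd_of_pow_eq_one hb4 : orderOf b ∣ 2 ^ 2)
          rcases Nat.eq_zero_or_pos k with rfl | h0
          · exact hs.1 (orderOf_eq_one_iff.mp hk)
          · exact hs.2 (hk ▸ dvd_pow_self 2 h0.ne')
        · exact hb2 (orderOf_dvd_iff_pow_eq_one.mp (dvd_of_eq hs))
      · exfalso
        obtain ⟨e⟩ := h
        have hc60 : Nat.card M = 60 := by
          rw [Nat.card_congr e.toEquiv, Nat.card_eq_fintype_card]; rfl
        have hd := M.card_subgroup_dvd_card
        have hcard := card_psl (F := F)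
        rw [hg, one_mul] at hcard
        rw [hc60] at hd
        rcases h5 with h | h | h
        · exact h (hcard ▸ ((by norm_num : 5 ∣ 60).trans hd))
        · refine hM (Subgroup.eq_top_of_le_card M ?_)
          rw [hc60, hcard, h]
          norm_num
        · omega
      · exact Or.inl ⟨u, hu, h⟩
      · exfalso
        obtain ⟨m, hm, hQm⟩ := field_proper 2 hM huM hu hvM hv huv ⟨Nat.card_pos.ne', hQ⟩ h3 hh hB
        exact exp_split hp h3 hm (hQm.trans hF)
    have htor : ∀ x : Matrix.ProjectiveSpecialLinearGroup (Fin 2) F, x ≠ 1 → ¬ 2 ∣ orderOf x →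
        (Sol x).ncard = if orderOf x ∣ Fintype.card F - 1 then 2 * (Fintype.card F * (Fintype.card F - 1))
          else 2 * (Fintype.card F + 1) := by
      intro x hx h2
      have h := card_sol_torus 2 hall hq4 (fun M hM => (hover M hM).imp_right Or.inl) (x := x) ⟨hx, h2⟩ fun e => by
        rcases (Nat.dvd_prime Nat.prime_two).mp (orderOf_dvd_of_pow_eq_one e) with e | e
        · exact hx (orderOf_eq_one_iff.mp e)
        · omega
      rwa [hg, one_mul] at h
    refine ⟨fun hx => ?_, fun hx hd => ?_, fun hx hd => ?_⟩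
    · have hx1 : x ≠ 1 := fun e => by rw [e, orderOf_one] at hx; omega
      have hxx : x * x = 1 := by rw [← pow_two]; exact orderOf_dvd_iff_pow_eq_one.mp (dvd_of_eq hx)
      have hxi : x⁻¹ = x := inv_eq_of_mul_eq_one_right hxx
      obtain ⟨I, hI⟩ : ∃ I : Set (Matrix.ProjectiveSpecialLinearGroup (Fin 2) F), I = {y | y ^ 2 = 1} := ⟨_, rfl⟩
      obtain ⟨J, hJ⟩ : ∃ J : Set (Matrix.ProjectiveSpecialLinearGroup (Fin 2) F),
          J = {y | (x * y) ^ 2 = 1} := ⟨_, rfl⟩
      have hcentI : ∀ y, y ∈ cent x → y ^ 2 = 1 := fun y hy =>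
        ((psl (F := F) 2).u_cen x y y hx (mem_cent.mp hy) (mem_cent.mp hy)).2
      have hcase : ∀ y : Matrix.ProjectiveSpecialLinearGroup (Fin 2) F, y ^ 2 = 1 →
          ∃ M : Subgroup (Matrix.ProjectiveSpecialLinearGroup (Fin 2) F), M ≠ ⊤ ∧ x ∈ M ∧ y ∈ M := by
        intro y hy
        have hyi : y⁻¹ = y := inv_eq_of_mul_eq_one_right (by rw [← pow_two]; exact hy)
        by_cases hz1 : x * y = 1
        · refine ⟨bor x, bor_ne_top 2 hx, Subgroup.le_normalizer (self_mem_cent x), ?_⟩
          rw [← inv_eq_of_mul_eq_one_right hz1, hxi]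
          exact Subgroup.le_normalizer (self_mem_cent x)
        rcases (psl (F := F) 2).order_cases (x * y) hz1 with hs | hs
        · have hinv : x * (x * y) * x⁻¹ = (x * y)⁻¹ := by
            rw [← mul_assoc x x y, hxx, one_mul, hxi, _root_.mul_inv_rev, hxi, hyi]
          have hxN : x ∈ Subgroup.normalizer ((psl (F := F) 2).T (x * y) : Set _) :=
            mem_norm hs (by rw [hinv]; exact inv_mem ((psl (F := F) 2).mem_T _ hs))
          refine ⟨_, norm_ne_top 2 hq4 hs, hxN, ?_⟩
          have := mul_mem hxN (Subgroup.le_normalizer ((psl (F := F) 2).mem_T _ hs))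
          rwa [← mul_assoc, hxx, one_mul] at this
        · refine ⟨bor x, bor_ne_top 2 hx, Subgroup.le_normalizer (self_mem_cent x),
            Subgroup.le_normalizer (mem_cent.mpr ?_)⟩
          have h4 : x * y * (x * y) = 1 := by rw [← pow_two]; exact orderOf_dvd_iff_pow_eq_one.mp (dvd_of_eq hs)
          have h5 := eq_inv_of_mul_eq_one_right h4
          rw [_root_.mul_inv_rev, hxi, hyi] at h5
          exact h5.symm
      have e : Sol x = (bor x : Set _) ∪ I ∪ J := by
        ext y
        rw [sol_setting hall hq4, hI, hJ]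
        constructor
        · rintro ⟨M, hM, hxM, hyM⟩
          rcases hover M hM with ⟨u, hu, hle⟩ | ⟨x0, hx0, hle⟩
          · refine Or.inl (Or.inl ?_)
            have hxu := mem_cent_of_mem_bor 2 hu (hle hxM) (by rw [pow_two]; exact hxx)
            show y ∈ bor x
            rw [bor, cent_eq (psl (F := F) 2) hu hx (mem_cent.mp hxu)]
            exact hle hyM
          · have hxT : x ∉ (psl (F := F) 2).T x0 := fun h =>
              (((psl (F := F) 2).T_eq x0 x hx0 h hx1).1).2 (dvd_of_eq hx.symm)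
            by_cases hyT : y ∈ (psl (F := F) 2).T x0
            · refine Or.inr ?_
              have hi := ((psl (F := F) 2).T_norm x0 x hx0 ((mem_norm_iff hx0).mp (hle hxM)) hxT).1 y hyT
              show (x * y) ^ 2 = 1
              rw [hxi] at hi
              rw [pow_two, ← mul_assoc, hi, inv_mul_cancel]
            · exact Or.inl (Or.inr (inverter_sq _ hx0 ((mem_norm_iff hx0).mp (hle hyM)) hyT))
        · rintro ((h | h) | h)
          · exact ⟨_, bor_ne_top 2 hx, Subgroup.le_normalizer (self_mem_cent x), h⟩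
          · exact hcase y h
          · obtain ⟨M, hM, hxM, hM'⟩ := hcase (x * y) h
            exact ⟨M, hM, hxM, by simpa [← mul_assoc, hxx] using mul_mem hxM hM'⟩
      have hBI : (bor x : Set _) ∩ I = (cent x : Set _) := by
        ext y
        rw [hI]
        exact ⟨fun ⟨h1, h2⟩ => mem_cent_of_mem_bor 2 hx h1 h2,
          fun h => ⟨Subgroup.le_normalizer h, hcentI y h⟩⟩
      have hBJ : (bor x : Set _) ∩ J = (cent x : Set _) := by
        ext y
        rw [hJ]
        refine ⟨fun ⟨h1, h2⟩ => ?_, fun h => ⟨Subgroup.le_normalizer h, hcentI _ (mul_mem (self_mem_cent x) h)⟩⟩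
        have := mul_mem (self_mem_cent x)
          (mem_cent_of_mem_bor 2 hx (mul_mem (Subgroup.le_normalizer (self_mem_cent x)) h1) h2)
        rwa [← mul_assoc, hxx, one_mul] at this
      have hIJ : I ∩ J = (cent x : Set _) := by
        ext y
        rw [hI, hJ]
        refine ⟨fun ⟨h1, h2⟩ => mem_cent.mpr ?_,
          fun h => ⟨hcentI y h, hcentI _ (mul_mem (self_mem_cent x) h)⟩⟩
        have hyi : y⁻¹ = y := inv_eq_of_mul_eq_one_right (by rw [← pow_two]; exact h1)
        have h5 := eq_inv_of_mul_eq_one_right (show x * y * (x * y) = 1 by rw [← pow_two]; exact h2)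
        rw [_root_.mul_inv_rev, hxi, hyi] at h5
        exact h5.symm
      have hJI : J.ncard = I.ncard := by
        refine Set.ncard_congr (fun y _ => x * y) ?_ (fun a b _ _ h => mul_left_cancel h) ?_
        · intro y hy; rw [hJ] at hy; rw [hI]; exact hy
        · intro z hz
          refine ⟨x * z, ?_, by rw [← mul_assoc, hxx, one_mul]⟩
          rw [hI] at hz
          rw [hJ]
          show (x * (x * z)) ^ 2 = 1
          rwa [← mul_assoc, hxx, one_mul]
      have hIc : I.ncard = Fintype.card F ^ 2 := by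
        have eI : I = insert 1 (uset 2 ⊤) := by
          ext y
          rw [hI]
          constructor
          · intro h
            rcases (Nat.dvd_prime Nat.prime_two).mp (orderOf_dvd_of_pow_eq_one h) with e | e
            · exact Or.inl (orderOf_eq_one_iff.mp e)
            · exact Or.inr ⟨trivial, e⟩
          · rintro (rfl | ⟨-, h⟩)
            · exact one_pow 2
            · exact orderOf_dvd_iff_pow_eq_one.mp (dvd_of_eq h)
        rw [eI, Set.ncard_insert_of_notMem (fun h => by have := h.2; rw [orderOf_one] at this; omega)]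
        obtain ⟨n, Q, hQ, -, -, -, hn, hu, -⟩ :=
          sylow_data (psl (F := F) 2) (H := (⊤ : Subgroup _)) (Subgroup.mem_top x) hx
        rw [top_inf_eq, card_cent 2 hx] at hQ
        subst hQ
        rw [top_inf_eq, Subgroup.card_top] at hn
        have hb := card_bor 2 hx
        have hp' := card_psl (F := F)
        rw [hg, one_mul] at hb hp'
        rw [hp', hb] at hn
        obtain ⟨t, ht⟩ : ∃ t, Fintype.card F = t + 1 := ⟨_, (Nat.sub_add_cancel (by omega : 1 ≤ Fintype.card F)).symm⟩
        rw [hu]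
        rw [ht] at hn ⊢
        simp only [Nat.add_sub_cancel] at hn ⊢
        have hn' : n = t + 2 := by
          refine Nat.eq_of_mul_eq_mul_right (show 0 < (t + 1) * t from Nat.mul_pos (by omega) (by omega)) ?_
          rw [← hn, show (t + 1) ^ 2 - 1 = (t + 2) * t by
            rw [show (t + 1) ^ 2 = (t + 2) * t + 1 by ring]; omega]
          ring
        rw [hn']; ring
      have h3 := ncard_three _ _ _ _ hBI hBJ hIJ
      rw [← e, hJI, hIc] at h3
      simp only [← Nat.card_coe_set_eq, SetLike.coe_sort_coe] at h3 ⊢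
      have hb := card_bor 2 hx
      rw [hg, one_mul] at hb
      rw [card_cent 2 hx, hb] at h3
      rw [← hF]
      obtain ⟨t, ht⟩ : ∃ t, Fintype.card F = t + 1 := ⟨_, (Nat.sub_add_cancel (by omega : 1 ≤ Fintype.card F)).symm⟩
      rw [ht] at h3 ⊢
      simp only [Nat.add_sub_cancel] at h3 ⊢
      nlinarith
    · have h2 : ¬ 2 ∣ orderOf x := fun h => by
        have := h.trans hd
        omega
      rw [htor x hx h2, hF, if_pos hd, mul_assoc]
    · have h2 : ¬ 2 ∣ orderOf x := fun h => by
        have := h.trans hd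
        omega
      rw [htor x hx h2, hF, if_neg]
      intro h
      have h' := Nat.dvd_sub hd h
      rw [show 2 ^ p + 1 - (2 ^ p - 1) = 2 by omega] at h'
      rcases (Nat.dvd_prime Nat.prime_two).mp h' with e | e
      · exact hx (orderOf_eq_one_iff.mp e)
      · omega
  simp only [← Nat.card_coe_set_eq] at main
  exact main

end Cfsg.Agent.S2257
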