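import Cfsg.Statements.S2258
import Mathlib
import Cfsg.Agent.Lib.DicksonFull.Solvabilizer

set_option autoImplicit false
open Cfsg

namespace Cfsg.Agent.S2258

open Matrix CfsgLib.DicksonFull
open CfsgLib.Dickson (up lo)
open CfsgLib.PSL2 (mk)

theorem a4_inv : ∀ a b : alternatingGroup (Fin 4), a ^ 2 = 1 → a ≠ 1 →
    b ^ 2 = 1 ∨ b ^ 3 = 1 ∧ (a * b) ^ 3 = 1 := by decide +kernel

theorem a4_three : ∀ a b : alternatingGroup (Fin 4), a ^ 3 = 1 → a ≠ 1 →
    (b = 1 ∨ b = a ∨ b = a ^ 2) ∨ ∃ k : Fin 3, (a ^ (k : ℕ) * b) ^ 2 = 1 ∧ a ^ (k : ℕ) * b ≠ 1 ∧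
      (a * (a ^ (k : ℕ) * b)) ^ 3 = 1 := by decide +kernel

theorem exp_split {Q m r : ℕ} (hr : r.Prime) (h3 : 3 ≤ Q) (hm : 2 ≤ m) (hQ : Q ^ m = 3 ^ r) : Q = 3 := by
  obtain ⟨k, -, rfl⟩ := (Nat.dvd_prime_pow Nat.prime_three).mp (hQ ▸ dvd_pow_self Q (by omega : m ≠ 0))
  rw [← pow_mul] at hQ
  have hkm : k * m = r := Nat.pow_right_injective (by norm_num) hQ
  rcases (Nat.dvd_prime hr).mp ⟨m, hkm.symm⟩ with e | e
  · subst e; norm_num
  · subst e
    have : k * m = k * 1 := by omega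
    have := Nat.eq_of_mul_eq_mul_left hr.pos this
    omega

section Counts

variable {F : Type*} [Field F] [Fintype F] [Fact (Nat.Prime 3)] [CharP F 3]

local notation "SL" => Matrix.SpecialLinearGroup (Fin 2) F
local notation "PSL" => Matrix.ProjectiveSpecialLinearGroup (Fin 2) F
local notation "q" => Fintype.card F

theorem three_zero : (3 : F) = 0 := by exact_mod_cast CharP.cast_eq_zero F 3

theorem two_ne : (2 : F) ≠ 0 := fun h => by
  have : (1 : F) = 0 := by linear_combination (three_zero (F := F)) - h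
  exact one_ne_zero this

theorem cube_iff {g : SL} : mk g ^ 3 = 1 ↔ g.1.trace ^ 2 = 1 := by
  have h4 : (4 : F) = 1 := by linear_combination three_zero (F := F)
  constructor
  · intro h
    by_contra hne
    have hs : SS 3 (mk g) := (ss_iff 3).mpr (by rwa [h4])
    rcases (Nat.dvd_prime Nat.prime_three).mp (orderOf_dvd_of_pow_eq_one h) with e | e
    · exact hs.1 (orderOf_eq_one_iff.mp e)
    · exact hs.2 (dvd_of_eq e.symm)
  · exact fun h => pow_eq_one_of_trace_sq 3 (by rw [h, h4])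

theorem sq_of_trace {g : SL} (h : g.1.trace = 0) : mk g ^ 2 = 1 ∧ mk g ≠ 1 := by
  refine ⟨?_, fun e => ?_⟩
  · have : g * g = -1 := Subtype.ext (by
      rw [Matrix.SpecialLinearGroup.coe_mul, CfsgLib.SL2Orders.sq_eq, h]; simp)
    rw [← map_pow, pow_two, this, mk_neg, map_one]
  · rcases mk_eq_one e with rfl | rfl
    · rw [Matrix.SpecialLinearGroup.coe_one, Matrix.trace_fin_two] at h
      simp [one_add_one_eq_two] at h
      exact two_ne h
    · rw [CfsgLib.Dickson.neg_one_trace, Matrix.SpecialLinearGroup.coe_one, Matrix.trace_fin_two] at h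
      simp [one_add_one_eq_two] at h
      exact two_ne h

theorem trace_of_sq {g : SL} (h : mk g ^ 2 = 1) (h1 : mk g ≠ 1) : g.1.trace = 0 := by
  rw [← map_pow, pow_two] at h
  rcases mk_eq_one h with e | e
  · rcases CfsgLib.SL2Orders.eq_one_or_neg_one_of_sq two_ne g e with rfl | rfl
    · exact absurd (map_one _) h1
    · exact absurd (by rw [mk_neg, map_one]) h1
  · have h2 := congrArg Subtype.val e
    rw [Matrix.SpecialLinearGroup.coe_mul, CfsgLib.SL2Orders.sq_eq, Matrix.SpecialLinearGroup.coe_neg,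
      Matrix.SpecialLinearGroup.coe_one, sub_eq_iff_eq_add, neg_add_cancel] at h2
    rcases smul_eq_zero.mp h2 with e' | e'
    · exact e'
    · have := g.2
      rw [e'] at this
      simp at this

variable (hF : ∃ r : ℕ, r.Prime ∧ Odd r ∧ Fintype.card F = 3 ^ r)
include hF

theorem card_facts : 4 ≤ q ∧ q % 4 = 3 ∧ Nat.gcd 2 (q - 1) = 2 ∧ ¬ 5 ∣ q * (q ^ 2 - 1) ∧
    ¬ 8 ∣ Nat.card PSL := by
  obtain ⟨r, hr, hodd, hq⟩ := hF
  obtain ⟨k, rfl⟩ := hodd
  have h1 : 1 ≤ k := by have := hr.two_le; omega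
  have e : 3 ^ (2 * k + 1) = 3 * 9 ^ k := by rw [pow_succ, pow_mul]; ring
  have h9 : 9 ^ k % 16 = 9 ∨ 9 ^ k % 16 = 1 := by
    clear hq e hr h1
    induction k with
    | zero => simp
    | succ k ih => rw [pow_succ, Nat.mul_mod]; rcases ih with e | e <;> rw [e] <;> simp
  have h9' : 9 ≤ 9 ^ k := Nat.le_self_pow (by omega) 9
  have hq' : q = 3 * 9 ^ k := hq.trans e
  have hg : Nat.gcd 2 (q - 1) = 2 := Nat.gcd_eq_left (by rw [hq']; omega)
  refine ⟨by omega, by omega, hg, fun hd => ?_, fun hd => ?_⟩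
  · have h5 := Cfsg.Agent.S0810.pow3_mod5 (2 * k + 1) (by omega)
    rw [hq] at hd
    rcases (Nat.Prime.dvd_mul (by norm_num)).mp hd with hd | hd
    · rw [Nat.dvd_iff_mod_eq_zero] at hd
      rcases h5 with e' | e' <;> rw [e'] at hd <;> omega
    · have h25 : (3 ^ (2 * k + 1)) ^ 2 % 5 = 4 := by
        rcases h5 with e | e <;> rw [Nat.pow_mod, e] <;> norm_num
      have h1 : 1 ≤ (3 ^ (2 * k + 1)) ^ 2 := Nat.one_le_pow _ _ (by positivity)
      omega
  · have hc := card_psl (F := F)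
    rw [hg] at hc
    obtain ⟨t, ht⟩ := hd
    rw [ht] at hc
    have hq16 : q % 16 = 11 ∨ q % 16 = 3 := by rw [hq, e]; omega
    have hsq : (q ^ 2 - 1) % 16 = 8 := by
      have : q ^ 2 % 16 = 9 := by rcases hq16 with h | h <;> rw [Nat.pow_mod, h]
      omega
    have : (q * (q ^ 2 - 1)) % 16 = 8 := by
      rw [Nat.mul_mod, hsq]; rcases hq16 with h | h <;> rw [h]
    omega

theorem hall (M : Subgroup PSL) (hM : M ≠ ⊤) : Group.IsSolvable M := by
  obtain ⟨r, hr, -, hq⟩ := id hF
  exact Cfsg.Agent.S0810.proper_solvable 3 (Or.inl (card_facts (F := F) hF).2.2.2.1)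
    (fun Q m h3 hm hQ => exp_split hr h3 hm (hQ.trans hq)) M hM

theorem hover (M : Subgroup PSL) (hM : M ≠ ⊤) : (∃ u, orderOf u = 3 ∧ M ≤ bor u) ∨
    (∃ x0, SS 3 x0 ∧ M ≤ Subgroup.normalizer ((psl (F := F) 3).T x0 : Set PSL)) ∨
      Nonempty (M ≃* alternatingGroup (Fin 4)) := by
  obtain ⟨r, hr, -, hq⟩ := id hF
  obtain ⟨-, -, hg, h5, h8⟩ := card_facts (F := F) hF
  rcases kind (psl (F := F) 3) M with h | ⟨z, hz, hzM, h⟩ | ⟨z, hz, hzM, h⟩ | h | h | h |
    ⟨u, huM, hu, h⟩ | ⟨u, v, huM, hu, hvM, hv, huv, Q, hQ, h3, hh, hB, hmax⟩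
  · obtain ⟨u, hu⟩ := exists_order_p (F := F) 3
    exact Or.inl ⟨u, hu, h ▸ bot_le⟩
  · exact Or.inr (Or.inl ⟨z, hz, h.trans Subgroup.le_normalizer⟩)
  · obtain ⟨e⟩ := h
    refine Or.inr (Or.inl ⟨z, hz, le_norm_of_half _ hz hzM ?_⟩)
    rw [Nat.card_congr e.toEquiv, DihedralGroup.nat_card]
  · exact Or.inr (Or.inr h)
  · exfalso
    obtain ⟨e⟩ := h
    refine h8 (dvd_trans ?_ M.card_subgroup_dvd_card)
    rw [Nat.card_congr e.toEquiv, Nat.card_perm, Nat.card_fin]
    decide
  · exfalso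
    obtain ⟨e⟩ := h
    have hd := M.card_subgroup_dvd_card
    rw [Nat.card_congr e.toEquiv, Nat.card_eq_fintype_card] at hd
    refine h5 ?_
    rw [← card_psl (F := F)]
    exact Dvd.dvd.mul_left (dvd_trans (show 5 ∣ Fintype.card (alternatingGroup (Fin 5)) by decide) hd) _
  · exact Or.inl ⟨u, hu, h⟩
  · refine Or.inr (Or.inr ?_)
    obtain ⟨m, hm, hQm⟩ := field_proper 3 hM huM hu hvM hv huv ⟨Nat.card_pos.ne', hQ⟩ h3 hh hB
    obtain rfl := exp_split hr h3 hm (hQm.trans hq)
    have hc12 : Nat.card M = 12 := by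
      rcases hB with h | h
      · rw [hh]; omega
      · exact absurd (dvd_trans (⟨3, by rw [hh, h]⟩ : 8 ∣ Nat.card M) M.card_subgroup_dvd_card) h8
    have hu' : orderOf (⟨u, huM⟩ : M) = 3 := by rw [Subgroup.orderOf_mk, hu]
    refine a4_of_three (Subgroup.zpowers (⟨u, huM⟩ : M)) hc12 (by rw [Nat.card_zpowers, hu']) fun hn => huv ?_
    obtain ⟨C, hC⟩ : ∃ C, Subgroup.zpowers (⟨u, huM⟩ : M) = C := ⟨_, rfl⟩
    rw [hC] at hn
    have hidx : C.index = 4 := by
      have := C.card_mul_index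
      rw [← hC, Nat.card_zpowers, hu', hc12] at this
      rw [← hC]; omega
    have h1 : orderOf (QuotientGroup.mk' C (⟨v, hvM⟩ : M)) ∣ 3 := by
      refine (orderOf_map_dvd _ _).trans ?_
      rw [Subgroup.orderOf_mk, hv]
    have h2 := orderOf_dvd_natCard (QuotientGroup.mk' C (⟨v, hvM⟩ : M))
    rw [← Subgroup.index_eq_card, hidx] at h2
    have h0 := Nat.dvd_gcd h1 h2
    norm_num at h0
    have hmem : (⟨v, hvM⟩ : M) ∈ C := by simpa using h0
    rw [← hC] at hmem
    obtain ⟨i, hi⟩ := Subgroup.mem_zpowers_iff.mp hmem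
    have hv' : u ^ i = v := congrArg Subtype.val hi
    exact hv' ▸ (Commute.refl u).zpow_left i

theorem noncomm : ∃ a b : PSL, a * b ≠ b * a := by
  by_contra h
  push Not at h
  exact Cfsg.Agent.S0810.not_solvable (card_facts (F := F) hF).1 (Group.isSolvable_of_comm h)

theorem a4_mem {x y : PSL} (hx : x ^ 2 = 1) (hx1 : x ≠ 1) (hy : y ^ 3 = 1) (hxy : (x * y) ^ 3 = 1) :
    ∃ M : Subgroup PSL, M ≠ ⊤ ∧ x ∈ M ∧ y ∈ M := by
  haveI : IsSimpleGroup PSL := Matrix.ProjectiveSpecialLinearGroup.rank_two_simple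
    (by rw [Nat.card_eq_fintype_card]; exact (card_facts (F := F) hF).1)
  exact a4_proper (noncomm hF) hx hx1 hy hxy

theorem not_square (a : F) : a * a ≠ -1 := fun h =>
  (FiniteField.isSquare_neg_one_iff.mp ⟨a, h.symm⟩) (card_facts (F := F) hF).2.1

theorem card_pm : Nat.card {e : F // e ^ 2 = 1} = 2 := by
  have : {e : F | e ^ 2 = 1} = {1, -1} := Set.ext fun e => by simp
  show Nat.card ↥{e : F | e ^ 2 = 1} = 2
  rw [this, Nat.card_coe_set_eq, Set.ncard_pair]
  intro h
  exact two_ne (F := F) (by linear_combination h)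

/-- The count at an involution. -/
theorem inv_count {x : PSL} (hx : orderOf x = 2) : (Sol x).ncard = q * (q + 1) := by
  obtain ⟨hq4, hq3, hg, -, -⟩ := card_facts (F := F) hF
  have hx1 : x ≠ 1 := fun e => by rw [e, orderOf_one] at hx; omega
  obtain ⟨b, rfl⟩ := mk_surj x
  obtain ⟨W, hW⟩ : ∃ W : SL, W.1 = !![0, -1; 1, 0] := ⟨⟨_, by simp [Matrix.det_fin_two]⟩, rfl⟩
  have hWt : W.1.trace = 0 := by simp [hW, Matrix.trace_fin_two]
  have hbt : b.1.trace = 0 := trace_of_sq (orderOf_dvd_iff_pow_eq_one.mp (dvd_of_eq hx)) hx1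
  have hW4 : W.1.trace ^ 2 ≠ 4 := by
    rw [hWt]; intro h
    exact two_ne (F := F) (mul_self_eq_zero.mp (show (2 : F) * 2 = 0 by linear_combination -h))
  obtain ⟨a, ha⟩ := isConj_iff.mp (CfsgLib.PSL2Product.isConj_of_trace (g := b) (h := W)
    (by rw [hbt, ← hWt]; exact hW4) (by rw [hbt, hWt]))
  rw [← card_sol_conj (mk b) (mk a), ← map_inv, ← map_mul, ← map_mul, ha]
  clear hx1 hx hbt ha a b
  obtain ⟨hW2, hW1⟩ := sq_of_trace hWt
  have hWs : SS 3 (mk W) := (ss_iff 3).mpr hW4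
  have hWW : mk W * mk W = 1 := by rw [← pow_two]; exact hW2
  have hTW : (psl (F := F) 3).T (mk W) = cT W := cT_congr (QuotientGroup.out_eq' _)
  have hcomm : ∀ g : SL, mk g ∈ cT W ↔ g.1 0 0 = g.1 1 1 ∧ g.1 0 1 = -g.1 1 0 := by
    intro g
    rw [mem_cT]
    constructor
    · intro e
      have e1 := congrArg (fun z : SL => z.1 0 0) e
      have e2 := congrArg (fun z : SL => z.1 1 0) e
      simp [CfsgLib.Dickson.mul_entry, hW] at e1 e2
      exact ⟨by linear_combination -e2, e1⟩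
    · rintro ⟨e1, e2⟩
      apply CfsgLib.Dickson.ext_entries <;> simp [CfsgLib.Dickson.mul_entry, hW, e1, e2]
  have htW : ∀ g : SL, (W * g).1.trace = g.1 0 1 - g.1 1 0 := fun g => by
    rw [Matrix.trace_fin_two, CfsgLib.Dickson.mul_entry, CfsgLib.Dickson.mul_entry]; simp [hW]; ring
  have htr : ∀ g : SL, g.1.trace = g.1 0 0 + g.1 1 1 := fun g => Matrix.trace_fin_two _
  have hdet : ∀ g : SL, g.1 0 0 * g.1 1 1 - g.1 0 1 * g.1 1 0 = 1 := fun g => by
    rw [← Matrix.det_fin_two]; exact g.2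
  obtain ⟨A, hA⟩ : ∃ A : Set SL, A = {g | g.1 0 0 + g.1 1 1 = 0} := ⟨_, rfl⟩
  obtain ⟨B, hB⟩ : ∃ B : Set SL, B = {g | g.1 0 1 - g.1 1 0 = 0} := ⟨_, rfl⟩
  obtain ⟨C, hC⟩ : ∃ C : Set SL, C = {g | g.1 0 0 = g.1 1 1 ∧ g.1 0 1 = -g.1 1 0} := ⟨_, rfl⟩
  obtain ⟨E, hE⟩ : ∃ E : Set SL,
      E = {g | (g.1 0 0 + g.1 1 1) ^ 2 = 1 ∧ (g.1 0 1 - g.1 1 0) ^ 2 = 1} := ⟨_, rfl⟩
  have sq_case : ∀ g : SL, mk g ^ 2 = 1 → g ∈ A ∪ C := by
    intro g h
    by_cases h1 : mk g = 1
    · rw [hC]
      rcases mk_eq_one h1 with rfl | rfl <;> exact Or.inr (by simp)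
    · rw [hA]
      exact Or.inl (by show _ = _; rw [← htr]; exact trace_of_sq h h1)
  have flip : ∀ g : SL, W * g ∈ A ∪ C → g ∈ B ∪ C := by
    intro g h
    rw [hA, hC] at h
    rw [hB, hC]
    rcases h with h | ⟨h1, h2⟩
    · refine Or.inl ?_
      simp [CfsgLib.Dickson.mul_entry, hW] at h ⊢
      linear_combination h
    · refine Or.inr ?_
      simp [CfsgLib.Dickson.mul_entry, hW] at h1 h2 ⊢
      exact ⟨by linear_combination -h2, by linear_combination -h1⟩
  have hno : ∀ u : PSL, orderOf u = 3 → mk W ∉ bor u := by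
    intro u hu h
    have hd := Subgroup.orderOf_dvd_natCard (bor u) h
    rw [orderOf_eq_prime hW2 hW1] at hd
    obtain ⟨t, ht⟩ := hd
    have hb := card_bor 3 hu
    rw [hg, ht] at hb
    have hmod : (q * (q - 1)) % 4 = 2 := by
      rw [Nat.mul_mod, hq3, show (q - 1) % 4 = 2 by omega]
    omega
  have hmemA : ∀ g : SL, g ∈ A → ∃ M : Subgroup PSL, M ≠ ⊤ ∧ mk W ∈ M ∧ mk g ∈ M := by
    intro g hgA
    rw [hA] at hgA
    obtain ⟨hy2, hy1⟩ := sq_of_trace (g := g) ((htr g).trans hgA)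
    obtain ⟨y, hy⟩ : ∃ y, mk g = y := ⟨_, rfl⟩
    rw [hy] at hy2 hy1 ⊢
    have hyi : y⁻¹ = y := inv_eq_of_mul_eq_one_right (by rw [← pow_two]; exact hy2)
    have hWi : (mk W)⁻¹ = mk W := inv_eq_of_mul_eq_one_right hWW
    have hmulmem : ∀ M : Subgroup PSL, mk W ∈ M → mk W * y ∈ M → y ∈ M := fun M h1 h2 => by
      have := mul_mem h1 h2
      rwa [← mul_assoc, hWW, one_mul] at this
    by_cases hz1 : mk W * y = 1
    · refine ⟨_, norm_ne_top 3 hq4 hWs, Subgroup.le_normalizer ((psl (F := F) 3).mem_T _ hWs), ?_⟩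
      rw [← inv_eq_of_mul_eq_one_right hz1, hWi]
      exact Subgroup.le_normalizer ((psl (F := F) 3).mem_T _ hWs)
    have hinv : mk W * (mk W * y) * (mk W)⁻¹ = (mk W * y)⁻¹ := by
      rw [← mul_assoc (mk W) (mk W) y, hWW, one_mul, hWi, _root_.mul_inv_rev, hWi, hyi]
    rcases (psl (F := F) 3).order_cases _ hz1 with hs | hs
    · have hxN : mk W ∈ Subgroup.normalizer ((psl (F := F) 3).T (mk W * y) : Set PSL) :=
        mem_norm hs (by rw [hinv]; exact inv_mem ((psl (F := F) 3).mem_T _ hs))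
      exact ⟨_, norm_ne_top 3 hq4 hs, hxN,
        hmulmem _ hxN (Subgroup.le_normalizer ((psl (F := F) 3).mem_T _ hs))⟩
    · refine absurd ((mem_bor (psl (F := F) 3) hs).mpr ?_) (hno _ hs)
      rw [hinv]
      exact (Commute.refl _).inv_left
  have hsol : ∀ g : SL, mk g ∈ Sol (mk W) ↔ g ∈ A ∪ B ∪ C ∪ E := by
    intro g
    rw [sol_setting (hall hF) hq4]
    constructor
    · rintro ⟨M, hM, hxM, hyM⟩
      rcases hover hF M hM with ⟨u, hu, hle⟩ | ⟨x0, hx0, hle⟩ | ⟨⟨e⟩⟩
      · exact absurd (hle hxM) (hno u hu)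
      · have hAC : mk g ∉ (psl (F := F) 3).T x0 → g ∈ A ∪ B ∪ C ∪ E := fun hyT => by
          rcases sq_case g (inverter_sq _ hx0 ((mem_norm_iff hx0).mp (hle hyM)) hyT) with h | h
          · exact Or.inl (Or.inl (Or.inl h))
          · exact Or.inl (Or.inr h)
        by_cases hyT : mk g ∈ (psl (F := F) 3).T x0
        swap
        · exact hAC hyT
        by_cases hxT : mk W ∈ (psl (F := F) 3).T x0
        · refine Or.inl (Or.inr ?_)
          rw [hC]
          rw [← ((psl (F := F) 3).T_eq x0 _ hx0 hxT hW1).2, hTW] at hyT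
          exact (hcomm g).mp hyT
        · have hi := ((psl (F := F) 3).T_norm x0 (mk W) hx0 ((mem_norm_iff hx0).mp (hle hxM)) hxT).1 _ hyT
          rw [inv_eq_of_mul_eq_one_right hWW] at hi
          have h2 : mk (W * g) ^ 2 = 1 := by
            rw [map_mul, pow_two, ← mul_assoc, hi, inv_mul_cancel]
          rcases flip g (sq_case _ h2) with h | h
          · exact Or.inl (Or.inl (Or.inr h))
          · exact Or.inl (Or.inr h)
      · have hWM : (⟨mk W, hxM⟩ : M) ^ 2 = 1 := Subtype.ext hW2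
        rcases a4_inv (e ⟨mk W, hxM⟩) (e ⟨mk g, hyM⟩) (by rw [← map_pow, hWM, map_one])
          (fun h => hW1 (congrArg Subtype.val (e.injective (h.trans (map_one e).symm)))) with h | ⟨h1, h2⟩
        · rw [← map_pow, ← map_one e] at h
          rcases sq_case g (congrArg Subtype.val (e.injective h)) with h | h
          · exact Or.inl (Or.inl (Or.inl h))
          · exact Or.inl (Or.inr h)
        · rw [← map_pow, ← map_one e] at h1
          rw [← map_mul, ← map_pow, ← map_one e] at h2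
          have h1' := cube_iff.mp (congrArg Subtype.val (e.injective h1) : mk g ^ 3 = 1)
          have h2' : (mk W * mk g) ^ 3 = 1 := congrArg Subtype.val (e.injective h2)
          rw [← map_mul, cube_iff, htW] at h2'
          rw [htr] at h1'
          rw [hE]
          exact Or.inr ⟨h1', h2'⟩
    · rintro (((h | h) | h) | h)
      · exact hmemA g h
      · rw [hB] at h
        obtain ⟨M, hM, hxM, hM'⟩ := hmemA (W * g) (by
          rw [hA]; show _ = _; rw [← htr, htW]; exact h)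
        refine ⟨M, hM, hxM, ?_⟩
        have := mul_mem hxM hM'
        rwa [map_mul, ← mul_assoc, hWW, one_mul] at this
      · rw [hC] at h
        refine ⟨_, norm_ne_top 3 hq4 hWs, Subgroup.le_normalizer ((psl (F := F) 3).mem_T _ hWs),
          Subgroup.le_normalizer ?_⟩
        rw [hTW]
        exact (hcomm g).mpr h
      · rw [hE] at h
        refine a4_mem hF hW2 hW1 (cube_iff.mpr ?_) ?_
        · rw [htr]; exact h.1
        · rw [← map_mul, cube_iff, htW]; exact h.2
  -- sizes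
  have hnr : ¬ ∃ s : F, s * s + (0 : F) * s + 1 = 0 := fun ⟨s, hs⟩ =>
    not_square hF s (by linear_combination hs)
  have hcon : Nat.card {p : F × F // p.1 * p.1 + (0 : F) * p.1 * p.2 + p.2 * p.2 = 1} = q + 1 := by
    have h := CfsgLib.SL2Centralizer.card_conic (F := F) (t := 0) (by rw [← hWt]; exact hW4)
    have : IsEmpty {s : F // s * s + (0 : F) * s + 1 = 0} := ⟨fun s => hnr ⟨s.1, s.2⟩⟩
    rw [Nat.card_of_isEmpty (α := {s : F // s * s + (0 : F) * s + 1 = 0}), add_zero] at h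
    exact h
  have cC : C.ncard = q + 1 := by
    have h := CfsgLib.SL2Centralizer.card_centralizer_eq_conic (g := W)
      (CfsgLib.SL2Centralizer.not_scalar_of_trace hW4)
    rw [hWt, hcon] at h
    rw [← h, ← Nat.card_coe_set_eq]
    refine Nat.card_congr (Equiv.subtypeEquivRight fun g => ?_)
    rw [Subgroup.mem_centralizer_singleton_iff, hC]
    exact (hcomm g).symm.trans mem_cT
  have cA : A.ncard = q * (q - 1) := by
    classical
    have mA : ∀ g : SL, g ∈ A ↔ g.1 0 0 + g.1 1 1 = 0 := fun g => by rw [hA]; rfl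
    have hb : ∀ g : SL, g ∈ A → g.1 0 1 ≠ 0 := fun g hgA h => by
      have h1 := (mA g).mp hgA
      have := hdet g
      rw [h] at this
      exact not_square hF (g.1 0 0) (by linear_combination -this + g.1 0 0 * h1)
    have h0 : Nat.card {b : F // b ≠ 0} = q - 1 := by
      rw [Nat.card_eq_fintype_card, Fintype.card_subtype_compl, Fintype.card_subtype_eq]
    rw [← Nat.card_coe_set_eq, ← h0, ← Nat.card_eq_fintype_card (α := F), ← Nat.card_prod]
    refine Nat.card_congr
      { toFun := fun g => (g.1.1 0 0, ⟨g.1.1 0 1, hb _ g.2⟩)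
        invFun := fun z => ⟨⟨!![z.1, z.2.1; (-1 - z.1 * z.1) / z.2.1, -z.1], by
          have := z.2.2
          simp [Matrix.det_fin_two]
          field_simp
          ring⟩, (mA _).mpr (by simp)⟩
        left_inv := fun g => by
          have h1 : g.1.1 0 0 + g.1.1 1 1 = 0 := (mA _).mp g.2
          have h2 := hdet g.1
          have h3 := hb _ g.2
          apply Subtype.ext
          apply CfsgLib.Dickson.ext_entries <;> simp
          · field_simp
            linear_combination h2 - g.1.1 0 0 * h1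
          · linear_combination -h1
        right_inv := fun z => by simp }
  have cB : B.ncard = q * (q - 1) := by
    rw [← cA]
    refine Set.ncard_congr (fun g _ => W * g) ?_ (fun a b _ _ h => mul_left_cancel h) ?_
    · intro g h
      rw [hB] at h
      rw [hA]
      show _ = _
      rw [← htr, htW]
      exact h
    · intro g h
      refine ⟨W⁻¹ * g, ?_, mul_inv_cancel_left _ _⟩
      rw [hA] at h
      rw [hB]
      show _ = _
      rw [← htW, mul_inv_cancel_left, htr]
      exact h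
  have cAB : (A ∩ B).ncard = q + 1 := by
    rw [← cC]
    symm
    obtain ⟨K, hK⟩ : ∃ K : SL, K.1 = !![1, 1; 1, -1] := ⟨⟨_, by
      simp [Matrix.det_fin_two]; linear_combination -(three_zero (F := F))⟩, rfl⟩
    obtain ⟨i00, i01, i10, i11⟩ := CfsgLib.Dickson.inv_entries K
    refine Set.ncard_congr (fun g _ => g * K) ?_ (fun a b _ _ h => mul_right_cancel h) ?_
    · intro g hgC
      rw [hC] at hgC
      obtain ⟨e1, e2⟩ := hgC
      rw [hA, hB]
      constructor <;> simp [CfsgLib.Dickson.mul_entry, hK]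
      · linear_combination e1 + e2
      · linear_combination e1 - e2
    · rintro g ⟨h1, h2⟩
      refine ⟨g * K⁻¹, ?_, inv_mul_cancel_right _ _⟩
      rw [hA] at h1
      rw [hB] at h2
      rw [hC]
      constructor <;> simp [CfsgLib.Dickson.mul_entry, i00, i01, i10, i11, hK] at h1 h2 ⊢
      · linear_combination -h1 - h2
      · linear_combination -h1 + h2
  have cAC : (A ∩ C).ncard = 2 := by
    have : A ∩ C = {W, -W} := by
      ext g
      rw [hA, hC]
      constructor
      · rintro ⟨h1, h2, h3⟩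
        have h1' : g.1 0 0 + g.1 1 1 = 0 := h1
        have h0 : g.1 0 0 = 0 := (mul_eq_zero.mp (show (2 : F) * g.1 0 0 = 0 by
          linear_combination h1' + h2)).resolve_left two_ne
        have h4 : g.1 1 1 = 0 := h2 ▸ h0
        have hd := hdet g
        rw [h0, h3] at hd
        have : g.1 1 0 = 1 ∨ g.1 1 0 = -1 := sq_eq_one_iff.mp (by linear_combination hd)
        rcases this with e | e
        · left; apply CfsgLib.Dickson.ext_entries <;> simp [hW, h0, h3, h4, e]
        · right; apply CfsgLib.Dickson.ext_entries <;> simp [hW, h0, h3, h4, e]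
      · rintro (rfl | rfl) <;> simp [hW]
    rw [this, Set.ncard_pair]
    intro h
    have := congrArg (fun z : SL => z.1 1 0) h
    simp [hW] at this
    exact two_ne (F := F) (by linear_combination this)
  have cBC : (B ∩ C).ncard = 2 := by
    have : B ∩ C = {1, -1} := by
      ext g
      rw [hB, hC]
      constructor
      · rintro ⟨h1, h2, h3⟩
        have h1' : g.1 0 1 - g.1 1 0 = 0 := h1
        have h0 : g.1 1 0 = 0 := (mul_eq_zero.mp (show (2 : F) * g.1 1 0 = 0 by
          linear_combination h3 - h1')).resolve_left two_ne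
        have h4 : g.1 0 1 = 0 := by rw [h3, h0, neg_zero]
        have hd := hdet g
        rw [h0, h4] at hd
        have : g.1 1 1 = 1 ∨ g.1 1 1 = -1 := sq_eq_one_iff.mp (by rw [h2] at hd; linear_combination hd)
        rcases this with e | e
        · left; apply CfsgLib.Dickson.ext_entries <;> simp [h0, h2, h4, e]
        · right; apply CfsgLib.Dickson.ext_entries <;> simp [h0, h2, h4, e]
      · rintro (rfl | rfl) <;> simp
    rw [this, Set.ncard_pair]
    intro h
    have := congrArg (fun z : SL => z.1 0 0) h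
    simp at this
    exact two_ne (F := F) (by linear_combination this)
  have cABC : (A ∩ B ∩ C).ncard = 0 := by
    rw [Set.ncard_eq_zero]
    refine Set.eq_empty_iff_forall_notMem.mpr fun g hg3 => ?_
    rw [hA, hB, hC] at hg3
    obtain ⟨⟨h1, h2⟩, h3, h4⟩ := hg3
    have h1' : g.1 0 0 + g.1 1 1 = 0 := h1
    have h2' : g.1 0 1 - g.1 1 0 = 0 := h2
    have h0 : g.1 0 0 = 0 := (mul_eq_zero.mp (show (2 : F) * g.1 0 0 = 0 by
      linear_combination h1' + h3)).resolve_left two_ne
    have h5 : g.1 1 0 = 0 := (mul_eq_zero.mp (show (2 : F) * g.1 1 0 = 0 by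
      linear_combination h4 - h2')).resolve_left two_ne
    have hd := hdet g
    rw [h0, h5] at hd
    simp at hd
  have cE : E.ncard = 2 * 2 * (q + 1) := by
    have h3 := three_zero (F := F)
    have mE : ∀ g : SL, g ∈ E ↔ (g.1 0 0 + g.1 1 1) ^ 2 = 1 ∧ (g.1 0 1 - g.1 1 0) ^ 2 = 1 := fun g => by rw [hE]; rfl
    rw [show 2 * 2 * (q + 1) = Nat.card (({e : F // e ^ 2 = 1} × {e : F // e ^ 2 = 1}) ×
      {p : F × F // p.1 * p.1 + (0 : F) * p.1 * p.2 + p.2 * p.2 = 1}) by
        rw [Nat.card_prod, Nat.card_prod, card_pm hF, hcon], ← Nat.card_coe_set_eq]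
    refine Nat.card_congr
      { toFun := fun g => ((⟨g.1.1 0 0 + g.1.1 1 1, ((mE _).mp g.2).1⟩,
          ⟨g.1.1 0 1 - g.1.1 1 0, ((mE _).mp g.2).2⟩),
          ⟨(g.1.1 0 0 + (g.1.1 0 0 + g.1.1 1 1), g.1.1 0 1 + (g.1.1 0 1 - g.1.1 1 0)), by
            obtain ⟨e1, e2⟩ : (g.1.1 0 0 + g.1.1 1 1) ^ 2 = 1 ∧ (g.1.1 0 1 - g.1.1 1 0) ^ 2 = 1 := (mE _).mp g.2
            have hd := hdet g.1
            show _ = (1 : F)
            linear_combination -hd + e1 + e2 + (g.1.1 0 0 * g.1.1 0 0 + g.1.1 0 0 * g.1.1 1 1 +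
              g.1.1 0 1 * g.1.1 0 1 - g.1.1 0 1 * g.1.1 1 0) * h3 - 0 * h3⟩)
        invFun := fun z => ⟨⟨!![z.2.1.1 - z.1.1.1, z.2.1.2 - z.1.2.1;
            z.2.1.2 - z.1.2.1 - z.1.2.1, z.1.1.1 - (z.2.1.1 - z.1.1.1)], by
          have e1 := z.1.1.2
          have e2 := z.1.2.2
          have e3 := z.2.2
          simp [Matrix.det_fin_two]
          linear_combination -e3 - 2 * e1 - 2 * e2 + (z.2.1.1 * z.1.1.1 + z.2.1.2 * z.1.2.1 - 2) * h3⟩, by
          refine (mE _).mpr ?_
          have e1 := z.1.1.2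
          have e2 := z.1.2.2
          constructor <;> simp
          · exact sq_eq_one_iff.mp e1
          · exact sq_eq_one_iff.mp e2⟩
        left_inv := fun g => by
          apply Subtype.ext
          apply CfsgLib.Dickson.ext_entries <;> simp
        right_inv := fun z => by
          ext <;> simp }
  have dis : Disjoint (A ∪ B ∪ C) E := by
    rw [Set.disjoint_left]
    intro g h hgE
    rw [hE] at hgE
    obtain ⟨e1, e2⟩ := hgE
    rw [hA, hB, hC] at h
    rcases h with (h | h) | ⟨h1, h2⟩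
    · rw [show g.1 0 0 + g.1 1 1 = 0 from h] at e1; simp at e1
    · rw [show g.1 0 1 - g.1 1 0 = 0 from h] at e2; simp at e2
    · have hd := hdet g
      rw [h1] at e1 hd
      rw [h2] at e2 hd
      exact one_ne_zero (α := F) (by linear_combination -e1 - e2 + (4 : F) * hd + three_zero (F := F))
  have key : 2 * (Sol (mk W)).ncard = (A ∪ B ∪ C ∪ E).ncard := by
    rw [← Nat.card_coe_set_eq, ← Nat.card_coe_set_eq]
    have h := card_lift (F := F) (fun y => y ∈ Sol (mk W))
    rw [hg] at h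
    exact h.symm.trans (Nat.card_congr (Equiv.subtypeEquivRight hsol))
  rw [Set.ncard_union_eq dis, cE] at key
  have u1 := Set.ncard_union_add_ncard_inter A B
  have u2 := Set.ncard_union_add_ncard_inter (A ∪ B) C
  have u3 := Set.ncard_union_add_ncard_inter (A ∩ C) (B ∩ C)
  have eI : A ∩ C ∩ (B ∩ C) = A ∩ B ∩ C := by
    ext g; simp only [Set.mem_inter_iff]; tauto
  rw [cA, cB, cAB] at u1
  rw [Set.union_inter_distrib_right, cC] at u2
  rw [eI, cABC, cAC, cBC] at u3
  obtain ⟨t, ht⟩ : ∃ t, q = t + 1 := ⟨_, (Nat.sub_add_cancel (by omega : 1 ≤ q)).symm⟩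
  rw [ht] at key u1 u2 ⊢
  simp only [Nat.add_sub_cancel] at u1
  nlinarith

/-- The count at an element of order three. -/
theorem three_count {x : PSL} (hx : orderOf x = 3) : 2 * (Sol x).ncard = q * (q + 5) := by
  obtain ⟨hq4, hq3, hg, -, -⟩ := card_facts (F := F) hF
  have hx0 : x ∈ cent x := self_mem_cent x
  obtain ⟨P, hP⟩ := exists_sylow_cent 3 hx
  obtain ⟨g0, hg0⟩ := MulAction.exists_smul_eq PSL P (CfsgLib.PSL2.uSylow (F := F) 3)
  obtain ⟨t, ht, hxt⟩ : ∃ t : F, t ≠ 0 ∧ g0 * x * g0⁻¹ = mk (up t) := by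
    have : g0 * x * g0⁻¹ ∈ ((CfsgLib.PSL2.uSylow (F := F) 3 : Sylow 3 PSL) : Subgroup PSL) := by
      rw [← hg0]
      exact ⟨x, hP ▸ hx0, rfl⟩
    obtain ⟨s, hs⟩ := this
    refine ⟨Multiplicative.toAdd s, fun e => ?_, hs.symm⟩
    have : s = 1 := Multiplicative.toAdd.injective e
    rw [this, map_one] at hs
    rw [eq_comm, mul_inv_eq_one, mul_eq_left] at hs
    rw [hs, orderOf_one] at hx
    omega
  rw [← card_sol_conj x g0, hxt]
  clear hxt hx0 hP P hg0 g0 hx x
  have hu := order_p_mk_up (F := F) 3 ht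
  have hu1 : mk (up t) ≠ 1 := fun e => by rw [e, orderOf_one] at hu; omega
  have hu3 : mk (up t) ^ 3 = 1 := orderOf_dvd_iff_pow_eq_one.mp (dvd_of_eq hu)
  obtain ⟨x, hxdef⟩ : ∃ x, mk (up t) = x := ⟨_, rfl⟩
  have h3 := three_zero (F := F)
  obtain ⟨Z, hZ⟩ : ∃ Z : Set SL,
      Z = {g | (t * g.1 1 0) ^ 2 = 1 ∧ (g.1.trace = 0 ∨ g.1.trace ^ 2 = 1)} := ⟨_, rfl⟩
  obtain ⟨B, hB⟩ : ∃ B : Set SL, B = {g | g.1 1 0 = 0} := ⟨_, rfl⟩
  have htu : ∀ (s : F) (g : SL), (up s * g).1.trace = g.1.trace + s * g.1 1 0 := fun s g => by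
    rw [Matrix.trace_fin_two, Matrix.trace_fin_two, CfsgLib.Dickson.mul_entry, CfsgLib.Dickson.mul_entry]; simp; ring
  have hpow : ∀ (k : ℕ) (g : SL), mk (up t) ^ k * mk g = mk (up ((k : F) * t) * g) := fun k g => by
    rw [map_mul, ← CfsgLib.Dickson.up_pow, map_pow]
  have he1 : ∀ (s : F) (g : SL), (up s * g).1 1 0 = g.1 1 0 := fun s g => by
    simp [CfsgLib.Dickson.mul_entry]
  have hsol : ∀ g : SL, mk g ∈ Sol (mk (up t)) ↔ g ∈ B ∪ Z := by
    intro g
    rw [sol_setting (hall hF) hq4]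
    constructor
    · rintro ⟨M, hM, hxM, hyM⟩
      rcases hover hF M hM with ⟨u, hu', hle⟩ | ⟨x0, hx0, hle⟩ | ⟨⟨e⟩⟩
      · refine Or.inl ?_
        rw [hB]
        refine (mem_bor_up 3 ht).mp ?_
        have hc := mem_cent_of_mem_bor 3 hu' (hle hxM) hu3
        rw [bor, cent_eq (psl (F := F) 3) hu' hu (mem_cent.mp hc)]
        exact hle hyM
      · exfalso
        have hxT : mk (up t) ∉ (psl (F := F) 3).T x0 := fun h =>
          (((psl (F := F) 3).T_eq x0 _ hx0 h hu1).1).2 (dvd_of_eq hu.symm)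
        have h2 := orderOf_dvd_of_pow_eq_one (inverter_sq _ hx0 ((mem_norm_iff hx0).mp (hle hxM)) hxT)
        rw [hu] at h2
        norm_num at h2
      · have hxM3 : (⟨mk (up t), hxM⟩ : M) ^ 3 = 1 := Subtype.ext hu3
        rcases a4_three (e ⟨mk (up t), hxM⟩) (e ⟨mk g, hyM⟩) (by rw [← map_pow, hxM3, map_one])
          (fun h => hu1 (congrArg Subtype.val (e.injective (h.trans (map_one e).symm)))) with h | ⟨k, h1, h2, h3'⟩
        · refine Or.inl ?_
          rw [hB]
          refine (mem_bor_up 3 ht).mp (Subgroup.le_normalizer ?_)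
          rcases h with h | h | h
          · rw [show mk g = 1 from congrArg Subtype.val (e.injective (h.trans (map_one e).symm))]
            exact one_mem _
          · rw [show mk g = mk (up t) from congrArg Subtype.val (e.injective h)]
            exact self_mem_cent _
          · rw [← map_pow] at h
            rw [show mk g = mk (up t) ^ 2 from congrArg Subtype.val (e.injective h)]
            exact pow_mem (self_mem_cent _) 2
        · refine Or.inr ?_
          simp only [← map_pow, ← map_mul] at h1 h2 h3'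
          rw [← map_one e] at h1 h3'
          have e1 : (mk (up t) ^ (k : ℕ) * mk g) ^ 2 = 1 := congrArg Subtype.val (e.injective h1)
          have e2 : mk (up t) ^ (k : ℕ) * mk g ≠ 1 := fun h => h2 (by
            rw [← map_one e]; exact congrArg e (Subtype.ext h))
          have e3 : (mk (up t) * (mk (up t) ^ (k : ℕ) * mk g)) ^ 3 = 1 := congrArg Subtype.val (e.injective h3')
          rw [hpow] at e1 e2 e3
          have t1 := trace_of_sq e1 e2
          rw [← map_mul, cube_iff, htu, t1, zero_add, he1] at e3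
          rw [htu] at t1
          rw [hZ]
          refine ⟨e3, ?_⟩
          fin_cases k
          · left; simpa using t1
          · right
            have : g.1.trace = -(t * g.1 1 0) := by simp at t1; linear_combination t1
            rw [this, neg_sq, e3]
          · right
            have : g.1.trace = t * g.1 1 0 := by
              simp at t1; linear_combination t1 - t * g.1 1 0 * h3
            rw [this, e3]
    · rintro (h | h)
      · rw [hB] at h
        exact ⟨_, bor_ne_top 3 hu, Subgroup.le_normalizer (self_mem_cent _), (mem_bor_up 3 ht).mpr h⟩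
      · rw [hZ] at h
        obtain ⟨hc, htrc⟩ := h
        obtain ⟨k, hk⟩ : ∃ k : ℕ, g.1.trace + (k : F) * t * g.1 1 0 = 0 := by
          rcases htrc with h | h
          · exact ⟨0, by simp [h]⟩
          · rcases (mul_eq_zero.mp (show (g.1.trace + t * g.1 1 0) * (g.1.trace - t * g.1 1 0) = 0 by
              linear_combination h - hc)) with h | h
            · exact ⟨1, by simpa using h⟩
            · exact ⟨2, by push_cast; linear_combination h + t * g.1 1 0 * h3⟩
        obtain ⟨hz2, hz1⟩ := sq_of_trace (g := up ((k : F) * t) * g) (by rw [htu]; exact hk)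
        obtain ⟨M, hM, hzM, hxM⟩ := a4_mem hF hz2 hz1 hu3 (by
          rw [← map_mul, cube_iff, Matrix.SpecialLinearGroup.coe_mul, Matrix.trace_mul_comm,
            ← Matrix.SpecialLinearGroup.coe_mul, htu, htu, he1, hk, zero_add]
          exact hc)
        refine ⟨M, hM, hxM, ?_⟩
        rw [← hpow] at hzM
        have := mul_mem (inv_mem (pow_mem hxM k)) hzM
        rwa [inv_mul_cancel_left] at this
  have cB : B.ncard = q * (q - 1) := by
    rw [← card_bor 3 hu, hg, ← Nat.card_coe_set_eq]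
    have h := card_lift (F := F) (fun y => y ∈ bor (mk (up t)))
    rw [hg] at h
    refine Eq.trans ?_ h
    exact Nat.card_congr (Equiv.subtypeEquivRight fun g => by rw [hB]; exact (mem_bor_up 3 ht).symm)
  have cT3 : Nat.card {e : F // e = 0 ∨ e ^ 2 = 1} = 3 := by
    have : {e : F | e = 0 ∨ e ^ 2 = 1} = {0, 1, -1} := Set.ext fun e => by simp
    show Nat.card ↥{e : F | e = 0 ∨ e ^ 2 = 1} = 3
    rw [this, Nat.card_coe_set_eq]
    exact Set.ncard_eq_three.mpr ⟨0, 1, -1, zero_ne_one, by simp, fun h => two_ne (F := F)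
      (by linear_combination h), rfl⟩
  have cZ : Z.ncard = 2 * 3 * q := by
    have mZ : ∀ g : SL, g ∈ Z ↔ (t * g.1 1 0) ^ 2 = 1 ∧ (g.1.trace = 0 ∨ g.1.trace ^ 2 = 1) := fun g => by rw [hZ]; rfl
    rw [show 2 * 3 * q = Nat.card (({e : F // e ^ 2 = 1} × {e : F // e = 0 ∨ e ^ 2 = 1}) × F) by
        rw [Nat.card_prod, Nat.card_prod, card_pm hF, cT3, Nat.card_eq_fintype_card], ← Nat.card_coe_set_eq]
    refine Nat.card_congr
      { toFun := fun g => ((⟨t * g.1.1 1 0, ((mZ _).mp g.2).1⟩,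
          ⟨g.1.1.trace, ((mZ _).mp g.2).2⟩), g.1.1 0 0)
        invFun := fun z => ⟨⟨!![z.2, (z.2 * (z.1.2.1 - z.2) - 1) / (z.1.1.1 / t); z.1.1.1 / t, z.1.2.1 - z.2], by
          have he : z.1.1.1 ≠ 0 := fun e => by simpa [e] using z.1.1.2
          simp [Matrix.det_fin_two]
          field_simp
          ring⟩, by
          refine (mZ _).mpr ⟨?_, ?_⟩
          · show (t * (z.1.1.1 / t)) ^ 2 = 1
            rw [mul_div_cancel₀ _ ht]
            exact z.1.1.2
          · simp [Matrix.trace_fin_two]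
            simpa using z.1.2.2⟩
        left_inv := fun g => by
          have h := (mZ _).mp g.2
          have h0 : g.1.1 1 0 ≠ 0 := fun e => by simpa [e] using h.1
          have hd : g.1.1 0 0 * g.1.1 1 1 - g.1.1 0 1 * g.1.1 1 0 = 1 := by
            rw [← Matrix.det_fin_two]; exact g.1.2
          apply Subtype.ext
          apply CfsgLib.Dickson.ext_entries <;> simp [Matrix.trace_fin_two] <;> field_simp
          linear_combination hd
        right_inv := fun z => by
          ext <;> simp [Matrix.trace_fin_two, mul_div_cancel₀ _ ht] }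
  have dis : Disjoint B Z := by
    rw [Set.disjoint_left]
    intro g hgB hgZ
    rw [hB] at hgB
    rw [hZ] at hgZ
    have := hgZ.1
    rw [show g.1 1 0 = 0 from hgB] at this
    simp at this
  have key : 2 * (Sol (mk (up t))).ncard = (B ∪ Z).ncard := by
    rw [← Nat.card_coe_set_eq, ← Nat.card_coe_set_eq]
    have h := card_lift (F := F) (fun y => y ∈ Sol (mk (up t)))
    rw [hg] at h
    exact h.symm.trans (Nat.card_congr (Equiv.subtypeEquivRight hsol))
  rw [key, Set.ncard_union_eq dis, cB, cZ]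
  obtain ⟨s, hs⟩ : ∃ s, q = s + 1 := ⟨_, (Nat.sub_add_cancel (by omega : 1 ≤ q)).symm⟩
  rw [hs]
  simp only [Nat.add_sub_cancel]
  ring

/-- The count at a semisimple element of order at least three. -/
theorem torus_count {x : PSL} (hx : SS 3 x) (hx2 : x ^ 2 ≠ 1) :
    2 * (Sol x).ncard = if orderOf x ∣ q - 1 then 2 * (q * (q - 1)) else 2 * (q + 1) := by
  obtain ⟨hq4, -, hg, -, -⟩ := card_facts (F := F) hF
  have hov : ∀ M : Subgroup PSL, M ≠ ⊤ → (∃ u, orderOf u = 3 ∧ M ≤ bor u) ∨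
      (∃ x0, SS 3 x0 ∧ M ≤ Subgroup.normalizer ((psl (F := F) 3).T x0 : Set PSL)) ∨
        ∀ z ∈ M, SS 3 z → z ^ 2 = 1 := by
    intro M hM
    refine (hover hF M hM).imp_right fun h => h.imp_right ?_
    rintro ⟨e⟩ z hzM hz
    rcases a4_orders (e ⟨z, hzM⟩) with h | h <;> rw [← map_pow, ← map_one e] at h
    · exact congrArg Subtype.val (e.injective h)
    · exfalso
      rcases (Nat.dvd_prime Nat.prime_three).mp
        (orderOf_dvd_of_pow_eq_one (congrArg Subtype.val (e.injective h) : z ^ 3 = 1)) with e' | e'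
      · exact hz.1 (orderOf_eq_one_iff.mp e')
      · exact hz.2 (dvd_of_eq e'.symm)
  have h := card_sol_torus 3 (hall hF) hq4 hov hx hx2
  rwa [hg] at h

end Counts

/-- Let G = PSL_2(F) with F a field of order q = 3^p, p an odd prime, and for x ∈ G call the solubilizer of x the set of y ∈ G such that x and y generate a solvable subgroup. Then the solubilizer of an involution has q(q + 1) elements; that of an element of order 3 has q(q + 5)/2 elements; that of an element of order neither 1 nor 2 dividing q − 1 has q(q − 1) elements; and that of an element of order neither 1 nor 2 dividing q + 1 has q + 1 elements. -/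
theorem result (p : ℕ) (hp : p.Prime) (hodd : Odd p) {F : Type*} [Field F] [Fintype F]
    (hF : Fintype.card F = 3 ^ p) (x : Matrix.ProjectiveSpecialLinearGroup (Fin 2) F) :
    (orderOf x = 2 → Nat.card {y : Matrix.ProjectiveSpecialLinearGroup (Fin 2) F // Group.IsSolvable ↥(Subgroup.closure ({x, y} : Set (Matrix.ProjectiveSpecialLinearGroup (Fin 2) F)))} = 3 ^ p * (3 ^ p + 1)) ∧
    (orderOf x = 3 → 2 * Nat.card {y : Matrix.ProjectiveSpecialLinearGroup (Fin 2) F // Group.IsSolvable ↥(Subgroup.closure ({x, y} : Set (Matrix.ProjectiveSpecialLinearGroup (Fin 2) F)))} = 3 ^ p * (3 ^ p + 5)) ∧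
    (x ≠ 1 → orderOf x ≠ 2 → orderOf x ∣ 3 ^ p - 1 → Nat.card {y : Matrix.ProjectiveSpecialLinearGroup (Fin 2) F // Group.IsSolvable ↥(Subgroup.closure ({x, y} : Set (Matrix.ProjectiveSpecialLinearGroup (Fin 2) F)))} = 3 ^ p * (3 ^ p - 1)) ∧
    (x ≠ 1 → orderOf x ≠ 2 → orderOf x ∣ 3 ^ p + 1 → Nat.card {y : Matrix.ProjectiveSpecialLinearGroup (Fin 2) F // Group.IsSolvable ↥(Subgroup.closure ({x, y} : Set (Matrix.ProjectiveSpecialLinearGroup (Fin 2) F)))} = 3 ^ p + 1) := by
  classical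
  obtain ⟨c, hc⟩ := CharP.exists F
  haveI := Fact.mk (CharP.char_is_prime F c)
  obtain rfl : c = 3 := by
    obtain ⟨f, hcp, hf⟩ := FiniteField.card F c
    rw [hF] at hf
    exact ((Nat.prime_dvd_prime_iff_eq hcp Nat.prime_three).mp
      (hcp.dvd_of_dvd_pow (hf ▸ dvd_pow_self c f.ne_zero : c ∣ 3 ^ p)))
  have hq : ∃ r : ℕ, r.Prime ∧ Odd r ∧ Fintype.card F = 3 ^ r := ⟨p, hp, hodd, hF⟩
  have h3q : 3 ∣ 3 ^ p := dvd_pow_self 3 hp.ne_zero
  have hpos : 1 ≤ 3 ^ p := Nat.one_le_pow _ _ (by norm_num)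
  have hsq : ∀ {y : Matrix.ProjectiveSpecialLinearGroup (Fin 2) F}, y ≠ 1 → orderOf y ≠ 2 → y ^ 2 ≠ 1 := by
    intro y h1 h2 e
    rcases (Nat.dvd_prime Nat.prime_two).mp (orderOf_dvd_of_pow_eq_one e) with e | e
    · exact h1 (orderOf_eq_one_iff.mp e)
    · exact h2 e
  have main : (orderOf x = 2 → (Sol x).ncard = 3 ^ p * (3 ^ p + 1)) ∧
      (orderOf x = 3 → 2 * (Sol x).ncard = 3 ^ p * (3 ^ p + 5)) ∧
      (x ≠ 1 → orderOf x ≠ 2 → orderOf x ∣ 3 ^ p - 1 → (Sol x).ncard = 3 ^ p * (3 ^ p - 1)) ∧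
      (x ≠ 1 → orderOf x ≠ 2 → orderOf x ∣ 3 ^ p + 1 → (Sol x).ncard = 3 ^ p + 1) := by
    refine ⟨fun h => hF ▸ inv_count hq h, fun h => hF ▸ three_count hq h, fun h1 h2 hd => ?_, fun h1 h2 hd => ?_⟩
    · have h := torus_count hq (x := x) ⟨h1, fun h3 => by have := h3.trans hd; omega⟩ (hsq h1 h2)
      rw [hF, if_pos hd] at h
      omega
    · have h := torus_count hq (x := x) ⟨h1, fun h3 => by have := h3.trans hd; omega⟩ (hsq h1 h2)
      rw [hF, if_neg fun h' => ?_] at h
      · omega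
      · have h'' := Nat.dvd_sub hd h'
        rw [show 3 ^ p + 1 - (3 ^ p - 1) = 2 by omega] at h''
        rcases (Nat.dvd_prime Nat.prime_two).mp h'' with e | e
        · exact h1 (orderOf_eq_one_iff.mp e)
        · exact h2 e
  simp only [← Nat.card_coe_set_eq] at main
  exact main

end Cfsg.Agent.S2258
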