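import Cfsg.Statements.S2259
import Cfsg.Agent.Lib.Suzuki.Solvable

set_option autoImplicit false
open Cfsg

namespace Cfsg.Agent.S2259

/-- Let G be the Suzuki group Sz(q), q = 2^(2m+1) with 2m + 1 prime and m ≥ 1, realised inside Sp_4(F) for F the field of order q, write r = 2^(m+1) (so r² = 2q), and for x ∈ G call the solubilizer of x the set of y ∈ G such that x and y generate a solvable subgroup. Then the solubilizer of an involution has q²(4q − 3) elements; that of an element of order 4 has q²(q + 3) elements; that of a non-identity element of order dividing q − 1 has 2q²(q − 1) elements; that of a non-identity element of order dividing q + r + 1 has 4(q + r + 1) elements; and that of a non-identity element of order dividing q − r + 1 has 4(q − r + 1) elements. -/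
theorem result {F : Type*} [Field F] [Fintype F] {m : ℕ} (hm : 1 ≤ m)
    (hp : (2 * m + 1).Prime) (hF : Fintype.card F = 2 ^ (2 * m + 1)) (x : ↥(Cfsg.Lie.Sz F (2 ^ (m + 1)))) :
    (orderOf x = 2 → Nat.card {y : ↥(Cfsg.Lie.Sz F (2 ^ (m + 1))) // Group.IsSolvable ↥(Subgroup.closure ({x, y} : Set (↥(Cfsg.Lie.Sz F (2 ^ (m + 1))))))} = (2 ^ (2 * m + 1)) ^ 2 * (4 * 2 ^ (2 * m + 1) - 3)) ∧
    (orderOf x = 4 → Nat.card {y : ↥(Cfsg.Lie.Sz F (2 ^ (m + 1))) // Group.IsSolvable ↥(Subgroup.closure ({x, y} : Set (↥(Cfsg.Lie.Sz F (2 ^ (m + 1))))))} = (2 ^ (2 * m + 1)) ^ 2 * (2 ^ (2 * m + 1) + 3)) ∧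
    (x ≠ 1 → orderOf x ∣ 2 ^ (2 * m + 1) - 1 →
      Nat.card {y : ↥(Cfsg.Lie.Sz F (2 ^ (m + 1))) // Group.IsSolvable ↥(Subgroup.closure ({x, y} : Set (↥(Cfsg.Lie.Sz F (2 ^ (m + 1))))))} = 2 * (2 ^ (2 * m + 1)) ^ 2 * (2 ^ (2 * m + 1) - 1)) ∧
    (x ≠ 1 → orderOf x ∣ 2 ^ (2 * m + 1) + 2 ^ (m + 1) + 1 → Nat.card {y : ↥(Cfsg.Lie.Sz F (2 ^ (m + 1))) // Group.IsSolvable ↥(Subgroup.closure ({x, y} : Set (↥(Cfsg.Lie.Sz F (2 ^ (m + 1))))))} = 4 * (2 ^ (2 * m + 1) + 2 ^ (m + 1) + 1)) ∧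
    (x ≠ 1 → orderOf x ∣ 2 ^ (2 * m + 1) - 2 ^ (m + 1) + 1 → Nat.card {y : ↥(Cfsg.Lie.Sz F (2 ^ (m + 1))) // Group.IsSolvable ↥(Subgroup.closure ({x, y} : Set (↥(Cfsg.Lie.Sz F (2 ^ (m + 1))))))} = 4 * (2 ^ (2 * m + 1) - 2 ^ (m + 1) + 1)) := by
  set φ := (CfsgLib.Suzuki.lieEquiv hF hm).symm
  have hcard : Nat.card {y : ↥(Cfsg.Lie.Sz F (2 ^ (m + 1))) // Group.IsSolvable ↥(Subgroup.closure ({x, y} : Set (↥(Cfsg.Lie.Sz F (2 ^ (m + 1))))))} =
      Nat.card (CfsgLib.Suzuki.solvPartners (φ x)) := by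
    rw [CfsgLib.Suzuki.card_solvPartners_map φ x]
    rfl
  rw [hcard]
  have hord : orderOf (φ x) = orderOf x := MulEquiv.orderOf_eq φ x
  obtain ⟨hprod, hsq, hs4, hq8, -, -, -⟩ := CfsgLib.Suzuki.arith hF hm _ _ rfl rfl
  obtain ⟨n1, n2, n3⟩ := CfsgLib.Suzuki.torus_orders_ne hF hm
  obtain ⟨c1, c2, c3, c4, c5, c6⟩ := CfsgLib.Suzuki.coprime_orders hF hm _ _ _ rfl rfl rfl
  have hss : ∀ j, x ≠ 1 → orderOf x ∣ j → Nat.Coprime ((2 ^ (2 * m + 1)) ^ 2) j →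
      CfsgLib.Suzuki.SS hF (φ x) ∧ ∀ k, CfsgLib.Suzuki.IsTorusOrder m k → orderOf (φ x) ∣ k →
        Nat.Coprime k j → False := by
    intro j hx1 hj hcop
    have h1 : orderOf x ≠ 1 := fun h => hx1 (orderOf_eq_one_iff.mp h)
    refine ⟨⟨fun h => hx1 (φ.map_eq_one_iff.mp h), fun h => h1 ?_⟩, fun k _ hk hc => h1 ?_⟩
    · have := CfsgLib.Suzuki.orderOf_dvd_of_conjSet _ h
      rw [CfsgLib.Suzuki.card_U, hord] at this
      exact Nat.eq_one_of_dvd_coprimes hcop this hj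
    · exact Nat.eq_one_of_dvd_coprimes hc (hord ▸ hk) hj
  refine ⟨fun h => ?_, fun h => ?_, fun hx1 h => ?_, fun hx1 h => ?_, fun hx1 h => ?_⟩
  · rw [CfsgLib.Suzuki.solv_unip hF hm hp (Or.inl rfl) (hord.trans h),
      Finset.sum_insert (by simp [n1, n2]), Finset.sum_pair n3]
    simp only [if_pos]
    have e1 : 2 ^ (2 * m + 1) - 2 ^ (m + 1) + 1 - 1 = 2 ^ (2 * m + 1) - 2 ^ (m + 1) := by omega
    have e2 : 2 ^ (2 * m + 1) + 2 ^ (m + 1) + 1 - 1 = 2 ^ (2 * m + 1) + 2 ^ (m + 1) := by omega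
    have e3 : 2 ^ (2 * m + 1) - 1 - 1 = 2 ^ (2 * m + 1) - 2 := by omega
    rw [e1, e2, e3, ← Nat.mul_add, ← Nat.mul_add, ← Nat.mul_add]
    congr 1
    omega
  · rw [CfsgLib.Suzuki.solv_unip hF hm hp (Or.inr rfl) (hord.trans h),
      Finset.sum_insert (by simp [n1, n2]), Finset.sum_pair n3]
    simp only [CfsgLib.Suzuki.torC, if_pos, if_neg n1.symm, if_neg n2.symm,
      show ¬ (4 : ℕ) = 2 by norm_num, show ¬ (2 : ℕ) = 4 by norm_num, if_false, zero_mul, zero_add]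
    have e1 : 2 ^ (2 * m + 1) - 2 ^ (m + 1) + 1 - 1 = 2 ^ (2 * m + 1) - 2 ^ (m + 1) := by omega
    have e2 : 2 ^ (2 * m + 1) + 2 ^ (m + 1) + 1 - 1 = 2 ^ (2 * m + 1) + 2 ^ (m + 1) := by omega
    rw [e1, e2, ← Nat.mul_add, show 2 ^ (2 * m + 1) + 2 ^ (m + 1) + (2 ^ (2 * m + 1) - 2 ^ (m + 1)) = 2 * 2 ^ (2 * m + 1) by omega,
      show 2 * 2 ^ (2 * m + 1) * (2 * 2 ^ (2 * m + 1)) = (2 ^ (2 * m + 1)) ^ 2 * 4 by ring, ← Nat.mul_add]
    congr 1
    omega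
  · obtain ⟨hs, hno⟩ := hss _ hx1 h c1
    obtain ⟨k, hk, hdk, hC⟩ := CfsgLib.Suzuki.torus_of_ss hF hm hs
    obtain ⟨-, g, hg⟩ : φ x ∈ CfsgLib.Suzuki.conjSet (CfsgLib.Suzuki.T hF) := by
      rcases hk with rfl | rfl | rfl
      · obtain ⟨A0, hA0, -, hall⟩ := CfsgLib.Suzuki.tori_rep hF hm
          (k := 2 ^ (2 * m + 1) - 1) (Or.inl rfl)
        obtain ⟨g, hg⟩ := hall _ hC
        have hTmem : CfsgLib.Suzuki.T hF ∈ CfsgLib.Suzuki.tori hF (2 ^ (2 * m + 1) - 1) := by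
          obtain ⟨a, ha0, ha1⟩ := CfsgLib.Suzuki.exists_not_zero_one hF hm
          have ht : Units.mk0 a ha0 ≠ 1 := fun e => ha1 (congrArg Units.val e)
          exact ⟨CfsgLib.Suzuki.card_T hF, _, CfsgLib.Suzuki.ss_of_torus hF hm
            (Or.inl (CfsgLib.Suzuki.card_T hF)) ((CfsgLib.Suzuki.mem_T hF).mpr ⟨Units.mk0 a ha0, rfl⟩)
            (fun e => ht (CfsgLib.Suzuki.dS_inj hF (e.trans (CfsgLib.Suzuki.dS_one hF).symm))),
            (CfsgLib.Suzuki.centralizer_torus hF hm ht).symm⟩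
        obtain ⟨g', hg'⟩ := hall _ hTmem
        have hmem : φ x ∈ A0.map (MulAut.conj g).toMonoidHom :=
          hg ▸ Subgroup.mem_centralizer_singleton_iff.mpr rfl
        rw [CfsgLib.Suzuki.mem_map_conj_iff] at hmem
        refine ⟨hs.1, g * g'⁻¹, ?_⟩
        rw [hg', CfsgLib.Suzuki.mem_map_conj_iff]
        simpa [mul_assoc] using hmem
      · exact (hno _ (Or.inr (Or.inl rfl)) hdk c4.symm).elim
      · exact (hno _ (Or.inr (Or.inr rfl)) hdk c5.symm).elim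
    obtain ⟨t, ht⟩ := (CfsgLib.Suzuki.mem_T hF).mp hg
    have ht1 : t ≠ 1 := fun e => hs.1 (by
      rw [e, CfsgLib.Suzuki.dS_one] at ht
      simpa [mul_assoc] using congrArg (fun v => g * v * g⁻¹) ht)
    rw [← CfsgLib.Suzuki.solv_torus hF hm hp ht1,
      show φ x = MulAut.conj g (CfsgLib.Suzuki.dS hF t) by rw [← ht]; simp [mul_assoc],
      CfsgLib.Suzuki.card_solvPartners_map (MulAut.conj g)]
  · obtain ⟨hs, hno⟩ := hss _ hx1 h c2
    obtain ⟨k, hk, hdk, hC⟩ := CfsgLib.Suzuki.torus_of_ss hF hm hs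
    have hkk : k = 2 ^ (2 * m + 1) + 2 ^ (m + 1) + 1 := by
      rcases hk with rfl | rfl | rfl
      · exact (hno _ (Or.inl rfl) hdk c4).elim
      · rfl
      · exact (hno _ (Or.inr (Or.inr rfl)) hdk c6.symm).elim
    subst hkk
    exact CfsgLib.Suzuki.solv_singer hF hm hp hs hk hC n1.symm
  · obtain ⟨hs, hno⟩ := hss _ hx1 h c3
    obtain ⟨k, hk, hdk, hC⟩ := CfsgLib.Suzuki.torus_of_ss hF hm hs
    have hkk : k = 2 ^ (2 * m + 1) - 2 ^ (m + 1) + 1 := by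
      rcases hk with rfl | rfl | rfl
      · exact (hno _ (Or.inl rfl) hdk c5).elim
      · exact (hno _ (Or.inr (Or.inl rfl)) hdk c6).elim
      · rfl
    subst hkk
    exact CfsgLib.Suzuki.solv_singer hF hm hp hs hk hC n2.symm

end Cfsg.Agent.S2259
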