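import Cfsg.Statements.S2260
import Cfsg.Agent.Lib.Unipotent
-- import your own Cfsg.Agent.* helpers here

set_option autoImplicit false
open Cfsg

namespace Cfsg.Agent.S2260

/-- Let F be a finite field of prime characteristic p and u an invertible d × d matrix over F with u − 1 nilpotent (a unipotent element). Then the order of u is at most p^⌈log_p d⌉; and if moreover (u − 1)^(d−1) ≠ 0 (u is a single Jordan block) then the order of u is exactly p^⌈log_p d⌉. -/
theorem result {F : Type*} [Field F] [Finite F] (p : ℕ) [Fact p.Prime] [CharP F p] (d : ℕ)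
    (u : GL (Fin d) F) (hu : IsNilpotent ((u : Matrix (Fin d) (Fin d) F) - 1)) :
    orderOf u ≤ p ^ Nat.clog p d ∧
    (((u : Matrix (Fin d) (Fin d) F) - 1) ^ (d - 1) ≠ 0 → orderOf u = p ^ Nat.clog p d) := by
  refine ⟨Nat.le_of_dvd (pow_pos (Fact.out : p.Prime).pos _)
    (orderOf_dvd_of_pow_eq_one (CfsgLib.Unipotent.pow_clog_eq_one p hu)),
    CfsgLib.Unipotent.orderOf_eq_of_pow_ne_zero p hu⟩

end Cfsg.Agent.S2260
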