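import Cfsg.Statements.S2262
import Cfsg.Agent.Lib.PSLn.AutOrder.Main
import Cfsg.Agent.S2261

set_option autoImplicit false
open Cfsg

namespace Cfsg.Agent.S2262

/-- Let F be a finite field with q elements and d ≥ 2, with q ≥ 4 when d = 2, and (d, q) ∉ {(2, 4), (3, 2)}. Then every automorphism of the simple group PSL_d(F) has order at most (q^d − 1)/(q − 1) as an element of the automorphism group, and some automorphism has exactly this order. -/
theorem result {F : Type*} [Field F] [Fintype F] (d : ℕ) (hd : 2 ≤ d)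
    (h2 : d = 2 → 4 ≤ Fintype.card F) (h24 : ¬ (d = 2 ∧ Fintype.card F = 4)) (h32 : ¬ (d = 3 ∧ Fintype.card F = 2)) :
    (∀ φ : MulAut (Matrix.ProjectiveSpecialLinearGroup (Fin d) F),
      (Fintype.card F - 1) * orderOf φ ≤ Fintype.card F ^ d - 1) ∧
    (∃ φ : MulAut (Matrix.ProjectiveSpecialLinearGroup (Fin d) F),
      (Fintype.card F - 1) * orderOf φ = Fintype.card F ^ d - 1) := by
  classical
  have hq : 2 ≤ Fintype.card F := Fintype.one_lt_card
  obtain ⟨p, hchar⟩ := CharP.exists F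
  haveI : Fact p.Prime := ⟨CharP.char_is_prime F p⟩
  refine ⟨fun φ => CfsgLib.AutOrder.mul_le_of_le_NS hq ?_, ?_⟩
  · rcases (show d = 2 ∨ 3 ≤ d by omega) with rfl | hd3
    · obtain ⟨g, e, he⟩ := CfsgLib.PSL2.exists_diag_field p φ
      have hφ : φ = CfsgLib.PSLn.diagAut g * CfsgLib.PSLn.fieldAut (e : RingAut F) := by
        rw [he]
        rfl
      rw [hφ]
      exact CfsgLib.AutOrder.linear_le (by omega) h24 g e
    · obtain ⟨g, e, h | h⟩ := CfsgLib.PSLn.exists_decomposition p hd3 φ <;> rw [h]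
      · exact CfsgLib.AutOrder.linear_le (by omega) h24 g e
      · exact CfsgLib.AutOrder.graph_bound hd3 h32 g e
  · obtain ⟨x, hx⟩ := (Cfsg.Agent.S2261.result (F := F) d (by omega)).2
    obtain ⟨g, rfl⟩ := QuotientGroup.mk_surjective x
    refine ⟨CfsgLib.PSLn.diagAut g, ?_⟩
    have hker : (CfsgLib.PSLn.diagAut : GL (Fin d) F →* _).ker = Subgroup.center (GL (Fin d) F) :=
      le_antisymm (fun z hz => CfsgLib.AutOrder.diag_ker hd hz) fun z hz => CfsgLib.AutOrder.diagAut_center hz
    rw [← hx]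
    congr 1
    refine orderOf_eq_orderOf_iff.2 fun n => ?_
    rw [← map_pow, ← QuotientGroup.mk_pow, QuotientGroup.eq_one_iff, ← hker, MonoidHom.mem_ker]

end Cfsg.Agent.S2262
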