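import Cfsg.Statements.S2263
import Cfsg.Agent.Lib.PGUOrder.Witness

set_option autoImplicit false
set_option maxHeartbeats 800000
open Cfsg

namespace Cfsg.Agent.S2263

/-- Let q = p^f with p prime and f ≥ 1, F a field with q² elements, d ≥ 3 with (d, q) ≠ (3, 2), and PGU_d(q) the general unitary group of the standard Hermitian form modulo its centre. Then the largest order of an element of PGU_d(q) is: q^(d−1) − 1 if d is odd and f ≥ 2; (p^(d−2) + 1)p if d is odd and f = 1; q^(d−1) + 1 if d is even and q > 2; 4(2^(d−3) + 1) if d is even and q = 2. -/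
theorem result {F : Type*} [Field F] [Fintype F] (p f d : ℕ) (hp : p.Prime) (hf : 1 ≤ f) (q : ℕ) (hq : q = p ^ f)
    (hF : Fintype.card F = q ^ 2) (hd : 3 ≤ d) (h32 : ¬ (d = 3 ∧ q = 2)) :
    (Odd d → 2 ≤ f → (∀ g : (↥(Cfsg.GU d F q) ⧸ Subgroup.center ↥(Cfsg.GU d F q)), orderOf g ≤ q ^ (d - 1) - 1) ∧ ∃ g : (↥(Cfsg.GU d F q) ⧸ Subgroup.center ↥(Cfsg.GU d F q)), orderOf g = q ^ (d - 1) - 1) ∧
    (Odd d → f = 1 → (∀ g : (↥(Cfsg.GU d F q) ⧸ Subgroup.center ↥(Cfsg.GU d F q)), orderOf g ≤ (p ^ (d - 2) + 1) * p) ∧ ∃ g : (↥(Cfsg.GU d F q) ⧸ Subgroup.center ↥(Cfsg.GU d F q)), orderOf g = (p ^ (d - 2) + 1) * p) ∧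
    (Even d → 2 < q → (∀ g : (↥(Cfsg.GU d F q) ⧸ Subgroup.center ↥(Cfsg.GU d F q)), orderOf g ≤ q ^ (d - 1) + 1) ∧ ∃ g : (↥(Cfsg.GU d F q) ⧸ Subgroup.center ↥(Cfsg.GU d F q)), orderOf g = q ^ (d - 1) + 1) ∧
    (Even d → q = 2 → (∀ g : (↥(Cfsg.GU d F q) ⧸ Subgroup.center ↥(Cfsg.GU d F q)), orderOf g ≤ 4 * (2 ^ (d - 3) + 1)) ∧ ∃ g : (↥(Cfsg.GU d F q) ⧸ Subgroup.center ↥(Cfsg.GU d F q)), orderOf g = 4 * (2 ^ (d - 3) + 1)) := by
  classical
  haveI : Fact p.Prime := ⟨hp⟩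
  haveI : CharP F p := by
    obtain ⟨r, hr⟩ := CharP.exists F
    haveI : Fact r.Prime := ⟨CharP.char_is_prime F r⟩
    obtain ⟨m, -, hm⟩ := FiniteField.card F r
    have h1 : p ∣ r ^ (m : ℕ) := by
      rw [← hm, hF, hq, ← pow_mul]; exact dvd_pow_self p (by positivity)
    rwa [(Nat.prime_dvd_prime_iff_eq hp Fact.out).mp (hp.dvd_of_dvd_pow h1)]
  have hp2 := hp.two_le
  have hpq : p ≤ q := hq ▸ Nat.le_self_pow (by omega) p
  have hq2 : 2 ≤ q := hp2.trans hpq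
  -- upper bounds
  have hup : ∀ T : ℕ,
      (∀ s j : ℕ, 1 ≤ s → s + j ≤ d → p ^ Nat.clog p (j + 1) * CfsgLib.PGUOrder.MM q s ≤ T) →
      ∀ g : (↥(Cfsg.GU d F q) ⧸ Subgroup.center ↥(Cfsg.GU d F q)), orderOf g ≤ T := by
    intro T hT x
    obtain ⟨g, rfl⟩ := QuotientGroup.mk_surjective x
    obtain ⟨s, j, N, hs, hsj, hN, ⟨c, hc⟩, hle⟩ :=
      CfsgLib.PGUOrder.exists_scalar_pow p f hq hF (by omega) g
    refine (orderOf_le_of_pow_eq_one hN ?_).trans (hle.trans (hT s j hs hsj))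
    rw [← QuotientGroup.mk_pow, QuotientGroup.eq_one_iff, Subgroup.mem_center_iff]
    intro h
    refine Subtype.ext (Units.ext ?_)
    show h.1.1 * g.1.1 ^ N = g.1.1 ^ N * h.1.1
    rw [hc]
    exact (Matrix.scalar_commute c (fun _ => Commute.all _ _) h.1.1).eq.symm
  -- witnesses
  have hlow : ∀ a k e : ℕ, a + k = d → 1 ≤ a → (a = 1 ∨ q ^ (a - 1) + 1 < CfsgLib.PGUOrder.hh q a) → 1 ≤ k →
      (e = 0 ∨ p ^ (e - 1) < k) →
      (∀ g : (↥(Cfsg.GU d F q) ⧸ Subgroup.center ↥(Cfsg.GU d F q)),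
        orderOf g ≤ CfsgLib.PGUOrder.hh q a * p ^ e) →
      ∃ g : (↥(Cfsg.GU d F q) ⧸ Subgroup.center ↥(Cfsg.GU d F q)),
        orderOf g = CfsgLib.PGUOrder.hh q a * p ^ e := by
    intro a k e had ha hsep hk he hle
    subst had
    obtain ⟨g, hg⟩ := CfsgLib.PGUOrder.exists_witness p f hq hf hF ha hsep hk he
    refine ⟨QuotientGroup.mk g, le_antisymm (hle _) (Nat.le_of_dvd (orderOf_pos _) (hg _ ?_))⟩
    have h1 : (QuotientGroup.mk (g ^ orderOf (QuotientGroup.mk g :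
        ↥(Cfsg.GU (a + k) F q) ⧸ Subgroup.center ↥(Cfsg.GU (a + k) F q))) :
        ↥(Cfsg.GU (a + k) F q) ⧸ Subgroup.center ↥(Cfsg.GU (a + k) F q)) = 1 := by
      rw [QuotientGroup.mk_pow, pow_orderOf_eq_one]
    exact CfsgLib.UnitaryBasic.center_GU_scalar hF (by omega) ((QuotientGroup.eq_one_iff _).mp h1)
  -- values
  have hMMd : ∀ s, 1 ≤ s → CfsgLib.PGUOrder.MM q s ≤ q ^ (s - 1) + 1 := fun s _ => CfsgLib.PGUOrder.MM_le hq2
  have hMMev : ∀ s, 2 ≤ s → Even s → CfsgLib.PGUOrder.MM q s = q ^ (s - 1) + 1 := fun s h1 h2 => by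
    rw [CfsgLib.PGUOrder.MM, if_neg (by omega), if_pos h2]
  have hMModd : ∀ s, 2 ≤ s → Odd s → CfsgLib.PGUOrder.MM q s = q ^ (s - 1) - 1 := fun s h1 h2 => by
    rw [CfsgLib.PGUOrder.MM, if_neg (by omega), if_neg (Nat.not_even_iff_odd.mpr h2)]
  -- reduction of the bound to three values of `j`
  have hred : ∀ T : ℕ, CfsgLib.PGUOrder.MM q d ≤ T → p * CfsgLib.PGUOrder.MM q (d - 1) ≤ T →
      p ^ Nat.clog p 3 * CfsgLib.PGUOrder.MM q (d - 2) ≤ T → q ^ (d - 1) - 1 ≤ T →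
      ∀ s j : ℕ, 1 ≤ s → s + j ≤ d → p ^ Nat.clog p (j + 1) * CfsgLib.PGUOrder.MM q s ≤ T := by
    intro T h0 h1 h2 h3 s j hs hsj
    have hmono := fun t (h : s ≤ t) => CfsgLib.PGUOrder.MM_mono hq2 h
    rcases (show j = 0 ∨ j = 1 ∨ j = 2 ∨ 3 ≤ j by omega) with rfl | rfl | rfl | hj
    · rw [CfsgLib.PGUOrder.clog_pow_one, one_mul]; exact (hmono d (by omega)).trans h0
    · exact (Nat.mul_le_mul (CfsgLib.PGUOrder.clog_pow_two hp2) (hmono (d - 1) (by omega))).trans h1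
    · exact (Nat.mul_le_mul le_rfl (hmono (d - 2) (by omega))).trans h2
    · refine (CfsgLib.PGUOrder.large_le hp2 hpq (by
        rcases hp2.lt_or_eq with h | h
        · exact Or.inr (by omega)
        · exact Or.inl h.symm) hs hj).trans (le_trans ?_ h3)
      have := Nat.pow_le_pow_right (show 0 < q by omega) (show s + j - 1 ≤ d - 1 by omega)
      omega
  have hpe3 : p ^ Nat.clog p 3 ≤ 2 * p := by
    have := CfsgLib.PGUOrder.clog_pow_le_mul hp2 (show 1 ≤ 2 by omega)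
    rwa [mul_comm p 2] at this
  have hd1 : q ^ (d - 1) = q * q ^ (d - 2) := by rw [← pow_succ']; congr 1; omega
  have hd2 : q ^ (d - 2) = q * q ^ (d - 3) := by rw [← pow_succ']; congr 1; omega
  have hx1 : 1 ≤ q ^ (d - 3) := Nat.one_le_pow _ _ (by omega)
  have hx2 : 4 ≤ d → q ≤ q ^ (d - 3) := fun h => Nat.le_self_pow (by omega) q
  refine ⟨fun hodd hf2 => ?_, fun hodd hf1 => ?_, fun hev hqg => ?_, fun hev hq2' => ?_⟩
  · have hpp : p * p ≤ q := by
      rw [hq, ← pow_two]; exact Nat.pow_le_pow_right (by omega) hf2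
    obtain ⟨c, rfl⟩ := hodd
    have hT := hup (q ^ (2 * c + 1 - 1) - 1) (hred _ ?_ ?_ ?_ le_rfl)
    · refine ⟨hT, ?_⟩
      have e : q ^ (2 * c + 1 - 1) - 1 = CfsgLib.PGUOrder.hh q (2 * c) * p ^ 0 := by
        rw [CfsgLib.PGUOrder.hh, if_pos (even_two_mul c), pow_zero, mul_one, Nat.add_sub_cancel]
      rw [e] at hT ⊢
      refine hlow (2 * c) 1 0 rfl (by omega) (Or.inr ?_) le_rfl (Or.inl rfl) hT
      rw [CfsgLib.PGUOrder.hh, if_pos (even_two_mul c)]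
      have h4 : q ^ (2 * c) = q * q ^ (2 * c - 1) := by rw [← pow_succ']; congr 1; omega
      have h5 : q ≤ q ^ (2 * c - 1) := Nat.le_self_pow (by omega) q
      have : 4 ≤ q := le_trans (Nat.mul_le_mul hp2 hp2) hpp
      have := Nat.mul_le_mul this (le_refl (q ^ (2 * c - 1)))
      omega
    · rw [hMModd _ (by omega) (odd_two_mul_add_one c)]
    · rw [hMMev _ (by omega) (by simp)]
      rw [hd1, hd2, show 2 * c + 1 - 1 - 1 = 2 * c + 1 - 2 by omega, hd2]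
      refine Nat.le_sub_of_add_le ?_
      nlinarith [Nat.mul_le_mul hpp (le_refl (q ^ (2 * c + 1 - 3))), hx1, hp2, hpq, hq2,
        Nat.mul_le_mul hq2 (le_refl (q * q ^ (2 * c + 1 - 3)))]
    · rcases Nat.lt_or_ge c 2 with hc | hc
      · obtain rfl : c = 1 := by omega
        refine (Nat.mul_le_mul hpe3 (le_of_eq (show CfsgLib.PGUOrder.MM q (2 * 1 + 1 - 2) = 1 from rfl))).trans ?_
        norm_num
        refine Nat.le_sub_of_add_le ?_
        nlinarith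
      · rw [hMModd _ (by omega) ⟨c - 1, by omega⟩, hd1, hd2, show 2 * c + 1 - 2 - 1 = 2 * c + 1 - 3 by omega]
        refine le_trans (Nat.mul_le_mul hpe3 le_rfl) ?_
        rw [Nat.mul_sub, mul_one]
        have := Nat.mul_le_mul (show 2 * p ≤ q * q by nlinarith) (le_refl (q ^ (2 * c + 1 - 3)))
        rw [← mul_assoc]
        omega
  · obtain rfl : p = q := by rw [hq, hf1, pow_one]
    obtain ⟨c, rfl⟩ := hodd
    have h3p : 2 * c + 1 = 3 → 3 ≤ p := fun h => by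
      by_contra hh'
      exact h32 ⟨h, by omega⟩
    have hT := hup ((p ^ (2 * c + 1 - 2) + 1) * p) (hred _ ?_ ?_ ?_ ?_)
    · refine ⟨hT, ?_⟩
      have ho : ¬ Even (2 * c + 1 - 2) := Nat.not_even_iff_odd.mpr ⟨c - 1, by omega⟩
      have e : (p ^ (2 * c + 1 - 2) + 1) * p = CfsgLib.PGUOrder.hh p (2 * c + 1 - 2) * p ^ 1 := by
        rw [CfsgLib.PGUOrder.hh, if_neg ho, pow_one]
      rw [e] at hT ⊢
      refine hlow (2 * c + 1 - 2) 2 1 (by omega) (by omega) ?_ (by omega) (Or.inr (by simp)) hT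
      rcases Nat.lt_or_ge c 2 with hc | hc
      · exact Or.inl (by omega)
      · right
        rw [CfsgLib.PGUOrder.hh, if_neg ho]
        have := Nat.pow_lt_pow_right (show 1 < p by omega) (show 2 * c + 1 - 2 - 1 < 2 * c + 1 - 2 by omega)
        omega
    · rw [hMModd _ (by omega) (odd_two_mul_add_one c), hd1, add_mul, one_mul]
      rw [mul_comm p]
      omega
    · rw [hMMev _ (by omega) (by simp), show 2 * c + 1 - 1 - 1 = 2 * c + 1 - 2 by omega, mul_comm]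
    · rcases Nat.lt_or_ge c 2 with hc | hc
      · obtain rfl : c = 1 := by omega
        refine (Nat.mul_le_mul (CfsgLib.PGUOrder.clog_pow_three (h3p rfl))
          (le_of_eq (show CfsgLib.PGUOrder.MM p (2 * 1 + 1 - 2) = 1 from rfl))).trans ?_
        nlinarith
      · rw [hMModd _ (by omega) ⟨c - 1, by omega⟩, hd2, show 2 * c + 1 - 2 - 1 = 2 * c + 1 - 3 by omega]
        refine le_trans (Nat.mul_le_mul hpe3 (Nat.sub_le _ _)) ?_
        nlinarith [Nat.mul_le_mul hp2 (le_refl (p * p ^ (2 * c + 1 - 3)))]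
    · rw [hd1, add_mul, one_mul, mul_comm p]
      omega
  · obtain ⟨c, rfl⟩ := hev
    have hT := hup (q ^ (c + c - 1) + 1) (hred _ ?_ ?_ ?_ (by omega))
    · refine ⟨hT, ?_⟩
      have ho : ¬ Even (c + c - 1) := Nat.not_even_iff_odd.mpr ⟨c - 1, by omega⟩
      have e : q ^ (c + c - 1) + 1 = CfsgLib.PGUOrder.hh q (c + c - 1) * p ^ 0 := by
        rw [CfsgLib.PGUOrder.hh, if_neg ho, pow_zero, mul_one]
      rw [e] at hT ⊢
      refine hlow (c + c - 1) 1 0 (by omega) (by omega) (Or.inr ?_) le_rfl (Or.inl rfl) hT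
      rw [CfsgLib.PGUOrder.hh, if_neg ho]
      have := Nat.pow_lt_pow_right (show 1 < q by omega) (show c + c - 1 - 1 < c + c - 1 by omega)
      omega
    · rw [hMMev _ (by omega) ⟨c, rfl⟩]
    · refine le_trans (Nat.mul_le_mul hpq (le_of_eq (hMModd _ (by omega) ⟨c - 1, by omega⟩))) ?_
      rw [hd1, show c + c - 1 - 1 = c + c - 2 by omega, Nat.mul_sub, mul_one]
      omega
    · rw [hMMev _ (by omega) ⟨c - 1, by omega⟩, hd1, hd2, show c + c - 2 - 1 = c + c - 3 by omega]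
      refine le_trans (Nat.mul_le_mul (hpe3.trans (Nat.mul_le_mul le_rfl hpq)) le_rfl) ?_
      have h4 : 2 ≤ q ^ (c + c - 3) := hq2.trans (hx2 (by omega))
      nlinarith [Nat.mul_le_mul (show 3 ≤ q from hqg) (le_refl (q * q ^ (c + c - 3))), Nat.mul_le_mul h4 (le_refl q)]
  · subst hq2'
    obtain rfl : p = 2 := by omega
    obtain ⟨c, rfl⟩ := hev
    have hT := hup (4 * (2 ^ (c + c - 3) + 1)) (hred _ ?_ ?_ ?_ ?_)
    · refine ⟨hT, ?_⟩
      have ho : ¬ Even (c + c - 3) := Nat.not_even_iff_odd.mpr ⟨c - 2, by omega⟩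
      have e : 4 * (2 ^ (c + c - 3) + 1) = CfsgLib.PGUOrder.hh 2 (c + c - 3) * 2 ^ 2 := by
        rw [CfsgLib.PGUOrder.hh, if_neg ho]; ring
      rw [e] at hT ⊢
      refine hlow (c + c - 3) 3 2 (by omega) (by omega) ?_ (by omega) (Or.inr (by norm_num)) hT
      rcases Nat.lt_or_ge c 3 with hc | hc
      · exact Or.inl (by omega)
      · right
        rw [CfsgLib.PGUOrder.hh, if_neg ho]
        have := Nat.pow_lt_pow_right (show 1 < 2 by omega) (show c + c - 3 - 1 < c + c - 3 by omega)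
        omega
    · rw [hMMev _ (by omega) ⟨c, rfl⟩, hd1, hd2]; omega
    · rw [hMModd _ (by omega) ⟨c - 1, by omega⟩, show c + c - 1 - 1 = c + c - 2 by omega, hd2]; omega
    · rw [hMMev _ (by omega) ⟨c - 1, by omega⟩, show c + c - 2 - 1 = c + c - 3 by omega,
        show 2 ^ Nat.clog 2 3 = 4 by decide]
    · rw [hd1, hd2]; omega

end Cfsg.Agent.S2263
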