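import Cfsg.Statements.S2264
import Cfsg.Agent.Lib.PSpOrder.Main

set_option autoImplicit false
open Cfsg

namespace Cfsg.Agent.S2264

/-- Let F be a finite field with q elements and m ≥ 2. Then every element g of PSp_2m(F) satisfies (q − 1)·|g| ≤ q^(m+1), i.e. has order at most q^(m+1)/(q − 1). -/
theorem result {F : Type*} [Field F] [Fintype F] (m : ℕ) (hm : 2 ≤ m) (g : Cfsg.PSp m F) :
    (Fintype.card F - 1) * orderOf g ≤ Fintype.card F ^ (m + 1) := by
  classical
  obtain ⟨⟨A, hA⟩, rfl⟩ := QuotientGroup.mk_surjective g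
  have hunit : IsUnit A := (Matrix.isUnit_iff_isUnit_det A).mpr (SymplecticGroup.symplectic_det hA)
  have hrev : A⁻¹.charpoly = A.charpoly := by
    let Ju : (Matrix (Fin m ⊕ Fin m) (Fin m ⊕ Fin m) F)ˣ :=
      ⟨Matrix.J (Fin m) F, -Matrix.J (Fin m) F,
        by rw [Matrix.mul_neg, Matrix.J_squared, neg_neg], by rw [Matrix.neg_mul, Matrix.J_squared, neg_neg]⟩
    rw [← SymplecticGroup.coe_inv' ⟨A, hA⟩, SymplecticGroup.coe_inv, ← Matrix.charpoly_transpose A]
    have h := Matrix.charpoly_units_conj' Ju A.transpose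
    rw [← Matrix.coe_units_inv] at h
    exact h
  obtain ⟨N, hN, ⟨c, hc⟩, hle⟩ := CfsgLib.PSpOrder.order_bound m hm
    (Or.inl (by rw [Fintype.card_sum, Fintype.card_fin]; ring)) A hunit hrev
  refine le_trans (Nat.mul_le_mul le_rfl (orderOf_le_of_pow_eq_one hN ?_)) hle
  rw [← QuotientGroup.mk_pow, QuotientGroup.eq_one_iff, Subgroup.mem_center_iff]
  intro h
  refine Subtype.ext ?_
  show (h : Matrix (Fin m ⊕ Fin m) (Fin m ⊕ Fin m) F) * A ^ N = A ^ N * h
  rw [hc, Matrix.mul_smul, Matrix.smul_mul, Matrix.mul_one, Matrix.one_mul]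

end Cfsg.Agent.S2264
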