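import Cfsg.Statements.S2265
import Cfsg.Agent.Lib.PSpOrder.Main
import Cfsg.Agent.Lib.StdQuadForms

set_option autoImplicit false
open Cfsg

namespace Cfsg.Agent.S2265

open QuadraticMap in
theorem bound {F : Type*} [Field F] [Fintype F] {ι : Type} [Fintype ι] [DecidableEq ι] (m : ℕ) (hm : 2 ≤ m)
    (hcard : Fintype.card ι = 2 * m ∨ (Fintype.card ι = 2 * m + 1 ∧ Odd (Fintype.card F) ∧ 3 ≤ m))
    (φ : (ι → F) → F) (Q : QuadraticForm F (ι → F)) (hφ : ∀ v, Q v = φ v)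
    (hQ : (polarBilin Q).Nondegenerate) (g : Cfsg.POmega F φ) :
    (Fintype.card F - 1) * orderOf g ≤ Fintype.card F ^ (m + 1) := by
  classical
  obtain ⟨⟨⟨A, hA⟩, hA'⟩, rfl⟩ := QuotientGroup.mk_surjective g
  have hpres : ∀ v, Q ((A : Matrix ι ι F).mulVec v) = Q v := fun v => by
    rw [hφ, hφ]
    exact hA v v
  set B := LinearMap.toMatrix₂' F (polarBilin Q) with hB
  have hBd : B.det ≠ 0 :=
    Matrix.nondegenerate_iff_det_ne_zero.mp (LinearMap.nondegenerate_toMatrix₂'_iff.mpr hQ)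
  have hAB : (A : Matrix ι ι F).transpose * B * (A : Matrix ι ι F) = B := by
    rw [hB, LinearMap.mul_toMatrix₂'_mul, Matrix.transpose_transpose]
    congr 1
    refine LinearMap.ext fun u => LinearMap.ext fun v => ?_
    simp only [LinearMap.compl₁₂_apply, Matrix.toLin'_apply, polarBilin_apply_apply, polar]
    rw [← Matrix.mulVec_add, hpres, hpres, hpres]
  let Bu := B.nonsingInvUnit (Ne.isUnit hBd)
  have hrev : (A : Matrix ι ι F)⁻¹.charpoly = (A : Matrix ι ι F).charpoly := by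
    have hinv : (A : Matrix ι ι F)⁻¹ = B⁻¹ * (A : Matrix ι ι F).transpose * B := by
      refine Matrix.inv_eq_left_inv ?_
      rw [mul_assoc, mul_assoc, ← mul_assoc (A : Matrix ι ι F).transpose, hAB, Matrix.nonsing_inv_mul _ (Ne.isUnit hBd)]
    rw [hinv, ← Matrix.charpoly_transpose (A : Matrix ι ι F)]
    exact Matrix.charpoly_units_conj' Bu _
  obtain ⟨N, hN, ⟨c, hc⟩, hle⟩ := CfsgLib.PSpOrder.order_bound m hm hcard (A : Matrix ι ι F) A.isUnit hrev
  refine le_trans (Nat.mul_le_mul le_rfl (orderOf_le_of_pow_eq_one hN ?_)) hle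
  rw [← QuotientGroup.mk_pow, QuotientGroup.eq_one_iff, Subgroup.mem_center_iff]
  intro h
  refine Subtype.ext (Subtype.ext (Units.ext ?_))
  show ((h.1.1 : GL ι F) : Matrix ι ι F) * (A ^ N : GL ι F) = (A ^ N : GL ι F) * ((h.1.1 : GL ι F) : Matrix ι ι F)
  rw [Units.val_pow_eq_pow_val, hc, Matrix.mul_smul, Matrix.smul_mul, Matrix.mul_one, Matrix.one_mul]

/-- Let F be a finite field with q elements. Every element g of PΩ_(2m+1)(F) (m ≥ 3, q odd), of PΩ⁺_2m(F) (m ≥ 4), or of PΩ⁻_2m(F) (m ≥ 4, the form having an anisotropic binary part) satisfies (q − 1)·|g| ≤ q^(m+1), i.e. has order at most q^(m+1)/(q − 1). -/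
theorem result {F : Type*} [Field F] [Fintype F] (m : ℕ) :
    (3 ≤ m → Odd (Fintype.card F) → ∀ g : Cfsg.POmega F (Cfsg.quadFormOdd m F),
      (Fintype.card F - 1) * orderOf g ≤ Fintype.card F ^ (m + 1)) ∧
    (4 ≤ m → ∀ g : Cfsg.POmega F (Cfsg.quadFormPlus m F),
      (Fintype.card F - 1) * orderOf g ≤ Fintype.card F ^ (m + 1)) ∧
    (4 ≤ m → ∀ a b : F, (∀ z₁ z₂ : F, z₁ ^ 2 + a * z₁ * z₂ + b * z₂ ^ 2 = 0 → z₁ = 0 ∧ z₂ = 0) →
      ∀ g : Cfsg.POmega F (Cfsg.quadFormMinus (m - 1) F a b),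
      (Fintype.card F - 1) * orderOf g ≤ Fintype.card F ^ (m + 1)) := by
  refine ⟨fun hm hodd g => ?_, fun hm g => ?_, fun hm a b hab g => ?_⟩
  · refine bound m (by omega) (Or.inr ⟨by simp [Fintype.card_sum]; omega, hodd, hm⟩) _
      (CfsgLib.StdQuadForms.Qo (F := F) m) (fun v => CfsgLib.StdQuadForms.Qo_apply m v)
      (CfsgLib.StdQuadForms.Qo_nondeg ?_ m) g
    intro h2
    have h := FiniteField.even_card_iff_char_two.mp (CharP.ringChar_of_prime_eq_zero Nat.prime_two (by exact_mod_cast h2))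
    rw [Nat.odd_iff] at hodd
    omega
  · exact bound m (by omega) (Or.inl (by simp [Fintype.card_sum]; omega)) _ (CfsgLib.Lagrangian.Qp m F)
      (fun v => CfsgLib.Lagrangian.Qp_apply v) CfsgLib.Lagrangian.Qp_nondeg g
  · exact bound m (by omega) (Or.inl (by simp [Fintype.card_sum]; omega)) _
      (CfsgLib.StdQuadForms.Qm (m - 1) a b) (fun v => CfsgLib.StdQuadForms.Qm_apply _ a b v)
      (CfsgLib.StdQuadForms.Qm_nondeg _ hab) g

end Cfsg.Agent.S2265
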