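import Cfsg.Statements.S2268
-- import your own Cfsg.Agent.* helpers here

set_option autoImplicit false
open Cfsg

namespace Cfsg.Agent.S2268

/-- Let G be a finite group with an abelian Sylow p-subgroup P and let Q ≤ P. Then N_G(Q) = (N_G(Q) ∩ N_G(P))·C_G(Q), so that N_G(Q)/C_G(Q) is a homomorphic image of the subgroup (N_G(Q) ∩ N_G(P))/C_G(P) of N_G(P)/C_G(P); in particular the order of N_G(Q)/C_G(Q) divides the order of N_G(P)/C_G(P). -/
theorem result {G : Type*} [Group G] [Finite G] {p : ℕ} [Fact p.Prime]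
    (P : Sylow p G) (hP : IsMulCommutative (P : Subgroup G)) (Q : Subgroup G) (hQ : Q ≤ (P : Subgroup G)) :
    Subgroup.normalizer (Q : Set G) =
      (Subgroup.normalizer (Q : Set G) ⊓ Subgroup.normalizer ((P : Subgroup G) : Set G)) ⊔ Subgroup.centralizer (Q : Set G) ∧
    ((Subgroup.centralizer (Q : Set G)).subgroupOf (Subgroup.normalizer (Q : Set G))).index ∣ ((Subgroup.centralizer ((P : Subgroup G) : Set G)).subgroupOf (Subgroup.normalizer ((P : Subgroup G) : Set G))).index := by
  classical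
  set NQ := Subgroup.normalizer (Q : Set G)
  set NP := Subgroup.normalizer ((P : Subgroup G) : Set G)
  set CQ := Subgroup.centralizer (Q : Set G)
  set CP := Subgroup.centralizer ((P : Subgroup G) : Set G)
  have hCQ : CQ ≤ NQ := Subgroup.centralizer_le_normalizer _
  have hPC : (P : Subgroup G) ≤ CQ := fun x hx => Subgroup.mem_centralizer_iff.mpr fun y hy =>
    congrArg Subtype.val (hP.is_comm.comm (⟨y, hQ hy⟩ : ↥(P : Subgroup G)) ⟨x, hx⟩)
  have heq : NQ = (NQ ⊓ NP) ⊔ CQ := by
    refine le_antisymm (fun g hg => ?_) (sup_le inf_le_left hCQ)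
    have hgC : ∀ x ∈ (P : Subgroup G), g * x * g⁻¹ ∈ CQ := by
      intro x hx
      rw [Subgroup.mem_centralizer_iff]
      intro y hy
      have hy' : g⁻¹ * y * g ∈ Q := (Subgroup.mem_normalizer_iff'' .. |>.mp hg y).mp hy
      have h := Subgroup.mem_centralizer_iff.mp (hPC hx) _ hy'
      calc y * (g * x * g⁻¹) = g * (g⁻¹ * y * g * x) * g⁻¹ := by group
        _ = g * x * g⁻¹ * y := by rw [h]; group
    let P' := g • P
    have hP' : (P' : Subgroup G) ≤ CQ := by
      intro x hx
      rw [Sylow.coe_subgroup_smul, ← SetLike.mem_coe, Subgroup.coe_pointwise_smul,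
        Set.mem_smul_set] at hx
      obtain ⟨y, hy, rfl⟩ := hx
      exact hgC y hy
    obtain ⟨c, hc⟩ := MulAction.exists_smul_eq ↥CQ (P'.subtype hP') (P.subtype hPC)
    have hc' : (c : G) • P' = P := Sylow.subtype_injective (by
      rw [Sylow.smul_subtype hP' c] at hc; exact hc)
    have hn : (c : G) * g ∈ NP := by
      rw [smul_smul] at hc'
      exact Sylow.smul_eq_iff_mem_normalizer.mp hc'
    rw [show g = (c : G)⁻¹ * ((c : G) * g) by group]
    exact mul_mem (Subgroup.mem_sup_right (inv_mem c.2))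
      (Subgroup.mem_sup_left ⟨mul_mem (hCQ c.2) hg, hn⟩)
  refine ⟨heq, ?_⟩
  show CQ.relIndex NQ ∣ CP.relIndex NP
  have hn : (CQ.subgroupOf NQ).Normal := Subgroup.normal_subgroupOf_centralizer_normalizer _
  have h1 : CQ.relIndex NQ = CQ.relIndex (NQ ⊓ NP) := by
    have e := Subgroup.relIndex_sup_right (H := (NQ ⊓ NP).subgroupOf NQ) (K := CQ.subgroupOf NQ)
    rw [← Subgroup.subgroupOf_sup inf_le_left hCQ, ← heq, Subgroup.relIndex_subgroupOf le_rfl,
      Subgroup.relIndex_subgroupOf inf_le_left] at e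
    exact e
  rw [h1]
  have hCPQ : CP ≤ CQ := Subgroup.centralizer_le hQ
  have hCPM : CP ≤ NQ ⊓ NP :=
    le_inf (hCPQ.trans hCQ) (Subgroup.centralizer_le_normalizer _)
  exact (Subgroup.relIndex_dvd_of_le_left _ hCPQ).trans
    ⟨_, (Subgroup.relIndex_mul_relIndex CP (NQ ⊓ NP) NP hCPM inf_le_right).symm⟩

end Cfsg.Agent.S2268
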