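import Cfsg.Statements.S2270


set_option autoImplicit false
open Cfsg

namespace Cfsg.Agent.S2270

/-- Let n ≥ 3, p an odd prime, and P an abelian Sylow p-subgroup of the symmetric group S_n (with p dividing n!, so that P ≠ 1). Then N(P)/C(P) has even order. -/
theorem result (n : ℕ) (hn : 3 ≤ n) {p : ℕ} [Fact p.Prime] (hp : p ≠ 2) (hpn : p ≤ n)
    (P : Sylow p (Equiv.Perm (Fin n))) (hP : IsMulCommutative (P : Subgroup (Equiv.Perm (Fin n)))) :
    2 ∣ ((Subgroup.centralizer ((P : Subgroup (Equiv.Perm (Fin n))) : Set (Equiv.Perm (Fin n)))).subgroupOf (Subgroup.normalizer ((P : Subgroup (Equiv.Perm (Fin n))) : Set (Equiv.Perm (Fin n))))).index := by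
  classical
  have hp' := (Fact.out : p.Prime)
  obtain ⟨x, hxP, hx1⟩ : ∃ x ∈ (P : Subgroup (Equiv.Perm (Fin n))), x ≠ 1 := by
    by_contra h
    push_neg at h
    have hbot : (P : Subgroup (Equiv.Perm (Fin n))) = ⊥ := (Subgroup.eq_bot_iff_forall _).mpr h
    have hd : p ∣ Nat.card (Equiv.Perm (Fin n)) := by
      rw [Nat.card_perm, Nat.card_eq_fintype_card, Fintype.card_fin]
      exact (hp'.dvd_factorial).mpr hpn
    exact P.ne_bot_of_dvd_card hd hbot
  haveI := hP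
  obtain ⟨g, hg⟩ := isConj_iff.mp ((Equiv.Perm.isConj_iff_cycleType_eq (σ := x) (τ := x⁻¹)).mpr
    (Equiv.Perm.cycleType_inv x).symm)
  obtain ⟨y, hy, hyx⟩ := Sylow.conj_eq_normalizer_conj_of_mem P x g⁻¹ hxP
    (by rw [inv_inv, hg]; exact inv_mem hxP)
  rw [inv_inv, hg] at hyx
  set N := Subgroup.normalizer ((P : Subgroup (Equiv.Perm (Fin n))) : Set (Equiv.Perm (Fin n)))
  set C := Subgroup.centralizer ((P : Subgroup (Equiv.Perm (Fin n))) : Set (Equiv.Perm (Fin n)))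
  haveI : (C.subgroupOf N).Normal := by
    refine ⟨fun c hc z => ?_⟩
    rw [Subgroup.mem_subgroupOf, Subgroup.mem_centralizer_iff] at hc ⊢
    intro a ha
    have hz : (z : Equiv.Perm (Fin n))⁻¹ * a * z ∈ (P : Subgroup (Equiv.Perm (Fin n))) :=
      (Subgroup.mem_normalizer_iff'.mp z.2 _).mpr (by simp [mul_assoc]; exact ha)
    have h := hc _ hz
    simp only [Subgroup.coe_mul, Subgroup.coe_inv]
    calc a * (↑z * ↑c * (↑z)⁻¹) = ↑z * ((↑z)⁻¹ * a * ↑z * ↑c) * (↑z)⁻¹ := by group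
      _ = ↑z * (↑c * ((↑z)⁻¹ * a * ↑z)) * (↑z)⁻¹ := by rw [h]
      _ = ↑z * ↑c * (↑z)⁻¹ * a := by group
  by_contra hodd
  have hm : Odd (C.subgroupOf N).index := Nat.not_even_iff_odd.mp fun h => hodd (even_iff_two_dvd.mp h)
  have hmem := Subgroup.pow_index_mem (C.subgroupOf N) (⟨y, hy⟩ : N)
  rw [Subgroup.mem_subgroupOf, Subgroup.mem_centralizer_iff] at hmem
  have hcomm := hmem x hxP
  simp only [Subgroup.coe_pow] at hcomm
  have hiter : ∀ j : ℕ, x * y ^ j = y ^ j * x ^ ((-1 : ℤ) ^ j) := by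
    intro j
    induction j with
    | zero => simp
    | succ j ih =>
      have hxy : x * y = y * x⁻¹ := by rw [hyx]; group
      have hz : ∀ i : ℤ, x ^ i * y = y * x ^ (-i) := by
        intro i
        have : y⁻¹ * x ^ i * y = x ^ (-i) := by
          have h' : (y⁻¹ * x * y) ^ i = y⁻¹ * x ^ i * y := by
            have := map_zpow (MulAut.conj y⁻¹) x i
            simpa using this.symm
          rw [← h', ← hyx, inv_zpow']
        rw [← this]; group
      rw [pow_succ, ← mul_assoc, ih, mul_assoc, hz, ← mul_assoc, pow_succ (-1 : ℤ)]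
      simp
  rw [hiter, hm.neg_one_pow, zpow_neg_one] at hcomm
  have hinv : x⁻¹ = x := mul_left_cancel hcomm
  have h2 : x ^ 2 = 1 := by rw [pow_two]; nth_rw 2 [← hinv]; simp
  obtain ⟨k, hk⟩ := P.isPGroup' ⟨x, hxP⟩
  have hk' : x ^ (p ^ k) = 1 := by simpa using congrArg Subtype.val hk
  have h3 := Nat.dvd_gcd (orderOf_dvd_of_pow_eq_one h2) (orderOf_dvd_of_pow_eq_one hk')
  have hco : Nat.gcd 2 (p ^ k) = 1 := Nat.Coprime.pow_right _ ((Nat.coprime_primes Nat.prime_two hp').mpr (Ne.symm hp))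
  rw [hco, Nat.dvd_one, orderOf_eq_one_iff] at h3
  exact hx1 h3

end Cfsg.Agent.S2270
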