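import Cfsg.Statements.S2272

-- import your own Cfsg.Agent.* helpers here

set_option autoImplicit false
open Cfsg

namespace Cfsg.Agent.S2272

open Matrix

theorem exists_basis_pair {F : Type*} [Field F] {d : ℕ} (i j : Fin d) (hij : i ≠ j)
    (v w : Fin d → F) (h : LinearIndependent F ![v, w]) :
    ∃ b : Module.Basis (Fin d) F (Fin d → F), b i = v ∧ b j = w := by
  classical
  have hs : LinearIndepOn F id (Set.range ![v, w]) := h.linearIndepOn_id
  set b0 := Module.Basis.extend hs with hb0
  haveI : Fintype ↑(hs.extend (Set.subset_univ _)) := FiniteDimensional.fintypeBasisIndex b0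
  have hc : Fintype.card ↑(hs.extend (Set.subset_univ _)) = Fintype.card (Fin d) := by
    rw [← Module.finrank_eq_card_basis b0, Module.finrank_fin_fun, Fintype.card_fin]
  have hv : v ∈ hs.extend (Set.subset_univ _) := hs.subset_extend _ ⟨0, rfl⟩
  have hw : w ∈ hs.extend (Set.subset_univ _) := hs.subset_extend _ ⟨1, rfl⟩
  have hvw : v ≠ w := fun e => absurd (h.injective (show ![v, w] 0 = ![v, w] 1 from e)) (by decide)
  set e0 := Fintype.equivOfCardEq hc with he0
  set p0 := e0 ⟨v, hv⟩
  set e1 := e0.trans (Equiv.swap p0 i) with he1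
  have h1 : e1 ⟨v, hv⟩ = i := by simp [he1, p0]
  set p1 := e1 ⟨w, hw⟩
  have hp1 : p1 ≠ i := fun e => hvw (congrArg Subtype.val (e1.injective (h1.trans e.symm)))
  set e2 := e1.trans (Equiv.swap p1 j) with he2
  have h2 : e2 ⟨v, hv⟩ = i := by
    rw [he2, Equiv.trans_apply, h1, Equiv.swap_apply_of_ne_of_ne hp1.symm hij]
  have h3 : e2 ⟨w, hw⟩ = j := by simp [he2, p1]
  refine ⟨b0.reindex e2, ?_, ?_⟩
  · rw [Module.Basis.reindex_apply, ← h2, Equiv.symm_apply_apply, hb0, Module.Basis.extend_apply_self]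
  · rw [Module.Basis.reindex_apply, ← h3, Equiv.symm_apply_apply, hb0, Module.Basis.extend_apply_self]

theorem exists_normal_form {F : Type*} [Field F] {d : ℕ} (i k j : Fin d) (hij : i ≠ j) (hki : k ≠ i)
    (hkj : k ≠ j) (A : SpecialLinearGroup (Fin d) F) (hA : A ∉ Subgroup.center (SpecialLinearGroup (Fin d) F)) :
    ∃ g : SpecialLinearGroup (Fin d) F, ∀ l, (g * A * g⁻¹).1 l i = if l = j then 1 else 0 := by
  classical
  obtain ⟨v, hv⟩ : ∃ v : Fin d → F, LinearIndependent F ![v, A.1 *ᵥ v] := by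
    by_contra hno
    simp only [not_exists] at hno
    apply hA
    have hdep : ∀ v : Fin d → F, ∃ c : F, A.1 *ᵥ v = c • v := fun v => by
      rcases eq_or_ne v 0 with rfl | hv0
      · exact ⟨0, by simp⟩
      · have := hno v
        rw [LinearIndependent.pair_iff' hv0, not_forall_not] at this
        obtain ⟨c, hc⟩ := this
        exact ⟨c, hc.symm⟩
    have hoff : ∀ a b : Fin d, a ≠ b → A.1 a b = 0 := fun a b hab => by
      obtain ⟨c, hc⟩ := hdep (Pi.single b 1)
      have := congrFun hc a
      simpa [hab] using this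
    have hdiag : ∀ a b : Fin d, A.1 a a = A.1 b b := fun a b => by
      rcases eq_or_ne a b with rfl | hab
      · rfl
      obtain ⟨c, hc⟩ := hdep (Pi.single a 1 + Pi.single b 1)
      have ha := congrFun hc a
      have hb := congrFun hc b
      simp [Matrix.mulVec_add, hab, hab.symm, hoff a b hab, hoff b a hab.symm] at ha hb
      rw [ha, hb]
    rw [Matrix.SpecialLinearGroup.mem_center_iff]
    refine ⟨A.1 i i, ?_, ?_⟩
    · have e : A.1 = Matrix.diagonal fun _ => A.1 i i := by
        ext a b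
        rcases eq_or_ne a b with rfl | hab
        · rw [diagonal_apply_eq, hdiag a i]
        · rw [diagonal_apply_ne _ hab, hoff a b hab]
      have := A.2
      rw [e] at this
      simpa using this
    · ext a b
      rcases eq_or_ne a b with rfl | hab
      · simp [hdiag a i]
      · simp [hab, hoff a b hab]
  obtain ⟨b, hbi, hbj⟩ := exists_basis_pair i j hij _ _ hv
  set P : Matrix (Fin d) (Fin d) F := (Pi.basisFun F (Fin d)).toMatrix b with hP
  have hcol : ∀ l, P *ᵥ Pi.single l 1 = b l := fun l => by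
    funext a
    simp [hP, Module.Basis.toMatrix_apply]
  have hdet : P.det ≠ 0 := by
    haveI := (Pi.basisFun F (Fin d)).invertibleToMatrix b
    exact (Matrix.isUnit_iff_isUnit_det _).1 (isUnit_of_invertible P) |>.ne_zero
  set D : Matrix (Fin d) (Fin d) F := Matrix.diagonal (Function.update 1 k P.det⁻¹) with hD
  have hdetD : (P * D).det = 1 := by
    rw [det_mul, hD, det_diagonal, Finset.prod_eq_single k (fun l _ hl => by simp [hl]) (by simp),
      Function.update_self, mul_inv_cancel₀ hdet]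
  let T : SpecialLinearGroup (Fin d) F := ⟨P * D, hdetD⟩
  have hT : ∀ l, l ≠ k → T.1 *ᵥ Pi.single l 1 = b l := fun l hl => by
    show (P * D) *ᵥ _ = _
    rw [← mulVec_mulVec, hD, diagonal_mulVec_single, Function.update_of_ne hl, Pi.one_apply, one_mul, hcol]
  refine ⟨T⁻¹, fun l => ?_⟩
  have h1 : (T⁻¹ * A * T⁻¹⁻¹).1 *ᵥ Pi.single i 1 = Pi.single j 1 := by
    rw [inv_inv]
    show ((T⁻¹).1 * A.1 * T.1) *ᵥ Pi.single i (1 : F) = _
    rw [← mulVec_mulVec, ← mulVec_mulVec, hT i hki.symm, hbi, ← hbj, ← hT j hkj.symm, mulVec_mulVec,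
      show (T⁻¹).1 * T.1 = 1 from congrArg Subtype.val (inv_mul_cancel T), one_mulVec]
  rw [mulVec_single_one] at h1
  have h2 := congrFun h1 l
  rw [Matrix.col_apply] at h2
  rw [h2]
  simp [Pi.single_apply]

/-- The transvection in the special linear group. -/
def tv {F : Type*} [Field F] {d : ℕ} (i j : Fin d) (h : i ≠ j) (s : F) : SpecialLinearGroup (Fin d) F :=
  ⟨Matrix.transvection i j s, det_transvection_of_ne i j h s⟩

theorem tv_inv {F : Type*} [Field F] {d : ℕ} (i j : Fin d) (h : i ≠ j) (s : F) :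
    (tv i j h s)⁻¹ = tv i j h (-s) :=
  inv_eq_of_mul_eq_one_right (Subtype.ext (by
    show Matrix.transvection i j s * Matrix.transvection i j (-s) = 1
    rw [transvection_mul_transvection_same i j h, add_neg_cancel, transvection_zero]))

/-- Let F be a finite field and d ≥ 3, and let a, b be non-identity elements of PSL_d(F). Then the product of the conjugacy classes of a and b is not a single conjugacy class: there are conjugates a′ of a and b′ of b such that a′b′ is not conjugate to ab. -/
theorem result {F : Type*} [Field F] [Fintype F] (d : ℕ) (hd : 3 ≤ d)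
    (a b : Matrix.ProjectiveSpecialLinearGroup (Fin d) F) (ha : a ≠ 1) (hb : b ≠ 1) :
    ∃ g h : Matrix.ProjectiveSpecialLinearGroup (Fin d) F, ¬ IsConj (a * b) (g * a * g⁻¹ * (h * b * h⁻¹)) := by
  classical
  obtain ⟨A, rfl⟩ := QuotientGroup.mk_surjective a
  obtain ⟨B, rfl⟩ := QuotientGroup.mk_surjective b
  have hA : A ∉ Subgroup.center (Matrix.SpecialLinearGroup (Fin d) F) := fun h => ha ((QuotientGroup.eq_one_iff A).2 h)
  have hB : B ∉ Subgroup.center (Matrix.SpecialLinearGroup (Fin d) F) := fun h => hb ((QuotientGroup.eq_one_iff B).2 h)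
  by_contra hno
  simp only [not_exists, not_not] at hno
  set t := (A * B).1.trace with ht
  have htr : ∀ g h : Matrix.SpecialLinearGroup (Fin d) F,
      ∃ c : F, c ≠ 0 ∧ (g * A * g⁻¹ * (h * B * h⁻¹)).1.trace = c * t := by
    intro g h
    obtain ⟨k, hk⟩ := _root_.isConj_iff.1 (hno (g : Matrix.ProjectiveSpecialLinearGroup (Fin d) F) h)
    obtain ⟨k, rfl⟩ := QuotientGroup.mk_surjective k
    simp only [← QuotientGroup.mk_mul, ← QuotientGroup.mk_inv] at hk
    obtain ⟨z, hz, hzz⟩ : ∃ z ∈ Subgroup.center (Matrix.SpecialLinearGroup (Fin d) F),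
        g * A * g⁻¹ * (h * B * h⁻¹) = k * (A * B) * k⁻¹ * z :=
      ⟨_, QuotientGroup.eq.1 hk, by group⟩
    obtain ⟨c, hc, hcz⟩ := Matrix.SpecialLinearGroup.mem_center_iff.1 hz
    refine ⟨c, fun h0 => ?_, ?_⟩
    · rw [h0, zero_pow (by simp; omega)] at hc
      exact zero_ne_one hc
    · rw [hzz, Matrix.SpecialLinearGroup.coe_mul, ← hcz,
        ((Matrix.scalar_commute c (fun _ => Commute.all _ _) _).eq).symm,
        show Matrix.scalar (Fin d) c = c • (1 : Matrix (Fin d) (Fin d) F) by
          rw [Matrix.smul_one_eq_diagonal]; rfl,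
        smul_mul_assoc, one_mul, Matrix.trace_smul, smul_eq_mul, Matrix.SpecialLinearGroup.coe_mul,
        Matrix.SpecialLinearGroup.coe_mul, Matrix.trace_mul_comm, ← Matrix.mul_assoc,
        ← Matrix.SpecialLinearGroup.coe_mul k⁻¹ k, inv_mul_cancel, Matrix.SpecialLinearGroup.coe_one, one_mul]
  set i : Fin d := ⟨0, by omega⟩
  set k : Fin d := ⟨1, by omega⟩
  set j : Fin d := ⟨2, by omega⟩
  have hij : i ≠ j := by simp [i, j]
  have hki : k ≠ i := by simp [i, k]
  have hkj : k ≠ j := by simp [k, j]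
  obtain ⟨g₀, hg₀⟩ := exists_normal_form i k j hij hki hkj A hA
  obtain ⟨h₀, hh₀⟩ := exists_normal_form i j k hki.symm hij.symm hkj.symm B hB
  have hkey : ∀ g : Matrix.SpecialLinearGroup (Fin d) F, (∀ l, (g * A * g⁻¹).1 l i = if l = j then 1 else 0) →
      (h₀ * B * h₀⁻¹).1 j j = (g * A * g⁻¹).1 j k := by
    intro g hg
    set M := (g * A * g⁻¹).1 with hM
    set N := (h₀ * B * h₀⁻¹).1 with hN
    have hlin : ∀ s : F, ∃ c : F, c ≠ 0 ∧ (M * N).trace + s * (N j j - M j k) = c * t := by
      intro s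
      obtain ⟨c, hc0, hc⟩ := htr g (tv i j hij s * h₀)
      refine ⟨c, hc0, ?_⟩
      rw [← hc, show g * A * g⁻¹ * (tv i j hij s * h₀ * B * (tv i j hij s * h₀)⁻¹) =
        g * A * g⁻¹ * (tv i j hij s * (h₀ * B * h₀⁻¹) * (tv i j hij s)⁻¹) by group, tv_inv]
      show _ = (M * (Matrix.transvection i j s * N * Matrix.transvection i j (-s))).trace
      have e0 : N j i = 0 := by rw [hh₀]; simp [hkj.symm]
      have e1 : (N * M) j i = N j j := by
        rw [Matrix.mul_apply, Finset.sum_eq_single j (fun l _ hl => by rw [hg, if_neg hl, mul_zero]) (by simp),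
          hg, if_pos rfl, mul_one]
      have e2 : (M * N) j i = M j k := by
        rw [Matrix.mul_apply, Finset.sum_eq_single k (fun l _ hl => by rw [hh₀, if_neg hl, mul_zero]) (by simp),
          hh₀, if_pos rfl, mul_one]
      have e3 : Matrix.single i j s * N * Matrix.single i j (-s) = 0 := by
        ext a b
        simp [Matrix.mul_apply, Matrix.single_apply, Finset.sum_mul, e0, ite_and]
      have e4 : (Matrix.single i j s * N * M).trace = s * N j j := by
        rw [Matrix.mul_assoc, Matrix.trace_single_mul, e1, smul_eq_mul]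
      have e5 : (M * N * Matrix.single i j (-s)).trace = -(s * M j k) := by
        rw [Matrix.trace_mul_comm, Matrix.trace_single_mul, e2, smul_eq_mul]
        exact neg_mul s _
      simp only [Matrix.transvection, add_mul, mul_add, one_mul, mul_one, e3, add_zero]
      rw [Matrix.trace_add, Matrix.trace_add, ← Matrix.mul_assoc M N, e5,
        Matrix.trace_mul_comm M (Matrix.single i j s * N), e4]
      ring
    by_contra hne
    have hne' := sub_ne_zero.2 hne
    obtain ⟨c, hc0, hc⟩ := hlin (-(M * N).trace / (N j j - M j k))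
    rw [div_mul_cancel₀ _ hne', add_neg_cancel] at hc
    have ht0 : t = 0 := (mul_eq_zero.1 hc.symm).resolve_left hc0
    obtain ⟨c₀, -, h0⟩ := hlin 0
    obtain ⟨c₁, -, h1⟩ := hlin 1
    rw [ht0, mul_zero] at h0 h1
    exact hne' (by linear_combination h1 - h0)
  have h1 := hkey g₀ hg₀
  have hu : ∀ l, ((tv i k hki.symm 1 * g₀) * A * (tv i k hki.symm 1 * g₀)⁻¹).1 l i = if l = j then 1 else 0 := by
    intro l
    rw [show tv i k hki.symm 1 * g₀ * A * (tv i k hki.symm 1 * g₀)⁻¹ =
      tv i k hki.symm 1 * (g₀ * A * g₀⁻¹) * (tv i k hki.symm 1)⁻¹ by group, tv_inv]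
    show (Matrix.transvection i k (1 : F) * ((g₀ * A * g₀⁻¹).1 : Matrix (Fin d) (Fin d) F) * Matrix.transvection i k (-1 : F) : Matrix (Fin d) (Fin d) F) l i = _
    rw [Matrix.mul_transvection_apply_of_ne _ _ _ _ hki.symm]
    rcases eq_or_ne l i with rfl | hl
    · rw [Matrix.transvection_mul_apply_same, hg₀, hg₀]
      simp [hij, hkj]
    · rw [Matrix.transvection_mul_apply_of_ne _ _ _ _ hl, hg₀]
  have h2 := hkey _ hu
  rw [show tv i k hki.symm 1 * g₀ * A * (tv i k hki.symm 1 * g₀)⁻¹ =
      tv i k hki.symm 1 * (g₀ * A * g₀⁻¹) * (tv i k hki.symm 1)⁻¹ by group, tv_inv] at h2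
  change _ = (Matrix.transvection i k (1 : F) * ((g₀ * A * g₀⁻¹).1 : Matrix (Fin d) (Fin d) F) * Matrix.transvection i k (-1 : F) : Matrix (Fin d) (Fin d) F) j k at h2
  rw [Matrix.mul_transvection_apply_same, Matrix.transvection_mul_apply_of_ne _ _ _ _ hij.symm,
    Matrix.transvection_mul_apply_of_ne _ _ _ _ hij.symm, hg₀, if_pos rfl, ← h1] at h2
  exact one_ne_zero (α := F) (by linear_combination h2)

end Cfsg.Agent.S2272
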