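import Cfsg.Statements.S2276
import Cfsg.Agent.Lib.AltPair.Six

set_option autoImplicit false
open Cfsg

namespace Cfsg.Agent.S2276

/-- Let n ≥ 5, p ≥ 3 a prime, and u, w non-identity elements of p-power order in the alternating group A_n. Then there is g ∈ A_n such that u·(g w g⁻¹) does not have p-power order and ⟨u, g w g⁻¹⟩ is not solvable. -/
theorem result (n : ℕ) (hn : 5 ≤ n) (p : ℕ) (hp : p.Prime) (hp3 : 3 ≤ p) (u w : alternatingGroup (Fin n)) (hu : u ≠ 1) (hw : w ≠ 1)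
    (hu' : ∃ k : ℕ, orderOf u = p ^ k) (hw' : ∃ k : ℕ, orderOf w = p ^ k) :
    ∃ g : alternatingGroup (Fin n), (¬ ∃ k : ℕ, orderOf (u * (g * w * g⁻¹)) = p ^ k) ∧
      ¬ Group.IsSolvable ↥(Subgroup.closure ({u, g * w * g⁻¹} : Set (alternatingGroup (Fin n)))) := by
  obtain ⟨k, hk⟩ := hu'
  obtain ⟨l, hl⟩ := hw'
  have hu1 : (u : Equiv.Perm (Fin n)) ≠ 1 := fun e => hu (Subtype.ext e)
  have hw1 : (w : Equiv.Perm (Fin n)) ≠ 1 := fun e => hw (Subtype.ext e)
  obtain ⟨g, hg, hP, hS⟩ := CfsgLib.AltPair.exists_good (p := p) hn hp hp3 (u := (u : Equiv.Perm (Fin n)))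
    (w := (w : Equiv.Perm (Fin n))) ⟨k, congrArg Subtype.val (hk ▸ pow_orderOf_eq_one u : u ^ p ^ k = 1)⟩
    ⟨l, congrArg Subtype.val (hl ▸ pow_orderOf_eq_one w : w ^ p ^ l = 1)⟩ hu1 hw1
  refine ⟨⟨g, hg⟩, fun ⟨m, hm⟩ => hP ⟨m, ?_⟩, fun hs => hS ?_⟩
  · have hpow := pow_orderOf_eq_one (u * (⟨g, hg⟩ * w * (⟨g, hg⟩ : alternatingGroup (Fin n))⁻¹))
    rw [hm] at hpow
    have := congrArg (Subgroup.subtype (alternatingGroup (Fin n))) hpow
    rw [map_pow, map_mul, map_mul, map_mul, map_inv, map_one] at this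
    exact this
  · have e : Subgroup.closure ({(u : Equiv.Perm (Fin n)), g * (w : Equiv.Perm (Fin n)) * g⁻¹} : Set (Equiv.Perm (Fin n))) =
        (Subgroup.closure ({u, ⟨g, hg⟩ * w * (⟨g, hg⟩ : alternatingGroup (Fin n))⁻¹} : Set (alternatingGroup (Fin n)))).map
          (alternatingGroup (Fin n)).subtype := by
      rw [MonoidHom.map_closure, Set.image_insert_eq, Set.image_singleton]
      rfl
    rw [e]
    haveI := hs
    exact Group.isSolvable_of_surjective (MonoidHom.subgroupMap_surjective (alternatingGroup (Fin n)).subtype _)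

end Cfsg.Agent.S2276
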