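import Cfsg.Statements.S2283
import Cfsg.Agent.Lib.UnitReg.TwoSmall

set_option autoImplicit false
open Cfsg

namespace Cfsg.Agent.S2283

local instance factFive : Fact (Nat.Prime 5) := ⟨by norm_num⟩

local instance factEleven : Fact (Nat.Prime 11) := ⟨by norm_num⟩

/-- Let F be a field with q² elements, q ≥ 3, and SU_3(q) the special unitary group of the standard Hermitian form. Then SU_3(q) is generated by two conjugate regular unipotent elements: there are u ∈ SU_3(q) with u − 1 nilpotent and (u − 1)² ≠ 0, and g ∈ SU_3(q), such that u and g u g⁻¹ generate SU_3(q). -/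
theorem result {F : Type*} [Field F] [Fintype F] (q : ℕ) (hq : 3 ≤ q) (hF : Fintype.card F = q ^ 2) :
    ∃ u g : ↥(Cfsg.SU 3 F q), (IsNilpotent (((u : Matrix.SpecialLinearGroup (Fin 3) F) : Matrix (Fin 3) (Fin 3) F) - 1) ∧ (((u : Matrix.SpecialLinearGroup (Fin 3) F) : Matrix (Fin 3) (Fin 3) F) - 1) ^ (3 - 1) ≠ 0) ∧
      Subgroup.closure ({u, g * u * g⁻¹} : Set ↥(Cfsg.SU 3 F q)) = ⊤ := by
  obtain ⟨u, g, ⟨h1, h2⟩, h3⟩ : ∃ u g : Cfsg.SU 3 F q, ((CfsgLib.UnitarySimple.mat u - 1) ^ 3 = 0 ∧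
      (CfsgLib.UnitarySimple.mat u - 1) ^ 2 ≠ 0) ∧
        Subgroup.closure ({u, g * u * g⁻¹} : Set (Cfsg.SU 3 F q)) = ⊤ := by
    by_cases h3 : q = 3
    · haveI : CharP F 3 := CfsgLib.UnitReg.charP_of_card hF (k := 1) (by norm_num) (by simpa using h3)
      exact CfsgLib.UnitReg.two_prime hF (p := 3) rfl h3 (by norm_num) 2 1 2 2 (by decide) (by decide) (by decide)
        ⟨(0, 1), (0, 2), (2, 2), (0, 2), (0, 2), (2, 2), (0, 2), (2, 2), (2, 0), (2, 1),
          [.v, .u, .V, .U, .v, .u, .V, .u, .V]⟩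
        (by constructor <;> decide)
    by_cases h5 : q = 5
    · haveI : CharP F 5 := CfsgLib.UnitReg.charP_of_card hF (k := 1) (by norm_num) (by simpa using h5)
      exact CfsgLib.UnitReg.two_prime hF (p := 5) rfl h5 (by norm_num) 2 1 3 3 (by decide) (by decide) (by decide)
        ⟨(0, 1), (3, 3), (0, 4), (3, 1), (0, 3), (4, 4), (3, 1), (3, 1), (1, 0), (3, 1),
          [.v, .U, .V, .V, .u, .v, .v, .u, .V]⟩
        (by constructor <;> decide)
    by_cases h11 : q = 11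
    · haveI : CharP F 11 := CfsgLib.UnitReg.charP_of_card hF (k := 1) (by norm_num) (by simpa using h11)
      exact CfsgLib.UnitReg.two_prime hF (p := 11) rfl h11 (by norm_num) 2 4 8 6 (by decide) (by decide) (by decide)
        ⟨(6, 6), (5, 6), (8, 6), (5, 6), (5, 5), (5, 9), (3, 7), (3, 7), (4, 5), (7, 9),
          [.V, .U, .v, .u, .V, .V, .u, .v]⟩
        (by constructor <;> decide)
    by_cases h8 : q = 8
    · exact CfsgLib.UnitReg.two_eight hF rfl h8
    exact CfsgLib.UnitReg.two_generate hF rfl hq ⟨h3, h5, h8, h11⟩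
  exact ⟨u, g, ⟨⟨3, h1⟩, h2⟩, h3⟩

end Cfsg.Agent.S2283
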