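import Cfsg.Statements.S2288
import Cfsg.Agent.Lib.SLShort.Counts
import Cfsg.Agent.Lib.SLShort.Shrink

set_option autoImplicit false
open Cfsg

namespace Cfsg.Agent.S2288

/-- For every finite field F and n ≥ 4: SL_n(F) has a presentation with 7 generators and at most 25 relations, and PSL_n(F) one with 7 generators and at most 26 relations; moreover SL_4(F) has one with 6 generators and at most 21 relations and SL_5(F) one with 6 generators and at most 22 relations. -/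
theorem result {F : Type*} [Field F] [Fintype F] (n : ℕ) (hn : 4 ≤ n) :
    (∃ rels : Finset (FreeGroup (Fin 7)), rels.card ≤ 25 ∧ Nonempty (PresentedGroup (↑rels : Set (FreeGroup (Fin 7))) ≃* Matrix.SpecialLinearGroup (Fin n) F)) ∧ (∃ rels : Finset (FreeGroup (Fin 7)), rels.card ≤ 26 ∧ Nonempty (PresentedGroup (↑rels : Set (FreeGroup (Fin 7))) ≃* Matrix.ProjectiveSpecialLinearGroup (Fin n) F)) ∧
    (∃ rels : Finset (FreeGroup (Fin 6)), rels.card ≤ 21 ∧ Nonempty (PresentedGroup (↑rels : Set (FreeGroup (Fin 6))) ≃* Matrix.SpecialLinearGroup (Fin 4) F)) ∧ (∃ rels : Finset (FreeGroup (Fin 6)), rels.card ≤ 22 ∧ Nonempty (PresentedGroup (↑rels : Set (FreeGroup (Fin 6))) ≃* Matrix.SpecialLinearGroup (Fin 5) F)) := by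
  obtain ⟨K, _, _, -, ⟨r⟩⟩ := CfsgLib.SLShort.exists_small_field F
  obtain ⟨N, rfl⟩ : ∃ N, n = N + 3 := ⟨n - 3, by omega⟩
  obtain ⟨m, x, rels, hP, -, -, -, h⟩ := CfsgLib.SLShort.exists_sl_presentation K N
  obtain ⟨hm, hc⟩ := h (by omega)
  refine ⟨?_, ?_, ?_, ?_⟩
  · obtain ⟨rels', hc', ⟨e⟩⟩ := CfsgLib.SLShort.pad (k := 7) (by omega) hP
    exact ⟨rels', by omega, ⟨e.trans (CfsgLib.SLShort.slCongr _ r)⟩⟩
  · obtain ⟨y, relsP, hcP, hPP⟩ := CfsgLib.SLShort.presents_psl (by omega) hP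
    obtain ⟨rels', hc', ⟨e⟩⟩ := CfsgLib.SLShort.pad (k := 7) (by omega) hPP
    exact ⟨rels', by omega, ⟨e.trans (CfsgLib.SLShort.pslCongr _ r)⟩⟩
  · obtain ⟨m, x, rels, hP, -, h1, -, -⟩ := CfsgLib.SLShort.exists_sl_presentation K 1
    obtain ⟨hm, hc⟩ := h1 rfl
    obtain ⟨rels', hc', ⟨e⟩⟩ := CfsgLib.SLShort.pad (k := 6) (by omega) hP
    exact ⟨rels', by omega, ⟨e.trans (CfsgLib.SLShort.slCongr _ r)⟩⟩
  · obtain ⟨m, x, rels, hP, -, -, h2, -⟩ := CfsgLib.SLShort.exists_sl_presentation K 2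
    obtain ⟨hm, hc⟩ := h2 rfl
    obtain ⟨rels', hc', ⟨e⟩⟩ := CfsgLib.SLShort.pad (k := 6) (by omega) hP
    exact ⟨rels', by omega, ⟨e.trans (CfsgLib.SLShort.slCongr _ r)⟩⟩

end Cfsg.Agent.S2288
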