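import Cfsg.Statements.S2289
import Cfsg.Agent.Lib.SUShort.Counts

set_option autoImplicit false
open Cfsg

namespace Cfsg.Agent.S2289

/-- Let F be a field with q² elements, q ∉ {2, 3, 5}, and SU_3(q), PSU_3(q) the special unitary group of the standard Hermitian form and its central quotient. Then SU_3(q) has a presentation with 3 generators and at most 23 relations, and PSU_3(q) one with 3 generators and at most 24 relations. -/
theorem result {F : Type*} [Field F] [Fintype F] (q : ℕ) (hF : Fintype.card F = q ^ 2) (h2 : q ≠ 2) (h3 : q ≠ 3) (h5 : q ≠ 5) :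
    (∃ rels : Finset (FreeGroup (Fin 3)), rels.card ≤ 23 ∧ Nonempty (PresentedGroup (↑rels : Set (FreeGroup (Fin 3))) ≃* ↥(Cfsg.SU 3 F q))) ∧ (∃ rels : Finset (FreeGroup (Fin 3)), rels.card ≤ 24 ∧ Nonempty (PresentedGroup (↑rels : Set (FreeGroup (Fin 3))) ≃* Cfsg.PSU 3 F q)) := by
  classical
  obtain ⟨K, _, _, hKF, ⟨e⟩⟩ := CfsgLib.SLShort.exists_small_field F
  have hK : Fintype.card K = q ^ 2 := hKF.trans hF
  have hq : 3 ≤ q := by
    have := (CfsgLib.UnitaryBasic.frob_exists hF).1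
    omega
  obtain ⟨x, rels, hc, hP⟩ := CfsgLib.SUShort.exists_su3_presentation hK hq
  obtain ⟨y, rels', hc', hP'⟩ := CfsgLib.SUShort.presents_psu hK le_rfl hP
  obtain ⟨e'⟩ := CfsgLib.SUShort.psu_congr e 3 q
  exact ⟨⟨rels, by omega, hP.nonempty_iso.map fun f => f.trans (CfsgLib.SUShort.suCongr e 3 q)⟩,
    ⟨rels', by omega, hP'.nonempty_iso.map fun f => f.trans e'⟩⟩

end Cfsg.Agent.S2289
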