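import Cfsg.Statements.S2290
import Cfsg.Agent.Lib.SLShort.Counts
import Cfsg.Agent.Lib.SLShort.Shrink
import Cfsg.Agent.Lib.SLShort.Gen2
import Cfsg.Agent.S2278
import Cfsg.Agent.S2279
import Cfsg.Agent.S2286

set_option autoImplicit false
open Cfsg

namespace Cfsg.Agent.S2290

/-- For every finite field F with q elements and n ≥ 2, with q ≥ 4 when n = 2, the simple group PSL_n(F) has a presentation with 2 generators and at most 80 relations. -/
theorem result {F : Type*} [Field F] [Fintype F] (n : ℕ) (hn : 2 ≤ n) (h2 : n = 2 → 4 ≤ Fintype.card F) :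
    ∃ rels : Finset (FreeGroup (Fin 2)), rels.card ≤ 80 ∧ Nonempty (PresentedGroup (↑rels : Set (FreeGroup (Fin 2))) ≃* Matrix.ProjectiveSpecialLinearGroup (Fin n) F) := by
  obtain ⟨K, _, _, hK, ⟨r⟩⟩ := CfsgLib.SLShort.exists_small_field F
  have key : ∃ (m : ℕ) (x : Fin m → Matrix.ProjectiveSpecialLinearGroup (Fin n) K)
      (rels : Finset (FreeGroup (Fin m))), rels.card ≤ 78 ∧ CfsgLib.ShortPres.Presents rels x ∧
        ∃ u v : Matrix.SpecialLinearGroup (Fin n) K, Subgroup.closure {u, v} = ⊤ := by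
    by_cases hn2 : n = 2
    · subst hn2
      obtain ⟨-, ⟨rels, hc, ⟨e⟩⟩, -⟩ := Cfsg.Agent.S2286.result (F := K)
      haveI : Finite (Matrix.SpecialLinearGroup (Fin 2) K) := Subtype.finite
      exact ⟨3, _, rels, by omega, CfsgLib.ShortPres.Presents.of_iso e (fun _ => rfl),
        CfsgLib.SLShort.sl2_two_gens K (by rw [hK]; exact h2 rfl)⟩
    obtain ⟨N, rfl⟩ : ∃ N, n = N + 3 := ⟨n - 3, by omega⟩
    obtain ⟨m, x, rels, hP, h0, -, -, h⟩ := CfsgLib.SLShort.exists_sl_presentation K N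
    obtain ⟨y, relsP, hcP, hPP⟩ := CfsgLib.SLShort.presents_psl (by omega) hP
    refine ⟨m, y, relsP, ?_, hPP, ?_⟩
    · rcases Nat.eq_zero_or_pos N with hN | hN
      · have := (h0 hN).2; omega
      · have := (h hN).2; have := (h hN).1; omega
    · rcases Nat.eq_zero_or_pos N with rfl | hN
      · obtain ⟨u, g, -, -, hg⟩ := Cfsg.Agent.S2278.result (F := K)
        exact ⟨_, _, hg⟩
      · obtain ⟨⟨u, v, -, -, huv⟩, -⟩ := Cfsg.Agent.S2279.result (F := K) (N + 3) (by omega)
        exact ⟨u, v, huv⟩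
  obtain ⟨m, x, rels, hc, hP, u, v, huv⟩ := key
  haveI : Finite (Matrix.SpecialLinearGroup (Fin n) K) := Subtype.finite
  let q := QuotientGroup.mk' (Subgroup.center (Matrix.SpecialLinearGroup (Fin n) K))
  obtain ⟨rels', hc', hP'⟩ := hP.change (x' := ![q u, q v]) (by
    rw [show Set.range ![q u, q v] = q '' {u, v} by
      rw [Matrix.range_cons, Matrix.range_cons, Matrix.range_empty, Set.union_empty, Set.image_pair]; rfl,
      ← MonoidHom.map_closure, huv]
    exact Subgroup.map_top_of_surjective _ (QuotientGroup.mk'_surjective _))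
  obtain ⟨e⟩ := hP'.nonempty_iso
  rw [Fintype.card_fin] at hc'
  exact ⟨rels', by omega, ⟨e.trans (CfsgLib.SLShort.pslCongr n r)⟩⟩

end Cfsg.Agent.S2290
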