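import Cfsg.Statements.S2291
import Cfsg.Agent.Lib.SUShort.CountsN
import Cfsg.Agent.Lib.TwoGenClassical.Unit

set_option autoImplicit false
open Cfsg

namespace Cfsg.Agent.S2291

/-- Let F be a field with q² elements and n ≥ 3 with (n, q) ≠ (3, 2). Then the simple group PSU_n(q) (for the standard Hermitian form) has a presentation with 2 generators and at most 80 relations. -/
theorem result {F : Type*} [Field F] [Fintype F] (q n : ℕ) (hF : Fintype.card F = q ^ 2) (hn : 3 ≤ n) (h32 : ¬ (n = 3 ∧ q = 2)) :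
    ∃ rels : Finset (FreeGroup (Fin 2)), rels.card ≤ 80 ∧ Nonempty (PresentedGroup (↑rels : Set (FreeGroup (Fin 2))) ≃* Cfsg.PSU n F q) := by
  classical
  obtain ⟨K, _, _, hKF, ⟨e⟩⟩ := CfsgLib.SLShort.exists_small_field F
  have hK : Fintype.card K = q ^ 2 := hKF.trans hF
  obtain ⟨m, x, rels, hc, hP⟩ : ∃ (m : ℕ) (x : Fin m → Cfsg.SU n K q) (rels : Finset (FreeGroup (Fin m))),
      rels.card ≤ 39 ∧ CfsgLib.ShortPres.Presents rels x := by
    rcases eq_or_lt_of_le hn with rfl | h4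
    · have hq : 3 ≤ q := by
        have := (CfsgLib.UnitaryBasic.frob_exists hF).1
        omega
      obtain ⟨x, rels, hc, hP⟩ := CfsgLib.SUShort.exists_su3_presentation hK hq
      exact ⟨3, x, rels, by omega, hP⟩
    · obtain ⟨x, rels, hc, hP⟩ := CfsgLib.SUShort.exists_sun_six' hK h4
      exact ⟨6, x, rels, hc.trans (by split_ifs <;> omega), hP⟩
  obtain ⟨y, rels', hc', hP'⟩ := CfsgLib.SUShort.presents_psu hK hn hP
  obtain ⟨a, b, hab⟩ := CfsgLib.TwoGenCl.Unit.su_two_gen hK n hn (fun h h' => h32 ⟨h, h'⟩)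
  let π := QuotientGroup.mk' (Subgroup.center (Cfsg.SU n K q))
  have hgen : Subgroup.closure (Set.range ![π a, π b]) = ⊤ := by
    rw [eq_top_iff, ← Subgroup.map_top_of_surjective π (QuotientGroup.mk'_surjective _), ← hab,
      MonoidHom.map_closure]
    refine Subgroup.closure_mono ?_
    rintro _ ⟨g, rfl | rfl, rfl⟩
    · exact ⟨0, rfl⟩
    · exact ⟨1, rfl⟩
  obtain ⟨rels'', hc'', hP''⟩ := hP'.change (x' := ![π a, π b]) hgen
  rw [Fintype.card_fin] at hc''
  obtain ⟨e'⟩ := CfsgLib.SUShort.psu_congr e n q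
  exact ⟨rels'', by omega, hP''.nonempty_iso.map fun f => f.trans e'⟩

end Cfsg.Agent.S2291
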