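import Cfsg.Statements.S2292
import Cfsg.Agent.Lib.SpShort.Counts
import Cfsg.Agent.Lib.TwoGenClassical.SympTwo

set_option autoImplicit false
open Cfsg

namespace Cfsg.Agent.S2292

/-- Let F be a finite field with q elements and m ≥ 2 with (m, q) ≠ (2, 2). Then the simple group PSp_2m(F) has a presentation with 2 generators and at most 80 relations. -/
theorem result {F : Type*} [Field F] [Fintype F] (m : ℕ) (hm : 2 ≤ m) (h22 : ¬ (m = 2 ∧ Fintype.card F = 2)) :
    ∃ rels : Finset (FreeGroup (Fin 2)), rels.card ≤ 80 ∧ Nonempty (PresentedGroup (↑rels : Set (FreeGroup (Fin 2))) ≃* Cfsg.PSp m F) := by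
  classical
  obtain ⟨K, _, _, hK, ⟨r⟩⟩ := CfsgLib.SLShort.exists_small_field F
  obtain ⟨N, rfl⟩ : ∃ N, m = N + 2 := ⟨m - 2, by omega⟩
  haveI : Finite (Matrix.symplecticGroup (Fin (N + 2)) K) := Subtype.finite
  obtain ⟨k, y, rels, hP, h0, h1, -, -, h⟩ := CfsgLib.SpShort.exists_sp_presentation K N
  have hc : rels.card ≤ 60 := by
    rcases N with _ | _ | N
    · have := (h0 rfl).2; omega
    · have := (h1 rfl).2; omega
    · have := (h (by omega)).2; have := (h (by omega)).1; omega
  obtain ⟨u, v, huv⟩ : ∃ u v : Matrix.symplecticGroup (Fin (N + 2)) K, Subgroup.closure ({u, v} : Set _) = ⊤ := by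
    rcases Nat.eq_zero_or_pos N with rfl | hN
    · refine CfsgLib.TwoGenCl.Symp.two_gen_four ?_
      rw [Nat.card_eq_fintype_card, hK]
      have := Fintype.one_lt_card (α := F)
      omega
    · exact CfsgLib.TwoGenCl.Symp.two_gen_big (by omega)
  obtain ⟨y', rels₁, hc₁, hP₁⟩ := CfsgLib.SpShort.presents_psp (by omega) hP
  let q := QuotientGroup.mk' (Subgroup.center (Matrix.symplecticGroup (Fin (N + 2)) K))
  obtain ⟨rels', hc', hP'⟩ := hP₁.change (x' := ![q u, q v]) (by
    rw [show Set.range ![q u, q v] = q '' {u, v} by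
      rw [Matrix.range_cons, Matrix.range_cons, Matrix.range_empty, Set.union_empty, Set.image_pair]; rfl,
      ← MonoidHom.map_closure, huv]
    exact Subgroup.map_top_of_surjective _ (QuotientGroup.mk'_surjective _))
  obtain ⟨e⟩ := hP'.nonempty_iso
  rw [Fintype.card_fin] at hc'
  exact ⟨rels', by omega, ⟨e.trans (CfsgLib.SpShort.pspCongr _ r)⟩⟩

end Cfsg.Agent.S2292
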