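import Cfsg.Statements.S2294
import Cfsg.Agent.Lib.SUShort.CountsN

set_option autoImplicit false
open Cfsg

namespace Cfsg.Agent.S2294

/-- Let F be a field with q² elements and n ≥ 4, and SU_n(q), PSU_n(q) the special unitary group of the standard Hermitian form and its central quotient. Then SU_n(q) has a presentation with 6 generators and at most 39 relations and PSU_n(q) one with 6 generators and at most 40 relations; moreover SU_4(q) and SU_5(q) have presentations with 6 generators and at most 35 relations, and PSU_4(q) one with 6 generators and at most 36 relations. -/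
theorem result {F : Type*} [Field F] [Fintype F] (q : ℕ) (hF : Fintype.card F = q ^ 2) (n : ℕ) (hn : 4 ≤ n) :
    (∃ rels : Finset (FreeGroup (Fin 6)), rels.card ≤ 39 ∧ Nonempty (PresentedGroup (↑rels : Set (FreeGroup (Fin 6))) ≃* ↥(Cfsg.SU n F q))) ∧ (∃ rels : Finset (FreeGroup (Fin 6)), rels.card ≤ 40 ∧ Nonempty (PresentedGroup (↑rels : Set (FreeGroup (Fin 6))) ≃* Cfsg.PSU n F q)) ∧
    (∃ rels : Finset (FreeGroup (Fin 6)), rels.card ≤ 35 ∧ Nonempty (PresentedGroup (↑rels : Set (FreeGroup (Fin 6))) ≃* ↥(Cfsg.SU 4 F q))) ∧ (∃ rels : Finset (FreeGroup (Fin 6)), rels.card ≤ 35 ∧ Nonempty (PresentedGroup (↑rels : Set (FreeGroup (Fin 6))) ≃* ↥(Cfsg.SU 5 F q))) ∧ (∃ rels : Finset (FreeGroup (Fin 6)), rels.card ≤ 36 ∧ Nonempty (PresentedGroup (↑rels : Set (FreeGroup (Fin 6))) ≃* Cfsg.PSU 4 F q)) := by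
  classical
  obtain ⟨K, _, _, hKF, ⟨e⟩⟩ := CfsgLib.SLShort.exists_small_field F
  have hK : Fintype.card K = q ^ 2 := hKF.trans hF
  have key : ∀ d : ℕ, 4 ≤ d →
      (∃ rels : Finset (FreeGroup (Fin 6)), rels.card ≤ (if d ≤ 5 then 35 else 39) ∧
        Nonempty (PresentedGroup (↑rels : Set (FreeGroup (Fin 6))) ≃* ↥(Cfsg.SU d F q))) ∧
      (∃ rels : Finset (FreeGroup (Fin 6)), rels.card ≤ (if d ≤ 5 then 36 else 40) ∧
        Nonempty (PresentedGroup (↑rels : Set (FreeGroup (Fin 6))) ≃* Cfsg.PSU d F q)) := by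
    intro d hd
    obtain ⟨x, rels, hc, hP⟩ := CfsgLib.SUShort.exists_sun_six' hK hd
    obtain ⟨y, rels', hc', hP'⟩ := CfsgLib.SUShort.presents_psu hK (by omega : 3 ≤ d) hP
    obtain ⟨e'⟩ := CfsgLib.SUShort.psu_congr e d q
    exact ⟨⟨rels, hc.trans (by split_ifs <;> omega),
        hP.nonempty_iso.map fun f => f.trans (CfsgLib.SUShort.suCongr e d q)⟩,
      ⟨rels', by split_ifs at hc ⊢ <;> omega, hP'.nonempty_iso.map fun f => f.trans e'⟩⟩
  obtain ⟨⟨r1, c1, i1⟩, ⟨r2, c2, i2⟩⟩ := key n hn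
  obtain ⟨⟨r3, c3, i3⟩, ⟨r5, c5, i5⟩⟩ := key 4 le_rfl
  obtain ⟨⟨r4, c4, i4⟩, -⟩ := key 5 (by norm_num)
  exact ⟨⟨r1, c1.trans (by split_ifs <;> omega), i1⟩, ⟨r2, c2.trans (by split_ifs <;> omega), i2⟩,
    ⟨r3, c3.trans (by norm_num), i3⟩, ⟨r4, c4.trans (by norm_num), i4⟩, ⟨r5, c5.trans (by norm_num), i5⟩⟩

end Cfsg.Agent.S2294
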