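import Cfsg.Statements.S2298
import Cfsg.Agent.Lib.GL2Char.Classify
-- import your own Cfsg.Agent.* helpers here

set_option autoImplicit false
open Cfsg CfsgLib.GL2Char CfsgLib.CharTheory

namespace Cfsg.Agent.S2298

/-- Over a finite field F with q elements, every irreducible complex character of GL₂ has degree 1, q − 1, q or q + 1; and when q ≥ 3 (so that these four numbers are distinct) there are exactly q − 1 irreducible characters of degree 1, exactly q − 1 of degree q, exactly (q − 1)(q − 2)/2 of degree q + 1 and exactly q(q − 1)/2 of degree q − 1. -/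
theorem result {F : Type*} [Field F] [Fintype F] :
    (∀ χ : Matrix.GeneralLinearGroup (Fin 2) F → ℂ, Cfsg.IsIrrCharacter (Matrix.GeneralLinearGroup (Fin 2) F) χ →
      χ 1 = 1 ∨ χ 1 = (Fintype.card F : ℂ) - 1 ∨ χ 1 = (Fintype.card F : ℂ) ∨ χ 1 = (Fintype.card F : ℂ) + 1) ∧
    (3 ≤ Fintype.card F →
      Nat.card {χ : Cfsg.IrrCharacter (Matrix.GeneralLinearGroup (Fin 2) F) // (χ : Matrix.GeneralLinearGroup (Fin 2) F → ℂ) 1 = 1} = Fintype.card F - 1 ∧
      Nat.card {χ : Cfsg.IrrCharacter (Matrix.GeneralLinearGroup (Fin 2) F) // (χ : Matrix.GeneralLinearGroup (Fin 2) F → ℂ) 1 = (Fintype.card F : ℂ)} = Fintype.card F - 1 ∧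
      Nat.card {χ : Cfsg.IrrCharacter (Matrix.GeneralLinearGroup (Fin 2) F) // (χ : Matrix.GeneralLinearGroup (Fin 2) F → ℂ) 1 = (Fintype.card F : ℂ) + 1} = (Fintype.card F - 1) * (Fintype.card F - 2) / 2 ∧
      Nat.card {χ : Cfsg.IrrCharacter (Matrix.GeneralLinearGroup (Fin 2) F) // (χ : Matrix.GeneralLinearGroup (Fin 2) F → ℂ) 1 = (Fintype.card F : ℂ) - 1} = Fintype.card F * (Fintype.card F - 1) / 2) := by
  classical
  obtain ⟨C, hC, hcard, hZ⟩ := exists_torus (F := F)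
  have hall : ∀ χ : Matrix.GeneralLinearGroup (Fin 2) F → ℂ, IsIrrCharacter _ χ →
      χ 1 = 1 ∨ χ 1 = (Fintype.card F : ℂ) - 1 ∨ χ 1 = (Fintype.card F : ℂ) ∨ χ 1 = (Fintype.card F : ℂ) + 1 := by
    intro χ hχ
    rcases irr_cases C hC hcard hZ hχ with ⟨l, -, h⟩ | ⟨l, -, h⟩ | ⟨α, β, -, -, h⟩ | ⟨θ, -, -, h⟩
    exacts [Or.inl h, Or.inr (Or.inr (Or.inl h)), Or.inr (Or.inr (Or.inr h)), Or.inr (Or.inl h)]
  refine ⟨hall, fun hq => ⟨?_, ?_, ?_, ?_⟩⟩
  · rw [CfsgLib.SL2Char.card_irr_of_mem (Finset.univ.image lam) (fun f hf => by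
        obtain ⟨l, -, rfl⟩ := Finset.mem_image.mp hf; exact isIrr_lam l)
      (fun f => f 1 = 1) fun f hf => ⟨fun h => by
        obtain ⟨l, rfl⟩ := eq_lam_of_degree C hC hcard hZ hq hf h
        exact Finset.mem_image_of_mem _ (Finset.mem_univ l), fun h => by
        obtain ⟨l, -, rfl⟩ := Finset.mem_image.mp h; exact lam_one l⟩,
      Finset.card_image_of_injective _ lam_injective, Finset.card_univ, card_mulChar]
  · rw [CfsgLib.SL2Char.card_irr_of_mem (Finset.univ.image st) (fun f hf => by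
        obtain ⟨l, -, rfl⟩ := Finset.mem_image.mp hf; exact isIrr_st l)
      (fun f => f 1 = (Fintype.card F : ℂ)) fun f hf => ⟨fun h => by
        obtain ⟨l, rfl⟩ := eq_st_of_degree C hC hcard hZ hf h
        exact Finset.mem_image_of_mem _ (Finset.mem_univ l), fun h => by
        obtain ⟨l, -, rfl⟩ := Finset.mem_image.mp h; exact st_one l⟩,
      Finset.card_image_of_injective _ st_injective, Finset.card_univ, card_mulChar]
  · rw [CfsgLib.SL2Char.card_irr_of_mem (psImg F) (fun f hf => by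
        obtain ⟨α, β, h, rfl⟩ := mem_psImg.mp hf; exact isIrr_ps h)
      (fun f => f 1 = (Fintype.card F : ℂ) + 1) fun f hf => ⟨fun h => by
        obtain ⟨α, β, hne, rfl⟩ := eq_ps_of_degree C hC hcard hZ hf h
        exact mem_psImg.mpr ⟨α, β, hne, rfl⟩, fun h => by
        obtain ⟨α, β, -, rfl⟩ := mem_psImg.mp h; exact ps_one α β⟩]
    have := two_card_psImg (F := F)
    omega
  · rw [CfsgLib.SL2Char.card_irr_of_mem (dsImg C hC hZ) (fun f hf => by
        obtain ⟨θ, h, rfl⟩ := (mem_dsImg C hC hZ).mp hf; exact isIrr_ds C hC hcard hZ h)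
      (fun f => f 1 = (Fintype.card F : ℂ) - 1) fun f hf => ⟨fun h => by
        rcases eq_ds_of_degree C hC hcard hZ hf h with ⟨θ, hθ, rfl⟩ | ⟨h2, -⟩
        · exact (mem_dsImg C hC hZ).mpr ⟨θ, hθ, rfl⟩
        · omega, fun h => by
        obtain ⟨θ, -, rfl⟩ := (mem_dsImg C hC hZ).mp h; exact ds_one C hcard hZ θ⟩]
    have := two_card_dsImg C hC hcard hZ
    omega

end Cfsg.Agent.S2298
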