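import Cfsg.Statements.S2299
import Cfsg.Agent.Lib.SL2Char.Table
-- import your own Cfsg.Agent.* helpers here

set_option autoImplicit false
open Cfsg CfsgLib.SL2Char CfsgLib.CharTheory

namespace Cfsg.Agent.S2299

/-- Over a finite field F with q elements, q odd, every irreducible complex character of SL₂ has degree 1, q, q + 1, q − 1, (q + 1)/2 or (q − 1)/2; and when q ≥ 5 (so that these six numbers are distinct) there are exactly one irreducible character of degree 1, one of degree q, (q − 3)/2 of degree q + 1, (q − 1)/2 of degree q − 1, two of degree (q + 1)/2 and two of degree (q − 1)/2. -/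
theorem result {F : Type*} [Field F] [Fintype F] (hodd : Odd (Fintype.card F)) :
    (∀ χ : Matrix.SpecialLinearGroup (Fin 2) F → ℂ, Cfsg.IsIrrCharacter (Matrix.SpecialLinearGroup (Fin 2) F) χ →
      χ 1 = 1 ∨ χ 1 = (Fintype.card F : ℂ) ∨ χ 1 = (Fintype.card F : ℂ) + 1 ∨ χ 1 = (Fintype.card F : ℂ) - 1 ∨
        χ 1 = (((Fintype.card F + 1) / 2 : ℕ) : ℂ) ∨ χ 1 = (((Fintype.card F - 1) / 2 : ℕ) : ℂ)) ∧
    (5 ≤ Fintype.card F →
      Nat.card {χ : Cfsg.IrrCharacter (Matrix.SpecialLinearGroup (Fin 2) F) // (χ : Matrix.SpecialLinearGroup (Fin 2) F → ℂ) 1 = 1} = 1 ∧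
      Nat.card {χ : Cfsg.IrrCharacter (Matrix.SpecialLinearGroup (Fin 2) F) // (χ : Matrix.SpecialLinearGroup (Fin 2) F → ℂ) 1 = (Fintype.card F : ℂ)} = 1 ∧
      Nat.card {χ : Cfsg.IrrCharacter (Matrix.SpecialLinearGroup (Fin 2) F) // (χ : Matrix.SpecialLinearGroup (Fin 2) F → ℂ) 1 = (Fintype.card F : ℂ) + 1} = (Fintype.card F - 3) / 2 ∧
      Nat.card {χ : Cfsg.IrrCharacter (Matrix.SpecialLinearGroup (Fin 2) F) // (χ : Matrix.SpecialLinearGroup (Fin 2) F → ℂ) 1 = (Fintype.card F : ℂ) - 1} = (Fintype.card F - 1) / 2 ∧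
      Nat.card {χ : Cfsg.IrrCharacter (Matrix.SpecialLinearGroup (Fin 2) F) // (χ : Matrix.SpecialLinearGroup (Fin 2) F → ℂ) 1 = (((Fintype.card F + 1) / 2 : ℕ) : ℂ)} = 2 ∧
      Nat.card {χ : Cfsg.IrrCharacter (Matrix.SpecialLinearGroup (Fin 2) F) // (χ : Matrix.SpecialLinearGroup (Fin 2) F → ℂ) 1 = (((Fintype.card F - 1) / 2 : ℕ) : ℂ)} = 2) := by
  classical
  obtain ⟨C, hC, hcard⟩ := exists_torus (F := F)
  have h2 := CfsgLib.SL2Borel.two_ne_zero_of_odd hodd
  obtain ⟨e1, e2⟩ := half_odd_eq (F := F) h2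
  refine ⟨fun χ hχ => ?_, fun hq => ⟨?_, ?_, ?_, ?_, ?_, ?_⟩⟩
  · rcases degree_cases C hC hcard hχ with h | h | ⟨_, _, _, h⟩ | ⟨_, _, _, h⟩ | ⟨_, _, _, h⟩ | ⟨_, _, _, h⟩
    · exact Or.inl h.2
    · exact Or.inr (Or.inl h.2)
    · exact Or.inr (Or.inr (Or.inl h))
    · exact Or.inr (Or.inr (Or.inr (Or.inl h)))
    · exact Or.inr (Or.inr (Or.inr (Or.inr (Or.inl (by linear_combination (h - e1) / 2)))))
    · exact Or.inr (Or.inr (Or.inr (Or.inr (Or.inr (by linear_combination (h - e2) / 2)))))
  · rw [card_irr_of_mem {(fun _ => 1)} (by simpa using isIrrCharacter_one) (fun f => f 1 = 1) fun f hf =>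
      ⟨fun h => Finset.mem_singleton.mpr (eq_one_of_degree C hC hcard (by omega) hf h),
        fun h => by rw [Finset.mem_singleton.mp h]⟩, Finset.card_singleton]
  · rw [card_irr_of_mem {st} (by simpa using isIrr_st) (fun f => f 1 = (Fintype.card F : ℂ)) fun f hf =>
      ⟨fun h => Finset.mem_singleton.mpr (eq_st_of_degree C hC hcard hf h),
        fun h => by rw [Finset.mem_singleton.mp h]; exact st_one⟩, Finset.card_singleton]
  · rw [card_irr_of_mem (psImg F) (fun f hf => by
        obtain ⟨α, hα, rfl⟩ := mem_psImg.mp hf; exact isIrr_ps hα)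
      (fun f => f 1 = (Fintype.card F : ℂ) + 1) fun f hf => ⟨fun h => by
        obtain ⟨α, hα, rfl⟩ := eq_ps_of_degree C hC hcard hf h
        exact mem_psImg.mpr ⟨α, hα, rfl⟩, fun h => by
        obtain ⟨α, -, rfl⟩ := mem_psImg.mp h; exact ps_one α⟩]
    have := two_card_psImg (F := F)
    rw [card_scal_odd h2] at this
    omega
  · rw [card_irr_of_mem (dsImg C) (fun f hf => by
        obtain ⟨θ, hθ, rfl⟩ := (mem_dsImg C).mp hf; exact isIrr_ds C hC hcard hθ)
      (fun f => f 1 = (Fintype.card F : ℂ) - 1) fun f hf => ⟨fun h => by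
        rcases eq_ds_of_degree C hC hcard hf h with ⟨θ, hθ, rfl⟩ | ⟨h', -⟩ | ⟨h', -⟩
        · exact (mem_dsImg C).mpr ⟨θ, hθ, rfl⟩
        · omega
        · omega, fun h => by
        obtain ⟨θ, -, rfl⟩ := (mem_dsImg C).mp h; exact ds_one C hC hcard θ⟩]
    have := two_card_dsImg C hC hcard
    rw [card_scal_odd h2] at this
    omega
  · obtain ⟨H⟩ := nonempty_halves C hC hcard h2
    rw [card_irr_of_mem {H.p₁, H.p₂} (by simp [H.irr_p₁, H.irr_p₂])
      (fun f => f 1 = (((Fintype.card F + 1) / 2 : ℕ) : ℂ)) fun f hf => ⟨fun h => by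
        rcases Finset.mem_union.mp (H.complete f hf) with hb | hb
        · exfalso
          rcases (mem_baseSet C).mp hb with rfl | rfl | ⟨α, -, rfl⟩ | ⟨θ, -, rfl⟩
          · have := natCast_inj' (m := (Fintype.card F + 1) / 2) (n := 1) (by rw [Nat.cast_one, ← h])
            omega
          · rw [st_one] at h; have := natCast_inj' h; omega
          · rw [ps_one, show (Fintype.card F : ℂ) + 1 = ((Fintype.card F + 1 : ℕ) : ℂ) by push_cast; rfl] at h
            have := natCast_inj' h; omega
          · rw [ds_one C hC hcard, show (Fintype.card F : ℂ) - 1 = ((Fintype.card F - 1 : ℕ) : ℂ) by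
              rw [Nat.cast_sub Fintype.card_pos]; simp] at h
            have := natCast_inj' h; omega
        · simp only [Finset.mem_insert, Finset.mem_singleton] at hb ⊢
          rcases hb with rfl | rfl | rfl | rfl
          · exact Or.inl rfl
          · exact Or.inr rfl
          · exfalso; rw [(H.deg h2).2.2.1] at h; have := natCast_inj' h; omega
          · exfalso; rw [(H.deg h2).2.2.2] at h; have := natCast_inj' h; omega, fun h => by
        simp only [Finset.mem_insert, Finset.mem_singleton] at h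
        rcases h with rfl | rfl
        · exact (H.deg h2).1
        · exact (H.deg h2).2.1⟩, Finset.card_pair H.p_ne]
  · obtain ⟨H⟩ := nonempty_halves C hC hcard h2
    rw [card_irr_of_mem {H.m₁, H.m₂} (by simp [H.irr_m₁, H.irr_m₂])
      (fun f => f 1 = (((Fintype.card F - 1) / 2 : ℕ) : ℂ)) fun f hf => ⟨fun h => by
        rcases Finset.mem_union.mp (H.complete f hf) with hb | hb
        · exfalso
          rcases (mem_baseSet C).mp hb with rfl | rfl | ⟨α, -, rfl⟩ | ⟨θ, -, rfl⟩
          · have := natCast_inj' (m := (Fintype.card F - 1) / 2) (n := 1) (by rw [Nat.cast_one, ← h])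
            omega
          · rw [st_one] at h; have := natCast_inj' h; omega
          · rw [ps_one, show (Fintype.card F : ℂ) + 1 = ((Fintype.card F + 1 : ℕ) : ℂ) by push_cast; rfl] at h
            have := natCast_inj' h; omega
          · rw [ds_one C hC hcard, show (Fintype.card F : ℂ) - 1 = ((Fintype.card F - 1 : ℕ) : ℂ) by
              rw [Nat.cast_sub Fintype.card_pos]; simp] at h
            have := natCast_inj' h; omega
        · simp only [Finset.mem_insert, Finset.mem_singleton] at hb ⊢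
          rcases hb with rfl | rfl | rfl | rfl
          · exfalso; rw [(H.deg h2).1] at h; have := natCast_inj' h; omega
          · exfalso; rw [(H.deg h2).2.1] at h; have := natCast_inj' h; omega
          · exact Or.inl rfl
          · exact Or.inr rfl, fun h => by
        simp only [Finset.mem_insert, Finset.mem_singleton] at h
        rcases h with rfl | rfl
        · exact (H.deg h2).2.2.1
        · exact (H.deg h2).2.2.2⟩, Finset.card_pair H.m_ne]

end Cfsg.Agent.S2299
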