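import Cfsg.Statements.S2300
import Cfsg.Agent.Lib.SL2Char.Table
-- import your own Cfsg.Agent.* helpers here

set_option autoImplicit false
open Cfsg CfsgLib.SL2Char CfsgLib.CharTheory

namespace Cfsg.Agent.S2300

/-- Over a finite field F with q elements, q even, every irreducible complex character of SL₂ has degree 1, q − 1, q or q + 1; and when q ≥ 4 (so that these four numbers are distinct) there are exactly one irreducible character of degree 1, one of degree q, (q − 2)/2 of degree q + 1 and q/2 of degree q − 1. -/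
theorem result {F : Type*} [Field F] [Fintype F] [CharP F 2] :
    (∀ χ : Matrix.SpecialLinearGroup (Fin 2) F → ℂ, Cfsg.IsIrrCharacter (Matrix.SpecialLinearGroup (Fin 2) F) χ →
      χ 1 = 1 ∨ χ 1 = (Fintype.card F : ℂ) - 1 ∨ χ 1 = (Fintype.card F : ℂ) ∨ χ 1 = (Fintype.card F : ℂ) + 1) ∧
    (4 ≤ Fintype.card F →
      Nat.card {χ : Cfsg.IrrCharacter (Matrix.SpecialLinearGroup (Fin 2) F) // (χ : Matrix.SpecialLinearGroup (Fin 2) F → ℂ) 1 = 1} = 1 ∧
      Nat.card {χ : Cfsg.IrrCharacter (Matrix.SpecialLinearGroup (Fin 2) F) // (χ : Matrix.SpecialLinearGroup (Fin 2) F → ℂ) 1 = (Fintype.card F : ℂ)} = 1 ∧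
      Nat.card {χ : Cfsg.IrrCharacter (Matrix.SpecialLinearGroup (Fin 2) F) // (χ : Matrix.SpecialLinearGroup (Fin 2) F → ℂ) 1 = (Fintype.card F : ℂ) + 1} = (Fintype.card F - 2) / 2 ∧
      Nat.card {χ : Cfsg.IrrCharacter (Matrix.SpecialLinearGroup (Fin 2) F) // (χ : Matrix.SpecialLinearGroup (Fin 2) F → ℂ) 1 = (Fintype.card F : ℂ) - 1} = Fintype.card F / 2) := by
  classical
  obtain ⟨C, hC, hcard⟩ := exists_torus (F := F)
  have h2 : (2 : F) = 0 := CharTwo.two_eq_zero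
  have hbase : ∀ χ : Matrix.SpecialLinearGroup (Fin 2) F → ℂ, IsIrrCharacter _ χ →
      (χ = (fun _ => 1) ∧ χ 1 = 1) ∨ (χ = st ∧ χ 1 = (Fintype.card F : ℂ)) ∨
      (χ ∈ psImg F ∧ χ 1 = (Fintype.card F : ℂ) + 1) ∨ (χ ∈ dsImg C ∧ χ 1 = (Fintype.card F : ℂ) - 1) := by
    intro χ hχ
    rcases (mem_baseSet C).mp (mem_baseSet_of_even C hC hcard h2 hχ) with
      rfl | rfl | ⟨α, hα, rfl⟩ | ⟨θ, hθ, rfl⟩
    · exact Or.inl ⟨rfl, rfl⟩
    · exact Or.inr (Or.inl ⟨rfl, st_one⟩)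
    · exact Or.inr (Or.inr (Or.inl ⟨mem_psImg.mpr ⟨α, hα, rfl⟩, ps_one α⟩))
    · exact Or.inr (Or.inr (Or.inr ⟨(mem_dsImg C).mpr ⟨θ, hθ, rfl⟩, ds_one C hC hcard θ⟩))
  refine ⟨fun χ hχ => ?_, fun hq => ⟨?_, ?_, ?_, ?_⟩⟩
  · rcases hbase χ hχ with h | h | h | h
    exacts [Or.inl h.2, Or.inr (Or.inr (Or.inl h.2)), Or.inr (Or.inr (Or.inr h.2)), Or.inr (Or.inl h.2)]
  · rw [card_irr_of_mem {(fun _ => 1)} (by simpa using isIrrCharacter_one) (fun f => f 1 = 1) fun f hf =>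
      ⟨fun h => Finset.mem_singleton.mpr (eq_one_of_degree C hC hcard hq hf h),
        fun h => by rw [Finset.mem_singleton.mp h]⟩, Finset.card_singleton]
  · rw [card_irr_of_mem {st} (by simpa using isIrr_st) (fun f => f 1 = (Fintype.card F : ℂ)) fun f hf =>
      ⟨fun h => Finset.mem_singleton.mpr (eq_st_of_degree C hC hcard hf h),
        fun h => by rw [Finset.mem_singleton.mp h]; exact st_one⟩, Finset.card_singleton]
  · rw [card_irr_of_mem (psImg F) (fun f hf => by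
        obtain ⟨α, hα, rfl⟩ := mem_psImg.mp hf; exact isIrr_ps hα)
      (fun f => f 1 = (Fintype.card F : ℂ) + 1) fun f hf => ⟨fun h => by
        obtain ⟨α, hα, rfl⟩ := eq_ps_of_degree C hC hcard hf h
        exact mem_psImg.mpr ⟨α, hα, rfl⟩, fun h => by
        obtain ⟨α, -, rfl⟩ := mem_psImg.mp h; exact ps_one α⟩]
    have := two_card_psImg (F := F)
    rw [card_scal_even h2] at this
    omega
  · rw [card_irr_of_mem (dsImg C) (fun f hf => by
        obtain ⟨θ, hθ, rfl⟩ := (mem_dsImg C).mp hf; exact isIrr_ds C hC hcard hθ)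
      (fun f => f 1 = (Fintype.card F : ℂ) - 1) fun f hf => ⟨fun h => by
        rcases eq_ds_of_degree C hC hcard hf h with ⟨θ, hθ, rfl⟩ | ⟨h', -⟩ | ⟨h', -⟩
        · exact (mem_dsImg C).mpr ⟨θ, hθ, rfl⟩
        · omega
        · omega, fun h => by
        obtain ⟨θ, -, rfl⟩ := (mem_dsImg C).mp h; exact ds_one C hC hcard θ⟩]
    have := two_card_dsImg C hC hcard
    rw [card_scal_even h2] at this
    omega

end Cfsg.Agent.S2300
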