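import Cfsg.Statements.S2301
import Cfsg.Agent.Lib.TwoByTwo
import Cfsg.Agent.Lib.SLCard
import Mathlib.NumberTheory.LegendreSymbol.QuadraticChar.Basic

set_option autoImplicit false
open Cfsg

namespace Cfsg.Agent.S2301

/-- Over a finite field with q elements of odd characteristic p, the elements of order p of SL₂ (the non-identity unipotent elements) fall into exactly two conjugacy classes, each of size (q² − 1)/2; two upper unitriangular matrices with non-zero off-diagonal entries b and b′ are conjugate exactly when bb′ is a square. -/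
theorem result {F : Type*} [Field F] [Fintype F] (p : ℕ) [Fact p.Prime] [CharP F p] (hp : p ≠ 2) :
    Nat.card {C : ConjClasses (Matrix.SpecialLinearGroup (Fin 2) F) // ∃ g : Matrix.SpecialLinearGroup (Fin 2) F, orderOf g = p ∧ ConjClasses.mk g = C} = 2 ∧
    (∀ g : Matrix.SpecialLinearGroup (Fin 2) F, orderOf g = p → Nat.card (ConjClasses.mk g).carrier = (Fintype.card F ^ 2 - 1) / 2) ∧
    ∀ g h : Matrix.SpecialLinearGroup (Fin 2) F, (g : Matrix (Fin 2) (Fin 2) F) 0 0 = 1 → (g : Matrix (Fin 2) (Fin 2) F) 1 1 = 1 → (g : Matrix (Fin 2) (Fin 2) F) 1 0 = 0 → (g : Matrix (Fin 2) (Fin 2) F) 0 1 ≠ 0 →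
      (h : Matrix (Fin 2) (Fin 2) F) 0 0 = 1 → (h : Matrix (Fin 2) (Fin 2) F) 1 1 = 1 → (h : Matrix (Fin 2) (Fin 2) F) 1 0 = 0 → (h : Matrix (Fin 2) (Fin 2) F) 0 1 ≠ 0 →
      (IsConj g h ↔ IsSquare ((g : Matrix (Fin 2) (Fin 2) F) 0 1 * (h : Matrix (Fin 2) (Fin 2) F) 0 1)) := by
  classical
  have hq1 := Fintype.one_lt_card (α := F)
  have h2 : (2 : F) ≠ 0 := Ring.two_ne_zero (by rw [ringChar.eq F p]; exact hp)
  have hring : ringChar F ≠ 2 := by rw [ringChar.eq F p]; exact hp
  have hshape : ∀ x : Matrix.SpecialLinearGroup (Fin 2) F, orderOf x = p →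
      ∃ d : F, d ≠ 0 ∧ IsConj (CfsgLib.PSL2.uSL d) x := fun x hx => by
    have hne : x ≠ 1 := fun e => by
      rw [e, orderOf_one] at hx
      exact (Fact.out : p.Prime).one_lt.ne hx
    have hgl : (Matrix.SpecialLinearGroup.toGL x) ^ p = 1 := by
      rw [← map_pow, ← hx, pow_orderOf_eq_one, map_one]
    exact CfsgLib.TwoByTwo.exists_isConj_uSL (g := x) (CfsgLib.TwoByTwo.sub_one_sq p hgl) hne
  obtain ⟨ν, hν⟩ := FiniteField.exists_nonsquare hring
  have hν0 : ν ≠ 0 := fun e => hν (e ▸ IsSquare.zero)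
  have hiff : ∀ b b' : F, b ≠ 0 → b' ≠ 0 →
      (IsConj (CfsgLib.PSL2.uSL b) (CfsgLib.PSL2.uSL b') ↔ IsSquare (b * b')) := by
    intro b b' hb hb'
    rw [CfsgLib.TwoByTwo.isConj_uSL_iff hb]
    constructor
    · rintro ⟨a, -, rfl⟩
      exact ⟨a * b, by ring⟩
    · rintro ⟨s, hs⟩
      refine ⟨s / b, div_ne_zero (fun e => mul_ne_zero hb hb' (by rw [hs, e, zero_mul])) hb, ?_⟩
      field_simp
      linear_combination hs
  refine ⟨?_, ?_, ?_⟩
  · have hset : {C : ConjClasses (Matrix.SpecialLinearGroup (Fin 2) F) |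
        ∃ g : Matrix.SpecialLinearGroup (Fin 2) F, orderOf g = p ∧ ConjClasses.mk g = C} =
        {ConjClasses.mk (CfsgLib.PSL2.uSL 1), ConjClasses.mk (CfsgLib.PSL2.uSL ν)} := by
      ext C
      constructor
      · rintro ⟨x, hx, rfl⟩
        obtain ⟨d, hd, hc⟩ := hshape x hx
        rw [← ConjClasses.mk_eq_mk_iff_isConj] at hc
        rw [← hc]
        by_cases hsd : IsSquare d
        · exact Or.inl (ConjClasses.mk_eq_mk_iff_isConj.mpr
            ((hiff d 1 hd one_ne_zero).mpr (by rwa [mul_one])))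
        · refine Or.inr (ConjClasses.mk_eq_mk_iff_isConj.mpr ((hiff d ν hd hν0).mpr ?_))
          rw [← quadraticChar_one_iff_isSquare (mul_ne_zero hd hν0), map_mul,
            quadraticChar_neg_one_iff_not_isSquare.mpr hsd,
            quadraticChar_neg_one_iff_not_isSquare.mpr hν]
          rfl
      · rintro (rfl | rfl)
        · exact ⟨_, CfsgLib.TwoByTwo.orderOf_uSL p one_ne_zero, rfl⟩
        · exact ⟨_, CfsgLib.TwoByTwo.orderOf_uSL p hν0, rfl⟩
    have hne : ConjClasses.mk (CfsgLib.PSL2.uSL (1 : F)) ≠ ConjClasses.mk (CfsgLib.PSL2.uSL ν) := by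
      rw [Ne, ConjClasses.mk_eq_mk_iff_isConj, hiff 1 ν one_ne_zero hν0, one_mul]
      exact hν
    show Nat.card ↥{C : ConjClasses (Matrix.SpecialLinearGroup (Fin 2) F) |
        ∃ g : Matrix.SpecialLinearGroup (Fin 2) F, orderOf g = p ∧ ConjClasses.mk g = C} = 2
    rw [hset, Nat.card_coe_set_eq, Set.ncard_pair hne]
  · intro x hx
    obtain ⟨d, hd, hc⟩ := hshape x hx
    have e := CfsgLib.TwoByTwo.card_carrier_mul_centralizer (CfsgLib.PSL2.uSL d)
    have htwo : Nat.card {a : F // a * a = 1} = 2 := by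
      have hs : {a : F | a * a = 1} = {1, -1} := by
        ext a
        simp [mul_self_eq_one_iff]
      show Nat.card ↥{a : F | a * a = 1} = 2
      rw [hs, Nat.card_coe_set_eq, Set.ncard_pair (Ring.neg_one_ne_one_of_char_ne_two hring).symm]
    rw [CfsgLib.TwoByTwo.card_centralizer_uSL hd, htwo, CfsgLib.SLCard.card_SL_two] at e
    rw [← CfsgLib.TwoByTwo.card_carrier_eq_of_isConj hc]
    set X := Nat.card (ConjClasses.mk (CfsgLib.PSL2.uSL d)).carrier
    have e' : X * 2 = Fintype.card F ^ 2 - 1 :=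
      Nat.eq_of_mul_eq_mul_right (show 0 < Fintype.card F by omega)
        (by rw [mul_assoc, e, mul_comm])
    omega
  · intro x y x00 x11 x10 x01 y00 y11 y10 y01
    have hx : x = CfsgLib.PSL2.uSL ((x : Matrix (Fin 2) (Fin 2) F) 0 1) := Subtype.ext (by
      ext i j; fin_cases i <;> fin_cases j <;> simp [CfsgLib.PSL2.coe_uSL, x00, x11, x10])
    have hy : y = CfsgLib.PSL2.uSL ((y : Matrix (Fin 2) (Fin 2) F) 0 1) := Subtype.ext (by
      ext i j; fin_cases i <;> fin_cases j <;> simp [CfsgLib.PSL2.coe_uSL, y00, y11, y10])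
    conv_lhs => rw [hx, hy]
    exact hiff _ _ x01 y01

end Cfsg.Agent.S2301
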