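import Cfsg.Statements.S2303


set_option autoImplicit false
open Cfsg

namespace Cfsg.Agent.S2303

/-- Over a finite field with q elements: a diagonal element of GL₂ with two distinct diagonal entries has centralizer of order (q − 1)² (so q(q + 1) conjugates), and an element of GL₂ with no eigenvector in F² has centralizer of order q² − 1 (so q(q − 1) conjugates). -/
theorem result {F : Type*} [Field F] [Fintype F] (g : Matrix.GeneralLinearGroup (Fin 2) F) :
    ((g : Matrix (Fin 2) (Fin 2) F) 0 1 = 0 → (g : Matrix (Fin 2) (Fin 2) F) 1 0 = 0 → (g : Matrix (Fin 2) (Fin 2) F) 0 0 ≠ (g : Matrix (Fin 2) (Fin 2) F) 1 1 →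
      Nat.card (Subgroup.centralizer ({g} : Set (Matrix.GeneralLinearGroup (Fin 2) F))) = (Fintype.card F - 1) ^ 2) ∧
    ((∀ (c : F) (v : Fin 2 → F), v ≠ 0 → (g : Matrix (Fin 2) (Fin 2) F).mulVec v ≠ c • v) →
      Nat.card (Subgroup.centralizer ({g} : Set (Matrix.GeneralLinearGroup (Fin 2) F))) = Fintype.card F ^ 2 - 1) := by
  classical
  refine ⟨fun h01 h10 hne => ?_, fun heig => ?_⟩
  · let f : Fˣ × Fˣ → Subgroup.centralizer ({g} : Set (Matrix.GeneralLinearGroup (Fin 2) F)) :=
      fun x => ⟨Matrix.GeneralLinearGroup.mkOfDetNeZero (Matrix.diagonal ![(x.1 : F), (x.2 : F)])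
        (by simp [Matrix.det_diagonal, Fin.prod_univ_two]),
        Subgroup.mem_centralizer_singleton_iff.mpr (Units.ext (by
          show Matrix.diagonal ![(x.1 : F), (x.2 : F)] * g.1 =
            g.1 * Matrix.diagonal ![(x.1 : F), (x.2 : F)]
          ext i j
          fin_cases i <;> fin_cases j <;>
            simp [Matrix.diagonal_mul, Matrix.mul_diagonal, h01, h10, mul_comm]))⟩
    have hf : Function.Bijective f := by
      refine ⟨fun x y h => ?_, ?_⟩
      · have e : Matrix.diagonal ![(x.1 : F), (x.2 : F)] = Matrix.diagonal ![(y.1 : F), (y.2 : F)] :=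
          congrArg (fun z => z.1.1) h
        have e := Matrix.diagonal_injective e
        exact Prod.ext (Units.ext (by simpa using congrFun e 0)) (Units.ext (by simpa using congrFun e 1))
      · rintro ⟨c, hc⟩
        rw [Subgroup.mem_centralizer_singleton_iff] at hc
        have e := congrArg (fun z : Matrix.GeneralLinearGroup (Fin 2) F => z.1) hc
        have e01 := congrFun (congrFun e 0) 1
        have e10 := congrFun (congrFun e 1) 0
        simp [Matrix.mul_apply, Fin.sum_univ_two, h01, h10] at e01 e10
        have c01 : c.1 0 1 = 0 := by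
          by_contra hcne
          exact hne (mul_left_cancel₀ hcne (by linear_combination -e01))
        have c10 : c.1 1 0 = 0 := by
          by_contra hcne
          exact hne (mul_left_cancel₀ hcne (by linear_combination e10))
        have hdet : c.1.det ≠ 0 := ((Matrix.isUnit_iff_isUnit_det _).mp c.isUnit).ne_zero
        rw [Matrix.det_fin_two, c01, zero_mul, sub_zero] at hdet
        refine ⟨(Units.mk0 _ (left_ne_zero_of_mul hdet), Units.mk0 _ (right_ne_zero_of_mul hdet)),
          Subtype.ext (Units.ext ?_)⟩
        ext i j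
        fin_cases i <;> fin_cases j <;> simp [f, c01, c10]
    rw [← Nat.card_congr (Equiv.ofBijective f hf), Nat.card_prod, Nat.card_units,
      Nat.card_eq_fintype_card, sq]
  · have hv0 : (Pi.single 0 1 : Fin 2 → F) ≠ 0 := by simp [Pi.single_eq_zero_iff]
    have hg10 : g.1 1 0 ≠ 0 := fun e => heig (g.1 0 0) _ hv0 (by
      funext i; fin_cases i <;> simp [e])
    have hdet : ∀ x : F × F, x ≠ 0 → (x.1 • (1 : Matrix (Fin 2) (Fin 2) F) + x.2 • g.1).det ≠ 0 := by
      intro x hx h0
      by_cases hb : x.2 = 0
      · refine hx (Prod.ext ?_ hb)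
        simpa [hb] using h0
      · obtain ⟨v, hv, hv'⟩ := Matrix.exists_mulVec_eq_zero_iff.mpr h0
        refine heig (-(x.1 / x.2)) v hv ?_
        rw [Matrix.add_mulVec, Matrix.smul_mulVec, Matrix.smul_mulVec, Matrix.one_mulVec] at hv'
        funext i
        have hi := congrFun hv' i
        simp only [Pi.add_apply, Pi.smul_apply, smul_eq_mul, Pi.zero_apply] at hi ⊢
        field_simp
        linear_combination hi
    let f : {x : F × F // x ≠ 0} →
        Subgroup.centralizer ({g} : Set (Matrix.GeneralLinearGroup (Fin 2) F)) :=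
      fun x => ⟨Matrix.GeneralLinearGroup.mkOfDetNeZero _ (hdet x.1 x.2),
        Subgroup.mem_centralizer_singleton_iff.mpr (Units.ext (by
          show (x.1.1 • (1 : Matrix (Fin 2) (Fin 2) F) + x.1.2 • g.1) * g.1 =
            g.1 * (x.1.1 • 1 + x.1.2 • g.1)
          simp [Matrix.add_mul, Matrix.mul_add]))⟩
    have hf : Function.Bijective f := by
      refine ⟨fun x y h => ?_, ?_⟩
      · have e : x.1.1 • (1 : Matrix (Fin 2) (Fin 2) F) + x.1.2 • g.1 = y.1.1 • 1 + y.1.2 • g.1 :=
          congrArg (fun z => z.1.1) h
        have e10 := congrFun (congrFun e 1) 0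
        have e00 := congrFun (congrFun e 0) 0
        simp [hg10] at e10 e00
        rw [e10] at e00
        exact Subtype.ext (Prod.ext (add_right_cancel e00) e10)
      · rintro ⟨c, hc⟩
        rw [Subgroup.mem_centralizer_singleton_iff] at hc
        have e := congrArg (fun z : Matrix.GeneralLinearGroup (Fin 2) F => z.1) hc
        have e10 := congrFun (congrFun e 1) 0
        have e00 := congrFun (congrFun e 0) 0
        simp [Matrix.mul_apply, Fin.sum_univ_two] at e10 e00
        set b := c.1 1 0 / g.1 1 0 with hb
        have hcb : c.1 = (c.1 0 0 - b * g.1 0 0) • (1 : Matrix (Fin 2) (Fin 2) F) + b • g.1 := by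
          ext i j
          fin_cases i <;> fin_cases j <;> simp [hb] <;> field_simp
          all_goals first | linear_combination e00 | linear_combination -e00 | linear_combination e10 | linear_combination -e10
        refine ⟨⟨(c.1 0 0 - b * g.1 0 0, b), fun e0 => ?_⟩, Subtype.ext (Units.ext hcb.symm)⟩
        have h0 : c.1 = 0 := by
          obtain ⟨e1, e2⟩ := Prod.mk.inj e0
          rw [hcb, e1, e2]
          simp
        exact ((Matrix.isUnit_iff_isUnit_det _).mp c.isUnit).ne_zero (by rw [h0]; simp)
    rw [← Nat.card_congr (Equiv.ofBijective f hf), Nat.card_eq_fintype_card,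
      Fintype.card_subtype_compl, Fintype.card_prod, Fintype.card_subtype_eq, sq]

end Cfsg.Agent.S2303
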