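import Cfsg.Statements.S2307
import Cfsg.Agent.Lib.SL2Char.Table
-- import your own Cfsg.Agent.* helpers here

set_option autoImplicit false
open Cfsg CfsgLib.SL2Char CfsgLib.CharTheory

namespace Cfsg.Agent.S2307

/-- Over a finite field F with q elements, q odd, let α be the multiplicative character of F of order 2. The character of SL₂ induced from the linear character b ↦ α(b₁₁) of the upper triangular subgroup is the sum of two distinct irreducible characters, each of degree (q + 1)/2, which are conjugate under GL₂: some fixed element of GL₂ conjugates the one into the other. -/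
theorem result {F : Type*} [Field F] [Fintype F] [DecidableEq F] (hodd : Odd (Fintype.card F)) (α : MulChar F ℂ)
    (hα : α ^ 2 = 1) (hα1 : α ≠ 1) :
    ∃ χ₁ χ₂ : Matrix.SpecialLinearGroup (Fin 2) F → ℂ, Cfsg.IsIrrCharacter (Matrix.SpecialLinearGroup (Fin 2) F) χ₁ ∧ Cfsg.IsIrrCharacter (Matrix.SpecialLinearGroup (Fin 2) F) χ₂ ∧ χ₁ ≠ χ₂ ∧
      Cfsg.indFun ((Cfsg.upperTriangularGL 2 F).comap Matrix.SpecialLinearGroup.toGL) (fun b => α (((b : Matrix.SpecialLinearGroup (Fin 2) F) : Matrix (Fin 2) (Fin 2) F) 0 0)) = χ₁ + χ₂ ∧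
      χ₁ 1 = (((Fintype.card F + 1) / 2 : ℕ) : ℂ) ∧ χ₂ 1 = (((Fintype.card F + 1) / 2 : ℕ) : ℂ) ∧
      ∃ x : Matrix.GeneralLinearGroup (Fin 2) F, ∀ g h : Matrix.SpecialLinearGroup (Fin 2) F,
        Matrix.SpecialLinearGroup.toGL h = x * Matrix.SpecialLinearGroup.toGL g * x⁻¹ → χ₂ h = χ₁ g := by
  classical
  obtain ⟨C, hC, hcard⟩ := exists_torus (F := F)
  have h2 := CfsgLib.SL2Borel.two_ne_zero_of_odd hodd
  obtain ⟨H⟩ := nonempty_halves C hC hcard h2
  obtain rfl : α = eta F := by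
    have h := mem_quadSet.mpr hα
    rw [quadSet_eq h2] at h
    simpa [hα1] using h
  obtain ⟨ν, hν⟩ := quadraticChar_exists_neg_one (ringChar_ne h2)
  have hν0 : ν ≠ 0 := fun h => by rw [h, MulChar.map_zero] at hν; norm_num at hν
  set x : Matrix.GeneralLinearGroup (Fin 2) F :=
    Matrix.GeneralLinearGroup.mkOfDetNeZero !![ν, 0; 0, 1] (by simpa [Matrix.det_fin_two] using hν0) with hxdef
  refine ⟨H.p₁, H.p₂, H.irr_p₁, H.irr_p₂, H.p_ne, H.p_sum, (H.deg h2).1, (H.deg h2).2.1, x, ?_⟩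
  obtain ⟨D, E, -, -, -, -, hval⟩ := H.values_unip hC hcard h2
  intro g h hgh
  have hmul : h.1 * x.1 = x.1 * g.1 := by
    have e : Matrix.SpecialLinearGroup.toGL h * x = x * Matrix.SpecialLinearGroup.toGL g := by
      rw [hgh, inv_mul_cancel_right]
    exact congrArg Units.val e
  have htr : h.1.trace = g.1.trace := by
    have e : h.1 = x.1 * g.1 * (x⁻¹).1 := congrArg Units.val hgh
    rw [e, Matrix.trace_mul_comm, ← Matrix.mul_assoc, Units.inv_mul, Matrix.one_mul]
  rcases elem_cases g with hg | ⟨a, y, hg⟩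
  · have hh : Ell h := fun s => by rw [htr]; exact hg s
    obtain ⟨c, hc, hcon⟩ := eq_torus_of_ell C hC hcard hg
    obtain ⟨c', hc', hcon'⟩ := eq_torus_of_ell C hC hcard hh
    rw [cl_eq (isClassFunction_irr H.irr_p₁) hcon, cl_eq (isClassFunction_irr H.irr_p₂) hcon',
      (H.values_ell hC hcard h2 c hc).1, (H.values_ell hC hcard h2 c' hc').2.1]
  obtain ⟨k, hk⟩ := isConj_iff.mp hg
  obtain ⟨k', hk'⟩ : ∃ k' : Matrix.SpecialLinearGroup (Fin 2) F,
      Matrix.SpecialLinearGroup.toGL k' = x * Matrix.SpecialLinearGroup.toGL k * x⁻¹ := by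
    refine ⟨⟨x.1 * k.1 * (x⁻¹).1, ?_⟩, Units.ext rfl⟩
    rw [Matrix.det_mul, Matrix.det_mul, k.2, mul_one, ← Matrix.det_mul, Units.mul_inv, Matrix.det_one]
  have hb : IsConj h (bor a (ν * y)) := by
    refine isConj_iff.mpr ⟨k', CfsgLib.SLCard.toGL_injective ?_⟩
    rw [map_mul, map_mul, map_inv, hk', hgh,
      show x * Matrix.SpecialLinearGroup.toGL k * x⁻¹ * (x * Matrix.SpecialLinearGroup.toGL g * x⁻¹) *
          (x * Matrix.SpecialLinearGroup.toGL k * x⁻¹)⁻¹ =
        x * (Matrix.SpecialLinearGroup.toGL k * Matrix.SpecialLinearGroup.toGL g *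
          (Matrix.SpecialLinearGroup.toGL k)⁻¹) * x⁻¹ by group,
      ← map_inv, ← map_mul, ← map_mul, hk, mul_inv_eq_iff_eq_mul]
    refine Units.ext ?_
    show !![ν, 0; 0, 1] * (bor a y).1 = (bor a (ν * y)).1 * !![ν, 0; 0, 1]
    simp [Matrix.mul_fin_two, mul_comm]
  rw [cl_eq (isClassFunction_irr H.irr_p₁) hg, cl_eq (isClassFunction_irr H.irr_p₂) hb]
  by_cases ha : a ^ 2 = 1
  · by_cases hy : y = 0
    · subst hy
      rw [mul_zero, (H.values_scalar hC hcard h2 ha).1, (H.values_scalar hC hcard h2 ha).2.1,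
        (H.deg h2).1, (H.deg h2).2.1]
    · rw [(hval a ha y hy).1, (hval a ha _ (mul_ne_zero hν0 hy)).2.1]
      have : eta F ((a : F) * (ν * y)) = -eta F ((a : F) * y) := by
        rw [mul_left_comm, map_mul, eta_apply ν, hν]; push_cast; ring
      rw [this]; ring
  · rw [(H.values_reg hC hcard h2 ha y).1, (H.values_reg hC hcard h2 ha _).2.1]

end Cfsg.Agent.S2307
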