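import Cfsg.Statements.S2308


set_option autoImplicit false
open Cfsg

namespace Cfsg.Agent.S2308

/-- The line spanned by the first column of `x`, as a point of `Option F`. -/
noncomputable def slope {F : Type*} [Field F] (x : GL (Fin 2) F) : Option F := by
  classical
  exact if x.1 1 0 = 0 then none else some (x.1 0 0 / x.1 1 0)

theorem slope_eq_iff {F : Type*} [Field F] (x y : GL (Fin 2) F) :
    slope x = slope y ↔ x.1 0 0 * y.1 1 0 = x.1 1 0 * y.1 0 0 := by
  classical
  have hx : x.1.det ≠ 0 := ((Matrix.isUnit_iff_isUnit_det _).mp x.isUnit).ne_zero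
  have hy : y.1.det ≠ 0 := ((Matrix.isUnit_iff_isUnit_det _).mp y.isUnit).ne_zero
  rw [Matrix.det_fin_two] at hx hy
  unfold slope
  by_cases h1 : x.1 1 0 = 0 <;> by_cases h2 : y.1 1 0 = 0 <;> simp [h1, h2]
  · intro e
    simp [e, h1] at hx
  · intro e
    simp [e, h2] at hy
  · rw [div_eq_div_iff h1 h2, mul_comm (y.1 0 0)]

theorem mem_upper_iff {F : Type*} [Field F] (x : GL (Fin 2) F) :
    x ∈ Cfsg.upperTriangularGL 2 F ↔ x.1 1 0 = 0 := by
  refine ⟨fun h => h (show (0 : Fin 2) < 1 by decide), fun h i j hij => ?_⟩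
  fin_cases i <;> fin_cases j <;> first | exact absurd hij (by decide) | exact h

theorem slope_eq_iff_coset {F : Type*} [Field F] (x y : GL (Fin 2) F) :
    (x : GL (Fin 2) F ⧸ Cfsg.upperTriangularGL 2 F) = y ↔ slope x = slope y := by
  rw [QuotientGroup.eq, mem_upper_iff, slope_eq_iff, Units.val_mul, Matrix.coe_units_inv,
    Matrix.inv_def, Matrix.smul_mul]
  have hx : IsUnit x.1.det := (Matrix.isUnit_iff_isUnit_det _).mp x.isUnit
  simp only [Matrix.smul_apply, smul_eq_mul, Matrix.mul_apply, Fin.sum_univ_two,
    Matrix.adjugate_fin_two, Matrix.of_apply, Matrix.cons_val', Matrix.cons_val_zero,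
    Matrix.cons_val_one, Matrix.empty_val', Matrix.cons_val_fin_one,
    mul_eq_zero, Ring.inverse_eq_inv', inv_eq_zero, hx.ne_zero, false_or]
  constructor <;> intro h <;> linear_combination h

open scoped Classical in
theorem card_fixedBy {F : Type*} [Field F] [Fintype F] (g : GL (Fin 2) F) :
    Cfsg.fixedPointCharacter (Cfsg.upperTriangularGL 2 F) g =
      ((Finset.univ.filter (fun o : Option F => o.elim (g.1 1 0 = 0)
        (fun t => g.1 0 0 * t + g.1 0 1 = t * (g.1 1 0 * t + g.1 1 1)))).card : ℂ) := by
  classical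
  let φ : GL (Fin 2) F ⧸ Cfsg.upperTriangularGL 2 F → Option F := fun c =>
    Quotient.liftOn' c slope fun x y h =>
      (slope_eq_iff_coset x y).mp (Quotient.sound' h)
  have hφ : Function.Bijective φ := by
    refine ⟨fun a b => ?_, ?_⟩
    · induction a using QuotientGroup.induction_on with | H x => ?_
      induction b using QuotientGroup.induction_on with | H y => ?_
      exact (slope_eq_iff_coset x y).mpr
    · rintro (_ | t)
      · exact ⟨((1 : GL (Fin 2) F) : _ ⧸ _), by show slope _ = _; simp [slope]⟩
      · exact ⟨((Matrix.GeneralLinearGroup.mkOfDetNeZero !![t, 1; 1, 0] (by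
          simp [Matrix.det_fin_two_of]) : GL (Fin 2) F) : _ ⧸ _),
          by show slope _ = _; simp [slope]⟩
  show ((Nat.card (MulAction.fixedBy (GL (Fin 2) F ⧸ Cfsg.upperTriangularGL 2 F) g) : ℕ) : ℂ) = _
  rw [← Fintype.card_subtype, ← Nat.card_eq_fintype_card]
  congr 1
  refine Nat.card_congr (Equiv.subtypeEquiv (Equiv.ofBijective φ hφ) fun a => ?_)
  induction a using QuotientGroup.induction_on with | H x => ?_
  show ((g * x : GL (Fin 2) F) : GL (Fin 2) F ⧸ Cfsg.upperTriangularGL 2 F) = x ↔
    Option.elim (slope x) _ _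
  rw [slope_eq_iff_coset, slope_eq_iff]
  have hd : x.1.det ≠ 0 := ((Matrix.isUnit_iff_isUnit_det _).mp x.isUnit).ne_zero
  rw [Matrix.det_fin_two] at hd
  simp only [Units.val_mul, Matrix.mul_apply, Fin.sum_univ_two, slope]
  split_ifs with h
  · simp only [h, Option.elim_none, mul_zero, add_zero, zero_add] at hd ⊢
    have h00 : x.1 0 0 ≠ 0 := left_ne_zero_of_mul (sub_ne_zero.mp hd)
    constructor
    · intro e
      simpa [h00] using e.symm
    · intro e
      simp [e]
  · simp only [Option.elim_some]
    constructor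
    · intro e
      field_simp
      linear_combination e
    · intro e
      field_simp at e
      linear_combination e


/-- Values of the permutation character of GL₂ over a finite field F with q elements on the cosets of its upper triangular subgroup (equivalently, the number of lines of F² that an element maps to themselves): q + 1 at a scalar matrix, 2 at a diagonal matrix with two different diagonal entries, 0 at an element with no eigenvector in F², and 1 at an upper triangular matrix with equal diagonal entries and non-zero upper right entry. -/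
theorem result {F : Type*} [Field F] [Fintype F] (g : Matrix.GeneralLinearGroup (Fin 2) F) :
    ((∃ a : F, (g : Matrix (Fin 2) (Fin 2) F) = a • (1 : Matrix (Fin 2) (Fin 2) F)) → Cfsg.fixedPointCharacter (Cfsg.upperTriangularGL 2 F) g = Fintype.card F + 1) ∧
    ((g : Matrix (Fin 2) (Fin 2) F) 0 1 = 0 → (g : Matrix (Fin 2) (Fin 2) F) 1 0 = 0 → (g : Matrix (Fin 2) (Fin 2) F) 0 0 ≠ (g : Matrix (Fin 2) (Fin 2) F) 1 1 →
      Cfsg.fixedPointCharacter (Cfsg.upperTriangularGL 2 F) g = 2) ∧
    ((∀ (c : F) (v : Fin 2 → F), v ≠ 0 → (g : Matrix (Fin 2) (Fin 2) F).mulVec v ≠ c • v) → Cfsg.fixedPointCharacter (Cfsg.upperTriangularGL 2 F) g = 0) ∧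
    ((g : Matrix (Fin 2) (Fin 2) F) 1 0 = 0 → (g : Matrix (Fin 2) (Fin 2) F) 0 0 = (g : Matrix (Fin 2) (Fin 2) F) 1 1 → (g : Matrix (Fin 2) (Fin 2) F) 0 1 ≠ 0 →
      Cfsg.fixedPointCharacter (Cfsg.upperTriangularGL 2 F) g = 1) := by
  classical
  have key : Cfsg.fixedPointCharacter (Cfsg.upperTriangularGL 2 F) g =
      ((Finset.univ.filter (fun o : Option F => o.elim ((g : Matrix (Fin 2) (Fin 2) F) 1 0 = 0)
        (fun t => (g : Matrix (Fin 2) (Fin 2) F) 0 0 * t + (g : Matrix (Fin 2) (Fin 2) F) 0 1 =
          t * ((g : Matrix (Fin 2) (Fin 2) F) 1 0 * t + (g : Matrix (Fin 2) (Fin 2) F) 1 1)))).card : ℂ) := by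
    exact card_fixedBy g
  refine ⟨fun ⟨a, ha⟩ => ?_, fun h01 h10 hne => ?_, fun heig => ?_, fun h10 hd h01 => ?_⟩ <;>
    rw [key]
  · rw [Finset.filter_true_of_mem, Finset.card_univ, Fintype.card_option]
    · push_cast; rfl
    · rintro (_ | t) -
      · simp [ha]
      · simp [ha]; ring
  · rw [show (Finset.univ.filter _) = ({none, some 0} : Finset (Option F)) from ?_]
    · simp
    ext o
    rcases o with _ | t
    · simp [h10]
    · simp only [Finset.mem_filter, Finset.mem_univ, true_and, Option.elim_some, h01, h10,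
        Finset.mem_insert, Finset.mem_singleton, reduceCtorEq, Option.some.injEq, false_or]
      refine ⟨fun e => ?_, fun e => by simp [e]⟩
      by_contra ht
      exact hne (mul_left_cancel₀ ht (by linear_combination e))
  · rw [Finset.filter_false_of_mem]
    · simp
    · rintro (_ | t) - h
      · exact heig (g.1 0 0) (Pi.single 0 1) (by simp [Pi.single_eq_zero_iff]) (by
          funext i; fin_cases i <;> simp at h ⊢; exact h)
      · refine heig (g.1 1 0 * t + g.1 1 1) ![t, 1] (fun e => ?_) ?_
        · simpa using congrFun e 1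
        · simp only [Option.elim_some] at h
          funext i
          fin_cases i <;> simp [Matrix.mulVec, dotProduct, Fin.sum_univ_two]
          linear_combination h
  · rw [show (Finset.univ.filter _) = ({none} : Finset (Option F)) from ?_]
    · simp
    ext o
    rcases o with _ | t
    · simp [h10]
    · simp only [Finset.mem_filter, Finset.mem_univ, true_and, Option.elim_some, h10,
        Finset.mem_singleton, reduceCtorEq, iff_false]
      intro e
      exact h01 (by linear_combination e - t * hd)

end Cfsg.Agent.S2308
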