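import Cfsg.Statements.S2309
import Cfsg.Agent.Lib.GL2Char.Classify
-- import your own Cfsg.Agent.* helpers here

set_option autoImplicit false
open Cfsg CfsgLib.GL2Char CfsgLib.CharTheory

namespace Cfsg.Agent.S2309

/-- Over a finite field F with q elements: every irreducible complex character of GL₂ of degree q − 1 vanishes at every diagonal matrix with two distinct entries, and every irreducible complex character of degree q + 1 vanishes at every element with no eigenvector in F². -/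
theorem result {F : Type*} [Field F] [Fintype F] (χ : Matrix.GeneralLinearGroup (Fin 2) F → ℂ) (hχ : Cfsg.IsIrrCharacter (Matrix.GeneralLinearGroup (Fin 2) F) χ) (g : Matrix.GeneralLinearGroup (Fin 2) F) :
    (χ 1 = (Fintype.card F : ℂ) - 1 → (g : Matrix (Fin 2) (Fin 2) F) 0 1 = 0 → (g : Matrix (Fin 2) (Fin 2) F) 1 0 = 0 → (g : Matrix (Fin 2) (Fin 2) F) 0 0 ≠ (g : Matrix (Fin 2) (Fin 2) F) 1 1 → χ g = 0) ∧
    (χ 1 = (Fintype.card F : ℂ) + 1 → (∀ (c : F) (v : Fin 2 → F), v ≠ 0 → (g : Matrix (Fin 2) (Fin 2) F).mulVec v ≠ c • v) → χ g = 0) := by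
  classical
  obtain ⟨C, hC, hcard, hZ⟩ := exists_torus (F := F)
  refine ⟨fun hd h01 h10 hne => ?_, fun hd hno => ?_⟩
  · obtain ⟨a, b, hab, rfl⟩ := eq_bor_of_diag h01 h10 hne
    rcases eq_ds_of_degree C hC hcard hZ hχ hd with ⟨θ, -, rfl⟩ | ⟨h2, -⟩
    · exact ds_bor_ne C hC hcard hZ θ hab 0
    · have hsub : Subsingleton Fˣ := Fintype.card_le_one_iff_subsingleton.mp (by rw [Fintype.card_units]; omega)
      exact absurd (Subsingleton.elim a b) hab
  · obtain ⟨α, β, -, rfl⟩ := eq_ps_of_degree C hC hcard hZ hχ hd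
    exact ps_ell α β ((noEigen_iff g).mp hno)

end Cfsg.Agent.S2309
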