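import Cfsg.Statements.S2310
import Cfsg.Agent.Lib.GL2Char.Classify
-- import your own Cfsg.Agent.* helpers here

set_option autoImplicit false
open Cfsg CfsgLib.GL2Char CfsgLib.CharTheory

namespace Cfsg.Agent.S2310

/-- Over a finite field F with q ≥ 3 elements, let u be the upper unitriangular matrix of GL₂ with off-diagonal entry 1. An irreducible complex character χ of GL₂ takes at u the value 1 if χ has degree 1 or q + 1, the value −1 if χ has degree q − 1, and the value 0 if χ has degree q. -/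
theorem result {F : Type*} [Field F] [Fintype F] (hq : 3 ≤ Fintype.card F) (χ : Matrix.GeneralLinearGroup (Fin 2) F → ℂ) (hχ : Cfsg.IsIrrCharacter (Matrix.GeneralLinearGroup (Fin 2) F) χ)
    (u : Matrix.GeneralLinearGroup (Fin 2) F) (hu : (u : Matrix (Fin 2) (Fin 2) F) = !![1, 1; 0, 1]) :
    (χ 1 = 1 → χ u = 1) ∧ (χ 1 = (Fintype.card F : ℂ) + 1 → χ u = 1) ∧
    (χ 1 = (Fintype.card F : ℂ) - 1 → χ u = -1) ∧ (χ 1 = (Fintype.card F : ℂ) → χ u = 0) := by
  classical
  obtain ⟨C, hC, hcard, hZ⟩ := exists_torus (F := F)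
  obtain rfl := eq_bor_unip hu
  refine ⟨fun h => ?_, fun h => ?_, fun h => ?_, fun h => ?_⟩
  · obtain ⟨l, rfl⟩ := eq_lam_of_degree C hC hcard hZ hq hχ h
    rw [lam_bor]; simp
  · obtain ⟨α, β, -, rfl⟩ := eq_ps_of_degree C hC hcard hZ hχ h
    rw [ps_bor_unip α β 1 one_ne_zero]; simp
  · rcases eq_ds_of_degree C hC hcard hZ hχ h with ⟨θ, -, rfl⟩ | ⟨h2, -⟩
    · rw [ds_bor_unip C hC hcard hZ θ 1 one_ne_zero]; simp
    · omega
  · obtain ⟨l, rfl⟩ := eq_st_of_degree C hC hcard hZ hχ h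
    exact st_bor_unip l 1 one_ne_zero

end Cfsg.Agent.S2310
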