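import Cfsg.Statements.S2328
import Cfsg.Agent.Lib.Chev.SteinbergChar
import Cfsg.Agent.S0165
-- import your own Cfsg.Agent.* helpers here

set_option autoImplicit false
open Cfsg

namespace Cfsg.Agent.S2328

/-- In a Chevalley group of type G₂, B₂, D₄, F₄, E₆, E₇ or E₈ over a finite field of characteristic p, the Steinberg character vanishes at every element whose order is divisible by p (every element that is not semisimple). -/
theorem result {F : Type*} [Field F] [Fintype F] (p : ℕ) [Fact p.Prime] [CharP F p] (D : Cfsg.Lie.ChevalleyDatum) (hD : D ∈ [Cfsg.Lie.chevG2, Cfsg.Lie.chevB2, Cfsg.Lie.chevD4, Cfsg.Lie.chevF4, Cfsg.Lie.chevE6, Cfsg.Lie.chevE7, Cfsg.Lie.chevE8]) (g : ↥(D.group F)) (hg : p ∣ orderOf g) :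
    D.steinbergCharacter F g = 0 := by
  obtain ⟨Φ⟩ := CfsgLib.Chev.exists_chev hD
  obtain ⟨n, ρ, hρ, hχ⟩ := Φ.steinberg_irr (F := F)
  obtain ⟨m, k, hm, hk, hc⟩ := Φ.card_group_split (F := F) p
  have hdeg := Φ.steinberg_one (F := F)
  rw [← hχ, ρ.char_one] at hdeg
  have hN : Module.finrank ℂ (Fin n → ℂ) = p ^ (k * (D.nroots / 2)) := by
    have h : Module.finrank ℂ (Fin n → ℂ) = Nat.card F ^ (D.nroots / 2) := by exact_mod_cast hdeg
    rw [h, hk, pow_mul]
  rw [← hχ]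
  rw [hk, ← pow_mul] at hc
  refine Cfsg.Agent.S0165.result ρ p (k * (D.nroots / 2)) Fact.out ⟨m, hc⟩ ?_ (hN ▸ dvd_rfl) g hg
  rintro ⟨c, hc'⟩
  rw [hc, pow_succ, mul_assoc] at hc'
  exact hm ⟨c, Nat.eq_of_mul_eq_mul_left (pow_pos (Fact.out : p.Prime).pos _) hc'⟩

end Cfsg.Agent.S2328
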