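import Cfsg.Statements.S2315
import Cfsg.Agent.Lib.NilpotentCount
import Cfsg.Agent.Lib.Unipotent

set_option autoImplicit false
open Cfsg

namespace Cfsg.Agent.S2315

/-- Steinberg's count of unipotent elements for the general linear group: over a finite field with q elements of characteristic p, the number of elements of GL_n of p-power order (the unipotent matrices) is q^(n(n−1)). -/
theorem result {F : Type*} [Field F] [Fintype F] (p : ℕ) [Fact p.Prime] [CharP F p] (n : ℕ) :
    Nat.card {g : Matrix.GeneralLinearGroup (Fin n) F // ∃ k : ℕ, orderOf g = p ^ k} = Fintype.card F ^ (n * (n - 1)) := by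
  classical
  rw [← CfsgLib.NilpotentCount.nilCount_eq (F := F) n]
  refine Nat.card_congr ?_
  refine Equiv.trans ?_ (Equiv.subtypeEquiv (Matrix.toLinAlgEquiv' (R := F) (n := Fin n)).toEquiv
    (p := fun N : Matrix (Fin n) (Fin n) F => IsNilpotent N) fun N =>
      (IsNilpotent.map_iff (f := (Matrix.toLinAlgEquiv' (R := F) (n := Fin n))) (AlgEquiv.injective _)).symm)
  refine
    { toFun := fun g => ⟨g.1.1 - 1, ?_⟩
      invFun := fun N => ⟨(IsNilpotent.isUnit_one_add N.2).unit, ?_⟩
      left_inv := fun g => Subtype.ext (Units.ext (by simp))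
      right_inv := fun N => Subtype.ext (by simp) }
  · obtain ⟨g, k, hk⟩ := g
    exact CfsgLib.Unipotent.isNilpotent_of_pow p (j := k) (by rw [← hk, pow_orderOf_eq_one])
  · set u := (IsNilpotent.isUnit_one_add N.2).unit
    have hu : IsNilpotent (u.1 - 1) := by simpa [u] using N.2
    obtain ⟨i, -, hi⟩ := (Nat.dvd_prime_pow (Fact.out : p.Prime)).mp
      (orderOf_dvd_of_pow_eq_one (CfsgLib.Unipotent.pow_clog_eq_one p hu))
    exact ⟨i, hi⟩

end Cfsg.Agent.S2315
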