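import Cfsg.Statements.S2318
import Cfsg.Agent.Lib.DefectZero.Residue
import Cfsg.Agent.Lib.Chev.DefectZero
import Cfsg.Agent.Lib.Chev.SteinbergChar
-- import your own Cfsg.Agent.* helpers here

set_option autoImplicit false
open Cfsg

namespace Cfsg.Agent.S2318

/-- In a Chevalley group of type G₂, B₂, D₄, F₄, E₆, E₇ or E₈ over a finite field of characteristic p (for types G₂ and B₂ the field is assumed to have at least 3 elements, so that the group is perfect), the Steinberg character is the only irreducible complex character whose degree is divisible by the full power of p dividing the group order (the only irreducible character of p-defect zero). -/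
theorem result {F : Type*} [Field F] [Fintype F] (p : ℕ) [Fact p.Prime] [CharP F p] (D : Cfsg.Lie.ChevalleyDatum) (hD : D ∈ [Cfsg.Lie.chevG2, Cfsg.Lie.chevB2, Cfsg.Lie.chevD4, Cfsg.Lie.chevF4, Cfsg.Lie.chevE6, Cfsg.Lie.chevE7, Cfsg.Lie.chevE8]) (hq : (D = Cfsg.Lie.chevG2 ∨ D = Cfsg.Lie.chevB2) → 3 ≤ Fintype.card F)
    (χ : ↥(D.group F) → ℂ) (hχ : Cfsg.IsIrrCharacter ↥(D.group F) χ)
    (hdeg : ∃ d : ℕ, χ 1 = (d : ℂ) ∧ p ^ (Nat.card ↥(D.group F)).factorization p ∣ d) :
    χ = D.steinbergCharacter F := by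
  classical
  obtain ⟨Φ⟩ := CfsgLib.Chev.exists_chev hD
  haveI : Fintype ↥(D.group F) := Fintype.ofFinite _
  obtain ⟨m, k, hpm, hk, hcard⟩ := Φ.card_group_split (F := F) p
  have hp : p.Prime := Fact.out
  have hm0 : m ≠ 0 := fun h => hpm (h ▸ dvd_zero p)
  have hfac : (Nat.card ↥(D.group F)).factorization p = k * (D.nroots / 2) := by
    rw [hcard, hk, ← pow_mul, Nat.factorization_mul (pow_ne_zero _ hp.ne_zero) hm0, hp.factorization_pow]
    simp [Nat.factorization_eq_zero_of_not_dvd hpm]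
  have key : ∀ (ψ : ↥(D.group F) → ℂ) (hψ : Cfsg.IsIrrCharacter ↥(D.group F) ψ) (d : ℕ),
      ψ 1 = (d : ℂ) → p ^ (Nat.card ↥(D.group F)).factorization p ∣ d →
      CfsgLib.Blocks.IsDefZero p (⟨ψ, hψ⟩ : Cfsg.IrrCharacter ↥(D.group F)) := by
    intro ψ hψ d h1 hd
    set χ' : Cfsg.IrrCharacter ↥(D.group F) := ⟨ψ, hψ⟩
    have hcd : Cfsg.charDegree ψ = d := by simp [Cfsg.charDegree, h1]
    have hd0 : d ≠ 0 := by
      rw [← hcd]; exact (CfsgLib.Blocks.irr_charDegree_pos χ').ne'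
    show (Cfsg.charDegree ψ).factorization p = _
    have hdvd := CfsgLib.Blocks.charDegree_dvd_card χ'
    rw [show Cfsg.charDegree (χ' : ↥(D.group F) → ℂ) = d from hcd] at hdvd
    rw [hcd]
    exact le_antisymm ((Nat.factorization_le_iff_dvd hd0 Nat.card_pos.ne').2 hdvd p)
      ((hp.pow_dvd_iff_le_factorization hd0).1 hd)
  obtain ⟨d, hd1, hd2⟩ := hdeg
  have hst := key _ Φ.steinberg_irr (p ^ (k * (D.nroots / 2)))
    (by rw [Φ.steinberg_one, hk]; push_cast; rw [← pow_mul]) (by rw [hfac])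
  exact congrArg Subtype.val
    (CfsgLib.DefectZeroBN.defZero_unique (Φ.defectDatum F p) ⟨χ, hχ⟩
      ⟨_, Φ.steinberg_irr⟩ (key χ hχ d hd1 hd2) hst)

end Cfsg.Agent.S2318
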