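import Cfsg.Statements.S2320
import Cfsg.Agent.Lib.GL2Char.Classify
-- import your own Cfsg.Agent.* helpers here

set_option autoImplicit false
open Cfsg CfsgLib.GL2Char CfsgLib.CharTheory

namespace Cfsg.Agent.S2320

/-- Over a finite field F with q elements, every irreducible complex character of GL₂ of degree q takes a value of absolute value 1 at every diagonal matrix with two different diagonal entries and at every element with no eigenvector in F². -/
theorem result {F : Type*} [Field F] [Fintype F] (χ : Matrix.GeneralLinearGroup (Fin 2) F → ℂ) (hχ : Cfsg.IsIrrCharacter (Matrix.GeneralLinearGroup (Fin 2) F) χ) (hdeg : χ 1 = (Fintype.card F : ℂ)) (g : Matrix.GeneralLinearGroup (Fin 2) F) :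
    ((g : Matrix (Fin 2) (Fin 2) F) 0 1 = 0 → (g : Matrix (Fin 2) (Fin 2) F) 1 0 = 0 → (g : Matrix (Fin 2) (Fin 2) F) 0 0 ≠ (g : Matrix (Fin 2) (Fin 2) F) 1 1 → ‖χ g‖ = 1) ∧
    ((∀ (c : F) (v : Fin 2 → F), v ≠ 0 → (g : Matrix (Fin 2) (Fin 2) F).mulVec v ≠ c • v) → ‖χ g‖ = 1) := by
  classical
  obtain ⟨C, hC, hcard, hZ⟩ := exists_torus (F := F)
  obtain ⟨l, rfl⟩ := eq_st_of_degree C hC hcard hZ hχ hdeg
  have hnorm : ∀ u : Fˣ, ‖l (u : F)‖ = 1 := fun u => by
    refine Complex.norm_eq_one_of_pow_eq_one (n := Fintype.card Fˣ) ?_ Fintype.card_ne_zero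
    rw [← map_pow, ← Units.val_pow_eq_pow_val, pow_card_eq_one, Units.val_one, map_one]
  refine ⟨fun h01 h10 hne => ?_, fun hno => ?_⟩
  · obtain ⟨a, b, hab, rfl⟩ := eq_bor_of_diag h01 h10 hne
    rw [st_bor_ne l hab, norm_mul, hnorm, hnorm, one_mul]
  · rw [st_ell l ((noEigen_iff g).mp hno), norm_neg]
    exact hnorm (Units.mk0 _ (det_ne g))

end Cfsg.Agent.S2320
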