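import Cfsg.Statements.S2321
import Cfsg.Agent.Lib.SL2Char.Table
-- import your own Cfsg.Agent.* helpers here

set_option autoImplicit false
open Cfsg CfsgLib.SL2Char CfsgLib.CharTheory

namespace Cfsg.Agent.S2321

/-- Over a finite field F with q elements, an irreducible complex character of SL₂ of degree q (the Steinberg character) takes the value 1 at every diagonal matrix whose diagonal entry a has a² ≠ 1, the value −1 at every element with no eigenvector in F², and the value 0 at every upper triangular matrix with equal diagonal entries and non-zero upper right entry. -/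
theorem result {F : Type*} [Field F] [Fintype F] (χ : Matrix.SpecialLinearGroup (Fin 2) F → ℂ) (hχ : Cfsg.IsIrrCharacter (Matrix.SpecialLinearGroup (Fin 2) F) χ) (hdeg : χ 1 = (Fintype.card F : ℂ)) (g : Matrix.SpecialLinearGroup (Fin 2) F) :
    ((g : Matrix (Fin 2) (Fin 2) F) 0 1 = 0 → (g : Matrix (Fin 2) (Fin 2) F) 1 0 = 0 → (g : Matrix (Fin 2) (Fin 2) F) 0 0 ^ 2 ≠ 1 → χ g = 1) ∧
    ((∀ (c : F) (v : Fin 2 → F), v ≠ 0 → (g : Matrix (Fin 2) (Fin 2) F).mulVec v ≠ c • v) → χ g = -1) ∧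
    ((g : Matrix (Fin 2) (Fin 2) F) 1 0 = 0 → (g : Matrix (Fin 2) (Fin 2) F) 0 0 = (g : Matrix (Fin 2) (Fin 2) F) 1 1 → (g : Matrix (Fin 2) (Fin 2) F) 0 1 ≠ 0 → χ g = 0) := by
  classical
  obtain ⟨C, hC, hcard⟩ := exists_torus (F := F)
  obtain rfl := eq_st_of_degree C hC hcard hχ hdeg
  refine ⟨fun h01 h10 ha => ?_, fun hno => st_ell ((noEigen_iff g).mp hno), fun h10 h00 h01 => ?_⟩
  · obtain ⟨a, -, ha', rfl⟩ := eq_bor_of_diag h01 h10 ha
    exact st_bor_ne ha' 0
  · obtain ⟨a, x, ea, ea', ex, rfl⟩ := eq_bor_of_lower h10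
    rw [← ea, ← ea'] at h00
    refine st_bor_unip ?_ (by rw [ex]; exact h01)
    rw [sq]
    exact mul_eq_one_iff_eq_inv.mpr (Units.ext h00)

end Cfsg.Agent.S2321
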