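import Cfsg.Statements.S2322
import Cfsg.Agent.Lib.SL2Char.Table
-- import your own Cfsg.Agent.* helpers here

set_option autoImplicit false
open Cfsg CfsgLib.SL2Char CfsgLib.CharTheory

namespace Cfsg.Agent.S2322

/-- Over a finite field F with q elements, q odd: every irreducible complex character of SL₂ of degree q − 1 or (q − 1)/2 vanishes at every diagonal matrix whose diagonal entry a has a² ≠ 1, and every irreducible complex character of degree q + 1 or (q + 1)/2 vanishes at every element with no eigenvector in F². -/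
theorem result {F : Type*} [Field F] [Fintype F] (hodd : Odd (Fintype.card F)) (χ : Matrix.SpecialLinearGroup (Fin 2) F → ℂ) (hχ : Cfsg.IsIrrCharacter (Matrix.SpecialLinearGroup (Fin 2) F) χ) (g : Matrix.SpecialLinearGroup (Fin 2) F) :
    ((χ 1 = (Fintype.card F : ℂ) - 1 ∨ χ 1 = (((Fintype.card F - 1) / 2 : ℕ) : ℂ)) →
      (g : Matrix (Fin 2) (Fin 2) F) 0 1 = 0 → (g : Matrix (Fin 2) (Fin 2) F) 1 0 = 0 → (g : Matrix (Fin 2) (Fin 2) F) 0 0 ^ 2 ≠ 1 → χ g = 0) ∧
    ((χ 1 = (Fintype.card F : ℂ) + 1 ∨ χ 1 = (((Fintype.card F + 1) / 2 : ℕ) : ℂ)) →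
      (∀ (c : F) (v : Fin 2 → F), v ≠ 0 → (g : Matrix (Fin 2) (Fin 2) F).mulVec v ≠ c • v) → χ g = 0) := by
  classical
  obtain ⟨C, hC, hcard⟩ := exists_torus (F := F)
  have h2 := CfsgLib.SL2Borel.two_ne_zero_of_odd hodd
  constructor
  · intro hd h01 h10 ha
    obtain ⟨a, -, ha', rfl⟩ := eq_bor_of_diag h01 h10 ha
    have hthree : ¬ Fintype.card F = 3 := by
      intro h3
      have h := ha'
      apply h
      apply Units.ext
      have hp : a ^ (Fintype.card Fˣ) = 1 := pow_card_eq_one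
      rw [Fintype.card_units, h3] at hp
      rw [show a ^ 2 = 1 from hp]
    rcases hd with hd | hd
    · rcases eq_ds_of_degree C hC hcard hχ hd with ⟨θ, -, rfl⟩ | ⟨hq, -⟩ | ⟨h3, -⟩
      · exact ds_bor_ne C hcard θ ha' 0
      · rw [hq] at hodd; exact absurd hodd (by decide)
      · exact absurd h3 hthree
    · rcases eq_m_of_degree C hC hcard h2 hχ hd with ⟨H, rfl | rfl⟩ | ⟨h3, -⟩
      · exact (H.values_reg hC hcard h2 ha' 0).2.2.1
      · exact (H.values_reg hC hcard h2 ha' 0).2.2.2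
      · exact absurd h3 hthree
  · intro hd hno
    obtain ⟨c, hc, hcon⟩ := eq_torus_of_ell C hC hcard ((noEigen_iff g).mp hno)
    rw [cl_eq (isClassFunction_irr hχ) hcon]
    rcases hd with hd | hd
    · obtain ⟨α, -, rfl⟩ := eq_ps_of_degree C hC hcard hχ hd
      exact ps_ell α hc
    · rcases eq_p_of_degree C hC hcard h2 hχ hd with ⟨H, rfl | rfl⟩ | ⟨h3, θ, hθ, rfl⟩
      · exact (H.values_ell hC hcard h2 c hc).1
      · exact (H.values_ell hC hcard h2 c hc).2.1
      · rw [ds_ell C hC hcard θ c hc, theta_add_inv_eq_zero C hcard hC h3 hθ c hc, neg_zero]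

end Cfsg.Agent.S2322
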