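import Cfsg.Statements.S2323
import Cfsg.Agent.Lib.SL2Char.Table
-- import your own Cfsg.Agent.* helpers here

set_option autoImplicit false
open Cfsg CfsgLib.SL2Char CfsgLib.CharTheory

namespace Cfsg.Agent.S2323

/-- Over a finite field F with q ≥ 4 elements, let u be the upper unitriangular matrix of SL₂ with off-diagonal entry 1. An irreducible complex character of SL₂ takes at u the value 1 if its degree is q + 1 and the value −1 if its degree is q − 1. -/
theorem result {F : Type*} [Field F] [Fintype F] (hq : 4 ≤ Fintype.card F) (χ : Matrix.SpecialLinearGroup (Fin 2) F → ℂ) (hχ : Cfsg.IsIrrCharacter (Matrix.SpecialLinearGroup (Fin 2) F) χ)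
    (u : Matrix.SpecialLinearGroup (Fin 2) F) (hu : (u : Matrix (Fin 2) (Fin 2) F) = !![1, 1; 0, 1]) :
    (χ 1 = (Fintype.card F : ℂ) + 1 → χ u = 1) ∧ (χ 1 = (Fintype.card F : ℂ) - 1 → χ u = -1) := by
  classical
  obtain ⟨C, hC, hcard⟩ := exists_torus (F := F)
  have hu' : u = bor 1 1 := Subtype.ext (by rw [hu]; simp)
  subst hu'
  constructor
  · intro hd
    obtain ⟨α, -, rfl⟩ := eq_ps_of_degree C hC hcard hχ hd
    rw [ps_bor_unip α (one_pow 2) one_ne_zero, Units.val_one, map_one]
  · intro hd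
    rcases eq_ds_of_degree C hC hcard hχ hd with ⟨θ, -, rfl⟩ | ⟨h, -⟩ | ⟨h, -⟩
    · rw [ds_bor_unip C hC hcard θ (one_pow 2) one_ne_zero,
        show (⟨bor 1 0, bor_scalar_mem C hC hcard 1 (one_pow 2)⟩ : C) = 1 from Subtype.ext bor_one, map_one,
        Units.val_one]
    · omega
    · omega

end Cfsg.Agent.S2323
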