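import Cfsg.Statements.S2324
import Cfsg.Agent.Lib.SL2Char.Table
-- import your own Cfsg.Agent.* helpers here

set_option autoImplicit false
open Cfsg CfsgLib.SL2Char CfsgLib.CharTheory

namespace Cfsg.Agent.S2324

/-- Over a finite field F with q elements, q odd and q ≥ 5, let u be the upper unitriangular matrix of SL₂ with off-diagonal entry 1 and let δ = (−1)^((q−1)/2). Every irreducible complex character χ of SL₂ of degree (q + 1)/2 satisfies (2χ(u) − 1)² = δq, and every irreducible complex character χ of degree (q − 1)/2 satisfies (2χ(u) + 1)² = δq; that is, χ(u) = (1 ± √(δq))/2 in the first case and χ(u) = (−1 ± √(δq))/2 in the second. Moreover two different irreducible characters of degree (q + 1)/2 take the two different values (their values at u add up to 1), and likewise for degree (q − 1)/2 (values adding up to −1). -/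
theorem result {F : Type*} [Field F] [Fintype F] (hodd : Odd (Fintype.card F)) (hq : 5 ≤ Fintype.card F)
    (u : Matrix.SpecialLinearGroup (Fin 2) F) (hu : (u : Matrix (Fin 2) (Fin 2) F) = !![1, 1; 0, 1]) :
    (∀ χ : Matrix.SpecialLinearGroup (Fin 2) F → ℂ, Cfsg.IsIrrCharacter (Matrix.SpecialLinearGroup (Fin 2) F) χ → χ 1 = (((Fintype.card F + 1) / 2 : ℕ) : ℂ) → (2 * χ u - 1) ^ 2 = (-1 : ℂ) ^ ((Fintype.card F - 1) / 2) * (Fintype.card F : ℂ)) ∧
    (∀ χ : Matrix.SpecialLinearGroup (Fin 2) F → ℂ, Cfsg.IsIrrCharacter (Matrix.SpecialLinearGroup (Fin 2) F) χ → χ 1 = (((Fintype.card F - 1) / 2 : ℕ) : ℂ) → (2 * χ u + 1) ^ 2 = (-1 : ℂ) ^ ((Fintype.card F - 1) / 2) * (Fintype.card F : ℂ)) ∧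
    (∀ χ₁ χ₂ : Matrix.SpecialLinearGroup (Fin 2) F → ℂ, Cfsg.IsIrrCharacter (Matrix.SpecialLinearGroup (Fin 2) F) χ₁ → Cfsg.IsIrrCharacter (Matrix.SpecialLinearGroup (Fin 2) F) χ₂ → χ₁ ≠ χ₂ →
      χ₁ 1 = (((Fintype.card F + 1) / 2 : ℕ) : ℂ) → χ₂ 1 = (((Fintype.card F + 1) / 2 : ℕ) : ℂ) → χ₁ u + χ₂ u = 1) ∧
    (∀ χ₁ χ₂ : Matrix.SpecialLinearGroup (Fin 2) F → ℂ, Cfsg.IsIrrCharacter (Matrix.SpecialLinearGroup (Fin 2) F) χ₁ → Cfsg.IsIrrCharacter (Matrix.SpecialLinearGroup (Fin 2) F) χ₂ → χ₁ ≠ χ₂ →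
      χ₁ 1 = (((Fintype.card F - 1) / 2 : ℕ) : ℂ) → χ₂ 1 = (((Fintype.card F - 1) / 2 : ℕ) : ℂ) → χ₁ u + χ₂ u = -1) := by
  classical
  obtain ⟨C, hC, hcard⟩ := exists_torus (F := F)
  have h2 := CfsgLib.SL2Borel.two_ne_zero_of_odd hodd
  obtain ⟨H⟩ := nonempty_halves C hC hcard h2
  have hu' : u = bor 1 1 := Subtype.ext (by rw [hu]; simp)
  subst hu'
  obtain ⟨D, E, hD, hE, -, -, hval⟩ := H.values_unip hC hcard h2
  obtain ⟨v1, v2, v3, v4⟩ := hval 1 (one_pow 2) 1 one_ne_zero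
  have hone : (⟨bor 1 0, bor_scalar_mem C hC hcard 1 (one_pow 2)⟩ : C) = 1 := Subtype.ext bor_one
  simp only [Units.val_one, one_mul, map_one, hone] at v1 v2 v3 v4
  rw [eta_neg_one h2] at hD hE
  refine ⟨fun χ hχ hd => ?_, fun χ hχ hd => ?_, fun χ₁ χ₂ h₁ h₂ hne hd₁ hd₂ => ?_,
    fun χ₁ χ₂ h₁ h₂ hne hd₁ hd₂ => ?_⟩
  · rcases (H.mem_of_degree C hC hcard h2 hq hχ).1 hd with rfl | rfl
    · rw [v1, ← hD]; ring
    · rw [v2, ← hD]; ring
  · rcases (H.mem_of_degree C hC hcard h2 hq hχ).2 hd with rfl | rfl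
    · rw [v3, ← hE]; ring
    · rw [v4, ← hE]; ring
  · rcases (H.mem_of_degree C hC hcard h2 hq h₁).1 hd₁ with rfl | rfl <;>
      rcases (H.mem_of_degree C hC hcard h2 hq h₂).1 hd₂ with rfl | rfl <;>
      first | exact absurd rfl hne | (rw [v1, v2]; ring)
  · rcases (H.mem_of_degree C hC hcard h2 hq h₁).2 hd₁ with rfl | rfl <;>
      rcases (H.mem_of_degree C hC hcard h2 hq h₂).2 hd₂ with rfl | rfl <;>
      first | exact absurd rfl hne | (rw [v3, v4]; ring)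

end Cfsg.Agent.S2324
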