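import Cfsg.Statements.S2325
import Cfsg.Agent.Lib.SL2Centralizer
import Cfsg.Agent.Lib.TwoByTwo
import Mathlib.NumberTheory.LegendreSymbol.QuadraticChar.Basic

set_option autoImplicit false
open Cfsg

namespace Cfsg.Agent.S2325

open Polynomial in
/-- A non-degenerate binary form over a finite field of odd order takes every value. -/
theorem exists_value {F : Type*} [Field F] [Fintype F] (h2 : (2 : F) ≠ 0) {t : F} (ht : t ^ 2 ≠ 4)
    (u : F) : ∃ x y : F, x * x + t * x * y + y * y = u := by
  have hodd : Fintype.card F % 2 = 1 := by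
    by_contra hne
    have he : ringChar F = 2 := FiniteField.even_card_iff_char_two.mpr (by omega)
    exact h2 (by have := ringChar.Nat.cast_ringChar (R := F); rw [he] at this; exact_mod_cast this)
  have hc : 4 - t ^ 2 ≠ 0 := sub_ne_zero.mpr (Ne.symm ht)
  obtain ⟨a, b, hab⟩ := FiniteField.exists_root_sum_quadratic (f := (X ^ 2 : F[X]))
    (g := C (4 - t ^ 2) * X ^ 2 - C (4 * u)) (degree_X_pow 2)
    (by rw [degree_sub_eq_left_of_degree_lt (lt_of_le_of_lt degree_C_le
      (by rw [degree_C_mul_X_pow 2 hc]; norm_num)), degree_C_mul_X_pow 2 hc]; rfl) hodd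
  simp at hab
  refine ⟨a / 2 - t * b / 2, b, ?_⟩
  field_simp
  linear_combination hab


/-- Over a finite field with q elements, q odd, the special linear group SL₂ has exactly q + 4 conjugacy classes. -/
theorem result {F : Type*} [Field F] [Fintype F] (hodd : Odd (Fintype.card F)) :
    Nat.card (ConjClasses (Matrix.SpecialLinearGroup (Fin 2) F)) = Fintype.card F + 4 := by
  classical
  have h2 : (2 : F) ≠ 0 := CfsgLib.SL2Orders.two_ne_zero_of_odd hodd
  have hring : ringChar F ≠ 2 := fun e => h2 (by
    have := ringChar.Nat.cast_ringChar (R := F); rw [e] at this; exact_mod_cast this)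
  have hne : (1 : F) ≠ -1 := fun e => h2 (by linear_combination e)
  obtain ⟨ν, hν⟩ := FiniteField.exists_nonsquare hring
  have hν0 : ν ≠ 0 := fun e => hν (e ▸ IsSquare.zero)
  let sg : Bool → Matrix.SpecialLinearGroup (Fin 2) F := fun b => bif b then 1 else -1
  let sgn : Bool → F := fun b => bif b then 1 else -1
  let dd : Bool → F := fun b => bif b then 1 else ν
  have hdd : ∀ b, dd b ≠ 0 := fun b => by cases b <;> simp [dd, hν0]
  have hsg : ∀ b, (sg b).1 = sgn b • (1 : Matrix (Fin 2) (Fin 2) F) := fun b => by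
    cases b <;> simp [sg, sgn]
  have hsg2 : ∀ b, sg b * sg b = 1 := fun b => by cases b <;> simp [sg]
  have hsgc : ∀ (b : Bool) (x : Matrix.SpecialLinearGroup (Fin 2) F), x * sg b = sg b * x := fun b x => by
    cases b <;> simp [sg]
  have hsgn2 : ∀ b, sgn b * sgn b = 1 := fun b => by cases b <;> simp [sgn]
  let co : {t : F // t ^ 2 ≠ 4} → Matrix.SpecialLinearGroup (Fin 2) F := fun t =>
    ⟨CfsgLib.GL2Classes.comp t.1 1, CfsgLib.GL2Classes.det_comp t.1 1⟩
  let un : Bool × Bool → Matrix.SpecialLinearGroup (Fin 2) F := fun x =>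
    sg x.1 * CfsgLib.PSL2.uSL (dd x.2)
  have hun : ∀ x, (un x).1.trace = 2 * sgn x.1 := fun x => by
    show ((sg x.1).1 * (CfsgLib.PSL2.uSL (dd x.2)).1).trace = _
    rw [hsg]
    simp [CfsgLib.PSL2.coe_uSL, Matrix.trace_fin_two]
    ring
  have hun1 : ∀ x b, un x ≠ sg b := fun x b e => by
    have h := congrFun (congrFun (congrArg Subtype.val e) 0) 1
    have hl : (un x).1 0 1 = sgn x.1 * dd x.2 := by
      show ((sg x.1).1 * (CfsgLib.PSL2.uSL (dd x.2)).1) 0 1 = _
      rw [hsg]
      simp [CfsgLib.PSL2.coe_uSL]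
    have hr : (sg b).1 0 1 = 0 := by rw [hsg]; simp
    change (un x).1 0 1 = (sg b).1 0 1 at h
    rw [hl, hr] at h
    exact mul_ne_zero (left_ne_zero_of_mul_eq_one (hsgn2 x.1)) (hdd x.2) h
  let f : Bool ⊕ ({t : F // t ^ 2 ≠ 4} ⊕ Bool × Bool) → ConjClasses (Matrix.SpecialLinearGroup (Fin 2) F) :=
    fun z => ConjClasses.mk (Sum.elim sg (Sum.elim co un) z)
  have htrace : ∀ {g h : Matrix.SpecialLinearGroup (Fin 2) F}, IsConj g h → g.1.trace = h.1.trace :=
    fun hc => (CfsgLib.GL2Classes.trace_eq_of_isConj
      (MonoidHom.map_isConj Matrix.SpecialLinearGroup.toGL hc)).1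
  have hcentral : ∀ b {g : Matrix.SpecialLinearGroup (Fin 2) F}, IsConj (sg b) g → g = sg b := fun b g hc => by
    obtain ⟨c, hc⟩ := isConj_iff.mp hc
    rw [← hc, hsgc b c, mul_inv_cancel_right]
  have hco : ∀ t, (co t).1.trace = t.1 := fun t => CfsgLib.GL2Classes.trace_comp _ _
  have hsgtr : ∀ b, (sg b).1.trace = 2 * sgn b := fun b => by
    rw [hsg]; simp [Matrix.trace_fin_two]; ring
  have hfour : ∀ b, (2 * sgn b) ^ 2 = 4 := fun b => by linear_combination (4 : F) * hsgn2 b
  have hf : Function.Bijective f := by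
    constructor
    · rintro (b | t | x) (b' | t' | x') h <;>
        simp only [f, Sum.elim_inl, Sum.elim_inr, ConjClasses.mk_eq_mk_iff_isConj] at h
      · have e := congrArg (fun g : Matrix.SpecialLinearGroup (Fin 2) F => g.1 0 0) (hcentral b h)
        simp only [hsg] at e
        cases b <;> cases b' <;> simp [sgn, hne, hne.symm] at e ⊢
      · have e := htrace h
        rw [hsgtr, hco] at e
        exact absurd (e ▸ hfour b) t'.2
      · exact absurd (hcentral b h) (hun1 x' b)
      · have e := htrace h
        rw [hsgtr, hco] at e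
        exact absurd (e.symm ▸ hfour b') t.2
      · have e := htrace h
        rw [hco, hco] at e
        exact congrArg _ (congrArg _ (Subtype.ext e))
      · have e := htrace h
        rw [hun, hco] at e
        exact absurd (e.symm ▸ hfour x'.1) t.2
      · exact absurd (hcentral b' h.symm) (hun1 x b')
      · have e := htrace h
        rw [hun, hco] at e
        exact absurd (e ▸ hfour x.1) t'.2
      · obtain ⟨s, d⟩ := x
        obtain ⟨s', d'⟩ := x'
        have e := htrace h
        rw [hun, hun] at e
        obtain rfl : s = s' := by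
          have e' := mul_left_cancel₀ h2 e
          cases s <;> cases s' <;> simp [sgn, hne, hne.symm] at e' ⊢
        obtain ⟨c, hc⟩ := isConj_iff.mp h
        have hu : IsConj (CfsgLib.PSL2.uSL (dd d)) (CfsgLib.PSL2.uSL (dd d')) := by
          refine isConj_iff.mpr ⟨c, ?_⟩
          apply mul_left_cancel (a := sg s)
          rw [← mul_assoc, ← mul_assoc, ← hsgc s c, mul_assoc c]
          exact hc
        obtain ⟨a, ha, ha'⟩ := (CfsgLib.TwoByTwo.isConj_uSL_iff (hdd d)).mp hu
        obtain rfl : d = d' := by
          cases d <;> cases d' <;> simp only [dd, cond_true, cond_false] at ha'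
          · rfl
          · exact absurd ⟨a⁻¹, by field_simp; linear_combination -ha'⟩ hν
          · exact absurd ⟨a, by linear_combination ha'⟩ hν
          · rfl
        rfl
    · intro C
      obtain ⟨g, rfl⟩ := ConjClasses.mk_surjective C
      by_cases hs : ∃ a : F, g.1 = a • (1 : Matrix (Fin 2) (Fin 2) F)
      · obtain ⟨a, ha⟩ := hs
        have hd := g.2
        rw [ha] at hd
        simp at hd
        rcases hd with rfl | rfl
        · exact ⟨Sum.inl true, congrArg ConjClasses.mk (Subtype.ext ((hsg true).trans ha.symm))⟩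
        · exact ⟨Sum.inl false, congrArg ConjClasses.mk (Subtype.ext ((hsg false).trans ha.symm))⟩
      push Not at hs
      by_cases ht : g.1.trace ^ 2 = 4
      · obtain ⟨b, hb⟩ : ∃ b, g.1.trace = 2 * sgn b := by
          have h' : (g.1.trace - 2) * (g.1.trace + 2) = 0 := by linear_combination ht
          rcases mul_eq_zero.mp h' with e | e
          · exact ⟨true, by simp only [sgn, cond_true]; linear_combination e⟩
          · exact ⟨false, by simp only [sgn, cond_false]; linear_combination e⟩
        have hsq : ((sg b * g).1 - 1) * ((sg b * g).1 - 1) = 0 := by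
          rw [Matrix.SpecialLinearGroup.coe_mul, hsg, Matrix.smul_mul, Matrix.one_mul, Matrix.sub_mul,
            Matrix.mul_sub, Matrix.smul_mul, Matrix.mul_smul, smul_smul, hsgn2, one_smul,
            CfsgLib.SL2Orders.sq_eq g, hb, Matrix.one_mul, Matrix.mul_one]
          ext i j
          simp only [Matrix.sub_apply, Matrix.smul_apply, smul_eq_mul, Matrix.zero_apply]
          ring
        have hne1 : sg b * g ≠ 1 := fun e => hs (sgn b) (by
          have : g = sg b := by
            calc g = sg b * (sg b * g) := by rw [← mul_assoc, hsg2, one_mul]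
              _ = sg b := by rw [e, mul_one]
          rw [this, hsg])
        obtain ⟨d, hd, hc⟩ := CfsgLib.TwoByTwo.exists_isConj_uSL hsq hne1
        obtain ⟨b', hb'⟩ : ∃ b', IsConj (CfsgLib.PSL2.uSL (dd b')) (CfsgLib.PSL2.uSL d) := by
          by_cases hsd : IsSquare d
          · obtain ⟨s, rfl⟩ := hsd
            exact ⟨true, (CfsgLib.TwoByTwo.isConj_uSL_iff (hdd true)).mpr
              ⟨s, left_ne_zero_of_mul hd, by simp [dd, sq]⟩⟩
          · have hsq' : IsSquare (d * ν) := by
              rw [← quadraticChar_one_iff_isSquare (mul_ne_zero hd hν0), map_mul,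
                quadraticChar_neg_one_iff_not_isSquare.mpr hsd,
                quadraticChar_neg_one_iff_not_isSquare.mpr hν]
              rfl
            obtain ⟨s, hs'⟩ := hsq'
            refine ⟨false, (CfsgLib.TwoByTwo.isConj_uSL_iff (hdd false)).mpr
              ⟨s / ν, div_ne_zero (fun e => mul_ne_zero hd hν0 (by rw [hs', e, zero_mul])) hν0, ?_⟩⟩
            simp only [dd, cond_false]
            field_simp
            linear_combination hs'
        refine ⟨Sum.inr (Sum.inr (b, b')), ConjClasses.mk_eq_mk_iff_isConj.mpr ?_⟩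
        obtain ⟨c, hc⟩ := isConj_iff.mp (hb'.trans hc)
        refine isConj_iff.mpr ⟨c, ?_⟩
        show c * (sg b * CfsgLib.PSL2.uSL (dd b')) * c⁻¹ = g
        rw [← mul_assoc c (sg b), hsgc b c, mul_assoc (sg b) c, mul_assoc (sg b), hc, ← mul_assoc, hsg2,
          one_mul]
      · refine ⟨Sum.inr (Sum.inl ⟨g.1.trace, ht⟩), ConjClasses.mk_eq_mk_iff_isConj.mpr ?_⟩
        obtain ⟨P, hP⟩ := CfsgLib.GL2Classes.exists_conj_comp hs
        rw [g.2] at hP
        have hdP : P.1.det ≠ 0 := ((Matrix.isUnit_iff_isUnit_det _).mp P.isUnit).ne_zero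
        obtain ⟨x, y, hxy⟩ := exists_value h2 ht (P.1.det)⁻¹
        let A : Matrix.SpecialLinearGroup (Fin 2) F :=
          ⟨P.1 * (x • (1 : Matrix (Fin 2) (Fin 2) F) + y • CfsgLib.GL2Classes.comp g.1.trace 1), by
            rw [Matrix.det_mul, show (x • (1 : Matrix (Fin 2) (Fin 2) F) +
              y • CfsgLib.GL2Classes.comp g.1.trace 1).det = _ from
              CfsgLib.SL2Centralizer.det_lin (co ⟨g.1.trace, ht⟩) x y, hco, hxy, mul_inv_cancel₀ hdP]⟩
        refine isConj_iff.mpr ⟨A, ?_⟩
        rw [mul_inv_eq_iff_eq_mul]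
        refine Subtype.ext ?_
        show P.1 * (x • 1 + y • CfsgLib.GL2Classes.comp g.1.trace 1) * CfsgLib.GL2Classes.comp g.1.trace 1 =
          g.1 * (P.1 * (x • 1 + y • CfsgLib.GL2Classes.comp g.1.trace 1))
        rw [← Matrix.mul_assoc g.1, hP, Matrix.mul_assoc, Matrix.mul_assoc]
        congr 1
        simp [Matrix.add_mul, Matrix.mul_add]
  have hcount : Nat.card {t : F // t ^ 2 ≠ 4} = Fintype.card F - 2 := by
    rw [Nat.card_eq_fintype_card, Fintype.card_subtype_compl]
    congr 1
    rw [Fintype.card_subtype, show (Finset.univ.filter fun t : F => t ^ 2 = 4) = {2, -2} from ?_,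
      Finset.card_pair]
    · intro e
      exact mul_ne_zero h2 h2 (by linear_combination e)
    · ext t
      simp only [Finset.mem_filter, Finset.mem_univ, true_and, Finset.mem_insert, Finset.mem_singleton]
      constructor
      · intro h
        have h' : (t - 2) * (t + 2) = 0 := by linear_combination h
        rcases mul_eq_zero.mp h' with e | e
        · exact Or.inl (sub_eq_zero.mp e)
        · exact Or.inr (eq_neg_of_add_eq_zero_left e)
      · rintro (rfl | rfl) <;> norm_num
  rw [← Nat.card_congr (Equiv.ofBijective f hf), Nat.card_sum, Nat.card_sum, hcount, Nat.card_prod,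
    Nat.card_eq_fintype_card (α := Bool), Fintype.card_bool]
  have := Fintype.one_lt_card (α := F)
  omega

end Cfsg.Agent.S2325
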