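import Cfsg.Statements.S2326
import Cfsg.Agent.Lib.Chev.TorusOrder
import Cfsg.Agent.Lib.Chev.Longest
import Cfsg.Agent.Lib.Chev.Inst
import Mathlib.GroupTheory.Sylow
import Mathlib.FieldTheory.Finite.Basic

set_option autoImplicit false
open Cfsg

namespace Cfsg.Agent.S2326

/-- In a Chevalley group of type G₂, B₂, D₄, F₄, E₆, E₇ or E₈ over a finite field of characteristic p, the subgroup U generated by the positive root elements is a Sylow p-subgroup. -/
theorem result {F : Type*} [Field F] [Fintype F] (p : ℕ) [Fact p.Prime] [CharP F p] (D : Cfsg.Lie.ChevalleyDatum) (hD : D ∈ [Cfsg.Lie.chevG2, Cfsg.Lie.chevB2, Cfsg.Lie.chevD4, Cfsg.Lie.chevF4, Cfsg.Lie.chevE6, Cfsg.Lie.chevE7, Cfsg.Lie.chevE8]) :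
    ∃ P : Sylow p ↥(D.group F), (P : Subgroup ↥(D.group F)) = (D.posUnipotent F).subgroupOf (D.group F) := by
  classical
  obtain ⟨Φ⟩ := CfsgLib.Chev.exists_chev hD
  set q := Nat.card F with hq
  set N := D.nroots / 2 with hN
  obtain ⟨n, hpp, hcard⟩ := FiniteField.card F p
  have hqp : q = p ^ (n : ℕ) := by rw [hq, Nat.card_eq_fintype_card, hcard]
  have hpq : p ∣ q := hqp ▸ dvd_pow_self p (PNat.ne_zero n)
  have hH : ¬ p ∣ Nat.card (D.diagonalSubgroup F) := fun h => by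
    have hdvd : Nat.card (D.diagonalSubgroup F) ∣ Nat.card (Fin D.rank → Fˣ) := by
      rw [Φ.diagonalSubgroup_eq]
      exact (Subgroup.card_range_dvd _)
    rw [Nat.card_fun, Nat.card_units, Nat.card_fin, ← hq] at hdvd
    have h1 : p ∣ q - 1 := hpp.dvd_of_dvd_pow (h.trans hdvd)
    have hq1 : 1 ≤ q := Nat.card_pos
    have := Nat.dvd_sub hpq h1
    rw [show q - (q - 1) = 1 by omega] at this
    exact hpp.one_lt.ne' (Nat.dvd_one.mp this)
  have hS : ¬ p ∣ ∑ π ∈ Φ.WFin, q ^ Φ.inv π := by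
    have h1 : (1 : Equiv.Perm (Fin D.nroots)) ∈ Φ.WFin := Φ.mem_WFin.mpr (one_mem _)
    rw [← Finset.add_sum_erase _ _ h1, Φ.inv_one, pow_zero]
    intro h
    have : p ∣ ∑ π ∈ Φ.WFin.erase 1, q ^ Φ.inv π := Finset.dvd_sum fun π hπ => by
      obtain ⟨hne, hm⟩ := Finset.mem_erase.mp hπ
      refine dvd_pow hpq fun e => hne ?_
      refine Φ.W_eq_one_of_pos (by
        simpa [CfsgLib.Chev.Chev.WL, CfsgLib.Chev.Chev.WK, CfsgLib.Chev.Chev.simpleRefl,
          CfsgLib.Chev.Chev.W, Set.image_univ] using Φ.mem_WFin.mp hm) fun r hr => ?_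
      by_contra hn
      have hmem : r ∈ Φ.invSet π := Φ.mem_invSet.mpr ⟨hr, hn⟩
      rw [CfsgLib.Chev.Chev.inv, Finset.card_eq_zero] at e
      rw [e] at hmem
      exact absurd hmem (Finset.notMem_empty r)
    exact hpp.one_lt.ne' (Nat.dvd_one.mp ((Nat.dvd_add_left this).mp h))
  have hU : D.posUnipotent F ≤ D.group F := fun x hx => Φ.B_le_group (Subgroup.mem_sup_left hx)
  have hcU : Nat.card ((D.posUnipotent F).subgroupOf (D.group F)) = q ^ N := by
    rw [Nat.card_congr (Subgroup.subgroupOfEquivOfLe hU).toEquiv, Φ.card_U]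
  have hp' : IsPGroup p ((D.posUnipotent F).subgroupOf (D.group F)) :=
    IsPGroup.of_card (n := (n : ℕ) * N) (by rw [hcU, hqp, pow_mul])
  have hidx : ¬ p ∣ ((D.posUnipotent F).subgroupOf (D.group F)).index := by
    have h1 := Subgroup.card_mul_index ((D.posUnipotent F).subgroupOf (D.group F))
    rw [hcU, Φ.card_group, mul_assoc] at h1
    rw [mul_left_cancel₀ (pow_ne_zero _ (Nat.card_pos.ne')) h1]
    exact fun h => (hpp.dvd_mul.mp h).elim hH hS
  exact ⟨hp'.toSylow hidx, rfl⟩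

end Cfsg.Agent.S2326
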