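import Cfsg.Statements.S2329
import Cfsg.Agent.Lib.TwoByTwo

set_option autoImplicit false
open Cfsg

namespace Cfsg.Agent.S2329

/-- Over a finite field of characteristic p, any two elements of order p of GL₂ are conjugate: there is a single conjugacy class of non-identity unipotent elements. -/
theorem result {F : Type*} [Field F] [Fintype F] (p : ℕ) [Fact p.Prime] [CharP F p] (g h : Matrix.GeneralLinearGroup (Fin 2) F)
    (hg : orderOf g = p) (hh : orderOf h = p) : IsConj g h := by
  have key : ∀ x : Matrix.GeneralLinearGroup (Fin 2) F, orderOf x = p →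
      ∃ P : Matrix.GeneralLinearGroup (Fin 2) F,
        x.1 * P.1 = P.1 * !![1, 1; 0, 1] := fun x hx => by
    refine CfsgLib.TwoByTwo.exists_conj_std
      (CfsgLib.TwoByTwo.sub_one_sq p (hx ▸ pow_orderOf_eq_one x)) fun e => ?_
    rw [show x = 1 from Units.ext e, orderOf_one] at hx
    exact (Fact.out : p.Prime).one_lt.ne hx
  obtain ⟨P, hP⟩ := key g hg
  obtain ⟨R, hR⟩ := key h hh
  refine isConj_iff.mpr ⟨R * P⁻¹, ?_⟩
  rw [mul_inv_eq_iff_eq_mul]
  refine Units.ext ?_
  have hPi : (P⁻¹).1 * g.1 = !![1, 1; 0, 1] * (P⁻¹).1 := by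
    calc (P⁻¹).1 * g.1 = (P⁻¹).1 * (g.1 * P.1) * (P⁻¹).1 := by
          simp [Matrix.mul_assoc]
      _ = _ := by rw [hP]; simp [← Matrix.mul_assoc]
  simp only [Units.val_mul]
  rw [Matrix.mul_assoc, hPi, ← Matrix.mul_assoc, ← Matrix.mul_assoc h.1, hR]

end Cfsg.Agent.S2329
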