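import Cfsg.Statements.S2330
import Cfsg.Agent.Lib.GL2Classes
import Mathlib.Tactic.Ring

set_option autoImplicit false
open Cfsg

namespace Cfsg.Agent.S2330

/-- Over a finite field with q elements, the general linear group GL₂ has exactly q² − 1 conjugacy classes. -/
theorem result {F : Type*} [Field F] [Fintype F] :
    Nat.card (ConjClasses (Matrix.GeneralLinearGroup (Fin 2) F)) = Fintype.card F ^ 2 - 1 := by
  classical
  have hq := Fintype.one_lt_card (α := F)
  let sc : Fˣ → GL (Fin 2) F := fun a =>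
    Matrix.GeneralLinearGroup.mkOfDetNeZero ((a : F) • (1 : Matrix (Fin 2) (Fin 2) F)) (by simp)
  let co : F × Fˣ → GL (Fin 2) F := fun x =>
    Matrix.GeneralLinearGroup.mkOfDetNeZero (CfsgLib.GL2Classes.comp x.1 (x.2 : F))
      (by rw [CfsgLib.GL2Classes.det_comp]; exact x.2.ne_zero)
  let f : Fˣ ⊕ (F × Fˣ) → ConjClasses (GL (Fin 2) F) :=
    Sum.elim (fun a => ConjClasses.mk (sc a)) (fun x => ConjClasses.mk (co x))
  have hf : Function.Bijective f := by
    constructor
    · rintro (a | x) (b | y) h <;>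
        simp only [f, Sum.elim_inl, Sum.elim_inr, ConjClasses.mk_eq_mk_iff_isConj] at h
      · have e := congrArg (fun g : GL (Fin 2) F => g.1 0 0)
          (CfsgLib.GL2Classes.eq_of_isConj_scalar rfl h)
        simp [sc] at e
        exact congrArg _ (Units.ext e)
      · have e := congrArg (fun g : GL (Fin 2) F => g.1)
          (CfsgLib.GL2Classes.eq_of_isConj_scalar rfl h)
        exact absurd e.symm (CfsgLib.GL2Classes.comp_ne_scalar _ _ _)
      · have e := congrArg (fun g : GL (Fin 2) F => g.1)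
          (CfsgLib.GL2Classes.eq_of_isConj_scalar rfl h.symm)
        exact absurd e.symm (CfsgLib.GL2Classes.comp_ne_scalar _ _ _)
      · obtain ⟨ht, hd⟩ := CfsgLib.GL2Classes.trace_eq_of_isConj h
        simp [co, CfsgLib.GL2Classes.det_comp, CfsgLib.GL2Classes.trace_comp] at ht hd
        exact congrArg _ (Prod.ext ht (Units.ext hd))
    · intro C
      obtain ⟨g, rfl⟩ := ConjClasses.mk_surjective C
      have hdet : g.1.det ≠ 0 := ((Matrix.isUnit_iff_isUnit_det _).mp g.isUnit).ne_zero
      by_cases h : ∃ a : F, g.1 = a • (1 : Matrix (Fin 2) (Fin 2) F)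
      · obtain ⟨a, ha⟩ := h
        have ha0 : a ≠ 0 := fun e => hdet (by rw [ha, e]; simp)
        exact ⟨Sum.inl (Units.mk0 a ha0), congrArg ConjClasses.mk (Units.ext ha.symm)⟩
      · push Not at h
        obtain ⟨P, hP⟩ := CfsgLib.GL2Classes.exists_conj_comp h
        exact ⟨Sum.inr (g.1.trace, Units.mk0 g.1.det hdet), ConjClasses.mk_eq_mk_iff_isConj.mpr
          (CfsgLib.GL2Classes.isConj_of_mul_eq P hP)⟩
  rw [← Nat.card_congr (Equiv.ofBijective f hf), Nat.card_sum, Nat.card_prod, Nat.card_units,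
    Nat.card_eq_fintype_card]
  obtain ⟨k, hk⟩ : ∃ k, Fintype.card F = k + 1 := ⟨Fintype.card F - 1, by omega⟩
  rw [hk, Nat.add_sub_cancel, show (k + 1) ^ 2 = k + (k + 1) * k + 1 by ring, Nat.add_sub_cancel]

end Cfsg.Agent.S2330
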