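import Cfsg.Statements.S2331
import Cfsg.Agent.Lib.GL2Classes

set_option autoImplicit false
open Cfsg

namespace Cfsg.Agent.S2331

/-- Over a finite field with q elements, q even, the special linear group SL₂ has exactly q + 1 conjugacy classes. -/
theorem result {F : Type*} [Field F] [Fintype F] [CharP F 2] :
    Nat.card (ConjClasses (Matrix.SpecialLinearGroup (Fin 2) F)) = Fintype.card F + 1 := by
  classical
  let co : F → Matrix.SpecialLinearGroup (Fin 2) F := fun t =>
    ⟨CfsgLib.GL2Classes.comp t 1, CfsgLib.GL2Classes.det_comp t 1⟩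
  let f : Unit ⊕ F → ConjClasses (Matrix.SpecialLinearGroup (Fin 2) F) :=
    Sum.elim (fun _ => ConjClasses.mk 1) (fun t => ConjClasses.mk (co t))
  have hne : ∀ t, co t ≠ 1 := fun t e =>
    CfsgLib.GL2Classes.comp_ne_scalar t 1 1 ((congrArg Subtype.val e).trans (one_smul F _).symm)
  have hf : Function.Bijective f := by
    constructor
    · rintro (a | x) (b | y) h <;>
        simp only [f, Sum.elim_inl, Sum.elim_inr, ConjClasses.mk_eq_mk_iff_isConj] at h
      · rfl
      · exact absurd (isConj_one_right.mp h) (hne y)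
      · exact absurd (isConj_one_left.mp h) (hne x)
      · have hgl := MonoidHom.map_isConj Matrix.SpecialLinearGroup.toGL h
        obtain ⟨ht, -⟩ := CfsgLib.GL2Classes.trace_eq_of_isConj hgl
        change (CfsgLib.GL2Classes.comp x 1).trace = (CfsgLib.GL2Classes.comp y 1).trace at ht
        rw [CfsgLib.GL2Classes.trace_comp, CfsgLib.GL2Classes.trace_comp] at ht
        exact congrArg _ ht
    · intro C
      obtain ⟨g, rfl⟩ := ConjClasses.mk_surjective C
      by_cases h : ∃ a : F, g.1 = a • (1 : Matrix (Fin 2) (Fin 2) F)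
      · obtain ⟨a, ha⟩ := h
        have h1 : a * a = 1 := by
          have := g.2
          rw [ha] at this
          simpa [sq] using this
        have ha1 : a = 1 := by
          rcases mul_self_eq_one_iff.mp h1 with e | e
          · exact e
          · rw [e, CharTwo.neg_eq]
        refine ⟨Sum.inl (), congrArg ConjClasses.mk (Subtype.ext ?_)⟩
        rw [Matrix.SpecialLinearGroup.coe_one, ha, ha1, one_smul]
      · push Not at h
        obtain ⟨P, hP⟩ := CfsgLib.GL2Classes.exists_conj_comp h
        rw [g.2] at hP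
        obtain ⟨s, hs⟩ : IsSquare (P.1.det)⁻¹ := FiniteField.isSquare_of_char_two (ringChar.eq F 2) _
        have hdet : P.1.det ≠ 0 := ((Matrix.isUnit_iff_isUnit_det _).mp P.isUnit).ne_zero
        let A : Matrix.SpecialLinearGroup (Fin 2) F := ⟨s • P.1, by
          rw [Matrix.det_smul, Fintype.card_fin, sq, ← hs, inv_mul_cancel₀ hdet]⟩
        refine ⟨Sum.inr g.1.trace, ConjClasses.mk_eq_mk_iff_isConj.mpr (isConj_iff.mpr ⟨A, ?_⟩)⟩
        rw [mul_inv_eq_iff_eq_mul]
        refine Subtype.ext ?_
        show s • P.1 * CfsgLib.GL2Classes.comp g.1.trace 1 = g.1 * (s • P.1)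
        rw [Matrix.smul_mul, Matrix.mul_smul, hP]
  rw [← Nat.card_congr (Equiv.ofBijective f hf), Nat.card_sum, Nat.card_unique,
    Nat.card_eq_fintype_card, add_comm]

end Cfsg.Agent.S2331
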