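import Cfsg.Statements.S2332
import Cfsg.Agent.Lib.SLMin.Main
-- import your own Cfsg.Agent.* helpers here

set_option autoImplicit false
open Cfsg CfsgLib.SLMin

namespace Cfsg.Agent.S2332

/-- Smallest degree of a non-linear irreducible complex representation of SL_n over a finite field with q elements, for n ≥ 3 and (n, q) not one of (3, 2), (3, 4), (4, 2), (4, 3): every irreducible complex representation of SL_n(F) of degree at least 2 has degree at least (q^n − q)/(q − 1), and there is an irreducible complex representation of exactly that degree. -/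
theorem result {F : Type*} [Field F] [Fintype F] [DecidableEq F] (n : ℕ) (hn : 3 ≤ n)
    (hex : (n, Fintype.card F) ≠ (3, 2) ∧ (n, Fintype.card F) ≠ (3, 4) ∧ (n, Fintype.card F) ≠ (4, 2) ∧ (n, Fintype.card F) ≠ (4, 3)) :
    (∀ (k : ℕ) (ρ : Representation ℂ (Matrix.SpecialLinearGroup (Fin n) F) (Fin k → ℂ)), ρ.IsIrreducible → 2 ≤ k → (Fintype.card F ^ n - Fintype.card F) / (Fintype.card F - 1) ≤ k) ∧
    (∃ ρ : Representation ℂ (Matrix.SpecialLinearGroup (Fin n) F) (Fin ((Fintype.card F ^ n - Fintype.card F) / (Fintype.card F - 1)) → ℂ), ρ.IsIrreducible) := by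
  classical
  obtain ⟨l, rfl⟩ : ∃ l, n = l + 1 := ⟨n - 1, by omega⟩
  set q := Fintype.card F with hq
  have hq2 : 2 ≤ q := Fintype.one_lt_card
  have hval : (q ^ (l + 1) - q) / (q - 1) = gs q (l + 1) - 1 := by
    have h := gs_geom (q := q) (by omega) (l + 1)
    have hpos : 1 ≤ gs q (l + 1) := by rw [gs_succ]; omega
    obtain ⟨m, hm⟩ : ∃ m, gs q (l + 1) = m + 1 := ⟨gs q (l + 1) - 1, by omega⟩
    rw [hm] at h ⊢
    rw [Nat.add_sub_cancel, mul_add, mul_one] at *
    rw [← h, show (q - 1) * m + (q - 1) + 1 - q = (q - 1) * m by omega, Nat.mul_div_cancel_left _ (by omega)]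
  rw [hval]
  refine ⟨fun k ρ hirr hk => ?_, exists_perm F (l + 1) (by omega)⟩
  haveI : Nonempty (Fin k) := ⟨⟨0, by omega⟩⟩
  have hfix : NoFix ρ := fun w hw => by
    by_contra h0
    let U : Subrepresentation ρ := ⟨ℂ ∙ w, fun g x hx => by
      obtain ⟨c, rfl⟩ := Submodule.mem_span_singleton.1 hx
      rw [map_smul, hw]; exact Submodule.smul_mem _ c (Submodule.mem_span_singleton_self w)⟩
    haveI : IsSimpleOrder (Subrepresentation ρ) := hirr
    rcases IsSimpleOrder.eq_bot_or_eq_top U with hU | hU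
    · exact h0 (Submodule.span_singleton_eq_bot.1 (congrArg Subrepresentation.toSubmodule hU))
    · have e : (ℂ ∙ w) = ⊤ := congrArg Subrepresentation.toSubmodule hU
      have := finrank_span_singleton (K := ℂ) h0
      rw [e, finrank_top, Module.finrank_fintype_fun_eq_card, Fintype.card_fin] at this
      omega
  have := irr_bound F l (by omega) ⟨fun hl => ⟨fun e => hex.1 (Prod.ext (by simp [hl]) e), fun e => hex.2.1 (Prod.ext (by simp [hl]) e)⟩,
    fun hl => ⟨fun e => hex.2.2.1 (Prod.ext (by simp [hl]) e), fun e => hex.2.2.2 (Prod.ext (by simp [hl]) e)⟩⟩ (Fin k → ℂ) ρ hirr hfix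
  rwa [Module.finrank_fintype_fun_eq_card, Fintype.card_fin] at this

end Cfsg.Agent.S2332
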