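import Cfsg.Statements.S2337
import Cfsg.Agent.Lib.Suzuki.Lie
import Cfsg.Agent.Lib.Suzuki.Degree

set_option autoImplicit false
open Cfsg

namespace Cfsg.Agent.S2337

/-- For the Suzuki group Sz(q), q = 2^(2m+1) with m ≥ 1 (realised inside Sp₄ over the field with q elements), every irreducible complex representation of degree at least 2 has degree at least 2^m·(q − 1). -/
theorem result {F : Type*} [Field F] [Fintype F] (m : ℕ) (hm : 1 ≤ m) (hF : Fintype.card F = 2 ^ (2 * m + 1)) :
    (∀ (k : ℕ) (ρ : Representation ℂ (Cfsg.Lie.Sz F (2 ^ (m + 1))) (Fin k → ℂ)), ρ.IsIrreducible → 2 ≤ k → 2 ^ m * (2 ^ (2 * m + 1) - 1) ≤ k) := by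
  intro k ρ hirr hk
  let e := CfsgLib.Suzuki.lieEquiv hF hm
  have h := CfsgLib.Suzuki.degree_bound hF hm (V := Fin k → ℂ) (ρ.comp e.toMonoidHom) ?_
  · rwa [Module.finrank_fin_fun] at h
  intro hall
  have htriv : ∀ g, ρ g = 1 := fun g => by simpa using hall (e.symm g)
  set v : Fin k → ℂ := Pi.single ⟨0, by omega⟩ 1 with hvdef
  have hv : v ≠ 0 := by
    intro h
    have := congrFun h ⟨0, by omega⟩
    simp [hvdef] at this
  let W : Subrepresentation ρ := ⟨Submodule.span ℂ {v}, fun g x hx => by rw [htriv g]; exact hx⟩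
  haveI : IsSimpleOrder (Subrepresentation ρ) := hirr
  rcases IsSimpleOrder.eq_bot_or_eq_top W with h | h
  · have h' : Submodule.span ℂ {v} = ⊥ := congrArg Subrepresentation.toSubmodule h
    exact hv (Submodule.span_singleton_eq_bot.mp h')
  · have h' : Submodule.span ℂ {v} = ⊤ := congrArg Subrepresentation.toSubmodule h
    have hfr := finrank_span_singleton (K := ℂ) hv
    rw [h', finrank_top, Module.finrank_fin_fun] at hfr
    omega

end Cfsg.Agent.S2337
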