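import Cfsg.Statements.S2338
import Cfsg.Agent.Lib.G2Deg.NotThree
import Cfsg.Agent.Lib.G2Deg.CharThree
-- import your own Cfsg.Agent.* helpers here

set_option autoImplicit false
open Cfsg

namespace Cfsg.Agent.S2338

/-- Lower bounds for the degrees of non-linear irreducible complex representations of the Chevalley group of type G₂ over a finite field with q elements: the degree is at least q³ + 1 when q ≡ 1 (mod 3) and q > 4, at least q³ − 1 when q ≡ 2 (mod 3) and q > 2, and at least q⁴ + q² + 1 when q ≡ 0 (mod 3) and q > 3. -/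
theorem result {F : Type*} [Field F] [Fintype F] (k : ℕ) (ρ : Representation ℂ (Cfsg.Lie.chevG2.group F) (Fin k → ℂ)) (hρ : ρ.IsIrreducible) (hk : 2 ≤ k) :
    (Fintype.card F % 3 = 1 → 4 < Fintype.card F → Fintype.card F ^ 3 + 1 ≤ k) ∧
    (Fintype.card F % 3 = 2 → 2 < Fintype.card F → Fintype.card F ^ 3 - 1 ≤ k) ∧
    (Fintype.card F % 3 = 0 → 3 < Fintype.card F → Fintype.card F ^ 4 + Fintype.card F ^ 2 + 1 ≤ k) := by
  refine ⟨fun h1 h4 => ?_, fun h2 h2' => ?_, fun h0 h3 => ?_⟩
  · exact (CfsgLib.G2Deg.not_three ρ hρ hk (by omega) (by omega)).2 h1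
  · exact (CfsgLib.G2Deg.not_three ρ hρ hk (by omega) (by omega)).1
  · haveI : CharP F 3 := CfsgLib.G2Deg.charP_three h0
    have h9 : 9 ≤ Fintype.card F := by
      obtain ⟨n, -, hn⟩ := FiniteField.card F 3
      rw [hn] at h3 ⊢
      rcases Nat.lt_or_ge (n : ℕ) 2 with h | h
      · have : (n : ℕ) = 1 := by have := n.pos; omega
        rw [this] at h3
        norm_num at h3
      · exact le_trans (by norm_num) (Nat.pow_le_pow_right (by norm_num : 1 ≤ 3) h)
    exact CfsgLib.G2Deg.char_three (ρ := ρ) hρ hk h9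

end Cfsg.Agent.S2338
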