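import Cfsg.Statements.S2352
import Cfsg.Agent.Lib.Words.FreeWitness

set_option autoImplicit false
open Cfsg

namespace Cfsg.Agent.S2352

/-- A non-trivial law holds in only finitely many alternating groups: for every non-trivial element w of the free group on countably many generators there is N such that for all n ≥ N some substitution of elements of the alternating group of degree n into w is not the identity. -/
theorem result (w : FreeGroup ℕ) (hw : w ≠ 1) :
    ∃ N : ℕ, ∀ n : ℕ, N ≤ n → ∃ f : ℕ → alternatingGroup (Fin n), FreeGroup.lift f w ≠ 1 := by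
  obtain ⟨n, f, hf⟩ := CfsgLib.Words.exists_perm_lift_ne_one w hw
  refine ⟨n + n, fun N hN => ?_⟩
  obtain ⟨k, rfl⟩ := Nat.exists_eq_add_of_le hN
  let ψ : Equiv.Perm (Fin n) →* Equiv.Perm (Fin (n + n + k)) :=
    ((finSumFinEquiv.sumCongr (Equiv.refl (Fin k))).trans finSumFinEquiv).permCongrHom.toMonoidHom.comp
      ((Equiv.Perm.sumCongrHom (Fin n ⊕ Fin n) (Fin k)).comp
        (((Equiv.Perm.sumCongrHom (Fin n) (Fin n)).comp
          ((MonoidHom.id (Equiv.Perm (Fin n))).prod (MonoidHom.id (Equiv.Perm (Fin n))))).prod 1))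
  have hψ : ∀ σ, ψ σ ∈ alternatingGroup (Fin (n + n + k)) := fun σ => by
    simp [ψ, Equiv.Perm.mem_alternatingGroup, ← sq, Int.units_sq]
  refine ⟨fun i => ⟨ψ (f i), hψ (f i)⟩, fun h => hf ?_⟩
  have h' := congrArg (alternatingGroup (Fin (n + n + k))).subtype h
  rw [CfsgLib.Words.map_lift, map_one] at h'
  rw [show (fun i => (alternatingGroup (Fin (n + n + k))).subtype ⟨ψ (f i), hψ (f i)⟩) =
    fun i => ψ (f i) from rfl, ← CfsgLib.Words.map_lift] at h'
  have hinj : Function.Injective ψ := by
    intro a b hab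
    simp only [ψ, MonoidHom.coe_comp, Function.comp_apply] at hab
    have h1 := Equiv.Perm.sumCongrHom_injective ((MulEquiv.injective _) hab)
    have h2 := Equiv.Perm.sumCongrHom_injective (congrArg Prod.fst h1)
    exact congrArg Prod.fst h2
  exact hinj (h'.trans ψ.map_one.symm)

end Cfsg.Agent.S2352
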