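import Cfsg.Statements.S2354
import Cfsg.Agent.Lib.Words.PingPong

set_option autoImplicit false
open Cfsg

namespace Cfsg.Agent.S2354
open Polynomial Matrix

/-- The polynomial matrices of the torus element of the Suzuki group and of its inverse. -/
noncomputable def szH {K : Type*} [Field K] (e : ℕ) (b : Bool) : Matrix (Fin 4) (Fin 4) K[X] :=
  Matrix.diagonal (bif b then ![X ^ (2 * e + 2), X ^ (e + 2), X ^ e, 1]
    else ![1, X ^ e, X ^ (e + 2), X ^ (2 * e + 2)])

/-- The torus diagonal. -/
def szD {F : Type*} [Field F] (e : ℕ) (a : F) : Fin 4 → F :=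
  ![a ^ (e + 1), a, a⁻¹, (a ^ (e + 1))⁻¹]

theorem szD_mem {F : Type*} [Field F] {e : ℕ} (he : e ≠ 0) {a : F} (ha : a ≠ 0)
    (hθ : (a ^ e) ^ e = a ^ 2) (g : GL (Fin 4) F)
    (hg : (g : Matrix (Fin 4) (Fin 4) F) = Matrix.diagonal (szD e a)) : g ∈ Cfsg.Lie.Sz F e := by
  refine Subgroup.subset_closure ⟨?_, ?_⟩
  · intro u v
    rw [show (Units.coeHom (Matrix (Fin 4) (Fin 4) F)) g = Matrix.diagonal (szD e a) from hg]
    simp [szD, Cfsg.Lie.altForm4, Matrix.mulVec_diagonal]
    field_simp
  · have h0 : (a ^ (e + 1)) ^ e = a ^ (e + 1) * a := by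
      rw [pow_succ, mul_pow, hθ]; ring
    have h1 : a ^ e = a ^ (e + 1) * a⁻¹ := by
      rw [pow_succ]; field_simp
    rw [hg]
    ext i j
    fin_cases i <;> fin_cases j <;>
      simp [szD, Cfsg.Lie.star4, Cfsg.Lie.pairOf, he, inv_pow, h0, h1] <;> field_simp

/-- An element of `Sz(2)` in general position with respect to the torus. -/
def szC {F : Type*} [Field F] : Matrix (Fin 4) (Fin 4) F :=
  !![1, 1, 0, 1; 1, 0, 1, 0; 1, 0, 0, 1; 1, 1, 1, 1]

theorem szC_sq {F : Type*} [Field F] [CharP F 2] : (szC : Matrix (Fin 4) (Fin 4) F) * szC = 1 := by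
  ext i j
  fin_cases i <;> fin_cases j <;>
    simp [szC, Matrix.mul_apply, Fin.sum_univ_four, CharTwo.add_self_eq_zero]

theorem szC_mem {F : Type*} [Field F] [CharP F 2] {e : ℕ} (he : e ≠ 0) :
    (⟨szC, szC, szC_sq, szC_sq⟩ : GL (Fin 4) F) ∈ Cfsg.Lie.Sz F e := by
  refine Subgroup.subset_closure ⟨?_, ?_⟩
  · intro u v
    rw [show (Units.coeHom (Matrix (Fin 4) (Fin 4) F)) ⟨szC, szC, szC_sq, szC_sq⟩ = szC from rfl]
    simp [szC, Cfsg.Lie.altForm4, Matrix.mulVec, dotProduct, Fin.sum_univ_four]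
    have h2 : (2 : F) = 0 := CharTwo.two_eq_zero
    linear_combination (norm := ring_nf) h2 * 0
    all_goals simp [CharTwo.two_eq_zero, show (3:F) = 1 from by linear_combination h2,
      show (4:F) = 0 from by linear_combination 2 * h2]
  · ext i j
    fin_cases i <;> fin_cases j <;>
      simp [szC, Cfsg.Lie.star4, Cfsg.Lie.pairOf, he, CharTwo.sub_eq_add, CharTwo.add_self_eq_zero]

/-- A non-trivial law holds in only finitely many Suzuki groups: for every non-trivial element w of the free group on countably many generators there is N such that for q = 2^(2m+1) with m ≥ N some substitution of elements of the Suzuki group over the field with q elements into w is not the identity. -/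
theorem result (w : FreeGroup ℕ) (hw : w ≠ 1) :
    ∃ N : ℕ, ∀ (F : Type*) [Field F] [Fintype F] (m : ℕ), 1 ≤ m → N ≤ m →
      Fintype.card F = 2 ^ (2 * m + 1) →
      ∃ f : ℕ → ↥(Cfsg.Lie.Sz F (2 ^ (m + 1))), FreeGroup.lift f w ≠ 1 := by
  classical
  refine ⟨3 * CfsgLib.Words.wordBound w + 2, fun F _ _ m hm hN hF => ?_⟩
  obtain ⟨p, hp⟩ := CharP.exists F
  have : Fact p.Prime := ⟨CharP.char_is_prime F p⟩
  obtain ⟨n, -, hn⟩ := FiniteField.card F p
  have hp2 : p = 2 := by
    rw [hn] at hF
    exact Nat.Prime.pow_inj' (CharP.char_is_prime F p) Nat.prime_two n.ne_zero (by omega) hF |>.1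
  subst hp2
  set e := 2 ^ (m + 1) with he
  have hθ : ∀ a : F, a ≠ 0 → (a ^ e) ^ e = a ^ 2 := by
    intro a _
    rw [← pow_mul, he, ← pow_add, show m + 1 + (m + 1) = (2 * m + 1) + 1 by ring, pow_succ,
      pow_mul, ← hF, FiniteField.pow_card]
  have he0 : e ≠ 0 := by positivity
  have hdet : ∀ a : F, a ≠ 0 → (Matrix.diagonal (szD e a)).det ≠ 0 := by
    intro a ha
    simp [szD, Matrix.det_diagonal, Fin.prod_univ_four, ha]
  let g : F → GL (Fin 4) F := fun a =>
    if ha : a = 0 then 1 else Matrix.GeneralLinearGroup.mkOfDetNeZero _ (hdet a ha)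
  have hg : ∀ a : F, g a ∈ Cfsg.Lie.Sz F e := by
    intro a
    by_cases ha : a = 0
    · simp only [g, dif_pos ha]; exact one_mem _
    · exact szD_mem he0 ha (hθ a ha) _ (by simp only [g, dif_neg ha]; rfl)
  let c : GL (Fin 4) F := ⟨szC, szC, szC_sq, szC_sq⟩
  have hc : c ∈ Cfsg.Lie.Sz F e := szC_mem he0
  have hS : (2 * e + 2) * CfsgLib.Words.wordBound w < (Finset.univ.erase (0 : F)).card := by
    rw [Finset.card_erase_of_mem (Finset.mem_univ _), Finset.card_univ, hF, he, pow_succ, pow_succ,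
      show 2 * m = m + m by ring, pow_add]
    have := Nat.lt_two_pow_self (n := m)
    have h1 : 3 * CfsgLib.Words.wordBound w + 3 ≤ 2 ^ m := by omega
    generalize 2 ^ m = M at h1 ⊢
    generalize CfsgLib.Words.wordBound w = L at h1 ⊢
    have h3 : 3 * L * M + 3 * M ≤ M * M := by nlinarith
    have : (2 * (M * 2) + 2) * L + 1 < M * M * 2 := by nlinarith
    omega
  obtain ⟨f, hf⟩ := CfsgLib.Words.exists_witness (Cfsg.Lie.Sz F e).subtype hw (szH e)
    (d := 2 * e + 2) (t := fun b => bif b then 0 else 3) (fun b i j => by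
      cases b <;> fin_cases i <;> fin_cases j <;> simp [szH] <;> omega)
    (fun b => by
      ext i j
      cases b <;> fin_cases i <;> fin_cases j <;>
        simp [szH, CfsgLib.Words.topCoeff, coeff_one, coeff_X_pow] <;> omega)
    (by simp) ⟨c, hc⟩ (fun b b' => by
      simp only [Subgroup.coe_subtype]
      rw [show c⁻¹ = c from inv_eq_of_mul_eq_one_right (Units.ext c.val_inv)]
      cases b <;> cases b' <;> simp [c, szC])
    (Finset.univ.erase 0) hS (fun a => ⟨g a, hg a⟩) (fun a ha b => by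
      have ha' : a ≠ 0 := (Finset.mem_erase.mp ha).1
      refine ⟨a ^ (e + 1), ?_⟩
      simp only [Subgroup.coe_subtype, g, dif_neg ha']
      have hval : (Matrix.GeneralLinearGroup.mkOfDetNeZero _ (hdet a ha') : GL (Fin 4) F).1 =
          Matrix.diagonal (szD e a) := rfl
      have hinv : ((Matrix.GeneralLinearGroup.mkOfDetNeZero _ (hdet a ha'))⁻¹ : GL (Fin 4) F).1 =
          Matrix.diagonal fun k => (szD e a k)⁻¹ := by
        rw [Matrix.coe_units_inv, hval]
        refine Matrix.inv_eq_right_inv ?_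
        rw [Matrix.diagonal_mul_diagonal, ← Matrix.diagonal_one]
        congr 1; funext k
        fin_cases k <;> simp [szD, ha']
      cases b <;>
        simp only [cond_true, cond_false, hinv, hval, szH,
          Matrix.diagonal_map (Polynomial.eval_zero (x := a)), ← Matrix.diagonal_smul] <;>
        congr 1 <;> funext k <;> fin_cases k <;>
        simp [szD, ha'] <;> field_simp <;> ring)
  exact ⟨f, fun h => hf 1 (by simp [h])⟩

end Cfsg.Agent.S2354
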