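import Cfsg.Statements.S2355
import Cfsg.Agent.S2352
import Cfsg.Agent.Lib.Words.ClassicalWitness

set_option autoImplicit false
open Cfsg

namespace Cfsg.Agent.S2355

open CfsgLib.Words Matrix

theorem card_le_matrix {S : Type*} {ι F : Type*} [Fintype ι] [Fintype F] {K B : ℕ} (hB : 1 ≤ B)
    (φ : S → Matrix ι ι F) (hφ : Function.Injective φ) (hι : Fintype.card ι ≤ K)
    (hF : Fintype.card F ≤ B) : Nat.card S ≤ B ^ (K * K) := by
  classical
  refine (Nat.card_le_card_of_injective φ hφ).trans ?_
  rw [show Nat.card (Matrix ι ι F) = Fintype.card F ^ (Fintype.card ι * Fintype.card ι) by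
    rw [Nat.card_congr Matrix.of.symm, Nat.card_fun, Nat.card_fun, ← pow_mul,
      Nat.card_eq_fintype_card, Nat.card_eq_fintype_card]]
  exact (Nat.pow_le_pow_left hF _).trans
    (Nat.pow_le_pow_right hB (Nat.mul_le_mul hι hι))

theorem card_quotient_center_le {S : Type*} [Group S] [Finite S] :
    Nat.card (S ⧸ Subgroup.center S) ≤ Nat.card S :=
  Nat.card_le_card_of_surjective _ (QuotientGroup.mk_surjective)

/-- In a group containing `GL_m(F)`, a non-law of `A_k` and `SL₂` bounds `m` and `|F|`. -/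
theorem gl_bounds {w : FreeGroup ℕ} {N₁ : ℕ}
    (hN₁ : ∀ n, N₁ ≤ n → ∃ f : ℕ → alternatingGroup (Fin n), FreeGroup.lift f w ≠ 1)
    {F : Type*} [Field F] [Fintype F] {m : ℕ} (hm : 2 ≤ m) (hw : w ≠ 1)
    {S : Type*} [Group S] (φ : GL (Fin m) F →* S) (hφ : Function.Injective φ) (hlaw : IsLaw w S) :
    m ≤ N₁ ∧ Fintype.card F ≤ sl2Bound w := by
  constructor
  · by_contra h
    obtain ⟨f, hf⟩ := hN₁ m (by omega)
    exact hf (hlaw.of_injective
      ((φ.comp permGL).comp (alternatingGroup (Fin m)).subtype)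
      ((hφ.comp permGL_injective).comp (Subgroup.subtype_injective _)) f)
  · by_contra h
    obtain ⟨k, rfl⟩ := Nat.exists_eq_add_of_le hm
    obtain ⟨f, hf⟩ := exists_sl2_witness (K := F) hw (by rw [Nat.card_eq_fintype_card]; omega)
    refine hf 1 ?_
    rw [hlaw.of_injective (φ.comp (sl2GL k)) (hφ.comp (sl2GL_injective k)) f]
    simp

/-- A non-trivial law is satisfied by only finitely many finite simple groups that are alternating or classical, up to isomorphism: for every non-trivial element w of the free group on countably many generators there is a bound N such that every alternating group of degree ≥ 5 and every simple classical group (linear, symplectic, unitary or orthogonal, in this problem's sense) in which w is a law has order at most N. -/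
theorem result (w : FreeGroup ℕ) (hw : w ≠ 1) :
    ∃ N : ℕ, ∀ (G : Type*) [Group G] [Finite G],
      (Cfsg.IsAlternating G ∨ Cfsg.IsPSL G ∨ Cfsg.IsPSp G ∨ Cfsg.IsPSU G ∨ Cfsg.IsPOmegaOdd G ∨
          Cfsg.IsPOmegaPlus G ∨ Cfsg.IsPOmegaMinus G) →
      (∀ f : ℕ → G, FreeGroup.lift f w = 1) → Nat.card G ≤ N := by
  classical
  set w₁ := centralWord w
  set w₃ := commSubst w₁ with hw₃def
  have hw₃ : w₃ ≠ 1 := commSubst_ne_one (centralWord_ne_one hw)
  obtain ⟨N₁, hN₁⟩ := Cfsg.Agent.S2352.result w₃ hw₃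
  set B := (sl2Bound w₃ + 2) * (sl2Bound w₃ + 2) with hB
  have hB1 : 1 ≤ B := by rw [hB]; exact Nat.one_le_iff_ne_zero.mpr (by positivity)
  have hBbig : sl2Bound w₃ ≤ B := by rw [hB]; nlinarith
  set K := 2 * N₁ + 8 with hK
  refine ⟨B ^ (K * K) + N₁.factorial, fun G _ _ hG hlaw => ?_⟩
  suffices Nat.card G ≤ B ^ (K * K) ∨ Nat.card G ≤ N₁.factorial by omega
  have hlaw' : IsLaw w G := hlaw
  rcases hG with h | h | h | h | h | h | h
  · obtain ⟨n, hn, ⟨e⟩⟩ := h
    right
    have hn1 : n ≤ N₁ := by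
      by_contra h
      obtain ⟨f, hf⟩ := hN₁ n (by omega)
      have hc : Subgroup.center (alternatingGroup (Fin n)) = ⊥ := by
        exact alternatingGroup.center_eq_bot (by simp; omega)
      refine hf ((IsLaw.commSubst_of_law (IsLaw.centralWord ?_)) f)
      exact hlaw'.of_injective (((QuotientGroup.quotientMulEquivOfEq hc).trans
        QuotientGroup.quotientBot).trans e.symm).toMonoidHom (MulEquiv.injective _)
    rw [Nat.card_congr e.toEquiv]
    calc Nat.card (alternatingGroup (Fin n)) ≤ Nat.card (Equiv.Perm (Fin n)) :=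
          Nat.card_le_card_of_injective _ Subtype.val_injective
      _ = n.factorial := by rw [Nat.card_perm, Nat.card_fin]
      _ ≤ N₁.factorial := Nat.factorial_le hn1
  · obtain ⟨F, _, _, n, hn, -, ⟨e⟩⟩ := h
    left
    have hl : IsLaw w₃ (Matrix.SpecialLinearGroup (Fin n) F) :=
      IsLaw.commSubst_of_law (IsLaw.centralWord
        (hlaw'.of_injective e.symm.toMonoidHom e.symm.injective))
    have hn1 : n ≤ N₁ := by
      by_contra h
      obtain ⟨f, hf⟩ := hN₁ n (by omega)
      exact hf (hl.of_injective _ (altSL_injective (F := F)) f)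
    have hF1 : Fintype.card F ≤ sl2Bound w₃ := by
      by_contra h
      obtain ⟨k, rfl⟩ := Nat.exists_eq_add_of_le hn
      obtain ⟨f, hf⟩ := exists_sl2_witness (K := F) hw₃ (by rw [Nat.card_eq_fintype_card]; omega)
      refine hf 1 ?_
      rw [hl.of_injective _ (slBlock_injective (F := F) (finSumFinEquiv (m := 2) (n := k))) f]
      simp
    rw [Nat.card_congr e.toEquiv]
    exact card_quotient_center_le.trans (card_le_matrix hB1 (fun g => g.1)
      (fun _ _ h => Subtype.ext h) (by simp; omega) (hF1.trans hBbig))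
  · obtain ⟨F, _, _, m, hm, -, ⟨e⟩⟩ := h
    left
    have hl : IsLaw w₃ (Matrix.symplecticGroup (Fin m) F) :=
      IsLaw.commSubst_of_law (IsLaw.centralWord
        (hlaw'.of_injective e.symm.toMonoidHom e.symm.injective))
    obtain ⟨hm1, hF1⟩ := gl_bounds hN₁ hm hw₃ (glSp m) (glSp_injective m) hl
    rw [Nat.card_congr e.toEquiv]
    exact card_quotient_center_le.trans (card_le_matrix hB1 (fun g => g.1)
      (fun _ _ h => Subtype.ext h) (by simp; omega) (hF1.trans hBbig))
  · obtain ⟨F, _, _, n, q, hF, hn, -, ⟨e⟩⟩ := h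
    left
    have hl : IsLaw w₃ ↥(Cfsg.SU n F q) :=
      IsLaw.commSubst_of_law (IsLaw.centralWord
        (hlaw'.of_injective e.symm.toMonoidHom e.symm.injective))
    have hn1 : n ≤ N₁ := by
      by_contra h
      obtain ⟨f, hf⟩ := hN₁ n (by omega)
      exact hf (hl.of_injective _ (altSU_injective n q) f)
    have hq : q ≤ sl2Bound w₃ + 1 := by
      by_contra h
      obtain ⟨K₀, φ, hK₀, hφ⟩ := exists_sl2_to_SU hF (show 2 ≤ n by omega)
      obtain ⟨f, hf⟩ := exists_sl2_witness (K := ↥K₀) hw₃ (by omega)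
      refine hf 1 ?_
      rw [hl.of_injective φ hφ f]
      simp
    have hF1 : Fintype.card F ≤ B := by
      rw [hF, hB, sq]; exact Nat.mul_le_mul (by omega) (by omega)
    rw [Nat.card_congr e.toEquiv]
    exact card_quotient_center_le.trans (card_le_matrix hB1 (fun g => g.1.1)
      (fun _ _ h => Subtype.ext (Subtype.ext h)) (by simp; omega) hF1)
  · obtain ⟨F, _, _, m, hm, -, ⟨e⟩⟩ := h
    left
    have hl : IsLaw w₃ ↥(Cfsg.isometryGroup F (Cfsg.quadFormOdd m F)) :=
      IsLaw.commSubst (IsLaw.centralWord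
        (hlaw'.of_injective e.symm.toMonoidHom e.symm.injective))
    obtain ⟨hm1, hF1⟩ := gl_bounds hN₁ (by omega) hw₃ _ (toIsometry_injective (Cfsg.quadFormOdd m F)
      ((blockHom (Equiv.sumComm _ _)).comp (hyperbolicHom m)) (quadFormOdd_hyperbolicHom m)
      ((blockHom_injective _).comp (hyperbolicHom_injective m))) hl
    rw [Nat.card_congr e.toEquiv]
    exact card_quotient_center_le.trans (card_le_matrix hB1 (fun g => g.1.1.1)
      (fun _ _ h => Subtype.ext (Subtype.ext (Units.ext h))) (by simp; omega) (hF1.trans hBbig))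
  · obtain ⟨F, _, _, m, hm, ⟨e⟩⟩ := h
    left
    have hl : IsLaw w₃ ↥(Cfsg.isometryGroup F (Cfsg.quadFormPlus m F)) :=
      IsLaw.commSubst (IsLaw.centralWord
        (hlaw'.of_injective e.symm.toMonoidHom e.symm.injective))
    obtain ⟨hm1, hF1⟩ := gl_bounds hN₁ (by omega) hw₃ _ (toIsometry_injective (Cfsg.quadFormPlus m F)
      (hyperbolicHom m) (quadFormPlus_hyperbolicHom m) (hyperbolicHom_injective m)) hl
    rw [Nat.card_congr e.toEquiv]
    exact card_quotient_center_le.trans (card_le_matrix hB1 (fun g => g.1.1.1)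
      (fun _ _ h => Subtype.ext (Subtype.ext (Units.ext h))) (by simp; omega) (hF1.trans hBbig))
  · obtain ⟨F, _, _, m, a, b, hm, -, ⟨e⟩⟩ := h
    left
    have hl : IsLaw w₃ ↥(Cfsg.isometryGroup F (Cfsg.quadFormMinus (m - 1) F a b)) :=
      IsLaw.commSubst (IsLaw.centralWord
        (hlaw'.of_injective e.symm.toMonoidHom e.symm.injective))
    obtain ⟨hm1, hF1⟩ := gl_bounds hN₁ (show 2 ≤ m - 1 by omega) hw₃ _
      (toIsometry_injective (Cfsg.quadFormMinus (m - 1) F a b)
      ((blockHom (Equiv.refl _)).comp (hyperbolicHom (m - 1)))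
      (quadFormMinus_hyperbolicHom (m - 1) a b)
      ((blockHom_injective _).comp (hyperbolicHom_injective (m - 1)))) hl
    rw [Nat.card_congr e.toEquiv]
    exact card_quotient_center_le.trans (card_le_matrix hB1 (fun g => g.1.1.1)
      (fun _ _ h => Subtype.ext (Subtype.ext (Units.ext h))) (by simp; omega) (hF1.trans hBbig))

end Cfsg.Agent.S2355
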