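import Cfsg.Statements.S2356
import Cfsg.Agent.Lib.SU3Inv

set_option autoImplicit false
open Cfsg

namespace Cfsg.Agent.S2356

/-- Let q be odd, F the field with q² elements, S = SU_3(F) (determinant-one isometries of the standard Hermitian form) and t an involution of S. Then: exactly q(q−1) involutions other than t commute with t; exactly q(q−2)(q²−1) involutions do not commute with t but commute with some involution commuting with t; exactly (q+1)(q²−1) involutions x do not commute with t and admit no involution commuting with both t and x; and every involution can be reached from t in at most three steps, each step going to an involution that commutes with the previous one (the commuting involution graph is connected of diameter 3). -/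
theorem result {F : Type*} [Field F] [Fintype F] {q : ℕ} (hq : Odd q)
    (hF : Fintype.card F = q ^ 2) (t : ↥(Cfsg.SU 3 F q)) (ht : t ≠ 1) (ht2 : t * t = 1) :
    Nat.card {x : ↥(Cfsg.SU 3 F q) // x ≠ 1 ∧ x * x = 1 ∧ x ≠ t ∧ Commute t x} = q * (q - 1) ∧
    Nat.card {x : ↥(Cfsg.SU 3 F q) // x ≠ 1 ∧ x * x = 1 ∧ ¬ Commute t x ∧
        ∃ y : ↥(Cfsg.SU 3 F q), y ≠ 1 ∧ y * y = 1 ∧ Commute t y ∧ Commute y x} = q * (q - 2) * (q ^ 2 - 1) ∧
    Nat.card {x : ↥(Cfsg.SU 3 F q) // x ≠ 1 ∧ x * x = 1 ∧ ¬ Commute t x ∧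
        ∀ y : ↥(Cfsg.SU 3 F q), y ≠ 1 → y * y = 1 → ¬ (Commute t y ∧ Commute y x)} = (q + 1) * (q ^ 2 - 1) ∧
    ∀ x : ↥(Cfsg.SU 3 F q), x ≠ 1 → x * x = 1 →
      ∃ y z : ↥(Cfsg.SU 3 F q), y ≠ 1 ∧ y * y = 1 ∧ z ≠ 1 ∧ z * z = 1 ∧
        Commute t y ∧ Commute y z ∧ Commute z x := by
  classical
  have h2 : (2 : F) ≠ 0 := CfsgLib.SU3Inv.two_ne hF hq
  obtain ⟨g, rfl⟩ := CfsgLib.SU3Inv.exists_conj_E hF h2 t ht ht2
  set e := CfsgLib.SU3Inv.E hF with he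
  have h1 : ∀ x : ↥(Cfsg.SU 3 F q), g * x * g⁻¹ = 1 ↔ x = 1 := fun x => (CfsgLib.SU3Inv.conj_prop g x).1
  have h3 : ∀ x : ↥(Cfsg.SU 3 F q), g * x * g⁻¹ * (g * x * g⁻¹) = 1 ↔ x * x = 1 := fun x =>
    (CfsgLib.SU3Inv.conj_prop g x).2
  have hi : ∀ a b : ↥(Cfsg.SU 3 F q), g * a * g⁻¹ = g * b * g⁻¹ ↔ a = b := fun a b => by simp
  have hc : ∀ a b : ↥(Cfsg.SU 3 F q), Commute (g * a * g⁻¹) (g * b * g⁻¹) ↔ Commute a b := fun a b =>
    Commute.conj_iff g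
  have surj : ∀ y : ↥(Cfsg.SU 3 F q), ∃ z, y = g * z * g⁻¹ := fun y => ⟨g⁻¹ * y * g, by group⟩
  refine ⟨?_, ?_, ?_, fun x hx hx2 => ?_⟩
  · rw [← CfsgLib.SU3Inv.card_orth hF h2]
    refine (CfsgLib.SU3Inv.card_transport g _ _ fun y => ?_).symm
    simp only [← he, Ne, h1, h3, hi, hc]
  · rw [← CfsgLib.SU3Inv.card_near hF h2]
    refine (CfsgLib.SU3Inv.card_transport g _ _ fun y => ?_).symm
    simp only [← he, Ne, h1, h3, hc]
    constructor
    · rintro ⟨a, b, c, z, z1, z2, z3, z4⟩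
      exact ⟨a, b, c, g * z * g⁻¹, mt (h1 z).mp z1, (h3 z).mpr z2, (hc _ _).mpr z3, (hc _ _).mpr z4⟩
    · rintro ⟨a, b, c, w, z1, z2, z3, z4⟩
      obtain ⟨z, rfl⟩ := surj w
      exact ⟨a, b, c, z, mt (h1 z).mpr z1, (h3 z).mp z2, (hc _ _).mp z3, (hc _ _).mp z4⟩
  · rw [← CfsgLib.SU3Inv.card_far hF h2]
    refine (CfsgLib.SU3Inv.card_transport g _ _ fun y => ?_).symm
    simp only [← he, Ne, h1, h3, hc]
    constructor
    · rintro ⟨a, b, c, d⟩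
      refine ⟨a, b, c, fun w z1 z2 z34 => ?_⟩
      obtain ⟨z, rfl⟩ := surj w
      exact d z (mt (h1 z).mpr z1) ((h3 z).mp z2) ⟨(hc _ _).mp z34.1, (hc _ _).mp z34.2⟩
    · rintro ⟨a, b, c, d⟩
      exact ⟨a, b, c, fun z z1 z2 z34 =>
        d (g * z * g⁻¹) (mt (h1 z).mp z1) ((h3 z).mpr z2) ⟨(hc _ _).mpr z34.1, (hc _ _).mpr z34.2⟩⟩
  · obtain ⟨x', rfl⟩ := surj x
    obtain ⟨y, z, y1, y2, z1, z2, a, b, c⟩ :=
      CfsgLib.SU3Inv.connected hF h2 x' (mt (h1 x').mpr hx) ((h3 x').mp hx2)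
    exact ⟨g * y * g⁻¹, g * z * g⁻¹, mt (h1 y).mp y1, (h3 y).mpr y2, mt (h1 z).mp z1, (h3 z).mpr z2,
      (hc _ _).mpr a, (hc _ _).mpr b, (hc _ _).mpr c⟩

end Cfsg.Agent.S2356
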