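import Cfsg.Statements.S2362
import Cfsg.Agent.Lib.OddSpectra.NoOrder
import Cfsg.Agent.Lib.OmegaMem
import Cfsg.Agent.Lib.POmegaCard
import Cfsg.Agent.Lib.StdQuadForms
import Cfsg.Agent.Lib.PSpGraph.Basic
-- import your own Cfsg.Agent.* helpers here

set_option autoImplicit false
open Cfsg

namespace Cfsg.Agent.S2362

set_option maxHeartbeats 1600000

open CfsgLib CfsgLib.SpinorMatrix in
theorem not_mem_odd {F : Type*} [Field F] [Fintype F] (h2 : (2 : F) ≠ 0) (p : ℕ) [Fact p.Prime] [CharP F p]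
    {m : ℕ} (hm : 2 ≤ m) (f : (Unit ⊕ (Fin (1 + m) ⊕ Fin (1 + m)) → F) → F)
    (hf : f = ⇑(StdQuadForms.Qo (F := F) (1 + m))) :
    p * (Fintype.card F ^ m + 1) ∉ Set.range (orderOf : Cfsg.POmega F f → ℕ) := by
  classical
  subst hf
  set Q := StdQuadForms.Qo (F := F) (1 + m)
  rintro ⟨g, hg⟩
  have hQ := StdQuadForms.Qo_nondeg h2 (1 + m)
  have hn : 5 ≤ Fintype.card (Unit ⊕ (Fin (1 + m) ⊕ Fin (1 + m))) := by simp; omega
  have hdet : Cfsg.Omega F ⇑Q ≤
      (Matrix.GeneralLinearGroup.det.comp (Cfsg.isometryGroup F ⇑Q).subtype).ker :=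
    Abelianization.commutator_subset_ker _
  have hbot : Subgroup.center (Cfsg.Omega F ⇑Q) = ⊥ := by
    rw [Subgroup.eq_bot_iff_forall]
    intro z hz
    rcases POmegaCard.center_cases Q hn hQ z hz with h | h
    · exact Subtype.ext (Subtype.ext (Units.ext h))
    · exfalso
      have h1 := congrArg Units.val (MonoidHom.mem_ker.1 (hdet z.2))
      rw [MonoidHom.comp_apply, Matrix.GeneralLinearGroup.val_det_apply, Subgroup.coe_subtype, h, Matrix.det_neg,
        Matrix.det_one, mul_one, Units.val_one, Odd.neg_one_pow ⟨1 + m, by simp; ring⟩] at h1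
      exact h2 (by linear_combination -h1)
  obtain ⟨z, hz⟩ := QuotientGroup.mk'_surjective (Subgroup.center (Cfsg.Omega F ⇑Q)) g
  have hinj : Function.Injective (QuotientGroup.mk' (Subgroup.center (Cfsg.Omega F ⇑Q))) := by
    rw [← MonoidHom.ker_eq_bot_iff, QuotientGroup.ker_mk', hbot]
  rw [← hz, orderOf_injective _ hinj] at hg
  refine OddSpectra.no_order Q h2 hQ (hc_odd Q h2 hQ) p hm ?_ (isoEquiv Q z.1)
    ((OmegaMem.omega_iff Q h2 (by omega) hQ z.1).1 z.2) ?_
  · rw [Module.finrank_pi]; simp; ring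
  · rw [MulEquiv.orderOf_eq, Subgroup.orderOf_coe, hg]

open CfsgLib in
theorem mem_symp {F : Type*} [Field F] [Fintype F] (p : ℕ) [Fact p.Prime] [CharP F p] (hp2 : p ≠ 2) {m : ℕ}
    (hm : 0 < m) : p * (Fintype.card F ^ m + 1) ∈ Set.range (orderOf : Cfsg.PSp (1 + m) F → ℕ) := by
  classical
  obtain ⟨x, hx⟩ := PSpGraph.exists_torus_order (F := F) p hm (Nat.succ_pos _) (Or.inl dvd_rfl)
  obtain ⟨y, hy⟩ := PSpGraph.exists_order_char (F := F) p (n := 1) one_pos
  have hcop : Nat.Coprime p (Fintype.card F ^ m + 1) := by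
    refine (Nat.Prime.coprime_iff_not_dvd Fact.out).2 fun hd => ?_
    obtain ⟨a, ha, hF⟩ := PSpGraph.card_eq_pow F p
    have h1 : p ∣ Fintype.card F ^ m := hF ▸ dvd_pow (dvd_pow_self p (by omega)) hm.ne'
    exact (Fact.out : p.Prime).not_dvd_one ((Nat.dvd_add_right h1).1 hd)
  set g := SympBlocks.Φ 1 m (y, x) with hgd
  have hg : orderOf g = p * (Fintype.card F ^ m + 1) := by
    rw [hgd, orderOf_injective _ SympBlocks.Φ_injective, Prod.orderOf, hx, hy, hcop.lcm_eq_mul]
  refine ⟨QuotientGroup.mk g, ?_⟩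
  rw [← hg]
  refine Nat.dvd_antisymm (orderOf_map_dvd (QuotientGroup.mk' _) g) (orderOf_dvd_of_pow_eq_one ?_)
  set k := orderOf (QuotientGroup.mk g : Cfsg.PSp (1 + m) F)
  obtain ⟨t, ht, ht2⟩ := (SpectrumPowers.mk_eq_one_iff_Sp (by omega) (g ^ k)).1
    (by rw [QuotientGroup.mk_pow]; exact pow_orderOf_eq_one _)
  have h1 : (y ^ k).1 = Matrix.scalar (Fin 1 ⊕ Fin 1) t := by
    have hb : SympBlocks.blk (g ^ k).1 = SympBlocks.blk (Matrix.scalar _ t) := congrArg _ ht
    rw [hgd, ← map_pow, SympBlocks.blk_Φ] at hb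
    ext i j
    have := congrFun (congrFun hb (Sum.inl i)) (Sum.inl j)
    simp [SympBlocks.blk, Matrix.scalar_apply, Matrix.diagonal_apply] at this ⊢
    exact this
  have hyk : (y ^ k) ^ p = 1 := by rw [← pow_mul, mul_comm, pow_mul, ← hy, pow_orderOf_eq_one, one_pow]
  have htp : t ^ p = 1 := by
    have h := congrArg Subtype.val hyk
    rw [SubmonoidClass.coe_pow, h1, ← map_pow] at h
    exact (Matrix.scalar_inj (n := Fin 1 ⊕ Fin 1)).1 (h.trans (map_one _).symm)
  have ht1 : t = 1 := by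
    obtain ⟨c, hc⟩ := (Fact.out : p.Prime).odd_of_ne_two hp2
    rw [hc, pow_succ, pow_mul, ht2, one_pow, one_mul] at htp
    exact htp
  exact Subtype.ext (by rw [ht, ht1, map_one]; rfl)


/-- Let F be a finite field of odd order and n ≥ 3. The simple orthogonal group PΩ(2n+1, F) (type B_n) and the projective symplectic group PSp(2n, F) (type C_n), which have the same order, do not have the same set of element orders. -/
theorem result {F : Type*} [Field F] [Fintype F] (hodd : Odd (Fintype.card F)) (n : ℕ) (hn : 3 ≤ n) :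
    Set.range (orderOf : Cfsg.POmega F (Cfsg.quadFormOdd n F) → ℕ) ≠ Set.range (orderOf : Cfsg.PSp n F → ℕ) := by
  classical
  obtain ⟨m, rfl⟩ : ∃ m, n = 1 + m := ⟨n - 1, by omega⟩
  obtain ⟨p, hchar⟩ := CharP.exists F
  haveI : Fact p.Prime := ⟨CharP.char_is_prime F p⟩
  have hp2 : p ≠ 2 := fun h => by
    subst h
    have := FiniteField.even_card_of_char_two (F := F) (ringChar.eq F 2)
    obtain ⟨t, ht⟩ := hodd
    omega
  have h2 : (2 : F) ≠ 0 := fun h => hp2 ((Nat.prime_dvd_prime_iff_eq Fact.out Nat.prime_two).1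
    ((CharP.cast_eq_zero_iff F p 2).1 (by exact_mod_cast h)))
  intro heq
  refine not_mem_odd h2 p (m := m) (by omega) _ (funext fun v => (CfsgLib.StdQuadForms.Qo_apply _ v).symm) ?_
  rw [heq]
  exact mem_symp p hp2 (by omega)

end Cfsg.Agent.S2362
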