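import Cfsg.Statements.S2364
import Cfsg.Agent.Lib.PSLnCommute.Linear
import Cfsg.Agent.Lib.SLCard
-- import your own Cfsg.Agent.* helpers here

set_option autoImplicit false
open Cfsg

namespace Cfsg.Agent.S2364

/-- Let F be a finite field of characteristic p, n ≥ 4, and let a, b be commuting elements of PSL(n, F) with a of order p. Then every prime divisor of the order of b divides the order of SL(n − 2, F). -/
theorem result {F : Type*} [Field F] [Fintype F] (p : ℕ) [Fact p.Prime] [CharP F p] (n : ℕ) (hn : 4 ≤ n)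
    (a b : Matrix.ProjectiveSpecialLinearGroup (Fin n) F) (ha : orderOf a = p) (hab : Commute a b) :
    (orderOf b).primeFactors ⊆ (Nat.card (Matrix.SpecialLinearGroup (Fin (n - 2)) F)).primeFactors := by
  classical
  have hpp : p.Prime := Fact.out
  intro r hr
  rw [Nat.mem_primeFactors] at hr ⊢
  obtain ⟨hrp, hrb, -⟩ := hr
  refine ⟨hrp, ?_, Nat.card_pos.ne'⟩
  -- the order of `SL (n - 2)`
  set q := Fintype.card F with hqdef
  have hq : 2 ≤ q := Fintype.one_lt_card
  set S := Nat.card (Matrix.SpecialLinearGroup (Fin (n - 2)) F) with hSdef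
  have hGL : (q - 1) * S = ∏ i : Fin (n - 2), (q ^ (n - 2) - q ^ (i : ℕ)) := by
    rw [CfsgLib.SLCard.card_units_mul_card_SL (by omega), Matrix.card_GL_field]
  have hfac : ∀ k (hk1 : 1 ≤ k) (hk : k ≤ n - 2), q ^ (n - 2) - q ^ (n - 2 - k) = q ^ (n - 2 - k) * (q ^ k - 1) := by
    intro k hk1 hk
    rw [Nat.mul_sub, mul_one, ← pow_add, Nat.sub_add_cancel hk]
  let i1 : Fin (n - 2) := ⟨n - 2 - 1, by omega⟩
  let i2 : Fin (n - 2) := ⟨n - 2 - 2, by omega⟩
  have hne12 : i1 ≠ i2 := fun h => by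
    have := congrArg Fin.val h
    simp only [i1, i2] at this
    omega
  have hS' : S = q ^ (n - 2 - 1) * ∏ i ∈ Finset.univ.erase i1, (q ^ (n - 2) - q ^ (i : ℕ)) := by
    refine Nat.eq_of_mul_eq_mul_left (show 0 < q - 1 by omega) ?_
    rw [hGL, ← Finset.mul_prod_erase Finset.univ _ (Finset.mem_univ i1)]
    simp only [i1, hfac 1 le_rfl (by omega), pow_one]
    ring
  have hdvdS : ∀ k, 1 ≤ k → k ≤ n - 2 → r ∣ q ^ k - 1 → r ∣ S := by
    intro k hk1 hk hdvd
    rw [hS']
    refine dvd_mul_of_dvd_right ?_ _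
    rcases Nat.lt_or_ge 1 k with hk2 | hk2
    · let ik : Fin (n - 2) := ⟨n - 2 - k, by omega⟩
      refine dvd_trans ?_ (Finset.dvd_prod_of_mem _ (show ik ∈ Finset.univ.erase i1 from
        Finset.mem_erase.mpr ⟨fun h => by
          have := congrArg Fin.val h
          simp only [ik, i1] at this
          omega, Finset.mem_univ _⟩))
      simp only [ik, hfac k hk1 hk]
      exact dvd_mul_of_dvd_right hdvd _
    · have hk' : k = 1 := by omega
      subst hk'
      refine dvd_trans ?_ (Finset.dvd_prod_of_mem _ (show i2 ∈ Finset.univ.erase i1 from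
        Finset.mem_erase.mpr ⟨hne12.symm, Finset.mem_univ _⟩))
      simp only [i2, hfac 2 (by omega) (by omega)]
      refine dvd_mul_of_dvd_right (dvd_trans hdvd ?_) _
      simpa using Nat.sub_dvd_pow_sub_pow q 1 2
  by_contra hns
  have hnd : ∀ k, 1 ≤ k → k ≤ n - 2 → ¬ r ∣ q ^ k - 1 := fun k h1 h2 h => hns (hdvdS k h1 h2 h)
  -- `r ≠ p`
  have hrp' : r ≠ p := by
    rintro rfl
    apply hns
    rw [hS']
    refine dvd_mul_of_dvd_left (dvd_pow ?_ (by omega)) _
    obtain ⟨f, -, hf⟩ := FiniteField.card F r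
    rw [hqdef, hf]
    exact dvd_pow_self _ f.ne_zero
  haveI : Fact r.Prime := ⟨hrp⟩
  obtain ⟨c, hc⟩ := hrb
  have hc0 : c ≠ 0 := fun h => (orderOf_pos b).ne' (by rw [hc, h, mul_zero])
  set b' := b ^ c with hb'
  have hb'r : orderOf b' = r := by
    rw [hb', orderOf_pow' b hc0, hc, Nat.gcd_eq_right (dvd_mul_left c r), Nat.mul_div_cancel _ (by omega)]
  -- lifts of `p`-power and `r`-power order
  have lift : ∀ (ℓ : ℕ), ℓ.Prime → ∀ x : Matrix.ProjectiveSpecialLinearGroup (Fin n) F, orderOf x = ℓ →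
      ∃ (X : Matrix.SpecialLinearGroup (Fin n) F) (m : ℕ), (∃ j, X ^ ℓ ^ j = 1) ∧ ¬ ℓ ∣ m ∧
        QuotientGroup.mk' (Subgroup.center _) X = x ^ m := by
    intro ℓ hℓ x hx
    obtain ⟨Y, hY⟩ := QuotientGroup.mk'_surjective (Subgroup.center (Matrix.SpecialLinearGroup (Fin n) F)) x
    obtain ⟨j, m, hm, hYo⟩ := Nat.exists_eq_pow_mul_and_not_dvd (orderOf_pos Y).ne' ℓ hℓ.ne_one
    refine ⟨Y ^ m, m, ⟨j, ?_⟩, hm, ?_⟩
    · rw [← pow_mul, mul_comm, ← hYo, pow_orderOf_eq_one]
    · exact (map_pow _ _ _).trans (congrArg (· ^ m) hY)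
  obtain ⟨A, ma, ⟨i, hAi⟩, hma, hA⟩ := lift p hpp a ha
  obtain ⟨B, mb, ⟨j, hBj⟩, hmb, hB⟩ := lift r hrp b' hb'r
  have hA1 : A ∉ Subgroup.center (Matrix.SpecialLinearGroup (Fin n) F) := fun h => hma (by
    rw [← ha]; exact orderOf_dvd_of_pow_eq_one (hA.symm.trans ((QuotientGroup.eq_one_iff A).mpr h)))
  have hB1 : B ∉ Subgroup.center (Matrix.SpecialLinearGroup (Fin n) F) := fun h => hmb (by
    rw [← hb'r]; exact orderOf_dvd_of_pow_eq_one (hB.symm.trans ((QuotientGroup.eq_one_iff B).mpr h)))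
  haveI : Nonempty (Fin n) := ⟨⟨0, by omega⟩⟩
  let i0 : Fin n := ⟨0, by omega⟩
  have hscal : ∀ z ∈ Subgroup.center (Matrix.SpecialLinearGroup (Fin n) F),
      ∃ u : F, (z : Matrix (Fin n) (Fin n) F) = Matrix.scalar (Fin n) u := by
    intro z hz
    obtain ⟨u, -, hu⟩ := Matrix.SpecialLinearGroup.mem_center_iff.mp hz
    exact ⟨u, hu.symm⟩
  have hz : ∀ z ∈ Subgroup.center (Matrix.SpecialLinearGroup (Fin n) F), z ^ r = 1 → z = 1 := by
    intro z hz hzr
    obtain ⟨u, hu⟩ := hscal z hz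
    have hur : u ^ r = 1 := by
      have h := congrArg (fun g : Matrix.SpecialLinearGroup (Fin n) F => g.1 i0 i0) hzr
      simpa [Matrix.SpecialLinearGroup.coe_pow, hu, Matrix.diagonal_pow] using h
    have hu0 : u ≠ 0 := fun h => by rw [h, zero_pow hrp.ne_zero] at hur; exact zero_ne_one hur
    have hu1 : u = 1 := by
      by_contra hne
      refine hnd 1 le_rfl (by omega) ?_
      rw [pow_one]
      have : orderOf u = r := orderOf_eq_prime hur hne
      rw [← this]
      exact orderOf_dvd_of_pow_eq_one (FiniteField.pow_card_sub_one_eq_one u hu0)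
    apply Subtype.ext
    rw [hu, hu1]
    simp
  have hzpow : ∀ k : ℕ, ∀ z ∈ Subgroup.center (Matrix.SpecialLinearGroup (Fin n) F), z ^ r ^ k = 1 → z = 1 := by
    intro k
    induction k with
    | zero => intro z _ h; simpa using h
    | succ k ih =>
      intro z hzc h
      rw [pow_succ', pow_mul] at h
      exact hz z hzc (ih _ (Subgroup.pow_mem _ hzc r) h)
  have hBr : B ^ r = 1 := by
    refine hzpow j _ ?_ (by rw [← pow_mul, mul_comm, pow_mul, hBj, one_pow])
    refine (QuotientGroup.eq_one_iff _).mp ?_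
    show QuotientGroup.mk' _ (B ^ r) = 1
    rw [map_pow, hB, ← pow_mul, mul_comm, pow_mul, ← hb'r, pow_orderOf_eq_one, one_pow]
  have hAB : Commute A B := by
    have hcomm : Commute (a ^ ma) (b' ^ mb) := (hab.pow_pow ma c).pow_right mb
    set z := A * B * A⁻¹ * B⁻¹ with hzdef
    have hzc : z ∈ Subgroup.center (Matrix.SpecialLinearGroup (Fin n) F) := by
      refine (QuotientGroup.eq_one_iff _).mp ?_
      show QuotientGroup.mk' _ (A * B * A⁻¹ * B⁻¹) = 1
      simp only [map_mul, map_inv, hA, hB]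
      rw [hcomm.eq]
      group
    have hzB : A * B * A⁻¹ = z * B := by rw [hzdef]; group
    have hz1 : z = 1 := by
      refine hz z hzc ?_
      have h : (A * B * A⁻¹) ^ r = z ^ r * B ^ r := by
        rw [hzB, (show Commute z B from (Subgroup.mem_center_iff.mp hzc B).symm).mul_pow]
      rw [conj_pow, hBr, mul_one, mul_one, mul_inv_cancel] at h
      exact h.symm
    exact mul_inv_eq_iff_eq_mul.mp (by rw [hzB, hz1, one_mul])
  -- as endomorphisms
  let φ : Matrix (Fin n) (Fin n) F ≃ₐ[F] Module.End F (Fin n → F) := Matrix.toLinAlgEquiv'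
  have hfg : Commute (φ B.1) (φ A.1 - 1) := ((hAB.symm.map
    (Matrix.SpecialLinearGroup.toGL (n := Fin n) (R := F))).units_val.map φ).sub_right (Commute.one_right _)
  have hnil : IsNilpotent (φ A.1 - 1) := by
    refine ⟨p ^ i, ?_⟩
    haveI : CharP (Module.End F (Fin n → F)) p :=
      charP_of_injective_algebraMap (FaithfulSMul.algebraMap_injective F (Module.End F (Fin n → F))) p
    rw [sub_pow_char_pow_of_commute (p := p) _ (Commute.one_right (φ A.1)), one_pow, ← map_pow, ← Matrix.SpecialLinearGroup.coe_pow,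
      hAi, Matrix.SpecialLinearGroup.coe_one, map_one, sub_self]
  have hg := CfsgLib.PSLnCommute.nilpotent_eq_zero_of_large (r := r) (n := n) (by simp) (by omega)
    (fun h => hrp' ((Nat.prime_dvd_prime_iff_eq hpp hrp).mp ((CharP.cast_eq_zero_iff F p r).mp h)).symm)
    (fun k h1 h2 => hqdef ▸ hnd k h1 h2) (φ B.1) (φ A.1 - 1)
    (by rw [← map_pow, ← Matrix.SpecialLinearGroup.coe_pow, hBr, Matrix.SpecialLinearGroup.coe_one, map_one])
    (fun h => hB1 (by
      have : B = 1 := Subtype.ext (φ.injective (h.trans (map_one φ).symm))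
      rw [this]; exact one_mem _)) hfg hnil
  exact hA1 (by
    have : A = 1 := Subtype.ext (φ.injective ((sub_eq_zero.mp hg).trans (map_one φ).symm))
    rw [this]; exact one_mem _)

end Cfsg.Agent.S2364
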