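import Cfsg.Statements.S2365
import Cfsg.Agent.Lib.UnitaryOrder
import Cfsg.Agent.Lib.SemisimplePrimeClasses.Unitary
import Cfsg.Agent.Lib.SpectrumPowers.UnitaryWitness
import Cfsg.Agent.Lib.PSpGraph.Basic
-- import your own Cfsg.Agent.* helpers here

set_option autoImplicit false
open Cfsg

namespace Cfsg.Agent.S2365

set_option maxHeartbeats 1000000
open Matrix Polynomial

theorem card_SU {F : Type*} [Field F] [Fintype F] {q k : ℕ} (hF : Fintype.card F = q ^ 2) (hk : 1 ≤ k) :
    Nat.card (Cfsg.SU k F q) = q ^ (k * (k - 1) / 2) *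
      ∏ i ∈ Finset.range (k - 1), (if Even (i + 1) then q ^ (i + 2) + 1 else q ^ (i + 2) - 1) := by
  have h1 := CfsgLib.UnitaryOrder.card_GU hF k
  rw [CfsgLib.UnitaryOrder.card_GU_eq hF hk] at h1
  obtain ⟨j, rfl⟩ : ∃ j, k = j + 1 := ⟨k - 1, by omega⟩
  rw [Finset.prod_range_succ', if_pos (show Even 0 from ⟨0, rfl⟩), zero_add, pow_one, ← mul_assoc, mul_comm] at h1
  rw [Nat.add_sub_cancel]
  exact Nat.eq_of_mul_eq_mul_right (Nat.succ_pos q) h1

theorem eq_zero_of_commute {K : Type*} [Field K] [DecidableEq K] {m : ℕ} (B N : Matrix (Fin m) (Fin m) K)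
    (hnd : B.charpoly.roots.Nodup) (hcard : Multiset.card B.charpoly.roots = m) (hc : Commute N B) {e : ℕ}
    (hN : N ^ e = 0) : N = 0 := by
  classical
  set S := B.charpoly.roots.toFinset
  have hv : ∀ t : S, ∃ v : Fin m → K, v ≠ 0 ∧ B *ᵥ v = t.1 • v := fun t => by
    have ht : B.charpoly.IsRoot t.1 := ((mem_roots (Matrix.charpoly_monic B).ne_zero).1 (Multiset.mem_toFinset.1 t.2))
    rw [IsRoot, Matrix.eval_charpoly, ← Matrix.exists_mulVec_eq_zero_iff] at ht
    obtain ⟨v, hv, hv'⟩ := ht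
    refine ⟨v, hv, ?_⟩
    rw [Matrix.sub_mulVec, sub_eq_zero] at hv'
    rw [← hv', Matrix.scalar_apply, ← Matrix.smul_one_eq_diagonal, Matrix.smul_mulVec, Matrix.one_mulVec]
  choose v hv0 hvt using hv
  have hli : LinearIndependent K v := Module.End.eigenvectors_linearIndependent' (Matrix.toLin' B) Subtype.val
    Subtype.val_injective v fun t => ⟨Module.End.mem_eigenspace_iff.2 (by rw [Matrix.toLin'_apply]; exact hvt t), hv0 t⟩
  have hSc : Fintype.card S = m := by
    rw [Fintype.card_coe, Multiset.toFinset_card_of_nodup hnd, hcard]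
  have hspan := hli.span_eq_top_of_card_eq_finrank' (by rw [hSc, Module.finrank_pi, Fintype.card_fin])
  refine Matrix.toLin'.injective ?_
  rw [map_zero]
  refine LinearMap.ext_on_range hspan fun t => ?_
  rw [Matrix.toLin'_apply, LinearMap.zero_apply]
  have hE : Module.finrank K (Module.End.eigenspace (Matrix.toLin' B) t.1) ≤ 1 := by
    refine (LinearMap.finrank_eigenspace_le _ _).trans ?_
    rw [Matrix.charpoly_toLin', ← Polynomial.count_roots]
    exact Multiset.nodup_iff_count_le_one.1 hnd _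
  have hw : N *ᵥ v t ∈ Module.End.eigenspace (Matrix.toLin' B) t.1 := Module.End.mem_eigenspace_iff.2 (by
    rw [Matrix.toLin'_apply, mulVec_mulVec, ← hc.eq, ← mulVec_mulVec, hvt, Matrix.mulVec_smul])
  have hvm : v t ∈ Module.End.eigenspace (Matrix.toLin' B) t.1 :=
    Module.End.mem_eigenspace_iff.2 (by rw [Matrix.toLin'_apply]; exact hvt t)
  have hle : K ∙ v t ≤ Module.End.eigenspace (Matrix.toLin' B) t.1 := (Submodule.span_singleton_le_iff_mem _ _).2 hvm
  have heq := Submodule.eq_of_le_of_finrank_le hle (by rw [finrank_span_singleton (hv0 t)]; exact hE)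
  obtain ⟨c, hc'⟩ := Submodule.mem_span_singleton.1 (heq ▸ hw)
  have hpow : ∀ k : ℕ, (N ^ k) *ᵥ v t = c ^ k • v t := fun k => by
    induction k with
    | zero => simp
    | succ k ih => rw [pow_succ', ← mulVec_mulVec, ih, Matrix.mulVec_smul, ← hc', smul_smul, pow_succ]
  have h0 := hpow e
  rw [hN, Matrix.zero_mulVec] at h0
  have hce : c ^ e = 0 := (smul_eq_zero.1 h0.symm).resolve_right (hv0 t)
  rw [← hc', eq_zero_of_pow_eq_zero hce, zero_smul]

/-- Let q be a power of the prime p, F the field with q² elements, m ≥ 4, and let a, b be commuting elements of PSU(m, q) with a of order p. Then every prime divisor of the order of b divides the order of SU(m − 2, q). -/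
theorem result {F : Type*} [Field F] [Fintype F] (p : ℕ) [Fact p.Prime] [CharP F p] (m q : ℕ) (hm : 4 ≤ m) (hF : Fintype.card F = q ^ 2)
    (a b : Cfsg.PSU m F q) (ha : orderOf a = p) (hab : Commute a b) :
    (orderOf b).primeFactors ⊆ (Nat.card ↥(Cfsg.SU (m - 2) F q)).primeFactors := by
  classical
  have hp : p.Prime := Fact.out
  obtain ⟨hq1, sσ, hsσ⟩ := CfsgLib.UnitaryBasic.frob_exists hF
  obtain ⟨f, hqf, hf⟩ := CfsgLib.SpectrumPowers.exists_prime_pow hF p
  intro r hrb
  rw [Nat.mem_primeFactors] at hrb ⊢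
  obtain ⟨hr, hrb, -⟩ := hrb
  refine ⟨hr, ?_, Nat.card_pos.ne'⟩
  by_contra hnd
  haveI := Fact.mk hr
  have hm1 : 1 ≤ m - 2 := by omega
  rw [card_SU hF hm1, hr.dvd_mul, not_or] at hnd
  obtain ⟨hrq', hprod⟩ := hnd
  have hrq : ¬ r ∣ q := fun h => by
    rcases Nat.lt_or_ge ((m - 2) * (m - 2 - 1) / 2) 1 with h0 | h0
    · have : 2 ≤ (m - 2) * (m - 2 - 1) := Nat.mul_le_mul (show 2 ≤ m - 2 by omega) (show 1 ≤ m - 2 - 1 by omega)
      omega
    · exact hrq' (h.trans (dvd_pow_self q (by omega)))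
  have hrp : r ≠ p := fun h => hrq (h ▸ hqf ▸ dvd_pow_self p (by omega))
  -- the powers of `-q`
  have hpowne : ∀ j, 1 ≤ j → j ≤ m - 2 → (-(q : ZMod r)) ^ j ≠ 1 := by
    have key : ∀ j, 2 ≤ j → j ≤ m - 2 → (-(q : ZMod r)) ^ j ≠ 1 := fun j hj1 hj2 h => by
      refine hprod ((hr.prime.dvd_finsetProd_iff _).2 ⟨j - 2, Finset.mem_range.2 (by omega), ?_⟩)
      rw [show j - 2 + 1 = j - 1 by omega, show j - 2 + 2 = j by omega]
      rcases Nat.even_or_odd j with he | ho
      · rw [if_neg (Nat.not_even_iff_odd.2 (Nat.Even.sub_odd (by omega) he odd_one)),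
          ← ZMod.natCast_eq_zero_iff, Nat.cast_sub (Nat.one_le_pow _ _ (by omega)), Nat.cast_pow, Nat.cast_one,
          ← he.neg_pow (q : ZMod r), h, sub_self]
      · rw [if_pos (Nat.Odd.sub_odd ho odd_one), ← ZMod.natCast_eq_zero_iff, Nat.cast_add, Nat.cast_pow,
          Nat.cast_one]
        rw [ho.neg_pow] at h
        rw [eq_neg_of_add_eq_zero_left (show (q : ZMod r) ^ j + 1 = 0 by linear_combination -h)]
        ring
    intro j hj1 hj2
    rcases Nat.lt_or_ge j 2 with h | h
    · obtain rfl : j = 1 := by omega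
      intro h'
      rw [pow_one] at h'
      exact key 2 le_rfl (by omega) (by rw [h', one_pow])
    · exact key j h hj2
  -- lifts
  obtain ⟨A0, rfl⟩ := QuotientGroup.mk_surjective a
  obtain ⟨B0, rfl⟩ := QuotientGroup.mk_surjective b
  have hpA : p ∣ orderOf A0 := ha ▸ orderOf_map_dvd (QuotientGroup.mk' _) A0
  have hrB : r ∣ orderOf B0 := hrb.trans (orderOf_map_dvd (QuotientGroup.mk' _) B0)
  set A := A0 ^ (orderOf A0 / p) with hAdef
  set B := B0 ^ (orderOf B0 / r) with hBdef
  have hAo : orderOf A = p := orderOf_pow_orderOf_div (orderOf_pos A0).ne' hpA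
  have hBo : orderOf B = r := orderOf_pow_orderOf_div (orderOf_pos B0).ne' hrB
  have hAB : Commute (QuotientGroup.mk A : Cfsg.PSU m F q) (QuotientGroup.mk B) := by
    rw [hAdef, hBdef, QuotientGroup.mk_pow, QuotientGroup.mk_pow]
    exact hab.pow_pow _ _
  obtain ⟨c, hc⟩ := (CfsgLib.SpectrumPowers.mk_eq_one_iff_SU hF (by omega) (A * B * A⁻¹ * B⁻¹)).mp (by
    rw [QuotientGroup.mk_mul, QuotientGroup.mk_mul, QuotientGroup.mk_mul, hAB.eq, QuotientGroup.mk_inv,
      QuotientGroup.mk_inv, mul_inv_cancel_right, mul_inv_cancel])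
  set MA := A.1.1 with hMA
  set MB := B.1.1 with hMB
  have hrel : MA * MB = c • (MB * MA) := by
    have h1 : A * B = (A * B * A⁻¹ * B⁻¹) * (B * A) := by group
    have h2 : (A * B).1.1 = ((A * B * A⁻¹ * B⁻¹) * (B * A)).1.1 := by rw [← h1]
    have h3 : ((A * B * A⁻¹ * B⁻¹) * (B * A)).1.1 = (A * B * A⁻¹ * B⁻¹).1.1 * (MB * MA) := rfl
    rw [h3, hc, Matrix.scalar_apply, ← Matrix.smul_one_eq_diagonal, Matrix.smul_mul, Matrix.one_mul] at h2
    exact h2
  have hApow : MA ^ p = 1 := by
    have h1 := congrArg (fun x : Cfsg.SU m F q => x.1.1) (hAo ▸ pow_orderOf_eq_one A : A ^ p = 1)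
    simpa [hMA] using h1
  have hc1 : c = 1 := by
    have hk : ∀ k : ℕ, MA ^ k * MB = c ^ k • (MB * MA ^ k) := fun k => by
      induction k with
      | zero => simp
      | succ k ih => rw [pow_succ', Matrix.mul_assoc, ih, Matrix.mul_smul, ← Matrix.mul_assoc, hrel,
          Matrix.smul_mul, smul_smul, Matrix.mul_assoc, ← pow_succ', pow_succ, ← pow_succ c k]
    have h1 := hk p
    rw [hApow, Matrix.one_mul, Matrix.mul_one] at h1
    have hMB0 : MB ≠ 0 := fun h => by
      haveI : Nonempty (Fin m) := ⟨⟨0, by omega⟩⟩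
      have := B.1.2
      rw [← hMB, h, Matrix.det_zero] at this
      exact zero_ne_one this
    have h2 : c ^ p = 1 := (smul_left_injective F hMB0 (h1.symm.trans (one_smul F MB).symm))
    exact frobenius_inj F p (by rw [frobenius_def, frobenius_def, one_pow, h2])
  rw [hc1, one_smul] at hrel
  -- eigenvalues of the r-part
  haveI : CharP (AlgebraicClosure F) p :=
    charP_of_injective_algebraMap (algebraMap F (AlgebraicClosure F)).injective p
  set ι := algebraMap F (AlgebraicClosure F) with hι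
  let g : ↥(Cfsg.GU m F q) := ⟨SpecialLinearGroup.toGL B.1, B.2⟩
  set R := (MB.map ι).charpoly.roots with hR
  have hinv : R.map (fun t => (t ^ q)⁻¹) = R :=
    CfsgLib.SemisimplePrimeClasses.gu_invariant hF p f hqf hsσ g
  have hRcard : Multiset.card R = m := by
    rw [hR, IsAlgClosed.card_roots_eq_natDegree, Matrix.charpoly_natDegree_eq_dim, Fintype.card_fin]
  have hMBr : MB ^ r = 1 := by
    have h1 := congrArg (fun x : Cfsg.SU m F q => x.1.1) (hBo ▸ pow_orderOf_eq_one B : B ^ r = 1)
    simpa [hMB] using h1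
  have hpowR : ∀ t ∈ R, t ^ r = 1 := fun t ht => CfsgLib.SemisimplePrimeClasses.glRoots_pow (M := g.1)
    (Units.ext (by rw [Units.val_pow_eq_pow_val]; exact hMBr)) ht
  obtain ⟨t, ht, ht1⟩ : ∃ t ∈ R, t ≠ 1 := by
    by_contra hcon
    push Not at hcon
    haveI : Nonempty (Fin m) := ⟨⟨0, by omega⟩⟩
    have h1 := CfsgLib.SpectrumPowers.pow_eq_one_of_roots p (MB.map ι) one_pos (e := m) fun u hu =>
      ⟨by rw [pow_one]; exact hcon u hu, le_of_le_of_eq (Multiset.count_le_card u _) hRcard⟩
    rw [← Matrix.map_pow, ← Matrix.map_one ι (map_zero ι) (map_one ι)] at h1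
    have h2 : B ^ (p ^ Nat.clog p m * 1) = 1 := Subtype.ext (Subtype.ext (Matrix.map_injective ι.injective (by
      simpa [hMB] using h1)))
    rw [mul_one] at h2
    have := hr.dvd_of_dvd_pow (hBo ▸ orderOf_dvd_of_pow_eq_one h2)
    exact hrp ((Nat.prime_dvd_prime_iff_eq hr hp).1 this)
  have hto : orderOf t = r := orderOf_eq_prime (hpowR t ht) ht1
  set ψ : AlgebraicClosure F → AlgebraicClosure F := fun x => (x ^ q)⁻¹ with hψ
  have hψinj : Function.Injective ψ := fun x y h => (iterateFrobenius (AlgebraicClosure F) p f).injective (by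
    rw [iterateFrobenius_def, iterateFrobenius_def, ← hqf]; exact inv_injective h)
  have hcount : ∀ j, R.count (ψ^[j] t) = R.count t := fun j => by
    induction j with
    | zero => rfl
    | succ j ih =>
      rw [Function.iterate_succ_apply', ← ih]
      conv_lhs => rw [← hinv]
      exact Multiset.count_map_eq_count' _ _ hψinj _
  have hiter : ∀ j, ψ^[j] t = t ^ ((-(q : ℤ)) ^ j) := fun j => by
    induction j with
    | zero => simp
    | succ j ih =>
      rw [Function.iterate_succ_apply', ih]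
      show ((t ^ ((-(q : ℤ)) ^ j)) ^ q)⁻¹ = _
      rw [← zpow_natCast, ← _root_.zpow_mul, ← _root_.zpow_neg]
      congr 1
      rw [pow_succ]; ring
  have ht0 : t ≠ 0 := fun h => by rw [h, orderOf_zero] at hto; exact hr.ne_zero hto.symm
  have horbit : Set.InjOn (fun j => ψ^[j] t) (Finset.range (m - 1) : Finset ℕ) := by
    intro i hi j hj hij
    simp only [Finset.coe_range, Set.mem_Iio] at hi hj
    simp only [hiter] at hij
    by_contra hne
    wlog hlt : i < j generalizing i j
    · exact this hj hi hij.symm (Ne.symm hne) (by omega)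
    have hu : (Units.mk0 t ht0) ^ ((-(q : ℤ)) ^ i) = (Units.mk0 t ht0) ^ ((-(q : ℤ)) ^ j) :=
      Units.ext (by simpa using hij)
    rw [zpow_eq_zpow_iff_modEq, show orderOf (Units.mk0 t ht0) = r by rw [← orderOf_units, Units.val_mk0, hto],
      ← ZMod.intCast_eq_intCast_iff] at hu
    push_cast at hu
    have hne0 : (-(q : ZMod r)) ≠ 0 := neg_ne_zero.2 fun h => hrq ((ZMod.natCast_eq_zero_iff q r).1 h)
    refine hpowne (j - i) (by omega) (by omega) (mul_left_cancel₀ (pow_ne_zero i hne0) ?_)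
    rw [mul_one, ← pow_add, Nat.add_sub_cancel' hlt.le]
    exact hu.symm
  set S := (Finset.range (m - 1)).image fun j => ψ^[j] t with hS
  have hScard : S.card = m - 1 := by rw [hS, Finset.card_image_of_injOn horbit, Finset.card_range]
  have hSsum : ∑ u ∈ S, R.count u = (m - 1) * R.count t := by
    rw [Finset.sum_const_nat (fun u hu => by
      obtain ⟨j, -, rfl⟩ := Finset.mem_image.1 hu
      exact hcount j), hScard]
  have hnodup : R.Nodup := Multiset.nodup_iff_count_le_one.2 fun u => by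
    by_contra hu
    push Not at hu
    have h1 : 1 ≤ R.count t := Multiset.one_le_count_iff_mem.2 ht
    have h2 : ∑ w ∈ insert u S, R.count w ≤ m := by
      rw [← hRcard, ← Multiset.toFinset_sum_count_eq R]
      calc _ = ∑ w ∈ (insert u S).filter (fun w => R.count w ≠ 0), R.count w :=
            (Finset.sum_filter_ne_zero _).symm
        _ ≤ _ := Finset.sum_le_sum_of_subset fun w hw => by
          rw [Finset.mem_filter] at hw
          exact Multiset.mem_toFinset.2 (Multiset.count_ne_zero.1 hw.2)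
    have h3 : (m - 1) * 1 ≤ (m - 1) * R.count t := Nat.mul_le_mul_left _ h1
    by_cases huS : u ∈ S
    · obtain ⟨j, -, rfl⟩ := Finset.mem_image.1 huS
      rw [hcount] at hu
      rw [Finset.insert_eq_of_mem huS, hSsum] at h2
      have : (m - 1) * 2 ≤ (m - 1) * R.count t := Nat.mul_le_mul_left _ hu
      omega
    · rw [Finset.sum_insert huS, hSsum] at h2
      omega
  have hN : (MA - 1).map ι = 0 := eq_zero_of_commute (MB.map ι) _ hnodup hRcard
    (by
      have h1 : Commute (MA - 1) MB := (show Commute MA MB from hrel).sub_left (Commute.one_left _)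
      exact h1.map ι.mapMatrix)
    (e := p ^ 1) (by
      haveI : Nonempty (Fin m) := ⟨⟨0, by omega⟩⟩
      rw [← Matrix.map_pow, sub_pow_char_pow_of_commute _ _ (Commute.one_right _), pow_one, hApow, one_pow,
        sub_self, Matrix.map_zero _ (map_zero ι)])
  have : A = 1 := Subtype.ext (Subtype.ext (sub_eq_zero.1 (Matrix.map_injective ι.injective
    (hN.trans (Matrix.map_zero ι (map_zero ι)).symm))))
  rw [this, orderOf_one] at hAo
  exact hp.one_lt.ne hAo

end Cfsg.Agent.S2365
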