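import Cfsg.Statements.S2367


set_option autoImplicit false
open Cfsg

namespace Cfsg.Agent.S2367

/-- Let G be an alternating group of degree at least 5 or a simple group with the order of one of the 26 sporadic groups, and let p be an odd prime such that p³ is the exact power of p dividing the order of G. Then p³ is less than the 2-part of the order of G. -/
theorem result {G : Type*} [Group G] [Finite G] (hG : Cfsg.IsAlternating G ∨ Cfsg.IsSporadic G)
    (p : ℕ) (hp : p.Prime) (hodd : p ≠ 2) (h3 : (Nat.card G).factorization p = 3) :
    p ^ 3 < 2 ^ (Nat.card G).factorization 2 := by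
  classical
  rcases hG with hA | hS
  · obtain ⟨n, hn, ⟨e⟩⟩ := hA
    haveI : Fact p.Prime := ⟨hp⟩
    haveI : Fact (Nat.Prime 2) := ⟨Nat.prime_two⟩
    haveI : Nontrivial (Fin n) := Fin.nontrivial_iff_two_le.mpr (by omega)
    have hc : 2 * Nat.card G = n.factorial := by
      rw [Nat.card_congr e.toEquiv, Nat.card_eq_fintype_card, two_mul_card_alternatingGroup,
        Fintype.card_perm, Fintype.card_fin]
    have hG0 : Nat.card G ≠ 0 := Nat.card_pos.ne'
    rw [Nat.factorization_def _ hp] at h3
    rw [Nat.factorization_def _ Nat.prime_two]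
    have hstep : ∀ (r m : ℕ) [Fact r.Prime], padicValNat r m.factorial = padicValNat r (m / r).factorial + m / r := by
      intro r m _
      rw [← padicValNat_mul_div_factorial, padicValNat_factorial_mul]
    have hp3 : padicValNat p n.factorial = 3 := by
      rw [← hc, padicValNat.mul (by norm_num) hG0, h3, padicValNat_primes hodd, zero_add]
    have h2v : padicValNat 2 n.factorial = padicValNat 2 (Nat.card G) + 1 := by
      rw [← hc, padicValNat.mul (by norm_num) hG0, padicValNat_self, add_comm]
    have hlow : n / 2 + n / 2 / 2 ≤ padicValNat 2 n.factorial := by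
      rw [hstep 2 n, hstep 2 (n / 2)]; omega
    have hp2 := hp.two_le
    have hnp : n / p = 3 ∧ 5 ≤ p := by
      have h1 := hstep p n
      have h2 := hstep p (n / p)
      rcases Nat.lt_or_ge (n / p) p with hlt | hge
      · rw [Nat.div_eq_of_lt hlt] at h2
        rw [Nat.factorial_zero, padicValNat.one, zero_add] at h2
        rw [hp3, h2] at h1
        refine ⟨by omega, ?_⟩
        have : p ≠ 4 := fun h => by rw [h] at hp; norm_num at hp
        omega
      · have : 1 ≤ n / p / p := (Nat.one_le_div_iff (by omega)).mpr hge
        omega
    have h3p : 3 * p ≤ n := by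
      have := Nat.div_mul_le_self n p
      rw [hnp.1] at this
      exact this
    have hpow : ∀ k, 5 ≤ k → k ^ 3 < 2 ^ (2 * k - 2) := by
      intro k hk
      induction k, hk using Nat.le_induction with
      | base => norm_num
      | succ k hk ih =>
        have e2 : 2 ^ (2 * (k + 1) - 2) = 4 * 2 ^ (2 * k - 2) := by
          rw [show 2 * (k + 1) - 2 = (2 * k - 2) + 2 by omega, pow_add]; ring
        rw [e2]
        nlinarith [Nat.mul_le_mul (Nat.mul_le_mul hk hk) hk, Nat.mul_le_mul hk hk]
    exact (hpow p hnp.2).trans_le (Nat.pow_le_pow_right (by norm_num) (by omega))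
  · have key : ∀ (N a : ℕ) (L : List ℕ), N ≠ 0 → 2 ^ a ∣ N → N ∣ 2 ^ a * (L.map fun r => r ^ 30).prod →
        (∀ r ∈ L, r.Prime) → (∀ r ∈ L, r ^ 3 ∣ N → ¬ r ^ 4 ∣ N → r ^ 3 < 2 ^ a) →
        N.factorization p = 3 → p ^ 3 < 2 ^ N.factorization 2 := by
      intro N a L hN ha hdvd hL hall hv
      have hpN : p ∣ N := Nat.dvd_of_factorization_pos (by omega)
      rcases (Nat.Prime.dvd_mul hp).mp (hpN.trans hdvd) with h | h
      · exact absurd ((Nat.prime_dvd_prime_iff_eq hp Nat.prime_two).mp (hp.dvd_of_dvd_pow h)) hodd
      · obtain ⟨x, hx, hpx⟩ := hp.prime.dvd_prod_iff.mp h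
        obtain ⟨r, hr, rfl⟩ := List.mem_map.mp hx
        have hpr := (Nat.prime_dvd_prime_iff_eq hp (hL r hr)).mp (hp.dvd_of_dvd_pow hpx)
        subst hpr
        have h4 : ¬ p ^ 4 ∣ N := fun h4 => by
          have := (hp.pow_dvd_iff_le_factorization hN).mp h4
          omega
        exact (hall p hr ((hp.pow_dvd_iff_le_factorization hN).mpr hv.ge) h4).trans_le
          (Nat.pow_le_pow_right (by norm_num) ((Nat.prime_two.pow_dvd_iff_le_factorization hN).mp ha))
    unfold Cfsg.IsSporadic at hS
    rcases hS with h | h | h | h | h | h | h | h | h | h | h | h | h | h | h | h | h | h | h | h | h | h | h | h | h | h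
    · rw [show Nat.card G = 7920 from h.2] at h3 ⊢
      exact key 7920 4 [3, 5, 11] (by norm_num) (by norm_num) (by decide +kernel) (by norm_num) (by decide +kernel) h3
    · rw [show Nat.card G = 95040 from h.2] at h3 ⊢
      exact key 95040 6 [3, 5, 11] (by norm_num) (by norm_num) (by decide +kernel) (by norm_num) (by decide +kernel) h3
    · rw [show Nat.card G = 443520 from h.2] at h3 ⊢
      exact key 443520 7 [3, 5, 7, 11] (by norm_num) (by norm_num) (by decide +kernel) (by norm_num) (by decide +kernel) h3
    · rw [show Nat.card G = 10200960 from h.2] at h3 ⊢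
      exact key 10200960 7 [3, 5, 7, 11, 23] (by norm_num) (by norm_num) (by decide +kernel) (by norm_num) (by decide +kernel) h3
    · rw [show Nat.card G = 244823040 from h.2] at h3 ⊢
      exact key 244823040 10 [3, 5, 7, 11, 23] (by norm_num) (by norm_num) (by decide +kernel) (by norm_num) (by decide +kernel) h3
    · rw [show Nat.card G = 175560 from h.2] at h3 ⊢
      exact key 175560 3 [3, 5, 7, 11, 19] (by norm_num) (by norm_num) (by decide +kernel) (by norm_num) (by decide +kernel) h3
    · rw [show Nat.card G = 604800 from h.2] at h3 ⊢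
      exact key 604800 7 [3, 5, 7] (by norm_num) (by norm_num) (by decide +kernel) (by norm_num) (by decide +kernel) h3
    · rw [show Nat.card G = 50232960 from h.2] at h3 ⊢
      exact key 50232960 7 [3, 5, 17, 19] (by norm_num) (by norm_num) (by decide +kernel) (by norm_num) (by decide +kernel) h3
    · rw [show Nat.card G = 86775571046077562880 from h.2] at h3 ⊢
      exact key 86775571046077562880 21 [3, 5, 7, 11, 23, 29, 31, 37, 43] (by norm_num) (by norm_num) (by decide +kernel) (by norm_num) (by decide +kernel) h3
    · rw [show Nat.card G = 4157776806543360000 from h.2] at h3 ⊢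
      exact key 4157776806543360000 21 [3, 5, 7, 11, 13, 23] (by norm_num) (by norm_num) (by decide +kernel) (by norm_num) (by decide +kernel) h3
    · rw [show Nat.card G = 42305421312000 from h.2] at h3 ⊢
      exact key 42305421312000 18 [3, 5, 7, 11, 23] (by norm_num) (by norm_num) (by decide +kernel) (by norm_num) (by decide +kernel) h3
    · rw [show Nat.card G = 495766656000 from h.2] at h3 ⊢
      exact key 495766656000 10 [3, 5, 7, 11, 23] (by norm_num) (by norm_num) (by decide +kernel) (by norm_num) (by decide +kernel) h3
    · rw [show Nat.card G = 64561751654400 from h.2] at h3 ⊢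
      exact key 64561751654400 17 [3, 5, 7, 11, 13] (by norm_num) (by norm_num) (by decide +kernel) (by norm_num) (by decide +kernel) h3
    · rw [show Nat.card G = 4089470473293004800 from h.2] at h3 ⊢
      exact key 4089470473293004800 18 [3, 5, 7, 11, 13, 17, 23] (by norm_num) (by norm_num) (by decide +kernel) (by norm_num) (by decide +kernel) h3
    · rw [show Nat.card G = 1255205709190661721292800 from h.2] at h3 ⊢
      exact key 1255205709190661721292800 21 [3, 5, 7, 11, 13, 17, 23, 29] (by norm_num) (by norm_num) (by decide +kernel) (by norm_num) (by decide +kernel) h3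
    · rw [show Nat.card G = 44352000 from h.2] at h3 ⊢
      exact key 44352000 9 [3, 5, 7, 11] (by norm_num) (by norm_num) (by decide +kernel) (by norm_num) (by decide +kernel) h3
    · rw [show Nat.card G = 898128000 from h.2] at h3 ⊢
      exact key 898128000 7 [3, 5, 7, 11] (by norm_num) (by norm_num) (by decide +kernel) (by norm_num) (by decide +kernel) h3
    · rw [show Nat.card G = 4030387200 from h.2] at h3 ⊢
      exact key 4030387200 10 [3, 5, 7, 17] (by norm_num) (by norm_num) (by decide +kernel) (by norm_num) (by decide +kernel) h3
    · rw [show Nat.card G = 145926144000 from h.2] at h3 ⊢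
      exact key 145926144000 14 [3, 5, 7, 13, 29] (by norm_num) (by norm_num) (by decide +kernel) (by norm_num) (by decide +kernel) h3
    · rw [show Nat.card G = 448345497600 from h.2] at h3 ⊢
      exact key 448345497600 13 [3, 5, 7, 11, 13] (by norm_num) (by norm_num) (by decide +kernel) (by norm_num) (by decide +kernel) h3
    · rw [show Nat.card G = 460815505920 from h.2] at h3 ⊢
      exact key 460815505920 9 [3, 5, 7, 11, 19, 31] (by norm_num) (by norm_num) (by decide +kernel) (by norm_num) (by decide +kernel) h3
    · rw [show Nat.card G = 273030912000000 from h.2] at h3 ⊢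
      exact key 273030912000000 14 [3, 5, 7, 11, 19] (by norm_num) (by norm_num) (by decide +kernel) (by norm_num) (by decide +kernel) h3
    · rw [show Nat.card G = 51765179004000000 from h.2] at h3 ⊢
      exact key 51765179004000000 8 [3, 5, 7, 11, 31, 37, 67] (by norm_num) (by norm_num) (by decide +kernel) (by norm_num) (by decide +kernel) h3
    · rw [show Nat.card G = 90745943887872000 from h.2] at h3 ⊢
      exact key 90745943887872000 15 [3, 5, 7, 13, 19, 31] (by norm_num) (by norm_num) (by decide +kernel) (by norm_num) (by decide +kernel) h3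
    · rw [show Nat.card G = 4154781481226426191177580544000000 from h.2] at h3 ⊢
      exact key 4154781481226426191177580544000000 41 [3, 5, 7, 11, 13, 17, 19, 23, 31, 47] (by norm_num) (by norm_num) (by decide +kernel) (by norm_num) (by decide +kernel) h3
    · rw [show Nat.card G = 808017424794512875886459904961710757005754368000000000 from h.2] at h3 ⊢
      exact key 808017424794512875886459904961710757005754368000000000 46 [3, 5, 7, 11, 13, 17, 19, 23, 29, 31, 41, 47, 59, 71] (by norm_num) (by norm_num) (by decide +kernel) (by norm_num) (by decide +kernel) h3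

end Cfsg.Agent.S2367
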