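import Cfsg.Statements.S2368
import Cfsg.Agent.Lib.Unipotent
-- import your own Cfsg.Agent.* helpers here

set_option autoImplicit false
open Cfsg

namespace Cfsg.Agent.S2368

/-- Let F be a finite field of characteristic p and m ≥ 1. Every element of GL(m, F) of p-power order has order less than p·m, and GL(m, F) has an element of p-power order at least m; so the largest order of a p-element of GL(m, F) is the least power of p that is at least m. -/
theorem result {F : Type*} [Field F] [Fintype F] (p : ℕ) [Fact p.Prime] [CharP F p] (m : ℕ) (hm : 1 ≤ m) :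
    (∀ g : Matrix.GeneralLinearGroup (Fin m) F, (∃ j : ℕ, orderOf g = p ^ j) → orderOf g < p * m) ∧
      ∃ g : Matrix.GeneralLinearGroup (Fin m) F, (∃ j : ℕ, orderOf g = p ^ j) ∧ m ≤ orderOf g := by
  have hp := (Fact.out : p.Prime)
  have hlt : p ^ Nat.clog p m < p * m := by
    rcases Nat.lt_or_ge 1 m with h | h
    · have h1 := Nat.pow_pred_clog_lt_self hp.one_lt h
      have h2 : 0 < Nat.clog p m := Nat.clog_pos hp.one_lt h
      calc p ^ Nat.clog p m = p * p ^ (Nat.clog p m).pred := by
            rw [← pow_succ', Nat.pred_eq_sub_one, Nat.sub_add_cancel h2]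
        _ < p * m := Nat.mul_lt_mul_of_pos_left h1 hp.pos
    · rw [Nat.clog_of_right_le_one h, pow_zero, show m = 1 by omega, mul_one]
      exact hp.one_lt
  refine ⟨fun g ⟨j, hj⟩ => lt_of_le_of_lt (Nat.le_of_dvd (pow_pos hp.pos _)
    (orderOf_dvd_of_pow_eq_one (CfsgLib.Unipotent.pow_clog_eq_one p
      (CfsgLib.Unipotent.isNilpotent_of_pow p (hj ▸ pow_orderOf_eq_one g))))) hlt, ?_⟩
  have hnil : IsNilpotent (CfsgLib.Unipotent.shift F m) := ⟨m, Matrix.ext fun i j => by
    rw [CfsgLib.Unipotent.shift_pow, if_neg (by omega), Matrix.zero_apply]⟩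
  obtain ⟨u, hu⟩ := hnil.isUnit_one_add
  have hu' : u.1 - 1 = CfsgLib.Unipotent.shift F m := by rw [hu, add_sub_cancel_left]
  have ho := CfsgLib.Unipotent.orderOf_eq_of_pow_ne_zero p (g := u) (by rw [hu']; exact hnil) (by
    rw [hu']
    intro h
    have := congrFun (congrFun h ⟨0, by omega⟩) ⟨m - 1, by omega⟩
    rw [CfsgLib.Unipotent.shift_pow, if_pos (by simp), Matrix.zero_apply] at this
    exact one_ne_zero this)
  exact ⟨u, ⟨_, ho⟩, ho ▸ Nat.le_pow_clog hp.one_lt m⟩

end Cfsg.Agent.S2368
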