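import Cfsg.Statements.S2369
import Cfsg.Agent.Lib.Chev.Twist.ParabolicF4
import Cfsg.Agent.Lib.Chev.Twist.SimpleF4

set_option autoImplicit false
open Cfsg

namespace Cfsg.Agent.S2369

/-- Let q = 2^(2m+1) with m ≥ 1 and let a, b be commuting elements of the large Ree group ²F₄(q) with a an involution. Then every prime divisor of the order of b divides q(q⁴ − 1). -/
theorem result {K : Type*} [Field K] [Fintype K] (m : ℕ) (hm : 1 ≤ m) (hK : Fintype.card K = 2 ^ (2 * m + 1))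
    (a b : ↥(Cfsg.Lie.twistedF4 K (2 ^ m))) (ha : orderOf a = 2) (hab : Commute a b) :
    (orderOf b).primeFactors ⊆ (2 ^ (2 * m + 1) * ((2 ^ (2 * m + 1)) ^ 4 - 1)).primeFactors := by
  classical
  set q := 2 ^ (2 * m + 1) with hqdef
  have hne := (CfsgLib.Chev.T2F4.wit hK).ne
  have hRG : (Subgroup.zpowers (a : GL Cfsg.Lie.chevF4.Idx K)) ≤ Cfsg.Lie.twistedF4 K (2 ^ m) :=
    Subgroup.zpowers_le.mpr a.2
  have ha' : orderOf (a : GL Cfsg.Lie.chevF4.Idx K) = 2 := by rw [Subgroup.orderOf_coe, ha]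
  have hR : IsPGroup 2 ↥(Subgroup.zpowers (a : GL Cfsg.Lie.chevF4.Idx K)) :=
    IsPGroup.of_card (n := 1) (by rw [Nat.card_zpowers, ha', pow_one])
  have hR1 : Subgroup.zpowers (a : GL Cfsg.Lie.chevF4.Idx K) ≠ ⊥ := fun e => by
    rw [Subgroup.zpowers_eq_bot] at e
    rw [e, orderOf_one] at ha'
    norm_num at ha'
  obtain ⟨g, j, hP⟩ := CfsgLib.Chev.T2F4.borelTits hK hRG hR hne hR1
  have hb : (b : GL Cfsg.Lie.chevF4.Idx K) ∈
      Subgroup.normalizer (Subgroup.zpowers (a : GL Cfsg.Lie.chevF4.Idx K) : Set (GL Cfsg.Lie.chevF4.Idx K)) := by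
    have hcomm : Commute (a : GL Cfsg.Lie.chevF4.Idx K) (b : GL Cfsg.Lie.chevF4.Idx K) :=
      hab.map (Cfsg.Lie.twistedF4 K (2 ^ m)).subtype
    rw [Subgroup.mem_normalizer_iff]
    intro x
    have key : ∀ y ∈ Subgroup.zpowers (a : GL Cfsg.Lie.chevF4.Idx K),
        (b : GL Cfsg.Lie.chevF4.Idx K) * y * (b : GL Cfsg.Lie.chevF4.Idx K)⁻¹ = y := fun y hy => by
      obtain ⟨n, rfl⟩ := Subgroup.mem_zpowers_iff.mp hy
      rw [(hcomm.zpow_left n).symm.eq, mul_inv_cancel_right]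
    refine ⟨fun hx => by rwa [key x hx], fun hx => ?_⟩
    have h1 := key _ hx
    have h2 : x = (b : GL Cfsg.Lie.chevF4.Idx K)⁻¹ * ((b : GL Cfsg.Lie.chevF4.Idx K) * x *
        (b : GL Cfsg.Lie.chevF4.Idx K)⁻¹) * b := by group
    rw [← h1] at h2
    rw [show x = (b : GL Cfsg.Lie.chevF4.Idx K) * x * (b : GL Cfsg.Lie.chevF4.Idx K)⁻¹ from
      h2.trans (by group)]
    exact hx
  have hd := Subgroup.orderOf_dvd_natCard _ (hP b hb)
  have hconj : orderOf (g⁻¹ * b * g) = orderOf b := by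
    have := orderOf_injective (MulAut.conj g⁻¹).toMonoidHom (MulAut.conj g⁻¹).injective b
    simpa using this
  rw [hconj, CfsgLib.Chev.T2F4.card_parabolic hK hne j] at hd
  intro s hs
  obtain ⟨hsp, hsd, -⟩ := Nat.mem_primeFactors.mp hs
  have hq2 : 2 ≤ q := le_trans (by norm_num : 2 ≤ 2 ^ 1) (Nat.pow_le_pow_right (by norm_num) (by omega))
  have h4 : 1 < q ^ 4 := Nat.one_lt_pow (by norm_num) (by omega)
  refine Nat.mem_primeFactors.mpr ⟨hsp, ?_, Nat.mul_ne_zero (by omega) (by omega)⟩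
  have hq4 : q ^ 4 - 1 = (q - 1) * ((q + 1) * (q ^ 2 + 1)) := by
    zify [show 1 ≤ q ^ 4 by omega, show 1 ≤ q by omega]; ring
  have h := hsd.trans hd
  rcases hsp.dvd_mul.mp h with h | h
  · rcases hsp.dvd_mul.mp h with h | h
    · exact dvd_mul_of_dvd_left (hsp.dvd_of_dvd_pow h) _
    · exact dvd_mul_of_dvd_right (hq4 ▸ dvd_mul_of_dvd_left (hsp.dvd_of_dvd_pow h) _) _
  · refine dvd_mul_of_dvd_right (hq4 ▸ dvd_mul_of_dvd_right ?_ _) _
    have hj : j.val = 0 ∨ j.val = 1 := by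
      have : j.val < 2 := j.isLt
      omega
    rcases hj with hj | hj <;> rw [hj] at h
    · exact dvd_mul_of_dvd_left (by simpa using h) _
    · exact dvd_mul_of_dvd_right h _

end Cfsg.Agent.S2369
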