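import Cfsg.Statements.S2370
import Cfsg.Agent.Lib.Chev.Twist.TypeF4
import Cfsg.Agent.Lib.Chev.Levi
import Cfsg.Agent.Lib.Chev.DefectGroups

set_option autoImplicit false
open Cfsg

open CfsgLib.Chev CfsgLib.Chev.Chev Cfsg.Lie

namespace Cfsg.Agent.S2370

set_option maxRecDepth 100000

theorem height_le : ∀ r : Fin Cfsg.Lie.chevF4.nroots,
    -11 ≤ ∑ j, CfsgLib.Chev.chevF4.toTables.V r j * 1 ∧ ∑ j, CfsgLib.Chev.chevF4.toTables.V r j * 1 ≤ 11 ∧
      (Cfsg.Lie.chevF4.nroots ≤ 2 * r.val → 1 ≤ ∑ j, CfsgLib.Chev.chevF4.toTables.V r j * 1) := by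
  decide +kernel

/-- An element of the unipotent subgroup of F4 in characteristic two has order dividing 32. -/
theorem pow_thirtytwo {K : Type*} [Field K] [CharP K 2] {u : GL Cfsg.Lie.chevF4.Idx K}
    (hu : u ∈ Cfsg.Lie.chevF4.posUnipotent K) : u ^ 32 = 1 := by
  classical
  let w : Cfsg.Lie.chevF4.Idx → ℤ := fun x => 1 * CfsgLib.Chev.chevF4.toSys.levIdx (fun _ => 1) x
  have hle : Cfsg.Lie.chevF4.posUnipotent K ≤ raiseSubgroup w 1 zero_le_one := by
    rw [CfsgLib.Chev.chevF4.posUnipotent_eq_US, US, Subgroup.closure_le]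
    rintro g ⟨r, t, hr, rfl⟩
    have h : (1 : ℤ) ≤ 1 * CfsgLib.Chev.chevF4.toSys.lev (fun _ => 1) r := by
      rw [one_mul]; exact (height_le r).2.2 hr
    exact ⟨CfsgLib.Chev.chevF4.toSys.raises_X_lev _ 1 1 r zero_le_one h t,
      CfsgLib.Chev.chevF4.toSys.raises_X_lev _ 1 1 r zero_le_one h (-t)⟩
  have hcard : (Finset.univ.image w).card ≤ 32 := by
    refine (Finset.card_le_card (t := Finset.Icc (-11 : ℤ) 11) fun z hz => ?_).trans (by decide)
    obtain ⟨x, -, rfl⟩ := Finset.mem_image.mp hz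
    rw [Finset.mem_Icc]
    rcases x with i | r
    · simp [w, Sys.levIdx]
    · simp only [w, one_mul, Sys.levIdx, Sum.elim_inr, Sys.lev]
      exact ⟨(height_le r).1, (height_le r).2.1⟩
  have h0 := (hle hu).1.pow_eq_zero w hcard
  haveI : Nonempty Cfsg.Lie.chevF4.Idx := ⟨Sum.inl ⟨0, by decide⟩⟩
  haveI : CharP (Matrix Cfsg.Lie.chevF4.Idx Cfsg.Lie.chevF4.Idx K) 2 := Matrix.charP 2
  haveI := Fact.mk Nat.prime_two
  refine Units.ext ?_
  have e := sub_pow_char_pow_of_commute (n := 5) (p := 2) (Commute.one_right (u : Matrix Cfsg.Lie.chevF4.Idx Cfsg.Lie.chevF4.Idx K))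
  norm_num at e
  rw [e, sub_eq_zero] at h0
  rw [Units.val_pow_eq_pow_val, h0, Units.val_one]

/-- Let q = 2^(2m+1) with m ≥ 1. Every element of 2-power order of the large Ree group ²F₄(q) has order at most 32. -/
theorem result {K : Type*} [Field K] [Fintype K] (m : ℕ) (hm : 1 ≤ m) (hK : Fintype.card K = 2 ^ (2 * m + 1))
    (x : ↥(Cfsg.Lie.twistedF4 K (2 ^ m))) (hx : ∃ j : ℕ, orderOf x = 2 ^ j) : orderOf x ≤ 32 := by
  classical
  haveI := T2F4.charP_two hK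
  haveI := Fact.mk Nat.prime_two
  obtain ⟨j, hj⟩ := hx
  have hg : (x : GL Cfsg.Lie.chevF4.Idx K) ∈ Cfsg.Lie.chevF4.group K :=
    (T2F4.tw hK).fix_le (T2F4.le_fix hK x.2)
  let y : ↥(Cfsg.Lie.chevF4.group K) := ⟨x, hg⟩
  have hy : orderOf y = 2 ^ j := by
    rw [← hj, ← orderOf_injective (Cfsg.Lie.chevF4.group K).subtype Subtype.val_injective y,
      ← orderOf_injective (Cfsg.Lie.twistedF4 K (2 ^ m)).subtype Subtype.val_injective x]
    rfl
  let P : Sylow 2 ↥(Cfsg.Lie.chevF4.group K) := Sylow.ofCard _ (CfsgLib.Chev.chevF4.card_U_sub (F := K) 2)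
  obtain ⟨Q, hQ⟩ := (IsPGroup.of_card (n := j) (G := Subgroup.zpowers y)
    (by rw [Nat.card_zpowers, hy])).exists_le_sylow
  obtain ⟨g, hg'⟩ := MulAction.exists_smul_eq ↥(Cfsg.Lie.chevF4.group K) Q P
  have h1 : MulAut.conj g y ∈ (Cfsg.Lie.chevF4.posUnipotent K).subgroupOf (Cfsg.Lie.chevF4.group K) := by
    have : MulAut.conj g y ∈ ((g • Q : Sylow 2 ↥(Cfsg.Lie.chevF4.group K)) : Subgroup ↥(Cfsg.Lie.chevF4.group K)) :=
      Subgroup.smul_mem_pointwise_smul _ _ _ (hQ (Subgroup.mem_zpowers y))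
    rw [hg'] at this
    simpa [P] using this
  have h2 : (MulAut.conj g y) ^ 32 = 1 := Subtype.ext (by
    rw [SubmonoidClass.coe_pow, OneMemClass.coe_one]
    exact pow_thirtytwo h1)
  rw [← map_pow, EmbeddingLike.map_eq_one_iff] at h2
  have h3 : y ^ 32 = 1 := h2
  have : x ^ 32 = 1 := Subtype.ext (by
    have e := congrArg Subtype.val h3
    rw [SubmonoidClass.coe_pow, OneMemClass.coe_one] at e ⊢
    exact e)
  exact Nat.le_of_dvd (by norm_num) (orderOf_dvd_of_pow_eq_one this)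

end Cfsg.Agent.S2370
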