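import Cfsg.Statements.S2378
import Cfsg.Agent.Lib.CoxTorus.SylowHom
import Cfsg.Agent.Lib.Chev.OrderG2
import Cfsg.Agent.Lib.Chev.OrderB2
import Cfsg.Agent.Lib.Chev.OrderD4
import Cfsg.Agent.Lib.Chev.OrderF4
import Cfsg.Agent.Lib.Chev.OrderE6
import Cfsg.Agent.Lib.Chev.OrderE7
import Cfsg.Agent.Lib.Chev.OrderE8

set_option autoImplicit false
open Cfsg

namespace Cfsg.Agent.S2378

/-- Sylow subgroups for primes away from the characteristic and the Weyl group. Let `G` be the Chevalley group of type G₂, B₂, D₄, F₄, E₆, E₇ or E₈ over a field with `q` elements, with the degrees of its Weyl group listed beside the type (their product is the order of the Weyl group), and let `r` be a prime dividing the order of `G`, not dividing `q` and not dividing the order of the Weyl group. Let `d` be the multiplicative order of `q` modulo `r`, `a` the number of degrees divisible by `d`, and `m` the `r`-part of the value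 at `q` of the `d`-th cyclotomic polynomial. Then every Sylow `r`-subgroup of `G` is homocyclic: a direct product of `a` cyclic groups of order `m` (in particular abelian). -/
theorem result {F : Type*} [Field F] [Fintype F] {q : ℕ} (hq : Fintype.card F = q)
    (c : Cfsg.Lie.ChevalleyDatum × List ℕ)
    (hc : c ∈ [(Cfsg.Lie.chevG2, [2, 6]), (Cfsg.Lie.chevB2, [2, 4]), (Cfsg.Lie.chevD4, [2, 4, 4, 6]), (Cfsg.Lie.chevF4, [2, 6, 8, 12]),
      (Cfsg.Lie.chevE6, [2, 5, 6, 8, 9, 12]), (Cfsg.Lie.chevE7, [2, 6, 8, 10, 12, 14, 18]), (Cfsg.Lie.chevE8, [2, 8, 12, 14, 18, 20, 24, 30])])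
    (r : ℕ) [Fact r.Prime] (hrq : ¬ r ∣ q) (hrW : ¬ r ∣ c.2.prod) (hrG : r ∣ Nat.card ↥(c.1.group F)) (P : Sylow r ↥(c.1.group F)) :
    Nonempty (↥(P : Subgroup ↥(c.1.group F)) ≃*
      (Fin (c.2.filter (fun e => orderOf (q : ZMod r) ∣ e)).length →
        Multiplicative (ZMod (r ^ padicValNat r ((Polynomial.cyclotomic (orderOf (q : ZMod r)) ℤ).eval (q : ℤ)).natAbs)))) := by
  have key : ∀ {D : Cfsg.Lie.ChevalleyDatum} (Φ : CfsgLib.Chev.Chev D) (degs : List ℕ), degs.length = D.rank →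
      ∀ (l : ℕ) (d : Fin l → ℕ), l = D.rank → (∏ k, d k) ∣ degs.prod →
      (∀ (K : Type) [Field K] [Finite K], (∏ k, Nat.gcd (Nat.card K - 1) (d k)) *
        Nat.card (D.diagonalSubgroup K) = (Nat.card K - 1) ^ l) →
      ((∏ k, Nat.gcd (Nat.card F - 1) (d k)) * Nat.card (D.diagonalSubgroup F) = (Nat.card F - 1) ^ l) →
      (∀ x : ℕ, ∑ π ∈ Φ.WFin, x ^ Φ.inv π = CfsgLib.Chev.Cert.evalP x (CfsgLib.Chev.Cert.degP degs)) →
      Nat.card Φ.WL = degs.prod → 2 ∣ degs.prod → ¬ r ∣ degs.prod → r ∣ Nat.card ↥(D.group F) →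
      ∀ P : Sylow r ↥(D.group F), Nonempty (↥(P : Subgroup ↥(D.group F)) ≃*
        (Fin (degs.filter (fun e => orderOf (q : ZMod r) ∣ e)).length →
          Multiplicative (ZMod (r ^ padicValNat r
            ((Polynomial.cyclotomic (orderOf (q : ZMod r)) ℤ).eval (q : ℤ)).natAbs)))) := by
    intro D Φ degs hl l d hld hd hK hF hP hcW h2 hW hG P
    have hq' : Nat.card F = q := by rw [Nat.card_eq_fintype_card, hq]
    subst hq'
    subst hld
    have hgd : ∀ M : ℕ, (∏ k, Nat.gcd M (d k)) ∣ degs.prod := fun M =>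
      (Finset.prod_dvd_prod_of_dvd _ _ fun k _ => Nat.gcd_dvd_right _ _).trans hd
    exact CfsgLib.CoxTorus.sylow_homocyclic Φ hl hF (fun K _ _ => ⟨_, hK K, hgd _⟩) (hgd _) hP hcW h2 hrq hW P hG
  simp only [List.mem_cons, List.not_mem_nil, or_false] at hc
  rcases hc with rfl | rfl | rfl | rfl | rfl | rfl | rfl
  · exact key CfsgLib.Chev.chevG2 _ rfl 2 (fun k : Fin 2 => [1, 1].getD k.val 0) rfl (by decide)
      (fun K _ _ => CfsgLib.Chev.cardHG2 CfsgLib.Chev.chevG2 K) (CfsgLib.Chev.cardHG2 CfsgLib.Chev.chevG2 F) (CfsgLib.Chev.sumWG2 CfsgLib.Chev.chevG2)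
      (CfsgLib.Chev.cardWG2 CfsgLib.Chev.chevG2) (by decide) hrW hrG P
  · exact key CfsgLib.Chev.chevB2 _ rfl 2 (fun k : Fin 2 => [1, 2].getD k.val 0) rfl (by decide)
      (fun K _ _ => CfsgLib.Chev.cardHB2 CfsgLib.Chev.chevB2 K) (CfsgLib.Chev.cardHB2 CfsgLib.Chev.chevB2 F) (CfsgLib.Chev.sumWB2 CfsgLib.Chev.chevB2)
      (CfsgLib.Chev.cardWB2 CfsgLib.Chev.chevB2) (by decide) hrW hrG P
  · exact key CfsgLib.Chev.chevD4 _ rfl 4 (fun k : Fin 4 => [1, 1, 2, 2].getD k.val 0) rfl (by decide)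
      (fun K _ _ => CfsgLib.Chev.cardHD4 CfsgLib.Chev.chevD4 K) (CfsgLib.Chev.cardHD4 CfsgLib.Chev.chevD4 F) (CfsgLib.Chev.sumWD4 CfsgLib.Chev.chevD4)
      (CfsgLib.Chev.cardWD4 CfsgLib.Chev.chevD4) (by decide) hrW hrG P
  · exact key CfsgLib.Chev.chevF4 _ rfl 4 (fun k : Fin 4 => [1, 1, 1, 1].getD k.val 0) rfl (by decide)
      (fun K _ _ => CfsgLib.Chev.cardHF4 CfsgLib.Chev.chevF4 K) (CfsgLib.Chev.cardHF4 CfsgLib.Chev.chevF4 F) (CfsgLib.Chev.sumWF4 CfsgLib.Chev.chevF4)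
      (CfsgLib.Chev.cardWF4 CfsgLib.Chev.chevF4) (by decide) hrW hrG P
  · exact key CfsgLib.Chev.chevE6 _ rfl 6 (fun k : Fin 6 => [1, 1, 1, 1, 1, 3].getD k.val 0) rfl (by decide)
      (fun K _ _ => CfsgLib.Chev.cardHE6 CfsgLib.Chev.chevE6 K) (CfsgLib.Chev.cardHE6 CfsgLib.Chev.chevE6 F) (CfsgLib.Chev.sumWE6 CfsgLib.Chev.chevE6)
      (CfsgLib.Chev.cardWE6 CfsgLib.Chev.chevE6) (by decide) hrW hrG P
  · exact key CfsgLib.Chev.chevE7 _ rfl 7 (fun k : Fin 7 => [1, 1, 1, 1, 1, 1, 2].getD k.val 0) rfl (by decide)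
      (fun K _ _ => CfsgLib.Chev.cardHE7 CfsgLib.Chev.chevE7 K) (CfsgLib.Chev.cardHE7 CfsgLib.Chev.chevE7 F) (CfsgLib.Chev.sumWE7 CfsgLib.Chev.chevE7)
      (CfsgLib.Chev.cardWE7 CfsgLib.Chev.chevE7) (by decide) hrW hrG P
  · exact key CfsgLib.Chev.chevE8 _ rfl 8 (fun k : Fin 8 => [1, 1, 1, 1, 1, 1, 1, 1].getD k.val 0) rfl (by decide)
      (fun K _ _ => CfsgLib.Chev.cardHE8 CfsgLib.Chev.chevE8 K) (CfsgLib.Chev.cardHE8 CfsgLib.Chev.chevE8 F) (CfsgLib.Chev.sumWE8 CfsgLib.Chev.chevE8)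
      (CfsgLib.Chev.cardWE8 CfsgLib.Chev.chevE8) (by decide) hrW hrG P

end Cfsg.Agent.S2378
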