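import Cfsg.Statements.S2379
import Cfsg.Agent.Lib.HomocyclicSylow.Torus
import Cfsg.Agent.Lib.HomocyclicSylow.Count
import Cfsg.Agent.Lib.SLCard
-- import your own Cfsg.Agent.* helpers here

set_option autoImplicit false
open Cfsg

namespace Cfsg.Agent.S2379

/-- Sylow subgroups of `SL_n(q)` for large primes. Let `F` be a field with `q` elements and `r` a prime with `r > n` and `r ∤ q` (so `r` does not divide the order `n!` of the Weyl group). Let `d` be the multiplicative order of `q` modulo `r`, `a` the number of integers `i` with `2 ≤ i ≤ n` divisible by `d` (the degrees of the Weyl group are `2, …, n`), and `m` the `r`-part of the value at `q` of the `d`-th cyclotomic polynomial. Then every Sylow `r`-subgroup of `SL_n(q)` is a direct product of `a` cyclic groups of order `m`. -/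
theorem result {F : Type*} [Field F] [Fintype F] {q : ℕ} (hq : Fintype.card F = q) (n : ℕ)
    (r : ℕ) [Fact r.Prime] (hrn : n < r) (hrq : ¬ r ∣ q) (P : Sylow r (Matrix.SpecialLinearGroup (Fin n) F)) :
    Nonempty (↥(P : Subgroup (Matrix.SpecialLinearGroup (Fin n) F)) ≃*
      (Fin ((Finset.Icc 2 n).filter (fun i => orderOf (q : ZMod r) ∣ i)).card →
        Multiplicative (ZMod (r ^ padicValNat r ((Polynomial.cyclotomic (orderOf (q : ZMod r)) ℤ).eval (q : ℤ)).natAbs)))) := by
  classical
  subst hq
  have hq2 : 2 ≤ Fintype.card F := Fintype.one_lt_card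
  have hrp : r.Prime := Fact.out
  obtain ⟨p, hp⟩ := CharP.exists F
  haveI : Fact p.Prime := ⟨CharP.char_is_prime F p⟩
  have hd := CfsgLib.HomocyclicSylow.d_pos hrq
  haveI : NeZero (orderOf (Fintype.card F : ZMod r)) := ⟨hd.ne'⟩
  set d := orderOf (Fintype.card F : ZMod r) with hddef
  set v := CfsgLib.HomocyclicSylow.expo (Fintype.card F) r with hvdef
  have hdv : r ^ v ∣ Fintype.card F ^ d - 1 := CfsgLib.HomocyclicSylow.expo_dvd hq2 hrq
  rcases Nat.eq_zero_or_pos n with rfl | hn
  · refine CfsgLib.HomocyclicSylow.sylow_iso ?_ 1 ?_ P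
    · rw [Nat.card_eq_one_iff_unique.mpr ⟨inferInstance, ⟨1⟩⟩]
      simp
    · intro a b _
      funext i
      exact absurd i.2 (by simp)
  have hcard : padicValNat r (Nat.card (Matrix.SpecialLinearGroup (Fin n) F)) =
      n / d * v - padicValNat r (Fintype.card F - 1) := by
    have h := CfsgLib.HomocyclicSylow.gl_val (n := n) hq2 hrn hrq
    rw [← Matrix.card_GL_field, ← CfsgLib.SLCard.card_units_mul_card_SL hn,
      padicValNat.mul (by omega) Nat.card_pos.ne', ← hddef, ← hvdef] at h
    omega
  have hq1 : padicValNat r (Fintype.card F - 1) = if d ∣ 1 then v else 0 := by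
    have := CfsgLib.HomocyclicSylow.padic_pow_sub_one (m := 1) hq2 hrq hrp.not_dvd_one
    rwa [pow_one] at this
  have hIcc : ((Finset.Icc 2 n).filter (fun i => d ∣ i)).card = n / d - if d ∣ 1 then 1 else 0 := by
    have h1 := CfsgLib.HomocyclicSylow.card_Icc_dvd n d
    rw [show Finset.Icc 1 n = insert 1 (Finset.Icc 2 n) by
      ext x; simp only [Finset.mem_Icc, Finset.mem_insert]; omega, Finset.filter_insert] at h1
    split_ifs at h1 ⊢ with h
    · rw [Finset.card_insert_of_notMem (by simp)] at h1
      omega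
    · omega
  by_cases hd1 : d = 1
  · rw [if_pos (by rw [hd1])] at hq1 hIcc
    rw [hIcc, show n / d - 1 = n - 1 by rw [hd1, Nat.div_one]]
    rw [hd1, pow_one] at hdv
    obtain ⟨x, hx⟩ := IsCyclic.exists_ofOrder_eq_natCard (α := Fˣ)
    obtain ⟨c, hc⟩ := CfsgLib.HomocyclicSylow.exists_zmod_hom_of_dvd (g := x) (m := r ^ v) (by
      rw [hx, Nat.card_units, Nat.card_eq_fintype_card]; exact hdv)
    obtain ⟨k, rfl⟩ : ∃ k, n = k + 1 := ⟨n - 1, by omega⟩
    let f : (Fin k → Multiplicative (ZMod (r ^ v))) →* Matrix.SpecialLinearGroup (Fin (k + 1)) F :=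
      { toFun := fun z => ⟨Matrix.diagonal (Fin.cons ((((∏ i, c (z i))⁻¹ : Fˣ) : F)) (fun i => (c (z i) : F))), by
          rw [Matrix.det_diagonal, Fin.prod_univ_succ, Fin.cons_zero]
          simp only [Fin.cons_succ]
          rw [← Units.coe_prod, ← Units.val_mul, inv_mul_cancel, Units.val_one]⟩
        map_one' := Subtype.ext (by
          show Matrix.diagonal _ = 1
          rw [← Matrix.diagonal_one]
          congr 1
          funext i
          refine Fin.cases ?_ ?_ i <;> simp)
        map_mul' := fun z w => Subtype.ext (by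
          show Matrix.diagonal _ = Matrix.diagonal _ * Matrix.diagonal _
          rw [Matrix.diagonal_mul_diagonal]
          congr 1
          funext i
          refine Fin.cases ?_ ?_ i <;> simp [Finset.prod_mul_distrib, mul_comm]) }
    refine CfsgLib.HomocyclicSylow.sylow_iso ?_ f ?_ P
    · rw [hcard, hd1, Nat.div_one, hq1, Nat.add_mul, Nat.one_mul]
      simp
    · intro z w h
      funext i
      refine hc (Units.ext ?_)
      have h' := congrFun (congrFun (congrArg Subtype.val h) i.succ) i.succ
      change Matrix.diagonal _ i.succ i.succ = Matrix.diagonal _ i.succ i.succ at h'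
      simpa using h'
  · have hd1' : ¬ d ∣ 1 := fun h => hd1 (Nat.dvd_one.mp h)
    rw [if_neg hd1'] at hq1 hIcc
    rw [Nat.sub_zero] at hIcc
    rw [hIcc]
    obtain ⟨f, hf⟩ := CfsgLib.HomocyclicSylow.exists_gl (F := F) p (e := d) (k := n / d) (n := n) (Nat.mul_div_le n _) hdv
    have hdet : ∀ z, Matrix.GeneralLinearGroup.det (f z) = 1 := by
      intro z
      have hz : z ^ r ^ v = 1 := by
        funext i
        apply Multiplicative.toAdd.injective
        simp only [Pi.pow_apply, Pi.one_apply, toAdd_pow, toAdd_one, nsmul_eq_mul, ZMod.natCast_self, zero_mul]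
      have h1 : Matrix.GeneralLinearGroup.det (f z) ^ r ^ v = 1 := by rw [← map_pow, ← map_pow, hz, map_one, map_one]
      have h2 : orderOf (Matrix.GeneralLinearGroup.det (f z)) ∣ Nat.gcd (r ^ v) (Fintype.card F - 1) :=
        Nat.dvd_gcd (orderOf_dvd_of_pow_eq_one h1) (by
          have := orderOf_dvd_natCard (Matrix.GeneralLinearGroup.det (f z))
          rwa [Nat.card_units, Nat.card_eq_fintype_card] at this)
      have h3 : Nat.Coprime (r ^ v) (Fintype.card F - 1) :=
        Nat.Coprime.pow_left v ((hrp.coprime_iff_not_dvd).mpr fun h => hd1'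
          ((CfsgLib.HomocyclicSylow.dvd_pow_sub_one_iff hq2 1).mp (by simpa using h)))
      rw [h3, Nat.dvd_one, orderOf_eq_one_iff] at h2
      exact h2
    let g : (Fin (n / d) → Multiplicative (ZMod (r ^ v))) →* Matrix.SpecialLinearGroup (Fin n) F :=
      { toFun := fun z => ⟨(f z).1, congrArg Units.val (hdet z)⟩
        map_one' := Subtype.ext (congrArg Units.val (map_one f))
        map_mul' := fun z w => Subtype.ext (congrArg Units.val (map_mul f z w)) }
    refine CfsgLib.HomocyclicSylow.sylow_iso ?_ g (fun z w h => hf (Units.ext (congrArg (fun A : Matrix.SpecialLinearGroup (Fin n) F => A.1) h))) P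
    rw [hcard, hq1, Nat.sub_zero]

end Cfsg.Agent.S2379
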