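import Cfsg.Statements.S2381
import Cfsg.Agent.Lib.HomocyclicSylow.Torus
import Cfsg.Agent.Lib.HomocyclicSylow.Count
import Cfsg.Agent.S0245
-- import your own Cfsg.Agent.* helpers here

set_option autoImplicit false
open Cfsg

namespace Cfsg.Agent.S2381

/-- Sylow subgroups of `Sp_{2n}(q)` for large primes. Let `F` be a field with `q` elements and `r` an odd prime with `r > n` and `r ∤ q` (so `r` does not divide the order `2^n n!` of the Weyl group). Let `d` be the multiplicative order of `q` modulo `r`, `a` the number of `i` with `1 ≤ i ≤ n` and `d ∣ 2i` (the degrees being `2, 4, …, 2n`), and `m` the `r`-part of the value at `q` of the `d`-th cyclotomic polynomial. Then every Sylow `r`-subgroup of the symplectic group `Sp_{2n}(q)` is a direct product of `a` cyclic groups of order `m`. -/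
theorem result {F : Type*} [Field F] [Fintype F] {q : ℕ} (hq : Fintype.card F = q) (n : ℕ)
    (r : ℕ) [Fact r.Prime] (hr2 : r ≠ 2) (hrn : n < r) (hrq : ¬ r ∣ q) (P : Sylow r ↥(Matrix.symplecticGroup (Fin n) F)) :
    Nonempty (↥(P : Subgroup ↥(Matrix.symplecticGroup (Fin n) F)) ≃*
      (Fin ((Finset.Icc 1 n).filter (fun i => orderOf (q : ZMod r) ∣ 2 * i)).card →
        Multiplicative (ZMod (r ^ padicValNat r ((Polynomial.cyclotomic (orderOf (q : ZMod r)) ℤ).eval (q : ℤ)).natAbs)))) := by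
  classical
  subst hq
  have hq2 : 2 ≤ Fintype.card F := Fintype.one_lt_card
  have hrp : r.Prime := Fact.out
  obtain ⟨p, hp⟩ := CharP.exists F
  haveI : Fact p.Prime := ⟨CharP.char_is_prime F p⟩
  have hd := CfsgLib.HomocyclicSylow.d_pos hrq
  set d := orderOf (Fintype.card F : ZMod r) with hddef
  have hdv := CfsgLib.HomocyclicSylow.expo_dvd hq2 hrq
  rw [← hddef] at hdv
  set v := CfsgLib.HomocyclicSylow.expo (Fintype.card F) r with hvdef
  obtain ⟨e, he0, he, hm⟩ : ∃ e, 0 < e ∧ (∀ i, d ∣ 2 * i ↔ e ∣ i) ∧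
      (r ^ v ∣ Fintype.card F ^ e - 1 ∨ r ^ v ∣ Fintype.card F ^ e + 1) := by
    rcases Nat.even_or_odd d with ⟨e, hde⟩ | hodd
    · refine ⟨e, by omega, fun i => ?_, Or.inr ?_⟩
      · rw [hde, ← two_mul]; exact Nat.mul_dvd_mul_iff_left (by norm_num)
      · have hnot : ¬ r ∣ Fintype.card F ^ e - 1 := fun h => by
          have := Nat.le_of_dvd (by omega) ((CfsgLib.HomocyclicSylow.dvd_pow_sub_one_iff hq2 e).mp h)
          omega
        rw [hde, ← two_mul, mul_comm 2 e, pow_mul, ← one_pow 2, Nat.sq_sub_sq] at hdv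
        exact (Nat.Coprime.pow_left v ((hrp.coprime_iff_not_dvd).mpr hnot)).dvd_of_dvd_mul_right hdv
    · exact ⟨d, hd, fun i => ⟨(Nat.coprime_two_right.mpr hodd).dvd_of_dvd_mul_left, fun h => h.mul_left 2⟩, Or.inl hdv⟩
  haveI : NeZero e := ⟨he0.ne'⟩
  obtain ⟨f, hf⟩ := CfsgLib.HomocyclicSylow.exists_sp (F := F) p (e := e) (k := n / e) (n := n) (Nat.mul_div_le n _) hm
  have ha : ((Finset.Icc 1 n).filter (fun i => d ∣ 2 * i)).card = n / e := by
    rw [Finset.filter_congr (fun i _ => he i), CfsgLib.HomocyclicSylow.card_Icc_dvd]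
  rw [ha]
  exact CfsgLib.HomocyclicSylow.sylow_iso
    (by rw [Cfsg.Agent.S0245.result rfl n]; exact CfsgLib.HomocyclicSylow.sp_val hq2 hr2 hrn hrq he) f hf P

end Cfsg.Agent.S2381
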