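import Cfsg.Statements.S2569
import Cfsg.Agent.Lib.CentralizerDet

set_option autoImplicit false
open Cfsg

namespace Cfsg.Agent.S2569

/-- In GL_n over a finite field of characteristic p, the conjugacy class of a semisimple element (an element of order prime to p) under the special linear group is its whole GL-conjugacy class: for every such x and every invertible g there is h of determinant one with h x h⁻¹ = g x g⁻¹. -/
theorem result {F : Type*} [Field F] [Fintype F] {p : ℕ} [Fact p.Prime] [CharP F p] {n : ℕ} (x g : GL (Fin n) F) (hx : (orderOf x).Coprime p) : ∃ h : GL (Fin n) F, (h : Matrix (Fin n) (Fin n) F).det = 1 ∧ h * x * h⁻¹ = g * x * g⁻¹ := by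
  classical
  rcases Nat.eq_zero_or_pos n with rfl | hn
  · exact ⟨g, Matrix.det_isEmpty, rfl⟩
  have : Nonempty (Fin n) := ⟨⟨0, hn⟩⟩
  let f : Module.End F (Fin n → F) := Matrix.toLinAlgEquiv' x.1
  have hk : (orderOf x : F) ≠ 0 := by
    rw [Ne, CharP.cast_eq_zero_iff F p]
    exact fun h => (Fact.out : p.Prime).not_dvd_one (hx ▸ Nat.dvd_gcd h dvd_rfl)
  have hf : f.IsSemisimple := by
    refine Module.End.isSemisimple_of_squarefree_aeval_eq_zero
      (p := Polynomial.X ^ orderOf x - 1)
      (Polynomial.X_pow_sub_one_separable_iff.mpr hk).squarefree ?_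
    rw [map_sub, map_pow, Polynomial.aeval_X, map_one, ← map_pow, ← Units.val_pow_eq_pow_val,
      pow_orderOf_eq_one, Units.val_one, map_one, sub_self]
  obtain ⟨c, hc, hdet⟩ := CfsgLib.CentralizerDet.exists_det_of_semisimple f hf
    (Matrix.GeneralLinearGroup.det g)⁻¹
  have hdetc : (Matrix.toLinAlgEquiv'.symm c).det = ((Matrix.GeneralLinearGroup.det g)⁻¹ : Fˣ).1 := by
    rw [← hdet]
    exact LinearMap.det_toMatrix' c
  let C : GL (Fin n) F := Matrix.GeneralLinearGroup.mkOfDetNeZero (Matrix.toLinAlgEquiv'.symm c)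
    (by rw [hdetc]; exact Units.ne_zero _)
  refine ⟨g * C, ?_, ?_⟩
  · rw [Units.val_mul, Matrix.det_mul]
    show (g : Matrix (Fin n) (Fin n) F).det * (Matrix.toLinAlgEquiv'.symm c).det = 1
    rw [hdetc]
    exact Units.mul_inv (Matrix.GeneralLinearGroup.det g)
  · have hC : Commute C x := Units.ext (by
      show Matrix.toLinAlgEquiv'.symm c * x.1 = x.1 * Matrix.toLinAlgEquiv'.symm c
      apply Matrix.toLinAlgEquiv'.injective
      rw [map_mul, map_mul, AlgEquiv.apply_symm_apply]
      exact hc.eq)
    rw [mul_inv_rev, mul_assoc g C x, hC.eq]; group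

end Cfsg.Agent.S2569
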