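import Cfsg.Statements.S2388
import Cfsg.Agent.Lib.SemisimpleClasses
import Cfsg.Agent.S2569

set_option autoImplicit false
open Cfsg

namespace Cfsg.Agent.S2388

/-- In `SL_n(q)`, `q` a power of the prime `p`, two elements of order prime to `p` with the same characteristic polynomial are conjugate in `SL_n(q)` (not merely in `GL_n`). -/
theorem result {F : Type*} [Field F] [Fintype F] (p : ℕ) [Fact p.Prime] [CharP F p] (n : ℕ)
    (g h : Matrix.SpecialLinearGroup (Fin n) F) (hg : (orderOf g).Coprime p) (hh : (orderOf h).Coprime p)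
    (hc : (g : Matrix (Fin n) (Fin n) F).charpoly = (h : Matrix (Fin n) (Fin n) F).charpoly) : IsConj g h := by
  classical
  let x : GL (Fin n) F := Matrix.SpecialLinearGroup.toGL g
  let y : GL (Fin n) F := Matrix.SpecialLinearGroup.toGL h
  have hx : (orderOf x).Coprime p := hg.coprime_dvd_left (orderOf_map_dvd Matrix.SpecialLinearGroup.toGL g)
  have hy : (orderOf y).Coprime p := hh.coprime_dvd_left (orderOf_map_dvd Matrix.SpecialLinearGroup.toGL h)
  obtain ⟨P, hP⟩ := CfsgLib.SemisimpleClasses.exists_conj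
    (CfsgLib.SemisimpleClasses.isSemisimple_of_coprime x hx)
    (CfsgLib.SemisimpleClasses.isSemisimple_of_coprime y hy) hc
  have hPy : P * x * P⁻¹ = y := mul_inv_eq_iff_eq_mul.mpr (Units.ext hP)
  obtain ⟨k, hk, hkx⟩ := Cfsg.Agent.S2569.result x P hx
  rw [hPy] at hkx
  rw [isConj_iff]
  obtain ⟨s, hs⟩ : ∃ s : Matrix.SpecialLinearGroup (Fin n) F, s.1 = k.1 := ⟨⟨k.1, hk⟩, rfl⟩
  refine ⟨s, Matrix.SpecialLinearGroup.toGL_injective ?_⟩
  rw [map_mul, map_mul, map_inv, show Matrix.SpecialLinearGroup.toGL s = k from Units.ext hs]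
  exact hkx

end Cfsg.Agent.S2388
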