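import Cfsg.Statements.S2384
import Cfsg.Agent.Lib.SemisimpleClasses
import Cfsg.Agent.S2569
import Cfsg.Agent.S2388

set_option autoImplicit false
open Cfsg

namespace Cfsg.Agent.S2384

/-- In `SL_n(q)`, `q` a power of the prime `p`, the number of conjugacy classes of elements of order prime to `p` (the semisimple classes) is `q^(n-1)`. -/
theorem result {F : Type*} [Field F] [Fintype F] {q : ℕ} (hq : Fintype.card F = q) (p : ℕ) [Fact p.Prime] [CharP F p] (n : ℕ) (hn : 1 ≤ n) :
    Nat.card {c : ConjClasses (Matrix.SpecialLinearGroup (Fin n) F) //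
      ∃ g : Matrix.SpecialLinearGroup (Fin n) F, ConjClasses.mk g = c ∧ (orderOf g).Coprime p} = q ^ (n - 1) := by
  classical
  obtain ⟨k, rfl⟩ : ∃ k, n = k + 1 := ⟨n - 1, by omega⟩
  let C := {c : ConjClasses (Matrix.SpecialLinearGroup (Fin (k + 1)) F) //
      ∃ g : Matrix.SpecialLinearGroup (Fin (k + 1)) F, ConjClasses.mk g = c ∧ (orderOf g).Coprime p}
  let T := {P : Polynomial F // (P.Monic ∧ P.natDegree = k + 1) ∧ P.coeff 0 = (-1) ^ (k + 1)}
  have hinv : ∀ a b : Matrix.SpecialLinearGroup (Fin (k + 1)) F, IsConj a b → a.1.charpoly = b.1.charpoly := by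
    intro a b hab
    obtain ⟨c, rfl⟩ := isConj_iff.mp hab
    rw [Matrix.SpecialLinearGroup.coe_mul, Matrix.SpecialLinearGroup.coe_mul, Matrix.SpecialLinearGroup.coe_inv]
    have h1 : c.1 * c.1.adjugate = 1 := by rw [Matrix.mul_adjugate, c.2, one_smul]
    rw [Matrix.charpoly_mul_comm, ← mul_assoc, Matrix.adjugate_mul, c.2, one_smul, one_mul]
  have hcoeff : ∀ M : Matrix (Fin (k + 1)) (Fin (k + 1)) F, M.det = 1 → M.charpoly.coeff 0 = (-1) ^ (k + 1) := by
    intro M hM
    rw [Matrix.det_eq_sign_charpoly_coeff, Fintype.card_fin] at hM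
    calc M.charpoly.coeff 0 = ((-1) ^ (k + 1) * (-1) ^ (k + 1)) * M.charpoly.coeff 0 := by
          rw [← mul_pow, neg_one_mul, neg_neg, one_pow, one_mul]
      _ = _ := by rw [mul_assoc, hM, mul_one]
  let Φ : C → T := fun c => ⟨(Classical.choose c.2).1.charpoly,
    ⟨Matrix.charpoly_monic _, by rw [Matrix.charpoly_natDegree_eq_dim, Fintype.card_fin]⟩,
    hcoeff _ (Classical.choose c.2).2⟩
  have hΦ : Function.Bijective Φ := by
    constructor
    · intro a b h
      obtain ⟨ha1, ha2⟩ := Classical.choose_spec a.2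
      obtain ⟨hb1, hb2⟩ := Classical.choose_spec b.2
      apply Subtype.ext
      rw [← ha1, ← hb1, ConjClasses.mk_eq_mk_iff_isConj]
      exact Cfsg.Agent.S2388.result p (k + 1) _ _ ha2 hb2 (congrArg Subtype.val h)
    · rintro ⟨P, ⟨hm, hd⟩, h0⟩
      have hne : P.coeff 0 ≠ 0 := by rw [h0]; exact pow_ne_zero _ (neg_ne_zero.mpr one_ne_zero)
      obtain ⟨g, hg, ho⟩ := CfsgLib.SemisimpleClasses.exists_GL (p := p) P hm hd hne
      have hdet : g.1.det = 1 := by
        rw [Matrix.det_eq_sign_charpoly_coeff, hg, h0, Fintype.card_fin, ← mul_pow, neg_one_mul, neg_neg, one_pow]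
      obtain ⟨s, hs⟩ : ∃ s : Matrix.SpecialLinearGroup (Fin (k + 1)) F, s.1 = g.1 := ⟨⟨g.1, hdet⟩, rfl⟩
      have hso : (orderOf s).Coprime p := by
        rw [← orderOf_injective Matrix.SpecialLinearGroup.toGL Matrix.SpecialLinearGroup.toGL_injective s,
          show Matrix.SpecialLinearGroup.toGL s = g from Units.ext hs]
        exact ho
      refine ⟨⟨ConjClasses.mk s, s, rfl, hso⟩, Subtype.ext ?_⟩
      have := Classical.choose_spec (⟨s, rfl, hso⟩ : ∃ g' : Matrix.SpecialLinearGroup (Fin (k + 1)) F,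
        ConjClasses.mk g' = ConjClasses.mk s ∧ (orderOf g').Coprime p)
      exact (hinv _ _ (ConjClasses.mk_eq_mk_iff_isConj.mp this.1)).trans (by rw [hs, hg])
  show Nat.card C = _
  rw [Nat.card_congr (Equiv.ofBijective Φ hΦ), CfsgLib.SemisimpleClasses.card_monic k (fun a => a = (-1) ^ (k + 1)), hq]
  rw [show Nat.card {a : F // a = (-1) ^ (k + 1)} = 1 from Nat.card_unique, one_mul, Nat.add_sub_cancel]

end Cfsg.Agent.S2384
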