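import Cfsg.Statements.S2387
import Cfsg.Agent.Lib.SemisimpleClasses
import Cfsg.Agent.S2569

set_option autoImplicit false
open scoped MatrixGroups
open Cfsg

namespace Cfsg.Agent.S2387

/-- In `GL_n(q)` with `n ≥ 1`, `q` a power of the prime `p`, the number of conjugacy classes of elements of order prime to `p` (diagonalisable over the algebraic closure; determined by the characteristic polynomial) is `(q - 1) q^(n-1)`. -/
theorem result {F : Type*} [Field F] [Fintype F] {q : ℕ} (hq : Fintype.card F = q) (p : ℕ) [Fact p.Prime] [CharP F p] (n : ℕ) (hn : 1 ≤ n) :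
    Nat.card {c : ConjClasses (GL (Fin n) F) // ∃ g : GL (Fin n) F, ConjClasses.mk g = c ∧ (orderOf g).Coprime p} = (q - 1) * q ^ (n - 1) := by
  classical
  obtain ⟨k, rfl⟩ : ∃ k, n = k + 1 := ⟨n - 1, by omega⟩
  let C := {c : ConjClasses (GL (Fin (k + 1)) F) // ∃ g : GL (Fin (k + 1)) F, ConjClasses.mk g = c ∧ (orderOf g).Coprime p}
  let T := {P : Polynomial F // (P.Monic ∧ P.natDegree = k + 1) ∧ P.coeff 0 ≠ 0}
  have hinv : ∀ a b : GL (Fin (k + 1)) F, IsConj a b → a.1.charpoly = b.1.charpoly := by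
    intro a b hab
    obtain ⟨c, rfl⟩ := isConj_iff.mp hab
    rw [Units.val_mul, Units.val_mul]
    rw [Matrix.coe_units_inv]
    exact (Matrix.charpoly_units_conj c a.1).symm
  let Φ : C → T := fun c => ⟨(Classical.choose c.2).1.charpoly,
    ⟨Matrix.charpoly_monic _, by rw [Matrix.charpoly_natDegree_eq_dim, Fintype.card_fin]⟩, by
      intro h0
      have hdet := Matrix.GeneralLinearGroup.det_ne_zero (Classical.choose c.2)
      rw [Matrix.det_eq_sign_charpoly_coeff, h0, mul_zero] at hdet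
      exact hdet rfl⟩
  have hΦ : Function.Bijective Φ := by
    constructor
    · intro a b h
      obtain ⟨ha1, ha2⟩ := Classical.choose_spec a.2
      obtain ⟨hb1, hb2⟩ := Classical.choose_spec b.2
      obtain ⟨P, hP⟩ := CfsgLib.SemisimpleClasses.exists_conj
        (CfsgLib.SemisimpleClasses.isSemisimple_of_coprime _ ha2)
        (CfsgLib.SemisimpleClasses.isSemisimple_of_coprime _ hb2) (congrArg Subtype.val h)
      apply Subtype.ext
      rw [← ha1, ← hb1, ConjClasses.mk_eq_mk_iff_isConj, isConj_iff]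
      exact ⟨P, mul_inv_eq_iff_eq_mul.mpr (Units.ext hP)⟩
    · rintro ⟨P, ⟨hm, hd⟩, h0⟩
      obtain ⟨g, hg, ho⟩ := CfsgLib.SemisimpleClasses.exists_GL (p := p) P hm hd h0
      refine ⟨⟨ConjClasses.mk g, g, rfl, ho⟩, Subtype.ext ?_⟩
      have := Classical.choose_spec (⟨g, rfl, ho⟩ : ∃ g' : GL (Fin (k + 1)) F,
        ConjClasses.mk g' = ConjClasses.mk g ∧ (orderOf g').Coprime p)
      exact (hinv _ _ (ConjClasses.mk_eq_mk_iff_isConj.mp this.1)).trans hg
  show Nat.card C = _
  rw [Nat.card_congr (Equiv.ofBijective Φ hΦ), CfsgLib.SemisimpleClasses.card_monic k (fun a => a ≠ 0), hq]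
  congr 1
  rw [Nat.card_congr unitsEquivNeZero.symm, Nat.card_units, Nat.card_eq_fintype_card, hq]

end Cfsg.Agent.S2387
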