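import Cfsg.Statements.S2391


set_option autoImplicit false
open Cfsg
open scoped Matrix

namespace Cfsg.Agent.S2391

/-- A `p`-group fixes a non-zero vector of every non-zero quotient of the natural module. -/
theorem exists_fixed_mod {F : Type*} [Field F] [Fintype F] (p : ℕ) [Fact p.Prime] [CharP F p]
    {n : ℕ} (U : Subgroup (Matrix.SpecialLinearGroup (Fin n) F)) (hU : IsPGroup p U)
    (W : Submodule F (Fin n → F)) (hW : ∀ u ∈ U, ∀ v ∈ W, u.1 *ᵥ v ∈ W) (htop : W ≠ ⊤) :
    ∃ v, v ∉ W ∧ ∀ u ∈ U, u.1 *ᵥ v - v ∈ W := by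
  let f : U → ((Fin n → F) ⧸ W) →ₗ[F] ((Fin n → F) ⧸ W) := fun u =>
    W.mapQ W (Matrix.mulVecLin u.1.1) (fun v hv => hW _ u.2 v hv)
  letI : MulAction U ((Fin n → F) ⧸ W) :=
    { smul := fun u q => f u q
      one_smul := fun q => by
        induction q using Submodule.Quotient.induction_on with | _ v => ?_
        show W.mkQ ((1 : U).1.1 *ᵥ v) = W.mkQ v
        simp
      mul_smul := fun a b q => by
        induction q using Submodule.Quotient.induction_on with | _ v => ?_
        show W.mkQ ((a * b : U).1.1 *ᵥ v) = W.mkQ (a.1.1 *ᵥ (b.1.1 *ᵥ v))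
        simp [Matrix.mulVec_mulVec] }
  have hnt : Nontrivial ((Fin n → F) ⧸ W) := Submodule.Quotient.nontrivial_iff.mpr htop
  have hdvd : p ∣ Nat.card ((Fin n → F) ⧸ W) := by
    have : Finite ((Fin n → F) ⧸ W) := inferInstance
    obtain ⟨x, hx⟩ := exists_ne (0 : (Fin n → F) ⧸ W)
    have h1 : addOrderOf x = p := addOrderOf_eq_prime
      (by rw [← Nat.cast_smul_eq_nsmul F, CharP.cast_eq_zero, zero_smul]) hx
    exact h1 ▸ addOrderOf_dvd_natCard x
  obtain ⟨q, hq, hne⟩ := hU.exists_fixed_point_of_prime_dvd_card_of_fixed_point _ hdvd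
    (a := (0 : (Fin n → F) ⧸ W)) (fun u => map_zero (f u))
  induction q using Submodule.Quotient.induction_on with | _ v => ?_
  refine ⟨v, fun hv => hne ((Submodule.Quotient.mk_eq_zero W).mpr hv).symm, fun u hu => ?_⟩
  exact (Submodule.Quotient.eq W).mp (hq ⟨u, hu⟩)


/-- The Borel–Tits property of `SL_n(q)` in flag form: for a field `F` of characteristic `p` with finitely many elements and a non-trivial `p`-subgroup `U` of `SL_n(F)`, there is a flag `0 = V₀ < V₁ < ⋯ < V_{k+1} = F^n` with at least one proper non-zero member such that every element of the normaliser of `U` maps each `V_i` onto itself and every element of `U` acts trivially on each quotient `V_{i+1}/V_i` (so the normaliser lies in the parabolic subgroup of the flag and `U` in its unipotent radical). -/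
theorem result {F : Type*} [Field F] [Fintype F] (p : ℕ) [Fact p.Prime] [CharP F p] (n : ℕ)
    (U : Subgroup (Matrix.SpecialLinearGroup (Fin n) F)) (hU : IsPGroup p ↥U) (hne : U ≠ ⊥) :
    ∃ (k : ℕ) (V : Fin (k + 2) → Submodule F (Fin n → F)), 1 ≤ k ∧ StrictMono V ∧ V 0 = ⊥ ∧ V (Fin.last (k + 1)) = ⊤ ∧
      (∀ g ∈ Subgroup.normalizer (U : Set (Matrix.SpecialLinearGroup (Fin n) F)), ∀ i, (V i).map (Matrix.mulVecLin (g : Matrix (Fin n) (Fin n) F)) = V i) ∧
      (∀ u ∈ U, ∀ i : Fin (k + 1), ∀ v ∈ V i.succ, (u : Matrix (Fin n) (Fin n) F).mulVec v - v ∈ V (Fin.castSucc i)) := by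
  classical
  have hsmul : ∀ (a : Matrix.SpecialLinearGroup (Fin n) F) (v : Fin n → F),
      (a * a⁻¹).1 *ᵥ v = v := fun a v => by rw [mul_inv_cancel, Matrix.SpecialLinearGroup.coe_one, Matrix.one_mulVec]
  let next : Submodule F (Fin n → F) → Submodule F (Fin n → F) := fun W =>
    ⨅ u : U, W.comap (Matrix.mulVecLin (u.1.1 - 1))
  have hnext : ∀ W v, v ∈ next W ↔ ∀ u ∈ U, u.1 *ᵥ v - v ∈ W := fun W v => by
    simp [next, Submodule.mem_iInf, Matrix.sub_mulVec]
  let W : ℕ → Submodule F (Fin n → F) := fun i => Nat.rec ⊥ (fun _ X => next X) i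
  have hW0 : W 0 = ⊥ := rfl
  have hWs : ∀ i, W (i + 1) = next (W i) := fun i => rfl
  have hmono : ∀ i, W i ≤ W (i + 1) := by
    intro i
    induction i with
    | zero => exact bot_le
    | succ i ih =>
      intro v hv
      exact (hnext _ _).mpr fun u hu => ih ((hnext _ _).mp hv u hu)
  have hN : ∀ g ∈ Subgroup.normalizer (U : Set (Matrix.SpecialLinearGroup (Fin n) F)), ∀ i,
      ∀ v ∈ W i, g.1 *ᵥ v ∈ W i := by
    intro g hg i
    induction i with
    | zero => intro v hv; rw [hW0, Submodule.mem_bot] at hv; simp [hW0, hv]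
    | succ i ih =>
      intro v hv
      rw [hWs, hnext] at hv ⊢
      intro u hu
      have hu' : g⁻¹ * u * g ∈ U := (Subgroup.mem_normalizer_iff''.mp hg u).mp hu
      have h1 := ih _ (hv _ hu')
      rw [Matrix.mulVec_sub, Matrix.mulVec_mulVec, ← Matrix.SpecialLinearGroup.coe_mul,
        ← mul_assoc, mul_inv_cancel_left, Matrix.SpecialLinearGroup.coe_mul,
        ← Matrix.mulVec_mulVec] at h1
      exact h1
  have hmap : ∀ g ∈ Subgroup.normalizer (U : Set (Matrix.SpecialLinearGroup (Fin n) F)), ∀ i,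
      (W i).map (Matrix.mulVecLin g.1) = W i := by
    intro g hg i
    refine le_antisymm (Submodule.map_le_iff_le_comap.mpr fun v hv => hN g hg i v hv) fun v hv => ?_
    exact ⟨(g⁻¹).1 *ᵥ v, hN _ (inv_mem hg) i v hv, by
      rw [Matrix.mulVecLin_apply, Matrix.mulVec_mulVec, ← Matrix.SpecialLinearGroup.coe_mul, hsmul]⟩
  have hstrict : ∀ i, W i ≠ ⊤ → W i < W (i + 1) := by
    intro i hi
    refine lt_of_le_of_ne (hmono i) fun heq => hi ?_
    by_contra htop
    obtain ⟨v, hv, hfix⟩ := exists_fixed_mod p U hU (W i)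
      (fun u hu => hN u (Subgroup.le_normalizer hu) i) htop
    exact hv (heq.symm.le ((hnext (W i) v).mpr hfix))
  let rk : Submodule F (Fin n → F) → ℕ := fun X => Module.finrank F X
  have hdim : ∀ i : ℕ, W i ≠ ⊤ → i ≤ rk (W i) := by
    intro i
    induction i with
    | zero => intro _; exact Nat.zero_le _
    | succ i ih =>
      intro h
      have hne : W i ≠ ⊤ := fun e => h (top_le_iff.mp (e ▸ hmono i))
      have := Submodule.finrank_lt_finrank_of_lt (hstrict i hne)
      have := ih hne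
      simp only [rk] at *
      omega
  have hex : ∃ m, W m = ⊤ := by
    refine ⟨n + 1, ?_⟩
    by_contra h
    have := hdim (n + 1) h
    simp only [rk] at this
    have h2 := Submodule.finrank_le (W (n + 1))
    rw [Module.finrank_pi, Fintype.card_fin] at h2
    omega
  have hW1 : ∀ i, i ≤ 1 → W i ≠ ⊤ := by
    intro i hi htop
    have htop1 : W 1 = ⊤ := by
      rcases Nat.le_one_iff_eq_zero_or_eq_one.mp hi with rfl | rfl
      · exact top_le_iff.mp (htop ▸ hmono 0)
      · exact htop
    refine hne ((Subgroup.eq_bot_iff_forall _).mpr fun u hu => Subtype.ext ?_)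
    refine Matrix.mulVec_injective (funext fun v => ?_)
    have h := (hnext (W 0) v).mp (show v ∈ W 1 by rw [htop1]; trivial) u hu
    rw [hW0, Submodule.mem_bot, sub_eq_zero] at h
    rw [h, Matrix.SpecialLinearGroup.coe_one, Matrix.one_mulVec]
  obtain ⟨m, hm, hmin⟩ : ∃ m, W m = ⊤ ∧ ∀ i < m, W i ≠ ⊤ :=
    ⟨@Nat.find _ (Classical.decPred _) hex, @Nat.find_spec _ (Classical.decPred _) hex,
      fun i hi => @Nat.find_min _ (Classical.decPred _) hex i hi⟩
  have hm2 : 2 ≤ m := by
    by_contra h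
    exact hW1 m (by omega) hm
  refine ⟨m - 1, fun i => W i.val, by omega, ?_, hW0, ?_, fun g hg i => hmap g hg i.val, ?_⟩
  · refine Fin.strictMono_iff_lt_succ.mpr fun i => ?_
    exact hstrict i.val (hmin _ (by omega))
  · simp only [Fin.val_last, show m - 1 + 1 = m by omega, hm]
  · intro u hu i v hv
    simp only [Fin.val_succ] at hv
    rw [hWs, hnext] at hv
    exact hv u hu

end Cfsg.Agent.S2391
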