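import Cfsg.Statements.S2392
-- import your own Cfsg.Agent.* helpers here

set_option autoImplicit false
open scoped MatrixGroups
open Cfsg

namespace Cfsg.Agent.S2392

open Matrix

section

variable {F : Type*} [Field F] {m : ℕ}

private def uMat (v : Fin m → F) : Matrix (Fin (m + 1)) (Fin (m + 1)) F :=
  1 + vecMulVec (Pi.single 0 1) (Fin.cons 0 v)

private theorem uMat_add (v w : Fin m → F) : uMat v * uMat w = uMat (v + w) := by
  unfold uMat
  have h0 : vecMulVec (Pi.single (0 : Fin (m + 1)) (1 : F)) (Fin.cons 0 v) *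
      vecMulVec (Pi.single (0 : Fin (m + 1)) (1 : F)) (Fin.cons 0 w) = 0 := by
    rw [vecMulVec_mul_vecMulVec]; simp
  have h1 : vecMulVec (Pi.single (0 : Fin (m + 1)) (1 : F)) (Fin.cons 0 (v + w)) =
      vecMulVec (Pi.single (0 : Fin (m + 1)) (1 : F)) (Fin.cons 0 v) +
      vecMulVec (Pi.single (0 : Fin (m + 1)) (1 : F)) (Fin.cons 0 w) := by
    ext i j
    refine Fin.cases ?_ (fun j => ?_) j <;> simp [vecMulVec_apply, mul_add]
  rw [h1, add_mul, one_mul, mul_add, mul_one, h0]; abel

private theorem uMat_det (v : Fin m → F) : (uMat v).det = 1 := by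
  unfold uMat
  rw [vecMulVec_eq Unit, det_one_add_replicateCol_mul_replicateRow]
  simp

private def U (v : Fin m → F) : Matrix.SpecialLinearGroup (Fin (m + 1)) F := ⟨uMat v, uMat_det v⟩

private theorem U_add (v w : Fin m → F) : U v * U w = U (v + w) := Subtype.ext (uMat_add v w)

private theorem U_zero : U (0 : Fin m → F) = 1 := by
  have h := U_add (0 : Fin m → F) 0
  rw [add_zero] at h
  exact mul_left_cancel (h.trans (mul_one _).symm)

private theorem U_noncentral (v : Fin m → F)
    (h : U v ∈ Subgroup.center (Matrix.SpecialLinearGroup (Fin (m + 1)) F)) : v = 0 := by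
  obtain ⟨r, -, hr⟩ := Matrix.SpecialLinearGroup.mem_center_iff.mp h
  funext j
  have h2 := congr_fun (congr_fun hr 0) j.succ
  simp [U, uMat, vecMulVec_apply, Matrix.scalar_apply, (Fin.succ_ne_zero j).symm, Fin.succ_ne_zero] at h2
  simpa using h2.symm

private def T (i j : Fin m) (hij : i ≠ j) (c : F) : Matrix.SpecialLinearGroup (Fin (m + 1)) F :=
  ⟨Matrix.transvection i.succ j.succ c, Matrix.det_transvection_of_ne _ _ (by simpa using hij) c⟩

private theorem T_conj (i j : Fin m) (hij : i ≠ j) (c : F) (v : Fin m → F) :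
    T i j hij c * U v = U (v - (c * v i) • Pi.single j 1) * T i j hij c := by
  apply Subtype.ext
  show Matrix.transvection i.succ j.succ c * uMat v =
    uMat (v - (c * v i) • Pi.single j 1) * Matrix.transvection i.succ j.succ c
  unfold Matrix.transvection uMat
  have h1 : Matrix.single i.succ j.succ c *
      vecMulVec (Pi.single (0 : Fin (m + 1)) (1 : F)) (Fin.cons 0 v) = 0 := by
    ext a b
    simp [Matrix.mul_apply, vecMulVec_apply, Matrix.single_apply, Pi.single_apply]
  have h2 : ∀ w : Fin m → F, vecMulVec (Pi.single (0 : Fin (m + 1)) (1 : F)) (Fin.cons 0 w) *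
      Matrix.single i.succ j.succ c =
      vecMulVec (Pi.single (0 : Fin (m + 1)) (1 : F)) (Fin.cons 0 ((c * w i) • Pi.single j 1)) := by
    intro w
    ext a b
    refine Fin.cases ?_ (fun b => ?_) b
    · simp [Matrix.mul_apply, vecMulVec_apply, Matrix.single_apply]
    · by_cases hb : j = b
      · subst hb
        simp [Matrix.mul_apply, vecMulVec_apply, Matrix.single_apply, mul_comm, mul_left_comm, mul_assoc]
      · simp [Matrix.mul_apply, vecMulVec_apply, Matrix.single_apply, hb, Ne.symm hb]
  have h3 : vecMulVec (Pi.single (0 : Fin (m + 1)) (1 : F))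
      (Fin.cons 0 (v - (c * v i) • Pi.single j 1)) =
      vecMulVec (Pi.single (0 : Fin (m + 1)) (1 : F)) (Fin.cons 0 v) -
      vecMulVec (Pi.single (0 : Fin (m + 1)) (1 : F)) (Fin.cons 0 ((c * v i) • Pi.single j 1)) := by
    ext a b
    refine Fin.cases ?_ (fun b => ?_) b <;> simp [vecMulVec_apply, mul_sub]
  have h4 : (v - (c * v i) • (Pi.single j 1 : Fin m → F)) i = v i := by simp [hij]
  rw [add_mul, one_mul, mul_add, mul_one, h1, add_mul, one_mul, mul_add, mul_one, h2, h4, h3]
  abel

end

private theorem core {F : Type*} [Field F] [Fintype F] [DecidableEq F] {m : ℕ} (hm : 2 ≤ m)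
    {L : Type*} [Field L] {d : ℕ} (ψ : AddChar F L) (hψ : ψ.IsPrimitive)
    (hN : ((Fintype.card F : L) ^ m) ≠ 0)
    (ρ : Matrix.SpecialLinearGroup (Fin (m + 1)) F →* Matrix (Fin d) (Fin d) L)
    (hker : ∀ g, ρ g = 1 → g ∈ Subgroup.center (Matrix.SpecialLinearGroup (Fin (m + 1)) F)) :
    Fintype.card F ^ m - 1 ≤ d := by
  classical
  set R : (Fin m → F) → Matrix (Fin d) (Fin d) L := fun v => ρ (U v) with hR
  set N : L := (Fintype.card F : L) ^ m with hNdef
  set E : (Fin m → F) → Matrix (Fin d) (Fin d) L :=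
    fun a => N⁻¹ • ∑ v, ψ (-(a ⬝ᵥ v)) • R v with hE
  have hRmul : ∀ v w, R v * R w = R (v + w) := fun v w => by
    simp only [hR]; rw [← map_mul, U_add]
  -- orthogonality
  have horth : ∀ b : Fin m → F, ∑ a : Fin m → F, ψ (a ⬝ᵥ b) = if b = 0 then N else 0 := by
    intro b
    rcases eq_or_ne b 0 with rfl | hb
    · simp [hNdef]
    · rw [if_neg hb]
      obtain ⟨i, hi⟩ := Function.ne_iff.mp hb
      obtain ⟨x, hx⟩ : ∃ x, ψ (b i * x) ≠ 1 := by
        by_contra hc
        push Not at hc
        exact hψ (show b i ≠ 0 from hi) (by ext x; simpa using hc x)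
      have key : ψ (b i * x) * ∑ a : Fin m → F, ψ (a ⬝ᵥ b) = ∑ a : Fin m → F, ψ (a ⬝ᵥ b) := by
        rw [Finset.mul_sum]
        refine Fintype.sum_equiv (Equiv.addRight (Pi.single i x)) _ _ fun a => ?_
        rw [← AddChar.map_add_eq_mul]
        congr 1
        simp [add_dotProduct, single_dotProduct]
        ring
      by_contra hc
      exact hx ((mul_eq_right₀ hc).mp key)
  have hEsum : ∑ a, E a = 1 := by
    simp only [hE]
    rw [← Finset.smul_sum, Finset.sum_comm]
    have : ∀ v, ∑ a : Fin m → F, ψ (-(a ⬝ᵥ v)) • R v = (if -v = 0 then N else 0) • R v := by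
      intro v
      rw [← Finset.sum_smul, ← horth (-v)]
      simp [dotProduct_neg]
    rw [Finset.sum_congr rfl fun v _ => this v]
    simp only [neg_eq_zero, ite_smul, zero_smul]
    rw [Finset.sum_ite_eq' Finset.univ (0 : Fin m → F) (fun v => N • R v)]
    simp [hR, U_zero, smul_smul, hN]
  have hRE : ∀ w a, R w * E a = ψ (a ⬝ᵥ w) • E a := by
    intro w a
    simp only [hE]
    rw [Matrix.mul_smul, smul_comm (ψ (a ⬝ᵥ w)), Finset.mul_sum]
    congr 1
    rw [Finset.smul_sum]
    refine Fintype.sum_equiv (Equiv.addLeft w) _ _ fun v => ?_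
    rw [Matrix.mul_smul, hRmul, smul_smul, ← AddChar.map_add_eq_mul]
    congr 1
    simp [dotProduct_add]
  have hEE : ∀ a b, E b * E a = if a = b then E a else 0 := by
    intro a b
    conv_lhs => rw [show E b = N⁻¹ • ∑ v, ψ (-(b ⬝ᵥ v)) • R v from rfl]
    rw [Matrix.smul_mul, Finset.sum_mul]
    simp only [Matrix.smul_mul, hRE, smul_smul]
    rw [← Finset.sum_smul, smul_smul]
    have : ∑ v : Fin m → F, ψ (-(b ⬝ᵥ v)) * ψ (a ⬝ᵥ v) = if a - b = 0 then N else 0 := by
      rw [← horth (a - b)]
      refine Finset.sum_congr rfl fun v _ => ?_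
      rw [← AddChar.map_add_eq_mul, dotProduct_comm v, sub_dotProduct]
      congr 1; ring
    rw [this]
    rcases eq_or_ne a b with rfl | hab
    · simp [hN]
    · simp [hab, sub_ne_zero.mpr hab]
  -- the Levi moves
  have hmove : ∀ (i j : Fin m), i ≠ j → ∀ (c : F) (a : Fin m → F),
      E a ≠ 0 → E (a + (c * a j) • Pi.single i 1) ≠ 0 := by
    intro i j hij c a ha hb
    apply ha
    set τ : Matrix (Fin d) (Fin d) L := ρ (T i j hij c)
    set τ' : Matrix (Fin d) (Fin d) L := ρ (T i j hij c)⁻¹
    set a' := a + (c * a j) • (Pi.single i 1 : Fin m → F) with ha'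
    have h1 : τ' * τ = 1 := by rw [← map_mul, inv_mul_cancel, map_one]
    have hkey : τ * E a = E a' * τ := by
      simp only [hE]
      rw [Matrix.mul_smul, Matrix.smul_mul, Finset.mul_sum, Finset.sum_mul]
      congr 1
      let e : (Fin m → F) ≃ (Fin m → F) :=
        { toFun := fun v => v - (c * v i) • Pi.single j 1
          invFun := fun v => v + (c * v i) • Pi.single j 1
          left_inv := fun v => by simp [hij]
          right_inv := fun v => by simp [hij] }
      refine Fintype.sum_equiv e _ _ fun v => ?_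
      rw [Matrix.mul_smul, Matrix.smul_mul]
      congr 1
      · congr 2
        simp only [e, Equiv.coe_fn_mk, ha', add_dotProduct, smul_dotProduct, dotProduct_sub,
          dotProduct_smul, single_dotProduct, dotProduct_single, Pi.sub_apply, Pi.smul_apply,
          smul_eq_mul, mul_one, one_mul, Pi.add_apply, Pi.single_eq_of_ne hij.symm]
        ring
      · simp only [hR, τ, e, Equiv.coe_fn_mk]
        rw [← map_mul, ← map_mul, T_conj]
    calc E a = τ' * (τ * E a) := by rw [← mul_assoc, h1, one_mul]
      _ = 0 := by rw [hkey, hb, zero_mul, mul_zero]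
  let i0 : Fin m := ⟨0, by omega⟩
  let i1 : Fin m := ⟨1, by omega⟩
  have h01 : i0 ≠ i1 := by simp [i0, i1, Fin.ext_iff]
  -- reach any nonzero vector
  have hset : ∀ (i j : Fin m), i ≠ j → ∀ a : Fin m → F, a j ≠ 0 → E a ≠ 0 → ∀ x,
      E (Function.update a i x) ≠ 0 := by
    intro i j hij a haj ha x
    have h := hmove i j hij ((x - a i) / a j) a ha
    convert h using 2
    funext k
    rcases eq_or_ne k i with rfl | hk
    · simp [div_mul_cancel₀ _ haj]
    · simp [hk]
  have hall : ∀ a : Fin m → F, a ≠ 0 → E a ≠ 0 → ∀ b : Fin m → F, b ≠ 0 → E b ≠ 0 := by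
    -- every nonzero target is reached by changing one coordinate at a time
    have grow : ∀ (s : Finset (Fin m)) (a b : Fin m → F) (j : Fin m), a j ≠ 0 → j ∉ s → E a ≠ 0 →
        E (fun k => if k ∈ s then b k else a k) ≠ 0 := by
      intro s
      induction s using Finset.induction with
      | empty => intro a b j _ _ ha; simpa using ha
      | @insert i s his ih =>
        intro a b j haj hj ha
        simp only [Finset.mem_insert, not_or] at hj
        have h := ih a b j haj hj.2 ha
        have h2 := hset i j (Ne.symm hj.1) _ (by simpa [hj.2] using haj) h (b i)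
        convert h2 using 2
        funext k
        rcases eq_or_ne k i with rfl | hk
        · simp
        · simp [hk]
    intro a ha0 ha b hb0
    obtain ⟨j, hj⟩ := Function.ne_iff.mp ha0
    obtain ⟨k, hk⟩ := Function.ne_iff.mp hb0
    -- first move to a vector agreeing with `b` at `k`
    obtain ⟨a1, ha1, hk1⟩ : ∃ a1 : Fin m → F, E a1 ≠ 0 ∧ a1 k = b k := by
      rcases eq_or_ne j k with rfl | hjk
      · obtain ⟨l, hl⟩ : ∃ l, l ≠ j := by
          rcases eq_or_ne j i0 with rfl | h
          · exact ⟨i1, h01.symm⟩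
          · exact ⟨i0, h.symm⟩
        have h1 := hset l j hl a hj ha 1
        have h2 := hset j l hl.symm (Function.update a l 1) (by simp) h1 (b j)
        exact ⟨_, h2, by simp⟩
      · exact ⟨_, hset k j hjk.symm a hj ha (b k), by simp⟩
    have h := grow (Finset.univ.erase k) a1 b k (by rw [hk1]; exact hk) (by simp) ha1
    convert h using 2
    funext l
    rcases eq_or_ne l k with rfl | hl
    · simp [hk1]
    · simp [hl]
  -- a nontrivial character occurs
  obtain ⟨a0, ha00, ha0⟩ : ∃ a : Fin m → F, a ≠ 0 ∧ E a ≠ 0 := by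
    by_contra hc
    push Not at hc
    have hE0 : E 0 = 1 := by
      rw [← hEsum, Finset.sum_eq_single (0 : Fin m → F) (fun a _ ha => hc a ha) (by simp)]
    have h1 := hRE (Pi.single i0 1) 0
    rw [hE0, mul_one, zero_dotProduct, AddChar.map_zero_eq_one, one_smul] at h1
    have h2 := U_noncentral _ (hker _ h1)
    simpa [i0] using congr_fun h2 i0
  have hne : ∀ a : {a : Fin m → F // a ≠ 0}, ∃ w : Fin d → L, (E a.1).mulVec w ≠ 0 := by
    intro a
    by_contra hc
    push Not at hc
    apply hall a0 ha00 ha0 a.1 a.2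
    apply Matrix.ext_iff_mulVec.mpr
    intro v; simp [hc v]
  choose w hw using hne
  have hli : LinearIndependent L fun a : {a : Fin m → F // a ≠ 0} => (E a.1).mulVec (w a) := by
    rw [Fintype.linearIndependent_iff]
    intro g hg b
    have h1 := congrArg (fun x => (E b.1).mulVec x) hg
    simp only [Matrix.mulVec_sum, Matrix.mulVec_smul, Matrix.mulVec_mulVec, hEE,
      Matrix.mulVec_zero] at h1
    rw [Finset.sum_eq_single b] at h1
    · simpa [hw b] using h1
    · intro a _ hab
      rw [if_neg (fun h => hab (Subtype.ext h))]; simp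
    · simp
  have hcard := hli.fintype_card_le_finrank
  simp only [ne_eq, Fintype.card_subtype_compl, Fintype.card_fun, Fintype.card_fin,
    Fintype.card_subtype_eq, Module.finrank_pi] at hcard
  exact hcard

/-- A lower bound for representations in cross characteristic: for `n ≥ 3` and a field `F` with `q` elements, every homomorphism from `SL_n(F)` to `GL_d(K)`, `K` a field of characteristic different from that of `F`, whose kernel is central has `d ≥ q^(n-1) - 1`. -/
theorem result {F : Type*} [Field F] [Fintype F] {q : ℕ} (hq : Fintype.card F = q) (n : ℕ) (hn : 3 ≤ n)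
    {K : Type*} [Field K] (hK : ringChar K ≠ ringChar F) {d : ℕ}
    (ρ : Matrix.SpecialLinearGroup (Fin n) F →* GL (Fin d) K) (hker : ρ.ker ≤ Subgroup.center (Matrix.SpecialLinearGroup (Fin n) F)) :
    q ^ (n - 1) - 1 ≤ d := by
  obtain ⟨m, rfl⟩ : ∃ m, n = m + 1 := ⟨n - 1, by omega⟩
  classical
  set p := ringChar F with hpdef
  have hp : p.Prime := CharP.char_is_prime F p
  haveI : Fact p.Prime := ⟨hp⟩
  set L := AlgebraicClosure K
  have hpL : (p : L) ≠ 0 := by
    rw [← map_natCast (algebraMap K L), map_ne_zero_iff _ (algebraMap K L).injective]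
    intro h
    rcases (Nat.dvd_prime hp).mp (ringChar.dvd h) with h1 | h1
    · exact CharP.ringChar_ne_one h1
    · exact hK h1
  haveI : NeZero (p : L) := ⟨hpL⟩
  obtain ⟨ζ, hζ⟩ := HasEnoughRootsOfUnity.exists_primitiveRoot L p
  haveI : CharP F p := ringChar.charP F
  letI := ZMod.algebra F p
  let ψ : AddChar F L := (AddChar.zmodChar p hζ.pow_eq_one).compAddMonoidHom
    (Algebra.trace (ZMod p) F).toAddMonoidHom
  have hψ : ψ.IsPrimitive := by
    apply AddChar.IsPrimitive.of_ne_one
    intro h
    obtain ⟨x, hx⟩ := Algebra.trace_surjective (ZMod p) F 1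
    have h2 : ψ x = 1 := by rw [h]; rfl
    simp only [ψ, AddChar.compAddMonoidHom_apply, LinearMap.toAddMonoidHom_coe, hx,
      AddChar.zmodChar_apply, ZMod.val_one, pow_one] at h2
    exact hζ.ne_one hp.one_lt h2
  obtain ⟨f, hf, hcard⟩ := FiniteField.card F p
  have hN : ((Fintype.card F : L) ^ m) ≠ 0 := by
    rw [hcard]; push_cast; exact pow_ne_zero _ (pow_ne_zero _ hpL)
  let ρ' : Matrix.SpecialLinearGroup (Fin (m + 1)) F →* Matrix (Fin d) (Fin d) L :=
    ((algebraMap K L).mapMatrix.toMonoidHom.comp (Units.coeHom _)).comp ρ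
  rw [← hq, Nat.add_sub_cancel]
  refine core (by omega) ψ hψ hN ρ' fun g hg => hker ?_
  rw [MonoidHom.mem_ker]
  apply Units.ext
  apply Matrix.map_injective (algebraMap K L).injective
  simpa [ρ'] using hg

end Cfsg.Agent.S2392
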