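import Cfsg.Statements.S2393
-- import your own Cfsg.Agent.* helpers here

set_option autoImplicit false
open scoped MatrixGroups
open Cfsg

namespace Cfsg.Agent.S2393

open Matrix

section

variable {F : Type*} [Field F] {m : ℕ}

private def symPart (x : Fin (m + 1) → F) : Matrix (Fin (m + 1)) (Fin (m + 1)) F :=
  vecMulVec (Pi.single 0 1) x + vecMulVec x (Pi.single 0 1)

private def U (x : Fin (m + 1) → F) : ↥(Matrix.symplecticGroup (Fin (m + 1)) F) :=
  ⟨fromBlocks 1 (symPart x) 0 1, by
    rw [SymplecticGroup.mem_iff, Matrix.J, fromBlocks_transpose, fromBlocks_multiply,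
      fromBlocks_multiply]
    have hs : (symPart x)ᵀ = symPart x := by
      simp [symPart, transpose_vecMulVec, add_comm]
    simp [hs]⟩

private theorem U_add (x y : Fin (m + 1) → F) : U x * U y = U (x + y) := by
  apply Subtype.ext
  show fromBlocks 1 (symPart x) 0 1 * fromBlocks 1 (symPart y) 0 1 = fromBlocks 1 (symPart (x + y)) 0 1
  simp only [fromBlocks_multiply, Matrix.mul_zero, Matrix.zero_mul, Matrix.one_mul, Matrix.mul_one,
    add_zero, zero_add]
  congr 1
  simp only [symPart, vecMulVec_add, add_vecMulVec]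
  abel

private theorem U_zero : U (0 : Fin (m + 1) → F) = 1 := by
  have h := U_add (0 : Fin (m + 1) → F) 0
  rw [add_zero] at h
  exact mul_left_cancel (h.trans (mul_one _).symm)

private theorem U_noncentral (h2 : (2 : F) ≠ 0) (s : F)
    (h : U (Pi.single 0 s) ∈ Subgroup.center ↥(Matrix.symplecticGroup (Fin (m + 1)) F)) : s = 0 := by
  have hc := congrArg Subtype.val (Subgroup.mem_center_iff.mp h
    ⟨Matrix.J (Fin (m + 1)) F, SymplecticGroup.J_mem _ _⟩)
  have he := congr_fun (congr_fun hc (Sum.inl 0)) (Sum.inl 0)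
  simp [U, Matrix.J, fromBlocks_multiply, symPart, vecMulVec_apply] at he
  by_contra hs
  apply h2
  have h3 : (2 : F) * s = 0 := by linear_combination -he
  exact (mul_eq_zero.mp h3).resolve_right hs

private theorem shear_inv (u v : Fin (m + 1) → F) (a : F) (ha : a ≠ 0) (h : v ⬝ᵥ u = a - 1) :
    (1 + vecMulVec u v) * (1 - a⁻¹ • vecMulVec u v) = 1 ∧
      (1 - a⁻¹ • vecMulVec u v) * (1 + vecMulVec u v) = 1 := by
  constructor
  · rw [add_mul, one_mul, mul_sub, mul_one, Matrix.mul_smul, vecMulVec_mul_vecMulVec, h]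
    ext i j
    simp [vecMulVec_apply]
    field_simp
    ring
  · rw [sub_mul, one_mul, mul_add, mul_one, Matrix.smul_mul, vecMulVec_mul_vecMulVec, h]
    ext i j
    simp [vecMulVec_apply]
    field_simp
    ring

private def levi (r : Fin (m + 1) → F) (a : F) (ha : a ≠ 0) (hr : r 0 = a - 1) :
    ↥(Matrix.symplecticGroup (Fin (m + 1)) F) :=
  ⟨fromBlocks (1 + vecMulVec (Pi.single 0 1) r) 0 0 (1 - a⁻¹ • vecMulVec r (Pi.single 0 1)), by
    rw [SymplecticGroup.mem_iff, Matrix.J, fromBlocks_transpose, fromBlocks_multiply,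
      fromBlocks_multiply]
    simp only [transpose_sub, transpose_one, transpose_smul, transpose_vecMulVec,
      transpose_add, transpose_zero]
    have h1 := (shear_inv (Pi.single (0 : Fin (m + 1)) (1 : F)) r a ha (by simp [hr])).1
    have h2 := (shear_inv r (Pi.single (0 : Fin (m + 1)) (1 : F)) a ha (by simp [hr])).2
    simp only [Matrix.mul_neg, Matrix.neg_mul, Matrix.mul_zero, Matrix.zero_mul, add_zero, zero_add,
      Matrix.mul_one, Matrix.one_mul, neg_zero, h1, h2]⟩

private theorem levi_conj (r : Fin (m + 1) → F) (a : F) (ha : a ≠ 0) (hr : r 0 = a - 1)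
    (x : Fin (m + 1) → F) :
    levi r a ha hr * U x =
      U (a • ((1 + vecMulVec (Pi.single 0 1) r) *ᵥ x)) * levi r a ha hr := by
  set e : Fin (m + 1) → F := Pi.single 0 1 with he
  set A : Matrix (Fin (m + 1)) (Fin (m + 1)) F := 1 + vecMulVec e r with hA
  have hAe : A *ᵥ e = a • e := by
    funext i
    simp [hA, he, add_mulVec, vecMulVec_mulVec, hr, Pi.single_apply, Matrix.one_apply, vecMulVec_apply]
    split_ifs <;> ring
  have hM : A * symPart x * Aᵀ = symPart (a • (A *ᵥ x)) := by
    simp only [symPart, ← he, Matrix.mul_add, Matrix.add_mul, mul_vecMulVec, vecMulVec_mul,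
      vecMul_transpose, hAe, smul_vecMulVec, vecMulVec_smul, Matrix.smul_mul]
  have hA' : Aᵀ * (1 - a⁻¹ • vecMulVec r e) = 1 := by
    rw [hA, transpose_add, transpose_one, transpose_vecMulVec]
    exact (shear_inv r e a ha (by simp [he, hr])).1
  have hkey : A * symPart x = symPart (a • (A *ᵥ x)) * (1 - a⁻¹ • vecMulVec r e) := by
    rw [← hM, Matrix.mul_assoc (A * symPart x), hA', Matrix.mul_one]
  apply Subtype.ext
  show fromBlocks A 0 0 (1 - a⁻¹ • vecMulVec r e) * fromBlocks 1 (symPart x) 0 1 =
    fromBlocks 1 (symPart _) 0 1 * fromBlocks A 0 0 (1 - a⁻¹ • vecMulVec r e)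
  simp only [fromBlocks_multiply, Matrix.mul_zero, Matrix.zero_mul, Matrix.one_mul, Matrix.mul_one,
    add_zero, zero_add, hkey]

end

private theorem core {F : Type*} [Field F] [Fintype F] [DecidableEq F] {m : ℕ}
    (h2 : (2 : F) ≠ 0)
    {L : Type*} [Field L] {d : ℕ} (ψ : AddChar F L) (hψ : ψ.IsPrimitive)
    (hN : ((Fintype.card F : L) ^ (m + 1)) ≠ 0)
    (ρ : ↥(Matrix.symplecticGroup (Fin (m + 1)) F) →* Matrix (Fin d) (Fin d) L)
    (hker : ∀ g, ρ g = 1 → g ∈ Subgroup.center ↥(Matrix.symplecticGroup (Fin (m + 1)) F)) :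
    Fintype.card F ^ m * (Fintype.card F - 1) / 2 ≤ d := by
  classical
  set R : (Fin (m + 1) → F) → Matrix (Fin d) (Fin d) L := fun v => ρ (U v) with hR
  set N : L := (Fintype.card F : L) ^ (m + 1) with hNdef
  set E : (Fin (m + 1) → F) → Matrix (Fin d) (Fin d) L :=
    fun a => N⁻¹ • ∑ v, ψ (-(a ⬝ᵥ v)) • R v with hE
  have hRmul : ∀ v w, R v * R w = R (v + w) := fun v w => by
    simp only [hR]; rw [← map_mul, U_add]
  have horth : ∀ b : Fin (m + 1) → F, ∑ a : Fin (m + 1) → F, ψ (a ⬝ᵥ b) = if b = 0 then N else 0 := by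
    intro b
    rcases eq_or_ne b 0 with rfl | hb
    · simp [hNdef]
    · rw [if_neg hb]
      obtain ⟨i, hi⟩ := Function.ne_iff.mp hb
      obtain ⟨x, hx⟩ : ∃ x, ψ (b i * x) ≠ 1 := by
        by_contra hc
        push Not at hc
        exact hψ (show b i ≠ 0 from hi) (by ext x; simpa using hc x)
      have key : ψ (b i * x) * ∑ a : Fin (m + 1) → F, ψ (a ⬝ᵥ b) =
          ∑ a : Fin (m + 1) → F, ψ (a ⬝ᵥ b) := by
        rw [Finset.mul_sum]
        refine Fintype.sum_equiv (Equiv.addRight (Pi.single i x)) _ _ fun a => ?_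
        rw [← AddChar.map_add_eq_mul]
        congr 1
        simp [add_dotProduct, single_dotProduct]
        ring
      by_contra hc
      exact hx ((mul_eq_right₀ hc).mp key)
  have hEsum : ∑ a, E a = 1 := by
    simp only [hE]
    rw [← Finset.smul_sum, Finset.sum_comm]
    have : ∀ v, ∑ a : Fin (m + 1) → F, ψ (-(a ⬝ᵥ v)) • R v = (if -v = 0 then N else 0) • R v := by
      intro v
      rw [← Finset.sum_smul, ← horth (-v)]
      simp [dotProduct_neg]
    rw [Finset.sum_congr rfl fun v _ => this v]
    simp only [neg_eq_zero, ite_smul, zero_smul]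
    rw [Finset.sum_ite_eq' Finset.univ (0 : Fin (m + 1) → F) (fun v => N • R v)]
    simp [hR, U_zero, smul_smul, hN]
  have hRE : ∀ w a, R w * E a = ψ (a ⬝ᵥ w) • E a := by
    intro w a
    simp only [hE]
    rw [Matrix.mul_smul, smul_comm (ψ (a ⬝ᵥ w)), Finset.mul_sum]
    congr 1
    rw [Finset.smul_sum]
    refine Fintype.sum_equiv (Equiv.addLeft w) _ _ fun v => ?_
    rw [Matrix.mul_smul, hRmul, smul_smul, ← AddChar.map_add_eq_mul]
    congr 1
    simp [dotProduct_add]
  have hEE : ∀ a b, E b * E a = if a = b then E a else 0 := by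
    intro a b
    conv_lhs => rw [show E b = N⁻¹ • ∑ v, ψ (-(b ⬝ᵥ v)) • R v from rfl]
    rw [Matrix.smul_mul, Finset.sum_mul]
    simp only [Matrix.smul_mul, hRE, smul_smul]
    rw [← Finset.sum_smul, smul_smul]
    have : ∑ v : Fin (m + 1) → F, ψ (-(b ⬝ᵥ v)) * ψ (a ⬝ᵥ v) = if a - b = 0 then N else 0 := by
      rw [← horth (a - b)]
      refine Finset.sum_congr rfl fun v _ => ?_
      rw [← AddChar.map_add_eq_mul, dotProduct_comm v, sub_dotProduct]
      congr 1; ring
    rw [this]
    rcases eq_or_ne a b with rfl | hab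
    · simp [hN]
    · simp [hab, sub_ne_zero.mpr hab]
  -- the Levi moves
  have hmove : ∀ (y y' : Fin (m + 1) → F) (a : F), a ≠ 0 → y' 0 ≠ 0 → y 0 = a ^ 2 * y' 0 →
      E y ≠ 0 → E y' ≠ 0 := by
    intro y y' a ha hy'0 hy0 hy hb
    apply hy
    let r : Fin (m + 1) → F := fun j => if j = 0 then a - 1 else (y j / a - y' j) / y' 0
    have hr : r 0 = a - 1 := if_pos rfl
    set g := levi r a ha hr
    set A : Matrix (Fin (m + 1)) (Fin (m + 1)) F := 1 + vecMulVec (Pi.single 0 1) r
    have hinv : Function.Bijective fun x : Fin (m + 1) → F => a • (A *ᵥ x) := by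
      have hinj : Function.Injective fun x : Fin (m + 1) → F => a • (A *ᵥ x) := by
        intro x x' hxx
        have h := (levi_conj r a ha hr x).trans
          ((congrArg (fun u => U u * levi r a ha hr) hxx).trans (levi_conj r a ha hr x').symm)
        have h' := congrArg (fun u => (u.1) (Sum.inl 0)) (mul_left_cancel h)
        funext j
        have hj := congr_fun h' (Sum.inr j)
        simp [U, symPart, vecMulVec_apply, Pi.single_apply] at hj
        split_ifs at hj with hj0
        · subst hj0
          have h2' : (2 : F) * (x 0 - x' 0) = 0 := by linear_combination hj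
          exact sub_eq_zero.mp ((mul_eq_zero.mp h2').resolve_left h2)
        · simpa using hj
      exact ⟨hinj, Finite.injective_iff_surjective.mp hinj⟩
    have hdot : ∀ x, y' ⬝ᵥ (a • (A *ᵥ x)) = y ⬝ᵥ x := by
      intro x
      have hy_eq : ∀ j, y j = a * (y' j + y' 0 * r j) := by
        intro j
        rcases eq_or_ne j 0 with rfl | hj
        · rw [hr, hy0]; ring
        · simp only [r, if_neg hj]
          field_simp
          ring
      simp only [A, add_mulVec, one_mulVec, vecMulVec_mulVec, dotProduct_smul, dotProduct_add,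
        smul_eq_mul]
      simp only [dotProduct, Pi.smul_apply, smul_eq_mul, MulOpposite.smul_eq_mul_unop,
        MulOpposite.unop_op, Pi.single_apply, ite_mul, one_mul, zero_mul, mul_ite, mul_zero,
        Finset.sum_ite_eq', Finset.mem_univ, if_true, Finset.mul_sum, mul_add]
      rw [← Finset.sum_add_distrib]
      refine Finset.sum_congr rfl fun j _ => ?_
      rw [hy_eq j]; ring
    have h1 : ρ g⁻¹ * ρ g = 1 := by rw [← map_mul, inv_mul_cancel, map_one]
    have hkey : ρ g * E y = E y' * ρ g := by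
      simp only [hE]
      rw [Matrix.mul_smul, Matrix.smul_mul, Finset.mul_sum, Finset.sum_mul]
      congr 1
      refine Fintype.sum_bijective _ hinv _ _ fun v => ?_
      rw [Matrix.mul_smul, Matrix.smul_mul, hdot]
      congr 1
      simp only [hR]
      rw [← map_mul, ← map_mul, levi_conj]
    calc E y = ρ g⁻¹ * (ρ g * E y) := by rw [← mul_assoc, h1, one_mul]
      _ = 0 := by rw [hkey, hb, zero_mul, mul_zero]
  -- a character nontrivial on the long root group occurs
  obtain ⟨z, hz0, hz⟩ : ∃ y : Fin (m + 1) → F, y 0 ≠ 0 ∧ E y ≠ 0 := by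
    by_contra hc
    push Not at hc
    have h1 : R (Pi.single 0 1) = 1 := by
      calc R (Pi.single 0 1) = R (Pi.single 0 1) * ∑ a, E a := by rw [hEsum, mul_one]
        _ = ∑ a, E a := by
          rw [Finset.mul_sum]
          refine Finset.sum_congr rfl fun a _ => ?_
          rw [hRE, dotProduct_single, mul_one]
          by_cases ha : a 0 = 0
          · rw [ha, AddChar.map_zero_eq_one, one_smul]
          · rw [hc a ha, smul_zero]
        _ = 1 := hEsum
    exact one_ne_zero (U_noncentral h2 1 (hker _ h1))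
  let sq : Fˣ →* Fˣ := powMonoidHom 2
  have hsq : Fintype.card F - 1 ≤ 2 * Nat.card sq.range := by
    have hk : Nat.card sq.ker ≤ 2 := by
      have hsub : (sq.ker : Set Fˣ) ⊆ ({1, -1} : Finset Fˣ) := by
        intro u hu
        have hu' : (u : F) ^ 2 = 1 := by
          have := congrArg Units.val (MonoidHom.mem_ker.mp hu)
          simpa [sq] using this
        rcases sq_eq_one_iff.mp hu' with h | h
        · simp [Units.ext_iff, h]
        · simp [Units.ext_iff, h]
      refine (Nat.card_mono (Finset.finite_toSet _) hsub).trans ?_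
      rw [Nat.card_coe_set_eq, Set.ncard_coe_finset]
      exact Finset.card_le_two
    have h := Subgroup.card_mul_index sq.ker
    rw [Subgroup.index_ker, Nat.card_units, Nat.card_eq_fintype_card (α := F)] at h
    rw [← h]; exact Nat.mul_le_mul hk le_rfl
  let pt : sq.range × (Fin m → F) → (Fin (m + 1) → F) := fun s => Fin.cons (z 0 * (s.1.1 : F)) s.2
  have hpt : Function.Injective pt := by
    rintro ⟨s, w⟩ ⟨s', w'⟩ h
    have h0 := congr_fun h 0
    simp [pt] at h0
    obtain ⟨-, h2⟩ := Fin.cons_injective2 h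
    simp only [Prod.mk.injEq]
    exact ⟨by rcases h0 with h0 | h0; exacts [Subtype.ext (Units.ext (by simpa using h0)), absurd h0 hz0], h2⟩
  have hne : ∀ s, E (pt s) ≠ 0 := by
    rintro ⟨⟨_, u, rfl⟩, w⟩
    refine hmove z _ (u⁻¹ : Fˣ) (Units.ne_zero _) ?_ ?_ hz
    · simp [pt, hz0]
    · simp [pt, sq]
      field_simp
  have hne2 : ∀ s, ∃ w : Fin d → L, (E (pt s)).mulVec w ≠ 0 := by
    intro s
    by_contra hc
    push Not at hc
    apply hne s
    apply Matrix.ext_iff_mulVec.mpr
    intro v; simp [hc v]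
  choose w hw using hne2
  have hli : LinearIndependent L fun s => (E (pt s)).mulVec (w s) := by
    rw [Fintype.linearIndependent_iff]
    intro g hg b
    have h1 := congrArg (fun x => (E (pt b)).mulVec x) hg
    simp only [Matrix.mulVec_sum, Matrix.mulVec_smul, Matrix.mulVec_mulVec, hEE,
      Matrix.mulVec_zero] at h1
    rw [Finset.sum_eq_single b] at h1
    · simpa [hw b] using h1
    · intro a _ hab
      rw [if_neg (fun h => hab (hpt h))]; simp
    · simp
  have hcard := hli.fintype_card_le_finrank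
  rw [Module.finrank_pi, Fintype.card_fin, ← Nat.card_eq_fintype_card, Nat.card_prod,
    Nat.card_eq_fintype_card (α := Fin m → F), Fintype.card_fun, Fintype.card_fin] at hcard
  refine le_trans ?_ hcard
  rw [Nat.div_le_iff_le_mul_add_pred (by norm_num)]
  nlinarith [Nat.zero_le (Fintype.card F ^ m)]

/-- A lower bound for representations in cross characteristic: for `n ≥ 2` and a field `F` with `q` elements, `q` odd, every homomorphism from the symplectic group `Sp_{2n}(F)` to `GL_d(K)`, `K` a field of characteristic different from that of `F`, whose kernel is central has `d ≥ q^(n-1)(q-1)/2`. -/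
theorem result {F : Type*} [Field F] [Fintype F] {q : ℕ} (hq : Fintype.card F = q) (hodd : Odd q) (n : ℕ) (hn : 2 ≤ n)
    {K : Type*} [Field K] (hK : ringChar K ≠ ringChar F) {d : ℕ}
    (ρ : ↥(Matrix.symplecticGroup (Fin n) F) →* GL (Fin d) K) (hker : ρ.ker ≤ Subgroup.center ↥(Matrix.symplecticGroup (Fin n) F)) :
    q ^ (n - 1) * (q - 1) / 2 ≤ d := by
  obtain ⟨m, rfl⟩ : ∃ m, n = m + 1 := ⟨n - 1, by omega⟩
  classical
  set p := ringChar F with hpdef
  have hp : p.Prime := CharP.char_is_prime F p
  haveI : Fact p.Prime := ⟨hp⟩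
  set L := AlgebraicClosure K
  have hpL : (p : L) ≠ 0 := by
    rw [← map_natCast (algebraMap K L), map_ne_zero_iff _ (algebraMap K L).injective]
    intro h
    rcases (Nat.dvd_prime hp).mp (ringChar.dvd h) with h1 | h1
    · exact CharP.ringChar_ne_one h1
    · exact hK h1
  haveI : NeZero (p : L) := ⟨hpL⟩
  obtain ⟨ζ, hζ⟩ := HasEnoughRootsOfUnity.exists_primitiveRoot L p
  haveI : CharP F p := ringChar.charP F
  letI := ZMod.algebra F p
  let ψ : AddChar F L := (AddChar.zmodChar p hζ.pow_eq_one).compAddMonoidHom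
    (Algebra.trace (ZMod p) F).toAddMonoidHom
  have hψ : ψ.IsPrimitive := by
    apply AddChar.IsPrimitive.of_ne_one
    intro h
    obtain ⟨x, hx⟩ := Algebra.trace_surjective (ZMod p) F 1
    have h2 : ψ x = 1 := by rw [h]; rfl
    simp only [ψ, AddChar.compAddMonoidHom_apply, LinearMap.toAddMonoidHom_coe, hx,
      AddChar.zmodChar_apply, ZMod.val_one, pow_one] at h2
    exact hζ.ne_one hp.one_lt h2
  obtain ⟨f, hf, hcard⟩ := FiniteField.card F p
  have hN : ((Fintype.card F : L) ^ (m + 1)) ≠ 0 := by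
    rw [hcard]; push_cast; exact pow_ne_zero _ (pow_ne_zero _ hpL)
  have h2 : (2 : F) ≠ 0 := by
    intro h
    have hF2 : ringChar F ≠ 2 := by
      intro h2'
      have := FiniteField.even_card_of_char_two h2'
      rw [← hq] at hodd
      obtain ⟨t, ht⟩ := hodd
      omega
    exact Ring.two_ne_zero hF2 h
  let ρ' : ↥(Matrix.symplecticGroup (Fin (m + 1)) F) →* Matrix (Fin d) (Fin d) L :=
    ((algebraMap K L).mapMatrix.toMonoidHom.comp (Units.coeHom _)).comp ρ
  rw [← hq, Nat.add_sub_cancel]
  refine core h2 ψ hψ hN ρ' fun g hg => hker ?_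
  rw [MonoidHom.mem_ker]
  apply Units.ext
  apply Matrix.map_injective (algebraMap K L).injective
  simpa [ρ'] using hg

end Cfsg.Agent.S2393
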