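import Cfsg.Statements.S2396
import Cfsg.Agent.Lib.Chev.SteinbergCover
import Cfsg.Agent.Lib.Chev.SteinbergData
-- import your own Cfsg.Agent.* helpers here

set_option autoImplicit false
open scoped MatrixGroups
open Cfsg

namespace Cfsg.Agent.S2396

/-- For each of the types G₂, B₂, D₄, F₄, E₆, E₇, E₈ and any field `K` (for types B₂ and G₂ the field must have more than two elements — the cases where the Chevalley group is not simple are set aside), the group presented by the generators x̄_r(t) subject only to (R1) and (R2) maps onto the Chevalley group by x̄_r(t) ↦ x_r(t), and this homomorphism is a central extension: it is surjective with kernel contained in the centre. -/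
theorem result {K : Type*} [Field K] (D : Cfsg.Lie.ChevalleyDatum) (hD : D ∈ [Cfsg.Lie.chevG2, Cfsg.Lie.chevB2, Cfsg.Lie.chevD4, Cfsg.Lie.chevF4, Cfsg.Lie.chevE6, Cfsg.Lie.chevE7, Cfsg.Lie.chevE8]) (hK : D ∈ [Cfsg.Lie.chevB2, Cfsg.Lie.chevG2] → ∃ x : K, x ≠ 0 ∧ x ≠ 1) :
    ∃ θ : D.SteinbergCover K →* ↥(D.group K), Function.Surjective θ ∧ θ.ker ≤ Subgroup.center (D.SteinbergCover K) ∧
      ∀ (r : ℕ) (t : K), r < D.nroots → ((θ (D.scGen K r t) : GL D.Idx K) : Matrix D.Idx D.Idx K) = D.x K r t := by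
  obtain ⟨Φ, hadj⟩ := CfsgLib.Chev.exists_adj hD
  refine ⟨(Φ.cproj K).codRestrict (D.group K) Φ.cproj_mem_group, ?_, ?_, fun r t hr => ?_⟩
  · rintro ⟨g, hg⟩
    have hle : D.group K ≤ (Φ.cproj K).range := by
      rw [Φ.toAlg.group_eq, Subgroup.closure_le]
      rintro _ ⟨r, t, rfl⟩
      exact ⟨_, Φ.cproj_gx r t⟩
    obtain ⟨y, hy⟩ := hle hg
    exact ⟨y, Subtype.ext hy⟩
  · rw [MonoidHom.ker_codRestrict, Φ.cker_proj_eq_center hadj]
  · show ((Φ.cproj K (Φ.cgx ⟨r, hr⟩ t)) : Matrix D.Idx D.Idx K) = _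
    rw [Φ.cproj_gx, Φ.toAlg.x_val' hr]

end Cfsg.Agent.S2396
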