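import Cfsg.Statements.S2399
import Cfsg.Agent.Lib.Chev.CoverCoprime
-- import your own Cfsg.Agent.* helpers here

set_option autoImplicit false
open scoped MatrixGroups
open Cfsg

namespace Cfsg.Agent.S2399

/-- Projective representations in the natural characteristic lift: for each of the types G₂, B₂, D₄, F₄, E₆, E₇, E₈ over any field `K` (for types B₂ and G₂ the field must have more than two elements — the cases where the Chevalley group is not simple are set aside), every homomorphism from the Chevalley group to `PGL_n(L) = GL_n(L)/Z`, `L` a field of the same characteristic as `K`, lifts uniquely to a homomorphism from the group Δ presented by (R1), (R2) to `GL_n(L)`, compatibly with the projection Δ → Chevalley group sending x̄_r(t) to x_r(t). -/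
theorem result {K : Type*} [Field K] (D : Cfsg.Lie.ChevalleyDatum) (hD : D ∈ [Cfsg.Lie.chevG2, Cfsg.Lie.chevB2, Cfsg.Lie.chevD4, Cfsg.Lie.chevF4, Cfsg.Lie.chevE6, Cfsg.Lie.chevE7, Cfsg.Lie.chevE8]) (hK : D ∈ [Cfsg.Lie.chevB2, Cfsg.Lie.chevG2] → ∃ x : K, x ≠ 0 ∧ x ≠ 1)
    (θ : D.SteinbergCover K →* ↥(D.group K))
    (hθ : ∀ (r : ℕ) (t : K), r < D.nroots → ((θ (D.scGen K r t) : GL D.Idx K) : Matrix D.Idx D.Idx K) = D.x K r t)
    {L : Type*} [Field L] (hL : ringChar L = ringChar K) {n : ℕ}
    (φ : ↥(D.group K) →* GL (Fin n) L ⧸ Subgroup.center (GL (Fin n) L)) :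
    ∃! ψ : D.SteinbergCover K →* GL (Fin n) L, (QuotientGroup.mk' (Subgroup.center (GL (Fin n) L))).comp ψ = φ.comp θ := by
  classical
  obtain ⟨Φ, hadj⟩ := CfsgLib.Chev.exists_adj hD
  have hperf : commutator (D.SteinbergCover K) = ⊤ :=
    CfsgLib.Chev.cover_perfect_of_mem hD fun h => hK (by
      simp only [List.mem_cons, List.not_mem_nil, or_false]
      rcases h with h | h <;> simp [h])
  set Z := Subgroup.center (GL (Fin n) L)
  have hsurj : Function.Surjective (QuotientGroup.mk' Z) := QuotientGroup.mk'_surjective Z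
  have hker : (QuotientGroup.mk' Z).ker ≤ Subgroup.center (GL (Fin n) L) := (QuotientGroup.ker_mk' Z).le
  by_cases hfin : Finite K
  · haveI := hfin
    obtain ⟨p, hp⟩ := CharP.exists K
    haveI : Fact p.Prime := ⟨(CharP.char_is_prime_or_zero K p).resolve_right
      (CharP.char_ne_zero_of_finite K p)⟩
    haveI : CharP L p := by
      rw [ringChar.eq K p] at hL
      exact hL ▸ ringChar.charP L
    refine Φ.existsUnique_lift_of_coprime p hadj hperf _ hsurj hker (fun z hz hzp => ?_) _
    have hzZ : z ∈ Z := (QuotientGroup.eq_one_iff z).mp hz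
    cases isEmpty_or_nonempty (Fin n) with
    | inl h => exact Units.ext (Subsingleton.elim _ _)
    | inr h =>
      obtain ⟨i⟩ := h
      rw [show Z = _ from Matrix.GeneralLinearGroup.center_eq_range_scalar] at hzZ
      obtain ⟨r, rfl⟩ := hzZ
      rw [← map_pow] at hzp
      have hentry := congrFun (congrFun (congrArg (fun g : GL (Fin n) L => (g : Matrix (Fin n) (Fin n) L)) hzp) i) i
      simp [Matrix.diagonal_pow] at hentry
      have hr : ((r : L) - 1) ^ p = 0 := by rw [sub_pow_char, one_pow, hentry, sub_self]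
      have hr1 : r = 1 := Units.ext (sub_eq_zero.mp (pow_eq_zero_iff (Fact.out : p.Prime).pos.ne' |>.mp hr))
      rw [hr1, map_one]
  · haveI : Infinite K := not_finite_iff_infinite.mp hfin
    obtain ⟨s, hs⟩ := Infinite.exists_subset_card_eq K 5
    exact CfsgLib.Chev.existsUnique_lift hperf
      (fun S π h1 h2 => CfsgLib.Chev.split_of_card hD ⟨s, by omega⟩ S π h1 h2) _ hsurj hker _

end Cfsg.Agent.S2399
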