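import Cfsg.Statements.S2400
import Cfsg.Agent.Lib.Chev.CoverSplitB2
-- import your own Cfsg.Agent.* helpers here

set_option autoImplicit false
open Cfsg

namespace Cfsg.Agent.S2400

/-- Over a finite field `K`, the group presented by Steinberg's relators (R1)–(R3) (the universal Chevalley group) of type E₆ or E₇, or of type B₂ or D₄ with `K` of more than two elements, has trivial Schur multiplier: every finite stem extension of it is an isomorphism (Schur multiplier described through stem extensions as in the definitions). Types G₂, F₄ and E₈ are not covered here. -/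
theorem result {K : Type*} [Field K] [Fintype K] (e : Cfsg.Lie.ChevalleyDatum × ℕ)
    (he : e ∈ [(Cfsg.Lie.chevE6, 0), (Cfsg.Lie.chevE7, 0), (Cfsg.Lie.chevB2, 2), (Cfsg.Lie.chevD4, 2)]) (hK : Fintype.card K ≠ e.2) :
    Cfsg.HasCyclicSchurMultiplier (e.1.SteinbergGroup K) 1 := by
  have hcard := Fintype.one_lt_card (α := K)
  simp only [List.mem_cons, List.not_mem_nil, or_false] at he
  rcases he with rfl | rfl | rfl | rfl
  · obtain ⟨Φ, hadj⟩ := CfsgLib.Chev.exists_adj (D := Cfsg.Lie.chevE6) (by simp)
    exact CfsgLib.Chev.hasCyclicMultiplier_universal Φ hadj (CfsgLib.Chev.split_E (by simp))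
      (CfsgLib.Chev.cover_perfect_of_mem (by simp) fun h => absurd h (by
        rintro (h | h) <;> exact absurd (congrArg Cfsg.Lie.ChevalleyDatum.nroots h) (by decide +kernel)))
  · obtain ⟨Φ, hadj⟩ := CfsgLib.Chev.exists_adj (D := Cfsg.Lie.chevE7) (by simp)
    exact CfsgLib.Chev.hasCyclicMultiplier_universal Φ hadj (CfsgLib.Chev.split_E (by simp))
      (CfsgLib.Chev.cover_perfect_of_mem (by simp) fun h => absurd h (by
        rintro (h | h) <;> exact absurd (congrArg Cfsg.Lie.ChevalleyDatum.nroots h) (by decide +kernel)))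
  all_goals
    have h3 : 3 ≤ Fintype.card K := by
      have : Fintype.card K ≠ 2 := hK
      omega
    classical
    obtain ⟨b, hb⟩ := IsCyclic.exists_generator (α := Kˣ)
    have hb1 : b ≠ 1 := fun e => by
      have := orderOf_eq_card_of_forall_mem_zpowers hb
      rw [e, orderOf_one, Nat.card_units, Nat.card_eq_fintype_card] at this
      omega
  · obtain ⟨Φ, hadj⟩ := CfsgLib.Chev.exists_adj (D := Cfsg.Lie.chevB2) (by simp)
    exact CfsgLib.Chev.hasCyclicMultiplier_universal Φ hadj (CfsgLib.Chev.split_B2 h3)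
      (CfsgLib.Chev.cover_perfect_of_mem (by simp) fun _ => CfsgLib.Chev.exists_ne_one b hb1)
  · obtain ⟨Φ, hadj⟩ := CfsgLib.Chev.exists_adj (D := Cfsg.Lie.chevD4) (by simp)
    exact CfsgLib.Chev.hasCyclicMultiplier_universal Φ hadj (CfsgLib.Chev.split_big (by simp) h3)
      (CfsgLib.Chev.cover_perfect_of_mem (by simp) fun _ => CfsgLib.Chev.exists_ne_one b hb1)

end Cfsg.Agent.S2400
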