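import Cfsg.Statements.S2402
import Cfsg.Agent.Lib.SLGen.Cyclic
import Cfsg.Agent.Lib.SLGen.SquareGen

set_option autoImplicit false
open Cfsg

namespace Cfsg.Agent.S2402

/-- Explicit two-element generation of `PSL_{n+1}(K)` for a finite field `K` with more than three elements: let `k` generate the multiplicative group of `K`, `h = diag(k, k⁻¹, 1, …, 1)`, `x = 1 + E₁₂` (the elementary transvection) and `w` the monomial matrix with entries `1` in positions `(i, i+1)` and `(−1)^n` in position `(n+1, 1)`. Then `h` and `x·w` generate `SL_{n+1}(K)` modulo its centre: the subgroup they generate together with the centre is everything. -/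
theorem result {K : Type*} [Field K] [Fintype K] (hK : 3 < Fintype.card K) (n : ℕ) (hn : 1 ≤ n)
    (k : Kˣ) (hk : ∀ u : Kˣ, u ∈ Subgroup.zpowers k)
    (h x w : Matrix.SpecialLinearGroup (Fin (n + 1)) K)
    (hh : (h : Matrix (Fin (n + 1)) (Fin (n + 1)) K) =
      Matrix.diagonal (fun i => if i.val = 0 then (k : K) else if i.val = 1 then ((k⁻¹ : Kˣ) : K) else 1))
    (hx : (x : Matrix (Fin (n + 1)) (Fin (n + 1)) K) = Matrix.transvection (0 : Fin (n + 1)) (1 : Fin (n + 1)) 1)
    (hw : (w : Matrix (Fin (n + 1)) (Fin (n + 1)) K) =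
      Matrix.of (fun i j => if j.val = i.val + 1 then 1 else if i.val = n ∧ j.val = 0 then (-1) ^ n else 0)) :
    Subgroup.closure ({h, x * w} : Set (Matrix.SpecialLinearGroup (Fin (n + 1)) K)) ⊔
      Subgroup.center (Matrix.SpecialLinearGroup (Fin (n + 1)) K) = ⊤ := by
  classical
  set H := Subgroup.closure ({h, x * w} : Set (Matrix.SpecialLinearGroup (Fin (n + 1)) K))
  have hhH : h ∈ H := Subgroup.subset_closure (by simp)
  have hyH : x * w ∈ H := Subgroup.subset_closure (by simp)
  have hk0 : (k : K) ≠ 0 := k.ne_zero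
  have hord : orderOf k = Fintype.card K - 1 := by
    rw [orderOf_eq_card_of_forall_mem_zpowers hk, Nat.card_eq_fintype_card, Fintype.card_units]
  have hk2 : (k : K) ^ 2 ≠ 1 := by
    intro e
    have h' : orderOf k ∣ 2 := orderOf_dvd_of_pow_eq_one (Units.ext (by simpa using e))
    have := Nat.le_of_dvd two_pos h'
    omega
  have hk1 : (k : K) ≠ 1 := fun e => hk2 (by rw [e, one_pow])
  set o : Fin (n + 1) := ⟨1, by omega⟩ with ho
  have ho' : (1 : Fin (n + 1)) = o :=
    Fin.ext (by rw [Fin.val_one', Nat.one_mod_eq_one.mpr (by omega), ho])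
  have h0o : (0 : Fin (n + 1)) ≠ o := by simp [ho, Fin.ext_iff]
  have hx' : x = CfsgLib.PSLn.xx 0 o h0o 1 := by
    apply Subtype.ext
    rw [CfsgLib.PSLn.coe_xx, hx, Matrix.transvection, ho']
  set d : Fin (n + 1) → K :=
    fun i => if i.val = n then (k : K) else if i.val = 0 then ((k⁻¹ : Kˣ) : K) else 1 with hd
  set e0 : Fin (n + 1) → K :=
    fun i => if i.val = 0 then (k : K) else if i.val = 1 then ((k⁻¹ : Kˣ) : K) else 1 with he0
  have hprod : Matrix.det (Matrix.diagonal d) = 1 := by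
    rw [Matrix.det_diagonal, ← Finset.prod_subset (s₁ := {0, (⟨n, by omega⟩ : Fin (n + 1))})
      (Finset.subset_univ _)]
    · rw [Finset.prod_pair (by simp [Fin.ext_iff]; omega)]
      simp [hd, show ¬ 0 = n by omega]
    · intro i _ hi
      simp only [Finset.mem_insert, Finset.mem_singleton, not_or, Fin.ext_iff, Fin.val_zero] at hi
      simp only [hd]
      rw [if_neg hi.2, if_neg hi.1]
  set D : Matrix.SpecialLinearGroup (Fin (n + 1)) K := ⟨Matrix.diagonal d, hprod⟩
  have hwD : w * h = D * w := by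
    apply Subtype.ext
    rw [Matrix.SpecialLinearGroup.coe_mul, Matrix.SpecialLinearGroup.coe_mul, hw, hh]
    ext i j
    rw [Matrix.mul_diagonal, show (D : Matrix (Fin (n + 1)) (Fin (n + 1)) K) = Matrix.diagonal d from rfl,
      Matrix.diagonal_mul]
    have := j.isLt
    have := i.isLt
    simp only [Matrix.of_apply, hd, he0, Units.val_inv_eq_inv_val]
    split_ifs <;> (try (first | (exfalso; omega) | simp)) <;> ring
  set c : K := if n = 1 then (k : K) ^ 2 - 1 else (k : K) - 1 with hc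
  have hc0 : c ≠ 0 := by
    rw [hc]; split_ifs
    · exact sub_ne_zero.mpr hk2
    · exact sub_ne_zero.mpr hk1
  have hD' : x * D = D * CfsgLib.PSLn.xx 0 o h0o c * x := by
    subst hx'
    rw [mul_assoc, ← CfsgLib.PSLn.xx_add]
    apply Subtype.ext
    rw [Matrix.SpecialLinearGroup.coe_mul, Matrix.SpecialLinearGroup.coe_mul, CfsgLib.PSLn.coe_xx,
      CfsgLib.PSLn.coe_xx, show (D : Matrix (Fin (n + 1)) (Fin (n + 1)) K) = Matrix.diagonal d from rfl]
    ext i j
    rw [Matrix.mul_diagonal, Matrix.diagonal_mul]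
    simp only [Matrix.add_apply, Matrix.single_apply, Matrix.one_apply, hd, hc, Fin.ext_iff,
      Fin.val_zero, ho, Units.val_inv_eq_inv_val]
    have := j.isLt
    have := i.isLt
    split_ifs <;> (try (first | (exfalso; omega) | simp)) <;> (try field_simp) <;> ring
  have hconj : ∀ a : K, h * CfsgLib.PSLn.xx 0 o h0o a = CfsgLib.PSLn.xx 0 o h0o ((k : K) ^ 2 * a) * h := by
    intro a
    apply Subtype.ext
    rw [Matrix.SpecialLinearGroup.coe_mul, Matrix.SpecialLinearGroup.coe_mul, CfsgLib.PSLn.coe_xx,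
      CfsgLib.PSLn.coe_xx, hh]
    ext i j
    rw [Matrix.mul_diagonal, Matrix.diagonal_mul]
    simp only [he0, Matrix.add_apply, Matrix.single_apply, Matrix.one_apply, Fin.ext_iff,
      Fin.val_zero, ho, Units.val_inv_eq_inv_val]
    have := j.isLt
    have := i.isLt
    split_ifs <;> (try (first | (exfalso; omega) | simp)) <;> (try field_simp) <;> ring
  have hDh : D * h = h * D := by
    apply Subtype.ext
    rw [Matrix.SpecialLinearGroup.coe_mul, Matrix.SpecialLinearGroup.coe_mul, hh,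
      show (D : Matrix (Fin (n + 1)) (Fin (n + 1)) K) = Matrix.diagonal d from rfl,
      Matrix.diagonal_mul_diagonal, Matrix.diagonal_mul_diagonal]
    congr 1; funext i; ring
  have hDc : D * CfsgLib.PSLn.xx 0 o h0o c ∈ H := by
    have := mul_mem (mul_mem hyH hhH) (inv_mem hyH)
    have e2 : x * w * h * (x * w)⁻¹ = D * CfsgLib.PSLn.xx 0 o h0o c := by
      rw [mul_assoc x w h, hwD, ← mul_assoc x D w, hD', mul_assoc (D * _) x w, mul_inv_cancel_right]
    rwa [e2] at this
  have h0 : CfsgLib.PSLn.xx 0 o h0o (((k : K) ^ 2 - 1) * c) ∈ H := by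
    have := mul_mem (inv_mem hDc) (mul_mem (mul_mem hhH hDc) (inv_mem hhH))
    have e2 : (D * CfsgLib.PSLn.xx 0 o h0o c)⁻¹ * (h * (D * CfsgLib.PSLn.xx 0 o h0o c) * h⁻¹) =
        CfsgLib.PSLn.xx 0 o h0o (((k : K) ^ 2 - 1) * c) := by
      have e3 : h * (D * CfsgLib.PSLn.xx 0 o h0o c) * h⁻¹ =
          D * CfsgLib.PSLn.xx 0 o h0o ((k : K) ^ 2 * c) := by
        rw [← mul_assoc, ← hDh, mul_assoc D h, hconj, mul_assoc D (_ * h), mul_inv_cancel_right]
      rw [e3, mul_inv_rev, mul_assoc, inv_mul_cancel_left, CfsgLib.PSLn.xx_inv, ← CfsgLib.PSLn.xx_add]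
      congr 1; ring
    rwa [e2] at this
  have hall : ∀ a : K, CfsgLib.PSLn.xx 0 o h0o a ∈ H := by
    intro a
    refine CfsgLib.SLGen3.all_of_scalar (P := fun a => CfsgLib.PSLn.xx 0 o h0o a ∈ H) (γ := (k : K) ^ 2)
      ?_ ?_ ?_ ?_ (mul_ne_zero (sub_ne_zero.mpr hk2) hc0) h0 a
    · intro a b ha hb; rw [CfsgLib.PSLn.xx_add]; exact mul_mem ha hb
    · intro a ha; rw [← CfsgLib.PSLn.xx_inv]; exact inv_mem ha
    · exact CfsgLib.SLGen3.closure_sq k hk hK
    · intro a ha
      have := mul_mem (mul_mem hhH ha) (inv_mem hhH)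
      rwa [hconj, mul_inv_cancel_right] at this
  have hwH : w ∈ H := by
    have := mul_mem (inv_mem (hall 1)) hyH
    rwa [← hx', inv_mul_cancel_left] at this
  refine eq_top_iff.mpr (le_sup_of_le_left (le_of_eq ?_))
  symm
  refine CfsgLib.SLCyc.top_of_root_cyc hn hw hwH ?_
  intro i j hij hi hj a
  obtain rfl : i = 0 := Fin.ext hi
  obtain rfl : j = o := Fin.ext hj
  exact hall a

end Cfsg.Agent.S2402
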