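import Cfsg.Statements.S2403
import Cfsg.Agent.Lib.SLGen.Cyclic

set_option autoImplicit false
open Cfsg

namespace Cfsg.Agent.S2403

/-- Explicit two-element generation of `PSL_{n+1}(K)` over the fields with two or three elements: with `x = 1 + E₁₂` and `w` the monomial matrix with entries `1` in positions `(i, i+1)` and `(−1)^n` in position `(n+1, 1)`, the elements `x` and `w` generate `SL_{n+1}(K)` modulo its centre. -/
theorem result {K : Type*} [Field K] [Fintype K] (hK : Fintype.card K ≤ 3) (n : ℕ) (hn : 1 ≤ n)
    (x w : Matrix.SpecialLinearGroup (Fin (n + 1)) K)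
    (hx : (x : Matrix (Fin (n + 1)) (Fin (n + 1)) K) = Matrix.transvection (0 : Fin (n + 1)) (1 : Fin (n + 1)) 1)
    (hw : (w : Matrix (Fin (n + 1)) (Fin (n + 1)) K) =
      Matrix.of (fun i j => if j.val = i.val + 1 then 1 else if i.val = n ∧ j.val = 0 then (-1) ^ n else 0)) :
    Subgroup.closure ({x, w} : Set (Matrix.SpecialLinearGroup (Fin (n + 1)) K)) ⊔
      Subgroup.center (Matrix.SpecialLinearGroup (Fin (n + 1)) K) = ⊤ := by
  classical
  have hx' : ∀ (i j : Fin (n + 1)) (hij : i ≠ j), i.val = 0 → j.val = 1 →
      CfsgLib.PSLn.xx i j hij 1 = x := by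
    intro i j hij hi hj
    obtain rfl : i = 0 := Fin.ext hi
    obtain rfl : j = 1 := Fin.ext (by rw [hj, Fin.val_one', Nat.one_mod_eq_one.mpr (by omega)])
    apply Subtype.ext
    rw [CfsgLib.PSLn.coe_xx, hx, Matrix.transvection]
  have hK' : ∀ a : K, a = 0 ∨ a = 1 ∨ a = -1 := by
    intro a
    by_contra h
    simp only [not_or] at h
    by_cases h11 : (1 : K) = -1
    · have : ({0, 1, a, a + 1} : Finset K).card = 4 := by
        have h2 : (2 : K) = 0 := by linear_combination h11
        rw [Finset.card_insert_of_notMem, Finset.card_insert_of_notMem, Finset.card_insert_of_notMem,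
          Finset.card_singleton]
        · simp
        · simp only [Finset.mem_insert, Finset.mem_singleton, not_or]
          exact ⟨fun e => h.2.1 e.symm, fun e => h.1 (by linear_combination -e)⟩
        · simp only [Finset.mem_insert, Finset.mem_singleton, not_or]
          exact ⟨zero_ne_one, fun e => h.1 e.symm,
            fun e => h.2.2 (by linear_combination -e)⟩
      have := this ▸ Finset.card_le_univ ({0, 1, a, a + 1} : Finset K)
      omega
    · have : ({0, 1, -1, a} : Finset K).card = 4 := by
        rw [Finset.card_insert_of_notMem, Finset.card_insert_of_notMem, Finset.card_insert_of_notMem,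
          Finset.card_singleton]
        · simp only [Finset.mem_singleton]; exact fun e => h.2.2 e.symm
        · simp only [Finset.mem_insert, Finset.mem_singleton, not_or]
          exact ⟨h11, fun e => h.2.1 e.symm⟩
        · simp only [Finset.mem_insert, Finset.mem_singleton, not_or]
          exact ⟨zero_ne_one, fun e => one_ne_zero (neg_eq_zero.mp e.symm), fun e => h.1 e.symm⟩
      have := this ▸ Finset.card_le_univ ({0, 1, -1, a} : Finset K)
      omega
  refine eq_top_iff.mpr (le_sup_of_le_left (le_of_eq ?_))
  symm
  have hxm : x ∈ Subgroup.closure ({x, w} : Set (Matrix.SpecialLinearGroup (Fin (n + 1)) K)) :=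
    Subgroup.subset_closure (by simp)
  refine CfsgLib.SLCyc.top_of_root_cyc hn hw (Subgroup.subset_closure (by simp)) ?_
  intro i j hij hi hj a
  rcases hK' a with rfl | rfl | rfl
  · rw [CfsgLib.PSLn.xx_zero]; exact one_mem _
  · rw [hx' i j hij hi hj]; exact hxm
  · rw [← CfsgLib.PSLn.xx_inv, hx' i j hij hi hj]; exact inv_mem hxm

end Cfsg.Agent.S2403
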