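import Cfsg.Statements.S2405
import Cfsg.Agent.Lib.Chev.TwoGen
import Cfsg.Agent.Lib.Chev.Inst
-- import your own Cfsg.Agent.* helpers here

set_option autoImplicit false
open Cfsg
set_option maxRecDepth 100000

namespace Cfsg.Agent.S2405

set_option maxHeartbeats 3200000 in
/-- Each Chevalley group of type G₂, B₂, D₄, F₄, E₆, E₇ or E₈ over a finite field is generated by two of its elements (types B₂ and G₂ over the field with two elements, where the group is not simple, excepted). -/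
theorem result {F : Type*} [Field F] [Finite F] (D : Cfsg.Lie.ChevalleyDatum) (hD : D ∈ [Cfsg.Lie.chevG2, Cfsg.Lie.chevB2, Cfsg.Lie.chevD4, Cfsg.Lie.chevF4, Cfsg.Lie.chevE6, Cfsg.Lie.chevE7, Cfsg.Lie.chevE8])
    (hF : D ∈ [Cfsg.Lie.chevB2, Cfsg.Lie.chevG2] → ∃ x : F, x ≠ 0 ∧ x ≠ 1) :
    ∃ a b : ↥(D.group F), Subgroup.closure ({a, b} : Set ↥(D.group F)) = ⊤ := by
  classical
  simp only [List.mem_cons, List.not_mem_nil, or_false] at hD
  by_cases h3 : ∃ x : F, x ≠ 0 ∧ x ≠ 1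
  · rcases hD with rfl | rfl | rfl | rfl | rfl | rfl | rfl
    · exact CfsgLib.Chev.chevG2.two_gen_big (w := [0, 1]) (m := [0, -1]) (r := 9) (r' := 10) (k := 1) (steps := [.rot 10, .rot 11, .rot 6, .rot 1, .rot 0, .rot 8, .rot 4, .rot 2, .rot 3]) (by decide +kernel) h3
    · exact CfsgLib.Chev.chevB2.two_gen_big (w := [0, 1]) (m := [0, -1]) (r := 7) (r' := 6) (k := 1) (steps := [.rot 6, .rot 2, .rot 1, .rot 4, .rot 0]) (by decide +kernel) h3
    · exact CfsgLib.Chev.chevD4.two_gen_big (w := [0, 1, 2, 3]) (m := [1, 1, 0, 0]) (r := 22) (r' := 12) (k := 1) (steps := [.rot 12, .rot 3, .rot 7, .rot 11, .rot 20, .rot 5, .rot 9, .rot 1, .rot 18, .rot 14, .comm 22 14 0, .rot 23, .rot 17, .rot 4, .rot 0, .rot 6, .comm 22 11 0, .rot 21, .rot 15, .rot 13, .rot 2, .rot 8]) (by decide +kernel) h3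
    · exact CfsgLib.Chev.chevF4.two_gen_big (w := [0, 1, 2, 3]) (m := [1, 0, 1, 0]) (r := 47) (r' := 44) (k := 1) (steps := [.rot 44, .rot 40, .rot 39, .rot 29, .rot 13, .rot 10, .rot 3, .rot 7, .rot 8, .rot 18, .rot 34, .rot 32, .rot 26, .rot 6, .rot 2, .rot 1, .rot 0, .rot 15, .rot 21, .rot 41, .rot 45, .rot 46, .comm 47 15 0, .rot 42, .rot 30, .rot 43, .rot 31, .rot 25, .rot 24, .rot 5, .rot 17, .rot 4, .rot 16, .rot 22, .comm 23 10 0, .rot 9, .rot 19, .rot 11, .rot 33, .rot 27, .rot 35, .rot 38, .rot 28, .rot 36, .rot 14]) (by decide +kernel) h3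
    · exact CfsgLib.Chev.chevE6.two_gen_big (w := [0, 1, 2, 3, 4, 5]) (m := [0, 0, 0, 1, 0, 0]) (r := 71) (r' := 38) (k := 1) (steps := [.rot 38, .rot 9, .rot 3, .rot 18, .rot 5, .rot 26, .rot 57, .rot 50, .rot 64, .rot 69, .rot 54, .rot 70, .rot 55, .rot 41, .rot 10, .rot 4, .rot 0, .rot 1, .rot 16, .rot 30, .rot 61, .rot 67, .comm 71 1 0, .rot 46, .rot 58, .rot 51, .rot 65, .rot 44, .rot 49, .rot 25, .rot 13, .rot 20, .rot 6, .rot 27, .comm 22 54 0, .rot 43, .rot 48, .rot 60, .rot 15, .rot 29, .rot 24, .rot 12, .rot 19, .rot 32, .rot 34, .rot 35, .comm 63 35 0, .rot 62, .rot 68, .rot 53, .rot 66, .rot 45, .rot 14, .rot 21, .rot 7, .rot 2, .rot 17, .rot 31, .comm 33 13 0, .rot 11, .rot 56, .rot 42, .rot 47, .rot 59, .rot 52, .rot 39, .rot 37]) (by decide +kernel) h3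
    · exact CfsgLib.Chev.chevE7.two_gen_big (w := [0, 1, 2, 3, 4, 5, 6]) (m := [0, 0, 1, 1, 0, 0, 0]) (r := 125) (r' := 68) (k := 1) (steps := [.rot 68, .rot 25, .rot 15, .rot 5, .rot 10, .rot 3, .rot 8, .rot 34, .rot 54, .rot 57, .rot 100, .rot 110, .rot 120, .rot 115, .rot 122, .rot 117, .rot 91, .rot 124, .rot 123, .rot 118, .rot 92, .rot 72, .rot 26, .rot 16, .rot 6, .rot 0, .rot 1, .rot 2, .rot 7, .rot 33, .rot 53, .rot 99, .rot 109, .rot 119, .comm 125 2 0, .rot 94, .rot 83, .rot 103, .rot 112, .rot 121, .rot 116, .rot 90, .rot 108, .rot 77, .rot 31, .rot 42, .rot 22, .rot 13, .rot 4, .rot 9, .rot 35, .rot 17, .comm 48 26 0, .rot 14, .rot 38, .rot 19, .rot 11, .rot 36, .rot 55, .rot 58, .rot 60, .rot 101, .rot 111, .rot 87, .rot 106, .rot 114, .rot 89, .rot 70, .rot 67, .rot 65, .comm 24 112 0, .rot 75, .rot 81, .rot 98, .rot 32, .rot 52, .rot 46, .rot 29, .rot 40, .rot 20, .rot 50, .rot 44, .rot 27, .rot 93, .rot 73, .rot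 79, .rot 96, .rot 85, .comm 105 8 0, .rot 49, .rot 43, .rot 78, .rot 95, .rot 84, .rot 104, .rot 113, .rot 88, .rot 107, .rot 76, .rot 82, .rot 47, .rot 30, .rot 41, .rot 21, .rot 12, .rot 37, .comm 18 105 0, .rot 59, .rot 61, .rot 62, .rot 102, .rot 74, .rot 80, .rot 97, .rot 86, .rot 69, .rot 66, .rot 64, .rot 63, .rot 23, .rot 51, .rot 45, .rot 28, .rot 39]) (by decide +kernel) h3
    · exact CfsgLib.Chev.chevE8.two_gen_big (w := [0, 1, 2, 3, 4, 5, 6, 7]) (m := [0, 0, 0, 0, 1, 1, 1, 0]) (r := 239) (r' := 121) (k := 2) (steps := [.rot 121, .rot 120, .rot 66, .rot 103, .rot 96, .rot 73, .rot 89, .rot 62, .rot 102, .rot 95, .rot 72, .rot 88, .rot 109, .rot 113, .rot 116, .rot 118, .rot 119, .rot 173, .rot 136, .rot 143, .rot 166, .rot 150, .rot 177, .rot 137, .rot 144, .rot 167, .rot 151, .rot 130, .rot 126, .rot 218, .rot 203, .rot 161, .rot 134, .rot 70, .rot 55, .rot 35, .rot 13, .rot 5, .rot 4, .rot 3, .rot 2, .rot 1, .rot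 0, .rot 15, .rot 21, .rot 36, .rot 78, .rot 105, .rot 169, .rot 184, .rot 204, .rot 226, .rot 234, .rot 235, .rot 236, .rot 237, .rot 238, .rot 239, .comm 224 105 0, .rot 219, .rot 233, .rot 232, .rot 225, .rot 231, .rot 223, .rot 217, .rot 202, .rot 160, .rot 133, .rot 129, .rot 69, .rot 54, .rot 34, .rot 12, .rot 20, .rot 6, .rot 7, .rot 14, .rot 8, .rot 16, .rot 22, .rot 37, .rot 79, .rot 106, .rot 110, .rot 170, .rot 185, .rot 205, .comm 227 7 0, .rot 100, .rot 93, .rot 141, .rot 164, .rot 148, .rot 175, .rot 189, .rot 208, .rot 195, .rot 211, .rot 197, .rot 212, .rot 198, .rot 157, .rot 182, .rot 139, .rot 146, .rot 98, .rot 75, .rot 91, .rot 64, .rot 50, .rot 31, .rot 44, .rot 28, .rot 42, .rot 27, .rot 41, .rot 82, .comm 57 50 0, .rot 9, .rot 17, .rot 23, .rot 38, .rot 80, .rot 56, .rot 99, .rot 163, .rot 147, .rot 174, .rot 188, .rot 207, .rot 228, .rot 220, .rot 214, .rot 230, .rot 222, .rot 216, .rot 201, .rot 159,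 .rot 183, .rot 140, .rot 76, .rot 92, .rot 65, .rot 51, .rot 32, .rot 11, .rot 19, .comm 25 216 0, .rot 122, .rot 67, .rot 52, .rot 87, .rot 61, .rot 48, .rot 30, .rot 43, .rot 83, .rot 58, .rot 46, .rot 84, .rot 108, .rot 112, .rot 115, .rot 117, .rot 172, .rot 187, .rot 152, .rot 178, .rot 191, .rot 209, .rot 196, .rot 156, .rot 181, .rot 193, .rot 155, .rot 131, .rot 127, .comm 124 196 0, .rot 199, .rot 158, .rot 132, .rot 128, .rot 125, .rot 68, .rot 53, .rot 33, .rot 45, .rot 29, .rot 10, .rot 18, .rot 24, .rot 39, .rot 26, .rot 40, .rot 81, .rot 107, .rot 111, .rot 114, .rot 171, .rot 186, .rot 206, .rot 194, .rot 210, .rot 229, .rot 221, .rot 215, .rot 200, .comm 213 56 0, .rot 149, .rot 176, .rot 190, .rot 153, .rot 179, .rot 192, .rot 154, .rot 180, .rot 138, .rot 145, .rot 168, .rot 77, .rot 104, .rot 97, .rot 74, .rot 90, .rot 63, .rot 49, .rot 86, .rot 60, .rot 47, .rot 85, .rot 59, .rot 101, .rot 94, .rot 71, .rot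 162]) (by decide +kernel) h3
  · have h2 : ∀ x : F, x = 0 ∨ x = 1 := fun x => by
      by_contra hx
      push Not at hx
      exact h3 ⟨x, hx.1, hx.2⟩
    haveI : CharP F 2 := by
      have e : (1 + 1 : F) = 0 := (h2 (1 + 1)).resolve_right fun e => one_ne_zero (add_right_cancel (e.trans (zero_add 1).symm))
      exact ringChar.eq_iff.1 (CharP.ringChar_of_prime_eq_zero Nat.prime_two (by rw [Nat.cast_two, ← one_add_one_eq_two, e]))
    rcases hD with rfl | rfl | rfl | rfl | rfl | rfl | rfl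
    · exact absurd (hF (List.mem_cons_of_mem _ List.mem_cons_self)) h3
    · exact absurd (hF List.mem_cons_self) h3
    · exact CfsgLib.Chev.chevD4.two_gen_six (w := [0, 1, 2, 3]) (r := 1) (s := 7) (steps := [.base (.rot 1), .base (.rot 18), .base (.rot 14), .base (.rot 22), .base (.rot 5), .down 9, .base (.rot 13), .base (.rot 2), .base (.rot 8), .base (.rot 10), .base (.rot 21), .base (.comm 15 21 0), .base (.rot 23), .base (.rot 17), .base (.rot 4), .base (.rot 0), .base (.rot 6), .down 6, .base (.rot 11), .base (.rot 20), .base (.rot 16)]) (by decide +kernel) h2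
    · exact CfsgLib.Chev.chevF4.two_gen_pair (w := [0, 1, 2, 3]) (r := 47) (r' := 38) (k := 5) (steps := [.rot 24, .rot 5, .rot 17, .rot 4, .rot 16, .rot 22, .rot 23, .rot 42, .rot 30, .rot 43, .rot 31, .comm 25 31 0, .rot 32, .rot 26, .rot 6, .rot 2, .rot 1, .rot 0, .rot 15, .rot 21, .rot 41, .rot 45, .rot 46]) (steps' := [.rot 38, .rot 28, .rot 36, .rot 14, .rot 20, .rot 12, .rot 9, .rot 19, .rot 11, .rot 33]) (by decide +kernel) h2
    · exact CfsgLib.Chev.chevE6.two_gen_one (w := [0, 1, 2, 3, 4, 5]) (r := 36) (steps := [.rot 36, .rot 8, .rot 28, .rot 23, .rot 11, .rot 56, .rot 42, .rot 47, .rot 59, .rot 52, .rot 39, .comm 37 39 0, .rot 40, .rot 38, .rot 9, .rot 3, .rot 18, .rot 5, .rot 26, .rot 57, .rot 50, .rot 64, .rot 69, .comm 54 57 0, .rot 68, .rot 53, .rot 66, .rot 45, .rot 14, .rot 21, .rot 7, .rot 2, .rot 17, .rot 31, .rot 33, .comm 62 7 0, .rot 32, .rot 34, .rot 35, .rot 63, .rot 43, .rot 48, .rot 60, .rot 15, .rot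 29, .rot 24, .rot 12, .comm 19 31 0, .rot 16, .rot 30, .rot 61, .rot 67, .rot 71, .rot 70, .rot 55, .rot 41, .rot 10, .rot 4, .rot 0, .comm 1 55 0, .rot 13, .rot 20, .rot 6, .rot 27, .rot 22, .rot 46, .rot 58, .rot 51, .rot 65, .rot 44, .rot 49]) (by decide +kernel) h2
    · exact CfsgLib.Chev.chevE7.two_gen_one (w := [0, 1, 2, 3, 4, 5, 6]) (r := 63) (steps := [.rot 63, .rot 23, .rot 51, .rot 45, .rot 28, .rot 39, .rot 56, .rot 59, .rot 61, .rot 62, .rot 102, .rot 74, .rot 80, .rot 97, .rot 86, .rot 69, .rot 66, .comm 64 66 0, .rot 67, .rot 65, .rot 24, .rot 14, .rot 38, .rot 19, .rot 11, .rot 36, .rot 55, .rot 58, .rot 60, .rot 101, .rot 111, .rot 87, .rot 106, .rot 114, .rot 89, .comm 70 114 0, .rot 118, .rot 92, .rot 72, .rot 26, .rot 16, .rot 6, .rot 0, .rot 1, .rot 2, .rot 7, .rot 33, .rot 53, .rot 99, .rot 109, .rot 119, .rot 125, .rot 124, .comm 123 33 0, .rot 103, .rot 112, .rot 121, .rot 116, .rot 90, .rot 108, .rot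 77, .rot 31, .rot 42, .rot 22, .rot 13, .rot 4, .rot 9, .rot 35, .rot 17, .rot 48, .rot 94, .comm 83 16 0, .rot 29, .rot 40, .rot 20, .rot 50, .rot 44, .rot 27, .rot 93, .rot 73, .rot 79, .rot 96, .rot 85, .rot 105, .rot 75, .rot 81, .rot 98, .rot 32, .rot 52, .comm 46 69 0, .rot 47, .rot 30, .rot 41, .rot 21, .rot 12, .rot 37, .rot 18, .rot 49, .rot 43]) (by decide +kernel) h2
    · exact CfsgLib.Chev.chevE8.two_gen_one (w := [0, 1, 2, 3, 4, 5, 6, 7]) (r := 120) (steps := [.rot 120, .rot 66, .rot 103, .rot 96, .rot 73, .rot 89, .rot 62, .rot 102, .rot 95, .rot 72, .rot 88, .rot 109, .rot 113, .rot 116, .rot 118, .rot 119, .rot 173, .rot 136, .rot 143, .rot 166, .rot 150, .rot 177, .rot 137, .rot 144, .rot 167, .rot 151, .rot 130, .rot 126, .rot 123, .comm 121 123 0, .rot 124, .rot 122, .rot 67, .rot 52, .rot 87, .rot 61, .rot 48, .rot 30, .rot 43, .rot 83, .rot 58, .rot 46, .rot 84, .rot 108, .rot 112, .rot 115, .rot 117, .rot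 172, .rot 187, .rot 152, .rot 178, .rot 191, .rot 209, .rot 196, .rot 156, .rot 181, .rot 193, .rot 155, .rot 131, .comm 127 155 0, .rot 160, .rot 133, .rot 129, .rot 69, .rot 54, .rot 34, .rot 12, .rot 20, .rot 6, .rot 7, .rot 14, .rot 8, .rot 16, .rot 22, .rot 37, .rot 79, .rot 106, .rot 110, .rot 170, .rot 185, .rot 205, .rot 227, .rot 219, .rot 233, .rot 232, .rot 225, .rot 231, .rot 223, .rot 217, .comm 202 110 0, .rot 195, .rot 211, .rot 197, .rot 212, .rot 198, .rot 157, .rot 182, .rot 139, .rot 146, .rot 98, .rot 75, .rot 91, .rot 64, .rot 50, .rot 31, .rot 44, .rot 28, .rot 42, .rot 27, .rot 41, .rot 82, .rot 57, .rot 100, .rot 93, .rot 141, .rot 164, .rot 148, .rot 175, .rot 189, .comm 208 189 0, .rot 234, .rot 235, .rot 236, .rot 237, .rot 238, .rot 239, .rot 224, .rot 218, .rot 203, .rot 161, .rot 134, .rot 70, .rot 55, .rot 35, .rot 13, .rot 5, .rot 4, .rot 3, .rot 2, .rot 1, .rot 0, .rot 15, .rot 21, .rot 36, .rot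 78, .rot 105, .rot 169, .rot 184, .rot 204, .comm 226 3 0, .rot 81, .rot 107, .rot 111, .rot 114, .rot 171, .rot 186, .rot 206, .rot 194, .rot 210, .rot 229, .rot 221, .rot 215, .rot 200, .rot 213, .rot 199, .rot 158, .rot 132, .rot 128, .rot 125, .rot 68, .rot 53, .rot 33, .rot 45, .rot 29, .rot 10, .rot 18, .rot 24, .rot 39, .rot 26, .comm 40 232 0, .rot 188, .rot 207, .rot 228, .rot 220, .rot 214, .rot 230, .rot 222, .rot 216, .rot 201, .rot 159, .rot 183, .rot 140, .rot 76, .rot 92, .rot 65, .rot 51, .rot 32, .rot 11, .rot 19, .rot 25, .rot 9, .rot 17, .rot 23, .rot 38, .rot 80, .rot 56, .rot 99, .rot 163, .rot 147, .comm 174 45 0, .rot 101, .rot 94, .rot 71, .rot 162, .rot 135, .rot 142, .rot 165, .rot 149, .rot 176, .rot 190, .rot 153, .rot 179, .rot 192, .rot 154, .rot 180, .rot 138, .rot 145, .rot 168, .rot 77]) (by decide +kernel) h2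

end Cfsg.Agent.S2405
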