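import Cfsg.Statements.S2410
import Cfsg.Agent.Lib.Suzuki.Fixed

set_option autoImplicit false
open Cfsg
open CfsgLib.Suzuki

namespace Cfsg.Agent.S2410

theorem add_self_eq {F : Type*} [Field F] [Fintype F] {m : ℕ}
    (hF : Fintype.card F = 2 ^ (2 * m + 1)) (x : F) : x + x = 0 := by
  linear_combination x * CfsgLib.Suzuki.two_eq_zero hF

/-- The Suzuki group over the field with `2^(2m+1)` elements, `m ≥ 1` (realised as the stabiliser in `SL₄` of the Suzuki–Tits ovoid), is generated by two of its elements. -/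
theorem result {F : Type*} [Field F] [Fintype F] {m : ℕ} (hm : 1 ≤ m) (hF : Fintype.card F = 2 ^ (2 * m + 1)) :
    ∃ a b : ↥(Cfsg.Sz F m), Subgroup.closure ({a, b} : Set ↥(Cfsg.Sz F m)) = ⊤ := by
  obtain ⟨g, hg⟩ := IsCyclic.exists_generator (α := Fˣ)
  refine ⟨dS hF g, wS hF * uS hF 1 0, ?_⟩
  set K := Subgroup.closure ({dS hF g, wS hF * uS hF 1 0} : Set ↥(Cfsg.Sz F m))
  have ha : dS hF g ∈ K := Subgroup.subset_closure (Set.mem_insert _ _)
  have hb : wS hF * uS hF 1 0 ∈ K := Subgroup.subset_closure (Set.mem_insert_of_mem _ rfl)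
  have hd : ∀ t, dS hF t ∈ K := by
    intro t
    obtain ⟨n, rfl⟩ := Subgroup.mem_zpowers_iff.mp (hg t)
    let f : Fˣ →* ↥(Cfsg.Sz F m) :=
      { toFun := dS hF, map_one' := dS_one hF, map_mul' := fun a b => (dS_mul hF a b).symm }
    show f (g ^ n) ∈ K
    rw [map_zpow]
    exact zpow_mem ha n
  -- conjugates of the lower root group inside `K`
  have h1 : ∀ t : Fˣ, ∃ b, wS hF * uS hF (1 + th m (t : F)) b * wS hF ∈ K := by
    intro t
    have hx := mul_mem (mul_mem (mul_mem hb (hd t)) (inv_mem hb)) (hd t)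
    have e1 : wS hF * uS hF 1 0 * dS hF t * (wS hF * uS hF 1 0)⁻¹ * dS hF t =
        wS hF * (uS hF 1 0 * (dS hF t * uS hF 1 (0 + th m 1 * 1) * (dS hF t)⁻¹)) * wS hF *
          (wS hF * dS hF t * wS hF * dS hF t) := by
      rw [_root_.mul_inv_rev, uS_inv, wS_inv]
      simp only [mul_assoc, inv_mul_cancel_left]
      rw [← mul_assoc (wS hF) (wS hF), wS_mul_self, one_mul, inv_mul_cancel_left]
    rw [e1, wS_dS, dS_mul, inv_mul_cancel, dS_one, mul_one, dS_uS, uS_mul, mul_one] at hx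
    exact ⟨_, hx⟩
  have hmul : ∀ x y : ↥(Cfsg.Sz F m), wS hF * x * wS hF * (wS hF * y * wS hF) =
      wS hF * (x * y) * wS hF := fun x y => by
    simp only [mul_assoc]
    rw [← mul_assoc (wS hF) (wS hF), wS_mul_self, one_mul]
  have h2 : ∀ a : F, a ≠ 0 → a ≠ 1 → ∃ b, wS hF * uS hF a b * wS hF ∈ K := by
    intro a h0 h1'
    obtain ⟨u, hu⟩ := (th_bijective hF).2 (a - 1)
    have hu0 : u ≠ 0 := by
      rintro rfl
      rw [th_zero] at hu
      exact h1' (sub_eq_zero.mp hu.symm)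
    obtain ⟨b, hb'⟩ := h1 (Units.mk0 u hu0)
    refine ⟨b, ?_⟩
    rw [Units.val_mk0, hu, add_sub_cancel] at hb'
    exact hb'
  have h3 : ∀ a : F, a ≠ 0 → ∃ b, wS hF * uS hF a b * wS hF ∈ K := by
    intro a h0
    by_cases h1' : a = 1
    · obtain ⟨c, c0, c1⟩ := exists_not_zero_one hF hm
      have hd0 : 1 + c ≠ 0 := by
        rw [← sub_eq hF, sub_ne_zero]; exact Ne.symm c1
      have hd1 : 1 + c ≠ 1 := fun h => c0 (by simpa using h)
      obtain ⟨b1, hb1⟩ := h2 c c0 c1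
      obtain ⟨b2, hb2⟩ := h2 (1 + c) hd0 hd1
      have := mul_mem hb1 hb2
      rw [hmul, uS_mul, show c + (1 + c) = a by rw [h1', add_comm 1 c, ← add_assoc, add_self_eq hF, zero_add]] at this
      exact ⟨_, this⟩
    · exact h2 a h0 h1'
  have h4 : ∀ b : F, wS hF * uS hF 0 b * wS hF ∈ K := by
    intro b
    by_cases hb0 : b = 0
    · rw [hb0, uS_zero, mul_one, wS_mul_self]; exact one_mem K
    obtain ⟨a, ha'⟩ := th_mul_surj hF hb0
    obtain ⟨c, hc⟩ := h3 (a : F) a.ne_zero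
    have := mul_mem hc hc
    rwa [hmul, uS_sq, ha'] at this
  have h5 : ∀ a b : F, wS hF * uS hF a b * wS hF ∈ K := by
    intro a b
    by_cases h0 : a = 0
    · rw [h0]; exact h4 b
    obtain ⟨c, hc⟩ := h3 a h0
    have := mul_mem hc (h4 (b - c))
    rwa [hmul, uS_mul, add_zero, mul_zero, add_zero, add_sub_cancel] at this
  have hw : wS hF ∈ K := by
    have h6 := mul_mem (inv_mem (h5 1 0)) (mul_mem hb (one_mem K))
    have e : (wS hF * uS hF 1 0 * wS hF)⁻¹ * (wS hF * uS hF 1 0 * 1) = wS hF := by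
      rw [mul_one, _root_.mul_inv_rev, wS_inv, mul_assoc, inv_mul_cancel, mul_one]
    rwa [e] at h6
  refine eq_top_of_mem hF hm K (fun a b => ?_) hd hw
  have := mul_mem (mul_mem hw (h5 a b)) hw
  simpa [mul_assoc, wS_mul_self, ← mul_assoc (wS hF) (wS hF)] using this

end Cfsg.Agent.S2410
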