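import Cfsg.Statements.S2416
import Cfsg.Agent.Lib.Chev.NGen

set_option autoImplicit false
open scoped MatrixGroups
open Cfsg

namespace Cfsg.Agent.S2416

/-- A Chevalley group of type G₂, B₂, D₄, F₄, E₆, E₇ or E₈ over a finite field lies in (indeed equals) the subgroup generated by its monomial subgroup `N` and a single fundamental root subgroup `X_p`, where `p` is a short fundamental root if there are two root lengths (any fundamental root otherwise), provided the characteristic is not 2 for types B₂, F₄ and not 3 for type G₂ (and the field has more than two elements for B₂, G₂). -/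
theorem result {K : Type*} [Field K] [Finite K] (D : Cfsg.Lie.ChevalleyDatum) (hD : D ∈ [Cfsg.Lie.chevG2, Cfsg.Lie.chevB2, Cfsg.Lie.chevD4, Cfsg.Lie.chevF4, Cfsg.Lie.chevE6, Cfsg.Lie.chevE7, Cfsg.Lie.chevE8])
    (hK : D ∈ [Cfsg.Lie.chevB2, Cfsg.Lie.chevG2] → ∃ x : K, x ≠ 0 ∧ x ≠ 1)
    (h2 : D ∈ [Cfsg.Lie.chevB2, Cfsg.Lie.chevF4] → ringChar K ≠ 2) (h3 : D = Cfsg.Lie.chevG2 → ringChar K ≠ 3)
    (i : ℕ) (hi : i < D.rank) (hshort : D.isLong (D.simple i) = false) :
    D.group K ≤ D.monomialSubgroup K ⊔ D.rootSubgroup K (D.simple i) := by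
  have key : ∀ (allow : ℤ → Bool) (fuel : ℕ), (∀ c, allow c = true → (c : K) ≠ 0) →
      (∀ k, k < D.rank → D.isLong (D.simple k) = false → CfsgLib.Chev.genCert D allow k fuel = true) →
      D.group K ≤ D.monomialSubgroup K ⊔ D.rootSubgroup K (D.simple i) := fun allow fuel ha hc =>
    CfsgLib.Chev.group_le_of_genCert (CfsgLib.Chev.exists_chev hD).some ha hi (hc i hi hshort)
  have hp : ∀ (n : ℕ), n.Prime → ringChar K ≠ n → (n : K) ≠ 0 := fun n hn hne h => hne
    ((Nat.prime_dvd_prime_iff_eq (CharP.char_is_prime K (ringChar K)) hn).mp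
      ((ringChar.spec K n).mp h))
  simp only [List.mem_cons, List.not_mem_nil, or_false] at hD hK h2
  rcases hD with rfl | rfl | rfl | rfl | rfl | rfl | rfl
  · refine key (fun c => decide (c = 1 ∨ c = -1 ∨ c = 3 ∨ c = -3)) 8 (fun c hc => ?_) (by decide +kernel)
    have := hp 3 Nat.prime_three (h3 rfl)
    simp only [decide_eq_true_eq] at hc
    rcases hc with rfl | rfl | rfl | rfl <;> simp <;> simpa using this
  · refine key (fun c => decide (c = 1 ∨ c = -1 ∨ c = 2 ∨ c = -2)) 6 (fun c hc => ?_) (by decide +kernel)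
    have := hp 2 Nat.prime_two (h2 (Or.inl rfl))
    simp only [decide_eq_true_eq] at hc
    rcases hc with rfl | rfl | rfl | rfl <;> simp <;> simpa using this
  · exact key (fun _ => false) 4 (by simp) (by decide +kernel)
  · refine key (fun c => decide (c = 1 ∨ c = -1 ∨ c = 2 ∨ c = -2)) 8 (fun c hc => ?_) (by decide +kernel)
    have := hp 2 Nat.prime_two (h2 (Or.inr rfl))
    simp only [decide_eq_true_eq] at hc
    rcases hc with rfl | rfl | rfl | rfl <;> simp <;> simpa using this
  · exact key (fun _ => false) 6 (by simp) (by decide +kernel)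
  · exact key (fun _ => false) 7 (by simp) (by decide +kernel)
  · exact key (fun _ => false) 8 (by simp) (by decide +kernel)

end Cfsg.Agent.S2416
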