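import Cfsg.Statements.S2418
import Cfsg.Agent.Lib.Chev.WeylCentreData
import Cfsg.Agent.Lib.Chev.CoxeterB2
import Cfsg.Agent.Lib.Chev.CoxeterG2
import Cfsg.Agent.Lib.Chev.CoxeterD4
import Cfsg.Agent.Lib.Chev.CoxeterF4
import Cfsg.Agent.Lib.Chev.CoxeterE6
import Cfsg.Agent.Lib.Chev.CoxeterE7
import Cfsg.Agent.Lib.Chev.CoxeterE8

set_option autoImplicit false
open Cfsg
set_option maxRecDepth 100000

namespace Cfsg.Agent.S2418

local instance : NeZero Cfsg.Lie.chevB2.rank := ⟨by decide⟩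
local instance : NeZero Cfsg.Lie.chevG2.rank := ⟨by decide⟩
local instance : NeZero Cfsg.Lie.chevD4.rank := ⟨by decide⟩
local instance : NeZero Cfsg.Lie.chevF4.rank := ⟨by decide⟩
local instance : NeZero Cfsg.Lie.chevE6.rank := ⟨by decide⟩
local instance : NeZero Cfsg.Lie.chevE7.rank := ⟨by decide⟩
local instance : NeZero Cfsg.Lie.chevE8.rank := ⟨by decide⟩

/-- For the Coxeter groups of types B₂, G₂, D₄, F₄, E₇, E₈ the centre has order 2 (the element acting as −1 on the root system) and is generated by a power of the Coxeter element `s₁ s₂ ⋯ s_l`; the Coxeter group of type E₆ has trivial centre. -/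
theorem result (c : (Σ n : ℕ, CoxeterMatrix (Fin n)) × ℕ)
    (hc : c ∈ [(⟨2, CoxeterMatrix.B 2⟩, 2), (⟨2, CoxeterMatrix.G₂⟩, 2), (⟨4, Cfsg.Lie.coxeterD4⟩, 2), (⟨4, CoxeterMatrix.F₄⟩, 2),
      (⟨6, CoxeterMatrix.E₆⟩, 1), (⟨7, CoxeterMatrix.E₇⟩, 2), (⟨8, CoxeterMatrix.E₈⟩, 2)]) :
    Nat.card (Subgroup.center c.1.2.Group) = c.2 ∧
      Subgroup.center c.1.2.Group ≤ Subgroup.zpowers ((List.finRange c.1.1).map c.1.2.simple).prod := by
  simp only [List.mem_cons, List.not_mem_nil, or_false] at hc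
  rcases hc with rfl | rfl | rfl | rfl | rfl | rfl | rfl
  · obtain ⟨e, he⟩ := CfsgLib.Chev.coxIsoB2
    exact CfsgLib.Chev.centre_two CfsgLib.Chev.chevB2 (CM := CfsgLib.Chev.coxB2) e he (by unfold CfsgLib.Chev.Chev.Connected; decide +kernel)
      (k := 2) (by decide +kernel) (by decide +kernel)
  · obtain ⟨e, he⟩ := CfsgLib.Chev.coxIsoG2
    exact CfsgLib.Chev.centre_two CfsgLib.Chev.chevG2 (CM := CfsgLib.Chev.coxG2) e he (by unfold CfsgLib.Chev.Chev.Connected; decide +kernel)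
      (k := 3) (by decide +kernel) (by decide +kernel)
  · obtain ⟨e, he⟩ := CfsgLib.Chev.coxIsoD4
    exact CfsgLib.Chev.centre_two CfsgLib.Chev.chevD4 (CM := CfsgLib.Chev.coxD4) e he (by unfold CfsgLib.Chev.Chev.Connected; decide +kernel)
      (k := 3) (by decide +kernel) (by decide +kernel)
  · obtain ⟨e, he⟩ := CfsgLib.Chev.coxIsoF4
    exact CfsgLib.Chev.centre_two CfsgLib.Chev.chevF4 (CM := CfsgLib.Chev.coxF4) e he (by unfold CfsgLib.Chev.Chev.Connected; decide +kernel)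
      (k := 6) (by decide +kernel) (by decide +kernel)
  · obtain ⟨e, he⟩ := CfsgLib.Chev.coxIsoE6
    exact CfsgLib.Chev.centre_one CfsgLib.Chev.chevE6 (CM := CfsgLib.Chev.coxE6) e he (by unfold CfsgLib.Chev.Chev.Connected; decide +kernel)
      ([0, 1, 2, 0, 3, 1, 2, 0, 3, 2, 4, 3, 1, 2, 0, 3, 2, 4, 3, 1, 5, 4, 3, 1, 2, 0, 3, 2, 4, 3, 1, 5, 4, 3, 2, 0] : List (Fin Cfsg.Lie.chevE6.rank)) (by decide +kernel) (by decide +kernel)
  · obtain ⟨e, he⟩ := CfsgLib.Chev.coxIsoE7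
    exact CfsgLib.Chev.centre_two CfsgLib.Chev.chevE7 (CM := CfsgLib.Chev.coxE7) e he (by unfold CfsgLib.Chev.Chev.Connected; decide +kernel)
      (k := 9) (by decide +kernel) (by decide +kernel)
  · obtain ⟨e, he⟩ := CfsgLib.Chev.coxIsoE8
    exact CfsgLib.Chev.centre_two CfsgLib.Chev.chevE8 (CM := CfsgLib.Chev.coxE8) e he (by unfold CfsgLib.Chev.Chev.Connected; decide +kernel)
      (k := 15) (by decide +kernel) (by decide +kernel)

end Cfsg.Agent.S2418
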