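import Cfsg.Statements.S2419
import Cfsg.Agent.Lib.Chev.WeylCentreData
import Cfsg.Agent.Lib.Chev.CoxeterB2
import Cfsg.Agent.Lib.Chev.CoxeterG2
import Cfsg.Agent.Lib.Chev.CoxeterD4
import Cfsg.Agent.Lib.Chev.CoxeterF4
import Cfsg.Agent.Lib.Chev.CoxeterE6
import Cfsg.Agent.Lib.Chev.CoxeterE7
import Cfsg.Agent.Lib.Chev.CoxeterE8

set_option autoImplicit false
open Cfsg
set_option maxRecDepth 100000

namespace Cfsg.Agent.S2419

local instance : NeZero Cfsg.Lie.chevB2.rank := ⟨by decide⟩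
local instance : NeZero Cfsg.Lie.chevG2.rank := ⟨by decide⟩
local instance : NeZero Cfsg.Lie.chevD4.rank := ⟨by decide⟩
local instance : NeZero Cfsg.Lie.chevF4.rank := ⟨by decide⟩
local instance : NeZero Cfsg.Lie.chevE6.rank := ⟨by decide⟩
local instance : NeZero Cfsg.Lie.chevE7.rank := ⟨by decide⟩
local instance : NeZero Cfsg.Lie.chevE8.rank := ⟨by decide⟩

/-- The Coxeter groups of types B₂, G₂, E₆, E₇, E₈ are generated by the Coxeter element `s₁ s₂ ⋯ s_l` together with one suitable reflection (a conjugate of a simple reflection); for types D₄ and F₄ the Coxeter element together with two suitable reflections suffices. -/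
theorem result (c : (Σ n : ℕ, CoxeterMatrix (Fin n)) × ℕ)
    (hc : c ∈ [(⟨2, CoxeterMatrix.B 2⟩, 1), (⟨2, CoxeterMatrix.G₂⟩, 1), (⟨4, Cfsg.Lie.coxeterD4⟩, 2), (⟨4, CoxeterMatrix.F₄⟩, 2),
      (⟨6, CoxeterMatrix.E₆⟩, 1), (⟨7, CoxeterMatrix.E₇⟩, 1), (⟨8, CoxeterMatrix.E₈⟩, 1)]) :
    ∃ T : Finset c.1.2.Group, T.card = c.2 ∧ (∀ t ∈ T, ∃ (g : c.1.2.Group) (i : Fin c.1.1), t = g * c.1.2.simple i * g⁻¹) ∧
      Subgroup.closure (({((List.finRange c.1.1).map c.1.2.simple).prod} : Set c.1.2.Group) ∪ ↑T) = ⊤ := by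
  classical
  have key : ∀ {D : Cfsg.Lie.ChevalleyDatum} (Φ : CfsgLib.Chev.Chev D) (CM : CoxeterMatrix (Fin D.rank))
      (e : CM.Group ≃* Φ.WL) (_ : ∀ i, (e (CM.simple i) : Equiv.Perm (Fin D.nroots)) = Φ.reflPerm i)
      (k : ℕ) (T : Finset (Fin D.rank)), T.card = k →
      (∀ j, Φ.reflPerm j ∈ Subgroup.closure ({Φ.coxPerm} ∪ Φ.reflPerm '' (T : Set (Fin D.rank)))) →
      ∃ S : Finset CM.Group, S.card = k ∧ (∀ t ∈ S, ∃ (g : CM.Group) (i : Fin D.rank), t = g * CM.simple i * g⁻¹) ∧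
        Subgroup.closure (({((List.finRange D.rank).map CM.simple).prod} : Set CM.Group) ∪ ↑S) = ⊤ := by
    intro D Φ CM e he k T hT h
    refine ⟨T.image CM.simple, ?_, ?_, ?_⟩
    · rw [Finset.card_image_of_injective _ fun a b hab => ?_, hT]
      have h' := congrArg (fun y => ((e y : Φ.WL) : Equiv.Perm (Fin D.nroots))) hab
      simp only [he] at h'
      have h'' := DFunLike.congr_fun h' (Φ.p a)
      change Φ.refl a (Φ.p a) = Φ.refl b (Φ.p a) at h''
      by_contra hne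
      have h3 := congrArg (fun s => Φ.V s a) h''
      simp only [Φ.refl_p, Φ.V_refl, Φ.V_neg, Φ.V_p, if_true, if_neg hne, sub_zero] at h3
      omega
    · intro t ht
      obtain ⟨i, -, rfl⟩ := Finset.mem_image.mp ht
      exact ⟨1, i, by simp⟩
    · rw [Finset.coe_image]
      exact CfsgLib.Chev.gen_of_words Φ e he T h
  simp only [List.mem_cons, List.not_mem_nil, or_false] at hc
  rcases hc with rfl | rfl | rfl | rfl | rfl | rfl | rfl
  · obtain ⟨e, he⟩ := CfsgLib.Chev.coxIsoB2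
    refine key CfsgLib.Chev.chevB2 CfsgLib.Chev.coxB2 e he 1 {0} rfl fun j => ?_
    set Φ := CfsgLib.Chev.chevB2
    set K := Subgroup.closure ({Φ.coxPerm} ∪ Φ.reflPerm '' (({0} : Finset (Fin Cfsg.Lie.chevB2.rank)) : Set (Fin Cfsg.Lie.chevB2.rank)))
    have h0 : Φ.reflPerm 0 ∈ K := Subgroup.subset_closure (Or.inr ⟨0, by simp, rfl⟩)
    have hP : Φ.coxPerm = Φ.reflPerm 0 * Φ.reflPerm 1 := by
      show (([0, 1] : List (Fin Cfsg.Lie.chevB2.rank)).map Φ.reflPerm).prod = _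
      simp
    have h1 : Φ.reflPerm 1 ∈ K := by
      have hc : Φ.coxPerm ∈ K := Subgroup.subset_closure (Or.inl rfl)
      have := mul_mem h0 hc
      rwa [hP, ← mul_assoc, Φ.reflPerm_mul_self', one_mul] at this
    have hj : j = 0 ∨ j = 1 := by revert j; decide +kernel
    rcases hj with rfl | rfl
    · exact h0
    · exact h1
  · obtain ⟨e, he⟩ := CfsgLib.Chev.coxIsoG2
    refine key CfsgLib.Chev.chevG2 CfsgLib.Chev.coxG2 e he 1 {0} rfl fun j => ?_
    set Φ := CfsgLib.Chev.chevG2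
    set K := Subgroup.closure ({Φ.coxPerm} ∪ Φ.reflPerm '' (({0} : Finset (Fin Cfsg.Lie.chevG2.rank)) : Set (Fin Cfsg.Lie.chevG2.rank)))
    have h0 : Φ.reflPerm 0 ∈ K := Subgroup.subset_closure (Or.inr ⟨0, by simp, rfl⟩)
    have hP : Φ.coxPerm = Φ.reflPerm 0 * Φ.reflPerm 1 := by
      show (([0, 1] : List (Fin Cfsg.Lie.chevG2.rank)).map Φ.reflPerm).prod = _
      simp
    have h1 : Φ.reflPerm 1 ∈ K := by
      have hc : Φ.coxPerm ∈ K := Subgroup.subset_closure (Or.inl rfl)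
      have := mul_mem h0 hc
      rwa [hP, ← mul_assoc, Φ.reflPerm_mul_self', one_mul] at this
    have hj : j = 0 ∨ j = 1 := by revert j; decide +kernel
    rcases hj with rfl | rfl
    · exact h0
    · exact h1
  · obtain ⟨e, he⟩ := CfsgLib.Chev.coxIsoD4
    refine key CfsgLib.Chev.chevD4 CfsgLib.Chev.coxD4 e he 2 {0, 2} rfl fun j => CfsgLib.Chev.Chev.reflPerm_mem_closure _ ?_
    let W : List (List (Option (Fin Cfsg.Lie.chevD4.rank)) × (Fin Cfsg.Lie.chevD4.rank)) :=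
      [([], 0), ([none], 0), ([], 2), ([none, some 2, none], 0)]
    have hW : ∀ j : (Fin Cfsg.Lie.chevD4.rank), ∃ a ∈ W, (∀ o ∈ a.1, ∀ i ∈ o, i ∈ ({0, 2} : Finset (Fin Cfsg.Lie.chevD4.rank))) ∧
        a.2 ∈ ({0, 2} : Finset (Fin Cfsg.Lie.chevD4.rank)) ∧
        CfsgLib.Chev.chevD4.wordMap a.1 (CfsgLib.Chev.chevD4.p a.2) = CfsgLib.Chev.chevD4.p j := by
      decide +kernel
    obtain ⟨a, -, h1, h2, h3⟩ := hW j
    exact ⟨a.1, a.2, fun i hi => h1 _ hi i rfl, h2, h3⟩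
  · obtain ⟨e, he⟩ := CfsgLib.Chev.coxIsoF4
    refine key CfsgLib.Chev.chevF4 CfsgLib.Chev.coxF4 e he 2 {0, 2} rfl fun j => CfsgLib.Chev.Chev.reflPerm_mem_closure _ ?_
    let W : List (List (Option (Fin Cfsg.Lie.chevF4.rank)) × (Fin Cfsg.Lie.chevF4.rank)) :=
      [([], 0), ([none], 0), ([], 2), ([none], 2)]
    have hW : ∀ j : (Fin Cfsg.Lie.chevF4.rank), ∃ a ∈ W, (∀ o ∈ a.1, ∀ i ∈ o, i ∈ ({0, 2} : Finset (Fin Cfsg.Lie.chevF4.rank))) ∧
        a.2 ∈ ({0, 2} : Finset (Fin Cfsg.Lie.chevF4.rank)) ∧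
        CfsgLib.Chev.chevF4.wordMap a.1 (CfsgLib.Chev.chevF4.p a.2) = CfsgLib.Chev.chevF4.p j := by
      decide +kernel
    obtain ⟨a, -, h1, h2, h3⟩ := hW j
    exact ⟨a.1, a.2, fun i hi => h1 _ hi i rfl, h2, h3⟩
  · obtain ⟨e, he⟩ := CfsgLib.Chev.coxIsoE6
    refine key CfsgLib.Chev.chevE6 CfsgLib.Chev.coxE6 e he 1 {0} rfl fun j => CfsgLib.Chev.Chev.reflPerm_mem_closure _ ?_
    let W : List (List (Option (Fin Cfsg.Lie.chevE6.rank)) × (Fin Cfsg.Lie.chevE6.rank)) :=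
      [([], 0), ([none, none, some 0, none, none, none, some 0], 0), ([none], 0), ([none, none, none, none, none], 0), ([none, none, none, none, none, none], 0), ([none, none, none, none, none, none, none], 0)]
    have hW : ∀ j : (Fin Cfsg.Lie.chevE6.rank), ∃ a ∈ W, (∀ o ∈ a.1, ∀ i ∈ o, i ∈ ({0} : Finset (Fin Cfsg.Lie.chevE6.rank))) ∧
        a.2 ∈ ({0} : Finset (Fin Cfsg.Lie.chevE6.rank)) ∧
        CfsgLib.Chev.chevE6.wordMap a.1 (CfsgLib.Chev.chevE6.p a.2) = CfsgLib.Chev.chevE6.p j := by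
      decide +kernel
    obtain ⟨a, -, h1, h2, h3⟩ := hW j
    exact ⟨a.1, a.2, fun i hi => h1 _ hi i rfl, h2, h3⟩
  · obtain ⟨e, he⟩ := CfsgLib.Chev.coxIsoE7
    refine key CfsgLib.Chev.chevE7 CfsgLib.Chev.coxE7 e he 1 {1} rfl fun j => CfsgLib.Chev.Chev.reflPerm_mem_closure _ ?_
    let W : List (List (Option (Fin Cfsg.Lie.chevE7.rank)) × (Fin Cfsg.Lie.chevE7.rank)) :=
      [([none, none, none, some 1, none, none, some 1], 1), ([], 1), ([none, none, none, none, some 1, none, none, some 1], 1), ([some 1, none, none, none, none, none, some 1, none, none, some 1], 1), ([none, some 1, none, none, none, none, none, some 1, none, none, some 1], 1), ([none, none, some 1, none, none, none, none, none, some 1, none, none, some 1], 1), ([none, none, none, some 1, none, none, none, none, none, some 1, none, none, some 1], 1)]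
    have hW : ∀ j : (Fin Cfsg.Lie.chevE7.rank), ∃ a ∈ W, (∀ o ∈ a.1, ∀ i ∈ o, i ∈ ({1} : Finset (Fin Cfsg.Lie.chevE7.rank))) ∧
        a.2 ∈ ({1} : Finset (Fin Cfsg.Lie.chevE7.rank)) ∧
        CfsgLib.Chev.chevE7.wordMap a.1 (CfsgLib.Chev.chevE7.p a.2) = CfsgLib.Chev.chevE7.p j := by
      decide +kernel
    obtain ⟨a, -, h1, h2, h3⟩ := hW j
    exact ⟨a.1, a.2, fun i hi => h1 _ hi i rfl, h2, h3⟩
  · obtain ⟨e, he⟩ := CfsgLib.Chev.coxIsoE8
    refine key CfsgLib.Chev.chevE8 CfsgLib.Chev.coxE8 e he 1 {0} rfl fun j => CfsgLib.Chev.Chev.reflPerm_mem_closure _ ?_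
    let W : List (List (Option (Fin Cfsg.Lie.chevE8.rank)) × (Fin Cfsg.Lie.chevE8.rank)) :=
      [([], 0), ([none, none, some 0, none, none, some 0, none, none, none, some 0], 0), ([none], 0), ([none, none, none, none, some 0, none, none, none], 0), ([none, none, none, none, none, some 0, none, none, none], 0), ([none, none, none, none, none, none, some 0, none, none, none], 0), ([none, none, none, none, none, none, none, some 0, none, none, none], 0), ([none, none, none, none, none, none, none, none, some 0, none, none, none], 0)]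
    have hW : ∀ j : (Fin Cfsg.Lie.chevE8.rank), ∃ a ∈ W, (∀ o ∈ a.1, ∀ i ∈ o, i ∈ ({0} : Finset (Fin Cfsg.Lie.chevE8.rank))) ∧
        a.2 ∈ ({0} : Finset (Fin Cfsg.Lie.chevE8.rank)) ∧
        CfsgLib.Chev.chevE8.wordMap a.1 (CfsgLib.Chev.chevE8.p a.2) = CfsgLib.Chev.chevE8.p j := by
      decide +kernel
    obtain ⟨a, -, h1, h2, h3⟩ := hW j
    exact ⟨a.1, a.2, fun i hi => h1 _ hi i rfl, h2, h3⟩

end Cfsg.Agent.S2419
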