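import Cfsg.Statements.S2421
import Cfsg.Agent.Lib.GLFlags.Unipotent

set_option autoImplicit false
open scoped MatrixGroups
open Cfsg

namespace Cfsg.Agent.S2421

/-- Irreducible characters of `GL_n(q)` indexed by partitions: for `ν` a partition of `n` written with `n` non-decreasing parts `ν_0 ≤ ⋯ ≤ ν_{n−1}` (zeros allowed; positions counted from 0) and `λ_i = ν_i + i`, the alternating sum over permutations `κ` of `{0, …, n−1}` of `sign κ` times the permutation character on partial flags of type `λ − κ` (terms with a negative entry omitted) is an irreducible complex character of `GL_n(q)`. For `ν = (1, …, 1)` this is the Steinberg character. -/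
theorem result {F : Type*} [Field F] [Fintype F] {n : ℕ} (ν : Fin n → ℕ) (hmono : Monotone ν) (hsum : ∑ i, ν i = n) :
    Cfsg.IsIrrCharacter (GL (Fin n) F) (Cfsg.unipotentCharacterGL n F ν) := by
  classical
  obtain ⟨ε, hε, horth⟩ := CfsgLib.GLFlags.altSum_eq n
  have hs := CfsgLib.GLFlags.shift_strictMono hmono
  have hnorm := CfsgLib.GLFlags.classInner_unipotent (F := F) hsum hsum
  rw [horth _ _ hs hs, if_pos rfl] at hnorm
  have hg := CfsgLib.GLFlags.isGenChar_unipotent (F := F) (n := n) ν
  obtain ⟨c, -, -, hsq⟩ := CfsgLib.CharTheory.classInner_self_eq_sum_sq hg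
  rw [hnorm, Int.cast_inj] at hsq
  have hε1 : ε = 1 := by
    refine hε.resolve_right fun h => ?_
    have h0 : 0 ≤ ∑ ψ, c ψ ^ 2 := Finset.sum_nonneg fun ψ _ => sq_nonneg _
    omega
  subst hε1
  exact CfsgLib.CharTheory.irr_of_norm_one hg (hnorm.trans Int.cast_one)
    (CfsgLib.GLFlags.unipotent_one_pos hmono hsum)

end Cfsg.Agent.S2421
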