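import Cfsg.Statements.S2426
import Cfsg.Agent.Lib.SL2Steinberg
-- import your own Cfsg.Agent.* helpers here

set_option autoImplicit false
open Cfsg
open Matrix

namespace Cfsg.Agent.S2426

/-- The rank-one Steinberg presentation of `SL₂` over a finite field `K`: generators `x(t)`, `y(t)` (`t ∈ K`; the two opposite root subgroups) subject to additivity `x(t)x(u) = x(t+u)`, `y(t)y(u) = y(t+u)` and, with `w(t) = x(t) y(−t⁻¹) x(t)` and `w'(t) = y(t) x(−t⁻¹) y(t)` for `t ≠ 0`, the relations `w(t) x(u) w(t)⁻¹ = y(−t⁻² u)` and `w'(t) y(u) w'(t)⁻¹ = x(−t⁻² u)`, present `SL₂(K)`, with `x(t) ↦ (1 t; 0 1)` and `y(t) ↦ (1 0; t 1)`. -/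
theorem result {K : Type*} [Field K] [Finite K] :
    ∃ e : PresentedGroup
        ({g : FreeGroup (Bool × K) | ∃ (b : Bool) (t u : K), g = FreeGroup.of (b, t) * FreeGroup.of (b, u) * (FreeGroup.of (b, t + u))⁻¹} ∪
          {g | ∃ (b : Bool) (t u : K), t ≠ 0 ∧
            g = (FreeGroup.of (b, t) * FreeGroup.of (!b, -t⁻¹) * FreeGroup.of (b, t)) * FreeGroup.of (b, u) *
                  (FreeGroup.of (b, t) * FreeGroup.of (!b, -t⁻¹) * FreeGroup.of (b, t))⁻¹ * (FreeGroup.of (!b, -(t⁻¹ ^ 2 * u)))⁻¹})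
        ≃* Matrix.SpecialLinearGroup (Fin 2) K,
      (∀ t : K, ((e (PresentedGroup.of (true, t)) : Matrix (Fin 2) (Fin 2) K)) = !![1, t; 0, 1]) ∧
      (∀ t : K, ((e (PresentedGroup.of (false, t)) : Matrix (Fin 2) (Fin 2) K)) = !![1, 0; t, 1]) := by
  classical
  set rels := ({g : FreeGroup (Bool × K) | ∃ (b : Bool) (t u : K), g = FreeGroup.of (b, t) * FreeGroup.of (b, u) * (FreeGroup.of (b, t + u))⁻¹} ∪
          {g | ∃ (b : Bool) (t u : K), t ≠ 0 ∧
            g = (FreeGroup.of (b, t) * FreeGroup.of (!b, -t⁻¹) * FreeGroup.of (b, t)) * FreeGroup.of (b, u) *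
                  (FreeGroup.of (b, t) * FreeGroup.of (!b, -t⁻¹) * FreeGroup.of (b, t))⁻¹ * (FreeGroup.of (!b, -(t⁻¹ ^ 2 * u)))⁻¹})
    with hrels
  let ux : K → SpecialLinearGroup (Fin 2) K := fun t => ⟨!![1, t; 0, 1], by simp [Matrix.det_fin_two]⟩
  let uy : K → SpecialLinearGroup (Fin 2) K := fun t => ⟨!![1, 0; t, 1], by simp [Matrix.det_fin_two]⟩
  let f : Bool × K → SpecialLinearGroup (Fin 2) K := fun p => if p.1 then ux p.2 else uy p.2
  have cm : ∀ A B : SpecialLinearGroup (Fin 2) K, (A * B).1 = A.1 * B.1 := fun _ _ => rfl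
  have vW : ∀ t : K, t ≠ 0 → (ux t * uy (-t⁻¹) * ux t).1 = !![0, t; -t⁻¹, 0] := fun t ht => by
    rw [cm, cm]
    simp [ux, uy, Matrix.mul_fin_two, ht]
  have vW' : ∀ t : K, t ≠ 0 → (uy t * ux (-t⁻¹) * uy t).1 = !![0, -t⁻¹; t, 0] := fun t ht => by
    rw [cm, cm]
    simp [ux, uy, Matrix.mul_fin_two, ht]
  have hf : ∀ w ∈ rels, FreeGroup.lift f w = 1 := by
    rintro w (⟨b, t, u, rfl⟩ | ⟨b, t, u, ht, rfl⟩)
    · rw [map_mul, map_mul, map_inv, mul_inv_eq_one]
      simp only [FreeGroup.lift_apply_of]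
      cases b <;> refine Subtype.ext ?_ <;> rw [cm] <;> simp [f, ux, uy, Matrix.mul_fin_two, add_comm]
    · simp only [map_mul, map_inv, FreeGroup.lift_apply_of]
      rw [mul_inv_eq_one, mul_inv_eq_iff_eq_mul]
      refine Subtype.ext ?_
      cases b
      · simp only [f, Bool.not_false, Bool.false_eq_true, if_false, if_true]
        rw [cm, cm (ux _), vW' t ht]
        simp [ux, uy, Matrix.mul_fin_two]
        field_simp
      · simp only [f, Bool.not_true, Bool.false_eq_true, if_false, if_true]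
        rw [cm, cm (uy _), vW t ht]
        simp [ux, uy, Matrix.mul_fin_two]
        field_simp
  let φ := PresentedGroup.toGroup hf
  let x : K → PresentedGroup rels := fun t => PresentedGroup.of (true, t)
  let y : K → PresentedGroup rels := fun t => PresentedGroup.of (false, t)
  have fx : ∀ t, φ (x t) = ux t := fun t => (PresentedGroup.toGroup.of hf).trans (if_pos rfl)
  have fy : ∀ t, φ (y t) = uy t := fun t => (PresentedGroup.toGroup.of hf).trans (if_neg (by simp))
  have R : CfsgLib.SL2St.Rels x y := by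
    have hadd : ∀ (b : Bool) (t u : K), (PresentedGroup.of (b, t + u) : PresentedGroup rels) =
        PresentedGroup.of (b, t) * PresentedGroup.of (b, u) := fun b t u => by
      have h := PresentedGroup.one_of_mem (rels := rels) (Or.inl ⟨b, t, u, rfl⟩)
      rw [map_mul, map_mul, map_inv, mul_inv_eq_one] at h
      exact h.symm
    have hconj : ∀ (b : Bool) (t u : K), t ≠ 0 →
        CfsgLib.SL2St.W (fun t => (PresentedGroup.of (b, t) : PresentedGroup rels))
          (fun t => PresentedGroup.of (!b, t)) t * PresentedGroup.of (b, u) *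
        (CfsgLib.SL2St.W (fun t => (PresentedGroup.of (b, t) : PresentedGroup rels))
          (fun t => PresentedGroup.of (!b, t)) t)⁻¹ = PresentedGroup.of (!b, -(t⁻¹ ^ 2 * u)) := fun b t u ht => by
      have h := PresentedGroup.one_of_mem (rels := rels) (Or.inr ⟨b, t, u, ht, rfl⟩)
      simp only [map_mul, map_inv] at h
      rw [mul_inv_eq_one] at h
      exact h
    exact ⟨hadd true, hadd false, hconj true, hconj false⟩
  have hgen : ∀ g : PresentedGroup rels, g ∈ CfsgLib.SL2St.gen x y := by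
    intro g
    refine (Subgroup.closure_le _).mpr ?_ ((PresentedGroup.closure_range_of rels).ge (Subgroup.mem_top g))
    rintro _ ⟨⟨b, t⟩, rfl⟩
    cases b
    exacts [Subgroup.subset_closure (Or.inr ⟨t, rfl⟩), Subgroup.subset_closure (Or.inl ⟨t, rfl⟩)]
  have fW : ∀ t : K, t ≠ 0 → (φ (CfsgLib.SL2St.W x y t)).1 = !![0, t; -t⁻¹, 0] := fun t ht => by
    rw [CfsgLib.SL2St.W, map_mul, map_mul, fx, fy]; exact vW t ht
  have fH : ∀ t : K, t ≠ 0 → (φ (CfsgLib.SL2St.H x y t)).1 = !![t, 0; 0, t⁻¹] := fun t ht => by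
    rw [CfsgLib.SL2St.H, map_mul, cm, fW t ht, fW (-1) (by simp)]
    simp [Matrix.mul_fin_two]
  have hinj : Function.Injective φ := by
    rw [injective_iff_map_eq_one]
    intro g hg
    have hg' := congrArg Subtype.val hg
    rcases R.normal_of_mem (hgen g) with ⟨a, t, ht, rfl⟩ | ⟨a, t, b, ht, rfl⟩
    · rw [map_mul, cm, fx, fH t ht] at hg'
      simp [ux, Matrix.mul_fin_two, Matrix.one_fin_two, ht] at hg'
      obtain ⟨⟨rfl, rfl⟩, -⟩ := hg'
      rw [R.x_zero, R.H_one, one_mul]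
    · exfalso
      rw [map_mul, map_mul, map_mul, cm, cm,
        cm, fx, fx, fH t ht, fW 1 one_ne_zero] at hg'
      have := congrFun (congrFun hg' 1) 0
      simp [ux, Matrix.mul_fin_two, Matrix.one_fin_two, ht] at this
  have hsurj : Function.Surjective φ := by
    have key : ∀ g : SpecialLinearGroup (Fin 2) K, g.1 1 0 ≠ 0 → g ∈ φ.range := by
      intro g hc
      have hd : g.1 0 0 * g.1 1 1 - g.1 0 1 * g.1 1 0 = 1 := by rw [← Matrix.det_fin_two]; exact g.2
      have e : g = ux ((g.1 0 0 - 1) / g.1 1 0) * uy (g.1 1 0) * ux ((g.1 1 1 - 1) / g.1 1 0) := by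
        refine Subtype.ext ?_
        rw [cm, cm, Matrix.eta_fin_two g.1]
        simp [ux, uy, Matrix.mul_fin_two]
        refine ⟨?_, ?_⟩ <;> field_simp <;> first | ring1 | trivial | linear_combination hd | linear_combination (-1 : K) * hd | exact ⟨trivial, by linear_combination (-1 : K) * hd⟩ | exact ⟨by ring1, by linear_combination (-1 : K) * hd⟩
      rw [e, ← fx, ← fy, ← fx]
      exact mul_mem (mul_mem ⟨_, rfl⟩ ⟨_, rfl⟩) ⟨_, rfl⟩
    intro g
    show g ∈ φ.range
    by_cases hc : g.1 1 0 = 0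
    · have hd : g.1 0 0 * g.1 1 1 - g.1 0 1 * g.1 1 0 = 1 := by rw [← Matrix.det_fin_two]; exact g.2
      have ha : g.1 0 0 ≠ 0 := by intro h; rw [h, hc] at hd; simp at hd
      have h1 := key (uy 1 * g) (by rw [cm]; simp [uy, Matrix.mul_apply, Fin.sum_univ_two, hc, ha])
      have h2 : uy 1 ∈ φ.range := ⟨_, fy 1⟩
      simpa using mul_mem (inv_mem h2) h1
    · exact key g hc
  exact ⟨MulEquiv.ofBijective φ ⟨hinj, hsurj⟩, fun t => congrArg Subtype.val (fx t),
    fun t => congrArg Subtype.val (fy t)⟩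

end Cfsg.Agent.S2426
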