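import Cfsg.Statements.S2427


set_option autoImplicit false
open Cfsg

namespace Cfsg.Agent.S2427

/-- The group SL₂ over the field with 3 elements has order 24 and centre of order 2; its commutator subgroup has order 8, is isomorphic to the quaternion group of order 8 and is complemented by every Sylow 3-subgroup (so the group is a semidirect product of a quaternion group of order 8 by a cyclic group of order 3); and its only normal subgroups besides the trivial subgroup and the whole group are the centre and the commutator subgroup. -/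
theorem result :
    Nat.card (Matrix.SpecialLinearGroup (Fin 2) (ZMod 3)) = 24 ∧
    Nat.card (Subgroup.center (Matrix.SpecialLinearGroup (Fin 2) (ZMod 3))) = 2 ∧
    Nat.card (commutator (Matrix.SpecialLinearGroup (Fin 2) (ZMod 3))) = 8 ∧
    Nonempty (commutator (Matrix.SpecialLinearGroup (Fin 2) (ZMod 3)) ≃* QuaternionGroup 2) ∧
    (∀ P : Sylow 3 (Matrix.SpecialLinearGroup (Fin 2) (ZMod 3)),
      Subgroup.IsComplement' (commutator (Matrix.SpecialLinearGroup (Fin 2) (ZMod 3)))
        (P : Subgroup (Matrix.SpecialLinearGroup (Fin 2) (ZMod 3)))) ∧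
    ∀ N : Subgroup (Matrix.SpecialLinearGroup (Fin 2) (ZMod 3)), N.Normal →
      N = ⊥ ∨ N = ⊤ ∨ N = Subgroup.center (Matrix.SpecialLinearGroup (Fin 2) (ZMod 3)) ∨
        N = commutator (Matrix.SpecialLinearGroup (Fin 2) (ZMod 3)) := by
  classical
  obtain ⟨w0, hw0⟩ : ∃ w : Matrix.SpecialLinearGroup (Fin 2) (ZMod 3), w.1 = !![0, -1; 1, 0] :=
    ⟨⟨!![0, -1; 1, 0], by decide⟩, rfl⟩
  let Q : Subgroup (Matrix.SpecialLinearGroup (Fin 2) (ZMod 3)) :=
    { carrier := {g | g ^ 4 = 1}
      one_mem' := by simp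
      mul_mem' := fun {a b} ha hb => (show ∀ a b : Matrix.SpecialLinearGroup (Fin 2) (ZMod 3),
        a ^ 4 = 1 → b ^ 4 = 1 → (a * b) ^ 4 = 1 by decide +kernel) a b ha hb
      inv_mem' := fun {a} ha => by simpa using ha }
  have hQ : ∀ g, g ∈ Q ↔ g ^ 4 = 1 := fun g => Iff.rfl
  have hZ : ∀ g, g ∈ Subgroup.center (Matrix.SpecialLinearGroup (Fin 2) (ZMod 3)) ↔ g ^ 2 = 1 := by
    intro g
    rw [Subgroup.mem_center_iff]
    revert g
    decide +kernel
  have hQc : Nat.card Q = 8 := by
    rw [Nat.card_congr (Equiv.subtypeEquivRight hQ), Nat.card_eq_fintype_card]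
    decide +kernel
  have hS : Nat.card (Matrix.SpecialLinearGroup (Fin 2) (ZMod 3)) = 24 := by
    rw [Nat.card_eq_fintype_card]
    decide +kernel
  have hcomm : commutator (Matrix.SpecialLinearGroup (Fin 2) (ZMod 3)) = Q := by
    apply le_antisymm
    · rw [commutator_eq_closure, Subgroup.closure_le]
      rintro _ ⟨a, b, rfl⟩
      exact (show ∀ a b : Matrix.SpecialLinearGroup (Fin 2) (ZMod 3), (a * b * a⁻¹ * b⁻¹) ^ 4 = 1 by
        decide +kernel) a b
    · intro g hg
      obtain ⟨a, b, rfl⟩ := (show ∀ g : Matrix.SpecialLinearGroup (Fin 2) (ZMod 3), g ^ 4 = 1 →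
        ∃ a b, a * b * a⁻¹ * b⁻¹ = g by decide +kernel) g ((hQ g).mp hg)
      exact Subgroup.commutator_mem_commutator (Subgroup.mem_top a) (Subgroup.mem_top b)
  refine ⟨hS, ?_, by rw [hcomm, hQc], ?_, ?_, ?_⟩
  · rw [Nat.card_congr (Equiv.subtypeEquivRight hZ), Nat.card_eq_fintype_card]
    decide +kernel
  · obtain ⟨x0, hx0⟩ : ∃ x : Matrix.SpecialLinearGroup (Fin 2) (ZMod 3), x.1 = !![1, 1; 1, -1] :=
      ⟨⟨!![1, 1; 1, -1], by decide⟩, rfl⟩
    let f : QuaternionGroup 2 → Matrix.SpecialLinearGroup (Fin 2) (ZMod 3) := fun s => match s with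
      | .a i => ⟨!![0, -1; 1, 0] ^ i.val, by rw [Matrix.det_pow]; simp [Matrix.det_fin_two]⟩
      | .xa i => ⟨!![1, 1; 1, -1] * !![0, -1; 1, 0] ^ i.val, by
          rw [Matrix.det_mul, Matrix.det_pow]; simp [Matrix.det_fin_two]; decide⟩
    have hf : ∀ a b, f (a * b) = f a * f b := by decide +kernel
    have hinj : Function.Injective f := by
      intro a b; revert a b; decide +kernel
    have hfQ : ∀ a, f a ^ 4 = 1 := by decide +kernel
    let φ : QuaternionGroup 2 →* Q := MonoidHom.mk' (fun a => ⟨f a, hfQ a⟩) fun a b => Subtype.ext (hf a b)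
    have hb : Function.Bijective φ := by
      rw [Nat.bijective_iff_injective_and_card]
      exact ⟨fun a b h => hinj (congrArg Subtype.val h), by rw [Nat.card_eq_fintype_card, QuaternionGroup.card, hQc]⟩
    exact ⟨(MulEquiv.subgroupCongr hcomm).trans (MulEquiv.ofBijective φ hb).symm⟩
  · intro P
    rw [hcomm]
    have h3 : Fact (Nat.Prime 3) := ⟨Nat.prime_three⟩
    have hP : Nat.card P = 3 := by
      rw [Sylow.card_eq_multiplicity, hS]
      have : Nat.factorization 24 3 = 1 := by
        rw [show (24 : ℕ) = 3 * 8 from rfl, Nat.factorization_mul (by norm_num) (by norm_num)]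
        simp [Nat.prime_three.factorization_self, Nat.factorization_eq_zero_of_not_dvd (show ¬ 3 ∣ 8 by norm_num)]
      rw [this, pow_one]
    exact Subgroup.isComplement'_of_coprime (by rw [hQc, hP, hS]) (by rw [hQc, hP]; norm_num)
  · intro N hN
    rw [hcomm]
    by_cases h1 : ∀ g ∈ N, g ^ 2 = 1
    · have hle : N ≤ Subgroup.center (Matrix.SpecialLinearGroup (Fin 2) (ZMod 3)) := fun g hg => (hZ g).mpr (h1 g hg)
      have hd := Subgroup.card_dvd_of_le hle
      have hc2 : Nat.card (Subgroup.center (Matrix.SpecialLinearGroup (Fin 2) (ZMod 3))) = 2 := by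
        rw [Nat.card_congr (Equiv.subtypeEquivRight hZ), Nat.card_eq_fintype_card]
        decide +kernel
      rw [hc2] at hd
      rcases (Nat.dvd_prime Nat.prime_two).mp hd with h | h
      · exact Or.inl (Subgroup.card_eq_one.mp h)
      · exact Or.inr (Or.inr (Or.inl (Subgroup.eq_of_le_of_card_ge hle (by omega))))
    push_neg at h1
    obtain ⟨g, hg, hg2⟩ := h1
    have hQN : Q ≤ N := by
      by_cases h4 : g ^ 4 = 1
      · intro h hh
        rcases (show ∀ g : Matrix.SpecialLinearGroup (Fin 2) (ZMod 3), g ^ 4 = 1 → g ^ 2 ≠ 1 → ∀ h, h ^ 4 = 1 →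
          (∃ a, h = a * g * a⁻¹) ∨ ∃ a, h = g * (a * g * a⁻¹) by decide +kernel) g h4 hg2 h ((hQ h).mp hh) with ⟨a, rfl⟩ | ⟨a, rfl⟩
        · exact hN.conj_mem g hg a
        · exact N.mul_mem hg (hN.conj_mem g hg a)
      · intro h hh
        obtain ⟨a, b, e | e⟩ := (show ∀ g : Matrix.SpecialLinearGroup (Fin 2) (ZMod 3), g ^ 4 ≠ 1 → ∀ h, h ^ 4 = 1 →
          ∃ a b, h = (a * g * a⁻¹) * (b * g * b⁻¹)⁻¹ ∨ h = ((a * g * a⁻¹) * (b * g * b⁻¹)⁻¹) ^ 2 by decide +kernel) g h4 h ((hQ h).mp hh)
        · rw [e]; exact N.mul_mem (hN.conj_mem g hg a) (N.inv_mem (hN.conj_mem g hg b))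
        · rw [e]; exact N.pow_mem (N.mul_mem (hN.conj_mem g hg a) (N.inv_mem (hN.conj_mem g hg b))) 2
    by_cases hNQ : N ≤ Q
    · exact Or.inr (Or.inr (Or.inr (le_antisymm hNQ hQN)))
    · refine Or.inr (Or.inl ?_)
      have h8 := Subgroup.card_dvd_of_le hQN
      have h24 := Subgroup.card_subgroup_dvd_card N
      rw [hQc] at h8
      rw [hS] at h24
      have hlt : 8 < Nat.card N := by
        rw [← hQc]
        refine lt_of_le_of_ne (Subgroup.card_le_of_le hQN) fun h => hNQ ?_
        exact (Subgroup.eq_of_le_of_card_ge hQN h.ge).ge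
      have hle : Nat.card N ≤ 24 := Nat.le_of_dvd (by norm_num) h24
      obtain ⟨k, hk⟩ := h8
      apply Subgroup.eq_top_of_card_eq
      rw [hS, hk]
      have : k = 2 ∨ k = 3 := by omega
      rcases this with rfl | rfl
      · rw [hk] at h24; norm_num at h24
      · rfl

end Cfsg.Agent.S2427
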