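import Cfsg.Statements.S2428
import Cfsg.Agent.Lib.SL2Borel

set_option autoImplicit false
open Cfsg

namespace Cfsg.Agent.S2428

/-- Let F be a finite field with q elements, q odd, and let d be a diagonal element of SL₂ over F whose diagonal entry a has a² ≠ 1 (such d exist exactly when q > 3). Then the centraliser of d is precisely the diagonal subgroup T; the normaliser of T has order 2(q − 1) and exactly (q + 5)/2 conjugacy classes; and every element of that normaliser outside T has square equal to −1. -/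
theorem result {F : Type*} [Field F] [Fintype F] (hodd : Odd (Fintype.card F))
    (d : Matrix.SpecialLinearGroup (Fin 2) F) (hd01 : (d : Matrix (Fin 2) (Fin 2) F) 0 1 = 0) (hd10 : (d : Matrix (Fin 2) (Fin 2) F) 1 0 = 0) (hda : (d : Matrix (Fin 2) (Fin 2) F) 0 0 ^ 2 ≠ 1) :
    (∀ g : Matrix.SpecialLinearGroup (Fin 2) F, g ∈ Subgroup.centralizer ({d} : Set (Matrix.SpecialLinearGroup (Fin 2) F)) ↔ ((g : Matrix (Fin 2) (Fin 2) F) 0 1 = 0 ∧ (g : Matrix (Fin 2) (Fin 2) F) 1 0 = 0)) ∧
    Nat.card (Subgroup.normalizer ((Subgroup.centralizer ({d} : Set (Matrix.SpecialLinearGroup (Fin 2) F))) : Set (Matrix.SpecialLinearGroup (Fin 2) F))) = 2 * (Fintype.card F - 1) ∧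
    Nat.card (ConjClasses (Subgroup.normalizer ((Subgroup.centralizer ({d} : Set (Matrix.SpecialLinearGroup (Fin 2) F))) : Set (Matrix.SpecialLinearGroup (Fin 2) F)))) = (Fintype.card F + 5) / 2 ∧
    ∀ g : Matrix.SpecialLinearGroup (Fin 2) F, g ∈ Subgroup.normalizer ((Subgroup.centralizer ({d} : Set (Matrix.SpecialLinearGroup (Fin 2) F))) : Set (Matrix.SpecialLinearGroup (Fin 2) F)) →
      g ∉ Subgroup.centralizer ({d} : Set (Matrix.SpecialLinearGroup (Fin 2) F)) → ((g * g) : Matrix (Fin 2) (Fin 2) F) = -1 := by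
  classical
  have h2 := CfsgLib.SL2Borel.two_ne_zero_of_odd hodd
  have hdet := CfsgLib.SL2Borel.det_eq (F := F)
  set T := Subgroup.centralizer ({d} : Set (Matrix.SpecialLinearGroup (Fin 2) F)) with hT
  set N := Subgroup.normalizer (T : Set (Matrix.SpecialLinearGroup (Fin 2) F)) with hN
  have hdd : d.1 0 0 * d.1 1 1 = 1 := by have := hdet d; rw [hd01, hd10] at this; linear_combination this
  have hne : d.1 0 0 ≠ d.1 1 1 := fun h => hda (by rw [sq]; nth_rw 2 [h]; exact hdd)
  have hC : ∀ g : Matrix.SpecialLinearGroup (Fin 2) F, g ∈ T ↔ g.1 0 1 = 0 ∧ g.1 1 0 = 0 := by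
    intro g
    rw [hT, Subgroup.mem_centralizer_iff]
    simp only [Set.mem_singleton_iff, forall_eq]
    constructor
    · intro h
      have h' := congrArg (fun z : Matrix.SpecialLinearGroup (Fin 2) F => z.1) h
      simp only [Matrix.SpecialLinearGroup.coe_mul] at h'
      have e1 := congrFun (congrFun h' 0) 1
      have e2 := congrFun (congrFun h' 1) 0
      simp [Matrix.mul_apply, Fin.sum_univ_two, hd01, hd10] at e1 e2
      constructor
      · have : (d.1 0 0 - d.1 1 1) * g.1 0 1 = 0 := by linear_combination e1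
        exact (mul_eq_zero.mp this).resolve_left (sub_ne_zero.mpr hne)
      · have : (d.1 0 0 - d.1 1 1) * g.1 1 0 = 0 := by linear_combination -e2
        exact (mul_eq_zero.mp this).resolve_left (sub_ne_zero.mpr hne)
    · rintro ⟨h1, h3⟩
      apply Subtype.ext
      rw [Matrix.SpecialLinearGroup.coe_mul, Matrix.SpecialLinearGroup.coe_mul]
      ext i j
      fin_cases i <;> fin_cases j <;> simp [Matrix.mul_apply, Fin.sum_univ_two, hd01, hd10, h1, h3, mul_comm]
  have hNiff : ∀ g : Matrix.SpecialLinearGroup (Fin 2) F, g ∈ N ↔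
      (g.1 0 1 = 0 ∧ g.1 1 0 = 0) ∨ (g.1 0 0 = 0 ∧ g.1 1 1 = 0) := by
    intro g
    constructor
    · intro hg
      have ht := (Subgroup.mem_normalizer_iff.mp hg d).mp (by rw [hC]; exact ⟨hd01, hd10⟩)
      rw [hC] at ht
      obtain ⟨t, htdef⟩ : ∃ t, t = g * d * g⁻¹ := ⟨_, rfl⟩
      rw [← htdef] at ht
      have h : t * g = g * d := by rw [htdef]; group
      have h' := congrArg (fun z : Matrix.SpecialLinearGroup (Fin 2) F => z.1) h
      simp only [Matrix.SpecialLinearGroup.coe_mul] at h'
      have e00 := congrFun (congrFun h' 0) 0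
      have e01 := congrFun (congrFun h' 0) 1
      have e10 := congrFun (congrFun h' 1) 0
      have e11 := congrFun (congrFun h' 1) 1
      simp [Matrix.mul_apply, Fin.sum_univ_two, hd01, hd10, ht.1, ht.2] at e00 e01 e10 e11
      have hg' := hdet g
      by_cases h00 : g.1 0 0 = 0
      · right
        refine ⟨h00, ?_⟩
        rw [h00] at hg'
        have hb : g.1 0 1 ≠ 0 := fun hb => by rw [hb] at hg'; simp at hg'
        have hc : g.1 1 0 ≠ 0 := fun hc => by rw [hc] at hg'; simp at hg'
        have t11 : t.1 1 1 = d.1 0 0 := mul_right_cancel₀ hc (by linear_combination e10)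
        rw [t11] at e11
        have : (d.1 0 0 - d.1 1 1) * g.1 1 1 = 0 := by linear_combination e11
        exact (mul_eq_zero.mp this).resolve_left (sub_ne_zero.mpr hne)
      · left
        have t00 : t.1 0 0 = d.1 0 0 := mul_right_cancel₀ h00 (by linear_combination e00)
        rw [t00] at e01
        have h01 : g.1 0 1 = 0 := by
          have : (d.1 0 0 - d.1 1 1) * g.1 0 1 = 0 := by linear_combination e01
          exact (mul_eq_zero.mp this).resolve_left (sub_ne_zero.mpr hne)
        refine ⟨h01, ?_⟩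
        rw [h01] at hg'
        have hd' : g.1 1 1 ≠ 0 := fun hd' => by rw [hd'] at hg'; simp at hg'
        have t11 : t.1 1 1 = d.1 1 1 := mul_right_cancel₀ hd' (by linear_combination e11)
        rw [t11] at e10
        have : (d.1 1 1 - d.1 0 0) * g.1 1 0 = 0 := by linear_combination e10
        exact (mul_eq_zero.mp this).resolve_left (sub_ne_zero.mpr (Ne.symm hne))
    · intro hg
      rw [hN, Subgroup.mem_normalizer_iff]
      intro h
      simp only [SetLike.mem_coe, hC, Matrix.SpecialLinearGroup.coe_mul, Matrix.SpecialLinearGroup.coe_inv,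
        Matrix.adjugate_fin_two, Matrix.mul_apply, Fin.sum_univ_two]
      have hg' := hdet g
      rcases hg with ⟨a1, a2⟩ | ⟨a1, a2⟩
      · rw [a1, a2] at hg'
        have b1 : g.1 0 0 ≠ 0 := fun e => by rw [e] at hg'; simp at hg'
        have b2 : g.1 1 1 ≠ 0 := fun e => by rw [e] at hg'; simp at hg'
        simp [a1, a2, b1, b2]
      · rw [a1, a2] at hg'
        have b1 : g.1 0 1 ≠ 0 := fun e => by rw [e] at hg'; simp at hg'
        have b2 : g.1 1 0 ≠ 0 := fun e => by rw [e] at hg'; simp at hg'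
        simp [a1, a2, b1, b2, and_comm]
  obtain ⟨mat, hmat⟩ : ∃ mat : Fˣ × Bool → Matrix.SpecialLinearGroup (Fin 2) F, ∀ p, (mat p).1 =
      cond p.2 !![0, (p.1 : F); -((p.1⁻¹ : Fˣ) : F), 0] !![(p.1 : F), 0; 0, ((p.1⁻¹ : Fˣ) : F)] :=
    ⟨fun p => ⟨cond p.2 !![0, (p.1 : F); -((p.1⁻¹ : Fˣ) : F), 0] !![(p.1 : F), 0; 0, ((p.1⁻¹ : Fˣ) : F)],
      by rcases p with ⟨a, _ | _⟩ <;> simp [Matrix.det_fin_two]⟩, fun p => rfl⟩
  have hinj : Function.Injective mat := by
    rintro ⟨a, i⟩ ⟨b, j⟩ h
    have h' := congrArg (fun z : Matrix.SpecialLinearGroup (Fin 2) F => z.1) h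
    simp only [hmat] at h'
    have e00 := congrFun (congrFun h' 0) 0
    have e01 := congrFun (congrFun h' 0) 1
    cases i <;> cases j <;> simp at e00 e01 ⊢
    all_goals first | exact Units.ext e00 | exact Units.ext e01
  have hmem : ∀ p, mat p ∈ N := fun p => (hNiff _).mpr (by rcases p with ⟨a, _ | _⟩ <;> simp [hmat])
  have hsurj : ∀ g ∈ N, ∃ p, mat p = g := by
    intro g hg
    have hg' := hdet g
    rcases (hNiff g).mp hg with ⟨a1, a2⟩ | ⟨a1, a2⟩
    · rw [a1, a2] at hg'
      have b1 : g.1 0 0 ≠ 0 := fun e => by rw [e] at hg'; simp at hg'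
      refine ⟨(Units.mk0 _ b1, false), Subtype.ext ?_⟩
      rw [hmat]; ext i j
      fin_cases i <;> fin_cases j <;> simp [a1, a2]
      exact (eq_inv_of_mul_eq_one_right (by linear_combination hg')).symm
    · rw [a1, a2] at hg'
      have b1 : g.1 0 1 ≠ 0 := fun e => by rw [e] at hg'; simp at hg'
      refine ⟨(Units.mk0 _ b1, true), Subtype.ext ?_⟩
      rw [hmat]; ext i j
      fin_cases i <;> fin_cases j <;> simp [a1, a2]
      field_simp
      linear_combination hg'
  let e : Fˣ × Bool ≃ N := Equiv.ofBijective (fun p => ⟨mat p, hmem p⟩)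
    ⟨fun a b h => hinj (congrArg Subtype.val h), fun g => (hsurj g g.2).imp fun p hp => Subtype.ext hp⟩
  have hNc : Nat.card N = 2 * (Fintype.card F - 1) := by
    rw [← Nat.card_congr e, Nat.card_prod, Nat.card_units, Nat.card_eq_fintype_card (α := Bool),
      Fintype.card_bool, Nat.card_eq_fintype_card, mul_comm]
  have hsq : ∀ u : Fˣ, ((u : F) = ((u⁻¹ : Fˣ) : F)) ↔ u ^ 2 = 1 := fun u => by
    rw [Units.val_inj, eq_inv_iff_mul_eq_one, pow_two]
  refine ⟨hC, hNc, ?_, ?_⟩
  · have hcomm : ∀ p r : Fˣ × Bool, Commute (e p) (e r) ↔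
        (p.2 = false ∧ r.2 = false) ∨ (p.2 = false ∧ r.2 = true ∧ p.1 ^ 2 = 1) ∨
        (p.2 = true ∧ r.2 = false ∧ r.1 ^ 2 = 1) ∨ (p.2 = true ∧ r.2 = true ∧ (p.1 * r.1⁻¹) ^ 2 = 1) := by
      intro p r
      have h0 : Commute (e p) (e r) ↔ (mat p).1 * (mat r).1 = (mat r).1 * (mat p).1 := by
        rw [commute_iff_eq, Subtype.ext_iff]
        exact Subtype.ext_iff
      rw [h0, hmat, hmat]
      obtain ⟨a, i⟩ := p
      obtain ⟨b, j⟩ := r
      rw [← Matrix.ext_iff]
      cases i <;> cases j <;>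
        simp only [cond_true, cond_false, Fin.forall_fin_two, Matrix.mul_apply, Fin.sum_univ_two] <;> simp
      · exact ⟨mul_comm _ _, mul_comm _ _⟩
      · rw [← hsq]
        constructor
        · intro h
          exact mul_right_cancel₀ b.ne_zero (by simpa [mul_comm] using h.1)
        · intro h
          rw [Units.val_inv_eq_inv_val] at h
          constructor <;> first | linear_combination ((b : F)) * h | linear_combination ((b : F)⁻¹) * h | linear_combination -((b : F)) * h | linear_combination -((b : F)⁻¹) * h | linear_combination ((a : F)) * h | linear_combination ((a : F)⁻¹) * h | linear_combination -((a : F)) * h | linear_combination -((a : F)⁻¹) * h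
      · rw [← hsq]
        constructor
        · intro h
          exact mul_right_cancel₀ a.ne_zero (by simpa [mul_comm] using h.1.symm)
        · intro h
          rw [Units.val_inv_eq_inv_val] at h
          constructor <;> first | linear_combination ((b : F)) * h | linear_combination ((b : F)⁻¹) * h | linear_combination -((b : F)) * h | linear_combination -((b : F)⁻¹) * h | linear_combination ((a : F)) * h | linear_combination ((a : F)⁻¹) * h | linear_combination -((a : F)) * h | linear_combination -((a : F)⁻¹) * h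
      · rw [← hsq]
        simp [mul_comm]
        intro h
        rw [h]
    have hcard : Nat.card {p : N × N // Commute p.1 p.2} =
        (Fintype.card F - 1) * (Fintype.card F - 1 + 6) := by
      rw [← Nat.card_congr (Equiv.subtypeEquiv (Equiv.prodCongr e e)
        (p := fun p : (Fˣ × Bool) × (Fˣ × Bool) => (p.1.2 = false ∧ p.2.2 = false) ∨
          (p.1.2 = false ∧ p.2.2 = true ∧ p.1.1 ^ 2 = 1) ∨ (p.1.2 = true ∧ p.2.2 = false ∧ p.2.1 ^ 2 = 1) ∨
          (p.1.2 = true ∧ p.2.2 = true ∧ (p.1.1 * p.2.1⁻¹) ^ 2 = 1)) fun p => (hcomm p.1 p.2).symm)]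
      have e3 : {p : (Fˣ × Bool) × (Fˣ × Bool) // (p.1.2 = false ∧ p.2.2 = false) ∨
          (p.1.2 = false ∧ p.2.2 = true ∧ p.1.1 ^ 2 = 1) ∨ (p.1.2 = true ∧ p.2.2 = false ∧ p.2.1 ^ 2 = 1) ∨
          (p.1.2 = true ∧ p.2.2 = true ∧ (p.1.1 * p.2.1⁻¹) ^ 2 = 1)} ≃
          ((Fˣ × Fˣ) ⊕ ({a : Fˣ // a ^ 2 = 1} × Fˣ)) ⊕ ((Fˣ × {a : Fˣ // a ^ 2 = 1}) ⊕ ({a : Fˣ // a ^ 2 = 1} × Fˣ)) :=
        { toFun := fun s => match s with
            | ⟨((a, false), (b, false)), _⟩ => .inl (.inl (a, b))
            | ⟨((a, false), (b, true)), h⟩ => .inl (.inr (⟨a, by simpa using h⟩, b))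
            | ⟨((a, true), (b, false)), h⟩ => .inr (.inl (a, ⟨b, by simpa using h⟩))
            | ⟨((a, true), (b, true)), h⟩ => .inr (.inr (⟨a * b⁻¹, by simpa using h⟩, b))
          invFun := fun s => match s with
            | .inl (.inl (a, b)) => ⟨((a, false), (b, false)), by simp⟩
            | .inl (.inr (a, b)) => ⟨((a.1, false), (b, true)), by simp [a.2]⟩
            | .inr (.inl (a, b)) => ⟨((a, true), (b.1, false)), by simp [b.2]⟩
            | .inr (.inr (a, b)) => ⟨((a.1 * b, true), (b, true)), by simp [a.2]⟩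
          left_inv := by rintro ⟨⟨⟨a, _ | _⟩, ⟨b, _ | _⟩⟩, h⟩ <;> simp
          right_inv := by rintro ((⟨a, b⟩ | ⟨a, b⟩) | (⟨a, b⟩ | ⟨a, b⟩)) <;> simp }
      rw [Nat.card_congr e3]
      simp only [Nat.card_sum, Nat.card_prod, Nat.card_units, CfsgLib.SL2Borel.card_sq_eq_one h2,
        Nat.card_eq_fintype_card (α := F)]
      ring
    rw [card_comm_eq_card_conjClasses_mul_card, hNc] at hcard
    have hq : 1 < Fintype.card F := Fintype.one_lt_card
    obtain ⟨k, hk⟩ := hodd
    rw [hk] at hcard ⊢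
    have hk0 : 0 < k := by omega
    simp only [Nat.add_sub_cancel] at hcard
    have : Nat.card (ConjClasses N) * 2 = 2 * k + 6 := by
      refine Nat.eq_of_mul_eq_mul_right (show 0 < 2 * k by omega) ?_
      linear_combination hcard
    omega
  · intro g hg hgT
    rcases (hNiff g).mp hg with h | ⟨a1, a2⟩
    · exact absurd ((hC g).mpr h) hgT
    · have hg' := hdet g
      rw [a1, a2] at hg'
      ext i j
      fin_cases i <;> fin_cases j <;> simp [Matrix.mul_apply, Fin.sum_univ_two, a1, a2]
      · linear_combination -hg'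
      · linear_combination -hg'

end Cfsg.Agent.S2428
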