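import Cfsg.Statements.S2429
import Cfsg.Agent.Lib.SL2Char.Table
-- import your own Cfsg.Agent.* helpers here

set_option autoImplicit false
open Cfsg CfsgLib.SL2Char CfsgLib.CharTheory

namespace Cfsg.Agent.S2429

/-- Let F be a finite field with q elements, q odd. Then SL₂ over F contains a cyclic subgroup T′ of order q + 1 (a non-split torus) with the following properties: T′ is its own centraliser, and indeed the centraliser of each element of T′ other than 1 and −1 is exactly T′; every element of SL₂ having no eigenvector in F² is conjugate to an element of T′; the normaliser of T′ has order 2(q + 1) and exactly (q + 7)/2 conjugacy classes; and every element of that normaliser outside T′ has square −1. -/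
theorem result {F : Type*} [Field F] [Fintype F] (hodd : Odd (Fintype.card F)) :
    ∃ T' : Subgroup (Matrix.SpecialLinearGroup (Fin 2) F), IsCyclic T' ∧ Nat.card T' = Fintype.card F + 1 ∧
      Subgroup.centralizer ((T' : Set (Matrix.SpecialLinearGroup (Fin 2) F))) = T' ∧
      (∀ g : Matrix.SpecialLinearGroup (Fin 2) F, g ∈ T' → (g : Matrix (Fin 2) (Fin 2) F) ≠ 1 → (g : Matrix (Fin 2) (Fin 2) F) ≠ -1 → Subgroup.centralizer ({g} : Set (Matrix.SpecialLinearGroup (Fin 2) F)) = T') ∧
      (∀ g : Matrix.SpecialLinearGroup (Fin 2) F, (∀ (c : F) (v : Fin 2 → F), v ≠ 0 → (g : Matrix (Fin 2) (Fin 2) F).mulVec v ≠ c • v) → ∃ h : Matrix.SpecialLinearGroup (Fin 2) F, h * g * h⁻¹ ∈ T') ∧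
      Nat.card (Subgroup.normalizer (T' : Set (Matrix.SpecialLinearGroup (Fin 2) F))) = 2 * (Fintype.card F + 1) ∧
      Nat.card (ConjClasses (Subgroup.normalizer (T' : Set (Matrix.SpecialLinearGroup (Fin 2) F)))) = (Fintype.card F + 7) / 2 ∧
      ∀ g : Matrix.SpecialLinearGroup (Fin 2) F, g ∈ Subgroup.normalizer (T' : Set (Matrix.SpecialLinearGroup (Fin 2) F)) → g ∉ T' → ((g * g) : Matrix (Fin 2) (Fin 2) F) = -1 := by
  classical
  obtain ⟨C, hC, hcard⟩ := exists_torus (F := F)
  have h2 := CfsgLib.SL2Borel.two_ne_zero_of_odd hodd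
  letI := hC.commGroup
  set N := Subgroup.normalizer (C : Set (Matrix.SpecialLinearGroup (Fin 2) F)) with hN
  obtain ⟨c, hc, hce⟩ := exists_ell C hcard
  have hcent := centralizer_eq C hC hcard hc hce
  have hconj : IsConj c c⁻¹ := CfsgLib.PSL2Product.isConj_of_trace (ell_trace hce) (trace_inv c)
  obtain ⟨w, hw⟩ := isConj_iff.mp hconj
  -- the elements normalising `C`
  have hNmem : ∀ x : Matrix.SpecialLinearGroup (Fin 2) F, x ∈ N → x ∈ C ∨ x * c * x⁻¹ = c⁻¹ := by
    intro x hx
    have hm : x * c * x⁻¹ ∈ C := (Subgroup.mem_normalizer_iff.mp hx c).mp hc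
    rcases eq_or_inv_of_trace C hC hcard hc hce hm (trace_conj c x) with h | h
    · left
      rw [← hcent, Subgroup.mem_centralizer_singleton_iff]
      exact mul_inv_eq_iff_eq_mul.mp h
    · exact Or.inr h
  have hinv : ∀ x : Matrix.SpecialLinearGroup (Fin 2) F, x * c * x⁻¹ = c⁻¹ → ∀ y ∈ C, x * y * x⁻¹ = y⁻¹ := by
    intro x hx y hy
    rcases torus_cases C hcard hy with he | ⟨e, he, rfl⟩
    · have hmem : x * y * x⁻¹ ∈ C := by
        rw [← hcent, Subgroup.mem_centralizer_singleton_iff]
        have hyc : y * c = c * y := by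
          rw [← hcent, Subgroup.mem_centralizer_singleton_iff] at hy; exact hy
        have hyc' : y * c⁻¹ = c⁻¹ * y := by
          rw [eq_inv_mul_iff_mul_eq, ← mul_assoc, ← hyc, mul_inv_cancel_right]
        calc x * y * x⁻¹ * c = x * y * x⁻¹ * (x * c⁻¹ * x⁻¹) := by
              congr 1
              rw [← inv_inj, show (x * c⁻¹ * x⁻¹)⁻¹ = x * c * x⁻¹ by group, hx]
          _ = x * (y * c⁻¹) * x⁻¹ := by group
          _ = x * (c⁻¹ * y) * x⁻¹ := by rw [hyc']
          _ = (x * c⁻¹ * x⁻¹) * (x * y * x⁻¹) := by group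
          _ = c * (x * y * x⁻¹) := by
              congr 1
              rw [← inv_inj, show (x * c⁻¹ * x⁻¹)⁻¹ = x * c * x⁻¹ by group, hx]
      rcases eq_or_inv_of_trace C hC hcard hy he hmem (trace_conj y x) with h | h
      · exfalso
        have hxy : x ∈ C := by
          rw [← centralizer_eq C hC hcard hy he, Subgroup.mem_centralizer_singleton_iff]
          exact mul_inv_eq_iff_eq_mul.mp h
        rw [← hcent, Subgroup.mem_centralizer_singleton_iff] at hxy
        rw [hxy, mul_inv_cancel_right] at hx
        exact ell_ne_inv hce hx.symm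
      · exact h
    · rw [← (scalar_comm e he x).eq, mul_inv_cancel_right]
      refine (inv_eq_of_mul_eq_one_right ?_).symm
      rw [bor_mul, ← sq, he]; simp [bor_one]
  have hmemN : ∀ x : Matrix.SpecialLinearGroup (Fin 2) F, x * c * x⁻¹ = c⁻¹ → x ∈ N := by
    intro x hx
    rw [hN, Subgroup.mem_normalizer_iff]
    intro y
    constructor
    · intro hy; rw [hinv x hx y hy]; exact C.inv_mem hy
    · intro hy
      have h := hinv x hx _ (C.inv_mem hy)
      have e : x⁻¹ * (x * y * x⁻¹)⁻¹⁻¹ * x = (x * y * x⁻¹)⁻¹ := by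
        calc x⁻¹ * (x * y * x⁻¹)⁻¹⁻¹ * x = x⁻¹ * (x * (x * y * x⁻¹)⁻¹ * x⁻¹) * x := by rw [h]
          _ = (x * y * x⁻¹)⁻¹ := by group
      have e' : y = (x * y * x⁻¹)⁻¹ := by rw [← e]; group
      rw [e']; exact C.inv_mem hy
  have hwC : w ∉ C := fun h => by
    rw [← hcent, Subgroup.mem_centralizer_singleton_iff] at h
    rw [h, mul_inv_cancel_right] at hw
    exact ell_ne_inv hce hw.symm
  have hCN : C ≤ N := Subgroup.le_normalizer
  have hout : ∀ x ∈ N, x ∉ C → x * x = -1 := by
    intro x hx hxC
    have h := (hNmem x hx).resolve_left hxC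
    have hx2 : x * x ∈ C := by
      rw [← hcent, Subgroup.mem_centralizer_singleton_iff, ← mul_inv_eq_iff_eq_mul]
      calc x * x * c * (x * x)⁻¹ = x * (x * c * x⁻¹) * x⁻¹ := by group
        _ = x * c⁻¹ * x⁻¹ := by rw [h]
        _ = (x * c * x⁻¹)⁻¹ := by group
        _ = c := by rw [h, inv_inv]
    have h' := hinv x h _ hx2
    rw [show x * (x * x) * x⁻¹ = x * x by group] at h'
    rcases CfsgLib.SL2Orders.eq_one_or_neg_one_of_sq h2 (x * x) (by nth_rw 1 [h']; rw [inv_mul_cancel]) with e | e
    · exfalso
      apply hxC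
      rcases CfsgLib.SL2Orders.eq_one_or_neg_one_of_sq h2 x e with rfl | rfl
      · exact C.one_mem
      · rw [show (-1 : Matrix.SpecialLinearGroup (Fin 2) F) = bor (-1) 0 from Subtype.ext (by
          ext i j; fin_cases i <;> fin_cases j <;> simp)]
        exact bor_scalar_mem C hC hcard (-1) (by simp)
    · exact e
  have hidx : (C.subgroupOf N).index = 2 := by
    rw [Subgroup.index_eq_two_iff]
    refine ⟨⟨w, hmemN w hw⟩, fun b => ?_⟩
    simp only [Subgroup.mem_subgroupOf, Subgroup.coe_mul]
    by_cases hb : (b : Matrix.SpecialLinearGroup (Fin 2) F) ∈ C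
    · refine Or.inr ⟨hb, fun h => hwC ?_⟩
      simpa using C.mul_mem (C.inv_mem hb) h
    · refine Or.inl ⟨?_, hb⟩
      have h := (hNmem b b.2).resolve_left hb
      rw [← hcent, Subgroup.mem_centralizer_singleton_iff, ← mul_inv_eq_iff_eq_mul]
      calc (b : Matrix.SpecialLinearGroup (Fin 2) F) * w * c * ((b : Matrix.SpecialLinearGroup (Fin 2) F) * w)⁻¹
          = b * (w * c * w⁻¹) * (b : Matrix.SpecialLinearGroup (Fin 2) F)⁻¹ := by group
        _ = (b * c * (b : Matrix.SpecialLinearGroup (Fin 2) F)⁻¹)⁻¹ := by rw [hw]; group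
        _ = c := by rw [h, inv_inv]
  have hcardN : Nat.card N = 2 * (Fintype.card F + 1) := by
    rw [← (C.subgroupOf N).card_mul_index, hidx, Nat.card_congr (Subgroup.subgroupOfEquivOfLe hCN).toEquiv, hcard,
      mul_comm]
  refine ⟨C, hC, hcard, ?_, fun g hg h1 h1' => ?_, fun g hg => ?_, hcardN, ?_, fun g hg hgC => ?_⟩
  · refine le_antisymm (fun y hy => ?_) (fun y hy => ?_)
    · rw [← hcent, Subgroup.mem_centralizer_singleton_iff]
      exact (Subgroup.mem_centralizer_iff.mp hy c hc).symm
    · rw [Subgroup.mem_centralizer_iff]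
      intro z hz
      exact congrArg Subtype.val (mul_comm (⟨z, hz⟩ : C) ⟨y, hy⟩)
  · refine centralizer_eq C hC hcard hg ?_
    rcases torus_cases C hcard hg with he | ⟨e, he, rfl⟩
    · exact he
    · exfalso
      rcases (CfsgLib.SL2Borel.units_sq_eq_one e).mp he with rfl | rfl
      · exact h1 (by simp [Matrix.one_fin_two])
      · exact h1' (by ext i j; fin_cases i <;> fin_cases j <;> simp)
  · obtain ⟨y, hy, -, hcon⟩ := exists_conj_mem C hC hcard ((noEigen_iff g).mp hg)
    obtain ⟨k, hk⟩ := isConj_iff.mp hcon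
    exact ⟨k, by rw [hk]; exact hy⟩
  · -- counting classes
    have hsum := card_comm_eq_card_conjClasses_mul_card N
    have hcentx : ∀ x : N, Nat.card {y : N // Commute x y} =
        if (x : Matrix.SpecialLinearGroup (Fin 2) F) ∈ C then
          (if Ell (x : Matrix.SpecialLinearGroup (Fin 2) F) then Fintype.card F + 1 else 2 * (Fintype.card F + 1))
        else 4 := by
      intro x
      split_ifs with hx he
      · rw [← hcard]
        refine Nat.card_congr
          { toFun := fun y => ⟨y.1.1, ?_⟩
            invFun := fun y => ⟨⟨y.1, hCN y.2⟩, ?_⟩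
            left_inv := fun y => rfl
            right_inv := fun y => rfl }
        · rw [← centralizer_eq C hC hcard hx he, Subgroup.mem_centralizer_singleton_iff]
          exact (congrArg Subtype.val y.2.eq).symm
        · refine Subtype.ext ?_
          show (x : Matrix.SpecialLinearGroup (Fin 2) F) * y.1 = y.1 * x
          exact congrArg Subtype.val (mul_comm (⟨(x : Matrix.SpecialLinearGroup (Fin 2) F), hx⟩ : C) y)
      · rw [← hcardN]
        refine Nat.card_congr (Equiv.subtypeUnivEquiv fun y => ?_)
        obtain ⟨e, he', hxe⟩ := (torus_cases C hcard hx).resolve_left he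
        refine Subtype.ext ?_
        show (x : Matrix.SpecialLinearGroup (Fin 2) F) * y = y * x
        rw [hxe]; exact (scalar_comm e he' _).eq
      · have hxx := hout x.1 x.2 hx
        have hxinv := hinv x.1 ((hNmem x.1 x.2).resolve_left hx)
        have hiff : ∀ y : N, Commute x y ↔ ((y : Matrix.SpecialLinearGroup (Fin 2) F) = 1 ∨
            (y : Matrix.SpecialLinearGroup (Fin 2) F) = -1 ∨ (y : Matrix.SpecialLinearGroup (Fin 2) F) = x ∨
            (y : Matrix.SpecialLinearGroup (Fin 2) F) = -x) := by
          intro y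
          have key : ∀ z : Matrix.SpecialLinearGroup (Fin 2) F, z ∈ C →
              (x : Matrix.SpecialLinearGroup (Fin 2) F) * z = z * x → z = 1 ∨ z = -1 := by
            intro z hz hxz
            apply CfsgLib.SL2Orders.eq_one_or_neg_one_of_sq h2
            have h := hxinv z hz
            rw [hxz, mul_inv_cancel_right] at h
            nth_rw 1 [h]; rw [inv_mul_cancel]
          constructor
          · intro hy
            have hy' : (x : Matrix.SpecialLinearGroup (Fin 2) F) * y = y * x := congrArg Subtype.val hy.eq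
            by_cases hyC : (y : Matrix.SpecialLinearGroup (Fin 2) F) ∈ C
            · rcases key y hyC hy' with h | h
              exacts [Or.inl h, Or.inr (Or.inl h)]
            · have hxy : (x : Matrix.SpecialLinearGroup (Fin 2) F) * y ∈ C := by
                have h := (Subgroup.mul_mem_iff_of_index_two hidx (a := x) (b := y)).mpr
                  (by simp [Subgroup.mem_subgroupOf, hx, hyC])
                exact h
              rcases key _ hxy (by rw [mul_assoc, hy']) with h | h
              · refine Or.inr (Or.inr (Or.inr ?_))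
                have e : (x : Matrix.SpecialLinearGroup (Fin 2) F) * (-(x : Matrix.SpecialLinearGroup (Fin 2) F)) = 1 := by
                  rw [mul_neg, hxx, neg_neg]
                exact mul_left_cancel (h.trans e.symm)
              · exact Or.inr (Or.inr (Or.inl (mul_left_cancel (h.trans hxx.symm))))
          · rintro (h | h | h | h) <;> refine Subtype.ext ?_ <;>
              show (x : Matrix.SpecialLinearGroup (Fin 2) F) * y = y * x <;> rw [h] <;> simp
        rw [Nat.card_congr (Equiv.subtypeEquivRight hiff), Nat.card_eq_fintype_card]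
        have hm1 : (-1 : Matrix.SpecialLinearGroup (Fin 2) F) ∈ C := by
          rw [show (-1 : Matrix.SpecialLinearGroup (Fin 2) F) = bor (-1) 0 from Subtype.ext (by
            ext i j; fin_cases i <;> fin_cases j <;> simp)]
          exact bor_scalar_mem C hC hcard (-1) (by simp)
        have hnx : -(x : Matrix.SpecialLinearGroup (Fin 2) F) ∈ N := by
          rw [← neg_one_mul]; exact N.mul_mem (hCN hm1) x.2
        have hne : (1 : Matrix.SpecialLinearGroup (Fin 2) F) ≠ -1 := by
          intro h
          have := congrFun (congrFun (congrArg Subtype.val h) 0) 0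
          simp at this
          exact h2 (by linear_combination this)
        rw [Fintype.card_subtype,
          show (Finset.univ.filter fun y : N => (y : Matrix.SpecialLinearGroup (Fin 2) F) = 1 ∨
            (y : Matrix.SpecialLinearGroup (Fin 2) F) = -1 ∨ (y : Matrix.SpecialLinearGroup (Fin 2) F) = x ∨
            (y : Matrix.SpecialLinearGroup (Fin 2) F) = -x) =
            {⟨1, N.one_mem⟩, ⟨-1, hCN hm1⟩, x, ⟨-x.1, hnx⟩} by
            ext y; simp only [Finset.mem_filter, Finset.mem_univ, true_and, Finset.mem_insert, Finset.mem_singleton, Subtype.ext_iff]]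
        have a1 : (1 : Matrix.SpecialLinearGroup (Fin 2) F) ≠ x.1 := fun h => hx (h ▸ C.one_mem)
        have a2 : (-1 : Matrix.SpecialLinearGroup (Fin 2) F) ≠ x.1 := fun h => hx (h ▸ hm1)
        have a3 : x.1 ≠ -x.1 := by
          intro h
          exact hne (mul_left_cancel (show x.1 * 1 = x.1 * -1 by rw [mul_one, mul_neg, mul_one]; exact h))
        have a4 : (1 : Matrix.SpecialLinearGroup (Fin 2) F) ≠ -x.1 := fun h => a2 (by rw [h, neg_neg])
        have a5 : (-1 : Matrix.SpecialLinearGroup (Fin 2) F) ≠ -x.1 := fun h => a1 (neg_inj.mp h)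
        rw [Finset.card_insert_of_notMem (by simp [Subtype.ext_iff, hne, a1, a4]),
          Finset.card_insert_of_notMem (by simp [Subtype.ext_iff, a2, a5]),
          Finset.card_pair (by simp [Subtype.ext_iff, a3])]
    have hpairs : Nat.card {p : N × N // Commute p.1 p.2} = ∑ x : N, Nat.card {y : N // Commute x y} := by
      rw [← Nat.card_sigma]
      exact Nat.card_congr (Equiv.subtypeProdEquivSigmaSubtype fun a b : N => Commute a b)
    have hcc : Fintype.card {x : N // (x : Matrix.SpecialLinearGroup (Fin 2) F) ∈ C} = Fintype.card F + 1 := by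
      rw [← hcard, ← Nat.card_eq_fintype_card]
      exact Nat.card_congr (Subgroup.subgroupOfEquivOfLe hCN).toEquiv
    have hsc : (Finset.univ.filter fun x : N => (x : Matrix.SpecialLinearGroup (Fin 2) F) ∈ C ∧
        ¬ Ell (x : Matrix.SpecialLinearGroup (Fin 2) F)).card = 2 := by
      refine Eq.trans ?_ (card_scal_odd (F := F) h2)
      refine (Finset.card_bij (fun e he => (⟨bor e 0, hCN (bor_scalar_mem C hC hcard e (mem_scal.mp he))⟩ : N))
        (fun e he => Finset.mem_filter.mpr ⟨Finset.mem_univ _, bor_scalar_mem C hC hcard e (mem_scal.mp he), not_ell_bor e 0⟩)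
        (fun a _ b _ h => (bor_injective (congrArg Subtype.val h)).1) (fun x hx => ?_)).symm
      obtain ⟨hxC, hxe⟩ := (Finset.mem_filter.mp hx).2
      obtain ⟨e, he, hxe'⟩ := (torus_cases C hcard hxC).resolve_left hxe
      exact ⟨e, mem_scal.mpr he, Subtype.ext hxe'.symm⟩
    have hsplitC := Finset.card_filter_add_card_filter_not (s := Finset.univ.filter fun x : N =>
        (x : Matrix.SpecialLinearGroup (Fin 2) F) ∈ C) (fun x : N => Ell (x : Matrix.SpecialLinearGroup (Fin 2) F))
    have hsplit := Finset.card_filter_add_card_filter_not (s := (Finset.univ : Finset N))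
      (fun x : N => (x : Matrix.SpecialLinearGroup (Fin 2) F) ∈ C)
    rw [Fintype.card_subtype] at hcc
    rw [Finset.filter_filter, Finset.filter_filter, hsc, hcc] at hsplitC
    rw [hcc, Finset.card_univ, ← Nat.card_eq_fintype_card (α := N), hcardN] at hsplit
    rw [hpairs, Finset.sum_congr rfl (fun x _ => hcentx x), Finset.sum_ite, Finset.sum_ite, Finset.filter_filter,
      Finset.filter_filter, Finset.sum_const, Finset.sum_const, Finset.sum_const, smul_eq_mul, smul_eq_mul,
      smul_eq_mul, hsc, hcardN] at hsum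
    obtain ⟨k, hk⟩ : ∃ k, Fintype.card F = 2 * k + 1 :=
      ⟨Fintype.card F / 2, by have := odd_card h2; omega⟩
    have he : (Finset.univ.filter fun x : N => (x : Matrix.SpecialLinearGroup (Fin 2) F) ∈ C ∧
        Ell (x : Matrix.SpecialLinearGroup (Fin 2) F)).card = 2 * k := by omega
    have ho : (Finset.univ.filter fun x : N => ¬ (x : Matrix.SpecialLinearGroup (Fin 2) F) ∈ C).card = 2 * k + 2 := by omega
    rw [he, ho, hk] at hsum
    rw [hk, show (2 * k + 1 + 7) / 2 = k + 4 by omega]
    have hfin : Nat.card (ConjClasses N) * (4 * k + 4) = (k + 4) * (4 * k + 4) := by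
      rw [show 2 * (2 * k + 1 + 1) = 4 * k + 4 by ring] at hsum
      rw [← hsum]; ring
    exact Nat.eq_of_mul_eq_mul_right (by omega) hfin
  · exact congrArg Subtype.val (hout g hg hgC)

end Cfsg.Agent.S2429
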