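import Cfsg.Statements.S2430
import Cfsg.Agent.Lib.SL2Char.Tori
-- import your own Cfsg.Agent.* helpers here

set_option autoImplicit false
open Cfsg CfsgLib.SL2Tori

namespace Cfsg.Agent.S2430

/-- Let F be a finite field with q elements, q odd, ℓ an odd prime, and P a Sylow ℓ-subgroup of SL₂ over F. If ℓ divides q − 1, the centraliser of P is cyclic of order q − 1 (a split torus) and the normaliser of P has order 2(q − 1); if ℓ divides q + 1, the centraliser of P is cyclic of order q + 1 (a non-split torus) and the normaliser of P has order 2(q + 1). -/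
theorem result {F : Type*} [Field F] [Fintype F] (hodd : Odd (Fintype.card F)) (ℓ : ℕ) [Fact ℓ.Prime] (hℓ : ℓ ≠ 2)
    (P : Sylow ℓ (Matrix.SpecialLinearGroup (Fin 2) F)) :
    (ℓ ∣ Fintype.card F - 1 →
      Nat.card (Subgroup.centralizer ((P : Subgroup (Matrix.SpecialLinearGroup (Fin 2) F)) : Set (Matrix.SpecialLinearGroup (Fin 2) F))) = Fintype.card F - 1 ∧
      IsCyclic (Subgroup.centralizer ((P : Subgroup (Matrix.SpecialLinearGroup (Fin 2) F)) : Set (Matrix.SpecialLinearGroup (Fin 2) F))) ∧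
      Nat.card (Subgroup.normalizer ((P : Subgroup (Matrix.SpecialLinearGroup (Fin 2) F)) : Set (Matrix.SpecialLinearGroup (Fin 2) F))) = 2 * (Fintype.card F - 1)) ∧
    (ℓ ∣ Fintype.card F + 1 →
      Nat.card (Subgroup.centralizer ((P : Subgroup (Matrix.SpecialLinearGroup (Fin 2) F)) : Set (Matrix.SpecialLinearGroup (Fin 2) F))) = Fintype.card F + 1 ∧
      IsCyclic (Subgroup.centralizer ((P : Subgroup (Matrix.SpecialLinearGroup (Fin 2) F)) : Set (Matrix.SpecialLinearGroup (Fin 2) F))) ∧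
      Nat.card (Subgroup.normalizer ((P : Subgroup (Matrix.SpecialLinearGroup (Fin 2) F)) : Set (Matrix.SpecialLinearGroup (Fin 2) F))) = 2 * (Fintype.card F + 1)) := by
  classical
  have h2 := CfsgLib.SL2Orders.two_ne_zero_of_odd hodd
  have hq := Fintype.one_lt_card (α := F)
  have hℓ' : ℓ.Prime := Fact.out
  have hexcl : ℓ ∣ Fintype.card F - 1 → ℓ ∣ Fintype.card F + 1 → False := fun a b => by
    have h := Nat.dvd_sub b a
    rw [show Fintype.card F + 1 - (Fintype.card F - 1) = 2 by omega] at h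
    exact hℓ ((Nat.prime_dvd_prime_iff_eq hℓ' Nat.prime_two).mp h)
  refine ⟨fun hd => ?_, fun hd => ?_⟩
  · obtain ⟨x, hx, hC, hN, hdA⟩ := sylow_odd hodd hℓ (Or.inl hd) P
    obtain ⟨hcyc, hcard | hcard⟩ := isCyclic_centralizer hx
    · rw [hC, hN, card_normalizer h2 hx, hcard]
      exact ⟨rfl, hcyc, rfl⟩
    · exact (hexcl hd (hcard ▸ hdA)).elim
  · obtain ⟨x, hx, hC, hN, hdA⟩ := sylow_odd hodd hℓ (Or.inr hd) P
    obtain ⟨hcyc, hcard | hcard⟩ := isCyclic_centralizer hx
    · exact (hexcl (hcard ▸ hdA) hd).elim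
    · rw [hC, hN, card_normalizer h2 hx, hcard]
      exact ⟨rfl, hcyc, rfl⟩

end Cfsg.Agent.S2430
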