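import Cfsg.Statements.S2433
import Cfsg.Agent.Lib.SL2Borel
import Cfsg.Agent.Lib.SLCard

set_option autoImplicit false
open Cfsg

namespace Cfsg.Agent.S2433

/-- Let F be a finite field with q elements, q odd, α a multiplicative character of F, and R(α) the function on SL₂ induced from the linear character b ↦ α(b₁₁) of the upper triangular subgroup. Then R(α) takes the value α(a) + α(a⁻¹) at a diagonal element with entries a, a⁻¹, a² ≠ 1; the value 0 at every element with no eigenvector in F²; the value α(ε) at an upper triangular element with both diagonal entries ε and non-zero upper right entry; and the value (q + 1)α(ε) at the scalar element ε (ε = ±1). -/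
theorem result {F : Type*} [Field F] [Fintype F] [DecidableEq F] (hodd : Odd (Fintype.card F)) (α : MulChar F ℂ) (g : Matrix.SpecialLinearGroup (Fin 2) F) :
    ((g : Matrix (Fin 2) (Fin 2) F) 0 1 = 0 → (g : Matrix (Fin 2) (Fin 2) F) 1 0 = 0 → (g : Matrix (Fin 2) (Fin 2) F) 0 0 ^ 2 ≠ 1 →
      (Cfsg.indFun ((Cfsg.upperTriangularGL 2 F).comap Matrix.SpecialLinearGroup.toGL) (fun b => α (((b : Matrix.SpecialLinearGroup (Fin 2) F) : Matrix (Fin 2) (Fin 2) F) 0 0))) g = α ((g : Matrix (Fin 2) (Fin 2) F) 0 0) + α ((g : Matrix (Fin 2) (Fin 2) F) 1 1)) ∧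
    ((∀ (c : F) (v : Fin 2 → F), v ≠ 0 → (g : Matrix (Fin 2) (Fin 2) F).mulVec v ≠ c • v) → (Cfsg.indFun ((Cfsg.upperTriangularGL 2 F).comap Matrix.SpecialLinearGroup.toGL) (fun b => α (((b : Matrix.SpecialLinearGroup (Fin 2) F) : Matrix (Fin 2) (Fin 2) F) 0 0))) g = 0) ∧
    ((g : Matrix (Fin 2) (Fin 2) F) 1 0 = 0 → (g : Matrix (Fin 2) (Fin 2) F) 0 0 = (g : Matrix (Fin 2) (Fin 2) F) 1 1 → (g : Matrix (Fin 2) (Fin 2) F) 0 1 ≠ 0 →
      (Cfsg.indFun ((Cfsg.upperTriangularGL 2 F).comap Matrix.SpecialLinearGroup.toGL) (fun b => α (((b : Matrix.SpecialLinearGroup (Fin 2) F) : Matrix (Fin 2) (Fin 2) F) 0 0))) g = α ((g : Matrix (Fin 2) (Fin 2) F) 0 0)) ∧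
    ((g : Matrix (Fin 2) (Fin 2) F) 0 1 = 0 → (g : Matrix (Fin 2) (Fin 2) F) 1 0 = 0 → (g : Matrix (Fin 2) (Fin 2) F) 0 0 = (g : Matrix (Fin 2) (Fin 2) F) 1 1 →
      (Cfsg.indFun ((Cfsg.upperTriangularGL 2 F).comap Matrix.SpecialLinearGroup.toGL) (fun b => α (((b : Matrix.SpecialLinearGroup (Fin 2) F) : Matrix (Fin 2) (Fin 2) F) 0 0))) g = ((Fintype.card F : ℂ) + 1) * α ((g : Matrix (Fin 2) (Fin 2) F) 0 0)) := by
  classical
  have hd : ∀ x : Matrix.SpecialLinearGroup (Fin 2) F,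
      x.1 0 0 * x.1 1 1 - x.1 0 1 * x.1 1 0 = 1 := CfsgLib.SL2Borel.det_eq
  set M := (g : Matrix (Fin 2) (Fin 2) F) with hM
  set B := (Cfsg.upperTriangularGL 2 F).comap Matrix.SpecialLinearGroup.toGL with hB
  set θ : B → ℂ := fun b => α (((b : Matrix.SpecialLinearGroup (Fin 2) F) : Matrix (Fin 2) (Fin 2) F) 0 0) with hθ
  have hq : 2 ≤ Fintype.card F := Fintype.one_lt_card
  have hBc : (Nat.card B : ℂ) ≠ 0 := Nat.cast_ne_zero.mpr Nat.card_pos.ne'
  have hext : ∀ y : Matrix.SpecialLinearGroup (Fin 2) F,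
      Cfsg.extendByZero B θ y = if y.1 1 0 = 0 then α (y.1 0 0) else 0 := by
    intro y
    by_cases hy : y.1 1 0 = 0
    · rw [if_pos hy]
      exact Function.Injective.extend_apply Subtype.val_injective θ 0 (⟨y, CfsgLib.SL2Borel.mem_borel.mpr hy⟩ : B)
    · rw [if_neg hy]
      exact Function.extend_apply' _ _ _ fun ⟨b, hb⟩ => hy (hb ▸ CfsgLib.SL2Borel.mem_borel.mp b.2)
  have he : ∀ x : Matrix.SpecialLinearGroup (Fin 2) F,
      (x⁻¹ * g * x).1 1 0 = -x.1 1 0 * (M 0 0 * x.1 0 0 + M 0 1 * x.1 1 0) + x.1 0 0 * (M 1 0 * x.1 0 0 + M 1 1 * x.1 1 0) ∧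
      (x⁻¹ * g * x).1 0 0 = x.1 1 1 * (M 0 0 * x.1 0 0 + M 0 1 * x.1 1 0) - x.1 0 1 * (M 1 0 * x.1 0 0 + M 1 1 * x.1 1 0) := by
    intro x
    simp only [Matrix.SpecialLinearGroup.coe_mul, Matrix.SpecialLinearGroup.coe_inv, Matrix.adjugate_fin_two,
      Matrix.mul_apply, Fin.sum_univ_two, hM]
    constructor <;> simp <;> ring
  have key : ∀ v : Matrix.SpecialLinearGroup (Fin 2) F → ℂ, (∀ x, Cfsg.extendByZero B θ (x⁻¹ * g * x) = v x) →
      Cfsg.indFun B θ g = (Nat.card B : ℂ)⁻¹ * ∑ x, v x := by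
    intro v hv
    unfold Cfsg.indFun
    simp only [hv]
  have hcol : (∑ x : Matrix.SpecialLinearGroup (Fin 2) F, (if x.1 1 0 = 0 then (1 : ℂ) else 0)) = Nat.card B := by
    rw [Finset.sum_boole, ← Fintype.card_subtype, ← Nat.card_eq_fintype_card]
    exact congrArg _ (Nat.card_congr (Equiv.subtypeEquivRight fun x => CfsgLib.SL2Borel.mem_borel.symm))
  obtain ⟨w, hw⟩ : ∃ w : Matrix.SpecialLinearGroup (Fin 2) F, w.1 = !![0, -1; 1, 0] :=
    ⟨⟨!![0, -1; 1, 0], by simp [Matrix.det_fin_two]⟩, rfl⟩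
  have hrow : (∑ x : Matrix.SpecialLinearGroup (Fin 2) F, (if x.1 0 0 = 0 then (1 : ℂ) else 0)) = Nat.card B := by
    rw [← hcol]
    refine Fintype.sum_equiv (Equiv.mulLeft w) _ _ fun x => ?_
    simp [Matrix.mul_apply, Fin.sum_univ_two, hw]
  refine ⟨fun h01 h10 hne => ?_, fun hno => ?_, fun h10 h01 hne => ?_, fun h01 h10 h11 => ?_⟩
  · have h11 : M 0 0 ≠ M 1 1 := by
      intro h
      have := hd g
      rw [← hM, h01, h10, ← h] at this
      exact hne (by rw [sq]; linear_combination this)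
    rw [key (fun x => α (M 0 0) * (if x.1 1 0 = 0 then 1 else 0) + α (M 1 1) * (if x.1 0 0 = 0 then 1 else 0)) fun x => ?_,
      Finset.sum_add_distrib, ← Finset.mul_sum, ← Finset.mul_sum, hcol, hrow]
    · field_simp
    obtain ⟨h1, h0⟩ := he x
    have hdx := hd x
    rw [hext, h1, h0, h01, h10]
    by_cases ha : x.1 1 0 = 0
    · have hb : x.1 0 0 ≠ 0 := fun hb => by rw [ha, hb] at hdx; simp at hdx
      rw [ha] at hdx
      rw [if_pos (by rw [ha]; ring), if_pos ha, if_neg hb, mul_one, mul_zero, add_zero]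
      congr 1
      rw [ha]; linear_combination M 0 0 * hdx
    · rw [if_neg ha]
      by_cases hb : x.1 0 0 = 0
      · rw [hb] at hdx
        rw [if_pos (by rw [hb]; ring), if_pos hb, mul_one, mul_zero, zero_add]
        congr 1
        rw [hb]; linear_combination M 1 1 * hdx
      · rw [if_neg ?_, if_neg hb, mul_zero, mul_zero, add_zero]
        intro h
        have h' : x.1 0 0 * x.1 1 0 * (M 1 1 - M 0 0) = 0 := by linear_combination h
        simp [hb, ha, sub_eq_zero, Ne.symm h11] at h'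
  · rw [key (fun _ => 0) fun x => ?_]
    · simp
    obtain ⟨h1, h0⟩ := he x
    rw [hext, if_neg]
    intro hy
    refine hno ((x⁻¹ * g * x).1 0 0) ![x.1 0 0, x.1 1 0] ?_ ?_
    · intro h
      have ha := congrFun h 0
      have hb := congrFun h 1
      simp at ha hb
      have := hd x
      rw [ha, hb] at this
      simp at this
    · rw [h1] at hy
      have hdx := hd x
      ext i
      fin_cases i
      · simp [Matrix.mulVec, dotProduct, Fin.sum_univ_two, h0]
        linear_combination (x.1 0 1) * hy - (M 0 0 * x.1 0 0 + M 0 1 * x.1 1 0) * hdx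
      · simp [Matrix.mulVec, dotProduct, Fin.sum_univ_two, h0]
        linear_combination (x.1 1 1) * hy - (M 1 0 * x.1 0 0 + M 1 1 * x.1 1 0) * hdx
  · rw [key (fun x => α (M 0 0) * (if x.1 1 0 = 0 then 1 else 0)) fun x => ?_, ← Finset.mul_sum, hcol]
    · field_simp
    obtain ⟨h1, h0⟩ := he x
    have hdx := hd x
    rw [hext, h1, h0, h10, ← h01]
    by_cases ha : x.1 1 0 = 0
    · rw [ha] at hdx
      rw [if_pos (by rw [ha]; ring), if_pos ha, mul_one]
      congr 1
      rw [ha]; linear_combination M 0 0 * hdx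
    · rw [if_neg ?_, if_neg ha, mul_zero]
      intro h
      have h' : x.1 1 0 * x.1 1 0 * M 0 1 = 0 := by linear_combination -h
      simp [ha, hne] at h'
  · rw [key (fun _ => α (M 0 0)) fun x => ?_]
    · rw [Finset.sum_const, Finset.card_univ, nsmul_eq_mul, ← Nat.card_eq_fintype_card, hB,
        CfsgLib.SL2Borel.card_borel, CfsgLib.SLCard.card_SL_two]
      obtain ⟨r, hr⟩ : ∃ r, Fintype.card F = r + 2 := ⟨Fintype.card F - 2, by omega⟩
      rw [hr, show r + 2 - 1 = r + 1 by omega, show (r + 2) ^ 2 - 1 = (r + 1) * (r + 3) by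
        have : (r + 2) ^ 2 = (r + 1) * (r + 3) + 1 := by ring
        omega]
      have h1 : (r : ℂ) + 1 ≠ 0 := by exact_mod_cast Nat.succ_ne_zero r
      have h2 : (r : ℂ) + 2 ≠ 0 := by exact_mod_cast Nat.succ_ne_zero (r + 1)
      push_cast
      field_simp
      ring
    obtain ⟨h1, h0⟩ := he x
    have hdx := hd x
    rw [hext, h1, h0, h01, h10, ← h11, if_pos (by ring)]
    congr 1
    linear_combination M 0 0 * hdx

end Cfsg.Agent.S2433
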