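import Cfsg.Statements.S2434
import Cfsg.Agent.Lib.SL2Char.Table
-- import your own Cfsg.Agent.* helpers here

set_option autoImplicit false
open Cfsg CfsgLib.SL2Char CfsgLib.CharTheory

namespace Cfsg.Agent.S2434

/-- Let F be a finite field with q elements, q odd, and C a cyclic subgroup of order q + 1 of SL₂ over F (a non-split torus; it contains the centre). For every homomorphism θ from C to the non-zero complex numbers with θ² ≠ 1 there is an irreducible complex character χ of degree q − 1 such that χ(c) = −θ(c) − θ(c)⁻¹ for every non-central c in C, χ(zg) = θ(z)χ(g) for central z in C, χ vanishes at diagonal elements with entry a, a² ≠ 1, and χ takes the value −1 at every upper unitriangular element other than 1. Conversely every irreducible character of degree q − 1 has, for some such θ, the values −θ(c) − θ(c)⁻¹ at the non-central elements c of C (for q ≥ 5 these are exactly the cuspidal characters of degree q − 1). -/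
theorem result {F : Type*} [Field F] [Fintype F] (hodd : Odd (Fintype.card F))
    (C : Subgroup (Matrix.SpecialLinearGroup (Fin 2) F)) (hC : IsCyclic C) (hcard : Nat.card C = Fintype.card F + 1) :
    (∀ θ : C →* ℂˣ, (∃ c : C, θ c ^ 2 ≠ 1) →
      ∃ χ : Matrix.SpecialLinearGroup (Fin 2) F → ℂ, Cfsg.IsIrrCharacter (Matrix.SpecialLinearGroup (Fin 2) F) χ ∧ χ 1 = (Fintype.card F : ℂ) - 1 ∧
        (∀ c : C, (c : Matrix.SpecialLinearGroup (Fin 2) F) ∉ Subgroup.center (Matrix.SpecialLinearGroup (Fin 2) F) → χ c = -((θ c).val + (θ c)⁻¹.val)) ∧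
        (∀ c : C, (c : Matrix.SpecialLinearGroup (Fin 2) F) ∈ Subgroup.center (Matrix.SpecialLinearGroup (Fin 2) F) → ∀ g : Matrix.SpecialLinearGroup (Fin 2) F, χ ((c : Matrix.SpecialLinearGroup (Fin 2) F) * g) = (θ c).val * χ g) ∧
        (∀ g : Matrix.SpecialLinearGroup (Fin 2) F, (g : Matrix (Fin 2) (Fin 2) F) 0 1 = 0 → (g : Matrix (Fin 2) (Fin 2) F) 1 0 = 0 → (g : Matrix (Fin 2) (Fin 2) F) 0 0 ^ 2 ≠ 1 → χ g = 0) ∧
        (∀ g : Matrix.SpecialLinearGroup (Fin 2) F, (g : Matrix (Fin 2) (Fin 2) F) 1 0 = 0 → (g : Matrix (Fin 2) (Fin 2) F) 0 0 = 1 → (g : Matrix (Fin 2) (Fin 2) F) 1 1 = 1 → (g : Matrix (Fin 2) (Fin 2) F) 0 1 ≠ 0 → χ g = -1)) ∧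
    (∀ χ : Matrix.SpecialLinearGroup (Fin 2) F → ℂ, Cfsg.IsIrrCharacter (Matrix.SpecialLinearGroup (Fin 2) F) χ → χ 1 = (Fintype.card F : ℂ) - 1 →
      ∃ θ : C →* ℂˣ, (∃ c : C, θ c ^ 2 ≠ 1) ∧
        ∀ c : C, (c : Matrix.SpecialLinearGroup (Fin 2) F) ∉ Subgroup.center (Matrix.SpecialLinearGroup (Fin 2) F) → χ c = -((θ c).val + (θ c)⁻¹.val)) := by
  classical
  have h2 := CfsgLib.SL2Borel.two_ne_zero_of_odd hodd
  have hsq : ∀ θ : C →* ℂˣ, θ ^ 2 ≠ 1 ↔ ∃ c : C, θ c ^ 2 ≠ 1 := by
    intro θ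
    rw [← not_forall, ne_eq, MonoidHom.ext_iff]
    rfl
  have hcinv : ∀ (θ : C →* ℂˣ) (c : C), (θ c)⁻¹.val = ((θ c⁻¹ : ℂˣ) : ℂ) := fun θ c => by rw [map_inv]
  constructor
  · intro θ hθ
    refine ⟨ds C θ, isIrr_ds C hC hcard ((hsq θ).mpr hθ), ds_one C hC hcard θ, ?_, ?_, ?_, ?_⟩
    · intro c hc
      rw [ds_ell C hC hcard θ c (not_not.mp fun h => hc ((mem_center_iff_not_ell C hC hcard c).mpr h)), hcinv]
    · intro c hc g
      have hn := (mem_center_iff_not_ell C hC hcard c).mp hc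
      obtain ⟨e, he, hce⟩ := (torus_cases C hcard c.2).resolve_left hn
      have hc' : c = ⟨bor e 0, bor_scalar_mem C hC hcard e he⟩ := Subtype.ext hce
      refine char_central_mul (isIrr_ds C hC hcard ((hsq θ).mpr hθ)) ?_ ?_ g
      · refine Complex.norm_eq_one_of_pow_eq_one (n := Nat.card C) ?_ Nat.card_pos.ne'
        rw [← Units.val_pow_eq_pow_val, ← map_pow, pow_card_eq_one', map_one, Units.val_one]
      · rw [hce, ds_bor_scalar C hC hcard θ he, ds_one C hC hcard θ, hc', mul_comm]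
    · intro g h01 h10 ha
      obtain ⟨a, -, ha', rfl⟩ := eq_bor_of_diag h01 h10 ha
      exact ds_bor_ne C hcard θ ha' 0
    · intro g h10 h00 h11 h01
      obtain ⟨a, x, ea, -, ex, rfl⟩ := eq_bor_of_lower h10
      obtain rfl : a = 1 := Units.ext (by rw [ea, h00, Units.val_one])
      rw [ds_bor_unip C hC hcard θ (one_pow 2) (by rw [ex]; exact h01),
        show (⟨bor 1 0, bor_scalar_mem C hC hcard 1 (one_pow 2)⟩ : C) = 1 from Subtype.ext bor_one, map_one,
        Units.val_one]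
  · intro χ hχ hd
    rcases eq_ds_of_degree C hC hcard hχ hd with ⟨θ, hθ, rfl⟩ | ⟨hq, -⟩ | ⟨h3, H, hH⟩
    · refine ⟨θ, (hsq θ).mp hθ, fun c hc => ?_⟩
      rw [ds_ell C hC hcard θ c (not_not.mp fun h => hc ((mem_center_iff_not_ell C hC hcard c).mpr h)), hcinv]
    · rw [hq] at hodd; exact absurd hodd (by decide)
    · have hne : (dsImg C).Nonempty := by
        rw [← Finset.card_pos]
        have := two_card_dsImg C hC hcard
        rw [card_scal_odd h2, h3] at this
        omega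
      obtain ⟨f, hf⟩ := hne
      obtain ⟨θ, hθ, -⟩ := (mem_dsImg C).mp hf
      refine ⟨θ, (hsq θ).mp hθ, fun c hc => ?_⟩
      have he : Ell (c : Matrix.SpecialLinearGroup (Fin 2) F) :=
        not_not.mp fun h => hc ((mem_center_iff_not_ell C hC hcard c).mpr h)
      rw [hcinv, theta_add_inv_eq_zero C hcard hC h3 hθ c he, neg_zero]
      rcases hH with rfl | rfl
      exacts [(H.values_ell hC hcard h2 c he).1, (H.values_ell hC hcard h2 c he).2.1]

end Cfsg.Agent.S2434
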