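import Cfsg.Statements.S2435
import Cfsg.Agent.Lib.SL2Char.Table
-- import your own Cfsg.Agent.* helpers here

set_option autoImplicit false
open Cfsg CfsgLib.SL2Char CfsgLib.CharTheory

namespace Cfsg.Agent.S2435

/-- Let F be a finite field with q elements, q odd and q ≥ 5, and χ an irreducible complex character of SL₂ over F. If χ has degree (q + 1)/2, then at a diagonal element with entry a, a² ≠ 1, χ takes the value 1 when a is a square in F and −1 otherwise. If χ has degree (q − 1)/2, then at an element g with no eigenvector in F² (so g has order dividing q + 1), χ takes the value −1 when g raised to the power (q + 1)/2 is the identity and the value 1 otherwise. -/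
theorem result {F : Type*} [Field F] [Fintype F] (hodd : Odd (Fintype.card F)) (hq : 5 ≤ Fintype.card F)
    (χ : Matrix.SpecialLinearGroup (Fin 2) F → ℂ) (hχ : Cfsg.IsIrrCharacter (Matrix.SpecialLinearGroup (Fin 2) F) χ) (g : Matrix.SpecialLinearGroup (Fin 2) F) :
    (χ 1 = (((Fintype.card F + 1) / 2 : ℕ) : ℂ) → (g : Matrix (Fin 2) (Fin 2) F) 0 1 = 0 → (g : Matrix (Fin 2) (Fin 2) F) 1 0 = 0 → (g : Matrix (Fin 2) (Fin 2) F) 0 0 ^ 2 ≠ 1 →
      (IsSquare ((g : Matrix (Fin 2) (Fin 2) F) 0 0) → χ g = 1) ∧ (¬ IsSquare ((g : Matrix (Fin 2) (Fin 2) F) 0 0) → χ g = -1)) ∧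
    (χ 1 = (((Fintype.card F - 1) / 2 : ℕ) : ℂ) → (∀ (c : F) (v : Fin 2 → F), v ≠ 0 → (g : Matrix (Fin 2) (Fin 2) F).mulVec v ≠ c • v) →
      (((g ^ ((Fintype.card F + 1) / 2)) : Matrix (Fin 2) (Fin 2) F) = 1 → χ g = -1) ∧ (((g ^ ((Fintype.card F + 1) / 2)) : Matrix (Fin 2) (Fin 2) F) ≠ 1 → χ g = 1)) := by
  classical
  obtain ⟨C, hC, hcard⟩ := exists_torus (F := F)
  have h2 := CfsgLib.SL2Borel.two_ne_zero_of_odd hodd
  obtain ⟨H⟩ := nonempty_halves C hC hcard h2
  constructor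
  · intro hd h01 h10 ha
    obtain ⟨a, ea, ha', rfl⟩ := eq_bor_of_diag h01 h10 ha
    have hval : χ (bor a 0) = eta F (a : F) := by
      rcases (H.mem_of_degree C hC hcard h2 hq hχ).1 hd with rfl | rfl
      exacts [(H.values_reg hC hcard h2 ha' 0).1, (H.values_reg hC hcard h2 ha' 0).2.1]
    rw [hval, ← ea, eta_apply]
    refine ⟨fun hs => ?_, fun hs => ?_⟩
    · rw [(quadraticChar_one_iff_isSquare a.ne_zero).mpr hs]; norm_num
    · rw [quadraticChar_neg_one_iff_not_isSquare.mpr hs]; norm_num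
  · intro hd hno
    obtain ⟨c, hc, hcon⟩ := eq_torus_of_ell C hC hcard ((noEigen_iff g).mp hno)
    have hval : χ g = -((H.θ₀ c : ℂˣ) : ℂ) := by
      rw [cl_eq (isClassFunction_irr hχ) hcon]
      rcases (H.mem_of_degree C hC hcard h2 hq hχ).2 hd with rfl | rfl
      exacts [(H.values_ell hC hcard h2 c hc).2.2.1, (H.values_ell hC hcard h2 c hc).2.2.2]
    have hiff : H.θ₀ c = 1 ↔ g ^ ((Fintype.card F + 1) / 2) = 1 := by
      obtain ⟨k, hk⟩ := isConj_iff.mp hcon
      rw [H.θ₀_eq_one_iff hC hcard h2, Subtype.ext_iff, Subgroup.coe_pow, Subgroup.coe_one, ← hk, conj_pow,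
        conj_eq_one_iff]
    refine ⟨fun h1 => ?_, fun h1 => ?_⟩
    · rw [hval, hiff.mpr (Subtype.ext (by simpa using h1)), Units.val_one]
    · rw [hval, (H.θ₀_val c).resolve_left (fun e => h1 ?_), neg_neg]
      simpa using congrArg Subtype.val (hiff.mp (Units.ext e))

end Cfsg.Agent.S2435
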