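import Cfsg.Statements.S2436
import Cfsg.Agent.Lib.SL2Char.McKay
-- import your own Cfsg.Agent.* helpers here

set_option autoImplicit false
open Cfsg CfsgLib.SL2McKay

namespace Cfsg.Agent.S2436

/-- Let F be a finite field with q elements, q odd, ℓ any prime and S a Sylow ℓ-subgroup of SL₂ over F with normaliser N. Then SL₂ and N have the same number of irreducible complex characters of degree not divisible by ℓ (the McKay equality holds for SL₂ over F at every prime). -/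
theorem result {F : Type*} [Field F] [Fintype F] (hodd : Odd (Fintype.card F)) (ℓ : ℕ) [Fact ℓ.Prime] (S : Sylow ℓ (Matrix.SpecialLinearGroup (Fin 2) F)) :
    Nat.card {χ : Cfsg.IrrCharacter (Matrix.SpecialLinearGroup (Fin 2) F) // ¬ ℓ ∣ Cfsg.charDegree (χ : Matrix.SpecialLinearGroup (Fin 2) F → ℂ)} =
      Nat.card {ψ : Cfsg.IrrCharacter (Subgroup.normalizer ((S : Subgroup (Matrix.SpecialLinearGroup (Fin 2) F)) : Set (Matrix.SpecialLinearGroup (Fin 2) F))) //
        ¬ ℓ ∣ Cfsg.charDegree (ψ : Subgroup.normalizer ((S : Subgroup (Matrix.SpecialLinearGroup (Fin 2) F)) : Set (Matrix.SpecialLinearGroup (Fin 2) F)) → ℂ)} := by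
  classical
  have h2 := CfsgLib.SL2Orders.two_ne_zero_of_odd hodd
  obtain ⟨p, hp⟩ := CharP.exists F
  haveI := hp
  haveI : Fact p.Prime := ⟨CharP.char_is_prime F p⟩
  have hℓ : ℓ.Prime := Fact.out
  obtain ⟨n, -, hn⟩ := FiniteField.card F p
  have hq := Fintype.one_lt_card (α := F)
  have hq2 : Fintype.card F % 2 = 1 := Nat.odd_iff.mp hodd
  by_cases hℓG : ℓ ∣ Nat.card (Matrix.SpecialLinearGroup (Fin 2) F)
  swap
  · have hbot : (S : Subgroup (Matrix.SpecialLinearGroup (Fin 2) F)) = ⊥ := by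
      apply Subgroup.eq_bot_of_card_eq
      rw [Sylow.card_eq_multiplicity, Nat.factorization_eq_zero_of_not_dvd hℓG, pow_zero]
    have htop : Subgroup.normalizer ((S : Subgroup (Matrix.SpecialLinearGroup (Fin 2) F)) : Set (Matrix.SpecialLinearGroup (Fin 2) F)) = ⊤ := by
      rw [hbot, Subgroup.normalizer_eq_top_iff]
      infer_instance
    rw [htop]
    exact (card_congr_equiv Subgroup.topEquiv (fun d => ¬ ℓ ∣ d)).symm
  rw [count_SL2 h2 (fun d => ¬ ℓ ∣ d)]
  by_cases hℓp : ℓ = p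
  · subst hℓp
    obtain ⟨g, hg⟩ := CfsgLib.SL2Sylow.sylow_SL ℓ S
    rw [hg, ← Subgroup.map_normalizer_eq_of_bijective _ (MulAut.conj g).bijective, normalizer_US]
    have e := (Bor F).equivMapOfInjective (MulAut.conj g).toMonoidHom (MulAut.conj g).injective
    rw [card_congr_equiv e.symm (fun d => ¬ ℓ ∣ d)]
    obtain ⟨hall, htot⟩ := irr_borel (F := F) ℓ h2
    rw [card_all (fun d => ¬ ℓ ∣ d) hall, htot]
    have hdq : ℓ ∣ Fintype.card F := by rw [hn]; exact dvd_pow_self _ n.ne_zero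
    have hnp : ∀ m : ℕ, (m = 1 ∨ m = Fintype.card F + 1 ∨ m = Fintype.card F - 1 ∨ 2 * m = Fintype.card F + 1 ∨
        2 * m = Fintype.card F - 1) → ¬ ℓ ∣ m := by
      intro m hm hd
      have key : ℓ ∣ Fintype.card F - 1 ∨ ℓ ∣ Fintype.card F + 1 ∨ ℓ ∣ 1 := by
        rcases hm with rfl | rfl | rfl | h | h
        · exact Or.inr (Or.inr hd)
        · exact Or.inr (Or.inl hd)
        · exact Or.inl hd
        · exact Or.inr (Or.inl (h ▸ Dvd.dvd.mul_left hd 2))
        · exact Or.inl (h ▸ Dvd.dvd.mul_left hd 2)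
      rcases key with h | h | h
      · exact CfsgLib.SL2Tori.not_dvd_char (F := F) ℓ ℓ hℓ (Or.inl h) rfl
      · exact CfsgLib.SL2Tori.not_dvd_char (F := F) ℓ ℓ hℓ (Or.inr h) rfl
      · exact hℓ.not_dvd_one h
    rw [if_pos (hnp 1 (Or.inl rfl)), if_neg (not_not.mpr hdq), if_pos (hnp _ (Or.inr (Or.inl rfl))),
      if_pos (hnp _ (Or.inr (Or.inr (Or.inl rfl)))),
      if_pos (hnp ((Fintype.card F + 1) / 2) (Or.inr (Or.inr (Or.inr (Or.inl (by omega)))))),
      if_pos (hnp ((Fintype.card F - 1) / 2) (Or.inr (Or.inr (Or.inr (Or.inr (by omega))))))]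
    omega
  by_cases hℓ2 : ℓ = 2
  · subst hℓ2
    rw [count_normalizer_two hodd S, if_pos (by omega), if_pos (by omega), if_neg (by omega), if_neg (by omega)]
    split_ifs <;> omega
  have hdvd : ℓ ∣ Fintype.card F - 1 ∨ ℓ ∣ Fintype.card F + 1 := by
    have e : Fintype.card F ^ 2 - 1 = (Fintype.card F + 1) * (Fintype.card F - 1) := by
      simpa using Nat.sq_sub_sq (Fintype.card F) 1
    rw [CfsgLib.SLCard.card_SL_two, e] at hℓG
    rcases hℓ.dvd_mul.mp hℓG with h | h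
    · rw [hn] at h
      exact absurd ((Nat.prime_dvd_prime_iff_eq hℓ (Fact.out : p.Prime)).mp (hℓ.dvd_of_dvd_pow h)) hℓp
    · exact (hℓ.dvd_mul.mp h).symm
  obtain ⟨x, hx, -, hN, hdA⟩ := CfsgLib.SL2Tori.sylow_odd hodd hℓ2 hdvd S
  rw [hN, count_normalizer_torus hodd hx hℓ hℓ2]
  have hnq : ¬ ℓ ∣ Fintype.card F := by
    rw [hn]
    exact fun h => hℓp ((Nat.prime_dvd_prime_iff_eq hℓ (Fact.out : p.Prime)).mp (hℓ.dvd_of_dvd_pow h))
  have hexcl : ℓ ∣ Fintype.card F - 1 → ℓ ∣ Fintype.card F + 1 → False := fun a b => by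
    have h := Nat.dvd_sub b a
    rw [show Fintype.card F + 1 - (Fintype.card F - 1) = 2 by omega] at h
    exact hℓ2 ((Nat.prime_dvd_prime_iff_eq hℓ Nat.prime_two).mp h)
  have hhalf : ∀ m : ℕ, ℓ ∣ 2 * m → ℓ ∣ m := fun m h =>
    (hℓ.dvd_mul.mp h).resolve_left fun h' => hℓ2 ((Nat.prime_dvd_prime_iff_eq hℓ Nat.prime_two).mp h')
  have e1 : 2 * ((Fintype.card F + 1) / 2) = Fintype.card F + 1 := by omega
  have e2 : 2 * ((Fintype.card F - 1) / 2) = Fintype.card F - 1 := by omega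
  rcases (CfsgLib.SL2Tori.isCyclic_centralizer hx).2 with hA | hA <;> rw [hA] at hdA ⊢
  · rw [if_pos (Nat.Prime.not_dvd_one hℓ), if_pos hnq, if_pos (fun h => hexcl hdA h),
      if_neg (not_not.mpr hdA), if_pos (fun h => hexcl hdA (e1 ▸ Dvd.dvd.mul_left h 2)),
      if_neg (not_not.mpr (hhalf _ (e2.symm ▸ hdA)))]
    omega
  · rw [if_pos (Nat.Prime.not_dvd_one hℓ), if_pos hnq, if_neg (not_not.mpr hdA),
      if_pos (fun h => hexcl h hdA), if_neg (not_not.mpr (hhalf _ (e1.symm ▸ hdA))),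
      if_pos (fun h => hexcl (e2 ▸ Dvd.dvd.mul_left h 2) hdA)]
    omega

end Cfsg.Agent.S2436
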