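import Cfsg.Statements.S2437
import Cfsg.Agent.Lib.SL2Borel

set_option autoImplicit false
open Cfsg

namespace Cfsg.Agent.S2437

/-- Over a finite field F with q elements, q odd, the upper triangular subgroup of SL₂ (a Borel subgroup, of order q(q − 1)) has exactly q + 3 conjugacy classes. -/
theorem result {F : Type*} [Field F] [Fintype F] (hodd : Odd (Fintype.card F)) :
    Nat.card (ConjClasses ((Cfsg.upperTriangularGL 2 F).comap Matrix.SpecialLinearGroup.toGL)) = Fintype.card F + 3 := by
  classical
  have h2 := CfsgLib.SL2Borel.two_ne_zero_of_odd hodd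
  set B := (Cfsg.upperTriangularGL 2 F).comap Matrix.SpecialLinearGroup.toGL
  let e := CfsgLib.SL2Borel.equivBorel (F := F)
  set q := Fintype.card F
  have hq : 2 ≤ q := Fintype.one_lt_card
  let c : Fˣ → F := fun a => (a : F) - ((a⁻¹ : Fˣ) : F)
  have hcomm : ∀ x y : B, Commute x y ↔ c (e x).1 * (e y).2 = c (e y).1 * (e x).2 := by
    intro x y
    obtain ⟨hx0, hx1, hx3⟩ := CfsgLib.SL2Borel.equivBorel_fst x
    obtain ⟨hy0, hy1, hy3⟩ := CfsgLib.SL2Borel.equivBorel_fst y
    have hx2 := CfsgLib.SL2Borel.mem_borel.mp x.2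
    have hy2 := CfsgLib.SL2Borel.mem_borel.mp y.2
    simp only [c, e, hx0, hx1, hx3, hy0, hy1, hy3]
    rw [commute_iff_eq]
    constructor
    · intro h
      have := congrArg (fun z : B => z.1.1 0 1) h
      simp only [Subgroup.coe_mul, Matrix.SpecialLinearGroup.coe_mul, Matrix.mul_apply, Fin.sum_univ_two] at this
      linear_combination this
    · intro h
      refine Subtype.ext (Subtype.ext ?_)
      simp only [Subgroup.coe_mul, Matrix.SpecialLinearGroup.coe_mul]
      ext i j
      fin_cases i <;> fin_cases j <;> simp [Matrix.mul_apply, Fin.sum_univ_two, hx2, hy2] <;>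
        (first | linear_combination h | linear_combination -h | ring)
  have hcard : Nat.card {p : B × B // Commute p.1 p.2} = (q + 3) * ((q - 1) * q) := by
    have e2 : {p : B × B // Commute p.1 p.2} ≃
        Σ ab : Fˣ × Fˣ, {xy : F × F // c ab.1 * xy.2 = c ab.2 * xy.1} :=
      { toFun := fun p => ⟨((e p.1.1).1, (e p.1.2).1), ⟨((e p.1.1).2, (e p.1.2).2), (hcomm _ _).mp p.2⟩⟩
        invFun := fun s => ⟨(e.symm (s.1.1, s.2.1.1), e.symm (s.1.2, s.2.1.2)),
          (hcomm _ _).mpr (by simpa using s.2.2)⟩
        left_inv := fun p => by ext <;> simp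
        right_inv := fun s => by
          exact Sigma.subtype_ext (by simp) (by simp) }
    have hfib : ∀ ab : Fˣ × Fˣ, Nat.card {xy : F × F // c ab.1 * xy.2 = c ab.2 * xy.1} =
        if ab.1 ^ 2 = 1 ∧ ab.2 ^ 2 = 1 then q * q else q := by
      rintro ⟨a, b⟩
      have hc : ∀ u : Fˣ, c u = 0 ↔ u ^ 2 = 1 := fun u => by
        simp only [c, sub_eq_zero]
        rw [Units.val_inj, eq_inv_iff_mul_eq_one, pow_two]
      simp only
      by_cases ha : a ^ 2 = 1
      · by_cases hb : b ^ 2 = 1
        · rw [if_pos ⟨ha, hb⟩, Nat.card_congr (Equiv.subtypeUnivEquiv fun xy => by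
            rw [(hc a).mpr ha, (hc b).mpr hb, zero_mul, zero_mul]), Nat.card_prod, Nat.card_eq_fintype_card]
        · rw [if_neg fun h => hb h.2]
          have hb' : c b ≠ 0 := fun h => hb ((hc b).mp h)
          rw [show q = Nat.card F from Nat.card_eq_fintype_card.symm]
          exact Nat.card_congr
            { toFun := fun s => s.1.2
              invFun := fun y => ⟨(c a * y / c b, y), by field_simp⟩
              left_inv := fun s => by
                obtain ⟨⟨x, y⟩, h⟩ := s
                ext
                · simp only; rw [h]; field_simp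
                · rfl
              right_inv := fun y => rfl }
      · rw [if_neg fun h => ha h.1]
        have ha' : c a ≠ 0 := fun h => ha ((hc a).mp h)
        rw [show q = Nat.card F from Nat.card_eq_fintype_card.symm]
        exact Nat.card_congr
          { toFun := fun s => s.1.1
            invFun := fun x => ⟨(x, c b * x / c a), by field_simp⟩
            left_inv := fun s => by
              obtain ⟨⟨x, y⟩, h⟩ := s
              ext
              · rfl
              · simp only; rw [← h]; field_simp
            right_inv := fun x => rfl }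
    rw [Nat.card_congr e2, Nat.card_sigma, Finset.sum_congr rfl fun ab _ => hfib ab, Finset.sum_ite,
      Finset.sum_const, Finset.sum_const, smul_eq_mul, smul_eq_mul]
    have h4 : (Finset.univ.filter fun ab : Fˣ × Fˣ => ab.1 ^ 2 = 1 ∧ ab.2 ^ 2 = 1).card = 4 := by
      rw [← Fintype.card_subtype, ← Nat.card_eq_fintype_card,
        Nat.card_congr (Equiv.subtypeProdEquivProd (p := fun a : Fˣ => a ^ 2 = 1) (q := fun a : Fˣ => a ^ 2 = 1)),
        Nat.card_prod, CfsgLib.SL2Borel.card_sq_eq_one h2]
    have htot := Finset.card_filter_add_card_filter_not (s := (Finset.univ : Finset (Fˣ × Fˣ)))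
      (fun ab : Fˣ × Fˣ => ab.1 ^ 2 = 1 ∧ ab.2 ^ 2 = 1)
    rw [Finset.card_univ, Fintype.card_prod, Fintype.card_units] at htot
    rw [h4] at htot ⊢
    obtain ⟨r, hr⟩ : ∃ r, q = r + 1 := ⟨q - 1, by omega⟩
    simp only [q] at hr htot ⊢
    rw [hr] at htot ⊢
    simp only [Nat.add_sub_cancel] at htot ⊢
    nlinarith [htot]
  rw [card_comm_eq_card_conjClasses_mul_card, CfsgLib.SL2Borel.card_borel] at hcard
  exact Nat.eq_of_mul_eq_mul_right (Nat.mul_pos (by omega) (by omega)) hcard

end Cfsg.Agent.S2437
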