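import Cfsg.Statements.S2438
import Cfsg.Agent.Lib.SL2Char.Table
-- import your own Cfsg.Agent.* helpers here

set_option autoImplicit false
open Cfsg CfsgLib.SL2Char CfsgLib.CharTheory

namespace Cfsg.Agent.S2438

/-- Let F be a finite field with q elements, q odd, q ≥ 5, U the upper unitriangular subgroup of SL₂ over F, and χ an irreducible complex character. The sum of the values of χ over U equals 2q, q, 0, q, 0 according as the degree of χ is q + 1, q, q − 1, (q + 1)/2, (q − 1)/2; so among these five degrees the sum vanishes exactly for the degrees q − 1 and (q − 1)/2, i.e. the irreducible characters of those two degrees are the ones whose restriction to U does not contain the trivial character (the cuspidal characters), while those of degree q + 1, q and (q + 1)/2 are not cuspidal. -/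
theorem result {F : Type*} [Field F] [Fintype F] [DecidableEq F] (hodd : Odd (Fintype.card F)) (hq : 5 ≤ Fintype.card F)
    (χ : Matrix.SpecialLinearGroup (Fin 2) F → ℂ) (hχ : Cfsg.IsIrrCharacter (Matrix.SpecialLinearGroup (Fin 2) F) χ) :
    (χ 1 = (Fintype.card F : ℂ) + 1 →
      (∑ g : Matrix.SpecialLinearGroup (Fin 2) F, if (g : Matrix (Fin 2) (Fin 2) F) 1 0 = 0 ∧ (g : Matrix (Fin 2) (Fin 2) F) 0 0 = 1 ∧ (g : Matrix (Fin 2) (Fin 2) F) 1 1 = 1 then χ g else 0) = 2 * (Fintype.card F : ℂ)) ∧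
    (χ 1 = (Fintype.card F : ℂ) →
      (∑ g : Matrix.SpecialLinearGroup (Fin 2) F, if (g : Matrix (Fin 2) (Fin 2) F) 1 0 = 0 ∧ (g : Matrix (Fin 2) (Fin 2) F) 0 0 = 1 ∧ (g : Matrix (Fin 2) (Fin 2) F) 1 1 = 1 then χ g else 0) = (Fintype.card F : ℂ)) ∧
    (χ 1 = (Fintype.card F : ℂ) - 1 →
      (∑ g : Matrix.SpecialLinearGroup (Fin 2) F, if (g : Matrix (Fin 2) (Fin 2) F) 1 0 = 0 ∧ (g : Matrix (Fin 2) (Fin 2) F) 0 0 = 1 ∧ (g : Matrix (Fin 2) (Fin 2) F) 1 1 = 1 then χ g else 0) = 0) ∧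
    (χ 1 = (((Fintype.card F + 1) / 2 : ℕ) : ℂ) →
      (∑ g : Matrix.SpecialLinearGroup (Fin 2) F, if (g : Matrix (Fin 2) (Fin 2) F) 1 0 = 0 ∧ (g : Matrix (Fin 2) (Fin 2) F) 0 0 = 1 ∧ (g : Matrix (Fin 2) (Fin 2) F) 1 1 = 1 then χ g else 0) = (Fintype.card F : ℂ)) ∧
    (χ 1 = (((Fintype.card F - 1) / 2 : ℕ) : ℂ) →
      (∑ g : Matrix.SpecialLinearGroup (Fin 2) F, if (g : Matrix (Fin 2) (Fin 2) F) 1 0 = 0 ∧ (g : Matrix (Fin 2) (Fin 2) F) 0 0 = 1 ∧ (g : Matrix (Fin 2) (Fin 2) F) 1 1 = 1 then χ g else 0) = 0) := by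
  classical
  obtain ⟨C, hC, hcard⟩ := exists_torus (F := F)
  have h2 := CfsgLib.SL2Borel.two_ne_zero_of_odd hodd
  obtain ⟨H⟩ := nonempty_halves C hC hcard h2
  obtain ⟨D, E, -, -, -, -, hval⟩ := H.values_unip hC hcard h2
  have hone : (⟨bor 1 0, bor_scalar_mem C hC hcard 1 (one_pow 2)⟩ : C) = 1 := Subtype.ext bor_one
  rw [sum_unitriangular]
  refine ⟨fun hd => ?_, fun hd => ?_, fun hd => ?_, fun hd => ?_, fun hd => ?_⟩
  · obtain ⟨α, -, rfl⟩ := eq_ps_of_degree C hC hcard hχ hd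
    rw [sum_line_eq _ 1 (fun x hx => by rw [ps_bor_unip α (one_pow 2) hx, Units.val_one, map_one]), ps_one]
    ring
  · obtain rfl := eq_st_of_degree C hC hcard hχ hd
    rw [sum_line_eq _ 0 (fun x hx => st_bor_unip (one_pow 2) hx), st_one]
    ring
  · rcases eq_ds_of_degree C hC hcard hχ hd with ⟨θ, -, rfl⟩ | ⟨h, -⟩ | ⟨h, -⟩
    · rw [sum_line_eq _ (-1) (fun x hx => by
        rw [ds_bor_unip C hC hcard θ (one_pow 2) hx, hone, map_one, Units.val_one]), ds_one C hC hcard]
      ring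
    · omega
    · omega
  · rcases (H.mem_of_degree C hC hcard h2 hq hχ).1 hd with rfl | rfl
    · rw [sum_line_half h2 _ 1 D (fun x hx => by
        rw [(hval 1 (one_pow 2) x hx).1, Units.val_one, map_one, one_mul, one_mul]), H.p₁_one]
      ring
    · rw [sum_line_half h2 _ 1 (-D) (fun x hx => by
        rw [(hval 1 (one_pow 2) x hx).2.1, Units.val_one, map_one, one_mul, one_mul]; ring), H.p₂_one]
      ring
  · rcases (H.mem_of_degree C hC hcard h2 hq hχ).2 hd with rfl | rfl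
    · rw [sum_line_half h2 _ (-1) E (fun x hx => by
        rw [(hval 1 (one_pow 2) x hx).2.2.1, hone, map_one, Units.val_one, Units.val_one, one_mul, one_mul]),
        H.m₁_one]
      ring
    · rw [sum_line_half h2 _ (-1) (-E) (fun x hx => by
        rw [(hval 1 (one_pow 2) x hx).2.2.2, hone, map_one, Units.val_one, Units.val_one, one_mul, one_mul]; ring),
        H.m₂_one]
      ring

end Cfsg.Agent.S2438
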