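import Cfsg.Statements.S2442
import Cfsg.Agent.Lib.GLCusp.Count

set_option autoImplicit false
open scoped MatrixGroups
open Cfsg

namespace Cfsg.Agent.S2442

open Classical in
/-- Let F be a finite field with q elements and n ≥ 2. Call a complex character χ of GL_n over F cuspidal when, for every 0 < m < n, the sum of χ over the subgroup of matrices that agree with the identity outside the upper right m × (n − m) block vanishes (the restriction of χ to the unipotent radical of each maximal standard parabolic subgroup contains no principal constituent). Then GL_n has at least φ(qⁿ − 1)/n distinct cuspidal irreducible characters of degree (q − 1)(q² − 1)⋯(q^(n−1) − 1), φ being Euler's function (in particular at least one). -/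
theorem result {F : Type*} [Field F] [Fintype F] [DecidableEq F] (n : ℕ) (hn : 2 ≤ n) :
    Nat.totient (Fintype.card F ^ n - 1) / n ≤
      Nat.card {χ : Cfsg.IrrCharacter (GL (Fin n) F) //
        (χ : GL (Fin n) F → ℂ) 1 = ∏ i ∈ Finset.Ico 1 n, ((Fintype.card F : ℂ) ^ i - 1) ∧
        ∀ m : ℕ, 0 < m → m < n →
          (∑ g : GL (Fin n) F,
            if (∀ i j : Fin n, ¬ (i.val < m ∧ m ≤ j.val) → (g : Matrix (Fin n) (Fin n) F) i j = (1 : Matrix (Fin n) (Fin n) F) i j)
            then (χ : GL (Fin n) F → ℂ) g else 0) = 0} := by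
  refine (CfsgLib.GLCusp.cuspidal_count (F := F) n (by omega)).trans ?_
  have hmem : ∀ I : {I : CfsgLib.GLCusp.Item F // I.1 = n}, ∃ χ : Cfsg.IrrCharacter (GL (Fin n) F),
      ((χ : GL (Fin n) F → ℂ) 1 = ∏ i ∈ Finset.Ico 1 n, ((Fintype.card F : ℂ) ^ i - 1) ∧
        ∀ m : ℕ, 0 < m → m < n →
          (∑ g : GL (Fin n) F,
            if (∀ i j : Fin n, ¬ (i.val < m ∧ m ≤ j.val) → (g : Matrix (Fin n) (Fin n) F) i j = (1 : Matrix (Fin n) (Fin n) F) i j)
            then (χ : GL (Fin n) F → ℂ) g else 0) = 0) ∧ HEq (χ : GL (Fin n) F → ℂ) I.1.2.1 := by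
    rintro ⟨⟨d, σ, hd, hσ, hc⟩, rfl⟩
    refine ⟨⟨σ, hσ⟩, ⟨?_, fun m hm hmn => ?_⟩, HEq.rfl⟩
    · have h1 := (CfsgLib.GLCusp.inner_Γ_irr hσ).resolve_left (CfsgLib.GLCusp.Item.generic ⟨d, σ, hd, hσ, hc⟩)
      have h2 := CfsgLib.GLCusp.degree_cusp (CfsgLib.CharTheory.isCharacter_of_irr hσ) hc hd
      rw [h1, mul_one] at h2
      exact h2
    · have h := hc (fun i : Fin d => i.val < m) ⟨⟨0, hd⟩, hm⟩ ⟨⟨m, hmn⟩, lt_irrefl _⟩
      rw [← Finset.sum_filter]
      refine Eq.trans ?_ h
      refine Finset.sum_subtype _ (fun g => ?_) _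
      rw [Finset.mem_filter]
      constructor
      · exact fun hg i j hij => hg.2 i j fun h' => hij ⟨h'.1, not_lt.mpr h'.2⟩
      · exact fun hg => ⟨Finset.mem_univ _, fun i j hij => hg i j fun h' => hij ⟨h'.1, not_lt.mp h'.2⟩⟩
  choose χ hχ hheq using hmem
  refine Nat.card_le_card_of_injective (fun I => ⟨χ I, hχ I⟩) fun I I' h => ?_
  have h' : χ I = χ I' := congrArg Subtype.val h
  have h1 := hheq I
  have h2 := hheq I'
  rw [h'] at h1
  obtain ⟨⟨d, σ, hσ⟩, hI⟩ := I
  obtain ⟨⟨d', σ', hσ'⟩, hI'⟩ := I'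
  simp only at hI hI'
  subst hI hI'
  have : σ = σ' := eq_of_heq (h1.symm.trans h2)
  subst this
  rfl

end Cfsg.Agent.S2442
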