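import Cfsg.Statements.S2444
import Cfsg.Agent.Lib.SLCommutator.Small

set_option autoImplicit false
open Cfsg

namespace Cfsg.Agent.S2444

/-- In the special linear group SL(n,F) over a finite field F, with n ≥ 2 and (n, |F|) not (2,2) or (2,3), every element is a commutator a·b·a⁻¹·b⁻¹ of two elements of SL(n,F). -/
theorem result {F : Type*} [Field F] [Fintype F] (n : ℕ) (hn : 2 ≤ n) (hex : n = 2 → 4 ≤ Fintype.card F) :
    ∀ g : Matrix.SpecialLinearGroup (Fin n) F, ∃ a b : Matrix.SpecialLinearGroup (Fin n) F, g = a * b * a⁻¹ * b⁻¹ := by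
  intro g
  classical
  have hdet : LinearMap.det (Matrix.toLin' g.1) = 1 := by rw [LinearMap.det_toLin', g.2]
  have hgood : CfsgLib.SLCommutator.OpGood (Matrix.toLin' g.1) := by
    by_cases hq : 4 ≤ Fintype.card F
    · exact CfsgLib.SLCommutator.opGood_large hq (by rw [Module.finrank_fin_fun]; exact hn) _ hdet
    · have hn3 : 3 ≤ n := by
        by_contra h
        exact hq (hex (by omega))
      refine CfsgLib.SLCommutator.opGood_small (fun d hd => ?_) (by rw [Module.finrank_fin_fun]; exact hn3) _ hdet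
      have h := FiniteField.pow_card_sub_one_eq_one d hd
      have := Fintype.one_lt_card (α := F)
      rcases (show Fintype.card F = 2 ∨ Fintype.card F = 3 by omega) with c | c <;> rw [c] at h <;> norm_num at h
      · rw [h, one_mul]
      · rcases h with rfl | rfl <;> norm_num
  obtain ⟨a, b, ha, hb, h⟩ := CfsgLib.SLCommutator.good_of_opGood hgood
  obtain ⟨A, hA⟩ : ∃ A : Matrix.SpecialLinearGroup (Fin n) F, A.1 = a := ⟨⟨a, ha⟩, rfl⟩
  obtain ⟨B, hB⟩ : ∃ B : Matrix.SpecialLinearGroup (Fin n) F, B.1 = b := ⟨⟨b, hb⟩, rfl⟩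
  subst hA hB
  refine ⟨A, B, ?_⟩
  have h' : g * (B * A) = A * B := by
    apply Subtype.ext
    simp only [Matrix.SpecialLinearGroup.coe_mul]
    exact h
  calc g = g * (B * A) * (B * A)⁻¹ := (mul_inv_cancel_right _ _).symm
    _ = _ := by rw [h', mul_inv_rev]; simp only [mul_assoc]

end Cfsg.Agent.S2444
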