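import Cfsg.Statements.S2450
import Cfsg.Agent.Lib.PSL2.ClassProduct

set_option autoImplicit false
open Cfsg

namespace Cfsg.Agent.S2450

/-- The Arad–Herzog conjecture for PSL(2,q): let F be a finite field with q ≥ 4 elements. For any two non-identity elements a, b of PSL(2,F), the set of products of a conjugate of a with a conjugate of b is not a single conjugacy class. -/
theorem result {F : Type*} [Field F] [Fintype F] (h4 : 4 ≤ Fintype.card F)
    (a b : Matrix.ProjectiveSpecialLinearGroup (Fin 2) F) (ha : a ≠ 1) (hb : b ≠ 1) (c : Matrix.ProjectiveSpecialLinearGroup (Fin 2) F) :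
    {g : Matrix.ProjectiveSpecialLinearGroup (Fin 2) F | ∃ u v : Matrix.ProjectiveSpecialLinearGroup (Fin 2) F, g = (u * a * u⁻¹) * (v * b * v⁻¹)} ≠ {g | IsConj c g} := by
  intro he
  obtain ⟨A, rfl⟩ := CfsgLib.PSL2Product.mk_surjective a
  obtain ⟨B, rfl⟩ := CfsgLib.PSL2Product.mk_surjective b
  obtain ⟨C, rfl⟩ := CfsgLib.PSL2Product.mk_surjective c
  obtain ⟨u, hu1, hu2⟩ := CfsgLib.PSL2Product.exists_trace_ne h4
    (CfsgLib.PSL2Product.not_scalar_of_mk ha) (CfsgLib.PSL2Product.not_scalar_of_mk hb) C.1.trace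
  have hmem : IsConj (CfsgLib.PSL2.mk C) (CfsgLib.PSL2.mk (u * A * u⁻¹ * B)) := by
    have : CfsgLib.PSL2.mk (u * A * u⁻¹ * B) ∈ {g | IsConj (CfsgLib.PSL2.mk C) g} := by
      rw [← he]
      exact ⟨CfsgLib.PSL2.mk u, 1, by simp⟩
    exact this
  obtain ⟨k, hk⟩ := isConj_iff.mp hmem
  obtain ⟨K, rfl⟩ := CfsgLib.PSL2Product.mk_surjective k
  rw [← map_inv, ← map_mul, ← map_mul, CfsgLib.PSL2.mk_eq_mk] at hk
  have ht : (K * C * K⁻¹).1.trace = C.1.trace := by
    have h1 : (K⁻¹).1 * (K.1 * C.1) = C.1 := congrArg Subtype.val (inv_mul_cancel_left K C)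
    show (K.1 * C.1 * (K⁻¹).1).trace = _
    rw [Matrix.trace_mul_comm, h1]
  rcases hk with e | e
  · exact hu1 (by rw [e, ht])
  · exact hu2 (by rw [e, Matrix.trace_neg, ht])

end Cfsg.Agent.S2450
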