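import Cfsg.Statements.S2455
import Cfsg.Agent.Lib.PSL2.ClassProduct

set_option autoImplicit false
open Cfsg

namespace Cfsg.Agent.S2455

/-- A strong covering result in the direction of Thompson's conjecture (non-identity elements) for PSL(2,q), q odd: let F be a finite field of odd characteristic p with at least 5 elements and let x ∈ PSL(2,F) have order greater than 2 and not divisible by p (so x is not unipotent). Then every non-identity element of PSL(2,F) is a product of two conjugates of x. -/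
theorem result {F : Type*} [Field F] [Fintype F] (p : ℕ) [Fact p.Prime] [CharP F p] (hp : p ≠ 2) (h5 : 5 ≤ Fintype.card F)
    (x : Matrix.ProjectiveSpecialLinearGroup (Fin 2) F) (hx2 : 2 < orderOf x) (hxp : ¬ p ∣ orderOf x) : ∀ g : Matrix.ProjectiveSpecialLinearGroup (Fin 2) F, g ≠ 1 → ∃ u v : Matrix.ProjectiveSpecialLinearGroup (Fin 2) F, g = (u * x * u⁻¹) * (v * x * v⁻¹) := by
  intro g hg
  obtain ⟨A, hA⟩ := CfsgLib.PSL2Product.mk_surjective x
  have h0 : A.1.trace ≠ 0 := fun e => by
    have h2 : x ^ 2 = 1 := hA ▸ CfsgLib.PSL2Product.sq_eq_one_of_trace e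
    have := Nat.le_of_dvd (by norm_num) (orderOf_dvd_of_pow_eq_one h2)
    omega
  have h4 : A.1.trace ^ 2 ≠ 4 := fun e => by
    have hxp' : x ^ p = 1 := hA ▸ CfsgLib.PSL2Product.pow_char_eq_one p e
    rcases (Nat.dvd_prime (Fact.out : p.Prime)).mp (orderOf_dvd_of_pow_eq_one hxp') with e1 | e1
    · omega
    · exact hxp (by rw [e1])
  have h2 : (2 : F) ≠ 0 := by
    refine Ring.two_ne_zero ?_
    rw [ringChar.eq F p]
    exact hp
  obtain ⟨G, hG⟩ := CfsgLib.PSL2Product.mk_surjective g
  have hG0 := CfsgLib.PSL2Product.not_scalar_of_mk (G := G) (hG ▸ hg)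
  by_cases hg4 : G.1.trace ^ 2 ≠ 4
  · exact CfsgLib.PSL2Product.mem_sq h4 hA hG hG0 (Or.inl hg4)
  push Not at hg4
  have hneg : A.1.trace ≠ (-1) * A.1.trace := fun e => h0
    ((mul_eq_zero.mp (show (2 : F) * A.1.trace = 0 by linear_combination e)).resolve_left h2)
  rcases mul_eq_zero.mp (show (G.1.trace - 2) * (G.1.trace + 2) = 0 by linear_combination hg4) with e | e
  · let N : Matrix.SpecialLinearGroup (Fin 2) F := ⟨-G.1, by rw [Matrix.det_neg, G.2]; simp⟩
    have hN : CfsgLib.PSL2.mk N = g := by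
      rw [← hG, eq_comm, CfsgLib.PSL2.mk_eq_mk]; exact Or.inr rfl
    refine CfsgLib.PSL2Product.mem_sq h4 hA hN (fun a ea => hG0 (-a) ?_) (Or.inr ⟨-1, ?_, by ring, Or.inl hneg⟩)
    · rw [neg_smul, ← ea]; exact (neg_neg _).symm
    · show (-G.1).trace = _
      rw [Matrix.trace_neg]; linear_combination -e
  · exact CfsgLib.PSL2Product.mem_sq h4 hA hG hG0
      (Or.inr ⟨-1, by linear_combination e, by ring, Or.inl hneg⟩)

end Cfsg.Agent.S2455
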