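import Cfsg.Statements.S2456
import Cfsg.Agent.Lib.PSL2.ClassProduct

set_option autoImplicit false
open Cfsg

namespace Cfsg.Agent.S2456

/-- A strong covering result in the direction of Thompson's conjecture (non-identity elements) for PSL(2,q), q even: let F be a finite field of characteristic 2 with q ≥ 4 elements and let x ∈ PSL(2,F) have order greater than 2 and not dividing q + 1. Then every non-identity element of PSL(2,F) is a product of two conjugates of x. -/
theorem result {F : Type*} [Field F] [Fintype F] [CharP F 2] (h4 : 4 ≤ Fintype.card F)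
    (x : Matrix.ProjectiveSpecialLinearGroup (Fin 2) F) (hx2 : 2 < orderOf x) (hxq : ¬ orderOf x ∣ Fintype.card F + 1) : ∀ g : Matrix.ProjectiveSpecialLinearGroup (Fin 2) F, g ≠ 1 → ∃ u v : Matrix.ProjectiveSpecialLinearGroup (Fin 2) F, g = (u * x * u⁻¹) * (v * x * v⁻¹) := by
  intro g hg
  obtain ⟨A, hA⟩ := CfsgLib.PSL2Product.mk_surjective x
  have h2 : (2 : F) = 0 := CharTwo.two_eq_zero
  have h0 : A.1.trace ≠ 0 := fun e => by
    have h2 : x ^ 2 = 1 := hA ▸ CfsgLib.PSL2Product.sq_eq_one_of_trace e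
    have := Nat.le_of_dvd (by norm_num) (orderOf_dvd_of_pow_eq_one h2)
    omega
  have h4' : A.1.trace ^ 2 ≠ 4 := fun e => h0 (pow_eq_zero_iff two_ne_zero |>.mp
    (by rw [e]; linear_combination 2 * h2))
  have hroot : ∃ u : F, u * u - A.1.trace * u + 1 = 0 := by
    by_contra hcon
    push Not at hcon
    apply hxq
    have hz : Nat.card {s : F // s * s + A.1.trace * s + 1 = 0} = 0 := by
      have : IsEmpty {s : F // s * s + A.1.trace * s + 1 = 0} :=
        ⟨fun s => hcon s.1 (by linear_combination s.2 - (A.1.trace * s.1) * h2)⟩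
      exact Nat.card_of_isEmpty
    have hc := CfsgLib.SL2Centralizer.card_centralizer h4'
    rw [hz, add_zero] at hc
    rw [← hc, ← hA]
    refine (orderOf_map_dvd _ A).trans ?_
    have hmem : A ∈ Subgroup.centralizer ({A} : Set (Matrix.SpecialLinearGroup (Fin 2) F)) :=
      Subgroup.mem_centralizer_singleton_iff.mpr rfl
    exact Subgroup.orderOf_dvd_natCard _ hmem
  obtain ⟨G, hG⟩ := CfsgLib.PSL2Product.mk_surjective g
  have hG0 := CfsgLib.PSL2Product.not_scalar_of_mk (G := G) (hG ▸ hg)
  by_cases hg4 : G.1.trace ^ 2 ≠ 4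
  · exact CfsgLib.PSL2Product.mem_sq h4' hA hG hG0 (Or.inl hg4)
  push Not at hg4
  refine CfsgLib.PSL2Product.mem_sq h4' hA hG hG0 (Or.inr ⟨1, ?_, mul_one 1, Or.inr hroot⟩)
  have : G.1.trace ^ 2 = 0 := by rw [hg4]; linear_combination 2 * h2
  rw [pow_eq_zero_iff two_ne_zero |>.mp this, h2, zero_mul]

end Cfsg.Agent.S2456
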