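import Cfsg.Statements.S2459
import Cfsg.Agent.Lib.SL3.ClassSquareThree
import Mathlib.FieldTheory.Finite.Basic
import Mathlib.RingTheory.IntegralDomain

set_option autoImplicit false
open Cfsg

namespace Cfsg.Agent.S2459

/-- A form of Thompson's conjecture for PSL(3,q), q > 2 (covering the non-identity elements), with a semisimple class: for F a finite field of characteristic p with more than 2 elements there is an element x of PSL(3,F) of order prime to p such that every non-identity element of PSL(3,F) is a product of two conjugates of x. -/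
theorem result {F : Type*} [Field F] [Fintype F] (p : ℕ) [Fact p.Prime] [CharP F p] (h3 : 3 ≤ Fintype.card F) :
    ∃ x : Matrix.ProjectiveSpecialLinearGroup (Fin 3) F, ¬ p ∣ orderOf x ∧ ∀ g : Matrix.ProjectiveSpecialLinearGroup (Fin 3) F, g ≠ 1 → ∃ u v : Matrix.ProjectiveSpecialLinearGroup (Fin 3) F, g = (u * x * u⁻¹) * (v * x * v⁻¹) := by
  classical
  obtain ⟨n, hpp, hcard⟩ := FiniteField.card F p
  have hpc : p ∣ Fintype.card F := hcard ▸ dvd_pow_self p (PNat.ne_zero n)
  suffices hX : ∃ (X : Matrix.SpecialLinearGroup (Fin 3) F) (k : ℕ), X ^ k = 1 ∧ ¬ p ∣ k ∧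
      ∀ G : Matrix.SpecialLinearGroup (Fin 3) F,
        (∀ r : F, G.1 ≠ r • (1 : Matrix (Fin 3) (Fin 3) F)) → CfsgLib.SL3Square.Good X G by
    obtain ⟨X, k, hk, hpk, hgood⟩ := hX
    let π : Matrix.SpecialLinearGroup (Fin 3) F →* Matrix.ProjectiveSpecialLinearGroup (Fin 3) F :=
      QuotientGroup.mk' _
    refine ⟨π X, fun h => hpk (h.trans (orderOf_dvd_of_pow_eq_one (by rw [← map_pow, hk, map_one]))),
      fun g hg => ?_⟩
    obtain ⟨G, rfl⟩ : ∃ G, π G = g := QuotientGroup.mk'_surjective _ g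
    obtain ⟨u, v, huv⟩ := hgood G (fun r hr => hg (by
      show QuotientGroup.mk' _ G = 1
      rw [QuotientGroup.mk'_apply, QuotientGroup.eq_one_iff, Matrix.SpecialLinearGroup.mem_center_iff]
      refine ⟨r, ?_, by rw [hr, Matrix.smul_one_eq_diagonal]; rfl⟩
      have hd := G.2
      rw [hr, Matrix.det_smul, Matrix.det_one, mul_one] at hd
      exact hd))
    exact ⟨π u, π v, by rw [huv]; simp⟩
  by_cases hq : 4 ≤ Fintype.card F
  · obtain ⟨ζ, hζ⟩ := IsCyclic.exists_generator (α := Fˣ)
    have ho : orderOf ζ = Fintype.card F - 1 := by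
      rw [orderOf_eq_card_of_forall_mem_zpowers hζ, Nat.card_eq_fintype_card, Fintype.card_units]
    have h2 : ∀ e : ℕ, 0 < e → e < 3 → (ζ : F) ^ e ≠ 1 := fun e he he3 h => by
      have : ζ ^ e = 1 := Units.ext (by rw [Units.val_pow_eq_pow_val, Units.val_one]; exact h)
      have := Nat.le_of_dvd he (orderOf_dvd_of_pow_eq_one this)
      omega
    have hz0 : (ζ : F) ≠ 0 := ζ.ne_zero
    have hζ1 : (1 : F) ≠ ζ := fun e => h2 1 one_pos (by norm_num) (by rw [pow_one, ← e])
    have hzz : (1 : F) * ζ * (ζ : F)⁻¹ = 1 := by rw [one_mul, mul_inv_cancel₀ hz0]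
    refine ⟨CfsgLib.SL3Square.dg 1 (ζ : F) (ζ : F)⁻¹ hzz, Fintype.card F - 1, ?_, ?_,
      fun G hG => CfsgLib.SL3Square.good_split G hG hzz hζ1 ?_ ?_⟩
    · apply Subtype.ext
      have e1 : (ζ : F) ^ (Fintype.card F - 1) = 1 := FiniteField.pow_card_sub_one_eq_one _ hz0
      have e2 : ((ζ : F)⁻¹) ^ (Fintype.card F - 1) = 1 := by rw [inv_pow, e1, inv_one]
      have hd : (CfsgLib.SL3Square.dg 1 (ζ : F) (ζ : F)⁻¹ hzz).1 = Matrix.diagonal ![1, (ζ : F), (ζ : F)⁻¹] := by
        ext i j
        fin_cases i <;> fin_cases j <;> simp [CfsgLib.SL3Square.dg]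
      rw [Matrix.SpecialLinearGroup.coe_pow, hd, Matrix.diagonal_pow, Matrix.SpecialLinearGroup.coe_one,
        ← Matrix.diagonal_one]
      congr 1
      funext i
      fin_cases i <;> simp [e1, e2]
    · intro h
      have := Nat.dvd_sub hpc h
      rw [show Fintype.card F - (Fintype.card F - 1) = 1 by omega] at this
      exact hpp.one_lt.ne' (Nat.dvd_one.mp this)
    · exact fun e => hζ1 (inv_eq_one.mp e.symm).symm
    · exact fun e => h2 2 two_pos (by norm_num) (by rw [pow_two]; nth_rewrite 2 [e]; exact mul_inv_cancel₀ hz0)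
  · have hc : Fintype.card F = 3 := by omega
    obtain rfl : p = 3 := (Nat.prime_dvd_prime_iff_eq hpp Nat.prime_three).mp (hc ▸ hpc)
    have hbij : Function.Bijective (ZMod.castHom dvd_rfl F : ZMod 3 →+* F) :=
      (Fintype.bijective_iff_injective_and_card _).mpr ⟨RingHom.injective _, by rw [ZMod.card, hc]⟩
    let f := RingEquiv.ofBijective _ hbij
    let φ := Matrix.SpecialLinearGroup.map (n := Fin 3) f.toRingHom
    refine ⟨φ CfsgLib.SL3Square.Three.X₀, 13,
      by rw [← map_pow, CfsgLib.SL3Square.Three.X₀_pow, map_one], by norm_num, fun G hG => ?_⟩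
    have hback : φ (Matrix.SpecialLinearGroup.map f.symm.toRingHom G) = G := by
      apply Subtype.ext
      ext i j
      exact f.apply_symm_apply _
    obtain ⟨u, v, huv⟩ := CfsgLib.SL3Square.Three.good (Matrix.SpecialLinearGroup.map f.symm.toRingHom G)
      (fun r hr => hG (f r) (by
        ext i j
        have := congrArg f (congrFun (congrFun hr i) j)
        rw [show (Matrix.SpecialLinearGroup.map f.symm.toRingHom G).1 i j = f.symm (G.1 i j) from rfl,
          f.apply_symm_apply] at this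
        rw [this]
        by_cases hij : i = j <;> simp [hij]))
    exact ⟨φ u, φ v, by rw [← hback, huv]; simp⟩

end Cfsg.Agent.S2459
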