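import Cfsg.Statements.S2460
import Cfsg.Agent.Lib.Sp4CC.Line
import Cfsg.Agent.Lib.Sp4CC.Siegel
-- import your own Cfsg.Agent.* helpers here

set_option autoImplicit false
open Cfsg

namespace Cfsg.Agent.S2460

/-- A form of Thompson's conjecture for the simple groups PSp(4,q), q ≥ 3 (covering the non-identity elements), with a semisimple class: for F a finite field of characteristic p with at least 3 elements there is an element x of PSp(4,F) of order prime to p such that every non-identity element of PSp(4,F) is a product of two conjugates of x. -/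
theorem result {F : Type*} [Field F] [Fintype F] (p : ℕ) [Fact p.Prime] [CharP F p] (h3 : 3 ≤ Fintype.card F) :
    ∃ x : Cfsg.PSp 2 F, ¬ p ∣ orderOf x ∧ ∀ g : Cfsg.PSp 2 F, g ≠ 1 → ∃ u v : Cfsg.PSp 2 F, g = (u * x * u⁻¹) * (v * x * v⁻¹) := by
  classical
  let π : Matrix.symplecticGroup (Fin 2) F →* Cfsg.PSp 2 F := QuotientGroup.mk' _
  suffices hX : ∃ x : Matrix.symplecticGroup (Fin 2) F, (∀ k : ℕ, (x ^ k) ^ p = 1 → x ^ k = 1) ∧
      ∀ g : Matrix.symplecticGroup (Fin 2) F,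
        (∀ r : F, g.1 ≠ r • (1 : Matrix (Fin 2 ⊕ Fin 2) (Fin 2 ⊕ Fin 2) F)) → CfsgLib.Sp4CC.Good x g by
    obtain ⟨x, hx, hgood⟩ := hX
    refine ⟨π x, CfsgLib.Sp4CC.not_dvd_orderOf π hx, fun g hg => ?_⟩
    obtain ⟨G, rfl⟩ : ∃ G, π G = g := QuotientGroup.mk'_surjective _ g
    obtain ⟨y, z, hy, hz, hG⟩ := hgood G (fun r hr => hg (by
      show QuotientGroup.mk' _ G = 1
      rw [QuotientGroup.mk'_apply, QuotientGroup.eq_one_iff, Subgroup.mem_center_iff]
      intro h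
      apply Subtype.ext
      show h.1 * G.1 = G.1 * h.1
      rw [hr, Matrix.mul_smul, Matrix.smul_mul, Matrix.one_mul, Matrix.mul_one]))
    obtain ⟨u, rfl⟩ := isConj_iff.mp hy
    obtain ⟨v, rfl⟩ := isConj_iff.mp hz
    exact ⟨π u, π v, by rw [hG]; simp⟩
  by_cases h2 : p = 2
  · subst h2
    obtain ⟨a, ha⟩ : ∃ a : Fˣ, a ≠ 1 := by
      by_contra hc
      push Not at hc
      have : Fintype.card Fˣ ≤ 1 := Fintype.card_le_one_iff.mpr fun x y => by rw [hc x, hc y]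
      rw [Fintype.card_units] at this
      omega
    exact ⟨CfsgLib.Sp4CC.xLine a, CfsgLib.Sp4CC.order_line a ha, CfsgLib.Sp4CC.good_line a ha⟩
  · have hF : ringChar F ≠ 2 := by rwa [ringChar.eq F p]
    obtain ⟨τ, hτ0, hτ⟩ : ∃ τ : F, τ ≠ 0 ∧ τ ^ 2 + 4 ≠ 0 := by
      by_cases h5 : (5 : F) = 0
      · refine ⟨2, Ring.two_ne_zero hF, fun e => Ring.two_ne_zero hF ?_⟩
        linear_combination 2 * h5 - e
      · exact ⟨1, one_ne_zero, by rw [one_pow]; norm_num; exact h5⟩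
    exact ⟨CfsgLib.Sp4CC.xSieg τ, CfsgLib.Sp4CC.order_sieg τ hτ, CfsgLib.Sp4CC.good_sieg τ hF hτ0 hτ⟩

end Cfsg.Agent.S2460
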