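import Cfsg.Statements.S2466
import Cfsg.Agent.Lib.CycleOrders

set_option autoImplicit false
open Cfsg

namespace Cfsg.Agent.S2466

/-- Adjacency of odd primes in the prime graph of the alternating groups: let r ≠ s be odd primes at most n. The alternating group of degree n has an element of order r·s if and only if r + s ≤ n. -/
theorem result (n r s : ℕ) (hr : r.Prime) (hs : s.Prime) (hr2 : r ≠ 2) (hs2 : s ≠ 2) (hrs : r ≠ s) (hrn : r ≤ n) (hsn : s ≤ n) :
    (r * s ∈ Set.range (orderOf : alternatingGroup (Fin n) → ℕ)) ↔ r + s ≤ n := by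
  constructor
  · rintro ⟨σ, hσ⟩
    rw [← Subgroup.orderOf_coe, ← Equiv.Perm.lcm_cycleType] at hσ
    have hsum : (σ : Equiv.Perm (Fin n)).cycleType.sum ≤ n :=
      (Equiv.Perm.sum_cycleType_le _).trans (Fintype.card_fin n).le
    obtain ⟨b, hb, hrb⟩ := CfsgLib.CycleOrders.exists_mem_dvd hr (hσ ▸ dvd_mul_right r s)
    obtain ⟨c, hc, hsc⟩ := CfsgLib.CycleOrders.exists_mem_dvd hs (hσ ▸ dvd_mul_left s r)
    have h2b := Equiv.Perm.two_le_of_mem_cycleType hb
    have h2c := Equiv.Perm.two_le_of_mem_cycleType hc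
    obtain ⟨t, ht⟩ := Multiset.exists_cons_of_mem hb
    rw [ht, Multiset.mem_cons] at hc
    rw [ht, Multiset.sum_cons] at hsum
    rcases hc with rfl | hc
    · have hdvd : r * s ∣ c := ((Nat.coprime_primes hr hs).mpr hrs).mul_dvd_of_dvd_of_dvd hrb hsc
      have := Nat.le_of_dvd (by omega) hdvd
      have := Nat.add_le_mul hr.two_le hs.two_le
      omega
    · have := Nat.le_of_dvd (by omega) hrb
      have := Nat.le_of_dvd (by omega) hsc
      have := Multiset.le_sum_of_mem hc
      omega
  · intro h
    have h1 : r * s = ({r, s} : Multiset ℕ).lcm := by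
      simp [lcm_eq_nat_lcm, ((Nat.coprime_primes hr hs).mpr hrs).lcm_eq_mul]
    rw [h1]
    refine CfsgLib.CycleOrders.mem_range_orderOf _ (by simpa using h) ?_ ?_
    · intro a ha
      simp at ha
      rcases ha with rfl | rfl
      · exact hr.two_le
      · exact hs.two_le
    · simp only [Multiset.insert_eq_cons, Multiset.sum_cons, Multiset.sum_singleton,
        Multiset.card_cons, Multiset.card_singleton]
      exact ((hr.odd_of_ne_two hr2).add_odd (hs.odd_of_ne_two hs2)).add (by decide)

end Cfsg.Agent.S2466
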