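import Cfsg.Statements.S2467
import Cfsg.Agent.Lib.CycleOrders

set_option autoImplicit false
open Cfsg

namespace Cfsg.Agent.S2467

/-- Adjacency of 2 and an odd prime in the prime graph of the alternating groups: let r be an odd prime at most n, with n ≥ 4. The alternating group of degree n has an element of order 2r if and only if r + 4 ≤ n. -/
theorem result (n r : ℕ) (hn : 4 ≤ n) (hr : r.Prime) (hr2 : r ≠ 2) (hrn : r ≤ n) :
    (2 * r ∈ Set.range (orderOf : alternatingGroup (Fin n) → ℕ)) ↔ r + 4 ≤ n := by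
  have hodd := hr.odd_of_ne_two hr2
  have hr3 : 3 ≤ r := by have := hr.two_le; omega
  constructor
  · rintro ⟨σ, hσ⟩
    rw [← Subgroup.orderOf_coe, ← Equiv.Perm.lcm_cycleType] at hσ
    have hsum : (σ : Equiv.Perm (Fin n)).cycleType.sum ≤ n :=
      (Equiv.Perm.sum_cycleType_le _).trans (Fintype.card_fin n).le
    have hsign := Equiv.Perm.mem_alternatingGroup.mp σ.2
    rw [Equiv.Perm.sign_of_cycleType,
      neg_one_pow_eq_one_iff_even (by decide : (-1 : ℤˣ) ≠ 1)] at hsign
    obtain ⟨c, hc, hrc⟩ := CfsgLib.CycleOrders.exists_mem_dvd hr (hσ ▸ dvd_mul_left r 2)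
    obtain ⟨b, hb, h2b⟩ := CfsgLib.CycleOrders.exists_mem_dvd Nat.prime_two (hσ ▸ dvd_mul_right 2 r)
    have h2 : ∀ x ∈ (σ : Equiv.Perm (Fin n)).cycleType, 2 ≤ x :=
      fun x hx => Equiv.Perm.two_le_of_mem_cycleType hx
    have hcle := Nat.le_of_dvd (by have := h2 c hc; omega) hrc
    obtain ⟨t, ht⟩ := Multiset.exists_cons_of_mem hc
    rw [ht, Multiset.sum_cons] at hsum
    rw [ht, Multiset.sum_cons, Multiset.card_cons, Nat.even_iff] at hsign
    rw [ht] at hb h2
    rcases Multiset.mem_cons.mp hb with rfl | hbt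
    · -- `b` is a multiple of `2 * r`, and another even cycle is needed
      have h2r : 2 * r ≤ b := Nat.le_of_dvd (by omega)
        (((Nat.coprime_primes Nat.prime_two hr).mpr (Ne.symm hr2)).mul_dvd_of_dvd_of_dvd h2b hrc)
      rcases Multiset.empty_or_exists_mem t with rfl | ⟨d, hd⟩
      · simp at hsign
        omega
      · have := Multiset.le_sum_of_mem hd
        have := h2 d (Multiset.mem_cons_of_mem hd)
        omega
    · obtain ⟨u, rfl⟩ := Multiset.exists_cons_of_mem hbt
      have hb2 := h2 b (Multiset.mem_cons_of_mem (Multiset.mem_cons_self _ _))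
      rw [Multiset.sum_cons] at hsum
      rw [Multiset.sum_cons, Multiset.card_cons] at hsign
      rcases Multiset.empty_or_exists_mem u with rfl | ⟨d, hd⟩
      · simp at hsign hsum
        obtain ⟨k, rfl⟩ := h2b
        obtain ⟨j, hj⟩ := hodd
        obtain ⟨i, rfl⟩ := hrc
        rcases Nat.lt_or_ge i 2 with hi | hi
        · obtain rfl | rfl : i = 0 ∨ i = 1 := by omega
          all_goals omega
        · have := Nat.mul_le_mul_left r hi
          omega
      · have := Multiset.le_sum_of_mem hd
        have := h2 d (Multiset.mem_cons_of_mem (Multiset.mem_cons_of_mem hd))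
        omega
  · intro h
    have h1 : 2 * r = ({2, 2, r} : Multiset ℕ).lcm := by
      simp [lcm_eq_nat_lcm, ← Nat.lcm_assoc,
        ((Nat.coprime_primes Nat.prime_two hr).mpr (Ne.symm hr2)).lcm_eq_mul]
    rw [h1]
    refine CfsgLib.CycleOrders.mem_range_orderOf _ (by simp; omega) ?_ ?_
    · intro a ha
      simp at ha
      omega
    · simp only [Multiset.insert_eq_cons, Multiset.sum_cons, Multiset.sum_singleton,
        Multiset.card_cons, Multiset.card_singleton]
      obtain ⟨j, hj⟩ := hodd
      rw [Nat.even_iff]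
      omega

end Cfsg.Agent.S2467
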