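import Cfsg.Statements.S2468
import Cfsg.Agent.Lib.PSLGraph.Basic
-- import your own Cfsg.Agent.* helpers here

set_option autoImplicit false
open Cfsg

namespace Cfsg.Agent.S2468

/-- Adjacency of two odd primes in the prime graph of PSL(n,q): let F be a finite field of characteristic p with q elements, n ≥ 2 with PSL(n,F) simple, and let r ≠ s be odd primes different from p dividing the order of PSL(n,F). Let k and l be the multiplicative orders of q modulo r and modulo s, and suppose 2 ≤ k ≤ l. Then PSL(n,F) has NO element of order r·s if and only if k + l > n and k does not divide l. -/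
theorem result {F : Type*} [Field F] [Fintype F] (p : ℕ) [Fact p.Prime] [CharP F p] (n : ℕ) (hn : 2 ≤ n) (hsmall : n = 2 → 4 ≤ Fintype.card F)
    (r s : ℕ) (hr : r.Prime) (hs : s.Prime) (hr2 : r ≠ 2) (hs2 : s ≠ 2) (hrp : r ≠ p) (hsp : s ≠ p) (hrs : r ≠ s)
    (hrG : r ∣ Nat.card (Matrix.ProjectiveSpecialLinearGroup (Fin n) F)) (hsG : s ∣ Nat.card (Matrix.ProjectiveSpecialLinearGroup (Fin n) F))
    (k l : ℕ) (hk : k = orderOf ((Fintype.card F : ℕ) : ZMod r)) (hl : l = orderOf ((Fintype.card F : ℕ) : ZMod s))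
    (h2k : 2 ≤ k) (hkl : k ≤ l) :
    (r * s ∉ Set.range (orderOf : Matrix.ProjectiveSpecialLinearGroup (Fin n) F → ℕ)) ↔ (n < k + l ∧ ¬ k ∣ l) := by
  classical
  set q := Fintype.card F with hq
  have hcop : ∀ t : ℕ, t.Prime → 2 ≤ orderOf ((q : ℕ) : ZMod t) → Nat.Coprime t (q - 1) :=
    fun t ht h => (Nat.Prime.coprime_iff_not_dvd ht).2 (CfsgLib.PSLGraph.not_dvd_card_sub_one h)
  have hco : Nat.Coprime (r * s) (q - 1) :=
    (hcop r hr (by omega)).mul_left (hcop s hs (by omega))
  have hinjGL : Function.Injective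
      (Matrix.SpecialLinearGroup.toGL : Matrix.SpecialLinearGroup (Fin n) F →* GL (Fin n) F) :=
    fun a b hab => Subtype.ext (congrArg
      (fun u : GL (Fin n) F => (u : Matrix (Fin n) (Fin n) F)) hab)
  haveI : Nonempty (Fin n) := ⟨⟨0, by omega⟩⟩
  have hcardGL : ∀ t, t ∣ Nat.card (Matrix.ProjectiveSpecialLinearGroup (Fin n) F) →
      t ∣ Nat.card (GL (Fin n) F) := fun t ht =>
    ht.trans ((Subgroup.card_quotient_dvd_card _).trans
      (Subgroup.card_dvd_of_injective _ hinjGL))
  have hkn : k ≤ n := hk ▸ CfsgLib.PSLGraph.orderOf_le_of_dvd_card hr hrp (hcardGL r hrG)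
  have hln : l ≤ n := hl ▸ CfsgLib.PSLGraph.orderOf_le_of_dvd_card hs hsp (hcardGL s hsG)
  constructor
  · intro hno
    by_contra hcon
    apply hno
    -- an element of order `r * s` in `GL_n`
    obtain ⟨z, hz⟩ : ∃ z : GL (Fin n) F, orderOf z = r * s := by
      by_cases hd : k ∣ l
      · obtain ⟨φ, hφ⟩ := CfsgLib.PSLGraph.exists_blockHom (F := F) (a := l) (b := 0) (c := n - l)
          (n := n) (by omega)
        haveI := Fact.mk hs
        have hcs : s ∣ Nat.card (GL (Fin l) F) := by
          rw [Matrix.card_GL_field]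
          refine dvd_trans ?_ (Finset.dvd_prod_of_mem _ (Finset.mem_univ ⟨0, by omega⟩))
          have h0 := CfsgLib.PSLGraph.dvd_pow_orderOf_sub_one (F := F) s
          rw [← hq, ← hl] at h0
          simpa using h0
        obtain ⟨x, hx⟩ := exists_prime_orderOf_dvd_card' s hcs
        obtain ⟨hcyc, hcard⟩ :=
          CfsgLib.CyclicVector.centralizer_of_primitive (by omega) hs hsp hl.symm x hx
        obtain ⟨c, hc⟩ := IsCyclic.exists_ofOrder_eq_natCard
          (α := ↥(Subgroup.centralizer ({x} : Set (GL (Fin l) F))))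
        rw [hcard] at hc
        have hrs' : r * s ∣ q ^ l - 1 := by
          refine Nat.Coprime.mul_dvd_of_dvd_of_dvd ((Nat.coprime_primes hr hs).2 hrs) ?_ ?_
          · refine (CfsgLib.PSLGraph.dvd_pow_orderOf_sub_one (F := F) r).trans ?_
            rw [← hq, ← hk]
            exact Nat.pow_sub_one_dvd_pow_sub_one q hd
          · rw [hl]; exact CfsgLib.PSLGraph.dvd_pow_orderOf_sub_one (F := F) s
        refine ⟨φ ((c : GL (Fin l) F) ^ (orderOf (c : GL (Fin l) F) / (r * s)), 1), ?_⟩
        rw [orderOf_injective _ hφ, Prod.orderOf, orderOf_one, Nat.lcm_one_right]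
        exact orderOf_pow_orderOf_div (orderOf_pos _).ne' (by rw [Subgroup.orderOf_coe, hc]; exact hrs')
      · have hkl' : k + l ≤ n := by
          by_contra h
          exact hcon ⟨by omega, hd⟩
        obtain ⟨x, hx⟩ := CfsgLib.PSLGraph.exists_element (F := F) (p := p) hr (hk ▸ by omega)
        obtain ⟨y, hy⟩ := CfsgLib.PSLGraph.exists_element (F := F) (p := p) hs (hl ▸ by omega)
        obtain ⟨φ, hφ⟩ := CfsgLib.PSLGraph.exists_blockHom (F := F)
          (a := orderOf ((q : ℕ) : ZMod r)) (b := orderOf ((q : ℕ) : ZMod s)) (c := n - (k + l))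
          (n := n) (by omega)
        refine ⟨φ (x, y), ?_⟩
        rw [orderOf_injective _ hφ, Prod.orderOf, hx, hy]
        exact ((Nat.coprime_primes hr hs).2 hrs).lcm_eq_mul
    have hdet : (z : Matrix (Fin n) (Fin n) F).det = 1 := by
      have h1 : orderOf (Matrix.GeneralLinearGroup.det z) ∣ Nat.gcd (r * s) (q - 1) := by
        refine Nat.dvd_gcd (hz ▸ orderOf_map_dvd _ z) ?_
        rw [hq, ← Nat.card_eq_fintype_card, ← Nat.card_units]
        exact orderOf_dvd_natCard _
      rw [hco.gcd_eq_one, Nat.dvd_one, orderOf_eq_one_iff] at h1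
      exact congrArg Units.val h1
    let S : Matrix.SpecialLinearGroup (Fin n) F := ⟨_, hdet⟩
    have hS : orderOf S = r * s := by
      rw [← orderOf_injective _ hinjGL, ← hz]
      exact congrArg orderOf (Units.ext rfl)
    refine ⟨QuotientGroup.mk' _ S, Nat.dvd_antisymm (hS ▸ orderOf_map_dvd _ S) ?_⟩
    set j := orderOf (QuotientGroup.mk' (Subgroup.center (Matrix.SpecialLinearGroup (Fin n) F)) S)
    have hj : S ^ j ∈ Subgroup.center (Matrix.SpecialLinearGroup (Fin n) F) := by
      rw [← QuotientGroup.eq_one_iff]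
      exact (map_pow (QuotientGroup.mk' _) S j).trans (pow_orderOf_eq_one _)
    obtain ⟨a, ha1, ha⟩ := Matrix.SpecialLinearGroup.mem_center_iff.1 hj
    have ha0 : a ≠ 0 := by
      rintro rfl
      rw [zero_pow Fintype.card_pos.ne'] at ha1
      exact zero_ne_one ha1
    have hjq : (S ^ j) ^ (q - 1) = 1 := by
      refine Subtype.ext ?_
      rw [Matrix.SpecialLinearGroup.coe_pow, ← ha, ← map_pow, hq,
        FiniteField.pow_card_sub_one_eq_one a ha0, map_one, Matrix.SpecialLinearGroup.coe_one]
    rw [← pow_mul, ← orderOf_dvd_iff_pow_eq_one, hS] at hjq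
    exact hco.dvd_of_dvd_mul_right hjq
  · rintro ⟨hn', hd⟩ ⟨g, hg⟩
    obtain ⟨S, rfl⟩ := QuotientGroup.mk'_surjective _ g
    have hdS : r * s ∣ orderOf S := hg ▸ orderOf_map_dvd _ S
    set z : GL (Fin n) F := Matrix.SpecialLinearGroup.toGL (S ^ (orderOf S / (r * s))) with hzdef
    have hz : orderOf z = r * s := by
      rw [hzdef, orderOf_injective _ hinjGL]
      exact orderOf_pow_orderOf_div (orderOf_pos S).ne' hdS
    have hzr : z ^ r ≠ 1 := by
      intro h
      have h' := orderOf_dvd_of_pow_eq_one h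
      rw [hz] at h'
      have := Nat.le_of_dvd hr.pos h'
      have := hr.pos
      have := hs.two_le
      nlinarith
    have hzs : z ^ s ≠ 1 := by
      intro h
      have h' := orderOf_dvd_of_pow_eq_one h
      rw [hz] at h'
      have := Nat.le_of_dvd hs.pos h'
      have := hr.two_le
      have := hs.pos
      nlinarith
    have hpr : ¬ p ∣ r := fun h => hrp ((Nat.prime_dvd_prime_iff_eq Fact.out hr).1 h).symm
    have hps : ¬ p ∣ s := fun h => hsp ((Nat.prime_dvd_prime_iff_eq Fact.out hs).1 h).symm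
    have hzo : z ^ (r * s) = 1 := hz ▸ pow_orderOf_eq_one z
    obtain ⟨f₁, hf₁, hf₁P, -, -, hd₁⟩ := CfsgLib.PSLGraph.exists_factor hr hrp hps z hzo hzs
    obtain ⟨f₂, hf₂, hf₂P, -, -, hd₂⟩ := CfsgLib.PSLGraph.exists_factor hs hsp hpr z
      (by rw [mul_comm]; exact hzo) hzr
    rw [← hk] at hd₁
    rw [← hl] at hd₂
    have hPint : IsIntegral F (z : Matrix (Fin n) (Fin n) F) := Algebra.IsIntegral.isIntegral _
    have hPdeg : (minpoly F (z : Matrix (Fin n) (Fin n) F)).natDegree ≤ n := by
      have := Polynomial.natDegree_le_of_dvd (Matrix.minpoly_dvd_charpoly (z : Matrix (Fin n) (Fin n) F))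
        (Matrix.charpoly_monic _).ne_zero
      simpa [Matrix.charpoly_natDegree_eq_dim] using this
    by_cases hdv : f₁ ∣ f₂
    · have hass := hf₁.associated_of_dvd hf₂ hdv
      have hdeg : f₁.natDegree = f₂.natDegree :=
        Polynomial.natDegree_eq_of_degree_eq (Polynomial.degree_eq_degree_of_associated hass)
      have h3 := Polynomial.natDegree_le_of_dvd hf₁P (minpoly.ne_zero hPint)
      obtain ⟨t, ht⟩ := hd₂
      rcases t with _ | _ | t
      · have := hf₂.natDegree_pos; omega
      · apply hd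
        rw [show l = f₁.natDegree by omega]
        exact hd₁
      · have h2l : l * 2 ≤ l * (t + 1 + 1) := Nat.mul_le_mul_left _ (by omega)
        omega
    · have h3 := Polynomial.natDegree_le_of_dvd
        (((hf₁.coprime_iff_not_dvd).2 hdv).mul_dvd hf₁P hf₂P) (minpoly.ne_zero hPint)
      rw [Polynomial.natDegree_mul hf₁.ne_zero hf₂.ne_zero] at h3
      have := Nat.le_of_dvd hf₁.natDegree_pos hd₁
      have := Nat.le_of_dvd hf₂.natDegree_pos hd₂
      omega

end Cfsg.Agent.S2468
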