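import Cfsg.Statements.S2469
import Cfsg.Agent.Lib.PSpGraph.Basic
-- import your own Cfsg.Agent.* helpers here

set_option autoImplicit false
open Cfsg

namespace Cfsg.Agent.S2469

open CfsgLib.PSpGraph
set_option maxHeartbeats 1000000

/-- Adjacency of two odd primes in the prime graph of PSp(2n,q): let F be a finite field of characteristic p with q elements, n ≥ 2 with PSp(2n,F) simple, and let r ≠ s be odd primes different from p dividing the order of PSp(2n,F). Let k, l be the multiplicative orders of q modulo r and s, put η(m) = m for odd m and η(m) = m/2 for even m, and suppose η(k) ≤ η(l). Then PSp(2n,F) has NO element of order r·s if and only if η(k) + η(l) > n and l/k is not an odd integer. -/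
theorem result {F : Type*} [Field F] [Fintype F] (p : ℕ) [Fact p.Prime] [CharP F p] (n : ℕ) (hn : 2 ≤ n) (hsmall : n = 2 → 3 ≤ Fintype.card F)
    (r s : ℕ) (hr : r.Prime) (hs : s.Prime) (hr2 : r ≠ 2) (hs2 : s ≠ 2) (hrp : r ≠ p) (hsp : s ≠ p) (hrs : r ≠ s)
    (hrG : r ∣ Nat.card (Cfsg.PSp n F)) (hsG : s ∣ Nat.card (Cfsg.PSp n F))
    (k l ηk ηl : ℕ) (hk : k = orderOf ((Fintype.card F : ℕ) : ZMod r)) (hl : l = orderOf ((Fintype.card F : ℕ) : ZMod s))
    (hηk : (Odd k ∧ ηk = k) ∨ (Even k ∧ 2 * ηk = k)) (hηl : (Odd l ∧ ηl = l) ∨ (Even l ∧ 2 * ηl = l)) (hkl : ηk ≤ ηl) :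
    (r * s ∉ Set.range (orderOf : Cfsg.PSp n F → ℕ)) ↔ (n < ηk + ηl ∧ ¬ ∃ t : ℕ, Odd t ∧ l = k * t) := by
    classical
    have hn0 : 0 < n := by omega
    haveI := Fact.mk hr
    haveI := Fact.mk hs
    set q := Fintype.card F with hq
    have hqr : Nat.Coprime q r := coprime_card (F := F) hr hrp
    have hqs : Nat.Coprime q s := coprime_card (F := F) hs hsp
    obtain ⟨hηk0, hηkn⟩ := eta_le (F := F) hr hrp hr2 hrG hk hηk
    obtain ⟨hηl0, hηln⟩ := eta_le (F := F) hs hsp hs2 hsG hl hηl
    have hk0 : 0 < k := by rcases hηk with ⟨-, h⟩ | ⟨-, h⟩ <;> omega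
    have hl0 : 0 < l := by rcases hηl with ⟨-, h⟩ | ⟨-, h⟩ <;> omega
    have hqpos : 0 < q := Fintype.card_pos
    have hco : Nat.Coprime r s := (Nat.coprime_primes hr hs).2 hrs
    have hodd : Odd (r * s) := (hr.odd_of_ne_two hr2).mul (hs.odd_of_ne_two hs2)
    have hrs0 : 0 < r * s := Nat.mul_pos hr.pos hs.pos
    constructor
    · intro hnot
      refine ⟨?_, ?_⟩
      · by_contra hle
        push Not at hle
        obtain ⟨x, hx⟩ := exists_torus_order (F := F) p hηk0 hr.pos
          ((dvd_torus hr hqpos hk hk0 hηk).elim (fun h => Or.inr h.2) fun h => Or.inl h.2)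
        obtain ⟨y, hy⟩ := exists_torus_order (F := F) p hηl0 hs.pos
          ((dvd_torus hs hqpos hl hl0 hηl).elim (fun h => Or.inr h.2) fun h => Or.inl h.2)
        obtain ⟨g, hg⟩ := exists_pair (n := n) (c := n - ηk - ηl) (by omega) hco x hx y hy
        exact hnot (exists_proj p hn0 (Or.inl hodd) g hg)
      · rintro ⟨t, htodd, hlt⟩
        have hpar : (Odd k ↔ Odd l) := by
          rw [hlt, Nat.odd_mul]; exact ⟨fun h => ⟨h, htodd⟩, fun h => h.1⟩
        have hηt : ηl = ηk * t := by
          rcases hηk with ⟨hko, hek⟩ | ⟨hke, hek⟩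
          · rcases hηl with ⟨-, hel⟩ | ⟨hle, -⟩
            · rw [hel, hlt, hek]
            · exact absurd (hpar.1 hko) (Nat.not_odd_iff_even.2 hle)
          · rcases hηl with ⟨hlo, -⟩ | ⟨-, hel⟩
            · exact absurd (hpar.2 hlo) (Nat.not_odd_iff_even.2 hke)
            · have : 2 * ηl = 2 * (ηk * t) := by rw [hel, hlt, ← hek]; ring
              omega
        have hdvd : r * s ∣ q ^ ηl + 1 ∨ r * s ∣ q ^ ηl - 1 := by
          rcases dvd_torus hr hqpos hk hk0 hηk with ⟨hko, hr'⟩ | ⟨hke, hr'⟩
          · rcases dvd_torus hs hqpos hl hl0 hηl with ⟨-, hs'⟩ | ⟨hle, -⟩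
            · refine Or.inr (hco.mul_dvd_of_dvd_of_dvd (hr'.trans ?_) hs')
              rw [hηt, pow_mul]
              exact Nat.sub_one_dvd_pow_sub_one _ _
            · exact absurd (hpar.1 hko) (Nat.not_odd_iff_even.2 hle)
          · rcases dvd_torus hs hqpos hl hl0 hηl with ⟨hlo, -⟩ | ⟨-, hs'⟩
            · exact absurd (hpar.2 hlo) (Nat.not_odd_iff_even.2 hke)
            · refine Or.inl (hco.mul_dvd_of_dvd_of_dvd (hr'.trans ?_) hs')
              rw [hηt, pow_mul]
              simpa using htodd.nat_add_dvd_pow_add_pow (q ^ ηk) 1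
        obtain ⟨x, hx⟩ := exists_torus_order (F := F) p hηl0 hrs0 hdvd
        obtain ⟨g, hg⟩ := exists_pair (n := n) (b := 0) (c := n - ηl) (by omega) (Nat.coprime_one_right (r * s)) x hx
          (1 : Matrix.symplecticGroup (Fin 0) F) orderOf_one
        rw [mul_one] at hg
        exact hnot (exists_proj p hn0 (Or.inl hodd) g hg)
    · rintro ⟨hlt, hnt⟩ ⟨g, hg⟩
      obtain ⟨A, hA⟩ := exists_lift p hn0 (Or.inl hodd) g hg
      obtain ⟨a, ha, hF⟩ := card_eq_pow F p
      haveI : CharP (AlgebraicClosure F) p :=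
        charP_of_injective_algebraMap (algebraMap F (AlgebraicClosure F)).injective p
      obtain ⟨R, hRc, hRt, hRM, -⟩ := exists_eigenvalues hn0 p a hF (AlgebraicClosure F) A
      have hclosed : ∀ t ∈ R, t ^ q ∈ R ∧ t⁻¹ ∈ R := fun t ht => (hRt t ht).2
      have hordd : ∀ t ∈ R, orderOf t ∣ r * s := fun t ht => by
        rw [← hA]; exact orderOf_dvd_of_pow_eq_one (hRt t ht).1
      have hnp : ∀ u v : ℕ, u.Prime → v.Prime → u ≠ p → u ≠ v → ¬ u ∣ p ^ Nat.clog p (n + n) * v := by
        intro u v hu hv hup huv hd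
        rcases hu.dvd_mul.1 hd with h | h
        · exact hup ((Nat.prime_dvd_prime_iff_eq hu Fact.out).1 (hu.dvd_of_dvd_pow h))
        · exact huv ((Nat.prime_dvd_prime_iff_eq hu hv).1 h)
      obtain ⟨t1, ht1, ht1s⟩ : ∃ t ∈ R, t ^ s ≠ 1 := by
        by_contra hc
        push Not at hc
        refine hnp r s hr hs hrp hrs (dvd_trans ?_ (orderOf_dvd_of_pow_eq_one (hRM s hs.pos hc)))
        rw [hA]; exact Dvd.intro s rfl
      obtain ⟨t2, ht2, ht2r⟩ : ∃ t ∈ R, t ^ r ≠ 1 := by
        by_contra hc
        push Not at hc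
        refine hnp s r hs hr hsp (Ne.symm hrs) (dvd_trans ?_ (orderOf_dvd_of_pow_eq_one (hRM r hr.pos hc)))
        rw [hA]; exact Dvd.intro_left r rfl
      by_cases hex : ∃ t ∈ R, orderOf t = r * s
      · obtain ⟨t, ht, hto⟩ := hex
        obtain ⟨h1, h2⟩ := orbit_bound hrs0 (hqr.mul_right hqs) R hclosed ht hto
        have hcard : (R.filter fun u => orderOf u = r * s).card ≤ n + n :=
          (Finset.card_filter_le _ _).trans hRc
        set L := orderOf (q : ZMod (r * s))
        have hkL : k ∣ L := by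
          have := orderOf_map_dvd (ZMod.castHom (Dvd.intro s rfl) (ZMod r) : ZMod (r * s) →+* ZMod r).toMonoidHom
            (q : ZMod (r * s))
          simpa [← hk] using this
        have hlL : l ∣ L := by
          have := orderOf_map_dvd (ZMod.castHom (Dvd.intro_left r rfl) (ZMod s) : ZMod (r * s) →+* ZMod s).toMonoidHom
            (q : ZMod (r * s))
          simpa [← hl] using this
        have hL0 : 0 < L := orderOf_pos_iff.2 (isOfFinOrder_iff_pow_eq_one.2
          ⟨(r * s).totient, Nat.totient_pos.2 hrs0, by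
            rw [← Nat.cast_pow, ← Nat.cast_one (R := ZMod (r * s)), ZMod.natCast_eq_natCast_iff]
            exact Nat.ModEq.pow_totient (hqr.mul_right hqs)⟩)
        obtain ⟨c, hc⟩ := hlL
        have hc0 : 0 < c := Nat.pos_of_ne_zero fun h => by rw [h, mul_zero] at hc; omega
        by_cases hneg : ∀ i : ℕ, (q : ZMod (r * s)) ^ i ≠ -1
        · have h3 := h2 hneg
          rcases hηl with ⟨hlo, hel⟩ | ⟨hle, hel⟩
          · rcases Nat.lt_or_ge c 2 with h | h
            · obtain rfl : c = 1 := by omega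
              rw [mul_one] at hc
              rw [hc] at hkL
              obtain ⟨t', ht'⟩ := hkL
              exact hnt ⟨t', (Nat.odd_mul.1 (ht' ▸ hlo)).2, ht'⟩
            · have : l * 2 ≤ l * c := Nat.mul_le_mul_left l h
              omega
          · have : l * 1 ≤ l * c := Nat.mul_le_mul_left l hc0
            omega
        · push Not at hneg
          obtain ⟨i, hi⟩ := hneg
          have hproj : ∀ (u : ℕ) (hu : u ∣ r * s), (q : ZMod u) ^ i = -1 := fun u hu => by
            have := congrArg (ZMod.castHom hu (ZMod u)) hi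
            rwa [map_pow, map_natCast, map_neg, map_one] at this
          have hev : ∀ (u m η : ℕ), u.Prime → u ≠ 2 → u ∣ r * s → m = orderOf (q : ZMod u) →
              (Odd m ∧ η = m) ∨ (Even m ∧ 2 * η = m) → 2 * η = m ∧ ∃ a, Odd a ∧ i = η * a := by
            intro u m η hu hu2 hd hm hη
            haveI : Fact (2 < u) := ⟨lt_of_le_of_ne hu.two_le (Ne.symm hu2)⟩
            have e1 := hproj u hd
            have e2 : ¬ m ∣ i := fun h => by
              rw [hm, orderOf_dvd_iff_pow_eq_one, e1] at h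
              exact ZMod.neg_one_ne_one h
            have e3 : m ∣ 2 * i := hm ▸ orderOf_dvd_of_pow_eq_one (by rw [mul_comm, pow_mul, e1]; ring)
            rcases hη with ⟨ho, -⟩ | ⟨-, he⟩
            · exact absurd ((Nat.coprime_two_right.2 ho).dvd_of_dvd_mul_left e3) e2
            · refine ⟨he, ?_⟩
              rw [← he] at e2 e3
              obtain ⟨a, ha⟩ := (Nat.mul_dvd_mul_iff_left two_pos).1 e3
              refine ⟨a, Nat.not_even_iff_odd.1 ?_, ha⟩
              rintro ⟨b, rfl⟩
              exact e2 ⟨b, by rw [ha]; ring⟩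
          obtain ⟨hek, a1, ha1, hi1⟩ := hev r k ηk hr hr2 (Dvd.intro s rfl) hk hηk
          obtain ⟨hel, a2, ha2, hi2⟩ := hev s l ηl hs hs2 (Dvd.intro_left r rfl) hl hηl
          rcases Nat.lt_or_ge c 2 with h | h
          · obtain rfl : c = 1 := by omega
            rw [mul_one] at hc
            rw [hc] at hkL
            obtain ⟨t', ht'⟩ := hkL
            refine hnt ⟨t', ?_, ht'⟩
            have e4 : ηl = ηk * t' := by
              have : 2 * ηl = 2 * (ηk * t') := by rw [hel, ht', ← hek]; ring
              omega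
            have e5 : ηk * a1 = ηk * (t' * a2) := by rw [← hi1, hi2, e4]; ring
            exact (Nat.odd_mul.1 (Nat.eq_of_mul_eq_mul_left hηk0 e5 ▸ ha1)).1
          · have : l * 2 ≤ l * c := Nat.mul_le_mul_left l h
            omega
      · push Not at hex
        have hclass : ∀ u v : ℕ, u.Prime → v.Prime → u * v = r * s → ∀ t ∈ R, t ^ v ≠ 1 → orderOf t = u := by
          intro u v hu hv huv t ht htv
          have h1 := hordd t ht
          rw [← huv] at h1
          obtain ⟨d1, d2, hd1, hd2, hd⟩ := Nat.dvd_mul.1 h1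
          rcases (Nat.dvd_prime hu).1 hd1 with rfl | rfl
          · rw [one_mul] at hd
            exact absurd (orderOf_dvd_iff_pow_eq_one.1 (hd ▸ hd2)) htv
          · rcases (Nat.dvd_prime hv).1 hd2 with rfl | rfl
            · rw [mul_one] at hd; exact hd.symm
            · exact absurd (huv ▸ hd.symm) (hex t ht)
        have e1 := orbit_bound_prime hr hr2 hqr R hclosed ht1 (hclass r s hr hs rfl t1 ht1 ht1s) hk hηk
        have e2 := orbit_bound_prime hs hs2 hqs R hclosed ht2
          (hclass s r hs hr (mul_comm s r) t2 ht2 ht2r) hl hηl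
        have e3 : (R.filter fun u => orderOf u = r).card + (R.filter fun u => orderOf u = s).card ≤ R.card := by
          rw [← Finset.card_union_of_disjoint (Finset.disjoint_filter.2 fun x _ h1 h2 => hrs (h1.symm.trans h2))]
          exact Finset.card_le_card (Finset.union_subset (Finset.filter_subset _ _) (Finset.filter_subset _ _))
        omega

end Cfsg.Agent.S2469
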