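import Cfsg.Statements.S2470
import Cfsg.Agent.Lib.PSLGraph.Mixed
-- import your own Cfsg.Agent.* helpers here

set_option autoImplicit false
open Cfsg

namespace Cfsg.Agent.S2470

set_option maxHeartbeats 4000000

open Polynomial in
theorem squarefree_minpoly {F : Type*} [Field F] {n : ℕ} (p : ℕ) [Fact p.Prime] [CharP F p]
    (x : Matrix (Fin n) (Fin n) F) {m : ℕ} (hm : ¬ p ∣ m) (hx : x ^ m = 1) :
    Squarefree (minpoly F x) := by
  have h : (X ^ m - 1 : F[X]).Separable := by
    simpa using separable_X_pow_sub_C' p m (1 : F) hm one_ne_zero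
  exact h.squarefree.squarefree_of_dvd (minpoly.dvd F x (by simp [hx]))

/-- The bound for a semisimple matrix commuting with a nontrivial unipotent one. -/
theorem matrix_bound {F : Type*} [Field F] {n : ℕ} (x N : Matrix (Fin n) (Fin n) F)
    (hc : Commute x N) (hN : IsNilpotent N) (hN0 : N ≠ 0) (hsq : Squarefree (minpoly F x))
    {f : Polynomial F} (hf : Irreducible f) (hfd : f ∣ minpoly F x) :
    (2 * f.natDegree ≤ n ∧ (¬ minpoly F x ∣ f → 2 * f.natDegree + 1 ≤ n)) ∨
      f.natDegree + 2 ≤ n := by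
  let Φ : Matrix (Fin n) (Fin n) F ≃ₐ[F] Module.End F (Fin n → F) := Matrix.toLinAlgEquiv'
  have h := CfsgLib.PSLGraph.nilpotent_commute_bound (Φ x) (Φ N) (hc.map Φ) (hN.map Φ)
    (by simpa using hN0) (by rwa [minpoly.algEquiv_eq]) hf (by rwa [minpoly.algEquiv_eq])
  rw [minpoly.algEquiv_eq, Module.finrank_fin_fun] at h
  exact h

/-- Adjacency of an odd prime and the characteristic in the prime graph of PSL(n,q): let F be a finite field of characteristic p with q elements, n ≥ 2 with PSL(n,F) simple, and let r ≠ p be an odd prime dividing the order of PSL(n,F), with k the multiplicative order of q modulo r. Then PSL(n,F) has NO element of order r·p if and only if either k > n − 2, or n = 3, r = 3 and 3 divides q − 1 exactly once. -/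
theorem result {F : Type*} [Field F] [Fintype F] (p : ℕ) [Fact p.Prime] [CharP F p] (n : ℕ) (hn : 2 ≤ n) (hsmall : n = 2 → 4 ≤ Fintype.card F)
    (r : ℕ) (hr : r.Prime) (hr2 : r ≠ 2) (hrp : r ≠ p) (hrG : r ∣ Nat.card (Matrix.ProjectiveSpecialLinearGroup (Fin n) F))
    (k : ℕ) (hk : k = orderOf ((Fintype.card F : ℕ) : ZMod r)) :
    (r * p ∉ Set.range (orderOf : Matrix.ProjectiveSpecialLinearGroup (Fin n) F → ℕ)) ↔
      (n - 2 < k ∨ (n = 3 ∧ r = 3 ∧ 3 ∣ Fintype.card F - 1 ∧ ¬ 9 ∣ Fintype.card F - 1)) := by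
  classical
  set q := Fintype.card F with hqdef
  have hpp : p.Prime := Fact.out
  have hq1 : 1 < q := Fintype.one_lt_card
  haveI : Nonempty (Fin n) := ⟨⟨0, by omega⟩⟩
  have hinjGL : Function.Injective
      (Matrix.SpecialLinearGroup.toGL : Matrix.SpecialLinearGroup (Fin n) F →* GL (Fin n) F) :=
    fun a b hab => Subtype.ext (congrArg
      (fun u : GL (Fin n) F => (u : Matrix (Fin n) (Fin n) F)) hab)
  have hunits : Nat.card Fˣ = q - 1 := by
    rw [Nat.card_units, Nat.card_eq_fintype_card]
  have hpq : ¬ p ∣ q - 1 := by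
    intro h
    obtain ⟨f, -, hf⟩ := FiniteField.card F p
    have h1 : p ∣ q := hqdef ▸ hf ▸ dvd_pow_self p f.ne_zero
    have h2 := Nat.dvd_sub h1 h
    rw [Nat.sub_sub_self (le_of_lt hq1)] at h2
    exact hpp.one_lt.ne' (Nat.dvd_one.1 h2)
  have hcenter : ∀ s : Matrix.SpecialLinearGroup (Fin n) F,
      s ∈ Subgroup.center _ ↔ ∃ a : F, (s : Matrix (Fin n) (Fin n) F) = Matrix.scalar (Fin n) a := by
    intro s
    rw [Matrix.SpecialLinearGroup.mem_center_iff]
    constructor
    · rintro ⟨a, -, ha⟩; exact ⟨a, ha.symm⟩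
    · rintro ⟨a, ha⟩
      refine ⟨a, ?_, ha.symm⟩
      have := s.2
      rw [ha, Matrix.scalar_apply, Matrix.det_diagonal, Finset.prod_const, Finset.card_univ] at this
      exact this
  have hclass : ∀ (S : Matrix.SpecialLinearGroup (Fin n) F) (j : ℕ),
      (QuotientGroup.mk' (Subgroup.center _) S) ^ j = 1 ↔ ∃ a : F,
        (S : Matrix (Fin n) (Fin n) F) ^ j = Matrix.scalar (Fin n) a := by
    intro S j
    rw [← map_pow, ← Matrix.SpecialLinearGroup.coe_pow]
    exact (QuotientGroup.eq_one_iff _).trans (hcenter _)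
  have hscq : ∀ a : F, a ≠ 0 → (Matrix.scalar (Fin n) a) ^ (q - 1) = 1 := fun a ha => by
    rw [← map_pow, hqdef, FiniteField.pow_card_sub_one_eq_one a ha, map_one]
  constructor
  · -- existence
    intro hno
    by_contra hcon
    push Not at hcon
    obtain ⟨hkn, hexc⟩ := hcon
    apply hno
    have hk1 : 1 ≤ k := by
      rcases Nat.eq_zero_or_pos k with h0 | h0
      · exfalso
        haveI := Fact.mk hr
        have hq0 : ((q : ℕ) : ZMod r) ≠ 0 := by
          rw [Ne, ZMod.natCast_eq_zero_iff]
          intro h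
          obtain ⟨f, -, hf⟩ := FiniteField.card F p
          exact hrp ((Nat.prime_dvd_prime_iff_eq hr hpp).1 (hr.dvd_of_dvd_pow (show r ∣ p ^ (f : ℕ) by rwa [hqdef, hf] at h)))
        have h1 := orderOf_dvd_of_pow_eq_one (ZMod.pow_card_sub_one_eq_one hq0)
        rw [← hk, h0] at h1
        have := Nat.eq_zero_of_zero_dvd h1
        have := hr.two_le
        omega
      · exact h0
    obtain ⟨φ, hφ, hφdet, hφsc, hφsc'⟩ := CfsgLib.PSLGraph.exists_blockHom' (F := F)
      (a := k) (b := 2) (c := n - k - 2) (n := n) (by omega) hk1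
    -- the transvection
    let τ : GL (Fin 2) F := Matrix.GeneralLinearGroup.mkOfDetNeZero
      (Matrix.transvection 0 1 1) (by rw [Matrix.det_transvection_of_ne _ _ (by decide)]; exact one_ne_zero)
    have hτpow : ∀ j : ℕ, ((τ ^ j : GL (Fin 2) F) : Matrix (Fin 2) (Fin 2) F) =
        Matrix.transvection 0 1 (j : F) := by
      intro j
      induction j with
      | zero => simp [Matrix.transvection_zero]
      | succ j ih =>
        rw [pow_succ, Units.val_mul, ih]
        show Matrix.transvection 0 1 (j : F) * Matrix.transvection 0 1 1 = _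
        rw [Matrix.transvection_mul_transvection_same _ _ (by decide), Nat.cast_succ]
    have hτ1 : τ ≠ 1 := by
      intro h
      have := congrArg (fun u : GL (Fin 2) F => (u : Matrix (Fin 2) (Fin 2) F) 0 1) h
      simp [τ, Matrix.transvection] at this
    have hτp : τ ^ p = 1 := Units.ext (by
      rw [hτpow, CharP.cast_eq_zero, Matrix.transvection_zero, Units.val_one])
    -- the semisimple part
    obtain ⟨t₁, t₂, htc, htdet, htr, htdvd⟩ : ∃ (t₁ : GL (Fin k) F) (t₂ : GL (Fin 2) F),
        Commute t₂ τ ∧ (t₁ : Matrix (Fin k) (Fin k) F).det * (t₂ : Matrix (Fin 2) (Fin 2) F).det = 1 ∧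
        (∃ a : F, (φ (t₁ ^ r, t₂ ^ r) : Matrix (Fin n) (Fin n) F) = Matrix.scalar (Fin n) a) ∧
        ∀ (j : ℕ) (a : F), (φ (t₁ ^ j, t₂ ^ j) : Matrix (Fin n) (Fin n) F) = Matrix.scalar (Fin n) a →
          r ∣ j := by
      rcases Nat.lt_or_ge k 2 with hk2 | hk2
      · -- `r` divides `q - 1`
        have hk1' : k = 1 := by omega
        have hrq : r ∣ q - 1 := by
          have := CfsgLib.PSLGraph.dvd_pow_orderOf_sub_one (F := F) r
          rw [← hqdef, ← hk, hk1', pow_one] at this
          exact this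
        obtain ⟨g, hg⟩ := IsCyclic.exists_ofOrder_eq_natCard (α := Fˣ)
        rw [Nat.card_units, Nat.card_eq_fintype_card, ← hqdef] at hg
        -- the order of the diagonal entry
        obtain ⟨o, hoq, hor, ho3⟩ : ∃ o, o ∣ q - 1 ∧
            (o = r ∧ (1 ≤ n - k - 2 ∨ r ≠ 3) ∨ (o = 9 ∧ r = 3 ∧ n - k - 2 = 0)) ∧ 0 < o := by
          by_cases h : r = 3 ∧ n - k - 2 = 0
          · refine ⟨9, ?_, Or.inr ⟨rfl, h.1, h.2⟩, by norm_num⟩
            refine hexc (by omega) h.1 ?_
            exact h.1 ▸ hrq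
          · exact ⟨r, hrq, Or.inl ⟨rfl, by omega⟩, hr.pos⟩
        obtain ⟨ω, hω⟩ : ∃ ω : Fˣ, orderOf ω = o :=
          ⟨g ^ (orderOf g / o), orderOf_pow_orderOf_div (orderOf_pos g).ne' (hg ▸ hoq)⟩
        let s1 : Fˣ →* GL (Fin k) F := Units.map (Matrix.scalar (Fin k)).toMonoidHom
        let s2 : Fˣ →* GL (Fin 2) F := Units.map (Matrix.scalar (Fin 2)).toMonoidHom
        refine ⟨s1 (ω ^ 2)⁻¹, s2 ω, ?_, ?_, ?_, ?_⟩
        · exact Units.ext (Matrix.scalar_commute (ω : F) (fun _ => Commute.all _ _) τ.1).eq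
        · show (Matrix.scalar (Fin k) _).det * (Matrix.scalar (Fin 2) _).det = 1
          simp [Matrix.scalar_apply, Matrix.det_diagonal, hk1', ← Units.val_pow_eq_pow_val,
            ← Units.val_mul]
        · rcases hor with ⟨ho', -⟩ | ⟨ho', hr3, hc0⟩
          · refine ⟨1, ?_⟩
            have h1 : ω ^ r = 1 := by rw [← ho', ← hω]; exact pow_orderOf_eq_one ω
            have h2 : ((ω ^ 2)⁻¹) ^ r = 1 := by
              rw [inv_pow, ← pow_mul, mul_comm, pow_mul, h1, one_pow, inv_one]
            rw [← map_pow, ← map_pow, h1, h2, map_one, map_one]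
            rw [show ((1 : GL (Fin k) F), (1 : GL (Fin 2) F)) = 1 from rfl, map_one, Units.val_one,
              map_one]
          · refine ⟨((ω ^ r : Fˣ) : F), hφsc' _ _ hc0 ?_ ?_⟩
            · have h9 : ((ω ^ 2)⁻¹) ^ r = ω ^ r := by
                rw [inv_pow, inv_eq_iff_mul_eq_one, ← pow_mul, ← pow_add, hr3]
                have : ω ^ 9 = 1 := by rw [← ho', ← hω]; exact pow_orderOf_eq_one ω
                simpa using this
              rw [← map_pow, h9]; rfl
            · show ((s2 ω ^ r : GL (Fin 2) F) : Matrix (Fin 2) (Fin 2) F) = _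
              rw [← map_pow]; rfl
        · intro j a hja
          obtain ⟨h1, h2, h3⟩ := hφsc _ _ hja
          simp only [← map_pow] at h1 h2
          haveI : Nonempty (Fin k) := ⟨⟨0, hk1⟩⟩
          have e1 : ((((ω ^ 2)⁻¹) ^ j : Fˣ) : F) = a := Matrix.scalar_inj.1 h1
          have e2 : ((ω ^ j : Fˣ) : F) = a := Matrix.scalar_inj.1 h2
          have e3 : orderOf ω ∣ 3 * j := by
            refine orderOf_dvd_of_pow_eq_one ?_
            have := Units.ext (e1.trans e2.symm)
            rw [inv_pow, inv_eq_iff_mul_eq_one, ← pow_mul, ← pow_add] at this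
            rwa [show 3 * j = 2 * j + j by ring]
          rcases hor with ⟨ho', hc | hr3⟩ | ⟨ho', hr3, -⟩
          · have e4 : ω ^ j = 1 := Units.ext (e2.trans (h3 hc))
            rw [← ho', ← hω]
            exact orderOf_dvd_of_pow_eq_one e4
          · rw [hω, ho'] at e3
            exact (hr.dvd_mul.1 e3).resolve_left fun h =>
              hr3 ((Nat.prime_dvd_prime_iff_eq hr Nat.prime_three).1 h)
          · rw [hω, ho'] at e3
            rw [hr3]
            omega
      · subst hk
        obtain ⟨x, hx⟩ := CfsgLib.PSLGraph.exists_element (F := F) (p := p) hr hk1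
        have hxr : x ^ r = 1 := orderOf_dvd_iff_pow_eq_one.1 hx.dvd
        have hdx : x.1.det = 1 := by
          have h1 : orderOf (Matrix.GeneralLinearGroup.det x) ∣ Nat.gcd r (q - 1) := by
            refine Nat.dvd_gcd ((orderOf_map_dvd _ x).trans hx.dvd) ?_
            exact (orderOf_dvd_natCard _).trans (dvd_of_eq hunits)
          have hcop : Nat.Coprime r (q - 1) :=
            (Nat.Prime.coprime_iff_not_dvd hr).2 (CfsgLib.PSLGraph.not_dvd_card_sub_one hk2)
          rw [hcop.gcd_eq_one, Nat.dvd_one, orderOf_eq_one_iff] at h1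
          exact congrArg Units.val h1
        refine ⟨x, 1, Commute.one_left _, by simp [hdx], ⟨1, ?_⟩, ?_⟩
        · rw [hxr, one_pow]
          rw [show ((1 : GL (Fin _) F), (1 : GL (Fin 2) F)) = 1 from rfl, map_one, Units.val_one,
            map_one]
        · intro j a hja
          obtain ⟨h1, h2, -⟩ := hφsc _ _ hja
          rw [one_pow, Units.val_one, ← map_one (Matrix.scalar (Fin 2))] at h2
          have ha : (1 : F) = a := Matrix.scalar_inj.1 h2
          rw [← ha, map_one] at h1
          exact hx.symm.dvd.trans (orderOf_dvd_of_pow_eq_one (Units.ext h1))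
    -- the product
    have hZdet : ((φ (t₁, t₂ * τ) : GL (Fin n) F) : Matrix (Fin n) (Fin n) F).det = 1 := by
      rw [hφdet, Units.val_mul, Matrix.det_mul]
      simp only [τ, Matrix.GeneralLinearGroup.val_mkOfDetNeZero]
      rw [Matrix.det_transvection_of_ne _ _ (by decide), mul_one, htdet]
    let S : Matrix.SpecialLinearGroup (Fin n) F := ⟨_, hZdet⟩
    have hpow : ∀ j, (S : Matrix (Fin n) (Fin n) F) ^ j =
        (φ (t₁ ^ j, t₂ ^ j * τ ^ j) : Matrix (Fin n) (Fin n) F) := by
      intro j
      show ((φ (t₁, t₂ * τ) : GL (Fin n) F) : Matrix (Fin n) (Fin n) F) ^ j = _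
      rw [← Units.val_pow_eq_pow_val, ← map_pow, Prod.pow_mk, htc.mul_pow]
    have hrp' : Nat.Coprime r p := (Nat.coprime_primes hr hpp).2 hrp
    refine ⟨QuotientGroup.mk' _ S, Nat.dvd_antisymm (orderOf_dvd_of_pow_eq_one ?_) ?_⟩
    · obtain ⟨a, ha⟩ := htr
      rw [hclass]
      refine ⟨a ^ p, ?_⟩
      rw [hpow, show τ ^ (r * p) = 1 by rw [mul_comm, pow_mul, hτp, one_pow], mul_one, pow_mul t₁,
        pow_mul t₂, ← Prod.pow_mk, map_pow, Units.val_pow_eq_pow_val, ha, map_pow]
    · set j := orderOf (QuotientGroup.mk' (Subgroup.center (Matrix.SpecialLinearGroup (Fin n) F)) S)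
      obtain ⟨a, ha⟩ := (hclass S j).1 (pow_orderOf_eq_one _)
      rw [hpow] at ha
      have ha0 : a ≠ 0 := by
        rintro rfl
        rw [map_zero] at ha
        exact (φ (t₁ ^ j, t₂ ^ j * τ ^ j)).ne_zero ha
      have hpj : p ∣ j := by
        obtain ⟨b, hb⟩ := htr
        have hb0 : b ≠ 0 := by
          rintro rfl
          rw [map_zero] at hb
          exact (φ (t₁ ^ r, t₂ ^ r)).ne_zero hb
        have h1 : φ (t₁ ^ j, t₂ ^ j * τ ^ j) ^ (r * (q - 1)) = 1 := Units.ext (by
          rw [Units.val_pow_eq_pow_val, ha, mul_comm, pow_mul, hscq a ha0, one_pow, Units.val_one])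
        have h2 : φ (t₁ ^ r, t₂ ^ r) ^ (j * (q - 1)) = 1 := Units.ext (by
          rw [Units.val_pow_eq_pow_val, hb, mul_comm, pow_mul, hscq b hb0, one_pow, Units.val_one])
        rw [← map_pow, ← map_one φ] at h1 h2
        have h1' := congrArg Prod.snd (hφ h1)
        have h2' := congrArg Prod.snd (hφ h2)
        simp only [Prod.pow_snd, Prod.snd_one] at h1' h2'
        rw [(htc.pow_pow j j).mul_pow, ← pow_mul, ← pow_mul] at h1'
        rw [← pow_mul, show r * (j * (q - 1)) = j * (r * (q - 1)) by ring] at h2'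
        rw [h2', one_mul] at h1'
        have h3 := orderOf_dvd_of_pow_eq_one h1'
        rw [orderOf_eq_prime hτp hτ1] at h3
        rcases hpp.dvd_mul.1 h3 with h | h
        · exact h
        · rcases hpp.dvd_mul.1 h with h' | h'
          · exact absurd ((Nat.prime_dvd_prime_iff_eq hpp hr).1 h') (Ne.symm hrp)
          · exact absurd h' hpq
      obtain ⟨e, he⟩ := hpj
      have hτj : τ ^ j = 1 := by rw [he, pow_mul, hτp, one_pow]
      rw [hτj, mul_one] at ha
      exact hrp'.mul_dvd_of_dvd_of_dvd (htdvd j a ha) ⟨e, he⟩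
  · -- non-existence
    rintro hcases ⟨g, hg⟩
    obtain ⟨z, rfl⟩ := QuotientGroup.mk'_surjective _ g
    set Z : GL (Fin n) F := Matrix.SpecialLinearGroup.toGL z with hZ
    have hone : ∀ j, (∃ a : F, (z : Matrix (Fin n) (Fin n) F) ^ j = Matrix.scalar (Fin n) a) ↔
        r * p ∣ j := fun j => by
      rw [← hclass, ← orderOf_dvd_iff_pow_eq_one, hg]
    obtain ⟨i, m, hm, ho⟩ := Nat.exists_eq_pow_mul_and_not_dvd (orderOf_pos z).ne' p hpp.ne_one
    have hrpo : r * p ∣ orderOf z := hg ▸ orderOf_map_dvd _ z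
    have hrpp : ¬ r ∣ p := fun h => hrp ((Nat.prime_dvd_prime_iff_eq hr hpp).1 h)
    have hrm : r ∣ m := by
      have h1 : r ∣ p ^ i * m := ho ▸ (dvd_of_mul_right_dvd hrpo)
      exact (hr.dvd_mul.1 h1).resolve_left fun h => hrpp (hr.dvd_of_dvd_pow h)
    have hi1 : 1 ≤ i := by
      by_contra h
      have h1 : p ∣ p ^ i * m := ho ▸ (dvd_of_mul_left_dvd hrpo)
      rw [show i = 0 by omega, pow_zero, one_mul] at h1
      exact hm h1
    -- the two commuting parts
    set N : Matrix (Fin n) (Fin n) F := (z : Matrix (Fin n) (Fin n) F) ^ m - 1 with hN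
    set t : Matrix (Fin n) (Fin n) F := (z : Matrix (Fin n) (Fin n) F) ^ (p ^ i) with ht
    have hzo : (z : Matrix (Fin n) (Fin n) F) ^ (p ^ i * m) = 1 := by
      rw [← ho, ← Matrix.SpecialLinearGroup.coe_pow, pow_orderOf_eq_one,
        Matrix.SpecialLinearGroup.coe_one]
    have hNnil : IsNilpotent N := by
      refine ⟨p ^ i, ?_⟩
      haveI := ExpChar.prime (R := F) hpp
      haveI : CharP (Matrix (Fin n) (Fin n) F) p := charP_of_injective_algebraMap
        (FaithfulSMul.algebraMap_injective F (Matrix (Fin n) (Fin n) F)) p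
      rw [hN, sub_pow_expChar_pow_of_commute p i (Commute.one_right _), ← pow_mul, mul_comm, hzo,
        one_pow, sub_self]
    have hN0 : N ≠ 0 := by
      intro h
      rw [hN, sub_eq_zero] at h
      have h1 := (hone m).1 ⟨1, by rw [h, map_one]⟩
      exact hm (dvd_of_mul_left_dvd h1)
    have htm : t ^ m = 1 := by rw [ht, ← pow_mul, hzo]
    have htc : Commute t N := (((Commute.refl _).pow_pow _ _).sub_right (Commute.one_right _))
    have htsc : ∀ j, (∃ a : F, t ^ j = Matrix.scalar (Fin n) a) ↔ r ∣ j := by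
      intro j
      rw [ht, ← pow_mul, hone]
      constructor
      · intro h
        exact (hr.dvd_mul.1 (dvd_of_mul_right_dvd h)).resolve_left fun h' =>
          hrpp (hr.dvd_of_dvd_pow h')
      · rintro ⟨c, rfl⟩
        exact mul_comm p r ▸ Nat.mul_dvd_mul (dvd_pow_self p (by omega)) (Dvd.intro c rfl)
    have htdet : t.det = 1 := by
      rw [ht, ← Matrix.SpecialLinearGroup.coe_pow]; exact (z ^ (p ^ i)).2
    by_cases hk2 : 2 ≤ k
    · -- an element of order `r`
      let T : GL (Fin n) F := Z ^ (p ^ i)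
      have hTval : (T : Matrix (Fin n) (Fin n) F) = t := by
        simp only [T, Units.val_pow_eq_pow_val, ht]
        rfl
      have hrT : r ∣ orderOf T := by
        refine (htsc _).1 ⟨1, ?_⟩
        rw [← hTval, ← Units.val_pow_eq_pow_val, pow_orderOf_eq_one, Units.val_one, map_one]
      set x := T ^ (orderOf T / r)
      have hx : orderOf x = r := orderOf_pow_orderOf_div (orderOf_pos T).ne' hrT
      have hx1 : x ^ (r * 1) = 1 := by rw [mul_one, ← hx]; exact pow_orderOf_eq_one x
      have hpr : ¬ p ∣ r := fun h => hrp ((Nat.prime_dvd_prime_iff_eq hpp hr).1 h).symm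
      obtain ⟨f, hf, hfP, -, -, hfk⟩ := CfsgLib.PSLGraph.exists_factor hr hrp
        (p := p) (fun h => hpp.ne_one (Nat.dvd_one.1 h)) x hx1
        (by rw [pow_one]; intro h; rw [h, orderOf_one] at hx; exact hr.one_lt.ne hx)
      rw [← hk] at hfk
      have hsq := squarefree_minpoly p (x : Matrix (Fin n) (Fin n) F) hpr (by
        rw [← Units.val_pow_eq_pow_val, ← hx, pow_orderOf_eq_one, Units.val_one])
      have hxc : Commute (x : Matrix (Fin n) (Fin n) F) N := by
        simp only [x, Units.val_pow_eq_pow_val, hTval]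
        exact htc.pow_left _
      have hd := Nat.le_of_dvd hf.natDegree_pos hfk
      have hb := matrix_bound _ N hxc hNnil hN0 hsq hf hfP
      rcases hcases with h | ⟨hn3, hr3, hq3, -⟩
      · omega
      · omega
    · have hk1 : k ≤ 1 := by omega
      have hns : ¬ ∃ a : F, t = Matrix.scalar (Fin n) a := fun h => by
        have := (htsc 1).1 (by simpa using h)
        exact hr.one_lt.ne' (Nat.dvd_one.1 this)
      have hn23 : n = 2 ∨ (n = 3 ∧ r = 3 ∧ 3 ∣ q - 1 ∧ ¬ 9 ∣ q - 1) := by
        rcases hcases with h | h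
        · left; omega
        · exact Or.inr h
      rcases hn23 with hn2 | ⟨hn3, hr3, hq3, hq9⟩
      · -- dimension two
        have hint : IsIntegral F t := Algebra.IsIntegral.isIntegral t
        obtain ⟨f, hf, hfP⟩ := Polynomial.exists_irreducible_of_natDegree_pos (minpoly.natDegree_pos hint)
        have hd := hf.natDegree_pos
        rcases matrix_bound t N htc hNnil hN0 (squarefree_minpoly p t hm htm) hf hfP with
          ⟨h1, h2⟩ | h1
        · apply hns
          by_cases hPf : minpoly F t ∣ f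
          · have h3 := Polynomial.natDegree_le_of_dvd hPf hf.ne_zero
            have h4 : (minpoly F t).natDegree = 1 := by
              have := minpoly.natDegree_pos hint
              omega
            obtain ⟨a, ha⟩ := (minpoly.natDegree_eq_one_iff.1 h4)
            exact ⟨a, by rw [← ha]; rfl⟩
          · have := h2 hPf
            omega
        · omega
      · -- the exceptional case
        subst hn3 hr3
        have h3F : (3 : F) ≠ 0 := by
          intro h
          have : ((3 : ℕ) : F) = 0 := by simpa using h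
          rw [CharP.cast_eq_zero_iff F p] at this
          exact hrp ((Nat.prime_dvd_prime_iff_eq hpp Nat.prime_three).1 this).symm
        have h9 : ∀ x : F, x ^ 9 = 1 → x ^ 3 = 1 := by
          intro x hx
          by_contra hx3
          have hx0 : x ≠ 0 := by rintro rfl; simp at hx
          haveI : Fact (Nat.Prime 3) := ⟨Nat.prime_three⟩
          have h1 : orderOf (Units.mk0 x hx0) = 3 ^ (1 + 1) := by
            refine orderOf_eq_prime_pow (fun h => hx3 ?_) (Units.ext (by simpa using hx))
            simpa using congrArg Units.val h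
          have h2 := orderOf_dvd_natCard (Units.mk0 x hx0)
          rw [h1, Nat.card_units, Nat.card_eq_fintype_card] at h2
          exact hq9 (by simpa using h2)
        obtain ⟨a, ha⟩ := (htsc 3).2 dvd_rfl
        let Φ : Matrix (Fin 3) (Fin 3) F ≃ₐ[F] Module.End F (Fin 3 → F) := Matrix.toLinAlgEquiv'
        obtain ⟨c, hc⟩ := CfsgLib.PSLGraph.scalar_of_cube h3F h9 (Module.finrank_fin_fun F)
          (Φ t) (Φ N) (htc.map Φ) (hNnil.map Φ) (by simpa using hN0) a
          (by
            rw [← map_pow, ha, ← Algebra.algebraMap_eq_smul_one]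
            exact Φ.commutes a)
          (by
            show LinearMap.det (Matrix.toLin' t) = 1
            rw [LinearMap.det_toLin', htdet])
        refine hns ⟨c, Φ.injective ?_⟩
        rw [hc, ← Algebra.algebraMap_eq_smul_one]
        exact (Φ.commutes c).symm

end Cfsg.Agent.S2470
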