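import Cfsg.Statements.S2471
import Cfsg.Agent.Lib.SL2Orders

set_option autoImplicit false
open Cfsg

namespace Cfsg.Agent.S2471

/-- In PSL(2,q) with q odd, the characteristic p is isolated from 2 in the prime graph: for F a finite field of odd characteristic p with at least 5 elements, PSL(2,F) has no element of order 2p. -/
theorem result {F : Type*} [Field F] [Fintype F] (p : ℕ) [Fact p.Prime] [CharP F p] (hp : p ≠ 2) (h5 : 5 ≤ Fintype.card F) (g : Matrix.ProjectiveSpecialLinearGroup (Fin 2) F) :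
    orderOf g ≠ 2 * p := by
  intro h
  have hodd : Odd (Fintype.card F) := by
    obtain ⟨⟨n, hn⟩, hcard⟩ := FiniteField.card F p
    rw [hcard.2]
    exact ((Fact.out : p.Prime).odd_of_ne_two hp).pow
  have hpq : p ∣ Fintype.card F := by
    obtain ⟨⟨n, hn⟩, hcard⟩ := FiniteField.card F p
    rw [hcard.2]
    exact dvd_pow_self p hn.ne'
  have hp1 := (Fact.out : p.Prime).one_lt
  obtain ⟨t, ht⟩ := hodd
  have key : ∀ m, g ^ m = 1 → 2 * p ∣ m := fun m hm => h ▸ orderOf_dvd_of_pow_eq_one hm
  rcases CfsgLib.SL2Orders.psl_pow_cases p ⟨t, ht⟩ g with e | e | e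
  · have h1 : p ∣ Fintype.card F - 1 := (dvd_trans ⟨2, mul_comm _ _⟩ (key _ e)).trans
      ⟨2, by omega⟩
    have h2 := Nat.dvd_sub hpq h1
    rw [show Fintype.card F - (Fintype.card F - 1) = 1 by omega, Nat.dvd_one] at h2
    omega
  · have h1 : p ∣ Fintype.card F + 1 := (dvd_trans ⟨2, mul_comm _ _⟩ (key _ e)).trans
      ⟨2, by omega⟩
    have h2 := (Nat.dvd_add_right hpq).mp h1
    rw [Nat.dvd_one] at h2
    omega
  · have := Nat.le_of_dvd (by omega) (key _ e)
    omega

end Cfsg.Agent.S2471
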