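import Cfsg.Statements.S2472
import Cfsg.Agent.Lib.PSpGraph.Basic
-- import your own Cfsg.Agent.* helpers here

set_option autoImplicit false
open Cfsg

namespace Cfsg.Agent.S2472

open CfsgLib.PSpGraph
set_option maxHeartbeats 1000000

/-- Adjacency of a prime and the characteristic in the prime graph of PSp(2n,q): let F be a finite field of characteristic p with q elements, n ≥ 2 with PSp(2n,F) simple, and let r ≠ p be an odd prime dividing the order of PSp(2n,F), with k the multiplicative order of q modulo r and η(k) = k for odd k, k/2 for even k. Then PSp(2n,F) has NO element of order r·p if and only if η(k) > n − 1. -/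
theorem result {F : Type*} [Field F] [Fintype F] (p : ℕ) [Fact p.Prime] [CharP F p] (n : ℕ) (hn : 2 ≤ n) (hsmall : n = 2 → 3 ≤ Fintype.card F)
    (r : ℕ) (hr : r.Prime) (hr2 : r ≠ 2) (hrp : r ≠ p) (hrG : r ∣ Nat.card (Cfsg.PSp n F))
    (k ηk : ℕ) (hk : k = orderOf ((Fintype.card F : ℕ) : ZMod r)) (hηk : (Odd k ∧ ηk = k) ∨ (Even k ∧ 2 * ηk = k)) :
    (r * p ∉ Set.range (orderOf : Cfsg.PSp n F → ℕ)) ↔ n - 1 < ηk := by
    classical
    have hn0 : 0 < n := by omega
    have hpp : p.Prime := Fact.out
    haveI := Fact.mk hr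
    have hqr : Nat.Coprime (Fintype.card F) r := coprime_card (F := F) hr hrp
    obtain ⟨hηk0, hηkn⟩ := eta_le (F := F) hr hrp hr2 hrG hk hηk
    have hk0 : 0 < k := by rcases hηk with ⟨-, h⟩ | ⟨-, h⟩ <;> omega
    have hco : Nat.Coprime r p := (Nat.coprime_primes hr hpp).2 hrp
    have hNodd : Odd (r * p) ∨ p = 2 := by
      by_cases h2 : p = 2
      · exact Or.inr h2
      · exact Or.inl ((hr.odd_of_ne_two hr2).mul (hpp.odd_of_ne_two h2))
    constructor
    · intro hnot
      by_contra hle
      obtain ⟨x, hx⟩ := exists_torus_order (F := F) p hηk0 hr.pos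
        ((dvd_torus hr Fintype.card_pos hk hk0 hηk).elim (fun h => Or.inr h.2) fun h => Or.inl h.2)
      obtain ⟨y, hy⟩ := exists_order_char (F := F) (n := n - ηk) p (by omega)
      obtain ⟨g, hg⟩ := exists_pair (n := n) (c := 0) (by omega) hco x hx y hy
      exact hnot (exists_proj p hn0 hNodd g hg)
    · rintro hlt ⟨g, hg⟩
      obtain ⟨A, hA⟩ := exists_lift p hn0 hNodd g hg
      obtain ⟨a, ha, hF⟩ := card_eq_pow F p
      haveI : CharP (AlgebraicClosure F) p :=
        charP_of_injective_algebraMap (algebraMap F (AlgebraicClosure F)).injective p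
      obtain ⟨R, hRc, hRt, hRM, hRS⟩ := exists_eigenvalues hn0 p a hF (AlgebraicClosure F) A
      haveI := ExpChar.prime (R := AlgebraicClosure F) hpp
      have hr1 : ∀ t ∈ R, t ^ r = 1 := fun t ht => by
        have h := (hRt t ht).1
        rw [hA, mul_comm, ← pow_one p] at h
        exact ExpChar.pow_prime_pow_mul_eq_one_iff _ _ _ _ |>.1 h
      by_cases hex : ∃ t ∈ R, t ≠ 1
      · obtain ⟨t, ht, ht1⟩ := hex
        have e1 := orbit_bound_prime hr hr2 hqr R (fun t ht => (hRt t ht).2) ht
          (orderOf_eq_prime (hr1 t ht) ht1) hk hηk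
        have e2 := (Finset.card_filter_le R fun u => orderOf u = r).trans hRc
        have e3 : R.card = n + n := by
          have := Finset.card_filter_le R fun u => orderOf u = r
          omega
        have e4 := orderOf_dvd_of_pow_eq_one (hRS r hr.pos hr1 e3)
        rw [hA] at e4
        have := Nat.le_of_dvd hr.pos e4
        have := hpp.two_le
        nlinarith [hr.pos]
      · push Not at hex
        have e1 := orderOf_dvd_of_pow_eq_one (hRM 1 one_pos fun t ht => by rw [pow_one]; exact hex t ht)
        rw [hA, mul_one] at e1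
        exact hrp ((Nat.prime_dvd_prime_iff_eq hr hpp).1 (hr.dvd_of_dvd_pow (dvd_of_mul_right_dvd e1)))

end Cfsg.Agent.S2472
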