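import Cfsg.Statements.S2475
import Cfsg.Agent.Lib.NonSplitTorus
import Cfsg.Agent.Lib.SL2Orders
import Cfsg.Agent.Lib.SLCard
import Cfsg.Agent.Lib.PSL2.Aut

set_option autoImplicit false
open Cfsg

namespace Cfsg.Agent.S2475

/-- The set of element orders of PSL(2,q): let F be a finite field of characteristic p with q ≥ 4 elements and d = gcd(2, q − 1). The orders of elements of PSL(2,F) are exactly the divisors of p, of (q − 1)/d and of (q + 1)/d. -/
theorem result {F : Type*} [Field F] [Fintype F] (p : ℕ) [Fact p.Prime] [CharP F p] (h4 : 4 ≤ Fintype.card F) :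
    Set.range (orderOf : Matrix.ProjectiveSpecialLinearGroup (Fin 2) F → ℕ) =
      {m : ℕ | m ∣ p ∨ m ∣ (Fintype.card F - 1) / Nat.gcd 2 (Fintype.card F - 1) ∨ m ∣ (Fintype.card F + 1) / Nat.gcd 2 (Fintype.card F - 1)} := by
  classical
  have hq : 1 < Fintype.card F := Fintype.one_lt_card
  set q := Fintype.card F with hqdef
  obtain ⟨g, hg⟩ := CfsgLib.NonSplitTorus.exists_orderOf_card_add_one (F := F) p
  obtain ⟨w, hw⟩ := IsCyclic.exists_ofOrder_eq_natCard (α := Fˣ)
  rw [Nat.card_units, Nat.card_eq_fintype_card, ← hqdef] at hw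
  let dHom : Fˣ →* Matrix.SpecialLinearGroup (Fin 2) F :=
    MonoidHom.mk' (fun c => CfsgLib.PSL2.dSL (c : F) c.ne_zero) fun a b => Subtype.ext (by
      simp [CfsgLib.PSL2.coe_dSL, Matrix.mul_fin_two, mul_comm])
  have hdinj : Function.Injective dHom := fun a b h => Units.ext (by
    have e : (CfsgLib.PSL2.dSL (a : F) a.ne_zero).1 = (CfsgLib.PSL2.dSL (b : F) b.ne_zero).1 :=
      congrArg Subtype.val h
    simpa [CfsgLib.PSL2.coe_dSL] using congrFun (congrFun e 0) 0)
  have hdord : orderOf (dHom w) = q - 1 := by rw [orderOf_injective dHom hdinj, hw]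
  have hd : Nat.gcd 2 (q - 1) = 1 ∧ Even q ∨ Nat.gcd 2 (q - 1) = 2 ∧ Odd q := by
    rcases Nat.even_or_odd q with he | ho
    · left
      obtain ⟨k, hk⟩ := he
      exact ⟨Nat.coprime_two_left.mpr ⟨k - 1, by omega⟩, k, hk⟩
    · right
      obtain ⟨k, hk⟩ := ho
      exact ⟨Nat.gcd_eq_left ⟨k, by omega⟩, k, hk⟩
  have hproj : ∀ x : Matrix.SpecialLinearGroup (Fin 2) F, Nat.gcd 2 (q - 1) ∣ orderOf x →
      orderOf (QuotientGroup.mk' (Subgroup.center _) x) = orderOf x / Nat.gcd 2 (q - 1) := by
    intro x hx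
    rcases hd with ⟨e, he⟩ | ⟨e, ho⟩
    · rw [e, Nat.div_one]
      refine orderOf_injective _ ?_ x
      rw [← MonoidHom.ker_eq_bot_iff, QuotientGroup.ker_mk']
      refine Subgroup.card_eq_one.mp ?_
      rw [CfsgLib.SLCard.card_SL_center (by norm_num), ← hqdef, e]
    · rw [e] at hx ⊢
      obtain ⟨k, hk⟩ := hx
      rw [hk, Nat.mul_div_cancel_left _ two_pos]
      apply Nat.dvd_antisymm
      · refine orderOf_dvd_of_pow_eq_one ?_
        rw [← map_pow]
        refine (QuotientGroup.eq_one_iff _).mpr ?_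
        have h2 : x ^ k * x ^ k = 1 := by
          rw [← pow_add, ← two_mul, ← hk, pow_orderOf_eq_one]
        rcases CfsgLib.SL2Orders.eq_one_or_neg_one_of_sq (CfsgLib.SL2Orders.two_ne_zero_of_odd ho) _ h2
          with h | h <;> rw [h]
        · exact one_mem _
        · rw [Subgroup.mem_center_iff]; intro y; simp
      · have hmem : x ^ orderOf (QuotientGroup.mk' (Subgroup.center _) x) ∈
            Subgroup.center (Matrix.SpecialLinearGroup (Fin 2) F) := by
          rw [← QuotientGroup.eq_one_iff]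
          exact (map_pow (QuotientGroup.mk' _) x _).trans (pow_orderOf_eq_one _)
        have hcard : Nat.card (Subgroup.center (Matrix.SpecialLinearGroup (Fin 2) F)) = 2 := by
          rw [CfsgLib.SLCard.card_SL_center (by norm_num), ← hqdef, e]
        let z : Subgroup.center (Matrix.SpecialLinearGroup (Fin 2) F) := ⟨_, hmem⟩
        have hz : z ^ Nat.card (Subgroup.center (Matrix.SpecialLinearGroup (Fin 2) F)) = 1 :=
          pow_card_eq_one'
        rw [hcard] at hz
        have hz' := congrArg Subtype.val hz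
        rw [SubmonoidClass.coe_pow, ← pow_mul, OneMemClass.coe_one,
          ← orderOf_dvd_iff_pow_eq_one, hk, mul_comm 2 k] at hz'
        exact (Nat.mul_dvd_mul_iff_right two_pos).mp hz'
  have hgd : Nat.gcd 2 (q - 1) ∣ q + 1 := by
    rcases hd with ⟨e, -⟩ | ⟨e, k, hk⟩ <;> rw [e]
    · exact one_dvd _
    · exact ⟨k + 1, by omega⟩
  have hex : ∀ N m, (∃ x : Matrix.ProjectiveSpecialLinearGroup (Fin 2) F, orderOf x = N) → m ∣ N →
      ∃ y : Matrix.ProjectiveSpecialLinearGroup (Fin 2) F, orderOf y = m := by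
    rintro N m ⟨x, rfl⟩ ⟨t, ht⟩
    have h0 := orderOf_pos x
    refine ⟨x ^ t, ?_⟩
    rw [orderOf_pow' x (by rintro rfl; omega), ht, Nat.gcd_mul_left_left, Nat.mul_div_cancel]
    exact Nat.pos_of_ne_zero (by rintro rfl; omega)
  ext m
  constructor
  · rintro ⟨x, rfl⟩
    rcases hd with ⟨e, he⟩ | ⟨e, ho⟩
    · haveI : CharP F 2 := by
        have h2 : ringChar F = 2 := by
          by_contra h
          have := FiniteField.odd_card_of_char_ne_two h
          obtain ⟨k, hk⟩ := he
          omega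
        exact (ringChar.eq_iff.mp h2)
      have hp : p = 2 := CharP.eq F ‹CharP F p› ‹CharP F 2›
      obtain ⟨y, rfl⟩ := QuotientGroup.mk'_surjective _ x
      simp only [Set.mem_setOf_eq, e, Nat.div_one]
      rcases CfsgLib.SL2Orders.pow_cases_char_two y with h | h | h
      · exact Or.inr (Or.inl (orderOf_dvd_of_pow_eq_one (by rw [← map_pow, h, map_one])))
      · exact Or.inr (Or.inr (orderOf_dvd_of_pow_eq_one (by rw [← map_pow, h, map_one])))
      · exact Or.inl ((orderOf_dvd_of_pow_eq_one (by rw [← map_pow, h, map_one])).trans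
          (dvd_of_eq hp.symm))
    · simp only [Set.mem_setOf_eq, e]
      rcases CfsgLib.SL2Orders.psl_pow_cases p ho x with h | h | h
      · exact Or.inr (Or.inl (orderOf_dvd_of_pow_eq_one h))
      · exact Or.inr (Or.inr (orderOf_dvd_of_pow_eq_one h))
      · exact Or.inl (orderOf_dvd_of_pow_eq_one h)
  · rintro (h | h | h)
    · exact hex p m ⟨CfsgLib.PSL2.uu 1, orderOf_eq_prime (by
        rw [← map_pow]
        have : (Multiplicative.ofAdd (1 : F)) ^ p = 1 := Multiplicative.toAdd.injective (by simp)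
        rw [this, map_one]) (fun e => by
        have := CfsgLib.PSL2.uu_injective (e.trans (map_one CfsgLib.PSL2.uHom).symm)
        simp at this)⟩ h
    · exact hex _ m ⟨_, hproj _ (by rw [hdord]; exact Nat.gcd_dvd_right _ _)⟩ (by rw [hdord]; exact h)
    · exact hex _ m ⟨_, hproj g (by rw [hg]; exact hgd)⟩ (by rw [hg]; exact h)

end Cfsg.Agent.S2475
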