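import Cfsg.Statements.S2477
import Cfsg.Agent.Lib.CycleOrders

set_option autoImplicit false
open Cfsg

namespace Cfsg.Agent.S2477

/-- Descending lists of parts at least two, with bounded head, sum and length. -/
def gen : ℕ → ℕ → ℕ → List (List ℕ)
  | 0, _, _ => [[]]
  | f + 1, n, k => [] :: (List.range' 2 (k - 1)).flatMap
      (fun a => if a ≤ n then (gen f (n - a) a).map (fun l => a :: l) else [])

theorem mem_gen : ∀ (f n k : ℕ) (l : List ℕ), l.length ≤ f → l.sum ≤ n → (∀ a ∈ l, 2 ≤ a ∧ a ≤ k) →
    l.Pairwise (· ≥ ·) → l ∈ gen f n k := by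
  intro f
  induction f with
  | zero => intro n k l hl _ _ _; rw [List.length_eq_zero_iff.mp (Nat.le_zero.mp hl)]; simp [gen]
  | succ f ih =>
    intro n k l hl hs hb hp
    cases l with
    | nil => simp [gen]
    | cons a t =>
      simp only [List.sum_cons] at hs
      simp only [List.length_cons] at hl
      obtain ⟨ha, hak⟩ := hb a List.mem_cons_self
      rw [List.pairwise_cons] at hp
      simp only [gen, List.mem_cons, List.mem_flatMap]
      refine Or.inr ⟨a, List.mem_range'_1.mpr ⟨ha, by omega⟩, ?_⟩
      rw [if_pos (by omega)]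
      exact List.mem_map.mpr ⟨t, ih _ _ _ (by omega) (by omega)
        (fun b hbt => ⟨(hb b (List.mem_cons_of_mem _ hbt)).1, hp.1 b hbt⟩) hp.2, rfl⟩

theorem check : ∀ l ∈ gen 5 10 10, Even (l.sum + l.length) →
    l.foldr Nat.lcm 1 ∈ ([1, 2, 3, 4, 5, 6, 7, 8, 9, 10, 12, 15, 21] : List ℕ) := by decide +kernel

/-- The set of element orders of the alternating group of degree 10 is {1, 2, 3, 4, 5, 6, 7, 8, 9, 10, 12, 15, 21}. -/
theorem result : Set.range (orderOf : alternatingGroup (Fin 10) → ℕ) = {1, 2, 3, 4, 5, 6, 7, 8, 9, 10, 12, 15, 21} := by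
  classical
  apply Set.Subset.antisymm
  · rintro _ ⟨⟨σ, hσ⟩, rfl⟩
    have hsign := Equiv.Perm.sign_of_cycleType σ
    rw [Equiv.Perm.mem_alternatingGroup.mp hσ] at hsign
    have hev : Even (σ.cycleType.sum + Multiset.card σ.cycleType) := by
      by_contra hne
      rw [(Nat.not_even_iff_odd.mp hne).neg_one_pow] at hsign
      exact absurd hsign (by decide)
    set l := σ.cycleType.sort (· ≥ ·) with hl
    have hle : (l : Multiset ℕ) = σ.cycleType := Multiset.sort_eq _ _
    have hsum : σ.cycleType.sum ≤ 10 := by
      rw [Equiv.Perm.sum_cycleType]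
      exact (Finset.card_le_univ _).trans_eq (Fintype.card_fin 10)
    have h2 : ∀ a ∈ σ.cycleType, 2 ≤ a := fun a ha => Equiv.Perm.two_le_of_mem_cycleType ha
    have hcard : 2 * Multiset.card σ.cycleType ≤ σ.cycleType.sum := by
      have := Multiset.card_nsmul_le_sum h2
      rw [smul_eq_mul] at this
      omega
    have hlsum : l.sum = σ.cycleType.sum := by rw [← Multiset.sum_coe, hle]
    have hllen : l.length = Multiset.card σ.cycleType := by rw [← Multiset.coe_card, hle]
    have hmem : l ∈ gen 5 10 10 := by
      refine mem_gen _ _ _ _ (by omega) (by omega) (fun a ha => ?_) (Multiset.pairwise_sort _ _)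
      have ha' : a ∈ σ.cycleType := (Multiset.mem_sort (· ≥ ·)).mp ha
      exact ⟨h2 a ha', (Multiset.le_sum_of_mem ha').trans hsum⟩
    have := check l hmem (by rw [hlsum, hllen]; exact hev)
    have hlcm : l.foldr Nat.lcm 1 = orderOf σ := by
      rw [← Equiv.Perm.lcm_cycleType, ← hle]; rfl
    rw [hlcm] at this
    rw [Subgroup.orderOf_mk]
    simpa using this
  · intro k hk
    simp only [Set.mem_insert_iff, Set.mem_singleton_iff] at hk
    rcases hk with rfl | rfl | rfl | rfl | rfl | rfl | rfl | rfl | rfl | rfl | rfl | rfl | rfl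
    · have h := CfsgLib.CycleOrders.mem_range_orderOf (n := 10) (0 : Multiset ℕ) (by decide) (by decide) (by decide)
      rwa [show (0 : Multiset ℕ).lcm = 1 from by decide +kernel] at h
    · have h := CfsgLib.CycleOrders.mem_range_orderOf (n := 10) ({2, 2} : Multiset ℕ) (by decide) (by decide) (by decide)
      rwa [show ({2, 2} : Multiset ℕ).lcm = 2 from by decide +kernel] at h
    · have h := CfsgLib.CycleOrders.mem_range_orderOf (n := 10) ({3} : Multiset ℕ) (by decide) (by decide) (by decide)
      rwa [show ({3} : Multiset ℕ).lcm = 3 from by decide +kernel] at h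
    · have h := CfsgLib.CycleOrders.mem_range_orderOf (n := 10) ({4, 2} : Multiset ℕ) (by decide) (by decide) (by decide)
      rwa [show ({4, 2} : Multiset ℕ).lcm = 4 from by decide +kernel] at h
    · have h := CfsgLib.CycleOrders.mem_range_orderOf (n := 10) ({5} : Multiset ℕ) (by decide) (by decide) (by decide)
      rwa [show ({5} : Multiset ℕ).lcm = 5 from by decide +kernel] at h
    · have h := CfsgLib.CycleOrders.mem_range_orderOf (n := 10) ({6, 2} : Multiset ℕ) (by decide) (by decide) (by decide)
      rwa [show ({6, 2} : Multiset ℕ).lcm = 6 from by decide +kernel] at h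
    · have h := CfsgLib.CycleOrders.mem_range_orderOf (n := 10) ({7} : Multiset ℕ) (by decide) (by decide) (by decide)
      rwa [show ({7} : Multiset ℕ).lcm = 7 from by decide +kernel] at h
    · have h := CfsgLib.CycleOrders.mem_range_orderOf (n := 10) ({8, 2} : Multiset ℕ) (by decide) (by decide) (by decide)
      rwa [show ({8, 2} : Multiset ℕ).lcm = 8 from by decide +kernel] at h
    · have h := CfsgLib.CycleOrders.mem_range_orderOf (n := 10) ({9} : Multiset ℕ) (by decide) (by decide) (by decide)
      rwa [show ({9} : Multiset ℕ).lcm = 9 from by decide +kernel] at h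
    · have h := CfsgLib.CycleOrders.mem_range_orderOf (n := 10) ({5, 2, 2} : Multiset ℕ) (by decide) (by decide) (by decide)
      rwa [show ({5, 2, 2} : Multiset ℕ).lcm = 10 from by decide +kernel] at h
    · have h := CfsgLib.CycleOrders.mem_range_orderOf (n := 10) ({4, 3, 2} : Multiset ℕ) (by decide) (by decide) (by decide)
      rwa [show ({4, 3, 2} : Multiset ℕ).lcm = 12 from by decide +kernel] at h
    · have h := CfsgLib.CycleOrders.mem_range_orderOf (n := 10) ({5, 3} : Multiset ℕ) (by decide) (by decide) (by decide)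
      rwa [show ({5, 3} : Multiset ℕ).lcm = 15 from by decide +kernel] at h
    · have h := CfsgLib.CycleOrders.mem_range_orderOf (n := 10) ({7, 3} : Multiset ℕ) (by decide) (by decide) (by decide)
      rwa [show ({7, 3} : Multiset ℕ).lcm = 21 from by decide +kernel] at h

end Cfsg.Agent.S2477
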