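import Cfsg.Statements.S2482
import Cfsg.Agent.Lib.IsometryClasses.Symplectic
import Cfsg.Agent.Lib.SemisimpleCount.Symplectic
-- import your own Cfsg.Agent.* helpers here

set_option autoImplicit false
open Cfsg

namespace Cfsg.Agent.S2482

/-- The number of conjugacy classes of Sp(2n,q), q odd: for F a finite field of odd order q and n ≥ 1, the number k of conjugacy classes of Sp(2n,F) satisfies q^n ≤ k ≤ 10.8·q^n. -/
theorem result {F : Type*} [Field F] [Fintype F] (hodd : Odd (Fintype.card F)) (n : ℕ) (hn : 1 ≤ n) :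
    Fintype.card F ^ n ≤ Nat.card (ConjClasses (Matrix.symplecticGroup (Fin n) F)) ∧ 5 * Nat.card (ConjClasses (Matrix.symplecticGroup (Fin n) F)) ≤ 54 * Fintype.card F ^ n := by
  ---
    classical
    obtain ⟨p, hp⟩ := CharP.exists F
    haveI : Fact p.Prime := ⟨CharP.char_is_prime F p⟩
    obtain ⟨k, hpp, hk⟩ := FiniteField.card F p
    have h2 : (2 : F) ≠ 0 := fun h => by
      have h1 : p ∣ 2 := (CharP.cast_eq_zero_iff F p 2).mp (by exact_mod_cast h)
      have h3 : p = 2 := (Nat.prime_dvd_prime_iff_eq hpp Nat.prime_two).mp h1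
      rw [hk, h3, Nat.odd_pow_iff k.pos.ne'] at hodd
      exact absurd hodd (by decide)
    haveI : Finite (Matrix (Fin n ⊕ Fin n) (Fin n ⊕ Fin n) F) := inferInstanceAs (Finite (_ → _ → F))
    haveI : Finite ↥(Matrix.symplecticGroup (Fin n) F) := Subtype.finite
    refine ⟨?_, ?_⟩
    · rw [← CfsgLib.SemisimpleCount.card_sp (F := F) rfl p n]
      exact Nat.card_le_card_of_injective _ Subtype.val_injective
    · refine le_trans (Nat.mul_le_mul le_rfl (CfsgLib.IsometryClasses.sp_classes_le h2)) ?_
      obtain ⟨j, hj⟩ := hodd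
      have := Fintype.one_lt_card (α := F)
      exact CfsgLib.IsometryClasses.spCount_le _ n n (by omega) (by omega)

end Cfsg.Agent.S2482
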