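import Cfsg.Statements.S2487
import Cfsg.Agent.Lib.SylowIntersect.PlusTwo
import Cfsg.Agent.Lib.Lagrangian

set_option autoImplicit false
open scoped Pointwise
open Cfsg

namespace Cfsg.Agent.S2487

/-- Let m ≥ 4 and let G be the full isometry group of the hyperbolic quadratic form x₁y₁ + ⋯ + x_m y_m on the 2m-dimensional space over the field with 2 elements (the orthogonal group O⁺(2m,2), which contains Ω⁺(2m,2) with index 2). Then any two Sylow 2-subgroups of G have a non-trivial intersection: for a Sylow 2-subgroup H and every x ∈ G, H ∩ H^x ≠ 1. -/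
theorem result {F : Type*} [Field F] [Fintype F] (hF : Fintype.card F = 2) {m : ℕ} (hm : 4 ≤ m)
    (H : Sylow 2 (Cfsg.isometryGroup F (Cfsg.quadFormPlus m F)))
    (x : Cfsg.isometryGroup F (Cfsg.quadFormPlus m F)) :
    (H : Subgroup (Cfsg.isometryGroup F (Cfsg.quadFormPlus m F))) ⊓ MulAut.conj x • (H : Subgroup _) ≠ ⊥ := by
  rw [Subgroup.pointwise_smul_def]
  have hF' : Nat.card F = 2 := by rw [Nat.card_eq_fintype_card, hF]
  let ρ : Cfsg.isometryGroup F (Cfsg.quadFormPlus m F) →* Module.End F (Fin m ⊕ Fin m → F) :=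
    { toFun := fun g => Matrix.toLinAlgEquiv' g.1.1
      map_one' := by simp
      map_mul' := fun a b => by
        rw [Subgroup.coe_mul, Units.val_mul, map_mul] }
  let W : Submodule F (Fin m ⊕ Fin m → F) :=
    LinearMap.range ({ toFun := fun x => Sum.elim x 0
                       map_add' := fun a b => by funext s; cases s <;> simp
                       map_smul' := fun c a => by funext s; cases s <;> simp } : (Fin m → F) →ₗ[F] (Fin m ⊕ Fin m → F))
  refine CfsgLead.PlusTwo.sylow_inf_conj_ne_bot (q := CfsgLib.Lagrangian.Qp m F) (ρ := ρ) hF'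
    CfsgLib.Lagrangian.Qp_nondeg (m := m) (by simp [two_mul]) W ?_ ?_ ?_ (by omega) ?_ ?_ H x
  · rw [LinearMap.finrank_range_of_inj]
    · simp
    · intro a b e
      funext i
      exact congrFun e (Sum.inl i)
  · rintro _ ⟨a, rfl⟩
    simp [CfsgLib.Lagrangian.Qp_apply, Cfsg.quadFormPlus]
  · intro g v
    rw [CfsgLib.Lagrangian.Qp_apply, CfsgLib.Lagrangian.Qp_apply]
    exact g.2 v v
  · intro a b e
    exact Subtype.ext (Units.ext (Matrix.toLin'.injective e))
  · intro f hf
    have h1 : ∀ M : Matrix (Fin m ⊕ Fin m) (Fin m ⊕ Fin m) F, ∀ v, M.mulVec v = Matrix.toLin' M v := fun M v =>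
      (Matrix.toLin'_apply M v).symm
    refine ⟨⟨⟨LinearMap.toMatrix' f.toLinearMap, LinearMap.toMatrix' f.symm.toLinearMap, ?_, ?_⟩, ?_⟩, ?_⟩
    · rw [← LinearMap.toMatrix'_comp]; simp
    · rw [← LinearMap.toMatrix'_comp]; simp
    · intro u v
      show Cfsg.quadFormPlus m F (Matrix.mulVec (LinearMap.toMatrix' f.toLinearMap) u) = Cfsg.quadFormPlus m F u
      rw [h1, Matrix.toLin'_toMatrix', ← CfsgLib.Lagrangian.Qp_apply, ← CfsgLib.Lagrangian.Qp_apply]
      exact hf u
    · exact Matrix.toLin'_toMatrix' _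

end Cfsg.Agent.S2487
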