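import Cfsg.Statements.S2495
import Cfsg.Agent.S2904
import Cfsg.Agent.Lib.CyclicVector
import Cfsg.Agent.Lib.SingerDet
-- import your own Cfsg.Agent.* helpers here

set_option autoImplicit false
open Cfsg

namespace Cfsg.Agent.S2495

open Matrix in
/-- The arithmetic of the criterion. -/
theorem dvd_half_iff {q h : ℕ} (hq : 2 ≤ q) (hh : 1 ≤ h) :
    Nat.gcd (∑ i ∈ Finset.range (2 * h), q ^ i) (q - 1) ∣ ∑ i ∈ Finset.range h, q ^ i ↔
      padicValNat 2 (q - 1) < padicValNat 2 (2 * h) := by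
  have hmod : ∀ k, ∑ i ∈ Finset.range k, q ^ i ≡ k [MOD q - 1] := by
    intro k
    induction k with
    | zero => rfl
    | succ k ih =>
      rw [Finset.sum_range_succ]
      refine ih.add ?_
      have h1 : q ≡ 1 [MOD q - 1] := ((Nat.modEq_iff_dvd' (by omega)).2 dvd_rfl).symm
      simpa using h1.pow k
  rw [(hmod (2 * h)).gcd_eq, ((hmod h).of_dvd (Nat.gcd_dvd_right _ _)).dvd_iff dvd_rfl]
  haveI : Fact (Nat.Prime 2) := ⟨Nat.prime_two⟩
  set d := Nat.gcd (2 * h) (q - 1) with hd
  have he := pow_padicValNat_dvd (p := 2) (n := 2 * h)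
  constructor
  · intro hdh
    by_contra hle
    push Not at hle
    have h1 : 2 ^ padicValNat 2 (2 * h) ∣ d :=
      Nat.dvd_gcd he ((padicValNat_dvd_iff_le (by omega)).2 hle)
    have h2 := (padicValNat_dvd_iff_le (by omega : h ≠ 0)).1 (h1.trans hdh)
    rw [padicValNat.mul (by omega) (by omega), padicValNat.self (by omega)] at h2
    omega
  · intro hlt
    obtain ⟨j, hj⟩ := Nat.gcd_dvd_left (2 * h) (q - 1)
    rw [← hd] at hj
    rcases Nat.even_or_odd j with ⟨t, rfl⟩ | hjo
    · exact ⟨t, by linarith⟩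
    · exfalso
      have hco : Nat.Coprime (2 ^ padicValNat 2 (2 * h)) j :=
        Nat.Coprime.pow_left _ ((Nat.Prime.coprime_iff_not_dvd Nat.prime_two).2
          hjo.not_two_dvd_nat)
      have h1 : 2 ^ padicValNat 2 (2 * h) ∣ d := hco.dvd_of_dvd_mul_right (he.trans (dvd_of_eq hj))
      have h2 := (padicValNat_dvd_iff_le (by omega : q - 1 ≠ 0)).1
        (h1.trans (Nat.gcd_dvd_right _ _))
      omega

/-- Let q be an odd prime power, n ≥ 4 even, and L = PSL(n,q). Then L has an element of order q^(n/2) + 1 if and only if the 2-part of n exceeds the 2-part of q − 1. -/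
theorem result {F : Type*} [Field F] [Fintype F] {q : ℕ} (hF : Fintype.card F = q) (hodd : Odd q)
    {n : ℕ} (hn : 4 ≤ n) (heven : Even n) :
    (∃ g : Matrix.ProjectiveSpecialLinearGroup (Fin n) F, orderOf g = q ^ (n / 2) + 1) ↔
      padicValNat 2 (q - 1) < padicValNat 2 n := by
  classical
  subst hF
  set q := Fintype.card F with hqdef
  have hq2 : 2 ≤ q := Fintype.one_lt_card
  have hq3 : 3 ≤ q := by obtain ⟨k, hk⟩ := hodd; omega
  obtain ⟨h, hnh⟩ := heven
  have hnh' : n = 2 * h := by omega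
  have hh2 : n / 2 = h := by omega
  rw [hh2]
  -- a primitive prime divisor and the Singer group around an element of that order
  obtain ⟨r, hr, hrn, hrk⟩ := Cfsg.Agent.S2904.result q n (by omega) (by omega)
    (fun h => by omega) (fun h => by omega)
  haveI := Fact.mk hr
  have hrq : ¬ r ∣ q := by
    intro h'
    have h1 : r ∣ q ^ n := h'.trans (dvd_pow_self q (by omega))
    have h2 := Nat.dvd_sub h1 hrn
    rw [Nat.sub_sub_self (Nat.one_le_pow _ _ (by omega))] at h2
    exact hr.one_lt.ne' (Nat.dvd_one.1 h2)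
  have hcast : ∀ k, (q : ZMod r) ^ k = 1 ↔ r ∣ q ^ k - 1 := by
    intro k
    rw [← Nat.cast_pow, ← Nat.cast_one, ZMod.natCast_eq_natCast_iff]
    exact ⟨fun h => (Nat.modEq_iff_dvd' (Nat.one_le_pow _ _ (by omega))).1 h.symm,
      fun h => ((Nat.modEq_iff_dvd' (Nat.one_le_pow _ _ (by omega))).2 h).symm⟩
  have hord : orderOf (q : ZMod r) = n := by
    rw [orderOf_eq_iff (by omega)]
    exact ⟨(hcast n).2 hrn, fun k hk hk0 h => hrk k hk0 hk ((hcast k).1 h)⟩
  obtain ⟨p, hchar⟩ := CharP.exists F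
  haveI := hchar
  obtain ⟨f, hpp, hpf⟩ := FiniteField.card F p
  haveI := Fact.mk hpp
  have hrp : r ≠ p := by
    rintro rfl
    exact hrq (hqdef ▸ hpf ▸ dvd_pow_self r f.ne_zero)
  have hrGL : r ∣ Nat.card (GL (Fin n) F) := by
    rw [Matrix.card_GL_field]
    refine dvd_trans ?_ (Finset.dvd_prod_of_mem _ (Finset.mem_univ ⟨0, by omega⟩))
    simpa using hrn
  -- facts about any Singer cyclic group
  have key : ∀ x : GL (Fin n) F, orderOf x = r → ∃ c : GL (Fin n) F,
      orderOf c = q ^ n - 1 ∧ (∀ y, Commute y x → y ∈ Subgroup.zpowers c) ∧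
      (∀ y ∈ Subgroup.zpowers c, y ^ (q - 1) = 1 →
        ∃ a : F, (y : Matrix (Fin n) (Fin n) F) = Matrix.scalar (Fin n) a) ∧
      orderOf (Matrix.GeneralLinearGroup.det c) = q - 1 := by
    intro x hx
    obtain ⟨hcyc, hcard⟩ := CfsgLib.CyclicVector.centralizer_of_primitive (by omega) hr hrp hord x hx
    obtain ⟨⟨c, hcC⟩, hc⟩ := hcyc.exists_generator
    have hzp : Subgroup.zpowers c = Subgroup.centralizer ({x} : Set (GL (Fin n) F)) := by
      refine le_antisymm ((Subgroup.zpowers_le).2 hcC) fun y hy => ?_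
      obtain ⟨k, hk⟩ := Subgroup.mem_zpowers_iff.1 (hc ⟨y, hy⟩)
      exact Subgroup.mem_zpowers_iff.2 ⟨k, congrArg Subtype.val hk⟩
    have hoc : orderOf c = q ^ n - 1 := by
      rw [← Nat.card_zpowers, hzp, hcard]
    refine ⟨c, hoc, fun y hy => hzp ▸ Subgroup.mem_centralizer_singleton_iff.2 hy.eq, ?_, ?_⟩
    · intro y hy hy1
      let Sol := {z : ↥(Subgroup.zpowers c) // z ^ (q - 1) = 1}
      have hsol : Nat.card Sol ≤ q - 1 := by
        haveI : Fintype ↥(Subgroup.zpowers c) := Fintype.ofFinite _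
        have := IsCyclic.card_pow_eq_one_le (α := ↥(Subgroup.zpowers c)) (n := q - 1) (by omega)
        rw [Nat.card_eq_fintype_card, Fintype.card_subtype]
        exact this
      let sc : Fˣ →* GL (Fin n) F := Units.map (Matrix.scalar (Fin n)).toMonoidHom
      have hsc : ∀ a : Fˣ, sc a ∈ Subgroup.zpowers c := fun a => by
        rw [hzp, Subgroup.mem_centralizer_singleton_iff]
        exact Units.ext ((Matrix.scalar_commute (a : F) (fun _ => Commute.all _ _) x.1).eq)
      let ψ : Fˣ → Sol := fun a => ⟨⟨sc a, hsc a⟩, Subtype.ext (by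
        rw [SubmonoidClass.coe_pow, OneMemClass.coe_one, ← map_pow]
        rw [show a ^ (q - 1) = 1 from by
          rw [hqdef, ← Nat.card_eq_fintype_card, ← Nat.card_units]; exact pow_card_eq_one']
        rw [map_one])⟩
      have hψ : Function.Bijective ψ := by
        refine Function.Injective.bijective_of_nat_card_le (fun a b hab => ?_) ?_
        · have h1 : Matrix.scalar (Fin n) (a : F) = Matrix.scalar (Fin n) (b : F) :=
            congrArg (fun z : Sol => ((z.1 : GL (Fin n) F) : Matrix (Fin n) (Fin n) F)) hab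
          haveI : Nonempty (Fin n) := ⟨⟨0, by omega⟩⟩
          exact Units.ext (Matrix.scalar_inj.1 h1)
        · rw [Nat.card_units, Nat.card_eq_fintype_card (α := F)]; exact hsol
      obtain ⟨a, ha⟩ := hψ.2 ⟨⟨y, hy⟩, Subtype.ext hy1⟩
      exact ⟨(a : F), (congrArg (fun z : Sol => ((z.1 : GL (Fin n) F) : Matrix (Fin n) (Fin n) F)) ha).symm⟩
    · have htop : Subgroup.zpowers (Matrix.GeneralLinearGroup.det c) = ⊤ := by
        rw [eq_top_iff]
        intro u _
        obtain ⟨i, hi⟩ := CfsgLib.SingerDet.exists_det_pow (by omega) c hoc (u : F) u.ne_zero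
        refine Subgroup.mem_zpowers_iff.2 ⟨(i : ℤ), Units.ext ?_⟩
        rw [zpow_natCast, ← map_pow]
        exact hi
      rw [← Nat.card_zpowers, htop, Subgroup.card_top, Nat.card_units, Nat.card_eq_fintype_card]
  -- scalars and the centre
  have hcenter : ∀ s : Matrix.SpecialLinearGroup (Fin n) F,
      s ∈ Subgroup.center _ ↔ ∃ a : F, (s : Matrix (Fin n) (Fin n) F) = Matrix.scalar (Fin n) a := by
    intro s
    rw [Matrix.SpecialLinearGroup.mem_center_iff]
    constructor
    · rintro ⟨a, -, ha⟩; exact ⟨a, ha.symm⟩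
    · rintro ⟨a, ha⟩
      refine ⟨a, ?_, ha.symm⟩
      have := s.2
      rw [ha, Matrix.scalar_apply, Matrix.det_diagonal, Finset.prod_const, Finset.card_univ] at this
      exact this
  set A := ∑ i ∈ Finset.range h, q ^ i with hA
  set Θ := ∑ i ∈ Finset.range n, q ^ i with hΘ
  set d := Nat.gcd Θ (q - 1) with hd
  have hgs : ∀ k, (q - 1) * ∑ i ∈ Finset.range k, q ^ i = q ^ k - 1 := fun k => by
    rw [mul_comm]
    exact geom_sum_mul_of_one_le (by omega) k
  have hΘA : Θ = A * (q ^ h + 1) := by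
    refine Nat.eq_of_mul_eq_mul_left (by omega : 0 < q - 1) ?_
    rw [hΘ, hgs, ← mul_assoc, hA, hgs, hnh', two_mul, pow_add]
    have := Nat.sq_sub_sq (q ^ h) 1
    rw [one_pow, sq] at this
    rw [this, mul_comm]
  have hΘpos : 0 < Θ := by
    rw [hΘ]
    exact Finset.sum_pos (fun i _ => Nat.pow_pos (by omega)) ⟨0, Finset.mem_range.2 (by omega)⟩
  have hdpos : 0 < d := Nat.gcd_pos_of_pos_left _ hΘpos
  obtain ⟨e, he⟩ := Nat.gcd_dvd_left Θ (q - 1)
  obtain ⟨e', he'⟩ := Nat.gcd_dvd_right Θ (q - 1)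
  rw [← hd] at he he'
  have hcoe : Nat.Coprime e e' := by
    have := Nat.coprime_div_gcd_div_gcd (m := Θ) (n := q - 1) hdpos
    rwa [← hd, he, he', Nat.mul_div_cancel_left _ hdpos, Nat.mul_div_cancel_left _ hdpos] at this
  have hqn : q ^ n - 1 = (q - 1) * Θ := (hgs n).symm
  have hiff : q ^ h + 1 ∣ e ↔ padicValNat 2 (q - 1) < padicValNat 2 n := by
    rw [hnh', ← dvd_half_iff hq2 (by omega : 1 ≤ h)]
    have hdd : Nat.gcd (∑ i ∈ Finset.range (2 * h), q ^ i) (q - 1) = d := by rw [hd, hΘ, hnh']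
    rw [hdd, ← Nat.mul_dvd_mul_iff_left hdpos, ← he, hΘA]
    exact Nat.mul_dvd_mul_iff_right (by positivity)
  constructor
  · rintro ⟨g, hg⟩
    rw [← hiff]
    obtain ⟨s, rfl⟩ := QuotientGroup.mk'_surjective _ g
    set s' : GL (Fin n) F := Matrix.SpecialLinearGroup.toGL s with hs'
    have hrh : r ∣ q ^ h + 1 := by
      have h1 : r ∣ (q ^ h - 1) * (q ^ h + 1) := by
        have := Nat.sq_sub_sq (q ^ h) 1
        rw [one_pow, ← pow_mul, mul_comm h 2, ← hnh'] at this
        rw [mul_comm, ← this]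
        exact hrn
      exact (hr.dvd_mul.1 h1).resolve_left (hrk h (by omega) (by omega))
    have hinj : Function.Injective
        (Matrix.SpecialLinearGroup.toGL : Matrix.SpecialLinearGroup (Fin n) F →* GL (Fin n) F) :=
      fun a b hab => Subtype.ext (congrArg
        (fun u : GL (Fin n) F => (u : Matrix (Fin n) (Fin n) F)) hab)
    have hos : r ∣ orderOf s' := by
      refine hrh.trans ?_
      rw [← hg, hs', orderOf_injective _ hinj]
      exact orderOf_map_dvd _ s
    have hx : orderOf (s' ^ (orderOf s' / r)) = r := orderOf_pow_orderOf_div (orderOf_pos s').ne' hos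
    obtain ⟨c, hoc, hmem, hscal, hdet⟩ := key _ hx
    obtain ⟨i, hi⟩ : ∃ i : ℕ, c ^ i = s' := (Submonoid.mem_powers_iff _ _).1
      (mem_powers_iff_mem_zpowers.2 (hmem s' ((Commute.refl s').pow_right _)))
    have hi1 : q - 1 ∣ i := by
      rw [← hdet]
      refine orderOf_dvd_of_pow_eq_one ?_
      rw [← map_pow, hi]
      exact Units.ext s.2
    obtain ⟨j, rfl⟩ := hi1
    have h1 : (s' ^ e) ^ (q - 1) = 1 := by
      rw [← pow_mul, ← hi, ← pow_mul, ← orderOf_dvd_iff_pow_eq_one, hoc, hqn, he, he']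
      exact ⟨j * e', by ring⟩
    obtain ⟨a, ha⟩ := hscal (s' ^ e) (by rw [← hi]; exact pow_mem (pow_mem (Subgroup.mem_zpowers c) _) _) h1
    rw [← hg]
    refine orderOf_dvd_of_pow_eq_one ?_
    rw [← map_pow]
    refine (QuotientGroup.eq_one_iff _).2 ((hcenter _).2 ⟨a, ?_⟩)
    rw [← ha, hs', ← map_pow]
    rfl
  · intro hv
    have hme := hiff.2 hv
    obtain ⟨x, hx⟩ := exists_prime_orderOf_dvd_card' r hrGL
    obtain ⟨c, hoc, -, hscal, -⟩ := key x hx
    have hdet1 : ((c ^ (q - 1) : GL (Fin n) F) : Matrix (Fin n) (Fin n) F).det = 1 := by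
      have h1 : Matrix.GeneralLinearGroup.det c ^ (q - 1) = 1 := by
        rw [hqdef, ← Nat.card_eq_fintype_card, ← Nat.card_units]; exact pow_card_eq_one'
      rw [← map_pow] at h1
      exact congrArg Units.val h1
    let s : Matrix.SpecialLinearGroup (Fin n) F := ⟨_, hdet1⟩
    have hs : Matrix.SpecialLinearGroup.toGL s = c ^ (q - 1) := Units.ext rfl
    let g : Matrix.ProjectiveSpecialLinearGroup (Fin n) F := QuotientGroup.mk' _ s
    have hpow : ∀ k, g ^ k = 1 ↔ e ∣ k := by
      intro k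
      rw [← map_pow]
      refine ((QuotientGroup.eq_one_iff _).trans (hcenter _)).trans ?_
      have hval : ((s ^ k : Matrix.SpecialLinearGroup (Fin n) F) : Matrix (Fin n) (Fin n) F) =
          ((c ^ ((q - 1) * k) : GL (Fin n) F) : Matrix (Fin n) (Fin n) F) := by
        rw [pow_mul, ← hs, ← map_pow]
        rfl
      rw [hval]
      constructor
      · rintro ⟨a, ha⟩
        have ha0 : a ≠ 0 := by
          rintro rfl
          rw [map_zero] at ha
          haveI : Nonempty (Fin n) := ⟨⟨0, by omega⟩⟩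
          exact (c ^ ((q - 1) * k)).ne_zero ha
        have h1 : (c ^ ((q - 1) * k)) ^ (q - 1) = 1 := by
          refine Units.ext ?_
          rw [Units.val_pow_eq_pow_val, ha, ← map_pow, hqdef,
            FiniteField.pow_card_sub_one_eq_one a ha0, map_one, Units.val_one]
        rw [← pow_mul, ← orderOf_dvd_iff_pow_eq_one, hoc, hqn] at h1
        have h2 : Θ ∣ (q - 1) * k := by
          rw [show (q - 1) * k * (q - 1) = (q - 1) * ((q - 1) * k) by ring] at h1
          exact (Nat.mul_dvd_mul_iff_left (by omega)).1 h1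
        rw [he, he', mul_assoc] at h2
        exact hcoe.dvd_of_dvd_mul_left ((Nat.mul_dvd_mul_iff_left hdpos).1 h2)
      · rintro ⟨t, rfl⟩
        refine hscal _ (pow_mem (Subgroup.mem_zpowers c) _) ?_
        rw [← pow_mul, ← orderOf_dvd_iff_pow_eq_one, hoc, hqn, he, he']
        exact ⟨t * e', by ring⟩
    have hog : orderOf g = e := Nat.dvd_antisymm (orderOf_dvd_of_pow_eq_one ((hpow e).2 dvd_rfl))
      ((hpow _).1 (pow_orderOf_eq_one g))
    obtain ⟨t, ht⟩ := hme
    refine ⟨g ^ (orderOf g / (q ^ h + 1)), ?_⟩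
    exact orderOf_pow_orderOf_div (orderOf_pos g).ne' (hog ▸ ⟨t, ht⟩)

end Cfsg.Agent.S2495
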