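import Cfsg.Statements.S2496
import Cfsg.Agent.S2904
import Cfsg.Agent.Lib.SpectrumPowers.UnitaryWitness
import Cfsg.Agent.Lib.SpectrumPowers.SympBound
-- import your own Cfsg.Agent.* helpers here

set_option autoImplicit false
open Cfsg

namespace Cfsg.Agent.S2496

open CfsgLib.SpectrumPowers Polynomial
open scoped Matrix
set_option maxHeartbeats 1000000

/-- The parity criterion. -/
theorem gcd_dvd_half_iff {q h : ℕ} (hh : 1 ≤ h) :
    Nat.gcd (2 * h) (q + 1) ∣ h ↔ padicValNat 2 (q + 1) < padicValNat 2 (2 * h) := by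
  haveI : Fact (Nat.Prime 2) := ⟨Nat.prime_two⟩
  set d := Nat.gcd (2 * h) (q + 1) with hd
  have he := pow_padicValNat_dvd (p := 2) (n := 2 * h)
  constructor
  · intro hdh
    by_contra hle
    push Not at hle
    have h1 : 2 ^ padicValNat 2 (2 * h) ∣ d :=
      Nat.dvd_gcd he ((padicValNat_dvd_iff_le (by omega)).2 hle)
    have h2 := (padicValNat_dvd_iff_le (by omega : h ≠ 0)).1 (h1.trans hdh)
    rw [padicValNat.mul (by omega) (by omega), padicValNat.self (by omega)] at h2
    omega
  · intro hlt
    obtain ⟨j, hj⟩ := Nat.gcd_dvd_left (2 * h) (q + 1)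
    rw [← hd] at hj
    rcases Nat.even_or_odd j with ⟨t, rfl⟩ | hjo
    · exact ⟨t, by linarith⟩
    · exfalso
      have hco : Nat.Coprime (2 ^ padicValNat 2 (2 * h)) j :=
        Nat.Coprime.pow_left _ ((Nat.Prime.coprime_iff_not_dvd Nat.prime_two).2
          hjo.not_two_dvd_nat)
      have h1 : 2 ^ padicValNat 2 (2 * h) ∣ d := hco.dvd_of_dvd_mul_right (he.trans (dvd_of_eq hj))
      have h2 := (padicValNat_dvd_iff_le (by omega : q + 1 ≠ 0)).1
        (h1.trans (Nat.gcd_dvd_right _ _))
      omega

theorem dvd_alt_iff {q d k : ℕ} (hd : d ∣ q + 1) : d ∣ (alt q k).natAbs ↔ d ∣ k := by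
  rw [← Int.natCast_dvd, ← ZMod.intCast_zmod_eq_zero_iff_dvd, ← ZMod.natCast_eq_zero_iff]
  have h1 : ((q + 1 : ℕ) : ZMod d) = 0 := (ZMod.natCast_eq_zero_iff _ _).2 hd
  have h2 : -(q : ZMod d) = 1 := by
    push_cast at h1
    linear_combination -h1
  have h3 : ((alt q k : ℤ) : ZMod d) = k := by
    simp only [alt, Int.cast_sum, Int.cast_pow, Int.cast_neg, Int.cast_natCast, h2, one_pow]
    simp
  rw [h3]

theorem gcd_alt (q k : ℕ) : Nat.gcd (alt q k).natAbs (q + 1) = Nat.gcd k (q + 1) :=
  Nat.dvd_antisymm
    (Nat.dvd_gcd ((dvd_alt_iff (Nat.gcd_dvd_right _ _)).1 (Nat.gcd_dvd_left _ _)) (Nat.gcd_dvd_right _ _))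
    (Nat.dvd_gcd ((dvd_alt_iff (Nat.gcd_dvd_right _ _)).2 (Nat.gcd_dvd_left _ _)) (Nat.gcd_dvd_right _ _))

theorem alt_two_mul (q m : ℕ) :
    (alt q (2 * m)).natAbs = (alt q m).natAbs * ((-(q : ℤ)) ^ m + 1).natAbs := by
  rw [← Int.natAbs_mul]
  congr 1
  rw [alt, two_mul, Finset.sum_range_add, alt, mul_add, mul_one, add_comm, add_left_inj]
  rw [Finset.sum_mul]
  exact Finset.sum_congr rfl fun i _ => by rw [pow_add]; ring

/-- Let q be an odd prime power, n ≥ 4 even, and U = PSU(n,q) (realised over the field with q² elements). Then U has an element of order q^(n/2) + (−1)^(n/2) — that is, q^(n/2) + 1 when n/2 is even and q^(n/2) − 1 when n/2 is odd — if and only if the 2-part of n exceeds the 2-part of q + 1. -/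
theorem result {F : Type*} [Field F] [Fintype F] {q : ℕ} (hF : Fintype.card F = q ^ 2) (hodd : Odd q)
    {n : ℕ} (hn : 4 ≤ n) (heven : Even n) :
    (∃ g : Cfsg.PSU n F q, orderOf g = if Even (n / 2) then q ^ (n / 2) + 1 else q ^ (n / 2) - 1) ↔
      padicValNat 2 (q + 1) < padicValNat 2 n := by
    classical
    obtain ⟨m, hm⟩ := heven
    have hnm : n = 2 * m := by omega
    have hm2 : 2 ≤ m := by omega
    rw [show n / 2 = m by omega]
    obtain ⟨hq, -⟩ := CfsgLib.UnitaryBasic.frob_exists hF
    have hq3 : 3 ≤ q := by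
      have h1 := Fintype.one_lt_card (α := F)
      obtain ⟨j, hj⟩ := hodd
      rcases j with _ | j
      · rw [hF, hj] at h1; simp at h1
      · omega
    obtain ⟨p, hchar⟩ := CharP.exists F
    haveI := hchar
    have hpp : p.Prime := CharP.char_is_prime F p
    haveI := Fact.mk hpp
    obtain ⟨a, hqa, ha⟩ := exists_prime_pow hF p
    obtain ⟨s, hs⟩ : ∃ s : F →+* F, ∀ x, s x = x ^ q :=
      ⟨iterateFrobenius F p a, fun x => by rw [iterateFrobenius_def, hqa]⟩
    set M := if Even m then q ^ m + 1 else q ^ m - 1 with hM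
    have hM0 : 0 < M := by
      rw [hM]
      split_ifs
      · omega
      · have : 1 < q ^ m := Nat.one_lt_pow (by omega) (by omega)
        omega
    have hMZ : ((-(q : ℤ)) ^ m + 1).natAbs = M := by
      rw [hM]
      split_ifs with hev
      · rw [hev.neg_pow]
        have : ((q : ℤ) ^ m + 1) = ((q ^ m + 1 : ℕ) : ℤ) := by push_cast; ring
        rw [this, Int.natAbs_natCast]
      · rw [(Nat.not_even_iff_odd.1 hev).neg_pow]
        have h1 : 1 ≤ q ^ m := Nat.one_le_pow _ _ (by omega)
        have : (-(q : ℤ) ^ m + 1) = -((q ^ m - 1 : ℕ) : ℤ) := by push_cast [Nat.cast_sub h1]; ring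
        rw [this, Int.natAbs_neg, Int.natAbs_natCast]
    have hA : (alt q n).natAbs = (alt q m).natAbs * M := by rw [hnm, alt_two_mul, hMZ]
    rw [hnm, ← gcd_dvd_half_iff (by omega)]
    have hgcd : Nat.gcd (alt q n).natAbs (q + 1) = Nat.gcd (2 * m) (q + 1) := by rw [gcd_alt, hnm]
    constructor
    · rintro ⟨g, hg⟩
      subst hnm
      -- a primitive prime divisor
      obtain ⟨r, hr, hrM, hQm, hord2⟩ : ∃ r : ℕ, r.Prime ∧ r ∣ M ∧ (-(q : ZMod r)) ^ m = -1 ∧
          ∀ k, (q : ZMod r) ^ (2 * k) = 1 → m ∣ k := by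
        have hcast : ∀ r k : ℕ, (q : ZMod r) ^ k = 1 ↔ r ∣ q ^ k - 1 := fun r k => by
          rw [← Nat.cast_pow, ← Nat.cast_one (R := ZMod r), ZMod.natCast_eq_natCast_iff]
          exact ⟨fun h => (Nat.modEq_iff_dvd' (Nat.one_le_pow _ _ (by omega))).1 h.symm,
            fun h => ((Nat.modEq_iff_dvd' (Nat.one_le_pow _ _ (by omega))).2 h).symm⟩
        by_cases hev : Even m
        · obtain ⟨r, hr, hrn, hrk⟩ := Cfsg.Agent.S2904.result q (2 * m) (by omega) (by omega)
            (fun h => by omega) (fun h => by omega)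
          haveI := Fact.mk hr
          have hord : orderOf (q : ZMod r) = 2 * m := by
            rw [orderOf_eq_iff (by omega)]
            exact ⟨(hcast r _).2 hrn, fun k hk hk0 h => hrk k hk0 hk ((hcast r k).1 h)⟩
          have hqm : (q : ZMod r) ^ m = -1 := by
            have h2 : ((q : ZMod r) ^ m) ^ 2 = 1 := by
              rw [← pow_mul, mul_comm, ← hord, pow_orderOf_eq_one]
            exact (sq_eq_one_iff.1 h2).resolve_left fun h =>
              hrk m (by omega) (by omega) ((hcast r m).1 h)
          refine ⟨r, hr, ?_, by rw [hev.neg_pow, hqm], fun k hk => ?_⟩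
          · rw [hM, if_pos hev, ← ZMod.natCast_eq_zero_iff, Nat.cast_add, Nat.cast_pow, hqm, Nat.cast_one]
            ring
          · have := orderOf_dvd_of_pow_eq_one hk
            rw [hord] at this
            exact (Nat.mul_dvd_mul_iff_left two_pos).1 this
        · have hmo := Nat.not_even_iff_odd.1 hev
          obtain ⟨r, hr, hrn, hrk⟩ := Cfsg.Agent.S2904.result q m (by omega) (by omega)
            (fun h => by omega) (fun h => by obtain ⟨j, hj⟩ := hmo; have := h.1; omega)
          haveI := Fact.mk hr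
          have hord : orderOf (q : ZMod r) = m := by
            rw [orderOf_eq_iff (by omega)]
            exact ⟨(hcast r _).2 hrn, fun k hk hk0 h => hrk k hk0 hk ((hcast r k).1 h)⟩
          refine ⟨r, hr, ?_, by rw [hmo.neg_pow, (hcast r m).2 hrn], fun k hk => ?_⟩
          · rw [hM, if_neg hev]; exact hrn
          · have := orderOf_dvd_of_pow_eq_one hk
            rw [hord] at this
            exact (Nat.coprime_two_right.2 hmo).dvd_of_dvd_mul_left this
      haveI := Fact.mk hr
      have hrq : ¬ r ∣ q := fun h => by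
        have h0 : (q : ZMod r) = 0 := (ZMod.natCast_eq_zero_iff _ _).2 h
        rw [h0, neg_zero, zero_pow (by omega)] at hQm
        exact one_ne_zero (neg_eq_zero.1 hQm.symm)
      have hr2 : r ≠ 2 := by
        rintro rfl
        have h1 : (q : ZMod 2) = 1 := (ZMod.natCast_eq_one_iff_odd).2 hodd
        have := hord2 1 (by rw [h1, one_pow])
        have := Nat.le_of_dvd one_pos this
        omega
      haveI : Fact (2 < r) := ⟨lt_of_le_of_ne hr.two_le (Ne.symm hr2)⟩
      have hrp : r ≠ p := fun h => hrq (by rw [hqa, h]; exact dvd_pow_self p (by omega))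
      have hordQ : orderOf (-(q : ZMod r)) = 2 * m := by
        rw [orderOf_eq_iff (by omega)]
        refine ⟨by rw [mul_comm, pow_mul, hQm]; ring, fun k hk hk0 h => ?_⟩
        have h2 : (q : ZMod r) ^ (2 * k) = 1 := by
          rw [← (even_two_mul k).neg_pow, mul_comm, pow_mul, h, one_pow]
        obtain ⟨c, hc⟩ := hord2 k h2
        obtain rfl : c = 1 := by
          rcases c with _ | _ | c
          · omega
          · rfl
          · exfalso; nlinarith
        rw [hc, mul_one, hQm] at h
        exact ZMod.neg_one_ne_one h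
      -- a lift and its eigenvalues
      obtain ⟨z, rfl⟩ := QuotientGroup.mk'_surjective _ g
      obtain ⟨h, hh⟩ : 2 ∣ M := by
        refine even_iff_two_dvd.1 ?_
        rw [hM]
        have : Odd (q ^ m) := hodd.pow
        split_ifs
        · exact this.add_one
        · exact Nat.Odd.sub_odd this odd_one
      let Ω := AlgebraicClosure F
      set ι := algebraMap F Ω with hι
      haveI : CharP Ω p := charP_of_injective_algebraMap ι.injective p
      haveI : Nonempty (Fin (2 * m)) := ⟨⟨0, by omega⟩⟩
      set fr : Ω →+* Ω := iterateFrobenius Ω p a with hfr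
      have hfrx : ∀ x : Ω, fr x = x ^ q := fun x => by rw [hfr, iterateFrobenius_def, hqa]
      set Ab := z.1.1.map ι with hAb
      set R := Ab.charpoly.roots with hR
      have hcard : Multiset.card R = 2 * m := by
        rw [hR, IsAlgClosed.card_roots_eq_natDegree, Matrix.charpoly_natDegree_eq_dim, Fintype.card_fin]
      have hroot : ∀ {t}, t ∈ R ↔ t ∈ spectrum Ω Ab := fun {t} => by
        rw [hR, mem_roots (Matrix.charpoly_monic _).ne_zero, Matrix.mem_spectrum_iff_isRoot_charpoly]
      have hpowmap : ∀ k, Ab ^ k = (z ^ k).1.1.map ι := fun k => by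
        rw [hAb, ← Matrix.map_pow, SubmonoidClass.coe_pow, Matrix.SpecialLinearGroup.coe_pow]
      have hscal : ∀ (k : ℕ) (c : F), (z ^ k).1.1 = Matrix.scalar _ c → ∀ t ∈ R, t ^ k = ι c := by
        intro k c hc t ht
        have h := spectrum.subset_polynomial_aeval Ab (X ^ k - C (ι c)) ⟨t, hroot.1 ht, rfl⟩
        rw [map_sub, map_pow, aeval_X, aeval_C, hpowmap, hc, Matrix.scalar_apply,
          Matrix.diagonal_map (map_zero ι), Matrix.algebraMap_eq_diagonal] at h
        simp only [Pi.algebraMap_def, Algebra.algebraMap_self, RingHom.id_apply] at h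
        rw [show (Matrix.diagonal fun _ : Fin (2 * m) => ι c) = Matrix.diagonal (fun _ => ι c) from rfl] at h
        simpa [sub_eq_zero, spectrum.zero_eq] using h
      have hO : orderOf z = orderOf z.1 := (Subgroup.orderOf_coe z).symm
      have htO : ∀ t ∈ R, t ^ orderOf z = 1 := fun t ht => by
        have := hscal (orderOf z) 1 (by rw [pow_orderOf_eq_one, map_one]; rfl) t ht
        rwa [map_one] at this
      have hne0 : ∀ t ∈ R, t ≠ 0 := fun t ht h0 => by
        have := htO t ht
        rw [h0, zero_pow (orderOf_pos z).ne'] at this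
        exact zero_ne_one this
      have hMo : M ∣ orderOf z := hg ▸ orderOf_map_dvd _ z
      have hclosed : ∀ t ∈ R, (t ^ q)⁻¹ ∈ R := by
        intro t ht
        have h0 : (Matrix.scalar _ t - Ab).det = 0 := by
          rw [← Matrix.eval_charpoly]
          exact (mem_roots (Matrix.charpoly_monic _).ne_zero).1 (hR ▸ ht)
        have h1 : (Matrix.scalar _ (t ^ q) - (z.1.1.map s).map ι).det = 0 := by
          have := congrArg fr h0
          rw [map_zero, RingHom.map_det, RingHom.mapMatrix_apply] at this
          rw [← this]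
          congr 1
          ext i j
          have e1 : ∀ x, (Matrix.scalar (Fin (2 * m)) x) i j = if i = j then x else (0 : Ω) := fun x => rfl
          show (Matrix.scalar (Fin (2 * m)) (t ^ q)) i j - ι (s (z.1.1 i j)) =
            fr ((Matrix.scalar (Fin (2 * m)) t) i j - ι (z.1.1 i j))
          rw [e1, e1, hs, map_sub, hfrx, hfrx, map_pow ι]
          congr 1
          split_ifs
          · rfl
          · rw [zero_pow (by omega)]
        have h2 : (z.1.1.map s)ᵀ * z.1.1 = 1 := (mem_SU_iff hs z.1).1 z.2
        have h3 : ((z.1.1.map s).map ι)ᵀ * Ab = 1 := by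
          rw [← Matrix.transpose_map, hAb, ← Matrix.map_mul, h2, Matrix.map_one ι (map_zero ι) (map_one ι)]
        have h4 : (Matrix.scalar _ (t ^ q) * Ab - 1).det = 0 := by
          rw [← h3, ← sub_mul, Matrix.det_mul]
          have : (Matrix.scalar _ (t ^ q) - ((z.1.1.map s).map ι)ᵀ).det = 0 := by
            rw [← Matrix.det_transpose, Matrix.transpose_sub, Matrix.transpose_transpose, Matrix.scalar_apply,
              Matrix.diagonal_transpose, ← Matrix.scalar_apply, h1]
          rw [this, zero_mul]
        rw [hR, mem_roots (Matrix.charpoly_monic _).ne_zero, IsRoot, Matrix.eval_charpoly]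
        have h5 : Matrix.scalar _ (t ^ q)⁻¹ - Ab = Matrix.scalar (Fin (2 * m)) (-(t ^ q)⁻¹) *
            (Matrix.scalar _ (t ^ q) * Ab - 1) := by
          rw [mul_sub, mul_one, ← mul_assoc, ← map_mul, neg_mul, inv_mul_cancel₀ (pow_ne_zero _ (hne0 t ht)),
            map_neg, map_neg, map_one, neg_one_mul]
          abel
        rw [h5, Matrix.det_mul, h4, mul_zero]
      obtain ⟨t, ht, hrt⟩ : ∃ t ∈ R, r ∣ orderOf t := by
        by_contra hc
        push Not at hc
        obtain ⟨e, L, hL, hoL⟩ := Nat.exists_eq_pow_mul_and_not_dvd (orderOf_pos z).ne' r hr.ne_one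
        have hL0 : 0 < L := Nat.pos_of_ne_zero fun h => hL (h ▸ dvd_zero r)
        have htL : ∀ t ∈ R, t ^ L = 1 := fun t ht => by
          refine orderOf_dvd_iff_pow_eq_one.1 ?_
          have h1 : orderOf t ∣ r ^ e * L := hoL ▸ orderOf_dvd_of_pow_eq_one (htO t ht)
          exact (((Nat.Prime.coprime_iff_not_dvd hr).2 (hc t ht)).symm.pow_right e).dvd_of_dvd_mul_left h1
        have h1 : Ab ^ (p ^ Nat.clog p (2 * m) * L) = 1 := pow_eq_one_of_roots p Ab hL0
          fun t ht => ⟨htL t ht, le_of_le_of_eq (Multiset.count_le_card t _) hcard⟩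
        have h2 : z ^ (p ^ Nat.clog p (2 * m) * L) = 1 := by
          refine Subtype.ext (Subtype.ext (Matrix.map_injective ι.injective ?_))
          show _ = (1 : Matrix (Fin (2 * m)) (Fin (2 * m)) F).map ι
          rw [Matrix.map_one ι (map_zero ι) (map_one ι), ← h1, hpowmap]
        rcases hr.dvd_mul.1 ((hrM.trans hMo).trans (orderOf_dvd_of_pow_eq_one h2)) with h' | h'
        · exact hrp ((Nat.prime_dvd_prime_iff_eq hr hpp).1 (hr.dvd_of_dvd_pow h'))
        · exact hL h'
      set N := orderOf t with hN
      set u : Ωˣ := Units.mk0 t (hne0 t ht) with hu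
      have huN : orderOf u = N := by rw [hN, ← orderOf_units]; rfl
      set v : ℕ → Ω := fun j => ((u ^ ((-(q : ℤ)) ^ j) : Ωˣ) : Ω) with hv
      have hvstep : ∀ j, v (j + 1) = (v j ^ q)⁻¹ := fun j => by
        simp only [hv]
        rw [← Units.val_pow_eq_pow_val, ← Units.val_inv_eq_inv_val, ← zpow_natCast, ← _root_.zpow_mul,
          ← _root_.zpow_neg]
        congr 2
        ring
      have hvmem : ∀ j, v j ∈ R := by
        intro j
        induction j with
        | zero => simpa [hv, hu] using ht
        | succ j ih => rw [hvstep]; exact hclosed _ ih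
      have hvinj : Set.InjOn v (Finset.range (2 * m) : Set ℕ) := by
        intro x hx y hy hxy
        simp only [Finset.coe_range, Set.mem_Iio] at hx hy
        have h1 := zpow_eq_zpow_iff_modEq.1 (Units.ext hxy : (u ^ ((-(q : ℤ)) ^ x) : Ωˣ) = u ^ ((-(q : ℤ)) ^ y))
        rw [huN] at h1
        have h2 := (ZMod.intCast_eq_intCast_iff _ _ r).2 (h1.of_dvd (Int.natCast_dvd_natCast.2 hrt))
        push_cast at h2
        rw [← hordQ] at hx hy
        exact pow_injOn_Iio_orderOf hx hy h2
      have hRv : R = (Finset.range (2 * m)).val.map v := by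
        refine (Multiset.eq_of_le_of_card_le ((Multiset.le_iff_subset ?_).2 ?_) ?_).symm
        · exact Multiset.Nodup.map_on (fun x hx y hy h => hvinj (Finset.mem_coe.2 hx) (Finset.mem_coe.2 hy) h)
            (Finset.range (2 * m)).nodup
        · intro x hx
          obtain ⟨j, -, rfl⟩ := Multiset.mem_map.1 hx
          exact hvmem j
        · rw [hcard, Multiset.card_map, Finset.card_val, Finset.card_range]
      have hNA : N ∣ (alt q (2 * m)).natAbs := by
        have hprod : u ^ alt q (2 * m) = 1 := by
          have e : ∀ S : Finset ℕ, ∏ j ∈ S, u ^ ((-(q : ℤ)) ^ j) = u ^ ∑ j ∈ S, (-(q : ℤ)) ^ j := by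
            intro S
            induction S using Finset.induction with
            | empty => simp
            | insert j S hj ih => rw [Finset.sum_insert hj, Finset.prod_insert hj, _root_.zpow_add, ih]
          rw [show alt q (2 * m) = ∑ j ∈ Finset.range (2 * m), (-(q : ℤ)) ^ j from rfl, ← e]
          apply Units.ext
          rw [Units.coe_prod, Units.val_one, Finset.prod_eq_multiset_prod]
          show ((Finset.range (2 * m)).val.map v).prod = 1
          rw [← hRv, hR, ← Matrix.det_eq_prod_roots_charpoly, hAb, ← RingHom.mapMatrix_apply, ← RingHom.map_det,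
            z.1.2, map_one]
        rw [← huN, ← Int.natCast_dvd]
        exact orderOf_dvd_iff_zpow_eq_one.2 hprod
      have hmk : (QuotientGroup.mk (z ^ M) : Cfsg.PSU (2 * m) F q) = 1 := by
        rw [QuotientGroup.mk_pow, ← hg]; exact pow_orderOf_eq_one _
      obtain ⟨c, hc⟩ := (mk_eq_one_iff_SU hF (by omega) _).1 hmk
      have hNM : N ∣ M * (q + 1) := by
        refine orderOf_dvd_of_pow_eq_one ?_
        have h1 := hscal M c hc t ht
        have h2 := hscal M c hc _ (hclosed t ht)
        rw [inv_pow, ← h1, ← pow_mul, mul_comm q M] at h2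
        rw [mul_add, mul_one, pow_add, ← h2, mul_inv_cancel₀]
        exact pow_ne_zero _ (hne0 t ht)
      -- the half power is not scalar
      have hNh : ¬ N ∣ h * (q + 1) := by
        intro hd
        have hjN : ∀ j, v j ^ N = 1 := fun j => by
          simp only [hv]
          rw [← Units.val_pow_eq_pow_val, ← huN, ← zpow_natCast, ← _root_.zpow_mul, mul_comm,
            _root_.zpow_mul, zpow_natCast, pow_orderOf_eq_one, _root_.one_zpow, Units.val_one]
        have hconst : ∀ j, v j ^ h = t ^ h := by
          intro j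
          induction j with
          | zero => simp [hv, hu]
          | succ j ih =>
            obtain ⟨d, hd'⟩ := hd
            have h1 : v j ^ (h * (q + 1)) = 1 := by rw [hd', pow_mul, hjN, one_pow]
            rw [hvstep, inv_pow, ← pow_mul, mul_comm q h]
            rw [mul_add, mul_one, pow_add] at h1
            rw [inv_eq_of_mul_eq_one_right h1, ih]
        have hR' : ∀ x ∈ R, x ^ h = t ^ h := fun x hx => by
          rw [hRv] at hx
          obtain ⟨j, -, rfl⟩ := Multiset.mem_map.1 hx
          exact hconst j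
        have hnd : R.Nodup := hRv ▸ Multiset.Nodup.map_on
          (fun x hx y hy h => hvinj (Finset.mem_coe.2 hx) (Finset.mem_coe.2 hy) h) (Finset.range (2 * m)).nodup
        have hh0 : 0 < h := by omega
        have hdvd : Ab.charpoly ∣ X ^ h - C (t ^ h) := by
          refine (IsAlgClosed.splits _).dvd_of_roots_le_roots (Matrix.charpoly_monic Ab).ne_zero
            ((Multiset.le_iff_subset hnd).2 fun x hx => ?_)
          rw [mem_roots (X_pow_sub_C_ne_zero hh0 _)]
          simp [hR' x hx]
        obtain ⟨P, hP⟩ := hdvd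
        have h2 := congrArg (aeval Ab) hP
        rw [map_mul, Matrix.aeval_self_charpoly, zero_mul, map_sub, map_pow, aeval_X, aeval_C, sub_eq_zero,
          hpowmap, Matrix.algebraMap_eq_diagonal] at h2
        simp only [Pi.algebraMap_def, Algebra.algebraMap_self, RingHom.id_apply] at h2
        have h3 : (QuotientGroup.mk (z ^ h) : Cfsg.PSU (2 * m) F q) = 1 := by
          refine (mk_eq_one_iff_SU hF (by omega) _).2 ⟨(z ^ h).1.1 ⟨0, by omega⟩ ⟨0, by omega⟩,
            Matrix.ext fun i j => ι.injective ?_⟩
          have e1 := congrFun (congrFun h2 i) j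
          have e2 := congrFun (congrFun h2 ⟨0, by omega⟩) ⟨0, by omega⟩
          rw [Matrix.map_apply] at e1 e2
          rw [e1, Matrix.scalar_apply, Matrix.diagonal_apply, Matrix.diagonal_apply]
          rw [Matrix.diagonal_apply_eq] at e2
          split_ifs
          · exact e2.symm
          · rw [map_zero]
        rw [QuotientGroup.mk_pow] at h3
        have := Nat.le_of_dvd hh0 (hg ▸ orderOf_dvd_of_pow_eq_one h3)
        omega
      -- arithmetic
      have hNd : N ∣ M * Nat.gcd m (q + 1) := by
        rw [← gcd_alt, ← Nat.gcd_mul_left, mul_comm M]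
        exact Nat.dvd_gcd (hA ▸ hNA) hNM
      by_contra hnd
      apply hNh
      haveI : Fact (Nat.Prime 2) := ⟨Nat.prime_two⟩
      rw [gcd_dvd_half_iff (by omega)] at hnd
      push Not at hnd
      have h2d : 2 * Nat.gcd m (q + 1) ∣ q + 1 := by
        obtain ⟨e, he⟩ := Nat.gcd_dvd_right m (q + 1)
        have hpos : 0 < Nat.gcd m (q + 1) := Nat.gcd_pos_of_pos_right _ (by omega)
        have heven : Even e := by
          by_contra hne
          have hco : Nat.Coprime (2 ^ padicValNat 2 (q + 1)) e :=
            Nat.Coprime.pow_left _ ((Nat.Prime.coprime_iff_not_dvd Nat.prime_two).2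
              (Nat.not_even_iff_odd.1 hne).not_two_dvd_nat)
          have h1 : 2 ^ padicValNat 2 (q + 1) ∣ m :=
            (hco.dvd_of_dvd_mul_right ((pow_padicValNat_dvd).trans (dvd_of_eq he))).trans (Nat.gcd_dvd_left _ _)
          have h2 := (padicValNat_dvd_iff_le (by omega : m ≠ 0)).1 h1
          rw [padicValNat.mul (by omega) (by omega), padicValNat.self (by omega)] at hnd
          omega
        obtain ⟨f, rfl⟩ := heven
        exact ⟨f, by linarith⟩
      refine hNd.trans ?_
      rw [hh, mul_comm 2 h, mul_assoc]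
      exact Nat.mul_dvd_mul_left h h2d
    · intro hd
      obtain ⟨τ, hτ⟩ := exists_uSinger hF p hs (by omega : 3 ≤ 2 * m)
      refine ⟨τ ^ (orderOf τ / M), orderOf_pow_orderOf_div (orderOf_pos τ).ne' (dvd_trans ?_ hτ)⟩
      rw [uSinger, ← hnm, hgcd, hA]
      have h1 : Nat.gcd (2 * m) (q + 1) ∣ (alt q m).natAbs := (dvd_alt_iff (Nat.gcd_dvd_right _ _)).2 hd
      obtain ⟨e, he⟩ := h1
      rw [he, mul_assoc, Nat.mul_div_cancel_left _ (Nat.gcd_pos_of_pos_right _ (by omega))]
      exact Dvd.intro_left e rfl

end Cfsg.Agent.S2496
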