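import Cfsg.Statements.S2500
import Cfsg.Agent.Lib.NormalCover.Linear
import Cfsg.Agent.Lib.NormalCover.SympEven
import Cfsg.Agent.Lib.NormalCover.G2
import Cfsg.Agent.Lib.NormalCover.U4
import Cfsg.Agent.Lib.NormalCover.U3
import Cfsg.Agent.Lib.NormalCover.Sp6

set_option autoImplicit false
open Cfsg

namespace Cfsg.Agent.S2500

/-- The infinite families of simple groups with normal covering number 2. For a finite field F: each of PSL_2(F) (|F| ≥ 4), PSL_3(F), PSL_4(F), PSU_4 over F (|F| = q²), PSU_3 over F when |F| = q² with q a power of 3, PSp_{2m}(F) for |F| even, m ≥ 2 and (m, |F|) ≠ (2, 2), PSp_6(F) for |F| a power of 3, and G_2(F) (automorphisms of the split octonions) for |F| = 2^a ≥ 4 is the union of the conjugates of two proper subgroups: there are proper subgroups H, K such that every element is conjugate into H or into K. -/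
theorem result {F : Type} [Field F] [Fintype F] :
    (4 ≤ Fintype.card F → (∃ H K : Subgroup (Matrix.ProjectiveSpecialLinearGroup (Fin 2) F), H ≠ ⊤ ∧ K ≠ ⊤ ∧ ∀ g : (Matrix.ProjectiveSpecialLinearGroup (Fin 2) F), ∃ x : (Matrix.ProjectiveSpecialLinearGroup (Fin 2) F), x * g * x⁻¹ ∈ H ∨ x * g * x⁻¹ ∈ K)) ∧
    (∃ H K : Subgroup (Matrix.ProjectiveSpecialLinearGroup (Fin 3) F), H ≠ ⊤ ∧ K ≠ ⊤ ∧ ∀ g : (Matrix.ProjectiveSpecialLinearGroup (Fin 3) F), ∃ x : (Matrix.ProjectiveSpecialLinearGroup (Fin 3) F), x * g * x⁻¹ ∈ H ∨ x * g * x⁻¹ ∈ K) ∧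
    (∃ H K : Subgroup (Matrix.ProjectiveSpecialLinearGroup (Fin 4) F), H ≠ ⊤ ∧ K ≠ ⊤ ∧ ∀ g : (Matrix.ProjectiveSpecialLinearGroup (Fin 4) F), ∃ x : (Matrix.ProjectiveSpecialLinearGroup (Fin 4) F), x * g * x⁻¹ ∈ H ∨ x * g * x⁻¹ ∈ K) ∧
    (∀ q : ℕ, Fintype.card F = q ^ 2 → (∃ H K : Subgroup (Cfsg.PSU 4 F q), H ≠ ⊤ ∧ K ≠ ⊤ ∧ ∀ g : (Cfsg.PSU 4 F q), ∃ x : (Cfsg.PSU 4 F q), x * g * x⁻¹ ∈ H ∨ x * g * x⁻¹ ∈ K)) ∧
    (∀ q a : ℕ, Fintype.card F = q ^ 2 → 1 ≤ a → q = 3 ^ a → (∃ H K : Subgroup (Cfsg.PSU 3 F q), H ≠ ⊤ ∧ K ≠ ⊤ ∧ ∀ g : (Cfsg.PSU 3 F q), ∃ x : (Cfsg.PSU 3 F q), x * g * x⁻¹ ∈ H ∨ x * g * x⁻¹ ∈ K)) ∧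
    (∀ m : ℕ, 2 ≤ m → ¬ Odd (Fintype.card F) → ¬ (m = 2 ∧ Fintype.card F = 2) → (∃ H K : Subgroup (Cfsg.PSp m F), H ≠ ⊤ ∧ K ≠ ⊤ ∧ ∀ g : (Cfsg.PSp m F), ∃ x : (Cfsg.PSp m F), x * g * x⁻¹ ∈ H ∨ x * g * x⁻¹ ∈ K)) ∧
    (∀ a : ℕ, 1 ≤ a → Fintype.card F = 3 ^ a → (∃ H K : Subgroup (Cfsg.PSp 3 F), H ≠ ⊤ ∧ K ≠ ⊤ ∧ ∀ g : (Cfsg.PSp 3 F), ∃ x : (Cfsg.PSp 3 F), x * g * x⁻¹ ∈ H ∨ x * g * x⁻¹ ∈ K)) ∧
    (∀ a : ℕ, 2 ≤ a → Fintype.card F = 2 ^ a → (∃ H K : Subgroup (Cfsg.Lie.G2 F), H ≠ ⊤ ∧ K ≠ ⊤ ∧ ∀ g : (Cfsg.Lie.G2 F), ∃ x : (Cfsg.Lie.G2 F), x * g * x⁻¹ ∈ H ∨ x * g * x⁻¹ ∈ K)) := by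
  have hchar : ∀ p k : ℕ, p.Prime → 1 ≤ k → Fintype.card F = p ^ k → CharP F p := by
    intro p k hp hk hcard
    obtain ⟨r, hr⟩ := CharP.exists F
    obtain ⟨d, hrp, hc⟩ := FiniteField.card F r
    have h1 : p ∣ r ^ (d : ℕ) := by rw [← hc, hcard]; exact dvd_pow_self p (by omega)
    have h2 : p = r := (Nat.prime_dvd_prime_iff_eq hp hrp).mp (hp.dvd_of_dvd_pow h1)
    exact h2 ▸ hr
  refine ⟨fun _ => CfsgLib.NormalCover.Linear.covered (d := 2) le_rfl (by norm_num) dvd_rfl (Or.inr rfl),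
    CfsgLib.NormalCover.Linear.covered (d := 3) (by norm_num) (by norm_num) dvd_rfl (Or.inl ⟨rfl, le_rfl⟩),
    CfsgLib.NormalCover.Linear.covered (d := 2) (by norm_num) le_rfl ⟨2, rfl⟩ (Or.inr rfl),
    fun q hq => CfsgLib.NormalCover.U4.covered hq,
    fun q a hq ha hqa => CfsgLib.NormalCover.U3.covered hq ⟨a, ha, hqa⟩, ?_, ?_, ?_⟩
  · intro m hm hodd _
    obtain ⟨p, hp⟩ := CharP.exists F
    obtain ⟨d, hpp, hc⟩ := FiniteField.card F p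
    rcases hpp.eq_two_or_odd' with h | h
    · subst h
      exact CfsgLib.NormalCover.SympEven.covered hm
    · exact absurd (by rw [hc]; exact h.pow) hodd
  · intro a ha hcard
    haveI := hchar 3 a Nat.prime_three ha hcard
    exact CfsgLib.NormalCover.Sp6.covered
  · intro a ha hcard
    haveI := hchar 2 a Nat.prime_two (by omega) hcard
    refine CfsgLib.NormalCover.G2.covered ?_
    by_contra hno
    push Not at hno
    classical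
    have hle : Fintype.card F ≤ 2 := by
      rw [← Finset.card_univ]
      refine (Finset.card_le_card (t := {0, 1}) fun t _ => ?_).trans Finset.card_le_two
      by_cases h0 : t = 0
      · simp [h0]
      · simp [hno t h0]
    have h4 : 2 ^ 2 ≤ 2 ^ a := Nat.pow_le_pow_right (by norm_num) ha
    omega

end Cfsg.Agent.S2500
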