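import Cfsg.Statements.S2503
import Cfsg.Agent.Lib.SL2Centralizer
import Cfsg.Agent.Lib.NonSplitTorus
import Cfsg.Agent.Lib.PSL2.Aut
import Cfsg.Agent.Lib.TwoByTwo

set_option autoImplicit false
open Cfsg

namespace Cfsg.Agent.S2503

open Matrix CfsgLib in
theorem exists_companion {F : Type*} [Field F] [Fintype F] [CharP F 2] :
    ∃ (t : F) (J : SpecialLinearGroup (Fin 2) F), J.1 = GL2Classes.comp t 1 ∧
      orderOf J = Fintype.card F + 1 ∧ t ^ 2 ≠ 4 ∧ Nat.card {s : F // s * s + t * s + 1 = 0} = 0 := by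
  have hfour : (4 : F) = 0 := by linear_combination (2 : F) * (CharTwo.two_eq_zero : (2 : F) = 0)
  obtain ⟨g, hg⟩ := NonSplitTorus.exists_orderOf_card_add_one (F := F) 2
  have hq := Fintype.one_lt_card (α := F)
  have h0 : g.1.trace ≠ 0 := fun h => by
    have : g ^ 2 = 1 := by
      refine Subtype.ext ?_
      rw [sq]
      show g.1 * g.1 = 1
      rw [SL2Orders.sq_eq g, h, zero_smul, zero_sub]
      ext i j
      simp [CharTwo.neg_eq]
    have := Nat.le_of_dvd two_pos (orderOf_dvd_of_pow_eq_one this)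
    omega
  have ht : g.1.trace ^ 2 ≠ 4 := by rw [hfour]; exact pow_ne_zero 2 h0
  obtain ⟨P, hP⟩ := GL2Classes.exists_conj_comp (SL2Centralizer.not_scalar_of_trace ht)
  rw [g.2] at hP
  let J : SpecialLinearGroup (Fin 2) F := ⟨GL2Classes.comp g.1.trace 1, GL2Classes.det_comp _ _⟩
  have hord : orderOf J = Fintype.card F + 1 := by
    rw [← hg, ← orderOf_injective SpecialLinearGroup.toGL SpecialLinearGroup.toGL_injective,
      ← MulEquiv.orderOf_eq (MulAut.conj P) (SpecialLinearGroup.toGL J),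
      ← orderOf_injective SpecialLinearGroup.toGL SpecialLinearGroup.toGL_injective g]
    congr 1
    rw [MulAut.conj_apply, mul_inv_eq_iff_eq_mul]
    exact Units.ext hP.symm
  refine ⟨g.1.trace, J, rfl, hord, ht, ?_⟩
  refine (SL2Centralizer.card_roots ht).resolve_right fun hr => ?_
  have h := SL2Centralizer.card_centralizer ht
  rw [hr] at h
  have hle : orderOf g ∣ Nat.card (Subgroup.centralizer ({g} : Set (SpecialLinearGroup (Fin 2) F))) := by
    rw [← Nat.card_zpowers]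
    exact Subgroup.card_dvd_of_le (Subgroup.zpowers_le.mpr (Subgroup.mem_centralizer_singleton_iff.mpr rfl))
  have := Nat.le_of_dvd Nat.card_pos hle
  omega

open Matrix CfsgLib in
theorem forall_mem_double_coset {F : Type*} [Field F] [Fintype F] [CharP F 2] {t : F}
    {J : SpecialLinearGroup (Fin 2) F} (hJ : J.1 = GL2Classes.comp t 1) (ht : t ^ 2 ≠ 4)
    (hroots : Nat.card {s : F // s * s + t * s + 1 = 0} = 0)
    (hcardA : Nat.card (Subgroup.centralizer ({J} : Set (SpecialLinearGroup (Fin 2) F))) = Fintype.card F + 1)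
    (x : SpecialLinearGroup (Fin 2) F) :
    ∃ a ∈ Subgroup.centralizer ({J} : Set (SpecialLinearGroup (Fin 2) F)), ∃ s : F,
      ∃ c ∈ Subgroup.centralizer ({J} : Set (SpecialLinearGroup (Fin 2) F)), a * PSL2.uSL s * c = x := by
  classical
  set A := Subgroup.centralizer ({J} : Set (SpecialLinearGroup (Fin 2) F)) with hA
  have htwo : (2 : F) = 0 := CharTwo.two_eq_zero
  have ht0 : t ≠ 0 := fun e => ht (by rw [e]; linear_combination (-(2 : F)) * htwo)
  have hneg : ∀ a : F, -a = a := fun a => CharTwo.neg_eq a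
  have huinv : ∀ s : F, (PSL2.uSL s)⁻¹ = PSL2.uSL s := fun s => inv_eq_of_mul_eq_one_right (by
    rw [TwoByTwo.uSL_mul, CharTwo.add_self_eq_zero, TwoByTwo.uSL_zero])
  let M : F → Matrix (Fin 2) (Fin 2) F := fun s => !![s, s * s + t * s + 1; 1, s + t]
  have hM : ∀ s, (PSL2.uSL s).1 * J.1 = M s * (PSL2.uSL s).1 := fun s => by
    rw [hJ]
    ext i j
    fin_cases i <;> fin_cases j <;>
      simp [M, GL2Classes.comp, PSL2.coe_uSL, Matrix.mul_apply, Fin.sum_univ_two, hneg]
    all_goals linear_combination (norm := (ring_nf; simp [htwo])) (0 : F) * htwo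
  have hns : ∀ a : F, J.1 ≠ a • (1 : Matrix (Fin 2) (Fin 2) F) := by
    rw [hJ]; exact GL2Classes.comp_ne_scalar t 1
  have eM : ∀ r, (PSL2.uSL r * J * (PSL2.uSL r)⁻¹).1 = M r := fun r => by
    show (PSL2.uSL r).1 * J.1 * ((PSL2.uSL r)⁻¹).1 = M r
    rw [hM, Matrix.mul_assoc, show (PSL2.uSL r).1 * ((PSL2.uSL r)⁻¹).1 = 1 from
      congrArg Subtype.val (mul_inv_cancel (PSL2.uSL r)), Matrix.mul_one]
  have htrconj : ∀ a z : SpecialLinearGroup (Fin 2) F, (a * z * a⁻¹).1.trace = z.1.trace := fun a z => by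
    show (a.1 * z.1 * (a⁻¹).1).trace = _
    rw [Matrix.trace_mul_comm, ← Matrix.mul_assoc,
      show (a⁻¹).1 * a.1 = 1 from congrArg Subtype.val (inv_mul_cancel a), Matrix.one_mul]
  -- the double coset of `uSL s` determines `s`
  have hdisj : ∀ s s' : F, ∀ a ∈ A, ∀ c ∈ A, a * PSL2.uSL s * c = PSL2.uSL s' → s = s' := by
    intro s s' a ha c hc h
    rw [hA, Subgroup.mem_centralizer_singleton_iff] at ha hc
    let Ms : SpecialLinearGroup (Fin 2) F := PSL2.uSL s * J * (PSL2.uSL s)⁻¹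
    have e1 : (PSL2.uSL s' * J * (PSL2.uSL s')⁻¹) = a * Ms * a⁻¹ := by
      rw [← h, mul_assoc (a * PSL2.uSL s) c J, hc]
      simp only [Ms]
      group
    have e2 : (J * (PSL2.uSL s' * J * (PSL2.uSL s')⁻¹)).1.trace = (J * Ms).1.trace := by
      rw [e1, show J * (a * Ms * a⁻¹) = a * (J * Ms) * a⁻¹ by
        simp only [← mul_assoc]; rw [← ha], htrconj]
    change (J.1 * (PSL2.uSL s' * J * (PSL2.uSL s')⁻¹).1).trace = (J.1 * Ms.1).trace at e2
    rw [eM, show Ms.1 = M s from eM s, hJ] at e2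
    simp [M, GL2Classes.comp, Matrix.trace_fin_two, Matrix.mul_apply, Fin.sum_univ_two, hneg] at e2
    have e3 : (s - s') * (s - s') = 0 := by
      linear_combination (-(1 : F)) * e2 + (-(s * s') + s' * s' + t * s' - t * s) * htwo
    exact sub_eq_zero.mp (mul_self_eq_zero.mp e3)
  -- the generic double coset is free
  have hfree : ∀ s : F, s ≠ 0 → s ≠ t → ∀ a ∈ A, ∀ c ∈ A, a * PSL2.uSL s = PSL2.uSL s * c → a = 1 := by
    intro s hs0 hst a ha c hc h
    rw [hA, Subgroup.mem_centralizer_singleton_iff] at ha hc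
    obtain ⟨x, y, hxy⟩ := SL2Centralizer.exists_of_commute hns (congrArg Subtype.val hc : c.1 * J.1 = J.1 * c.1)
    obtain ⟨x', y', hxy'⟩ := SL2Centralizer.exists_of_commute hns (congrArg Subtype.val ha : a.1 * J.1 = J.1 * a.1)
    have e : a.1 * (PSL2.uSL s).1 = (PSL2.uSL s).1 * c.1 := congrArg Subtype.val h
    rw [hxy, hxy', hJ] at e
    have e10 := congrFun (congrFun e 1) 0
    have e00 := congrFun (congrFun e 0) 0
    have e01 := congrFun (congrFun e 0) 1
    simp [GL2Classes.comp, PSL2.coe_uSL, Matrix.mul_apply, Fin.sum_univ_two, hneg] at e10 e00 e01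
    have hy : y' * (s * (s - t)) = 0 := by
      linear_combination (norm := (ring_nf; try simp [htwo])) e01 - s * e00 + (s * s - s * t - 1) * e10
    have hy0 : y' = 0 := (mul_eq_zero.mp hy).resolve_right
      (mul_ne_zero hs0 (sub_ne_zero.mpr hst))
    rw [hy0, zero_smul, add_zero] at hxy'
    refine Subtype.ext ?_
    show a.1 = (1 : Matrix (Fin 2) (Fin 2) F)
    rw [hxy']
    have hd := a.2
    rw [hxy', Matrix.det_smul, Fintype.card_fin, Matrix.det_one, mul_one, sq] at hd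
    rcases mul_self_eq_one_iff.mp hd with e | e <;> simp [e, hneg]
  let S := {s : F // s ∉ ({0, t} : Finset F)}
  let f : (A ⊕ A) ⊕ (S × A × A) → SpecialLinearGroup (Fin 2) F :=
    Sum.elim (Sum.elim (fun a => a.1 * PSL2.uSL 0 * 1) (fun a => a.1 * PSL2.uSL t * 1))
      (fun z => z.2.1.1 * PSL2.uSL z.1.1 * z.2.2.1)
  have hmove : ∀ (s s' : F) (a c a' c' : SpecialLinearGroup (Fin 2) F), a ∈ A → c ∈ A → a' ∈ A → c' ∈ A →
      a * PSL2.uSL s * c = a' * PSL2.uSL s' * c' → s = s' := fun s s' a c a' c' ha hc ha' hc' h =>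
    hdisj s s' (a'⁻¹ * a) (A.mul_mem (A.inv_mem ha') ha) (c * c'⁻¹) (A.mul_mem hc (A.inv_mem hc'))
      (by rw [show a'⁻¹ * a * PSL2.uSL s * (c * c'⁻¹) = a'⁻¹ * (a * PSL2.uSL s * c) * c'⁻¹ by group, h]
          group)
  have hinj : Function.Injective f := by
    rintro ((a | a) | ⟨s, a, c⟩) ((a' | a') | ⟨s', a', c'⟩) h <;>
      simp only [f, Sum.elim_inl, Sum.elim_inr] at h
    · rw [mul_one, mul_one] at h
      exact congrArg _ (congrArg _ (Subtype.ext (mul_right_cancel h)))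
    · exact absurd (hmove _ _ _ _ _ _ a.2 A.one_mem a'.2 A.one_mem h) ht0.symm
    · exact absurd (hmove _ _ _ _ _ _ a.2 A.one_mem a'.2 c'.2 h) (fun e => s'.2 (by simp [← e]))
    · exact absurd (hmove _ _ _ _ _ _ a.2 A.one_mem a'.2 A.one_mem h) ht0
    · rw [mul_one, mul_one] at h
      exact congrArg _ (congrArg _ (Subtype.ext (mul_right_cancel h)))
    · exact absurd (hmove _ _ _ _ _ _ a.2 A.one_mem a'.2 c'.2 h) (fun e => s'.2 (by simp [← e]))
    · exact absurd (hmove _ _ _ _ _ _ a.2 c.2 a'.2 A.one_mem h) (fun e => s.2 (by simp [e]))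
    · exact absurd (hmove _ _ _ _ _ _ a.2 c.2 a'.2 A.one_mem h) (fun e => s.2 (by simp [e]))
    · have hs : s = s' := Subtype.ext (hmove _ _ _ _ _ _ a.2 c.2 a'.2 c'.2 h)
      subst hs
      have hs2 : s.1 ≠ 0 ∧ s.1 ≠ t := by simpa [not_or] using s.2
      have h1 := hfree s.1 hs2.1 hs2.2 (a'.1⁻¹ * a.1) (A.mul_mem (A.inv_mem a'.2) a.2) (c'.1 * c.1⁻¹)
        (A.mul_mem c'.2 (A.inv_mem c.2)) (by
          calc a'.1⁻¹ * a.1 * PSL2.uSL s.1 = a'.1⁻¹ * (a.1 * PSL2.uSL s.1 * c.1) * c.1⁻¹ := by group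
            _ = a'.1⁻¹ * (a'.1 * PSL2.uSL s.1 * c'.1) * c.1⁻¹ := by rw [h]
            _ = _ := by group)
      have ha : a = a' := Subtype.ext (inv_mul_eq_one.mp h1).symm
      subst ha
      rw [mul_right_inj] at h
      exact congrArg _ (Prod.ext rfl (Prod.ext rfl (Subtype.ext h)))
  have hbij := hinj.bijective_of_nat_card_le (by
    obtain ⟨k, hk⟩ : ∃ k, Fintype.card F = k + 2 :=
      ⟨Fintype.card F - 2, by have := Fintype.one_lt_card (α := F); omega⟩
    rw [Nat.card_sum, Nat.card_sum, Nat.card_prod, Nat.card_prod, hcardA, SLCard.card_SL_two,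
      show Nat.card S = Fintype.card F - 2 by
        rw [Nat.card_eq_fintype_card, Fintype.card_subtype_compl, Fintype.card_coe,
          Finset.card_pair ht0.symm], hk, Nat.add_sub_cancel]
    have e : (k + 2) ^ 2 - 1 = k * k + 4 * k + 3 := by
      rw [show (k + 2) ^ 2 = (k * k + 4 * k + 3) + 1 by ring, Nat.add_sub_cancel]
    rw [e]
    exact le_of_eq (by ring))
  obtain ⟨z, hz⟩ := hbij.2 x
  rcases z with (a | a) | ⟨s, a, c⟩
  · exact ⟨a, a.2, 0, 1, A.one_mem, hz⟩
  · exact ⟨a, a.2, t, 1, A.one_mem, hz⟩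
  · exact ⟨a, a.2, s, c, c.2, hz⟩


/-- Let F be a finite field with q = 2^t ≥ 4 elements and L = PSL(2,F). Then L has a cyclic subgroup A of order q + 1 and an elementary abelian 2-subgroup B of order q such that L = ABA: every element of L is a product a·b·a' with a, a' ∈ A and b ∈ B. -/
theorem result {F : Type*} [Field F] [Fintype F]
    (h2 : 2 ∣ Fintype.card F) (h4 : 4 ≤ Fintype.card F) :
    ∃ A B : Subgroup (Matrix.ProjectiveSpecialLinearGroup (Fin 2) F),
      IsCyclic A ∧ Nat.card A = Fintype.card F + 1 ∧ IsMulCommutative B ∧ (∀ b ∈ B, b * b = 1) ∧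
        Nat.card B = Fintype.card F ∧
        ∀ g : Matrix.ProjectiveSpecialLinearGroup (Fin 2) F, ∃ a ∈ A, ∃ b ∈ B, ∃ c ∈ A, g = a * b * c := by
  classical
  obtain ⟨p, hp⟩ := CharP.exists F
  haveI : Fact p.Prime := ⟨CharP.char_is_prime F p⟩
  have hp2 : p = 2 := by
    obtain ⟨n, -, hn⟩ := FiniteField.card F p
    exact ((Nat.prime_dvd_prime_iff_eq Nat.prime_two (Fact.out : p.Prime)).mp
      (Nat.prime_two.dvd_of_dvd_pow (hn ▸ h2))).symm
  subst hp2
  obtain ⟨t, J, hJ, hJord, ht, hroots⟩ := exists_companion (F := F)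
  set A₀ := Subgroup.centralizer ({J} : Set (Matrix.SpecialLinearGroup (Fin 2) F)) with hA₀
  have hcardA : Nat.card A₀ = Fintype.card F + 1 := by
    have h := CfsgLib.SL2Centralizer.card_centralizer (g := J) (by
      rw [hJ, CfsgLib.GL2Classes.trace_comp]
      exact ht)
    rw [hJ, CfsgLib.GL2Classes.trace_comp, hroots, Nat.add_zero] at h
    exact h
  have hz : A₀ = Subgroup.zpowers J := (Subgroup.eq_of_le_of_card_ge
    (Subgroup.zpowers_le.mpr (Subgroup.mem_centralizer_singleton_iff.mpr rfl))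
    (by rw [hcardA, Nat.card_zpowers, hJord])).symm
  have hprod := forall_mem_double_coset hJ ht hroots hcardA
  set π := QuotientGroup.mk' (Subgroup.center (Matrix.SpecialLinearGroup (Fin 2) F)) with hπ
  have hinj : Function.Injective π := by
    rw [← MonoidHom.ker_eq_bot_iff, hπ, QuotientGroup.ker_mk']
    refine Subgroup.card_eq_one.mp ?_
    rw [CfsgLib.SLCard.card_SL_center (by norm_num)]
    obtain ⟨k, hk⟩ := h2
    exact Nat.coprime_two_left.mpr ⟨k - 1, by omega⟩
  refine ⟨A₀.map π, (CfsgLib.PSL2.uHom : Multiplicative F →* _).range, ?_, ?_, ⟨⟨?_⟩⟩, ?_, ?_, ?_⟩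
  · rw [hz, MonoidHom.map_zpowers]
    infer_instance
  · rw [Nat.card_congr (A₀.equivMapOfInjective π hinj).toEquiv.symm, hcardA]
  · rintro ⟨_, a, rfl⟩ ⟨_, b, rfl⟩
    exact Subtype.ext (by simp [← map_mul, mul_comm])
  · rintro _ ⟨a, rfl⟩
    rw [← map_mul, show a * a = 1 from Multiplicative.toAdd.injective (by
      simp [CharTwo.add_self_eq_zero]), map_one]
  · rw [Nat.card_congr (MonoidHom.ofInjective (f := (CfsgLib.PSL2.uHom : Multiplicative F →* _))
      (fun a b h => Multiplicative.toAdd.injective (CfsgLib.PSL2.uu_injective h))).toEquiv.symm,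
      Nat.card_congr (Multiplicative.toAdd (α := F))]
    exact Nat.card_eq_fintype_card
  · intro g
    obtain ⟨x, rfl⟩ := QuotientGroup.mk'_surjective _ g
    obtain ⟨a, ha, s, c, hc, rfl⟩ := hprod x
    exact ⟨π a, ⟨a, ha, rfl⟩, CfsgLib.PSL2.uu s, ⟨_, rfl⟩, π c, ⟨c, hc, rfl⟩, by
      rw [map_mul, map_mul]; rfl⟩

end Cfsg.Agent.S2503
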