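import Cfsg.Statements.S2504
import Cfsg.Agent.Lib.Perm.MaxAbelian

set_option autoImplicit false
open Cfsg

namespace Cfsg.Agent.S2504

/-- The largest order of an abelian subgroup of the alternating group of degree n is 3^k when n = 3k, 4·3^(k−1) when n = 3k + 1, and 16·3^(k−2) when n = 3k + 2, for every k ≥ 2 (so for all degrees n ≥ 6). -/
theorem result (k : ℕ) (hk : 2 ≤ k) :
    IsGreatest {c : ℕ | ∃ A : Subgroup (alternatingGroup (Fin (3 * k))), IsMulCommutative A ∧ Nat.card A = c} (3 ^ k) ∧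
    IsGreatest {c : ℕ | ∃ A : Subgroup (alternatingGroup (Fin (3 * k + 1))), IsMulCommutative A ∧ Nat.card A = c}
      (4 * 3 ^ (k - 1)) ∧
    IsGreatest {c : ℕ | ∃ A : Subgroup (alternatingGroup (Fin (3 * k + 2))), IsMulCommutative A ∧ Nat.card A = c}
      (16 * 3 ^ (k - 2)) := by
  obtain ⟨j, rfl⟩ : ∃ j, k = j + 2 := ⟨k - 2, by omega⟩
  have up : ∀ n : ℕ, ∀ A : Subgroup (alternatingGroup (Fin n)), IsMulCommutative A →
      ∃ B : Subgroup (Equiv.Perm (Fin n)), IsMulCommutative B ∧ B ≤ alternatingGroup (Fin n) ∧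
        Nat.card B = Nat.card A := by
    intro n A hA
    haveI := hA
    exact ⟨A.map (alternatingGroup (Fin n)).subtype, inferInstance, Subgroup.map_subtype_le A,
      Nat.card_congr (A.equivMapOfInjective _ (Subgroup.subtype_injective _)).toEquiv.symm⟩
  have down : ∀ n : ℕ, ∀ B : Subgroup (Equiv.Perm (Fin n)), IsMulCommutative B →
      B ≤ alternatingGroup (Fin n) →
      ∃ A : Subgroup (alternatingGroup (Fin n)), IsMulCommutative A ∧ Nat.card A = Nat.card B := by
    intro n B hB hle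
    haveI := hB
    exact ⟨B.subgroupOf _, inferInstance, Nat.card_congr (Subgroup.subgroupOfEquivOfLe hle).toEquiv⟩
  haveI : ∀ i : Fin (j + 2), NeZero (Fin.cons (α := fun _ => ℕ) 2 (fun _ => 3) i) := fun i => by
    constructor; cases i using Fin.cases <;> simp
  haveI : ∀ i : Fin (j + 2), NeZero (Fin.cons (α := fun _ => ℕ) 2 (fun _ => 1) i) := fun i => by
    constructor; cases i using Fin.cases <;> simp
  haveI : ∀ i : Fin (j + 1 + 1), NeZero (Fin.cons (α := fun _ => ℕ) 2 (Fin.cons (α := fun _ => ℕ) 2 (fun _ => 3)) i) :=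
    fun i => by
    constructor
    cases i using Fin.cases with
    | zero => simp
    | succ i => cases i using Fin.cases <;> simp
  haveI : ∀ i : Fin (j + 1 + 1), NeZero (Fin.cons (α := fun _ => ℕ) 2 (Fin.cons (α := fun _ => ℕ) 2 (fun _ => 1)) i) :=
    fun i => by
    constructor
    cases i using Fin.cases with
    | zero => simp
    | succ i => cases i using Fin.cases <;> simp
  refine ⟨⟨?_, ?_⟩, ⟨?_, ?_⟩, ⟨?_, ?_⟩⟩
  · obtain ⟨B, h1, h2, h3⟩ := CfsgLib.MaxAbelianPerm.exists_pieces (r := j + 2) (fun _ => 3) (fun _ => 1)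
      (3 * (j + 2)) (by simp [mul_comm])
    obtain ⟨A, hA, hc⟩ := down _ B h1 (h3 fun i => Or.inl (by decide))
    exact ⟨A, hA, by rw [hc]; simpa using h2⟩
  · rintro c ⟨A, hA, rfl⟩
    obtain ⟨B, h1, -, hc⟩ := up _ A hA
    have := CfsgLib.MaxAbelianPerm.card_le_mp _ (Fintype.card_fin _) B h1
    rwa [CfsgLib.MaxAbelianPerm.mp_three, hc] at this
  · obtain ⟨B, h1, h2, h3⟩ := CfsgLib.MaxAbelianPerm.exists_pieces (r := j + 2)
      (Fin.cons (α := fun _ => ℕ) 2 (fun _ => 3)) (Fin.cons (α := fun _ => ℕ) 2 (fun _ => 1))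
      (3 * (j + 2) + 1) (by simp [Fin.sum_univ_succ]; ring)
    obtain ⟨A, hA, hc⟩ := down _ B h1 (h3 fun i => by
      cases i using Fin.cases with
      | zero => right; simp
      | succ i => left; simp; decide)
    exact ⟨A, hA, by rw [hc]; simpa [Fin.prod_univ_succ] using h2⟩
  · rintro c ⟨A, hA, rfl⟩
    obtain ⟨B, h1, -, hc⟩ := up _ A hA
    have := CfsgLib.MaxAbelianPerm.card_le_mp (3 * (j + 1) + 4) (by rw [Fintype.card_fin]; ring) B h1
    rw [CfsgLib.MaxAbelianPerm.mp_four, hc] at this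
    exact this
  · obtain ⟨B, h1, h2, h3⟩ := CfsgLib.MaxAbelianPerm.exists_pieces (r := j + 1 + 1)
      (Fin.cons (α := fun _ => ℕ) 2 (Fin.cons (α := fun _ => ℕ) 2 (fun _ => 3)))
      (Fin.cons (α := fun _ => ℕ) 2 (Fin.cons (α := fun _ => ℕ) 2 (fun _ => 1)))
      (3 * (j + 2) + 2) (by simp [Fin.sum_univ_succ]; ring)
    obtain ⟨A, hA, hc⟩ := down _ B h1 (h3 fun i => by
      cases i using Fin.cases with
      | zero => right; simp
      | succ i =>
        cases i using Fin.cases with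
        | zero => right; simp
        | succ i => left; simp; decide)
    refine ⟨A, hA, ?_⟩
    rw [hc, h2]
    simp [Fin.prod_univ_succ]
    ring
  · rintro c ⟨A, hA, rfl⟩
    obtain ⟨B, h1, hle, hc⟩ := up _ A hA
    haveI := h1
    have := CfsgLib.MaxAbelianPerm.card_le_of_even j (Fintype.card_fin _) B hle
    rw [hc] at this
    simpa using this

end Cfsg.Agent.S2504
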