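import Cfsg.Statements.S2505
import Cfsg.Agent.Lib.Perm.MaxAbelian

set_option autoImplicit false
open Cfsg

namespace Cfsg.Agent.S2505

/-- The largest order of an abelian subgroup of the symmetric group of degree n is 3^k when n = 3k, 4·3^(k−1) when n = 3k + 1, and 2·3^k when n = 3k + 2, for every k ≥ 1. -/
theorem result (k : ℕ) (hk : 1 ≤ k) :
    IsGreatest {c : ℕ | ∃ A : Subgroup (Equiv.Perm (Fin (3 * k))), IsMulCommutative A ∧ Nat.card A = c} (3 ^ k) ∧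
    IsGreatest {c : ℕ | ∃ A : Subgroup (Equiv.Perm (Fin (3 * k + 1))), IsMulCommutative A ∧ Nat.card A = c}
      (4 * 3 ^ (k - 1)) ∧
    IsGreatest {c : ℕ | ∃ A : Subgroup (Equiv.Perm (Fin (3 * k + 2))), IsMulCommutative A ∧ Nat.card A = c}
      (2 * 3 ^ k) := by
  obtain ⟨j, rfl⟩ : ∃ j, k = j + 1 := ⟨k - 1, by omega⟩
  haveI : ∀ i : Fin (j + 1), NeZero (Fin.cons (α := fun _ => ℕ) 4 (fun _ => 3) i) := fun i => by
    constructor; cases i using Fin.cases <;> simp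
  haveI : ∀ i : Fin (j + 1 + 1), NeZero (Fin.cons (α := fun _ => ℕ) 2 (fun _ => 3) i) := fun i => by
    constructor; cases i using Fin.cases <;> simp
  refine ⟨⟨?_, ?_⟩, ⟨?_, ?_⟩, ⟨?_, ?_⟩⟩
  · obtain ⟨A, h1, h2, -⟩ := CfsgLib.MaxAbelianPerm.exists_pieces (r := j + 1) (fun _ => 3) (fun _ => 1)
      (3 * (j + 1)) (by simp [mul_comm])
    exact ⟨A, h1, by simpa using h2⟩
  · rintro c ⟨A, hA, rfl⟩
    have := CfsgLib.MaxAbelianPerm.card_le_mp _ (Fintype.card_fin _) A hA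
    rwa [CfsgLib.MaxAbelianPerm.mp_three] at this
  · obtain ⟨A, h1, h2, -⟩ := CfsgLib.MaxAbelianPerm.exists_pieces (r := j + 1)
      (Fin.cons (α := fun _ => ℕ) 4 (fun _ => 3)) (fun _ => 1)
      (3 * (j + 1) + 1) (by simp [Fin.sum_univ_succ]; ring)
    exact ⟨A, h1, by simpa [Fin.prod_univ_succ] using h2⟩
  · rintro c ⟨A, hA, rfl⟩
    have := CfsgLib.MaxAbelianPerm.card_le_mp (3 * j + 4) (by rw [Fintype.card_fin]; ring) A hA
    rw [CfsgLib.MaxAbelianPerm.mp_four] at this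
    simpa using this
  · obtain ⟨A, h1, h2, -⟩ := CfsgLib.MaxAbelianPerm.exists_pieces (r := j + 1 + 1)
      (Fin.cons (α := fun _ => ℕ) 2 (fun _ => 3)) (fun _ => 1)
      (3 * (j + 1) + 2) (by simp [Fin.sum_univ_succ]; ring)
    exact ⟨A, h1, by simpa [Fin.prod_univ_succ] using h2⟩
  · rintro c ⟨A, hA, rfl⟩
    have := CfsgLib.MaxAbelianPerm.card_le_mp _ (Fintype.card_fin _) A hA
    rwa [CfsgLib.MaxAbelianPerm.mp_two] at this

end Cfsg.Agent.S2505
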