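import Cfsg.Statements.S2506
import Cfsg.Agent.Lib.AltMaxAbelian.Orbits
-- import your own Cfsg.Agent.* helpers here

set_option autoImplicit false
open scoped Pointwise
open Cfsg

namespace Cfsg.Agent.S2506

open CfsgLib.AltMaxAbelian Equiv Equiv.Perm
set_option maxHeartbeats 1000000

/-- An abelian group of even permutations of order `N`. -/
def Ex (n N : ℕ) : Prop :=
  ∃ H : Subgroup (Perm (Fin n)), (∀ a ∈ H, ∀ b ∈ H, a * b = b * a) ∧ H ≤ alternatingGroup (Fin n) ∧ Nat.card H = N

theorem ex_glue {a b N M : ℕ} (h : Ex a N) (h' : Ex b M) : Ex (a + b) (N * M) := by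
  obtain ⟨H, hc, he, hN⟩ := h
  obtain ⟨K, kc, ke, kM⟩ := h'
  let f : Perm (Fin a) × Perm (Fin b) →* Perm (Fin (a + b)) :=
    finSumFinEquiv.permCongrHom.toMonoidHom.comp (Equiv.Perm.sumCongrHom (Fin a) (Fin b))
  have hf : Function.Injective f := finSumFinEquiv.permCongrHom.injective.comp Equiv.Perm.sumCongrHom_injective
  refine ⟨(H.prod K).map f, ?_, ?_, ?_⟩
  · rintro _ ⟨x, hx, rfl⟩ _ ⟨y, hy, rfl⟩
    rw [← map_mul, ← map_mul]
    exact congrArg f (Prod.ext (hc _ hx.1 _ hy.1) (kc _ hx.2 _ hy.2))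
  · rintro _ ⟨x, hx, rfl⟩
    rw [Equiv.Perm.mem_alternatingGroup]
    show Perm.sign (finSumFinEquiv.permCongr (Equiv.Perm.sumCongr x.1 x.2)) = 1
    rw [Equiv.Perm.sign_permCongr, Equiv.Perm.sign_sumCongr, Equiv.Perm.mem_alternatingGroup.1 (he hx.1),
      Equiv.Perm.mem_alternatingGroup.1 (ke hx.2), one_mul]
  · rw [Subgroup.card_map_of_injective hf, Nat.card_congr (Subgroup.prodEquiv H K).toEquiv, Nat.card_prod, hN, kM]

theorem ex_prime_power {n p e : ℕ} [Fact p.Prime] (he : e = 1 ∨ e = 2) (hn : 2 ≤ n)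
    (h : (n.factorial / 2).factorization p = e) : Ex n (p ^ e) := by
  haveI : Nontrivial (Fin n) := Fin.nontrivial_iff_two_le.2 hn
  obtain ⟨P⟩ : Nonempty (Sylow p (alternatingGroup (Fin n))) := inferInstance
  have hP : Nat.card P.1 = p ^ e := by
    rw [P.card_eq_multiplicity, nat_card_alternatingGroup, Nat.card_fin, h]
  have hcomm : ∀ x y : P.1, x * y = y * x := by
    rcases he with rfl | rfl
    · haveI : IsCyclic P.1 := isCyclic_of_prime_card (p := p) (by rw [hP, pow_one])
      exact fun x y => (IsMulCommutative.is_comm (M := P.1)).comm x y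
    · exact (IsPGroup.commutative_of_card_eq_prime_sq hP)
  refine ⟨P.1.map (alternatingGroup (Fin n)).subtype, ?_, ?_, ?_⟩
  · rintro _ ⟨x, hx, rfl⟩ _ ⟨y, hy, rfl⟩
    rw [← map_mul, ← map_mul]
    exact congrArg _ (congrArg Subtype.val (hcomm ⟨x, hx⟩ ⟨y, hy⟩))
  · rintro _ ⟨x, -, rfl⟩; exact x.2
  · rw [Subgroup.card_map_of_injective (alternatingGroup (Fin n)).subtype_injective, hP]

theorem fac_eq {p e r N : ℕ} (hp : p.Prime) (hN : N = p ^ e * r) (hr : ¬ p ∣ r) : N.factorization p = e := by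
  have hr0 : r ≠ 0 := fun h => hr (h ▸ dvd_zero p)
  subst hN
  rw [Nat.factorization_mul (pow_ne_zero _ hp.ne_zero) hr0, Finsupp.add_apply, hp.factorization_pow,
    Finsupp.single_eq_same, Nat.factorization_eq_zero_of_not_dvd hr, add_zero]

theorem ex_Gm : ∀ n, 3 ≤ n → Ex n (Gm n) := by
  haveI : Fact (Nat.Prime 3) := ⟨Nat.prime_three⟩
  haveI : Fact (Nat.Prime 5) := ⟨by norm_num⟩
  haveI : Fact (Nat.Prime 2) := ⟨Nat.prime_two⟩
  have h3 : Ex 3 3 := by
    simpa using ex_prime_power (n := 3) (p := 3) (Or.inl rfl) (by norm_num)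
      (fac_eq (e := 1) (r := 1) Nat.prime_three (by decide) (by norm_num))
  have h4 : Ex 4 4 := by
    simpa using ex_prime_power (n := 4) (p := 2) (Or.inr rfl) (by norm_num)
      (fac_eq (e := 2) (r := 3) Nat.prime_two (by decide) (by norm_num))
  have h5 : Ex 5 5 := by
    simpa using ex_prime_power (n := 5) (p := 5) (Or.inl rfl) (by norm_num)
      (fac_eq (e := 1) (r := 12) (by norm_num) (by decide) (by norm_num))
  intro n
  induction n using Nat.strong_induction_on with
  | _ n ih =>
    intro hn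
    rcases lt_or_ge n 9 with h | h
    · interval_cases n
      · exact h3
      · exact h4
      · exact h5
      · exact ex_glue h3 h3
      · exact ex_glue h4 h3
      · exact ex_glue h4 h4
    · obtain ⟨d, rfl⟩ := Nat.exists_eq_add_of_le h
      have := ex_glue h3 (ih (d + 6) (by omega) (by omega))
      rw [show 9 + d = 3 + (d + 6) by omega, show Gm (3 + (d + 6)) = 3 * Gm (d + 6) by
        rw [show 3 + (d + 6) = d + 9 by omega, Gm]]
      exact this

/-- In the alternating group of any degree, any two abelian subgroups of the largest possible order (among abelian subgroups) are conjugate. -/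
theorem result (n : ℕ)
    (A B : Subgroup (alternatingGroup (Fin n))) (hA : IsMulCommutative A) (hB : IsMulCommutative B)
    (hAmax : ∀ C : Subgroup (alternatingGroup (Fin n)), IsMulCommutative C → Nat.card C ≤ Nat.card A)
    (hBmax : ∀ C : Subgroup (alternatingGroup (Fin n)), IsMulCommutative C → Nat.card C ≤ Nat.card B) :
    ∃ g : alternatingGroup (Fin n), B = MulAut.conj g • A := by
  classical
  rcases lt_or_ge n 3 with hn | hn
  · haveI : Subsingleton ↥(alternatingGroup (Fin n)) := by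
      rw [← Finite.card_le_one_iff_subsingleton]
      interval_cases n
      · simp [Nat.card_eq_fintype_card]; decide
      · simp [Nat.card_eq_fintype_card]; decide
      · simp [Nat.card_eq_fintype_card]; decide
    exact ⟨1, SetLike.ext fun x => by simp [Subsingleton.elim x 1, Subgroup.one_mem]⟩
  haveI : Nontrivial (Fin n) := Fin.nontrivial_iff_two_le.2 (by omega)
  let HA := A.map (alternatingGroup (Fin n)).subtype
  let HB := B.map (alternatingGroup (Fin n)).subtype
  have hcard : ∀ C : Subgroup (alternatingGroup (Fin n)), Nat.card (C.map (alternatingGroup (Fin n)).subtype) = Nat.card C :=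
    fun C => Subgroup.card_map_of_injective (alternatingGroup (Fin n)).subtype_injective
  obtain ⟨E, Ec, Ee, EN⟩ := ex_Gm n hn
  have hE : ∃ C : Subgroup (alternatingGroup (Fin n)), IsMulCommutative C ∧ Nat.card C = Gm n := by
    refine ⟨E.subgroupOf _, ⟨⟨fun a b => ?_⟩⟩, ?_⟩
    · exact Subtype.ext (Subtype.ext (Ec _ a.2 _ b.2))
    · rw [Nat.card_congr (Subgroup.subgroupOfEquivOfLe Ee).toEquiv, EN]
  obtain ⟨C, hC, hCN⟩ := hE
  have hAN : Gm n ≤ Nat.card A := hCN ▸ hAmax C hC
  have hBN : Gm n ≤ Nat.card B := hCN ▸ hBmax C hC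
  have hcomm : ∀ D : Subgroup (alternatingGroup (Fin n)), IsMulCommutative D →
      ∀ a ∈ D.map (alternatingGroup (Fin n)).subtype, ∀ b ∈ D.map (alternatingGroup (Fin n)).subtype, a * b = b * a := by
    rintro D hD _ ⟨a, ha, rfl⟩ _ ⟨b, hb, rfl⟩
    rw [← map_mul, ← map_mul]
    exact congrArg _ (congrArg Subtype.val (hD.is_comm.comm ⟨a, ha⟩ ⟨b, hb⟩))
  have heven : ∀ D : Subgroup (alternatingGroup (Fin n)), D.map (alternatingGroup (Fin n)).subtype ≤ alternatingGroup (Fin n) := by
    rintro D _ ⟨a, -, rfl⟩; exact a.2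
  rcases eq_or_ne n 5 with rfl | h5
  · haveI : Fact (Nat.Prime 5) := ⟨by norm_num⟩
    have hfac : (Nat.card (alternatingGroup (Fin 5))).factorization 5 = 1 := by
      rw [nat_card_alternatingGroup, Nat.card_fin]
      exact fac_eq (e := 1) (r := 12) (by norm_num) (by decide) (by norm_num)
    have hfive : ∀ D : Subgroup (alternatingGroup (Fin 5)), IsMulCommutative D → 5 ≤ Nat.card D →
        Nat.card D = 5 := by
      intro D hD h
      by_contra hne
      have hp := CfsgLib.AltMaxAbelian.prod_le_Gm (parts (D.map (alternatingGroup (Fin 5)).subtype))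
      set HD := D.map (alternatingGroup (Fin 5)).subtype
      have hle : Nat.card HD ≤ (parts HD).prod := (Subgroup.card_le_of_le (le_cen HD (hcomm D hD))).trans (card_cen_le HD)
      by_cases hp2 : ∃ k ∈ parts HD, k % 4 = 2
      · obtain ⟨k, hk, hk2⟩ := hp2
        have h1 := two_mul_card_le_of_part HD (hcomm D hD) (heven D) hk hk2
        have h4 := prod_lt_of_pen (parts HD) (parts_pos HD) (by rw [parts_sum]; simp) hk hk2
        rw [parts_sum] at h4
        have e : Nat.card HD = Nat.card D := hcard D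
        have : Gm (Fintype.card (Fin 5)) = 5 := rfl
        omega
      · push_neg at hp2
        have h1 := (prod_le_Gm (parts HD) (parts_pos HD) hp2).1
        rw [parts_sum] at h1
        have e : Nat.card HD = Nat.card D := hcard D
        have : Gm (Fintype.card (Fin 5)) = 5 := rfl
        omega
    have hA5 := hfive A hA (by simpa [Gm] using hAN)
    have hB5 := hfive B hB (by simpa [Gm] using hBN)
    let PA : Sylow 5 (alternatingGroup (Fin 5)) := Sylow.ofCard A (by rw [hfac, hA5, pow_one])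
    let PB : Sylow 5 (alternatingGroup (Fin 5)) := Sylow.ofCard B (by rw [hfac, hB5, pow_one])
    obtain ⟨g, hg⟩ := MulAction.exists_smul_eq (alternatingGroup (Fin 5)) PA PB
    refine ⟨g, ?_⟩
    have := congrArg (fun P : Sylow 5 (alternatingGroup (Fin 5)) => P.1) hg
    simp only [Sylow.coe_subgroup_smul, PA, PB, Sylow.coe_ofCard] at this
    exact this.symm
  obtain ⟨hpA, hmA⟩ := structure_of_large HA (hcomm A hA) (heven A) (by simpa using hn) (by simpa using h5)
    (by rw [Fintype.card_fin]; exact hAN.trans (hcard A).ge)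
  obtain ⟨hpB, hmB⟩ := structure_of_large HB (hcomm B hB) (heven B) (by simpa using hn) (by simpa using h5)
    (by rw [Fintype.card_fin]; exact hBN.trans (hcard B).ge)
  have hfibk : ∀ (H : Subgroup (Perm (Fin n))) (k : ℕ), Fintype.card {s : {s // s ∈ orbs H} // s.1.card = k} = (parts H).count k := by
    intro H k
    rw [parts, Multiset.count_map, Fintype.card_subtype]
    rw [← Finset.card_map ⟨fun s : {s // s ∈ orbs H} => s.1, Subtype.val_injective⟩]
    show _ = ((orbs H).filter fun s => k = s.card).card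
    congr 1
    ext s
    simp [eq_comm, and_comm]
  let e : {s // s ∈ orbs HA} ≃ {s // s ∈ orbs HB} :=
    Equiv.ofFiberEquiv (f := fun s => s.1.card) (g := fun s => s.1.card) fun k =>
      Fintype.equivOfCardEq (by rw [hfibk, hfibk, hpA, hpB])
  have he : ∀ s, (e s).1.card = s.1.card := fun s =>
    Equiv.ofFiberEquiv_map (f := fun s : {s // s ∈ orbs HA} => s.1.card) (g := fun s : {s // s ∈ orbs HB} => s.1.card) _ s
  let fA : Fin n → {s // s ∈ orbs HA} := fun x => ⟨orb HA x, orb_mem_orbs HA x⟩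
  let gB : Fin n → {s // s ∈ orbs HA} := fun y => e.symm ⟨orb HB y, orb_mem_orbs HB y⟩
  let π₀ : Perm (Fin n) := Equiv.ofFiberEquiv (f := fA) (g := gB) fun c => Fintype.equivOfCardEq (by
    rw [Fintype.card_subtype, Fintype.card_subtype,
      show (Finset.univ.filter fun x => fA x = c) = Finset.univ.filter fun x => orb HA x = c.1 by
        ext x; simp [fA, Subtype.ext_iff],
      show (Finset.univ.filter fun x => gB x = c) = Finset.univ.filter fun x => orb HB x = (e c).1 by
        ext x; simp [gB, Equiv.symm_apply_eq, Subtype.ext_iff],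
      filter_orb HA c.2, filter_orb HB (e c).2, he])
  have hπ₀ : ∀ x, orb HB (π₀ x) = (e (fA x)).1 := fun x => by
    have h : gB (π₀ x) = fA x := Equiv.ofFiberEquiv_map _ x
    simp only [gB, Equiv.symm_apply_eq] at h
    exact congrArg Subtype.val h
  obtain ⟨u, v, huv, hv⟩ : ∃ u v : Fin n, u ≠ v ∧ v ∈ orb HA u := by
    let u : Fin n := ⟨0, by omega⟩
    have hk := best_mem (by omega) h5 (orb HA u).card (by
      have : (orb HA u).card ∈ parts HA := Multiset.mem_map.2 ⟨_, orb_mem_orbs HA u, rfl⟩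
      rw [hpA, Fintype.card_fin] at this
      exact this)
    obtain ⟨v, hv, hne⟩ := Finset.exists_mem_ne (show 1 < (orb HA u).card by omega) u
    exact ⟨u, v, hne.symm, hv⟩
  have hτ : ∀ x, orb HA (Equiv.swap u v x) = orb HA x := fun x => by
    rcases eq_or_ne x u with rfl | hxu
    · rw [Equiv.swap_apply_left]; exact (mem_orb_iff_eq HA).1 hv
    rcases eq_or_ne x v with rfl | hxv
    · rw [Equiv.swap_apply_right]; exact ((mem_orb_iff_eq HA).1 hv).symm
    · rw [Equiv.swap_apply_of_ne_of_ne hxu hxv]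
  obtain ⟨π, hπ, hπeven⟩ : ∃ π : Perm (Fin n), (∀ x, orb HB (π x) = (e (fA x)).1) ∧ Perm.sign π = 1 := by
    rcases Int.units_eq_one_or (Perm.sign π₀) with h | h
    · exact ⟨π₀, hπ₀, h⟩
    · refine ⟨π₀ * Equiv.swap u v, fun x => ?_, by rw [map_mul, h, Equiv.Perm.sign_swap huv]; rfl⟩
      rw [Equiv.Perm.mul_apply, hπ₀]
      exact congrArg (fun s => (e s).1) (Subtype.ext (hτ x))
  have hiff : ∀ x y, y ∈ orb HA x ↔ π y ∈ orb HB (π x) := fun x y => by
    rw [mem_orb_iff_eq, mem_orb_iff_eq, hπ, hπ, ← Subtype.ext_iff, e.injective.eq_iff, Subtype.ext_iff]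
  have hcardπ : ∀ x, (orb HB (π x)).card = (orb HA x).card := fun x => by rw [hπ, he]
  have hcrit : ∀ σ, Crit (orb HB) (π * σ * π⁻¹) ↔ Crit (orb HA) σ := fun σ => by
    have happ : ∀ z, (π * σ * π⁻¹) (π z) = π (σ z) := fun z => by simp
    constructor
    · intro h x
      obtain ⟨k1, k2, k3⟩ := h (π x)
      rw [happ] at k1
      refine ⟨(hiff x (σ x)).2 k1, fun y hy hx => ?_, fun hc => ?_⟩
      · have := k2 (π y) ((hiff x y).1 hy) (by rw [happ, hx])
        rw [happ] at this
        exact π.injective this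
      · have := k3 (by rw [hcardπ, hc])
        rw [happ, happ] at this
        exact π.injective this
    · intro h x
      obtain ⟨x, rfl⟩ := π.surjective x
      obtain ⟨k1, k2, k3⟩ := h x
      refine ⟨by rw [happ]; exact (hiff x _).1 k1, fun y hy hx => ?_, fun hc => ?_⟩
      · obtain ⟨y, rfl⟩ := π.surjective y
        rw [happ] at hx ⊢
        rw [k2 y ((hiff x y).2 hy) (π.injective hx)]
      · rw [happ, happ, k3 (by rw [← hcardπ, hc])]
  refine ⟨⟨π, Equiv.Perm.mem_alternatingGroup.2 hπeven⟩, ?_⟩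
  ext x
  rw [Subgroup.mem_pointwise_smul_iff_inv_smul_mem]
  have h1 : x ∈ B ↔ x.1 ∈ HB := ⟨fun h => ⟨x, h, rfl⟩, fun ⟨y, hy, e⟩ => Subtype.ext e ▸ hy⟩
  simp only [← map_inv, MulAut.smul_def, MulAut.conj_apply, inv_inv]
  set z := (⟨π, Equiv.Perm.mem_alternatingGroup.2 hπeven⟩ : alternatingGroup (Fin n))⁻¹ * x * ⟨π, Equiv.Perm.mem_alternatingGroup.2 hπeven⟩ with hz
  have h2 : z ∈ A ↔ z.1 ∈ HA := ⟨fun h => ⟨z, h, rfl⟩, fun ⟨y, hy, e⟩ => Subtype.ext e ▸ hy⟩
  rw [h1, h2, hmA, hmB, ← hcrit, show π * z.1 * π⁻¹ = x.1 by rw [hz]; simp [mul_assoc]]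

end Cfsg.Agent.S2506
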