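import Cfsg.Statements.S2510
import Cfsg.Agent.Lib.Unipotent
import Cfsg.Agent.Lib.PSLn.FieldCentral
import Mathlib.RingTheory.Norm.Transitivity
import Mathlib.FieldTheory.Finite.Extension
import Mathlib.FieldTheory.Finite.Trace
import Mathlib.LinearAlgebra.Matrix.Block
import Mathlib.LinearAlgebra.Determinant

set_option autoImplicit false
open Cfsg

namespace Cfsg.Agent.S2510

open Matrix

section Helpers

variable {F : Type*} [Field F] [Fintype F] {n : ℕ}

local notation "SL" => Matrix.SpecialLinearGroup (Fin n) F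
local notation "PSL" => Matrix.ProjectiveSpecialLinearGroup (Fin n) F

/-- `(q^k - 1)/(q - 1)`. -/
def qsum (q k : ℕ) : ℕ := ∑ i ∈ Finset.range k, q ^ i

/-- The exponent of the image of the norm-one part of a Singer cycle. -/
def singer (q k : ℕ) : ℕ := qsum q k / Nat.gcd (qsum q k) (q - 1)

theorem qsum_mul (q k : ℕ) (hq : 1 ≤ q) : qsum q k * (q - 1) + 1 = q ^ k := by
  induction k with
  | zero => simp [qsum]
  | succ k ih =>
    rw [qsum, Finset.sum_range_succ, ← qsum, Nat.add_mul, add_right_comm, ih, pow_succ, ← mul_one_add,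
      Nat.add_sub_cancel' hq]

theorem qsum_dvd_singer_mul (q k : ℕ) : qsum q k ∣ singer q k * (q - 1) := by
  obtain ⟨e, he⟩ := Nat.gcd_dvd_right (qsum q k) (q - 1)
  refine ⟨e, ?_⟩
  conv_lhs => rw [he]
  rw [singer, ← mul_assoc, Nat.div_mul_cancel (Nat.gcd_dvd_left _ _)]

theorem singer_dvd_of_qsum_dvd {q k m : ℕ} (hq : 2 ≤ q) (h : qsum q k ∣ m * (q - 1)) : singer q k ∣ m := by
  have hd : 0 < Nat.gcd (qsum q k) (q - 1) := Nat.gcd_pos_of_pos_right _ (by omega)
  have hcop : Nat.Coprime (singer q k) ((q - 1) / Nat.gcd (qsum q k) (q - 1)) :=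
    Nat.coprime_div_gcd_div_gcd hd
  refine hcop.dvd_of_dvd_mul_right ?_
  refine Nat.dvd_of_mul_dvd_mul_right hd ?_
  rw [singer, Nat.div_mul_cancel (Nat.gcd_dvd_left _ _), mul_assoc,
    Nat.div_mul_cancel (Nat.gcd_dvd_right _ _)]
  exact h

theorem mem_range_of_pow_card {K : Type*} [Field K] [Algebra F K] (z : K) (hz : z ^ Fintype.card F = z) :
    ∃ t : F, algebraMap F K t = z := by
  classical
  let P : Polynomial K := Polynomial.X ^ Fintype.card F - Polynomial.X
  have hdeg : P.natDegree = Fintype.card F := FiniteField.X_pow_card_sub_X_natDegree_eq K Fintype.one_lt_card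
  have hne : P ≠ 0 := FiniteField.X_pow_card_sub_X_ne_zero K Fintype.one_lt_card
  set s : Finset K := Finset.univ.image (algebraMap F K) with hs
  have hcard : s.card = Fintype.card F :=
    Finset.card_image_of_injective _ (algebraMap F K).injective
  have hsub : s ⊆ P.roots.toFinset := by
    intro x hx
    obtain ⟨t, -, rfl⟩ := Finset.mem_image.mp hx
    rw [Multiset.mem_toFinset, Polynomial.mem_roots hne]
    simp [P, ← map_pow, FiniteField.pow_card]
  have heq : s = P.roots.toFinset := Finset.eq_of_subset_of_card_le hsub (by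
    rw [hcard, ← hdeg]
    exact (Multiset.toFinset_card_le _).trans (Polynomial.card_roots' P))
  have hzs : z ∈ s := by
    rw [heq, Multiset.mem_toFinset, Polynomial.mem_roots hne]
    simp [P, hz]
  obtain ⟨t, -, ht⟩ := Finset.mem_image.mp hzs
  exact ⟨t, ht⟩

theorem mk_eq_one_iff (A : SL) :
    (QuotientGroup.mk A : PSL) = 1 ↔ ∃ s : F, Matrix.scalar (Fin n) s = A.1 := by
  rw [QuotientGroup.eq_one_iff, Matrix.SpecialLinearGroup.mem_center_iff]
  constructor
  · rintro ⟨s, -, hs⟩; exact ⟨s, hs⟩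
  · rintro ⟨s, hs⟩
    refine ⟨s, ?_, hs⟩
    have h := A.2
    rw [← hs, Matrix.scalar_apply, Matrix.det_diagonal] at h
    simpa using h

theorem exists_commute_orderOf {r : ℕ} (hr : r.Prime) (hrq : r ∣ Fintype.card F - 1) (hrn : ¬ r ∣ n)
    (A : SL) (e : Matrix (Fin n) (Fin n) F) (he : e * e = e) (hcomm : Commute e A.1)
    (he0 : e ≠ 0) (he1 : e ≠ 1) :
    ∃ ξ : PSL, orderOf ξ = r ∧ Commute (QuotientGroup.mk A : PSL) ξ := by
  classical
  haveI := Fact.mk hr
  obtain ⟨ζu, hζ⟩ := exists_prime_orderOf_dvd_card' (G := Fˣ) r (by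
    rw [Nat.card_units, Nat.card_eq_fintype_card]; exact hrq)
  set ζ : F := (ζu : F) with hζdef
  have hζr : ζ ^ r = 1 := by
    rw [hζdef, ← Units.val_pow_eq_pow_val, ← hζ, pow_orderOf_eq_one, Units.val_one]
  have hζ1 : ζ ≠ 1 := fun h => hr.ne_one (by
    have h1 : ζu = 1 := Units.ext h
    rw [← hζ, h1, orderOf_one])
  set P : Matrix (Fin n) (Fin n) F := 1 + (ζ - 1) • e with hP
  have hpow : ∀ k : ℕ, P ^ k = 1 + (ζ ^ k - 1) • e := by
    intro k
    induction k with
    | zero => simp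
    | succ k ih =>
      rw [pow_succ, ih, hP]
      simp only [add_mul, mul_add, one_mul, mul_one, Matrix.smul_mul, Matrix.mul_smul, he, smul_smul]
      rw [add_assoc, ← add_smul, ← add_smul]
      congr 2
      rw [pow_succ]; ring
  have hδ : P.det ^ r = 1 := by rw [← Matrix.det_pow, hpow, hζr, sub_self, zero_smul, add_zero, Matrix.det_one]
  obtain ⟨m, -, hm⟩ := Nat.exists_mul_mod_eq_one_of_coprime (Nat.Coprime.symm (hr.coprime_iff_not_dvd.mpr hrn))
    hr.one_lt
  set γ : F := (P.det)⁻¹ ^ m with hγ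
  have hδ0 : P.det ≠ 0 := fun h => by rw [h, zero_pow hr.ne_zero] at hδ; exact zero_ne_one hδ
  have hinv : (P.det)⁻¹ ^ r = 1 := by rw [inv_pow, hδ, inv_one]
  have hdet : (γ • P).det = 1 := by
    rw [Matrix.det_smul, Fintype.card_fin, hγ, ← pow_mul, mul_comm m n, ← Nat.div_add_mod (n * m) r, hm,
      pow_add, pow_mul, hinv, one_pow, one_mul, pow_one, inv_mul_cancel₀ hδ0]
  have hγr : γ ^ r = 1 := by rw [hγ, ← pow_mul, mul_comm, pow_mul, hinv, one_pow]
  have hγ0 : γ ≠ 0 := fun h => by rw [h, zero_pow hr.ne_zero] at hγr; exact zero_ne_one hγr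
  let X : SL := ⟨γ • P, hdet⟩
  have hXr : X ^ r = 1 := by
    apply Subtype.ext
    rw [Matrix.SpecialLinearGroup.coe_pow, Matrix.SpecialLinearGroup.coe_one]
    show (γ • P) ^ r = 1
    rw [smul_pow, hγr, one_smul, hpow, hζr, sub_self, zero_smul, add_zero]
  refine ⟨(QuotientGroup.mk X : PSL), orderOf_eq_prime ?_ ?_, ?_⟩
  · rw [← QuotientGroup.mk_pow, hXr]; rfl
  · intro h
    obtain ⟨s, hs⟩ := (mk_eq_one_iff X).mp h
    have hs' : Matrix.scalar (Fin n) s = γ • P := hs
    have ht : e = ((s / γ - 1) / (ζ - 1)) • (1 : Matrix (Fin n) (Fin n) F) := by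
      rw [Matrix.scalar_apply, ← Matrix.smul_one_eq_diagonal, hP] at hs'
      have h3 : (s / γ) • (1 : Matrix (Fin n) (Fin n) F) = 1 + (ζ - 1) • e := by
        rw [div_eq_inv_mul, ← smul_smul, hs', smul_smul, inv_mul_cancel₀ hγ0, one_smul]
      have h2 : (ζ - 1) • e = (s / γ - 1) • (1 : Matrix (Fin n) (Fin n) F) :=
        (((sub_smul (s / γ) 1 (1 : Matrix (Fin n) (Fin n) F))).trans
          (by rw [h3, one_smul, add_sub_cancel_left])).symm
      rw [div_eq_inv_mul, ← smul_smul, ← h2, smul_smul, inv_mul_cancel₀ (sub_ne_zero.mpr hζ1), one_smul]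
    set t := (s / γ - 1) / (ζ - 1)
    have hne : Nonempty (Fin n) := by
      by_contra hh
      rw [not_nonempty_iff] at hh
      exact he0 (Subsingleton.elim _ _)
    obtain ⟨i⟩ := hne
    have htt : t * t = t := by
      have h3 := congrFun (congrFun he i) i
      rw [ht, Matrix.smul_mul, Matrix.one_mul, smul_smul] at h3
      simpa using h3
    rcases mul_right_eq_self₀.mp htt with h' | h'
    · exact he1 (by rw [ht, h', one_smul])
    · exact he0 (by rw [ht, h', zero_smul])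
  · have hc : Commute A X := by
      apply Subtype.ext
      show A.1 * (γ • P) = (γ • P) * A.1
      exact (((Commute.one_right A.1).add_right ((hcomm.symm).smul_right (ζ - 1))).smul_right γ).eq
    show (QuotientGroup.mk A : PSL) * QuotientGroup.mk X = QuotientGroup.mk X * QuotientGroup.mk A
    rw [← QuotientGroup.mk_mul, ← QuotientGroup.mk_mul, hc.eq]

theorem pow_qsum_eq_one {K : Type*} [Field K] [Algebra F K]
    (φ : K →ₐ[F] Matrix (Fin n) (Fin n) F) (x : K) (hx : (φ x).det = 1) :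
    x ^ qsum (Fintype.card F) n = 1 := by
  classical
  rcases Nat.eq_zero_or_pos n with h0 | hn
  · subst h0; simp [qsum]
  haveI : Nonempty (Fin n) := ⟨⟨0, hn⟩⟩
  have hinj : Function.Injective φ := φ.toRingHom.injective
  haveI : Finite K := Finite.of_injective _ hinj
  letI : Module K (Fin n → F) := Module.compHom _
    (((Matrix.toLinAlgEquiv' : Matrix (Fin n) (Fin n) F ≃ₐ[F] _).toAlgHom.comp φ).toRingHom)
  have hsmul : ∀ (z : K) (v : Fin n → F), z • v = φ z *ᵥ v := fun z v => rfl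
  haveI : IsScalarTower F K (Fin n → F) := ⟨fun t z v => by
    rw [hsmul, hsmul, map_smul]; exact Matrix.smul_mulVec _ _ _⟩
  set q := Fintype.card F
  set d := Module.finrank F K
  set m := Module.finrank K (Fin n → F)
  have hdm : d * m = n := by
    rw [Module.finrank_mul_finrank, Module.finrank_fintype_fun_eq_card, Fintype.card_fin]
  have hnorm : Algebra.norm F (x ^ m) = 1 := by
    have h := LinearMap.det_restrictScalars (R := F) (f := x • (LinearMap.id : (Fin n → F) →ₗ[K] (Fin n → F)))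
    rw [LinearMap.det_smul, LinearMap.det_id, mul_one] at h
    rw [← h, show ((x • (LinearMap.id : (Fin n → F) →ₗ[K] (Fin n → F))).restrictScalars F) =
      Matrix.toLin' (φ x) from LinearMap.ext fun v => by rw [Matrix.toLin'_apply]; exact hsmul x v,
      LinearMap.det_toLin', hx]
  have hcardK : Nat.card K = q ^ d := by
    rw [Module.natCard_eq_pow_finrank (K := F), Nat.card_eq_fintype_card]
  have hB1 : x ^ (m * qsum q d) = 1 := by
    have h := FiniteField.algebraMap_norm_eq_pow_sum (K := F) (L := K) (x := x ^ m)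
    rw [hnorm, map_one, Nat.card_eq_fintype_card, ← pow_mul] at h
    exact h.symm
  haveI := Fintype.ofFinite K
  have hQn : ∀ j, x ^ qsum q (d * j) = x ^ (j * qsum q d) := by
    intro j
    induction j with
    | zero => simp [qsum]
    | succ j ih =>
      have hsplit : qsum q (d * (j + 1)) = qsum q (d * j) + q ^ (d * j) * qsum q d := by
        rw [qsum, Nat.mul_succ, Finset.sum_range_add, qsum, qsum, Finset.mul_sum]
        congr 1
        exact Finset.sum_congr rfl fun i _ => pow_add q _ _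
      rw [hsplit, pow_add, ih, pow_mul x (q ^ (d * j)), pow_mul q d j, ← hcardK,
        Nat.card_eq_fintype_card, FiniteField.pow_card_pow, ← pow_add]
      congr 1
      rw [Nat.succ_mul]
  have h := hQn m
  rw [hdm, hB1] at h
  exact h

theorem pow_scalar_of_indecomposable (p : ℕ) [Fact p.Prime] [CharP F p] (hn : 0 < n) (A : SL)
    (hind : ∀ e : Matrix (Fin n) (Fin n) F, e * e = e → Commute e A.1 → e = 0 ∨ e = 1) :
    ((QuotientGroup.mk A : PSL)) ^ (p ^ Nat.clog p n * singer (Fintype.card F) n) = 1 := by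
  classical
  have hp : p.Prime := Fact.out
  set I := Nat.clog p n
  obtain ⟨f, hpf, hqf⟩ := FiniteField.card F p
  set q := Fintype.card F with hq
  haveI : Finite SL := inferInstance
  obtain ⟨i, L, hL, hord⟩ := Nat.exists_eq_pow_mul_and_not_dvd (orderOf_pos A).ne' p hp.ne_one
  have hLpos : 0 < L := Nat.pos_of_ne_zero fun h => hL (h ▸ dvd_zero p)
  have hLq : Nat.Coprime q L := by rw [hqf]; exact (hp.coprime_iff_not_dvd.mpr hL).pow_left _
  set B := A.1 ^ p ^ I with hB
  have hBL : B ^ L = 1 := by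
    have h1 : (A.1 ^ L) ^ p ^ i = 1 := by
      rw [← pow_mul, mul_comm, ← hord, ← Matrix.SpecialLinearGroup.coe_pow, pow_orderOf_eq_one,
        Matrix.SpecialLinearGroup.coe_one]
    have h2 : IsNilpotent (A.1 ^ L - 1) :=
      ⟨p ^ i, by rw [CfsgLib.Unipotent.sub_one_pow_char_pow p hn, h1, sub_self]⟩
    have h3 : (A.1 ^ L - 1) ^ p ^ I = 0 := pow_eq_zero_of_le (Nat.le_pow_clog hp.one_lt n)
      (CfsgLib.Unipotent.pow_eq_zero_of_isNilpotent h2)
    rw [CfsgLib.Unipotent.sub_one_pow_char_pow p hn, sub_eq_zero, ← pow_mul, mul_comm, pow_mul] at h3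
    exact h3
  set K := Algebra.adjoin F ({B} : Set (Matrix (Fin n) (Fin n) F)) with hK
  have hcommA : ∀ z ∈ K, Commute z A.1 := by
    intro z hz
    induction hz using Algebra.adjoin_induction with
    | mem x hx =>
      rw [Set.mem_singleton_iff.mp hx, hB]
      exact (Commute.refl A.1).pow_left _
    | algebraMap t => exact Algebra.commute_algebraMap_left t _
    | add x y _ _ hx hy => exact hx.add_left hy
    | mul x y _ _ hx hy => exact hx.mul_left hy
  have hcommB : ∀ z ∈ K, Commute z B := fun z hz => (hcommA z hz).pow_right _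
  have hcomm : ∀ z ∈ K, ∀ w ∈ K, Commute z w := by
    intro z hz w hw
    induction hw using Algebra.adjoin_induction with
    | mem x hx => rw [Set.mem_singleton_iff.mp hx]; exact hcommB z hz
    | algebraMap t => exact Algebra.commute_algebraMap_right t _
    | add x y _ _ hx hy => exact hx.add_right hy
    | mul x y _ _ hx hy => exact hx.mul_right hy
  set Q := q ^ L.totient with hQ
  have hQ2 : 2 ≤ Q := le_trans (Fintype.one_lt_card (α := F))
    (Nat.le_self_pow (Nat.totient_pos.mpr hLpos).ne' q)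
  have hBQ : B ^ Q = B := by
    have h := Nat.ModEq.pow_totient hLq
    have h2 : L ∣ Q - 1 := (Nat.modEq_iff_dvd' (by omega)).mp h.symm
    obtain ⟨t, ht⟩ := h2
    rw [show Q = (Q - 1) + 1 by omega, ht, pow_add, pow_mul, hBL, one_pow, one_mul, pow_one]
  have hQp : Q = p ^ ((f : ℕ) * L.totient) := by rw [hQ, hqf, pow_mul]
  have hfix : ∀ z ∈ K, z ^ Q = z := by
    intro z hz
    induction hz using Algebra.adjoin_induction with
    | mem x hx => rw [Set.mem_singleton_iff.mp hx]; exact hBQ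
    | algebraMap t => rw [← map_pow, hQ, FiniteField.pow_card_pow]
    | add x y hx hy ihx ihy =>
      haveI : Nonempty (Fin n) := ⟨⟨0, hn⟩⟩
      rw [hQp, add_pow_char_pow_of_commute (p := p) (n := (f : ℕ) * L.totient) (hcomm x hx y hy), ← hQp, ihx, ihy]
    | mul x y hx hy ihx ihy => rw [(hcomm x hx y hy).mul_pow, ihx, ihy]
  haveI : Nonempty (Fin n) := ⟨⟨0, hn⟩⟩
  have hfield : IsField K := by
    refine ⟨⟨0, 1, zero_ne_one⟩, fun x y => Subtype.ext (hcomm _ x.2 _ y.2), fun {z} hz => ?_⟩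
    have hidem : (z.1 ^ (Q - 1)) * (z.1 ^ (Q - 1)) = z.1 ^ (Q - 1) := by
      rw [← pow_add, show Q - 1 + (Q - 1) = Q + (Q - 2) by omega, pow_add, hfix _ z.2, ← pow_succ',
        show Q - 2 + 1 = Q - 1 by omega]
    rcases hind _ hidem ((hcommA _ z.2).pow_left _) with h | h
    · refine absurd (Subtype.ext ?_) hz
      rw [← hfix _ z.2, show Q = (Q - 1) + 1 by omega, pow_succ, h, zero_mul, ZeroMemClass.coe_zero]
    · refine ⟨z ^ (Q - 2), Subtype.ext ?_⟩
      rw [MulMemClass.coe_mul, SubmonoidClass.coe_pow, ← pow_succ', show Q - 2 + 1 = Q - 1 by omega, h,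
        OneMemClass.coe_one]
  let _ : Field K := hfield.toField
  let Bk : K := ⟨B, Algebra.self_mem_adjoin_singleton F B⟩
  have hBQn : Bk ^ qsum q n = 1 := pow_qsum_eq_one K.val Bk (by
    show B.det = 1
    rw [hB, Matrix.det_pow, A.2, one_pow])
  obtain ⟨t, ht⟩ : ∃ t : F, algebraMap F K t = Bk ^ singer q n := by
    refine mem_range_of_pow_card _ ?_
    obtain ⟨e, he⟩ := qsum_dvd_singer_mul q n
    rw [← pow_mul, ← hq, show singer q n * q = singer q n * (q - 1) + singer q n by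
      obtain ⟨q', hq'⟩ : ∃ q', q = q' + 1 := ⟨q - 1, by have := Fintype.one_lt_card (α := F); omega⟩
      rw [hq', Nat.add_sub_cancel, mul_add, mul_one], pow_add, he, pow_mul, hBQn, one_pow, one_mul]
  rw [← QuotientGroup.mk_pow]
  refine (mk_eq_one_iff _).mpr ⟨t, ?_⟩
  rw [Matrix.SpecialLinearGroup.coe_pow, pow_mul, ← hB,
    show B ^ singer q n = ((Bk ^ singer q n : K) : Matrix (Fin n) (Fin n) F) from rfl, ← ht]
  rfl

/-- The shift on the first `k` coordinates. -/
def shiftK (k : ℕ) : Matrix (Fin n) (Fin n) F :=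
  Matrix.of fun i j => if i.val + 1 = j.val ∧ j.val < k then 1 else 0

omit [Fintype F] in
theorem shiftK_pow {k : ℕ} (m : ℕ) (hm : 1 ≤ m) (i j : Fin n) :
    (shiftK k ^ m : Matrix (Fin n) (Fin n) F) i j = if i.val + m = j.val ∧ j.val < k then 1 else 0 := by
  induction m, hm using Nat.le_induction generalizing j with
  | base => rw [pow_one]; rfl
  | succ m hm ih =>
    rw [pow_succ, Matrix.mul_apply]
    have e : ∀ b : Fin n, (shiftK k ^ m : Matrix (Fin n) (Fin n) F) i b * shiftK k b j =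
        if (i.val + m = b.val ∧ b.val < k) ∧ b.val + 1 = j.val ∧ j.val < k then 1 else 0 := fun b => by
      rw [ih b, show shiftK k b j = (if b.val + 1 = j.val ∧ j.val < k then (1 : F) else 0) from rfl]
      split_ifs <;> simp_all
    simp only [e]
    by_cases hk : i.val + (m + 1) = j.val ∧ j.val < k
    · rw [Finset.sum_eq_single (⟨i.val + m, by omega⟩ : Fin n), if_pos hk,
        if_pos ⟨⟨rfl, by simp only; omega⟩, by simp only; omega, hk.2⟩]
      · intro b _ hb
        exact if_neg fun e => hb (Fin.ext e.1.1.symm)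
      · simp
    · rw [if_neg hk]
      exact Finset.sum_eq_zero fun b _ => if_neg (by omega)

theorem exists_unipotent (p : ℕ) [Fact p.Prime] [CharP F p] {k : ℕ} (hn : 2 ≤ n) (hkn : k ≤ n)
    (hk : p ^ (Nat.clog p n - 1) < k) :
    ∃ U : SL, U.1 = 1 + shiftK k ∧ orderOf (QuotientGroup.mk U : PSL) = p ^ Nat.clog p n := by
  have hp : p.Prime := Fact.out
  have hdet : (1 + shiftK k : Matrix (Fin n) (Fin n) F).det = 1 := by
    have hbt : (1 + shiftK k : Matrix (Fin n) (Fin n) F).BlockTriangular id := by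
      intro i j hij
      have hij' : j.val < i.val := hij
      rw [Matrix.add_apply, Matrix.one_apply_ne (Fin.ne_of_val_ne (ne_of_gt hij')), zero_add]
      exact if_neg (by omega)
    rw [Matrix.det_of_upperTriangular hbt]
    refine Finset.prod_eq_one fun i _ => ?_
    rw [Matrix.add_apply, Matrix.one_apply_eq,
      show (shiftK k : Matrix (Fin n) (Fin n) F) i i = 0 from if_neg (by omega), add_zero]
  let U : SL := ⟨1 + shiftK k, hdet⟩
  refine ⟨U, rfl, ?_⟩
  have hpj : ∀ j : ℕ, (U ^ p ^ j).1 = (1 : Matrix (Fin n) (Fin n) F) + (shiftK k) ^ p ^ j := by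
    intro j
    rw [Matrix.SpecialLinearGroup.coe_pow]
    show (1 + shiftK k) ^ p ^ j = _
    haveI : Nonempty (Fin n) := ⟨⟨0, by omega⟩⟩
    rw [add_pow_char_pow_of_commute (p := p) (n := j) (Commute.one_left _), one_pow]
  have h1 : (QuotientGroup.mk U : PSL) ^ p ^ Nat.clog p n = 1 := by
    rw [← QuotientGroup.mk_pow]
    refine (mk_eq_one_iff _).mpr ⟨1, ?_⟩
    rw [hpj, map_one, show shiftK k ^ p ^ Nat.clog p n = (0 : Matrix (Fin n) (Fin n) F) from ?_, add_zero]
    ext i j
    rw [shiftK_pow _ (Nat.one_le_pow _ _ hp.pos), Matrix.zero_apply, if_neg]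
    have := Nat.le_pow_clog hp.one_lt n
    omega
  obtain ⟨j, hj, he⟩ := (Nat.dvd_prime_pow hp).mp (orderOf_dvd_of_pow_eq_one h1)
  rcases lt_or_eq_of_le hj with hlt | heq
  · exfalso
    have h2 : (QuotientGroup.mk U : PSL) ^ p ^ j = 1 := by rw [← he, pow_orderOf_eq_one]
    rw [← QuotientGroup.mk_pow] at h2
    obtain ⟨s, hs⟩ := (mk_eq_one_iff _).mp h2
    have hlt' : p ^ j < k := (Nat.pow_le_pow_right hp.pos (by omega)).trans_lt hk
    have hpos : 0 < p ^ j := pow_pos hp.pos j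
    have h3 := congrFun (congrFun hs ⟨0, by omega⟩) ⟨p ^ j, by omega⟩
    rw [hpj, Matrix.scalar_apply, Matrix.diagonal_apply_ne _ (Fin.ne_of_val_ne hpos.ne), Matrix.add_apply,
      Matrix.one_apply_ne (Fin.ne_of_val_ne hpos.ne), shiftK_pow _ hpos, if_pos ⟨by simp, hlt'⟩, zero_add] at h3
    exact zero_ne_one h3
  · rw [he, heq]

theorem exists_singer (p : ℕ) [Fact p.Prime] [CharP F p] (hn : 0 < n) :
    ∃ τ : PSL, orderOf τ = singer (Fintype.card F) n := by
  classical
  haveI : NeZero n := ⟨hn.ne'⟩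
  let E := FiniteField.Extension F p n
  haveI : Finite E := Module.finite_of_finite F
  haveI := Fintype.ofFinite E
  set q := Fintype.card F with hq
  have hq1 : 2 ≤ q := Fintype.one_lt_card
  have hE : Nat.card E = q ^ n := by rw [FiniteField.natCard_extension, Nat.card_eq_fintype_card]
  obtain ⟨g, hg⟩ := IsCyclic.exists_generator (α := Eˣ)
  have hgo : orderOf g = qsum q n * (q - 1) := by
    rw [orderOf_eq_card_of_forall_mem_zpowers hg, Nat.card_units, hE, ← qsum_mul q n (by omega),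
      Nat.add_sub_cancel]
  set z : E := ((g ^ (q - 1) : Eˣ) : E) with hz
  have hzo : orderOf z = qsum q n := by
    rw [hz, orderOf_units, orderOf_pow' g (by omega), hgo, Nat.gcd_mul_left_left,
      Nat.mul_div_cancel _ (by omega)]
  let b : Module.Basis (Fin n) F E := Module.finBasisOfFinrankEq F E (FiniteField.finrank_extension F p n)
  have hdet : (Algebra.leftMulMatrix b z).det = 1 := by
    rw [← Algebra.norm_eq_matrix_det]
    refine (algebraMap F E).injective ?_
    rw [FiniteField.algebraMap_norm_eq_pow_sum, FiniteField.finrank_extension, Nat.card_eq_fintype_card,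
      map_one]
    show z ^ qsum q n = 1
    rw [← hzo, pow_orderOf_eq_one]
  let M : SL := ⟨Algebra.leftMulMatrix b z, hdet⟩
  have hiff : ∀ m : ℕ, (QuotientGroup.mk M : PSL) ^ m = 1 ↔ singer q n ∣ m := by
    intro m
    rw [← QuotientGroup.mk_pow, mk_eq_one_iff]
    have hM : (M ^ m).1 = Algebra.leftMulMatrix b (z ^ m) := by
      rw [Matrix.SpecialLinearGroup.coe_pow, map_pow]
    have hsc : ∀ s : F, Matrix.scalar (Fin n) s = Algebra.leftMulMatrix b (algebraMap F E s) := fun s => by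
      rw [AlgHom.commutes]; rfl
    simp only [hM, hsc, (Algebra.leftMulMatrix_injective b).eq_iff]
    constructor
    · rintro ⟨s, hs⟩
      refine singer_dvd_of_qsum_dvd hq1 ?_
      rw [← hzo]
      refine orderOf_dvd_of_pow_eq_one ?_
      rw [pow_mul, ← hs, ← map_pow, hq, FiniteField.pow_card_sub_one_eq_one, map_one]
      rintro rfl
      rw [map_zero] at hs
      exact pow_ne_zero m (Units.ne_zero (g ^ (q - 1))) hs.symm
    · intro hm
      refine mem_range_of_pow_card _ ?_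
      have h : qsum q n ∣ m * (q - 1) := (qsum_dvd_singer_mul q n).trans (Nat.mul_dvd_mul_right hm _)
      rw [← hzo, orderOf_dvd_iff_pow_eq_one] at h
      rw [← pow_mul, ← hq, show m * q = m * (q - 1) + m by
        conv_lhs => rw [show q = (q - 1) + 1 by omega]
        rw [mul_add, mul_one], pow_add, h, one_mul]
  refine ⟨QuotientGroup.mk M, Nat.dvd_antisymm ?_ ?_⟩
  · exact orderOf_dvd_of_pow_eq_one ((hiff _).mpr dvd_rfl)
  · exact (hiff _).mp (pow_orderOf_eq_one _)

end Helpers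

/-- Let F be a finite field with q = p^a elements, n ≥ 2 (with q ≥ 4 when n = 2), L = PSL(n, F), and let r be a prime dividing q − 1 and not dividing n. Then for every m the direct product L × L × L × (ℤ/r)^m has the same set of element orders as L × L × L; and if n − 1 ≠ p^j for every j ≥ 0 (so never when n = 2, since 1 = p^0), then already L × L × (ℤ/r)^m has the same set of element orders as L × L. -/
theorem result {F : Type*} [Field F] [Fintype F] (p a n r m : ℕ) (hp : p.Prime) (ha : 1 ≤ a) (hF : Fintype.card F = p ^ a)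
    (hn : 2 ≤ n) (hn2 : n = 2 → 4 ≤ Fintype.card F) (hr : r.Prime) (hrq : r ∣ Fintype.card F - 1) (hrn : ¬ r ∣ n) :
    Set.range (orderOf : Matrix.ProjectiveSpecialLinearGroup (Fin n) F × Matrix.ProjectiveSpecialLinearGroup (Fin n) F × Matrix.ProjectiveSpecialLinearGroup (Fin n) F × Multiplicative (Fin m → ZMod r) → ℕ) =
      Set.range (orderOf : Matrix.ProjectiveSpecialLinearGroup (Fin n) F × Matrix.ProjectiveSpecialLinearGroup (Fin n) F × Matrix.ProjectiveSpecialLinearGroup (Fin n) F → ℕ) ∧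
    ((¬ ∃ j : ℕ, n - 1 = p ^ j) →
      Set.range (orderOf : Matrix.ProjectiveSpecialLinearGroup (Fin n) F × Matrix.ProjectiveSpecialLinearGroup (Fin n) F × Multiplicative (Fin m → ZMod r) → ℕ) =
        Set.range (orderOf : Matrix.ProjectiveSpecialLinearGroup (Fin n) F × Matrix.ProjectiveSpecialLinearGroup (Fin n) F → ℕ)) := by
  classical
  haveI := Fact.mk hp
  haveI : CharP F p := CfsgLib.PSLn.charP_of_card hF
  haveI := Fact.mk hr
  set G := Matrix.ProjectiveSpecialLinearGroup (Fin n) F with hG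
  set I := Nat.clog p n with hI
  set c := singer (Fintype.card F) n with hc
  have hq2 : 2 ≤ Fintype.card F := Fintype.one_lt_card
  have hrp : ¬ r ∣ p := fun h => by
    rw [(Nat.prime_dvd_prime_iff_eq hr hp).mp h, hF] at hrq
    have h1 : p ∣ p ^ a := dvd_pow_self p (by omega)
    have h2 : 1 ≤ p ^ a := Nat.one_le_pow _ _ hp.pos
    have h3 := Nat.dvd_sub h1 hrq
    rw [Nat.sub_sub_self h2] at h3
    exact hp.ne_one (Nat.dvd_one.mp h3)
  have hcp : Nat.Coprime (p ^ I) c := by
    refine Nat.Coprime.pow_left _ (hp.coprime_iff_not_dvd.mpr fun h => ?_)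
    have h1 : p ∣ qsum (Fintype.card F) n := h.trans (Nat.div_dvd_of_dvd (Nat.gcd_dvd_left _ _))
    have h2 := qsum_mul (Fintype.card F) n (by omega)
    have h3 : p ∣ Fintype.card F ^ n := by
      rw [hF, ← pow_mul]; exact dvd_pow_self p (Nat.mul_pos (by omega) (by omega)).ne'
    rw [← h2] at h3
    exact hp.ne_one (Nat.dvd_one.mp ((Nat.dvd_add_right (h1.mul_right _)).mp h3))
  -- every element is improvable or has small order
  have hdich : ∀ g : G, ¬ r ∣ orderOf g → (∃ g' : G, orderOf g' = r * orderOf g) ∨ orderOf g ∣ p ^ I * c := by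
    intro g hg
    obtain ⟨A, rfl⟩ := QuotientGroup.mk_surjective g
    by_cases hind : ∀ e : Matrix (Fin n) (Fin n) F, e * e = e → Commute e A.1 → e = 0 ∨ e = 1
    · exact Or.inr (orderOf_dvd_of_pow_eq_one (pow_scalar_of_indecomposable p (by omega) A hind))
    · push Not at hind
      obtain ⟨e, he, hcomm, he0, he1⟩ := hind
      obtain ⟨ξ, hξ, hξc⟩ := exists_commute_orderOf hr hrq hrn A e he hcomm he0 he1
      refine Or.inl ⟨(QuotientGroup.mk A : G) * ξ, ?_⟩
      rw [hξc.orderOf_mul_eq_mul_orderOf_of_coprime (by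
        rw [hξ]; exact (hr.coprime_iff_not_dvd.mpr hg).symm), hξ, mul_comm]
  obtain ⟨τ, hτ⟩ := exists_singer (n := n) (F := F) p (by omega)
  obtain ⟨U, hU, hUo⟩ := exists_unipotent (n := n) (F := F) p (k := n) hn le_rfl
    (Nat.pow_pred_clog_lt_self hp.one_lt (by omega))
  obtain ⟨ξ, hξ⟩ : ∃ ξ : G, orderOf ξ = r := by
    obtain ⟨ξ, hξ, -⟩ := exists_commute_orderOf hr hrq hrn (1 : Matrix.SpecialLinearGroup (Fin n) F)
      (Matrix.single ⟨0, by omega⟩ ⟨0, by omega⟩ 1) (by simp) (Commute.one_right _)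
      (fun h => by simpa using congrFun (congrFun h ⟨0, by omega⟩) ⟨0, by omega⟩)
      (fun h => by
        have := congrFun (congrFun h ⟨1, by omega⟩) ⟨1, by omega⟩
        simp at this)
    exact ⟨ξ, hξ⟩
  have hpow : ∀ (g : G) (s : ℕ), s ∣ orderOf g → ∃ g' : G, orderOf g' = s := fun g s hs =>
    ⟨g ^ (orderOf g / s), orderOf_pow_orderOf_div (orderOf_pos g).ne' hs⟩
  have hsplit : ∀ L : ℕ, L ∣ p ^ I * c → ∃ u v : ℕ, u ∣ p ^ I ∧ v ∣ c ∧ u * v = L ∧ Nat.Coprime u v :=
    fun L hL => ⟨Nat.gcd L (p ^ I), Nat.gcd L c, Nat.gcd_dvd_right _ _, Nat.gcd_dvd_right _ _, by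
      rw [← Nat.Coprime.gcd_mul _ hcp]; exact Nat.gcd_eq_left hL,
      hcp.coprime_dvd_left (Nat.gcd_dvd_right _ _) |>.coprime_dvd_right (Nat.gcd_dvd_right _ _)⟩
  have hlcm : ∀ x X : ℕ, ¬ r ∣ X → ¬ r ∣ x → Nat.lcm (r * x) X = r * Nat.lcm x X := by
    intro x X hX hx
    have h : ∀ y, ¬ r ∣ y → Nat.Coprime r y := fun y hy => hr.coprime_iff_not_dvd.mpr hy
    rw [← (h x hx).lcm_eq_mul, Nat.lcm_assoc, (h _ ?_).lcm_eq_mul]
    intro hd
    rcases (Nat.Prime.dvd_mul hr).mp (hd.trans (Nat.lcm_dvd_mul x X)) with h1 | h1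
    exacts [hx h1, hX h1]
  have hndvd : ∀ x y : ℕ, ¬ r ∣ Nat.lcm x y → ¬ r ∣ x ∧ ¬ r ∣ y := fun x y h =>
    ⟨fun hd => h (hd.trans (Nat.dvd_lcm_left x y)), fun hd => h (hd.trans (Nat.dvd_lcm_right x y))⟩
  have hz : ∀ z : Multiplicative (Fin m → ZMod r), orderOf z = 1 ∨ orderOf z = r := by
    intro z
    refine (Nat.dvd_prime hr).mp (orderOf_dvd_of_pow_eq_one ?_)
    rw [← ofAdd_toAdd z, ← ofAdd_nsmul, show r • Multiplicative.toAdd z = 0 from funext fun i => by
      rw [Pi.smul_apply, nsmul_eq_mul, ZMod.natCast_self, zero_mul, Pi.zero_apply], ofAdd_zero]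
  refine ⟨Set.Subset.antisymm ?_ ?_, fun hpj => Set.Subset.antisymm ?_ ?_⟩
  · rintro _ ⟨⟨g₁, g₂, g₃, z⟩, rfl⟩
    simp only [Prod.orderOf]
    rcases hz z with hz1 | hzr
    · exact ⟨(g₁, g₂, g₃), by simp [Prod.orderOf, hz1]⟩
    rw [hzr]
    set L := Nat.lcm (orderOf g₁) (Nat.lcm (orderOf g₂) (orderOf g₃)) with hL
    have htot : Nat.lcm (orderOf g₁) (Nat.lcm (orderOf g₂) (Nat.lcm (orderOf g₃) r)) = Nat.lcm L r := by
      simp [hL, Nat.lcm_assoc]
    rw [htot]
    by_cases hrL : r ∣ L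
    · exact ⟨(g₁, g₂, g₃), by simp only [Prod.orderOf]; rw [Nat.lcm_eq_left hrL]⟩
    rw [Nat.lcm_comm L r, (hr.coprime_iff_not_dvd.mpr hrL).lcm_eq_mul]
    obtain ⟨h1, h23⟩ := hndvd _ _ hrL
    obtain ⟨h2, h3⟩ := hndvd _ _ h23
    rcases hdich g₁ h1 with ⟨g', hg'⟩ | d1
    · exact ⟨(g', g₂, g₃), by simp only [Prod.orderOf]; rw [hg', hlcm _ _ h23 h1]⟩
    rcases hdich g₂ h2 with ⟨g', hg'⟩ | d2
    · refine ⟨(g₁, g', g₃), ?_⟩
      simp only [Prod.orderOf]
      rw [hg', hlcm _ _ h3 h2, Nat.lcm_comm (orderOf g₁), hlcm _ _ h1 h23, Nat.lcm_comm _ (orderOf g₁)]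
    rcases hdich g₃ h3 with ⟨g', hg'⟩ | d3
    · refine ⟨(g₁, g₂, g'), ?_⟩
      simp only [Prod.orderOf]
      rw [hg', Nat.lcm_comm (orderOf g₂) (r * _), hlcm _ _ h2 h3, Nat.lcm_comm (orderOf g₃),
        Nat.lcm_comm (orderOf g₁) (r * _), hlcm _ _ h1 h23, Nat.lcm_comm _ (orderOf g₁)]
    obtain ⟨u, v, hu, hv, huv, hcop⟩ := hsplit L (Nat.lcm_dvd d1 (Nat.lcm_dvd d2 d3))
    obtain ⟨gu, hgu⟩ := hpow _ u (hUo ▸ hu)
    obtain ⟨gv, hgv⟩ := hpow τ v (hτ ▸ hv)
    refine ⟨(ξ, gu, gv), ?_⟩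
    simp only [Prod.orderOf]
    rw [hgu, hgv, hξ, hcop.lcm_eq_mul, huv, (hr.coprime_iff_not_dvd.mpr hrL).lcm_eq_mul]
  · rintro _ ⟨⟨g₁, g₂, g₃⟩, rfl⟩
    exact ⟨(g₁, g₂, g₃, 1), by simp [Prod.orderOf]⟩
  · rintro _ ⟨⟨g₁, g₂, z⟩, rfl⟩
    simp only [Prod.orderOf]
    rcases hz z with hz1 | hzr
    · exact ⟨(g₁, g₂), by simp [Prod.orderOf, hz1]⟩
    rw [hzr, ← Nat.lcm_assoc]
    set L := Nat.lcm (orderOf g₁) (orderOf g₂) with hL
    by_cases hrL : r ∣ L
    · exact ⟨(g₁, g₂), by simp only [Prod.orderOf]; rw [Nat.lcm_eq_left hrL]⟩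
    rw [Nat.lcm_comm L r, (hr.coprime_iff_not_dvd.mpr hrL).lcm_eq_mul]
    obtain ⟨h1, h2⟩ := hndvd _ _ hrL
    rcases hdich g₁ h1 with ⟨g', hg'⟩ | d1
    · exact ⟨(g', g₂), by simp only [Prod.orderOf]; rw [hg', hlcm _ _ h2 h1]⟩
    rcases hdich g₂ h2 with ⟨g', hg'⟩ | d2
    · refine ⟨(g₁, g'), ?_⟩
      simp only [Prod.orderOf]
      rw [Nat.lcm_comm (orderOf g₁), hg', hlcm _ _ h1 h2, Nat.lcm_comm _ (orderOf g₁)]
    obtain ⟨u, v, hu, hv, huv, hcop⟩ := hsplit L (Nat.lcm_dvd d1 d2)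
    have hk : p ^ (I - 1) < n - 1 := by
      have h1 := Nat.pow_pred_clog_lt_self hp.one_lt (show 1 < n by omega)
      have h2 : n - 1 ≠ p ^ (I - 1) := fun e => hpj ⟨I - 1, e⟩
      change p ^ (I - 1) < n at h1
      omega
    obtain ⟨W, hW, hWo⟩ := exists_unipotent (n := n) (F := F) p (k := n - 1) hn (by omega) hk
    have hWr : ¬ r ∣ p ^ I := fun h => hrp (hr.dvd_of_dvd_pow h)
    obtain ⟨ξ', hξ', hcomm⟩ := exists_commute_orderOf hr hrq hrn W
      (Matrix.single ⟨n - 1, by omega⟩ ⟨n - 1, by omega⟩ 1) (by simp)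
      (by
        rw [hW]
        refine (Commute.one_right _).add_right ?_
        have hz1 : ∀ j, (shiftK (n - 1) : Matrix (Fin n) (Fin n) F) ⟨n - 1, by omega⟩ j = 0 := fun j =>
          if_neg (by simp only; omega)
        have hz2 : ∀ i, (shiftK (n - 1) : Matrix (Fin n) (Fin n) F) i ⟨n - 1, by omega⟩ = 0 := fun i =>
          if_neg (by simp only; omega)
        ext i j
        rcases eq_or_ne i ⟨n - 1, by omega⟩ with rfl | hi <;>
          rcases eq_or_ne j ⟨n - 1, by omega⟩ with rfl | hj <;>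
          simp_all)
      (fun h => by simpa using congrFun (congrFun h ⟨n - 1, by omega⟩) ⟨n - 1, by omega⟩)
      (fun h => by
        have := congrFun (congrFun h ⟨0, by omega⟩) ⟨0, by omega⟩
        rw [Matrix.single_apply_of_ne (h := by simp [Fin.ext_iff]; omega)] at this
        simp at this)
    obtain ⟨gu, hgu⟩ := hpow (QuotientGroup.mk W * ξ') (r * u) (by
      rw [hcomm.orderOf_mul_eq_mul_orderOf_of_coprime (by
        rw [hξ', hWo]; exact (hr.coprime_iff_not_dvd.mpr hWr).symm), hξ', hWo, mul_comm (p ^ _)]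
      exact Nat.mul_dvd_mul_left r hu)
    obtain ⟨gv, hgv⟩ := hpow τ v (hτ ▸ hv)
    refine ⟨(gu, gv), ?_⟩
    simp only [Prod.orderOf]
    have hur : ¬ r ∣ u := fun h => hrL (huv ▸ h.mul_right v)
    have hvr : ¬ r ∣ v := fun h => hrL (huv ▸ h.mul_left u)
    rw [hgu, hgv, hlcm _ _ hvr hur, hcop.lcm_eq_mul, huv]
  · rintro _ ⟨⟨g₁, g₂⟩, rfl⟩
    exact ⟨(g₁, g₂, 1), by simp [Prod.orderOf]⟩

end Cfsg.Agent.S2510
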