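import Cfsg.Statements.S2513
import Cfsg.Agent.Lib.Words.ClassicalWitness

set_option autoImplicit false
open Cfsg

open Polynomial

namespace Cfsg.Agent.S2513

private theorem exists_dvd_orderOf_pi {ι G : Type*} [Fintype ι] [Group G] [Finite G] (x : ι → G)
    {p e : ℕ} (hp : p.Prime) (he : e ≠ 0) (h : p ^ e ∣ orderOf x) :
    ∃ i, p ^ e ∣ orderOf (x i) := by
  by_contra hc
  push Not at hc
  have h0 : 0 < orderOf x := orderOf_pos x
  have hp' : p ∣ orderOf x := (dvd_pow_self p he).trans h
  have key : orderOf x ∣ orderOf x / p := by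
    rw [orderOf_dvd_iff_pow_eq_one]
    funext i
    rw [Pi.pow_apply, Pi.one_apply, ← orderOf_dvd_iff_pow_eq_one]
    obtain ⟨c, hc'⟩ : orderOf (x i) ∣ orderOf x := by
      rw [orderOf_dvd_iff_pow_eq_one]
      exact congrFun (pow_orderOf_eq_one x) i
    have hpc : p ∣ c := by
      by_contra hpc
      exact hc i ((Nat.Coprime.dvd_mul_right
        ((hp.coprime_iff_not_dvd.mpr hpc).pow_left e)).mp (hc' ▸ h))
    obtain ⟨c', rfl⟩ := hpc
    exact ⟨c', by rw [hc', mul_left_comm, Nat.mul_div_cancel_left _ hp.pos]⟩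
  have := Nat.le_of_dvd (Nat.div_pos (Nat.le_of_dvd h0 hp') hp.pos) key
  exact absurd (Nat.div_lt_self h0 hp.one_lt) (not_lt.mpr this)

variable {F : Type*} [Field F] [Fintype F]

private theorem eq_one_of_ne_zero (hF : Fintype.card F = 2) {a : F} (ha : a ≠ 0) : a = 1 := by
  simpa [hF] using FiniteField.pow_card_sub_one_eq_one a ha

/-- The prime-power orders of matrices over the field of two elements. -/
private theorem exists_degree (hF : Fintype.card F = 2) (n : ℕ) (A : GL (Fin n) F)
    {p e : ℕ} (hp : p.Prime) (hp2 : p ≠ 2) (hA : orderOf A = p ^ (e + 1)) :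
    ∃ d, 0 < d ∧ d ≤ n ∧ p ^ (e + 1) ∣ 2 ^ d - 1 := by
  classical
  have : CharP F 2 := charP_of_card_eq_prime (p := 2) (by simpa using hF)
  have : Fact p.Prime := ⟨hp⟩
  set μ := minpoly F (A : Matrix (Fin n) (Fin n) F) with hμ
  have hA1 : (A : Matrix (Fin n) (Fin n) F) ^ p ^ (e + 1) = 1 := by
    rw [← Units.val_pow_eq_pow_val, ← hA, pow_orderOf_eq_one, Units.val_one]
  have hdvd : μ ∣ X ^ p ^ (e + 1) - 1 := minpoly.dvd F _ (by simp [hA1])
  have hsep : (X ^ p ^ (e + 1) - 1 : F[X]).Separable := by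
    rw [X_pow_sub_one_separable_iff, Ne, CharP.cast_eq_zero_iff F 2]
    intro h
    exact hp2 ((Nat.prime_dvd_prime_iff_eq Nat.prime_two hp).mp (Nat.prime_two.dvd_of_dvd_pow h)).symm
  have hμ0 : μ ≠ 0 := minpoly.ne_zero (Matrix.isIntegral _)
  have hsq : Squarefree μ := hsep.squarefree.squarefree_of_dvd hdvd
  obtain ⟨f, hf, hfq⟩ : ∃ f ∈ UniqueFactorizationMonoid.normalizedFactors μ,
      ¬ f ∣ X ^ p ^ e - 1 := by
    by_contra hc
    push Not at hc
    have h1 : ∀ m : Multiset F[X], (∀ f ∈ m, f ∣ X ^ p ^ e - 1) →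
        m.prod ∣ (X ^ p ^ e - 1) ^ Multiset.card m := by
      intro m
      induction m using Multiset.induction with
      | empty => simp
      | cons a m ih =>
        intro h
        rw [Multiset.prod_cons, Multiset.card_cons, pow_succ']
        exact mul_dvd_mul (h a (Multiset.mem_cons_self _ _))
          (ih fun f hf => h f (Multiset.mem_cons_of_mem hf))
    have h2 : μ ∣ X ^ p ^ e - 1 :=
      hsq.isRadical _ _ ((UniqueFactorizationMonoid.prod_normalizedFactors hμ0).symm.dvd.trans
        (h1 _ hc))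
    have h3 : A ^ p ^ e = 1 := by
      obtain ⟨r, hr⟩ := h2
      have := congrArg (Polynomial.aeval (A : Matrix (Fin n) (Fin n) F)) hr
      rw [map_mul, hμ, minpoly.aeval, zero_mul] at this
      ext1
      simpa [sub_eq_zero] using this
    rw [← orderOf_dvd_iff_pow_eq_one, hA, Nat.pow_dvd_pow_iff_le_right hp.one_lt] at h3
    omega
  have hfirr : Irreducible f := UniqueFactorizationMonoid.irreducible_of_normalized_factor f hf
  have hfμ : f ∣ μ := UniqueFactorizationMonoid.dvd_of_mem_normalizedFactors hf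
  have : Fact (Irreducible f) := ⟨hfirr⟩
  have : Module.Finite F (AdjoinRoot f) := (AdjoinRoot.powerBasis hfirr.ne_zero).finite
  have : Finite (AdjoinRoot f) := Module.finite_of_finite F
  have : Fintype (AdjoinRoot f) := Fintype.ofFinite _
  refine ⟨f.natDegree, hfirr.natDegree_pos, ?_, ?_⟩
  · refine (natDegree_le_of_dvd (hfμ.trans (Matrix.minpoly_dvd_charpoly _))
      (Matrix.charpoly_monic _).ne_zero).trans ?_
    rw [Matrix.charpoly_natDegree_eq_dim, Fintype.card_fin]
  · have hr1 : (AdjoinRoot.root f) ^ p ^ (e + 1) = 1 := by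
      simpa [sub_eq_zero] using AdjoinRoot.mk_eq_zero.mpr (hfμ.trans hdvd)
    have hr2 : ¬ (AdjoinRoot.root f) ^ p ^ e = 1 := fun h =>
      hfq (AdjoinRoot.mk_eq_zero.mp (by simp [h]))
    have hr0 : AdjoinRoot.root f ≠ 0 := fun h => by
      simp [h, zero_pow (pow_ne_zero (e + 1) hp.ne_zero)] at hr1
    have hcard : Fintype.card (AdjoinRoot f) = 2 ^ f.natDegree := by
      rw [Module.card_eq_pow_finrank (K := F), hF,
        (AdjoinRoot.powerBasis hfirr.ne_zero).finrank, AdjoinRoot.powerBasis_dim]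
    rw [← orderOf_eq_prime_pow hr2 hr1, orderOf_dvd_iff_pow_eq_one, ← hcard]
    exact FiniteField.pow_card_sub_one_eq_one _ hr0

/-- A Singer cycle of degree `d` inside `GL n`. -/
private theorem exists_singer (hF : Fintype.card F = 2) (n d : ℕ) (hd : 0 < d) (hdn : d ≤ n) :
    ∃ A : GL (Fin n) F, orderOf A = 2 ^ d - 1 := by
  classical
  have : CharP F 2 := charP_of_card_eq_prime (p := 2) (by simpa using hF)
  let b := Module.finBasisOfFinrankEq (ZMod 2) (GaloisField 2 d) (GaloisField.finrank 2 hd.ne')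
  let e : Fin d ⊕ Fin (n - d) ≃ Fin n := finSumFinEquiv.trans (finCongr (by omega))
  let φ : GaloisField 2 d →* Matrix (Fin n) (Fin n) F :=
    (CfsgLib.Words.blockHom e).comp
      (((ZMod.castHom (dvd_refl 2) F).mapMatrix.toMonoidHom).comp
        (Algebra.leftMulMatrix b).toRingHom.toMonoidHom)
  have hφ : Function.Injective φ :=
    (CfsgLib.Words.blockHom_injective e).comp
      ((Matrix.map_injective (RingHom.injective (ZMod.castHom (dvd_refl 2) F))).comp
        (Algebra.leftMulMatrix_injective b))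
  have : Finite (GaloisField 2 d) := Nat.finite_of_card_ne_zero (by
    rw [GaloisField.card 2 d hd.ne']; positivity)
  obtain ⟨u, hu⟩ := IsCyclic.exists_ofOrder_eq_natCard (α := (GaloisField 2 d)ˣ)
  refine ⟨Units.map φ u, ?_⟩
  rw [orderOf_injective (Units.map φ) (Units.map_injective hφ), hu, Nat.card_units,
    GaloisField.card 2 d hd.ne']

/-- Over two elements the projective special linear group is the general linear group. -/
private theorem psl_equiv_gl (hF : Fintype.card F = 2) (n : ℕ) :
    Nonempty (GL (Fin n) F ≃* Matrix.ProjectiveSpecialLinearGroup (Fin n) F) := by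
  let φ : Matrix.SpecialLinearGroup (Fin n) F →* GL (Fin n) F := Matrix.SpecialLinearGroup.toGL
  have hφ : Function.Bijective φ := ⟨Matrix.SpecialLinearGroup.toGL_injective, fun A =>
    ⟨⟨A.1, eq_one_of_ne_zero hF ((Matrix.isUnit_iff_isUnit_det _).mp A.isUnit).ne_zero⟩,
      Units.ext rfl⟩⟩
  have hc : Subgroup.center (Matrix.SpecialLinearGroup (Fin n) F) = ⊥ := by
    rw [Subgroup.eq_bot_iff_forall]
    intro A hA
    obtain ⟨r, hr, hrA⟩ := Matrix.SpecialLinearGroup.mem_center_iff.mp hA
    rcases Nat.eq_zero_or_pos n with rfl | hn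
    · exact Subtype.ext (Subsingleton.elim _ _)
    have : r = 1 := eq_one_of_ne_zero hF (fun h => by
      rw [Fintype.card_fin, h, zero_pow hn.ne'] at hr; exact zero_ne_one hr)
    subst this
    exact Subtype.ext (by simpa using hrA.symm)
  refine ⟨(MulEquiv.ofBijective φ hφ).symm.trans
    (MulEquiv.ofBijective (QuotientGroup.mk' (Subgroup.center (Matrix.SpecialLinearGroup (Fin n) F)))
      ⟨?_, QuotientGroup.mk'_surjective _⟩)⟩
  rw [← MonoidHom.ker_eq_bot_iff, QuotientGroup.ker_mk', hc]


/-- Let F be the field with two elements, n ≥ 2, L = PSL(n, F) and k₀ = ⌊(n + 3)/2⌋. Then for every k ≥ k₀ the direct product of k copies of L has the same set of element orders as the direct product of k₀ copies of L. -/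
theorem result {F : Type*} [Field F] [Fintype F] (hF : Fintype.card F = 2) (n k : ℕ) (hn : 2 ≤ n) (hk : (n + 3) / 2 ≤ k) :
    Set.range (orderOf : (Fin k → Matrix.ProjectiveSpecialLinearGroup (Fin n) F) → ℕ) = Set.range (orderOf : (Fin ((n + 3) / 2) → Matrix.ProjectiveSpecialLinearGroup (Fin n) F) → ℕ) := by
  classical
  obtain ⟨E⟩ := psl_equiv_gl hF n
  have : Finite (Matrix.ProjectiveSpecialLinearGroup (Fin n) F) :=
    Finite.of_equiv _ E.toEquiv
  apply Set.Subset.antisymm
  · rintro _ ⟨x, rfl⟩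
    set M := orderOf x with hM
    have hM0 : M ≠ 0 := (orderOf_pos x).ne'
    -- the element carrying the 2-part
    obtain ⟨u, hu⟩ : ∃ u : Matrix.ProjectiveSpecialLinearGroup (Fin n) F,
        orderOf u = 2 ^ M.factorization 2 := by
      rcases Nat.eq_zero_or_pos (M.factorization 2) with h0 | h0
      · exact ⟨1, by rw [h0, orderOf_one, pow_zero]⟩
      · obtain ⟨i, hi⟩ := exists_dvd_orderOf_pi x Nat.prime_two h0.ne' (Nat.ordProj_dvd M 2)
        exact ⟨_, orderOf_pow_orderOf_div (orderOf_pos (x i)).ne' hi⟩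
    -- the elements carrying the odd part
    have hv : ∀ j : Fin ((n + 3) / 2), j.val ≠ 0 →
        ∃ v : Matrix.ProjectiveSpecialLinearGroup (Fin n) F,
          orderOf v = Nat.gcd M (2 ^ (n / 2 + j.val) - 1) := by
      intro j hj
      obtain ⟨A, hA⟩ := exists_singer hF n (n / 2 + j.val) (by omega) (by omega)
      have hA' : orderOf (E A) = 2 ^ (n / 2 + j.val) - 1 := by rw [E.orderOf_eq, hA]
      exact ⟨_, orderOf_pow_orderOf_div (orderOf_pos (E A)).ne'
        (hA'.symm ▸ Nat.gcd_dvd_right _ _)⟩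
    choose! v hv using hv
    let y : Fin ((n + 3) / 2) → Matrix.ProjectiveSpecialLinearGroup (Fin n) F :=
      fun j => if j.val = 0 then u else v j
    refine ⟨y, Nat.dvd_antisymm ?_ ?_⟩
    · rw [orderOf_dvd_iff_pow_eq_one]
      funext j
      rw [Pi.pow_apply, Pi.one_apply, ← orderOf_dvd_iff_pow_eq_one]
      by_cases hj : j.val = 0
      · simp only [y, hj, if_pos, hu]; exact Nat.ordProj_dvd M 2
      · simp only [y, if_neg hj, hv j hj]; exact Nat.gcd_dvd_left _ _
    · have hy : ∀ j, orderOf (y j) ∣ orderOf y := fun j => by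
        rw [orderOf_dvd_iff_pow_eq_one]
        exact congrFun (pow_orderOf_eq_one y) j
      rw [Nat.dvd_iff_prime_pow_dvd_dvd]
      intro p e hp he
      rcases Nat.eq_zero_or_pos e with rfl | h0
      · simp
      by_cases hp2 : p = 2
      · subst hp2
        refine dvd_trans ?_ (hy ⟨0, by omega⟩)
        simp only [y, if_pos, hu]
        exact pow_dvd_pow 2 ((hp.pow_dvd_iff_le_factorization hM0).mp he)
      · obtain ⟨e, rfl⟩ := Nat.exists_eq_add_of_le' h0
        obtain ⟨i, hi⟩ := exists_dvd_orderOf_pi x hp (by omega) he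
        obtain ⟨d, hd0, hdn, hd⟩ := exists_degree hF n
          (E.symm (x i ^ (orderOf (x i) / p ^ (e + 1)))) hp hp2
          (by rw [E.symm.orderOf_eq, orderOf_pow_orderOf_div (orderOf_pos _).ne' hi])
        -- a multiple of `d` in the upper half
        obtain ⟨c, hc1, hc2⟩ : ∃ c, n / 2 < d * c ∧ d * c ≤ n := by
          refine ⟨n / d, ?_, Nat.mul_div_le n d⟩
          have h1 := Nat.div_add_mod n d
          have h2 := Nat.mod_lt n hd0
          have h3 : 1 ≤ n / d := Nat.div_pos hdn hd0
          have h4 : d ≤ d * (n / d) := Nat.le_mul_of_pos_right d h3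
          omega
        let j : Fin ((n + 3) / 2) := ⟨d * c - n / 2, by omega⟩
        have hj : j.val ≠ 0 := by simp only [j]; omega
        refine dvd_trans ?_ (hy j)
        simp only [y, if_neg hj, hv j hj]
        refine Nat.dvd_gcd he (hd.trans ?_)
        have : n / 2 + j.val = d * c := by simp only [j]; omega
        rw [this]
        exact Nat.pow_sub_one_dvd_pow_sub_one 2 (dvd_mul_right d c)
  · rintro _ ⟨x, rfl⟩
    let f : (Fin ((n + 3) / 2) → Matrix.ProjectiveSpecialLinearGroup (Fin n) F) →*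
        (Fin k → Matrix.ProjectiveSpecialLinearGroup (Fin n) F) :=
      { toFun := fun z i => if h : i.val < (n + 3) / 2 then z ⟨i.val, h⟩ else 1
        map_one' := by funext i; simp
        map_mul' := fun a b => by funext i; by_cases h : i.val < (n + 3) / 2 <;> simp [h] }
    refine ⟨f x, orderOf_injective f ?_ x⟩
    intro a b h
    funext j
    have := congrFun h ⟨j.val, lt_of_lt_of_le j.isLt hk⟩
    simpa [f, j.isLt] using this

end Cfsg.Agent.S2513
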