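import Cfsg.Statements.S2514
import Mathlib.Algebra.GCDMonoid.Finset
import Mathlib.Data.Set.Finite.Lemmas
import Mathlib.GroupTheory.OrderOfElement

set_option autoImplicit false
open Cfsg

namespace Cfsg.Agent.S2514

theorem orderOf_pi_eq_lcm {ι G : Type*} [Fintype ι] [Monoid G] (f : ι → G) :
    orderOf f = Finset.univ.lcm fun i => orderOf (f i) := by
  apply Nat.dvd_antisymm
  · refine orderOf_dvd_of_pow_eq_one (funext fun i => ?_)
    exact orderOf_dvd_iff_pow_eq_one.mp (Finset.dvd_lcm (f := fun i => orderOf (f i)) (Finset.mem_univ i))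
  · exact Finset.lcm_dvd fun i _ => orderOf_dvd_of_pow_eq_one
      (congrFun (pow_orderOf_eq_one f) i)

theorem lcm_univ_succAbove {k : ℕ} (f : Fin (k + 1) → ℕ) (i : Fin (k + 1)) :
    Finset.univ.lcm f = (Finset.univ.lcm fun x => f (i.succAbove x)).lcm (f i) := by
  apply Nat.dvd_antisymm
  · refine Finset.lcm_dvd fun a _ => ?_
    rcases eq_or_ne a i with rfl | ha
    · exact Nat.dvd_lcm_right _ _
    · obtain ⟨x, rfl⟩ := Fin.exists_succAbove_eq ha
      exact (Finset.dvd_lcm (f := fun x => f (i.succAbove x)) (Finset.mem_univ x)).trans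
        (Nat.dvd_lcm_left _ _)
  · exact Nat.lcm_dvd (Finset.lcm_dvd fun x _ => Finset.dvd_lcm (Finset.mem_univ _))
      (Finset.dvd_lcm (Finset.mem_univ i))

theorem exists_orderOf_eq_of_dvd {G : Type*} [Group G] [Finite G] (g : G) {n : ℕ}
    (h : n ∣ orderOf g) : ∃ x : G, orderOf x = n := by
  obtain ⟨t, ht⟩ := h
  have h0 := orderOf_pos g
  refine ⟨g ^ t, ?_⟩
  rw [orderOf_pow' g (by rintro rfl; omega), ht, Nat.gcd_mul_left_left, Nat.mul_div_cancel]
  exact Nat.pos_of_ne_zero (by rintro rfl; omega)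

theorem exists_maximal {G : Type*} [Group G] [Finite G] (g : G) :
    ∃ m ∈ {n : ℕ | n ∈ Set.range (orderOf : G → ℕ) ∧
      ∀ m ∈ Set.range (orderOf : G → ℕ), n ∣ m → m = n}, orderOf g ∣ m := by
  obtain ⟨x, hx, hmax⟩ := Set.exists_max_image {x : G | orderOf g ∣ orderOf x} orderOf
    (Set.toFinite _) ⟨g, dvd_rfl⟩
  refine ⟨orderOf x, ⟨⟨x, rfl⟩, ?_⟩, hx⟩
  rintro _ ⟨y, rfl⟩ hy
  exact le_antisymm (hmax y (hx.trans hy)) (Nat.le_of_dvd (orderOf_pos y) hy)


/-- For a finite group X write μ(X) for the set of element orders of X that are maximal under divisibility. Let G and H be finite groups and k ≥ 1 such that μ(H) ⊆ μ(G) and μ(G) has fewer than k elements outside μ(H). Then the direct product of k copies of G has the same set of element orders as the direct product of k − 1 copies of G with H. -/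
theorem result {G H : Type*} [Group G] [Finite G] [Group H] [Finite H] (k : ℕ) (hk : 1 ≤ k)
    (hsub : {n : ℕ | n ∈ Set.range (orderOf : H → ℕ) ∧ ∀ m ∈ Set.range (orderOf : H → ℕ), n ∣ m → m = n} ⊆ {n : ℕ | n ∈ Set.range (orderOf : G → ℕ) ∧ ∀ m ∈ Set.range (orderOf : G → ℕ), n ∣ m → m = n})
    (hfew : ({n : ℕ | n ∈ Set.range (orderOf : G → ℕ) ∧ ∀ m ∈ Set.range (orderOf : G → ℕ), n ∣ m → m = n} \ {n : ℕ | n ∈ Set.range (orderOf : H → ℕ) ∧ ∀ m ∈ Set.range (orderOf : H → ℕ), n ∣ m → m = n}).ncard < k) :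
    Set.range (orderOf : (Fin k → G) → ℕ) = Set.range (orderOf : (Fin (k - 1) → G) × H → ℕ) := by
  classical
  obtain ⟨j, rfl⟩ : ∃ j, k = j + 1 := ⟨k - 1, by omega⟩
  set SG := {n : ℕ | n ∈ Set.range (orderOf : G → ℕ) ∧ ∀ m ∈ Set.range (orderOf : G → ℕ), n ∣ m → m = n}
  set SH := {n : ℕ | n ∈ Set.range (orderOf : H → ℕ) ∧ ∀ m ∈ Set.range (orderOf : H → ℕ), n ∣ m → m = n}
  show _ = Set.range (orderOf : (Fin j → G) × H → ℕ)
  -- reverse inclusion
  have hHG : ∀ h : H, ∃ g : G, orderOf g = orderOf h := fun h => by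
    obtain ⟨m, hm, hd⟩ := exists_maximal h
    obtain ⟨g, hg⟩ := (hsub hm).1
    exact exists_orderOf_eq_of_dvd g (hg ▸ hd)
  refine Set.Subset.antisymm ?_ ?_
  · rintro _ ⟨f, rfl⟩
    choose m hm hd using fun i => exists_maximal (f i)
    by_cases hex : ∃ i, m i ∈ SH
    · obtain ⟨i, hi⟩ := hex
      obtain ⟨h₀, hh₀⟩ := hi.1
      obtain ⟨h, hh⟩ := exists_orderOf_eq_of_dvd h₀ (hh₀ ▸ hd i)
      refine ⟨(fun x => f (i.succAbove x), h), ?_⟩
      rw [Prod.orderOf_mk, orderOf_pi_eq_lcm f, orderOf_pi_eq_lcm, hh]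
      exact (lcm_univ_succAbove (fun x => orderOf (f x)) i).symm
    · push Not at hex
      have hfin : (SG \ SH).Finite := (Set.finite_range _).subset fun x hx => hx.1.1
      obtain ⟨a, -, b, -, hab, he⟩ := Finset.exists_ne_map_eq_of_card_lt_of_maps_to
        (s := Finset.univ) (t := hfin.toFinset) (f := m)
        (by rw [Finset.card_univ, Fintype.card_fin, ← Set.ncard_eq_toFinset_card _ hfin]; exact hfew)
        (fun i _ => hfin.mem_toFinset.mpr ⟨hm i, hex i⟩)
      obtain ⟨g₀, hg₀⟩ := (hm a).1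
      obtain ⟨g, hg⟩ := exists_orderOf_eq_of_dvd g₀
        (n := (orderOf (f a)).lcm (orderOf (f b))) (hg₀ ▸ Nat.lcm_dvd (hd a) (he ▸ hd b))
      refine ⟨(fun x => Function.update f a g (b.succAbove x), 1), ?_⟩
      rw [Prod.orderOf_mk, orderOf_one, Nat.lcm_one_right, orderOf_pi_eq_lcm f, orderOf_pi_eq_lcm]
      apply Nat.dvd_antisymm
      · refine Finset.lcm_dvd fun x _ => ?_
        by_cases hx : b.succAbove x = a
        · rw [hx, Function.update_self, hg]
          exact Nat.lcm_dvd (Finset.dvd_lcm (f := fun x => orderOf (f x)) (Finset.mem_univ a))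
            (Finset.dvd_lcm (f := fun x => orderOf (f x)) (Finset.mem_univ b))
        · rw [Function.update_of_ne hx]
          exact Finset.dvd_lcm (f := fun x => orderOf (f x)) (Finset.mem_univ _)
      · have hga : orderOf (f a) ∣ orderOf g ∧ orderOf (f b) ∣ orderOf g :=
          hg ▸ ⟨Nat.dvd_lcm_left _ _, Nat.dvd_lcm_right _ _⟩
        obtain ⟨xa, hxa⟩ := Fin.exists_succAbove_eq hab
        refine Finset.lcm_dvd fun i _ => ?_
        rcases eq_or_ne i b with rfl | hib
        · refine hga.2.trans ?_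
          have h1 := Finset.dvd_lcm (s := Finset.univ)
            (f := fun x => orderOf (Function.update f a g (i.succAbove x))) (Finset.mem_univ xa)
          rwa [hxa, Function.update_self] at h1
        · obtain ⟨x, hx⟩ := Fin.exists_succAbove_eq hib
          have h1 := Finset.dvd_lcm (s := Finset.univ)
            (f := fun x => orderOf (Function.update f a g (b.succAbove x))) (Finset.mem_univ x)
          rw [hx] at h1
          refine Dvd.dvd.trans ?_ h1
          rcases eq_or_ne i a with rfl | hia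
          · rw [Function.update_self]; exact hga.1
          · rw [Function.update_of_ne hia]
  · rintro _ ⟨⟨f, h⟩, rfl⟩
    obtain ⟨g, hg⟩ := hHG h
    refine ⟨Fin.cons g f, ?_⟩
    rw [Prod.orderOf_mk, orderOf_pi_eq_lcm, orderOf_pi_eq_lcm f,
      lcm_univ_succAbove (fun x => orderOf ((Fin.cons g f : Fin (j + 1) → G) x)) 0]
    simp only [Fin.zero_succAbove, Fin.cons_succ, Fin.cons_zero, hg]

end Cfsg.Agent.S2514
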