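import Cfsg.Statements.S2515
import Cfsg.Agent.Lib.PSL2Spectrum
import Mathlib.FieldTheory.Finite.GaloisField
import Mathlib.GroupTheory.SemidirectProduct
-- import your own Cfsg.Agent.* helpers here

set_option autoImplicit false
open Cfsg

namespace Cfsg.Agent.S2515

/-- Let q = 3^α with α ≥ 3 odd. There is a finite group H having a non-trivial normal 3-subgroup and whose element orders maximal under divisibility are exactly 6, 9, q − 1 and (q + 1)/2. -/
theorem result (α : ℕ) (hα : 3 ≤ α) (hodd : Odd α) :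
    ∃ (H : Type) (_ : Group H) (_ : Fintype H), (∃ P : Subgroup H, P.Normal ∧ P ≠ ⊥ ∧ IsPGroup 3 ↥P) ∧
      {n : ℕ | n ∈ Set.range (orderOf : H → ℕ) ∧ ∀ m ∈ Set.range (orderOf : H → ℕ), n ∣ m → m = n} = ({6, 9, 3 ^ α - 1, (3 ^ α + 1) / 2} : Set ℕ) := by
  classical
  haveI : Fact (Nat.Prime 3) := ⟨Nat.prime_three⟩
  let F := GaloisField 3 α
  haveI : Fintype F := Fintype.ofFinite F
  have hF : Fintype.card F = 3 ^ α := by rw [← Nat.card_eq_fintype_card, GaloisField.card 3 α (by omega)]
  have hodd' : Odd (Fintype.card F) := by rw [hF]; exact (show Odd 3 by decide).pow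
  have h4 : Fintype.card F % 4 = 3 := by
    obtain ⟨j, rfl⟩ := hodd
    rw [hF, pow_succ, pow_mul, Nat.mul_mod, Nat.pow_mod]
    norm_num
  have h27 : 27 ≤ 3 ^ α := le_trans (le_of_eq (by norm_num)) (Nat.pow_le_pow_right (by norm_num) hα)
  rw [hF] at h4
  have h3F : (3 : F) = 0 := CharP.cast_eq_zero F 3
  have hnegone : ∀ t : F, t * t ≠ -1 := by
    intro t ht
    have : IsSquare (-1 : F) := ⟨t, ht.symm⟩
    rw [FiniteField.isSquare_neg_one_iff, hF] at this
    omega
  let SL := Matrix.SpecialLinearGroup (Fin 2) F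
  let PSL := Matrix.ProjectiveSpecialLinearGroup (Fin 2) F
  let σ : F →+* F := frobenius F 3
  let W := Matrix (Fin 2) (Fin 2) F
  let A₀ : SL →* MulAut (Multiplicative W) :=
    { toFun := fun g => AddEquiv.toMultiplicative
        { toFun := fun X => g.1 * X * ((g.1).map σ).transpose
          invFun := fun X => (g⁻¹).1 * X * (((g⁻¹).1).map σ).transpose
          left_inv := fun X => by
            have e1 : (g⁻¹).1 * g.1 = 1 := congrArg Subtype.val (inv_mul_cancel g)
            calc (g⁻¹).1 * (g.1 * X * ((g.1).map σ).transpose) * (((g⁻¹).1).map σ).transpose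
                = ((g⁻¹).1 * g.1) * X * (((g.1).map σ).transpose * (((g⁻¹).1).map σ).transpose) := by simp only [mul_assoc]
              _ = X := by rw [e1, ← Matrix.transpose_mul, ← Matrix.map_mul, e1]; simp
          right_inv := fun X => by
            have e1 : g.1 * (g⁻¹).1 = 1 := congrArg Subtype.val (mul_inv_cancel g)
            calc g.1 * ((g⁻¹).1 * X * (((g⁻¹).1).map σ).transpose) * ((g.1).map σ).transpose
                = (g.1 * (g⁻¹).1) * X * ((((g⁻¹).1).map σ).transpose * ((g.1).map σ).transpose) := by simp only [mul_assoc]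
              _ = X := by rw [e1, ← Matrix.transpose_mul, ← Matrix.map_mul, e1]; simp
          map_add' := fun X Y => by simp only [mul_add, add_mul] }
      map_one' := by
        refine MulEquiv.ext fun X => Multiplicative.toAdd.injective ?_
        show (1 : W) * Multiplicative.toAdd X * ((1 : W).map σ).transpose = Multiplicative.toAdd X
        simp
      map_mul' := fun g k => by
        refine MulEquiv.ext fun X => Multiplicative.toAdd.injective ?_
        show (g.1 * k.1) * Multiplicative.toAdd X * ((g.1 * k.1).map σ).transpose =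
          g.1 * (k.1 * Multiplicative.toAdd X * ((k.1).map σ).transpose) * ((g.1).map σ).transpose
        rw [Matrix.map_mul, Matrix.transpose_mul]
        simp only [mul_assoc] }
  let A : PSL →* MulAut (Multiplicative W) := QuotientGroup.lift _ A₀ (by
    intro g hg
    obtain ⟨r, hr, hgr⟩ := Matrix.SpecialLinearGroup.mem_center_iff.mp hg
    rw [Fintype.card_fin] at hr
    have hr' : r = 1 ∨ r = -1 := sq_eq_one_iff.mp hr
    rw [MonoidHom.mem_ker]
    refine MulEquiv.ext fun X => Multiplicative.toAdd.injective ?_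
    show g.1 * Multiplicative.toAdd X * ((g.1).map σ).transpose = Multiplicative.toAdd X
    rw [← hgr]
    rcases hr' with rfl | rfl
    · simp
    · simp [map_neg, map_one, Matrix.map_neg, Matrix.transpose_neg]
      exact (congrArg Neg.neg (neg_one_mul _)).trans (neg_neg _))
  let S : ℤˣ →* MulAut (Multiplicative W) :=
    { toFun := fun e => AddEquiv.toMultiplicative
        { toFun := fun X => (e : ℤ) • X
          invFun := fun X => (e : ℤ) • X
          left_inv := fun X => by show (e : ℤ) • ((e : ℤ) • X) = X; rw [smul_smul, ← Units.val_mul, Int.units_mul_self, Units.val_one, one_smul]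
          right_inv := fun X => by show (e : ℤ) • ((e : ℤ) • X) = X; rw [smul_smul, ← Units.val_mul, Int.units_mul_self, Units.val_one, one_smul]
          map_add' := fun X Y => smul_add _ _ _ }
      map_one' := by refine MulEquiv.ext fun X => Multiplicative.toAdd.injective ?_; show ((1 : ℤˣ) : ℤ) • Multiplicative.toAdd X = _; simp
      map_mul' := fun e f => by
        refine MulEquiv.ext fun X => Multiplicative.toAdd.injective ?_
        show ((e * f : ℤˣ) : ℤ) • Multiplicative.toAdd X = (e : ℤ) • ((f : ℤ) • Multiplicative.toAdd X)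
        rw [Units.val_mul, mul_smul] }
  have hA₀ : ∀ (g : SL) (X : Multiplicative W), Multiplicative.toAdd (A (g : PSL) X) = g.1 * Multiplicative.toAdd X * ((g.1).map σ).transpose :=
    fun g X => rfl
  have hS : ∀ (e : ℤˣ) (X : W), Multiplicative.toAdd (S e (Multiplicative.ofAdd X)) = (e : ℤ) • X := fun e X => rfl
  let φ : PSL × ℤˣ →* MulAut (Multiplicative W) := MonoidHom.noncommCoprod A S (fun x e => by
    obtain ⟨g, rfl⟩ := QuotientGroup.mk'_surjective _ x
    refine MulEquiv.ext fun X => Multiplicative.toAdd.injective ?_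
    show g.1 * ((e : ℤ) • Multiplicative.toAdd X) * ((g.1).map σ).transpose =
      (e : ℤ) • (g.1 * Multiplicative.toAdd X * ((g.1).map σ).transpose)
    rw [Matrix.mul_smul, Matrix.smul_mul])
  have hφ : ∀ (x : PSL) (e : ℤˣ) w, φ (x, e) w = A x (S e w) := fun x e w => rfl
  haveI : Finite (Multiplicative W ⋊[φ] (PSL × ℤˣ)) := Finite.of_equiv _ SemidirectProduct.equivProd.symm
  haveI : Fintype (Multiplicative W ⋊[φ] (PSL × ℤˣ)) := Fintype.ofFinite (Multiplicative W ⋊[φ] (PSL × ℤˣ))
  -- powers
  have hpow : ∀ (z : (Multiplicative W ⋊[φ] (PSL × ℤˣ))) (k : ℕ), (z ^ k).right = z.right ^ k := fun z k =>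
    map_pow (SemidirectProduct.rightHom : (Multiplicative W ⋊[φ] (PSL × ℤˣ)) →* _) z k
  have hthree : ∀ w : Multiplicative W, w ^ 3 = 1 := fun w => by
    apply Multiplicative.toAdd.injective
    rw [toAdd_pow, toAdd_one]
    ext i j
    rw [Matrix.smul_apply, nsmul_eq_mul, Nat.cast_ofNat, h3F, zero_mul, Matrix.zero_apply]
  have hin : ∀ (z : (Multiplicative W ⋊[φ] (PSL × ℤˣ))) (m : ℕ), z.right ^ m = 1 → z ^ (m * 3) = 1 := by
    intro z m hm
    have e : z ^ m = SemidirectProduct.inl (z ^ m).left := by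
      refine SemidirectProduct.ext rfl ?_
      rw [hpow, hm]; rfl
    rw [pow_mul, e, ← map_pow, hthree, map_one]
  have hfree : ∀ (z : (Multiplicative W ⋊[φ] (PSL × ℤˣ))) (m : ℕ), z.right ^ m = 1 → (∀ w, φ z.right w = w → w = 1) → z ^ m = 1 := by
    intro z m hm hfp
    have e : z ^ m = SemidirectProduct.inl (z ^ m).left := by
      refine SemidirectProduct.ext rfl ?_
      rw [hpow, hm]; rfl
    have hc : z * z ^ m = z ^ m * z := by rw [← pow_succ, ← pow_succ']
    rw [e] at hc ⊢
    have h1 := congrArg SemidirectProduct.left hc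
    simp only [SemidirectProduct.mul_left, SemidirectProduct.left_inl, SemidirectProduct.right_inl, map_one,
      MulAut.one_apply] at h1
    rw [mul_comm _ z.left] at h1
    rw [hfp _ (mul_left_cancel h1), map_one]
  -- a fixed vector bounds the order
  have hsmall : ∀ (x : PSL) (e : ℤˣ) (w : Multiplicative W), φ (x, e) w = w → w ≠ 1 → x ^ 2 = 1 ∨ x ^ 3 = 1 := by
    intro x e w hw hw1
    obtain ⟨g, rfl⟩ := QuotientGroup.mk'_surjective _ x
    set V : W := Multiplicative.toAdd w with hV
    have hfix : g.1 * ((e : ℤ) • V) * ((g.1).map σ).transpose = V := congrArg Multiplicative.toAdd hw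
    let J : Matrix (Fin 2) (Fin 2) F := !![0, 1; -1, 0]
    set τ := g.1 0 0 + g.1 1 1 with hτ
    have hdet : g.1 0 0 * g.1 1 1 - g.1 0 1 * g.1 1 0 = 1 := by
      have := g.2; rwa [Matrix.det_fin_two] at this
    have hdet' : σ (g.1 0 0) * σ (g.1 1 1) - σ (g.1 0 1) * σ (g.1 1 0) = 1 := by
      rw [← map_mul, ← map_mul, ← map_sub, hdet, map_one]
    have hCH : g.1 * g.1 = τ • g.1 - 1 := by
      ext i j
      fin_cases i <;> fin_cases j <;> simp [τ, Matrix.mul_apply, Fin.sum_univ_two, Matrix.one_apply] <;>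
        first | linear_combination -hdet | ring
    set G := (g.1).map σ with hG
    have hCH' : G * G = σ τ • G - 1 := by
      ext i j
      fin_cases i <;> fin_cases j <;> simp [τ, G, Matrix.mul_apply, Fin.sum_univ_two, Matrix.one_apply] <;>
        first | linear_combination -hdet' | ring
    have hJ : G.transpose * J * G = J := by
      ext i j
      fin_cases i <;> fin_cases j <;> simp [J, G, Matrix.mul_apply, Fin.sum_univ_two] <;>
        first | linear_combination hdet' | linear_combination -hdet' | ring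
    have hJJ : J * J = -1 := by
      ext i j; fin_cases i <;> fin_cases j <;> simp [J, Matrix.mul_apply, Fin.sum_univ_two, Matrix.one_apply]
    set X := V * J with hX
    obtain ⟨ε, hε, hV'⟩ : ∃ ε : F, ε * ε = 1 ∧ ε • (g.1 * V * G.transpose) = V := by
      refine ⟨((e : ℤ) : F), ?_, ?_⟩
      · rw [← Int.cast_mul, ← Units.val_mul, Int.units_mul_self]; simp
      · conv_rhs => rw [← hfix]
        rw [Matrix.mul_smul, Matrix.smul_mul, Int.cast_smul_eq_zsmul]
    have hgX : g.1 * X = ε • (X * G) := by
      have h : X * G = ε • (g.1 * X) := by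
        calc X * G = V * J * G := rfl
          _ = (ε • (g.1 * V * G.transpose)) * J * G := by rw [hV']
          _ = ε • (g.1 * V * (G.transpose * J * G)) := by simp only [Matrix.smul_mul, mul_assoc]
          _ = ε • (g.1 * X) := by rw [hJ, hX, mul_assoc]
      rw [h, smul_smul, hε, one_smul]
    have h2 : g.1 * g.1 * X = X * (G * G) := by
      rw [mul_assoc, hgX, Matrix.mul_smul, ← mul_assoc, hgX, Matrix.smul_mul, smul_smul, hε, one_smul, mul_assoc]
    rw [hCH, hCH', sub_mul, mul_sub, Matrix.smul_mul, one_mul, mul_one, hgX, Matrix.mul_smul, smul_smul,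
      sub_left_inj] at h2
    have hX0 : X ≠ 0 := fun h0 => hw1 (by
      have : V * J * J = 0 := by rw [← hX, h0, zero_mul]
      rw [mul_assoc, hJJ, mul_neg, mul_one, neg_eq_zero] at this
      exact Multiplicative.toAdd.injective this)
    have hτ3 : σ τ = τ * ε := by
      by_contra hne
      refine hX0 ?_
      have h5 : X * G = 0 := by
        have := sub_eq_zero.mpr h2
        rw [← sub_smul, smul_eq_zero, sub_eq_zero] at this
        exact this.resolve_left (fun h => hne h.symm)
      have h6 : (X * G) * ((g⁻¹).1).map σ = X := by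
        rw [mul_assoc, hG, ← Matrix.map_mul, show g.1 * (g⁻¹).1 = 1 from congrArg Subtype.val (mul_inv_cancel g)]
        simp
      rw [← h6, h5, zero_mul]
    have hτ' : τ = 0 ∨ τ * τ = 1 := by
      rw [show σ τ = τ ^ 3 from frobenius_def 3 τ] at hτ3
      by_cases h0 : τ = 0
      · exact Or.inl h0
      · have : τ * τ = ε := mul_left_cancel₀ h0 (by linear_combination hτ3)
        rcases mul_self_eq_one_iff.mp hε with h1 | h1
        · exact Or.inr (this.trans h1)
        · exact absurd (this.trans h1) (hnegone τ)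
    have hcen : ∀ (k : ℕ) (c : F), (g ^ k).1 = c • (1 : W) → ((g : PSL)) ^ k = 1 := by
      intro k c h
      have hc : c * c = 1 := by
        have := (g ^ k).2
        rw [h, Matrix.det_smul, Fintype.card_fin, Matrix.det_one, mul_one, pow_two] at this
        exact this
      rw [← QuotientGroup.mk_pow, QuotientGroup.eq_one_iff, Matrix.SpecialLinearGroup.mem_center_iff]
      refine ⟨c, by rw [Fintype.card_fin, pow_two]; exact hc, ?_⟩
      rw [h, Matrix.smul_one_eq_diagonal]; rfl
    rcases hτ' with h0 | h1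
    · refine Or.inl (hcen 2 (-1) ?_)
      show (g ^ 2).1 = _
      rw [Matrix.SpecialLinearGroup.coe_pow, pow_two, hCH, h0]; simp
    · refine Or.inr (hcen 3 (-τ) ?_)
      show (g ^ 3).1 = _
      rw [Matrix.SpecialLinearGroup.coe_pow, pow_succ, pow_two, hCH, sub_mul, Matrix.smul_mul, hCH, smul_sub,
        smul_smul, h1, one_smul, one_mul, neg_smul]
      abel
  have hnegfree : ∀ w : Multiplicative W, φ (1, -1) w = w → w = 1 := by
    intro w hw
    have h : ((-1 : ℤˣ) : ℤ) • Multiplicative.toAdd w = Multiplicative.toAdd w := by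
      have := congrArg Multiplicative.toAdd hw
      rw [hφ, map_one, MulAut.one_apply] at this
      exact this
    apply Multiplicative.toAdd.injective
    ext i j
    have h2 := congrFun (congrFun h i) j
    simp only [Units.val_neg, Units.val_one, neg_smul, one_smul] at h2
    change -(Multiplicative.toAdd w i j) = _ at h2
    rw [toAdd_one, Matrix.zero_apply]
    linear_combination h2 + Multiplicative.toAdd w i j * h3F
  have horders := CfsgLib.PSL2Spectrum.psl_orders (F := F) 3
  have hgcd : Nat.gcd 2 (Fintype.card F - 1) = 2 := Nat.gcd_eq_left (by rw [hF]; omega)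
  rw [hF] at hgcd
  simp only [hF, hgcd] at horders
  -- every order divides one of the four
  have hupper : ∀ z : (Multiplicative W ⋊[φ] (PSL × ℤˣ)), orderOf z ∣ 6 ∨ orderOf z ∣ 9 ∨ orderOf z ∣ 3 ^ α - 1 ∨ orderOf z ∣ (3 ^ α + 1) / 2 := by
    intro z
    obtain ⟨x, e, hxe⟩ : ∃ x e, z.right = (x, e) := ⟨_, _, rfl⟩
    set d := orderOf x with hd
    have hzd : ∀ k, x ^ k = 1 → z.right ^ k = (1, e ^ k) := fun k hk => by
      rw [hxe, Prod.pow_mk, hk]
    have hpw : ∀ (k : ℕ) w, φ z.right w = w → φ (z.right ^ k) w = w := by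
      intro k w hw
      induction k with
      | zero => simp
      | succ k ih => rw [pow_succ, map_mul, MulAut.mul_apply, hw, ih]
    rcases (horders d).mp ⟨x, rfl⟩ with hdc | hdc | hdc
    rotate_left 2
    · have hx3 : x ^ 3 = 1 := by have := pow_orderOf_eq_one x; rwa [← hd, hdc] at this
      rcases Int.units_eq_one_or e with rfl | rfl
      · right; left
        exact orderOf_dvd_of_pow_eq_one (hin z 3 (by rw [hzd 3 hx3]; simp))
      · left
        refine orderOf_dvd_of_pow_eq_one (hfree z 6 ?_ fun w hw => hnegfree w ?_)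
        · rw [hzd 6 (by rw [show 6 = 3 * 2 from rfl, pow_mul, hx3, one_pow])]
          simp [show Even 6 by decide]
        · have := hpw 3 w hw
          rwa [hzd 3 hx3, Odd.neg_one_pow (show Odd 3 by decide)] at this
    all_goals
      by_cases hfix : ∃ w, φ z.right w = w ∧ w ≠ 1
      · obtain ⟨w, hw, hw1⟩ := hfix
        rw [hxe] at hw
        left
        rcases hsmall x e w hw hw1 with h | h
        · exact orderOf_dvd_of_pow_eq_one (hin z 2 (by rw [hzd 2 h, Int.units_sq]; rfl))
        · -- order three is coprime to both tori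
          have h3 : d ∣ 3 := orderOf_dvd_of_pow_eq_one h
          rcases (Nat.dvd_prime Nat.prime_three).mp h3 with h1 | h1
          · refine orderOf_dvd_of_pow_eq_one (hin z 2 ?_)
            rw [hzd 2 (by rw [orderOf_eq_one_iff.mp (hd ▸ h1 : orderOf x = 1), one_pow]), Int.units_sq]; rfl
          · exfalso
            rw [h1] at hdc
            have h3q : 3 ∣ 3 ^ α := dvd_pow_self 3 (by omega)
            obtain ⟨c, hc⟩ := hdc
            omega
      push Not at hfix
      right; right
    · left
      refine orderOf_dvd_of_pow_eq_one (hfree z _ ?_ hfix)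
      obtain ⟨c, hc⟩ := hdc
      have hx : x ^ (3 ^ α - 1) = 1 := orderOf_dvd_iff_pow_eq_one.mp
        ⟨c * 2, by rw [← hd, ← mul_assoc, ← hc]; omega⟩
      rw [hzd _ hx, show e ^ (3 ^ α - 1) = 1 by
        obtain ⟨j, hj⟩ : 2 ∣ 3 ^ α - 1 := by omega
        rw [hj, pow_mul, Int.units_sq, one_pow]]
      rfl
    · right
      refine orderOf_dvd_of_pow_eq_one (hfree z _ ?_ hfix)
      rw [hzd _ (orderOf_dvd_iff_pow_eq_one.mp hdc), show e ^ ((3 ^ α + 1) / 2) = 1 by
        obtain ⟨j, hj⟩ : 2 ∣ (3 ^ α + 1) / 2 := by omega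
        rw [hj, pow_mul, Int.units_sq, one_pow]]
      rfl
  -- the four orders occur
  have hinr : ∀ h : PSL × ℤˣ, orderOf (SemidirectProduct.inr h : (Multiplicative W ⋊[φ] (PSL × ℤˣ))) = orderOf h := fun h =>
    orderOf_injective _ SemidirectProduct.inr_injective h
  have hneg : ∀ x : PSL, Odd (orderOf x) → orderOf ((x, -1) : PSL × ℤˣ) = orderOf x * 2 := by
    intro x hx
    have h2 : orderOf (-1 : ℤˣ) = 2 := orderOf_eq_prime (by simp) (by decide)
    rw [Prod.orderOf_mk, h2]
    exact Nat.Coprime.lcm_eq_mul (Nat.coprime_two_right.mpr hx)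
  obtain ⟨x3, hx3⟩ := (horders 3).mpr (Or.inr (Or.inr rfl))
  obtain ⟨xm, hxm⟩ := (horders ((3 ^ α - 1) / 2)).mpr (Or.inl dvd_rfl)
  obtain ⟨xp, hxp⟩ := (horders ((3 ^ α + 1) / 2)).mpr (Or.inr (Or.inl dvd_rfl))
  have hA6 : ∃ z : (Multiplicative W ⋊[φ] (PSL × ℤˣ)), orderOf z = 6 := ⟨SemidirectProduct.inr (x3, -1), by rw [hinr, hneg x3 (by rw [hx3]; decide), hx3]⟩
  have hAm : ∃ z : (Multiplicative W ⋊[φ] (PSL × ℤˣ)), orderOf z = 3 ^ α - 1 := ⟨SemidirectProduct.inr (xm, -1), by
    rw [hinr, hneg xm (by rw [hxm, Nat.odd_iff]; omega), hxm]; omega⟩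
  have hAp : ∃ z : (Multiplicative W ⋊[φ] (PSL × ℤˣ)), orderOf z = (3 ^ α + 1) / 2 := ⟨SemidirectProduct.inr (xp, 1), by
    rw [hinr, Prod.orderOf_mk, orderOf_one, Nat.lcm_one_right, hxp]⟩
  have hA9 : ∃ z : (Multiplicative W ⋊[φ] (PSL × ℤˣ)), orderOf z = 9 := by
    let u : SL := ⟨!![1, 1; 0, 1], by simp [Matrix.det_fin_two]⟩
    let w : Multiplicative W := Multiplicative.ofAdd !![0, 0; 0, 1]
    let z : (Multiplicative W ⋊[φ] (PSL × ℤˣ)) := ⟨w, ((u : PSL), 1)⟩
    have hu3 : (u : PSL) ^ 3 = 1 := by
      rw [← QuotientGroup.mk_pow, show u ^ 3 = 1 from Subtype.ext (by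
        rw [Matrix.SpecialLinearGroup.coe_pow]
        show (!![1, 1; 0, 1] : W) ^ 3 = 1
        ext i j
        fin_cases i <;> fin_cases j <;> simp [pow_succ, Matrix.mul_fin_two, Matrix.one_apply]
        linear_combination h3F), QuotientGroup.mk_one]
    refine ⟨z, ?_⟩
    haveI : Fact (Nat.Prime 3) := ⟨Nat.prime_three⟩
    have hne : ¬ z ^ 3 ^ 1 = 1 := by
      intro h
      have h1 := congrArg (fun y : (Multiplicative W ⋊[φ] (PSL × ℤˣ)) => Multiplicative.toAdd y.left) h
      simp only [pow_one, pow_succ, pow_zero, one_mul, SemidirectProduct.mul_left, SemidirectProduct.mul_right,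
        SemidirectProduct.one_left, toAdd_mul, toAdd_one, z] at h1
      rw [hφ, hφ] at h1
      simp only [map_one, MulAut.one_apply, Prod.mk_mul_mk] at h1
      have h2 := congrFun (congrFun h1 0) 0
      simp only [w, map_mul, MulAut.mul_apply, hA₀, mul_one, map_one, MulAut.one_apply, toAdd_ofAdd] at h2
      let U : Matrix (Fin 2) (Fin 2) F := !![1, 1; 0, 1]
      let D : Matrix (Fin 2) (Fin 2) F := !![0, 0; 0, 1]
      have key : (D + U * D * (U.map σ).transpose +
          U * (U * D * (U.map σ).transpose) * (U.map σ).transpose) 0 0 = (5 : F) := by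
        have hU : (U.map σ).transpose = !![(1 : F), 0; 1, 1] := by
          ext i j; fin_cases i <;> fin_cases j <;> simp [U]
        rw [hU]
        simp [U, D, Matrix.mul_fin_two]
        try ring
      change (D + U * D * (U.map σ).transpose +
          U * (U * D * (U.map σ).transpose) * (U.map σ).transpose) 0 0 = (0 : F) at h2
      rw [key] at h2
      exact one_ne_zero (α := F) (by linear_combination h3F * 2 - h2)
    have hz : z ^ 3 ^ (1 + 1) = 1 := by
      have := hin z 3 (by show ((u : PSL), (1 : ℤˣ)) ^ 3 = 1; rw [Prod.pow_mk, hu3, one_pow]; rfl)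
      simpa using this
    rw [orderOf_eq_prime_pow hne hz]
    rfl
  refine ⟨(Multiplicative W ⋊[φ] (PSL × ℤˣ)), inferInstance, inferInstance, ⟨(SemidirectProduct.inl : Multiplicative W →* (Multiplicative W ⋊[φ] (PSL × ℤˣ))).range, ?_, ?_, ?_⟩, ?_⟩
  · rw [SemidirectProduct.range_inl_eq_ker_rightHom]; infer_instance
  · intro hbot
    have h : (SemidirectProduct.inl (Multiplicative.ofAdd (1 : W)) : (Multiplicative W ⋊[φ] (PSL × ℤˣ))) ∈
        (SemidirectProduct.inl : Multiplicative W →* (Multiplicative W ⋊[φ] (PSL × ℤˣ))).range := ⟨_, rfl⟩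
    rw [hbot, Subgroup.mem_bot, ← map_one (SemidirectProduct.inl : Multiplicative W →* (Multiplicative W ⋊[φ] (PSL × ℤˣ)))] at h
    exact one_ne_zero (α := W) (Multiplicative.ofAdd.injective (SemidirectProduct.inl_injective h))
  · rintro ⟨_, w, rfl⟩
    exact ⟨1, Subtype.ext (by rw [SubgroupClass.coe_pow, pow_one, ← map_pow, hthree, map_one]; rfl)⟩
  · have hq : (3 : ℕ) ∣ 3 ^ α := dvd_pow_self 3 (by omega)
    have hanti : ∀ a ∈ ({6, 9, 3 ^ α - 1, (3 ^ α + 1) / 2} : Set ℕ),
        ∀ b ∈ ({6, 9, 3 ^ α - 1, (3 ^ α + 1) / 2} : Set ℕ), a ∣ b → a = b := by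
      intro a ha b hb hab
      have hle : b ≠ 0 → a ≤ b := fun h => Nat.le_of_dvd (Nat.pos_of_ne_zero h) hab
      simp only [Set.mem_insert_iff, Set.mem_singleton_iff] at ha hb
      obtain ⟨c, hc⟩ := hab
      rcases ha with rfl | rfl | rfl | rfl <;> rcases hb with rfl | rfl | rfl | rfl <;>
        first
          | rfl
          | (have := hle (by omega); omega)
          | (rcases c with _ | _ | _ | c <;> simp only [Nat.mul_add, Nat.mul_one, Nat.mul_zero, Nat.zero_add] at hc <;> omega)
    ext n
    simp only [Set.mem_setOf_eq, Set.mem_range]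
    constructor
    · rintro ⟨⟨z, rfl⟩, hmax⟩
      simp only [Set.mem_insert_iff, Set.mem_singleton_iff]
      rcases hupper z with h | h | h | h
      · exact Or.inl (hmax 6 hA6 h).symm
      · exact Or.inr (Or.inl (hmax 9 hA9 h).symm)
      · exact Or.inr (Or.inr (Or.inl (hmax _ hAm h).symm))
      · exact Or.inr (Or.inr (Or.inr (hmax _ hAp h).symm))
    · intro hn
      refine ⟨?_, ?_⟩
      · simp only [Set.mem_insert_iff, Set.mem_singleton_iff] at hn
        rcases hn with rfl | rfl | rfl | rfl
        exacts [hA6, hA9, hAm, hAp]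
      · rintro m ⟨z, rfl⟩ hnm
        have : ∃ b ∈ ({6, 9, 3 ^ α - 1, (3 ^ α + 1) / 2} : Set ℕ), orderOf z ∣ b := by
          rcases hupper z with h | h | h | h
          exacts [⟨6, by simp, h⟩, ⟨9, by simp, h⟩, ⟨_, by simp, h⟩, ⟨_, by simp, h⟩]
        obtain ⟨b, hb, hzb⟩ := this
        have hab := hanti n hn b hb (hnm.trans hzb)
        rw [← hab] at hzb
        exact Nat.dvd_antisymm hzb hnm

end Cfsg.Agent.S2515
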