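import Cfsg.Statements.S2516


set_option autoImplicit false
open Cfsg

namespace Cfsg.Agent.S2516

/-- Let F be a field of characteristic p > 0, V a non-zero finite-dimensional F-vector space, G a finite group and ρ a representation of G on V; form the semidirect product V ⋊ G. For g ∈ G of order k, the coset Vg contains an element of order pk if and only if the minimal polynomial of ρ(g) does not divide 1 + X + ⋯ + X^(k−1). -/
theorem result {F : Type*} [Field F] (p : ℕ) [Fact p.Prime] [CharP F p] {V : Type*} [AddCommGroup V] [Module F V] [FiniteDimensional F V] [Nontrivial V]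
    {G : Type*} [Group G] [Finite G] (ρ : Representation F G V) (g : G) :
    (∃ x : Multiplicative V ⋊[(MulAutMultiplicative V).symm.toMonoidHom.comp
        ((DistribMulAction.toAddAut ((V →ₗ[F] V)ˣ) V).comp ρ.asGroupHom)] G,
        x.right = g ∧ orderOf x = p * orderOf g) ↔
      ¬ (minpoly F (ρ g) ∣ ∑ i ∈ Finset.range (orderOf g), (Polynomial.X : Polynomial F) ^ i) := by
  classical
  have hp := (Fact.out : p.Prime)
  have hk : 0 < orderOf g := orderOf_pos g
  set k := orderOf g with hkdef
  let S : V →ₗ[F] V := ∑ i ∈ Finset.range k, (ρ g) ^ i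
  have hS : (minpoly F (ρ g) ∣ ∑ i ∈ Finset.range k, (Polynomial.X : Polynomial F) ^ i) ↔ S = 0 := by
    rw [minpoly.dvd_iff]
    simp [S]
  rw [hS]
  let φ : G →* MulAut (Multiplicative V) := (MulAutMultiplicative V).symm.toMonoidHom.comp
        ((DistribMulAction.toAddAut ((V →ₗ[F] V)ˣ) V).comp ρ.asGroupHom)
  show (∃ x : Multiplicative V ⋊[φ] G, x.right = g ∧ orderOf x = p * k) ↔ ¬ S = 0
  have hφ : ∀ (a : G) (v : V), φ a (Multiplicative.ofAdd v) = Multiplicative.ofAdd (ρ a v) :=
    fun a v => rfl
  have hpow : ∀ (x : Multiplicative V ⋊[φ] G), x.right = g → ∀ m : ℕ,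
      x ^ m = ⟨Multiplicative.ofAdd ((∑ i ∈ Finset.range m, (ρ g) ^ i) x.left.toAdd), g ^ m⟩ := by
    intro x hx m
    induction m with
    | zero => ext <;> simp
    | succ m ih =>
      rw [pow_succ, ih]
      refine SemidirectProduct.ext ?_ ?_
      · show Multiplicative.ofAdd _ * φ (g ^ m) x.left = _
        rw [show x.left = Multiplicative.ofAdd x.left.toAdd from rfl, hφ, map_pow,
          ← ofAdd_add, toAdd_ofAdd, Finset.sum_range_succ, LinearMap.add_apply]
      · show g ^ m * x.right = g ^ (m + 1)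
        rw [hx, pow_succ]
  have hxk : ∀ (x : Multiplicative V ⋊[φ] G), x.right = g →
      x ^ k = SemidirectProduct.inl (Multiplicative.ofAdd (S x.left.toAdd)) := by
    intro x hx
    rw [hpow x hx k]
    ext
    · rfl
    · simp [hkdef, pow_orderOf_eq_one]
  have hp1 : ∀ v : V, (Multiplicative.ofAdd v) ^ p = 1 := by
    intro v
    rw [← ofAdd_nsmul, ← Nat.cast_smul_eq_nsmul F, CharP.cast_eq_zero F p, zero_smul, ofAdd_zero]
  constructor
  · rintro ⟨x, hx, hord⟩ h0
    have h1 : x ^ k = 1 := by
      rw [hxk x hx, h0, LinearMap.zero_apply, ofAdd_zero, map_one]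
    have h2 := Nat.le_of_dvd hk (orderOf_dvd_of_pow_eq_one h1)
    rw [hord] at h2
    have := hp.two_le
    nlinarith
  · intro h0
    obtain ⟨v, hv⟩ : ∃ v, S v ≠ 0 := by
      by_contra h
      push_neg at h
      exact h0 (LinearMap.ext h)
    let x : Multiplicative V ⋊[φ] G := ⟨Multiplicative.ofAdd v, g⟩
    refine ⟨x, rfl, ?_⟩
    have hdvd : k ∣ orderOf x := orderOf_map_dvd (SemidirectProduct.rightHom : Multiplicative V ⋊[φ] G →* G) x
    have hne : x ^ k ≠ 1 := by
      rw [hxk x rfl]
      intro h
      exact hv (Multiplicative.ofAdd.injective ((SemidirectProduct.inl_injective (φ := φ)) (h.trans (map_one _).symm)))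
    have hop : orderOf (x ^ k) = p := by
      refine orderOf_eq_prime ?_ hne
      rw [hxk x rfl, ← map_pow, hp1, map_one]
    rw [orderOf_pow' x hk.ne', Nat.gcd_eq_right hdvd] at hop
    rw [← hop, Nat.div_mul_cancel hdvd]

end Cfsg.Agent.S2516
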