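import Cfsg.Agent.Lib.G23.Graph
import Cfsg.Statements.S2518

set_option autoImplicit false
open Cfsg

namespace Cfsg.Agent.S2518

/-- Let F₃ be the field with 3 elements and F₁₃ the field with 13 elements. The Chevalley group G₂(F₃) and PSL(2, F₁₃) have the same prime graph: the same prime divisors of their orders, and for distinct primes r, s an element of order rs in one iff in the other. -/
theorem result {F : Type*} [Field F] [Fintype F] (hF : Fintype.card F = 3) {E : Type*} [Field E] [Fintype E] (hE : Fintype.card E = 13) :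
    ((∀ r : ℕ, r.Prime → (r ∣ Nat.card ↥(Cfsg.Lie.chevG2.group F) ↔ r ∣ Nat.card (Matrix.ProjectiveSpecialLinearGroup (Fin 2) E))) ∧
      (∀ r s : ℕ, r.Prime → s.Prime → r ≠ s → ((∃ x : ↥(Cfsg.Lie.chevG2.group F), orderOf x = r * s) ↔ (∃ y : (Matrix.ProjectiveSpecialLinearGroup (Fin 2) E), orderOf y = r * s)))) := by
  obtain ⟨f⟩ := CfsgLib.G23.group_equiv (F := F) (FiniteField.ringEquivOfCardEq (hF.trans (ZMod.card 3).symm))
  haveI : Fact (Nat.Prime 13) := ⟨by norm_num⟩
  refine ⟨fun r hr => ?_, fun r s hr hs hrs => ?_⟩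
  · rw [Nat.card_congr f.toEquiv, CfsgLib.G23.prime_mem hr]
    have hc : Nat.card (Matrix.ProjectiveSpecialLinearGroup (Fin 2) E) = 1092 := by
      have h := CfsgLib.SLCard.gcd_mul_card_PSL (F := E) (n := 2) (by norm_num)
      rw [CfsgLib.SLCard.card_SL_two, hE] at h
      norm_num at h
      omega
    rw [hc]
    constructor
    · rintro (rfl | rfl | rfl | rfl) <;> norm_num
    · intro h
      have h2 : r ∣ 2 * 2 * 3 * 7 * 13 := h
      have hp : ∀ t : ℕ, t.Prime → r ∣ t → r = t := fun t ht h => (Nat.prime_dvd_prime_iff_eq hr ht).1 h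
      rcases hr.dvd_mul.1 h2 with h | h
      · rcases hr.dvd_mul.1 h with h | h
        · rcases hr.dvd_mul.1 h with h | h
          · rcases hr.dvd_mul.1 h with h | h <;> exact Or.inl (hp 2 Nat.prime_two h)
          · exact Or.inr (Or.inl (hp 3 Nat.prime_three h))
        · exact Or.inr (Or.inr (Or.inl (hp 7 (by norm_num) h)))
      · exact Or.inr (Or.inr (Or.inr (hp 13 (by norm_num) h)))
  · rw [CfsgLib.G23.psl_edge hE hr hs hrs, ← CfsgLib.G23.edge hr hs hrs]
    exact ⟨fun ⟨g, hg⟩ => ⟨f g, by rw [MulEquiv.orderOf_eq, hg]⟩,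
      fun ⟨g, hg⟩ => ⟨f.symm g, by rw [MulEquiv.orderOf_eq, hg]⟩⟩

end Cfsg.Agent.S2518
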