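import Cfsg.Statements.S2519
import Cfsg.Agent.Lib.G2Spec.Final
-- import your own Cfsg.Agent.* helpers here

set_option autoImplicit false
open Cfsg
open CfsgLib.G2Spec

namespace Cfsg.Agent.S2519

/-- Let F be a finite field of odd order q = p^a ≥ 5. The element orders of the Chevalley group G₂(F) that are maximal under divisibility are exactly p(q + 1), p(q − 1), q² − 1, q² + q + 1, q² − q + 1, together with p² when p is 3 or 5. -/
theorem result {F : Type*} [Field F] [Fintype F] (p a : ℕ) (hp : p.Prime) (hp2 : p ≠ 2) (ha : 1 ≤ a) (hF : Fintype.card F = p ^ a) (hq5 : 5 ≤ Fintype.card F) :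
    {n : ℕ | n ∈ Set.range (orderOf : ↥(Cfsg.Lie.chevG2.group F) → ℕ) ∧ ∀ m ∈ Set.range (orderOf : ↥(Cfsg.Lie.chevG2.group F) → ℕ), n ∣ m → m = n} =
      ({p * (p ^ a + 1), p * (p ^ a - 1), p ^ (2 * a) - 1, p ^ (2 * a) + p ^ a + 1, p ^ (2 * a) - p ^ a + 1} : Set ℕ) ∪
        (if p = 3 ∨ p = 5 then ({p ^ 2} : Set ℕ) else ∅) := by
  have := Fact.mk hp
  have : CharP F p := charP_of_card_eq_prime_pow hF
  have hpq : p ∣ p ^ a := dvd_pow_self p (by omega)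
  rw [hF] at hq5
  have e2 : p ^ (2 * a) = (p ^ a) ^ 2 := pow_mul' p 2 a
  rw [e2]
  set q := p ^ a with hq
  clear_value q
  set L := ({p * (q + 1), p * (q - 1), q ^ 2 - 1, q ^ 2 + q + 1, q ^ 2 - q + 1} : Set ℕ) ∪
        (if p = 3 ∨ p = 5 then ({p ^ 2} : Set ℕ) else ∅) with hL
  have hmem : ∀ {n : ℕ}, n ∈ L ↔ (n = p * (q + 1) ∨ n = p * (q - 1) ∨ n = q ^ 2 - 1 ∨ n = q ^ 2 + q + 1 ∨
      n = q ^ 2 - q + 1) ∨ ((p = 3 ∨ p = 5) ∧ n = p ^ 2) := by
    intro n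
    rw [hL, Set.mem_union]
    split_ifs with h <;> simp [h]
  have hsub : ∀ n ∈ L, n ∈ Set.range (orderOf : ↥(Cfsg.Lie.chevG2.group F) → ℕ) := by
    intro n hn
    rcases hmem.1 hn with h | ⟨h, rfl⟩
    · exact mem_range_five p (by omega) (by rw [hF]; exact h)
    · exact mem_range_unip p (e := 1) (by rcases h with rfl | rfl <;> simp)
  have hup : ∀ n ∈ Set.range (orderOf : ↥(Cfsg.Lie.chevG2.group F) → ℕ), ∃ l ∈ L, n ∣ l := by
    intro n hn
    by_cases h35 : p = 3 ∨ p = 5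
    · rcases range_cases p hn (e := 2) (by rcases h35 with rfl | rfl <;> norm_num) with h | h | h | h | h | h | h
      · exact ⟨_, hmem.2 (Or.inl (Or.inr (Or.inr (Or.inl rfl)))), hF ▸ h⟩
      · exact ⟨_, hmem.2 (Or.inl (Or.inr (Or.inr (Or.inr (Or.inl rfl))))), hF ▸ h⟩
      · exact ⟨_, hmem.2 (Or.inl (Or.inr (Or.inr (Or.inr (Or.inr rfl))))), hF ▸ h⟩
      · exact ⟨_, hmem.2 (Or.inr ⟨h35, rfl⟩), h⟩
      · exact ⟨_, hmem.2 (Or.inl (Or.inl rfl)), hF ▸ h⟩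
      · exact ⟨_, hmem.2 (Or.inl (Or.inr (Or.inl rfl))), hF ▸ h⟩
      · exact absurd h.1 hp2
    · have hp7 : 5 < p := by
        push Not at h35
        have := hp.two_le
        rcases Nat.lt_or_ge 5 p with h | h
        · exact h
        · interval_cases p <;> first | omega | exact absurd hp (by norm_num)
      rcases range_cases p hn (e := 1) (by rwa [pow_one]) with h | h | h | h | h | h | h
      · exact ⟨_, hmem.2 (Or.inl (Or.inr (Or.inr (Or.inl rfl)))), hF ▸ h⟩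
      · exact ⟨_, hmem.2 (Or.inl (Or.inr (Or.inr (Or.inr (Or.inl rfl))))), hF ▸ h⟩
      · exact ⟨_, hmem.2 (Or.inl (Or.inr (Or.inr (Or.inr (Or.inr rfl))))), hF ▸ h⟩
      · exact ⟨_, hmem.2 (Or.inl (Or.inl rfl)), (pow_one p ▸ h).trans (dvd_mul_right _ _)⟩
      · exact ⟨_, hmem.2 (Or.inl (Or.inl rfl)), hF ▸ h⟩
      · exact ⟨_, hmem.2 (Or.inl (Or.inr (Or.inl rfl))), hF ▸ h⟩
      · exact absurd h.1 hp2
  have hanti : ∀ x ∈ L, ∀ y ∈ L, x ∣ y → x = y := by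
    have c : ∀ {n : ℕ}, n ∈ L → n = p * (q + 1) ∨ n = p * (q - 1) ∨ n = q ^ 2 - 1 ∨ n = q ^ 2 + q + 1 ∨
        n = q ^ 2 - q + 1 ∨ n = p ^ 2 := by
      intro n hn
      rcases hmem.1 hn with h | ⟨-, h⟩
      · tauto
      · tauto
    exact fun x hx y hy h => antichain hp hpq hq5 (c hx) (c hy) h
  ext n
  constructor
  · rintro ⟨hn, hmax⟩
    obtain ⟨l, hl, hd⟩ := hup n hn
    exact hmax l (hsub l hl) hd ▸ hl
  · intro hn
    refine ⟨hsub n hn, fun m hm hd => ?_⟩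
    obtain ⟨l, hl, hd'⟩ := hup m hm
    exact (Nat.dvd_antisymm hd (hanti n hn l hl (hd.trans hd') ▸ hd')).symm

end Cfsg.Agent.S2519
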