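import Cfsg.Statements.S2520
import Cfsg.Agent.Lib.G2Spec.Final
-- import your own Cfsg.Agent.* helpers here

set_option autoImplicit false
open Cfsg
open CfsgLib.G2Spec

namespace Cfsg.Agent.S2520

/-- Let F be a finite field with q = 2^a ≥ 4 elements and G₂(F) the Chevalley group of type G₂ over it. Every element order of G₂(F) maximal under divisibility lies in the set {8, 12, 2(q + 1), 2(q − 1), q² − 1, q² + q + 1, q² − q + 1}, and every member of that set is an element order of G₂(F). -/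
theorem result {F : Type*} [Field F] [Fintype F] (a : ℕ) (ha : 2 ≤ a) (hF : Fintype.card F = 2 ^ a) :
    {n : ℕ | n ∈ Set.range (orderOf : ↥(Cfsg.Lie.chevG2.group F) → ℕ) ∧ ∀ m ∈ Set.range (orderOf : ↥(Cfsg.Lie.chevG2.group F) → ℕ), n ∣ m → m = n} ⊆ ({8, 12, 2 * (2 ^ a + 1), 2 * (2 ^ a - 1), 2 ^ (2 * a) - 1, 2 ^ (2 * a) + 2 ^ a + 1, 2 ^ (2 * a) - 2 ^ a + 1} : Set ℕ) ∧
    ({8, 12, 2 * (2 ^ a + 1), 2 * (2 ^ a - 1), 2 ^ (2 * a) - 1, 2 ^ (2 * a) + 2 ^ a + 1, 2 ^ (2 * a) - 2 ^ a + 1} : Set ℕ) ⊆ Set.range (orderOf : ↥(Cfsg.Lie.chevG2.group F) → ℕ) := by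
  have := Fact.mk Nat.prime_two
  have : CharP F 2 := charP_of_card_eq_prime_pow hF
  have h4 : 4 ≤ 2 ^ a := le_trans (by norm_num) (Nat.pow_le_pow_right (by norm_num) ha)
  have e2 : 2 ^ (2 * a) = (2 ^ a) ^ 2 := pow_mul' 2 2 a
  rw [e2]
  set q := 2 ^ a with hq
  clear_value q
  have hsub : ({8, 12, 2 * (q + 1), 2 * (q - 1), q ^ 2 - 1, q ^ 2 + q + 1, q ^ 2 - q + 1} : Set ℕ) ⊆
      Set.range (orderOf : ↥(Cfsg.Lie.chevG2.group F) → ℕ) := by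
    intro n hn
    simp only [Set.mem_insert_iff, Set.mem_singleton_iff] at hn
    rcases hn with rfl | rfl | h
    · exact mem_range_unip 2 (e := 2) (by simp)
    · obtain ⟨x, hx, h⟩ := twelve (F := F)
      exact mem_range_of_dvd hx h.symm.dvd
    · exact mem_range_five 2 (by omega) (by rw [hF]; exact h)
  refine ⟨?_, hsub⟩
  rintro n ⟨hn, hmax⟩
  suffices ∃ l ∈ ({8, 12, 2 * (q + 1), 2 * (q - 1), q ^ 2 - 1, q ^ 2 + q + 1, q ^ 2 - q + 1} : Set ℕ), n ∣ l by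
    obtain ⟨l, hl, hd⟩ := this
    exact hmax l (hsub hl) hd ▸ hl
  rcases range_cases 2 hn (e := 3) (by norm_num) with h | h | h | h | h | h | ⟨-, h⟩
  · exact ⟨q ^ 2 - 1, by simp, hF ▸ h⟩
  · exact ⟨q ^ 2 + q + 1, by simp, hF ▸ h⟩
  · exact ⟨q ^ 2 - q + 1, by simp, hF ▸ h⟩
  · exact ⟨8, by simp, by simpa using h⟩
  · exact ⟨2 * (q + 1), by simp, hF ▸ h⟩
  · exact ⟨2 * (q - 1), by simp, hF ▸ h⟩
  · exact ⟨12, by simp, h⟩

end Cfsg.Agent.S2520
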