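import Cfsg.Statements.S2521
-- import your own Cfsg.Agent.* helpers here

set_option autoImplicit false
open Cfsg

namespace Cfsg.Agent.S2521

/-- Let B be a finite group that is the semidirect product of a nilpotent normal subgroup U by an abelian subgroup T (U ∩ T = 1, UT = B), and let t ∈ T have centralizer exactly T. Then every element of the coset tU is conjugate to t in B: for each u ∈ U there is b ∈ B with b t b⁻¹ = t u. -/
theorem result {B : Type*} [Group B] [Finite B] (U T : Subgroup B) [U.Normal] (hU : Group.IsNilpotent ↥U) (hT : IsMulCommutative ↥T)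
    (hcompl : Subgroup.IsComplement' U T) (t : B) (ht : t ∈ T) (hreg : Subgroup.centralizer ({t} : Set B) = T) (u : B) (hu : u ∈ U) :
    ∃ b : B, b * t * b⁻¹ = t * u := by
  have hd : Disjoint U T := hcompl.disjoint
  let f : ↥U → ↥U := fun v => ⟨t⁻¹ * (v.1 * t * v.1⁻¹), by
    rw [show t⁻¹ * (v.1 * t * v.1⁻¹) = (t⁻¹ * v.1 * t) * v.1⁻¹ by group]
    refine mul_mem ?_ (inv_mem v.2)
    simpa using ‹U.Normal›.conj_mem v.1 v.2 t⁻¹⟩
  have hinj : Function.Injective f := by
    intro v w h
    have h' : t⁻¹ * (v.1 * t * v.1⁻¹) = t⁻¹ * (w.1 * t * w.1⁻¹) := congrArg Subtype.val h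
    have h'' := mul_left_cancel h'
    have hc : w.1⁻¹ * v.1 ∈ Subgroup.centralizer ({t} : Set B) := by
      rw [Subgroup.mem_centralizer_singleton_iff]
      calc w.1⁻¹ * v.1 * t = w.1⁻¹ * (v.1 * t * v.1⁻¹) * v.1 := by group
        _ = t * (w.1⁻¹ * v.1) := by rw [h'']; group
    rw [hreg] at hc
    have h1 := Subgroup.disjoint_def.mp hd (mul_mem (inv_mem w.2) v.2) hc
    exact Subtype.ext (inv_mul_eq_one.mp h1).symm
  obtain ⟨v, hv⟩ := (Finite.injective_iff_surjective.mp hinj) ⟨u, hu⟩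
  refine ⟨v.1, ?_⟩
  have hv' : t⁻¹ * (v.1 * t * v.1⁻¹) = u := congrArg Subtype.val hv
  rw [← hv']
  group

end Cfsg.Agent.S2521
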