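import Cfsg.Statements.S2522
import Cfsg.Agent.Lib.RegUnipProd.Matrix
-- import your own Cfsg.Agent.* helpers here

set_option autoImplicit false
open Cfsg

namespace Cfsg.Agent.S2522

open CfsgLib.RegUnipProd

/-- Let K be a field with at least four elements (finite or infinite), n ≥ 3, and J ∈ GL(n, K) the regular unipotent matrix (ones on the diagonal and the superdiagonal, zeros elsewhere). Then every non-scalar g ∈ GL(n, K) with det g = 1 is a product of two GL(n, K)-conjugates of J. -/
theorem result {K : Type*} [Field K] (hK : 4 ≤ Cardinal.mk K) (n : ℕ) (hn : 3 ≤ n) (J g : GL (Fin n) K)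
    (hJ : ∀ i j : Fin n, (J : Matrix (Fin n) (Fin n) K) i j = if i = j then 1 else if j.val = i.val + 1 then 1 else 0)
    (hg : ¬ ∃ c : K, (g : Matrix (Fin n) (Fin n) K) = c • (1 : Matrix (Fin n) (Fin n) K))
    (hdet : (g : Matrix (Fin n) (Fin n) K).det = 1) :
    ∃ x y : GL (Fin n) K, g = (x * J * x⁻¹) * (y * J * y⁻¹) := by
    obtain ⟨e⟩ : Nonempty (ULift (Fin 4) ↪ K) := (Cardinal.le_def _ _).mp (by simpa using hK)
    have h4 : ∃ k : Fin 4 → K, Function.Injective k :=
      ⟨fun i => e ⟨i⟩, fun a b h => congrArg ULift.down (e.injective h)⟩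
    have hJ' : (J : Matrix (Fin n) (Fin n) K) = 1 + shiftUp := by
      ext i j
      rw [hJ, Matrix.add_apply, Matrix.one_apply]
      rcases eq_or_ne i j with rfl | hij
      · simp [shiftUp]
      · simp [shiftUp, hij]
    obtain ⟨x, y, hxy⟩ := exists_two_regular h4 hn (g : Matrix (Fin n) (Fin n) K) hg hdet
    refine ⟨x, y, Units.ext ?_⟩
    simp only [Units.val_mul, hJ']
    exact hxy

end Cfsg.Agent.S2522
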