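import Cfsg.Statements.S2524
import Cfsg.Agent.Lib.SympWeil.Class.Count

set_option autoImplicit false
open Cfsg

namespace Cfsg.Agent.S2524

open CfsgLib.SympWeil Module in
/-- The two characters of one degree, and the gap. -/
theorem main {F : Type*} [Field F] [Fintype F] [DecidableEq F] (h2 : (2 : F) ≠ 0) (n : ℕ) (hn : 2 ≤ n)
    (ε : ℂ) (hε : ε = 1 ∨ ε = -1) :
    Nat.card {χ : Cfsg.IrrCharacter ↥(Matrix.symplecticGroup (Fin n) F) //
      2 * (χ : ↥(Matrix.symplecticGroup (Fin n) F) → ℂ) 1 = (Fintype.card F : ℂ) ^ n + ε} = 2 := by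
  classical
  have hF : ringChar F ≠ 2 := fun h => h2 (by haveI := ringChar.of_eq h; exact CharTwo.two_eq_zero)
  obtain ⟨ν, hν⟩ := FiniteField.exists_nonsquare hF
  have hν0 : ν ≠ 0 := fun h => hν (h ▸ ⟨0, by ring⟩)
  have hq : 3 ≤ Fintype.card F := by
    have := Fintype.one_lt_card (α := F)
    by_contra h
    have h' : Fintype.card F = 2 := by omega
    refine h2 ?_
    have := FiniteField.cast_card_eq_zero F
    rw [h'] at this
    exact_mod_cast this
  have hpow : Fintype.card F * Fintype.card F ≤ Fintype.card F ^ n := by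
    rw [← pow_two]; exact Nat.pow_le_pow_right (by omega) hn
  have hdat : ∀ (d : ℕ) (ρ : Representation ℂ (Matrix.symplecticGroup (Fin n) F) (Fin d → ℂ)), ρ.IsIrreducible →
      (2 : ℂ) * (d : ℂ) = (Fintype.card F : ℂ) ^ n + ε → ∃ D : Dat ρ, (D.c = 1 ∨ D.c = ν) ∧ D.ε = ε := by
    intro d ρ hirr hd
    have hle : 2 * d ≤ Fintype.card F ^ n + 1 ∧ Fintype.card F ^ n ≤ 2 * d + 1 := by
      rcases hε with rfl | rfl
      · have : ((2 * d : ℕ) : ℂ) = ((Fintype.card F ^ n + 1 : ℕ) : ℂ) := by push_cast; linear_combination hd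
        have := Nat.cast_injective this
        omega
      · have : ((2 * d + 1 : ℕ) : ℂ) = ((Fintype.card F ^ n : ℕ) : ℂ) := by push_cast; linear_combination hd
        have := Nat.cast_injective this
        omega
    have hfd : finrank ℂ (Fin d → ℂ) = d := by rw [Module.finrank_fintype_fun_eq_card, Fintype.card_fin]
    have hlow : LowRep ρ := by
      by_contra h
      have hb := dim_of_not_low ρ h2 hn h
      rw [hfd] at hb
      have hs : ∀ N q : ℕ, 3 ≤ q → q * q ≤ N → 2 * d ≤ N + 1 → (N - 1) * (N - q) ≤ 2 * (q + 1) * d → False := by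
        intro N q hq hN hd hb
        obtain ⟨a, rfl⟩ : ∃ a, N = q + q + 3 + a := ⟨N - (q + q + 3), by
          have : q + q + 3 ≤ q * q := by nlinarith
          omega⟩
        rw [show q + q + 3 + a - 1 = q + q + 2 + a by omega, show q + q + 3 + a - q = q + 3 + a by omega] at hb
        nlinarith
      exact hs _ _ hq hpow hle.1 hb
    obtain ⟨D, hD⟩ := exists_dat ρ h2 hn hlow hirr (by
      rw [hfd]
      intro h
      have : 9 ≤ Fintype.card F ^ n := le_trans (by nlinarith) hpow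
      omega) hν
    refine ⟨D, hD, ?_⟩
    have := D.isModel.finrank_eq h2
    rw [hfd] at this
    linear_combination hd - this
  obtain ⟨d, ρ, hirr, hd⟩ := exists_weilP (F := F) h2 hn hε
  let ρ' : Representation ℂ (Matrix.symplecticGroup (Fin n) F) (Fin d → ℂ) := ρ.comp (twist (Units.mk0 ν hν0))
  have hirr' : ρ'.IsIrreducible := twist_irr ρ hirr _
  obtain ⟨D, hD, hDε⟩ := hdat d ρ hirr hd
  obtain ⟨D', hD', hDε'⟩ := hdat d ρ' hirr' hd
  have hocc' : Occurs ρ' (rk1 (D.c * ν) (Pi.single D.i₀ 1)) := fun h0 => D.hv0 (by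
    have he : Eigv ρ' (rk1 (D.c * ν) (Pi.single D.i₀ 1)) D.v0 := fun S => by
      show ρ (twist (Units.mk0 ν hν0) (sieg S)) D.v0 = _
      rw [twist_sieg, D.hv, map_smul, Units.val_mk0, rk1_apply, rk1_apply, smul_eq_mul]
      congr 2
      ring
    have := pr_self ρ' he
    rw [h0, LinearMap.zero_apply] at this
    exact this.symm)
  have hne : ρ.character ≠ ρ'.character := fun h => by
    obtain ⟨z, hz⟩ := D.occurs_label (occurs_of_char h.symm hocc')
    obtain ⟨r, hr, e, -⟩ := rk1_eq h2 (mul_ne_zero D.hc hν0) (fun h0 => by simpa using congrFun h0 D.i₀) hz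
    exact hν ⟨r, by rw [mul_left_cancel₀ D.hc e, pow_two]⟩
  have hchar : ∀ (k : ℕ) (σ : Representation ℂ (Matrix.symplecticGroup (Fin n) F) (Fin k → ℂ)),
      σ.character 1 = (k : ℂ) := fun k σ => by
    rw [Representation.char_one, Module.finrank_fintype_fun_eq_card, Fintype.card_fin]
  have hc' : ρ'.character 1 = (d : ℂ) := hchar d ρ'
  rw [Nat.card_eq_two_iff]
  refine ⟨⟨⟨ρ.character, d, ρ, hirr, rfl⟩, by show 2 * ρ.character 1 = _; rw [hchar]; exact hd⟩,
    ⟨⟨ρ'.character, d, ρ', hirr', rfl⟩, by show 2 * ρ'.character 1 = _; rw [hc']; exact hd⟩,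
    fun h => hne (congrArg (fun x => (x.1 : ↥(Matrix.symplecticGroup (Fin n) F) → ℂ)) h), ?_⟩
  refine Set.eq_univ_of_forall fun χ => ?_
  obtain ⟨⟨χ, k, σ, hσ, rfl⟩, hk⟩ := χ
  have hk' : (2 : ℂ) * (k : ℂ) = (Fintype.card F : ℂ) ^ n + ε := by rw [← hchar k σ]; exact hk
  obtain ⟨E, hE, hEε⟩ := hdat k σ hσ hk'
  have same : ∀ {p : ℕ} {τ : Representation ℂ (Matrix.symplecticGroup (Fin n) F) (Fin p → ℂ)} (T : Dat τ),
      T.c = E.c → T.ε = ε → σ.character = τ.character := fun {p τ} T hc hT => by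
    have M := E.isModel
    have M' := T.isModel
    rw [hc, hT] at M'
    rw [hEε] at M
    exact M.character_eq M' E.i₀
  have hcc : D.c ≠ D'.c := fun h => hne (by
    have M := D.isModel
    have M' := D'.isModel
    rw [← h, hDε'] at M'
    rw [hDε] at M
    exact M.character_eq M' D.i₀)
  by_cases h : D.c = E.c
  · exact Or.inl (Subtype.ext (Subtype.ext (same D h hDε)))
  · refine Or.inr (Subtype.ext (Subtype.ext (same D' ?_ hDε')))
    rcases hD with a | a <;> rcases hD' with b | b <;> rcases hE with e | e <;> simp_all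

/-- Let F be a finite field of odd order q and G = Sp(2n, F) with n ≥ 2. Then G has exactly four irreducible complex characters of degree (q^n + 1)/2 or (q^n − 1)/2 (two of each), and every other non-principal irreducible character has degree at least (q^n − 1)(q^n − q)/(2(q + 1)). -/
theorem result {F : Type*} [Field F] [Fintype F] (hodd : Odd (Fintype.card F)) (n : ℕ) (hn : 2 ≤ n) :
    Nat.card {χ : Cfsg.IrrCharacter ↥(Matrix.symplecticGroup (Fin n) F) // (χ : ↥(Matrix.symplecticGroup (Fin n) F) → ℂ) 1 = (((Fintype.card F) ^ n + 1 : ℕ) : ℂ) / 2} = 2 ∧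
    Nat.card {χ : Cfsg.IrrCharacter ↥(Matrix.symplecticGroup (Fin n) F) // (χ : ↥(Matrix.symplecticGroup (Fin n) F) → ℂ) 1 = (((Fintype.card F) ^ n - 1 : ℕ) : ℂ) / 2} = 2 ∧
    ∀ χ : Cfsg.IrrCharacter ↥(Matrix.symplecticGroup (Fin n) F),
      (χ : ↥(Matrix.symplecticGroup (Fin n) F) → ℂ) 1 ≠ 1 →
      (χ : ↥(Matrix.symplecticGroup (Fin n) F) → ℂ) 1 ≠ (((Fintype.card F) ^ n + 1 : ℕ) : ℂ) / 2 →
      (χ : ↥(Matrix.symplecticGroup (Fin n) F) → ℂ) 1 ≠ (((Fintype.card F) ^ n - 1 : ℕ) : ℂ) / 2 →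
      (((Fintype.card F) ^ n - 1 : ℕ) : ℝ) * (((Fintype.card F) ^ n - Fintype.card F : ℕ) : ℝ) / (2 * ((Fintype.card F : ℕ) + 1 : ℝ)) ≤ ‖(χ : ↥(Matrix.symplecticGroup (Fin n) F) → ℂ) 1‖ := by
  classical
  haveI : DecidableEq F := Classical.decEq F
  have h2 : (2 : F) ≠ 0 := Ring.two_ne_zero fun h => by
    have := FiniteField.even_card_iff_char_two.1 h
    rw [Nat.odd_iff] at hodd
    omega
  have h1 : 1 ≤ Fintype.card F ^ n := Nat.one_le_pow _ _ Fintype.card_pos
  have hm : ∀ ε : ℂ, (ε = 1 ∨ ε = -1) → ∀ a : ℂ, a = (Fintype.card F : ℂ) ^ n + ε →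
      Nat.card {χ : Cfsg.IrrCharacter ↥(Matrix.symplecticGroup (Fin n) F) //
        (χ : ↥(Matrix.symplecticGroup (Fin n) F) → ℂ) 1 = a / 2} = 2 := by
    intro ε hε a ha
    refine (Nat.card_congr (Equiv.subtypeEquivRight fun χ => ?_)).trans (main h2 n hn ε hε)
    rw [eq_div_iff (two_ne_zero' ℂ), ha, mul_comm]
  refine ⟨hm 1 (Or.inl rfl) _ (by push_cast; ring), hm (-1) (Or.inr rfl) _ (by rw [Nat.cast_sub h1]; push_cast; ring),
    fun χ hne1 hp hmn => ?_⟩
  obtain ⟨χ, k, ρ, hρ, rfl⟩ := χ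
  have hfd : Module.finrank ℂ (Fin k → ℂ) = k := by rw [Module.finrank_fintype_fun_eq_card, Fintype.card_fin]
  have hk : ρ.character 1 = (k : ℂ) := by rw [Representation.char_one, hfd]
  simp only [hk] at hne1 hp hmn ⊢
  rw [Complex.norm_natCast]
  by_cases hlow : CfsgLib.SympWeil.LowRep ρ
  · exfalso
    obtain ⟨D, -⟩ := CfsgLib.SympWeil.exists_dat ρ h2 hn hlow hρ
      (fun h => hne1 (by rw [hfd] at h; rw [h]; norm_num))
      (FiniteField.exists_nonsquare (fun h => h2 (by haveI := ringChar.of_eq h; exact CharTwo.two_eq_zero))).choose_spec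
    have := D.isModel.finrank_eq h2
    rw [hfd] at this
    rcases D.ε_cases with e | e <;> rw [e] at this
    · exact hp (by rw [eq_div_iff (two_ne_zero' ℂ)]; push_cast; linear_combination this)
    · exact hmn (by rw [eq_div_iff (two_ne_zero' ℂ), Nat.cast_sub h1]; push_cast; linear_combination this)
  · have hb := CfsgLib.SympWeil.dim_of_not_low ρ h2 hn hlow
    rw [hfd] at hb
    rw [div_le_iff₀ (by positivity)]
    have hb' : (((Fintype.card F ^ n - 1) * (Fintype.card F ^ n - Fintype.card F) : ℕ) : ℝ) ≤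
        ((2 * (Fintype.card F + 1) * k : ℕ) : ℝ) := by exact_mod_cast hb
    rw [Nat.cast_mul] at hb'
    push_cast at hb' ⊢
    linarith

end Cfsg.Agent.S2524
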