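import Cfsg.Statements.S2531

-- import your own Cfsg.Agent.* helpers here

set_option autoImplicit false
open Cfsg

namespace Cfsg.Agent.S2531

/-- Two basis vectors span the line `W`; its points are parametrised by `Option F`. -/
def lineVec {F : Type*} [Field F] {k : ℕ} (i1 : Fin (k + 1)) : Option F → (Fin (k + 1) → F)
  | none => Pi.single i1 1
  | some t => Pi.single 0 1 + t • Pi.single i1 1

theorem lineVec_ne {F : Type*} [Field F] {k : ℕ} {i1 : Fin (k + 1)} (h1 : i1 ≠ 0)
    (l : Option F) : lineVec i1 l ≠ 0 := by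
  intro h
  cases l with
  | none => have := congrFun h i1; simp [lineVec] at this
  | some t =>
    have := congrFun h 0
    simp [lineVec, h1.symm] at this

theorem lineVec_inj {F : Type*} [Field F] {k : ℕ} {i1 : Fin (k + 1)} (h1 : i1 ≠ 0)
    {l l' : Option F} {a : F} (h : a • lineVec i1 l' = lineVec i1 l) : l = l' := by
  have e0 := congrFun h 0
  have e1 := congrFun h i1
  cases l <;> cases l' <;> simp [lineVec, h1, h1.symm] at e0 e1 ⊢
  · rw [e0, zero_mul] at e1; exact zero_ne_one e1
  · rw [e0, one_mul] at e1; exact e1.symm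

/-- Vectors with first coordinate one in the semilinear preimage of a plane: none, or `q` of
them. -/
theorem card_dvd_preimage {F : Type*} [Field F] [Finite F] {k : ℕ} {i1 : Fin (k + 1)}
    (h1 : i1 ≠ 0) (σ : F ≃+* F)
    (f : (Fin (k + 1) → F) →ₛₗ[(σ : F →+* F)] (Fin (k + 1) → F))
    (hf : Function.Injective f) :
    Nat.card F ∣ Nat.card {v : Fin (k + 1) → F //
      v 0 = 1 ∧ ∀ j, j ≠ 0 → j ≠ i1 → f v j = 0} := by
  classical
  by_cases hne : Nonempty {v : Fin (k + 1) → F // v 0 = 1 ∧ ∀ j, j ≠ 0 → j ≠ i1 → f v j = 0}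
  swap
  · rw [Nat.card_eq_zero.2 (Or.inl (not_nonempty_iff.1 hne))]; exact dvd_zero _
  obtain ⟨v₁, hv₁, hfv₁⟩ := hne
  let W := {v : Fin (k + 1) → F // ∀ j, j ≠ 0 → j ≠ i1 → f v j = 0}
  let A := {v : Fin (k + 1) → F // v 0 = 1 ∧ ∀ j, j ≠ 0 → j ≠ i1 → f v j = 0}
  have hbij : Function.Bijective f := Finite.injective_iff_bijective.1 hf
  have hW : Nat.card W = Nat.card F * Nat.card F := by
    let e₁ : W ≃ {w : Fin (k + 1) → F // ∀ j, j ≠ 0 → j ≠ i1 → w j = 0} :=
      (Equiv.ofBijective f hbij).subtypeEquiv fun v => Iff.rfl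
    let e₂ : {w : Fin (k + 1) → F // ∀ j, j ≠ 0 → j ≠ i1 → w j = 0} ≃ F × F :=
      { toFun := fun w => (w.1 0, w.1 i1)
        invFun := fun p => ⟨p.1 • Pi.single 0 1 + p.2 • Pi.single i1 1, fun j hj hj' => by
          simp [hj, hj']⟩
        left_inv := fun w => by
          apply Subtype.ext
          funext j
          rcases eq_or_ne j 0 with rfl | hj
          · simp [h1.symm]
          · rcases eq_or_ne j i1 with rfl | hj'
            · simp [h1]
            · simp [hj, hj', w.2 j hj hj']
        right_inv := fun p => by simp [h1, h1.symm] }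
    rw [Nat.card_congr (e₁.trans e₂), Nat.card_prod]
  let e₃ : W ≃ F × A :=
    { toFun := fun w => (w.1 0, ⟨w.1 + (1 - w.1 0) • v₁, by simp [hv₁], fun j hj hj' => by
        simp [map_smulₛₗ, w.2 j hj hj', hfv₁ j hj hj']⟩)
      invFun := fun p => ⟨p.2.1 + (p.1 - 1) • v₁, fun j hj hj' => by
        simp [map_smulₛₗ, p.2.2.2 j hj hj', hfv₁ j hj hj']⟩
      left_inv := fun w => by
        apply Subtype.ext
        funext j
        simp only [Pi.add_apply, Pi.smul_apply, smul_eq_mul]
        ring
      right_inv := fun p => by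
        have h0 : (p.2.1 + (p.1 - 1) • v₁) 0 = p.1 := by simp [hv₁, p.2.2.1]
        refine Prod.ext h0 (Subtype.ext ?_)
        funext j
        simp only [Pi.add_apply, Pi.smul_apply, smul_eq_mul, hv₁, p.2.2.1]
        ring }
  rw [Nat.card_congr e₃, Nat.card_prod] at hW
  have : Nat.card A = Nat.card F := Nat.eq_of_mul_eq_mul_left Nat.card_pos hW
  exact this ▸ dvd_rfl

/-- Let `F` be a finite field and `n ≥ 3`. No set of permutations of the points of the projective space of `Fⁿ`, each induced by an invertible semilinear transformation of `Fⁿ` (so a subset of the full projective semilinear group), is sharply 2-transitive on the points: it is impossible that for all pairs of distinct points `(a, b)` and `(c, d)` exactly one member of the set sends `a` to `c` and `b` to `d`. -/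
theorem result {F : Type*} [Field F] [Finite F]
    (n : ℕ) (hn : 3 ≤ n) (S : Set (Equiv.Perm (Projectivization F (Fin n → F))))
    (hS : ∀ s ∈ S, ∃ (σ : F ≃+* F) (f : (Fin n → F) →ₛₗ[(σ : F →+* F)] (Fin n → F)) (hf : Function.Injective f),
      ∀ x, s x = Projectivization.map f hf x) :
    ¬ (∀ a b c d : Projectivization F (Fin n → F), a ≠ b → c ≠ d →
        ∃! s, s ∈ S ∧ s a = c ∧ s b = d) := by
  classical
  obtain ⟨k, rfl⟩ : ∃ k, n = k + 1 := ⟨n - 1, by omega⟩
  intro hsharp
  let i1 : Fin (k + 1) := ⟨1, by omega⟩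
  let i2 : Fin (k + 1) := ⟨2, by omega⟩
  have h1 : i1 ≠ 0 := by simp [i1, Fin.ext_iff]
  have h2 : i2 ≠ 0 := by simp [i2, Fin.ext_iff]
  have h12 : i2 ≠ i1 := by simp [i1, i2, Fin.ext_iff]
  have hs0 : ∀ i : Fin (k + 1), (Pi.single i 1 : Fin (k + 1) → F) ≠ 0 := fun i h => by
    simpa using congrFun h i
  let a : Projectivization F (Fin (k + 1) → F) := Projectivization.mk F _ (hs0 0)
  let z : Projectivization F (Fin (k + 1) → F) := Projectivization.mk F _ (hs0 i2)
  let L : Option F → Projectivization F (Fin (k + 1) → F) := fun l =>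
    Projectivization.mk F _ (lineVec_ne h1 l)
  have hLz : ∀ l, L l ≠ z := by
    intro l h
    obtain ⟨c, hc⟩ := (Projectivization.mk_eq_mk_iff' F _ _ _ _).1 h
    cases l with
    | none => have := congrFun hc i1; simp [lineVec, h12.symm] at this
    | some t => have := congrFun hc 0; simp [lineVec, h1.symm, h2.symm] at this
  have hne : ∀ v : Fin (k + 1) → F, v 0 = 1 → v ≠ 0 := fun v hv h => by simp [h] at hv
  let P := {v : Fin (k + 1) → F // v 0 = 1 ∧ v ≠ Pi.single 0 1}
  let pt : P → Projectivization F (Fin (k + 1) → F) := fun v =>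
    Projectivization.mk F v.1 (hne _ v.2.1)
  have hpt : ∀ v, a ≠ pt v := by
    intro v h
    obtain ⟨c, hc⟩ := (Projectivization.mk_eq_mk_iff' F _ _ _ _).1 h
    have h0 := congrFun hc 0
    simp [v.2.1] at h0
    exact v.2.2 (by simpa [h0] using hc)
  let S₀ := {s : Equiv.Perm (Projectivization F (Fin (k + 1) → F)) // s ∈ S ∧ s a = z}
  let A : S₀ → Type _ := fun s => {v : P // ∃ l, s.1 (pt v) = L l}
  choose g hg hguniq using fun x : Option F × P =>
    hsharp a (pt x.2) z (L x.1) (hpt x.2) (hLz x.1).symm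
  let Φ : Option F × P → Σ s : S₀, A s := fun x =>
    ⟨⟨g x, (hg x).1, (hg x).2.1⟩, ⟨x.2, x.1, (hg x).2.2⟩⟩
  have hΦ : Function.Bijective Φ := by
    constructor
    · intro x y h
      have hs : g x = g y := congrArg (fun u : Σ s : S₀, A s => u.1.1) h
      have hv : x.2 = y.2 := congrArg (fun u : Σ s : S₀, A s => u.2.1) h
      refine Prod.ext ?_ hv
      have hx := (hg x).2.2
      rw [hs, hv, (hg y).2.2] at hx
      obtain ⟨c, hc⟩ := (Projectivization.mk_eq_mk_iff' F _ _ _ _).1 hx
      exact (lineVec_inj h1 hc).symm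
    · rintro ⟨⟨s, hsS, hsa⟩, v, l, hl⟩
      refine ⟨(l, v), ?_⟩
      have hgs : s = g (l, v) := hguniq (l, v) s ⟨hsS, hsa, hl⟩
      subst hgs
      rfl
  have hdvdA : ∀ s : S₀, Nat.card F ∣ Nat.card (A s) := by
    rintro ⟨s, hsS, hsa⟩
    obtain ⟨σ, f, hf, hsf⟩ := hS s hsS
    have hfne : ∀ v, v ≠ 0 → f v ≠ 0 := fun v hv h => hv (hf (by rw [h, map_zero]))
    have key : ∀ v : Fin (k + 1) → F, ∀ hv : v ≠ 0,
        (∃ l, s (Projectivization.mk F v hv) = L l) ↔ ∀ j, j ≠ 0 → j ≠ i1 → f v j = 0 := by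
      intro v hv
      rw [hsf, Projectivization.map_mk]
      constructor
      · rintro ⟨l, hl⟩ j hj hj'
        obtain ⟨c, hc⟩ := (Projectivization.mk_eq_mk_iff' F _ _ _ _).1 hl
        rw [← hc]
        cases l <;> simp [lineVec, hj, hj']
      · intro h
        rcases eq_or_ne (f v 0) 0 with h0 | h0
        · refine ⟨none, (Projectivization.mk_eq_mk_iff' F _ _ _ _).2 ⟨f v i1, ?_⟩⟩
          funext j
          rcases eq_or_ne j 0 with rfl | hj
          · simp [lineVec, h1.symm, h0]
          · rcases eq_or_ne j i1 with rfl | hj'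
            · simp [lineVec]
            · simp [lineVec, hj', h j hj hj']
        · refine ⟨some (f v i1 / f v 0),
            (Projectivization.mk_eq_mk_iff' F _ _ _ _).2 ⟨f v 0, ?_⟩⟩
          funext j
          rcases eq_or_ne j 0 with rfl | hj
          · simp [lineVec, h1.symm]
          · rcases eq_or_ne j i1 with rfl | hj'
            · simp [lineVec, h1]; field_simp
            · simp [lineVec, hj, hj', h j hj hj']
    refine (card_dvd_preimage h1 σ f hf).trans (dvd_of_eq ?_)
    refine Nat.card_congr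
      { toFun := fun v => ⟨⟨v.1, v.2.1, ?_⟩, (key _ (hne _ v.2.1)).2 v.2.2⟩
        invFun := fun v => ⟨v.1.1, v.1.2.1, (key _ (hne _ v.1.2.1)).1 v.2⟩
        left_inv := fun v => rfl
        right_inv := fun v => rfl }
    intro h
    obtain ⟨l, hl⟩ := (key _ (hne _ v.2.1)).2 v.2.2
    apply hLz l
    rw [← hl, ← hsa]
    exact congrArg s (by simp only [a]; congr 1)
  haveI : Fintype S₀ := Fintype.ofFinite _
  haveI : ∀ s, Finite (A s) := fun s => Subtype.finite
  have hdvd : Nat.card F ∣ Nat.card (Option F) * Nat.card P := by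
    rw [← Nat.card_prod, Nat.card_congr (Equiv.ofBijective Φ hΦ), Nat.card_sigma]
    exact Finset.dvd_sum fun s _ => hdvdA s
  have hP : Nat.card P + 1 = Nat.card F ^ k := by
    let e : {v : Fin (k + 1) → F // v 0 = 1} ≃ (Fin k → F) :=
      { toFun := fun v => Fin.tail v.1
        invFun := fun w => ⟨Fin.cons 1 w, by simp⟩
        left_inv := fun v => Subtype.ext (by
          conv_rhs => rw [← Fin.cons_self_tail v.1, v.2])
        right_inv := fun w => Fin.tail_cons _ _ }
    let e' : P ≃ {w : {v : Fin (k + 1) → F // v 0 = 1} //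
        w ≠ ⟨Pi.single 0 1, by simp⟩} :=
      { toFun := fun v => ⟨⟨v.1, v.2.1⟩, fun h => v.2.2 (congrArg Subtype.val h)⟩
        invFun := fun w => ⟨w.1.1, w.1.2, fun h => w.2 (Subtype.ext h)⟩
        left_inv := fun v => rfl
        right_inv := fun w => rfl }
    have : Fintype F := Fintype.ofFinite F
    haveI : Nonempty {v : Fin (k + 1) → F // v 0 = 1} := ⟨⟨Pi.single 0 1, by simp⟩⟩
    rw [Nat.card_congr e', Nat.card_eq_fintype_card, Fintype.card_subtype_compl,
      Fintype.card_subtype_eq, Nat.sub_add_cancel Fintype.card_pos, ← Nat.card_eq_fintype_card,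
      Nat.card_congr e, Nat.card_fun, Nat.card_fin]
  rw [Finite.card_option] at hdvd
  have hco : Nat.Coprime (Nat.card F) (Nat.card F + 1) := by simp
  have hd2 : Nat.card F ∣ Nat.card P := hco.dvd_of_dvd_mul_left hdvd
  have hd3 : Nat.card F ∣ Nat.card P + 1 := hP ▸ dvd_pow_self _ (by omega)
  have := Nat.dvd_one.1 ((Nat.dvd_add_right hd2).1 hd3)
  have := Finite.one_lt_card (α := F)
  omega

end Cfsg.Agent.S2531
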