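import Cfsg.Statements.S2532
-- import your own Cfsg.Agent.* helpers here

set_option autoImplicit false
open Cfsg

namespace Cfsg.Agent.S2532

/-- A finite group acting on a large set commutes with a copy of `Perm (Fin r)` whose sign is a
power of the sign. -/
theorem exists_commuting_perms {H : Type*} [Group H] [Finite H] {α : Type*} [Fintype α]
    [DecidableEq α] (ρ : H →* Equiv.Perm α) (r : ℕ)
    (hm : Nat.card H * (2 ^ Nat.card H * r) ≤ Fintype.card α) :
    ∃ ψ : Equiv.Perm (Fin r) →* Equiv.Perm α, Function.Injective ψ ∧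
      (∀ σ h, ψ σ * ρ h = ρ h * ψ σ) ∧
      ∀ σ, Equiv.Perm.sign σ = 1 → Equiv.Perm.sign (ψ σ) = 1 := by
  classical
  have := Fintype.ofFinite H
  letI : MulAction H α := MulAction.compHom α ρ
  let Ω := MulAction.orbitRel.Quotient H α
  let x : Ω → α := fun ω => Quotient.out ω
  have hΩ : 2 ^ Nat.card H * r ≤ Fintype.card Ω := by
    have hle : Fintype.card α ≤ Fintype.card (H × Ω) := by
      refine Fintype.card_le_of_surjective (fun p => p.1 • x p.2) fun a => ?_
      obtain ⟨h, hh⟩ := Quotient.exact (Quotient.out_eq (Quotient.mk (MulAction.orbitRel H α) a)).symm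
      exact ⟨(h, Quotient.mk _ a), hh⟩
    rw [Fintype.card_prod, ← Nat.card_eq_fintype_card (α := H)] at hle
    exact Nat.le_of_mul_le_mul_left (hm.trans hle) Nat.card_pos
  have hsub : Fintype.card (Subgroup H) ≤ 2 ^ Nat.card H := by
    have := Fintype.card_le_of_injective (fun S : Subgroup H => (S : Set H).toFinset)
      (fun S T h => SetLike.coe_injective (by simpa using h))
    rwa [Fintype.card_finset, ← Nat.card_eq_fintype_card (α := H)] at this
  obtain ⟨S, hS⟩ := Fintype.exists_le_card_fiber_of_mul_le_card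
    (fun ω => MulAction.stabilizer H (x ω)) ((Nat.mul_le_mul_right r hsub).trans hΩ)
  have hcard : Fintype.card (Fin r) ≤
      Fintype.card {ω // MulAction.stabilizer H (x ω) = S} := by
    rw [Fintype.card_fin, Fintype.card_subtype]; exact hS
  obtain ⟨emb⟩ := Function.Embedding.nonempty_of_card_le hcard
  have hstab : ∀ i (h : H), h ∈ S ↔ h • x (emb i).1 = x (emb i).1 := fun i h =>
    (SetLike.ext_iff.mp (emb i).2 h).symm.trans MulAction.mem_stabilizer_iff
  let e : Fin r × (H ⧸ S) ↪ α :=
    ⟨fun p => Quotient.liftOn' p.2 (fun h => h • x (emb p.1).1) fun a b hab => by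
      have := (hstab p.1 _).mp (QuotientGroup.leftRel_apply.mp hab)
      rw [mul_smul, inv_smul_eq_iff] at this
      exact this.symm, by
      rintro ⟨i, q⟩ ⟨j, q'⟩
      induction q using QuotientGroup.induction_on with | H a => ?_
      induction q' using QuotientGroup.induction_on with | H b => ?_
      intro hab
      have hab' : a • x (emb i).1 = b • x (emb j).1 := hab
      have hij : i = j := by
        refine emb.injective (Subtype.ext ?_)
        rw [← Quotient.out_eq (emb i).1, ← Quotient.out_eq (emb j).1]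
        refine Quotient.sound ⟨a⁻¹ * b, ?_⟩
        show (a⁻¹ * b) • x (emb j).1 = x (emb i).1
        rw [mul_smul, ← hab', inv_smul_smul]
      subst hij
      refine Prod.ext rfl (QuotientGroup.eq.mpr ((hstab i _).mpr ?_))
      rw [mul_smul, ← hab', inv_smul_smul]⟩
  have he : ∀ i (a : H), e (i, (a : H ⧸ S)) = a • x (emb i).1 := fun i a => rfl
  let pc : Equiv.Perm (Fin r) →* Equiv.Perm (Fin r × (H ⧸ S)) :=
    MonoidHom.mk' (fun σ => Equiv.prodCongrLeft fun _ => σ) fun σ τ => Equiv.ext fun _ => rfl
  refine ⟨(Equiv.Perm.viaEmbeddingHom e).comp pc,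
    (Equiv.Perm.viaEmbeddingHom_injective e).comp fun σ τ h => Equiv.ext fun i => ?_,
    fun σ h => Equiv.ext fun a => ?_, fun σ hσ => ?_⟩
  · have := congrArg Prod.fst (congrFun (congrArg DFunLike.coe h) (i, ((1 : H) : H ⧸ S)))
    exact this
  · show (Equiv.Perm.viaEmbedding (pc σ) e) (h • a) = h • (Equiv.Perm.viaEmbedding (pc σ) e) a
    by_cases ha : a ∈ Set.range e
    · obtain ⟨⟨i, q⟩, rfl⟩ := ha
      induction q using QuotientGroup.induction_on with | H b => ?_
      rw [show h • e (i, (b : H ⧸ S)) = e (i, ((h * b : H) : H ⧸ S)) by rw [he, he, mul_smul],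
        Equiv.Perm.viaEmbedding_apply, Equiv.Perm.viaEmbedding_apply]
      show e (σ i, ((h * b : H) : H ⧸ S)) = h • e (σ i, (b : H ⧸ S))
      rw [he, he, mul_smul]
    · have ha' : h • a ∉ Set.range e := by
        rintro ⟨⟨i, q⟩, hq⟩
        induction q using QuotientGroup.induction_on with | H b => ?_
        exact ha ⟨(i, ((h⁻¹ * b : H) : H ⧸ S)), by rw [he, mul_smul, ← he, hq, inv_smul_smul]⟩
      rw [Equiv.Perm.viaEmbedding_apply_of_notMem _ _ _ ha',
        Equiv.Perm.viaEmbedding_apply_of_notMem _ _ _ ha]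
  · show Equiv.Perm.sign (Equiv.Perm.viaEmbedding (pc σ) e) = 1
    unfold Equiv.Perm.viaEmbedding
    rw [Equiv.Perm.sign_extendDomain]
    show Equiv.Perm.sign (Equiv.prodCongrLeft fun _ : H ⧸ S => σ) = 1
    rw [Equiv.Perm.sign_prodCongrLeft, Finset.prod_eq_one fun _ _ => hσ]

/-- There is a function `f` of two natural-number arguments such that, whenever `m ≥ f(n, r)`, every subgroup of order `n` of the alternating group of degree `m` centralizes some subgroup of that alternating group isomorphic to the alternating group of degree `r`. -/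
theorem result :
    ∃ f : ℕ → ℕ → ℕ, ∀ (m r : ℕ) (H : Subgroup ↥(alternatingGroup (Fin m))), f (Nat.card H) r ≤ m →
      ∃ K : Subgroup ↥(alternatingGroup (Fin m)), Nonempty (↥K ≃* ↥(alternatingGroup (Fin r))) ∧
        K ≤ Subgroup.centralizer (H : Set ↥(alternatingGroup (Fin m))) := by
  refine ⟨fun n r => n * (2 ^ n * r), fun m r H hm => ?_⟩
  obtain ⟨ψ, hinj, hcomm, hsign⟩ := exists_commuting_perms
    ((alternatingGroup (Fin m)).subtype.comp H.subtype) r (by rwa [Fintype.card_fin])
  let φ : ↥(alternatingGroup (Fin r)) →* ↥(alternatingGroup (Fin m)) :=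
    (ψ.comp (alternatingGroup (Fin r)).subtype).codRestrict _ fun σ =>
      Equiv.Perm.mem_alternatingGroup.mpr (hsign _ (Equiv.Perm.mem_alternatingGroup.mp σ.2))
  refine ⟨φ.range, ⟨(MonoidHom.ofInjective (f := φ) fun a b h =>
    Subtype.ext (hinj (congrArg Subtype.val h))).symm⟩, ?_⟩
  rintro _ ⟨σ, rfl⟩
  rw [Subgroup.mem_centralizer_iff]
  exact fun h hh => Subtype.ext (hcomm _ ⟨h, hh⟩).symm

end Cfsg.Agent.S2532
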