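import Cfsg.Statements.S2533
-- import your own Cfsg.Agent.* helpers here

set_option autoImplicit false
open Cfsg

namespace Cfsg.Agent.S2533

open Matrix

section

variable (p : ℕ) [Fact p.Prime]

private def negAut : MulAut (Multiplicative (Fin 3 → ZMod p)) := MulEquiv.inv _

private def twoHom {M : Type*} [Monoid M] (s : M) (hs : s * s = 1) : Multiplicative (ZMod 2) →* M where
  toFun x := if x = 1 then 1 else s
  map_one' := by simp
  map_mul' := by
    intro x y
    have hall : ∀ x : Multiplicative (ZMod 2), x = 1 ∨ x = Multiplicative.ofAdd 1 := by decide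
    have hne : (Multiplicative.ofAdd (1 : ZMod 2)) ≠ 1 := by decide
    have h2 : Multiplicative.ofAdd (1 : ZMod 2) * Multiplicative.ofAdd 1 = 1 := by decide
    rcases hall x with rfl | rfl <;> rcases hall y with rfl | rfl <;> simp [hne, h2, hs]

private def actHom : Multiplicative (ZMod 2) →* MulAut (Multiplicative (Fin 3 → ZMod p)) :=
  twoHom (negAut p) (by ext x; simp [negAut])

private abbrev HGrp := Multiplicative (Fin 3 → ZMod p) ⋊[actHom p] Multiplicative (ZMod 2)

variable (k : ℕ)

private def lowBlock (u : Fin 3 → ZMod p) : Matrix (Fin (k + 1)) (Fin k) (ZMod p) :=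
  Matrix.of fun i j => (if (i : ℕ) = j then u 0 else 0) + (if (i : ℕ) = j + 1 then u 1 else 0) +
    (if (i : ℕ) = 2 ∧ (j : ℕ) = 0 then u 2 else 0)

private def vMat (u : Fin 3 → ZMod p) :
    Matrix (Fin k ⊕ Fin (k + 1)) (Fin k ⊕ Fin (k + 1)) (ZMod p) :=
  fromBlocks 1 0 (lowBlock p k u) 1

private theorem vMat_add (u v : Fin 3 → ZMod p) : vMat p k u * vMat p k v = vMat p k (u + v) := by
  simp only [vMat, fromBlocks_multiply, Matrix.one_mul, Matrix.mul_one, Matrix.zero_mul,
    Matrix.mul_zero, add_zero, zero_add]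
  congr 1
  ext i j
  simp only [lowBlock, Matrix.add_apply, Matrix.of_apply, Pi.add_apply]
  split_ifs <;> ring

private def vHom : Multiplicative (Fin 3 → ZMod p) →*
    Matrix.SpecialLinearGroup (Fin k ⊕ Fin (k + 1)) (ZMod p) where
  toFun u := ⟨vMat p k u.toAdd, by simp [vMat]⟩
  map_one' := by
    apply Subtype.ext
    show vMat p k 0 = 1
    rw [← fromBlocks_one]
    unfold vMat
    congr 1
    ext i j
    simp [lowBlock]
  map_mul' u v := Subtype.ext (vMat_add p k u.toAdd v.toAdd).symm

variable (hk : Even k)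

private def sElt : Matrix.SpecialLinearGroup (Fin k ⊕ Fin (k + 1)) (ZMod p) :=
  ⟨fromBlocks (-1) 0 0 1, by simp [det_neg, hk.neg_one_pow]⟩

private theorem sElt_sq : sElt p k hk * sElt p k hk = 1 := by
  apply Subtype.ext
  show fromBlocks (-1) 0 0 1 * fromBlocks (-1) 0 0 1 = (1 : Matrix _ _ (ZMod p))
  simp [fromBlocks_multiply]

private def embed : HGrp p →* Matrix.SpecialLinearGroup (Fin k ⊕ Fin (k + 1)) (ZMod p) :=
  SemidirectProduct.lift (vHom p k) (twoHom (sElt p k hk) (sElt_sq p k hk)) (by
    intro g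
    have hall : ∀ x : Multiplicative (ZMod 2), x = 1 ∨ x = Multiplicative.ofAdd 1 := by decide
    have hne : (Multiplicative.ofAdd (1 : ZMod 2)) ≠ 1 := by decide
    rcases hall g with rfl | rfl
    · ext u; simp
    · refine MonoidHom.ext fun u => ?_
      have h1 : (twoHom (sElt p k hk) (sElt_sq p k hk)) (Multiplicative.ofAdd 1) = sElt p k hk := by
        simp [twoHom, hne]
      have h2 : actHom p (Multiplicative.ofAdd 1) = negAut p := by simp [actHom, twoHom, hne]
      have h3 : (sElt p k hk)⁻¹ = sElt p k hk := inv_eq_of_mul_eq_one_right (sElt_sq p k hk)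
      simp only [MonoidHom.coe_comp, Function.comp_apply, MulEquiv.coe_toMonoidHom, h1, h2,
        MulAut.conj_apply, h3]
      apply Subtype.ext
      show vMat p k (-u.toAdd) = fromBlocks (-1) 0 0 1 * vMat p k u.toAdd * fromBlocks (-1) 0 0 1
      simp only [vMat, fromBlocks_multiply, Matrix.one_mul, Matrix.mul_one, Matrix.zero_mul,
        Matrix.mul_zero, add_zero, zero_add, Matrix.neg_mul, Matrix.mul_neg, neg_neg, neg_zero]
      congr 1
      ext i j
      simp only [lowBlock, Matrix.of_apply, Matrix.neg_apply, Pi.neg_apply]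
      split_ifs <;> ring)

private theorem two_ne_zero' (hp : p ≠ 2) : (2 : ZMod p) ≠ 0 := by
  intro h
  have h2 : ((2 : ℕ) : ZMod p) = 0 := by exact_mod_cast h
  rw [ZMod.natCast_eq_zero_iff] at h2
  exact hp ((Nat.prime_dvd_prime_iff_eq (Fact.out) Nat.prime_two).mp h2)

include hk in
private theorem embed_center (hp : p ≠ 2) (hk2 : 2 ≤ k) (x : HGrp p)
    (h : embed p k hk x ∈ Subgroup.center _) : x = 1 := by
  obtain ⟨r, -, hr⟩ := Matrix.SpecialLinearGroup.mem_center_iff.mp h
  obtain ⟨u, e⟩ := x
  have hall : ∀ x : Multiplicative (ZMod 2), x = 1 ∨ x = Multiplicative.ofAdd 1 := by decide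
  have hne : (Multiplicative.ofAdd (1 : ZMod 2)) ≠ 1 := by decide
  rcases hall e with rfl | rfl
  · have hv : (embed p k hk ⟨u, 1⟩).1 = vMat p k u.toAdd := by
      rw [show embed p k hk ⟨u, 1⟩ = vHom p k u * twoHom (sElt p k hk) (sElt_sq p k hk) 1 from rfl, map_one, mul_one]
      rfl
    rw [hv] at hr
    have e0 := congr_fun (congr_fun hr (Sum.inr ⟨0, by omega⟩)) (Sum.inl ⟨0, by omega⟩)
    have e1 := congr_fun (congr_fun hr (Sum.inr ⟨1, by omega⟩)) (Sum.inl ⟨0, by omega⟩)
    have e2 := congr_fun (congr_fun hr (Sum.inr ⟨2, by omega⟩)) (Sum.inl ⟨0, by omega⟩)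
    simp [vMat, lowBlock] at e0 e1 e2
    have hu : u = 1 := by
      apply Multiplicative.toAdd.injective
      funext i
      fin_cases i
      · simpa using e0.symm
      · simpa using e1.symm
      · simpa using e2.symm
    subst hu; rfl
  · exfalso
    have hv : (embed p k hk ⟨u, Multiplicative.ofAdd 1⟩).1 =
        vMat p k u.toAdd * fromBlocks (-1) 0 0 1 := by
      rw [show embed p k hk ⟨u, Multiplicative.ofAdd 1⟩ = vHom p k u *
        twoHom (sElt p k hk) (sElt_sq p k hk) (Multiplicative.ofAdd 1) from rfl,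
        show twoHom (sElt p k hk) (sElt_sq p k hk) (Multiplicative.ofAdd 1) = sElt p k hk by
          simp [twoHom, hne]]
      rfl
    rw [hv, vMat, fromBlocks_multiply] at hr
    have e0 := congr_fun (congr_fun hr (Sum.inl ⟨0, by omega⟩)) (Sum.inl ⟨0, by omega⟩)
    have e1 := congr_fun (congr_fun hr (Sum.inr ⟨0, by omega⟩)) (Sum.inr ⟨0, by omega⟩)
    simp at e0 e1
    rw [e1] at e0
    exact two_ne_zero' p hp (by linear_combination e0)

include hk in
private theorem embed_centralizer (hp : p ≠ 2) (hk2 : 2 ≤ k)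
    (g : Matrix.SpecialLinearGroup (Fin k ⊕ Fin (k + 1)) (ZMod p))
    (h : ∀ x, (embed p k hk x)⁻¹ * (g * embed p k hk x * g⁻¹) ∈ Subgroup.center _) :
    g ∈ Subgroup.center _ := by
  have hne : (Multiplicative.ofAdd (1 : ZMod 2)) ≠ 1 := by decide
  -- translations are centralised
  have hV : ∀ u, g * vHom p k u = vHom p k u * g := by
    intro u
    have hu := h ⟨u, 1⟩
    have he : embed p k hk ⟨u, 1⟩ = vHom p k u := by
      rw [show embed p k hk ⟨u, 1⟩ = vHom p k u * twoHom (sElt p k hk) (sElt_sq p k hk) 1 from rfl,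
        map_one, mul_one]
    rw [he] at hu
    set x := vHom p k u
    set z := x⁻¹ * (g * x * g⁻¹) with hz
    have hxp : x ^ p = 1 := by
      rw [← map_pow]
      convert (vHom p k).map_one
      apply Multiplicative.toAdd.injective
      simp [ZMod.natCast_self]
    have h1 : (x * z) ^ p = 1 := by
      rw [hz, mul_inv_cancel_left, conj_pow, hxp, mul_one, mul_inv_cancel]
    have hxz : Commute x z := Subgroup.mem_center_iff.mp hu x
    rw [hxz.mul_pow, hxp, one_mul] at h1
    obtain ⟨r, -, hr⟩ := Matrix.SpecialLinearGroup.mem_center_iff.mp hu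
    have h2 := congrArg (fun m : Matrix.SpecialLinearGroup (Fin k ⊕ Fin (k + 1)) (ZMod p) =>
      m.1 (Sum.inr 0) (Sum.inr 0)) h1
    simp only [Matrix.SpecialLinearGroup.coe_pow, ← hr, Matrix.scalar_apply, Matrix.diagonal_pow,
      Matrix.diagonal_apply_eq, Pi.pow_apply, ZMod.pow_card, Matrix.SpecialLinearGroup.coe_one,
      Matrix.one_apply_eq] at h2
    have hz1 : z = 1 := by
      apply Subtype.ext
      rw [Matrix.SpecialLinearGroup.coe_one, ← hr, h2]
      simp
    have h3 : x * z = g * x * g⁻¹ := by rw [hz, mul_inv_cancel_left]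
    rw [hz1, mul_one] at h3
    exact (eq_mul_inv_iff_mul_eq.mp h3).symm
  have hS := h ⟨1, Multiplicative.ofAdd 1⟩
  have he : embed p k hk ⟨1, Multiplicative.ofAdd 1⟩ = sElt p k hk := by
    rw [show embed p k hk ⟨1, Multiplicative.ofAdd 1⟩ = vHom p k 1 *
      twoHom (sElt p k hk) (sElt_sq p k hk) (Multiplicative.ofAdd 1) from rfl, map_one, one_mul]
    simp [twoHom, hne]
  rw [he] at hS
  obtain ⟨r, -, hr⟩ := Matrix.SpecialLinearGroup.mem_center_iff.mp hS
  set z := (sElt p k hk)⁻¹ * (g * sElt p k hk * g⁻¹) with hz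
  have hgs : g * sElt p k hk = sElt p k hk * z * g := by rw [hz]; group
  obtain ⟨X, Y, Z, W, hg⟩ : ∃ X Y Z W, g.1 = fromBlocks X Y Z W :=
    ⟨_, _, _, _, (fromBlocks_toBlocks g.1).symm⟩
  have hgs' : g.1 * (sElt p k hk).1 = (sElt p k hk).1 * z.1 * g.1 := by
    rw [← Matrix.SpecialLinearGroup.coe_mul, ← Matrix.SpecialLinearGroup.coe_mul,
      ← Matrix.SpecialLinearGroup.coe_mul, hgs]
  simp only [sElt, hg, ← hr, Matrix.scalar_apply] at hgs'
  rw [← smul_one_eq_diagonal, Matrix.mul_smul, Matrix.mul_one, Matrix.smul_mul,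
    fromBlocks_multiply, fromBlocks_multiply, fromBlocks_smul] at hgs'
  simp only [Matrix.zero_mul, Matrix.mul_zero, add_zero, zero_add, Matrix.mul_one, Matrix.one_mul,
    Matrix.mul_neg, Matrix.neg_mul, fromBlocks_inj] at hgs'
  obtain ⟨h11, h12, h21, h22⟩ := hgs'
  have hA : ∀ u, fromBlocks X Y Z W * vMat p k u = vMat p k u * fromBlocks X Y Z W := by
    intro u
    rw [← hg]
    exact congrArg Subtype.val (hV (Multiplicative.ofAdd u))
  have hA' : ∀ u, Y * lowBlock p k u = 0 ∧ W * lowBlock p k u + Z = Z + lowBlock p k u * X ∧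
      lowBlock p k u * Y = 0 := by
    intro u
    have := hA u
    simp only [vMat, fromBlocks_multiply, Matrix.zero_mul, Matrix.mul_zero, add_zero, zero_add,
      Matrix.mul_one, Matrix.one_mul, fromBlocks_inj] at this
    obtain ⟨a1, -, a2, a3⟩ := this
    refine ⟨by simpa using a1, ?_, ?_⟩
    · calc W * lowBlock p k u + Z = Z + W * lowBlock p k u := add_comm _ _
        _ = lowBlock p k u * X + Z := a2
        _ = Z + lowBlock p k u * X := add_comm _ _
    · simpa using a3
  -- `Y = 0`
  have hY : Y = 0 := by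
    obtain ⟨-, -, h0⟩ := hA' ![1, 0, 0]
    ext i j
    have := congr_fun (congr_fun h0 i.castSucc) j
    simpa [Matrix.mul_apply, lowBlock, Fin.val_inj] using this
  rcases eq_or_ne r 1 with rfl | hr1
  · have hZ : Z = 0 := by
      rw [one_smul] at h21
      ext i j
      have := congr_fun (congr_fun h21 i) j
      simp only [Matrix.neg_apply] at this
      have h2 : (2 : ZMod p) * Z i j = 0 := by linear_combination -this
      exact (mul_eq_zero.mp h2).resolve_left (two_ne_zero' p hp)
    obtain ⟨-, hWA, -⟩ := hA' ![1, 0, 0]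
    obtain ⟨-, hWB, -⟩ := hA' ![0, 1, 0]
    rw [hZ, add_zero, zero_add] at hWA hWB
    let w : ℕ → ℕ → ZMod p := fun a b =>
      if h : a < k + 1 ∧ b < k + 1 then W ⟨a, h.1⟩ ⟨b, h.2⟩ else 0
    have hWA' : ∀ (i : Fin (k + 1)) (j : Fin k),
        W i j.castSucc = if h : (i : ℕ) < k then X ⟨i, h⟩ j else 0 := by
      intro i j
      have := congr_fun (congr_fun hWA i) j
      simp [Matrix.mul_apply, lowBlock] at this
      rw [Finset.sum_eq_single j.castSucc (fun b _ hb => by
        simp [show (b : ℕ) ≠ (j : ℕ) from fun e => hb (Fin.ext e)]) (by simp)] at this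
      simp at this
      rw [this]
      split_ifs with h
      · rw [Finset.sum_eq_single ⟨i, h⟩ (fun b _ hb => by
          simp [show (i : ℕ) ≠ (b : ℕ) from fun e => hb (Fin.ext e.symm)]) (by simp)]
        simp
      · exact Finset.sum_eq_zero fun b _ => by simp [show (i : ℕ) ≠ (b : ℕ) from by omega]
    have hWB' : ∀ (i : Fin (k + 1)) (j : Fin k),
        W i j.succ = if h : 0 < (i : ℕ) then X ⟨i - 1, by omega⟩ j else 0 := by
      intro i j
      have := congr_fun (congr_fun hWB i) j
      simp [Matrix.mul_apply, lowBlock] at this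
      rw [Finset.sum_eq_single j.succ (fun b _ hb => by
        simp [show (b : ℕ) ≠ (j : ℕ) + 1 from fun e => hb (Fin.ext (by simp [e]))]) (by simp)] at this
      simp at this
      rw [this]
      split_ifs with h
      · rw [Finset.sum_eq_single ⟨i - 1, by omega⟩ (fun b _ hb => by
          rw [if_neg (fun e => hb (Fin.ext (show (b : ℕ) = (i : ℕ) - 1 by omega)))]) (by simp)]
        rw [if_pos (show (i : ℕ) = (i : ℕ) - 1 + 1 by omega)]
      · exact Finset.sum_eq_zero fun b _ => by simp [show (i : ℕ) ≠ (b : ℕ) + 1 from by omega]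
    have hdiag : ∀ a b, a < k → b < k → w (a + 1) (b + 1) = w a b := by
      intro a b ha hb
      have e1 := hWA' ⟨a, by omega⟩ ⟨b, hb⟩
      have e2 := hWB' ⟨a + 1, by omega⟩ ⟨b, hb⟩
      simp [ha] at e1 e2
      simp only [w]
      rw [dif_pos ⟨by omega, by omega⟩, dif_pos ⟨by omega, by omega⟩, e1, e2]
    have htop : ∀ b, b < k → w 0 (b + 1) = 0 := by
      intro b hb
      have e2 := hWB' ⟨0, by omega⟩ ⟨b, hb⟩
      simp at e2
      simp [w, hb, e2]
    have hbot : ∀ b, b < k → w k b = 0 := by
      intro b hb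
      have e1 := hWA' ⟨k, by omega⟩ ⟨b, hb⟩
      simp at e1
      simp [w, show b < k + 1 by omega, e1]
    have hup : ∀ a b, a < b → b ≤ k → w a b = 0 := by
      intro a
      induction a with
      | zero => intro b hab hb; obtain ⟨c, rfl⟩ : ∃ c, b = c + 1 := ⟨b - 1, by omega⟩; exact htop c (by omega)
      | succ a ih =>
        intro b hab hb
        obtain ⟨c, rfl⟩ : ∃ c, b = c + 1 := ⟨b - 1, by omega⟩
        rw [hdiag a c (by omega) (by omega)]
        exact ih c (by omega) (by omega)
    have hlow : ∀ d a b, a + d = k → b < a → w a b = 0 := by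
      intro d
      induction d with
      | zero => intro a b ha hb; rw [show a = k by omega]; exact hbot b (by omega)
      | succ d ih =>
        intro a b ha hb
        rw [← hdiag a b (by omega) (by omega)]
        exact ih (a + 1) (b + 1) (by omega) (by omega)
    have hd : ∀ a, a ≤ k → w a a = w 0 0 := by
      intro a
      induction a with
      | zero => intro _; rfl
      | succ a ih => intro ha; rw [hdiag a a (by omega) (by omega)]; exact ih (by omega)
    have hWs : ∀ i j : Fin (k + 1), W i j = if i = j then w 0 0 else 0 := by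
      intro i j
      have hw : W i j = w i j := by
        simp only [w]; rw [dif_pos ⟨i.2, j.2⟩]
      rw [hw]
      rcases lt_trichotomy (i : ℕ) j with hl | he | hl
      · rw [hup i j hl (by omega), if_neg (fun e => by subst e; omega)]
      · rw [if_pos (Fin.ext he), ← he, hd i (by omega)]
      · rw [hlow (k - i) i j (by omega) hl, if_neg (fun e => by subst e; omega)]
    have hXs : ∀ i j : Fin k, X i j = if i = j then w 0 0 else 0 := by
      intro i j
      have e1 := hWA' i.castSucc j
      simp at e1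
      rw [← e1, hWs]
      simp [Fin.castSucc_inj]
    refine Matrix.SpecialLinearGroup.mem_center_iff.mpr ⟨w 0 0, ?_, ?_⟩
    · have hdet := g.2
      have hgd : g.1 = Matrix.scalar _ (w 0 0) := by
        rw [hg, hY, hZ]
        ext a b
        rcases a with a | a <;> rcases b with b | b <;>
          simp [Matrix.scalar_apply, Matrix.diagonal_apply, hWs, hXs]
      rw [hgd, Matrix.scalar_apply, Matrix.det_diagonal, Finset.prod_const, Finset.card_univ] at hdet
      exact hdet
    · rw [hg, hY, hZ]
      ext a b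
      rcases a with a | a <;> rcases b with b | b <;>
        simp [Matrix.scalar_apply, Matrix.diagonal_apply, hWs, hXs]
  · exfalso
    have hX : X = 0 := by
      ext i j
      have := congr_fun (congr_fun h11 i) j
      simp only [Matrix.neg_apply, Matrix.smul_apply, smul_eq_mul] at this
      have h2 : (r - 1) * X i j = 0 := by linear_combination this
      exact (mul_eq_zero.mp h2).resolve_left (sub_ne_zero.mpr hr1)
    have hdet := g.2
    rw [hg, hX, hY, Matrix.det_eq_zero_of_row_eq_zero (Sum.inl ⟨0, by omega⟩)] at hdet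
    · exact zero_ne_one hdet
    · rintro (b | b) <;> simp

end

/-- For every odd prime `p` there is a finite group `H` of order `2p³` which, for infinitely many `n`, embeds in the projective special linear group `PSL(n, p)` as a subgroup with trivial centralizer. -/
theorem result
    (p : ℕ) [Fact p.Prime] (hp : p ≠ 2) :
    ∃ (H : Type) (_ : Group H) (_ : Finite H), Nat.card H = 2 * p ^ 3 ∧
      ∀ N : ℕ, ∃ n, N ≤ n ∧ ∃ φ : H →* Matrix.ProjectiveSpecialLinearGroup (Fin n) (ZMod p),
        Function.Injective φ ∧ Subgroup.centralizer (φ.range : Set (Matrix.ProjectiveSpecialLinearGroup (Fin n) (ZMod p))) = ⊥ := by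
  refine ⟨HGrp p, inferInstance, Finite.of_equiv _ SemidirectProduct.equivProd.symm, ?_, fun N => ?_⟩
  · rw [Nat.card_congr SemidirectProduct.equivProd, Nat.card_prod]
    simp [Nat.card_eq_fintype_card, mul_comm]
  obtain ⟨k, hk, hk2, hN⟩ : ∃ k, Even k ∧ 2 ≤ k ∧ N ≤ k + (k + 1) :=
    ⟨2 * (N + 1), even_two_mul _, by omega, by omega⟩
  refine ⟨k + (k + 1), hN, ?_⟩
  let e : Fin k ⊕ Fin (k + 1) ≃ Fin (k + (k + 1)) := finSumFinEquiv
  let Φ : Matrix.SpecialLinearGroup (Fin k ⊕ Fin (k + 1)) (ZMod p) ≃*
      Matrix.SpecialLinearGroup (Fin (k + (k + 1))) (ZMod p) :=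
    { toFun := fun A => ⟨Matrix.reindexAlgEquiv (ZMod p) (ZMod p) e A.1, by
        rw [Matrix.det_reindexAlgEquiv]; exact A.2⟩
      invFun := fun A => ⟨Matrix.reindexAlgEquiv (ZMod p) (ZMod p) e.symm A.1, by
        rw [Matrix.det_reindexAlgEquiv]; exact A.2⟩
      left_inv := fun A => Subtype.ext (by simp [Matrix.reindexAlgEquiv_apply])
      right_inv := fun A => Subtype.ext (by simp [Matrix.reindexAlgEquiv_apply])
      map_mul' := fun A B => Subtype.ext
        ((Matrix.reindexAlgEquiv (ZMod p) (ZMod p) e).map_mul A.1 B.1) }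
  have hΦ : ∀ a, Φ a ∈ Subgroup.center _ ↔ a ∈ Subgroup.center _ := by
    intro a
    simp only [Subgroup.mem_center_iff]
    constructor
    · intro h b; apply Φ.injective; simp only [map_mul]; exact h (Φ b)
    · intro h b; obtain ⟨b, rfl⟩ := Φ.surjective b; simp only [← map_mul, h b]
  refine ⟨((QuotientGroup.mk' _).comp Φ.toMonoidHom).comp (embed p k hk), ?_, ?_⟩
  · rw [injective_iff_map_eq_one]
    intro x hx
    refine embed_center p k hk hp hk2 x ((hΦ _).mp ?_)
    exact (QuotientGroup.eq_one_iff _).mp hx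
  · rw [eq_bot_iff]
    intro g hg
    obtain ⟨g, rfl⟩ := QuotientGroup.mk_surjective g
    obtain ⟨g, rfl⟩ := Φ.surjective g
    rw [Subgroup.mem_bot]
    refine (QuotientGroup.eq_one_iff _).mpr ((hΦ _).mpr ?_)
    refine embed_centralizer p k hk hp hk2 g fun x => (hΦ _).mp ?_
    have h := Subgroup.mem_centralizer_iff.mp hg _ ⟨x, rfl⟩
    simp only [map_mul, map_inv]
    refine (QuotientGroup.eq_one_iff _).mp ?_
    simp only [QuotientGroup.mk_mul, QuotientGroup.mk_inv]
    rw [show ((((QuotientGroup.mk' _).comp Φ.toMonoidHom).comp (embed p k hk)) x) =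
      QuotientGroup.mk (Φ (embed p k hk x)) from rfl] at h
    rw [← h]; group

end Cfsg.Agent.S2533
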