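import Cfsg.Statements.S2534
import Cfsg.Agent.Lib.SymHall.Apply
-- import your own Cfsg.Agent.* helpers here

set_option autoImplicit false
open Cfsg

namespace Cfsg.Agent.S2534

open CfsgLib.SymHall Equiv

theorem dvd_alt {n r : ℕ} (hn : 5 ≤ n) (hr : r.Prime) (hrn : r ≤ n) :
    r ∣ Nat.card (alternatingGroup (Fin n)) := by
  haveI : Nontrivial (Fin n) := Fin.nontrivial_iff_two_le.mpr (by omega)
  rw [nat_card_alternatingGroup, Nat.card_fin]
  refine Nat.dvd_div_of_mul_dvd ?_
  rcases eq_or_ne r 2 with rfl | hne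
  · exact (show 2 * 2 ∣ (4 : ℕ).factorial by decide).trans (Nat.factorial_dvd_factorial (by omega))
  · exact ((Nat.coprime_primes Nat.prime_two hr).mpr (Ne.symm hne)).mul_dvd_of_dvd_of_dvd
      (Nat.dvd_factorial two_pos (by omega)) (Nat.dvd_factorial hr.pos hrn)

theorem six_sets : ∀ s : Finset (Fin 6), (∀ x, tri (0 : Fin 6) 1 2 x ∈ s ↔ x ∈ s) → (∀ x, tri (3 : Fin 6) 4 5 x ∈ s ↔ x ∈ s) →
    (∀ x, (swap 0 3 * (swap 1 4 * swap 4 2 * swap 2 5) : Perm (Fin 6)) x ∈ s ↔ x ∈ s) → s = ∅ ∨ s = Finset.univ := by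
  decide +kernel

theorem bad_six {n : ℕ} (h7 : n = 7 ∨ n = 8) {π : Set ℕ} (h : Two3 π n) :
    ∃ P : Subgroup (Perm (Fin n)), P ≤ alternatingGroup (Fin n) ∧ IsPi π P ∧
      ∀ t : Finset (Fin n), t.card = 3 ∨ t.card = 4 → ¬ P ≤ keepPair t := by
  let f : Fin 6 ≃ {x : Fin n // x.val < 6} :=
    ⟨fun i => ⟨⟨i.val, by omega⟩, i.isLt⟩, fun x => ⟨x.1.val, x.2⟩, fun _ => rfl, fun _ => rfl⟩
  refine ⟨(alternatingGroup (Fin 6) ⊓ keepPair ({0, 1, 2} : Finset (Fin 6))).map (Perm.extendDomainHom f), ?_, ?_, ?_⟩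
  · rintro _ ⟨g, hg, rfl⟩
    rw [Perm.mem_alternatingGroup, Perm.extendDomainHom_apply, Perm.sign_extendDomain]
    exact hg.1
  · intro p hp hd
    rw [Subgroup.card_map_of_injective (Perm.extendDomainHom_injective f)] at hd
    exact isPi_keep _ (by decide) (by decide) ⟨h.1, h.2.1⟩ p hp (hd.trans (Subgroup.card_dvd_of_le inf_le_right))
  intro t ht hle
  have key : ∀ g ∈ alternatingGroup (Fin 6) ⊓ keepPair ({0, 1, 2} : Finset (Fin 6)), ∀ i,
      g i ∈ Finset.univ.filter (fun j => (f j).1 ∈ t) ↔ i ∈ Finset.univ.filter fun j => (f j).1 ∈ t := by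
    intro g hg i
    simp only [Finset.mem_filter, Finset.mem_univ, true_and]
    rcases hle ⟨g, hg, rfl⟩ with hk | hk
    · have := hk (f i).1
      rwa [Perm.extendDomainHom_apply, Perm.extendDomain_apply_image] at this
    · have := hk ⟨6, by omega⟩
      rw [Perm.extendDomainHom_apply, Perm.extendDomain_apply_not_subtype _ _ (by simp)] at this
      exact (iff_not_self this).elim
  rcases six_sets _ (key _ (Subgroup.mem_inf.mpr ⟨Perm.mem_alternatingGroup.mpr (by decide), Or.inl (by decide)⟩))
    (key _ (Subgroup.mem_inf.mpr ⟨Perm.mem_alternatingGroup.mpr (by decide), Or.inl (by decide)⟩))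
    (key (swap 0 3 * (swap 1 4 * swap 4 2 * swap 2 5))
      (Subgroup.mem_inf.mpr ⟨Perm.mem_alternatingGroup.mpr (by decide), Or.inr (by decide)⟩)) with h0 | h0
  · have hsub : t ⊆ ((Finset.univ.map ⟨fun i => (f i).1, Subtype.val_injective.comp f.injective⟩))ᶜ := fun z hz => by
      rw [Finset.mem_compl, Finset.mem_map]
      rintro ⟨i, -, rfl⟩
      have hmem : i ∈ Finset.univ.filter fun j => (f j).1 ∈ t := Finset.mem_filter.mpr ⟨Finset.mem_univ _, hz⟩
      rw [h0] at hmem
      simp at hmem
    have := Finset.card_le_card hsub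
    rw [Finset.card_compl, Finset.card_map, Finset.card_univ, Fintype.card_fin, Fintype.card_fin] at this
    omega
  · have hsub : Finset.univ.map ⟨fun i => (f i).1, Subtype.val_injective.comp f.injective⟩ ⊆ t := fun z hz => by
      obtain ⟨i, -, rfl⟩ := Finset.mem_map.mp hz
      have hmem := Finset.mem_univ i
      rw [← h0, Finset.mem_filter] at hmem
      exact hmem.2
    have := Finset.card_le_card hsub
    rw [Finset.card_map, Finset.card_univ, Fintype.card_fin] at this
    omega

theorem no_dpi {n : ℕ} {π : Set ℕ} (hmix : Mixed π (Fintype.card (Fin n))) :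
    ¬ IsDPiGroup π ↥(alternatingGroup (Fin n)) := by
  intro hD
  obtain ⟨H, hH, habs⟩ := hall_of_dpi hD
  obtain ⟨K, hK, e⟩ := (altHall_map hH).exists_model hmix
  have hin : ∀ P : Subgroup (Perm (Fin n)), P ≤ alternatingGroup (Fin n) → IsPi π P →
      ∃ K' : Subgroup (Perm (Fin n)), Model π K' ∧ P ≤ K' := fun P hPA hP => by
    obtain ⟨g, hg⟩ := habs (P.subgroupOf (alternatingGroup (Fin n))) fun p hp hd =>
      hP p hp (by rwa [Nat.card_congr (Subgroup.subgroupOfEquivOfLe hPA).toEquiv] at hd)
    refine ⟨_, hK.map (g : Perm (Fin n)), ?_⟩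
    have := Subgroup.map_mono (f := (alternatingGroup (Fin n)).subtype) hg
    rw [map_conj_alt, e, inf_map_conj, Subgroup.subgroupOf_map_subtype, inf_eq_left.mpr hPA] at this
    exact this.trans inf_le_right
  have h5 := hmix.five_le
  rw [Fintype.card_fin] at h5
  have hcond := hK.cond
  rw [Fintype.card_fin] at hcond
  rcases hcond with ⟨hp, hb⟩ | ⟨h78, h23⟩
  · obtain ⟨x, y, hxy⟩ : ∃ x y : Fin n, x ≠ y := ⟨⟨0, by omega⟩, ⟨1, by omega⟩, by simp [Fin.ext_iff]⟩
    have hP : IsPi π (alternatingGroup (Fin n) ⊓ keep {x, y}) := fun p hpp hd => by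
      obtain ⟨g, hg, ho, z, hz⟩ := exists_moved hpp hd
      have h2 : ({x, y} : Finset (Fin n)).card = 2 := Finset.card_pair hxy
      have hplt : p < n := by
        by_cases hzs : z ∈ ({x, y} : Finset (Fin n))
        · have := prime_le_of_moved hpp ho hg.2 hzs hz; omega
        · have hk : g ∈ keep ({x, y} : Finset (Fin n))ᶜ := fun w => by
            simpa only [Finset.mem_compl] using not_congr (hg.2 w)
          have := prime_le_of_moved hpp ho hk (Finset.mem_compl.mpr hzs) hz
          rw [Finset.card_compl, Fintype.card_fin] at this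
          omega
      exact (hb p hpp hplt.le).mpr hplt
    obtain ⟨K', hK', hle⟩ := hin _ inf_le_left hP
    have h5π : n = 7 ∨ n = 8 → 5 ∈ π := not_mem_pi_five hb
    rcases hK' with ⟨-, -, -, c, rfl⟩ | ⟨h7, h23', -⟩ | ⟨h8, h23', -⟩
    · obtain ⟨p, hp1, q, hq1, hpq⟩ : ∃ p ∈ ({x, y, c} : Finset (Fin n))ᶜ, ∃ q ∈ ({x, y, c} : Finset (Fin n))ᶜ, p ≠ q := by
        refine Finset.one_lt_card.mp ?_
        rw [Finset.card_compl, Fintype.card_fin]
        have : ({x, y, c} : Finset (Fin n)).card ≤ 3 := Finset.card_le_three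
        omega
      simp only [Finset.mem_compl, Finset.mem_insert, Finset.mem_singleton, not_or] at hp1 hq1
      by_cases hc : c = x ∨ c = y
      · have hk : dbl x y p q ∈ keep ({x, y} : Finset (Fin n)) := mul_mem
          (keep_of_fix_not_mem fun w hw => by
            simp only [Finset.mem_insert, Finset.mem_singleton, not_or] at hw
            exact swap_apply_of_ne_of_ne hw.1 hw.2)
          (keep_of_fix_mem fun w hw => by
            simp only [Finset.mem_insert, Finset.mem_singleton] at hw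
            rcases hw with rfl | rfl
            · exact swap_apply_of_ne_of_ne (Ne.symm hp1.1) (Ne.symm hq1.1)
            · exact swap_apply_of_ne_of_ne (Ne.symm hp1.2.1) (Ne.symm hq1.2.1))
        have := mem_keep_singleton.mp (hle ⟨dbl_mem hxy hpq, hk⟩)
        rcases hc with rfl | rfl
        · rw [dbl, Perm.mul_apply, swap_apply_of_ne_of_ne (Ne.symm hp1.1) (Ne.symm hq1.1), swap_apply_left] at this
          exact hxy this.symm
        · rw [dbl, Perm.mul_apply, swap_apply_of_ne_of_ne (Ne.symm hp1.2.1) (Ne.symm hq1.2.1), swap_apply_right] at this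
          exact hxy this
      · push Not at hc
        have hk : tri c p q ∈ keep ({x, y} : Finset (Fin n)) := keep_of_fix_mem fun w hw => by
          simp only [Finset.mem_insert, Finset.mem_singleton] at hw
          rcases hw with rfl | rfl
          · exact tri_apply_of_ne hc.1.symm (Ne.symm hp1.1) (Ne.symm hq1.1)
          · exact tri_apply_of_ne hc.2.symm (Ne.symm hp1.2.1) (Ne.symm hq1.2.1)
        have := mem_keep_singleton.mp (hle ⟨tri_mem (Ne.symm hp1.2.2) hpq, hk⟩)
        rw [tri_apply_left (Ne.symm hp1.2.2) (Ne.symm hq1.2.2)] at this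
        exact hp1.2.2 this
    · rw [Fintype.card_fin] at h7 h23'
      exact h23'.2.2 5 Nat.prime_five (by omega) le_rfl (h5π (Or.inl h7))
    · rw [Fintype.card_fin] at h8 h23'
      exact h23'.2.2 5 Nat.prime_five (by omega) le_rfl (h5π (Or.inr h8))
  · obtain ⟨P, hPA, hP, hbad⟩ := bad_six h78 h23
    obtain ⟨K', hK', hle⟩ := hin P hPA hP
    rcases hK' with ⟨-, -, hb, -⟩ | ⟨-, -, s, hs, rfl⟩ | ⟨-, -, s, hs, rfl⟩
    · rw [Fintype.card_fin] at hb
      exact h23.2.2 5 Nat.prime_five (by omega) le_rfl (not_mem_pi_five hb h78)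
    · exact hbad s (Or.inl hs) (hle.trans (keep_le_keepPair s))
    · exact hbad s (Or.inr hs) hle

/-- For `n ≥ 5` and a set of primes `π`, the alternating group of degree `n` satisfies the full Sylow analogue for `π` (its maximal `π`-subgroups are pairwise conjugate; for a finite group this says Hall `π`-subgroups exist, are all conjugate, and contain every `π`-subgroup up to conjugacy) if and only if either at most one prime of `π` divides its order or every prime dividing its order lies in `π`. -/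
theorem result (n : ℕ) (hn : 5 ≤ n) (π : Set ℕ) :
    Cfsg.IsDPiGroup π ↥(alternatingGroup (Fin n)) ↔
      ((∀ r s : ℕ, r.Prime → s.Prime → r ∈ π → s ∈ π → r ∣ Nat.card ↥(alternatingGroup (Fin n)) → s ∣ Nat.card ↥(alternatingGroup (Fin n)) → r = s) ∨
        ∀ r : ℕ, r.Prime → r ∣ Nat.card ↥(alternatingGroup (Fin n)) → r ∈ π) := by
    have hle : ∀ {r : ℕ}, r.Prime → r ∣ Nat.card (alternatingGroup (Fin n)) → r ≤ n := fun hr h => by
      simpa using le_of_dvd_alt hr h
    constructor
    · intro hD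
      rcases cases_pi n π with h | h | h
      · exact Or.inl fun r s hr hs hrπ hsπ hd hd' => h r s hr hs hrπ hsπ (hle hr hd) (hle hs hd')
      · exact Or.inr fun r hr hd => h r hr (hle hr hd)
      · exact absurd hD (no_dpi (by rwa [Fintype.card_fin]))
    · rintro (h | h)
      exacts [(sylow_case h).2, (all_case h).2]

end Cfsg.Agent.S2534
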