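import Cfsg.Statements.S2535
import Cfsg.Agent.Lib.SymHall.Apply
-- import your own Cfsg.Agent.* helpers here

set_option autoImplicit false
open Cfsg

namespace Cfsg.Agent.S2535

open CfsgLib.SymHall Equiv

theorem le_of_perm {n r : ℕ} (hr : r.Prime) (h : r ∣ Nat.card (Perm (Fin n))) : r ≤ n := by
  simpa using (card_perm_prime hr).mp h

theorem le_of_alt {n r : ℕ} (hr : r.Prime) (h : r ∣ Nat.card (alternatingGroup (Fin n))) : r ≤ n := by
  simpa using le_of_dvd_alt hr h

/-- For every `n` and every set of primes `π`, the following are equivalent for the symmetric group `S` of degree `n` and its alternating subgroup `A`: `S` has a Hall `π`-subgroup; `S` has a Hall `π`-subgroup and all of them are conjugate; `A` has a Hall `π`-subgroup; `A` has a Hall `π`-subgroup and all of them are conjugate. -/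
theorem result (n : ℕ) (π : Set ℕ) :
    (Cfsg.IsEPiGroup π (Equiv.Perm (Fin n)) ↔ Cfsg.IsCPiGroup π (Equiv.Perm (Fin n))) ∧
    (Cfsg.IsEPiGroup π (Equiv.Perm (Fin n)) ↔ Cfsg.IsEPiGroup π ↥(alternatingGroup (Fin n))) ∧
    (Cfsg.IsEPiGroup π ↥(alternatingGroup (Fin n)) ↔ Cfsg.IsCPiGroup π ↥(alternatingGroup (Fin n))) := by
    rcases cases_pi n π with h | h | h
    · have hS := (sylow_case (G := Perm (Fin n)) fun r s hr hs hrπ hsπ hd hd' =>
        h r s hr hs hrπ hsπ (le_of_perm hr hd) (le_of_perm hs hd')).1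
      have hA := (sylow_case (G := alternatingGroup (Fin n)) fun r s hr hs hrπ hsπ hd hd' =>
        h r s hr hs hrπ hsπ (le_of_alt hr hd) (le_of_alt hs hd')).1
      exact ⟨⟨fun _ => hS, fun h => h.1⟩, ⟨fun _ => hA.1, fun _ => hS.1⟩, ⟨fun _ => hA, fun h => h.1⟩⟩
    · have hS := (all_case (G := Perm (Fin n)) fun r hr hd => h r hr (le_of_perm hr hd)).1
      have hA := (all_case (G := alternatingGroup (Fin n)) fun r hr hd => h r hr (le_of_alt hr hd)).1
      exact ⟨⟨fun _ => hS, fun h => h.1⟩, ⟨fun _ => hA.1, fun _ => hS.1⟩, ⟨fun _ => hA, fun h => h.1⟩⟩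
    · have hmix : Mixed π (Fintype.card (Fin n)) := by rwa [Fintype.card_fin]
      obtain ⟨e1, e2⟩ := epi_iff hmix
      obtain ⟨c1, c2⟩ := cpi_of_epi hmix
      exact ⟨⟨c1, fun h => h.1⟩, e1.trans e2.symm, ⟨c2, fun h => h.1⟩⟩

end Cfsg.Agent.S2535
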