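import Cfsg.Statements.S2536
import Cfsg.Agent.Lib.SymHall.Apply
-- import your own Cfsg.Agent.* helpers here

set_option autoImplicit false
open Cfsg

namespace Cfsg.Agent.S2536

open CfsgLib.SymHall

/-- Let `π` be a set of primes and `n` a natural number such that at least two primes of `π` divide `n!` but not every prime dividing `n!` lies in `π`. Then the symmetric group of degree `n` has a Hall `π`-subgroup if and only if either `n` is prime and the primes of `π` dividing `n!` are exactly the primes smaller than `n` (a point stabilizer is then such a subgroup), or `n ∈ {7, 8}` and the primes of `π` dividing `n!` are exactly 2 and 3. -/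
theorem result (n : ℕ) (π : Set ℕ)
    (h2 : ∃ r s : ℕ, r.Prime ∧ s.Prime ∧ r ≠ s ∧ r ∈ π ∧ s ∈ π ∧ r ≤ n ∧ s ≤ n)
    (hns : ∃ r : ℕ, r.Prime ∧ r ≤ n ∧ r ∉ π) :
    Cfsg.IsEPiGroup π (Equiv.Perm (Fin n)) ↔
      ((n.Prime ∧ ∀ r : ℕ, r.Prime → r ≤ n → (r ∈ π ↔ r < n)) ∨
       ((n = 7 ∨ n = 8) ∧ ∀ r : ℕ, r.Prime → r ≤ n → (r ∈ π ↔ (r = 2 ∨ r = 3)))) := by
    have hmix : Mixed π n := ⟨h2, hns⟩
    have h5 := hmix.five_le
    rw [(epi_iff (α := Fin n) (by rwa [Fintype.card_fin])).1, Fintype.card_fin]
    refine or_congr Iff.rfl (and_congr_right fun h78 => ?_)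
    constructor
    · rintro ⟨a, b, c⟩ r hr hrn
      refine ⟨fun hrπ => ?_, ?_⟩
      · by_contra hne
        refine c r hr hrn ?_ hrπ
        have := hr.two_le
        by_contra h5r
        interval_cases r <;> first | omega | norm_num at *
      · rintro (rfl | rfl) <;> assumption
    · intro h
      exact ⟨(h 2 Nat.prime_two (by omega)).mpr (Or.inl rfl), (h 3 Nat.prime_three (by omega)).mpr (Or.inr rfl),
        fun p hp hpn h5p hpπ => by rcases (h p hp hpn).mp hpπ with rfl | rfl <;> omega⟩

end Cfsg.Agent.S2536
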