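import Cfsg.Statements.S2537
import Mathlib
import Cfsg.Agent.Lib.DicksonFull.Subgroups
import Cfsg.Agent.Lib.HallSolvable
import Cfsg.Agent.S0802
import Cfsg.Agent.S0803

set_option autoImplicit false
open Cfsg

namespace Cfsg.Agent.S2537

theorem dihedral_solvable (k : ℕ) : Group.IsSolvable (DihedralGroup k) := by
  let f : DihedralGroup k →* Multiplicative (ZMod 2) :=
    { toFun := fun x => match x with
        | .r _ => 1
        | .sr _ => Multiplicative.ofAdd 1
      map_one' := rfl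
      map_mul' := by
        rintro (i | i) (j | j) <;> first | rfl | (simp only [DihedralGroup.sr_mul_sr]; decide) }
  have : IsMulCommutative f.ker := ⟨⟨by
    rintro ⟨a | a, ha⟩ ⟨b | b, hb⟩
    · exact Subtype.ext (by simp [add_comm])
    all_goals first
      | exact absurd (MonoidHom.mem_ker.mp ha) (show ¬ Multiplicative.ofAdd (1 : ZMod 2) = 1 by decide)
      | exact absurd (MonoidHom.mem_ker.mp hb) (show ¬ Multiplicative.ofAdd (1 : ZMod 2) = 1 by decide)⟩⟩
  haveI : Group.IsSolvable f.ker := Group.isSolvable_of_comm this.is_comm.comm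
  exact Group.isSolvable_of_ker_le_range f.ker.subtype f (by simp)

open CfsgLib.DicksonFull


/-- Let `F` be a finite field with `q` elements of characteristic `p ≥ 5`, and `ε = 1` if `q ≡ 1 (mod 4)`, `ε = -1` otherwise. Then `PSL(2, F)` has a Hall `{2, 3}`-subgroup if and only if `3` divides `q − ε`, or the `{2,3}`-part of `q² − 1` is 24, or the `{2,3}`-part of `q² − 1` is 48 (the `{2,3}`-part of `m` being the largest divisor of `m` with no prime factor other than 2 and 3). -/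
theorem result {F : Type*} [Field F] [Fintype F] {p : ℕ} [Fact p.Prime] [CharP F p]
    (hp : 5 ≤ p) (q : ℕ) (hq : Fintype.card F = q) :
    (∃ H : Subgroup (Matrix.ProjectiveSpecialLinearGroup (Fin 2) F), Cfsg.IsPiHall ({2, 3} : Set ℕ) H) ↔
      (3 ∣ q - 1 ∧ q % 4 = 1) ∨ (3 ∣ q + 1 ∧ q % 4 = 3) ∨
        2 ^ (q ^ 2 - 1).factorization 2 * 3 ^ (q ^ 2 - 1).factorization 3 = 24 ∨
        2 ^ (q ^ 2 - 1).factorization 2 * 3 ^ (q ^ 2 - 1).factorization 3 = 48 := by
  subst hq
  classical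
  have hpp : p.Prime := Fact.out
  obtain ⟨f, -, hf⟩ := FiniteField.card F p
  set q := Fintype.card F with hqdef
  have hq5 : 5 ≤ q := hf ▸ hp.trans (Nat.le_self_pow f.ne_zero p)
  have hqodd : q % 2 = 1 := Nat.odd_iff.mp (hf ▸ (hpp.odd_of_ne_two (by omega)).pow)
  have hq3 : ¬ 3 ∣ q := fun h => by
    rw [hf] at h
    have := (Nat.prime_dvd_prime_iff_eq Nat.prime_three hpp).mp (Nat.prime_three.dvd_of_dvd_pow h)
    omega
  have hg : Nat.gcd 2 (q - 1) = 2 := Nat.gcd_eq_left (by omega)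
  have hN := card_psl (F := F)
  rw [hg] at hN
  have hsq : q ^ 2 - 1 = (q + 1) * (q - 1) := by rw [← one_pow 2, Nat.sq_sub_sq, one_pow]
  have hn0 : q ^ 2 - 1 ≠ 0 := by rw [hsq]; exact Nat.mul_ne_zero (by omega) (by omega)
  obtain ⟨a, ha⟩ : ∃ a, (q ^ 2 - 1).factorization 2 = a := ⟨_, rfl⟩
  obtain ⟨b, hb⟩ : ∃ b, (q ^ 2 - 1).factorization 3 = b := ⟨_, rfl⟩
  rw [ha, hb]
  obtain ⟨M, hM⟩ : 2 ^ a * 3 ^ b ∣ q ^ 2 - 1 :=
    (Nat.Coprime.pow _ _ (by norm_num)).mul_dvd_of_dvd_of_dvd (ha ▸ Nat.ordProj_dvd _ _) (hb ▸ Nat.ordProj_dvd _ _)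
  have hM2 : ¬ 2 ∣ M := fun ⟨t, ht⟩ => Nat.pow_succ_factorization_not_dvd hn0 Nat.prime_two
    ⟨3 ^ b * t, by rw [ha, hM, ht, pow_succ]; ring⟩
  have hM3 : ¬ 3 ∣ M := fun ⟨t, ht⟩ => Nat.pow_succ_factorization_not_dvd hn0 Nat.prime_three
    ⟨2 ^ a * t, by rw [hb, hM, ht, pow_succ]; ring⟩
  have h8 : 2 ^ 3 ∣ q ^ 2 - 1 := by
    obtain ⟨j, hj⟩ : ∃ j, q = 2 * j + 1 := ⟨q / 2, by omega⟩
    obtain ⟨i, hi⟩ := Nat.even_mul_succ_self j
    rw [hsq, hj]
    exact ⟨i, by rw [show 2 * j + 1 + 1 = 2 * (j + 1) by ring, Nat.add_sub_cancel]; nlinarith⟩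
  have ha3 : 3 ≤ a := ha ▸ (Nat.prime_two.pow_dvd_iff_le_factorization hn0).mp h8
  have h3 : 3 ∣ q ^ 2 - 1 := by
    rw [hsq]
    rcases (show q % 3 = 1 ∨ q % 3 = 2 by omega) with h | h
    · exact Dvd.dvd.mul_left (by omega) _
    · exact Dvd.dvd.mul_right (by omega) _
  have hb1 : 1 ≤ b := hb ▸ (Nat.prime_three.pow_dvd_iff_le_factorization hn0).mp (by simpa using h3)
  obtain ⟨a', rfl⟩ : ∃ a', a = a' + 1 := ⟨a - 1, by omega⟩
  set h := 2 ^ a' * 3 ^ b with hh
  have h2h : 2 ^ (a' + 1) * 3 ^ b = 2 * h := by rw [hh, pow_succ]; ring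
  have hNh : Nat.card (Matrix.ProjectiveSpecialLinearGroup (Fin 2) F) = h * (q * M) := by
    refine Nat.eq_of_mul_eq_mul_left (show 0 < 2 by norm_num) ?_
    rw [hN, hM, h2h]; ring
  have h4h : 4 ∣ h := (Nat.pow_dvd_pow 2 (show 2 ≤ a' by omega)).trans (dvd_mul_right _ _)
  have h3h : 3 ∣ h := (dvd_pow_self 3 (by omega)).trans (dvd_mul_left _ _)
  have hco : ∀ t, ¬ 2 ∣ t → ¬ 3 ∣ t → Nat.Coprime h t := fun t h2 h3 =>
    Nat.Coprime.mul_left (Nat.Coprime.pow_left _ (Nat.prime_two.coprime_iff_not_dvd.mpr h2))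
      (Nat.Coprime.pow_left _ (Nat.prime_three.coprime_iff_not_dvd.mpr h3))
  have hcoN : Nat.Coprime h (q * M) := (hco q (by omega) hq3).mul_right (hco M hM2 hM3)
  have hπ : ∀ r : ℕ, r.Prime → r ∣ h → r ∈ ({2, 3} : Set ℕ) := fun r hr hd => by
    rcases hr.dvd_mul.mp hd with e | e
    · exact Or.inl ((Nat.prime_dvd_prime_iff_eq hr Nat.prime_two).mp (hr.dvd_of_dvd_pow e))
    · exact Or.inr ((Nat.prime_dvd_prime_iff_eq hr Nat.prime_three).mp (hr.dvd_of_dvd_pow e))
  have hiff : ∀ H : Subgroup (Matrix.ProjectiveSpecialLinearGroup (Fin 2) F),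
      Cfsg.IsPiHall ({2, 3} : Set ℕ) H ↔ Nat.card H = h := by
    intro H
    have hm := H.card_mul_index
    rw [hNh] at hm
    constructor
    · rintro ⟨h1, h2⟩
      refine Nat.dvd_antisymm ?_ ?_
      · refine Nat.Coprime.dvd_of_dvd_mul_right ?_ (hm ▸ dvd_mul_right _ _)
        refine Nat.coprime_of_dvd fun r hr hd hd' => ?_
        have hrπ := h1 r hr hd
        simp only [Set.mem_insert_iff, Set.mem_singleton_iff] at hrπ
        rcases hrπ with rfl | rfl
        · rcases Nat.prime_two.dvd_mul.mp hd' with e | e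
          · omega
          · exact hM2 e
        · rcases Nat.prime_three.dvd_mul.mp hd' with e | e
          · exact hq3 e
          · exact hM3 e
      · refine Nat.Coprime.dvd_of_dvd_mul_right ?_ (hm ▸ dvd_mul_right h (q * M))
        exact Nat.coprime_of_dvd fun r hr hd hd' => h2 r hr (hπ r hr hd) hd'
    · intro hc
      refine ⟨fun r hr hd => hπ r hr (hc ▸ hd), fun r hr hrπ hd => ?_⟩
      have hi : H.index = q * M := by
        rw [hc] at hm
        exact Nat.eq_of_mul_eq_mul_left (Nat.mul_pos (Nat.two_pow_pos _) (Nat.pow_pos (by norm_num))) hm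
      simp only [Set.mem_insert_iff, Set.mem_singleton_iff] at hrπ
      rw [hi] at hd
      rcases hrπ with rfl | rfl
      · rcases Nat.prime_two.dvd_mul.mp hd with e | e
        · omega
        · exact hM2 e
      · rcases Nat.prime_three.dvd_mul.mp hd with e | e
        · exact hq3 e
        · exact hM3 e
  simp only [hiff, h2h]
  -- twice the order never divides `q ± 1`
  have hno : ¬ 2 * h ∣ q + 1 ∧ ¬ 2 * h ∣ q - 1 := by
    have key : ¬ (2 * h * 2) ∣ q ^ 2 - 1 := fun ⟨t, ht⟩ =>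
      Nat.pow_succ_factorization_not_dvd hn0 Nat.prime_two
        ⟨3 ^ b * t, by rw [ha, ht, hh, pow_succ (2 : ℕ) (a' + 1), pow_succ]; ring⟩
    constructor <;> intro hd <;> apply key <;> rw [hsq]
    · exact Nat.mul_dvd_mul hd (by omega)
    · rw [mul_comm (q + 1)]; exact Nat.mul_dvd_mul hd (by omega)
  constructor
  · rintro ⟨H, hH⟩
    have hHtop : H ≠ ⊤ := fun e => by
      rw [e, Subgroup.card_top, hNh] at hH
      have hpos : 0 < h := Nat.mul_pos (Nat.two_pow_pos _) (Nat.pow_pos (by norm_num))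
      have h1 : q * M = 1 := Nat.eq_of_mul_eq_mul_left hpos (by rw [hH, mul_one])
      have := Nat.le_of_dvd one_pos ⟨M, h1.symm⟩
      omega
    rcases proper_cases p hHtop with ⟨k, hk, ⟨-, hc⟩ | e⟩ | e | e | e | ⟨u, hu, hub⟩ |
      ⟨Q, m, K, _, _, hKQ, -, -, hQm, -, -, hiso⟩
    · exfalso
      rw [← hqdef, hg, ← hc, hH] at hk
      rcases hk with hk | hk
      · exact hno.1 (by rw [show q + 1 = 2 * ((q + 1) / 2) by omega]; exact Nat.mul_dvd_mul_left 2 hk)
      · exact hno.2 (by rw [show q - 1 = 2 * ((q - 1) / 2) by omega]; exact Nat.mul_dvd_mul_left 2 hk)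
    · obtain ⟨e⟩ := e
      rw [Nat.card_congr e.toEquiv, DihedralGroup.nat_card] at hH
      rw [← hqdef, hg] at hk
      have hd : h ∣ q + 1 ∨ h ∣ q - 1 := hk.imp
        (fun hk => by rw [← hH, show q + 1 = 2 * ((q + 1) / 2) by omega]; exact Nat.mul_dvd_mul_left 2 hk)
        (fun hk => by rw [← hH, show q - 1 = 2 * ((q - 1) / 2) by omega]; exact Nat.mul_dvd_mul_left 2 hk)
      rcases hd with hd | hd
      · have := h3h.trans hd
        have := h4h.trans hd
        exact Or.inr (Or.inl ⟨by omega, by omega⟩)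
      · have := h3h.trans hd
        have := h4h.trans hd
        exact Or.inl ⟨by omega, by omega⟩
    · obtain ⟨e⟩ := e
      refine Or.inr (Or.inr (Or.inl ?_))
      rw [← hH, Nat.card_congr e.toEquiv, Nat.card_eq_fintype_card]; rfl
    · obtain ⟨e⟩ := e
      refine Or.inr (Or.inr (Or.inr ?_))
      rw [← hH, Nat.card_congr e.toEquiv, Nat.card_eq_fintype_card, Fintype.card_perm, Fintype.card_fin]; rfl
    · exfalso
      obtain ⟨e⟩ := e
      have h60 : h = 60 := by rw [← hH, Nat.card_congr e.toEquiv, Nat.card_eq_fintype_card]; rfl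
      have := hπ 5 (by norm_num) (h60 ▸ by norm_num)
      simp at this
    · exfalso
      have hd := Subgroup.card_dvd_of_le hub
      rw [hH] at hd
      have hc := card_bor p hu
      rw [← hqdef, hg] at hc
      exact hno.2 (Nat.Coprime.dvd_of_dvd_mul_left
        ((Nat.prime_two.coprime_iff_not_dvd.mpr (by omega)).mul_left (hco q (by omega) hq3))
        (hc ▸ Nat.mul_dvd_mul_left 2 hd))
    · exfalso
      have hpQ : p ∣ Q := by
        refine hpp.dvd_of_dvd_pow (n := m) ?_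
        rw [hQm, ← hqdef, hf]
        exact dvd_pow_self p f.ne_zero
      have hpd : p ∣ Q * (Q ^ 2 - 1) := hpQ.mul_right _
      have hcard : ∃ g, g ≤ 2 ∧ 1 ≤ g ∧ g * Nat.card H = Q * (Q ^ 2 - 1) := by
        rcases hiso with ⟨⟨e⟩⟩ | ⟨⟨e⟩⟩
        · refine ⟨Nat.gcd 2 (Q - 1), Nat.le_of_dvd (by norm_num) (Nat.gcd_dvd_left _ _),
            Nat.gcd_pos_of_pos_left _ (by norm_num), ?_⟩
          rw [Nat.card_congr e.toEquiv, ← hKQ, ← CfsgLib.SLCard.card_SL_two (F := K),
            ← CfsgLib.SLCard.gcd_mul_card_PSL (F := K) (n := 2) (by norm_num)]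
        · refine ⟨1, by norm_num, le_rfl, ?_⟩
          rw [one_mul, Nat.card_congr e.toEquiv, CfsgLib.SLCard.card_PGL, CfsgLib.SLCard.card_SL_two, hKQ]
      obtain ⟨g, hg2, hg1, hgc⟩ := hcard
      have := hπ p hpp (hH ▸ (hpp.dvd_mul.mp (hgc ▸ hpd)).resolve_left fun e => by
        have := Nat.le_of_dvd (by omega) e; omega)
      simp at this
      omega
  · intro hcases
    have htor : ∀ n, (n = (q + 1) / 2 ∨ n = (q - 1) / 2) → 3 ∣ 2 * n → 4 ∣ 2 * n →
        ∃ H : Subgroup (Matrix.ProjectiveSpecialLinearGroup (Fin 2) F), Nat.card H = h := by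
      intro n hn h3n h4n
      obtain ⟨x, -, -, hN2, ⟨e⟩, -⟩ := exists_torus (F := F) p (n := n) (by omega)
        (by rw [← hqdef, hg]; exact hn)
      obtain ⟨o, ho, hno', hprod⟩ : ∃ o, 2 * o * (2 * n) = q ^ 2 - 1 ∧ ¬ 2 ∣ o ∧ ¬ 3 ∣ o := by
        rcases hn with rfl | rfl
        · exact ⟨(q - 1) / 2, by rw [show 2 * ((q - 1) / 2) = q - 1 by omega,
            show 2 * ((q + 1) / 2) = q + 1 by omega, hsq, mul_comm], by omega, by omega⟩
        · exact ⟨(q + 1) / 2, by rw [show 2 * ((q - 1) / 2) = q - 1 by omega,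
            show 2 * ((q + 1) / 2) = q + 1 by omega, hsq], by omega, by omega⟩
      obtain ⟨t, ht⟩ : h ∣ 2 * n := Nat.Coprime.dvd_of_dvd_mul_left (hco o hno' hprod) ⟨M,
        Nat.eq_of_mul_eq_mul_left (show 0 < 2 by norm_num) (by rw [← mul_assoc, ho, hM, h2h]; ring)⟩
      have hot : o * t = M := by
        refine Nat.eq_of_mul_eq_mul_left (show 0 < 2 * h by positivity) ?_
        rw [← h2h, ← hM, ← ho, ht, h2h]; ring
      haveI := dihedral_solvable n
      haveI := Group.isSolvable_of_isSolvable_injective (f := e.toMonoidHom) e.injective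
      obtain ⟨⟨K, hK⟩, -⟩ := CfsgLib.hall_main (m := h) (n := t) (hN2.trans ht)
        (hco t (fun e => hM2 (hot ▸ e.mul_left o)) (fun e => hM3 (hot ▸ e.mul_left o)))
      exact ⟨K.map (Subgroup.subtype _), by rw [Subgroup.card_map_of_injective (Subgroup.subtype_injective _), hK]⟩
    rcases hcases with ⟨h1, h2⟩ | ⟨h1, h2⟩ | h24 | h48
    · exact htor ((q - 1) / 2) (Or.inr rfl) (by omega) (by omega)
    · exact htor ((q + 1) / 2) (Or.inl rfl) (by omega) (by omega)
    · obtain ⟨H, ⟨e⟩⟩ := (Cfsg.Agent.S0802.result p f (F := F) (hqdef ▸ hf)).mpr (by omega)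
      refine ⟨H, ?_⟩
      rw [Nat.card_congr e.toEquiv, Nat.card_eq_fintype_card, show Fintype.card (alternatingGroup (Fin 4)) = 12 from rfl]
      omega
    · have hdiv : 16 ∣ q ^ 2 - 1 := by
        rw [hM, h2h, h48]
        exact Dvd.dvd.mul_right (by norm_num) M
      have h1 : 1 ≤ q ^ 2 := Nat.one_le_pow _ _ (by omega)
      obtain ⟨H, ⟨e⟩⟩ := (Cfsg.Agent.S0803.result (F := F) (q := q) rfl).mpr (by omega)
      refine ⟨H, ?_⟩
      rw [Nat.card_congr e.toEquiv, Nat.card_eq_fintype_card, Fintype.card_perm, Fintype.card_fin,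
        show Nat.factorial 4 = 24 from rfl]
      omega

end Cfsg.Agent.S2537
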