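import Cfsg.Statements.S2538
import Cfsg.Agent.Lib.SymHall.Apply
-- import your own Cfsg.Agent.* helpers here

set_option autoImplicit false
open Cfsg

namespace Cfsg.Agent.S2538

open CfsgLib.SymHall Equiv

/-- For every `n` and every set of primes `π`, a subgroup of the alternating group of degree `n` is a Hall `π`-subgroup of it if and only if it is the intersection with the alternating group of some Hall `π`-subgroup of the symmetric group of degree `n`. -/
theorem result (n : ℕ) (π : Set ℕ)
    (M : Subgroup ↥(alternatingGroup (Fin n))) :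
    Cfsg.IsPiHall π M ↔ ∃ M₀ : Subgroup (Equiv.Perm (Fin n)), Cfsg.IsPiHall π M₀ ∧ M = M₀.subgroupOf (alternatingGroup (Fin n)) := by
    constructor
    swap
    · rintro ⟨M₀, hM₀, rfl⟩
      exact hall_subgroupOf (altHall_of_hall hM₀)
    intro hM
    have hA := altHall_map hM
    have eM : M = (M.map (alternatingGroup (Fin n)).subtype).subgroupOf (alternatingGroup (Fin n)) :=
      (Subgroup.comap_map_eq_self_of_injective (alternatingGroup (Fin n)).subtype_injective M).symm
    suffices ∃ M₀ : Subgroup (Perm (Fin n)), IsPiHall π M₀ ∧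
        M.map (alternatingGroup (Fin n)).subtype = alternatingGroup (Fin n) ⊓ M₀ by
      obtain ⟨M₀, h₀, e⟩ := this
      exact ⟨M₀, h₀, by rw [eM, e, Subgroup.inf_subgroupOf_left]⟩
    by_cases h2 : 2 ∈ π
    swap
    · refine ⟨_, ⟨hA.pi, fun p hp hpπ hd => ?_⟩, (inf_eq_right.mpr hA.le).symm⟩
      rw [← Subgroup.relIndex_mul_index hA.le] at hd
      rcases hp.dvd_mul.mp hd with h | h
      · exact hA.full p hp hpπ h
      · exact h2 (((Nat.prime_dvd_prime_iff_eq hp Nat.prime_two).mp (h.trans index_alt_dvd_two)) ▸ hpπ)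
    have hle : ∀ {r : ℕ}, r.Prime → r ∣ Nat.card (Perm (Fin n)) → r ≤ n := fun hr h => by
      simpa using (card_perm_prime hr).mp h
    rcases cases_pi n π with h | h | h
    · by_cases hn : 2 ≤ n
      swap
      · refine ⟨⊤, ⟨fun p hp hd => ?_, fun p hp _ hd => ?_⟩, ?_⟩
        · rw [Subgroup.card_top] at hd
          have := hle hp hd; have := hp.two_le; omega
        · rw [Subgroup.index_top, Nat.dvd_one] at hd; exact hp.one_lt.ne' hd
        · haveI : Subsingleton (Perm (Fin n)) := by
            haveI : Subsingleton (Fin n) := Fin.subsingleton_iff_le_one.mpr (by omega)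
            infer_instance
          exact Subsingleton.elim _ _
      -- only the prime two
      haveI := Fact.mk Nat.prime_two
      have hP : IsPGroup 2 (M.map (alternatingGroup (Fin n)).subtype) := IsPGroup.iff_card.mpr
        ⟨_, Nat.eq_prime_pow_of_unique_prime_dvd Nat.card_pos.ne' fun {d} hd hdd =>
          h d 2 hd Nat.prime_two (hA.pi d hd hdd) h2 (hle hd (hdd.trans (Subgroup.card_subgroup_dvd_card _))) hn⟩
      obtain ⟨P, hPle⟩ := hP.exists_le_sylow
      have hpi : ∀ p : ℕ, p.Prime → p ∣ Nat.card (P : Subgroup (Perm (Fin n))) → p ∈ π := fun p hp hd => by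
        obtain ⟨k, hk⟩ := IsPGroup.iff_card.mp P.isPGroup'
        exact ((Nat.prime_dvd_prime_iff_eq hp Nat.prime_two).mp (hp.dvd_of_dvd_pow (hk ▸ hd))) ▸ h2
      refine ⟨P, ⟨hpi, fun p hp hpπ hd => ?_⟩,
        (eq_of_relIndex (le_inf hA.le hPle) inf_le_left
          (fun p hp hd => hpi p hp (hd.trans (Subgroup.card_dvd_of_le inf_le_right))) hA.full).symm⟩
      have := h p 2 hp Nat.prime_two hpπ h2 (hle hp (hd.trans (Subgroup.index_dvd_card _))) hn
      exact P.not_dvd_index (this ▸ hd)
    · refine ⟨⊤, ⟨fun p hp hd => ?_, fun p hp _ hd => ?_⟩, ?_⟩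
      · rw [Subgroup.card_top] at hd; exact h p hp (hle hp hd)
      · rw [Subgroup.index_top, Nat.dvd_one] at hd; exact hp.one_lt.ne' hd
      · rw [eq_top_of_hall (fun r hr hd => h r hr (by simpa using le_of_dvd_alt hr hd)) hM, ← MonoidHom.range_eq_map,
          Subgroup.range_subtype, inf_top_eq]
    · obtain ⟨K, hK, e⟩ := hA.exists_model (by rwa [Fintype.card_fin])
      exact ⟨K, hK.hall, e⟩

end Cfsg.Agent.S2538
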