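import Cfsg.Statements.S2540
import Cfsg.Agent.Lib.SLPerfect
import Mathlib.LinearAlgebra.Projectivization.PSL.PSL2

set_option autoImplicit false
open Cfsg
open scoped commutatorElement

namespace Cfsg.Agent.S2540

/-- Let F be a finite field and n ≥ 1, excluding the case n = 2 with #F ≤ 3. A subgroup of GL_n(F) that is normalized by every element of SL_n(F) either consists of scalar matrices or contains SL_n(F). -/
theorem result {F : Type*} [Field F] [Fintype F] (n : ℕ) (hn : 1 ≤ n) (hex : ¬ (n = 2 ∧ Fintype.card F ≤ 3)) (G : Subgroup (Matrix.GeneralLinearGroup (Fin n) F)) (hG : ∀ s : Matrix.SpecialLinearGroup (Fin n) F, ∀ g ∈ G, (Matrix.SpecialLinearGroup.toGL s) * g * (Matrix.SpecialLinearGroup.toGL s)⁻¹ ∈ G) : (∀ g ∈ G, ∃ c : F, (g : Matrix (Fin n) (Fin n) F) = c • (1 : Matrix (Fin n) (Fin n) F)) ∨ (Matrix.SpecialLinearGroup.toGL : Matrix.SpecialLinearGroup (Fin n) F →* _).range ≤ G := by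
  classical
  by_cases hn1 : n = 1
  · subst hn1
    refine Or.inl fun g _ => ⟨g.1 0 0, ?_⟩
    ext i j
    fin_cases i; fin_cases j
    simp
  obtain ⟨hsimple, hperf⟩ :
      IsSimpleGroup (Matrix.ProjectiveSpecialLinearGroup (Fin n) F) ∧
        commutator (Matrix.SpecialLinearGroup (Fin n) F) = ⊤ := by
    rcases Nat.lt_or_ge n 3 with h | h
    · obtain rfl : n = 2 := by omega
      have hq : 4 ≤ Fintype.card F := by by_contra hc; exact hex ⟨rfl, by omega⟩
      obtain ⟨a, -, ha⟩ := Finset.exists_mem_notMem_of_card_lt_card (s := ({0, 1, -1} : Finset F))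
        (t := Finset.univ) (lt_of_le_of_lt Finset.card_le_three (by rw [Finset.card_univ]; omega))
      simp only [Finset.mem_insert, Finset.mem_singleton, not_or] at ha
      refine ⟨Matrix.ProjectiveSpecialLinearGroup.rank_two_simple (by rw [Nat.card_eq_fintype_card]; omega),
        Matrix.SL2.commutator_eq_top ha.1 fun e => ?_⟩
      rcases sq_eq_one_iff.mp e with e | e
      · exact ha.2.1 e
      · exact ha.2.2 e
    · exact ⟨CfsgLib.SLPerfect.isSimpleGroup h, CfsgLib.SLPerfect.commutator_eq_top h⟩
  set N : Subgroup (Matrix.SpecialLinearGroup (Fin n) F) := G.comap Matrix.SpecialLinearGroup.toGL with hN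
  haveI hNn : N.Normal := ⟨fun a ha s => by
    show Matrix.SpecialLinearGroup.toGL (s * a * s⁻¹) ∈ G
    rw [map_mul, map_mul, map_inv]
    exact hG s _ ha⟩
  let π : Matrix.SpecialLinearGroup (Fin n) F →* Matrix.ProjectiveSpecialLinearGroup (Fin n) F :=
    QuotientGroup.mk' _
  have hπ : Function.Surjective π := QuotientGroup.mk'_surjective _
  rcases hsimple.eq_bot_or_eq_top_of_normal (N.map π) (hNn.map π hπ) with hbot | htop
  · refine Or.inl fun g hg => ?_
    have hc : ∀ s : Matrix.SpecialLinearGroup (Fin n) F, ∃ c : Subgroup.center (Matrix.SpecialLinearGroup (Fin n) F),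
        Matrix.SpecialLinearGroup.toGL s * g * (Matrix.SpecialLinearGroup.toGL s)⁻¹ =
          Matrix.SpecialLinearGroup.toGL c.1 * g := by
      intro s
      set k := Matrix.SpecialLinearGroup.toGL s * g * (Matrix.SpecialLinearGroup.toGL s)⁻¹ * g⁻¹ with hk
      have hdet : k.1.det = 1 := by
        have : Matrix.GeneralLinearGroup.det k = 1 := by
          rw [hk, map_mul, map_mul, map_mul, map_inv, map_inv]
          simp [mul_comm, mul_left_comm]
        exact congrArg Units.val this
      obtain ⟨c, hcc⟩ : ∃ c : Matrix.SpecialLinearGroup (Fin n) F, Matrix.SpecialLinearGroup.toGL c = k :=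
        ⟨⟨k.1, hdet⟩, Units.ext rfl⟩
      have hcN : c ∈ N := by
        show Matrix.SpecialLinearGroup.toGL c ∈ G
        rw [hcc]
        exact mul_mem (hG s g hg) (inv_mem hg)
      have hcZ : c ∈ Subgroup.center (Matrix.SpecialLinearGroup (Fin n) F) := by
        have h1 : π c ∈ N.map π := Subgroup.mem_map_of_mem π hcN
        rw [hbot, Subgroup.mem_bot] at h1
        exact (QuotientGroup.eq_one_iff c).mp h1
      exact ⟨⟨c, hcZ⟩, by rw [hcc, hk, inv_mul_cancel_right]⟩
    choose c hc using hc
    have hinj : Function.Injective (Matrix.SpecialLinearGroup.toGL : Matrix.SpecialLinearGroup (Fin n) F →* _) :=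
      fun a b h => Subtype.ext (congrArg Units.val h)
    let φ : Matrix.SpecialLinearGroup (Fin n) F →* Subgroup.center (Matrix.SpecialLinearGroup (Fin n) F) :=
      MonoidHom.mk' c fun s t => Subtype.ext (hinj (mul_right_cancel (b := g) (by
        have hz : Commute (Matrix.SpecialLinearGroup.toGL s) (Matrix.SpecialLinearGroup.toGL (c t).1) :=
          Commute.map (Subgroup.mem_center_iff.mp (c t).2 s) _
        have hz' : Commute (Matrix.SpecialLinearGroup.toGL (c s).1) (Matrix.SpecialLinearGroup.toGL (c t).1) :=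
          Commute.map (Subgroup.mem_center_iff.mp (c t).2 (c s).1) _
        calc Matrix.SpecialLinearGroup.toGL (c (s * t)).1 * g
            = Matrix.SpecialLinearGroup.toGL (s * t) * g * (Matrix.SpecialLinearGroup.toGL (s * t))⁻¹ := (hc _).symm
          _ = Matrix.SpecialLinearGroup.toGL s * (Matrix.SpecialLinearGroup.toGL (c t).1 * g) *
              (Matrix.SpecialLinearGroup.toGL s)⁻¹ := by rw [← hc t, map_mul]; group
          _ = Matrix.SpecialLinearGroup.toGL (c t).1 *
              (Matrix.SpecialLinearGroup.toGL s * g * (Matrix.SpecialLinearGroup.toGL s)⁻¹) := by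
            rw [← mul_assoc (Matrix.SpecialLinearGroup.toGL s), hz.eq]; group
          _ = _ := by rw [hc s, Subgroup.coe_mul, map_mul, ← mul_assoc, hz'.eq])))
    have htriv : ∀ s, c s = 1 := fun s => by
      have h1 : commutator (Matrix.SpecialLinearGroup (Fin n) F) ≤ φ.ker := by
        rw [commutator_def, Subgroup.commutator_le]
        intro a _ b _
        rw [MonoidHom.mem_ker, map_commutatorElement, commutatorElement_eq_one_iff_mul_comm]
        exact Subtype.ext (Subgroup.mem_center_iff.mp (φ b).2 _)
      rw [hperf] at h1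
      exact MonoidHom.mem_ker.mp (h1 (Subgroup.mem_top s))
    have hcomm : ∀ s : Matrix.SpecialLinearGroup (Fin n) F, s.1 * g.1 = g.1 * s.1 := fun s => by
      have := hc s
      rw [htriv s, OneMemClass.coe_one, map_one, one_mul, mul_inv_eq_iff_eq_mul] at this
      exact congrArg Units.val this
    obtain ⟨a, ha⟩ := Matrix.mem_range_scalar_iff_commute_transvectionStruct.mpr fun t =>
      hcomm ⟨t.toMatrix, t.det⟩
    exact ⟨a, by rw [← ha, Matrix.scalar_apply, Matrix.smul_one_eq_diagonal]⟩
  · refine Or.inr ?_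
    rintro x ⟨s, rfl⟩
    have hle : commutator (Matrix.SpecialLinearGroup (Fin n) F) ≤ N := by
      rw [commutator_def, Subgroup.commutator_le]
      intro a _ b _
      obtain ⟨x, hx, hxa⟩ : π a ∈ N.map π := htop ▸ Subgroup.mem_top _
      have hz : x⁻¹ * a ∈ Subgroup.center (Matrix.SpecialLinearGroup (Fin n) F) :=
        QuotientGroup.eq.mp hxa
      set z := x⁻¹ * a
      have ha : a = x * z := (mul_inv_cancel_left x a).symm
      have e : ⁅a, b⁆ = x * (b * x⁻¹ * b⁻¹) := by
        rw [ha, commutatorElement_def, mul_inv_rev, mul_assoc x z b, ← Subgroup.mem_center_iff.mp hz b]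
        group
      rw [e]
      exact mul_mem hx (hNn.conj_mem _ (inv_mem hx) b)
    exact hle (hperf ▸ Subgroup.mem_top s)

end Cfsg.Agent.S2540
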