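import Cfsg.Statements.S2541


set_option autoImplicit false
open Cfsg

namespace Cfsg.Agent.S2541

/-- Let F be a field with 9 elements. The symmetric group S_6 is not isomorphic to PGL_2(F) (although both have index-2 subgroups isomorphic to A_6). -/
theorem result {F : Type*} [Field F] [Fintype F] (hF : Fintype.card F = 9) : ¬ Nonempty (Equiv.Perm (Fin 6) ≃* Matrix.ProjGenLinGroup (Fin 2) F) := by
  rintro ⟨e⟩
  classical
  obtain ⟨w, hw⟩ := IsCyclic.exists_ofOrder_eq_natCard (α := Fˣ)
  rw [Nat.card_units, Nat.card_eq_fintype_card, hF] at hw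
  let d : GL (Fin 2) F := Matrix.GeneralLinearGroup.mkOfDetNeZero (Matrix.diagonal ![(w : F), 1])
    (by rw [Matrix.det_diagonal, Fin.prod_univ_two]; simp)
  have hd : ∀ k : ℕ, (d ^ k).1 = Matrix.diagonal ![(w : F) ^ k, 1] := fun k => by
    rw [Units.val_pow_eq_pow_val]
    show Matrix.diagonal ![(w : F), 1] ^ k = _
    rw [Matrix.diagonal_pow]
    congr 1
    funext i
    fin_cases i <;> simp
  let x : Matrix.ProjGenLinGroup (Fin 2) F := QuotientGroup.mk d
  have hxk : ∀ k : ℕ, x ^ k = QuotientGroup.mk (d ^ k) := fun k => rfl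
  have hx : orderOf x = 2 ^ (2 + 1) := by
    refine orderOf_eq_prime_pow ?_ ?_
    · intro h
      replace h : ((d ^ 2 ^ 2 : GL (Fin 2) F) : GL (Fin 2) F ⧸ Subgroup.center (GL (Fin 2) F)) = 1 :=
        (hxk _).symm.trans h
      rw [QuotientGroup.eq_one_iff] at h
      obtain ⟨r, hr⟩ := Matrix.GeneralLinearGroup.center_eq_range_scalar.le h
      have h00 := congrFun (congrFun (congrArg (fun g : GL (Fin 2) F => g.1) hr) 0) 0
      have h11 := congrFun (congrFun (congrArg (fun g : GL (Fin 2) F => g.1) hr) 1) 1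
      rw [hd] at h00 h11
      simp [Matrix.scalar_apply] at h00 h11
      have h4 : w ^ 4 = 1 := Units.ext (by rw [Units.val_pow_eq_pow_val, ← h00, h11, Units.val_one])
      exact absurd (orderOf_dvd_of_pow_eq_one h4) (by rw [hw]; decide)
    · rw [hxk]
      have : d ^ 2 ^ (2 + 1) = 1 := Units.ext (by
        rw [hd, ← Units.val_pow_eq_pow_val, show 2 ^ (2 + 1) = orderOf w by rw [hw]; rfl,
          pow_orderOf_eq_one, Units.val_one, Units.val_one]
        ext i j
        fin_cases i <;> fin_cases j <;> simp)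
      rw [this]
      rfl
  have hs : orderOf (e.symm x) = 8 := by rw [MulEquiv.orderOf_eq, hx]; rfl
  have h4 : orderOf (e.symm x) ∣ 4 := by
    rw [← Equiv.Perm.lcm_cycleType]
    refine Multiset.lcm_dvd.mpr fun b hb => ?_
    have h1 : b ∣ 8 := hs ▸ Equiv.Perm.dvd_of_mem_cycleType hb
    have h2 : b ≤ 6 := by
      refine (Multiset.le_sum_of_mem hb).trans ?_
      rw [Equiv.Perm.sum_cycleType]
      exact (Finset.card_le_univ _).trans (by simp)
    have : b = 0 ∨ b = 1 ∨ b = 2 ∨ b = 3 ∨ b = 4 ∨ b = 5 ∨ b = 6 := by omega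
    rcases this with h | h | h | h | h | h | h <;> subst h <;> revert h1 <;> decide
  exact absurd (hs ▸ h4) (by decide)

end Cfsg.Agent.S2541
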