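import Cfsg.Statements.S2542
import Cfsg.Agent.S0804
import Cfsg.Agent.Lib.SLCard
import Cfsg.Agent.Lib.Perm.ElevenPoints

set_option autoImplicit false
open Cfsg

namespace Cfsg.Agent.S2542

/-- Let F be a field with 11 elements. PSL_2(F) has a subgroup H of index 11 isomorphic to the alternating group A_5, and the action of PSL_2(F) on the cosets of H is 2-transitive (of degree 11). -/
theorem result {F : Type*} [Field F] [Fintype F] (hF : Fintype.card F = 11) : ∃ H : Subgroup (Matrix.ProjectiveSpecialLinearGroup (Fin 2) F), H.index = 11 ∧ Nonempty (H ≃* alternatingGroup (Fin 5)) ∧ MulAction.IsMultiplyPretransitive (Matrix.ProjectiveSpecialLinearGroup (Fin 2) F) ((Matrix.ProjectiveSpecialLinearGroup (Fin 2) F) ⧸ H) 2 := by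
  classical
  haveI : IsSimpleGroup (Matrix.ProjectiveSpecialLinearGroup (Fin 2) F) :=
    Matrix.ProjectiveSpecialLinearGroup.rank_two_simple (by rw [Nat.card_eq_fintype_card, hF]; norm_num)
  have hG : Nat.card (Matrix.ProjectiveSpecialLinearGroup (Fin 2) F) = 660 := by
    have h := CfsgLib.SLCard.gcd_mul_card_PSL (F := F) (n := 2) (by norm_num)
    rw [CfsgLib.SLCard.card_SL_two, hF] at h
    have h' : 2 * Nat.card (Matrix.ProjectiveSpecialLinearGroup (Fin 2) F) = 1320 := h
    omega
  obtain ⟨H, ⟨e⟩⟩ := (Cfsg.Agent.S0804.result hF).mpr (by norm_num)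
  have hH : Nat.card H = 60 := by
    rw [Nat.card_congr e.toEquiv, nat_card_alternatingGroup, Nat.card_eq_fintype_card, Fintype.card_fin]
    rfl
  have hidx : H.index = 11 := by
    have := H.card_mul_index
    rw [hH, hG] at this
    omega
  exact ⟨H, hidx, ⟨e⟩, CfsgLib.ElevenPoints.two_transitive H hidx e⟩

end Cfsg.Agent.S2542
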