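import Cfsg.Statements.S2548
import Cfsg.Agent.Lib.PolarSteinberg.Orth
import Cfsg.Agent.Lib.PolarSteinberg.OrthSmall
import Cfsg.Agent.Lib.Lagrangian
-- import your own Cfsg.Agent.* helpers here

set_option autoImplicit false
open Cfsg

namespace Cfsg.Agent.S2548

theorem card_two {F : Type*} [Field F] [Fintype F] (h : ¬ ∃ t : F, t ≠ 0 ∧ t ≠ 1) : Fintype.card F = 2 := by
  classical
  push Not at h
  refine le_antisymm ?_ Fintype.one_lt_card
  calc Fintype.card F = (Finset.univ : Finset F).card := Finset.card_univ.symm
    _ ≤ ({0, 1} : Finset F).card := Finset.card_le_card fun t _ => by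
      rcases eq_or_ne t 0 with rfl | ht
      · simp
      · simp [h t ht]
    _ ≤ 2 := Finset.card_le_two

/-- Let F be a finite field of characteristic p and consider the group PΩ⁺_{2m}(F) of the hyperbolic quadratic form Σ x_i y_i with m ≥ 1, where Ω denotes the commutator subgroup of the full isometry group. This group has an irreducible complex character χ whose degree equals the order of a Sylow p-subgroup (equal to q^(m(m−1)) when #F = q, except in the degenerate case m = 2, q = 2, where this commutator subgroup has order 18 and its Sylow 2-subgroups have order 2) and whose restriction to any Sylow p-subgroup P is the regular character of P: χ vanishes on the non-identity elements of P. (This is the Steinberg character.) -/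
theorem result {F : Type*} [Field F] [Fintype F] (p : ℕ) [Fact p.Prime] [CharP F p] (m : ℕ) (hm : 1 ≤ m) : ∃ χ : Cfsg.POmega F (Cfsg.quadFormPlus m F) → ℂ, Cfsg.IsIrrCharacter (Cfsg.POmega F (Cfsg.quadFormPlus m F)) χ ∧ ∀ P : Sylow p (Cfsg.POmega F (Cfsg.quadFormPlus m F)), χ 1 = Nat.card P ∧ ∀ x : Cfsg.POmega F (Cfsg.quadFormPlus m F), x ∈ P → x ≠ 1 → χ x = 0 := by
  classical
  by_cases h4 : (∃ t : F, t ≠ 0 ∧ t ≠ 1) ∨ Fintype.card (Fin m ⊕ Fin m) ≠ 4
  · have e : ⇑(CfsgLib.Lagrangian.Qp m F) = Cfsg.quadFormPlus m F := funext fun v => CfsgLib.Lagrangian.Qp_apply v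
    rw [← e]
    exact CfsgLib.PolarSt.omega_steinberg p _ CfsgLib.Lagrangian.Qp_nondeg (by simp; omega) h4
  · push Not at h4
    have hF := card_two (F := F) (by push Not; exact h4.1)
    have hm2 : m = 2 := by have := h4.2; simp at this; omega
    obtain ⟨f, hp, hf⟩ := FiniteField.card F p
    have hp2 : p = 2 := ((Nat.prime_dvd_prime_iff_eq hp Nat.prime_two).mp (hF ▸ hf ▸ dvd_pow_self p f.ne_zero))
    subst hp2
    subst hm2
    exact CfsgLib.PolarSt.plus_four_two hF

end Cfsg.Agent.S2548
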