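import Cfsg.Statements.S2549
import Cfsg.Agent.Lib.PolarSteinberg.Orth
import Cfsg.Agent.Lib.PolarSteinberg.OrthSmall
import Cfsg.Agent.Lib.StdQuadForms
-- import your own Cfsg.Agent.* helpers here

set_option autoImplicit false
open Cfsg

namespace Cfsg.Agent.S2549

theorem card_two {F : Type*} [Field F] [Fintype F] (h : ¬ ∃ t : F, t ≠ 0 ∧ t ≠ 1) : Fintype.card F = 2 := by
  classical
  push Not at h
  refine le_antisymm ?_ Fintype.one_lt_card
  calc Fintype.card F = (Finset.univ : Finset F).card := Finset.card_univ.symm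
    _ ≤ ({0, 1} : Finset F).card := Finset.card_le_card fun t _ => by
      rcases eq_or_ne t 0 with rfl | ht
      · simp
      · simp [h t ht]
    _ ≤ 2 := Finset.card_le_two

/-- Let F be a finite field of characteristic p and consider the group PΩ⁻_{2m+2}(F) of the quadratic form Σ_{i<m} x_i y_i + (z₁² + a z₁ z₂ + b z₂²) with anisotropic binary part, m ≥ 0. This group has an irreducible complex character χ whose degree equals the order of a Sylow p-subgroup (namely q^(m(m+1)) when #F = q) and whose restriction to any Sylow p-subgroup P is the regular character of P: χ vanishes on the non-identity elements of P. (This is the Steinberg character.) -/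
theorem result {F : Type*} [Field F] [Fintype F] (p : ℕ) [Fact p.Prime] [CharP F p] (m : ℕ) (a b : F) (hab : ∀ z₁ z₂ : F, z₁ ^ 2 + a * z₁ * z₂ + b * z₂ ^ 2 = 0 → z₁ = 0 ∧ z₂ = 0) : ∃ χ : Cfsg.POmega F (Cfsg.quadFormMinus m F a b) → ℂ, Cfsg.IsIrrCharacter (Cfsg.POmega F (Cfsg.quadFormMinus m F a b)) χ ∧ ∀ P : Sylow p (Cfsg.POmega F (Cfsg.quadFormMinus m F a b)), χ 1 = Nat.card P ∧ ∀ x : Cfsg.POmega F (Cfsg.quadFormMinus m F a b), x ∈ P → x ≠ 1 → χ x = 0 := by
  classical
  by_cases h4 : (∃ t : F, t ≠ 0 ∧ t ≠ 1) ∨ Fintype.card ((Fin m ⊕ Fin m) ⊕ Fin 2) ≠ 4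
  · have e : ⇑(CfsgLib.StdQuadForms.Qm m a b) = Cfsg.quadFormMinus m F a b := funext (CfsgLib.StdQuadForms.Qm_apply m a b)
    rw [← e]
    exact CfsgLib.PolarSt.omega_steinberg p _ (CfsgLib.StdQuadForms.Qm_nondeg m hab) (by simp) h4
  · push Not at h4
    have hF := card_two (F := F) (by push Not; exact h4.1)
    have hm1 : m = 1 := by have := h4.2; simp at this; omega
    obtain ⟨f, hp, hf⟩ := FiniteField.card F p
    have hp2 : p = 2 := ((Nat.prime_dvd_prime_iff_eq hp Nat.prime_two).mp (hF ▸ hf ▸ dvd_pow_self p f.ne_zero))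
    subst hp2
    subst hm1
    exact CfsgLib.PolarSt.minus_four_two hF a b hab

end Cfsg.Agent.S2549
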