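import Cfsg.Statements.S2550
import Cfsg.Agent.S2162
import Cfsg.Agent.S2163
import Cfsg.Agent.Lib.SLCard

set_option autoImplicit false
open Cfsg
open scoped Matrix

namespace Cfsg.Agent.S2550

/-- All involutions of `PSL₃(4)` are conjugate. -/
theorem psl3_involutions_conj {K : Type*} [Field K] [Fintype K] [CharP K 2] (hK : Fintype.card K = 4)
    (x y : Matrix.ProjectiveSpecialLinearGroup (Fin 3) K) (hx : orderOf x = 2) (hy : orderOf y = 2) :
    IsConj x y := by
  have lift : ∀ x : Matrix.ProjectiveSpecialLinearGroup (Fin 3) K, orderOf x = 2 →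
      ∃ g : Matrix.SpecialLinearGroup (Fin 3) K, QuotientGroup.mk' _ g = x ∧ orderOf g = 2 ∧
        (g.1 - 1).rank = 1 := by
    intro x hx
    obtain ⟨g, rfl⟩ := QuotientGroup.mk'_surjective _ x
    have hg : g ^ 2 ∈ Subgroup.center (Matrix.SpecialLinearGroup (Fin 3) K) := by
      rw [← QuotientGroup.eq_one_iff]
      exact (map_pow (QuotientGroup.mk' _) g 2).trans
        (orderOf_dvd_iff_pow_eq_one.mp (dvd_of_eq hx))
    have hc3 : (g ^ 2) ^ 3 = 1 := by
      have hcard : Nat.card (Subgroup.center (Matrix.SpecialLinearGroup (Fin 3) K)) = 3 := by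
        rw [CfsgLib.SLCard.card_SL_center (by norm_num), hK]
        rfl
      let z : Subgroup.center (Matrix.SpecialLinearGroup (Fin 3) K) := ⟨g ^ 2, hg⟩
      have hz : z ^ Nat.card (Subgroup.center (Matrix.SpecialLinearGroup (Fin 3) K)) = 1 :=
        pow_card_eq_one'
      rw [hcard] at hz
      exact congrArg Subtype.val hz
    refine ⟨g ^ 3, ?_⟩
    have hmk : QuotientGroup.mk' (Subgroup.center (Matrix.SpecialLinearGroup (Fin 3) K)) (g ^ 3) =
        QuotientGroup.mk' _ g := by
      rw [pow_succ' g 2, map_mul, show QuotientGroup.mk' _ (g ^ 2) = 1 from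
        (QuotientGroup.eq_one_iff _).mpr hg, mul_one]
    have hne : g ^ 3 ≠ 1 := fun h => by
      rw [h, map_one] at hmk
      rw [← hmk, orderOf_one] at hx
      omega
    have hsq : (g ^ 3) ^ 2 = 1 := by rw [← hc3, ← pow_mul, ← pow_mul]
    refine ⟨hmk, orderOf_eq_prime hsq hne, ?_⟩
    set h := g ^ 3
    have hN : (h.1 - 1) * (h.1 - 1) = 0 := by
      have e : h.1 * h.1 = 1 := by
        rw [← Matrix.SpecialLinearGroup.coe_mul, ← sq, hsq, Matrix.SpecialLinearGroup.coe_one]
      rw [Matrix.sub_mul, Matrix.mul_sub, e, Matrix.one_mul, Matrix.mul_one, sub_sub_eq_add_sub,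
        sub_add_eq_add_sub]
      ext i j
      simp [CharTwo.sub_eq_add, CharTwo.add_self_eq_zero]
    have hle : LinearMap.range (h.1 - 1).mulVecLin ≤ LinearMap.ker (h.1 - 1).mulVecLin := by
      rintro _ ⟨v, rfl⟩
      show (h.1 - 1) *ᵥ ((h.1 - 1) *ᵥ v) = 0
      rw [Matrix.mulVec_mulVec, hN, Matrix.zero_mulVec]
    have h1 := LinearMap.finrank_range_add_finrank_ker (h.1 - 1).mulVecLin
    rw [Module.finrank_fin_fun] at h1
    have h2 := Submodule.finrank_mono hle
    have hr : (h.1 - 1).rank = Module.finrank K (LinearMap.range (h.1 - 1).mulVecLin) := rfl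
    have h3 : (h.1 - 1).rank ≠ 0 := fun h0 => by
      refine hne (Subtype.ext (sub_eq_zero.mp (Matrix.mulVec_injective (funext fun v => ?_))))
      have e : (h.1 - 1).mulVecLin = 0 := LinearMap.range_eq_bot.mp (Submodule.finrank_eq_zero.mp h0)
      rw [Matrix.zero_mulVec]
      exact LinearMap.congr_fun e v
    omega
  obtain ⟨a, rfl, ha, har⟩ := lift x hx
  obtain ⟨b, rfl, hb, hbr⟩ := lift y hy
  exact MonoidHom.map_isConj _ ((Cfsg.Agent.S2162.result le_rfl a b ha hb).mpr (har.trans hbr.symm))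


/-- Let F be a field with 2 elements and K a field with 4 elements. PSL_4(F) and PSL_3(K) have the same order (20160) but are not isomorphic. -/
theorem result {F K : Type*} [Field F] [Fintype F] [Field K] [Fintype K] (hF : Fintype.card F = 2) (hK : Fintype.card K = 4) : Nat.card (Matrix.ProjectiveSpecialLinearGroup (Fin 4) F) = Nat.card (Matrix.ProjectiveSpecialLinearGroup (Fin 3) K) ∧ ¬ Nonempty (Matrix.ProjectiveSpecialLinearGroup (Fin 4) F ≃* Matrix.ProjectiveSpecialLinearGroup (Fin 3) K) := by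
  classical
  haveI : CharP F 2 := by
    refine (CharP.charP_iff_prime_eq_zero Nat.prime_two).mpr ?_
    have h := FiniteField.cast_card_eq_zero F
    rwa [hF] at h
  haveI : CharP K 2 := by
    refine (CharP.charP_iff_prime_eq_zero Nat.prime_two).mpr ?_
    have h := FiniteField.cast_card_eq_zero K
    rw [hK, show ((4 : ℕ) : K) = ((2 : ℕ) : K) * ((2 : ℕ) : K) by norm_num] at h
    exact mul_self_eq_zero.mp h
  refine ⟨?_, fun ⟨e⟩ => ?_⟩
  · have hGF := CfsgLib.SLCard.card_units_mul_card_SL (F := F) (n := 4) (by norm_num)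
    have hGK := CfsgLib.SLCard.card_units_mul_card_SL (F := K) (n := 3) (by norm_num)
    have hPF := CfsgLib.SLCard.gcd_mul_card_PSL (F := F) (n := 4) (by norm_num)
    have hPK := CfsgLib.SLCard.gcd_mul_card_PSL (F := K) (n := 3) (by norm_num)
    rw [Matrix.card_GL_field, Fin.prod_univ_four] at hGF
    rw [Matrix.card_GL_field, Fin.prod_univ_three] at hGK
    rw [hF] at hGF hPF
    rw [hK] at hGK hPK
    norm_num at hGF hGK hPF hPK
    simp only [Nat.card_eq_fintype_card]
    omega
  · obtain ⟨a, -, ha2, har⟩ := Cfsg.Agent.S2163.result (F := F) (n := 4) (by norm_num) 1 le_rfl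
      (by norm_num)
    obtain ⟨b, -, hb2, hbr⟩ := Cfsg.Agent.S2163.result (F := F) (n := 4) (by norm_num) 2 (by norm_num)
      le_rfl
    have hbot : Subgroup.center (Matrix.SpecialLinearGroup (Fin 4) F) = ⊥ := by
      refine Subgroup.card_eq_one.mp ?_
      rw [CfsgLib.SLCard.card_SL_center (by norm_num), hF]
      rfl
    have hinj : Function.Injective
        (QuotientGroup.mk' (Subgroup.center (Matrix.SpecialLinearGroup (Fin 4) F))) := by
      rw [← MonoidHom.ker_eq_bot_iff, QuotientGroup.ker_mk', hbot]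
    have hord : ∀ x : Matrix.SpecialLinearGroup (Fin 4) F, orderOf x = 2 →
        orderOf (e (QuotientGroup.mk' _ x)) = 2 := fun x hx => by
      rw [MulEquiv.orderOf_eq, orderOf_injective _ hinj, hx]
    obtain ⟨z, hz⟩ := isConj_iff.mp (psl3_involutions_conj hK _ _ (hord a ha2) (hord b hb2))
    obtain ⟨z, rfl⟩ := e.surjective z
    rw [← map_inv, ← map_mul, ← map_mul] at hz
    obtain ⟨w, rfl⟩ := QuotientGroup.mk'_surjective _ z
    have h := e.injective hz
    rw [← map_inv, ← map_mul, ← map_mul] at h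
    have h' := (Cfsg.Agent.S2162.result (by norm_num) a b ha2 hb2).mp (isConj_iff.mpr ⟨w, hinj h⟩)
    rw [har, hbr] at h'
    omega

end Cfsg.Agent.S2550
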