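import Cfsg.Statements.S2551
import Cfsg.Agent.Lib.SmallSimple.GL4A7

set_option autoImplicit false
open Cfsg

namespace Cfsg.Agent.S2551

/-- Let F be the field with 2 elements. GL_4(F) (≅ A_8) has a subgroup isomorphic to the alternating group A_7, and every such subgroup acts 2-transitively on the 15 non-zero vectors of F⁴: any ordered pair of distinct non-zero vectors is carried to any other by some element of the subgroup. -/
theorem result {F : Type*} [Field F] [Fintype F] (hF : Fintype.card F = 2) : (∃ H : Subgroup (Matrix.GeneralLinearGroup (Fin 4) F), Nonempty (H ≃* alternatingGroup (Fin 7))) ∧ ∀ H : Subgroup (Matrix.GeneralLinearGroup (Fin 4) F), Nonempty (H ≃* alternatingGroup (Fin 7)) → ∀ v w v' w' : Fin 4 → F, v ≠ 0 → w ≠ 0 → v ≠ w → v' ≠ 0 → w' ≠ 0 → v' ≠ w' → ∃ g ∈ H, (g : Matrix (Fin 4) (Fin 4) F).mulVec v = v' ∧ (g : Matrix (Fin 4) (Fin 4) F).mulVec w = w' := by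
  haveI : Fact (Nat.Prime 2) := ⟨Nat.prime_two⟩
  let e : ZMod 2 ≃+* F := ZMod.ringEquivOfPrime F Nat.prime_two hF
  let E : GL (Fin 4) (ZMod 2) ≃* GL (Fin 4) F :=
    Units.mapEquiv ((RingEquiv.mapMatrix e : Matrix (Fin 4) (Fin 4) (ZMod 2) ≃+* Matrix (Fin 4) (Fin 4) F).toMulEquiv)
  constructor
  · obtain ⟨H, ⟨i⟩⟩ := CfsgLib.GL4A7.exists_A7
    exact ⟨H.map E.toMonoidHom, ⟨(H.equivMapOfInjective E.toMonoidHom E.injective).symm.trans i⟩⟩
  intro H hH v w v' w' hv hw hvw hv' hw' hvw'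
  obtain ⟨i⟩ := hH
  let H0 : Subgroup (GL (Fin 4) (ZMod 2)) := H.map E.symm.toMonoidHom
  have i0 : Nonempty (H0 ≃* alternatingGroup (Fin 7)) :=
    ⟨(H.equivMapOfInjective E.symm.toMonoidHom E.symm.injective).symm.trans i⟩
  let d : (Fin 4 → F) → (Fin 4 → ZMod 2) := fun x => e.symm ∘ x
  have hd : Function.Injective d := fun x y h => funext fun k => e.symm.injective (congrFun h k)
  have hd0 : ∀ x, x ≠ 0 → d x ≠ 0 := fun x hx h => hx (hd (h.trans (funext fun k => (map_zero e.symm).symm)))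
  obtain ⟨g0, hg0, h1, h2⟩ := CfsgLib.GL4A7.two_transitive H0 i0 (d v) (d w) (d v') (d w') (hd0 v hv) (hd0 w hw)
    (hd.ne hvw) (hd0 v' hv') (hd0 w' hw') (hd.ne hvw')
  obtain ⟨g, hg, rfl⟩ := hg0
  have key : ∀ x y : Fin 4 → F, ((E.symm g : GL (Fin 4) (ZMod 2)) : Matrix (Fin 4) (Fin 4) (ZMod 2)).mulVec (d x) = d y →
      (g : Matrix (Fin 4) (Fin 4) F).mulVec x = y := by
    intro x y h
    apply hd
    rw [← h]
    funext k
    exact RingHom.map_mulVec e.symm.toRingHom (g : Matrix (Fin 4) (Fin 4) F) x k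
  exact ⟨g, hg, key v v' h1, key w w' h2⟩

end Cfsg.Agent.S2551
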