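import Cfsg.Statements.S2552
import Cfsg.Agent.Lib.PSLn.Extend
-- import your own Cfsg.Agent.* helpers here

set_option autoImplicit false
open Cfsg

namespace Cfsg.Agent.S2552

/-- Let F be a finite field and n ≥ 1. For every k, the special linear group SL_n(F) acts transitively on the set of k-dimensional subspaces of F^n: any two subspaces of the same dimension are carried onto each other by some matrix of determinant 1. -/
theorem result {F : Type*} [Field F] [Fintype F] (n : ℕ) (hn : 1 ≤ n) (U₁ U₂ : Submodule F (Fin n → F)) (h : Module.finrank F U₁ = Module.finrank F U₂) : ∃ g : Matrix.SpecialLinearGroup (Fin n) F, U₁.map ((Matrix.SpecialLinearGroup.toLin' g : (Fin n → F) ≃ₗ[F] (Fin n → F)) : (Fin n → F) →ₗ[F] (Fin n → F)) = U₂ := by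
  classical
  obtain ⟨g, -, hg⟩ := CfsgLib.PSLn.exists_equiv_extend (LinearEquiv.ofFinrankEq U₁ U₂ h)
  obtain ⟨M, hM⟩ := CfsgLib.PSLn.exists_GL_of_linearEquiv g
  rcases eq_or_ne U₂ ⊥ with h2 | h2
  · have h1 : U₁ = ⊥ := Submodule.finrank_eq_zero.mp (by rw [h, h2, finrank_bot])
    exact ⟨1, by rw [h1, h2, Submodule.map_bot]⟩
  obtain ⟨v, hv, hv0⟩ := U₂.ne_bot_iff.mp h2
  obtain ⟨j, hj⟩ := Function.ne_iff.mp hv0
  rw [Pi.zero_apply] at hj
  set d := M.1.det with hd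
  have hd0 : d ≠ 0 := ((Matrix.isUnit_iff_isUnit_det _).mp M.isUnit).ne_zero
  let φ : Fin n → F := Pi.single j ((d⁻¹ - 1) * (v j)⁻¹)
  let A : Matrix.SpecialLinearGroup (Fin n) F := ⟨(1 + Matrix.vecMulVec v φ) * M.1, by
    rw [Matrix.det_mul, CfsgLib.PSLn.det_one_add_vec, single_dotProduct, mul_assoc,
      inv_mul_cancel₀ hj, mul_one, add_sub_cancel, inv_mul_cancel₀ hd0]⟩
  refine ⟨A, ?_⟩
  set f : (Fin n → F) →ₗ[F] (Fin n → F) :=
    ((Matrix.SpecialLinearGroup.toLin' A : (Fin n → F) ≃ₗ[F] (Fin n → F)) :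
      (Fin n → F) →ₗ[F] (Fin n → F))
  have hf : ∀ x, f x = A.1.mulVec x := fun x => rfl
  refine Submodule.eq_of_le_of_finrank_eq ?_ ?_
  · rintro _ ⟨x, hx, rfl⟩
    rw [hf]
    show ((1 + Matrix.vecMulVec v φ) * M.1).mulVec x ∈ U₂
    rw [← Matrix.mulVec_mulVec, Matrix.add_mulVec, Matrix.one_mulVec, Matrix.vecMulVec_mulVec,
      hM, op_smul_eq_smul]
    have hgx : g x ∈ U₂ := hg ▸ ⟨x, hx, rfl⟩
    exact add_mem hgx (U₂.smul_mem _ hv)
  · exact (LinearEquiv.finrank_map_eq _ U₁).trans h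

end Cfsg.Agent.S2552
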