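import Cfsg.Statements.S2553
import Mathlib
import Cfsg.Agent.Lib.SmallSimple.GL4Subgroups

set_option autoImplicit false
open Cfsg

namespace Cfsg.Agent.S2553



/-- Let H be a nontrivial subgroup of GL(4,2) (a group isomorphic to the alternating group of degree 8) whose largest normal 2-subgroup and largest normal subgroup of odd order are both trivial. Then H is isomorphic to an alternating group of degree n for some 5 ≤ n ≤ 8, to the symmetric group of degree 5 or 6, or to GL(3,2). -/
theorem result (H : Subgroup (GL (Fin 4) (ZMod 2))) (hH : H ≠ ⊥) (hO : Cfsg.pPrimeCore 2 ↥H = ⊥) (hO2 : Cfsg.pCore 2 ↥H = ⊥) :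
    (∃ n : ℕ, 5 ≤ n ∧ n ≤ 8 ∧ Nonempty (↥H ≃* alternatingGroup (Fin n))) ∨
    Nonempty (↥H ≃* Equiv.Perm (Fin 5)) ∨ Nonempty (↥H ≃* Equiv.Perm (Fin 6)) ∨ Nonempty (↥H ≃* GL (Fin 3) (ZMod 2)) := by
  refine CfsgLib.EightSubgroups.listed_of_radFree hH ?_
  intro N hN hs
  by_contra hne
  haveI := hs
  haveI := hN
  -- the last nontrivial term of the derived series is abelian and normal
  obtain ⟨A, hA, hAne, hAab⟩ : ∃ A : Subgroup ↥H, A.Normal ∧ A ≠ ⊥ ∧ IsMulCommutative A := by
    obtain ⟨n, hn⟩ := (Group.isSolvable_def _).mp hs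
    classical
    let m := Nat.find (p := fun n => derivedSeries N n = ⊥) ⟨n, hn⟩
    have hm : derivedSeries N m = ⊥ := Nat.find_spec (p := fun n => derivedSeries N n = ⊥) ⟨n, hn⟩
    have hm0 : m ≠ 0 := by
      intro e
      rw [e, derivedSeries_zero] at hm
      apply hne
      rw [← Subgroup.card_eq_one, ← Subgroup.card_top, hm, Subgroup.card_bot]
    have hchar : (derivedSeries N (m - 1)).Characteristic := derivedSeries_characteristic N _
    refine ⟨(derivedSeries N (m - 1)).map N.subtype, inferInstance, ?_, ?_⟩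
    · rw [Ne, Subgroup.map_eq_bot_iff_of_injective _ N.subtype_injective]
      exact Nat.find_min (p := fun n => derivedSeries N n = ⊥) ⟨n, hn⟩ (show m - 1 < m by omega)
    · have hc : ⁅derivedSeries N (m - 1), derivedSeries N (m - 1)⁆ = ⊥ := by
        rw [← derivedSeries_succ, show m - 1 + 1 = m by omega, hm]
      refine ⟨⟨fun ⟨a, x, hx, hxa⟩ ⟨b, y, hy, hyb⟩ => Subtype.ext ?_⟩⟩
      show a * b = b * a
      rw [← hxa, ← hyb, ← map_mul, ← map_mul]
      exact congrArg _ (commutatorElement_eq_one_iff_mul_comm.mp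
        (Subgroup.mem_bot.mp (hc ▸ Subgroup.commutator_mem_commutator hx hy)))
  obtain ⟨p, hp, hpA⟩ := Nat.exists_prime_and_dvd (fun e => hAne (Subgroup.card_eq_one.mp e))
  haveI := Fact.mk hp
  haveI := hA
  obtain ⟨P⟩ : Nonempty (Sylow p A) := inferInstance
  have hAn : (P : Subgroup A).Normal := ⟨fun x hx g => by
    rw [show g * x * g⁻¹ = x by rw [hAab.is_comm.comm g x, mul_inv_cancel_right]]; exact hx⟩
  haveI := P.characteristic_of_normal hAn
  haveI : ((P : Subgroup A).map A.subtype).Normal := inferInstance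
  have hpg : IsPGroup p ((P : Subgroup A).map A.subtype) := P.2.map A.subtype
  have hbot : (P : Subgroup A).map A.subtype = ⊥ := by
    rw [eq_bot_iff]
    by_cases h2 : p = 2
    · subst h2; rw [← hO2]; exact CfsgLib.le_pCore hpg
    · rw [← hO]
      refine CfsgLib.le_pPrimeCore ?_
      obtain ⟨k, hk⟩ := hpg.exists_card_eq
      rw [hk]
      exact ((Nat.coprime_primes hp Nat.prime_two).mpr h2).pow_left k
  have h1 : Nat.card (P : Subgroup A) = 1 := by
    rw [← Subgroup.card_map_of_injective A.subtype_injective, hbot, Subgroup.card_bot]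
  have := P.dvd_card_of_dvd_card hpA
  rw [h1] at this
  exact hp.ne_one (Nat.dvd_one.mp this)

end Cfsg.Agent.S2553
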