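import Cfsg.Statements.S2555
import Cfsg.Agent.S2554
import Cfsg.Agent.S2065
import Cfsg.Agent.Lib.WalterUse.FixSylow
-- import your own Cfsg.Agent.* helpers here

set_option autoImplicit false
open Cfsg

namespace Cfsg.Agent.S2555

/-- Let G be a non-abelian finite simple group all of whose Sylow subgroups are abelian, r a prime dividing |G|, and α an automorphism of G whose order is a power of r. If α fixes some Sylow r-subgroup of G elementwise, then α is an inner automorphism. -/
theorem result {G : Type*} [Group G] [Finite G]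
    [IsSimpleGroup G] (hna : ¬ IsMulCommutative G)
    (hA : ∀ (p : ℕ), p.Prime → ∀ (P : Sylow p G), IsMulCommutative ↥P)
    (r : ℕ) [Fact r.Prime] (hr : r ∣ Nat.card G) (α : G ≃* G) (k : ℕ) (hα : orderOf α = r ^ k)
    (R : Sylow r G) (hR : ∀ x ∈ (R : Subgroup G), α x = x) :
    ∃ g : G, ∀ x : G, α x = g * x * g⁻¹ := by
  classical
  obtain hJ | ⟨F, _, _, h3, hq, ⟨e⟩⟩ := Cfsg.Agent.S2554.result hna hA
  · obtain ⟨hIso⟩ : Nonempty (G ≃* ↥Cfsg.Spor.J1) := hJ
    have hsub : Subsingleton (Cfsg.Out ↥Cfsg.Spor.J1) := (Nat.card_eq_one_iff_unique.mp Cfsg.Agent.S2065.result).1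
    let φ : MulAut ↥Cfsg.Spor.J1 := (hIso.symm.trans α).trans hIso
    obtain ⟨x, hx⟩ : φ ∈ Cfsg.Inn ↥Cfsg.Spor.J1 :=
      (QuotientGroup.eq_one_iff φ).mp (Subsingleton.elim _ _)
    refine ⟨hIso.symm x, fun y => hIso.injective ?_⟩
    have := DFunLike.congr_fun hx (hIso y)
    simp only [MulAut.conj_apply, φ, MulEquiv.trans_apply, MulEquiv.symm_apply_apply] at this
    rw [map_mul, map_mul, map_inv, MulEquiv.apply_symm_apply, this]
  · obtain ⟨p, hp⟩ := CharP.exists F
    haveI := hp
    haveI : Fact p.Prime := ⟨(CharP.char_is_prime_or_zero F p).resolve_right (CharP.char_ne_zero_of_finite F p)⟩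
    let f : MulAut G ≃* MulAut (Matrix.ProjectiveSpecialLinearGroup (Fin 2) F) := MulAut.congr e
    let R' : Sylow r (Matrix.ProjectiveSpecialLinearGroup (Fin 2) F) := R.mapSurjective (f := e.toMonoidHom) e.surjective
    obtain ⟨x, hx⟩ := CfsgLib.WalterUse.inner_of_fix_sylow p (φ := f α) (k := k) (r := r) (by omega) hq
      (by rw [← Nat.card_congr e.toEquiv]; exact hr) (by rw [MulEquiv.orderOf_eq]; exact hα) R' (by
        rintro _ ⟨a, ha, rfl⟩
        show e (α (e.symm (e a))) = e a
        rw [e.symm_apply_apply, hR a ha])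
    refine ⟨e.symm x, fun y => e.injective ?_⟩
    have h1 : x * e y * x⁻¹ = e (α (e.symm (e y))) := DFunLike.congr_fun hx (e y)
    rw [map_mul, map_mul, map_inv, MulEquiv.apply_symm_apply, h1, e.symm_apply_apply]

end Cfsg.Agent.S2555
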