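import Cfsg.Statements.S2556
import Cfsg.Agent.Lib.Suzuki.Lie
import Cfsg.Agent.Lib.Suzuki.SylowAut

set_option autoImplicit false
open Cfsg

namespace Cfsg.Agent.S2556

/-- Let S be a Sylow 2-subgroup of the Suzuki group Sz(q), q = 2ⁿ with n = 2m + 1 ≥ 3 (realised as 4 × 4 matrices over the field with q elements). Then the largest normal 2-subgroup of the automorphism group of S is elementary abelian of order 2^(n²), and the automorphism group of S has order 2^(n²) · n · (q − 1). -/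
theorem result {S : Type*} [Group S] [Finite S] (m : ℕ) (hm : 1 ≤ m)
    {F : Type*} [Field F] [Fintype F] (hF : Fintype.card F = 2 ^ (2 * m + 1))
    (P : Sylow 2 ↥(Cfsg.Lie.Sz F (2 ^ (m + 1)))) (hS : Nonempty (S ≃* ↥(P : Subgroup ↥(Cfsg.Lie.Sz F (2 ^ (m + 1)))))) :
    Cfsg.IsElementaryAbelian 2 (Cfsg.pCore 2 (MulAut S)) ∧ Nat.card ↥(Cfsg.pCore 2 (MulAut S)) = 2 ^ ((2 * m + 1) ^ 2) ∧
      Nat.card (MulAut S) = 2 ^ ((2 * m + 1) ^ 2) * ((2 * m + 1) * (2 ^ (2 * m + 1) - 1)) := by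
  haveI : Fact (Nat.Prime 2) := ⟨Nat.prime_two⟩
  let e := CfsgLib.Suzuki.lieEquiv hF hm
  let P' : Subgroup ↥(Cfsg.Sz F m) :=
    (P : Subgroup ↥(Cfsg.Lie.Sz F (2 ^ (m + 1)))).map e.symm.toMonoidHom
  have hidx : ¬ 2 ∣ P'.index := by
    show ¬ 2 ∣ ((P : Subgroup ↥(Cfsg.Lie.Sz F (2 ^ (m + 1)))).map
      (e.symm : ↥(Cfsg.Lie.Sz F (2 ^ (m + 1))) →* ↥(Cfsg.Sz F m))).index
    rw [Subgroup.index_map_equiv]
    exact P.not_dvd_index
  let Q : Sylow 2 ↥(Cfsg.Sz F m) := IsPGroup.toSylow (P.isPGroup'.map e.symm.toMonoidHom) hidx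
  obtain ⟨f⟩ := CfsgLib.Suzuki.sylow_equiv_U hF hm Q
  obtain ⟨eS⟩ := hS
  exact CfsgLib.Suzuki.sylow_aut hF hm (eS.trans ((show _ ≃* ↥(Q : Subgroup ↥(Cfsg.Sz F m)) from
    (P : Subgroup ↥(Cfsg.Lie.Sz F (2 ^ (m + 1)))).equivMapOfInjective e.symm.toMonoidHom e.symm.injective).trans f))

end Cfsg.Agent.S2556
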