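import Cfsg.Statements.S2557
import Cfsg.Agent.Lib.IsometryTwo.Symplectic
import Cfsg.Agent.Lib.SemisimpleCount.Symplectic

set_option autoImplicit false
open Cfsg

namespace Cfsg.Agent.S2557

/-- The number of conjugacy classes of Sp(2n,q), q even: for F a finite field of even order q and n ≥ 1, the number k of conjugacy classes of Sp(2n,F) satisfies q^n ≤ k ≤ 15.2·q^n. -/
theorem result {F : Type*} [Field F] [Fintype F] (heven : Even (Fintype.card F)) (n : ℕ) (hn : 1 ≤ n) :
    Fintype.card F ^ n ≤ Nat.card (ConjClasses (Matrix.symplecticGroup (Fin n) F)) ∧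
      5 * Nat.card (ConjClasses (Matrix.symplecticGroup (Fin n) F)) ≤ 76 * Fintype.card F ^ n := by
  classical
  obtain ⟨p, hp⟩ := CharP.exists F
  haveI : Fact p.Prime := ⟨CharP.char_is_prime F p⟩
  have h2 : (2 : F) = 0 := by
    have h1 := FiniteField.even_card_iff_char_two.mpr (Nat.even_iff.mp heven)
    have h3 : ((ringChar F : ℕ) : F) = 0 := ringChar.Nat.cast_ringChar
    rw [h1] at h3
    exact_mod_cast h3
  haveI : Finite (Matrix (Fin n ⊕ Fin n) (Fin n ⊕ Fin n) F) := inferInstanceAs (Finite (_ → _ → F))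
  haveI : Finite ↥(Matrix.symplecticGroup (Fin n) F) := Subtype.finite
  refine ⟨?_, ?_⟩
  · rw [← CfsgLib.SemisimpleCount.card_sp (F := F) rfl p n]
    exact Nat.card_le_card_of_injective _ Subtype.val_injective
  · have h := CfsgLib.IsometryTwo.sp_classes_le_two h2 n
    have h' : ((5 * Nat.card (ConjClasses (Matrix.symplecticGroup (Fin n) F)) : ℕ) : ℚ) ≤
        ((76 * Fintype.card F ^ n : ℕ) : ℚ) := by
      push_cast
      linarith
    exact_mod_cast h'

end Cfsg.Agent.S2557
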