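import Cfsg.Statements.S2558
import Cfsg.Agent.Lib.IsometryClasses.OrLower
import Cfsg.Agent.Lib.FiniteForms.Standard
-- import your own Cfsg.Agent.* helpers here

set_option autoImplicit false
open Cfsg

namespace Cfsg.Agent.S2558

open Matrix in
theorem isometry_eq_og {F : Type*} [Field F] [Fintype F] {ι : Type} [Fintype ι] [DecidableEq ι] (h2 : (2 : F) ≠ 0)
    {Q : (ι → F) → F} {M : Matrix ι ι F} (hM : ∀ u v, QuadraticMap.polar Q u v = u ⬝ᵥ (M *ᵥ v))
    (hQ : ∀ v, Q (v + v) = 4 * Q v) : Cfsg.isometryGroup F Q = CfsgLib.IsometryClasses.OG M := by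
  have h2Q : ∀ v, 2 * Q v = v ⬝ᵥ (M *ᵥ v) := fun v => by
    rw [← hM, QuadraticMap.polar, hQ]; ring
  have hkey : ∀ (g : Matrix ι ι F) (u v : ι → F), (g *ᵥ u) ⬝ᵥ (M *ᵥ (g *ᵥ v)) = u ⬝ᵥ ((gᵀ * M * g) *ᵥ v) :=
    fun g u v => by
      rw [← Matrix.vecMul_transpose, ← Matrix.dotProduct_mulVec, Matrix.mulVec_mulVec, Matrix.mulVec_mulVec]
  refine Subgroup.ext fun g => ⟨fun hg => ?_, fun hg => ?_⟩
  · have hg' : ∀ v, Q (g.1 *ᵥ v) = Q v := fun v => hg v v
    show g.1ᵀ * M * g.1 = M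
    refine Matrix.ext fun i j => ?_
    have h : (g.1 *ᵥ Pi.single i 1) ⬝ᵥ (M *ᵥ (g.1 *ᵥ Pi.single j 1)) = Pi.single i 1 ⬝ᵥ (M *ᵥ Pi.single j 1) := by
      rw [← hM, ← hM, QuadraticMap.polar, QuadraticMap.polar, ← Matrix.mulVec_add, hg', hg', hg']
    rw [hkey] at h
    simpa [Matrix.mulVec_single_one] using h
  · intro u _
    show Q (g.1 *ᵥ u) = Q u
    refine mul_left_cancel₀ h2 ?_
    rw [h2Q, h2Q, hkey, show g.1ᵀ * M * g.1 = M from hg]

/-- The number of conjugacy classes of the full orthogonal groups O⁺(2n,q) and O⁻(2n,q), q odd, 2n ≥ 4: for F a finite field of odd order q and n ≥ 2, the number k of conjugacy classes of the isometry group of the hyperbolic quadratic form Σ xᵢyᵢ on F^{2n}, and likewise of the elliptic form Σ xᵢyᵢ + (z₁² + a z₁z₂ + b z₂²) with anisotropic binary part, satisfies q^n/2 ≤ k ≤ 9.5·q^n. -/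
theorem result {F : Type*} [Field F] [Fintype F] (hodd : Odd (Fintype.card F)) (n : ℕ) (hn : 2 ≤ n) (a b : F) (hab : ∀ z₁ z₂ : F, z₁ ^ 2 + a * z₁ * z₂ + b * z₂ ^ 2 = 0 → z₁ = 0 ∧ z₂ = 0) :
    (Fintype.card F ^ n ≤ 2 * Nat.card (ConjClasses ↥(Cfsg.isometryGroup F (Cfsg.quadFormPlus n F))) ∧
      2 * Nat.card (ConjClasses ↥(Cfsg.isometryGroup F (Cfsg.quadFormPlus n F))) ≤ 19 * Fintype.card F ^ n) ∧
    (Fintype.card F ^ n ≤ 2 * Nat.card (ConjClasses ↥(Cfsg.isometryGroup F (Cfsg.quadFormMinus (n - 1) F a b))) ∧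
      2 * Nat.card (ConjClasses ↥(Cfsg.isometryGroup F (Cfsg.quadFormMinus (n - 1) F a b))) ≤ 19 * Fintype.card F ^ n) := by
    have h2 := CfsgLib.FiniteForms.two_ne_zero_of_odd (F := F) rfl hodd
    have hq : 3 ≤ Fintype.card F := by
      obtain ⟨j, hj⟩ := hodd
      have := Fintype.one_lt_card (α := F)
      omega
    constructor
    · rw [isometry_eq_og h2 (CfsgLib.FiniteForms.polar_plus n) (fun v => by
        simp only [Cfsg.quadFormPlus, Pi.add_apply, Finset.mul_sum]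
        exact Finset.sum_congr rfl fun i _ => by ring)]
      have hdet : (CfsgLib.FiniteForms.hypMat F n).det ≠ 0 := by
        rw [CfsgLib.FiniteForms.det_hypMat]; exact pow_ne_zero _ (neg_ne_zero.mpr one_ne_zero)
      have hc : Fintype.card (Fin n ⊕ Fin n) = 2 * n := by rw [Fintype.card_sum, Fintype.card_fin]; ring
      refine ⟨CfsgLib.IsometryClasses.le_og_classes h2 _ (CfsgLib.FiniteForms.hypMat_isSymm n) hdet hn hc, ?_⟩
      exact (CfsgLib.IsometryClasses.og_classes_le h2 _ (CfsgLib.FiniteForms.hypMat_isSymm n) hdet hc).trans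
        (CfsgLib.IsometryClasses.oCount_le _ hq n n)
    · rw [isometry_eq_og h2 (CfsgLib.FiniteForms.polar_minus (n - 1) a b) (fun v => by
        simp only [Cfsg.quadFormMinus, Pi.add_apply, mul_add, Finset.mul_sum]
        congr 1
        · exact Finset.sum_congr rfl fun i _ => by ring
        · ring)]
      have hdet : (CfsgLib.FiniteForms.ellMat (n - 1) a b).det ≠ 0 := by
        rw [CfsgLib.FiniteForms.det_ellMat]
        refine mul_ne_zero (pow_ne_zero _ (neg_ne_zero.mpr one_ne_zero)) fun h => ?_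
        exact CfsgLib.FiniteForms.not_isSquare_of_anisotropic h2 hab ⟨0, by linear_combination -h⟩
      have hsym : (CfsgLib.FiniteForms.ellMat (n - 1) a b).IsSymm :=
        Matrix.IsSymm.fromBlocks (CfsgLib.FiniteForms.hypMat_isSymm _) (by simp) (Matrix.IsSymm.ext fun i j => by
          fin_cases i <;> fin_cases j <;> rfl)
      have hc : Fintype.card ((Fin (n - 1) ⊕ Fin (n - 1)) ⊕ Fin 2) = 2 * n := by
        rw [Fintype.card_sum, Fintype.card_sum, Fintype.card_fin, Fintype.card_fin]; omega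
      refine ⟨CfsgLib.IsometryClasses.le_og_classes h2 _ hsym hdet hn hc, ?_⟩
      exact (CfsgLib.IsometryClasses.og_classes_le h2 _ hsym hdet hc).trans
        (CfsgLib.IsometryClasses.oCount_le _ hq n n)

end Cfsg.Agent.S2558
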