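import Cfsg.Statements.S2559
import Cfsg.Agent.Lib.IsometryTwoQ.Upper
import Cfsg.Agent.Lib.IsometryTwoQ.Lower
import Cfsg.Agent.Lib.StdQuadForms

set_option autoImplicit false
open Cfsg

namespace Cfsg.Agent.S2559

/-- The number of conjugacy classes of the full orthogonal groups O⁺(2n,q) and O⁻(2n,q), q even, 2n ≥ 4: for F a finite field of even order q and n ≥ 2, the number k of conjugacy classes of the isometry group of the hyperbolic quadratic form Σ xᵢyᵢ on F^{2n}, and likewise of the elliptic form Σ xᵢyᵢ + (z₁² + a z₁z₂ + b z₂²) with anisotropic binary part, satisfies q^n/2 ≤ k ≤ 15·q^n. -/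
theorem result {F : Type*} [Field F] [Fintype F] (heven : Even (Fintype.card F)) (n : ℕ) (hn : 2 ≤ n) (a b : F) (hab : ∀ z₁ z₂ : F, z₁ ^ 2 + a * z₁ * z₂ + b * z₂ ^ 2 = 0 → z₁ = 0 ∧ z₂ = 0) :
    (Fintype.card F ^ n ≤ 2 * Nat.card (ConjClasses ↥(Cfsg.isometryGroup F (Cfsg.quadFormPlus n F))) ∧
      Nat.card (ConjClasses ↥(Cfsg.isometryGroup F (Cfsg.quadFormPlus n F))) ≤ 15 * Fintype.card F ^ n) ∧
    (Fintype.card F ^ n ≤ 2 * Nat.card (ConjClasses ↥(Cfsg.isometryGroup F (Cfsg.quadFormMinus (n - 1) F a b))) ∧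
      Nat.card (ConjClasses ↥(Cfsg.isometryGroup F (Cfsg.quadFormMinus (n - 1) F a b))) ≤ 15 * Fintype.card F ^ n) := by
  classical
  have h2 : (2 : F) = 0 := by
    have hc : ringChar F = 2 := FiniteField.even_card_iff_char_two.mpr (Nat.even_iff.mp heven)
    haveI : CharP F 2 := hc ▸ ringChar.charP F
    exact CharTwo.two_eq_zero
  have key : ∀ {ι : Type} [Fintype ι] [DecidableEq ι] (Q : QuadraticForm F (ι → F)) (Q' : (ι → F) → F),
      (∀ v, Q v = Q' v) → (QuadraticMap.polarBilin Q).Nondegenerate → Fintype.card ι = 2 * n →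
      Fintype.card F ^ n ≤ 2 * Nat.card (ConjClasses ↥(Cfsg.isometryGroup F Q')) ∧
        Nat.card (ConjClasses ↥(Cfsg.isometryGroup F Q')) ≤ 15 * Fintype.card F ^ n := by
    intro ι _ _ Q Q' he hnd hc
    obtain rfl : (Q : (ι → F) → F) = Q' := funext he
    rw [CfsgLib.IsometryTwoQ.card_classes_congr (CfsgLib.IsometryTwoQ.isometryEquiv (Q : (ι → F) → F))]
    have hV : Module.finrank F (ι → F) = 2 * n := by rw [Module.finrank_pi, hc]
    have hQ : CfsgLib.FiniteForms.PolarNondeg Q := fun x hx => hnd.1 x hx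
    exact ⟨CfsgLib.IsometryTwoQ.classes_lower h2 hQ hn hV, CfsgLib.IsometryTwoQ.classes_upper h2 hQ hV⟩
  constructor
  · exact key _ _ (fun v => CfsgLib.Lagrangian.Qp_apply v) CfsgLib.Lagrangian.Qp_nondeg (by simp; ring)
  · exact key _ _ (fun v => CfsgLib.StdQuadForms.Qm_apply (n - 1) a b v) (CfsgLib.StdQuadForms.Qm_nondeg (n - 1) hab)
      (by simp; omega)

end Cfsg.Agent.S2559
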