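import Cfsg.Statements.S2560
import Cfsg.Agent.Lib.IsometryClasses.OmegaOddBounds
import Cfsg.Agent.Lib.StdQuadForms
import Cfsg.Agent.Lib.FiniteForms.Standard
-- import your own Cfsg.Agent.* helpers here

set_option autoImplicit false
open Cfsg

namespace Cfsg.Agent.S2560

/-- The number of conjugacy classes of Ω(2n+1,q), q odd, n ≥ 2: for F a finite field of odd order q, the number k of conjugacy classes of the commutator subgroup of the isometry group of the quadratic form x₀² + Σ xᵢyᵢ on F^{2n+1} satisfies q^n/2 ≤ k ≤ 7.3·q^n. -/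
theorem result {F : Type*} [Field F] [Fintype F] (hodd : Odd (Fintype.card F)) (n : ℕ) (hn : 2 ≤ n) :
    Fintype.card F ^ n ≤ 2 * Nat.card (ConjClasses ↥(Cfsg.Omega F (Cfsg.quadFormOdd n F))) ∧
      10 * Nat.card (ConjClasses ↥(Cfsg.Omega F (Cfsg.quadFormOdd n F))) ≤ 73 * Fintype.card F ^ n := by
    classical
    have h2 : (2 : F) ≠ 0 := CfsgLib.FiniteForms.two_ne_zero_of_odd (F := F) rfl hodd
    have hq : 3 ≤ Fintype.card F := by
      obtain ⟨j, hj⟩ := hodd
      have := Fintype.one_lt_card (α := F)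
      omega
    have hfun : Cfsg.quadFormOdd n F = ⇑(CfsgLib.StdQuadForms.Qo (F := F) n) :=
      funext fun v => (CfsgLib.StdQuadForms.Qo_apply n v).symm
    rw [hfun]
    exact CfsgLib.IsometryClasses.omega_odd_bounds h2 (CfsgLib.StdQuadForms.Qo n)
      (CfsgLib.StdQuadForms.Qo_nondeg h2 n) hn (by simp; ring) hq

end Cfsg.Agent.S2560
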