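import Cfsg.Statements.S2562
import Cfsg.Agent.Lib.FiniteForms.WittBasis
-- import your own Cfsg.Agent.* helpers here

set_option autoImplicit false
open Cfsg

namespace Cfsg.Agent.S2562

/-- Witt indices over the field of two elements, m ≥ 1: for the plus-type form Σ xᵢyᵢ in dimension 2m some m-dimensional subspace is totally singular and no totally singular subspace has larger dimension; for the minus-type form Σ xᵢyᵢ + (z₁² + z₁z₂ + z₂²) in dimension 2m the maximal dimension of a totally singular subspace is m − 1. -/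
theorem result (m : ℕ) (hm : 1 ≤ m) :
    (∃ U : Submodule (ZMod 2) (Fin m ⊕ Fin m → ZMod 2), (∀ u ∈ U, Cfsg.quadFormPlus m (ZMod 2) u = 0) ∧ Module.finrank (ZMod 2) ↥U = m) ∧
    (∀ U : Submodule (ZMod 2) (Fin m ⊕ Fin m → ZMod 2), (∀ u ∈ U, Cfsg.quadFormPlus m (ZMod 2) u = 0) → Module.finrank (ZMod 2) ↥U ≤ m) ∧
    (∃ U : Submodule (ZMod 2) ((Fin (m - 1) ⊕ Fin (m - 1)) ⊕ Fin 2 → ZMod 2), (∀ u ∈ U, Cfsg.quadFormMinus (m - 1) (ZMod 2) 1 1 u = 0) ∧ Module.finrank (ZMod 2) ↥U = m - 1) ∧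
    (∀ U : Submodule (ZMod 2) ((Fin (m - 1) ⊕ Fin (m - 1)) ⊕ Fin 2 → ZMod 2), (∀ u ∈ U, Cfsg.quadFormMinus (m - 1) (ZMod 2) 1 1 u = 0) → Module.finrank (ZMod 2) ↥U ≤ m - 1) := by
  obtain ⟨n, rfl⟩ : ∃ n, m = n + 1 := ⟨m - 1, by omega⟩
  refine ⟨CfsgLib.FiniteForms.plus_exists_singular _,
    fun U hU => CfsgLib.FiniteForms.plus_totally_singular_le U hU, ?_, fun U hU => ?_⟩
  · obtain ⟨U, hU, hd⟩ := CfsgLib.FiniteForms.plus_exists_singular (F := ZMod 2) (n + 1 - 1)
    let L : (Fin (n + 1 - 1) ⊕ Fin (n + 1 - 1) → ZMod 2) →ₗ[ZMod 2]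
        ((Fin (n + 1 - 1) ⊕ Fin (n + 1 - 1)) ⊕ Fin 2 → ZMod 2) :=
      { toFun := fun v => Sum.elim v 0
        map_add' := fun x y => by funext i; rcases i with i | i <;> simp
        map_smul' := fun c x => by funext i; rcases i with i | i <;> simp }
    refine ⟨U.map L, ?_, ?_⟩
    · rintro _ ⟨u, hu, rfl⟩
      have := hU u hu
      simp [Cfsg.quadFormMinus, Cfsg.quadFormPlus, L] at this ⊢
      exact this
    · exact ((Submodule.equivMapOfInjective L
        (fun x y h => funext fun i => congrFun h (Sum.inl i)) U).symm.finrank_eq).trans hd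
  · exact CfsgLib.FiniteForms.minus_totally_singular_le
      (CfsgLib.FiniteForms.anisotropic_of_no_root (by decide)) U hU

end Cfsg.Agent.S2562
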