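import Cfsg.Statements.S2563
import Cfsg.Agent.Lib.SymEvenModule.Basic
-- import your own Cfsg.Agent.* helpers here

set_option autoImplicit false
open Cfsg

namespace Cfsg.Agent.S2563

/-- For k ≥ 1 the symmetric group of degree 4k + 4 embeds in a full orthogonal group in dimension 4k + 2 over the field of two elements: in the isometry group of the plus-type form Σ xᵢyᵢ when k is odd, and in that of the minus-type form Σ xᵢyᵢ + (z₁² + z₁z₂ + z₂²) when k is even (through its action on even partitions of a (4k+4)-set, with the form 'half the size of a part, modulo 2'). -/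
theorem result (k : ℕ) (hk : 1 ≤ k) :
    (Odd k → ∃ φ : Equiv.Perm (Fin (4 * k + 4)) →* ↥(Cfsg.isometryGroup (ZMod 2) (Cfsg.quadFormPlus (2 * k + 1) (ZMod 2))), Function.Injective φ) ∧
    (Even k → ∃ φ : Equiv.Perm (Fin (4 * k + 4)) →* ↥(Cfsg.isometryGroup (ZMod 2) (Cfsg.quadFormMinus (2 * k) (ZMod 2) 1 1)), Function.Injective φ) := by
  classical
  have hfin : Module.finrank (ZMod 2) (CfsgLib.SymEvenModule.Vsub (4 * k + 3)) = 2 * (2 * k + 1) := by
    have := CfsgLib.SymEvenModule.finrank_eq (n := 4 * k + 3) (by omega)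
    omega
  have hno : Odd (4 * k + 3) := ⟨2 * k + 1, by ring⟩
  haveI : Fintype (CfsgLib.SymEvenModule.Vsub (4 * k + 3)) := Fintype.ofFinite _
  have hg := CfsgLib.SymEvenModule.gauss_eq (n := 4 * k + 3) k rfl
  have hplus : ∀ e : CfsgLib.SymEvenModule.Vsub (4 * k + 3) ≃ₗ[ZMod 2] (Fin (2 * k + 1) ⊕ Fin (2 * k + 1) → ZMod 2),
      (∀ v, CfsgLib.SymEvenModule.Q _ v = Cfsg.quadFormPlus (2 * k + 1) (ZMod 2) (e v)) →
      (-2 : ℤ) * (-4) ^ k = 2 ^ (2 * k + 1) := by
    intro e he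
    rw [← hg, ← CfsgLib.FiniteForms.Arf.gauss_pq, CfsgLib.FiniteForms.Arf.gauss,
      ← e.toEquiv.sum_comp (fun v => CfsgLib.FiniteForms.Arf.eps (Cfsg.quadFormPlus (2 * k + 1) (ZMod 2) v))]
    exact Finset.sum_congr rfl fun v _ => by rw [he]; rfl
  have hminus : ∀ e : CfsgLib.SymEvenModule.Vsub (4 * k + 3) ≃ₗ[ZMod 2] ((Fin (2 * k) ⊕ Fin (2 * k)) ⊕ Fin 2 → ZMod 2),
      (∀ v, CfsgLib.SymEvenModule.Q _ v = Cfsg.quadFormMinus (2 * k) (ZMod 2) 1 1 (e v)) →
      (-2 : ℤ) * (-4) ^ k = -2 * 2 ^ (2 * k) := by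
    intro e he
    rw [← hg]
    calc (∑ v, CfsgLib.FiniteForms.Arf.eps (CfsgLib.SymEvenModule.Q _ v))
        = ∑ w, CfsgLib.FiniteForms.Arf.eps (Cfsg.quadFormMinus (2 * k) (ZMod 2) 1 1 w) := by
          rw [← e.toEquiv.sum_comp (fun v => CfsgLib.FiniteForms.Arf.eps (Cfsg.quadFormMinus (2 * k) (ZMod 2) 1 1 v))]
          exact Finset.sum_congr rfl fun v _ => by rw [he]; rfl
      _ = ∑ p : (Fin (2 * k) ⊕ Fin (2 * k) → ZMod 2) × (Fin 2 → ZMod 2),
            CfsgLib.FiniteForms.Arf.eps (Cfsg.quadFormPlus (2 * k) (ZMod 2) p.1) *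
              CfsgLib.FiniteForms.Arf.eps (p.2 0 ^ 2 + 1 * p.2 0 * p.2 1 + 1 * p.2 1 ^ 2) := by
          rw [← (Equiv.sumArrowEquivProdArrow _ _ _).symm.sum_comp]
          refine Finset.sum_congr rfl fun p _ => ?_
          rw [← CfsgLib.FiniteForms.Arf.eps_add]
          rfl
      _ = CfsgLib.FiniteForms.Arf.gauss (m := 2 * k) (Cfsg.quadFormPlus (2 * k) (ZMod 2)) *
            ∑ z : Fin 2 → ZMod 2, CfsgLib.FiniteForms.Arf.eps (z 0 ^ 2 + 1 * z 0 * z 1 + 1 * z 1 ^ 2) := by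
          rw [Fintype.sum_prod_type, CfsgLib.FiniteForms.Arf.gauss, Finset.sum_mul]
          exact Finset.sum_congr rfl fun a _ => by simp only [Finset.mul_sum]
      _ = _ := by
          rw [CfsgLib.FiniteForms.Arf.gauss_pq,
            show (∑ z : Fin 2 → ZMod 2, CfsgLib.FiniteForms.Arf.eps (z 0 ^ 2 + 1 * z 0 * z 1 + 1 * z 1 ^ 2)) = -2 by decide]
          ring
  have hpow : (4 : ℤ) ^ k = 2 ^ (2 * k) := by rw [pow_mul]; norm_num
  have h4 : (0 : ℤ) < 4 ^ k := by positivity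
  rcases CfsgLib.FiniteForms.even_dichotomy (CfsgLib.SymEvenModule.polarNondeg hno) (m := 2 * k + 1) (by omega) hfin with
    ⟨e, f, h⟩ | ⟨e, f, x, y, h, hx, hy, hQx, hxy, ht, hli⟩
  · obtain ⟨g, hg'⟩ := CfsgLib.FiniteForms.isometry_of_hypFam h hfin
    refine ⟨fun _ => CfsgLib.SymEvenModule.exists_hom k hk _ g hg', fun he => ?_⟩
    exfalso
    have := hplus g hg'
    rw [neg_pow, he.neg_one_pow, one_mul, pow_succ, ← hpow] at this
    linarith
  · simp only [Nat.add_sub_cancel] at e f h hx hy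
    obtain ⟨g, hg'⟩ := CfsgLib.FiniteForms.isometry_of_elliptic h hx hy hxy hQx hli (by rw [hfin]; omega)
    have hy1 : CfsgLib.SymEvenModule.Q _ y = 1 := by
      have := ht 0
      revert this
      generalize CfsgLib.SymEvenModule.Q _ y = z
      revert z
      decide
    rw [hy1] at hg'
    refine ⟨fun ho => ?_, fun _ => CfsgLib.SymEvenModule.exists_hom k hk _ g hg'⟩
    exfalso
    have := hminus g hg'
    rw [neg_pow, ho.neg_one_pow, ← hpow] at this
    linarith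

end Cfsg.Agent.S2563
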