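import Cfsg.Statements.S2565
import Mathlib
import Cfsg.Agent.Lib.SmallSimple.O6PlusS8

set_option autoImplicit false
open Cfsg

namespace Cfsg.Agent.S2565



/-- The commutator subgroup of the full orthogonal group of the plus-type form Σ xᵢyᵢ in dimension 6 over the field of two elements (the group Ω⁺₆(2), of index 2) is isomorphic to the alternating group of degree 8. -/
theorem result :
    (Cfsg.Omega (ZMod 2) (Cfsg.quadFormPlus 3 (ZMod 2))).index = 2 ∧
    Nonempty (↥(Cfsg.Omega (ZMod 2) (Cfsg.quadFormPlus 3 (ZMod 2))) ≃* alternatingGroup (Fin 8)) := by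
  haveI : Fact (Nat.Prime 2) := ⟨Nat.prime_two⟩
  obtain ⟨e⟩ := CfsgLib.O6PlusS8.nonempty_mulEquiv
  have hA : commutator (Equiv.Perm (Fin 8)) = alternatingGroup (Fin 8) :=
    alternatingGroup.commutator_perm_eq (by simp)
  have hO : (alternatingGroup (Fin 8)).map e.toMonoidHom = Cfsg.Omega (ZMod 2) (Cfsg.quadFormPlus 3 (ZMod 2)) := by
    rw [← hA, commutator_def, Subgroup.map_commutator, Subgroup.map_top_of_surjective _ e.surjective]
    rfl
  refine ⟨?_, ⟨((e.subgroupMap (alternatingGroup (Fin 8))).trans (MulEquiv.subgroupCongr hO)).symm⟩⟩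
  rw [← hO, Subgroup.index_map_of_bijective (f := e.toMonoidHom) e.bijective]
  exact alternatingGroup.index_eq_two

end Cfsg.Agent.S2565
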