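import Cfsg.Statements.S2567
-- import your own Cfsg.Agent.* helpers here

set_option autoImplicit false
open Cfsg

namespace Cfsg.Agent.S2567

/-- Lifting elements of prime order from PGL to GL: let F be a finite field with q elements, r a prime not dividing q − 1, and x an element of order r in GL_n(F) modulo its centre (the scalar matrices). Then x has exactly one preimage in GL_n(F) of order r. -/
theorem result {F : Type*} [Field F] [Fintype F] {q n r : ℕ} (hF : Fintype.card F = q) (hr : r.Prime) (hdiv : ¬ r ∣ q - 1) (x : GL (Fin n) F ⧸ Subgroup.center (GL (Fin n) F)) (hx : orderOf x = r) : ∃! g : GL (Fin n) F, (QuotientGroup.mk g : GL (Fin n) F ⧸ Subgroup.center (GL (Fin n) F)) = x ∧ orderOf g = r := by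
  classical
  let s := Matrix.GeneralLinearGroup.scalar (Fin n) (R := F)
  have hc : ∀ z, z ∈ Subgroup.center (GL (Fin n) F) ↔ ∃ u : Fˣ, s u = z := fun z => by
    rw [Matrix.GeneralLinearGroup.center_eq_range_scalar]; rfl
  have hcop : (Nat.card Fˣ).Coprime r := by
    rw [Nat.card_units, Nat.card_eq_fintype_card, hF, Nat.coprime_comm]
    exact hr.coprime_iff_not_dvd.mpr hdiv
  obtain ⟨g₀, rfl⟩ := QuotientGroup.mk_surjective x
  have h0 : g₀ ^ r ∈ Subgroup.center (GL (Fin n) F) := by
    rw [← QuotientGroup.eq_one_iff, QuotientGroup.mk_pow, ← hx, pow_orderOf_eq_one]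
  obtain ⟨u, hu⟩ := (hc _).mp h0
  obtain ⟨d, hd⟩ := (powCoprime hcop).surjective u⁻¹
  replace hd : d ^ r = u⁻¹ := hd
  have hsd : s d ∈ Subgroup.center (GL (Fin n) F) := (hc _).mpr ⟨d, rfl⟩
  have hg : (g₀ * s d) ^ r = 1 := by
    rw [Commute.mul_pow ((Subgroup.mem_center_iff.mp hsd) g₀), ← map_pow, hd, ← hu, map_inv,
      mul_inv_cancel]
  have hmk : (QuotientGroup.mk (g₀ * s d) : GL (Fin n) F ⧸ Subgroup.center (GL (Fin n) F)) =
      QuotientGroup.mk g₀ := by
    rw [QuotientGroup.mk_mul, (QuotientGroup.eq_one_iff (s d)).mpr hsd, mul_one]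
  refine ⟨g₀ * s d, ⟨hmk, ?_⟩, ?_⟩
  · haveI := Fact.mk hr
    refine orderOf_eq_prime hg fun h1 => ?_
    rw [h1, QuotientGroup.mk_one] at hmk
    rw [← hmk, orderOf_one] at hx
    exact hr.one_lt.ne hx
  · rintro g ⟨hgx, hgr⟩
    rw [← hmk, QuotientGroup.eq] at hgx
    obtain ⟨z, hz⟩ := (hc _).mp hgx
    have e : g₀ * s d = g * s z := by rw [hz, mul_inv_cancel_left]
    rcases Nat.eq_zero_or_pos n with rfl | hn
    · exact Subsingleton.elim _ _
    have hz1 : s (z ^ r) = 1 := by
      have hzc : s z ∈ Subgroup.center (GL (Fin n) F) := (hc _).mpr ⟨z, rfl⟩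
      rw [e, Commute.mul_pow ((Subgroup.mem_center_iff.mp hzc) g),
        (hgr ▸ pow_orderOf_eq_one g : g ^ r = 1), one_mul, ← map_pow] at hg
      exact hg
    have hinj : Function.Injective s := by
      intro a b h
      have := congrFun (congrFun (congrArg (fun x : GL (Fin n) F => x.1) h) ⟨0, hn⟩) ⟨0, hn⟩
      simpa [s, Matrix.GeneralLinearGroup.scalar, Units.ext_iff] using this
    have : z = 1 := (powCoprime hcop).injective (by
      show z ^ r = 1 ^ r
      rw [one_pow]; exact hinj (hz1.trans (map_one s).symm))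
    rw [e, this, map_one, mul_one]

end Cfsg.Agent.S2567
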