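import Cfsg.Statements.S2574
import Cfsg.Agent.Lib.CyclicVector
import Mathlib.LinearAlgebra.SymplecticGroup

set_option autoImplicit false
open Cfsg
open Matrix

namespace Cfsg.Agent.S2574

/-- A regular unipotent element of the symplectic group has totally isotropic small invariant subspaces: over a finite field, if u ∈ Sp_2m(F) satisfies (u − 1)^(2m) = 0 and rank(u − 1) = 2m − 1, and W is a u-invariant subspace with 2 dim W ≤ 2m, then the alternating form vanishes identically on W. -/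
theorem result {F : Type*} [Field F] [Finite F] {m : ℕ} (u : Matrix.symplecticGroup (Fin m) F) (hnil : ((u : Matrix (Fin m ⊕ Fin m) (Fin m ⊕ Fin m) F) - 1) ^ (2 * m) = 0) (hreg : ((u : Matrix (Fin m ⊕ Fin m) (Fin m ⊕ Fin m) F) - 1).rank = 2 * m - 1) (W : Submodule F (Fin m ⊕ Fin m → F)) (hW : ∀ v ∈ W, (u : Matrix (Fin m ⊕ Fin m) (Fin m ⊕ Fin m) F).mulVec v ∈ W) (hdim : 2 * Module.finrank F W ≤ 2 * m) : ∀ v ∈ W, ∀ w ∈ W, Cfsg.sympForm m F v w = 0 := by
  classical
  intro v hv w hw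
  let e : Fin m ⊕ Fin m ≃ Fin (2 * m) := finSumFinEquiv.trans (finCongr (two_mul m).symm)
  set N : Matrix (Fin m ⊕ Fin m) (Fin m ⊕ Fin m) F := u.1 - 1 with hN
  let φ := Matrix.reindexAlgEquiv F F e
  set N' : Matrix (Fin (2 * m)) (Fin (2 * m)) F := φ N with hN'
  have hnil' : N' ^ (2 * m) = 0 := by rw [hN', ← map_pow, hnil, map_zero]
  have hr' : 2 * m - 1 ≤ N'.rank := by
    rw [hN', show φ N = N.submatrix e.symm e.symm from rfl, Matrix.rank_submatrix, hreg]
  have hmv : ∀ (k : ℕ) (x : Fin (2 * m) → F), (N' ^ k *ᵥ x) ∘ e = N ^ k *ᵥ (x ∘ e) := by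
    intro k x
    rw [hN', ← map_pow, show φ (N ^ k) = (N ^ k).submatrix e.symm e.symm from rfl,
      Matrix.submatrix_mulVec_equiv]
    funext i
    simp
  set W' : Submodule F (Fin (2 * m) → F) := W.comap (LinearMap.funLeft F F e) with hW'
  have hinv : ∀ x ∈ W', N' *ᵥ x ∈ W' := fun x hx => by
    show (N' *ᵥ x) ∘ e ∈ W
    have := hmv 1 x
    rw [pow_one, pow_one] at this
    rw [this, hN, Matrix.sub_mulVec, Matrix.one_mulVec]
    exact W.sub_mem (hW _ hx) hx
  have hker := CfsgLib.CyclicVector.invariant_eq_ker hnil' hr' W' hinv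
  set k := Module.finrank F W'
  have hk : k ≤ m := by
    have : k = Module.finrank F W := by
      refine LinearEquiv.finrank_eq ?_
      exact (LinearEquiv.funCongrLeft F F e).ofSubmodule' W
    omega
  set a := 2 * m - k with ha
  have hrange : LinearMap.range (N' ^ a).mulVecLin = LinearMap.ker (N' ^ k).mulVecLin := by
    refine Submodule.eq_of_le_of_finrank_le ?_ ?_
    · rintro x ⟨y, rfl⟩
      rw [LinearMap.mem_ker, Matrix.mulVecLin_apply, Matrix.mulVecLin_apply, Matrix.mulVec_mulVec,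
        ← pow_add, show k + a = 2 * m by omega, hnil', Matrix.zero_mulVec]
    · have h1 := CfsgLib.CyclicVector.finrank_ker_pow_le hr' k
      have h2 := CfsgLib.CyclicVector.finrank_ker_pow_le hr' a
      have h3 := LinearMap.finrank_range_add_finrank_ker (N' ^ a).mulVecLin
      rw [Module.finrank_fin_fun] at h3
      omega
  have hmem : ∀ x ∈ W, x ∘ e.symm ∈ W' := fun x hx => by
    show (x ∘ e.symm) ∘ e ∈ W
    simpa [Function.comp_def] using hx
  have hw0 : N ^ a *ᵥ w = 0 := by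
    have h := hmem w hw
    rw [hker, LinearMap.mem_ker, Matrix.mulVecLin_apply] at h
    have h2 := hmv k (w ∘ e.symm)
    rw [h] at h2
    have h3 : N ^ k *ᵥ w = 0 := by
      have e3 : (w ∘ e.symm) ∘ e = w := by funext i; simp
      rw [e3] at h2
      exact h2.symm
    rw [show a = (a - k) + k by omega, pow_add, ← Matrix.mulVec_mulVec, h3, Matrix.mulVec_zero]
  obtain ⟨y, hy⟩ : ∃ y, N ^ a *ᵥ y = v := by
    have h := hmem v hv
    rw [hker, ← hrange] at h
    obtain ⟨y, hy⟩ := h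
    refine ⟨y ∘ e, ?_⟩
    rw [← hmv, show N' ^ a *ᵥ y = v ∘ e.symm from hy]
    funext i
    simp
  set J := Matrix.J (Fin m) F
  have hJ : u.1ᵀ * J * u.1 = J := SymplecticGroup.mem_iff'.mp u.2
  have hui : (u.1) * (u⁻¹).1 = 1 := congrArg Subtype.val (mul_inv_cancel u)
  have hui' : (u⁻¹).1 * u.1 = 1 := congrArg Subtype.val (inv_mul_cancel u)
  have h1 : Nᵀ * J = J * (-(u⁻¹).1 * N) := by
    have : u.1ᵀ * J = J * (u⁻¹).1 := by
      calc u.1ᵀ * J = u.1ᵀ * J * (u.1 * (u⁻¹).1) := by rw [hui, mul_one]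
        _ = J * (u⁻¹).1 := by rw [← mul_assoc, hJ]
    rw [hN, Matrix.transpose_sub, Matrix.transpose_one, sub_mul, one_mul, this, mul_sub (-(u⁻¹).1),
      neg_mul, hui', mul_one, mul_sub, mul_neg, mul_neg, mul_one]
    abel
  have hcomm : Commute (-(u⁻¹).1) N := by
    show -(u⁻¹).1 * N = N * -(u⁻¹).1
    simp [hN, mul_sub, sub_mul, hui, hui']; abel
  have h2 : ∀ i : ℕ, Nᵀ ^ i * J = J * ((-(u⁻¹).1) ^ i * N ^ i) := by
    intro i
    induction i with
    | zero => simp
    | succ i ih =>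
      rw [pow_succ', mul_assoc, ih, ← mul_assoc, h1, mul_assoc J, ← hcomm.mul_pow, ← hcomm.mul_pow, pow_succ']
  show v ⬝ᵥ (J *ᵥ w) = 0
  rw [← hy, ← Matrix.vecMul_transpose, Matrix.transpose_pow, ← Matrix.dotProduct_mulVec,
    Matrix.mulVec_mulVec, h2, ← Matrix.mulVec_mulVec, ← Matrix.mulVec_mulVec, hw0]
  simp

end Cfsg.Agent.S2574
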