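import Cfsg.Statements.S2575
import Cfsg.Agent.Lib.PowImage
import Cfsg.Agent.Lib.SL2Orders

set_option autoImplicit false
open Cfsg

namespace Cfsg.Agent.S2575

/-- Which diagonal involutions of PGL_n(q) lie in PSL_n(q), q odd: for the diagonal matrix t with i entries −1 and n − i entries 1, some non-zero scalar multiple of t has determinant one if and only if i is even or the 2-part of q − 1 exceeds the 2-part of n (that is, −1 is an n-th power in the field exactly in the latter case). -/
theorem result {F : Type*} [Field F] [Fintype F] {q : ℕ} (hF : Fintype.card F = q) (hq : Odd q) {n : ℕ} (hn : 1 ≤ n) (i : ℕ) (hi : i ≤ n) : (∃ c : F, c ≠ 0 ∧ (c • Matrix.diagonal (fun j : Fin n => if (j : ℕ) < i then (-1 : F) else 1)).det = 1) ↔ (Even i ∨ padicValNat 2 n < padicValNat 2 (q - 1)) := by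
  have hq2 : 2 < q := by
    have h1 := Fintype.one_lt_card (α := F)
    obtain ⟨t, rfl⟩ := hq
    omega
  have h2 : (2 : F) ≠ 0 := CfsgLib.SL2Orders.two_ne_zero_of_odd (hF ▸ hq)
  have hne : (-1 : F) ≠ 1 := fun h => h2 (by linear_combination -h)
  have hdet : ∀ c : F, (c • Matrix.diagonal
      (fun j : Fin n => if (j : ℕ) < i then (-1 : F) else 1)).det = c ^ n * (-1) ^ i := fun c => by
    rw [Matrix.det_smul, Matrix.det_diagonal, Fintype.card_fin, Finset.prod_ite, Finset.prod_const,
      Finset.prod_const, Fin.card_filter_val_lt, min_eq_right hi, one_pow, mul_one]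
  simp only [hdet]
  rcases Nat.even_or_odd i with he | ho
  · exact iff_of_true ⟨1, one_ne_zero, by simp [he.neg_one_pow]⟩ (Or.inl he)
  · simp only [ho.neg_one_pow, mul_neg, mul_one, neg_eq_iff_eq_neg,
      or_iff_right (Nat.not_even_iff_odd.mpr ho)]
    have hd : (q - 1) / (q - 1).gcd n ≠ 0 := CfsgLib.PowImage.div_gcd_ne_zero (by omega)
    rw [CfsgLib.PowImage.exists_ne_zero_pow_eq_iff n (neg_ne_zero.mpr one_ne_zero), hF,
      neg_one_pow_eq_one_iff_even hne, even_iff_two_dvd, dvd_iff_padicValNat_ne_zero hd,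
      CfsgLib.PowImage.val_div_gcd (by omega) (by omega)]
    omega

end Cfsg.Agent.S2575
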