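import Cfsg.Statements.S2576
import Cfsg.Agent.Lib.PowImage
import Cfsg.Agent.Lib.SL2Orders

set_option autoImplicit false
open Cfsg

namespace Cfsg.Agent.S2576

/-- Which involutions of PGL_2m(q) coming from a scalar of the quadratic extension field lie in PSL_2m(q), q odd: let μ generate the Sylow 2-subgroup of the multiplicative group of the field with q elements (μ has order the 2-part of q − 1) and let t be the block-diagonal matrix with m diagonal blocks [[0, 1], [μ, 0]] (so t² is the scalar μ and t is an involution modulo scalars). Then some non-zero scalar multiple of t has determinant one if and only if q ≡ 3 (mod 4) or the 2-part of q − 1 is less than the 2-part of 2m. -/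
theorem result {F : Type*} [Field F] [Fintype F] {q : ℕ} (hF : Fintype.card F = q) (hq : Odd q) {m : ℕ} (hm : 1 ≤ m) (μ : F) (hμ : orderOf μ = 2 ^ padicValNat 2 (q - 1)) : (∃ c : F, c ≠ 0 ∧ (c • Matrix.blockDiagonal (fun _ : Fin m => !![(0 : F), 1; μ, 0])).det = 1) ↔ (q % 4 = 3 ∨ padicValNat 2 (q - 1) < padicValNat 2 (2 * m)) := by
  have hq2 : 2 < q := by
    have h1 := Fintype.one_lt_card (α := F)
    obtain ⟨t, rfl⟩ := hq
    omega
  have h2 : (2 : F) ≠ 0 := CfsgLib.SL2Orders.two_ne_zero_of_odd (hF ▸ hq)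
  have hdet : ∀ c : F, (c • Matrix.blockDiagonal (fun _ : Fin m => !![(0 : F), 1; μ, 0])).det =
      c ^ (2 * m) * (-μ) ^ m := fun c => by
    rw [Matrix.det_smul, Matrix.det_blockDiagonal, Finset.prod_const, Matrix.det_fin_two_of,
      Fintype.card_prod, Fintype.card_fin, Finset.card_univ, Fintype.card_fin]
    simp [mul_comm]
  simp only [hdet]
  set a := padicValNat 2 (q - 1) with ha
  have hN : q - 1 ≠ 0 := by omega
  have ha1 : 1 ≤ a := one_le_padicValNat_of_dvd hN (by obtain ⟨t, rfl⟩ := hq; omega)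
  by_cases h3 : q % 4 = 3
  · refine iff_of_true ⟨1, one_ne_zero, ?_⟩ (Or.inl h3)
    have ha' : a = 1 := by
      by_contra hne
      have h4 : 2 ^ 2 ∣ q - 1 := (padicValNat_dvd_iff_le hN).mpr (by omega)
      omega
    have hsq : μ ^ 2 = 1 := by rw [← pow_orderOf_eq_one μ, hμ, ha', pow_one]
    rcases sq_eq_one_iff.mp hsq with h | h
    · rw [h, orderOf_one, ha'] at hμ
      omega
    · simp [h]
  · rw [or_iff_right h3]
    have ha2 : 2 ≤ a := by
      refine (padicValNat_dvd_iff_le hN).mp ?_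
      obtain ⟨t, rfl⟩ := hq
      omega
    have hμ0 : μ ≠ 0 := by
      rintro rfl
      rw [orderOf_zero] at hμ
      exact absurd hμ.symm (pow_ne_zero a two_ne_zero)
    have hord : orderOf (-μ) = 2 ^ a := by
      rw [show a = (a - 1) + 1 by omega]
      have hev : ∀ k, 1 ≤ k → (-μ) ^ 2 ^ k = μ ^ 2 ^ k := fun k hk =>
        ((Nat.even_pow.mpr ⟨even_two, by omega⟩).neg_pow μ)
      refine orderOf_eq_prime_pow ?_ ?_
      · rw [hev _ (by omega)]
        intro h
        have := Nat.le_of_dvd (Nat.two_pow_pos _) (hμ ▸ orderOf_dvd_of_pow_eq_one h)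
        have := Nat.pow_lt_pow_right (show 1 < 2 by norm_num) (show a - 1 < a by omega)
        omega
      · rw [hev _ (by omega), show a - 1 + 1 = a by omega, ← hμ, pow_orderOf_eq_one]
    have hx : ((-μ) ^ m)⁻¹ ≠ 0 := inv_ne_zero (pow_ne_zero _ (neg_ne_zero.mpr hμ0))
    have hpow : (-μ) ^ m ≠ 0 := pow_ne_zero _ (neg_ne_zero.mpr hμ0)
    have hiff : (∃ c : F, c ≠ 0 ∧ c ^ (2 * m) * (-μ) ^ m = 1) ↔
        ∃ c : F, c ≠ 0 ∧ c ^ (2 * m) = ((-μ) ^ m)⁻¹ :=
      exists_congr fun c => and_congr_right fun _ => mul_eq_one_iff_eq_inv₀ hpow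
    rw [hiff, CfsgLib.PowImage.exists_ne_zero_pow_eq_iff _ hx, hF, inv_pow, inv_eq_one, ← pow_mul,
      ← orderOf_dvd_iff_pow_eq_one, hord]
    have hd : (q - 1) / (q - 1).gcd (2 * m) ≠ 0 := CfsgLib.PowImage.div_gcd_ne_zero hN
    rw [padicValNat_dvd_iff_le (mul_ne_zero (by omega) hd), padicValNat.mul (by omega) hd,
      CfsgLib.PowImage.val_div_gcd hN (by omega), ← ha, padicValNat.mul two_ne_zero (by omega),
      padicValNat.self one_lt_two]
    omega

end Cfsg.Agent.S2576
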