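import Cfsg.Statements.S2578
import Cfsg.Agent.Lib.SLGen.RegularUnipotent

set_option autoImplicit false
open Cfsg
open Matrix

namespace Cfsg.Agent.S2578

/-- Regular unipotent classes of SL_n(q): for n ≥ 2 over the field with q elements, the matrices u of determinant one with (u − 1)^n = 0 and rank(u − 1) = n − 1 form a single GL_n(q)-class which splits into exactly gcd(n, q − 1) conjugacy classes of SL_n(q). -/
theorem result {F : Type*} [Field F] [Fintype F] {q : ℕ} (hF : Fintype.card F = q) {n : ℕ} (hn : 2 ≤ n) : Nat.card {C : ConjClasses (Matrix.SpecialLinearGroup (Fin n) F) // ∃ u : Matrix.SpecialLinearGroup (Fin n) F, ConjClasses.mk u = C ∧ ((u : Matrix (Fin n) (Fin n) F) - 1) ^ n = 0 ∧ ((u : Matrix (Fin n) (Fin n) F) - 1).rank = n - 1} = Nat.gcd n (q - 1) := by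
  classical
  subst hF
  rw [← CfsgLib.RegUnip.card_classes (F := F) (n := n) (by omega)]
  refine Nat.card_congr (Equiv.subtypeEquivRight fun C => ?_)
  refine exists_congr fun u => and_congr_right fun _ => and_congr_right fun h => ?_
  constructor
  · intro hr
    obtain ⟨v, hv⟩ := CfsgLib.CyclicVector.exists_top_vector
      (N := (u : Matrix (Fin n) (Fin n) F) - 1) (by omega) hr.ge
    exact fun e => hv (by rw [e, Matrix.zero_mulVec])
  · intro hne
    refine le_antisymm ?_ ?_
    · by_contra hgt
      have h1 := Matrix.rank_le_card_width ((u : Matrix (Fin n) (Fin n) F) - 1)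
      rw [Fintype.card_fin] at h1
      have hfull : Module.finrank F (LinearMap.range ((u : Matrix (Fin n) (Fin n) F) - 1).mulVecLin) =
          Module.finrank F (Fin n → F) := by
        rw [Module.finrank_fin_fun]
        exact le_antisymm h1 (by
          have : ((u : Matrix (Fin n) (Fin n) F) - 1).rank =
            Module.finrank F (LinearMap.range ((u : Matrix (Fin n) (Fin n) F) - 1).mulVecLin) := rfl
          omega)
      have hu : IsUnit ((u : Matrix (Fin n) (Fin n) F) - 1) :=
        Matrix.mulVec_surjective_iff_isUnit.mp (LinearMap.range_eq_top.mp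
          (Submodule.eq_top_of_finrank_eq hfull))
      have h0 := hu.pow n
      rw [h] at h0
      have : Nonempty (Fin n) := ⟨⟨0, by omega⟩⟩
      exact not_isUnit_zero h0
    · obtain ⟨v, hv⟩ := CfsgLib.RegUnip.exists_top hne
      have hli := CfsgLib.CyclicVector.linearIndependent_chain h hv
      have hli' := hli.comp (fun i : Fin (n - 1) => (⟨i.val + 1, by omega⟩ : Fin n))
        (fun a b e => Fin.ext (by simpa using congrArg Fin.val e))
      have hcard := finrank_span_eq_card hli'
      rw [Fintype.card_fin] at hcard
      refine le_trans hcard.ge (Submodule.finrank_mono ?_)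
      rw [Submodule.span_le]
      rintro _ ⟨i, rfl⟩
      refine ⟨((u : Matrix (Fin n) (Fin n) F) - 1) ^ (i : ℕ) *ᵥ v, ?_⟩
      rw [Matrix.mulVecLin_apply]
      rw [Matrix.mulVec_mulVec, ← pow_succ']
      rfl

end Cfsg.Agent.S2578
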