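import Cfsg.Statements.S2579
import Cfsg.Agent.Lib.PSLn.Extend
-- import your own Cfsg.Agent.* helpers here

set_option autoImplicit false
open Cfsg

namespace Cfsg.Agent.S2579

/-- In SL_n(F) with n ≥ 3, over a finite field F, any two transvections (matrices t with t − 1 of rank one and square zero) are conjugate by an element of SL_n(F). -/
theorem result {F : Type*} [Field F] [Finite F] {n : ℕ} (hn : 3 ≤ n) (s t : Matrix.SpecialLinearGroup (Fin n) F) (hs : Cfsg.IsTransvection (s : Matrix (Fin n) (Fin n) F)) (ht : Cfsg.IsTransvection (t : Matrix (Fin n) (Fin n) F)) : IsConj s t := by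
  have key : ∀ s : Matrix.SpecialLinearGroup (Fin n) F,
      Cfsg.IsTransvection (s : Matrix (Fin n) (Fin n) F) →
      IsConj (CfsgLib.PSLn.tv (Pi.single ⟨0, by omega⟩ (1 : F)) (Pi.single ⟨1, by omega⟩ 1)
        (by simp [dotProduct_single, Fin.ext_iff])) s := by
    rintro s ⟨hr, hsq⟩
    set M : Matrix (Fin n) (Fin n) F := s.1 - 1 with hM
    obtain ⟨⟨v, hv⟩, hv0, hspan⟩ := finrank_eq_one_iff'.mp
      (show Module.finrank F (LinearMap.range M.mulVecLin) = 1 from hr)
    choose c hc using fun j : Fin n => hspan ⟨M.mulVecLin (Pi.single j 1), LinearMap.mem_range_self _ _⟩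
    have hMv : M = Matrix.vecMulVec v c := by
      ext i j
      have := congrFun (congrArg Subtype.val (hc j)) i
      simp only [SetLike.val_smul, Pi.smul_apply, Matrix.mulVecLin_apply, Matrix.mulVec_single_one,
        Matrix.col_apply, smul_eq_mul] at this
      rw [Matrix.vecMulVec_apply, ← this, mul_comm]
    have hv' : v ≠ 0 := fun h => hv0 (Subtype.ext h)
    have hM0 : M ≠ 0 := fun h => by rw [h, Matrix.rank_zero] at hr; exact zero_ne_one hr
    have hc' : c ≠ 0 := fun h => hM0 (by rw [hMv, h, Matrix.vecMulVec_zero])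
    have hcv : c ⬝ᵥ v = 0 := by
      by_contra hne
      rw [hMv, Matrix.vecMulVec_mul_vecMulVec] at hsq
      obtain ⟨i, hi⟩ := Function.ne_iff.mp hv'
      obtain ⟨j, hj⟩ := Function.ne_iff.mp hc'
      have := congrFun (congrFun hsq i) j
      simp [Matrix.vecMulVec_apply] at this hi hj
      tauto
    have hs : s = CfsgLib.PSLn.tv v c hcv := Subtype.ext (by
      rw [CfsgLib.PSLn.coe_tv, ← hMv, hM, add_sub_cancel])
    exact hs ▸ CfsgLib.PSLn.isConj_tv_std hn hv' hc' hcv
  exact (key s hs).symm.trans (key t ht)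

end Cfsg.Agent.S2579
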