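import Cfsg.Statements.S2582
import Cfsg.Agent.Lib.JordanForms.Apply
-- import your own Cfsg.Agent.* helpers here

set_option autoImplicit false
open Cfsg

namespace Cfsg.Agent.S2582

open Matrix in
theorem forward_aux {F : Type*} [Field F] [Fintype F] {m t : ℕ} (d : Fin t → ℕ) (hsum : ∑ k, d k = 2 * m)
    (h : ∀ j : ℕ, Odd j → Even (Finset.univ.filter (fun k : Fin t => d k = j)).card) :
    ∃ e : ((k : Fin t) × Fin (d k)) ≃ (Fin m ⊕ Fin m), ∃ A : Matrix.symplecticGroup (Fin m) F,
      IsConj (Matrix.reindex e e (Cfsg.jordanTypeMatrix d F)) (A : Matrix (Fin m ⊕ Fin m) (Fin m ⊕ Fin m) F) := by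
  have e0 : ((k : Fin t) × Fin (d k)) ≃ Fin (2 * m) := Fintype.equivFinOfCardEq (by simp [hsum])
  obtain ⟨B, hB, hBu, halt⟩ := CfsgLib.JordanForms.exists_alternating (F := F) d h e0
  obtain ⟨P, Q, hPQ, hQP, hP⟩ := CfsgLib.JordanForms.exists_congr_J rfl B hBu halt
  set X := Matrix.reindex e0 e0 (Cfsg.jordanTypeMatrix d F) with hX
  let f : Fin (2 * m) ≃ Fin m ⊕ Fin m := (finCongr (two_mul m)).trans finSumFinEquiv.symm
  refine ⟨e0.trans f, ⟨P * X * Q, ?_⟩, ?_⟩
  · rw [SymplecticGroup.mem_iff']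
    calc (P * X * Q)ᵀ * Matrix.J (Fin m) F * (P * X * Q) =
        Qᵀ * (Xᵀ * (Pᵀ * Matrix.J (Fin m) F * P) * X) * Q := by
          simp only [transpose_mul, Matrix.mul_assoc]
      _ = Qᵀ * (Pᵀ * Matrix.J (Fin m) F * P) * Q := by rw [hP, hB]
      _ = (P * Q)ᵀ * Matrix.J (Fin m) F * (P * Q) := by
          simp only [transpose_mul, Matrix.mul_assoc]
      _ = Matrix.J (Fin m) F := by rw [hPQ, transpose_one, Matrix.one_mul, Matrix.mul_one]
  · have h1 : P.submatrix id f.symm * Q.submatrix f.symm id = 1 := by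
      rw [submatrix_mul_equiv, hPQ, submatrix_id_id]
    refine ⟨⟨_, _, h1, mul_eq_one_comm.mp h1⟩, ?_⟩
    show P.submatrix id f.symm * Matrix.reindex (e0.trans f) (e0.trans f) (Cfsg.jordanTypeMatrix d F) =
      P * X * Q * P.submatrix id f.symm
    calc P.submatrix id f.symm * Matrix.reindex (e0.trans f) (e0.trans f) (Cfsg.jordanTypeMatrix d F) =
        P.submatrix id f.symm * X.submatrix f.symm f.symm := rfl
      _ = (P * X).submatrix id f.symm := submatrix_mul_equiv _ _ _ _ _
      _ = (P * X * (Q * P)).submatrix id f.symm := by rw [hQP, Matrix.mul_one]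
      _ = P * X * Q * P.submatrix id f.symm := by
          rw [← Matrix.mul_assoc]
          rfl

/-- Which unipotent Jordan types occur in the finite symplectic group: over a finite field, a unipotent matrix with Jordan block sizes d_1, …, d_t (sum 2m, all at least 1) is similar to an element of Sp_2m(F) if and only if every odd block size occurs an even number of times. -/
theorem result {F : Type*} [Field F] [Fintype F] {m t : ℕ} (d : Fin t → ℕ) (hd : ∀ k, 1 ≤ d k) (hsum : ∑ k, d k = 2 * m) : (∃ e : ((k : Fin t) × Fin (d k)) ≃ (Fin m ⊕ Fin m), ∃ A : Matrix.symplecticGroup (Fin m) F, IsConj (Matrix.reindex e e (Cfsg.jordanTypeMatrix d F)) (A : Matrix (Fin m ⊕ Fin m) (Fin m ⊕ Fin m) F)) ↔ ∀ j : ℕ, Odd j → Even (Finset.univ.filter (fun k : Fin t => d k = j)).card := by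
    constructor
    · rintro ⟨e, A, hA⟩
      exact CfsgLib.JordanForms.even_card_of_alternating d e hA (Matrix.isUnit_det_J _ _)
        CfsgLib.JordanForms.quad_J (SymplecticGroup.mem_iff'.mp A.2)
    · exact forward_aux d hsum

end Cfsg.Agent.S2582
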