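import Cfsg.Statements.S2583
import Cfsg.Agent.Lib.JordanForms.Apply
-- import your own Cfsg.Agent.* helpers here

set_option autoImplicit false
open Cfsg

namespace Cfsg.Agent.S2583

open Matrix in
theorem forward_aux {F : Type*} [Field F] (h2 : (2 : F) ≠ 0) {n t : ℕ} (d : Fin t → ℕ)
    (hd : ∀ k, 1 ≤ d k) (hsum : ∑ k, d k = n)
    (h : ∀ j : ℕ, Even j → 0 < j → Even (Finset.univ.filter (fun k : Fin t => d k = j)).card) :
    ∃ Q : QuadraticForm F (Fin n → F), (QuadraticMap.polarBilin Q).Nondegenerate ∧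
      ∃ e : ((k : Fin t) × Fin (d k)) ≃ Fin n, ∃ A : ↥(Cfsg.isometryGroup F ⇑Q),
        IsConj (Matrix.reindex e e (Cfsg.jordanTypeMatrix d F))
          ((A : Matrix.GeneralLinearGroup (Fin n) F) : Matrix (Fin n) (Fin n) F) := by
  have e0 : ((k : Fin t) × Fin (d k)) ≃ Fin n := Fintype.equivFinOfCardEq (by simp [hsum])
  obtain ⟨B, hB, hBu, hBt⟩ := CfsgLib.JordanForms.exists_symmetric (F := F) d h2 h hd e0
  set X := Matrix.reindex e0 e0 (Cfsg.jordanTypeMatrix d F) with hX
  set Q : QuadraticForm F (Fin n → F) := LinearMap.BilinMap.toQuadraticMap (Matrix.toLinearMap₂' F B) with hQ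
  have hQv : ∀ v, Q v = v ⬝ᵥ (B *ᵥ v) := fun v => by
    rw [hQ, LinearMap.BilinMap.toQuadraticMap_apply, Matrix.toLinearMap₂'_apply']
  have hXu : IsUnit X := (isUnit_iff_isUnit_det _).mpr (CfsgLib.JordanForms.isUnit_reindex_type d e0)
  refine ⟨Q, ?_, e0, ⟨hXu.unit, ?_⟩, IsConj.refl _⟩
  · have e : QuadraticMap.polarBilin Q = Matrix.toLinearMap₂' F ((2 : F) • B) := by
      refine LinearMap.ext fun u => LinearMap.ext fun v => ?_
      rw [QuadraticMap.polarBilin_apply_apply, hQ, LinearMap.BilinMap.polar_toQuadraticMap,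
        Matrix.toLinearMap₂'_apply', Matrix.toLinearMap₂'_apply', Matrix.toLinearMap₂'_apply',
        smul_mulVec, dotProduct_smul, smul_eq_mul, two_mul]
      congr 1
      rw [dotProduct_mulVec v B, ← mulVec_transpose, hBt, dotProduct_comm]
    rw [e]
    refine LinearMap.BilinForm.nondegenerate_toBilin'_of_det_ne_zero' _ ?_
    rw [det_smul]
    exact mul_ne_zero (pow_ne_zero _ h2) hBu.ne_zero
  · intro u _
    show Q (X *ᵥ u) = Q u
    rw [hQv, hQv]
    conv_rhs => rw [← hB, ← mulVec_mulVec, ← mulVec_mulVec, dotProduct_mulVec u Xᵀ, vecMul_transpose]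

/-- Which unipotent Jordan types occur in a finite orthogonal group in odd characteristic: over a finite field of odd order, a unipotent matrix with Jordan block sizes d_1, …, d_t (sum n, all at least 1) is similar to an isometry of some quadratic form on F^n with non-degenerate polar form if and only if every even block size occurs an even number of times. -/
theorem result {F : Type*} [Field F] [Fintype F] (h2 : (2 : F) ≠ 0) {n t : ℕ} (d : Fin t → ℕ) (hd : ∀ k, 1 ≤ d k) (hsum : ∑ k, d k = n) : (∃ Q : QuadraticForm F (Fin n → F), (QuadraticMap.polarBilin Q).Nondegenerate ∧ ∃ e : ((k : Fin t) × Fin (d k)) ≃ Fin n, ∃ A : ↥(Cfsg.isometryGroup F ⇑Q), IsConj (Matrix.reindex e e (Cfsg.jordanTypeMatrix d F)) ((A : Matrix.GeneralLinearGroup (Fin n) F) : Matrix (Fin n) (Fin n) F)) ↔ ∀ j : ℕ, Even j → 0 < j → Even (Finset.univ.filter (fun k : Fin t => d k = j)).card := by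
    constructor
    · rintro ⟨Q, hQ, e, A, hA⟩
      classical
      open Matrix in
      set G := LinearMap.toMatrix₂' F (QuadraticMap.polarBilin Q) with hG
      have hGd : IsUnit G.det := by
        rw [isUnit_iff_ne_zero]
        exact (LinearMap.BilinForm.nondegenerate_toBilin'_iff_det_ne_zero (M := G)).mp (by
          show (Matrix.toLinearMap₂' F G).Nondegenerate
          rw [hG, Matrix.toLinearMap₂'_toMatrix']
          exact hQ)
      have hval : ∀ u v, u ⬝ᵥ (G.mulVec v) = QuadraticMap.polar Q u v := fun u v => by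
        rw [← QuadraticMap.polarBilin_apply_apply, ← Matrix.toLinearMap₂'_apply', hG,
          Matrix.toLinearMap₂'_toMatrix']
      have hext : ∀ M N : Matrix (Fin n) (Fin n) F, (∀ u v, u ⬝ᵥ (M.mulVec v) = u ⬝ᵥ (N.mulVec v)) → M = N := by
        intro M N h
        ext a b
        simpa [Matrix.mulVec_single, single_dotProduct] using h (Pi.single a 1) (Pi.single b 1)
      have hsym : G.transpose = G := hext _ _ fun u v => by
        rw [Matrix.mulVec_transpose, dotProduct_comm, ← Matrix.dotProduct_mulVec, hval, hval,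
          QuadraticMap.polar_comm]
      refine CfsgLib.JordanForms.even_card_of_symmetric d h2 e hA hGd hsym (hext _ _ fun u v => ?_)
      rw [← Matrix.mulVec_mulVec, ← Matrix.mulVec_mulVec, Matrix.dotProduct_mulVec u, Matrix.vecMul_transpose,
        hval, hval, QuadraticMap.polar, QuadraticMap.polar, ← Matrix.mulVec_add]
      have hmem : ∀ w, Q (((A : Matrix.GeneralLinearGroup (Fin n) F) : Matrix (Fin n) (Fin n) F).mulVec w) = Q w :=
        fun w => A.2 w w
      rw [hmem, hmem, hmem]
    · exact forward_aux h2 d hd hsum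

end Cfsg.Agent.S2583
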