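import Cfsg.Statements.S2584
import Cfsg.Agent.Lib.JordanForms.Apply
-- import your own Cfsg.Agent.* helpers here

set_option autoImplicit false
open Cfsg

namespace Cfsg.Agent.S2584

open Matrix in
theorem forward_aux {F : Type*} [Field F] [Fintype F] [CharP F 2] {m t : ℕ} (d : Fin t → ℕ)
    (hsum : ∑ k, d k = 2 * m)
    (h : ∀ j : ℕ, Odd j → Even (Finset.univ.filter (fun k : Fin t => d k = j)).card) :
    ∃ Q : QuadraticForm F (Fin (2 * m) → F), (QuadraticMap.polarBilin Q).Nondegenerate ∧
      ∃ e : ((k : Fin t) × Fin (d k)) ≃ Fin (2 * m), ∃ A : ↥(Cfsg.isometryGroup F ⇑Q),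
        IsConj (Matrix.reindex e e (Cfsg.jordanTypeMatrix d F))
          ((A : Matrix.GeneralLinearGroup (Fin (2 * m)) F) : Matrix (Fin (2 * m)) (Fin (2 * m)) F) := by
  have e0 : ((k : Fin t) × Fin (d k)) ≃ Fin (2 * m) := Fintype.equivFinOfCardEq (by simp [hsum])
  obtain ⟨B, hB, hBu, halt⟩ := CfsgLib.JordanForms.exists_alternating (F := F) d h e0
  obtain ⟨Q, hQ, hinv⟩ := CfsgLib.JordanForms.exists_quadratic_two _ B hBu halt hB
  have hXu := (isUnit_iff_isUnit_det _).mpr (CfsgLib.JordanForms.isUnit_reindex_type (F := F) d e0)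
  exact ⟨Q, hQ, e0, ⟨hXu.unit, fun u _ => hinv u⟩, IsConj.refl _⟩

/-- Which unipotent Jordan types occur in a finite orthogonal group in characteristic two: over a finite field of characteristic 2 and in even dimension 2m, a unipotent matrix with Jordan block sizes d_1, …, d_t (sum 2m, all at least 1) is similar to an isometry of some quadratic form on F^(2m) with non-degenerate polar form if and only if every odd block size occurs an even number of times (the same condition as for the symplectic group, which contains these orthogonal groups). -/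
theorem result {F : Type*} [Field F] [Fintype F] [CharP F 2] {m t : ℕ} (d : Fin t → ℕ) (hd : ∀ k, 1 ≤ d k) (hsum : ∑ k, d k = 2 * m) : (∃ Q : QuadraticForm F (Fin (2 * m) → F), (QuadraticMap.polarBilin Q).Nondegenerate ∧ ∃ e : ((k : Fin t) × Fin (d k)) ≃ Fin (2 * m), ∃ A : ↥(Cfsg.isometryGroup F ⇑Q), IsConj (Matrix.reindex e e (Cfsg.jordanTypeMatrix d F)) ((A : Matrix.GeneralLinearGroup (Fin (2 * m)) F) : Matrix (Fin (2 * m)) (Fin (2 * m)) F)) ↔ ∀ j : ℕ, Odd j → Even (Finset.univ.filter (fun k : Fin t => d k = j)).card := by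
    constructor
    · rintro ⟨Q, hQ, e, A, hA⟩
      classical
      open Matrix in
      set G := LinearMap.toMatrix₂' F (QuadraticMap.polarBilin Q) with hG
      have hGd : IsUnit G.det := by
        rw [isUnit_iff_ne_zero]
        exact (LinearMap.BilinForm.nondegenerate_toBilin'_iff_det_ne_zero (M := G)).mp (by
          show (Matrix.toLinearMap₂' F G).Nondegenerate
          rw [hG, Matrix.toLinearMap₂'_toMatrix']
          exact hQ)
      have hval : ∀ u v, u ⬝ᵥ (G.mulVec v) = QuadraticMap.polar Q u v := fun u v => by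
        rw [← QuadraticMap.polarBilin_apply_apply, ← Matrix.toLinearMap₂'_apply', hG,
          Matrix.toLinearMap₂'_toMatrix']
      refine CfsgLib.JordanForms.even_card_of_alternating d e hA hGd (fun v => ?_) ?_
      · rw [hval, QuadraticMap.polar_self, CharTwo.two_nsmul]
      · ext a b
        have key : ∀ u v, u ⬝ᵥ ((((A : Matrix.GeneralLinearGroup (Fin (2 * m)) F) : Matrix (Fin (2 * m)) (Fin (2 * m)) F).transpose * G *
            ((A : Matrix.GeneralLinearGroup (Fin (2 * m)) F) : Matrix (Fin (2 * m)) (Fin (2 * m)) F)).mulVec v) =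
            u ⬝ᵥ (G.mulVec v) := fun u v => by
          rw [← Matrix.mulVec_mulVec, ← Matrix.mulVec_mulVec, Matrix.dotProduct_mulVec u, Matrix.vecMul_transpose,
            hval, hval, QuadraticMap.polar, QuadraticMap.polar, ← Matrix.mulVec_add]
          have hmem : ∀ w, Q (((A : Matrix.GeneralLinearGroup (Fin (2 * m)) F) : Matrix (Fin (2 * m)) (Fin (2 * m)) F).mulVec w) = Q w :=
            fun w => A.2 w w
          rw [hmem, hmem, hmem]
        simpa [Matrix.mulVec_single, single_dotProduct] using key (Pi.single a 1) (Pi.single b 1)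
    · exact forward_aux d hsum

end Cfsg.Agent.S2584
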