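import Cfsg.Statements.S2585


set_option autoImplicit false
open Cfsg

namespace Cfsg.Agent.S2585

/-- Over a finite field of characteristic two every element of the symplectic group is orthogonal for a suitable quadratic form: for each A in Sp_2m(F) there is a quadratic form Q on F^(2m) whose polar form is the alternating form defining Sp_2m(F) (so Q is non-degenerate) and which A preserves. Equivalently, for m ≥ 1, Sp_2m(F) is the union of the conjugates of its two orthogonal subgroups O⁺_2m(F) and O⁻_2m(F). -/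
theorem result {F : Type*} [Field F] [Fintype F] [CharP F 2] {m : ℕ} (A : Matrix.symplecticGroup (Fin m) F) : ∃ Q : QuadraticForm F (Fin m ⊕ Fin m → F), (∀ u v : Fin m ⊕ Fin m → F, QuadraticMap.polar ⇑Q u v = Cfsg.sympForm m F u v) ∧ ∀ v : Fin m ⊕ Fin m → F, Q ((A : Matrix (Fin m ⊕ Fin m) (Fin m ⊕ Fin m) F).mulVec v) = Q v := by
  classical
  haveI : Fact (Nat.Prime 2) := ⟨Nat.prime_two⟩
  have h20 : (2 : F) = 0 := CharTwo.two_eq_zero
  set M := (A : Matrix (Fin m ⊕ Fin m) (Fin m ⊕ Fin m) F) with hM
  let Q0 : QuadraticForm F (Fin m ⊕ Fin m → F) :=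
    ∑ i : Fin m, QuadraticMap.linMulLin (LinearMap.proj (Sum.inl i)) (LinearMap.proj (Sum.inr i))
  have hQ0 : ∀ v, Q0 v = ∑ i : Fin m, v (Sum.inl i) * v (Sum.inr i) := fun v => by simp [Q0]
  have hf : ∀ u v : Fin m ⊕ Fin m → F, Cfsg.sympForm m F u v =
      ∑ i : Fin m, (u (Sum.inl i) * v (Sum.inr i) + u (Sum.inr i) * v (Sum.inl i)) := fun u v => by
    simp [Cfsg.sympForm, dotProduct, Matrix.J, Matrix.mulVec, Matrix.fromBlocks, Matrix.one_apply,
      Fintype.sum_sum_type, Finset.sum_add_distrib, add_comm, CharTwo.neg_eq]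
  have hpol : ∀ u v, QuadraticMap.polar ⇑Q0 u v = Cfsg.sympForm m F u v := fun u v => by
    rw [QuadraticMap.polar, hQ0, hQ0, hQ0, hf, ← Finset.sum_sub_distrib, ← Finset.sum_sub_distrib]
    exact Finset.sum_congr rfl fun i _ => by simp only [Pi.add_apply]; ring
  have hinv : ∀ u v, Cfsg.sympForm m F (M.mulVec u) (M.mulVec v) = Cfsg.sympForm m F u v := by
    intro u v
    have h := SymplecticGroup.transpose_mem A.2
    rw [SymplecticGroup.mem_iff, Matrix.transpose_transpose] at h
    simp only [Cfsg.sympForm]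
    rw [Matrix.mulVec_mulVec, ← Matrix.vecMul_transpose, ← Matrix.dotProduct_mulVec, Matrix.mulVec_mulVec,
      ← mul_assoc, h]
  let D : (Fin m ⊕ Fin m → F) → F := fun v => Q0 (M.mulVec v) + Q0 v
  have hDadd : ∀ u v, D (u + v) = D u + D v := by
    intro u v
    have h1 := hpol (M.mulVec u) (M.mulVec v)
    have h2 := hpol u v
    rw [hinv] at h1
    simp only [QuadraticMap.polar] at h1 h2
    simp only [D, Matrix.mulVec_add]
    linear_combination h1 + h2 + Cfsg.sympForm m F u v * h20
  let r := (frobeniusEquiv F 2).symm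
  have hr : ∀ x, r x * r x = x := fun x => by
    rw [← pow_two]; exact frobeniusEquiv_symm_pow_p F 2 x
  have hrs : ∀ c x, r (c * c * x) = c * r x := fun c x => by
    rw [map_mul, ← pow_two, show c ^ 2 = frobeniusEquiv F 2 c from (frobeniusEquiv_apply _ _ c).symm]
    simp [r]
  let μ : Module.Dual F (Fin m ⊕ Fin m → F) :=
    { toFun := fun v => r (D v)
      map_add' := fun u v => by rw [hDadd, map_add]
      map_smul' := fun c v => by
        rw [RingHom.id_apply, smul_eq_mul, ← hrs]
        congr 1
        simp only [D, Matrix.mulVec_smul, QuadraticMap.map_smul, smul_eq_mul]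
        ring }
  let T : (Fin m ⊕ Fin m → F) →ₗ[F] (Fin m ⊕ Fin m → F) := Matrix.mulVecLin M + LinearMap.id
  have hμ : μ ∈ LinearMap.range T.dualMap := by
    rw [LinearMap.range_dualMap_eq_dualAnnihilator_ker, Submodule.mem_dualAnnihilator]
    intro v hv
    have hv' : M.mulVec v = v := by
      ext i
      exact CharTwo.add_eq_zero.mp (congrFun (LinearMap.mem_ker.mp hv) i)
    show r (D v) = 0
    simp [D, hv', CharTwo.add_self_eq_zero]
  obtain ⟨l, hl⟩ := hμ
  refine ⟨Q0 + QuadraticMap.linMulLin l l, fun u v => ?_, fun v => ?_⟩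
  · rw [← hpol u v]
    simp only [QuadraticMap.polar, QuadraticMap.add_apply, QuadraticMap.linMulLin_apply, map_add]
    linear_combination (l u * l v) * h20
  · have h1 : l (M.mulVec v) + l v = r (D v) := by
      have := LinearMap.congr_fun hl v
      simpa [T, μ] using this
    have h2 := hr (D v)
    rw [← h1] at h2
    simp only [D] at h2
    simp only [QuadraticMap.add_apply, QuadraticMap.linMulLin_apply]
    linear_combination h2 - (l (M.mulVec v) * l v + l v * l v) * h20 + Q0 (M.mulVec v) * h20

end Cfsg.Agent.S2585
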