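import Cfsg.Statements.S2586
import Cfsg.Agent.Lib.TransposeForm
import Mathlib.LinearAlgebra.SymplecticGroup

set_option autoImplicit false
open Cfsg
open Matrix

namespace Cfsg.Agent.S2586

/-- Over a finite field, every element of the symplectic group Sp_2m(F) is conjugate by an invertible matrix to its inverse. -/
theorem result {F : Type*} [Field F] [Finite F] {m : ℕ} (A : Matrix.symplecticGroup (Fin m) F) : IsConj (A : Matrix (Fin m ⊕ Fin m) (Fin m ⊕ Fin m) F) ((A⁻¹ : Matrix.symplecticGroup (Fin m) F) : Matrix (Fin m ⊕ Fin m) (Fin m ⊕ Fin m) F) := by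
  classical
  set M : Matrix (Fin m ⊕ Fin m) (Fin m ⊕ Fin m) F := A.1 with hM
  have h1 : IsConj M Mᵀ := by
    let e : Fin m ⊕ Fin m ≃ Fin (m + m) := finSumFinEquiv
    let φ := (Matrix.reindexAlgEquiv F F e.symm).toMulEquiv.toMonoidHom
    have h := φ.map_isConj (CfsgLib.TransposeForm.isConj_transpose (M.submatrix e.symm e.symm))
    convert h using 1 <;> ext i j <;> simp [φ, e]
  have h2 : IsConj Mᵀ (A⁻¹).1 := by
    have hJ : (Matrix.J (Fin m) F) * Matrix.J (Fin m) F = -1 := Matrix.J_squared (Fin m) F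
    refine ⟨⟨-Matrix.J (Fin m) F, Matrix.J (Fin m) F, by rw [neg_mul, hJ, neg_neg],
      by rw [mul_neg, hJ, neg_neg]⟩, ?_⟩
    show -Matrix.J (Fin m) F * Mᵀ = (A⁻¹).1 * -Matrix.J (Fin m) F
    rw [SymplecticGroup.coe_inv, mul_assoc (-Matrix.J (Fin m) F * Mᵀ), mul_neg, hJ, neg_neg, mul_one]
  exact h1.trans h2

end Cfsg.Agent.S2586
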