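import Cfsg.Statements.S2593
import Cfsg.Agent.Lib.SympInvolution.Cent
-- import your own Cfsg.Agent.* helpers here

set_option autoImplicit false
open Cfsg

namespace Cfsg.Agent.S2593

open scoped Matrix

/-- Number of conjugacy classes of involutions in the symplectic group Sp_2m(F) over a finite field of characteristic two (m ≥ 1): for each s with 1 ≤ s ≤ m there is one class with rank(t − 1) = s if s is odd and two if s is even (according as v ↦ f(v, tv), f the symplectic form, vanishes identically or not), so m + ⌊m/2⌋ classes in all. -/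
theorem result {F : Type*} [Field F] [Fintype F] [CharP F 2] {m : ℕ} (hm : 1 ≤ m) : Nat.card {C : ConjClasses ↥(Matrix.symplecticGroup (Fin m) F) // ∃ g : Matrix.symplecticGroup (Fin m) F, ConjClasses.mk g = C ∧ orderOf g = 2} = m + m / 2 := by
  have hd : ∀ k : Fin m, ∃ t : ↥(Matrix.symplecticGroup (Fin m) F), t * t = 1 ∧ CfsgLib.SympInv.rk t = k.val + 1 ∧
      ¬ CfsgLib.SympInv.Alt t :=
    fun k => (CfsgLib.SympInv.exists_type (by omega) (by omega)).1
  have he : ∀ k : Fin (m / 2), ∃ t : ↥(Matrix.symplecticGroup (Fin m) F),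
      t * t = 1 ∧ CfsgLib.SympInv.rk t = 2 * (k.val + 1) ∧ CfsgLib.SympInv.Alt t :=
    fun k => (CfsgLib.SympInv.exists_type (s := 2 * (k.val + 1)) (by omega) (by omega)).2 (even_two_mul _)
  choose d hd1 hd2 hd3 using hd
  choose e he1 he2 he3 using he
  let r : Fin m ⊕ Fin (m / 2) → ↥(Matrix.symplecticGroup (Fin m) F) := Sum.elim d e
  have hr1 : ∀ p, r p * r p = 1 := fun p => by rcases p with k | k <;> simp [r, hd1, he1]
  have hord : ∀ p, orderOf (r p) = 2 := fun p => by
    refine orderOf_eq_prime (by rw [pow_two, hr1]) fun h => ?_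
    have h0 : CfsgLib.SympInv.rk (r p) = 0 := by rw [h, CfsgLib.SympInv.rk_one]
    rcases p with k | k <;> simp [r, hd2, he2] at h0
  rw [show m + m / 2 = Nat.card (Fin m ⊕ Fin (m / 2)) by simp]
  refine (Nat.card_eq_of_bijective (fun p => (⟨ConjClasses.mk (r p), r p, rfl, hord p⟩ :
    {C : ConjClasses ↥(Matrix.symplecticGroup (Fin m) F) // ∃ g, ConjClasses.mk g = C ∧ orderOf g = 2}))
      ⟨fun p p' h => ?_, fun C => ?_⟩).symm
  · obtain ⟨h1, h2⟩ := (CfsgLib.SympInv.isConj_iff (hr1 p) (hr1 p')).1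
      (ConjClasses.mk_eq_mk_iff_isConj.1 (congrArg Subtype.val h))
    rcases p with k | k <;> rcases p' with k' | k' <;> simp [r, hd2, he2, hd3, he3] at h1 h2
    · exact congrArg Sum.inl (Fin.ext h1)
    · exact congrArg Sum.inr (Fin.ext h1)
  · obtain ⟨C, g, rfl, hg⟩ := C
    have hgg : g * g = 1 := by rw [← pow_two, ← hg, pow_orderOf_eq_one]
    have hne : CfsgLib.SympInv.rk g ≠ 0 := fun h => by
      rw [CfsgLib.SympInv.eq_one_of_rk h, orderOf_one] at hg
      omega
    have hle := CfsgLib.SympInv.rk_le hgg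
    by_cases ha : CfsgLib.SympInv.Alt g
    · obtain ⟨j, hj, -⟩ := CfsgLib.SympInv.rk_alt hgg ha
      refine ⟨Sum.inr ⟨j - 1, by omega⟩, Subtype.ext (ConjClasses.mk_eq_mk_iff_isConj.2
        ((CfsgLib.SympInv.isConj_iff (hr1 _) hgg).2 ?_))⟩
      simp [r, he2, he3, ha]; omega
    · refine ⟨Sum.inl ⟨CfsgLib.SympInv.rk g - 1, by omega⟩, Subtype.ext (ConjClasses.mk_eq_mk_iff_isConj.2
        ((CfsgLib.SympInv.isConj_iff (hr1 _) hgg).2 ?_))⟩
      simp [r, hd2, hd3, ha]; omega

end Cfsg.Agent.S2593
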