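import Cfsg.Statements.S2594
import Cfsg.Agent.Lib.SympGen
import Cfsg.Agent.S0245

set_option autoImplicit false
open Cfsg
open scoped Matrix

namespace Cfsg.Agent.S2594

/-- Over a finite field with q elements, q even, an element t of Sp_2m(F) with rank(t − 1) = 1 (a symplectic transvection) has centraliser in Sp_2m(F) of order q^(2m−1) · |Sp_(2m−2)(q)| = q^(2m−1) · q^((m−1)²) · Π_(i=1)^(m−1) (q^(2i) − 1). -/
theorem result {F : Type*} [Field F] [Fintype F] [CharP F 2] {q : ℕ} (hF : Fintype.card F = q) {m : ℕ} (hm : 1 ≤ m) (t : Matrix.symplecticGroup (Fin m) F) (ht : ((t : Matrix (Fin m ⊕ Fin m) (Fin m ⊕ Fin m) F) - 1).rank = 1) : Nat.card ↥(Subgroup.centralizer ({t} : Set ↥(Matrix.symplecticGroup (Fin m) F))) = q ^ (2 * m - 1) * (q ^ ((m - 1) ^ 2) * ∏ i : Fin (m - 1), (q ^ (2 * ((i : ℕ) + 1)) - 1)) := by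
  classical
  subst hF
  have hm0 : 0 < m := hm
  have hh := fun (u : Fin m ⊕ Fin m → F) (c : F) (x : Fin m ⊕ Fin m → F) => CfsgLib.SympGen.tv_apply u c x
  set T : (Fin m ⊕ Fin m → F) →ₗ[F] (Fin m ⊕ Fin m → F) :=
    Matrix.mulVecLin ((t : Matrix (Fin m ⊕ Fin m) (Fin m ⊕ Fin m) F) - 1) with hT
  obtain ⟨u₀, hu₀, hspan⟩ := (finrank_eq_one_iff' (K := F) (V := ↥(LinearMap.range T))).mp ht
  have hTx : ∀ x, ∃ a : F, T x = a • (u₀ : Fin m ⊕ Fin m → F) := fun x =>
    (hspan ⟨T x, x, rfl⟩).imp fun a ha => (congrArg Subtype.val ha).symm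
  choose φ hφ using hTx
  have htx : ∀ x, (t : Matrix (Fin m ⊕ Fin m) (Fin m ⊕ Fin m) F) *ᵥ x = x + φ x • (u₀ : Fin m ⊕ Fin m → F) := by
    intro x
    rw [← hφ, hT, Matrix.mulVecLin_apply, Matrix.sub_mulVec, Matrix.one_mulVec, add_sub_cancel]
  have hu : (u₀ : Fin m ⊕ Fin m → F) ≠ 0 := fun h => hu₀ (Subtype.ext h)
  have hrel : ∀ x y, φ x * CfsgLib.SympGen.B (u₀ : Fin m ⊕ Fin m → F) y + φ y * CfsgLib.SympGen.B x (u₀ : Fin m ⊕ Fin m → F) = 0 := by
    intro x y
    have := CfsgLib.SympGen.B_map t x y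
    rw [htx, htx, CfsgLib.SympGen.B_add_left, CfsgLib.SympGen.B_add_right, CfsgLib.SympGen.B_add_right,
      CfsgLib.SympGen.B_smul_left, CfsgLib.SympGen.B_smul_left, CfsgLib.SympGen.B_smul_right,
      CfsgLib.SympGen.B_smul_right, CfsgLib.SympGen.B_self] at this
    linear_combination this
  obtain ⟨y0, hy0⟩ := CfsgLib.SympTransvection.exists_dot_ne hu
  have hy0' : CfsgLib.SympGen.B y0 (u₀ : Fin m ⊕ Fin m → F) ≠ 0 := hy0
  obtain ⟨c, hc⟩ : ∃ c, ∀ x, φ x = c * CfsgLib.SympGen.B x (u₀ : Fin m ⊕ Fin m → F) := by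
    refine ⟨φ y0 / CfsgLib.SympGen.B y0 (u₀ : Fin m ⊕ Fin m → F), fun x => ?_⟩
    have := hrel x y0
    rw [CfsgLib.SympGen.B_swap (u₀ : Fin m ⊕ Fin m → F) y0] at this
    field_simp
    linear_combination -this
  have htv : t = CfsgLib.SympTransvection.tv (u₀ : Fin m ⊕ Fin m → F) c := by
    refine Subtype.ext (Matrix.ext_of_mulVec_single fun i => ?_)
    rw [htx, hh, hc]
  have hc0 : c ≠ 0 := by
    intro h0
    refine hu₀ (Subtype.ext ?_)
    obtain ⟨x, hx⟩ := u₀.2
    have h : T x = (u₀ : Fin m ⊕ Fin m → F) := hx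
    rw [hφ, hc, h0, zero_mul, zero_smul] at h
    exact h.symm
  obtain ⟨a, ha⟩ := FiniteField.isSquare_of_char_two (ringChar.eq F 2) c
  have ha0 : a ≠ 0 := fun h => hc0 (by rw [ha, h, mul_zero])
  obtain ⟨u, hu1, htu⟩ : ∃ u, u ≠ 0 ∧ t = CfsgLib.SympTransvection.tv u 1 :=
    ⟨a • (u₀ : Fin m ⊕ Fin m → F), smul_ne_zero ha0 hu, by rw [htv, CfsgLib.SympGen.tv_smul, mul_one, sq, ← ha]⟩
  have hinj : ∀ v w : Fin m ⊕ Fin m → F, v ≠ 0 → w ≠ 0 →
      CfsgLib.SympTransvection.tv v 1 = CfsgLib.SympTransvection.tv w 1 → v = w := by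
    intro v w hv hw h
    obtain ⟨z, hz⟩ := CfsgLib.SympTransvection.exists_dot_ne hv
    have hz' : CfsgLib.SympGen.B z v ≠ 0 := hz
    have e := fun x => congrArg (fun g : Matrix.symplecticGroup (Fin m) F => g.1 *ᵥ x) h
    simp only [hh, one_mul, add_right_inj] at e
    have hw' : CfsgLib.SympGen.B z w ≠ 0 := fun h0 => by
      have := e z
      rw [h0, zero_smul] at this
      exact hz' ((smul_eq_zero.mp this).resolve_right hv)
    set k := (CfsgLib.SympGen.B z v)⁻¹ * CfsgLib.SympGen.B z w with hk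
    have hvw : v = k • w := by
      rw [hk, ← smul_smul, ← e z, smul_smul, inv_mul_cancel₀ hz', one_smul]
    have hkk : k * k = 1 := by
      have := e z
      rw [hvw, CfsgLib.SympGen.B_smul_right, smul_smul] at this
      have h' : (k * CfsgLib.SympGen.B z w * k - CfsgLib.SympGen.B z w) • w = 0 := by rw [sub_smul, this, sub_self]
      have h'' := (smul_eq_zero.mp h').resolve_right hw
      have h3 : (k * k - 1) * CfsgLib.SympGen.B z w = 0 := by linear_combination h''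
      exact sub_eq_zero.mp ((mul_eq_zero.mp h3).resolve_right hw')
    have : k = 1 := by
      have h4 : (k - 1) * (k - 1) = 0 := by linear_combination hkk + (1 - k) * (CharTwo.two_eq_zero (R := F))
      exact sub_eq_zero.mp (mul_self_eq_zero.mp h4)
    rw [hvw, this, one_smul]
  let Φ : {v : Fin m ⊕ Fin m → F // v ≠ 0} → {g : Matrix.symplecticGroup (Fin m) F // g ∈ MulAction.orbit (ConjAct (Matrix.symplecticGroup (Fin m) F)) t} :=
    fun v => ⟨CfsgLib.SympTransvection.tv v.1 1, by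
      obtain ⟨g, hg⟩ := CfsgLib.SympTransvection.transitive hu1 v.2
      exact ⟨ConjAct.toConjAct g, by
        show ConjAct.toConjAct g • t = _
        rw [ConjAct.toConjAct_smul, htu, CfsgLib.SympGen.conj_tv, hg]⟩⟩
  have hΦ : Function.Bijective Φ := by
    refine ⟨fun v w h => Subtype.ext (hinj _ _ v.2 w.2 (congrArg Subtype.val h)), ?_⟩
    rintro ⟨_, g, rfl⟩
    refine ⟨⟨(ConjAct.ofConjAct g).1 *ᵥ u, fun h0 => hu1 ?_⟩, Subtype.ext ?_⟩
    · have := congrArg (fun z => (ConjAct.ofConjAct g)⁻¹.1 *ᵥ z) h0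
      simp only [Matrix.mulVec_zero] at this
      rw [← CfsgLib.SympGen.mul_apply, inv_mul_cancel, CfsgLib.SympGen.one_apply] at this
      exact this
    · show CfsgLib.SympTransvection.tv _ 1 = g • t
      rw [ConjAct.smul_def, htu, CfsgLib.SympGen.conj_tv]
  have horb := MulAction.index_stabilizer (ConjAct (Matrix.symplecticGroup (Fin m) F)) t
  have hstab := Subgroup.card_mul_index (MulAction.stabilizer (ConjAct (Matrix.symplecticGroup (Fin m) F)) t)
  rw [horb] at hstab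
  have hncard : (MulAction.orbit (ConjAct (Matrix.symplecticGroup (Fin m) F)) t).ncard = Fintype.card F ^ (2 * m) - 1 := by
    rw [← Nat.card_coe_set_eq]
    refine (Nat.card_congr (Equiv.ofBijective Φ hΦ)).symm.trans ?_
    rw [Nat.card_eq_fintype_card, Fintype.card_subtype_compl, Fintype.card_subtype_eq, Fintype.card_fun,
      Fintype.card_sum, Fintype.card_fin, two_mul]
  rw [hncard, Nat.card_congr (ConjAct.ofConjAct (G := Matrix.symplecticGroup (Fin m) F)).toEquiv, Cfsg.Agent.S0245.result rfl m] at hstab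
  have hC : Nat.card (MulAction.stabilizer (ConjAct (Matrix.symplecticGroup (Fin m) F)) t) =
      Nat.card (Subgroup.centralizer ({t} : Set (Matrix.symplecticGroup (Fin m) F))) :=
    Nat.card_congr (ConjAct.toConjAct.toEquiv.subtypeEquiv fun x => by
      rw [Subgroup.mem_centralizer_iff, MulAction.mem_stabilizer_iff]
      simp only [Set.mem_singleton_iff, forall_eq, MulEquiv.toEquiv_eq_coe, MulEquiv.coe_toEquiv]
      rw [ConjAct.toConjAct_smul, mul_inv_eq_iff_eq_mul]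
      exact eq_comm).symm
  rw [hC] at hstab
  obtain ⟨k, rfl⟩ : ∃ k, m = k + 1 := ⟨m - 1, by omega⟩
  rw [Finset.prod_range_succ] at hstab
  rw [Nat.add_sub_cancel, Fin.prod_univ_eq_prod_range (fun i => Fintype.card F ^ (2 * (i + 1)) - 1) k]
  have hpos : 0 < Fintype.card F ^ (2 * (k + 1)) - 1 := by
    have := Nat.one_lt_pow (show 2 * (k + 1) ≠ 0 by omega) (Fintype.one_lt_card (α := F))
    omega
  refine Nat.eq_of_mul_eq_mul_right hpos (hstab.trans ?_)
  rw [show (k + 1) ^ 2 = (2 * (k + 1) - 1) + k ^ 2 by ring_nf; omega, pow_add]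
  ring

end Cfsg.Agent.S2594
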