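import Cfsg.Statements.S2599


set_option autoImplicit false
open Cfsg

namespace Cfsg.Agent.S2599

/-- An irreducible invariant subspace of a semisimple isometry is non-degenerate or totally singular: let Q be a quadratic form on F^n (F finite of characteristic p) with non-degenerate polar form f, x an isometry of Q of order prime to p, and U a non-zero x-invariant subspace containing no x-invariant subspace other than 0 and U. Then U meets its f-orthogonal trivially, or Q vanishes on U, or p = 2, U is a line spanned by a non-singular vector and x fixes U pointwise. -/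
theorem result {F : Type*} [Field F] [Fintype F] {p : ℕ} [Fact p.Prime] [CharP F p] {n : ℕ} (Q : QuadraticForm F (Fin n → F)) (hQ : (QuadraticMap.polarBilin Q).Nondegenerate) (x : ↥(Cfsg.isometryGroup F ⇑Q)) (hx : (orderOf x).Coprime p) (U : Submodule F (Fin n → F)) (hU0 : U ≠ ⊥) (hUx : ∀ u ∈ U, ((x : Matrix.GeneralLinearGroup (Fin n) F) : Matrix (Fin n) (Fin n) F).mulVec u ∈ U) (hirr : ∀ W : Submodule F (Fin n → F), W ≤ U → (∀ w ∈ W, ((x : Matrix.GeneralLinearGroup (Fin n) F) : Matrix (Fin n) (Fin n) F).mulVec w ∈ W) → W = ⊥ ∨ W = U) : U ⊓ LinearMap.BilinForm.orthogonal (QuadraticMap.polarBilin Q) U = ⊥ ∨ (∀ u ∈ U, Q u = 0) ∨ (p = 2 ∧ Module.finrank F U = 1 ∧ (∃ u ∈ U, Q u ≠ 0) ∧ ∀ u ∈ U, ((x : Matrix.GeneralLinearGroup (Fin n) F) : Matrix (Fin n) (Fin n) F).mulVec u = u) := by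
  classical
  set B := QuadraticMap.polarBilin Q with hB
  set A := ((x : Matrix.GeneralLinearGroup (Fin n) F) : Matrix (Fin n) (Fin n) F) with hA
  have hQA : ∀ v, Q (A.mulVec v) = Q v := fun v => x.2 v v
  have hBA : ∀ u v, B (A.mulVec u) (A.mulVec v) = B u v := by
    intro u v
    simp only [hB, QuadraticMap.polarBilin_apply_apply, QuadraticMap.polar, ← Matrix.mulVec_add, hQA]
  have hinj : Function.Injective A.mulVec :=
    Matrix.mulVec_injective_of_isUnit ⟨(x : Matrix.GeneralLinearGroup (Fin n) F), rfl⟩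
  have hsurjU : ∀ v ∈ U, ∃ u ∈ U, A.mulVec u = v := by
    intro v hv
    let f : U → U := fun u => ⟨A.mulVec u, hUx u u.2⟩
    have hf : Function.Surjective f := Finite.injective_iff_surjective.mp
      fun a b h => Subtype.ext (hinj (congrArg Subtype.val h))
    obtain ⟨u, hu⟩ := hf ⟨v, hv⟩
    exact ⟨u, u.2, congrArg Subtype.val hu⟩
  have hW : ∀ w ∈ U ⊓ LinearMap.BilinForm.orthogonal B U,
      A.mulVec w ∈ U ⊓ LinearMap.BilinForm.orthogonal B U := by
    intro w hw
    refine ⟨hUx w hw.1, fun v hv => ?_⟩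
    obtain ⟨u, hu, rfl⟩ := hsurjU v hv
    show B (A.mulVec u) (A.mulVec w) = 0
    rw [hBA]
    exact hw.2 u hu
  rcases hirr _ inf_le_left hW with h | h
  · exact Or.inl h
  right
  have hperp : ∀ u ∈ U, ∀ v ∈ U, B v u = 0 := fun u hu v hv => (h.ge hu).2 v hv
  have hself : ∀ u ∈ U, (2 : F) * Q u = 0 := by
    intro u hu
    have := hperp u hu u hu
    rwa [hB, QuadraticMap.polarBilin_apply_apply, QuadraticMap.polar_self, nsmul_eq_mul, Nat.cast_ofNat] at this
  by_cases h2 : (2 : F) = 0
  swap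
  · exact Or.inl fun u hu => (mul_eq_zero.mp (hself u hu)).resolve_left h2
  have hadd : ∀ u ∈ U, ∀ v ∈ U, Q (u + v) = Q u + Q v := by
    intro u hu v hv
    have := hperp v hv u hu
    rw [hB, QuadraticMap.polarBilin_apply_apply, QuadraticMap.polar] at this
    linear_combination this
  let W : Submodule F (Fin n → F) :=
    { carrier := {u | u ∈ U ∧ Q u = 0}
      zero_mem' := ⟨U.zero_mem, by simp⟩
      add_mem' := fun {a b} ha hb => ⟨U.add_mem ha.1 hb.1, by rw [hadd a ha.1 b hb.1, ha.2, hb.2, add_zero]⟩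
      smul_mem' := fun c a ha => ⟨U.smul_mem c ha.1, by rw [QuadraticMap.map_smul, ha.2, smul_zero]⟩ }
  rcases hirr W (fun u hu => hu.1) (fun w hw => ⟨hUx w hw.1, by rw [hQA]; exact hw.2⟩) with hw0 | hwU
  swap
  · exact Or.inl fun u hu => (hwU.ge hu).2
  right
  have hp2 : p = 2 := by
    have hd : p ∣ 2 := (CharP.cast_eq_zero_iff F p 2).mp (by exact_mod_cast h2)
    exact (Nat.prime_dvd_prime_iff_eq (Fact.out : p.Prime) Nat.prime_two).mp hd
  have hQinj : ∀ a ∈ U, ∀ b ∈ U, Q a = Q b → a = b := by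
    intro a ha b hb hab
    have hm : a - b ∈ W := by
      refine ⟨U.sub_mem ha hb, ?_⟩
      have := hadd (a - b) (U.sub_mem ha hb) b hb
      rw [sub_add_cancel] at this
      linear_combination hab - this
    rw [hw0, Submodule.mem_bot, sub_eq_zero] at hm
    exact hm
  have hcard : Nat.card U ≤ Nat.card F :=
    Nat.card_le_card_of_injective (fun u : U => Q u) fun a b hab => Subtype.ext (hQinj a a.2 b b.2 hab)
  rw [Module.natCard_eq_pow_finrank (K := F) (V := U)] at hcard
  have hr : Module.finrank F U ≤ 1 := by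
    by_contra hr
    have hF : 1 < Nat.card F := Finite.one_lt_card
    have := Nat.pow_lt_pow_right hF (show 1 < Module.finrank F U by omega)
    rw [pow_one] at this
    omega
  obtain ⟨u, hu, hu0⟩ := Submodule.exists_mem_ne_zero_of_ne_bot hU0
  refine ⟨hp2, ?_, ⟨u, hu, fun h0 => hu0 (hQinj u hu 0 U.zero_mem (by rw [h0, QuadraticMap.map_zero]))⟩,
    fun v hv => hQinj _ (hUx v hv) v hv (hQA v)⟩
  have : Module.finrank F U ≠ 0 := fun h0 => hU0 (Submodule.finrank_eq_zero.mp h0)
  omega

end Cfsg.Agent.S2599
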