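import Cfsg.Statements.S2601
import Cfsg.Agent.Lib.PSLn.Group

set_option autoImplicit false
open Cfsg

open CfsgLib.PSLn

namespace Cfsg.Agent.S2601

/-- Structure of the outer automorphism group of PSL_n(q), n ≥ 3, q = p^f: it has a normal cyclic subgroup of order gcd(n, q − 1) (the diagonal automorphisms) whose quotient is the direct product of a cyclic group of order f (field automorphisms) and a group of order 2 (the inverse-transpose graph automorphism). -/
theorem result {F : Type*} [Field F] [Fintype F] {p f n : ℕ} [Fact p.Prime] (hf : 1 ≤ f) (hF : Fintype.card F = p ^ f) (hn : 3 ≤ n) : ∃ φ : Cfsg.Out (Matrix.ProjectiveSpecialLinearGroup (Fin n) F) →* Multiplicative (ZMod f × ZMod 2), Function.Surjective φ ∧ IsCyclic φ.ker ∧ Nat.card φ.ker = Nat.gcd n (p ^ f - 1) := by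
  have : CharP F p := charP_of_card_eq_prime_pow hF
  have hn2 : 2 ≤ n := by omega
  obtain ⟨hcyc, hcard⟩ := CfsgLib.PSLn.ringAut_cyclic (F := F) hF
  set K := (diagAut : GL (Fin n) F →* MulAut (Matrix.ProjectiveSpecialLinearGroup (Fin n) F)).range
    with hK
  have : K.Normal := diagAut_range_normal p hn2
  let B := MulEquiv.ofBijective _ (fieldGraph_bijective (F := F) (n := n) p hn K hK)
  let E : RingAut F × Multiplicative (ZMod 2) ≃* Multiplicative (ZMod f × ZMod 2) :=
    (MulEquiv.prodCongr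
      ((zmodCyclicMulEquiv hcyc).symm.trans
        (AddEquiv.toMultiplicative (ZMod.ringEquivCongr hcard).toAddEquiv))
      (MulEquiv.refl _)).trans (MulEquiv.prodMultiplicative (ZMod f) (ZMod 2)).symm
  let θ : MulAut (Matrix.ProjectiveSpecialLinearGroup (Fin n) F) →* Multiplicative (ZMod f × ZMod 2) :=
    (E.toMonoidHom.comp B.symm.toMonoidHom).comp (QuotientGroup.mk' K)
  have hθ : ∀ x, θ x = 1 ↔ x ∈ K := by
    intro x
    show E (B.symm (QuotientGroup.mk' K x)) = 1 ↔ x ∈ K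
    rw [MulEquiv.map_eq_one_iff, MulEquiv.map_eq_one_iff, QuotientGroup.mk'_apply,
      QuotientGroup.eq_one_iff]
  have hinn : Cfsg.Inn (Matrix.ProjectiveSpecialLinearGroup (Fin n) F) ≤ θ.ker := by
    rintro _ ⟨x, rfl⟩
    obtain ⟨A, rfl⟩ := CfsgLib.PSLn.mk_surjective x
    rw [MonoidHom.mem_ker, hθ, hK]
    exact ⟨_, diagAut_toGL A⟩
  let φ := QuotientGroup.lift (Cfsg.Inn (Matrix.ProjectiveSpecialLinearGroup (Fin n) F)) θ hinn
  let Ψ : Fˣ →* φ.ker := ((QuotientGroup.mk' _).comp (diagAut.comp (dil hn2))).codRestrict _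
    fun c => (hθ _).mpr ⟨_, rfl⟩
  have hΨ : Function.Surjective Ψ := by
    rintro ⟨x, hx⟩
    obtain ⟨a, rfl⟩ := QuotientGroup.mk'_surjective _ x
    obtain ⟨g, rfl⟩ := (hθ a).mp hx
    obtain ⟨A, hA⟩ := exists_toGL_of_det_one ((dil hn2 (Matrix.GeneralLinearGroup.det g))⁻¹ * g)
      (by rw [map_mul, map_inv, det_dil, inv_mul_cancel])
    refine ⟨Matrix.GeneralLinearGroup.det g, Subtype.ext ?_⟩
    show QuotientGroup.mk' _ (diagAut (dil hn2 _)) = QuotientGroup.mk' _ (diagAut g)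
    conv_rhs => rw [show g = dil hn2 (Matrix.GeneralLinearGroup.det g) *
      Matrix.SpecialLinearGroup.toGL A by rw [hA, mul_inv_cancel_left]]
    rw [map_mul diagAut, map_mul, diagAut_toGL,
      show QuotientGroup.mk' (Cfsg.Inn (Matrix.ProjectiveSpecialLinearGroup (Fin n) F))
        (MulAut.conj (mk A)) = 1 from (QuotientGroup.eq_one_iff _).mpr ⟨mk A, rfl⟩, mul_one]
  have hker : Ψ.ker = (powMonoidHom n : Fˣ →* Fˣ).range := by
    ext c
    rw [← dil_inner_iff hn2, MonoidHom.mem_ker, Subtype.ext_iff]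
    show QuotientGroup.mk' _ (diagAut (dil hn2 c)) = 1 ↔ _
    rw [QuotientGroup.mk'_apply, QuotientGroup.eq_one_iff, MonoidHom.mem_range]
    exact ⟨fun ⟨x, hx⟩ => ⟨x, hx.symm⟩, fun ⟨x, hx⟩ => ⟨x, hx.symm⟩⟩
  refine ⟨φ, ?_, isCyclic_of_surjective Ψ hΨ, ?_⟩
  · intro y
    refine ⟨QuotientGroup.mk' _ (fieldGraph (E.symm y)), ?_⟩
    show E (B.symm (QuotientGroup.mk' K (fieldGraph (E.symm y)))) = y
    rw [show QuotientGroup.mk' K (fieldGraph (E.symm y)) = B (E.symm y) from rfl,
      MulEquiv.symm_apply_apply, MulEquiv.apply_symm_apply]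
  · rw [← Nat.card_congr (QuotientGroup.quotientKerEquivOfSurjective Ψ hΨ).toEquiv,
      ← Subgroup.index_eq_card, hker, IsCyclic.index_powMonoidHom_range, Nat.card_units,
      Nat.card_eq_fintype_card, hF, Nat.gcd_comm]

end Cfsg.Agent.S2601
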