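import Cfsg.Statements.S2602
import Cfsg.Agent.Lib.PSL2.Out

set_option autoImplicit false
open Cfsg

open CfsgLib.PSL2

namespace Cfsg.Agent.S2602

/-- The ring automorphisms of a finite field form a cyclic group of order the degree. -/
private theorem ringAut_cyclic {F : Type*} [Field F] [Fintype F] {p f : ℕ} [Fact p.Prime]
    (hF : Fintype.card F = p ^ f) [CharP F p] :
    IsCyclic (RingAut F) ∧ Nat.card (RingAut F) = f := by
  letI : Algebra (ZMod p) F := ZMod.algebra F p
  have : Module.Finite (ZMod p) F := Module.Finite.of_finite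
  let E : (F ≃ₐ[ZMod p] F) ≃* RingAut F :=
    { toFun := fun e => e.toRingEquiv
      invFun := fun e => AlgEquiv.ofRingEquiv (f := e) fun x =>
        RingHom.congr_fun (Subsingleton.elim ((e.toRingHom).comp (algebraMap (ZMod p) F))
          (algebraMap (ZMod p) F)) x
      left_inv := fun e => AlgEquiv.ext fun _ => rfl
      right_inv := fun e => RingEquiv.ext fun _ => rfl
      map_mul' := fun _ _ => rfl }
  refine ⟨(E.isCyclic).mp inferInstance, ?_⟩
  rw [← Nat.card_congr E.toEquiv, IsGalois.card_aut_eq_finrank]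
  have := Module.card_eq_pow_finrank (K := ZMod p) (V := F)
  rw [hF, ZMod.card] at this
  exact (Nat.pow_right_injective (Fact.out : p.Prime).two_le this).symm

/-- Structure of the outer automorphism group of PSL_2(q), q = p^f ≥ 4: it has a normal cyclic subgroup of order gcd(2, q − 1) (diagonal automorphisms) with cyclic quotient of order f (field automorphisms); there is no graph automorphism in dimension 2. -/
theorem result {F : Type*} [Field F] [Fintype F] {p f : ℕ} [Fact p.Prime] (hf : 1 ≤ f) (hF : Fintype.card F = p ^ f) (h4 : 4 ≤ p ^ f) : ∃ φ : Cfsg.Out (Matrix.ProjectiveSpecialLinearGroup (Fin 2) F) →* Multiplicative (ZMod f), Function.Surjective φ ∧ IsCyclic φ.ker ∧ Nat.card φ.ker = Nat.gcd 2 (p ^ f - 1) := by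
  have : CharP F p := charP_of_card_eq_prime_pow hF
  obtain ⟨hcyc, hcard⟩ := ringAut_cyclic (F := F) hF
  let E : RingAut F ≃* Multiplicative (ZMod f) :=
    (zmodCyclicMulEquiv hcyc).symm.trans
      (AddEquiv.toMultiplicative (ZMod.ringEquivCongr hcard).toAddEquiv)
  let θ : MulAut (Matrix.ProjectiveSpecialLinearGroup (Fin 2) F) →* Multiplicative (ZMod f) :=
    E.toMonoidHom.comp (fieldPart p)
  have hinn : Cfsg.Inn (Matrix.ProjectiveSpecialLinearGroup (Fin 2) F) ≤ θ.ker := by
    rintro _ ⟨x, rfl⟩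
    obtain ⟨A, rfl⟩ := QuotientGroup.mk'_surjective _ x
    have h : fieldPart p (MulAut.conj (mk A)) = RingEquiv.refl F := fieldPart_eq p
      (g := Matrix.SpecialLinearGroup.toGL A) (by rw [diagAut_toGL, fieldAut_refl, mul_one])
    show E (fieldPart p (MulAut.conj (mk A))) = 1
    rw [h]; exact map_one E
  let φ := QuotientGroup.lift (Cfsg.Inn (Matrix.ProjectiveSpecialLinearGroup (Fin 2) F)) θ hinn
  -- diagonal automorphisms
  let Ψ : Fˣ →* φ.ker := ((QuotientGroup.mk' _).comp (diagAut.comp dil)).codRestrict _ fun c => by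
    show θ (diagAut (dil c)) = 1
    have h : fieldPart p (diagAut (dil c)) = RingEquiv.refl F := fieldPart_eq p
      (g := dil c) (by rw [fieldAut_refl, mul_one])
    show E (fieldPart p (diagAut (dil c))) = 1
    rw [h]; exact map_one E
  have hΨ : Function.Surjective Ψ := by
    rintro ⟨x, hx⟩
    obtain ⟨a, rfl⟩ := QuotientGroup.mk'_surjective _ x
    have h1 : fieldPart p a = 1 := E.injective (by rw [map_one]; exact hx)
    obtain ⟨g, rfl⟩ := exists_of_fieldPart_eq_one p h1
    obtain ⟨c, A, rfl⟩ := exists_dil_mul g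
    refine ⟨c, Subtype.ext ?_⟩
    show QuotientGroup.mk' _ (diagAut (dil c)) = QuotientGroup.mk' _ (diagAut (dil c * _))
    rw [map_mul diagAut, map_mul, diagAut_toGL,
      show QuotientGroup.mk' (Cfsg.Inn (Matrix.ProjectiveSpecialLinearGroup (Fin 2) F))
        (MulAut.conj (mk A)) = 1 from (QuotientGroup.eq_one_iff _).mpr ⟨mk A, rfl⟩, mul_one]
  have hker : Ψ.ker = (powMonoidHom 2 : Fˣ →* Fˣ).range := by
    ext c
    rw [← dil_inner_iff]
    rw [MonoidHom.mem_ker, Subtype.ext_iff]
    show QuotientGroup.mk' _ (diagAut (dil c)) = 1 ↔ _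
    rw [QuotientGroup.mk'_apply, QuotientGroup.eq_one_iff, MonoidHom.mem_range]
    exact ⟨fun ⟨x, hx⟩ => ⟨x, hx.symm⟩, fun ⟨x, hx⟩ => ⟨x, hx.symm⟩⟩
  refine ⟨φ, ?_, isCyclic_of_surjective Ψ hΨ, ?_⟩
  · intro y
    refine ⟨QuotientGroup.mk' _ (fieldAut (E.symm y)), ?_⟩
    show θ (fieldAut (E.symm y)) = y
    have h : fieldPart p (fieldAut (E.symm y)) = E.symm y := fieldPart_eq p (g := 1) (by simp)
    show E (fieldPart p (fieldAut (E.symm y))) = y
    rw [h, MulEquiv.apply_symm_apply]
  · rw [← Nat.card_congr (QuotientGroup.quotientKerEquivOfSurjective Ψ hΨ).toEquiv,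
      ← Subgroup.index_eq_card, hker, IsCyclic.index_powMonoidHom_range, Nat.card_units,
      Nat.card_eq_fintype_card, hF, Nat.gcd_comm]

end Cfsg.Agent.S2602
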