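import Cfsg.Statements.S2610
import Cfsg.Agent.Lib.OmegaMem

set_option autoImplicit false
open Cfsg

namespace Cfsg.Agent.S2610

/-- For a quadratic form Q on F^n with non-degenerate polar form, F finite of odd order and n ≥ 2 even, the isometry −1 lies in Ω (the commutator subgroup of the orthogonal group) if and only if the discriminant of Q (the determinant of the Gram matrix of its polar form) is a square. -/
theorem result {F : Type*} [Field F] [Fintype F] (h2 : (2 : F) ≠ 0) {n : ℕ} (hn : 2 ≤ n) (he : Even n) (Q : QuadraticForm F (Fin n → F)) (hQ : (QuadraticMap.polarBilin Q).Nondegenerate) : (∃ g : ↥(Cfsg.isometryGroup F ⇑Q), g ∈ Cfsg.Omega F ⇑Q ∧ ((g : Matrix.GeneralLinearGroup (Fin n) F) : Matrix (Fin n) (Fin n) F) = -1) ↔ IsSquare (Matrix.of (fun i j : Fin n => QuadraticMap.polar ⇑Q (Pi.single i 1) (Pi.single j 1))).det := by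
  classical
  haveI : Invertible (2 : F) := invertibleOfNonzero h2
  have hsymm : LinearMap.IsSymm (QuadraticMap.polarBilin Q) :=
    ⟨fun x y => by simp [QuadraticMap.polar_comm (⇑Q) x y]⟩
  obtain ⟨b0, hb0⟩ := LinearMap.BilinForm.exists_orthogonal_basis hsymm
  let b : Module.Basis (Fin n) F (Fin n → F) := b0.reindex (finCongr (by simp))
  have hb : ∀ i j, i ≠ j → QuadraticMap.polar ⇑Q (b i) (b j) = 0 := by
    intro i j hij
    have := hb0 (show (finCongr (by simp : Module.finrank F (Fin n → F) = n)).symm i ≠ (finCongr (by simp)).symm j from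
      fun h => hij ((Equiv.injective _) h))
    simpa [b, Function.onFun, LinearMap.BilinForm.IsOrtho] using this
  have hbne : ∀ i, Q (b i) ≠ 0 := by
    intro i h0
    refine b.ne_zero i (hQ.1 (b i) fun y => ?_)
    have : (QuadraticMap.polarBilin Q) (b i) = 0 := b.ext fun j => by
      rw [QuadraticMap.polarBilin_apply_apply, LinearMap.zero_apply]
      by_cases hij : i = j
      · subst hij
        rw [QuadraticMap.polar_self, h0, smul_zero]
      · exact hb i j hij
    rw [this, LinearMap.zero_apply]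
  set vs := List.ofFn (fun i => b i) with hvs
  have hpw : vs.Pairwise (fun a c => QuadraticMap.polar ⇑Q a c = 0) := by
    rw [hvs, List.pairwise_ofFn]
    exact fun i j hij => hb i j (ne_of_lt hij)
  have hne : ∀ v ∈ vs, Q v ≠ 0 := by
    intro v hv
    obtain ⟨i, rfl⟩ := List.mem_ofFn.mp hv
    exact hbne i
  have hprod : (vs.map fun v => Cfsg.reflectionMatrix (⇑Q) v).prod = -1 := by
    apply Matrix.toLin'.injective
    refine b.ext fun i => ?_
    rw [Matrix.toLin'_apply, Matrix.toLin'_apply, Matrix.neg_mulVec, Matrix.one_mulVec,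
      CfsgLib.OmegaMem.prod_mulVec_neg Q vs (b i) (List.mem_ofFn.mpr ⟨i, rfl⟩) hpw (hbne i)]
  have hkey : (∃ g : ↥(Cfsg.isometryGroup F ⇑Q), g ∈ Cfsg.Omega F ⇑Q ∧ ((g : Matrix.GeneralLinearGroup (Fin n) F) : Matrix (Fin n) (Fin n) F) = -1) ↔ IsSquare (∏ i, Q (b i)) := by
    obtain ⟨g, hg, -⟩ := CfsgLib.OmegaMem.exists_refl_prod Q h2 hQ vs hne
    have hiff := CfsgLib.OmegaMem.omega_iff_prod Q h2 (by simpa using hn) hQ g vs hne hg
    rw [show vs.length = n by simp [hvs], show (vs.map fun v => Q v).prod = ∏ i, Q (b i) by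
      rw [hvs, List.map_ofFn, List.prod_ofFn]; rfl] at hiff
    constructor
    · rintro ⟨g', hg', e⟩
      have : g' = g := Subtype.ext (Units.ext (by rw [e, hg, hprod]))
      exact (hiff.mp (this ▸ hg')).2
    · exact fun h => ⟨g, hiff.mpr ⟨he, h⟩, hg.trans hprod⟩
  rw [hkey]
  set P := (Pi.basisFun F (Fin n)).toMatrix (fun i => b i) with hP
  have hdetP : P.det ≠ 0 := by
    haveI := (Pi.basisFun F (Fin n)).invertibleToMatrix b
    exact (Matrix.isUnit_det_of_invertible P).ne_zero
  set G := Matrix.of (fun i j : Fin n => QuadraticMap.polar ⇑Q (Pi.single i 1) (Pi.single j 1)) with hG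
  have hG' : P.transpose * G * P = Matrix.diagonal (fun i => 2 * Q (b i)) := by
    have hGm : G = LinearMap.BilinForm.toMatrix (Pi.basisFun F (Fin n)) (QuadraticMap.polarBilin Q) := by
      ext i j
      simp [hG, LinearMap.BilinForm.toMatrix_apply]
    rw [hGm, hP, LinearMap.BilinForm.toMatrix_mul_basis_toMatrix]
    ext i j
    rw [LinearMap.BilinForm.toMatrix_apply, QuadraticMap.polarBilin_apply_apply, Matrix.diagonal_apply]
    by_cases hij : i = j
    · subst hij
      rw [if_pos rfl, QuadraticMap.polar_self, nsmul_eq_mul, Nat.cast_ofNat]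
    · rw [if_neg hij]; exact hb i j hij
  have hdet := congrArg Matrix.det hG'
  rw [Matrix.det_mul, Matrix.det_mul, Matrix.det_transpose, Matrix.det_diagonal, Finset.prod_mul_distrib,
    Finset.prod_const, Finset.card_univ, Fintype.card_fin] at hdet
  obtain ⟨k, rfl⟩ := he
  have hprod0 : ∏ i, Q (b i) ≠ 0 := Finset.prod_ne_zero_iff.mpr fun i _ => hbne i
  have e1 : G.det = ((2 : F) ^ k / P.det) * ((2 : F) ^ k / P.det) * ∏ i, Q (b i) := by
    field_simp
    linear_combination hdet
  rw [e1, CfsgLib.OmegaMem.isSquare_mul_iff h2 (mul_ne_zero (div_ne_zero (pow_ne_zero _ h2) hdetP) (div_ne_zero (pow_ne_zero _ h2) hdetP)) hprod0]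
  exact ⟨fun h => ⟨fun _ => h, fun _ => ⟨_, rfl⟩⟩, fun h => h.mp ⟨_, rfl⟩⟩

end Cfsg.Agent.S2610
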