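import Cfsg.Statements.S2611
import Cfsg.Agent.Lib.OmegaPlus

set_option autoImplicit false
open Cfsg

namespace Cfsg.Agent.S2611

/-- For the hyperbolic quadratic form Σ x_i y_i on F^(2m) (F finite, m ≥ 1, excluding m = 2 over the field of two elements) and an invertible m × m matrix A, the block-diagonal isometry diag(A, (A⁻¹)ᵀ), which stabilises the two maximal totally singular subspaces x = 0 and y = 0, lies in Ω⁺_2m(F) (the commutator subgroup of the orthogonal group) if and only if det A is a square in F. -/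
theorem result {F : Type*} [Field F] [Fintype F] {m : ℕ} (hm : 1 ≤ m) (h : Fintype.card F ≠ 2 ∨ m ≠ 2) (A : GL (Fin m) F) : (∃ g : ↥(Cfsg.isometryGroup F (Cfsg.quadFormPlus m F)), g ∈ Cfsg.Omega F (Cfsg.quadFormPlus m F) ∧ ((g : Matrix.GeneralLinearGroup (Fin m ⊕ Fin m) F) : Matrix (Fin m ⊕ Fin m) (Fin m ⊕ Fin m) F) = Matrix.fromBlocks (A : Matrix (Fin m) (Fin m) F) 0 0 ((A : Matrix (Fin m) (Fin m) F)⁻¹).transpose) ↔ IsSquare (A : Matrix (Fin m) (Fin m) F).det := by
  classical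
  have hfun : Cfsg.quadFormPlus m F = ⇑(CfsgLib.Lagrangian.Qp m F) :=
    funext fun v => (CfsgLib.Lagrangian.Qp_apply v).symm
  rw [hfun]
  have hnd : (QuadraticMap.polarBilin (CfsgLib.Lagrangian.Qp m F)).Nondegenerate := CfsgLib.Lagrangian.Qp_nondeg
  have hc := CfsgLib.SpinorMatrix.hc_of (CfsgLib.Lagrangian.Qp m F) hnd
    (CfsgLib.SpinorMatrix.field_cond (h.imp id fun h' => by simp; omega))
  obtain ⟨vs, hvs, hT, hev, hsq⟩ := CfsgLib.OmegaPlus.good_all h hc A.1 (Matrix.GeneralLinearGroup.det_ne_zero A)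
  obtain ⟨g, hg⟩ := CfsgLib.OmegaList.exists_iso (CfsgLib.Lagrangian.Qp m F) vs hvs
  have hiff := CfsgLib.OmegaList.omega_iff_list _ hc hnd g vs hvs hg
  constructor
  · rintro ⟨g', hg', e⟩
    have : g' = g := Subtype.ext (Units.ext (by rw [hg, hT]; exact e))
    exact hsq.mp (hiff.mp (this ▸ hg')).2
  · exact fun hd => ⟨g, hiff.mpr ⟨hev, hsq.mpr hd⟩, by rw [hg, hT]; rfl⟩

end Cfsg.Agent.S2611
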