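import Cfsg.Statements.S2612
import Cfsg.Agent.Lib.OmegaPlus

set_option autoImplicit false
open Cfsg

namespace Cfsg.Agent.S2612

/-- For the hyperbolic quadratic form Σ x_i y_i on F^(2m) (F finite, m ≥ 1, excluding m = 2 over the field of two elements), Ω⁺_2m(F) (the commutator subgroup of the orthogonal group) contains an element interchanging the two complementary maximal totally singular subspaces {y = 0} and {x = 0} if and only if m is even (dimension divisible by 4). -/
theorem result {F : Type*} [Field F] [Fintype F] {m : ℕ} (hm : 1 ≤ m) (h : Fintype.card F ≠ 2 ∨ m ≠ 2) : (∃ g : ↥(Cfsg.isometryGroup F (Cfsg.quadFormPlus m F)), g ∈ Cfsg.Omega F (Cfsg.quadFormPlus m F) ∧ (∀ v : Fin m ⊕ Fin m → F, (∀ i, v (Sum.inr i) = 0) → ∀ i, (((g : Matrix.GeneralLinearGroup (Fin m ⊕ Fin m) F) : Matrix (Fin m ⊕ Fin m) (Fin m ⊕ Fin m) F).mulVec v) (Sum.inl i) = 0) ∧ (∀ v : Fin m ⊕ Fin m → F, (∀ i, v (Sum.inl i) = 0) → ∀ i, (((g : Matrix.GeneralLinearGroup (Fin m ⊕ Fin m)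 F) : Matrix (Fin m ⊕ Fin m) (Fin m ⊕ Fin m) F).mulVec v) (Sum.inr i) = 0)) ↔ Even m := by
  classical
  have hfun : Cfsg.quadFormPlus m F = ⇑(CfsgLib.Lagrangian.Qp m F) :=
    funext fun v => (CfsgLib.Lagrangian.Qp_apply v).symm
  rw [hfun]
  have hnd : (QuadraticMap.polarBilin (CfsgLib.Lagrangian.Qp m F)).Nondegenerate := CfsgLib.Lagrangian.Qp_nondeg
  have hc := CfsgLib.SpinorMatrix.hc_of (CfsgLib.Lagrangian.Qp m F) hnd
    (CfsgLib.SpinorMatrix.field_cond (h.imp id fun h' => by simp; omega))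
  set ws := (List.finRange m).map (fun j => CfsgLib.OmegaPlus.w (F := F) j (-1)) with hws
  have hwne : ∀ v ∈ ws, CfsgLib.Lagrangian.Qp m F v ≠ 0 := by
    intro v hv
    obtain ⟨j, -, rfl⟩ := List.mem_map.mp hv
    rw [CfsgLib.OmegaPlus.Qp_w]
    exact neg_ne_zero.mpr one_ne_zero
  have hlen : ws.length = m := by simp [hws]
  constructor
  · rintro ⟨g, hg, hA, hB⟩
    set M := g.1.1 with hM
    have h11 : M.toBlocks₁₁ = 0 := Matrix.ext_of_mulVec_single fun j => by
      funext i
      have := hA (Pi.single (Sum.inl j) 1) (fun i => by simp) i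
      simpa [Matrix.toBlocks₁₁] using this
    have h22 : M.toBlocks₂₂ = 0 := Matrix.ext_of_mulVec_single fun j => by
      funext i
      have := hB (Pi.single (Sum.inr j) 1) (fun i => by simp) i
      simpa [Matrix.toBlocks₂₂] using this
    have hMb : M = Matrix.fromBlocks 0 M.toBlocks₁₂ M.toBlocks₂₁ 0 := by
      conv_lhs => rw [← Matrix.fromBlocks_toBlocks M, h11, h22]
    have hCB : M.toBlocks₂₁.transpose * M.toBlocks₁₂ = 1 := by
      ext a b
      have h1 := g.2 (Pi.single (Sum.inl a) 1 + Pi.single (Sum.inr b) 1) 0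
      have h2 : CfsgLib.Lagrangian.Qp m F (M.mulVec (Pi.single (Sum.inl a) 1 + Pi.single (Sum.inr b) 1)) =
          CfsgLib.Lagrangian.Qp m F (Pi.single (Sum.inl a) 1 + Pi.single (Sum.inr b) 1) := h1
      rw [hMb, CfsgLib.Lagrangian.Qp_apply, CfsgLib.Lagrangian.Qp_apply] at h2
      simp [Cfsg.quadFormPlus, Matrix.mulVec, dotProduct, Fintype.sum_sum_type, Pi.single_apply, mul_comm] at h2
      rw [Matrix.one_apply]
      simp [Matrix.mul_apply]
      rw [eq_comm] at h2
      simp [eq_comm] at h2 ⊢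
      rw [h2]
      exact Finset.sum_congr rfl fun _ _ => mul_comm _ _
    have hdet : M.toBlocks₂₁.det ≠ 0 := by
      intro h0
      have := congrArg Matrix.det hCB
      rw [Matrix.det_mul, Matrix.det_transpose, h0, zero_mul, Matrix.det_one] at this
      exact zero_ne_one this
    have hB12 : M.toBlocks₁₂ = (M.toBlocks₂₁⁻¹).transpose := by
      rw [Matrix.transpose_nonsing_inv]
      exact (Matrix.inv_eq_right_inv hCB).symm
    obtain ⟨vs, hvs, hT, hev, -⟩ := CfsgLib.OmegaPlus.good_all h hc M.toBlocks₂₁ hdet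
    have hgw : g.1.1 = CfsgLib.OmegaList.RP (CfsgLib.Lagrangian.Qp m F) (ws ++ vs) := by
      rw [CfsgLib.OmegaList.RP_append, hws, CfsgLib.OmegaPlus.sigma_word, hT, CfsgLib.OmegaPlus.T, ← hM]
      conv_lhs => rw [hMb, hB12]
      rw [Matrix.fromBlocks_multiply]
      simp
    have := ((CfsgLib.OmegaList.omega_iff_list _ hc hnd g (ws ++ vs) (fun v hv => by
      rcases List.mem_append.mp hv with h' | h'
      · exact hwne v h'
      · exact hvs v h') hgw).mp hg).1
    rw [List.length_append, hlen] at this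
    exact (Nat.even_add.mp this).mpr hev
  · intro he
    obtain ⟨g, hg⟩ := CfsgLib.OmegaList.exists_iso (CfsgLib.Lagrangian.Qp m F) ws hwne
    have hQP : CfsgLib.OmegaList.QP (CfsgLib.Lagrangian.Qp m F) ws = (-1 : F) ^ m := by
      simp [CfsgLib.OmegaList.QP, hws, List.map_map, Function.comp_def, CfsgLib.OmegaPlus.Qp_w]
    refine ⟨g, (CfsgLib.OmegaList.omega_iff_list _ hc hnd g ws hwne hg).mpr ⟨hlen.symm ▸ he, ?_⟩, ?_, ?_⟩
    · rw [hQP, he.neg_one_pow]; exact IsSquare.one
    · intro v hv i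
      rw [hg, hws, CfsgLib.OmegaPlus.sigma_word, Matrix.fromBlocks_mulVec]
      simp [hv i]
    · intro v hv i
      rw [hg, hws, CfsgLib.OmegaPlus.sigma_word, Matrix.fromBlocks_mulVec]
      simp [hv i]

end Cfsg.Agent.S2612
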