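import Cfsg.Statements.S2614
import Cfsg.Agent.Lib.OmegaMem
import Cfsg.Agent.Lib.FiniteForms.Standard
import Cfsg.Agent.Lib.StdQuadForms

set_option autoImplicit false
open Cfsg

namespace Cfsg.Agent.S2614

/-- For the form x_0² + Σ x_j y_j on F^(2m+1), F finite with q elements, q odd, and 1 ≤ i ≤ m: the involution of determinant one negating the first i hyperbolic pairs (and fixing x_0 and the other pairs) lies in Ω_(2m+1)(q) (commutator subgroup of the orthogonal group) if and only if q^i ≡ 1 (mod 4); its (−1)-eigenspace is a hyperbolic 2i-space. -/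
theorem result {F : Type*} [Field F] [Fintype F] {q : ℕ} (hF : Fintype.card F = q) (hq : Odd q) {m : ℕ} (i : ℕ) (hi : 1 ≤ i) (him : i ≤ m) : (∃ g : ↥(Cfsg.isometryGroup F (Cfsg.quadFormOdd m F)), g ∈ Cfsg.Omega F (Cfsg.quadFormOdd m F) ∧ ((g : Matrix.GeneralLinearGroup (Unit ⊕ (Fin m ⊕ Fin m)) F) : Matrix (Unit ⊕ (Fin m ⊕ Fin m)) (Unit ⊕ (Fin m ⊕ Fin m)) F) = Matrix.diagonal (fun k : Unit ⊕ (Fin m ⊕ Fin m) => if (Sum.elim (fun _ : Unit => i) (Sum.elim (fun j : Fin m => (j : ℕ)) (fun j : Fin m => (j : ℕ))) k) < i then (-1 : F) else 1)) ↔ q ^ i % 4 = 1 := by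
  classical
  subst hF
  have h2 := CfsgLib.FiniteForms.two_ne_zero_of_odd (F := F) rfl hq
  let L : Fin i → Unit ⊕ (Fin m ⊕ Fin m) := fun j => Sum.inr (Sum.inl ⟨j, by omega⟩)
  let R : Fin i → Unit ⊕ (Fin m ⊕ Fin m) := fun j => Sum.inr (Sum.inr ⟨j, by omega⟩)
  refine CfsgLib.OmegaMem.pairs_mem_iff rfl hq _ (CfsgLib.StdQuadForms.Qo (F := F) m) (fun v => (CfsgLib.StdQuadForms.Qo_apply m v).symm) (by simp; omega) (CfsgLib.StdQuadForms.Qo_nondeg h2 m)
    L R (fun a b h => by simpa [L, Fin.ext_iff] using h) (fun a b h => by simpa [R, Fin.ext_iff] using h)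
    (fun a b => by simp [L, R]) (fun j => ?_) (fun j => ?_) (fun j x => ?_) (fun j x => ?_) _ (fun j => ?_) (fun k hk => ?_)
  · rw [CfsgLib.StdQuadForms.Qo_apply m]; simp [L, Cfsg.quadFormPlus, Cfsg.quadFormOdd, Cfsg.quadFormMinus, Pi.single_apply]
  · rw [CfsgLib.StdQuadForms.Qo_apply m]; simp [R, Cfsg.quadFormPlus, Cfsg.quadFormOdd, Cfsg.quadFormMinus, Pi.single_apply]
  · simp only [QuadraticMap.polar, CfsgLib.StdQuadForms.Qo_apply m]
    simp [L, R, Cfsg.quadFormPlus, Cfsg.quadFormOdd, Cfsg.quadFormMinus, Pi.single_apply, add_mul, mul_add, Finset.sum_add_distrib]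
    try ring
  · simp only [QuadraticMap.polar, CfsgLib.StdQuadForms.Qo_apply m]
    simp [L, R, Cfsg.quadFormPlus, Cfsg.quadFormOdd, Cfsg.quadFormMinus, Pi.single_apply, add_mul, mul_add, Finset.sum_add_distrib]
    try ring
  · simp [L, R]
  · rcases k with k | k | k
    · exact if_neg (lt_irrefl i)
    · exact if_neg fun h => (hk ⟨k, h⟩).1 rfl
    · exact if_neg fun h => (hk ⟨k, h⟩).2 rfl

end Cfsg.Agent.S2614
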