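import Cfsg.Statements.S2618
import Cfsg.Agent.Lib.FiniteForms.WittBasis
-- import your own Cfsg.Agent.* helpers here

set_option autoImplicit false
open Cfsg

namespace Cfsg.Agent.S2618

/-- Standard (parabolic) basis of a non-degenerate quadratic space of odd dimension 2m + 1 over a finite field (the non-degeneracy of the polar form forces the characteristic to be odd): there is a basis e_i, f_i (i < m), x with Q(e_i) = Q(f_i) = 0, B(e_i, f_j) = δ_ij (B the polar form), the e's pairwise orthogonal and the f's pairwise orthogonal, x orthogonal to all of them and Q(x) ≠ 0. -/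
theorem result {F V : Type*} [Field F] [Finite F] [AddCommGroup V] [Module F V] [FiniteDimensional F V] {m : ℕ} (hV : Module.finrank F V = 2 * m + 1) (Q : QuadraticForm F V) (hQ : (QuadraticMap.polarBilin Q).Nondegenerate) : ∃ b : Module.Basis (Unit ⊕ (Fin m ⊕ Fin m)) F V, Q (b (Sum.inl ())) ≠ 0 ∧ (∀ i, QuadraticMap.polar ⇑Q (b (Sum.inl ())) (b (Sum.inr (Sum.inl i))) = 0 ∧ QuadraticMap.polar ⇑Q (b (Sum.inl ())) (b (Sum.inr (Sum.inr i))) = 0) ∧ (∀ i, Q (b (Sum.inr (Sum.inl i))) = 0 ∧ Q (b (Sum.inr (Sum.inr i))) = 0) ∧ (∀ i j, QuadraticMap.polar ⇑Q (b (Sum.inr (Sum.inl i))) (b (Sum.inr (Sum.inr j))) = if i = j then 1 else 0) ∧ (∀ i j, QuadraticMap.polar ⇑Q (b (Sum.inr (Sum.inl i))) (b (Sum.inr (Sum.inl j))) = 0 ∧ QuadraticMap.polar ⇑Q (b (Sum.inr (Sum.inr i))) (b (Sum.inr (Sum.inr j))) = 0) := by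
  have hnd : CfsgLib.FiniteForms.PolarNondeg Q := fun x h => hQ.1 x h
  obtain ⟨e, f, h⟩ := CfsgLib.FiniteForms.exists_hypFam m V Q hnd (by omega)
  have hd : Module.finrank F (CfsgLib.FiniteForms.famPerp Q e f) = 1 := by
    have := h.finrank_famPerp
    omega
  obtain ⟨⟨x, hx⟩, hx0, hspan⟩ := finrank_eq_one_iff'.mp hd
  have hx' : x ≠ 0 := fun h0 => hx0 (Subtype.ext h0)
  have hQx : Q x ≠ 0 := by
    intro h0
    refine hx' (h.famPerp_nondeg hnd hx fun y hy => ?_)
    obtain ⟨c, hc⟩ := hspan ⟨y, hy⟩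
    have hc' : c • x = y := congrArg Subtype.val hc
    rw [← hc', QuadraticMap.polar_smul_right, QuadraticMap.polar_self, h0, nsmul_zero, smul_zero]
  have hli := h.linearIndependent_sum (w := fun _ : Unit => x) (fun _ => hx)
    (linearIndependent_unique_iff.mpr hx')
  let b := basisOfLinearIndependentOfCardEqFinrank' _ hli (by simp [hV, two_mul])
  refine ⟨b.reindex (Equiv.sumComm _ _), ?_⟩
  simp only [b, Module.Basis.reindex_apply, coe_basisOfLinearIndependentOfCardEqFinrank',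
    Equiv.sumComm_symm, Equiv.sumComm_apply, Sum.swap_inl, Sum.swap_inr, Sum.elim_inl,
    Sum.elim_inr]
  obtain ⟨hxe, hxf⟩ := CfsgLib.FiniteForms.mem_famPerp.mp hx
  exact ⟨hQx, fun i => ⟨(QuadraticMap.polar_comm ⇑Q _ _).trans (hxe i),
    (QuadraticMap.polar_comm ⇑Q _ _).trans (hxf i)⟩, fun i => ⟨h.qe i, h.qf i⟩, h.ef,
    fun i j => ⟨h.ee i j, h.ff i j⟩⟩

end Cfsg.Agent.S2618
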