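import Cfsg.Statements.S2619
-- import your own Cfsg.Agent.* helpers here

set_option autoImplicit false
open Cfsg

namespace Cfsg.Agent.S2619

/-- Over a finite field of characteristic two, given an alternating bilinear form B on a finite-dimensional space, a basis (v_i) and scalars (λ_i), there is exactly one quadratic form whose polar form is B and whose value at each v_i is λ_i. -/
theorem result {F V ι : Type*} [Field F] [Finite F] [CharP F 2] [AddCommGroup V] [Module F V] [Fintype ι] (b : Module.Basis ι F V) (B : LinearMap.BilinForm F V) (hB : B.IsAlt) (c : ι → F) : ∃! Q : QuadraticForm F V, QuadraticMap.polarBilin Q = B ∧ ∀ i, Q (b i) = c i := by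
  classical
  let e := Fintype.equivFin ι
  let U : LinearMap.BilinForm F V := b.constr F fun i => b.constr F fun j =>
    if e i < e j then B (b i) (b j) else if i = j then c i else 0
  have hU : ∀ i j, U (b i) (b j) = if e i < e j then B (b i) (b j) else if i = j then c i else 0 :=
    fun i j => by simp only [U, Module.Basis.constr_basis]
  have hsum : U + LinearMap.flip U = B := by
    refine b.ext fun i => b.ext fun j => ?_
    simp only [LinearMap.add_apply, LinearMap.flip_apply, hU]
    rcases lt_trichotomy (e i) (e j) with h | h | h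
    · rw [if_pos h, if_neg h.not_gt, if_neg (fun h' => h.ne' (congrArg e h')), add_zero]
    · obtain rfl := e.injective h
      rw [if_neg (lt_irrefl _), if_pos rfl, CharTwo.add_self_eq_zero, hB.self_eq_zero]
    · rw [if_neg h.not_gt, if_pos h, if_neg (fun h' => h.ne' (congrArg e h')), ← hB.neg_eq (b j) (b i), CharTwo.neg_eq, zero_add]
  refine ⟨LinearMap.BilinMap.toQuadraticMap U, ⟨?_, fun i => ?_⟩, ?_⟩
  · rw [LinearMap.BilinMap.polarBilin_toQuadraticMap, hsum]
  · rw [LinearMap.BilinMap.toQuadraticMap_apply, hU, if_neg (lt_irrefl _), if_pos rfl]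
  · rintro Q ⟨hQp, hQc⟩
    set Q' := LinearMap.BilinMap.toQuadraticMap U
    have hp : ∀ x y, QuadraticMap.polar Q x y = QuadraticMap.polar Q' x y := fun x y => by
      show QuadraticMap.polarBilin Q x y = QuadraticMap.polarBilin Q' x y
      rw [hQp, LinearMap.BilinMap.polarBilin_toQuadraticMap, hsum]
    ext v
    induction b.mem_span v using Submodule.span_induction with
    | mem x hx =>
      obtain ⟨i, rfl⟩ := hx
      rw [hQc, LinearMap.BilinMap.toQuadraticMap_apply, hU, if_neg (lt_irrefl _), if_pos rfl]
    | zero => rw [QuadraticMap.map_zero, QuadraticMap.map_zero]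
    | add x y _ _ hx hy =>
      rw [QuadraticMap.map_add ⇑Q, QuadraticMap.map_add ⇑Q', hx, hy, hp]
    | smul r x _ hx => rw [QuadraticMap.map_smul, QuadraticMap.map_smul, hx]

end Cfsg.Agent.S2619
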