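import Cfsg.Statements.S2621
import Cfsg.Agent.Lib.FiniteForms.Standard
-- import your own Cfsg.Agent.* helpers here

set_option autoImplicit false
open Cfsg

namespace Cfsg.Agent.S2621

/-- Discriminant of an elliptic quadratic form Σ_(i<m−1) x_i y_i + z₁² + a z₁z₂ + c z₂² (binary part anisotropic) in dimension 2m over a field with q elements, q odd, m ≥ 1: the determinant of the Gram matrix of its polar form in any basis is a square if and only if m(q − 1)/2 is odd (equivalently q^m ≡ 3 (mod 4)). -/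
theorem result {F : Type*} [Field F] [Fintype F] {q : ℕ} (hF : Fintype.card F = q) (hq : Odd q) {m : ℕ} (hm : 1 ≤ m) (a c : F) (hac : ∀ z₁ z₂ : F, z₁ ^ 2 + a * z₁ * z₂ + c * z₂ ^ 2 = 0 → z₁ = 0 ∧ z₂ = 0) {ι : Type*} [Fintype ι] [DecidableEq ι] (b : Module.Basis ι F ((Fin (m - 1) ⊕ Fin (m - 1)) ⊕ Fin 2 → F)) : IsSquare (Matrix.of (fun i j : ι => QuadraticMap.polar (Cfsg.quadFormMinus (m - 1) F a c) (b i) (b j))).det ↔ ¬ Even (m * (q - 1) / 2) := by
  obtain ⟨p, hp, he⟩ := CfsgLib.FiniteForms.det_basis b (CfsgLib.FiniteForms.ellMat (m - 1) a c) _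
    (CfsgLib.FiniteForms.polar_minus (m - 1) a c)
  have hns := CfsgLib.FiniteForms.not_isSquare_of_anisotropic
    (CfsgLib.FiniteForms.two_ne_zero_of_odd hF hq) hac
  have hne : a * a - 4 * c ≠ 0 := fun h0 => hns (h0 ▸ IsSquare.zero)
  rw [he, CfsgLib.FiniteForms.isSquare_sq_mul_iff hp, CfsgLib.FiniteForms.det_ellMat,
    show ((-1 : F)) ^ (m - 1) * (4 * c - a * a) = (-1) ^ m * (a * a - 4 * c) by
      obtain ⟨k, rfl⟩ : ∃ k, m = k + 1 := ⟨m - 1, by omega⟩
      rw [Nat.add_sub_cancel, pow_succ]; ring,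
    CfsgLib.FiniteForms.isSquare_mul_iff (pow_ne_zero _ (neg_ne_zero.mpr one_ne_zero)) hne,
    CfsgLib.FiniteForms.neg_one_pow_isSquare_iff hF hq]
  simp [hns]

end Cfsg.Agent.S2621
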