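import Cfsg.Statements.S2622
-- import your own Cfsg.Agent.* helpers here

set_option autoImplicit false
open Cfsg

namespace Cfsg.Agent.S2622

theorem exists_orth {F : Type*} [Field F] [CharP F 2] (hsq : ∀ a : F, ∃ t : F, a = t * t) :
    ∀ (n : ℕ) (V : Type _) [AddCommGroup V] [Module F V] [FiniteDimensional F V]
      (_ : Module.finrank F V = n) (B : LinearMap.BilinForm F V) (_ : ∀ x y, B x y = B y x)
      (_ : ∀ x, (∀ y, B x y = 0) → x = 0) (_ : ∃ v, B v v ≠ 0),
      ∃ e : Fin n → V, ∀ i j, B (e i) (e j) = if i = j then 1 else 0 := by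
  intro n
  induction n with
  | zero => exact fun V _ _ _ _ _ _ _ _ => ⟨Fin.elim0, fun i => i.elim0⟩
  | succ n ih =>
    intro V _ _ _ hd B hs hnd hna
    -- a unit vector whose orthogonal space is non-alternating or zero
    obtain ⟨v, hv, hW⟩ : ∃ v, B v v = 1 ∧ (n = 0 ∨ ∃ w, B v w = 0 ∧ B w w ≠ 0) := by
      obtain ⟨v₀, hv₀⟩ := hna
      obtain ⟨t, ht⟩ := hsq (B v₀ v₀)
      have ht0 : t ≠ 0 := fun h => hv₀ (by rw [ht, h, mul_zero])
      set v := t⁻¹ • v₀
      have hv : B v v = 1 := by
        simp only [v, map_smul, LinearMap.smul_apply, smul_eq_mul, ht]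
        field_simp
      by_cases halt : ∃ w, B v w = 0 ∧ B w w ≠ 0
      · exact ⟨v, hv, Or.inr halt⟩
      push Not at halt
      rcases Nat.eq_zero_or_pos n with h0 | hpos
      · exact ⟨v, hv, Or.inl h0⟩
      obtain ⟨e, he, he0⟩ : ∃ e, B v e = 0 ∧ e ≠ 0 := by
        by_contra hc
        push Not at hc
        have h1 : Module.finrank F (LinearMap.ker (B v)) = 0 :=
          Submodule.finrank_eq_zero.mpr ((Submodule.eq_bot_iff _).mpr fun x hx => hc x hx)
        have h2 := LinearMap.finrank_range_add_finrank_ker (B v)
        have h3 := Submodule.finrank_le (LinearMap.range (B v))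
        rw [Module.finrank_self] at h3
        omega
      obtain ⟨y, hy⟩ : ∃ y, B e y ≠ 0 := by
        by_contra hc
        push Not at hc
        exact he0 (hnd e hc)
      set f := (B e y)⁻¹ • (y - B v y • v)
      have hev : B e v = 0 := by rw [hs, he]
      have hf : B v f = 0 := by simp [f, hv]
      have hef : B e f = 1 := by simp [f, hev, hy]
      refine ⟨v + e, ?_, Or.inr ⟨v + f, ?_, ?_⟩⟩
      · simp [hv, he, hev, halt e he]
      · simp [hv, hf, hev, hef, CharTwo.add_self_eq_zero]
      · simp [hv, hf, hs f v, halt f hf]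
    let W := LinearMap.ker (B v)
    have hdec : ∀ x : V, x - B v x • v ∈ W := fun x => by simp [W, hv]
    have hdW : Module.finrank F W = n := by
      have h := LinearMap.finrank_range_add_finrank_ker (B v)
      have hr : Module.finrank F (LinearMap.range (B v)) = 1 := by
        rw [LinearMap.range_eq_top.mpr (fun a => ⟨a • v, by simp [hv]⟩), finrank_top,
          Module.finrank_self]
      rw [hr, hd] at h
      show Module.finrank F (LinearMap.ker (B v)) = n
      omega
    rcases hW with h0 | ⟨w, hw, hww⟩
    · subst h0
      exact ⟨fun _ => v, fun i j => by fin_cases i; fin_cases j; simp [hv]⟩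
    obtain ⟨e, he⟩ := ih W hdW (B.compl₁₂ W.subtype W.subtype) (fun x y => hs _ _) (fun x hx => by
      refine Subtype.ext (hnd x.1 fun y => ?_)
      have h1 : B x.1 (y - B v y • v) = 0 := hx ⟨_, hdec y⟩
      have h2 : B v x.1 = 0 := x.2
      rw [hs v x.1] at h2
      simpa [h2] using h1) ⟨⟨w, hw⟩, hww⟩
    refine ⟨Fin.cons v fun i => (e i : V), fun i j => ?_⟩
    induction i using Fin.cases with
    | zero =>
      induction j using Fin.cases with
      | zero => simp [hv]
      | succ j =>
        have := (e j).2
        simp [W] at this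
        simp [this, (Fin.succ_ne_zero j).symm]
    | succ i =>
      induction j using Fin.cases with
      | zero =>
        have := (e i).2
        simp [W] at this
        simp [hs (e i : V) v, this, Fin.succ_ne_zero i]
      | succ j =>
        have := he i j
        simpa [Fin.succ_inj] using this

/-- Over a finite field of characteristic two, a non-degenerate symmetric bilinear form that is not alternating (some vector v has B(v, v) ≠ 0) admits an orthonormal basis. -/
theorem result {F V : Type*} [Field F] [Finite F] [CharP F 2] [AddCommGroup V] [Module F V] [FiniteDimensional F V] {n : ℕ} (hV : Module.finrank F V = n) (B : LinearMap.BilinForm F V) (hS : B.IsSymm) (hB : B.Nondegenerate) (hna : ∃ v : V, B v v ≠ 0) : ∃ b : Module.Basis (Fin n) F V, ∀ i j, B (b i) (b j) = if i = j then 1 else 0 := by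
  have hsq : ∀ a : F, ∃ t : F, a = t * t := fun a =>
    FiniteField.isSquare_of_char_two (ringChar.eq F 2) a
  obtain ⟨e, he⟩ := exists_orth hsq n V hV B hS.eq (fun x hx => hB.1 x hx) hna
  have hli : LinearIndependent F e := by
    rw [Fintype.linearIndependent_iff]
    intro g hg i
    have := congrArg (fun x => B (e i) x) hg
    simpa [map_sum, he] using this
  refine ⟨basisOfLinearIndependentOfCardEqFinrank' e hli (by rw [Fintype.card_fin, hV]), fun i j => ?_⟩
  rw [coe_basisOfLinearIndependentOfCardEqFinrank']
  exact he i j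

end Cfsg.Agent.S2622
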