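import Cfsg.Statements.S2623
import Cfsg.Agent.Lib.FiniteForms.Standard
-- import your own Cfsg.Agent.* helpers here

set_option autoImplicit false
open Cfsg

namespace Cfsg.Agent.S2623

/-- Over a finite field of odd order, two quadratic forms on F^n with non-degenerate polar forms are isometric (related by an invertible linear change of variables) if and only if their discriminants (determinants of the Gram matrices of their polar forms) lie in the same square class. -/
theorem result {F : Type*} [Field F] [Fintype F] (h2 : (2 : F) ≠ 0) {n : ℕ} (Q₁ Q₂ : QuadraticForm F (Fin n → F)) (h₁ : (QuadraticMap.polarBilin Q₁).Nondegenerate) (h₂ : (QuadraticMap.polarBilin Q₂).Nondegenerate) : (∃ g : (Fin n → F) ≃ₗ[F] (Fin n → F), ∀ v, Q₂ (g v) = Q₁ v) ↔ IsSquare ((Matrix.of (fun i j : Fin n => QuadraticMap.polar ⇑Q₁ (Pi.single i 1) (Pi.single j 1))).det * (Matrix.of (fun i j : Fin n => QuadraticMap.polar ⇑Q₂ (Pi.single i 1) (Pi.single j 1))).det) := by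
  have key := CfsgLib.FiniteForms.congr_iff h2
    (CfsgLib.FiniteForms.polarMat_isSymm ⇑Q₁) (CfsgLib.FiniteForms.polarMat_isSymm ⇑Q₂)
    (CfsgLib.FiniteForms.polarMat_det_ne_zero h₁) (CfsgLib.FiniteForms.polarMat_det_ne_zero h₂)
  refine ⟨fun ⟨g, hg⟩ => key.mp (CfsgLib.FiniteForms.congr_of_isometry Q₁ Q₂ g hg).symm,
    fun h => CfsgLib.FiniteForms.isometry_of_congr h2 Q₁ Q₂ (key.mpr h).symm⟩

end Cfsg.Agent.S2623
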