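import Cfsg.Statements.S2624
import Cfsg.Agent.Lib.FiniteForms.Standard
-- import your own Cfsg.Agent.* helpers here

set_option autoImplicit false
open Cfsg

namespace Cfsg.Agent.S2624

/-- For a quadratic form Q on F^n with non-degenerate polar form, F finite and n ≥ 2 even, every non-zero scalar c is the multiplier of some similarity: there is an invertible linear map g with Q(g v) = c·Q(v) for all v. -/
theorem result {F : Type*} [Field F] [Fintype F] {n : ℕ} (hn : 2 ≤ n) (he : Even n) (Q : QuadraticForm F (Fin n → F)) (hQ : (QuadraticMap.polarBilin Q).Nondegenerate) (c : F) (hc : c ≠ 0) : ∃ g : (Fin n → F) ≃ₗ[F] (Fin n → F), ∀ v, Q (g v) = c * Q v := by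
  by_cases h2 : (2 : F) = 0
  · haveI : CharP F 2 := by
      exact CharTwo.of_one_ne_zero_of_two_eq_zero one_ne_zero h2
    obtain ⟨t, ht⟩ := FiniteField.isSquare_of_char_two (ringChar.eq F 2) c
    have ht0 : t ≠ 0 := fun h0 => hc (by rw [ht, h0, mul_zero])
    refine ⟨LinearEquiv.smulOfNeZero F _ t ht0, fun v => ?_⟩
    show Q (t • v) = _
    rw [QuadraticMap.map_smul, smul_eq_mul, ht]
  have hs := CfsgLib.FiniteForms.polarMat_isSymm ⇑Q
  have hd := CfsgLib.FiniteForms.polarMat_det_ne_zero hQ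
  obtain ⟨k, rfl⟩ := he
  have hcg : CfsgLib.FiniteForms.Congr (CfsgLib.FiniteForms.polarMat ⇑Q)
      (CfsgLib.FiniteForms.polarMat ⇑(c • Q)) := by
    rw [CfsgLib.FiniteForms.congr_iff h2 hs (CfsgLib.FiniteForms.polarMat_isSymm _) hd]
    · rw [CfsgLib.FiniteForms.polarMat_smul, Matrix.det_smul, Fintype.card_fin, pow_add]
      exact ⟨c ^ k * (CfsgLib.FiniteForms.polarMat ⇑Q).det, by ring⟩
    · rw [CfsgLib.FiniteForms.polarMat_smul, Matrix.det_smul]
      exact mul_ne_zero (pow_ne_zero _ hc) hd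
  obtain ⟨g, hg⟩ := CfsgLib.FiniteForms.isometry_of_congr h2 (c • Q) Q hcg
  exact ⟨g, fun v => by rw [hg, QuadraticMap.smul_apply, smul_eq_mul]⟩

end Cfsg.Agent.S2624
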