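import Cfsg.Statements.S2626


set_option autoImplicit false
open Cfsg
open scoped Matrix

namespace Cfsg.Agent.S2626

/-- Ω of an orthogonal direct sum contains the product of the Ω's: for quadratic forms Q₁ on F^k and Q₂ on F^l with non-degenerate polar forms (F finite) and Q = Q₁ ⊕ Q₂ on F^(k+l), if g₁ lies in Ω(Q₁) and g₂ in Ω(Q₂) (commutator subgroups of the orthogonal groups) then the block-diagonal isometry diag(g₁, g₂) lies in Ω(Q). -/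
theorem result {F : Type*} [Field F] [Fintype F] {k l : ℕ} (Q₁ : QuadraticForm F (Fin k → F)) (Q₂ : QuadraticForm F (Fin l → F)) (h₁ : (QuadraticMap.polarBilin Q₁).Nondegenerate) (h₂ : (QuadraticMap.polarBilin Q₂).Nondegenerate) (g₁ : ↥(Cfsg.isometryGroup F ⇑Q₁)) (g₂ : ↥(Cfsg.isometryGroup F ⇑Q₂)) (hg₁ : g₁ ∈ Cfsg.Omega F ⇑Q₁) (hg₂ : g₂ ∈ Cfsg.Omega F ⇑Q₂) : ∃ g : ↥(Cfsg.isometryGroup F (fun v : Fin k ⊕ Fin l → F => Q₁ (v ∘ Sum.inl) + Q₂ (v ∘ Sum.inr))), g ∈ Cfsg.Omega F (fun v : Fin k ⊕ Fin l → F => Q₁ (v ∘ Sum.inl) + Q₂ (v ∘ Sum.inr)) ∧ ((g : Matrix.GeneralLinearGroup (Fin k ⊕ Fin l) F) : Matrix (Fin k ⊕ Fin l) (Fin k ⊕ Fin l) F) = Matrix.fromBlocks ((g₁ : Matrix.GeneralLinearGroup (Fin k) F) : Matrix (Fin k) (Fin k) F) 0 0 ((g₂ : Matrix.GeneralLinearGroup (Fin l) F) : Matrix (Fin l) (Fin l) F) := by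
  let Q := fun v : Fin k ⊕ Fin l → F => Q₁ (v ∘ Sum.inl) + Q₂ (v ∘ Sum.inr)
  let φ : ↥(Cfsg.isometryGroup F ⇑Q₁) × ↥(Cfsg.isometryGroup F ⇑Q₂) →* ↥(Cfsg.isometryGroup F Q) :=
    { toFun := fun p => ⟨⟨Matrix.fromBlocks p.1.1.1 0 0 p.2.1.1,
          Matrix.fromBlocks (p.1.1⁻¹).1 0 0 (p.2.1⁻¹).1,
          by simp [Matrix.fromBlocks_multiply],
          by simp [Matrix.fromBlocks_multiply]⟩, fun u v => by
            show Q₁ ((Matrix.fromBlocks p.1.1.1 0 0 p.2.1.1 *ᵥ u) ∘ Sum.inl) +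
              Q₂ ((Matrix.fromBlocks p.1.1.1 0 0 p.2.1.1 *ᵥ u) ∘ Sum.inr) = Q u
            have e1 : Q₁ (p.1.1.1 *ᵥ (u ∘ Sum.inl)) = Q₁ (u ∘ Sum.inl) :=
              p.1.2 (u ∘ Sum.inl) (u ∘ Sum.inl)
            have e2 : Q₂ (p.2.1.1 *ᵥ (u ∘ Sum.inr)) = Q₂ (u ∘ Sum.inr) :=
              p.2.2 (u ∘ Sum.inr) (u ∘ Sum.inr)
            simp only [Matrix.fromBlocks_mulVec, Sum.elim_comp_inl, Sum.elim_comp_inr,
              Matrix.zero_mulVec, add_zero, zero_add, e1, e2]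
            rfl⟩
      map_one' := Subtype.ext (Units.ext Matrix.fromBlocks_one)
      map_mul' := fun a b => Subtype.ext (Units.ext (by simp [Matrix.fromBlocks_multiply])) }
  let i₁ := φ.comp (MonoidHom.inl _ _)
  let i₂ := φ.comp (MonoidHom.inr _ _)
  have h : φ (g₁, g₂) = i₁ g₁ * i₂ g₂ := by
    show φ (g₁, g₂) = φ (g₁, 1) * φ (1, g₂)
    rw [← map_mul, Prod.mk_mul_mk, mul_one, one_mul]
  refine ⟨φ (g₁, g₂), h ▸ Subgroup.mul_mem _ ?_ ?_, rfl⟩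
  · exact Subgroup.map_le_iff_le_comap.mp (map_commutator_eq _ i₁ |>.le.trans
      (Subgroup.commutator_mono le_top le_top)) hg₁
  · exact Subgroup.map_le_iff_le_comap.mp (map_commutator_eq _ i₂ |>.le.trans
      (Subgroup.commutator_mono le_top le_top)) hg₂

end Cfsg.Agent.S2626
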