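import Cfsg.Statements.S2627
import Cfsg.Agent.Lib.OmegaSum

set_option autoImplicit false
open Cfsg

namespace Cfsg.Agent.S2627

/-- For an orthogonal direct sum Q = Q₁ ⊕ Q₂ of quadratic forms with non-degenerate polar forms over a finite field, an isometry g₁ of Q₁ extended by the identity on the second summand lies in Ω(Q) (the commutator subgroup of the orthogonal group of Q) if and only if g₁ lies in Ω(Q₁). (Excluded: the field of two elements when the first summand or the whole space has dimension 4, where the commutator subgroup of O⁺₄(2) is smaller than the group usually called Ω.) -/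
theorem result {F : Type*} [Field F] [Fintype F] {k l : ℕ} (h : Fintype.card F ≠ 2 ∨ (k ≠ 4 ∧ k + l ≠ 4)) (Q₁ : QuadraticForm F (Fin k → F)) (Q₂ : QuadraticForm F (Fin l → F)) (h₁ : (QuadraticMap.polarBilin Q₁).Nondegenerate) (h₂ : (QuadraticMap.polarBilin Q₂).Nondegenerate) (g₁ : ↥(Cfsg.isometryGroup F ⇑Q₁)) : (∃ g : ↥(Cfsg.isometryGroup F (fun v : Fin k ⊕ Fin l → F => Q₁ (v ∘ Sum.inl) + Q₂ (v ∘ Sum.inr))), g ∈ Cfsg.Omega F (fun v : Fin k ⊕ Fin l → F => Q₁ (v ∘ Sum.inl) + Q₂ (v ∘ Sum.inr)) ∧ ((g : Matrix.GeneralLinearGroup (Fin k ⊕ Fin l) F) : Matrix (Fin k ⊕ Fin l) (Fin k ⊕ Fin l) F) = Matrix.fromBlocks ((g₁ : Matrix.GeneralLinearGroup (Fin k) F) : Matrix (Fin k) (Fin k) F) 0 0 1) ↔ g₁ ∈ Cfsg.Omega F ⇑Q₁ := by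
  classical
  have hfun : (fun v : Fin k ⊕ Fin l → F => Q₁ (v ∘ Sum.inl) + Q₂ (v ∘ Sum.inr)) = ⇑(CfsgLib.OmegaSum.Qs Q₁ Q₂) :=
    funext fun v => (CfsgLib.OmegaSum.Qs_apply Q₁ Q₂ v).symm
  rw [hfun]
  have hc1 := CfsgLib.SpinorMatrix.hc_of Q₁ h₁ (CfsgLib.SpinorMatrix.field_cond (h.imp id fun h' => by simpa using h'.1))
  have hs := CfsgLib.OmegaSum.Qs_nondeg Q₁ Q₂ h₁ h₂
  have hcs := CfsgLib.SpinorMatrix.hc_of (CfsgLib.OmegaSum.Qs Q₁ Q₂) hs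
    (CfsgLib.SpinorMatrix.field_cond (h.imp id fun h' => by simpa using h'.2))
  obtain ⟨vs, hvs, hg1⟩ := CfsgLib.OmegaList.exists_list Q₁ hc1 g₁
  set ws := vs.map (fun v => (Sum.elim v 0 : Fin k ⊕ Fin l → F)) with hws
  have hwne : ∀ w ∈ ws, CfsgLib.OmegaSum.Qs Q₁ Q₂ w ≠ 0 := by
    intro w hw
    obtain ⟨v, hv, rfl⟩ := List.mem_map.mp hw
    rw [CfsgLib.OmegaSum.Qs_left]; exact hvs v hv
  obtain ⟨g, hg⟩ := CfsgLib.OmegaList.exists_iso (CfsgLib.OmegaSum.Qs Q₁ Q₂) ws hwne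
  have hgm : g.1.1 = Matrix.fromBlocks g₁.1.1 0 0 1 := by
    rw [hg, hws, CfsgLib.OmegaSum.RP_left, hg1]
  have hiff : g ∈ Cfsg.Omega F ⇑(CfsgLib.OmegaSum.Qs Q₁ Q₂) ↔ g₁ ∈ Cfsg.Omega F ⇑Q₁ := by
    rw [CfsgLib.OmegaList.omega_iff_list _ hcs hs g ws hwne hg, CfsgLib.OmegaList.omega_iff_list Q₁ hc1 h₁ g₁ vs hvs hg1,
      hws, List.length_map, CfsgLib.OmegaSum.QP_left]
  constructor
  · rintro ⟨g', hg', e⟩
    have : g' = g := Subtype.ext (Units.ext (e.trans hgm.symm))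
    exact hiff.mp (this ▸ hg')
  · exact fun h' => ⟨g, hiff.mpr h', hgm⟩

end Cfsg.Agent.S2627
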