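import Cfsg.Statements.S2628
import Cfsg.Agent.Lib.OmegaSum

set_option autoImplicit false
open Cfsg

namespace Cfsg.Agent.S2628

/-- For the orthogonal direct sum Q ⊕ Q of two copies of a quadratic form Q with non-degenerate polar form on F^k (F finite), every isometry g of Q acting diagonally, diag(g, g), lies in Ω(Q ⊕ Q), the commutator subgroup of the orthogonal group of Q ⊕ Q. (Excluded: k = 2 over the field of two elements, where Q ⊕ Q is the hyperbolic 4-space whose orthogonal group's commutator subgroup is smaller than the group usually called Ω.) -/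
theorem result {F : Type*} [Field F] [Fintype F] {k : ℕ} (h : Fintype.card F ≠ 2 ∨ k ≠ 2) (Q : QuadraticForm F (Fin k → F)) (hQ : (QuadraticMap.polarBilin Q).Nondegenerate) (g : ↥(Cfsg.isometryGroup F ⇑Q)) : ∃ x : ↥(Cfsg.isometryGroup F (fun v : Fin k ⊕ Fin k → F => Q (v ∘ Sum.inl) + Q (v ∘ Sum.inr))), x ∈ Cfsg.Omega F (fun v : Fin k ⊕ Fin k → F => Q (v ∘ Sum.inl) + Q (v ∘ Sum.inr)) ∧ ((x : Matrix.GeneralLinearGroup (Fin k ⊕ Fin k) F) : Matrix (Fin k ⊕ Fin k) (Fin k ⊕ Fin k) F) = Matrix.fromBlocks ((g : Matrix.GeneralLinearGroup (Fin k) F) : Matrix (Fin k) (Fin k) F) 0 0 ((g : Matrix.GeneralLinearGroup (Fin k) F) : Matrix (Fin k) (Fin k) F) := by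
  classical
  have hfun : (fun v : Fin k ⊕ Fin k → F => Q (v ∘ Sum.inl) + Q (v ∘ Sum.inr)) = ⇑(CfsgLib.OmegaSum.Qs Q Q) :=
    funext fun v => (CfsgLib.OmegaSum.Qs_apply Q Q v).symm
  rw [hfun]
  set QQ := CfsgLib.OmegaSum.Qs Q Q with hQQ
  have hs := CfsgLib.OmegaSum.Qs_nondeg Q Q hQ hQ
  have hcs := CfsgLib.SpinorMatrix.hc_of QQ hs
    (CfsgLib.SpinorMatrix.field_cond (h.imp id fun h' => by simp; omega))
  have hgQ : ∀ v, Q (g.1.1.mulVec v) = Q v := fun v => g.2 v v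
  have mkI : ∀ M N : Matrix (Fin k ⊕ Fin k) (Fin k ⊕ Fin k) F, M * N = 1 → N * M = 1 →
      (∀ v, QQ (M.mulVec v) = QQ v) → ∃ d : ↥(Cfsg.isometryGroup F ⇑QQ), d.1.1 = M :=
    fun M N h1 h2 h3 => ⟨⟨⟨M, N, h1, h2⟩, fun v _ => h3 v⟩, rfl⟩
  obtain ⟨D, hD⟩ := mkI (Matrix.fromBlocks g.1.1 0 0 1) (Matrix.fromBlocks (g⁻¹).1.1 0 0 1)
    (by rw [Matrix.fromBlocks_multiply]; simp [← Units.val_mul, ← Subgroup.coe_mul, Matrix.fromBlocks_one])
    (by rw [Matrix.fromBlocks_multiply]; simp [← Units.val_mul, ← Subgroup.coe_mul, Matrix.fromBlocks_one])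
    (fun v => by
      rw [hQQ, CfsgLib.OmegaSum.Qs_apply, CfsgLib.OmegaSum.Qs_apply, Matrix.fromBlocks_mulVec]
      simp [hgQ])
  obtain ⟨σ, hσ⟩ := mkI (Matrix.fromBlocks 0 1 1 0) (Matrix.fromBlocks 0 1 1 0)
    (by rw [Matrix.fromBlocks_multiply]; simp [Matrix.fromBlocks_one])
    (by rw [Matrix.fromBlocks_multiply]; simp [Matrix.fromBlocks_one])
    (fun v => by
      rw [hQQ, CfsgLib.OmegaSum.Qs_apply, CfsgLib.OmegaSum.Qs_apply, Matrix.fromBlocks_mulVec]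
      simp [add_comm])
  refine ⟨D * (σ * D * σ⁻¹), ?_, ?_⟩
  · have : D * (σ * D * σ⁻¹) = D * D * (D⁻¹ * σ * D * σ⁻¹) := by group
    rw [this]
    refine mul_mem (CfsgLib.OmegaList.sq_mem_commutator QQ hcs D) ?_
    have h2 := Subgroup.commutator_mem_commutator (Subgroup.mem_top D⁻¹) (Subgroup.mem_top σ)
    rw [commutatorElement_def, inv_inv] at h2
    exact h2
  · have hσi : σ⁻¹ = σ := inv_eq_of_mul_eq_one_right (Subtype.ext (Units.ext (by
      show σ.1.1 * σ.1.1 = 1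
      rw [hσ, Matrix.fromBlocks_multiply]; simp [Matrix.fromBlocks_one])))
    rw [hσi]
    show D.1.1 * (σ.1.1 * D.1.1 * σ.1.1) = _
    rw [hD, hσ, Matrix.fromBlocks_multiply, Matrix.fromBlocks_multiply, Matrix.fromBlocks_multiply]
    simp

end Cfsg.Agent.S2628
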