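import Cfsg.Statements.S2629
import Cfsg.Agent.Lib.OmegaLag

set_option autoImplicit false
open Cfsg

namespace Cfsg.Agent.S2629

/-- For the hyperbolic form Σ x_i y_i on F^(2m) over a finite field of odd order (m ≥ 1), an isometry g preserves the class of the maximal totally singular subspace U₀ = {y = 0} (that is, m − dim(U₀ ∩ gU₀) is even) if and only if det g = 1: the stabiliser of each of the two classes of maximal totally singular subspaces is SO. -/
theorem result {F : Type*} [Field F] [Fintype F] (h2 : (2 : F) ≠ 0) {m : ℕ} (hm : 1 ≤ m) (g : ↥(Cfsg.isometryGroup F (Cfsg.quadFormPlus m F))) : Even (m - Module.finrank F ↥(LinearMap.ker (LinearMap.funLeft F F (Sum.inr : Fin m → Fin m ⊕ Fin m)) ⊓ (LinearMap.ker (LinearMap.funLeft F F (Sum.inr : Fin m → Fin m ⊕ Fin m))).map (Matrix.mulVecLin ((g : Matrix.GeneralLinearGroup (Fin m ⊕ Fin m) F) : Matrix (Fin m ⊕ Fin m) (Fin m ⊕ Fin m) F)))) ↔ ((g : Matrix.GeneralLinearGroup (Fin m ⊕ Fin m) F) : Matrix (Fin m ⊕ Fin m) (Fin m ⊕ Fin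 m) F).det = 1 := by
  classical
  have hfun : Cfsg.quadFormPlus m F = ⇑(CfsgLib.Lagrangian.Qp m F) :=
    funext fun v => (CfsgLib.Lagrangian.Qp_apply v).symm
  have hnd : (QuadraticMap.polarBilin (CfsgLib.Lagrangian.Qp m F)).Nondegenerate := CfsgLib.Lagrangian.Qp_nondeg
  have hU : CfsgLib.Lagrangian.IsLag (F := F) (m := m)
      (LinearMap.ker (LinearMap.funLeft F F (Sum.inr : Fin m → Fin m ⊕ Fin m))) := by
    refine ⟨?_, fun v hv => ?_⟩
    · have h1 := LinearMap.finrank_range_add_finrank_ker (LinearMap.funLeft F F (Sum.inr : Fin m → Fin m ⊕ Fin m))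
      rw [LinearMap.range_eq_top.mpr (LinearMap.funLeft_surjective_of_injective _ _ _ Sum.inr_injective),
        finrank_top, Module.finrank_pi, Module.finrank_pi, Fintype.card_sum, Fintype.card_fin] at h1
      omega
    · exact Finset.sum_eq_zero fun i _ => by
        have : v (Sum.inr i) = 0 := congrFun (LinearMap.mem_ker.mp hv) i
        rw [this, mul_zero]
  revert g
  rw [hfun]
  intro g
  have hc := CfsgLib.SpinorMatrix.hc_odd (CfsgLib.Lagrangian.Qp m F) h2 hnd
  obtain ⟨vs, hvs, hg⟩ := CfsgLib.OmegaList.exists_list (CfsgLib.Lagrangian.Qp m F) hc g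
  have hd := CfsgLib.SpinorMatrix.det_eq_dickson (CfsgLib.Lagrangian.Qp m F) hnd hc g
  rw [CfsgLib.OmegaList.dickson_list _ hc hnd vs hvs g hg] at hd
  rw [hd, hg]
  refine (CfsgLib.OmegaLag.class_parity hU vs hvs).trans ?_
  rcases Nat.even_or_odd vs.length with he | ho
  · simp [he, he.neg_one_pow]
  · simp [Nat.not_even_iff_odd.mpr ho, ho.neg_one_pow]
    intro h'
    exact h2 (by linear_combination -h')

end Cfsg.Agent.S2629
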