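import Cfsg.Statements.S2630
import Cfsg.Agent.Lib.OmegaLag

set_option autoImplicit false
open Cfsg

namespace Cfsg.Agent.S2630

/-- For the hyperbolic form Σ x_i y_i on F^(2m) over a finite field of characteristic two (m ≥ 1, excluding m = 2 over the field of two elements), an isometry g preserves the class of the maximal totally singular subspace U₀ = {y = 0} (m − dim(U₀ ∩ gU₀) even) if and only if g lies in Ω (the commutator subgroup of the orthogonal group): the stabiliser of each class is Ω. -/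
theorem result {F : Type*} [Field F] [Fintype F] [CharP F 2] {m : ℕ} (hm : 1 ≤ m) (h : Fintype.card F ≠ 2 ∨ m ≠ 2) (g : ↥(Cfsg.isometryGroup F (Cfsg.quadFormPlus m F))) : Even (m - Module.finrank F ↥(LinearMap.ker (LinearMap.funLeft F F (Sum.inr : Fin m → Fin m ⊕ Fin m)) ⊓ (LinearMap.ker (LinearMap.funLeft F F (Sum.inr : Fin m → Fin m ⊕ Fin m))).map (Matrix.mulVecLin ((g : Matrix.GeneralLinearGroup (Fin m ⊕ Fin m) F) : Matrix (Fin m ⊕ Fin m) (Fin m ⊕ Fin m) F)))) ↔ g ∈ Cfsg.Omega F (Cfsg.quadFormPlus m F) := by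
  classical
  have hfun : Cfsg.quadFormPlus m F = ⇑(CfsgLib.Lagrangian.Qp m F) :=
    funext fun v => (CfsgLib.Lagrangian.Qp_apply v).symm
  have hnd : (QuadraticMap.polarBilin (CfsgLib.Lagrangian.Qp m F)).Nondegenerate := CfsgLib.Lagrangian.Qp_nondeg
  have hU : CfsgLib.Lagrangian.IsLag (F := F) (m := m)
      (LinearMap.ker (LinearMap.funLeft F F (Sum.inr : Fin m → Fin m ⊕ Fin m))) := by
    refine ⟨?_, fun v hv => ?_⟩
    · have h1 := LinearMap.finrank_range_add_finrank_ker (LinearMap.funLeft F F (Sum.inr : Fin m → Fin m ⊕ Fin m))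
      rw [LinearMap.range_eq_top.mpr (LinearMap.funLeft_surjective_of_injective _ _ _ Sum.inr_injective),
        finrank_top, Module.finrank_pi, Module.finrank_pi, Fintype.card_sum, Fintype.card_fin] at h1
      omega
    · exact Finset.sum_eq_zero fun i _ => by
        have : v (Sum.inr i) = 0 := congrFun (LinearMap.mem_ker.mp hv) i
        rw [this, mul_zero]
  revert g
  rw [hfun]
  intro g
  have hc := CfsgLib.SpinorMatrix.hc_of (CfsgLib.Lagrangian.Qp m F) hnd
    (CfsgLib.SpinorMatrix.field_cond (h.imp id fun h' => by simp; omega))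
  obtain ⟨vs, hvs, hg⟩ := CfsgLib.OmegaList.exists_list (CfsgLib.Lagrangian.Qp m F) hc g
  rw [CfsgLib.OmegaList.omega_iff_list _ hc hnd g vs hvs hg, hg,
    and_iff_left (FiniteField.isSquare_of_char_two (ringChar.eq F 2) _)]
  exact CfsgLib.OmegaLag.class_parity hU vs hvs

end Cfsg.Agent.S2630
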