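import Cfsg.Statements.S2631
import Cfsg.Agent.Lib.OmegaLag

set_option autoImplicit false
open Cfsg

namespace Cfsg.Agent.S2631

/-- For the hyperbolic form Σ x_i y_i on F^(2m) over a finite field (m ≥ 1, excluding m = 2 over the field of two elements), Ω (the commutator subgroup of the orthogonal group) acts transitively on each of the two classes of maximal totally singular subspaces: if U and W are m-dimensional totally singular subspaces with m − dim(U ∩ W) even, some element of Ω carries U to W. -/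
theorem result {F : Type*} [Field F] [Fintype F] {m : ℕ} (hm : 1 ≤ m) (h : Fintype.card F ≠ 2 ∨ m ≠ 2) (U W : Submodule F (Fin m ⊕ Fin m → F)) (hU : Module.finrank F U = m) (hW : Module.finrank F W = m) (hU0 : ∀ u ∈ U, Cfsg.quadFormPlus m F u = 0) (hW0 : ∀ w ∈ W, Cfsg.quadFormPlus m F w = 0) (he : Even (m - Module.finrank F ↥(U ⊓ W))) : ∃ g : ↥(Cfsg.isometryGroup F (Cfsg.quadFormPlus m F)), g ∈ Cfsg.Omega F (Cfsg.quadFormPlus m F) ∧ U.map (Matrix.mulVecLin ((g : Matrix.GeneralLinearGroup (Fin m ⊕ Fin m) F) : Matrix (Fin m ⊕ Fin m) (Fin m ⊕ Fin m) F)) = W := by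
  classical
  have hfun : Cfsg.quadFormPlus m F = ⇑(CfsgLib.Lagrangian.Qp m F) :=
    funext fun v => (CfsgLib.Lagrangian.Qp_apply v).symm
  have hnd : (QuadraticMap.polarBilin (CfsgLib.Lagrangian.Qp m F)).Nondegenerate := CfsgLib.Lagrangian.Qp_nondeg
  rw [hfun]
  have hc := CfsgLib.SpinorMatrix.hc_of (CfsgLib.Lagrangian.Qp m F) hnd
    (CfsgLib.SpinorMatrix.field_cond (h.imp id fun h' => by simp; omega))
  set Q := CfsgLib.Lagrangian.Qp m F with hQdef
  have hUQ : ∀ u ∈ U, Q u = 0 := fun u hu => by rw [hQdef, CfsgLib.Lagrangian.Qp_apply]; exact hU0 u hu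
  have hWQ : ∀ u ∈ W, Q u = 0 := fun u hu => by rw [hQdef, CfsgLib.Lagrangian.Qp_apply]; exact hW0 u hu
  let ψ := LinearEquiv.ofFinrankEq U W (by rw [hU, hW])
  obtain ⟨g, hg, hgφ⟩ := CfsgLib.WittExtension.quad_extend Q hnd U (W.subtype.comp ψ.toLinearMap)
    (fun a b hab => ψ.injective (Subtype.ext hab)) (fun x => by rw [hUQ x x.2]; exact hWQ _ (ψ x).2)
  set a₀ := (CfsgLib.SpinorMatrix.isoEquiv Q).symm ⟨g, hg⟩ with ha₀
  have ha₀v : ∀ x, a₀.1.1.mulVec x = g x := fun x => CfsgLib.SpinorMatrix.isoEquiv_symm_apply Q _ x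
  obtain ⟨vs, hvs, hvR⟩ := CfsgLib.OmegaList.exists_list Q hc a₀
  have hmap₀ : U.map (Matrix.mulVecLin a₀.1.1) = W := by
    refine Submodule.eq_of_le_of_finrank_le ?_ ?_
    · rintro _ ⟨x, hx, rfl⟩
      rw [Matrix.mulVecLin_apply, ha₀v, hgφ ⟨x, hx⟩]
      exact (ψ ⟨x, hx⟩).2
    · rw [← (Submodule.equivMapOfInjective _ (Matrix.mulVec_injective_of_isUnit ⟨a₀.1, rfl⟩) U).finrank_eq, hU, hW]
  have hev : Even vs.length := by
    have h1 := CfsgLib.OmegaLag.class_parity (F := F) ⟨hU, hU0⟩ vs hvs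
    rw [← hvR, hmap₀] at h1
    exact h1.mp he
  obtain ⟨e, heU, he0⟩ := Submodule.exists_mem_ne_zero_of_ne_bot (show U ≠ ⊥ from fun h0 => by rw [h0, finrank_bot] at hU; omega)
  obtain ⟨z, hz⟩ : ∃ z, QuadraticMap.polar ⇑Q e z ≠ 0 := by
    by_contra hno
    push Not at hno
    exact he0 (hnd.1 e fun y => hno y)
  obtain ⟨f₀, hef₀⟩ : ∃ f₀, QuadraticMap.polar ⇑Q e f₀ = 1 := ⟨(QuadraticMap.polar ⇑Q e z)⁻¹ • z, by
    rw [QuadraticMap.polar_smul_right, smul_eq_mul, inv_mul_cancel₀ hz]⟩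
  have hUU : ∀ x ∈ U, ∀ y ∈ U, QuadraticMap.polar ⇑Q x y = 0 := fun x hx y hy => by
    rw [QuadraticMap.polar, hUQ _ (U.add_mem hx hy), hUQ x hx, hUQ y hy]; ring
  obtain ⟨f, hf⟩ : ∃ f, f = f₀ + (-Q f₀) • e := ⟨_, rfl⟩
  have hef : QuadraticMap.polar ⇑Q e f = 1 := by
    rw [hf, QuadraticMap.polar_add_right, QuadraticMap.polar_smul_right, hUU e heU e heU, hef₀, smul_zero, add_zero]
  have hQf : Q f = 0 := by
    rw [hf, QuadraticMap.map_add ⇑Q, QuadraticMap.map_smul, hUQ e heU, QuadraticMap.polar_smul_right,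
      QuadraticMap.polar_comm ⇑Q f₀ e, hef₀, smul_eq_mul, smul_eq_mul]
    ring
  have hQw : ∀ b : F, Q (e + b • f) = b := fun b => by
    rw [QuadraticMap.map_add ⇑Q, QuadraticMap.map_smul, hUQ e heU, hQf, QuadraticMap.polar_smul_right, hef]
    simp
  obtain ⟨b, hb⟩ : ∃ b, b = CfsgLib.OmegaList.QP Q vs := ⟨_, rfl⟩
  have hb0 : b ≠ 0 := hb ▸ CfsgLib.OmegaList.QP_ne_zero Q hvs
  set ts := [e + b • f, e + (1 : F) • f] with hts
  have hall : ∀ t ∈ vs ++ ts, Q t ≠ 0 := fun t ht => by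
    rcases List.mem_append.mp ht with h' | h'
    · exact hvs t h'
    · rcases List.mem_pair.mp h' with rfl | rfl <;> rw [hQw]
      · exact hb0
      · exact one_ne_zero
  obtain ⟨a, ha⟩ := CfsgLib.OmegaList.exists_iso Q (vs ++ ts) hall
  refine ⟨a, (CfsgLib.OmegaList.omega_iff_list Q hc hnd a _ hall ha).mpr ⟨?_, ?_⟩, ?_⟩
  · rw [List.length_append]; exact hev.add even_two
  · rw [CfsgLib.OmegaList.QP_append, ← hb]
    rw [show CfsgLib.OmegaList.QP Q ts = Q (e + b • f) * Q (e + (1 : F) • f) by simp [CfsgLib.OmegaList.QP, hts],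
      hQw, hQw, mul_one]
    exact ⟨b, rfl⟩
  · refine Submodule.eq_of_le_of_finrank_le ?_ ?_
    · rintro _ ⟨x, hx, rfl⟩
      rw [Matrix.mulVecLin_apply, ha, CfsgLib.OmegaList.RP_append, ← hvR, ← Matrix.mulVec_mulVec, ← hmap₀]
      refine Submodule.mem_map_of_mem (f := Matrix.mulVecLin a₀.1.1) ?_
      rw [show CfsgLib.OmegaList.RP Q ts = Cfsg.reflectionMatrix ⇑Q (e + b • f) * Cfsg.reflectionMatrix ⇑Q (e + (1 : F) • f) by
        simp [CfsgLib.OmegaList.RP, hts]]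
      rw [← Matrix.mulVec_mulVec, CfsgLib.PolarVec.reflection_mulVec, CfsgLib.PolarVec.reflection_mulVec]
      simp only [QuadraticMap.polar_add_left, QuadraticMap.polar_add_right, QuadraticMap.polar_smul_left,
        QuadraticMap.polar_smul_right, QuadraticMap.polar_self, hQw, hUQ e heU, hQf, hUU e heU x hx, hef,
        QuadraticMap.polar_comm ⇑Q f e, smul_eq_mul]
      convert U.add_mem hx (U.smul_mem ((b⁻¹ - 1) * QuadraticMap.polar ⇑Q f x) heU) using 1
      match_scalars <;> field_simp <;> ring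
    · rw [← (Submodule.equivMapOfInjective _ (Matrix.mulVec_injective_of_isUnit ⟨a.1, rfl⟩) U).finrank_eq, hU, hW]

end Cfsg.Agent.S2631
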