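import Cfsg.Statements.S2632
import Cfsg.Agent.Lib.OmegaTrans

set_option autoImplicit false
open Cfsg

namespace Cfsg.Agent.S2632

/-- Ω is transitive on non-degenerate subspaces of each isometry type: for a quadratic form Q on F^n, n ≥ 3, with non-degenerate polar form (F finite; excluding dimension 4 over the field of two elements), if U and W are subspaces on which the polar form is non-degenerate and there is a Q-preserving linear isomorphism U → W, then some element of Ω (the commutator subgroup of the orthogonal group) carries U to W. (In dimension 2 this fails: Ω can be {±1}, which fixes every line.) -/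
theorem result {F : Type*} [Field F] [Fintype F] {n : ℕ} (hn : 3 ≤ n) (h : Fintype.card F ≠ 2 ∨ n ≠ 4) (Q : QuadraticForm F (Fin n → F)) (hQ : (QuadraticMap.polarBilin Q).Nondegenerate) (U W : Submodule F (Fin n → F)) (hU : U ⊓ LinearMap.BilinForm.orthogonal (QuadraticMap.polarBilin Q) U = ⊥) (hW : W ⊓ LinearMap.BilinForm.orthogonal (QuadraticMap.polarBilin Q) W = ⊥) (e : U ≃ₗ[F] W) (he : ∀ u : U, Q (e u : Fin n → F) = Q (u : Fin n → F)) : ∃ g : ↥(Cfsg.isometryGroup F ⇑Q), g ∈ Cfsg.Omega F ⇑Q ∧ U.map (Matrix.mulVecLin ((g : Matrix.GeneralLinearGroup (Fin n) F) : Matrix (Fin n) (Fin n) F)) = W := by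
  classical
  have hc := CfsgLib.SpinorMatrix.hc_of Q hQ (CfsgLib.SpinorMatrix.field_cond (by simpa using h))
  set B := QuadraticMap.polarBilin Q with hB
  have hQ' : ∀ X : Submodule F (Fin n → F), X ⊓ LinearMap.BilinForm.orthogonal B X = ⊥ →
      (QuadraticMap.polarBilin (Q.comp X.subtype)).Nondegenerate := by
    intro X hX
    have hl : ∀ x : X, (∀ y : X, QuadraticMap.polar ⇑Q (x : Fin n → F) y = 0) → x = 0 := by
      intro x hx
      have hm : (x : Fin n → F) ∈ X ⊓ LinearMap.BilinForm.orthogonal B X := ⟨x.2, fun y hy => by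
        show B y x = 0
        rw [hB, QuadraticMap.polarBilin_apply_apply, QuadraticMap.polar_comm]
        exact hx ⟨y, hy⟩⟩
      rw [hX, Submodule.mem_bot] at hm
      exact Subtype.ext hm
    have hp : ∀ x y : X, QuadraticMap.polar ⇑(Q.comp X.subtype) x y = QuadraticMap.polar ⇑Q (x : Fin n → F) y := fun x y => by
      simp [QuadraticMap.polar]
    refine ⟨fun x hx => hl x fun y => ?_, fun y hy => hl y fun x => ?_⟩
    · rw [← hp]; exact hx y
    · rw [QuadraticMap.polar_comm, ← hp]; exact hy x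
  have hsum : Module.finrank F U + Module.finrank F (LinearMap.BilinForm.orthogonal B U) = n := by
    have hfr := LinearMap.BilinForm.finrank_orthogonal hQ U
    rw [Module.finrank_fin_fun] at hfr
    have := Submodule.finrank_le U
    rw [Module.finrank_fin_fun] at this
    omega
  have hperp : LinearMap.BilinForm.orthogonal B U ⊓ LinearMap.BilinForm.orthogonal B (LinearMap.BilinForm.orthogonal B U) = ⊥ := by
    rw [LinearMap.BilinForm.orthogonal_orthogonal hQ (show LinearMap.IsRefl B from fun x y hxy => by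
      rw [hB, QuadraticMap.polarBilin_apply_apply] at hxy ⊢
      rwa [QuadraticMap.polar_comm]) U, inf_comm]
    exact hU
  obtain ⟨X, hXd, hXnd, hXstab⟩ : ∃ X : Submodule F (Fin n → F), 2 ≤ Module.finrank F X ∧
      (QuadraticMap.polarBilin (Q.comp X.subtype)).Nondegenerate ∧
      ∀ v ∈ X, ∀ x ∈ U, (Cfsg.reflectionMatrix ⇑Q v).mulVec x ∈ U := by
    by_cases h2U : 2 ≤ Module.finrank F U
    · exact ⟨U, h2U, hQ' U hU, fun v hv => CfsgLib.OmegaTrans.refl_mem Q (Or.inl hv)⟩
    · refine ⟨LinearMap.BilinForm.orthogonal B U, by omega, hQ' _ hperp, fun v hv => CfsgLib.OmegaTrans.refl_mem Q (Or.inr fun x hx => ?_)⟩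
      rw [QuadraticMap.polar_comm]
      exact hv x hx
  obtain ⟨v, hv⟩ := CfsgLib.SpinorMatrix.exists_anisotropic_pos (Q.comp X.subtype) hXnd (by omega)
  have hpair : ∀ b : F, b ≠ 0 → ∃ u w, Q u ≠ 0 ∧ Q w ≠ 0 ∧ IsSquare (b * (Q u * Q w)) ∧
      ∀ x ∈ U, (Cfsg.reflectionMatrix ⇑Q u * Cfsg.reflectionMatrix ⇑Q w).mulVec x ∈ U := by
    intro b hb
    have key : ∀ u w : X, Q u.1 ≠ 0 → Q w.1 ≠ 0 → IsSquare (b * (Q u.1 * Q w.1)) →
        ∃ u w, Q u ≠ 0 ∧ Q w ≠ 0 ∧ IsSquare (b * (Q u * Q w)) ∧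
          ∀ x ∈ U, (Cfsg.reflectionMatrix ⇑Q u * Cfsg.reflectionMatrix ⇑Q w).mulVec x ∈ U :=
      fun u w hu hw hs => ⟨u, w, hu, hw, hs, fun x hx => by
        rw [← Matrix.mulVec_mulVec]; exact hXstab _ u.2 _ (hXstab _ w.2 x hx)⟩
    by_cases h2 : (2 : F) = 0
    · haveI : CharP F 2 := CharTwo.of_one_ne_zero_of_two_eq_zero one_ne_zero h2
      exact key v v hv hv (FiniteField.isSquare_of_char_two (ringChar.eq F 2) _)
    · obtain ⟨u, hu⟩ := CfsgLib.SpinorMatrix.universal (Q.comp X.subtype) h2 hXnd hXd one_ne_zero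
      obtain ⟨w, hw⟩ := CfsgLib.SpinorMatrix.universal (Q.comp X.subtype) h2 hXnd hXd hb
      have hu' : Q u.1 = 1 := hu
      have hw' : Q w.1 = b := hw
      exact key u w (by rw [hu']; exact one_ne_zero) (by rw [hw']; exact hb) (by rw [hu', hw', one_mul]; exact ⟨b, rfl⟩)
  obtain ⟨g, hg, hgφ⟩ := CfsgLib.WittExtension.quad_extend Q hQ U (W.subtype.comp e.toLinearMap)
    (fun a b hab => e.injective (Subtype.ext hab)) he
  obtain ⟨a, ha, hmap⟩ := CfsgLib.OmegaTrans.omega_map Q hQ hc U W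
    ⟨v.1, hv, hXstab _ v.2⟩ hpair g hg (fun x hx => by rw [hgφ ⟨x, hx⟩]; exact (e ⟨x, hx⟩).2)
    (by rw [e.finrank_eq])
  exact ⟨a, ha, hmap⟩

end Cfsg.Agent.S2632
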