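import Cfsg.Statements.S2633
import Cfsg.Agent.Lib.OmegaTrans

set_option autoImplicit false
open Cfsg

namespace Cfsg.Agent.S2633

/-- Ω is transitive on totally singular subspaces of each dimension less than half the dimension: for a quadratic form Q on F^n with non-degenerate polar form (F finite; excluding dimension 4 over the field of two elements), if U and W are subspaces of the same dimension k with 2k < n on which Q vanishes, then some element of Ω (the commutator subgroup of the orthogonal group) carries U to W. -/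
theorem result {F : Type*} [Field F] [Fintype F] {n : ℕ} (h : Fintype.card F ≠ 2 ∨ n ≠ 4) (Q : QuadraticForm F (Fin n → F)) (hQ : (QuadraticMap.polarBilin Q).Nondegenerate) (U W : Submodule F (Fin n → F)) {k : ℕ} (hk : 2 * k < n) (hU : Module.finrank F U = k) (hW : Module.finrank F W = k) (hU0 : ∀ u ∈ U, Q u = 0) (hW0 : ∀ w ∈ W, Q w = 0) : ∃ g : ↥(Cfsg.isometryGroup F ⇑Q), g ∈ Cfsg.Omega F ⇑Q ∧ U.map (Matrix.mulVecLin ((g : Matrix.GeneralLinearGroup (Fin n) F) : Matrix (Fin n) (Fin n) F)) = W := by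
  classical
  have hc := CfsgLib.SpinorMatrix.hc_of Q hQ (CfsgLib.SpinorMatrix.field_cond (by simpa using h))
  set B := QuadraticMap.polarBilin Q with hB
  have hrefl : LinearMap.IsRefl B := fun x y hxy => by
    rw [hB, QuadraticMap.polarBilin_apply_apply] at hxy ⊢
    rwa [QuadraticMap.polar_comm]
  by_cases hk0 : k = 0
  · refine ⟨1, one_mem _, ?_⟩
    subst hk0
    rw [Submodule.finrank_eq_zero.mp hU, Submodule.finrank_eq_zero.mp hW, Submodule.map_bot]
  have hUU : ∀ x ∈ U, ∀ y ∈ U, QuadraticMap.polar ⇑Q x y = 0 := fun x hx y hy => by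
    rw [QuadraticMap.polar, hU0 _ (U.add_mem hx hy), hU0 x hx, hU0 y hy]; ring
  -- an anisotropic vector orthogonal to `U`
  obtain ⟨v, hvQ, hvU⟩ : ∃ v, Q v ≠ 0 ∧ ∀ x ∈ U, QuadraticMap.polar ⇑Q v x = 0 := by
    by_contra hno
    push Not at hno
    set P := LinearMap.BilinForm.orthogonal B U with hP
    have hP0 : ∀ v ∈ P, Q v = 0 := fun v hv => by
      by_contra hv0
      obtain ⟨x, hx, hx'⟩ := hno v hv0
      exact hx' (by rw [QuadraticMap.polar_comm]; exact hv x hx)
    have hle : P ≤ LinearMap.BilinForm.orthogonal B P := fun x hx y hy => by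
      show B y x = 0
      rw [hB, QuadraticMap.polarBilin_apply_apply, QuadraticMap.polar, hP0 _ (P.add_mem hy hx), hP0 x hx, hP0 y hy]
      ring
    rw [hP, LinearMap.BilinForm.orthogonal_orthogonal hQ hrefl] at hle
    have h1 := Submodule.finrank_mono hle
    rw [LinearMap.BilinForm.finrank_orthogonal hQ U, Module.finrank_fin_fun, hU] at h1
    omega
  obtain ⟨e, heU, he0⟩ := Submodule.exists_mem_ne_zero_of_ne_bot (show U ≠ ⊥ from fun h0 => hk0 (by rw [← hU, h0, finrank_bot]))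
  obtain ⟨z, hz⟩ : ∃ z, QuadraticMap.polar ⇑Q e z ≠ 0 := by
    by_contra hno
    push Not at hno
    exact he0 (hQ.1 e fun y => hno y)
  obtain ⟨f₀, hef₀⟩ : ∃ f₀, QuadraticMap.polar ⇑Q e f₀ = 1 := ⟨(QuadraticMap.polar ⇑Q e z)⁻¹ • z, by
    rw [QuadraticMap.polar_smul_right, smul_eq_mul, inv_mul_cancel₀ hz]⟩
  obtain ⟨f, hf⟩ : ∃ f, f = f₀ + (-Q f₀) • e := ⟨_, rfl⟩
  have hef : QuadraticMap.polar ⇑Q e f = 1 := by
    rw [hf, QuadraticMap.polar_add_right, QuadraticMap.polar_smul_right, hUU e heU e heU, hef₀, smul_zero, add_zero]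
  have hQf : Q f = 0 := by
    rw [hf, QuadraticMap.map_add ⇑Q, QuadraticMap.map_smul, hU0 e heU, QuadraticMap.polar_smul_right,
      QuadraticMap.polar_comm ⇑Q f₀ e, hef₀, smul_eq_mul, smul_eq_mul]
    ring
  have hQw : ∀ b : F, Q (e + b • f) = b := fun b => by
    rw [QuadraticMap.map_add ⇑Q, QuadraticMap.map_smul, hU0 e heU, hQf, QuadraticMap.polar_smul_right, hef]
    simp
  have hpair : ∀ b : F, b ≠ 0 → ∃ u w, Q u ≠ 0 ∧ Q w ≠ 0 ∧ IsSquare (b * (Q u * Q w)) ∧
      ∀ x ∈ U, (Cfsg.reflectionMatrix ⇑Q u * Cfsg.reflectionMatrix ⇑Q w).mulVec x ∈ U := by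
    intro b hb
    refine ⟨e + b • f, e + (1 : F) • f, by rw [hQw]; exact hb, by rw [hQw]; exact one_ne_zero,
      by rw [hQw, hQw, mul_one]; exact ⟨b, rfl⟩, fun x hx => ?_⟩
    rw [← Matrix.mulVec_mulVec, CfsgLib.PolarVec.reflection_mulVec, CfsgLib.PolarVec.reflection_mulVec]
    simp only [QuadraticMap.polar_add_left, QuadraticMap.polar_add_right, QuadraticMap.polar_smul_left,
      QuadraticMap.polar_smul_right, QuadraticMap.polar_self, hQw, hU0 e heU, hQf, hUU e heU x hx, hef,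
      QuadraticMap.polar_comm ⇑Q f e, smul_eq_mul]
    have key : x + (-((1 : F)⁻¹ * (0 + 1 * QuadraticMap.polar ⇑Q f x))) • (e + (1 : F) • f) + (-(b⁻¹ * (0 + b * QuadraticMap.polar ⇑Q f x + -((1 : F)⁻¹ * (0 + 1 * QuadraticMap.polar ⇑Q f x)) * (1 + b)))) • (e + b • f) = x + ((b⁻¹ - 1) * QuadraticMap.polar ⇑Q f x) • e := by
      match_scalars <;> field_simp <;> ring
    convert U.add_mem hx (U.smul_mem ((b⁻¹ - 1) * QuadraticMap.polar ⇑Q f x) heU) using 1
    rw [← key]
    match_scalars <;> field_simp <;> ring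
  let φ : U →ₗ[F] (Fin n → F) := W.subtype.comp (LinearEquiv.ofFinrankEq U W (by rw [hU, hW])).toLinearMap
  obtain ⟨g, hg, hgφ⟩ := CfsgLib.WittExtension.quad_extend Q hQ U φ
    (fun a b hab => (LinearEquiv.ofFinrankEq U W (by rw [hU, hW])).injective (Subtype.ext hab))
    (fun x => by rw [hU0 x x.2]; exact hW0 _ (LinearEquiv.ofFinrankEq U W (by rw [hU, hW]) x).2)
  obtain ⟨a, ha, hmap⟩ := CfsgLib.OmegaTrans.omega_map Q hQ hc U W
    ⟨v, hvQ, CfsgLib.OmegaTrans.refl_mem Q (Or.inr hvU)⟩ hpair g hg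
    (fun x hx => by rw [hgφ ⟨x, hx⟩]; exact (LinearEquiv.ofFinrankEq U W (by rw [hU, hW]) ⟨x, hx⟩).2)
    (by rw [hU, hW])
  exact ⟨a, ha, hmap⟩

end Cfsg.Agent.S2633
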