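import Cfsg.Statements.S2634
import Cfsg.Agent.Lib.OmegaTrans

set_option autoImplicit false
open Cfsg

namespace Cfsg.Agent.S2634

/-- Over a finite field of characteristic two, Ω (the commutator subgroup of the orthogonal group of a quadratic form Q on F^n with non-degenerate polar form; excluding dimension 4 over the field of two elements) acts transitively on the non-singular 1-spaces: for u, v with Q(u) ≠ 0 and Q(v) ≠ 0 some element of Ω carries the line through u to the line through v. -/
theorem result {F : Type*} [Field F] [Fintype F] [CharP F 2] {n : ℕ} (h : Fintype.card F ≠ 2 ∨ n ≠ 4) (Q : QuadraticForm F (Fin n → F)) (hQ : (QuadraticMap.polarBilin Q).Nondegenerate) (u v : Fin n → F) (hu : Q u ≠ 0) (hv : Q v ≠ 0) : ∃ g : ↥(Cfsg.isometryGroup F ⇑Q), g ∈ Cfsg.Omega F ⇑Q ∧ (F ∙ ((g : Matrix.GeneralLinearGroup (Fin n) F) : Matrix (Fin n) (Fin n) F).mulVec u) = F ∙ v := by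
  classical
  have hc := CfsgLib.SpinorMatrix.hc_of Q hQ (CfsgLib.SpinorMatrix.field_cond (by simpa using h))
  have hsq : ∀ x : F, IsSquare x := fun x => FiniteField.isSquare_of_char_two (ringChar.eq F 2) x
  obtain ⟨c, hc'⟩ := hsq (Q u / Q v)
  have hQc : Q (c • v) = Q u := by
    rw [QuadraticMap.map_smul, smul_eq_mul, ← hc', div_mul_cancel₀ _ hv]
  have hc0 : c ≠ 0 := fun h0 => hu (by rw [← hQc, h0, zero_smul, QuadraticMap.map_zero])
  have hv0 : v ≠ 0 := fun h0 => hv (by rw [h0, QuadraticMap.map_zero])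
  have hu0 : u ≠ 0 := fun h0 => hu (by rw [h0, QuadraticMap.map_zero])
  let e := LinearEquiv.toSpanNonzeroSingleton F (Fin n → F) u hu0
  let φ : (F ∙ u) →ₗ[F] (Fin n → F) := (LinearMap.toSpanSingleton F (Fin n → F) (c • v)).comp e.symm.toLinearMap
  obtain ⟨g, hg, hgφ⟩ := CfsgLib.WittExtension.quad_extend Q hQ (F ∙ u) φ
    (fun a b hab => by
      simp only [φ, LinearMap.comp_apply, LinearEquiv.coe_coe, LinearMap.toSpanSingleton_apply] at hab
      exact e.symm.injective (smul_left_injective F (smul_ne_zero hc0 hv0) hab))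
    (fun x => by
      obtain ⟨t, rfl⟩ := e.surjective x
      simp only [φ, LinearMap.comp_apply, LinearEquiv.coe_coe, LinearEquiv.symm_apply_apply,
        LinearMap.toSpanSingleton_apply]
      rw [QuadraticMap.map_smul, hQc, show ((e t : F ∙ u) : Fin n → F) = t • u from rfl, QuadraticMap.map_smul])
  obtain ⟨a, ha, hmap⟩ := CfsgLib.OmegaTrans.omega_map Q hQ hc (F ∙ u) (F ∙ v)
    ⟨u, hu, CfsgLib.OmegaTrans.refl_mem Q (Or.inl (Submodule.mem_span_singleton_self u))⟩
    (fun b _ => ⟨u, u, hu, hu, hsq _, fun x hx => by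
      rw [← Matrix.mulVec_mulVec]
      exact CfsgLib.OmegaTrans.refl_mem Q (Or.inl (Submodule.mem_span_singleton_self u)) _
        (CfsgLib.OmegaTrans.refl_mem Q (Or.inl (Submodule.mem_span_singleton_self u)) x hx)⟩)
    g hg (fun x hx => by
      rw [hgφ ⟨x, hx⟩]
      simp only [φ, LinearMap.comp_apply, LinearEquiv.coe_coe, LinearMap.toSpanSingleton_apply, smul_smul]
      exact Submodule.smul_mem _ _ (Submodule.mem_span_singleton_self v))
    (by rw [finrank_span_singleton hv0, finrank_span_singleton hu0])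
  refine ⟨a, ha, ?_⟩
  rw [Submodule.map_span, Set.image_singleton] at hmap
  exact hmap

end Cfsg.Agent.S2634
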