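import Cfsg.Statements.S2635
import Cfsg.Agent.Lib.OmegaList

set_option autoImplicit false
open Cfsg

namespace Cfsg.Agent.S2635

/-- Over a finite field of characteristic two, for a quadratic form Q on F^n with non-degenerate polar form, n ≥ 2, other than dimension 4 over the field of two elements, Ω (the commutator subgroup of the orthogonal group) is exactly the subgroup generated by the products of two reflections (orthogonal transvections) x ↦ x − Q(v)⁻¹ f(x, v) v, Q(v) ≠ 0: the products of an even number of reflections. -/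
theorem result {F : Type*} [Field F] [Fintype F] [CharP F 2] {n : ℕ} (hn : 2 ≤ n) (h : Fintype.card F ≠ 2 ∨ n ≠ 4) (Q : QuadraticForm F (Fin n → F)) (hQ : (QuadraticMap.polarBilin Q).Nondegenerate) : Cfsg.Omega F ⇑Q = Subgroup.closure {g : ↥(Cfsg.isometryGroup F ⇑Q) | ∃ u v : Fin n → F, Q u ≠ 0 ∧ Q v ≠ 0 ∧ ((g : Matrix.GeneralLinearGroup (Fin n) F) : Matrix (Fin n) (Fin n) F) = Cfsg.reflectionMatrix ⇑Q u * Cfsg.reflectionMatrix ⇑Q v} := by
  classical
  have hc := CfsgLib.SpinorMatrix.hc_of Q hQ (CfsgLib.SpinorMatrix.field_cond (by simpa using h))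
  have h20 : (2 : F) = 0 := CharTwo.two_eq_zero
  have hsq : ∀ x : F, IsSquare x := fun x => FiniteField.isSquare_of_char_two (ringChar.eq F 2) x
  apply le_antisymm
  · intro g hg
    obtain ⟨vs, hvs, he, hev, -⟩ := CfsgLib.OmegaList.list_of_mem Q hc hQ g hg
    set S := {g : ↥(Cfsg.isometryGroup F ⇑Q) | ∃ u v : Fin n → F, Q u ≠ 0 ∧ Q v ≠ 0 ∧ ((g : Matrix.GeneralLinearGroup (Fin n) F) : Matrix (Fin n) (Fin n) F) = Cfsg.reflectionMatrix ⇑Q u * Cfsg.reflectionMatrix ⇑Q v}
    have key : ∀ k : ℕ, ∀ vs : List (Fin n → F), vs.length = 2 * k → (∀ v ∈ vs, Q v ≠ 0) →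
        ∀ g : ↥(Cfsg.isometryGroup F ⇑Q), g.1.1 = CfsgLib.OmegaList.RP Q vs → g ∈ Subgroup.closure S := by
      intro k
      induction k with
      | zero =>
        intro vs hl _ g hg
        rw [List.length_eq_zero_iff.mp (by omega : vs.length = 0)] at hg
        have : g = 1 := Subtype.ext (Units.ext (by simpa [CfsgLib.OmegaList.RP] using hg))
        rw [this]; exact one_mem _
      | succ k ih =>
        intro vs hl hv g hg
        match vs, hl, hv, hg with
        | u :: v :: t, hl, hv, hg =>
          obtain ⟨a, ha⟩ := CfsgLib.OmegaList.exists_iso Q [u, v] (fun w hw => hv w (by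
            rcases List.mem_pair.mp hw with rfl | rfl <;> simp))
          obtain ⟨b, hb⟩ := CfsgLib.OmegaList.exists_iso Q t (fun w hw => hv w (by simp [hw]))
          have hab : g = a * b := Subtype.ext (Units.ext (by
            show g.1.1 = a.1.1 * b.1.1
            rw [hg, ha, hb, ← CfsgLib.OmegaList.RP_append]; rfl))
          rw [hab]
          refine mul_mem (Subgroup.subset_closure ⟨u, v, hv u (by simp), hv v (by simp), ?_⟩)
            (ih t (by simp at hl; omega) (fun w hw => hv w (by simp [hw])) b hb)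
          rw [ha]; simp [CfsgLib.OmegaList.RP]
        | [_], hl, _, _ => simp at hl; omega
        | [], hl, _, _ => simp at hl
    obtain ⟨k, hk⟩ := hev
    exact key k vs (by omega) hvs g he
  · rw [Subgroup.closure_le]
    rintro g ⟨u, v, hu, hv, hg⟩
    refine (CfsgLib.OmegaList.omega_iff_list Q hc hQ g [u, v] (fun w hw => ?_) ?_).mpr ⟨⟨1, rfl⟩, hsq _⟩
    · rcases List.mem_pair.mp hw with rfl | rfl <;> assumption
    · rw [hg]; simp [CfsgLib.OmegaList.RP]

end Cfsg.Agent.S2635
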