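import Cfsg.Statements.S2636
import Cfsg.Agent.Lib.PSLn.Proj
import Mathlib.LinearAlgebra.Matrix.GeneralLinearGroup.Card
-- import your own Cfsg.Agent.* helpers here

set_option autoImplicit false
open Cfsg

namespace Cfsg.Agent.S2636

open Matrix CfsgLib.PSLn in
theorem card_projFixed {F : Type*} [Field F] [Fintype F] {n : ℕ} (hn : 0 < n) (σ : RingAut F) :
    (Nat.card (fixedField σ) - 1) *
      Nat.card {g : GL (Fin n) F // ∃ c : F, c ≠ 0 ∧ g.1.map σ = c • g.1} =
    (Fintype.card F - 1) * Nat.card (GL (Fin n) (fixedField σ)) := by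
  classical
  set K := fixedField σ
  let ι : K →+* F := K.subtype
  have hscal : ∀ (u : Fˣ) (h : GL (Fin n) F), GeneralLinearGroup.scalar (Fin n) u * h =
      h * GeneralLinearGroup.scalar (Fin n) u := fun u h => by
    have : GeneralLinearGroup.scalar (Fin n) u ∈ Subgroup.center (GL (Fin n) F) := by
      rw [GeneralLinearGroup.center_eq_range_scalar]; exact ⟨u, rfl⟩
    exact ((Subgroup.mem_center_iff.mp this) h).symm
  let φ : Fˣ × GL (Fin n) K →* GL (Fin n) F := MonoidHom.mk'
    (fun x => GeneralLinearGroup.scalar (Fin n) x.1 * GeneralLinearGroup.map ι x.2) (by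
      rintro ⟨u, A⟩ ⟨v, B⟩
      simp only [Prod.mk_mul_mk, map_mul]
      rw [mul_assoc, mul_assoc, ← mul_assoc (GeneralLinearGroup.map ι A), ← hscal, mul_assoc])
  have hR : ∀ g, g ∈ φ.range ↔ ∃ c : F, c ≠ 0 ∧ g.1.map σ = c • g.1 := by
    intro g
    constructor
    · rintro ⟨⟨u, A⟩, rfl⟩
      refine ⟨σ (u : F) / u, div_ne_zero (by simp) u.ne_zero, Matrix.ext fun i j => ?_⟩
      show σ ((GeneralLinearGroup.scalar (Fin n) u * GeneralLinearGroup.map ι A).1 i j) =
        σ (u : F) / u * (GeneralLinearGroup.scalar (Fin n) u * GeneralLinearGroup.map ι A).1 i j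
      simp only [Units.val_mul, scalar_coe, Matrix.scalar_apply, Matrix.diagonal_mul, map_mul]
      rw [show σ ((GeneralLinearGroup.map ι A).1 i j) = (GeneralLinearGroup.map ι A).1 i j from
        (A.1 i j).2, ← mul_assoc, div_mul_cancel₀ _ u.ne_zero]
    · rintro ⟨c, -, hg⟩
      obtain ⟨u, hu⟩ := exists_fixed_of_proj σ hn g c hg
      choose A hA using fun i j =>
        (⟨⟨_, mem_fixedField.mpr (congrFun (congrFun hu i) j)⟩, rfl⟩ : ∃ a : K, ι a =
          (GeneralLinearGroup.scalar (Fin n) u * g).1 i j)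
      have hdet : (Matrix.of A).det ≠ 0 := by
        intro h0
        have e : ι (Matrix.of A).det = (GeneralLinearGroup.scalar (Fin n) u * g).1.det := by
          rw [RingHom.map_det]
          congr 1
          exact Matrix.ext hA
        rw [h0, map_zero] at e
        exact ((Matrix.isUnit_iff_isUnit_det _).mp
          (GeneralLinearGroup.scalar (Fin n) u * g).isUnit).ne_zero e.symm
      refine ⟨(u⁻¹, GeneralLinearGroup.mkOfDetNeZero _ hdet), ?_⟩
      show GeneralLinearGroup.scalar (Fin n) u⁻¹ * _ = g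
      rw [map_inv, inv_mul_eq_iff_eq_mul]
      exact Units.ext (Matrix.ext hA)
  let ψ : Kˣ →* φ.ker := MonoidHom.mk' (fun u => ⟨((Units.map ι.toMonoidHom) u,
      GeneralLinearGroup.scalar (Fin n) u⁻¹), by
    show GeneralLinearGroup.scalar (Fin n) (Units.map ι.toMonoidHom u) *
      GeneralLinearGroup.map ι (GeneralLinearGroup.scalar (Fin n) u⁻¹) = 1
    refine Units.ext ?_
    rw [Units.val_mul, scalar_coe]
    show Matrix.scalar (Fin n) (ι (u : K)) *
      (Matrix.scalar (Fin n) ((u⁻¹ : Kˣ) : K)).map ι = 1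
    rw [Matrix.scalar_apply, Matrix.scalar_apply, Matrix.diagonal_map (map_zero ι),
      Matrix.diagonal_mul_diagonal, ← Matrix.diagonal_one]
    congr 1
    funext i
    rw [← map_mul, ← Units.val_mul, mul_inv_cancel, Units.val_one, map_one]⟩) (fun u v =>
    Subtype.ext (Prod.ext (map_mul _ _ _) (by simp only [mul_inv, map_mul]; rfl)))
  have hψ : Function.Bijective ψ := by
    constructor
    · intro u v h
      exact Units.map_injective ι.injective (congrArg (fun x : φ.ker => x.1.1) h)
    · rintro ⟨⟨u, A⟩, h⟩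
      have h' : GeneralLinearGroup.scalar (Fin n) u * GeneralLinearGroup.map ι A = 1 := h
      have hA : ∀ i j, ι (A.1 i j) = if i = j then ((u⁻¹ : Fˣ) : F) else 0 := by
        intro i j
        have e := mul_eq_one_iff_inv_eq.mp h'
        rw [← map_inv] at e
        have e2 := congrFun (congrFun (congrArg (fun x : GL (Fin n) F => x.1) e) i) j
        rw [scalar_coe, Matrix.scalar_apply, Matrix.diagonal_apply] at e2
        exact e2.symm
      let a : K := A.1 ⟨0, hn⟩ ⟨0, hn⟩
      have ha : ι a = ((u⁻¹ : Fˣ) : F) := by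
        simpa using hA ⟨0, hn⟩ ⟨0, hn⟩
      have ha0 : a ≠ 0 := fun h0 => (u⁻¹).ne_zero (by rw [← ha, h0, map_zero])
      refine ⟨(Units.mk0 a ha0)⁻¹, Subtype.ext (Prod.ext ?_ ?_)⟩
      · show Units.map ι.toMonoidHom (Units.mk0 a ha0)⁻¹ = u
        rw [map_inv, inv_eq_iff_eq_inv]
        exact Units.ext ha
      · show GeneralLinearGroup.scalar (Fin n) (Units.mk0 a ha0)⁻¹⁻¹ = A
        refine Units.ext (Matrix.ext fun i j => ι.injective ?_)
        rw [inv_inv, scalar_coe, Matrix.scalar_apply, hA i j, Matrix.diagonal_apply, apply_ite ι,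
          map_zero]
        exact if_congr Iff.rfl ha rfl
  have h1 := φ.ker.card_mul_index
  rw [Subgroup.index_ker, ← Nat.card_eq_of_bijective ψ hψ, Nat.card_units, Nat.card_prod,
    Nat.card_units, Nat.card_eq_fintype_card (α := F)] at h1
  rw [← h1]
  congr 1
  exact Nat.card_congr (Equiv.subtypeEquivRight fun g => (hR g).symm)

/-- Centraliser of a field automorphism in PGL_n: let F be the field with q = q₀^r elements, σ a field automorphism of F of prime order r (so its fixed field has q₀ elements) and n ≥ 1. The invertible matrices g whose entrywise image under σ is a scalar multiple of g — those whose coset modulo scalars is fixed by σ — number (q − 1)/(q₀ − 1) · |GL_n(q₀)|; equivalently the centraliser in PGL_n(q) of the induced automorphism has the order of PGL_n(q₀). -/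
theorem result {F : Type*} [Field F] [Fintype F] {q₀ r n : ℕ} (hr : r.Prime) (hn : 1 ≤ n) (hF : Fintype.card F = q₀ ^ r) (σ : F ≃+* F) (hσ : orderOf σ = r) : Nat.card {g : GL (Fin n) F // ∃ c : F, c ≠ 0 ∧ (g : Matrix (Fin n) (Fin n) F).map σ = c • (g : Matrix (Fin n) (Fin n) F)} = (q₀ ^ r - 1) / (q₀ - 1) * ∏ i : Fin n, (q₀ ^ n - q₀ ^ (i : ℕ)) := by
  classical
  have hK : Nat.card (CfsgLib.PSLn.fixedField (σ : RingAut F)) = q₀ := by
    have h := CfsgLib.PSLn.card_eq_fixedField_pow (σ : RingAut F)
    rw [hF, show orderOf (σ : RingAut F) = r from hσ] at h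
    exact (Nat.pow_left_injective hr.pos.ne' h).symm
  have : Fintype (CfsgLib.PSLn.fixedField (σ : RingAut F)) := Fintype.ofFinite _
  have h := card_projFixed (n := n) hn σ
  rw [Matrix.card_GL_field, hK,
    (Nat.card_eq_fintype_card (α := CfsgLib.PSLn.fixedField (σ : RingAut F))).symm.trans hK, hF] at h
  have hq : 1 < q₀ := by
    rw [← hK]; exact Finite.one_lt_card
  obtain ⟨d, hd⟩ : q₀ - 1 ∣ q₀ ^ r - 1 := by
    simpa using Nat.sub_dvd_pow_sub_pow q₀ 1 r
  rw [hd, mul_assoc] at h
  rw [hd, Nat.mul_div_cancel_left _ (by omega : 0 < q₀ - 1)]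
  exact Nat.eq_of_mul_eq_mul_left (by omega) h

end Cfsg.Agent.S2636
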