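import Cfsg.Statements.S2637
import Cfsg.Agent.Lib.SemisimplePrimeClasses.Symplectic
import Cfsg.Agent.Lib.SemisimplePrimeClasses.OrthCount
import Cfsg.Agent.Lib.FiniteForms.UnitaryEmbed
import Cfsg.Agent.Lib.UnitaryOrder
-- import your own Cfsg.Agent.* helpers here

set_option autoImplicit false
open Cfsg

namespace Cfsg.Agent.S2637

open Matrix CfsgLib.SemisimplePrimeClasses CfsgLib.FiniteForms
set_option maxHeartbeats 1000000

universe vv

theorem spRoots_fpf {F : Type vv} [Field F] [Fintype F] (p : ℕ) [Fact p.Prime] [CharP F p] {m : ℕ}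
    {ζ : AlgebraicClosure F} (hζ : IsPrimitiveRoot ζ 3) (g : Matrix.symplecticGroup (Fin m) F) (hg : g ^ 3 = 1)
    (hu : IsUnit ((g : Matrix (Fin m ⊕ Fin m) (Fin m ⊕ Fin m) F) - 1)) :
    spRoots g = Multiset.replicate m ζ + Multiset.replicate m ζ⁻¹ := by
  classical
  have h1 : (1 : AlgebraicClosure F) ∉ spRoots g := by
    intro h
    rw [spRoots, Polynomial.mem_roots (Matrix.charpoly_monic _).ne_zero, Polynomial.IsRoot, Matrix.eval_charpoly] at h
    have h2 : IsUnit (scalar (Fin m ⊕ Fin m) (1 : AlgebraicClosure F) -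
        g.1.map (algebraMap F (AlgebraicClosure F))) := by
      have h3 := (hu.map (algebraMap F (AlgebraicClosure F)).mapMatrix).neg
      rwa [map_sub, map_one, RingHom.mapMatrix_apply, neg_sub, ← map_one (scalar (Fin m ⊕ Fin m))] at h3
    exact not_isUnit_zero (h ▸ (Matrix.isUnit_iff_isUnit_det _).1 h2)
  have hz : ζ⁻¹ ≠ ζ := fun e => by
    have h2 : ζ ^ 2 = 1 := by
      rw [sq]; nth_rewrite 1 [← e]
      exact inv_mul_cancel₀ (hζ.ne_zero three_ne_zero)
    exact absurd (Nat.le_of_dvd two_pos (hζ.dvd_of_pow_eq_one 2 h2)) (by norm_num)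
  have hsub : ∀ t ∈ spRoots g, t = ζ ∨ t = ζ⁻¹ := fun t ht => by
    obtain ⟨i, hi, rfl⟩ := hζ.eq_pow_of_pow_eq_one (spRoots_pow hg ht)
    interval_cases i
    · rw [pow_zero] at ht; exact absurd ht h1
    · exact Or.inl (pow_one ζ)
    · exact Or.inr (eq_inv_of_mul_eq_one_left (by rw [← pow_succ]; exact hζ.pow_eq_one))
  have hinv : (spRoots g).count ζ⁻¹ = (spRoots g).count ζ := by
    conv_lhs => rw [← (spRoots_invariant p g).2]
    exact Multiset.count_map_eq_count' _ _ inv_injective _
  have hdec : spRoots g = Multiset.replicate ((spRoots g).count ζ) ζ +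
      Multiset.replicate ((spRoots g).count ζ) ζ⁻¹ := by
    ext t
    rw [Multiset.count_add, Multiset.count_replicate, Multiset.count_replicate]
    by_cases h : t ∈ spRoots g
    · rcases hsub t h with rfl | rfl
      · rw [if_pos rfl, if_neg hz, add_zero]
      · rw [if_neg (Ne.symm hz), if_pos rfl, zero_add, hinv]
    · rw [Multiset.count_eq_zero.2 h]
      split_ifs with h2 h3 h3
      · exact absurd (h3.trans h2.symm) hz
      · subst h2; rw [Multiset.count_eq_zero.2 h]
      · subst h3; rw [← hinv, Multiset.count_eq_zero.2 h]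
      · rfl
  have hc := congrArg Multiset.card hdec
  rw [spRoots_card, Multiset.card_add, Multiset.card_replicate, Multiset.card_replicate] at hc
  rwa [show (spRoots g).count ζ = m by omega] at hdec

/-- Centraliser of a fixed-point-free element of order three in Sp_2m(q) when q ≡ 2 (mod 3): if x ∈ Sp_2m(F) (|F| = q, m ≥ 1) satisfies x³ = 1 and x − 1 is invertible, then its centraliser in Sp_2m(F) has the order of the unitary group GU_m(q), namely q^(m(m−1)/2) Π_(i=1)^m (q^i − (−1)^i) (x lies in the centre of a subgroup GU_m(q) of Sp_2m(q)). -/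
theorem result {F : Type*} [Field F] [Fintype F] {q : ℕ} (hF : Fintype.card F = q) (hq : q % 3 = 2) {m : ℕ} (hm : 1 ≤ m) (x : Matrix.symplecticGroup (Fin m) F) (hx3 : x ^ 3 = 1) (hfpf : IsUnit ((x : Matrix (Fin m ⊕ Fin m) (Fin m ⊕ Fin m) F) - 1)) : (Nat.card ↥(Subgroup.centralizer ({x} : Set ↥(Matrix.symplecticGroup (Fin m) F))) : ℤ) = (q : ℤ) ^ (m * (m - 1) / 2) * ∏ i : Fin m, ((q : ℤ) ^ ((i : ℕ) + 1) - (-1) ^ ((i : ℕ) + 1)) := by
  classical
  subst hF
  obtain ⟨p, hp⟩ := CharP.exists F
  haveI := hp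
  haveI : Fact p.Prime := ⟨CharP.char_is_prime F p⟩
  obtain ⟨a, ha, hFa⟩ := CfsgLib.PSpGraph.card_eq_pow F p
  have hp3 : 3 ≠ p := by
    rintro rfl
    have : 3 ∣ Fintype.card F := hFa ▸ dvd_pow_self 3 (by omega)
    omega
  haveI : Fact (Nat.Prime 3) := ⟨Nat.prime_three⟩
  obtain ⟨ζ, hζ'⟩ := exists_root_of_unity (F := F) p Nat.prime_three hp3
  have hζ : IsPrimitiveRoot ζ 3 := hζ' ▸ IsPrimitiveRoot.orderOf ζ
  have hno : ∀ r : F, r ^ 2 + 1 * r + 1 ≠ 0 := by
    intro r h
    have h3 : r ^ 3 = 1 := by linear_combination (r - 1) * h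
    have hr0 : r ≠ 0 := fun h0 => by rw [h0] at h; simp at h
    have hne : Units.mk0 r hr0 ≠ 1 := fun e => by
      have e1 : r = 1 := congrArg Units.val e
      have : ((3 : ℕ) : F) = 0 := by push_cast; rw [e1] at h; linear_combination h
      exact hp3 ((Nat.prime_dvd_prime_iff_eq Fact.out Nat.prime_three).1 ((CharP.cast_eq_zero_iff F p 3).1 this)).symm
    have ho : orderOf (Units.mk0 r hr0) = 3 := orderOf_eq_prime (Units.ext (by simpa using h3)) hne
    have := orderOf_dvd_card (x := Units.mk0 r hr0)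
    rw [ho, Fintype.card_units] at this
    omega
  let K := GaloisField p (2 * a)
  haveI : Fintype K := Fintype.ofFinite K
  have hK : Fintype.card K = Fintype.card F ^ 2 := by
    rw [← Nat.card_eq_fintype_card, GaloisField.card p (2 * a) (by omega), hFa, ← pow_mul, mul_comm]
  obtain ⟨i₁, w, hw, -⟩ := exists_embedding_root (K := K) hK rfl 1 1 hno
  rw [map_one, one_mul] at hw
  have hw3 : w ^ 3 = 1 := by linear_combination (w - 1) * hw
  have hwU : IsUnit w := IsUnit.mk0 w fun h0 => by rw [h0] at hw; simp at hw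
  obtain ⟨i, T, hT⟩ := exists_symp_coords (K := K) (F := F) hK rfl m
  letI := i.toAlgebra
  have hwni : ∀ r : F, i r ≠ w := fun r h => hno r (i.injective (by
    rw [← h] at hw
    rw [map_zero, one_mul, map_add, map_add, map_pow, map_one]
    exact hw))
  have hsm : ∀ (r : F) (z : K), r • z = i r * z := fun r z => Algebra.smul_def r z
  have hspan : ∀ z : K, ∃ b c : F, z = i b + i c * w := by
    have hinj : Function.Injective fun x : F × F => i x.1 + i x.2 * w := fun x y h => by
      simp only at h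
      by_cases hc : x.2 = y.2
      · rw [hc] at h
        exact Prod.ext (i.injective (add_right_cancel h)) hc
      · exfalso
        refine hwni ((x.1 - y.1) / (y.2 - x.2)) ?_
        have h2 : i y.2 - i x.2 ≠ 0 := sub_ne_zero.2 (fun e => hc (i.injective e).symm)
        rw [map_div₀, map_sub, map_sub, div_eq_iff h2]
        linear_combination h
    have hb := (Fintype.bijective_iff_injective_and_card _).2 ⟨hinj, by rw [Fintype.card_prod, hK, sq]⟩
    exact fun z => let ⟨x, hx⟩ := hb.2 z; ⟨x.1, x.2, hx.symm⟩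
  let B : (Fin m → K) → (Fin m → K) → F := fun u v => T u ⬝ᵥ (J (Fin m) F *ᵥ T v)
  let U := Cfsg.GU m K (Fintype.card F)
  let φ₀ : ↥U →* Matrix (Fin m ⊕ Fin m) (Fin m ⊕ Fin m) F :=
    (restrictMat T).comp ((Units.coeHom _).comp U.subtype)
  have hφ : ∀ (g : ↥U) v, φ₀ g *ᵥ T v = T (g.1.1 *ᵥ v) := fun g v => restrictMat_mulVec T _ v
  have hmem : ∀ g, φ₀ g ∈ Matrix.symplecticGroup (Fin m) F := by
    intro g
    rw [SymplecticGroup.mem_iff']
    ext k l
    obtain ⟨u, hu⟩ := T.surjective (Pi.single k (1 : F))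
    obtain ⟨v, hv⟩ := T.surjective (Pi.single l (1 : F))
    have := hT (g.1.1 *ᵥ u) (g.1.1 *ᵥ v) u v (g.2 u v)
    rw [← hφ, ← hφ, hu, hv, mulVec_single_one, mulVec_single_one,
      mulVec_single_one, single_one_dotProduct] at this
    rw [Matrix.mul_assoc]
    exact this
  let φ : ↥U →* Matrix.symplecticGroup (Fin m) F := φ₀.codRestrict _ hmem
  have hφinj : Function.Injective φ := fun g h e =>
    Subtype.ext (Units.ext (restrictMat_injective T (congrArg Subtype.val e)))
  have hwq : hwU.unit ^ (Fintype.card F + 1) = 1 := by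
    obtain ⟨c, hc⟩ : 3 ∣ Fintype.card F + 1 := by omega
    rw [hc, pow_mul, show hwU.unit ^ 3 = 1 from Units.ext (by simpa using hw3), one_pow]
  let W : ↥U := ⟨CfsgLib.UnitaryBasic.dgl fun _ => hwU.unit, CfsgLib.UnitaryBasic.dgl_mem _ fun _ => hwq⟩
  have hW : ∀ v : Fin m → K, W.1.1 *ᵥ v = w • v := fun v => by
    show Matrix.diagonal (fun _ => ((hwU.unit : Kˣ) : K)) *ᵥ v = _
    funext k
    rw [Matrix.mulVec_diagonal, IsUnit.unit_spec, Pi.smul_apply, smul_eq_mul]
  set y := φ W with hy
  have hy3 : y ^ 3 = 1 := by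
    rw [hy, ← map_pow, show W ^ 3 = 1 from Subtype.ext (Units.ext (Matrix.ext_of_mulVec_single fun k => by
      rw [SubmonoidClass.coe_pow, pow_three, Units.val_mul, Units.val_mul, ← mulVec_mulVec, ← mulVec_mulVec,
        hW, hW, hW, smul_smul, smul_smul, show w * w * w = 1 by linear_combination hw3, one_smul]
      exact (one_mulVec _).symm)), map_one]
  have hyu : IsUnit (y.1 - 1) := by
    rw [← Matrix.mulVec_injective_iff_isUnit]
    intro z z' h
    obtain ⟨v, rfl⟩ := T.surjective z
    obtain ⟨v', rfl⟩ := T.surjective z'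
    simp only [Matrix.sub_mulVec, Matrix.one_mulVec] at h
    change φ₀ W *ᵥ T v - T v = φ₀ W *ᵥ T v' - T v' at h
    rw [hφ, hφ, hW, hW, ← map_sub, ← map_sub] at h
    have h1 := T.injective h
    refine congrArg T ?_
    have hw1 : w - 1 ≠ 0 := sub_ne_zero.2 fun e => by
      have := hwni 1
      rw [map_one] at this
      exact this e.symm
    funext k
    have := congrFun h1 k
    simp only [Pi.sub_apply, Pi.smul_apply, smul_eq_mul] at this
    exact mul_left_cancel₀ hw1 (by linear_combination this)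
  have hcard : Nat.card ↥(Subgroup.centralizer ({y} : Set ↥(Matrix.symplecticGroup (Fin m) F))) = Nat.card ↥U := by
    refine (Nat.card_eq_of_bijective (fun g : ↥U => (⟨φ g, Subgroup.mem_centralizer_singleton_iff.2 ?_⟩ :
      ↥(Subgroup.centralizer ({y} : Set ↥(Matrix.symplecticGroup (Fin m) F))))) ⟨?_, ?_⟩).symm
    · rw [hy, ← map_mul, ← map_mul]
      refine congrArg φ (Subtype.ext (Units.ext (Matrix.ext_of_mulVec_single fun k => ?_)))
      rw [Subgroup.coe_mul, Subgroup.coe_mul, Units.val_mul, Units.val_mul, ← mulVec_mulVec, ← mulVec_mulVec,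
        hW, hW, Matrix.mulVec_smul]
    · exact fun g h e => hφinj (congrArg Subtype.val e)
    · rintro ⟨s, hs⟩
      rw [Subgroup.mem_centralizer_singleton_iff] at hs
      have hsy : s.1 * φ₀ W = φ₀ W * s.1 := congrArg Subtype.val hs
      let L : (Fin m → K) →ₗ[F] (Fin m → K) :=
        T.symm.toLinearMap.comp ((Matrix.mulVecLin s.1).comp T.toLinearMap)
      have hL : ∀ v, T (L v) = s.1 *ᵥ T v := fun v => T.apply_symm_apply _
      have hLw : ∀ v, L (w • v) = w • L v := fun v => T.injective (by
        rw [hL, ← hW v, ← hφ, mulVec_mulVec, hsy, ← mulVec_mulVec, ← hL, hφ, hW])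
      have hLz : ∀ (z : K) v, L (z • v) = z • L v := fun z v => by
        obtain ⟨b, c, rfl⟩ := hspan z
        have e : ∀ u : Fin m → K, (i b + i c * w) • u = b • u + c • (w • u) := fun u => by
          funext k
          simp only [Pi.add_apply, Pi.smul_apply, smul_eq_mul, hsm]
          ring
        rw [e, e, map_add, map_smul, map_smul, hLw]
      let LK : (Fin m → K) →ₗ[K] (Fin m → K) :=
        { toFun := L, map_add' := map_add L, map_smul' := hLz }
      set A := LinearMap.toMatrix' LK with hA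
      have hAv : ∀ v, A *ᵥ v = L v := fun v => by rw [hA, LinearMap.toMatrix'_mulVec]; rfl
      have hsinj : Function.Injective s.1.mulVec :=
        Matrix.mulVec_injective_iff_isUnit.2 (IsUnit.of_mul_eq_one (s⁻¹).1 (congrArg Subtype.val (mul_inv_cancel s)))
      have hAu : IsUnit A := Matrix.mulVec_injective_iff_isUnit.1 fun u v h => by
        simp only [hAv] at h
        exact T.injective (hsinj (by rw [← hL, ← hL, h]))
      have hsB : ∀ u v, B (L u) (L v) = B u v := fun u v => by
        show T (L u) ⬝ᵥ (J (Fin m) F *ᵥ T (L v)) = _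
        rw [hL, hL, Matrix.dotProduct_mulVec, Matrix.vecMul_mulVec, ← Matrix.dotProduct_mulVec, mulVec_mulVec,
          SymplecticGroup.mem_iff'.1 s.2]
      let e₀ : Fin m → K := Pi.single ⟨0, hm⟩ 1
      let lam : K → F := fun z => B (z • e₀) e₀
      have hlamB : ∀ u v, B u v = lam (Cfsg.hermForm m K (Fintype.card F) u v) := fun u v =>
        hT u v _ _ (by
          rw [CfsgLib.UnitaryOrder.herm_single_right hK]
          simp [e₀])
      have hlamlin : ∀ (b c : F) (z z' : K), lam (i b * z + i c * z') = b * lam z + c * lam z' := by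
        intro b c z z'
        show T ((i b * z + i c * z') • e₀) ⬝ᵥ _ = _
        rw [show (i b * z + i c * z') • e₀ = b • (z • e₀) + c • (z' • e₀) by
          funext k; simp only [Pi.add_apply, Pi.smul_apply, smul_eq_mul, hsm]; ring,
          map_add, map_smul T b, map_smul T c, add_dotProduct, smul_dotProduct, smul_dotProduct]
        rfl
      have hh : ∀ u v, Cfsg.hermForm m K (Fintype.card F) (A *ᵥ u) (A *ᵥ v) = Cfsg.hermForm m K (Fintype.card F) u v := by
        intro u v
        rw [hAv, hAv]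
        set h1 := Cfsg.hermForm m K (Fintype.card F) (L u) (L v)
        set h0 := Cfsg.hermForm m K (Fintype.card F) u v
        have hwl : ∀ u' v' : Fin m → K, Cfsg.hermForm m K (Fintype.card F) (w • u') v' =
            w * Cfsg.hermForm m K (Fintype.card F) u' v' := fun u' v' => by
          simp only [Cfsg.hermForm, Pi.smul_apply, smul_eq_mul, mul_assoc]
          rw [Finset.mul_sum]
        have e1 : lam h1 = lam h0 := by rw [← hlamB, ← hlamB]; exact hsB u v
        have e2 : lam (w * h1) = lam (w * h0) := by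
          rw [← hwl, ← hwl, ← hlamB, ← hlamB, ← hLw]; exact hsB _ _
        by_contra hne
        have hd : h1 - h0 ≠ 0 := sub_ne_zero.2 hne
        have d1 : lam (h1 - h0) = 0 := by
          have := hlamlin 1 (-1) h1 h0
          rw [map_one, map_neg, map_one] at this
          rw [show h1 - h0 = 1 * h1 + -1 * h0 by ring, this, e1]; ring
        have d2 : lam (w * (h1 - h0)) = 0 := by
          have := hlamlin 1 (-1) (w * h1) (w * h0)
          rw [map_one, map_neg, map_one] at this
          rw [show w * (h1 - h0) = 1 * (w * h1) + -1 * (w * h0) by ring, this, e2]; ring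
        have hzero : ∀ z, lam z = 0 := fun z => by
          obtain ⟨b, c, hbc⟩ := hspan (z / (h1 - h0))
          rw [div_eq_iff hd] at hbc
          rw [hbc, show (i b + i c * w) * (h1 - h0) = i b * (h1 - h0) + i c * (w * (h1 - h0)) by ring, hlamlin,
            d1, d2, mul_zero, mul_zero, add_zero]
        obtain ⟨u₁, hu₁⟩ := T.surjective (Pi.single (Sum.inl (⟨0, hm⟩ : Fin m)) (1 : F))
        obtain ⟨v₁, hv₁⟩ := T.surjective (Pi.single (Sum.inr (⟨0, hm⟩ : Fin m)) (1 : F))
        have := hlamB u₁ v₁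
        rw [hzero] at this
        change T u₁ ⬝ᵥ (J (Fin m) F *ᵥ T v₁) = 0 at this
        rw [hu₁, hv₁, mulVec_single_one, single_one_dotProduct] at this
        simp [Matrix.J] at this
      refine ⟨⟨hAu.unit, fun u v => hh u v⟩, Subtype.ext (Subtype.ext (Matrix.ext_of_mulVec_single fun k => ?_))⟩
      obtain ⟨v, hv⟩ := T.surjective (Pi.single k (1 : F))
      rw [← hv]
      show φ₀ _ *ᵥ T v = s.1 *ᵥ T v
      rw [hφ, ← hL]
      exact congrArg T (hAv v)
  have hroots : ∀ g : Matrix.symplecticGroup (Fin m) F, g ^ 3 = 1 → IsUnit (g.1 - 1) →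
      spRoots g = Multiset.replicate m ζ + Multiset.replicate m ζ⁻¹ := fun g h h' => spRoots_fpf p hζ g h h'
  have hco : ∀ g : Matrix.symplecticGroup (Fin m) F, g ^ 3 = 1 → (orderOf g).Coprime p := fun g h =>
    Nat.Coprime.coprime_dvd_left (orderOf_dvd_of_pow_eq_one h) ((Nat.coprime_primes Nat.prime_three Fact.out).2 hp3)
  have hconj : IsConj y x := by
    refine CfsgLib.SemisimpleIso.symp_isConj_of_charpoly (hco y hy3) (hco x hx3) ?_
    apply Polynomial.map_injective _ (algebraMap F (AlgebraicClosure F)).injective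
    rw [← Matrix.charpoly_map, ← Matrix.charpoly_map,
      (IsAlgClosed.splits (y.1.map (algebraMap F (AlgebraicClosure F))).charpoly).eq_prod_roots_of_monic (Matrix.charpoly_monic _),
      (IsAlgClosed.splits (x.1.map (algebraMap F (AlgebraicClosure F))).charpoly).eq_prod_roots_of_monic (Matrix.charpoly_monic _)]
    exact congrArg (fun s : Multiset (AlgebraicClosure F) => (s.map fun t => Polynomial.X - Polynomial.C t).prod)
      ((hroots y hy3 hyu).trans (hroots x hx3 hfpf).symm)
  obtain ⟨k, hk⟩ := _root_.isConj_iff.1 hconj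
  have hcx : Nat.card ↥(Subgroup.centralizer ({x} : Set ↥(Matrix.symplecticGroup (Fin m) F))) =
      Nat.card ↥(Subgroup.centralizer ({y} : Set ↥(Matrix.symplecticGroup (Fin m) F))) :=
    (Nat.card_congr ((MulAut.conj k).toEquiv.subtypeEquiv fun g => by
      rw [Subgroup.mem_centralizer_singleton_iff, Subgroup.mem_centralizer_singleton_iff,
        MulEquiv.toEquiv_eq_coe, EquivLike.coe_coe, ← hk, ← MulAut.conj_apply k y, ← map_mul, ← map_mul]
      exact (MulAut.conj k).injective.eq_iff.symm)).symm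
  rw [hcx, hcard, CfsgLib.UnitaryOrder.card_GU hK m, Nat.cast_mul, Nat.cast_pow, Nat.cast_prod,
    ← Fin.prod_univ_eq_prod_range]
  congr 1
  refine Finset.prod_congr rfl fun j _ => ?_
  rcases Nat.even_or_odd (j : ℕ) with hj | hj
  · rw [if_pos hj, Odd.neg_one_pow hj.add_one]
    push_cast; ring
  · rw [if_neg (Nat.not_even_iff_odd.2 hj), Even.neg_one_pow hj.add_one,
      Nat.cast_sub (Nat.one_le_pow _ _ Fintype.card_pos)]
    push_cast; ring

end Cfsg.Agent.S2637
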