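import Cfsg.Statements.S2640
import Cfsg.Agent.Lib.FiniteForms.UnitaryEmbed
-- import your own Cfsg.Agent.* helpers here

set_option autoImplicit false
open Cfsg

namespace Cfsg.Agent.S2640

/-- For m even, the unitary group GU_m(q) (over the field with q² elements) embeds in the orthogonal group O⁺_2m(q) of the hyperbolic form Σ x_i y_i over the field with q elements (there is an injective homomorphism). -/
theorem result {K F : Type*} [Field K] [Fintype K] [Field F] [Fintype F] {q : ℕ} (hK : Fintype.card K = q ^ 2) (hF : Fintype.card F = q) (m : ℕ) (hm : Even m) : ∃ φ : ↥(Cfsg.GU m K q) →* ↥(Cfsg.isometryGroup F (Cfsg.quadFormPlus m F)), Function.Injective φ := by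
  obtain ⟨k, rfl⟩ := hm
  obtain ⟨i, -⟩ := CfsgLib.FiniteForms.exists_embedding (K := K) hK hF
  letI := i.toAlgebra
  obtain ⟨Φ, hΦ⟩ := CfsgLib.FiniteForms.exists_pair_coords hK hF i
  let e : Fin (k + k) ≃ Fin k ⊕ Fin k := finSumFinEquiv.symm
  let P : (Fin (k + k) → K) → Fin k → (Fin 2 → F) × (Fin 2 → F) :=
    fun v j => Φ (v (e.symm (.inl j)), v (e.symm (.inr j)))
  let f : (Fin (k + k) → K) →ₗ[F] (Fin (k + k) ⊕ Fin (k + k) → F) :=
    { toFun := fun v => Sum.elim
        (fun n => Sum.elim (fun j => (P v j).1 0) (fun j => (P v j).1 1) (e n))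
        (fun n => Sum.elim (fun j => (P v j).2 0) (fun j => (P v j).2 1) (e n))
      map_add' := fun u v => by
        funext n
        rcases n with n | n <;> rcases h : e n with j | j <;>
          simp [h, P, ← Prod.mk_add_mk, map_add]
      map_smul' := fun r v => by
        funext n
        rcases n with n | n <;> rcases h : e n with j | j <;>
          simp [h, P, ← Prod.smul_mk, map_smul] }
  have hbij : Function.Bijective f := by
    rw [Fintype.bijective_iff_injective_and_card]
    refine ⟨fun u v huv => ?_, by
      simp only [Fintype.card_fun, Fintype.card_sum, Fintype.card_fin, hK, hF]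
      rw [← pow_mul]; congr 1; omega⟩
    have hP : ∀ j, P u j = P v j := fun j => by
      have h0 := congrFun huv (.inl (e.symm (.inl j)))
      have h1 := congrFun huv (.inl (e.symm (.inr j)))
      have h2 := congrFun huv (.inr (e.symm (.inl j)))
      have h3 := congrFun huv (.inr (e.symm (.inr j)))
      simp [f] at h0 h1 h2 h3
      refine Prod.ext (funext fun l => ?_) (funext fun l => ?_) <;> fin_cases l <;> assumption
    funext n
    obtain ⟨s, rfl⟩ := e.symm.surjective n
    rcases s with j | j
    · exact congrArg Prod.fst (Φ.injective (hP j))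
    · exact congrArg Prod.snd (Φ.injective (hP j))
  have key : ∀ v, i (Cfsg.quadFormPlus (k + k) F (f v)) = Cfsg.hermForm (k + k) K q v v := by
    intro v
    rw [Cfsg.quadFormPlus, Cfsg.hermForm, map_sum, ← e.symm.sum_comp, Fintype.sum_sum_type,
      ← e.symm.sum_comp (g := fun n => v n * v n ^ q), Fintype.sum_sum_type,
      ← Finset.sum_add_distrib, ← Finset.sum_add_distrib]
    refine Finset.sum_congr rfl fun j _ => ?_
    have hz := hΦ (v (e.symm (.inl j)), v (e.symm (.inr j)))
    simp only at hz
    rw [← hz, map_add i, map_mul i, map_mul i, map_mul i, map_mul i]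
    simp [f, P]
  refine CfsgLib.FiniteForms.exists_hom_isometry
    ((Units.coeHom (Matrix (Fin (k + k)) (Fin (k + k)) K)).comp (Cfsg.GU (k + k) K q).subtype)
    (Units.val_injective.comp Subtype.val_injective) (LinearEquiv.ofBijective f hbij) _
    fun g v => i.injective ?_
  simp only [LinearEquiv.ofBijective_apply]
  rw [key, key]
  exact g.2 v v

end Cfsg.Agent.S2640
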