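import Cfsg.Statements.S2641
import Cfsg.Agent.Lib.FiniteForms.UnitaryEmbed
-- import your own Cfsg.Agent.* helpers here

set_option autoImplicit false
open Cfsg

namespace Cfsg.Agent.S2641

/-- For m odd, the unitary group GU_m(q) (over the field with q² elements) embeds in the orthogonal group O⁻_2m(q) of an elliptic form (Σ_(i<m−1) x_i y_i plus an anisotropic binary form) over the field with q elements (there is an injective homomorphism). -/
theorem result {K F : Type*} [Field K] [Fintype K] [Field F] [Fintype F] {q : ℕ} (hK : Fintype.card K = q ^ 2) (hF : Fintype.card F = q) (m : ℕ) (hm : Odd m) (a b : F) (hab : ∀ z₁ z₂ : F, z₁ ^ 2 + a * z₁ * z₂ + b * z₂ ^ 2 = 0 → z₁ = 0 ∧ z₂ = 0) : ∃ φ : ↥(Cfsg.GU m K q) →* ↥(Cfsg.isometryGroup F (Cfsg.quadFormMinus (m - 1) F a b)), Function.Injective φ := by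
  obtain ⟨k, rfl⟩ := hm
  obtain ⟨i, w, hw, hwi⟩ := CfsgLib.FiniteForms.exists_embedding_root (K := K) hK hF (-a) b
    (fun r hr => by
      have := (hab (-r) 1 (by linear_combination hr)).2
      exact one_ne_zero this)
  letI := i.toAlgebra
  obtain ⟨σ, hord, hσ, hfix⟩ := CfsgLib.FiniteForms.quadratic_data hK hF i
  obtain ⟨c, hc⟩ := CfsgLib.FiniteForms.exists_coords hK hF (w := w) hwi
  obtain ⟨Φ, hΦ⟩ := CfsgLib.FiniteForms.exists_pair_coords hK hF i
  have hne : σ w ≠ w := fun h => hwi ((hfix w).mp h)
  have hfi : ∀ r : F, σ (i r) = i r := fun r => (hfix _).mpr ⟨r, rfl⟩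
  have hw2 : (σ w) ^ 2 + i (-a) * σ w + i b = 0 := by
    have := congrArg σ hw
    rwa [map_add, map_add, map_pow, map_mul, hfi, hfi, map_zero] at this
  rw [map_neg] at hw hw2
  have hsum : w + σ w = i a := by
    refine mul_left_cancel₀ (sub_ne_zero.mpr (Ne.symm hne)) ?_
    linear_combination hw - hw2
  have hprod : w * σ w = i b := by linear_combination w * hsum - hw
  let e : Fin (2 * k + 1) ≃ (Fin k ⊕ Fin k) ⊕ Fin 1 :=
    ((finCongr (show 2 * k + 1 = k + k + 1 by omega)).trans finSumFinEquiv.symm).trans
      (Equiv.sumCongr finSumFinEquiv.symm (Equiv.refl _))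
  let e' : Fin (2 * k + 1 - 1) ≃ Fin k ⊕ Fin k :=
    (finCongr (show 2 * k + 1 - 1 = k + k by omega)).trans finSumFinEquiv.symm
  let P : (Fin (2 * k + 1) → K) → Fin k → (Fin 2 → F) × (Fin 2 → F) :=
    fun v j => Φ (v (e.symm (.inl (.inl j))), v (e.symm (.inl (.inr j))))
  let f : (Fin (2 * k + 1) → K) →ₗ[F]
      ((Fin (2 * k + 1 - 1) ⊕ Fin (2 * k + 1 - 1)) ⊕ Fin 2 → F) :=
    { toFun := fun v => Sum.elim (Sum.elim
        (fun n => Sum.elim (fun j => (P v j).1 0) (fun j => (P v j).1 1) (e' n))
        (fun n => Sum.elim (fun j => (P v j).2 0) (fun j => (P v j).2 1) (e' n)))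
        (c (v (e.symm (.inr 0))))
      map_add' := fun u v => by
        funext n
        rcases n with (n | n) | n
        · rcases h : e' n with j | j <;> simp [h, P, ← Prod.mk_add_mk, map_add]
        · rcases h : e' n with j | j <;> simp [h, P, ← Prod.mk_add_mk, map_add]
        · simp
      map_smul' := fun r v => by
        funext n
        rcases n with (n | n) | n
        · rcases h : e' n with j | j <;> simp [h, P, ← Prod.smul_mk, map_smul]
        · rcases h : e' n with j | j <;> simp [h, P, ← Prod.smul_mk, map_smul]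
        · simp }
  have hbij : Function.Bijective f := by
    rw [Fintype.bijective_iff_injective_and_card]
    refine ⟨fun u v huv => ?_, by
      simp only [Fintype.card_fun, Fintype.card_sum, Fintype.card_fin, hK, hF]
      rw [← pow_mul]; congr 1; omega⟩
    have hP : ∀ j, P u j = P v j := fun j => by
      have h0 := congrFun huv (.inl (.inl (e'.symm (.inl j))))
      have h1 := congrFun huv (.inl (.inl (e'.symm (.inr j))))
      have h2 := congrFun huv (.inl (.inr (e'.symm (.inl j))))
      have h3 := congrFun huv (.inl (.inr (e'.symm (.inr j))))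
      simp [f] at h0 h1 h2 h3
      refine Prod.ext (funext fun l => ?_) (funext fun l => ?_) <;> fin_cases l <;> assumption
    have hE : u (e.symm (.inr 0)) = v (e.symm (.inr 0)) :=
      c.injective (funext fun l => congrFun huv (.inr l))
    funext n
    obtain ⟨s, rfl⟩ := e.symm.surjective n
    rcases s with (j | j) | j
    · exact congrArg Prod.fst (Φ.injective (hP j))
    · exact congrArg Prod.snd (Φ.injective (hP j))
    · rw [Subsingleton.elim j 0]; exact hE
  have key : ∀ v, i (Cfsg.quadFormMinus (2 * k + 1 - 1) F a b (f v)) =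
      Cfsg.hermForm (2 * k + 1) K q v v := by
    intro v
    rw [Cfsg.quadFormMinus, Cfsg.hermForm, map_add i, map_sum, ← e'.symm.sum_comp,
      Fintype.sum_sum_type, ← e.symm.sum_comp (g := fun n => v n * v n ^ q), Fintype.sum_sum_type,
      Fintype.sum_sum_type, ← Finset.sum_add_distrib, ← Finset.sum_add_distrib, Fin.sum_univ_one]
    congr 1
    · refine Finset.sum_congr rfl fun j _ => ?_
      have hz := hΦ (v (e.symm (.inl (.inl j))), v (e.symm (.inl (.inr j))))
      simp only at hz
      rw [← hz, map_add i, map_mul i, map_mul i, map_mul i, map_mul i]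
      simp [f, P]
    · set x := v (e.symm (.inr 0))
      show i (c x 0 ^ 2 + a * c x 0 * c x 1 + b * c x 1 ^ 2) = x * x ^ q
      have hx : x = i (c x 0) + i (c x 1) * w := hc x
      conv_rhs => rw [← hσ, hx, map_add σ, map_mul σ, hfi, hfi]
      simp only [map_add, map_mul, map_pow]
      linear_combination -(i (c x 0) * i (c x 1)) * hsum - (i (c x 1) ^ 2) * hprod
  refine CfsgLib.FiniteForms.exists_hom_isometry
    ((Units.coeHom (Matrix (Fin (2 * k + 1)) (Fin (2 * k + 1)) K)).comp
      (Cfsg.GU (2 * k + 1) K q).subtype)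
    (Units.val_injective.comp Subtype.val_injective) (LinearEquiv.ofBijective f hbij) _
    fun g v => i.injective ?_
  simp only [LinearEquiv.ofBijective_apply]
  rw [key, key]
  exact g.2 v v

end Cfsg.Agent.S2641
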