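import Cfsg.Statements.S2642
import Cfsg.Agent.Lib.SemisimplePrimeClasses.Unitary
import Cfsg.Agent.Lib.GLClassNumber.OrderP
import Cfsg.Agent.Lib.UnitaryBasic
-- import your own Cfsg.Agent.* helpers here

set_option autoImplicit false
open Cfsg

namespace Cfsg.Agent.S2642

open CfsgLib.GLClassNumber Polynomial

universe uu

theorem kerCard_rho {F : Type uu} [Field F] [Fintype F] {n : ℕ} (g : GL (Fin n) F) (j : ℕ) :
    Nat.card {v : Gmod g // (rho F) ^ j • v = 0} =
      Fintype.card F ^ (n - ((g.1 - 1) ^ j).rank) := by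
  have hk : Module.finrank F (LinearMap.ker (Matrix.mulVecLin ((g.1 - 1) ^ j))) = n - ((g.1 - 1) ^ j).rank := by
    have := LinearMap.finrank_range_add_finrank_ker (Matrix.mulVecLin ((g.1 - 1) ^ j))
    rw [Module.finrank_fin_fun] at this
    rw [Matrix.rank]
    omega
  rw [← hk, ← Nat.card_eq_fintype_card, ← Module.natCard_eq_pow_finrank]
  refine Nat.card_congr ((Module.AEval'.of (toEnd g)).symm.toEquiv.subtypeEquiv fun v => ?_)
  show (rho F) ^ j • v = 0 ↔ (Module.AEval'.of (toEnd g)).symm v ∈ LinearMap.ker _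
  rw [← (Module.AEval'.of (toEnd g)).symm.injective.eq_iff, Module.AEval.of_symm_smul, map_zero,
    LinearMap.mem_ker, map_pow, map_sub, aeval_X, aeval_C, map_one, toEnd,
    show Matrix.toLin' g.1 - 1 = Matrix.toLin' (g.1 - 1) by
      rw [map_sub, Matrix.toLin'_one]; rfl,
    ← Matrix.toLin'_pow, Matrix.toLin'_apply']
  rfl

theorem rank_twist {F : Type uu} [Field F] [Fintype F] {n : ℕ} (σ : F →+* F) (g : GL (Fin n) F) (j : ℕ) :
    (((CfsgLib.SemisimpleCount.twist σ g).1 - 1) ^ j).rank = ((g.1 - 1) ^ j).rank := by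
  have e1 : (CfsgLib.SemisimpleCount.twist σ g).1 - 1 = (σ.mapMatrix ((g⁻¹).1 - 1)).transpose := by
    rw [map_sub, map_one, Matrix.transpose_sub, Matrix.transpose_one]
    rfl
  have e2 : ((g⁻¹).1 - 1 : Matrix (Fin n) (Fin n) F) = (-1 : F) • ((g⁻¹).1 * (g.1 - 1)) := by
    rw [mul_sub, mul_one, Units.inv_mul, neg_one_smul, neg_sub]
  have hc : Commute (g⁻¹).1 (g.1 - 1) := by
    refine Commute.sub_right ?_ (Commute.one_right _)
    show (g⁻¹).1 * g.1 = g.1 * (g⁻¹).1
    rw [Units.inv_mul, Units.mul_inv]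
  rw [e1, ← Matrix.transpose_pow, ← map_pow, Matrix.rank_transpose, RingHom.mapMatrix_apply, e2, _root_.smul_pow, hc.mul_pow]
  set A := (g.1 - 1) ^ j with hA
  have hσ : Function.Bijective σ := Finite.injective_iff_bijective.1 σ.injective
  let e : F ≃+* F := RingEquiv.ofBijective σ hσ
  have hmap : ∀ M : Matrix (Fin n) (Fin n) F, (M.map σ).rank = M.rank := fun M => by
    rw [Matrix.rank, Matrix.rank]
    let L : (Fin n → F) → (Fin n → F) := fun v i => σ (v i)
    have h1 := Nat.card_congr (α := LinearMap.range M.mulVecLin) (β := LinearMap.range (M.map σ).mulVecLin)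
      { toFun := fun v => ⟨L v.1, by
          obtain ⟨w, hw⟩ := v.2
          refine ⟨L w, funext fun i => ?_⟩
          rw [← hw]
          simp [L, Matrix.mulVec, dotProduct]⟩
        invFun := fun v => ⟨fun i => e.symm (v.1 i), by
          obtain ⟨w, hw⟩ := v.2
          refine ⟨fun i => e.symm (w i), funext fun i => e.injective ?_⟩
          rw [e.apply_symm_apply, ← hw]
          simp [Matrix.mulVec, dotProduct]
          exact Finset.sum_congr rfl fun k _ => rfl⟩
        left_inv := fun v => Subtype.ext (funext fun i => e.symm_apply_apply _)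
        right_inv := fun v => Subtype.ext (funext fun i => e.apply_symm_apply _) }
    have h2 := Module.natCard_eq_pow_finrank (K := F) (V := LinearMap.range M.mulVecLin)
    have h3 := Module.natCard_eq_pow_finrank (K := F) (V := LinearMap.range (M.map σ).mulVecLin)
    rw [h2, h3] at h1
    rw [Nat.card_eq_fintype_card] at h1
    exact (Nat.pow_right_injective Fintype.one_lt_card h1).symm
  have hrs : ∀ M : Matrix (Fin n) (Fin n) F, ((-1 : F) ^ j • M).rank = M.rank := fun M => by
    rw [Matrix.smul_eq_diagonal_mul, Matrix.rank_mul_eq_right_of_isUnit_det _ _ (by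
      rw [Matrix.det_diagonal]
      exact IsUnit.mk0 _ (Finset.prod_ne_zero_iff.2 fun _ _ => pow_ne_zero _ (neg_ne_zero.2 one_ne_zero)))]
  rw [hmap, hrs, Matrix.rank_mul_eq_right_of_isUnit_det]
  exact (Matrix.isUnit_iff_isUnit_det _).1 ((g⁻¹).isUnit.pow j)

theorem isConj_twist {F : Type uu} [Field F] [Fintype F] {n : ℕ} (p : ℕ) [Fact p.Prime] [CharP F p]
    (σ : F →+* F) (g : GL (Fin n) F) (k : ℕ) (hg : g ^ p ^ k = 1) :
    IsConj g (CfsgLib.SemisimpleCount.twist σ g) := by
  classical
  obtain ⟨ι, _, e, he, hd⟩ := exists_unipotent_decomp p g hg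
  obtain ⟨κ, _, e', he', hd'⟩ := exists_unipotent_decomp p (CfsgLib.SemisimpleCount.twist σ g) (k := k)
    (by rw [← map_pow, hg, map_one])
  refine isConj_of_decomp hd hd' ?_
  have h1 : expMultiset e = expMultiset e' := by
    refine multiset_eq_of_min_sums (by simp [expMultiset]; exact he) (by simp [expMultiset]; exact he') fun j => ?_
    have h := card_ker_of_decomp hd j
    have h' := card_ker_of_decomp hd' j
    rw [kerCard_rho] at h h'
    rw [rank_twist] at h'
    have := Nat.pow_right_injective Fintype.one_lt_card (h.symm.trans h')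
    simpa [expMultiset, Multiset.map_map] using this
  have h2 := congrArg (Multiset.map fun a => (rho F, a)) h1
  simpa [expMultiset, Multiset.map_map] using h2

/-- Number of conjugacy classes of elements of order p in the general unitary group GU_n(q), q a power of p: every unipotent Jordan type occurs and the classes correspond to the partitions of n with all parts at most p other than the all-ones partition, exactly as in GL_n; so there are (number of partitions of n with parts ≤ p) − 1 classes. -/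
theorem result {K : Type*} [Field K] [Fintype K] {p q n : ℕ} [Fact p.Prime] [CharP K p] (hK : Fintype.card K = q ^ 2) : Nat.card {C : ConjClasses ↥(Cfsg.GU n K q) // ∃ g : ↥(Cfsg.GU n K q), ConjClasses.mk g = C ∧ orderOf g = p} = (Finset.univ.filter (fun μ : Nat.Partition n => ∀ a ∈ μ.parts, a ≤ p)).card - 1 := by
  classical
  obtain ⟨-, σ, hσ⟩ := CfsgLib.UnitaryBasic.frob_exists hK
  let U := Cfsg.GU n K q
  have hgl := card_order_p_classes (F := K) (n := n) p
  rw [← hgl]
  refine Nat.card_eq_of_bijective (fun C => ⟨ConjClasses.map U.subtype C.1, by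
    obtain ⟨g, hg, ho⟩ := C.2
    exact ⟨g.1, by rw [← hg]; rfl, by rw [Subgroup.orderOf_coe, ho]⟩⟩) ⟨?_, ?_⟩
  · rintro ⟨C, g, rfl, hg⟩ ⟨D, h, rfl, hh⟩ hCD
    have h1 : IsConj g.1 h.1 := ConjClasses.mk_eq_mk_iff_isConj.1 (congrArg Subtype.val hCD)
    exact Subtype.ext (ConjClasses.mk_eq_mk_iff_isConj.2 (CfsgLib.UnitaryConj.isConj_GU hK g h h1))
  · rintro ⟨C, g, rfl, hg⟩
    have hc := isConj_twist p σ g 1 (by rw [pow_one]; exact orderOf_dvd_iff_pow_eq_one.1 hg.dvd)
    obtain ⟨B, hB⟩ := (CfsgLib.UnitaryConj.similar_iff hK g).2 (by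
      rw [CfsgLib.SemisimplePrimeClasses.twist_eq hK hσ]
      exact MonoidHom.map_isConj (Units.coeHom (Matrix (Fin n) (Fin n) K)) hc)
    refine ⟨⟨ConjClasses.mk B, B, rfl, ?_⟩, Subtype.ext (ConjClasses.mk_eq_mk_iff_isConj.2 hB.symm)⟩
    obtain ⟨k, hk⟩ := _root_.isConj_iff.1 hB
    rw [← Subgroup.orderOf_coe, ← hk, ← hg]
    exact (MulAut.conj k).orderOf_eq g

end Cfsg.Agent.S2642
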