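import Cfsg.Statements.S2643
import Cfsg.Agent.S2642
import Cfsg.Agent.Lib.SemisimplePrimeClasses.Unitary
import Cfsg.Agent.Lib.SUClassNumber.Classes
import Cfsg.Agent.Lib.CyclicVector
import Cfsg.Agent.Lib.UnitaryOrder
-- import your own Cfsg.Agent.* helpers here

set_option autoImplicit false
open Cfsg

namespace Cfsg.Agent.S2643

open CfsgLib.CyclicVector Matrix
set_option maxHeartbeats 1000000

universe uu

variable {F : Type uu} [Field F]

/-- Any two regular unipotent matrices are conjugate. -/
theorem isConj_regular {n : ℕ} (hn : 1 ≤ n) (g h : GL (Fin n) F) (hg : (g.1 - 1) ^ n = 0)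
    (hgr : (g.1 - 1).rank = n - 1) (hh : (h.1 - 1) ^ n = 0) (hhr : (h.1 - 1).rank = n - 1) : IsConj g h := by
  classical
  let S : Matrix (Fin n) (Fin n) F := Matrix.of fun i j => if (i : ℕ) = j + 1 then 1 else 0
  have key : ∀ x : GL (Fin n) F, (x.1 - 1) ^ n = 0 → (x.1 - 1).rank = n - 1 →
      ∃ P : GL (Fin n) F, x.1 * P.1 = P.1 * (1 + S) := by
    intro x hx hxr
    obtain ⟨v, hv⟩ := exists_top_vector hn hxr.ge
    let P : Matrix (Fin n) (Fin n) F := Matrix.of fun r j => ((x.1 - 1) ^ (j : ℕ) *ᵥ v) r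
    have hu : IsUnit P := Matrix.linearIndependent_cols_iff_isUnit.mp (linearIndependent_chain hx hv)
    refine ⟨hu.unit, ?_⟩
    have hS : (x.1 - 1) * P = P * S := by
      refine Matrix.ext fun r j => ?_
      have hl : ((x.1 - 1) * P) r j = ((x.1 - 1) ^ ((j : ℕ) + 1) *ᵥ v) r := by
        rw [pow_succ', ← mulVec_mulVec]; rfl
      rw [hl, Matrix.mul_apply]
      by_cases hj : (j : ℕ) + 1 < n
      · rw [Finset.sum_eq_single (⟨(j : ℕ) + 1, hj⟩ : Fin n)]
        · simp [P, S]
        · intro i _ hi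
          have : (i : ℕ) ≠ j + 1 := fun e => hi (Fin.ext e)
          simp [S, this]
        · simp
      · rw [pow_eq_zero_of_le (by omega) hx, zero_mulVec, Finset.sum_eq_zero fun i _ => ?_]
        · rfl
        · have : (i : ℕ) ≠ j + 1 := by omega
          simp [S, this]
    rw [IsUnit.unit_spec, Matrix.mul_add, Matrix.mul_one, ← hS, Matrix.sub_mul, Matrix.one_mul, add_sub_cancel]
  obtain ⟨P, hP⟩ := key g hg hgr
  obtain ⟨Q, hQ⟩ := key h hh hhr
  refine _root_.isConj_iff.mpr ⟨Q * P⁻¹, mul_inv_eq_iff_eq_mul.mpr (Units.ext ?_)⟩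
  show Q.1 * (P⁻¹).1 * g.1 = h.1 * (Q.1 * (P⁻¹).1)
  have h1 : (P⁻¹).1 * g.1 = (1 + S) * (P⁻¹).1 := by
    calc (P⁻¹).1 * g.1 = (P⁻¹).1 * (g.1 * P.1) * (P⁻¹).1 := by
          simp only [Matrix.mul_assoc, Units.mul_inv, Matrix.mul_one]
      _ = _ := by rw [hP, ← Matrix.mul_assoc (P⁻¹).1, Units.inv_mul, Matrix.one_mul]
  rw [Matrix.mul_assoc, h1, ← Matrix.mul_assoc, ← hQ, Matrix.mul_assoc]

/-- Unipotent elements have determinant one. -/
theorem det_eq_of_nilp {n : ℕ} (p : ℕ) [Fact p.Prime] [CharP F p] (hn : 1 ≤ n) (a : F)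
    (M : Matrix (Fin n) (Fin n) F) (hM : M ^ n = 0) : (a • 1 + M).det = a ^ n := by
  haveI : Nonempty (Fin n) := ⟨⟨0, hn⟩⟩
  have h1 : (a • 1 + M) ^ p ^ n = a ^ p ^ n • (1 : Matrix (Fin n) (Fin n) F) := by
    rw [add_pow_char_pow_of_commute p n ((Commute.one_left M).smul_left a),
      pow_eq_zero_of_le (Nat.lt_pow_self (Fact.out : p.Prime).one_lt).le hM, add_zero, _root_.smul_pow, one_pow]
  have h2 := congrArg Matrix.det h1
  rw [Matrix.det_pow, Matrix.det_smul, Matrix.det_one, mul_one, Fintype.card_fin, ← pow_mul, mul_comm, pow_mul] at h2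
  exact iterateFrobenius_inj F p n (by simpa [iterateFrobenius_def] using h2)

/-- Regular unipotent classes of SU_n(q), n ≥ 2: the elements u of the special unitary group (isometries of Σ u_i v_i^q of determinant one over the field with q² elements) with (u − 1)^n = 0 and rank(u − 1) = n − 1 form exactly gcd(n, q + 1) conjugacy classes of SU_n(q). -/
theorem result {K : Type*} [Field K] [Fintype K] {q n : ℕ} (hK : Fintype.card K = q ^ 2) (hn : 2 ≤ n) : Nat.card {C : ConjClasses ↥(Cfsg.SU n K q) // ∃ u : ↥(Cfsg.SU n K q), ConjClasses.mk u = C ∧ (((u : GL (Fin n) K) : Matrix (Fin n) (Fin n) K) - 1) ^ n = 0 ∧ (((u : GL (Fin n) K) : Matrix (Fin n) (Fin n) K) - 1).rank = n - 1} = Nat.gcd n (q + 1) := by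
    classical
    obtain ⟨hq, s, hs, hs2, hne⟩ := CfsgLib.SUClassNumber.frob_facts hK
    obtain ⟨p, hchar⟩ := CharP.exists K
    haveI : Fact p.Prime := ⟨CharP.char_is_prime K p⟩
    haveI : Nonempty (Fin n) := ⟨⟨0, by omega⟩⟩
    let U := Cfsg.GU n K q
    let R := (powMonoidHom (q - 1) : Kˣ →* Kˣ).range
    let toGL := CfsgLib.SUClassNumber.suToGL n K q
    let detR : U →* R := (Matrix.GeneralLinearGroup.det.comp U.subtype).codRestrict R
      fun g => CfsgLib.SUClassNumber.det_mem_range hK g.2
    have hRpow : ∀ a : Kˣ, a ∈ R → (a : K) ^ q * a = 1 := by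
      rintro a ⟨l, rfl⟩
      have h1 : l ^ ((q - 1) * (q + 1)) = 1 := by
        rw [show (q - 1) * (q + 1) = Fintype.card Kˣ by
          obtain ⟨r, rfl⟩ : ∃ r, q = r + 1 := ⟨q - 1, by omega⟩
          rw [Fintype.card_units, hK, Nat.add_sub_cancel,
            show (r + 1) ^ 2 = r * (r + 1 + 1) + 1 by ring, Nat.add_sub_cancel]]
        exact pow_card_eq_one
      rw [← pow_succ, powMonoidHom_apply, Units.val_pow_eq_pow_val, ← pow_mul, ← Units.val_pow_eq_pow_val, h1,
        Units.val_one]
    have hscal : ∀ c : R, ∃ z : U, detR z = c ^ n ∧ ∀ x : GL (Fin n) K, z.1 * x = x * z.1 := by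
      intro c
      let zM : GL (Fin n) K := Units.map (algebraMap K (Matrix (Fin n) (Fin n) K)).toMonoidHom c.1
      have hz : zM ∈ U := (CfsgLib.SUClassNumber.mem_GU_iff hs hs2 _).mpr (by
        show ((algebraMap K (Matrix (Fin n) (Fin n) K) (c.1 : K)).map s).transpose * algebraMap K _ (c.1 : K) = 1
        rw [Matrix.algebraMap_eq_diagonal, Matrix.diagonal_map (map_zero s), Matrix.diagonal_transpose,
          Matrix.diagonal_mul_diagonal]
        simp [hs, hRpow _ c.2])
      refine ⟨⟨zM, hz⟩, Subtype.ext (Units.ext ?_), fun x => Units.ext (Algebra.commutes (c.1 : K) x.1)⟩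
      show (algebraMap K (Matrix (Fin n) (Fin n) K) (c.1 : K)).det = _
      rw [Matrix.algebraMap_eq_diagonal, Matrix.det_diagonal]
      simp
    have hsurj : Function.Surjective detR := by
      intro c
      let i₀ : Fin n := ⟨0, by omega⟩
      let d : Fin n → K := Function.update (fun _ => 1) i₀ (c.1 : K)
      have hd : (Matrix.diagonal d).det = (c.1 : K) := by
        rw [Matrix.det_diagonal]; simp [d, Finset.prod_update_of_mem]
      let zM := Matrix.GeneralLinearGroup.mkOfDetNeZero (Matrix.diagonal d) (by rw [hd]; exact c.1.ne_zero)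
      have hz : zM ∈ U := (CfsgLib.SUClassNumber.mem_GU_iff hs hs2 _).mpr (by
        show ((Matrix.diagonal d).map s).transpose * Matrix.diagonal d = 1
        rw [Matrix.diagonal_map (map_zero s), Matrix.diagonal_transpose, Matrix.diagonal_mul_diagonal,
          ← Matrix.diagonal_one]
        congr 1
        funext i
        by_cases hi : i = i₀
        · subst hi; simp [d, hs, hRpow _ c.2]
        · simp [d, hi])
      exact ⟨⟨zM, hz⟩, Subtype.ext (Units.ext hd)⟩
    -- a regular unipotent element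
    obtain ⟨x₀, hx₀, hx₀r⟩ : ∃ x : ↥(Cfsg.SU n K q), ((toGL x).1 - 1) ^ n = 0 ∧ ((toGL x).1 - 1).rank = n - 1 := by
      obtain ⟨m, rfl⟩ : ∃ m, n = m + 1 := ⟨n - 1, by omega⟩
      set S : Matrix (Fin (m + 1)) (Fin (m + 1)) K := Matrix.of fun i j => if (i : ℕ) = j + 1 then 1 else 0 with hS
      have hpow : ∀ r (i j : Fin (m + 1)), (S ^ r) i j ≠ 0 → (i : ℕ) = j + r := by
        intro r
        induction r with
        | zero =>
          intro i j h
          rw [pow_zero, Matrix.one_apply] at h
          split_ifs at h with e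
          · rw [e]; rfl
          · exact absurd rfl h
        | succ r ih =>
          intro i j h
          rw [pow_succ, Matrix.mul_apply] at h
          obtain ⟨k, -, hk⟩ := Finset.exists_ne_zero_of_sum_ne_zero h
          obtain ⟨h1, h2⟩ := mul_ne_zero_iff.mp hk
          have := ih i k h1
          simp only [hS, Matrix.of_apply, ne_eq, ite_eq_right_iff, not_forall] at h2
          obtain ⟨e, -⟩ := h2
          omega
      have hnil : S ^ (m + 1) = 0 := Matrix.ext fun i j => by
        by_contra h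
        have := hpow _ i j h
        have := i.2
        omega
      have hdet : (1 + S).det = 1 := by
        have := det_eq_of_nilp p (by omega) (1 : K) S hnil
        simpa using this
      have hrank : S.rank = m := by
        refine le_antisymm ?_ ?_
        · by_contra hlt
          have h1 : S.rank = Fintype.card (Fin (m + 1)) :=
            le_antisymm (Matrix.rank_le_card_width S) (by simp; omega)
          have h2 : LinearMap.range S.mulVecLin = ⊤ := Submodule.eq_top_of_finrank_eq (by
            rw [Module.finrank_fintype_fun_eq_card]; exact h1)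
          obtain ⟨w, hw⟩ := (h2.symm ▸ Submodule.mem_top : Pi.single (0 : Fin (m + 1)) (1 : K) ∈ _)
          have := congrFun hw 0
          simp [Matrix.mulVec, dotProduct, hS] at this
        · have hmem : ∀ i : Fin m, Pi.single i.succ (1 : K) ∈ LinearMap.range S.mulVecLin := fun i => by
            refine ⟨Pi.single i.castSucc 1, funext fun r => ?_⟩
            rw [Matrix.mulVecLin_apply, Matrix.mulVec_single_one, Matrix.col_apply, hS, Matrix.of_apply, Pi.single_apply]
            simp [Fin.ext_iff]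
          have hli : LinearIndependent K fun i : Fin m => (⟨_, hmem i⟩ : LinearMap.range S.mulVecLin) := by
            refine LinearIndependent.of_comp (LinearMap.range S.mulVecLin).subtype ?_
            have := (Pi.basisFun K (Fin (m + 1))).linearIndependent.comp Fin.succ (Fin.succ_injective m)
            simpa [Function.comp_def] using this
          have := hli.fintype_card_le_finrank
          rwa [Fintype.card_fin] at this
      let J := Matrix.GeneralLinearGroup.mkOfDetNeZero (1 + S) (by rw [hdet]; exact one_ne_zero)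
      have hJp : J ^ p ^ (m + 1) = 1 := Units.ext (by
        rw [Units.val_pow_eq_pow_val]
        show (1 + S) ^ p ^ (m + 1) = 1
        rw [add_pow_char_pow_of_commute p (m + 1) (Commute.one_left S), one_pow,
          pow_eq_zero_of_le (Nat.lt_pow_self (Fact.out : p.Prime).one_lt).le hnil, add_zero])
      obtain ⟨B, hB⟩ := (CfsgLib.UnitaryConj.similar_iff hK J).2 (by
        rw [CfsgLib.SemisimplePrimeClasses.twist_eq hK hs]
        exact MonoidHom.map_isConj (Units.coeHom (Matrix (Fin (m + 1)) (Fin (m + 1)) K))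
          (Cfsg.Agent.S2642.isConj_twist p s J (m + 1) hJp))
      obtain ⟨c, hc⟩ := _root_.isConj_iff.mp hB
      have hBd : B.1.1.det = 1 := by
        rw [← hc]
        show ((c.1 * (1 + S)) * (c⁻¹).1).det = 1
        rw [Matrix.det_mul, Matrix.det_mul, hdet, mul_one, ← Matrix.det_mul, Units.mul_inv, Matrix.det_one]
      have hBS : B.1.1 - 1 = c.1 * S * (c⁻¹).1 := by
        rw [← hc]
        show c.1 * (1 + S) * (c⁻¹).1 - 1 = _
        rw [Matrix.mul_add, Matrix.add_mul, Matrix.mul_one, Units.mul_inv, add_sub_cancel_left]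
      refine ⟨⟨⟨B.1.1, hBd⟩, fun u v => B.2 u v⟩, ?_, ?_⟩
      · show (B.1.1 - 1) ^ (m + 1) = 0
        rw [hBS, Units.conj_pow, hnil, Matrix.mul_zero, Matrix.zero_mul]
      · show (B.1.1 - 1).rank = _
        rw [hBS, Matrix.rank_mul_eq_left_of_isUnit_det _ _ ((Matrix.isUnit_iff_isUnit_det _).mp c⁻¹.isUnit),
          Matrix.rank_mul_eq_right_of_isUnit_det _ _ ((Matrix.isUnit_iff_isUnit_det _).mp c.isUnit), hrank,
          Nat.add_sub_cancel]
    let y : U := ⟨toGL x₀, CfsgLib.SUClassNumber.suToGL_mem x₀⟩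
    set N := (toGL x₀).1 - 1 with hN
    obtain ⟨v, hv⟩ := exists_top_vector (show 1 ≤ n by omega) hx₀r.ge
    have hcyc := cyc_nilpotent hx₀ hv
    -- determinants of the centraliser
    have hcent : ∀ k : U, Commute k y → detR k ∈ (powMonoidHom n : R →* R).range := by
      intro k hk
      have hkN : Commute k.1.1 N := by
        have h1 : k.1.1 * (toGL x₀).1 = (toGL x₀).1 * k.1.1 := congrArg (fun g : U => g.1.1) hk.eq
        rw [hN]
        exact (show Commute k.1.1 (toGL x₀).1 from h1).sub_right (Commute.one_right _)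
      obtain ⟨P, hP⟩ := exists_poly_of_commute hcyc hkN
      set a := P.coeff 0 with ha
      set Q := Polynomial.aeval N P.divX with hQ
      have hNQ : Commute N Q := commute_aeval N (Commute.refl N) _
      have hk' : k.1.1 = a • 1 + N * Q := by
        conv_lhs => rw [hP, ← Polynomial.X_mul_divX_add P]
        rw [map_add, map_mul, Polynomial.aeval_X, Polynomial.aeval_C, Algebra.algebraMap_eq_smul_one, add_comm]
      set e := N ^ (n - 1) *ᵥ v with he
      have hNe : N *ᵥ e = 0 := by
        rw [he, mulVec_mulVec, ← pow_succ', Nat.sub_add_cancel (by omega), hx₀, zero_mulVec]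
      have hherm : ∀ u w : Fin n → K, Cfsg.hermForm n K q u w = ∑ i, u i * s (w i) := fun u w => by
        simp [Cfsg.hermForm, hs]
      have hadd : ∀ u w w' : Fin n → K,
          Cfsg.hermForm n K q u (w + w') = Cfsg.hermForm n K q u w + Cfsg.hermForm n K q u w' := fun u w w' => by
        simp [hherm, mul_add, Finset.sum_add_distrib]
      have hsmr : ∀ (c : K) (u w : Fin n → K),
          Cfsg.hermForm n K q u (c • w) = s c * Cfsg.hermForm n K q u w := fun c u w => by
        simp [hherm, Finset.mul_sum, mul_left_comm]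
      have hsml : ∀ (c : K) (u w : Fin n → K),
          Cfsg.hermForm n K q (c • u) w = c * Cfsg.hermForm n K q u w := fun c u w => by
        simp [hherm, Finset.mul_sum, mul_assoc]
      have hperp : ∀ w, Cfsg.hermForm n K q e (N *ᵥ w) = 0 := fun w => by
        have h1 : Cfsg.hermForm n K q ((toGL x₀).1 *ᵥ e) ((toGL x₀).1 *ᵥ w) = Cfsg.hermForm n K q e w :=
          CfsgLib.SUClassNumber.suToGL_mem x₀ e w
        rw [show (toGL x₀).1 = 1 + N by rw [hN, add_sub_cancel], add_mulVec, add_mulVec, one_mulVec, one_mulVec, hNe,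
          add_zero, hadd, add_eq_left] at h1
        exact h1
      have hev : Cfsg.hermForm n K q e v ≠ 0 := fun h0 => hv (funext fun i => by
        obtain ⟨P', hP'⟩ := hcyc (Pi.single i 1)
        show e i = 0
        rw [← CfsgLib.UnitaryOrder.herm_single_right hK e i, ← hP', ← Polynomial.X_mul_divX_add P', map_add, map_mul,
          Polynomial.aeval_X, Polynomial.aeval_C, Algebra.algebraMap_eq_smul_one, add_mulVec, ← mulVec_mulVec,
          smul_mulVec, one_mulVec, hadd, hperp, hsmr, h0, mul_zero, add_zero])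
      have haa : a * s a = 1 := by
        have h1 : Cfsg.hermForm n K q (k.1.1 *ᵥ e) (k.1.1 *ᵥ v) = Cfsg.hermForm n K q e v := k.2 e v
        have h2 : k.1.1 *ᵥ e = a • e := by
          rw [hk', add_mulVec, smul_mulVec, one_mulVec, hNQ.eq, ← mulVec_mulVec, hNe, mulVec_zero, add_zero]
        rw [h2, hk', add_mulVec, smul_mulVec, one_mulVec, ← mulVec_mulVec, hsml, hadd, hperp, add_zero, hsmr] at h1
        refine mul_right_cancel₀ hev ?_
        rw [one_mul, mul_assoc]
        exact h1
      let au : Kˣ := Units.mkOfMulEqOne a (s a) haa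
      have hauR : au ∈ R := by
        let A : GL (Fin 1) K := Units.map (algebraMap K (Matrix (Fin 1) (Fin 1) K)).toMonoidHom au
        have hA : A ∈ Cfsg.GU 1 K q := (CfsgLib.SUClassNumber.mem_GU_iff hs hs2 _).mpr (by
          show ((algebraMap K (Matrix (Fin 1) (Fin 1) K) a).map s).transpose * algebraMap K _ a = 1
          rw [Matrix.algebraMap_eq_diagonal, Matrix.diagonal_map (map_zero s), Matrix.diagonal_transpose,
            Matrix.diagonal_mul_diagonal]
          simp [mul_comm (s a), haa])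
        have h := CfsgLib.SUClassNumber.det_mem_range hK hA
        have e : Matrix.GeneralLinearGroup.det A = au := Units.ext (by
          show (algebraMap K (Matrix (Fin 1) (Fin 1) K) a).det = a
          rw [Matrix.algebraMap_eq_diagonal, Matrix.det_diagonal]
          simp)
        rwa [e] at h
      refine ⟨⟨au, hauR⟩, Subtype.ext (Units.ext ?_)⟩
      show ((au ^ n : Kˣ) : K) = k.1.1.det
      rw [hk', det_eq_of_nilp p (by omega) a (N * Q) (by rw [hNQ.mul_pow, hx₀, Matrix.zero_mul]),
        Units.val_pow_eq_pow_val]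
      rfl
    -- the classes
    let D := (powMonoidHom n : R →* R).range
    let K0 := D.comap detR
    have hdet1 : ∀ g : U, detR g = 1 → g.1.1.det = 1 := fun g hg => congrArg (fun r : R => ((r.1 : Kˣ) : K)) hg
    let mkSU : ∀ g : U, detR g = 1 → ↥(Cfsg.SU n K q) := fun g hg => ⟨⟨g.1.1, hdet1 g hg⟩, fun u w => g.2 u w⟩
    have htoGL : ∀ g hg, toGL (mkSU g hg) = g.1 := fun g hg => Units.ext rfl
    have hy : detR y = 1 := Subtype.ext (Units.ext (Matrix.SpecialLinearGroup.det_coe x₀.1))
    let cx : U → ↥(Cfsg.SU n K q) := fun t => mkSU (t * y * t⁻¹) (by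
      rw [map_mul, map_mul, hy, mul_one, map_inv, mul_inv_cancel])
    have hinjGL : Function.Injective toGL := CfsgLib.SUClassNumber.suToGL_injective
    have hcx : ∀ t, toGL (cx t) = (t * y * t⁻¹).1 := fun t => Units.ext rfl
    have hclass : ∀ t t' : U, IsConj (cx t) (cx t') ↔ t⁻¹ * t' ∈ K0 := by
      intro t t'
      constructor
      · intro h
        obtain ⟨w, hw⟩ := _root_.isConj_iff.mp h
        let w' : U := ⟨toGL w, CfsgLib.SUClassNumber.suToGL_mem w⟩
        have hw' : w' * (t * y * t⁻¹) * w'⁻¹ = t' * y * t'⁻¹ := Subtype.ext (by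
          have := congrArg toGL hw
          rw [map_mul, map_mul, map_inv, hcx, hcx] at this
          exact this)
        have hk : Commute (t'⁻¹ * w' * t) y := by
          show t'⁻¹ * w' * t * y = y * (t'⁻¹ * w' * t)
          calc t'⁻¹ * w' * t * y = t'⁻¹ * (w' * (t * y * t⁻¹) * w'⁻¹) * (w' * t) := by group
            _ = t'⁻¹ * (t' * y * t'⁻¹) * (w' * t) := by rw [hw']
            _ = y * (t'⁻¹ * w' * t) := by group
        have hwd : detR w' = 1 := Subtype.ext (Units.ext (Matrix.SpecialLinearGroup.det_coe w.1))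
        have h1 := hcent _ hk
        rw [map_mul, map_mul, hwd, mul_one, map_inv] at h1
        show detR (t⁻¹ * t') ∈ D
        rw [map_mul, map_inv]
        simpa using D.inv_mem h1
      · intro h
        obtain ⟨c, hc⟩ := (show detR (t⁻¹ * t') ∈ D from h)
        obtain ⟨z, hz, hzc⟩ := hscal c
        let g : U := t' * z⁻¹ * t⁻¹
        have hg : detR g = 1 := by
          simp only [g, map_mul, map_inv, hz]
          rw [← powMonoidHom_apply n c, hc, map_mul, map_inv]
          group
        refine _root_.isConj_iff.mpr ⟨mkSU g hg, hinjGL ?_⟩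
        rw [map_mul, map_mul, map_inv, htoGL g hg, hcx, hcx]
        have hzy : Commute z⁻¹ y := (show Commute z y from Subtype.ext (hzc _)).inv_left
        have : g * (t * y * t⁻¹) * g⁻¹ = t' * y * t'⁻¹ := by
          calc g * (t * y * t⁻¹) * g⁻¹ = t' * (z⁻¹ * y) * z * t'⁻¹ := by simp only [g]; group
            _ = t' * y * t'⁻¹ := by rw [hzy.eq]; group
        exact congrArg Subtype.val this
    have hreg : ∀ t : U, ((toGL (cx t)).1 - 1) ^ n = 0 ∧ ((toGL (cx t)).1 - 1).rank = n - 1 := by
      intro t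
      have e : (toGL (cx t)).1 - 1 = t.1.1 * N * (t.1⁻¹).1 := by
        show t.1.1 * (toGL x₀).1 * (t.1⁻¹).1 - 1 = _
        rw [hN, Matrix.mul_sub, Matrix.sub_mul, Matrix.mul_one, Units.mul_inv]
      rw [e, Units.conj_pow, hx₀, Matrix.mul_zero, Matrix.zero_mul,
        Matrix.rank_mul_eq_left_of_isUnit_det _ _ ((Matrix.isUnit_iff_isUnit_det _).mp t.1⁻¹.isUnit),
        Matrix.rank_mul_eq_right_of_isUnit_det _ _ ((Matrix.isUnit_iff_isUnit_det _).mp t.1.isUnit)]
      exact ⟨rfl, hx₀r⟩
    have hgoal : ∀ C : ConjClasses ↥(Cfsg.SU n K q), (∃ t : U, ConjClasses.mk (cx t) = C) ↔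
        ∃ u : ↥(Cfsg.SU n K q), ConjClasses.mk u = C ∧ ((toGL u).1 - 1) ^ n = 0 ∧ ((toGL u).1 - 1).rank = n - 1 := by
      intro C
      refine ⟨fun ⟨t, ht⟩ => ⟨cx t, ht, hreg t⟩, ?_⟩
      rintro ⟨u, rfl, h1, h2⟩
      obtain ⟨t, ht⟩ := _root_.isConj_iff.mp (CfsgLib.UnitaryConj.isConj_GU hK y
        ⟨toGL u, CfsgLib.SUClassNumber.suToGL_mem u⟩ (isConj_regular (by omega) _ _ hx₀ hx₀r h1 h2))
      exact ⟨t, congrArg _ (hinjGL ((hcx t).trans (congrArg Subtype.val ht)))⟩
    let F : U ⧸ K0 → {C : ConjClasses ↥(Cfsg.SU n K q) // ∃ u : ↥(Cfsg.SU n K q),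
        ConjClasses.mk u = C ∧ ((toGL u).1 - 1) ^ n = 0 ∧ ((toGL u).1 - 1).rank = n - 1} :=
      fun Q => ⟨ConjClasses.mk (cx Q.out), (hgoal _).mp ⟨_, rfl⟩⟩
    have hF : Function.Bijective F := by
      refine ⟨fun Q Q' h => ?_, fun C => ?_⟩
      · rw [← Quotient.out_eq' Q, ← Quotient.out_eq' Q']
        exact QuotientGroup.eq.mpr ((hclass _ _).mp (ConjClasses.mk_eq_mk_iff_isConj.mp (congrArg Subtype.val h)))
      · obtain ⟨t, ht⟩ := (hgoal _).mpr C.2
        refine ⟨(t : U ⧸ K0), Subtype.ext ?_⟩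
        rw [← ht]
        exact ConjClasses.mk_eq_mk_iff_isConj.mpr
          ((hclass _ _).mpr (QuotientGroup.eq.mp (Quotient.out_eq' (t : U ⧸ K0))))
    refine (Nat.card_eq_of_bijective F hF).symm.trans ?_
    show K0.index = _
    rw [Subgroup.index_comap_of_surjective _ hsurj, IsCyclic.index_powMonoidHom_range,
      CfsgLib.SUClassNumber.card_pow_range hK, Nat.gcd_comm]

end Cfsg.Agent.S2643
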