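import Cfsg.Statements.S2645
import Cfsg.Agent.Lib.SemisimplePrimeClasses.Symplectic
-- import your own Cfsg.Agent.* helpers here

set_option autoImplicit false
open Cfsg

namespace Cfsg.Agent.S2645

open CfsgLib.SemisimplePrimeClasses
set_option maxHeartbeats 1000000

/-- Number of conjugacy classes of elements of odd prime order r, r different from the characteristic, in the symplectic group Sp_2m(q): let i be the multiplicative order of q modulo r and t = (r − 1)/i. If i is odd the eigenvalue orbits pair off (Λ ≠ Λ⁻¹) and the classes correspond to the non-zero (t/2)-tuples (a_j) with 2i Σ a_j ≤ 2m, giving C(⌊m/i⌋ + t/2, t/2) − 1 classes; if i is even (Λ = Λ⁻¹) they correspond to the non-zero t-tuples with i Σ a_j ≤ 2m, giving C(⌊2m/i⌋ + t, t) − 1 classes. -/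
theorem result {F : Type*} [Field F] [Fintype F] {p q : ℕ} [Fact p.Prime] [CharP F p] (hF : Fintype.card F = q) (m r i t : ℕ) (hr : r.Prime) (hr2 : r ≠ 2) (hrp : r ≠ p) (hi : i = orderOf (q : ZMod r)) (ht : t * i = r - 1) : Nat.card {C : ConjClasses ↥(Matrix.symplecticGroup (Fin m) F) // ∃ g : Matrix.symplecticGroup (Fin m) F, ConjClasses.mk g = C ∧ orderOf g = r} = if Odd i then Nat.choose (m / i + t / 2) (t / 2) - 1 else Nat.choose (2 * m / i + t) t - 1 := by
    classical
    haveI := Fact.mk hr
    haveI : NeZero r := ⟨hr.ne_zero⟩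
    subst hF
    haveI : CharP (AlgebraicClosure F) p :=
      charP_of_injective_algebraMap (algebraMap F (AlgebraicClosure F)).injective p
    haveI : NeZero ((r : AlgebraicClosure F)) := ⟨fun h => hrp
      ((Nat.prime_dvd_prime_iff_eq Fact.out hr).1 ((CharP.cast_eq_zero_iff (AlgebraicClosure F) p r).1 h)).symm⟩
    obtain ⟨ζ, hζ0⟩ := IsAlgClosed.exists_root (Polynomial.cyclotomic r (AlgebraicClosure F)) (by
      rw [Polynomial.degree_cyclotomic]; exact_mod_cast (Nat.totient_pos.mpr hr.pos).ne')
    have hζ : orderOf ζ = r := (Polynomial.isRoot_cyclotomic_iff.mp hζ0).eq_orderOf.symm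
    -- `q` modulo `r`
    have hcop : Nat.Coprime (Fintype.card F) r := CfsgLib.PSpGraph.coprime_card (F := F) hr hrp
    let u : (ZMod r)ˣ := ZMod.unitOfCoprime _ hcop
    have hu : (u : ZMod r) = (Fintype.card F : ℕ) := ZMod.coe_unitOfCoprime _ hcop
    have hou : orderOf u = i := by rw [hi, ← orderOf_units, hu]
    have hi0 : 0 < i := hou ▸ orderOf_pos u
    haveI : Fact (2 < r) := ⟨lt_of_le_of_ne hr.two_le (Ne.symm hr2)⟩
    have hneg : (-1 : (ZMod r)ˣ) ≠ 1 := fun h => ZMod.neg_one_ne_one (by
      have := congrArg Units.val h; simpa using this)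
    have hsq : ∀ v : (ZMod r)ˣ, v ^ 2 = 1 → v = 1 ∨ v = -1 := fun v hv => by
      have := congrArg Units.val hv
      rw [Units.val_pow_eq_pow_val, Units.val_one] at this
      rcases sq_eq_one_iff.1 this with h | h
      · exact Or.inl (Units.ext h)
      · exact Or.inr (Units.ext (by simpa using h))
    -- the group generated by `q` and `-1`
    obtain ⟨w, η, hη0, hη, hw, hn, hwg, hcase⟩ : ∃ (w : (ZMod r)ˣ) (η : ℕ), 0 < η ∧
        Nat.card (Subgroup.zpowers w) = 2 * η ∧ u ∈ Subgroup.zpowers w ∧ -1 ∈ Subgroup.zpowers w ∧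
        (∀ f : (ZMod r)ˣ → ℕ, (∀ a, f (a * u) = f a) → (∀ a, f (a * -1) = f a) →
          ∀ a, ∀ h ∈ Subgroup.zpowers w, f (a * h) = f a) ∧
        (Odd i ∧ η = i ∨ Even i ∧ 2 * η = i) := by
      rcases Nat.even_or_odd i with ⟨j, hj⟩ | hodd
      · have hj2 : u ^ j = -1 := by
          refine (hsq _ (by rw [← pow_mul, mul_two, ← hj, ← hou, pow_orderOf_eq_one])).resolve_left fun h => ?_
          have := Nat.le_of_dvd (by omega) (hou ▸ orderOf_dvd_of_pow_eq_one h)
          omega
        refine ⟨u, j, by omega, by rw [Nat.card_zpowers, hou]; omega, Subgroup.mem_zpowers u,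
          hj2 ▸ Subgroup.npow_mem_zpowers u j,
          fun f h1 _ => invariant_of_generators h1, Or.inr ⟨⟨j, hj⟩, by omega⟩⟩
      · have hpow : (-u) ^ i = -1 := by rw [hodd.neg_pow, ← hou, pow_orderOf_eq_one]
        have hneg' : -1 ∈ Subgroup.zpowers (-u) := hpow ▸ Subgroup.npow_mem_zpowers (-u) i
        refine ⟨-u, i, hi0, ?_, ?_, hneg', fun f h1 h2 => invariant_of_generators fun a => ?_, Or.inl ⟨hodd, rfl⟩⟩
        · rw [Nat.card_zpowers, neg_eq_neg_one_mul,
            (Commute.all _ _).orderOf_mul_eq_mul_orderOf_of_coprime, orderOf_eq_prime (p := 2) (neg_one_sq) hneg, hou]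
          rw [orderOf_eq_prime (p := 2) (neg_one_sq) hneg, hou]
          exact Nat.coprime_two_left.2 hodd
        · have := Subgroup.mul_mem _ hneg' (Subgroup.mem_zpowers (-u))
          rwa [neg_one_mul, neg_neg] at this
        · rw [show a * -u = a * u * -1 by rw [mul_neg_one, mul_neg], h2, h1]
    -- an element of order `r`
    have hud : (Odd i ∧ η = i) ∨ (Even i ∧ 2 * η = i) := hcase
    obtain ⟨x, hx⟩ := CfsgLib.PSpGraph.exists_torus_order (F := F) p hη0 hr.pos
      ((CfsgLib.PSpGraph.dvd_torus hr Fintype.card_pos hi hi0 hud).elim (fun h => Or.inr h.2) fun h => Or.inl h.2)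
    -- classes with `g ^ r = 1`
    haveI : Finite (Matrix.symplecticGroup (Fin m) F) := Subtype.finite
    let W := {C : ConjClasses ↥(Matrix.symplecticGroup (Fin m) F) //
      ∃ g : Matrix.symplecticGroup (Fin m) F, ConjClasses.mk g = C ∧ g ^ r = 1}
    haveI : Finite W := Subtype.finite
    have hord : ∀ g : Matrix.symplecticGroup (Fin m) F, g ^ r = 1 → (orderOf g).Coprime p := fun g hg =>
      Nat.Coprime.coprime_dvd_left (orderOf_dvd_of_pow_eq_one hg) ((Nat.coprime_primes hr Fact.out).2 hrp)
    choose rep hrep hrepr using fun C : W => C.2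
    let cnt : W → (ZMod r)ˣ → ℕ := fun C a => (spRoots (rep C)).count (root ζ a)
    have hinj : Function.Injective cnt := by
      intro C D h
      have h1 : spRoots (rep C) = spRoots (rep D) := eq_of_count hζ (fun t ht => spRoots_pow (hrepr C) ht)
        (fun t ht => spRoots_pow (hrepr D) ht) (by rw [spRoots_card, spRoots_card]) fun a => congrFun h a
      have h2 : (rep C).1.charpoly = (rep D).1.charpoly := by
        refine Polynomial.map_injective (algebraMap F (AlgebraicClosure F)) (RingHom.injective _) ?_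
        rw [← Matrix.charpoly_map, ← Matrix.charpoly_map,
          (IsAlgClosed.splits _).eq_prod_roots_of_monic (Matrix.charpoly_monic _)]
        conv_rhs => rw [(IsAlgClosed.splits _).eq_prod_roots_of_monic (Matrix.charpoly_monic _)]
        show _ = ((spRoots (rep D)).map _).prod
        rw [← h1]
        rfl
      refine Subtype.ext ?_
      rw [← hrep C, ← hrep D, ConjClasses.mk_eq_mk_iff_isConj]
      exact CfsgLib.SemisimpleIso.symp_isConj_of_charpoly (hord _ (hrepr C)) (hord _ (hrepr D)) h2
    have hconjroots : ∀ g h : Matrix.symplecticGroup (Fin m) F, IsConj g h → spRoots g = spRoots h := by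
      intro g h hgh
      obtain ⟨c, hc⟩ := _root_.isConj_iff.1 hgh
      subst hc
      have hu : IsUnit c.1.det := by rw [SymplecticGroup.det_eq_one c.2]; exact isUnit_one
      have e : (c * g * c⁻¹).1 = c.1 * g.1 * c.1⁻¹ := by
        have h1 : (c⁻¹).1 * c.1 = 1 := congrArg Subtype.val (inv_mul_cancel c)
        rw [Submonoid.coe_mul, Submonoid.coe_mul, Matrix.inv_eq_left_inv h1]
      unfold spRoots
      rw [Matrix.charpoly_map, Matrix.charpoly_map, e, Matrix.charpoly_mul_comm, ← Matrix.mul_assoc,
        Matrix.nonsing_inv_mul _ hu, Matrix.one_mul]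
    have hW : Nat.card W = (m / η + Nat.card ((ZMod r)ˣ ⧸ Subgroup.zpowers w)).choose
        (Nat.card ((ZMod r)ˣ ⧸ Subgroup.zpowers w)) := by
      refine card_invariant (Subgroup.zpowers w) (m + m) (m / η) cnt ?_ hinj
        (fun C => hwg _ (fun a => (count_invariant p hζ (rep C) a u hu).1)
          (fun a => (count_invariant p hζ (rep C) a u hu).2))
        (fun C => le_of_le_of_eq (sum_count_le hζ _) (spRoots_card _)) ?_
      · rw [hη, ← two_mul, Nat.mul_div_mul_left _ _ two_pos]
      · intro e he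
        haveI : Fintype ((ZMod r)ˣ ⧸ Subgroup.zpowers w) := Fintype.ofFinite _
        set l : Multiset ((ZMod r)ˣ ⧸ Subgroup.zpowers w) := ∑ c, Multiset.replicate (e c) c with hl
        obtain ⟨g, hg, hgc⟩ := exists_realising p hζ hu hw hn hwg hη x hx hrp l m (by
          rw [hl, Multiset.card_sum, Finset.sum_congr rfl fun c _ => Multiset.card_replicate (e c) c]
          calc η * ∑ c, e c ≤ η * (m / η) := Nat.mul_le_mul_left η he
            _ ≤ m := Nat.mul_div_le m η)
        refine ⟨⟨ConjClasses.mk g, g, rfl, hg⟩, fun a => ?_⟩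
        show (spRoots (rep _)).count _ = _
        rw [hconjroots _ g (ConjClasses.mk_eq_mk_iff_isConj.1 (hrep _)), hgc, hl, Multiset.count_sum',
          Finset.sum_eq_single (QuotientGroup.mk a : (ZMod r)ˣ ⧸ Subgroup.zpowers w)
            (fun d _ hd => by rw [Multiset.count_replicate, if_neg hd]) (by simp),
          Multiset.count_replicate_self]
    -- remove the trivial class
    have hone : Nat.card {C : ConjClasses ↥(Matrix.symplecticGroup (Fin m) F) //
        ∃ g : Matrix.symplecticGroup (Fin m) F, ConjClasses.mk g = C ∧ orderOf g = r} = Nat.card W - 1 := by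
      haveI : Fintype W := Fintype.ofFinite W
      have e1 : Nat.card {C : W // C.1 ≠ ConjClasses.mk 1} = Nat.card W - 1 := by
        rw [Nat.card_eq_fintype_card, Nat.card_eq_fintype_card,
          ← Fintype.card_subtype_eq (⟨ConjClasses.mk 1, 1, rfl, one_pow r⟩ : W), ← Fintype.card_subtype_compl]
        exact Fintype.card_congr (Equiv.subtypeEquivRight fun C => not_congr ⟨fun h => Subtype.ext h, fun h => congrArg Subtype.val h⟩)
      rw [← e1]
      refine Nat.card_congr
        { toFun := fun C => ⟨⟨C.1, C.2.choose, C.2.choose_spec.1,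
            orderOf_dvd_iff_pow_eq_one.1 C.2.choose_spec.2.dvd⟩, fun h => ?_⟩
          invFun := fun C => ⟨C.1.1, ?_⟩
          left_inv := fun C => rfl
          right_inv := fun C => rfl }
      · obtain ⟨g, hg, hgo⟩ := C.2
        have h1 : IsConj g 1 := ConjClasses.mk_eq_mk_iff_isConj.1 (hg.trans h)
        rw [isConj_one_left.1 h1, orderOf_one] at hgo
        exact hr.one_lt.ne hgo
      · obtain ⟨g, hg, hgr⟩ := C.1.2
        exact ⟨g, hg, orderOf_eq_prime hgr fun h => C.2 (by rw [← hg, h])⟩
    rw [hone, hW]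
    have hT : Nat.card ((ZMod r)ˣ ⧸ Subgroup.zpowers w) * (2 * η) = t * i := by
      rw [← hη, ht, ← Subgroup.card_eq_card_quotient_mul_card_subgroup, Nat.card_eq_fintype_card,
        ZMod.card_units]
    rcases hcase with ⟨hodd, he⟩ | ⟨hev, he⟩
    · rw [if_pos hodd, he]
      rw [he] at hT
      have h1 : Nat.card ((ZMod r)ˣ ⧸ Subgroup.zpowers w) * 2 = t :=
        Nat.eq_of_mul_eq_mul_right hi0 (by rw [← hT]; ring)
      rw [show t / 2 = Nat.card ((ZMod r)ˣ ⧸ Subgroup.zpowers w) by omega]
    · rw [if_neg (Nat.not_odd_iff_even.2 hev)]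
      rw [he] at hT
      rw [Nat.eq_of_mul_eq_mul_right hi0 hT, ← he, Nat.mul_div_mul_left _ _ two_pos]

end Cfsg.Agent.S2645
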