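import Cfsg.Statements.S2646
import Cfsg.Agent.Lib.UnitaryUnipotent.Model
import Cfsg.Agent.Lib.SemisimplePrimeClasses.Unitary
import Cfsg.Agent.S2642
-- import your own Cfsg.Agent.* helpers here

set_option autoImplicit false
open Cfsg

namespace Cfsg.Agent.S2646

open CfsgLib.UnitaryUnipotent CfsgLib.JordanCommutant Matrix
set_option maxHeartbeats 1000000

universe uu

theorem cst_inv {F : Type uu} [Field F] {s : F →+* F} {ι : Type} [Fintype ι] [DecidableEq ι] (P : GL ι F)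
    (hP : cst s P.1 = P.1) : cst s (P⁻¹).1 = (P⁻¹).1 := by
  have h2 : cst s (P⁻¹).1 * P.1 = 1 := by rw [← hP, ← cst_mul, Units.mul_inv, cst_one]
  calc cst s (P⁻¹).1 = cst s (P⁻¹).1 * P.1 * (P⁻¹).1 := by rw [Matrix.mul_assoc, Units.mul_inv, Matrix.mul_one]
    _ = (P⁻¹).1 := by rw [h2, Matrix.one_mul]

theorem gu_int {F : Type uu} [Field F] [Fintype F] {q : ℕ} (hK : Fintype.card F = q ^ 2) (m : ℕ) :
    (Nat.card (Cfsg.GU m F q) : ℤ) =
      (q : ℤ) ^ (m * (m - 1) / 2) * ∏ j : Fin m, ((q : ℤ) ^ ((j : ℕ) + 1) - (-1) ^ ((j : ℕ) + 1)) := by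
  have hq := (CfsgLib.UnitaryBasic.frob_exists hK).1
  rw [CfsgLib.UnitaryOrder.card_GU hK, Finset.prod_range]
  push_cast
  congr 1
  refine Finset.prod_congr rfl fun j _ => ?_
  split_ifs with h
  · rw [Odd.neg_one_pow (Even.add_one h)]; push_cast; ring
  · rw [Even.neg_one_pow (Nat.not_even_iff_odd.mp h).add_one, Nat.cast_sub (Nat.one_le_pow _ _ (by omega))]
    push_cast
    ring

/-- Order of the centraliser in the general unitary group GU_n(q) of a unipotent element of given Jordan type: if u ∈ GU_n(q) (isometries of Σ u_i v_i^q over the field with q² elements) is similar to the unipotent matrix with a_i Jordan blocks of size i (all sizes at least 1), then its centraliser in GU_n(q) has order q^γ · Π_i |GU_(a_i)(q)| with γ = 2 Σ_(i<j) i a_i a_j + Σ_i (i − 1) a_i², the same exponent as in GL_n(q), where |GU_a(q)| = q^(a(a−1)/2) Π_(k=1)^a (q^k − (−1)^k). -/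
theorem result {K : Type*} [Field K] [Fintype K] {q n t : ℕ} (hK : Fintype.card K = q ^ 2) (d : Fin t → ℕ) (hd : ∀ k, 1 ≤ d k) (e : ((k : Fin t) × Fin (d k)) ≃ Fin n) (u : ↥(Cfsg.GU n K q)) (hu : IsConj (Matrix.reindex e e (Cfsg.jordanTypeMatrix d K)) ((u : GL (Fin n) K) : Matrix (Fin n) (Fin n) K)) : (Nat.card ↥(Subgroup.centralizer ({u} : Set ↥(Cfsg.GU n K q))) : ℤ) = (q : ℤ) ^ (2 * (∑ i ∈ Finset.range (Finset.univ.sup d + 1), ∑ j ∈ Finset.range (Finset.univ.sup d + 1), if i < j then i * (Finset.univ.filter (fun k : Fin t => d k = i)).card * (Finset.univ.filter (fun k : Fin t => d k = j)).card else 0) + ∑ i ∈ Finset.range (Finset.univ.sup d + 1), (i - 1) * (Finset.univ.filter (fun k : Fin t => d k = i)).card ^ 2) * ∏ i ∈ Finset.range (Finset.univ.sup d + 1), ((q : ℤ) ^ ((Finset.univ.filter (fun k : Fin t => d k = i)).card * ((Finset.univ.filter (fun k : Fin t => d k = i)).card - 1) / 2) * ∏ j : Fin (Finset.univ.filter (fun k : Fin t => d k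 = i)).card, ((q : ℤ) ^ ((j : ℕ) + 1) - (-1) ^ ((j : ℕ) + 1))) := by
    classical
    obtain ⟨hq, s, hs⟩ := CfsgLib.UnitaryBasic.frob_exists hK
    have hs2 : ∀ x, s (s x) = x := fun x => by rw [hs, hs, ← pow_mul, ← sq, ← hK, FiniteField.pow_card]
    have hne : ∃ a, s a ≠ a := by
      obtain ⟨ζ, hζ⟩ := CfsgLib.UnitaryBasic.exists_zeta hK
      refine ⟨(ζ : K), fun h => ?_⟩
      rw [hs] at h
      have h2 : ζ ^ (q - 1) = 1 := by
        refine mul_right_cancel (b := ζ) ?_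
        rw [← pow_succ, Nat.sub_add_cancel hq.le, one_mul]
        exact Units.ext (by simpa using h)
      have := Nat.le_of_dvd (by omega) (orderOf_dvd_of_pow_eq_one h2)
      omega
    obtain ⟨p, hchar⟩ := CharP.exists K
    haveI : Fact p.Prime := ⟨CharP.char_is_prime K p⟩
    choose F hF hFJ using fun D => exists_block_form (s := s) p hK hs
      (fun m g k hg => Cfsg.Agent.S2642.isConj_twist p s g k hg)
      (fun m M => CfsgLib.SemisimplePrimeClasses.twist_eq hK hs M) D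
    have hD : ∀ k, d k < Finset.univ.sup d + 1 := fun k => Nat.lt_succ_of_le (Finset.le_sup (Finset.mem_univ k))
    let φ := Matrix.reindexAlgEquiv K K e
    let ψ : GL (Ix d) K ≃* GL (Fin n) K := Units.mapEquiv φ.toMulEquiv
    obtain ⟨y, hy⟩ := hu
    let u' : GL (Ix d) K := ψ.symm (u : GL (Fin n) K)
    let y' : GL (Ix d) K := ψ.symm y
    have hy' : y'.1 * Cfsg.jordanTypeMatrix d K = u'.1 * y'.1 := φ.injective (by
      rw [map_mul, map_mul]
      show φ (φ.symm y.1) * _ = φ (φ.symm (u : GL (Fin n) K).1) * φ (φ.symm y.1)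
      rw [φ.apply_symm_apply, φ.apply_symm_apply]
      exact hy.eq)
    let J : GL (Ix d) K := y'⁻¹ * u' * y'
    have hJ : J.1 = Cfsg.jordanTypeMatrix d K := by
      show (y'⁻¹).1 * u'.1 * y'.1 = _
      rw [Matrix.mul_assoc, ← hy', ← Matrix.mul_assoc, Units.inv_mul, Matrix.one_mul]
    have hGU : ∀ X : GL (Ix d) K, ψ X ∈ Cfsg.GU n K q ↔ cst s X.1 * X.1 = 1 := fun X => by
      rw [CfsgLib.SUClassNumber.mem_GU_iff hs hs2]
      show cst s (φ X.1) * φ X.1 = 1 ↔ _
      rw [show cst s (φ X.1) = φ (cst s X.1) from rfl, ← map_mul, ← map_one φ, φ.injective.eq_iff]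
    have hu' : cst s u'.1 * u'.1 = 1 := (hGU u').mp (by rw [MulEquiv.apply_symm_apply]; exact u.2)
    have hP0u : IsUnit (cst s y'.1 * y'.1) :=
      IsUnit.mul (IsUnit.of_mul_eq_one (cst s (y'⁻¹).1) (by rw [← cst_mul, Units.inv_mul, cst_one])) y'.isUnit
    have hyJ : y'.1 * J.1 = u'.1 * y'.1 := by rw [hJ]; exact hy'
    have hP0J : cst s J.1 * (cst s y'.1 * y'.1) * J.1 = cst s y'.1 * y'.1 := by
      calc cst s J.1 * (cst s y'.1 * y'.1) * J.1 = cst s (y'.1 * J.1) * (y'.1 * J.1) := by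
            rw [cst_mul]; simp only [Matrix.mul_assoc]
        _ = cst s y'.1 * (cst s u'.1 * u'.1) * y'.1 := by rw [hyJ, cst_mul]; simp only [Matrix.mul_assoc]
        _ = _ := by rw [hu', Matrix.mul_one]
    set P := blockForm (d := d) F with hP
    have hPh : cst s P.1 = P.1 := blockForm_herm hF
    have hPJ : cst s J.1 * P.1 * J.1 = P.1 := by rw [hJ]; exact blockForm_jordan hFJ
    set P0 : Matrix (Ix d) (Ix d) K := cst s y'.1 * y'.1 with hP0
    have hh : adj s P ((P⁻¹).1 * P0) = (P⁻¹).1 * P0 := by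
      rw [adj, cst_mul, cst_inv P hPh, hP0, cst_mul, cst_cst hs2]
      simp only [Matrix.mul_assoc, Units.inv_mul, Matrix.mul_one]
    have hhJ : Commute J.1 ((P⁻¹).1 * P0) := by
      have h1 : (J⁻¹).1 * ((P⁻¹).1 * P0) * J.1 = (P⁻¹).1 * P0 := by
        rw [← adj_eq_inv hPJ, adj]
        calc (P⁻¹).1 * cst s J.1 * P.1 * ((P⁻¹).1 * P0) * J.1 = (P⁻¹).1 * (cst s J.1 * P0 * J.1) := by
              simp only [Matrix.mul_assoc, Units.mul_inv_cancel_left]
          _ = _ := by rw [hP0J]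
      show J.1 * ((P⁻¹).1 * P0) = (P⁻¹).1 * P0 * J.1
      conv_lhs => rw [← h1]
      simp only [Matrix.mul_assoc, Units.mul_inv_cancel_left]
    obtain ⟨z, hz, hzc⟩ := exists_sqrt (P := P) hs2 hne ((P⁻¹).isUnit.mul hP0u) hh
    have hzJ : Commute J.1 z.1 := hzc _ hhJ
    have hP0z : cst s z.1 * P.1 * z.1 = P0 := by
      have := congrArg (P.1 * ·) hz
      simp only [adj, Matrix.mul_assoc, Units.mul_inv_cancel_left] at this
      rw [← this, Matrix.mul_assoc]
    let w : GL (Ix d) K := y' * z⁻¹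
    have hw : cst s w.1 * w.1 = P.1 := by
      show cst s (y'.1 * (z⁻¹).1) * (y'.1 * (z⁻¹).1) = _
      calc cst s (y'.1 * (z⁻¹).1) * (y'.1 * (z⁻¹).1) = cst s (z⁻¹).1 * P0 * (z⁻¹).1 := by
            rw [cst_mul, hP0]; simp only [Matrix.mul_assoc]
        _ = cst s (z.1 * (z⁻¹).1) * P.1 * (z.1 * (z⁻¹).1) := by
            rw [← hP0z, cst_mul]; simp only [Matrix.mul_assoc]
        _ = P.1 := by rw [Units.mul_inv, cst_one, Matrix.one_mul, Matrix.mul_one]
    let Ψ : GL (Ix d) K ≃* GL (Fin n) K := (MulAut.conj w).trans ψ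
    have hzJ' : Commute z J := Units.ext hzJ.symm.eq
    have hΨJ : Ψ J = (u : GL (Fin n) K) := by
      show ψ (y' * z⁻¹ * J * (y' * z⁻¹)⁻¹) = _
      rw [mul_assoc y', hzJ'.inv_left.eq, show y' * (J * z⁻¹) * (y' * z⁻¹)⁻¹ = y' * J * y'⁻¹ by group,
        show y' * J * y'⁻¹ = u' by simp only [J]; group]
      exact ψ.apply_symm_apply _
    have hiso : ∀ X : GL (Ix d) K, Ψ X ∈ Cfsg.GU n K q ↔ cst s X.1 * P.1 * X.1 = P.1 := fun X => by
      show ψ (w * X * w⁻¹) ∈ _ ↔ _
      rw [hGU, ← hw]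
      show cst s (w.1 * X.1 * (w⁻¹).1) * (w.1 * X.1 * (w⁻¹).1) = 1 ↔ _
      have hwi : cst s w.1 * cst s (w⁻¹).1 = 1 := by rw [← cst_mul, Units.inv_mul, cst_one]
      constructor
      · intro h
        calc cst s X.1 * (cst s w.1 * w.1) * X.1
            = cst s w.1 * (cst s (w.1 * X.1 * (w⁻¹).1) * (w.1 * X.1 * (w⁻¹).1)) * w.1 := by
              simp only [cst_mul, Matrix.mul_assoc, Units.inv_mul, Matrix.mul_one]
              rw [← Matrix.mul_assoc (cst s w.1) (cst s (w⁻¹).1), hwi, Matrix.one_mul]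
          _ = cst s w.1 * w.1 := by rw [h, Matrix.mul_one]
      · intro h
        calc cst s (w.1 * X.1 * (w⁻¹).1) * (w.1 * X.1 * (w⁻¹).1)
            = cst s (w⁻¹).1 * (cst s X.1 * (cst s w.1 * w.1) * X.1) * (w⁻¹).1 := by
              simp only [cst_mul, Matrix.mul_assoc]
          _ = cst s (w.1 * (w⁻¹).1) * (w.1 * (w⁻¹).1) := by rw [h, cst_mul]; simp only [Matrix.mul_assoc]
          _ = 1 := by rw [Units.mul_inv, cst_one, Matrix.one_mul]
    have hcard : Nat.card ↥(Subgroup.centralizer ({u} : Set ↥(Cfsg.GU n K q))) =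
        Nat.card {X : GL (Ix d) K // Commute X.1 J.1 ∧ cst s X.1 * P.1 * X.1 = P.1} := by
      refine (Nat.card_congr ?_).symm
      refine
        { toFun := fun X => ⟨⟨Ψ X.1, (hiso _).mpr X.2.2⟩, Subgroup.mem_centralizer_singleton_iff.mpr (Subtype.ext ?_)⟩
          invFun := fun g => ⟨Ψ.symm g.1.1, ?_, (hiso _).mp (by rw [MulEquiv.apply_symm_apply]; exact g.1.2)⟩
          left_inv := fun X => Subtype.ext (Ψ.symm_apply_apply _)
          right_inv := fun g => Subtype.ext (Subtype.ext (Ψ.apply_symm_apply _)) }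
      · show Ψ X.1 * u.1 = u.1 * Ψ X.1
        rw [← hΨJ, ← map_mul, ← map_mul]
        exact congrArg Ψ (Units.ext X.2.1.eq)
      · have h : Ψ.symm g.1.1 * J = J * Ψ.symm g.1.1 := Ψ.injective (by
          rw [map_mul Ψ _ J, map_mul Ψ J, Ψ.apply_symm_apply, hΨJ]
          exact congrArg Subtype.val (Subgroup.mem_centralizer_singleton_iff.mp g.2))
        exact congrArg Units.val h
    rw [hcard, card_isometry_jordan hd _ hD hK hs hne hF hFJ J hJ, card_not_lead hd, exponent_eq hd _ hD,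
      Finset.prod_range, Nat.cast_mul, Nat.cast_pow, Nat.cast_prod]
    congr 1
    refine Finset.prod_congr rfl fun i _ => ?_
    rw [gu_int hK, Fintype.card_subtype]

end Cfsg.Agent.S2646
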