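import Cfsg.Statements.S2647
import Cfsg.Agent.Lib.O7Sylow.Main
import Cfsg.Agent.Lib.Fusion.Normal
import Cfsg.Agent.Lib.Fusion.Group
-- import your own Cfsg.Agent.* helpers here

set_option autoImplicit false
open Cfsg

namespace Cfsg.Agent.S2647

/-- Let q be an odd prime power with q ≡ ±3 (mod 8), F a field with q elements and S a Sylow 2-subgroup of the commutator subgroup Ω₇(q) of the orthogonal group of the form x₀² + x₁y₁ + x₂y₂ + x₃y₃ over F. Then every automorphism of S induced by N(S) is inner, S has no strongly closed subgroup other than 1 and S with respect to this group, and the 2-fusion system of Ω₇(q) on S is simple. -/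
theorem result {F : Type*} [Field F] [Fintype F] [DecidableEq F] (q : ℕ) (hF : Fintype.card F = q) (hq : q % 8 = 3 ∨ q % 8 = 5) (S : Sylow 2 ↥(Cfsg.Omega F (Cfsg.quadFormOdd 3 F))) : (Cfsg.groupFusionSystem (S : Subgroup ↥(Cfsg.Omega F (Cfsg.quadFormOdd 3 F)))).autGroup (S : Subgroup ↥(Cfsg.Omega F (Cfsg.quadFormOdd 3 F))) = Cfsg.Inn ↥(S : Subgroup ↥(Cfsg.Omega F (Cfsg.quadFormOdd 3 F))) ∧ (∀ T : Subgroup ↥(Cfsg.Omega F (Cfsg.quadFormOdd 3 F)), (Cfsg.groupFusionSystem (S : Subgroup ↥(Cfsg.Omega F (Cfsg.quadFormOdd 3 F)))).StronglyClosed T → T = ⊥ ∨ T = (S : Subgroup ↥(Cfsg.Omega F (Cfsg.quadFormOdd 3 F)))) ∧ (Cfsg.groupFusionSystem (S : Subgroup ↥(Cfsg.Omega F (Cfsg.quadFormOdd 3 F)))).IsSimple 2 := by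
  classical
  haveI : Fact (Nat.Prime 2) := ⟨Nat.prime_two⟩
  subst hF
  have h2 := CfsgLib.O7Sylow.two_ne F hq
  obtain ⟨Ψ⟩ := CfsgLib.O7Sylow.exists_iso F h2
  have hmap : (commutator (CfsgLib.O7Sylow.O7 F)).map Ψ.toMonoidHom =
      Cfsg.Omega F (Cfsg.quadFormOdd 3 F) := by
    rw [CfsgLib.SpinorMatrix.comap_commutator Ψ, Subgroup.map_comap_eq_self_of_surjective Ψ.surjective]
  let Φ : CfsgLib.O7Sylow.G7 F ≃* ↥(Cfsg.Omega F (Cfsg.quadFormOdd 3 F)) :=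
    (Ψ.subgroupMap _).trans (MulEquiv.subgroupCongr hmap)
  obtain ⟨m7⟩ := CfsgLib.O7Sylow.exists_mod F hq
  let m0 := m7.map Φ
  obtain ⟨-, a, ha, hG⟩ := CfsgLib.O7Sylow.card_G7 F hq
  rw [Nat.card_congr Φ.toEquiv] at hG
  have hfac : (Nat.card ↥(Cfsg.Omega F (Cfsg.quadFormOdd 3 F))).factorization 2 = 9 := by
    rw [hG, Nat.factorization_mul (by norm_num) ha.pos.ne', Finsupp.add_apply,
      Nat.Prime.factorization_pow Nat.prime_two, Finsupp.single_eq_same,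
      Nat.factorization_eq_zero_of_not_dvd fun h => Nat.not_even_iff_odd.2 ha (even_iff_two_dvd.2 h)]
  let S1 : Sylow 2 ↥(Cfsg.Omega F (Cfsg.quadFormOdd 3 F)) :=
    Sylow.ofCard m0.S0 (by rw [m0.card_S0, hfac])
  obtain ⟨k, hk⟩ := MulAction.exists_smul_eq ↥(Cfsg.Omega F (Cfsg.quadFormOdd 3 F)) S1 S
  let m := m0.map (MulAut.conj k)
  have hS : (S : Subgroup ↥(Cfsg.Omega F (Cfsg.quadFormOdd 3 F))) = m.S0 := by
    rw [← hk, Sylow.coe_subgroup_smul]
    show m0.S0.map _ = _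
    ext x
    constructor
    · rintro ⟨y, ⟨s, π, hπ, rfl⟩, rfl⟩
      exact ⟨s, π, hπ, map_mul (MulAut.conj k).toMonoidHom _ _⟩
    · rintro ⟨s, π, hπ, rfl⟩
      exact ⟨m0.sg s * m0.pm π, ⟨s, π, hπ, rfl⟩, map_mul (MulAut.conj k).toMonoidHom _ _⟩
  have hN : Subgroup.normalizer ((S : Subgroup ↥(Cfsg.Omega F (Cfsg.quadFormOdd 3 F))) : Set _) =
      (S : Subgroup ↥(Cfsg.Omega F (Cfsg.quadFormOdd 3 F))) := by rw [hS]; exact m.normalizer_eq
  have hAut : (Cfsg.groupFusionSystem (S : Subgroup ↥(Cfsg.Omega F (Cfsg.quadFormOdd 3 F)))).autGroup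
      (S : Subgroup ↥(Cfsg.Omega F (Cfsg.quadFormOdd 3 F))) =
        Cfsg.Inn ↥(S : Subgroup ↥(Cfsg.Omega F (Cfsg.quadFormOdd 3 F))) := by
    rw [Cfsg.FusionSystem.autGroup_groupFusionSystem le_rfl]
    refine le_antisymm ((Subgroup.closure_le _).2 ?_) ?_
    · rintro α ⟨g, -, hg⟩
      have hgN : g ∈ Subgroup.normalizer ((S : Subgroup ↥(Cfsg.Omega F (Cfsg.quadFormOdd 3 F))) : Set _) := by
        rw [Subgroup.mem_normalizer_iff]
        intro x
        refine ⟨fun hx => ?_, fun hx => ?_⟩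
        · exact hg ⟨x, hx⟩ ▸ (α ⟨x, hx⟩).2
        · have h := hg (α.symm ⟨_, hx⟩)
          rw [α.apply_symm_apply] at h
          rw [mul_left_cancel (mul_right_cancel h)]
          exact (α.symm _).2
      rw [hN] at hgN
      exact ⟨⟨g, hgN⟩, MulEquiv.ext fun x => Subtype.ext (hg x).symm⟩
    · rintro _ ⟨x, rfl⟩
      exact Subgroup.subset_closure ⟨x, trivial, fun _ => rfl⟩
  have hsc : ∀ T : Subgroup ↥(Cfsg.Omega F (Cfsg.quadFormOdd 3 F)),
      (Cfsg.groupFusionSystem (S : Subgroup ↥(Cfsg.Omega F (Cfsg.quadFormOdd 3 F)))).StronglyClosed T →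
        T = ⊥ ∨ T = (S : Subgroup ↥(Cfsg.Omega F (Cfsg.quadFormOdd 3 F))) := by
    rintro T ⟨hTS, hcl⟩
    rw [hS]
    refine m.closed_eq T (hS ▸ hTS) fun g x hx hgx => ?_
    refine hcl (Subgroup.zpowers x) ((Subgroup.zpowers_le).2 hx) (Cfsg.conjHom _ g) ?_ ⟨x, Subgroup.mem_zpowers x⟩
    refine Cfsg.FusionSystem.conjHom_mem_groupFusionSystem (((Subgroup.zpowers_le).2 hx).trans hTS) ?_
    intro y hy
    obtain ⟨j, rfl⟩ := hy
    show g * x ^ j * g⁻¹ ∈ _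
    rw [← conj_zpow, hS]
    exact zpow_mem hgx j
  refine ⟨hAut, hsc, Cfsg.FusionSystem.isSimple_of_autGroup_eq_inn
    (Cfsg.FusionSystem.groupFusionSystem_isSaturated S) (fun h => ?_) hAut hsc⟩
  have := m.card_S0
  rw [← hS, h, Subgroup.card_bot] at this
  norm_num at this

end Cfsg.Agent.S2647
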