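import Cfsg.Statements.S4010
import Mathlib
import Cfsg.Agent.Lib.PLinearDerived
-- import your own Cfsg.Agent.* helpers here

set_option autoImplicit false
open Cfsg

namespace Cfsg.Agent.S4010

/-- Let F be a field, n ≥ 1, and P a finite p-group (p a prime) admitting an injective homomorphism into the general linear group of degree n over F. Then the derived length of P is at most ⌊log₂ n⌋ + 1: that term of the derived series of P is trivial. -/
theorem result {P : Type*} [Group P] [Finite P] (p : ℕ) [Fact p.Prime] (hP : IsPGroup p P) (F : Type*) [Field F] (n : ℕ) (hn : 1 ≤ n) (ρ : P →* Matrix.GeneralLinearGroup (Fin n) F) (hρ : Function.Injective ρ) : derivedSeries P (Nat.log 2 n + 1) = ⊥ := by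
  classical
  let K := AlgebraicClosure F
  let e : Matrix (Fin n) (Fin n) F →* Module.End K (Fin n → K) :=
    ((Matrix.toLinAlgEquiv' : Matrix (Fin n) (Fin n) K ≃ₐ[K] _).toAlgHom.toRingHom.comp
      (algebraMap F K).mapMatrix).toMonoidHom
  have he : Function.Injective e := fun a b h => by
    have h1 := (Matrix.toLinAlgEquiv' : Matrix (Fin n) (Fin n) K ≃ₐ[K] _).injective h
    ext i j
    exact (algebraMap F K).injective (congrFun (congrFun h1 i) j)
  let σ : P →* Module.End K (Fin n → K) := e.comp ((Units.coeHom _).comp ρ)
  have h := CfsgLib.PLinear.derived_bound (K := K) hP σ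
  rw [Module.finrank_fin_fun] at h
  rw [Subgroup.eq_bot_iff_forall]
  intro g hg
  refine hρ (Units.ext (he ?_))
  have := h g hg
  show σ g = e ((ρ 1 : Matrix.GeneralLinearGroup (Fin n) F) : Matrix (Fin n) (Fin n) F)
  rw [map_one, Units.val_one, map_one]
  exact this

end Cfsg.Agent.S4010
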