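import Cfsg.Statements.S2648
import Cfsg.Agent.S4010
import Cfsg.Agent.Lib.SympBlocks
import Cfsg.Agent.Lib.FiniteForms.Standard
-- import your own Cfsg.Agent.* helpers here

set_option autoImplicit false
open Cfsg

namespace Cfsg.Agent.S2648

open CfsgLib.SympBlocks
open scoped commutatorElement
set_option maxHeartbeats 1000000

/-- The derived series of a subgroup, inside the ambient group. -/
def dser {G : Type*} [Group G] (H : Subgroup G) : ℕ → Subgroup G
  | 0 => H
  | i + 1 => ⁅dser H i, dser H i⁆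

theorem dser_eq {G : Type*} [Group G] (H : Subgroup G) :
    ∀ i, (derivedSeries ↥H i).map H.subtype = dser H i
  | 0 => by rw [derivedSeries_zero, ← MonoidHom.range_eq_map, Subgroup.range_subtype]; rfl
  | i + 1 => by rw [derivedSeries_succ, Subgroup.map_commutator, dser_eq H i]; rfl

theorem dser_eq_bot_iff {G : Type*} [Group G] (H : Subgroup G) (i : ℕ) :
    dser H i = ⊥ ↔ derivedSeries ↥H i = ⊥ := by
  rw [← dser_eq, Subgroup.map_eq_bot_iff_of_injective _ H.subtype_injective]

theorem dser_mono {G : Type*} [Group G] {H K : Subgroup G} (h : H ≤ K) : ∀ i, dser H i ≤ dser K i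
  | 0 => h
  | i + 1 => Subgroup.commutator_mono (dser_mono h i) (dser_mono h i)

theorem dser_map {G G' : Type*} [Group G] [Group G'] (f : G →* G') (H : Subgroup G) :
    ∀ i, (dser H i).map f = dser (H.map f) i
  | 0 => rfl
  | i + 1 => by
    show ⁅dser H i, dser H i⁆.map f = _
    rw [Subgroup.map_commutator, dser_map f H i]
    rfl

theorem exists_witness {F : Type*} [Field F] [Fintype F] (h2 : (2 : F) ≠ 0) :
    ∀ k : ℕ, ∃ H : Subgroup (Matrix.symplecticGroup (Fin (2 ^ k)) F), IsPGroup 2 ↥H ∧ dser H (k + 1) ≠ ⊥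
  | 0 => by
    classical
    obtain ⟨a, b, hab⟩ := FiniteField.exists_root_sum_quadratic (R := F) (f := Polynomial.X ^ 2)
      (g := Polynomial.X ^ 2 + 1) (Polynomial.degree_X_pow 2) (by
        rw [Polynomial.degree_add_eq_left_of_degree_lt (by simp), Polynomial.degree_X_pow]; rfl) (by
        have : Odd (Fintype.card F) := by
          rw [Nat.odd_iff]
          exact FiniteField.odd_card_of_char_ne_two fun h => h2 (by
            haveI := ringChar.of_eq h; exact CharTwo.two_eq_zero)
        exact Nat.odd_iff.1 this)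
    simp only [Polynomial.eval_add, Polynomial.eval_pow, Polynomial.eval_X, Polynomial.eval_one] at hab
    let mk : (Matrix (Fin 2) (Fin 2) F) → Matrix (Fin (2 ^ 0) ⊕ Fin (2 ^ 0)) (Fin (2 ^ 0) ⊕ Fin (2 ^ 0)) F :=
      fun M => Matrix.fromBlocks (Matrix.of fun _ _ => M 0 0) (Matrix.of fun _ _ => M 0 1)
        (Matrix.of fun _ _ => M 1 0) (Matrix.of fun _ _ => M 1 1)
    have hmem : ∀ M : Matrix (Fin 2) (Fin 2) F, M.det = 1 → mk M ∈ Matrix.symplecticGroup (Fin (2 ^ 0)) F := by
      intro M hM
      rw [Matrix.det_fin_two] at hM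
      rw [SymplecticGroup.mem_iff]
      ext u v
      rcases u with u | u <;> rcases v with v | v <;> fin_cases u <;> fin_cases v <;>
        simp [mk, Matrix.J, Matrix.mul_apply, Fintype.sum_sum_type, Matrix.one_apply] <;>
        first
          | linear_combination hM
          | linear_combination -hM
          | linear_combination (2 : F) * hM
          | linear_combination (-2 : F) * hM
          | linear_combination (0 : F) * hM
    set x : Matrix.symplecticGroup (Fin (2 ^ 0)) F := ⟨mk !![0, -1; 1, 0], hmem !![0, -1; 1, 0] (by simp [Matrix.det_fin_two])⟩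
    set y : Matrix.symplecticGroup (Fin (2 ^ 0)) F := ⟨mk !![a, b; b, -a],
      hmem !![a, b; b, -a] (by simp [Matrix.det_fin_two]; linear_combination -hab)⟩
    have hx4 : x ^ 4 = 1 := by
      apply Subtype.ext
      rw [SubmonoidClass.coe_pow]
      ext u v
      rcases u with u | u <;> rcases v with v | v <;> fin_cases u <;> fin_cases v <;>
        simp [x, mk, pow_succ, Matrix.mul_apply, Fintype.sum_sum_type]
    have hy4 : y ^ 4 = 1 := by
      apply Subtype.ext
      rw [SubmonoidClass.coe_pow]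
      ext u v
      rcases u with u | u <;> rcases v with v | v <;> fin_cases u <;> fin_cases v <;>
        simp [y, mk, pow_succ, Matrix.mul_apply, Fintype.sum_sum_type] <;>
        first
          | linear_combination (a ^ 2 + b ^ 2 - 1) * hab
          | ring
    have hxy : y * x = x * (x * x) * y := by
      apply Subtype.ext
      ext u v
      rcases u with u | u <;> rcases v with v | v <;> fin_cases u <;> fin_cases v <;>
        simp [x, y, mk, Matrix.mul_apply, Fintype.sum_sum_type]
    have hne : x * x ≠ 1 := by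
      intro h
      have h1 : (x * x).1 (Sum.inl 0) (Sum.inl 0) = 1 := by rw [h]; exact Matrix.one_apply_eq _
      simp [x, mk, Matrix.mul_apply, Fintype.sum_sum_type] at h1
      exact h2 (by linear_combination -h1)
    have hP : ∀ z : Matrix.symplecticGroup (Fin (2 ^ 0)) F, z ^ 4 = 1 → IsPGroup 2 (Subgroup.zpowers z) := fun z hz =>
      IsPGroup.of_card (Classical.choose_spec ((Nat.dvd_prime_pow Nat.prime_two).1
        (show Nat.card (Subgroup.zpowers z) ∣ 2 ^ 2 by
          rw [Nat.card_zpowers]; exact orderOf_dvd_of_pow_eq_one hz))).2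
    refine ⟨Subgroup.zpowers x ⊔ Subgroup.zpowers y,
      IsPGroup.to_sup_of_normal_left' (hP x hx4) (hP y hy4) ?_, fun h => ?_⟩
    · rw [Subgroup.zpowers_le, Subgroup.mem_normalizer_iff]
      intro z
      have hc : y * x * y⁻¹ = x⁻¹ := by
        rw [hxy, mul_inv_cancel_right]
        exact eq_inv_of_mul_eq_one_left (by rw [← hx4, pow_succ, pow_succ, pow_succ, pow_one, mul_assoc x x x])
      have himg : (Subgroup.zpowers x).map (MulAut.conj y).toMonoidHom = Subgroup.zpowers x := by
        rw [MonoidHom.map_zpowers]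
        show Subgroup.zpowers (y * x * y⁻¹) = _
        rw [hc, Subgroup.zpowers_inv]
      constructor
      · intro hz
        rw [← himg]
        exact ⟨z, hz, rfl⟩
      · intro hz
        rw [← himg] at hz
        obtain ⟨w, hw, e⟩ := hz
        have : w = z := (MulAut.conj y).injective e
        exact this ▸ hw
    · have hmem : ⁅y, x⁆ ∈ dser (Subgroup.zpowers x ⊔ Subgroup.zpowers y) (0 + 1) :=
        Subgroup.commutator_mem_commutator (Subgroup.mem_sup_right (Subgroup.mem_zpowers y))
          (Subgroup.mem_sup_left (Subgroup.mem_zpowers x))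
      rw [h, Subgroup.mem_bot, commutatorElement_def, hxy, mul_inv_cancel_right] at hmem
      apply hne
      rw [← hmem]
      group
  | k + 1 => by
    classical
    have hIH : ∀ a, a = 2 ^ k → ∃ H : Subgroup (Matrix.symplecticGroup (Fin a) F),
        IsPGroup 2 ↥H ∧ dser H (k + 1) ≠ ⊥ := fun a ha => by
      subst ha
      exact exists_witness h2 k
    obtain ⟨a, ha⟩ : ∃ a, a = 2 ^ k := ⟨_, rfl⟩
    obtain ⟨H, hH, hne⟩ := hIH a ha
    suffices h : ∃ H' : Subgroup (Matrix.symplecticGroup (Fin (a + a)) F),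
        IsPGroup 2 ↥H' ∧ dser H' (k + 1 + 1) ≠ ⊥ by
      rw [show 2 ^ (k + 1) = a + a by rw [ha]; ring]
      exact h
    set sw : Matrix ((Fin a ⊕ Fin a) ⊕ (Fin a ⊕ Fin a)) ((Fin a ⊕ Fin a) ⊕ (Fin a ⊕ Fin a)) F :=
      Matrix.fromBlocks 0 1 1 0 with hsw
    have hblk : ∀ M, blk (a := a) (b := a) (M.submatrix (e a a) (e a a) : Matrix _ _ F) = M := fun M => by
      ext i j; simp [blk]
    set σ : Matrix.symplecticGroup (Fin (a + a)) F := ⟨sw.submatrix (e a a) (e a a), by
      rw [mem_iff, hblk, hsw, Matrix.fromBlocks_transpose, Matrix.fromBlocks_multiply, Matrix.fromBlocks_multiply]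
      simp⟩
    have hσ2 : σ * σ = 1 := by
      apply Subtype.ext
      apply blk_injective
      show blk (σ.1 * σ.1) = _
      rw [blk_mul, hblk, hsw, Matrix.fromBlocks_multiply]
      simp [blk, Matrix.fromBlocks_one, Matrix.submatrix_one_equiv]
    have hσΦ : ∀ x y, σ * Φ a a (x, y) = Φ a a (y, x) * σ := fun x y => by
      apply Subtype.ext
      apply blk_injective
      show blk (σ.1 * (Φ a a (x, y)).1) = blk ((Φ a a (y, x)).1 * σ.1)
      rw [blk_mul, blk_mul, hblk, blk_Φ, blk_Φ, hsw, Matrix.fromBlocks_multiply, Matrix.fromBlocks_multiply]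
      simp
    set B := (H.prod H).map (Φ a a) with hB
    have hσinv : σ⁻¹ = σ := inv_eq_of_mul_eq_one_right hσ2
    have hconj : ∀ z ∈ B, σ * z * σ⁻¹ ∈ B := by
      rintro _ ⟨⟨x, y⟩, ⟨hx, hy⟩, rfl⟩
      exact ⟨(y, x), ⟨hy, hx⟩, by rw [hσΦ, mul_inv_cancel_right]⟩
    have hBp : IsPGroup 2 ↥B := IsPGroup.map (fun z => by
      obtain ⟨i, hi⟩ := hH ⟨z.1.1, z.2.1⟩
      obtain ⟨j, hj⟩ := hH ⟨z.1.2, z.2.2⟩
      refine ⟨i + j, Subtype.ext (Prod.ext ?_ ?_)⟩
      · have : z.1.1 ^ 2 ^ i = 1 := congrArg Subtype.val hi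
        show z.1.1 ^ 2 ^ (i + j) = 1
        rw [pow_add, pow_mul, this, one_pow]
      · have : z.1.2 ^ 2 ^ j = 1 := congrArg Subtype.val hj
        show z.1.2 ^ 2 ^ (i + j) = 1
        rw [pow_add, mul_comm, pow_mul, this, one_pow]) _
    have hσp : IsPGroup 2 (Subgroup.zpowers σ) := IsPGroup.of_card (Classical.choose_spec
      ((Nat.dvd_prime_pow Nat.prime_two).1 (show Nat.card (Subgroup.zpowers σ) ∣ 2 ^ 1 by
        rw [Nat.card_zpowers, pow_one]; exact orderOf_dvd_of_pow_eq_one (by rw [sq, hσ2])))).2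
    refine ⟨B ⊔ Subgroup.zpowers σ, IsPGroup.to_sup_of_normal_left' hBp hσp ?_, ?_⟩
    · rw [Subgroup.zpowers_le, Subgroup.mem_normalizer_iff]
      refine fun z => ⟨hconj z, fun hz => ?_⟩
      have := hconj _ hz
      rwa [show σ * (σ * z * σ⁻¹) * σ⁻¹ = (σ * σ) * z * (σ * σ)⁻¹ by group, hσ2, one_mul, inv_one, mul_one] at this
    set H' := B ⊔ Subgroup.zpowers σ with hH'
    have key : ∀ i, ∀ x ∈ dser H i, ∃ z, Φ a a (x, z) ∈ dser H' (i + 1) := by
      intro i
      induction i with
      | zero =>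
        intro x hx
        refine ⟨x⁻¹, ?_⟩
        have h1 : Φ a a (x, 1) ∈ H' := Subgroup.mem_sup_left ⟨(x, 1), ⟨hx, H.one_mem⟩, rfl⟩
        have h2' : σ ∈ H' := Subgroup.mem_sup_right (Subgroup.mem_zpowers σ)
        have := Subgroup.commutator_mem_commutator h1 h2'
        rw [commutatorElement_def, ← map_inv, Prod.inv_mk, inv_one, mul_assoc (Φ a a (x, 1)), hσΦ, ← mul_assoc,
          mul_inv_cancel_right, ← map_mul, Prod.mk_mul_mk, mul_one, one_mul] at this
        exact this
      | succ i ih =>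
        have hle : dser H (i + 1) ≤ ((dser H' (i + 1 + 1)).comap (Φ a a)).map (MonoidHom.fst _ _) := by
          show ⁅dser H i, dser H i⁆ ≤ _
          rw [Subgroup.commutator_le]
          intro x hx y hy
          obtain ⟨z, hz⟩ := ih x hx
          obtain ⟨w, hw⟩ := ih y hy
          refine ⟨⁅(x, z), (y, w)⁆, ?_, rfl⟩
          show Φ a a ⁅(x, z), (y, w)⁆ ∈ dser H' (i + 1 + 1)
          rw [map_commutatorElement]
          exact Subgroup.commutator_mem_commutator hz hw
        intro x hx
        obtain ⟨⟨x', z⟩, hz, rfl⟩ := hle hx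
        exact ⟨z, hz⟩
    intro hbot
    refine hne ((Subgroup.eq_bot_iff_forall _).2 fun x hx => ?_)
    obtain ⟨z, hz⟩ := key (k + 1) x hx
    rw [hbot, Subgroup.mem_bot] at hz
    exact (Prod.ext_iff.1 (Φ_injective (hz.trans (map_one _).symm))).1

/-- Let q be odd, F a field with q elements and n ≥ 1. A Sylow 2-subgroup R of the symplectic group Sp_{2n}(F) has derived length exactly k + 1, where 2^k ≤ 2n < 2^{k+1}: the (k+1)-st term of its derived series is trivial and the k-th is not. -/
theorem result {F : Type*} [Field F] [Fintype F] [DecidableEq F] (q : ℕ) (hF : Fintype.card F = q) (hq : Odd q) (n : ℕ) (hn : 1 ≤ n) (R : Sylow 2 ↥(Matrix.symplecticGroup (Fin n) F)) : derivedSeries ↥(R : Subgroup ↥(Matrix.symplecticGroup (Fin n) F)) (Nat.log 2 (2 * n) + 1) = ⊥ ∧ derivedSeries ↥(R : Subgroup ↥(Matrix.symplecticGroup (Fin n) F)) (Nat.log 2 (2 * n)) ≠ ⊥ := by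
  classical
  subst hF
  have h2 : (2 : F) ≠ 0 := CfsgLib.FiniteForms.two_ne_zero_of_odd rfl hq
  refine ⟨?_, ?_⟩
  · let f : Fin n ⊕ Fin n ≃ Fin (2 * n) := (finSumFinEquiv).trans (finCongr (by omega))
    let ρ := Matrix.reindexAlgEquiv F F f
    let φ : Matrix.symplecticGroup (Fin n) F →* GL (Fin (2 * n)) F :=
      (Units.map (ρ.toAlgHom.toMonoidHom.comp (Matrix.symplecticGroup (Fin n) F).subtype)).comp toUnits.toMonoidHom
    have hφ : Function.Injective φ := fun a b hab => Subtype.ext (ρ.injective (congrArg Units.val hab))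
    exact Cfsg.Agent.S4010.result 2 R.2 F (2 * n) (by omega) (φ.comp R.1.subtype)
      (fun a b h => Subtype.ext (hφ h))
  · obtain ⟨H, hH, hne⟩ := exists_witness (F := F) h2 (Nat.log 2 n)
    have hlog : Nat.log 2 (2 * n) = Nat.log 2 n + 1 := by rw [mul_comm, Nat.log_mul_base (by norm_num) (by omega)]
    rw [hlog]
    obtain ⟨r, hr⟩ := Nat.exists_eq_add_of_le (Nat.pow_log_le_self 2 (show n ≠ 0 by omega))
    generalize Nat.log 2 n = k at hr H hH hne ⊢
    subst hr
    let ι : Matrix.symplecticGroup (Fin (2 ^ k)) F →* Matrix.symplecticGroup (Fin (2 ^ k + r)) F :=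
      (Φ (2 ^ k) r).comp (MonoidHom.inl _ _)
    have hι : Function.Injective ι := fun x y h => (Prod.ext_iff.1 (Φ_injective h)).1
    obtain ⟨P, hP⟩ := (hH.map ι).exists_le_sylow
    intro hbot
    apply hne
    have e : ↥R.1 ≃* ↥P.1 := R.equiv P
    have hPbot : derivedSeries ↥P.1 (k + 1) = ⊥ := by
      rw [← map_derivedSeries_eq (f := e.toMonoidHom) e.surjective, hbot, Subgroup.map_bot]
    rw [← dser_eq_bot_iff] at hPbot
    have h1 : (dser H (k + 1)).map ι = ⊥ := le_bot_iff.1 (by rw [dser_map, ← hPbot]; exact dser_mono hP _)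
    exact (Subgroup.map_eq_bot_iff_of_injective _ hι).1 h1

end Cfsg.Agent.S2648
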