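import Cfsg.Statements.S2653
import Cfsg.Agent.Lib.AltLinear.Reduce

set_option autoImplicit false
open scoped MatrixGroups
open Cfsg

namespace Cfsg.Agent.S2653

/-- Alternating sections of finite linear groups. Let `F` be a finite field of characteristic `p` and `n` a natural number, and suppose some subgroup `H` of GL_n(F) has a normal subgroup `K` with `H ⧸ K` isomorphic to the alternating group of degree `r ≥ 9`. Then `n ≥ r - 2` when `p` divides `r`, and `n ≥ r - 1` otherwise (the smallest degree of a nontrivial projective representation of that alternating group in characteristic `p`). The same bound follows for every classical group with natural module of dimension `n` over `F`, since each is a section of a subgroup of GL_n(F). -/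
theorem result {F : Type*} [Field F] [Fintype F] (p : ℕ) [Fact p.Prime] [CharP F p]
    (n : ℕ) (r : ℕ) (H : Subgroup (GL (Fin n) F)) (K : Subgroup ↥H) [K.Normal]
    (h : Nonempty (↥H ⧸ K ≃* ↥(alternatingGroup (Fin r)))) (hr : 9 ≤ r) :
    r - 1 - (if p ∣ r then 1 else 0) ≤ n := by
  obtain ⟨e⟩ := h
  letI : Algebra (ZMod p) F := ZMod.algebra F p
  let K₀ := AlgebraicClosure (ZMod p)
  haveI : CharP K₀ p := charP_of_injective_algebraMap' (ZMod p) p
  haveI : Algebra.IsAlgebraic (ZMod p) F := Algebra.IsAlgebraic.of_finite (ZMod p) F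
  let f : F →+* K₀ := (IsAlgClosed.lift (R := ZMod p) (S := F) (M := K₀)).toRingHom
  let ι : GL (Fin n) F →* GL (Fin n) K₀ := Units.map f.mapMatrix.toMonoidHom
  have hι : Function.Injective ι := fun a b hab =>
    Units.ext (Matrix.map_injective f.injective (congrArg Units.val hab))
  let H' : Subgroup (GL (Fin n) K₀) := H.map ι
  haveI : Finite ↥H' := Finite.of_equiv _ (H.equivMapOfInjective ι hι).toEquiv
  let π : ↥H' →* CfsgLib.AltLinear.Alt r :=
    (e.toMonoidHom.comp (QuotientGroup.mk' K)).comp (H.equivMapOfInjective ι hι).symm.toMonoidHom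
  have hπ : Function.Surjective π := by
    intro a
    obtain ⟨q, hq⟩ := e.surjective a
    obtain ⟨x, rfl⟩ := QuotientGroup.mk'_surjective K q
    exact ⟨H.equivMapOfInjective ι hι x, by simp [π, ← hq]⟩
  let ρ : ↥H' →* Module.End K₀ (Fin n → K₀) :=
    (Matrix.toLinAlgEquiv' (R := K₀)).toMonoidHom.comp ((Units.coeHom _).comp H'.subtype)
  obtain ⟨h1, h2⟩ := CfsgLib.AltLinear.alt_bound n K₀ p r hr ↥H' π hπ (Fin n → K₀) ρ (fun g hg => by
    have hg1 : ρ g = 1 := LinearMap.ext hg
    have hg2 : g = 1 := Subtype.ext (Units.ext ((Matrix.toLinAlgEquiv' (R := K₀)).injective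
      (hg1.trans (map_one _).symm)))
    rw [hg2, map_one]) (by simp)
  split
  · omega
  · next hp =>
    have := h2 fun h0 => hp ((CharP.cast_eq_zero_iff K₀ p r).mp h0)
    omega

end Cfsg.Agent.S2653
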