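import Cfsg.Statements.S2657
import Cfsg.Agent.Lib.AltSection.F4

set_option autoImplicit false
open scoped MatrixGroups
open Cfsg

namespace Cfsg.Agent.S2657

open CfsgLib.AltSection CfsgLib.Chev Equiv

/-- An element of order eleven. -/
def cyc : Perm (Fin 11) := finRotate 11

/-- An element cubing the eleven-cycle. -/
def cub : Perm (Fin 11) := ⟨fun i => 3 * i, fun i => 4 * i, by decide, by decide⟩

theorem cyc_pow : cyc ^ 11 = 1 := by decide +kernel

theorem cub_pow : cub ^ 5 = 1 := by decide +kernel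

theorem cub_conj : cub * cyc * cub⁻¹ = cyc ^ 3 := by decide +kernel

theorem cyc_ne : cyc ≠ 1 := by decide +kernel

/-- An element of order seven. -/
def c7 : Perm (Fin 12) := ⟨![1, 2, 3, 4, 5, 6, 0, 7, 8, 9, 10, 11], ![6, 0, 1, 2, 3, 4, 5, 7, 8, 9, 10, 11],
  by decide, by decide⟩

/-- An element of order five. -/
def c5 : Perm (Fin 12) := ⟨![0, 1, 2, 3, 4, 5, 6, 8, 9, 10, 11, 7], ![0, 1, 2, 3, 4, 5, 6, 11, 7, 8, 9, 10],
  by decide, by decide⟩

/-- An element normalising both. -/
def mix : Perm (Fin 12) :=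
  swap 1 3 * swap 3 2 * swap 2 6 * swap 6 4 * swap 4 5 * (swap 8 9 * swap 9 11 * swap 11 10)

theorem c7_pow : c7 ^ 7 = 1 := by decide +kernel

theorem c5_pow : c5 ^ 5 = 1 := by decide +kernel

theorem c7_ne : c7 ≠ 1 := by decide +kernel

theorem c5_ne : c5 ≠ 1 := by decide +kernel

theorem c_comm : c7 * c5 = c5 * c7 := by decide +kernel

theorem mix_c7 : mix * c7 * mix⁻¹ = c7 ^ 3 := by decide +kernel

theorem mix_c5 : mix * c5 * mix⁻¹ = c5 ^ 2 := by decide +kernel

theorem mix_even : Perm.sign mix = 1 := by simp [mix, Perm.sign_swap']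

theorem sign_odd_order {α : Type} [Fintype α] [DecidableEq α] {x : Perm α} {k : ℕ} (hk : Odd k) (h : x ^ k = 1) :
    x ∈ alternatingGroup α := by
  rw [Perm.mem_alternatingGroup]
  have e := congrArg Perm.sign h
  rw [map_pow, map_one] at e
  rcases Int.units_eq_one_or (Perm.sign x) with h1 | h1
  · exact h1
  · rw [h1, hk.neg_one_pow] at e
    exact absurd e (by decide)

/-- Alternating sections of the groups of type F₄. Let `F` be a finite field of characteristic `p` and let `G` be the Chevalley group of type F₄ over `F`. If some subgroup of `G` has a quotient isomorphic to the alternating group of degree `r`, then `r` is at most 10, or 11 in characteristic 11. (Only an upper bound is asserted.) -/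
theorem result {F : Type*} [Field F] [Fintype F] (p : ℕ) [Fact p.Prime] [CharP F p]
    (r : ℕ) (H : Subgroup ↥(Cfsg.Lie.chevF4.group F)) (K : Subgroup ↥H) [K.Normal]
    (h : Nonempty (↥H ⧸ K ≃* ↥(alternatingGroup (Fin r)))) :
    r ≤ 10 + (if p = 11 then 1 else 0) := by
  obtain ⟨e⟩ := h
  have hπ : Function.Surjective (e.toMonoidHom.comp (QuotientGroup.mk' K)) :=
    e.surjective.comp (QuotientGroup.mk'_surjective K)
  split_ifs with hp
  · by_contra hr
    subst hp
    obtain ⟨F', i1, i2, i3, ι, hι, hq⟩ := CfsgLib.Chev.chevF4.exists_big_field (F := F) 11 (show 0 < 35 by norm_num)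
      (by norm_num)
    obtain ⟨H', π', hπ'⟩ := exists_section_map ι hι H _ hπ
    set g := altEmb (show 12 ≤ r by omega)
    have hq7 : Nat.card F' % 7 = 1 := by omega
    have hq5 : Nat.card F' % 5 = 1 := by omega
    refine F4Alt.no_frobenius_thirtyfive hq7 hq5 H' π' hπ'
      (c₁ := g ⟨c7, sign_odd_order (by decide) c7_pow⟩) (c₂ := g ⟨c5, sign_odd_order (by decide) c5_pow⟩)
      (s := g ⟨mix, Perm.mem_alternatingGroup.mpr mix_even⟩) ?_ ?_ ?_ ?_ ?_ ?_ ?_
    · rw [← map_pow, ← map_one g]
      exact congrArg g (Subtype.ext c7_pow)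
    · rw [ne_eq, map_eq_one_iff _ (altEmb_injective _)]
      exact fun h => c7_ne (congrArg Subtype.val h)
    · rw [← map_pow, ← map_one g]
      exact congrArg g (Subtype.ext c5_pow)
    · rw [ne_eq, map_eq_one_iff _ (altEmb_injective _)]
      exact fun h => c5_ne (congrArg Subtype.val h)
    · rw [← map_mul, ← map_mul]
      exact congrArg g (Subtype.ext c_comm)
    · rw [← map_inv, ← map_mul, ← map_mul, ← map_pow]
      exact congrArg g (Subtype.ext mix_c7)
    · rw [← map_inv, ← map_mul, ← map_mul, ← map_pow]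
      exact congrArg g (Subtype.ext mix_c5)
  · by_contra hr
    have hp11 : p.Coprime 11 := (Nat.coprime_primes Fact.out (by norm_num)).mpr hp
    obtain ⟨F', i1, i2, i3, ι, hι, hq⟩ := CfsgLib.Chev.chevF4.exists_big_field (F := F) p (by norm_num) hp11
    obtain ⟨H', π', hπ'⟩ := exists_section_map ι hι H _ hπ
    set g := altEmb (show 11 ≤ r by omega)
    refine F4Alt.no_frobenius_fiftyfive (by simpa using hq) H' π' hπ'
      (c := g ⟨cyc, sign_odd_order (by decide) cyc_pow⟩) (s := g ⟨cub, sign_odd_order (by decide) cub_pow⟩) ?_ ?_ ?_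
    · rw [← map_pow, ← map_one g]
      exact congrArg g (Subtype.ext cyc_pow)
    · rw [ne_eq, map_eq_one_iff _ (altEmb_injective _)]
      exact fun h => cyc_ne (congrArg Subtype.val h)
    · rw [← map_inv, ← map_mul, ← map_mul, ← map_pow]
      exact congrArg g (Subtype.ext cub_conj)

end Cfsg.Agent.S2657
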