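import Cfsg.Statements.S2658
import Cfsg.Agent.Lib.AltSection.G2

set_option autoImplicit false
open scoped MatrixGroups
open Cfsg

namespace Cfsg.Agent.S2658

open CfsgLib.AltSection CfsgLib.Chev

/-- A five-cycle. -/
def cyc : Equiv.Perm (Fin 7) := ⟨![1, 2, 3, 4, 0, 5, 6], ![4, 0, 1, 2, 3, 5, 6], by decide, by decide⟩

/-- An element squaring the five-cycle. -/
def sqr : Equiv.Perm (Fin 7) := ⟨![0, 2, 4, 1, 3, 6, 5], ![0, 3, 1, 4, 2, 6, 5], by decide, by decide⟩

theorem cyc_even : cyc ∈ alternatingGroup (Fin 7) := by rw [Equiv.Perm.mem_alternatingGroup]; decide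

theorem sqr_even : sqr ∈ alternatingGroup (Fin 7) := by rw [Equiv.Perm.mem_alternatingGroup]; decide

theorem cyc_pow : cyc ^ 5 = 1 := by decide

theorem cyc_ne : cyc ≠ 1 := by decide

theorem sqr_conj : sqr * cyc * sqr⁻¹ = cyc ^ 2 := by decide

/-- Alternating sections of the groups of type G₂. Let `F` be a finite field of characteristic `p` and let `G` be the Chevalley group of type G₂ over `F`. If some subgroup of `G` has a quotient isomorphic to the alternating group of degree `r`, then `r` is at most 6, or 7 in characteristic 5. (Only an upper bound is asserted.) -/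
theorem result {F : Type*} [Field F] [Fintype F] (p : ℕ) [Fact p.Prime] [CharP F p]
    (r : ℕ) (H : Subgroup ↥(Cfsg.Lie.chevG2.group F)) (K : Subgroup ↥H) [K.Normal]
    (h : Nonempty (↥H ⧸ K ≃* ↥(alternatingGroup (Fin r)))) :
    r ≤ 6 + (if p = 5 then 1 else 0) := by
  obtain ⟨e⟩ := h
  have hπ : Function.Surjective (e.toMonoidHom.comp (QuotientGroup.mk' K)) :=
    e.surjective.comp (QuotientGroup.mk'_surjective K)
  split_ifs with hp
  · by_contra hr
    have hq : Nat.card F % 4 = 1 := by
      obtain ⟨n, -, hn⟩ := FiniteField.card F p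
      rw [Nat.card_eq_fintype_card, hn, hp, Nat.pow_mod]
      simp
    set f := altEmb (show 8 ≤ r by omega)
    let H' : Subgroup ↥H := f.range.comap (e.toMonoidHom.comp (QuotientGroup.mk' K))
    let ef := MonoidHom.ofInjective (altEmb_injective (show 8 ≤ r by omega))
    let π' : ↥H' →* ↥(alternatingGroup (Fin 8)) :=
      ef.symm.toMonoidHom.comp (((e.toMonoidHom.comp (QuotientGroup.mk' K)).comp H'.subtype).codRestrict _ fun x => x.2)
    have hπ' : Function.Surjective π' := by
      refine ef.symm.surjective.comp ?_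
      rintro ⟨y, hy⟩
      obtain ⟨x, rfl⟩ := hπ y
      exact ⟨⟨x, hy⟩, rfl⟩
    obtain ⟨H'', π'', hπ''⟩ := exists_section_map H.subtype H.subtype_injective H' π' hπ'
    exact G2Alt.no_a8 hq H'' π'' hπ''
  · by_contra hr
    have hp5 : p.Coprime 5 := (Nat.coprime_primes Fact.out (by norm_num)).mpr hp
    obtain ⟨F', i1, i2, i3, ι, hι, hq⟩ := CfsgLib.Chev.chevG2.exists_big_field (F := F) p (by norm_num) hp5
    obtain ⟨H', π', hπ'⟩ := exists_section_map ι hι H _ hπ
    set g := altEmb (show 7 ≤ r by omega)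
    refine G2Alt.no_frobenius_twenty (by simpa using hq) H' π' hπ'
      (c := g ⟨cyc, cyc_even⟩) (s := g ⟨sqr, sqr_even⟩) ?_ ?_ ?_
    · rw [← map_pow, show (⟨cyc, cyc_even⟩ : ↥(alternatingGroup (Fin 7))) ^ 5 = 1 from Subtype.ext cyc_pow, map_one]
    · rw [ne_eq, map_eq_one_iff _ (altEmb_injective _)]
      exact fun h => cyc_ne (congrArg Subtype.val h)
    · rw [← map_inv, ← map_mul, ← map_mul, ← map_pow]
      exact congrArg g (Subtype.ext sqr_conj)

end Cfsg.Agent.S2658
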