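import Cfsg.Statements.S2660
import Cfsg.Agent.Lib.AltSection.D4

set_option autoImplicit false
open scoped MatrixGroups
open Cfsg

namespace Cfsg.Agent.S2660

open CfsgLib.AltSection CfsgLib.Chev

/-- A five-cycle. -/
def cyc : Equiv.Perm (Fin 7) := ⟨![1, 2, 3, 4, 0, 5, 6], ![4, 0, 1, 2, 3, 5, 6], by decide, by decide⟩

/-- An element squaring the five-cycle. -/
def sqr : Equiv.Perm (Fin 7) := ⟨![0, 2, 4, 1, 3, 6, 5], ![0, 3, 1, 4, 2, 6, 5], by decide, by decide⟩

theorem cyc_even : cyc ∈ alternatingGroup (Fin 7) := by rw [Equiv.Perm.mem_alternatingGroup]; decide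

theorem sqr_even : sqr ∈ alternatingGroup (Fin 7) := by rw [Equiv.Perm.mem_alternatingGroup]; decide

theorem cyc_pow : cyc ^ 5 = 1 := by decide

theorem cyc_ne : cyc ≠ 1 := by decide

theorem sqr_conj : sqr * cyc * sqr⁻¹ = cyc ^ 2 := by decide

/-- Alternating sections of the triality-twisted groups ³D₄. Let `q = p^a` be a prime power and `K` a field with `q³` elements, and let `G` be the twisted group ³D₄(q) realised over `K`. If some subgroup of `G` has a quotient isomorphic to the alternating group of degree `r`, then `r` is at most 6, or 7 in characteristic 5. (Only an upper bound is asserted.) -/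
theorem result {K : Type*} [Field K] [Fintype K] (p a : ℕ) [Fact p.Prime] [CharP K p]
    (ha : 1 ≤ a) (hK : Fintype.card K = (p ^ a) ^ 3) (r : ℕ) (H : Subgroup ↥(Cfsg.Lie.twistedD4 K (p ^ a))) (N : Subgroup ↥H) [N.Normal]
    (h : Nonempty (↥H ⧸ N ≃* ↥(alternatingGroup (Fin r)))) :
    r ≤ 6 + (if p = 5 then 1 else 0) := by
  have hp : p.Prime := Fact.out
  have hq : IsPrimePow (p ^ a) := hp.isPrimePow.pow (by omega)
  obtain ⟨e⟩ := h
  have hπ : Function.Surjective (e.toMonoidHom.comp (QuotientGroup.mk' N)) :=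
    e.surjective.comp (QuotientGroup.mk'_surjective N)
  split_ifs with hp5
  · by_contra hr
    have hq4 : p ^ a % 4 = 1 := by rw [hp5, Nat.pow_mod]; simp
    let H' : Subgroup ↥H := (altEmb (show 8 ≤ r by omega)).range.comap (e.toMonoidHom.comp (QuotientGroup.mk' N))
    let ef := MonoidHom.ofInjective (altEmb_injective (show 8 ≤ r by omega))
    let π' : ↥H' →* ↥(alternatingGroup (Fin 8)) :=
      ef.symm.toMonoidHom.comp (((e.toMonoidHom.comp (QuotientGroup.mk' N)).comp H'.subtype).codRestrict _ fun x => x.2)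
    have hπ' : Function.Surjective π' := by
      refine ef.symm.surjective.comp ?_
      rintro ⟨y, hy⟩
      obtain ⟨x, rfl⟩ := hπ y
      exact ⟨⟨x, hy⟩, rfl⟩
    obtain ⟨H'', π'', hπ''⟩ := exists_section_map H.subtype H.subtype_injective H' π' hπ'
    exact T3D4.no_a8 hq hK hq4 H'' π'' hπ''
  · by_contra hr
    obtain ⟨K', i1, i2, ι, hι, hK'⟩ := T3D4.exists_extension (q := p ^ a) p hK
    obtain ⟨H', π', hπ'⟩ := exists_section_map ι hι H _ hπ
    have hq5 : (p ^ a) ^ 4 % 5 = 1 := by
      have h5 : ¬ 5 ∣ p ^ a := fun h5 =>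
        hp5 ((Nat.prime_dvd_prime_iff_eq (by norm_num) hp).mp (Nat.Prime.dvd_of_dvd_pow (by norm_num) h5)).symm
      have hlt := Nat.mod_lt (p ^ a) (show 5 > 0 by norm_num)
      rw [Nat.pow_mod]
      interval_cases h0 : p ^ a % 5
      · exact absurd (Nat.dvd_of_mod_eq_zero h0) h5
      all_goals norm_num
    set g := altEmb (show 7 ≤ r by omega)
    refine T3D4.no_frobenius_twenty (hq.pow (by norm_num)) hK' hq5 H' π' hπ'
      (c := g ⟨cyc, cyc_even⟩) (s := g ⟨sqr, sqr_even⟩) ?_ ?_ ?_
    · rw [← map_pow, ← map_one g]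
      exact congrArg g (Subtype.ext cyc_pow)
    · rw [ne_eq, map_eq_one_iff _ (altEmb_injective _)]
      exact fun h => cyc_ne (congrArg Subtype.val h)
    · rw [← map_inv, ← map_mul, ← map_mul, ← map_pow]
      exact congrArg g (Subtype.ext sqr_conj)

end Cfsg.Agent.S2660
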