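import Cfsg.Statements.S2661
import Cfsg.Agent.Lib.Chev.Twist.TorusFusionF4

set_option autoImplicit false
open scoped MatrixGroups
open Cfsg

namespace Cfsg.Agent.S2661

/-- The doubling map on seven points. -/
def dbl : Equiv.Perm (Fin 7) := ⟨fun i => 2 * i, fun i => 4 * i, by decide, by decide⟩

theorem sign_finRotate7 : Equiv.Perm.sign (finRotate 7) = 1 := by decide

theorem sign_dbl : Equiv.Perm.sign dbl = 1 := by decide

theorem finRotate_pow : finRotate 7 ^ 7 = 1 := by decide

theorem dbl_conj : dbl * finRotate 7 * dbl⁻¹ = finRotate 7 ^ 2 := by decide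

theorem finRotate_ne : finRotate 7 ≠ 1 := by decide

/-- Alternating sections of the large Ree groups ²F₄. Let `m ≥ 1`, let `K` be a field with `2^(2m+1)` elements and let `G` be the large Ree group ²F₄(2^(2m+1)) realised over `K`. If some subgroup of `G` has a quotient isomorphic to the alternating group of degree `r`, then `r ≤ 6`. (Only an upper bound is asserted.) -/
theorem result {K : Type*} [Field K] [Fintype K] {m : ℕ} (hm : 1 ≤ m)
    (hK : Fintype.card K = 2 ^ (2 * m + 1)) (r : ℕ) (H : Subgroup ↥(Cfsg.Lie.twistedF4 K (2 ^ m))) (N : Subgroup ↥H) [N.Normal]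
    (h : Nonempty (↥H ⧸ N ≃* ↥(alternatingGroup (Fin r)))) :
    r ≤ 6 := by
  by_contra hr
  obtain ⟨e⟩ := h
  let ι : Fin 7 ↪ Fin r := Fin.castLEEmb (by omega)
  let φ := Equiv.Perm.viaEmbeddingHom ι
  have hev : ∀ p : Equiv.Perm (Fin 7), Equiv.Perm.sign p = 1 → φ p ∈ alternatingGroup (Fin r) := by
    intro p hp
    rw [Equiv.Perm.mem_alternatingGroup, ← hp]
    simp only [φ, Equiv.Perm.viaEmbeddingHom_apply, Equiv.Perm.viaEmbedding]
    convert Equiv.Perm.sign_extendDomain p (Equiv.ofInjective ι.1 ι.2)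
  refine CfsgLib.Chev.T2F4.no_section_twentyone hK H (e.toMonoidHom.comp (QuotientGroup.mk' N))
    (e.surjective.comp (QuotientGroup.mk'_surjective N))
    (c := ⟨φ (finRotate 7), hev _ sign_finRotate7⟩) (s := ⟨φ dbl, hev _ sign_dbl⟩)
    (Subtype.ext ?_) ?_ (Subtype.ext ?_)
  · simp only [Subgroup.coe_pow, Subgroup.coe_one]
    rw [← map_pow, finRotate_pow, map_one]
  · intro hc
    apply finRotate_ne
    apply Equiv.Perm.viaEmbeddingHom_injective ι
    rw [map_one]
    exact congrArg Subtype.val hc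
  · simp only [Subgroup.coe_pow, Subgroup.coe_mul, Subgroup.coe_inv]
    rw [← map_inv, ← map_mul, ← map_mul, ← map_pow, dbl_conj]

end Cfsg.Agent.S2661
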