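import Cfsg.Statements.S2665
-- import your own Cfsg.Agent.* helpers here

set_option autoImplicit false
open scoped MatrixGroups
open Cfsg
open Matrix

namespace Cfsg.Agent.S2665

open Polynomial in
/-- A nonzero root of an additive polynomial in the recursion for fixed vectors. -/
theorem exists_coeffs {K : Type*} [Field K] [IsAlgClosed K] (σ : K →+* K) (p f : ℕ) (hσ : ∀ x, σ x = x ^ p ^ f)
    [Fact p.Prime] [CharP K p] (hf : 1 ≤ f) (k : ℕ) (a : ℕ → K) (ha : a 0 ≠ 0) :
    ∃ x : ℕ → K, x k ≠ 0 ∧ x 0 = σ (x k) * a 0 ∧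
      ∀ i, i < k → x (i + 1) = σ (x i) + σ (x k) * a (i + 1) := by
  have hq1 : 1 < p ^ f := Nat.one_lt_pow (by omega) (Fact.out : p.Prime).one_lt
  set q := p ^ f
  let P : ℕ → K[X] := fun i => Nat.rec (C (a 0) * X ^ q) (fun i Pi => Pi ^ q + C (a (i + 1)) * X ^ q) i
  have hP0 : P 0 = C (a 0) * X ^ q := rfl
  have hPs : ∀ i, P (i + 1) = P i ^ q + C (a (i + 1)) * X ^ q := fun i => rfl
  have hd : ∀ i, (P i).natDegree = q ^ (i + 1) := by
    intro i
    induction i with
    | zero => rw [hP0, natDegree_C_mul_X_pow _ _ ha, zero_add, pow_one]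
    | succ i ih =>
      have h1 : (P i ^ q).natDegree = q ^ (i + 2) := by
        rw [natDegree_pow, ih, ← pow_succ']
      rw [hPs, natDegree_add_eq_left_of_natDegree_lt, h1]
      rw [h1]
      exact (natDegree_C_mul_X_pow_le _ _).trans_lt (lt_self_pow₀ hq1 (by omega))
  have hX : ∀ i, X ^ q ∣ P i := by
    intro i
    induction i with
    | zero => exact dvd_mul_left _ _
    | succ i ih => exact dvd_add (dvd_pow ih (by omega)) (dvd_mul_left _ _)
  obtain ⟨R, hR⟩ := hX k
  set H : K[X] := X ^ (q - 1) * R - 1
  have hH : P k - X = X * H := by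
    simp only [H]
    rw [mul_sub, ← mul_assoc, ← pow_succ', Nat.sub_add_cancel hq1.le, ← hR, mul_one]
  have hHd : H.degree ≠ 0 := by
    intro h0
    have hPk : (P k).natDegree ≤ 1 := by
      rw [show P k = X * H + X by rw [← hH]; ring]
      refine (natDegree_add_le _ _).trans (max_le ((natDegree_mul_le).trans ?_) natDegree_X_le)
      rw [natDegree_eq_of_degree_eq_some (h0 : H.degree = ((0 : ℕ) : WithBot ℕ)), natDegree_X]
      exact le_rfl
    rw [hd] at hPk
    have : q ≤ q ^ (k + 1) := Nat.le_self_pow (by omega) q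
    omega
  obtain ⟨z, hz⟩ := IsAlgClosed.exists_root H hHd
  have hz0 : z ≠ 0 := by
    intro h0
    rw [h0, IsRoot] at hz
    simp [H, zero_pow (by omega : q - 1 ≠ 0)] at hz
  have hPz : (P k).eval z = z := by
    have := congrArg (eval z) hH
    rwa [eval_sub, eval_X, eval_mul, hz.eq_zero, mul_zero, sub_eq_zero] at this
  refine ⟨fun i => (P i).eval z, by simpa only [hPz] using hz0, ?_, fun i _ => ?_⟩
  · simp only [hPz]
    rw [hP0, hσ, eval_mul, eval_C, eval_pow, eval_X]
    ring
  · simp only [hPz]
    rw [hPs, hσ, hσ, eval_add, eval_mul, eval_C, eval_pow, eval_pow, eval_X]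
    ring

/-- A bijective semilinear map over an algebraically closed field has a fixed basis. -/
theorem span_fixed {K : Type*} [Field K] [IsAlgClosed K] (σ : K →+* K) (p f : ℕ)
    (hσ : ∀ x, σ x = x ^ p ^ f) [Fact p.Prime] [CharP K p] (hf : 1 ≤ f) :
    ∀ (n : ℕ) (V : Type _) [AddCommGroup V] [Module K V] [FiniteDimensional K V]
      (_ : Module.finrank K V = n) (φ : V →ₛₗ[σ] V) (_ : Submodule.span K (Set.range φ) = ⊤),
      Submodule.span K {v | φ v = v} = ⊤ := by
  have hq1 : 1 < p ^ f := Nat.one_lt_pow (by omega) (Fact.out : p.Prime).one_lt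
  intro n
  induction n with
  | zero =>
    intro V _ _ _ hd φ _
    have := Module.finrank_zero_iff.mp hd
    exact Subsingleton.elim _ _
  | succ n ih =>
    intro V _ _ _ hd φ hφ
    haveI : Nontrivial V := Module.nontrivial_of_finrank_eq_succ hd
    obtain ⟨v, hv⟩ := exists_ne (0 : V)
    -- the semilinear map preserves independence
    have hind : ∀ u : Fin (n + 1) → V, LinearIndependent K u →
        LinearIndependent K (φ ∘ u) := by
      intro u hu
      refine linearIndependent_of_top_le_span_of_card_eq_finrank ?_ (by rw [Fintype.card_fin, hd])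
      rw [← hφ, Submodule.span_le]
      rintro _ ⟨y, rfl⟩
      have hy : y ∈ Submodule.span K (Set.range u) := by
        rw [hu.span_eq_top_of_card_eq_finrank (by rw [Fintype.card_fin, hd])]
        trivial
      induction hy using Submodule.span_induction with
      | mem x hx => obtain ⟨i, rfl⟩ := hx; exact Submodule.subset_span ⟨i, rfl⟩
      | zero => rw [map_zero]; exact zero_mem _
      | add x y _ _ hx hy => rw [map_add]; exact add_mem hx hy
      | smul r x _ hx => rw [LinearMap.map_smulₛₗ]; exact Submodule.smul_mem _ _ hx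
    have hker : ∀ x, φ x = 0 → x = 0 := by
      intro x hx
      by_contra hx0
      have hli : LinearIndepOn K id ({x} : Set V) := LinearIndepOn.singleton hx0
      obtain ⟨b, i, hi⟩ : ∃ (b : Module.Basis (Fin (n + 1)) K V) (i : Fin (n + 1)), b i = x := by
        let B := Module.Basis.extend hli
        haveI : Fintype ↑(LinearIndepOn.extend hli (Set.subset_univ {x})) :=
          FiniteDimensional.fintypeBasisIndex B
        let e := Fintype.equivFinOfCardEq ((Module.finrank_eq_card_basis B).symm.trans hd)
        exact ⟨B.reindex e, e ⟨x, hli.subset_extend _ rfl⟩, by simp [B]⟩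
      exact (hind b b.linearIndependent).ne_zero i (by rw [Function.comp_apply, hi, hx])
    -- the least length of a dependent chain
    obtain ⟨k, hkl, hk⟩ : ∃ k, LinearIndependent K (fun i : Fin (k + 1) => (φ^[i]) v) ∧
        ¬ LinearIndependent K (fun i : Fin (k + 2) => (φ^[i]) v) := by
      by_contra hc
      push Not at hc
      have hall : ∀ k, LinearIndependent K (fun i : Fin (k + 1) => (φ^[i]) v) := by
        intro k
        induction k with
        | zero => exact linearIndependent_unique_iff (v := fun i : Fin 1 => (φ^[i]) v) |>.mpr (by simpa using hv)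
        | succ k ih => exact hc k ih
      have := (hall (n + 1)).fintype_card_le_finrank
      rw [Fintype.card_fin, hd] at this
      omega
    set u : Fin (k + 1) → V := fun i => (φ^[i]) v
    have hlast : (φ^[k + 1]) v ∈ Submodule.span K (Set.range u) := by
      by_contra hc
      refine hk ?_
      rw [linearIndependent_fin_succ']
      exact ⟨hkl, hc⟩
    obtain ⟨a, ha⟩ := (Submodule.mem_span_range_iff_exists_fun K).mp hlast
    have hφu : ∀ x : ℕ → K, φ (∑ i : Fin (k + 1), x i • u i) =
        ∑ i : Fin (k + 1), σ (x i) • (φ^[(i : ℕ) + 1]) v := fun x => by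
      rw [map_sum]
      refine Finset.sum_congr rfl fun i _ => ?_
      rw [LinearMap.map_smulₛₗ, Function.iterate_succ_apply']
    have ha0 : a 0 ≠ 0 := by
      intro h0
      obtain ⟨m, rfl⟩ | rfl : (∃ m, k = m + 1) ∨ k = 0 := by
        rcases k with _ | m
        · exact Or.inr rfl
        · exact Or.inl ⟨m, rfl⟩
      swap
      · rw [Fin.sum_univ_one, h0, zero_smul] at ha
        exact hv (hker v (by simpa using ha.symm))
      -- pull the relation back through the map
      obtain ⟨r, hr⟩ : ∃ r : Fin (m + 1) → K, ∀ j, σ (r j) = a j.succ := by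
        have hs : ∀ y : K, ∃ z, σ z = y := fun y => by
          obtain ⟨z, hz⟩ := IsAlgClosed.exists_pow_nat_eq y (by omega : 0 < p ^ f)
          exact ⟨z, by rw [hσ, hz]⟩
        choose g hg using hs
        exact ⟨fun j => g (a j.succ), fun j => hg _⟩
      have e : φ ((φ^[m + 1]) v - ∑ j : Fin (m + 1), r j • (φ^[j]) v) = 0 := by
        rw [map_sub, map_sum, sub_eq_zero]
        rw [Fin.sum_univ_succ, h0, zero_smul, zero_add] at ha
        rw [← Function.iterate_succ_apply' (f := φ), ← ha]
        refine Finset.sum_congr rfl fun j _ => ?_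
        rw [LinearMap.map_smulₛₗ, hr, ← Function.iterate_succ_apply' (f := φ)]
        rfl
      have e' := hker _ e
      rw [sub_eq_zero] at e'
      rw [linearIndependent_fin_succ'] at hkl
      apply hkl.2
      show (φ^[m + 1]) v ∈ _
      rw [e']
      exact Submodule.sum_mem _ fun j _ => Submodule.smul_mem _ _
        (Submodule.subset_span ⟨j, rfl⟩)
    let a' : ℕ → K := fun i => if h : i < k + 1 then a ⟨i, h⟩ else 0
    have ha' : ∀ i : Fin (k + 1), a' i = a i := fun i => dif_pos i.2
    obtain ⟨x, hxk, hx0, hxs⟩ := exists_coeffs σ p f hσ hf k a' (by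
      rw [show a' 0 = a 0 from ha' 0]; exact ha0)
    set w := ∑ i : Fin (k + 1), x i • u i with hw
    have hfix : φ w = w := by
      rw [hw, hφu, Fin.sum_univ_castSucc]
      rw [show (φ^[((Fin.last k : Fin (k + 1)) : ℕ) + 1]) v = ∑ i, a i • u i from ha.symm]
      rw [Finset.smul_sum, Fin.sum_univ_succ (f := fun i => x i • u i),
        Fin.sum_univ_succ (f := fun i => σ (x ((Fin.last k : Fin (k + 1)) : ℕ)) • a i • u i)]
      rw [add_left_comm, ← Finset.sum_add_distrib]
      congr 1
      · rw [smul_smul, ← ha', Fin.val_last]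
        exact congrArg (· • u 0) hx0.symm
      · refine Finset.sum_congr rfl fun j _ => ?_
        rw [smul_smul, ← ha', Fin.val_last, Fin.val_castSucc]
        show σ (x j) • (φ^[(j : ℕ) + 1]) v + _ • u j.succ = x ((j : ℕ) + 1) • u j.succ
        rw [hxs j j.2, add_smul]
        rfl
    have hw0 : w ≠ 0 := fun h0 => hxk (by
      simpa using Fintype.linearIndependent_iff.mp hkl (fun i => x i) h0 (Fin.last k))
    -- quotient by the fixed line
    set L := Submodule.span K {w}
    have hL : L ≤ L.comap φ := by
      rw [Submodule.span_le]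
      rintro _ rfl
      show φ w ∈ L
      rw [hfix]
      exact Submodule.subset_span rfl
    let ψ : (V ⧸ L) →ₛₗ[σ] (V ⧸ L) := L.mapQ L φ hL
    have hdq : Module.finrank K (V ⧸ L) = n := by
      have := L.finrank_quotient_add_finrank
      rw [finrank_span_singleton hw0, hd] at this
      omega
    have hψ : Submodule.span K (Set.range ψ) = ⊤ := by
      rw [eq_top_iff, ← Submodule.range_mkQ L, ← Submodule.map_top, ← hφ, Submodule.map_span]
      refine Submodule.span_mono ?_
      rintro _ ⟨_, ⟨y, rfl⟩, rfl⟩
      exact ⟨L.mkQ y, rfl⟩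
    have hfixq := ih (V ⧸ L) hdq ψ hψ
    set S := Submodule.span K {v | φ v = v}
    have hwS : L ≤ S := Submodule.span_mono (Set.singleton_subset_iff.mpr hfix)
    have hlift : ∀ y : V ⧸ L, y ∈ S.map L.mkQ := by
      intro y
      have hy : y ∈ Submodule.span K {v | ψ v = v} := hfixq.symm ▸ Submodule.mem_top
      refine Submodule.span_le.mpr ?_ hy
      intro z hz
      obtain ⟨z, rfl⟩ := L.mkQ_surjective z
      have hz' : φ z - z ∈ L := (Submodule.Quotient.eq L).mp hz
      obtain ⟨c, hc⟩ := Submodule.mem_span_singleton.mp hz'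
      obtain ⟨t, ht⟩ := IsAlgClosed.exists_root
        (Polynomial.X ^ (p ^ f) - Polynomial.X + Polynomial.C c) (by
          rw [sub_add, Polynomial.degree_sub_eq_left_of_degree_lt]
          · rw [Polynomial.degree_X_pow]
            exact_mod_cast (by omega : p ^ f ≠ 0)
          · rw [Polynomial.degree_X_sub_C, Polynomial.degree_X_pow]
            exact_mod_cast hq1)
      refine ⟨z + t • w, Submodule.subset_span ?_, ?_⟩
      · show φ (z + t • w) = z + t • w
        have ht' : t ^ p ^ f - t + c = 0 := by simpa [Polynomial.IsRoot] using ht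
        rw [map_add, LinearMap.map_smulₛₗ, hfix, hσ, show φ z = z + c • w by rw [hc]; abel,
          add_assoc, ← add_smul]
        congr 2
        linear_combination ht'
      · rw [map_add, map_smul]
        have : L.mkQ w = 0 := (Submodule.Quotient.mk_eq_zero L).mpr (Submodule.subset_span rfl)
        rw [this, smul_zero, add_zero]
    rw [eq_top_iff]
    intro y _
    obtain ⟨s, hs, hse⟩ := hlift (L.mkQ y)
    have : y - s ∈ L := (Submodule.Quotient.eq L).mp hse.symm
    rw [← sub_add_cancel y s]
    exact add_mem (hwS this) hs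

/-- The Lang–Steinberg Theorem for the general linear group. Let `K` be an algebraically closed field of prime characteristic `p`, let `q = p^f` with `f ≥ 1`, and let `σ` be the endomorphism of GL_n(K) raising every matrix entry to the `q`-th power. Then every element `g` of GL_n(K) can be written `g = x · σ(x)⁻¹` for some `x` in GL_n(K): the map `x ↦ x σ(x)⁻¹` is surjective. -/
theorem result {K : Type*} [Field K] [IsAlgClosed K] (p : ℕ) [Fact p.Prime] [CharP K p]
    (f : ℕ) (hf : 1 ≤ f) (n : ℕ) (g : GL (Fin n) K) :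
    ∃ x : GL (Fin n) K, g = x * (Matrix.GeneralLinearGroup.map (iterateFrobenius K p f) x)⁻¹ := by
  classical
  set σ := iterateFrobenius K p f with hσdef
  let φ : (Fin n → K) →ₛₗ[σ] (Fin n → K) :=
    { toFun := fun v => g.1 *ᵥ (σ ∘ v)
      map_add' := fun u v => by
        rw [show σ ∘ (u + v) = σ ∘ u + σ ∘ v from funext fun i => map_add σ _ _, Matrix.mulVec_add]
      map_smul' := fun c v => by
        rw [show σ ∘ (c • v) = σ c • (σ ∘ v) from funext fun i => map_mul σ _ _, Matrix.mulVec_smul] }
  have hφ : Submodule.span K (Set.range φ) = ⊤ := by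
    rw [eq_top_iff]
    intro v _
    have e : v = g.1 *ᵥ ((g⁻¹).1 *ᵥ v) := by
      rw [Matrix.mulVec_mulVec, ← Units.val_mul, mul_inv_cancel, Units.val_one, Matrix.one_mulVec]
    obtain ⟨u, hu⟩ : ∃ u : Fin n → K, σ ∘ u = (g⁻¹).1 *ᵥ v := by
      have hs : ∀ y : K, ∃ z, σ z = y := fun y => by
        obtain ⟨z, hz⟩ := IsAlgClosed.exists_pow_nat_eq y (pow_pos (Fact.out : p.Prime).pos f)
        exact ⟨z, by rw [hσdef, iterateFrobenius_def, hz]⟩
      choose z hz using hs
      exact ⟨fun i => z _, funext fun i => hz _⟩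
    exact Submodule.subset_span ⟨u, by show g.1 *ᵥ (σ ∘ u) = v; rw [hu, ← e]⟩
  have hspan := span_fixed σ p f (fun x => by rw [hσdef, iterateFrobenius_def]) hf n (Fin n → K)
    (Module.finrank_fin_fun K) φ hφ
  obtain ⟨s, hs1, hs2, hs3⟩ := exists_linearIndependent K {v : Fin n → K | φ v = v}
  rw [hspan] at hs2
  let b : Module.Basis s K (Fin n → K) :=
    Module.Basis.mk hs3 (by rw [Subtype.range_coe, hs2])
  let e := b.indexEquiv (Pi.basisFun K (Fin n))
  let b' := b.reindex e
  let X : Matrix (Fin n) (Fin n) K := (Pi.basisFun K (Fin n)).toMatrix b'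
  have hX : ∀ i j, X i j = b' j i := fun i j => by
    simp [X, Module.Basis.toMatrix_apply, Pi.basisFun_repr]
  have hfix : ∀ j, φ (b' j) = b' j := fun j => by
    have : b' j = ((e.symm j : s) : Fin n → K) := by simp [b', b]
    rw [this]
    exact hs1 (e.symm j).2
  have hdet : X.det ≠ 0 := fun h0 => by
    have := congrArg Matrix.det
      (Module.Basis.toMatrix_mul_toMatrix_flip (Pi.basisFun K (Fin n)) b')
    rw [Matrix.det_mul, show ((Pi.basisFun K (Fin n)).toMatrix b').det = 0 from h0, zero_mul,
      Matrix.det_one] at this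
    exact zero_ne_one this
  refine ⟨Matrix.GeneralLinearGroup.mkOfDetNeZero X hdet, ?_⟩
  rw [eq_mul_inv_iff_mul_eq]
  refine Units.ext (Matrix.ext fun i j => ?_)
  show (g.1 * X.map σ) i j = X i j
  rw [hX]
  conv_rhs => rw [← hfix j]
  show _ = (g.1 *ᵥ (σ ∘ b' j)) i
  simp only [Matrix.mul_apply, Matrix.mulVec, dotProduct, Matrix.map_apply, Function.comp_apply, hX]

end Cfsg.Agent.S2665
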