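import Cfsg.Statements.S2669
import Cfsg.Agent.Lib.Shintani.Basic
-- import your own Cfsg.Agent.* helpers here

set_option autoImplicit false
open Cfsg

namespace Cfsg.Agent.S2669

theorem card_of_fibres {T A : Type*} {C : Type*} (f : T → A) (hf : ∀ a, Nonempty ({t // f t = a} ≃ C)) :
    Nat.card T = Nat.card A * Nat.card C := by
  rw [← Nat.card_prod]
  exact Nat.card_congr (((Equiv.sigmaFiberEquiv f).symm.trans
    (Equiv.sigmaCongrRight fun a => (hf a).some)).trans (Equiv.sigmaEquivProd A C))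

/-- Shintani descent preserves numbers of fixed points on coset spaces (abstract form). Let `σ` be an automorphism of a group `X` and `e ≥ 1`; write `G` for the fixed points of `σᵉ` and `H` for the fixed points of `σ`, and assume `G` is finite. Let `Y` be a `σ`-stable subgroup of `X` on which the maps `a ↦ a σ(a)⁻¹` and `a ↦ a σᵉ(a)⁻¹` are surjective (as for a closed connected `σ`-stable subgroup of an algebraic group). Let `g ∈ G`, let `a ∈ X` satisfy `g = a σ(a)⁻¹` and put `x = σᵉ(a)⁻¹ a` (the Shintani image, an element of `H`). The element `g σ` of the semidirect product acts on the cosets of `Y ∩ G` in `G` by `k (Y ∩ G) ↦ g σ(k) (Y ∩ G)`, fixing that coset exactly when `k⁻¹ g σ(k) ∈ Y`; and `x` fixes the coset `h (Y ∩ H)` of `H` exactly when `h⁻¹ x h ∈ Y`. Then the two numbers of fixed cosets agree; in cross-multiplied form, `#{k ∈ G : k⁻¹ g σ(k) ∈ Y} · |Y ∩ H| = #{h ∈ H : h⁻¹ x h ∈ Y} · |Y ∩ G|`. -/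
theorem result {X : Type*} [Group X] (σ : MulAut X) (e : ℕ) (he : 1 ≤ e)
    [Finite ↥((MulEquiv.toMonoidHom (σ ^ e)).eqLocus (MonoidHom.id X))]
    (Y : Subgroup X) (hY : ∀ y : X, y ∈ Y ↔ σ y ∈ Y)
    (hYL : ∀ y ∈ Y, ∃ a ∈ Y, y = a * (σ a)⁻¹) (hYLe : ∀ y ∈ Y, ∃ a ∈ Y, y = a * ((σ ^ e) a)⁻¹)
    (g : X) (hg : g ∈ (MulEquiv.toMonoidHom (σ ^ e)).eqLocus (MonoidHom.id X)) (a : X) (ha : g = a * (σ a)⁻¹) :
    Nat.card {k : ↥((MulEquiv.toMonoidHom (σ ^ e)).eqLocus (MonoidHom.id X)) // (k : X)⁻¹ * g * σ k ∈ Y} *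
        Nat.card ↥(Y ⊓ (MulEquiv.toMonoidHom σ).eqLocus (MonoidHom.id X)) =
      Nat.card {h : ↥((MulEquiv.toMonoidHom σ).eqLocus (MonoidHom.id X)) // (h : X)⁻¹ * (((σ ^ e) a)⁻¹ * a) * h ∈ Y} *
        Nat.card ↥(Y ⊓ (MulEquiv.toMonoidHom (σ ^ e)).eqLocus (MonoidHom.id X)) := by
  classical
  subst ha
  let X1 := (MulEquiv.toMonoidHom σ).eqLocus (MonoidHom.id X)
  let Xe := (MulEquiv.toMonoidHom (σ ^ e)).eqLocus (MonoidHom.id X)
  let T := {t : ↥Xe × ↥Y × ↥X1 // (t.1 : X) * t.2.1 * t.2.2 = a}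
  have hf1 : ∀ w : ↥X1, σ (w : X) = w := fun w => w.2
  have hfe : ∀ w : ↥Xe, (σ ^ e) (w : X) = w := fun w => w.2
  let f1 : T → {k : ↥Xe // (k : X)⁻¹ * (a * (σ a)⁻¹) * σ k ∈ Y} := fun t => ⟨t.1.1, by
    obtain ⟨⟨k, b, w⟩, h⟩ := t
    have e1 : (k : X)⁻¹ * a = b * w := by rw [← h]; group
    have e2 : (k : X)⁻¹ * (a * (σ a)⁻¹) * σ k = (b : X) * (σ b)⁻¹ := by
      calc (k : X)⁻¹ * (a * (σ a)⁻¹) * σ k = ((k : X)⁻¹ * a) * (σ ((k : X)⁻¹ * a))⁻¹ := by
            rw [map_mul, map_inv]; group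
        _ = _ := by rw [e1, map_mul, hf1 w]; group
    show (k : X)⁻¹ * (a * (σ a)⁻¹) * σ k ∈ Y
    rw [e2]
    exact mul_mem b.2 (inv_mem ((hY _).mp b.2))⟩
  let f2 : T → {h : ↥X1 // (h : X)⁻¹ * (((σ ^ e) a)⁻¹ * a) * h ∈ Y} := fun t => ⟨t.1.2.2⁻¹, by
    obtain ⟨⟨k, b, w⟩, h⟩ := t
    have e1 : a * (w : X)⁻¹ = k * b := by rw [← h]; group
    have hw := CfsgLib.Shintani.pow_fixed (hf1 w) e
    have e2 : (w : X) * (((σ ^ e) a)⁻¹ * a) * (w : X)⁻¹ = ((σ ^ e) (b : X))⁻¹ * b := by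
      calc (w : X) * (((σ ^ e) a)⁻¹ * a) * (w : X)⁻¹
          = ((σ ^ e) (a * (w : X)⁻¹))⁻¹ * (a * (w : X)⁻¹) := by
            rw [map_mul, map_inv, hw]; group
        _ = _ := by rw [e1, map_mul, hfe k]; group
    show ((w⁻¹ : ↥X1) : X)⁻¹ * (((σ ^ e) a)⁻¹ * a) * (w⁻¹ : ↥X1) ∈ Y
    rw [Subgroup.coe_inv, inv_inv, e2]
    have hmem : ∀ (j : ℕ) (y : X), y ∈ Y → (σ ^ j) y ∈ Y := by
      intro j
      induction j with
      | zero => exact fun y hy => hy
      | succ j ih =>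
        intro y hy
        rw [pow_succ, MulAut.mul_apply]
        exact ih _ ((hY y).mp hy)
    exact mul_mem (inv_mem (hmem e _ b.2)) b.2⟩
  have h1 : Nat.card T = Nat.card {k : ↥Xe // (k : X)⁻¹ * (a * (σ a)⁻¹) * σ k ∈ Y} *
      Nat.card ↥(Y ⊓ X1) := by
    refine card_of_fibres f1 fun ⟨k, hk⟩ => ?_
    obtain ⟨b, hb, hbe⟩ := hYL _ hk
    have hw : σ (b⁻¹ * (k : X)⁻¹ * a) = b⁻¹ * (k : X)⁻¹ * a := by
      rw [map_mul, map_mul, map_inv, map_inv]
      calc (σ b)⁻¹ * (σ (k : X))⁻¹ * σ a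
          = b⁻¹ * (b * (σ b)⁻¹) * (σ (k : X))⁻¹ * σ a := by group
        _ = b⁻¹ * (k : X)⁻¹ * a := by rw [← hbe]; group
    exact ⟨{ toFun := fun t => ⟨b⁻¹ * (t.1.1.2.1 : X), by
               obtain ⟨⟨⟨k', b', w⟩, h⟩, ht⟩ := t
               have hkk : k' = k := congrArg Subtype.val ht
               subst hkk
               refine Subgroup.mem_inf.mpr ⟨mul_mem (inv_mem hb) b'.2, ?_⟩
               have : b⁻¹ * (b' : X) = (b⁻¹ * (k' : X)⁻¹ * a) * (w : X)⁻¹ := by rw [← h]; group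
               show σ (b⁻¹ * (b' : X)) = b⁻¹ * (b' : X)
               rw [this, map_mul, map_inv, hw, hf1 w]⟩
             invFun := fun c => ⟨⟨(k, ⟨b * c.1, mul_mem hb c.2.1⟩,
               ⟨(c.1)⁻¹ * (b⁻¹ * (k : X)⁻¹ * a), mul_mem (inv_mem c.2.2) hw⟩), by
                 show (k : X) * (b * c.1) * ((c.1)⁻¹ * (b⁻¹ * (k : X)⁻¹ * a)) = a
                 group⟩, rfl⟩
             left_inv := fun t => by
               obtain ⟨⟨⟨k', b', w⟩, h⟩, ht⟩ := t
               have hkk : k' = k := congrArg Subtype.val ht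
               subst hkk
               refine Subtype.ext (Subtype.ext (Prod.ext rfl (Prod.ext (Subtype.ext ?_)
                 (Subtype.ext ?_))))
               · show b * (b⁻¹ * (b' : X)) = b'
                 group
               · show (b⁻¹ * (b' : X))⁻¹ * (b⁻¹ * (k' : X)⁻¹ * a) = w
                 rw [← h]; group
             right_inv := fun c => Subtype.ext (by
               show b⁻¹ * (b * c.1) = c.1
               group) }⟩
  have h2 : Nat.card T = Nat.card {h : ↥X1 // (h : X)⁻¹ * (((σ ^ e) a)⁻¹ * a) * h ∈ Y} *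
      Nat.card ↥(Y ⊓ Xe) := by
    refine card_of_fibres f2 fun ⟨h, hh⟩ => ?_
    obtain ⟨c₀, hc₀, hce⟩ := hYLe _ (inv_mem hh)
    have hfix := CfsgLib.Shintani.pow_fixed (hf1 h) e
    have hk0 : (σ ^ e) (a * h * c₀) = a * h * c₀ := by
      have e3 : (σ ^ e) c₀ = (h : X)⁻¹ * (((σ ^ e) a)⁻¹ * a) * h * c₀ := by
        calc (σ ^ e) c₀ = (c₀ * ((σ ^ e) c₀)⁻¹)⁻¹ * c₀ := by group
          _ = _ := by rw [← hce, inv_inv]
      rw [map_mul, map_mul, hfix, e3]; group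
    exact ⟨{ toFun := fun t => ⟨c₀⁻¹ * (t.1.1.2.1 : X)⁻¹, by
               obtain ⟨⟨⟨k', b', w⟩, hT⟩, ht⟩ := t
               have hww : w⁻¹ = h := congrArg Subtype.val ht
               subst hww
               refine Subgroup.mem_inf.mpr ⟨mul_mem (inv_mem hc₀) (inv_mem b'.2), ?_⟩
               have : c₀⁻¹ * (b' : X)⁻¹ = (a * ((w⁻¹ : ↥X1) : X) * c₀)⁻¹ * k' := by
                 rw [← hT, Subgroup.coe_inv]; group
               show (σ ^ e) (c₀⁻¹ * (b' : X)⁻¹) = c₀⁻¹ * (b' : X)⁻¹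
               rw [this, map_mul, map_inv, hk0, hfe k']⟩
             invFun := fun c => ⟨⟨(⟨a * h * c₀ * c.1, mul_mem hk0 c.2.2⟩,
               ⟨(c₀ * c.1)⁻¹, inv_mem (mul_mem hc₀ c.2.1)⟩, h⁻¹), by
                 show a * h * c₀ * c.1 * (c₀ * c.1)⁻¹ * ((h⁻¹ : ↥X1) : X) = a
                 rw [Subgroup.coe_inv]; group⟩, Subtype.ext (inv_inv h)⟩
             left_inv := fun t => by
               obtain ⟨⟨⟨k', b', w⟩, hT⟩, ht⟩ := t
               have hww : w⁻¹ = h := congrArg Subtype.val ht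
               subst hww
               refine Subtype.ext (Subtype.ext (Prod.ext (Subtype.ext ?_) (Prod.ext (Subtype.ext ?_)
                 (inv_inv w))))
               · show a * ((w⁻¹ : ↥X1) : X) * c₀ * (c₀⁻¹ * (b' : X)⁻¹) = k'
                 rw [← hT, Subgroup.coe_inv]; group
               · show (c₀ * (c₀⁻¹ * (b' : X)⁻¹))⁻¹ = b'
                 group
             right_inv := fun c => Subtype.ext (by
               show c₀⁻¹ * ((c₀ * c.1)⁻¹)⁻¹ = c.1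
               group) }⟩
  exact h1.symm.trans h2

end Cfsg.Agent.S2669
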