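import Cfsg.Statements.S2671
import Cfsg.Agent.Lib.SemisimplePrimeClasses.Unitary
-- import your own Cfsg.Agent.* helpers here

set_option autoImplicit false
open Cfsg

namespace Cfsg.Agent.S2671

open CfsgLib.SemisimplePrimeClasses
set_option maxHeartbeats 1000000

/-- Number of conjugacy classes of elements of odd prime order r in the general unitary group GU_n(q), for r not dividing q(q + 1): let i be the multiplicative order of q modulo r, b = i if i is odd and b = i/2 if i is even, and s = (r − 1)/b. If i ≢ 2 (mod 4) the eigenvalue orbits pair off into dual pairs of totally isotropic blocks and there are C(⌊n/(2b)⌋ + s/2, s/2) − 1 classes; if i ≡ 2 (mod 4) each orbit gives a non-degenerate block of dimension i/2 and there are C(⌊2n/i⌋ + s, s) − 1 classes. -/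
theorem result {K : Type*} [Field K] [Fintype K] {p q n r i b s : ℕ} [Fact p.Prime] [CharP K p] (hK : Fintype.card K = q ^ 2) (hr : r.Prime) (hr2 : r ≠ 2) (hrp : r ≠ p) (hi : i = orderOf (q : ZMod r)) (hi2 : i ≠ 2) (hb : b = if Odd i then i else i / 2) (hs : s * b = r - 1) : Nat.card {C : ConjClasses ↥(Cfsg.GU n K q) // ∃ g : ↥(Cfsg.GU n K q), ConjClasses.mk g = C ∧ orderOf g = r} = if i % 4 = 2 then Nat.choose (2 * n / i + s) s - 1 else Nat.choose (n / (2 * b) + s / 2) (s / 2) - 1 := by
    classical
    haveI := Fact.mk hr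
    haveI : NeZero r := ⟨hr.ne_zero⟩
    obtain ⟨a, hqa, ha⟩ := CfsgLib.SpectrumPowers.exists_prime_pow hK p
    obtain ⟨σ, hσ⟩ : ∃ σ : K →+* K, ∀ x, σ x = x ^ q :=
      ⟨iterateFrobenius K p a, fun x => by rw [iterateFrobenius_def, hqa]⟩
    haveI : CharP (AlgebraicClosure K) p :=
      charP_of_injective_algebraMap (algebraMap K (AlgebraicClosure K)).injective p
    haveI : NeZero ((r : AlgebraicClosure K)) := ⟨fun h => hrp
      ((Nat.prime_dvd_prime_iff_eq Fact.out hr).1 ((CharP.cast_eq_zero_iff (AlgebraicClosure K) p r).1 h)).symm⟩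
    obtain ⟨ζ, hζ0⟩ := IsAlgClosed.exists_root (Polynomial.cyclotomic r (AlgebraicClosure K)) (by
      rw [Polynomial.degree_cyclotomic]; exact_mod_cast (Nat.totient_pos.mpr hr.pos).ne')
    have hζ : orderOf ζ = r := (Polynomial.isRoot_cyclotomic_iff.mp hζ0).eq_orderOf.symm
    have hcop : Nat.Coprime q r := hqa ▸ Nat.Coprime.pow_left a ((Nat.coprime_primes Fact.out hr).2 (Ne.symm hrp))
    let u : (ZMod r)ˣ := ZMod.unitOfCoprime _ hcop
    have hu : (u : ZMod r) = (q : ℕ) := ZMod.coe_unitOfCoprime _ hcop
    have hou : orderOf u = i := by rw [hi, ← orderOf_units, hu]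
    have hi0 : 0 < i := hou ▸ orderOf_pos u
    haveI : Fact (2 < r) := ⟨lt_of_le_of_ne hr.two_le (Ne.symm hr2)⟩
    have hneg : (-1 : (ZMod r)ˣ) ≠ 1 := fun h => ZMod.neg_one_ne_one (by
      have := congrArg Units.val h; simpa using this)
    have hhalf : ∀ j, i = j + j → u ^ j = -1 := fun j hj => by
      have h2 : (u ^ j) ^ 2 = 1 := by rw [← pow_mul, mul_two, ← hj, ← hou, pow_orderOf_eq_one]
      have := congrArg Units.val h2
      rw [Units.val_pow_eq_pow_val, Units.val_one] at this
      rcases sq_eq_one_iff.1 this with h | h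
      · exfalso
        have := Nat.le_of_dvd (by omega) (hou ▸ orderOf_dvd_of_pow_eq_one (Units.ext h : u ^ j = 1))
        omega
      · exact Units.ext (by simpa using h)
    -- the order of `-q`
    set h := orderOf (-u) with hh
    have hval : (i % 4 = 2 ∧ 2 * h = i ∧ b = h) ∨ (i % 4 ≠ 2 ∧ h = 2 * b) := by
      rcases Nat.even_or_odd i with ⟨j, hj⟩ | hodd
      · have hbj : b = j := by rw [hb, if_neg (Nat.not_odd_iff_even.2 ⟨j, hj⟩)]; omega
        have hju := hhalf j hj
        have hdv : ∀ k, (-u) ^ k = 1 → j ∣ k := fun k hk => by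
          have h2 : u ^ (2 * k) = 1 := by
            rw [← (even_two_mul k).neg_pow, mul_comm, pow_mul, hk, one_pow]
          have := hou ▸ orderOf_dvd_of_pow_eq_one h2
          rw [hj, ← two_mul] at this
          exact (Nat.mul_dvd_mul_iff_left two_pos).1 this
        rcases Nat.even_or_odd j with hje | hjo
        · refine Or.inr ⟨by obtain ⟨c, hc⟩ := hje; omega, ?_⟩
          rw [hbj, hh, orderOf_eq_iff (by omega)]
          refine ⟨by rw [mul_comm, pow_mul, hje.neg_pow, hju, neg_one_sq], fun k hk hk0 h1 => ?_⟩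
          obtain ⟨c, hc⟩ := hdv k h1
          obtain rfl : c = 1 := by
            rcases c with _ | _ | c
            · omega
            · rfl
            · exfalso; nlinarith
          rw [hc, mul_one, hje.neg_pow, hju] at h1
          exact hneg h1
        · refine Or.inl ⟨by obtain ⟨c, hc⟩ := hjo; omega, ?_⟩
          have h1 : (-u) ^ j = 1 := by rw [hjo.neg_pow, hju, neg_neg]
          have : h = j := Nat.dvd_antisymm (orderOf_dvd_of_pow_eq_one h1) (hdv h (pow_orderOf_eq_one _))
          omega
      · refine Or.inr ⟨by obtain ⟨c, hc⟩ := hodd; omega, ?_⟩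
        rw [hb, if_pos hodd, hh, neg_eq_neg_one_mul,
          (Commute.all _ _).orderOf_mul_eq_mul_orderOf_of_coprime, orderOf_eq_prime (p := 2) (neg_one_sq) hneg, hou]
        rw [orderOf_eq_prime (p := 2) (neg_one_sq) hneg, hou]
        exact Nat.coprime_two_left.2 hodd
    have hh0 : 0 < h := orderOf_pos _
    have hH : Nat.card (Subgroup.zpowers (-u)) = h := Nat.card_zpowers _
    -- the twisted Frobenius on roots
    have hφ : ∀ c : (ZMod r)ˣ, (root ζ c ^ q)⁻¹ = root ζ (c * -u) := fun c => by
      rw [root_mul_pow hζ c u q hu.symm, ← root_neg hζ, mul_assoc, mul_neg_one]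
    have hφinj : Function.Injective fun t : AlgebraicClosure K => (t ^ q)⁻¹ := fun x y e => by
      refine (iterateFrobenius (AlgebraicClosure K) p a).injective ?_
      simpa [iterateFrobenius_def, ← hqa] using e
    -- classes with `g ^ r = 1`
    haveI : Finite (GL (Fin n) K) := inferInstance
    let W := {C : ConjClasses ↥(Cfsg.GU n K q) // ∃ g : ↥(Cfsg.GU n K q), ConjClasses.mk g = C ∧ g ^ r = 1}
    haveI : Finite W := Subtype.finite
    choose rep hrep hrepr using fun C : W => C.2
    have hrepr' : ∀ C, (rep C).1 ^ r = 1 := fun C => by rw [← SubmonoidClass.coe_pow, hrepr]; rfl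
    let cnt : W → (ZMod r)ˣ → ℕ := fun C c => (glRoots (rep C).1).count (root ζ c)
    have hconjroots : ∀ g g' : ↥(Cfsg.GU n K q), IsConj g g' → glRoots g.1 = glRoots g'.1 := by
      intro g g' hgg
      obtain ⟨c, hc⟩ := _root_.isConj_iff.1 hgg
      subst hc
      refine glRoots_eq_of_charpoly ?_
      simp only [Subgroup.coe_mul, Subgroup.coe_inv, Units.val_mul, Matrix.coe_units_inv]
      exact (Matrix.charpoly_units_conj c.1 g.1.1).symm
    have hinj : Function.Injective cnt := by
      intro C D hCD
      have h1 : glRoots (rep C).1 = glRoots (rep D).1 := eq_of_count hζ (fun t ht => glRoots_pow (hrepr' C) ht)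
        (fun t ht => glRoots_pow (hrepr' D) ht) (by rw [glRoots_card, glRoots_card]) fun c => congrFun hCD c
      have hco : ∀ C, (orderOf (rep C).1).Coprime p := fun C =>
        Nat.Coprime.coprime_dvd_left (orderOf_dvd_of_pow_eq_one (hrepr' C)) ((Nat.coprime_primes hr Fact.out).2 hrp)
      obtain ⟨P, hP⟩ := CfsgLib.SemisimpleClasses.exists_conj
        (CfsgLib.SemisimpleClasses.isSemisimple_of_coprime _ (hco C))
        (CfsgLib.SemisimpleClasses.isSemisimple_of_coprime _ (hco D)) (charpoly_eq_of_glRoots h1)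
      refine Subtype.ext ?_
      rw [← hrep C, ← hrep D, ConjClasses.mk_eq_mk_iff_isConj]
      exact CfsgLib.UnitaryConj.isConj_GU hK (rep C) (rep D) (_root_.isConj_iff.2
        ⟨P, by rw [mul_inv_eq_iff_eq_mul]; exact Units.ext hP⟩)
    have hW : Nat.card W = (n / h + Nat.card ((ZMod r)ˣ ⧸ Subgroup.zpowers (-u))).choose
        (Nat.card ((ZMod r)ˣ ⧸ Subgroup.zpowers (-u))) := by
      refine card_invariant (Subgroup.zpowers (-u)) n (n / h) cnt (by rw [hH]) hinj
        (fun C => invariant_of_generators fun c => ?_)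
        (fun C => le_of_le_of_eq (sum_count_le hζ _) (glRoots_card _)) ?_
      · show (glRoots (rep C).1).count _ = (glRoots (rep C).1).count _
        conv_lhs => rw [← gu_invariant hK p a hqa hσ (rep C), ← hφ]
        exact Multiset.count_map_eq_count' _ _ hφinj _
      · intro e he
        haveI : Fintype ((ZMod r)ˣ ⧸ Subgroup.zpowers (-u)) := Fintype.ofFinite _
        set R0 : Multiset (AlgebraicClosure K) :=
          ∑ c : (ZMod r)ˣ, Multiset.replicate (e (QuotientGroup.mk c)) (root ζ c) with hR0
        have hc0 : Multiset.card R0 = h * ∑ c, e c := by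
          rw [hR0, Multiset.card_sum, Finset.sum_congr rfl fun c _ => Multiset.card_replicate _ _,
            sum_eq_mul_sum (Subgroup.zpowers (-u)) e, hH]
        have hle : Multiset.card R0 ≤ n := by
          rw [hc0]
          exact (Nat.mul_le_mul_left h he).trans (Nat.mul_div_le n h)
        have hinv0 : R0.map (fun t => (t ^ q)⁻¹) = R0 := by
          rw [hR0, ← Multiset.coe_mapAddMonoidHom, map_sum]
          simp only [Multiset.coe_mapAddMonoidHom, Multiset.map_replicate, hφ]
          refine Fintype.sum_equiv (Equiv.mulRight (-u)) _ _ fun c => ?_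
          rw [Equiv.coe_mulRight]
          congr 2
          exact QuotientGroup.eq.2 (by rw [inv_mul_cancel_left]; exact Subgroup.mem_zpowers _)
        have hpow0 : ∀ t ∈ R0, t ^ r = 1 := by
          intro t ht
          rw [hR0, Multiset.mem_sum] at ht
          obtain ⟨c, -, hc⟩ := ht
          rw [Multiset.eq_of_mem_replicate hc, root_pow hζ]
        obtain ⟨g, hg, hgR⟩ := exists_gu (n := n) hK p a hqa hσ hr.pos
          (R0 + Multiset.replicate (n - Multiset.card R0) 1) (by rw [Multiset.card_add, Multiset.card_replicate]; omega)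
          (by rw [Multiset.map_add, hinv0, Multiset.map_replicate, one_pow, inv_one])
          (fun t ht => by
            rcases Multiset.mem_add.1 ht with ht | ht
            · exact hpow0 t ht
            · rw [Multiset.eq_of_mem_replicate ht, one_pow])
        refine ⟨⟨ConjClasses.mk g, g, rfl, hg⟩, fun c => ?_⟩
        show (glRoots (rep _).1).count _ = _
        rw [hconjroots _ g (ConjClasses.mk_eq_mk_iff_isConj.1 (hrep _)), hgR, Multiset.count_add,
          Multiset.count_replicate, if_neg (Ne.symm (root_ne_one hζ c)), add_zero, hR0, Multiset.count_sum',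
          Finset.sum_eq_single c (fun d _ hd => by
            rw [Multiset.count_replicate, if_neg (fun hdc => hd (root_injective hζ hdc))]) (by simp),
          Multiset.count_replicate_self]
    -- remove the trivial class
    have hone : Nat.card {C : ConjClasses ↥(Cfsg.GU n K q) //
        ∃ g : ↥(Cfsg.GU n K q), ConjClasses.mk g = C ∧ orderOf g = r} = Nat.card W - 1 := by
      haveI : Fintype W := Fintype.ofFinite W
      have e1 : Nat.card {C : W // C.1 ≠ ConjClasses.mk 1} = Nat.card W - 1 := by
        rw [Nat.card_eq_fintype_card, Nat.card_eq_fintype_card,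
          ← Fintype.card_subtype_eq (⟨ConjClasses.mk 1, 1, rfl, one_pow r⟩ : W), ← Fintype.card_subtype_compl]
        exact Fintype.card_congr (Equiv.subtypeEquivRight fun C => not_congr ⟨fun h => Subtype.ext h, fun h => congrArg Subtype.val h⟩)
      rw [← e1]
      refine Nat.card_congr
        { toFun := fun C => ⟨⟨C.1, C.2.choose, C.2.choose_spec.1,
            orderOf_dvd_iff_pow_eq_one.1 C.2.choose_spec.2.dvd⟩, fun h => ?_⟩
          invFun := fun C => ⟨C.1.1, ?_⟩
          left_inv := fun C => rfl
          right_inv := fun C => rfl }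
      · obtain ⟨g, hg, hgo⟩ := C.2
        have h1 : IsConj g 1 := ConjClasses.mk_eq_mk_iff_isConj.1 (hg.trans h)
        rw [isConj_one_left.1 h1, orderOf_one] at hgo
        exact hr.one_lt.ne hgo
      · obtain ⟨g, hg, hgr⟩ := C.1.2
        exact ⟨g, hg, orderOf_eq_prime hgr fun h => C.2 (by rw [← hg, h])⟩
    rw [hone, hW]
    have hT : Nat.card ((ZMod r)ˣ ⧸ Subgroup.zpowers (-u)) * h = s * b := by
      rw [← hH, hs, ← Subgroup.card_eq_card_quotient_mul_card_subgroup, Nat.card_eq_fintype_card,
        ZMod.card_units]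
    rcases hval with ⟨hi4, h2h, hbh⟩ | ⟨hi4, hhb⟩
    · rw [if_pos hi4]
      rw [hbh] at hT
      rw [Nat.eq_of_mul_eq_mul_right hh0 hT, ← h2h, Nat.mul_div_mul_left _ _ two_pos]
    · rw [if_neg hi4, hhb]
      rw [hhb] at hT
      have h1 : Nat.card ((ZMod r)ˣ ⧸ Subgroup.zpowers (-u)) * 2 = s :=
        Nat.eq_of_mul_eq_mul_right (by omega : 0 < b) (by rw [← hT]; ring)
      rw [show s / 2 = Nat.card ((ZMod r)ˣ ⧸ Subgroup.zpowers (-u)) by omega]

end Cfsg.Agent.S2671
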