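import Cfsg.Statements.S2672
import Cfsg.Agent.Lib.SemisimplePrimeClasses.Unitary
import Cfsg.Agent.Lib.GLClassNumber.PGLOrderR
import Cfsg.Agent.Lib.UnitaryBasic
-- import your own Cfsg.Agent.* helpers here

set_option autoImplicit false
open Cfsg

namespace Cfsg.Agent.S2672

open CfsgLib.GLClassNumber CfsgLib.SemisimplePrimeClasses
set_option maxHeartbeats 1000000

/-- Number of conjugacy classes of elements of odd prime order r in PGU_n(q) = GU_n(q)/scalars (n ≥ 3) when r divides q + 1: as in the linear case with q − 1 replaced by q + 1, the classes correspond to the rotation orbits on r-tuples of eigenvalue multiplicities summing to n with every entry < n, plus r − 1 further classes when r divides n; in all (C(n+r−1, r−1) − r − [r ∣ n])/r + r·[r ∣ n]. -/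
theorem result {K : Type*} [Field K] [Fintype K] {q n r : ℕ} (hK : Fintype.card K = q ^ 2) (hn : 3 ≤ n) (hr : r.Prime) (hr2 : r ≠ 2) (hrq : r ∣ q + 1) : Nat.card {C : ConjClasses (↥(Cfsg.GU n K q) ⧸ Subgroup.center ↥(Cfsg.GU n K q)) // ∃ g : ↥(Cfsg.GU n K q) ⧸ Subgroup.center ↥(Cfsg.GU n K q), ConjClasses.mk g = C ∧ orderOf g = r} = (Nat.choose (n + r - 1) (r - 1) - r - (if r ∣ n then 1 else 0)) / r + r * (if r ∣ n then 1 else 0) := by
  classical
  haveI := Fact.mk hr
  obtain ⟨p, hp⟩ := CharP.exists K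
  haveI := hp
  haveI : Fact p.Prime := ⟨CharP.char_is_prime K p⟩
  obtain ⟨a, hqa, ha⟩ := CfsgLib.SpectrumPowers.exists_prime_pow hK p
  obtain ⟨σ, hσ⟩ : ∃ σ : K →+* K, ∀ x, σ x = x ^ q :=
    ⟨iterateFrobenius K p a, fun x => by rw [iterateFrobenius_def, hqa]⟩
  have hq1 : 1 < q := (CfsgLib.UnitaryBasic.frob_exists hK).1
  have hsq : q ^ 2 - 1 = (q + 1) * (q - 1) := by
    simpa using Nat.sq_sub_sq q 1
  have hrK : r ∣ Fintype.card K - 1 := by rw [hK, hsq]; exact dvd_mul_of_dvd_left hrq _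
  have hrp : r ≠ p := by
    rintro rfl
    have h1 : r ∣ q := hqa ▸ dvd_pow_self r (by omega)
    exact hr.not_dvd_one ((Nat.dvd_add_right h1).1 hrq)
  have hcop : r.Coprime (q - 1) := (hr.coprime_iff_not_dvd).2 fun h => by
    have h2 : r ∣ 2 := by
      have := Nat.dvd_sub hrq h
      rwa [show q + 1 - (q - 1) = 2 by omega] at this
    exact hr2 ((Nat.prime_dvd_prime_iff_eq hr Nat.prime_two).1 h2)
  have hN : ∀ x : Kˣ, (x ^ (q + 1)) ^ (q - 1) = 1 := fun x => by
    rw [← pow_mul, ← hsq, ← hK, ← Fintype.card_units]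
    exact pow_card_eq_one
  have hroot : ∀ x : Kˣ, (x ^ r) ^ (q + 1) = 1 → x ^ (q + 1) = 1 := fun x hx => by
    have h1 : (x ^ (q + 1)) ^ r = 1 := by rw [← pow_mul, mul_comm, pow_mul, hx]
    have h2 := pow_gcd_eq_one.2 ⟨h1, hN x⟩
    rwa [hcop, pow_one] at h2
  have hscmem : ∀ c : Kˣ, c ^ (q + 1) = 1 → sc n c ∈ Cfsg.GU n K q := fun c hc => by
    have h : sc n c = CfsgLib.UnitaryBasic.dgl fun _ => c := Units.ext rfl
    rw [h]
    exact CfsgLib.UnitaryBasic.dgl_mem _ fun _ => hc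
  have hscpow : ∀ c : Kˣ, sc n c ∈ Cfsg.GU n K q → c ^ (q + 1) = 1 := fun c hc => by
    have h := hc (Pi.single ⟨0, by omega⟩ 1) (Pi.single ⟨0, by omega⟩ 1)
    have e : Matrix.mulVec (sc n c).1 (Pi.single (⟨0, by omega⟩ : Fin n) (1 : K)) = Pi.single ⟨0, by omega⟩ (c : K) := by
      rw [show (sc n c).1 = Matrix.diagonal fun _ => (c : K) from rfl]
      ext i
      rw [Matrix.mulVec_diagonal]
      rcases eq_or_ne i (⟨0, by omega⟩ : Fin n) with rfl | hi
      · simp
      · simp [hi]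
    apply Units.ext
    change Cfsg.hermForm n K q (Matrix.mulVec (sc n c).1 _) (Matrix.mulVec (sc n c).1 _) = _ at h
    rw [e] at h
    simp only [Cfsg.hermForm] at h
    rw [Finset.sum_eq_single (⟨0, by omega⟩ : Fin n) (fun b _ hb => by simp [hb]) (by simp),
      Finset.sum_eq_single (⟨0, by omega⟩ : Fin n) (fun b _ hb => by simp [hb]) (by simp)] at h
    simpa [pow_succ'] using h
  let U := Cfsg.GU n K q
  have hle : Subgroup.center ↥U ≤ (Subgroup.center (GL (Fin n) K)).comap U.subtype := fun z hz => by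
    obtain ⟨c, hc⟩ := CfsgLib.UnitaryBasic.center_GU_scalar hK (by omega) hz
    rw [Subgroup.mem_comap, Subgroup.mem_center_iff]
    intro g
    apply Units.ext
    show g.1 * z.1.1 = z.1.1 * g.1
    rw [hc]
    exact (Matrix.scalar_commute c (fun _ => Commute.all _ _) g.1).eq.symm
  let φ : ↥U ⧸ Subgroup.center ↥U →* GL (Fin n) K ⧸ Subgroup.center (GL (Fin n) K) :=
    QuotientGroup.map _ _ U.subtype hle
  have hφ : Function.Injective φ := by
    rw [injective_iff_map_eq_one]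
    intro x hx
    obtain ⟨g, rfl⟩ := QuotientGroup.mk_surjective x
    have hg : g.1 ∈ Subgroup.center (GL (Fin n) K) := (QuotientGroup.eq_one_iff _).1 hx
    rw [QuotientGroup.eq_one_iff, Subgroup.mem_center_iff]
    exact fun h => Subtype.ext (Subgroup.mem_center_iff.1 hg h.1)
  have htwist : ∀ c : Kˣ, c ^ (q + 1) = 1 → CfsgLib.SemisimpleCount.twist σ (sc n c) = sc n c := fun c hc => by
    apply Units.ext
    show (((sc n c)⁻¹).1.map σ).transpose = _
    rw [← map_inv, show (sc n c⁻¹).1 = Matrix.diagonal fun _ => ((c⁻¹ : Kˣ) : K) from rfl,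
      Matrix.diagonal_map (map_zero σ), Matrix.diagonal_transpose]
    show (Matrix.diagonal fun _ => σ ((c⁻¹ : Kˣ) : K)) = Matrix.diagonal fun _ => (c : K)
    congr 1
    funext _
    rw [hσ, ← Units.val_pow_eq_pow_val, inv_pow,
      inv_eq_of_mul_eq_one_left (show c * c ^ q = 1 by rw [← pow_succ', hc])]
  have hmain : ∀ (g : GL (Fin n) K) (c : Kˣ), g ^ r = sc n c → c ^ (q + 1) = 1 →
      ∃ B : ↥U, IsConj g B.1 := by
    intro g c hg hc
    refine (CfsgLib.UnitaryConj.similar_iff hK g).2 ?_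
    rw [twist_eq hK hσ]
    refine MonoidHom.map_isConj (Units.coeHom (Matrix (Fin n) (Fin n) K)) (?_ : IsConj g (CfsgLib.SemisimpleCount.twist σ g))
    have htr : (CfsgLib.SemisimpleCount.twist σ g) ^ r = sc n c := by rw [← map_pow, hg, htwist c hc]
    by_cases hnp : ∀ s : K, s ^ r ≠ (c : K)
    · exact isConj_of_decomp (pow_decomp hr hnp hg).2 (pow_decomp hr hnp htr).2 rfl
    · push_neg at hnp
      obtain ⟨t₀, ht⟩ := hnp
      have ht0 : t₀ ≠ 0 := fun h => by rw [h, zero_pow hr.ne_zero] at ht; exact c.ne_zero ht.symm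
      set t : Kˣ := Units.mk0 t₀ ht0
      have htc : t ^ r = c := Units.ext (by rw [Units.val_pow_eq_pow_val, Units.val_mk0, ht])
      have ht1 : t ^ (q + 1) = 1 := hroot t (by rw [htc, hc])
      set g₀ := g * sc n t⁻¹ with hg₀
      have hg₀r : g₀ ^ r = 1 := by
        rw [hg₀, (show Commute g (sc n t⁻¹) from (sc_comm t⁻¹ g).symm).mul_pow, hg, ← map_pow, ← map_mul,
          inv_pow, htc, mul_inv_cancel, map_one]
      have hco : (orderOf g₀).Coprime p :=
        Nat.Coprime.coprime_dvd_left (orderOf_dvd_of_pow_eq_one hg₀r) ((Nat.coprime_primes hr Fact.out).2 hrp)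
      obtain ⟨P, hP⟩ := CfsgLib.SemisimpleClasses.exists_conj
        (CfsgLib.SemisimpleClasses.isSemisimple_of_coprime g₀ hco)
        (CfsgLib.SemisimpleClasses.isSemisimple_of_coprime (CfsgLib.SemisimpleCount.twist σ g₀)
          (Nat.Coprime.coprime_dvd_left (orderOf_map_dvd _ g₀) hco)) (charpoly_eq_of_glRoots (by
          rw [glRoots_twist p a hqa hσ]
          conv_lhs => rw [← Multiset.map_id (glRoots g₀)]
          refine Multiset.map_congr rfl fun z hz => ?_
          obtain ⟨d, hd⟩ := hrq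
          have h1 : z * z ^ q = 1 := by rw [← pow_succ', hd, pow_mul, glRoots_pow hg₀r hz, one_pow]
          exact eq_inv_of_mul_eq_one_left h1))
      have h1 : IsConj g₀ (CfsgLib.SemisimpleCount.twist σ g₀) :=
        _root_.isConj_iff.2 ⟨P, by rw [mul_inv_eq_iff_eq_mul]; exact Units.ext hP⟩
      obtain ⟨k, hk⟩ := _root_.isConj_iff.1 h1
      refine _root_.isConj_iff.2 ⟨k, ?_⟩
      have e : g = g₀ * sc n t := by rw [hg₀, map_inv, inv_mul_cancel_right]
      rw [e, map_mul, htwist t ht1, ← hk]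
      simp only [mul_assoc, sc_comm]
  let Φ : {C : ConjClasses (↥U ⧸ Subgroup.center ↥U) // ∃ g : ↥U ⧸ Subgroup.center ↥U,
        ConjClasses.mk g = C ∧ orderOf g = r} →
      {C : ConjClasses (GL (Fin n) K ⧸ Subgroup.center (GL (Fin n) K)) //
        ∃ g : GL (Fin n) K ⧸ Subgroup.center (GL (Fin n) K), ConjClasses.mk g = C ∧ orderOf g = r} :=
    fun C => ⟨ConjClasses.map φ C.1, by
      obtain ⟨g, hg, ho⟩ := C.2
      exact ⟨φ g, by rw [← hg]; rfl, by rw [orderOf_injective φ hφ, ho]⟩⟩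
  have hord : ∀ g : ↥U, orderOf (g : ↥U ⧸ Subgroup.center ↥U) = r → ∃ c : Kˣ, g.1 ^ r = sc n c ∧ c ^ (q + 1) = 1 := by
    intro g hg
    have h := orderOf_injective φ hφ (g : ↥U ⧸ Subgroup.center ↥U)
    rw [hg] at h
    have h1 : (φ (g : ↥U ⧸ Subgroup.center ↥U)) ^ r = 1 := orderOf_dvd_iff_pow_eq_one.1 h.dvd
    change ((g.1 : GL (Fin n) K) : GL (Fin n) K ⧸ Subgroup.center (GL (Fin n) K)) ^ r = 1 at h1
    rw [← QuotientGroup.mk_pow, QuotientGroup.eq_one_iff] at h1
    obtain ⟨c, hc⟩ := exists_sc_of_mem_center h1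
    exact ⟨c, hc, hscpow c (hc ▸ pow_mem g.2 r)⟩
  have hΦ : Function.Bijective Φ := by
    refine ⟨?_, ?_⟩
    · rintro ⟨C, g, rfl, hg⟩ ⟨D, h, rfl, hh⟩ hCD
      obtain ⟨g, rfl⟩ := QuotientGroup.mk_surjective g
      obtain ⟨h, rfl⟩ := QuotientGroup.mk_surjective h
      have hCD' : IsConj ((g.1 : GL (Fin n) K) : GL (Fin n) K ⧸ Subgroup.center (GL (Fin n) K)) (h.1 : GL (Fin n) K) :=
        ConjClasses.mk_eq_mk_iff_isConj.1 (congrArg Subtype.val hCD)
      obtain ⟨s, hs⟩ := mk_conj_iff.1 hCD'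
      obtain ⟨c, hc, hc1⟩ := hord g hg
      obtain ⟨d, hd, hd1⟩ := hord h hh
      obtain ⟨k, hk⟩ := _root_.isConj_iff.1 hs
      have e1 : (k * g.1 * k⁻¹) ^ r = k * g.1 ^ r * k⁻¹ := conj_pow
      rw [hk, (show Commute h.1 (sc n s) from (sc_comm s h.1).symm).mul_pow, hd, hc, ← sc_comm c k,
        mul_inv_cancel_right, ← map_pow, ← map_mul] at e1
      have e2 : d * s ^ r = c := sc_injective (by omega) e1
      have hs1 : s ^ (q + 1) = 1 := hroot s (by
        have : (d * s ^ r) ^ (q + 1) = 1 := by rw [e2, hc1]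
        rwa [mul_pow, hd1, one_mul] at this)
      let S : ↥U := ⟨sc n s, hscmem s hs1⟩
      have hS : S ∈ Subgroup.center ↥U :=
        Subgroup.mem_center_iff.2 fun x => Subtype.ext (sc_comm s x.1).symm
      have hconj : IsConj g (h * S) := CfsgLib.UnitaryConj.isConj_GU hK g (h * S) hs
      refine Subtype.ext (ConjClasses.mk_eq_mk_iff_isConj.2 ?_)
      have := (QuotientGroup.mk' (Subgroup.center ↥U)).map_isConj hconj
      rwa [map_mul, QuotientGroup.mk'_apply, QuotientGroup.mk'_apply, QuotientGroup.mk'_apply,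
        (QuotientGroup.eq_one_iff S).2 hS, mul_one] at this
    · rintro ⟨C, x, rfl, hx⟩
      obtain ⟨g, rfl⟩ := QuotientGroup.mk_surjective x
      have h1 : g ^ r ∈ Subgroup.center (GL (Fin n) K) :=
        (QuotientGroup.eq_one_iff _).1 (by rw [QuotientGroup.mk_pow]; exact orderOf_dvd_iff_pow_eq_one.1 hx.dvd)
      obtain ⟨c, hc⟩ := exists_sc_of_mem_center h1
      obtain ⟨m, hm⟩ := exists_pow_eq_self_of_coprime (x := c ^ (q + 1)) (n := r)
        (Nat.Coprime.coprime_dvd_right (orderOf_dvd_of_pow_eq_one (hN c)) hcop)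
      set s : Kˣ := (c⁻¹) ^ m with hs
      have hcs : (c * s ^ r) ^ (q + 1) = 1 := by
        rw [mul_pow, show (s ^ r) ^ (q + 1) = (((c ^ (q + 1)) ^ r) ^ m)⁻¹ by
          rw [hs, inv_pow, inv_pow, inv_pow]
          simp only [← pow_mul]
          ring_nf, hm, mul_inv_cancel]
      have hg' : (g * sc n s) ^ r = sc n (c * s ^ r) := by
        rw [(show Commute g (sc n s) from (sc_comm s g).symm).mul_pow, hc, ← map_pow, ← map_mul]
      obtain ⟨B, hB⟩ := hmain (g * sc n s) (c * s ^ r) hg' hcs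
      have hBg : IsConj ((B.1 : GL (Fin n) K) : GL (Fin n) K ⧸ Subgroup.center (GL (Fin n) K)) (g : GL (Fin n) K) :=
        mk_conj_iff.2 ⟨s, hB.symm⟩
      have ho : orderOf (B : ↥U ⧸ Subgroup.center ↥U) = r := by
        rw [← orderOf_injective φ hφ]
        obtain ⟨k, hk⟩ := _root_.isConj_iff.1 hBg
        rw [← hx, ← hk]
        exact ((MulAut.conj k).orderOf_eq _).symm
      exact ⟨⟨ConjClasses.mk (B : ↥U ⧸ Subgroup.center ↥U), _, rfl, ho⟩,
        Subtype.ext (ConjClasses.mk_eq_mk_iff_isConj.2 hBg)⟩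
  rw [Nat.card_eq_of_bijective Φ hΦ]
  exact card_pgl_order_r_classes hr hrK (by omega)

end Cfsg.Agent.S2672
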