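import Cfsg.Statements.S2673
import Cfsg.Agent.Lib.SemisimplePrimeClasses.OrthIndex
-- import your own Cfsg.Agent.* helpers here

set_option autoImplicit false
open Cfsg

namespace Cfsg.Agent.S2673

open CfsgLib.SemisimplePrimeClasses CfsgLib.Lagrangian CfsgLib.StdQuadForms CfsgLib.OmegaSum
set_option maxHeartbeats 1000000

/-- Number of conjugacy classes of elements of odd prime order r ≠ p in the orthogonal group O_(2m+1)(q) of x_0² + Σ x_j y_j, q odd: with i the multiplicative order of q mod r and t = (r − 1)/i, there are C(⌊m/i⌋ + t/2, t/2) − 1 classes if i is odd (dual pairs of totally singular i-blocks) and C(⌊(2m+1)/i⌋ + t, t) − 1 if i is even (elliptic i-blocks). -/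
theorem result {F : Type*} [Field F] [Fintype F] {p q : ℕ} [Fact p.Prime] [CharP F p] (hF : Fintype.card F = q) (hq : Odd q) (m r i t : ℕ) (hr : r.Prime) (hr2 : r ≠ 2) (hrp : r ≠ p) (hi : i = orderOf (q : ZMod r)) (ht : t * i = r - 1) : Nat.card {C : ConjClasses ↥(Cfsg.isometryGroup F (Cfsg.quadFormOdd m F)) // ∃ g : ↥(Cfsg.isometryGroup F (Cfsg.quadFormOdd m F)), ConjClasses.mk g = C ∧ orderOf g = r} = if Odd i then Nat.choose (m / i + t / 2) (t / 2) - 1 else Nat.choose ((2 * m + 1) / i + t) t - 1 := by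
  classical
  haveI := Fact.mk hr
  haveI : NeZero r := ⟨hr.ne_zero⟩
  subst hF
  have h2 : (2 : F) ≠ 0 := by
    intro h
    haveI : CharP F 2 := CharTwo.of_one_ne_zero_of_two_eq_zero one_ne_zero h
    have := FiniteField.even_card_iff_char_two.1 (ringChar.eq F 2)
    rw [Nat.odd_iff] at hq
    omega
  obtain ⟨a, -, hFa⟩ := CfsgLib.PSpGraph.card_eq_pow F p
  obtain ⟨ζ, hζ⟩ := exists_root_of_unity (F := F) p hr hrp
  have hcop : Nat.Coprime (Fintype.card F) r := CfsgLib.PSpGraph.coprime_card (F := F) hr hrp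
  let u : (ZMod r)ˣ := ZMod.unitOfCoprime _ hcop
  have hu : (u : ZMod r) = (Fintype.card F : ℕ) := ZMod.coe_unitOfCoprime _ hcop
  have hou : orderOf u = i := by rw [hi, ← orderOf_units, hu]
  have hi0 : 0 < i := hou ▸ orderOf_pos u
  obtain ⟨w, η, hη0, hη, hwg, hcase, hodd', heven'⟩ := exists_orbit_group hr2 hou
  obtain ⟨x, y, hxy⟩ := exists_binary F
  have hQ : (QuadraticMap.polarBilin (Qo (F := F) m)).Nondegenerate := Qo_nondeg h2 m
  rw [show Cfsg.quadFormOdd m F = ⇑(Qo (F := F) m) from funext fun v => (Qo_apply m v).symm]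
  have hT : Nat.card ((ZMod r)ˣ ⧸ Subgroup.zpowers w) * (2 * η) = t * i := by
    rw [← hη, ht, ← Subgroup.card_eq_card_quotient_mul_card_subgroup, Nat.card_eq_fintype_card,
      ZMod.card_units]
  have hsum : ∀ g : Cfsg.isometryGroup F ⇑(Qo (F := F) m), g ^ r = 1 →
      ∑ b : (ZMod r)ˣ, (matRoots g.1.1).count (root ζ b) ≤ Nat.card (Subgroup.zpowers w) * (m / η) := by
    intro g hg
    obtain ⟨K, hK⟩ := exists_sum_count p a hFa hζ hu hwg hQ g
    rw [hK]
    refine Nat.mul_le_mul_left _ ((Nat.le_div_iff_mul_le hη0).2 ?_)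
    have h1 := sum_count_le hζ (matRoots g.1.1)
    rw [hK, matRoots_card, hη] at h1
    simp only [Fintype.card_sum, Fintype.card_fin, Fintype.card_unit] at h1
    have : 2 * (K * η) ≤ 2 * m + 1 := by linarith [mul_assoc 2 η K, mul_comm η K]
    omega
  rcases hcase with ⟨hio, he⟩ | ⟨hie, he⟩
  · rw [if_pos hio]
    rw [card_orth_classes p a hFa hr2 hrp hζ hu hwg hQ (m / η) hsum ?_]
    · rw [he]
      rw [he] at hT
      have h1 : Nat.card ((ZMod r)ˣ ⧸ Subgroup.zpowers w) * 2 = t :=
        Nat.eq_of_mul_eq_mul_right hi0 (by rw [← hT]; ring)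
      rw [show t / 2 = Nat.card ((ZMod r)ˣ ⧸ Subgroup.zpowers w) by omega]
    · intro l hl
      have hle : η * Multiset.card l ≤ m := (Nat.mul_le_mul_left η hl).trans (Nat.mul_div_le m η)
      exact realises_add_trivial hζ (realises_plus hζ (fun c => block_plus p a hFa hrp hζ hu hwg hη0 hη (hodd' hio) c) l)
        ((qo_add _ (m - η * Multiset.card l)).trans (formEquiv_qo_eq (by omega)))
  · rw [if_neg (Nat.not_odd_iff_even.2 hie)]
    rw [he] at hT
    have hTt : Nat.card ((ZMod r)ˣ ⧸ Subgroup.zpowers w) = t := Nat.eq_of_mul_eq_mul_right hi0 hT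
    have hdiv : (2 * m + 1) / i = m / η := by
      rw [← he, ← Nat.div_div_eq_div_mul, show (2 * m + 1) / 2 = m by omega]
    rw [card_orth_classes p a hFa hr2 hrp hζ hu hwg hQ (m / η) hsum ?_]
    · rw [hTt, hdiv]
    · intro l hl
      have hle : η * Multiset.card l ≤ m := (Nat.mul_le_mul_left η hl).trans (Nat.mul_div_le m η)
      obtain ⟨hev, hod⟩ := realises_minus hζ hη0 hxy
        (fun c => block_minus p a hFa hrp hζ hu hwg hη0 hη (heven' hie) hxy c) l
      rcases Nat.even_or_odd (Multiset.card l) with hk | hk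
      · exact realises_add_trivial hζ (hev hk)
          ((qo_add _ (m - η * Multiset.card l)).trans (formEquiv_qo_eq (by omega)))
      · have h1 : 1 ≤ η * Multiset.card l := Nat.mul_pos hη0 hk.pos
        obtain ⟨c, -, hc⟩ := nb_add_unit h2 hxy
        have e1 : FormEquiv (Qs (Qm (η * Multiset.card l - 1) x y) (Uc c))
            (Qo (F := F) (η * Multiset.card l)) := by
          rw [Qm_eq]
          exact ((formEquiv_assoc _ _ _).trans (formEquiv_sum (FormEquiv.refl _) hc)).trans
            ((qo_add _ 1).trans (formEquiv_qo_eq (by omega)))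
        exact realises_add_trivial hζ (realises_add_trivial hζ (hod hk) e1)
          ((formEquiv_comm _ _).trans ((qo_add (m - η * Multiset.card l) _).trans (formEquiv_qo_eq (by omega))))

end Cfsg.Agent.S2673
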