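import Cfsg.Statements.S2674
import Cfsg.Agent.Lib.SemisimplePrimeClasses.OrthIndex
-- import your own Cfsg.Agent.* helpers here

set_option autoImplicit false
open Cfsg

namespace Cfsg.Agent.S2674

open CfsgLib.SemisimplePrimeClasses CfsgLib.Lagrangian CfsgLib.StdQuadForms CfsgLib.OmegaSum
set_option maxHeartbeats 1000000

/-- Number of conjugacy classes of elements of odd prime order r ≠ p in the orthogonal group O⁺_2m(q) of Σ x_j y_j (m ≥ 1): with i the multiplicative order of q mod r and t = (r − 1)/i — if i is odd, C(⌊m/i⌋ + t/2, t/2) − 1; if i is even, C(⌊2m/i⌋ + t, t) − 1 minus, when i divides 2m with odd quotient, the C(2m/i + t − 1, t − 1) tuples using the whole space (an odd number of elliptic i-blocks fills an elliptic, not a hyperbolic, space). -/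
theorem result {F : Type*} [Field F] [Fintype F] {p q : ℕ} [Fact p.Prime] [CharP F p] (hF : Fintype.card F = q) (m r i t : ℕ) (hm : 1 ≤ m) (hr : r.Prime) (hr2 : r ≠ 2) (hrp : r ≠ p) (hi : i = orderOf (q : ZMod r)) (ht : t * i = r - 1) : Nat.card {C : ConjClasses ↥(Cfsg.isometryGroup F (Cfsg.quadFormPlus m F)) // ∃ g : ↥(Cfsg.isometryGroup F (Cfsg.quadFormPlus m F)), ConjClasses.mk g = C ∧ orderOf g = r} = if Odd i then Nat.choose (m / i + t / 2) (t / 2) - 1 else Nat.choose (2 * m / i + t) t - 1 - (if i ∣ 2 * m ∧ Odd (2 * m / i) then Nat.choose (2 * m / i + t - 1) (t - 1) else 0) := by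
    classical
    haveI := Fact.mk hr
    haveI : NeZero r := ⟨hr.ne_zero⟩
    subst hF
    obtain ⟨a, -, hFa⟩ := CfsgLib.PSpGraph.card_eq_pow F p
    obtain ⟨ζ, hζ⟩ := exists_root_of_unity (F := F) p hr hrp
    have hcop : Nat.Coprime (Fintype.card F) r := CfsgLib.PSpGraph.coprime_card (F := F) hr hrp
    let u : (ZMod r)ˣ := ZMod.unitOfCoprime _ hcop
    have hu : (u : ZMod r) = (Fintype.card F : ℕ) := ZMod.coe_unitOfCoprime _ hcop
    have hou : orderOf u = i := by rw [hi, ← orderOf_units, hu]
    have hi0 : 0 < i := hou ▸ orderOf_pos u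
    obtain ⟨w, η, hη0, hη, hwg, hcase, hodd', heven'⟩ := exists_orbit_group hr2 hou
    obtain ⟨x, y, hxy⟩ := exists_binary F
    have hQ : (QuadraticMap.polarBilin (Qp m F)).Nondegenerate := Qp_nondeg
    rw [show Cfsg.quadFormPlus m F = ⇑(Qp m F) from funext fun v => (Qp_apply v).symm]
    have hT : Nat.card ((ZMod r)ˣ ⧸ Subgroup.zpowers w) * (2 * η) = t * i := by
      rw [← hη, ht, ← Subgroup.card_eq_card_quotient_mul_card_subgroup, Nat.card_eq_fintype_card,
        ZMod.card_units]
    have hsum : ∀ g : Cfsg.isometryGroup F ⇑(Qp m F), g ^ r = 1 → ∃ K,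
        ∑ b : (ZMod r)ˣ, (matRoots g.1.1).count (root ζ b) = Nat.card (Subgroup.zpowers w) * K ∧ K ≤ m / η := by
      intro g hg
      obtain ⟨K, hK⟩ := exists_sum_count p a hFa hζ hu hwg hQ g
      refine ⟨K, hK, (Nat.le_div_iff_mul_le hη0).2 ?_⟩
      have h1 := sum_count_le hζ (matRoots g.1.1)
      rw [hK, matRoots_card, hη] at h1
      simp only [Fintype.card_sum, Fintype.card_fin] at h1
      have : 2 * (K * η) ≤ 2 * m := by linarith [mul_assoc 2 η K, mul_comm η K]
      omega
    rcases hcase with ⟨hio, he⟩ | ⟨hie, he⟩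
    · rw [if_pos hio]
      rw [card_orth_classes p a hFa hr2 hrp hζ hu hwg hQ (m / η) ?_ ?_]
      · rw [he]
        rw [he] at hT
        have h1 : Nat.card ((ZMod r)ˣ ⧸ Subgroup.zpowers w) * 2 = t :=
          Nat.eq_of_mul_eq_mul_right hi0 (by rw [← hT]; ring)
        rw [show t / 2 = Nat.card ((ZMod r)ˣ ⧸ Subgroup.zpowers w) by omega]
      · intro g hg
        obtain ⟨K, hK, hKle⟩ := hsum g hg
        rw [hK]
        exact Nat.mul_le_mul_left _ hKle
      · intro l hl
        have hle : η * Multiset.card l ≤ m := (Nat.mul_le_mul_left η hl).trans (Nat.mul_div_le m η)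
        exact realises_add_trivial hζ (realises_plus hζ (fun c => block_plus p a hFa hrp hζ hu hwg hη0 hη (hodd' hio) c) l)
          ((qp_add _ (m - η * Multiset.card l)).trans (formEquiv_qp_eq (by omega)))
    · rw [if_neg (Nat.not_odd_iff_even.2 hie)]
      rw [he] at hT
      have hTt : Nat.card ((ZMod r)ˣ ⧸ Subgroup.zpowers w) = t := Nat.eq_of_mul_eq_mul_right hi0 hT
      have hdiv : 2 * m / i = m / η := by rw [← he, Nat.mul_div_mul_left _ _ two_pos]
      have hcond : (i ∣ 2 * m ∧ Odd (2 * m / i)) ↔ (η ∣ m ∧ Odd (m / η)) := by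
        rw [hdiv, ← he, Nat.mul_dvd_mul_iff_left two_pos]
      set N := if η ∣ m ∧ Odd (m / η) then m / η - 1 else m / η with hN
      rw [card_orth_classes p a hFa hr2 hrp hζ hu hwg hQ N ?_ ?_]
      · rw [hTt, hdiv, hN]
        by_cases hc : η ∣ m ∧ Odd (m / η)
        · rw [if_pos hc, if_pos (show i ∣ 2 * m ∧ Odd (m / η) from ⟨(hcond.2 hc).1, hc.2⟩)]
          obtain ⟨c, hc'⟩ : ∃ c, m / η = c + 1 := ⟨m / η - 1, by have := hc.2.pos; omega⟩
          have ht0 : 0 < t := by rw [← hTt]; exact Nat.card_pos
          obtain ⟨d, hd⟩ : ∃ d, t = d + 1 := ⟨t - 1, by omega⟩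
          rw [hc', hd, Nat.add_sub_cancel, Nat.add_sub_cancel, show c + 1 + (d + 1) = (c + (d + 1)) + 1 by ring,
            show c + (d + 1) + 1 - 1 = c + (d + 1) by omega,
            Nat.choose_succ_succ']
          omega
        · rw [if_neg hc, if_neg (fun h => hc (hcond.1 (by rw [hdiv]; exact ⟨h.1, h.2⟩))), Nat.sub_zero]
      · intro g hg
        obtain ⟨K, hK, hKle⟩ := hsum g hg
        rw [hK]
        refine Nat.mul_le_mul_left _ ?_
        rw [hN]
        split_ifs with hc
        swap
        · exact hKle
        by_contra hgt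
        have hKeq : K = m / η := by omega
        obtain ⟨k, hk⟩ := hc.1
        have hko : Odd k := by
          have h2 := hc.2
          rwa [hk, Nat.mul_div_cancel_left _ hη0] at h2
        have hum : (Fintype.card F : ZMod r) ^ m = -1 := by
          rw [← hu, ← Units.val_pow_eq_pow_val, hk, pow_mul, heven' hie, hko.neg_one_pow, Units.val_neg, Units.val_one]
        have hq1 : (Fintype.card F : ZMod r) ≠ 1 := fun h => by
          have : u = 1 := Units.ext (by rw [hu, h, Units.val_one])
          rw [this, orderOf_one] at hou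
          obtain ⟨c, hc⟩ := hie
          omega
        have hq0 : (Fintype.card F : ZMod r) ≠ 0 := hu ▸ u.ne_zero
        have h20 : (2 : ZMod r) ≠ 0 := fun h => by
          have : ((2 : ℕ) : ZMod r) = 0 := by exact_mod_cast h
          rw [ZMod.natCast_eq_zero_iff] at this
          exact hr2 ((Nat.prime_dvd_prime_iff_eq hr Nat.prime_two).1 this)
        have h1 : (1 : AlgebraicClosure F) ∈ matRoots g.1.1 := by
          obtain ⟨j, rfl⟩ | rfl : (∃ j, m = j + 2) ∨ m = 1 := by
            rcases m with _ | _ | j
            · omega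
            · exact Or.inr rfl
            · exact Or.inl ⟨j, rfl⟩
          · refine one_mem_of_summand ((qp_add (j + 1) 1).trans (formEquiv_qp_eq (by omega))) (index_plus j) ?_ g hg
            refine not_dvd_index hr2 Fintype.card_pos false true (x := -1) (y := -(Fintype.card F : ZMod r)⁻¹) ?_ hum ?_ ?_ hq0
            · have e : (Fintype.card F : ZMod r) ^ (j + 1) * Fintype.card F = -1 := by rw [← pow_succ, hum]
              field_simp
              linear_combination e
            · simp only [Bool.false_eq_true, if_false]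
              intro h
              exact h20 (by linear_combination -h)
            · simp only [if_true]
              intro h
              apply hq1
              field_simp at h
              linear_combination h
          · refine one_mem_of_summand (μ := Fin 1 ⊕ Fin 1) (qp_add 0 1) (by rw [card_Qp_zero, one_mul]) ?_ g hg
            show ¬ r ∣ Nat.card (Cfsg.isometryGroup F ⇑(Qp (0 + 1) F))
            rw [card_iso_Qp _ le_rfl]
            simp only [Nat.zero_add, Nat.sub_self, mul_zero, pow_zero, mul_one, Finset.range_zero,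
              Finset.prod_empty, pow_one]
            intro h
            rcases hr.dvd_mul.1 h with h | h
            · exact hr2 ((Nat.prime_dvd_prime_iff_eq hr Nat.prime_two).1 h)
            · rw [← ZMod.natCast_eq_zero_iff, Nat.cast_sub Fintype.card_pos, Nat.cast_one, sub_eq_zero] at h
              exact hq1 h
        have h2 := sum_count_lt hζ g.1.1 h1
        rw [hK, hη, hKeq] at h2
        simp only [Fintype.card_sum, Fintype.card_fin] at h2
        rw [hk, Nat.mul_div_cancel_left _ hη0] at h2
        linarith [mul_assoc 2 η k]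
      · intro l hl
        have hNle : N ≤ m / η := by
          rw [hN]
          split_ifs
          · exact Nat.sub_le _ _
          · exact le_rfl
        have hl' : Multiset.card l ≤ m / η := hl.trans hNle
        have hle : η * Multiset.card l ≤ m := (Nat.mul_le_mul_left η hl').trans (Nat.mul_div_le m η)
        obtain ⟨hev, hod⟩ := realises_minus hζ hη0 hxy
          (fun c => block_minus p a hFa hrp hζ hu hwg hη0 hη (heven' hie) hxy c) l
        rcases Nat.even_or_odd (Multiset.card l) with hk | hk
        · exact realises_add_trivial hζ (hev hk)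
            ((qp_add _ (m - η * Multiset.card l)).trans (formEquiv_qp_eq (by omega)))
        · have hlt : η * Multiset.card l < m := by
            refine lt_of_le_of_ne hle fun h => ?_
            have e : m / η = Multiset.card l := by rw [← h, Nat.mul_div_cancel_left _ hη0]
            rw [hN, if_pos ⟨⟨_, h.symm⟩, e ▸ hk⟩] at hl
            have := hk.pos
            omega
          have h1 : 1 ≤ η * Multiset.card l := Nat.mul_pos hη0 hk.pos
          exact realises_add_trivial hζ (hod hk)
            ((qm_add_qm hxy _ (m - η * Multiset.card l - 1)).trans (formEquiv_qp_eq (by omega)))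

end Cfsg.Agent.S2674
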