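import Cfsg.Statements.S2675
import Cfsg.Agent.Lib.SemisimplePrimeClasses.OrthIndex
-- import your own Cfsg.Agent.* helpers here

set_option autoImplicit false
open Cfsg

namespace Cfsg.Agent.S2675

open CfsgLib.SemisimplePrimeClasses CfsgLib.Lagrangian CfsgLib.StdQuadForms CfsgLib.OmegaSum
set_option maxHeartbeats 1000000

/-- Number of conjugacy classes of elements of odd prime order r ≠ p in the orthogonal group O⁻_2m(q) of an elliptic form Σ_(j<m−1) x_j y_j + z₁² + a z₁z₂ + c z₂² (binary part anisotropic, m ≥ 1): with i the multiplicative order of q mod r and t = (r − 1)/i — if i is odd, C(⌊m/i⌋ + t/2, t/2) − 1 minus, when i divides m, the C(m/i + t/2 − 1, t/2 − 1) tuples filling the whole space (dual pairs of totally singular blocks fill a hyperbolic space); if i is even, C(⌊2m/i⌋ + t, t) − 1 minus, when i divides 2m with even quotient, the C(2m/i + t − 1, t − 1) tuples filling the whole space with an even number of elliptic blocks. -/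
theorem result {F : Type*} [Field F] [Fintype F] {p q : ℕ} [Fact p.Prime] [CharP F p] (hF : Fintype.card F = q) (m r i t : ℕ) (hm : 1 ≤ m) (a c : F) (hac : ∀ z₁ z₂ : F, z₁ ^ 2 + a * z₁ * z₂ + c * z₂ ^ 2 = 0 → z₁ = 0 ∧ z₂ = 0) (hr : r.Prime) (hr2 : r ≠ 2) (hrp : r ≠ p) (hi : i = orderOf (q : ZMod r)) (ht : t * i = r - 1) : Nat.card {C : ConjClasses ↥(Cfsg.isometryGroup F (Cfsg.quadFormMinus (m - 1) F a c)) // ∃ g : ↥(Cfsg.isometryGroup F (Cfsg.quadFormMinus (m - 1) F a c)), ConjClasses.mk g = C ∧ orderOf g = r} = if Odd i then Nat.choose (m / i + t / 2) (t / 2) - 1 - (if i ∣ m then Nat.choose (m / i + t / 2 - 1) (t / 2 - 1) else 0) else Nat.choose (2 * m / i + t) t - 1 - (if i ∣ 2 * m ∧ Even (2 * m / i) then Nat.choose (2 * m / i + t - 1) (t - 1) else 0) := by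
    classical
    haveI := Fact.mk hr
    haveI : NeZero r := ⟨hr.ne_zero⟩
    subst hF
    obtain ⟨e0, -, hFa⟩ := CfsgLib.PSpGraph.card_eq_pow F p
    obtain ⟨ζ, hζ⟩ := exists_root_of_unity (F := F) p hr hrp
    have hcop : Nat.Coprime (Fintype.card F) r := CfsgLib.PSpGraph.coprime_card (F := F) hr hrp
    let u : (ZMod r)ˣ := ZMod.unitOfCoprime _ hcop
    have hu : (u : ZMod r) = (Fintype.card F : ℕ) := ZMod.coe_unitOfCoprime _ hcop
    have hou : orderOf u = i := by rw [hi, ← orderOf_units, hu]
    have hi0 : 0 < i := hou ▸ orderOf_pos u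
    obtain ⟨w, η, hη0, hη, hwg, hcase, hodd', heven'⟩ := exists_orbit_group hr2 hou
    have hQ : (QuadraticMap.polarBilin (Qm (m - 1) a c)).Nondegenerate := Qm_nondeg _ hac
    rw [show Cfsg.quadFormMinus (m - 1) F a c = ⇑(Qm (m - 1) a c) from funext fun v => (Qm_apply _ _ _ v).symm]
    have hT : Nat.card ((ZMod r)ˣ ⧸ Subgroup.zpowers w) * (2 * η) = t * i := by
      rw [← hη, ht, ← Subgroup.card_eq_card_quotient_mul_card_subgroup, Nat.card_eq_fintype_card,
        ZMod.card_units]
    have hTpos : 0 < Nat.card ((ZMod r)ˣ ⧸ Subgroup.zpowers w) := Nat.card_pos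
    have hdim : Fintype.card ((Fin (m - 1) ⊕ Fin (m - 1)) ⊕ Fin 2) = 2 * m := by
      simp only [Fintype.card_sum, Fintype.card_fin]; omega
    have hsum : ∀ g : Cfsg.isometryGroup F ⇑(Qm (m - 1) a c), g ^ r = 1 → ∃ K,
        ∑ b : (ZMod r)ˣ, (matRoots g.1.1).count (root ζ b) = Nat.card (Subgroup.zpowers w) * K ∧ K ≤ m / η := by
      intro g hg
      obtain ⟨K, hK⟩ := exists_sum_count p e0 hFa hζ hu hwg hQ g
      refine ⟨K, hK, (Nat.le_div_iff_mul_le hη0).2 ?_⟩
      have h1 := sum_count_le hζ (matRoots g.1.1)
      rw [hK, matRoots_card, hη, hdim] at h1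
      have : 2 * (K * η) ≤ 2 * m := by linarith [mul_assoc 2 η K, mul_comm η K]
      omega
    have hq0 : (Fintype.card F : ZMod r) ≠ 0 := hu ▸ u.ne_zero
    have h20 : (2 : ZMod r) ≠ 0 := fun h => by
      have : ((2 : ℕ) : ZMod r) = 0 := by exact_mod_cast h
      rw [ZMod.natCast_eq_zero_iff] at this
      exact hr2 ((Nat.prime_dvd_prime_iff_eq hr Nat.prime_two).1 this)
    -- no fixed-point-free element when excluded
    have hnofpf : ∀ g : Cfsg.isometryGroup F ⇑(Qm (m - 1) a c), g ^ r = 1 →
        (Fintype.card F : ZMod r) ^ m = 1 →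
        ((Fintype.card F : ZMod r) ≠ -1 ∨ ((Fintype.card F : ZMod r) ≠ 1 ∧ 2 ≤ m)) →
        (1 : AlgebraicClosure F) ∈ matRoots g.1.1 := by
      intro g hg hum hside
      obtain ⟨j, rfl⟩ | rfl : (∃ j, m = j + 2) ∨ m = 1 := by
        rcases m with _ | _ | j
        · omega
        · exact Or.inr rfl
        · exact Or.inl ⟨j, rfl⟩
      · have e : (Fintype.card F : ZMod r) ^ (j + 1) * Fintype.card F = 1 := by rw [← pow_succ, hum]
        have hy : (Fintype.card F : ZMod r) ^ (j + 1) = (Fintype.card F : ZMod r)⁻¹ := eq_inv_of_mul_eq_one_left e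
        rcases hside with hside | ⟨hside, -⟩
        · refine one_mem_of_summand ((qm_add (j + 1) 0 a c).trans (formEquiv_qm_eq a c (by omega))) ?_
            (not_dvd_index hr2 Fintype.card_pos true true (n := j) hy hum ?_ ?_ hq0) g hg
          · exact index_minus_plus hac j
          · simp only [if_true]
            intro h; exact h20 (by linear_combination h)
          · simp only [if_true]
            intro h
            apply hside
            field_simp at h
            linear_combination h
        · refine one_mem_of_summand (((formEquiv_comm _ _).trans (qm_add 1 j a c)).trans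
            (formEquiv_qm_eq a c (by omega))) ?_
            (not_dvd_index hr2 Fintype.card_pos true false (n := j) hy hum ?_ ?_ hq0) g hg
          · exact index_minus hac j
          · simp only [if_true]
            intro h; exact h20 (by linear_combination h)
          · simp only [Bool.false_eq_true, if_false]
            intro h
            apply hside
            field_simp at h
            linear_combination -h
      · rcases hside with hside | ⟨-, h2⟩
        swap
        · omega
        refine one_mem_of_summand (Q' := Qp 0 F) (R := Qm 0 a c) (qm_add 0 0 a c)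
          (t := Nat.card (Cfsg.isometryGroup F ⇑(Qm (0 + 0) a c))) (by rw [card_Qp_zero, one_mul]) ?_ g hg
        rw [show Qm (0 + 0) a c = Qm (1 - 1) a c from rfl, card_iso_Qm 1 le_rfl hac]
        simp only [Nat.sub_self, mul_zero, pow_zero, mul_one, Finset.range_zero, Finset.prod_empty, pow_one]
        intro h
        rcases hr.dvd_mul.1 h with h | h
        · exact hr2 ((Nat.prime_dvd_prime_iff_eq hr Nat.prime_two).1 h)
        · rw [← ZMod.natCast_eq_zero_iff, Nat.cast_add, Nat.cast_one] at h
          exact hside (eq_neg_of_add_eq_zero_left h)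
    rcases hcase with ⟨hio, he⟩ | ⟨hie, he⟩
    · rw [if_pos hio]
      set N := if η ∣ m then m / η - 1 else m / η with hN
      rw [he] at hT
      have h1 : Nat.card ((ZMod r)ˣ ⧸ Subgroup.zpowers w) * 2 = t :=
        Nat.eq_of_mul_eq_mul_right hi0 (by rw [← hT]; ring)
      rw [show t / 2 = Nat.card ((ZMod r)ˣ ⧸ Subgroup.zpowers w) by omega]
      rw [card_orth_classes p e0 hFa hr2 hrp hζ hu hwg hQ N ?_ ?_]
      · rw [← he, hN]
        by_cases hc : η ∣ m
        · rw [if_pos hc, if_pos hc]
          obtain ⟨k, hk⟩ : ∃ k, m / η = k + 1 := ⟨m / η - 1, by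
            have := (Nat.one_le_div_iff hη0).2 (Nat.le_of_dvd (by omega) hc); omega⟩
          obtain ⟨d, hd⟩ : ∃ d, Nat.card ((ZMod r)ˣ ⧸ Subgroup.zpowers w) = d + 1 :=
            ⟨Nat.card ((ZMod r)ˣ ⧸ Subgroup.zpowers w) - 1, by omega⟩
          rw [hk, hd, Nat.add_sub_cancel, Nat.add_sub_cancel, show k + 1 + (d + 1) = (k + (d + 1)) + 1 by ring,
            show k + (d + 1) + 1 - 1 = k + (d + 1) by omega,
            Nat.choose_succ_succ']
          omega
        · rw [if_neg hc, if_neg hc, Nat.sub_zero]
      · intro g hg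
        obtain ⟨K, hK, hKle⟩ := hsum g hg
        rw [hK]
        refine Nat.mul_le_mul_left _ ?_
        rw [hN]
        split_ifs with hc
        swap
        · exact hKle
        by_contra hgt
        have hKeq : K = m / η := by omega
        obtain ⟨k, hk⟩ := hc
        have hum : (Fintype.card F : ZMod r) ^ m = 1 := by
          rw [← hu, ← Units.val_pow_eq_pow_val, hk, pow_mul, hodd' hio, one_pow, Units.val_one]
        have hside : (Fintype.card F : ZMod r) ≠ -1 := fun h => by
          have h2 : u ^ 2 = 1 := Units.ext (by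
            rw [Units.val_pow_eq_pow_val, hu, h, neg_one_sq, Units.val_one])
          have h3 := hou ▸ orderOf_dvd_of_pow_eq_one h2
          rcases (Nat.dvd_prime Nat.prime_two).1 h3 with h4 | h4
          · have hu1 : u = 1 := orderOf_eq_one_iff.1 (hou.trans h4)
            have h5 : (u : ZMod r) = 1 := by rw [hu1, Units.val_one]
            rw [hu, h] at h5
            exact h20 (by linear_combination -h5)
          · obtain ⟨c', hc'⟩ := hio
            omega
        have h2 := sum_count_lt hζ g.1.1 (hnofpf g hg hum (Or.inl hside))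
        rw [hK, hη, hKeq, hdim, hk, Nat.mul_div_cancel_left _ hη0] at h2
        linarith [mul_assoc 2 η k]
      · intro l hl
        have hNle : N ≤ m / η := by
          rw [hN]
          split_ifs
          · exact Nat.sub_le _ _
          · exact le_rfl
        have hle : η * Multiset.card l ≤ m := (Nat.mul_le_mul_left η (hl.trans hNle)).trans (Nat.mul_div_le m η)
        have hlt : η * Multiset.card l < m := by
          refine lt_of_le_of_ne hle fun h => ?_
          have e : m / η = Multiset.card l := by rw [← h, Nat.mul_div_cancel_left _ hη0]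
          rw [hN, if_pos ⟨_, h.symm⟩, e] at hl
          rcases Nat.eq_zero_or_pos (Multiset.card l) with h0 | h0
          · rw [h0, mul_zero] at h; omega
          · omega
        exact realises_add_trivial hζ
          (realises_plus hζ (fun b => block_plus p e0 hFa hrp hζ hu hwg hη0 hη (hodd' hio) b) l)
          ((qm_add _ (m - 1 - η * Multiset.card l) a c).trans (formEquiv_qm_eq a c (by omega)))
    · rw [if_neg (Nat.not_odd_iff_even.2 hie)]
      rw [he] at hT
      have hTt : Nat.card ((ZMod r)ˣ ⧸ Subgroup.zpowers w) = t := Nat.eq_of_mul_eq_mul_right hi0 hT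
      have hdiv : 2 * m / i = m / η := by rw [← he, Nat.mul_div_mul_left _ _ two_pos]
      have hcond : (i ∣ 2 * m ∧ Even (2 * m / i)) ↔ (η ∣ m ∧ Even (m / η)) := by
        rw [hdiv, ← he, Nat.mul_dvd_mul_iff_left two_pos]
      set N := if η ∣ m ∧ Even (m / η) then m / η - 1 else m / η with hN
      rw [card_orth_classes p e0 hFa hr2 hrp hζ hu hwg hQ N ?_ ?_]
      · rw [hTt, hdiv, hN]
        by_cases hc : η ∣ m ∧ Even (m / η)
        · rw [if_pos hc, if_pos (show i ∣ 2 * m ∧ Even (m / η) from ⟨(hcond.2 hc).1, hc.2⟩)]
          obtain ⟨k, hk⟩ : ∃ k, m / η = k + 1 := ⟨m / η - 1, by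
            have := (Nat.one_le_div_iff hη0).2 (Nat.le_of_dvd (by omega) hc.1); omega⟩
          obtain ⟨d, hd⟩ : ∃ d, t = d + 1 := ⟨t - 1, by omega⟩
          rw [hk, hd, Nat.add_sub_cancel, Nat.add_sub_cancel, show k + 1 + (d + 1) = (k + (d + 1)) + 1 by ring,
            show k + (d + 1) + 1 - 1 = k + (d + 1) by omega,
            Nat.choose_succ_succ']
          omega
        · rw [if_neg hc, if_neg (fun h => hc (hcond.1 (by rw [hdiv]; exact ⟨h.1, h.2⟩))), Nat.sub_zero]
      · intro g hg
        obtain ⟨K, hK, hKle⟩ := hsum g hg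
        rw [hK]
        refine Nat.mul_le_mul_left _ ?_
        rw [hN]
        split_ifs with hc
        swap
        · exact hKle
        by_contra hgt
        have hKeq : K = m / η := by omega
        obtain ⟨k, hk⟩ := hc.1
        have hke : Even k := by
          have h2 := hc.2
          rwa [hk, Nat.mul_div_cancel_left _ hη0] at h2
        have hum : (Fintype.card F : ZMod r) ^ m = 1 := by
          rw [← hu, ← Units.val_pow_eq_pow_val, hk, pow_mul, heven' hie, hke.neg_one_pow, Units.val_one]
        have hq1 : (Fintype.card F : ZMod r) ≠ 1 := fun h => by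
          have : u = 1 := Units.ext (by rw [hu, h, Units.val_one])
          rw [this, orderOf_one] at hou
          obtain ⟨c', hc'⟩ := hie
          omega
        have hm2 : 2 ≤ m := by
          obtain ⟨e', he'⟩ := hke
          have hk0 : 0 < k := Nat.pos_of_ne_zero fun h => by rw [h, mul_zero] at hk; omega
          have := Nat.mul_le_mul (show 1 ≤ η from hη0) (show 2 ≤ k by omega)
          omega
        have h2 := sum_count_lt hζ g.1.1 (hnofpf g hg hum (Or.inr ⟨hq1, hm2⟩))
        rw [hK, hη, hKeq, hdim, hk, Nat.mul_div_cancel_left _ hη0] at h2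
        linarith [mul_assoc 2 η k]
      · intro l hl
        have hNle : N ≤ m / η := by
          rw [hN]
          split_ifs
          · exact Nat.sub_le _ _
          · exact le_rfl
        have hle : η * Multiset.card l ≤ m := (Nat.mul_le_mul_left η (hl.trans hNle)).trans (Nat.mul_div_le m η)
        obtain ⟨hev, hod⟩ := realises_minus hζ hη0 hac
          (fun b => block_minus p e0 hFa hrp hζ hu hwg hη0 hη (heven' hie) hac b) l
        rcases Nat.even_or_odd (Multiset.card l) with hk | hk
        · have hlt : η * Multiset.card l < m := by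
            refine lt_of_le_of_ne hle fun h => ?_
            have e : m / η = Multiset.card l := by rw [← h, Nat.mul_div_cancel_left _ hη0]
            rw [hN, if_pos ⟨⟨_, h.symm⟩, e ▸ hk⟩, e] at hl
            rcases Nat.eq_zero_or_pos (Multiset.card l) with h0 | h0
            · rw [h0, mul_zero] at h; omega
            · omega
          exact realises_add_trivial hζ (hev hk)
            ((qm_add _ (m - 1 - η * Multiset.card l) a c).trans (formEquiv_qm_eq a c (by omega)))
        · have h1 : 1 ≤ η * Multiset.card l := Nat.mul_pos hη0 hk.pos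
          exact realises_add_trivial hζ (hod hk)
            (((formEquiv_comm _ _).trans (qm_add (m - η * Multiset.card l) _ a c)).trans (formEquiv_qm_eq a c (by omega)))

end Cfsg.Agent.S2675
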