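import Cfsg.Statements.S2676
import Cfsg.Agent.Lib.IsometryClasses.UniCount
-- import your own Cfsg.Agent.* helpers here

set_option autoImplicit false
open Classical
open Cfsg

namespace Cfsg.Agent.S2676

open CfsgLib.IsometryClasses

/-- Number of conjugacy classes of elements of order p in Sp_2m(q), q a power of the odd prime p: the classes correspond to the signed partitions of 2m — partitions with all parts at most p in which every odd part has even multiplicity, each even part size that occurs carrying a sign — other than the all-ones partition; so the count is the sum over such partitions of 2^(number of distinct even parts), minus one. -/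
theorem result {F : Type*} [Field F] [Fintype F] {p : ℕ} [Fact p.Prime] [CharP F p] (hp : p ≠ 2) (m : ℕ) : Nat.card {C : ConjClasses ↥(Matrix.symplecticGroup (Fin m) F) // ∃ g : Matrix.symplecticGroup (Fin m) F, ConjClasses.mk g = C ∧ orderOf g = p} = (∑ μ ∈ Finset.univ.filter (fun μ : Nat.Partition (2 * m) => (∀ a ∈ μ.parts, a ≤ p) ∧ ∀ j : ℕ, Odd j → Even (μ.parts.count j)), 2 ^ ((μ.parts.toFinset.filter (fun j : ℕ => Even j)).card)) - 1 := by
    classical
    have hpp : p.Prime := Fact.out
    have h2 : (2 : F) ≠ 0 := fun h => hp (by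
      have h1 : p ∣ 2 := (CharP.cast_eq_zero_iff F p 2).mp (by exact_mod_cast h)
      exact (Nat.prime_dvd_prime_iff_eq hpp Nat.prime_two).mp h1)
    set G := ↥(Matrix.symplecticGroup (Fin m) F)
    let S : Set (ConjClasses G) := {C | ∃ g : G, ConjClasses.mk g = C ∧ g ^ p = 1}
    have hset : {C : ConjClasses G | ∃ g : G, ConjClasses.mk g = C ∧ orderOf g = p} = S \ {ConjClasses.mk 1} := by
      ext C
      constructor
      · rintro ⟨g, rfl, hg⟩
        obtain ⟨h1, h0⟩ := (orderOf_eq_prime_iff).mp hg
        refine ⟨⟨g, rfl, h1⟩, fun h => h0 ?_⟩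
        rwa [Set.mem_singleton_iff, ConjClasses.mk_eq_mk_iff_isConj, isConj_one_left] at h
      · rintro ⟨⟨g, rfl, h1⟩, h⟩
        exact ⟨g, rfl, orderOf_eq_prime h1 fun h0 => h (by rw [h0]; exact Set.mem_singleton _)⟩
    have hcard : Nat.card {C : ConjClasses G // ∃ g : G, ConjClasses.mk g = C ∧ orderOf g = p} = Nat.card S - 1 := by
      rw [show Nat.card S = S.ncard from Nat.card_coe_set_eq S, ← Set.ncard_diff_singleton_of_mem (s := S) (a := ConjClasses.mk 1) ⟨1, rfl, one_pow p⟩, ← hset,
        ← Nat.card_coe_set_eq]
      rfl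
    rw [hcard, show Nat.card S = (partSigns p (2 * m)).card from card_classes_pow_eq_one h2 m, partSigns,
      Finset.card_sigma]
    congr 1
    refine Finset.sum_congr (Finset.ext fun μ => ?_) fun μ _ => Finset.card_powerset _
    simp only [Finset.mem_filter, Finset.mem_univ, true_and]
    constructor
    · intro h
      refine ⟨fun a ha => (h a ha).1, fun j hj => ?_⟩
      by_cases hmem : j ∈ μ.parts
      · exact (h j hmem).2 hj
      · rw [Multiset.count_eq_zero.mpr hmem]; exact ⟨0, rfl⟩
    · exact fun h a ha => ⟨h.1 a ha, h.2 a⟩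

end Cfsg.Agent.S2676
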