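import Cfsg.Statements.S2678
import Cfsg.Agent.Lib.FiniteForms.UnitaryEmbed
-- import your own Cfsg.Agent.* helpers here

set_option autoImplicit false
open Cfsg

namespace Cfsg.Agent.S2678

open Matrix

/-- Field-extension embedding of symplectic groups: for a field K with q² elements and a field F with q elements there is an injective homomorphism Sp_2a(K) → Sp_4a(F). -/
theorem result {K F : Type*} [Field K] [Fintype K] [Field F] [Fintype F] {q : ℕ} (hK : Fintype.card K = q ^ 2) (hF : Fintype.card F = q) (a : ℕ) : ∃ φ : ↥(Matrix.symplecticGroup (Fin a) K) →* ↥(Matrix.symplecticGroup (Fin (2 * a)) F), Function.Injective φ := by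
  obtain ⟨i, hi⟩ := CfsgLib.FiniteForms.exists_symp_restrict (K := K) hK hF a
  letI := i.toAlgebra
  obtain ⟨T, hT⟩ := hi
  refine CfsgLib.FiniteForms.exists_hom_symplectic
    (Matrix.symplecticGroup (Fin a) K).subtype Subtype.val_injective T
    fun g u v => hT _ _ u v ?_
  have hg := SymplecticGroup.mem_iff'.mp g.2
  show (g.1 *ᵥ u) ⬝ᵥ (Matrix.J (Fin a) K *ᵥ (g.1 *ᵥ v)) = _
  conv_rhs => rw [← hg, Matrix.mul_assoc, ← Matrix.mulVec_mulVec, ← Matrix.mulVec_mulVec,
    Matrix.dotProduct_mulVec, Matrix.vecMul_transpose]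

end Cfsg.Agent.S2678
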