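import Cfsg.Statements.S2679
import Cfsg.Agent.Lib.FiniteForms.UnitaryEmbed
-- import your own Cfsg.Agent.* helpers here

set_option autoImplicit false
open Cfsg
open Matrix

namespace Cfsg.Agent.S2679

open Matrix in
theorem quad_minus {F R : Type*} [Field F] [Field R] (n : ℕ) (j : F →+* R) (a c : F)
    (v : (Fin n ⊕ Fin n) ⊕ Fin 2 → R) :
    v ⬝ᵥ ((Matrix.fromBlocks (Matrix.fromBlocks 0 1 0 0) 0 0 !![1, a; 0, c] :
      Matrix ((Fin n ⊕ Fin n) ⊕ Fin 2) ((Fin n ⊕ Fin n) ⊕ Fin 2) F).map j *ᵥ v) =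
      Cfsg.quadFormMinus n R (j a) (j c) v := by
  simp [Cfsg.quadFormMinus, Matrix.fromBlocks_map, Matrix.fromBlocks_mulVec, dotProduct,
    Fintype.sum_sum_type, Fin.sum_univ_two, Matrix.mulVec, Matrix.one_apply, apply_ite j]
  ring

open Matrix in
/-- A quadratic identity over `F` holds over any extension. -/
theorem base_change_quad {F R : Type*} [Field F] [Field R] {ι : Type*} [Fintype ι] [DecidableEq ι]
    (j : F →+* R) (A g : Matrix ι ι F)
    (h : ∀ u, (g *ᵥ u) ⬝ᵥ (A *ᵥ (g *ᵥ u)) = u ⬝ᵥ (A *ᵥ u)) (v : ι → R) :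
    (g.map j *ᵥ v) ⬝ᵥ (A.map j *ᵥ (g.map j *ᵥ v)) = v ⬝ᵥ (A.map j *ᵥ v) := by
  set M := gᵀ * A * g - A with hM
  have hM0 : ∀ u, u ⬝ᵥ (M *ᵥ u) = 0 := fun u => by
    rw [hM, sub_mulVec, dotProduct_sub, Matrix.mul_assoc, ← mulVec_mulVec, ← mulVec_mulVec,
      dotProduct_mulVec, vecMul_transpose, h, sub_self]
  have hd : ∀ k, M k k = 0 := fun k => by simpa using hM0 (Pi.single k 1)
  have ha : ∀ k l, M k l + M l k = 0 := fun k l => by
    have := hM0 (Pi.single k 1 + Pi.single l 1)
    simp only [mulVec_add, mulVec_single_one, dotProduct_add, add_dotProduct,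
      single_one_dotProduct, Matrix.col_apply, hd] at this
    linear_combination this
  have hz : v ⬝ᵥ (M.map j *ᵥ v) = 0 := by
    simp only [dotProduct, Matrix.mulVec, Finset.mul_sum, Matrix.map_apply]
    rw [← Fintype.sum_prod_type']
    refine Finset.sum_involution (fun p _ => (p.2, p.1)) (fun p _ => ?_) (fun p _ hp => ?_)
      (fun p _ => Finset.mem_univ _) (fun p _ => rfl)
    · have := congrArg j (ha p.1 p.2)
      rw [map_add, map_zero] at this
      linear_combination (v p.1 * v p.2) * this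
    · intro e
      apply hp
      rw [show p.2 = p.1 from congrArg Prod.fst e, hd, map_zero, zero_mul, mul_zero]
  rw [hM, Matrix.map_sub _ (map_sub j), Matrix.map_mul, Matrix.map_mul, sub_mulVec, dotProduct_sub,
    sub_eq_zero, Matrix.transpose_map, Matrix.mul_assoc, ← mulVec_mulVec, ← mulVec_mulVec,
    dotProduct_mulVec, vecMul_transpose] at hz
  exact hz

/-- An elliptic orthogonal group embeds in the hyperbolic orthogonal group of the same dimension over the quadratic extension: for a field F with q elements and a field K with q² elements there is an injective homomorphism from O⁻_2m(F) (isometries of Σ_(j<m−1) x_j y_j + z₁² + a z₁z₂ + c z₂², binary part anisotropic) to O⁺_2m(K) (isometries of Σ_(j<m) x_j y_j over K). -/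
theorem result {F K : Type*} [Field F] [Fintype F] [Field K] [Fintype K] {q : ℕ} (hF : Fintype.card F = q) (hK : Fintype.card K = q ^ 2) {m : ℕ} (hm : 1 ≤ m) (a c : F) (hac : ∀ z₁ z₂ : F, z₁ ^ 2 + a * z₁ * z₂ + c * z₂ ^ 2 = 0 → z₁ = 0 ∧ z₂ = 0) : ∃ φ : ↥(Cfsg.isometryGroup F (Cfsg.quadFormMinus (m - 1) F a c)) →* ↥(Cfsg.isometryGroup K (Cfsg.quadFormPlus m K)), Function.Injective φ := by
  obtain ⟨i, r, hr, hri⟩ := CfsgLib.FiniteForms.exists_embedding_root (K := K) hK hF a c
    (fun z hz => by
      have := (hac z 1 (by linear_combination hz)).2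
      exact one_ne_zero this)
  obtain ⟨n, rfl⟩ : ∃ n, m = n + 1 := ⟨m - 1, by omega⟩
  obtain ⟨σ, -, -, hfix⟩ := CfsgLib.FiniteForms.quadratic_data hK hF i
  set r' := -i a - r with hr'
  have hrr : r ≠ r' := by
    intro h
    have h2 : (σ r) ^ 2 + i a * σ r + i c = 0 := by
      have := congrArg σ hr
      rwa [map_add, map_add, map_pow, map_mul, (hfix (i a)).mpr ⟨a, rfl⟩,
        (hfix (i c)).mpr ⟨c, rfl⟩, map_zero] at this
    have h3 : (σ r - r) * (σ r - r') = 0 := by rw [hr']; linear_combination h2 - hr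
    rw [← h, mul_self_eq_zero, sub_eq_zero] at h3
    exact hri ((hfix r).mp h3)
  -- the form `Σ xᵢ yᵢ + E` as an upper triangular matrix
  let A : Matrix ((Fin n ⊕ Fin n) ⊕ Fin 2) ((Fin n ⊕ Fin n) ⊕ Fin 2) F :=
    Matrix.fromBlocks (Matrix.fromBlocks 0 1 0 0) 0 0 !![1, a; 0, c]
  let ψ : ↥(Cfsg.isometryGroup F (Cfsg.quadFormMinus n F a c)) →*
      Matrix ((Fin n ⊕ Fin n) ⊕ Fin 2) ((Fin n ⊕ Fin n) ⊕ Fin 2) K :=
    (RingHom.mapMatrix i).toMonoidHom.comp
      ((Units.coeHom _).comp (Cfsg.isometryGroup F (Cfsg.quadFormMinus n F a c)).subtype)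
  have hψ : Function.Injective ψ := fun g h e =>
    Subtype.ext (Units.ext (Matrix.map_injective i.injective e))
  letI : Algebra K K := Algebra.id K
  let e : Fin (n + 1) ≃ Fin n ⊕ Fin 1 := finSumFinEquiv.symm
  let f : ((Fin n ⊕ Fin n) ⊕ Fin 2 → K) →ₗ[K] (Fin (n + 1) ⊕ Fin (n + 1) → K) :=
    { toFun := fun v => Sum.elim
        (fun j => Sum.elim (fun l => v (.inl (.inl l))) (fun _ => v (.inr 0) - r * v (.inr 1)) (e j))
        (fun j => Sum.elim (fun l => v (.inl (.inr l))) (fun _ => v (.inr 0) - r' * v (.inr 1)) (e j))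
      map_add' := fun u v => by
        funext j
        rcases j with j | j <;> rcases h : e j with l | l <;> simp [h] <;> ring
      map_smul' := fun s v => by
        funext j
        rcases j with j | j <;> rcases h : e j with l | l <;> simp [h] <;> ring }
  have hbij : Function.Bijective f := by
    rw [Fintype.bijective_iff_injective_and_card]
    refine ⟨fun u v huv => ?_, by
      simp only [Fintype.card_fun, Fintype.card_sum, Fintype.card_fin]; congr 1; omega⟩
    have h0 : ∀ l, u (.inl (.inl l)) = v (.inl (.inl l)) := fun l => by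
      simpa [f] using congrFun huv (.inl (e.symm (.inl l)))
    have h1 : ∀ l, u (.inl (.inr l)) = v (.inl (.inr l)) := fun l => by
      simpa [f] using congrFun huv (.inr (e.symm (.inl l)))
    have hx : u (.inr 0) - r * u (.inr 1) = v (.inr 0) - r * v (.inr 1) := by
      simpa [f] using congrFun huv (.inl (e.symm (.inr 0)))
    have hy : u (.inr 0) - r' * u (.inr 1) = v (.inr 0) - r' * v (.inr 1) := by
      simpa [f] using congrFun huv (.inr (e.symm (.inr 0)))
    have h3 : u (.inr 1) = v (.inr 1) := by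
      refine mul_left_cancel₀ (sub_ne_zero.mpr hrr) ?_
      linear_combination hy - hx
    funext j
    rcases j with (l | l) | l
    · exact h0 l
    · exact h1 l
    · fin_cases l
      · show u (.inr 0) = v (.inr 0)
        linear_combination hx + r * h3
      · exact h3
  have key : ∀ v, Cfsg.quadFormPlus (n + 1) K (f v) = v ⬝ᵥ (A.map i *ᵥ v) := by
    intro v
    rw [quad_minus n i a c v, Cfsg.quadFormPlus, ← e.symm.sum_comp, Fintype.sum_sum_type, Fin.sum_univ_one,
      Cfsg.quadFormMinus]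
    congr 1
    · exact Finset.sum_congr rfl fun l _ => by simp [f]
    · simp [f, hr']
      linear_combination -(v (.inr 1)) ^ 2 * hr
  refine CfsgLib.FiniteForms.exists_hom_isometry ψ hψ (LinearEquiv.ofBijective f hbij) _
    fun g v => ?_
  simp only [LinearEquiv.ofBijective_apply]
  rw [key, key]
  refine base_change_quad i A g.1.1 (fun u => ?_) v
  have hid := quad_minus n (RingHom.id F) a c
  simp only [RingHom.id_apply, RingHom.coe_id, Matrix.map_id] at hid
  rw [hid, hid]
  exact g.2 u u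

end Cfsg.Agent.S2679
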