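import Cfsg.Statements.S2681
import Cfsg.Agent.Lib.SympInvolution.Cent
-- import your own Cfsg.Agent.* helpers here

set_option autoImplicit false
open Cfsg

namespace Cfsg.Agent.S2681

open scoped Matrix

/-- Centraliser order of an involution t of Sp_2m(q), q even, with s = rank(t − 1) even and f(v, tv) = 0 for every v, f the symplectic form (type a_s): |C(t)| = q^(2ms − (3s² − s)/2) · |Sp_s(q)| · |Sp_(2m−2s)(q)|. -/
theorem result {F : Type*} [Field F] [Fintype F] [CharP F 2] {q : ℕ} (hF : Fintype.card F = q) {m s : ℕ} (t : Matrix.symplecticGroup (Fin m) F) (ht : t ^ 2 = 1) (ht1 : t ≠ 1) (hs : ((t : Matrix (Fin m ⊕ Fin m) (Fin m ⊕ Fin m) F) - 1).rank = s) (heven : Even s) (halt : ∀ v : Fin m ⊕ Fin m → F, Cfsg.sympForm m F v ((t : Matrix (Fin m ⊕ Fin m) (Fin m ⊕ Fin m) F).mulVec v) = 0) : Nat.card ↥(Subgroup.centralizer ({t} : Set ↥(Matrix.symplecticGroup (Fin m) F))) = q ^ (2 * m * s - (3 * s ^ 2 - s)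 / 2) * ((q : ℕ) ^ ((s / 2) ^ 2) * ∏ i : Fin (s / 2), (q ^ (2 * ((i : ℕ) + 1)) - 1)) * ((q : ℕ) ^ ((m - s) ^ 2) * ∏ i : Fin (m - s), (q ^ (2 * ((i : ℕ) + 1)) - 1)) := by
  obtain hq : Nat.card F = q := by rw [Nat.card_eq_fintype_card, hF]
  have htt : t * t = 1 := by rw [← pow_two, ht]
  have hr : CfsgLib.SympInv.rk t = s := hs
  obtain ⟨b, hm⟩ : ∃ b, m = s + b := Nat.exists_eq_add_of_le (hr ▸ CfsgLib.SympInv.rk_le htt)
  obtain ⟨k, hk⟩ := heven
  have ha : CfsgLib.SympInv.Alt t := (CfsgLib.SympInv.alt_iff t).2 halt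
  have hc := CfsgLib.SympInv.card_centralizer htt (Matrix.J (Fin k) F) (Matrix.isUnit_det_J _ _)
    (CfsgLib.SympInv.J_symm k) (by simp [hr, hk])
    ⟨fun _ => CfsgLib.SympInv.J_diag k, fun _ => ha⟩
  rw [CfsgLib.SympInv.card_orth_J, hr] at hc
  rw [show s / 2 = k by omega]
  simp only [Cfsg.Agent.S0245.result hF, hq, hm, Nat.add_sub_cancel_left, Fin.prod_univ_eq_prod_range
    (fun i => q ^ (2 * (i + 1)) - 1)] at hc ⊢
  rw [hc, ← CfsgLib.SympInv.exp_choose b s, pow_add]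
  ring

end Cfsg.Agent.S2681
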