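import Cfsg.Statements.S2683
import Cfsg.Agent.Lib.SympInvolution.OrthClasses

set_option autoImplicit false
open Cfsg

namespace Cfsg.Agent.S2683

open CfsgLib.SympOrth

/-- For the hyperbolic form Σ x_j y_j on F^(2m) over a finite field with q elements, q even (excluding m = 2 over the field of two elements), and an involution x of the orthogonal group with s = rank(x − 1) odd (type b_s; such x lie outside Ω): the elements of Ω (the commutator subgroup of the orthogonal group) commuting with x number q^(2m(s−1) − (3s² − 3s)/2) · |Sp_(s−1)(q)| · |Sp_(2m−2s)(q)|, where |Sp_2k(q)| = q^(k²) Π_(i=1)^k (q^(2i) − 1). -/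
theorem result {F : Type*} [Field F] [Fintype F] [CharP F 2] {q : ℕ} (hF : Fintype.card F = q) {m s : ℕ} (h : Fintype.card F ≠ 2 ∨ m ≠ 2) (x : ↥(Cfsg.isometryGroup F (Cfsg.quadFormPlus m F))) (hx : x ^ 2 = 1) (hs : (((x : Matrix.GeneralLinearGroup (Fin m ⊕ Fin m) F) : Matrix (Fin m ⊕ Fin m) (Fin m ⊕ Fin m) F) - 1).rank = s) (hodd : Odd s) : Nat.card {g : ↥(Cfsg.Omega F (Cfsg.quadFormPlus m F)) // (g : ↥(Cfsg.isometryGroup F (Cfsg.quadFormPlus m F))) * x = x * (g : ↥(Cfsg.isometryGroup F (Cfsg.quadFormPlus m F)))} = q ^ (2 * m * (s - 1) - (3 * s ^ 2 - 3 * s) / 2) * ((q : ℕ) ^ (((s - 1) / 2) ^ 2) * ∏ i : Fin ((s - 1) / 2), (q ^ (2 * ((i : ℕ) + 1)) - 1)) * ((q : ℕ) ^ ((m - s) ^ 2) * ∏ i : Fin (m - s), (q ^ (2 * ((i : ℕ) + 1)) - 1)) := by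
  let T := (LinearEquiv.refl F (Fin m ⊕ Fin m → F))
  have hT : ∀ v, CfsgLib.Lagrangian.Qp m F (T v) = Cfsg.quadFormPlus m F v := plus_hT
  obtain hq : Nat.card F = q := by rw [Nat.card_eq_fintype_card, hF]
  have hc := hc_plus (F := F) (m := m) h
  set a := isoE T hT x
  have ha : a * a = 1 := by rw [← map_mul, ← pow_two, hx, map_one]
  have hr : CfsgLib.SympInv.rk (toSp Qp_polar a) = s := (rk_isoE T hT Qp_polar x).trans hs
  have haa := toSp_sq Qp_polar ha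
  obtain ⟨b, hm⟩ : ∃ b, m = s + b := Nat.exists_eq_add_of_le (hr ▸ CfsgLib.SympInv.rk_le haa)
  obtain ⟨k, hk⟩ := hodd
  obtain ⟨hu, hsy, hne⟩ := CfsgLib.SympInv.oddC_spec (F := F) k
  have hna : ¬ CfsgLib.SympInv.Alt (toSp Qp_polar a) := fun h => by
    obtain ⟨r, hr', -⟩ := CfsgLib.SympInv.rk_alt haa h
    omega
  have h1 := centralizer_Omega_not_alt hc ha hna
  have h2 := CfsgLib.SympInv.card_centralizer haa _ hu hsy (by simp [hr, hk, two_mul])
    ⟨fun h => absurd h hna, fun h => absurd (h (Sum.inr 0)) hne⟩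
  rw [CfsgLib.SympInv.card_orth_odd, hr] at h2
  rw [hr] at h1
  rw [card_centralizer_transfer T hT x]
  rw [show (s - 1) / 2 = k by omega]
  refine Nat.eq_of_mul_eq_mul_right (Nat.pow_pos (n := 2 * m - s) (Nat.card_pos (α := F))) (h1.trans (h2.trans ?_))
  simp only [Cfsg.Agent.S0245.result hF, hq, Fin.prod_univ_eq_prod_range (fun i => q ^ (2 * (i + 1)) - 1)]
  have he : 2 * m * (s - 1) - (3 * s ^ 2 - 3 * s) / 2 + (2 * m - s) = 2 * b * s + (s + 1).choose 2 := by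
    rw [CfsgLib.SympInv.exp_choose, hm]
    obtain ⟨u, rfl⟩ : ∃ u, s = u + 1 := ⟨s - 1, by omega⟩
    have h3 : 2 * (u + 1 + b) * (u + 1) = 2 * (u + 1 + b) * u + 2 * (u + 1 + b) := by ring
    have h4 : 2 * (u + 1 + b) * u + 2 * (u + 1) = 2 * b * u + 2 * (u + 1) ^ 2 := by ring
    have h5 : u + 1 ≤ (u + 1) ^ 2 := Nat.le_self_pow (by norm_num) _
    simp only [Nat.add_sub_cancel]
    omega
  generalize 2 * m * (s - 1) - (3 * s ^ 2 - 3 * s) / 2 = u at he ⊢
  generalize 2 * m - s = v at he ⊢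
  rw [hm, Nat.add_sub_cancel_left]
  have hpow : q ^ u * q ^ v = q ^ (2 * b * s) * q ^ (s + 1).choose 2 := by rw [← pow_add, ← pow_add, he]
  generalize q ^ k ^ 2 * (∏ i ∈ Finset.range k, (q ^ (2 * (i + 1)) - 1)) = X
  generalize q ^ b ^ 2 * (∏ i ∈ Finset.range b, (q ^ (2 * (i + 1)) - 1)) = Y
  calc X * q ^ (2 * b * s) * q ^ (s + 1).choose 2 * Y = q ^ (2 * b * s) * q ^ (s + 1).choose 2 * X * Y := by ring
    _ = q ^ u * q ^ v * X * Y := by rw [hpow]
    _ = _ := by ring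

end Cfsg.Agent.S2683
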