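import Cfsg.Statements.S2684
import Cfsg.Agent.Lib.SympInvolution.OrthClasses

set_option autoImplicit false
open Cfsg

namespace Cfsg.Agent.S2684

open CfsgLib.SympOrth

/-- For the hyperbolic form Q = Σ x_j y_j on F^(2m) over a finite field with q elements, q even (excluding m = 2 over the field of two elements), and an involution x ≠ 1 of the orthogonal group with s = rank(x − 1) even and Q vanishing on the image of x − 1 (equivalently f(v, xv) = 0 for all v, where f(u, w) = Q(u + w) − Q(u) − Q(w) is the bilinear form of Q; type a_s, which lies in Ω): its centraliser in Ω (the commutator subgroup of the orthogonal group) has order q^(2ms − (3s² + s)/2) · |Sp_s(q)| · |Ω⁺_(2m−2s)(q)|, where |Ω⁺_2k(q)| = q^(k(k−1)) (q^k − 1) Π_(i=1)^(k−1) (q^(2i) − 1) for k ≥ 1 and the last factor is 1 when s = m. -/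
theorem result {F : Type*} [Field F] [Fintype F] [CharP F 2] {q : ℕ} (hF : Fintype.card F = q) {m s : ℕ} (h : Fintype.card F ≠ 2 ∨ m ≠ 2) (x : ↥(Cfsg.isometryGroup F (Cfsg.quadFormPlus m F))) (hx : x ^ 2 = 1) (hx1 : x ≠ 1) (hs : (((x : Matrix.GeneralLinearGroup (Fin m ⊕ Fin m) F) : Matrix (Fin m ⊕ Fin m) (Fin m ⊕ Fin m) F) - 1).rank = s) (heven : Even s) (halt : ∀ v : Fin m ⊕ Fin m → F, Cfsg.quadFormPlus m F ((((x : Matrix.GeneralLinearGroup (Fin m ⊕ Fin m) F) : Matrix (Fin m ⊕ Fin m) (Fin m ⊕ Fin m) F) - 1).mulVec v) = 0) : Nat.card {g : ↥(Cfsg.Omega F (Cfsg.quadFormPlus m F)) // (g : ↥(Cfsg.isometryGroup F (Cfsg.quadFormPlus m F))) * x = x * (g : ↥(Cfsg.isometryGroup F (Cfsg.quadFormPlus m F)))} = q ^ (2 * m * s - (3 * s ^ 2 + s) / 2) * ((q : ℕ) ^ ((s / 2) ^ 2) * ∏ i : Fin (s / 2), (q ^ (2 * ((i : ℕ) + 1)) - 1)) * (if s = m then 1 else q ^ ((m - s) * (m - s - 1)) * (q ^ (m - s) - 1) * ∏ i : Fin (m - s - 1), (q ^ (2 * ((i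 : ℕ) + 1)) - 1)) := by
  let T := (LinearEquiv.refl F (Fin m ⊕ Fin m → F))
  have hT : ∀ v, CfsgLib.Lagrangian.Qp m F (T v) = Cfsg.quadFormPlus m F v := plus_hT
  obtain hq : Nat.card F = q := by rw [Nat.card_eq_fintype_card, hF]
  have hc := hc_plus (F := F) (m := m) h
  set a := isoE T hT x
  have ha : a * a = 1 := by rw [← map_mul, ← pow_two, hx, map_one]
  have hr : CfsgLib.SympInv.rk (toSp Qp_polar a) = s := (rk_isoE T hT Qp_polar x).trans hs
  have haa := toSp_sq Qp_polar ha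
  obtain ⟨b, hm⟩ : ∃ b, m = s + b := Nat.exists_eq_add_of_le (hr ▸ CfsgLib.SympInv.rk_le haa)
  have hA : CfsgLib.SympInv.Alt (toSp Qp_polar a) := (alt_isoE_sub T hT Qp_polar x).2 halt
  obtain ⟨j, hj⟩ := heven
  have h2 := CfsgLib.SympInv.card_centralizer haa (Matrix.J (Fin j) F) (Matrix.isUnit_det_J _ _)
    (CfsgLib.SympInv.J_symm j) (by simp [hr, hj]) (iff_of_true hA (CfsgLib.SympInv.J_diag j))
  rw [CfsgLib.SympInv.card_orth_J, hr] at h2
  rw [card_centralizer_transfer T hT x, show s / 2 = j by omega]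
  have hq1 : 1 < q := hF ▸ Fintype.one_lt_card
  have hE : 2 * m * s - (3 * s ^ 2 + s) / 2 + s = 2 * b * s + (s + 1).choose 2 := by
    rw [CfsgLib.SympInv.exp_choose, hm]
    have h3 : 2 * (s + b) * s = 2 * b * s + 2 * s ^ 2 := by ring
    have h4 : s ≤ s ^ 2 := Nat.le_self_pow (by norm_num) s
    omega
  generalize 2 * m * s - (3 * s ^ 2 + s) / 2 = u at hE ⊢
  have hpow : q ^ u * q ^ s = q ^ (2 * b * s) * q ^ (s + 1).choose 2 := by rw [← pow_add, ← pow_add, hE]
  rw [show m - s = b by omega] at h2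
  simp only [Cfsg.Agent.S0245.result hF, hq, Fin.prod_univ_eq_prod_range (fun i => q ^ (2 * (i + 1)) - 1)] at h2 ⊢
  generalize hX : q ^ j ^ 2 * (∏ i ∈ Finset.range j, (q ^ (2 * (i + 1)) - 1)) = X at h2 ⊢
  by_cases hsm : s = m
  · obtain rfl : b = 0 := by omega
    have h1 := centralizer_Omega_top hc ha hA (hr.trans hsm)
    rw [hq] at h1
    rw [if_pos hsm]
    refine Nat.eq_of_mul_eq_mul_right (Nat.pow_pos (n := m) (show 0 < q by omega)) (h1.trans (h2.trans ?_))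
    rw [← hsm, mul_one, show X * q ^ (2 * 0 * s) * q ^ (s + 1).choose 2 = q ^ (2 * 0 * s) * q ^ (s + 1).choose 2 * X by ring,
      ← hpow]
    simp only [ne_eq, OfNat.ofNat_ne_zero, not_false_eq_true, zero_pow, pow_zero, Finset.range_zero,
      Finset.prod_empty, mul_one]
    ring
  · obtain ⟨c, rfl⟩ : ∃ c, b = c + 1 := ⟨b - 1, by omega⟩
    have h1 := centralizer_Omega_alt hc ha hA (by omega)
    rw [hr, hq, show m - s = c + 1 by omega] at h1
    rw [if_neg hsm, show m - s = c + 1 by omega, Nat.add_sub_cancel]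
    refine Nat.eq_of_mul_eq_mul_right (Nat.mul_pos (Nat.succ_pos (q ^ (c + 1))) (Nat.pow_pos (n := m) (show 0 < q by omega)))
      (h1.trans (h2.trans ?_))
    rw [Finset.prod_range_succ, show q ^ (2 * (c + 1)) - 1 = (q ^ (c + 1) + 1) * (q ^ (c + 1) - 1) by
      rw [mul_comm 2, pow_mul]; exact Nat.sq_sub_sq (q ^ (c + 1)) 1, Nat.succ_eq_add_one]
    generalize (∏ i ∈ Finset.range c, (q ^ (2 * (i + 1)) - 1)) = P'
    generalize q ^ (c + 1) - 1 = R
    calc X * q ^ (2 * (c + 1) * s) * q ^ (s + 1).choose 2 * (q ^ (c + 1) ^ 2 * (P' * ((q ^ (c + 1) + 1) * R)))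
        = q ^ (2 * (c + 1) * s) * q ^ (s + 1).choose 2 * (X * (q ^ (c + 1) ^ 2 * (P' * ((q ^ (c + 1) + 1) * R)))) := by
          ring
      _ = q ^ u * q ^ s * (X * (q ^ (c + 1) ^ 2 * (P' * ((q ^ (c + 1) + 1) * R)))) := by rw [hpow]
      _ = _ := by rw [hm]; ring

end Cfsg.Agent.S2684
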