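import Cfsg.Statements.S2685
import Cfsg.Agent.Lib.SympInvolution.OrthClasses

set_option autoImplicit false
open Cfsg

namespace Cfsg.Agent.S2685

open CfsgLib.SympOrth

/-- For the hyperbolic form Q = Σ x_j y_j on F^(2m) over a finite field with q elements, q even (excluding m = 2 over the field of two elements), and an involution x of the orthogonal group with s = rank(x − 1) even and Q not vanishing on the image of x − 1 (f(v, xv) ≠ 0 for some v, where f(u, w) = Q(u + w) − Q(u) − Q(w) is the bilinear form of Q; type c_s, which lies in Ω): its centraliser in Ω (the commutator subgroup of the orthogonal group) has order q^(2m(s−1) − (3s² − 5s)/2 − 1) · |Sp_(s−2)(q)| · |Sp_(2m−2s)(q)|. -/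
theorem result {F : Type*} [Field F] [Fintype F] [CharP F 2] {q : ℕ} (hF : Fintype.card F = q) {m s : ℕ} (h : Fintype.card F ≠ 2 ∨ m ≠ 2) (x : ↥(Cfsg.isometryGroup F (Cfsg.quadFormPlus m F))) (hx : x ^ 2 = 1) (hs : (((x : Matrix.GeneralLinearGroup (Fin m ⊕ Fin m) F) : Matrix (Fin m ⊕ Fin m) (Fin m ⊕ Fin m) F) - 1).rank = s) (heven : Even s) (hna : ∃ v : Fin m ⊕ Fin m → F, Cfsg.quadFormPlus m F ((((x : Matrix.GeneralLinearGroup (Fin m ⊕ Fin m) F) : Matrix (Fin m ⊕ Fin m) (Fin m ⊕ Fin m) F) - 1).mulVec v) ≠ 0) : Nat.card {g : ↥(Cfsg.Omega F (Cfsg.quadFormPlus m F)) // (g : ↥(Cfsg.isometryGroup F (Cfsg.quadFormPlus m F))) * x = x * (g : ↥(Cfsg.isometryGroup F (Cfsg.quadFormPlus m F)))} = q ^ (2 * m * (s - 1) - (3 * s ^ 2 - 5 * s) / 2 - 1) * ((q : ℕ) ^ (((s - 2) / 2) ^ 2) * ∏ i : Fin ((s - 2) / 2), (q ^ (2 * ((i : ℕ) + 1)) - 1)) * ((q : ℕ) ^ ((m - s) ^ 2) * ∏ i : Fin (m - s), (q ^ (2 * ((i : ℕ) + 1)) - 1)) :=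 by
  let T := (LinearEquiv.refl F (Fin m ⊕ Fin m → F))
  have hT : ∀ v, CfsgLib.Lagrangian.Qp m F (T v) = Cfsg.quadFormPlus m F v := plus_hT
  obtain hq : Nat.card F = q := by rw [Nat.card_eq_fintype_card, hF]
  have hc := hc_plus (F := F) (m := m) h
  set a := isoE T hT x
  have ha : a * a = 1 := by rw [← map_mul, ← pow_two, hx, map_one]
  have hr : CfsgLib.SympInv.rk (toSp Qp_polar a) = s := (rk_isoE T hT Qp_polar x).trans hs
  have haa := toSp_sq Qp_polar ha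
  obtain ⟨b, hm⟩ : ∃ b, m = s + b := Nat.exists_eq_add_of_le (hr ▸ CfsgLib.SympInv.rk_le haa)
  have hna' : ¬ CfsgLib.SympInv.Alt (toSp Qp_polar a) := fun hh => by
    obtain ⟨v, hv⟩ := hna
    exact hv ((alt_isoE_sub T hT Qp_polar x).1 hh v)
  have hs0 : s ≠ 0 := fun h0 => hna' fun y => by
    rw [CfsgLib.SympInv.eq_one_of_rk (hr.trans h0)]
    simp [CfsgLib.SympInv.beta, CfsgLib.SympInv.N, CfsgLib.SympGen.B]
  obtain ⟨j, hj⟩ := heven
  obtain ⟨k, rfl⟩ : ∃ k, j = k + 1 := ⟨j - 1, by omega⟩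
  obtain ⟨hu, hsy, hne⟩ := CfsgLib.SympInv.evenC_spec (F := F) k
  have h1 := centralizer_Omega_not_alt hc ha hna'
  have h2 := CfsgLib.SympInv.card_centralizer haa _ hu hsy (by simp [hr, hj]; omega)
    ⟨fun h => absurd h hna', fun h => absurd (h (Sum.inr 0)) hne⟩
  rw [CfsgLib.SympInv.card_orth_even, hr] at h2
  rw [hr] at h1
  rw [card_centralizer_transfer T hT x, show (s - 2) / 2 = k by omega]
  refine Nat.eq_of_mul_eq_mul_right (Nat.pow_pos (n := 2 * m - s) (Nat.card_pos (α := F))) (h1.trans (h2.trans ?_))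
  simp only [Cfsg.Agent.S0245.result hF, hq, Fin.prod_univ_eq_prod_range (fun i => q ^ (2 * (i + 1)) - 1)]
  have he : 2 * m * (s - 1) - (3 * s ^ 2 - 5 * s) / 2 - 1 + (2 * m - s) =
      2 * k + 1 + (2 * b * s + (s + 1).choose 2) := by
    rw [show 2 * k + 1 = s - 1 by omega, CfsgLib.SympInv.exp_choose_even b s (by omega), hm]
    obtain ⟨u, rfl⟩ : ∃ u, s = u + 2 := ⟨s - 2, by omega⟩
    have h3 : 2 * (u + 2 + b) * (u + 2) = 2 * (u + 2 + b) * (u + 1) + 2 * (u + 2 + b) := by ring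
    have h4 : 2 * (u + 2 + b) * (u + 1) + 2 * (u + 2) = 2 * b * (u + 1) + 2 * (u + 2) ^ 2 := by ring
    have h5 : 2 * (u + 2) ≤ (u + 2) ^ 2 := by rw [pow_two]; exact Nat.mul_le_mul_right _ (by omega)
    rw [show u + 2 - 1 = u + 1 from rfl]
    omega
  generalize 2 * m * (s - 1) - (3 * s ^ 2 - 5 * s) / 2 - 1 = u at he ⊢
  generalize 2 * m - s = v at he ⊢
  rw [hm, Nat.add_sub_cancel_left]
  have hpow : q ^ u * q ^ v = q ^ (2 * k + 1) * (q ^ (2 * b * s) * q ^ (s + 1).choose 2) := by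
    rw [← pow_add, ← pow_add, ← pow_add, he]
  generalize q ^ k ^ 2 * (∏ i ∈ Finset.range k, (q ^ (2 * (i + 1)) - 1)) = X
  generalize q ^ b ^ 2 * (∏ i ∈ Finset.range b, (q ^ (2 * (i + 1)) - 1)) = Y
  calc X * q ^ (2 * k + 1) * q ^ (2 * b * s) * q ^ (s + 1).choose 2 * Y
      = q ^ (2 * k + 1) * (q ^ (2 * b * s) * q ^ (s + 1).choose 2) * X * Y := by ring
    _ = q ^ u * q ^ v * X * Y := by rw [hpow]
    _ = _ := by ring

end Cfsg.Agent.S2685
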