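import Cfsg.Statements.S2686
import Cfsg.Agent.Lib.PolarAut.PSLRigidGraph

set_option autoImplicit false

namespace CfsgLib.PSLRigid

open Matrix CfsgLib.PSLn

variable {F : Type*} [Field F] {n : ℕ}

local notation "PSL" => Matrix.ProjectiveSpecialLinearGroup (Fin n) F

theorem isInnerDiag (g : GL (Fin n) F) : Cfsg.IsInnerDiagonalAutPSL (diagAut g : MulAut PSL) := by
  refine ⟨g, fun s s' h => ?_⟩
  show diagAut g (mk s) = mk s'
  rw [diagAut_mk]
  exact congrArg (mk : Matrix.SpecialLinearGroup (Fin n) F → _) (Subtype.ext h.symm)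

theorem isField (σ : RingAut F) : Cfsg.IsFieldAutPSL (fieldAut σ : MulAut PSL) := by
  refine ⟨σ, fun s s' h => ?_⟩
  show fieldAut σ (mk s) = mk s'
  rw [fieldAut_mk]
  exact congrArg (mk : Matrix.SpecialLinearGroup (Fin n) F → _) (Subtype.ext h.symm)

theorem not_fieldType (hn : 3 ≤ n) (g : GL (Fin n) F) (e : RingAut F) :
    ¬ ∃ γ φ : MulAut PSL, Cfsg.IsInnerDiagonalAutPSL γ ∧ Cfsg.IsFieldAutPSL φ ∧
      (diagAut g * fieldAut e * graphAut : MulAut PSL) = φ.trans γ := by
  rintro ⟨γ, φ, hγ, ⟨σ, hσ⟩, h⟩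
  obtain ⟨k, rfl⟩ := eq_diagAut_of_isInnerDiagonal hγ
  rw [eq_fieldAut_of_isStd hσ] at h
  refine ne_graphAut hn
    (GeneralLinearGroup.map ((e⁻¹ : RingAut F) : F ≃+* F).toRingHom (g⁻¹ * k)) (e⁻¹ * σ) ?_
  have h' : (diagAut g * fieldAut e * graphAut : MulAut PSL) = diagAut k * fieldAut σ := h
  calc _ = (fieldAut e⁻¹ * diagAut (g⁻¹ * k)) * fieldAut σ := by
        rw [fieldAut_diag, map_mul fieldAut, mul_assoc]
    _ = (fieldAut e)⁻¹ * (diagAut g)⁻¹ * (diagAut k * fieldAut σ) := by
        rw [map_inv, map_mul diagAut, map_inv]; simp only [mul_assoc]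
    _ = _ := by rw [← h']; simp only [mul_assoc, inv_mul_cancel_left]

theorem main [Fintype F] (r : ℕ) [Fact r.Prime] [CharP F r] (hn : 2 ≤ n)
    (G : Subgroup (MulAut PSL)) (hinn : ∀ k, MulAut.conj k ∈ G)
    (p : ℕ) [hp : Fact p.Prime] (hpr : p ≠ r) (β : MulAut PSL) (hord : orderOf β = p)
    (hnot : ¬ Cfsg.IsInnerDiagonalAutPSL β) :
    Cfsg.pPrimeCore p ↥(G ⊓ Subgroup.centralizer {β}) ≠ ⊥ ↔
      ((∃ γ φ : MulAut PSL, Cfsg.IsInnerDiagonalAutPSL γ ∧ Cfsg.IsFieldAutPSL φ ∧ β = φ.trans γ) ∧
        Nat.Coprime p (Nat.card ↥(MonoidHom.eqLocus β.toMonoidHom (MonoidHom.id PSL)))) := by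
  classical
  have hinj := conj_injective (F := F) hn
  have hpow : β ^ p = 1 := by rw [← hord]; exact pow_orderOf_eq_one _
  obtain ⟨g, e, hβ | ⟨hn3, hβ⟩⟩ := exists_decomposition_any r hn β
  · -- field type
    subst hβ
    have he : e ≠ 1 := by
      rintro rfl
      exact hnot (by rw [map_one, mul_one]; exact isInnerDiag g)
    have hep : orderOf e = p :=
      ((Nat.dvd_prime hp.out).mp (hord ▸ orderOf_field_dvd hn g e)).resolve_left fun h1 =>
        he (orderOf_eq_one_iff.mp h1)
    let K₀ := PSLn.fixedField e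
    haveI : Fintype K₀ := Fintype.ofFinite _
    let ι : K₀ →+* F := K₀.subtype
    have hι : ∀ y, e y = y ↔ y ∈ ι.range := fun y =>
      ⟨fun h => ⟨⟨y, h⟩, rfl⟩, by rintro ⟨a, rfl⟩; exact a.2⟩
    obtain ⟨k, hk⟩ := field_conj_of_pow_eq_one hn e g (by rw [hep]; exact hpow)
    have hiff : Cfsg.pPrimeCore p ↥(G ⊓ Subgroup.centralizer {(diagAut g * fieldAut e : MulAut PSL)}) ≠ ⊥ ↔
        Nat.Coprime p (Nat.card ↥(MonoidHom.eqLocus (diagAut g * fieldAut e : MulAut PSL).toMonoidHom
          (MonoidHom.id PSL))) := by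
      rw [hk]
      refine CoreGen.core_iff G hinn _ hinj ?_ (CoreGen.rigid_conj _ (rigid_field ι r hn hpr hep hι))
      obtain ⟨a, ha, hfa⟩ := fixed_nontrivial ι hn hι
      refine ⟨diagAut k a, fun h => ha ((diagAut k).injective (h.trans (map_one _).symm)), ?_⟩
      show diagAut k (fieldAut e ((diagAut k)⁻¹ (diagAut k a))) = _
      rw [MulAut.inv_apply_self, hfa]
    exact ⟨fun h => ⟨⟨diagAut g, fieldAut e, isInnerDiag g, isField e, rfl⟩, hiff.mp h⟩, fun h => hiff.mpr h.2⟩
  · -- graph type
    subst hβ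
    have hp2 : p = 2 := by
      by_contra hp2
      obtain ⟨h, τ, hh⟩ := no_graph r hn _ (hord.symm ▸ Nat.coprime_two_right.mpr (hp.out.odd_of_ne_two hp2))
      exact not_fieldType hn3 g e ⟨diagAut h, fieldAut τ, isInnerDiag h, isField τ, hh⟩
    subst hp2
    have he : e * e = 1 := by
      refine (eq_one_imp hn (g := g * GeneralLinearGroup.map (e : F ≃+* F).toRingHom (dualGL g)) ?_).1
      rw [← hpow, pow_two]
      symm
      calc diagAut g * fieldAut e * graphAut * (diagAut g * fieldAut e * graphAut)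
          = diagAut g * (fieldAut e * (graphAut * diagAut g)) * (fieldAut e * graphAut) := by
            simp only [mul_assoc]
        _ = diagAut g * diagAut (GeneralLinearGroup.map (e : F ≃+* F).toRingHom (dualGL g)) * fieldAut e *
              ((graphAut * fieldAut e) * graphAut) := by
            rw [graphAut_diag, ← mul_assoc (fieldAut e), fieldAut_diag]; simp only [mul_assoc]
        _ = _ := by
            rw [graphAut_field, mul_assoc (fieldAut e) graphAut graphAut, graphAut_mul_self, mul_one, map_mul,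
              map_mul, mul_assoc (diagAut g * _)]
    have h2F : (2 : F) ≠ 0 := fun h => hpr (by
      have : r ∣ 2 := (CharP.cast_eq_zero_iff F r 2).mp (by exact_mod_cast h)
      exact ((Nat.prime_dvd_prime_iff_eq (Fact.out : r.Prime) Nat.prime_two).mp this).symm)
    have main2 : CoreGen.Rigid 2 (diagAut g * fieldAut e * graphAut : MulAut PSL) ∧
        2 ∣ Nat.card ↥(MonoidHom.eqLocus (diagAut g * fieldAut e * graphAut : MulAut PSL).toMonoidHom
          (MonoidHom.id PSL)) := by
      by_cases he1 : e = 1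
      · subst he1
        have e1 : (diagAut g * fieldAut 1 * graphAut : MulAut PSL) = PSLnGraph.γ g := by
          rw [map_one, mul_one]; rfl
        rw [e1] at hord ⊢
        rcases (PSLnGraph.orderOf_γ hn3 g).mp hord with hs | hs
        · exact rigid_symmG g r hn3 h2F hs
        · exact rigid_skewG g r hn3 h2F hs
      · have he2 : orderOf e = 2 := orderOf_eq_prime (by rw [pow_two, he]) he1
        have hF : Fintype.card F = Nat.card (PSLn.fixedField e) ^ 2 := by
          rw [PSLn.card_eq_fixedField_pow e, he2]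
        obtain ⟨k, hk⟩ := graphField_conj_of_sq_eq_one hn e he2 g (by rw [← mul_assoc]; exact hpow)
        have h32 : ¬ (n = 3 ∧ Nat.card (PSLn.fixedField e) = 2) := fun h => h2F (by
          have h4 := FiniteField.cast_card_eq_zero F
          rw [hF, h.2, Nat.cast_pow, Nat.cast_two] at h4
          exact pow_eq_zero_iff two_ne_zero |>.mp h4)
        obtain ⟨hR, hd⟩ := rigid_graphField (n := n) hF r hn3 h32 h2F
        rw [← PSUGraph.eq_fr hF e he2] at hR hd
        rw [mul_assoc, hk]
        refine ⟨CoreGen.rigid_conj _ hR, hd.trans (dvd_of_eq ?_)⟩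
        refine (Nat.card_congr ((diagAut k : MulAut PSL).toEquiv.subtypeEquiv fun a => ?_))
        show fieldAut e (graphAut a) = a ↔
          diagAut k ((fieldAut e * graphAut : MulAut PSL) ((diagAut k)⁻¹ (diagAut k a))) = diagAut k a
        rw [MulAut.inv_apply_self, MulAut.mul_apply, EmbeddingLike.apply_eq_iff_eq]
    refine iff_of_false (fun hne => ?_) fun h => not_fieldType hn3 g e h.1
    obtain ⟨hR, hd⟩ := main2
    have hc := (CoreGen.core_iff G hinn _ hinj ?_ hR).mp hne
    · exact Nat.prime_two.not_dvd_one ((Nat.Coprime.gcd_eq_one hc) ▸ Nat.dvd_gcd dvd_rfl hd)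
    · obtain ⟨z, hz⟩ := exists_prime_orderOf_dvd_card' 2 hd
      refine ⟨z.1, fun h => ?_, z.2⟩
      rw [show z = 1 from Subtype.ext h, orderOf_one] at hz
      omega

end CfsgLib.PSLRigid

open Cfsg

namespace Cfsg.Agent.S2686

/-- A criterion for the failure of local balance in almost simple groups with linear socle. Let F be a finite field of characteristic r and K = PSL_n(F) (n ≥ 2) simple. Let A be a group of automorphisms of K containing all inner automorphisms (an almost simple group with socle K), and β ∈ A an automorphism of prime order p ≠ r that is not inner-diagonal (not induced by conjugation by an invertible matrix). Then the largest normal subgroup of C_A(β) of order prime to p is nontrivial if and only if β is the composite of an inner-diagonal automorphism with the automorphism induced by a field automorphism applied entrywise (β is of field type) and p does not divide the number of fixed points of β on K. -/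
theorem result
    (F : Type*) [Field F] [Fintype F] (r : ℕ) [Fact r.Prime] [CharP F r] (n : ℕ) (hn : 2 ≤ n)
    (hK : IsSimpleGroup (Matrix.ProjectiveSpecialLinearGroup (Fin n) F))
    (𝒢 : Subgroup (MulAut (Matrix.ProjectiveSpecialLinearGroup (Fin n) F))) (hinn : ∀ k : Matrix.ProjectiveSpecialLinearGroup (Fin n) F, MulAut.conj k ∈ 𝒢)
    (p : ℕ) [Fact p.Prime] (hpr : p ≠ r) (β : MulAut (Matrix.ProjectiveSpecialLinearGroup (Fin n) F)) (hβ : β ∈ 𝒢) (hord : orderOf β = p)
    (hnot : ¬ Cfsg.IsInnerDiagonalAutPSL β) :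
    Cfsg.pPrimeCore p ↥(𝒢 ⊓ Subgroup.centralizer {β}) ≠ ⊥ ↔
      ((∃ γ φ : MulAut (Matrix.ProjectiveSpecialLinearGroup (Fin n) F), Cfsg.IsInnerDiagonalAutPSL γ ∧ Cfsg.IsFieldAutPSL φ ∧ β = φ.trans γ) ∧
        Nat.Coprime p (Nat.card ↥(MonoidHom.eqLocus β.toMonoidHom (MonoidHom.id (Matrix.ProjectiveSpecialLinearGroup (Fin n) F))))) :=
  CfsgLib.PSLRigid.main r hn 𝒢 hinn p hpr β hord hnot

end Cfsg.Agent.S2686
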