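import Cfsg.Statements.S2687
import Cfsg.Agent.Lib.PolarAut.PSURigidGraph
import Cfsg.Agent.Lib.SmallSimple.PSU32

set_option autoImplicit false

namespace CfsgLib.PSURigid

open Matrix CfsgLib.UnitaryTransvection CfsgLib.UnitarySimple CfsgLib.PSUGraph CfsgLib.PolarAut

variable {F : Type*} [Field F] [Fintype F] {n q : ℕ}

theorem not_three_two (hF : Fintype.card F = q ^ 2) (hK : IsSimpleGroup (Cfsg.PSU n F q)) :
    ¬ (n = 3 ∧ q = 2) := by
  rintro ⟨rfl, rfl⟩
  obtain ⟨hcard, N, hN, hN9, -⟩ := CfsgLib.PSU32.summary (F := F) (hF.trans (by norm_num))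
  rcases hK.eq_bot_or_eq_top_of_normal N hN with h | h
  · rw [h, Subgroup.card_bot] at hN9; omega
  · rw [h, Subgroup.card_top, hcard] at hN9; omega

theorem isInnerDiag (hF : Fintype.card F = q ^ 2) (hn : 0 < n) (g : ↥(GS hF n)) :
    Cfsg.IsInnerDiagonalAutPSU (conjP hF g) := by
  obtain ⟨t, y, hy, e⟩ := exists_scal_GU hF hn g.2
  refine ⟨y, hy, fun s s' h => ?_⟩
  rw [show g = ⟨scal t, scal_mem hF t⟩ * ⟨y, GU_le_GS hF hy⟩ from Subtype.ext e, map_mul, conjP_scal, one_mul,
    conjP_mk]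
  congr 1
  exact su_eq h.symm

theorem main (hF : Fintype.card F = q ^ 2) (r : ℕ) [Fact r.Prime] [CharP F r] (hn : 3 ≤ n)
    (h32 : ¬ (n = 3 ∧ q = 2)) (G : Subgroup (MulAut (Cfsg.PSU n F q))) (hinn : ∀ k, MulAut.conj k ∈ G)
    (p : ℕ) [hp : Fact p.Prime] (hpr : p ≠ r) (β : MulAut (Cfsg.PSU n F q)) (hord : orderOf β = p)
    (hnot : ¬ Cfsg.IsInnerDiagonalAutPSU β) :
    (Cfsg.pPrimeCore p ↥(G ⊓ Subgroup.centralizer {β}) ≠ ⊥ ↔
      Nat.Coprime p (Nat.card ↥(MonoidHom.eqLocus β.toMonoidHom (MonoidHom.id (Cfsg.PSU n F q))))) ∧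
    ∃ γ φ : MulAut (Cfsg.PSU n F q), Cfsg.IsInnerDiagonalAutPSU γ ∧
      (∃ σ : F ≃+* F, Cfsg.IsFieldAutPSUOf σ φ) ∧ β = φ.trans γ := by
  classical
  have hinj := conj_injective hF hn h32
  obtain ⟨g, τ, rfl⟩ := psu_decomp hF hn h32 β
  refine ⟨?_, conjP hF g, fieldP hF τ, isInnerDiag hF (by omega) g, ⟨τ, isField hF τ⟩, rfl⟩
  have hτ : τ ≠ 1 := by
    rintro rfl
    exact hnot (by rw [map_one, mul_one]; exact isInnerDiag hF (by omega) g)
  have hpow : (conjP hF g * fieldP hF τ : MulAut (Cfsg.PSU n F q)) ^ p = 1 := by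
    rw [← hord]; exact pow_orderOf_eq_one _
  have hτp : orderOf τ = p := by
    refine orderOf_eq_prime ?_ hτ
    have h := hpow
    rw [FieldGen.pow_conj_field (conjP hF) (fieldP hF) (mapGS hF) (fieldP_conjP hF)] at h
    exact (conj_field_one hF hn h32 _ _ h).1
  by_cases hp2 : p = 2
  · -- graph automorphisms
    subst hp2
    rw [eq_fr hF τ hτp] at hord ⊢
    change orderOf (γ hF g) = 2 at hord
    show Cfsg.pPrimeCore 2 ↥(G ⊓ Subgroup.centralizer {γ hF g}) ≠ ⊥ ↔ _
    let K₀ := PSLn.fixedField (fr hF)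
    haveI : Fintype K₀ := Fintype.ofFinite _
    let ι : K₀ →+* F := K₀.subtype
    have hι : ∀ y, fr hF y = y ↔ y ∈ ι.range := fun y =>
      ⟨fun h => ⟨⟨y, h⟩, rfl⟩, by rintro ⟨a, rfl⟩; exact a.2⟩
    have h2F : (2 : F) ≠ 0 := fun h => hpr (by
      have : r ∣ 2 := (CharP.cast_eq_zero_iff F r 2).mp (by exact_mod_cast h)
      exact ((Nat.prime_dvd_prime_iff_eq (Fact.out : r.Prime) Nat.prime_two).mp this).symm)
    have h2 : (2 : K₀) ≠ 0 := fun h => h2F (by rw [← map_ofNat ι 2, h, map_zero])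
    obtain ⟨A, hA, hsym, hstd⟩ := exists_std hF hι (by omega) g ((orderOf_γ hF hn h32 g).mp hord)
    have hr : CoreGen.Rigid 2 (γ hF g) ∧
        2 ∣ Nat.card ↥(MonoidHom.eqLocus (γ hF g).toMonoidHom (MonoidHom.id (Cfsg.PSU n F q))) := by
      rcases hsym with hs | hs
      · obtain ⟨D⟩ := nonempty_gframe hF hA hstd
        exact rigid_symm hF hι hn h32 hs h2 D
      · have hdiag : ∀ i, A i i = 0 := fun i => by
          have e := congrFun (congrFun hs i) i
          simp only [transpose_apply, Matrix.neg_apply] at e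
          exact (mul_eq_zero.mp (show (2 : K₀) * A i i = 0 by linear_combination e)).resolve_left h2
        obtain ⟨m, hm, hrel⟩ := PSLnGraph.exists_symp hs hdiag hA
        rw [Fintype.card_fin] at hm
        obtain ⟨D⟩ := nonempty_gframe hF (Matrix.isUnit_det_J (Fin m) K₀).ne_zero (Std.rel hF hι hstd hrel)
        exact rigid_skew hF hι D hn h32 (by omega) h2
    refine CoreGen.core_iff G hinn _ hinj ?_ hr.1
    obtain ⟨z, hz⟩ := exists_prime_orderOf_dvd_card' 2 hr.2
    refine ⟨z.1, fun h => ?_, z.2⟩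
    rw [show z = 1 from Subtype.ext h, orderOf_one] at hz
    omega
  · -- field automorphisms
    obtain ⟨f, hf⟩ : ∃ f, q = r ^ f := by
      obtain ⟨d, hr, hd⟩ := FiniteField.card F r
      obtain ⟨i, -, hi⟩ := (Nat.dvd_prime_pow hr).mp
        (show q ∣ r ^ (d : ℕ) by rw [← hd, hF]; exact dvd_pow_self _ two_ne_zero)
      exact ⟨i, hi⟩
    have hodd : Odd p := hp.out.odd_of_ne_two hp2
    obtain ⟨-, hq0, hK0⟩ := field_data (p := r) hf hF τ hτp hodd
    set q₀ := r ^ (f / p)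
    let K₀ := PSLn.fixedField τ
    haveI : Fintype K₀ := Fintype.ofFinite _
    have hK' : Fintype.card K₀ = q₀ ^ 2 := by rw [← Nat.card_eq_fintype_card]; exact hK0
    let ι : K₀ →+* F := K₀.subtype
    have hι : ∀ y, τ y = y ↔ y ∈ ι.range := fun y =>
      ⟨fun h => ⟨⟨y, h⟩, rfl⟩, by rintro ⟨a, rfl⟩; exact a.2⟩
    have hfr := fr_ι hF hK' (ι := ι) hodd hq0
    obtain ⟨k, hk⟩ := conjUnder_of_powP hF hn h32 τ hodd hq0 hK0 g (by rw [hτp]; exact hpow)
    rw [hk]
    refine CoreGen.core_iff G hinn _ hinj ?_ (CoreGen.rigid_conj _ (rigid_field hF hK' hfr hn h32 hp2 hτp hι))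
    obtain ⟨a, ha, hfa⟩ := fixed_nontrivial hF hK' hn hι hfr
    refine ⟨conjP hF k a, fun h => ha ((conjP hF k).injective (h.trans (map_one _).symm)), ?_⟩
    show conjP hF k (fieldP hF τ ((conjP hF k)⁻¹ (conjP hF k a))) = _
    rw [MulAut.inv_apply_self, hfa]

end CfsgLib.PSURigid

-- import your own Cfsg.Agent.* helpers here

set_option autoImplicit false
open Cfsg

namespace Cfsg.Agent.S2687

/-- A criterion for the failure of local balance in almost simple groups with unitary socle. Let F be a finite field of characteristic r with q² elements and K = PSU_n(q) (n ≥ 3, the central quotient of the determinant-one isometries of the standard Hermitian form) simple. Let A be a group of automorphisms of K containing all inner automorphisms, and β ∈ A an automorphism of prime order p ≠ r that is not inner-diagonal (not induced by conjugation by a matrix of the general unitary group). Then the largest normal subgroup of C_A(β) of order prime to p is nontrivial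 if and only if β is the composite of an inner-diagonal automorphism with the automorphism induced by a field automorphism of F applied entrywise and p does not divide the number of fixed points of β on K. -/
theorem result
    (F : Type*) [Field F] [Fintype F] (r : ℕ) [Fact r.Prime] [CharP F r] (q : ℕ) (hF : Fintype.card F = q ^ 2)
    (n : ℕ) (hn : 3 ≤ n) (hK : IsSimpleGroup (Cfsg.PSU n F q))
    (𝒢 : Subgroup (MulAut (Cfsg.PSU n F q))) (hinn : ∀ k : Cfsg.PSU n F q, MulAut.conj k ∈ 𝒢)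
    (p : ℕ) [Fact p.Prime] (hpr : p ≠ r) (β : MulAut (Cfsg.PSU n F q)) (hβ : β ∈ 𝒢) (hord : orderOf β = p)
    (hnot : ¬ Cfsg.IsInnerDiagonalAutPSU β) :
    Cfsg.pPrimeCore p ↥(𝒢 ⊓ Subgroup.centralizer {β}) ≠ ⊥ ↔
      ((∃ γ φ : MulAut (Cfsg.PSU n F q), Cfsg.IsInnerDiagonalAutPSU γ ∧ (∃ σ : F ≃+* F, Cfsg.IsFieldAutPSUOf σ φ) ∧ β = φ.trans γ) ∧
        Nat.Coprime p (Nat.card ↥(MonoidHom.eqLocus β.toMonoidHom (MonoidHom.id (Cfsg.PSU n F q))))) := by
  have h32 := CfsgLib.PSURigid.not_three_two hF hK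
  obtain ⟨h, hex⟩ := CfsgLib.PSURigid.main hF r hn h32 𝒢 hinn p hpr β hord hnot
  exact ⟨fun hne => ⟨hex, h.mp hne⟩, fun hr => h.mpr hr.2⟩

end Cfsg.Agent.S2687
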