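import Cfsg.Statements.S2689
import Cfsg.Agent.Lib.PSLn.Group

set_option autoImplicit false
open Cfsg

open CfsgLib.PSLn

namespace Cfsg.Agent.S2689

private theorem isInverseTranspose {F : Type*} [Field F] {n : ℕ} :
    Cfsg.IsInverseTransposeAutPSL (graphAut :
      MulAut (Matrix.ProjectiveSpecialLinearGroup (Fin n) F)) := by
  intro s s' h
  show graphAut (mk s) = mk s'
  rw [graphAut_mk]
  congr 1
  exact Subtype.ext h.symm

/-- The automorphism group of a simple projective special linear group PSL_n(F) over a finite field (n ≥ 2; |F| ≥ 4 when n = 2) is generated by the automorphisms induced by invertible semilinear maps of F^n (the image of the projective semilinear group) together with the inverse-transpose automorphism. -/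
theorem result {F : Type*} [Field F] [Fintype F] {p f : ℕ} [Fact p.Prime] (hF : Fintype.card F = p ^ f) (hf : 1 ≤ f) {n : ℕ} (hn : 2 ≤ n) (hs : n = 2 → 4 ≤ Fintype.card F) :
    Cfsg.gammaPSL n F ⊔ Cfsg.autSubgroupOf (fun β : Matrix.ProjectiveSpecialLinearGroup (Fin n) F ≃* Matrix.ProjectiveSpecialLinearGroup (Fin n) F => Cfsg.IsInverseTransposeAutPSL β) = ⊤ := by
  have : CharP F p := charP_of_card_eq_prime_pow hF
  rw [eq_top_iff]
  intro β _
  have hG : ∀ (g : GL (Fin n) F) (e : F ≃+* F),
      (diagAut g * fieldAut e : MulAut (Matrix.ProjectiveSpecialLinearGroup (Fin n) F)) ∈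
        Cfsg.gammaPSL n F := by
    intro g e
    refine Subgroup.subset_closure ⟨g, e, fun s s' h => ?_⟩
    show (diagAut g * fieldAut e : MulAut (Matrix.ProjectiveSpecialLinearGroup (Fin n) F)) (mk s) = mk s'
    rw [MulAut.mul_apply, fieldAut_mk, diagAut_mk]
    congr 1
    exact Subtype.ext h.symm
  obtain ⟨g, e, h | ⟨-, h⟩⟩ := exists_decomposition_any p hn β
  · rw [h]; exact Subgroup.mem_sup_left (hG g e)
  · rw [h]; exact mul_mem (Subgroup.mem_sup_left (hG g e))
      (Subgroup.mem_sup_right (Subgroup.subset_closure isInverseTranspose))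

end Cfsg.Agent.S2689
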