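import Cfsg.Statements.S2690
import Cfsg.Agent.Lib.PSLn.Group

set_option autoImplicit false
open Cfsg

open CfsgLib.PSLn

namespace Cfsg.Agent.S2690

private theorem isStdField {F : Type*} [Field F] {n : ℕ} (e : F ≃+* F) :
    Cfsg.IsStdFieldAutPSL e (fieldAut e :
      MulAut (Matrix.ProjectiveSpecialLinearGroup (Fin n) F)) := by
  intro s s' h
  show fieldAut e (mk s) = mk s'
  rw [fieldAut_mk]
  congr 1
  exact Subtype.ext h.symm

private theorem isInnerDiagonal {F : Type*} [Field F] {n : ℕ} (g : GL (Fin n) F) :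
    Cfsg.IsInnerDiagonalAutPSL (diagAut g :
      MulAut (Matrix.ProjectiveSpecialLinearGroup (Fin n) F)) := by
  refine ⟨g, fun s s' h => ?_⟩
  show diagAut g (mk s) = mk s'
  rw [diagAut_mk]
  congr 1
  exact Subtype.ext h.symm

private theorem isInverseTranspose {F : Type*} [Field F] {n : ℕ} :
    Cfsg.IsInverseTransposeAutPSL (graphAut :
      MulAut (Matrix.ProjectiveSpecialLinearGroup (Fin n) F)) := by
  intro s s' h
  show graphAut (mk s) = mk s'
  rw [graphAut_mk]
  congr 1
  exact Subtype.ext h.symm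

/-- Every automorphism of a simple projective special linear group PSL_n(F) over a finite field (n ≥ 2; |F| ≥ 4 when n = 2) is a product δ φ γ of an inner-diagonal automorphism δ (induced by an invertible matrix), a standard field automorphism φ (one automorphism of F applied to every entry, possibly the identity) and γ either the identity or the inverse-transpose automorphism. -/
theorem result {F : Type*} [Field F] [Fintype F] {p f : ℕ} [Fact p.Prime] (hF : Fintype.card F = p ^ f) (hf : 1 ≤ f) {n : ℕ} (hn : 2 ≤ n) (hs : n = 2 → 4 ≤ Fintype.card F) (β : MulAut (Matrix.ProjectiveSpecialLinearGroup (Fin n) F)) :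
    ∃ (δ φ γ : MulAut (Matrix.ProjectiveSpecialLinearGroup (Fin n) F)) (σ : F ≃+* F), Cfsg.IsInnerDiagonalAutPSL δ ∧ Cfsg.IsStdFieldAutPSL σ φ ∧ (γ = 1 ∨ Cfsg.IsInverseTransposeAutPSL γ) ∧ β = δ * φ * γ := by
  have : CharP F p := charP_of_card_eq_prime_pow hF
  obtain ⟨g, e, h | ⟨-, h⟩⟩ := exists_decomposition_any p hn β
  · exact ⟨diagAut g, fieldAut e, 1, e, isInnerDiagonal g, isStdField e, Or.inl rfl, by rw [h, mul_one]⟩
  · exact ⟨diagAut g, fieldAut e, graphAut, e, isInnerDiagonal g, isStdField e,
      Or.inr isInverseTranspose, h⟩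

end Cfsg.Agent.S2690
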