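import Cfsg.Statements.S2694
import Cfsg.Agent.Lib.OrthAut.Transport
import Cfsg.Agent.Lib.StdQuadForms
import Cfsg.Agent.Lib.PGO.Proper

set_option autoImplicit false
open Cfsg

namespace Cfsg.Agent.S2694

/-- For m ≥ 3 and a finite field F of odd order, the automorphism group of the orthogonal group Ω_{2m+1}(F) (realised as PΩ of the form x₀² + Σ xᵢ yᵢ, whose centre is trivial) is generated by the automorphisms induced by the semisimilarities v ↦ g σ(v) of the form (the image of the projective semisimilarity group); there are no graph or graph-field automorphisms. -/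
theorem result {F : Type*} [Field F] [Fintype F] (hodd : Odd (Fintype.card F)) {m : ℕ} (hm : 3 ≤ m) :
    Cfsg.gammaPOmega F (Cfsg.quadFormOdd m F) = ⊤ := by
  have h2 : (2 : F) ≠ 0 := Ring.two_ne_zero (fun h => by
    haveI : CharP F 2 := h ▸ ringChar.charP F
    obtain ⟨n, -, hn⟩ := FiniteField.card F 2
    rw [hn] at hodd
    exact (Nat.not_even_iff_odd.mpr hodd) ((Nat.even_pow.mpr ⟨even_two, n.ne_zero⟩)))
  have hc : Fintype.card (Unit ⊕ (Fin m ⊕ Fin m)) = 2 * m + 1 := by simp; omega
  refine CfsgLib.OrthAut.gamma_top (CfsgLib.StdQuadForms.Qo m) (fun v => (CfsgLib.StdQuadForms.Qo_apply m v).symm)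
    (CfsgLib.StdQuadForms.Qo_nondeg h2 m) (by rw [hc]; omega) (Or.inl fun W hW => ?_)
  have := CfsgLib.PGO.singular_le (Q := CfsgLib.StdQuadForms.Qo m) (CfsgLib.StdQuadForms.Qo_nondeg h2 m) W hW
  rw [hc] at this ⊢
  omega

end Cfsg.Agent.S2694
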