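import Cfsg.Statements.S2697
import Cfsg.Agent.Lib.PSLn.FieldCentral
-- import your own Cfsg.Agent.* helpers here

set_option autoImplicit false
open Cfsg

namespace Cfsg.Agent.S2697

/-- Let T = PSL_n(F) be simple over a finite field (n ≥ 2; |F| ≥ 4 when n = 2) and let x be a field automorphism or a graph-field automorphism of T of prime order r. Then an element y of the coset Inndiag(T)·x (that is, y = δ x with δ in the inner-diagonal group, the image of PGL_n(F)) has order r if and only if y is conjugate to x by an element of Inndiag(T). -/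
theorem result {F : Type*} [Field F] [Fintype F] {p f : ℕ} [Fact p.Prime] (hF : Fintype.card F = p ^ f) (hf : 1 ≤ f) {n : ℕ} (hn : 2 ≤ n) (hs : n = 2 → 4 ≤ Fintype.card F) (x δ : MulAut (Matrix.ProjectiveSpecialLinearGroup (Fin n) F)) (hx : Cfsg.IsFieldAutClassPSL x ∨ Cfsg.IsGraphFieldAutClassPSL x) {r : ℕ} (hr : r.Prime) (hxr : orderOf x = r) (hδ : δ ∈ Cfsg.inndiagPSL n F) :
    orderOf (δ * x) = r ↔ Cfsg.IsConjUnder (Cfsg.inndiagPSL n F) x (δ * x) := by
  haveI := CfsgLib.PSLn.charP_of_card hF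
  refine ⟨fun hr' => ?_, ?_⟩
  swap
  · rintro ⟨h, -, e⟩
    rw [e, ← MulAut.conj_apply, MulEquiv.orderOf_eq, hxr]
  rw [CfsgLib.PSLn.inndiag_eq] at hδ ⊢
  obtain ⟨d, rfl⟩ := hδ
  -- it suffices to treat the standard representative
  suffices key : ∀ (s : MulAut (Matrix.ProjectiveSpecialLinearGroup (Fin n) F))
      (g : Matrix.GeneralLinearGroup (Fin n) F),
      x = CfsgLib.PSLn.diagAut g * s * (CfsgLib.PSLn.diagAut g)⁻¹ →
      (∀ h : Matrix.GeneralLinearGroup (Fin n) F, orderOf (CfsgLib.PSLn.diagAut h * s) = r →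
        ∃ k : Matrix.GeneralLinearGroup (Fin n) F, CfsgLib.PSLn.diagAut h * s =
          CfsgLib.PSLn.diagAut k * s * (CfsgLib.PSLn.diagAut k)⁻¹) →
      Cfsg.IsConjUnder (CfsgLib.PSLn.diagAut :
        Matrix.GeneralLinearGroup (Fin n) F →* _).range x (CfsgLib.PSLn.diagAut d * x) by
    rcases hx with hx | hx
    · obtain ⟨σ, g, hσ, e⟩ := CfsgLib.PSLn.exists_std_field p hn hx
      refine key _ g e fun h hh => CfsgLib.PSLn.field_conj_of_pow_eq_one hn σ h ?_
      rw [e, ← MulAut.conj_apply, MulEquiv.orderOf_eq, CfsgLib.PSLn.orderOf_fieldAut hn] at hxr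
      rw [hxr, ← hh, pow_orderOf_eq_one]
    · obtain ⟨hn3, σ, g, hσ, e⟩ := CfsgLib.PSLn.exists_std_graphField p hx
      refine key _ g e fun h hh => ?_
      rw [e, ← MulAut.conj_apply, MulEquiv.orderOf_eq] at hxr
      obtain ⟨hr2, hσ2⟩ := CfsgLib.PSLn.graphField_order p hn3 hσ hr hxr
      refine CfsgLib.PSLn.graphField_conj_of_sq_eq_one hn σ hσ2 h ?_
      rw [← hr2, ← hh, pow_orderOf_eq_one]
  intro s g e key
  have e1 : CfsgLib.PSLn.diagAut d * x = CfsgLib.PSLn.diagAut g *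
      (CfsgLib.PSLn.diagAut (g⁻¹ * d * g) * s) * (CfsgLib.PSLn.diagAut g)⁻¹ := by
    rw [e, map_mul, map_mul, map_inv]; group
  obtain ⟨k, hk⟩ := key (g⁻¹ * d * g) (by
    rw [e1, ← MulAut.conj_apply, MulEquiv.orderOf_eq] at hr'
    exact hr')
  refine ⟨CfsgLib.PSLn.diagAut (g * k * g⁻¹), ⟨_, rfl⟩, ?_⟩
  rw [e1, hk, e, map_mul, map_mul, map_inv]
  group

end Cfsg.Agent.S2697
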