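import Cfsg.Statements.S2698
import Cfsg.Agent.Lib.PSLn.FieldCentral
-- import your own Cfsg.Agent.* helpers here

set_option autoImplicit false
open Cfsg

namespace Cfsg.Agent.S2698

/-- Let T = PSL_n(F) be simple over the field F with p^f elements (n ≥ 2; p^f ≥ 4 when n = 2), G = Inndiag(T) the image of PGL_n(F) in Aut(T), and x a field automorphism of T of prime order r. Then r divides f; the centralizer C_G(x) is isomorphic to PGL_n(F₀) for the subfield size |F₀| = p^(f/r); and the G-class of x is the union of exactly gcd(n, (p^f − 1)/(p^(f/r) − 1)) classes under conjugation by T (the inner automorphism group). -/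
theorem result {F : Type*} [Field F] [Fintype F] {p f : ℕ} [Fact p.Prime] (hF : Fintype.card F = p ^ f) (hf : 1 ≤ f) {n : ℕ} (hn : 2 ≤ n) (hs : n = 2 → 4 ≤ Fintype.card F) (x : MulAut (Matrix.ProjectiveSpecialLinearGroup (Fin n) F)) (hx : Cfsg.IsFieldAutClassPSL x) {r : ℕ} (hr : r.Prime) (hxr : orderOf x = r) (F₀ : Type*) [Field F₀] [Fintype F₀] (hF₀ : Fintype.card F₀ = p ^ (f / r)) :
    r ∣ f ∧ Nonempty (↥(Cfsg.inndiagPSL n F ⊓ Subgroup.centralizer {x}) ≃* Matrix.ProjGenLinGroup (Fin n) F₀) ∧ Cfsg.splitClassCount (Cfsg.inndiagPSL n F) (Cfsg.Inn (Matrix.ProjectiveSpecialLinearGroup (Fin n) F)) x = Nat.gcd n ((p ^ f - 1) / (p ^ (f / r) - 1)) := by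
  haveI := CfsgLib.PSLn.charP_of_card hF
  obtain ⟨σ, g, hσ, rfl⟩ := CfsgLib.PSLn.exists_std_field p hn hx
  rw [← MulAut.conj_apply, MulEquiv.orderOf_eq, CfsgLib.PSLn.orderOf_fieldAut hn] at hxr
  obtain ⟨hd, hK⟩ := CfsgLib.PSLn.dvd_and_card_fixedField hF σ hxr
  have hg : CfsgLib.PSLn.diagAut g ∈ Cfsg.inndiagPSL n F := by
    rw [CfsgLib.PSLn.inndiag_eq]; exact ⟨g, rfl⟩
  refine ⟨hd, ?_, ?_⟩
  · obtain ⟨e⟩ := CfsgLib.PSLn.centralizer_conj_equiv (Cfsg.inndiagPSL n F)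
      (s := CfsgLib.PSLn.fieldAut σ) hg
    obtain ⟨e'⟩ := CfsgLib.PSLn.centralizer_fieldAut_equiv (n := n) hn σ F₀ (hF₀.trans hK.symm)
    exact ⟨e.trans e'⟩
  · rw [CfsgLib.PSLn.splitClassCount_conj _ _ hg, CfsgLib.PSLn.splitCount_fieldAut hn, hK, hF]

end Cfsg.Agent.S2698
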