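import Cfsg.Statements.S2699
import Cfsg.Agent.Lib.PSLnGraph.Classify
import Cfsg.Agent.Lib.PSLn.FieldCentral

set_option autoImplicit false
open Cfsg CfsgLib.PSLnGraph CfsgLib.FiniteForms

namespace Cfsg.Agent.S2699

/-- Let T = PSL_n(F) over the field with p^f elements with n ≥ 3 odd, n = 2m + 1, and G = Inndiag(T) the image of PGL_n(F). Every involutory graph automorphism γ of T (an inner-diagonal automorphism followed by inverse-transpose, of order 2) has centralizer C_G(γ) isomorphic to the projective conformal orthogonal group of the form x₀² + Σ xᵢ yᵢ in dimension n (for q even this group is isomorphic to Sp_{n−1}(q)), and any two involutory graph automorphisms are G-conjugate. -/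
theorem result {F : Type*} [Field F] [Fintype F] {p f : ℕ} [Fact p.Prime] (hF : Fintype.card F = p ^ f) (hf : 1 ≤ f) {n : ℕ} (hn : 3 ≤ n) {m : ℕ} (hnm : n = 2 * m + 1) (γ γ' : MulAut (Matrix.ProjectiveSpecialLinearGroup (Fin n) F)) (hγ : Cfsg.IsGraphAutClassPSL γ) (hγ2 : orderOf γ = 2) (hγ' : Cfsg.IsGraphAutClassPSL γ') (hγ'2 : orderOf γ' = 2) :
    Nonempty (↥(Cfsg.inndiagPSL n F ⊓ Subgroup.centralizer {γ}) ≃* Cfsg.PGO F (Cfsg.quadFormOdd m F)) ∧ Cfsg.IsConjUnder (Cfsg.inndiagPSL n F) γ γ' := by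
  classical
  subst hnm
  haveI := CfsgLib.PSLn.charP_of_card hF
  have hn2 : 2 ≤ 2 * m + 1 := by omega
  suffices key : ∀ g : Matrix.GeneralLinearGroup (Fin (2 * m + 1)) F, (g.1.transpose = g.1 ∨ g.1.transpose = -g.1) →
      g.1.transpose = g.1 ∧
        Nonempty (Cfsg.projQuot (SimGrp g.1) ≃* Cfsg.PGO F (Cfsg.quadFormOdd m F)) ∧
        ∀ h : Matrix.GeneralLinearGroup (Fin (2 * m + 1)) F, h.1.transpose = h.1 → Rel g.1 h.1 by
    obtain ⟨g, rfl⟩ := CfsgLib.PSLnGraph.exists_γ hγ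
    obtain ⟨h, rfl⟩ := CfsgLib.PSLnGraph.exists_γ hγ'
    obtain ⟨-, ⟨e⟩, hrel⟩ := key g ((CfsgLib.PSLnGraph.orderOf_γ hn g).mp hγ2)
    obtain ⟨hh, -, -⟩ := key h ((CfsgLib.PSLnGraph.orderOf_γ hn h).mp hγ'2)
    obtain ⟨e'⟩ := CfsgLib.PSLnGraph.centralizer_equiv hn2 g
    exact ⟨⟨e'.trans e⟩, (CfsgLib.PSLnGraph.conjUnder_iff hn2 g h).mpr (hrel h hh)⟩
  intro g hg
  by_cases h2 : (2 : F) = 0
  · haveI : CharP F 2 := CharTwo.of_one_ne_zero_of_two_eq_zero one_ne_zero h2
    have hneg : ∀ M : Matrix (Fin (2 * m + 1)) (Fin (2 * m + 1)) F, -M = M := fun M =>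
      Matrix.ext fun i j => CharTwo.neg_eq _
    have hs : g.1.transpose = g.1 := hg.elim id fun h => h.trans (hneg _)
    have std : ∀ h : Matrix.GeneralLinearGroup (Fin (2 * m + 1)) F, h.1.transpose = h.1 →
        Rel h.1 (Matrix.fromBlocks (1 : Matrix Unit Unit F) 0 0 (Matrix.J (Fin m) F)) := by
      intro h hh
      have hna : ∃ i, h.1 i i ≠ 0 := by
        by_contra hno
        push Not at hno
        obtain ⟨k, hk, -⟩ := exists_symp (G := h.1) (by rw [hneg]; exact hh) hno (det_gl_ne h)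
        rw [Fintype.card_fin] at hk
        omega
      rcases symm_two h2 hh (det_gl_ne h) hna with ⟨k, u, hk, -, -⟩ | ⟨k, hk, hr⟩
      · rw [Fintype.card_fin] at hk; omega
      · rw [Fintype.card_fin] at hk
        obtain rfl : k = m := by omega
        exact hr
    refine ⟨hs, ?_, fun h hh => (std g hs).trans (std h hh).symm⟩
    obtain ⟨e1⟩ := (std g hs).projEquiv
    obtain ⟨e2⟩ := odd_two h2 m
    obtain ⟨e3⟩ := pgo_odd_two (F := F) m
    exact ⟨(e1.trans e2).trans e3.symm⟩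
  · have hs : g.1.transpose = g.1 := by
      refine hg.elim id fun h => absurd ?_ (det_gl_ne g)
      have e := congrArg Matrix.det h
      rw [Matrix.det_transpose, Matrix.det_neg, Fintype.card_fin, Odd.neg_one_pow ⟨m, rfl⟩] at e
      have e2 : 2 * g.1.det = 0 := by linear_combination e
      exact (mul_eq_zero.mp e2).resolve_left h2
    refine ⟨hs, ?_, fun h hh => rel_symm_odd h2 hs hh (det_gl_ne g) (det_gl_ne h) ⟨m, rfl⟩⟩
    have hod : (oddMat F m).det ≠ 0 := by
      rw [det_oddMat]; exact mul_ne_zero h2 (pow_ne_zero _ (neg_ne_zero.mpr one_ne_zero))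
    obtain ⟨g₀, hr, -, hsym, -⟩ := exists_GL (oddMat F m) hod (show Fintype.card (Unit ⊕ (Fin m ⊕ Fin m)) = 2 * m + 1 by
      simp; omega)
    obtain ⟨e1⟩ := ((rel_symm_odd h2 hs (hsym (oddMat_symm m)) (det_gl_ne g) (det_gl_ne g₀) ⟨m, rfl⟩).trans hr).projEquiv
    obtain ⟨e2⟩ := proj_eq (odd_sim h2 m).symm
    exact ⟨e1.trans e2⟩

end Cfsg.Agent.S2699
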