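import Cfsg.Statements.S2700
import Cfsg.Agent.Lib.PSLnGraph.Classify

set_option autoImplicit false
open Cfsg CfsgLib.PSLnGraph CfsgLib.FiniteForms

namespace Cfsg.Agent.S2700

theorem iff_cases {A B C : Prop} (h : ¬ (A ↔ B)) : (A ↔ C) ∨ (B ↔ C) := by
  by_cases A <;> by_cases C <;> simp_all

/-- Let T = PSL_n(F) over a finite field of odd order with n = 2m ≥ 4 even, and G = Inndiag(T) the image of PGL_n(F). The involutory graph automorphisms of T fall into exactly three G-classes, with representatives γ₁, γ₂, γ₃ whose centralizers in G are isomorphic respectively to the projective conformal symplectic group PGSp_n(F), the projective conformal orthogonal group of the plus-type form Σ xᵢ yᵢ, and that of a minus-type form Σ xᵢ yᵢ + z₁² + a z₁ z₂ + b z₂² (anisotropic binary part) in dimension n. -/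
theorem result {F : Type*} [Field F] [Fintype F] (hodd : Odd (Fintype.card F)) {n m : ℕ} (hm : 2 ≤ m) (hnm : n = 2 * m) :
    ∃ (γ₁ γ₂ γ₃ : MulAut (Matrix.ProjectiveSpecialLinearGroup (Fin n) F)) (a b : F), (∀ z₁ z₂ : F, z₁ ^ 2 + a * z₁ * z₂ + b * z₂ ^ 2 = 0 → z₁ = 0 ∧ z₂ = 0) ∧ Cfsg.IsGraphAutClassPSL γ₁ ∧ orderOf γ₁ = 2 ∧ Cfsg.IsGraphAutClassPSL γ₂ ∧ orderOf γ₂ = 2 ∧ Cfsg.IsGraphAutClassPSL γ₃ ∧ orderOf γ₃ = 2 ∧ ¬ Cfsg.IsConjUnder (Cfsg.inndiagPSL n F) γ₁ γ₂ ∧ ¬ Cfsg.IsConjUnder (Cfsg.inndiagPSL n F) γ₁ γ₃ ∧ ¬ Cfsg.IsConjUnder (Cfsg.inndiagPSL n F) γ₂ γ₃ ∧ (∀ γ : MulAut (Matrix.ProjectiveSpecialLinearGroup (Fin n) F), Cfsg.IsGraphAutClassPSL γ → orderOf γ = 2 → Cfsg.IsConjUnder (Cfsg.inndiagPSL n F) γ₁ γ ∨ Cfsg.IsConjUnder (Cfsg.inndiagPSL n F) γ₂ γ ∨ Cfsg.IsConjUnder (Cfsg.inndiagPSL n F) γ₃ γ) ∧ Nonempty (↥(Cfsg.inndiagPSL n F ⊓ Subgroup.centralizer {γ₁}) ≃* Cfsg.PGSp m F) ∧ Nonempty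 (↥(Cfsg.inndiagPSL n F ⊓ Subgroup.centralizer {γ₂}) ≃* Cfsg.PGO F (Cfsg.quadFormPlus m F)) ∧ Nonempty (↥(Cfsg.inndiagPSL n F ⊓ Subgroup.centralizer {γ₃}) ≃* Cfsg.PGO F (Cfsg.quadFormMinus (m - 1) F a b)) := by
  classical
  subst hnm
  have h2 : (2 : F) ≠ 0 := two_ne_zero_of_odd rfl hodd
  have hn3 : 3 ≤ 2 * m := by omega
  have hn2 : 2 ≤ 2 * m := by omega
  obtain ⟨ν, hν⟩ : ∃ ν : F, ¬ IsSquare ν := FiniteField.exists_nonsquare (by
    intro hc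
    have := (FiniteField.even_card_iff_char_two (F := F)).mp hc
    exact (Nat.not_even_iff_odd.mpr hodd) (Nat.even_iff.mpr this))
  have hab : ∀ z₁ z₂ : F, z₁ ^ 2 + 0 * z₁ * z₂ + (-ν) * z₂ ^ 2 = 0 → z₁ = 0 ∧ z₂ = 0 := by
    intro z₁ z₂ h
    by_cases hz : z₂ = 0
    · subst hz; exact ⟨pow_eq_zero_iff two_ne_zero |>.mp (by linear_combination h), rfl⟩
    · exact absurd ⟨z₁ / z₂, by field_simp; linear_combination -h⟩ hν
  obtain ⟨gJ, rJ, -, -, tJ⟩ := exists_GL (Matrix.J (Fin m) F) (det_J_ne m) (n := 2 * m) (by simp; omega)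
  obtain ⟨gP, rP, dP, tP, -⟩ := exists_GL (hypMat F m)
    (by rw [det_hypMat]; exact pow_ne_zero _ (neg_ne_zero.mpr one_ne_zero)) (n := 2 * m) (by simp; omega)
  have hdE : (ellMat (m - 1) (0 : F) (-ν)).det ≠ 0 := by
    rw [det_ellMat]
    refine mul_ne_zero (pow_ne_zero _ (neg_ne_zero.mpr one_ne_zero)) fun h => hν ⟨0, ?_⟩
    have e : 4 * ν = 0 := by linear_combination -h
    have h4 : (4 : F) ≠ 0 := by rw [show (4 : F) = 2 * 2 by norm_num]; exact mul_ne_zero h2 h2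
    rw [(mul_eq_zero.mp e).resolve_left h4, mul_zero]
  obtain ⟨gM, rM, dM, tM, -⟩ := exists_GL (ellMat (m - 1) (0 : F) (-ν)) hdE (n := 2 * m) (by simp; omega)
  have sJ : gJ.1.transpose = -gJ.1 := tJ (J_skew m)
  have sP : gP.1.transpose = gP.1 := tP (hypMat_isSymm m).eq
  have sM : gM.1.transpose = gM.1 := tM (ellMat_symm _ _ _)
  have hmix : ∀ g : Matrix.GeneralLinearGroup (Fin (2 * m)) F, g.1.transpose = g.1 → ¬ Rel gJ.1 g.1 := by
    intro g hg h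
    have := h.transpose_eq (ε := (-1 : F)) (by rw [neg_one_smul]; exact sJ)
    rw [neg_one_smul, hg] at this
    apply det_gl_ne g
    have hz : g.1 = 0 := Matrix.ext fun i j => by
      have e := congrFun (congrFun this i) j
      rw [Matrix.neg_apply] at e
      have e2 : 2 * g.1 i j = 0 := by linear_combination e
      exact (mul_eq_zero.mp e2).resolve_left h2
    haveI : Nonempty (Fin (2 * m)) := ⟨⟨0, by omega⟩⟩
    rw [hz, Matrix.det_zero]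
  have hPM : ¬ IsSquare (gP.1.det * gM.1.det) := by
    rw [dP, dM, det_hypMat, det_ellMat]
    intro h
    apply not_isSquare_of_anisotropic h2 hab
    have e : (-1 : F) ^ m * ((-1) ^ (m - 1) * (4 * -ν - 0 * 0)) = 0 * 0 - 4 * -ν := by
      obtain ⟨k, rfl⟩ : ∃ k, m = k + 1 := ⟨m - 1, by omega⟩
      rw [Nat.add_sub_cancel, pow_succ, ← mul_assoc, show (-1 : F) ^ k * -1 * (-1) ^ k = -1 by
        rw [mul_right_comm, ← mul_pow, neg_one_mul, neg_neg, one_pow, one_mul]]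
      ring
    rwa [e] at h
  refine ⟨γ gJ, γ gP, γ gM, 0, -ν, hab, graphClass_γ hn3 gJ, (orderOf_γ hn3 gJ).mpr (Or.inr sJ),
    graphClass_γ hn3 gP, (orderOf_γ hn3 gP).mpr (Or.inl sP), graphClass_γ hn3 gM,
    (orderOf_γ hn3 gM).mpr (Or.inl sM), ?_, ?_, ?_, ?_, ?_, ?_, ?_⟩
  · rw [CfsgLib.PSLnGraph.conjUnder_iff hn2]; exact hmix gP sP
  · rw [CfsgLib.PSLnGraph.conjUnder_iff hn2]; exact hmix gM sM
  · rw [CfsgLib.PSLnGraph.conjUnder_iff hn2, CfsgLib.PSLnGraph.rel_symm_even h2 sP sM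
      (CfsgLib.PSLnGraph.det_gl_ne gP) (CfsgLib.PSLnGraph.det_gl_ne gM) (even_two_mul m)]
    exact hPM
  · intro x hx hx2
    obtain ⟨g, rfl⟩ := exists_γ hx
    rw [conjUnder_iff hn2, conjUnder_iff hn2, conjUnder_iff hn2]
    rcases (orderOf_γ hn3 g).mp hx2 with hs | hs
    · right
      rw [rel_symm_even h2 sP hs (det_gl_ne gP) (det_gl_ne g) (even_two_mul m),
        rel_symm_even h2 sM hs (det_gl_ne gM) (det_gl_ne g) (even_two_mul m),
        isSquare_mul_iff (det_gl_ne gP) (det_gl_ne g), isSquare_mul_iff (det_gl_ne gM) (det_gl_ne g)]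
      rw [isSquare_mul_iff (det_gl_ne gP) (det_gl_ne gM)] at hPM
      exact iff_cases hPM
    · left
      obtain ⟨k, hk, hr⟩ := exists_symp hs (skew_diag h2 hs) (det_gl_ne g)
      rw [Fintype.card_fin] at hk
      obtain rfl : k = m := by omega
      exact rJ.trans hr.symm
  · obtain ⟨e1⟩ := centralizer_equiv hn2 gJ
    obtain ⟨e2⟩ := rJ.projEquiv
    obtain ⟨e3⟩ := proj_eq (gsp_eq (F := F) m).symm
    exact ⟨(e1.trans e2).trans e3⟩
  · obtain ⟨e1⟩ := centralizer_equiv hn2 gP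
    obtain ⟨e2⟩ := rP.projEquiv
    obtain ⟨e3⟩ := proj_eq (plus_sim h2 m).symm
    exact ⟨(e1.trans e2).trans e3⟩
  · obtain ⟨e1⟩ := centralizer_equiv hn2 gM
    obtain ⟨e2⟩ := rM.projEquiv
    obtain ⟨e3⟩ := proj_eq (minus_sim h2 (m - 1) (0 : F) (-ν)).symm
    exact ⟨(e1.trans e2).trans e3⟩

end Cfsg.Agent.S2700
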