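import Cfsg.Statements.S2701
import Cfsg.Agent.Lib.PSLnGraph.Classify

set_option autoImplicit false
open Cfsg CfsgLib.PSLnGraph CfsgLib.FiniteForms Matrix

namespace Cfsg.Agent.S2701

/-- Let T = PSL_n(F) over a finite field of characteristic 2 with n = 2m ≥ 4 even, and G = Inndiag(T) the image of PGL_n(F). The involutory graph automorphisms of T fall into exactly two G-classes, with representatives γ₁ and γ₃ whose centralizers in G are isomorphic respectively to the symplectic group Sp_n(F) and to the centralizer in Sp_n(F) of a symplectic transvection. -/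
theorem result {F : Type*} [Field F] [Fintype F] [CharP F 2] {n m : ℕ} (hm : 2 ≤ m) (hnm : n = 2 * m) :
    ∃ (γ₁ γ₃ : MulAut (Matrix.ProjectiveSpecialLinearGroup (Fin n) F)) (t : ↥(Matrix.symplecticGroup (Fin m) F)), Cfsg.IsTransvection (t : Matrix (Fin m ⊕ Fin m) (Fin m ⊕ Fin m) F) ∧ Cfsg.IsGraphAutClassPSL γ₁ ∧ orderOf γ₁ = 2 ∧ Cfsg.IsGraphAutClassPSL γ₃ ∧ orderOf γ₃ = 2 ∧ ¬ Cfsg.IsConjUnder (Cfsg.inndiagPSL n F) γ₁ γ₃ ∧ (∀ γ : MulAut (Matrix.ProjectiveSpecialLinearGroup (Fin n) F), Cfsg.IsGraphAutClassPSL γ → orderOf γ = 2 → Cfsg.IsConjUnder (Cfsg.inndiagPSL n F) γ₁ γ ∨ Cfsg.IsConjUnder (Cfsg.inndiagPSL n F) γ₃ γ) ∧ Nonempty (↥(Cfsg.inndiagPSL n F ⊓ Subgroup.centralizer {γ₁}) ≃* ↥(Matrix.symplecticGroup (Fin m) F)) ∧ Nonempty (↥(Cfsg.inndiagPSL n F ⊓ Subgroup.centralizer {γ₃}) ≃* ↥(Subgroup.centralizer ({t} : Set ↥(Matrix.symplecticGroup (Fin m) F)))) := by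
  classical
  subst hnm
  have h2 : (2 : F) = 0 := CharTwo.two_eq_zero
  have hn3 : 3 ≤ 2 * m := by omega
  have hn2 : 2 ≤ 2 * m := by omega
  have hneg : ∀ {κ : Type} (M : Matrix κ κ F), -M = M := fun M => Matrix.ext fun i j => CharTwo.neg_eq _
  let v : Fin m ⊕ Fin m → F := Pi.single (Sum.inl ⟨0, by omega⟩) 1
  have hv : v ≠ 0 := fun h => (one_ne_zero : (1 : F) ≠ 0) (by simpa [v] using congrFun h (Sum.inl ⟨0, by omega⟩))
  set u := Matrix.J (Fin m) F *ᵥ v with hu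
  have hu0 : u ≠ 0 := CfsgLib.SympTransvection.J_mulVec_ne_zero hv
  have hJ2s : (J₂ m u).transpose = J₂ m u := by
    rw [J₂, Matrix.transpose_add, Matrix.transpose_vecMulVec, J_skew, hneg]
  have hJ2d : (J₂ m u).det ≠ 0 := by
    have hJv : Matrix.J (Fin m) F *ᵥ u = v := by
      rw [hu, Matrix.mulVec_mulVec, Matrix.J_squared, Matrix.neg_mulVec, Matrix.one_mulVec]
      exact funext fun i => CharTwo.neg_eq _
    have e : J₂ m u = Matrix.J (Fin m) F * (1 + Matrix.vecMulVec v u) := by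
      rw [J₂, Matrix.mul_add, Matrix.mul_one, Matrix.mul_vecMulVec, ← hu]
    rw [e, Matrix.det_mul, Matrix.vecMulVec_eq Unit, Matrix.det_one_add_replicateCol_mul_replicateRow,
      dotProduct_comm, hu, CfsgLib.SympTransvection.dot_J_self, add_zero, mul_one]
    exact det_J_ne m
  obtain ⟨gJ, rJ, -, -, tJ⟩ := exists_GL (Matrix.J (Fin m) F) (det_J_ne m) (n := 2 * m) (by simp; omega)
  obtain ⟨g₃, r₃, -, t₃, -⟩ := exists_GL (J₂ m u) hJ2d (n := 2 * m) (by simp; omega)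
  have sJ : gJ.1.transpose = -gJ.1 := tJ (J_skew m)
  have s₃ : g₃.1.transpose = g₃.1 := t₃ hJ2s
  have dJ : ∀ i, gJ.1 i i = 0 := fun i => rJ.symm.diag_eq (J_skew m) J_diag i
  refine ⟨γ gJ, γ g₃, CfsgLib.SympTransvection.tv v 1, tv_isTransvection v hv,
    graphClass_γ hn3 gJ, (orderOf_γ hn3 gJ).mpr (Or.inr sJ),
    graphClass_γ hn3 g₃, (orderOf_γ hn3 g₃).mpr (Or.inl s₃), ?_, ?_, ?_, ?_⟩
  · rw [conjUnder_iff hn2]
    intro h
    apply hu0
    funext i
    have := (h.trans r₃).diag_eq sJ dJ i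
    simp only [J₂, Matrix.add_apply, J_diag, zero_add, Matrix.vecMulVec_apply] at this
    exact mul_self_eq_zero.mp this
  · intro x hx hx2
    obtain ⟨g, rfl⟩ := exists_γ hx
    rw [conjUnder_iff hn2, conjUnder_iff hn2]
    have hs : g.1.transpose = g.1 := ((orderOf_γ hn3 g).mp hx2).elim id fun h => h.trans (hneg _)
    by_cases hd : ∀ i, g.1 i i = 0
    · left
      obtain ⟨k, hk, hr⟩ := exists_symp (G := g.1) (by rw [hneg]; exact hs) hd (det_gl_ne g)
      rw [Fintype.card_fin] at hk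
      obtain rfl : k = m := by omega
      exact rJ.trans hr.symm
    · right
      push Not at hd
      rcases symm_two h2 hs (det_gl_ne g) hd with ⟨k, w, hk, hw, hr⟩ | ⟨k, hk, -⟩
      · rw [Fintype.card_fin] at hk
        obtain rfl : k = m := by omega
        exact r₃.trans ((J₂_rel hu0 hw).trans hr.symm)
      · rw [Fintype.card_fin] at hk; omega
  · obtain ⟨e1⟩ := centralizer_equiv hn2 gJ
    obtain ⟨e2⟩ := rJ.projEquiv
    obtain ⟨e3⟩ := pgsp_two (F := F) h2 (show 1 ≤ m by omega)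
    exact ⟨(e1.trans e2).trans e3⟩
  · obtain ⟨e1⟩ := centralizer_equiv hn2 g₃
    obtain ⟨e2⟩ := r₃.projEquiv
    obtain ⟨e3⟩ := centralizer_two h2 v hv
    exact ⟨(e1.trans e2).trans e3⟩

end Cfsg.Agent.S2701
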