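import Cfsg.Statements.S2702
import Cfsg.Agent.Lib.PSLnGraph.Split
import Cfsg.Agent.Lib.PSLn.FieldCentral

set_option autoImplicit false
open Cfsg CfsgLib.PSLnGraph CfsgLib.FiniteForms

namespace Cfsg.Agent.S2702

/-- Let T = PSL_n(F) over the field with q = p^f elements, n ≥ 3, G = Inndiag(T) the image of PGL_n(F), and γ an involutory graph automorphism of T. The G-class of γ is the union of exactly c T-classes, where: if n is even and q is odd, c = gcd(n/2, q − 1) when C_G(γ) is isomorphic to the projective conformal symplectic group PGSp_n(F) (symplectic type) and c = gcd(n, q − 1)/2 otherwise; and c = gcd(n, q − 1) when n is odd or q is even. -/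
theorem result {F : Type*} [Field F] [Fintype F] {p f : ℕ} [Fact p.Prime] (hF : Fintype.card F = p ^ f) (hf : 1 ≤ f) {n : ℕ} (hn : 3 ≤ n) (γ : MulAut (Matrix.ProjectiveSpecialLinearGroup (Fin n) F)) (hγ : Cfsg.IsGraphAutClassPSL γ) (hγ2 : orderOf γ = 2) :
    ((Even n ∧ Odd p ∧ Nonempty (↥(Cfsg.inndiagPSL n F ⊓ Subgroup.centralizer {γ}) ≃* Cfsg.PGSp (n / 2) F)) → Cfsg.splitClassCount (Cfsg.inndiagPSL n F) (Cfsg.Inn (Matrix.ProjectiveSpecialLinearGroup (Fin n) F)) γ = Nat.gcd (n / 2) (p ^ f - 1)) ∧ ((Even n ∧ Odd p ∧ ¬ Nonempty (↥(Cfsg.inndiagPSL n F ⊓ Subgroup.centralizer {γ}) ≃* Cfsg.PGSp (n / 2) F)) → Cfsg.splitClassCount (Cfsg.inndiagPSL n F) (Cfsg.Inn (Matrix.ProjectiveSpecialLinearGroup (Fin n) F)) γ = Nat.gcd n (p ^ f - 1) / 2) ∧ (¬ (Even n ∧ Odd p) → Cfsg.splitClassCount (Cfsg.inndiagPSL n F) (Cfsg.Inn (Matrix.ProjectiveSpecialLinearGroup (Fin n) F)) γ = Nat.gcd n (p ^ f - 1)) := by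
  classical
  haveI := CfsgLib.PSLn.charP_of_card hF
  obtain ⟨g, rfl⟩ := exists_γ hγ
  have hs := (orderOf_γ hn g).mp hγ2
  have hn2 : 2 ≤ n := by omega
  have hp2 : Odd p → (2 : F) ≠ 0 := fun hp => two_ne_zero_of_odd hF hp.pow
  have full : ¬ (Even n ∧ Odd p) →
      Cfsg.splitClassCount (Cfsg.inndiagPSL n F) (Cfsg.Inn (Matrix.ProjectiveSpecialLinearGroup (Fin n) F)) (γ g) =
        Nat.gcd n (p ^ f - 1) := by
    intro h
    rw [split_full hn2 g, hF]
    rcases Nat.even_or_odd n with he | ho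
    · right
      have hp : p = 2 := (Fact.out : p.Prime).eq_two_or_odd'.resolve_right fun hp => h ⟨he, hp⟩
      subst hp
      exact CharTwo.two_eq_zero
    · exact Or.inl ho
  have key : Even n → Odd p →
      (g.1.transpose = -g.1 ↔ Nonempty (↥(Cfsg.inndiagPSL n F ⊓ Subgroup.centralizer {γ g}) ≃* Cfsg.PGSp (n / 2) F)) := by
    intro he hp
    obtain ⟨m, rfl⟩ := he
    have h2 := hp2 hp
    rw [show (m + m) / 2 = m by omega]
    obtain ⟨e1⟩ := centralizer_equiv hn2 g
    constructor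
    · intro hskew
      obtain ⟨k, hk, hr⟩ := exists_symp hskew (skew_diag h2 hskew) (det_gl_ne g)
      rw [Fintype.card_fin] at hk
      obtain rfl : k = m := by omega
      obtain ⟨e2⟩ := hr.projEquiv
      obtain ⟨e3⟩ := proj_eq (gsp_eq (F := F) k).symm
      exact ⟨(e1.trans e2).trans e3⟩
    · rintro ⟨e⟩
      refine hs.resolve_left fun hsym => ?_
      obtain ⟨e3⟩ := proj_eq (gsp_eq (F := F) m)
      have heq : Nat.card (Cfsg.projQuot (SimGrp g.1)) = Nat.card (Cfsg.projQuot (SimGrp (Matrix.J (Fin m) F))) :=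
        Nat.card_congr ((e1.symm.trans e).trans e3).toEquiv
      haveI : Nonempty (Fin m ⊕ Fin m) := ⟨Sum.inl ⟨0, by omega⟩⟩
      haveI : Nonempty ((Fin (m - 1) ⊕ Fin (m - 1)) ⊕ Fin 2) := ⟨Sum.inr 0⟩
      obtain ⟨ν, hν⟩ : ∃ ν : F, ¬ IsSquare ν := FiniteField.exists_nonsquare (by
        intro hc
        exact h2 (by haveI : CharP F 2 := hc ▸ ringChar.charP F; exact CharTwo.two_eq_zero))
      have hν0 : ν ≠ 0 := fun h => hν (h ▸ ⟨0, (mul_zero 0).symm⟩)
      have hdP : (hypMat F m).det ≠ 0 := by rw [det_hypMat]; exact pow_ne_zero _ (neg_ne_zero.mpr one_ne_zero)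
      obtain ⟨gP, rP, dP, tP, -⟩ := exists_GL (hypMat F m) hdP (n := m + m) (by simp)
      by_cases hsq : IsSquare (g.1.det * (hypMat F m).det)
      · obtain ⟨e4⟩ := (((rel_symm_even h2 hsym (tP (hypMat_isSymm m).eq) (det_gl_ne g) (det_gl_ne gP) ⟨m, rfl⟩).mpr
          (dP ▸ hsq)).trans rP).projEquiv
        have := card_lt h2 (show 1 ≤ m by omega) (Cfsg.quadFormPlus m F) (hypMat F m) (hypMat_isSymm m).eq
          (fun v => by
            rw [← polar_plus]
            simp only [QuadraticMap.polar, Cfsg.quadFormPlus, Pi.add_apply, Finset.mul_sum, ← Finset.sum_sub_distrib]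
            exact Finset.sum_congr rfl fun i _ => by ring)
          (by
            rw [CfsgLib.OrthOrder.card_O_plus m (by omega)]
            exact Nat.mul_le_mul_right _ (Nat.mul_le_mul_left _ (by omega)))
        rw [Nat.card_congr e4.toEquiv] at heq
        omega
      · have hab : ∀ z₁ z₂ : F, z₁ ^ 2 + 0 * z₁ * z₂ + (-ν) * z₂ ^ 2 = 0 → z₁ = 0 ∧ z₂ = 0 := by
          intro z₁ z₂ h
          by_cases hz : z₂ = 0
          · subst hz; exact ⟨pow_eq_zero_iff two_ne_zero |>.mp (by linear_combination h), rfl⟩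
          · exact absurd ⟨z₁ / z₂, by field_simp; linear_combination -h⟩ hν
        have hdet : (ellMat (m - 1) (0 : F) (-ν)).det = (hypMat F m).det * (2 * 2 * ν) := by
          rw [det_ellMat, det_hypMat]
          obtain ⟨k, rfl⟩ : ∃ k, m = k + 1 := ⟨m - 1, by omega⟩
          rw [Nat.add_sub_cancel, pow_succ]
          ring
        have hν4 : (2 * 2 * ν : F) ≠ 0 := mul_ne_zero (mul_ne_zero h2 h2) hν0
        obtain ⟨gM, rM, dM, tM, -⟩ := exists_GL (ellMat (m - 1) (0 : F) (-ν))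
          (by rw [hdet]; exact mul_ne_zero hdP hν4) (n := m + m) (by simp; omega)
        have hsq' : IsSquare (g.1.det * gM.1.det) := by
          rw [dM, hdet, ← mul_assoc, isSquare_mul_iff (mul_ne_zero (det_gl_ne g) hdP) hν4, isSquare_sq_mul_iff h2]
          exact iff_of_false hsq hν
        obtain ⟨e4⟩ := (((rel_symm_even h2 hsym (tM (ellMat_symm _ _ _)) (det_gl_ne g) (det_gl_ne gM) ⟨m, rfl⟩).mpr
          hsq').trans rM).projEquiv
        have := card_lt h2 (show 1 ≤ m by omega) (Cfsg.quadFormMinus (m - 1) F 0 (-ν)) (ellMat (m - 1) 0 (-ν))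
          (ellMat_symm _ _ _)
          (fun v => by
            rw [← polar_minus]
            simp only [QuadraticMap.polar, Cfsg.quadFormMinus, Pi.add_apply]
            have e : (∑ i : Fin (m - 1), (v (Sum.inl (Sum.inl i)) + v (Sum.inl (Sum.inl i))) *
                (v (Sum.inl (Sum.inr i)) + v (Sum.inl (Sum.inr i)))) =
                4 * ∑ i : Fin (m - 1), v (Sum.inl (Sum.inl i)) * v (Sum.inl (Sum.inr i)) := by
              rw [Finset.mul_sum]; exact Finset.sum_congr rfl fun i _ => by ring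
            rw [e]; ring)
          (by rw [CfsgLib.OrthOrder.card_O_minus m (by omega) 0 (-ν) hab])
        rw [Nat.card_congr e4.toEquiv] at heq
        omega
  refine ⟨?_, ?_, full⟩
  · rintro ⟨he, hp, hiso⟩
    obtain ⟨m, rfl⟩ := he
    have hskew := (key ⟨m, rfl⟩ hp).mpr hiso
    rw [show (m + m) / 2 = m by omega, split_alt (m := m) (by omega) (by omega) g hskew (skew_diag (hp2 hp) hskew), hF]
  · rintro ⟨he, hp, hiso⟩
    obtain ⟨m, rfl⟩ := he
    have hsym := hs.resolve_right fun h => hiso ((key ⟨m, rfl⟩ hp).mp h)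
    rw [split_symm (hp2 hp) (m := m) (by omega) (by omega) g hsym, hF]

end Cfsg.Agent.S2702
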