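import Cfsg.Statements.S2703
import Cfsg.Agent.Lib.PSLnGraph.Classify

set_option autoImplicit false
open Cfsg CfsgLib.PSLnGraph CfsgLib.FiniteForms

namespace Cfsg.Agent.S2703

/-- Let T = PSL_n(F) over the field with q elements, q odd, n = 2m ≥ 4 even, and ι the inverse-transpose automorphism. Its centralizer in G = Inndiag(T) (the image of PGL_n(F)) is isomorphic to the projective conformal orthogonal group of the plus-type form Σ xᵢ yᵢ in dimension n when n(q − 1)/4 is even, and to that of a minus-type form (Σ xᵢ yᵢ + z₁² + a z₁ z₂ + b z₂² with anisotropic binary part) when n(q − 1)/4 is odd. -/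
theorem result {F : Type*} [Field F] [Fintype F] (hodd : Odd (Fintype.card F)) {n m : ℕ} (hm : 2 ≤ m) (hnm : n = 2 * m) (ι : MulAut (Matrix.ProjectiveSpecialLinearGroup (Fin n) F)) (hι : Cfsg.IsInverseTransposeAutPSL ι) :
    (Even (n * (Fintype.card F - 1) / 4) → Nonempty (↥(Cfsg.inndiagPSL n F ⊓ Subgroup.centralizer {ι}) ≃* Cfsg.PGO F (Cfsg.quadFormPlus m F))) ∧ (¬ Even (n * (Fintype.card F - 1) / 4) → ∃ a b : F, (∀ z₁ z₂ : F, z₁ ^ 2 + a * z₁ * z₂ + b * z₂ ^ 2 = 0 → z₁ = 0 ∧ z₂ = 0) ∧ Nonempty (↥(Cfsg.inndiagPSL n F ⊓ Subgroup.centralizer {ι}) ≃* Cfsg.PGO F (Cfsg.quadFormMinus (m - 1) F a b))) := by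
  classical
  subst hnm
  have h2 : (2 : F) ≠ 0 := two_ne_zero_of_odd rfl hodd
  have hn2 : 2 ≤ 2 * m := by omega
  have hι' : ι = γ (1 : Matrix.GeneralLinearGroup (Fin (2 * m)) F) := by
    rw [CfsgLib.PSLn.eq_graphAut_of_isInvTranspose hι, γ, map_one, one_mul]
  subst hι'
  obtain ⟨e1⟩ := centralizer_equiv hn2 (1 : Matrix.GeneralLinearGroup (Fin (2 * m)) F)
  have hdiv : 2 * m * (Fintype.card F - 1) / 4 = m * (Fintype.card F - 1) / 2 := by
    obtain ⟨t, ht⟩ := hodd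
    rw [ht, Nat.add_sub_cancel, show 2 * m * (2 * t) = 4 * (m * t) by ring, show m * (2 * t) = 2 * (m * t) by ring,
      Nat.mul_div_cancel_left _ (by norm_num), Nat.mul_div_cancel_left _ (by norm_num)]
  have hcrit : ∀ H : Matrix.GeneralLinearGroup (Fin (2 * m)) F, H.1.transpose = H.1 →
      (Rel (1 : Matrix.GeneralLinearGroup (Fin (2 * m)) F).1 H.1 ↔ IsSquare H.1.det) := by
    intro H hH
    rw [rel_symm_even h2 (by rw [Units.val_one, Matrix.transpose_one]) hH (det_gl_ne _) (det_gl_ne H) (even_two_mul m),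
      Units.val_one, Matrix.det_one, one_mul]
  rw [hdiv, ← neg_one_pow_isSquare_iff (F := F) rfl hodd m]
  refine ⟨fun hsq => ?_, fun hsq => ?_⟩
  · obtain ⟨gP, rP, dP, tP, -⟩ := exists_GL (hypMat F m)
      (by rw [det_hypMat]; exact pow_ne_zero _ (neg_ne_zero.mpr one_ne_zero)) (n := 2 * m) (by simp; omega)
    obtain ⟨e2⟩ := (((hcrit gP (tP (hypMat_isSymm m).eq)).mpr (by rw [dP, det_hypMat]; exact hsq)).trans rP).projEquiv
    obtain ⟨e3⟩ := proj_eq (plus_sim h2 m).symm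
    exact ⟨(e1.trans e2).trans e3⟩
  · obtain ⟨ν, hν⟩ : ∃ ν : F, ¬ IsSquare ν := FiniteField.exists_nonsquare (by
      intro hc
      have := (FiniteField.even_card_iff_char_two (F := F)).mp hc
      exact (Nat.not_even_iff_odd.mpr hodd) (Nat.even_iff.mpr this))
    have hab : ∀ z₁ z₂ : F, z₁ ^ 2 + 0 * z₁ * z₂ + (-ν) * z₂ ^ 2 = 0 → z₁ = 0 ∧ z₂ = 0 := by
      intro z₁ z₂ h
      by_cases hz : z₂ = 0
      · subst hz; exact ⟨pow_eq_zero_iff two_ne_zero |>.mp (by linear_combination h), rfl⟩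
      · exact absurd ⟨z₁ / z₂, by field_simp; linear_combination -h⟩ hν
    have hν0 : ν ≠ 0 := fun h => hν (h ▸ ⟨0, (mul_zero 0).symm⟩)
    have h4 : (4 : F) ≠ 0 := by rw [show (4 : F) = 2 * 2 by norm_num]; exact mul_ne_zero h2 h2
    have hdet : (ellMat (m - 1) (0 : F) (-ν)).det = (-1) ^ m * (2 * 2 * ν) := by
      rw [det_ellMat]
      obtain ⟨k, rfl⟩ : ∃ k, m = k + 1 := ⟨m - 1, by omega⟩
      rw [Nat.add_sub_cancel, pow_succ]
      ring
    have hne : (-1 : F) ^ m * (2 * 2 * ν) ≠ 0 :=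
      mul_ne_zero (pow_ne_zero _ (neg_ne_zero.mpr one_ne_zero)) (mul_ne_zero (mul_ne_zero h2 h2) hν0)
    have hsqM : IsSquare ((-1 : F) ^ m * (2 * 2 * ν)) := by
      rw [isSquare_mul_iff (pow_ne_zero _ (neg_ne_zero.mpr one_ne_zero)) (mul_ne_zero (mul_ne_zero h2 h2) hν0),
        isSquare_sq_mul_iff h2]
      exact iff_of_false hsq hν
    obtain ⟨gM, rM, dM, tM, -⟩ := exists_GL (ellMat (m - 1) (0 : F) (-ν)) (by rw [hdet]; exact hne) (n := 2 * m)
      (by simp; omega)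
    obtain ⟨e2⟩ := (((hcrit gM (tM (ellMat_symm _ _ _))).mpr (by rw [dM, hdet]; exact hsqM)).trans rM).projEquiv
    obtain ⟨e3⟩ := proj_eq (minus_sim h2 (m - 1) (0 : F) (-ν)).symm
    exact ⟨0, -ν, hab, ⟨(e1.trans e2).trans e3⟩⟩

end Cfsg.Agent.S2703
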