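import Cfsg.Statements.S2704
import Cfsg.Agent.Lib.PSLn.GraphFieldCentral
-- import your own Cfsg.Agent.* helpers here

set_option autoImplicit false
open Cfsg

namespace Cfsg.Agent.S2704

/-- Let T = PSL_n(F) over the field F with p^f elements, n ≥ 3, and G = Inndiag(T) the image of PGL_n(F). If x is an involutory graph-field automorphism of T then f is even; x is G-conjugate to every other involutory graph-field automorphism; C_G(x) is isomorphic to the projective general unitary group PGU_n(q₀) with q₀² = p^f, realised over F itself through the Hermitian form Σ uᵢ vᵢ^{q₀}; and the G-class of x is the union of exactly gcd(n, q₀ − 1) T-classes. -/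
theorem result {F : Type*} [Field F] [Fintype F] {p f : ℕ} [Fact p.Prime] (hF : Fintype.card F = p ^ f) (hf : 1 ≤ f) {n : ℕ} (hn : 3 ≤ n) (x : MulAut (Matrix.ProjectiveSpecialLinearGroup (Fin n) F)) (hx : Cfsg.IsGraphFieldAutClassPSL x) (hx2 : orderOf x = 2) :
    Even f ∧ (∀ y : MulAut (Matrix.ProjectiveSpecialLinearGroup (Fin n) F), Cfsg.IsGraphFieldAutClassPSL y → orderOf y = 2 → Cfsg.IsConjUnder (Cfsg.inndiagPSL n F) x y) ∧ Nonempty (↥(Cfsg.inndiagPSL n F ⊓ Subgroup.centralizer {x}) ≃* Cfsg.PGU n F (p ^ (f / 2))) ∧ Cfsg.splitClassCount (Cfsg.inndiagPSL n F) (Cfsg.Inn (Matrix.ProjectiveSpecialLinearGroup (Fin n) F)) x = Nat.gcd n (p ^ (f / 2) - 1) := by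
  haveI := CfsgLib.PSLn.charP_of_card hF
  have std : ∀ y : MulAut (Matrix.ProjectiveSpecialLinearGroup (Fin n) F),
      Cfsg.IsGraphFieldAutClassPSL y → orderOf y = 2 →
      ∃ (σ : RingAut F) (g : Matrix.GeneralLinearGroup (Fin n) F), orderOf σ = 2 ∧
        y = CfsgLib.PSLn.diagAut g * (CfsgLib.PSLn.fieldAut σ * CfsgLib.PSLn.graphAut) *
          (CfsgLib.PSLn.diagAut g)⁻¹ := by
    intro y hy hy2
    obtain ⟨-, σ, g, hσ, rfl⟩ := CfsgLib.PSLn.exists_std_graphField p hy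
    rw [← MulAut.conj_apply, MulEquiv.orderOf_eq] at hy2
    exact ⟨σ, g, (CfsgLib.PSLn.graphField_order p hn hσ Nat.prime_two hy2).2, rfl⟩
  obtain ⟨σ, g, hσ, rfl⟩ := std x hx hx2
  obtain ⟨hev, hq⟩ := CfsgLib.PSLn.involutory_ringAut hF σ hσ
  obtain ⟨-, hK⟩ := CfsgLib.PSLn.dvd_and_card_fixedField hF σ hσ
  have hmem : ∀ h : Matrix.GeneralLinearGroup (Fin n) F,
      CfsgLib.PSLn.diagAut h ∈ Cfsg.inndiagPSL n F := fun h => by
    rw [CfsgLib.PSLn.inndiag_eq]; exact ⟨h, rfl⟩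
  refine ⟨hev, ?_, ?_, ?_⟩
  · intro y hy hy2
    obtain ⟨σ', g', hσ', rfl⟩ := std y hy hy2
    obtain rfl : σ' = σ := RingEquiv.ext fun a =>
      ((CfsgLib.PSLn.involutory_ringAut hF σ' hσ').2 a).trans (hq a).symm
    refine ⟨CfsgLib.PSLn.diagAut (g' * g⁻¹), hmem _, ?_⟩
    rw [map_mul, map_inv]
    group
  · obtain ⟨e⟩ := CfsgLib.PSLn.centralizer_conj_equiv (Cfsg.inndiagPSL n F)
      (s := CfsgLib.PSLn.fieldAut σ * CfsgLib.PSLn.graphAut) (hmem g)
    obtain ⟨e'⟩ := CfsgLib.PSLn.centralizer_graphField_equiv (n := n) (by omega) σ hσ hq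
    exact ⟨e.trans e'⟩
  · rw [CfsgLib.PSLn.splitClassCount_conj _ _ (hmem g),
      CfsgLib.PSLn.splitCount_graphField (by omega) σ hσ, hK]

end Cfsg.Agent.S2704
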