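import Cfsg.Statements.S2706
import Cfsg.Agent.Lib.PSUGraph.Classify

set_option autoImplicit false
open Cfsg CfsgLib.PSLnGraph CfsgLib.FiniteForms

namespace Cfsg.Agent.S2706

/-- Let T = PSU_n(q) be simple with n = 2m + 1 ≥ 3 odd, realised over the field F with q² elements, and G = Inndiag(T) the image of PGU_n(q). Every involutory graph automorphism γ of T (an inner-diagonal automorphism times a standard field automorphism of even order, of order 2) has centralizer C_G(γ) isomorphic to the projective conformal orthogonal group of the form x₀² + Σ xᵢ yᵢ in dimension n over a field F₀ with q elements, and any two involutory graph automorphisms of T are G-conjugate. -/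
theorem result {F : Type*} [Field F] [Fintype F] {p f q : ℕ} [Fact p.Prime] (hq : q = p ^ f) (hf : 1 ≤ f) (hF : Fintype.card F = q ^ 2) {n : ℕ} (hn : 3 ≤ n) (hs : ¬ (n = 3 ∧ q = 2)) {m : ℕ} (hnm : n = 2 * m + 1) (F₀ : Type*) [Field F₀] [Fintype F₀] (hF₀ : Fintype.card F₀ = q) (γ γ' : MulAut (Cfsg.PSU n F q)) (hγ : Cfsg.IsGraphAutClassPSU γ) (hγ2 : orderOf γ = 2) (hγ' : Cfsg.IsGraphAutClassPSU γ') (hγ'2 : orderOf γ' = 2) :
    Nonempty (↥(Cfsg.inndiagPSU n F q ⊓ Subgroup.centralizer {γ}) ≃* Cfsg.PGO F₀ (Cfsg.quadFormOdd m F₀)) ∧ Cfsg.IsConjUnder (Cfsg.inndiagPSU n F q) γ γ' := by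
  classical
  subst hnm
  have hn0 : 0 < 2 * m + 1 := by omega
  obtain ⟨ι, hι⟩ := CfsgLib.PSUGraph.exists_emb hF F₀ hF₀
  suffices key : ∀ A : Matrix (Fin (2 * m + 1)) (Fin (2 * m + 1)) F₀, A.det ≠ 0 →
      (A.transpose = A ∨ A.transpose = -A) →
      A.transpose = A ∧ Nonempty (Cfsg.projQuot (SimGrp A) ≃* Cfsg.PGO F₀ (Cfsg.quadFormOdd m F₀)) ∧
        ∀ B : Matrix (Fin (2 * m + 1)) (Fin (2 * m + 1)) F₀, B.det ≠ 0 → B.transpose = B → Rel A B by
    obtain ⟨g, rfl⟩ := CfsgLib.PSUGraph.exists_γ hF hn hs hγ hγ2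
    obtain ⟨h, rfl⟩ := CfsgLib.PSUGraph.exists_γ hF hn hs hγ' hγ'2
    obtain ⟨A, hA, hAs, hgA⟩ := CfsgLib.PSUGraph.exists_std hF hι hn0 g ((CfsgLib.PSUGraph.orderOf_γ hF hn hs g).mp hγ2)
    obtain ⟨B, hB, hBs, hhB⟩ := CfsgLib.PSUGraph.exists_std hF hι hn0 h ((CfsgLib.PSUGraph.orderOf_γ hF hn hs h).mp hγ'2)
    obtain ⟨-, ⟨e⟩, hrel⟩ := key A hA hAs
    obtain ⟨e'⟩ := CfsgLib.PSUGraph.centralizer_equiv hF hι hn hs hA hgA
    exact ⟨⟨e'.trans e⟩,
      (CfsgLib.PSUGraph.conjUnder_iff hF hι hn hs hB hgA hhB).mpr (hrel B hB (key B hB hBs).1)⟩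
  intro A hA hAs
  by_cases h2 : (2 : F₀) = 0
  · haveI : CharP F₀ 2 := CharTwo.of_one_ne_zero_of_two_eq_zero one_ne_zero h2
    have hneg : ∀ M : Matrix (Fin (2 * m + 1)) (Fin (2 * m + 1)) F₀, -M = M := fun M =>
      Matrix.ext fun i j => CharTwo.neg_eq _
    have hsym : A.transpose = A := hAs.elim id fun h => h.trans (hneg _)
    have std : ∀ B : Matrix (Fin (2 * m + 1)) (Fin (2 * m + 1)) F₀, B.det ≠ 0 → B.transpose = B →
        Rel B (Matrix.fromBlocks (1 : Matrix Unit Unit F₀) 0 0 (Matrix.J (Fin m) F₀)) := by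
      intro B hB hBt
      have hna : ∃ i, B i i ≠ 0 := by
        by_contra hno
        push Not at hno
        obtain ⟨k, hk, -⟩ := exists_symp (G := B) (by rw [hneg]; exact hBt) hno hB
        rw [Fintype.card_fin] at hk
        omega
      rcases symm_two h2 hBt hB hna with ⟨k, u, hk, -, -⟩ | ⟨k, hk, hr⟩
      · rw [Fintype.card_fin] at hk; omega
      · rw [Fintype.card_fin] at hk
        obtain rfl : k = m := by omega
        exact hr
    refine ⟨hsym, ?_, fun B hB hBt => (std A hA hsym).trans (std B hB hBt).symm⟩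
    obtain ⟨e1⟩ := (std A hA hsym).projEquiv
    obtain ⟨e2⟩ := odd_two h2 m
    obtain ⟨e3⟩ := pgo_odd_two (F := F₀) m
    exact ⟨(e1.trans e2).trans e3.symm⟩
  · have hsym : A.transpose = A := by
      refine hAs.elim id fun h => absurd ?_ hA
      have e := congrArg Matrix.det h
      rw [Matrix.det_transpose, Matrix.det_neg, Fintype.card_fin, Odd.neg_one_pow ⟨m, rfl⟩] at e
      have e2 : 2 * A.det = 0 := by linear_combination e
      exact (mul_eq_zero.mp e2).resolve_left h2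
    refine ⟨hsym, ?_, fun B hB hBt => rel_symm_odd h2 hsym hBt hA hB ⟨m, rfl⟩⟩
    have hod : (oddMat F₀ m).det ≠ 0 := by
      rw [det_oddMat]; exact mul_ne_zero h2 (pow_ne_zero _ (neg_ne_zero.mpr one_ne_zero))
    obtain ⟨g₀, hr, -, hsym₀, -⟩ := exists_GL (oddMat F₀ m) hod (show Fintype.card (Unit ⊕ (Fin m ⊕ Fin m)) = 2 * m + 1 by
      simp; omega)
    obtain ⟨e1⟩ := ((rel_symm_odd h2 hsym (hsym₀ (oddMat_symm m)) hA (det_gl_ne g₀) ⟨m, rfl⟩).trans hr).projEquiv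
    obtain ⟨e2⟩ := proj_eq (odd_sim h2 m).symm
    exact ⟨e1.trans e2⟩

end Cfsg.Agent.S2706
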