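import Cfsg.Statements.S2707
import Cfsg.Agent.Lib.PSUGraph.Classify

set_option autoImplicit false
open Cfsg CfsgLib.PSLnGraph CfsgLib.FiniteForms

namespace Cfsg.Agent.S2707

theorem iff_cases {A B C : Prop} (h : ¬ (A ↔ B)) : (A ↔ C) ∨ (B ↔ C) := by
  by_cases A <;> by_cases C <;> simp_all

/-- Let T = PSU_n(q) with n = 2m ≥ 4 even and q odd, realised over the field F with q² elements, and G = Inndiag(T) the image of PGU_n(q). The involutory graph automorphisms of T fall into exactly three G-classes, with representatives whose centralizers in G are isomorphic respectively to the projective conformal symplectic group PGSp_n(F₀), the projective conformal orthogonal group of the plus-type form Σ xᵢ yᵢ, and that of a minus-type form Σ xᵢ yᵢ + z₁² + a z₁ z₂ + b z₂² (anisotropic binary part) in dimension n, all over a field F₀ with q elements. -/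
theorem result {F : Type*} [Field F] [Fintype F] {q : ℕ} (hodd : Odd q) (hF : Fintype.card F = q ^ 2) {n m : ℕ} (hm : 2 ≤ m) (hnm : n = 2 * m) (F₀ : Type*) [Field F₀] [Fintype F₀] (hF₀ : Fintype.card F₀ = q) :
    ∃ (γ₁ γ₂ γ₃ : MulAut (Cfsg.PSU n F q)) (a b : F₀), (∀ z₁ z₂ : F₀, z₁ ^ 2 + a * z₁ * z₂ + b * z₂ ^ 2 = 0 → z₁ = 0 ∧ z₂ = 0) ∧ Cfsg.IsGraphAutClassPSU γ₁ ∧ orderOf γ₁ = 2 ∧ Cfsg.IsGraphAutClassPSU γ₂ ∧ orderOf γ₂ = 2 ∧ Cfsg.IsGraphAutClassPSU γ₃ ∧ orderOf γ₃ = 2 ∧ ¬ Cfsg.IsConjUnder (Cfsg.inndiagPSU n F q) γ₁ γ₂ ∧ ¬ Cfsg.IsConjUnder (Cfsg.inndiagPSU n F q) γ₁ γ₃ ∧ ¬ Cfsg.IsConjUnder (Cfsg.inndiagPSU n F q) γ₂ γ₃ ∧ (∀ γ : MulAut (Cfsg.PSU n F q), Cfsg.IsGraphAutClassPSU γ → orderOf γ = 2 → Cfsg.IsConjUnder (Cfsg.inndiagPSU n F q) γ₁ γ ∨ Cfsg.IsConjUnder (Cfsg.inndiagPSU n F q) γ₂ γ ∨ Cfsg.IsConjUnder (Cfsg.inndiagPSU n F q) γ₃ γ) ∧ Nonempty (↥(Cfsg.inndiagPSU n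 F q ⊓ Subgroup.centralizer {γ₁}) ≃* Cfsg.PGSp m F₀) ∧ Nonempty (↥(Cfsg.inndiagPSU n F q ⊓ Subgroup.centralizer {γ₂}) ≃* Cfsg.PGO F₀ (Cfsg.quadFormPlus m F₀)) ∧ Nonempty (↥(Cfsg.inndiagPSU n F q ⊓ Subgroup.centralizer {γ₃}) ≃* Cfsg.PGO F₀ (Cfsg.quadFormMinus (m - 1) F₀ a b)) := by
  classical
  subst hnm
  have h32 : ¬ (2 * m = 3 ∧ q = 2) := by omega
  obtain ⟨ι, hι⟩ := CfsgLib.PSUGraph.exists_emb hF F₀ hF₀
  have h2 : (2 : F₀) ≠ 0 := two_ne_zero_of_odd hF₀ hodd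
  have hn3 : 3 ≤ 2 * m := by omega
  have hn0 : 0 < 2 * m := by omega
  obtain ⟨ν, hν⟩ : ∃ ν : F₀, ¬ IsSquare ν := FiniteField.exists_nonsquare (by
    intro hc
    have := (FiniteField.even_card_iff_char_two (F := F₀)).mp hc
    rw [← hF₀] at hodd
    exact (Nat.not_even_iff_odd.mpr hodd) (Nat.even_iff.mpr this))
  have hab : ∀ z₁ z₂ : F₀, z₁ ^ 2 + 0 * z₁ * z₂ + (-ν) * z₂ ^ 2 = 0 → z₁ = 0 ∧ z₂ = 0 := by
    intro z₁ z₂ h
    by_cases hz : z₂ = 0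
    · subst hz; exact ⟨pow_eq_zero_iff two_ne_zero |>.mp (by linear_combination h), rfl⟩
    · exact absurd ⟨z₁ / z₂, by field_simp; linear_combination -h⟩ hν
  obtain ⟨gJ, rJ, -, -, tJ⟩ := exists_GL (Matrix.J (Fin m) F₀) (det_J_ne m) (n := 2 * m) (by simp; omega)
  obtain ⟨gP, rP, dP, tP, -⟩ := exists_GL (hypMat F₀ m)
    (by rw [det_hypMat]; exact pow_ne_zero _ (neg_ne_zero.mpr one_ne_zero)) (n := 2 * m) (by simp; omega)
  have hdE : (ellMat (m - 1) (0 : F₀) (-ν)).det ≠ 0 := by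
    rw [det_ellMat]
    refine mul_ne_zero (pow_ne_zero _ (neg_ne_zero.mpr one_ne_zero)) fun h => hν ⟨0, ?_⟩
    have e : 4 * ν = 0 := by linear_combination -h
    have h4 : (4 : F₀) ≠ 0 := by rw [show (4 : F₀) = 2 * 2 by norm_num]; exact mul_ne_zero h2 h2
    rw [(mul_eq_zero.mp e).resolve_left h4, mul_zero]
  obtain ⟨gM, rM, dM, tM, -⟩ := exists_GL (ellMat (m - 1) (0 : F₀) (-ν)) hdE (n := 2 * m) (by simp; omega)
  have sJ : gJ.1.transpose = -gJ.1 := tJ (J_skew m)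
  have sP : gP.1.transpose = gP.1 := tP (hypMat_isSymm m).eq
  have sM : gM.1.transpose = gM.1 := tM (ellMat_symm _ _ _)
  have hmix : ∀ g : Matrix.GeneralLinearGroup (Fin (2 * m)) F₀, g.1.transpose = g.1 → ¬ Rel gJ.1 g.1 := by
    intro g hg h
    have := h.transpose_eq (ε := (-1 : F₀)) (by rw [neg_one_smul]; exact sJ)
    rw [neg_one_smul, hg] at this
    apply det_gl_ne g
    have hz : g.1 = 0 := Matrix.ext fun i j => by
      have e := congrFun (congrFun this i) j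
      rw [Matrix.neg_apply] at e
      have e2 : 2 * g.1 i j = 0 := by linear_combination e
      exact (mul_eq_zero.mp e2).resolve_left h2
    haveI : Nonempty (Fin (2 * m)) := ⟨⟨0, by omega⟩⟩
    rw [hz, Matrix.det_zero]
  have hPM : ¬ IsSquare (gP.1.det * gM.1.det) := by
    rw [dP, dM, det_hypMat, det_ellMat]
    intro h
    apply not_isSquare_of_anisotropic h2 hab
    have e : (-1 : F₀) ^ m * ((-1) ^ (m - 1) * (4 * -ν - 0 * 0)) = 0 * 0 - 4 * -ν := by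
      obtain ⟨k, rfl⟩ : ∃ k, m = k + 1 := ⟨m - 1, by omega⟩
      rw [Nat.add_sub_cancel, pow_succ, ← mul_assoc, show (-1 : F₀) ^ k * -1 * (-1) ^ k = -1 by
        rw [mul_right_comm, ← mul_pow, neg_one_mul, neg_neg, one_pow, one_mul]]
      ring
    rwa [e] at h
  obtain ⟨uJ, oJ, stJ⟩ := CfsgLib.PSUGraph.exists_of_form hF hι gJ.1 (det_gl_ne gJ) (Or.inr sJ) (Fintype.card_fin _)
  obtain ⟨uP, oP, stP⟩ := CfsgLib.PSUGraph.exists_of_form hF hι gP.1 (det_gl_ne gP) (Or.inl sP) (Fintype.card_fin _)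
  obtain ⟨uM, oM, stM⟩ := CfsgLib.PSUGraph.exists_of_form hF hι gM.1 (det_gl_ne gM) (Or.inl sM) (Fintype.card_fin _)
  refine ⟨CfsgLib.PSUGraph.γ hF uJ, CfsgLib.PSUGraph.γ hF uP, CfsgLib.PSUGraph.γ hF uM, 0, -ν, hab,
    CfsgLib.PSUGraph.graphClass_γ hF hn3 uJ, (CfsgLib.PSUGraph.orderOf_γ hF hn3 h32 uJ).mpr oJ,
    CfsgLib.PSUGraph.graphClass_γ hF hn3 uP, (CfsgLib.PSUGraph.orderOf_γ hF hn3 h32 uP).mpr oP,
    CfsgLib.PSUGraph.graphClass_γ hF hn3 uM, (CfsgLib.PSUGraph.orderOf_γ hF hn3 h32 uM).mpr oM,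
    ?_, ?_, ?_, ?_, ?_, ?_, ?_⟩
  · rw [CfsgLib.PSUGraph.conjUnder_iff hF hι hn3 h32 (det_gl_ne gP) stJ stP]; exact hmix gP sP
  · rw [CfsgLib.PSUGraph.conjUnder_iff hF hι hn3 h32 (det_gl_ne gM) stJ stM]; exact hmix gM sM
  · rw [CfsgLib.PSUGraph.conjUnder_iff hF hι hn3 h32 (det_gl_ne gM) stP stM, rel_symm_even h2 sP sM
      (det_gl_ne gP) (det_gl_ne gM) (even_two_mul m)]
    exact hPM
  · intro x hx hx2
    obtain ⟨u, rfl⟩ := CfsgLib.PSUGraph.exists_γ hF hn3 h32 hx hx2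
    obtain ⟨A, hA, hAs, stA⟩ := CfsgLib.PSUGraph.exists_std hF hι hn0 u ((CfsgLib.PSUGraph.orderOf_γ hF hn3 h32 u).mp hx2)
    rw [CfsgLib.PSUGraph.conjUnder_iff hF hι hn3 h32 hA stJ stA, CfsgLib.PSUGraph.conjUnder_iff hF hι hn3 h32 hA stP stA,
      CfsgLib.PSUGraph.conjUnder_iff hF hι hn3 h32 hA stM stA]
    rcases hAs with hs | hs
    · right
      rw [rel_symm_even h2 sP hs (det_gl_ne gP) hA (even_two_mul m),
        rel_symm_even h2 sM hs (det_gl_ne gM) hA (even_two_mul m),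
        isSquare_mul_iff (det_gl_ne gP) hA, isSquare_mul_iff (det_gl_ne gM) hA]
      rw [isSquare_mul_iff (det_gl_ne gP) (det_gl_ne gM)] at hPM
      exact iff_cases hPM
    · left
      obtain ⟨k, hk, hr⟩ := exists_symp hs (skew_diag h2 hs) hA
      rw [Fintype.card_fin] at hk
      obtain rfl : k = m := by omega
      exact rJ.trans hr.symm
  · obtain ⟨e1⟩ := CfsgLib.PSUGraph.centralizer_equiv hF hι hn3 h32 (det_gl_ne gJ) stJ
    obtain ⟨e2⟩ := rJ.projEquiv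
    obtain ⟨e3⟩ := proj_eq (gsp_eq (F := F₀) m).symm
    exact ⟨(e1.trans e2).trans e3⟩
  · obtain ⟨e1⟩ := CfsgLib.PSUGraph.centralizer_equiv hF hι hn3 h32 (det_gl_ne gP) stP
    obtain ⟨e2⟩ := rP.projEquiv
    obtain ⟨e3⟩ := proj_eq (plus_sim h2 m).symm
    exact ⟨(e1.trans e2).trans e3⟩
  · obtain ⟨e1⟩ := CfsgLib.PSUGraph.centralizer_equiv hF hι hn3 h32 (det_gl_ne gM) stM
    obtain ⟨e2⟩ := rM.projEquiv
    obtain ⟨e3⟩ := proj_eq (minus_sim h2 (m - 1) (0 : F₀) (-ν)).symm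
    exact ⟨(e1.trans e2).trans e3⟩

end Cfsg.Agent.S2707
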