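import Cfsg.Statements.S2708
import Cfsg.Agent.Lib.PSUGraph.Classify

set_option autoImplicit false
open Cfsg CfsgLib.PSLnGraph CfsgLib.FiniteForms Matrix

namespace Cfsg.Agent.S2708

/-- Let T = PSU_n(q) with n = 2m ≥ 4 even and q even, realised over the field F (of characteristic 2) with q² elements, and G = Inndiag(T) the image of PGU_n(q). The involutory graph automorphisms of T fall into exactly two G-classes, with representatives whose centralizers in G are isomorphic respectively to the symplectic group Sp_n(F₀) and to the centralizer in Sp_n(F₀) of a symplectic transvection, F₀ a field with q elements. -/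
theorem result {F : Type*} [Field F] [Fintype F] [CharP F 2] {q : ℕ} (hF : Fintype.card F = q ^ 2) {n m : ℕ} (hm : 2 ≤ m) (hnm : n = 2 * m) (F₀ : Type*) [Field F₀] [Fintype F₀] (hF₀ : Fintype.card F₀ = q) :
    ∃ (γ₁ γ₃ : MulAut (Cfsg.PSU n F q)) (t : ↥(Matrix.symplecticGroup (Fin m) F₀)), Cfsg.IsTransvection (t : Matrix (Fin m ⊕ Fin m) (Fin m ⊕ Fin m) F₀) ∧ Cfsg.IsGraphAutClassPSU γ₁ ∧ orderOf γ₁ = 2 ∧ Cfsg.IsGraphAutClassPSU γ₃ ∧ orderOf γ₃ = 2 ∧ ¬ Cfsg.IsConjUnder (Cfsg.inndiagPSU n F q) γ₁ γ₃ ∧ (∀ γ : MulAut (Cfsg.PSU n F q), Cfsg.IsGraphAutClassPSU γ → orderOf γ = 2 → Cfsg.IsConjUnder (Cfsg.inndiagPSU n F q) γ₁ γ ∨ Cfsg.IsConjUnder (Cfsg.inndiagPSU n F q) γ₃ γ) ∧ Nonempty (↥(Cfsg.inndiagPSU n F q ⊓ Subgroup.centralizer {γ₁}) ≃* ↥(Matrix.symplecticGroup (Fin m) F₀)) ∧ Nonempty (↥(Cfsg.inndiagPSU n F q ⊓ Subgroup.centralizer {γ₃}) ≃* ↥(Subgroup.centralizer ({t} : Set ↥(Matrix.symplecticGroup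 (Fin m) F₀)))) := by
  classical
  subst hnm
  have h32 : ¬ (2 * m = 3 ∧ q = 2) := by omega
  obtain ⟨ι, hι⟩ := CfsgLib.PSUGraph.exists_emb hF F₀ hF₀
  haveI : CharP F₀ 2 := (RingHom.charP_iff ι ι.injective 2).mpr inferInstance
  have h2 : (2 : F₀) = 0 := CharTwo.two_eq_zero
  have hn3 : 3 ≤ 2 * m := by omega
  have hn0 : 0 < 2 * m := by omega
  have hneg : ∀ {κ : Type} (M : Matrix κ κ F₀), -M = M := fun M => Matrix.ext fun i j => CharTwo.neg_eq _
  let v : Fin m ⊕ Fin m → F₀ := Pi.single (Sum.inl ⟨0, by omega⟩) 1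
  have hv : v ≠ 0 := fun h => (one_ne_zero : (1 : F₀) ≠ 0) (by simpa [v] using congrFun h (Sum.inl ⟨0, by omega⟩))
  set u := Matrix.J (Fin m) F₀ *ᵥ v with hu
  have hu0 : u ≠ 0 := CfsgLib.SympTransvection.J_mulVec_ne_zero hv
  have hJ2s : (J₂ m u).transpose = J₂ m u := by
    rw [J₂, Matrix.transpose_add, Matrix.transpose_vecMulVec, J_skew, hneg]
  have hJ2d : (J₂ m u).det ≠ 0 := by
    have hJv : Matrix.J (Fin m) F₀ *ᵥ u = v := by
      rw [hu, Matrix.mulVec_mulVec, Matrix.J_squared, Matrix.neg_mulVec, Matrix.one_mulVec]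
      exact funext fun i => CharTwo.neg_eq _
    have e : J₂ m u = Matrix.J (Fin m) F₀ * (1 + Matrix.vecMulVec v u) := by
      rw [J₂, Matrix.mul_add, Matrix.mul_one, Matrix.mul_vecMulVec, ← hu]
    rw [e, Matrix.det_mul, Matrix.vecMulVec_eq Unit, Matrix.det_one_add_replicateCol_mul_replicateRow,
      dotProduct_comm, hu, CfsgLib.SympTransvection.dot_J_self, add_zero, mul_one]
    exact det_J_ne m
  obtain ⟨gJ, rJ, -, -, tJ⟩ := exists_GL (Matrix.J (Fin m) F₀) (det_J_ne m) (n := 2 * m) (by simp; omega)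
  obtain ⟨g₃, r₃, -, t₃, -⟩ := exists_GL (J₂ m u) hJ2d (n := 2 * m) (by simp; omega)
  have sJ : gJ.1.transpose = -gJ.1 := tJ (J_skew m)
  have s₃ : g₃.1.transpose = g₃.1 := t₃ hJ2s
  have dJ : ∀ i, gJ.1 i i = 0 := fun i => rJ.symm.diag_eq (J_skew m) J_diag i
  obtain ⟨uJ, oJ, stJ⟩ := CfsgLib.PSUGraph.exists_of_form hF hι gJ.1 (det_gl_ne gJ) (Or.inr sJ) (Fintype.card_fin _)
  obtain ⟨u₃, o₃, st₃⟩ := CfsgLib.PSUGraph.exists_of_form hF hι g₃.1 (det_gl_ne g₃) (Or.inl s₃) (Fintype.card_fin _)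
  refine ⟨CfsgLib.PSUGraph.γ hF uJ, CfsgLib.PSUGraph.γ hF u₃, CfsgLib.SympTransvection.tv v 1, tv_isTransvection v hv,
    CfsgLib.PSUGraph.graphClass_γ hF hn3 uJ, (CfsgLib.PSUGraph.orderOf_γ hF hn3 h32 uJ).mpr oJ,
    CfsgLib.PSUGraph.graphClass_γ hF hn3 u₃, (CfsgLib.PSUGraph.orderOf_γ hF hn3 h32 u₃).mpr o₃, ?_, ?_, ?_, ?_⟩
  · rw [CfsgLib.PSUGraph.conjUnder_iff hF hι hn3 h32 (det_gl_ne g₃) stJ st₃]
    intro h
    apply hu0
    funext i
    have := (h.trans r₃).diag_eq sJ dJ i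
    simp only [J₂, Matrix.add_apply, J_diag, zero_add, Matrix.vecMulVec_apply] at this
    exact mul_self_eq_zero.mp this
  · intro x hx hx2
    obtain ⟨z, rfl⟩ := CfsgLib.PSUGraph.exists_γ hF hn3 h32 hx hx2
    obtain ⟨A, hA, hAs, stA⟩ := CfsgLib.PSUGraph.exists_std hF hι hn0 z ((CfsgLib.PSUGraph.orderOf_γ hF hn3 h32 z).mp hx2)
    rw [CfsgLib.PSUGraph.conjUnder_iff hF hι hn3 h32 hA stJ stA, CfsgLib.PSUGraph.conjUnder_iff hF hι hn3 h32 hA st₃ stA]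
    have hs : A.transpose = A := hAs.elim id fun h => h.trans (hneg _)
    by_cases hd : ∀ i, A i i = 0
    · left
      obtain ⟨k, hk, hr⟩ := exists_symp (G := A) (by rw [hneg]; exact hs) hd hA
      rw [Fintype.card_fin] at hk
      obtain rfl : k = m := by omega
      exact rJ.trans hr.symm
    · right
      push Not at hd
      rcases symm_two h2 hs hA hd with ⟨k, w, hk, hw, hr⟩ | ⟨k, hk, -⟩
      · rw [Fintype.card_fin] at hk
        obtain rfl : k = m := by omega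
        exact r₃.trans ((J₂_rel hu0 hw).trans hr.symm)
      · rw [Fintype.card_fin] at hk; omega
  · obtain ⟨e1⟩ := CfsgLib.PSUGraph.centralizer_equiv hF hι hn3 h32 (det_gl_ne gJ) stJ
    obtain ⟨e2⟩ := rJ.projEquiv
    obtain ⟨e3⟩ := pgsp_two (F := F₀) h2 (show 1 ≤ m by omega)
    exact ⟨(e1.trans e2).trans e3⟩
  · obtain ⟨e1⟩ := CfsgLib.PSUGraph.centralizer_equiv hF hι hn3 h32 (det_gl_ne g₃) st₃
    obtain ⟨e2⟩ := r₃.projEquiv
    obtain ⟨e3⟩ := centralizer_two h2 v hv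
    exact ⟨(e1.trans e2).trans e3⟩

end Cfsg.Agent.S2708
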