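import Cfsg.Statements.S2709
import Cfsg.Agent.Lib.PSUGraph.Split
import Cfsg.Agent.Lib.PSLn.FieldCentral

set_option autoImplicit false
open Cfsg CfsgLib.PSLnGraph CfsgLib.FiniteForms

namespace Cfsg.Agent.S2709

/-- Let T = PSU_n(q) be simple (n ≥ 3, (n,q) ≠ (3,2), q = p^f), realised over the field F with q² elements, G = Inndiag(T) the image of PGU_n(q), and γ an involutory graph automorphism of T. The G-class of γ is the union of exactly c T-classes, where: if n is even and q is odd, c = gcd(n/2, q + 1) when C_G(γ) is isomorphic to PGSp_n(F₀) for a field F₀ with q elements (symplectic type) and c = gcd(n, q + 1)/2 otherwise; and c = gcd(n, q + 1) when n is odd or q is even. -/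
theorem result {F : Type*} [Field F] [Fintype F] {p f q : ℕ} [Fact p.Prime] (hq : q = p ^ f) (hf : 1 ≤ f) (hF : Fintype.card F = q ^ 2) {n : ℕ} (hn : 3 ≤ n) (hs : ¬ (n = 3 ∧ q = 2)) (F₀ : Type*) [Field F₀] [Fintype F₀] (hF₀ : Fintype.card F₀ = q) (γ : MulAut (Cfsg.PSU n F q)) (hγ : Cfsg.IsGraphAutClassPSU γ) (hγ2 : orderOf γ = 2) :
    ((Even n ∧ Odd q ∧ Nonempty (↥(Cfsg.inndiagPSU n F q ⊓ Subgroup.centralizer {γ}) ≃* Cfsg.PGSp (n / 2) F₀)) → Cfsg.splitClassCount (Cfsg.inndiagPSU n F q) (Cfsg.Inn (Cfsg.PSU n F q)) γ = Nat.gcd (n / 2) (q + 1)) ∧ ((Even n ∧ Odd q ∧ ¬ Nonempty (↥(Cfsg.inndiagPSU n F q ⊓ Subgroup.centralizer {γ}) ≃* Cfsg.PGSp (n / 2) F₀)) → Cfsg.splitClassCount (Cfsg.inndiagPSU n F q) (Cfsg.Inn (Cfsg.PSU n F q)) γ = Nat.gcd n (q + 1) / 2) ∧ (¬ (Even n ∧ Odd q) → Cfsg.splitClassCount (Cfsg.inndiagPSU n F q) (Cfsg.Inn (Cfsg.PSU n F q)) γ = Nat.gcd n (q + 1)) := by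
  classical
  subst hq
  haveI : CharP F p := CfsgLib.PSLn.charP_of_card (f := f * 2) (by rw [hF, ← pow_mul])
  obtain ⟨ι, hι⟩ := CfsgLib.PSUGraph.exists_emb hF F₀ hF₀
  obtain ⟨g, rfl⟩ := CfsgLib.PSUGraph.exists_γ hF hn hs hγ hγ2
  obtain ⟨A, hA, hAs, hgA⟩ :=
    CfsgLib.PSUGraph.exists_std hF hι (by omega) g ((CfsgLib.PSUGraph.orderOf_γ hF hn hs g).mp hγ2)
  have hp2 : Odd (p ^ f) → (2 : F₀) ≠ 0 := fun hp => two_ne_zero_of_odd hF₀ hp
  have full : ¬ (Even n ∧ Odd (p ^ f)) →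
      Cfsg.splitClassCount (Cfsg.inndiagPSU n F (p ^ f)) (Cfsg.Inn (Cfsg.PSU n F (p ^ f)))
        (CfsgLib.PSUGraph.γ hF g) = Nat.gcd n (p ^ f + 1) := by
    intro h
    apply CfsgLib.PSUGraph.split_full hF hι hn hs g hA hgA
    rcases Nat.even_or_odd n with he | ho
    · right
      have hp : p = 2 := (Fact.out : p.Prime).eq_two_or_odd'.resolve_right fun hp => h ⟨he, hp.pow⟩
      subst hp
      exact CharTwo.two_eq_zero
    · exact Or.inl ho
  have key : Even n → Odd (p ^ f) →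
      (A.transpose = -A ↔ Nonempty (↥(Cfsg.inndiagPSU n F (p ^ f) ⊓ Subgroup.centralizer {CfsgLib.PSUGraph.γ hF g}) ≃*
        Cfsg.PGSp (n / 2) F₀)) := by
    intro he hp
    obtain ⟨m, rfl⟩ := he
    have h2 := hp2 hp
    rw [show (m + m) / 2 = m by omega]
    obtain ⟨e1⟩ := CfsgLib.PSUGraph.centralizer_equiv hF hι hn hs hA hgA
    constructor
    · intro hskew
      obtain ⟨k, hk, hr⟩ := exists_symp hskew (skew_diag h2 hskew) hA
      rw [Fintype.card_fin] at hk
      obtain rfl : k = m := by omega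
      obtain ⟨e2⟩ := hr.projEquiv
      obtain ⟨e3⟩ := proj_eq (gsp_eq (F := F₀) k).symm
      exact ⟨(e1.trans e2).trans e3⟩
    · rintro ⟨e⟩
      refine hAs.resolve_left fun hsym => ?_
      obtain ⟨e3⟩ := proj_eq (gsp_eq (F := F₀) m)
      have heq : Nat.card (Cfsg.projQuot (SimGrp A)) = Nat.card (Cfsg.projQuot (SimGrp (Matrix.J (Fin m) F₀))) :=
        Nat.card_congr ((e1.symm.trans e).trans e3).toEquiv
      haveI : Nonempty (Fin m ⊕ Fin m) := ⟨Sum.inl ⟨0, by omega⟩⟩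
      haveI : Nonempty ((Fin (m - 1) ⊕ Fin (m - 1)) ⊕ Fin 2) := ⟨Sum.inr 0⟩
      obtain ⟨ν, hν⟩ : ∃ ν : F₀, ¬ IsSquare ν := FiniteField.exists_nonsquare (by
        intro hc
        exact h2 (by haveI : CharP F₀ 2 := hc ▸ ringChar.charP F₀; exact CharTwo.two_eq_zero))
      have hν0 : ν ≠ 0 := fun h => hν (h ▸ ⟨0, (mul_zero 0).symm⟩)
      have hdP : (hypMat F₀ m).det ≠ 0 := by rw [det_hypMat]; exact pow_ne_zero _ (neg_ne_zero.mpr one_ne_zero)
      obtain ⟨gP, rP, dP, tP, -⟩ := exists_GL (hypMat F₀ m) hdP (n := m + m) (by simp)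
      by_cases hsq : IsSquare (A.det * (hypMat F₀ m).det)
      · obtain ⟨e4⟩ := (((rel_symm_even h2 hsym (tP (hypMat_isSymm m).eq) hA (det_gl_ne gP) ⟨m, rfl⟩).mpr
          (dP ▸ hsq)).trans rP).projEquiv
        have := card_lt h2 (show 1 ≤ m by omega) (Cfsg.quadFormPlus m F₀) (hypMat F₀ m) (hypMat_isSymm m).eq
          (fun v => by
            rw [← polar_plus]
            simp only [QuadraticMap.polar, Cfsg.quadFormPlus, Pi.add_apply, Finset.mul_sum, ← Finset.sum_sub_distrib]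
            exact Finset.sum_congr rfl fun i _ => by ring)
          (by
            rw [CfsgLib.OrthOrder.card_O_plus m (by omega)]
            exact Nat.mul_le_mul_right _ (Nat.mul_le_mul_left _ (by omega)))
        rw [Nat.card_congr e4.toEquiv] at heq
        omega
      · have hab : ∀ z₁ z₂ : F₀, z₁ ^ 2 + 0 * z₁ * z₂ + (-ν) * z₂ ^ 2 = 0 → z₁ = 0 ∧ z₂ = 0 := by
          intro z₁ z₂ h
          by_cases hz : z₂ = 0
          · subst hz; exact ⟨pow_eq_zero_iff two_ne_zero |>.mp (by linear_combination h), rfl⟩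
          · exact absurd ⟨z₁ / z₂, by field_simp; linear_combination -h⟩ hν
        have hdet : (ellMat (m - 1) (0 : F₀) (-ν)).det = (hypMat F₀ m).det * (2 * 2 * ν) := by
          rw [det_ellMat, det_hypMat]
          obtain ⟨k, rfl⟩ : ∃ k, m = k + 1 := ⟨m - 1, by omega⟩
          rw [Nat.add_sub_cancel, pow_succ]
          ring
        have hν4 : (2 * 2 * ν : F₀) ≠ 0 := mul_ne_zero (mul_ne_zero h2 h2) hν0
        obtain ⟨gM, rM, dM, tM, -⟩ := exists_GL (ellMat (m - 1) (0 : F₀) (-ν))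
          (by rw [hdet]; exact mul_ne_zero hdP hν4) (n := m + m) (by simp; omega)
        have hsq' : IsSquare (A.det * gM.1.det) := by
          rw [dM, hdet, ← mul_assoc, isSquare_mul_iff (mul_ne_zero hA hdP) hν4, isSquare_sq_mul_iff h2]
          exact iff_of_false hsq hν
        obtain ⟨e4⟩ := (((rel_symm_even h2 hsym (tM (ellMat_symm _ _ _)) hA (det_gl_ne gM) ⟨m, rfl⟩).mpr
          hsq').trans rM).projEquiv
        have := card_lt h2 (show 1 ≤ m by omega) (Cfsg.quadFormMinus (m - 1) F₀ 0 (-ν)) (ellMat (m - 1) 0 (-ν))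
          (ellMat_symm _ _ _)
          (fun v => by
            rw [← polar_minus]
            simp only [QuadraticMap.polar, Cfsg.quadFormMinus, Pi.add_apply]
            have e : (∑ i : Fin (m - 1), (v (Sum.inl (Sum.inl i)) + v (Sum.inl (Sum.inl i))) *
                (v (Sum.inl (Sum.inr i)) + v (Sum.inl (Sum.inr i)))) =
                4 * ∑ i : Fin (m - 1), v (Sum.inl (Sum.inl i)) * v (Sum.inl (Sum.inr i)) := by
              rw [Finset.mul_sum]; exact Finset.sum_congr rfl fun i _ => by ring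
            rw [e]; ring)
          (by rw [CfsgLib.OrthOrder.card_O_minus m (by omega) 0 (-ν) hab])
        rw [Nat.card_congr e4.toEquiv] at heq
        omega
  refine ⟨?_, ?_, full⟩
  · rintro ⟨he, hp, hiso⟩
    obtain ⟨m, rfl⟩ := he
    have hskew := (key ⟨m, rfl⟩ hp).mpr hiso
    obtain ⟨k, hk, hr⟩ := exists_symp hskew (skew_diag (hp2 hp) hskew) hA
    rw [Fintype.card_fin] at hk
    obtain rfl : k = m := by omega
    rw [show (k + k) / 2 = k by omega, CfsgLib.PSUGraph.split_alt hF hι hn hs (m := k) (by omega) g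
      (CfsgLib.PSUGraph.Std.rel hF hι hgA hr)]
  · rintro ⟨he, hp, hiso⟩
    obtain ⟨m, rfl⟩ := he
    have hsym := hAs.resolve_right fun h => hiso ((key ⟨m, rfl⟩ hp).mp h)
    rw [CfsgLib.PSUGraph.split_symm hF hι hn hs (hp2 hp) hp (m := m) (by omega) g hA hsym hgA]

end Cfsg.Agent.S2709
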