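import Cfsg.Statements.S2710
import Cfsg.Agent.Lib.PSUGraph.Classify

set_option autoImplicit false
open Cfsg CfsgLib.PSLnGraph CfsgLib.FiniteForms

namespace Cfsg.Agent.S2710

/-- Let T = PSU_n(q) with n ≥ 4 divisible by 4 (n = 2m) and q odd, realised over the field F with q² elements, G = Inndiag(T) the image of PGU_n(q), and φ the standard field automorphism of T attached to the q-th power map of F (it induces inverse-transpose on the unitary matrices and is a graph automorphism). Its centralizer in G is isomorphic to the projective conformal orthogonal group of the plus-type form Σ xᵢ yᵢ in dimension n over a field F₀ with q elements. (Dimensions n ≡ 2 (mod 4) are not covered.) -/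
theorem result {F : Type*} [Field F] [Fintype F] {q : ℕ} (hodd : Odd q) (hF : Fintype.card F = q ^ 2) {n m : ℕ} (hm : 2 ≤ m) (hnm : n = 2 * m) (h4 : 4 ∣ n) (F₀ : Type*) [Field F₀] [Fintype F₀] (hF₀ : Fintype.card F₀ = q) (σ : F ≃+* F) (hσ : ∀ a : F, σ a = a ^ q) (φ : MulAut (Cfsg.PSU n F q)) (hφ : Cfsg.IsFieldAutPSUOf σ φ) :
    Nonempty (↥(Cfsg.inndiagPSU n F q ⊓ Subgroup.centralizer {φ}) ≃* Cfsg.PGO F₀ (Cfsg.quadFormPlus m F₀)) := by
  classical
  subst hnm
  have hn3 : 3 ≤ 2 * m := by omega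
  have h32 : ¬ (2 * m = 3 ∧ q = 2) := by omega
  have h2 : (2 : F₀) ≠ 0 := two_ne_zero_of_odd hF₀ hodd
  obtain ⟨ι, hι⟩ := CfsgLib.PSUGraph.exists_emb hF F₀ hF₀
  have hσe : σ = CfsgLib.PSUGraph.fr hF :=
    RingEquiv.ext fun a => (hσ a).trans (CfsgLib.PSUGraph.fr_apply hF a).symm
  have hφe : φ = CfsgLib.PSUGraph.γ hF (1 : ↥(CfsgLib.PSUGraph.GS hF (2 * m))) := by
    rw [CfsgLib.PSUGraph.γ, map_one, one_mul, CfsgLib.PSUGraph.field_eq hF hφ, hσe]
  subst hφe
  have hstd : CfsgLib.PSUGraph.Std hF ι (1 : ↥(CfsgLib.PSUGraph.GS hF (2 * m))).1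
      (1 : Matrix (Fin (2 * m)) (Fin (2 * m)) F₀) := by
    refine ⟨1, 1, 1, 1, one_mul 1, one_mul 1, ?_, ?_⟩
    · simp [Matrix.map_one]
    · simp [Matrix.map_one]
  obtain ⟨gP, rP, dP, tP, -⟩ := exists_GL (hypMat F₀ m)
    (by rw [det_hypMat]; exact pow_ne_zero _ (neg_ne_zero.mpr one_ne_zero)) (n := 2 * m) (by simp; omega)
  have hsq : IsSquare ((1 : Matrix (Fin (2 * m)) (Fin (2 * m)) F₀).det * gP.1.det) := by
    rw [Matrix.det_one, one_mul, dP, det_hypMat, Even.neg_one_pow (by rw [Nat.even_iff]; omega)]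
    exact IsSquare.one
  obtain ⟨e1⟩ := CfsgLib.PSUGraph.centralizer_equiv hF hι hn3 h32
    (show (1 : Matrix (Fin (2 * m)) (Fin (2 * m)) F₀).det ≠ 0 by simp) hstd
  obtain ⟨e2⟩ := (((rel_symm_even h2 Matrix.transpose_one (tP (hypMat_isSymm m).eq) (by simp) (det_gl_ne gP)
    (even_two_mul m)).mpr hsq).trans rP).projEquiv
  obtain ⟨e3⟩ := proj_eq (plus_sim h2 m).symm
  exact ⟨(e1.trans e2).trans e3⟩

end Cfsg.Agent.S2710
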