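import Cfsg.Statements.S2711
import Cfsg.Agent.Lib.PolarAut.PSUField

set_option autoImplicit false
open Cfsg

namespace Cfsg.Agent.S2711

/-- Let T = PSU_n(q) be simple (n ≥ 3, (n,q) ≠ (3,2)), realised over the field F with q² elements, and let x be a field automorphism of T (conjugate to a standard field automorphism of odd order) of prime order r. Then an element y of the coset Inndiag(T)·x (y = δ x with δ in the image of PGU_n(q)) has order r if and only if y is conjugate to x by an element of Inndiag(T). (T has no graph-field automorphisms.) -/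
theorem result {F : Type*} [Field F] [Fintype F] {p f q : ℕ} [Fact p.Prime] (hq : q = p ^ f) (hf : 1 ≤ f) (hF : Fintype.card F = q ^ 2) {n : ℕ} (hn : 3 ≤ n) (hs : ¬ (n = 3 ∧ q = 2)) (x δ : MulAut (Cfsg.PSU n F q)) (hx : Cfsg.IsFieldAutClassPSU x) {r : ℕ} (hr : r.Prime) (hxr : orderOf x = r) (hδ : δ ∈ Cfsg.inndiagPSU n F q) :
    orderOf (δ * x) = r ↔ Cfsg.IsConjUnder (Cfsg.inndiagPSU n F q) x (δ * x) := by
  haveI := CfsgLib.PolarAut.inndiagPSU_normal hF hn hs
  obtain ⟨α, σ, hσ, hodd, rfl, hord⟩ := CfsgLib.PolarAut.exists_conj_fieldP hF hn hs hx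
  rw [hord] at hxr
  rw [hxr] at hodd
  obtain ⟨-, hqr, hK⟩ := CfsgLib.PolarAut.field_data hq hF σ hxr hodd
  have hmem : α⁻¹ * δ * α ∈ Cfsg.inndiagPSU n F q := by
    simpa using ‹(Cfsg.inndiagPSU n F q).Normal›.conj_mem δ hδ α⁻¹
  rw [CfsgLib.PSUGraph.inndiag_eq hF (by omega)] at hmem
  obtain ⟨g, hg⟩ := hmem
  have e : δ * (α * CfsgLib.PSUGraph.fieldP hF σ * α⁻¹) =
      α * (CfsgLib.PSUGraph.conjP hF g * CfsgLib.PSUGraph.fieldP hF σ) * α⁻¹ := by rw [hg]; group
  rw [e, CfsgLib.FieldGen.isConjUnder_conj, ← MulAut.conj_apply, MulEquiv.orderOf_eq]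
  constructor
  · intro h
    obtain ⟨k, hk⟩ := CfsgLib.PolarAut.conjUnder_of_powP hF hn hs σ hodd hqr hK g
      (by rw [hxr, ← h]; exact pow_orderOf_eq_one _)
    exact ⟨_, by rw [CfsgLib.PSUGraph.inndiag_eq hF (by omega)]; exact ⟨k, rfl⟩, hk⟩
  · rintro ⟨h, -, hh⟩
    rw [hh, ← MulAut.conj_apply, MulEquiv.orderOf_eq, orderOf_injective _ (CfsgLib.PolarAut.fieldP_inj hF hn hs), hxr]

end Cfsg.Agent.S2711
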