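import Cfsg.Statements.S2712
import Cfsg.Agent.Lib.PolarAut.SpField

set_option autoImplicit false
open Cfsg

namespace Cfsg.Agent.S2712

/-- Let T = PSp_{2m}(F) be simple over the field F with p^f elements (m ≥ 2, (2m, |F|) ≠ (4, 2)), G = Inndiag(T) the image of the projective conformal symplectic group PGSp_{2m}(F), and x a field automorphism of T of prime order r. Then r divides f; C_G(x) is isomorphic to PGSp_{2m}(F₀) for a field F₀ with p^(f/r) elements; and the G-class of x is the union of exactly gcd(gcd(2, p^f − 1), r) T-classes. -/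
theorem result {F : Type*} [Field F] [Fintype F] {p f : ℕ} [Fact p.Prime] (hF : Fintype.card F = p ^ f) (hf : 1 ≤ f) {m : ℕ} (hm : 2 ≤ m) (hs : m = 2 → 3 ≤ Fintype.card F) (x : MulAut (Cfsg.PSp m F)) (hx : Cfsg.IsFieldAutClassPSp x) {r : ℕ} (hr : r.Prime) (hxr : orderOf x = r) (F₀ : Type*) [Field F₀] [Fintype F₀] (hF₀ : Fintype.card F₀ = p ^ (f / r)) :
    r ∣ f ∧ Nonempty (↥(Cfsg.inndiagPSp m F ⊓ Subgroup.centralizer {x}) ≃* Cfsg.PGSp m F₀) ∧ Cfsg.splitClassCount (Cfsg.inndiagPSp m F) (Cfsg.Inn (Cfsg.PSp m F)) x = Nat.gcd (Nat.gcd 2 (p ^ f - 1)) r := by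
  haveI := CfsgLib.PSpAut.inndiag_normal hm hs
  haveI : (Cfsg.Inn (Cfsg.PSp m F)).Normal := inferInstance
  obtain ⟨α, σ, hσ, rfl, hord⟩ := CfsgLib.PSpAut.exists_conj_field hm hs hx
  rw [hord] at hxr
  obtain ⟨hd, hK⟩ := CfsgLib.PSLn.dvd_and_card_fixedField hF σ hxr
  obtain ⟨ι, hι⟩ := CfsgLib.FieldGen.exists_emb σ F₀ (hF₀.trans hK.symm)
  refine ⟨hd, ?_, ?_⟩
  · obtain ⟨e1⟩ := CfsgLib.FieldGen.centralizer_conj (H := Cfsg.inndiagPSp m F) α (CfsgLib.PSpAut.fieldS σ)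
    obtain ⟨e2⟩ := CfsgLib.PSpAut.centralizer_equiv hm hs hι
    exact ⟨e1.trans e2⟩
  · rw [CfsgLib.FieldGen.splitClassCount_conj, CfsgLib.PSpAut.splitCount hm hs hι, hK, hF]
    have hpos : 0 < f / r := Nat.div_pos (Nat.le_of_dvd hf hd) hr.pos
    have e : p ^ f = (p ^ (f / r)) ^ r := by rw [← pow_mul, Nat.div_mul_cancel hd]
    rw [e]
    exact CfsgLib.PSpAut.gcd_split ((Fact.out : p.Prime).two_le.trans (Nat.le_self_pow hpos.ne' p)) hr.pos

end Cfsg.Agent.S2712
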