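import Cfsg.Statements.S2713
import Cfsg.Agent.Lib.PolarAut.SpField

set_option autoImplicit false
open Cfsg

namespace Cfsg.Agent.S2713

/-- Let T = PSp_{2m}(F) be simple over a finite field (m ≥ 2, (2m, |F|) ≠ (4, 2)) and let x be a field automorphism of T of prime order r. Then an element y of the coset Inndiag(T)·x (y = δ x with δ in the image of the projective conformal symplectic group) has order r if and only if y is conjugate to x by an element of Inndiag(T). -/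
theorem result {F : Type*} [Field F] [Fintype F] {m : ℕ} (hm : 2 ≤ m) (hs : m = 2 → 3 ≤ Fintype.card F) (x δ : MulAut (Cfsg.PSp m F)) (hx : Cfsg.IsFieldAutClassPSp x) {r : ℕ} (hr : r.Prime) (hxr : orderOf x = r) (hδ : δ ∈ Cfsg.inndiagPSp m F) :
    orderOf (δ * x) = r ↔ Cfsg.IsConjUnder (Cfsg.inndiagPSp m F) x (δ * x) := by
  haveI := CfsgLib.PSpAut.inndiag_normal hm hs
  obtain ⟨α, σ, hσ, rfl, hord⟩ := CfsgLib.PSpAut.exists_conj_field hm hs hx
  have hmem : α⁻¹ * δ * α ∈ Cfsg.inndiagPSp m F := by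
    simpa using ‹(Cfsg.inndiagPSp m F).Normal›.conj_mem δ hδ α⁻¹
  rw [CfsgLib.PSpAut.inndiag_eq] at hmem
  obtain ⟨g, hg⟩ := hmem
  have e : δ * (α * CfsgLib.PSpAut.fieldS σ * α⁻¹) =
      α * (CfsgLib.PSpAut.conjS g * CfsgLib.PSpAut.fieldS σ) * α⁻¹ := by rw [hg]; group
  rw [hord] at hxr
  rw [e, CfsgLib.FieldGen.isConjUnder_conj, ← MulAut.conj_apply, MulEquiv.orderOf_eq]
  constructor
  · intro h
    obtain ⟨k, hk⟩ := CfsgLib.PSpAut.conjUnder_of_pow hm hs σ g (by rw [hxr, ← h]; exact pow_orderOf_eq_one _)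
    exact ⟨_, by rw [CfsgLib.PSpAut.inndiag_eq]; exact ⟨k, rfl⟩, hk⟩
  · rintro ⟨h, -, hh⟩
    rw [hh, ← MulAut.conj_apply, MulEquiv.orderOf_eq, orderOf_injective _ (CfsgLib.PSpAut.fieldS_inj hm hs), hxr]

end Cfsg.Agent.S2713
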