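import Cfsg.Statements.S2714
import Cfsg.Agent.Lib.OrthAut.Odd

set_option autoImplicit false
set_option maxHeartbeats 1600000
open Cfsg

namespace Cfsg.Agent.S2714

/-- Let T = Ω_{2m+1}(F) (m ≥ 3, |F| = p^f odd; realised as PΩ of the form x₀² + Σ xᵢ yᵢ), G = Inndiag(T) the image of the conformal orthogonal group in Aut(T), and x a field automorphism of T of prime order r. Then r divides f; C_G(x) is isomorphic to Inndiag(Ω_{2m+1}(F₀)) for a field F₀ with p^(f/r) elements; and the G-class of x is a single T-class when r is odd and the union of exactly two T-classes when r = 2. -/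
theorem result {F : Type*} [Field F] [Fintype F] {p f : ℕ} [Fact p.Prime] (hF : Fintype.card F = p ^ f) (hf : 1 ≤ f) (hodd : Odd (Fintype.card F)) {m : ℕ} (hm : 3 ≤ m) (x : MulAut (Cfsg.POmega F (Cfsg.quadFormOdd m F))) (hx : Cfsg.IsFieldAutClassPOmega (Cfsg.quadFormOdd m F) x) {r : ℕ} (hr : r.Prime) (hxr : orderOf x = r) (F₀ : Type*) [Field F₀] [Fintype F₀] (hF₀ : Fintype.card F₀ = p ^ (f / r)) :
    r ∣ f ∧ Nonempty (↥(Cfsg.inndiagPOmegaOdd m F ⊓ Subgroup.centralizer {x}) ≃* ↥(Cfsg.inndiagPOmegaOdd m F₀)) ∧ (Odd r → Cfsg.splitClassCount (Cfsg.inndiagPOmegaOdd m F) (Cfsg.Inn (Cfsg.POmega F (Cfsg.quadFormOdd m F))) x = 1) ∧ (r = 2 → Cfsg.splitClassCount (Cfsg.inndiagPOmegaOdd m F) (Cfsg.Inn (Cfsg.POmega F (Cfsg.quadFormOdd m F))) x = 2) := by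
  have h2 : (2 : F) ≠ 0 := CfsgLib.OrthAut.two_ne_odd hodd
  revert x
  rw [show Cfsg.inndiagPOmegaOdd m F = Cfsg.pgoAut F (Cfsg.quadFormOdd m F) from rfl,
    show Cfsg.inndiagPOmegaOdd m F₀ = Cfsg.pgoAut F₀ (Cfsg.quadFormOdd m F₀) from rfl,
    ← CfsgLib.OrthAut.Qo_eq (K := F) m, ← CfsgLib.OrthAut.Qo_eq (K := F₀) m, CfsgLib.PGO.pgoAut_eq,
    CfsgLib.PGO.pgoAut_eq]
  intro x hx hxr
  haveI := CfsgLib.OrthAut.range_normal (CfsgLib.OrthAut.Qo_fixed (F := F) (m := m))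
    (CfsgLib.StdQuadForms.Qo_nondeg h2 m) (CfsgLib.OrthAut.hn_odd hm) (CfsgLib.OrthAut.Qo_max h2)
  obtain ⟨α, σ, hσ, rfl, hord⟩ := CfsgLib.OrthAut.exists_conj_field CfsgLib.OrthAut.Qo_fixed
    (CfsgLib.StdQuadForms.Qo_nondeg h2 m) (CfsgLib.OrthAut.hn_odd hm) hx
  rw [hord] at hxr
  obtain ⟨hd, hK⟩ := CfsgLib.PSLn.dvd_and_card_fixedField hF σ hxr
  obtain ⟨emb, hι⟩ := CfsgLib.FieldGen.exists_emb σ F₀ (hF₀.trans hK.symm)
  have h20 : (2 : F₀) ≠ 0 := fun e => h2 (by rw [← map_ofNat emb 2, e, map_zero])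
  obtain ⟨hodd', htwo⟩ := CfsgLib.OrthAut.splitCount h2 hm emb hι
  rw [hxr] at hodd' htwo
  refine ⟨hd, ?_, fun h => ?_, fun h => ?_⟩
  · obtain ⟨e1⟩ := CfsgLib.FieldGen.centralizer_conj (H := (CfsgLib.PGO.Θ (CfsgLib.StdQuadForms.Qo (F := F) m)).range)
      α (CfsgLib.OrthAut.fld CfsgLib.OrthAut.Qo_fixed σ)
    obtain ⟨e2⟩ := CfsgLib.OrthAut.centralizer_equiv emb (CfsgLib.StdQuadForms.Qo m) (CfsgLib.OrthAut.Qo_comp emb)
      CfsgLib.OrthAut.Qo_fixed (CfsgLib.StdQuadForms.Qo_nondeg h2 m) (CfsgLib.StdQuadForms.Qo_nondeg h20 m)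
      (CfsgLib.OrthAut.hn_odd hm) hι
    exact ⟨e1.trans e2⟩
  · rw [CfsgLib.FieldGen.splitClassCount_conj]; exact hodd' h
  · rw [CfsgLib.FieldGen.splitClassCount_conj]; exact htwo h

end Cfsg.Agent.S2714
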