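import Cfsg.Statements.S2715
import Cfsg.Agent.Lib.OrthAut.ConjInvariant

set_option maxHeartbeats 1600000
set_option autoImplicit false
open Cfsg

namespace Cfsg.Agent.S2715

/-- Let T = PΩ⁺_{2m}(F) (m ≥ 4, |F| = p^f; the form Σ xᵢ yᵢ), G = Inndiag(T) the image of the class-preserving similarities in Aut(T), and x a field automorphism of T of prime order r. Then r divides f; C_G(x) is isomorphic to Inndiag(PΩ⁺_{2m}(F₀)) for a field F₀ with p^(f/r) elements; and the G-class of x is the union of exactly c T-classes, where c = 1 if r is odd or p = 2, and otherwise (r = 2, p odd) c = 2 when m is odd and p^(f/2) ≡ 1 (mod 4), and c = 4 in the remaining cases. -/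
theorem result {F : Type*} [Field F] [Fintype F] {p f : ℕ} [Fact p.Prime] (hF : Fintype.card F = p ^ f) (hf : 1 ≤ f) {m : ℕ} (hm : 4 ≤ m) (x : MulAut (Cfsg.POmega F (Cfsg.quadFormPlus m F))) (hx : Cfsg.IsFieldAutClassPOmega (Cfsg.quadFormPlus m F) x) {r : ℕ} (hr : r.Prime) (hxr : orderOf x = r) (F₀ : Type*) [Field F₀] [Fintype F₀] (hF₀ : Fintype.card F₀ = p ^ (f / r)) :
    r ∣ f ∧ Nonempty (↥(Cfsg.inndiagPOmegaPlus m F ⊓ Subgroup.centralizer {x}) ≃* ↥(Cfsg.inndiagPOmegaPlus m F₀)) ∧ ((Odd r ∨ p = 2) → Cfsg.splitClassCount (Cfsg.inndiagPOmegaPlus m F) (Cfsg.Inn (Cfsg.POmega F (Cfsg.quadFormPlus m F))) x = 1) ∧ ((r = 2 ∧ p ≠ 2 ∧ Odd m ∧ p ^ (f / 2) % 4 = 1) → Cfsg.splitClassCount (Cfsg.inndiagPOmegaPlus m F) (Cfsg.Inn (Cfsg.POmega F (Cfsg.quadFormPlus m F))) x = 2) ∧ ((r = 2 ∧ p ≠ 2 ∧ ¬ (Odd m ∧ p ^ (f / 2) % 4 = 1)) → Cfsg.splitClassCount (Cfsg.inndiagPOmegaPlus m F) (Cfsg.Inn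 (Cfsg.POmega F (Cfsg.quadFormPlus m F))) x = 4) := by
  suffices key : ∀ (q : (Fin m ⊕ Fin m → F) → F), q = ⇑(CfsgLib.Lagrangian.Qp m F) →
      ∀ x : MulAut (Cfsg.POmega F q), Cfsg.IsFieldAutClassPOmega q x → orderOf x = r →
      ∀ H : Subgroup (MulAut (Cfsg.POmega F q)), H = (Subgroup.closure {β : MulAut (Cfsg.POmega F q) | ∃ g : GL (Fin m ⊕ Fin m) F,
        g ∈ Cfsg.Geo.quadSimilarityGroup (F := F) q ∧
        Cfsg.PreservesSingularClasses (Cfsg.quadFormPlus m F) g.1 ∧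
        Cfsg.IsInducedBySemilinearPOmega q g (RingEquiv.refl F) β}) →
      r ∣ f ∧ (∀ (q₀ : (Fin m ⊕ Fin m → F₀) → F₀), q₀ = ⇑(CfsgLib.Lagrangian.Qp m F₀) →
        Nonempty (↥(H ⊓ Subgroup.centralizer {x}) ≃* ↥(Subgroup.closure {β : MulAut (Cfsg.POmega F₀ q₀) | ∃ g : GL (Fin m ⊕ Fin m) F₀,
        g ∈ Cfsg.Geo.quadSimilarityGroup (F := F₀) q₀ ∧
        Cfsg.PreservesSingularClasses (Cfsg.quadFormPlus m F₀) g.1 ∧
        Cfsg.IsInducedBySemilinearPOmega q₀ g (RingEquiv.refl F₀) β}))) ∧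
        ((Odd r ∨ p = 2) → Cfsg.splitClassCount H (Cfsg.Inn (Cfsg.POmega F q)) x = 1) ∧
        ((r = 2 ∧ p ≠ 2 ∧ Odd m ∧ p ^ (f / 2) % 4 = 1) →
          Cfsg.splitClassCount H (Cfsg.Inn (Cfsg.POmega F q)) x = 2) ∧
        ((r = 2 ∧ p ≠ 2 ∧ ¬ (Odd m ∧ p ^ (f / 2) % 4 = 1)) →
          Cfsg.splitClassCount H (Cfsg.Inn (Cfsg.POmega F q)) x = 4) by
    obtain ⟨h1, h2, h3, h4, h5⟩ := key _ (funext fun v => (CfsgLib.Lagrangian.Qp_apply v).symm) x hx hxr _ rfl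
    exact ⟨h1, h2 _ (funext fun v => (CfsgLib.Lagrangian.Qp_apply v).symm), h3, h4, h5⟩
  clear hx hxr x
  rintro q rfl x hx hxr H rfl
  rw [CfsgLib.OrthPlusFour.inndiag_eq hm]
  have hQ := CfsgLib.Lagrangian.Qp_nondeg (F := F) (m := m)
  have hn := CfsgLib.OrthPlusFour.hn_four hm
  have hev := CfsgLib.OrthPlus.hev_plus (m := m)
  haveI : CharP F p := charP_of_card_eq_prime_pow hF
  haveI hHn := CfsgLib.OrthPlus.Gd_normal (F := F) hm
  obtain ⟨α, φ, σ, hσ, hφ, he⟩ := hx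
  have hφe : φ = CfsgLib.OrthPair.Ψ (CfsgLib.OrthPlus.es (m := m) σ) := CfsgLib.OrthPair.eq_Ψ _ fun s s' hs =>
    hφ s s' (by rw [hs]; simp [CfsgLib.OrthPlus.es_left, CfsgLib.OrthPlus.es_right])
  obtain ⟨⟨e1⟩, ec⟩ := CfsgLib.OrthPlus.conj_invariant _ (Cfsg.Inn (Cfsg.POmega F ⇑(CfsgLib.Lagrangian.Qp m F)))
    (CfsgLib.OrthPair.inn_le_Gd hQ hev hn) α x
  rw [ec]
  have hsx : orderOf (α * x * α⁻¹) = r := by rw [← MulAut.conj_apply, MulEquiv.orderOf_eq]; exact hxr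
  rw [he, hφe] at e1 hsx ⊢
  have hpow : CfsgLib.OrthPair.Ψ (CfsgLib.OrthPlus.es (m := m) σ) ^ r = 1 := by
    rw [← hsx]; exact pow_orderOf_eq_one _
  have hne : (CfsgLib.OrthPlus.es (m := m) σ).1.right ≠ 1 := hσ
  have hord : orderOf (σ : RingAut F) = r := CfsgLib.OrthPair.orderOf_right hQ hn hr hpow hne
  obtain ⟨hd, hK⟩ := CfsgLib.PSLn.dvd_and_card_fixedField hF (σ : RingAut F) hord
  obtain ⟨emb, hι⟩ := CfsgLib.FieldGen.exists_emb (σ : RingAut F) F₀ (hF₀.trans hK.symm)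
  have hfr := CfsgLib.OrthPlus.std_frame (F := F) (m := m) F₀ emb
  have hes : CfsgLib.OrthPlus.es (m := m) σ = ⟨CfsgLib.OrthPair.fel 1 σ, CfsgLib.OrthPair.fel_mem emb hι hfr⟩ :=
    Subtype.ext (SemidirectProduct.ext (by simp [CfsgLib.OrthPlus.es, CfsgLib.OrthPair.fel]) rfl)
  rw [hes] at e1 ⊢
  have h2p : (2 : F) = 0 ↔ p = 2 := by
    rw [show (2 : F) = ((2 : ℕ) : F) by norm_num, CharP.cast_eq_zero_iff F p,
      Nat.prime_dvd_prime_iff_eq Fact.out Nat.prime_two]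
  have hm1 : p ≠ 2 → (IsSquare (-1 : F₀) ↔ (r = 2 → p ^ (f / 2) % 4 = 1)) ∨ r ≠ 2 := fun hp => by
    by_cases h2 : r = 2
    · left
      subst h2
      rw [FiniteField.isSquare_neg_one_iff, hF₀]
      have := Nat.odd_iff.mp (((Fact.out : p.Prime).odd_of_ne_two hp).pow (n := f / 2))
      simp only [true_implies]
      omega
    · exact Or.inr h2
  refine ⟨hd, fun q₀ hq₀ => ?_, fun hcase => ?_, fun ⟨h2, hp, hmo, hc⟩ => ?_, fun ⟨h2, hp, hc⟩ => ?_⟩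
  · subst hq₀
    rw [CfsgLib.OrthPlusFour.inndiag_eq hm]
    obtain ⟨e2⟩ := CfsgLib.OrthPair.Gd_centralizer_equiv hι hfr hQ hev hn
    exact ⟨e1.trans e2⟩
  · rcases hcase with hro | hp2
    · refine CfsgLib.OrthPair.splitCount_frame hι hfr hQ hev hn (hord ▸ hro) (fun h20 => ?_) (fun h20 => ?_)
      · obtain ⟨ν, hν⟩ := CfsgLib.PGO.exists_nonsquare (F := F₀) h20
        exact ⟨⟨CfsgLib.PGO.dPlus ν, ν, CfsgLib.PGO.Qp_dPlus ν⟩, ν, CfsgLib.PGO.Qp_dPlus ν, hν⟩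
      · obtain ⟨ν, hν⟩ := CfsgLib.PGO.exists_nonsquare (F := F₀) h20
        refine ⟨CfsgLib.OmegaPlus.w ⟨0, by omega⟩ (1 : F₀), CfsgLib.OmegaPlus.w ⟨0, by omega⟩ (ν : F₀), ?_, ?_, ?_⟩ <;>
          simp [CfsgLib.OmegaPlus.Qp_w, hν]
    · rw [CfsgLib.PSLn.splitClassCount_eq _ _ (CfsgLib.OrthPair.inn_le_Gd hQ hev hn), Subgroup.relIndex_eq_one,
        CfsgLib.OrthPair.Gd_two (h2p.mpr hp2)]
      refine le_trans (le_of_eq ?_) le_sup_left
      rw [CfsgLib.PGO.inn_eq]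
  · have hsq := ((hm1 hp).resolve_right (fun h => h h2))
    refine (CfsgLib.OrthPlus.splitCount_field_two hι (hord.trans h2) hm (fun e => hp (h2p.mp e))).2 ?_
    rintro (he | he)
    · exact Nat.not_even_iff_odd.mpr hmo he
    · exact he (hsq.mpr fun _ => hc)
  · have hsq := ((hm1 hp).resolve_right (fun h => h h2))
    refine (CfsgLib.OrthPlus.splitCount_field_two hι (hord.trans h2) hm (fun e => hp (h2p.mp e))).1 ?_
    rcases Nat.even_or_odd m with he | ho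
    · exact Or.inl he
    · exact Or.inr fun h => hc ⟨ho, hsq.mp h h2⟩

end Cfsg.Agent.S2715
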