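import Cfsg.Statements.S2716
import Cfsg.Agent.Lib.OrthAut.MinusField
-- import your own Cfsg.Agent.* helpers here

set_option autoImplicit false
set_option maxHeartbeats 1600000
open Cfsg

namespace Cfsg.Agent.S2716

/-- Let T = PΩ⁻_{2m+2}(F) (m ≥ 3, |F| = p^f; the form Σ xᵢ yᵢ + z₁² + a z₁ z₂ + b z₂² with anisotropic binary part), G = Inndiag(T), and x a field automorphism of T of prime order r. Then r is odd and divides f; C_G(x) is isomorphic to Inndiag(PΩ⁻_{2m+2}(F₀)) for a field F₀ with p^(f/r) elements and some anisotropic binary part over F₀; and the G-class of x is a single T-class. -/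
theorem result {F : Type*} [Field F] [Fintype F] {p f : ℕ} [Fact p.Prime] (hF : Fintype.card F = p ^ f) (hf : 1 ≤ f) {m : ℕ} (hm : 3 ≤ m) (a b : F) (hab : (∀ z₁ z₂ : F, z₁ ^ 2 + a * z₁ * z₂ + b * z₂ ^ 2 = 0 → z₁ = 0 ∧ z₂ = 0)) (x : MulAut (Cfsg.POmega F (Cfsg.quadFormMinus m F a b))) (hx : Cfsg.IsFieldAutClassPOmegaMinus m x) {r : ℕ} (hr : r.Prime) (hxr : orderOf x = r) (F₀ : Type*) [Field F₀] [Fintype F₀] (hF₀ : Fintype.card F₀ = p ^ (f / r)) :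
    Odd r ∧ r ∣ f ∧ (∃ a₀ b₀ : F₀, (∀ z₁ z₂ : F₀, z₁ ^ 2 + a₀ * z₁ * z₂ + b₀ * z₂ ^ 2 = 0 → z₁ = 0 ∧ z₂ = 0) ∧ Nonempty (↥(Cfsg.inndiagPOmegaMinus m F a b ⊓ Subgroup.centralizer {x}) ≃* ↥(Cfsg.inndiagPOmegaMinus m F₀ a₀ b₀))) ∧ Cfsg.splitClassCount (Cfsg.inndiagPOmegaMinus m F a b) (Cfsg.Inn (Cfsg.POmega F (Cfsg.quadFormMinus m F a b))) x = 1 := by
  suffices key : ∀ (q : ((Fin m ⊕ Fin m) ⊕ Fin 2 → F) → F), q = ⇑(CfsgLib.StdQuadForms.Qm m a b) →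
      ∀ x : MulAut (Cfsg.POmega F q), (∃ (a' b' : F) (ψ : Cfsg.POmega F q ≃* Cfsg.POmega F (Cfsg.quadFormMinus m F a' b')) (σ : F ≃+* F),
        (∀ z₁ z₂ : F, z₁ ^ 2 + a' * z₁ * z₂ + b' * z₂ ^ 2 = 0 → z₁ = 0 ∧ z₂ = 0) ∧
        σ ≠ RingEquiv.refl F ∧ σ a' = a' ∧ σ b' = b' ∧
        Cfsg.IsFieldAutPOmegaOf (Cfsg.quadFormMinus m F a' b') σ ((ψ.symm.trans x).trans ψ)) → orderOf x = r →
      Odd r ∧ r ∣ f ∧ (∃ a₀ b₀ : F₀, (∀ z₁ z₂ : F₀, z₁ ^ 2 + a₀ * z₁ * z₂ + b₀ * z₂ ^ 2 = 0 → z₁ = 0 ∧ z₂ = 0) ∧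
        ∀ (q₀ : ((Fin m ⊕ Fin m) ⊕ Fin 2 → F₀) → F₀), q₀ = ⇑(CfsgLib.StdQuadForms.Qm m a₀ b₀) →
        Nonempty (↥((Subgroup.closure {β : MulAut (Cfsg.POmega F (q)) | ∃ g : GL ((Fin m ⊕ Fin m) ⊕ Fin 2) F,
        g ∈ Cfsg.Geo.quadSimilarityGroup (F := F) (q) ∧ Cfsg.PreservesSingularClassesMinus m a b g.1 ∧
        Cfsg.IsInducedBySemilinearPOmega (q) g (RingEquiv.refl F) β}) ⊓ Subgroup.centralizer {x}) ≃* ↥(Subgroup.closure {β : MulAut (Cfsg.POmega F₀ (q₀)) | ∃ g : GL ((Fin m ⊕ Fin m) ⊕ Fin 2) F₀,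
        g ∈ Cfsg.Geo.quadSimilarityGroup (F := F₀) (q₀) ∧ Cfsg.PreservesSingularClassesMinus m a₀ b₀ g.1 ∧
        Cfsg.IsInducedBySemilinearPOmega (q₀) g (RingEquiv.refl F₀) β}))) ∧
        Cfsg.splitClassCount (Subgroup.closure {β : MulAut (Cfsg.POmega F (q)) | ∃ g : GL ((Fin m ⊕ Fin m) ⊕ Fin 2) F,
        g ∈ Cfsg.Geo.quadSimilarityGroup (F := F) (q) ∧ Cfsg.PreservesSingularClassesMinus m a b g.1 ∧
        Cfsg.IsInducedBySemilinearPOmega (q) g (RingEquiv.refl F) β}) (Cfsg.Inn (Cfsg.POmega F q)) x = 1 by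
    obtain ⟨h1, h2, ⟨a₀, b₀, h3, h4⟩, h5⟩ := key _ (funext fun v => (CfsgLib.StdQuadForms.Qm_apply m a b v).symm) x hx hxr
    exact ⟨h1, h2, ⟨a₀, b₀, h3, h4 _ (funext fun v => (CfsgLib.StdQuadForms.Qm_apply m a₀ b₀ v).symm)⟩, h5⟩
  clear hx hxr x
  rintro q rfl x hx hxr
  obtain ⟨γ, rfl, hord, hne⟩ := CfsgLib.OrthMinus.field_class hm hab hx
  rw [hxr] at hord
  obtain ⟨hd, hK⟩ := CfsgLib.PSLn.dvd_and_card_fixedField hF γ.1.right hord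
  obtain ⟨emb, hι⟩ := CfsgLib.FieldGen.exists_emb γ.1.right F₀ (hF₀.trans hK.symm)
  have hrodd : Odd r := hr.odd_of_ne_two (hord ▸ hne)
  obtain ⟨a₀, b₀, hab₀, h, bb, hfr, hx⟩ := CfsgLib.OrthMinus.exists_minus_frame (F₀ := F₀) hm hab hι γ rfl
    (by rw [hord, ← hxr]; exact pow_orderOf_eq_one _)
  have hQ := CfsgLib.StdQuadForms.Qm_nondeg m hab
  have hev := CfsgLib.OrthMinus.hev_minus (m := m)
  have hn := CfsgLib.OrthMinus.hn_minus hm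
  rw [CfsgLib.OrthMinus.inndiag_eq hm hab, hx]
  refine ⟨hrodd, hd, ⟨a₀, b₀, hab₀, ?_⟩,
    CfsgLib.OrthPair.splitCount_frame hι hfr hQ hev hn (hord ▸ hrodd)
      (fun h2 => (CfsgLib.OrthMinus.minus_nonsquare hm hab₀ h2).1)
      (fun h2 => (CfsgLib.OrthMinus.minus_nonsquare hm hab₀ h2).2)⟩
  rintro q₀ rfl
  rw [CfsgLib.OrthMinus.inndiag_eq hm hab₀]
  exact CfsgLib.OrthPair.Gd_centralizer_equiv hι hfr hQ hev hn

end Cfsg.Agent.S2716
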