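import Cfsg.Statements.S2717
import Cfsg.Agent.Lib.OrthAut.GraphSplitFrame
-- import your own Cfsg.Agent.* helpers here

set_option autoImplicit false
set_option maxHeartbeats 1600000
open Cfsg

namespace Cfsg.Agent.S2717

/-- Let T = PΩ⁺_{2m}(F) with m ≥ 5 (dimension 2m ≠ 8) and |F| = p^f, G = Inndiag(T), and x an involutory graph-field automorphism of T. Then f is even; any two involutory graph-field automorphisms of T are G-conjugate; C_G(x) is isomorphic to Inndiag(PΩ⁻_{2m}(F₀)) for a field F₀ with p^(f/2) elements (some anisotropic binary part over F₀); and the G-class of x is the union of exactly c T-classes with c = 1 if p = 2, c = 4 if p is odd, m is odd and p^(f/2) ≡ 1 (mod 4), and c = 2 otherwise. -/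
theorem result {F : Type*} [Field F] [Fintype F] {p f : ℕ} [Fact p.Prime] (hF : Fintype.card F = p ^ f) (hf : 1 ≤ f) {m : ℕ} (hm : 5 ≤ m) (x : MulAut (Cfsg.POmega F (Cfsg.quadFormPlus m F))) (hx : Cfsg.IsGraphFieldAutClassPOmegaPlus m x) (hx2 : orderOf x = 2) (F₀ : Type*) [Field F₀] [Fintype F₀] (hF₀ : Fintype.card F₀ = p ^ (f / 2)) :
    Even f ∧ (∀ y : MulAut (Cfsg.POmega F (Cfsg.quadFormPlus m F)), Cfsg.IsGraphFieldAutClassPOmegaPlus m y → orderOf y = 2 → Cfsg.IsConjUnder (Cfsg.inndiagPOmegaPlus m F) x y) ∧ (∃ a₀ b₀ : F₀, (∀ z₁ z₂ : F₀, z₁ ^ 2 + a₀ * z₁ * z₂ + b₀ * z₂ ^ 2 = 0 → z₁ = 0 ∧ z₂ = 0) ∧ Nonempty (↥(Cfsg.inndiagPOmegaPlus m F ⊓ Subgroup.centralizer {x}) ≃* ↥(Cfsg.inndiagPOmegaMinus (m - 1) F₀ a₀ b₀))) ∧ (p = 2 → Cfsg.splitClassCount (Cfsg.inndiagPOmegaPlus m F) (Cfsg.Inn (Cfsg.POmega F (Cfsg.quadFormPlus m F))) x = 1) ∧ ((p ≠ 2 ∧ Odd m ∧ p ^ (f / 2)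 % 4 = 1) → Cfsg.splitClassCount (Cfsg.inndiagPOmegaPlus m F) (Cfsg.Inn (Cfsg.POmega F (Cfsg.quadFormPlus m F))) x = 4) ∧ ((p ≠ 2 ∧ ¬ (Odd m ∧ p ^ (f / 2) % 4 = 1)) → Cfsg.splitClassCount (Cfsg.inndiagPOmegaPlus m F) (Cfsg.Inn (Cfsg.POmega F (Cfsg.quadFormPlus m F))) x = 2) := by
  suffices key : ∀ (q : (Fin m ⊕ Fin m → F) → F), q = ⇑(CfsgLib.Lagrangian.Qp m F) →
      ∀ x : MulAut (Cfsg.POmega F q),
      (∃ (α γ φ : MulAut (Cfsg.POmega F q)) (σ : F ≃+* F) (v : Fin m ⊕ Fin m → F) (g : GL (Fin m ⊕ Fin m) F),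
          σ ≠ RingEquiv.refl F ∧ q v ≠ 0 ∧ (∀ i, σ (v i) = v i) ∧
          (g : Matrix (Fin m ⊕ Fin m) (Fin m ⊕ Fin m) F) = Cfsg.reflectionMatrix q v ∧
          Cfsg.IsInducedBySemilinearPOmega q g (RingEquiv.refl F) γ ∧
          Cfsg.IsFieldAutPOmegaOf q σ φ ∧ α * x * α⁻¹ = γ * φ) →
      orderOf x = 2 →
      ∀ H, H = Subgroup.closure {β : MulAut (Cfsg.POmega F q) | ∃ g : GL (Fin m ⊕ Fin m) F,
        g ∈ Cfsg.Geo.quadSimilarityGroup (F := F) q ∧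
          Cfsg.PreservesSingularClasses (Cfsg.quadFormPlus m F) g.1 ∧
          Cfsg.IsInducedBySemilinearPOmega q g (RingEquiv.refl F) β} →
      Even f ∧ (∀ y : MulAut (Cfsg.POmega F q),
        (∃ (α γ φ : MulAut (Cfsg.POmega F q)) (σ : F ≃+* F) (v : Fin m ⊕ Fin m → F) (g : GL (Fin m ⊕ Fin m) F),
          σ ≠ RingEquiv.refl F ∧ q v ≠ 0 ∧ (∀ i, σ (v i) = v i) ∧
          (g : Matrix (Fin m ⊕ Fin m) (Fin m ⊕ Fin m) F) = Cfsg.reflectionMatrix q v ∧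
          Cfsg.IsInducedBySemilinearPOmega q g (RingEquiv.refl F) γ ∧
          Cfsg.IsFieldAutPOmegaOf q σ φ ∧ α * y * α⁻¹ = γ * φ) →
        orderOf y = 2 → Cfsg.IsConjUnder H x y) ∧
      (∃ a₀ b₀ : F₀, (∀ z₁ z₂ : F₀, z₁ ^ 2 + a₀ * z₁ * z₂ + b₀ * z₂ ^ 2 = 0 → z₁ = 0 ∧ z₂ = 0) ∧
        ∀ (q₀ : ((Fin (m - 1) ⊕ Fin (m - 1)) ⊕ Fin 2 → F₀) → F₀),
          q₀ = ⇑(CfsgLib.StdQuadForms.Qm (m - 1) a₀ b₀) →
          Nonempty (↥(H ⊓ Subgroup.centralizer {x}) ≃* ↥(Subgroup.closure {β : MulAut (Cfsg.POmega F₀ q₀) |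
            ∃ g : GL ((Fin (m - 1) ⊕ Fin (m - 1)) ⊕ Fin 2) F₀, g ∈ Cfsg.Geo.quadSimilarityGroup (F := F₀) q₀ ∧
              Cfsg.PreservesSingularClassesMinus (m - 1) a₀ b₀ g.1 ∧
              Cfsg.IsInducedBySemilinearPOmega q₀ g (RingEquiv.refl F₀) β}))) ∧
      (p = 2 → Cfsg.splitClassCount H (Cfsg.Inn (Cfsg.POmega F q)) x = 1) ∧
      ((p ≠ 2 ∧ Odd m ∧ p ^ (f / 2) % 4 = 1) → Cfsg.splitClassCount H (Cfsg.Inn (Cfsg.POmega F q)) x = 4) ∧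
      ((p ≠ 2 ∧ ¬ (Odd m ∧ p ^ (f / 2) % 4 = 1)) → Cfsg.splitClassCount H (Cfsg.Inn (Cfsg.POmega F q)) x = 2) by
    obtain ⟨h1, h2, ⟨a₀, b₀, h3, h4⟩, h5, h6, h7⟩ :=
      key _ (funext fun v => (CfsgLib.Lagrangian.Qp_apply v).symm) x hx hx2 _ rfl
    exact ⟨h1, h2, ⟨a₀, b₀, h3, h4 _ (funext fun v => (CfsgLib.StdQuadForms.Qm_apply _ a₀ b₀ v).symm)⟩, h5, h6, h7⟩
  clear hx hx2 x
  rintro q rfl x hx hx2 H rfl
  rw [CfsgLib.OrthPlus.inndiag_eq hm]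
  have hQ := CfsgLib.Lagrangian.Qp_nondeg (F := F) (m := m)
  have hn := CfsgLib.OrthPlus.hn_plus hm
  have hev := CfsgLib.OrthPlus.hev_plus (m := m)
  obtain ⟨γ, rfl, hne, hpar⟩ := CfsgLib.OrthPlus.graph_field_class hm hx
  have hpow : CfsgLib.OrthPair.Ψ γ ^ 2 = 1 := hx2 ▸ pow_orderOf_eq_one _
  have hord := CfsgLib.OrthPair.orderOf_right hQ hn Nat.prime_two hpow hne
  obtain ⟨hd, hK⟩ := CfsgLib.PSLn.dvd_and_card_fixedField hF γ.1.right hord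
  obtain ⟨emb, hι⟩ := CfsgLib.FieldGen.exists_emb γ.1.right F₀ (hF₀.trans hK.symm)
  obtain ⟨h, b, R₀, hfr, hx', hR⟩ := CfsgLib.OrthPlus.exists_plus_frame hm hι (γ := γ) rfl (hord ▸ Nat.prime_two)
    (by rw [hord]; exact hpow)
  obtain ⟨-, -, hR⟩ := hR.resolve_left fun h' => hpar h'.1
  obtain ⟨hs1, hs4, hs2⟩ := CfsgLib.OrthPlus.splitCount_graph_field hι hord hm hfr hR
  haveI : CharP F p := charP_of_card_eq_prime_pow hF
  have h2p : (2 : F) = 0 ↔ p = 2 := by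
    rw [show (2 : F) = ((2 : ℕ) : F) by norm_num, CharP.cast_eq_zero_iff F p,
      Nat.prime_dvd_prime_iff_eq Fact.out Nat.prime_two]
  have hm1 : p ≠ 2 → (IsSquare (-1 : F₀) ↔ p ^ (f / 2) % 4 = 1) := fun hp => by
    rw [FiniteField.isSquare_neg_one_iff, hF₀]
    have := Nat.odd_iff.mp (((Fact.out : p.Prime).odd_of_ne_two hp).pow (n := f / 2))
    omega
  refine ⟨even_iff_two_dvd.mpr hd, fun y hy hy2 => ?_, ?_, fun hp => ?_, fun ⟨hp, hc1, hc2⟩ => ?_,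
    fun ⟨hp, hc⟩ => ?_⟩
  · obtain ⟨γ', rfl, hne', hpar'⟩ := CfsgLib.OrthPlus.graph_field_class hm hy
    have hpow' : CfsgLib.OrthPair.Ψ γ' ^ 2 = 1 := hy2 ▸ pow_orderOf_eq_one _
    have hord' := CfsgLib.OrthPair.orderOf_right hQ hn Nat.prime_two hpow' hne'
    refine CfsgLib.OrthPlus.conj_same_parity hm Nat.prime_two hne ?_ hpow hpow' (iff_of_false hpar hpar')
    classical
    haveI := CfsgLib.Chev.ringAut_cyclic_finite F
    haveI : Finite (RingAut F) := Finite.of_injective (fun σ => (σ : F → F)) DFunLike.coe_injective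
    haveI := Fintype.ofFinite (RingAut F)
    by_contra hneq
    have h3 : ({1, γ.1.right, γ'.1.right} : Finset (RingAut F)).card = 3 :=
      Finset.card_eq_three.mpr ⟨_, _, _, Ne.symm hne, Ne.symm hne', fun e => hneq e.symm, rfl⟩
    have h4 : ({1, γ.1.right, γ'.1.right} : Finset (RingAut F)).card ≤ 2 :=
      le_trans (Finset.card_le_card fun z hz => by
        simp only [Finset.mem_insert, Finset.mem_singleton] at hz
        simp only [Finset.mem_filter, Finset.mem_univ, true_and]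
        rcases hz with rfl | rfl | rfl
        · exact one_pow 2
        · rw [← hord]; exact pow_orderOf_eq_one _
        · rw [← hord']; exact pow_orderOf_eq_one _) (IsCyclic.card_pow_eq_one_le (α := RingAut F) two_pos)
    omega
  · obtain ⟨c, hc, g, hg⟩ := hR
    refine ⟨1, c, hc, ?_⟩
    rintro q₀ rfl
    rw [CfsgLib.OrthMinus.inndiag_eq (by omega) hc, hx']
    obtain ⟨e1⟩ := CfsgLib.OrthPair.Gd_centralizer_equiv hι hfr hQ hev hn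
    obtain ⟨e2⟩ := CfsgLib.OrthPair.Gd_map_equiv (S := CfsgLib.StdQuadForms.Qm (m - 1) 1 c) hg
      (CfsgLib.OrthPair.frame_nondeg emb hQ hfr) (CfsgLib.StdQuadForms.Qm_nondeg _ hc) hn
    exact ⟨e1.trans e2⟩
  · rw [hx']; exact hs1 (h2p.mpr hp)
  · rw [hx']; exact hs4 ⟨fun e => hp (h2p.mp e), hc1, (hm1 hp).mpr hc2⟩
  · rw [hx']; exact hs2 ⟨fun e => hp (h2p.mp e), fun h' => hc ⟨h'.1, (hm1 hp).mp h'.2⟩⟩

end Cfsg.Agent.S2717
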