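import Cfsg.Statements.S2718
import Cfsg.Agent.Lib.PGO.GraphSplit

set_option autoImplicit false
open Cfsg

namespace Cfsg.Agent.S2718

/-- Let T = PΩ⁺_{2m}(F) with m ≥ 4 and |F| = q odd, G = Inndiag(T), and γ an involutory graph automorphism of T induced by a similarity (one interchanging the two classes of maximal totally singular subspaces). Then the G-class of γ is either a single T-class or the union of exactly two T-classes, and it is the union of two unless m is odd and q ≡ 3 (mod 4). -/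
theorem result {F : Type*} [Field F] [Fintype F] (hodd : Odd (Fintype.card F)) {m : ℕ} (hm : 4 ≤ m) (γ : MulAut (Cfsg.POmega F (Cfsg.quadFormPlus m F))) (hγ : Cfsg.IsSimilarityGraphAutPOmegaPlus m γ) (hγ2 : orderOf γ = 2) :
    (Cfsg.splitClassCount (Cfsg.inndiagPOmegaPlus m F) (Cfsg.Inn (Cfsg.POmega F (Cfsg.quadFormPlus m F))) γ = 1 ∨ Cfsg.splitClassCount (Cfsg.inndiagPOmegaPlus m F) (Cfsg.Inn (Cfsg.POmega F (Cfsg.quadFormPlus m F))) γ = 2) ∧ (¬ (Odd m ∧ Fintype.card F % 4 = 3) → Cfsg.splitClassCount (Cfsg.inndiagPOmegaPlus m F) (Cfsg.Inn (Cfsg.POmega F (Cfsg.quadFormPlus m F))) γ = 2) := by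
  obtain ⟨g, hg, hP, hind⟩ := hγ
  have hm3 : 3 ≤ m := by omega
  have hf : Cfsg.quadFormPlus m F = ⇑(CfsgLib.Lagrangian.Qp m F) :=
    funext fun v => (CfsgLib.Lagrangian.Qp_apply v).symm
  refine CfsgLib.PGO.map_closure (Q := CfsgLib.Lagrangian.Qp m F)
    (fun g : GL (Fin m ⊕ Fin m) F => Cfsg.PreservesSingularClasses (Cfsg.quadFormPlus m F) g.1) hf
    (CfsgLib.PGO.G₀Plus m F) (fun g => CfsgLib.PGO.Hyp.preserves_iff _ _ (CfsgLib.PGO.hρ_plus g)) γ g hg hP hind hγ2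
    (fun n => (n = 1 ∨ n = 2) ∧ (¬ (Odd m ∧ Fintype.card F % 4 = 3) → n = 2)) ?_
  intro g' hg' hord
  rw [CfsgLib.PGO.G₀Plus_eq hodd hm3] at hg' ⊢
  have h := (CfsgLib.PGO.plusData (F := F) hodd hm3).split_main g' hg' hord
  exact ⟨h.1, fun hne => h.2 (Or.inl ((CfsgLib.PGO.negMem_plus hodd hm3).mpr hne))⟩

end Cfsg.Agent.S2718
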