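import Cfsg.Statements.S2719
import Cfsg.Agent.Lib.PGO.Semilinear

set_option autoImplicit false
open Cfsg

namespace Cfsg.Agent.S2719

/-- Let T = PΩ⁻_{2m+2}(F) with m ≥ 3 and |F| = q odd (form with anisotropic binary part z₁² + a z₁ z₂ + b z₂²), G = Inndiag(T), and γ an involutory graph automorphism of T (an automorphism in the image of the semisimilarity group, not inner-diagonal, of order 2). Then the G-class of γ is either a single T-class or the union of exactly two T-classes, and it is the union of two unless m is even and q ≡ 1 (mod 4). -/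
theorem result {F : Type*} [Field F] [Fintype F] (hodd : Odd (Fintype.card F)) {m : ℕ} (hm : 3 ≤ m) (a b : F) (hab : (∀ z₁ z₂ : F, z₁ ^ 2 + a * z₁ * z₂ + b * z₂ ^ 2 = 0 → z₁ = 0 ∧ z₂ = 0)) (γ : MulAut (Cfsg.POmega F (Cfsg.quadFormMinus m F a b))) (hγ : Cfsg.IsGraphAutClassPOmegaMinus m a b γ) (hγ2 : orderOf γ = 2) :
    (Cfsg.splitClassCount (Cfsg.inndiagPOmegaMinus m F a b) (Cfsg.Inn (Cfsg.POmega F (Cfsg.quadFormMinus m F a b))) γ = 1 ∨ Cfsg.splitClassCount (Cfsg.inndiagPOmegaMinus m F a b) (Cfsg.Inn (Cfsg.POmega F (Cfsg.quadFormMinus m F a b))) γ = 2) ∧ (¬ (Even m ∧ Fintype.card F % 4 = 1) → Cfsg.splitClassCount (Cfsg.inndiagPOmegaMinus m F a b) (Cfsg.Inn (Cfsg.POmega F (Cfsg.quadFormMinus m F a b))) γ = 2) := by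
  obtain ⟨G, hG, hN, hmul, hδ⟩ := CfsgLib.PGO.inndiagMinus_set hodd hm hab
  have hf : Cfsg.quadFormMinus m F a b = ⇑(CfsgLib.StdQuadForms.Qm m a b) :=
    funext fun v => (CfsgLib.StdQuadForms.Qm_apply m a b v).symm
  let D := CfsgLib.PGO.minusData hodd hm hab
  have hk : CfsgLib.PGO.half ((Fin m ⊕ Fin m) ⊕ Fin 2) = m + 1 := by
    simp only [CfsgLib.PGO.half, Fintype.card_sum, Fintype.card_fin]; omega
  have hGp : G = CfsgLib.PGO.propSub (CfsgLib.StdQuadForms.Qm m a b) :=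
    D.mem_G₀_eq hN hmul D.prop_Ns D.prop_mul (by
      rw [hδ, CfsgLib.PGO.Data.δ_prop, hk, Nat.even_add_one, Nat.not_even_iff_odd])
  refine CfsgLib.PGO.split_transport hf (fun g => Cfsg.PreservesSingularClassesMinus m a b g.1) G
    (fun g => (hG g).symm) (fun β hβ h2 => CfsgLib.PGO.gamma_case hodd hm hab hβ h2) hγ.1 hγ.2.1 hγ2
    (fun n => (n = 1 ∨ n = 2) ∧ (¬ (Even m ∧ Fintype.card F % 4 = 1) → n = 2)) ?_
  intro g' hg' hord
  rw [hGp] at hg' ⊢
  have h := D.split_main g' hg' hord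
  refine ⟨h.1, fun hne => h.2 ?_⟩
  rcases Nat.even_or_odd m with he | ho
  · left
    rw [CfsgLib.PGO.negMem_minus hodd hm hab]
    obtain ⟨t, ht⟩ := hodd
    refine ⟨he, ?_⟩
    have : Fintype.card F % 4 ≠ 1 := fun h' => hne ⟨he, h'⟩
    omega
  · right
    rw [hk, Nat.even_add_one, Nat.not_even_iff_odd]
    exact ho

end Cfsg.Agent.S2719
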