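import Cfsg.Statements.S2720
import Cfsg.Agent.Lib.PGO.SemisimpleCent

set_option autoImplicit false
open Cfsg

namespace Cfsg.Agent.S2720

/-- Let T = PΩ⁺_{2m}(F) (m ≥ 4, F finite of odd characteristic p), G = Inndiag(T), and let x be an automorphism of T induced by a similarity of the form (an element of the image G̃ of the conformal orthogonal group) of odd prime order r ≠ p. Then the T-class, the PSO-class and the G-class of x coincide (conjugacy under inner automorphisms, under the image of the special orthogonal group, and under G), and the PO-class of x coincides with its G̃-class. (In characteristic 2 the first equality fails: there the special orthogonal group is the full orthogonal group and some such classes split.) -/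
theorem result {F : Type*} [Field F] [Fintype F] {p : ℕ} [Fact p.Prime] [CharP F p] (hp : p ≠ 2) {m : ℕ} (hm : 4 ≤ m) (x : MulAut (Cfsg.POmega F (Cfsg.quadFormPlus m F))) (hx : x ∈ Cfsg.pgoAut F (Cfsg.quadFormPlus m F)) {r : ℕ} (hr : r.Prime) (hro : Odd r) (hrp : r ≠ p) (hxr : orderOf x = r) :
    (∀ y : MulAut (Cfsg.POmega F (Cfsg.quadFormPlus m F)), (Cfsg.IsConjUnder (Cfsg.Inn (Cfsg.POmega F (Cfsg.quadFormPlus m F))) x y ↔ Cfsg.IsConjUnder (Cfsg.inndiagPOmegaPlus m F) x y) ∧ (Cfsg.IsConjUnder (Cfsg.psoAut F (Cfsg.quadFormPlus m F)) x y ↔ Cfsg.IsConjUnder (Cfsg.inndiagPOmegaPlus m F) x y)) ∧ (∀ y : MulAut (Cfsg.POmega F (Cfsg.quadFormPlus m F)), Cfsg.IsConjUnder (Cfsg.poAut F (Cfsg.quadFormPlus m F)) x y ↔ Cfsg.IsConjUnder (Cfsg.pgoAut F (Cfsg.quadFormPlus m F)) x y) := by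
  have hodd : Odd (Fintype.card F) := by
    obtain ⟨k, -, hk⟩ := FiniteField.card F p
    rw [hk]; exact ((Fact.out : p.Prime).odd_of_ne_two hp).pow
  have hm3 : 3 ≤ m := by omega
  have hf : Cfsg.quadFormPlus m F = ⇑(CfsgLib.Lagrangian.Qp m F) :=
    funext fun v => (CfsgLib.Lagrangian.Qp_apply v).symm
  refine CfsgLib.PGO.classes_transport hf
    (fun g : GL (Fin m ⊕ Fin m) F => Cfsg.PreservesSingularClasses (Cfsg.quadFormPlus m F) g.1)
    (CfsgLib.PGO.G₀Plus m F) (fun g => CfsgLib.PGO.Hyp.preserves_iff _ _ (CfsgLib.PGO.hρ_plus g)) hx hxr ?_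
  intro x' hx' hord
  rw [CfsgLib.PGO.G₀Plus_eq hodd hm3]
  exact (CfsgLib.PGO.plusData (F := F) hodd hm3).conj_classes_prime hx' (p := p) hr hro hrp hord

end Cfsg.Agent.S2720
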