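import Cfsg.Statements.S2721
import Cfsg.Agent.Lib.PGO.SemisimpleCent

set_option autoImplicit false
open Cfsg

namespace Cfsg.Agent.S2721

/-- Let T = PΩ⁻_{2m+2}(F) (m ≥ 3, F finite of odd characteristic p), G = Inndiag(T), and let x be an automorphism of T induced by a similarity of the form (an element of the image G̃ of the conformal orthogonal group) of odd prime order r ≠ p. Then the T-class, the PSO-class and the G-class of x coincide (conjugacy under inner automorphisms, under the image of the special orthogonal group, and under G), and the PO-class of x coincides with its G̃-class. (In characteristic 2 the first equality fails: there the special orthogonal group is the full orthogonal group and some such classes split.) -/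
theorem result {F : Type*} [Field F] [Fintype F] {p : ℕ} [Fact p.Prime] [CharP F p] (hp : p ≠ 2) {m : ℕ} (hm : 3 ≤ m) (a b : F) (hab : (∀ z₁ z₂ : F, z₁ ^ 2 + a * z₁ * z₂ + b * z₂ ^ 2 = 0 → z₁ = 0 ∧ z₂ = 0)) (x : MulAut (Cfsg.POmega F (Cfsg.quadFormMinus m F a b))) (hx : x ∈ Cfsg.pgoAut F (Cfsg.quadFormMinus m F a b)) {r : ℕ} (hr : r.Prime) (hro : Odd r) (hrp : r ≠ p) (hxr : orderOf x = r) :
    (∀ y : MulAut (Cfsg.POmega F (Cfsg.quadFormMinus m F a b)), (Cfsg.IsConjUnder (Cfsg.Inn (Cfsg.POmega F (Cfsg.quadFormMinus m F a b))) x y ↔ Cfsg.IsConjUnder (Cfsg.inndiagPOmegaMinus m F a b) x y) ∧ (Cfsg.IsConjUnder (Cfsg.psoAut F (Cfsg.quadFormMinus m F a b)) x y ↔ Cfsg.IsConjUnder (Cfsg.inndiagPOmegaMinus m F a b) x y)) ∧ (∀ y : MulAut (Cfsg.POmega F (Cfsg.quadFormMinus m F a b)), Cfsg.IsConjUnder (Cfsg.poAut F (Cfsg.quadFormMinus m F a b)) x y ↔ Cfsg.IsConjUnder (Cfsg.pgoAut F (Cfsg.quadFormMinus m F a b)) x y) := by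
  have hodd : Odd (Fintype.card F) := by
    obtain ⟨k, -, hk⟩ := FiniteField.card F p
    rw [hk]; exact ((Fact.out : p.Prime).odd_of_ne_two hp).pow
  obtain ⟨G, hG, hN, hmul, hδ⟩ := CfsgLib.PGO.inndiagMinus_set hodd hm hab
  have hf : Cfsg.quadFormMinus m F a b = ⇑(CfsgLib.StdQuadForms.Qm m a b) :=
    funext fun v => (CfsgLib.StdQuadForms.Qm_apply m a b v).symm
  let D := CfsgLib.PGO.minusData hodd hm hab
  have hGp : G = CfsgLib.PGO.propSub (CfsgLib.StdQuadForms.Qm m a b) :=
    D.mem_G₀_eq hN hmul D.prop_Ns D.prop_mul (by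
      rw [hδ, CfsgLib.PGO.Data.δ_prop, show CfsgLib.PGO.half ((Fin m ⊕ Fin m) ⊕ Fin 2) = m + 1 by
          simp only [CfsgLib.PGO.half, Fintype.card_sum, Fintype.card_fin]; omega,
        Nat.even_add_one, Nat.not_even_iff_odd])
  refine CfsgLib.PGO.classes_transport hf (fun g => Cfsg.PreservesSingularClassesMinus m a b g.1) G
    (fun g => (hG g).symm) hx hxr ?_
  intro x' hx' hord
  rw [hGp]
  exact D.conj_classes_prime hx' (p := p) hr hro hrp hord

end Cfsg.Agent.S2721
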