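import Cfsg.Statements.S2731
import Cfsg.Agent.Lib.OrthAut.Odd

set_option autoImplicit false
set_option maxHeartbeats 1600000
open Cfsg

namespace Cfsg.Agent.S2731

/-- A criterion for the failure of local balance in almost simple groups whose socle is an odd-dimensional orthogonal group Ω_{2m+1}(F) (m ≥ 3, |F| odd; the form x₀² + Σ xᵢ yᵢ). Let F be a finite field of characteristic r and K the (simple) group in question; let A be a group of automorphisms of K containing all inner automorphisms, and x ∈ A an automorphism of prime order p ≠ r that is not inner-diagonal (not induced by a similarity of the form). Then the largest normal subgroup of C_A(x) of order prime to p is nontrivial if and only if x is a field automorphism of K (conjugate under Aut(K) to a non-identity standard field automorphism) and p does not divide the number of fixed points of x on K. -/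
theorem result {F : Type*} [Field F] [Fintype F] {r : ℕ} [Fact r.Prime] [CharP F r] (hodd : Odd (Fintype.card F)) {m : ℕ} (hm : 3 ≤ m) (hK : IsSimpleGroup (Cfsg.POmega F (Cfsg.quadFormOdd m F))) (A : Subgroup (MulAut (Cfsg.POmega F (Cfsg.quadFormOdd m F)))) (hinn : ∀ k : Cfsg.POmega F (Cfsg.quadFormOdd m F), MulAut.conj k ∈ A) {p : ℕ} [Fact p.Prime] (hpr : p ≠ r) (x : MulAut (Cfsg.POmega F (Cfsg.quadFormOdd m F))) (hxA : x ∈ A) (hord : orderOf x = p) (hnot : ¬ Cfsg.IsInnerDiagonalAutPOmegaOdd m x) :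
    Cfsg.pPrimeCore p ↥(A ⊓ Subgroup.centralizer {x}) ≠ ⊥ ↔ (Cfsg.IsFieldAutClassPOmega (Cfsg.quadFormOdd m F) x ∧ Nat.Coprime p (Nat.card ↥(MonoidHom.eqLocus x.toMonoidHom (MonoidHom.id (Cfsg.POmega F (Cfsg.quadFormOdd m F)))))) := by
  have h2 : (2 : F) ≠ 0 := CfsgLib.OrthAut.two_ne_odd hodd
  change ¬ Cfsg.IsSimilarityInducedAutPOmega (Cfsg.quadFormOdd m F) x at hnot
  revert A x hK
  rw [← CfsgLib.OrthAut.Qo_eq (K := F) m]
  intro hK A hinn x hxA hord hnot
  have hQ := CfsgLib.StdQuadForms.Qo_nondeg h2 m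
  have hn := CfsgLib.OrthAut.hn_odd hm
  haveI : Finite (Cfsg.POmega F ⇑(CfsgLib.StdQuadForms.Qo (F := F) m)) := inferInstance
  obtain ⟨k, τ, hτ, hτp, rfl⟩ := CfsgLib.OrthAut.exists_field_conj h2 hm hord
    (fun h => hnot ((CfsgLib.OrthAut.conj_range_mem_iff h2 hm x).mpr h))
  obtain ⟨a, ha1, ha⟩ := CfsgLib.OrthAut.exists_fixed h2 hm τ
  rw [CfsgLib.CoreGen.core_iff A hinn _ (CfsgLib.OrthAut.conj_injective hQ hn)
    ⟨CfsgLib.PGO.Θ _ k a, (EmbeddingLike.map_ne_one_iff).mpr ha1, by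
      show CfsgLib.PGO.Θ _ k (CfsgLib.OrthAut.fld CfsgLib.OrthAut.Qo_fixed τ ((CfsgLib.PGO.Θ _ k)⁻¹ (CfsgLib.PGO.Θ _ k a))) = _
      rw [MulAut.inv_apply_self, ha]⟩
    (CfsgLib.CoreGen.rigid_conj _ (CfsgLib.OrthAut.rigid_odd h2 hm τ hτp))]
  refine (and_iff_right ?_).symm
  refine ⟨(CfsgLib.PGO.Θ _ k)⁻¹, CfsgLib.OrthAut.fld CfsgLib.OrthAut.Qo_fixed τ, τ, hτ,
    CfsgLib.OrthAut.isField CfsgLib.OrthAut.Qo_fixed τ, ?_⟩
  group

end Cfsg.Agent.S2731
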