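import Cfsg.Statements.S2734
import Cfsg.Agent.Lib.Chev.FoldTriality

set_option autoImplicit false
open Cfsg

open CfsgLib.Chev CfsgLib.Chev.Chev
namespace Cfsg.Agent.S2734

theorem nodes_perm : ∀ π : Equiv.Perm (Fin Cfsg.Lie.chevD4.rank),
    (∀ i j : Fin Cfsg.Lie.chevD4.rank, i ≠ j →
      Cfsg.Lie.chevD4.bonds (π i) (π j) = Cfsg.Lie.chevD4.bonds i j) →
    π = 1 ∨ π * π = 1 ∨ (∀ i, (π i).val = symD4.t i.val) ∨ ∀ i, (π (π i)).val = symD4.t i.val := by
  decide +kernel

/-- In the Chevalley group of type D₄ over a finite field F (the matrix group generated by the root elements), a graph automorphism attached to a symmetry π of the Dynkin diagram (sending each fundamental root element x_p(t) to x_{π(p)}(t) and each x_{−p}(t) to x_{−π(p)}(t)) that has order 3 — a standard triality graph automorphism, π being a 3-cycle of the three outer nodes — has fixed-point subgroup isomorphic to the Chevalley group of type G₂ over F. -/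
theorem result {F : Type*} [Field F] [Fintype F] (τ : MulAut ↥(Cfsg.Lie.chevD4.group F)) (hτ : Cfsg.Lie.chevD4.IsGraphAut τ) (hτ3 : orderOf τ = 3) :
    Nonempty (↥(MonoidHom.eqLocus τ.toMonoidHom (MonoidHom.id ↥(Cfsg.Lie.chevD4.group F))) ≃* ↥(Cfsg.Lie.chevG2.group F)) := by
  obtain ⟨π, hπ, h⟩ := actsAs_of_isGraphAut (Φ := CfsgLib.Chev.chevD4) hτ (by decide +kernel)
  have hfix : ∀ φ : MulAut ↥(Cfsg.Lie.chevD4.group F), CfsgLib.Chev.chevD4.ActsAs φ T3D4.S.τ →
      (∀ g, φ g = g ↔ τ g = g) → Nonempty (↥(MonoidHom.eqLocus τ.toMonoidHom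
        (MonoidHom.id ↥(Cfsg.Lie.chevD4.group F))) ≃* ↥(Cfsg.Lie.chevG2.group F)) := by
    intro φ hφ he
    obtain ⟨e1⟩ := hφ.fixed_iso (T := TriG2.tw F) TriG2.k_p (MonoidHom.eqLocus τ.toMonoidHom
      (MonoidHom.id ↥(Cfsg.Lie.chevD4.group F))) (fun g => (he g).symm)
    obtain ⟨e2⟩ := fold_iso CfsgLib.Chev.chevG2 CfsgLib.Chev.chevD4 foldG2 (CfsgLib.Chev.chevG2.adj_of_check adjG2)
      (morOK_zero F) shapeG2 addG2 commG2fold (TriG2.fold_gen (K := F)) TriG2.wit
    exact ⟨e1.trans e2⟩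
  rcases nodes_perm π hπ with e | e | e | e
  · subst e
    rw [h.eq_one, orderOf_one] at hτ3
    omega
  · have := (h.mul h)
    rw [e] at this
    have h2 := orderOf_dvd_of_pow_eq_one (show τ ^ 2 = 1 by rw [sq]; exact this.eq_one)
    rw [hτ3] at h2
    omega
  · refine hfix τ ?_ fun g => Iff.rfl
    rwa [show π = T3D4.S.τ from Equiv.ext fun i => Fin.ext (e i)] at h
  · refine hfix (τ * τ) ?_ fun g => ?_
    · rw [← show π * π = T3D4.S.τ from Equiv.ext fun i => Fin.ext (e i)]
      exact h.mul h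
    · have h3 : τ * τ * τ = 1 := by rw [← pow_three', ← hτ3, pow_orderOf_eq_one]
      constructor
      · intro hg
        calc τ g = τ (τ (τ g)) := by rw [show τ (τ g) = g from hg]
          _ = g := DFunLike.congr_fun h3 g
      · intro hg
        rw [MulAut.mul_apply, hg, hg]

end Cfsg.Agent.S2734
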