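import Cfsg.Statements.S2735
import Cfsg.Agent.Lib.OrthAut.Odd

set_option autoImplicit false
open Cfsg

namespace Cfsg.Agent.S2735

/-- Let T = Ω_{2m+1}(F) (m ≥ 3, |F| odd) and x a field automorphism of T of prime order r. Then an element y of the coset Inndiag(T)·x (y = δ x with δ induced by a similarity of the form) has order r if and only if y is conjugate to x by an element of Inndiag(T). (T has no graph or graph-field automorphisms.) -/
theorem result {F : Type*} [Field F] [Fintype F] (hodd : Odd (Fintype.card F)) {m : ℕ} (hm : 3 ≤ m) (x δ : MulAut (Cfsg.POmega F (Cfsg.quadFormOdd m F))) (hx : Cfsg.IsFieldAutClassPOmega (Cfsg.quadFormOdd m F) x) {r : ℕ} (hr : r.Prime) (hxr : orderOf x = r) (hδ : δ ∈ Cfsg.inndiagPOmegaOdd m F) :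
    orderOf (δ * x) = r ↔ Cfsg.IsConjUnder (Cfsg.inndiagPOmegaOdd m F) x (δ * x) := by
  have h2 : (2 : F) ≠ 0 := CfsgLib.OrthAut.two_ne_odd hodd
  revert x δ
  rw [show Cfsg.inndiagPOmegaOdd m F = Cfsg.pgoAut F (Cfsg.quadFormOdd m F) from rfl,
    ← CfsgLib.OrthAut.Qo_eq (K := F) m, CfsgLib.PGO.pgoAut_eq]
  intro x δ hx hxr hδ
  have hQ := CfsgLib.StdQuadForms.Qo_nondeg h2 m
  have hn := CfsgLib.OrthAut.hn_odd hm
  haveI := CfsgLib.OrthAut.range_normal (CfsgLib.OrthAut.Qo_fixed (F := F) (m := m)) hQ hn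
    (CfsgLib.OrthAut.Qo_max h2)
  obtain ⟨α, σ, hσ, rfl, hord⟩ := CfsgLib.OrthAut.exists_conj_field CfsgLib.OrthAut.Qo_fixed hQ hn hx
  have hmem : α⁻¹ * δ * α ∈ (CfsgLib.PGO.Θ (CfsgLib.StdQuadForms.Qo (F := F) m)).range := by
    simpa using ‹(CfsgLib.PGO.Θ (CfsgLib.StdQuadForms.Qo (F := F) m)).range.Normal›.conj_mem δ hδ α⁻¹
  obtain ⟨g, hg⟩ := hmem
  have e : δ * (α * CfsgLib.OrthAut.fld CfsgLib.OrthAut.Qo_fixed σ * α⁻¹) =
      α * (CfsgLib.PGO.Θ _ g * CfsgLib.OrthAut.fld CfsgLib.OrthAut.Qo_fixed σ) * α⁻¹ := by rw [hg]; group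
  rw [hord] at hxr
  rw [e, CfsgLib.FieldGen.isConjUnder_conj, ← MulAut.conj_apply, MulEquiv.orderOf_eq]
  constructor
  · intro h
    obtain ⟨k, hk⟩ := CfsgLib.OrthAut.exists_conj_of_pow h2 hm σ g
      (by rw [hxr, ← h]; exact pow_orderOf_eq_one _)
    exact ⟨_, ⟨k, rfl⟩, hk⟩
  · rintro ⟨h, -, hh⟩
    rw [hh, ← MulAut.conj_apply, MulEquiv.orderOf_eq,
      orderOf_injective _ (CfsgLib.OrthAut.fld_inj CfsgLib.OrthAut.Qo_fixed hQ hn), hxr]

end Cfsg.Agent.S2735
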