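import Cfsg.Statements.S2736
import Cfsg.Agent.Lib.OrthAut.PlusInn
-- import your own Cfsg.Agent.* helpers here

set_option autoImplicit false
set_option maxHeartbeats 1600000
open Cfsg

namespace Cfsg.Agent.S2736

/-- Let T = PΩ⁺_{2m}(F) with m ≥ 5 (dimension ≠ 8) and x a field automorphism or a graph-field automorphism of T of prime order r. Then an element y of the coset Inndiag(T)·x (y = δ x with δ induced by a class-preserving similarity) has order r if and only if y is conjugate to x by an element of Inndiag(T). -/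
theorem result {F : Type*} [Field F] [Fintype F] {m : ℕ} (hm : 5 ≤ m) (x δ : MulAut (Cfsg.POmega F (Cfsg.quadFormPlus m F))) (hx : Cfsg.IsFieldAutClassPOmega (Cfsg.quadFormPlus m F) x ∨ Cfsg.IsGraphFieldAutClassPOmegaPlus m x) {r : ℕ} (hr : r.Prime) (hxr : orderOf x = r) (hδ : δ ∈ Cfsg.inndiagPOmegaPlus m F) :
    orderOf (δ * x) = r ↔ Cfsg.IsConjUnder (Cfsg.inndiagPOmegaPlus m F) x (δ * x) := by
  suffices key : ∀ (q : (Fin m ⊕ Fin m → F) → F), q = ⇑(CfsgLib.Lagrangian.Qp m F) →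
      ∀ x δ : MulAut (Cfsg.POmega F q), (Cfsg.IsFieldAutClassPOmega q x ∨
        ∃ (α γ φ : MulAut (Cfsg.POmega F q)) (σ : F ≃+* F) (v : Fin m ⊕ Fin m → F) (g : GL (Fin m ⊕ Fin m) F),
          σ ≠ RingEquiv.refl F ∧ q v ≠ 0 ∧ (∀ i, σ (v i) = v i) ∧
          (g : Matrix (Fin m ⊕ Fin m) (Fin m ⊕ Fin m) F) = Cfsg.reflectionMatrix q v ∧
          Cfsg.IsInducedBySemilinearPOmega q g (RingEquiv.refl F) γ ∧
          Cfsg.IsFieldAutPOmegaOf q σ φ ∧ α * x * α⁻¹ = γ * φ) →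
      orderOf x = r → δ ∈ Subgroup.closure {β : MulAut (Cfsg.POmega F q) | ∃ g : GL (Fin m ⊕ Fin m) F,
        g ∈ Cfsg.Geo.quadSimilarityGroup (F := F) q ∧
          Cfsg.PreservesSingularClasses (Cfsg.quadFormPlus m F) g.1 ∧
          Cfsg.IsInducedBySemilinearPOmega q g (RingEquiv.refl F) β} →
      (orderOf (δ * x) = r ↔ Cfsg.IsConjUnder (Subgroup.closure {β : MulAut (Cfsg.POmega F q) |
        ∃ g : GL (Fin m ⊕ Fin m) F, g ∈ Cfsg.Geo.quadSimilarityGroup (F := F) q ∧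
          Cfsg.PreservesSingularClasses (Cfsg.quadFormPlus m F) g.1 ∧
          Cfsg.IsInducedBySemilinearPOmega q g (RingEquiv.refl F) β}) x (δ * x)) by
    exact key _ (funext fun v => (CfsgLib.Lagrangian.Qp_apply v).symm) x δ hx hxr hδ
  clear hx hxr hδ x δ
  rintro q rfl x δ hx hxr hδ
  rw [CfsgLib.OrthPlus.inndiag_eq hm] at hδ ⊢
  constructor
  swap
  · rintro ⟨k, -, e⟩
    rw [e, ← MulAut.conj_apply, MulEquiv.orderOf_eq, hxr]
  intro hyr
  obtain ⟨γ, rfl, hne⟩ : ∃ γ : CfsgLib.OrthPair.ΓO (CfsgLib.Lagrangian.Qp m F),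
      CfsgLib.OrthPair.Ψ γ = x ∧ γ.1.right ≠ 1 := by
    rcases hx with hx | hx
    · obtain ⟨γ, h1, h2, -⟩ := CfsgLib.OrthPlus.field_class hm hx; exact ⟨γ, h1, h2⟩
    · obtain ⟨γ, h1, h2, -⟩ := CfsgLib.OrthPlus.graph_field_class hm hx; exact ⟨γ, h1, h2⟩
  obtain ⟨g, hg, rfl⟩ := hδ
  rw [← CfsgLib.OrthPair.Ψ_ofGO, ← map_mul] at hyr ⊢
  refine CfsgLib.OrthPlus.conj_same_parity hm hr hne ?_ (hxr ▸ pow_orderOf_eq_one _)
    (hyr ▸ pow_orderOf_eq_one _) ?_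
  · rw [Subgroup.coe_mul, SemidirectProduct.mul_right, CfsgLib.OrthPair.ofGO_right, one_mul]
  · rw [CfsgLib.OrthPlus.lp_mul_iff hm, CfsgLib.OrthPlus.lp_ofGO, iff_true_left (SetLike.mem_coe.mp hg)]

end Cfsg.Agent.S2736
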