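import Cfsg.Statements.S2737
import Cfsg.Agent.Lib.OrthAut.MinusField
-- import your own Cfsg.Agent.* helpers here

set_option autoImplicit false
set_option maxHeartbeats 1600000
open Cfsg

namespace Cfsg.Agent.S2737

/-- Let T = PΩ⁻_{2m+2}(F) (m ≥ 3; form with anisotropic binary part) and x a field automorphism of T of prime order r. Then an element y of the coset Inndiag(T)·x has order r if and only if y is conjugate to x by an element of Inndiag(T). (T has no graph-field automorphisms.) -/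
theorem result {F : Type*} [Field F] [Fintype F] {m : ℕ} (hm : 3 ≤ m) (a b : F) (hab : (∀ z₁ z₂ : F, z₁ ^ 2 + a * z₁ * z₂ + b * z₂ ^ 2 = 0 → z₁ = 0 ∧ z₂ = 0)) (x δ : MulAut (Cfsg.POmega F (Cfsg.quadFormMinus m F a b))) (hx : Cfsg.IsFieldAutClassPOmegaMinus m x) {r : ℕ} (hr : r.Prime) (hxr : orderOf x = r) (hδ : δ ∈ Cfsg.inndiagPOmegaMinus m F a b) :
    orderOf (δ * x) = r ↔ Cfsg.IsConjUnder (Cfsg.inndiagPOmegaMinus m F a b) x (δ * x) := by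
  suffices key : ∀ (q : ((Fin m ⊕ Fin m) ⊕ Fin 2 → F) → F), q = ⇑(CfsgLib.StdQuadForms.Qm m a b) →
      ∀ x δ : MulAut (Cfsg.POmega F q), (∃ (a' b' : F) (ψ : Cfsg.POmega F q ≃* Cfsg.POmega F (Cfsg.quadFormMinus m F a' b')) (σ : F ≃+* F),
        (∀ z₁ z₂ : F, z₁ ^ 2 + a' * z₁ * z₂ + b' * z₂ ^ 2 = 0 → z₁ = 0 ∧ z₂ = 0) ∧
        σ ≠ RingEquiv.refl F ∧ σ a' = a' ∧ σ b' = b' ∧
        Cfsg.IsFieldAutPOmegaOf (Cfsg.quadFormMinus m F a' b') σ ((ψ.symm.trans x).trans ψ)) → orderOf x = r → δ ∈ (Subgroup.closure {β : MulAut (Cfsg.POmega F (q)) | ∃ g : GL ((Fin m ⊕ Fin m) ⊕ Fin 2) F,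
        g ∈ Cfsg.Geo.quadSimilarityGroup (F := F) (q) ∧ Cfsg.PreservesSingularClassesMinus m a b g.1 ∧
        Cfsg.IsInducedBySemilinearPOmega (q) g (RingEquiv.refl F) β}) →
      (orderOf (δ * x) = r ↔ Cfsg.IsConjUnder (Subgroup.closure {β : MulAut (Cfsg.POmega F (q)) | ∃ g : GL ((Fin m ⊕ Fin m) ⊕ Fin 2) F,
        g ∈ Cfsg.Geo.quadSimilarityGroup (F := F) (q) ∧ Cfsg.PreservesSingularClassesMinus m a b g.1 ∧
        Cfsg.IsInducedBySemilinearPOmega (q) g (RingEquiv.refl F) β}) x (δ * x)) by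
    exact key _ (funext fun v => (CfsgLib.StdQuadForms.Qm_apply m a b v).symm) x δ hx hxr hδ
  clear hx hxr hδ x δ
  rintro q rfl x δ hx hxr hδ
  rw [CfsgLib.OrthMinus.inndiag_eq hm hab] at hδ ⊢
  constructor
  swap
  · rintro ⟨k, -, e⟩
    rw [e, ← MulAut.conj_apply, MulEquiv.orderOf_eq, hxr]
  intro hyr
  obtain ⟨γ, rfl, hord, -⟩ := CfsgLib.OrthMinus.field_class hm hab hx
  obtain ⟨g, -, rfl⟩ := hδ
  rw [← CfsgLib.OrthPair.Ψ_ofGO, ← map_mul] at hyr ⊢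
  rw [hxr] at hord
  obtain ⟨σ, hσ⟩ : ∃ σ, σ = γ.1.right := ⟨_, rfl⟩
  have hr1 : (CfsgLib.OrthPair.ofGO g * γ).1.right = σ := by
    rw [Subgroup.coe_mul, SemidirectProduct.mul_right, CfsgLib.OrthPair.ofGO_right, one_mul, hσ]
  haveI : Fintype (CfsgLib.PSLn.fixedField σ) := Fintype.ofFinite _
  obtain ⟨emb, hι⟩ := CfsgLib.FieldGen.exists_emb σ (CfsgLib.PSLn.fixedField σ)
    (Nat.card_eq_fintype_card).symm
  obtain ⟨a₀, b₀, hab₀, h, bb, hfr, hx⟩ :=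
    CfsgLib.OrthMinus.exists_minus_frame (F₀ := CfsgLib.PSLn.fixedField σ) hm hab hι γ hσ.symm
      (by rw [hσ, hord, ← hxr]; exact pow_orderOf_eq_one _)
  obtain ⟨a₁, b₁, hab₁, h', bb', hfr', hy⟩ :=
    CfsgLib.OrthMinus.exists_minus_frame (F₀ := CfsgLib.PSLn.fixedField σ) hm hab hι _ hr1
      (by rw [hσ, hord, ← hyr]; exact pow_orderOf_eq_one _)
  obtain ⟨P, hP⟩ := CfsgLib.OrthMinus.minus_iso (m := m) hab₁ hab₀
  obtain ⟨hfr'', he⟩ := CfsgLib.OrthMinus.change_frame hfr' hP hι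
  have := CfsgLib.OrthPair.Gd_conj_frames hι hfr (CfsgLib.StdQuadForms.Qm_nondeg m hab)
    (CfsgLib.OrthMinus.hev_minus (m := m)) (CfsgLib.OrthMinus.hn_minus hm) hfr''
  rw [hx, hy]
  simp only [he] at this
  exact this

end Cfsg.Agent.S2737
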