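import Cfsg.Statements.S2738
import Cfsg.Agent.Lib.SLCard

set_option autoImplicit false
open Cfsg

namespace Cfsg.Agent.S2738

/-- The special linear group SL(3, 4) has centre of order 3 and does not split over it: no subgroup is a complement to the centre (so SL(3, 4) is a non-split central extension of PSL(3, 4) by a group of order 3). -/
theorem result (F : Type*) [Field F] [Fintype F] (hF : Fintype.card F = 4) : Nat.card ↥(Subgroup.center (Matrix.SpecialLinearGroup (Fin 3) F)) = 3 ∧ ¬ ∃ K : Subgroup (Matrix.SpecialLinearGroup (Fin 3) F), Subgroup.IsComplement' (Subgroup.center (Matrix.SpecialLinearGroup (Fin 3) F)) K := by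
  classical
  have h3 : (1 : F) + 1 = 0 := by
    have h := FiniteField.cast_card_eq_zero F
    rw [hF] at h
    have : (2 : F) * 2 = 0 := by
      rw [← h]; norm_num
    rw [one_add_one_eq_two]
    exact (mul_eq_zero.mp this).elim id id
  have hcard : Nat.card Fˣ = 3 := by rw [Nat.card_units, Nat.card_eq_fintype_card, hF]
  have hc : Nat.card ↥(Subgroup.center (Matrix.SpecialLinearGroup (Fin 3) F)) = 3 := by
    rw [CfsgLib.SLCard.card_SL_center (by norm_num), hF]
    rfl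
  refine ⟨hc, fun ⟨K, hK⟩ => ?_⟩
  obtain ⟨w, hw⟩ : ∃ w : Fˣ, w ≠ 1 := by
    have : Nontrivial Fˣ := Finite.one_lt_card_iff_nontrivial.mp (by omega)
    exact exists_ne 1
  have hw3 : (w : F) ^ 3 = 1 := by
    rw [← hcard, ← Units.val_pow_eq_pow_val, pow_card_eq_one', Units.val_one]
  let P : Matrix.SpecialLinearGroup (Fin 3) F :=
    ⟨!![0, 1, 0; 0, 0, 1; 1, 0, 0], by simp [Matrix.det_fin_three]⟩
  let D : Matrix.SpecialLinearGroup (Fin 3) F :=
    ⟨Matrix.diagonal ![1, (w : F), (w : F) ^ 2], by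
      rw [Matrix.det_diagonal, Fin.prod_univ_three]
      simp only [Matrix.cons_val_zero, Matrix.cons_val_one, Matrix.cons_val_two, Matrix.head_cons,
        Matrix.tail_cons]
      linear_combination hw3⟩
  let Z : Matrix.SpecialLinearGroup (Fin 3) F := ⟨Matrix.scalar (Fin 3) (w : F), by
      rw [Matrix.scalar_apply, Matrix.det_diagonal]
      simpa using hw3⟩
  have hZ : Z ∈ Subgroup.center (Matrix.SpecialLinearGroup (Fin 3) F) := by
    rw [Matrix.SpecialLinearGroup.mem_center_iff]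
    exact ⟨w, by simpa using hw3, rfl⟩
  have hPD : P * D = Z * (D * P) := by
    apply Subtype.ext
    show !![(0 : F), 1, 0; 0, 0, 1; 1, 0, 0] * Matrix.diagonal ![1, (w : F), (w : F) ^ 2] =
      Matrix.scalar (Fin 3) (w : F) *
        (Matrix.diagonal ![1, (w : F), (w : F) ^ 2] * !![(0 : F), 1, 0; 0, 0, 1; 1, 0, 0])
    ext i j
    fin_cases i <;> fin_cases j <;>
      simp [Matrix.mul_apply, Fin.sum_univ_three, Matrix.scalar_apply]
    all_goals first | exact hw3.symm | linear_combination hw3 | linear_combination -hw3 | ring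
  have hZK : Z ∈ K := by
    obtain ⟨⟨⟨c₁, hc₁⟩, ⟨k₁, hk₁⟩⟩, e₁⟩ := hK.2 P
    obtain ⟨⟨⟨c₂, hc₂⟩, ⟨k₂, hk₂⟩⟩, e₂⟩ := hK.2 D
    simp only at e₁ e₂
    have hZeq : Z = (P * D) * (D * P)⁻¹ := by rw [hPD, mul_inv_cancel_right]
    have a1 := Subgroup.mem_center_iff.mp hc₁
    have a2 := Subgroup.mem_center_iff.mp hc₂
    rw [hZeq, ← e₁, ← e₂]
    have e : c₁ * k₁ * (c₂ * k₂) * (c₂ * k₂ * (c₁ * k₁))⁻¹ = k₁ * k₂ * (k₂ * k₁)⁻¹ := by
      have p1 : c₁ * k₁ * (c₂ * k₂) = c₁ * c₂ * (k₁ * k₂) := by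
        rw [mul_assoc c₁ k₁, ← mul_assoc k₁ c₂, a2 k₁]
        simp only [mul_assoc]
      have p2 : c₂ * k₂ * (c₁ * k₁) = c₁ * c₂ * (k₂ * k₁) := by
        rw [mul_assoc c₂ k₂, ← mul_assoc k₂ c₁, a1 k₂, ← a1 c₂]
        simp only [mul_assoc]
      have p3 : ∀ g, c₁ * c₂ * g = g * (c₁ * c₂) := fun g =>
        (Subgroup.mem_center_iff.mp (Subgroup.mul_mem _ hc₁ hc₂) g).symm
      rw [p1, p2, p3, p3, mul_inv_rev]
      group
    rw [e]
    exact K.mul_mem (K.mul_mem hk₁ hk₂) (K.inv_mem (K.mul_mem hk₂ hk₁))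
  have h1 : Z = 1 := Subgroup.disjoint_def.mp hK.disjoint hZ hZK
  have h00 := congrFun (congrFun (congrArg Subtype.val h1) 0) 0
  exact hw (Units.ext (by simpa [Z] using h00))

end Cfsg.Agent.S2738
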