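import Cfsg.Statements.S2752
import Cfsg.Agent.Lib.S3Free.TwoBound

set_option autoImplicit false
universe u
open Cfsg

namespace Cfsg.Agent.S2752

open CfsgLib.S3Free CfsgLib.OffenderTwo

set_option maxHeartbeats 1000000

variable {X : Type u} [Group X] {V : Type u} [CommGroup V]

/-- The action on the characters. -/
noncomputable def dual (φ : X →* MulAut V) : X →* MulAut (V →* ℂˣ) :=
  MonoidHom.mk' (fun g =>
    { toFun := fun f => f.comp (φ g)⁻¹.toMonoidHom
      invFun := fun f => f.comp (φ g).toMonoidHom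
      left_inv := fun f => MonoidHom.ext fun v => by
        show f ((φ g)⁻¹ (φ g v)) = f v
        rw [MulAut.inv_apply_self]
      right_inv := fun f => MonoidHom.ext fun v => by
        show f (φ g ((φ g)⁻¹ v)) = f v
        rw [MulAut.apply_inv_self]
      map_mul' := fun f f' => MonoidHom.ext fun v => rfl })
    (fun g h => MulEquiv.ext fun f => MonoidHom.ext fun v => by
      show f ((φ (g * h))⁻¹ v) = f ((φ h)⁻¹ ((φ g)⁻¹ v))
      rw [map_mul, mul_inv_rev, MulAut.mul_apply])

/-- Let M be an elementary abelian 2-subgroup of a finite group L and G a subgroup of L acting faithfully on M by conjugation (G normalizes M and meets C(M) trivially). Assume O₂(G) = 1, the symmetric group of degree 3 is not involved in G, and every non-abelian composition factor of G is a Suzuki group Sz(2^(2n+1)) or a group PSL₂(3^(2n+1)). Then every elementary abelian 2-subgroup A of G satisfies |M / C_M(A)| ≥ |A|² and |[M, A]| ≥ |A|². -/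
theorem result {L : Type u} [Group L] [Finite L] (M G : Subgroup L) (hM : Cfsg.IsElementaryAbelian 2 M) (hGM : G ≤ Subgroup.normalizer (M : Set L)) (hf : G ⊓ Subgroup.centralizer (M : Set L) = ⊥) (ha : Cfsg.pCore 2 ↥G = ⊥) (hb : ¬ Cfsg.Involves (Equiv.Perm (Fin 3)) ↥G) (hc : Cfsg.IsCompositionKGroupWith Cfsg.IsSuzukiOrPSL2OddPowerThree ↥G) (A : Subgroup L) (hA : A ≤ G) (hAe : Cfsg.IsElementaryAbelian 2 A) : Nat.card A ^ 2 * Nat.card ↥(M ⊓ Subgroup.centralizer (A : Set L)) ≤ Nat.card M ∧ Nat.card A ^ 2 ≤ Nat.card ↥⁅M, A⁆ := by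
  classical
  obtain ⟨hMc, hM2⟩ := hM
  obtain ⟨hAc, hA2⟩ := hAe
  letI : CommGroup M := { (inferInstance : Group M) with mul_comm := fun a b => hMc.1.comm a b }
  let φ : G →* MulAut M := M.normalizerMonoidHom.comp (Subgroup.inclusion hGM)
  have hφ : ∀ (g : G) (v : M), ((φ g v : M) : L) = (g : L) * v * (g : L)⁻¹ := fun g v => rfl
  have h2 : ∀ v : M, v * v = 1 := fun v => Subtype.ext (by
    show (v : L) * v = 1
    rw [← sq]; exact hM2 v v.2)
  have hinj : Function.Injective φ := by
    refine (injective_iff_map_eq_one φ).2 fun g hg => Subtype.ext ?_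
    have : (g : L) ∈ G ⊓ Subgroup.centralizer (M : Set L) := by
      refine ⟨g.2, fun v hv => ?_⟩
      have h := congrArg Subtype.val (MulEquiv.congr_fun hg ⟨v, hv⟩)
      rw [hφ] at h
      exact (mul_inv_eq_iff_eq_mul.1 h).symm
    rw [hf, Subgroup.mem_bot] at this
    exact this
  set B : Subgroup G := A.subgroupOf G
  have hB : ∀ b ∈ B, b * b = 1 := fun b hb => Subtype.ext (by
    show (b : L) * b = 1
    rw [← sq]; exact hA2 b hb)
  have hcardB : Nat.card B = Nat.card A := Nat.card_congr (Subgroup.subgroupOfEquivOfLe hA).toEquiv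
  constructor
  · have hfix : (fix φ B).map M.subtype = M ⊓ Subgroup.centralizer (A : Set L) := by
      ext x
      constructor
      · rintro ⟨v, hv, rfl⟩
        refine ⟨v.2, fun a ha => ?_⟩
        have h := congrArg Subtype.val (hv ⟨a, hA ha⟩ ha)
        rw [hφ] at h
        exact mul_inv_eq_iff_eq_mul.1 h
      · intro hx
        refine ⟨⟨x, hx.1⟩, fun b hb => Subtype.ext ?_, rfl⟩
        rw [hφ]
        exact mul_inv_eq_iff_eq_mul.2 (hx.2 b hb)
    have key := TwoF.sq_bound hb ha hc hinj h2 hB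
    rw [hcardB, ← Subgroup.card_map_of_injective M.subtype_injective, hfix] at key
    exact key
  · haveI : Finite (M →* ℂˣ) := by
      haveI : NeZero ((Monoid.exponent M : ℕ) : ℂ) := ⟨Nat.cast_ne_zero.2 Monoid.exponent_ne_zero_of_finite⟩
      exact Nat.finite_of_card_ne_zero
        ((CommGroup.card_monoidHom_of_hasEnoughRootsOfUnity M ℂ).trans_ne Nat.card_pos.ne')
    have hinjd : Function.Injective (dual φ) := by
      refine (injective_iff_map_eq_one _).2 fun g hg => hinj ?_
      rw [map_one]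
      refine inv_eq_one.1 (MulEquiv.ext fun v => ?_)
      rw [MulAut.one_apply]
      by_contra hne
      haveI : NeZero ((Monoid.exponent M : ℕ) : ℂ) := ⟨Nat.cast_ne_zero.2 Monoid.exponent_ne_zero_of_finite⟩
      obtain ⟨χ, hχ⟩ := CommGroup.exists_apply_ne_one_of_hasEnoughRootsOfUnity M ℂ
        (a := (φ g)⁻¹ v / v) (fun e => hne (div_eq_one.1 e))
      refine hχ ?_
      have h := DFunLike.congr_fun (MulEquiv.congr_fun hg χ) v
      change χ ((φ g)⁻¹ v) = χ v at h
      rw [map_div, h, div_self']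
    have h2d : ∀ f : M →* ℂˣ, f * f = 1 := fun f => MonoidHom.ext fun v => by
      show f v * f v = 1
      rw [← map_mul, h2, map_one]
    have key := TwoF.sq_bound (φ := dual φ) hb ha hc hinjd (fun f => h2d f) hB
    rw [hcardB] at key
    set N : Subgroup M := (⁅M, A⁆).subgroupOf M
    have hMA : ⁅M, A⁆ ≤ M := by
      rw [Subgroup.commutator_le]
      intro v hv a ha
      rw [commutatorElement_def]
      have h1 : a * v⁻¹ * a⁻¹ ∈ M := (Subgroup.mem_normalizer_iff.1 (hGM (hA ha)) _).1 (M.inv_mem hv)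
      simpa [mul_assoc] using M.mul_mem hv h1
    have hN : Nat.card N = Nat.card ↥⁅M, A⁆ := Nat.card_congr (Subgroup.subgroupOfEquivOfLe hMA).toEquiv
    let res : (M ⧸ N →* ℂˣ) → fix (dual φ) B := fun f => ⟨f.comp (QuotientGroup.mk' N), fun b hb =>
      MonoidHom.ext fun v => by
        show f (QuotientGroup.mk' N ((φ b)⁻¹ v)) = f (QuotientGroup.mk' N v)
        congr 1
        refine QuotientGroup.eq.2 ?_
        set w := (φ b)⁻¹ v
        have e : φ b w = v := MulAut.apply_inv_self _ _ _
        show ((w⁻¹ * v : M) : L) ∈ ⁅M, A⁆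
        have h1 := Subgroup.commutator_mem_commutator (M.inv_mem w.2) hb
        rw [← e, Subgroup.coe_mul, hφ, Subgroup.coe_inv]
        rw [commutatorElement_def, inv_inv] at h1
        simpa [mul_assoc] using h1⟩
    have hres : Function.Injective res := fun f f' h => by
      refine MonoidHom.ext fun x => ?_
      obtain ⟨v, rfl⟩ := QuotientGroup.mk'_surjective N x
      exact DFunLike.congr_fun (congrArg Subtype.val h) v
    have hle := Nat.card_le_card_of_injective res hres
    haveI : NeZero ((Monoid.exponent (M ⧸ N) : ℕ) : ℂ) :=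
      ⟨Nat.cast_ne_zero.2 Monoid.exponent_ne_zero_of_finite⟩
    rw [CommGroup.card_monoidHom_of_hasEnoughRootsOfUnity (M ⧸ N) ℂ] at hle
    haveI : NeZero ((Monoid.exponent M : ℕ) : ℂ) := ⟨Nat.cast_ne_zero.2 Monoid.exponent_ne_zero_of_finite⟩
    rw [CommGroup.card_monoidHom_of_hasEnoughRootsOfUnity M ℂ, Subgroup.card_eq_card_quotient_mul_card_subgroup N, hN] at key
    have h1 : Nat.card A ^ 2 * Nat.card (M ⧸ N) ≤ Nat.card (M ⧸ N) * Nat.card ↥⁅M, A⁆ :=
      le_trans (Nat.mul_le_mul (le_refl _) hle) key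
    rw [mul_comm (Nat.card (M ⧸ N)) (Nat.card ↥⁅M, A⁆)] at h1
    exact Nat.le_of_mul_le_mul_right h1 Nat.card_pos

end Cfsg.Agent.S2752
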