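import Cfsg.Statements.S2756
import Cfsg.Agent.Lib.RealQuad.TwoClosed

set_option autoImplicit false
open Cfsg

namespace Cfsg.Agent.S2756

/-- For a finite group G the following are equivalent: (a) G has a normal Sylow 2-subgroup; (b) for every odd prime q dividing the order of G and every Sylow q-subgroup T, the normalizer of Z(J(T)) has a normal Sylow 2-subgroup; (c) for every odd prime q and every Sylow q-subgroup T, no nonidentity element of T is inverted by an element of the normalizer of Z(J(T)). Here J(T) is the Thompson subgroup generated by the abelian subgroups of T of largest order. Stated as the two equivalences (a) ⇔ (b) and (a) ⇔ (c). -/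
theorem result {G : Type*} [Group G] [Finite G] : ((∀ P : Sylow 2 G, (P : Subgroup G).Normal) ↔ ∀ (q : ℕ) [Fact q.Prime], q ≠ 2 → q ∣ Nat.card G → ∀ T : Sylow q G, ∀ P : Sylow 2 ↥(Subgroup.normalizer (Cfsg.centerThompsonAOf (T : Subgroup G) : Set G)), (P : Subgroup ↥(Subgroup.normalizer (Cfsg.centerThompsonAOf (T : Subgroup G) : Set G))).Normal) ∧ ((∀ P : Sylow 2 G, (P : Subgroup G).Normal) ↔ ∀ (q : ℕ) [Fact q.Prime], q ≠ 2 → ∀ T : Sylow q G, ∀ x ∈ (T : Subgroup G), x ≠ 1 → ∀ g ∈ Subgroup.normalizer (Cfsg.centerThompsonAOf (T : Subgroup G) : Set G), g * x * g⁻¹ ≠ x⁻¹) := by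
  have hodd : ∀ (q : ℕ) [Fact q.Prime], q ≠ 2 → ∀ T : Sylow q G, ∀ x ∈ (T : Subgroup G), Odd (orderOf x) := by
    intro q hq hq2 T x hx
    obtain ⟨k, hk⟩ := T.2 ⟨x, hx⟩
    exact ((hq.out.odd_of_ne_two hq2).pow).of_dvd_nat (orderOf_dvd_of_pow_eq_one (congrArg Subtype.val hk))
  have key : (∀ (q : ℕ) [Fact q.Prime], q ≠ 2 → q ∣ Nat.card G → ∀ T : Sylow q G, ∀ x ∈ (T : Subgroup G), x ≠ 1 →
      ∀ g ∈ Subgroup.normalizer (Cfsg.centerThompsonAOf (T : Subgroup G) : Set G), g * x * g⁻¹ ≠ x⁻¹) →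
      ∀ P : Sylow 2 G, (P : Subgroup G).Normal := by
    intro h
    by_contra hne
    obtain ⟨q, hq, hq2, hqd, hR⟩ := CfsgLib.RealQuad.exists_rl hne
    haveI : Fact q.Prime := ⟨hq⟩
    obtain ⟨T⟩ := (inferInstance : Nonempty (Sylow q G))
    obtain ⟨x, hx, hx1, g, hg, e⟩ := CfsgLib.RealQuad.exists_inverted_normalizer hq2 T hR
    exact h q hq2 hqd T x hx hx1 g hg e
  have hTN : ∀ (q : ℕ) [Fact q.Prime] (T : Sylow q G), (T : Subgroup G) ≤
      Subgroup.normalizer (Cfsg.centerThompsonAOf (T : Subgroup G) : Set G) := fun q _ T =>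
    Subgroup.le_normalizer.trans (CfsgLib.ZJ.normalizer_le_normalizer_centerThompsonAOf _)
  refine ⟨⟨fun h q _ _ _ T P => CfsgLib.RealQuad.sylow_two_normal_sub h _ P, fun h => key ?_⟩,
    ⟨fun h q _ hq2 T x hx hx1 g hg e => ?_, fun h => key fun q _ hq2 _ T => h q hq2 T⟩⟩
  · intro q _ hq2 hqd T x hx hx1 g hg e
    exact hx1 (CfsgLib.RealQuad.not_inverted (h q hq2 hqd T) (hTN q T hx) hg (hodd q hq2 T x hx) e)
  · exact hx1 (CfsgLib.RealQuad.not_inverted (fun P => CfsgLib.RealQuad.sylow_two_normal_sub h _ P) (hTN q T hx) hg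
      (hodd q hq2 T x hx) e)

end Cfsg.Agent.S2756
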