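import Cfsg.Statements.S2760
import Cfsg.Agent.Lib.CharP
import Cfsg.Agent.Lib.PComplement

set_option autoImplicit false
set_option linter.unusedVariables false
open Cfsg
open scoped commutatorElement

namespace Cfsg.Agent.S2760

/-- Let G be a finite group with C_G(O₂(G)) ≤ O₂(G) and H a subgroup of G such that H is normal in G, or the subgroup O²(H) generated by the elements of H of odd order is normal in G. Then C_H(O₂(H)) ≤ O₂(H). -/
theorem result {G : Type*} [Group G] [Finite G] (hchar : Subgroup.centralizer (Cfsg.pCore 2 G : Set G) ≤ Cfsg.pCore 2 G) (H : Subgroup G) (hH : H.Normal ∨ ((Cfsg.pResidual 2 ↥H).map H.subtype).Normal) : Subgroup.centralizer (Cfsg.pCore 2 ↥H : Set ↥H) ≤ Cfsg.pCore 2 ↥H := by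
  rcases hH with hH | hH
  · haveI : Fact (Nat.Prime 2) := ⟨Nat.prime_two⟩
    exact CfsgLib.CharP.charP_of_pCore_le_normalizer hchar H (Subgroup.normalizer_eq_top (H := H) ▸ le_top)
  haveI : Fact (Nat.Prime 2) := ⟨Nat.prime_two⟩
  set L := Cfsg.pResidual 2 ↥H with hL
  have h1 := CfsgLib.CharP.charP_of_pCore_le_normalizer hchar (L.map H.subtype) (by
    haveI := hH
    rw [Subgroup.normalizer_eq_top]
    exact le_top)
  have h2 : Subgroup.centralizer (Cfsg.pCore 2 ↥L : Set ↥L) ≤ Cfsg.pCore 2 ↥L :=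
    CfsgLib.CharP.charP_congr (L.equivMapOfInjective H.subtype H.subtype_injective).symm h1
  set O := Cfsg.pCore 2 ↥H with hO
  haveI : O.Normal := Subgroup.sSup_normal _ (fun _ h => h.1)
  refine CfsgLib.le_pCore (N := Subgroup.centralizer (O : Set ↥H)) fun ⟨x, hx⟩ => ?_
  obtain ⟨k, hk⟩ := CfsgLib.exists_pow_mem_pResidual (p := 2) x
  refine ⟨k + (orderOf x).factorization 2, Subtype.ext ?_⟩
  set y := x ^ 2 ^ (k + (orderOf x).factorization 2) with hy
  show y = 1
  have hyo : (orderOf y).Coprime 2 := by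
    refine Nat.Coprime.coprime_dvd_left ?_ (Nat.coprime_ordCompl Nat.prime_two (orderOf_pos x).ne').symm
    rw [hy]
    refine orderOf_dvd_of_pow_eq_one ?_
    rw [← pow_mul, pow_add, mul_assoc, Nat.ordProj_mul_ordCompl_eq_self, mul_comm, pow_mul, pow_orderOf_eq_one, one_pow]
  have hyL : y ∈ L := CfsgLib.mem_pResidual hyo
  have := CfsgLib.CharP.eq_one_of_centralizes_pCore (G := ↥L) h2 (x := ⟨y, hyL⟩) (by rwa [← Subgroup.orderOf_coe]) (fun r hr => by
    refine Subtype.ext ?_
    have hrO : (r : ↥H) ∈ O := CfsgLib.map_pCore_le 2 L ⟨r, hr, rfl⟩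
    exact ((Subgroup.pow_mem _ hx _ : y ∈ Subgroup.centralizer (O : Set ↥H)) r hrO).symm)
  exact congrArg Subtype.val this

end Cfsg.Agent.S2760
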