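import Cfsg.Statements.S2762
import Cfsg.Agent.Lib.QdOver
-- import your own Cfsg.Agent.* helpers here

set_option autoImplicit false
open Cfsg

namespace Cfsg.Agent.S2762

/-- Structure of Qd over a finite field F of characteristic p (the affine subgroup of SL₃(F)): its largest normal p-subgroup is the group of translations (matrices with upper-left block the identity), the block-diagonal matrices form a complement isomorphic to SL₂(F), and the translation subgroup is a natural SL₂(F)-module for that complement. -/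
theorem result {F : Type*} [Field F] [Fintype F] {p : ℕ} [Fact p.Prime] [CharP F p] : (∀ M : ↥(Cfsg.qdOver F), M ∈ Cfsg.pCore p ↥(Cfsg.qdOver F) ↔ ((M : Matrix.SpecialLinearGroup (Fin 3) F) : Matrix (Fin 3) (Fin 3) F) 0 0 = 1 ∧ ((M : Matrix.SpecialLinearGroup (Fin 3) F) : Matrix (Fin 3) (Fin 3) F) 0 1 = 0 ∧ ((M : Matrix.SpecialLinearGroup (Fin 3) F) : Matrix (Fin 3) (Fin 3) F) 1 0 = 0 ∧ ((M : Matrix.SpecialLinearGroup (Fin 3) F) : Matrix (Fin 3) (Fin 3) F) 1 1 = 1) ∧ ∃ K : Subgroup ↥(Cfsg.qdOver F), (∀ M : ↥(Cfsg.qdOver F), M ∈ K ↔ ((M : Matrix.SpecialLinearGroup (Fin 3) F) : Matrix (Fin 3) (Fin 3) F) 0 2 = 0 ∧ ((M : Matrix.SpecialLinearGroup (Fin 3) F) : Matrix (Fin 3) (Fin 3) F) 1 2 = 0) ∧ K ⊓ Cfsg.pCore p ↥(Cfsg.qdOver F) = ⊥ ∧ K ⊔ Cfsg.pCore p ↥(Cfsg.qdOver F) = ⊤ ∧ Nonempty (↥K ≃* Matrix.SpecialLinearGroup (Fin 2) F) ∧ Cfsg.IsNaturalSL2Module F (Cfsg.pCore p ↥(Cfsg.qdOver F)) K := by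
  classical
  rw [CfsgLib.QdOver.pCore_eq]
  refine ⟨CfsgLib.QdOver.ker_iff, (CfsgLib.QdOver.blk (F := F)).range, CfsgLib.QdOver.blk_mem_iff, ?_, ?_,
    ⟨(MonoidHom.ofInjective (Function.LeftInverse.injective CfsgLib.QdOver.lin_blk)).symm⟩, ?_⟩
  · rw [eq_bot_iff]
    rintro M ⟨⟨A, rfl⟩, hA⟩
    have h1 : A = 1 := (CfsgLib.QdOver.lin_blk A).symm.trans (MonoidHom.mem_ker.mp hA)
    rw [h1, map_one]
    exact Subgroup.mem_bot.mpr rfl
  · rw [eq_top_iff]
    intro M _
    have h1 : M = CfsgLib.QdOver.blk (CfsgLib.QdOver.lin M) *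
        ((CfsgLib.QdOver.blk (CfsgLib.QdOver.lin M))⁻¹ * M) := by group
    rw [h1]
    refine Subgroup.mul_mem_sup ⟨_, rfl⟩ ?_
    rw [MonoidHom.mem_ker, map_mul, map_inv, CfsgLib.QdOver.lin_blk, inv_mul_cancel]
  · refine ⟨?_, (CfsgLib.QdOver.lin).comp (CfsgLib.QdOver.blk (F := F)).range.subtype, CfsgLib.QdOver.kerEquiv,
      fun A => ⟨⟨CfsgLib.QdOver.blk A, A, rfl⟩, CfsgLib.QdOver.lin_blk A⟩, ?_, fun l v => ?_⟩
    · rw [Subgroup.normalizer_eq_top]
      exact le_top
    · ext ⟨K, hK⟩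
      rw [MonoidHom.mem_ker, MonoidHom.comp_apply, Subgroup.subtype_apply, Subgroup.mem_subgroupOf,
        Subgroup.mem_centralizer_iff]
      constructor
      · intro h1
        obtain ⟨A, rfl⟩ := hK
        rw [CfsgLib.QdOver.lin_blk] at h1
        subst h1
        intro M _
        show M * CfsgLib.QdOver.blk 1 = CfsgLib.QdOver.blk 1 * M
        rw [map_one, one_mul, mul_one]
      · intro h1
        have key : ∀ a : Fin 2 → F, (CfsgLib.QdOver.lin K).1.mulVec a = a := by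
          intro a
          obtain ⟨e0, e1⟩ := CfsgLib.QdOver.conj_ker K (CfsgLib.QdOver.tr a) (CfsgLib.QdOver.tr_mem a)
          rw [← h1 _ (CfsgLib.QdOver.tr_mem a), mul_inv_cancel_right] at e0 e1
          have ea : (![(CfsgLib.QdOver.tr a).1.1 0 2, (CfsgLib.QdOver.tr a).1.1 1 2] : Fin 2 → F) = a := by
            ext i
            fin_cases i <;> rfl
          rw [ea] at e0 e1
          ext i
          fin_cases i
          · exact e0.symm
          · exact e1.symm
        apply Subtype.ext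
        ext i j
        have h2 := congrFun (key (Pi.single j 1)) i
        rw [Matrix.mulVec_single_one] at h2
        refine h2.trans ?_
        fin_cases i <;> fin_cases j <;> rfl
    · refine ⟨⟨(l : Cfsg.qdOver F) * v * (l : Cfsg.qdOver F)⁻¹,
        (MonoidHom.normal_ker _).conj_mem _ v.2 _⟩, rfl, ?_⟩
      obtain ⟨e0, e1⟩ := CfsgLib.QdOver.conj_ker (l : Cfsg.qdOver F) v v.2
      ext i
      fin_cases i
      · exact e0
      · exact e1

end Cfsg.Agent.S2762
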