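import Cfsg.Statements.S2764
import Cfsg.Agent.Lib.PushUp.Summary

set_option autoImplicit false
open Cfsg CfsgLib.PushUp CfsgLib.PushRankOne

namespace Cfsg.Agent.S2764

/-- Pushing up for a rank-one quotient: let G be a finite group and p a prime with C_G(O_p(G)) ≤ O_p(G), suppose G/K ≅ PSL₂(p^n) for some normal subgroup K and some n ≥ 1, that a Sylow p-subgroup S of G lies in exactly one maximal subgroup of G, and that no nontrivial characteristic subgroup of S is normal in G. Then G/O_p(G) ≅ SL₂(p^n), and every noncentral chief factor U/W of G inside O_p(G) is a natural SL₂-module over the field with p^n elements for the action of G/W. -/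
theorem result {G : Type*} [Group G] [Finite G] {p : ℕ} [Fact p.Prime] (S : Sylow p G) (hE₁ : Subgroup.centralizer (Cfsg.pCore p G : Set G) ≤ Cfsg.pCore p G) (hE₂ : ∃! M : Subgroup G, IsCoatom M ∧ (S : Subgroup G) ≤ M) (K : Subgroup G) [K.Normal] (F : Type) [Field F] [Fintype F] (n : ℕ) (hn : 1 ≤ n) (hF : Fintype.card F = p ^ n) (hE₃ : Nonempty (G ⧸ K ≃* Matrix.ProjectiveSpecialLinearGroup (Fin 2) F)) (hd : ∀ T : Subgroup ↥(S : Subgroup G), T ≠ ⊥ → T.Characteristic → ¬ (T.map (S : Subgroup G).subtype).Normal) : Nonempty (G ⧸ Cfsg.pCore p G ≃* Matrix.SpecialLinearGroup (Fin 2) F) ∧ ∀ (U W : Subgroup G) [W.Normal], U ≤ Cfsg.pCore p G → Cfsg.IsChiefFactor U W → ¬ ⁅U, (⊤ : Subgroup G)⁆ ≤ W → Cfsg.IsNaturalSL2Module F (U.map (QuotientGroup.mk' W)) (⊤ : Subgroup (G ⧸ W)) := by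
  classical
  obtain ⟨e⟩ := hE₃
  haveI : CharP F p := charP_of_card_eq_prime_pow (f := n) hF
  have hS := setting S hE₁ hE₂ K F n hn hF ⟨e⟩
  have hd' : NoChar (S : Subgroup G) := noChar_of hd
  have hm := hd'.mild hS
  have hf : Function.Surjective (e.toMonoidHom.comp (QuotientGroup.mk' K)) :=
    e.surjective.comp (QuotientGroup.mk'_surjective K)
  obtain ⟨g, hg⟩ := exists_opp hS hE₂ (sylowShape p) _ hf
  rcases dichotomy hS hd' ⟨g, hg⟩ with ⟨A, hA⟩ | ⟨T', X, Y, A, C, D, hT⟩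
  · obtain ⟨f, hC⟩ := exists_coords_of hS hE₂ _ hf hg ⟨g, rfl⟩
    obtain ⟨ρ, φ, hsect, hρ, hρS, -, -⟩ := exists_sect_vmod hS hm hg ⟨g, rfl⟩ hC
    have hker := hA.exists_kernel hS hm hC hsect hρS
    exact ⟨quotient_equiv hρ hker, fun U W _ hU hUW hnc => hA.natural hS hm hsect hρ hker hU hUW hnc⟩
  · obtain ⟨f, hC⟩ := exists_coords_of hS hE₂ _ hf hT.opp hT.conj
    obtain ⟨ρ, φ, hsect, hρ, hρS, hρT, -⟩ := exists_sect_vmod hS hm hT.opp hT.conj hC
    obtain ⟨ρ', φ', hsect', -, hρS', hρT', -⟩ := hT.exists_sect_core hS hm hC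
    obtain rfl := hT.rho_eq hS hm hC hρS hρT hρS' hρT'
    have hker := hT.exists_kernel hS hm hC hsect hsect' hρS
    exact ⟨quotient_equiv hρ hker, fun U W _ hU hUW hnc => hT.natural hS hm hsect hsect' hρ hker hU hUW hnc⟩

end Cfsg.Agent.S2764
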