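import Cfsg.Statements.S2765
import Cfsg.Agent.Lib.PushUp.Summary

set_option autoImplicit false
open Cfsg CfsgLib.PushUp CfsgLib.PushRankOne

namespace Cfsg.Agent.S2765

/-- In the same pushing-up situation (G finite, C_G(O_p(G)) ≤ O_p(G), G/K ≅ PSL₂(p^n) with n ≥ 1, a Sylow p-subgroup S in exactly one maximal subgroup, no nontrivial characteristic subgroup of S normal in G), one of the following holds: (I) S has nilpotency class 2, exponent 4 if p = 2 and exponent p otherwise, and G has exactly one noncentral chief factor inside O_p(G); or (II) p = 3, S has class 3 and exponent 9, and G has exactly two noncentral chief factors inside O_p(G). 'Exactly one' is phrased as: some noncentral chief factor U/W inside O_p(G) with G acting hypercentrally on W and on O_p(G)/U; 'exactly two' analogously with a chain. -/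
theorem result {G : Type*} [Group G] [Finite G] {p : ℕ} [Fact p.Prime] (S : Sylow p G) (hE₁ : Subgroup.centralizer (Cfsg.pCore p G : Set G) ≤ Cfsg.pCore p G) (hE₂ : ∃! M : Subgroup G, IsCoatom M ∧ (S : Subgroup G) ≤ M) (K : Subgroup G) [K.Normal] (F : Type) [Field F] [Fintype F] (n : ℕ) (hn : 1 ≤ n) (hF : Fintype.card F = p ^ n) (hE₃ : Nonempty (G ⧸ K ≃* Matrix.ProjectiveSpecialLinearGroup (Fin 2) F)) (hd : ∀ T : Subgroup ↥(S : Subgroup G), T ≠ ⊥ → T.Characteristic → ¬ (T.map (S : Subgroup G).subtype).Normal) : ((S : Subgroup G).lowerCentralSeries 2 = ⊥ ∧ (S : Subgroup G).lowerCentralSeries 1 ≠ ⊥ ∧ (p = 2 → Monoid.exponent ↥(S : Subgroup G) = 4) ∧ (p ≠ 2 → Monoid.exponent ↥(S : Subgroup G) = p) ∧ (∃ U W : Subgroup G, W ≤ U ∧ U ≤ (Cfsg.pCore p G) ∧ Cfsg.IsChiefFactor U W ∧ ¬ ⁅U, (⊤ : Subgroup G)⁆ ≤ W ∧ (∃ k : ℕ, Cfsg.iterCommutator W ⊤ k = ⊥) ∧ (∃ k : ℕ, Cfsg.iterCommutator (Cfsg.pCore p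 G) ⊤ k ≤ U))) ∨ (p = 3 ∧ (S : Subgroup G).lowerCentralSeries 3 = ⊥ ∧ (S : Subgroup G).lowerCentralSeries 2 ≠ ⊥ ∧ Monoid.exponent ↥(S : Subgroup G) = 9 ∧ (∃ U₁ W₁ U₂ W₂ : Subgroup G, W₁ ≤ U₁ ∧ U₁ ≤ W₂ ∧ W₂ ≤ U₂ ∧ U₂ ≤ (Cfsg.pCore p G) ∧ Cfsg.IsChiefFactor U₁ W₁ ∧ Cfsg.IsChiefFactor U₂ W₂ ∧ ¬ ⁅U₁, (⊤ : Subgroup G)⁆ ≤ W₁ ∧ ¬ ⁅U₂, (⊤ : Subgroup G)⁆ ≤ W₂ ∧ (∃ k : ℕ, Cfsg.iterCommutator W₁ ⊤ k = ⊥) ∧ (∃ k : ℕ, Cfsg.iterCommutator W₂ ⊤ k ≤ U₁) ∧ (∃ k : ℕ, Cfsg.iterCommutator (Cfsg.pCore p G) ⊤ k ≤ U₂))) := by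
  classical
  obtain ⟨e⟩ := hE₃
  haveI : CharP F p := charP_of_card_eq_prime_pow (f := n) hF
  have hS := setting S hE₁ hE₂ K F n hn hF ⟨e⟩
  have hd' : NoChar (S : Subgroup G) := noChar_of hd
  have hm := hd'.mild hS
  have hf : Function.Surjective (e.toMonoidHom.comp (QuotientGroup.mk' K)) :=
    e.surjective.comp (QuotientGroup.mk'_surjective K)
  obtain ⟨g, hg⟩ := exists_opp hS hE₂ (sylowShape p) _ hf
  have hpp : p.Prime := Fact.out
  haveI : (vmod S).Normal := Subgroup.normalClosure_normal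
  haveI := zc_normal (S := S)
  obtain ⟨x, hx, hxQ⟩ := hS.exists_mem
  have hne : (⟨x, hx⟩ : ↥(S : Subgroup G)) ≠ 1 := fun h =>
    hxQ (by rw [show x = 1 from congrArg Subtype.val h]; exact one_mem _)
  rcases dichotomy hS hd' ⟨g, hg⟩ with ⟨A, hA⟩ | ⟨T', X, Y, A, C, D, hT⟩
  · left
    obtain ⟨f, hC⟩ := exists_coords_of hS hE₂ _ hf hg ⟨g, rfl⟩
    obtain ⟨ρ, φ, hsect, hρ, hρS, -, -⟩ := exists_sect_vmod hS hm hg ⟨g, rfl⟩ hC
    refine ⟨hA.lcs_two hS hm hd', hA.lcs_one_ne hS hm, fun hp => ?_, fun hp => ?_,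
      vmod S, zc S, inf_le_left, (vmod_mdl hS hm).le, hsect.isChief hρ inf_le_left, hsect.noncentral hρ,
      ⟨1, zc_iter⟩, exists_iter_le (S := S) hS.core_le (hA.res_Q hS hm)⟩
    · refine Nat.eq_prime_pow_of_dvd_least_prime_pow (k := 1) Nat.prime_two ?_ ?_
      · rw [pow_one, Monoid.exponent_dvd_iff_forall_pow_eq_one]
        exact fun h => hA.not_exp_two hS hm fun s hs => congrArg Subtype.val (h ⟨s, hs⟩)
      · exact Monoid.exponent_dvd_of_forall_pow_eq_one fun s => Subtype.ext (hA.exp_four hS hm hd' hp s.2)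
    · refine ((Nat.dvd_prime hpp).mp (Monoid.exponent_dvd_of_forall_pow_eq_one
        fun s => Subtype.ext (hA.exp_odd hS hm hd' hp s.2))).resolve_left fun h => hne ?_
      have := Monoid.pow_exponent_eq_one (⟨x, hx⟩ : ↥(S : Subgroup G))
      rwa [h, pow_one] at this
  · right
    obtain ⟨f, hC⟩ := exists_coords_of hS hE₂ _ hf hT.opp hT.conj
    obtain ⟨ρ, φ, hsect, hρ, hρS, hρT, -⟩ := exists_sect_vmod hS hm hT.opp hT.conj hC
    obtain ⟨ρ', φ', hsect', hρ', -⟩ := hT.exists_sect_core hS hm hC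
    haveI := hT.D_normal hS hm
    refine ⟨hT.p_eq_three hS hm hC, hT.lcs_three hS hm hd', hT.lcs_two_ne hS hm, ?_,
      vmod S, zc S, pCore p G, D, inf_le_left, hT.V_le, hT.D_le, le_rfl, hsect.isChief hρ inf_le_left,
      hsect'.isChief hρ' hT.D_le, hsect.noncentral hρ, hsect'.noncentral hρ', ⟨1, zc_iter⟩,
      exists_iter_le (S := S) (hT.D_le.trans hS.core_le) (hT.res_D hS hm), ⟨0, le_rfl⟩⟩
    refine Nat.eq_prime_pow_of_dvd_least_prime_pow (p := 3) (k := 1) Nat.prime_three ?_ ?_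
    · rw [pow_one, Monoid.exponent_dvd_iff_forall_pow_eq_one]
      obtain ⟨s, hs, hs3⟩ := hT.exp_not_three hS hm hC
      exact fun h => hs3 (congrArg Subtype.val (h ⟨s, hs⟩))
    · exact Monoid.exponent_dvd_of_forall_pow_eq_one fun s => Subtype.ext (hT.pow_nine hS hm hC hd' s.2)

end Cfsg.Agent.S2765
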