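import Cfsg.Statements.S2766
import Cfsg.Agent.Lib.PushPair.MaxLocal
import Cfsg.Agent.Lib.PushPair.Split

set_option autoImplicit false
open Cfsg Subgroup CfsgLib.PushUp CfsgLib.PushPair CfsgLib.PushRankOne
open scoped commutatorElement

namespace Cfsg.Agent.S2766

/-- Let p ≥ 5 be prime and G a maximal p-local subgroup of a finite group H (G is the normalizer of a nontrivial p-subgroup and lies in no other such normalizer). Suppose C_G(O_p(G)) ≤ O_p(G), G/K ≅ PSL₂(p^n) for some normal K and n ≥ 1, a Sylow p-subgroup S of G lies in exactly one maximal subgroup of G, and N_H(S) is not contained in G. Then G = G₀ × E for subgroups G₀ ≅ Qd(p^n) (the natural semidirect product of the plane over the field with p^n elements by SL₂) and E an elementary abelian p-group. -/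
theorem result {H : Type*} [Group H] [Finite H] {p : ℕ} [Fact p.Prime] (hp : 5 ≤ p) (G : Subgroup H) (hloc : ∃ R : Subgroup H, IsPGroup p ↥R ∧ R ≠ ⊥ ∧ G = Subgroup.normalizer (R : Set H)) (hmax : ∀ R : Subgroup H, IsPGroup p ↥R → R ≠ ⊥ → G ≤ Subgroup.normalizer (R : Set H) → Subgroup.normalizer (R : Set H) = G) (S : Sylow p ↥G) (hE₁ : Subgroup.centralizer (Cfsg.pCore p ↥G : Set ↥G) ≤ Cfsg.pCore p ↥G) (hE₂ : ∃! M : Subgroup ↥G, IsCoatom M ∧ (S : Subgroup ↥G) ≤ M) (K : Subgroup ↥G) [K.Normal] (F : Type) [Field F] [Fintype F] (n : ℕ) (hn : 1 ≤ n) (hF : Fintype.card F = p ^ n) (hE₃ : Nonempty (↥G ⧸ K ≃* Matrix.ProjectiveSpecialLinearGroup (Fin 2) F)) (hN : ¬ Subgroup.normalizer (((S : Subgroup ↥G).map G.subtype : Subgroup H) : Set H) ≤ G) : ∃ G₀ E : Subgroup H, Cfsg.IsInternalDirectProduct G₀ E G ∧ Cfsg.IsElementaryAbelian p E ∧ Nonempty (↥G₀ ≃* ↥(Cfsg.qdOver F)) := by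
  haveI : CharP F p := charP_of_card_eq_prime_pow (f := n) hF
  have hS : Setting S := setting S hE₁ hE₂ K F n hn hF hE₃
  obtain ⟨e⟩ := hE₃
  set f₀ := e.toMonoidHom.comp (QuotientGroup.mk' K)
  have hf₀ : Function.Surjective f₀ := e.surjective.comp (QuotientGroup.mk'_surjective K)
  haveI : Finite (Matrix.ProjectiveSpecialLinearGroup (Fin 2) F) := Quotient.finite _
  have hopp := CfsgLib.PushUp.exists_opp hS hE₂ (sylowShape (F := F) p) f₀ hf₀
  have hmax' : ∀ X : Subgroup G, X.Normal → IsPGroup p X → X ≠ ⊥ → normalizer (up X : Set H) ≤ G := by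
    intro X hX hXp hne
    refine (hmax (up X) (hXp.map _) ?_ ?_).le
    · rwa [Ne, Subgroup.map_eq_bot_iff_of_injective _ G.subtype_injective]
    · intro g hg
      exact Subgroup.le_normalizer_map G.subtype ⟨⟨g, hg⟩, norm_of_normal X _, rfl⟩
  obtain ⟨n₀, hn₀, hn₀G⟩ := SetLike.not_le_iff_exists.mp hN
  have hNC : NoChar (S : Subgroup G) := by
    intro X hXS hne hinv hXn
    have hmem : ∀ s : (S : Subgroup G), ∃ y : (S : Subgroup G), ((y : G) : H) = n₀ * ((s : G) : H) * n₀⁻¹ :=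
      fun s => by
        obtain ⟨y, hy, he⟩ := CfsgLib.PushUp.conj_mem hn₀
          (show ((s : G) : H) ∈ (S : Subgroup G).map G.subtype from ⟨s, s.2, rfl⟩)
        exact ⟨⟨y, hy⟩, he⟩
    choose c hc using hmem
    let φ : (S : Subgroup G) →* (S : Subgroup G) := MonoidHom.mk' c fun a b => Subtype.ext (Subtype.ext (by
      rw [hc]
      simp only [Subgroup.coe_mul, hc]
      group))
    have hφ : Function.Injective φ := fun a b h => by
      have h1 := congrArg (fun z : (S : Subgroup G) => ((z : G) : H)) (show c a = c b from h)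
      simp only [hc, mul_left_inj, mul_right_inj] at h1
      exact Subtype.ext (Subtype.ext h1)
    refine hn₀G (hmax' X hXn (S.isPGroup'.to_le hXS) hne (mem_normalizer_of_conj ?_))
    rintro _ ⟨x, hx, rfl⟩
    exact ⟨c ⟨x, hXS hx⟩, hinv (MulEquiv.ofBijective φ (Finite.injective_iff_bijective.mp hφ)) ⟨x, hXS hx⟩ hx,
      hc ⟨x, hXS hx⟩⟩
  have hd : Mild S := hNC.mild hS
  obtain ⟨⟨A, hA⟩, m, hm, hne⟩ := exists_mover hS hd hp hE₂ ⟨F, inferInstance, inferInstance, inferInstance, f₀, hf₀⟩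
    hopp hmax' hN
  have hQV : pCore p G = vmod S := by
    haveI : (vmod S).Normal := normalClosure_normal
    have F₁ : Flag p (cj (1 : H) G) (cj (1 : H) (up (pCore p G))) (cj (1 : H) (up (vmod S)))
        (up (S : Subgroup G)) := flag_loc hS hd (by simpa only [cj_one] using locEdge_self (S := S) (1 : H))
    simp only [cj_one] at F₁
    have F₂ : Flag p (cj m G) (cj m (up (pCore p G))) (cj m (up (vmod S))) (up (S : Subgroup G)) :=
      flag_loc hS hd (by simpa only [cj_eq_self hm] using locEdge_self (S := S) m)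
    obtain ⟨-, hsup₁, hsup₂, -⟩ := cover F₂ F₁ F₂.V_le_T F₁.V_le_T hne
    set T := up (S : Subgroup G)
    set Q₁ := up (pCore p G) with hQ₁
    set V₁ := up (vmod S)
    set Q₂ := cj m Q₁ with hQ₂
    set V₂ := cj m V₁
    have key : ∀ {H' H'' Q V Q' V' : Subgroup H}, Flag p H' Q V T → Flag p H'' Q' V' T → V ⊔ Q' = T →
        ⁅Q, Q⁆ ≤ ⁅Q ⊓ Q', Q ⊓ Q'⁆ := by
      intro H' H'' Q V Q' V' Fa Fb hsup
      have hsplit : ∀ x ∈ Q, ∃ v ∈ V, ∃ d ∈ Q ⊓ Q', v * d = x := by
        intro x hx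
        obtain ⟨v, hv, d, hd', rfl⟩ := exists_mul' (Fa.V_le_T.trans Fb.T_le_norm_Q) (hsup.ge (Fa.Q_le hx))
        exact ⟨v, hv, d, Subgroup.mem_inf.mpr ⟨by simpa using Q.mul_mem (Q.inv_mem (Fa.V_le hv)) hx, hd'⟩, rfl⟩
      refine Subgroup.commutator_le.mpr fun x hx y hy => ?_
      obtain ⟨v, hv, d, hd', rfl⟩ := hsplit x hx
      obtain ⟨w, hw, d', hd'', rfl⟩ := hsplit y hy
      have c1 : ∀ z ∈ Q, Commute v z := fun z hz => (Fa.V_cent z hz v hv).symm
      have c2 : ∀ z ∈ Q, Commute w z := fun z hz => (Fa.V_cent z hz w hw).symm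
      have e : ⁅v * d, w * d'⁆ = ⁅d, d'⁆ := by
        simp only [commutatorElement_def]
        calc v * d * (w * d') * (v * d)⁻¹ * (w * d')⁻¹
            = v * (d * w * d' * d⁻¹) * v⁻¹ * (w * d')⁻¹ := by group
          _ = (d * w * d' * d⁻¹) * (w * d')⁻¹ := by
              rw [(c1 _ (Q.mul_mem (Q.mul_mem (Q.mul_mem hd'.1 (Fa.V_le hw)) hd''.1) (Q.inv_mem hd'.1))).eq,
                mul_inv_cancel_right]
          _ = d * w * (d' * d⁻¹ * d'⁻¹) * w⁻¹ := by group
          _ = d * (d' * d⁻¹ * d'⁻¹) := by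
              rw [mul_assoc d w, (c2 _ (Q.mul_mem (Q.mul_mem hd''.1 (Q.inv_mem hd'.1)) (Q.inv_mem hd''.1))).eq,
                ← mul_assoc d, mul_inv_cancel_right]
          _ = _ := by group
      rw [e]
      exact Subgroup.commutator_mem_commutator hd' hd''
    have h12 := key F₁ F₂ hsup₁
    have h21 := key F₂ F₁ hsup₂
    have heq : ⁅Q₂, Q₂⁆ ≤ ⁅Q₁, Q₁⁆ := h21.trans (Subgroup.commutator_mono inf_le_right inf_le_right)
    have hbot : ⁅pCore p G, pCore p G⁆ = ⊥ := by
      by_contra hne'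
      have hmN : m ∈ normalizer (up ⁅pCore p G, pCore p G⁆ : Set H) := by
        refine mem_normalizer_of_conj fun x hx => ?_
        change x ∈ Subgroup.map G.subtype _ at hx
        change _ ∈ Subgroup.map G.subtype _
        rw [Subgroup.map_commutator] at hx ⊢
        have h := conj_mem_cj (g := m) hx
        rw [cj, Subgroup.map_commutator] at h
        exact heq h
      have hmG : m ∈ G := hmax' _ (Subgroup.commutator_normal _ _)
        ((S.isPGroup'.to_le hS.core_le).to_le (Subgroup.commutator_le_left _ _)) hne' hmN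
      refine hne ?_
      show cj m (up (vmod S)) ≤ _
      rw [show cj m (up (vmod S)) = up (vmod S) from cj_up ⟨m, hmG⟩]
      exact Subgroup.map_mono (vmod_mdl hS hd).le
    refine le_antisymm ?_ (vmod_mdl hS hd).le
    have hQc : ∀ a ∈ pCore p G, ∀ b ∈ pCore p G, a * b = b * a := fun a ha b hb =>
      commutatorElement_eq_one_iff_mul_comm.mp (Subgroup.mem_bot.mp (hbot ▸ Subgroup.commutator_mem_commutator ha hb))
    have hVQ : vmod S ≤ pCore p G := (vmod_mdl hS hd).le
    have hY : Mdl S (pCore p G) := ⟨inferInstance, le_rfl, hQc, fun v hv q hq => hQc q hq v hv,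
      fun h => (vmod_mdl hS hd).not_cent (h.trans (centralizer_le (SetLike.coe_subset_coe.mpr hVQ))),
      fun h => (vmod_mdl hS hd).not_fix (le_trans (inf_le_inf_right _ hVQ) h)⟩
    obtain ⟨B, hB, hBQ⟩ := hNC.exists_goodMax_outside hS
    obtain ⟨g', -, hN'⟩ := natural_of_good hS hY (e := 0) (fun v _ => pow_zero v) hB hBQ
    obtain ⟨g'', -, hN⟩ := natural_module hS hd (vmod_mdl hS hd) (fun v hv => vmod_pow hS hd hv)
    refine (Subgroup.eq_of_le_of_card_ge hVQ ?_).ge
    refine Nat.le_of_mul_le_mul_left ?_ (Nat.card_pos (α := pCore p G))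
    rw [← hN'.index, ← hN.index]
    refine Nat.mul_le_mul le_rfl (Subgroup.card_le_of_le ?_)
    rw [fx_vmod hS hd]
    exact fun y hy => ⟨hS.core_le hy.1, hy.2⟩
  obtain ⟨g, hg⟩ := hopp
  obtain ⟨f, hC⟩ := exists_coords_of hS hE₂ f₀ hf₀ hg ⟨g, rfl⟩
  obtain ⟨E, Φ, hΦ, hEc, hEp, hinf, hsup⟩ := exists_qd hS hNC (by omega) hA hQV hg ⟨g, rfl⟩ hC
  refine ⟨Φ.range.map G.subtype, E.map G.subtype, ⟨Subgroup.map_subtype_le _, Subgroup.map_subtype_le _, ?_, ?_, ?_⟩,
    ⟨?_, ?_⟩, ?_⟩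
  · rintro _ ⟨a, -, rfl⟩ _ ⟨b, hb, rfl⟩
    rw [← map_mul, ← map_mul, Subgroup.mem_center_iff.mp (hEc hb) a]
  · rw [← Subgroup.map_inf _ _ _ G.subtype_injective, hinf, Subgroup.map_bot]
  · rw [← Subgroup.map_sup, hsup, ← MonoidHom.range_eq_map, Subgroup.range_subtype]
  · constructor
    constructor
    rintro ⟨_, a, -, rfl⟩ ⟨_, b, hb, rfl⟩
    refine Subtype.ext ?_
    show G.subtype a * G.subtype b = G.subtype b * G.subtype a
    rw [← map_mul, ← map_mul, Subgroup.mem_center_iff.mp (hEc hb) a]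
  · rintro _ ⟨a, ha, rfl⟩
    rw [← map_pow, hEp a ha, map_one]
  · have hinj : Function.Injective (G.subtype.comp Φ) := G.subtype_injective.comp hΦ
    exact ⟨(MulEquiv.subgroupCongr (MonoidHom.map_range G.subtype Φ)).trans (MonoidHom.ofInjective hinj).symm⟩

end Cfsg.Agent.S2766
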