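import Cfsg.Statements.S2772
import Cfsg.Agent.S2858
import Cfsg.Agent.Lib.Basic
import Cfsg.Agent.Lib.PReduced

set_option autoImplicit false
set_option linter.unusedVariables false
open Cfsg
open scoped commutatorElement

namespace Cfsg.Agent.S2772

open CfsgLib CfsgLib.S3Amalgam

theorem dihedral_three : Nonempty (DihedralGroup 3 ≃* Equiv.Perm (Fin 3)) := by
  let f : DihedralGroup 3 → Equiv.Perm (Fin 3) := fun x => match x with
    | .r i => (finRotate 3) ^ (ZMod.val i)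
    | .sr i => Equiv.swap 1 2 * (finRotate 3) ^ (ZMod.val i)
  have hmul : ∀ a b, f (a * b) = f a * f b := by decide
  have hinj : ∀ a b, f a = f b → a = b := by decide
  refine ⟨MulEquiv.ofBijective (MonoidHom.mk' f hmul)
    ((Fintype.bijective_iff_injective_and_card _).mpr ⟨fun a b => hinj a b, by decide⟩)⟩

/-- Two conjugate involutory transvections generate a small group. -/
theorem q_eq_three {P : Type*} [Group P] [Finite P] (Q V : Subgroup P) [hQn : Q.Normal] [hVn : V.Normal]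
    {q : ℕ} (hq : q.Prime) (hq2 : q ≠ 2) (φ : P ⧸ Q ≃* DihedralGroup q)
    (hsq : ∀ v ∈ V, v * v = 1)
    (hcent : ∀ g : P, (∀ v ∈ V, g * v = v * g) → g ∈ Q) (w : P) (hw : w ∉ Q) (hw2 : w * w = 1)
    (hyp : ∀ v₁ ∈ V, ∀ v₂ ∈ V, w * v₁ * w ≠ v₁ → w * v₂ * w ≠ v₂ →
      w * (v₁ * v₂) * w = v₁ * v₂) : q = 3 := by
  haveI : Fact q.Prime := ⟨hq⟩
  have hcomm : ∀ a ∈ V, ∀ b ∈ V, a * b = b * a := fun a ha b hb => by
    calc a * b = (a * b)⁻¹ := eq_inv_of_mul_eq_one_left (hsq _ (mul_mem ha hb))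
      _ = b * a := by rw [mul_inv_rev, inv_eq_self (hsq a ha), inv_eq_self (hsq b hb)]
  -- the involution outside is a reflection
  obtain ⟨i, hi⟩ : ∃ i, φ (QuotientGroup.mk w) = DihedralGroup.sr i := by
    cases hx : φ (QuotientGroup.mk w) with
    | sr i => exact ⟨i, rfl⟩
    | r i =>
      exfalso
      have h1 : φ (QuotientGroup.mk w) * φ (QuotientGroup.mk w) = 1 := by
        rw [← map_mul, ← QuotientGroup.mk_mul, hw2, QuotientGroup.mk_one, map_one]
      rw [hx, DihedralGroup.r_mul_r, DihedralGroup.one_def, DihedralGroup.r.injEq] at h1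
      have h2 : (2 : ZMod q) ≠ 0 := by
        intro e
        exact hq2 ((Nat.prime_dvd_prime_iff_eq hq Nat.prime_two).mp
          ((ZMod.natCast_eq_zero_iff 2 q).mp (by exact_mod_cast e)))
      have h3 : i = 0 := (mul_eq_zero.mp (by rw [two_mul]; exact h1 : (2 : ZMod q) * i = 0)).resolve_left h2
      rw [h3, ← DihedralGroup.one_def, MulEquiv.map_eq_one_iff, QuotientGroup.eq_one_iff] at hx
      exact hw hx
  obtain ⟨g, hg⟩ := QuotientGroup.mk_surjective (φ.symm (DihedralGroup.r 1))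
  set w' := g * w * g⁻¹ with hw'
  set d := w * w' with hd
  obtain ⟨k, hk, hk0⟩ : ∃ k : ZMod q, φ (QuotientGroup.mk d) = DihedralGroup.r k ∧ k ≠ 0 := by
    refine ⟨-2, ?_, ?_⟩
    · rw [hd, hw', QuotientGroup.mk_mul, QuotientGroup.mk_mul, QuotientGroup.mk_mul, map_mul,
        map_mul, map_mul, QuotientGroup.mk_inv, map_inv, hg, hi, φ.apply_symm_apply]
      simp only [DihedralGroup.inv_r, DihedralGroup.r_mul_sr, DihedralGroup.sr_mul_r,
        DihedralGroup.sr_mul_sr]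
      congr 1; ring
    · intro e
      exact hq2 ((Nat.prime_dvd_prime_iff_eq hq Nat.prime_two).mp
        ((ZMod.natCast_eq_zero_iff 2 q).mp (by exact_mod_cast (neg_eq_zero.mp e))))
  have hdord : ∀ n : ℕ, (∀ v ∈ V, d ^ n * v = v * d ^ n) → q ∣ n := by
    intro n hn
    have h := hcent _ hn
    rw [← QuotientGroup.eq_one_iff, ← MulEquiv.map_eq_one_iff φ, QuotientGroup.mk_pow, map_pow, hk] at h
    rw [DihedralGroup.r_pow, DihedralGroup.one_def, DihedralGroup.r.injEq] at h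
    exact (ZMod.natCast_eq_zero_iff n q).mp ((mul_eq_zero.mp h).resolve_left hk0)
  -- the two transvections
  have hgi : w' * w' = 1 := by
    rw [hw', show g * w * g⁻¹ * (g * w * g⁻¹) = g * (w * w) * g⁻¹ by group, hw2, mul_one,
      mul_inv_cancel]
  set σ : P → P := fun v => w * v * w with hσ
  set τ : P → P := fun v => w' * v * w' with hτ
  have σV : ∀ v ∈ V, σ v ∈ V := fun v hv => by
    have := hVn.conj_mem v hv w
    rwa [inv_eq_self hw2] at this
  have τV : ∀ v ∈ V, τ v ∈ V := fun v hv => by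
    have := hVn.conj_mem v hv w'
    rwa [inv_eq_self hgi] at this
  have σm : ∀ a b, σ (a * b) = σ a * σ b := fun a b => by
    simp only [hσ]; rw [show w * a * w * (w * b * w) = w * a * (w * w) * b * w by group, hw2]; group
  have τm : ∀ a b, τ (a * b) = τ a * τ b := fun a b => by
    simp only [hτ]
    rw [show w' * a * w' * (w' * b * w') = w' * a * (w' * w') * b * w' by group, hgi]; group
  obtain ⟨v₀, hv₀, hv₀'⟩ : ∃ v ∈ V, σ v ≠ v := by
    by_contra hno
    simp only [not_exists, not_and, not_not] at hno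
    refine hw (hcent w fun v hv => ?_)
    have := hno v hv
    simp only [hσ] at this
    calc w * v = w * v * (w * w) := by rw [hw2, mul_one]
      _ = (w * v * w) * w := by group
      _ = v * w := by rw [this]
  set c := σ v₀ * v₀ with hc
  have hcV : c ∈ V := mul_mem (σV _ hv₀) hv₀
  have σc : σ c = c := by
    rw [hc, σm]
    conv_lhs => arg 1; simp only [hσ]; rw [show w * (w * v₀ * w) * w = (w * w) * v₀ * (w * w) by group, hw2, one_mul, mul_one]
    exact hcomm _ hv₀ _ (σV _ hv₀)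
  have σcase : ∀ v ∈ V, σ v = v ∨ σ v = v * c := by
    intro v hv
    by_cases h : σ v = v
    · exact Or.inl h
    · right
      have h1 := hyp v hv v₀ hv₀ h hv₀'
      change σ (v * v₀) = v * v₀ at h1
      rw [σm] at h1
      calc σ v = σ v * (σ v₀ * σ v₀) := by rw [hsq _ (σV _ hv₀), mul_one]
        _ = (σ v * σ v₀) * σ v₀ := by group
        _ = v * (v₀ * σ v₀) := by rw [h1, mul_assoc]
        _ = v * c := by rw [hc, hcomm _ hv₀ _ (σV _ hv₀)]
  set c' := g * c * g⁻¹ with hc'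
  have hcV' : c' ∈ V := hVn.conj_mem c hcV g
  have τσ : ∀ v, τ v = g * σ (g⁻¹ * v * g) * g⁻¹ := fun v => by
    simp only [hτ, hσ, hw']; group
  have τcase : ∀ v ∈ V, τ v = v ∨ τ v = v * c' := by
    intro v hv
    have hv' : g⁻¹ * v * g ∈ V := by simpa using hVn.conj_mem v hv g⁻¹
    rcases σcase _ hv' with e | e <;> rw [τσ, e]
    · left; group
    · right; rw [hc']; group
  have τc' : τ c' = c' := by
    rw [τσ, show g⁻¹ * c' * g = c by rw [hc']; group, σc, hc']
  have hdv : ∀ v, d * v * d⁻¹ = σ (τ v) := fun v => by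
    rw [hd, mul_inv_rev, inv_eq_self hw2, inv_eq_self hgi]; simp only [hσ, hτ]; group
  have key : ∀ x ∈ V, ∀ y ∈ V, ∀ z ∈ V, x * y * (x * z) = y * z := fun x hx y hy z hz => by
    rw [hcomm x hx y hy, mul_assoc, ← mul_assoc x x, hsq x hx, one_mul]
  set M : P → P := fun v => σ (τ v) with hM
  have Mm : ∀ a b, M (a * b) = M a * M b := fun a b => by simp only [hM]; rw [τm, σm]
  have hx : ∀ v ∈ V, ∃ x, (x = 1 ∨ x = c ∨ x = c' ∨ x = c * c') ∧ M v = v * x := by
    intro v hv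
    simp only [hM]
    rcases τcase v hv with e | e <;> rw [e]
    · rcases σcase v hv with f | f
      · exact ⟨1, Or.inl rfl, by rw [f, mul_one]⟩
      · exact ⟨c, Or.inr (Or.inl rfl), f⟩
    · rw [σm]
      rcases σcase v hv with f | f <;> rcases σcase c' hcV' with f' | f' <;> rw [f, f']
      · exact ⟨c', Or.inr (Or.inr (Or.inl rfl)), rfl⟩
      · exact ⟨c * c', Or.inr (Or.inr (Or.inr rfl)), by rw [hcomm c' hcV' c hcV]⟩
      · exact ⟨c * c', Or.inr (Or.inr (Or.inr rfl)), by rw [mul_assoc]⟩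
      · exact ⟨c', Or.inr (Or.inr (Or.inl rfl)), by
          rw [hcomm c' hcV' c hcV, mul_assoc, ← mul_assoc c c, hsq c hcV, one_mul]⟩
  clear_value M
  have M1 : M 1 = 1 := by simp only [hM, hσ, hτ, mul_one]; rw [hgi, mul_one, hw2]
  have comm_of : ∀ n : ℕ, (∀ v ∈ V, M^[n] v = v) → ∀ v ∈ V, d ^ n * v = v * d ^ n := by
    have hpow : ∀ n : ℕ, ∀ v, d ^ n * v * (d ^ n)⁻¹ = M^[n] v := by
      intro n
      induction n with
      | zero => intro v; simp
      | succ n ih =>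
        intro v
        rw [Function.iterate_succ_apply', ← ih v, pow_succ']
        simp only [hM]
        rw [← hdv]; group
    intro n hn v hv
    calc d ^ n * v = (d ^ n * v * (d ^ n)⁻¹) * d ^ n := by group
      _ = v * d ^ n := by rw [hpow, hn v hv]
  rcases σcase c' hcV' with hs | hs
  · -- the fourth power is trivial
    have Mc' : M c' = c' := by simp only [hM]; rw [τc', hs]
    have Mc : M c = c ∨ M c = c * c' := by
      simp only [hM]
      rcases τcase c hcV with e | e <;> rw [e]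
      · exact Or.inl σc
      · exact Or.inr (by rw [σm, σc, hs])
    have h4 : ∀ v ∈ V, M^[4] v = v := by
      intro v hv
      obtain ⟨x, hx', e⟩ := hx v hv
      have hxM : x * M x = 1 ∨ x * M x = c' := by
        rcases hx' with rfl | rfl | rfl | rfl
        · exact Or.inl (by rw [M1, one_mul])
        · rcases Mc with f | f <;> rw [f]
          · exact Or.inl (hsq _ hcV)
          · exact Or.inr (by rw [← mul_assoc, hsq _ hcV, one_mul])
        · exact Or.inl (by rw [Mc', hsq _ hcV'])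
        · rcases Mc with f | f <;> rw [Mm, f, Mc']
          · exact Or.inl (hsq _ (mul_mem hcV hcV'))
          · refine Or.inr ?_
            rw [← mul_assoc (c * c') (c * c') c', hsq _ (mul_mem hcV hcV'), one_mul]
      show M (M (M (M v))) = v
      have e2 : M (M v) = v * (x * M x) := by rw [e, Mm, e, mul_assoc]
      rcases hxM with f | f <;> rw [f] at e2
      · rw [mul_one] at e2; rw [e2, e2]
      · rw [e2, Mm, Mm, e2, Mc', Mc', mul_assoc, hsq _ hcV', mul_one]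
    have hd4 : q ∣ 2 ^ 2 := hdord 4 (comm_of 4 h4)
    exact absurd ((Nat.prime_dvd_prime_iff_eq hq Nat.prime_two).mp (hq.dvd_of_dvd_pow hd4)) hq2
  · have Mc' : M c' = c' * c := by simp only [hM]; rw [τc', hs]
    rcases τcase c hcV with ht | ht
    · -- again the fourth power is trivial
      have Mc : M c = c := by simp only [hM]; rw [ht, σc]
      have h4 : ∀ v ∈ V, M^[4] v = v := by
        intro v hv
        obtain ⟨x, hx', e⟩ := hx v hv
        have hxM : x * M x = 1 ∨ x * M x = c := by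
          rcases hx' with rfl | rfl | rfl | rfl
          · exact Or.inl (by rw [M1, one_mul])
          · exact Or.inl (by rw [Mc, hsq _ hcV])
          · exact Or.inr (by rw [Mc', ← mul_assoc, hsq _ hcV', one_mul])
          · refine Or.inr ?_
            rw [Mm, Mc, Mc', ← mul_assoc c c' c, ← mul_assoc (c * c') (c * c') c,
              hsq _ (mul_mem hcV hcV'), one_mul]
        show M (M (M (M v))) = v
        have e2 : M (M v) = v * (x * M x) := by rw [e, Mm, e, mul_assoc]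
        rcases hxM with f | f <;> rw [f] at e2
        · rw [mul_one] at e2; rw [e2, e2]
        · rw [e2, Mm, Mm, e2, Mc, Mc, mul_assoc, hsq _ hcV, mul_one]
      have hd4 : q ∣ 2 ^ 2 := hdord 4 (comm_of 4 h4)
      exact absurd ((Nat.prime_dvd_prime_iff_eq hq Nat.prime_two).mp (hq.dvd_of_dvd_pow hd4)) hq2
    · have Mc : M c = c' := by
        simp only [hM]
        rw [ht, σm, σc, hs, hcomm c' hcV' c hcV, ← mul_assoc, hsq _ hcV, one_mul]
      have h3 : ∀ v ∈ V, M^[3] v = v := by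
        intro v hv
        obtain ⟨x, hx', e⟩ := hx v hv
        show M (M (M v)) = v
        rw [e, Mm, e, Mm, Mm, e]
        have hxyz : x * M x * M (M x) = 1 := by
          rcases hx' with rfl | rfl | rfl | rfl
          · rw [M1, M1, one_mul, one_mul]
          · rw [Mc, Mc', ← mul_assoc, mul_assoc c c' c', hsq _ hcV', mul_one, hsq _ hcV]
          · rw [Mc', Mm, Mc', Mc, ← mul_assoc c' c' c, hsq _ hcV', one_mul,
              hcomm c' hcV' c hcV, mul_assoc c c' c', hsq _ hcV', mul_one, hsq _ hcV]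
          · rw [Mm, Mc, Mc', ← mul_assoc c' c' c, hsq _ hcV', one_mul, Mc,
              hcomm c hcV c' hcV', mul_assoc c' c c, hsq _ hcV, mul_one, hsq _ hcV']
        rw [mul_assoc, mul_assoc, ← mul_assoc x, hxyz, mul_one]
      exact (Nat.prime_dvd_prime_iff_eq hq Nat.prime_three).mp (hdord 3 (comm_of 3 h3))

section Conj

variable {H : Type*} [Group H]

/-- The conjugate subgroup. -/
abbrev cj (A : Subgroup H) (x : H) : Subgroup H := A.map (MulAut.conj x).toMonoidHom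

theorem mem_cj {A : Subgroup H} {x a : H} : a ∈ cj A x ↔ x⁻¹ * a * x ∈ A := by
  constructor
  · rintro ⟨b, hb, rfl⟩; simpa [mul_assoc] using hb
  · exact fun h => ⟨_, h, by simp [mul_assoc]⟩

theorem cj_cj (A : Subgroup H) (x y : H) : cj (cj A y) x = cj A (x * y) := by
  ext a
  rw [mem_cj, mem_cj, mem_cj]
  simp [mul_assoc]

/-- The elements of order two in the centre. -/
abbrev zc (T : Subgroup H) : Subgroup H := Cfsg.omegaOne 2 (T ⊓ Subgroup.centralizer (T : Set H))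

theorem cj_zc {T : Subgroup H} {x : H} (hT : cj T x = T) : cj (zc T) x ≤ zc T := by
  rintro _ ⟨z, hz, rfl⟩
  obtain ⟨h1, h2, h3⟩ := PReduced.mem_omegaZ.mp hz
  refine PReduced.mem_omegaZ.mpr ⟨hT.le ⟨z, h1, rfl⟩, fun t ht => ?_, by rw [← map_pow, h3, map_one]⟩
  obtain ⟨u, hu, rfl⟩ := hT.ge ht
  rw [← map_mul, ← map_mul, h2 u hu]

theorem transfer (G : Subgroup H) [Finite ↥G] (S : Sylow 2 ↥G) (g : H)
    (hchar : Subgroup.centralizer (Cfsg.pCore 2 ↥G : Set ↥G) ≤ Cfsg.pCore 2 ↥G)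
    (hg : cj ((S : Subgroup ↥G).map G.subtype) g = (S : Subgroup ↥G).map G.subtype)
    (φ : ↥G ⧸ Cfsg.pCore 2 ↥G ≃* Equiv.Perm (Fin 3)) :
    cj G g ⊓ Subgroup.centralizer (Cfsg.pCoreOf 2 (cj G g) : Set H) ≤ Cfsg.pCoreOf 2 (cj G g) ∧
    (∃ R : Sylow 2 ↥(cj G g),
      (R : Subgroup ↥(cj G g)) = ((S : Subgroup ↥G).map G.subtype).subgroupOf (cj G g)) ∧
    Nonempty (↥(cj G g) ⧸ Cfsg.pCore 2 ↥(cj G g) ≃* Equiv.Perm (Fin 3)) := by
  let e : ↥G ≃* ↥(cj G g) := G.equivMapOfInjective _ (MulAut.conj g).injective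
  have hQ : (Cfsg.pCore 2 ↥G).map e.toMonoidHom = Cfsg.pCore 2 ↥(cj G g) := pCore_map_equiv 2 e
  haveI : (Cfsg.pCore 2 ↥G).Normal := pCore_normal 2 _
  haveI : (Cfsg.pCore 2 ↥(cj G g)).Normal := pCore_normal 2 _
  refine ⟨?_, ⟨S.mapSurjective (f := e.toMonoidHom) (fun b => e.surjective b), ?_⟩,
    ⟨(QuotientGroup.congr _ _ e hQ).symm.trans φ⟩⟩
  · rintro a ⟨ha, hc⟩
    obtain ⟨a', ha'⟩ := e.surjective ⟨a, ha⟩
    refine ⟨⟨a, ha⟩, ?_, rfl⟩
    rw [← hQ, ← ha']
    refine ⟨a', hchar (Subgroup.mem_centralizer_iff.mpr fun q hq => e.injective ?_), rfl⟩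
    rw [map_mul, map_mul, ha']
    refine Subtype.ext (Subgroup.mem_centralizer_iff.mp hc _ ⟨e q, ?_, rfl⟩)
    rw [← hQ]; exact ⟨q, hq, rfl⟩
  · change (S : Subgroup ↥G).map e.toMonoidHom = _
    ext a
    rw [Subgroup.mem_subgroupOf]
    constructor
    · rintro ⟨s, hs, rfl⟩
      exact hg.le ⟨s, ⟨s, hs, rfl⟩, rfl⟩
    · intro ha
      obtain ⟨b, ⟨s, hs, rfl⟩, hb⟩ := hg.ge ha
      exact ⟨s, hs, Subtype.ext hb⟩

/-- Conjugates of `G` sharing a Sylow subgroup. -/
def Adj (G S₀ : Subgroup H) (x y : H) : Prop := ∃ k ∈ G, ∃ l ∈ G, cj S₀ (x * k) = cj S₀ (y * l)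

/-- Walks. -/
def Walk (G S₀ : Subgroup H) : ℕ → H → H → Prop
  | 0, x, y => x = y
  | n + 1, x, y => ∃ z, Adj G S₀ x z ∧ Walk G S₀ n z y

theorem adj_symm {G S₀ : Subgroup H} {x y : H} (h : Adj G S₀ x y) : Adj G S₀ y x :=
  let ⟨k, hk, l, hl, e⟩ := h
  ⟨l, hl, k, hk, e.symm⟩

theorem walk_snoc {G S₀ : Subgroup H} {n : ℕ} {x y z : H} (h : Walk G S₀ n x y)
    (h' : Adj G S₀ y z) : Walk G S₀ (n + 1) x z := by
  induction n generalizing x with
  | zero => exact ⟨z, (show x = y from h) ▸ h', rfl⟩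
  | succ n ih =>
    obtain ⟨u, hu, hw⟩ := h
    exact ⟨u, hu, ih hw⟩

theorem walk_last {G S₀ : Subgroup H} {n : ℕ} {x z : H} (h : Walk G S₀ (n + 1) x z) :
    ∃ y, Walk G S₀ n x y ∧ Adj G S₀ y z := by
  induction n generalizing x with
  | zero =>
    obtain ⟨u, hu, hw⟩ := h
    exact ⟨x, rfl, (show u = z from hw) ▸ hu⟩
  | succ n ih =>
    obtain ⟨u, hu, hw⟩ := h
    obtain ⟨y, hy, hyz⟩ := ih hw
    exact ⟨y, ⟨u, hu, hy⟩, hyz⟩

theorem walk_symm {G S₀ : Subgroup H} {n : ℕ} {x y : H} (h : Walk G S₀ n x y) :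
    Walk G S₀ n y x := by
  induction n generalizing x with
  | zero => exact (show x = y from h).symm
  | succ n ih =>
    obtain ⟨u, hu, hw⟩ := h
    exact walk_snoc (ih hw) (adj_symm hu)

end Conj

/-- Sims' Theorem in local form: let H be a finite non-abelian simple group and G a maximal subgroup of H with C_G(O₂(G)) ≤ O₂(G), such that N_H(S) is not contained in G for a Sylow 2-subgroup S of G and G/O₂(G) is dihedral of order 2q for a prime q. Then G is isomorphic to the symmetric group of degree 4 or to its direct product with a group of order 2. -/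
theorem result {H : Type*} [Group H] [Finite H] [IsSimpleGroup H] (hna : ¬ IsMulCommutative H) (G : Subgroup H) (hG : IsCoatom G) (hchar : Subgroup.centralizer (Cfsg.pCore 2 ↥G : Set ↥G) ≤ Cfsg.pCore 2 ↥G) (S : Sylow 2 ↥G) (hN : ¬ Subgroup.normalizer (((S : Subgroup ↥G).map G.subtype : Subgroup H) : Set H) ≤ G) (q : ℕ) (hq : q.Prime) (hD : Nonempty (↥G ⧸ Cfsg.pCore 2 ↥G ≃* DihedralGroup q)) : Nonempty (↥G ≃* Equiv.Perm (Fin 4)) ∨ Nonempty (↥G ≃* Equiv.Perm (Fin 4) × Multiplicative (ZMod 2)) := by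
  classical
  haveI : Fact (Nat.Prime 2) := ⟨Nat.prime_two⟩
  obtain ⟨φ⟩ := hD
  set S₀ : Subgroup H := (S : Subgroup ↥G).map G.subtype with hS₀
  set Q₀ : Subgroup H := Cfsg.pCoreOf 2 G with hQ₀
  obtain ⟨g, hgN, hgG⟩ := SetLike.not_le_iff_exists.mp hN
  have hgS : cj S₀ g = S₀ := Subgroup.mem_normalizer_iff_map_conj_eq.mp hgN
  haveI hKn : (Cfsg.pCore 2 ↥G).Normal := pCore_normal 2 _
  have hidx : (Cfsg.pCore 2 ↥G).index = 2 * q := by
    haveI : NeZero q := ⟨hq.ne_zero⟩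
    rw [Subgroup.index_eq_card, Nat.card_congr φ.toEquiv, DihedralGroup.nat_card]
  have hKS : Cfsg.pCore 2 ↥G ≤ (S : Subgroup ↥G) := pCore_le_sylow S
  have hmul := Subgroup.relIndex_mul_index hKS
  rw [hidx] at hmul
  have hodd : ¬ 2 ∣ (S : Subgroup ↥G).index := S.not_dvd_index
  have hS1 : (S : Subgroup ↥G).index ≠ 1 := by
    intro e
    have htop := Subgroup.index_eq_one.mp e
    haveI : (S : Subgroup ↥G).Normal := by rw [htop]; infer_instance
    have hle : (S : Subgroup ↥G) ≤ Cfsg.pCore 2 ↥G := le_pCore S.isPGroup'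
    rw [htop, top_le_iff] at hle
    rw [hle, Subgroup.index_top] at hidx
    omega
  have hdvd : (S : Subgroup ↥G).index ∣ q := by
    refine ((Nat.prime_two.coprime_iff_not_dvd.mpr hodd).symm).dvd_of_dvd_mul_left ⟨(Cfsg.pCore 2 ↥G).relIndex (S : Subgroup ↥G), ?_⟩
    rw [← hmul, mul_comm]
  have hSq : (S : Subgroup ↥G).index = q := ((Nat.dvd_prime hq).mp hdvd).resolve_left hS1
  have hq2 : q ≠ 2 := fun e => hodd (by rw [hSq, e])
  have hrel : (Cfsg.pCore 2 ↥G).relIndex (S : Subgroup ↥G) = 2 := by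
    rw [hSq] at hmul
    exact Nat.eq_of_mul_eq_mul_right hq.pos hmul
  -- the simple group
  have hGtop : G ≠ ⊤ := hG.1
  have hnorm : ∀ A : Subgroup H, A ≤ G → A.Normal → A = ⊥ := fun A hA hAn =>
    hAn.eq_bot_or_eq_top.resolve_right fun e => hGtop (top_le_iff.mp (e ▸ hA))
  have hmax : ∀ A : Subgroup H, G ≤ A → ∀ a ∈ A, a ∉ G → A = ⊤ := fun A hA a ha haG =>
    hG.2 A (lt_of_le_not_ge hA fun h => haG (h ha))
  have hS₀G : S₀ ≤ G := Subgroup.map_subtype_le _
  have hQS : Q₀ ≤ S₀ := Subgroup.map_mono hKS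
  have hS₀1 : (S : Subgroup ↥G) ≠ ⊥ := by
    intro e
    have := Subgroup.relIndex_eq_one.mpr (e.trans_le bot_le : (S : Subgroup ↥G) ≤ Cfsg.pCore 2 ↥G)
    omega
  have hZ1 : zc S₀ ≠ ⊥ := by
    have hp : IsPGroup 2 ↥(S : Subgroup ↥G) := S.isPGroup'
    haveI : Nontrivial ↥(S : Subgroup ↥G) := (Subgroup.nontrivial_iff_ne_bot _).mpr hS₀1
    haveI := hp.center_nontrivial
    obtain ⟨n, hn⟩ := IsPGroup.iff_card.mp (hp.to_subgroup (Subgroup.center ↥(S : Subgroup ↥G)))
    have hn0 : n ≠ 0 := fun e => by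
      have := Finite.one_lt_card (α := Subgroup.center ↥(S : Subgroup ↥G))
      rw [hn, e, pow_zero] at this
      exact lt_irrefl 1 this
    obtain ⟨z, hz⟩ := exists_prime_orderOf_dvd_card' (G := Subgroup.center ↥(S : Subgroup ↥G)) 2
      (hn ▸ dvd_pow_self 2 hn0)
    intro hb
    have hm : (((z : ↥(S : Subgroup ↥G)) : ↥G) : H) ∈ zc S₀ := by
      refine PReduced.mem_omegaZ.mpr ⟨⟨_, z.1.2, rfl⟩, ?_, ?_⟩
      · rintro _ ⟨t, ht, rfl⟩
        exact congrArg (fun s : ↥(S : Subgroup ↥G) => ((s : ↥G) : H))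
          (Subgroup.mem_center_iff.mp z.2 ⟨t, ht⟩)
      · have := congrArg (fun u : Subgroup.center ↥(S : Subgroup ↥G) =>
          (((u : ↥(S : Subgroup ↥G)) : ↥G) : H)) (pow_orderOf_eq_one z)
        rw [hz] at this
        simpa using this
    rw [hb, Subgroup.mem_bot] at hm
    rw [show z = 1 from Subtype.ext (Subtype.ext (Subtype.ext hm)), orderOf_one] at hz
    omega
  have hginv : g⁻¹ ∈ Subgroup.normalizer (S₀ : Set H) := inv_mem hgN
  have hnc : ∀ x : H, cj S₀ x = S₀ → ¬ cj G x ≤ Subgroup.centralizer (zc S₀ : Set H) := by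
    intro x hx hle
    have hxi : cj S₀ x⁻¹ = S₀ := by
      conv_lhs => rw [← hx, cj_cj, inv_mul_cancel]
      ext a; simp [mem_cj]
    have hZx : ∀ z ∈ zc S₀, x * z * x⁻¹ ∈ zc S₀ := fun z hz => cj_zc hx ⟨z, hz, rfl⟩
    have hGC : G ≤ Subgroup.centralizer (zc S₀ : Set H) := by
      intro a ha
      rw [Subgroup.mem_centralizer_iff]
      intro z hz
      have h1 := Subgroup.mem_centralizer_iff.mp (hle ⟨a, ha, rfl⟩) _ (hZx z hz)
      simp only [MulEquiv.coe_toMonoidHom, MulAut.conj_apply] at h1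
      calc z * a = x⁻¹ * (x * z * x⁻¹ * (x * a * x⁻¹)) * x := by group
        _ = x⁻¹ * (x * a * x⁻¹ * (x * z * x⁻¹)) * x := by rw [h1]
        _ = a * z := by group
    have hGC' : ∀ a ∈ G, g * a * g⁻¹ ∈ Subgroup.centralizer (zc S₀ : Set H) := by
      intro a ha
      rw [Subgroup.mem_centralizer_iff]
      intro z hz
      have hz' : g⁻¹ * z * g ∈ zc S₀ := by
        have := cj_zc (T := S₀) (x := g⁻¹) (Subgroup.mem_normalizer_iff_map_conj_eq.mp hginv) ⟨z, hz, rfl⟩
        simpa using this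
      have h1 := Subgroup.mem_centralizer_iff.mp (hGC ha) _ hz'
      calc z * (g * a * g⁻¹) = g * (g⁻¹ * z * g * a) * g⁻¹ := by group
        _ = g * (a * (g⁻¹ * z * g)) * g⁻¹ := by rw [h1]
        _ = g * a * g⁻¹ * z := by group
    by_cases hall : ∀ a ∈ G, g * a * g⁻¹ ∈ G
    · have hn := hmax _ Subgroup.le_normalizer g
        (Subgroup.mem_normalizer_iff_map_conj_eq.mpr (Subgroup.eq_of_le_of_card_ge
          (by rintro _ ⟨a, ha, rfl⟩; exact hall a ha)
          (le_of_eq (Nat.card_congr (G.equivMapOfInjective _ (MulAut.conj g).injective).toEquiv)))) hgG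
      have hb := hnorm G le_rfl (Subgroup.normalizer_eq_top_iff.mp hn)
      exact hS₀1 ((Subgroup.eq_bot_iff_forall _).mpr fun t _ =>
        Subtype.ext (Subgroup.mem_bot.mp (hb ▸ t.2)))
    · simp only [not_forall] at hall
      obtain ⟨a, ha, hag⟩ := hall
      have htop := hmax _ hGC _ (hGC' a ha) hag
      have hcen : zc S₀ ≤ Subgroup.center H := Subgroup.centralizer_eq_top_iff_subset.mp htop
      rcases (inferInstance : (Subgroup.center H).Normal).eq_bot_or_eq_top with e | e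
      · exact hZ1 (le_bot_iff.mp (e ▸ hcen))
      · exact hna (isMulCommutative_iff.mpr fun a b =>
          (Subgroup.mem_center_iff.mp (e ▸ Subgroup.mem_top b) a))
  -- the modules
  set V : H → Subgroup H := fun x => ⨆ k : ↥G, cj (zc S₀) (x * k) with hV
  have hZQ : zc S₀ ≤ Q₀ := by
    intro z hz
    obtain ⟨h1, h2, -⟩ := PReduced.mem_omegaZ.mp hz
    exact ⟨⟨z, hS₀G h1⟩, hchar (Subgroup.mem_centralizer_iff.mpr fun t ht =>
      Subtype.ext (h2 t (hQS ⟨t, ht, rfl⟩))), rfl⟩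
  have hQn : ∀ k ∈ G, ∀ a ∈ Q₀, k * a * k⁻¹ ∈ Q₀ := by
    rintro k hk _ ⟨a, ha, rfl⟩
    exact ⟨⟨k, hk⟩ * a * ⟨k, hk⟩⁻¹, hKn.conj_mem a ha _, rfl⟩
  have hV1 : ∀ x v, v ∈ V x → x⁻¹ * v * x ∈ V 1 := by
    intro x v hv
    have h : V x ≤ (V 1).comap (MulAut.conj x⁻¹).toMonoidHom := iSup_le fun k a ha => by
      refine Subgroup.mem_comap.mpr (le_iSup (fun k : ↥G => cj (zc S₀) (1 * k)) k ?_)
      obtain ⟨z, hz, rfl⟩ := ha
      exact ⟨z, hz, by simp [mul_assoc]⟩
    simpa using h hv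
  have hVconj : ∀ x v, v ∈ V 1 → x * v * x⁻¹ ∈ V x := by
    intro x v hv
    have h : V 1 ≤ (V x).comap (MulAut.conj x).toMonoidHom := iSup_le fun k a ha => by
      refine Subgroup.mem_comap.mpr (le_iSup (fun k : ↥G => cj (zc S₀) (x * k)) k ?_)
      obtain ⟨z, hz, rfl⟩ := ha
      exact ⟨z, hz, by simp [mul_assoc]⟩
    exact h hv
  have hVG : ∀ k ∈ G, ∀ v ∈ V 1, k * v * k⁻¹ ∈ V 1 := by
    intro k hk v hv
    have h : V 1 ≤ (V 1).comap (MulAut.conj k).toMonoidHom := iSup_le fun j a ha => by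
      refine Subgroup.mem_comap.mpr (le_iSup (fun j : ↥G => cj (zc S₀) (1 * j)) (⟨k, hk⟩ * j) ?_)
      obtain ⟨z, hz, rfl⟩ := ha
      exact ⟨z, hz, by simp [mul_assoc]⟩
    exact h hv
  have hVQ : V 1 ≤ Q₀ ⊓ Subgroup.centralizer (Q₀ : Set H) := iSup_le fun k => by
    rintro _ ⟨z, hz, rfl⟩
    refine ⟨by simpa using hQn k k.2 z (hZQ hz), Subgroup.mem_centralizer_iff.mpr fun a ha => ?_⟩
    have h1 := (PReduced.mem_omegaZ.mp hz).2.1 _ (hQS (hQn (k⁻¹ : ↥G) (k⁻¹ : ↥G).2 a ha))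
    simp only [Subgroup.coe_inv, inv_inv] at h1
    simp only [MulEquiv.coe_toMonoidHom, MulAut.conj_apply, one_mul]
    calc a * ((k : H) * z * (k : H)⁻¹) = (k : H) * ((k : H)⁻¹ * a * k * z) * (k : H)⁻¹ := by group
      _ = (k : H) * (z * ((k : H)⁻¹ * a * k)) * (k : H)⁻¹ := by rw [h1]
      _ = (k : H) * z * (k : H)⁻¹ * a := by group
  have hVcomm : ∀ x, ∀ v ∈ V x, ∀ a ∈ cj Q₀ x, a * v = v * a := by
    intro x v hv a ha
    have h1 := Subgroup.mem_centralizer_iff.mp (hVQ (hV1 x v hv)).2 _ (mem_cj.mp ha)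
    calc a * v = x * (x⁻¹ * a * x * (x⁻¹ * v * x)) * x⁻¹ := by group
      _ = x * (x⁻¹ * v * x * (x⁻¹ * a * x)) * x⁻¹ := by rw [h1]
      _ = v * a := by group
  have hsq : ∀ v ∈ V 1, v * v = 1 := by
    let E : Subgroup H :=
      { carrier := {a | a ∈ V 1 ∧ a * a = 1}
        one_mem' := ⟨one_mem _, one_mul 1⟩
        mul_mem' := by
          rintro a b ⟨ha, ha2⟩ ⟨hb, hb2⟩
          refine ⟨mul_mem ha hb, ?_⟩
          have e := Subgroup.mem_centralizer_iff.mp (hVQ hb).2 a (hVQ ha).1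
          calc a * b * (a * b) = a * (b * a) * b := by group
            _ = a * (a * b) * b := by rw [e]
            _ = (a * a) * (b * b) := by group
            _ = 1 := by rw [ha2, hb2, one_mul]
        inv_mem' := by
          rintro a ⟨ha, ha2⟩
          rw [inv_eq_self ha2]; exact ⟨ha, ha2⟩ }
    have h : V 1 ≤ E := iSup_le fun k a ha => by
      obtain ⟨z, hz, rfl⟩ := ha
      exact ⟨le_iSup (fun k : ↥G => cj (zc S₀) (1 * k)) k ⟨z, hz, rfl⟩, by
        rw [← map_mul, ← pow_two, (PReduced.mem_omegaZ.mp hz).2.2, map_one]⟩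
    exact fun v hv => (h hv).2
  have hQk : ∀ k ∈ G, cj Q₀ k = Q₀ := fun k hk => Subgroup.eq_of_le_of_card_ge
    (by rintro _ ⟨a, ha, rfl⟩; exact hQn k hk a ha)
    (by rw [Subgroup.card_map_of_injective (f := (MulAut.conj k).toMonoidHom) (MulAut.conj k).injective])
  have hQT : ∀ x, ∀ k ∈ G, cj Q₀ x ≤ cj S₀ (x * k) := fun x k hk => by
    conv_lhs => rw [← hQk k hk, cj_cj]
    exact Subgroup.map_mono hQS
  have hTG : ∀ x, ∀ k ∈ G, cj S₀ (x * k) ≤ cj G x := fun x k hk a ha => by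
    rw [mem_cj] at ha ⊢
    have h := mul_mem (mul_mem hk (hS₀G ha)) (inv_mem hk)
    rwa [show k * ((x * k)⁻¹ * a * (x * k)) * k⁻¹ = x⁻¹ * a * x by group] at h
  have hcent : ∀ a ∈ G, (∀ v ∈ V 1, a * v = v * a) → a ∈ Q₀ := by
    intro a ha hc
    let A : Subgroup ↥G := (Subgroup.centralizer (V 1 : Set H)).subgroupOf G
    haveI hAn : A.Normal := ⟨fun n hn k => by
      rw [Subgroup.mem_subgroupOf, Subgroup.mem_centralizer_iff] at hn ⊢
      intro v hv
      have h1 := hn _ (hVG (k⁻¹ : ↥G) (k⁻¹ : ↥G).2 v hv)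
      simp only [Subgroup.coe_mul, Subgroup.coe_inv, inv_inv] at h1 ⊢
      calc v * ((k : H) * n * (k : H)⁻¹) = (k : H) * ((k : H)⁻¹ * v * k * n) * (k : H)⁻¹ := by group
        _ = (k : H) * (n * ((k : H)⁻¹ * v * k)) * (k : H)⁻¹ := by rw [h1]
        _ = (k : H) * n * (k : H)⁻¹ * v := by group⟩
    let B : Subgroup ↥G := (Subgroup.centralizer (zc S₀ : Set H)).subgroupOf G
    have hZV : zc S₀ ≤ V 1 := fun z hz => le_iSup (fun k : ↥G => cj (zc S₀) (1 * k)) 1 ⟨z, hz, by simp⟩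
    have hAB : A ≤ B := fun n hn => Subgroup.centralizer_le hZV hn
    have hSB : (S : Subgroup ↥G) ≤ B := fun s hs => by
      rw [Subgroup.mem_subgroupOf, Subgroup.mem_centralizer_iff]
      exact fun z hz => ((PReduced.mem_omegaZ.mp hz).2.1 _ ⟨s, hs, rfl⟩).symm
    have hB : B = (S : Subgroup ↥G) := by
      rcases (Nat.dvd_prime hq).mp (hSq ▸ Subgroup.index_dvd_of_le hSB) with e | e
      · exfalso
        refine hnc 1 (by ext a; simp [mem_cj]) fun b hb => ?_
        have hb' : (⟨b, by simpa [mem_cj] using hb⟩ : ↥G) ∈ B := by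
          rw [Subgroup.index_eq_one.mp e]; trivial
        exact hb'
      · refine (Subgroup.eq_of_le_of_card_ge hSB ?_).symm
        have h1 := Subgroup.card_mul_index (S : Subgroup ↥G)
        have h2 := Subgroup.card_mul_index B
        rw [hSq] at h1; rw [e] at h2
        exact le_of_eq (Nat.eq_of_mul_eq_mul_right hq.pos (h2.trans h1.symm))
    exact ⟨⟨a, ha⟩, le_pCore (N := A) (S.isPGroup'.to_le (hB ▸ hAB))
      (Subgroup.mem_centralizer_iff.mpr fun v hv => (hc v hv).symm : (⟨a, ha⟩ : ↥G) ∈ A), rfl⟩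
  -- the graph
  have hstep : ∀ x y, Adj G S₀ x y → cj Q₀ x ≤ cj G y ∧ ∃ l ∈ G, cj Q₀ x ≤ cj S₀ (y * l) := by
    rintro x y ⟨k, hk, l, hl, e⟩
    have h := (hQT x k hk).trans e.le
    exact ⟨h.trans (hTG y l hl), l, hl, h⟩
  have hVx : ∀ x, V x ≤ cj Q₀ x := fun x v hv => mem_cj.mpr (hVQ (hV1 x v hv)).1
  have hex : ∃ n, ∃ x y, Walk G S₀ n x y ∧ ¬ V x ≤ cj Q₀ y := by
    by_contra hno
    simp only [not_exists, not_and, not_not] at hno
    have hreach : ∀ y : H, ∃ n, Walk G S₀ n 1 y := by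
      intro y
      have htop : Subgroup.closure ((G : Set H) ∪ {g}) = ⊤ :=
        hmax _ (fun a ha => Subgroup.subset_closure (Or.inl ha)) g
          (Subgroup.subset_closure (Or.inr rfl)) hgG
      have hy : y ∈ Subgroup.closure ((G : Set H) ∪ {g}) := htop ▸ Subgroup.mem_top _
      induction hy using Subgroup.closure_induction_right with
      | one => exact ⟨0, rfl⟩
      | mul_right z _ m hm ih =>
        obtain ⟨n, hn⟩ := ih
        rcases hm with hm | hm
        · exact ⟨n + 1, walk_snoc hn ⟨m, hm, 1, one_mem _, by rw [mul_one]⟩⟩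
        · rw [Set.mem_singleton_iff] at hm; subst hm
          exact ⟨n + 1, walk_snoc hn ⟨1, one_mem _, 1, one_mem _, by
            rw [mul_one, mul_one, ← cj_cj S₀ z m, hgS]⟩⟩
      | mul_inv_cancel z _ m hm ih =>
        obtain ⟨n, hn⟩ := ih
        rcases hm with hm | hm
        · exact ⟨n + 1, walk_snoc hn ⟨m⁻¹, inv_mem hm, 1, one_mem _, by rw [mul_one]⟩⟩
        · rw [Set.mem_singleton_iff] at hm; subst hm
          exact ⟨n + 1, walk_snoc hn ⟨1, one_mem _, 1, one_mem _, by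
            rw [mul_one, mul_one, ← cj_cj S₀ z m⁻¹,
              show cj S₀ m⁻¹ = S₀ from Subgroup.mem_normalizer_iff_map_conj_eq.mp hginv]⟩⟩
    have hle : V 1 ≤ G.normalCore := fun v hv y => by
      obtain ⟨n, hn⟩ := hreach y⁻¹
      have := Subgroup.map_subtype_le (Cfsg.pCore 2 ↥G) (mem_cj.mp (hno n 1 y⁻¹ hn hv))
      simpa using this
    rw [hnorm G.normalCore (Subgroup.normalCore_le G) (Subgroup.normalCore_normal G)] at hle
    have hZV : zc S₀ ≤ V 1 := fun z hz => le_iSup (fun k : ↥G => cj (zc S₀) (1 * k)) 1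
      ⟨z, hz, by simp⟩
    exact hZ1 (le_bot_iff.mp (hZV.trans hle))
  obtain ⟨x, y, hw, hne⟩ := Nat.find_spec hex
  obtain ⟨n, hn⟩ : ∃ n, Nat.find hex = n + 1 := by
    refine ⟨Nat.find hex - 1, ?_⟩
    by_contra h
    rw [show Nat.find hex = 0 by omega] at hw
    exact hne ((show x = y from hw) ▸ hVx x)
  rw [hn] at hw
  obtain ⟨y', hy', hyy⟩ := walk_last hw
  obtain ⟨x', hx', hxy⟩ := walk_last (walk_symm hw)
  have hbelow : ∀ a b, Walk G S₀ n a b → V a ≤ cj Q₀ b := fun a b hab => by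
    by_contra h
    exact Nat.find_min hex (show n < Nat.find hex by omega) ⟨a, b, hab, h⟩
  obtain ⟨-, l, hl, hVxT⟩ := hstep y' y hyy
  replace hVxT : V x ≤ cj S₀ (y * l) := (hbelow x y' hy').trans hVxT
  have hVyC : V y ≤ cj G x := (hbelow y x' hx').trans (hstep x' x hxy).1
  have hcenty : ∀ u ∈ cj G y, (∀ v ∈ V y, u * v = v * u) → u ∈ cj Q₀ y := by
    intro u hu hc
    refine mem_cj.mpr (hcent _ (mem_cj.mp hu) fun v hv => ?_)
    have h1 := hc _ (hVconj y v hv)
    calc y⁻¹ * u * y * v = y⁻¹ * (u * (y * v * y⁻¹)) * y := by group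
      _ = y⁻¹ * (y * v * y⁻¹ * u) * y := by rw [h1]
      _ = v * (y⁻¹ * u * y) := by group
  obtain ⟨w, hw', hwQ⟩ : ∃ w ∈ V y, w ∉ cj Q₀ x := by
    by_contra hno
    simp only [not_exists, not_and, not_not] at hno
    exact hne fun u hu => hcenty u (hTG y l hl (hVxT hu)) fun v hv => (hVcomm x u hu v (hno v hv)).symm
  have hw₀G : x⁻¹ * w * x ∈ G := mem_cj.mp (hVyC hw')
  haveI : (Cfsg.pCore 2 ↥G).Normal := hKn
  haveI hVn : ((V 1).subgroupOf G).Normal := ⟨fun v hv k => hVG k k.2 v hv⟩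
  have hq3 : q = 3 := by
    refine q_eq_three (Cfsg.pCore 2 ↥G) ((V 1).subgroupOf G) hq hq2 φ (fun v hv => Subtype.ext (hsq v hv))
      (fun k hk => ?_) ⟨_, hw₀G⟩ ?_ ?_ ?_
    · obtain ⟨k', hk', e⟩ := hcent k k.2 (fun v hv => congrArg Subtype.val
        (hk ⟨v, hS₀G (hQS (hVQ hv).1)⟩ hv))
      exact Subtype.ext e ▸ hk'
    · intro h
      exact hwQ (mem_cj.mpr ⟨_, h, rfl⟩)
    · refine Subtype.ext ?_
      show x⁻¹ * w * x * (x⁻¹ * w * x) = 1
      have h2 := hsq _ (hV1 y w hw')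
      rw [show x⁻¹ * w * x * (x⁻¹ * w * x) = x⁻¹ * y * (y⁻¹ * w * y * (y⁻¹ * w * y)) * y⁻¹ * x by group, h2]
      group
    · intro v₁ hv₁ v₂ hv₂ m₁ m₂
      have hw2 : w * w = 1 := by
        have h2 := hsq _ (hV1 y w hw')
        rw [show w * w = y * (y⁻¹ * w * y * (y⁻¹ * w * y)) * y⁻¹ by group, h2]
        group
      have fix : ∀ v : ↥G, x * v * x⁻¹ ∈ cj Q₀ y →
          (⟨_, hw₀G⟩ : ↥G) * v * ⟨_, hw₀G⟩ = v := by
        intro v hv
        have e := hVcomm y w hw' _ hv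
        refine Subtype.ext ?_
        show x⁻¹ * w * x * v * (x⁻¹ * w * x) = v
        calc x⁻¹ * w * x * (v : H) * (x⁻¹ * w * x) = x⁻¹ * (w * (x * v * x⁻¹)) * w * x := by group
          _ = x⁻¹ * (x * v * x⁻¹ * w) * w * x := by rw [e]
          _ = v * (x⁻¹ * (w * w) * x) := by group
          _ = v := by rw [hw2]; group
      have out : ∀ v : ↥G, (v : H) ∈ V 1 → ¬ (⟨_, hw₀G⟩ : ↥G) * v * ⟨_, hw₀G⟩ = v →
          ∃ s : ↥(S : Subgroup ↥G), (((s : ↥G)) : H) = (y * l)⁻¹ * (x * v * x⁻¹) * (y * l) ∧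
            (s : ↥G) ∉ Cfsg.pCore 2 ↥G := by
        intro v hv hm
        obtain ⟨s, hs, e⟩ := mem_cj.mp (hVxT (hVconj x v hv))
        refine ⟨⟨s, hs⟩, e, fun hsQ => hm (fix v (mem_cj.mpr ?_))⟩
        have := hQn l hl _ (⟨s, hsQ, rfl⟩ : G.subtype s ∈ Q₀)
        rw [e] at this
        rwa [show l * ((y * l)⁻¹ * (x * v * x⁻¹) * (y * l)) * l⁻¹ = y⁻¹ * (x * v * x⁻¹) * y by group] at this
      obtain ⟨s₁, e₁, q₁⟩ := out v₁ hv₁ m₁
      obtain ⟨s₂, e₂, q₂⟩ := out v₂ hv₂ m₂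
      refine fix _ (mem_cj.mpr ?_)
      have hs : (s₁ : ↥G) * s₂ ∈ Cfsg.pCore 2 ↥G := by
        have h := Subgroup.mul_mem_iff_of_index_two hrel (a := s₁) (b := s₂)
        simp only [Subgroup.mem_subgroupOf, Subgroup.coe_mul] at h
        exact h.mpr (iff_of_false q₁ q₂)
      have := hQn l hl _ (⟨_, hs, rfl⟩ : G.subtype ((s₁ : ↥G) * s₂) ∈ Q₀)
      simp only [Subgroup.subtype_apply, Subgroup.coe_mul, e₁, e₂] at this
      rw [Subgroup.coe_mul]
      rwa [show l * ((y * l)⁻¹ * (x * v₁ * x⁻¹) * (y * l) * ((y * l)⁻¹ * (x * v₂ * x⁻¹) * (y * l))) * l⁻¹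
        = y⁻¹ * (x * ((v₁ : H) * v₂) * x⁻¹) * y by group] at this
  -- conclusion
  subst hq3
  obtain ⟨e3⟩ := dihedral_three
  obtain ⟨c2, s2, f2⟩ := transfer G S g hchar hgS (φ.trans e3)
  have hne' : cj G g ≠ G := fun e => by
    have hn := hmax _ Subgroup.le_normalizer g (Subgroup.mem_normalizer_iff_map_conj_eq.mpr e) hgG
    have hb := hnorm G le_rfl (Subgroup.normalizer_eq_top_iff.mp hn)
    exact hS₀1 ((Subgroup.eq_bot_iff_forall _).mpr fun t _ =>
      Subtype.ext (Subgroup.mem_bot.mp (hb ▸ t.2)))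
  have hinf : S₀ = G ⊓ cj G g := by
    have h1 : S₀ ≤ G ⊓ cj G g := le_inf hS₀G (hgS ▸ Subgroup.map_mono hS₀G)
    refine le_antisymm h1 fun a ha => ?_
    have hle : (S : Subgroup ↥G) ≤ (cj G g).subgroupOf G := fun s hs => (h1 ⟨s, hs, rfl⟩).2
    rcases (Nat.dvd_prime hq).mp (hSq ▸ Subgroup.index_dvd_of_le hle) with e | e
    · exfalso
      have hGg : G ≤ cj G g := Subgroup.subgroupOf_eq_top.mp (Subgroup.index_eq_one.mp e)
      exact hne' (Subgroup.eq_of_le_of_card_ge hGg (by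
        rw [Subgroup.card_map_of_injective (f := (MulAut.conj g).toMonoidHom) (MulAut.conj g).injective])).symm
    · have heq : (S : Subgroup ↥G) = (cj G g).subgroupOf G := by
        refine Subgroup.eq_of_le_of_card_ge hle ?_
        have h3 := Subgroup.card_mul_index (S : Subgroup ↥G)
        have h4 := Subgroup.card_mul_index ((cj G g).subgroupOf G)
        rw [hSq] at h3; rw [e] at h4
        exact le_of_eq (Nat.eq_of_mul_eq_mul_right hq.pos (h4.trans h3.symm))
      exact ⟨⟨a, ha.1⟩, heq ▸ (ha.2 : (⟨a, ha.1⟩ : ↥G) ∈ (cj G g).subgroupOf G), rfl⟩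
  have hgen : G ⊔ cj G g = ⊤ := by
    refine hG.2 _ (lt_of_le_not_ge le_sup_left fun h => hne' ?_)
    exact Subgroup.eq_of_le_of_card_ge (le_sup_right.trans h) (by
      rw [Subgroup.card_map_of_injective (f := (MulAut.conj g).toMonoidHom) (MulAut.conj g).injective])
  have c1 : G ⊓ Subgroup.centralizer (Cfsg.pCoreOf 2 G : Set H) ≤ Cfsg.pCoreOf 2 G := fun a ha =>
    ⟨⟨a, ha.1⟩, hchar (Subgroup.mem_centralizer_iff.mpr fun t ht =>
      Subtype.ext (Subgroup.mem_centralizer_iff.mp ha.2 _ ⟨t, ht, rfl⟩)), rfl⟩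
  have s1 : ∃ R : Sylow 2 ↥G, (R : Subgroup ↥G) = S₀.subgroupOf G :=
    ⟨S, (Subgroup.comap_map_eq_self_of_injective G.subtype_injective _).symm⟩
  have res := Cfsg.Agent.S2858.result G (cj G g) hgen S₀ hinf
    (by intro P hP; rcases hP with rfl | rfl; exacts [c1, c2])
    (by intro P hP; rcases hP with rfl | rfl; exacts [s1, s2])
    (fun N hN1 hN2 => hnorm N (hN2.trans hS₀G) hN1)
    (by intro P hP; rcases hP with rfl | rfl; exacts [⟨φ.trans e3⟩, f2])
    (by
      intro P hP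
      rcases hP with rfl | rfl
      · intro h; exact hnc 1 (by ext a; simp [mem_cj]) (by
          intro a ha; exact h (by simpa [mem_cj] using ha))
      · exact hnc g hgS)
  exact res.imp And.left fun h => h.1.map fun e => e.trans MulEquiv.prodComm

end Cfsg.Agent.S2772
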