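import Cfsg.Statements.S2779
import Cfsg.Agent.Lib.NaturalSL2
-- import your own Cfsg.Agent.* helpers here

set_option autoImplicit false
open Cfsg

namespace Cfsg.Agent.S2779

/-- Let L act on the elementary abelian p-group V (inside a finite group, by conjugation, faithfully) as SL₂(F) on its natural module, F a field with p^n elements, and let S be a Sylow p-subgroup of L. Then [V, S, S] = 1; |V| = p^(2n) and |C_V(S)| = p^n; and for every nonidentity s ∈ S and every v ∈ V outside C_V(S): C_V(s) = C_V(S) = [V, S] = [V, s] = the subgroup generated by the commutators [v, t], t ∈ S. -/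
theorem result {G : Type*} [Group G] [Finite G] {p : ℕ} [Fact p.Prime] {F : Type*} [Field F] [Fintype F] (n : ℕ) (hF : Fintype.card F = p ^ n) (V L : Subgroup G) (hnat : Cfsg.IsNaturalSL2Module F V L) (hf : L ⊓ Subgroup.centralizer (V : Set G) = ⊥) (S : Sylow p ↥L) (T : Subgroup G) (hT : T = ((S : Subgroup ↥L).map L.subtype)) : ⁅⁅V, T⁆, T⁆ = ⊥ ∧ Nat.card V = p ^ (2 * n) ∧ Nat.card ↥(V ⊓ Subgroup.centralizer ((T : Subgroup G) : Set G)) = p ^ n ∧ ∀ s ∈ T, s ≠ 1 → (V ⊓ Subgroup.centralizer ({s} : Set G)) = (V ⊓ Subgroup.centralizer ((T : Subgroup G) : Set G)) ∧ ⁅V, T⁆ = (V ⊓ Subgroup.centralizer ((T : Subgroup G) : Set G)) ∧ ⁅V, Subgroup.zpowers s⁆ = (V ⊓ Subgroup.centralizer ((T : Subgroup G) : Set G)) ∧ ∀ v ∈ V, v ∉ Subgroup.centralizer (T : Set G) → Subgroup.closure {x : G | ∃ t ∈ T, x = v * t * v⁻¹ * t⁻¹} = (V ⊓ Subgroup.centralizer ((T : Subgroup G) : Set G)) := by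
  classical
  subst hT
  haveI : CharP F p := charP_of_card_eq_prime_pow hF
  obtain ⟨θ, e, h⟩ := CfsgLib.NaturalSL2.exists_coord V L hnat hf S
  set T := (S : Subgroup L).map L.subtype
  set C := V ⊓ Subgroup.centralizer ((T : Subgroup G) : Set G) with hC
  have hVT : ⁅V, T⁆ = C := h.commutator_eq le_rfl one_ne_zero (h.t_mem 1)
  have hcardV : Nat.card V = p ^ (2 * n) := by
    rw [← Nat.card_congr (Equiv.ofBijective (fun a => (⟨e a, h.e_mem a⟩ : V))
      ⟨fun a b he => h.inj (congrArg Subtype.val he), fun v => by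
        obtain ⟨a, ha⟩ := (h.mem v).mp v.2
        exact ⟨a, Subtype.ext ha⟩⟩), Nat.card_eq_fintype_card, Fintype.card_fun, Fintype.card_fin, hF, ← pow_mul,
      mul_comm]
  have hcardC : Nat.card C = p ^ n := by
    rw [← Nat.card_congr (Equiv.ofBijective (fun s : F => (⟨e ![s, 0], h.fixed_eq.mpr ⟨s, rfl⟩⟩ : C))
      ⟨fun a b he => by simpa using congrFun (h.inj (congrArg Subtype.val he)) 0, fun x => by
        obtain ⟨s, hs⟩ := h.fixed_eq.mp x.2
        exact ⟨s, Subtype.ext hs.symm⟩⟩), Nat.card_eq_fintype_card, hF]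
  refine ⟨?_, hcardV, hcardC, fun s hs hs1 => ?_⟩
  · rw [hVT, Subgroup.commutator_eq_bot_iff_le_centralizer]
    exact inf_le_right
  obtain ⟨t, rfl⟩ := (h.sylow s).mp hs
  have ht : t ≠ 0 := fun h0 => hs1 (by
    subst h0
    rw [show (Multiplicative.ofAdd (0 : F)) = 1 from rfl, map_one, map_one]; rfl)
  refine ⟨h.fixed_singleton ht, hVT, h.commutator_eq (Subgroup.zpowers_le.mpr hs) ht (Subgroup.mem_zpowers _),
    fun v hv hvC => ?_⟩
  obtain ⟨a, rfl⟩ := (h.mem v).mp hv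
  have ha : a 1 ≠ 0 := fun h1 => hvC ((h.fixed_iff a).mpr h1)
  refine le_antisymm ((Subgroup.closure_le _).mpr ?_) fun x hx => Subgroup.subset_closure ?_
  · rintro x ⟨u, hu, rfl⟩
    obtain ⟨s, rfl⟩ := (h.sylow u).mp hu
    rw [h.comm_eq]
    exact h.fixed_eq.mpr ⟨_, rfl⟩
  · obtain ⟨s, rfl⟩ := h.fixed_eq.mp hx
    exact ⟨_, h.t_mem (-(s / a 1)), by rw [h.comm_eq]; congr 1; simp [div_mul_cancel₀ _ ha]⟩

end Cfsg.Agent.S2779
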