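import Cfsg.Statements.S2780
import Cfsg.Agent.Lib.NaturalSL2
-- import your own Cfsg.Agent.* helpers here

set_option autoImplicit false
open Cfsg

namespace Cfsg.Agent.S2780

/-- Let L act on the elementary abelian p-group V (inside a finite group, faithfully) as SL₂(F) on its natural module, F a field with p^n elements, S a Sylow p-subgroup of L. Then: for every g ∈ L not normalizing S, V is the internal direct product of C_V(S) and C_V(gSg⁻¹); every nonidentity element of L of order prime to p acts on V without nonidentity fixed points; and C_V(S) and V/C_V(S) are irreducible for N_L(S): the only N_L(S)-invariant subgroups of C_V(S) are 1 and C_V(S), and the only N_L(S)-invariant subgroups between C_V(S) and V are those two. -/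
theorem result {G : Type*} [Group G] [Finite G] {p : ℕ} [Fact p.Prime] {F : Type*} [Field F] [Fintype F] (n : ℕ) (hF : Fintype.card F = p ^ n) (V L : Subgroup G) (hnat : Cfsg.IsNaturalSL2Module F V L) (hf : L ⊓ Subgroup.centralizer (V : Set G) = ⊥) (S : Sylow p ↥L) (T : Subgroup G) (hT : T = ((S : Subgroup ↥L).map L.subtype)) : (∀ g ∈ L, g ∉ Subgroup.normalizer (T : Set G) → Cfsg.IsInternalDirectProduct (V ⊓ Subgroup.centralizer ((T : Subgroup G) : Set G)) (V ⊓ Subgroup.centralizer ((T.map (MulAut.conj g).toMonoidHom : Subgroup G) : Set G)) V) ∧ (∀ x ∈ L, x ≠ 1 → (orderOf x).Coprime p → (V ⊓ Subgroup.centralizer ({x} : Set G)) = ⊥) ∧ (∀ U : Subgroup G, U ≤ (V ⊓ Subgroup.centralizer ((T : Subgroup G) : Set G)) → L ⊓ Subgroup.normalizer (T : Set G) ≤ Subgroup.normalizer (U : Set G) → U = ⊥ ∨ U = (V ⊓ Subgroup.centralizer ((T : Subgroup G) : Set G))) ∧ (∀ U : Subgroup G, (V ⊓ Subgroup.centralizer ((T : Subgroup G) : Set G)) ≤ U → U ≤ V → L ⊓ Subgroup.normalizer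 (T : Set G) ≤ Subgroup.normalizer (U : Set G) → U = (V ⊓ Subgroup.centralizer ((T : Subgroup G) : Set G)) ∨ U = V) := by
  classical
  subst hT
  haveI : CharP F p := charP_of_card_eq_prime_pow hF
  obtain ⟨θ, e, h⟩ := CfsgLib.NaturalSL2.exists_coord V L hnat hf S
  set T := (S : Subgroup L).map L.subtype
  refine ⟨fun g hgL hgN => ?_, fun x hxL hx1 hco => ?_, fun U hU hN => ?_, fun U hU hUV hN => ?_⟩
  · set A := V ⊓ Subgroup.centralizer ((T : Subgroup G) : Set G)
    set B := V ⊓ Subgroup.centralizer ((T.map (MulAut.conj g).toMonoidHom : Subgroup G) : Set G)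
    set M := θ ⟨g, hgL⟩ with hM
    have hB : ∀ a, e a ∈ Subgroup.centralizer ((T.map (MulAut.conj g).toMonoidHom : Subgroup G) : Set G) ↔
        (M⁻¹).1.mulVec a 1 = 0 := by
      intro a
      rw [← h.fixed_iff, hM, ← map_inv, ← h.conj, Subgroup.mem_centralizer_iff, Subgroup.mem_centralizer_iff]
      constructor
      · intro hc t ht
        have h1 := congrArg (fun z => g⁻¹ * z * g) (hc (g * t * g⁻¹) ⟨t, ht, rfl⟩)
        simp only [InvMemClass.coe_inv]
        simpa [mul_assoc] using h1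
      · rintro hc _ ⟨t, ht, rfl⟩
        have h1 := congrArg (fun z => g * z * g⁻¹) (hc t ht)
        simp only [InvMemClass.coe_inv] at h1
        simpa [mul_assoc] using h1
    have hinv : ∀ a, (M⁻¹).1.mulVec a 1 = -M.1 1 0 * a 0 + M.1 0 0 * a 1 := fun a => by
      simp [Matrix.SpecialLinearGroup.coe_inv, Matrix.adjugate_fin_two, Matrix.mulVec, dotProduct, Fin.sum_univ_two]
    have hM10 : M.1 1 0 ≠ 0 := by
      intro h10
      have hd : M.1 0 0 * M.1 1 1 = 1 := by
        have h2 := M.2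
        rw [Matrix.det_fin_two, h10, mul_zero, sub_zero] at h2
        exact h2
      have ha : M.1 0 0 ≠ 0 := left_ne_zero_of_mul_eq_one hd
      have hconj : ∀ t : F, M * CfsgLib.SL2Sylow.us (Multiplicative.ofAdd t) * M⁻¹ =
          CfsgLib.SL2Sylow.us (Multiplicative.ofAdd (M.1 0 0 ^ 2 * t)) := fun t => by
        rw [mul_inv_eq_iff_eq_mul]
        apply Subtype.ext
        show M.1 * !![1, t; 0, 1] = !![1, M.1 0 0 ^ 2 * t; 0, 1] * M.1
        ext i j
        fin_cases i <;> fin_cases j <;> simp [Matrix.mul_apply, Fin.sum_univ_two, h10]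
        linear_combination -(M.1 0 0 * t) * hd
      have key : ∀ t : F, g * ((θ.symm (CfsgLib.SL2Sylow.us (Multiplicative.ofAdd t)) : L) : G) * g⁻¹ =
          ((θ.symm (CfsgLib.SL2Sylow.us (Multiplicative.ofAdd (M.1 0 0 ^ 2 * t))) : L) : G) := fun t => by
        rw [← hconj, hM, map_mul, map_mul, map_inv, MulEquiv.symm_apply_apply]
        rfl
      refine hgN (Subgroup.mem_normalizer_iff.mpr fun x => ⟨fun hx => ?_, fun hx => ?_⟩)
      · obtain ⟨t, rfl⟩ := (h.sylow x).mp hx
        rw [key]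
        exact h.t_mem _
      · obtain ⟨t, ht⟩ := (h.sylow _).mp hx
        have h2 := key (t / M.1 0 0 ^ 2)
        rw [mul_div_cancel₀ _ (pow_ne_zero 2 ha), ← ht] at h2
        exact mul_left_cancel (mul_right_cancel h2) ▸ h.t_mem _
    refine ⟨inf_le_left, inf_le_left, fun a ha b hb => ?_, ?_, le_antisymm (sup_le inf_le_left inf_le_left) fun v hv => ?_⟩
    · obtain ⟨x, rfl⟩ := (h.mem a).mp ha.1
      obtain ⟨y, rfl⟩ := (h.mem b).mp hb.1
      rw [← h.add, ← h.add, add_comm]
    · rw [eq_bot_iff]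
      rintro v ⟨hvA, hvB⟩
      obtain ⟨s, rfl⟩ := h.fixed_eq.mp hvA
      have h1 := (hB _).mp hvB.2
      rw [hinv] at h1
      simp [hM10] at h1
      rw [Subgroup.mem_bot, h1, show (![0, 0] : Fin 2 → F) = 0 by ext i; fin_cases i <;> rfl, h.zero]
    · obtain ⟨a, rfl⟩ := (h.mem v).mp hv
      have e1 : a = ![a 0 - M.1 0 0 * a 1 / M.1 1 0, 0] + ![M.1 0 0 * a 1 / M.1 1 0, a 1] := by
        ext i
        fin_cases i <;> simp
      rw [e1, h.add]
      refine Subgroup.mul_mem_sup (h.fixed_eq.mpr ⟨_, rfl⟩) ⟨h.e_mem _, (hB _).mpr ?_⟩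
      rw [hinv]
      simp only [Matrix.cons_val_zero, Matrix.cons_val_one]
      field_simp
      ring
  · rw [eq_bot_iff]
    rintro v ⟨hv, hvx⟩
    obtain ⟨a, rfl⟩ := (h.mem v).mp hv
    rw [Subgroup.mem_bot]
    by_contra hne
    refine hx1 (congrArg Subtype.val (θ.injective ((CfsgLib.NaturalSL2.eq_one_of_fixes (p := p) (θ ⟨x, hxL⟩) ?_ a
      (fun h0 => hne (by rw [h0, h.zero])) ((h.centralizes_iff ⟨x, hxL⟩ a).mp hvx)).trans (map_one θ).symm)))
    rwa [MulEquiv.orderOf_eq, Subgroup.orderOf_mk]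
  · refine or_iff_not_imp_left.mpr fun hne => le_antisymm hU fun v hv => ?_
    obtain ⟨⟨u, hu⟩, hu1⟩ := (Subgroup.ne_bot_iff_exists_ne_one.mp hne)
    obtain ⟨s, rfl⟩ := h.fixed_eq.mp (hU hu)
    obtain ⟨r, rfl⟩ := h.fixed_eq.mp hv
    have hs : s ≠ 0 := fun h0 => hu1 (Subtype.ext (by
      show e ![s, 0] = 1
      rw [h0, show (![0, 0] : Fin 2 → F) = 0 by ext i; fin_cases i <;> rfl, h.zero]))
    by_cases hr : r = 0
    · rw [hr, show (![0, 0] : Fin 2 → F) = 0 by ext i; fin_cases i <;> rfl, h.zero]; exact U.one_mem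
    obtain ⟨d, hd, hde⟩ := h.diag (div_ne_zero hr hs)
    have h1 := (Subgroup.mem_normalizer_iff.mp (hN hd) _).mp hu
    rw [hde] at h1
    simpa [div_mul_cancel₀ _ hs] using h1
  · refine or_iff_not_imp_left.mpr fun hne => le_antisymm hUV fun v hv => ?_
    obtain ⟨u, hu, huC⟩ := SetLike.exists_of_lt (lt_of_le_of_ne hU (Ne.symm hne))
    obtain ⟨a, rfl⟩ := (h.mem u).mp (hUV hu)
    obtain ⟨b, rfl⟩ := (h.mem v).mp hv
    have ha : a 1 ≠ 0 := fun h1 => huC ⟨h.e_mem a, (h.fixed_iff a).mpr h1⟩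
    have h0 : e ![0, a 1] ∈ U := by
      have h2 := U.mul_mem (U.inv_mem (hU (h.fixed_eq.mpr ⟨a 0, rfl⟩))) hu
      rw [← h.neg, ← h.add] at h2
      have e2 : -(![a 0, 0] : Fin 2 → F) + a = ![0, a 1] := by ext i; fin_cases i <;> simp
      rwa [e2] at h2
    have hb : e ![0, b 1] ∈ U := by
      by_cases hb0 : b 1 = 0
      · rw [hb0, show (![0, 0] : Fin 2 → F) = 0 by ext i; fin_cases i <;> rfl, h.zero]; exact U.one_mem
      obtain ⟨d, hd, hde⟩ := h.diag (div_ne_zero ha hb0)
      have h1 := (Subgroup.mem_normalizer_iff.mp (hN hd) _).mp h0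
      rw [hde] at h1
      simpa [inv_div, div_mul_cancel₀ _ ha] using h1
    have e3 : b = ![b 0, 0] + ![0, b 1] := by ext i; fin_cases i <;> simp
    rw [e3, h.add]
    exact U.mul_mem (hU (h.fixed_eq.mpr ⟨_, rfl⟩)) hb

end Cfsg.Agent.S2780
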