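import Cfsg.Statements.S2781
import Mathlib
import Cfsg.Agent.Lib.PReduced

set_option autoImplicit false
set_option linter.unusedVariables false
open Cfsg
open scoped commutatorElement

namespace Cfsg.Agent.S2781

open CfsgLib CfsgLib.PReduced

/-- Let H act faithfully by conjugation on the elementary abelian p-subgroup V of a finite group, let O^p(H) be the subgroup of H generated by its elements of order prime to p, and T a Sylow p-subgroup of O^p(H). If V is generated by the H-conjugates of C_V(T) (V is the smallest H-invariant subgroup containing C_V(T)), then V = [V, O^p(H)]·C_V(O^p(H)). -/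
theorem result {G : Type*} [Group G] [Finite G] {p : ℕ} [Fact p.Prime] (V H : Subgroup G) (hV : Cfsg.IsElementaryAbelian p V) (hHV : H ≤ Subgroup.normalizer (V : Set G)) (hf : H ⊓ Subgroup.centralizer (V : Set G) = ⊥) (R : Subgroup G) (hR : R = (Cfsg.pResidual p ↥H).map H.subtype) (S : Sylow p ↥R) (T : Subgroup G) (hT : T = ((S : Subgroup ↥R).map R.subtype)) (hgen : ∀ W : Subgroup G, H ≤ Subgroup.normalizer (W : Set G) → (V ⊓ Subgroup.centralizer ((T : Subgroup G) : Set G)) ≤ W → V ≤ W) : ⁅V, R⁆ ⊔ (V ⊓ Subgroup.centralizer ((R : Subgroup G) : Set G)) = V := by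
  have hRH : R ≤ H := hR ▸ Subgroup.map_subtype_le _
  have hTR : T ≤ R := hT ▸ Subgroup.map_subtype_le _
  have hRV : R ≤ Subgroup.normalizer (V : Set G) := hRH.trans hHV
  have hidx : ¬ p ∣ T.relIndex R := by
    rw [hT, Subgroup.relIndex, Subgroup.subgroupOf, Subgroup.comap_map_eq_self_of_injective R.subtype_injective]
    exact S.not_dvd_index
  have hMV : ⁅V, R⁆ ⊔ (V ⊓ Subgroup.centralizer (R : Set G)) ≤ V :=
    sup_le (commutator_le_of_le_normalizer hRV) inf_le_left
  refine le_antisymm hMV (hgen _ ?_ ?_)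
  · intro h hh
    have hR' : R.map (MulAut.conj h).toMonoidHom = R := by
      refine Subgroup.eq_of_le_of_card_ge ?_ (Subgroup.card_map_of_injective (MulEquiv.injective (MulAut.conj h))).ge
      rw [hR]
      rintro _ ⟨_, ⟨x, hx, rfl⟩, rfl⟩
      exact ⟨_, PResidual.pResidual_normal.conj_mem x hx ⟨h, hh⟩, rfl⟩
    have hV' := Local.map_conj_eq_of_mem_normalizer (hHV hh)
    have hC' : (Subgroup.centralizer (R : Set G)).map (MulAut.conj h).toMonoidHom = Subgroup.centralizer (R : Set G) :=
      Local.map_conj_eq_of_mem_normalizer (CharP.normalizer_le_normalizer_centralizer R (Local.mem_normalizer_of_map_conj_eq hR'))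
    refine Local.mem_normalizer_of_map_conj_eq ?_
    rw [Subgroup.map_sup, Subgroup.map_commutator, hR', hV', Subgroup.map_inf _ _ _ (MulEquiv.injective (MulAut.conj h)), hV', hC']
  · intro u (hu : u ∈ V ⊓ Subgroup.centralizer (T : Set G))
    obtain ⟨d, hd, c, hc, rfl, -⟩ := AbelianTrace.exists_decomp (p := p) (u := u) V R T hV.1 (isPGroup_of_elem hV) hRV hTR hidx hu
      ⁅V, R⁆ (fun k hk => by
        have := (⁅V, R⁆).inv_mem (Subgroup.commutator_mem_commutator hu.1 hk)
        simpa [commutatorElement_def, mul_assoc] using this)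
    exact Subgroup.mul_mem_sup hd.1 hc

end Cfsg.Agent.S2781
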