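import Cfsg.Statements.S2787
import Cfsg.Agent.Lib.Quadratic.Consequences
import Cfsg.Agent.Lib.Quadratic.SectionQuot
import Cfsg.Agent.Lib.Chev.Twist.ReeCent

set_option autoImplicit false
open Cfsg
open scoped commutatorElement

namespace Cfsg.Agent.S2787

theorem neg_one_of_sq {F : Type*} [Field F] [Fintype F] (hF : Odd (Fintype.card F))
    {A : Matrix.SpecialLinearGroup (Fin 2) F} (h : A * A = 1) : A = 1 ∨ A = -1 := by
  have h2 : (2 : F) ≠ 0 := CfsgLib.SL2Orders.two_ne_zero_of_odd hF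
  have e := CfsgLib.SL2Orders.sq_eq A
  rw [← Matrix.SpecialLinearGroup.coe_mul, h, Matrix.SpecialLinearGroup.coe_one] at e
  have e' : A.1.trace • A.1 = (2 : F) • (1 : Matrix (Fin 2) (Fin 2) F) := by
    rw [eq_sub_iff_add_eq] at e
    rw [← e, two_smul]
  have ht : A.1.trace ≠ 0 := by
    intro h0
    have h00 := congrFun (congrFun e' 0) 0
    simp [h0, h2.symm] at h00
  have hA : A.1 = ((2 : F) / A.1.trace) • (1 : Matrix (Fin 2) (Fin 2) F) := by
    rw [div_eq_inv_mul, mul_smul, ← e', inv_smul_smul₀ ht]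
  have hd := A.2
  rw [hA, Matrix.det_smul, Matrix.det_one, mul_one, Fintype.card_fin] at hd
  rcases sq_eq_one_iff.1 hd with h1 | h1
  · left
    apply Subtype.ext
    rw [hA, h1, one_smul, Matrix.SpecialLinearGroup.coe_one]
  · right
    apply Subtype.ext
    rw [hA, h1, Matrix.SpecialLinearGroup.coe_neg, Matrix.SpecialLinearGroup.coe_one, neg_one_smul]

theorem psl_cyclicInvolutions {F : Type*} [Field F] [Fintype F] (hF : Odd (Fintype.card F))
    (T : Subgroup (Matrix.ProjectiveSpecialLinearGroup (Fin 2) F)) (hT : IsPGroup 2 T) :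
    ∃ c, ∀ x ∈ T, x ∈ Subgroup.zpowers c ∨ x * x = 1 := by
  classical
  haveI := Fact.mk Nat.prime_two
  let π : Matrix.SpecialLinearGroup (Fin 2) F →* Matrix.ProjectiveSpecialLinearGroup (Fin 2) F :=
    QuotientGroup.mk' _
  have hπ : Function.Surjective π := QuotientGroup.mk'_surjective _
  let S₀ : Sylow 2 (Matrix.SpecialLinearGroup (Fin 2) F) := default
  obtain ⟨T', hT'⟩ := hT.exists_le_sylow
  obtain ⟨g, hg⟩ := MulAction.exists_smul_eq (Matrix.ProjectiveSpecialLinearGroup (Fin 2) F)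
    (S₀.mapSurjective hπ) T'
  obtain ⟨g₀, rfl⟩ := hπ g
  set S := g₀ • S₀ with hS
  obtain ⟨k, hk, ⟨e⟩⟩ := Cfsg.Agent.S0261.result hF S
  refine ⟨π (e.symm (QuaternionGroup.a 1) : S), fun x hx => ?_⟩
  have hx' : x ∈ (T' : Subgroup _) := hT' hx
  rw [← hg, Sylow.coe_subgroup_smul, Subgroup.mem_pointwise_smul_iff_inv_smul_mem] at hx'
  obtain ⟨y, hy, hyx⟩ := hx'
  obtain ⟨z, hz, rfl⟩ : ∃ z ∈ (S : Subgroup _), π z = x := by
    refine ⟨g₀ * y * g₀⁻¹, ?_, ?_⟩
    · rw [hS, Sylow.coe_subgroup_smul]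
      exact ⟨y, hy, by simp⟩
    · rw [map_mul, map_mul, map_inv, hyx]
      simp [MulAut.smul_def, mul_assoc]
  rcases hq : e ⟨z, hz⟩ with i | i
  · left
    refine ⟨i.val, ?_⟩
    show π ((e.symm (QuaternionGroup.a 1) : S) : Matrix.SpecialLinearGroup (Fin 2) F) ^ (i.val : ℤ) = π z
    rw [zpow_natCast, ← map_pow, ← Subgroup.coe_pow, ← map_pow, QuaternionGroup.a_one_pow, ZMod.natCast_zmod_val,
      ← hq, MulEquiv.symm_apply_apply]
  · right
    have h4 : (z * z) * (z * z) = 1 := by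
      have h1 : (⟨z, hz⟩ * ⟨z, hz⟩ : S) * (⟨z, hz⟩ * ⟨z, hz⟩) = 1 := e.injective (by
        rw [map_mul, map_mul, map_one, hq, QuaternionGroup.xa_mul_xa, QuaternionGroup.a_mul_a,
          QuaternionGroup.one_def, QuaternionGroup.a.injEq]
        have := ZMod.natCast_self (2 * 2 ^ k)
        push_cast at this ⊢
        linear_combination this)
      exact congrArg Subtype.val h1
    rw [← map_mul]
    rcases neg_one_of_sq hF h4 with h | h <;> rw [h]
    · exact map_one _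
    · exact (QuotientGroup.eq_one_iff _).2 (Matrix.SpecialLinearGroup.mem_center_iff.2
        ⟨-1, by simp, by ext i j; fin_cases i <;> fin_cases j <;> simp [Matrix.scalar_apply]⟩)

/-- No subgroup acts quadratically on a non-trivial irreducible module of `PSL₂(q)` or of a Ree group in odd characteristic. -/
theorem result {G : Type*} [Group G] [Finite G] {p : ℕ} [Fact p.Prime] (V H : Subgroup G) (hV : Cfsg.IsElementaryAbelian p V) (hHV : H ≤ Subgroup.normalizer (V : Set G)) (hirr : ∀ U : Subgroup G, U ≤ V → H ≤ Subgroup.normalizer (U : Set G) → U = ⊥ ∨ U = V) (hnt : ¬ H ≤ Subgroup.centralizer (V : Set G)) [hn : ((Subgroup.centralizer (V : Set G)).subgroupOf H).Normal] (hq : (∃ (F : Type) (_ : Field F) (_ : Fintype F) (n : ℕ), Fintype.card F = p ^ n ∧ Odd (Fintype.card F) ∧ Nonempty (↥H ⧸ (Subgroup.centralizer (V : Set G)).subgroupOf H ≃* Matrix.ProjectiveSpecialLinearGroup (Fin 2) F)) ∨ (p = 3 ∧ Cfsg.Lie.IsoRee (↥H ⧸ (Subgroup.centralizer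 (V : Set G)).subgroupOf H))) (A : Subgroup G) (hA : A ≤ H) (hquad : ⁅⁅V, A⁆, A⁆ = ⊥) : ⁅V, A⁆ = ⊥ := by
  classical
  set C := (Subgroup.centralizer (V : Set G)).subgroupOf H with hC
  have hVp := CfsgLib.Quadratic.isPGroup_of_isElementaryAbelian hV
  have hp2 : p ≠ 2 := by
    rintro rfl
    rcases hq with ⟨F, _, _, n, hcard, hodd, -⟩ | ⟨h, -⟩
    · rw [hcard] at hodd
      rcases eq_or_ne n 0 with rfl | hn0
      · exact absurd (Fintype.one_lt_card (α := F)) (by rw [hcard]; simp)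
      · exact absurd hodd (by simp [Nat.odd_pow_iff hn0])
    · norm_num at h
  have hQ : ∀ T : Subgroup (H ⧸ C), IsPGroup 2 T → ∃ c, ∀ x ∈ T, x ∈ Subgroup.zpowers c ∨ x * x = 1 := by
    intro T hT
    rcases hq with ⟨F, _, _, n, -, hodd, ⟨e⟩⟩ | ⟨-, K, _, _, m, -, hK, ⟨e⟩⟩
    · obtain ⟨c, hc⟩ := psl_cyclicInvolutions hodd (T.map e.toMonoidHom) (hT.map _)
      refine ⟨e.symm c, fun x hx => ?_⟩
      rcases hc (e x) ⟨x, hx, rfl⟩ with ⟨i, hi⟩ | h
      · exact Or.inl ⟨i, e.injective (by simp [← hi, map_zpow])⟩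
      · exact Or.inr (e.injective (by rw [map_mul, map_one, h]))
    · haveI := Fact.mk Nat.prime_two
      have hmem := (Subgroup.mem_inf.1 (CfsgLib.Chev.T2G2.th_mem_H hK (-1 : Kˣ))).2
      obtain ⟨S, hS⟩ := (hT.map e.toMonoidHom).exists_le_sylow
      exact ⟨1, fun x hx => Or.inr (e.injective (by
        rw [map_mul, map_one]
        exact (CfsgLib.Chev.T2G2.sylow_two hK ⟨_, hmem⟩ rfl S).2 _ (hS ⟨x, hx, rfl⟩)))⟩
  rw [Subgroup.commutator_comm, Subgroup.commutator_eq_bot_iff_le_centralizer]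
  intro a ha
  by_contra hac
  -- the largest normal `p`-subgroup is trivial by irreducibility
  have hcore : pCore p (H ⧸ C) = ⊥ := by
    let φ : H →* MulAut V := (Subgroup.normalizerMonoidHom V).comp (Subgroup.inclusion hHV)
    have hφ : ∀ (h : H) (v : V), ((φ h v : V) : G) = h * v * (h : G)⁻¹ := fun _ _ => rfl
    have hker : C ≤ φ.ker := fun h hh => MonoidHom.mem_ker.2 (MulEquiv.ext fun v => Subtype.ext (by
      rw [hφ, MulAut.one_apply]
      exact mul_inv_eq_iff_eq_mul.2 ((Subgroup.mem_subgroupOf.1 hh) v v.2).symm))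
    let ψ : H ⧸ C →* MulAut V := QuotientGroup.lift C φ hker
    have hψ : ∀ h : H, ψ (QuotientGroup.mk h) = φ h := fun _ => rfl
    set P := (pCore p (H ⧸ C)).map ψ
    obtain ⟨b, hb, hb1⟩ : ∃ b : V, b ∈ MulAction.fixedPoints P V ∧ (1 : V) ≠ b := by
      refine ((CfsgLib.isPGroup_pCore p).map ψ).exists_fixed_point_of_prime_dvd_card_of_fixed_point V ?_ ?_
      · obtain ⟨i, hi⟩ := hVp.exists_card_eq
        refine hi ▸ dvd_pow_self p ?_
        rintro rfl
        rw [pow_zero, Subgroup.card_eq_one] at hi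
        refine hnt fun h _ v hv => ?_
        rw [hi] at hv
        simp [Subgroup.mem_bot.1 hv]
      · exact fun g => map_one (g : MulAut V)
    let U : Subgroup G :=
      { carrier := {v | ∃ h : v ∈ V, ∀ g ∈ pCore p (H ⧸ C), ψ g ⟨v, h⟩ = ⟨v, h⟩}
        one_mem' := ⟨one_mem _, fun g _ => map_one _⟩
        mul_mem' := by
          rintro v w ⟨hv, hv'⟩ ⟨hw, hw'⟩
          refine ⟨mul_mem hv hw, fun g hg => ?_⟩
          have := map_mul (ψ g) ⟨v, hv⟩ ⟨w, hw⟩
          rwa [hv' g hg, hw' g hg] at this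
        inv_mem' := by
          rintro v ⟨hv, hv'⟩
          refine ⟨inv_mem hv, fun g hg => ?_⟩
          have := map_inv (ψ g) ⟨v, hv⟩
          rwa [hv' g hg] at this }
    have hU : H ≤ Subgroup.normalizer (U : Set G) := by
      have key : ∀ h ∈ H, ∀ v ∈ U, h * v * h⁻¹ ∈ U := by
        rintro h hh v ⟨hv, hv'⟩
        have hmem := (Subgroup.mem_normalizer_iff.1 (hHV hh) v).1 hv
        refine ⟨hmem, fun g hg => ?_⟩
        set q : H ⧸ C := QuotientGroup.mk ⟨h, hh⟩
        have e1 : ψ q ⟨v, hv⟩ = ⟨h * v * h⁻¹, hmem⟩ := Subtype.ext (hφ ⟨h, hh⟩ ⟨v, hv⟩)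
        have h2 := hv' (q⁻¹ * g * q) (by simpa using (inferInstance : (pCore p (H ⧸ C)).Normal).conj_mem g hg q⁻¹)
        rw [map_mul, map_mul, MulAut.mul_apply, MulAut.mul_apply, e1, map_inv] at h2
        have h3 := congrArg (ψ q) h2
        rw [MulAut.apply_inv_self, e1] at h3
        exact h3
      intro h hh
      rw [Subgroup.mem_normalizer_iff]
      exact fun v => ⟨key h hh v, fun hv => by simpa [mul_assoc] using key h⁻¹ (inv_mem hh) _ hv⟩
    rcases hirr U (fun v hv => hv.1) hU with h | h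
    · have hbU : (b : G) ∈ U := ⟨b.2, fun g hg => hb ⟨ψ g, g, hg, rfl⟩⟩
      rw [h, Subgroup.mem_bot] at hbU
      exact absurd (Subtype.ext hbU.symm : (1 : V) = b) hb1
    · rw [eq_bot_iff]
      intro g hg
      obtain ⟨g, rfl⟩ := QuotientGroup.mk_surjective g
      rw [Subgroup.mem_bot, QuotientGroup.eq_one_iff]
      refine Subgroup.mem_subgroupOf.2 fun v hv => ?_
      obtain ⟨hv', hfix⟩ : v ∈ U := h ▸ hv
      have h1 := congrArg Subtype.val (hfix _ hg)
      rw [hψ, hφ] at h1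
      exact (mul_inv_eq_iff_eq_mul.1 h1).symm
  have hqa : ⁅⁅V, Subgroup.zpowers a⁆, Subgroup.zpowers a⁆ = ⊥ := le_bot_iff.1
    ((Subgroup.commutator_mono (Subgroup.commutator_mono le_rfl (Subgroup.zpowers_le.2 ha))
      (Subgroup.zpowers_le.2 ha)).trans hquad.le)
  obtain ⟨L, f, hf⟩ := CfsgLib.Quadratic.exists_sl2_quot hp2 hVp hHV (hA ha)
    (CfsgLib.Quadratic.quad_pointwise hqa) (by
      rw [hcore, Subgroup.mem_bot, QuotientGroup.eq_one_iff]
      exact fun h => hac (Subgroup.mem_subgroupOf.1 h))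
  exact CfsgLib.Quadratic.no_sl2_of_cyclicInvolutions hp2 hQ f hf

end Cfsg.Agent.S2787
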