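import Cfsg.Statements.S2801
import Cfsg.Agent.Lib.Basic

set_option autoImplicit false
set_option linter.unusedVariables false
open Cfsg
open scoped commutatorElement

namespace Cfsg.Agent.S2801

theorem centralizes {L : Type*} [Group L] [Finite L] {p : ℕ} {V : Subgroup L}
    (hV : Cfsg.IsPReducedNormal p V) :
    Cfsg.pCore p L ≤ Subgroup.centralizer (V : Set L) := by
  obtain ⟨-, -, hC, h⟩ := hV
  intro r hr
  haveI := hC
  haveI : ((Cfsg.pCore p L).map (QuotientGroup.mk' (Subgroup.centralizer (V : Set L)))).Normal :=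
    Subgroup.Normal.map inferInstance _ (QuotientGroup.mk'_surjective _)
  have h1 := CfsgLib.le_pCore ((CfsgLib.isPGroup_pCore (G := L) p).map
    (QuotientGroup.mk' (Subgroup.centralizer (V : Set L)))) ⟨r, hr, rfl⟩
  rw [h, Subgroup.mem_bot] at h1
  exact (QuotientGroup.eq_one_iff _).1 h1

/-- Let L be a finite group and p a prime with C_L(O_p(L)) ≤ O_p(L). Then L has a unique largest p-reduced normal subgroup: some normal elementary abelian p-subgroup Y with O_p(L/C_L(Y)) = 1 contains every other such subgroup. -/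
theorem result {L : Type*} [Group L] [Finite L] {p : ℕ} [Fact p.Prime] (hchar : Subgroup.centralizer (Cfsg.pCore p L : Set L) ≤ Cfsg.pCore p L) : ∃ Y : Subgroup L, (Cfsg.IsPReducedNormal p Y ∧ ∀ V : Subgroup L, Cfsg.IsPReducedNormal p V → V ≤ Y) := by
  have hP : ∀ A B : Subgroup L, Cfsg.IsPReducedNormal p A → Cfsg.IsPReducedNormal p B →
      Cfsg.IsPReducedNormal p (A ⊔ B) := by
    intro A B hA hB
    have hcomm : ∀ a ∈ A, ∀ b ∈ B, a * b = b * a := by
      have hBR : B ≤ Cfsg.pCore p L := fun b hb => hchar fun r hr => ((S2801.centralizes hB hr) b hb).symm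
      intro a ha b hb
      exact (S2801.centralizes hA (hBR hb)) a ha
    obtain ⟨hAn, ⟨hAa, hAp⟩, hCA, hA0⟩ := hA
    obtain ⟨hBn, ⟨hBa, hBp⟩, hCB, hB0⟩ := hB
    haveI := hAn
    haveI := hBn
    refine ⟨inferInstance, ⟨?_, ?_⟩, inferInstance, ?_⟩
    · have hs : A ⊔ B = Subgroup.closure ((A : Set L) ∪ B) := by
        rw [Subgroup.closure_union, Subgroup.closure_eq, Subgroup.closure_eq]
      rw [hs]
      refine Subgroup.isMulCommutative_closure ?_
      rintro a (ha | ha) b (hb | hb)
      · exact Subtype.ext_iff.1 (hAa.is_comm.comm (⟨a, ha⟩ : A) ⟨b, hb⟩)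
      · exact hcomm a ha b hb
      · exact (hcomm b hb a ha).symm
      · exact Subtype.ext_iff.1 (hBa.is_comm.comm (⟨a, ha⟩ : B) ⟨b, hb⟩)
    · intro x hx
      obtain ⟨a, ha, b, hb, rfl⟩ := Subgroup.mem_sup_of_normal_right.1 hx
      rw [Commute.mul_pow (hcomm a ha b hb), hAp a ha, hBp b hb, one_mul]
    · refine eq_bot_iff.2 fun x hx => Subgroup.mem_bot.2 ?_
      induction x using QuotientGroup.induction_on with
      | _ l =>
        have push : ∀ (W : Subgroup L) [(Subgroup.centralizer (W : Set L)).Normal], W ≤ A ⊔ B →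
            Cfsg.pCore p (L ⧸ Subgroup.centralizer (W : Set L)) = ⊥ → l ∈ Subgroup.centralizer (W : Set L) := by
          intro W _ hW h0
          set π := QuotientGroup.map (Subgroup.centralizer ((A ⊔ B : Subgroup L) : Set L))
            (Subgroup.centralizer (W : Set L)) (MonoidHom.id L) (by
              rw [Subgroup.comap_id]; exact Subgroup.centralizer_le hW)
          have hsurj : Function.Surjective π := by
            intro y
            obtain ⟨z, rfl⟩ := QuotientGroup.mk'_surjective _ y
            exact ⟨QuotientGroup.mk z, rfl⟩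
          haveI : ((Cfsg.pCore p _).map π).Normal := Subgroup.Normal.map inferInstance π hsurj
          have h1 := CfsgLib.le_pCore ((CfsgLib.isPGroup_pCore (G := _) p).map π) ⟨_, hx, rfl⟩
          rw [h0, Subgroup.mem_bot] at h1
          exact (QuotientGroup.eq_one_iff _).1 h1
        have hlA := @push A hCA le_sup_left hA0
        have hlB := @push B hCB le_sup_right hB0
        refine (QuotientGroup.eq_one_iff _).2 ?_
        rintro x hx
        obtain ⟨a, ha, b, hb, rfl⟩ := Subgroup.mem_sup_of_normal_right.1 hx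
        rw [mul_assoc, hlB b hb, ← mul_assoc, hlA a ha, mul_assoc]
  have hbot : Cfsg.IsPReducedNormal p (⊥ : Subgroup L) := by
    refine ⟨inferInstance, ⟨inferInstance, fun a ha => by simp [Subgroup.mem_bot.1 ha]⟩, inferInstance, ?_⟩
    refine eq_bot_iff.2 fun x _ => Subgroup.mem_bot.2 ?_
    induction x using QuotientGroup.induction_on with
    | _ l => exact (QuotientGroup.eq_one_iff _).2 (fun y hy => by simp [Subgroup.mem_bot.1 hy])
  refine ⟨sSup {V | Cfsg.IsPReducedNormal p V}, ?_, fun V hV => le_sSup hV⟩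
  exact CfsgLib.sSup_prop_of_closed_sup _ hbot hP fun A hA => hA

end Cfsg.Agent.S2801
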