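import Cfsg.Statements.S2804
import Mathlib
import Cfsg.Agent.Lib.PReduced

set_option autoImplicit false
set_option linter.unusedVariables false
open Cfsg
open scoped commutatorElement

namespace Cfsg.Agent.S2804

open CfsgLib CfsgLib.PReduced

/-- Let L be a finite group and p a prime with C_L(O_p(L)) ≤ O_p(L), V a p-reduced normal subgroup of L and K a subnormal subgroup of L. Then [V, O^p(K)] is contained in K and is a p-reduced normal subgroup of K, where O^p(K) is the subgroup of K generated by its elements of order prime to p. -/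
theorem result {L : Type*} [Group L] [Finite L] {p : ℕ} [Fact p.Prime] (hchar : Subgroup.centralizer (Cfsg.pCore p L : Set L) ≤ Cfsg.pCore p L) (V : Subgroup L) (hV : Cfsg.IsPReducedNormal p V) (K : Subgroup L) (hK : K.IsSubnormal) : ⁅V, (Cfsg.pResidual p ↥K).map K.subtype⁆ ≤ K ∧ Cfsg.IsPReducedNormal p ((⁅V, (Cfsg.pResidual p ↥K).map K.subtype⁆).subgroupOf K) := by
  obtain ⟨hVn, hVe, -⟩ := iff_forall.mp hV
  haveI := hVn
  set X := (Cfsg.pResidual p ↥K).map K.subtype
  set U := ⁅V, X⁆
  have hVp := isPGroup_of_elem hVe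
  have hUK : U ≤ K := comm_res_le_of_subnormal hVe.1 hVp hK
  have hUV : U ≤ V := Subgroup.commutator_le_left V X
  refine ⟨hUK, ?_⟩
  have hKU : K ≤ Subgroup.normalizer (U : Set L) := by
    intro k hk
    refine Local.mem_normalizer_of_map_conj_eq ?_
    have hX : X.map (MulAut.conj k).toMonoidHom = X := by
      refine Subgroup.eq_of_le_of_card_ge ?_ (Subgroup.card_map_of_injective (MulEquiv.injective (MulAut.conj k))).ge
      rintro _ ⟨_, ⟨x, hx, rfl⟩, rfl⟩
      exact ⟨_, PResidual.pResidual_normal.conj_mem x hx ⟨k, hk⟩, rfl⟩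
    rw [Subgroup.map_commutator, hX, Local.map_conj_eq_of_mem_normalizer (Subgroup.normalizer_eq_top (H := V) ▸ Subgroup.mem_top k)]
  refine iff_forall.mpr ⟨(Subgroup.normal_subgroupOf_iff_le_normalizer hUK).mpr hKU, ⟨⟨⟨fun a b => Subtype.ext (Subtype.ext ?_)⟩⟩, fun v hv => Subtype.ext ?_⟩, fun D hD hDp => ?_⟩
  · exact mem_comm hVe (hUV a.2) (hUV b.2)
  · rw [SubmonoidClass.coe_pow]; exact hVe.2 _ (hUV hv)
  · haveI := hD
    set D' := D.map K.subtype
    have hDs : D'.IsSubnormal := (Subgroup.Normal.isSubnormal hD).trans' hK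
    have hXD : (Cfsg.pResidual p ↥D').map D'.subtype ≤ X := res_mono (Subgroup.map_subtype_le _)
    have hpow : ∀ d ∈ D', ∃ n : ℕ, d ^ p ^ n ∈ K ⊓ Subgroup.centralizer (U : Set L) := by
      rintro _ ⟨d, hd, rfl⟩
      obtain ⟨n, hn⟩ := hDp d hd
      refine ⟨n, K.pow_mem d.2 _, Subgroup.mem_centralizer_iff.mpr fun u hu => ?_⟩
      simpa using congrArg Subtype.val (Subgroup.mem_centralizer_iff.mp hn ⟨u, hUK hu⟩ hu)
    have hc : (Cfsg.pResidual p ↥D').map D'.subtype ≤ Subgroup.centralizer (U : Set L) := by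
      rw [res_eq_closure, Subgroup.closure_le]
      rintro x ⟨hxD, hx⟩
      obtain ⟨n, hn⟩ := hpow x hxD
      exact PResidual.mem_of_pow_mem hx hn.2
    have h := le_centralizer_of_subnormal hV hDs (Subgroup.commutator_mono le_rfl hXD) hc
    intro d hd
    refine Subgroup.mem_centralizer_iff.mpr fun u hu => Subtype.ext ?_
    exact Subgroup.mem_centralizer_iff.mp (h ⟨d, hd, rfl⟩) u (hUV hu)

end Cfsg.Agent.S2804
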