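import Cfsg.Statements.S2805
import Mathlib
import Cfsg.Agent.Lib.PReduced
import Cfsg.Agent.Lib.StrongFusion.LocalFree

set_option autoImplicit false
set_option linter.unusedVariables false
open Cfsg
open scoped commutatorElement

namespace Cfsg.Agent.S2805

open CfsgLib CfsgLib.PReduced

theorem normal_case {H : Type*} [Group H] [Finite H] {p : ℕ} [Fact p.Prime]
    (hH : Subgroup.centralizer (Cfsg.pCore p H : Set H) ≤ Cfsg.pCore p H) (T : Sylow p H) (N : Subgroup H) [N.Normal] :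
    N ⊓ Subgroup.centralizer ((Cfsg.omegaOne p ((T : Subgroup H) ⊓ Subgroup.centralizer ((T : Subgroup H) : Set H)) : Subgroup H) : Set H) =
    N ⊓ Subgroup.centralizer ((Cfsg.omegaOne p (((T : Subgroup H) ⊓ N) ⊓ Subgroup.centralizer (((T : Subgroup H) ⊓ N : Subgroup H) : Set H)) : Subgroup H) : Set H) := by
  set Z := Cfsg.omegaOne p ((T : Subgroup H) ⊓ Subgroup.centralizer ((T : Subgroup H) : Set H))
  set S := (T : Subgroup H) ⊓ N with hS
  set W := Cfsg.omegaOne p (S ⊓ Subgroup.centralizer (S : Set H))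
  have hTS : (T : Subgroup H) ≤ Subgroup.normalizer (S : Set H) := fun t ht =>
    Local.mem_normalizer_of_map_conj_eq (Subgroup.eq_of_le_of_card_ge (Local.map_conj_le fun x hx =>
      ⟨Subgroup.mul_mem _ (Subgroup.mul_mem _ ht hx.1) (Subgroup.inv_mem _ ht), Subgroup.Normal.conj_mem inferInstance x hx.2 t⟩)
      (Subgroup.card_map_of_injective (MulEquiv.injective (MulAut.conj t))).ge)
  have hSN : S ≤ N := inf_le_right
  have hTZ : (T : Subgroup H) ≤ Subgroup.centralizer (Z : Set H) := fun t ht =>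
    Subgroup.mem_centralizer_iff.mpr fun z hz => ((mem_omegaZ.mp hz).2.1 t ht).symm
  refine le_antisymm (le_inf inf_le_left ?_) (le_inf inf_le_left ?_)
  · set K := N ⊓ Subgroup.centralizer (Z : Set H) with hK
    set Q := Cfsg.pCore p H ⊓ N
    set V := Cfsg.omegaOne p (Q ⊓ Subgroup.centralizer (Q : Set H)) with hV
    haveI : Q.Normal := inferInstance
    haveI hVn : V.Normal := ⟨fun x hx g => by
      obtain ⟨h1, h2, h3⟩ := mem_omegaZ.mp hx
      refine mem_omegaZ.mpr ⟨Subgroup.Normal.conj_mem inferInstance x h1 g, fun t ht => ?_, by rw [conj_pow, h3, mul_one, mul_inv_cancel]⟩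
      have ht' : g⁻¹ * t * g ∈ Q := by simpa using Subgroup.Normal.conj_mem inferInstance t ht g⁻¹
      calc t * (g * x * g⁻¹) = g * (g⁻¹ * t * g * x) * g⁻¹ := by group
        _ = g * (x * (g⁻¹ * t * g)) * g⁻¹ := by rw [h2 _ ht']
        _ = g * x * g⁻¹ * t := by group⟩
    have hVQ : V ≤ Q := fun x hx => (mem_omegaZ.mp hx).1
    have hQS : Q ≤ S := inf_le_inf_right N (pCore_le_sylow T)
    have hidx : ¬ p ∣ S.relIndex K := by
      have h := CfsgLib.StrongFusion.not_dvd_relIndex_inf (C := K) hTZ T.2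
        (fun h => T.not_dvd_index (h.trans (Subgroup.relIndex_dvd_index_of_le hTZ))) inf_le_right fun y hy c hc =>
          ⟨Subgroup.Normal.conj_mem inferInstance c hc.1 y, Subgroup.mul_mem _ (Subgroup.mul_mem _ hy hc.2) (Subgroup.inv_mem _ hy)⟩
      rwa [show (T : Subgroup H) ⊓ K = S by rw [hK, ← inf_assoc]; exact inf_eq_left.mpr (inf_le_left.trans hTZ)] at h
    have hall := AbelianTrace.le_centralizer_of_fixed V K S (T : Subgroup H) omegaZ_elem.1
      (isPGroup_of_elem omegaZ_elem) (by rw [Subgroup.normalizer_eq_top]; exact le_top) (le_inf hSN (inf_le_left.trans hTZ))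
      hidx T.2 (by rw [Subgroup.normalizer_eq_top]; exact le_top) (fun t ht => Local.mem_normalizer_of_map_conj_eq
        (Subgroup.eq_of_le_of_card_ge (Local.map_conj_le fun x hx => ⟨Subgroup.Normal.conj_mem inferInstance x hx.1 t,
          Subgroup.mul_mem _ (Subgroup.mul_mem _ (hTZ ht) hx.2) (Subgroup.inv_mem _ (hTZ ht))⟩)
          (Subgroup.card_map_of_injective (MulEquiv.injective (MulAut.conj t))).ge)) hTS (fun u hu hfix => by
        have huZ : u ∈ Z := mem_omegaZ.mpr ⟨(hQS (hVQ hu.1)).1, hfix, (mem_omegaZ.mp hu.1).2.2⟩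
        exact Subgroup.mem_centralizer_iff.mpr fun k hk => (Subgroup.mem_centralizer_iff.mp hk.2 u huZ).symm)
    have hWV : W ≤ V := by
      intro w hw
      obtain ⟨hwS, hwc, hwp⟩ := mem_omegaZ.mp hw
      have hcN : (⟨w, hwS.2⟩ : ↥N) ∈ Cfsg.pCore p ↥N := by
        refine CharP.charP_of_pCore_le_normalizer hH N (by rw [Subgroup.normalizer_eq_top]; exact le_top) (Subgroup.mem_centralizer_iff.mpr fun r hr => Subtype.ext ?_)
        exact hwc r ⟨pCore_le_sylow T (map_pCore_le p N ⟨r, hr, rfl⟩), r.2⟩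
      exact mem_omegaZ.mpr ⟨⟨map_pCore_le p N ⟨_, hcN, rfl⟩, hwS.2⟩, fun t ht => hwc t (hQS ht), hwp⟩
    intro x hx
    refine Subgroup.mem_centralizer_iff.mpr fun w hw => ?_
    exact (Subgroup.mem_centralizer_iff.mp (hall ⟨hWV hw, Subgroup.mem_centralizer_iff.mpr fun s hs => (mem_omegaZ.mp hw).2.1 s hs⟩) x hx).symm
  · set K := N ⊓ Subgroup.centralizer (W : Set H) with hK
    set Q := Cfsg.pCore p H
    set V := Cfsg.omegaOne p (Q ⊓ Subgroup.centralizer (Q : Set H)) with hV
    haveI hVn : V.Normal := ⟨fun x hx g => by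
      obtain ⟨h1, h2, h3⟩ := mem_omegaZ.mp hx
      refine mem_omegaZ.mpr ⟨Subgroup.Normal.conj_mem inferInstance x h1 g, fun t ht => ?_, by rw [conj_pow, h3, mul_one, mul_inv_cancel]⟩
      have ht' : g⁻¹ * t * g ∈ Q := by simpa using Subgroup.Normal.conj_mem inferInstance t ht g⁻¹
      calc t * (g * x * g⁻¹) = g * (g⁻¹ * t * g * x) * g⁻¹ := by group
        _ = g * (x * (g⁻¹ * t * g)) * g⁻¹ := by rw [h2 _ ht']
        _ = g * x * g⁻¹ * t := by group⟩
    have hSK : S ≤ K := le_inf hSN fun s hs => Subgroup.mem_centralizer_iff.mpr fun w hw => ((mem_omegaZ.mp hw).2.1 s hs).symm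
    have hTW : (T : Subgroup H) ≤ Subgroup.normalizer (K : Set H) := fun t ht =>
      Local.mem_normalizer_of_map_conj_eq (Subgroup.eq_of_le_of_card_ge (Local.map_conj_le fun x hx =>
        ⟨Subgroup.Normal.conj_mem inferInstance x hx.1 t, Subgroup.mem_centralizer_iff.mpr fun w hw => by
          obtain ⟨h1, h2, h3⟩ := mem_omegaZ.mp hw
          have hw' : t⁻¹ * w * t ∈ W := by
            refine mem_omegaZ.mpr ⟨by simpa using (Subgroup.mem_normalizer_iff.mp (hTS (Subgroup.inv_mem _ ht)) w).mp h1, fun s hs => ?_, ?_⟩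
            · have hs' : t * s * t⁻¹ ∈ S := (Subgroup.mem_normalizer_iff.mp (hTS ht) s).mp hs
              calc s * (t⁻¹ * w * t) = t⁻¹ * (t * s * t⁻¹ * w) * t := by group
                _ = t⁻¹ * (w * (t * s * t⁻¹)) * t := by rw [h2 _ hs']
                _ = t⁻¹ * w * t * s := by group
            · calc (t⁻¹ * w * t) ^ p = (t⁻¹ * w * t⁻¹⁻¹) ^ p := by rw [inv_inv]
                _ = t⁻¹ * w ^ p * t⁻¹⁻¹ := conj_pow
                _ = 1 := by rw [h3, mul_one, mul_inv_cancel]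
          have hc := Subgroup.mem_centralizer_iff.mp hx.2 _ hw'
          calc w * (t * x * t⁻¹) = t * (t⁻¹ * w * t * x) * t⁻¹ := by group
            _ = t * (x * (t⁻¹ * w * t)) * t⁻¹ := by rw [hc]
            _ = t * x * t⁻¹ * w := by group⟩)
        (Subgroup.card_map_of_injective (MulEquiv.injective (MulAut.conj t))).ge)
    have hidx : ¬ p ∣ S.relIndex K := by
      have h := CfsgLib.StrongFusion.not_dvd_relIndex_inf (C := K) (N := (T : Subgroup H) ⊔ K) le_sup_left T.2
        (fun h => T.not_dvd_index (h.trans (Subgroup.relIndex_dvd_index_of_le le_sup_left))) le_sup_right fun y hy c hc =>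
          (Subgroup.mem_normalizer_iff.mp ((sup_le hTW Subgroup.le_normalizer : (T : Subgroup H) ⊔ K ≤ _) hy) c).mp hc
      rwa [show (T : Subgroup H) ⊓ K = S from le_antisymm (inf_le_inf_left _ inf_le_left) (le_inf inf_le_left hSK)] at h
    intro x hx
    refine Subgroup.mem_centralizer_iff.mpr fun z hz => ?_
    obtain ⟨hzT, hzc, hzp⟩ := mem_omegaZ.mp hz
    have hzC : z ∈ Subgroup.centralizer (Q : Set H) := Subgroup.mem_centralizer_iff.mpr fun r hr => hzc r (pCore_le_sylow T hr)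
    have hzV : z ∈ V := mem_omegaZ.mpr ⟨hH hzC, fun r hr => Subgroup.mem_centralizer_iff.mp hzC r hr, hzp⟩
    obtain ⟨d, hd, c, hc, rfl, hsym⟩ := AbelianTrace.exists_decomp (u := z) V K S omegaZ_elem.1 (isPGroup_of_elem omegaZ_elem)
      (by rw [Subgroup.normalizer_eq_top]; exact le_top) hSK hidx
      ⟨hzV, Subgroup.mem_centralizer_iff.mpr fun s hs => hzc s hs.1⟩ (V ⊓ N) (fun k hk =>
        ⟨V.mul_mem (hVn.conj_mem z hzV k) (V.inv_mem hzV), by
          have := N.mul_mem hk.1 (Subgroup.Normal.conj_mem inferInstance k⁻¹ (N.inv_mem hk.1) z)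
          simpa [mul_assoc] using this⟩)
    have hdW : d ∈ W := by
      refine mem_omegaZ.mpr ⟨⟨pCore_le_sylow T (mem_omegaZ.mp hd.1.1).1, hd.1.2⟩, fun s hs => ?_, (mem_omegaZ.mp hd.1.1).2.2⟩
      exact Subgroup.mem_centralizer_iff.mp hd.2.2 s hs
    exact ((Commute.mul_left (Subgroup.mem_centralizer_iff.mp hx.2 d hdW : Commute d x)
      ((Subgroup.mem_centralizer_iff.mp hc.2 x hx).symm : Commute c x))).eq

theorem aux (k : ℕ) : ∀ (H : Type*) [Group H] [Finite H] (p : ℕ) [Fact p.Prime], Nat.card H ≤ k →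
    Subgroup.centralizer (Cfsg.pCore p H : Set H) ≤ Cfsg.pCore p H → ∀ (T : Sylow p H) (L : Subgroup H), L.IsSubnormal →
    L ⊓ Subgroup.centralizer ((Cfsg.omegaOne p ((T : Subgroup H) ⊓ Subgroup.centralizer ((T : Subgroup H) : Set H)) : Subgroup H) : Set H) =
    L ⊓ Subgroup.centralizer ((Cfsg.omegaOne p (((T : Subgroup H) ⊓ L) ⊓ Subgroup.centralizer (((T : Subgroup H) ⊓ L : Subgroup H) : Set H)) : Subgroup H) : Set H) := by
  induction k with
  | zero => intro H _ _ p _ h; exact absurd h Nat.card_pos.not_ge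
  | succ k ih =>
    intro H _ _ p _ hk hH T L hL
    rcases hL.lt_normal with rfl | ⟨N, hN, hLN, hNlt⟩
    · rw [inf_top_eq]
    haveI := hN
    have hcard : Nat.card ↥N ≤ k := Nat.lt_succ_iff.mp (lt_of_lt_of_le (lt_of_le_of_ne (Subgroup.card_le_card_group N)
      fun h => hNlt.ne (Subgroup.eq_top_of_card_eq N h)) hk)
    have h1 := normal_case hH T N
    have h2 := ih ↥N p hcard (CharP.charP_of_pCore_le_normalizer hH N (by rw [Subgroup.normalizer_eq_top]; exact le_top))
      (sylowInfNormal T N) (L.subgroupOf N) (hL.subgroupOf (K := N))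
    rw [coe_sylowInfNormal] at h2
    have hmem : ∀ (A : Subgroup H), A ≤ N → ∀ x : ↥N,
        x ∈ Subgroup.centralizer ((Cfsg.omegaOne p (A.subgroupOf N ⊓ Subgroup.centralizer ((A.subgroupOf N : Subgroup ↥N) : Set ↥N)) : Subgroup ↥N) : Set ↥N) ↔
        (x : H) ∈ Subgroup.centralizer ((Cfsg.omegaOne p (A ⊓ Subgroup.centralizer (A : Set H)) : Subgroup H) : Set H) := by
      intro A hA x
      constructor
      · intro h
        refine Subgroup.mem_centralizer_iff.mpr fun w hw => ?_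
        obtain ⟨w1, w2, w3⟩ := mem_omegaZ.mp hw
        exact congrArg Subtype.val (Subgroup.mem_centralizer_iff.mp h ⟨w, hA w1⟩
          (mem_omegaZ.mpr ⟨w1, fun t ht => Subtype.ext (w2 t ht), Subtype.ext w3⟩))
      · intro h
        refine Subgroup.mem_centralizer_iff.mpr fun w hw => Subtype.ext ?_
        obtain ⟨w1, w2, w3⟩ := mem_omegaZ.mp hw
        exact Subgroup.mem_centralizer_iff.mp h w (mem_omegaZ.mpr ⟨w1, fun t ht => congrArg Subtype.val (w2 ⟨t, hA ht⟩ ht),
          by simpa using congrArg Subtype.val w3⟩)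
    have e : ((T : Subgroup H).subgroupOf N) ⊓ L.subgroupOf N = ((T : Subgroup H) ⊓ L).subgroupOf N := rfl
    ext x
    constructor
    · rintro ⟨hxL, hx⟩
      refine ⟨hxL, (hmem _ (inf_le_right.trans hLN) ⟨x, hLN hxL⟩).mp ?_⟩
      have hx1 := (h1.le ⟨hLN hxL, hx⟩).2
      rw [← e]
      refine (h2.le ⟨show (⟨x, hLN hxL⟩ : ↥N) ∈ L.subgroupOf N from hxL, ?_⟩).2
      rw [← Subgroup.inf_subgroupOf_right (T : Subgroup H) N]
      exact (hmem _ inf_le_right ⟨x, hLN hxL⟩).mpr hx1
    · rintro ⟨hxL, hx⟩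
      refine ⟨hxL, (h1.ge ⟨hLN hxL, (hmem _ inf_le_right ⟨x, hLN hxL⟩).mp ?_⟩).2⟩
      rw [Subgroup.inf_subgroupOf_right (T : Subgroup H) N]
      refine (h2.ge ⟨show (⟨x, hLN hxL⟩ : ↥N) ∈ L.subgroupOf N from hxL, ?_⟩).2
      rw [e]
      exact (hmem _ (inf_le_right.trans hLN) ⟨x, hLN hxL⟩).mpr hx

/-- Kieler's Lemma: let H be a finite group of characteristic p (C_H(O_p(H)) ≤ O_p(H)), T a Sylow p-subgroup of H and L a subnormal subgroup of H. Then C_L(Ω₁(Z(T))) = C_L(Ω₁(Z(T ∩ L))), Ω₁(Z(·)) denoting the elements of order dividing p in the centre. -/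
theorem result {H : Type*} [Group H] [Finite H] {p : ℕ} [Fact p.Prime] (hH : Subgroup.centralizer (Cfsg.pCore p H : Set H) ≤ Cfsg.pCore p H) (T : Sylow p H) (L : Subgroup H) (hL : L.IsSubnormal) : L ⊓ Subgroup.centralizer ((Cfsg.omegaOne p ((T : Subgroup H) ⊓ Subgroup.centralizer ((T : Subgroup H) : Set H))) : Set H) = L ⊓ Subgroup.centralizer ((Cfsg.omegaOne p (((T : Subgroup H) ⊓ L) ⊓ Subgroup.centralizer ((((T : Subgroup H) ⊓ L) : Subgroup H) : Set H))) : Set H) := by
  exact aux _ H p le_rfl hH T L hL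

end Cfsg.Agent.S2805
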