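import Cfsg.Statements.S2806
import Mathlib
import Cfsg.Agent.Lib.SubnormalSylow
import Cfsg.Agent.Lib.CharPLocal
import Cfsg.Agent.S2805

set_option autoImplicit false
set_option linter.unusedVariables false
open Cfsg
open scoped commutatorElement

namespace Cfsg.Agent.S2806

open CfsgLib

theorem exists_of_ne_bot {H : Type*} [Group H] [Finite H] {p : ℕ} [Fact p.Prime] {P : Subgroup H} (hP : IsPGroup p ↥P)
    (h : P ≠ ⊥) : ∃ x ∈ P, x ≠ 1 := by
  by_contra hc
  push Not at hc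
  exact h ((Subgroup.eq_bot_iff_forall P).mpr hc)

theorem centralize_iff {H : Type*} [Group H] [Finite H] {p : ℕ} [Fact p.Prime]
    (hH : Cfsg.IsOfLocalCharacteristic p H) (T : Sylow p H) {L : Subgroup H} (hL : L.IsSubnormal)
    (hne : (T : Subgroup H) ⊓ L ≠ ⊥) : ∀ x ∈ L,
    (x ∈ Subgroup.centralizer ((Cfsg.omegaOne p ((T : Subgroup H) ⊓ Subgroup.centralizer ((T : Subgroup H) : Set H)) : Subgroup H) : Set H) ↔
     x ∈ Subgroup.centralizer ((Cfsg.omegaOne p (((T : Subgroup H) ⊓ L) ⊓ Subgroup.centralizer (((T : Subgroup H) ⊓ L : Subgroup H) : Set H)) : Subgroup H) : Set H)) := by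
  induction hL with
  | top => intro x _; rw [inf_top_eq]
  | step L K hLK hK hn ih =>
    intro x hx
    have hKne : (T : Subgroup H) ⊓ K ≠ ⊥ := fun e => hne (le_bot_iff.mp (e ▸ inf_le_inf_left _ hLK))
    rw [ih hKne x (hLK hx)]
    set S := (T : Subgroup H) ⊓ K with hS
    set SL := (T : Subgroup H) ⊓ L with hSL
    have hnorm : S ≤ Subgroup.normalizer (SL : Set H) := by
      intro s hs
      refine Local.mem_normalizer_of_map_conj_eq (Subgroup.eq_of_le_of_card_ge (Local.map_conj_le fun y hy =>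
        ⟨Subgroup.mul_mem _ (Subgroup.mul_mem _ hs.1 hy.1) (Subgroup.inv_mem _ hs.1), ?_⟩)
        (Subgroup.card_map_of_injective (f := (MulAut.conj s).toMonoidHom) (MulEquiv.injective (MulAut.conj s))).ge)
      exact hn.conj_mem ⟨y, hLK hy.2⟩ hy.2 ⟨s, hs.2⟩
    obtain ⟨w, hw, hw1, hwc⟩ := AbelianTrace.exists_fixed (T.2.to_le inf_le_left) (T.2.to_le inf_le_left) hnorm hne
    obtain ⟨k, hk⟩ := (T.2.to_le inf_le_left : IsPGroup p ↥SL) ⟨w, hw⟩
    have hd : p ∣ orderOf w := by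
      obtain ⟨i, -, e⟩ := (Nat.dvd_prime_pow Fact.out).mp (orderOf_dvd_of_pow_eq_one (congrArg Subtype.val hk : w ^ p ^ k = 1))
      rw [e]
      refine dvd_pow_self p fun h0 => hw1 (orderOf_eq_one_iff.mp ?_)
      rw [e, h0, pow_zero]
    set z := w ^ (orderOf w / p) with hz
    have hzo : orderOf z = p := orderOf_pow_orderOf_div (orderOf_pos w).ne' hd
    have hzSL : z ∈ SL := SL.pow_mem hw _
    have hzS : z ∈ S := ⟨hzSL.1, hLK hzSL.2⟩
    have hzc : ∀ s ∈ S, s * z = z * s := fun s hs => ((show Commute s w from hwc s hs).pow_right _).eq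
    have hzp : z ^ p = 1 := hzo ▸ pow_orderOf_eq_one z
    have hzcL : ∀ s ∈ SL, s * z = z * s := fun s hs => hzc s ⟨hs.1, hLK hs.2⟩
    have hz0 : Subgroup.zpowers z ≠ ⊥ := by
      rw [Ne, Subgroup.zpowers_eq_bot]
      intro e
      rw [e, orderOf_one] at hzo
      exact (Fact.out : p.Prime).ne_one hzo.symm
    set C := Subgroup.centralizer ({z} : Set H) with hC
    have hCp : IsPGroup p ↥(Cfsg.generalizedFittingSubgroup ↥C) := by
      rw [hC, ← CharPLocal.centralizer_zpowers]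
      exact CharPLocal.centralizer_of_normalizer ((Comp.isPGroup_gfit_iff p).mpr
        (hH.2 _ (IsPGroup.of_card (n := 1) (by rw [Nat.card_zpowers, hzo, pow_one])) hz0))
    set K' := K.subgroupOf C with hK'
    have hX := (Comp.isPGroup_gfit_iff p).mp (CharPLocal.charP_subnormal (hK.subgroupOf (K := C)) hCp)
    let ι : ↥K' →* H := C.subtype.comp K'.subtype
    have hι : Function.Injective ι := C.subtype_injective.comp K'.subtype_injective
    have hSC : S ≤ C := fun s hs => Subgroup.mem_centralizer_singleton_iff.mpr (hzc s hs)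
    obtain ⟨hle, hp, hidx⟩ := Cfsg.FusionSystem.isSylowIn_inf_of_isSubnormal T hK
    have hidx' : ¬ p ∣ (S.comap ι).index := by
      rw [Subgroup.index_comap]
      have hr : ι.range ≤ K := by
        rintro _ ⟨y, rfl⟩
        exact y.2
      have hSr : S ≤ ι.range := fun s hs => ⟨⟨⟨s, hSC hs⟩, hs.2⟩, rfl⟩
      exact fun h => hidx (h.trans (Dvd.intro _ (Subgroup.relIndex_mul_relIndex S ι.range K hSr hr)))
    set P : Sylow p ↥K' := IsPGroup.toSylow (hp.comap_of_injective ι hι) hidx'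
    haveI : (L.comap ι).Normal := ⟨fun n hn' g => hn.conj_mem ⟨ι n, hLK hn'⟩ hn' ⟨ι g, g.2⟩⟩
    have h := S2805.normal_case hX P (L.comap ι)
    have e1 : ∀ (A : Subgroup H), A ≤ S → ∀ y : ↥K',
        (y ∈ Subgroup.centralizer ((Cfsg.omegaOne p (A.comap ι ⊓ Subgroup.centralizer ((A.comap ι : Subgroup ↥K') : Set ↥K')) : Subgroup ↥K') : Set ↥K') ↔
        ι y ∈ Subgroup.centralizer ((Cfsg.omegaOne p (A ⊓ Subgroup.centralizer (A : Set H)) : Subgroup H) : Set H)) := by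
      intro A hA y
      constructor
      · intro h
        refine Subgroup.mem_centralizer_iff.mpr fun v hv => ?_
        obtain ⟨v1, v2, v3⟩ := CharPLocal.mem_omegaZ hv
        let v' : ↥K' := ⟨⟨v, hSC (hA v1)⟩, (hA v1).2⟩
        have := Subgroup.mem_centralizer_iff.mp h v' (Subgroup.subset_closure ⟨⟨v1, Subgroup.mem_centralizer_iff.mpr
          fun t ht => hι (by rw [map_mul, map_mul]; exact v2 _ ht)⟩, hι (by rw [map_pow, map_one]; exact v3)⟩)
        have h' := congrArg ι this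
        rw [map_mul, map_mul] at h'
        exact h'
      · intro h
        refine Subgroup.mem_centralizer_iff.mpr fun v hv => hι ?_
        obtain ⟨v1, v2, v3⟩ := CharPLocal.mem_omegaZ hv
        rw [map_mul, map_mul]
        refine Subgroup.mem_centralizer_iff.mp h _ (Subgroup.subset_closure ⟨⟨v1, Subgroup.mem_centralizer_iff.mpr
          fun t ht => ?_⟩, by rw [← map_pow, v3, map_one]⟩)
        have := congrArg ι (v2 ⟨⟨t, hSC (hA ht)⟩, (hA ht).2⟩ ht)
        simpa [ι] using this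
    have e2 : S.comap ι ⊓ L.comap ι = SL.comap ι := by
      ext y
      exact ⟨fun h => ⟨h.1.1, h.2⟩, fun h => ⟨⟨h.1, hLK h.2⟩, h.2⟩⟩
    have hP : (P : Subgroup ↥K') = S.comap ι := rfl
    rw [hP, e2] at h
    have key : ∀ A : Subgroup H, z ∈ A → (∀ s ∈ A, s * z = z * s) →
        x ∈ Subgroup.centralizer ((Cfsg.omegaOne p (A ⊓ Subgroup.centralizer (A : Set H)) : Subgroup H) : Set H) → x ∈ C := by
      intro A hzA hc hxA
      exact Subgroup.mem_centralizer_singleton_iff.mpr (Subgroup.mem_centralizer_iff.mp hxA z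
        (Subgroup.subset_closure ⟨⟨hzA, Subgroup.mem_centralizer_iff.mpr hc⟩, hzp⟩)).symm
    constructor
    · intro hxS
      let y : ↥K' := ⟨⟨x, key S hzS hzc hxS⟩, hLK hx⟩
      exact (e1 SL (fun s hs => ⟨hs.1, hLK hs.2⟩) y).mp (h.le ⟨(hx : y ∈ L.comap ι), (e1 S le_rfl y).mpr hxS⟩).2
    · intro hxS
      let y : ↥K' := ⟨⟨x, key SL hzSL hzcL hxS⟩, hLK hx⟩
      exact (e1 S le_rfl y).mp (h.ge ⟨(hx : y ∈ L.comap ι), (e1 SL (fun s hs => ⟨hs.1, hLK hs.2⟩) y).mpr hxS⟩).2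

theorem pointStabilizer_eq {H : Type*} [Group H] [Finite H] {p : ℕ} [Fact p.Prime]
    (hH : Cfsg.IsOfLocalCharacteristic p H) (T : Sylow p H) {L : Subgroup H} (hL : L.IsSubnormal) :
    Cfsg.pointStabilizer p L ((T : Subgroup H) ⊓ L) = Subgroup.closure {x : H | x ∈ L ⊓
      Subgroup.centralizer ((Cfsg.omegaOne p ((T : Subgroup H) ⊓ Subgroup.centralizer ((T : Subgroup H) : Set H)) : Subgroup H) : Set H) ∧
      ∃ k : ℕ, orderOf x = p ^ k} := by
  obtain ⟨hle, hp, hidx⟩ := Cfsg.FusionSystem.isSylowIn_inf_of_isSubnormal T hL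
  refine congrArg Subgroup.closure (Set.ext fun x => ?_)
  by_cases hne : (T : Subgroup H) ⊓ L = ⊥
  · have key : x ∈ L → (∃ k : ℕ, orderOf x = p ^ k) → x = 1 := by
      rintro hx ⟨k, hk⟩
      rw [hne, Subgroup.relIndex_bot_left] at hidx
      rcases Nat.eq_zero_or_pos k with rfl | hk0
      · exact orderOf_eq_one_iff.mp (by simpa using hk)
      · refine absurd (((dvd_pow_self p hk0.ne').trans hk.symm.dvd).trans ?_) hidx
        exact (Subgroup.orderOf_coe (⟨x, hx⟩ : L)).symm ▸ orderOf_dvd_natCard (⟨x, hx⟩ : L)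
    constructor
    · intro h
      obtain rfl := key h.1.1 h.2
      exact ⟨⟨L.one_mem, Subgroup.one_mem _⟩, 0, by simp⟩
    · intro h
      obtain rfl := key h.1.1 h.2
      exact ⟨⟨L.one_mem, Subgroup.one_mem _⟩, 0, by simp⟩
  · exact ⟨fun h => ⟨⟨h.1.1, (centralize_iff hH T hL hne x h.1.1).mpr h.1.2⟩, h.2⟩,
      fun h => ⟨⟨h.1.1, (centralize_iff hH T hL hne x h.1.1).mp h.1.2⟩, h.2⟩⟩

theorem isSubnormal_closure {C : Type*} [Group C] (L : Subgroup C) (hL : L.IsSubnormal) (p : ℕ) :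
    (Subgroup.closure {x : C | x ∈ L ∧ ∃ k : ℕ, orderOf x = p ^ k}).IsSubnormal := by
  set P := Subgroup.closure {x : C | x ∈ L ∧ ∃ k : ℕ, orderOf x = p ^ k}
  have hPL : P ≤ L := (Subgroup.closure_le _).mpr fun x hx => hx.1
  refine Subgroup.IsSubnormal.step _ _ hPL hL ?_
  rw [Subgroup.normal_subgroupOf_iff_le_normalizer hPL]
  have key : ∀ g ∈ L, ∀ x ∈ P, g * x * g⁻¹ ∈ P := fun g hg x hx => by
    have : P ≤ P.comap (MulAut.conj g).toMonoidHom := (Subgroup.closure_le _).mpr fun y hy => Subgroup.subset_closure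
      ⟨L.mul_mem (L.mul_mem hg hy.1) (L.inv_mem hg), by
        obtain ⟨k, hk⟩ := hy.2
        exact ⟨k, (MulEquiv.orderOf_eq (MulAut.conj g) y).trans hk⟩⟩
    exact this hx
  intro g hg
  rw [Subgroup.mem_normalizer_iff]
  refine fun x => ⟨key g hg x, fun hx => ?_⟩
  simpa [mul_assoc] using key g⁻¹ (L.inv_mem hg) _ hx

theorem mem_of_isSubnormal {C : Type*} [Group C] [Finite C] {p : ℕ} [Fact p.Prime] (T : Sylow p C) {J : Subgroup C}
    (hJ : J.IsSubnormal) {M : Subgroup C} (hJM : J ≤ M) (hM : M.IsSubnormal) (h : (T : Subgroup C) ⊓ M ≤ J) {x : C}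
    (hx : x ∈ M) (hxp : ∃ k : ℕ, orderOf x = p ^ k) : x ∈ J := by
  obtain ⟨k, hk⟩ := hxp
  obtain ⟨Q, hQ⟩ := (IsPGroup.of_card (by rw [Nat.card_zpowers, hk]) : IsPGroup p ↥(Subgroup.zpowers x)).exists_le_sylow
  obtain ⟨-, hp, hidx⟩ := Cfsg.FusionSystem.isSylowIn_inf_of_isSubnormal T hM
  obtain ⟨-, hQp, hQidx⟩ := Cfsg.FusionSystem.isSylowIn_inf_of_isSubnormal Q hJ
  have hJidx : ¬ p ∣ J.relIndex M := fun hd => hidx (hd.trans (Subgroup.relIndex_dvd_of_le_left M h))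
  have h1 : ¬ p ∣ ((Q : Subgroup C) ⊓ J).relIndex M := by
    rw [← Subgroup.relIndex_mul_relIndex _ J M inf_le_right hJM]
    exact fun hd => ((Fact.out : p.Prime).dvd_mul.mp hd).elim hQidx hJidx
  set Q' := (Q : Subgroup C) ⊓ M
  have hle : (Q : Subgroup C) ⊓ J ≤ Q' := inf_le_inf_left _ hJM
  have h2 : ((Q : Subgroup C) ⊓ J).relIndex Q' ∣ ((Q : Subgroup C) ⊓ J).relIndex M :=
    Dvd.intro _ (Subgroup.relIndex_mul_relIndex _ Q' M hle inf_le_right)
  obtain ⟨j, hj⟩ := (Q.2.to_le inf_le_left : IsPGroup p ↥Q').index (((Q : Subgroup C) ⊓ J).subgroupOf Q')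
  rcases Nat.eq_zero_or_pos j with rfl | hj0
  · rw [pow_zero, Subgroup.index_eq_one, Subgroup.subgroupOf_eq_top] at hj
    exact (hj ⟨hQ (Subgroup.mem_zpowers x), hx⟩).2
  · exact absurd (((dvd_pow_self p hj0.ne').trans hj.symm.dvd).trans h2) h1

/-- Let H be a finite group of local characteristic p, T a Sylow p-subgroup, and L₁, L₂ subnormal subgroups of H generating the subgroup L. Then the point stabilizer of L with respect to T ∩ L is generated by the point stabilizers of L₁ and L₂ with respect to T ∩ L₁ and T ∩ L₂ (point stabilizer of X w.r.t. R: the subgroup generated by the p-elements of X centralizing Ω₁(Z(R))). -/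
theorem result {H : Type*} [Group H] [Finite H] {p : ℕ} [Fact p.Prime] (hH : Cfsg.IsOfLocalCharacteristic p H) (T : Sylow p H) (L₁ L₂ : Subgroup H) (h₁ : L₁.IsSubnormal) (h₂ : L₂.IsSubnormal) : Cfsg.pointStabilizer p (L₁ ⊔ L₂) ((T : Subgroup H) ⊓ (L₁ ⊔ L₂)) = Cfsg.pointStabilizer p L₁ ((T : Subgroup H) ⊓ L₁) ⊔ Cfsg.pointStabilizer p L₂ ((T : Subgroup H) ⊓ L₂) := by
  set C := Subgroup.centralizer ((Cfsg.omegaOne p ((T : Subgroup H) ⊓ Subgroup.centralizer ((T : Subgroup H) : Set H)) : Subgroup H) : Set H) with hC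
  rw [pointStabilizer_eq hH T (CfsgLib.isSubnormal_sup h₁ h₂), pointStabilizer_eq hH T h₁, pointStabilizer_eq hH T h₂]
  refine le_antisymm ((Subgroup.closure_le _).mpr ?_) (sup_le
    (Subgroup.closure_mono fun x hx => ⟨⟨Subgroup.mem_sup_left hx.1.1, hx.1.2⟩, hx.2⟩)
    (Subgroup.closure_mono fun x hx => ⟨⟨Subgroup.mem_sup_right hx.1.1, hx.1.2⟩, hx.2⟩))
  have hTC : (T : Subgroup H) ≤ C := fun t ht => Subgroup.mem_centralizer_iff.mpr fun z hz =>
    ((CfsgLib.CharPLocal.mem_omegaZ hz).2.1 t ht).symm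
  have hmap : ∀ L : Subgroup H, (Subgroup.closure {y : ↥C | y ∈ L.subgroupOf C ∧ ∃ k : ℕ, orderOf y = p ^ k}).map C.subtype ≤
      Subgroup.closure {y : H | y ∈ L ⊓ C ∧ ∃ k : ℕ, orderOf y = p ^ k} := fun L => by
    rw [MonoidHom.map_closure]
    refine Subgroup.closure_mono ?_
    rintro _ ⟨y, ⟨hy, k, hk⟩, rfl⟩
    exact ⟨⟨hy, y.2⟩, k, (Subgroup.orderOf_coe y).trans hk⟩
  set J1 := Subgroup.closure {y : ↥C | y ∈ L₁.subgroupOf C ∧ ∃ k : ℕ, orderOf y = p ^ k} with hJ1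
  set J2 := Subgroup.closure {y : ↥C | y ∈ L₂.subgroupOf C ∧ ∃ k : ℕ, orderOf y = p ^ k} with hJ2
  have hJsn : (J1 ⊔ J2).IsSubnormal :=
    CfsgLib.isSubnormal_sup (isSubnormal_closure _ h₁.subgroupOf p) (isSubnormal_closure _ h₂.subgroupOf p)
  have hJM : J1 ⊔ J2 ≤ (L₁ ⊔ L₂).subgroupOf C := sup_le
    ((Subgroup.closure_le _).mpr fun y hy => Subgroup.mem_sup_left (T := L₂) hy.1)
    ((Subgroup.closure_le _).mpr fun y hy => Subgroup.mem_sup_right (S := L₁) hy.1)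
  have hTJ : ((T.subtype hTC : Sylow p ↥C) : Subgroup ↥C) ⊓ (L₁ ⊔ L₂).subgroupOf C ≤ J1 ⊔ J2 := by
    intro y hy
    have h : (y : H) ∈ (L₁ ⊓ (T : Subgroup H)) ⊔ (L₂ ⊓ (T : Subgroup H)) := by
      rw [← CfsgLib.SubnormalSylow.sup_inf_sylow T h₁ h₂]
      exact ⟨hy.2, hy.1⟩
    have hi : ∀ L : Subgroup H, (L ⊓ (T : Subgroup H)).subgroupOf C ≤
        Subgroup.closure {z : ↥C | z ∈ L.subgroupOf C ∧ ∃ k : ℕ, orderOf z = p ^ k} := fun L z hz =>
      Subgroup.subset_closure ⟨hz.1, by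
        rw [← Subgroup.orderOf_coe z]
        obtain ⟨k, hk⟩ := T.2 ⟨(z : H), hz.2⟩
        obtain ⟨i, -, e⟩ := (Nat.dvd_prime_pow Fact.out).mp
          (orderOf_dvd_of_pow_eq_one (congrArg Subtype.val hk : (z : H) ^ p ^ k = 1))
        exact ⟨i, e⟩⟩
    refine (sup_le_sup (hi L₁) (hi L₂)) ?_
    rw [← Subgroup.subgroupOf_sup (inf_le_right.trans hTC) (inf_le_right.trans hTC)]
    exact h
  rintro x ⟨hx, k, hk⟩
  have hmem := mem_of_isSubnormal (T.subtype hTC) hJsn hJM (CfsgLib.isSubnormal_sup h₁ h₂).subgroupOf hTJ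
    (x := ⟨x, hx.2⟩) hx.1 ⟨k, (Subgroup.orderOf_coe _).symm.trans hk⟩
  have h2 := Subgroup.mem_map_of_mem C.subtype hmem
  rw [Subgroup.map_sup] at h2
  exact sup_le_sup (hmap L₁) (hmap L₂) h2

end Cfsg.Agent.S2806
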