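import Cfsg.Statements.S2809
import Cfsg.Agent.Lib.Stabilizer

set_option autoImplicit false
open Cfsg

namespace Cfsg.Agent.S2809

open CfsgLib.Stabilizer

/-- Let H be a finite group, p a prime, R a p-subgroup of H with C_H(R) ≤ R, and L a subgroup of N_H(R) acting nilpotently on R (some iterated commutator [R, L, …, L] is trivial). Then L is a p-group. -/
theorem result {H : Type*} [Group H] [Finite H] {p : ℕ} [Fact p.Prime] (R : Subgroup H) (hR : IsPGroup p ↥R) (hC : Subgroup.centralizer (R : Set H) ≤ R) (L : Subgroup H) (hL : L ≤ Subgroup.normalizer (R : Set H)) (hnil : ∃ n : ℕ, Cfsg.iterCommutator R L n = ⊥) : IsPGroup p ↥L := by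
  obtain ⟨n, hn⟩ := hnil
  refine isPGroup_of_coprime_trivial L fun x hxL hx => ?_
  have hle : ∀ i, iterCommutator R L i ≤ R := by
    intro i
    induction i with
    | zero => exact le_rfl
    | succ i ih =>
      exact (Subgroup.commutator_mono ih le_rfl).trans (Subgroup.commutator_le.2 fun r hr l hl => by
        rw [commutatorElement_def, mul_assoc r, mul_assoc r]
        exact R.mul_mem hr (((Subgroup.mem_normalizer_iff.1 (hL hl)) r⁻¹).1 (R.inv_mem hr)))
  have key := centralizes_of_series hx (fun i => iterCommutator R L (n - i)) n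
    (fun i _ => hR.of_injective (Subgroup.inclusion (hle _)) (Subgroup.inclusion_injective _))
    (fun r hr => by
      simp only [Nat.sub_zero, hn, Subgroup.mem_bot] at hr
      simp [hr])
    (fun i hi r hr => by
      have e : n - i = (n - (i + 1)) + 1 := by omega
      simp only [e, iterCommutator]
      have := Subgroup.commutator_mem_commutator hr hxL
      simpa [commutatorElement_def, mul_assoc] using inv_mem this)
    n le_rfl
  simp only [Nat.sub_self, iterCommutator] at key
  have hxR : x ∈ R := hC fun r hr => (key r hr).symm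
  obtain ⟨k, hk⟩ := hR ⟨x, hxR⟩
  have := Nat.Coprime.eq_one_of_dvd (hx.pow_right k) (orderOf_dvd_of_pow_eq_one (congrArg Subtype.val hk))
  exact orderOf_eq_one_iff.1 this

end Cfsg.Agent.S2809
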