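import Cfsg.Statements.S2810
import Cfsg.Agent.Lib.Basic
import Cfsg.Agent.Lib.Stabilizer

set_option autoImplicit false
set_option linter.unusedVariables false
open Cfsg
open scoped commutatorElement

namespace Cfsg.Agent.S2810

open CfsgLib CfsgLib.Stabilizer

/-- Let H be a finite group of characteristic p and L a subgroup of H centralizing every factor of some H-invariant chain 1 = A₀ ≤ A₁ ≤ … ≤ Aₙ = O_p(H) of normal subgroups (that is, [A_{i+1}, L] ≤ Aᵢ for each i). Then L ≤ O_p(H). -/
theorem result {H : Type*} [Group H] [Finite H] {p : ℕ} [Fact p.Prime] (hchar : Subgroup.centralizer (Cfsg.pCore p H : Set H) ≤ Cfsg.pCore p H) (L : Subgroup H) (n : ℕ) (A : Fin (n + 1) → Subgroup H) (h0 : A 0 = ⊥) (hn : A (Fin.last n) = Cfsg.pCore p H) (hmono : Monotone A) (hnorm : ∀ i, (A i).Normal) (hcent : ∀ i : Fin n, ⁅A i.succ, L⁆ ≤ A i.castSucc) : L ≤ Cfsg.pCore p H := by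
  classical
  let C : Fin n → Subgroup H := fun i =>
    haveI := hnorm i.castSucc
    (Subgroup.centralizer ((A i.succ).map (QuotientGroup.mk' (A i.castSucc)) : Set (H ⧸ A i.castSucc))).comap
      (QuotientGroup.mk' (A i.castSucc))
  let K : Subgroup H := ⨅ i, C i
  have hCn : ∀ i, (C i).Normal := fun i => by
    haveI := hnorm i.castSucc
    haveI := hnorm i.succ
    haveI : ((A i.succ).map (QuotientGroup.mk' (A i.castSucc))).Normal :=
      (hnorm i.succ).map _ (QuotientGroup.mk'_surjective _)
    exact Subgroup.Normal.comap inferInstance _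
  haveI : K.Normal := Subgroup.normal_iInf_normal hCn
  have hmem : ∀ (i : Fin n) (x : H), x ∈ C i ↔ ∀ r ∈ A i.succ, r * x * r⁻¹ * x⁻¹ ∈ A i.castSucc := by
    intro i x
    haveI := hnorm i.castSucc
    simp only [C, Subgroup.mem_comap, Subgroup.mem_centralizer_iff, Subgroup.coe_map,
      Set.forall_mem_image, SetLike.mem_coe]
    refine forall₂_congr fun r _ => ?_
    rw [← mul_inv_eq_one]
    simp only [← map_mul, ← map_inv, mul_inv_rev]
    rw [QuotientGroup.mk'_apply, QuotientGroup.eq_one_iff]
    simp [mul_assoc]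
  have hLK : L ≤ K := by
    refine le_iInf fun i x hx => (hmem i x).2 fun r hr => hcent i ?_
    rw [← commutatorElement_def]
    exact Subgroup.commutator_mem_commutator hr hx
  refine hLK.trans (le_pCore ?_)
  refine isPGroup_of_coprime_trivial K fun x hxK hx => ?_
  have key := centralizes_of_series hx (fun i => A ⟨min i n, by omega⟩) n
    (fun i hi => (isPGroup_pCore p).of_injective
      (Subgroup.inclusion ((hmono (Fin.le_last _)).trans hn.le)) (Subgroup.inclusion_injective _))
    (fun r hr => by
      have : (⟨min 0 n, by omega⟩ : Fin (n + 1)) = 0 := by ext; simp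
      rw [this, h0, Subgroup.mem_bot] at hr; simp [hr])
    (fun i hi r hr => by
      have e1 : (⟨min (i + 1) n, by omega⟩ : Fin (n + 1)) = (⟨i, hi⟩ : Fin n).succ := by
        ext; simp; omega
      have e2 : (⟨min i n, by omega⟩ : Fin (n + 1)) = (⟨i, hi⟩ : Fin n).castSucc := by
        ext; simp; omega
      simp only [e1] at hr; simp only [e2]
      have := (A _).inv_mem ((hmem ⟨i, hi⟩ x).1 (Subgroup.mem_iInf.1 hxK _) r hr)
      simpa [mul_assoc] using this)
    n le_rfl
  have hxO : x ∈ pCore p H := hchar fun r hr => by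
    refine (key r ?_).symm
    have : (⟨min n n, by omega⟩ : Fin (n + 1)) = Fin.last n := by ext; simp
    simp only [this, hn]; exact hr
  obtain ⟨k, hk⟩ := isPGroup_pCore (G := H) p ⟨x, hxO⟩
  exact orderOf_eq_one_iff.1
    (Nat.Coprime.eq_one_of_dvd (hx.pow_right k) (orderOf_dvd_of_pow_eq_one (congrArg Subtype.val hk)))

end Cfsg.Agent.S2810
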