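import Cfsg.Statements.S2812
import Mathlib
import Cfsg.Agent.Lib.Coprime
import Cfsg.Agent.Lib.Comp.Layer
import Cfsg.Agent.Lib.Components
import Cfsg.Agent.Lib.Basic

set_option autoImplicit false
set_option linter.unusedVariables false
open Cfsg
open scoped commutatorElement

namespace Cfsg.Agent.S2812

open CfsgLib
open scoped commutatorElement Pointwise

/-- Let H be a subgroup of the finite group G with O_p(H) = 1, Y a p-subgroup of G normalizing H, and L a subgroup of the generalized Fitting subgroup F*(H) that is subnormal in H and normalized by Y. Then L = [L, Y]·C_L(Y) and [L, Y] = [L, Y, Y]. -/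
theorem result {G : Type*} [Group G] [Finite G] {p : ℕ} [Fact p.Prime] (H : Subgroup G) (hO : Cfsg.pCore p ↥H = ⊥) (Y : Subgroup G) (hY : IsPGroup p ↥Y) (hYH : Y ≤ Subgroup.normalizer (H : Set G)) (L : Subgroup G) (hLF : L ≤ (Cfsg.generalizedFittingSubgroup ↥H).map H.subtype) (hLsn : (L.subgroupOf H).IsSubnormal) (hYL : Y ≤ Subgroup.normalizer (L : Set G)) : ⁅L, Y⁆ ⊔ (L ⊓ Subgroup.centralizer (Y : Set G)) = L ∧ ⁅L, Y⁆ = ⁅⁅L, Y⁆, Y⁆ := by
  classical
  set F' := (Cfsg.generalizedFittingSubgroup ↥H).map H.subtype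
  have hLH : L ≤ H := hLF.trans (Subgroup.map_subtype_le _)
  set S := L.subgroupOf H with hS
  have hSF : S ≤ Cfsg.generalizedFittingSubgroup ↥H := by
    intro x hx
    obtain ⟨y, hy, e⟩ := hLF hx
    rwa [← (Subtype.ext e : y = x)]
  -- `L = F(L) E(L)`
  have htop : Cfsg.generalizedFittingSubgroup ↥L = ⊤ := by
    have h := Comp.gfit_top_of_subnormal Comp.gfit_gfit (hLsn.subgroupOf (K := Cfsg.generalizedFittingSubgroup ↥H))
    have h1 : Cfsg.generalizedFittingSubgroup ↥S = ⊤ := by
      rw [← map_generalizedFittingSubgroup_equiv (Subgroup.subgroupOfEquivOfLe hSF), h,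
        Subgroup.map_top_of_surjective _ (Subgroup.subgroupOfEquivOfLe hSF).surjective]
    rw [← map_generalizedFittingSubgroup_equiv (Subgroup.subgroupOfEquivOfLe hLH), h1,
      Subgroup.map_top_of_surjective _ (Subgroup.subgroupOfEquivOfLe hLH).surjective]
  have hOL : Cfsg.pCore p ↥L = ⊥ := by
    rw [Subgroup.eq_bot_iff_forall]
    intro x hx
    set e := (Subgroup.subgroupOfEquivOfLe hLH).symm
    set P := (Cfsg.pCore p ↥L).map (S.subtype.comp e.toMonoidHom) with hP
    have hPp : IsPGroup p ↥P := (isPGroup_pCore p).map _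
    have hPsn : P.IsSubnormal := by
      rw [hP, ← Subgroup.map_map]
      exact ((Subgroup.Normal.map (inferInstance : (Cfsg.pCore p ↥L).Normal) e.toMonoidHom e.surjective).isSubnormal).trans' hLsn
    have hb := isSubnormal_isPGroup_le_pCore hPsn hPp
    rw [hO] at hb
    exact e.injective (Subtype.ext ((Subgroup.mem_bot.mp (hb ⟨x, hx, rfl⟩)).trans (by simp)))
  set D := ⁅L, Y⁆ with hD
  have hDL : D ≤ L := CfsgLib.commutator_le_of_le_normalizer hYL
  have hLD : L ≤ Subgroup.normalizer (D : Set G) := left_le_normalizer_commutator Y L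
  set C := L ⊓ Subgroup.centralizer (Y : Set G) with hC
  haveI : (D.subgroupOf L).Normal := (Subgroup.normal_subgroupOf_iff_le_normalizer hDL).mpr hLD
  have hfirst : D ⊔ C = L := by
    refine le_antisymm (sup_le hDL inf_le_left) ?_
    have hmain : (⊤ : Subgroup ↥L) ≤ (D ⊔ C).comap L.subtype := by
      rw [← htop, Cfsg.generalizedFittingSubgroup]
      refine sup_le (sSup_le fun K hK => ?_) ?_
      · rcases component_le_or_commutator_eq_bot hK (D.subgroupOf L) with h | h
        · exact fun x hx => Subgroup.mem_sup_left (h hx)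
        · rw [← Subgroup.map_le_iff_le_comap]
          set K0 := K.map L.subtype with hK0
          have hKD : ⁅K0, D⁆ = ⊥ := by
            have := congrArg (Subgroup.map L.subtype) h
            rwa [Subgroup.map_commutator, Subgroup.map_subgroupOf_eq_of_le hDL, Subgroup.map_bot] at this
          have hKY : ⁅K0, Y⁆ ≤ D := Subgroup.commutator_mono (Subgroup.map_subtype_le K) le_rfl
          have h1 : ⁅⁅K0, Y⁆, K0⁆ = ⊥ := by
            rw [eq_bot_iff, ← hKD, Subgroup.commutator_comm K0 D]
            exact Subgroup.commutator_mono hKY le_rfl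
          have h2 : ⁅⁅Y, K0⁆, K0⁆ = ⊥ := by rwa [Subgroup.commutator_comm Y K0]
          have h3 := Subgroup.commutator_commutator_eq_bot_of_rotate (H₁ := K0) (H₂ := K0) (H₃ := Y) h1 h2
          have hperf : ⁅K0, K0⁆ = K0 := by rw [hK0, ← Subgroup.map_commutator, isComponent_commutator_self hK]
          rw [hperf, Subgroup.commutator_eq_bot_iff_le_centralizer] at h3
          exact fun x hx => Subgroup.mem_sup_right ⟨Subgroup.map_subtype_le K hx, h3 hx⟩
      · rw [← Subgroup.map_le_iff_le_comap]
        set F := Cfsg.fittingSubgroup ↥L with hF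
        set F0 := F.map L.subtype with hF0
        haveI hFnil : Group.IsNilpotent ↥F := isNilpotent_fittingSubgroup
        have hnd : ¬ p ∣ Nat.card ↥F := by
          intro hd
          obtain ⟨g, hg⟩ := exists_prime_orderOf_dvd_card' p hd
          obtain ⟨Q, hQ⟩ := (IsPGroup.of_card (n := 1) (by rw [Nat.card_zpowers, hg, pow_one]) :
            IsPGroup p ↥(Subgroup.zpowers g)).exists_le_sylow
          have h3 : ∀ (p : ℕ) (_hp : Fact p.Prime) (P : Sylow p ↥F), (P : Subgroup ↥F).Normal :=
            ((Group.isNilpotent_of_finite_tfae (G := ↥F)).out 0 3).mp hFnil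
          haveI : (Q : Subgroup ↥F).Normal := h3 p inferInstance Q
          have h1 : (g : ↥L) ∈ Cfsg.pCore p ↥L := map_pCore_le p F ⟨g, le_pCore Q.2 (hQ (Subgroup.mem_zpowers g)), rfl⟩
          rw [hOL, Subgroup.mem_bot] at h1
          rw [show g = 1 from Subtype.ext h1, orderOf_one] at hg
          exact (Fact.out : p.Prime).ne_one hg.symm
        have hYF : Y ≤ Subgroup.normalizer (F0 : Set G) := by
          intro y hy
          refine Subgroup.mem_normalizer_iff.mpr fun x => ?_
          suffices h : ∀ y ∈ Y, ∀ x ∈ F0, y * x * y⁻¹ ∈ F0 from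
            ⟨h y hy x, fun hx => by simpa [mul_assoc] using h y⁻¹ (Y.inv_mem hy) _ hx⟩
          intro y hy x hx
          obtain ⟨w, hw, rfl⟩ := hx
          have hyL := hYL hy
          let φ : ↥L ≃* ↥L :=
            { toFun := fun v => ⟨y * v * y⁻¹, (Subgroup.mem_normalizer_iff.mp hyL v).mp v.2⟩
              invFun := fun v => ⟨y⁻¹ * v * y, by simpa using (Subgroup.mem_normalizer_iff.mp (Subgroup.inv_mem _ hyL) v).mp v.2⟩
              left_inv := fun v => Subtype.ext (by simp only; group)
              right_inv := fun v => Subtype.ext (by simp only; group)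
              map_mul' := fun v z => Subtype.ext (by simp only [Subgroup.coe_mul]; group) }
          haveI : (F.map φ.toMonoidHom).Normal := Subgroup.Normal.map inferInstance _ φ.surjective
          exact ⟨φ w, le_fittingSubgroup (Group.nilpotent_of_mulEquiv (F.equivMapOfInjective φ.toMonoidHom φ.injective))
            (show φ w ∈ F.map φ.toMonoidHom from ⟨w, hw, rfl⟩), rfl⟩
        have hcop : (Nat.card Y).Coprime (Nat.card F0) := by
          obtain ⟨k, hk⟩ := IsPGroup.iff_card.mp hY
          rw [hk, hF0, Subgroup.card_map_of_injective L.subtype_injective]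
          exact ((Fact.out : p.Prime).coprime_iff_not_dvd.mpr hnd).pow_left k
        haveI : Group.IsNilpotent ↥Y := hY.isNilpotent
        rw [← coprime_commutator_sup hYF hcop (Or.inl inferInstance)]
        exact sup_le_sup (Subgroup.commutator_mono (Subgroup.map_subtype_le F) le_rfl)
          (inf_le_inf_right _ (Subgroup.map_subtype_le F))
    exact fun x hx => hmain (Subgroup.mem_top (⟨x, hx⟩ : ↥L))
  refine ⟨hfirst, le_antisymm ?_ (Subgroup.commutator_mono hDL le_rfl)⟩
  rw [hD, Subgroup.commutator_le]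
  intro l hl y hy
  have hl' : l ∈ D ⊔ C := hfirst.symm ▸ hl
  haveI : ((D.subgroupOf L)).Normal := inferInstance
  obtain ⟨d, hd, c, hc, e⟩ : ∃ d ∈ D, ∃ c ∈ C, d * c = l := by
    have : ((D : Set G) * (C : Set G)) = ((D ⊔ C : Subgroup G) : Set G) :=
      (Subgroup.coe_mul_of_right_le_normalizer_left D C (inf_le_left.trans hLD)).symm
    exact Set.mem_mul.mp (this.ge hl')
  subst e
  have hca : c * y * c⁻¹ = y := by rw [← Subgroup.mem_centralizer_iff.mp hc.2 y hy, mul_inv_cancel_right]
  have : ⁅d * c, y⁆ = ⁅d, y⁆ := by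
    rw [commutatorElement_def, commutatorElement_def]
    calc d * c * y * (d * c)⁻¹ * y⁻¹ = d * (c * y * c⁻¹) * d⁻¹ * y⁻¹ := by group
      _ = d * y * d⁻¹ * y⁻¹ := by rw [hca]
  rw [this]
  exact Subgroup.commutator_mem_commutator hd hy

end Cfsg.Agent.S2812
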