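import Cfsg.Statements.S2813
import Cfsg.Agent.Lib.Basic

set_option autoImplicit false
set_option linter.unusedVariables false
open Cfsg
open scoped commutatorElement

namespace Cfsg.Agent.S2813

open CfsgLib

/-- Let K be a subgroup of the finite group H with O_p(K) = 1 and Y a p-subgroup of N_H(K) with [K, Y, Y] = 1. Then [K, Y] = 1. -/
theorem result {H : Type*} [Group H] [Finite H] {p : ℕ} [Fact p.Prime] (K : Subgroup H) (hO : Cfsg.pCore p ↥K = ⊥) (Y : Subgroup H) (hY : IsPGroup p ↥Y) (hYK : Y ≤ Subgroup.normalizer (K : Set H)) (hq : ⁅⁅K, Y⁆, Y⁆ = ⊥) : ⁅K, Y⁆ = ⊥ := by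
  set M := ⁅K, Y⁆ with hM
  have hMK : M ≤ K := Subgroup.commutator_le.2 fun k hk y hy => by
    rw [commutatorElement_def, mul_assoc k, mul_assoc k]
    exact K.mul_mem hk (((Subgroup.mem_normalizer_iff.1 (hYK hy)) k⁻¹).1 (K.inv_mem hk))
  -- `M` is normalized by `K`
  have hnorm : K ≤ Subgroup.normalizer (M : Set H) := by
    suffices ∀ k ∈ K, M ≤ M.comap (MulAut.conj k).toMonoidHom from
      Subgroup.le_normalizer_iff.2 fun k hk x hx => this k hk hx
    intro k hk
    refine Subgroup.commutator_le.2 fun a ha y hy => ?_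
    have h1 : ⁅k * a, y⁆ ∈ M := Subgroup.commutator_mem_commutator (K.mul_mem hk ha) hy
    have h2 : ⁅k, y⁆ ∈ M := Subgroup.commutator_mem_commutator hk hy
    have := M.mul_mem h1 (M.inv_mem h2)
    simpa [commutatorElement_def, mul_assoc] using this
  -- `M` is abelian
  have hYM : ⁅Y, M⁆ = ⊥ := by rw [Subgroup.commutator_comm]; exact hq
  have h1 : ⁅⁅Y, M⁆, K⁆ = ⊥ := by rw [hYM, Subgroup.commutator_bot_left]
  have h2 : ⁅⁅M, K⁆, Y⁆ = ⊥ := by
    refine le_bot_iff.1 ((Subgroup.commutator_mono (Subgroup.commutator_le.2 fun m hm k hk => ?_) le_rfl).trans hq.le)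
    rw [commutatorElement_def, mul_assoc m, mul_assoc m]
    exact M.mul_mem hm (((Subgroup.mem_normalizer_iff.1 (hnorm hk)) m⁻¹).1 (M.inv_mem hm))
  have hab : ⁅M, M⁆ = ⊥ := Subgroup.commutator_commutator_eq_bot_of_rotate h1 h2
  have hcomm : ∀ a ∈ M, ∀ b ∈ M, a * b = b * a := fun a ha b hb =>
    commutatorElement_eq_one_iff_mul_comm.1
      (Subgroup.mem_bot.1 (hab ▸ Subgroup.commutator_mem_commutator ha hb))
  -- the generators of `M` are `p`-elements
  have hgen : ∀ c ∈ M, ∃ e : ℕ, c ^ p ^ e = 1 := by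
    intro c hc
    refine Subgroup.closure_induction (p := fun c _ => ∃ e : ℕ, c ^ p ^ e = 1) ?_ ⟨0, by simp⟩ ?_ ?_
      (by rwa [hM, Subgroup.commutator_def] at hc)
    · rintro c ⟨k, hk, y, hy, rfl⟩
      obtain ⟨e, he⟩ := hY ⟨y, hy⟩
      refine ⟨e, ?_⟩
      have hcy : ⁅k, y⁆ * y = y * ⁅k, y⁆ :=
        commutatorElement_eq_one_iff_mul_comm.1 (Subgroup.mem_bot.1
          (hq ▸ Subgroup.commutator_mem_commutator (Subgroup.commutator_mem_commutator hk hy) hy))
      have e1 : k * y * k⁻¹ = ⁅k, y⁆ * y := by rw [commutatorElement_def]; group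
      have := congrArg (· ^ p ^ e) e1
      simp only [conj_pow, Commute.mul_pow hcy] at this
      have hy1 : y ^ p ^ e = 1 := congrArg Subtype.val he
      rw [hy1] at this
      simpa using this.symm
    · rintro a b ha hb ⟨e, he⟩ ⟨e', he'⟩
      refine ⟨e + e', ?_⟩
      rw [← Subgroup.commutator_def] at ha hb
      rw [Commute.mul_pow (hcomm a ha b hb), pow_add, pow_mul, he, one_pow, one_mul, mul_comm (p ^ e),
        pow_mul, he', one_pow]
    · rintro a _ ⟨e, he⟩
      exact ⟨e, by rw [inv_pow, he, inv_one]⟩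
  haveI : (M.subgroupOf K).Normal := Subgroup.normal_subgroupOf_iff_le_normalizer hMK |>.2 hnorm
  have hp : IsPGroup p (M.subgroupOf K) := by
    intro ⟨⟨c, hcK⟩, hc⟩
    obtain ⟨e, he⟩ := hgen c hc
    exact ⟨e, Subtype.ext (Subtype.ext (by simpa using he))⟩
  have := le_pCore hp
  rw [hO, le_bot_iff, Subgroup.subgroupOf_eq_bot] at this
  simpa [disjoint_iff, inf_eq_left.2 hMK] using this

end Cfsg.Agent.S2813
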