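import Cfsg.Statements.S2814
import Mathlib
import Cfsg.Agent.Lib.Subnormal
import Cfsg.Agent.Lib.PComplement
import Cfsg.Agent.Lib.Local

set_option autoImplicit false
set_option linter.unusedVariables false
open Cfsg
open scoped commutatorElement

namespace Cfsg.Agent.S2814

open CfsgLib

theorem commutator_eq_residual {K : Type*} [Group K] [Finite K] {p : ℕ} [Fact p.Prime] (A : Subgroup K) (hA : IsPGroup p ↥A)
    (hnc : Subgroup.normalClosure (A : Set K) = ⊤) (hsup : A ⊔ Cfsg.pResidual p K = ⊤) :
    ⁅Cfsg.pResidual p K, A⁆ = Cfsg.pResidual p K := by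
  set R := Cfsg.pResidual p K
  haveI hRn : R.Normal := inferInstance
  set C := ⁅R, A⁆ with hC
  have hCR : C ≤ R := Subgroup.commutator_le_left R A
  haveI : C.Normal := Subgroup.normalizer_eq_top_iff.mp (top_le_iff.mp (hsup ▸
    sup_le (Subgroup.normalizer_commutator_ge_right R A) (Subgroup.normalizer_commutator_ge_left R A)))
  have hAC : (A ⊔ C).Normal := Subgroup.normalizer_eq_top_iff.mp (top_le_iff.mp (hsup ▸ sup_le
    (le_sup_left.trans Subgroup.le_normalizer) (fun r hr => by
      refine Local.mem_normalizer_of_map_conj_eq (Subgroup.eq_of_le_of_card_ge ?_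
        (Subgroup.card_map_of_injective (MulEquiv.injective (MulAut.conj r))).ge)
      rw [Subgroup.map_sup]
      refine sup_le (Local.map_conj_le fun a ha => ?_) (Local.map_conj_le fun c hc => Subgroup.mem_sup_right (Subgroup.Normal.conj_mem inferInstance c hc r))
      rw [show r * a * r⁻¹ = ⁅r, a⁆ * a by rw [commutatorElement_def]; group]
      exact Subgroup.mul_mem _ (Subgroup.mem_sup_right (Subgroup.commutator_mem_commutator hr ha)) (Subgroup.mem_sup_left ha))))
  have htop : A ⊔ C = ⊤ := top_le_iff.mp (hnc ▸ Subgroup.normalClosure_le_normal (N := A ⊔ C) (SetLike.coe_subset_coe.mpr le_sup_left))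
  refine le_antisymm hCR (CfsgLib.pResidual_le_of_isPGroup_quotient (N := C) ?_)
  have h : A.map (QuotientGroup.mk' C) = ⊤ := by
    rw [← Subgroup.map_top_of_surjective _ (QuotientGroup.mk'_surjective C), ← htop, Subgroup.map_sup,
      QuotientGroup.map_mk'_self, sup_bot_eq]
  exact (h ▸ hA.map (QuotientGroup.mk' C) : IsPGroup p ↥(⊤ : Subgroup (K ⧸ C))).of_equiv Subgroup.topEquiv

theorem sInf_subnormal {H : Type*} [Group H] (S : Set (Subgroup H)) (hS : S.Finite)
    (h : ∀ L ∈ S, L.IsSubnormal) : (sInf S).IsSubnormal := by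
  induction S, hS using Set.Finite.induction_on with
  | empty => rw [sInf_empty]; exact Subgroup.IsSubnormal.top
  | @insert a s _ _ ih =>
    rw [sInf_insert]
    exact (h a (Set.mem_insert a s)).inf (ih fun L hL => h L (Set.mem_insert_of_mem a hL))

/-- Let A be a subgroup of the finite group H and K the subnormal closure of A (intersection of the subnormal subgroups containing A). Then K is the normal closure of A inside K and N_H(A) ≤ N_H(K); K = A·O^p(K), O^p(K) being generated by the elements of K of order prime to p; and if A is a p-group, O^p(K) = [O^p(K), A]. -/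
theorem result {H : Type*} [Group H] [Finite H] {p : ℕ} [Fact p.Prime] (A : Subgroup H) (K : Subgroup H) (hK : K = Cfsg.subnormalClosure A) : (Subgroup.normalClosure ((A.subgroupOf K : Subgroup ↥K) : Set ↥K)).map K.subtype = K ∧ Subgroup.normalizer (A : Set H) ≤ Subgroup.normalizer (K : Set H) ∧ A ⊔ (Cfsg.pResidual p ↥K).map K.subtype = K ∧ (IsPGroup p ↥A → ⁅(Cfsg.pResidual p ↥K).map K.subtype, A⁆ = (Cfsg.pResidual p ↥K).map K.subtype) := by
  subst hK
  set K := Cfsg.subnormalClosure A with hKd
  have hKs : K.IsSubnormal := sInf_subnormal _ (Set.toFinite _) fun L hL => hL.2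
  have hAK : A ≤ K := le_sInf fun L hL => hL.1
  have hmin : ∀ L : Subgroup H, A ≤ L → L.IsSubnormal → K ≤ L := fun L h1 h2 => sInf_le ⟨h1, h2⟩
  have htop : ∀ L : Subgroup ↥K, A.subgroupOf K ≤ L → L.IsSubnormal → L = ⊤ := by
    intro L h1 h2
    have h3 : K ≤ L.map K.subtype := hmin _ (fun a ha => ⟨⟨a, hAK ha⟩, h1 ha, rfl⟩) (h2.trans' hKs)
    refine top_le_iff.mp fun k _ => ?_
    obtain ⟨l, hl, e⟩ := h3 k.2
    exact (Subtype.ext e : l = k) ▸ hl
  have hnc : Subgroup.normalClosure ((A.subgroupOf K : Subgroup ↥K) : Set ↥K) = ⊤ :=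
    htop _ Subgroup.le_normalClosure (Subgroup.Normal.isSubnormal Subgroup.normalClosure_normal)
  have hKm : (⊤ : Subgroup ↥K).map K.subtype = K := by rw [← MonoidHom.range_eq_map, Subgroup.range_subtype]
  have hres : A.subgroupOf K ⊔ Cfsg.pResidual p ↥K = ⊤ := by
    refine htop _ le_sup_left ?_
    haveI : Group.IsNilpotent (↥K ⧸ Cfsg.pResidual p ↥K) :=
      (CfsgLib.isPGroup_quotient_of_pResidual_le (le_refl (Cfsg.pResidual p ↥K))).isNilpotent
    have h := (CfsgLib.isSubnormal_of_nilpotent ((A.subgroupOf K).map (QuotientGroup.mk' (Cfsg.pResidual p ↥K)))).comap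
      (QuotientGroup.mk' (Cfsg.pResidual p ↥K))
    rwa [Subgroup.comap_map_eq, QuotientGroup.ker_mk'] at h
  refine ⟨by rw [hnc, hKm], fun g hg => ?_, ?_, fun hA => ?_⟩
  · refine CfsgLib.Local.mem_normalizer_of_map_conj_eq (Subgroup.eq_of_le_of_card_ge ?_ ?_).symm
    · refine hmin _ ?_ ?_
      · exact (CfsgLib.Local.map_conj_eq_of_mem_normalizer hg).ge.trans (Subgroup.map_mono hAK)
      · exact hKs.map (MulEquiv.surjective (MulAut.conj g))
    · exact (Subgroup.card_map_of_injective (MulEquiv.injective (MulAut.conj g))).le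
  · conv_rhs => rw [← hKm, ← hres, Subgroup.map_sup, Subgroup.map_subgroupOf_eq_of_le hAK]
  · conv_lhs => rw [← Subgroup.map_subgroupOf_eq_of_le hAK, ← Subgroup.map_commutator]
    rw [commutator_eq_residual _ (hA.of_equiv (Subgroup.subgroupOfEquivOfLe hAK).symm) hnc hres]

end Cfsg.Agent.S2814
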