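import Cfsg.Statements.S2860
import Mathlib
import Cfsg.Agent.Lib.WeakResidual
import Cfsg.Agent.Lib.Comp.PComp
import Cfsg.Agent.Lib.Components
import Cfsg.Agent.Lib.Subnormal
import Cfsg.Agent.Lib.PReducedOf

set_option autoImplicit false
set_option linter.unusedVariables false
open Cfsg
open scoped commutatorElement

namespace Cfsg.Agent.S2860

open CfsgLib CfsgLib.WeakResidual
open scoped commutatorElement

theorem eq_bot_of_commute {X : Type*} [Group X] [Finite X] {p : ℕ} [Fact p.Prime] {R : Subgroup X} [hRn : R.Normal]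
    (hpow : ∀ x : X, ∃ k : ℕ, x ^ p ^ k ∈ R) (hcore : Cfsg.pCore p X = ⊥) {Y : Subgroup X} (hY : IsPGroup p ↥Y)
    (h : Y ≤ Subgroup.centralizer (R : Set X)) : Y = ⊥ := by
  set N := Subgroup.centralizer (R : Set X)
  haveI hNn : N.Normal := inferInstance
  haveI : Group.IsNilpotent (↥N ⧸ Subgroup.center ↥N) := by
    refine IsPGroup.isNilpotent (p := p) fun y => ?_
    induction y using QuotientGroup.induction_on with
    | _ x =>
      obtain ⟨k, hk⟩ := hpow (x : X)
      refine ⟨k, ?_⟩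
      rw [← QuotientGroup.mk_pow, QuotientGroup.eq_one_iff, Subgroup.mem_center_iff]
      exact fun z => Subtype.ext ((Subgroup.mem_centralizer_iff.mp z.2 _ (by simpa using hk)).symm)
  haveI : Group.IsNilpotent ↥N := Group.of_quotient_center_nilpotent inferInstance
  refine le_bot_iff.mp (hcore ▸ isSubnormal_isPGroup_le_pCore ?_ hY)
  exact Subgroup.IsSubnormal.trans h (isSubnormal_of_nilpotent _) hNn.isSubnormal

theorem comm_eq_self {X : Type*} [Group X] [Finite X] {p : ℕ} [Fact p.Prime] {R : Subgroup X} [hRn : R.Normal]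
    (hR : Cfsg.IsQuasisimple ↥R) (hpow : ∀ x : X, ∃ k : ℕ, x ^ p ^ k ∈ R) (hcore : Cfsg.pCore p X = ⊥) {Y : Subgroup X}
    (hY : IsPGroup p ↥Y) (hY1 : Y ≠ ⊥) : ⁅R, Y⁆ = R := by
  set D := ⁅R, Y⁆ with hD
  have hDR : D ≤ R := Subgroup.commutator_le_left R Y
  haveI : (D.subgroupOf R).Normal :=
    Subgroup.normal_subgroupOf_of_le_normalizer (Subgroup.normalizer_commutator_ge_left R Y)
  rcases quasisimple_normal_le_center_or_eq_top hR (D.subgroupOf R) with h | h
  · exfalso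
    have h1 : ⁅⁅R, Y⁆, R⁆ = ⊥ := by
      rw [Subgroup.commutator_eq_bot_iff_le_centralizer]
      intro d hd
      refine Subgroup.mem_centralizer_iff.mpr fun r hr => ?_
      exact congrArg Subtype.val (Subgroup.mem_center_iff.mp (h (show (⟨d, hDR hd⟩ : ↥R) ∈ D.subgroupOf R from hd)) ⟨r, hr⟩)
    have h2 : ⁅⁅Y, R⁆, R⁆ = ⊥ := by rwa [Subgroup.commutator_comm Y R]
    have h3 := Subgroup.commutator_commutator_eq_bot_of_rotate h1 h2
    haveI := hR.1
    rw [Subgroup.commutator_eq_self, Subgroup.commutator_comm, Subgroup.commutator_eq_bot_iff_le_centralizer] at h3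
    exact hY1 (eq_bot_of_commute hpow hcore hY h3)
  · exact le_antisymm hDR (Subgroup.subgroupOf_eq_top.mp h)

variable {G : Type*} [Group G] [Finite G]

theorem map_le_iff_sup {E C A B : Subgroup G} [(C.subgroupOf E).Normal] (hA : A ≤ E) (hB : B ≤ E) :
    (A.subgroupOf E).map (QuotientGroup.mk' (C.subgroupOf E)) ≤ (B.subgroupOf E).map (QuotientGroup.mk' (C.subgroupOf E)) →
    ∀ a ∈ A, ∃ b ∈ B, ∃ c ∈ E ⊓ C, a = b * c := by
  intro h a ha
  obtain ⟨b, hb, e⟩ := h ⟨⟨a, hA ha⟩, ha, rfl⟩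
  have h1 : b⁻¹ * ⟨a, hA ha⟩ ∈ C.subgroupOf E := QuotientGroup.eq.mp (by simpa using e)
  exact ⟨b, hb, (b : G)⁻¹ * a, ⟨E.mul_mem (E.inv_mem b.2) (hA ha), h1⟩, by group⟩

/-- Let Q be a nontrivial large p-subgroup of the finite group H, U a nontrivial elementary abelian p-subgroup of H, and Q ≤ E ≤ N_H(U) with Q not normal in E. Suppose O_p(E/C_E(U)) = 1 and O^p(E)·C_E(U)/C_E(U) is quasisimple. Let E° be the weak closure of Q in E (generated by the conjugates of Q inside E) and E_∘ = O^p(E°). Then O^p(E)·C_E(U) = E_∘·C_E(U); E_∘ is perfect and equals O^p(E_∘); E_∘/C_{E_∘}(U) and E_∘/O_p(E_∘) are quasisimple; and E_∘ = [E_∘, Y] for every p-subgroup Y of E not centralizing U. -/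
theorem result {G : Type*} [Group G] [Finite G] {p : ℕ} [Fact p.Prime] (Q : Subgroup G) (hQp : IsPGroup p ↥Q) (hQ1 : Q ≠ ⊥) (hQ : Cfsg.IsLarge Q) (U : Subgroup G) (hU : Cfsg.IsElementaryAbelian p U) (hU1 : U ≠ ⊥) (E : Subgroup G) (hQE : Q ≤ E) (hEU : E ≤ Subgroup.normalizer ((U : Subgroup G) : Set G)) (hQn : ¬ E ≤ Subgroup.normalizer ((Q : Subgroup G) : Set G)) [hn : ((Subgroup.centralizer ((U : Subgroup G) : Set G)).subgroupOf E).Normal] (hred : Cfsg.pCore p (↥E ⧸ (Subgroup.centralizer ((U : Subgroup G) : Set G)).subgroupOf E) = ⊥) (hqs : Cfsg.IsQuasisimple ↥(((Cfsg.pResidual p ↥E) ⊔ (Subgroup.centralizer ((U : Subgroup G) : Set G)).subgroupOf E).map (QuotientGroup.mk' ((Subgroup.centralizer ((U : Subgroup G) : Set G)).subgroupOf E)))) (Er : Subgroup G) (hEr : Er = ((Cfsg.pResidual p ↥(Cfsg.weakClosure Q E)).map ((Cfsg.weakClosure Q E)).subtype)) [hn2 : ((Subgroup.centralizer ((U : Subgroup G) : Set G)).subgroupOf Er).Normal] : ((Cfsg.pResidual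 p ↥E).map (E).subtype) ⊔ (E ⊓ Subgroup.centralizer ((U : Subgroup G) : Set G)) = Er ⊔ (E ⊓ Subgroup.centralizer ((U : Subgroup G) : Set G)) ∧ ⁅Er, Er⁆ = Er ∧ ((Cfsg.pResidual p ↥Er).map (Er).subtype) = Er ∧ Cfsg.IsQuasisimple (↥Er ⧸ (Subgroup.centralizer ((U : Subgroup G) : Set G)).subgroupOf Er) ∧ Cfsg.IsQuasisimple (↥Er ⧸ Cfsg.pCore p ↥Er) ∧ ∀ Y : Subgroup G, Y ≤ E → IsPGroup p ↥Y → ¬ Y ≤ Subgroup.centralizer ((U : Subgroup G) : Set G) → ⁅Er, Y⁆ = Er := by
  set C := Subgroup.centralizer (U : Set G) with hCdef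
  have hwc : Large.PWC p Q := Large.pwc_of_large hQp hQ1 hQ
  have hUp : IsPGroup p ↥U := fun v => ⟨1, Subtype.ext (by simpa using hU.2 v v.2)⟩
  have hCQ : C ≤ Subgroup.normalizer (Q : Set G) :=
    Large.centralizer_le_normalizer_of_large hQp hQ hUp hU1 (hQE.trans hEU)
  set W := Cfsg.weakClosure Q E with hW
  have hEr' : Er = Cfsg.pResidualOf p W := hEr
  have hWE : W ≤ E := Large.weakClosure_le E
  have hQW : Q ≤ W := Large.le_weakClosure hQE
  have hErW : Er ≤ W := hEr' ▸ res_le W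
  have hErE : Er ≤ E := hErW.trans hWE
  have hEW : E ≤ Subgroup.normalizer (W : Set G) := le_normalizer_weakClosure
  have hEEr : E ≤ Subgroup.normalizer (Er : Set G) := hEr' ▸ hEW.trans (normalizer_le W)
  have hQEr : Q ≤ Subgroup.normalizer (Er : Set G) := hQE.trans hEEr
  have hErQ : ⁅Er, Q⁆ = Er := hEr' ▸ commutator_res hwc hQp hQE
  have hres2 : Cfsg.pResidualOf p Er = Er := by
    refine le_antisymm (res_le Er) ?_
    conv_lhs => rw [hEr']
    exact res_le_of_pow fun x hx => exists_pow_mem (hEr' ▸ hx)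
  set N := C.subgroupOf E with hN
  set π := QuotientGroup.mk' N with hπ
  have hker : π.ker = N := QuotientGroup.ker_mk' N
  set R := ((Cfsg.pResidual p ↥E) ⊔ N).map π with hR
  have hR' : R = Cfsg.pResidual p (↥E ⧸ N) := by
    rw [hR, Subgroup.map_sup, ← PResidual.map_pResidual (QuotientGroup.mk'_surjective N), sup_eq_left]
    rw [(Subgroup.map_eq_bot_iff N).mpr hker.ge]
    exact bot_le
  haveI hRn : R.Normal := hR' ▸ PResidual.pResidual_normal
  have hpow : ∀ x : ↥E ⧸ N, ∃ k : ℕ, x ^ p ^ k ∈ R := fun x => hR' ▸ PResidual.pow_mem_pResidual x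
  set Qb := (Q.subgroupOf E).map π
  set Wb := (W.subgroupOf E).map π
  set Eb := (Er.subgroupOf E).map π with hEb
  have hQbp : IsPGroup p ↥Qb := (hQp.comap_of_injective E.subtype E.subtype_injective).map π
  haveI hWbn : Wb.Normal := Subgroup.Normal.map (Subgroup.normal_subgroupOf_of_le_normalizer hEW) π (QuotientGroup.mk'_surjective N)
  haveI hEbn : Eb.Normal := Subgroup.Normal.map (Subgroup.normal_subgroupOf_of_le_normalizer hEEr) π (QuotientGroup.mk'_surjective N)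
  have hQb1 : Qb ≠ ⊥ := by
    intro h
    rw [Subgroup.map_eq_bot_iff, hker] at h
    have hQC : Q ≤ C := fun q hq => h (show (⟨q, hQE hq⟩ : ↥E) ∈ Q.subgroupOf E from hq)
    exact hQn (hEU.trans (hQ.2 U (Subgroup.le_centralizer_iff.mp hQC) hU1))
  have hRWb : R ≤ Wb := by
    conv_lhs => rw [← comm_eq_self hqs hpow hred hQbp hQb1]
    exact (Subgroup.commutator_mono le_rfl (Subgroup.map_mono (Subgroup.comap_mono hQW))).trans (Subgroup.commutator_le_right R Wb)
  have hWQ : W ≤ Er ⊔ Q := by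
    rw [sup_comm, hEr']
    exact weakClosure_le_sup hwc hQp hQE
  have hWb : Wb ≤ Eb ⊔ Qb := by
    rw [← Subgroup.map_sup]
    refine Subgroup.map_mono ?_
    rw [← Subgroup.subgroupOf_sup hErE hQE]
    exact Subgroup.comap_mono hWQ
  have hEbR : Eb = R := by
    refine le_antisymm ?_ ?_
    · refine Subgroup.map_mono (le_trans ?_ le_sup_left)
      intro x hx
      have h1 : (x : G) ∈ Cfsg.pResidualOf p E := res_mono hWE (hEr' ▸ hx)
      obtain ⟨y, hy, e⟩ := h1
      rwa [← Subtype.ext (e : (y : G) = x)]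
    · conv_lhs => rw [hR']
      refine PResidual.pResidual_le_of_pow fun x => ?_
      obtain ⟨k, hk⟩ := hpow x
      obtain ⟨j, hj⟩ := PResidual.pow_mem_sylow_sup hQbp (H := Eb) (by rw [sup_comm]; exact hWb (hRWb hk))
      exact ⟨k + j, by rw [pow_add, pow_mul]; exact hj⟩
  have h1 : (Cfsg.pResidual p ↥E).map E.subtype ⊔ (E ⊓ C) = Er ⊔ (E ⊓ C) := by
    have e := congrArg (Subgroup.comap π) hEbR.symm
    rw [hR, hEb, Subgroup.comap_map_eq, Subgroup.comap_map_eq, hker, sup_assoc, sup_idem] at e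
    have e2 := congrArg (Subgroup.map E.subtype) e
    rwa [Subgroup.map_sup, Subgroup.map_sup, Subgroup.map_subgroupOf_eq_of_le hErE, hN, Subgroup.subgroupOf_map_subtype, inf_comm] at e2
  have hQC1 : Q ≤ Subgroup.normalizer ((⁅Er, Er⁆ : Subgroup G) : Set G) := fun q hq => by
    refine Local.mem_normalizer_of_map_conj_eq ?_
    rw [Subgroup.map_commutator, Local.map_conj_eq_of_mem_normalizer (hQEr hq)]
  haveI hRperf : Group.IsPerfect ↥R := hqs.1
  have h2 : ⁅Er, Er⁆ = Er := by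
    set D := ⁅Er, Er⁆ with hD
    have hDEr : D ≤ Er := Subgroup.commutator_le.mpr fun a ha b hb => Er.mul_mem (Er.mul_mem (Er.mul_mem ha hb) (Er.inv_mem ha)) (Er.inv_mem hb)
    refine le_antisymm hDEr ?_
    have hb : (Er.subgroupOf E).map π ≤ (D.subgroupOf E).map π := by
      rw [← hEb, hEbR, ← (Subgroup.commutator_eq_self (H := R)), ← hEbR, hEb, ← Subgroup.map_commutator]
      refine Subgroup.map_mono (Subgroup.commutator_le.mpr fun a ha b hb => ?_)
      exact Subgroup.commutator_mem_commutator (ha : (a : G) ∈ Er) (hb : (b : G) ∈ Er)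
    have hle : Er ≤ D ⊔ (Q ⊓ Er) := by
      conv_lhs => rw [← hErQ]
      refine Subgroup.commutator_le.mpr fun a ha q hq => ?_
      obtain ⟨d, hd, c, hc, rfl⟩ := map_le_iff_sup hErE (hDEr.trans hErE) hb a ha
      have hcEr : c ∈ Er := by simpa using Er.mul_mem (Er.inv_mem (hDEr hd)) ha
      rw [show ⁅d * c, q⁆ = d * ⁅c, q⁆ * d⁻¹ * ⁅d, q⁆ by simp only [commutatorElement_def]; group]
      have hx : ⁅c, q⁆ ∈ Q ⊓ Er := ⟨Q.mul_mem (Large.conj_mem hCQ hc.2 hq) (Q.inv_mem hq), by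
        rw [commutatorElement_def, show c * q * c⁻¹ * q⁻¹ = c * (q * c⁻¹ * q⁻¹) by group]
        exact Er.mul_mem hcEr (Large.conj_mem hQEr hq (Er.inv_mem hcEr))⟩
      have hy : ⁅d, q⁆ ∈ D := by
        rw [commutatorElement_def, show d * q * d⁻¹ * q⁻¹ = d * (q * d⁻¹ * q⁻¹) by group]
        exact D.mul_mem hd (Large.conj_mem hQC1 hq (D.inv_mem hd))
      exact Subgroup.mul_mem _ (Subgroup.mul_mem _ (Subgroup.mul_mem _ (Subgroup.mem_sup_left hd) (Subgroup.mem_sup_right hx))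
        (Subgroup.mem_sup_left (D.inv_mem hd))) (Subgroup.mem_sup_left hy)
    conv_lhs => rw [← hres2]
    rw [← hres2] at hle
    exact res_le_of_le_sup (inf_le_left.trans hQC1) (hQp.to_le inf_le_left) hle
  let ψ : ↥Er →* ↥E ⧸ N := π.comp (Subgroup.inclusion hErE)
  have hψk : ψ.ker = C.subgroupOf Er := by
    rw [← MonoidHom.comap_ker, hker]
    rfl
  have hψr : ψ.range = R := by
    rw [← hEbR, MonoidHom.range_comp, Subgroup.inclusion_range, hEb]
  have h4 : Cfsg.IsQuasisimple (↥Er ⧸ C.subgroupOf Er) :=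
    isQuasisimple_of_equiv ((QuotientGroup.quotientMulEquivOfEq hψk.symm).trans
      ((QuotientGroup.quotientKerEquivRange ψ).trans (MulEquiv.subgroupCongr hψr))).symm hqs
  set P := Cfsg.pCoreOf p Er with hP
  have hPE : P ≤ Cfsg.pCoreOf p E :=
    Large.le_pCoreOf_of_normal hErE hEEr (Large.pCoreOf_le p Er) (Large.le_normalizer_pCoreOf p Er) ((isPGroup_pCore p).map _)
  have hPC : P ≤ C := by
    intro x hx
    obtain ⟨y, hy, rfl⟩ := hPE hx
    haveI : ((Cfsg.pCore p ↥E).map π).Normal := Subgroup.Normal.map inferInstance π (QuotientGroup.mk'_surjective N)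
    have h := le_pCore (N := (Cfsg.pCore p ↥E).map π) ((isPGroup_pCore p).map π)
    rw [hred, le_bot_iff, Subgroup.map_eq_bot_iff, hker] at h
    exact h hy
  set K := C ⊓ Er with hK
  have hWC : W ≤ Subgroup.normalizer (C : Set G) := (hWE.trans hEU).trans (CharP.normalizer_le_normalizer_centralizer _)
  have hWK : W ≤ Subgroup.normalizer (K : Set G) := Large.le_normalizer_of fun w hw k hk =>
    ⟨Large.conj_mem hWC hw hk.1, Large.conj_mem (hWE.trans hEEr) hw hk.2⟩
  have hWP : W ≤ Subgroup.normalizer (P : Set G) := by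
    intro w hw
    refine Local.mem_normalizer_of_map_conj_eq (Subgroup.eq_of_le_of_card_ge ?_
      (Subgroup.card_map_of_injective (MulEquiv.injective (MulAut.conj w))).ge)
    refine Large.le_pCoreOf_of_normal le_rfl Subgroup.le_normalizer ?_ ?_ (((isPGroup_pCore p).map _).map _)
    · exact Local.map_conj_le fun x hx => Large.conj_mem (hWE.trans hEEr) hw (Large.pCoreOf_le p Er hx)
    · refine Large.le_normalizer_of ?_
      rintro e he _ ⟨x, hx, rfl⟩
      have he' : w⁻¹ * e * w⁻¹⁻¹ ∈ Er := Large.conj_mem (hWE.trans hEEr) (W.inv_mem hw) he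
      refine ⟨w⁻¹ * e * w⁻¹⁻¹ * x * (w⁻¹ * e * w⁻¹⁻¹)⁻¹, Large.conj_mem (Large.le_normalizer_pCoreOf p Er) he' hx, ?_⟩
      show w * _ * w⁻¹ = e * (w * x * w⁻¹) * e⁻¹
      group
  have hA : Q ⊓ K ≤ P := by
    refine le_trans ?_ (Large.le_pCoreOf_of_normal (inf_le_right : K ≤ Er) (hErW.trans hWK) (Large.pCoreOf_le p K)
      (Large.le_normalizer_pCoreOf p K) ((isPGroup_pCore p).map _))
    exact Large.le_pCoreOf_of_normal le_rfl Subgroup.le_normalizer inf_le_right
      (Large.le_normalizer_of fun k hk x hx => ⟨Large.conj_mem hCQ hk.1 hx.1, K.mul_mem (K.mul_mem hk hx.2) (K.inv_mem hk)⟩)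
      (hQp.to_le inf_le_left)
  have hQS : Q ≤ Large.stab W K P hWK hWP := fun q hq => ⟨hQW hq, fun k hk => hA ⟨by
      rw [show q * k * q⁻¹ * k⁻¹ = q * (k * q⁻¹ * k⁻¹) by group]
      exact Q.mul_mem hq (Large.conj_mem hCQ hk.1 (Q.inv_mem hq)),
    K.mul_mem (Large.conj_mem hWK (hQW hq) hk) (K.inv_mem hk)⟩⟩
  have hWS : W ≤ Large.stab W K P hWK hWP := iSup_le fun g => by
    obtain ⟨k, hk, e⟩ := Large.conj_of_pwc hwc hQp hQW (Large.conj_le_weakClosure g.2)
    rw [e]
    exact Local.map_conj_le fun q hq => Large.stab_conj hWK hWP hk (hQS hq)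
  have hKP : ∀ k ∈ K, ∀ a ∈ Er, a * k * a⁻¹ * k⁻¹ ∈ P := fun k hk a ha => (hWS (hErW ha)).2 k hk
  haveI hErperf : Group.IsPerfect ↥Er := Subgroup.isPerfect_iff.mpr h2
  have hPn : Cfsg.pCore p ↥Er ≤ C.subgroupOf Er := fun x hx => hPC ⟨x, hx, rfl⟩
  have h5 : Cfsg.IsQuasisimple (↥Er ⧸ Cfsg.pCore p ↥Er) := by
    haveI : Group.IsPerfect (↥Er ⧸ Cfsg.pCore p ↥Er) :=
      Group.IsPerfect.ofSurjective (f := QuotientGroup.mk' _) (QuotientGroup.mk'_surjective _)
    haveI : ((C.subgroupOf Er).map (QuotientGroup.mk' (Cfsg.pCore p ↥Er))).Normal :=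
      Subgroup.Normal.map hn2 _ (QuotientGroup.mk'_surjective _)
    refine Comp.quasisimple_of_central_quotient inferInstance ((C.subgroupOf Er).map (QuotientGroup.mk' (Cfsg.pCore p ↥Er))) ?_
      (isQuasisimple_of_equiv (QuotientGroup.quotientQuotientEquivQuotient _ _ hPn).symm h4)
    rintro _ ⟨k, hk, rfl⟩
    rw [Subgroup.mem_center_iff]
    intro a
    obtain ⟨a, rfl⟩ := QuotientGroup.mk'_surjective _ a
    have h6 : a * k * a⁻¹ * k⁻¹ ∈ Cfsg.pCore p ↥Er := by
      obtain ⟨y, hy, e⟩ := hKP k ⟨hk, k.2⟩ a a.2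
      rwa [← show y = a * k * a⁻¹ * k⁻¹ from Subtype.ext e]
    have h7 := (QuotientGroup.eq_one_iff (N := Cfsg.pCore p ↥Er) _).mpr h6
    rw [← QuotientGroup.mk'_apply, map_mul, map_mul, map_mul, map_inv, map_inv, mul_inv_eq_one, mul_inv_eq_iff_eq_mul] at h7
    exact h7
  refine ⟨h1, h2, hres2, h4, h5, fun Y hYE hYp hYC => ?_⟩
  set D := ⁅Er, Y⁆ with hD
  have hYEr : Y ≤ Subgroup.normalizer (Er : Set G) := hYE.trans hEEr
  have hDEr : D ≤ Er := Subgroup.commutator_le.mpr fun a ha y hy => by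
    rw [commutatorElement_def, show a * y * a⁻¹ * y⁻¹ = a * (y * a⁻¹ * y⁻¹) by group]
    exact Er.mul_mem ha (Large.conj_mem hYEr hy (Er.inv_mem ha))
  refine le_antisymm hDEr ?_
  set Yb := (Y.subgroupOf E).map π with hYb
  have hYb1 : Yb ≠ ⊥ := by
    rw [hYb, ne_eq, Subgroup.map_eq_bot_iff, hker]
    exact fun h => hYC fun y hy => h (show (⟨y, hYE hy⟩ : ↥E) ∈ Y.subgroupOf E from hy)
  have hb : (Er.subgroupOf E).map π ≤ (D.subgroupOf E).map π := by
    rw [← hEb, hEbR, ← comm_eq_self hqs hpow hred ((hYp.comap_of_injective E.subtype E.subtype_injective).map π) hYb1,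
      ← hEbR, hEb, ← Subgroup.map_commutator]
    refine Subgroup.map_mono (Subgroup.commutator_le.mpr fun a ha b hb => ?_)
    exact Subgroup.commutator_mem_commutator (ha : (a : G) ∈ Er) (hb : (b : G) ∈ Y)
  have hErD : Er ≤ Subgroup.normalizer (D : Set G) := Subgroup.normalizer_commutator_ge_left Er Y
  have hle : Er ≤ D ⊔ P := by
    conv_lhs => rw [← h2]
    refine Subgroup.commutator_le.mpr fun a ha e he => ?_
    obtain ⟨d, hd, c, hc, rfl⟩ := map_le_iff_sup hErE (hDEr.trans hErE) hb a ha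
    have hcEr : c ∈ Er := by simpa using Er.mul_mem (Er.inv_mem (hDEr hd)) ha
    rw [show ⁅d * c, e⁆ = d * (e * c * e⁻¹ * c⁻¹)⁻¹ * d⁻¹ * ⁅d, e⁆ by simp only [commutatorElement_def]; group]
    have hy : ⁅d, e⁆ ∈ D := by
      rw [commutatorElement_def, show d * e * d⁻¹ * e⁻¹ = d * (e * d⁻¹ * e⁻¹) by group]
      exact D.mul_mem hd (Large.conj_mem hErD he (D.inv_mem hd))
    exact Subgroup.mul_mem _ (Subgroup.mul_mem _ (Subgroup.mul_mem _ (Subgroup.mem_sup_left hd)
      (Subgroup.mem_sup_right (P.inv_mem (hKP c ⟨hc.2, hcEr⟩ e he)))) (Subgroup.mem_sup_left (D.inv_mem hd))) (Subgroup.mem_sup_left hy)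
  conv_lhs => rw [← hres2]
  exact res_le_of_le_sup ((Large.pCoreOf_le p Er).trans hErD) ((isPGroup_pCore p).map _) ((res_le Er).trans hle)

end Cfsg.Agent.S2860
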