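import Cfsg.Statements.S2815
import Mathlib
import Cfsg.Agent.S2860
import Cfsg.Agent.Lib.Components
import Cfsg.Agent.Lib.PResidual

set_option autoImplicit false
set_option linter.unusedVariables false
open Cfsg
open scoped commutatorElement

namespace Cfsg.Agent.S2815

open CfsgLib

/-- Let H be a finite group and p a prime dividing its order with O_p(H) = 1, and suppose K = O^p(H) (generated by the elements of order prime to p) is quasisimple. Then K = F*(H); for every nontrivial p-subgroup Y of H, K = [K, Y] and K lies in the subgroup generated by the K-conjugates of Y; every normal subgroup of H not containing K has order prime to p; and H is p-irreducible. -/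
theorem result {H : Type*} [Group H] [Finite H] {p : ℕ} [Fact p.Prime] (hp : p ∣ Nat.card H) (hO : Cfsg.pCore p H = ⊥) (hq : Cfsg.IsQuasisimple ↥(Cfsg.pResidual p H)) : Cfsg.pResidual p H = Cfsg.generalizedFittingSubgroup H ∧ (∀ Y : Subgroup H, IsPGroup p ↥Y → Y ≠ ⊥ → ⁅Cfsg.pResidual p H, Y⁆ = Cfsg.pResidual p H ∧ Cfsg.pResidual p H ≤ ⨆ k : ↥(Cfsg.pResidual p H), Y.map (MulAut.conj (k : H)).toMonoidHom) ∧ (∀ C : Subgroup H, C.Normal → ¬ Cfsg.pResidual p H ≤ C → (Nat.card ↥C).Coprime p) ∧ Cfsg.IsPIrreducible p H := by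
  set K := Cfsg.pResidual p H
  haveI hKn : K.Normal := PResidual.pResidual_normal
  have hpow : ∀ x : H, ∃ k : ℕ, x ^ p ^ k ∈ K := fun x => PResidual.pow_mem_pResidual x
  have hcop : ∀ x ∈ Subgroup.centralizer (K : Set H), (orderOf x).Coprime p := by
    intro x hx
    by_contra h
    have hd : p ∣ orderOf x := by
      by_contra hd
      exact h (Nat.Coprime.symm ((Fact.out : p.Prime).coprime_iff_not_dvd.mpr hd))
    set y := x ^ (orderOf x / p)
    have hy : orderOf y = p := orderOf_pow_orderOf_div (orderOf_pos x).ne' hd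
    have hY := Cfsg.Agent.S2860.eq_bot_of_commute hpow hO
      (Y := Subgroup.zpowers y) (IsPGroup.of_card (n := 1) (by rw [Nat.card_zpowers, hy, pow_one]))
      (Subgroup.zpowers_le.mpr (Subgroup.pow_mem _ hx _))
    rw [Subgroup.zpowers_eq_bot, ← orderOf_eq_one_iff, hy] at hY
    exact (Fact.out : p.Prime).one_lt.ne' hY
  have hCK : Subgroup.centralizer (K : Set H) ≤ K := fun x hx => by
    obtain ⟨k, hk⟩ := hpow x
    exact PResidual.mem_of_pow_mem (hcop x hx) hk
  have hcomp : Cfsg.IsComponent K := ⟨hKn.isSubnormal, hq⟩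
  have hnormal : ∀ C : Subgroup H, C.Normal → ¬ K ≤ C → (Nat.card ↥C).Coprime p := by
    intro C hC hKC
    haveI := hC
    have hCc : C ≤ Subgroup.centralizer (K : Set H) := by
      haveI : (C.subgroupOf K).Normal := inferInstance
      rcases quasisimple_normal_le_center_or_eq_top hq (C.subgroupOf K) with h | h
      swap
      · exact absurd (Subgroup.subgroupOf_eq_top.mp h) hKC
      have h1 : ⁅⁅C, K⁆, K⁆ = ⊥ := by
        rw [Subgroup.commutator_eq_bot_iff_le_centralizer]
        intro d hd
        have hdK : d ∈ K := Subgroup.commutator_le_right C K hd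
        have hdC : d ∈ C := Subgroup.commutator_le_left C K hd
        refine Subgroup.mem_centralizer_iff.mpr fun r hr => ?_
        exact congrArg Subtype.val (Subgroup.mem_center_iff.mp (h (show (⟨d, hdK⟩ : ↥K) ∈ C.subgroupOf K from hdC)) ⟨r, hr⟩)
      have h2 : ⁅⁅K, C⁆, K⁆ = ⊥ := by rwa [Subgroup.commutator_comm K C]
      have h3 := Subgroup.commutator_commutator_eq_bot_of_rotate h2 h1
      haveI := hq.1
      rw [Subgroup.commutator_eq_self, Subgroup.commutator_comm, Subgroup.commutator_eq_bot_iff_le_centralizer] at h3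
      exact h3
    refine Nat.Coprime.symm ((Fact.out : p.Prime).coprime_iff_not_dvd.mpr fun hd => ?_)
    obtain ⟨c, hc⟩ := exists_prime_orderOf_dvd_card' p hd
    have h := hcop c (hCc c.2)
    rw [← Subgroup.orderOf_coe] at hc
    rw [hc, Nat.coprime_self] at h
    exact (Fact.out : p.Prime).one_lt.ne' h
  refine ⟨le_antisymm (le_layer hcomp |>.trans layer_le_generalized) (sup_le ?_ ?_), ?_, hnormal, ?_, fun N hN hNc => ?_⟩
  · refine sSup_le fun L hL => ?_
    rcases components_eq_or_commute hcomp hL with h | h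
    · exact h.ge
    · exact (Subgroup.commutator_eq_bot_iff_le_centralizer.mp (by rw [Subgroup.commutator_comm]; exact h)).trans hCK
  · refine (Subgroup.commutator_eq_bot_iff_le_centralizer.mp ?_).trans hCK
    rw [Subgroup.commutator_comm]
    exact component_commutator_fitting hcomp
  · intro Y hY hY1
    have h := Cfsg.Agent.S2860.comm_eq_self hq hpow hO hY hY1
    refine ⟨h, ?_⟩
    conv_lhs => rw [← h]
    refine Subgroup.commutator_le.mpr fun k hk y hy => ?_
    rw [commutatorElement_def]
    refine Subgroup.mul_mem _ (le_iSup (fun k : ↥K => Y.map (MulAut.conj (k : H)).toMonoidHom) ⟨k, hk⟩ ⟨y, hy, rfl⟩) (Subgroup.inv_mem _ ?_)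
    exact le_iSup (fun k : ↥K => Y.map (MulAut.conj (k : H)).toMonoidHom) 1 ⟨y, hy, by simp⟩
  · intro h
    obtain ⟨P⟩ : Nonempty (Sylow p H) := inferInstance
    have h1 := PResidual.le_pCore_of_isPClosed h P.2
    rw [hO, le_bot_iff] at h1
    exact P.ne_bot_of_dvd_card hp h1
  · by_contra hle
    refine hNc fun P => ?_
    have : (P : Subgroup ↥N) = ⊥ := Subgroup.eq_bot_of_card_eq _ (by
      rw [Sylow.card_eq_multiplicity, Nat.factorization_eq_zero_of_not_dvd ((Fact.out : p.Prime).coprime_iff_not_dvd.mp (hnormal N hN hle).symm), pow_zero])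
    rw [this]; infer_instance

end Cfsg.Agent.S2815
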