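import Cfsg.Statements.S2816
import Mathlib
import Cfsg.Agent.S2812

set_option autoImplicit false
set_option linter.unusedVariables false
open Cfsg
open scoped commutatorElement

namespace Cfsg.Agent.S2816

open CfsgLib
open scoped commutatorElement

variable {H : Type*} [Group H] [Finite H] {p : ℕ} [Fact p.Prime]

/-- `F*(K) = F*(H) ∩ K` for subnormal `K`. -/
theorem gfit_inf_subnormal {K : Subgroup H} (hK : K.IsSubnormal) :
    Cfsg.generalizedFittingSubgroup H ⊓ K = (Cfsg.generalizedFittingSubgroup ↥K).map K.subtype := by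
  induction hK with
  | top => exact Comp.gfit_inf_normal ⊤
  | step A B hAB _ hn ih =>
    haveI := hn
    have h1 := Comp.gfit_inf_normal (A.subgroupOf B)
    have h2 := congrArg (Subgroup.map B.subtype) h1
    rw [Subgroup.map_inf _ _ _ B.subtype_injective, ← ih, Subgroup.map_subgroupOf_eq_of_le hAB, inf_assoc,
      inf_eq_right.mpr hAB] at h2
    rw [h2, ← map_generalizedFittingSubgroup_equiv (Subgroup.subgroupOfEquivOfLe hAB), Subgroup.map_map, Subgroup.map_map]
    rfl

/-- The coprime-like decomposition for subnormal subgroups inside `F*(H)`. -/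
theorem decomp (hO : Cfsg.pCore p H = ⊥) {Y L : Subgroup H} (hY : IsPGroup p ↥Y)
    (hLW : L ≤ Cfsg.generalizedFittingSubgroup H) (hL : L.IsSubnormal) (hYL : Y ≤ Subgroup.normalizer (L : Set H)) :
    ⁅L, Y⁆ ⊔ (L ⊓ Subgroup.centralizer (Y : Set H)) = L ∧ ⁅L, Y⁆ = ⁅⁅L, Y⁆, Y⁆ := by
  refine Cfsg.Agent.S2812.result (⊤ : Subgroup H) ?_ Y hY (by rw [Subgroup.normalizer_eq_top]; exact le_top) L
    (by rw [← Comp.gfit_inf_normal (⊤ : Subgroup H), inf_top_eq]; exact hLW) hL.subgroupOf hYL
  have h := map_pCore_le p (⊤ : Subgroup H)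
  rw [hO, le_bot_iff, Subgroup.map_eq_bot_iff_of_injective _ (Subgroup.subtype_injective _)] at h
  exact h

theorem le_normalizer_of_normal' (W : Subgroup H) [W.Normal] (A : Subgroup H) : A ≤ Subgroup.normalizer (W : Set H) := by
  rw [Subgroup.normalizer_eq_top]; exact le_top

/-- Let H be a finite group and p a prime with O_p(H) = 1, and Y a p-subgroup of H. Then for every subnormal subgroup K of H containing Y, [F*(H), Y] = [F*(K), Y] = [F*(K), Y, Y]; and if Y₀ ≤ Y with [F*(H), Y, Y₀] = 1 then Y₀ = 1 (in particular [F*(H), Y] = 1 forces Y = 1). -/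
theorem result {H : Type*} [Group H] [Finite H] {p : ℕ} [Fact p.Prime] (hO : Cfsg.pCore p H = ⊥) (Y : Subgroup H) (hY : IsPGroup p ↥Y) : (∀ K : Subgroup H, K.IsSubnormal → Y ≤ K → ⁅Cfsg.generalizedFittingSubgroup H, Y⁆ = ⁅(Cfsg.generalizedFittingSubgroup ↥K).map K.subtype, Y⁆ ∧ ⁅(Cfsg.generalizedFittingSubgroup ↥K).map K.subtype, Y⁆ = ⁅⁅(Cfsg.generalizedFittingSubgroup ↥K).map K.subtype, Y⁆, Y⁆) ∧ (∀ Y₀ : Subgroup H, Y₀ ≤ Y → ⁅⁅Cfsg.generalizedFittingSubgroup H, Y⁆, Y₀⁆ = ⊥ → Y₀ = ⊥) := by
  set W := Cfsg.generalizedFittingSubgroup H with hW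
  haveI : W.Normal := inferInstance
  obtain ⟨hdec, hDD⟩ := decomp hO hY le_rfl (Subgroup.Normal.isSubnormal (H := W) inferInstance) (le_normalizer_of_normal' W Y)
  set D := ⁅W, Y⁆ with hD
  refine ⟨fun K hK hYK => ?_, fun Y₀ hY₀ h0 => ?_⟩
  · set F := (Cfsg.generalizedFittingSubgroup ↥K).map K.subtype with hF
    have hFeq : W ⊓ K = F := gfit_inf_subnormal hK
    have hDK : D ≤ K := by
      have key : ∀ M : Subgroup H, M.IsSubnormal → Y ≤ M → D ≤ M := by
        intro M hM
        induction hM with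
        | top => exact fun _ => le_top
        | step A B hAB _ hn ih =>
          intro hYA
          rw [hDD]
          refine (Subgroup.commutator_mono (ih (hYA.trans hAB)) hYA).trans ?_
          rw [Subgroup.commutator_comm]
          exact CfsgLib.commutator_le_of_le_normalizer ((Subgroup.normal_subgroupOf_iff_le_normalizer hAB).mp hn)
      exact key K hK hYK
    have hDW : D ≤ W := CfsgLib.commutator_le_of_le_normalizer (le_normalizer_of_normal' W Y)
    have heq : ⁅F, Y⁆ = D := by
      refine le_antisymm (Subgroup.commutator_mono (hFeq ▸ inf_le_left) le_rfl) ?_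
      rw [hDD, ← hFeq]
      exact Subgroup.commutator_mono (le_inf hDW hDK) le_rfl
    exact ⟨heq.symm, by rw [heq]; exact hDD⟩
  · have hY0W : Y₀ ≤ Subgroup.centralizer (W : Set H) := by
      have h1 : W ≤ Subgroup.centralizer (Y₀ : Set H) := by
        refine le_trans hdec.ge ?_
        exact sup_le (Subgroup.commutator_eq_bot_iff_le_centralizer.mp h0)
          (inf_le_right.trans (Subgroup.centralizer_le hY₀))
      exact Subgroup.le_centralizer_iff.mp h1
    have hY0p : IsPGroup p ↥Y₀ := hY.to_le hY₀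
    have hY0Z : Y₀ ≤ W ⊓ Subgroup.centralizer (W : Set H) := le_inf (hY0W.trans centralizer_generalizedFitting_le) hY0W
    set Z := W ⊓ Subgroup.centralizer (W : Set H)
    have hY0n : (Y₀.subgroupOf Z).Normal := ⟨fun n hn g => by
      have : (g : H) * n = n * g := Subgroup.mem_centralizer_iff.mp n.2.2 g g.2.1
      show (g : H) * n * (g : H)⁻¹ ∈ Y₀
      rw [this, mul_inv_cancel_right]; exact hn⟩
    have hsn : Y₀.IsSubnormal := Subgroup.IsSubnormal.step _ _ hY0Z (Subgroup.Normal.isSubnormal inferInstance) hY0n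
    exact le_bot_iff.mp (hO ▸ isSubnormal_isPGroup_le_pCore hsn hY0p)

end Cfsg.Agent.S2816
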