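import Cfsg.Statements.S2817
import Mathlib
import Cfsg.Agent.S2816
import Cfsg.Agent.Lib.CoprimeAbelian
import Cfsg.Agent.Lib.AbelianTrace
import Cfsg.Agent.Lib.Solvable.Frattini

set_option autoImplicit false
set_option linter.unusedVariables false
open Cfsg
open scoped commutatorElement

namespace Cfsg.Agent.S2817

open CfsgLib
open scoped commutatorElement Pointwise

variable {H : Type*} [Group H] [Finite H] {p : ℕ} [Fact p.Prime]

omit [Finite H] in
theorem normalizer_le_normalizer_centralizer' (A : Subgroup H) :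
    Subgroup.normalizer (A : Set H) ≤ Subgroup.normalizer (Subgroup.centralizer (A : Set H) : Set H) := by
  intro g hg
  have key : ∀ g ∈ Subgroup.normalizer (A : Set H), ∀ x ∈ Subgroup.centralizer (A : Set H), g * x * g⁻¹ ∈ Subgroup.centralizer (A : Set H) := by
    intro g hg x hx
    refine Subgroup.mem_centralizer_iff.mpr fun a ha => ?_
    have := Subgroup.mem_centralizer_iff.mp hx _ ((Subgroup.mem_normalizer_iff.mp (Subgroup.inv_mem _ hg) a).mp ha)
    calc a * (g * x * g⁻¹) = g * (g⁻¹ * a * g⁻¹⁻¹ * x) * g⁻¹ := by group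
      _ = g * (x * (g⁻¹ * a * g⁻¹⁻¹)) * g⁻¹ := by rw [this]
      _ = g * x * g⁻¹ * a := by group
  refine Subgroup.mem_normalizer_iff.mpr fun x => ⟨key g hg x, fun hx => ?_⟩
  simpa [mul_assoc] using key g⁻¹ (Subgroup.inv_mem _ hg) _ hx

theorem not_dvd_card_nilpotent (hO : Cfsg.pCore p H = ⊥) {A : Subgroup H} (hA : A.IsSubnormal) [Group.IsNilpotent ↥A] :
    ¬ p ∣ Nat.card A := by
  intro hd
  obtain ⟨g, hg⟩ := exists_prime_orderOf_dvd_card' p hd
  obtain ⟨Q, hQ⟩ := (IsPGroup.of_card (n := 1) (by rw [Nat.card_zpowers, hg, pow_one]) :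
    IsPGroup p ↥(Subgroup.zpowers g)).exists_le_sylow
  have h3 : ∀ (p : ℕ) (_hp : Fact p.Prime) (P : Sylow p ↥A), (P : Subgroup ↥A).Normal :=
    ((Group.isNilpotent_of_finite_tfae (G := ↥A)).out 0 3).mp ‹Group.IsNilpotent ↥A›
  have h1 := isSubnormal_isPGroup_le_pCore ((h3 p inferInstance Q).isSubnormal.trans' hA) (Q.2.map A.subtype)
  rw [hO] at h1
  have := Subgroup.mem_bot.mp (h1 ⟨g, hQ (Subgroup.mem_zpowers g), rfl⟩)
  rw [show g = 1 from Subtype.ext this, orderOf_one] at hg
  exact (Fact.out : p.Prime).ne_one hg.symm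

/-- Let H be a finite group and p a prime with O_p(H) = 1, Q a p-subgroup of H, L = [F*(H), Q], and F the largest normal subgroup of F*(H) centralized by Q (a normal subgroup of F*(H) centralized by Q and containing every such). Then F = C_{F*(H)}(LQ); L = [L, Q]; L ∩ F ≤ Φ(L); every p-subgroup B of N_H(Q) with [L, B] ≤ F satisfies [L, B] = 1; and C_H(FL) has order prime to p. -/
theorem result {H : Type*} [Group H] [Finite H] {p : ℕ} [Fact p.Prime] (hO : Cfsg.pCore p H = ⊥) (Q : Subgroup H) (hQ : IsPGroup p ↥Q) (L : Subgroup H) (hL : L = ⁅Cfsg.generalizedFittingSubgroup H, Q⁆) (F : Subgroup H) (hF : F ≤ Cfsg.generalizedFittingSubgroup H ∧ Cfsg.generalizedFittingSubgroup H ≤ Subgroup.normalizer (F : Set H) ∧ Q ≤ Subgroup.centralizer (F : Set H) ∧ ∀ N : Subgroup H, N ≤ Cfsg.generalizedFittingSubgroup H → Cfsg.generalizedFittingSubgroup H ≤ Subgroup.normalizer (N : Set H) → Q ≤ Subgroup.centralizer (N : Set H) → N ≤ F) : F = Cfsg.generalizedFittingSubgroup H ⊓ Subgroup.centralizer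 ((L ⊔ Q : Subgroup H) : Set H) ∧ ⁅L, Q⁆ = L ∧ L ⊓ F ≤ (frattini ↥L).map L.subtype ∧ (∀ B : Subgroup H, IsPGroup p ↥B → B ≤ Subgroup.normalizer (Q : Set H) → ⁅L, B⁆ ≤ F → ⁅L, B⁆ = ⊥) ∧ (Nat.card ↥(Subgroup.centralizer ((F ⊔ L : Subgroup H) : Set H))).Coprime p := by
  classical
  obtain ⟨hFW, hWF, hQF, hFmax⟩ := hF
  set W := Cfsg.generalizedFittingSubgroup H with hW
  haveI : W.Normal := inferInstance
  have hWN : ∀ A : Subgroup H, A ≤ Subgroup.normalizer (W : Set H) := Cfsg.Agent.S2816.le_normalizer_of_normal' W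
  obtain ⟨hdec, hLL⟩ := Cfsg.Agent.S2816.decomp hO hQ le_rfl (Subgroup.Normal.isSubnormal (H := W) inferInstance) (hWN Q)
  rw [← hL] at hdec hLL
  set C := W ⊓ Subgroup.centralizer (Q : Set H) with hC
  have hLW : L ≤ W := hL ▸ CfsgLib.commutator_le_of_le_normalizer (hWN Q)
  have hWL : W ≤ Subgroup.normalizer (L : Set H) := hL ▸ CfsgLib.left_le_normalizer_commutator Q W
  have hQL : Q ≤ Subgroup.normalizer (L : Set H) := hL ▸ CfsgLib.right_le_normalizer_commutator Q W
  have hLsn : L.IsSubnormal := Subgroup.IsSubnormal.step _ _ hLW (Subgroup.Normal.isSubnormal inferInstance)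
    ((Subgroup.normal_subgroupOf_iff_le_normalizer hLW).mpr hWL)
  have hWmul : ∀ w ∈ W, ∃ l ∈ L, ∃ c ∈ C, l * c = w := by
    intro w hw
    have h : ((L : Set H) * (C : Set H)) = ((L ⊔ C : Subgroup H) : Set H) :=
      (Subgroup.coe_mul_of_right_le_normalizer_left L C (inf_le_left.trans hWL)).symm
    exact Set.mem_mul.mp (h.ge (show w ∈ L ⊔ C from hdec.symm ▸ hw))
  have hFQ : ∀ f ∈ F, ∀ q ∈ Q, q * f = f * q := fun f hf q hq => (Subgroup.mem_centralizer_iff.mp (hQF hq) f hf).symm
  have hFL : L ≤ Subgroup.centralizer (F : Set H) := by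
    have h1 : ⁅⁅Q, F⁆, W⁆ = ⊥ := by
      rw [Subgroup.commutator_eq_bot_iff_le_centralizer.mpr hQF, Subgroup.commutator_bot_left]
    have h2 : ⁅⁅F, W⁆, Q⁆ = ⊥ := by
      rw [eq_bot_iff, ← Subgroup.commutator_eq_bot_iff_le_centralizer.mpr (Subgroup.le_centralizer_iff.mp hQF :
        F ≤ Subgroup.centralizer (Q : Set H))]
      refine Subgroup.commutator_mono ?_ le_rfl
      exact CfsgLib.commutator_le_of_le_normalizer hWF
    have h3 := Subgroup.commutator_commutator_eq_bot_of_rotate (H₁ := W) (H₂ := Q) (H₃ := F) h1 h2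
    rw [← hL, Subgroup.commutator_eq_bot_iff_le_centralizer] at h3
    exact h3
  have hN : ∀ N : Subgroup H, N ≤ C → L ≤ Subgroup.centralizer (N : Set H) →
      C ≤ Subgroup.normalizer (N : Set H) → N ≤ F := by
    intro N hNC hLN hCN
    refine hFmax N (hNC.trans inf_le_left) ?_ (Subgroup.le_centralizer_iff.mp (hNC.trans inf_le_right))
    refine le_trans hdec.ge ?_
    exact sup_le (hLN.trans (Comp.centralizer_le_normalizer' N)) hCN
  have hFeq : F = W ⊓ Subgroup.centralizer ((L ⊔ Q : Subgroup H) : Set H) := by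
    refine le_antisymm (le_inf hFW (Subgroup.le_centralizer_iff.mp (sup_le hFL hQF))) (hN _ ?_ ?_ ?_)
    · exact inf_le_inf_left _ (Subgroup.centralizer_le (SetLike.coe_subset_coe.mpr le_sup_right))
    · exact Subgroup.le_centralizer_iff.mp (inf_le_right.trans (Subgroup.centralizer_le (SetLike.coe_subset_coe.mpr le_sup_left)))
    · refine le_trans (le_inf (hWN C) ?_) (fun c hc => Subgroup.mem_normalizer_iff.mpr fun x =>
        and_congr (Subgroup.mem_normalizer_iff.mp hc.1 x) (Subgroup.mem_normalizer_iff.mp hc.2 x))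
      refine le_trans ?_ (normalizer_le_normalizer_centralizer' _)
      exact (le_inf (inf_le_left.trans hWL) (inf_le_right.trans (Comp.centralizer_le_normalizer' Q))).trans
        (Subgroup.normalizer_inf_normalizer_le_normalizer_sup L Q)
  have hLQ : ⁅L, Q⁆ = L := hLL.symm
  refine ⟨hFeq, hLQ, ?_⟩
  have hZc : ∀ z ∈ L ⊓ F, ∀ l ∈ L, l * z = z * l := fun z hz l hl => (Subgroup.mem_centralizer_iff.mp (hFL hl) z hz.2).symm
  set L' := ⁅L, L⁆ with hL'
  haveI : ((L').subgroupOf L).Normal := by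
    rw [Subgroup.normal_subgroupOf_iff_le_normalizer (CfsgLib.commutator_le_of_le_normalizer Subgroup.le_normalizer)]
    exact CfsgLib.left_le_normalizer_commutator L L
  have hab : ¬ p ∣ L'.relIndex L := by
    have hgf : Cfsg.generalizedFittingSubgroup ↥L = ⊤ := by
      refine Subgroup.map_injective L.subtype_injective ?_
      rw [← Cfsg.Agent.S2816.gfit_inf_subnormal hLsn, inf_eq_right.mpr hLW, ← MonoidHom.range_eq_map, Subgroup.range_subtype]
    have hlay : Cfsg.layer ↥L ≤ L'.subgroupOf L := sSup_le fun K hK => by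
      rw [← isComponent_commutator_self hK]
      intro x hx
      have h1 := Subgroup.mem_map_of_mem L.subtype hx
      rw [Subgroup.map_commutator] at h1
      exact (Subgroup.commutator_mono (Subgroup.map_subtype_le K) (Subgroup.map_subtype_le K)) h1
    set F0 := Cfsg.fittingSubgroup ↥L
    haveI : Group.IsNilpotent ↥F0 := isNilpotent_fittingSubgroup
    haveI : Group.IsNilpotent ↥(F0.map L.subtype) :=
      Group.nilpotent_of_mulEquiv (F0.equivMapOfInjective L.subtype L.subtype_injective)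
    have hnd := not_dvd_card_nilpotent hO ((Subgroup.Normal.isSubnormal (H := F0) inferInstance).trans' hLsn)
    rw [Subgroup.card_map_of_injective L.subtype_injective] at hnd
    intro hd
    refine hnd (hd.trans ?_)
    rw [Subgroup.relIndex, Subgroup.index_eq_card]
    have htop : F0.map (QuotientGroup.mk' (L'.subgroupOf L)) = ⊤ := by
      have := congrArg (Subgroup.map (QuotientGroup.mk' (L'.subgroupOf L))) hgf
      rw [Cfsg.generalizedFittingSubgroup, Subgroup.map_sup, (Subgroup.map_eq_bot_iff _).mpr (hlay.trans (QuotientGroup.ker_mk' _).ge),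
        bot_sup_eq, Subgroup.map_top_of_surjective _ (QuotientGroup.mk'_surjective _)] at this
      exact this
    have := Subgroup.card_map_dvd (H := F0) (QuotientGroup.mk' (L'.subgroupOf L))
    rwa [htop, Subgroup.card_top] at this
  have hZL' : L ⊓ F ≤ L' := by
    set J := L ⊔ Q
    have hJL' : J ≤ Subgroup.normalizer (L' : Set H) := by
      refine sup_le (CfsgLib.left_le_normalizer_commutator L L) fun q hq => ?_
      refine Local.mem_normalizer_of_map_conj_eq (Subgroup.eq_of_le_of_card_ge ?_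
        (Subgroup.card_map_of_injective (f := (MulAut.conj q).toMonoidHom) (MulEquiv.injective (MulAut.conj q))).ge)
      rw [Subgroup.map_commutator]
      have hle : L.map (MulAut.conj q).toMonoidHom ≤ L := by
        rintro _ ⟨v, hv, rfl⟩
        exact (Subgroup.mem_normalizer_iff.mp (hQL hq) v).mp hv
      exact Subgroup.commutator_mono hle hle
    have hL'J : L' ≤ J := (CfsgLib.commutator_le_of_le_normalizer Subgroup.le_normalizer).trans le_sup_left
    haveI : (L'.subgroupOf J).Normal := (Subgroup.normal_subgroupOf_iff_le_normalizer hL'J).mpr hJL'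
    set π := QuotientGroup.mk' (L'.subgroupOf J)
    set V := (L.subgroupOf J).map π
    set A := (Q.subgroupOf J).map π
    haveI : IsMulCommutative ↥V := IsMulCommutative.of_comm fun u v => Subtype.ext (by
      obtain ⟨x, hx, ex⟩ := u.2
      obtain ⟨y, hy, ey⟩ := v.2
      have h : π ⁅x, y⁆ = 1 := (QuotientGroup.eq_one_iff _).mpr
        (show ((⁅x, y⁆ : ↥J) : H) ∈ L' from Subgroup.commutator_mem_commutator hx hy)
      rw [map_commutatorElement, ex, ey] at h
      exact commutatorElement_eq_one_iff_mul_comm.mp h)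
    have hAV : A ≤ Subgroup.normalizer (V : Set _) := by
      rintro _ ⟨q, hq, rfl⟩
      refine Local.mem_normalizer_of_map_conj_eq (Subgroup.eq_of_le_of_card_ge ?_
        (Subgroup.card_map_of_injective (f := (MulAut.conj (π q)).toMonoidHom) (MulEquiv.injective (MulAut.conj (π q)))).ge)
      rintro _ ⟨_, ⟨x, hx, rfl⟩, rfl⟩
      refine ⟨q * x * q⁻¹, (Subgroup.mem_normalizer_iff.mp (hQL hq) (x : H)).mp hx, ?_⟩
      rw [map_mul, map_mul, map_inv]; rfl
    have hVeq : ⁅V, A⁆ = V := by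
      rw [← Subgroup.map_commutator]
      congr 1
      refine Subgroup.map_injective J.subtype_injective ?_
      rw [Subgroup.map_commutator, Subgroup.map_subgroupOf_eq_of_le le_sup_left, Subgroup.map_subgroupOf_eq_of_le le_sup_right, hLQ]
    have hcop : (Nat.card A).Coprime (Nat.card V) := by
      have hA : IsPGroup p ↥A := (hQ.comap_of_injective J.subtype J.subtype_injective).map π
      obtain ⟨k, hk⟩ := IsPGroup.iff_card.mp hA
      rw [hk]
      refine Nat.Coprime.pow_left k ((Fact.out : p.Prime).coprime_iff_not_dvd.mpr fun h => hab (h.trans ?_))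
      set φ := π.comp (Subgroup.inclusion (le_sup_left : L ≤ J))
      have hV : V = φ.range := by
        ext v
        constructor
        · rintro ⟨x, hx, rfl⟩; exact ⟨⟨x, hx⟩, rfl⟩
        · rintro ⟨x, rfl⟩; exact ⟨_, x.2, rfl⟩
      rw [hV, ← Subgroup.index_ker]
      refine Subgroup.index_dvd_of_le fun x hx => ?_
      exact (QuotientGroup.eq_one_iff _).mpr (show (x : H) ∈ L' from hx)
    intro z hz
    have hmem : π ⟨z, (le_sup_left : L ≤ J) hz.1⟩ ∈ (V ⊓ Subgroup.centralizer (A : Set _)) ⊓ ⁅V, A⁆ := by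
      have hzV : π ⟨z, (le_sup_left : L ≤ J) hz.1⟩ ∈ V := ⟨_, hz.1, rfl⟩
      refine ⟨⟨hzV, Subgroup.mem_centralizer_iff.mpr ?_⟩, hVeq.symm ▸ hzV⟩
      rintro _ ⟨q, hq, rfl⟩
      rw [← map_mul, ← map_mul]
      exact congrArg π (Subtype.ext (hFQ z hz.2 q hq))
    rw [coprime_abelian_disjoint A V hAV hcop, Subgroup.mem_bot] at hmem
    exact (QuotientGroup.eq_one_iff (⟨z, (le_sup_left : L ≤ J) hz.1⟩ : ↥J)).mp hmem
  refine ⟨?_, fun B hB hBQ hBF => ?_, ?_⟩
  · intro z hz
    refine ⟨⟨z, hz.1⟩, ?_, rfl⟩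
    set Z0 := (L ⊓ F).subgroupOf L
    refine (CfsgLib.FrattiniLemmas.le_frattini_of_forall (N := Subgroup.zpowers (⟨z, hz.1⟩ : ↥L)) fun M hM =>
      Subgroup.zpowers_le.mpr ?_) (Subgroup.mem_zpowers _)
    by_contra hzM
    have hMZ : M ⊔ Z0 = ⊤ := hM.2 _ (lt_of_le_of_ne le_sup_left fun e => hzM (e ▸ Subgroup.mem_sup_right (show (⟨z, hz.1⟩ : ↥L) ∈ Z0 from hz)))
    have hZ0c : Z0 ≤ Subgroup.center ↥L := fun w hw => Subgroup.mem_center_iff.mpr fun l => Subtype.ext (hZc w hw l l.2)
    haveI : M.Normal := Subgroup.normalizer_eq_top_iff.mp (top_le_iff.mp (hMZ.ge.trans (sup_le Subgroup.le_normalizer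
      fun w hw => by
        rw [Subgroup.mem_normalizer_iff]
        intro m
        rw [← Subgroup.mem_center_iff.mp (hZ0c hw) m, mul_inv_cancel_right])))
    have hcM : L'.subgroupOf L ≤ M := by
      have : commutator ↥L ≤ M := by
        refine Subgroup.Normal.quotient_commutative_iff_commutator_le.mp ?_
        refine ⟨⟨fun a b => ?_⟩⟩
        induction a using QuotientGroup.induction_on with | _ a => ?_
        induction b using QuotientGroup.induction_on with | _ b => ?_
        obtain ⟨m, hm, w, hw, rfl⟩ := Subgroup.mem_sup_of_normal_left.mp (hMZ.ge (Subgroup.mem_top a))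
        rw [QuotientGroup.mk_mul, (QuotientGroup.eq_one_iff m).mpr hm, one_mul, ← QuotientGroup.mk_mul,
          ← QuotientGroup.mk_mul, Subgroup.mem_center_iff.mp (hZ0c hw) b]
      intro x hx
      obtain ⟨y, hy, e⟩ : (x : H) ∈ (commutator ↥L).map L.subtype := (Subgroup.map_subtype_commutator L).symm ▸ hx
      exact Subtype.ext e ▸ this hy
    exact hzM (hcM (hZL' hz))
  · have hBL : B ≤ Subgroup.normalizer (L : Set H) := by
      intro b hb
      refine Local.mem_normalizer_of_map_conj_eq (Subgroup.eq_of_le_of_card_ge ?_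
        (Subgroup.card_map_of_injective (f := (MulAut.conj b).toMonoidHom) (MulEquiv.injective (MulAut.conj b))).ge)
      rw [hL, Subgroup.map_commutator]
      refine Subgroup.commutator_mono ?_ ?_
      · rintro _ ⟨v, hv, rfl⟩
        exact (Subgroup.mem_normalizer_iff.mp (hWN B hb) v).mp hv
      · rintro _ ⟨v, hv, rfl⟩
        exact (Subgroup.mem_normalizer_iff.mp (hBQ hb) v).mp hv
    obtain ⟨hdB, hBB⟩ := Cfsg.Agent.S2816.decomp hO hB hLW hLsn hBL
    have hle : ⁅L, B⁆ ≤ L ⊓ F := le_inf (CfsgLib.commutator_le_of_le_normalizer hBL) hBF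
    refine le_bot_iff.mp (hBB.le.trans ?_)
    rw [le_bot_iff, Subgroup.commutator_eq_bot_iff_le_centralizer]
    refine le_trans (hle.trans hZL') ?_
    rw [hL', Subgroup.commutator_le]
    intro x hx y hy
    refine Subgroup.mem_centralizer_iff.mpr fun b hb => ?_
    -- `b` moves elements of `L` by central elements
    have hmv : ∀ l ∈ L, ∃ z ∈ L ⊓ F, b * l * b⁻¹ = z * l := fun l hl => by
      refine ⟨⁅b, l⁆, ?_, by rw [commutatorElement_def]; group⟩
      rw [← inv_inv ⁅b, l⁆, commutatorElement_inv]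
      exact (L ⊓ F).inv_mem (hle (Subgroup.commutator_mem_commutator hl hb))
    obtain ⟨z1, hz1, e1⟩ := hmv x hx
    obtain ⟨z2, hz2, e2⟩ := hmv y hy
    have key : b * ⁅x, y⁆ * b⁻¹ = ⁅x, y⁆ := by
      have c1 := hZc z1 hz1
      have c2 := hZc z2 hz2
      calc b * ⁅x, y⁆ * b⁻¹ = (b * x * b⁻¹) * (b * y * b⁻¹) * (b * x * b⁻¹)⁻¹ * (b * y * b⁻¹)⁻¹ := by
            rw [commutatorElement_def]; group
        _ = z1 * (x * (z2 * y) * x⁻¹) * z1⁻¹ * y⁻¹ * z2⁻¹ := by rw [e1, e2]; group
        _ = z1 * (x * z2) * y * x⁻¹ * z1⁻¹ * y⁻¹ * z2⁻¹ := by group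
        _ = z1 * (z2 * x) * y * x⁻¹ * z1⁻¹ * y⁻¹ * z2⁻¹ := by rw [c2 x hx]
        _ = (z1 * (z2 * x * y * x⁻¹)) * z1⁻¹ * y⁻¹ * z2⁻¹ := by group
        _ = ((z2 * x * y * x⁻¹) * z1) * z1⁻¹ * y⁻¹ * z2⁻¹ := by
            rw [c1 (z2 * x * y * x⁻¹) (L.mul_mem (L.mul_mem (L.mul_mem hz2.1 hx) hy) (L.inv_mem hx))]
        _ = z2 * ⁅x, y⁆ * z2⁻¹ := by rw [commutatorElement_def]; group
        _ = ⁅x, y⁆ := by
            rw [← c2 ⁅x, y⁆ (CfsgLib.commutator_le_of_le_normalizer (Subgroup.le_normalizer (H := L))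
              (Subgroup.commutator_mem_commutator hx hy)), mul_inv_cancel_right]
    calc b * ⁅x, y⁆ = (b * ⁅x, y⁆ * b⁻¹) * b := by group
      _ = ⁅x, y⁆ * b := by rw [key]
  · rw [Nat.coprime_comm, (Fact.out : p.Prime).coprime_iff_not_dvd]
    intro hd
    set X := Subgroup.centralizer ((F ⊔ L : Subgroup H) : Set H) with hX
    have hQX : Q ≤ Subgroup.normalizer (X : Set H) := by
      refine le_trans ?_ (normalizer_le_normalizer_centralizer' _)
      exact (le_inf (hQF.trans (Comp.centralizer_le_normalizer' F)) hQL).trans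
        (Subgroup.normalizer_inf_normalizer_le_normalizer_sup F L)
    set U := Q ⊔ X
    obtain ⟨R, hR⟩ := (hQ.comap_of_injective U.subtype U.subtype_injective).exists_le_sylow
    have hXn : (X.subgroupOf U).Normal :=
      (Subgroup.normal_subgroupOf_iff_le_normalizer le_sup_right).mpr (sup_le hQX Subgroup.le_normalizer)
    set R0 := ((R : Subgroup ↥U) ⊓ X.subgroupOf U).map U.subtype with hR0
    have hR0ne : R0 ≠ ⊥ := by
      intro e
      rw [hR0, Subgroup.map_eq_bot_iff_of_injective _ U.subtype_injective] at e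
      rw [← Nat.card_congr (Subgroup.subgroupOfEquivOfLe (le_sup_right : X ≤ U)).toEquiv] at hd
      obtain ⟨g, hg⟩ := exists_prime_orderOf_dvd_card' p hd
      obtain ⟨R', hR'⟩ := (IsPGroup.of_card (n := 1) (by rw [Nat.card_zpowers, Subgroup.orderOf_coe, hg, pow_one]) :
        IsPGroup p ↥(Subgroup.zpowers (g : ↥U))).exists_le_sylow
      obtain ⟨u, hu⟩ := MulAction.exists_smul_eq ↥U R' R
      have h1 : u * (g : ↥U) * u⁻¹ ∈ (R : Subgroup ↥U) := by
        rw [← hu, Sylow.coe_subgroup_smul]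
        exact Subgroup.smul_mem_pointwise_smul _ (MulAut.conj u) _ (hR' (Subgroup.mem_zpowers _))
      have h2 : u * (g : ↥U) * u⁻¹ ∈ (R : Subgroup ↥U) ⊓ X.subgroupOf U := ⟨h1, hXn.conj_mem _ g.2 u⟩
      rw [e, Subgroup.mem_bot] at h2
      have h3 : g = 1 := Subtype.ext (by
        calc (g : ↥U) = u⁻¹ * (u * g * u⁻¹) * u := by group
          _ = 1 := by rw [h2]; group)
      rw [h3, orderOf_one] at hg
      exact (Fact.out : p.Prime).ne_one hg.symm
    have hR0p : IsPGroup p ↥R0 := (R.2.to_le inf_le_left).map _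
    have hQR0 : Q ≤ Subgroup.normalizer (R0 : Set H) := by
      intro q hq
      refine Local.mem_normalizer_of_map_conj_eq (Subgroup.eq_of_le_of_card_ge ?_
        (Subgroup.card_map_of_injective (f := (MulAut.conj q).toMonoidHom) (MulEquiv.injective (MulAut.conj q))).ge)
      rintro _ ⟨_, ⟨x, hx, rfl⟩, rfl⟩
      have hqR : (⟨q, Subgroup.mem_sup_left hq⟩ : ↥U) ∈ (R : Subgroup ↥U) := hR hq
      exact ⟨⟨q, Subgroup.mem_sup_left hq⟩ * x * ⟨q, Subgroup.mem_sup_left hq⟩⁻¹,
        ⟨Subgroup.mul_mem _ (Subgroup.mul_mem _ hqR hx.1) (Subgroup.inv_mem _ hqR), hXn.conj_mem x hx.2 _⟩, rfl⟩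
    obtain ⟨z, hz, hz1, hzQ⟩ := AbelianTrace.exists_fixed hR0p hQ hQR0 hR0ne
    have hzX : z ∈ X := by
      obtain ⟨y, hy, e⟩ := hz
      exact e ▸ hy.2
    set Zp := Subgroup.zpowers z
    have hZp : IsPGroup p ↥Zp := hR0p.to_le (Subgroup.zpowers_le.mpr hz)
    have hzL : Zp ≤ Subgroup.centralizer (L : Set H) :=
      Subgroup.zpowers_le.mpr (Subgroup.centralizer_le (le_sup_right : L ≤ F ⊔ L) hzX)
    have hzF : Zp ≤ Subgroup.centralizer (F : Set H) :=
      Subgroup.zpowers_le.mpr (Subgroup.centralizer_le (le_sup_left : F ≤ F ⊔ L) hzX)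
    have hzQ' : Zp ≤ Subgroup.centralizer (Q : Set H) :=
      Subgroup.zpowers_le.mpr (Subgroup.mem_centralizer_iff.mpr hzQ)
    set D := ⁅W, Zp⁆ with hD
    have hDW : D ≤ W := CfsgLib.commutator_le_of_le_normalizer (hWN Zp)
    have hDL : L ≤ Subgroup.centralizer (D : Set H) := by
      have h1 : ⁅⁅Zp, L⁆, W⁆ = ⊥ := by
        rw [Subgroup.commutator_eq_bot_iff_le_centralizer.mpr hzL, Subgroup.commutator_bot_left]
      have h2 : ⁅⁅L, W⁆, Zp⁆ = ⊥ := by
        rw [eq_bot_iff, ← Subgroup.commutator_eq_bot_iff_le_centralizer.mpr (Subgroup.le_centralizer_iff.mp hzL)]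
        exact Subgroup.commutator_mono (CfsgLib.commutator_le_of_le_normalizer hWL) le_rfl
      have h3 := Subgroup.commutator_commutator_eq_bot_of_rotate (H₁ := W) (H₂ := Zp) (H₃ := L) h1 h2
      rw [Subgroup.commutator_eq_bot_iff_le_centralizer] at h3
      exact Subgroup.le_centralizer_iff.mp h3
    have hDC : D ≤ C := by
      rw [hD, Subgroup.commutator_le]
      intro w hw t ht
      obtain ⟨l, hl, c, hc, rfl⟩ := hWmul w hw
      have h1 : ⁅c, t⁆ ∈ C := ⟨hDW (Subgroup.commutator_mem_commutator hc.1 ht), by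
        have a := hc.2
        have b : t ∈ Subgroup.centralizer (Q : Set H) := hzQ' ht
        exact (Subgroup.centralizer (Q : Set H)).mul_mem (Subgroup.mul_mem _ (Subgroup.mul_mem _ a b)
          (Subgroup.inv_mem _ a)) (Subgroup.inv_mem _ b)⟩
      have hlt : l * t = t * l := Subgroup.mem_centralizer_iff.mp (hzL ht) l hl
      have hlc : l * ⁅c, t⁆ = ⁅c, t⁆ * l :=
        (Subgroup.mem_centralizer_iff.mp (hDL hl) _ (Subgroup.commutator_mem_commutator hc.1 ht)).symm
      have : ⁅l * c, t⁆ = ⁅c, t⁆ := by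
        calc ⁅l * c, t⁆ = l * ⁅c, t⁆ * (t * l⁻¹ * t⁻¹) := by simp only [commutatorElement_def]; group
          _ = ⁅c, t⁆ * l * (t * l⁻¹ * t⁻¹) := by rw [hlc]
          _ = ⁅c, t⁆ * ((l * t) * l⁻¹ * t⁻¹) := by group
          _ = ⁅c, t⁆ := by rw [hlt]; group
      rw [this]; exact h1
    have hDF : D ≤ F := hN D hDC hDL (inf_le_left.trans (CfsgLib.left_le_normalizer_commutator Zp W))
    obtain ⟨-, hDD⟩ := Cfsg.Agent.S2816.decomp hO hZp le_rfl (Subgroup.Normal.isSubnormal (H := W) inferInstance) (hWN Zp)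
    have hD1 : D = ⊥ := by
      refine le_bot_iff.mp (hDD.le.trans ?_)
      rw [le_bot_iff, Subgroup.commutator_eq_bot_iff_le_centralizer]
      exact hDF.trans (Subgroup.le_centralizer_iff.mp hzF)
    have h := (Cfsg.Agent.S2816.result hO Zp hZp).2 Zp le_rfl (by rw [← hW, ← hD, hD1, Subgroup.commutator_bot_left])
    exact hz1 (Subgroup.zpowers_eq_bot.mp h)

end Cfsg.Agent.S2817
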