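import Cfsg.Statements.S2818

set_option autoImplicit false
set_option linter.unusedVariables false
open Cfsg
open scoped commutatorElement

namespace Cfsg.Agent.S2818

theorem frattini_le_ker {P Z : Type*} [Group P] [CommGroup Z] [Finite P] {p : ℕ} [hp : Fact p.Prime]
    (f : P →* Z) (hZ : ∀ z : Z, z ^ p = 1) : frattini P ≤ f.ker := by
  intro x hx
  by_contra hfx
  rw [MonoidHom.mem_ker] at hfx
  obtain ⟨W, -, hW⟩ := Finite.exists_le_maximal (p := fun W : Subgroup P => f.ker ≤ W ∧ x ∉ W)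
    (a := f.ker) ⟨le_rfl, by rwa [MonoidHom.mem_ker]⟩
  have hco : IsCoatom W := by
    refine ⟨fun h => hW.1.2 (h ▸ Subgroup.mem_top x), fun V hV => ?_⟩
    have hxV : x ∈ V := by
      by_contra hxV
      exact hV.not_ge (hW.2 ⟨hW.1.1.trans hV.le, hxV⟩ hV.le)
    refine top_le_iff.1 fun y _ => ?_
    by_contra hyV
    haveI : W.Normal := ⟨fun w hw g => by
      have : g * w * g⁻¹ * w⁻¹ ∈ f.ker := by simp
      simpa using W.mul_mem (hW.1.1 this) hw⟩
    have hxin : x ∈ W ⊔ Subgroup.zpowers y := by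
      by_contra hn
      exact hyV (hV.le (hW.2 ⟨hW.1.1.trans le_sup_left, hn⟩ le_sup_left
        (Subgroup.mem_sup_right (Subgroup.mem_zpowers y))))
    rw [Subgroup.mem_sup_of_normal_left] at hxin
    obtain ⟨w, hw, z, ⟨i, rfl⟩, hwz⟩ := hxin
    have hyi : y ^ i ∈ V := by
      have := V.mul_mem (V.inv_mem (hV.le hw)) hxV
      rwa [← hwz, ← mul_assoc, inv_mul_cancel, one_mul] at this
    have hyp : y ^ p ∈ W := hW.1.1 (by rw [MonoidHom.mem_ker, map_pow, hZ])
    by_cases hdvd : (p : ℤ) ∣ i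
    · obtain ⟨j, rfl⟩ := hdvd
      refine hW.1.2 (hwz ▸ W.mul_mem hw ?_)
      simp only [zpow_mul, zpow_natCast]
      exact W.zpow_mem hyp j
    · obtain ⟨a, b, hab⟩ := ((Nat.prime_iff_prime_int.1 hp.1).coprime_iff_not_dvd).2 hdvd
      refine hyV ?_
      have : y = (y ^ p) ^ a * (y ^ i) ^ b := by
        rw [← zpow_natCast, ← zpow_mul, ← zpow_mul, ← zpow_add, mul_comm (p : ℤ), mul_comm i, hab, zpow_one]
      rw [this]
      exact V.mul_mem (V.zpow_mem (hV.le hyp) a) (V.zpow_mem hyi b)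
  exact hW.1.2 (frattini_le_coatom hco hx)

/-- Let P be a finite p-subgroup of a group G and H a subgroup of N_G(P) with [P, H] ≤ Ω₁(Z(P)) (the elements of order dividing p in the centre of P). Then H centralizes the Frattini subgroup of P. -/
theorem result {G : Type*} [Group G] [Finite G] {p : ℕ} [Fact p.Prime] (P : Subgroup G) (hP : IsPGroup p ↥P) (H : Subgroup G) (hH : H ≤ Subgroup.normalizer (P : Set G)) (h : ⁅P, H⁆ ≤ Cfsg.omegaOne p (P ⊓ Subgroup.centralizer (P : Set G))) : ⁅(frattini ↥P).map P.subtype, H⁆ = ⊥ := by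
  set Z := omegaOne p (P ⊓ Subgroup.centralizer (P : Set G)) with hZdef
  have hZC : Z ≤ P ⊓ Subgroup.centralizer (P : Set G) := (Subgroup.closure_le _).2 fun x hx => hx.1
  haveI hcm : IsMulCommutative Z := ⟨⟨fun a b => Subtype.ext ((hZC b.2).2 a (hZC a.2).1)⟩⟩
  have hexp : ∀ z : Z, z ^ p = 1 := by
    intro ⟨z, hz⟩
    refine Subtype.ext ?_
    have : z ^ p = 1 ∧ z ∈ Z := by
      refine Subgroup.closure_induction (p := fun z _ => z ^ p = 1 ∧ z ∈ Z)
        (fun x hx => ⟨hx.2, Subgroup.subset_closure hx⟩) ⟨one_pow p, one_mem _⟩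
        (fun a b _ _ ha hb => ⟨?_, mul_mem ha.2 hb.2⟩) (fun a _ ha => ⟨by rw [inv_pow, ha.1, inv_one], inv_mem ha.2⟩) hz
      have hab : Commute a b := (hZC hb.2).2 a (hZC ha.2).1
      rw [hab.mul_pow, ha.1, hb.1, one_mul]
    exact this.1
  rw [eq_bot_iff, Subgroup.commutator_le]
  rintro _ ⟨r, hr, rfl⟩ k hk
  let f : P →* Z :=
    MonoidHom.mk' (fun r => ⟨⁅(r : G), k⁆, h (Subgroup.commutator_mem_commutator r.2 hk)⟩) fun a b =>
      Subtype.ext (by
        have hc := (hZC (h (Subgroup.commutator_mem_commutator b.2 hk))).2 a a.2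
        simp only [Subgroup.coe_mul]
        calc ⁅(a : G) * b, k⁆ = a * ⁅(b : G), k⁆ * (k * (a : G)⁻¹ * k⁻¹) := by
              simp [commutatorElement_def, mul_assoc]
          _ = ⁅(b : G), k⁆ * ⁅(a : G), k⁆ := by rw [hc]; simp [commutatorElement_def, mul_assoc]
          _ = _ := (hZC (h (Subgroup.commutator_mem_commutator b.2 hk))).2 _
                (hZC (h (Subgroup.commutator_mem_commutator a.2 hk))).1 |>.symm)
  letI : CommGroup Z := { (inferInstance : Group Z) with mul_comm := hcm.1.1 }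
  have := frattini_le_ker f hexp hr
  exact congrArg Subtype.val (MonoidHom.mem_ker.1 this)

end Cfsg.Agent.S2818
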