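import Cfsg.Statements.S2819
import Mathlib
import Cfsg.Agent.Lib.RankFrattini

set_option autoImplicit false
set_option linter.unusedVariables false
open Cfsg
open scoped commutatorElement

namespace Cfsg.Agent.S2819

open CfsgLib
open scoped commutatorElement

/-- Let P be a finite p-subgroup of a group G, H a subgroup of N_G(P), and Y a subgroup of H centralizing the derived subgroup P' such that [P, Y] is elementary abelian. Then O^p(⟨Y^H⟩), the subgroup of the normal closure of Y in H generated by its elements of order prime to p, centralizes the Frattini subgroup of P. -/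
theorem result {G : Type*} [Group G] [Finite G] {p : ℕ} [Fact p.Prime] (P : Subgroup G) (hP : IsPGroup p ↥P) (H : Subgroup G) (hH : H ≤ Subgroup.normalizer (P : Set G)) (Y : Subgroup G) (hYH : Y ≤ H) (hYc : Y ≤ Subgroup.centralizer ((⁅P, P⁆ : Subgroup G) : Set G)) (hel : Cfsg.IsElementaryAbelian p ⁅P, Y⁆) (NY : Subgroup G) (hNY : NY = (Subgroup.normalClosure ((Y.subgroupOf H : Subgroup ↥H) : Set ↥H)).map H.subtype) : (Cfsg.pResidual p ↥NY).map NY.subtype ≤ Subgroup.centralizer (((frattini ↥P).map P.subtype : Subgroup G) : Set G) := by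
  classical
  subst hNY
  set P' := ⁅P, P⁆ with hP'
  have hP'eq : (commutator ↥P).map P.subtype = P' := Subgroup.map_subtype_commutator P
  have hP'P : P' ≤ P := Subgroup.commutator_le.mpr fun a ha b hb =>
    P.mul_mem (P.mul_mem (P.mul_mem ha hb) (P.inv_mem ha)) (P.inv_mem hb)
  have hP'n : ∀ h ∈ Subgroup.normalizer (P : Set G), ∀ c ∈ P', h * c * h⁻¹ ∈ P' := by
    intro h hh c hc
    have : (⁅P, P⁆).map (MulAut.conj h).toMonoidHom ≤ ⁅P, P⁆ := by
      rw [Subgroup.map_commutator]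
      have hle : P.map (MulAut.conj h).toMonoidHom ≤ P := by
        rintro _ ⟨v, hv, rfl⟩
        exact (Subgroup.mem_normalizer_iff.mp hh v).mp hv
      exact Subgroup.commutator_mono hle hle
    exact this ⟨c, hc, rfl⟩
  have hPN : P ≤ Subgroup.normalizer (P : Set G) := Subgroup.le_normalizer
  set F := (frattini ↥P).map P.subtype with hF
  -- elements acting trivially on `P'` and on `Φ(P)/P'`
  let U : Subgroup G :=
    { carrier := {g | g ∈ Subgroup.normalizer (P : Set G) ∧ g ∈ Subgroup.centralizer (P' : Set G) ∧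
        ∀ v ∈ F, g * v * g⁻¹ * v⁻¹ ∈ P'}
      one_mem' := ⟨Subgroup.one_mem _, Subgroup.one_mem _, fun v _ => by simp⟩
      mul_mem' := by
        rintro a b ⟨a1, a2, a3⟩ ⟨b1, b2, b3⟩
        refine ⟨Subgroup.mul_mem _ a1 b1, Subgroup.mul_mem _ a2 b2, fun v hv => ?_⟩
        have h1 := hP'n a a1 _ (b3 v hv)
        have h2 := P'.mul_mem h1 (a3 v hv)
        simpa [mul_assoc] using h2
      inv_mem' := by
        rintro a ⟨a1, a2, a3⟩
        refine ⟨Subgroup.inv_mem _ a1, Subgroup.inv_mem _ a2, fun v hv => ?_⟩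
        have h2 := hP'n a⁻¹ (Subgroup.inv_mem _ a1) _ (P'.inv_mem (a3 v hv))
        simpa [mul_assoc] using h2 }
  have hYU : Y ≤ U := by
    intro y hy
    have hyP := hH (hYH hy)
    refine ⟨hyP, hYc hy, ?_⟩
    have hconj : ∀ v ∈ P, y * v * y⁻¹ ∈ P := fun v hv => (Subgroup.mem_normalizer_iff.mp hyP v).mp hv
    let f : ↥P →* ↥P ⧸ commutator ↥P := MonoidHom.mk' (fun v => ((⟨y * v * y⁻¹, hconj v v.2⟩ * v⁻¹ : ↥P) : ↥P ⧸ commutator ↥P))
      (fun u v => by
        have hc : ∀ a b : ↥P ⧸ commutator ↥P, a * b = b * a := fun a b => by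
          induction a using QuotientGroup.induction_on with | _ a => ?_
          induction b using QuotientGroup.induction_on with | _ b => ?_
          rw [← QuotientGroup.mk_mul, ← QuotientGroup.mk_mul, QuotientGroup.eq]
          rw [show (a * b)⁻¹ * (b * a) = ⁅b⁻¹, a⁻¹⁆ by rw [commutatorElement_def]; group]
          exact Subgroup.commutator_mem_commutator (Subgroup.mem_top _) (Subgroup.mem_top _)
        have e : (⟨y * ((u * v : ↥P) : G) * y⁻¹, hconj _ (u * v).2⟩ : ↥P) = ⟨y * u * y⁻¹, hconj u u.2⟩ * ⟨y * v * y⁻¹, hconj v v.2⟩ :=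
          Subtype.ext (by simp)
        simp only [e, QuotientGroup.mk_mul, mul_inv_rev, QuotientGroup.mk_inv]
        rw [mul_assoc, ← mul_assoc _ (v : ↥P ⧸ commutator ↥P)⁻¹, hc _ (u : ↥P ⧸ commutator ↥P)⁻¹, ← mul_assoc])
    have hker : frattini ↥P ≤ f.ker := by
      refine RankFrattini.frattini_le_of_elementary hP f.ker (fun a b => ?_) fun a => ?_
      · rw [MonoidHom.mem_ker, map_commutatorElement, commutatorElement_eq_one_iff_mul_comm]
        induction f a using QuotientGroup.induction_on with | _ a => ?_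
        induction f b using QuotientGroup.induction_on with | _ b => ?_
        rw [← QuotientGroup.mk_mul, ← QuotientGroup.mk_mul, QuotientGroup.eq]
        rw [show (a * b)⁻¹ * (b * a) = ⁅b⁻¹, a⁻¹⁆ by rw [commutatorElement_def]; group]
        exact Subgroup.commutator_mem_commutator (Subgroup.mem_top _) (Subgroup.mem_top _)
      · rw [MonoidHom.mem_ker, map_pow]
        show ((⟨y * a * y⁻¹, hconj a a.2⟩ * a⁻¹ : ↥P) : ↥P ⧸ commutator ↥P) ^ p = 1
        rw [← QuotientGroup.mk_pow]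
        have h1 : ((⟨y * a * y⁻¹, hconj a a.2⟩ * a⁻¹ : ↥P) : G) ∈ ⁅P, Y⁆ := by
          rw [Subgroup.commutator_comm]
          exact Subgroup.commutator_mem_commutator hy a.2
        rw [show (⟨y * a * y⁻¹, hconj a a.2⟩ * a⁻¹ : ↥P) ^ p = 1 from Subtype.ext (hel.2 _ h1), QuotientGroup.mk_one]
    rintro v ⟨w, hw, rfl⟩
    have h := hker hw
    rw [← hP'eq]
    exact ⟨_, (QuotientGroup.eq_one_iff _).mp h, rfl⟩
  have hFn : ∀ h ∈ Subgroup.normalizer (P : Set G), ∀ v ∈ F, h * v * h⁻¹ ∈ F := by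
    rintro h hh _ ⟨w, hw, rfl⟩
    haveI : (frattini ↥P).Characteristic := inferInstance
    let φ : ↥P ≃* ↥P :=
      { toFun := fun x => ⟨h * x * h⁻¹, (Subgroup.mem_normalizer_iff.mp hh x).mp x.2⟩
        invFun := fun x => ⟨h⁻¹ * x * h, by simpa using (Subgroup.mem_normalizer_iff.mp (Subgroup.inv_mem _ hh) x).mp x.2⟩
        left_inv := fun x => Subtype.ext (by simp only; group)
        right_inv := fun x => Subtype.ext (by simp only; group)
        map_mul' := fun x z => Subtype.ext (by simp only [Subgroup.coe_mul]; group) }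
    have := (Subgroup.characteristic_iff_map_le.mp ‹_› φ) ⟨w, hw, rfl⟩
    exact ⟨_, this, rfl⟩
  have hUn : ∀ h ∈ H, ∀ u ∈ U, h * u * h⁻¹ ∈ U := by
    rintro h hh u ⟨u1, u2, u3⟩
    have hh' := hH hh
    refine ⟨Subgroup.mul_mem _ (Subgroup.mul_mem _ hh' u1) (Subgroup.inv_mem _ hh'), ?_, fun v hv => ?_⟩
    · refine Subgroup.mem_centralizer_iff.mpr fun c hc => ?_
      have := Subgroup.mem_centralizer_iff.mp u2 _ (hP'n h⁻¹ (Subgroup.inv_mem _ hh') c hc)
      calc c * (h * u * h⁻¹) = h * (h⁻¹ * c * h⁻¹⁻¹ * u) * h⁻¹ := by group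
        _ = h * (u * (h⁻¹ * c * h⁻¹⁻¹)) * h⁻¹ := by rw [this]
        _ = h * u * h⁻¹ * c := by group
    · have := hP'n h hh' _ (u3 _ (hFn h⁻¹ (Subgroup.inv_mem _ hh') v hv))
      simpa [mul_assoc] using this
  set NY := (Subgroup.normalClosure ((Y.subgroupOf H : Subgroup ↥H) : Set ↥H)).map H.subtype
  have hNU : NY ≤ U := by
    rw [Subgroup.map_le_iff_le_comap]
    haveI : (Subgroup.comap H.subtype U).Normal := ⟨fun u hu g => hUn g g.2 u hu⟩
    exact Subgroup.normalClosure_le_normal fun y hy => hYU hy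
  rw [Cfsg.pResidual, MonoidHom.map_closure]
  refine (Subgroup.closure_le _).mpr ?_
  rintro _ ⟨g, hg, rfl⟩
  obtain ⟨g1, g2, g3⟩ := hNU g.2
  refine Subgroup.mem_centralizer_iff.mpr fun v hv => ?_
  set d := (g : G) * v * (g : G)⁻¹ * v⁻¹ with hd
  have hdP : d ∈ P' := g3 v hv
  have hk : ∀ k : ℕ, (g : G) ^ k * v * ((g : G) ^ k)⁻¹ = d ^ k * v := by
    intro k
    induction k with
    | zero => simp
    | succ k ih =>
      have hcg : (g : G) * d ^ k = d ^ k * g := (Subgroup.mem_centralizer_iff.mp g2 _ (P'.pow_mem hdP k)).symm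
      calc (g : G) ^ (k + 1) * v * ((g : G) ^ (k + 1))⁻¹ = g * ((g : G) ^ k * v * ((g : G) ^ k)⁻¹) * (g : G)⁻¹ := by
            rw [pow_succ']; group
        _ = ((g : G) * d ^ k) * v * (g : G)⁻¹ := by rw [ih]; group
        _ = d ^ k * (g * v * (g : G)⁻¹) := by rw [hcg]; group
        _ = d ^ (k + 1) * v := by rw [show (g : G) * v * (g : G)⁻¹ = d * v by rw [hd]; group, ← mul_assoc, ← pow_succ]
  have hd1 : d = 1 := by
    have h1 := hk (orderOf g)
    rw [← Subgroup.coe_pow, pow_orderOf_eq_one, Subgroup.coe_one, one_mul, inv_one, mul_one, right_eq_mul] at h1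
    obtain ⟨j, hj⟩ := hP ⟨d, hP'P hdP⟩
    have := pow_gcd_eq_one.mpr ⟨h1, (congrArg Subtype.val hj : d ^ p ^ j = 1)⟩
    rwa [(Nat.Coprime.pow_right j hg).gcd_eq_one, pow_one] at this
  have := hk 1
  rw [hd1, pow_one, pow_one, one_mul] at this
  show v * (g : G) = g * v
  conv_lhs => rw [← this]
  group

end Cfsg.Agent.S2819
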