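import Cfsg.Statements.S2820
import Cfsg.Agent.Lib.PResidual
import Cfsg.Agent.Lib.Components

set_option autoImplicit false
set_option linter.unusedVariables false
open Cfsg
open scoped commutatorElement

namespace Cfsg.Agent.S2820

open CfsgLib.PResidual CfsgLib

/-- Let A and B be subnormal subgroups of the finite group H with A a p-group and B = O^p(B) (B generated by its elements of order prime to p). Then A normalizes B and B = O^p(AB), the subgroup of ⟨A, B⟩ generated by its elements of order prime to p. -/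
theorem result {H : Type*} [Group H] [Finite H] {p : ℕ} [Fact p.Prime] (A B : Subgroup H) (hA : A.IsSubnormal) (hB : B.IsSubnormal) (hAp : IsPGroup p ↥A) (hBres : (Cfsg.pResidual p ↥B).map B.subtype = B) : A ≤ Subgroup.normalizer (B : Set H) ∧ (Cfsg.pResidual p ↥(A ⊔ B)).map (A ⊔ B).subtype = B := by
  set X := A ⊔ B
  set A' := A.subgroupOf X
  set B' := B.subgroupOf X
  have hAP : A' ≤ Cfsg.pCore p ↥X := isSubnormal_isPGroup_le_pCore hA.subgroupOf
    (hAp.comap_of_injective X.subtype X.subtype_injective)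
  have hR : ∀ K : Subgroup ↥X, K.IsSubnormal → B' ≤ K → Cfsg.pResidual p ↥X ≤ K := by
    intro K hK
    induction hK with
    | top => exact fun _ => le_top
    | step L K hle hK hN ih =>
      intro hBL
      have hRK := ih (hBL.trans hle)
      refine (Subgroup.closure_le _).2 fun g hg => ?_
      have hgK : g ∈ K := hRK (Subgroup.subset_closure hg)
      have hmem : g ∈ Cfsg.pCore p ↥X ⊔ B' := by
        have : (⊤ : Subgroup ↥X) ≤ Cfsg.pCore p ↥X ⊔ B' := by
          rw [← Subgroup.subgroupOf_self X]
          refine le_trans (le_of_eq (Subgroup.subgroupOf_sup le_sup_left le_sup_right)) (sup_le_sup_right hAP _)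
        exact this trivial
      obtain ⟨q, hq, b, hb, hqb⟩ := Subgroup.mem_sup_of_normal_left.1 hmem
      have hqK : q ∈ K := by
        have : q = g * b⁻¹ := by rw [← hqb]; group
        rw [this]
        exact K.mul_mem hgK (K.inv_mem (hle (hBL hb)))
      obtain ⟨k, hk⟩ := isPGroup_pCore (G := ↥X) p ⟨q, hq⟩
      have hqk : q ^ p ^ k = 1 := congrArg Subtype.val hk
      have hgk : (⟨g, hgK⟩ : K) ^ p ^ k ∈ L.subgroupOf K := by
        haveI := hN
        rw [← QuotientGroup.eq_one_iff, QuotientGroup.mk_pow]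
        have e : (⟨g, hgK⟩ : K) = ⟨q, hqK⟩ * ⟨b, hle (hBL hb)⟩ := Subtype.ext hqb.symm
        have hbL : ((⟨b, hle (hBL hb)⟩ : K) : ↥K ⧸ L.subgroupOf K) = 1 :=
          (QuotientGroup.eq_one_iff _).2 (hBL hb)
        rw [e, QuotientGroup.mk_mul, hbL, mul_one, ← QuotientGroup.mk_pow, QuotientGroup.eq_one_iff]
        show ((⟨q, hqK⟩ : K) ^ p ^ k : K).val ∈ L
        rw [SubmonoidClass.coe_pow, hqk]
        exact L.one_mem
      exact mem_of_pow_mem hg (by simpa using Subgroup.mem_subgroupOf.1 hgk)
  have hle : Cfsg.pResidual p ↥X ≤ B' := hR B' hB.subgroupOf le_rfl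
  have hge : B' ≤ Cfsg.pResidual p ↥X := by
    intro b hb
    have hbB : (b : H) ∈ (Cfsg.pResidual p ↥B).map B.subtype := hBres.symm ▸ hb
    have : (Cfsg.pResidual p ↥B).map (Subgroup.inclusion (le_sup_right : B ≤ X)) ≤ Cfsg.pResidual p ↥X := by
      rw [Cfsg.pResidual, MonoidHom.map_closure]
      refine (Subgroup.closure_le _).2 ?_
      rintro _ ⟨g, hg, rfl⟩
      refine Subgroup.subset_closure ?_
      show (orderOf (Subgroup.inclusion (le_sup_right : B ≤ X) g)).Coprime p
      rwa [orderOf_injective _ (Subgroup.inclusion_injective _)]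
    obtain ⟨c, hc, e⟩ := hbB
    have : Subgroup.inclusion (le_sup_right : B ≤ X) c ∈ Cfsg.pResidual p ↥X := this ⟨c, hc, rfl⟩
    convert this
    exact Subtype.ext e.symm
  have heq : Cfsg.pResidual p ↥X = B' := le_antisymm hle hge
  constructor
  · haveI : B'.Normal := heq ▸ pResidual_normal
    exact le_sup_left.trans ((Subgroup.normal_subgroupOf_iff_le_normalizer le_sup_right).1 ‹B'.Normal›)
  · rw [heq, Subgroup.map_subgroupOf_eq_of_le le_sup_right]

end Cfsg.Agent.S2820
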