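import Cfsg.Statements.S2823
import Mathlib
import Cfsg.Agent.Lib.PReducedOf

set_option autoImplicit false
set_option linter.unusedVariables false
open Cfsg
open scoped commutatorElement

namespace Cfsg.Agent.S2823

open CfsgLib CfsgLib.PReduced CfsgLib.PReducedOf

theorem core {L : Type*} [Group L] [Finite L] {p : ℕ} [Fact p.Prime]
    (hchar : Subgroup.centralizer (Cfsg.pCore p L : Set L) ≤ Cfsg.pCore p L)
    (Z : Subgroup L) (hZdef : Z = ⨆ S : Sylow p L, Cfsg.omegaOne p ((S : Subgroup L) ⊓ Subgroup.centralizer ((S : Subgroup L) : Set L))) :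
    Z = Cfsg.omegaOne p (Subgroup.center L) ⊔ ⁅Z, Cfsg.pResidual p L⁆ ∧ ⁅Z, (⊤ : Subgroup L)⁆ = ⁅Z, Cfsg.pResidual p L⁆ := by
  haveI := PResidual.pResidual_normal (G := L) (p := p)
  set R := Cfsg.pResidual p L
  haveI hZn : Z.Normal := Subgroup.normalizer_eq_top_iff.mp (eq_top_iff.mpr fun g _ => by
    refine Local.mem_normalizer_of_map_conj_eq (Subgroup.eq_of_le_of_card_ge ?_ (Subgroup.card_map_of_injective (MulEquiv.injective (MulAut.conj g))).ge)
    rw [hZdef, Subgroup.map_iSup]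
    refine iSup_le fun S => le_iSup_of_le (g • S) ?_
    rintro _ ⟨z, hz, rfl⟩
    obtain ⟨h1, h2, h3⟩ := mem_omegaZ.mp hz
    rw [Sylow.coe_subgroup_smul]
    refine mem_omegaZ.mpr ⟨⟨z, h1, rfl⟩, ?_, by rw [← map_pow, h3, map_one]⟩
    rintro _ ⟨t, ht, rfl⟩
    show g * t * g⁻¹ * (g * z * g⁻¹) = g * z * g⁻¹ * (g * t * g⁻¹)
    rw [show g * t * g⁻¹ * (g * z * g⁻¹) = g * (t * z) * g⁻¹ by group, h2 t ht]; group)
  have hZY : Z ≤ Cfsg.largestPReduced p L := hZdef ▸ iSup_le fun S => omegaZ_le_largest hchar S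
  have hYe : Cfsg.IsElementaryAbelian p (Cfsg.largestPReduced p L) := largest_reduced.2.1
  have hZe : Cfsg.IsElementaryAbelian p Z := ⟨⟨⟨fun a b => Subtype.ext (mem_comm hYe (hZY a.2) (hZY b.2))⟩⟩, fun v hv => hYe.2 v (hZY hv)⟩
  haveI : (⁅Z, R⁆ : Subgroup L).Normal := Subgroup.commutator_normal Z R
  have hΩ : Cfsg.omegaOne p (Subgroup.center L) ≤ Z := by
    obtain ⟨S⟩ := (inferInstance : Nonempty (Sylow p L))
    refine le_trans (fun x hx => ?_) (hZdef.ge.trans' (le_iSup (fun S : Sylow p L => Cfsg.omegaOne p ((S : Subgroup L) ⊓ Subgroup.centralizer ((S : Subgroup L) : Set L))) S))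
    obtain ⟨hxc, hxp⟩ := (mem_omegaOne fun a ha b _ => (Subgroup.mem_center_iff.mp ha b).symm).mp hx
    exact mem_omegaZ.mpr ⟨mem_sylow_of_mem_centralizer S ⟨1, by rw [pow_one]; exact hxp⟩ (fun y _ => (Subgroup.mem_center_iff.mp hxc y).symm),
      fun t _ => Subgroup.mem_center_iff.mp hxc t, hxp⟩
  have hD : ⁅Z, R⁆ ≤ Z := Subgroup.commutator_le_left Z R
  have hmain : Z = Cfsg.omegaOne p (Subgroup.center L) ⊔ ⁅Z, R⁆ := by
    refine le_antisymm ?_ (sup_le hΩ hD)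
    refine hZdef.le.trans (iSup_le fun S z hz => ?_)
    obtain ⟨hzS, hzc, hzp⟩ := mem_omegaZ.mp hz
    have hzZ : z ∈ Z := hZdef.ge (le_iSup (fun S : Sylow p L => Cfsg.omegaOne p ((S : Subgroup L) ⊓ Subgroup.centralizer ((S : Subgroup L) : Set L))) S hz)
    obtain ⟨d, hd, c, hc, rfl, -⟩ := AbelianTrace.exists_decomp (p := p) (u := z) Z ⊤ (S : Subgroup L) hZe.1 (isPGroup_of_elem hZe)
      (by rw [Subgroup.normalizer_eq_top]) le_top (by rw [Subgroup.relIndex_top_right]; exact S.not_dvd_index)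
      ⟨hzZ, Subgroup.mem_centralizer_iff.mpr hzc⟩ ⁅Z, R⁆ (fun k _ => by
        obtain ⟨t, ht, r, hr, rfl⟩ := Subgroup.mem_sup_of_normal_right.mp ((PResidual.pResidual_sup_sylow S).symm ▸ Subgroup.mem_top k)
        have h1 : r * z * r⁻¹ * z⁻¹ ∈ ⁅Z, R⁆ := by
          simpa [commutatorElement_def, mul_assoc] using (⁅Z, R⁆).inv_mem (Subgroup.commutator_mem_commutator hzZ hr)
        have h3 : t * z⁻¹ * t⁻¹ = z⁻¹ := by
          rw [((show Commute t z from hzc t ht).inv_right).eq, mul_inv_cancel_right]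
        have e : t * r * z * (t * r)⁻¹ * z⁻¹ = t * (r * z * r⁻¹ * z⁻¹) * t⁻¹ :=
          calc t * r * z * (t * r)⁻¹ * z⁻¹ = t * r * z * r⁻¹ * t⁻¹ * z⁻¹ := by group
            _ = t * r * z * r⁻¹ * t⁻¹ * (t * z⁻¹ * t⁻¹) := by rw [h3]
            _ = t * (r * z * r⁻¹ * z⁻¹) * t⁻¹ := by group
        rw [e]; exact Subgroup.Normal.conj_mem inferInstance _ h1 t)
    refine Subgroup.mul_mem _ (Subgroup.mem_sup_right hd.1) (Subgroup.mem_sup_left (Subgroup.subset_closure ⟨?_, hZe.2 c hc.1⟩))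
    exact Subgroup.mem_center_iff.mpr fun g => Subgroup.mem_centralizer_iff.mp hc.2 g (Subgroup.mem_top g)
  refine ⟨hmain, le_antisymm (Subgroup.commutator_le.mpr fun z hz g _ => ?_) (Subgroup.commutator_mono le_rfl le_top)⟩
  obtain ⟨c, hc, d, hd, rfl⟩ := Subgroup.mem_sup_of_normal_right.mp (hmain.le hz)
  have hcg := Subgroup.mem_center_iff.mp ((Subgroup.closure_le _).mpr (fun x hx => hx.1) hc : c ∈ Subgroup.center L) (d * g * d⁻¹)
  rw [show ⁅c * d, g⁆ = ⁅d, g⁆ by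
    rw [commutatorElement_def, commutatorElement_def, show c * d * g * (c * d)⁻¹ * g⁻¹ = c * (d * g * d⁻¹) * c⁻¹ * g⁻¹ by group,
      ← hcg, mul_inv_cancel_right]]
  simpa [commutatorElement_def, mul_assoc] using (⁅Z, R⁆).mul_mem hd (Subgroup.Normal.conj_mem inferInstance _ ((⁅Z, R⁆).inv_mem hd) g)

/-- Let H be a finite group, p a prime, T a Sylow p-subgroup and L a subgroup of characteristic p containing T; let Z_L be the subgroup generated by the Ω₁(Z(S)) over the Sylow p-subgroups S of L and O^p(L) the subgroup generated by the elements of L of order prime to p. Then Z_L = Ω₁(Z(L))·[Z_L, O^p(L)] and [Z_L, L] = [Z_L, O^p(L)]. -/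
theorem result {H : Type*} [Group H] [Finite H] {p : ℕ} [Fact p.Prime] (T : Sylow p H) (L : Subgroup H) (hTL : (T : Subgroup H) ≤ L) (hL : Subgroup.centralizer (Cfsg.pCore p ↥L : Set ↥L) ≤ Cfsg.pCore p ↥L) : Cfsg.sylowCenterClosure p L = (Cfsg.omegaOne p (L ⊓ Subgroup.centralizer ((L : Subgroup H) : Set H))) ⊔ ⁅Cfsg.sylowCenterClosure p L, (Cfsg.pResidual p ↥L).map L.subtype⁆ ∧ ⁅Cfsg.sylowCenterClosure p L, L⁆ = ⁅Cfsg.sylowCenterClosure p L, (Cfsg.pResidual p ↥L).map L.subtype⁆ := by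
  obtain ⟨h1, h2⟩ := core (L := ↥L) hL _ rfl
  have hΩ : Cfsg.omegaOne p (L ⊓ Subgroup.centralizer ((L : Subgroup H) : Set H)) = (Cfsg.omegaOne p (Subgroup.center ↥L)).map L.subtype := by
    refine le_antisymm ((Subgroup.closure_le _).mpr fun x hx => ?_) (Subgroup.map_le_iff_le_comap.mpr ((Subgroup.closure_le _).mpr fun x hx => ?_))
    · exact ⟨⟨x, hx.1.1⟩, Subgroup.subset_closure ⟨Subgroup.mem_center_iff.mpr fun g => Subtype.ext
        (Subgroup.mem_centralizer_iff.mp hx.1.2 g g.2), Subtype.ext hx.2⟩, rfl⟩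
    · exact Subgroup.subset_closure ⟨⟨x.2, Subgroup.mem_centralizer_iff.mpr fun g hg =>
        congrArg Subtype.val (Subgroup.mem_center_iff.mp hx.1 ⟨g, hg⟩)⟩, congrArg Subtype.val hx.2⟩
  constructor
  · rw [closure_eq, hΩ, ← Subgroup.map_commutator, ← Subgroup.map_sup, ← h1]
  · conv_lhs =>
      arg 2
      rw [← L.range_subtype, MonoidHom.range_eq_map]
    rw [closure_eq, ← Subgroup.map_commutator, ← Subgroup.map_commutator, h2]

end Cfsg.Agent.S2823
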