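import Cfsg.Statements.S2825
import Mathlib
import Cfsg.Agent.Lib.PReduced

set_option autoImplicit false
set_option linter.unusedVariables false
open Cfsg
open scoped commutatorElement

namespace Cfsg.Agent.S2825

open CfsgLib CfsgLib.PReduced

theorem down (k : ℕ) : ∀ (H : Type*) [Group H] [Finite H] (p : ℕ) [Fact p.Prime], Nat.card H ≤ k →
    ∀ L : Subgroup H, L.IsSubnormal →
    L ⊓ Subgroup.centralizer (Cfsg.largestPReduced p H : Set H) ≤ Subgroup.centralizer (Cfsg.largestPReducedOf p L : Set H) := by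
  induction k with
  | zero => intro H _ _ p _ h; exact absurd h Nat.card_pos.not_ge
  | succ k ih =>
    intro H _ _ p _ hk L hL
    rcases hL.lt_normal with rfl | ⟨N, hN, hLN, hNlt⟩
    · have e : Cfsg.largestPReducedOf p (⊤ : Subgroup H) = Cfsg.largestPReduced p H := by
        rw [Cfsg.largestPReducedOf, ← largest_map_equiv (p := p) (Subgroup.topEquiv : ↥(⊤ : Subgroup H) ≃* H)]
        rfl
      rw [e]
      exact inf_le_right
    haveI := hN
    obtain ⟨hn, he, h0⟩ := iff_forall.mp (largest_reduced (L := ↥N) (p := p))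
    have hVn : (Cfsg.largestPReducedOf p N).Normal := Subgroup.normalizer_eq_top_iff.mp (top_le_iff.mp
      ((Subgroup.normalizer_eq_top (H := N)).ge.trans (normalizer_le_largestOf N)))
    have hmem : ∀ x : ↥N, (x : H) ∈ Subgroup.centralizer (Cfsg.largestPReducedOf p N : Set H) ↔
        x ∈ Subgroup.centralizer (Cfsg.largestPReduced p ↥N : Set ↥N) := by
      intro x
      constructor
      · intro h
        exact Subgroup.mem_centralizer_iff.mpr fun y hy => Subtype.ext (Subgroup.mem_centralizer_iff.mp h y ⟨y, hy, rfl⟩)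
      · intro h
        refine Subgroup.mem_centralizer_iff.mpr ?_
        rintro _ ⟨y, hy, rfl⟩
        exact congrArg Subtype.val (Subgroup.mem_centralizer_iff.mp h y hy)
    have hVe : Cfsg.IsElementaryAbelian p (Cfsg.largestPReducedOf p N) := by
      refine ⟨⟨⟨fun a b => Subtype.ext ?_⟩⟩, ?_⟩
      · obtain ⟨a', ha, ea⟩ := a.2
        obtain ⟨b', hb, eb⟩ := b.2
        show (a : H) * b = b * a
        rw [← ea, ← eb, ← map_mul, ← map_mul, mem_comm he ha hb]
      · rintro _ ⟨v, hv, rfl⟩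
        rw [← map_pow, he.2 v hv, map_one]
    have h1 := inf_centralizer_le_of_normal N _ _ hVn hVe le_rfl fun D hDN hND hDp d hd => by
      haveI : (D.subgroupOf N).Normal := (Subgroup.normal_subgroupOf_iff_le_normalizer hDN).mpr hND
      refine (hmem ⟨d, hDN hd⟩).mpr (h0 (D.subgroupOf N) inferInstance (fun x hx => ?_) hd)
      exact (hDp x hx).imp fun n hn => (hmem _).mp hn
    have hcard : Nat.card ↥N ≤ k := Nat.lt_succ_iff.mp (lt_of_lt_of_le (lt_of_le_of_ne (Subgroup.card_le_card_group N)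
      fun h => hNlt.ne (Subgroup.eq_top_of_card_eq N h)) hk)
    have h2 := ih ↥N p hcard (L.subgroupOf N) (hL.subgroupOf (K := N))
    intro x hx
    have hxN : (⟨x, hLN hx.1⟩ : ↥N) ∈ Subgroup.centralizer (Cfsg.largestPReduced p ↥N : Set ↥N) :=
      (hmem _).mp (h1 ⟨hLN hx.1, hx.2⟩)
    have h3 := Subgroup.mem_centralizer_iff.mp (h2 ⟨show (⟨x, hLN hx.1⟩ : ↥N) ∈ L.subgroupOf N from hx.1, hxN⟩)
    rw [← Subgroup.map_subgroupOf_eq_of_le hLN, largestOf_map N.subtype N.subtype_injective]
    refine Subgroup.mem_centralizer_iff.mpr ?_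
    rintro _ ⟨y, hy, rfl⟩
    exact congrArg Subtype.val (h3 y hy)

/-- Let L be a subnormal subgroup of the finite group H, p a prime, Y_H and Y_L the largest p-reduced normal subgroups. Then Y_H ∩ L = Y_H ∩ Y_L and this subgroup is a p-reduced normal subgroup of L; C_L(Y_L) = C_L(Y_H) = C_L(Y_H ∩ L); and if O^p(H) ≤ L, then [Y_L, L] = 1 if and only if [Y_H, H] = 1. -/
theorem result {H : Type*} [Group H] [Finite H] {p : ℕ} [Fact p.Prime] (L : Subgroup H) (hL : L.IsSubnormal) : Cfsg.largestPReduced p H ⊓ L = Cfsg.largestPReduced p H ⊓ (Cfsg.largestPReducedOf p L) ∧ Cfsg.IsPReducedNormal p ((Cfsg.largestPReduced p H ⊓ L).subgroupOf L) ∧ L ⊓ Subgroup.centralizer ((Cfsg.largestPReducedOf p L : Subgroup H) : Set H) = L ⊓ Subgroup.centralizer (Cfsg.largestPReduced p H : Set H) ∧ L ⊓ Subgroup.centralizer (Cfsg.largestPReduced p H : Set H) = L ⊓ Subgroup.centralizer ((Cfsg.largestPReduced p H ⊓ L : Subgroup H) : Set H) ∧ (Cfsg.pResidual p H ≤ L → (⁅(Cfsg.largestPReducedOf p L),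 L⁆ = ⊥ ↔ ⁅Cfsg.largestPReduced p H, (⊤ : Subgroup H)⁆ = ⊥)) := by
  set Y := Cfsg.largestPReduced p H
  have hYr : Cfsg.IsPReducedNormal p Y := largest_reduced
  obtain ⟨hYn, hYe, hY0⟩ := iff_forall.mp hYr
  haveI := hYn
  set U := Y ⊓ L
  have key : ∀ D : Subgroup H, D.IsSubnormal → D ≤ L → (∀ d ∈ D, ∃ n : ℕ, d ^ p ^ n ∈ Subgroup.centralizer (U : Set H)) →
      D ≤ Subgroup.centralizer (Y : Set H) := by
    intro D hD hDL hDp
    refine le_centralizer_of_subnormal hYr hD (le_inf (Subgroup.commutator_le_left Y _)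
      ((Subgroup.commutator_mono le_rfl (res_mono hDL)).trans (comm_res_le_of_subnormal hYe.1 (isPGroup_of_elem hYe) hL))) ?_
    rw [res_eq_closure, Subgroup.closure_le]
    rintro x ⟨hxD, hx⟩
    obtain ⟨n, hn⟩ := hDp x hxD
    exact PResidual.mem_of_pow_mem hx hn
  have hUn : (U.subgroupOf L).Normal := by
    rw [Subgroup.inf_subgroupOf_right]
    infer_instance
  haveI := hUn
  have hUr : Cfsg.IsPReducedNormal p (U.subgroupOf L) := by
    refine iff_forall.mpr ⟨hUn, ⟨⟨⟨fun a b => Subtype.ext (Subtype.ext ?_)⟩⟩, fun v hv => Subtype.ext ?_⟩, fun D hD hDp => ?_⟩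
    · exact mem_comm hYe a.2.1 b.2.1
    · rw [SubmonoidClass.coe_pow]; exact hYe.2 _ hv.1
    · have h := key (D.map L.subtype) ((Subgroup.Normal.isSubnormal hD).trans' hL) (Subgroup.map_subtype_le _) (by
        rintro _ ⟨d, hd, rfl⟩
        refine (hDp d hd).imp fun n hn => Subgroup.mem_centralizer_iff.mpr fun u hu => ?_
        simpa using congrArg Subtype.val (Subgroup.mem_centralizer_iff.mp hn ⟨u, hu.2⟩ hu))
      intro d hd
      exact Subgroup.mem_centralizer_iff.mpr fun u hu => Subtype.ext (Subgroup.mem_centralizer_iff.mp (h ⟨d, hd, rfl⟩) u hu.1)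
  have hUYL : U ≤ Cfsg.largestPReducedOf p L := fun u hu => ⟨⟨u, hu.2⟩, le_largest hUr hu, rfl⟩
  have hsn : (L ⊓ Subgroup.centralizer (U : Set H)).IsSubnormal := by
    have h : ((L ⊓ Subgroup.centralizer (U : Set H)).subgroupOf L).Normal := by
      have e : (L ⊓ Subgroup.centralizer (U : Set H)).subgroupOf L = Subgroup.centralizer ((U.subgroupOf L : Subgroup ↥L) : Set ↥L) := by
        ext x
        refine ⟨fun hx => Subgroup.mem_centralizer_iff.mpr fun u hu => Subtype.ext (Subgroup.mem_centralizer_iff.mp hx.2 u hu),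
          fun hx => ⟨x.2, Subgroup.mem_centralizer_iff.mpr fun u hu => congrArg Subtype.val (Subgroup.mem_centralizer_iff.mp hx ⟨u, hu.2⟩ hu)⟩⟩
      rw [e]
      exact centralizer_normal _
    exact Subgroup.IsSubnormal.trans inf_le_left (Subgroup.Normal.isSubnormal h) hL
  have hd : L ⊓ Subgroup.centralizer (U : Set H) ≤ Subgroup.centralizer (Y : Set H) :=
    key _ hsn inf_le_left fun d hd => ⟨0, by rw [pow_zero, pow_one]; exact hd.2⟩
  have hc1 : L ⊓ Subgroup.centralizer ((Cfsg.largestPReducedOf p L : Subgroup H) : Set H) = L ⊓ Subgroup.centralizer (Y : Set H) :=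
    le_antisymm (le_inf inf_le_left ((inf_le_inf_left L (Subgroup.centralizer_le (SetLike.coe_subset_coe.mpr hUYL))).trans hd))
      (le_inf inf_le_left (down _ H p le_rfl L hL))
  refine ⟨le_antisymm (le_inf inf_le_left hUYL) (le_inf inf_le_left (inf_le_right.trans (Subgroup.map_subtype_le _))), hUr, hc1,
    le_antisymm (inf_le_inf_left L (Subgroup.centralizer_le (SetLike.coe_subset_coe.mpr inf_le_left))) (le_inf inf_le_left hd), fun hres => ?_⟩
  rw [Subgroup.commutator_eq_bot_iff_le_centralizer, Subgroup.commutator_eq_bot_iff_le_centralizer, Subgroup.le_centralizer_iff,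
    Subgroup.le_centralizer_iff (H := Y)]
  constructor
  · intro h
    have h1 : L ≤ Subgroup.centralizer (Y : Set H) := fun x hx => (hc1.le ⟨hx, h hx⟩).2
    exact hY0 ⊤ inferInstance fun x _ => (PResidual.pow_mem_pResidual (p := p) x).imp fun n hn => h1 (hres hn)
  · intro h x hx
    exact (hc1.ge ⟨hx, h (Subgroup.mem_top x)⟩).2

end Cfsg.Agent.S2825
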