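import Cfsg.Statements.S2826
import Mathlib
import Cfsg.Agent.Lib.PReduced

set_option autoImplicit false
set_option linter.unusedVariables false
open Cfsg
open scoped commutatorElement

namespace Cfsg.Agent.S2826

open CfsgLib CfsgLib.PReduced

/-- Let H be a finite group of characteristic p, T a Sylow p-subgroup, and V a normal elementary abelian p-subgroup of H containing Ω₁(Z(T)). Then C_H(Ω₁(Z(T))) = C_H([V, O^p(H)] ∩ Ω₁(Z(T))), O^p(H) being generated by the elements of order prime to p. -/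
theorem result {H : Type*} [Group H] [Finite H] {p : ℕ} [Fact p.Prime] (hH : Subgroup.centralizer (Cfsg.pCore p H : Set H) ≤ Cfsg.pCore p H) (T : Sylow p H) (V : Subgroup H) [V.Normal] (hV : Cfsg.IsElementaryAbelian p V) (hZV : (Cfsg.omegaOne p ((T : Subgroup H) ⊓ Subgroup.centralizer (((T : Subgroup H) : Subgroup H) : Set H))) ≤ V) : Subgroup.centralizer ((Cfsg.omegaOne p ((T : Subgroup H) ⊓ Subgroup.centralizer (((T : Subgroup H) : Subgroup H) : Set H))) : Set H) = Subgroup.centralizer (((⁅V, Cfsg.pResidual p H⁆ ⊓ (Cfsg.omegaOne p ((T : Subgroup H) ⊓ Subgroup.centralizer (((T : Subgroup H) : Subgroup H) : Set H)))) : Subgroup H) : Set H) := by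
  haveI := PResidual.pResidual_normal (G := H) (p := p)
  set R := Cfsg.pResidual p H
  set U := ⁅V, R⁆
  haveI : U.Normal := Subgroup.commutator_normal V R
  refine le_antisymm (Subgroup.centralizer_le (SetLike.coe_subset_coe.mpr inf_le_right)) fun x hx => ?_
  refine Subgroup.mem_centralizer_iff.mpr fun z hz => ?_
  obtain ⟨hzT, hzc, hzp⟩ := mem_omegaZ.mp hz
  obtain ⟨d, hd, c, hc, rfl, hsym⟩ := AbelianTrace.exists_decomp (p := p) (u := z) V ⊤ (T : Subgroup H) hV.1 (isPGroup_of_elem hV)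
    (by rw [Subgroup.normalizer_eq_top]) le_top (by rw [Subgroup.relIndex_top_right]; exact T.not_dvd_index)
    ⟨hZV hz, Subgroup.mem_centralizer_iff.mpr hzc⟩ U (fun k _ => by
      obtain ⟨t, ht, r, hr, rfl⟩ := Subgroup.mem_sup_of_normal_right.mp ((PResidual.pResidual_sup_sylow T).symm ▸ Subgroup.mem_top k)
      have h1 : r * z * r⁻¹ * z⁻¹ ∈ U := by
        have := U.inv_mem (Subgroup.commutator_mem_commutator (hZV hz) hr)
        simpa [commutatorElement_def, mul_assoc, U] using this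
      have h2 := Subgroup.Normal.conj_mem inferInstance _ h1 t
      have h3 : t * z⁻¹ * t⁻¹ = z⁻¹ := by
        rw [((show Commute t z from hzc t ht).inv_right).eq, mul_inv_cancel_right]
      have e : t * r * z * (t * r)⁻¹ * z⁻¹ = t * (r * z * r⁻¹ * z⁻¹) * t⁻¹ :=
        calc t * r * z * (t * r)⁻¹ * z⁻¹ = t * r * z * r⁻¹ * t⁻¹ * z⁻¹ := by group
          _ = t * r * z * r⁻¹ * t⁻¹ * (t * z⁻¹ * t⁻¹) := by rw [h3]
          _ = t * (r * z * r⁻¹ * z⁻¹) * t⁻¹ := by group
      rw [e]; exact h2)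
  have hdT : d ∈ Cfsg.omegaOne p ((T : Subgroup H) ⊓ Subgroup.centralizer ((T : Subgroup H) : Set H)) :=
    mem_omegaZ.mpr ⟨pCore_le_sylow T (le_pCore_of_normal inferInstance hV hd.2.1), Subgroup.mem_centralizer_iff.mp hd.2.2, hV.2 d hd.2.1⟩
  exact ((Commute.mul_left (Subgroup.mem_centralizer_iff.mp hx d ⟨hd.1, hdT⟩ : Commute d x)
    ((Subgroup.mem_centralizer_iff.mp hc.2 x (Subgroup.mem_top x)).symm : Commute c x))).eq

end Cfsg.Agent.S2826
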