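import Cfsg.Statements.S2827
import Cfsg.Agent.Lib.PResidual

set_option autoImplicit false
set_option linter.unusedVariables false
open Cfsg
open scoped commutatorElement

namespace Cfsg.Agent.S2827

open CfsgLib.PResidual CfsgLib

/-- Let H be a finite p-irreducible group (not p-closed, and O^p(H) lies in every normal subgroup that is not p-closed) and T a Sylow p-subgroup. Then H is generated by the conjugates of T and H = H'·T; O^p(H) ≤ H'; and for every normal subgroup Y of T not contained in O_p(H), O^p(H) = [O^p(H), Y] and O^p(H) is contained in the normal closure of Y in H. -/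
theorem result {H : Type*} [Group H] [Finite H] {p : ℕ} [Fact p.Prime] (hH : Cfsg.IsPIrreducible p H) (T : Sylow p H) : Subgroup.normalClosure ((T : Subgroup H) : Set H) = ⊤ ∧ commutator H ⊔ (T : Subgroup H) = ⊤ ∧ Cfsg.pResidual p H ≤ commutator H ∧ ∀ Y : Subgroup H, Y ≤ (T : Subgroup H) → (T : Subgroup H) ≤ Subgroup.normalizer (Y : Set H) → ¬ Y ≤ Cfsg.pCore p H → ⁅Cfsg.pResidual p H, Y⁆ = Cfsg.pResidual p H ∧ Cfsg.pResidual p H ≤ Subgroup.normalClosure (Y : Set H) := by
  set R := Cfsg.pResidual p H
  haveI : R.Normal := pResidual_normal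
  have hbig : ∀ N : Subgroup H, N.Normal → ∀ Q : Subgroup H, IsPGroup p Q → Q ≤ N →
      ¬ Q ≤ Cfsg.pCore p H → R ≤ N := fun N hN Q hQ hQN hQc =>
    hH.2 N hN fun h => hQc (@le_pCore_of_normal_isPClosed H _ _ p _ N hN h Q hQ hQN)
  have hTc : ¬ (T : Subgroup H) ≤ Cfsg.pCore p H := fun h => hH.1 (isPClosed_of_le_pCore fun Q hQ => by
    obtain ⟨P, hP⟩ := hQ.exists_le_sylow
    refine hP.trans ?_
    have hTeq : (T : Subgroup H) = Cfsg.pCore p H := le_antisymm h (pCore_le_sylow T)
    haveI : Unique (Sylow p H) := Sylow.unique_of_normal T (hTeq ▸ inferInstance)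
    rw [Subsingleton.elim P T]
    exact h)
  have h1 : Subgroup.normalClosure ((T : Subgroup H) : Set H) = ⊤ := by
    rw [← top_le_iff, ← pResidual_sup_sylow T]
    exact sup_le Subgroup.le_normalClosure
      (hbig _ inferInstance _ T.2 Subgroup.le_normalClosure hTc)
  have h2 : commutator H ⊔ (T : Subgroup H) = ⊤ := by
    haveI : (commutator H ⊔ (T : Subgroup H)).Normal := Subgroup.Normal.of_commutator_le _ le_sup_left
    exact top_le_iff.1 (h1 ▸ Subgroup.normalClosure_le_normal (SetLike.coe_subset_coe.2 le_sup_right))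
  refine ⟨h1, h2, pResidual_le_of_sup_eq_top T.2 (sup_comm (commutator H) _ ▸ h2), fun Y hYT hTY hY => ?_⟩
  set C := ⁅R, Y⁆
  have hnC : ∀ g, g ∈ Subgroup.normalizer (Y : Set H) → g ∈ Subgroup.normalizer (C : Set H) := fun g hg =>
    CfsgLib.Local.mem_normalizer_of_map_conj_eq (by
      rw [Subgroup.map_commutator, CfsgLib.Local.map_conj_eq_of_mem_normalizer hg,
        CfsgLib.Local.map_conj_eq_of_mem_normalizer (by simp [Subgroup.normalizer_eq_top])])
  have hRC : R ≤ Subgroup.normalizer (C : Set H) := by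
    refine Subgroup.le_normalizer_iff.2 fun r hr c hc => ?_
    have : C ≤ C.comap (MulAut.conj r).toMonoidHom := Subgroup.commutator_le.2 fun a ha b hb => by
      have := C.mul_mem (Subgroup.commutator_mem_commutator (R.mul_mem hr ha) hb)
        (C.inv_mem (Subgroup.commutator_mem_commutator hr hb))
      show r * ⁅a, b⁆ * r⁻¹ ∈ C
      convert this using 1
      simp only [commutatorElement_def]
      group
    exact this hc
  haveI : C.Normal := Subgroup.normalizer_eq_top_iff.1 (top_le_iff.1 (by
    rw [← pResidual_sup_sylow T]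
    exact sup_le (fun g hg => hnC g (hTY hg)) hRC))
  have hN : (C ⊔ Y).Normal := Subgroup.normalizer_eq_top_iff.1 (top_le_iff.1 (by
    rw [← pResidual_sup_sylow T]
    refine sup_le (fun g hg => Subgroup.normalizer_inf_normalizer_le_normalizer_sup C Y
      ⟨hnC g (hTY hg), hTY hg⟩) (Subgroup.le_normalizer_iff.2 fun r hr c hc => ?_)
    have : C ⊔ Y ≤ (C ⊔ Y).comap (MulAut.conj r).toMonoidHom :=
      sup_le (fun a ha => Subgroup.mem_sup_left ((inferInstance : C.Normal).conj_mem a ha r)) fun y hy => by
        have := Subgroup.mul_mem _ (Subgroup.mem_sup_left (T := Y) (Subgroup.commutator_mem_commutator hr hy))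
          (Subgroup.mem_sup_right hy)
        simpa [C, commutatorElement_def] using this
    exact this hc))
  have hYp : IsPGroup p Y := CfsgLib.Local.isPGroup_of_le hYT T.2
  have hR : R ≤ C ⊔ Y := hbig _ hN _ hYp le_sup_right hY
  have hCR : R ≤ C := pResidual_le_of_pow fun x => by
    obtain ⟨k, hk⟩ := pow_mem_pResidual (p := p) x
    obtain ⟨j, hj⟩ := pow_mem_sylow_sup hYp (sup_comm C Y ▸ hR hk)
    exact ⟨k + j, by rw [pow_add, pow_mul]; exact hj⟩
  refine ⟨le_antisymm (Subgroup.commutator_le_left R Y) hCR, hCR.trans ?_⟩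
  exact (Subgroup.commutator_mono le_rfl Subgroup.le_normalClosure).trans (Subgroup.commutator_le_right R _)

end Cfsg.Agent.S2827
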