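import Cfsg.Statements.S2828
import Cfsg.Agent.Lib.PResidual

set_option autoImplicit false
set_option linter.unusedVariables false
open Cfsg
open scoped commutatorElement

namespace Cfsg.Agent.S2828

open CfsgLib.PResidual CfsgLib

/-- Let H be a finite group, p a prime and D a normal p-subgroup of H. Then H is p-irreducible if and only if H/D is p-irreducible, and H is strongly p-irreducible if and only if H/D is strongly p-irreducible. -/
theorem result {H : Type*} [Group H] [Finite H] {p : ℕ} [Fact p.Prime] (D : Subgroup H) [D.Normal] (hD : IsPGroup p ↥D) : (Cfsg.IsPIrreducible p H ↔ Cfsg.IsPIrreducible p (H ⧸ D)) ∧ (Cfsg.IsStronglyPIrreducible p H ↔ Cfsg.IsStronglyPIrreducible p (H ⧸ D)) := by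
  have hcl : Cfsg.IsPClosed p (H ⧸ D) ↔ Cfsg.IsPClosed p H := by
    have h := isPClosed_quotient_iff D (⊤ : Subgroup H) hD le_top
    rw [Subgroup.map_top_of_surjective _ (QuotientGroup.mk'_surjective D), isPClosed_top_iff, isPClosed_top_iff] at h
    exact h
  set π := QuotientGroup.mk' D
  have hmapN : ∀ N : Subgroup H, N.Normal → (N.map π).Normal := fun N hN =>
    hN.map π (QuotientGroup.mk'_surjective D)
  constructor
  · constructor
    · refine fun h => ⟨fun hc => h.1 (hcl.1 hc), fun M hM hMc => ?_⟩
      have hN : (M.comap π).Normal := hM.comap π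
      have e : (M.comap π).map π = M := Subgroup.map_comap_eq_self_of_surjective (QuotientGroup.mk'_surjective D) M
      rw [← e]
      refine (pResidual_le_iff_quotient D _ hD).2 (h.2 _ hN fun hc => hMc ?_)
      have h2 := (isPClosed_quotient_iff D (M.comap π) hD (fun d hd => by
        simp [π, Subgroup.mem_comap, (QuotientGroup.eq_one_iff d).2 hd])).2 hc
      rwa [e] at h2
    · refine fun h => ⟨fun hc => h.1 (hcl.2 hc), fun N hN hNc => ?_⟩
      refine (pResidual_le_iff_quotient D N hD).1 (h.2 _ (hmapN N hN) fun hc => hNc ?_)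
      have e : (N ⊔ D).map π = N.map π := by
        have hD0 : D.map π = ⊥ := by rw [Subgroup.map_eq_bot_iff, QuotientGroup.ker_mk']
        rw [Subgroup.map_sup, hD0, sup_bot_eq]
      have h2 := (isPClosed_quotient_iff D (N ⊔ D) hD le_sup_right).1 (by rwa [e])
      exact isPClosed_subgroup fun Q hQ hQN => le_pCore_of_normal_isPClosed h2 hQ (hQN.trans le_sup_left)
  · have hcom : ∀ N : Subgroup H, ⁅N.map π, (⊤ : Subgroup (H ⧸ D))⁆ ≤ Cfsg.pCore p (H ⧸ D) ↔
        ⁅N, (⊤ : Subgroup H)⁆ ≤ Cfsg.pCore p H := fun N => by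
      rw [← Subgroup.map_top_of_surjective π (QuotientGroup.mk'_surjective D), ← Subgroup.map_commutator,
        Subgroup.map_le_iff_le_comap, comap_pCore_quotient D hD]
    constructor
    · refine fun h => ⟨fun hc => h.1 (hcl.1 hc), fun M hM hMc => ?_⟩
      have hN : (M.comap π).Normal := hM.comap π
      have e : (M.comap π).map π = M := Subgroup.map_comap_eq_self_of_surjective (QuotientGroup.mk'_surjective D) M
      rw [← e] at hMc ⊢
      exact (pResidual_le_iff_quotient D _ hD).2 (h.2 _ hN fun hc => hMc ((hcom _).2 hc))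
    · refine fun h => ⟨fun hc => h.1 (hcl.2 hc), fun N hN hNc => ?_⟩
      exact (pResidual_le_iff_quotient D N hD).1 (h.2 _ (hmapN N hN) fun hc => hNc ((hcom N).1 hc))

end Cfsg.Agent.S2828
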