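import Cfsg.Statements.S2829
import Cfsg.Agent.Lib.Basic

set_option autoImplicit false
set_option linter.unusedVariables false
open Cfsg
open scoped commutatorElement

namespace Cfsg.Agent.S2829

open CfsgLib

/-- Every strongly p-irreducible finite group is p-irreducible. -/
theorem result {H : Type*} [Group H] [Finite H] {p : ℕ} [Fact p.Prime] (hH : Cfsg.IsStronglyPIrreducible p H) : Cfsg.IsPIrreducible p H := by
  refine ⟨hH.1, fun N hN hnc => hH.2 N hN fun hle => hnc fun P => ?_⟩
  refine ⟨fun n hn g => ?_⟩
  have h1 : ((pCore p H).subgroupOf N) ≤ (P : Subgroup N) :=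
    le_trans (le_pCore ((isPGroup_pCore (G := H) p).comap_of_injective N.subtype N.subtype_injective))
      (pCore_le_sylow P)
  have h2 : g * n * g⁻¹ * n⁻¹ ∈ (pCore p H).subgroupOf N := by
    rw [Subgroup.mem_subgroupOf]
    refine hle ?_
    simpa [commutatorElement_def] using
      Subgroup.commutator_mem_commutator g.2 (Subgroup.mem_top (n : H))
  simpa using (P : Subgroup N).mul_mem (h1 h2) hn

end Cfsg.Agent.S2829
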