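import Cfsg.Statements.S2830
import Cfsg.Agent.Lib.PResidual

set_option autoImplicit false
set_option linter.unusedVariables false
open Cfsg
open scoped commutatorElement

namespace Cfsg.Agent.S2830

open CfsgLib.PResidual CfsgLib

/-- Let H act by conjugation on the elementary abelian p-subgroup V of a finite group G (H ≤ N(V)), with H p-irreducible and O^p(H) not centralizing V. Then C_H(V) is p-closed and C_T(V) ≤ O_p(H) for every p-subgroup T of H. If in addition O_p(H) centralizes V, then C_T(V) = T ∩ O_p(H) for every p-subgroup T of H, and V is p-reduced for H: O_p(H/C_H(V)) = 1. -/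
theorem result {G : Type*} [Group G] [Finite G] {p : ℕ} [Fact p.Prime] (V H : Subgroup G) (hV : Cfsg.IsElementaryAbelian p V) (hHV : H ≤ Subgroup.normalizer (V : Set G)) (hH : Cfsg.IsPIrreducible p ↥H) (hnc : ¬ (Cfsg.pResidual p ↥H).map H.subtype ≤ Subgroup.centralizer (V : Set G)) [hn : ((Subgroup.centralizer (V : Set G)).subgroupOf H).Normal] : Cfsg.IsPClosed p ↥(H ⊓ Subgroup.centralizer (V : Set G)) ∧ (∀ T : Subgroup G, T ≤ H → IsPGroup p ↥T → T ⊓ Subgroup.centralizer (V : Set G) ≤ Cfsg.pCoreOf p H) ∧ (Cfsg.pCoreOf p H ≤ Subgroup.centralizer (V : Set G) → (∀ T : Subgroup G, T ≤ H → IsPGroup p ↥T → T ⊓ Subgroup.centralizer (V : Set G) = T ⊓ Cfsg.pCoreOf p H) ∧ Cfsg.pCore p (↥H ⧸ (Subgroup.centralizer (V : Set G)).subgroupOf H) = ⊥) := by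
  set C := (Subgroup.centralizer (V : Set G)).subgroupOf H with hC
  set R := Cfsg.pResidual p ↥H
  have hRC : ¬ R ≤ C := fun h => hnc (Subgroup.map_le_iff_le_comap.2 h)
  have hCc : Cfsg.IsPClosed p ↥C := by
    by_contra h
    exact hRC (hH.2 C hn h)
  have hsub : ∀ T : Subgroup G, T ≤ H → IsPGroup p ↥T → T ⊓ Subgroup.centralizer (V : Set G) ≤ Cfsg.pCoreOf p H := by
    intro T hT hTp x hx
    refine ⟨⟨x, hT hx.1⟩, le_pCore_of_normal_isPClosed hCc (Q := T.subgroupOf H ⊓ C) ?_ inf_le_right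
      ⟨Subgroup.mem_subgroupOf.2 hx.1, Subgroup.mem_subgroupOf.2 hx.2⟩, rfl⟩
    exact CfsgLib.Local.isPGroup_of_le inf_le_left (hTp.comap_of_injective H.subtype H.subtype_injective)
  refine ⟨?_, hsub, fun hQV => ⟨fun T hT hTp => le_antisymm (le_inf inf_le_left (hsub T hT hTp))
    (inf_le_inf_left _ hQV), ?_⟩⟩
  · intro P
    set f := Subgroup.inclusion (inf_le_left : H ⊓ Subgroup.centralizer (V : Set G) ≤ H)
    have hP : (P : Subgroup _).map f ≤ Cfsg.pCore p ↥H := by
      refine le_pCore_of_normal_isPClosed hCc (P.2.map f) ?_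
      rintro _ ⟨x, hx, rfl⟩
      exact x.2.2
    have heq : (P : Subgroup _) = (Cfsg.pCore p ↥H).comap f :=
      le_antisymm (Subgroup.map_le_iff_le_comap.1 hP) (P.3 ((isPGroup_pCore (G := ↥H) p).comap_of_injective f
        (Subgroup.inclusion_injective _)) (Subgroup.map_le_iff_le_comap.1 hP)).le
    rw [heq]
    infer_instance
  · set π := QuotientGroup.mk' C
    set N := (Cfsg.pCore p (↥H ⧸ C)).comap π with hN
    have hCN : C ≤ N := by
      intro c hc
      simp [N, π, Subgroup.mem_comap, (QuotientGroup.eq_one_iff c).2 hc]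
    have hNp : ∀ x ∈ N, ∃ k : ℕ, x ^ p ^ k ∈ C := by
      intro x hx
      obtain ⟨k, hk⟩ := isPGroup_pCore (G := ↥H ⧸ C) p ⟨π x, hx⟩
      exact ⟨k, (QuotientGroup.eq_one_iff _).1 (by
        rw [QuotientGroup.mk_pow]; exact congrArg Subtype.val hk)⟩
    refine eq_bot_iff.2 fun y hy => ?_
    induction y using QuotientGroup.induction_on with
    | _ x =>
      rw [Subgroup.mem_bot, QuotientGroup.eq_one_iff]
      by_cases hNc : Cfsg.IsPClosed p ↥N
      · obtain ⟨k, hk⟩ := hNp x hy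
        obtain ⟨l, m, hm, he⟩ := Nat.exists_eq_pow_mul_and_not_dvd (orderOf_pos x).ne' p (Fact.out : p.Prime).ne_one
        have hxm : x ^ m ∈ Cfsg.pCore p ↥H := by
          refine le_pCore_of_normal_isPClosed hNc (Q := Subgroup.zpowers (x ^ m)) ?_
            ((Subgroup.zpowers_le).2 (Subgroup.pow_mem _ hy m)) (Subgroup.mem_zpowers _)
          refine IsPGroup.of_card (n := l) ?_
          rw [Nat.card_zpowers, orderOf_pow_of_dvd (by rintro rfl; simp at hm) (he ▸ dvd_mul_left m _),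
            he, Nat.mul_div_cancel _ (Nat.pos_of_ne_zero (by rintro rfl; simp at hm))]
        have hxmC : x ^ m ∈ C := Subgroup.mem_subgroupOf.2 (hQV ⟨_, hxm, rfl⟩)
        have hco : (p ^ k).Coprime m := ((Fact.out : p.Prime).coprime_iff_not_dvd.2 hm).pow_left k
        have hz : x = (x ^ (p ^ k)) ^ (Nat.gcdA (p ^ k) m) * (x ^ m) ^ (Nat.gcdB (p ^ k) m) := by
          rw [← zpow_natCast x (p ^ k), ← zpow_natCast x m, ← zpow_mul, ← zpow_mul, ← zpow_add,
            ← Nat.gcd_eq_gcd_ab, hco.gcd_eq_one, Nat.cast_one, zpow_one]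
        rw [hz]
        exact C.mul_mem (C.zpow_mem hk _) (C.zpow_mem hxmC _)
      · exfalso
        refine hRC (pResidual_le_of_pow fun z => ?_)
        obtain ⟨k, hk⟩ := pow_mem_pResidual (p := p) z
        obtain ⟨j, hj⟩ := hNp _ (hH.2 N (Subgroup.Normal.comap inferInstance π) hNc hk)
        exact ⟨k + j, by rw [pow_add, pow_mul]; exact hj⟩

end Cfsg.Agent.S2830
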