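import Cfsg.Statements.S2832
import Cfsg.Agent.Lib.PResidual

set_option autoImplicit false
set_option linter.unusedVariables false
open Cfsg
open scoped commutatorElement

namespace Cfsg.Agent.S2832

/-- Let H be a finite group with Sylow p-subgroup T such that H is T-minimal (generated by the conjugates of T, with T in exactly one maximal subgroup), and let N be a normal subgroup of H. Then either H/N is a p-group or H/N is minimal over the image of T in the same sense. -/
theorem result {H : Type*} [Group H] [Finite H] {p : ℕ} [Fact p.Prime] (T : Sylow p H) (hmin : Cfsg.IsMinimalOver (T : Subgroup H)) (N : Subgroup H) [N.Normal] : IsPGroup p (H ⧸ N) ∨ Cfsg.IsMinimalOver ((T : Subgroup H).map (QuotientGroup.mk' N)) := by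
  set π := QuotientGroup.mk' N
  by_cases hTN : (T : Subgroup H) ⊔ N = ⊤
  · left
    intro y
    induction y using QuotientGroup.induction_on with
    | _ x =>
      obtain ⟨k, hk⟩ := CfsgLib.PResidual.pow_mem_sylow_sup T.2 (hTN ▸ Subgroup.mem_top x)
      exact ⟨k, by rw [← QuotientGroup.mk_pow, QuotientGroup.eq_one_iff]; exact hk⟩
  right
  obtain ⟨hncl, M, ⟨hM, hTM⟩, huniq⟩ := hmin
  have hπ : Function.Surjective π := QuotientGroup.mk'_surjective N
  have hNM : N ≤ M := by
    obtain h | ⟨M', hM', hle⟩ := eq_top_or_exists_le_coatom ((T : Subgroup H) ⊔ N)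
    · exact absurd h hTN
    · exact huniq M' ⟨hM', le_sup_left.trans hle⟩ ▸ le_sup_right.trans hle
  have hMc : (M.map π).comap π = M := by
    rw [Subgroup.comap_map_eq, QuotientGroup.ker_mk', sup_eq_left.2 hNM]
  refine ⟨?_, M.map π, ⟨⟨?_, fun K hK => ?_⟩, Subgroup.map_mono hTM⟩, ?_⟩
  · rw [← top_le_iff, ← Subgroup.map_top_of_surjective π hπ, ← hncl, Subgroup.map_le_iff_le_comap]
    refine Subgroup.normalClosure_le_normal fun t ht => ?_
    exact Subgroup.subset_normalClosure ⟨t, ht, rfl⟩
  · intro h
    exact hM.1 (by rw [← hMc, h, Subgroup.comap_top])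
  · have h1 : M < K.comap π := hMc ▸ (Subgroup.comap_lt_comap_of_surjective hπ).2 hK
    rw [← Subgroup.map_comap_eq_self_of_surjective hπ K, hM.2 _ h1, Subgroup.map_top_of_surjective π hπ]
  · rintro K ⟨hK, hTK⟩
    have h1 : IsCoatom (K.comap π) := by
      refine ⟨fun h => hK.1 (by rw [← Subgroup.map_comap_eq_self_of_surjective hπ K, h, Subgroup.map_top_of_surjective π hπ]), fun L hL => ?_⟩
      have hNL : N ≤ L := by
        refine le_trans ?_ hL.le
        intro n hn
        simp [π, Subgroup.mem_comap, (QuotientGroup.eq_one_iff n).2 hn]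
      have hLc : (L.map π).comap π = L := by
        rw [Subgroup.comap_map_eq, QuotientGroup.ker_mk', sup_eq_left.2 hNL]
      have hlt : K < L.map π := (Subgroup.comap_lt_comap_of_surjective hπ).1 (by rwa [hLc])
      rw [← hLc, hK.2 _ hlt, Subgroup.comap_top]
    have h2 := huniq _ ⟨h1, Subgroup.map_le_iff_le_comap.1 hTK⟩
    rw [← h2, Subgroup.map_comap_eq_self_of_surjective hπ]

end Cfsg.Agent.S2832
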