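import Cfsg.Statements.S2833
import Mathlib
import Cfsg.Agent.Lib.Local

set_option autoImplicit false
set_option linter.unusedVariables false
open Cfsg
open scoped commutatorElement

namespace Cfsg.Agent.S2833

/-- Let V be a subgroup of a finite group G normalized by the subgroup L, let X ≤ L and g ∈ L with [V, X, X] = 1 and L generated by X and gXg⁻¹. Put W = [V, L]. Then W = [V, X]·[V, gXg⁻¹], C_W(X) = [V, X], and C_W(L) = [V, X] ∩ [V, gXg⁻¹]. -/
theorem result {G : Type*} [Group G] [Finite G] (V L : Subgroup G) (hLV : L ≤ Subgroup.normalizer (V : Set G)) (X : Subgroup G) (hX : X ≤ L) (g : G) (hg : g ∈ L) (hq : ⁅⁅V, X⁆, X⁆ = ⊥) (hgen : X ⊔ X.map (MulAut.conj g).toMonoidHom = L) (W : Subgroup G) (hW : W = ⁅V, L⁆) : ⁅V, X⁆ ⊔ ⁅V, X.map (MulAut.conj g).toMonoidHom⁆ = W ∧ W ⊓ Subgroup.centralizer (X : Set G) = ⁅V, X⁆ ∧ W ⊓ Subgroup.centralizer (L : Set G) = ⁅V, X⁆ ⊓ ⁅V, X.map (MulAut.conj g).toMonoidHom⁆ := by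
  set Y := X.map (MulAut.conj g).toMonoidHom with hY
  set A := ⁅V, X⁆ with hA
  set B := ⁅V, Y⁆ with hB
  have hYL : Y ≤ L := hgen ▸ le_sup_right
  have hgV : V.map (MulAut.conj g).toMonoidHom = V := CfsgLib.Local.map_conj_eq_of_mem_normalizer (hLV hg)
  have hBA : A.map (MulAut.conj g).toMonoidHom = B := by rw [hA, Subgroup.map_commutator, hgV]
  have hAV : A ≤ V := Subgroup.commutator_le.mpr fun v hv x hx => by
    have h2 := (Subgroup.mem_normalizer_iff.mp (hLV (hX hx)) v⁻¹).mp (V.inv_mem hv)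
    have := V.mul_mem hv h2
    simpa [commutatorElement_def, mul_assoc] using this
  have hBV : B ≤ V := hBA ▸ (hgV ▸ Subgroup.map_mono hAV : A.map (MulAut.conj g).toMonoidHom ≤ V)
  have hAX : ∀ a ∈ A, ∀ x ∈ X, a * x = x * a := fun a ha x hx =>
    commutatorElement_eq_one_iff_mul_comm.mp (Subgroup.mem_bot.mp (hq ▸ Subgroup.commutator_mem_commutator ha hx))
  have hBY : ∀ b ∈ B, ∀ y ∈ Y, b * y = y * b := by
    rw [← hBA]
    rintro _ ⟨a, ha, rfl⟩ _ ⟨x, hx, rfl⟩
    show MulAut.conj g a * MulAut.conj g x = MulAut.conj g x * MulAut.conj g a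
    rw [← map_mul, ← map_mul, hAX a ha x hx]
  have hVA : ∀ {K : Subgroup G}, ∀ v ∈ V, ∀ a ∈ ⁅V, K⁆, v * a * v⁻¹ ∈ ⁅V, K⁆ := by
    intro K v hv a ha
    rw [Subgroup.commutator_def] at ha
    induction ha using Subgroup.closure_induction with
    | mem z hz =>
      obtain ⟨w, hw, k, hk, rfl⟩ := hz
      have := ⁅V, K⁆.mul_mem (Subgroup.commutator_mem_commutator (V.mul_mem hv hw) hk)
        (⁅V, K⁆.inv_mem (Subgroup.commutator_mem_commutator hv hk))
      convert this using 1
      simp only [commutatorElement_def]; group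
    | one => simpa using ⁅V, K⁆.one_mem
    | mul a b _ _ iha ihb =>
      have := ⁅V, K⁆.mul_mem iha ihb
      simpa [mul_assoc] using this
    | inv a _ iha =>
      have := ⁅V, K⁆.inv_mem iha
      simpa [mul_assoc] using this
  set M := A ⊔ B with hM
  have hXn : ∀ x ∈ X, ∀ m ∈ M, x * m * x⁻¹ ∈ M := by
    intro x hx m hm
    refine Subgroup.closure_induction (p := fun z _ => x * z * x⁻¹ ∈ M) ?_ (by simpa using M.one_mem) (fun a b _ _ ha hb => ?_) (fun a _ ha => ?_)
      (show m ∈ Subgroup.closure ((A : Set G) ∪ B) by rwa [Subgroup.closure_union, Subgroup.closure_eq, Subgroup.closure_eq])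
    · rintro z (hz | hz)
      · rw [← hAX z hz x hx, mul_inv_cancel_right]; exact Subgroup.mem_sup_left hz
      · have := M.mul_mem (M.inv_mem (Subgroup.mem_sup_left (T := B) (Subgroup.commutator_mem_commutator (hBV hz) hx))) (Subgroup.mem_sup_right hz)
        simpa [commutatorElement_def, mul_assoc] using this
    · simpa [mul_assoc] using M.mul_mem ha hb
    · simpa [mul_assoc] using M.inv_mem ha
  have hYn : ∀ y ∈ Y, ∀ m ∈ M, y * m * y⁻¹ ∈ M := by
    intro y hy m hm
    refine Subgroup.closure_induction (p := fun z _ => y * z * y⁻¹ ∈ M) ?_ (by simpa using M.one_mem) (fun a b _ _ ha hb => ?_) (fun a _ ha => ?_)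
      (show m ∈ Subgroup.closure ((A : Set G) ∪ B) by rwa [Subgroup.closure_union, Subgroup.closure_eq, Subgroup.closure_eq])
    · rintro z (hz | hz)
      · have := M.mul_mem (M.inv_mem (Subgroup.mem_sup_right (S := A) (Subgroup.commutator_mem_commutator (hAV hz) hy))) (Subgroup.mem_sup_left hz)
        simpa [commutatorElement_def, mul_assoc] using this
      · rw [← hBY z hz y hy, mul_inv_cancel_right]; exact Subgroup.mem_sup_right hz
    · simpa [mul_assoc] using M.mul_mem ha hb
    · simpa [mul_assoc] using M.inv_mem ha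
  have hMW : M = W := by
    refine le_antisymm (hW ▸ sup_le (Subgroup.commutator_mono le_rfl hX) (Subgroup.commutator_mono le_rfl hYL)) ?_
    rw [hW, Subgroup.commutator_le]
    intro v hv l hl
    rw [← hgen] at hl
    suffices h : (∀ w ∈ V, ⁅w, l⁆ ∈ M) ∧ (∀ m ∈ M, l * m * l⁻¹ ∈ M) from h.1 v hv
    refine Subgroup.closure_induction (p := fun z _ => (∀ w ∈ V, ⁅w, z⁆ ∈ M) ∧ (∀ m ∈ M, z * m * z⁻¹ ∈ M)) ?_ ?_ ?_ ?_
      (show l ∈ Subgroup.closure ((X : Set G) ∪ Y) by rwa [Subgroup.closure_union, Subgroup.closure_eq, Subgroup.closure_eq])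
    · rintro z (hz | hz)
      · exact ⟨fun w hw => Subgroup.mem_sup_left (Subgroup.commutator_mem_commutator hw hz), hXn z hz⟩
      · exact ⟨fun w hw => Subgroup.mem_sup_right (Subgroup.commutator_mem_commutator hw hz), hYn z hz⟩
    · exact ⟨fun w _ => by simpa using M.one_mem, fun m hm => by simpa using hm⟩
    · rintro a b _ _ ⟨ha, ha'⟩ ⟨hb, hb'⟩
      refine ⟨fun w hw => ?_, fun m hm => ?_⟩
      · have := M.mul_mem (ha w hw) (ha' _ (hb w hw))
        convert this using 1
        simp only [commutatorElement_def]; group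
      · simpa [mul_assoc] using ha' _ (hb' m hm)
    · rintro a - ⟨ha, ha'⟩
      have hinv : ∀ m ∈ M, a⁻¹ * m * a ∈ M := by
        have hn : a ∈ Subgroup.normalizer (M : Set G) := CfsgLib.Local.mem_normalizer_of_map_conj_eq
          (Subgroup.eq_of_le_of_card_ge (CfsgLib.Local.map_conj_le ha') (Subgroup.card_map_of_injective (MulEquiv.injective (MulAut.conj a))).ge)
        intro m hm
        simpa using (Subgroup.mem_normalizer_iff.mp (Subgroup.inv_mem _ hn) m).mp hm
      refine ⟨fun w hw => ?_, fun m hm => by simpa using hinv m hm⟩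
      have := hinv _ (M.inv_mem (ha w hw))
      convert this using 1
      simp only [commutatorElement_def]; group
  have hprod : ∀ w ∈ M, ∃ a ∈ A, ∃ b ∈ B, w = a * b := by
    intro w hw
    have hn : B ≤ Subgroup.normalizer (A : Set G) := fun b hb => CfsgLib.Local.mem_normalizer_of_map_conj_eq
      (Subgroup.eq_of_le_of_card_ge (CfsgLib.Local.map_conj_le fun a ha => hVA b (hBV hb) a ha) (Subgroup.card_map_of_injective (MulEquiv.injective (MulAut.conj b))).ge)
    rw [hM, ← SetLike.mem_coe, Subgroup.coe_mul_of_right_le_normalizer_left A B hn] at hw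
    obtain ⟨a, ha, b, hb, rfl⟩ := hw
    exact ⟨a, ha, b, hb, rfl⟩
  have hfix : ∀ b, (∀ x ∈ X, b * x = x * b) → (∀ y ∈ Y, b * y = y * b) → g * b * g⁻¹ = b := by
    intro b h1 h2
    have hg' : g ∈ Subgroup.centralizer ({b} : Set G) := by
      have hle : L ≤ Subgroup.centralizer ({b} : Set G) := hgen ▸ sup_le
        (fun x hx => Subgroup.mem_centralizer_singleton_iff.mpr (h1 x hx).symm)
        (fun y hy => Subgroup.mem_centralizer_singleton_iff.mpr (h2 y hy).symm)
      exact hle hg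
    rw [Subgroup.mem_centralizer_singleton_iff.mp hg', mul_inv_cancel_right]
  have hBmem : ∀ b, g * b * g⁻¹ = b → (b ∈ A ↔ b ∈ B) := by
    intro b hb
    constructor
    · intro h; rw [← hBA]; exact ⟨b, h, hb⟩
    · intro h
      rw [← hBA] at h
      obtain ⟨a, ha, e⟩ := h
      have : a = b := (MulAut.conj g).injective (e.trans hb.symm)
      exact this ▸ ha
  have hC : W ⊓ Subgroup.centralizer (X : Set G) = A := by
    refine le_antisymm ?_ (le_inf (hMW ▸ le_sup_left) fun a ha x hx => (hAX a ha x hx).symm)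
    rintro w ⟨hw, hwX⟩
    obtain ⟨a, ha, b, hb, rfl⟩ := hprod w (hMW ▸ hw)
    have hbX : ∀ x ∈ X, b * x = x * b := fun x hx => by
      calc b * x = a⁻¹ * (a * b * x) := by group
        _ = a⁻¹ * (x * (a * b)) := by rw [hwX x hx]
        _ = a⁻¹ * (x * a) * b := by group
        _ = x * b := by rw [← hAX a ha x hx]; group
    exact A.mul_mem ha ((hBmem b (hfix b hbX (hBY b hb))).mpr hb)
  refine ⟨hMW, hC, le_antisymm ?_ ?_⟩
  · rintro w ⟨hw, hwL⟩
    have hwA : w ∈ A := hC ▸ Subgroup.mem_inf.mpr ⟨hw, Subgroup.centralizer_le (show (X : Set G) ⊆ L from hX) hwL⟩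
    have he := hfix w (fun x hx => (hwL x (hX hx)).symm) (fun y hy => (hwL y (hYL hy)).symm)
    exact ⟨hwA, (hBmem w he).mp hwA⟩
  · rintro w ⟨hwA, hwB⟩
    refine ⟨hMW ▸ Subgroup.mem_sup_left hwA, fun l hl => ?_⟩
    have hle : L ≤ Subgroup.centralizer ({w} : Set G) := hgen ▸ sup_le
      (fun x hx => Subgroup.mem_centralizer_singleton_iff.mpr (hAX w hwA x hx).symm)
      (fun y hy => Subgroup.mem_centralizer_singleton_iff.mpr (hBY w hwB y hy).symm)
    exact Subgroup.mem_centralizer_singleton_iff.mp (hle hl)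

end Cfsg.Agent.S2833
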