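import Cfsg.Statements.S2835
import Mathlib
import Cfsg.Agent.Lib.YMax

set_option autoImplicit false
set_option linter.unusedVariables false
open Cfsg
open scoped commutatorElement

namespace Cfsg.Agent.S2835

open CfsgLib

/-- Let L be a finite group, L₀ a maximal subgroup, T a Sylow p-subgroup of L₀ and Y ≤ T, and suppose L is Y-minimal (generated by the conjugates of Y, with Y in exactly one maximal subgroup, necessarily L₀). Then N_L(T) ≤ L₀, O_p(L) ≤ L₀ and T is a Sylow p-subgroup of L; N_L(L₀) = L₀; L = ⟨Y, gYg⁻¹⟩ for each g ∈ L outside L₀; and if Y is abelian then Y ∩ gYg⁻¹ = C_Y(L) for each such g. -/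
theorem result {L : Type*} [Group L] [Finite L] {p : ℕ} [Fact p.Prime] (L₀ : Subgroup L) (hL₀ : IsCoatom L₀) (T : Sylow p ↥L₀) (Y : Subgroup L) (hYT : Y ≤ (T : Subgroup ↥L₀).map L₀.subtype) (hmin : Cfsg.IsMinimalOver Y) : Subgroup.normalizer (((T : Subgroup ↥L₀).map L₀.subtype : Subgroup L) : Set L) ≤ L₀ ∧ Cfsg.pCore p L ≤ L₀ ∧ (∃ P : Sylow p L, (P : Subgroup L) = (T : Subgroup ↥L₀).map L₀.subtype) ∧ Subgroup.normalizer (L₀ : Set L) = L₀ ∧ (∀ g : L, g ∉ L₀ → Y ⊔ Y.map (MulAut.conj g).toMonoidHom = ⊤) ∧ (IsMulCommutative ↥Y → ∀ g : L, g ∉ L₀ → Y ⊓ Y.map (MulAut.conj g).toMonoidHom = Y ⊓ Subgroup.center L) := by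
  set T' := (T : Subgroup ↥L₀).map L₀.subtype with hT'
  have hTL : T' ≤ L₀ := Subgroup.map_subtype_le _
  have hY := hYT.trans hTL
  have hTp : IsPGroup p ↥T' := T.2.map _
  obtain ⟨h1, h3⟩ := YMax.sylow_facts hL₀ hmin hTp hTL hYT fun U hUL hU hTU => by
    have h := T.3 (hU.comap_of_injective L₀.subtype L₀.subtype_injective) fun t ht => hTU ⟨t, ht, rfl⟩
    rw [hT', ← h]
    exact (Subgroup.map_subgroupOf_eq_of_le hUL).symm
  refine ⟨h1, YMax.core_le hL₀ hY hmin (hTp.to_le hYT), h3, YMax.normalizer_eq hL₀ hY hmin,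
    fun g hg => YMax.sup_conj hL₀ hY hmin hg, fun hab g hg => le_antisymm ?_ ?_⟩
  · rintro x ⟨hx, hxg⟩
    refine ⟨hx, Subgroup.mem_center_iff.mpr fun a => ?_⟩
    have htop := YMax.sup_conj hL₀ hY hmin hg
    have hle : (⊤ : Subgroup L) ≤ Subgroup.centralizer ({x} : Set L) := by
      rw [← htop]
      refine sup_le (fun y hy => Subgroup.mem_centralizer_singleton_iff.mpr
        (congrArg Subtype.val (hab.is_comm.comm ⟨y, hy⟩ ⟨x, hx⟩))) ?_
      rintro _ ⟨y, hy, rfl⟩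
      obtain ⟨z, hz, rfl⟩ := hxg
      refine Subgroup.mem_centralizer_singleton_iff.mpr ?_
      rw [← map_mul, ← map_mul]
      exact congrArg (MulAut.conj g).toMonoidHom (congrArg Subtype.val (hab.is_comm.comm ⟨y, hy⟩ ⟨z, hz⟩))
    exact Subgroup.mem_centralizer_singleton_iff.mp (hle (Subgroup.mem_top a))
  · rintro x ⟨hx, hxc⟩
    refine ⟨hx, x, hx, ?_⟩
    show g * x * g⁻¹ = x
    rw [Subgroup.mem_center_iff.mp hxc g, mul_inv_cancel_right]

end Cfsg.Agent.S2835
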