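import Cfsg.Statements.S2836
import Mathlib
import Cfsg.Agent.Lib.YMax

set_option autoImplicit false
set_option linter.unusedVariables false
open Cfsg
open scoped commutatorElement

namespace Cfsg.Agent.S2836

open CfsgLib

/-- Let L be a finite group, L₀ a maximal subgroup, T a Sylow p-subgroup of L₀, Y ≤ T, and suppose L is Y-minimal. Let D be the intersection of the conjugates of L₀ (the core of L₀). Then D contains O_p(L) and D/O_p(L) is the Frattini subgroup of L/O_p(L), so D is p-closed; and every normal subgroup N of L contained in L₀ is p-closed with N/O_p(N) a nilpotent group of order prime to p. -/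
theorem result {L : Type*} [Group L] [Finite L] {p : ℕ} [Fact p.Prime] (L₀ : Subgroup L) (hL₀ : IsCoatom L₀) (T : Sylow p ↥L₀) (Y : Subgroup L) (hYT : Y ≤ (T : Subgroup ↥L₀).map L₀.subtype) (hmin : Cfsg.IsMinimalOver Y) : (Cfsg.pCore p L ≤ L₀.normalCore ∧ (L₀.normalCore).map (QuotientGroup.mk' (Cfsg.pCore p L)) = frattini (L ⧸ Cfsg.pCore p L) ∧ Cfsg.IsPClosed p ↥(L₀.normalCore)) ∧ ∀ (N : Subgroup L) [N.Normal], N ≤ L₀ → Cfsg.IsPClosed p ↥N ∧ Group.IsNilpotent (↥N ⧸ Cfsg.pCore p ↥N) ∧ (Nat.card (↥N ⧸ Cfsg.pCore p ↥N)).Coprime p := by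
  set T' := (T : Subgroup ↥L₀).map L₀.subtype with hT'
  have hY : Y ≤ L₀ := hYT.trans (Subgroup.map_subtype_le _)
  have hYp : IsPGroup p ↥Y := (T.2.map L₀.subtype).to_le hYT
  have hOL : Cfsg.pCore p L ≤ L₀ := YMax.core_le hL₀ hY hmin hYp
  have hpart : ∀ (N : Subgroup L) [N.Normal], N ≤ L₀ → Cfsg.IsPClosed p ↥N ∧ Group.IsNilpotent (↥N ⧸ Cfsg.pCore p ↥N) ∧
      (Nat.card (↥N ⧸ Cfsg.pCore p ↥N)).Coprime p := by
    intro N hN hNL
    have hcl := YMax.isPClosed_of_normal_le hL₀ hY hmin hYp hNL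
    obtain ⟨R⟩ : Nonempty (Sylow p ↥N) := inferInstance
    haveI := hcl R
    have hR : (R : Subgroup ↥N) = Cfsg.pCore p ↥N := le_antisymm (le_pCore R.2) (pCore_le_sylow R)
    have hidx : ¬ p ∣ (Cfsg.pCore p ↥N).index := hR ▸ R.not_dvd_index
    refine ⟨hcl, ?_, Nat.Coprime.symm (((Fact.out : p.Prime).coprime_iff_not_dvd).mpr hidx)⟩
    have hsn : ∀ (q : ℕ) [Fact q.Prime] (Qb : Sylow q (↥N ⧸ Cfsg.pCore p ↥N)), (Qb : Subgroup (↥N ⧸ Cfsg.pCore p ↥N)).Normal := by
      intro q _ Qb
      obtain ⟨Q, hQ⟩ := Sylow.mapSurjective_surjective (QuotientGroup.mk'_surjective (Cfsg.pCore p ↥N)) q Qb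
      subst hQ
      show ((Q : Subgroup ↥N).map (QuotientGroup.mk' _)).Normal
      set Z := ((Q : Subgroup ↥N) ⊔ Cfsg.pCore p ↥N).map N.subtype with hZ
      set X := Subgroup.normalizer (Z : Set L)
      have hQX : Subgroup.normalizer (((Q : Subgroup ↥N).map N.subtype : Subgroup L) : Set L) ≤ X := by
        haveI : (Cfsg.pCore p ↥N).Characteristic := pCore_characteristic p
        haveI : ((Cfsg.pCore p ↥N).map N.subtype).Normal := ConjAct.normal_of_characteristic_of_normal
        refine le_trans (le_inf le_rfl ?_) ((Subgroup.normalizer_inf_normalizer_le_normalizer_sup _ ((Cfsg.pCore p ↥N).map N.subtype)).trans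
          (le_of_eq (by simp only [X, hZ, Subgroup.map_sup])))
        rw [Subgroup.normalizer_eq_top (H := (Cfsg.pCore p ↥N).map N.subtype)]
        exact le_top
      have hsup : X ⊔ N = ⊤ := top_le_iff.mp ((Sylow.normalizer_sup_eq_top Q).ge.trans (sup_le_sup_right hQX N))
      have hidxX : ¬ p ∣ X.index := by
        intro h
        have h1 : X.relIndex N ∣ (Cfsg.pCore p ↥N).index := by
          refine Subgroup.index_dvd_of_le fun r hr => ?_
          exact Subgroup.le_normalizer ⟨r, Subgroup.mem_sup_right hr, rfl⟩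
        have h2 : X.index = X.relIndex N := YMax.index_eq_relIndex hsup
        exact hidx ((h2 ▸ h).trans h1)
      have hXtop : X = ⊤ := by
        by_contra hne
        obtain ⟨g, hg⟩ := YMax.le_conj hL₀ hY hmin hYp hidxX hne
        have hNg : N ≤ L₀.map (MulAut.conj g).toMonoidHom := fun n hn => ⟨g⁻¹ * n * g⁻¹⁻¹, hNL (hN.conj_mem n hn _), by
          show g * (g⁻¹ * n * g⁻¹⁻¹) * g⁻¹ = n
          group⟩
        refine hL₀.1 (Subgroup.eq_top_of_card_eq L₀ ?_)
        rw [← Subgroup.card_map_of_injective (f := (MulAut.conj g).toMonoidHom) (K := L₀) (MulEquiv.injective (MulAut.conj g)),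
          top_le_iff.mp (hsup.ge.trans (sup_le hg hNg)), Subgroup.card_top]
      haveI : Z.Normal := Subgroup.normalizer_eq_top_iff.mp hXtop
      have h3 : ((Q : Subgroup ↥N) ⊔ Cfsg.pCore p ↥N).Normal := by
        rw [← Subgroup.comap_map_eq_self_of_injective N.subtype_injective ((Q : Subgroup ↥N) ⊔ Cfsg.pCore p ↥N)]
        exact Subgroup.Normal.comap (inferInstanceAs Z.Normal) _
      have h4 := Subgroup.Normal.map h3 _ (QuotientGroup.mk'_surjective (Cfsg.pCore p ↥N))
      rwa [Subgroup.map_sup, (Subgroup.map_eq_bot_iff (Cfsg.pCore p ↥N)).mpr (QuotientGroup.ker_mk' _).ge, sup_bot_eq] at h4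
    exact ((Group.isNilpotent_of_finite_tfae (G := ↥N ⧸ Cfsg.pCore p ↥N)).out 0 3).mpr fun q hq Qb => by
      haveI := hq
      exact hsn q Qb
  set K := L₀.normalCore
  have hKL : K ≤ L₀ := Subgroup.normalCore_le L₀
  have hOK : Cfsg.pCore p L ≤ K := Subgroup.normal_le_normalCore.mpr hOL
  refine ⟨⟨hOK, le_antisymm ?_ ?_, (hpart K hKL).1⟩, hpart⟩
  · refine le_iInf₂ fun Mb hMb => ?_
    set π := QuotientGroup.mk' (Cfsg.pCore p L)
    set M := Mb.comap π with hM
    have hOM : Cfsg.pCore p L ≤ M := by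
      intro x hx
      rw [hM, Subgroup.mem_comap, show π x = 1 from (QuotientGroup.eq_one_iff x).mpr hx]
      exact Mb.one_mem
    have hMne : M ≠ ⊤ := by
      intro h
      apply hMb.1
      rw [← Subgroup.map_comap_eq_self_of_surjective (QuotientGroup.mk'_surjective _) Mb, ← hM, h,
        Subgroup.map_top_of_surjective _ (QuotientGroup.mk'_surjective _)]
    rw [Subgroup.map_le_iff_le_comap, ← hM]
    by_contra hKM
    have hsup : M ⊔ K = ⊤ := by
      by_contra h
      obtain ⟨J, hJ, hle⟩ := (eq_top_or_exists_le_coatom (M ⊔ K)).resolve_left h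
      refine hKM ?_
      have h1 : Mb ≤ J.map π := by
        rw [← Subgroup.map_comap_eq_self_of_surjective (QuotientGroup.mk'_surjective _) Mb]
        exact Subgroup.map_mono (le_sup_left.trans hle)
      have h2 : (J.map π).comap π = J := by
        rw [Subgroup.comap_map_eq, QuotientGroup.ker_mk', sup_eq_left.mpr (hOM.trans (le_sup_left.trans hle))]
      rcases h1.eq_or_lt with e | e
      · exact (le_sup_right.trans hle).trans (h2.symm.trans ((congrArg (Subgroup.comap π) e.symm).trans hM.symm)).le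
      · exfalso
        exact hJ.1 (h2.symm.trans (by rw [hMb.2 _ e, Subgroup.comap_top]))
    obtain ⟨hKc, -, hcop⟩ := hpart K hKL
    have hidx : ¬ p ∣ M.index := by
      intro h
      have h1 : M.relIndex K ∣ (Cfsg.pCore p ↥K).index := by
        refine Subgroup.index_dvd_of_le fun r hr => ?_
        haveI : (Cfsg.pCore p ↥K).Characteristic := pCore_characteristic p
        haveI : ((Cfsg.pCore p ↥K).map K.subtype).Normal := ConjAct.normal_of_characteristic_of_normal
        exact hOM (le_pCore (N := (Cfsg.pCore p ↥K).map K.subtype) ((isPGroup_pCore p).map _) ⟨r, hr, rfl⟩)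
      have h2 : M.index = M.relIndex K := YMax.index_eq_relIndex hsup
      exact ((Fact.out : p.Prime).coprime_iff_not_dvd).mp hcop.symm ((h2 ▸ h).trans h1)
    obtain ⟨g, hg⟩ := YMax.le_conj hL₀ hY hmin hYp hidx hMne
    have hKg : K ≤ L₀.map (MulAut.conj g).toMonoidHom := fun n hn => ⟨g⁻¹ * n * g⁻¹⁻¹, hKL ((Subgroup.normalCore_normal L₀).conj_mem n hn _), by
      show g * (g⁻¹ * n * g⁻¹⁻¹) * g⁻¹ = n
      group⟩
    refine hL₀.1 (Subgroup.eq_top_of_card_eq L₀ ?_)
    rw [← Subgroup.card_map_of_injective (f := (MulAut.conj g).toMonoidHom) (K := L₀) (MulEquiv.injective (MulAut.conj g)),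
      top_le_iff.mp (hsup.ge.trans (sup_le hg hKg)), Subgroup.card_top]
  · set π := QuotientGroup.mk' (Cfsg.pCore p L)
    have hco : IsCoatom (L₀.map π) := by
      have hc : (L₀.map π).comap π = L₀ := by
        rw [Subgroup.comap_map_eq, QuotientGroup.ker_mk', sup_eq_left.mpr hOL]
      refine ⟨fun h => hL₀.1 (by rw [← hc, h, Subgroup.comap_top]), fun X hX => ?_⟩
      have h1 : L₀ < X.comap π := by
        rw [← hc]
        exact (Subgroup.comap_lt_comap_of_surjective (QuotientGroup.mk'_surjective _)).mpr hX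
      rw [← Subgroup.map_comap_eq_self_of_surjective (QuotientGroup.mk'_surjective _) X, hL₀.2 _ h1,
        Subgroup.map_top_of_surjective _ (QuotientGroup.mk'_surjective _)]
    haveI : (frattini (L ⧸ Cfsg.pCore p L)).Normal := inferInstance
    set F := (frattini (L ⧸ Cfsg.pCore p L)).comap π
    have hF : F ≤ K := Subgroup.normal_le_normalCore.mpr (by
      refine (Subgroup.comap_mono (frattini_le_coatom hco)).trans ?_
      rw [Subgroup.comap_map_eq, QuotientGroup.ker_mk', sup_eq_left.mpr hOL])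
    conv_lhs => rw [← Subgroup.map_comap_eq_self_of_surjective (QuotientGroup.mk'_surjective _) (frattini (L ⧸ Cfsg.pCore p L))]
    exact Subgroup.map_mono hF

end Cfsg.Agent.S2836
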