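import Cfsg.Statements.S2837
import Mathlib
import Cfsg.Agent.Lib.YMax
import Cfsg.Agent.Lib.LLemma
import Cfsg.Agent.Lib.RankFrattini

set_option autoImplicit false
set_option linter.unusedVariables false
open Cfsg
open scoped commutatorElement

namespace Cfsg.Agent.S2837

open CfsgLib

/-- Let L be a finite group of characteristic p, L₀ a maximal subgroup, Y an elementary abelian p-subgroup of L₀ with L Y-minimal and O_p(L) ≤ N_L(Y). Put A = the normal closure of O_p(L) ∩ Y in L. Then for every g ∈ L outside L₀: Φ(A) = A' = [A ∩ Y, A] = [A ∩ Y, A ∩ gYg⁻¹] ≤ C_Y(L), and Y ∩ gYg⁻¹ = (A ∩ Y) ∩ (A ∩ gYg⁻¹) = C_Y(L) = C_A(L). -/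
theorem result {L : Type*} [Group L] [Finite L] {p : ℕ} [Fact p.Prime] (hchar : Subgroup.centralizer (Cfsg.pCore p L : Set L) ≤ Cfsg.pCore p L) (L₀ : Subgroup L) (hL₀ : IsCoatom L₀) (Y : Subgroup L) (hYL₀ : Y ≤ L₀) (hYel : Cfsg.IsElementaryAbelian p Y) (hmin : Cfsg.IsMinimalOver Y) (hOY : Cfsg.pCore p L ≤ Subgroup.normalizer (Y : Set L)) (A : Subgroup L) (hA : A = Subgroup.normalClosure (((Cfsg.pCore p L ⊓ Y : Subgroup L)) : Set L)) (g : L) (hg : g ∉ L₀) : (frattini ↥A).map A.subtype = ⁅A, A⁆ ∧ ⁅A, A⁆ = ⁅A ⊓ Y, A⁆ ∧ ⁅A ⊓ Y, A⁆ = ⁅A ⊓ Y, A ⊓ Y.map (MulAut.conj g).toMonoidHom⁆ ∧ ⁅A ⊓ Y, A⁆ ≤ Y ⊓ Subgroup.center L ∧ Y ⊓ Y.map (MulAut.conj g).toMonoidHom = Y ⊓ Subgroup.center L ∧ (A ⊓ Y) ⊓ (A ⊓ Y.map (MulAut.conj g).toMonoidHom) = Y ⊓ Subgroup.center L ∧ A ⊓ Subgroup.center L = Y ⊓ Subgroup.center L := by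
  set O := Cfsg.pCore p L with hOdef
  set Yg := Y.map (MulAut.conj g).toMonoidHom with hYg
  have hgen : Y ⊔ Yg = ⊤ := YMax.sup_conj hL₀ hYL₀ hmin hg
  have hab : ∀ a ∈ Y, ∀ b ∈ Y, a * b = b * a := fun a ha b hb => congrArg Subtype.val (hYel.1.is_comm.comm ⟨a, ha⟩ ⟨b, hb⟩)
  have hYp : IsPGroup p ↥Y := fun v => ⟨1, Subtype.ext (by simpa using hYel.2 v v.2)⟩
  have hON : (⊤ : Subgroup L) ≤ Subgroup.normalizer (O : Set L) := by rw [Subgroup.normalizer_eq_top]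
  obtain ⟨q1, q2, q3, q4, q5⟩ := LLemma.quad (Y := Y) (V := O) (L := ⊤) (h := g) hab hgen (Subgroup.mem_top g) hON hOY
  set B := Y ⊓ O with hB
  set Bg := B.map (MulAut.conj g).toMonoidHom with hBg
  have hBg' : Bg = Yg ⊓ O := by
    rw [hBg, hB, Subgroup.map_inf _ _ _ (MulEquiv.injective (MulAut.conj g)),
      Local.map_conj_eq_of_mem_normalizer (hON (Subgroup.mem_top g))]
  have hA' : A = B ⊔ Bg := by
    haveI : (B ⊔ Bg).Normal := Subgroup.normalizer_eq_top_iff.mp (top_le_iff.mp q1)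
    haveI : A.Normal := hA ▸ Subgroup.normalClosure_normal
    refine le_antisymm (hA ▸ Subgroup.normalClosure_le_normal (fun x hx => Subgroup.mem_sup_left ⟨hx.2, hx.1⟩)) (sup_le ?_ ?_)
    · exact fun x hx => hA ▸ Subgroup.subset_normalClosure (s := ((O ⊓ Y : Subgroup L) : Set L)) ⟨hx.2, hx.1⟩
    · rintro _ ⟨x, hx, rfl⟩
      exact (inferInstance : A.Normal).conj_mem x (hA ▸ Subgroup.subset_normalClosure (s := ((O ⊓ Y : Subgroup L) : Set L)) ⟨hx.2, hx.1⟩) g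
  have hAO : A ≤ O := hA' ▸ sup_le inf_le_right (hBg' ▸ inf_le_right)
  have hAY : A ⊓ Y = B := le_antisymm (fun x hx => ⟨hx.2, hAO hx.1⟩) (fun x hx => ⟨hA' ▸ Subgroup.mem_sup_left hx, hx.1⟩)
  have hAYg : A ⊓ Yg = Bg := le_antisymm (fun x hx => hBg' ▸ ⟨hx.2, hAO hx.1⟩)
    (fun x hx => ⟨hA' ▸ Subgroup.mem_sup_right hx, (hBg' ▸ hx : x ∈ Yg ⊓ O).1⟩)
  have hZ : ∀ z, z ∈ Subgroup.center L ↔ z ∈ Subgroup.centralizer ((⊤ : Subgroup L) : Set L) := fun z => by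
    rw [Subgroup.coe_top, Subgroup.centralizer_univ]
  have hBgY : ∀ c ∈ Bg, c ∈ Subgroup.normalizer (Y : Set L) := fun c hc => hOY (hBg' ▸ hc : c ∈ Yg ⊓ O).2
  have hBYg : ∀ b ∈ B, b ∈ Subgroup.normalizer (Yg : Set L) := by
    intro b hb
    have h1 : g⁻¹ * b * g⁻¹⁻¹ ∈ Subgroup.normalizer (Y : Set L) := hOY (Large.conj_mem hON (Subgroup.mem_top g⁻¹) hb.2)
    exact Subgroup.le_normalizer_map (MulAut.conj g).toMonoidHom ⟨_, h1, by
      show g * (g⁻¹ * b * g⁻¹⁻¹) * g⁻¹ = b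
      group⟩
  have hcomm : ∀ b ∈ B, ∀ c ∈ Bg, ⁅b, c⁆ ∈ B ∧ ⁅b, c⁆ ∈ Bg := by
    intro b hb c hc
    have hc' : c ∈ Yg ⊓ O := hBg' ▸ hc
    have hO : ⁅b, c⁆ ∈ O := O.mul_mem (O.mul_mem (O.mul_mem hb.2 hc'.2) (O.inv_mem hb.2)) (O.inv_mem hc'.2)
    refine ⟨⟨?_, hO⟩, hBg' ▸ ⟨?_, hO⟩⟩
    · rw [commutatorElement_def, show b * c * b⁻¹ * c⁻¹ = b * (c * b⁻¹ * c⁻¹) by group]
      exact Y.mul_mem hb.1 (Large.conj_mem le_rfl (hBgY c hc) (Y.inv_mem hb.1))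
    · exact Yg.mul_mem (Large.conj_mem le_rfl (hBYg b hb) hc'.1) (Yg.inv_mem hc'.1)
  have hcen : ∀ b ∈ B, ∀ c ∈ Bg, ⁅b, c⁆ ∈ Subgroup.center L := fun b hb c hc =>
    (hZ _).mpr (q4 _ (hcomm b hb c hc).1 (hcomm b hb c hc).2)
  have habg : ∀ a ∈ Bg, ∀ b ∈ Bg, a * b = b * a := by
    rintro _ ⟨a, ha, rfl⟩ _ ⟨b, hb, rfl⟩
    rw [← map_mul, ← map_mul, hab a ha.1 b hb.1]
  have hBgB : Bg ≤ Subgroup.normalizer (B : Set L) := Large.le_normalizer_of fun c hc b hb =>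
    ⟨Large.conj_mem le_rfl (hBgY c hc) hb.1, Large.conj_mem hON (Subgroup.mem_top c) hb.2⟩
  have hAA : ⁅A, A⁆ ≤ ⁅B, Bg⁆ := by
    refine Subgroup.commutator_le.mpr fun x hx y hy => ?_
    rw [hA', ← SetLike.mem_coe, Subgroup.coe_mul_of_right_le_normalizer_left B Bg hBgB] at hx hy
    obtain ⟨b, hb, c, hc, rfl⟩ := hx
    obtain ⟨b', hb', c', hc', rfl⟩ := hy
    dsimp only
    have k1 : ⁅b, b'⁆ = 1 := commutatorElement_eq_one_iff_mul_comm.mpr (hab b hb.1 b' hb'.1)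
    have k2 : ⁅c, c'⁆ = 1 := commutatorElement_eq_one_iff_mul_comm.mpr (habg c hc c' hc')
    have k3 : ∀ z ∈ Subgroup.center L, ∀ x : L, x * z * x⁻¹ = z := fun z hz x => by
      rw [Subgroup.mem_center_iff.mp hz x, mul_inv_cancel_right]
    rw [show ⁅b * c, b' * c'⁆ = b * (⁅b', c⁆⁻¹ * (b' * ⁅c, c'⁆ * b'⁻¹)) * b⁻¹ * (⁅b, b'⁆ * (b' * ⁅b, c'⁆ * b'⁻¹)) by
        simp only [commutatorElement_def]; group, k1, k2, mul_one, mul_inv_cancel, mul_one, one_mul,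
      k3 _ (Subgroup.inv_mem _ (hcen b' hb' c hc)) b, k3 _ (hcen b hb c' hc') b']
    exact Subgroup.mul_mem _ (Subgroup.inv_mem _ (Subgroup.commutator_mem_commutator hb' hc)) (Subgroup.commutator_mem_commutator hb hc')
  have hAB : ⁅B, Bg⁆ ≤ ⁅B, A⁆ := Subgroup.commutator_mono le_rfl (hA' ▸ le_sup_right)
  have hBA : ⁅B, A⁆ ≤ ⁅A, A⁆ := Subgroup.commutator_mono (hA' ▸ le_sup_left) le_rfl
  have hAp : IsPGroup p ↥A := (isPGroup_pCore (G := L) p).to_le hAO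
  have hd : (Subgroup.map A.subtype (commutator ↥A)) = ⁅A, A⁆ := Subgroup.map_subtype_commutator A
  refine ⟨?_, ?_, ?_, ?_, ?_, ?_, ?_⟩
  · rw [← hd]
    refine congrArg (Subgroup.map A.subtype) (le_antisymm ?_ (commutator_le_frattini_pGroup hAp))
    refine RankFrattini.frattini_le_of_elementary hAp _ (fun a b => Subgroup.commutator_mem_commutator (Subgroup.mem_top a) (Subgroup.mem_top b)) fun a => ?_
    haveI : (commutator ↥A).Normal := inferInstance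
    haveI : IsMulCommutative (↥A ⧸ commutator ↥A) := inferInstanceAs (IsMulCommutative (Abelianization ↥A))
    set π := QuotientGroup.mk' (commutator ↥A)
    have hgen' : ∀ x : ↥A, (x : L) ∈ B ∨ (x : L) ∈ Bg → π x ^ p = 1 := by
      intro x hx
      rw [← map_pow, show x ^ p = 1 from Subtype.ext ?_, map_one]
      rcases hx with hx | hx
      · exact hYel.2 _ hx.1
      · obtain ⟨y, hy, e⟩ := hx
        rw [SubgroupClass.coe_pow, ← e, ← map_pow, hYel.2 y hy.1, map_one]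
        rfl
    have ha := a.2
    simp only [hA', ← SetLike.mem_coe, Subgroup.coe_mul_of_right_le_normalizer_left B Bg hBgB] at ha
    obtain ⟨b, hb, c, hc, e⟩ := ha
    rw [← QuotientGroup.eq_one_iff (N := commutator ↥A), ← QuotientGroup.mk'_apply, map_pow,
      show a = ⟨b, hA' ▸ Subgroup.mem_sup_left hb⟩ * ⟨c, hA' ▸ Subgroup.mem_sup_right hc⟩ from Subtype.ext e.symm,
      map_mul, Commute.mul_pow (show Commute _ _ from IsMulCommutative.is_comm.comm _ _), hgen' _ (Or.inl hb), hgen' _ (Or.inr hc), one_mul]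
  · rw [hAY]; exact le_antisymm (hAA.trans hAB) hBA
  · rw [hAY, hAYg]; exact le_antisymm ((hBA.trans hAA)) hAB
  · rw [hAY]
    refine (hBA.trans hAA).trans (Subgroup.commutator_le.mpr fun b hb c hc => ⟨(hcomm b hb c hc).1.1, hcen b hb c hc⟩)
  · refine le_antisymm ?_ fun x hx => ⟨hx.1, x, hx.1, by
      show g * x * g⁻¹ = x
      rw [Subgroup.mem_center_iff.mp hx.2 g, mul_inv_cancel_right]⟩
    rintro x ⟨hx, y, hy, e⟩
    refine ⟨hx, Subgroup.mem_center_iff.mpr fun a => ?_⟩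
    have hle : (⊤ : Subgroup L) ≤ Subgroup.centralizer ({x} : Set L) := by
      rw [← hgen]
      refine sup_le (fun z hz => Subgroup.mem_centralizer_singleton_iff.mpr (hab z hz x hx)) ?_
      rintro _ ⟨z, hz, rfl⟩
      refine Subgroup.mem_centralizer_singleton_iff.mpr ?_
      rw [← e, ← map_mul, ← map_mul, hab z hz y hy]
    exact Subgroup.mem_centralizer_singleton_iff.mp (hle (Subgroup.mem_top a))
  · rw [hAY, hAYg]
    refine le_antisymm (fun x hx => ⟨hx.1.1, (hZ x).mpr (q4 x hx.1 hx.2)⟩) fun x hx => ?_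
    haveI : (Subgroup.zpowers x).Normal := ⟨fun n hn a => by
      obtain ⟨j, rfl⟩ := hn
      have hc : Commute a x := Subgroup.mem_center_iff.mp hx.2 a
      rw [(hc.zpow_right j).eq, mul_inv_cancel_right]
      exact ⟨j, rfl⟩⟩
    have hxO : x ∈ O := le_pCore (N := Subgroup.zpowers x) (hYp.to_le (Subgroup.zpowers_le.mpr hx.1)) (Subgroup.mem_zpowers x)
    exact ⟨⟨hx.1, hxO⟩, x, ⟨hx.1, hxO⟩, by
      show g * x * g⁻¹ = x
      rw [Subgroup.mem_center_iff.mp hx.2 g, mul_inv_cancel_right]⟩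
  · refine le_antisymm (fun x hx => ⟨(q3 x (hA' ▸ hx.1) ?hc).1, hx.2⟩) fun x hx => ?_
    case hc => exact Subgroup.mem_centralizer_iff.mpr fun y _ => Subgroup.mem_center_iff.mp hx.2 y
    · haveI : (Subgroup.zpowers x).Normal := ⟨fun n hn a => by
        obtain ⟨j, rfl⟩ := hn
        have hc : Commute a x := Subgroup.mem_center_iff.mp hx.2 a
        rw [(hc.zpow_right j).eq, mul_inv_cancel_right]
        exact ⟨j, rfl⟩⟩
      have hxO : x ∈ O := le_pCore (N := Subgroup.zpowers x) (hYp.to_le (Subgroup.zpowers_le.mpr hx.1)) (Subgroup.mem_zpowers x)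
      exact ⟨hA' ▸ Subgroup.mem_sup_left ⟨hx.1, hxO⟩, hx.2⟩

end Cfsg.Agent.S2837
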