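import Cfsg.Statements.S2838
import Cfsg.Agent.Lib.Local

set_option autoImplicit false
set_option linter.unusedVariables false
open Cfsg
open scoped commutatorElement

namespace Cfsg.Agent.S2838

open CfsgLib.Local

theorem le_normalizer_iff_comm {G : Type*} [Group G] {A B : Subgroup G}
    (h : A ≤ Subgroup.normalizer (B : Set G)) : ⁅A, B⁆ ≤ B :=
  Subgroup.commutator_le.2 fun a ha b hb => by
    rw [commutatorElement_def]
    exact B.mul_mem ((Subgroup.mem_normalizer_iff.1 (h ha) b).1 hb) (B.inv_mem hb)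

theorem normalizes_of_comm {G : Type*} [Group G] {A B : Subgroup G}
    (h : ⁅A, B⁆ ≤ B) : A ≤ Subgroup.normalizer (B : Set G) :=
  Subgroup.le_normalizer_iff.2 fun a ha b hb => by
    have := B.mul_mem (h (Subgroup.commutator_mem_commutator ha hb)) hb
    simpa [commutatorElement_def] using this

theorem normalizes_pGroup {G : Type*} [Group G] [Finite G] {p : ℕ} [Fact p.Prime] {Q R : Subgroup G}
    (hR : IsPGroup p R) (hQR : Q ≤ R)
    (h : ∀ n ∈ R, n ∈ Subgroup.normalizer ((R ⊓ Subgroup.normalizer (Q : Set G) : Subgroup G) : Set G) →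
      n ∈ Subgroup.normalizer (Q : Set G)) :
    R ≤ Subgroup.normalizer (Q : Set G) := by
  set K := R ⊓ Subgroup.normalizer (Q : Set G)
  haveI := hR.isNilpotent
  by_contra hne
  have hlt : K.subgroupOf R < ⊤ := by
    refine lt_top_iff_ne_top.2 fun e => hne fun r hr => ?_
    have : (⟨r, hr⟩ : R) ∈ K.subgroupOf R := e ▸ Subgroup.mem_top _
    exact (Subgroup.mem_subgroupOf.1 this).2
  obtain ⟨⟨n, hnR⟩, hn, hnK⟩ := SetLike.exists_of_lt (Group.normalizerCondition_of_isNilpotent _ hlt)
  refine hnK (Subgroup.mem_subgroupOf.2 ⟨hnR, h n hnR (Subgroup.mem_normalizer_iff.2 fun y => ?_)⟩)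
  constructor
  · intro hy
    exact (Subgroup.mem_normalizer_iff.1 hn ⟨y, hy.1⟩).1 hy
  · intro hy
    have hyR : y ∈ R := by
      have := R.mul_mem (R.mul_mem (R.inv_mem hnR) hy.1) hnR
      simpa [mul_assoc] using this
    exact (Subgroup.mem_normalizer_iff.1 hn ⟨y, hyR⟩).2 hy

/-- For a nontrivial p-subgroup Q of a finite group H the following are equivalent: Q is a weakly closed subgroup (it is the only H-conjugate of itself inside some Sylow p-subgroup containing it); Q = P for every conjugate P of Q with [Q, P] ≤ Q ∩ P; Q is normal in N_H(R) for every p-subgroup R of H containing Q. -/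
theorem result {H : Type*} [Group H] [Finite H] {p : ℕ} [Fact p.Prime] (Q : Subgroup H) (hQp : IsPGroup p ↥Q) (hQ1 : Q ≠ ⊥) : (Cfsg.IsWeaklyClosedSubgroup p Q ↔ ∀ g : H, ⁅Q, ((Q : Subgroup H).map (MulAut.conj (g : H)).toMonoidHom)⁆ ≤ Q ⊓ ((Q : Subgroup H).map (MulAut.conj (g : H)).toMonoidHom) → ((Q : Subgroup H).map (MulAut.conj (g : H)).toMonoidHom) = Q) ∧ (Cfsg.IsWeaklyClosedSubgroup p Q ↔ ∀ R : Subgroup H, IsPGroup p ↥R → Q ≤ R → Subgroup.normalizer ((R : Subgroup H) : Set H) ≤ Subgroup.normalizer ((Q : Subgroup H) : Set H)) := by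
  have wc : Cfsg.IsWeaklyClosedSubgroup p Q → ∀ (P : Subgroup H) (g : H), IsPGroup p P → Q ≤ P →
      Q.map (MulAut.conj g).toMonoidHom ≤ P → Q.map (MulAut.conj g).toMonoidHom = Q := by
    rintro ⟨T, hQT, hT⟩ P g hP hQP hgP
    obtain ⟨S, hS⟩ := hP.exists_le_sylow
    obtain ⟨h, hh⟩ := MulAction.exists_smul_eq H S T
    have hST : P.map (MulAut.conj h).toMonoidHom ≤ (T : Subgroup H) := by
      rw [← hh, Sylow.coe_subgroup_smul]; exact Subgroup.map_mono hS
    have h1 := hT h ((Subgroup.map_mono hQP).trans hST)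
    have h2 := hT (h * g) (by rw [← map_conj_mul]; exact (Subgroup.map_mono hgP).trans hST)
    rw [← map_conj_mul] at h2
    exact Subgroup.map_injective (MulEquiv.injective _) (h2.trans h1.symm)
  have hconj : ∀ g : H, IsPGroup p (Q.map (MulAut.conj g).toMonoidHom) := fun g => hQp.map _
  -- (b) implies (c)
  have bc : (∀ g : H, ⁅Q, Q.map (MulAut.conj g).toMonoidHom⁆ ≤ Q ⊓ Q.map (MulAut.conj g).toMonoidHom →
      Q.map (MulAut.conj g).toMonoidHom = Q) → ∀ R : Subgroup H, IsPGroup p R → Q ≤ R →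
      Subgroup.normalizer (R : Set H) ≤ Subgroup.normalizer (Q : Set H) := by
    intro hb
    have mutn : ∀ g : H, Q ≤ Subgroup.normalizer ((Q.map (MulAut.conj g).toMonoidHom : Subgroup H) : Set H) →
        Q.map (MulAut.conj g).toMonoidHom ≤ Subgroup.normalizer (Q : Set H) →
        g ∈ Subgroup.normalizer (Q : Set H) := fun g h1 h2 =>
      mem_normalizer_of_map_conj_eq (hb g (le_inf
        ((Subgroup.commutator_comm Q (Q.map (MulAut.conj g).toMonoidHom)).le.trans (S2838.le_normalizer_iff_comm h2)) (S2838.le_normalizer_iff_comm h1)))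
    have hnorm : ∀ R : Subgroup H, IsPGroup p R → Q ≤ R → R ≤ Subgroup.normalizer (Q : Set H) := by
      intro R hR hQR
      refine S2838.normalizes_pGroup hR hQR fun n _ hn => ?_
      set K := R ⊓ Subgroup.normalizer (Q : Set H)
      have hQK : Q ≤ K := le_inf hQR Subgroup.le_normalizer
      have hKK := map_conj_eq_of_mem_normalizer hn
      refine mutn n ?_ (((Subgroup.map_mono hQK).trans hKK.le).trans inf_le_right)
      refine hQK.trans ?_
      rw [← Subgroup.map_equiv_normalizer_eq, ← hKK]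
      exact Subgroup.map_mono inf_le_right
    intro R hR hQR n hn
    have h1 : Q.map (MulAut.conj n).toMonoidHom ≤ R :=
      (Subgroup.map_mono hQR).trans (map_conj_eq_of_mem_normalizer hn).le
    refine mutn n ?_ (h1.trans (hnorm R hR hQR))
    refine hQR.trans ?_
    rw [← Subgroup.map_equiv_normalizer_eq, ← map_conj_eq_of_mem_normalizer hn]
    exact Subgroup.map_mono (hnorm R hR hQR)
  -- (c) implies weakly closed
  have cw : (∀ R : Subgroup H, IsPGroup p R → Q ≤ R →
      Subgroup.normalizer (R : Set H) ≤ Subgroup.normalizer (Q : Set H)) → Cfsg.IsWeaklyClosedSubgroup p Q := by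
    intro hc
    obtain ⟨T, hT⟩ := hQp.exists_le_sylow
    refine ⟨T, hT, fun g hg => ?_⟩
    have hnorm : ∀ R : Subgroup H, IsPGroup p R → Q ≤ R → R ≤ Subgroup.normalizer (Q : Set H) :=
      fun R hR hQR => S2838.normalizes_pGroup hR hQR fun n _ hn =>
        hc _ (isPGroup_of_le inf_le_left hR) (le_inf hQR Subgroup.le_normalizer) hn
    set T₁ : Sylow p H := g⁻¹ • T with hT₁
    have hT1 : (T₁ : Subgroup H) = (T : Subgroup H).map (MulAut.conj g⁻¹).toMonoidHom := by
      rw [hT₁, Sylow.coe_subgroup_smul]; rfl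
    have hQ1 : Q ≤ (T₁ : Subgroup H) := fun q hq => by
      rw [hT1]
      exact mem_map_conj.2 (hg ⟨q, hq, by simp⟩)
    set M := Subgroup.normalizer (Q : Set H)
    obtain ⟨c, hc'⟩ := MulAction.exists_smul_eq M (T₁.subtype (hnorm _ T₁.2 hQ1)) (T.subtype (hnorm _ T.2 hT))
    have hc'' : (c : H) • T₁ = T := by
      have e := Sylow.smul_subtype (P := T₁) (H := M) (hnorm _ T₁.2 hQ1) c
      rw [hc'] at e
      exact (Sylow.subtype_injective e).symm
    rw [hT₁, smul_smul, Sylow.smul_eq_iff_mem_normalizer] at hc''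
    have hn := hc _ T.2 hT hc''
    have : g⁻¹ ∈ M := by simpa using M.mul_mem (M.inv_mem c.2) hn
    exact map_conj_eq_of_mem_normalizer (by simpa using M.inv_mem this)
  have wb : Cfsg.IsWeaklyClosedSubgroup p Q → ∀ g : H,
      ⁅Q, Q.map (MulAut.conj g).toMonoidHom⁆ ≤ Q ⊓ Q.map (MulAut.conj g).toMonoidHom →
      Q.map (MulAut.conj g).toMonoidHom = Q := by
    intro hw g hg
    have h2 : Q.map (MulAut.conj g).toMonoidHom ≤ Subgroup.normalizer (Q : Set H) :=
      S2838.normalizes_of_comm ((Subgroup.commutator_comm _ Q).le.trans (hg.trans inf_le_left))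
    exact wc hw _ g ((hconj g).to_sup_of_normal_right' hQp h2) le_sup_right le_sup_left
  exact ⟨⟨wb, fun hb => cw (bc hb)⟩, ⟨fun hw => bc (wb hw), cw⟩⟩

end Cfsg.Agent.S2838
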