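import Cfsg.Statements.S2839
import Mathlib
import Cfsg.Agent.Lib.Local
import Cfsg.Agent.Lib.SylowExtra
import Cfsg.Agent.Lib.PComplement

set_option autoImplicit false
set_option linter.unusedVariables false
open Cfsg
open scoped commutatorElement

namespace Cfsg.Agent.S2839


open CfsgLib

theorem wc_unique {H : Type*} [Group H] [Finite H] {p : ℕ} [Fact p.Prime] {Q : Subgroup H}
    (hwc : Cfsg.IsWeaklyClosedSubgroup p Q) {R : Subgroup H} (hR : IsPGroup p ↥R) (hQR : Q ≤ R) {g : H}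
    (hg : Q.map (MulAut.conj g).toMonoidHom ≤ R) : Q.map (MulAut.conj g).toMonoidHom = Q := by
  obtain ⟨T, hQT, hT⟩ := hwc
  obtain ⟨U, hU⟩ := hR.exists_le_sylow
  obtain ⟨h, hh⟩ := MulAction.exists_smul_eq H U T
  have hUT : ∀ w ∈ (U : Subgroup H), h * w * h⁻¹ ∈ (T : Subgroup H) := fun w hw => by
    rw [← hh, Sylow.coe_subgroup_smul]
    exact Subgroup.smul_mem_pointwise_smul w (MulAut.conj h) _ hw
  have h1 : Q.map (MulAut.conj h).toMonoidHom = Q := hT h (Local.map_conj_le fun w hw => hUT w (hU (hQR hw)))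
  have h2 : Q.map (MulAut.conj (h * g)).toMonoidHom = Q := hT (h * g) (by
    rw [← Local.map_conj_mul]
    rintro _ ⟨w, hw, rfl⟩
    exact hUT w (hU (hg hw)))
  have h3 := congrArg (fun K => K.map (MulAut.conj h⁻¹).toMonoidHom) (h2.trans h1.symm)
  simp only [Local.map_conj_mul, inv_mul_cancel_left, inv_mul_cancel] at h3
  rw [h3]
  ext z; simp

theorem wc_conj {H : Type*} [Group H] [Finite H] {p : ℕ} [Fact p.Prime] {Q : Subgroup H} (hQp : IsPGroup p ↥Q)
    (hwc : Cfsg.IsWeaklyClosedSubgroup p Q) {K : Subgroup H} (hQK : Q ≤ K) {g : H}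
    (hg : Q.map (MulAut.conj g).toMonoidHom ≤ K) :
    ∃ k ∈ K, Q.map (MulAut.conj g).toMonoidHom = Q.map (MulAut.conj k).toMonoidHom := by
  obtain ⟨c, hc, P, hP, -, hQP, hgP⟩ := Local.exists_conj_isPGroup hQp (hQp.map _) hQK hg
  rw [Local.map_conj_mul] at hgP
  have h1 := wc_unique hwc hP hQP hgP
  refine ⟨c⁻¹, K.inv_mem hc, ?_⟩
  have h3 := congrArg (fun L => L.map (MulAut.conj c⁻¹).toMonoidHom) h1
  simp only [Local.map_conj_mul, inv_mul_cancel_left] at h3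
  exact h3

theorem wc_normalizes {H : Type*} [Group H] [Finite H] {p : ℕ} [Fact p.Prime] {Q : Subgroup H}
    (hwc : Cfsg.IsWeaklyClosedSubgroup p Q) {R : Subgroup H} (hR : IsPGroup p ↥R) (hQR : Q ≤ R) :
    R ≤ Subgroup.normalizer (Q : Set H) := fun r hr =>
  Local.mem_normalizer_of_map_conj_eq (wc_unique hwc hR hQR (Local.map_conj_le fun w hw =>
    R.mul_mem (R.mul_mem hr (hQR hw)) (R.inv_mem hr)))

/-- Let Q be a nontrivial p-subgroup of the finite group H that is a weakly closed subgroup, K a subgroup containing Q and N a normal subgroup of H. Then Q is a weakly closed subgroup of K; every H-conjugate of Q contained in K is a K-conjugate of Q; N_K(Q) contains a Sylow p-subgroup of K; N = N_N(Q)·O^p(N); and QN/N is a weakly closed subgroup of H/N. -/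
theorem result {H : Type*} [Group H] [Finite H] {p : ℕ} [Fact p.Prime] (Q : Subgroup H) (hQp : IsPGroup p ↥Q) (hQ1 : Q ≠ ⊥) (hwc : Cfsg.IsWeaklyClosedSubgroup p Q) (K : Subgroup H) (hQK : Q ≤ K) (N' : Subgroup H) [N'.Normal] : Cfsg.IsWeaklyClosedSubgroup p (Q.subgroupOf K) ∧ (∀ g : H, ((Q : Subgroup H).map (MulAut.conj (g : H)).toMonoidHom) ≤ K → ∃ k ∈ K, ((Q : Subgroup H).map (MulAut.conj (g : H)).toMonoidHom) = ((Q : Subgroup H).map (MulAut.conj (k : H)).toMonoidHom)) ∧ Cfsg.IsParabolic p ((Subgroup.normalizer ((Q : Subgroup H) : Set H)).subgroupOf K) ∧ (N' ⊓ Subgroup.normalizer ((Q : Subgroup H) : Set H)) ⊔ (Cfsg.pResidual p ↥N').map N'.subtype = N' ∧ Cfsg.IsWeaklyClosedSubgroup p (Q.map (QuotientGroup.mk' N')) := by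
  obtain ⟨T, hQT, hT⟩ := hwc
  have hwc : Cfsg.IsWeaklyClosedSubgroup p Q := ⟨T, hQT, hT⟩
  obtain ⟨R, hR⟩ := (hQp.of_equiv (Subgroup.subgroupOfEquivOfLe hQK).symm : IsPGroup p ↥(Q.subgroupOf K)).exists_le_sylow
  have hQR : Q ≤ (R : Subgroup ↥K).map K.subtype := fun w hw => ⟨⟨w, hQK hw⟩, hR hw, rfl⟩
  have hTN : (T : Subgroup H) ≤ Subgroup.normalizer (Q : Set H) := wc_normalizes hwc T.2 hQT
  refine ⟨⟨R, hR, fun k hk => ?_⟩, fun g hg => wc_conj hQp hwc hQK hg, ⟨R, ?_⟩, ?_, ⟨T.mapSurjective (QuotientGroup.mk'_surjective N'), Subgroup.map_mono hQT, fun z hz => ?_⟩⟩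
  · have h1 : Q.map (MulAut.conj (k : H)).toMonoidHom = Q := wc_unique hwc (R.2.map _) hQR (by
      rintro _ ⟨w, hw, rfl⟩
      exact ⟨k * ⟨w, hQK hw⟩ * k⁻¹, hk ⟨⟨w, hQK hw⟩, hw, rfl⟩, rfl⟩)
    ext w
    rw [Subgroup.mem_map_equiv, Subgroup.mem_subgroupOf, Subgroup.mem_subgroupOf]
    conv_rhs => rw [← h1, Local.mem_map_conj]
    simp [mul_assoc]
  · intro r hr
    exact wc_normalizes hwc (R.2.map _) hQR ⟨r, hr, rfl⟩
  · set P₀ := CfsgLib.sylowInfNormal T N'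
    refine le_antisymm (sup_le inf_le_left (Subgroup.map_subtype_le _)) fun m hm => ?_
    have h1 := CfsgLib.sylow_sup_eq_top_of_pResidual_le P₀ (le_refl (Cfsg.pResidual p ↥N'))
    obtain ⟨o, ho, t, ht, e⟩ := Subgroup.mem_sup_of_normal_left.mp (h1.symm ▸ Subgroup.mem_top (⟨m, hm⟩ : ↥N'))
    rw [show m = (o : H) * t from (congrArg Subtype.val e).symm]
    exact Subgroup.mul_mem _ (Subgroup.mem_sup_right ⟨o, ho, rfl⟩)
      (Subgroup.mem_sup_left (Subgroup.mem_inf.mpr ⟨t.2, hTN ht⟩))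
  · obtain ⟨g, rfl⟩ := QuotientGroup.mk'_surjective N' z
    set K' := (T : Subgroup H) ⊔ N' with hK'
    have hgK : Q.map (MulAut.conj g).toMonoidHom ≤ K' := by
      rintro _ ⟨w, hw, rfl⟩
      obtain ⟨t, ht, e⟩ := hz ⟨QuotientGroup.mk' N' w, ⟨w, hw, rfl⟩, rfl⟩
      have h2 : t⁻¹ * (g * w * g⁻¹) ∈ N' := QuotientGroup.eq.mp (by simpa using e)
      show g * w * g⁻¹ ∈ K'
      rw [show g * w * g⁻¹ = t * (t⁻¹ * (g * w * g⁻¹)) by group]
      exact Subgroup.mul_mem _ (Subgroup.mem_sup_left ht) (Subgroup.mem_sup_right h2)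
    obtain ⟨k, hk, hk'⟩ := wc_conj hQp hwc (hQT.trans le_sup_left) hgK
    obtain ⟨n, hn, t, ht, rfl⟩ := Subgroup.mem_sup_of_normal_left.mp ((sup_comm (T : Subgroup H) N').le hk)
    have hmap : ∀ a : H, (Q.map (QuotientGroup.mk' N')).map (MulAut.conj (QuotientGroup.mk' N' a)).toMonoidHom =
        (Q.map (MulAut.conj a).toMonoidHom).map (QuotientGroup.mk' N') := fun a => by
      rw [Subgroup.map_map, Subgroup.map_map]; congr 1
    rw [hmap, hk', ← Local.map_conj_mul, Local.map_conj_eq_of_mem_normalizer (hTN ht), ← hmap,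
      show QuotientGroup.mk' N' n = 1 from (QuotientGroup.eq_one_iff n).mpr hn]
    ext w; simp

end Cfsg.Agent.S2839
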