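import Cfsg.Statements.S2840
import Cfsg.Agent.S2839

set_option autoImplicit false
set_option linter.unusedVariables false
open Cfsg
open scoped commutatorElement

namespace Cfsg.Agent.S2840

/-- Let Q be a nontrivial p-subgroup of the finite group H that is a weakly closed subgroup and K a subgroup containing Q; let K° be the weak closure of Q in K (generated by the H-conjugates of Q inside K). Then K° is generated by the K-conjugates of Q, and K° is the subnormal closure of Q in K. -/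
theorem result {H : Type*} [Group H] [Finite H] {p : ℕ} [Fact p.Prime] (Q : Subgroup H) (hQp : IsPGroup p ↥Q) (hQ1 : Q ≠ ⊥) (hwc : Cfsg.IsWeaklyClosedSubgroup p Q) (K : Subgroup H) (hQK : Q ≤ K) (Kc : Subgroup H) (hKc : Kc = Cfsg.weakClosure Q K) : Kc = ⨆ k : ↥K, ((Q : Subgroup H).map (MulAut.conj ((k : H) : H)).toMonoidHom) ∧ Kc = (Cfsg.subnormalClosure (Q.subgroupOf K)).map K.subtype := by
  set Kd : Subgroup H := ⨆ k : ↥K, Q.map (MulAut.conj ((k : H))).toMonoidHom with hKd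
  have h1 : Kc = Kd := by
    rw [hKc, Cfsg.weakClosure]
    refine le_antisymm (iSup_le fun g => ?_) (iSup_le fun k => ?_)
    · obtain ⟨k, hk, e⟩ := Cfsg.Agent.S2839.wc_conj hQp hwc hQK g.2
      rw [e]
      exact le_iSup (fun k : ↥K => Q.map (MulAut.conj (k : H)).toMonoidHom) ⟨k, hk⟩
    · exact le_iSup (fun g : {g : H // Q.map (MulAut.conj g).toMonoidHom ≤ K} => Q.map (MulAut.conj (g : H)).toMonoidHom)
        ⟨k, CfsgLib.Local.map_conj_le fun w hw => K.mul_mem (K.mul_mem k.2 (hQK hw)) (K.inv_mem k.2)⟩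
  refine ⟨h1, ?_⟩
  rw [h1]
  have hKdK : Kd ≤ K := iSup_le fun k => CfsgLib.Local.map_conj_le fun w hw => K.mul_mem (K.mul_mem k.2 (hQK hw)) (K.inv_mem k.2)
  have hn : (Kd.subgroupOf K).Normal := ⟨fun a ha b => by
    have hb : (b : H) ∈ Subgroup.normalizer (Kd : Set H) := by
      refine CfsgLib.Local.mem_normalizer_of_map_conj_eq (Subgroup.eq_of_le_of_card_ge ?_
        (Subgroup.card_map_of_injective (MulEquiv.injective (MulAut.conj (b : H)))).ge)
      rw [Subgroup.map_iSup]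
      refine iSup_le fun k => ?_
      rw [CfsgLib.Local.map_conj_mul]
      exact le_iSup (fun k : ↥K => Q.map (MulAut.conj (k : H)).toMonoidHom) (b * k)
    exact (Subgroup.mem_normalizer_iff.mp hb _).mp ha⟩
  refine le_antisymm ?_ ?_
  · have key : ∀ L : Subgroup ↥K, L.IsSubnormal → Q.subgroupOf K ≤ L → Kd ≤ L.map K.subtype := by
      intro L hL
      induction hL with
      | top => intro _ w hw; exact ⟨⟨w, hKdK hw⟩, trivial, rfl⟩
      | step A B hAB hB hAn ih =>
        intro hQA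
        have hBK := ih (hQA.trans hAB)
        refine iSup_le fun k => ?_
        have hQB : Q ≤ B.map K.subtype := fun w hw => ⟨⟨w, hQK hw⟩, hAB (hQA hw), rfl⟩
        obtain ⟨_, ⟨l, hl, rfl⟩, e⟩ := Cfsg.Agent.S2839.wc_conj hQp hwc hQB
          ((le_iSup (fun k : ↥K => Q.map (MulAut.conj (k : H)).toMonoidHom) k).trans hBK)
        rw [e]
        rintro _ ⟨w, hw, rfl⟩
        exact ⟨l * ⟨w, hQK hw⟩ * l⁻¹, hAn.conj_mem ⟨⟨w, hQK hw⟩, hAB (hQA hw)⟩ (hQA hw) ⟨l, hl⟩, rfl⟩
    intro w hw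
    refine ⟨⟨w, hKdK hw⟩, ?_, rfl⟩
    refine Subgroup.mem_sInf.mpr fun L hL => ?_
    obtain ⟨⟨v, hv⟩, hvL, e⟩ := key L hL.2 hL.1 hw
    exact (show (⟨v, hv⟩ : ↥K) = ⟨w, hKdK hw⟩ from Subtype.ext e) ▸ hvL
  · refine (Subgroup.map_mono (sInf_le (s := {L : Subgroup ↥K | Q.subgroupOf K ≤ L ∧ L.IsSubnormal})
      ⟨fun w hw => ?_, Subgroup.Normal.isSubnormal hn⟩)).trans (Subgroup.map_subgroupOf_eq_of_le hKdK).le
    refine le_iSup (fun k : ↥K => Q.map (MulAut.conj (k : H)).toMonoidHom) 1 ⟨w, hw, ?_⟩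
    simp

end Cfsg.Agent.S2840
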