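import Cfsg.Statements.S2841
import Cfsg.Agent.S2839

set_option autoImplicit false
set_option linter.unusedVariables false
open Cfsg
open scoped commutatorElement

namespace Cfsg.Agent.S2841

open CfsgLib Cfsg.Agent.S2839

theorem part_one {H : Type*} [Group H] [Finite H] {p : ℕ} [Fact p.Prime] {Q : Subgroup H} (hQp : IsPGroup p ↥Q)
    (hwc : Cfsg.IsWeaklyClosedSubgroup p Q) (N' : Subgroup H) [N'.Normal] (n : H) (hn : n ∈ N') :
    ∃ a ∈ N' ⊓ Subgroup.normalizer (Q : Set H), ∃ b ∈ ⁅N', Q⁆, n = a * b := by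
  set M := ⁅N', Q⁆ with hM
  have hNM : N' ≤ Subgroup.normalizer (M : Set H) := Subgroup.normalizer_commutator_ge_left N' Q
  have hQM : Q ≤ Subgroup.normalizer (M : Set H) := Subgroup.normalizer_commutator_ge_right N' Q
  have hMN : M ≤ N' := Subgroup.commutator_le_left N' Q
  have hg : Q.map (MulAut.conj n).toMonoidHom ≤ M ⊔ Q := Local.map_conj_le fun q hq => by
    rw [show n * q * n⁻¹ = ⁅n, q⁆ * q by rw [commutatorElement_def]; group]
    exact Subgroup.mul_mem _ (Subgroup.mem_sup_left (Subgroup.commutator_mem_commutator hn hq)) (Subgroup.mem_sup_right hq)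
  obtain ⟨k, hk, e⟩ := wc_conj hQp hwc le_sup_right hg
  rw [← SetLike.mem_coe, Subgroup.coe_mul_of_right_le_normalizer_left M Q hQM] at hk
  obtain ⟨c, hc, q, hq, rfl⟩ := hk
  dsimp only at e
  rw [← Local.map_conj_mul (h := q), Local.map_conj_eq_of_mem_normalizer (Subgroup.le_normalizer hq)] at e
  have ha : c⁻¹ * n ∈ Subgroup.normalizer (Q : Set H) := by
    refine Local.mem_normalizer_of_map_conj_eq ?_
    rw [← Local.map_conj_mul, e, Local.map_conj_mul, inv_mul_cancel]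
    ext w; simp
  have haN : c⁻¹ * n ∈ N' := N'.mul_mem (N'.inv_mem (hMN hc)) hn
  refine ⟨c⁻¹ * n, ⟨haN, ha⟩, (c⁻¹ * n)⁻¹ * c * (c⁻¹ * n), ?_, by group⟩
  have h := (Subgroup.mem_normalizer_iff'.mp (hNM haN) ((c⁻¹ * n)⁻¹ * c)).mpr (by
    rw [mul_inv_cancel_left]; exact hc)
  exact h

/-- Let Q be a nontrivial p-subgroup of the finite group H that is a weakly closed subgroup and N a normal subgroup of H. Then N = N_N(Q)·[N, Q] and [N, Q] = (Q ∩ [N, Q])·[N, Q, Q]. -/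
theorem result {H : Type*} [Group H] [Finite H] {p : ℕ} [Fact p.Prime] (Q : Subgroup H) (hQp : IsPGroup p ↥Q) (hQ1 : Q ≠ ⊥) (hwc : Cfsg.IsWeaklyClosedSubgroup p Q) (N' : Subgroup H) [N'.Normal] : (∀ n : H, n ∈ N' → ∃ a ∈ N' ⊓ Subgroup.normalizer ((Q : Subgroup H) : Set H), ∃ b ∈ ⁅N', Q⁆, n = a * b) ∧ (∀ c : H, c ∈ ⁅N', Q⁆ → ∃ a ∈ Q ⊓ ⁅N', Q⁆, ∃ b ∈ ⁅⁅N', Q⁆, Q⁆, c = a * b) := by
  refine ⟨fun n hn => part_one hQp hwc N' n hn, fun c hc => ?_⟩
  set M := ⁅N', Q⁆ with hM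
  have hQC : Q ⊓ M ≤ Subgroup.normalizer ((⁅M, Q⁆ : Subgroup H) : Set H) :=
    inf_le_left.trans (Subgroup.normalizer_commutator_ge_right M Q)
  have h : M ≤ (Q ⊓ M) ⊔ ⁅M, Q⁆ := by
    refine Subgroup.commutator_le.mpr fun n hn q hq => ?_
    obtain ⟨a, ⟨haN, haQ⟩, b, hb, rfl⟩ := part_one hQp hwc N' n hn
    rw [show ⁅a * b, q⁆ = a * ⁅b, q⁆ * a⁻¹ * ⁅a, q⁆ by simp only [commutatorElement_def]; group]
    refine Subgroup.mul_mem _ (Subgroup.mem_sup_right ?_) (Subgroup.mem_sup_left ⟨?_, Subgroup.commutator_mem_commutator haN hq⟩)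
    · have e : (⁅M, Q⁆).map (MulAut.conj a).toMonoidHom = ⁅M, Q⁆ := by
        rw [Subgroup.map_commutator, Local.map_conj_eq_of_mem_normalizer haQ,
          Local.map_conj_eq_of_mem_normalizer (Subgroup.normalizer_commutator_ge_left N' Q haN)]
      exact e.le ⟨⁅b, q⁆, Subgroup.commutator_mem_commutator hb hq, rfl⟩
    · exact Q.mul_mem ((Subgroup.mem_normalizer_iff.mp haQ q).mp hq) (Q.inv_mem hq)
  have hc' : c ∈ ((Q ⊓ M ⊔ ⁅M, Q⁆ : Subgroup H) : Set H) := h hc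
  rw [Subgroup.coe_mul_of_left_le_normalizer_right _ _ hQC] at hc'
  obtain ⟨x, hx, y, hy, e⟩ := hc'
  exact ⟨x, hx, y, hy, e.symm⟩

end Cfsg.Agent.S2841
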