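import Cfsg.Statements.S2842
import Mathlib
import Cfsg.Agent.S2839
import Cfsg.Agent.Lib.Large

set_option autoImplicit false
set_option linter.unusedVariables false
open Cfsg
open scoped commutatorElement

namespace Cfsg.Agent.S2842

open CfsgLib in
theorem faith {H : Type*} [Group H] [Finite H] {p : ℕ} [Fact p.Prime] (M : Subgroup H)
    (hM : Subgroup.centralizer (Cfsg.pCore p ↥M : Set ↥M) ≤ Cfsg.pCore p ↥M) {x : H} (hx : x ∈ M)
    (hcop : (orderOf x).Coprime p) (h : ∀ r ∈ Cfsg.pCoreOf p M, x * r = r * x) : x = 1 :=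
  congrArg Subtype.val (CharP.eq_one_of_centralizes_pCore (x := (⟨x, hx⟩ : ↥M)) hM
    (by rwa [← Subgroup.orderOf_coe]) fun r hr => Subtype.ext (h r ⟨r, hr, rfl⟩))

/-- Let Q be a nontrivial p-subgroup of the finite group H that is a weakly closed subgroup with C_H(Q) ≤ Q, and Q ≤ L ≤ H. Suppose H has characteristic p, or more generally that C_H(y) has characteristic p for some nonidentity y ∈ C_{O_p(L)}(Q). Then [Q, C_H(O_p(L))] ≤ Q ∩ O_p(L), C_H(O_p(L)) is a p-group, and L has characteristic p. -/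
theorem result {H : Type*} [Group H] [Finite H] {p : ℕ} [Fact p.Prime] (Q : Subgroup H) (hQp : IsPGroup p ↥Q) (hQ1 : Q ≠ ⊥) (hwc : Cfsg.IsWeaklyClosedSubgroup p Q) (hCQ : Subgroup.centralizer ((Q : Subgroup H) : Set H) ≤ Q) (L : Subgroup H) (hQL : Q ≤ L) (hyp : Subgroup.centralizer (Cfsg.pCore p H : Set H) ≤ Cfsg.pCore p H ∨ ∃ y : H, y ≠ 1 ∧ y ∈ (Cfsg.pCoreOf p L) ⊓ Subgroup.centralizer ((Q : Subgroup H) : Set H) ∧ Subgroup.centralizer (Cfsg.pCore p ↥(Subgroup.centralizer ({y} : Set H)) : Set ↥(Subgroup.centralizer ({y} : Set H))) ≤ Cfsg.pCore p ↥(Subgroup.centralizer ({y} : Set H))) : ⁅Q, Subgroup.centralizer (((Cfsg.pCoreOf p L) : Subgroup H) : Set H)⁆ ≤ Q ⊓ (Cfsg.pCoreOf p L) ∧ IsPGroup p ↥(Subgroup.centralizer (((Cfsg.pCoreOf p L) : Subgroup H) : Set H)) ∧ Subgroup.centralizer (Cfsg.pCore p ↥L : Set ↥L) ≤ Cfsg.pCore p ↥L := by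
  have hpwc : CfsgLib.Large.PWC p Q := fun R hR hQR g hg => Cfsg.Agent.S2839.wc_unique hwc hR hQR hg
  refine CfsgLib.Large.core_facts hQp hCQ hQL ?_
  set X := Subgroup.centralizer (Cfsg.pCoreOf p L : Set H)
  obtain ⟨M, hQM, hXM, hM⟩ : ∃ M : Subgroup H, Q ≤ M ∧ X ≤ M ∧
      Subgroup.centralizer (Cfsg.pCore p ↥M : Set ↥M) ≤ Cfsg.pCore p ↥M := by
    rcases hyp with h | ⟨y, hy1, hy, h⟩
    · exact ⟨⊤, le_top, le_top, CfsgLib.CharP.charP_congr Subgroup.topEquiv.symm h⟩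
    · refine ⟨_, ?_, ?_, h⟩
      · intro q hq
        exact Subgroup.mem_centralizer_singleton_iff.mpr (Subgroup.mem_centralizer_iff.mp hy.2 q hq)
      · intro x hx
        exact Subgroup.mem_centralizer_singleton_iff.mpr (Subgroup.mem_centralizer_iff.mp hx y hy.1).symm
  exact CfsgLib.Large.centralizer_le_normalizer_of_action hpwc hQp hQL (Cfsg.pCoreOf p M) ((CfsgLib.isPGroup_pCore p).map _)
    (hQM.trans (CfsgLib.Large.le_normalizer_pCoreOf p M)) (hXM.trans (CfsgLib.Large.le_normalizer_pCoreOf p M))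
    fun x hx hcop h => faith M hM (hXM hx) hcop h

end Cfsg.Agent.S2842
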