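import Cfsg.Statements.S2843
import Mathlib
import Cfsg.Agent.Lib.Large

set_option autoImplicit false
set_option linter.unusedVariables false
open Cfsg
open scoped commutatorElement

namespace Cfsg.Agent.S2843

/-- Let Q be a nontrivial large p-subgroup of the finite group H, Q ≤ L ≤ H, and Y a nontrivial p-subgroup of H normalized by L. Let L° be the weak closure of Q in L (generated by the conjugates of Q inside L). Then L° equals the weak closure of Q in L·C_H(Y), and [L°, C_H(Y)] ≤ O_p(L°); in particular C_H(Y) normalizes L°. -/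
theorem result {H : Type*} [Group H] [Finite H] {p : ℕ} [Fact p.Prime] (Q : Subgroup H) (hQp : IsPGroup p ↥Q) (hQ1 : Q ≠ ⊥) (hL : Cfsg.IsLarge Q) (L : Subgroup H) (hQL : Q ≤ L) (Y : Subgroup H) (hYp : IsPGroup p ↥Y) (hY1 : Y ≠ ⊥) (hLY : L ≤ Subgroup.normalizer ((Y : Subgroup H) : Set H)) : Cfsg.weakClosure Q L = Cfsg.weakClosure Q (L ⊔ Subgroup.centralizer ((Y : Subgroup H) : Set H)) ∧ ⁅Cfsg.weakClosure Q L, Subgroup.centralizer ((Y : Subgroup H) : Set H)⁆ ≤ (Cfsg.pCoreOf p (Cfsg.weakClosure Q L)) ∧ Subgroup.centralizer ((Y : Subgroup H) : Set H) ≤ Subgroup.normalizer (((Cfsg.weakClosure Q L) : Subgroup H) : Set H) := by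
  open CfsgLib in
    have hC := Large.centralizer_le_normalizer_of_large hQp hL hYp hY1 (hQL.trans hLY)
    have hLC : L ≤ Subgroup.normalizer (Subgroup.centralizer (Y : Set H) : Set H) :=
      hLY.trans (CharP.normalizer_le_normalizer_centralizer Y)
    have hwc := Large.pwc_of_large hQp hQ1 hL
    set C := Subgroup.centralizer (Y : Set H)
    set W := Cfsg.weakClosure Q L
    have hCW : C ≤ Subgroup.normalizer (W : Set H) := by
      refine Large.le_normalizer_of fun c hc a ha => ?_
      have h : W.map (MulAut.conj c).toMonoidHom ≤ W := by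
        show (Cfsg.weakClosure Q L).map _ ≤ _
        rw [Cfsg.weakClosure, Subgroup.map_iSup]
        refine iSup_le fun g => ?_
        rw [Local.map_conj_eq_of_mem_normalizer (Large.normalizes_conj hwc hQp hQL hLC hC g.2 hc)]
        exact Large.conj_le_weakClosure g.2
      exact h ⟨a, ha, by simp⟩
    refine ⟨Large.weakClosure_sup hwc hQp hQL hLC hC, ?_, hCW⟩
    set O := Cfsg.pCoreOf p W
    have hWO := Large.le_normalizer_pCoreOf p W
    have key : ∀ a ∈ W, a ∈ W ∧ ∀ c ∈ C, ⁅a, c⁆ ∈ O := by
      intro a ha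
      induction ha using Subgroup.iSup_induction' with
      | hp g a ha =>
        refine ⟨Large.conj_le_weakClosure g.2 ha, fun c hc => ?_⟩
        set Qg := Q.map (MulAut.conj (g : H)).toMonoidHom
        have hcQ : C ≤ Subgroup.normalizer (Qg : Set H) := Large.normalizes_conj hwc hQp hQL hLC hC g.2
        have hK : Qg ⊓ C ≤ O := by
          refine Large.le_pCoreOf_of_normal (K := C ⊓ W) inf_le_right
            (Large.le_normalizer_of fun w hw b hb => ⟨Large.conj_mem ((Large.weakClosure_le L).trans hLC) hw hb.1,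
              W.mul_mem (W.mul_mem hw hb.2) (W.inv_mem hw)⟩)
            (fun b hb => ⟨hb.2, Large.conj_le_weakClosure g.2 hb.1⟩) ?_ ((hQp.map _).to_le inf_le_left)
          exact Large.le_normalizer_of fun k hk b hb => ⟨Large.conj_mem hcQ hk.1 hb.1,
            C.mul_mem (C.mul_mem hk.1 hb.2) (C.inv_mem hk.1)⟩
        refine hK ⟨?_, ?_⟩
        · rw [commutatorElement_def, show a * c * a⁻¹ * c⁻¹ = a * (c * a⁻¹ * c⁻¹) by group]
          exact Qg.mul_mem ha (Large.conj_mem hcQ hc (Qg.inv_mem ha))
        · rw [commutatorElement_def]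
          exact C.mul_mem (Large.conj_mem hLC (g.2 ha) hc) (C.inv_mem hc)
      | h1 => exact ⟨W.one_mem, fun c _ => by simp⟩
      | hmul a b _ _ iha ihb =>
        refine ⟨W.mul_mem iha.1 ihb.1, fun c hc => ?_⟩
        rw [show ⁅a * b, c⁆ = a * ⁅b, c⁆ * a⁻¹ * ⁅a, c⁆ by simp only [commutatorElement_def]; group]
        exact O.mul_mem (Large.conj_mem hWO iha.1 (ihb.2 c hc)) (iha.2 c hc)
    exact Subgroup.commutator_le.mpr fun a ha c hc => (key a ha).2 c hc

end Cfsg.Agent.S2843
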