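import Cfsg.Statements.S2844
import Mathlib
import Cfsg.Agent.Lib.Large

set_option autoImplicit false
set_option linter.unusedVariables false
open Cfsg
open scoped commutatorElement

namespace Cfsg.Agent.S2844

/-- Let Q be a nontrivial large p-subgroup of the finite group H and Q• = O_p(N_H(Q)). Then for every g ∈ H outside N_H(Q): C_H(Q) ∩ C_H(gQg⁻¹) = 1, C_H(Q•) ∩ C_H(gQ•g⁻¹) = 1, Z(Q) ∩ Z(gQg⁻¹) = 1 and Z(Q•) ∩ Z(gQ•g⁻¹) = 1; moreover N_H(Q) = N_H(Q•) and Q• is large in H. -/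
theorem result {H : Type*} [Group H] [Finite H] {p : ℕ} [Fact p.Prime] (Q : Subgroup H) (hQp : IsPGroup p ↥Q) (hQ1 : Q ≠ ⊥) (hL : Cfsg.IsLarge Q) (Qb : Subgroup H) (hQb : Qb = Cfsg.largeBullet p Q) : (∀ g : H, g ∉ Subgroup.normalizer ((Q : Subgroup H) : Set H) → Subgroup.centralizer ((Q : Subgroup H) : Set H) ⊓ Subgroup.centralizer ((((Q : Subgroup H).map (MulAut.conj (g : H)).toMonoidHom) : Subgroup H) : Set H) = ⊥ ∧ Subgroup.centralizer ((Qb : Subgroup H) : Set H) ⊓ Subgroup.centralizer ((((Qb : Subgroup H).map (MulAut.conj (g : H)).toMonoidHom) : Subgroup H) : Set H) = ⊥ ∧ (Q ⊓ Subgroup.centralizer ((Q : Subgroup H) : Set H)) ⊓ (((Q : Subgroup H).map (MulAut.conj (g : H)).toMonoidHom) ⊓ Subgroup.centralizer ((((Q : Subgroup H).map (MulAut.conj (g : H)).toMonoidHom) : Subgroup H) : Set H)) = ⊥ ∧ (Qb ⊓ Subgroup.centralizer ((Qb : Subgroup H) : Set H)) ⊓ (((Qb : Subgroup H).map (MulAut.conj (g : H)).toMonoidHom) ⊓ Subgroup.centralizer ((((Qb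 : Subgroup H).map (MulAut.conj (g : H)).toMonoidHom) : Subgroup H) : Set H)) = ⊥) ∧ Subgroup.normalizer ((Q : Subgroup H) : Set H) = Subgroup.normalizer ((Qb : Subgroup H) : Set H) ∧ Cfsg.IsLarge Qb := by
  open CfsgLib in
    have hwc := Large.pwc_of_large hQp hQ1 hL
    set N := Subgroup.normalizer (Q : Set H)
    haveI : (Q.subgroupOf N).Normal := Subgroup.normal_subgroupOf_of_le_normalizer le_rfl
    have hQQb : Q ≤ Qb := by
      intro q hq
      rw [hQb]
      exact ⟨⟨q, Subgroup.le_normalizer hq⟩, le_pCore (N := Q.subgroupOf N) (hQp.comap_of_injective N.subtype N.subtype_injective) hq, rfl⟩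
    have hbp : IsPGroup p ↥Qb := hQb ▸ (isPGroup_pCore p).map _
    have hN : N = Subgroup.normalizer (Qb : Set H) := by
      refine le_antisymm (hQb ▸ Large.le_normalizer_pCoreOf p N) fun g hg => ?_
      refine Local.mem_normalizer_of_map_conj_eq (hwc Qb hbp hQQb g ?_)
      refine le_trans (Subgroup.map_mono hQQb) ?_
      rw [Local.map_conj_eq_of_mem_normalizer hg]
    have hC : Subgroup.centralizer (Qb : Set H) ≤ Subgroup.centralizer (Q : Set H) :=
      Subgroup.centralizer_le (SetLike.coe_subset_coe.mpr hQQb)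
    refine ⟨fun g hg => ?_, hN, (hC.trans hL.1).trans hQQb, fun U hU hU1 => hN ▸ hL.2 U (hU.trans hC) hU1⟩
    have hne : Q.map (MulAut.conj g).toMonoidHom ≠ Q := fun h => hg (Local.mem_normalizer_of_map_conj_eq h)
    have h1 := Large.inf_centralizer_conj_eq_bot hQp hQ1 hL hne
    have h2 : Subgroup.centralizer (Qb : Set H) ⊓ Subgroup.centralizer ((Qb.map (MulAut.conj g).toMonoidHom : Subgroup H) : Set H) = ⊥ :=
      le_bot_iff.mp (h1 ▸ inf_le_inf hC (Subgroup.centralizer_le (SetLike.coe_subset_coe.mpr (Subgroup.map_mono hQQb))))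
    exact ⟨h1, h2, le_bot_iff.mp (h1 ▸ inf_le_inf inf_le_right inf_le_right), le_bot_iff.mp (h2 ▸ inf_le_inf inf_le_right inf_le_right)⟩

end Cfsg.Agent.S2844
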