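import Cfsg.Statements.S2845
import Mathlib
import Cfsg.Agent.Lib.Large

set_option autoImplicit false
set_option linter.unusedVariables false
open Cfsg
open scoped commutatorElement

namespace Cfsg.Agent.S2845

/-- Let Q be a nontrivial large p-subgroup of the finite group H. Then for every subgroup L ≥ Q with O_p(L) ≠ 1, C_H(O_p(L)) is a p-group and L has characteristic p, and either the weak closure L° of Q in L equals Q or C_H(L°) = 1; for every subgroup R of H containing a Sylow p-subgroup of H with O_p(R) ≠ 1, C_H(O_p(R)) ≤ O_p(R); and H has parabolic characteristic p. -/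
theorem result {H : Type*} [Group H] [Finite H] {p : ℕ} [Fact p.Prime] (Q : Subgroup H) (hQp : IsPGroup p ↥Q) (hQ1 : Q ≠ ⊥) (hL : Cfsg.IsLarge Q) : (∀ L : Subgroup H, Q ≤ L → Cfsg.pCore p ↥L ≠ ⊥ → IsPGroup p ↥(Subgroup.centralizer (((Cfsg.pCoreOf p L) : Subgroup H) : Set H)) ∧ Subgroup.centralizer (Cfsg.pCore p ↥L : Set ↥L) ≤ Cfsg.pCore p ↥L ∧ (Cfsg.weakClosure Q L = Q ∨ Subgroup.centralizer (((Cfsg.weakClosure Q L) : Subgroup H) : Set H) = ⊥)) ∧ (∀ R : Subgroup H, Cfsg.IsParabolic p R → Cfsg.pCore p ↥R ≠ ⊥ → Subgroup.centralizer (((Cfsg.pCoreOf p R) : Subgroup H) : Set H) ≤ (Cfsg.pCoreOf p R)) ∧ Cfsg.IsOfParabolicCharacteristic p H := by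
  open CfsgLib in
    refine ⟨fun L hQL h1 => ?_, fun R hR h1 => Large.centralizer_pCoreOf_le_of_parabolic hQp hL hR h1,
      Large.parabolicCharacteristic_of_large hQp hL⟩
    obtain ⟨-, hX, hc⟩ := Large.large_core_facts hQp hL hQL h1
    refine ⟨hX, hc, or_iff_not_imp_left.mpr fun hne => ?_⟩
    by_cases hall : ∀ g : H, Q.map (MulAut.conj g).toMonoidHom ≤ L → Q.map (MulAut.conj g).toMonoidHom = Q
    · refine absurd (le_antisymm ?_ (Large.le_weakClosure hQL)) hne
      rw [Cfsg.weakClosure]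
      exact iSup_le fun g => (hall g.1 g.2).le
    · push Not at hall
      obtain ⟨g, hg, hgne⟩ := hall
      refine le_bot_iff.mp (Large.inf_centralizer_conj_eq_bot hQp hQ1 hL hgne ▸ le_inf
        (Subgroup.centralizer_le (SetLike.coe_subset_coe.mpr (Large.le_weakClosure hQL)))
        (Subgroup.centralizer_le (SetLike.coe_subset_coe.mpr (Large.conj_le_weakClosure hg))))

end Cfsg.Agent.S2845
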