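import Cfsg.Statements.S2848
import Mathlib
import Cfsg.Agent.Lib.PReducedOf

set_option autoImplicit false
set_option linter.unusedVariables false
open Cfsg
open scoped commutatorElement

namespace Cfsg.Agent.S2848

/-- Standing hypotheses: G a finite group, S a Sylow p-subgroup, Q a nontrivial large p-subgroup of G contained in S (C_G(Q) ≤ Q and N_G(U) ≤ N_G(Q) for all nontrivial U ≤ C_G(Q)), and M a subgroup containing S with the basic property (M ∈ 𝔐_G(S)); Y_M denotes the largest p-reduced normal subgroup of M and M† = M·C_G(Y_M). Then O_p(M) is a weakly closed subgroup of M† (for p): it is the only M†-conjugate of itself inside some Sylow p-subgroup of M† containing it. -/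
theorem result {G : Type*} [Group G] [Finite G] {p : ℕ} [Fact p.Prime] (S : Sylow p G) (Q : Subgroup G) (hQp : IsPGroup p ↥Q) (hQ1 : Q ≠ ⊥) (hQS : Q ≤ (S : Subgroup G)) (hQ : Cfsg.IsLarge Q) (M : Subgroup G) (hSM : (S : Subgroup G) ≤ M) (hM : Cfsg.IsInFrakM p M) : Cfsg.IsWeaklyClosedSubgroup p (((Cfsg.pCoreOf p M)).subgroupOf (M ⊔ Subgroup.centralizer (((Cfsg.largestPReducedOf p M) : Subgroup G) : Set G))) := by
  open CfsgLib in
    obtain ⟨hMc, hmax, huniq, hY, hclosed, hfrat⟩ := hM
    set C := Subgroup.centralizer (Cfsg.largestPReducedOf p M : Set G)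
    set Md := M ⊔ C
    have hSMd : (S : Subgroup G) ≤ Md := hSM.trans le_sup_left
    haveI hCn : (C.subgroupOf Md).Normal :=
      Subgroup.normal_subgroupOf_of_le_normalizer (sup_le (PReducedOf.le_normalizer_centralizer M) Subgroup.le_normalizer)
    have hO : Cfsg.pCoreOf p M = (S : Subgroup G) ⊓ C := by
      refine le_antisymm (le_inf (PReducedOf.pCoreOf_le_sylow S hSM) (PReducedOf.pCoreOf_le_centralizer M)) ?_
      intro x hx
      set K := M ⊓ C
      haveI : (C.subgroupOf M).Normal := Subgroup.normal_subgroupOf_of_le_normalizer (PReducedOf.le_normalizer_centralizer M)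
      obtain ⟨P, hP⟩ := ((S.2.to_le (inf_le_left : (S : Subgroup G) ⊓ C ≤ _)).comap_of_injective K.subtype
        K.subtype_injective).exists_le_sylow
      haveI hPn : (P : Subgroup ↥K).Normal := hclosed P
      set P' := (P : Subgroup ↥K).map K.subtype
      have hbig : ∀ R : Subgroup G, R ≤ K → IsPGroup p ↥R → R ≤ P' := by
        intro R hRK hR r hr
        have h2 := P.3 (P.2.to_sup_of_normal_left (hR.comap_of_injective K.subtype K.subtype_injective)) le_sup_left
        have h3 : (⟨r, hRK hr⟩ : ↥K) ∈ (P : Subgroup ↥K) := h2 ▸ Subgroup.mem_sup_right hr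
        exact ⟨_, h3, rfl⟩
      have hMP : M ≤ Subgroup.normalizer (P' : Set G) := fun m hm => by
        refine Local.mem_normalizer_of_map_conj_eq (Subgroup.eq_of_le_of_card_ge (hbig _ ?_ ((P.2.map _).map _))
          (Subgroup.card_map_of_injective (MulEquiv.injective (MulAut.conj m))).ge)
        refine Local.map_conj_le fun k hk => ?_
        obtain ⟨w, -, rfl⟩ := hk
        exact ⟨M.mul_mem (M.mul_mem hm w.2.1) (M.inv_mem hm),
          (Subgroup.mem_normalizer_iff.mp (PReducedOf.le_normalizer_centralizer M hm) _).mp w.2.2⟩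
      haveI hn : (P'.subgroupOf M).Normal := Subgroup.normal_subgroupOf_of_le_normalizer hMP
      have hPc : P' ≤ Cfsg.pCoreOf p M := by
        intro z hz
        have hzM : z ∈ M := by obtain ⟨w, -, rfl⟩ := hz; exact w.2.1
        exact ⟨⟨z, hzM⟩, le_pCore (N := P'.subgroupOf M) ((P.2.map K.subtype).comap_of_injective M.subtype M.subtype_injective) hz, rfl⟩
      exact hPc ⟨⟨x, hSM hx.1, hx.2⟩, hP hx, rfl⟩
    refine ⟨S.subtype hSMd, fun x hx => ?_, fun g hg => ?_⟩
    · have hx' : (x : G) ∈ Cfsg.pCoreOf p M := hx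
      exact (hO ▸ hx').1
    · have hle : ∀ x ∈ (Cfsg.pCoreOf p M).subgroupOf Md, g * x * g⁻¹ ∈ (Cfsg.pCoreOf p M).subgroupOf Md := by
        intro x hx
        have hx' : (x : G) ∈ Cfsg.pCoreOf p M := hx
        rw [hO] at hx'
        have h1 : g * x * g⁻¹ ∈ (S.subtype hSMd : Subgroup ↥Md) := hg ⟨x, hx, by simp⟩
        have h2 : g * x * g⁻¹ ∈ C.subgroupOf Md := hCn.conj_mem x hx'.2 g
        show ((g * x * g⁻¹ : ↥Md) : G) ∈ Cfsg.pCoreOf p M
        rw [hO]
        exact ⟨h1, h2⟩
      exact Subgroup.eq_of_le_of_card_ge (Local.map_conj_le hle) (Subgroup.card_map_of_injective (MulEquiv.injective (MulAut.conj g))).ge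

end Cfsg.Agent.S2848
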