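import Cfsg.Statements.S2849
import Mathlib
import Cfsg.Agent.Lib.FrakMFacts

set_option autoImplicit false
set_option linter.unusedVariables false
open Cfsg
open scoped commutatorElement

namespace Cfsg.Agent.S2849

open CfsgLib in
theorem elem_of_asym {G : Type*} [Group G] [Finite G] {p : ℕ} [Fact p.Prime] (A R : Subgroup G)
    (hA : Cfsg.IsElementaryAbelian p A) (hasym : ¬ Cfsg.IsSymmetricIn A) (hAR : A ≤ R)
    (hRA : R ≤ Subgroup.normalizer (A : Set G)) :
    Cfsg.IsElementaryAbelian p ((Subgroup.normalClosure ((A.subgroupOf (Subgroup.normalizer (R : Set G)) :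
      Subgroup ↥(Subgroup.normalizer (R : Set G))) : Set ↥(Subgroup.normalizer (R : Set G)))).map
      (Subgroup.normalizer (R : Set G)).subtype) := by
  set N := Subgroup.normalizer (R : Set G)
  set W := ⨆ n : ↥N, A.map (MulAut.conj (n : G)).toMonoidHom with hW
  have hWn : N ≤ Subgroup.normalizer (W : Set G) := fun n hn => by
    refine Local.mem_normalizer_of_map_conj_eq (Subgroup.eq_of_le_of_card_ge ?_
      (Subgroup.card_map_of_injective (MulEquiv.injective (MulAut.conj n))).ge)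
    rw [hW, Subgroup.map_iSup]
    refine iSup_le fun k => ?_
    rw [Local.map_conj_mul]
    exact le_iSup (fun k : ↥N => A.map (MulAut.conj (k : G)).toMonoidHom) (⟨n, hn⟩ * k)
  have hnR : ∀ n ∈ N, A.map (MulAut.conj n).toMonoidHom ≤ R := fun n hn =>
    Local.map_conj_le fun a ha => Large.conj_mem le_rfl hn (hAR ha)
  have hpair : ∀ n ∈ N, A.map (MulAut.conj n).toMonoidHom ≤ Subgroup.centralizer (A : Set G) := fun n hn => by
    refine FrakM.commute_of_asym hasym (Large.le_normalizer_of fun a ha b hb => ?_) ((hnR n hn).trans hRA)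
    have ha' : n⁻¹ * a * n⁻¹⁻¹ ∈ Subgroup.normalizer (A : Set G) := hRA (Large.conj_mem le_rfl (N.inv_mem hn) (hAR ha))
    rw [Local.mem_map_conj] at hb ⊢
    have h := (Subgroup.mem_normalizer_iff.mp ha' _).mp hb
    simpa [mul_assoc] using h
  have hcomm : ∀ n : ↥N, W ≤ Subgroup.centralizer ((A.map (MulAut.conj (n : G)).toMonoidHom : Subgroup G) : Set G) := by
    intro n
    refine iSup_le fun k => ?_
    rintro _ ⟨a, ha, rfl⟩
    refine Subgroup.mem_centralizer_iff.mpr ?_
    rintro _ ⟨b, hb, rfl⟩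
    have h := Subgroup.mem_centralizer_iff.mp (hpair ((n : G)⁻¹ * (k : G)) (N.mul_mem (N.inv_mem n.2) k.2) ⟨a, ha, rfl⟩) b hb
    have h2 := congrArg (fun t => (n : G) * t * (n : G)⁻¹) h
    simpa [mul_assoc] using h2
  have hWC : W ≤ Subgroup.centralizer (W : Set G) := by
    rw [Subgroup.le_centralizer_iff]
    exact iSup_le fun n => (Subgroup.le_centralizer_iff.mp (hcomm n))
  have hWab : ∀ a ∈ W, ∀ b ∈ W, a * b = b * a := fun a ha b hb => Subgroup.mem_centralizer_iff.mp (hWC hb) a ha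
  have hWp : ∀ w ∈ W, w ^ p = 1 := by
    intro w hw
    refine (Subgroup.iSup_induction' (C := fun w _ => w ∈ W ∧ w ^ p = 1) _ ?_ ⟨W.one_mem, one_pow p⟩ ?_ hw).2
    · rintro k _ ⟨a, ha, rfl⟩
      exact ⟨le_iSup (fun k : ↥N => A.map (MulAut.conj (k : G)).toMonoidHom) k ⟨a, ha, rfl⟩,
        by rw [← map_pow, hA.2 a ha, map_one]⟩
    · intro a b _ _ ha hb
      exact ⟨W.mul_mem ha.1 hb.1, by rw [Commute.mul_pow (hWab a ha.1 b hb.1), ha.2, hb.2, one_mul]⟩
  have hle : (Subgroup.normalClosure ((A.subgroupOf N : Subgroup ↥N) : Set ↥N)).map N.subtype ≤ W := by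
    haveI : (W.subgroupOf N).Normal := Subgroup.normal_subgroupOf_of_le_normalizer hWn
    rintro _ ⟨x, hx, rfl⟩
    refine (Subgroup.normalClosure_le_normal (N := W.subgroupOf N) ?_ hx : x ∈ W.subgroupOf N)
    intro a ha
    exact le_iSup (fun k : ↥N => A.map (MulAut.conj (k : G)).toMonoidHom) 1 ⟨a, ha, by simp⟩
  exact ⟨⟨⟨fun a b => Subtype.ext (hWab _ (hle a.2) _ (hle b.2))⟩⟩, fun v hv => hWp v (hle hv)⟩

/-- Standing hypotheses: G a finite group, S a Sylow p-subgroup, Q a nontrivial large p-subgroup of G contained in S (C_G(Q) ≤ Q and N_G(U) ≤ N_G(Q) for all nontrivial U ≤ C_G(Q)), and M a subgroup containing S with the basic property (M ∈ 𝔐_G(S)); Y_M denotes the largest p-reduced normal subgroup of M and M† = M·C_G(Y_M). Suppose Y_M is asymmetric in G. Then for every subgroup R with Y_M ≤ R ≤ M†, the normal closure of Y_M in N_G(R) is elementary abelian. -/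
theorem result {G : Type*} [Group G] [Finite G] {p : ℕ} [Fact p.Prime] (S : Sylow p G) (Q : Subgroup G) (hQp : IsPGroup p ↥Q) (hQ1 : Q ≠ ⊥) (hQS : Q ≤ (S : Subgroup G)) (hQ : Cfsg.IsLarge Q) (M : Subgroup G) (hSM : (S : Subgroup G) ≤ M) (hM : Cfsg.IsInFrakM p M) (hasym : ¬ Cfsg.IsSymmetricIn (Cfsg.largestPReducedOf p M)) (R : Subgroup G) (hYR : (Cfsg.largestPReducedOf p M) ≤ R) (hRM : R ≤ (M ⊔ Subgroup.centralizer (((Cfsg.largestPReducedOf p M) : Subgroup G) : Set G))) : Cfsg.IsElementaryAbelian p ((Subgroup.normalClosure ((((Cfsg.largestPReducedOf p M)).subgroupOf (Subgroup.normalizer ((R : Subgroup G) : Set G)) : Subgroup ↥(Subgroup.normalizer ((R : Subgroup G) : Set G))) : Set ↥(Subgroup.normalizer ((R : Subgroup G) : Set G)))).map (Subgroup.normalizer ((R : Subgroup G) : Set G)).subtype) := by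
  exact elem_of_asym _ R (CfsgLib.PReducedOf.elem M) hasym hYR (hRM.trans (CfsgLib.FrakM.dag_le_normalizer M))

end Cfsg.Agent.S2849
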