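import Cfsg.Statements.S2850
import Mathlib
import Cfsg.Agent.Lib.FrakMFacts

set_option autoImplicit false
set_option linter.unusedVariables false
open Cfsg
open scoped commutatorElement

namespace Cfsg.Agent.S2850

/-- Standing hypotheses: G a finite group, S a Sylow p-subgroup, Q a nontrivial large p-subgroup of G contained in S (C_G(Q) ≤ Q and N_G(U) ≤ N_G(Q) for all nontrivial U ≤ C_G(Q)), and M a subgroup containing S with the basic property (M ∈ 𝔐_G(S)); Y_M denotes the largest p-reduced normal subgroup of M and M† = M·C_G(Y_M). Suppose Y_M is asymmetric in G. Then N_G(L) ≤ N_G(O_p(M)) ≤ M† for every p-subgroup L containing O_p(M); O_p(M) is a weakly closed subgroup of G; for every subgroup L containing O_p(M), L ∩ M† contains a Sylow p-subgroup of L; and two elements of Y_M conjugate in G are conjugate in M. -/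
theorem result {G : Type*} [Group G] [Finite G] {p : ℕ} [Fact p.Prime] (S : Sylow p G) (Q : Subgroup G) (hQp : IsPGroup p ↥Q) (hQ1 : Q ≠ ⊥) (hQS : Q ≤ (S : Subgroup G)) (hQ : Cfsg.IsLarge Q) (M : Subgroup G) (hSM : (S : Subgroup G) ≤ M) (hM : Cfsg.IsInFrakM p M) (hasym : ¬ Cfsg.IsSymmetricIn (Cfsg.largestPReducedOf p M)) : (∀ L : Subgroup G, IsPGroup p ↥L → (Cfsg.pCoreOf p M) ≤ L → Subgroup.normalizer ((L : Subgroup G) : Set G) ≤ Subgroup.normalizer (((Cfsg.pCoreOf p M) : Subgroup G) : Set G) ∧ Subgroup.normalizer (((Cfsg.pCoreOf p M) : Subgroup G) : Set G) ≤ (M ⊔ Subgroup.centralizer (((Cfsg.largestPReducedOf p M) : Subgroup G) : Set G))) ∧ Cfsg.IsWeaklyClosedSubgroup p (Cfsg.pCoreOf p M) ∧ (∀ L : Subgroup G, (Cfsg.pCoreOf p M) ≤ L → Cfsg.IsParabolic p ((L ⊓ (M ⊔ Subgroup.centralizer (((Cfsg.largestPReducedOf p M) : Subgroup G) : Set G))).subgroupOf L)) ∧ (∀ x ∈ (Cfsg.largestPReducedOf p M), ∀ g : G, g * x * g⁻¹ ∈ (Cfsg.largestPReducedOf p M) → ∃ m ∈ M, m * x * m⁻¹ = g *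 x * g⁻¹) := by
  open CfsgLib in
    have hpc := Large.parabolicCharacteristic_of_large hQp hQ
    set Y := Cfsg.largestPReducedOf p M
    set O := Cfsg.pCoreOf p M
    have hwS := FrakM.weakly_closed hpc hSM hM hasym
    have hO1 : O ≠ ⊥ := fun h => hM.1.1 ((Subgroup.map_eq_bot_iff_of_injective _ M.subtype_injective).mp h)
    have hNO : Subgroup.normalizer (O : Set G) ≤ M ⊔ Subgroup.centralizer (Y : Set G) :=
      FrakM.normalizer_le_dag hpc hSM hM (PReducedOf.pCoreOf_isPGroup M) hO1 (Large.le_normalizer_pCoreOf p M)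
    refine ⟨fun L hL hOL => ⟨(FrakM.pgroup_facts hpc hSM hM hasym hL hOL).2.1, hNO⟩, ⟨S, hwS⟩, fun L hOL => ?_, fun x hx g hgx => ?_⟩
    · obtain ⟨P, hP⟩ := ((PReducedOf.pCoreOf_isPGroup M).comap_of_injective L.subtype L.subtype_injective :
        IsPGroup p ↥(O.subgroupOf L)).exists_le_sylow
      have hPO : O ≤ (P : Subgroup ↥L).map L.subtype := fun o ho => ⟨⟨o, hOL ho⟩, hP ho, rfl⟩
      exact ⟨P, fun y hy => ⟨y.2, (FrakM.pgroup_facts hpc hSM hM hasym (P.2.map _) hPO).1 ⟨y, hy, rfl⟩⟩⟩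
    · set y := g * x * g⁻¹
      have h1 : O ≤ Subgroup.centralizer ({y} : Set G) := fun o ho =>
        Subgroup.mem_centralizer_singleton_iff.mpr (PReducedOf.commute_pCoreOf M hgx ho)
      have h2 : O.map (MulAut.conj g).toMonoidHom ≤ Subgroup.centralizer ({y} : Set G) := Local.map_conj_le fun o ho =>
        Subgroup.mem_centralizer_singleton_iff.mpr (by
          have h := congrArg (fun t => g * t * g⁻¹) (PReducedOf.commute_pCoreOf M hx ho)
          simpa [y, mul_assoc] using h)
      obtain ⟨c, hc, P, hP, -, hOP, hgP⟩ := Local.exists_conj_isPGroup (PReducedOf.pCoreOf_isPGroup M)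
        ((PReducedOf.pCoreOf_isPGroup M).map (MulAut.conj g).toMonoidHom) h1 h2
      rw [Local.map_conj_mul] at hgP
      obtain ⟨U, hU⟩ := hP.exists_le_sylow
      obtain ⟨d, hd⟩ := MulAction.exists_smul_eq G U S
      have hdS : ∀ w ∈ (U : Subgroup G), d * w * d⁻¹ ∈ (S : Subgroup G) := fun w hw => by
        rw [← hd, Sylow.coe_subgroup_smul]
        exact Subgroup.smul_mem_pointwise_smul w (MulAut.conj d) _ hw
      have e1 : O.map (MulAut.conj d).toMonoidHom = O := hwS.2 d (Local.map_conj_le fun w hw => hdS w (hU (hOP hw)))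
      have e2 : O.map (MulAut.conj (d * (c * g))).toMonoidHom = O := hwS.2 _ (by
        rw [← Local.map_conj_mul]
        rintro _ ⟨w, hw, rfl⟩
        exact hdS w (hU (hgP hw)))
      have hcg : c * g ∈ M ⊔ Subgroup.centralizer (Y : Set G) := by
        refine hNO ?_
        have := Subgroup.mul_mem _ (Subgroup.inv_mem _ (Local.mem_normalizer_of_map_conj_eq e1)) (Local.mem_normalizer_of_map_conj_eq e2)
        simpa using this
      rw [← SetLike.mem_coe, Subgroup.coe_mul_of_left_le_normalizer_right M _ (PReducedOf.le_normalizer_centralizer M)] at hcg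
      obtain ⟨m, hm, c', hc', e⟩ := hcg
      refine ⟨m, hm, ?_⟩
      dsimp only at e
      have h3 : c * y * c⁻¹ = y := by
        rw [Subgroup.mem_centralizer_singleton_iff.mp hc, mul_inv_cancel_right]
      calc m * x * m⁻¹ = m * (c' * x * c'⁻¹) * m⁻¹ := by
            rw [← Subgroup.mem_centralizer_iff.mp hc' x hx, mul_inv_cancel_right]
        _ = (m * c') * x * (m * c')⁻¹ := by group
        _ = c * y * c⁻¹ := by rw [e]; simp only [y]; group
        _ = g * x * g⁻¹ := h3

end Cfsg.Agent.S2850
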