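import Cfsg.Statements.S2851
import Mathlib
import Cfsg.Agent.Lib.FrakMFacts
import Cfsg.Agent.Lib.Components

set_option autoImplicit false
set_option linter.unusedVariables false
open Cfsg
open scoped commutatorElement

namespace Cfsg.Agent.S2851

open CfsgLib in
theorem quotient_core {D' : Type*} [Group D'] [Finite D'] {p : ℕ} [Fact p.Prime] (A : Subgroup D') [A.Normal]
    (h : A = Subgroup.centralizer (Cfsg.largestPReduced p D' : Set D')) : Cfsg.pCore p (D' ⧸ A) = ⊥ := by
  subst h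
  obtain ⟨_, h⟩ := (PReduced.largest_reduced (L := D') (p := p)).2.2
  exact h

open CfsgLib in
theorem eq_bot_of_fstar {Q : Type*} [Group Q] [Finite Q] {p : ℕ} [Fact p.Prime] (hQ : Cfsg.pCore p Q = ⊥)
    (K : Subgroup Q) (hK : IsPGroup p ↥K)
    (hn : Cfsg.generalizedFittingSubgroup Q ≤ Subgroup.normalizer (K : Set Q)) : K = ⊥ := by
  set F := Cfsg.generalizedFittingSubgroup Q
  have hA : K ⊓ F = ⊥ := by
    haveI : ((K ⊓ F).subgroupOf F).Normal := Subgroup.normal_subgroupOf_of_le_normalizer (Large.le_normalizer_of fun f hf a ha =>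
      ⟨Large.conj_mem hn hf ha.1, F.mul_mem (F.mul_mem hf ha.2) (F.inv_mem hf)⟩)
    refine le_bot_iff.mp (fun a ha => ?_)
    rw [← hQ]
    exact map_pCore_le p F ⟨⟨a, ha.2⟩, le_pCore (N := (K ⊓ F).subgroupOf F) ((hK.to_le inf_le_left).comap_of_injective F.subtype F.subtype_injective) ha, rfl⟩
  refine le_bot_iff.mp fun k hk => ?_
  have hFn : F.Normal := inferInstance
  have hc : k ∈ Subgroup.centralizer (F : Set Q) := Subgroup.mem_centralizer_iff.mpr fun f hf => by
    have h1 : f * k * f⁻¹ * k⁻¹ ∈ K ⊓ F := ⟨K.mul_mem (Large.conj_mem hn hf hk) (K.inv_mem hk), by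
      rw [show f * k * f⁻¹ * k⁻¹ = f * (k * f⁻¹ * k⁻¹) by group]
      exact F.mul_mem hf (hFn.conj_mem _ (F.inv_mem hf) k)⟩
    rw [hA, Subgroup.mem_bot, mul_inv_eq_one, mul_inv_eq_iff_eq_mul] at h1
    exact h1
  exact hA.le ⟨hk, centralizer_generalizedFitting_le hc⟩

/-- Standing hypotheses: G a finite group, S a Sylow p-subgroup, Q a nontrivial large p-subgroup of G contained in S, M a subgroup containing S with the basic property (M ∈ 𝔐_G(S)); Y_M the largest p-reduced normal subgroup of M and M† = M·C_G(Y_M). Let F be the preimage in M† of the generalized Fitting subgroup of M†/C_{M†}(Y_M). If Y_M is asymmetric in G and H is a subgroup of characteristic p containing F, then Y_M ≤ Y_H. -/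
theorem result {G : Type*} [Group G] [Finite G] {p : ℕ} [Fact p.Prime] (S : Sylow p G) (Q : Subgroup G) (hQp : IsPGroup p ↥Q) (hQ1 : Q ≠ ⊥) (hQS : Q ≤ (S : Subgroup G)) (hQ : Cfsg.IsLarge Q) (M : Subgroup G) (hSM : (S : Subgroup G) ≤ M) (hM : Cfsg.IsInFrakM p M) (hasym : ¬ Cfsg.IsSymmetricIn (Cfsg.largestPReducedOf p M)) [hn : ((Subgroup.centralizer (((Cfsg.largestPReducedOf p M) : Subgroup G) : Set G)).subgroupOf (M ⊔ Subgroup.centralizer (((Cfsg.largestPReducedOf p M) : Subgroup G) : Set G))).Normal] (F : Subgroup G) (hF : F = ((Cfsg.generalizedFittingSubgroup (↥(M ⊔ Subgroup.centralizer (((Cfsg.largestPReducedOf p M) : Subgroup G) : Set G)) ⧸ (Subgroup.centralizer (((Cfsg.largestPReducedOf p M) : Subgroup G) : Set G)).subgroupOf (M ⊔ Subgroup.centralizer (((Cfsg.largestPReducedOf p M) : Subgroup G) : Set G)))).comap (QuotientGroup.mk' ((Subgroup.centralizer (((Cfsg.largestPReducedOf p M) : Subgroup G) : Set G)).subgroupOf (M ⊔ Subgroup.centralizer (((Cfsg.largestPReducedOf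 p M) : Subgroup G) : Set G))))).map ((M ⊔ Subgroup.centralizer (((Cfsg.largestPReducedOf p M) : Subgroup G) : Set G))).subtype) (H : Subgroup G) (hFH : F ≤ H) (hH : Subgroup.centralizer (Cfsg.pCore p ↥H : Set ↥H) ≤ Cfsg.pCore p ↥H) : (Cfsg.largestPReducedOf p M) ≤ Cfsg.largestPReducedOf p H := by
  open CfsgLib in
    have hpc := Large.parabolicCharacteristic_of_large hQp hQ
    set Y := Cfsg.largestPReducedOf p M with hYdef
    set C := Subgroup.centralizer (Y : Set G) with hCdef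
    set D := M ⊔ C with hD
    set O := Cfsg.pCoreOf p M
    set π := QuotientGroup.mk' (C.subgroupOf D)
    set Fs := Cfsg.generalizedFittingSubgroup (↥D ⧸ C.subgroupOf D)
    have hYD : Y = Cfsg.largestPReducedOf p D := hM.2.2.2.1
    have hQbot : Cfsg.pCore p (↥D ⧸ C.subgroupOf D) = ⊥ := by
      refine quotient_core _ (Subgroup.ext fun x => ?_)
      rw [Subgroup.mem_subgroupOf, hCdef, hYD]
      exact PReducedOf.mem_centralizer_iff' x
    have hFD : F ≤ D := hF ▸ Subgroup.map_subtype_le _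
    have hCF : C ≤ F := fun c hc => by
      rw [hF]
      refine ⟨⟨c, le_sup_right (α := Subgroup G) hc⟩, ?_, rfl⟩
      show π ⟨c, _⟩ ∈ Fs
      rw [show π ⟨c, le_sup_right (α := Subgroup G) hc⟩ = 1 from (QuotientGroup.eq_one_iff _).mpr hc]
      exact Fs.one_mem
    have hOC : O ≤ C := PReducedOf.pCoreOf_le_centralizer M
    have hOH : O ≤ H := (hOC.trans hCF).trans hFH
    have hcent : ∀ K : Subgroup G, K ≤ D → F ≤ Subgroup.normalizer (K : Set G) →
        (∀ k ∈ K, ∃ n : ℕ, k ^ p ^ n ∈ C) → K ≤ C := by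
      intro K hKD hFK hpow k hk
      have hb : (K.subgroupOf D).map π = ⊥ := by
        refine eq_bot_of_fstar hQbot _ (fun ⟨z, hz⟩ => ?_) (Large.le_normalizer_of fun f hf a ha => ?_)
        · obtain ⟨x, hx, rfl⟩ := hz
          obtain ⟨n, hn⟩ := hpow _ hx
          exact ⟨n, Subtype.ext (by
            show (π x) ^ p ^ n = 1
            rw [← map_pow]; exact (QuotientGroup.eq_one_iff _).mpr (by simpa [Subgroup.mem_subgroupOf] using hn))⟩
        · obtain ⟨x, hx, rfl⟩ := ha
          obtain ⟨g, rfl⟩ := QuotientGroup.mk'_surjective _ f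
          have hgF : (g : G) ∈ F := by rw [hF]; exact ⟨g, hf, rfl⟩
          exact ⟨g * x * g⁻¹, Large.conj_mem hFK hgF hx, by simp [π]⟩
      have h1 : π ⟨k, hKD hk⟩ ∈ (K.subgroupOf D).map π := ⟨⟨k, hKD hk⟩, hk, rfl⟩
      rw [hb, Subgroup.mem_bot] at h1
      exact Subgroup.mem_subgroupOf.mp ((QuotientGroup.eq_one_iff (N := C.subgroupOf D) _).mp h1)
    set P0 := Cfsg.pCoreOf p H
    have hP0p : IsPGroup p ↥P0 := (isPGroup_pCore p).map _
    have hP0O : IsPGroup p ↥(P0 ⊔ O) :=
      hP0p.to_sup_of_normal_left' (PReducedOf.pCoreOf_isPGroup M) (hOH.trans (Large.le_normalizer_pCoreOf p H))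
    have hP0D := le_sup_left.trans (FrakM.pgroup_facts hpc hSM hM hasym hP0O le_sup_right).1
    have hP0C : P0 ≤ C := hcent P0 hP0D (hFH.trans (Large.le_normalizer_pCoreOf p H)) fun k hk => by
      obtain ⟨n, hn⟩ := hP0p ⟨k, hk⟩
      exact ⟨n, by rw [show k ^ p ^ n = 1 from congrArg Subtype.val hn]; exact C.one_mem⟩
    have hP0le : P0 ≤ O := (le_inf le_sup_left hP0C).trans (FrakM.inf_centralizer_eq hSM hM hP0O le_sup_right).le
    have hYH : Y ≤ H := (PReducedOf.le_pCoreOf M).trans hOH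
    have hYW : Y.subgroupOf H ≤ Cfsg.pCore p ↥H ⊓ Subgroup.centralizer (Cfsg.pCore p ↥H : Set ↥H) := by
      intro y hy
      have hc : y ∈ Subgroup.centralizer (Cfsg.pCore p ↥H : Set ↥H) := Subgroup.mem_centralizer_iff.mpr fun r hr =>
        Subtype.ext (PReducedOf.commute_pCoreOf M hy (hP0le ⟨r, hr, rfl⟩))
      exact ⟨hH hc, hc⟩
    set V := Subgroup.normalClosure ((Y.subgroupOf H : Subgroup ↥H) : Set ↥H)
    haveI hVn : V.Normal := Subgroup.normalClosure_normal
    haveI := PReduced.centralizer_normal (Cfsg.pCore p ↥H)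
    haveI := PReduced.centralizer_normal V
    have hVW : V ≤ Cfsg.pCore p ↥H ⊓ Subgroup.centralizer (Cfsg.pCore p ↥H : Set ↥H) :=
      Subgroup.normalClosure_le_normal (SetLike.coe_subset_coe.mpr hYW)
    have hVe : Cfsg.IsElementaryAbelian p V := by
      refine ⟨⟨⟨fun a b => Subtype.ext (PReduced.center_comm (hVW a.2) (hVW b.2))⟩⟩, fun v hv => ?_⟩
      let Z : Subgroup ↥H :=
        { carrier := {x | x ∈ Cfsg.pCore p ↥H ⊓ Subgroup.centralizer (Cfsg.pCore p ↥H : Set ↥H) ∧ x ^ p = 1}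
          one_mem' := ⟨Subgroup.one_mem _, one_pow p⟩
          mul_mem' := fun {a b} ha hb => ⟨Subgroup.mul_mem _ ha.1 hb.1, by
            rw [Commute.mul_pow (PReduced.center_comm ha.1 hb.1), ha.2, hb.2, one_mul]⟩
          inv_mem' := fun {a} ha => ⟨Subgroup.inv_mem _ ha.1, by rw [inv_pow, ha.2, inv_one]⟩ }
      haveI : Z.Normal := ⟨fun n hn g => ⟨Subgroup.Normal.conj_mem inferInstance n hn.1 g, by
        rw [conj_pow, hn.2, mul_one, mul_inv_cancel]⟩⟩
      have h : V ≤ Z := Subgroup.normalClosure_le_normal fun y hy => ⟨hYW hy, Subtype.ext (by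
        rw [SubmonoidClass.coe_pow]; exact (PReducedOf.elem M).2 _ hy)⟩
      exact (h hv).2
    have hred : Cfsg.IsPReducedNormal p V := by
      refine PReduced.iff_forall.mpr ⟨hVn, hVe, fun K hK hKp => PReduced.normalClosure_le_centralizer ?_⟩
      haveI := hK
      have hCV : Subgroup.centralizer (V : Set ↥H) ≤ Subgroup.centralizer ((Y.subgroupOf H : Subgroup ↥H) : Set ↥H) :=
        Subgroup.centralizer_le (SetLike.coe_subset_coe.mpr Subgroup.le_normalClosure)
      obtain ⟨P, hP⟩ := ((PReducedOf.pCoreOf_isPGroup M).comap_of_injective H.subtype H.subtype_injective :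
        IsPGroup p ↥(O.subgroupOf H)).exists_le_sylow
      have hPD := (FrakM.pgroup_facts hpc hSM hM hasym (P.2.map H.subtype) (fun o ho => ⟨⟨o, hOH ho⟩, hP ho, rfl⟩)).1
      refine (PReduced.le_inf_sup K (Subgroup.centralizer (V : Set ↥H)) P hKp).trans (sup_le ?_ hCV)
      have hKC : K.map H.subtype ⊓ D ≤ C := by
        refine hcent _ inf_le_right (Large.le_normalizer_of fun f hf a ha => ⟨?_, D.mul_mem (D.mul_mem (hFD hf) ha.2) (D.inv_mem (hFD hf))⟩) ?_
        · obtain ⟨x, hx, rfl⟩ := ha.1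
          exact ⟨⟨f, hFH hf⟩ * x * ⟨f, hFH hf⟩⁻¹, hK.conj_mem x hx _, rfl⟩
        · rintro k ⟨⟨x, hx, rfl⟩, -⟩
          refine (hKp x hx).imp fun n hn => Subgroup.mem_centralizer_iff.mpr fun y hy => ?_
          simpa using congrArg Subtype.val (Subgroup.mem_centralizer_iff.mp (hCV hn) ⟨y, hYH hy⟩ hy)
      intro x hx
      have h1 := hKC ⟨⟨x, hx.2, rfl⟩, hPD ⟨x, hx.1, rfl⟩⟩
      exact Subgroup.mem_centralizer_iff.mpr fun y hy => Subtype.ext (Subgroup.mem_centralizer_iff.mp h1 y hy)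
    intro y hy
    exact ⟨⟨y, hYH hy⟩, PReduced.le_largest hred (Subgroup.subset_normalClosure hy), rfl⟩

end Cfsg.Agent.S2851
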