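import Cfsg.Statements.S2852
import Mathlib
import Cfsg.Agent.Lib.FrakMFacts
import Cfsg.Agent.Lib.CharP

set_option autoImplicit false
set_option linter.unusedVariables false
open Cfsg
open scoped commutatorElement

namespace Cfsg.Agent.S2852

/-- Standing hypotheses: G a finite group, S a Sylow p-subgroup, Q a nontrivial large p-subgroup of G contained in S, M a subgroup containing S with the basic property (M ∈ 𝔐_G(S)); Y_M the largest p-reduced normal subgroup of M. If Y_M is char-p-tall and asymmetric in G, then some subgroup H of G lies in ℌ_G(O_p(M)): H has characteristic p, O_p(M) ≤ H, Y_M ≰ O_p(H), and Y_M ≤ O_p(P) for every proper subgroup P of H containing O_p(M). -/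
theorem result {G : Type*} [Group G] [Finite G] {p : ℕ} [Fact p.Prime] (S : Sylow p G) (Q : Subgroup G) (hQp : IsPGroup p ↥Q) (hQ1 : Q ≠ ⊥) (hQS : Q ≤ (S : Subgroup G)) (hQ : Cfsg.IsLarge Q) (M : Subgroup G) (hSM : (S : Subgroup G) ≤ M) (hM : Cfsg.IsInFrakM p M) (htall : Cfsg.IsCharPTall p (Cfsg.largestPReducedOf p M)) (hasym : ¬ Cfsg.IsSymmetricIn (Cfsg.largestPReducedOf p M)) : ∃ H : Subgroup G, Cfsg.IsInFrakH p M H := by
  open CfsgLib in
    have hpc := Large.parabolicCharacteristic_of_large hQp hQ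
    classical
    set Y := Cfsg.largestPReducedOf p M
    set C := Subgroup.centralizer (Y : Set G)
    set O := Cfsg.pCoreOf p M
    obtain ⟨T, L, hTL, hLc, hYL⟩ := htall
    obtain ⟨⟨P, hP⟩, -⟩ := Cfsg.Agent.S2821.result S M hSM (Cfsg.Agent.S2847.charP_of_mem hM.1) _ rfl
    obtain ⟨c, hc⟩ := MulAction.exists_smul_eq ↥C T P
    set L' := L.map (MulAut.conj (c : G)).toMonoidHom with hL'
    have hOL : O ≤ L' := by
      intro o ho
      have ho' : (⟨o, PReducedOf.pCoreOf_le_centralizer M ho⟩ : ↥C) ∈ (P : Subgroup ↥C) := by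
        rw [hP]; exact (FrakM.O_eq hSM hM).le ho
      rw [← hc, Sylow.coe_subgroup_smul] at ho'
      obtain ⟨t, ht, e⟩ := ho'
      exact ⟨t, hTL ⟨t, ht, rfl⟩, congrArg Subtype.val e⟩
    let e : ↥L ≃* ↥L' := Subgroup.equivMapOfInjective L _ (MulAut.conj (c : G)).injective
    have hL'c : Subgroup.centralizer (Cfsg.pCore p ↥L' : Set ↥L') ≤ Cfsg.pCore p ↥L' := CharP.charP_congr e hLc
    have hYL' : ¬ Y ≤ Cfsg.pCoreOf p L' := by
      intro h
      refine hYL fun y hy => ?_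
      obtain ⟨z, hz, ez⟩ := h hy
      rw [← pCore_map_equiv p e] at hz
      obtain ⟨w, hw, rfl⟩ := hz
      refine ⟨w, hw, ?_⟩
      have hcy : (c : G) * y * (c : G)⁻¹ = y := by
        rw [← Subgroup.mem_centralizer_iff.mp c.2 y hy, mul_inv_cancel_right]
      exact (MulAut.conj (c : G)).injective (by
        show (c : G) * (w : G) * (c : G)⁻¹ = (c : G) * y * (c : G)⁻¹
        rw [hcy]; exact ez)
    set s : Set (Subgroup G) := {X | O ≤ X ∧ Subgroup.centralizer (Cfsg.pCore p ↥X : Set ↥X) ≤ Cfsg.pCore p ↥X ∧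
      ¬ Y ≤ Cfsg.pCoreOf p X}
    obtain ⟨H, ⟨hOH, hHc, hYH⟩, hmin⟩ := Set.exists_min_image s (fun X => Nat.card ↥X) s.toFinite ⟨L', hOL, hL'c, hYL'⟩
    refine ⟨H, hHc, hOH, hYH, fun P' hOP hlt => ?_⟩
    by_contra hYP
    obtain ⟨T', hT'⟩ := ((PReducedOf.pCoreOf_isPGroup M).comap_of_injective H.subtype H.subtype_injective :
      IsPGroup p ↥(O.subgroupOf H)).exists_le_sylow
    have hn := (FrakM.pgroup_facts hpc hSM hM hasym (T'.2.map H.subtype) (fun o ho => ⟨⟨o, hOH ho⟩, hT' ho, rfl⟩)).2.1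
    have hc2 := CharP.charP_of_sylow_le hHc T' (O.subgroupOf H) hT'
      (fun t ht => Large.le_normalizer_of (K := (T' : Subgroup ↥H)) (fun t ht a ha =>
        Large.conj_mem (Subgroup.le_normalizer.trans hn) (⟨t, ht, rfl⟩ : (t : G) ∈ (T' : Subgroup ↥H).map H.subtype) ha) ht)
      (fun x hx => hM.1.2 (Subgroup.mem_centralizer_iff.mpr fun o ho =>
        congrArg Subtype.val (Subgroup.mem_centralizer_iff.mp hx.2 (⟨o, hOH ho⟩ : ↥H) ho)))
      (P'.subgroupOf H) (fun o ho => hOP ho)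
    have h := hmin P' ⟨hOP, CharP.charP_congr (Subgroup.subgroupOfEquivOfLe hlt.le) hc2, hYP⟩
    exact hlt.ne (Subgroup.eq_of_le_of_card_ge hlt.le h)

end Cfsg.Agent.S2852
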