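import Cfsg.Statements.S2853
import Mathlib
import Cfsg.Agent.Lib.FrakH

set_option autoImplicit false
set_option linter.unusedVariables false
open Cfsg
open scoped commutatorElement

namespace Cfsg.Agent.S2853

/-- Standing hypotheses: G a finite group, S a Sylow p-subgroup, Q a nontrivial large p-subgroup of G contained in S, M a subgroup containing S with the basic property (M ∈ 𝔐_G(S)); Y_M the largest p-reduced normal subgroup of M and M† = M·C_G(Y_M). Suppose Y_M is char-p-tall and asymmetric in G and H ∈ ℌ_G(O_p(M)). Then every Sylow p-subgroup of H ∩ M† is a Sylow p-subgroup of H; O_p(H) normalizes O_p(M) and Y_M; O^p(H) = [O^p(H), Y_M] and H = O^p(H)·O_p(M); O^p(H)·Y_M is the normal closure of Y_M in H; and H is the normal closure of O_p(M) in H. Here O^p(H) is the subgroup generated by the elements of H of order prime to p. -/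
theorem result {G : Type*} [Group G] [Finite G] {p : ℕ} [Fact p.Prime] (S : Sylow p G) (Q : Subgroup G) (hQp : IsPGroup p ↥Q) (hQ1 : Q ≠ ⊥) (hQS : Q ≤ (S : Subgroup G)) (hQ : Cfsg.IsLarge Q) (M : Subgroup G) (hSM : (S : Subgroup G) ≤ M) (hM : Cfsg.IsInFrakM p M) (htall : Cfsg.IsCharPTall p (Cfsg.largestPReducedOf p M)) (hasym : ¬ Cfsg.IsSymmetricIn (Cfsg.largestPReducedOf p M)) (H : Subgroup G) (hH : Cfsg.IsInFrakH p M H) (R : Subgroup G) (hR : R = (Cfsg.pResidual p ↥H).map H.subtype) : (∀ T : Sylow p ↥(H ⊓ (M ⊔ Subgroup.centralizer (((Cfsg.largestPReducedOf p M) : Subgroup G) : Set G))), ∃ P : Sylow p ↥H, ((P : Subgroup ↥H).map H.subtype) = (T : Subgroup ↥(H ⊓ (M ⊔ Subgroup.centralizer (((Cfsg.largestPReducedOf p M) : Subgroup G) : Set G)))).map (H ⊓ (M ⊔ Subgroup.centralizer (((Cfsg.largestPReducedOf p M) : Subgroup G) : Set G))).subtype) ∧ Cfsg.pCoreOf p H ≤ Subgroup.normalizer (((Cfsg.pCoreOf p M) : Subgroup G) : Set G) ⊓ Subgroup.normalizer (((Cfsg.largestPReducedOf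 p M) : Subgroup G) : Set G) ∧ ⁅R, (Cfsg.largestPReducedOf p M)⁆ = R ∧ R ⊔ (Cfsg.pCoreOf p M) = H ∧ R ⊔ (Cfsg.largestPReducedOf p M) = (Subgroup.normalClosure ((((Cfsg.largestPReducedOf p M)).subgroupOf H : Subgroup ↥H) : Set ↥H)).map H.subtype ∧ (Subgroup.normalClosure ((((Cfsg.pCoreOf p M)).subgroupOf H : Subgroup ↥H) : Set ↥H)).map H.subtype = H := by
  open CfsgLib in
    have hpc := Large.parabolicCharacteristic_of_large hQp hQ
    set Y := Cfsg.largestPReducedOf p M with hYdef
    set O := Cfsg.pCoreOf p M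
    set D := M ⊔ Subgroup.centralizer (Y : Set G)
    have hOH : O ≤ H := hH.2.1
    have hOp : IsPGroup p ↥O := PReducedOf.pCoreOf_isPGroup M
    refine ⟨fun T => ?_, ?_, ?_, ?_, ?_, ?_⟩
    · obtain ⟨P, hP⟩ := (hOp.comap_of_injective H.subtype H.subtype_injective : IsPGroup p ↥(O.subgroupOf H)).exists_le_sylow
      have hPD := (FrakM.pgroup_facts hpc hSM hM hasym (P.2.map H.subtype) (fun o ho => ⟨⟨o, hOH ho⟩, hP ho, rfl⟩)).1
      have hPK : (P : Subgroup ↥H).map H.subtype ≤ H ⊓ D := le_inf (Subgroup.map_subtype_le _) hPD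
      obtain ⟨T₂, hT₂⟩ := ((P.2.map H.subtype).comap_of_injective (H ⊓ D).subtype (H ⊓ D).subtype_injective :
        IsPGroup p ↥(((P : Subgroup ↥H).map H.subtype).subgroupOf (H ⊓ D))).exists_le_sylow
      have hcard : Nat.card ↥(P : Subgroup ↥H) ≤ Nat.card ↥(T : Subgroup ↥(H ⊓ D)) := by
        calc Nat.card ↥(P : Subgroup ↥H)
            = Nat.card ↥(((P : Subgroup ↥H).map H.subtype).subgroupOf (H ⊓ D)) := by
              rw [Nat.card_congr (Subgroup.subgroupOfEquivOfLe hPK).toEquiv, Subgroup.card_map_of_injective H.subtype_injective]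
          _ ≤ Nat.card ↥(T₂ : Subgroup ↥(H ⊓ D)) := Subgroup.card_le_of_le hT₂
          _ = Nat.card ↥(T : Subgroup ↥(H ⊓ D)) := by rw [Sylow.card_eq_multiplicity, Sylow.card_eq_multiplicity]
      set TG := (T : Subgroup ↥(H ⊓ D)).map (H ⊓ D).subtype
      have hTH : TG ≤ H := (Subgroup.map_subtype_le _).trans inf_le_left
      obtain ⟨U, hU⟩ := ((T.2.map _).comap_of_injective H.subtype H.subtype_injective :
        IsPGroup p ↥(TG.subgroupOf H)).exists_le_sylow
      refine ⟨U, ?_⟩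
      have hle : TG ≤ (U : Subgroup ↥H).map H.subtype := fun x hx => ⟨⟨x, hTH hx⟩, hU hx, rfl⟩
      refine (Subgroup.eq_of_le_of_card_ge hle ?_).symm
      calc Nat.card ↥((U : Subgroup ↥H).map H.subtype) = Nat.card ↥(P : Subgroup ↥H) := by
            rw [Subgroup.card_map_of_injective H.subtype_injective, Sylow.card_eq_multiplicity, Sylow.card_eq_multiplicity]
        _ ≤ Nat.card ↥TG := hcard.trans (Subgroup.card_map_of_injective (H ⊓ D).subtype_injective).ge
    · have hp1 : IsPGroup p ↥(Cfsg.pCoreOf p H ⊔ O) :=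
        IsPGroup.to_sup_of_normal_left' ((isPGroup_pCore (G := ↥H) p).map H.subtype) hOp (hOH.trans (Large.le_normalizer_pCoreOf p H))
      have h := FrakM.pgroup_facts hpc hSM hM hasym hp1 le_sup_right
      have h1 : Cfsg.pCoreOf p H ≤ Subgroup.normalizer (O : Set G) := le_sup_left.trans (Subgroup.le_normalizer.trans h.2.1)
      refine le_inf h1 (le_sup_left.trans (h.1.trans ?_))
      rw [FrakM.normalizer_Y_eq hpc hSM hM]
    · rw [hR]
      have e := FrakH.commutator_residual hH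
      have hYH : Y ≤ H := (PReducedOf.le_pCoreOf M).trans hOH
      rw [← Subgroup.map_subgroupOf_eq_of_le hYH, ← Subgroup.map_commutator]
      rw [hYdef, e]
    · rw [hR, ← Subgroup.map_subgroupOf_eq_of_le hOH, ← Subgroup.map_sup, FrakH.sup_O hH, ← MonoidHom.range_eq_map, Subgroup.range_subtype]
    · rw [hR, hYdef, ← FrakH.sup_Y hH, Subgroup.map_sup, Subgroup.map_subgroupOf_eq_of_le ((PReducedOf.le_pCoreOf M).trans hOH)]
    · rw [FrakH.ncl_O hH, ← MonoidHom.range_eq_map, Subgroup.range_subtype]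

end Cfsg.Agent.S2853
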