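import Cfsg.Statements.S2854
import Mathlib
import Cfsg.Agent.Lib.FrakH

set_option autoImplicit false
set_option linter.unusedVariables false
open Cfsg
open scoped commutatorElement

namespace Cfsg.Agent.S2854

/-- Standing hypotheses: G a finite group, S a Sylow p-subgroup, Q a nontrivial large p-subgroup of G contained in S, M a subgroup containing S with the basic property (M ∈ 𝔐_G(S)); Y_M the largest p-reduced normal subgroup of M and M† = M·C_G(Y_M). Suppose Y_M is asymmetric in G, H ∈ ℌ_G(O_p(M)), and H ≤ N_G(gQg⁻¹) for some g ∈ G. Then gQg⁻¹ ≤ O_p(H·gQg⁻¹) ≤ N_G(O_p(M)) ≤ N_G(Y_M) = M†; H is normal in H·gQg⁻¹ with O^p(H) = O^p(H·gQg⁻¹); and H·gQg⁻¹ is p-irreducible. -/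
theorem result {G : Type*} [Group G] [Finite G] {p : ℕ} [Fact p.Prime] (S : Sylow p G) (Q : Subgroup G) (hQp : IsPGroup p ↥Q) (hQ1 : Q ≠ ⊥) (hQS : Q ≤ (S : Subgroup G)) (hQ : Cfsg.IsLarge Q) (M : Subgroup G) (hSM : (S : Subgroup G) ≤ M) (hM : Cfsg.IsInFrakM p M) (hasym : ¬ Cfsg.IsSymmetricIn (Cfsg.largestPReducedOf p M)) (H : Subgroup G) (hH : Cfsg.IsInFrakH p M H) (g : G) (hHQ : H ≤ Subgroup.normalizer ((((Q : Subgroup G).map (MulAut.conj (g : G)).toMonoidHom) : Subgroup G) : Set G)) : ((Q : Subgroup G).map (MulAut.conj (g : G)).toMonoidHom) ≤ Cfsg.pCoreOf p (H ⊔ ((Q : Subgroup G).map (MulAut.conj (g : G)).toMonoidHom)) ∧ Cfsg.pCoreOf p (H ⊔ ((Q : Subgroup G).map (MulAut.conj (g : G)).toMonoidHom)) ≤ Subgroup.normalizer (((Cfsg.pCoreOf p M) : Subgroup G) : Set G) ∧ Subgroup.normalizer (((Cfsg.pCoreOf p M) : Subgroup G) : Set G) ≤ Subgroup.normalizer (((Cfsg.largestPReducedOf p M) : Subgroup G) : Set G) ∧ Subgroup.normalizer (((Cfsg.largestPReducedOf p M) : Subgroup G)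 : Set G) = (M ⊔ Subgroup.centralizer (((Cfsg.largestPReducedOf p M) : Subgroup G) : Set G)) ∧ (H.subgroupOf (H ⊔ ((Q : Subgroup G).map (MulAut.conj (g : G)).toMonoidHom))).Normal ∧ (Cfsg.pResidual p ↥H).map H.subtype = (Cfsg.pResidual p ↥(H ⊔ ((Q : Subgroup G).map (MulAut.conj (g : G)).toMonoidHom))).map (H ⊔ ((Q : Subgroup G).map (MulAut.conj (g : G)).toMonoidHom)).subtype ∧ Cfsg.IsPIrreducible p ↥(H ⊔ ((Q : Subgroup G).map (MulAut.conj (g : G)).toMonoidHom)) := by
  open CfsgLib in
    have hpc := Large.parabolicCharacteristic_of_large hQp hQ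
    set Q' := (Q : Subgroup G).map (MulAut.conj g).toMonoidHom
    have hQ'p : IsPGroup p ↥Q' := hQp.map _
    set Y := Cfsg.largestPReducedOf p M with hYdef
    set O := Cfsg.pCoreOf p M
    set J := H ⊔ Q' with hJ
    have hOH : O ≤ H := hH.2.1
    have hOp : IsPGroup p ↥O := PReducedOf.pCoreOf_isPGroup M
    have hYO : Y ≤ O := PReducedOf.le_pCoreOf M
    have hJQ : J ≤ Subgroup.normalizer (Q' : Set G) := sup_le hHQ Subgroup.le_normalizer
    have h1 : Q' ≤ Cfsg.pCoreOf p J :=
      Large.le_pCoreOf_of_normal le_rfl Subgroup.le_normalizer le_sup_right hJQ hQ'p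
    have hJp : IsPGroup p ↥(Cfsg.pCoreOf p J) := (isPGroup_pCore p).map _
    have hOJ : IsPGroup p ↥(Cfsg.pCoreOf p J ⊔ O) :=
      hJp.to_sup_of_normal_left' hOp ((hOH.trans le_sup_left).trans (Large.le_normalizer_pCoreOf p J))
    have h2 : Cfsg.pCoreOf p J ≤ Subgroup.normalizer (O : Set G) :=
      le_sup_left.trans (Subgroup.le_normalizer.trans (FrakM.pgroup_facts hpc hSM hM hasym hOJ le_sup_right).2.1)
    have hQO : Q' ≤ Subgroup.normalizer (O : Set G) := h1.trans h2
    have hO1 : O ≠ ⊥ := fun h => hM.1.1 ((Subgroup.map_eq_bot_iff_of_injective _ M.subtype_injective).mp h)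
    have h3 : Subgroup.normalizer (O : Set G) ≤ Subgroup.normalizer (Y : Set G) :=
      (FrakM.normalizer_le_dag hpc hSM hM hOp hO1 (Large.le_normalizer_pCoreOf p M)).trans (FrakM.dag_le_normalizer M)
    have hQH : Q' ≤ Subgroup.normalizer (H : Set G) := by
      intro q hq
      refine Local.mem_normalizer_of_map_conj_eq (Subgroup.eq_of_le_of_card_ge ?_
        (Subgroup.card_map_of_injective (MulEquiv.injective (MulAut.conj q))).ge)
      set K := (H.comap (MulAut.conj q).toMonoidHom).subgroupOf H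
      have hK : Subgroup.normalClosure ((O.subgroupOf H : Subgroup ↥H) : Set ↥H) ≤ K := by
        refine (Subgroup.closure_le K).mpr fun x hx => ?_
        obtain ⟨o, ho, hc⟩ := Group.mem_conjugatesOfSet_iff.mp hx
        obtain ⟨h, rfl⟩ := isConj_iff.mp hc
        have hq' : (h : G)⁻¹ * q * (h : G) ∈ Q' := by simpa using Large.conj_mem hHQ (H.inv_mem h.2) hq
        have ho' := Large.conj_mem hQO hq' (ho : (o : G) ∈ O)
        show q * ((h * o * h⁻¹ : ↥H) : G) * q⁻¹ ∈ H
        have := H.mul_mem (H.mul_mem h.2 (hOH ho')) (H.inv_mem h.2)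
        simpa [mul_assoc] using this
      rw [FrakH.ncl_O hH] at hK
      exact Local.map_conj_le fun x hx => hK (Subgroup.mem_top (⟨x, hx⟩ : ↥H))
    have h5 : (H.subgroupOf J).Normal :=
      Subgroup.normal_subgroupOf_of_le_normalizer (sup_le Subgroup.le_normalizer hQH)
    have hnot : ¬ Cfsg.IsPClosed p ↥J := by
      intro hcl
      have hO' : O.subgroupOf J ≤ Cfsg.pCore p ↥J :=
        PResidual.le_pCore_of_isPClosed hcl (hOp.comap_of_injective J.subtype J.subtype_injective)
      have hHp : IsPGroup p ↥H := by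
        haveI : (((Cfsg.pCore p ↥J).map J.subtype).subgroupOf H).Normal :=
          Subgroup.normal_subgroupOf_of_le_normalizer ((le_sup_left : H ≤ J).trans (Large.le_normalizer_pCoreOf p J))
        have h := FrakH.normal_eq_top hH (((Cfsg.pCore p ↥J).map J.subtype).subgroupOf H)
          fun o ho => ⟨⟨(o : G), le_sup_left (α := Subgroup G) o.2⟩, hO' ho, rfl⟩
        exact (hJp.to_le fun x hx => by
          have := h.ge (Subgroup.mem_top (⟨x, hx⟩ : ↥H))
          exact this)
      refine hH.2.2.1 fun y hy => ⟨⟨y, hOH (hYO hy)⟩, le_pCore (N := ⊤) ?_ (Subgroup.mem_top _), rfl⟩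
      exact hHp.of_equiv Subgroup.topEquiv.symm
    refine ⟨h1, h2, h3, FrakM.normalizer_Y_eq hpc hSM hM, h5, ?_, hnot, ?_⟩
    · rw [PReduced.res_eq_closure, PReduced.res_eq_closure]
      haveI := h5
      refine congrArg Subgroup.closure (Set.ext fun x => ⟨fun hx => ⟨Subgroup.mem_sup_left hx.1, hx.2⟩, fun hx => ⟨?_, hx.2⟩⟩)
      have h := PResidual.pResidual_le_of_sup_eq_top (N := H.subgroupOf J) (P := Q'.subgroupOf J)
        (hQ'p.comap_of_injective J.subtype J.subtype_injective) ?_ (CfsgLib.mem_pResidual (g := (⟨x, hx.1⟩ : ↥J)) (by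
          rw [← Subgroup.orderOf_coe]; exact hx.2))
      · exact h
      · rw [← Subgroup.subgroupOf_sup le_sup_right le_sup_left, sup_comm]
        exact Subgroup.subgroupOf_self _
    · intro N hN hNcl
      by_contra hRN
      refine hNcl ?_
      haveI := hN
      set OJ := O.subgroupOf J with hOJdef
      set HJ := H.subgroupOf J with hHJ
      set QJ := Q'.subgroupOf J with hQJ
      have htop : HJ ⊔ QJ = ⊤ := by
        rw [hHJ, hQJ, ← Subgroup.subgroupOf_sup le_sup_left le_sup_right]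
        exact Subgroup.subgroupOf_self _
      have hP : IsPGroup p ↥(OJ ⊔ QJ) := by
        rw [hOJdef, hQJ, ← Subgroup.subgroupOf_sup (hOH.trans le_sup_left) le_sup_right]
        exact (hOp.to_sup_of_normal_left' hQ'p hQO).comap_of_injective J.subtype J.subtype_injective
      set K := ((N ⊔ OJ) ⊓ HJ).map J.subtype with hK
      have hKH : K ≤ H := by rintro _ ⟨x, hx, rfl⟩; exact hx.2
      have hOK : O ≤ K := fun o ho => ⟨⟨o, (hOH.trans le_sup_left) ho⟩, ⟨Subgroup.mem_sup_right ho, hOH ho⟩, rfl⟩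
      rcases hKH.eq_or_lt with heq | hlt
      · refine absurd (PResidual.pResidual_le_of_sup_eq_top (N := N) hP ?_) hRN
        refine top_le_iff.mp (htop ▸ sup_le ?_ ((le_sup_right : QJ ≤ OJ ⊔ QJ).trans le_sup_left))
        intro x hx
        obtain ⟨y, hy, e⟩ := heq.ge hx
        rw [← Subtype.ext (e : (y : G) = x)]
        exact (sup_le le_sup_right (le_sup_left.trans le_sup_left) : N ⊔ OJ ≤ (OJ ⊔ QJ) ⊔ N) hy.1
      · have hYK := hH.2.2.2 K hOK hlt
        haveI hHn : HJ.Normal := h5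
        set W := Cfsg.pCore p ↥J
        set N' := (N ⊔ OJ).map J.subtype with hN'
        have hYN : ∀ y : ↥J, (y : G) ∈ Y → ∀ n ∈ N, y * n * y⁻¹ * n⁻¹ ∈ W := by
          intro y hy n hn
          have hyN' : Y ≤ Cfsg.pCoreOf p N' := by
            refine hYK.trans (Large.le_pCoreOf_of_normal (K := K) (Subgroup.map_mono inf_le_left) ?_ (Large.pCoreOf_le p K)
              (Large.le_normalizer_pCoreOf p K) ((isPGroup_pCore p).map _))
            refine Large.le_normalizer_of fun a ha b hb => ?_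
            obtain ⟨a, ha, rfl⟩ := ha
            obtain ⟨b, hb, rfl⟩ := hb
            exact ⟨a * b * a⁻¹, ⟨(N ⊔ OJ).mul_mem ((N ⊔ OJ).mul_mem ha hb.1) ((N ⊔ OJ).inv_mem ha), hHn.conj_mem b hb.2 a⟩, rfl⟩
          set A := Cfsg.pCoreOf p N' ⊓ N.map J.subtype
          have hA : A ≤ Cfsg.pCoreOf p J := by
            refine Large.le_pCoreOf_of_normal (K := N.map J.subtype) (Subgroup.map_subtype_le _) ?_ inf_le_right ?_
              (((isPGroup_pCore (G := ↥N') p).map N'.subtype).to_le inf_le_left)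
            · refine Large.le_normalizer_of fun a ha b hb => ?_
              obtain ⟨b, hb, rfl⟩ := hb
              exact ⟨⟨a, ha⟩ * b * ⟨a, ha⟩⁻¹, hN.conj_mem b hb _, rfl⟩
            · refine Large.le_normalizer_of fun a ha b hb => ⟨Large.conj_mem ?_ ha hb.1,
                (N.map J.subtype).mul_mem ((N.map J.subtype).mul_mem ha hb.2) ((N.map J.subtype).inv_mem ha)⟩
              exact (Subgroup.map_mono le_sup_left).trans (Large.le_normalizer_pCoreOf p N')
          have hnN' : (n : G) ∈ N' := ⟨n, Subgroup.mem_sup_left hn, rfl⟩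
          have hmem : ((y * n * y⁻¹ * n⁻¹ : ↥J) : G) ∈ A := by
            refine ⟨?_, ⟨y * n * y⁻¹ * n⁻¹, N.mul_mem (hN.conj_mem n hn y) (N.inv_mem hn), rfl⟩⟩
            show (y : G) * n * (y : G)⁻¹ * (n : G)⁻¹ ∈ Cfsg.pCoreOf p N'
            rw [show (y : G) * n * (y : G)⁻¹ * (n : G)⁻¹ = (y : G) * ((n : G) * (y : G)⁻¹ * (n : G)⁻¹) by group]
            exact Subgroup.mul_mem _ (hyN' hy) (Large.conj_mem (Large.le_normalizer_pCoreOf p N') hnN' (Subgroup.inv_mem _ (hyN' hy)))
          obtain ⟨z, hz, e⟩ := hA hmem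
          rwa [← Subtype.ext (e : (z : G) = ((y * n * y⁻¹ * n⁻¹ : ↥J) : G))]
        have hNn : (⊤ : Subgroup ↥J) ≤ Subgroup.normalizer (N : Set ↥J) := (Subgroup.normalizer_eq_top (H := N)).ge
        have hWn : (⊤ : Subgroup ↥J) ≤ Subgroup.normalizer (W : Set ↥J) := (Subgroup.normalizer_eq_top (H := W)).ge
        set St := Large.stab ⊤ N W hNn hWn
        haveI : St.Normal := ⟨fun a ha b => Large.stab_conj hNn hWn (Subgroup.mem_top b) ha⟩
        set Yt := Subgroup.normalClosure ((Y.subgroupOf J : Subgroup ↥J) : Set ↥J)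
        haveI : Yt.Normal := Subgroup.normalClosure_normal
        have hYtS : Yt ≤ St := Subgroup.normalClosure_le_normal fun y hy => ⟨Subgroup.mem_top y, fun n hn => hYN y hy n hn⟩
        have hsup : OJ ⊔ QJ ⊔ Yt = ⊤ := by
          refine top_le_iff.mp (htop ▸ sup_le ?_ (le_sup_right.trans le_sup_left))
          let i : ↥H →* ↥J := Subgroup.inclusion le_sup_left
          intro x hx
          have hx' : (⟨(x : G), hx⟩ : ↥H) ∈ Subgroup.normalClosure ((Y.subgroupOf H : Subgroup ↥H) : Set ↥H) ⊔ O.subgroupOf H := by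
            rw [hYdef, FrakH.ncl_Y_sup_O hH]; exact Subgroup.mem_top _
          refine (?_ : Subgroup.normalClosure ((Y.subgroupOf H : Subgroup ↥H) : Set ↥H) ⊔ O.subgroupOf H ≤ (OJ ⊔ QJ ⊔ Yt).comap i) hx'
          exact sup_le ((Subgroup.normalClosure_le_normal (N := Yt.comap i) fun y hy => (Subgroup.subset_normalClosure hy : i y ∈ Yt)).trans
              (Subgroup.comap_mono le_sup_right)) fun o ho => (Subgroup.mem_sup_left (Subgroup.mem_sup_left ho) : i o ∈ OJ ⊔ QJ ⊔ Yt)
        haveI : (Yt.subgroupOf N).Normal := Subgroup.Normal.subgroupOf inferInstance N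
        haveI : (W.subgroupOf N).Normal := Subgroup.Normal.subgroupOf inferInstance N
        refine FrakM.pClosed_of_central (Yt.subgroupOf N) (W.subgroupOf N)
          ((isPGroup_pCore (G := ↥J) p).comap_of_injective N.subtype N.subtype_injective)
          (fun n => ?_) fun z hz n => (hYtS hz).2 n n.2
        obtain ⟨k, hk⟩ := PResidual.pow_mem_sylow_sup hP (hsup ▸ Subgroup.mem_top (n : ↥J))
        exact ⟨k, Subgroup.mem_subgroupOf.mpr (by simpa using hk)⟩

end Cfsg.Agent.S2854
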