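import Cfsg.Statements.S2855
import Mathlib
import Cfsg.Agent.Lib.WeakResidual
import Cfsg.Agent.S2827
import Cfsg.Agent.S2829

set_option autoImplicit false
set_option linter.unusedVariables false
open Cfsg
open scoped commutatorElement

namespace Cfsg.Agent.S2855

open CfsgLib CfsgLib.WeakResidual
open scoped commutatorElement

variable {H : Type*} [Group H] [Finite H] {p : ℕ} [Fact p.Prime] {T : Sylow p H} {P W : Subgroup H} {𝒦 : Set (Subgroup H)}

omit [Finite H] in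
theorem three {P A B C : Subgroup H} [P.Normal] (h1 : ⁅⁅B, C⁆, A⁆ ≤ P) (h2 : ⁅⁅C, A⁆, B⁆ ≤ P) : ⁅⁅A, B⁆, C⁆ ≤ P := by
  set π := QuotientGroup.mk' P with hπ
  have e : ∀ X : Subgroup H, X ≤ P ↔ X.map π = ⊥ := fun X => by
    rw [Subgroup.map_eq_bot_iff, QuotientGroup.ker_mk']
  rw [e, Subgroup.map_commutator, Subgroup.map_commutator] at h1 h2 ⊢
  exact Subgroup.commutator_commutator_eq_bot_of_rotate h1 h2

/-- The elements centralizing `Z` modulo `P`. -/
def cz (P Z : Subgroup H) [P.Normal] : Subgroup H :=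
  (Subgroup.centralizer ((Z.map (QuotientGroup.mk' P) : Subgroup (H ⧸ P)) : Set (H ⧸ P))).comap (QuotientGroup.mk' P)

omit [Finite H] in
theorem mem_cz {P Z : Subgroup H} [P.Normal] {x : H} : x ∈ cz P Z ↔ ∀ z ∈ Z, ⁅z, x⁆ ∈ P := by
  rw [cz, Subgroup.mem_comap, Subgroup.mem_centralizer_iff]
  constructor
  · intro h z hz
    rw [← QuotientGroup.eq_one_iff (N := P), ← QuotientGroup.mk'_apply, map_commutatorElement, commutatorElement_eq_one_iff_mul_comm]
    exact h _ ⟨z, hz, rfl⟩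
  · rintro h _ ⟨z, hz, rfl⟩
    have := (QuotientGroup.eq_one_iff (N := P) _).mpr (h z hz)
    rwa [← QuotientGroup.mk'_apply, map_commutatorElement, commutatorElement_eq_one_iff_mul_comm] at this

/-- `T ∩ K` has largest order among the `p`-subgroups of `K`. -/
def Mx (T : Sylow p H) (K : Subgroup H) : Prop :=
  ∀ U : Subgroup H, U ≤ K → IsPGroup p ↥U → Nat.card ↥U ≤ Nat.card ↥((T : Subgroup H) ⊓ K)

theorem mx_of_normal (N : Subgroup H) [hN : N.Normal] : Mx T N := by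
  intro U hUN hU
  obtain ⟨Q, hQ⟩ := hU.exists_le_sylow
  obtain ⟨g, hg⟩ := MulAction.exists_smul_eq H T Q
  have h1 : U ≤ ((T : Subgroup H) ⊓ N).map (MulAut.conj g).toMonoidHom := by
    intro u hu
    have h2 := hQ hu
    rw [← hg, Sylow.coe_subgroup_smul, Subgroup.pointwise_smul_def] at h2
    obtain ⟨t, ht, rfl⟩ := h2
    refine ⟨t, ⟨ht, ?_⟩, rfl⟩
    have := hN.conj_mem _ (hUN hu) g⁻¹
    simpa [MulAut.smul_def, mul_assoc] using this
  exact (Subgroup.card_le_of_le h1).trans_eq (Subgroup.card_map_of_injective (MulEquiv.injective (MulAut.conj g)))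

theorem exists_sylow {K : Subgroup H} (hK : Mx T K) :
    ∃ S : Sylow p ↥K, (S : Subgroup ↥K).map K.subtype = (T : Subgroup H) ⊓ K := by
  obtain ⟨S, hS⟩ := (T.2.comap_of_injective K.subtype K.subtype_injective).exists_le_sylow
  refine ⟨S, (Subgroup.eq_of_le_of_card_ge ?_ (hK _ (Subgroup.map_subtype_le _) (S.2.map _))).symm⟩
  exact fun x hx => ⟨⟨x, hx.2⟩, hS hx.1, rfl⟩

theorem mx_of_le_normalizer {K B : Subgroup H} (hK : Mx T K) (hBK : B ≤ K) (hKB : K ≤ Subgroup.normalizer (B : Set H)) : Mx T B := by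
  intro U hUB hU
  obtain ⟨S, hS⟩ := exists_sylow hK
  obtain ⟨S', hS'⟩ := (hU.comap_of_injective K.subtype K.subtype_injective).exists_le_sylow
  obtain ⟨k, hk⟩ := MulAction.exists_smul_eq ↥K S S'
  have h1 : U ≤ ((T : Subgroup H) ⊓ B).map (MulAut.conj (k : H)).toMonoidHom := by
    intro u hu
    have h2 := hS' (show (⟨u, hBK (hUB hu)⟩ : ↥K) ∈ U.comap K.subtype from hu)
    rw [← hk, Sylow.coe_subgroup_smul, Subgroup.pointwise_smul_def] at h2
    obtain ⟨s, hs, e⟩ := h2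
    have hsT : (s : H) ∈ (T : Subgroup H) ⊓ K := hS ▸ ⟨s, hs, rfl⟩
    have e' : (k : H) * s * (k : H)⁻¹ = u := congrArg Subtype.val e
    refine ⟨s, ⟨hsT.1, ?_⟩, e'⟩
    have := Large.conj_mem hKB (K.inv_mem k.2) (hUB hu)
    rw [← e'] at this
    simpa [mul_assoc] using this
  exact (Subgroup.card_le_of_le h1).trans_eq (Subgroup.card_map_of_injective (MulEquiv.injective (MulAut.conj (k : H))))

theorem mem_split {E P : Subgroup H} [P.Normal] {x : H} (hx : x ∈ E ⊔ P) : ∃ e ∈ E, ∃ u ∈ P, x = e * u := by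
  obtain ⟨e, he, u, hu, rfl⟩ := Subgroup.mem_sup_of_normal_right.1 hx
  exact ⟨e, he, u, hu, rfl⟩

theorem mx_member {E P : Subgroup H} [P.Normal] (hP : IsPGroup p ↥P) (hPT : P ≤ (T : Subgroup H)) (hB : Mx T (E ⊔ P)) :
    Mx T E := by
  intro U hUE hU
  obtain ⟨U', hU'⟩ := (hU.comap_of_injective E.subtype E.subtype_injective).exists_le_sylow
  obtain ⟨S₀, hS₀⟩ := ((T.2.comap_of_injective E.subtype E.subtype_injective)).exists_le_sylow
  have h1 : (S₀ : Subgroup ↥E).map E.subtype ⊔ P = (T : Subgroup H) ⊓ (E ⊔ P) := by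
    refine (Subgroup.eq_of_le_of_card_ge ?_ (hB _ (sup_le_sup_right (Subgroup.map_subtype_le _) P)
      ((S₀.2.map _).to_sup_of_normal_right hP))).symm
    rintro x ⟨hxT, hx⟩
    obtain ⟨e, he, u, hu, rfl⟩ := mem_split hx
    refine Subgroup.mul_mem _ (Subgroup.mem_sup_left ⟨⟨e, he⟩, hS₀ ?_, rfl⟩) (Subgroup.mem_sup_right hu)
    show e ∈ (T : Subgroup H)
    simpa using (T : Subgroup H).mul_mem hxT ((T : Subgroup H).inv_mem (hPT hu))
  have h2 : (S₀ : Subgroup ↥E).map E.subtype ≤ (T : Subgroup H) ⊓ E := fun x hx =>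
    ⟨(h1 ▸ Subgroup.mem_sup_left hx : x ∈ (T : Subgroup H) ⊓ (E ⊔ P)).1, Subgroup.map_subtype_le _ hx⟩
  refine le_trans ?_ (Subgroup.card_le_of_le h2)
  rw [Subgroup.card_map_of_injective E.subtype_injective, ← Nat.card_congr (Subgroup.subgroupOfEquivOfLe hUE).toEquiv]
  exact (Subgroup.card_le_of_le hU').trans_eq (Sylow.card_eq_multiplicity U' |>.trans (Sylow.card_eq_multiplicity S₀).symm)

theorem conj_map_le {B : Subgroup H} (h : H) :
    (pResidualOf p B).map (MulAut.conj h).toMonoidHom ≤ pResidualOf p (B.map (MulAut.conj h).toMonoidHom) := by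
  rw [Subgroup.map_le_iff_le_comap]
  refine res_le_of_pow fun x hx => ?_
  obtain ⟨k, hk⟩ := exists_pow_mem (p := p) (show h * x * h⁻¹ ∈ B.map (MulAut.conj h).toMonoidHom from ⟨x, res_le B hx, rfl⟩)
  exact ⟨k, Subgroup.mem_comap.mpr (by rw [map_pow]; exact hk)⟩

theorem pCoreOf_le_pCore {W B : Subgroup H} [hW : W.Normal] (hBW : B ≤ W) (hWB : W ≤ Subgroup.normalizer (B : Set H)) :
    Cfsg.pCoreOf p B ≤ Cfsg.pCore p H := by
  haveI : (Cfsg.pCore p ↥W).Characteristic := pCore_characteristic p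
  haveI : ((Cfsg.pCore p ↥W).map W.subtype).Normal := ConjAct.normal_of_characteristic_of_normal
  exact (Large.le_pCoreOf_of_normal hBW hWB (Large.pCoreOf_le p B) (Large.le_normalizer_pCoreOf p B) ((isPGroup_pCore p).map _)).trans
    (le_pCore (N := (Cfsg.pCore p ↥W).map W.subtype) ((isPGroup_pCore p).map _))

theorem conj_sup_core (h : H) (E : Subgroup H) :
    (E ⊔ Cfsg.pCore p H).map (MulAut.conj h).toMonoidHom = E.map (MulAut.conj h).toMonoidHom ⊔ Cfsg.pCore p H := by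
  rw [Subgroup.map_sup, Local.map_conj_eq_of_mem_normalizer
    (show h ∈ Subgroup.normalizer ((Cfsg.pCore p H : Subgroup H) : Set H) by rw [Subgroup.normalizer_eq_top]; exact Subgroup.mem_top h)]

section members

variable (hinv : ∀ h : H, ∀ E ∈ 𝒦, E.map (MulAut.conj h).toMonoidHom ∈ 𝒦)
  (htr : ∀ E ∈ 𝒦, ∀ K ∈ 𝒦, ∃ h : H, K = E.map (MulAut.conj h).toMonoidHom)
  (hres : Cfsg.pResidual p H ≤ sSup 𝒦)
  (hnorm : ∀ E ∈ 𝒦, sSup 𝒦 ⊔ Cfsg.pCore p H ≤ Subgroup.normalizer ((E ⊔ Cfsg.pCore p H : Subgroup H) : Set H))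

include hinv in
theorem W_normal : (sSup 𝒦 ⊔ Cfsg.pCore p H).Normal := by
  haveI : (sSup 𝒦).Normal := Subgroup.normalizer_eq_top_iff.mp (eq_top_iff.mpr fun h _ =>
    Local.mem_normalizer_of_map_conj_eq (Subgroup.eq_of_le_of_card_ge (by
      rw [Subgroup.map_le_iff_le_comap]
      exact sSup_le fun E hE => Subgroup.map_le_iff_le_comap.mp (le_sSup (hinv h E hE)))
      (Subgroup.card_map_of_injective (MulEquiv.injective (MulAut.conj h))).ge))
  infer_instance

omit [Finite H] [Fact p.Prime] in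
theorem le_W {E : Subgroup H} (hE : E ∈ 𝒦) : E ⊔ Cfsg.pCore p H ≤ sSup 𝒦 ⊔ Cfsg.pCore p H :=
  sup_le_sup_right (le_sSup hE) _

include hres in
theorem W_sup (T : Sylow p H) : sSup 𝒦 ⊔ Cfsg.pCore p H ⊔ (T : Subgroup H) = ⊤ := by
  rw [eq_top_iff, ← PResidual.pResidual_sup_sylow T]
  exact sup_le le_sup_right (hres.trans (le_sup_left.trans le_sup_left))

include hinv hnorm in
theorem mx_all (T : Sylow p H) {E : Subgroup H} (hE : E ∈ 𝒦) : Mx T (E ⊔ Cfsg.pCore p H) ∧ Mx T E := by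
  haveI := W_normal (p := p) hinv
  have hB := mx_of_le_normalizer (T := T) (mx_of_normal (sSup 𝒦 ⊔ Cfsg.pCore p H)) (le_W hE) (hnorm E hE)
  exact ⟨hB, mx_member (isPGroup_pCore p) (pCore_le_sylow T) hB⟩

include hinv htr hres hnorm in
theorem minimal_part (hne : 𝒦.Nonempty) (hmem : ∀ E ∈ 𝒦, ∀ T : Sylow p ↥E, Cfsg.IsMinimalOver (T : Subgroup ↥E))
    (T : Sylow p H) : Cfsg.IsMinimalOver (T : Subgroup H) := by
  set P := Cfsg.pCore p H
  set W := sSup 𝒦 ⊔ P
  haveI hWn : W.Normal := W_normal hinv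
  have hWT := W_sup (p := p) hres T
  have hPT : P ≤ (T : Subgroup H) := pCore_le_sylow T
  set Good : Subgroup H → Prop := fun X => ∃ E ∈ 𝒦, (T : Subgroup H) ⊓ (E ⊔ P) ≤ X ∧ X < E ⊔ P ∧
    ∀ Z : Subgroup H, (T : Subgroup H) ⊓ (E ⊔ P) ≤ Z → Z < E ⊔ P → Z ≤ X
  have hncl : ∀ E ∈ 𝒦, ∀ X : Subgroup H, (T : Subgroup H) ⊓ E ≤ X → E ≤ Subgroup.normalizer (X : Set H) → E ≤ X := by
    intro E hE X hX hEX
    obtain ⟨S, hS⟩ := exists_sylow (mx_all hinv hnorm T hE).2
    haveI : (X.subgroupOf E).Normal := Subgroup.normal_subgroupOf_of_le_normalizer hEX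
    have h1 : Subgroup.normalClosure ((S : Subgroup ↥E) : Set ↥E) ≤ X.subgroupOf E :=
      Subgroup.normalClosure_le_normal fun s hs => hX (hS ▸ ⟨s, hs, rfl⟩)
    rw [(hmem E hE S).1, top_le_iff] at h1
    exact Subgroup.subgroupOf_eq_top.mp h1
  have hgood : ∀ E ∈ 𝒦, ∃ X : Subgroup H, (T : Subgroup H) ⊓ (E ⊔ P) ≤ X ∧ X < E ⊔ P ∧
      ∀ Z : Subgroup H, (T : Subgroup H) ⊓ (E ⊔ P) ≤ Z → Z < E ⊔ P → Z ≤ X := by
    intro E hE
    obtain ⟨S, hS⟩ := exists_sylow (mx_all hinv hnorm T hE).2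
    obtain ⟨-, M, ⟨hM, hSM⟩, huniq⟩ := hmem E hE S
    set M' := M.map E.subtype
    have hTM : (T : Subgroup H) ⊓ E ≤ M' := hS ▸ Subgroup.map_mono hSM
    have hTB : (T : Subgroup H) ⊓ (E ⊔ P) ≤ M' ⊔ P := by
      rintro x ⟨hxT, hx⟩
      obtain ⟨e, he, u, hu, rfl⟩ := mem_split hx
      exact Subgroup.mul_mem _ (Subgroup.mem_sup_left (hTM ⟨by have := (T : Subgroup H).mul_mem hxT ((T : Subgroup H).inv_mem (hPT hu)); rwa [mul_inv_cancel_right] at this, he⟩))
        (Subgroup.mem_sup_right hu)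
    refine ⟨M' ⊔ P, hTB, lt_of_le_of_ne (sup_le_sup_right (Subgroup.map_subtype_le _) P) fun h => hM.1 (eq_top_iff.mpr fun e _ => ?_), ?_⟩
    · obtain ⟨m, hm, u, hu, eq⟩ := mem_split (h.ge (Subgroup.mem_sup_left e.2))
      obtain ⟨m, hm, rfl⟩ := hm
      have huE : u ∈ (T : Subgroup H) ⊓ E := ⟨hPT hu, by
        rw [show u = (m : H)⁻¹ * e by rw [eq]; simp]
        exact E.mul_mem (E.inv_mem m.2) e.2⟩
      obtain ⟨v, hv, rfl⟩ := hTM huE
      rw [show e = m * v from Subtype.ext eq]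
      exact M.mul_mem hm hv
    · intro Z hTZ hZ z hz
      obtain ⟨e, he, u, hu, rfl⟩ := mem_split (hZ.le hz)
      refine Subgroup.mul_mem _ (Subgroup.mem_sup_left ?_) (Subgroup.mem_sup_right hu)
      have heZ : e ∈ Z := by
        simpa using Z.mul_mem hz (Z.inv_mem (hTZ ⟨hPT hu, Subgroup.mem_sup_right hu⟩))
      have hne' : Z.subgroupOf E ≠ ⊤ := fun h => hZ.not_ge (sup_le (Subgroup.subgroupOf_eq_top.mp h)
        fun v hv => hTZ ⟨hPT hv, Subgroup.mem_sup_right hv⟩)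
      obtain ⟨K, hK, hle⟩ := (eq_top_or_exists_le_coatom (Z.subgroupOf E)).resolve_left hne'
      have hKM := huniq K ⟨hK, fun s hs => by
        have hs' : (s : H) ∈ (T : Subgroup H) ⊓ E := hS ▸ ⟨s, hs, rfl⟩
        exact hle (hTZ ⟨hs'.1, Subgroup.mem_sup_left s.2⟩)⟩
      exact ⟨⟨e, he⟩, hKM ▸ hle (show (⟨e, he⟩ : ↥E) ∈ Z.subgroupOf E from heZ), rfl⟩
  set C := W ⊓ ⨅ X : {X : Subgroup H // Good X}, Subgroup.normalizer ((X : Subgroup H) : Set H) with hC
  have hmemC : ∀ {x : H}, x ∈ C ↔ x ∈ W ∧ ∀ X, Good X → x ∈ Subgroup.normalizer (X : Set H) := fun {x} => by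
    rw [hC, Subgroup.mem_inf, Subgroup.mem_iInf]
    exact and_congr_right fun _ => ⟨fun h X hX => h ⟨X, hX⟩, fun h X => h X.1 X.2⟩
  have hTW : (T : Subgroup H) ⊓ W ≤ C := fun t ht => hmemC.mpr ⟨ht.2, by
    rintro X ⟨E, hE, hX1, hX2, hX3⟩
    refine Local.mem_normalizer_of_map_conj_eq (Subgroup.eq_of_le_of_card_ge (hX3 _ ?_ ?_)
      (Subgroup.card_map_of_injective (MulEquiv.injective (MulAut.conj t))).ge)
    · conv_lhs => rw [← Local.map_conj_eq_of_mem_normalizer (show t ∈ Subgroup.normalizer (((T : Subgroup H) ⊓ (E ⊔ P) : Subgroup H) : Set H) from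
        (Large.le_normalizer_of (K := (T : Subgroup H) ⊓ W) (A := (T : Subgroup H) ⊓ (E ⊔ P)) fun k hk a ha => ⟨(T : Subgroup H).mul_mem ((T : Subgroup H).mul_mem hk.1 ha.1)
          ((T : Subgroup H).inv_mem hk.1), Large.conj_mem (hnorm E hE) hk.2 ha.2⟩) ht)]
      exact Subgroup.map_mono hX1
    · refine lt_of_le_of_ne ((Subgroup.map_mono hX2.le).trans (Local.map_conj_eq_of_mem_normalizer (hnorm E hE ht.2)).le) fun e => hX2.ne ?_
      exact Subgroup.eq_of_le_of_card_ge hX2.le ((congrArg (fun S : Subgroup H => Nat.card ↥S) e.symm).trans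
        (Subgroup.card_map_of_injective (MulEquiv.injective (MulAut.conj t)))).le⟩
  have hTC : (T : Subgroup H) ≤ Subgroup.normalizer (C : Set H) := Large.le_normalizer_of fun t ht c hc => by
    obtain ⟨hcW, hcN⟩ := hmemC.mp hc
    refine hmemC.mpr ⟨hWn.conj_mem c hcW t, fun X hX => ?_⟩
    obtain ⟨E, hE, hX1, hX2, hX3⟩ := hX
    set φ := (MulAut.conj t⁻¹).toMonoidHom
    have hφT : (T : Subgroup H).map φ = (T : Subgroup H) :=
      Local.map_conj_eq_of_mem_normalizer (Subgroup.le_normalizer ((T : Subgroup H).inv_mem ht))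
    have hinj : Function.Injective φ := MulEquiv.injective (MulAut.conj t⁻¹)
    have hG : Good (X.map φ) := by
      refine ⟨E.map φ, hinv t⁻¹ E hE, ?_, ?_, ?_⟩
      · rw [← conj_sup_core, ← hφT, ← Subgroup.map_inf _ _ _ hinj]
        exact Subgroup.map_mono hX1
      · rw [← conj_sup_core]
        exact (Subgroup.map_lt_map_iff_of_injective hinj).mpr hX2
      · intro Z hZ1 hZ2
        rw [← conj_sup_core] at hZ1 hZ2
        have hZs : Z = (Z.comap φ).map φ := (Subgroup.map_comap_eq_self_of_surjective (MulEquiv.surjective (MulAut.conj t⁻¹)) Z).symm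
        rw [hZs] at hZ2 ⊢
        refine Subgroup.map_mono (hX3 _ ?_ ((Subgroup.map_lt_map_iff_of_injective hinj).mp hZ2))
        rw [← hφT, ← Subgroup.map_inf _ _ _ hinj] at hZ1
        exact Subgroup.map_le_iff_le_comap.mp hZ1
    rw [Subgroup.mem_normalizer_iff]
    intro x
    have := Subgroup.mem_normalizer_iff.mp (hcN _ hG) (t⁻¹ * x * t)
    have e : ∀ z : H, t⁻¹ * z * t ∈ X.map φ ↔ z ∈ X := fun z => by
      constructor
      · rintro ⟨y, hy, ey⟩
        have : y = z := hinj (ey.trans (by simp [φ]))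
        rwa [← this]
      · exact fun hz => ⟨z, hz, by simp [φ]⟩
    rw [e, show c * (t⁻¹ * x * t) * c⁻¹ = t⁻¹ * (t * c * t⁻¹ * x * (t * c * t⁻¹)⁻¹) * t by group, e] at this
    exact this
  obtain ⟨E₀, hE₀⟩ := hne
  have hCW : ¬ W ≤ C := by
    intro h
    obtain ⟨X, hX1, hX2, hX3⟩ := hgood E₀ hE₀
    refine hX2.not_ge (sup_le ?_ fun v hv => hX1 ⟨hPT hv, Subgroup.mem_sup_right hv⟩)
    refine hncl E₀ hE₀ X ((inf_le_inf_left _ le_sup_left).trans hX1) fun e he => ?_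
    exact (hmemC.mp (h (le_W hE₀ (Subgroup.mem_sup_left he)))).2 X ⟨E₀, hE₀, hX1, hX2, hX3⟩
  set D := C ⊔ (T : Subgroup H)
  have hD : D ≠ ⊤ := by
    intro h
    refine hCW fun w hw => ?_
    have hw' : w ∈ ((C ⊔ (T : Subgroup H) : Subgroup H) : Set H) := h.ge (Subgroup.mem_top w)
    rw [Subgroup.coe_mul_of_right_le_normalizer_left C _ hTC] at hw'
    obtain ⟨c, hc, t, ht, rfl⟩ := hw'
    exact C.mul_mem hc (hTW ⟨ht, by simpa using W.mul_mem (W.inv_mem (hmemC.mp hc).1) hw⟩)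
  have hmax : ∀ M : Subgroup H, IsCoatom M → (T : Subgroup H) ≤ M → M ≤ D := by
    intro M hM hTM m hm
    have hm' : m ∈ W ⊔ (T : Subgroup H) := hWT ▸ Subgroup.mem_top m
    obtain ⟨w, hw, t, ht, rfl⟩ := Subgroup.mem_sup_of_normal_left.1 hm'
    refine Subgroup.mul_mem _ (Subgroup.mem_sup_left (hmemC.mpr ⟨hw, ?_⟩)) (Subgroup.mem_sup_right ht)
    have hwM : w ∈ M := by simpa using M.mul_mem hm (M.inv_mem (hTM ht))
    rintro X ⟨E, hE, hX1, hX2, hX3⟩
    have hMB : M ⊓ (E ⊔ P) < E ⊔ P := by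
      refine lt_of_le_of_ne inf_le_right fun h => hM.1 (top_le_iff.mp (hWT.ge.trans (sup_le (sup_le ?_ (hPT.trans hTM)) hTM)))
      refine sSup_le fun K hK => ?_
      obtain ⟨g, rfl⟩ := htr E hE K hK
      have hg : g ∈ (T : Subgroup H) ⊔ W := by rw [sup_comm, hWT]; exact Subgroup.mem_top g
      obtain ⟨s, hs, v, hv, rfl⟩ := Subgroup.mem_sup_of_normal_right.1 hg
      rw [← Local.map_conj_mul]
      refine le_trans (Subgroup.map_mono ((Subgroup.map_mono le_sup_left).trans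
        (Local.map_conj_eq_of_mem_normalizer (hnorm E hE hv)).le)) ?_
      exact Local.map_conj_le fun x hx => M.mul_mem (M.mul_mem (hTM hs) ((h.ge hx).1)) (M.inv_mem (hTM hs))
    have hB := Local.map_conj_eq_of_mem_normalizer (hnorm E hE hw)
    refine Local.mem_normalizer_of_map_conj_eq (Subgroup.eq_of_le_of_card_ge ?_
      (Subgroup.card_map_of_injective (MulEquiv.injective (MulAut.conj w))).le).symm
    -- `X` lies in `X^w`: both contain the conjugate Sylow subgroup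
    have h1 : ((T : Subgroup H) ⊓ (E ⊔ P)).map (MulAut.conj w).toMonoidHom ≤ X := by
      refine le_trans ?_ (hX3 (M ⊓ (E ⊔ P)) (inf_le_inf_right _ hTM) hMB)
      refine le_inf (Local.map_conj_le fun x hx => M.mul_mem (M.mul_mem hwM (hTM hx.1)) (M.inv_mem hwM)) ?_
      exact (Subgroup.map_mono inf_le_right).trans hB.le
    conv_lhs => rw [← Subgroup.map_comap_eq_self_of_surjective (f := (MulAut.conj w).toMonoidHom) (MulEquiv.surjective (MulAut.conj w)) X]
    refine Subgroup.map_mono (hX3 _ (Subgroup.map_le_iff_le_comap.mp h1) ?_)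
    rw [← Subgroup.map_lt_map_iff_of_injective (f := (MulAut.conj w).toMonoidHom) (MulEquiv.injective (MulAut.conj w)),
      Subgroup.map_comap_eq_self_of_surjective (f := (MulAut.conj w).toMonoidHom) (MulEquiv.surjective (MulAut.conj w)), hB]
    exact hX2
  refine ⟨?_, ?_⟩
  · have hTn : (T : Subgroup H) ≤ Subgroup.normalClosure ((T : Subgroup H) : Set H) := Subgroup.le_normalClosure
    refine top_le_iff.mp (hWT.ge.trans (sup_le (sup_le (sSup_le fun E hE => ?_) (hPT.trans hTn)) hTn))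
    refine hncl E hE _ (inf_le_left.trans hTn) fun e _ => ?_
    rw [Subgroup.normalizer_eq_top]
    exact Subgroup.mem_top e
  · obtain ⟨M, hM, hle⟩ := (eq_top_or_exists_le_coatom D).resolve_left hD
    refine ⟨M, ⟨hM, le_sup_right.trans hle⟩, fun M' hM' => ?_⟩
    have h1 := (hmax M' hM'.1 hM'.2).trans hle
    by_contra hne'
    exact hM.1 (hM'.1.2 M (lt_of_le_of_ne h1 hne'))

include hinv htr hres hnorm in
theorem irreducible_part (hne : 𝒦.Nonempty) (hmem : ∀ E ∈ 𝒦, Cfsg.IsStronglyPIrreducible p ↥E) :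
    Cfsg.IsPIrreducible p H ∧ ∀ E ∈ 𝒦, ∀ K ∈ 𝒦, pResidualOf p (E ⊔ Cfsg.pCore p H) = pResidualOf p (K ⊔ Cfsg.pCore p H) ∨
      ⁅E, K⁆ ≤ Cfsg.pCore p H := by
  set P := Cfsg.pCore p H
  set W := sSup 𝒦 ⊔ P
  haveI hWn : W.Normal := W_normal hinv
  obtain ⟨T⟩ : Nonempty (Sylow p H) := inferInstance
  have hPT : P ≤ (T : Subgroup H) := pCore_le_sylow T
  have hcore : ∀ E ∈ 𝒦, ∀ U : Subgroup H, U ≤ E ⊔ P → IsPGroup p ↥U → E ⊔ P ≤ Subgroup.normalizer (U : Set H) → U ≤ P :=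
    fun E hE U hU hUp hUN => (Large.le_pCoreOf_of_normal le_rfl Subgroup.le_normalizer hU hUN hUp).trans
      (pCoreOf_le_pCore (le_W hE) (hnorm E hE))
  have hsyl : ∀ E ∈ 𝒦, ¬ (T : Subgroup H) ⊓ E ≤ P := by
    intro E hE h
    obtain ⟨S, hS⟩ := exists_sylow (mx_all hinv hnorm T hE).2
    refine (hmem E hE).1 (PResidual.isPClosed_of_le_pCore fun U hU => ?_)
    obtain ⟨S', hS'⟩ := hU.exists_le_sylow
    obtain ⟨g, hg⟩ := MulAction.exists_smul_eq ↥E S S'
    refine hS'.trans ?_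
    haveI : (P.subgroupOf E).Normal := inferInstance
    refine le_trans ?_ (le_pCore (N := P.subgroupOf E) ((isPGroup_pCore (G := H) p).comap_of_injective E.subtype E.subtype_injective))
    rw [← hg, Sylow.coe_subgroup_smul, Subgroup.pointwise_smul_def]
    rintro _ ⟨s, hs, rfl⟩
    exact (inferInstance : (P.subgroupOf E).Normal).conj_mem s (h (hS ▸ ⟨s, hs, rfl⟩)) g
  -- strong irreducibility of `E P`
  have hstrong : ∀ E ∈ 𝒦, ∀ N : Subgroup H, N ≤ E ⊔ P → E ⊔ P ≤ Subgroup.normalizer (N : Set H) →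
      ¬ ⁅N, E ⊔ P⁆ ≤ P → pResidualOf p (E ⊔ P) ≤ N := by
    intro E hE N hNB hBN hnc
    haveI hn1 : ((N ⊔ P).subgroupOf E).Normal := by
      refine Subgroup.normal_subgroupOf_of_le_normalizer ((le_inf (le_sup_left.trans hBN) ?_).trans
        (Subgroup.normalizer_inf_normalizer_le_normalizer_sup N P))
      rw [Subgroup.normalizer_eq_top]; exact le_top
    have hresE : pResidualOf p E ≤ N ⊔ P := by
      have h := (hmem E hE).2 ((N ⊔ P).subgroupOf E) hn1 ?_
      · rintro _ ⟨x, hx, rfl⟩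
        exact h hx
      intro h
      refine hnc ?_
      have hOE : Cfsg.pCoreOf p E ≤ P := by
        refine le_trans le_sup_left (hcore E hE (Cfsg.pCoreOf p E ⊔ P) (sup_le_sup_right (Large.pCoreOf_le p E) P)
          (((isPGroup_pCore p).map _).to_sup_of_normal_right (isPGroup_pCore p)) (sup_le ?_ ?_))
        · refine (le_inf (Large.le_normalizer_pCoreOf p E) ?_).trans (Subgroup.normalizer_inf_normalizer_le_normalizer_sup _ _)
          rw [Subgroup.normalizer_eq_top]; exact le_top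
        · exact le_sup_right.trans Subgroup.le_normalizer
      rw [Subgroup.commutator_le]
      intro a ha b hb
      obtain ⟨a₁, ha₁, u, hu, rfl⟩ := mem_split (hNB ha)
      obtain ⟨b₁, hb₁, v, hv, rfl⟩ := mem_split hb
      have h2 : ⁅a₁, b₁⁆ ∈ P := by
        refine hOE ⟨⁅(⟨a₁, ha₁⟩ : ↥E), ⟨b₁, hb₁⟩⁆, h (Subgroup.commutator_mem_commutator ?_ (Subgroup.mem_top _)), rfl⟩
        show a₁ ∈ N ⊔ P
        simpa using Subgroup.mul_mem (N ⊔ P) (Subgroup.mem_sup_left ha) (Subgroup.inv_mem _ (Subgroup.mem_sup_right hu))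
      rw [← QuotientGroup.eq_one_iff (N := P), ← QuotientGroup.mk'_apply, map_commutatorElement, map_mul, map_mul,
        QuotientGroup.mk'_apply, QuotientGroup.mk'_apply, QuotientGroup.mk'_apply, QuotientGroup.mk'_apply,
        (QuotientGroup.eq_one_iff u).mpr hu, (QuotientGroup.eq_one_iff v).mpr hv, mul_one, mul_one,
        ← QuotientGroup.mk'_apply, ← QuotientGroup.mk'_apply, ← map_commutatorElement, QuotientGroup.mk'_apply,
        QuotientGroup.eq_one_iff]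
      exact h2
    refine res_le_of_le_sup (le_sup_right.trans hBN) (isPGroup_pCore p) (res_le_of_pow fun x hx => ?_)
    obtain ⟨e, he, u, hu, rfl⟩ := mem_split (res_le _ hx)
    obtain ⟨k, hk⟩ := exists_pow_mem (p := p) he
    refine ⟨k, ?_⟩
    have e1 : QuotientGroup.mk' P ((e * u) ^ p ^ k) = QuotientGroup.mk' P (e ^ p ^ k) := by
      rw [map_pow, map_mul, show QuotientGroup.mk' P u = 1 from (QuotientGroup.eq_one_iff u).mpr hu, mul_one, map_pow]
    obtain ⟨z, hz, ez⟩ := (QuotientGroup.mk'_eq_mk' P).mp e1.symm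
    rw [← ez]
    exact Subgroup.mul_mem _ (hresE hk) (Subgroup.mem_sup_right hz)
  have hder : ∀ E ∈ 𝒦, pResidualOf p (E ⊔ P) ≤ ⁅E ⊔ P, E ⊔ P⁆ := by
    intro E hE
    obtain ⟨S⟩ : Nonempty (Sylow p ↥E) := inferInstance
    have h := (Cfsg.Agent.S2827.result (Cfsg.Agent.S2829.result (hmem E hE)) S).2.2.1
    have hE' : pResidualOf p E ≤ ⁅E ⊔ P, E ⊔ P⁆ := by
      refine (Subgroup.map_mono h).trans ?_
      rw [_root_.commutator_def, Subgroup.map_commutator, ← MonoidHom.range_eq_map, Subgroup.range_subtype]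
      exact Subgroup.commutator_mono le_sup_left le_sup_left
    refine res_le_of_le_sup (P := P) (le_sup_right.trans (Subgroup.normalizer_commutator_ge_left (E ⊔ P) (E ⊔ P))) (isPGroup_pCore p)
      (res_le_of_pow fun x hx => ?_)
    obtain ⟨e, he, u, hu, rfl⟩ := mem_split (res_le _ hx)
    obtain ⟨k, hk⟩ := exists_pow_mem (p := p) he
    refine ⟨k, ?_⟩
    have e1 : QuotientGroup.mk' P ((e * u) ^ p ^ k) = QuotientGroup.mk' P (e ^ p ^ k) := by
      rw [map_pow, map_mul, show QuotientGroup.mk' P u = 1 from (QuotientGroup.eq_one_iff u).mpr hu, mul_one, map_pow]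
    obtain ⟨z, hz, ez⟩ := (QuotientGroup.mk'_eq_mk' P).mp e1.symm
    rw [← ez]
    exact Subgroup.mul_mem _ (Subgroup.mem_sup_left (hE' hk)) (Subgroup.mem_sup_right hz)
  have hfac : ∀ E ∈ 𝒦, ∀ x ∈ E ⊔ P, ∃ r ∈ pResidualOf p (E ⊔ P), ∃ t ∈ (T : Subgroup H) ⊓ (E ⊔ P), x = r * t := by
    intro E hE x hx
    obtain ⟨S, hS⟩ := exists_sylow (mx_all hinv hnorm T hE).1
    haveI : (Cfsg.pResidual p ↥(E ⊔ P)).Normal := PResidual.pResidual_normal
    have hx' : (⟨x, hx⟩ : ↥(E ⊔ P)) ∈ Cfsg.pResidual p ↥(E ⊔ P) ⊔ (S : Subgroup ↥(E ⊔ P)) := by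
      exact ((PResidual.pResidual_sup_sylow S).ge.trans (sup_comm _ _).le) (Subgroup.mem_top _)
    obtain ⟨r, hr, t, ht, e⟩ := Subgroup.mem_sup_of_normal_left.1 hx'
    exact ⟨r, ⟨r, hr, rfl⟩, t, hS ▸ ⟨t, ht, rfl⟩, congrArg Subtype.val e.symm⟩
  have hdich : ∀ E ∈ 𝒦, ∀ K ∈ 𝒦, pResidualOf p (E ⊔ P) = pResidualOf p (K ⊔ P) ∨ ⁅E ⊔ P, K ⊔ P⁆ ≤ P := by
    intro E hE K hK
    have hcard : Nat.card ↥(pResidualOf p (E ⊔ P)) = Nat.card ↥(pResidualOf p (K ⊔ P)) := by
      have one : ∀ A ∈ 𝒦, ∀ B ∈ 𝒦, Nat.card ↥(pResidualOf p (A ⊔ P)) ≤ Nat.card ↥(pResidualOf p (B ⊔ P)) := by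
        intro A hA B hB
        obtain ⟨g, rfl⟩ := htr A hA B hB
        rw [← conj_sup_core, ← Subgroup.card_map_of_injective (f := (MulAut.conj g).toMonoidHom)
          (K := pResidualOf p (A ⊔ P)) (MulEquiv.injective (MulAut.conj g))]
        exact Subgroup.card_le_of_le (conj_map_le g)
      exact le_antisymm (one E hE K hK) (one K hK E hE)
    set A := E ⊔ P with hA
    set B := K ⊔ P with hB
    have hAN : A ≤ Subgroup.normalizer (B : Set H) := (le_W hE).trans (hnorm K hK)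
    have hBN : B ≤ Subgroup.normalizer (A : Set H) := (le_W hK).trans (hnorm E hE)
    set N := A ⊓ B
    have hNA : A ≤ Subgroup.normalizer (N : Set H) := Large.le_normalizer_of fun a ha x hx =>
      ⟨A.mul_mem (A.mul_mem ha hx.1) (A.inv_mem ha), Large.conj_mem hAN ha hx.2⟩
    have hNB : B ≤ Subgroup.normalizer (N : Set H) := Large.le_normalizer_of fun a ha x hx =>
      ⟨Large.conj_mem hBN ha hx.1, B.mul_mem (B.mul_mem ha hx.2) (B.inv_mem ha)⟩
    by_cases h1 : ⁅N, A⁆ ≤ P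
    swap
    · refine Or.inl (Subgroup.eq_of_le_of_card_ge ?_ hcard.ge)
      exact res_le_of_pow fun x hx => exists_pow_mem ((hstrong E hE N inf_le_left hNA h1).trans inf_le_right hx)
    by_cases h2 : ⁅N, B⁆ ≤ P
    swap
    · refine Or.inl (Subgroup.eq_of_le_of_card_ge ?_ hcard.le).symm
      exact res_le_of_pow fun x hx => exists_pow_mem ((hstrong K hK N inf_le_right hNB h2).trans inf_le_left hx)
    refine Or.inr ?_
    have hc : ⁅A, B⁆ ≤ N := Subgroup.commutator_le.mpr fun a ha b hb => ⟨by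
        rw [commutatorElement_def, show a * b * a⁻¹ * b⁻¹ = a * (b * a⁻¹ * b⁻¹) by group]
        exact A.mul_mem ha (Large.conj_mem hBN hb (A.inv_mem ha)),
      B.mul_mem (Large.conj_mem hAN ha hb) (B.inv_mem hb)⟩
    have hc' : ⁅B, A⁆ ≤ N := by rw [Subgroup.commutator_comm]; exact hc
    have hzero : (T : Subgroup H) ⊓ N ≤ P := by
      refine hcore E hE _ (inf_le_right.trans inf_le_left) (T.2.to_le inf_le_left) (Large.le_normalizer_of fun a ha z hz => ?_)
      refine ⟨?_, Large.conj_mem hNA ha hz.2⟩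
      have h3 : ⁅z, a⁆ ∈ P := h1 (Subgroup.commutator_mem_commutator hz.2 ha)
      rw [show a * z * a⁻¹ = ⁅z, a⁆⁻¹ * z by rw [commutatorElement_def]; group]
      exact (T : Subgroup H).mul_mem ((T : Subgroup H).inv_mem (hPT h3)) hz.1
    have hRA : ⁅pResidualOf p A, B⁆ ≤ P :=
      le_trans (Subgroup.commutator_mono (hder E hE) le_rfl) (three ((Subgroup.commutator_mono hc le_rfl).trans h1)
        ((Subgroup.commutator_mono hc' le_rfl).trans h1))
    have hRB : ⁅pResidualOf p B, A⁆ ≤ P :=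
      le_trans (Subgroup.commutator_mono (hder K hK) le_rfl) (three ((Subgroup.commutator_mono hc' le_rfl).trans h2)
        ((Subgroup.commutator_mono hc le_rfl).trans h2))
    rw [Subgroup.commutator_le]
    intro a ha b hb
    obtain ⟨r, hr, t, ht, rfl⟩ := hfac E hE a ha
    obtain ⟨r', hr', t', ht', rfl⟩ := hfac K hK b hb
    have e1 : ⁅r, r' * t'⁆ ∈ P := hRA (Subgroup.commutator_mem_commutator hr hb)
    have e2 : ⁅r', t⁆ ∈ P := hRB (Subgroup.commutator_mem_commutator hr' ht.2)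
    have e3 : ⁅t, t'⁆ ∈ P := hzero ⟨(T : Subgroup H).mul_mem ((T : Subgroup H).mul_mem ((T : Subgroup H).mul_mem ht.1 ht'.1)
      ((T : Subgroup H).inv_mem ht.1)) ((T : Subgroup H).inv_mem ht'.1), hc (Subgroup.commutator_mem_commutator ht.2 ht'.2)⟩
    rw [show ⁅r * t, r' * t'⁆ = r * (⁅r', t⁆⁻¹ * (r' * ⁅t, t'⁆ * r'⁻¹)) * r⁻¹ * ⁅r, r' * t'⁆ by
      simp only [commutatorElement_def]; group]
    exact P.mul_mem ((inferInstance : P.Normal).conj_mem _ (P.mul_mem (P.inv_mem e2) ((inferInstance : P.Normal).conj_mem _ e3 r')) r) e1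
  refine ⟨⟨fun h => ?_, fun N hN hNc => ?_⟩, fun E hE K hK => (hdich E hE K hK).imp id fun h => (Subgroup.commutator_mono le_sup_left le_sup_left).trans h⟩
  · obtain ⟨E, hE⟩ := hne
    exact hsyl E hE (inf_le_left.trans (PResidual.le_pCore_of_isPClosed h T.2))
  haveI := hN
  set R := Cfsg.pResidual p H
  set S := ⨆ E : {E : Subgroup H // E ∈ 𝒦}, pResidualOf p ((E : Subgroup H) ⊔ P)
  have hWS : W ≤ Subgroup.normalizer (S : Set H) := fun w hw => by
    refine Local.mem_normalizer_of_map_conj_eq ?_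
    rw [Subgroup.map_iSup]
    exact iSup_congr fun E => Local.map_conj_eq_of_mem_normalizer (((hnorm E.1 E.2).trans (normalizer_le _)) hw)
  have hRW : R ≤ W := hres.trans le_sup_left
  have hRS : R ≤ S := by
    refine PResidual.pResidual_le_of_pow fun x => ?_
    obtain ⟨k, hk⟩ := PResidual.pow_mem_pResidual (p := p) x
    have hle : W ≤ S ⊔ ((T : Subgroup H) ⊓ W) := sup_le (sSup_le fun E hE x hx => by
        obtain ⟨r, hr, t, ht, rfl⟩ := hfac E hE x (Subgroup.mem_sup_left hx)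
        exact Subgroup.mul_mem _ (Subgroup.mem_sup_left (le_iSup (fun E : {E : Subgroup H // E ∈ 𝒦} => pResidualOf p ((E : Subgroup H) ⊔ P)) ⟨E, hE⟩ hr))
          (Subgroup.mem_sup_right ⟨ht.1, le_W hE ht.2⟩))
      fun u hu => Subgroup.mem_sup_right ⟨hPT hu, Subgroup.mem_sup_right hu⟩
    obtain ⟨j, hj⟩ := exists_pow_mem_of_mem_sup (inf_le_right.trans hWS) (T.2.to_le inf_le_left) (hle (hRW hk))
    exact ⟨k + j, by rw [pow_add, pow_mul]; exact hj⟩
  by_cases hex : ∃ E ∈ 𝒦, ¬ ⁅N ⊓ (E ⊔ P), E ⊔ P⁆ ≤ P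
  · obtain ⟨E, hE, hc⟩ := hex
    have hEN : pResidualOf p (E ⊔ P) ≤ N := (hstrong E hE _ inf_le_right (Large.le_normalizer_of fun a ha x hx =>
      ⟨hN.conj_mem x hx.1 a, (E ⊔ P).mul_mem ((E ⊔ P).mul_mem ha hx.2) ((E ⊔ P).inv_mem ha)⟩) hc).trans inf_le_left
    refine hRS.trans (iSup_le fun K => ?_)
    obtain ⟨g, hg⟩ := htr K.1 K.2 E hE
    intro x hx
    have h1 : g * x * g⁻¹ ∈ pResidualOf p (E ⊔ P) := by
      rw [hg, ← conj_sup_core]
      exact conj_map_le g ⟨x, hx, rfl⟩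
    simpa [mul_assoc] using hN.conj_mem _ (hEN h1) g⁻¹
  exfalso
  push Not at hex
  set T₀ := (T : Subgroup H) ⊓ N
  have hcent : ∀ Z : Subgroup H, Z ≤ (T : Subgroup H) → (T : Subgroup H) ≤ Subgroup.normalizer (Z : Set H) →
      (∀ E ∈ 𝒦, pResidualOf p (E ⊔ P) ≤ cz P Z) → Z ≤ P := by
    intro Z hZT hTZ hZ
    have hR : R ≤ cz P Z := hRS.trans (iSup_le fun E => hZ E.1 E.2)
    have hn : (Z ⊔ P).Normal := Subgroup.normalizer_eq_top_iff.mp (top_le_iff.mp (by
      rw [← PResidual.pResidual_sup_sylow T]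
      refine sup_le ?_ (Large.le_normalizer_of fun r hr x hx => ?_)
      · refine (le_inf hTZ ?_).trans (Subgroup.normalizer_inf_normalizer_le_normalizer_sup Z P)
        rw [Subgroup.normalizer_eq_top]; exact le_top
      · obtain ⟨z, hz, u, hu, rfl⟩ := mem_split hx
        have h3 := mem_cz.mp (hR hr) z hz
        rw [show r * (z * u) * r⁻¹ = ⁅z, r⁆⁻¹ * z * (r * u * r⁻¹) by rw [commutatorElement_def]; group]
        exact Subgroup.mul_mem _ (Subgroup.mul_mem _ (Subgroup.mem_sup_right (P.inv_mem h3)) (Subgroup.mem_sup_left hz))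
          (Subgroup.mem_sup_right ((inferInstance : P.Normal).conj_mem u hu r))))
    haveI := hn
    exact le_sup_left.trans (le_pCore (N := Z ⊔ P) ((T.2.to_le hZT).to_sup_of_normal_right (isPGroup_pCore p)))
  have hNW : (T : Subgroup H) ⊓ N ⊓ W ≤ P := by
    refine hcent _ (inf_le_left.trans inf_le_left) (Large.le_normalizer_of fun t ht x hx =>
      ⟨⟨(T : Subgroup H).mul_mem ((T : Subgroup H).mul_mem ht hx.1.1) ((T : Subgroup H).inv_mem ht), hN.conj_mem x hx.1.2 t⟩,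
        hWn.conj_mem x hx.2 t⟩) fun E hE => ?_
    intro r hr
    refine mem_cz.mpr fun z hz => ?_
    set A := E ⊔ P
    have hle : ⁅N ⊓ W, A⁆ ≤ N ⊓ A := Subgroup.commutator_le.mpr fun a ha b hb =>
      ⟨by rw [commutatorElement_def, show a * b * a⁻¹ * b⁻¹ = a * (b * a⁻¹ * b⁻¹) by group]
          exact N.mul_mem ha.1 (hN.conj_mem _ (N.inv_mem ha.1) b),
        A.mul_mem (Large.conj_mem (hnorm E hE) ha.2 hb) (A.inv_mem hb)⟩
    have hle' : ⁅A, N ⊓ W⁆ ≤ N ⊓ A := by rw [Subgroup.commutator_comm]; exact hle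
    have h3 : ⁅⁅A, A⁆, N ⊓ W⁆ ≤ P :=
      three ((Subgroup.commutator_mono hle' le_rfl).trans (hex E hE)) ((Subgroup.commutator_mono hle le_rfl).trans (hex E hE))
    rw [Subgroup.commutator_comm] at h3
    exact h3 (Subgroup.commutator_mem_commutator ⟨hz.1.2, hz.2⟩ (hder E hE hr))
  have hT0 : T₀ ≤ P := by
    refine hcent _ inf_le_left (Large.le_normalizer_of fun t ht x hx =>
      ⟨(T : Subgroup H).mul_mem ((T : Subgroup H).mul_mem ht hx.1) ((T : Subgroup H).inv_mem ht), hN.conj_mem x hx.2 t⟩) fun E hE => ?_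
    intro r hr
    refine mem_cz.mpr fun y hy => ?_
    set A := E ⊔ P with hA
    have hyA : y ∈ Subgroup.normalizer (A : Set H) := by
      set K := E.map (MulAut.conj y).toMonoidHom
      have hK : K ∈ 𝒦 := hinv y E hE
      have hmap : A.map (MulAut.conj y).toMonoidHom = K ⊔ P := conj_sup_core y E
      have hTA : (T : Subgroup H) ⊓ A ≤ K ⊔ P := by
        rintro t ⟨htT, htA⟩
        have h4 : y * t * y⁻¹ * t⁻¹ ∈ P := hNW ⟨⟨(T : Subgroup H).mul_mem ((T : Subgroup H).mul_mem ((T : Subgroup H).mul_mem hy.1 htT)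
          ((T : Subgroup H).inv_mem hy.1)) ((T : Subgroup H).inv_mem htT), by
            rw [show y * t * y⁻¹ * t⁻¹ = y * (t * y⁻¹ * t⁻¹) by group]
            exact N.mul_mem hy.2 (hN.conj_mem _ (N.inv_mem hy.2) t)⟩,
          W.mul_mem (hWn.conj_mem t (le_W hE htA) y) (W.inv_mem (le_W hE htA))⟩
        have h5 : y * t * y⁻¹ ∈ K ⊔ P := hmap ▸ ⟨t, htA, rfl⟩
        have := Subgroup.mul_mem (K ⊔ P) (Subgroup.inv_mem _ (Subgroup.mem_sup_right h4)) h5
        rwa [show (y * t * y⁻¹ * t⁻¹)⁻¹ * (y * t * y⁻¹) = t by group] at this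
      refine Local.mem_normalizer_of_map_conj_eq ?_
      rw [hmap]
      rcases hdich E hE K hK with h | h
      · refine (Subgroup.eq_of_le_of_card_ge (fun x hx => ?_) ?_).symm
        · obtain ⟨r, hr, t, ht, rfl⟩ := hfac E hE x hx
          exact Subgroup.mul_mem _ (res_le _ (h ▸ hr)) (hTA ht)
        · rw [← hmap, Subgroup.card_map_of_injective (MulEquiv.injective (MulAut.conj y))]
      · exfalso
        refine hsyl E hE (le_trans (b := (T : Subgroup H) ⊓ A) (inf_le_inf_left _ le_sup_left) ?_)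
        refine hcore E hE _ inf_le_right (T.2.to_le inf_le_left) (Large.le_normalizer_of fun a ha t ht => ?_)
        have h4 : ⁅a, t⁆ ∈ P := h (Subgroup.commutator_mem_commutator ha (hTA ht))
        rw [show a * t * a⁻¹ = ⁅a, t⁆ * t by rw [commutatorElement_def]; group]
        exact ⟨(T : Subgroup H).mul_mem (hPT h4) ht.1, A.mul_mem (Subgroup.mem_sup_right h4) ht.2⟩
    set Y := Subgroup.zpowers y
    have hle : ⁅Y, A⁆ ≤ N ⊓ A := Subgroup.commutator_le.mpr fun a ha b hb => by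
      have haN : a ∈ N := (Subgroup.zpowers_le.mpr hy.2) ha
      exact ⟨by rw [commutatorElement_def, show a * b * a⁻¹ * b⁻¹ = a * (b * a⁻¹ * b⁻¹) by group]
                exact N.mul_mem haN (hN.conj_mem _ (N.inv_mem haN) b),
        A.mul_mem (Large.conj_mem (Subgroup.zpowers_le.mpr hyA) ha hb) (A.inv_mem hb)⟩
    have hle' : ⁅A, Y⁆ ≤ N ⊓ A := by rw [Subgroup.commutator_comm]; exact hle
    have h3 : ⁅⁅A, A⁆, Y⁆ ≤ P :=
      three ((Subgroup.commutator_mono hle' le_rfl).trans (hex E hE)) ((Subgroup.commutator_mono hle le_rfl).trans (hex E hE))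
    rw [Subgroup.commutator_comm] at h3
    exact h3 (Subgroup.commutator_mem_commutator (Subgroup.mem_zpowers y) (hder E hE hr))
  refine hNc (PResidual.isPClosed_of_le_pCore fun U hU => ?_)
  haveI : (P.subgroupOf N).Normal := inferInstance
  refine le_trans ?_ (le_pCore (N := P.subgroupOf N) ((isPGroup_pCore (G := H) p).comap_of_injective N.subtype N.subtype_injective))
  intro u hu
  obtain ⟨Q, hQ⟩ := (hU.map N.subtype).exists_le_sylow
  obtain ⟨g, hg⟩ := MulAction.exists_smul_eq H T Q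
  have h2 := hQ ⟨u, hu, rfl⟩
  rw [← hg, Sylow.coe_subgroup_smul, Subgroup.pointwise_smul_def] at h2
  obtain ⟨t, ht, e⟩ := h2
  have e' : g * t * g⁻¹ = (u : H) := e
  have htN : t ∈ N := by
    have := hN.conj_mem _ u.2 g⁻¹
    rw [← e'] at this
    simpa [mul_assoc] using this
  show (u : H) ∈ P
  rw [← e']
  exact (inferInstance : P.Normal).conj_mem t (hT0 ⟨ht, htN⟩) g

end members

/-- Let H be a finite group, p a prime, and 𝒦 a nonempty set of subgroups of H permuted transitively by conjugation, with R the subgroup generated by the members of 𝒦. Suppose O^p(H) ≤ R, each E ∈ 𝒦 has E·O_p(H) normal in R·O_p(H), and each E ∈ 𝒦 is p-minimal (generated by the conjugates of a Sylow p-subgroup T_E of E, with T_E in exactly one maximal subgroup of E). Then H is p-minimal in the same sense. If instead each E ∈ 𝒦 is strongly p-irreducible, then H is p-irreducible and, for E, K ∈ 𝒦, either O^p(E·O_p(H)) = O^p(K·O_p(H)) or [E, K] ≤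 O_p(H). -/
theorem result {H : Type*} [Group H] [Finite H] {p : ℕ} [Fact p.Prime] (𝒦 : Set (Subgroup H)) (hne : 𝒦.Nonempty) (hinv : ∀ h : H, ∀ E ∈ 𝒦, E.map (MulAut.conj h).toMonoidHom ∈ 𝒦) (htr : ∀ E ∈ 𝒦, ∀ K ∈ 𝒦, ∃ h : H, K = E.map (MulAut.conj h).toMonoidHom) (hres : Cfsg.pResidual p H ≤ sSup 𝒦) (hnorm : ∀ E ∈ 𝒦, sSup 𝒦 ⊔ Cfsg.pCore p H ≤ Subgroup.normalizer ((E ⊔ Cfsg.pCore p H : Subgroup H) : Set H)) : ((∀ E ∈ 𝒦, ∀ T : Sylow p ↥E, Cfsg.IsMinimalOver (T : Subgroup ↥E)) → ∀ T : Sylow p H, Cfsg.IsMinimalOver (T : Subgroup H)) ∧ ((∀ E ∈ 𝒦, Cfsg.IsStronglyPIrreducible p ↥E) → Cfsg.IsPIrreducible p H ∧ ∀ E ∈ 𝒦, ∀ K ∈ 𝒦, (Cfsg.pResidual p ↥(E ⊔ Cfsg.pCore p H)).map (E ⊔ Cfsg.pCore p H).subtype = (Cfsg.pResidual p ↥(K ⊔ Cfsg.pCore p H)).map (K ⊔ Cfsg.pCore p H).subtype ∨ ⁅E, K⁆ ≤ Cfsg.pCore p H) := by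
  exact ⟨fun h => minimal_part hinv htr hres hnorm hne h, fun h => irreducible_part hinv htr hres hnorm hne h⟩

end Cfsg.Agent.S2855
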