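import Cfsg.Statements.S2856
import Cfsg.Agent.Lib.AmalgamV

set_option autoImplicit false
set_option linter.unusedVariables false
open Cfsg
open scoped commutatorElement

namespace Cfsg.Agent.S2856

open CfsgLib CfsgLib.AmalgamV CfsgLib.AmalgamBasic CfsgLib.AmalgamCritical
open scoped commutatorElement

/-- Let (M₁, M₂) be an amalgam pair in X satisfying the rank-two standing hypothesis (characteristic p, the normalizers in M₁ and in M₂ of a Sylow p-subgroup of M₁ ∩ M₂ equal and contained in M₁ ∩ M₂, and strongly p-embedded residues), λ a vertex of the coset graph, L_λ the subgroup of its stabilizer generated by the p-elements, Q_λ = O_p of the stabilizer, O^p(L_λ) the subgroup of L_λ generated by its elements of order prime to p, and V_λ^{(k)} the subgroup generated by the Z_μ over the vertices μ at distance at most k from λ (Z_μ being generated by the Ω₁(Z(S)), S a Sylow p-subgroup of the stabilizer of μ). If n ≥ 1 and V_λ^{(n)}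 ≤ Q_λ, then O^p(L_λ) does not centralize V_λ^{(n)}/[V_λ^{(n)}, Q_λ], that is, [V_λ^{(n)}, O^p(L_λ)] is not contained in [V_λ^{(n)}, Q_λ]. -/
theorem result {X : Type*} [Group X] {p : ℕ} [Fact p.Prime] (M₁ M₂ : Subgroup X) (h : Cfsg.IsSpeAmalgamPair p M₁ M₂) (lam : Cfsg.CosetVertex M₁ M₂) (n : ℕ) (hn : 1 ≤ n) (V : Subgroup X) (hV : V = Cfsg.vertexVIter p M₁ M₂ n lam) (hVQ : V ≤ Cfsg.vertexQ p lam) : ¬ ⁅V, ((Cfsg.pResidual p ↥(Cfsg.pElementClosure p (MulAction.stabilizer X lam))).map (Cfsg.pElementClosure p (MulAction.stabilizer X lam)).subtype)⁆ ≤ ⁅V, Cfsg.vertexQ p lam⁆ := by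
  intro hcon
  obtain ⟨k, rfl⟩ : ∃ k, n = k + 1 := ⟨n - 1, by omega⟩
  subst hV
  obtain ⟨μ, hμ⟩ : ∃ μ, (Cfsg.cosetGraph M₁ M₂).Adj lam μ := by
    rcases lam with q | q <;> obtain ⟨x, rfl⟩ := QuotientGroup.mk_surjective q
    · exact ⟨_, adj_iff.mpr ⟨x, Or.inl ⟨rfl, rfl⟩⟩⟩
    · exact ⟨_, adj_iff.mpr ⟨x, Or.inr ⟨rfl, rfl⟩⟩⟩
  set V := Cfsg.vertexVIter p M₁ M₂ (k + 1) lam with hV
  set W := Cfsg.vertexVIter p M₁ M₂ k μ with hW
  have hWV : W ≤ V := vIter_le_of_adj h.1.1 hμ.symm k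
  haveI := finite_vertex h.1 lam
  haveI : Finite ↥(Cfsg.vertexQ p lam) :=
    Finite.of_injective (Subgroup.inclusion (Subgroup.map_subtype_le _)) (Subgroup.inclusion_injective _)
  have hQp : IsPGroup p ↥(Cfsg.vertexQ p lam) := (isPGroup_pCore p).map _
  have hVsup : V ≤ W ⊔ ⁅V, Cfsg.vertexQ p lam⁆ := by
    refine (vIter_le_iSup h.1 hμ k).trans (iSup₂_le fun ν hν x hx => ?_)
    obtain ⟨o, ho, rfl⟩ := resid_transitive h hμ hν
    have hw : o⁻¹ * x * o ∈ W := by
      have := conj_vIter h.1 o⁻¹ k hx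
      rwa [inv_smul_smul, inv_inv] at this
    have hc : ⁅o⁻¹ * x * o, o⁆ ∈ ⁅V, Cfsg.vertexQ p lam⁆ :=
      hcon (Subgroup.commutator_mem_commutator (hWV hw) ho)
    rw [show x = ⁅o⁻¹ * x * o, o⁆⁻¹ * (o⁻¹ * x * o) by rw [commutatorElement_def]; group]
    exact mul_mem (Subgroup.mem_sup_right (inv_mem hc)) (Subgroup.mem_sup_left hw)
  have hQμ : Cfsg.vertexQ p lam ≤ MulAction.stabilizer X μ :=
    (Cfsg.Agent.S2746.result M₁ M₂ h.1 lam).trans (kernel_le_stab hμ)
  have hVW : V ≤ W :=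
    eq_of_le_sup_commutator hQp hVQ hWV (hQμ.trans (stab_normalizes_vIter h.1 k μ)) hVsup
  refine not_normal_both h hμ k (hWV.trans hVQ) ?_
  rw [← hW, le_antisymm hWV hVW]
  refine le_trans ?_ (stab_normalizes_vIter h.1 (k + 1) lam)
  exact (Subgroup.map_subtype_le _).trans ((Subgroup.closure_le _).mpr fun x hx => hx.1)

end Cfsg.Agent.S2856
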