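import Cfsg.Statements.S2857
import Cfsg.Agent.Lib.AmalgamV

set_option autoImplicit false
set_option linter.unusedVariables false
open Cfsg
open scoped commutatorElement

namespace Cfsg.Agent.S2857

open CfsgLib CfsgLib.AmalgamV CfsgLib.AmalgamBasic CfsgLib.AmalgamCritical
open scoped commutatorElement

/-- Let (M₁, M₂) be an amalgam pair in X satisfying the rank-two standing hypothesis (characteristic p, the normalizers in M₁ and in M₂ of a Sylow p-subgroup of M₁ ∩ M₂ equal and contained in M₁ ∩ M₂, and strongly p-embedded residues), λ a vertex of the coset graph, L_λ the subgroup of its stabilizer generated by the p-elements, Q_λ = O_p of the stabilizer, O^p(L_λ) the subgroup of L_λ generated by its elements of order prime to p, and V_λ^{(k)} the subgroup generated by the Z_μ over the vertices μ at distance at most k from λ (Z_μ being generated by the Ω₁(Z(S)), S a Sylow p-subgroup of the stabilizer of μ). If n ≥ 2 and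 V_λ^{(n)} ≤ Q_λ, then O^p(L_λ) does not centralize V_λ^{(n)}/V_λ^{(n-2)}, that is, [V_λ^{(n)}, O^p(L_λ)] is not contained in V_λ^{(n-2)}. -/
theorem result {X : Type*} [Group X] {p : ℕ} [Fact p.Prime] (M₁ M₂ : Subgroup X) (h : Cfsg.IsSpeAmalgamPair p M₁ M₂) (lam : Cfsg.CosetVertex M₁ M₂) (n : ℕ) (hn : 2 ≤ n) (hVQ : Cfsg.vertexVIter p M₁ M₂ n lam ≤ Cfsg.vertexQ p lam) : ¬ ⁅Cfsg.vertexVIter p M₁ M₂ n lam, ((Cfsg.pResidual p ↥(Cfsg.pElementClosure p (MulAction.stabilizer X lam))).map (Cfsg.pElementClosure p (MulAction.stabilizer X lam)).subtype)⁆ ≤ Cfsg.vertexVIter p M₁ M₂ (n - 2) lam := by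
  intro hcon
  obtain ⟨k, rfl⟩ : ∃ k, n = k + 2 := ⟨n - 2, by omega⟩
  simp only [Nat.add_sub_cancel] at hcon
  obtain ⟨μ, hμ⟩ : ∃ μ, (Cfsg.cosetGraph M₁ M₂).Adj lam μ := by
    rcases lam with q | q <;> obtain ⟨x, rfl⟩ := QuotientGroup.mk_surjective q
    · exact ⟨_, adj_iff.mpr ⟨x, Or.inl ⟨rfl, rfl⟩⟩⟩
    · exact ⟨_, adj_iff.mpr ⟨x, Or.inr ⟨rfl, rfl⟩⟩⟩
  have hWV : Cfsg.vertexVIter p M₁ M₂ (k + 1) μ ≤ Cfsg.vertexVIter p M₁ M₂ (k + 2) lam :=
    vIter_le_of_adj h.1.1 hμ.symm (k + 1)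
  have hUW : Cfsg.vertexVIter p M₁ M₂ k lam ≤ Cfsg.vertexVIter p M₁ M₂ (k + 1) μ :=
    vIter_le_of_adj h.1.1 hμ k
  refine not_normal_both h hμ (k + 1) (hWV.trans hVQ) ?_
  intro o ho
  have key : ∀ o ∈ resid p lam, ∀ w ∈ Cfsg.vertexVIter p M₁ M₂ (k + 1) μ,
      o * w * o⁻¹ ∈ Cfsg.vertexVIter p M₁ M₂ (k + 1) μ := by
    intro o ho w hw
    have hc := hUW (hcon (Subgroup.commutator_mem_commutator (hWV hw) ho))
    rw [show o * w * o⁻¹ = ⁅w, o⁆⁻¹ * w by rw [commutatorElement_def]; group]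
    exact mul_mem (inv_mem hc) hw
  refine Subgroup.mem_normalizer_iff.mpr fun w => ⟨key o ho w, fun hw => ?_⟩
  simpa [mul_assoc] using key o⁻¹ (inv_mem ho) _ hw

end Cfsg.Agent.S2857
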