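import Cfsg.Statements.S2859
import Mathlib
import Cfsg.Agent.Lib.WeakResidual
import Cfsg.Agent.S2839

set_option autoImplicit false
set_option linter.unusedVariables false
open Cfsg
open scoped commutatorElement

namespace Cfsg.Agent.S2859

open CfsgLib CfsgLib.WeakResidual
open scoped commutatorElement

variable {G : Type*} [Group G] [Finite G] {p : ℕ} [Fact p.Prime] {Q Hc H₁ H₂ : Subgroup G}

theorem Hc_normal (Q : Subgroup G) : (Cfsg.weakClosure Q (⊤ : Subgroup G)).Normal :=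
  Subgroup.normalizer_eq_top_iff.mp (top_le_iff.mp le_normalizer_weakClosure)

theorem mem_prod (hn₁ : Hc ≤ Subgroup.normalizer (H₁ : Set G)) (h₁ : H₁ ≤ Hc) (h₂ : H₂ ≤ Hc) (hprod : H₁ ⊔ H₂ = Hc)
    {q : G} (hq : q ∈ Hc) : ∃ a ∈ H₁, ∃ b ∈ H₂, q = a * b := by
  rw [← hprod, ← SetLike.mem_coe, Subgroup.coe_mul_of_right_le_normalizer_left H₁ H₂ (h₂.trans hn₁)] at hq
  obtain ⟨a, ha, b, hb, rfl⟩ := hq
  exact ⟨a, ha, b, hb, rfl⟩

/-- The commutators of `[H₁,H₂]` with `H°` lie in `O_p(H°)`. -/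
theorem comm_D (hwc : Large.PWC p Q) (hQp : IsPGroup p ↥Q) (hHc : Hc = Cfsg.weakClosure Q ⊤)
    (hn₁ : H₁ ≤ Hc ∧ Hc ≤ Subgroup.normalizer (H₁ : Set G)) (hn₂ : H₂ ≤ Hc ∧ Hc ≤ Subgroup.normalizer (H₂ : Set G))
    (hcomm : ⁅H₁, H₂⁆ ≤ Subgroup.normalizer (Q : Set G)) :
    ⁅H₁, H₂⁆ ≤ Hc ∧ Hc ≤ Subgroup.normalizer ((⁅H₁, H₂⁆ : Subgroup G) : Set G) ∧ (Cfsg.pCoreOf p Hc).Normal ∧
      ∀ x ∈ Hc, ∀ d ∈ ⁅H₁, H₂⁆, d * x * d⁻¹ * x⁻¹ ∈ Cfsg.pCoreOf p Hc := by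
  set D := ⁅H₁, H₂⁆
  haveI hHn : Hc.Normal := hHc ▸ Hc_normal Q
  have hQH : Q ≤ Hc := hHc ▸ Large.le_weakClosure le_top
  have hDH : D ≤ Hc := Subgroup.commutator_le.mpr fun a ha b hb =>
    Hc.mul_mem (Hc.mul_mem (Hc.mul_mem (hn₁.1 ha) (hn₂.1 hb)) (Hc.inv_mem (hn₁.1 ha))) (Hc.inv_mem (hn₂.1 hb))
  have hDN : Hc ≤ Subgroup.normalizer (D : Set G) := fun x hx => by
    refine Local.mem_normalizer_of_map_conj_eq ?_
    rw [Subgroup.map_commutator, Local.map_conj_eq_of_mem_normalizer (hn₁.2 hx), Local.map_conj_eq_of_mem_normalizer (hn₂.2 hx)]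
  have hPn : (Cfsg.pCoreOf p Hc).Normal := by
    haveI : (Cfsg.pCore p ↥Hc).Characteristic := pCore_characteristic p
    exact ConjAct.normal_of_characteristic_of_normal
  set P := Cfsg.pCoreOf p Hc
  have hDQ : D ⊓ Q ≤ P := by
    refine le_trans ?_ (Large.le_pCoreOf_of_normal hDH hDN (Large.pCoreOf_le p D) (Large.le_normalizer_pCoreOf p D) ((isPGroup_pCore p).map _))
    exact Large.le_pCoreOf_of_normal le_rfl Subgroup.le_normalizer inf_le_left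
      (Large.le_normalizer_of fun d hd x hx => ⟨D.mul_mem (D.mul_mem hd hx.1) (D.inv_mem hd), Large.conj_mem hcomm hd hx.2⟩)
      (hQp.to_le inf_le_right)
  have hQ : ∀ q ∈ Q, ∀ d ∈ D, d * q * d⁻¹ * q⁻¹ ∈ P := fun q hq d hd => hDQ ⟨by
      rw [show d * q * d⁻¹ * q⁻¹ = d * (q * d⁻¹ * q⁻¹) by group]
      exact D.mul_mem hd (Large.conj_mem hDN (hQH hq) (D.inv_mem hd)),
    Q.mul_mem (Large.conj_mem hcomm hd hq) (Q.inv_mem hq)⟩
  refine ⟨hDH, hDN, hPn, ?_⟩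
  let S : Subgroup G :=
    { carrier := {x | x ∈ Hc ∧ ∀ d ∈ D, d * x * d⁻¹ * x⁻¹ ∈ P}
      mul_mem' := fun {x y} hx hy => ⟨Hc.mul_mem hx.1 hy.1, fun d hd => by
        rw [show d * (x * y) * d⁻¹ * (x * y)⁻¹ = d * x * d⁻¹ * x⁻¹ * (x * (d * y * d⁻¹ * y⁻¹) * x⁻¹) by group]
        exact P.mul_mem (hx.2 d hd) (hPn.conj_mem _ (hy.2 d hd) x)⟩
      one_mem' := ⟨Hc.one_mem, fun d _ => by simp⟩
      inv_mem' := fun {x} hx => ⟨Hc.inv_mem hx.1, fun d hd => by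
        rw [show d * x⁻¹ * d⁻¹ * x⁻¹⁻¹ = x⁻¹ * (d * x * d⁻¹ * x⁻¹)⁻¹ * x⁻¹⁻¹ by group]
        exact hPn.conj_mem _ (P.inv_mem (hx.2 d hd)) _⟩ }
  have hS : Hc ≤ S := by
    conv_lhs => rw [hHc]
    refine iSup_le fun g => ?_
    have hg : Q.map (MulAut.conj (g : G)).toMonoidHom ≤ Hc := hHc ▸ Large.conj_le_weakClosure g.2
    obtain ⟨k, hk, e⟩ := Large.conj_of_pwc hwc hQp hQH hg
    rw [e]
    refine Local.map_conj_le fun q hq => ⟨Hc.mul_mem (Hc.mul_mem hk (hQH hq)) (Hc.inv_mem hk), fun d hd => ?_⟩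
    rw [show d * (k * q * k⁻¹) * d⁻¹ * (k * q * k⁻¹)⁻¹ =
      k * ((k⁻¹ * d * k⁻¹⁻¹) * q * (k⁻¹ * d * k⁻¹⁻¹)⁻¹ * q⁻¹) * k⁻¹ by group]
    exact hPn.conj_mem _ (hQ q hq _ (Large.conj_mem hDN (Hc.inv_mem hk) hd)) k
  exact fun x hx => (hS hx).2

theorem main (hwc : Large.PWC p Q) (hQp : IsPGroup p ↥Q) (hHc : Hc = Cfsg.weakClosure Q ⊤)
    (hn₁ : H₁ ≤ Hc ∧ Hc ≤ Subgroup.normalizer (H₁ : Set G)) (hn₂ : H₂ ≤ Hc ∧ Hc ≤ Subgroup.normalizer (H₂ : Set G))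
    (hprod : H₁ ⊔ H₂ = Hc) (hcomm : ⁅H₁, H₂⁆ ≤ Subgroup.normalizer (Q : Set G)) {K : Subgroup G}
    (hK : K = Cfsg.pResidualOf p (Cfsg.weakClosure Q (H₁ ⊔ Q))) :
    ⁅K, Q⁆ = K ∧ ⁅K, H₁⁆ = K ∧ K ≤ ⁅H₁, H₁⁆ ∧ Hc ≤ Subgroup.normalizer (K : Set G) ∧ K ≤ Cfsg.pResidualOf p Hc ∧
      ∀ h ∈ H₁, Q.map (MulAut.conj h).toMonoidHom ≤ Q ⊔ K := by
  obtain ⟨hDH, hDN, hPn, hD⟩ := comm_D hwc hQp hHc hn₁ hn₂ hcomm
  haveI := hPn
  set D := ⁅H₁, H₂⁆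
  have hQH : Q ≤ Hc := hHc ▸ Large.le_weakClosure le_top
  set L := H₁ ⊔ Q
  set W := Cfsg.weakClosure Q L
  have hQL : Q ≤ L := le_sup_right
  have hWL : W ≤ L := Large.weakClosure_le L
  have hKQ : ⁅K, Q⁆ = K := hK ▸ commutator_res hwc hQp hQL
  have hLK : L ≤ Subgroup.normalizer (K : Set G) := hK ▸ le_normalizer_weakClosure.trans (normalizer_le W)
  have hH1L : H₁ ≤ L := le_sup_left
  have hLH1 : L ≤ Subgroup.normalizer (H₁ : Set G) := sup_le Subgroup.le_normalizer (hQH.trans hn₁.2)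
  have hKH1 : K ≤ H₁ := by
    rw [hK]
    exact res_le_of_le_sup (P := Q) (hQH.trans hn₁.2) hQp ((res_le W).trans hWL)
  have hKL : K ≤ L := hK ▸ (res_le W).trans hWL
  have hQK : Q ≤ Subgroup.normalizer (K : Set G) := hQL.trans hLK
  set C := ⁅K, H₁⁆ with hC
  have hCK : C ≤ K := Subgroup.commutator_le.mpr fun k hk a ha => by
    rw [commutatorElement_def, show k * a * k⁻¹ * a⁻¹ = k * (a * k⁻¹ * a⁻¹) by group]
    exact K.mul_mem hk (Large.conj_mem hLK (hH1L ha) (K.inv_mem hk))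
  have hQC : Q ≤ Subgroup.normalizer (C : Set G) := fun q hq => by
    refine Local.mem_normalizer_of_map_conj_eq ?_
    rw [Subgroup.map_commutator, Local.map_conj_eq_of_mem_normalizer (hQK hq),
      Local.map_conj_eq_of_mem_normalizer (hn₁.2 (hQH hq))]
  set P := Cfsg.pCoreOf p Hc ⊓ H₁ with hP
  have hPp : IsPGroup p ↥P := ((isPGroup_pCore (G := ↥Hc) p).map Hc.subtype).to_le inf_le_left
  have hPL : P ≤ L := inf_le_right.trans hH1L
  have hH1C : H₁ ≤ Subgroup.normalizer (C : Set G) := Subgroup.normalizer_commutator_ge_right K H₁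
  have hDH1 : D ≤ H₁ := Subgroup.commutator_le.mpr fun a ha b hb => by
    rw [commutatorElement_def, show a * b * a⁻¹ * b⁻¹ = a * (b * a⁻¹ * b⁻¹) by group]
    exact H₁.mul_mem ha (Large.conj_mem (hn₂.1.trans hn₁.2) hb (H₁.inv_mem ha))
  have hKC : K = C := by
    refine le_antisymm ?_ hCK
    have h1 : K ≤ C ⊔ D := by
      conv_lhs => rw [← hKQ]
      refine Subgroup.commutator_le.mpr fun k hk q hq => ?_
      obtain ⟨a, ha, b, hb, rfl⟩ := mem_prod hn₁.2 hn₁.1 hn₂.1 hprod (hQH hq)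
      rw [show ⁅k, a * b⁆ = ⁅k, a⁆ * (a * ⁅k, b⁆ * a⁻¹) by simp only [commutatorElement_def]; group]
      exact Subgroup.mul_mem _ (Subgroup.mem_sup_left (Subgroup.commutator_mem_commutator hk ha))
        (Subgroup.mem_sup_right (Large.conj_mem (hn₁.1.trans hDN) ha (Subgroup.commutator_mem_commutator (hKH1 hk) hb)))
    have hDC : D ≤ Subgroup.normalizer (C : Set G) := hDH1.trans hH1C
    have h2 : K ≤ C ⊔ P := by
      conv_lhs => rw [← hKQ]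
      refine Subgroup.commutator_le.mpr fun k hk q hq => ?_
      have hk' := h1 hk
      rw [← SetLike.mem_coe, Subgroup.coe_mul_of_right_le_normalizer_left C D hDC] at hk'
      obtain ⟨c, hc, d, hd, rfl⟩ := hk'
      dsimp only
      have hx : ⁅d, q⁆ ∈ P := by
        refine ⟨hD q (hQH hq) d hd, hDH1 ?_⟩
        rw [commutatorElement_def, show d * q * d⁻¹ * q⁻¹ = d * (q * d⁻¹ * q⁻¹) by group]
        exact D.mul_mem hd (Large.conj_mem (hQH.trans hDN) hq (D.inv_mem hd))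
      have hcq : ⁅c, q⁆ ∈ C := by
        rw [commutatorElement_def, show c * q * c⁻¹ * q⁻¹ = c * (q * c⁻¹ * q⁻¹) by group]
        exact C.mul_mem hc (Large.conj_mem hQC hq (C.inv_mem hc))
      rw [show ⁅c * d, q⁆ = c * ⁅d, q⁆ * c⁻¹ * ⁅c, q⁆ by simp only [commutatorElement_def]; group]
      exact Subgroup.mul_mem _ (Subgroup.mul_mem _ (Subgroup.mul_mem _ (Subgroup.mem_sup_left hc) (Subgroup.mem_sup_right hx))
        (Subgroup.mem_sup_left (C.inv_mem hc))) (Subgroup.mem_sup_left hcq)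
    rw [hK] at h2 ⊢
    exact res_le_of_le_sup (inf_le_right.trans hH1C) hPp h2
  refine ⟨hKQ, hKC.symm, ?_, ?_, ?_, fun h hh => ?_⟩
  · exact hKC.le.trans (Subgroup.commutator_mono hKH1 le_rfl)
  · conv_lhs => rw [← hprod]
    refine sup_le (hH1L.trans hLK) fun h hh => ?_
    refine Local.mem_normalizer_of_map_conj_eq (Subgroup.eq_of_le_of_card_ge ?_
      (Subgroup.card_map_of_injective (MulEquiv.injective (MulAut.conj h))).ge)
    have h1 : K.map (MulAut.conj h).toMonoidHom ≤ K ⊔ P := by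
      conv_lhs => rw [hKC, hC, Subgroup.map_commutator, Local.map_conj_eq_of_mem_normalizer (hn₁.2 (hn₂.1 hh))]
      refine Subgroup.commutator_le.mpr ?_
      rintro _ ⟨k, hk, rfl⟩ a ha
      show ⁅h * k * h⁻¹, a⁆ ∈ _
      set d := k⁻¹ * (h * k * h⁻¹) with hd'
      have hd : d ∈ D := by
        rw [hd', show k⁻¹ * (h * k * h⁻¹) = ⁅k⁻¹, h⁆ by rw [commutatorElement_def]; group]
        exact Subgroup.commutator_mem_commutator (H₁.inv_mem (hKH1 hk)) hh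
      rw [show h * k * h⁻¹ = k * d by rw [hd']; group,
        show ⁅k * d, a⁆ = k * ⁅d, a⁆ * k⁻¹ * ⁅k, a⁆ by simp only [commutatorElement_def]; group]
      have hx : ⁅d, a⁆ ∈ P := ⟨hD a (hn₁.1 ha) d hd, H₁.mul_mem (H₁.mul_mem (H₁.mul_mem (hDH1 hd) ha) (H₁.inv_mem (hDH1 hd))) (H₁.inv_mem ha)⟩
      exact Subgroup.mul_mem _ (Subgroup.mul_mem _ (Subgroup.mul_mem _ (Subgroup.mem_sup_left hk) (Subgroup.mem_sup_right hx))
        (Subgroup.mem_sup_left (K.inv_mem hk))) (Subgroup.mem_sup_left (hCK (Subgroup.commutator_mem_commutator hk ha)))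
    rw [Subgroup.map_le_iff_le_comap, hK]
    refine res_le_of_pow fun x hx => ?_
    obtain ⟨i, hi⟩ := exists_pow_mem_of_mem_sup (hPL.trans hLK) hPp (h1 ⟨x, hK ▸ hx, rfl⟩)
    exact ⟨i, Subgroup.mem_comap.mpr (by rw [map_pow, ← hK]; exact hi)⟩
  · rw [hK]; exact res_mono (hWL.trans (sup_le hn₁.1 hQH))
  · have hW : h * 1 ∈ Subgroup.normalizer (W : Set G) := by rw [mul_one]; exact le_normalizer_weakClosure (hH1L hh)
    rintro _ ⟨q, hq, rfl⟩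
    rw [mul_one] at hW
    exact hK ▸ weakClosure_le_sup hwc hQp hQL
      ((Subgroup.mem_normalizer_iff.mp hW q).mp (Large.le_weakClosure hQL hq))

/-- Let Q be a nontrivial p-subgroup of the finite group H that is a weakly closed subgroup, H° the weak closure of Q in H (generated by the conjugates of Q) and H_∘ = O^p(H°). Suppose H₁, H₂ are normal subgroups of H° with H° = H₁H₂ and [H₁, H₂] ≤ N_H(Q), and put Kᵢ = O^p of the weak closure of Q in HᵢQ. Then for i = 1, 2: Kᵢ = [Kᵢ, Q] = [Kᵢ, Hᵢ] ≤ Hᵢ′ and Kᵢ is normal in H°; H_∘ = K₁K₂; and [K₁, K₂] ≤ O_p(H°). -/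
theorem result {G : Type*} [Group G] [Finite G] {p : ℕ} [Fact p.Prime] (Q : Subgroup G) (hQp : IsPGroup p ↥Q) (hQ1 : Q ≠ ⊥) (hwc : Cfsg.IsWeaklyClosedSubgroup p Q) (Hc : Subgroup G) (hHc : Hc = Cfsg.weakClosure Q ⊤) (H₁ H₂ : Subgroup G) (hn₁ : H₁ ≤ Hc ∧ Hc ≤ Subgroup.normalizer ((H₁ : Subgroup G) : Set G)) (hn₂ : H₂ ≤ Hc ∧ Hc ≤ Subgroup.normalizer ((H₂ : Subgroup G) : Set G)) (hprod : H₁ ⊔ H₂ = Hc) (hcomm : ⁅H₁, H₂⁆ ≤ Subgroup.normalizer ((Q : Subgroup G) : Set G)) (K₁ K₂ : Subgroup G) (hK₁ : K₁ = ((Cfsg.pResidual p ↥(Cfsg.weakClosure Q (H₁ ⊔ Q))).map ((Cfsg.weakClosure Q (H₁ ⊔ Q))).subtype)) (hK₂ : K₂ = ((Cfsg.pResidual p ↥(Cfsg.weakClosure Q (H₂ ⊔ Q))).map ((Cfsg.weakClosure Q (H₂ ⊔ Q))).subtype)) : (⁅K₁, Q⁆ = K₁ ∧ ⁅K₁, H₁⁆ = K₁ ∧ K₁ ≤ ⁅H₁, H₁⁆ ∧ Hc ≤ Subgroup.normalizer ((K₁ : Subgroup G) : Set G)) ∧ (⁅K₂, Q⁆ = K₂ ∧ ⁅K₂, H₂⁆ = K₂ ∧ K₂ ≤ ⁅H₂, H₂⁆ ∧ Hc ≤ Subgroup.normalizer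 ((K₂ : Subgroup G) : Set G)) ∧ K₁ ⊔ K₂ = ((Cfsg.pResidual p ↥Hc).map (Hc).subtype) ∧ ⁅K₁, K₂⁆ ≤ (Cfsg.pCoreOf p Hc) := by
  have hwc' : Large.PWC p Q := fun R hR hQR g hg => Cfsg.Agent.S2839.wc_unique hwc hR hQR hg
  have hcomm' : ⁅H₂, H₁⁆ ≤ Subgroup.normalizer (Q : Set G) := by rwa [Subgroup.commutator_comm]
  obtain ⟨a1, a2, a3, a4, a5, a6⟩ := main hwc' hQp hHc hn₁ hn₂ hprod hcomm hK₁
  obtain ⟨b1, b2, b3, b4, b5, b6⟩ := main hwc' hQp hHc hn₂ hn₁ (by rw [sup_comm, hprod]) hcomm' hK₂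
  have hQH : Q ≤ Hc := hHc ▸ Large.le_weakClosure le_top
  refine ⟨⟨a1, a2, a3, a4⟩, ⟨b1, b2, b3, b4⟩, le_antisymm (sup_le a5 b5) ?_, ?_⟩
  · set K := K₁ ⊔ K₂ with hKdef
    have hN : Hc ≤ Subgroup.normalizer ((K : Subgroup G) : Set G) :=
      (le_inf a4 b4).trans (Subgroup.normalizer_inf_normalizer_le_normalizer_sup _ _)
    have hconj : ∀ h ∈ Hc, Q.map (MulAut.conj h).toMonoidHom ≤ Q ⊔ K := by
      intro h hh
      obtain ⟨a, ha, b, hb, rfl⟩ := mem_prod hn₁.2 hn₁.1 hn₂.1 hprod hh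
      rw [← Local.map_conj_mul]
      refine (Subgroup.map_mono (b6 b hb)).trans ?_
      rw [Subgroup.map_sup]
      refine sup_le ((a6 a ha).trans (sup_le_sup_left le_sup_left Q)) ?_
      rw [← Local.map_conj_eq_of_mem_normalizer (hN (hn₁.1 ha))]
      exact (Subgroup.map_mono (f := (MulAut.conj a).toMonoidHom) (le_sup_right : K₂ ≤ K)).trans le_sup_right
    show Cfsg.pResidualOf p Hc ≤ K
    refine res_le_of_le_sup (P := Q) (hQH.trans hN) hQp ((res_le Hc).trans ?_)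
    conv_lhs => rw [hHc]
    refine iSup_le fun g => ?_
    obtain ⟨k, hk, e⟩ := Large.conj_of_pwc hwc' hQp hQH (hHc ▸ Large.conj_le_weakClosure g.2)
    rw [e, sup_comm]
    exact hconj k hk
  · obtain ⟨-, -, hPn, hD⟩ := comm_D hwc' hQp hHc hn₁ hn₂ hcomm
    haveI := hPn
    set π := QuotientGroup.mk' (Cfsg.pCoreOf p Hc)
    have hK1 : K₁ ≤ H₁ := a3.trans (Subgroup.commutator_le.mpr fun x hx y hy => H₁.mul_mem (H₁.mul_mem (H₁.mul_mem hx hy) (H₁.inv_mem hx)) (H₁.inv_mem hy))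
    have h0 : ⁅⁅H₁.map π, H₂.map π⁆, H₂.map π⁆ = ⊥ := by
      rw [← Subgroup.map_commutator, ← Subgroup.map_commutator, Subgroup.map_eq_bot_iff, QuotientGroup.ker_mk']
      exact Subgroup.commutator_le.mpr fun d hd x hx => hD x (hn₂.1 hx) d hd
    have h1 : ⁅⁅H₂.map π, H₂.map π⁆, K₁.map π⁆ = ⊥ := by
      refine Subgroup.commutator_commutator_eq_bot_of_rotate ?_ ?_
      · refine le_bot_iff.mp ((Subgroup.commutator_mono ?_ le_rfl).trans h0.le)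
        rw [Subgroup.commutator_comm]
        exact Subgroup.commutator_mono (Subgroup.map_mono hK1) le_rfl
      · exact le_bot_iff.mp ((Subgroup.commutator_mono (Subgroup.commutator_mono (Subgroup.map_mono hK1) le_rfl) le_rfl).trans h0.le)
    have h2 : ⁅K₁.map π, K₂.map π⁆ = ⊥ := by
      rw [Subgroup.commutator_comm]
      refine le_bot_iff.mp ((Subgroup.commutator_mono ?_ le_rfl).trans h1.le)
      rw [← Subgroup.map_commutator]
      exact Subgroup.map_mono b3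
    rwa [← Subgroup.map_commutator, Subgroup.map_eq_bot_iff, QuotientGroup.ker_mk'] at h2

end Cfsg.Agent.S2859
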