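import Cfsg.Statements.S2861
import Mathlib
import Cfsg.Agent.Lib.YMinimal
import Cfsg.Agent.Lib.ZJ.Complement

set_option autoImplicit false
set_option linter.unusedVariables false
open Cfsg
open scoped commutatorElement

namespace Cfsg.Agent.S2861

open CfsgLib

variable {G : Type*} [Group G] [Finite G] {p : ℕ} [Fact p.Prime]

theorem only {M L : Subgroup G} (hL : Cfsg.IsInFrakL p M L)
    (hne : (((Cfsg.largestPReducedOf p M).subgroupOf L).map (QuotientGroup.mk' (Cfsg.pCore p ↥L))) ≠ ⊥)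
    (hN : ∀ g : ↥L ⧸ Cfsg.pCore p ↥L, g ∉ Subgroup.normalizer
      (((((Cfsg.largestPReducedOf p M).subgroupOf L).map (QuotientGroup.mk' (Cfsg.pCore p ↥L)))) : Set (↥L ⧸ Cfsg.pCore p ↥L)) →
      ((Cfsg.largestPReducedOf p M).subgroupOf L).map (QuotientGroup.mk' (Cfsg.pCore p ↥L)) ⊔
        (((Cfsg.largestPReducedOf p M).subgroupOf L).map (QuotientGroup.mk' (Cfsg.pCore p ↥L))).map (MulAut.conj g).toMonoidHom = ⊤) :
    YMinimal.OnlyY p (((Cfsg.largestPReducedOf p M).subgroupOf L).map (QuotientGroup.mk' (Cfsg.pCore p ↥L))) := by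
  obtain ⟨hYL, -, -, -, -, -, hform⟩ := hL
  set A := Cfsg.pCore p ↥L with hA
  set Y' := (Cfsg.largestPReducedOf p M).subgroupOf L with hY'
  set Yb := Y'.map (QuotientGroup.mk' A) with hYb
  have hel : Cfsg.IsElementaryAbelian p Y' := by
    obtain ⟨h1, h2⟩ := PReducedOf.elem (p := p) M
    exact ⟨⟨⟨fun a b => Subtype.ext (Subtype.ext (congrArg Subtype.val (h1.is_comm.comm ⟨_, a.2⟩ ⟨_, b.2⟩) : ((a : ↥L) : G) * b = b * a))⟩⟩,
      fun x hx => Subtype.ext (h2 _ hx)⟩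
  have helb : Cfsg.IsElementaryAbelian p Yb := YMinimal.elem_map _ hel
  have hcard : (Cfsg.largestPReducedOf p M ⊓ Cfsg.pCoreOf p L).relIndex (Cfsg.largestPReducedOf p M) = Nat.card ↥Yb := by
    have h1 := Subgroup.relIndex_comap (H := Cfsg.largestPReducedOf p M ⊓ Cfsg.pCoreOf p L) L.subtype Y'
    rw [hY', Subgroup.map_subgroupOf_eq_of_le hYL] at h1
    rw [← h1, hYb, ← Subgroup.relIndex_ker, QuotientGroup.ker_mk']
    have : (Cfsg.largestPReducedOf p M ⊓ Cfsg.pCoreOf p L).comap L.subtype = Y' ⊓ A := by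
      rw [Subgroup.comap_inf]
      congr 1
      exact Subgroup.comap_map_eq_self_of_injective L.subtype_injective A
    rw [this, Subgroup.inf_relIndex_left]
  have hcore : Cfsg.pCore p (↥L ⧸ A) = ⊥ := ZJ.pCore_quotient_pCore_eq_bot
  have two : ∀ hp : p = 2, Nat.card ↥Yb = 2 → YMinimal.OnlyY p Yb := by
    intro hp h2
    subst hp
    obtain ⟨g, hg⟩ : ∃ g, g ∉ Subgroup.normalizer (Yb : Set (↥L ⧸ A)) := by
      by_contra h
      push Not at h
      haveI : Yb.Normal := Subgroup.normalizer_eq_top_iff.mp (eq_top_iff.mpr fun x _ => h x)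
      have := le_pCore (N := Yb) (YMinimal.elem_isPGroup helb)
      rw [hcore, le_bot_iff] at this
      exact hne this
    exact YMinimal.onlyY_card_two h2 (hN g hg) hcore
  have hpow : ∃ k, Nat.card ↥Yb = p ^ k := IsPGroup.iff_card.mp (YMinimal.elem_isPGroup helb)
  have h1lt : 1 < Nat.card ↥Yb := (Subgroup.one_lt_card_iff_ne_bot _).mpr hne
  have hchar : ∀ (F : Type) (_ : Field F) (_ : Fintype F), Fintype.card F = Nat.card ↥Yb → CharP F p := by
    intro F _ _ hF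
    obtain ⟨k, hk⟩ := hpow
    obtain ⟨n, hr, hc⟩ := FiniteField.card F (ringChar F)
    have : ringChar F = p := by
      have h3 : ringChar F ∣ p ^ k := by rw [← hk, ← hF, hc]; exact dvd_pow_self _ n.ne_zero
      exact (Nat.prime_dvd_prime_iff_eq hr (Fact.out)).mp (hr.dvd_of_dvd_pow h3)
    exact this ▸ ringChar.charP F
  rcases hform with ⟨F, _, _, hF, ⟨e⟩⟩ | ⟨hp, F, _, _, m, hFm, hF, ⟨e⟩⟩ | ⟨hp, r, hr, hr2, ⟨e⟩⟩
  · rw [hcard] at hF
    haveI := hchar F inferInstance inferInstance hF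
    refine YMinimal.onlyY_of_equiv e (YMinimal.onlyY_SL2 ((YMinimal.elem_isPGroup helb).map _) ?_)
    rw [Subgroup.card_map_of_injective (f := e.toMonoidHom) e.injective, hF]
  · rw [hcard] at hF
    rcases Nat.eq_zero_or_pos m with hm | hm
    · exact two hp (by rw [← hF, hFm, hm]; rfl)
    subst hp
    let e' := e.trans (Suzuki.lieEquiv hFm hm).symm
    refine YMinimal.onlyY_of_equiv e' (YMinimal.onlyY_Sz hFm hm (YMinimal.elem_map _ helb) ?_)
    rw [Subgroup.card_map_of_injective (f := e'.toMonoidHom) e'.injective, hF]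
  · refine two hp ?_
    subst hp
    obtain ⟨k, hk⟩ := hpow
    have h3 : 2 ^ k ∣ 2 * r := by
      have := Subgroup.card_subgroup_dvd_card Yb
      rwa [hk, Nat.card_congr e.toEquiv, DihedralGroup.nat_card] at this
    rw [hk] at h1lt ⊢
    rcases k with _ | _ | k
    · simp at h1lt
    · rfl
    · exfalso
      have h4 : 2 * 2 ∣ 2 * r := Dvd.dvd.trans ⟨2 ^ k, by ring⟩ h3
      exact hr2 ((Nat.prime_dvd_prime_iff_eq Nat.prime_two hr).mp (Nat.dvd_of_mul_dvd_mul_left two_pos h4)).symm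

/-- Standing hypotheses: G a finite group, S a Sylow p-subgroup, Q a nontrivial large p-subgroup of G contained in S, M a subgroup containing S with the basic property (M ∈ 𝔐_G(S)); Y_M the largest p-reduced normal subgroup of M and M† = M·C_G(Y_M). Let L ∈ 𝔏_G(Y_M) (L ∈ 𝔏_G(Y_M): Y_M ≤ L; O_p(L) is the normal closure in L of Y_M ∩ O_p(L) and normalizes Y_M; L is Y_M-minimal of characteristic p with N_L(Y_M) its unique maximal subgroup over Y_M; and L/O_p(L) ≅ SL₂(q) with q = |Y_M : Y_M ∩ O_p(L)|, or p = 2 and L/O_p(L) is a Suzuki group Sz(q) or dihedral of order 2r, r an odd prime) and A = O_p(L). Then Y_M·A/A is the unique nontrivial elementary abelian normal p-subgroup of N_L(Y_M)/A. -/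
theorem result {G : Type*} [Group G] [Finite G] {p : ℕ} [Fact p.Prime] (S : Sylow p G) (Q : Subgroup G) (hQp : IsPGroup p ↥Q) (hQ1 : Q ≠ ⊥) (hQS : Q ≤ (S : Subgroup G)) (hQ : Cfsg.IsLarge Q) (M : Subgroup G) (hSM : (S : Subgroup G) ≤ M) (hM : Cfsg.IsInFrakM p M) (L : Subgroup G) (hL : Cfsg.IsInFrakL p M L) (NL : Subgroup G) (hNL : NL = L ⊓ Subgroup.normalizer (((Cfsg.largestPReducedOf p M) : Subgroup G) : Set G)) [hn : (((Cfsg.pCoreOf p L)).subgroupOf NL).Normal] : let Ybar : Subgroup (↥NL ⧸ ((Cfsg.pCoreOf p L)).subgroupOf NL) := (((Cfsg.largestPReducedOf p M)).subgroupOf NL).map (QuotientGroup.mk' (((Cfsg.pCoreOf p L)).subgroupOf NL)); Ybar ≠ ⊥ ∧ Ybar.Normal ∧ Cfsg.IsElementaryAbelian p Ybar ∧ ∀ (V : Subgroup (↥NL ⧸ ((Cfsg.pCoreOf p L)).subgroupOf NL)), V.Normal → Cfsg.IsElementaryAbelian p V → V ≠ ⊥ → V = Ybar := by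
  intro Ybar
  obtain ⟨hYL, hAeq, hAN, hmin, hchar, ⟨hlt, huniq⟩, hform⟩ := hL
  have hL' : Cfsg.IsInFrakL p M L := ⟨hYL, hAeq, hAN, hmin, hchar, ⟨hlt, huniq⟩, hform⟩
  set Y := Cfsg.largestPReducedOf p M with hY
  set A := Cfsg.pCore p ↥L with hA
  have hNLL : NL ≤ L := hNL ▸ inf_le_left
  have hNLY : NL ≤ Subgroup.normalizer (Y : Set G) := hNL ▸ inf_le_right
  have hYp : IsPGroup p ↥Y := (PReducedOf.pCoreOf_isPGroup M).to_le (PReducedOf.le_pCoreOf M)
  have hAL : Cfsg.pCoreOf p L ≤ L := Large.pCoreOf_le p L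
  have hYO : ¬ Y ≤ Cfsg.pCoreOf p L := by
    intro h
    have h1 : Y.subgroupOf L ≤ A := fun y hy => by
      obtain ⟨a, ha, e⟩ := h hy
      rwa [← L.subtype_injective e]
    have h2 := Subgroup.normalClosure_le_normal (N := A) (SetLike.coe_subset_coe.mpr h1)
    rw [hmin.1, top_le_iff] at h2
    haveI : Subsingleton (↥L ⧸ A) := by
      rw [h2]; exact QuotientGroup.subsingleton_quotient_top
    obtain ⟨F, _, _, -, ⟨e⟩⟩ | ⟨-, F, _, _, m, hFm, -, ⟨e⟩⟩ | ⟨-, r, hr, -, ⟨e⟩⟩ := hform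
    · have h3 := SL2Sylow.us_injective
        (e.symm.toEquiv.subsingleton.elim (SL2Sylow.us (Multiplicative.ofAdd (1 : F))) (SL2Sylow.us 1))
      exact one_ne_zero (congrArg Multiplicative.toAdd h3)
    · haveI : Subsingleton ↥(Cfsg.Lie.Sz F (2 ^ (m + 1))) := e.symm.toEquiv.subsingleton
      have hW : (Matrix.SpecialLinearGroup.toGL (CfsgLib.Suzuki.wEl : Matrix.SpecialLinearGroup (Fin 4) F)) ∈ Cfsg.Lie.Sz F (2 ^ (m + 1)) :=
        Subgroup.subset_closure ⟨(CfsgLib.Suzuki.mem_Sp4_formPres _).mpr (CfsgLib.Suzuki.formPres_mW hFm), CfsgLib.Suzuki.star4_mW hFm⟩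
      have h3 := congrArg (fun g : GL (Fin 4) F => (g : Matrix (Fin 4) (Fin 4) F) 0 0)
        (congrArg Subtype.val (Subsingleton.elim (⟨_, hW⟩ : ↥(Cfsg.Lie.Sz F (2 ^ (m + 1)))) 1))
      change (CfsgLib.Suzuki.mW : Matrix (Fin 4) (Fin 4) F) 0 0 = (1 : Matrix (Fin 4) (Fin 4) F) 0 0 at h3
      simp [CfsgLib.Suzuki.mW] at h3
    · haveI : Subsingleton (DihedralGroup r) := e.symm.toEquiv.subsingleton
      exact absurd (Subsingleton.elim (DihedralGroup.sr (0 : ZMod r)) (DihedralGroup.r 0)) (fun h => by cases h)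
  have hmin' : ∀ L' : Subgroup G, L' ≤ L → Y ≤ L' → ¬ Y ≤ Cfsg.pCoreOf p L' → L' = L := by
    intro L' h1 h2 h3
    refine h1.eq_or_lt.resolve_right fun h4 => h3 ?_
    exact Large.le_pCoreOf_of_normal le_rfl Subgroup.le_normalizer h2 ((huniq L' h2 h4).trans inf_le_right) hYp
  obtain ⟨L0, hL0, hYL0, -, hN0, hgen, -, -⟩ := LLemma.unique_max hYp hYL hYO hmin'
  have hL0eq : L0 ≤ NL := hNL ▸ huniq L0 hYL0 hL0
  set π := QuotientGroup.mk' A
  set Y' := Y.subgroupOf L with hY'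
  set Yb := Y'.map π with hYb
  have hYne : Yb ≠ ⊥ := by
    rw [hYb, ne_eq, Subgroup.map_eq_bot_iff, QuotientGroup.ker_mk']
    intro h
    exact hYO fun y hy => ⟨⟨y, hYL hy⟩, h hy, rfl⟩
  have hrange : ∀ l : ↥L, π l ∈ Subgroup.normalizer (Yb : Set (↥L ⧸ A)) → (l : G) ∈ NL := by
    intro l hl
    by_contra hnot
    have h1 := hgen l l.2 fun h => hnot (hL0eq h)
    set K := (Subgroup.normalizer (Yb : Set (↥L ⧸ A))).comap π
    have hK : L ≤ K.map L.subtype := by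
      conv_lhs => rw [← h1]
      refine sup_le (fun y hy => ⟨⟨y, hYL hy⟩, Subgroup.le_normalizer ⟨_, hy, rfl⟩, rfl⟩) ?_
      rintro _ ⟨y, hy, rfl⟩
      refine ⟨l * ⟨y, hYL hy⟩ * l⁻¹, ?_, rfl⟩
      exact K.mul_mem (K.mul_mem hl (Subgroup.le_normalizer ⟨_, hy, rfl⟩)) (K.inv_mem hl)
    have hKt : K = ⊤ := LLemma.ext_subgroupOf hK
    haveI : Yb.Normal := Subgroup.normalizer_eq_top_iff.mp (eq_top_iff.mpr fun x _ => by
      obtain ⟨x, rfl⟩ := QuotientGroup.mk'_surjective A x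
      exact Subgroup.mem_comap.mp (show x ∈ K from hKt ▸ Subgroup.mem_top x))
    have h2 := le_pCore (N := Yb) (IsPGroup.map (hYp.comap_of_injective L.subtype L.subtype_injective) π)
    rw [ZJ.pCore_quotient_pCore_eq_bot, le_bot_iff] at h2
    exact hYne h2
  have hN : ∀ g : ↥L ⧸ A, g ∉ Subgroup.normalizer (Yb : Set (↥L ⧸ A)) → Yb ⊔ Yb.map (MulAut.conj g).toMonoidHom = ⊤ := by
    intro g hg
    obtain ⟨l, rfl⟩ := QuotientGroup.mk'_surjective A g
    have hnl : (l : G) ∉ L0 := fun h => hg (by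
      have hn : (⟨l, l.2⟩ : ↥L) ∈ Subgroup.normalizer (Y' : Set ↥L) :=
        Subgroup.mem_normalizer_iff.mpr fun y => Subgroup.mem_normalizer_iff.mp (hNLY (hL0eq h)) y
      exact Subgroup.le_normalizer_map π ⟨_, hn, rfl⟩)
    have h1 := hgen l l.2 hnl
    have h2 : Y' ⊔ Y'.map (MulAut.conj l).toMonoidHom = ⊤ := by
      refine LLemma.ext_subgroupOf ?_
      rw [Subgroup.map_sup]
      conv_lhs => rw [← h1]
      refine sup_le_sup (fun y hy => ⟨⟨y, hYL hy⟩, hy, rfl⟩) ?_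
      rintro _ ⟨y, hy, rfl⟩
      exact ⟨_, ⟨⟨y, hYL hy⟩, hy, rfl⟩, rfl⟩
    rw [← Subgroup.map_top_of_surjective π (QuotientGroup.mk'_surjective A), ← h2, Subgroup.map_sup, hYb, Subgroup.map_map,
      Subgroup.map_map]
    congr 1
  have honly := only hL' hYne hN
  set B := (Cfsg.pCoreOf p L).subgroupOf NL with hB
  have hBA : B = A.comap (Subgroup.inclusion hNLL) := by
    ext x
    constructor
    · rintro ⟨a, ha, e⟩
      show Subgroup.inclusion hNLL x ∈ A
      rwa [show Subgroup.inclusion hNLL x = a from Subtype.ext e.symm]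
    · exact fun h => ⟨_, h, rfl⟩
  let φ : ↥NL ⧸ B →* ↥L ⧸ A := QuotientGroup.map B A (Subgroup.inclusion hNLL) hBA.le
  have hφ : Function.Injective φ := by
    refine (injective_iff_map_eq_one φ).mpr fun x hx => ?_
    induction x using QuotientGroup.induction_on with
    | _ x => exact (QuotientGroup.eq_one_iff x).mpr (hBA ▸ (QuotientGroup.eq_one_iff (N := A) _).mp hx)
  have hφY : Ybar.map φ = Yb := by
    ext z
    constructor
    · rintro ⟨_, ⟨y, hy, rfl⟩, rfl⟩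
      exact ⟨Subgroup.inclusion hNLL y, hy, rfl⟩
    · rintro ⟨y, hy, rfl⟩
      exact ⟨_, ⟨⟨y, hNL ▸ (⟨y.2, Subgroup.le_normalizer hy⟩ : (y : G) ∈ L ⊓ Subgroup.normalizer (Y : Set G))⟩, hy, rfl⟩, rfl⟩
  haveI hYn : (Y.subgroupOf NL).Normal := Subgroup.normal_subgroupOf_of_le_normalizer hNLY
  have hel : Cfsg.IsElementaryAbelian p (Y.subgroupOf NL) := by
    obtain ⟨h1, h2⟩ := PReducedOf.elem (p := p) M
    exact ⟨⟨⟨fun a b => Subtype.ext (Subtype.ext (congrArg Subtype.val (h1.is_comm.comm ⟨_, a.2⟩ ⟨_, b.2⟩) : ((a : ↥NL) : G) * b = b * a))⟩⟩,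
      fun x hx => Subtype.ext (h2 _ hx)⟩
  refine ⟨fun h => hYne ?_, Subgroup.Normal.map hYn _ (QuotientGroup.mk'_surjective B), YMinimal.elem_map _ hel,
    fun V hVn hVe hV1 => Subgroup.map_injective hφ ?_⟩
  · rw [← hφY, h, Subgroup.map_bot]
  rw [hφY]
  refine honly _ ?_ (fun g hg => ?_) (YMinimal.elem_map φ hVe) (by rwa [ne_eq, Subgroup.map_eq_bot_iff_of_injective _ hφ])
  · rintro _ ⟨x, -, rfl⟩
    have : x ∈ Subgroup.normalizer (Ybar : Set (↥NL ⧸ B)) := by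
      haveI : Ybar.Normal := Subgroup.Normal.map hYn _ (QuotientGroup.mk'_surjective B)
      rw [Subgroup.normalizer_eq_top]; exact Subgroup.mem_top x
    have h2 := Subgroup.le_normalizer_map φ ⟨x, this, rfl⟩
    rwa [hφY] at h2
  · obtain ⟨l, rfl⟩ := QuotientGroup.mk'_surjective A g
    have hl := hrange l hg
    have : (QuotientGroup.mk' B ⟨l, hl⟩) ∈ Subgroup.normalizer (V : Set (↥NL ⧸ B)) := by
      haveI := hVn
      rw [Subgroup.normalizer_eq_top]; exact Subgroup.mem_top _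
    exact Subgroup.le_normalizer_map φ ⟨_, this, rfl⟩

end Cfsg.Agent.S2861
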