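import Cfsg.Statements.S2862
import Mathlib
import Cfsg.Agent.S2853
import Cfsg.Agent.Lib.LLemma
import Cfsg.Agent.Lib.Elementary

set_option autoImplicit false
set_option linter.unusedVariables false
open Cfsg
open scoped commutatorElement

namespace Cfsg.Agent.S2862

open CfsgLib

variable {G : Type*} [Group G] [Finite G] {p : ℕ} [Fact p.Prime]

/-- A stabilizer of a chain `V ≥ W ≥ Z` fixing `Z` pointwise has its elements of order prime to `p` centralizing `V`. -/
theorem centralizes_chain {V W Z : Subgroup G} (hV : IsPGroup p ↥V) (hWV : W ≤ V) {x : G} (hcop : (orderOf x).Coprime p)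
    (hZW : Z ≤ W) (h1 : ∀ v ∈ V, x * v * x⁻¹ * v⁻¹ ∈ W) (h2 : ∀ w ∈ W, x * w * x⁻¹ * w⁻¹ ∈ Z) (h3 : ∀ z ∈ Z, x * z = z * x) :
    ∀ v ∈ V, x * v = v * x := by
  have step : ∀ r c : G, c ∈ V → x * r * x⁻¹ * r⁻¹ = c → x * c = c * x → x * r = r * x := by
    intro r c hc e hcx
    obtain ⟨i, hi⟩ := hV ⟨c, hc⟩
    have h := Stabilizer.coprime_step (x := x) (r := r) (c := c) (p := p) hcop
      ⟨i, congrArg Subtype.val hi⟩ (by rw [← e]; group) hcx
    rw [h, mul_inv_eq_one] at e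
    exact mul_inv_eq_iff_eq_mul.1 e
  have hw : ∀ w ∈ W, x * w = w * x := fun w hw => step w _ (hWV (hZW (h2 w hw))) rfl (h3 _ (h2 w hw))
  exact fun v hv => step v _ (hWV (h1 v hv)) rfl (hw _ (h1 v hv))

/-- A `p`-group acting on a section `V/W` has nontrivial fixed points. -/
theorem exists_fixed_mod {V W O : Subgroup G} (hV : IsPGroup p ↥V) (hO : IsPGroup p ↥O) (hOV : O ≤ Subgroup.normalizer (V : Set G))
    (hW : V ⊔ O ≤ Subgroup.normalizer (W : Set G)) (hWV : W < V) :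
    ∃ v ∈ V, v ∉ W ∧ ∀ o ∈ O, o * v * o⁻¹ * v⁻¹ ∈ W := by
  set J := V ⊔ O
  have hJ : IsPGroup p ↥J := hV.to_sup_of_normal_left' hO hOV
  haveI : Group.IsNilpotent ↥J := hJ.isNilpotent
  haveI hWn : (W.subgroupOf J).Normal := Subgroup.normal_subgroupOf_of_le_normalizer hW
  haveI hVn : (V.subgroupOf J).Normal := Subgroup.normal_subgroupOf_of_le_normalizer (sup_le Subgroup.le_normalizer hOV)
  set π := QuotientGroup.mk' (W.subgroupOf J)
  haveI : ((V.subgroupOf J).map π).Normal := Subgroup.Normal.map hVn π (QuotientGroup.mk'_surjective _)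
  haveI : Group.IsNilpotent (↥J ⧸ W.subgroupOf J) := inferInstance
  have hne : (V.subgroupOf J).map π ≠ ⊥ := by
    intro h
    refine hWV.not_ge fun v hv => ?_
    have h2 : π ⟨v, Subgroup.mem_sup_left hv⟩ ∈ (V.subgroupOf J).map π := ⟨_, hv, rfl⟩
    rw [h, Subgroup.mem_bot] at h2
    exact Subgroup.mem_subgroupOf.mp ((QuotientGroup.eq_one_iff (N := W.subgroupOf J) _).mp h2)
  obtain ⟨z, ⟨⟨v, hv, rfl⟩, hzc⟩, hz1⟩ := (Subgroup.bot_or_exists_ne_one _).resolve_left
    (CfsgLib.inf_center_ne_bot_of_nilpotent (N := (V.subgroupOf J).map π) hne)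
  refine ⟨v, hv, fun h => hz1 ((QuotientGroup.eq_one_iff (N := W.subgroupOf J) v).mpr h), fun o ho => ?_⟩
  have h := Subgroup.mem_center_iff.mp hzc (π ⟨o, Subgroup.mem_sup_right ho⟩)
  rw [← map_mul, ← map_mul] at h
  have h4 := hWn.mem_comm (QuotientGroup.eq.mp h.symm)
  have h5 : o * v * o⁻¹ * (v : G)⁻¹ ∈ W := by
    have h6 := Subgroup.mem_subgroupOf.mp h4
    simpa [mul_assoc] using h6
  exact h5

/-- Standing hypotheses: G a finite group, S a Sylow p-subgroup, Q a nontrivial large p-subgroup of G contained in S, M a subgroup containing S with the basic property (M ∈ 𝔐_G(S)); Y_M the largest p-reduced normal subgroup of M and M† = M·C_G(Y_M). Suppose Y_M is char-p-tall and asymmetric in G, H ∈ ℌ_G(O_p(M)), and L is minimal among the subgroups of H containing Y_M with Y_M ≰ O_p(L). Then H = ⟨L, O_p(M)⟩ = ⟨hY_Mh⁻¹, O_p(M)⟩ for every h ∈ L outside N_L(Y_M); L is Y_M-minimal and of characteristic p, with N_L(Y_M) the unique maximal subgroup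 of L containing Y_M; [V, O^p(L)] ≠ 1 for every noncentral chief factor V/W of H inside O_p(H) (that is, O^p(L) does not act trivially on V/W); and the normal closure of O_p(L) ∩ Y_M in L lies in O_p(H). -/
theorem result {G : Type*} [Group G] [Finite G] {p : ℕ} [Fact p.Prime] (S : Sylow p G) (Q : Subgroup G) (hQp : IsPGroup p ↥Q) (hQ1 : Q ≠ ⊥) (hQS : Q ≤ (S : Subgroup G)) (hQ : Cfsg.IsLarge Q) (M : Subgroup G) (hSM : (S : Subgroup G) ≤ M) (hM : Cfsg.IsInFrakM p M) (htall : Cfsg.IsCharPTall p (Cfsg.largestPReducedOf p M)) (hasym : ¬ Cfsg.IsSymmetricIn (Cfsg.largestPReducedOf p M)) (H : Subgroup G) (hH : Cfsg.IsInFrakH p M H) (L : Subgroup G) (hLH : L ≤ H) (hYL : (Cfsg.largestPReducedOf p M) ≤ L) (hYO : ¬ (Cfsg.largestPReducedOf p M) ≤ (Cfsg.pCoreOf p L)) (hmin : ∀ L' : Subgroup G, L' ≤ L → (Cfsg.largestPReducedOf p M) ≤ L' → ¬ (Cfsg.largestPReducedOf p M) ≤ (Cfsg.pCoreOf p L') → L' = L) : (L ⊔ (Cfsg.pCoreOf p M) = H ∧ ∀ h ∈ L, h ∉ Subgroup.normalizer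 (((Cfsg.largestPReducedOf p M) : Subgroup G) : Set G) → (((Cfsg.largestPReducedOf p M) : Subgroup G).map (MulAut.conj (h : G)).toMonoidHom) ⊔ (Cfsg.pCoreOf p M) = H) ∧ (Cfsg.IsMinimalOver (((Cfsg.largestPReducedOf p M)).subgroupOf L) ∧ Subgroup.centralizer (Cfsg.pCore p ↥L : Set ↥L) ≤ Cfsg.pCore p ↥L ∧ L ⊓ Subgroup.normalizer (((Cfsg.largestPReducedOf p M) : Subgroup G) : Set G) < L ∧ ∀ X : Subgroup G, (Cfsg.largestPReducedOf p M) ≤ X → X < L → X ≤ L ⊓ Subgroup.normalizer (((Cfsg.largestPReducedOf p M) : Subgroup G) : Set G)) ∧ (∀ V W' : Subgroup G, V ≤ (Cfsg.pCoreOf p H) → H ≤ Subgroup.normalizer ((V : Subgroup G) : Set G) → H ≤ Subgroup.normalizer ((W' : Subgroup G) : Set G) → W' < V → (∀ Z' : Subgroup G, H ≤ Subgroup.normalizer ((Z' : Subgroup G) : Set G) → W' ≤ Z' → Z' ≤ V → Z' = W' ∨ Z' = V) → ¬ ⁅V, H⁆ ≤ W' → ¬ ⁅V, ((Cfsg.pResidual p ↥L).map (L).subtype)⁆ ≤ W') ∧ (Subgroup.normalClosure (((((Cfsg.pCoreOf p L) ⊓ (Cfsg.largestPReducedOf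 p M)).subgroupOf L : Subgroup ↥L)) : Set ↥L)).map L.subtype ≤ (Cfsg.pCoreOf p H) := by
  open CfsgLib in
    have hpc := Large.parabolicCharacteristic_of_large hQp hQ
    have hV := (Cfsg.Agent.S2853.result S Q hQp hQ1 hQS hQ M hSM hM htall hasym H hH _ rfl).2.1
    set Y := Cfsg.largestPReducedOf p M
    set O := Cfsg.pCoreOf p M
    set V := Cfsg.pCoreOf p H
    set D := M ⊔ Subgroup.centralizer (Y : Set G)
    have hYp : IsPGroup p ↥Y := FrakM.Y_isPGroup M
    have hYO' : Y ≤ O := PReducedOf.le_pCoreOf M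
    have hab : ∀ a ∈ Y, ∀ b ∈ Y, a * b = b * a := fun a ha b hb => PReduced.mem_comm (PReducedOf.elem M) ha hb
    have hcO : ∀ o ∈ O, ∀ y ∈ Y, o * y = y * o := fun o ho y hy => PReducedOf.commute_pCoreOf M hy ho
    obtain ⟨L0, hlt, hYL0, hmax, hN0, hgen, hcore, hncl⟩ := LLemma.unique_max hYp hYL hYO hmin
    have hL0D : L0 ≤ D := LLemma.max_le_dag hpc hSM hM hasym hH hV hLH hlt hgen hcore
    have hL0N : L ⊓ Subgroup.normalizer (Y : Set G) = L0 :=
      le_antisymm hN0 (le_inf hlt.le (hL0D.trans (FrakM.dag_le_normalizer M)))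
    have hOH : O ≤ H := hH.2.1
    have hHV : H ≤ Subgroup.normalizer (V : Set G) := Large.le_normalizer_pCoreOf p H
    have hVp : IsPGroup p ↥V := (isPGroup_pCore p).map _
    have hVH : V ≤ H := Large.pCoreOf_le p H
    have hsupLO : L ⊔ O = H := by
      refine (sup_le hLH hOH : L ⊔ O ≤ H).eq_or_lt.resolve_right fun h => hYO ?_
      have hY1 := hH.2.2.2 (L ⊔ O) le_sup_right h
      refine (le_inf hY1 hYL : Y ≤ Cfsg.pCoreOf p (L ⊔ O) ⊓ L).trans
        (Large.le_pCoreOf_of_normal le_rfl Subgroup.le_normalizer inf_le_right ?_ (((isPGroup_pCore (G := ↥(L ⊔ O)) p).map (L ⊔ O).subtype).to_le inf_le_left))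
      exact Large.le_normalizer_of fun l hl a ha => ⟨Large.conj_mem (le_sup_left.trans (Large.le_normalizer_pCoreOf p (L ⊔ O))) hl ha.1,
        L.mul_mem (L.mul_mem hl ha.2) (L.inv_mem hl)⟩
    obtain ⟨-, h, hh, hh0⟩ := SetLike.lt_iff_le_and_exists.mp hlt
    have hg := hgen h hh hh0
    obtain ⟨hLA, hcommA, -, hBL, hK⟩ := LLemma.quad hab hg hh (hLH.trans hHV) (hV.trans inf_le_right)
    set B := Y ⊓ V
    set Bh := B.map (MulAut.conj h).toMonoidHom
    set A := B ⊔ Bh
    have hBhV : Bh ≤ V := Local.map_conj_le fun b hb => Large.conj_mem (hLH.trans hHV) hh hb.2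
    have hAV : A ≤ V := sup_le inf_le_right hBhV
    have hAL : A ≤ L := sup_le (inf_le_left.trans hYL) (Local.map_conj_le fun b hb => L.mul_mem (L.mul_mem hh (hYL hb.1)) (L.inv_mem hh))
    refine ⟨⟨hsupLO, fun h' hh' hn => ?_⟩, ⟨⟨hncl, ⟨L0.subgroupOf L, ⟨⟨fun e => hlt.not_ge (Subgroup.subgroupOf_eq_top.mp e), fun X hX => ?_⟩, fun y hy => hYL0 hy⟩, fun X hX => ?_⟩⟩, ?_, lt_of_le_of_ne inf_le_left fun e => hlt.not_ge (e.ge.trans hN0), fun X h1 h2 => hL0N.ge.trans' (hmax X h1 h2)⟩, ?_, ?_⟩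
    · have hg' := hgen h' hh' fun h0 => hn (hL0D.trans (FrakM.dag_le_normalizer M) h0)
      refine le_antisymm (sup_le (Local.map_conj_le fun y hy => H.mul_mem (H.mul_mem (hLH hh') (hOH (hYO' hy))) (H.inv_mem (hLH hh'))) hOH) ?_
      conv_lhs => rw [← hsupLO, ← hg']
      exact sup_le (sup_le (hYO'.trans le_sup_right) le_sup_left) le_sup_right
    · by_contra hne
      have hlt2 : X.map L.subtype < L := lt_of_le_of_ne (Subgroup.map_subtype_le _) fun e => hne (LLemma.ext_subgroupOf e.ge)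
      have hle := hmax (X.map L.subtype) (fun y hy => ⟨⟨y, hYL hy⟩, hX.le (hYL0 hy), rfl⟩) hlt2
      exact hX.not_ge fun x hx => hle ⟨x, hx, rfl⟩
    · have hlt2 : X.map L.subtype < L := lt_of_le_of_ne (Subgroup.map_subtype_le _) fun e => hX.1.1 (LLemma.ext_subgroupOf e.ge)
      have hle := hmax (X.map L.subtype) (fun y hy => ⟨⟨y, hYL hy⟩, hX.2 hy, rfl⟩) hlt2
      have hle2 : X ≤ L0.subgroupOf L := fun x hx => hle ⟨x, hx, rfl⟩
      exact ((hX.1.le_iff.mp hle2).resolve_left fun e => hlt.not_ge (Subgroup.subgroupOf_eq_top.mp e)).symm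
    · refine le_pCore (Stabilizer.isPGroup_of_coprime_trivial _ fun x hx hcop => ?_)
      have hx' : (orderOf (x : G)).Coprime p := by rwa [Subgroup.orderOf_coe]
      haveI : (V.subgroupOf L).Normal := Subgroup.normal_subgroupOf_of_le_normalizer (hLH.trans hHV)
      have hcA : ∀ a ∈ A, (x : G) * a = a * x := fun a ha => (congrArg Subtype.val (Subgroup.mem_centralizer_iff.mp hx ⟨a, hAL ha⟩
        (le_pCore (N := V.subgroupOf L) (hVp.comap_of_injective L.subtype L.subtype_injective) (hAV ha)))).symm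
      have hc := centralizes_chain hVp hAV hx' le_rfl (fun v hv => hcommA x x.2 v hv)
        (fun a ha => by rw [hcA a ha, mul_inv_cancel_right, mul_inv_cancel]; exact A.one_mem) hcA
      have h1 := CharP.eq_one_of_centralizes_pCore (x := (⟨x, hLH x.2⟩ : ↥H)) hH.1
        (by rwa [← Subgroup.orderOf_coe]) fun r hr => Subtype.ext (hc r ⟨r, hr, rfl⟩)
      exact Subtype.ext (congrArg (fun z : ↥H => (z : G)) h1)
    · intro V' W' hV' hHV' hHW' hlt' hchief hne hcon
      refine hne (Subgroup.commutator_le.mpr fun v hv g hg' => ?_)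
      have hV'H : V' ≤ H := hV'.trans hVH
      let St := Large.stab H V' W' hHV' hHW'
      set R := (Cfsg.pResidual p ↥L).map L.subtype
      have hRS : R ≤ St := fun r hr => ⟨hLH (Subgroup.map_subtype_le _ hr), fun w hw => by
        have := W'.inv_mem (hcon (Subgroup.commutator_mem_commutator hw hr))
        simpa [commutatorElement_def, mul_assoc] using this⟩
      have hLS : L ≤ St ⊔ O := by
        have htop : (Y.subgroupOf L ⊔ Cfsg.pResidual p ↥L) = ⊤ := by
          by_contra hne'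
          haveI : Group.IsNilpotent (↥L ⧸ Cfsg.pResidual p ↥L) :=
            (CfsgLib.isPGroup_quotient_of_pResidual_le (le_refl (Cfsg.pResidual p ↥L))).isNilpotent
          have hs := (CfsgLib.isSubnormal_of_nilpotent ((Y.subgroupOf L).map (QuotientGroup.mk' (Cfsg.pResidual p ↥L)))).comap
            (QuotientGroup.mk' (Cfsg.pResidual p ↥L))
          rw [Subgroup.comap_map_eq, QuotientGroup.ker_mk'] at hs
          obtain hK' | ⟨N, hN, hKN, hltN⟩ := hs.lt_normal
          · exact hne' hK'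
          · haveI := hN
            exact hltN.ne (top_le_iff.mp (hncl ▸ Subgroup.normalClosure_le_normal (N := N) (SetLike.coe_subset_coe.mpr (le_sup_left.trans hKN))))
        intro l hl
        have hm := Subgroup.mem_map_of_mem L.subtype (htop ▸ Subgroup.mem_top (⟨l, hl⟩ : ↥L))
        rw [Subgroup.map_sup, Subgroup.map_subgroupOf_eq_of_le hYL] at hm
        exact (sup_le (hYO'.trans le_sup_right) (hRS.trans le_sup_left) : Y ⊔ R ≤ St ⊔ O) hm
      let Z : Subgroup G :=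
        { carrier := {w | w ∈ V' ∧ ∀ g ∈ H, g * w * g⁻¹ * w⁻¹ ∈ W'}
          one_mem' := ⟨V'.one_mem, fun g _ => by simp⟩
          mul_mem' := fun {a b} ha hb => ⟨V'.mul_mem ha.1 hb.1, fun g hg => by
            have h := W'.mul_mem (ha.2 g hg) (Large.conj_mem hHW' (hV'H ha.1) (hb.2 g hg))
            rwa [show g * a * g⁻¹ * a⁻¹ * (a * (g * b * g⁻¹ * b⁻¹) * a⁻¹) = g * (a * b) * g⁻¹ * (a * b)⁻¹ by group] at h⟩
          inv_mem' := fun {a} ha => ⟨V'.inv_mem ha.1, fun g hg => by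
            have h := W'.inv_mem (Large.conj_mem hHW' (H.inv_mem (hV'H ha.1)) (ha.2 g hg))
            rwa [show (a⁻¹ * (g * a * g⁻¹ * a⁻¹) * a⁻¹⁻¹)⁻¹ = g * a⁻¹ * g⁻¹ * a⁻¹⁻¹ by group] at h⟩ }
      have hW'Z : W' ≤ Z := fun w hw => ⟨hlt'.le hw, fun g hg => W'.mul_mem (Large.conj_mem hHW' hg hw) (W'.inv_mem hw)⟩
      have hZn : H ≤ Subgroup.normalizer (Z : Set G) := Large.le_normalizer_of fun k hk w hw => ⟨Large.conj_mem hHV' hk hw.1, fun g hg => by
        have h := Large.conj_mem hHW' hk (hw.2 (k⁻¹ * g * k) (H.mul_mem (H.mul_mem (H.inv_mem hk) hg) hk))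
        rwa [show k * (k⁻¹ * g * k * w * (k⁻¹ * g * k)⁻¹ * w⁻¹) * k⁻¹ = g * (k * w * k⁻¹) * g⁻¹ * (k * w * k⁻¹)⁻¹ by group] at h⟩
      obtain ⟨z, hz, hzW, hzO⟩ := exists_fixed_mod (p := p) (hVp.to_le hV') (PReducedOf.pCoreOf_isPGroup M) (hOH.trans hHV')
        (sup_le (hV'H.trans hHW') (hOH.trans hHW')) hlt'
      have hzV : z ∈ V' := hz
      have hSO : O ≤ Subgroup.normalizer (St : Set G) :=
        Large.le_normalizer_of fun o ho s hs => Large.stab_conj hHV' hHW' (hOH ho) hs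
      have hzZ : z ∈ Z := ⟨hzV, fun g hg => by
        have hg2 : g ∈ St ⊔ O := (sup_le hLS le_sup_right : L ⊔ O ≤ St ⊔ O) (hsupLO.ge hg)
        rw [← SetLike.mem_coe, Subgroup.coe_mul_of_right_le_normalizer_left St O hSO] at hg2
        obtain ⟨s, hs, o, ho, rfl⟩ := hg2
        have h := W'.mul_mem (Large.conj_mem hHW' hs.1 (hzO o ho)) (hs.2 z hzV)
        rwa [show s * (o * z * o⁻¹ * z⁻¹) * s⁻¹ * (s * z * s⁻¹ * z⁻¹) = s * o * z * (s * o)⁻¹ * z⁻¹ by group] at h⟩
      rcases hchief Z hZn hW'Z (fun w hw => hw.1) with e | e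
      · exact absurd (e.le hzZ) hzW
      · have := W'.inv_mem ((e.ge hv).2 g hg')
        simpa [commutatorElement_def, mul_assoc] using this
    · set BL := B ⊓ Bh
      set W2 := B ⊔ Bh ⊔ V ⊓ Subgroup.centralizer (L : Set G) with hW2def
      have hW2V : W2 ≤ V := sup_le hAV inf_le_left
      have hKW : V ⊓ Subgroup.centralizer (Y : Set G) ≤ W2 := hK.le.trans (sup_le (le_sup_left.trans le_sup_left) le_sup_right)
      have hBLc : ∀ c ∈ BL, ∀ g ∈ H, g * c = c * g := by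
        intro c hc
        have hle : H ≤ Subgroup.centralizer ({c} : Set G) := hsupLO.ge.trans (sup_le
          (fun l hl => Subgroup.mem_centralizer_singleton_iff.mpr (Subgroup.mem_centralizer_iff.mp (hBL c hc.1 hc.2) l hl))
          (fun o ho => Subgroup.mem_centralizer_singleton_iff.mpr (hcO o ho c hc.1.1)))
        exact fun g hg => Subgroup.mem_centralizer_singleton_iff.mp (hle hg)
      have hOV : ∀ o ∈ O, ∀ v ∈ V, o * v * o⁻¹ * v⁻¹ ∈ W2 := fun o ho v hv => hKW
        ⟨V.mul_mem (Large.conj_mem hHV (hOH ho) hv) (V.inv_mem hv), PReducedOf.pCoreOf_le_centralizer M (by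
          rw [show o * v * o⁻¹ * v⁻¹ = o * (v * o⁻¹ * v⁻¹) by group]
          exact O.mul_mem ho (Large.conj_mem (hV.trans inf_le_left) hv (O.inv_mem ho)))⟩
      have hLV2 : ∀ l ∈ L, ∀ v ∈ V, l * v * l⁻¹ * v⁻¹ ∈ W2 := fun l hl v hv => Subgroup.mem_sup_left (hcommA l hl v hv)
      have hHW2 : H ≤ Subgroup.normalizer (W2 : Set G) := by
        conv_lhs => rw [← hsupLO]
        refine sup_le (Large.le_normalizer_of fun l hl w hw => ?_) (Large.le_normalizer_of fun o ho w hw => ?_)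
        · have := W2.mul_mem (hLV2 l hl w (hW2V hw)) hw
          rwa [inv_mul_cancel_right] at this
        · have := W2.mul_mem (hOV o ho w (hW2V hw)) hw
          rwa [inv_mul_cancel_right] at this
      have hHBL : H ≤ Subgroup.normalizer (BL : Set G) := Large.le_normalizer_of fun g hg c hc => by
        rwa [hBLc c hc g hg, mul_inv_cancel_right]
      set J := Large.stab H V W2 hHV hHW2 ⊓ Large.stab H W2 BL hHW2 hHBL
      have hBLW : BL ≤ W2 := inf_le_left.trans (le_sup_left.trans le_sup_left)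
      have hJp : IsPGroup p ↥J := Stabilizer.isPGroup_of_coprime_trivial J fun x hx hcop => by
        have hc := centralizes_chain hVp hW2V hcop hBLW hx.1.2 hx.2.2 fun z hz => hBLc z hz x hx.1.1
        exact congrArg Subtype.val (CharP.eq_one_of_centralizes_pCore (x := (⟨x, hx.1.1⟩ : ↥H)) hH.1
          (by rwa [← Subgroup.orderOf_coe]) fun r hr => Subtype.ext (hc r ⟨r, hr, rfl⟩))
      have hJV : J ≤ V := Large.le_pCoreOf_of_normal le_rfl Subgroup.le_normalizer (fun x hx => hx.1.1)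
        (Large.le_normalizer_of fun g hg x hx => ⟨Large.stab_conj hHV hHW2 hg hx.1, Large.stab_conj hHW2 hHBL hg hx.2⟩) hJp
      set U := Cfsg.pCoreOf p L
      have hUL0 : U ≤ L0 := by
        have hle : Y ⊔ U ≤ L := sup_le hYL (Large.pCoreOf_le p L)
        refine le_sup_right.trans (hmax _ le_sup_left (lt_of_le_of_ne hle fun e => hYO ?_))
        have hLp : IsPGroup p ↥L := e ▸ (hYp.to_sup_of_normal_right' ((isPGroup_pCore p).map _) (hYL.trans (Large.le_normalizer_pCoreOf p L)) :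
          IsPGroup p ↥(Y ⊔ U))
        exact fun y hy => ⟨⟨y, hYL hy⟩, le_pCore (N := ⊤) (hLp.of_equiv Subgroup.topEquiv.symm) (Subgroup.mem_top _), rfl⟩
      have hB' : ∀ b ∈ U ⊓ Y, b ∈ V := by
        intro b hb
        refine hJV ⟨⟨hOH (hYO' hb.2), fun v hv => ?_⟩, ⟨hOH (hYO' hb.2), fun w hw => ?_⟩⟩
        · exact hLV2 b (hYL hb.2) v hv
        · have hbN : b ∈ Subgroup.normalizer ((Y.map (MulAut.conj h).toMonoidHom : Subgroup G) : Set G) := by
            have h1 : h⁻¹ * b * h⁻¹⁻¹ ∈ Subgroup.normalizer (Y : Set G) :=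
              FrakM.dag_le_normalizer M (hL0D (hUL0 (Large.conj_mem (Large.le_normalizer_pCoreOf p L) (L.inv_mem hh) hb.1)))
            rw [Subgroup.mem_normalizer_iff]
            intro y
            rw [Local.mem_map_conj, Local.mem_map_conj, Subgroup.mem_normalizer_iff.mp h1 (h⁻¹ * y * h)]
            simp [mul_assoc]
          let Wb : Subgroup G :=
            { carrier := {w | w ∈ V ∧ b * w * b⁻¹ * w⁻¹ ∈ BL}
              one_mem' := ⟨V.one_mem, by simp⟩
              mul_mem' := fun {a c} ha hc => ⟨V.mul_mem ha.1 hc.1, by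
                have h := BL.mul_mem ha.2 hc.2
                have e : b * c * b⁻¹ * c⁻¹ = a * (b * c * b⁻¹ * c⁻¹) * a⁻¹ := by
                  rw [hBLc _ hc.2 a (hVH ha.1), mul_inv_cancel_right]
                rwa [e, show b * a * b⁻¹ * a⁻¹ * (a * (b * c * b⁻¹ * c⁻¹) * a⁻¹) = b * (a * c) * b⁻¹ * (a * c)⁻¹ by group] at h⟩
              inv_mem' := fun {a} ha => ⟨V.inv_mem ha.1, by
                have h := BL.inv_mem ha.2
                have e : (b * a * b⁻¹ * a⁻¹)⁻¹ = a⁻¹ * (b * a * b⁻¹ * a⁻¹)⁻¹ * a⁻¹⁻¹ := by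
                  rw [hBLc _ h a⁻¹ (H.inv_mem (hVH ha.1)), mul_inv_cancel_right]
                rwa [e, show a⁻¹ * (b * a * b⁻¹ * a⁻¹)⁻¹ * a⁻¹⁻¹ = b * a⁻¹ * b⁻¹ * a⁻¹⁻¹ by group] at h⟩ }
          have hW2 : W2 ≤ Wb := by
            refine sup_le (sup_le (fun c hc => ⟨hc.2, ?_⟩) fun c hc => ⟨hBhV hc, ?_⟩) fun c hc => ⟨hc.1, ?_⟩
            · rw [hab b hb.2 c hc.1, mul_inv_cancel_right, mul_inv_cancel]; exact BL.one_mem
            · obtain ⟨d, hd, rfl⟩ := hc
              have hdV : h * d * h⁻¹ ∈ V := Large.conj_mem (hLH.trans hHV) hh hd.2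
              have hbV : b * (h * d * h⁻¹) * b⁻¹ ∈ V := Large.conj_mem hHV (hOH (hYO' hb.2)) hdV
              show b * (h * d * h⁻¹) * b⁻¹ * (h * d * h⁻¹)⁻¹ ∈ B ⊓ Bh
              refine ⟨⟨?_, V.mul_mem hbV (V.inv_mem hdV)⟩, ?_⟩
              · rw [show b * (h * d * h⁻¹) * b⁻¹ * (h * d * h⁻¹)⁻¹ = b * ((h * d * h⁻¹) * b⁻¹ * (h * d * h⁻¹)⁻¹) by group]
                exact Y.mul_mem hb.2 (Large.conj_mem (hV.trans inf_le_right) hdV (Y.inv_mem hb.2))
              · refine Bh.mul_mem ?_ (Bh.inv_mem ⟨d, hd, rfl⟩)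
                have h1 := (Subgroup.mem_normalizer_iff.mp hbN (h * d * h⁻¹)).mp ⟨d, hd.1, rfl⟩
                rw [Local.mem_map_conj] at h1
                refine Local.mem_map_conj.mpr ⟨h1, ?_⟩
                simpa [mul_assoc] using Large.conj_mem (hLH.trans hHV) (L.inv_mem hh) hbV
            · rw [show b * c * b⁻¹ * c⁻¹ = 1 by rw [Subgroup.mem_centralizer_iff.mp hc.2 b (hYL hb.2), mul_inv_cancel_right, mul_inv_cancel]]
              exact BL.one_mem
          exact (hW2 hw).2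
      haveI : (V.subgroupOf L).Normal := Subgroup.normal_subgroupOf_of_le_normalizer (hLH.trans hHV)
      intro x hx
      obtain ⟨z, hz, rfl⟩ := hx
      exact (Subgroup.normalClosure_le_normal (N := V.subgroupOf L) fun a ha => hB' _ ha) hz

end Cfsg.Agent.S2862
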