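import Cfsg.Statements.S2863
import Cfsg.Agent.Lib.YMinimal
import Cfsg.Agent.Lib.ZJ.Complement
import Cfsg.Agent.Lib.PSL2.ClassProduct
import Cfsg.Agent.Lib.Suzuki.TorusFamily

set_option autoImplicit false
set_option linter.unusedVariables false
open Cfsg
open scoped commutatorElement

namespace Cfsg.Agent.S2863

open CfsgLib
open scoped Pointwise

variable {G : Type*} [Group G]

/-- The subgroup `Y ∩ C(L)`. -/
def Zc (Y L : Subgroup G) : Subgroup G := Y ⊓ Subgroup.centralizer (L : Set G)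

theorem conj_zc {Y L : Subgroup G} {z l : G} (hz : z ∈ Zc Y L) (hl : l ∈ L) : l * z * l⁻¹ = z := by
  rw [Subgroup.mem_centralizer_iff.mp hz.2 l hl, mul_inv_cancel_right]

/-- The elements of `L` fixing `a` modulo `Y ∩ C(L)`. -/
def St (Y L : Subgroup G) (a : G) : Subgroup G where
  carrier := {l | l ∈ L ∧ l * a * l⁻¹ * a⁻¹ ∈ Zc Y L}
  one_mem' := ⟨L.one_mem, by simp⟩
  mul_mem' := fun {x y} hx hy => ⟨L.mul_mem hx.1 hy.1, by
    rw [show x * y * a * (x * y)⁻¹ * a⁻¹ = x * (y * a * y⁻¹ * a⁻¹) * x⁻¹ * (x * a * x⁻¹ * a⁻¹) by group,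
      conj_zc hy.2 hx.1]
    exact Subgroup.mul_mem _ hy.2 hx.2⟩
  inv_mem' := fun {x} hx => ⟨L.inv_mem hx.1, by
    rw [show x⁻¹ * a * x⁻¹⁻¹ * a⁻¹ = x⁻¹ * (x * a * x⁻¹ * a⁻¹)⁻¹ * x⁻¹⁻¹ by group,
      conj_zc (Subgroup.inv_mem _ hx.2) (L.inv_mem hx.1)]
    exact Subgroup.inv_mem _ hx.2⟩

theorem mem_st {Y L : Subgroup G} {a l : G} : l ∈ St Y L a ↔ l ∈ L ∧ l * a * l⁻¹ * a⁻¹ ∈ Zc Y L := Iff.rfl

theorem mem_st_of_commute {Y L : Subgroup G} {a l : G} (hl : l ∈ L) (h : l * a = a * l) : l ∈ St Y L a :=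
  ⟨hl, by rw [h]; simp⟩

theorem st_mul {Y L : Subgroup G} {a b l : G} (ha : a ∈ L) (h1 : l ∈ St Y L a) (h2 : l ∈ St Y L b) :
    l ∈ St Y L (a * b) := ⟨h1.1, by
  rw [show l * (a * b) * l⁻¹ * (a * b)⁻¹ = l * a * l⁻¹ * a⁻¹ * (a * (l * b * l⁻¹ * b⁻¹) * a⁻¹) by group,
    conj_zc h2.2 ha]
  exact Subgroup.mul_mem _ h1.2 h2.2⟩

theorem st_inv {Y L : Subgroup G} {a l : G} (ha : a ∈ L) (h1 : l ∈ St Y L a) : l ∈ St Y L a⁻¹ := ⟨h1.1, by
  rw [show l * a⁻¹ * l⁻¹ * a⁻¹⁻¹ = a⁻¹ * (a * (l * a⁻¹ * l⁻¹)) * a⁻¹⁻¹ by group,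
    show a * (l * a⁻¹ * l⁻¹) = (l * a * l⁻¹ * a⁻¹)⁻¹ by group, conj_zc (Subgroup.inv_mem _ h1.2) (L.inv_mem ha)]
  exact Subgroup.inv_mem _ h1.2⟩

theorem st_conj {Y L : Subgroup G} {a l x : G} (hx : x ∈ L) (h : l ∈ St Y L a) :
    x * l * x⁻¹ ∈ St Y L (x * a * x⁻¹) := ⟨L.mul_mem (L.mul_mem hx h.1) (L.inv_mem hx), by
  rw [show x * l * x⁻¹ * (x * a * x⁻¹) * (x * l * x⁻¹)⁻¹ * (x * a * x⁻¹)⁻¹ = x * (l * a * l⁻¹ * a⁻¹) * x⁻¹ by group,
    conj_zc h.2 hx]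
  exact h.2⟩

/-- The standing facts. -/
structure Setup (p : ℕ) (Y L D : Subgroup G) : Prop where
  hab : ∀ a ∈ Y, ∀ b ∈ Y, a * b = b * a
  hyp : ∀ y ∈ Y, y ^ p = 1
  hYL : Y ≤ L
  hDL : D ≤ L
  hDN : D ≤ Subgroup.normalizer (Y : Set G)
  hLD : L ≤ Subgroup.normalizer (D : Set G)
  hDp : IsPGroup p ↥D
  hself : ∀ k ∈ L, (∀ d ∈ D, k * d = d * k) → k ∈ D
  hmax : ∀ K : Subgroup G, K ≤ L → L ≤ Subgroup.normalizer (K : Set G) → IsPGroup p ↥K → K ≤ D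
  hclo : ∀ K : Subgroup G, L ≤ Subgroup.normalizer (K : Set G) → Y ⊓ D ≤ K → D ≤ K
  hgen : ∀ l ∈ L, Y.map (MulAut.conj l).toMonoidHom ≠ Y → Y ⊔ Y.map (MulAut.conj l).toMonoidHom = L
  hexi : ∃ l ∈ L, Y.map (MulAut.conj l).toMonoidHom ≠ Y
  hYD : ∃ y ∈ Y, y ∉ D

variable {p : ℕ} {Y L D : Subgroup G}

theorem map_conj_mul (a b : G) (K : Subgroup G) :
    (K.map (MulAut.conj b).toMonoidHom).map (MulAut.conj a).toMonoidHom = K.map (MulAut.conj (a * b)).toMonoidHom := by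
  rw [Subgroup.map_map, SL2Sylow.conj_comp]

theorem map_conj_one (K : Subgroup G) : K.map (MulAut.conj (1 : G)).toMonoidHom = K := by
  ext x; simp

variable (S : Setup p Y L D)
include S

theorem zc_le : Zc Y L ≤ D := fun z hz => S.hself z (S.hYL hz.1) fun d hd =>
  (Subgroup.mem_centralizer_iff.mp hz.2 d (S.hDL hd)).symm

theorem comm_mem {x : G} (hx : x ∈ L) {y d : G} (hy : y ∈ Y.map (MulAut.conj x).toMonoidHom) (hd : d ∈ D) :
    y * d * y⁻¹ * d⁻¹ ∈ Y.map (MulAut.conj x).toMonoidHom ⊓ D := by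
  have hyL : y ∈ L := by
    obtain ⟨y, h, rfl⟩ := hy; exact L.mul_mem (L.mul_mem hx (S.hYL h)) (L.inv_mem hx)
  refine ⟨?_, D.mul_mem (Large.conj_mem S.hLD hyL hd) (D.inv_mem hd)⟩
  rw [show y * d * y⁻¹ * d⁻¹ = y * (d * y⁻¹ * d⁻¹) by group]
  refine Subgroup.mul_mem _ hy ?_
  have hd' : x⁻¹ * d * x⁻¹⁻¹ ∈ D := Large.conj_mem S.hLD (L.inv_mem hx) hd
  have hy' := Local.mem_map_conj.mp ((Y.map (MulAut.conj x).toMonoidHom).inv_mem hy)
  rw [Local.mem_map_conj]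
  have := Large.conj_mem S.hDN hd' hy'
  simpa [mul_assoc] using this

theorem inf_le_zc {x₁ x₂ : G} (h₁ : x₁ ∈ L) (h₂ : x₂ ∈ L)
    (hne : Y.map (MulAut.conj x₁).toMonoidHom ≠ Y.map (MulAut.conj x₂).toMonoidHom) :
    Y.map (MulAut.conj x₁).toMonoidHom ⊓ Y.map (MulAut.conj x₂).toMonoidHom ≤ Zc Y L := by
  intro c hc
  have hne' : Y.map (MulAut.conj (x₁⁻¹ * x₂)).toMonoidHom ≠ Y := fun e => hne (by
    conv_lhs => rw [← e]
    rw [map_conj_mul, mul_inv_cancel_left])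
  have hgen := S.hgen _ (L.mul_mem (L.inv_mem h₁) h₂) hne'
  obtain ⟨a, ha, rfl⟩ := hc.1
  have ha' : a ∈ Y.map (MulAut.conj (x₁⁻¹ * x₂)).toMonoidHom := by
    obtain ⟨b, hb, e⟩ := hc.2
    refine ⟨b, hb, ?_⟩
    simp only [MulEquiv.coe_toMonoidHom, MulAut.conj_apply] at e ⊢
    rw [show x₁⁻¹ * x₂ * b * (x₁⁻¹ * x₂)⁻¹ = x₁⁻¹ * (x₂ * b * x₂⁻¹) * x₁ by group, e]; group
  have hcent : a ∈ Subgroup.centralizer (L : Set G) := by
    have : L ≤ Subgroup.centralizer ({a} : Set G) := hgen ▸ sup_le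
      (fun y hy => Subgroup.mem_centralizer_singleton_iff.mpr (S.hab y hy a ha))
      (fun y hy => Subgroup.mem_centralizer_singleton_iff.mpr (by
        obtain ⟨y, hy, rfl⟩ := hy
        obtain ⟨b, hb, rfl⟩ := ha'
        rw [← map_mul, ← map_mul, S.hab y hy b hb]))
    exact Subgroup.mem_centralizer_iff.mpr fun l hl => Subgroup.mem_centralizer_singleton_iff.mp (this hl)
  have hz : a ∈ Zc Y L := ⟨ha, hcent⟩
  show x₁ * a * x₁⁻¹ ∈ _
  rwa [conj_zc hz h₁]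

theorem zc_le_conj {x : G} (hx : x ∈ L) : Zc Y L ≤ Y.map (MulAut.conj x).toMonoidHom := fun z hz =>
  ⟨z, hz.1, conj_zc hz hx⟩

theorem mem_zc_of_st_eq {x a : G} (hx : x ∈ L) (ha : a ∈ Y.map (MulAut.conj x).toMonoidHom)
    (hst : L ≤ St Y L a) : a ∈ Zc Y L := by
  obtain ⟨l, hl, hne⟩ := S.hexi
  refine inf_le_zc S hx (L.mul_mem hx hl) (fun e => hne ?_) ⟨ha, ?_⟩
  · rw [← map_conj_mul] at e
    exact (Subgroup.map_injective (MulEquiv.injective (MulAut.conj x)) e).symm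
  · have hk : x * l * x⁻¹ ∈ L := L.mul_mem (L.mul_mem hx hl) (L.inv_mem hx)
    have hz := (hst hk).2
    rw [show a = (x * l * x⁻¹ * a * (x * l * x⁻¹)⁻¹ * a⁻¹)⁻¹ * (x * l * x⁻¹ * a * (x * l * x⁻¹)⁻¹) by group]
    refine Subgroup.mul_mem _ (Subgroup.inv_mem _ (zc_le_conj S (L.mul_mem hx hl) hz)) ?_
    obtain ⟨b, hb, rfl⟩ := ha
    refine ⟨b, hb, ?_⟩
    simp only [MulEquiv.coe_toMonoidHom, MulAut.conj_apply]
    group

theorem decomp [Finite G] [Fact p.Prime] {h : G} (hh : h ∈ L) (hne : Y.map (MulAut.conj h).toMonoidHom ≠ Y)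
    {a : G} (ha : a ∈ D) :
    ∃ b ∈ Y ⊓ D, ∃ d ∈ Y.map (MulAut.conj h).toMonoidHom ⊓ D, a = b * d := by
  obtain ⟨h1, -, -, -, -⟩ := LLemma.quad (V := D) S.hab (S.hgen h hh hne) hh S.hLD S.hDN
  have h2 : (Y ⊓ D).map (MulAut.conj h).toMonoidHom = Y.map (MulAut.conj h).toMonoidHom ⊓ D := by
    rw [Subgroup.map_inf _ _ _ (MulEquiv.injective (MulAut.conj h)), Local.map_conj_eq_of_mem_normalizer (S.hLD hh)]
  have h3 := S.hclo _ h1 le_sup_left ha
  have hN : (Y ⊓ D).map (MulAut.conj h).toMonoidHom ≤ Subgroup.normalizer ((Y ⊓ D : Subgroup G) : Set G) := by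
    rw [h2]
    exact Large.le_normalizer_of fun v hv b hb => ⟨Large.conj_mem S.hDN hv.2 hb.1,
      D.mul_mem (D.mul_mem hv.2 hb.2) (D.inv_mem hv.2)⟩
  rw [← SetLike.mem_coe, Subgroup.coe_mul_of_right_le_normalizer_left _ _ hN] at h3
  obtain ⟨b, hb, d, hd, rfl⟩ := h3
  exact ⟨b, hb, d, h2 ▸ hd, rfl⟩

theorem le_st [Finite G] [Fact p.Prime] {a : G} (ha : a ∈ D) : D ≤ St Y L a := by
  obtain ⟨h, hh, hne⟩ := S.hexi
  have hne' : Y.map (MulAut.conj (1 : G)).toMonoidHom ≠ Y.map (MulAut.conj h).toMonoidHom := by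
    rw [map_conj_one]; exact hne.symm
  intro e he
  obtain ⟨b', hb', d', hd', rfl⟩ := decomp S hh hne he
  obtain ⟨b, hb, d, hd, rfl⟩ := decomp S hh hne ha
  have habh : d' * d = d * d' := by
    obtain ⟨u, hu, rfl⟩ := hd'.1
    obtain ⟨v, hv, rfl⟩ := hd.1
    rw [← map_mul, ← map_mul, S.hab u hu v hv]
  have key : ∀ u ∈ Y ⊓ D, ∀ v ∈ Y.map (MulAut.conj h).toMonoidHom ⊓ D, u * v * u⁻¹ * v⁻¹ ∈ Zc Y L := by
    intro u hu v hv
    refine inf_le_zc S L.one_mem hh hne' ⟨(comm_mem S L.one_mem (by rw [map_conj_one]; exact hu.1) hv.2).1, ?_⟩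
    rw [show u * v * u⁻¹ * v⁻¹ = (v * u * v⁻¹ * u⁻¹)⁻¹ by group]
    exact Subgroup.inv_mem _ (comm_mem S hh hv.1 hu.2).1
  refine Subgroup.mul_mem _ (st_mul (S.hYL hb.1) (mem_st_of_commute (S.hYL hb'.1) (S.hab _ hb'.1 _ hb.1))
    ⟨S.hYL hb'.1, key _ hb' _ hd⟩) (st_mul (S.hYL hb.1) ⟨S.hDL hd'.2, ?_⟩ (mem_st_of_commute (S.hDL hd'.2) habh))
  rw [show d' * b * d'⁻¹ * b⁻¹ = (b * d' * b⁻¹ * d'⁻¹)⁻¹ by group]
  exact Subgroup.inv_mem _ (key _ hb _ hd')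

theorem fix_base [Finite G] [Fact p.Prime] {y a : G} (hy : y ∈ Y) (hyD : y ∉ D) (ha : a ∈ D) (hst : y ∈ St Y L a) :
    a ∈ Y ⊓ D := by
  obtain ⟨h, hh, hne⟩ := S.hexi
  set Yh := Y.map (MulAut.conj h).toMonoidHom with hYh
  have hne' : Y.map (MulAut.conj (1 : G)).toMonoidHom ≠ Yh := by
    rw [map_conj_one]; exact hne.symm
  obtain ⟨b, hb, d, hd, rfl⟩ := decomp S hh hne ha
  have h1 : y ∈ St Y L d := by
    have := st_mul (L.inv_mem (S.hYL hb.1)) (st_inv (S.hYL hb.1) (mem_st_of_commute (S.hYL hy) (S.hab _ hy _ hb.1))) hst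
    rwa [inv_mul_cancel_left] at this
  have h2 : ∀ v ∈ Yh, v ∈ St Y L d := by
    intro v hv
    refine mem_st_of_commute ?_ ?_
    · obtain ⟨v, hv, rfl⟩ := hv; exact L.mul_mem (L.mul_mem hh (S.hYL hv)) (L.inv_mem hh)
    · obtain ⟨v, hv, rfl⟩ := hv
      obtain ⟨w, hw, rfl⟩ := hd.1
      rw [← map_mul, ← map_mul, S.hab v hv w hw]
  by_cases hyN : Yh.map (MulAut.conj y).toMonoidHom = Yh
  · exfalso
    -- `y` acts trivially on `D / Zc`.
    let K : Subgroup G := L ⊓ ⨅ (e : G) (_ : e ∈ D), St Y L e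
    have hmem : ∀ k, k ∈ K ↔ k ∈ L ∧ ∀ e ∈ D, k ∈ St Y L e := fun k => by
      simp only [K, Subgroup.mem_inf, Subgroup.mem_iInf]
    have hyK : y ∈ K := by
      refine (hmem y).mpr ⟨S.hYL hy, fun e he => ?_⟩
      obtain ⟨b', hb', d', hd', rfl⟩ := decomp S hh hne he
      refine st_mul (S.hYL hb'.1) (mem_st_of_commute (S.hYL hy) (S.hab _ hy _ hb'.1)) ⟨S.hYL hy, ?_⟩
      refine inf_le_zc S L.one_mem hh hne' ⟨(comm_mem S L.one_mem (by rw [map_conj_one]; exact hy) hd'.2).1,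
        Subgroup.mul_mem _ ?_ (Subgroup.inv_mem _ hd'.1)⟩
      have h3 : y * d' * y⁻¹ ∈ Yh.map (MulAut.conj y).toMonoidHom := ⟨d', hd'.1, rfl⟩
      rwa [hyN] at h3
    have hKL : L ≤ Subgroup.normalizer (K : Set G) := Large.le_normalizer_of fun x hx k hk => by
      rw [hmem] at hk ⊢
      refine ⟨L.mul_mem (L.mul_mem hx hk.1) (L.inv_mem hx), fun e he => ?_⟩
      have := st_conj hx (hk.2 _ (Large.conj_mem S.hLD (L.inv_mem hx) he))
      simpa [mul_assoc] using this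
    have hKp : IsPGroup p ↥K := by
      intro k
      have hn0 : orderOf (k : G) ≠ 0 := (orderOf_pos _).ne'
      set q := p ^ (orderOf (k : G)).factorization p
      refine ⟨(orderOf (k : G)).factorization p, Subtype.ext ?_⟩
      show (k : G) ^ q = 1
      set k' := (k : G) ^ q
      have hk'K : k' ∈ K := K.pow_mem k.2 q
      have hcop : (orderOf k').Coprime p := by
        rw [show orderOf k' = orderOf (k : G) / q by
          rw [orderOf_pow' _ (pow_ne_zero _ (Fact.out : p.Prime).ne_zero), Nat.gcd_eq_right (Nat.ordProj_dvd _ _)]]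
        exact (Nat.coprime_ordCompl (Fact.out : p.Prime) hn0).symm
      have hk'D : k' ∈ D := by
        refine S.hself k' ((hmem k').mp hk'K).1 fun e he => ?_
        have hz := (((hmem k').mp hk'K).2 e he).2
        obtain ⟨z, hzdef⟩ : ∃ z, z = k' * e * k'⁻¹ * e⁻¹ := ⟨_, rfl⟩
        rw [← hzdef] at hz
        have hke : k' * e * k'⁻¹ = z * e := by rw [hzdef]; group
        have hpow : ∀ n : ℕ, k' ^ n * e * (k' ^ n)⁻¹ = z ^ n * e := by
          intro n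
          induction n with
          | zero => simp
          | succ n ih =>
            rw [pow_succ' k', show k' * k' ^ n * e * (k' * k' ^ n)⁻¹ = k' * (k' ^ n * e * (k' ^ n)⁻¹) * k'⁻¹ by group, ih,
              show k' * (z ^ n * e) * k'⁻¹ = k' * z ^ n * k'⁻¹ * (k' * e * k'⁻¹) by group,
              conj_zc (Subgroup.pow_mem _ hz n) ((hmem k').mp hk'K).1, hke, pow_succ, mul_assoc]
        have h3 := hpow (orderOf k')
        rw [pow_orderOf_eq_one, one_mul, inv_one, mul_one, right_eq_mul] at h3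
        have h4 : orderOf z = 1 := by
          obtain ⟨j, hj⟩ := S.hDp ⟨z, zc_le S hz⟩
          exact Nat.eq_one_of_dvd_coprimes (hcop.pow_right j) (orderOf_dvd_of_pow_eq_one h3)
            (orderOf_dvd_of_pow_eq_one (congrArg Subtype.val hj))
        rw [orderOf_eq_one_iff.mp h4, one_mul] at hke
        exact mul_inv_eq_iff_eq_mul.mp hke
      obtain ⟨j, hj⟩ := S.hDp ⟨k', hk'D⟩
      exact orderOf_eq_one_iff.mp (Nat.eq_one_of_dvd_coprimes (hcop.pow_right j) dvd_rfl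
        (orderOf_dvd_of_pow_eq_one (congrArg Subtype.val hj)))
    exact hyD (S.hmax K inf_le_left hKL hKp hyK)
  · have hyh : y * h ∈ L := L.mul_mem (S.hYL hy) hh
    have hne2 : Y.map (MulAut.conj (h⁻¹ * (y * h))).toMonoidHom ≠ Y := fun e => hyN (by
      rw [hYh, map_conj_mul]
      conv_rhs => rw [← e, map_conj_mul, mul_inv_cancel_left])
    have hgen := S.hgen _ (L.mul_mem (L.inv_mem hh) hyh) hne2
    have hL : L ≤ St Y L d := by
      intro l hl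
      have hl' : h⁻¹ * l * h ∈ Y ⊔ Y.map (MulAut.conj (h⁻¹ * (y * h))).toMonoidHom := by
        rw [hgen]; exact L.mul_mem (L.mul_mem (L.inv_mem hh) hl) hh
      have hle : (Y ⊔ Y.map (MulAut.conj (h⁻¹ * (y * h))).toMonoidHom).map (MulAut.conj h).toMonoidHom ≤ St Y L d := by
        rw [Subgroup.map_sup, map_conj_mul, mul_inv_cancel_left, ← hYh, ← map_conj_mul, ← hYh]
        refine sup_le h2 ?_
        rintro _ ⟨v, hv, rfl⟩
        exact Subgroup.mul_mem _ (Subgroup.mul_mem _ h1 (h2 v hv)) (Subgroup.inv_mem _ h1)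
      have := hle ⟨_, hl', rfl⟩
      simpa [mul_assoc] using this
    have hdZ := mem_zc_of_st_eq S hh hd.1 hL
    exact ⟨Y.mul_mem hb.1 hdZ.1, D.mul_mem hb.2 hd.2⟩

theorem fix_conj [Finite G] [Fact p.Prime] {x u a : G} (hx : x ∈ L) (hu : u ∈ Y) (huD : u ∉ D) (ha : a ∈ D)
    (hst : x * u * x⁻¹ ∈ St Y L a) : a ∈ Y.map (MulAut.conj x).toMonoidHom := by
  have h1 := fix_base S hu huD (Large.conj_mem S.hLD (L.inv_mem hx) ha) (by
    have := st_conj (L.inv_mem hx) hst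
    simpa [mul_assoc] using this)
  rw [Local.mem_map_conj]
  simpa [mul_assoc] using h1.1

theorem fix_prod [Finite G] [Fact p.Prime] {x₁ x₂ u₁ u₂ l a δ : G} (hx₁ : x₁ ∈ L) (hx₂ : x₂ ∈ L) (hu₁ : u₁ ∈ Y)
    (hu₂ : u₂ ∈ Y) (hδ : δ ∈ D) (he : x₁ * u₁ * x₁⁻¹ * (x₂ * u₂ * x₂⁻¹) = l * δ) (hlp : l ^ p ∉ D) (ha : a ∈ D)
    (hst : l ∈ St Y L a) : a ∈ Zc Y L := by
  set c₁ := x₁ * u₁ * x₁⁻¹ with hc₁
  set c₂ := x₂ * u₂ * x₂⁻¹ with hc₂
  have hc₁L : c₁ ∈ L := L.mul_mem (L.mul_mem hx₁ (S.hYL hu₁)) (L.inv_mem hx₁)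
  have hc₂L : c₂ ∈ L := L.mul_mem (L.mul_mem hx₂ (S.hYL hu₂)) (L.inv_mem hx₂)
  have hcp : ∀ x u : G, u ∈ Y → (x * u * x⁻¹) ^ p = 1 := fun x u hu => by
    rw [conj_pow, S.hyp u hu, mul_one, mul_inv_cancel]
  -- powers modulo `D`
  have hmod : ∀ c : G, c ∈ L → c ^ p = 1 → ∀ e ∈ D, c * e ≠ l ∧ e * c ≠ l := by
    intro c hc hc1 e he
    have hD' : (D.subgroupOf L).Normal := Subgroup.normal_subgroupOf_of_le_normalizer S.hLD
    have key : ∀ m : ↥L, (QuotientGroup.mk' (D.subgroupOf L) m) = QuotientGroup.mk' (D.subgroupOf L) ⟨c, hc⟩ →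
        (m : G) ≠ l := by
      intro m hm e'
      apply hlp
      rw [← e']
      have : QuotientGroup.mk' (D.subgroupOf L) (m ^ p) = 1 := by
        rw [map_pow, hm, ← map_pow, show (⟨c, hc⟩ : ↥L) ^ p = 1 from Subtype.ext hc1, map_one]
      exact (QuotientGroup.eq_one_iff (N := D.subgroupOf L) _).mp this
    refine ⟨key (⟨c, hc⟩ * ⟨e, S.hDL he⟩) ?_, key (⟨e, S.hDL he⟩ * ⟨c, hc⟩) ?_⟩
    all_goals
      rw [map_mul, show QuotientGroup.mk' (D.subgroupOf L) ⟨e, S.hDL he⟩ = 1 from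
        (QuotientGroup.eq_one_iff (N := D.subgroupOf L) _).mpr he]
      simp
  have hl : l = c₁ * c₂ * δ⁻¹ := by rw [he]; group
  have hu₁D : u₁ ∉ D := fun h => (hmod c₂ hc₂L (hcp _ _ hu₂) (c₂⁻¹ * c₁ * c₂⁻¹⁻¹ * δ⁻¹)
    (D.mul_mem (Large.conj_mem S.hLD (L.inv_mem hc₂L) (Large.conj_mem S.hLD hx₁ h)) (D.inv_mem hδ))).1
    (by rw [hl]; group)
  have hu₂D : u₂ ∉ D := fun h => (hmod c₁ hc₁L (hcp _ _ hu₁) (c₂ * δ⁻¹)
    (D.mul_mem (Large.conj_mem S.hLD hx₂ h) (D.inv_mem hδ))).1 (by rw [hl]; group)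
  have hne : Y.map (MulAut.conj x₁).toMonoidHom ≠ Y.map (MulAut.conj x₂).toMonoidHom := by
    intro e
    have h1 : c₂ ∈ Y.map (MulAut.conj x₁).toMonoidHom := e ▸ ⟨u₂, hu₂, rfl⟩
    obtain ⟨v, hv, hv'⟩ := (Y.map (MulAut.conj x₁).toMonoidHom).mul_mem ⟨u₁, hu₁, rfl⟩ h1
    exact (hmod (x₁ * v * x₁⁻¹) (L.mul_mem (L.mul_mem hx₁ (S.hYL hv)) (L.inv_mem hx₁)) (hcp _ _ hv) δ⁻¹ (D.inv_mem hδ)).1
      (by rw [hl]; simp only [MulEquiv.coe_toMonoidHom, MulAut.conj_apply] at hv'; rw [hv'])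
  have hprod : c₁ * c₂ ∈ St Y L a := by
    rw [he]; exact Subgroup.mul_mem _ hst (le_st S ha hδ)
  have he₁ := (comm_mem S hx₁ ((Y.map (MulAut.conj x₁).toMonoidHom).inv_mem ⟨u₁, hu₁, rfl⟩) ha).1
  have he₂ := (comm_mem S hx₂ (⟨u₂, hu₂, rfl⟩ : c₂ ∈ Y.map (MulAut.conj x₂).toMonoidHom) ha).1
  have hz := hprod.2
  set z := c₁ * c₂ * a * (c₁ * c₂)⁻¹ * a⁻¹ with hzdef
  have h2 : c₂ * a * c₂⁻¹ * a⁻¹ = z * (c₁⁻¹ * a * c₁⁻¹⁻¹ * a⁻¹) := by
    calc c₂ * a * c₂⁻¹ * a⁻¹ = (c₁⁻¹ * z * c₁⁻¹⁻¹) * (c₁⁻¹ * a * c₁⁻¹⁻¹ * a⁻¹) := by rw [hzdef]; group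
      _ = _ := by rw [conj_zc hz (L.inv_mem hc₁L)]
  have h3 : c₂ ∈ St Y L a := by
    refine ⟨hc₂L, inf_le_zc S hx₁ hx₂ hne ⟨?_, he₂⟩⟩
    rw [h2]
    exact Subgroup.mul_mem _ (zc_le_conj S hx₁ hz) he₁
  have h4 : c₁ ∈ St Y L a := by
    have := Subgroup.mul_mem _ hprod (Subgroup.inv_mem _ h3)
    rwa [mul_inv_cancel_right] at this
  exact inf_le_zc S hx₁ hx₂ hne ⟨fix_conj S hx₁ hu₁ hu₁D ha h4, fix_conj S hx₂ hu₂ hu₂D ha h3⟩

omit S

/-- `g` is a product of two conjugates of elements of `Y`. -/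
def IsProd {X : Type*} [Group X] (Y : Subgroup X) (g : X) : Prop :=
  ∃ x₁ x₂ u₁ u₂ : X, u₁ ∈ Y ∧ u₂ ∈ Y ∧ g = x₁ * u₁ * x₁⁻¹ * (x₂ * u₂ * x₂⁻¹)

/-- The elements of order prime to `p` are products of two conjugates, up to central ones. -/
def Good (p : ℕ) {X : Type*} [Group X] (Y : Subgroup X) : Prop :=
  ∀ g : X, g ≠ 1 → (orderOf g).Coprime p → IsProd Y g ∨ ((∀ x, g * x = x * g) ∧ ∀ u ∈ Y, u ≠ 1 → IsProd Y (g * u))

theorem isProd_equiv {X X' : Type*} [Group X] [Group X'] (e : X ≃* X') {Y : Subgroup X} {g : X}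
    (h : IsProd (Y.map e.toMonoidHom) (e g)) : IsProd Y g := by
  obtain ⟨x₁, x₂, u₁, u₂, ⟨v₁, hv₁, rfl⟩, ⟨v₂, hv₂, rfl⟩, he⟩ := h
  refine ⟨e.symm x₁, e.symm x₂, v₁, v₂, hv₁, hv₂, e.injective ?_⟩
  simpa using he

theorem good_equiv {p : ℕ} {X X' : Type*} [Group X] [Group X'] (e : X ≃* X') {Y : Subgroup X}
    (h : Good p (Y.map e.toMonoidHom)) : Good p Y := by
  intro g hg hcop
  rcases h (e g) (by simpa using hg) (by rwa [e.orderOf_eq]) with h1 | ⟨h1, h2⟩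
  · exact Or.inl (isProd_equiv e h1)
  · refine Or.inr ⟨fun x => e.injective (by simpa using h1 (e x)), fun u hu hu1 => isProd_equiv e ?_⟩
    rw [map_mul]
    exact h2 (e u) ⟨u, hu, rfl⟩ (by simpa using hu1)

theorem good_two {X : Type*} [Group X] [Finite X] {Y : Subgroup X} {h : X} (hY : Nat.card ↥Y = 2)
    (hgen : Y ⊔ Y.map (MulAut.conj h).toMonoidHom = ⊤) : Good 2 Y := by
  obtain ⟨⟨t, ht⟩, ht1, hall⟩ : ∃ t : ↥Y, t ≠ 1 ∧ ∀ y : ↥Y, y = 1 ∨ y = t := by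
    obtain ⟨t, ht⟩ := (Nat.card_eq_two_iff' (1 : ↥Y)).mp hY
    exact ⟨t, ht.1, fun y => (em (y = 1)).imp id fun h => ht.2 y h⟩
  have hYt : Y ≤ Subgroup.zpowers t := fun y hy => by
    rcases hall ⟨y, hy⟩ with h | h
    · rw [show y = 1 from congrArg Subtype.val h]; exact Subgroup.one_mem _
    · rw [show y = t from congrArg Subtype.val h]; exact Subgroup.mem_zpowers t
  have htt : t * t = 1 := by
    rcases hall ⟨t * t, Y.mul_mem ht ht⟩ with h | h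
    · exact congrArg Subtype.val h
    · exact absurd (Subtype.ext (mul_eq_left.mp (congrArg Subtype.val h : t * t = t))) ht1
  have htinv : t⁻¹ = t := inv_eq_of_mul_eq_one_right htt
  set s := h * t * h⁻¹ with hs
  have hss : s * s = 1 := by rw [hs, show h * t * h⁻¹ * (h * t * h⁻¹) = h * (t * t) * h⁻¹ by group, htt]; group
  set r := t * s with hr
  have htr : t * r * t⁻¹ = r⁻¹ := by
    rw [hr, htinv, mul_inv_rev, htinv, inv_eq_of_mul_eq_one_right hss, ← mul_assoc t t, htt, one_mul]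
  set R := Subgroup.zpowers r
  have htR : t ∈ Subgroup.normalizer (R : Set X) := by
    refine Local.mem_normalizer_of_map_conj_eq ?_
    rw [MonoidHom.map_zpowers]
    show Subgroup.zpowers (t * r * t⁻¹) = _
    rw [htr, Subgroup.zpowers_inv]
  have hRT : R ⊔ Subgroup.zpowers t = ⊤ := by
    refine top_le_iff.mp (hgen.symm.le.trans (sup_le (hYt.trans le_sup_right) ?_))
    rintro _ ⟨y, hy, rfl⟩
    obtain ⟨i, rfl⟩ := hYt hy
    rw [map_zpow]
    refine Subgroup.zpow_mem _ ?_ i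
    rw [show (MulAut.conj h).toMonoidHom t = t * r from by
      show h * t * h⁻¹ = t * (t * s); rw [← mul_assoc, htt, one_mul]]
    exact Subgroup.mul_mem _ (Subgroup.mem_sup_right (Subgroup.mem_zpowers t))
      (Subgroup.mem_sup_left (Subgroup.mem_zpowers r))
  intro g hg hcop
  left
  have hgtop : g ∈ ((R ⊔ Subgroup.zpowers t : Subgroup X) : Set X) := by rw [hRT]; trivial
  rw [Subgroup.coe_mul_of_right_le_normalizer_left R _ (Subgroup.zpowers_le.mpr htR)] at hgtop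
  obtain ⟨a, ha, b, hb, hab⟩ := hgtop
  obtain ⟨j, rfl⟩ := hb
  dsimp only at hab
  have hinv : ∀ m ∈ R, t * m * t⁻¹ = m⁻¹ := by
    rintro _ ⟨i, rfl⟩
    show t * r ^ i * t⁻¹ = (r ^ i)⁻¹
    rw [← conj_zpow, htr, inv_zpow]
  have hgR : g ∈ R := by
    rcases Int.even_or_odd j with ⟨i, rfl⟩ | ⟨i, rfl⟩
    · rw [zpow_add, ← (Commute.refl t).mul_zpow, htt, one_zpow, mul_one] at hab
      exact hab ▸ ha
    · exfalso
      rw [zpow_add_one, two_mul, zpow_add, ← (Commute.refl t).mul_zpow, htt, one_zpow, one_mul] at hab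
      have hg2 : g * g = 1 := by
        calc g * g = a * (t * a * t⁻¹) * (t * t) := by rw [← hab]; group
          _ = 1 := by rw [hinv a ha, htt, mul_one, mul_inv_cancel]
      exact hg (orderOf_eq_one_iff.mp (Nat.eq_one_of_dvd_coprimes hcop dvd_rfl
        (orderOf_dvd_of_pow_eq_one (by rw [sq]; exact hg2))))
  have hodd : Odd (orderOf g) := Nat.coprime_two_right.mp hcop
  obtain ⟨k, hk⟩ := hodd
  set m := g ^ (k + 1)
  have hm : m * m = g := by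
    show g ^ (k + 1) * g ^ (k + 1) = g
    rw [← pow_add, show k + 1 + (k + 1) = orderOf g + 1 by omega, pow_succ, pow_orderOf_eq_one, one_mul]
  refine ⟨m, 1, t, t, ht, ht, ?_⟩
  calc g = m * (t * m * t⁻¹)⁻¹ := by rw [hinv m (R.pow_mem hgR _), inv_inv, hm]
    _ = m * t * m⁻¹ * (1 * t * 1⁻¹) := by rw [one_mul, inv_one, mul_one, mul_inv_rev, mul_inv_rev, inv_inv, htinv]; group

theorem good_SL2 {p : ℕ} [Fact p.Prime] {F : Type*} [Field F] [Fintype F] [CharP F p]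
    {Y : Subgroup (Matrix.SpecialLinearGroup (Fin 2) F)} (hY : IsPGroup p ↥Y) (hcard : Nat.card ↥Y = Fintype.card F) :
    Good p Y := by
  classical
  obtain ⟨P, hP⟩ := hY.exists_le_sylow
  obtain ⟨g₀, hg₀⟩ := SL2Sylow.sylow_SL p P
  have hUS : Nat.card ↥(SL2Sylow.US (F := F)) = Fintype.card F := by
    rw [SL2Sylow.US, ← Nat.card_congr (MonoidHom.ofInjective SL2Sylow.us_injective).toEquiv,
      Nat.card_congr Multiplicative.toAdd, Nat.card_eq_fintype_card]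
  have hYP : Y = (P : Subgroup _) := Subgroup.eq_of_le_of_card_ge hP (by
    rw [hcard, hg₀, Subgroup.card_map_of_injective (MulEquiv.injective (MulAut.conj g₀)), hUS])
  have hmem : ∀ x : Matrix.SpecialLinearGroup (Fin 2) F, x.1.trace = 2 →
      ∃ k u : Matrix.SpecialLinearGroup (Fin 2) F, u ∈ Y ∧ x = k * u * k⁻¹ := by
    intro x hx
    have h1 : x ^ p = 1 := by
      apply Subtype.ext
      show (x ^ p).1 = 1
      rw [Matrix.SpecialLinearGroup.coe_pow]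
      have h2 : (x.1 - 1) ^ 2 = 0 := by
        rw [sq, show (x.1 - 1) * (x.1 - 1) = x.1 * x.1 - x.1 - x.1 + 1 by noncomm_ring, PSL2Product.sq_eq, hx,
          two_smul]
        abel
      have h3 : (x.1 - 1) ^ p = 0 := by
        rw [show p = 2 + (p - 2) by have := (Fact.out : p.Prime).two_le; omega, pow_add, h2, zero_mul]
      rwa [sub_pow_char_of_commute p (Commute.one_right _), one_pow, sub_eq_zero] at h3
    have hz : IsPGroup p ↥(Subgroup.zpowers x) := by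
      rintro ⟨_, i, rfl⟩
      refine ⟨1, Subtype.ext ?_⟩
      show (x ^ i) ^ (p ^ 1 : ℕ) = 1
      rw [pow_one, ← zpow_natCast (x ^ i), ← zpow_mul, mul_comm, zpow_mul, zpow_natCast, h1, one_zpow]
    obtain ⟨Q, hQ⟩ := hz.exists_le_sylow
    obtain ⟨g₁, hg₁⟩ := SL2Sylow.sylow_SL p Q
    have hQY : (Q : Subgroup _) = Y.map (MulAut.conj (g₁ * g₀⁻¹)).toMonoidHom := by
      rw [hYP, hg₀, map_conj_mul, inv_mul_cancel_right, hg₁]
    obtain ⟨u, hu, e⟩ := hQY ▸ hQ (Subgroup.mem_zpowers x)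
    exact ⟨g₁ * g₀⁻¹, u, hu, e.symm⟩
  have hprod : ∀ g : Matrix.SpecialLinearGroup (Fin 2) F, (∀ a : F, g.1 ≠ a • (1 : Matrix (Fin 2) (Fin 2) F)) →
      IsProd Y g := by
    intro g hg
    obtain ⟨x, y, hx, hy, he⟩ := PSL2Product.exists_mul (α := 2) (β := 2) hg (by
      by_cases h : g.1.trace ^ 2 = 4
      · refine Or.inr ?_
        have h' : (g.1.trace - 2) * (g.1.trace + 2) = 0 := by linear_combination h
        rcases mul_eq_zero.mp h' with h1 | h1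
        · exact ⟨1, by linear_combination h1, one_mul 1, Or.inr ⟨1, by ring⟩⟩
        · exact ⟨-1, by linear_combination h1, by ring, Or.inr ⟨1, by ring⟩⟩
      · exact Or.inl h)
    obtain ⟨k₁, u₁, hu₁, rfl⟩ := hmem x hx
    obtain ⟨k₂, u₂, hu₂, rfl⟩ := hmem y hy
    exact ⟨k₁, k₂, u₁, u₂, hu₁, hu₂, he.symm⟩
  intro g hg hcop
  by_cases hsc : ∀ a : F, g.1 ≠ a • (1 : Matrix (Fin 2) (Fin 2) F)
  · exact Or.inl (hprod g hsc)
  push Not at hsc
  obtain ⟨a, ha⟩ := hsc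
  have hcen : ∀ x, g * x = x * g := fun x => Subtype.ext (by
    show g.1 * x.1 = x.1 * g.1
    rw [ha, smul_mul_assoc, one_mul, mul_smul_comm, mul_one])
  refine Or.inr ⟨hcen, fun u hu hu1 => hprod _ fun b hb => hu1 ?_⟩
  have h1 : orderOf g ∣ orderOf g := dvd_rfl
  -- `u` is central of `p`-power order
  have hb' : g.1 * u.1 = b • (1 : Matrix (Fin 2) (Fin 2) F) := hb
  rw [ha, smul_mul_assoc, one_mul] at hb'
  have ha0 : a ≠ 0 := by
    intro h0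
    have := g.2
    rw [ha, h0, zero_smul, Matrix.det_zero] at this
    exact zero_ne_one this
  have hu' : u.1 = (a⁻¹ * b) • (1 : Matrix (Fin 2) (Fin 2) F) := by
    rw [← smul_smul, ← hb', smul_smul, inv_mul_cancel₀ ha0, one_smul]
  obtain ⟨k, hk⟩ := hY ⟨u, hu⟩
  have hk' : u.1 ^ p ^ k = 1 := by
    rw [← Matrix.SpecialLinearGroup.coe_pow, show u ^ p ^ k = 1 from congrArg Subtype.val hk]
    rfl
  rw [hu', smul_pow, one_pow] at hk'
  have h4 : (a⁻¹ * b) ^ p ^ k = 1 := by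
    have := congrFun (congrFun hk' 0) 0
    simpa using this
  have h5 : (a⁻¹ * b - 1) ^ p ^ k = 0 := by rw [sub_pow_char_pow, h4, one_pow, sub_self]
  have h6 := sub_eq_zero.mp (pow_eq_zero_iff (pow_ne_zero _ (Fact.out : p.Prime).ne_zero) |>.mp h5)
  exact Subtype.ext (by rw [hu', h6, one_smul]; rfl)

theorem good_Sz {F : Type*} [Field F] [Fintype F] {m : ℕ} (hF : Fintype.card F = 2 ^ (2 * m + 1)) (hm : 1 ≤ m)
    {Y : Subgroup ↥(Cfsg.Sz F m)} (hY : Cfsg.IsElementaryAbelian 2 Y) (hcard : Nat.card ↥Y = Fintype.card F) : Good 2 Y := by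
  haveI : Fact (Nat.Prime 2) := ⟨Nat.prime_two⟩
  have hinv : ∀ x ∈ Suzuki.U hF, x ^ 2 = 1 → x ∈ Suzuki.Z hF := by
    rintro x ⟨a, b, rfl⟩ h
    rw [sq, Suzuki.uS_mul, ← Suzuki.uS_zero hF] at h
    have := (Suzuki.uS_inj hF h).2
    have h2 : (2 : F) = 0 := Suzuki.two_eq_zero hF
    have ha : Suzuki.th m a * a = 0 := by linear_combination this - b * h2
    refine ⟨b, ?_⟩
    rcases mul_eq_zero.mp ha with h3 | h3
    · rw [Suzuki.th_eq_zero_iff.mp h3]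
    · rw [h3]
  obtain ⟨P, hP⟩ := (YMinimal.elem_isPGroup hY).exists_le_sylow
  obtain ⟨g₀, hg₀⟩ := Suzuki.exists_conj_eq hF hm P
  have hY' : Y.map (MulAut.conj g₀⁻¹).toMonoidHom = Suzuki.Z hF := by
    refine Subgroup.eq_of_le_of_card_ge ?_ (by
      rw [Subgroup.card_map_of_injective (MulEquiv.injective (MulAut.conj g₀⁻¹)), hcard, Suzuki.card_Z, hF])
    rintro _ ⟨y, hy, rfl⟩
    refine hinv _ ?_ (by rw [← map_pow, hY.2 y hy, map_one])
    obtain ⟨u, hu, rfl⟩ := (hg₀ ▸ hP) hy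
    simpa [mul_assoc] using hu
  have hmem : ∀ x : ↥(Cfsg.Sz F m), x * x = 1 → ∃ k u, u ∈ Y ∧ x = k * u * k⁻¹ := by
    intro x hx
    have hz : IsPGroup 2 ↥(Subgroup.zpowers x) := by
      rintro ⟨_, i, rfl⟩
      refine ⟨1, Subtype.ext ?_⟩
      show (x ^ i) ^ (2 ^ 1 : ℕ) = 1
      rw [pow_one, pow_two, ← Commute.mul_zpow (Commute.refl _), hx, one_zpow]
    obtain ⟨Q, hQ⟩ := hz.exists_le_sylow
    obtain ⟨g₁, hg₁⟩ := Suzuki.exists_conj_eq hF hm Q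
    obtain ⟨v, hv, rfl⟩ := hg₁ ▸ hQ (Subgroup.mem_zpowers x)
    have hvZ : v ∈ Suzuki.Z hF := hinv v hv (by
      simp only [MulEquiv.coe_toMonoidHom, MulAut.conj_apply] at hx
      have := congrArg (fun w => g₁⁻¹ * w * g₁) hx
      simpa [pow_two, mul_assoc] using this)
    obtain ⟨u, hu, rfl⟩ := hY' ▸ hvZ
    refine ⟨g₁ * g₀⁻¹, u, hu, ?_⟩
    simp [mul_assoc]
  intro g hg hcop
  left
  have hss : Suzuki.SS hF g := ⟨hg, fun h => hg (orderOf_eq_one_iff.mp (by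
    have h2 := Suzuki.orderOf_dvd_of_conjSet _ h
    obtain ⟨k, hk⟩ := IsPGroup.iff_card.mp (Suzuki.U_isPGroup hF)
    rw [hk] at h2
    exact Nat.eq_one_of_dvd_coprimes (hcop.pow_right k) dvd_rfl h2))⟩
  obtain ⟨c, hc, hcyc, hord, hN⟩ := Suzuki.ss_data hF hm hss
  set A := Subgroup.centralizer ({g} : Set ↥(Cfsg.Sz F m))
  have h2A := (Suzuki.torusOrder_props hF hm hord).2.2.1
  obtain ⟨⟨j, hjN⟩, hj⟩ := exists_prime_orderOf_dvd_card' (G := ↥(Subgroup.normalizer (A : Set ↥(Cfsg.Sz F m)))) 2 (by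
    rw [hN]; rcases hc with rfl | rfl
    · exact dvd_mul_right 2 _
    · exact Dvd.dvd.mul_right (by norm_num) _)
  rw [← Subgroup.orderOf_coe] at hj
  have hjA : j ∉ A := fun h => h2A (hj ▸ Subgroup.orderOf_dvd_natCard A h)
  have hjj : j * j = 1 := by rw [← sq, ← hj]; exact pow_orderOf_eq_one j
  have hjinv : j⁻¹ = j := inv_eq_of_mul_eq_one_right hjj
  have hgA : g ∈ A := Subgroup.mem_centralizer_singleton_iff.mpr rfl
  have hg'A : j * g * j⁻¹ ∈ A := (Subgroup.mem_normalizer_iff.mp hjN g).mp hgA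
  have hcomm : g * (j * g * j⁻¹) = j * g * j⁻¹ * g := (Subgroup.mem_centralizer_singleton_iff.mp hg'A).symm
  have hrev : g * (j * g * j⁻¹) = 1 := by
    by_contra hne
    refine hjA ?_
    refine (SetLike.ext_iff.mp (Suzuki.ss_centralizer_eq hF hm hss (A.mul_mem hgA hg'A) hne).2 j).mp
      (Subgroup.mem_centralizer_singleton_iff.mpr ?_)
    calc j * (g * (j * g * j⁻¹)) = j * g * j⁻¹ * (j * j) * g * j⁻¹ := by group
      _ = j * g * j⁻¹ * g * j := by rw [hjj, mul_one, hjinv]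
      _ = g * (j * g * j⁻¹) * j := by rw [hcomm]
  obtain ⟨k₁, u₁, hu₁, e₁⟩ := hmem j hjj
  obtain ⟨k₂, u₂, hu₂, e₂⟩ := hmem (j * g) (by
    calc j * g * (j * g) = j * g * j⁻¹ * g := by rw [hjinv]; group
      _ = 1 := by rw [← hcomm, hrev])
  refine ⟨k₁, k₂, u₁, u₂, hu₁, hu₂, ?_⟩
  rw [← e₁, ← e₂, ← mul_assoc, hjj, one_mul]

/-- Standing hypotheses: G a finite group, S a Sylow p-subgroup, Q a nontrivial large p-subgroup of G contained in S, M a subgroup containing S with the basic property (M ∈ 𝔐_G(S)); Y_M the largest p-reduced normal subgroup of M and M† = M·C_G(Y_M). Let L ∈ 𝔏_G(Y_M) (L ∈ 𝔏_G(Y_M): Y_M ≤ L; O_p(L) is the normal closure in L of Y_M ∩ O_p(L) and normalizes Y_M; L is Y_M-minimal of characteristic p with N_L(Y_M) its unique maximal subgroup over Y_M; and L/O_p(L) ≅ SL₂(q) with q = |Y_M : Y_M ∩ O_p(L)|, or p = 2 and L/O_p(L) is a Suzuki group Sz(q) or dihedral of order 2r,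 r an odd prime), A = O_p(L), and C = C_{Y_M}(L). Then every element h of L whose order is not a power of p acts without nontrivial fixed points on A/C: for a ∈ A, hah⁻¹a⁻¹ ∈ C implies a ∈ C. -/
theorem result {G : Type*} [Group G] [Finite G] {p : ℕ} [Fact p.Prime] (S : Sylow p G) (Q : Subgroup G) (hQp : IsPGroup p ↥Q) (hQ1 : Q ≠ ⊥) (hQS : Q ≤ (S : Subgroup G)) (hQ : Cfsg.IsLarge Q) (M : Subgroup G) (hSM : (S : Subgroup G) ≤ M) (hM : Cfsg.IsInFrakM p M) (L : Subgroup G) (hL : Cfsg.IsInFrakL p M L) (h : G) (hh : h ∈ L) (hnp : ¬ ∃ k : ℕ, orderOf h = p ^ k) : ∀ a ∈ (Cfsg.pCoreOf p L), h * a * h⁻¹ * a⁻¹ ∈ (Cfsg.largestPReducedOf p M) ⊓ Subgroup.centralizer ((L : Subgroup G) : Set G) → a ∈ (Cfsg.largestPReducedOf p M) ⊓ Subgroup.centralizer ((L : Subgroup G) : Set G) := by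
  intro a ha hmem
  set Y := Cfsg.largestPReducedOf p M with hYdef
  set D := Cfsg.pCoreOf p L with hDdef
  obtain ⟨hYL, hAeq, hAN, hmin, hchar, ⟨hlt, huniq⟩, hform⟩ := hL
  have hel := PReducedOf.elem (p := p) M
  have hYp : IsPGroup p ↥Y := (PReducedOf.pCoreOf_isPGroup M).to_le (PReducedOf.le_pCoreOf M)
  have hDL : D ≤ L := Large.pCoreOf_le p L
  have hab : ∀ a ∈ Y, ∀ b ∈ Y, a * b = b * a := fun a ha b hb => PReduced.mem_comm hel ha hb
  obtain ⟨l₀, hl₀, hl₀N⟩ := SetLike.exists_of_lt hlt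
  have hYO : ¬ Y ≤ D := by
    intro h
    have h2 : (Y.subgroupOf L) ≤ Cfsg.pCore p ↥L := fun y hy => by
      obtain ⟨a, ha, e⟩ := h hy
      rwa [← L.subtype_injective e]
    have h3 := Subgroup.normalClosure_le_normal (N := Cfsg.pCore p ↥L) (SetLike.coe_subset_coe.mpr h2)
    rw [hmin.1, top_le_iff] at h3
    refine hl₀N ⟨hl₀, hAN ?_⟩
    show l₀ ∈ (Cfsg.pCore p ↥L).map L.subtype
    rw [h3]
    exact ⟨⟨l₀, hl₀⟩, Subgroup.mem_top _, rfl⟩
  have hmin' : ∀ L' : Subgroup G, L' ≤ L → Y ≤ L' → ¬ Y ≤ Cfsg.pCoreOf p L' → L' = L := by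
    intro L' h1 h2 h3
    refine h1.eq_or_lt.resolve_right fun h4 => h3 ?_
    exact Large.le_pCoreOf_of_normal le_rfl Subgroup.le_normalizer h2 ((huniq L' h2 h4).trans inf_le_right) hYp
  obtain ⟨L0, hL0, hYL0, -, hN0, hgen, -, -⟩ := LLemma.unique_max hYp hYL hYO hmin'
  have hgen' : ∀ l ∈ L, Y.map (MulAut.conj l).toMonoidHom ≠ Y → Y ⊔ Y.map (MulAut.conj l).toMonoidHom = L :=
    fun l hl hne => hgen l hl fun h => hne (Local.map_conj_eq_of_mem_normalizer ((huniq L0 hYL0 hL0 h).2))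
  set A := Cfsg.pCore p ↥L with hA
  have hDA : ∀ x : ↥L, (x : G) ∈ D ↔ x ∈ A := fun x => ⟨fun ⟨y, hy, e⟩ => L.subtype_injective e ▸ hy, fun h => ⟨x, h, rfl⟩⟩
  have S' : Setup p Y L D := {
    hab := hab
    hyp := fun y hy => hel.2 y hy
    hYL := hYL
    hDL := hDL
    hDN := hAN
    hLD := Large.le_normalizer_pCoreOf p L
    hDp := (isPGroup_pCore p).map _
    hself := fun k hk h => (hDA ⟨k, hk⟩).mpr (hchar (Subgroup.mem_centralizer_iff.mpr fun d hd =>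
      Subtype.ext (h _ ((hDA d).mpr hd)).symm))
    hmax := fun K hKL hKN hKp => Large.le_pCoreOf_of_normal le_rfl Subgroup.le_normalizer hKL hKN hKp
    hclo := fun K hKN hle => by
      haveI : (K.subgroupOf L).Normal := Subgroup.normal_subgroupOf_of_le_normalizer hKN
      have h1 := Subgroup.normalClosure_le_normal (N := K.subgroupOf L)
        (s := (((Y ⊓ D).subgroupOf L : Subgroup ↥L) : Set ↥L)) fun x hx => hle hx
      intro d hd
      rw [hDdef, hAeq] at hd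
      obtain ⟨x, hx, rfl⟩ := hd
      exact h1 hx
    hgen := hgen'
    hexi := ⟨l₀, hl₀, fun e => hl₀N ⟨hl₀, Local.mem_normalizer_of_map_conj_eq e⟩⟩
    hYD := SetLike.not_le_iff_exists.mp hYO }
  set π := QuotientGroup.mk' A
  set Yb := (Y.subgroupOf L).map π with hYb
  have helb : Cfsg.IsElementaryAbelian p Yb := by
    refine YMinimal.elem_map _ ⟨⟨⟨fun u v => Subtype.ext (Subtype.ext ?_)⟩⟩, fun x hx => Subtype.ext (hel.2 _ hx)⟩
    exact hab _ u.2 _ v.2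
  have hcardY : (Y ⊓ D).relIndex Y = Nat.card ↥Yb := by
    have h1 := Subgroup.relIndex_comap (H := Y ⊓ D) L.subtype (Y.subgroupOf L)
    rw [Subgroup.map_subgroupOf_eq_of_le hYL] at h1
    rw [← h1, hYb, ← Subgroup.relIndex_ker, QuotientGroup.ker_mk']
    have : (Y ⊓ D).comap L.subtype = Y.subgroupOf L ⊓ A := by
      rw [Subgroup.comap_inf]
      congr 1
      exact Subgroup.comap_map_eq_self_of_injective L.subtype_injective A
    rw [this, Subgroup.inf_relIndex_left]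
  have hYbne : Yb ≠ ⊥ := by
    rw [hYb, ne_eq, Subgroup.map_eq_bot_iff, QuotientGroup.ker_mk']
    intro h
    exact hYO fun y hy => (hDA ⟨y, hYL hy⟩).mpr (h hy)
  have hgenb : Yb ⊔ Yb.map (MulAut.conj (π ⟨l₀, hl₀⟩)).toMonoidHom = ⊤ := by
    have h2 : Y.subgroupOf L ⊔ (Y.subgroupOf L).map (MulAut.conj (⟨l₀, hl₀⟩ : ↥L)).toMonoidHom = ⊤ := by
      refine LLemma.ext_subgroupOf ?_
      rw [Subgroup.map_sup]
      conv_lhs => rw [← hgen' l₀ hl₀ (fun e => hl₀N ⟨hl₀, Local.mem_normalizer_of_map_conj_eq e⟩)]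
      refine sup_le_sup (fun y hy => ⟨⟨y, hYL hy⟩, hy, rfl⟩) ?_
      rintro _ ⟨y, hy, rfl⟩
      exact ⟨_, ⟨⟨y, hYL hy⟩, hy, rfl⟩, rfl⟩
    rw [← Subgroup.map_top_of_surjective π (QuotientGroup.mk'_surjective A), ← h2, Subgroup.map_sup, hYb, Subgroup.map_map,
      Subgroup.map_map]
    congr 1
  have hpow : ∃ k, Nat.card ↥Yb = p ^ k := IsPGroup.iff_card.mp (YMinimal.elem_isPGroup helb)
  have h1lt : 1 < Nat.card ↥Yb := (Subgroup.one_lt_card_iff_ne_bot _).mpr hYbne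
  have hgood : Good p Yb := by
    rcases hform with ⟨F, _, _, hF, ⟨e⟩⟩ | ⟨hp, F, _, _, m, hFm, hF, ⟨e⟩⟩ | ⟨hp, r, hr, hr2, ⟨e⟩⟩
    · rw [← hDdef, hcardY] at hF
      haveI : CharP F p := by
        obtain ⟨k, hk⟩ := hpow
        obtain ⟨n, hr, hc⟩ := FiniteField.card F (ringChar F)
        have h3 : ringChar F ∣ p ^ k := by rw [← hk, ← hF, hc]; exact dvd_pow_self _ n.ne_zero
        have : ringChar F = p := (Nat.prime_dvd_prime_iff_eq hr (Fact.out)).mp (hr.dvd_of_dvd_pow h3)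
        exact this ▸ ringChar.charP F
      refine good_equiv e (good_SL2 ((YMinimal.elem_isPGroup helb).map _) ?_)
      rw [Subgroup.card_map_of_injective (f := e.toMonoidHom) e.injective, hF]
    · rw [← hDdef, hcardY] at hF
      subst hp
      rcases Nat.eq_zero_or_pos m with hm | hm
      · exact good_two (by rw [← hF, hFm, hm]; rfl) hgenb
      let e' := e.trans (Suzuki.lieEquiv hFm hm).symm
      refine good_equiv e' (good_Sz hFm hm (YMinimal.elem_map _ helb) ?_)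
      rw [Subgroup.card_map_of_injective (f := e'.toMonoidHom) e'.injective, hF]
    · subst hp
      obtain ⟨k, hk⟩ := hpow
      have h3 : 2 ^ k ∣ 2 * r := by
        have := Subgroup.card_subgroup_dvd_card Yb
        rwa [hk, Nat.card_congr e.toEquiv, DihedralGroup.nat_card] at this
      rcases k with _ | _ | k
      · rw [hk] at h1lt; simp at h1lt
      · exact good_two hk hgenb
      · exfalso
        have h4 : 2 * 2 ∣ 2 * r := Dvd.dvd.trans ⟨2 ^ k, by ring⟩ h3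
        exact hr2 ((Nat.prime_dvd_prime_iff_eq Nat.prime_two hr).mp (Nat.dvd_of_mul_dvd_mul_left two_pos h4)).symm
  have hn0 : orderOf h ≠ 0 := (orderOf_pos _).ne'
  set q := p ^ (orderOf h).factorization p
  set h₀ := h ^ q
  have hcop : (orderOf h₀).Coprime p := by
    rw [show orderOf h₀ = orderOf h / q by
      rw [orderOf_pow' _ (pow_ne_zero _ (Fact.out : p.Prime).ne_zero), Nat.gcd_eq_right (Nat.ordProj_dvd _ _)]]
    exact (Nat.coprime_ordCompl (Fact.out : p.Prime) hn0).symm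
  have hh₀1 : h₀ ≠ 1 := fun e => hnp (by
    obtain ⟨j, -, hj⟩ := (Nat.dvd_prime_pow (Fact.out : p.Prime)).mp (orderOf_dvd_of_pow_eq_one e)
    exact ⟨j, hj⟩)
  have hh₀L : h₀ ∈ L := L.pow_mem hh q
  set l : ↥L := ⟨h₀, hh₀L⟩
  have hcopl : (orderOf (π l)).Coprime p :=
    Nat.Coprime.coprime_dvd_left (by rw [← Subgroup.orderOf_mk h₀ hh₀L]; exact orderOf_map_dvd π l) hcop
  have hl1 : π l ≠ 1 := fun e => by
    obtain ⟨j, hj⟩ := S'.hDp ⟨h₀, (hDA l).mpr ((QuotientGroup.eq_one_iff (N := A) l).mp e)⟩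
    exact hh₀1 (orderOf_eq_one_iff.mp (Nat.eq_one_of_dvd_coprimes (hcop.pow_right j) dvd_rfl
      (orderOf_dvd_of_pow_eq_one (congrArg Subtype.val hj))))
  have hst : h₀ ∈ St Y L a := Subgroup.pow_mem _ ((mem_st).mpr ⟨hh, hmem⟩) q
  have lift : ∀ (l' : ↥L) (b : G), b ∈ D → (l' : G) ∈ St Y L b → π l' ^ p ≠ 1 → IsProd Yb (π l') → b ∈ Zc Y L := by
    intro l' b hb hst' hp1 hprod
    obtain ⟨x₁, x₂, u₁, u₂, ⟨v₁, hv₁, rfl⟩, ⟨v₂, hv₂, rfl⟩, he⟩ := hprod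
    obtain ⟨y₁, rfl⟩ := QuotientGroup.mk'_surjective A x₁
    obtain ⟨y₂, rfl⟩ := QuotientGroup.mk'_surjective A x₂
    set w := y₁ * v₁ * y₁⁻¹ * (y₂ * v₂ * y₂⁻¹)
    have hδ : l'⁻¹ * w ∈ A := by
      refine (QuotientGroup.eq_one_iff (N := A) _).mp ?_
      show π (l'⁻¹ * w) = 1
      rw [map_mul, map_inv, show π w = π l' by rw [he]; simp [w, π], inv_mul_cancel]
    refine fix_prod S' y₁.2 y₂.2 hv₁ hv₂ ((hDA _).mpr hδ) ?_ ?_ hb hst'
    · show ((w : ↥L) : G) = (l' : G) * ((l'⁻¹ * w : ↥L) : G)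
      rw [← Subgroup.coe_mul, mul_inv_cancel_left]
    · intro h
      exact hp1 (by rw [← map_pow]; exact (QuotientGroup.eq_one_iff (N := A) _).mpr ((hDA (l' ^ p)).mp h))
  have hp1 : π l ^ p ≠ 1 := fun e => hl1 (orderOf_eq_one_iff.mp
    (Nat.eq_one_of_dvd_coprimes hcopl dvd_rfl (orderOf_dvd_of_pow_eq_one e)))
  suffices a ∈ Zc Y L from this
  rcases hgood (π l) hl1 hcopl with hprod | ⟨hcen, hprod⟩
  · exact lift l a ha hst hp1 hprod
  have step : ∀ b ∈ Y ⊓ D, h₀ ∈ St Y L b → b ∈ Zc Y L := by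
    intro b hb hstb
    obtain ⟨y, hy, hyD⟩ := S'.hYD
    set v : ↥L := ⟨y, hYL hy⟩
    have hv : π v ≠ 1 := fun e => hyD ((hDA v).mpr ((QuotientGroup.eq_one_iff (N := A) v).mp e))
    refine lift (l * v) b hb.2 (Subgroup.mul_mem _ hstb (mem_st_of_commute (hYL hy) (hab y hy b hb.1))) ?_ ?_
    · rw [map_mul, Commute.mul_pow (hcen (π v)), helb.2 (π v) ⟨v, hy, rfl⟩, mul_one]
      exact hp1
    · rw [map_mul]
      exact hprod _ ⟨v, hy, rfl⟩ hv
  have hfix : ∀ y ∈ Y, y ∈ St Y L a := by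
    intro y hy
    have hyL := hYL hy
    have hc : y * h₀ * y⁻¹ * h₀⁻¹ ∈ D := by
      refine (hDA (⟨y, hyL⟩ * l * ⟨y, hyL⟩⁻¹ * l⁻¹)).mpr ((QuotientGroup.eq_one_iff (N := A) _).mp ?_)
      show π _ = 1
      rw [map_mul, map_mul, map_mul, ← hcen (π ⟨y, hyL⟩), map_inv, map_inv, mul_inv_cancel_right, mul_inv_cancel]
    have hya : y * a * y⁻¹ ∈ D := Large.conj_mem S'.hLD hyL ha
    have h1 : h₀ ∈ St Y L (y * a * y⁻¹) := by
      have := Subgroup.mul_mem _ (Subgroup.inv_mem _ (le_st S' hya hc)) (st_conj hyL hst)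
      simpa [mul_assoc] using this
    have h2 := step (y * a * y⁻¹ * a⁻¹) ?_ (st_mul (hDL hya) h1 (st_inv (hDL ha) hst))
    · exact ⟨hyL, h2⟩
    · have := comm_mem S' L.one_mem (y := y) (d := a) (by rw [map_conj_one]; exact hy) ha
      rwa [map_conj_one] at this
  obtain ⟨y, hy, hyD⟩ := S'.hYD
  exact step a (fix_base S' hy hyD ha (hfix y hy)) hst

end Cfsg.Agent.S2863
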