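import Cfsg.Statements.S2864
import Mathlib
import Cfsg.Agent.Lib.FrakMFacts
import Cfsg.Agent.Lib.CoprimeGen
import Cfsg.Agent.Lib.Elementary

set_option autoImplicit false
set_option linter.unusedVariables false
open Cfsg
open scoped commutatorElement

namespace Cfsg.Agent.S2864

/-- Standing hypotheses: G a finite group, S a Sylow p-subgroup, Q a nontrivial large p-subgroup of G contained in S, M a subgroup containing S with the basic property (M ∈ 𝔐_G(S)); Y_M the largest p-reduced normal subgroup of M and M† = M·C_G(Y_M). Let I be a nontrivial normal p-subgroup of M and Y ≤ O_p(M†); let L be a subgroup of G containing Y and A a normal p-subgroup of L with I ≤ A ≤ M. If [Y, A] ≤ [I, A], then Y ≤ O_p(L). -/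
theorem result {G : Type*} [Group G] [Finite G] {p : ℕ} [Fact p.Prime] (S : Sylow p G) (Q : Subgroup G) (hQp : IsPGroup p ↥Q) (hQ1 : Q ≠ ⊥) (hQS : Q ≤ (S : Subgroup G)) (hQ : Cfsg.IsLarge Q) (M : Subgroup G) (hSM : (S : Subgroup G) ≤ M) (hM : Cfsg.IsInFrakM p M) (I : Subgroup G) (hI1 : I ≠ ⊥) (hIp : IsPGroup p ↥I) (hIM : I ≤ M ∧ M ≤ Subgroup.normalizer ((I : Subgroup G) : Set G)) (Y : Subgroup G) (hY : Y ≤ (Cfsg.pCoreOf p (M ⊔ Subgroup.centralizer (((Cfsg.largestPReducedOf p M) : Subgroup G) : Set G)))) (L : Subgroup G) (hYL : Y ≤ L) (A : Subgroup G) (hAp : IsPGroup p ↥A) (hAL : A ≤ L ∧ L ≤ Subgroup.normalizer ((A : Subgroup G) : Set G)) (hIA : I ≤ A) (hAM : A ≤ M) (hc : ⁅Y, A⁆ ≤ ⁅I, A⁆) : Y ≤ (Cfsg.pCoreOf p L) := by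
  open CfsgLib in
    have hpc := Large.parabolicCharacteristic_of_large hQp hQ
    set D := M ⊔ Subgroup.centralizer (Cfsg.largestPReducedOf p M : Set G)
    have hCA : Subgroup.centralizer (A : Set G) ≤ D := ((Subgroup.centralizer_le (SetLike.coe_subset_coe.mpr hIA)).trans
      (Large.centralizer_le_normalizer I)).trans (FrakM.normalizer_le_dag hpc hSM hM hIp hI1 hIM.2)
    set W := (frattini ↥A).map A.subtype with hW
    obtain ⟨hLW, -⟩ := le_normalizer_map_characteristic hAL.2 (frattini ↥A)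
    set K := Large.stab L A W hAL.2 hLW
    set C := L ⊓ Subgroup.centralizer (A : Set G)
    set OL := Cfsg.pCoreOf p L
    have hLC : L ≤ Subgroup.normalizer (C : Set G) := Large.le_normalizer_of fun l hl c hc =>
      ⟨L.mul_mem (L.mul_mem hl hc.1) (L.inv_mem hl),
        Large.conj_mem (hAL.2.trans (CharP.normalizer_le_normalizer_centralizer A)) hl hc.2⟩
    have hLO : L ≤ Subgroup.normalizer (OL : Set G) := Large.le_normalizer_pCoreOf p L
    set N := K ⊓ Large.stab L C OL hLC hLO with hN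
    have hNL : N ≤ L := fun x hx => hx.1.1
    have hLN : L ≤ Subgroup.normalizer (N : Set G) := Large.le_normalizer_of fun l hl x hx =>
      ⟨Large.stab_conj hAL.2 hLW hl hx.1, Large.stab_conj hLC hLO hl hx.2⟩
    have hYA : ⁅Y, A⁆ ≤ W := by
      refine hc.trans (Subgroup.commutator_le.mpr fun i hi a ha => ?_)
      exact ⟨⁅(⟨i, hIA hi⟩ : ↥A), ⟨a, ha⟩⁆, CfsgLib.commutator_le_frattini_pGroup hAp
        (Subgroup.commutator_mem_commutator (Subgroup.mem_top _) (Subgroup.mem_top _)), rfl⟩
    set OD := Cfsg.pCoreOf p D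
    have hDO : D ≤ Subgroup.normalizer (OD : Set G) := Large.le_normalizer_pCoreOf p D
    have hODC : OD ⊓ C ≤ OL := by
      refine Large.le_pCoreOf_of_normal (K := C) inf_le_left hLC inf_le_right ?_
        (((isPGroup_pCore (G := ↥D) p).map D.subtype).to_le inf_le_left)
      exact Large.le_normalizer_of fun c hc x hx => ⟨Large.conj_mem hDO (hCA hc.2) hx.1,
        C.mul_mem (C.mul_mem hc hx.2) (C.inv_mem hc)⟩
    have hYN : Y ≤ N := fun y hy => ⟨⟨hYL hy, fun a ha => by
        rw [← commutatorElement_def]; exact hYA (Subgroup.commutator_mem_commutator hy ha)⟩,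
      ⟨hYL hy, fun c hc' => hODC ⟨?_, C.mul_mem (Large.conj_mem hLC (hYL hy) hc') (C.inv_mem hc')⟩⟩⟩
    · have hCN : C.subgroupOf N = C.subgroupOf N := rfl
      haveI : (C.subgroupOf N).Normal := Subgroup.normal_subgroupOf_of_le_normalizer (hNL.trans hLC)
      haveI : (OL.subgroupOf N).Normal := Subgroup.normal_subgroupOf_of_le_normalizer (hNL.trans hLO)
      have hclosed : Cfsg.IsPClosed p ↥N := by
        refine FrakM.pClosed_of_central (C.subgroupOf N) (OL.subgroupOf N)
          (((isPGroup_pCore (G := ↥L) p).map L.subtype).comap_of_injective N.subtype N.subtype_injective) (fun n => ?_) ?_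
        · obtain ⟨k, m, hm, hkm⟩ := Nat.exists_eq_pow_mul_and_not_dvd (orderOf_pos (n : G)).ne' p (Fact.out : p.Prime).ne_one
          refine ⟨k, L.pow_mem (hNL n.2) _, ?_⟩
          set a := (n : G) ^ p ^ k
          have ha : a ∈ K := K.pow_mem n.2.1 _
          have hAz : Subgroup.zpowers a ≤ Subgroup.centralizer (A : Set G) := by
            refine centralize_of_trivial_mod_frattini (Subgroup.zpowers_le.mpr (hAL.2 ha.1)) ?_ fun b hb =>
              ((Subgroup.zpowers_le.mpr ha : Subgroup.zpowers a ≤ K) hb).2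
            obtain ⟨j, hj⟩ := IsPGroup.iff_card.mp (hAp.to_subgroup (frattini ↥A))
            have hp0 : 0 < p ^ k := pow_pos (Fact.out : p.Prime).pos k
            rw [Nat.card_zpowers, hj, orderOf_pow' _ hp0.ne', hkm, Nat.gcd_mul_right_left,
              Nat.mul_div_cancel_left _ hp0]
            exact ((Fact.out : p.Prime).coprime_iff_not_dvd.mpr hm).symm.pow_right j
          exact hAz (Subgroup.mem_zpowers a)
        · intro z hz n
          have h := OL.inv_mem (n.2.2.2 (z : G) hz)
          show ((z * n * z⁻¹ * n⁻¹ : ↥N) : G) ∈ OL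
          simpa [mul_assoc] using h
      have hYp : IsPGroup p ↥Y := ((isPGroup_pCore (G := ↥D) p).map D.subtype).to_le hY
      obtain ⟨P, hP⟩ := (hYp.comap_of_injective N.subtype N.subtype_injective).exists_le_sylow
      refine le_trans (b := (P : Subgroup ↥N).map N.subtype) (fun y hy => ⟨⟨y, hYN hy⟩, hP hy, rfl⟩)
        (Large.le_pCoreOf_of_normal hNL hLN (Subgroup.map_subtype_le (P : Subgroup ↥N)) ?_ (P.2.map _))
      refine Large.le_normalizer_of fun k hk x hx => ?_
      obtain ⟨w, hw, rfl⟩ := hx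
      exact ⟨⟨k, hk⟩ * w * ⟨k, hk⟩⁻¹, (hclosed P).conj_mem w hw _, rfl⟩
    · rw [show y * c * y⁻¹ * c⁻¹ = y * (c * y⁻¹ * c⁻¹) by group]
      exact OD.mul_mem (hY hy) (Large.conj_mem hDO (hCA hc'.2) (OD.inv_mem (hY hy)))

end Cfsg.Agent.S2864
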