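import Cfsg.Statements.S2873
import Mathlib
import Cfsg.Agent.Lib.Elementary
import Cfsg.Agent.Lib.Basic

set_option autoImplicit false
set_option linter.unusedVariables false
open Cfsg
open scoped commutatorElement

namespace Cfsg.Agent.S2873

open scoped commutatorElement

theorem fixed_coset {G : Type*} [Group G] [Finite G] {r : ℕ} [Fact r.Prime] (D : Subgroup G) [D.Normal]
    (hD : ¬ r ∣ Nat.card D) (x n : G) (hx : x ^ r = 1) (h : x * n * x⁻¹ * n⁻¹ ∈ D) :
    ∃ d ∈ D, x * (d * n) * x⁻¹ = d * n := by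
  classical
  let f : ↥D ≃ ↥D :=
    { toFun := fun d => ⟨x * d * x⁻¹ * (x * n * x⁻¹ * n⁻¹), D.mul_mem (Subgroup.Normal.conj_mem inferInstance _ d.2 x) h⟩
      invFun := fun d => ⟨x⁻¹ * ((d : G) * (x * n * x⁻¹ * n⁻¹)⁻¹) * x, by
        simpa using Subgroup.Normal.conj_mem (inferInstance : D.Normal) _ (D.mul_mem d.2 (D.inv_mem h)) x⁻¹⟩
      left_inv := fun d => Subtype.ext (by simp only; group)
      right_inv := fun d => Subtype.ext (by simp only; group) }
  have hk : ∀ (k : ℕ) (d : ↥D), ((f ^ k) d : G) * n = x ^ k * (d * n) * (x ^ k)⁻¹ := by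
    intro k
    induction k with
    | zero => intro d; simp
    | succ k ih =>
      intro d
      rw [pow_succ', Equiv.Perm.mul_apply]
      show x * ((f ^ k) d : G) * x⁻¹ * (x * n * x⁻¹ * n⁻¹) * n = _
      calc x * ((f ^ k) d : G) * x⁻¹ * (x * n * x⁻¹ * n⁻¹) * n = x * (((f ^ k) d : G) * n) * x⁻¹ := by group
        _ = x * (x ^ k * (d * n) * (x ^ k)⁻¹) * x⁻¹ := by rw [ih]
        _ = x ^ (k + 1) * (d * n) * (x ^ (k + 1))⁻¹ := by rw [pow_succ']; group
  have hf : f ^ (r ^ 1) = 1 := Equiv.ext fun d => Subtype.ext (mul_right_cancel (b := n) (by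
    rw [pow_one, hk, hx]; simp))
  haveI : Fintype ↥D := Fintype.ofFinite _
  obtain ⟨d, hd⟩ := Equiv.Perm.exists_fixed_point_of_prime (p := r) (n := 1) (by rwa [← Nat.card_eq_fintype_card]) hf
  refine ⟨d, d.2, ?_⟩
  have := hk 1 d
  rw [pow_one, pow_one, hd] at this
  exact this.symm

theorem card_eq_map_mul {G G' : Type*} [Group G] [Group G'] [Finite G] (π : G →* G') (C : Subgroup G) :
    Nat.card C = Nat.card ↥(C.map π) * Nat.card ↥(C ⊓ π.ker) := by
  have h1 := Subgroup.card_eq_card_quotient_mul_card_subgroup (π.comp C.subtype).ker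
  rw [Nat.card_congr (QuotientGroup.quotientKerEquivRange (π.comp C.subtype)).toEquiv, MonoidHom.range_comp,
    Subgroup.range_subtype] at h1
  rw [h1]
  congr 1
  exact Nat.card_congr
    { toFun := fun c => ⟨c.1.1, c.1.2, c.2⟩
      invFun := fun c => ⟨⟨c.1, c.2.1⟩, c.2.2⟩
      left_inv := fun c => rfl
      right_inv := fun c => rfl }

theorem main {G : Type*} [Group G] [Finite G] {r : ℕ} [Fact r.Prime] (hr : r ≠ 2) (a x y : G) (ha : a * a = 1)
    (hx : x ^ r = 1) (hy : y⁻¹ * a * y = a * x) (N : Subgroup G) [N.Normal] (hN : IsPGroup 2 ↥N)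
    (hC : ∀ n ∈ N, x * n * x⁻¹ = n → n = 1) :
    Nat.card ↥(N ⊓ Subgroup.centralizer ({a} : Set G)) ^ 2 = Nat.card N ∧
      ∀ n ∈ N, (a * n) * (a * n) = 1 → ∃ m ∈ N, m * a * m⁻¹ = a * n := by
  haveI : Fact (Nat.Prime 2) := ⟨Nat.prime_two⟩
  revert hN hC
  revert ‹N.Normal›
  induction hn : Nat.card N using Nat.strong_induction_on generalizing N with
  | h k ih =>
    intro hNn hN hC
    subst hn
    rcases eq_or_ne N ⊥ with rfl | hN0
    · refine ⟨by simp, fun n hn _ => ⟨1, Subgroup.one_mem _, ?_⟩⟩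
      rw [Subgroup.mem_bot.mp hn]; group
    set D := (frattini ↥N).map N.subtype with hD
    have hDN : D ≤ N := Subgroup.map_subtype_le _
    haveI : Nontrivial ↥N := (Subgroup.nontrivial_iff_ne_bot N).mpr hN0
    have hfr : frattini ↥N ≠ ⊤ := by
      obtain ⟨M, hM, -⟩ := (eq_top_or_exists_le_coatom (⊥ : Subgroup ↥N)).resolve_left bot_ne_top
      exact fun e => hM.1 (top_le_iff.mp (e ▸ frattini_le_coatom hM))
    haveI : D.Normal := inferInstance
    have hlt : Nat.card D < Nat.card N := by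
      rw [hD, Subgroup.card_map_of_injective N.subtype_injective]
      exact lt_of_le_of_ne (Subgroup.card_le_card_group _) fun e => hfr (Subgroup.eq_top_of_card_eq _ e)
    obtain ⟨ihc, ihconj⟩ := ih _ hlt D rfl (hN.to_le hDN) fun n hn => hC n (hDN hn)
    set π := QuotientGroup.mk' D with hπ
    set V := N.map π with hV
    have hel : ∀ v ∈ V, v * v = 1 ∧ ∀ w ∈ V, v * w = w * v := by
      rintro _ ⟨n, hn, rfl⟩
      refine ⟨?_, ?_⟩
      · rw [← map_mul, QuotientGroup.mk'_apply, QuotientGroup.eq_one_iff]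
        refine ⟨⟨n, hn⟩ * ⟨n, hn⟩, ?_, rfl⟩
        rw [← pow_two]
        exact CfsgLib.pow_mem_frattini_pGroup hN _
      · rintro _ ⟨m, hm, rfl⟩
        rw [← map_mul, ← map_mul, QuotientGroup.mk'_eq_mk']
        refine ⟨(n * m)⁻¹ * (m * n), ⟨(⟨n, hn⟩ * ⟨m, hm⟩)⁻¹ * (⟨m, hm⟩ * ⟨n, hn⟩), ?_, rfl⟩, by group⟩
        rw [show (⟨n, hn⟩ * ⟨m, hm⟩ : ↥N)⁻¹ * (⟨m, hm⟩ * ⟨n, hn⟩) = ⁅(⟨m, hm⟩ : ↥N)⁻¹ * 1, (⟨n, hn⟩ : ↥N)⁻¹ * 1⁆⁻¹⁻¹ by
          rw [commutatorElement_def]; group]
        exact (frattini ↥N).inv_mem ((frattini ↥N).inv_mem (CfsgLib.commutator_le_frattini_pGroup hN (Subgroup.commutator_mem_commutator (Subgroup.mem_top _) (Subgroup.mem_top _))))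
    set a' := π a with ha'
    have ha'2 : a' * a' = 1 := by rw [ha', ← map_mul, ha, map_one]
    have hVn : ∀ v ∈ V, ∀ g, g * v * g⁻¹ ∈ V := fun v hv g =>
      (Subgroup.Normal.map (inferInstance : N.Normal) π (QuotientGroup.mk'_surjective D)).conj_mem v hv g
    let f : ↥V →* ↥V :=
      { toFun := fun v => ⟨(v : G ⧸ D) * (a' * v * a'⁻¹), V.mul_mem v.2 (hVn _ v.2 _)⟩
        map_one' := Subtype.ext (by simp)
        map_mul' := fun v w => Subtype.ext (by
          show (v : G ⧸ D) * w * (a' * (v * w) * a'⁻¹) = v * (a' * v * a'⁻¹) * (w * (a' * w * a'⁻¹))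
          have h1 := (hel _ w.2).2 (a' * v * a'⁻¹) (hVn _ v.2 _)
          calc (v : G ⧸ D) * w * (a' * (v * w) * a'⁻¹) = v * (w * (a' * v * a'⁻¹)) * (a' * w * a'⁻¹) := by group
            _ = v * ((a' * v * a'⁻¹) * w) * (a' * w * a'⁻¹) := by rw [h1]
            _ = _ := by group) }
    set K := V ⊓ Subgroup.centralizer ({a'} : Set (G ⧸ D)) with hK
    have hfker : ∀ v : ↥V, v ∈ f.ker ↔ (v : G ⧸ D) ∈ K := by
      intro v
      rw [MonoidHom.mem_ker, hK, Subgroup.mem_inf, Subgroup.mem_centralizer_singleton_iff]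
      constructor
      · intro h
        have h' : (v : G ⧸ D) * (a' * v * a'⁻¹) = 1 := congrArg Subtype.val h
        refine ⟨v.2, ?_⟩
        have h1 : a' * (v : G ⧸ D) * a'⁻¹ = v := by
          rw [← inv_eq_of_mul_eq_one_right h', inv_eq_of_mul_eq_one_right (hel _ v.2).1]
        calc (v : G ⧸ D) * a' = (a' * v * a'⁻¹) * a' := by rw [h1]
          _ = a' * v := by group
      · intro h
        refine Subtype.ext ?_
        show (v : G ⧸ D) * (a' * v * a'⁻¹) = 1
        rw [← h.2, mul_inv_cancel_right]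
        exact (hel _ v.2).1
    have hrange : ∀ v : ↥V, v ∈ f.range → v ∈ f.ker := by
      rintro _ ⟨v, rfl⟩
      refine MonoidHom.mem_ker.mpr (Subtype.ext ?_)
      show (v : G ⧸ D) * (a' * v * a'⁻¹) * (a' * ((v : G ⧸ D) * (a' * v * a'⁻¹)) * a'⁻¹) = 1
      have hi : a'⁻¹ = a' := inv_eq_of_mul_eq_one_right ha'2
      have hw := hVn _ v.2 a'
      calc (v : G ⧸ D) * (a' * v * a'⁻¹) * (a' * ((v : G ⧸ D) * (a' * v * a'⁻¹)) * a'⁻¹)
          = v * (a' * v * a'⁻¹) * ((a' * v * a'⁻¹) * (a' * a' * v * (a' * a')⁻¹)) := by group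
        _ = v * ((a' * v * a'⁻¹) * (a' * v * a'⁻¹)) * v := by rw [ha'2]; group
        _ = 1 := by rw [(hel _ hw).1, mul_one, (hel _ v.2).1]
    have hcard1 : Nat.card V = Nat.card f.range * Nat.card f.ker := by
      rw [Subgroup.card_eq_card_quotient_mul_card_subgroup f.ker,
        Nat.card_congr (QuotientGroup.quotientKerEquivRange f).toEquiv]
    have hkK : Nat.card f.ker = Nat.card K := Nat.card_congr
      { toFun := fun v => ⟨v.1.1, (hfker v.1).mp v.2⟩
        invFun := fun v => ⟨⟨v.1, v.2.1⟩, (hfker ⟨v.1, v.2.1⟩).mpr v.2⟩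
        left_inv := fun v => rfl
        right_inv := fun v => rfl }
    have hfix : ∀ v ∈ V, π x * v * (π x)⁻¹ = v → v = 1 := by
      rintro _ ⟨n, hn, rfl⟩ h
      rw [← map_inv, ← map_mul, ← map_mul] at h
      obtain ⟨z, hz, e⟩ := (QuotientGroup.mk'_eq_mk' D).mp h
      have hc : x * n * x⁻¹ * n⁻¹ ∈ D := by
        have : x * n * x⁻¹ * n⁻¹ = n * z⁻¹ * n⁻¹ := by rw [← eq_mul_inv_iff_mul_eq] at e; rw [e]
        exact this ▸ Subgroup.Normal.conj_mem inferInstance _ (D.inv_mem hz) n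
      obtain ⟨j, hj⟩ := IsPGroup.iff_card.mp (hN.to_le hDN : IsPGroup 2 ↥D)
      obtain ⟨d, hd, e'⟩ := fixed_coset D (by
        rw [hj]
        exact fun h => hr ((Nat.prime_dvd_prime_iff_eq (Fact.out : r.Prime) Nat.prime_two).mp ((Fact.out : r.Prime).dvd_of_dvd_pow h)))
        x n hx hc
      have := hC _ (N.mul_mem (hDN hd) hn) e'
      rw [QuotientGroup.mk'_apply, QuotientGroup.eq_one_iff, ← inv_eq_of_mul_eq_one_right this]
      exact D.inv_mem hd
    have hK2 : Nat.card K ^ 2 ≤ Nat.card V := by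
      let g : ↥K × ↥K → ↥V := fun w => ⟨(w.1 : G ⧸ D) * ((π y)⁻¹ * w.2 * π y),
        V.mul_mem w.1.2.1 (by simpa using hVn _ w.2.2.1 (π y)⁻¹)⟩
      have hg : Function.Injective g := by
        rintro ⟨u, v⟩ ⟨u', v'⟩ e
        have e' : (u : G ⧸ D) * ((π y)⁻¹ * v * π y) = u' * ((π y)⁻¹ * v' * π y) := congrArg Subtype.val e
        set w := (u' : G ⧸ D)⁻¹ * u with hw
        have hwK : w ∈ K := K.mul_mem (K.inv_mem u'.2) u.2
        have hw2 : w = (π y)⁻¹ * ((v' : G ⧸ D) * (v : G ⧸ D)⁻¹) * π y := by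
          calc w = (u' : G ⧸ D)⁻¹ * ((u : G ⧸ D) * ((π y)⁻¹ * v * π y)) * ((π y)⁻¹ * v * π y)⁻¹ := by rw [hw]; group
            _ = _ := by rw [e']; group
        have h1 : a' * w = w * a' := ((Subgroup.mem_centralizer_singleton_iff.mp hwK.2)).symm
        have hz : ((v' : G ⧸ D) * (v : G ⧸ D)⁻¹) * a' = a' * ((v' : G ⧸ D) * (v : G ⧸ D)⁻¹) :=
          Subgroup.mem_centralizer_singleton_iff.mp (K.mul_mem v'.2 (K.inv_mem v.2)).2
        have hy' : (π y)⁻¹ * a' * π y = a' * π x := by rw [ha', ← map_inv, ← map_mul, ← map_mul, hy, map_mul]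
        have h2 : (a' * π x) * w = w * (a' * π x) := by
          rw [← hy', hw2]
          calc (π y)⁻¹ * a' * π y * ((π y)⁻¹ * ((v' : G ⧸ D) * (v : G ⧸ D)⁻¹) * π y)
              = (π y)⁻¹ * (a' * ((v' : G ⧸ D) * (v : G ⧸ D)⁻¹)) * π y := by group
            _ = (π y)⁻¹ * (((v' : G ⧸ D) * (v : G ⧸ D)⁻¹) * a') * π y := by rw [hz]
            _ = _ := by group
        have h3 : π x * w * (π x)⁻¹ = w := by
          have : a' * (π x * w) = a' * (w * π x) := by
            rw [← mul_assoc, h2, ← mul_assoc, ← mul_assoc, h1]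
          rw [mul_left_cancel this, mul_inv_cancel_right]
        have hw1 := hfix w hwK.1 h3
        have hu : u = u' := Subtype.ext (inv_mul_eq_one.mp (hw ▸ hw1 : (u' : G ⧸ D)⁻¹ * u = 1)).symm
        subst hu
        exact Prod.ext rfl (Subtype.ext (mul_left_cancel (mul_right_cancel (mul_left_cancel e'))))
      calc Nat.card K ^ 2 = Nat.card (↥K × ↥K) := by rw [Nat.card_prod, pow_two]
        _ ≤ Nat.card V := Nat.card_le_card_of_injective g hg
    have hrk : Nat.card f.range ≤ Nat.card f.ker := Subgroup.card_le_of_le hrange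
    have heq : f.range = f.ker := by
      refine Subgroup.eq_of_le_of_card_ge hrange ?_
      by_contra h
      push Not at h
      have : Nat.card V < Nat.card K ^ 2 := by
        rw [hcard1, pow_two, ← hkK]
        exact Nat.mul_lt_mul_of_pos_right h Nat.card_pos
      omega
    have hVK : Nat.card V = Nat.card K ^ 2 := by rw [hcard1, heq, hkK, pow_two]
    have hlift : ∀ n ∈ N, π n ∈ K → ∃ d ∈ D, n * d ∈ N ⊓ Subgroup.centralizer ({a} : Set G) := by
      intro n hn hnK
      have h1 := Subgroup.mem_centralizer_singleton_iff.mp hnK.2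
      rw [ha', ← map_mul, ← map_mul] at h1
      obtain ⟨z, hz, e⟩ := (QuotientGroup.mk'_eq_mk' D).mp h1
      have hd0 : a * (n⁻¹ * a * n) ∈ D := by
        have hai : a⁻¹ = a := inv_eq_of_mul_eq_one_right ha
        have : a * (n⁻¹ * a * n) = a * (n⁻¹ * ((n * a) * z)) := by rw [e]; group
        rw [this, show a * (n⁻¹ * (n * a * z)) = a * a * z by group, ha, one_mul]
        exact hz
      have e' : a * (a * (n⁻¹ * a * n)) = n⁻¹ * a * n := by rw [← mul_assoc, ha, one_mul]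
      obtain ⟨m, hm, hm'⟩ := ihconj _ hd0 (by
        rw [e', show n⁻¹ * a * n * (n⁻¹ * a * n) = n⁻¹ * (a * a) * n by group, ha]; group)
      rw [e'] at hm'
      refine ⟨m, hm, N.mul_mem hn (hDN hm), Subgroup.mem_centralizer_singleton_iff.mpr ?_⟩
      calc n * m * a = n * (m * a * m⁻¹) * m := by group
        _ = n * (n⁻¹ * a * n) * m := by rw [hm']
        _ = a * (n * m) := by group
    refine ⟨?_, ?_⟩
    · set C := N ⊓ Subgroup.centralizer ({a} : Set G) with hCdef
      have h1 : C.map π = K := by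
        refine le_antisymm ?_ ?_
        · rintro _ ⟨n, hn, rfl⟩
          exact ⟨⟨n, hn.1, rfl⟩, Subgroup.mem_centralizer_singleton_iff.mpr (by
            rw [ha', ← map_mul, ← map_mul, Subgroup.mem_centralizer_singleton_iff.mp hn.2])⟩
        · rintro v hv
          obtain ⟨n, hn, rfl⟩ := hv.1
          obtain ⟨d, hd, hnd⟩ := hlift n hn hv
          exact ⟨n * d, hnd, by rw [map_mul, show π d = 1 from (QuotientGroup.eq_one_iff d).mpr hd, mul_one]⟩
      have h2 : C ⊓ π.ker = D ⊓ Subgroup.centralizer ({a} : Set G) := by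
        rw [hπ, QuotientGroup.ker_mk']
        exact le_antisymm (fun n hn => ⟨hn.2, hn.1.2⟩) fun n hn => ⟨⟨hDN hn.1, hn.2⟩, hn.1⟩
      have h3 := card_eq_map_mul π N
      rw [show N ⊓ π.ker = D by rw [hπ, QuotientGroup.ker_mk']; exact inf_eq_right.mpr hDN, ← hV, hVK, ← ihc] at h3
      rw [card_eq_map_mul π C, h1, h2, h3, mul_pow]
    · intro n hn hinv
      have hnK : π n ∈ K := by
        refine ⟨⟨n, hn, rfl⟩, Subgroup.mem_centralizer_singleton_iff.mpr ?_⟩
        have h1 : a' * π n * (a' * π n) = 1 := by rw [ha', ← map_mul, ← map_mul, hinv, map_one]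
        calc π n * a' = (a' * a') * (π n * a') * (π n * π n) := by rw [ha'2, (hel _ ⟨n, hn, rfl⟩).1, one_mul, mul_one]
          _ = a' * (a' * π n * (a' * π n)) * π n := by group
          _ = a' * π n := by rw [h1, mul_one]
      obtain ⟨v, hv⟩ : (⟨π n, hnK.1⟩ : ↥V) ∈ f.range := heq ▸ (hfker _).mpr hnK
      obtain ⟨m, hm, hmv⟩ := v.2
      have hv' : π m * (a' * π m * a'⁻¹) = π n := by
        rw [hmv]; exact congrArg Subtype.val hv
      have hd : a * (m⁻¹ * (a * n) * m) ∈ D := by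
        rw [← QuotientGroup.eq_one_iff, ← QuotientGroup.mk'_apply, ← hπ, map_mul, map_mul, map_mul, map_mul, map_inv, ← ha',
          ← hv']
        have hmV : π m ∈ V := ⟨m, hm, rfl⟩
        have hi : a'⁻¹ = a' := inv_eq_of_mul_eq_one_right ha'2
        have hw := hVn _ hmV a'
        have hcomm := (hel _ hw).2 _ hmV
        calc a' * ((π m)⁻¹ * (a' * (π m * (a' * π m * a'⁻¹))) * π m)
            = (a' * (π m)⁻¹ * a') * (π m * (a' * π m * a'⁻¹)) * π m := by group
          _ = (a' * (π m)⁻¹ * a') * ((a' * π m * a'⁻¹) * π m) * π m := by rw [hcomm]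
          _ = (a' * (π m)⁻¹ * (a' * a') * π m * a'⁻¹) * (π m * π m) := by group
          _ = 1 := by rw [ha'2, (hel _ hmV).1]; group
      obtain ⟨d, hd', e⟩ := ihconj _ hd (by
        rw [← mul_assoc a a, ha, one_mul,
          show m⁻¹ * (a * n) * m * (m⁻¹ * (a * n) * m) = m⁻¹ * (a * n * (a * n)) * m by group, hinv]
        group)
      rw [← mul_assoc a a, ha, one_mul] at e
      exact ⟨m * d, N.mul_mem hm (hDN hd'), by
        calc m * d * a * (m * d)⁻¹ = m * (d * a * d⁻¹) * m⁻¹ := by group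
          _ = m * (m⁻¹ * (a * n) * m) * m⁻¹ := by rw [e]
          _ = a * n := by group⟩

/-- Let G be a finite group and r an odd prime such that G ⧸ O₂(G) is dihedral of order 2r, and let R be a Sylow r-subgroup of G with C_{O₂(G)}(R) = 1. Then N_G(R) is dihedral of order 2r; for any involution a of N_G(R), every involution of G outside O₂(G) is conjugate to a; and |C_{O₂(G)}(a)|² = |O₂(G)|. -/
theorem result {G : Type*} [Group G] [Finite G] {r : ℕ} [Fact r.Prime] (hr : r ≠ 2) [hN : (Cfsg.pCore 2 G).Normal] (hquot : Nonempty (G ⧸ Cfsg.pCore 2 G ≃* DihedralGroup r)) (R : Sylow r G) (hC : Cfsg.pCore 2 G ⊓ Subgroup.centralizer ((R : Subgroup G) : Set G) = ⊥) : Nonempty (↥(Subgroup.normalizer ((R : Subgroup G) : Set G)) ≃* DihedralGroup r) ∧ ∀ a : G, a ∈ Subgroup.normalizer ((R : Subgroup G) : Set G) → orderOf a = 2 → (∀ b : G, orderOf b = 2 → b ∉ Cfsg.pCore 2 G → ∃ g : G, g * a * g⁻¹ = b) ∧ Nat.card ↥(Cfsg.pCore 2 G ⊓ Subgroup.centralizer ({a}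 : Set G)) ^ 2 = Nat.card ↥(Cfsg.pCore 2 G) := by
  classical
  obtain ⟨e⟩ := hquot
  haveI : Fact (Nat.Prime 2) := ⟨Nat.prime_two⟩
  haveI : NeZero r := ⟨(Fact.out : r.Prime).ne_zero⟩
  set Q := Cfsg.pCore 2 G with hQdef
  have hQ : IsPGroup 2 ↥Q := CfsgLib.isPGroup_pCore 2
  set f := e.toMonoidHom.comp (QuotientGroup.mk' Q) with hf
  have hfs : Function.Surjective f := e.surjective.comp (QuotientGroup.mk'_surjective Q)
  have hfk : f.ker = Q := by
    ext g
    rw [MonoidHom.mem_ker, hf, MonoidHom.comp_apply, MulEquiv.coe_toMonoidHom, MulEquiv.map_eq_one_iff,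
      QuotientGroup.mk'_apply, QuotientGroup.eq_one_iff]
  have hQR : Q ⊓ (R : Subgroup G) = ⊥ := by
    obtain ⟨i, hi⟩ := IsPGroup.iff_card.mp (hQ.to_le (inf_le_left : Q ⊓ (R : Subgroup G) ≤ Q))
    obtain ⟨j, hj⟩ := IsPGroup.iff_card.mp (R.2.to_le (inf_le_right : Q ⊓ (R : Subgroup G) ≤ R))
    refine Subgroup.eq_bot_of_card_eq _ ?_
    have hc : (2 ^ i).Coprime (r ^ j) :=
      Nat.Coprime.pow i j ((Nat.coprime_primes Nat.prime_two (Fact.out : r.Prime)).mpr fun h => hr h.symm)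
    rw [← hi, ← hj] at hc
    exact (Nat.coprime_self _).mp hc
  set M := Subgroup.normalizer ((R : Subgroup G) : Set G) with hM
  have hNQ : M ⊓ Q = ⊥ := by
    rw [Subgroup.eq_bot_iff_forall]
    intro n hn
    refine Subgroup.mem_bot.mp (hC ▸ ⟨hn.2, Subgroup.mem_centralizer_iff.mpr fun x hx => ?_⟩ : n ∈ (⊥ : Subgroup G))
    have h1 : x * n * x⁻¹ * n⁻¹ ∈ Q ⊓ (R : Subgroup G) := by
      refine ⟨Q.mul_mem (Subgroup.Normal.conj_mem inferInstance n hn.2 x) (Q.inv_mem hn.2), ?_⟩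
      have := Subgroup.mul_mem _ hx ((Subgroup.mem_normalizer_iff.mp hn.1 x⁻¹).mp (Subgroup.inv_mem _ hx))
      rw [show x * n * x⁻¹ * n⁻¹ = x * (n * x⁻¹ * n⁻¹) by group]
      exact this
    rw [hQR, Subgroup.mem_bot] at h1
    calc x * n = (x * n * x⁻¹ * n⁻¹) * n * x := by group
      _ = n * x := by rw [h1, one_mul]
  have hinjM : ∀ u ∈ M, ∀ v ∈ M, f u = f v → u = v := fun u hu v hv h => by
    have : u⁻¹ * v ∈ M ⊓ Q := ⟨M.mul_mem (M.inv_mem hu) hv, hfk.le (by
      rw [MonoidHom.mem_ker, map_mul, map_inv, h, inv_mul_cancel])⟩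
    rw [hNQ, Subgroup.mem_bot] at this
    exact inv_mul_eq_one.mp this
  have hRM : (R : Subgroup G) ≤ M := Subgroup.le_normalizer
  have hcardR : Nat.card ((R : Subgroup G).map f) = Nat.card (R : Subgroup G) :=
    (Nat.card_congr (Equiv.ofBijective (fun x : (R : Subgroup G) => (⟨f x, x, x.2, rfl⟩ : (R : Subgroup G).map f))
      ⟨fun u v h => Subtype.ext (hinjM _ (hRM u.2) _ (hRM v.2) (congrArg Subtype.val h)),
       by rintro ⟨_, u, hu, rfl⟩; exact ⟨⟨u, hu⟩, rfl⟩⟩)).symm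
  have hRr : Nat.card (R : Subgroup G) = r := by
    obtain ⟨i, hi⟩ := IsPGroup.iff_card.mp R.2
    have hd : r ∣ Nat.card G := by
      refine dvd_trans ?_ (Subgroup.card_dvd_of_surjective f hfs)
      rw [DihedralGroup.nat_card]; exact dvd_mul_left r 2
    have h1 : r ∣ Nat.card (R : Subgroup G) := R.dvd_card_of_dvd_card hd
    have h2 : Nat.card (R : Subgroup G) ∣ 2 * r := by
      rw [← hcardR, ← DihedralGroup.nat_card (n := r)]
      exact Subgroup.card_subgroup_dvd_card _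
    rw [hi] at h1 h2 ⊢
    have h3 : r ^ i ∣ r := (Nat.Coprime.pow_left i ((Nat.coprime_primes (Fact.out : r.Prime) Nat.prime_two).mpr hr)).dvd_of_dvd_mul_left h2
    rcases (Nat.dvd_prime (Fact.out : r.Prime)).mp h3 with h | h
    · rw [h] at h1; exact absurd (Nat.le_of_dvd Nat.one_pos h1) (Fact.out : r.Prime).one_lt.not_ge
    · exact h
  have hMsurj : ∀ d : DihedralGroup r, ∃ m ∈ M, f m = d := by
    intro d
    set R' := (R : Subgroup G).map f with hR'
    have hidx : R'.index = 2 := by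
      have := R'.card_mul_index
      rw [hR', hcardR, hRr, DihedralGroup.nat_card, mul_comm 2 r] at this
      exact Nat.eq_of_mul_eq_mul_left (Fact.out : r.Prime).pos this
    haveI := Subgroup.normal_of_index_eq_two hidx
    set K := R'.comap f with hK
    have hRK : (R : Subgroup G) ≤ K := Subgroup.le_comap_map _ _
    have htop := Sylow.normalizer_sup_eq_top (R.subtype hRK)
    rw [Sylow.coe_subtype, Subgroup.map_subgroupOf_eq_of_le hRK, ← hM] at htop
    obtain ⟨g, rfl⟩ := hfs d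
    have : (⊤ : Subgroup G) ≤ M ⊔ Q := by
      rw [← htop]
      refine sup_le le_sup_left ?_
      rw [hK, hR', Subgroup.comap_map_eq, hfk]
      exact sup_le (hRM.trans le_sup_left) le_sup_right
    obtain ⟨m, hm, q, hq, rfl⟩ := Subgroup.mem_sup_of_normal_right.mp (this (Subgroup.mem_top g))
    exact ⟨m, hm, by rw [map_mul, MonoidHom.mem_ker.mp (hfk.ge hq), mul_one]⟩
  refine ⟨⟨MulEquiv.ofBijective (f.comp M.subtype) ⟨fun u v h => Subtype.ext (hinjM _ u.2 _ v.2 h),
    fun d => let ⟨m, hm, h⟩ := hMsurj d; ⟨⟨m, hm⟩, h⟩⟩⟩, ?_⟩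
  intro a haM hao
  have ha : a * a = 1 := by rw [← pow_two, ← hao]; exact pow_orderOf_eq_one a
  have hinv : ∀ b : G, b * b = 1 → b ∉ Q → ∃ i : ZMod r, f b = DihedralGroup.sr i := by
    intro b hb hbQ
    have h1 : f b * f b = 1 := by rw [← map_mul, hb, map_one]
    rcases e' : f b with i | i
    · exfalso
      rw [e', DihedralGroup.r_mul_r, DihedralGroup.one_def, DihedralGroup.r.injEq] at h1
      have h2 : (2 : ZMod r) * i = 0 := by rw [two_mul]; exact h1
      rcases mul_eq_zero.mp h2 with h3 | h3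
      · have : r ∣ 2 := (ZMod.natCast_eq_zero_iff 2 r).mp (by exact_mod_cast h3)
        exact hr ((Nat.prime_dvd_prime_iff_eq (Fact.out : r.Prime) Nat.prime_two).mp this)
      · exact hbQ (hfk.le (by rw [MonoidHom.mem_ker, e', h3, DihedralGroup.one_def]))
    · exact ⟨i, rfl⟩
  have haQ : a ∉ Q := fun h => by
    have : a = 1 := Subgroup.mem_bot.mp (hNQ ▸ ⟨haM, h⟩)
    rw [this, orderOf_one] at hao
    exact absurd hao (by norm_num)
  obtain ⟨i, hi⟩ := hinv a ha haQ
  obtain ⟨x, hxM, hfx⟩ := hMsurj (DihedralGroup.r 1)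
  have h2 : (2 : ZMod r) ≠ 0 := fun h => hr ((Nat.prime_dvd_prime_iff_eq (Fact.out : r.Prime) Nat.prime_two).mp
    ((ZMod.natCast_eq_zero_iff 2 r).mp (by exact_mod_cast h)))
  obtain ⟨y, hyM, hfy⟩ := hMsurj (DihedralGroup.r ((2 : ZMod r)⁻¹))
  have hxr : x ^ r = 1 := hinjM _ (M.pow_mem hxM _) _ M.one_mem (by
    rw [map_pow, hfx, map_one, DihedralGroup.r_one_pow, ZMod.natCast_self, DihedralGroup.one_def])
  have hy : y⁻¹ * a * y = a * x := hinjM _ (M.mul_mem (M.mul_mem (M.inv_mem hyM) haM) hyM) _ (M.mul_mem haM hxM) (by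
    rw [map_mul, map_mul, map_inv, map_mul, hfy, hi, hfx, DihedralGroup.inv_r, DihedralGroup.r_mul_sr, DihedralGroup.sr_mul_r,
      DihedralGroup.sr_mul_r]
    congr 1
    have : (2 : ZMod r) * (2 : ZMod r)⁻¹ = 1 := mul_inv_cancel₀ h2
    linear_combination this)
  have hzx : Subgroup.zpowers x = (R : Subgroup G) := by
    have hxR : x ∈ (R : Subgroup G) := by
      have hle : (R : Subgroup G).map f ≤ Subgroup.zpowers (DihedralGroup.r (1 : ZMod r)) := by
        intro d hd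
        rcases d with j | j
        · exact ⟨j.val, by simp [DihedralGroup.r_one_pow]⟩
        · exfalso
          have h := Subgroup.orderOf_dvd_natCard ((R : Subgroup G).map f) hd
          rw [hcardR, hRr, DihedralGroup.orderOf_sr] at h
          exact hr ((Nat.prime_dvd_prime_iff_eq Nat.prime_two (Fact.out : r.Prime)).mp h).symm
      have heq := Subgroup.eq_of_le_of_card_ge hle (by rw [Nat.card_zpowers, DihedralGroup.orderOf_r_one, hcardR, hRr])
      obtain ⟨z, hz, hfz⟩ := heq.ge (Subgroup.mem_zpowers (DihedralGroup.r (1 : ZMod r)))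
      rw [← hinjM z (hRM hz) x hxM (hfz.trans hfx.symm)]
      exact hz
    refine Subgroup.eq_of_le_of_card_ge (Subgroup.zpowers_le.mpr hxR) ?_
    rw [hRr, Nat.card_zpowers]
    have hx1 : x ≠ 1 := fun h => by
      rw [h, map_one, DihedralGroup.one_def, DihedralGroup.r.injEq] at hfx
      exact zero_ne_one hfx
    rw [orderOf_eq_prime hxr hx1]
  have hmain := main hr a x y ha hxr hy Q hQ fun n hn hxn => by
    refine Subgroup.mem_bot.mp (hC.le ⟨hn, ?_⟩)
    show n ∈ Subgroup.centralizer ((R : Subgroup G) : Set G)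
    rw [← hzx, Subgroup.zpowers_eq_closure, Subgroup.centralizer_closure, Subgroup.mem_centralizer_singleton_iff]
    calc n * x = x * n * x⁻¹ * x := by rw [hxn]
      _ = x * n := by group
  refine ⟨fun b hb hbQ => ?_, hmain.1⟩
  obtain ⟨j, hj⟩ := hinv b (by rw [← pow_two, ← hb]; exact pow_orderOf_eq_one b) hbQ
  obtain ⟨k, -, hfk'⟩ := hMsurj (DihedralGroup.r ((i - j) * (2 : ZMod r)⁻¹))
  have hconj : f (k * a * k⁻¹) = f b := by
    rw [map_mul, map_mul, map_inv, hfk', hi, hj, DihedralGroup.inv_r, DihedralGroup.r_mul_sr, DihedralGroup.sr_mul_r]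
    congr 1
    have : (2 : ZMod r) * (2 : ZMod r)⁻¹ = 1 := mul_inv_cancel₀ h2
    linear_combination (j - i) * this
  have hmem : a * (k⁻¹ * b * k) ∈ Q := by
    rw [← hfk, MonoidHom.mem_ker, map_mul, map_mul, map_mul, ← hconj, map_mul, map_mul, map_inv]
    calc f a * ((f k)⁻¹ * (f k * f a * (f k)⁻¹) * f k) = f a * f a := by group
      _ = 1 := by rw [← map_mul, ha, map_one]
  have hb2 : b * b = 1 := by rw [← pow_two, ← hb]; exact pow_orderOf_eq_one b
  obtain ⟨m, -, hm⟩ := hmain.2 _ hmem (by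
    rw [← mul_assoc a a, ha, one_mul, show k⁻¹ * b * k * (k⁻¹ * b * k) = k⁻¹ * (b * b) * k by group, hb2]
    group)
  refine ⟨k * m, ?_⟩
  rw [← mul_assoc a a, ha, one_mul] at hm
  calc k * m * a * (k * m)⁻¹ = k * (m * a * m⁻¹) * k⁻¹ := by group
    _ = k * (k⁻¹ * b * k) * k⁻¹ := by rw [hm]
    _ = b := by group

end Cfsg.Agent.S2873
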