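import Cfsg.Statements.S2874
import Cfsg.Agent.Lib.AlternatingFourInGL
-- import your own Cfsg.Agent.* helpers here

set_option autoImplicit false
open Cfsg

namespace Cfsg.Agent.S2874

/-- For k ≥ 2, any two subgroups of GL₂(ℤ/2ᵏℤ) (the automorphism group of the homocyclic group ℤ/2ᵏ × ℤ/2ᵏ) that are isomorphic to the alternating group of degree 4 are conjugate. -/
theorem result (k : ℕ) (hk : 2 ≤ k) (H₁ H₂ : Subgroup (GL (Fin 2) (ZMod (2 ^ k)))) (h₁ : Nonempty (↥H₁ ≃* ↥(alternatingGroup (Fin 4)))) (h₂ : Nonempty (↥H₂ ≃* ↥(alternatingGroup (Fin 4)))) : ∃ g : GL (Fin 2) (ZMod (2 ^ k)), H₂ = H₁.map (MulAut.conj g).toMonoidHom := by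
  classical
  -- each subgroup is conjugate to the standard one
  suffices key : ∀ H : Subgroup (GL (Fin 2) (ZMod (2 ^ k))), Nonempty (↥H ≃* ↥(alternatingGroup (Fin 4))) →
      ∃ g : GL (Fin 2) (ZMod (2 ^ k)), ∃ E D : GL (Fin 2) (ZMod (2 ^ k)),
        (E : Matrix (Fin 2) (Fin 2) (ZMod (2 ^ k))) = CfsgLib.AltFourGL.mat ((2 ^ (k - 1) : ℕ) : ZMod (2 ^ k)) 0 ∧
        (D : Matrix (Fin 2) (Fin 2) (ZMod (2 ^ k))) = CfsgLib.AltFourGL.C ∧
        H.map (MulAut.conj g).toMonoidHom = Subgroup.closure {E, D} by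
    obtain ⟨g₁, E₁, D₁, hE₁, hD₁, e₁⟩ := key H₁ h₁
    obtain ⟨g₂, E₂, D₂, hE₂, hD₂, e₂⟩ := key H₂ h₂
    obtain rfl : E₁ = E₂ := Units.ext (hE₁.trans hE₂.symm)
    obtain rfl : D₁ = D₂ := Units.ext (hD₁.trans hD₂.symm)
    refine ⟨g₂⁻¹ * g₁, ?_⟩
    apply Subgroup.map_injective (f := (MulAut.conj g₂).toMonoidHom) (MulAut.conj g₂).injective
    rw [Subgroup.map_map, e₂, ← e₁]
    congr 1
    ext x
    simp [mul_assoc]
  rintro H ⟨φ⟩
  obtain ⟨d, e, hd, hd1, he, he1, hn, hgen⟩ : ∃ d e : alternatingGroup (Fin 4), d * d * d = 1 ∧ d ≠ 1 ∧ e * e = 1 ∧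
      e ≠ 1 ∧ e * (d * e * (d * d)) * (d * d * e * d) = 1 ∧ Subgroup.closure {e, d} = ⊤ := by
    exact CfsgLib.AltFourGL.alt_four
  let f : alternatingGroup (Fin 4) →* GL (Fin 2) (ZMod (2 ^ k)) := H.subtype.comp φ.symm.toMonoidHom
  have hf : Function.Injective f := Subtype.val_injective.comp φ.symm.injective
  have hH : H = Subgroup.closure {f e, f d} := by
    rw [show ({f e, f d} : Set (GL (Fin 2) (ZMod (2 ^ k)))) = f '' {e, d} by simp [Set.image_pair],
      ← MonoidHom.map_closure, hgen, ← MonoidHom.range_eq_map, MonoidHom.range_comp,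
      MonoidHom.range_eq_top.mpr φ.symm.surjective, ← MonoidHom.range_eq_map, Subgroup.range_subtype]
  -- the element of order three
  set r := CfsgLib.AltFourGL.red (k := k) hk with hr
  set D : Matrix (Fin 2) (Fin 2) (ZMod (2 ^ k)) := (f d : Matrix (Fin 2) (Fin 2) (ZMod (2 ^ k))) with hD
  have hD3 : D * D * D = 1 := by
    rw [hD, ← Units.val_mul, ← Units.val_mul, ← map_mul, ← map_mul, hd, map_one, Units.val_one]
  have hD1 : D ≠ 1 := fun h => hd1 (hf (Units.ext (by rw [← hD, h, map_one, Units.val_one])))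
  have hfact : (D - 1) * (D * D + D + 1) = 0 := by
    rw [show (D - 1) * (D * D + D + 1) = D * D * D - 1 by noncomm_ring, hD3, sub_self]
  have hbar : r.mapMatrix D ≠ 1 := by
    intro h
    have hu : IsUnit (D * D + D + 1) := by
      rw [Matrix.isUnit_iff_isUnit_det]
      refine CfsgLib.AltFourGL.isUnit_of_red hk ?_
      rw [RingHom.map_det, map_add, map_add, map_mul, map_one, h, one_mul]
      decide
    exact hD1 (sub_eq_zero.mp (hu.mul_left_eq_zero.mp hfact))
  obtain ⟨hb10, hbdet⟩ := (CfsgLib.AltFourGL.two_facts (r.mapMatrix D)).2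
    (by rw [← map_mul, ← map_mul, hD3, map_one]) hbar
  have hu1 : IsUnit (D - 1) := by
    rw [Matrix.isUnit_iff_isUnit_det]
    refine CfsgLib.AltFourGL.isUnit_of_red hk ?_
    rw [RingHom.map_det, map_sub, map_one]
    exact hbdet
  have hmin : D * D + D + 1 = 0 := hu1.mul_right_eq_zero.mp hfact
  set P : Matrix (Fin 2) (Fin 2) (ZMod (2 ^ k)) := !![1, D 0 0; 0, D 1 0] with hP
  have hPu : IsUnit P := by
    rw [Matrix.isUnit_iff_isUnit_det]
    refine CfsgLib.AltFourGL.isUnit_of_red hk ?_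
    rw [hP, Matrix.det_fin_two_of, mul_zero, sub_zero, one_mul]
    exact hb10
  obtain ⟨Q, hQ⟩ := hPu
  have hPC : D * P = P * CfsgLib.AltFourGL.C := by
    have m00 := congrFun (congrFun hmin 0) 0
    have m10 := congrFun (congrFun hmin 1) 0
    simp [Matrix.mul_apply, Fin.sum_univ_two] at m00 m10
    ext i j
    fin_cases i <;> fin_cases j <;> simp [hP, CfsgLib.AltFourGL.C, Matrix.mul_apply, Fin.sum_univ_two]
    · linear_combination m00
    · linear_combination m10
  have hconj : (Q⁻¹ : GL (Fin 2) (ZMod (2 ^ k))) * f d * Q = ⟨CfsgLib.AltFourGL.C, CfsgLib.AltFourGL.C2,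
      CfsgLib.AltFourGL.C_mul_C2, CfsgLib.AltFourGL.C2_mul_C⟩ := by
    refine Units.ext ?_
    rw [Units.val_mul, Units.val_mul, mul_assoc, ← hD, hQ, hPC, ← hQ, ← mul_assoc, Units.inv_mul, one_mul]
  set D₀ : GL (Fin 2) (ZMod (2 ^ k)) := ⟨CfsgLib.AltFourGL.C, CfsgLib.AltFourGL.C2,
      CfsgLib.AltFourGL.C_mul_C2, CfsgLib.AltFourGL.C2_mul_C⟩ with hD₀
  -- the involution
  let ψ : alternatingGroup (Fin 4) →* GL (Fin 2) (ZMod (2 ^ k)) := (MulAut.conj Q⁻¹).toMonoidHom.comp f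
  have hψd : ψ d = D₀ := by rw [← hconj]; simp [ψ, MulAut.conj_apply]
  have hψ : Function.Injective ψ := (MulAut.conj Q⁻¹).injective.comp hf
  have hψdd : ((ψ (d * d) : GL (Fin 2) (ZMod (2 ^ k))) : Matrix (Fin 2) (Fin 2) (ZMod (2 ^ k))) =
      CfsgLib.AltFourGL.C2 := by
    rw [map_mul, hψd, Units.val_mul, hD₀]
    exact CfsgLib.AltFourGL.C_mul_C
  have hψd' : ((ψ d : GL (Fin 2) (ZMod (2 ^ k))) : Matrix (Fin 2) (Fin 2) (ZMod (2 ^ k))) =
      CfsgLib.AltFourGL.C := by rw [hψd]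
  obtain ⟨p, q, hp, hq, hpq, he'⟩ := CfsgLib.AltFourGL.classify hk ((ψ e : GL (Fin 2) (ZMod (2 ^ k))) : Matrix _ _ _)
    (by rw [← Units.val_mul, ← map_mul, he, map_one, Units.val_one])
    (fun h => he1 (hψ (Units.ext (by rw [h, map_one, Units.val_one]))))
    (by rw [← hψdd, ← hψd', ← Units.val_mul, ← Units.val_mul, ← Units.val_mul, ← Units.val_mul, ← Units.val_mul,
      ← Units.val_mul, ← map_mul, ← map_mul, ← map_mul, ← map_mul, ← map_mul, ← map_mul, hn, map_one, Units.val_one])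
  set half : ZMod (2 ^ k) := ((2 ^ (k - 1) : ℕ) : ZMod (2 ^ k)) with hhalf
  have hh : 2 * half = 0 := by
    rw [hhalf, show (2 : ZMod (2 ^ k)) = ((2 : ℕ) : ZMod (2 ^ k)) by norm_num, ← Nat.cast_mul, ← pow_succ',
      show k - 1 + 1 = k by omega]
    exact ZMod.natCast_self _
  have hh0 : half ≠ 0 := by
    rw [hhalf, Ne, ZMod.natCast_eq_zero_iff]
    intro hdvd
    have := Nat.le_of_dvd (by positivity) hdvd
    have := Nat.pow_lt_pow_right (show 1 < 2 by norm_num) (show k - 1 < k by omega)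
    omega
  -- choose the conjugate of `e` equal to the standard involution
  have hcases := CfsgLib.AltFourGL.orbit (q' := 0) (p' := half) hk hp hq hh (by simp) hpq (fun h => hh0 h.1)
  obtain ⟨e', he'gen, he'val⟩ : ∃ e' : alternatingGroup (Fin 4), Subgroup.closure {e', d} = ⊤ ∧
      ((ψ e' : GL (Fin 2) (ZMod (2 ^ k))) : Matrix (Fin 2) (Fin 2) (ZMod (2 ^ k))) =
        CfsgLib.AltFourGL.mat half 0 := by
    have hgen' : ∀ a b : alternatingGroup (Fin 4), e ∈ Subgroup.closure {a, b} → b = d →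
        Subgroup.closure {a, d} = ⊤ := by
      intro a b ha hb
      subst hb
      refine top_le_iff.mp (hgen ▸ (Subgroup.closure_le _).mpr fun x hx => ?_)
      rcases hx with rfl | rfl
      · exact ha
      · exact Subgroup.subset_closure (Set.mem_insert_of_mem _ rfl)
    have md : ∀ a : alternatingGroup (Fin 4), d ∈ Subgroup.closure ({a, d} : Set (alternatingGroup (Fin 4))) :=
      fun a => Subgroup.subset_closure (Set.mem_insert_of_mem _ rfl)
    have ma : ∀ a : alternatingGroup (Fin 4), a ∈ Subgroup.closure ({a, d} : Set (alternatingGroup (Fin 4))) :=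
      fun a => Subgroup.subset_closure (Set.mem_insert a _)
    have hdd : d⁻¹ = d * d := inv_eq_of_mul_eq_one_right (by rw [← mul_assoc]; exact hd)
    rcases hcases with h | h | h
    · exact ⟨e, hgen, by rw [h, ← he']⟩
    · refine ⟨d * e * (d * d), hgen' _ d ?_ rfl, ?_⟩
      · have := mul_mem (mul_mem (inv_mem (md (d * e * (d * d)))) (ma (d * e * (d * d)))) (md (d * e * (d * d)))
        rwa [show d⁻¹ * (d * e * (d * d)) * d = e * (d * d * d) by group, hd, mul_one] at this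
      · rw [map_mul, map_mul, Units.val_mul, Units.val_mul, hψdd, hψd', he', h]
    · refine ⟨d * d * e * d, hgen' _ d ?_ rfl, ?_⟩
      · have := mul_mem (mul_mem (md (d * d * e * d)) (ma (d * d * e * d))) (inv_mem (md (d * d * e * d)))
        rwa [show d * (d * d * e * d) * d⁻¹ = (d * d * d) * e by group, hd, one_mul] at this
      · rw [map_mul, map_mul, Units.val_mul, Units.val_mul, hψdd, hψd', he', h]
        have hC22 : (CfsgLib.AltFourGL.C2 : Matrix (Fin 2) (Fin 2) (ZMod (2 ^ k))) * CfsgLib.AltFourGL.C2 =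
            CfsgLib.AltFourGL.C := by
          calc CfsgLib.AltFourGL.C2 * CfsgLib.AltFourGL.C2
              = CfsgLib.AltFourGL.C2 * (CfsgLib.AltFourGL.C * CfsgLib.AltFourGL.C) := by rw [CfsgLib.AltFourGL.C_mul_C]
            _ = _ := by rw [← mul_assoc, CfsgLib.AltFourGL.C2_mul_C, one_mul]
        calc _ = CfsgLib.AltFourGL.C * CfsgLib.AltFourGL.C * CfsgLib.AltFourGL.mat p q *
              (CfsgLib.AltFourGL.C2 * CfsgLib.AltFourGL.C2) := by rw [CfsgLib.AltFourGL.C_mul_C, hC22]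
          _ = _ := by simp only [mul_assoc]
  refine ⟨Q⁻¹, ψ e', ψ d, he'val, hψd', ?_⟩
  rw [hH, show ({ψ e', ψ d} : Set (GL (Fin 2) (ZMod (2 ^ k)))) = ψ '' {e', d} by simp [Set.image_pair],
    ← MonoidHom.map_closure (f := ψ), he'gen, ← hgen, show ({f e, f d} : Set (GL (Fin 2) (ZMod (2 ^ k)))) = f '' {e, d} by simp [Set.image_pair],
    ← MonoidHom.map_closure (f := f), Subgroup.map_map]

end Cfsg.Agent.S2874
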