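import Cfsg.Statements.S2880
import Cfsg.Agent.Lib.ExtraspecialTwo

set_option autoImplicit false
set_option linter.unusedVariables false
open Cfsg
open scoped commutatorElement

namespace Cfsg.Agent.S2880

/-- Let E be an extraspecial 2-group of order 2^(2m+1) of plus type, that is, containing an elementary abelian subgroup of order 2^(m+1) (equivalently, a central product of m dihedral groups of order 8). Then E has exactly 2^(2m) − 2^m elements of order 4. -/
theorem result {E : Type*} [Group E] [Finite E] (m : ℕ) (hm : 1 ≤ m) (hE : Cfsg.IsExtraspecial 2 E) (hcard : Nat.card E = 2 ^ (2 * m + 1)) (hplus : ∃ A : Subgroup E, Cfsg.IsElementaryAbelian 2 A ∧ Nat.card A = 2 ^ (m + 1)) : Nat.card {x : E // orderOf x = 4} = 2 ^ (2 * m) - 2 ^ m := by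
  classical
  obtain ⟨A, hA, hAc⟩ := hplus
  obtain ⟨z, hz⟩ := CfsgLib.ExtraTwo.ofExtraspecial hE
  have hr := (CfsgLib.ExtraTwo.card_elementary_le hz hcard hA.1 hA.2).2 hAc
  have h4 : ∀ x : E, orderOf x = 4 ↔ ¬ x * x = 1 := by
    intro x
    constructor
    · intro h e
      have := orderOf_dvd_of_pow_eq_one (show x ^ 2 = 1 by rw [pow_two, e])
      rw [h] at this
      omega
    · intro h
      exact orderOf_eq_prime_pow (p := 2) (n := 1) (by rwa [pow_one, pow_two]) (hz.pow_four x)
  haveI := Fintype.ofFinite E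
  rw [Nat.card_congr (Equiv.subtypeEquivRight h4)]
  have hr' : Fintype.card {x : E // x * x = 1} = 2 ^ (2 * m) + 2 ^ m := by
    rw [← Nat.card_eq_fintype_card]; exact hr
  rw [Nat.card_eq_fintype_card, Fintype.card_subtype_compl, hr', ← Nat.card_eq_fintype_card, hcard, pow_succ]
  omega

end Cfsg.Agent.S2880
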