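import Cfsg.Statements.S2881
import Mathlib
import Cfsg.Agent.Lib.ExtraspecialTwo

set_option autoImplicit false
set_option linter.unusedVariables false
open Cfsg
open scoped commutatorElement

namespace Cfsg.Agent.S2881

open CfsgLib CfsgLib.ExtraTwo

theorem modEq_fixed {α : Type*} [Finite α] (f : α ≃ α) (hf : ∀ x, f (f (f (f (f x)))) = x) :
    Nat.card α ≡ Nat.card {x : α // f x = x} [MOD 5] := by
  classical
  haveI : Fintype α := Fintype.ofFinite α
  haveI : Fact (Nat.Prime 5) := ⟨by norm_num⟩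
  have h := Equiv.Perm.card_fixedPoints_modEq (f := (f : α → α)) (p := 5) (n := 1) (funext fun x => hf x)
  rw [Nat.card_eq_fintype_card, Nat.card_eq_fintype_card]
  refine h.trans ?_
  rw [show Fintype.card (Function.fixedPoints (f : α → α)) = Fintype.card {x : α // f x = x} from Fintype.card_congr (Equiv.refl _)]

theorem pow_cycle (m : ℕ) : 2 ^ m % 5 = 2 ^ (m % 4) % 5 := by
  conv_lhs => rw [← Nat.mod_add_div m 4, pow_add, pow_mul]
  rw [Nat.mul_mod, Nat.pow_mod (2 ^ 4)]
  norm_num

/-- Let E be an extraspecial 2-group of order 2^(2m+1) of plus type (containing an elementary abelian subgroup of order 2^(m+1)), and let ω be an automorphism of E of order 5 whose fixed points are exactly the centre of E. Then m is divisible by 4. -/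
theorem result {E : Type*} [Group E] [Finite E] (m : ℕ) (hm : 1 ≤ m) (hE : Cfsg.IsExtraspecial 2 E) (hcard : Nat.card E = 2 ^ (2 * m + 1)) (hplus : ∃ A : Subgroup E, Cfsg.IsElementaryAbelian 2 A ∧ Nat.card A = 2 ^ (m + 1)) (ω : E ≃* E) (hω : orderOf ω = 5) (hfix : ∀ x : E, ω x = x ↔ x ∈ Subgroup.center E) : 4 ∣ m := by
  classical
  obtain ⟨z, h⟩ := ExtraTwo.ofExtraspecial hE
  obtain ⟨A, hA, hAc⟩ := hplus
  have hroot := (card_elementary_le h hcard hA.1 hA.2).2 hAc
  have h5 : ∀ x, ω (ω (ω (ω (ω x)))) = x := fun x => by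
    have h1 : ω ^ 5 = 1 := hω ▸ pow_orderOf_eq_one ω
    have h2 := DFunLike.congr_fun h1 x
    simpa [pow_succ] using h2
  have hfixc : ∀ {β : Type _} (i : β ≃ {x : E // x ∈ Subgroup.center E}), Nat.card β = 2 := fun i => by
    rw [Nat.card_congr i]; exact h.card_center
  have c1 := modEq_fixed ω.toEquiv h5
  rw [hcard, hfixc (β := {x : E // ω.toEquiv x = x}) (Equiv.subtypeEquivRight fun x => hfix x)] at c1
  let g : {x : E // x * x = 1} ≃ {x : E // x * x = 1} := ω.toEquiv.subtypeEquiv fun x => by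
    show x * x = 1 ↔ ω x * ω x = 1
    rw [← map_mul, MulEquiv.map_eq_one_iff]
  have c2 := modEq_fixed g fun x => Subtype.ext (h5 x)
  have hc2 : Nat.card {x : {x : E // x * x = 1} // g x = x} = 2 := hfixc
    { toFun := fun x => ⟨x.1.1, (hfix _).mp (congrArg Subtype.val x.2)⟩
      invFun := fun x => ⟨⟨x.1, by
        rcases (h.center_iff _).mp x.2 with e | e <;> rw [e]
        · exact one_mul 1
        · exact h.zz⟩, Subtype.ext ((hfix _).mpr x.2)⟩
      left_inv := fun x => rfl
      right_inv := fun x => rfl }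
  rw [hc2, show Nat.card {x : E // x * x = 1} = 2 ^ (2 * m) + 2 ^ m from hroot] at c2
  unfold Nat.ModEq at c1 c2
  rw [Nat.add_mod, pow_cycle (2 * m), pow_cycle m] at c2
  rw [pow_cycle (2 * m + 1)] at c1
  have : m % 4 < 4 := Nat.mod_lt _ (by norm_num)
  interval_cases hm4 : m % 4
  all_goals first
    | exact Nat.dvd_of_mod_eq_zero hm4
    | (rw [Nat.mul_mod, hm4] at c2; norm_num at c2; done)
    | (rw [Nat.add_mod, Nat.mul_mod, hm4] at c1; norm_num at c1; done)

end Cfsg.Agent.S2881
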