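import Cfsg.Statements.S2882
import Mathlib
import Cfsg.Agent.Lib.Fusion.MathieuSylowData

set_option autoImplicit false
set_option linter.unusedVariables false
open Cfsg
open scoped commutatorElement

namespace Cfsg.Agent.S2882

open CfsgGolay CfsgGolay.SylData
open scoped Pointwise

theorem norm_conj {G : Type*} [Group G] {p : ℕ} (U : Sylow p G) (g x : G)
    (hx : x ∈ Subgroup.normalizer (((g • U : Sylow p G) : Subgroup G) : Set G)) :
    g⁻¹ * x * g ∈ Subgroup.normalizer ((U : Subgroup G) : Set G) := by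
  have key : ∀ y, y ∈ (U : Subgroup G) ↔ g * y * g⁻¹ ∈ ((g • U : Sylow p G) : Subgroup G) := by
    intro y
    rw [Sylow.coe_subgroup_smul]
    constructor
    · exact fun h => ⟨y, h, rfl⟩
    · rintro ⟨z, hz, e⟩
      have e' : g * z * g⁻¹ = g * y * g⁻¹ := e
      rwa [← mul_left_cancel (mul_right_cancel e')]
  refine Subgroup.mem_normalizer_iff.mpr fun y => ?_
  rw [key y, key (g⁻¹ * x * g * y * (g⁻¹ * x * g)⁻¹), Subgroup.mem_normalizer_iff.mp hx (g * y * g⁻¹)]
  simp [mul_assoc]

/-- In the Mathieu group of degree 24 (realised as the automorphism group of the extended binary Golay code) every Sylow 2-subgroup is self-normalizing. -/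
theorem result (S : Sylow 2 ↥Cfsg.M24) : Subgroup.normalizer ((S : Subgroup ↥Cfsg.M24) : Set ↥Cfsg.M24) = (S : Subgroup ↥Cfsg.M24) := by
  haveI : Fact (Nat.Prime 2) := ⟨Nat.prime_two⟩
  have hB : sylowM24.checkBasic = true := by decide +kernel
  have hP : sylowM24.checkPhi = true := by decide +kernel
  have hO : sylowM24.checkOrb = true := by decide +kernel
  have hC : sylowM24.checkCol = true := by decide +kernel
  have hlen : (spanC sylowM24.gens).length = 2 ^ 10 := by decide +kernel
  have hG : Cfsg.M24 = sylowM24.amb := subG_nil.symm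
  have hHG : spanH sylowM24.gens ≤ Cfsg.M24 := (spanH_le_amb hB).trans hG.ge
  have hcardU : Nat.card ((spanH sylowM24.gens).subgroupOf Cfsg.M24) = 2 ^ 10 := by
    rw [Nat.card_congr (Subgroup.subgroupOfEquivOfLe hHG).toEquiv, card_U hB, hlen]
  have hfac : (Nat.card Cfsg.M24).factorization 2 = 10 := by
    rw [card_M24, show (244823040 : ℕ) = 2 ^ 10 * 239085 from by norm_num, Nat.factorization_mul (by norm_num) (by norm_num),
      Finsupp.add_apply, Nat.factorization_eq_zero_of_not_dvd (by norm_num : ¬ 2 ∣ 239085), add_zero, Nat.factorization_pow,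
      Finsupp.smul_apply, Nat.Prime.factorization_self Nat.prime_two, smul_eq_mul, mul_one]
  let U : Sylow 2 Cfsg.M24 := Sylow.ofCard ((spanH sylowM24.gens).subgroupOf Cfsg.M24) (by rw [hfac, hcardU])
  obtain ⟨g, rfl⟩ := MulAction.exists_smul_eq Cfsg.M24 U S
  refine (Sylow.is_maximal' _ ?_ Subgroup.le_normalizer)
  intro n
  obtain ⟨k, m, hm, he⟩ := Nat.exists_eq_pow_mul_and_not_dvd (orderOf_pos n).ne' 2 (by norm_num)
  refine ⟨k, ?_⟩
  set a := g⁻¹ * ((n ^ 2 ^ k : ↥(Subgroup.normalizer (((g • U : Sylow 2 Cfsg.M24) : Subgroup Cfsg.M24) : Set Cfsg.M24))) : Cfsg.M24) * g with ha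
  have hodd : Odd (orderOf a) := by
    have e : a = MulAut.conj g⁻¹ ((n ^ 2 ^ k : ↥(Subgroup.normalizer (((g • U : Sylow 2 Cfsg.M24) : Subgroup Cfsg.M24) : Set Cfsg.M24))) : Cfsg.M24) := by
      simp [ha, mul_assoc]
    rw [e, MulEquiv.orderOf_eq, Subgroup.orderOf_coe, orderOf_pow_of_dvd (by positivity) (he ▸ Dvd.intro m rfl), he,
      Nat.mul_div_cancel_left _ (by positivity)]
    exact Nat.odd_iff.mpr (by omega)
  have hnorm : a ∈ Subgroup.normalizer ((U : Subgroup Cfsg.M24) : Set Cfsg.M24) := norm_conj U g _ (n ^ 2 ^ k).2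
  have hn : ((a : Cfsg.M24) : (Equiv.Perm GolayPt)) ∈ Subgroup.normalizer (spanH sylowM24.gens : Set (Equiv.Perm GolayPt)) := by
    have hUe : (U : Subgroup Cfsg.M24).map Cfsg.M24.subtype = spanH sylowM24.gens := by
      rw [Sylow.coe_ofCard]; exact Subgroup.map_subgroupOf_eq_of_le hHG
    rw [← hUe]
    exact Subgroup.le_normalizer_map _ ⟨a, hnorm, rfl⟩
  have h1 : a = 1 := Subtype.ext (eq_one_of_normalizes hB hP hO hC hlen hn (by rwa [Subgroup.orderOf_coe]))
  refine Subtype.ext ?_
  have e2 : ∀ z : Cfsg.M24, g * (g⁻¹ * z * g) * g⁻¹ = z := fun z => by simp [mul_assoc]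
  have h3 := congrArg (fun z => g * z * g⁻¹) h1
  simp only [ha] at h3
  rw [e2, mul_one, mul_inv_cancel] at h3
  exact h3

end Cfsg.Agent.S2882
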