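import Cfsg.Statements.S2896
import Mathlib
import Cfsg.Agent.Lib.CharPLocal

set_option autoImplicit false
set_option linter.unusedVariables false
open Cfsg
open scoped commutatorElement

namespace Cfsg.Agent.S2896

open CfsgLib

/-- Let p be a prime dividing the order of the finite group G, S a Sylow p-subgroup of G and X a subgroup of S. (i) If some nontrivial element z of the centre of X has F*(C_G(z)) = O_p(C_G(z)), then F*(N_G(X)) = O_p(N_G(X)). (ii) G has parabolic characteristic p if and only if F*(C_G(z)) = O_p(C_G(z)) for every nontrivial z ∈ Ω₁(Z(S)). (iii) If F*(C_G(z)) = O_p(C_G(z)) for every element z of S of order p, then G has local characteristic p. -/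
theorem result {G : Type*} [Group G] [Finite G] {p : ℕ} [Fact p.Prime] (hdiv : p ∣ Nat.card G) (S : Sylow p G) (X : Subgroup G) (hX : X ≤ (S : Subgroup G)) : (∀ z : G, z ≠ 1 → z ∈ X → (∀ x ∈ X, x * z = z * x) → Cfsg.generalizedFittingSubgroup ↥(Subgroup.centralizer ({z} : Set G)) = Cfsg.pCore p ↥(Subgroup.centralizer ({z} : Set G)) → Cfsg.generalizedFittingSubgroup ↥(Subgroup.normalizer (X : Set G)) = Cfsg.pCore p ↥(Subgroup.normalizer (X : Set G))) ∧ (Cfsg.IsOfParabolicCharacteristic p G ↔ ∀ z : G, z ≠ 1 → z ∈ Cfsg.omegaOne p ((S : Subgroup G) ⊓ Subgroup.centralizer ((S : Subgroup G) : Set G)) → Cfsg.generalizedFittingSubgroup ↥(Subgroup.centralizer ({z} : Set G)) = Cfsg.pCore p ↥(Subgroup.centralizer ({z} : Set G))) ∧ ((∀ z : G, z ∈ (S : Subgroup G) → orderOf z = p → Cfsg.generalizedFittingSubgroup ↥(Subgroup.centralizer ({z} : Set G)) = Cfsg.pCore p ↥(Subgroup.centralizer ({z} : Set G))) → Cfsg.IsOfLocalCharacteristic p G) := by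
  refine ⟨fun z hz1 hzX hzc hC => ?_, ⟨fun hG z hz1 hz => ?_, fun h => ?_⟩, fun h => ⟨hdiv, fun T hT hT1 => ?_⟩⟩
  · rw [← Comp.isPGroup_gfit_iff_eq] at hC ⊢
    exact CharPLocal.normalizer_of_mem (S.2.to_le hX) hzX hC
  · obtain ⟨-, hc, hp⟩ := CharPLocal.mem_omegaZ hz
    rw [← Comp.isPGroup_gfit_iff_eq]
    exact CharPLocal.centralizer_of_parabolic hG S hz1 hp hc
  · refine CharPLocal.parabolic_of_centralizers S fun z hzo hzS hzc => ?_
    rw [Comp.isPGroup_gfit_iff_eq]
    refine h z (fun e => (Fact.out : p.Prime).one_lt.ne' (by rw [← hzo, e, orderOf_one])) (Subgroup.subset_closure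
      ⟨⟨hzS, Subgroup.mem_centralizer_iff.mpr hzc⟩, by rw [← hzo]; exact pow_orderOf_eq_one z⟩)
  · rw [← Comp.gfit_eq_pCore_iff]
    refine Comp.charP_local p (fun t ht => ?_) T hT hT1
    obtain ⟨Q, hQ⟩ := (IsPGroup.of_card (n := 1) (by rw [Nat.card_zpowers, ht, pow_one]) : IsPGroup p ↥(Subgroup.zpowers t)).exists_le_sylow
    obtain ⟨g, hg⟩ := MulAction.exists_smul_eq G S Q
    have h1 := hQ (Subgroup.mem_zpowers t)
    rw [← hg, Sylow.coe_subgroup_smul, Subgroup.pointwise_smul_def] at h1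
    obtain ⟨y, hy, rfl⟩ := h1
    have h2 := h y hy ((MulEquiv.orderOf_eq (MulAut.conj g) y).symm.trans ht)
    rw [← Comp.isPGroup_gfit_iff_eq] at h2 ⊢
    exact CharPLocal.centralizer_conj g h2

end Cfsg.Agent.S2896
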