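import Cfsg.Statements.S2898
import Mathlib
import Cfsg.Agent.Lib.CharPLocal
import Cfsg.Agent.Lib.Large

set_option autoImplicit false
set_option linter.unusedVariables false
open Cfsg
open scoped commutatorElement

namespace Cfsg.Agent.S2898

open CfsgLib

variable {G : Type*} [Group G] [Finite G]

theorem fixed_eq_one (hG : Cfsg.IsOfParabolicCharacteristic 2 G) (S : Sylow 2 G) {w : G} (hw : orderOf w = 2)
    (hc : ∀ s ∈ (S : Subgroup G), s * w = w * s) [hN : (Cfsg.oddCore G).Normal] {x : G} (hx : x ∈ Cfsg.oddCore G) (hxw : x * w = w * x) :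
    x = 1 := by
  haveI : Fact (Nat.Prime 2) := ⟨Nat.prime_two⟩
  set C := Subgroup.centralizer ({w} : Set G)
  have h := (Comp.isPGroup_gfit_iff 2).mp (CharPLocal.centralizer_of_parabolic hG S
    (fun e => by rw [e, orderOf_one] at hw; exact absurd hw (by norm_num)) (by rw [← hw]; exact pow_orderOf_eq_one w) hc)
  set R := Cfsg.pCore 2 ↥C
  set x' : ↥C := ⟨x, Subgroup.mem_centralizer_singleton_iff.mpr hxw⟩
  have hcop : ∀ y ∈ Cfsg.oddCore G, ∀ k : ℕ, y ^ 2 ^ k = 1 → y = 1 := fun y hy k hk => by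
    have h1 : orderOf y ∣ Nat.card ↥(Cfsg.oddCore G) := Subgroup.orderOf_dvd_natCard _ hy
    exact orderOf_eq_one_iff.mp (Nat.eq_one_of_dvd_coprimes ((Nat.coprime_two_left.mpr (odd_card_oddCore (G := G))).pow_left k)
      (orderOf_dvd_of_pow_eq_one hk) h1)
  have hxR : x' ∈ R := h fun r hr => by
    have h1 : (⁅r, x'⁆ : ↥C) ∈ R := by
      haveI : R.Normal := Subgroup.sSup_normal _ (fun _ h => h.1)
      rw [commutatorElement_def, show r * x' * r⁻¹ * x'⁻¹ = r * (x' * r⁻¹ * x'⁻¹) by group]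
      exact R.mul_mem hr ((inferInstance : R.Normal).conj_mem _ (R.inv_mem hr) x')
    obtain ⟨k, hk⟩ := isPGroup_pCore 2 ⟨_, h1⟩
    have h2 : ((⁅r, x'⁆ : ↥C) : G) = 1 := by
      refine hcop _ ?_ k (congrArg (fun z : ↥R => ((z : ↥C) : G)) hk)
      show (r : G) * x * (r : G)⁻¹ * x⁻¹ ∈ _
      exact Subgroup.mul_mem _ (hN.conj_mem x hx _) (Subgroup.inv_mem _ hx)
    exact commutatorElement_eq_one_iff_mul_comm.mp (Subtype.ext h2)
  obtain ⟨k, hk⟩ := isPGroup_pCore 2 ⟨x', hxR⟩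
  exact hcop x hx k (congrArg (fun z : ↥R => ((z : ↥C) : G)) hk)

/-- Let G be a finite group of even order with parabolic characteristic 2. If the centre of G ⧸ O(G) is trivial, then O(G) = 1. -/
theorem result {G : Type*} [Group G] [Finite G] (h2 : 2 ∣ Nat.card G) (hG : Cfsg.IsOfParabolicCharacteristic 2 G) [hN : (Cfsg.oddCore G).Normal] (hZ : Subgroup.center (G ⧸ Cfsg.oddCore G) = ⊥) : Cfsg.oddCore G = ⊥ := by
  haveI : Fact (Nat.Prime 2) := ⟨Nat.prime_two⟩
  by_contra hO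
  obtain ⟨S⟩ : Nonempty (Sylow 2 G) := inferInstance
  have hS1 : (S : Subgroup G) ≠ ⊥ := S.ne_bot_of_dvd_card h2
  obtain ⟨z, -, hzS, hzo, hzc⟩ := CharPLocal.exists_central S.2 hS1 S Subgroup.le_normalizer
  set O := Cfsg.oddCore G
  let φ : ↥O →* ↥O := (MulAut.conjNormal z : MulAut ↥O).toMonoidHom
  have hzz : z * z = 1 := by rw [← sq, ← hzo]; exact pow_orderOf_eq_one z
  have hfix : MonoidHom.FixedPointFree φ := fun x hx => Subtype.ext (fixed_eq_one hG S hzo hzc x.2 (by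
    have h1 : z * (x : G) * z⁻¹ = x := congrArg Subtype.val hx
    exact (mul_inv_eq_iff_eq_mul.mp h1).symm))
  have hinvol : Function.Involutive φ := fun x => Subtype.ext (by
    show z * (z * (x : G) * z⁻¹) * z⁻¹ = x
    rw [show z * (z * (x : G) * z⁻¹) * z⁻¹ = (z * z) * x * (z * z)⁻¹ by group, hzz]; group)
  have hab : ∀ a ∈ O, ∀ b ∈ O, a * b = b * a := fun a ha b hb =>
    congrArg Subtype.val (hfix.commute_all_of_involutive hinvol ⟨a, ha⟩ ⟨b, hb⟩).eq
  have hinv : ∀ x ∈ O, z * x * z⁻¹ = x⁻¹ := fun x hx =>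
    congrArg Subtype.val (congrFun (hfix.coe_eq_inv_of_involutive hinvol) ⟨x, hx⟩)
  set C := Subgroup.centralizer (O : Set G)
  haveI hCn : C.Normal := inferInstance
  have hSC : (S : Subgroup G) ⊓ C = ⊥ := by
    by_contra hne
    obtain ⟨w, hw, -, hwo, hwc⟩ := CharPLocal.exists_central (S.2.to_le inf_le_left) hne S
      (Large.le_normalizer_of fun s hs y hy => ⟨Subgroup.mul_mem _ (Subgroup.mul_mem _ hs hy.1) (Subgroup.inv_mem _ hs), hCn.conj_mem y hy.2 s⟩)
    refine hO (eq_bot_iff.mpr fun x hx => ?_)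
    exact fixed_eq_one hG S hwo hwc hx (Subgroup.mem_centralizer_iff.mp hw.2 x hx)
  have hCO : C ≤ O := by
    refine le_oddCore ?_
    obtain ⟨P, hP⟩ := CharPLocal.exists_sylow_subnormal S (Subgroup.Normal.isSubnormal hCn)
    rw [hSC, Subgroup.map_eq_bot_iff_of_injective _ C.subtype_injective] at hP
    refine Nat.not_even_iff_odd.mp fun he => P.ne_bot_of_dvd_card he.two_dvd hP
  have hzO : z ∈ O := by
    rw [← QuotientGroup.eq_one_iff (N := O), ← Subgroup.mem_bot, ← hZ, Subgroup.mem_center_iff]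
    intro g
    obtain ⟨g, rfl⟩ := QuotientGroup.mk_surjective g
    rw [← commutatorElement_eq_one_iff_mul_comm, ← QuotientGroup.mk'_apply, ← QuotientGroup.mk'_apply, ← map_commutatorElement,
      QuotientGroup.mk'_apply, QuotientGroup.eq_one_iff]
    refine hCO (Subgroup.mem_centralizer_iff.mpr fun x hx => ?_)
    have hx' : x ∈ O := hx
    set y := g⁻¹ * x * g with hy'
    have hy : y ∈ O := by simpa [y] using hN.conj_mem x hx' g⁻¹
    have hzx : z⁻¹ = z := inv_eq_of_mul_eq_one_right hzz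
    have e1 : z⁻¹ * x * z = x⁻¹ := by
      have h1 := hinv x hx'
      rwa [hzx] at h1 ⊢
    have e2 : (g * z * g⁻¹) * x * (g * z * g⁻¹)⁻¹ = x⁻¹ := by
      rw [show (g * z * g⁻¹) * x * (g * z * g⁻¹)⁻¹ = g * (z * y * z⁻¹) * g⁻¹ by rw [hy']; group, hinv y hy, hy']
      group
    have e3 : ⁅g, z⁆ * x * (⁅g, z⁆)⁻¹ = x := by
      rw [show ⁅g, z⁆ * x * (⁅g, z⁆)⁻¹ = (g * z * g⁻¹) * (z⁻¹ * x * z) * (g * z * g⁻¹)⁻¹ by
        rw [commutatorElement_def]; group, e1]
      calc g * z * g⁻¹ * x⁻¹ * (g * z * g⁻¹)⁻¹ = ((g * z * g⁻¹) * x * (g * z * g⁻¹)⁻¹)⁻¹ := by group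
        _ = x := by rw [e2, inv_inv]
    exact (mul_inv_eq_iff_eq_mul.mp e3).symm
  have h3 := (Nat.coprime_two_left.mpr (odd_card_oddCore (G := G)))
  have h4 : 2 ∣ Nat.card ↥O := hzo ▸ Subgroup.orderOf_dvd_natCard O hzO
  exact absurd (Nat.eq_one_of_dvd_coprimes h3 dvd_rfl h4) (by norm_num)

end Cfsg.Agent.S2898
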