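import Cfsg.Statements.S2907
import Mathlib

set_option autoImplicit false
set_option linter.unusedVariables false
open Cfsg
open scoped commutatorElement

namespace Cfsg.Agent.S2907

/-- Let X be a finite semi-extraspecial p-group and x an element of X outside the centre. Then the index of C_X(x) in X equals the order of Z(X), and the commutators [x, y], y ∈ X, form exactly the centre Z(X). -/
theorem result {X : Type*} [Group X] [Finite X] {p : ℕ} [Fact p.Prime] (hX : Cfsg.IsSemiExtraspecial p X) (x : X) (hx : x ∉ Subgroup.center X) : (Subgroup.centralizer ({x} : Set X)).index = Nat.card ↥(Subgroup.center X) ∧ {z : X | ∃ y : X, z = x * y * x⁻¹ * y⁻¹} = (Subgroup.center X : Set X) := by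
  obtain ⟨⟨hp, hfr, hcomm⟩, hsemi⟩ := hX
  have hmem : ∀ y : X, x * y * x⁻¹ * y⁻¹ ∈ Subgroup.center X := fun y =>
    hcomm.le (Subgroup.commutator_mem_commutator (Subgroup.mem_top x) (Subgroup.mem_top y))
  let φ : X →* ↥(Subgroup.center X) := MonoidHom.mk' (fun y => ⟨_, hmem y⟩) (fun a b => Subtype.ext (by
    show x * (a * b) * x⁻¹ * (a * b)⁻¹ = x * a * x⁻¹ * a⁻¹ * (x * b * x⁻¹ * b⁻¹)
    calc x * (a * b) * x⁻¹ * (a * b)⁻¹ = x * a * x⁻¹ * ((x * b * x⁻¹ * b⁻¹) * a⁻¹) := by group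
      _ = x * a * x⁻¹ * (a⁻¹ * (x * b * x⁻¹ * b⁻¹)) := by rw [Subgroup.mem_center_iff.mp (hmem b) a⁻¹]
      _ = x * a * x⁻¹ * a⁻¹ * (x * b * x⁻¹ * b⁻¹) := by group))
  have hsurj : φ.range = ⊤ := by
    by_contra hne
    obtain ⟨M, hM, hφM⟩ := (eq_top_or_exists_le_coatom φ.range).resolve_left hne
    set Y := M.map (Subgroup.center X).subtype with hY
    have hYM : Y.subgroupOf (Subgroup.center X) = M := Subgroup.comap_map_eq_self_of_injective (Subgroup.subtype_injective _) M
    obtain ⟨hYn, ⟨⟨-, -, -⟩, hcard⟩⟩ := hsemi Y (Subgroup.map_subtype_le _) (hYM.symm ▸ hM)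
    haveI := hYn
    set q := QuotientGroup.mk' Y
    have hxc : q x ∈ Subgroup.center (X ⧸ Y) := by
      rw [Subgroup.mem_center_iff]
      intro z
      obtain ⟨y, rfl⟩ := QuotientGroup.mk'_surjective Y z
      have h1 : q (x * y * x⁻¹ * y⁻¹) = 1 := (QuotientGroup.eq_one_iff _).mpr ⟨⟨_, hmem y⟩, hφM ⟨y, rfl⟩, rfl⟩
      rw [map_mul, map_mul, map_mul, map_inv, map_inv, mul_inv_eq_one, mul_inv_eq_iff_eq_mul] at h1
      exact h1.symm
    have hle : (Subgroup.center X).map q ≤ Subgroup.center (X ⧸ Y) :=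
      fun z hz => by
        obtain ⟨c, hc, rfl⟩ := hz
        rw [Subgroup.mem_center_iff]
        intro w
        obtain ⟨v, rfl⟩ := QuotientGroup.mk'_surjective Y w
        rw [← map_mul, ← map_mul, Subgroup.mem_center_iff.mp hc v]
    have hne1 : Nat.card ↥((Subgroup.center X).map q) ≠ 1 := by
      intro h1
      rw [Subgroup.card_eq_one, Subgroup.map_eq_bot_iff, QuotientGroup.ker_mk'] at h1
      exact hM.1 (eq_top_iff.mpr fun w _ => hYM ▸ h1 w.2)
    have heq : (Subgroup.center X).map q = Subgroup.center (X ⧸ Y) := by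
      refine Subgroup.eq_of_le_of_card_ge hle ?_
      rw [hcard]
      have hd := Subgroup.card_dvd_of_le hle
      rw [hcard] at hd
      exact (((Nat.dvd_prime Fact.out).mp hd).resolve_left hne1).ge
    rw [← heq] at hxc
    obtain ⟨c, hc, e⟩ := hxc
    refine hx ?_
    have h2 : c⁻¹ * x ∈ Y := QuotientGroup.eq.mp e
    simpa using (Subgroup.center X).mul_mem hc (Subgroup.map_subtype_le _ h2)
  have hker : φ.ker = Subgroup.centralizer ({x} : Set X) := by
    ext y
    rw [MonoidHom.mem_ker, Subgroup.mem_centralizer_singleton_iff]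
    refine ⟨fun h => ?_, fun h => Subtype.ext ?_⟩
    · have h1 : x * y * x⁻¹ * y⁻¹ = 1 := congrArg Subtype.val h
      rw [mul_inv_eq_one, mul_inv_eq_iff_eq_mul] at h1
      exact h1.symm
    · show x * y * x⁻¹ * y⁻¹ = 1
      rw [← h]; group
  refine ⟨?_, Set.ext fun z => ⟨?_, fun hz => ?_⟩⟩
  · rw [← hker, Subgroup.index_ker, hsurj, Subgroup.card_top]
  · rintro ⟨y, rfl⟩; exact hmem y
  · obtain ⟨y, hy⟩ := (hsurj ▸ Subgroup.mem_top (⟨z, hz⟩ : ↥(Subgroup.center X)) : (⟨z, hz⟩ : ↥(Subgroup.center X)) ∈ φ.range)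
    exact ⟨y, (congrArg Subtype.val hy).symm⟩

end Cfsg.Agent.S2907
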