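import Cfsg.Statements.S2908
import Cfsg.Agent.Lib.CoprimeSeries

set_option autoImplicit false
set_option linter.unusedVariables false
open Cfsg
open scoped commutatorElement

namespace Cfsg.Agent.S2908

open scoped Pointwise

/-- Let P be a p-subgroup of a finite group, normalized by a p-subgroup A and by a subgroup B of order prime to p that commutes elementwise with A. If [P, B] ≤ [P, A], then B centralizes P. -/
theorem result {G : Type*} [Group G] [Finite G] {p : ℕ} [Fact p.Prime] (P A B : Subgroup G) (hP : IsPGroup p ↥P) (hA : IsPGroup p ↥A) (hB : ¬ p ∣ Nat.card ↥B) (hnA : A ≤ Subgroup.normalizer (P : Set G)) (hnB : B ≤ Subgroup.normalizer (P : Set G)) (hAB : ⁅A, B⁆ = ⊥) (hcomm : ⁅P, B⁆ ≤ ⁅P, A⁆) : ⁅P, B⁆ = ⊥ := by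
  have hU : IsPGroup p ↥(A ⊔ P) := hA.to_sup_of_normal_right' hP hnA
  have hBA : B ≤ Subgroup.normalizer (A : Set G) := by
    refine Subgroup.le_normalizer_iff.2 fun b hb a ha => ?_
    have h1 := Subgroup.commutator_eq_bot_iff_le_centralizer.1 hAB ha b hb
    rw [h1]; simpa using ha
  have hBU : B ≤ Subgroup.normalizer ((A ⊔ P : Subgroup G) : Set G) :=
    fun b hb => Subgroup.normalizer_inf_normalizer_le_normalizer_sup A P ⟨hBA hb, hnB hb⟩
  have key : ⁅A ⊔ P, B⁆ ≤ (A ⊔ P).lowerCentralSeries 1 := by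
    have e1 : ⁅A ⊔ P, A ⊔ P⁆ ≤ (A ⊔ P).lowerCentralSeries 1 := by
      rw [CfsgLib.Stabilizer.lowerCentralSeries_succ', Subgroup.lowerCentralSeries_zero]
    refine Subgroup.commutator_le.2 fun u hu b hb => e1 (Subgroup.commutator_mono le_sup_right le_sup_left (hcomm ?_))
    have hu' : u ∈ (P : Set G) * (A : Set G) := by
      rw [← Subgroup.coe_mul_of_right_le_normalizer_left P A hnA, sup_comm]; exact hu
    obtain ⟨x, hx, a, ha, rfl⟩ := hu'
    have h1 : a * b * a⁻¹ = b := by
      rw [(Subgroup.commutator_eq_bot_iff_le_centralizer.1 hAB ha b hb).symm]; simp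
    have h2 : ⁅x * a, b⁆ = ⁅x, b⁆ := by
      simp only [commutatorElement_def]
      calc x * a * b * (x * a)⁻¹ * b⁻¹ = x * (a * b * a⁻¹) * x⁻¹ * b⁻¹ := by group
        _ = x * b * x⁻¹ * b⁻¹ := by rw [h1]
    rw [h2]
    exact Subgroup.commutator_mem_commutator hx hb
  refine eq_bot_iff.2 (Subgroup.commutator_le.2 fun x hx b hb => Subgroup.mem_bot.2 ?_)
  have hcop : (orderOf b).Coprime p := by
    refine Nat.Coprime.coprime_dvd_left ?_ ((Fact.out : p.Prime).coprime_iff_not_dvd.2 hB).symm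
    have := orderOf_dvd_natCard (⟨b, hb⟩ : B)
    rwa [Subgroup.orderOf_mk] at this
  exact commutatorElement_eq_one_iff_mul_comm.2
    (CfsgLib.Stabilizer.centralizes_of_mod_derived hU hcop B hb hBU key x (Subgroup.mem_sup_right hx)).symm

end Cfsg.Agent.S2908
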