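import Cfsg.Statements.S2909
import Cfsg.Agent.Lib.Coprime
import Cfsg.Agent.Lib.CoprimeGen
import Cfsg.Agent.Lib.Elementary
-- import your own Cfsg.Agent.* helpers here

set_option autoImplicit false
open Cfsg
open scoped commutatorElement

namespace Cfsg.Agent.S2909

/-- Let p be a prime, E a normal p-subgroup of the finite group G, and U a non-cyclic elementary abelian p-subgroup of G such that either C_E(U) = C_E(u) for every nontrivial u ∈ U, or [E, U] = [E, ⟨u⟩] for every nontrivial u ∈ U. If R is a subgroup of order prime to p normalized by U, then [R, U] centralizes E. -/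
theorem result {G : Type*} [Group G] [Finite G] {p : ℕ} [Fact p.Prime] (E : Subgroup G) [E.Normal] (hE : IsPGroup p ↥E) (U : Subgroup G) (hU : Cfsg.IsElementaryAbelian p U) (hnc : ¬ IsCyclic ↥U) (hcond : (∀ u ∈ U, u ≠ 1 → E ⊓ Subgroup.centralizer (U : Set G) = E ⊓ Subgroup.centralizer ({u} : Set G)) ∨ (∀ u ∈ U, u ≠ 1 → ⁅E, U⁆ = ⁅E, Subgroup.zpowers u⁆)) (R : Subgroup G) (hR : ¬ p ∣ Nat.card ↥R) (hRU : U ≤ Subgroup.normalizer (R : Set G)) : ⁅R, U⁆ ≤ Subgroup.centralizer (E : Set G) := by
  classical
  haveI : IsMulCommutative U := hU.1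
  have hUp : IsPGroup p U := fun u => ⟨1, Subtype.ext (by simpa using hU.2 u u.2)⟩
  have hRc : (Nat.card U).Coprime (Nat.card R) := by
    obtain ⟨k, hk⟩ := hUp.exists_card_eq
    rw [hk]
    exact ((Fact.out : p.Prime).coprime_iff_not_dvd.mpr hR).pow_left k
  haveI hMn : (Subgroup.centralizer (E : Set G)).Normal := inferInstance
  set M := Subgroup.centralizer (E : Set G) with hM
  suffices hXY : ∀ u ∈ U, u ≠ 1 → ⁅R ⊓ Subgroup.centralizer ({u} : Set G), U⁆ ≤ M by
    have hle : R ≤ (Subgroup.centralizer ((U.map (QuotientGroup.mk' M) : Subgroup (G ⧸ M)) : Set (G ⧸ M))).comap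
        (QuotientGroup.mk' M) := by
      conv_lhs => rw [← CfsgLib.coprime_generated_by_centralizers hnc hRU hRc]
      refine iSup₂_le fun u hu => ?_
      intro x hx
      rw [Subgroup.mem_comap, Subgroup.mem_centralizer_iff]
      rintro _ ⟨v, hv, rfl⟩
      have h1 := hXY u hu.1 hu.2 (Subgroup.commutator_mem_commutator hx hv)
      rw [← QuotientGroup.eq_one_iff, ← QuotientGroup.mk'_apply, map_commutatorElement,
        commutatorElement_eq_one_iff_commute] at h1
      exact h1.eq.symm
    rw [Subgroup.commutator_le]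
    intro x hx v hv
    rw [← QuotientGroup.eq_one_iff, ← QuotientGroup.mk'_apply, map_commutatorElement,
      commutatorElement_eq_one_iff_commute]
    exact (Subgroup.mem_centralizer_iff.mp (hle hx) _ ⟨v, hv, rfl⟩).symm
  intro u hu hu1
  set X := R ⊓ Subgroup.centralizer ({u} : Set G) with hX
  set Y := ⁅X, U⁆ with hY
  have hEn : ∀ g : G, ∀ e ∈ E, g * e * g⁻¹ ∈ E := fun g e he => (inferInstance : E.Normal).conj_mem e he g
  have hUcomm : ∀ v ∈ U, v * u = u * v := fun v hv => congrArg Subtype.val (mul_comm' (⟨v, hv⟩ : U) ⟨u, hu⟩)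
  have hUX : U ≤ Subgroup.normalizer (X : Set G) := by
    intro v hv
    rw [Subgroup.mem_normalizer_iff]
    intro x
    simp only [hX, Subgroup.mem_inf, Subgroup.mem_centralizer_singleton_iff]
    rw [Subgroup.mem_normalizer_iff.mp (hRU hv) x]
    refine and_congr_right fun _ => ?_
    constructor
    · intro h
      calc v * x * v⁻¹ * u = v * x * v⁻¹ * (v * u * v⁻¹) := by rw [hUcomm v hv]; group
        _ = v * (x * u) * v⁻¹ := by group
        _ = v * u * x * v⁻¹ := by rw [h]; group
        _ = u * (v * x * v⁻¹) := by rw [hUcomm v hv]; group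
    · intro h
      calc x * u = v⁻¹ * (v * x * v⁻¹ * (v * u * v⁻¹)) * v := by group
        _ = v⁻¹ * (v * x * v⁻¹ * u) * v := by rw [hUcomm v hv, mul_inv_cancel_right]
        _ = v⁻¹ * (u * v * x) := by rw [h]; group
        _ = v⁻¹ * (v * u * x) := by rw [hUcomm v hv]
        _ = u * x := by group
  have hYX : Y ≤ X := CfsgLib.commutator_le_of_le_normalizer hUX
  have hYu : Y ≤ Subgroup.centralizer ({u} : Set G) := hYX.trans inf_le_right
  have hYp : (Nat.card Y).Coprime p :=
    (((Fact.out : p.Prime).coprime_iff_not_dvd.mpr hR).symm).coprime_dvd_left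
      (Subgroup.card_dvd_of_le (hYX.trans inf_le_left))
  set P := Subgroup.zpowers u with hP
  have hPY : P ≤ Subgroup.centralizer (Y : Set G) := Subgroup.zpowers_le.mpr
    (Subgroup.mem_centralizer_iff.mpr fun y hy => Subgroup.mem_centralizer_singleton_iff.mp (hYu hy))
  have hPp : IsPGroup p P := hUp.to_le (Subgroup.zpowers_le.mpr hu)
  have hEall : ∀ H : Subgroup G, H ≤ Subgroup.normalizer (E : Set G) := fun H => by
    rw [Subgroup.normalizer_eq_top_iff.mpr inferInstance]; exact le_top
  rcases hcond with hc | hc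
  · -- equal centralisers
    refine CfsgLib.thompson_PxQ hPp hYp hPY E hE (hEall P) (hEall Y) ?_
    rintro c ⟨hcE, hcP⟩
    have hmemC : ∀ c, c ∈ E → c * u = u * c → ∀ v ∈ U, v * c = c * v := by
      intro c hcE hcu v hv
      have : c ∈ E ⊓ Subgroup.centralizer (U : Set G) := by
        rw [hc u hu hu1]
        exact ⟨hcE, Subgroup.mem_centralizer_singleton_iff.mpr hcu⟩
      exact Subgroup.mem_centralizer_iff.mp this.2 v hv
    have hcu : c * u = u * c := (Subgroup.mem_centralizer_iff.mp hcP u (Subgroup.mem_zpowers u)).symm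
    have hcY : Y ≤ Subgroup.centralizer ({c} : Set G) := by
      rw [hY, Subgroup.commutator_le]
      intro x hx v hv
      have hxu : x * u = u * x := Subgroup.mem_centralizer_singleton_iff.mp hx.2
      have h1 := hmemC (x⁻¹ * c * x) (by simpa using hEn x⁻¹ c hcE) (by
        calc x⁻¹ * c * x * u = x⁻¹ * c * (x * u) := by group
          _ = x⁻¹ * (c * u) * x := by rw [hxu]; group
          _ = x⁻¹ * u * c * x := by rw [hcu]; group
          _ = x⁻¹ * (u * x) * (x⁻¹ * c * x) := by group
          _ = u * (x⁻¹ * c * x) := by rw [← hxu]; group) v hv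
      have h2 := hmemC c hcE hcu v hv
      rw [Subgroup.mem_centralizer_singleton_iff]
      calc ⁅x, v⁆ * c = x * v * x⁻¹ * (v⁻¹ * (c * v) * v⁻¹) := by rw [commutatorElement_def]; group
        _ = x * v * x⁻¹ * (v⁻¹ * (v * c) * v⁻¹) := by rw [← h2]
        _ = x * (v * (x⁻¹ * c * x)) * x⁻¹ * v⁻¹ := by group
        _ = x * (x⁻¹ * c * x * v) * x⁻¹ * v⁻¹ := by rw [h1]
        _ = c * ⁅x, v⁆ := by rw [commutatorElement_def]; group
    exact Subgroup.mem_centralizer_iff.mpr fun y hy =>
      Subgroup.mem_centralizer_singleton_iff.mp (hcY hy)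
  · -- equal commutators
    set W := ⁅E, U⁆ with hW
    have hWP : W = ⁅E, P⁆ := hc u hu hu1
    have hWE : W ≤ E := CfsgLib.commutator_le_of_le_normalizer (hEall U)
    have hEW : E ≤ Subgroup.normalizer (W : Set G) := CfsgLib.left_le_normalizer_commutator U E
    have hUW : U ≤ Subgroup.normalizer (W : Set G) := CfsgLib.right_le_normalizer_commutator U E
    have hxW : ∀ x, x * u = u * x → ∀ w ∈ W, x * w * x⁻¹ ∈ W := by
      intro x hx w hw
      rw [hWP] at hw ⊢
      have h1 : (⁅E, P⁆).map (MulAut.conj x).toMonoidHom ≤ ⁅E, P⁆ := by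
        rw [Subgroup.map_commutator]
        refine Subgroup.commutator_mono (fun e he => ?_) (fun q hq => ?_)
        · obtain ⟨e', he', rfl⟩ := he
          exact hEn x e' he'
        · obtain ⟨q', ⟨i, rfl⟩, rfl⟩ := hq
          refine ⟨i, ?_⟩
          show u ^ i = x * u ^ i * x⁻¹
          rw [((show Commute x u from hx).zpow_right i).eq, mul_inv_cancel_right]
      exact h1 ⟨w, hw, rfl⟩
    have hXW : X ≤ Subgroup.normalizer (W : Set G) := by
      intro x hx
      have hxu : x * u = u * x := Subgroup.mem_centralizer_singleton_iff.mp hx.2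
      rw [Subgroup.mem_normalizer_iff]
      refine fun w => ⟨hxW x hxu w, fun hw => ?_⟩
      have := hxW x⁻¹ ((show Commute x u from hxu).inv_left).eq _ hw
      simpa [mul_assoc] using this
    have hgen : ∀ y ∈ Y, y ∈ Subgroup.normalizer (W : Set G) ∧ ∀ k ∈ E, y * k * y⁻¹ * k⁻¹ ∈ W := by
      let S : Subgroup G :=
        { carrier := {y | y ∈ Subgroup.normalizer (W : Set G) ∧ ∀ k ∈ E, y * k * y⁻¹ * k⁻¹ ∈ W}
          one_mem' := ⟨one_mem _, fun k _ => by simpa using W.one_mem⟩
          mul_mem' := fun {a b} ha hb => ⟨mul_mem ha.1 hb.1, fun k hk => by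
            rw [show a * b * k * (a * b)⁻¹ * k⁻¹ = a * (b * k * b⁻¹ * k⁻¹) * a⁻¹ * (a * k * a⁻¹ * k⁻¹) by group]
            exact W.mul_mem ((Subgroup.mem_normalizer_iff.mp ha.1 _).mp (hb.2 k hk)) (ha.2 k hk)⟩
          inv_mem' := fun {a} ha => ⟨inv_mem ha.1, fun k hk => by
            rw [show a⁻¹ * k * a⁻¹⁻¹ * k⁻¹ = a⁻¹ * (a * k * a⁻¹ * k⁻¹)⁻¹ * a⁻¹⁻¹ by group]
            exact (Subgroup.mem_normalizer_iff.mp (inv_mem ha.1) _).mp (W.inv_mem (ha.2 k hk))⟩ }
      have hle : Y ≤ S := by
        rw [hY, Subgroup.commutator_le]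
        intro x hx v hv
        have hn : ⁅x, v⁆ ∈ Subgroup.normalizer (W : Set G) := by
          rw [commutatorElement_def]
          exact mul_mem (mul_mem (mul_mem (hXW hx) (hUW hv)) (inv_mem (hXW hx))) (inv_mem (hUW hv))
        refine ⟨hn, fun k hk => ?_⟩
        -- modulo `W`
        set k' := x⁻¹ * k * x with hk'
        have hk'E : k' ∈ E := by simpa using hEn x⁻¹ k hk
        have a1 : v⁻¹ * k * v * k⁻¹ ∈ W := by
          have := inv_mem (Subgroup.commutator_mem_commutator hk (inv_mem hv) : ⁅k, v⁻¹⁆ ∈ W)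
          simpa [commutatorElement_def, mul_assoc] using this
        have a2 : v * k' * v⁻¹ * k'⁻¹ ∈ W := by
          have := inv_mem (Subgroup.commutator_mem_commutator hk'E hv : ⁅k', v⁆ ∈ W)
          simpa [commutatorElement_def, mul_assoc] using this
        have hxv : x * v ∈ Subgroup.normalizer (W : Set G) := mul_mem (hXW hx) (hUW hv)
        have b1 := (Subgroup.mem_normalizer_iff.mp (mul_mem hxv (inv_mem (hXW hx))) _).mp a1
        have b2 := (Subgroup.mem_normalizer_iff.mp (hXW hx) _).mp a2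
        have := W.mul_mem b1 b2
        refine Eq.mp (congrArg (· ∈ W) ?_) this
        rw [commutatorElement_def, hk']
        group
      exact fun y hy => hle hy
    have hcop : (Nat.card Y).Coprime (Nat.card E) := by
      obtain ⟨k, hk⟩ := hE.exists_card_eq
      rw [hk]; exact hYp.pow_right k
    set L := E ⊓ Subgroup.centralizer (Y : Set G) with hL
    have hdec : ∀ k ∈ E, ∃ c ∈ L, k⁻¹ * c ∈ W := by
      intro k hk
      exact CfsgLib.coprime_fixed_quotient (hEall Y) hcop
        (Or.inr (haveI := hE.isNilpotent; inferInstance : Group.IsSolvable E)) hWE hEW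
        (fun y hy => (hgen y hy).1) hk (fun y hy => (hgen y hy).2 k hk)
    have hLY : L ⊔ P ≤ Subgroup.centralizer (Y : Set G) := sup_le inf_le_right hPY
    have hTp : IsPGroup p (E ⊔ P : Subgroup G) := IsPGroup.to_sup_of_normal_left' hE hPp (hEall P)
    set T := E ⊔ P with hT
    haveI : Group.IsNilpotent T := hTp.isNilpotent
    have hWΦ : W.subgroupOf T ≤ frattini T := by
      have h1 : W.subgroupOf T ≤ ⁅(⊤ : Subgroup T), ⊤⁆ := by
        rw [← Subgroup.map_subtype_le_map_subtype, Subgroup.map_commutator, ← MonoidHom.range_eq_map,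
          Subgroup.range_subtype, Subgroup.map_subgroupOf_eq_of_le (hWE.trans le_sup_left), hWP]
        exact Subgroup.commutator_mono le_sup_left le_sup_right
      exact h1.trans (CfsgLib.commutator_le_frattini_pGroup hTp)
    have htop : ((L ⊔ P).subgroupOf T) ⊔ frattini T = ⊤ := by
      rw [eq_top_iff]
      refine le_trans ?_ (sup_le_sup_left hWΦ _)
      rw [← Subgroup.map_subtype_le_map_subtype, Subgroup.map_sup, ← MonoidHom.range_eq_map,
        Subgroup.range_subtype, Subgroup.map_subgroupOf_eq_of_le (sup_le_sup_right inf_le_left _),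
        Subgroup.map_subgroupOf_eq_of_le (hWE.trans le_sup_left)]
      refine sup_le (fun k hk => ?_) (le_sup_right.trans le_sup_left)
      obtain ⟨c, hc, hkc⟩ := hdec k hk
      rw [show k = c * (k⁻¹ * c)⁻¹ by group]
      exact Subgroup.mul_mem_sup (Subgroup.mem_sup_left hc) (W.inv_mem hkc)
    have hall := frattini_nongenerating htop
    rw [Subgroup.subgroupOf_eq_top] at hall
    exact Subgroup.le_centralizer_iff.mp ((le_sup_left : E ≤ T).trans (hall.trans hLY))

end Cfsg.Agent.S2909
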