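import Cfsg.Statements.S2912
import Cfsg.Agent.Lib.ExtraspecialFaithful
-- import your own Cfsg.Agent.* helpers here

set_option autoImplicit false
open Cfsg
open scoped commutatorElement

namespace Cfsg.Agent.S2912

/-- Let p and r be distinct primes, let E be an extraspecial subgroup of order p^(2w+1) of a finite group, and let A be an elementary abelian r-subgroup normalized by E on which E acts faithfully (C_E(A) = 1). If n ≥ 1 is least with p dividing rⁿ − 1 (the smallest dimension of a faithful representation of a group of order p over the field with r elements), then the order of A is at least r^(n·p^w). -/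
theorem result {G : Type*} [Group G] [Finite G] {p r : ℕ} [Fact p.Prime] [hr : Fact r.Prime] (hpr : p ≠ r) (E A : Subgroup G) (w : ℕ) (hE : Cfsg.IsExtraspecial p ↥E) (hEcard : Nat.card ↥E = p ^ (2 * w + 1)) (hA : Cfsg.IsElementaryAbelian r A) (hnorm : E ≤ Subgroup.normalizer (A : Set G)) (hfaith : E ⊓ Subgroup.centralizer (A : Set G) = ⊥) (n : ℕ) (hn : 1 ≤ n) (hdiv : p ∣ r ^ n - 1) (hmin : ∀ k : ℕ, 1 ≤ k → p ∣ r ^ k - 1 → n ≤ k) : r ^ (n * p ^ w) ≤ Nat.card ↥A := by
  classical
  have hp := (Fact.out : p.Prime)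
  obtain ⟨hsp, hcz⟩ := hE
  obtain ⟨z, hz⟩ : ∃ z : E, Subgroup.zpowers z = Subgroup.center E := by
    haveI : IsCyclic (Subgroup.center E) := isCyclic_of_prime_card hcz
    obtain ⟨g, hg⟩ := IsCyclic.exists_generator (α := Subgroup.center E)
    refine ⟨g, le_antisymm (Subgroup.zpowers_le.mpr g.2) fun c hc => ?_⟩
    obtain ⟨i, hi⟩ := hg ⟨c, hc⟩
    exact ⟨i, congrArg Subtype.val hi⟩
  have hzp : orderOf z = p := by rw [← Nat.card_zpowers, hz]; exact hcz
  have hzC : ∀ g : E, Commute g z := fun g => Subgroup.mem_center_iff.mp (hz ▸ Subgroup.mem_zpowers z) g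
  have hcomm : ∀ g h : E, ⁅g, h⁆ ∈ Subgroup.zpowers z := fun g h => by
    have hle : commutator E ≤ Subgroup.center E := by
      exact hsp.2.2.le
    rw [hz]
    exact hle (Subgroup.commutator_mem_commutator (Subgroup.mem_top g) (Subgroup.mem_top h))
  have hcen : ∀ g : E, (∀ h, Commute g h) → g ∈ Subgroup.zpowers z := fun g hg => by
    rw [hz]; exact Subgroup.mem_center_iff.mpr fun h => (hg h).symm.eq
  haveI : IsMulCommutative A := hA.1
  let φ : E →* MulAut A :=
    { toFun := fun g =>
        { toFun := fun a => ⟨g * a * (g : G)⁻¹, (Subgroup.mem_normalizer_iff.mp (hnorm g.2) a).mp a.2⟩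
          invFun := fun a => ⟨(g : G)⁻¹ * a * g, by
            have := (Subgroup.mem_normalizer_iff.mp (inv_mem (hnorm g.2)) a).mp a.2
            rwa [inv_inv] at this⟩
          left_inv := fun a => Subtype.ext (by simp [mul_assoc])
          right_inv := fun a => Subtype.ext (by simp [mul_assoc])
          map_mul' := fun a b => Subtype.ext (by simp [mul_assoc]) }
      map_one' := MulEquiv.ext fun a => Subtype.ext (by simp)
      map_mul' := fun g h => MulEquiv.ext fun a => Subtype.ext (by simp [mul_assoc]) }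
  let _iC : CommGroup A := { (inferInstance : Group A) with mul_comm := mul_comm' }
  set ζ := φ z with hζdef
  have hζp : ζ ^ p = 1 := by rw [hζdef, ← map_pow, ← hzp, pow_orderOf_eq_one, map_one]
  let W : Subgroup A := (CfsgLib.ExtraFaithful.norm p ζ).ker
  have hmulA : ∀ a b : E, ∀ v, φ (a * b) v = φ a (φ b v) := fun a b v => by rw [map_mul]; rfl
  have hWinv : ∀ g : E, ∀ v ∈ W, φ g v ∈ W := by
    intro g v hv
    rw [MonoidHom.mem_ker] at hv ⊢
    have h1 : φ g (CfsgLib.ExtraFaithful.norm p ζ v) = CfsgLib.ExtraFaithful.norm p ζ (φ g v) := by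
      show φ g (∏ i ∈ Finset.range p, (ζ ^ i) v) = ∏ i ∈ Finset.range p, (ζ ^ i) (φ g v)
      rw [map_prod]
      refine Finset.prod_congr rfl fun i _ => ?_
      rw [hζdef, ← map_pow, ← hmulA, ← hmulA, ((hzC g).pow_right i).eq]
    rw [← h1, hv, map_one]
  let ψ : E →* MulAut W :=
    { toFun := fun g =>
        { toFun := fun v => ⟨φ g v, hWinv g v v.2⟩
          invFun := fun v => ⟨φ g⁻¹ v, hWinv _ v v.2⟩
          left_inv := fun v => Subtype.ext (by
            show φ g⁻¹ (φ g v) = v
            rw [← hmulA, inv_mul_cancel, map_one]; rfl)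
          right_inv := fun v => Subtype.ext (by
            show φ g (φ g⁻¹ v) = v
            rw [← hmulA, mul_inv_cancel, map_one]; rfl)
          map_mul' := fun a b => Subtype.ext (map_mul _ _ _) }
      map_one' := MulEquiv.ext fun v => Subtype.ext (by show φ 1 (v : A) = v; rw [map_one]; rfl)
      map_mul' := fun a b => MulEquiv.ext fun v => Subtype.ext (hmulA a b v) }
  haveI : Nontrivial W := by
    obtain ⟨a, ha⟩ : ∃ a : A, ζ a ≠ a := by
      by_contra hn
      push Not at hn
      have h1 : (z : G) ∈ E ⊓ Subgroup.centralizer (A : Set G) := ⟨z.2, Subgroup.mem_centralizer_iff.mpr fun b hb => by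
        have := congrArg Subtype.val (hn ⟨b, hb⟩)
        exact (mul_inv_eq_iff_eq_mul.mp this).symm⟩
      rw [hfaith, Subgroup.mem_bot] at h1
      rw [show z = 1 from Subtype.ext h1, orderOf_one] at hzp
      exact hp.one_lt.ne hzp
    have hnf := CfsgLib.ExtraFaithful.norm_fixed hζp a
    have hNζ : CfsgLib.ExtraFaithful.norm p ζ (ζ a) = CfsgLib.ExtraFaithful.norm p ζ a := by
      have hcm : ∀ i : ℕ, (ζ ^ i) (ζ a) = ζ ((ζ ^ i) a) := fun i =>
        congrArg (fun f : MulAut A => f a) ((Commute.self_pow ζ i).eq.symm)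
      conv_rhs => rw [← hnf]
      show ∏ i ∈ Finset.range p, (ζ ^ i) (ζ a) = ζ (∏ i ∈ Finset.range p, (ζ ^ i) a)
      rw [map_prod]
      exact Finset.prod_congr rfl fun i _ => hcm i
    have hmem : ζ a * a⁻¹ ∈ W := by
      rw [MonoidHom.mem_ker, map_mul, map_inv, hNζ, mul_inv_cancel]
    refine ⟨⟨⟨_, hmem⟩, 1, fun h => ha ?_⟩⟩
    exact mul_inv_eq_one.mp (congrArg Subtype.val h)
  have hWr : ∀ v : W, v ^ r = 1 := fun v => Subtype.ext (Subtype.ext (by
    simpa using hA.2 _ (v : A).2))
  have hfix : ∀ v, ψ z v = v → v = 1 := by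
    intro v hv
    have h1 : ζ (v : A) = v := congrArg Subtype.val hv
    have hkey : ∀ i : ℕ, (ζ ^ i) (v : A) = v := by
      intro i
      induction i with
      | zero => rfl
      | succ i ih => rw [pow_succ']; show ζ ((ζ ^ i) (v : A)) = v; rw [ih, h1]
    have h2 : (v : A) ^ p = 1 := by
      have h3 : ∏ i ∈ Finset.range p, (ζ ^ i) (v : A) = 1 := v.2
      rwa [Finset.prod_congr rfl fun i _ => hkey i, Finset.prod_const, Finset.card_range] at h3
    have h4 : orderOf v ∣ Nat.gcd p r :=
      Nat.dvd_gcd (orderOf_dvd_of_pow_eq_one (Subtype.ext h2)) (orderOf_dvd_of_pow_eq_one (hWr v))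
    rw [(Nat.coprime_primes hp hr.out).mpr hpr, Nat.dvd_one, orderOf_eq_one_iff] at h4
    exact h4
  have hn2 : p = 2 → n ≤ 1 := fun h2 => hmin 1 le_rfl (by
    subst h2
    rw [pow_one]
    have := hr.out.odd_of_ne_two (Ne.symm hpr)
    obtain ⟨t, ht⟩ := this
    omega)
  have hb := CfsgLib.ExtraFaithful.bound hpr hmin hn2 w E z hEcard hzp hzC hcomm hcen W hWr ψ hfix
  exact hb.trans (Subgroup.card_le_card_group W)

end Cfsg.Agent.S2912
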