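import Cfsg.Statements.S2913
import Cfsg.Agent.S5523
import Cfsg.Agent.Lib.McLThree.Weak.Local
import Cfsg.Agent.Lib.McLThree.Weak.FStar

set_option autoImplicit false
open Cfsg

namespace Cfsg.Agent.S2913

/-- Let G be a finite group with O_{3'}(G) = 1, Z ≤ G a subgroup of order 3, M = C_G(Z), S a Sylow 3-subgroup of M and J an elementary abelian subgroup of S of order 3⁴. Suppose Q = F*(M) is extraspecial of order 3⁵ and exponent 3, F*(M ⧸ Q) ≅ SL₂(5), J = F*(N_G(J)), and the subgroup of N_G(J) ⧸ J generated by its 3-elements is isomorphic to the alternating group of degree 6. Then F*(G) is isomorphic to the McLaughlin group. -/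
theorem result {G : Type*} [Group G] [Finite G] (hO : Cfsg.pPrimeCore 3 G = ⊥) (Z : Subgroup G) (hZ : Nat.card ↥Z = 3) (S : Sylow 3 ↥(Subgroup.centralizer (Z : Set G))) (J : Subgroup G) (hJS : J ≤ ((S : Subgroup ↥(Subgroup.centralizer (Z : Set G))).map (Subgroup.centralizer (Z : Set G)).subtype)) (hJ : Cfsg.IsElementaryAbelian 3 J) (hJcard : Nat.card ↥J = 3 ^ 4) (hQ : Cfsg.IsExtraspecial 3 ↥(Cfsg.generalizedFittingSubgroup ↥(Subgroup.centralizer (Z : Set G)))) (hQcard : Nat.card ↥(Cfsg.generalizedFittingSubgroup ↥(Subgroup.centralizer (Z : Set G))) = 3 ^ 5) [hQn : (Cfsg.generalizedFittingSubgroup ↥(Subgroup.centralizer (Z : Set G))).Normal] (hexp : ∀ x ∈ Cfsg.generalizedFittingSubgroup ↥(Subgroup.centralizer (Z : Set G)), x ^ 3 = 1) (hFMQ : Nonempty (↥(Cfsg.generalizedFittingSubgroup (↥(Subgroup.centralizer (Z : Set G)) ⧸ Cfsg.generalizedFittingSubgroup ↥(Subgroup.centralizer (Z : Set G)))) ≃* Matrix.SpecialLinearGroup (Fin 2)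 (ZMod 5))) (hJF : ((Cfsg.generalizedFittingSubgroup ↥(Subgroup.normalizer (J : Set G))).map (Subgroup.normalizer (J : Set G)).subtype) = J) [hJn : (J.subgroupOf (Subgroup.normalizer (J : Set G))).Normal] (hA6 : Nonempty (↥(Subgroup.closure {x : ↥(Subgroup.normalizer (J : Set G)) ⧸ J.subgroupOf (Subgroup.normalizer (J : Set G)) | ∃ k : ℕ, orderOf x = 3 ^ k}) ≃* ↥(alternatingGroup (Fin 6)))) : Cfsg.Spor.IsoMcL ↥(Cfsg.generalizedFittingSubgroup G) := by
  obtain ⟨eA⟩ := hA6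
  obtain ⟨eE⟩ := hFMQ
  refine CfsgLib.McLThree.Weak.fstar_of_iso ?_
  set Qg := CfsgLib.McLThree.Weak.Qc Z
  have hQP := CfsgLib.McLThree.Weak.Qc_isP hZ hQ
  obtain ⟨SG', hSG'⟩ : ∃ P : Sylow 3 G, (P : Subgroup G) = CfsgLib.McLThree.Weak.SG S := by
    obtain ⟨P, hP⟩ := (S.2.map (Subgroup.centralizer (Z : Set G)).subtype).exists_le_sylow
    exact ⟨P, CfsgLib.McLThree.Weak.SG_max hZ hQ S P.2 hP⟩
  have hZS : Z = (SG' : Subgroup G) ⊓ Subgroup.centralizer ((SG' : Subgroup G) : Set G) := by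
    rw [hSG']; exact CfsgLib.McLThree.Weak.SG_centre hZ hQ S
  set N := Subgroup.normalizer (J : Set G)
  have hJN : J ≤ N := Subgroup.le_normalizer
  -- the subgroup over the alternating group
  set M₀ := Subgroup.closure {g : G | g ∈ N ∧ ∃ k : ℕ, orderOf g = 3 ^ k} with hM₀
  have hM₀N : M₀ ≤ N := (Subgroup.closure_le _).2 fun g hg => hg.1
  have hJM : J ≤ M₀ := fun a ha => Subgroup.subset_closure ⟨hJN ha, CfsgLib.McLThree.Weak.three_pow_order.2
    ⟨1, by rw [pow_one]; exact hJ.2 a ha⟩⟩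
  haveI : (J.subgroupOf M₀).Normal := (Subgroup.normal_subgroupOf_iff_le_normalizer hJM).2 hM₀N
  have hrM := CfsgLib.McLThree.Weak.three_closure_quot N (T := J.subgroupOf N)
    (P := {g : G | g ∈ N ∧ ∃ k : ℕ, orderOf g = 3 ^ k})
    (fun g => and_congr_right fun _ => CfsgLib.McLThree.Weak.three_pow_order) hM₀N
  set fM := (QuotientGroup.mk' (J.subgroupOf N)).comp (Subgroup.inclusion hM₀N)
  have hkM : fM.ker = J.subgroupOf M₀ := by
    ext x
    exact (QuotientGroup.eq_one_iff _).trans Subgroup.mem_subgroupOf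
  let eM : M₀ ⧸ J.subgroupOf M₀ ≃* alternatingGroup (Fin 6) :=
    (((QuotientGroup.quotientMulEquivOfEq hkM.symm).trans (QuotientGroup.quotientKerEquivRange fM)).trans
      (MulEquiv.subgroupCongr hrM)).trans eA
  -- the subgroup over the covering group of the alternating group of degree five
  set L₀ := Subgroup.closure {g : G | g ∈ Subgroup.normalizer (Z : Set G) ∧ ∃ k : ℕ, orderOf g = 3 ^ k} with hL₀
  have hmem : ∀ g : G, (g ∈ Subgroup.normalizer (Z : Set G) ∧ ∃ k : ℕ, orderOf g = 3 ^ k) ↔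
      g ∈ (Subgroup.centralizer (Z : Set G)) ∧ ∃ k : ℕ, g ^ 3 ^ k = 1 := fun g => ⟨fun ⟨h1, h2⟩ => by
        obtain ⟨k, hk⟩ := CfsgLib.McLThree.Weak.three_pow_order.1 h2
        exact ⟨CfsgLib.McLThree.Weak.three_cent hZ h1 hk, k, hk⟩,
      fun ⟨h1, h2⟩ => ⟨CfsgLib.McLThree.Weak.cent_le_norm Z h1, CfsgLib.McLThree.Weak.three_pow_order.2 h2⟩⟩
  have hL₀M : L₀ ≤ (Subgroup.centralizer (Z : Set G)) := (Subgroup.closure_le _).2 fun g hg => ((hmem g).1 hg).1
  have hQL : Qg ≤ L₀ := fun a ha => by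
    obtain ⟨k, hk⟩ := hQP ⟨a, ha⟩
    exact Subgroup.subset_closure ((hmem a).2 ⟨Subgroup.map_subtype_le _ ha, k, congrArg Subtype.val hk⟩)
  haveI : (Qg.subgroupOf L₀).Normal := (Subgroup.normal_subgroupOf_iff_le_normalizer hQL).2
    ((hL₀M.trans (CfsgLib.McLThree.Weak.cent_le_norm Z)).trans (CfsgLib.McLThree.Weak.norm_Qc Z))
  have hrL := CfsgLib.McLThree.Weak.three_closure_quot (Subgroup.centralizer (Z : Set G)) (T := Cfsg.generalizedFittingSubgroup (Subgroup.centralizer (Z : Set G)))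
    (P := {g : G | g ∈ Subgroup.normalizer (Z : Set G) ∧ ∃ k : ℕ, orderOf g = 3 ^ k}) hmem hL₀M
  rw [CfsgLib.McLThree.Weak.closure_three_copy _ CfsgLib.centralizer_generalizedFitting_le eE] at hrL
  set fL := (QuotientGroup.mk' (Cfsg.generalizedFittingSubgroup (Subgroup.centralizer (Z : Set G)))).comp (Subgroup.inclusion hL₀M)
  have hkL : fL.ker = Qg.subgroupOf L₀ := by
    ext x
    refine (QuotientGroup.eq_one_iff _).trans ?_
    rw [Subgroup.mem_subgroupOf]
    refine ⟨fun h => ⟨_, h, rfl⟩, ?_⟩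
    rintro ⟨v, hv, e⟩
    rwa [show Subgroup.inclusion hL₀M x = v from Subtype.ext e.symm]
  let eL : L₀ ⧸ Qg.subgroupOf L₀ ≃* Matrix.SpecialLinearGroup (Fin 2) (ZMod 5) :=
    (((QuotientGroup.quotientMulEquivOfEq hkL.symm).trans (QuotientGroup.quotientKerEquivRange fL)).trans
      (MulEquiv.subgroupCongr hrL)).trans eE
  let eQ := (Cfsg.generalizedFittingSubgroup (Subgroup.centralizer (Z : Set G))).equivMapOfInjective (Subgroup.centralizer (Z : Set G)).subtype (Subgroup.centralizer (Z : Set G)).subtype_injective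
  refine Cfsg.Agent.S5523.result SG' Z hZS J (by rw [hSG']; exact hJS) hJ.1 hJ.2 hJcard M₀ hM₀ hJM eM L₀ hL₀ Qg
    (CfsgLib.McLThree.Weak.Qc_eq_pCore hZ hQ) (CfsgLib.McLThree.Weak.extraspecial_of_equiv eQ hQ)
    ((Nat.card_congr eQ.toEquiv).symm.trans hQcard) ?_ hQL eL ?_
  · rintro _ ⟨v, hv, rfl⟩
    exact congrArg Subtype.val (hexp v hv)
  · rw [CfsgLib.McLThree.Weak.pCore_cent hZ hQ]
    exact CfsgLib.McLThree.Weak.cent_Qc hZ hQ

end Cfsg.Agent.S2913
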