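import Cfsg.Statements.S2914
import Cfsg.Agent.Lib.Fi23Loc.Main
import Cfsg.Agent.Lib.Fi23Loc.Parity

set_option autoImplicit false
open Cfsg

namespace Cfsg.Agent.S2914

/-- Let G be a finite group with O_{3'}(G) = 1, S a Sylow 3-subgroup, Z ≤ S of order 3 and M = C_G(Z). Suppose Q = F*(M) is extraspecial of order 3⁹ and exponent 3; F*(M ⧸ Q) = O₂(M ⧸ Q) is extraspecial of order 2⁷ of minus type (no elementary abelian subgroup of order 2⁴); (M ⧸ Q) ⧸ O₂(M ⧸ Q) is isomorphic to the centralizer in PSp₄(3) of an element of order 3 whose centralizer contains a Sylow 3-subgroup; and Z is not weakly closed in S. Then G is isomorphic to the Fischer group Fi₂₃. -/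
theorem result {G : Type*} [Group G] [Finite G] (hO : Cfsg.pPrimeCore 3 G = ⊥) (S : Sylow 3 G) (Z : Subgroup G) (hZS : Z ≤ (S : Subgroup G)) (hZ : Nat.card ↥Z = 3) (hQ : Cfsg.IsExtraspecial 3 ↥(Cfsg.generalizedFittingSubgroup ↥(Subgroup.centralizer (Z : Set G)))) (hQcard : Nat.card ↥(Cfsg.generalizedFittingSubgroup ↥(Subgroup.centralizer (Z : Set G))) = 3 ^ 9) [hQn : (Cfsg.generalizedFittingSubgroup ↥(Subgroup.centralizer (Z : Set G))).Normal] (hexp : ∀ x ∈ Cfsg.generalizedFittingSubgroup ↥(Subgroup.centralizer (Z : Set G)), x ^ 3 = 1) (hFR : Cfsg.generalizedFittingSubgroup (↥(Subgroup.centralizer (Z : Set G)) ⧸ Cfsg.generalizedFittingSubgroup ↥(Subgroup.centralizer (Z : Set G))) = Cfsg.pCore 2 (↥(Subgroup.centralizer (Z : Set G)) ⧸ Cfsg.generalizedFittingSubgroup ↥(Subgroup.centralizer (Z : Set G)))) (hR : Cfsg.IsExtraspecial 2 ↥(Cfsg.pCore 2 (↥(Subgroup.centralizer (Z : Set G)) ⧸ Cfsg.generalizedFittingSubgroup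 ↥(Subgroup.centralizer (Z : Set G))))) (hRcard : Nat.card ↥(Cfsg.pCore 2 (↥(Subgroup.centralizer (Z : Set G)) ⧸ Cfsg.generalizedFittingSubgroup ↥(Subgroup.centralizer (Z : Set G)))) = 2 ^ 7) (hRminus : ∀ A : Subgroup ↥(Cfsg.pCore 2 (↥(Subgroup.centralizer (Z : Set G)) ⧸ Cfsg.generalizedFittingSubgroup ↥(Subgroup.centralizer (Z : Set G)))), Cfsg.IsElementaryAbelian 2 A → Nat.card ↥A ≤ 2 ^ 3) [hRn : (Cfsg.pCore 2 (↥(Subgroup.centralizer (Z : Set G)) ⧸ Cfsg.generalizedFittingSubgroup ↥(Subgroup.centralizer (Z : Set G)))).Normal] (hTop : ∃ (F : Type) (_ : Field F) (_ : Fintype F) (x : Cfsg.PSp 2 F), Fintype.card F = 3 ∧ orderOf x = 3 ∧ (∃ P : Sylow 3 (Cfsg.PSp 2 F), (P : Subgroup (Cfsg.PSp 2 F)) ≤ Subgroup.centralizer ({x} : Set (Cfsg.PSp 2 F))) ∧ Nonempty (((↥(Subgroup.centralizer (Z : Set G)) ⧸ Cfsg.generalizedFittingSubgroup ↥(Subgroup.centralizer (Z : Set G))) ⧸ Cfsg.pCore 2 (↥(Subgroup.centralizer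 (Z : Set G)) ⧸ Cfsg.generalizedFittingSubgroup ↥(Subgroup.centralizer (Z : Set G)))) ≃* ↥(Subgroup.centralizer ({x} : Set (Cfsg.PSp 2 F))))) (hwc : ∃ g : G, (Z.map (MulAut.conj g).toMonoidHom) ≤ (S : Subgroup G) ∧ Z.map (MulAut.conj g).toMonoidHom ≠ Z) : Cfsg.Spor.IsoFi23 G := by
  obtain ⟨F, iF, iF', x, hF, hx, hP, ⟨iso⟩⟩ := hTop
  obtain ⟨D⟩ := CfsgLib.Fi23Loc.exists_setting S Z hZS hZ rfl _ rfl hQ hQcard hexp _ hFR hR hRcard x hF hx hP iso hwc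
  exact D.iso_Fi23

end Cfsg.Agent.S2914
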