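import Cfsg.Statements.S2917
import Cfsg.Agent.Lib.G23Two.Build
import Cfsg.Agent.Lib.G23Two.Final
import Cfsg.Agent.Lib.G23Two.Chev
import Cfsg.Agent.S3393

set_option autoImplicit false
open Cfsg

namespace Cfsg.Agent.S2917

/-- Let G be a finite group with subgroups H and M such that: H has normal subgroups H₁, H₂ both isomorphic to SL₂(3) with H₁ ∩ H₂ = Z(H₁) = Z(H₂), the product H₁H₂ has index 2 in H, and H = C_G(H₁ ∩ H₂); and M ⧸ O₂(M) ≅ SL₃(2) with O₂(M) elementary abelian of order 8 containing Z(H₁). Then G is isomorphic to the Chevalley group G₂(3). -/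
theorem result {G : Type*} [Group G] [Finite G] (H H₁ H₂ M : Subgroup G) (h1 : H₁ ≤ H) (h2 : H₂ ≤ H) (hn1 : (H₁.subgroupOf H).Normal) (hn2 : (H₂.subgroupOf H).Normal) (hiso1 : Nonempty (↥H₁ ≃* Matrix.SpecialLinearGroup (Fin 2) (ZMod 3))) (hiso2 : Nonempty (↥H₂ ≃* Matrix.SpecialLinearGroup (Fin 2) (ZMod 3))) (hidx : (H₁ ⊔ H₂).relIndex H = 2) (hint1 : H₁ ⊓ H₂ = H₁ ⊓ Subgroup.centralizer (H₁ : Set G)) (hint2 : H₁ ⊓ H₂ = H₂ ⊓ Subgroup.centralizer (H₂ : Set G)) (hHC : H = Subgroup.centralizer ((H₁ ⊓ H₂ : Subgroup G) : Set G)) [hOM : (Cfsg.pCore 2 ↥M).Normal] (hM : Nonempty ((↥M ⧸ Cfsg.pCore 2 ↥M) ≃* Matrix.SpecialLinearGroup (Fin 3) (ZMod 2))) (hOel : Cfsg.IsElementaryAbelian 2 (Cfsg.pCore 2 ↥M)) (hOcard : Nat.card ↥(Cfsg.pCore 2 ↥M) = 8) (hZin : H₁ ⊓ H₂ ≤ (Cfsg.pCore 2 ↥M).map M.subtype) : ∃ (F : Type) (_ : Field F) (_ : Fintype F), Fintype.card F = 3 ∧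 Nonempty (G ≃* ↥(Cfsg.Lie.chevG2.group F)) := by
  obtain ⟨f, z, e⟩ := CfsgG23Two.exists_emb H H₁ H₂ M h1 h2 hn1 hn2 hiso1 hiso2 hidx hint1 hint2 hHC hM hOel hOcard hZin
  have hG : Nat.card G = 4245696 := e.card_eq
  obtain ⟨f', z', R, R', S1, D⟩ := CfsgG23Two.exists_duo e hG
  haveI hn₁ : (R.subgroupOf (CfsgG23Two.A1 f)).Normal :=
    ⟨fun x hx g => D.S.conj g.1 (D.e.mem_A1.1 g.2) x.1 hx⟩
  haveI hn₂ : (R'.subgroupOf (CfsgG23Two.A1 f')).Normal :=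
    ⟨fun x hx g => D.S'.conj g.1 (D.e'.mem_A1.1 g.2) x.1 hx⟩
  obtain ⟨e₁⟩ := D.quotient
  obtain ⟨e₂⟩ := D.symm.quotient
  have idx : ∀ {f f' : ℕ → G} {z z' : G} {R R' S1 : Subgroup G}, CfsgG23Two.Duo f f' z z' R R' S1 →
      ((CfsgG23Two.Zc R).subgroupOf R).index = 9 ∧ Subgroup.zpowers (f 6) ≤ CfsgG23Two.Zc R ∧
        ((Subgroup.zpowers (f 6)).subgroupOf (CfsgG23Two.Zc R)).index = 9 ∧
        (∀ a ∈ CfsgG23Two.A1 f, a ∈ R ↔ ∀ x ∈ R, a * x * a⁻¹ * x⁻¹ ∈ CfsgG23Two.Zc R) ∧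
        (∀ a ∈ CfsgG23Two.A1 f, a ∈ R ↔
          ∀ z ∈ CfsgG23Two.Zc R, a * z * a⁻¹ * z⁻¹ ∈ Subgroup.zpowers (f 6)) := by
    intro f f' z z' R R' S1 D
    have i1 := Subgroup.card_mul_index ((CfsgG23Two.Zc R).subgroupOf R)
    rw [Nat.card_congr (Subgroup.subgroupOfEquivOfLe (CfsgG23Two.Zc_le R)).toEquiv, D.card_Zc, D.cardR] at i1
    have i2 := Subgroup.card_mul_index ((Subgroup.zpowers (f 6)).subgroupOf (CfsgG23Two.Zc R))
    rw [Nat.card_congr (Subgroup.subgroupOfEquivOfLe (D.S.K_le_Zc D.e)).toEquiv, D.card_Zc, D.e.card_K] at i2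
    exact ⟨by omega, D.S.K_le_Zc D.e, by omega, fun a ha => D.mem_R_iff_high ha, fun a ha => D.mem_R_iff_low ha⟩
  obtain ⟨iso⟩ := Cfsg.Agent.S3393.result D.prime_core (CfsgG23Two.A1 f) (CfsgG23Two.A1 f') (D.not_conj_A1 hG)
    D.index_not_three (by rw [inf_comm]; exact D.symm.index_not_three) (fun N hN a b => D.core_free hG N hN a b)
    R R' (D.core hG).symm (D.symm.core hG).symm (by rw [D.cardR]; norm_num) (by rw [D.symm.cardR]; norm_num)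
    e₁ e₂ (CfsgG23Two.Zc R) (CfsgG23Two.Zc R') rfl rfl (Subgroup.zpowers (f 6)) (Subgroup.zpowers (f' 6))
    D.derived.symm D.symm.derived.symm (idx D) (idx D.symm) rfl rfl (ZMod 3) (ZMod.card 3)
  obtain ⟨model⟩ := CfsgG23Two.chev_model
  haveI : Fact (Nat.Prime 3) := ⟨Nat.prime_three⟩
  exact ⟨ZMod 3, inferInstance, inferInstance, ZMod.card 3, ⟨iso.trans model.symm⟩⟩

end Cfsg.Agent.S2917
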