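import Cfsg.Statements.S2918
import Cfsg.Agent.Lib.A8Sylow.Alt
import Cfsg.Agent.Lib.A8Sylow.Symp
import Cfsg.Agent.Lib.Transfer

set_option autoImplicit false
open Cfsg

namespace Cfsg.Agent.S2918

/-- Let G be a finite group with O²(G) = G and O₂(G) = O(G) = 1 whose Sylow 2-subgroups are isomorphic to those of the alternating group of degree 8, and suppose that the centralizer in G of every involution in the centre of a Sylow 2-subgroup is solvable. Then G is isomorphic to A₈, A₉ or PSp₄(3). -/
theorem result {G : Type*} [Group G] [Finite G] (hO2 : Cfsg.pResidual 2 G = ⊤) (hcore2 : Cfsg.pCore 2 G = ⊥) (hodd : Cfsg.oddCore G = ⊥) (S : Sylow 2 G) (hS : ∀ P : Sylow 2 ↥(alternatingGroup (Fin 8)), Nonempty (↥(S : Subgroup G) ≃* ↥(P : Subgroup ↥(alternatingGroup (Fin 8))))) (hsol : ∀ z : G, z ∈ (S : Subgroup G) → (∀ s ∈ (S : Subgroup G), s * z = z * s) → orderOf z = 2 → IsSolvable ↥(Subgroup.centralizer ({z} : Set G))) : Nonempty (G ≃* ↥(alternatingGroup (Fin 8))) ∨ Nonempty (G ≃* ↥(alternatingGroup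 (Fin 9))) ∨ (∃ (F : Type) (_ : Field F) (_ : Fintype F), Fintype.card F = 3 ∧ Nonempty (G ≃* Cfsg.PSp 2 F)) := by
  haveI : Fact (Nat.Prime 2) := ⟨Nat.prime_two⟩
  obtain ⟨P, ⟨e⟩⟩ := CfsgLib.A8Sylow.W.exists_sylow
  obtain ⟨f⟩ := hS P
  let ι : CfsgLib.A8Sylow.W →* G := (S : Subgroup G).subtype.comp (e.trans f.symm).toMonoidHom
  have hinj : Function.Injective ι := (Subgroup.subtype_injective _).comp (e.trans f.symm).injective
  have hrange : ι.range = (S : Subgroup G) := by
    rw [MonoidHom.range_comp, MonoidHom.range_eq_top.mpr (e.trans f.symm).surjective, ← MonoidHom.range_eq_map,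
      Subgroup.range_subtype]
  have hmem : ∀ w, ι w ∈ (S : Subgroup G) := fun w => hrange ▸ ⟨w, rfl⟩
  let B : CfsgLib.A8Sylow.Base G :=
    { ι := ι
      inj := hinj
      S := S
      range_eq := hrange
      hO := hodd
      h2 := hcore2
      noIdx := fun M hM h => by
        haveI := hM
        have hle : Cfsg.pResidual 2 G ≤ M := CfsgLib.pResidual_le_of_isPGroup_quotient (N := M)
          (IsPGroup.of_card (n := 1) (by rw [← Subgroup.index_eq_card, h, pow_one]))
        rw [hO2, top_le_iff] at hle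
        rw [hle, Subgroup.index_top] at h
        omega
      hsol := hsol _ (hmem _) (fun s hs => by
          obtain ⟨w, rfl⟩ : s ∈ ι.range := hrange.symm ▸ hs
          rw [← map_mul, ← map_mul, CfsgLib.A8Sylow.W.zz_comm w])
        (by
          rw [orderOf_injective ι hinj]
          exact orderOf_eq_prime (by rw [pow_two, CfsgLib.A8Sylow.W.zz_facts.1]) CfsgLib.A8Sylow.W.zz_facts.2.1) }
  by_cases h : B.Alt B.fused
  · rcases B.alt_case B.fused h with h8 | h9
    · exact .inl h8
    · exact .inr (.inl h9)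
  · simp only [CfsgLib.A8Sylow.Base.Alt, not_forall] at h
    exact .inr (.inr (B.symp_case B.fused h))

end Cfsg.Agent.S2918
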