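import Cfsg.Statements.S2924
import Cfsg.Agent.Lib.Comp.BalanceLocal

set_option autoImplicit false
set_option linter.unusedVariables false
open Cfsg
open scoped commutatorElement

namespace Cfsg.Agent.S2924

universe u
open Cfsg CfsgLib
variable {X : Type u} [Group X] [Finite X]

/-- `O(C(y))` inside the ambient group. -/
def theta (y : X) : Subgroup X :=
  (Cfsg.oddCore ↥(Subgroup.centralizer ({y} : Set X))).map (Subgroup.centralizer ({y} : Set X)).subtype

theorem theta_le (y : X) : theta y ≤ Subgroup.centralizer ({y} : Set X) := Subgroup.map_subtype_le _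

theorem theta_conj {y c d : X} (hc : c ∈ Subgroup.centralizer ({y} : Set X)) (hd : d ∈ theta y) :
    c * d * c⁻¹ ∈ theta y := by
  obtain ⟨d, hd, rfl⟩ := hd
  haveI : (Cfsg.oddCore ↥(Subgroup.centralizer ({y} : Set X))).Normal :=
    Subgroup.sSup_normal _ (fun _ h => h.1)
  exact ⟨⟨c, hc⟩ * d * ⟨c, hc⟩⁻¹, (inferInstance : (Cfsg.oddCore _).Normal).conj_mem d hd _, rfl⟩

theorem theta_odd (y : X) : Odd (Nat.card ↥(theta y)) := by
  rw [theta, Subgroup.card_map_of_injective (Subgroup.subtype_injective _)]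
  exact CfsgLib.odd_card_oddCore

theorem sq_eq_one_of_odd {d : X} (h : Odd (orderOf d)) (h2 : d ^ 2 = 1) : d = 1 :=
  orderOf_eq_one_iff.mp (Nat.eq_one_of_dvd_coprimes (Nat.coprime_two_right.mpr h) dvd_rfl (orderOf_dvd_of_pow_eq_one h2))

theorem mem_of_sq {H : Subgroup X} {d : X} (h : Odd (orderOf d)) (h2 : d * d ∈ H) : d ∈ H := by
  obtain ⟨k, hk⟩ := h
  have : d = ((d * d) ^ k)⁻¹ := by
    rw [eq_inv_iff_mul_eq_one, ← pow_two, ← pow_mul, ← pow_succ', ← hk, pow_orderOf_eq_one]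
  rw [this]; exact H.inv_mem (H.pow_mem h2 k)

theorem odd_order_of_mem {W : Subgroup X} (hW : Odd (Nat.card ↥W)) {d : X} (hd : d ∈ W) : Odd (orderOf d) :=
  hW.of_dvd_nat (Subgroup.orderOf_dvd_natCard _ hd)

/-- An element in `O(C(a))` commuting with `b` centralises `O₂(C(b))`. -/
theorem cent_core {a b d : X} (ha : orderOf a = 2) (hab : a * b = b * a) (hd : d ∈ theta a)
    (hdb : d * b = b * d) :
    (⟨d, Subgroup.mem_centralizer_singleton_iff.mpr hdb⟩ : ↥(Subgroup.centralizer ({b} : Set X))) ∈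
      Subgroup.centralizer (Cfsg.pCore 2 ↥(Subgroup.centralizer ({b} : Set X)) : Set ↥(Subgroup.centralizer ({b} : Set X))) := by
  haveI : Fact (Nat.Prime 2) := ⟨Nat.prime_two⟩
  set H := Subgroup.centralizer ({b} : Set X) with hH
  set a' : ↥H := ⟨a, Subgroup.mem_centralizer_singleton_iff.mpr hab⟩ with ha'
  refine CfsgLib.Comp.centralizerCore_centralizes_pCore (x := a') (by rw [ha', ← Subgroup.orderOf_coe]; exact ha)
    (CfsgLib.Comp.le_centralizerCore (W := (theta a).subgroupOf H) ?_ ?_ ?_ hd)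
  · intro y hy
    exact Subgroup.mem_centralizer_singleton_iff.mpr (Subtype.ext (Subgroup.mem_centralizer_singleton_iff.mp (theta_le a hy)))
  · intro c hc
    refine Subgroup.mem_normalizer_iff.mpr fun y => ?_
    have hca : (c : X) ∈ Subgroup.centralizer ({a} : Set X) := Subgroup.mem_centralizer_singleton_iff.mpr
      (congrArg Subtype.val (Subgroup.mem_centralizer_singleton_iff.mp hc))
    refine ⟨fun hy => theta_conj hca hy, fun hy => ?_⟩
    have := theta_conj (inv_mem hca) hy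
    show (y : X) ∈ theta a
    simpa [mul_assoc] using this
  · refine Nat.coprime_two_right.mpr ((theta_odd a).of_dvd_nat ?_)
    have e : Nat.card ↥((theta a).subgroupOf H) = Nat.card ↥(((theta a).subgroupOf H).map H.subtype) :=
      (Subgroup.card_map_of_injective H.subtype_injective).symm
    rw [e, Subgroup.subgroupOf_map_subtype]
    exact Subgroup.card_dvd_of_le inf_le_left

theorem theta_inf_z {a z : X} (ha : orderOf a = 2) (haz : a * z = z * a)
    (hz : Cfsg.generalizedFittingSubgroup ↥(Subgroup.centralizer ({z} : Set X)) = Cfsg.pCore 2 ↥(Subgroup.centralizer ({z} : Set X)))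
    {d : X} (hd : d ∈ theta a) (hdz : d * z = z * d) : d = 1 := by
  haveI : Fact (Nat.Prime 2) := ⟨Nat.prime_two⟩
  have hc := cent_core ha haz hd hdz
  rw [← hz] at hc
  have hm := CfsgLib.centralizer_generalizedFitting_le hc
  rw [hz] at hm
  obtain ⟨k, hk⟩ := (CfsgLib.isPGroup_pCore 2) ⟨_, hm⟩
  have hk' : d ^ 2 ^ k = 1 := congrArg (fun y : ↥(Cfsg.pCore 2 ↥(Subgroup.centralizer ({z} : Set X))) => ((y : ↥(Subgroup.centralizer ({z} : Set X))) : X)) hk
  exact orderOf_eq_one_iff.mp (Nat.eq_one_of_dvd_coprimes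
    ((Nat.coprime_two_right.mpr (odd_order_of_mem (theta_odd a) hd)).pow_right k) dvd_rfl (orderOf_dvd_of_pow_eq_one hk'))

theorem inverted {W : Subgroup X} (hW : Odd (Nat.card ↥W)) {z : X} (hzW : ∀ w ∈ W, z * w * z⁻¹ ∈ W)
    (hz2 : z * z = 1) (hfpf : ∀ w ∈ W, w * z = z * w → w = 1) : ∀ w ∈ W, z * w * z⁻¹ = w⁻¹ := by
  let f : ↥W → ↥W := fun w => ⟨(w : X)⁻¹ * (z * w * z⁻¹), W.mul_mem (W.inv_mem w.2) (hzW w w.2)⟩
  have hf : Function.Injective f := by
    intro u v e
    have e' : (u : X)⁻¹ * (z * u * z⁻¹) = (v : X)⁻¹ * (z * v * z⁻¹) := congrArg Subtype.val e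
    have h1 : (v : X) * (u : X)⁻¹ = 1 := hfpf _ (W.mul_mem v.2 (W.inv_mem u.2)) (by
      calc (v : X) * (u : X)⁻¹ * z = v * ((u : X)⁻¹ * (z * u * z⁻¹)) * (z * (u : X)⁻¹) := by group
        _ = v * ((v : X)⁻¹ * (z * v * z⁻¹)) * (z * (u : X)⁻¹) := by rw [e']
        _ = z * ((v : X) * (u : X)⁻¹) := by group)
    exact Subtype.ext (mul_inv_eq_one.mp h1).symm
  intro w hw
  obtain ⟨v, hv⟩ := (Finite.injective_iff_surjective.mp hf) ⟨w, hw⟩
  have e : (v : X)⁻¹ * (z * v * z⁻¹) = w := congrArg Subtype.val hv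
  have hzi : z⁻¹ = z := inv_eq_of_mul_eq_one_right hz2
  rw [← e, hzi]
  calc z * ((v : X)⁻¹ * (z * v * z)) * z = z * (v : X)⁻¹ * z * v * (z * z) := by group
    _ = z * (v : X)⁻¹ * z * v := by rw [hz2, mul_one]
    _ = _ := by rw [mul_inv_rev, mul_inv_rev, mul_inv_rev, inv_inv, hzi]; group

/-- Balance. -/
theorem balance {a b z : X} (ha : orderOf a = 2) (hb : orderOf b = 2) (hzo : orderOf z = 2) (hab : a * b = b * a) (haz : a * z = z * a)
    (hbz : b * z = z * b) (hEb : Cfsg.layer ↥(Subgroup.centralizer ({b} : Set X)) = ⊥)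
    (hz : Cfsg.generalizedFittingSubgroup ↥(Subgroup.centralizer ({z} : Set X)) = Cfsg.pCore 2 ↥(Subgroup.centralizer ({z} : Set X)))
    {d : X} (hd : d ∈ theta a) (hdb : d * b = b * d) : d ∈ theta b := by
  haveI : Fact (Nat.Prime 2) := ⟨Nat.prime_two⟩
  have hz2 : z * z = 1 := by rw [← pow_two, ← hzo, pow_orderOf_eq_one]
  have hzi : z⁻¹ = z := inv_eq_of_mul_eq_one_right hz2
  have hinv : ∀ y, orderOf y = 2 → y * z = z * y → ∀ w ∈ theta y, z * w * z⁻¹ = w⁻¹ := fun y hy hyz =>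
    inverted (theta_odd y) (fun w hw => theta_conj (Subgroup.mem_centralizer_singleton_iff.mpr hyz.symm) hw) hz2
      fun w hw hwz => theta_inf_z hy hyz hz hw hwz
  have hdo := odd_order_of_mem (theta_odd a) hd
  set H := Subgroup.centralizer ({b} : Set X) with hH
  set d' : ↥H := ⟨d, Subgroup.mem_centralizer_singleton_iff.mpr hdb⟩ with hd'
  set F := Cfsg.fittingSubgroup ↥H with hF
  have hCF : Subgroup.centralizer (F : Set ↥H) ≤ F := (CfsgLib.Comp.centralizer_fitting_le_iff).mpr hEb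
  have hsq : d' * d' ∈ Subgroup.centralizer (F : Set ↥H) := by
    have hle : F ≤ Subgroup.centralizer ({d' * d'} : Set ↥H) := by
      rw [hF, CfsgLib.fittingSubgroup_eq_iSup_pCore]
      refine iSup_le fun q => ?_
      intro y hy
      rw [Subgroup.mem_centralizer_singleton_iff]
      rcases q with ⟨q, hq⟩
      haveI : Fact q.Prime := ⟨hq⟩
      by_cases hq2 : q = 2
      · subst hq2
        have h1 : Commute y d' := cent_core ha hab hd hdb y hy
        exact (h1.mul_right h1).eq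
      · have hyo : (y : X) ∈ theta b := by
          refine ⟨y, CfsgLib.le_oddCore (N := Cfsg.pCore q ↥H) ?_ hy, rfl⟩
          obtain ⟨k, hk⟩ := IsPGroup.iff_card.mp (CfsgLib.isPGroup_pCore (G := ↥H) q)
          rw [hk]
          exact (hq.odd_of_ne_two hq2).pow
        have hdy : (d : X) * y * d⁻¹ ∈ theta b := theta_conj d'.2 hyo
        have e1 := hinv b hb hbz _ hdy
        have e2 : z * (d * (y : X) * d⁻¹) * z⁻¹ = d⁻¹ * (y : X)⁻¹ * d := by
          calc z * (d * (y : X) * d⁻¹) * z⁻¹ = (z * d * z⁻¹) * (z * y * z⁻¹) * (z * d * z⁻¹)⁻¹ := by group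
            _ = _ := by rw [hinv a ha haz d hd, hinv b hb hbz _ hyo, inv_inv]
        refine Subtype.ext ?_
        show (y : X) * (d * d) = d * d * y
        have e3 : d * (y : X) * d⁻¹ = d⁻¹ * y * d := by
          rw [← inv_inj, ← e1, e2]; group
        calc (y : X) * (d * d) = d * (d⁻¹ * y * d) * d := by group
          _ = d * (d * y * d⁻¹) * d := by rw [e3]
          _ = d * d * y := by group
    exact fun y hy => Subgroup.mem_centralizer_singleton_iff.mp (hle hy)
  have hd'o : Odd (orderOf d') := by rwa [hd', ← Subgroup.orderOf_coe]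
  -- the odd part of the centralizer of the Fitting subgroup
  have hcomm : ∀ x ∈ Subgroup.centralizer (F : Set ↥H), ∀ y ∈ Subgroup.centralizer (F : Set ↥H), x * y = y * x :=
    fun x hx y hy => hy x (hCF hx)
  let N : Subgroup ↥H :=
    { carrier := {x | x ∈ Subgroup.centralizer (F : Set ↥H) ∧ Odd (orderOf x)}
      one_mem' := ⟨one_mem _, by rw [orderOf_one]; exact odd_one⟩
      mul_mem' := fun {x y} hx hy => ⟨mul_mem hx.1 hy.1, (hx.2.mul hy.2).of_dvd_nat
        ((Commute.orderOf_mul_dvd_lcm (hcomm x hx.1 y hy.1)).trans (Nat.lcm_dvd_mul _ _))⟩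
      inv_mem' := fun {x} hx => ⟨inv_mem hx.1, by rw [orderOf_inv]; exact hx.2⟩ }
  haveI : N.Normal := ⟨fun x hx g => ⟨(inferInstance : (Subgroup.centralizer (F : Set ↥H)).Normal).conj_mem x hx.1 g, by
    have e := MulEquiv.orderOf_eq (MulAut.conj g) x
    rw [MulAut.conj_apply] at e
    rw [e]; exact hx.2⟩⟩
  have hNodd : Odd (Nat.card ↥N) := by
    refine Nat.not_even_iff_odd.mp fun he => ?_
    obtain ⟨x, hx⟩ := exists_prime_orderOf_dvd_card' 2 he.two_dvd
    have := x.2.2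
    rw [Subgroup.orderOf_coe, hx] at this
    exact Nat.not_even_iff_odd.mpr this even_two
  have hdN : d' ∈ N := ⟨mem_of_sq hd'o hsq, hd'o⟩
  exact ⟨d', CfsgLib.le_oddCore hNodd hdN, rfl⟩

theorem split_four {x c d : X} (hc2 : c * c = 1) (hd2 : d * d = 1) (hcd : c * d = d * c)
    (W : Subgroup X) (hWc : ∀ w ∈ W, c * w * c⁻¹ ∈ W) (hWd : ∀ w ∈ W, d * w * d⁻¹ ∈ W)
    (hab : ∀ u ∈ W, ∀ v ∈ W, u * v = v * u) (hodd : Odd (Nat.card ↥W)) (hx : x ∈ W) (P : Subgroup X)
    (h1 : ∀ w ∈ W, (w * c = c * w ∨ w * d = d * w ∨ w * (c * d) = c * d * w) → w ∈ P) : x ∈ P := by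
  set y := c * x * c⁻¹ with hy
  set u := d * x * d⁻¹ with hu
  set v := d * y * d⁻¹ with hv
  have hyW : y ∈ W := hWc x hx
  have huW : u ∈ W := hWd x hx
  have hvW : v ∈ W := hWd y hyW
  have hci : c⁻¹ = c := inv_eq_of_mul_eq_one_right hc2
  have hdi : d⁻¹ = d := inv_eq_of_mul_eq_one_right hd2
  have fix : ∀ g, g * g = 1 → ∀ w ∈ W, g * w * g⁻¹ ∈ W → (w * (g * w * g⁻¹)) * g = g * (w * (g * w * g⁻¹)) := by
    intro g hg2 w hw hw'
    have hgi : g⁻¹ = g := inv_eq_of_mul_eq_one_right hg2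
    calc w * (g * w * g⁻¹) * g = w * g * w := by group
      _ = g * (g * w * g⁻¹) * w := by rw [hgi, ← mul_assoc g, ← mul_assoc g, hg2, one_mul]
      _ = g * (w * (g * w * g⁻¹)) := by rw [mul_assoc g _ w, hab _ hw' w hw]
  have p1 : x * y ∈ P := h1 _ (W.mul_mem hx hyW) (Or.inl (fix c hc2 x hx hyW))
  have p2 : x * u ∈ P := h1 _ (W.mul_mem hx huW) (Or.inr (Or.inl (fix d hd2 x hx huW)))
  have p3 : y * u ∈ P := by
    have hg2 : (c * d) * (c * d) = 1 := by
      calc c * d * (c * d) = c * (d * c) * d := by group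
        _ = c * (c * d) * d := by rw [hcd]
        _ = (c * c) * (d * d) := by group
        _ = 1 := by rw [hc2, hd2, mul_one]
    have e : c * d * y * (c * d)⁻¹ = u := by
      rw [hy, hu, mul_inv_rev, hci, hdi]
      calc c * d * (c * x * c) * (d * c) = c * (d * c) * x * (c * d) * c := by group
        _ = c * (c * d) * x * (d * c) * c := by rw [← hcd]
        _ = (c * c) * d * x * d * (c * c) := by group
        _ = d * x * d := by rw [hc2]; group
    refine h1 _ (W.mul_mem hyW huW) (Or.inr (Or.inr ?_))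
    have := fix (c * d) hg2 y hyW (e ▸ huW)
    rwa [e] at this
  have hxx : x * x ∈ P := by
    have h := P.mul_mem (P.mul_mem p1 p2) (P.inv_mem p3)
    rw [mul_inv_rev] at h
    have e : x * x = x * y * (x * u) * (u⁻¹ * y⁻¹) := by
      calc x * x = x * (x * y) * y⁻¹ := by group
        _ = x * (y * x) * y⁻¹ := by rw [hab x hx y hyW]
        _ = x * y * (x * u) * (u⁻¹ * y⁻¹) := by group
    rw [e]; exact h
  exact mem_of_sq (odd_order_of_mem hodd hx) hxx

/-- Let X be a finite group and Y an elementary abelian 2-subgroup of X of order at least 8 such that C_X(x) has no components (E(C_X(x)) = 1) for every nontrivial x ∈ Y, and F*(C_X(z)) = O₂(C_X(z)) for some nontrivial z ∈ Y. Then the subgroup generated by the cores O(C_X(y)), y ∈ Y nontrivial, has odd order and is normalized by N_X(Y). -/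
theorem result {X : Type*} [Group X] [Finite X] (Y : Subgroup X) (hY : Cfsg.IsElementaryAbelian 2 Y) (h8 : 8 ≤ Nat.card ↥Y) (hE : ∀ x ∈ Y, x ≠ 1 → Cfsg.layer ↥(Subgroup.centralizer ({x} : Set X)) = ⊥) (hz : ∃ z ∈ Y, z ≠ 1 ∧ Cfsg.generalizedFittingSubgroup ↥(Subgroup.centralizer ({z} : Set X)) = Cfsg.pCore 2 ↥(Subgroup.centralizer ({z} : Set X))) : Odd (Nat.card ↥(⨆ y : {y : X // y ∈ Y ∧ y ≠ 1}, (Cfsg.oddCore ↥(Subgroup.centralizer ({(y : X)} : Set X))).map (Subgroup.centralizer ({(y : X)} : Set X)).subtype)) ∧ Subgroup.normalizer (Y : Set X) ≤ Subgroup.normalizer ((⨆ y : {y : X // y ∈ Y ∧ y ≠ 1}, (Cfsg.oddCore ↥(Subgroup.centralizer ({(y : X)} : Set X))).map (Subgroup.centralizer ({(y : X)} : Set X)).subtype : Subgroup X) : Set X) := by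
  classical
  haveI : Fact (Nat.Prime 2) := ⟨Nat.prime_two⟩
  obtain ⟨z, hzY, hz1, hz⟩ := hz
  have hord : ∀ y ∈ Y, y ≠ 1 → orderOf y = 2 := fun y hy hy1 => orderOf_eq_prime (hY.2 y hy) hy1
  have hcommY : ∀ a ∈ Y, ∀ b ∈ Y, a * b = b * a := fun a ha b hb => congrArg Subtype.val (hY.1.1.1 ⟨a, ha⟩ ⟨b, hb⟩)
  have hsq : ∀ a ∈ Y, a * a = 1 := fun a ha => by rw [← pow_two]; exact hY.2 a ha
  have hbal : ∀ a ∈ Y, a ≠ 1 → ∀ b ∈ Y, b ≠ 1 → ∀ d ∈ theta a, d * b = b * d → d ∈ theta b :=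
    fun a ha ha1 b hb hb1 d hd hdb => balance (hord a ha ha1) (hord b hb hb1) (hord z hzY hz1) (hcommY a ha b hb)
      (hcommY a ha z hzY) (hcommY b hb z hzY) (hE b hb hb1) hz hd hdb
  have hnorm : ∀ a ∈ Y, ∀ g ∈ Y, ∀ w ∈ theta a, g * w * g⁻¹ ∈ theta a := fun a ha g hg w hw =>
    theta_conj (Subgroup.mem_centralizer_singleton_iff.mpr (hcommY g hg a ha)) hw
  have hab : ∀ a ∈ Y, a ≠ 1 → ∀ u ∈ theta a, ∀ v ∈ theta a, u * v = v * u := by
    intro a ha ha1 u hu v hv
    have hi := inverted (theta_odd a) (hnorm a ha z hzY) (hsq z hzY)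
      (fun w hw hwz => theta_inf_z (hord a ha ha1) (hcommY a ha z hzY) hz hw hwz)
    have h := hi _ ((theta a).mul_mem hu hv)
    rw [show z * (u * v) * z⁻¹ = (z * u * z⁻¹) * (z * v * z⁻¹) by group, hi u hu, hi v hv, ← mul_inv_rev, inv_inj] at h
    exact h.symm
  -- the subgroups commute
  have hall : ∀ a ∈ Y, a ≠ 1 → ∀ b ∈ Y, b ≠ 1 → ∀ x ∈ theta a, ∀ y ∈ theta b, x * y = y * x := by
    intro a ha ha1 b hb hb1 x hx y hy
    obtain ⟨c, hc, hc1, hca⟩ : ∃ c ∈ Y, c ≠ 1 ∧ c ≠ a := by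
      by_contra h
      push Not at h
      have hle : (Y : Set X) ⊆ {1, a} := fun c hc => by
        by_cases hc1 : c = 1
        · exact Or.inl hc1
        · exact Or.inr (h c hc hc1)
      have := (Set.ncard_le_ncard hle).trans (Set.ncard_insert_le _ _)
      rw [Set.ncard_singleton, ← Nat.card_coe_set_eq] at this
      change Nat.card ↥Y ≤ _ at this
      omega
    obtain ⟨d, hd, hd1, hda, hdc, hdac⟩ : ∃ d ∈ Y, d ≠ 1 ∧ d ≠ a ∧ d ≠ c ∧ d ≠ a * c := by
      by_contra h
      push Not at h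
      have hle : (Y : Set X) ⊆ {1, a, c, a * c} := fun e he => by
        by_cases h1 : e = 1
        · exact Or.inl h1
        by_cases h2 : e = a
        · exact Or.inr (Or.inl h2)
        by_cases h3 : e = c
        · exact Or.inr (Or.inr (Or.inl h3))
        exact Or.inr (Or.inr (Or.inr (h e he h1 h2 h3)))
      have h4 := Set.ncard_le_ncard hle
      have h5 : ({1, a, c, a * c} : Set X).ncard ≤ 4 := by
        refine (Set.ncard_insert_le _ _).trans (Nat.add_le_add_right ((Set.ncard_insert_le _ _).trans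
          (Nat.add_le_add_right ((Set.ncard_insert_le _ _).trans ?_) 1)) 1)
        rw [Set.ncard_singleton]
      rw [← Nat.card_coe_set_eq] at h4
      change Nat.card ↥Y ≤ _ at h4
      omega
    set P := theta a ⊓ Subgroup.centralizer (theta b : Set X) with hP
    suffices hx' : x ∈ P from (hx'.2 y hy).symm
    have piece : ∀ e ∈ Y, e ≠ 1 → e ≠ a → ∀ w ∈ theta a, w * e = e * w → w ∈ P := by
      intro e he he1 hea w hw hwe
      refine ⟨hw, fun y hy => ?_⟩
      have hae1 : a * e ≠ 1 := fun h => hea (by rw [← inv_eq_of_mul_eq_one_right h, inv_eq_of_mul_eq_one_right (hsq a ha)])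
      have hwa : w * a = a * w := Subgroup.mem_centralizer_singleton_iff.mp (theta_le a hw)
      refine (Subgroup.mem_centralizer_singleton_iff.mp (split_four (hsq a ha) (hsq e he) (hcommY a ha e he) (theta b)
        (hnorm b hb a ha) (hnorm b hb e he) (hab b hb hb1) (theta_odd b) hy (Subgroup.centralizer ({w} : Set X)) ?_))
      intro v hv hfix
      rw [Subgroup.mem_centralizer_singleton_iff]
      rcases hfix with h | h | h
      · exact hab a ha ha1 v (hbal b hb hb1 a ha ha1 v hv h) w hw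
      · exact hab e he he1 v (hbal b hb hb1 e he he1 v hv h) w (hbal a ha ha1 e he he1 w hw hwe)
      · exact hab (a * e) (Y.mul_mem ha he) hae1 v (hbal b hb hb1 _ (Y.mul_mem ha he) hae1 v hv h) w
          (hbal a ha ha1 _ (Y.mul_mem ha he) hae1 w hw (by rw [← mul_assoc, hwa, mul_assoc, hwe, ← mul_assoc]))
    have hcd1 : c * d ≠ 1 := fun h => hdc (by rw [← inv_eq_of_mul_eq_one_right h, inv_eq_of_mul_eq_one_right (hsq c hc)])
    have hcda : c * d ≠ a := fun h => hdac (by
      rw [← h, hcommY _ (Y.mul_mem hc hd) c hc, ← mul_assoc, hsq c hc, one_mul])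
    refine split_four (hsq c hc) (hsq d hd) (hcommY c hc d hd) (theta a)
      (hnorm a ha c hc) (hnorm a ha d hd) (hab a ha ha1) (theta_odd a) hx P ?_
    intro w hw hfix
    rcases hfix with h | h | h
    · exact piece c hc hc1 hca w hw h
    · exact piece d hd hd1 hda w hw h
    · exact piece (c * d) (Y.mul_mem hc hd) hcd1 hcda w hw h
  refine ⟨?_, ?_⟩
  · change Odd (Nat.card ↥(⨆ y : {y : X // y ∈ Y ∧ y ≠ 1}, theta (y : X)))
    set W := ⨆ y : {y : X // y ∈ Y ∧ y ≠ 1}, theta (y : X) with hW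
    have hcen : ∀ u ∈ W, ∀ v ∈ W, u * v = v * u := by
      have h1 : W ≤ Subgroup.centralizer (W : Set X) := by
        refine iSup_le fun a => ?_
        rw [Subgroup.le_centralizer_iff]
        refine iSup_le fun b v hv u hu => ?_
        exact hall a a.2.1 a.2.2 b b.2.1 b.2.2 u hu v hv
      exact fun u hu v hv => h1 hv u hu
    let N : Subgroup X :=
      { carrier := {x | x ∈ W ∧ Odd (orderOf x)}
        one_mem' := ⟨one_mem _, by rw [orderOf_one]; exact odd_one⟩
        mul_mem' := fun {x y} hx hy => ⟨mul_mem hx.1 hy.1, (hx.2.mul hy.2).of_dvd_nat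
          ((Commute.orderOf_mul_dvd_lcm (hcen x hx.1 y hy.1)).trans (Nat.lcm_dvd_mul _ _))⟩
        inv_mem' := fun {x} hx => ⟨inv_mem hx.1, by rw [orderOf_inv]; exact hx.2⟩ }
    have hWN : W ≤ N := iSup_le fun y w hw =>
      ⟨(le_iSup (fun y : {y : X // y ∈ Y ∧ y ≠ 1} => theta (y : X)) y) hw, odd_order_of_mem (theta_odd _) hw⟩
    refine Nat.not_even_iff_odd.mp fun he => ?_
    obtain ⟨x, hx⟩ := exists_prime_orderOf_dvd_card' 2 he.two_dvd
    have := (hWN x.2).2
    rw [Subgroup.orderOf_coe, hx] at this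
    exact Nat.not_even_iff_odd.mpr this even_two
  · change Subgroup.normalizer (Y : Set X) ≤
      Subgroup.normalizer ((⨆ y : {y : X // y ∈ Y ∧ y ≠ 1}, theta (y : X) : Subgroup X) : Set X)
    intro g hg
    have key : ∀ g ∈ Subgroup.normalizer (Y : Set X),
        (⨆ y : {y : X // y ∈ Y ∧ y ≠ 1}, theta (y : X)).map (MulAut.conj g).toMonoidHom ≤
          ⨆ y : {y : X // y ∈ Y ∧ y ≠ 1}, theta (y : X) := by
      intro g hg
      rw [Subgroup.map_iSup]
      refine iSup_le fun y => ?_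
      have hy' : g * y * g⁻¹ ∈ Y ∧ g * (y : X) * g⁻¹ ≠ 1 :=
        ⟨(Subgroup.mem_normalizer_iff.mp hg y).mp y.2.1, fun h => y.2.2 (conj_eq_one_iff.mp h)⟩
      refine le_trans ?_ (le_iSup (fun y : {y : X // y ∈ Y ∧ y ≠ 1} => theta (y : X)) ⟨_, hy'⟩)
      rintro _ ⟨w, hw, rfl⟩
      -- transport the normal subgroup
      set C := Subgroup.centralizer ({(y : X)} : Set X) with hC
      set C' := Subgroup.centralizer ({g * (y : X) * g⁻¹} : Set X) with hC'
      have hmem : ∀ c, c ∈ C → g * c * g⁻¹ ∈ C' := fun c hc => Subgroup.mem_centralizer_singleton_iff.mpr (by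
        have h := Subgroup.mem_centralizer_singleton_iff.mp hc
        calc g * c * g⁻¹ * (g * (y : X) * g⁻¹) = g * (c * y) * g⁻¹ := by group
          _ = g * (y * c) * g⁻¹ := by rw [h]
          _ = g * (y : X) * g⁻¹ * (g * c * g⁻¹) := by group)
      let f : ↥C →* ↥C' := MonoidHom.codRestrict ((MulAut.conj g).toMonoidHom.comp C.subtype) C' (fun c => hmem c c.2)
      have hsurj : Function.Surjective f := by
        rintro ⟨c', hc'⟩
        refine ⟨⟨g⁻¹ * c' * g, Subgroup.mem_centralizer_singleton_iff.mpr ?_⟩, Subtype.ext ?_⟩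
        · have h := Subgroup.mem_centralizer_singleton_iff.mp hc'
          calc g⁻¹ * c' * g * (y : X) = g⁻¹ * (c' * (g * (y : X) * g⁻¹)) * g := by group
            _ = g⁻¹ * (g * (y : X) * g⁻¹ * c') * g := by rw [h]
            _ = (y : X) * (g⁻¹ * c' * g) := by group
        · show g * (g⁻¹ * c' * g) * g⁻¹ = c'
          group
      haveI : ((Cfsg.oddCore ↥C).map f).Normal := (Subgroup.sSup_normal _ (fun _ h => h.1) : (Cfsg.oddCore ↥C).Normal).map f hsurj
      obtain ⟨w', hw', rfl⟩ := hw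
      exact ⟨f w', CfsgLib.le_oddCore (N := (Cfsg.oddCore ↥C).map f)
        ((CfsgLib.odd_card_oddCore (G := ↥C)).of_dvd_nat (Subgroup.card_map_dvd (Cfsg.oddCore ↥C) f)) ⟨w', hw', rfl⟩, rfl⟩
    refine Subgroup.mem_normalizer_iff_map_conj_eq.mpr (le_antisymm (key g hg) ?_)
    intro w hw
    exact ⟨g⁻¹ * w * g, key g⁻¹ (Subgroup.inv_mem _ hg) ⟨w, hw, by simp⟩, by simp [mul_assoc]⟩

end Cfsg.Agent.S2924
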