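import Cfsg.Statements.S2929
import Cfsg.Agent.Lib.Perm.AutAlt
import Cfsg.Agent.Lib.Components
import Cfsg.Agent.Lib.ZassenhausFC.Three
import Cfsg.Agent.Lib.Comp.Layer
import Cfsg.Agent.Lib.Perm.StandardAlt

set_option autoImplicit false
set_option linter.unusedVariables false
open Cfsg
open scoped commutatorElement

namespace Cfsg.Agent.S2929

open Equiv Equiv.Perm CfsgLib CfsgLib.AutAlt

variable {n : ℕ}

/-- All three-cycles on `S` lie in `H`. -/
def Good (H : Subgroup (Perm (Fin n))) (S : Finset (Fin n)) : Prop :=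
  3 ≤ S.card ∧ ∀ a ∈ S, ∀ b ∈ S, ∀ c ∈ S, a ≠ b → a ≠ c → b ≠ c → cyc a b c ∈ H

/-- A good set, closed under the three-cycles of `H`. -/
def Closed (H : Subgroup (Perm (Fin n))) (S : Finset (Fin n)) : Prop :=
  Good H S ∧ ∀ x ∈ H, IsThreeCycle x → ∀ a ∈ S, x a ≠ a → x.support ⊆ S

theorem cyc_rot {a b c : Fin n} (hab : a ≠ b) (hac : a ≠ c) (hbc : b ≠ c) : cyc a b c = cyc b c a := by
  refine Equiv.ext fun z => ?_
  by_cases z1 : z = a
  · rw [z1, cyc_a hab hac, cyc_c]
  by_cases z2 : z = b
  · rw [z2, cyc_b hac hbc, cyc_a hbc hab.symm]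
  by_cases z3 : z = c
  · rw [z3, cyc_c, cyc_b hab.symm hac.symm]
  rw [cyc_fix z1 z2 z3, cyc_fix z2 z3 z1]

theorem good_insert {H : Subgroup (Perm (Fin n))} {S : Finset (Fin n)} (hS : Good H S) {a b x : Fin n}
    (ha : a ∈ S) (hb : b ∈ S) (hab : a ≠ b) (hx : x ∉ S) (h : cyc a b x ∈ H) : Good H (insert x S) := by
  have hne : ∀ u ∈ S, u ≠ x := fun u hu e => hx (e ▸ hu)
  let R : Fin n → Fin n → Prop := fun u v => u ∈ S ∧ v ∈ S ∧ u ≠ v ∧ cyc u v x ∈ H
  have hsymm : ∀ u v, R u v → R v u := fun u v ⟨hu, hv, huv, hm⟩ => ⟨hv, hu, huv.symm, by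
    have h1 := H.inv_mem hm
    rw [cyc_inv huv (hne u hu) (hne v hv)] at h1
    rwa [cyc_rot huv.symm (hne v hv) (hne u hu), cyc_rot (hne u hu) huv (hne v hv).symm] at *⟩
  have hstep : ∀ u v, R u v → ∀ w ∈ S, w ≠ u → R u w := by
    rintro u v ⟨hu, hv, huv, hm⟩ w hw hwu
    by_cases hwv : w = v
    · exact hwv ▸ ⟨hu, hv, huv, hm⟩
    -- conjugate by `cyc u v w`
    refine hsymm _ _ (?_ : R w u)
    have hcyc := hS.2 u hu v hv w hw huv hwu.symm (Ne.symm hwv)
    have h1 := H.mul_mem (H.mul_mem hcyc hm) (H.inv_mem hcyc)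
    rw [conj_cyc, cyc_a huv hwu.symm, cyc_b hwu.symm (Ne.symm hwv),
      cyc_fix (hne u hu).symm (hne v hv).symm (hne w hw).symm] at h1
    have h2 := hS.2 u hu v hv w hw huv hwu.symm (Ne.symm hwv)
    have h3 := H.mul_mem (H.mul_mem h2 h1) (H.inv_mem h2)
    rw [conj_cyc, cyc_b hwu.symm (Ne.symm hwv), cyc_c,
      cyc_fix (hne u hu).symm (hne v hv).symm (hne w hw).symm] at h3
    exact ⟨hw, hu, hwu, h3⟩
  have hall : ∀ u ∈ S, ∀ v ∈ S, u ≠ v → cyc u v x ∈ H := by
    intro u hu v hv huv
    have h0 : R a b := ⟨ha, hb, hab, h⟩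
    by_cases hua : u = a
    · exact (hua ▸ hstep a b h0 v hv (by rw [← hua]; exact huv.symm) : R u v).2.2.2
    · exact (hstep u a (hsymm _ _ (hstep a b h0 u hu hua)) v hv huv.symm).2.2.2
  refine ⟨hS.1.trans (Finset.card_le_card (Finset.subset_insert _ _)), ?_⟩
  intro u hu v hv w hw huv huw hvw
  rcases Finset.mem_insert.mp hu with e1 | hu'
  · subst e1
    have hv' := (Finset.mem_insert.mp hv).resolve_left huv.symm
    have hw' := (Finset.mem_insert.mp hw).resolve_left huw.symm
    rw [cyc_rot huv huw hvw]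
    exact hall v hv' w hw' hvw
  rcases Finset.mem_insert.mp hv with e2 | hv'
  · subst e2
    have hw' := (Finset.mem_insert.mp hw).resolve_left hvw.symm
    rw [← cyc_rot huw.symm hvw.symm huv]
    exact hall w hw' u hu' huw.symm
  rcases Finset.mem_insert.mp hw with e3 | hw'
  · subst e3
    exact hall u hu' v hv' huv
  exact hS.2 u hu' v hv' w hw' huv huw hvw

theorem support_three {x : Perm (Fin n)} (hx : IsThreeCycle x) {a : Fin n} (ha : x a ≠ a) :
    x.support = {a, x a, x (x a)} := by
  obtain ⟨h1, h2, h3, h4, -⟩ := exists_cyc hx ha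
  ext y
  simp only [Finset.mem_insert, Finset.mem_singleton, mem_support]
  refine ⟨fun hy => moved_of_three hx ha hy, ?_⟩
  rintro (rfl | rfl | rfl)
  · exact ha
  · exact h3.symm
  · rw [h4]; exact h2

theorem exists_closed {H : Subgroup (Perm (Fin n))} {x : Perm (Fin n)} (hxH : x ∈ H) (hx : IsThreeCycle x) :
    ∃ S, Closed H S ∧ x.support ⊆ S := by
  classical
  obtain ⟨a, ha⟩ : ∃ a, x a ≠ a := by
    by_contra h
    push Not at h
    have h1 := hx.card_support
    rw [show x = 1 from Equiv.ext h, support_one] at h1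
    simp at h1
  obtain ⟨h1, h2, h3, h4, hxe⟩ := exists_cyc hx ha
  have hbase : Good H x.support := by
    refine ⟨hx.card_support.ge, ?_⟩
    rw [support_three hx ha]
    intro u hu v hv w hw huv huw hvw
    simp only [Finset.mem_insert, Finset.mem_singleton] at hu hv hw
    have e1 : cyc a (x a) (x (x a)) ∈ H := hxe ▸ hxH
    have e2 : cyc a (x (x a)) (x a) ∈ H := by rw [← cyc_inv h1 h2 h3]; exact H.inv_mem e1
    have r1 := cyc_rot h1 h2 h3
    have r2 := cyc_rot h3 h1.symm h2.symm
    have r3 := cyc_rot h2 h1 h3.symm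
    have r4 := cyc_rot h3.symm h2.symm h1.symm
    rcases hu with rfl | rfl | rfl <;> rcases hv with rfl | rfl | rfl <;> rcases hw with rfl | rfl | rfl <;>
      first
        | exact absurd rfl huv
        | exact absurd rfl huw
        | exact absurd rfl hvw
        | exact e1
        | exact e2
        | exact r1 ▸ e1
        | exact r2 ▸ r1 ▸ e1
        | exact r3 ▸ e2
        | exact r4 ▸ r3 ▸ e2
  obtain ⟨S, hS, hmax⟩ := Finset.exists_max_image
    (Finset.univ.filter fun S => Good H S ∧ x.support ⊆ S) Finset.card ⟨x.support, Finset.mem_filter.mpr ⟨Finset.mem_univ _, hbase, Finset.Subset.refl _⟩⟩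
  simp only [Finset.mem_filter, Finset.mem_univ, true_and] at hS hmax
  refine ⟨S, ⟨hS.1, fun y hyH hy b hb hyb => ?_⟩, hS.2⟩
  obtain ⟨g1, g2, g3, g4, hye⟩ := exists_cyc hy hyb
  rw [support_three hy hyb]
  have hyc : cyc b (y b) (y (y b)) ∈ H := hye ▸ hyH
  have grow : ∀ u v w, u ∈ S → v ∈ S → u ≠ v → w ∉ S → cyc u v w ∈ H → False := fun u v w hu hv huv hw h => by
    have := hmax (insert w S) ⟨good_insert hS.1 hu hv huv hw h, hS.2.trans (Finset.subset_insert _ _)⟩
    rw [Finset.card_insert_of_notMem hw] at this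
    omega
  have hyc' : cyc (y (y b)) b (y b) ∈ H := by
    rw [cyc_rot g2.symm g3.symm g1]; exact hyc
  intro z hz
  simp only [Finset.mem_insert, Finset.mem_singleton] at hz
  have hb1 : y b ∈ S := by
    by_contra hb1
    by_cases hb2 : y (y b) ∈ S
    · exact grow _ _ _ hb2 hb g2.symm hb1 hyc'
    · obtain ⟨d, e, hd, he, hdb, heb, hde⟩ : ∃ d e, d ∈ S ∧ e ∈ S ∧ d ≠ b ∧ e ≠ b ∧ d ≠ e := by
        have : 1 < (S.erase b).card := by
          rw [Finset.card_erase_of_mem hb]
          have := hS.1.1
          omega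
        obtain ⟨d, hd, e, he, hde⟩ := Finset.one_lt_card.mp this
        simp only [Finset.mem_erase] at hd he
        exact ⟨d, e, hd.2, he.2, hd.1, he.1, hde⟩
      have hne : ∀ u ∈ S, u ≠ y b ∧ u ≠ y (y b) := fun u hu => ⟨fun e => hb1 (e ▸ hu), fun e => hb2 (e ▸ hu)⟩
      have h5 := H.mul_mem (H.mul_mem hyc (hS.1.2 b hb d hd e he hdb.symm heb.symm hde)) (H.inv_mem hyc)
      rw [conj_cyc, cyc_a g1 g2, cyc_fix hdb (hne d hd).1 (hne d hd).2, cyc_fix heb (hne e he).1 (hne e he).2,
        cyc_rot (hne d hd).1.symm (hne e he).1.symm hde] at h5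
      exact grow _ _ _ hd he hde hb1 h5
  have hb2 : y (y b) ∈ S := by
    by_contra hb2
    exact grow _ _ _ hb hb1 g1 hb2 hyc
  rcases hz with rfl | rfl | rfl
  exacts [hb, hb1, hb2]

/-- The alternating group on `S`. -/
def altOn (S : Finset (Fin n)) : Subgroup (Perm (Fin n)) :=
  (alternatingGroup {i // i ∈ S}).map (Equiv.Perm.ofSubtype (p := (· ∈ S)))

theorem altOn_le {H : Subgroup (Perm (Fin n))} {S : Finset (Fin n)} (hS : Good H S) : altOn S ≤ H := by
  rw [altOn, Subgroup.map_le_iff_le_comap, ← closure_three_cycles_eq_alternating, Subgroup.closure_le]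
  intro x hx
  obtain ⟨a, ha⟩ : ∃ a, x a ≠ a := by
    by_contra h
    push Not at h
    have h1 := (hx : IsThreeCycle x).card_support
    rw [show x = 1 from Equiv.ext h, support_one] at h1
    simp at h1
  obtain ⟨h1, h2, h3, -, hxe⟩ := exists_cyc hx ha
  show ofSubtype x ∈ H
  have e : ofSubtype x = cyc (a : Fin n) (x a : _) (x (x a) : _) := by
    conv_lhs => rw [hxe]
    simp only [cyc, map_mul, ofSubtype_swap_eq]
  rw [e]
  exact hS.2 _ a.2 _ (x a).2 _ (x (x a)).2 (Subtype.coe_injective.ne h1) (Subtype.coe_injective.ne h2)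
    (Subtype.coe_injective.ne h3)

theorem fix_outside {S : Finset (Fin n)} {g : Perm (Fin n)} (hg : g ∈ altOn S) {i : Fin n} (hi : i ∉ S) : g i = i := by
  obtain ⟨σ, -, rfl⟩ := hg
  exact ofSubtype_apply_of_not_mem σ hi

/-- Three-cycles of `H` normalise the alternating group of a closed set. -/
theorem three_conj {H : Subgroup (Perm (Fin n))} {S : Finset (Fin n)} (hS : Closed H S) {x : Perm (Fin n)} (hxH : x ∈ H)
    (hx : IsThreeCycle x) : (∀ i ∈ S, x i ∈ S) ∧ (∀ i ∉ S, x i ∉ S) ∧
      ((∀ g ∈ altOn S, x * g = g * x) ∨ x ∈ altOn S) := by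
  have hA : ∀ i ∈ S, x i ∈ S := by
    intro i hi
    by_cases hxi : x i = i
    · rwa [hxi]
    · exact hS.2 x hxH hx i hi hxi (mem_support.mpr fun e => hxi (x.injective e))
  refine ⟨hA, ?_, ?_⟩
  · intro i hi hxi
    by_cases h : x (x i) = x i
    · exact hi ((x.injective h) ▸ hxi)
    · exact hi (hS.2 x hxH hx _ hxi h (mem_support.mpr fun e => h (congrArg x e)))
  · by_cases h : ∃ i ∈ S, x i ≠ i
    · right
      obtain ⟨i, hi, hxi⟩ := h
      have hsub : ∀ j, x j ≠ j → j ∈ S := fun j hj => hS.2 x hxH hx i hi hxi (mem_support.mpr hj)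
      have hs : ∀ j, j ∈ S ↔ x j ∈ S := by
        intro j
        by_cases hj : x j = j
        · rw [hj]
        · exact iff_of_true (hsub j hj) (hsub _ fun e => hj (x.injective e))
      refine ⟨x.subtypePerm (fun j => (hs j).symm), ?_, ofSubtype_subtypePerm _ hsub⟩
      simp only [SetLike.mem_coe, mem_alternatingGroup]
      convert hx.sign using 1
      convert Equiv.Perm.sign_subtypePerm x (fun j => (hs j).symm) hsub using 3
    · left
      push Not at h
      intro g hg
      refine Equiv.ext fun j => ?_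
      rw [Perm.mul_apply, Perm.mul_apply]
      by_cases hj : j ∈ S
      · rw [h j hj]
        by_cases hgj : g j ∈ S
        · rw [h _ hgj]
        · exact absurd (g.injective (fix_outside hg hgj)) (fun e => hgj (e.symm ▸ hj))
      · rw [fix_outside hg hj, fix_outside hg (fun hxj => ?_)]
        by_cases hxx : x j = j
        · exact hj (hxx ▸ hxj)
        · exact hxx (x.injective (h _ hxj))

theorem card_altOn_ge {S : Finset (Fin n)} : Nonempty (↥(altOn S) ≃* ↥(alternatingGroup (Fin S.card))) := by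
  refine ⟨((alternatingGroup {i // i ∈ S}).equivMapOfInjective _ ofSubtype_injective).symm.trans ?_⟩
  let e : Perm {i // i ∈ S} ≃* Perm (Fin S.card) := (S.equivFin).permCongrHom
  refine (e.subgroupMap _).trans (MulEquiv.subgroupCongr ?_)
  ext g
  obtain ⟨σ, rfl⟩ := e.surjective g
  rw [show (e σ) ∈ Subgroup.map (e : Perm {i // i ∈ S} →* Perm (Fin S.card)) _ ↔ σ ∈ alternatingGroup {i // i ∈ S} from
    Subgroup.mem_map_iff_mem (f := (e : Perm {i // i ∈ S} →* Perm (Fin S.card))) e.injective (K := alternatingGroup {i // i ∈ S}),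
    mem_alternatingGroup, mem_alternatingGroup]
  show sign σ = 1 ↔ sign (S.equivFin.permCongr σ) = 1
  rw [sign_permCongr]

/-- A perfect group has no nontrivial image in a solvable group. -/
theorem perfect_hom {E M : Type*} [Group E] [Group M] (hE : Group.IsPerfect E) (hM : Group.IsSolvable M) (f : E →* M)
    (e : E) : f e = 1 := by
  obtain ⟨m, hm⟩ := (Group.isSolvable_def (G := M)).mp hM
  have h : ∀ k, ∀ e : E, f e ∈ derivedSeries M k := by
    intro k
    induction k with
    | zero => intro e; exact Subgroup.mem_top _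
    | succ k ih =>
      intro e
      have he : e ∈ commutator E := Group.IsPerfect.mem_commutator
      have hle : commutator E ≤ (derivedSeries M (k + 1)).comap f := by
        rw [_root_.commutator_def, Subgroup.commutator_le]
        intro a _ b _
        rw [Subgroup.mem_comap, map_commutatorElement, derivedSeries_succ]
        exact Subgroup.commutator_mem_commutator (ih a) (ih b)
      exact hle he
  simpa [hm] using h m e

theorem main (hn : 5 ≤ n) (H : Subgroup (Perm (Fin n))) (hF : IsQuasisimple ↥(generalizedFittingSubgroup ↥H))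
    (P : Sylow 3 (Perm (Fin n))) (hP : (P : Subgroup (Perm (Fin n))) ≤ H) :
    ∃ S : Finset (Fin n), n ≤ S.card + 2 ∧ Nonempty (↥(generalizedFittingSubgroup ↥H) ≃* ↥(alternatingGroup (Fin S.card))) := by
  classical
  haveI : Fact (Nat.Prime 3) := ⟨Nat.prime_three⟩
  -- the covering three-cycles
  obtain ⟨g, hg⟩ : ∃ g : Perm (Fin n), ∀ a b c : Fin n, ∀ k : ℕ, (a : ℕ) = 3 * k → (b : ℕ) = 3 * k + 1 →
      (c : ℕ) = 3 * k + 2 → cyc (g a) (g b) (g c) ∈ H := by
    set T : Set (Perm (Fin n)) := {x | ∃ a b c : Fin n, ∃ k : ℕ, (a : ℕ) = 3 * k ∧ (b : ℕ) = 3 * k + 1 ∧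
      (c : ℕ) = 3 * k + 2 ∧ x = cyc a b c}
    have hcomm : ∀ x ∈ T, ∀ y ∈ T, x * y = y * x := by
      rintro _ ⟨a, b, c, k, ha, hb, hc, rfl⟩ _ ⟨a', b', c', k', ha', hb', hc', rfl⟩
      by_cases hk : k = k'
      · subst hk
        rw [show a' = a from Fin.ext (by omega), show b' = b from Fin.ext (by omega),
          show c' = c from Fin.ext (by omega)]
      · refine mul_inv_eq_iff_eq_mul.mp ?_
        rw [conj_cyc, cyc_fix, cyc_fix, cyc_fix] <;> intro e <;> have := congrArg Fin.val e <;> omega
    haveI : IsMulCommutative ↥(Subgroup.closure T) := Subgroup.isMulCommutative_closure hcomm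
    have hp : IsPGroup 3 ↥(Subgroup.closure T) := by
      have key : ∀ x ∈ Subgroup.closure T, x ^ 3 = 1 := by
        intro x hx
        induction hx using Subgroup.closure_induction with
        | mem x hx =>
          obtain ⟨a, b, c, k, ha, hb, hc, rfl⟩ := hx
          have h3 : IsThreeCycle (cyc a b c) := isThreeCycle_cyc (fun e => by rw [e] at ha; omega)
            (fun e => by rw [e] at ha; omega) (fun e => by rw [e] at hb; omega)
          rw [← h3.orderOf, pow_orderOf_eq_one]
        | one => exact one_pow 3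
        | mul x y hx hy ihx ihy =>
          have hc : Commute x y := congrArg Subtype.val
            (IsMulCommutative.is_comm.comm (⟨x, hx⟩ : ↥(Subgroup.closure T)) ⟨y, hy⟩)
          rw [hc.mul_pow, ihx, ihy, one_mul]
        | inv x _ ih => rw [inv_pow, ih, inv_one]
      exact fun x => ⟨1, Subtype.ext (by simpa using key x x.2)⟩
    obtain ⟨Q, hQ⟩ := hp.exists_le_sylow
    obtain ⟨g, hgQ⟩ := MulAction.exists_smul_eq (Perm (Fin n)) Q P
    refine ⟨g, fun a b c k ha hb hc => hP ?_⟩
    rw [← conj_cyc, ← hgQ, Sylow.coe_subgroup_smul]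
    exact Subgroup.mem_map_of_mem _ (hQ (Subgroup.subset_closure ⟨a, b, c, k, ha, hb, hc, rfl⟩))
  have hcover : ∀ i : Fin n, (i : ℕ) < 3 * (n / 3) → ∃ x ∈ H, IsThreeCycle x ∧ x (g i) ≠ g i := by
    intro i hi
    have hk : 3 * ((i : ℕ) / 3) + 2 < n := by omega
    let a : Fin n := ⟨3 * ((i : ℕ) / 3), by omega⟩
    let b : Fin n := ⟨3 * ((i : ℕ) / 3) + 1, by omega⟩
    let c : Fin n := ⟨3 * ((i : ℕ) / 3) + 2, hk⟩
    have hab : g a ≠ g b := g.injective.ne (by simp [a, b, Fin.ext_iff])
    have hac : g a ≠ g c := g.injective.ne (by simp [a, c, Fin.ext_iff])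
    have hbc : g b ≠ g c := g.injective.ne (by simp [b, c, Fin.ext_iff])
    refine ⟨_, hg a b c _ rfl rfl rfl, isThreeCycle_cyc hab hac hbc, ?_⟩
    rcases (show i = a ∨ i = b ∨ i = c by simp only [a, b, c, Fin.ext_iff]; omega) with e | e | e <;> rw [e]
    · rw [cyc_a hab hac]; exact hab.symm
    · rw [cyc_b hac hbc]; exact hbc.symm
    · rw [cyc_c]; exact hac
  set E := generalizedFittingSubgroup ↥H with hE
  haveI hEn : E.Normal := inferInstance
  have hEc : IsComponent E := ⟨hEn.isSubnormal, hF⟩
  have hCE : ∀ x : ↥H, (∀ e ∈ E, e * x = x * e) → x ∈ E ∧ ∀ e ∈ E, e * x = x * e := fun x hx =>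
    ⟨centralizer_generalizedFitting_le (Subgroup.mem_centralizer_iff.mpr fun e he => hx e he), hx⟩
  have hperf : Group.IsPerfect ↥E := hF.1
  -- a large closed set carries `E`
  have big : ∀ S, Closed H S → 5 ≤ S.card → E.map H.subtype = altOn S := by
    intro S hS h5
    have hle := altOn_le hS.1
    set K := (altOn S).subgroupOf H
    let N : Subgroup ↥H := Subgroup.closure {x : ↥H | IsThreeCycle (x : Perm (Fin n))}
    haveI hNn : N.Normal := by
      refine ⟨fun x hx h => ?_⟩
      have : N.map (MulAut.conj h).toMonoidHom ≤ N := by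
        rw [MonoidHom.map_closure]
        refine Subgroup.closure_mono ?_
        rintro _ ⟨y, hy, rfl⟩
        show IsThreeCycle ((h * y * h⁻¹ : ↥H) : Perm (Fin n))
        have hy' : (y : Perm (Fin n)).cycleType = {3} := hy
        show cycleType _ = {3}
        rw [Subgroup.coe_mul, Subgroup.coe_mul, Subgroup.coe_inv, cycleType_conj, hy']
      exact this ⟨x, hx, rfl⟩
    obtain ⟨em⟩ := card_altOn_ge (S := S)
    let eK : ↥K ≃* ↥(alternatingGroup (Fin S.card)) := (Subgroup.subgroupOfEquivOfLe hle).trans em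
    haveI hKs : IsSimpleGroup ↥K := by
      haveI := alternatingGroup.isSimpleGroup (α := Fin S.card) (by simpa using h5)
      exact eK.isSimpleGroup
    have hKN : K ≤ N := by
      intro k hk
      obtain ⟨σ, hσ, hσk⟩ := (hk : (k : Perm (Fin n)) ∈ altOn S)
      rw [SetLike.mem_coe, ← closure_three_cycles_eq_alternating] at hσ
      suffices h : ∀ σ ∈ Subgroup.closure {σ : Perm {i // i ∈ S} | IsThreeCycle σ}, ∀ k : ↥H, ofSubtype σ = (k : Perm (Fin n)) → k ∈ N
        from h σ hσ k hσk
      intro σ hσ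
      induction hσ using Subgroup.closure_induction with
      | mem x hx =>
        intro k e
        refine Subgroup.subset_closure ?_
        show IsThreeCycle (k : Perm (Fin n))
        show cycleType _ = {3}
        rw [← e, cycleType_ofSubtype]
        exact hx
      | one => intro k e; rw [map_one] at e; rw [show k = 1 from Subtype.ext e.symm]; exact N.one_mem
      | mul x y hx hy ihx ihy =>
        intro k e
        rw [closure_three_cycles_eq_alternating] at hx hy
        let kx : ↥H := ⟨ofSubtype x, hle ⟨x, hx, rfl⟩⟩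
        let ky : ↥H := ⟨ofSubtype y, hle ⟨y, hy, rfl⟩⟩
        rw [show k = kx * ky from Subtype.ext (by rw [← e, map_mul]; rfl)]
        exact N.mul_mem (ihx kx rfl) (ihy ky rfl)
      | inv x hx ih =>
        intro k e
        have := N.inv_mem (ih k⁻¹ (by rw [Subgroup.coe_inv, ← e, map_inv, inv_inv]))
        rwa [inv_inv] at this
    have hKnorm : N ≤ Subgroup.normalizer (K : Set ↥H) := by
      refine (Subgroup.closure_le _).mpr fun x hx => ?_
      obtain ⟨-, -, h | h⟩ := three_conj hS x.2 hx
      · refine Subgroup.mem_normalizer_iff.mpr fun k => ⟨fun hk => ?_, fun hk => ?_⟩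
        · show (x * k * x⁻¹ : Perm (Fin n)) ∈ altOn S
          rw [h (k : Perm (Fin n)) hk]
          exact (mul_inv_cancel_right (k : Perm (Fin n)) (x : Perm (Fin n))).symm ▸ hk
        · have hk' : (x * k * x⁻¹ : Perm (Fin n)) ∈ altOn S := hk
          have e : (x * k * x⁻¹ : Perm (Fin n)) = k := by
            have := congrArg (fun t : Perm (Fin n) => (x : Perm (Fin n))⁻¹ * t) (h _ hk')
            simpa [mul_assoc] using this
          show (k : Perm (Fin n)) ∈ altOn S
          rwa [e] at hk'
      · exact Subgroup.le_normalizer (show x ∈ K from h)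
    have hKsub : K.IsSubnormal :=
      Subgroup.IsSubnormal.step K N hKN hNn.isSubnormal
        (Subgroup.normal_subgroupOf_of_le_normalizer hKnorm)
    have hKnc : ¬ IsMulCommutative ↥K := by
      intro hc
      have hab : ∀ a b : ↥(alternatingGroup (Fin S.card)), a * b = b * a :=
        fun a b => eK.symm.injective (by rw [map_mul, map_mul]; exact hc.is_comm.comm _ _)
      have hc' := alternatingGroup.center_eq_bot (α := Fin S.card) (by simp; omega)
      haveI : Nontrivial ↥(alternatingGroup (Fin S.card)) := eK.symm.toEquiv.nontrivial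
      obtain ⟨a, ha⟩ := exists_ne (1 : ↥(alternatingGroup (Fin S.card)))
      exact ha (Subgroup.mem_bot.mp (hc' ▸ Subgroup.mem_center_iff.mpr fun b => hab b a))
    have hKc : IsComponent K := ⟨hKsub, (by
      by_contra hq
      exact hKnc ⟨⟨fun a b => by_contra fun h => hq (CfsgLib.StandardAlt.isQuasisimple_of_simple h)⟩⟩)⟩
    rcases components_eq_or_commute hEc hKc with h | h
    · rw [h, Subgroup.map_subgroupOf_eq_of_le hle]
    · exfalso
      refine hKnc ⟨⟨fun a b => Subtype.ext ?_⟩⟩
      exact (hCE b fun e he => Comp.comm_of_commutator_eq_bot h he b.2).2 a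
        ((hCE a fun e he => Comp.comm_of_commutator_eq_bot h he a.2).1)
  by_cases hbig : ∃ S, Closed H S ∧ 5 ≤ S.card
  · obtain ⟨S, hS, h5⟩ := hbig
    have hES := big S hS h5
    obtain ⟨em⟩ := card_altOn_ge (S := S)
    refine ⟨S, ?_, ⟨((E.equivMapOfInjective _ H.subtype_injective).trans (MulEquiv.subgroupCongr hES)).trans em⟩⟩
    have hin : ∀ i : Fin n, (i : ℕ) < 3 * (n / 3) → g i ∈ S := by
      intro i hi
      by_contra hiS
      obtain ⟨x, hxH, hx, hxi⟩ := hcover i hi
      rcases (three_conj hS hxH hx).2.2 with h | h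
      · have hxE := hCE ⟨x, hxH⟩ fun e he => Subtype.ext (h e (hES ▸ Subgroup.mem_map_of_mem _ he)).symm
        exact hxi (fix_outside (hES ▸ Subgroup.mem_map_of_mem H.subtype hxE.1) hiS)
      · exact hxi (fix_outside h hiS)
    have : 3 * (n / 3) ≤ S.card := by
      have h1 := Finset.card_le_card_of_injOn (s := (Finset.univ : Finset (Fin (3 * (n / 3)))))
        (fun i => g (Fin.castLE (Nat.mul_div_le n 3) i)) (t := S) (fun i _ => hin _ i.2)
        (fun i _ j _ e => Fin.castLE_injective _ (g.injective e))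
      simpa using h1
    omega
  -- no large closed set
  exfalso
  push Not at hbig
  let N : Subgroup ↥H := Subgroup.closure {x : ↥H | IsThreeCycle (x : Perm (Fin n))}
  haveI hNn : N.Normal := by
    refine ⟨fun x hx h => ?_⟩
    have : N.map (MulAut.conj h).toMonoidHom ≤ N := by
      rw [MonoidHom.map_closure]
      refine Subgroup.closure_mono ?_
      rintro _ ⟨y, hy, rfl⟩
      have hy' : (y : Perm (Fin n)).cycleType = {3} := hy
      show cycleType ((h * y * h⁻¹ : ↥H) : Perm (Fin n)) = {3}
      rw [Subgroup.coe_mul, Subgroup.coe_mul, Subgroup.coe_inv, cycleType_conj, hy']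
    exact this ⟨x, hx, rfl⟩
  -- `E` fixes every point moved by a three-cycle
  have hfix : ∀ x ∈ H, IsThreeCycle x → ∀ a, x a ≠ a → ∀ e ∈ E, (e : Perm (Fin n)) a = a := by
    intro x hxH hx a ha e he
    rcases component_le_or_commutator_eq_bot hEc N with hEN | hEN
    · obtain ⟨S, hS, hxS⟩ := exists_closed hxH hx
      have haS : a ∈ S := hxS (mem_support.mpr ha)
      have hcard : S.card ≤ 4 := Nat.le_of_lt_succ (hbig S hS)
      have hst : ∀ y ∈ N, ∀ i, ((y : Perm (Fin n)) i ∈ S ↔ i ∈ S) := by
        intro y hy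
        induction hy using Subgroup.closure_induction with
        | mem y hy =>
          intro i
          obtain ⟨h1, h2, -⟩ := three_conj hS y.2 hy
          exact ⟨fun h => by_contra fun h' => h2 i h' h, h1 i⟩
        | one => intro i; simp
        | mul y z _ _ ihy ihz => intro i; rw [Subgroup.coe_mul, Perm.mul_apply, ihy, ihz]
        | inv y _ ih =>
          intro i
          have := ih ((y : Perm (Fin n))⁻¹ i)
          rw [Subgroup.coe_inv]
          simp at this ⊢
          exact this.symm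
      let f : ↥E →* Perm {i // i ∈ S} := {
        toFun := fun e => ((e : ↥H) : Perm (Fin n)).subtypePerm fun i => hst _ (hEN e.2) i
        map_one' := Equiv.ext fun i => Subtype.ext rfl
        map_mul' := fun a b => Equiv.ext fun i => Subtype.ext rfl }
      have hsol : Group.IsSolvable (Perm {i // i ∈ S}) := by
        haveI := ZasFC.isSolvable_perm_four
        let ι : {i // i ∈ S} ↪ Fin 4 := (Classical.choice (Function.Embedding.nonempty_of_card_le (by simpa using hcard)))
        exact Group.isSolvable_of_isSolvable_injective (f := Perm.viaEmbeddingHom ι) (Perm.viaEmbeddingHom_injective ι)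
      exact congrArg (fun σ : Perm {i // i ∈ S} => (σ ⟨a, haS⟩ : Fin n)) (perfect_hom hperf hsol f ⟨e, he⟩)
    · -- `E` centralises `x`
      have hxN : (⟨x, hxH⟩ : ↥H) ∈ N := Subgroup.subset_closure hx
      have hcom : ∀ e ∈ E, (e : Perm (Fin n)) * x = x * e := fun e he =>
        congrArg Subtype.val (Comp.comm_of_commutator_eq_bot hEN he hxN)
      have hxs : ∀ e ∈ E, ∀ i, ((e : Perm (Fin n)) i ∈ x.support ↔ i ∈ x.support) := by
        intro e he i
        rw [mem_support, mem_support]
        have := congrArg (fun σ : Perm (Fin n) => σ i) (hcom e he)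
        simp only [Perm.mul_apply] at this
        rw [← this]
        exact (e : Perm (Fin n)).injective.ne_iff
      let f : ↥E →* Perm {i // i ∈ x.support} := {
        toFun := fun e => ((e : ↥H) : Perm (Fin n)).subtypePerm fun i => hxs _ e.2 i
        map_one' := Equiv.ext fun i => Subtype.ext rfl
        map_mul' := fun a b => Equiv.ext fun i => Subtype.ext rfl }
      have hsol : Group.IsSolvable (Perm {i // i ∈ x.support}) := by
        haveI := ZasFC.isSolvable_perm_four
        let ι : {i // i ∈ x.support} ↪ Fin 4 :=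
          (Classical.choice (Function.Embedding.nonempty_of_card_le (by rw [Fintype.card_coe, hx.card_support, Fintype.card_fin]; norm_num)))
        exact Group.isSolvable_of_isSolvable_injective (f := Perm.viaEmbeddingHom ι) (Perm.viaEmbeddingHom_injective ι)
      exact congrArg (fun σ : Perm {i // i ∈ x.support} => (σ ⟨a, mem_support.mpr ha⟩ : Fin n))
        (perfect_hom hperf hsol f ⟨e, he⟩)
  -- `E` moves at most two points
  have hmove : ∀ e ∈ E, ((e : Perm (Fin n))).support ⊆ (Finset.univ.filter fun i : Fin n => 3 * (n / 3) ≤ (i : ℕ)).image g := by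
    intro e he i hi
    rw [Finset.mem_image]
    refine ⟨g.symm i, Finset.mem_filter.mpr ⟨Finset.mem_univ _, ?_⟩, g.apply_symm_apply i⟩
    by_contra hlt
    obtain ⟨x, hxH, hx, hxi⟩ := hcover _ (not_le.mp hlt)
    rw [g.apply_symm_apply] at hxi
    exact mem_support.mp hi (hfix x hxH hx i hxi e he)
  set R := (Finset.univ.filter fun i : Fin n => 3 * (n / 3) ≤ (i : ℕ)).image g
  have hR : R.card ≤ 2 := by
    refine Finset.card_image_le.trans ?_
    refine le_trans (Finset.card_le_card_of_injOn (fun i : Fin n => (i : ℕ) - 3 * (n / 3)) (t := Finset.range 2)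
      (fun i hi => ?_) (fun i hi j hj e => Fin.ext ?_)) (Finset.card_range 2).le
    · simp only [Finset.mem_coe, Finset.mem_filter, Finset.mem_range] at hi ⊢
      have := i.2
      omega
    · simp only [Finset.mem_coe, Finset.mem_filter] at hi hj e
      omega
  refine isQuasisimple_not_isSolvable hF ?_
  have hs : ∀ e ∈ E, ∀ i, ((e : Perm (Fin n)) i ∈ R ↔ i ∈ R) := by
    intro e he i
    by_cases hi : (e : Perm (Fin n)) i = i
    · rw [hi]
    · exact iff_of_true (hmove e he (apply_mem_support.mpr (mem_support.mpr hi))) (hmove e he (mem_support.mpr hi))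
  let f : ↥E →* Perm {i // i ∈ R} := {
    toFun := fun e => ((e : ↥H) : Perm (Fin n)).subtypePerm fun i => hs _ e.2 i
    map_one' := Equiv.ext fun i => Subtype.ext rfl
    map_mul' := fun a b => Equiv.ext fun i => Subtype.ext rfl }
  haveI := ZasFC.isSolvable_perm_four
  let ι : {i // i ∈ R} ↪ Fin 4 :=
    (Classical.choice (Function.Embedding.nonempty_of_card_le (by simpa using hR.trans (by omega))))
  refine Group.isSolvable_of_isSolvable_injective (f := (Perm.viaEmbeddingHom ι).comp f) ((Perm.viaEmbeddingHom_injective ι).comp ?_)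
  intro a b h
  refine Subtype.ext (Subtype.ext (Equiv.ext fun i => ?_))
  by_cases hi : i ∈ R
  · exact congrArg (fun σ : Perm {i // i ∈ R} => (σ ⟨i, hi⟩ : Fin n)) h
  · rw [notMem_support.mp fun h' => hi (hmove _ a.2 h'), notMem_support.mp fun h' => hi (hmove _ b.2 h')]

/-- Let n ≥ 5 and let H be a subgroup of the symmetric group of degree n whose generalized Fitting subgroup F*(H) is quasisimple. If H contains a Sylow 3-subgroup of the symmetric group, then F*(H) is isomorphic to an alternating group of degree m for some m ∈ {n − 2, n − 1, n}. -/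
theorem result (n : ℕ) (hn : 5 ≤ n) (H : Subgroup (Equiv.Perm (Fin n))) (hF : Cfsg.IsQuasisimple ↥(Cfsg.generalizedFittingSubgroup ↥H)) (hS : ∃ P : Sylow 3 (Equiv.Perm (Fin n)), (P : Subgroup (Equiv.Perm (Fin n))) ≤ H) : ∃ m : ℕ, (m = n - 2 ∨ m = n - 1 ∨ m = n) ∧ Nonempty (↥(Cfsg.generalizedFittingSubgroup ↥H) ≃* ↥(alternatingGroup (Fin m))) := by
  obtain ⟨P, hP⟩ := hS
  obtain ⟨S, hS, he⟩ := main hn H hF P hP
  refine ⟨S.card, ?_, he⟩
  have : S.card ≤ n := by simpa using S.card_le_univ
  omega

end Cfsg.Agent.S2929
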