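import Cfsg.Statements.S2928
import Cfsg.Agent.S2929
import Cfsg.Agent.Lib.MaxSub.ImprimitiveEven

set_option autoImplicit false
set_option linter.unusedVariables false
open Cfsg
open scoped commutatorElement

namespace Cfsg.Agent.S2928

open Equiv Equiv.Perm CfsgLib CfsgLib.AutAlt Cfsg.Agent.S2929

variable {n : ℕ}

/-- A double transposition. -/
def DT (d : Perm (Fin n)) : Prop := d * d = 1 ∧ d.support.card = 4

theorem dt_invol {d : Perm (Fin n)} (h : DT d) (x : Fin n) : d (d x) = x :=
  congrArg (fun σ : Perm (Fin n) => σ x) h.1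

theorem dt_form {d : Perm (Fin n)} (h : DT d) {p : Fin n} (hp : d p ≠ p) :
    ∃ c e, [p, d p, c, e].Nodup ∧ d = swap p (d p) * swap c e ∧ d.support = {p, d p, c, e} := by
  have hsub : ({p, d p} : Finset (Fin n)) ⊆ d.support := by
    intro x hx
    simp only [Finset.mem_insert, Finset.mem_singleton] at hx
    rcases hx with rfl | rfl
    · exact mem_support.mpr hp
    · exact mem_support.mpr fun e => hp (d.injective e)
  obtain ⟨c, hc, hc'⟩ : ∃ c ∈ d.support, c ∉ ({p, d p} : Finset (Fin n)) := by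
    refine Finset.exists_mem_notMem_of_card_lt_card (lt_of_le_of_lt Finset.card_le_two ?_)
    rw [h.2]; norm_num
  simp only [Finset.mem_insert, Finset.mem_singleton, not_or] at hc'
  have hdc : d c ≠ c := mem_support.mp hc
  have h1 : d c ≠ p := fun e => hc'.2 (by rw [← e, dt_invol h])
  have h2 : d c ≠ d p := fun e => hc'.1 (d.injective e)
  have hnd : [p, d p, c, d c].Nodup := by
    simp [Ne.symm hp, Ne.symm hc'.1, Ne.symm hc'.2, h1.symm, (Ne.symm h2), hdc.symm]
  have hs : d.support = {p, d p, c, d c} := by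
    refine (Finset.eq_of_subset_of_card_le ?_ ?_).symm
    · intro x hx
      simp only [Finset.mem_insert, Finset.mem_singleton] at hx
      rcases hx with rfl | rfl | rfl | rfl
      exacts [hsub (by simp), hsub (by simp), hc, mem_support.mpr fun e => hdc (d.injective e)]
    · rw [h.2, Finset.card_insert_of_notMem, Finset.card_insert_of_notMem, Finset.card_insert_of_notMem,
        Finset.card_singleton] <;> simp [Ne.symm hp, Ne.symm hc'.1, Ne.symm hc'.2, h1.symm, (Ne.symm h2), hdc.symm]
  refine ⟨c, d c, hnd, Equiv.ext fun x => ?_, hs⟩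
  rw [Perm.mul_apply]
  by_cases e1 : x = p
  · rw [e1, swap_apply_of_ne_of_ne (Ne.symm hc'.1) h1.symm, swap_apply_left]
  by_cases e2 : x = d p
  · rw [e2, swap_apply_of_ne_of_ne (Ne.symm hc'.2) (Ne.symm h2), swap_apply_right, dt_invol h]
  by_cases e3 : x = c
  · rw [e3, swap_apply_left, swap_apply_of_ne_of_ne h1 h2]
  by_cases e4 : x = d c
  · rw [e4, swap_apply_right, swap_apply_of_ne_of_ne hc'.1 hc'.2, dt_invol h]
  rw [swap_apply_of_ne_of_ne e3 e4, swap_apply_of_ne_of_ne e1 e2]
  exact notMem_support.mp (by rw [hs]; simp [e1, e2, e3, e4])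

theorem dt_conj {d : Perm (Fin n)} (h : DT d) (σ : Perm (Fin n)) : DT (σ * d * σ⁻¹) := by
  refine ⟨?_, by rw [support_conj, Finset.card_map]; exact h.2⟩
  rw [show σ * d * σ⁻¹ * (σ * d * σ⁻¹) = σ * (d * d) * σ⁻¹ by group, h.1, mul_one, mul_inv_cancel]

theorem dt_swaps {a b c e : Fin n} (h : [a, b, c, e].Nodup) :
    DT (swap a b * swap c e) ∧ (swap a b * swap c e).support = {a, b, c, e} := by
  simp only [List.nodup_cons, List.mem_cons, List.not_mem_nil, or_false, not_or, List.nodup_nil, and_true,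
    not_false_eq_true] at h
  obtain ⟨⟨ab, ac, ae⟩, ⟨bc, be⟩, ce⟩ := h
  have hd : Perm.Disjoint (swap a b) (swap c e) := fun x => by
    by_cases e1 : x = a
    · subst e1; exact Or.inr (swap_apply_of_ne_of_ne ac ae)
    by_cases e2 : x = b
    · subst e2; exact Or.inr (swap_apply_of_ne_of_ne bc be)
    exact Or.inl (swap_apply_of_ne_of_ne e1 e2)
  have hs : (swap a b * swap c e).support = {a, b, c, e} := by
    rw [hd.support_mul, support_swap ab, support_swap ce]
    ext x
    simp only [Finset.mem_union, Finset.mem_insert, Finset.mem_singleton]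
    tauto
  refine ⟨⟨?_, ?_⟩, hs⟩
  · rw [mul_assoc, ← mul_assoc (swap c e), ← hd.commute.eq, mul_assoc, swap_mul_self, mul_one, swap_mul_self]
  · rw [hs, Finset.card_insert_of_notMem, Finset.card_insert_of_notMem, Finset.card_insert_of_notMem,
      Finset.card_singleton] <;> simp [ab, ac, ae, bc, be, ce]

/-- The points moved by the three-cycles of `H`. -/
def M (H : Subgroup (Perm (Fin n))) : Set (Fin n) := {a | ∃ x ∈ H, IsThreeCycle x ∧ x a ≠ a}

theorem M_inv {H : Subgroup (Perm (Fin n))} {h : Perm (Fin n)} (hh : h ∈ H) {a : Fin n} : h a ∈ M H ↔ a ∈ M H := by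
  have key : ∀ k ∈ H, ∀ b ∈ M H, k b ∈ M H := by
    rintro k hk b ⟨x, hxH, hx, hxb⟩
    refine ⟨k * x * k⁻¹, H.mul_mem (H.mul_mem hk hxH) (H.inv_mem hk), ?_, ?_⟩
    · show cycleType _ = {3}
      rw [cycleType_conj]; exact hx
    · simp only [Perm.mul_apply, Perm.inv_def, Equiv.symm_apply_apply]
      exact fun e => hxb (k.injective e)
  refine ⟨fun ha => ?_, key h hh a⟩
  have := key _ (H.inv_mem hh) _ ha
  simpa [Perm.inv_def] using this

theorem one_point {H : Subgroup (Perm (Fin n))} {d d' : Perm (Fin n)} (hd : DT d) (hdH : d ∈ H) (hd' : DT d')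
    (hd'H : d' ∈ H) {p : Fin n} (h : d.support ∩ d'.support = {p}) : p ∈ M H := by
  have hp : p ∈ d.support ∩ d'.support := by rw [h]; exact Finset.mem_singleton_self p
  rw [Finset.mem_inter, mem_support, mem_support] at hp
  obtain ⟨c, e, hnd, hde, hds⟩ := dt_form hd hp.1
  obtain ⟨f, g, hnd', hde', hds'⟩ := dt_form hd' hp.2
  have hne : ∀ x ∈ d.support, x ≠ p → x ∉ d'.support := fun x hx hxp hx' =>
    hxp (Finset.mem_singleton.mp (h ▸ Finset.mem_inter.mpr ⟨hx, hx'⟩))
  rw [hds, hds'] at hne
  simp only [List.nodup_cons, List.mem_cons, List.not_mem_nil, or_false, not_or, List.nodup_nil, and_true,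
    not_false_eq_true] at hnd hnd'
  obtain ⟨⟨p1, p2, p3⟩, ⟨b1, b2⟩, c1⟩ := hnd
  obtain ⟨⟨q1, q2, q3⟩, ⟨b1', b2'⟩, c1'⟩ := hnd'
  have n1 := hne (d p) (by simp) (Ne.symm p1)
  have n2 := hne c (by simp) (Ne.symm p2)
  have n3 := hne e (by simp) (Ne.symm p3)
  simp only [Finset.mem_insert, Finset.mem_singleton, not_or] at n1 n2 n3
  have h7 : [p, d p, c, e, d' p, f, g].Nodup := by
    simp [p1, p2, p3, b1, b2, c1, q1, q2, q3, b1', b2', c1', n1.2.1, n1.2.2.1, n1.2.2.2, n2.2.1, n2.2.2.1, n2.2.2.2,
      n3.2.1, n3.2.2.1, n3.2.2.2]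
  obtain ⟨h4, h3⟩ := MaxSub.threeCycle_of_doubles h7
  rw [← hde, ← hde'] at h4
  refine ⟨_, h4 ▸ H.pow_mem (H.mul_mem hdH hd'H) 4, h3, ?_⟩
  rw [Perm.mul_apply, swap_apply_left, swap_apply_of_ne_of_ne (Ne.symm q1) (Ne.symm n1.2.1)]
  exact (Ne.symm q1)

/-- The double transpositions away from the three-cycles. -/
def DS (H : Subgroup (Perm (Fin n))) : Set (Perm (Fin n)) :=
  {d | d ∈ H ∧ DT d ∧ ∀ x ∈ d.support, x ∉ M H}

theorem DS_conj {H : Subgroup (Perm (Fin n))} {d h : Perm (Fin n)} (hd : d ∈ DS H) (hh : h ∈ H) :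
    h * d * h⁻¹ ∈ DS H := by
  refine ⟨H.mul_mem (H.mul_mem hh hd.1) (H.inv_mem hh), dt_conj hd.2.1 h, fun x hx => ?_⟩
  rw [support_conj, Finset.mem_map] at hx
  obtain ⟨y, hy, rfl⟩ := hx
  exact fun hM => hd.2.2 y hy ((M_inv hh).mp hM)

/-- A point of a normal abelian subgroup centralises the quasisimple `F*`. -/
theorem commutes_F {H : Subgroup (Perm (Fin n))} (hF : IsQuasisimple ↥(generalizedFittingSubgroup ↥H))
    (T : Set ↥H) (hcomm : ∀ a ∈ T, ∀ b ∈ T, a * b = b * a) (hinv : ∀ a ∈ T, ∀ h : ↥H, h * a * h⁻¹ ∈ T)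
    {a : ↥H} (ha : a ∈ T) {e : ↥H} (he : e ∈ generalizedFittingSubgroup ↥H) :
    (e : Perm (Fin n)) * a = a * e := by
  set E := generalizedFittingSubgroup ↥H
  have hEc : IsComponent E := ⟨(inferInstance : E.Normal).isSubnormal, hF⟩
  haveI hA : (Subgroup.closure T).Normal := by
    refine ⟨fun x hx h => ?_⟩
    have : (Subgroup.closure T).map (MulAut.conj h).toMonoidHom ≤ Subgroup.closure T := by
      rw [MonoidHom.map_closure]
      exact Subgroup.closure_mono (by rintro _ ⟨y, hy, rfl⟩; exact hinv y hy h)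
    exact this ⟨x, hx, rfl⟩
  haveI : IsMulCommutative ↥(Subgroup.closure T) := Subgroup.isMulCommutative_closure hcomm
  rcases component_le_or_commutator_eq_bot hEc (Subgroup.closure T) with h | h
  · exact absurd h (component_not_le_of_isSolvable hEc
      (Group.isSolvable_of_comm fun a b => IsMulCommutative.is_comm.comm a b))
  · exact congrArg Subtype.val (Comp.comm_of_commutator_eq_bot h he (Subgroup.subset_closure ha))

/-- A perfect group permuting a set of at most four points fixes it. -/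
theorem perfect_fix {E : Type*} [Group E] (hE : Group.IsPerfect E) (f : E →* Perm (Fin n)) (S : Finset (Fin n))
    (hS : S.card ≤ 4) (hst : ∀ e : E, ∀ i, (f e i ∈ S ↔ i ∈ S)) (e : E) {i : Fin n} (hi : i ∈ S) : f e i = i := by
  let g : E →* Perm {i // i ∈ S} := {
    toFun := fun e => (f e).subtypePerm fun i => hst e i
    map_one' := Equiv.ext fun i => Subtype.ext (by show f 1 (i : Fin n) = i; rw [map_one]; rfl)
    map_mul' := fun a b => Equiv.ext fun i => Subtype.ext (by show f (a * b) (i : Fin n) = f a (f b i); rw [map_mul]; rfl) }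
  have hsol : Group.IsSolvable (Perm {i // i ∈ S}) := by
    haveI := ZasFC.isSolvable_perm_four
    let ι : {i // i ∈ S} ↪ Fin 4 := (Classical.choice (Function.Embedding.nonempty_of_card_le (by simpa using hS)))
    exact Group.isSolvable_of_isSolvable_injective (f := Perm.viaEmbeddingHom ι) (Perm.viaEmbeddingHom_injective ι)
  exact congrArg (fun σ : Perm {i // i ∈ S} => (σ ⟨i, hi⟩ : Fin n)) (perfect_hom hE hsol g e)

theorem comm_fix {H : Subgroup (Perm (Fin n))} (hF : IsQuasisimple ↥(generalizedFittingSubgroup ↥H))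
    {d : Perm (Fin n)} (hd : d.support.card ≤ 4)
    (hc : ∀ e ∈ generalizedFittingSubgroup ↥H, (e : Perm (Fin n)) * d = d * e)
    {i : Fin n} (hi : i ∈ d.support) {e : ↥H} (he : e ∈ generalizedFittingSubgroup ↥H) :
    (e : Perm (Fin n)) i = i := by
  refine perfect_fix hF.1 (H.subtype.comp (generalizedFittingSubgroup ↥H).subtype) d.support hd ?_ ⟨e, he⟩ hi
  intro x j
  rw [mem_support, mem_support]
  show d (((x : ↥H) : Perm (Fin n)) j) ≠ ((x : ↥H) : Perm (Fin n)) j ↔ _
  rw [← Perm.mul_apply, ← hc x x.2, Perm.mul_apply]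
  exact ((x : ↥H) : Perm (Fin n)).injective.ne_iff

/-- Elements of order `1, 2, 4` preserving the standard blocks. -/
def W (n : ℕ) (w : Perm (Fin n)) : Subgroup (Perm (Fin n)) where
  carrier := {σ | (∀ i, ((σ i : ℕ) / 4 = (i : ℕ) / 4)) ∧ (∀ i : Fin n, 4 * (n / 4) ≤ (i : ℕ) → σ i = i) ∧ σ * w = w * σ}
  one_mem' := ⟨fun i => rfl, fun i _ => rfl, by simp⟩
  mul_mem' := fun {a b} ha hb => ⟨fun i => by rw [Perm.mul_apply, ha.1, hb.1],
    fun i hi => by rw [Perm.mul_apply, hb.2.1 i hi, ha.2.1 i hi],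
    (show Commute (a * b) w from (show Commute a w from ha.2.2).mul_left hb.2.2).eq⟩
  inv_mem' := fun {a} ha => ⟨fun i => by have := ha.1 (a⁻¹ i); simp at this ⊢; omega,
    fun i hi => by rw [Perm.inv_def, Equiv.symm_apply_eq, ha.2.1 i hi],
    (show Commute a⁻¹ w from (show Commute a w from ha.2.2).inv_left).eq⟩

theorem standard (hn : 8 ≤ n) : ∃ Q : Subgroup (Perm (Fin n)), Q ≤ alternatingGroup (Fin n) ∧ IsPGroup 2 ↥Q ∧
    (∀ a b c e : Fin n, ∀ j l : ℕ, j ≠ l → j < 2 * (n / 4) → l < 2 * (n / 4) → (a : ℕ) = 2 * j → (b : ℕ) = 2 * j + 1 →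
      (c : ℕ) = 2 * l → (e : ℕ) = 2 * l + 1 → swap a b * swap c e ∈ Q) ∧
    (∀ a b c e : Fin n, ∀ k : ℕ, k < n / 4 → (a : ℕ) = 4 * k → (b : ℕ) = 4 * k + 2 →
      (c : ℕ) = 4 * k + 1 → (e : ℕ) = 4 * k + 3 → swap a b * swap c e ∈ Q) := by
  let f : Fin n → Fin n := fun i =>
    if h : (i : ℕ) < 4 * (n / 4) then
      (if h2 : (i : ℕ) % 2 = 0 then ⟨(i : ℕ) + 1, by omega⟩ else ⟨(i : ℕ) - 1, by omega⟩)
    else i
  have hfv : ∀ i : Fin n, (f i : ℕ) =
      if (i : ℕ) < 4 * (n / 4) then (if (i : ℕ) % 2 = 0 then (i : ℕ) + 1 else (i : ℕ) - 1) else i := by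
    intro i
    simp only [f]
    split_ifs <;> rfl
  have hff : Function.Involutive f := by
    intro i
    apply Fin.ext
    rw [hfv, hfv]
    split_ifs <;> omega
  let w : Perm (Fin n) := hff.toPerm f
  have hW : IsPGroup 2 ↥(W n w) := by
    rintro ⟨σ, h1, h2, h3⟩
    refine ⟨2, Subtype.ext ?_⟩
    show σ ^ (2 ^ 2) = 1
    have hw : ∀ i, σ (f i) = f (σ i) := fun i => congrArg (fun τ : Perm (Fin n) => τ i) h3
    have h4 : ∀ i, σ (σ i) = i ∨ σ (σ i) = f i := by
      intro i
      by_cases hi : 4 * (n / 4) ≤ (i : ℕ)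
      · left; rw [h2 i hi, h2 i hi]
      push Not at hi
      have e1 := h1 i
      have e2 := h1 (σ i)
      by_cases hs : σ i = i ∨ σ i = f i
      · rcases hs with e | e
        · left; rw [e, e]
        · left; rw [e, hw, e, hff i]
      push Not at hs
      have n1 : σ (σ i) ≠ σ i := fun e => hs.1 (σ.injective e)
      have n2 : σ (σ i) ≠ f (σ i) := fun e => hs.2 (σ.injective (e.trans (hw i).symm))
      have hf1 := hfv i
      have hf2 := hfv (σ i)
      rw [Fin.ext_iff, Fin.ext_iff]
      rw [Ne, Fin.ext_iff] at n1 n2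
      obtain ⟨hs1, hs2⟩ := hs
      rw [Ne, Fin.ext_iff] at hs1 hs2
      rw [if_pos hi] at hf1
      rw [if_pos (by omega)] at hf2
      split_ifs at hf1 hf2 <;> omega
    refine Equiv.ext fun i => ?_
    show (σ ^ 4) i = i
    simp only [pow_succ, pow_zero, one_mul, Perm.mul_apply]
    rcases h4 i with e | e
    · rw [e, e]
    · rw [e, hw, hw, e, hff i]
  refine ⟨W n w ⊓ alternatingGroup (Fin n), inf_le_right, hW.to_le inf_le_left, ?_, ?_⟩
  · intro a b c e j l hjl hj hl ha hb hc he
    have hab : a ≠ b := fun h => by rw [h] at ha; omega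
    have hce : c ≠ e := fun h => by rw [h] at hc; omega
    have hsw : ∀ (a b : Fin n) (j : ℕ), j < 2 * (n / 4) → (a : ℕ) = 2 * j → (b : ℕ) = 2 * j + 1 → swap a b ∈ W n w := by
      intro a b j hj ha hb
      have hfa : f a = b := Fin.ext (by rw [hfv, if_pos (by omega), if_pos (by omega)]; omega)
      refine ⟨fun i => ?_, fun i hi => ?_, ?_⟩
      · by_cases e1 : i = a
        · rw [e1, swap_apply_left]; omega
        by_cases e2 : i = b
        · rw [e2, swap_apply_right]; omega
        rw [swap_apply_of_ne_of_ne e1 e2]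
      · exact swap_apply_of_ne_of_ne (fun h => by rw [h] at hi; omega) (fun h => by rw [h] at hi; omega)
      · refine Equiv.ext fun i => ?_
        show swap a b (f i) = f (swap a b i)
        by_cases e1 : i = a
        · rw [e1, hfa, swap_apply_right, swap_apply_left, ← hfa, hff]
        by_cases e2 : i = b
        · rw [e2, ← hfa, hff, hfa, swap_apply_left, swap_apply_right, hfa]
        rw [swap_apply_of_ne_of_ne e1 e2, swap_apply_of_ne_of_ne]
        · exact fun h => e2 (hff.injective (by rw [h, ← hfa, hff]))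
        · exact fun h => e1 (hff.injective (by rw [h, hfa]))
    exact ⟨Subgroup.mul_mem _ (hsw a b j hj ha hb) (hsw c e l hl hc he), mem_alternatingGroup.mpr (by
      rw [map_mul, sign_swap hab, sign_swap hce]; rfl)⟩
  · intro a b c e k hk ha hb hc he
    have hab : a ≠ b := fun h => by rw [h] at ha; omega
    have hce : c ≠ e := fun h => by rw [h] at hc; omega
    have hnd : [a, b, c, e].Nodup := by
      simp only [List.nodup_cons, List.mem_cons, List.not_mem_nil, or_false, not_or, List.nodup_nil, and_true,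
        not_false_eq_true, Fin.ext_iff]
      omega
    obtain ⟨hdt, hds⟩ := dt_swaps hnd
    have hv : ∀ i, (i = a ∧ (swap a b * swap c e) i = b) ∨ (i = b ∧ (swap a b * swap c e) i = a) ∨
        (i = c ∧ (swap a b * swap c e) i = e) ∨ (i = e ∧ (swap a b * swap c e) i = c) ∨
        ((i ≠ a ∧ i ≠ b ∧ i ≠ c ∧ i ≠ e) ∧ (swap a b * swap c e) i = i) := by
      simp only [List.nodup_cons, List.mem_cons, List.not_mem_nil, or_false, not_or, List.nodup_nil, and_true,
        not_false_eq_true] at hnd
      obtain ⟨⟨h1, h2, h3⟩, ⟨h4, h5⟩, h6⟩ := hnd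
      intro i
      rw [Perm.mul_apply]
      by_cases e1 : i = a
      · exact Or.inl ⟨e1, by rw [e1, swap_apply_of_ne_of_ne h2 h3, swap_apply_left]⟩
      by_cases e2 : i = b
      · exact Or.inr (Or.inl ⟨e2, by rw [e2, swap_apply_of_ne_of_ne h4 h5, swap_apply_right]⟩)
      by_cases e3 : i = c
      · exact Or.inr (Or.inr (Or.inl ⟨e3, by rw [e3, swap_apply_left, swap_apply_of_ne_of_ne (Ne.symm h3) (Ne.symm h5)]⟩))
      by_cases e4 : i = e
      · exact Or.inr (Or.inr (Or.inr (Or.inl ⟨e4, by rw [e4, swap_apply_right, swap_apply_of_ne_of_ne (Ne.symm h2) (Ne.symm h4)]⟩)))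
      exact Or.inr (Or.inr (Or.inr (Or.inr ⟨⟨e1, e2, e3, e4⟩, by
        rw [swap_apply_of_ne_of_ne e3 e4, swap_apply_of_ne_of_ne e1 e2]⟩)))
    refine ⟨⟨fun i => ?_, fun i hi => ?_, ?_⟩, mem_alternatingGroup.mpr (by
      rw [map_mul, sign_swap hab, sign_swap hce]; rfl)⟩
    · rcases hv i with ⟨rfl, h⟩ | ⟨rfl, h⟩ | ⟨rfl, h⟩ | ⟨rfl, h⟩ | ⟨-, h⟩ <;> rw [h] <;> omega
    · rcases hv i with ⟨rfl, h⟩ | ⟨rfl, h⟩ | ⟨rfl, h⟩ | ⟨rfl, h⟩ | ⟨-, h⟩
      all_goals first | exact h | omega
    · refine Equiv.ext fun i => ?_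
      show (swap a b * swap c e) (f i) = f ((swap a b * swap c e) i)
      have fa : f a = c := Fin.ext (by rw [hfv, if_pos (by omega), if_pos (by omega)]; omega)
      have fb : f b = e := Fin.ext (by rw [hfv, if_pos (by omega), if_pos (by omega)]; omega)
      have fc : f c = a := by rw [← fa, hff]
      have fe : f e = b := by rw [← fb, hff]
      rcases hv i with ⟨h0, h⟩ | ⟨h0, h⟩ | ⟨h0, h⟩ | ⟨h0, h⟩ | ⟨⟨n1, n2, n3, n4⟩, h⟩
      · rw [h, h0, fa, fb]
        rcases hv c with ⟨h', _⟩ | ⟨h', _⟩ | ⟨_, h'⟩ | ⟨h', _⟩ | ⟨⟨_, _, h', _⟩, _⟩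
        all_goals first | exact h' | (exfalso; simp only [List.nodup_cons, List.mem_cons, List.not_mem_nil, or_false, not_or] at hnd; tauto)
      · rw [h, h0, fb, fa]
        rcases hv e with ⟨h', _⟩ | ⟨h', _⟩ | ⟨h', _⟩ | ⟨_, h'⟩ | ⟨⟨_, _, _, h'⟩, _⟩
        all_goals first | exact h' | (exfalso; simp only [List.nodup_cons, List.mem_cons, List.not_mem_nil, or_false, not_or] at hnd; tauto)
      · rw [h, h0, fc, fe]
        rcases hv a with ⟨_, h'⟩ | ⟨h', _⟩ | ⟨h', _⟩ | ⟨h', _⟩ | ⟨⟨h', _⟩, _⟩
        all_goals first | exact h' | (exfalso; simp only [List.nodup_cons, List.mem_cons, List.not_mem_nil, or_false, not_or] at hnd; tauto)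
      · rw [h, h0, fe, fc]
        rcases hv b with ⟨h', _⟩ | ⟨_, h'⟩ | ⟨h', _⟩ | ⟨h', _⟩ | ⟨⟨_, h', _⟩, _⟩
        all_goals first | exact h' | (exfalso; simp only [List.nodup_cons, List.mem_cons, List.not_mem_nil, or_false, not_or] at hnd; tauto)
      · rw [h]
        rcases hv (f i) with ⟨h', _⟩ | ⟨h', _⟩ | ⟨h', _⟩ | ⟨h', _⟩ | ⟨_, h'⟩
        · exact absurd (by rw [← hff i, h', fa]) n3
        · exact absurd (by rw [← hff i, h', fb]) n4
        · exact absurd (by rw [← hff i, h', fc]) n1
        · exact absurd (by rw [← hff i, h', fe]) n2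
        · exact h'

/-- With a large closed set, `F*` is its alternating group. -/
theorem big_case {H : Subgroup (Perm (Fin n))} (hF : IsQuasisimple ↥(generalizedFittingSubgroup ↥H))
    {S : Finset (Fin n)} (hS : Closed H S) (h5 : 5 ≤ S.card) :
    (generalizedFittingSubgroup ↥H).map H.subtype = altOn S := by
  set E := generalizedFittingSubgroup ↥H with hE
  haveI hEn : E.Normal := inferInstance
  have hEc : IsComponent E := ⟨hEn.isSubnormal, hF⟩
  have hCE : ∀ x : ↥H, (∀ e ∈ E, e * x = x * e) → x ∈ E ∧ ∀ e ∈ E, e * x = x * e := fun x hx =>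
    ⟨centralizer_generalizedFitting_le (Subgroup.mem_centralizer_iff.mpr fun e he => hx e he), hx⟩
  have hle := altOn_le hS.1
  set K := (altOn S).subgroupOf H
  let N : Subgroup ↥H := Subgroup.closure {x : ↥H | IsThreeCycle (x : Perm (Fin n))}
  haveI hNn : N.Normal := by
    refine ⟨fun x hx h => ?_⟩
    have : N.map (MulAut.conj h).toMonoidHom ≤ N := by
      rw [MonoidHom.map_closure]
      refine Subgroup.closure_mono ?_
      rintro _ ⟨y, hy, rfl⟩
      show IsThreeCycle ((h * y * h⁻¹ : ↥H) : Perm (Fin n))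
      have hy' : (y : Perm (Fin n)).cycleType = {3} := hy
      show cycleType _ = {3}
      rw [Subgroup.coe_mul, Subgroup.coe_mul, Subgroup.coe_inv, cycleType_conj, hy']
    exact this ⟨x, hx, rfl⟩
  obtain ⟨em⟩ := card_altOn_ge (S := S)
  let eK : ↥K ≃* ↥(alternatingGroup (Fin S.card)) := (Subgroup.subgroupOfEquivOfLe hle).trans em
  haveI hKs : IsSimpleGroup ↥K := by
    haveI := alternatingGroup.isSimpleGroup (α := Fin S.card) (by simpa using h5)
    exact eK.isSimpleGroup
  have hKN : K ≤ N := by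
    intro k hk
    obtain ⟨σ, hσ, hσk⟩ := (hk : (k : Perm (Fin n)) ∈ altOn S)
    rw [SetLike.mem_coe, ← closure_three_cycles_eq_alternating] at hσ
    suffices h : ∀ σ ∈ Subgroup.closure {σ : Perm {i // i ∈ S} | IsThreeCycle σ}, ∀ k : ↥H, ofSubtype σ = (k : Perm (Fin n)) → k ∈ N
      from h σ hσ k hσk
    intro σ hσ
    induction hσ using Subgroup.closure_induction with
    | mem x hx =>
      intro k e
      refine Subgroup.subset_closure ?_
      show IsThreeCycle (k : Perm (Fin n))
      show cycleType _ = {3}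
      rw [← e, cycleType_ofSubtype]
      exact hx
    | one => intro k e; rw [map_one] at e; rw [show k = 1 from Subtype.ext e.symm]; exact N.one_mem
    | mul x y hx hy ihx ihy =>
      intro k e
      rw [closure_three_cycles_eq_alternating] at hx hy
      let kx : ↥H := ⟨ofSubtype x, hle ⟨x, hx, rfl⟩⟩
      let ky : ↥H := ⟨ofSubtype y, hle ⟨y, hy, rfl⟩⟩
      rw [show k = kx * ky from Subtype.ext (by rw [← e, map_mul]; rfl)]
      exact N.mul_mem (ihx kx rfl) (ihy ky rfl)
    | inv x hx ih =>
      intro k e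
      have := N.inv_mem (ih k⁻¹ (by rw [Subgroup.coe_inv, ← e, map_inv, inv_inv]))
      rwa [inv_inv] at this
  have hKnorm : N ≤ Subgroup.normalizer (K : Set ↥H) := by
    refine (Subgroup.closure_le _).mpr fun x hx => ?_
    obtain ⟨-, -, h | h⟩ := three_conj hS x.2 hx
    · refine Subgroup.mem_normalizer_iff.mpr fun k => ⟨fun hk => ?_, fun hk => ?_⟩
      · show (x * k * x⁻¹ : Perm (Fin n)) ∈ altOn S
        rw [h (k : Perm (Fin n)) hk]
        exact (mul_inv_cancel_right (k : Perm (Fin n)) (x : Perm (Fin n))).symm ▸ hk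
      · have hk' : (x * k * x⁻¹ : Perm (Fin n)) ∈ altOn S := hk
        have e : (x * k * x⁻¹ : Perm (Fin n)) = k := by
          have := congrArg (fun t : Perm (Fin n) => (x : Perm (Fin n))⁻¹ * t) (h _ hk')
          simpa [mul_assoc] using this
        show (k : Perm (Fin n)) ∈ altOn S
        rwa [e] at hk'
    · exact Subgroup.le_normalizer (show x ∈ K from h)
  have hKsub : K.IsSubnormal :=
    Subgroup.IsSubnormal.step K N hKN hNn.isSubnormal
      (Subgroup.normal_subgroupOf_of_le_normalizer hKnorm)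
  have hKnc : ¬ IsMulCommutative ↥K := by
    intro hc
    have hab : ∀ a b : ↥(alternatingGroup (Fin S.card)), a * b = b * a :=
      fun a b => eK.symm.injective (by rw [map_mul, map_mul]; exact hc.is_comm.comm _ _)
    have hc' := alternatingGroup.center_eq_bot (α := Fin S.card) (by simp; omega)
    haveI : Nontrivial ↥(alternatingGroup (Fin S.card)) := eK.symm.toEquiv.nontrivial
    obtain ⟨a, ha⟩ := exists_ne (1 : ↥(alternatingGroup (Fin S.card)))
    exact ha (Subgroup.mem_bot.mp (hc' ▸ Subgroup.mem_center_iff.mpr fun b => hab b a))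
  have hKc : IsComponent K := ⟨hKsub, (by
    by_contra hq
    exact hKnc ⟨⟨fun a b => by_contra fun h => hq (CfsgLib.StandardAlt.isQuasisimple_of_simple h)⟩⟩)⟩
  rcases components_eq_or_commute hEc hKc with h | h
  · rw [h, Subgroup.map_subgroupOf_eq_of_le hle]
  · exfalso
    refine hKnc ⟨⟨fun a b => Subtype.ext ?_⟩⟩
    exact (hCE b fun e he => Comp.comm_of_commutator_eq_bot h he b.2).2 a
      ((hCE a fun e he => Comp.comm_of_commutator_eq_bot h he a.2).1)

/-- Without a large closed set, `F*` fixes the points moved by three-cycles. -/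
theorem small_case {H : Subgroup (Perm (Fin n))} (hF : IsQuasisimple ↥(generalizedFittingSubgroup ↥H))
    (hbig : ∀ S, Closed H S → S.card < 5) :
    ∀ a ∈ M H, ∀ e ∈ generalizedFittingSubgroup ↥H, (e : Perm (Fin n)) a = a := by
  classical
  set E := generalizedFittingSubgroup ↥H with hE
  haveI hEn : E.Normal := inferInstance
  have hEc : IsComponent E := ⟨hEn.isSubnormal, hF⟩
  have hperf : Group.IsPerfect ↥E := hF.1
  let N : Subgroup ↥H := Subgroup.closure {x : ↥H | IsThreeCycle (x : Perm (Fin n))}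
  haveI hNn : N.Normal := by
    refine ⟨fun x hx h => ?_⟩
    have : N.map (MulAut.conj h).toMonoidHom ≤ N := by
      rw [MonoidHom.map_closure]
      refine Subgroup.closure_mono ?_
      rintro _ ⟨y, hy, rfl⟩
      have hy' : (y : Perm (Fin n)).cycleType = {3} := hy
      show cycleType ((h * y * h⁻¹ : ↥H) : Perm (Fin n)) = {3}
      rw [Subgroup.coe_mul, Subgroup.coe_mul, Subgroup.coe_inv, cycleType_conj, hy']
    exact this ⟨x, hx, rfl⟩
  -- `E` fixes every point moved by a three-cycle
  have hfix : ∀ x ∈ H, IsThreeCycle x → ∀ a, x a ≠ a → ∀ e ∈ E, (e : Perm (Fin n)) a = a := by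
    intro x hxH hx a ha e he
    rcases component_le_or_commutator_eq_bot hEc N with hEN | hEN
    · obtain ⟨S, hS, hxS⟩ := exists_closed hxH hx
      have haS : a ∈ S := hxS (mem_support.mpr ha)
      have hcard : S.card ≤ 4 := Nat.le_of_lt_succ (hbig S hS)
      have hst : ∀ y ∈ N, ∀ i, ((y : Perm (Fin n)) i ∈ S ↔ i ∈ S) := by
        intro y hy
        induction hy using Subgroup.closure_induction with
        | mem y hy =>
          intro i
          obtain ⟨h1, h2, -⟩ := three_conj hS y.2 hy
          exact ⟨fun h => by_contra fun h' => h2 i h' h, h1 i⟩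
        | one => intro i; simp
        | mul y z _ _ ihy ihz => intro i; rw [Subgroup.coe_mul, Perm.mul_apply, ihy, ihz]
        | inv y _ ih =>
          intro i
          have := ih ((y : Perm (Fin n))⁻¹ i)
          rw [Subgroup.coe_inv]
          simp at this ⊢
          exact this.symm
      let f : ↥E →* Perm {i // i ∈ S} := {
        toFun := fun e => ((e : ↥H) : Perm (Fin n)).subtypePerm fun i => hst _ (hEN e.2) i
        map_one' := Equiv.ext fun i => Subtype.ext rfl
        map_mul' := fun a b => Equiv.ext fun i => Subtype.ext rfl }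
      have hsol : Group.IsSolvable (Perm {i // i ∈ S}) := by
        haveI := ZasFC.isSolvable_perm_four
        let ι : {i // i ∈ S} ↪ Fin 4 := (Classical.choice (Function.Embedding.nonempty_of_card_le (by simpa using hcard)))
        exact Group.isSolvable_of_isSolvable_injective (f := Perm.viaEmbeddingHom ι) (Perm.viaEmbeddingHom_injective ι)
      exact congrArg (fun σ : Perm {i // i ∈ S} => (σ ⟨a, haS⟩ : Fin n)) (perfect_hom hperf hsol f ⟨e, he⟩)
    · -- `E` centralises `x`
      have hxN : (⟨x, hxH⟩ : ↥H) ∈ N := Subgroup.subset_closure hx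
      have hcom : ∀ e ∈ E, (e : Perm (Fin n)) * x = x * e := fun e he =>
        congrArg Subtype.val (Comp.comm_of_commutator_eq_bot hEN he hxN)
      have hxs : ∀ e ∈ E, ∀ i, ((e : Perm (Fin n)) i ∈ x.support ↔ i ∈ x.support) := by
        intro e he i
        rw [mem_support, mem_support]
        have := congrArg (fun σ : Perm (Fin n) => σ i) (hcom e he)
        simp only [Perm.mul_apply] at this
        rw [← this]
        exact (e : Perm (Fin n)).injective.ne_iff
      let f : ↥E →* Perm {i // i ∈ x.support} := {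
        toFun := fun e => ((e : ↥H) : Perm (Fin n)).subtypePerm fun i => hxs _ e.2 i
        map_one' := Equiv.ext fun i => Subtype.ext rfl
        map_mul' := fun a b => Equiv.ext fun i => Subtype.ext rfl }
      have hsol : Group.IsSolvable (Perm {i // i ∈ x.support}) := by
        haveI := ZasFC.isSolvable_perm_four
        let ι : {i // i ∈ x.support} ↪ Fin 4 :=
          (Classical.choice (Function.Embedding.nonempty_of_card_le (by rw [Fintype.card_coe, hx.card_support, Fintype.card_fin]; norm_num)))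
        exact Group.isSolvable_of_isSolvable_injective (f := Perm.viaEmbeddingHom ι) (Perm.viaEmbeddingHom_injective ι)
      exact congrArg (fun σ : Perm {i // i ∈ x.support} => (σ ⟨a, mem_support.mpr ha⟩ : Fin n))
        (perfect_hom hperf hsol f ⟨e, he⟩)
  rintro a ⟨x, hxH, hx, hxa⟩ e he
  exact hfix x hxH hx a hxa e he

theorem pair_eq {i i' : ℕ} (hi : i < 8) (hi' : i' < 8)
    (e1 : (i = 2 * 0 ∨ i = 2 * 0 + 1 ∨ i = 2 * 1 ∨ i = 2 * 1 + 1) ↔ (i' = 2 * 0 ∨ i' = 2 * 0 + 1 ∨ i' = 2 * 1 ∨ i' = 2 * 1 + 1))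
    (e2 : (i = 2 * 0 ∨ i = 2 * 0 + 1 ∨ i = 2 * 2 ∨ i = 2 * 2 + 1) ↔ (i' = 2 * 0 ∨ i' = 2 * 0 + 1 ∨ i' = 2 * 2 ∨ i' = 2 * 2 + 1)) :
    i / 2 = i' / 2 := by
  interval_cases i <;> interval_cases i' <;> simp_all

theorem main (hn : 8 ≤ n) (H : Subgroup (Perm (Fin n))) (hF : IsQuasisimple ↥(generalizedFittingSubgroup ↥H))
    (P : Sylow 2 ↥(alternatingGroup (Fin n)))
    (hP : (P : Subgroup ↥(alternatingGroup (Fin n))).map (alternatingGroup (Fin n)).subtype ≤ H) :
    ∃ S : Finset (Fin n), n ≤ S.card + 3 ∧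
      Nonempty (↥(generalizedFittingSubgroup ↥H) ≃* ↥(alternatingGroup (Fin S.card))) := by
  classical
  haveI : Fact (Nat.Prime 2) := ⟨Nat.prime_two⟩
  obtain ⟨Q, hQA, hQp, hQu, hQv⟩ := standard hn
  obtain ⟨g, hg⟩ : ∃ g : Perm (Fin n), ∀ x ∈ Q, g * x * g⁻¹ ∈ H := by
    obtain ⟨R, hR⟩ := (hQp.of_equiv (Subgroup.subgroupOfEquivOfLe hQA).symm).exists_le_sylow
    obtain ⟨g, hgR⟩ := MulAction.exists_smul_eq ↥(alternatingGroup (Fin n)) R P
    refine ⟨(g : Perm (Fin n)), fun x hx => hP ⟨g * ⟨x, hQA hx⟩ * g⁻¹, ?_, rfl⟩⟩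
    rw [← hgR, SetLike.mem_coe, Sylow.coe_subgroup_smul]
    exact Subgroup.smul_mem_pointwise_smul _ _ _ (hR (show (⟨x, hQA hx⟩ : ↥(alternatingGroup (Fin n))) ∈ Q.subgroupOf _ from hx))
  set r := n / 4 with hr
  let pt : ℕ → Fin n := fun i => if h : i < n then g ⟨i, h⟩ else g ⟨0, by omega⟩
  have hinj : ∀ i j, i < 4 * r → j < 4 * r → pt i = pt j → i = j := fun i j hi hj e => by
    simp only [pt, dif_pos (show i < n by omega), dif_pos (show j < n by omega)] at e
    simpa using g.injective e
  have hcj : ∀ a b c e : Fin n, g * (swap a b * swap c e) * g⁻¹ = swap (g a) (g b) * swap (g c) (g e) := by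
    intro a b c e
    rw [swap_apply_apply, swap_apply_apply]; group
  have hu : ∀ j l, j ≠ l → j < 2 * r → l < 2 * r →
      swap (pt (2 * j)) (pt (2 * j + 1)) * swap (pt (2 * l)) (pt (2 * l + 1)) ∈ H := by
    intro j l hjl hj hl
    simp only [pt, dif_pos (show 2 * j < n by omega), dif_pos (show 2 * j + 1 < n by omega),
      dif_pos (show 2 * l < n by omega), dif_pos (show 2 * l + 1 < n by omega)]
    rw [← hcj]
    exact hg _ (hQu _ _ _ _ j l hjl hj hl rfl rfl rfl rfl)
  have hv : ∀ k, k < r → swap (pt (4 * k)) (pt (4 * k + 2)) * swap (pt (4 * k + 1)) (pt (4 * k + 3)) ∈ H := by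
    intro k hk
    simp only [pt, dif_pos (show 4 * k < n by omega), dif_pos (show 4 * k + 1 < n by omega),
      dif_pos (show 4 * k + 2 < n by omega), dif_pos (show 4 * k + 3 < n by omega)]
    rw [← hcj]
    exact hg _ (hQv _ _ _ _ k hk rfl rfl rfl rfl)
  have hnd4 : ∀ a b c e, a < 4 * r → b < 4 * r → c < 4 * r → e < 4 * r → [a, b, c, e].Nodup →
      [pt a, pt b, pt c, pt e].Nodup := by
    intro a b c e ha hb hc he hnd
    simp only [List.nodup_cons, List.mem_cons, List.not_mem_nil, or_false, not_or, List.nodup_nil, and_true,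
      not_false_eq_true] at hnd ⊢
    obtain ⟨⟨h1, h2, h3⟩, ⟨h4, h5⟩, h6⟩ := hnd
    exact ⟨⟨fun x => h1 (hinj _ _ ha hb x), fun x => h2 (hinj _ _ ha hc x), fun x => h3 (hinj _ _ ha he x)⟩,
      ⟨fun x => h4 (hinj _ _ hb hc x), fun x => h5 (hinj _ _ hb he x)⟩, fun x => h6 (hinj _ _ hc he x)⟩
  -- sets invariant under `H` contain all or none of each block
  have hblock : ∀ T : Set (Fin n), (∀ h ∈ H, ∀ x, (h x ∈ T ↔ x ∈ T)) → ∀ k, k < r → ∀ i, i < 4 →
      (pt (4 * k + i) ∈ T ↔ pt (4 * k) ∈ T) := by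
    intro T hT k hk i hi
    have h1 := hu (2 * k) (2 * k + 1) (by omega) (by omega) (by omega)
    rw [show 2 * (2 * k) = 4 * k by ring, show 2 * (2 * k + 1) = 4 * k + 2 by ring] at h1
    have h2 := hv k hk
    have d1 := hnd4 (4 * k) (4 * k + 1) (4 * k + 2) (4 * k + 3) (by omega) (by omega) (by omega) (by omega) (by simp)
    simp only [List.nodup_cons, List.mem_cons, List.not_mem_nil, or_false, not_or, List.nodup_nil, and_true,
      not_false_eq_true] at d1
    obtain ⟨⟨a1, a2, a3⟩, ⟨a4, a5⟩, a6⟩ := d1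
    have e01 := hT _ h1 (pt (4 * k))
    rw [Perm.mul_apply, swap_apply_of_ne_of_ne a2 a3, swap_apply_left] at e01
    have e02 := hT _ h2 (pt (4 * k))
    rw [Perm.mul_apply, swap_apply_of_ne_of_ne a1 a3, swap_apply_left] at e02
    have e13 := hT _ h2 (pt (4 * k + 1))
    rw [Perm.mul_apply, swap_apply_left, swap_apply_of_ne_of_ne (Ne.symm a3) (Ne.symm a6)] at e13
    rcases (show i = 0 ∨ i = 1 ∨ i = 2 ∨ i = 3 by omega) with rfl | rfl | rfl | rfl
    exacts [Iff.rfl, e01, e02, e13.trans e01]
  set E := generalizedFittingSubgroup ↥H with hE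
  have hEc : IsComponent E := ⟨(inferInstance : E.Normal).isSubnormal, hF⟩
  by_cases hbig : ∃ S, Closed H S ∧ 5 ≤ S.card
  · obtain ⟨S, hS, h5⟩ := hbig
    have hES := big_case hF hS h5
    obtain ⟨em⟩ := card_altOn_ge (S := S)
    refine ⟨S, ?_, ⟨((E.equivMapOfInjective _ H.subtype_injective).trans (MulEquiv.subgroupCongr hES)).trans em⟩⟩
    have hmov : ∀ a ∈ S, ∃ x ∈ altOn S, x a ≠ a := by
      intro a ha
      obtain ⟨b, hb, c, hc, hbc⟩ := Finset.one_lt_card.mp (show 1 < (S.erase a).card by
        rw [Finset.card_erase_of_mem ha]; omega)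
      simp only [Finset.mem_erase] at hb hc
      obtain ⟨σ, hσ⟩ : ∃ σ, σ = cyc (⟨a, ha⟩ : {i // i ∈ S}) ⟨b, hb.2⟩ ⟨c, hc.2⟩ := ⟨_, rfl⟩
      have n1 : (⟨a, ha⟩ : {i // i ∈ S}) ≠ ⟨b, hb.2⟩ := fun e => hb.1 (congrArg Subtype.val e).symm
      have n2 : (⟨a, ha⟩ : {i // i ∈ S}) ≠ ⟨c, hc.2⟩ := fun e => hc.1 (congrArg Subtype.val e).symm
      have n3 : (⟨b, hb.2⟩ : {i // i ∈ S}) ≠ ⟨c, hc.2⟩ := fun e => hbc (congrArg Subtype.val e)
      refine ⟨ofSubtype σ, ⟨σ, mem_alternatingGroup.mpr (hσ ▸ (isThreeCycle_cyc n1 n2 n3).sign), rfl⟩, ?_⟩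
      rw [ofSubtype_apply_of_mem σ ha, hσ, cyc_a n1 n2]
      exact hb.1
    have hinvS : ∀ h ∈ H, ∀ x, (h x ∈ (↑S : Set (Fin n)) ↔ x ∈ (↑S : Set (Fin n))) := by
      have key : ∀ h ∈ H, ∀ x ∈ S, h x ∈ S := by
        intro h hh x hx
        obtain ⟨σ, hσ, hσx⟩ := hmov x hx
        obtain ⟨e, he, hev⟩ : σ ∈ E.map H.subtype := hES ▸ hσ
        have h2 : h * σ * h⁻¹ ∈ altOn S := hES ▸ ⟨⟨h, hh⟩ * e * ⟨h, hh⟩⁻¹,
          (inferInstance : E.Normal).conj_mem e he _, by rw [← hev]; rfl⟩
        by_contra hhx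
        have := fix_outside h2 hhx
        simp only [Perm.mul_apply, Perm.inv_def, Equiv.symm_apply_apply] at this
        exact hσx (h.injective this)
      intro h hh x
      refine ⟨fun hx => ?_, key h hh x⟩
      have := key _ (H.inv_mem hh) _ hx
      simpa [Perm.inv_def] using this
    have hin : ∀ i, i < 4 * r → pt i ∈ S := by
      intro i hi
      have hk : i / 4 < r := by omega
      have hb := hblock _ hinvS (i / 4) hk
      rw [show i = 4 * (i / 4) + i % 4 by omega]
      refine (hb _ (by omega)).mpr ?_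
      by_contra h0
      have h1 : ∀ j, j < 4 → pt (4 * (i / 4) + j) ∉ S := fun j hj h => h0 ((hb j hj).mp h)
      obtain ⟨hd, hds⟩ := dt_swaps (hnd4 (4 * (i / 4)) (4 * (i / 4) + 2) (4 * (i / 4) + 1) (4 * (i / 4) + 3)
        (by omega) (by omega) (by omega) (by omega) (by simp))
      set v := swap (pt (4 * (i / 4))) (pt (4 * (i / 4) + 2)) * swap (pt (4 * (i / 4) + 1)) (pt (4 * (i / 4) + 3))
      have hvfix : ∀ x ∈ S, v x = x := fun x hx => notMem_support.mp (by
        rw [hds]
        simp only [Finset.mem_insert, Finset.mem_singleton]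
        rintro (rfl | rfl | rfl | rfl)
        exacts [h0 hx, h1 2 (by norm_num) hx, h1 1 (by norm_num) hx, h1 3 (by norm_num) hx])
      have hvE : (⟨v, hv _ hk⟩ : ↥H) ∈ E := by
        refine centralizer_generalizedFitting_le (Subgroup.mem_centralizer_iff.mpr fun e he => Subtype.ext ?_)
        have he' : (e : Perm (Fin n)) ∈ altOn S := hES ▸ Subgroup.mem_map_of_mem _ he
        refine Equiv.ext fun x => ?_
        show (e : Perm (Fin n)) (v x) = v ((e : Perm (Fin n)) x)
        by_cases hx : x ∈ S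
        · rw [hvfix x hx, hvfix]
          by_contra hex
          have e2 := (e : Perm (Fin n)).injective (fix_outside he' hex)
          exact hex (e2.symm ▸ hx)
        · rw [fix_outside he' hx, fix_outside he']
          intro hvx
          exact hx ((hinvS v (hv _ hk) x).mp hvx)
      have := fix_outside (hES ▸ Subgroup.mem_map_of_mem H.subtype hvE : v ∈ altOn S) h0
      exact (mem_support.mp (by rw [hds]; simp : pt (4 * (i / 4)) ∈ v.support)) this
    have := Finset.card_le_card_of_injOn (s := Finset.range (4 * r)) pt (t := S)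
      (fun i hi => hin i (Finset.mem_range.mp hi)) (fun i hi j hj e => hinj i j (Finset.mem_range.mp hi) (Finset.mem_range.mp hj) e)
    rw [Finset.card_range] at this
    omega
  exfalso
  push Not at hbig
  have hM := small_case hF hbig
  have hMblk := hblock (M H) (fun h hh x => M_inv hh)
  -- the pairs
  have hudt : ∀ j l, j ≠ l → j < 2 * r → l < 2 * r →
      DT (swap (pt (2 * j)) (pt (2 * j + 1)) * swap (pt (2 * l)) (pt (2 * l + 1))) ∧
      (swap (pt (2 * j)) (pt (2 * j + 1)) * swap (pt (2 * l)) (pt (2 * l + 1))).support =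
        {pt (2 * j), pt (2 * j + 1), pt (2 * l), pt (2 * l + 1)} := by
    intro j l hjl hj hl
    refine dt_swaps (hnd4 _ _ _ _ (by omega) (by omega) (by omega) (by omega) ?_)
    simp only [List.nodup_cons, List.mem_cons, List.not_mem_nil, or_false, not_or, List.nodup_nil, and_true,
      not_false_eq_true]
    omega
  -- a set meeting one pair in one point meets every pair
  have hhit : ∀ d ∈ DS H, ∀ j, j < 2 * r → ∀ a b : ℕ, (a = 2 * j ∧ b = 2 * j + 1 ∨ a = 2 * j + 1 ∧ b = 2 * j) →
      pt a ∈ d.support → pt b ∉ d.support → ∀ l, l < 2 * r → pt (2 * l) ∈ d.support ∨ pt (2 * l + 1) ∈ d.support := by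
    intro d hd j hj a b hab ha hb l hl
    by_cases hjl : j = l
    · subst hjl
      rcases hab with ⟨rfl, rfl⟩ | ⟨rfl, rfl⟩
      exacts [Or.inl ha, Or.inr ha]
    by_contra hcon
    push Not at hcon
    obtain ⟨h1, h2⟩ := hudt j l hjl hj hl
    refine hd.2.2 _ ha (one_point h1 (hu j l hjl hj hl) hd.2.1 hd.1 (p := pt a) ?_)
    rw [h2]
    ext x
    simp only [Finset.mem_inter, Finset.mem_insert, Finset.mem_singleton]
    constructor
    · rintro ⟨hx, hxd⟩
      rcases hab with ⟨rfl, rfl⟩ | ⟨rfl, rfl⟩ <;> rcases hx with rfl | rfl | rfl | rfl <;>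
        first | rfl | exact absurd hxd hb | exact absurd hxd hcon.1 | exact absurd hxd hcon.2
    · rintro rfl
      refine ⟨?_, ha⟩
      rcases hab with ⟨rfl, -⟩ | ⟨rfl, -⟩ <;> simp
  have hall : ∀ i, i < 4 * r → ∀ e ∈ E, (e : Perm (Fin n)) (pt i) = pt i := by
    intro i hi e he
    by_cases him : pt i ∈ M H
    · exact hM _ him e he
    have hk : i / 4 < r := by omega
    have hout : ∀ j, j < 4 → pt (4 * (i / 4) + j) ∉ M H := by
      intro j hj hjM
      refine him ?_
      rw [show i = 4 * (i / 4) + i % 4 by omega]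
      exact (hMblk _ hk _ (by omega)).mpr ((hMblk _ hk j hj).mp hjM)
    set k := i / 4 with hkdef
    obtain ⟨h1, h2⟩ := hudt (2 * k) (2 * k + 1) (by omega) (by omega) (by omega)
    rw [show 2 * (2 * k) = 4 * k by ring, show 2 * (2 * k + 1) = 4 * k + 2 by ring] at h1 h2
    have huH := hu (2 * k) (2 * k + 1) (by omega) (by omega) (by omega)
    rw [show 2 * (2 * k) = 4 * k by ring, show 2 * (2 * k + 1) = 4 * k + 2 by ring] at huH
    set u := swap (pt (4 * k)) (pt (4 * k + 1)) * swap (pt (4 * k + 2)) (pt (4 * k + 2 + 1)) with hudef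
    have huD : u ∈ DS H := by
      refine ⟨huH, h1, fun x hx => ?_⟩
      rw [h2] at hx
      simp only [Finset.mem_insert, Finset.mem_singleton] at hx
      rcases hx with rfl | rfl | rfl | rfl
      exacts [hout 0 (by norm_num), hout 1 (by norm_num), hout 2 (by norm_num), hout 3 (by norm_num)]
    have hiu : pt i ∈ u.support := by
      rw [h2]
      simp only [Finset.mem_insert, Finset.mem_singleton]
      rcases (show i = 4 * k ∨ i = 4 * k + 1 ∨ i = 4 * k + 2 ∨ i = 4 * k + 2 + 1 by omega) with h | h | h | h <;>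
        rw [h] <;> simp
    by_cases hqual : ∀ d ∈ DS H, ∀ x ∈ d.support, u x ∈ d.support
    · -- `u` lies in an abelian normal subgroup
      let T : Set ↥H := {a | (a : Perm (Fin n)) ∈ DS H ∧ ∀ d ∈ DS H, ∀ x ∈ d.support, (a : Perm (Fin n)) x ∈ d.support}
      refine comm_fix hF h1.2.le (fun e' he' => commutes_F hF T ?_ ?_ (a := ⟨u, huH⟩) ⟨huD, hqual⟩ he') hiu he
      · rintro ⟨a, haH⟩ ⟨ha, ha'⟩ ⟨b, hbH⟩ ⟨hb, hb'⟩
        refine Subtype.ext (Equiv.ext fun x => ?_)
        show a (b x) = b (a x)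
        have ka : ∀ y, a y ∈ b.support ↔ y ∈ b.support := fun y =>
          ⟨fun h => by simpa [dt_invol ha.2.1] using ha' b hb _ h, fun h => ha' b hb y h⟩
        have kb : ∀ y, b y ∈ a.support ↔ y ∈ a.support := fun y =>
          ⟨fun h => by simpa [dt_invol hb.2.1] using hb' a ha _ h, fun h => hb' a ha y h⟩
        by_cases hxa : x ∈ a.support
        · by_cases hxb : x ∈ b.support
          · by_cases hab : a x = b x
            · rw [← hab, dt_invol ha.2.1, hab, dt_invol hb.2.1]
            have h4 : a.support = b.support := by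
              obtain ⟨c, e, -, -, hs⟩ := dt_form ha.2.1 (mem_support.mp hxa)
              have hbx : b x ∈ a.support := (kb x).mpr hxa
              have hsub : ({x, a x, b x, a (b x)} : Finset (Fin n)) ⊆ a.support ∩ b.support := by
                intro y hy
                simp only [Finset.mem_insert, Finset.mem_singleton] at hy
                have hbb : b x ∈ b.support := apply_mem_support.mpr hxb
                rcases hy with rfl | rfl | rfl | rfl
                exacts [Finset.mem_inter.mpr ⟨hxa, hxb⟩, Finset.mem_inter.mpr ⟨apply_mem_support.mpr hxa, (ka x).mpr hxb⟩,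
                  Finset.mem_inter.mpr ⟨hbx, hbb⟩, Finset.mem_inter.mpr ⟨apply_mem_support.mpr hbx, (ka _).mpr hbb⟩]
              have n1 : x ≠ a x := (mem_support.mp hxa).symm
              have n2 : x ≠ b x := (mem_support.mp hxb).symm
              have n3 : x ≠ a (b x) := fun e => hab (by rw [congrArg a e, dt_invol ha.2.1])
              have n4 : a x ≠ a (b x) := fun e => n2 (a.injective e)
              have n5 : b x ≠ a (b x) := (mem_support.mp hbx).symm
              have hc4 : ({x, a x, b x, a (b x)} : Finset (Fin n)).card = 4 := by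
                rw [Finset.card_insert_of_notMem, Finset.card_insert_of_notMem, Finset.card_insert_of_notMem,
                  Finset.card_singleton] <;> simp [n1, n2, n3, hab, n4, n5]
              have ea := Finset.eq_of_subset_of_card_le (hsub.trans Finset.inter_subset_left) (by rw [hc4, ha.2.1.2])
              have eb := Finset.eq_of_subset_of_card_le (hsub.trans Finset.inter_subset_right) (by rw [hc4, hb.2.1.2])
              exact ea.symm.trans eb
            have hmem : a (b x) ∈ ({x, b x, a x, b (a x)} : Finset (Fin n)) := by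
              have hsub : ({x, b x, a x, b (a x)} : Finset (Fin n)) ⊆ b.support := by
                intro y hy
                simp only [Finset.mem_insert, Finset.mem_singleton] at hy
                have hax : a x ∈ b.support := (ka x).mpr hxb
                rcases hy with rfl | rfl | rfl | rfl
                exacts [hxb, apply_mem_support.mpr hxb, hax, apply_mem_support.mpr hax]
              have n1 : x ≠ b x := (mem_support.mp hxb).symm
              have n2 : x ≠ a x := (mem_support.mp hxa).symm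
              have n3 : x ≠ b (a x) := fun e => hab (by rw [congrArg b e, dt_invol hb.2.1])
              have n5 : a x ≠ b (a x) := (mem_support.mp ((ka x).mpr hxb : a x ∈ b.support)).symm
              have n4 : b x ≠ b (a x) := fun e => n2 (b.injective e)
              rw [Finset.eq_of_subset_of_card_le hsub (by
                rw [hb.2.1.2, Finset.card_insert_of_notMem, Finset.card_insert_of_notMem, Finset.card_insert_of_notMem,
                  Finset.card_singleton] <;> simp [n1, n2, n3, Ne.symm hab, n4, n5])]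
              exact (ka _).mpr (apply_mem_support.mpr hxb)
            simp only [Finset.mem_insert, Finset.mem_singleton] at hmem
            rcases hmem with h | h | h | h
            · exact absurd (by rw [← dt_invol ha.2.1 (b x), h]) (Ne.symm hab)
            · exact absurd h (mem_support.mp ((kb x).mpr hxa))
            · exact absurd (a.injective h) (mem_support.mp hxb)
            · exact h
          · rw [notMem_support.mp hxb, notMem_support.mp fun h => hxb ((ka x).mp h)]
        · rw [notMem_support.mp hxa, notMem_support.mp fun h => hxa ((kb x).mp h)]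
      · rintro ⟨a, haH⟩ ⟨ha, ha'⟩ h
        refine ⟨DS_conj ha h.2, fun d hd x hx => ?_⟩
        have hd' := DS_conj hd (H.inv_mem h.2)
        have hx' : (h : Perm (Fin n))⁻¹ x ∈ ((h : Perm (Fin n))⁻¹ * d * ((h : Perm (Fin n))⁻¹)⁻¹).support := by
          rw [support_conj]; exact Finset.mem_map_of_mem _ hx
        have h3 := ha' _ hd' _ hx'
        rw [support_conj, Finset.mem_map] at h3
        obtain ⟨y, hy, hye⟩ := h3
        show ((h : Perm (Fin n)) * a * (h : Perm (Fin n))⁻¹) x ∈ d.support
        rw [Perm.mul_apply, Perm.mul_apply, ← hye]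
        simpa [Perm.inv_def] using hy
    -- the exceptional case on eight points
    push Not at hqual
    obtain ⟨d, hd, x, hxd, hux⟩ := hqual
    have hxu : x ∈ u.support := mem_support.mpr fun e => hux (by rw [e]; exact hxd)
    obtain ⟨j, a, b, hj, hab, rfl, hub⟩ : ∃ j a b : ℕ, j < 2 * r ∧
        (a = 2 * j ∧ b = 2 * j + 1 ∨ a = 2 * j + 1 ∧ b = 2 * j) ∧ x = pt a ∧ u x = pt b := by
      have hnd := hnd4 (4 * k) (4 * k + 1) (4 * k + 2) (4 * k + 2 + 1) (by omega) (by omega) (by omega) (by omega)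
        (by simp only [List.nodup_cons, List.mem_cons, List.not_mem_nil, or_false, not_or, List.nodup_nil, and_true, not_false_eq_true]; omega)
      simp only [List.nodup_cons, List.mem_cons, List.not_mem_nil, or_false, not_or, List.nodup_nil, and_true,
        not_false_eq_true] at hnd
      obtain ⟨⟨a1, a2, a3⟩, ⟨a4, a5⟩, a6⟩ := hnd
      rw [h2] at hxu
      simp only [Finset.mem_insert, Finset.mem_singleton] at hxu
      rcases hxu with rfl | rfl | rfl | rfl
      · exact ⟨2 * k, 4 * k, 4 * k + 1, by omega, Or.inl ⟨by omega, by omega⟩, rfl, by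
          rw [hudef, Perm.mul_apply, swap_apply_of_ne_of_ne a2 a3, swap_apply_left]⟩
      · exact ⟨2 * k, 4 * k + 1, 4 * k, by omega, Or.inr ⟨by omega, by omega⟩, rfl, by
          rw [hudef, Perm.mul_apply, swap_apply_of_ne_of_ne a4 a5, swap_apply_right]⟩
      · exact ⟨2 * k + 1, 4 * k + 2, 4 * k + 2 + 1, by omega, Or.inl ⟨by omega, by omega⟩, rfl, by
          rw [hudef, Perm.mul_apply, swap_apply_left, swap_apply_of_ne_of_ne (Ne.symm a3) (Ne.symm a5)]⟩
      · exact ⟨2 * k + 1, 4 * k + 2 + 1, 4 * k + 2, by omega, Or.inr ⟨by omega, by omega⟩, rfl, by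
          rw [hudef, Perm.mul_apply, swap_apply_right, swap_apply_of_ne_of_ne (Ne.symm a2) (Ne.symm a4)]⟩
    rw [hub] at hux
    have hdhit := hhit d hd j hj a b hab hxd hux
    -- one point from each pair
    let c : ℕ → ℕ := fun l => if pt (2 * l) ∈ d.support then 2 * l else 2 * l + 1
    have hcd : ∀ l, l < 2 * r → pt (c l) ∈ d.support := fun l hl => by
      simp only [c]; split_ifs with h
      · exact h
      · exact (hdhit l hl).resolve_left h
    have hcard : (Finset.range (2 * r)).image (fun l => pt (c l)) ⊆ d.support ∧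
        ((Finset.range (2 * r)).image (fun l => pt (c l))).card = 2 * r := by
      refine ⟨fun y hy => ?_, ?_⟩
      · obtain ⟨l, hl, rfl⟩ := Finset.mem_image.mp hy
        exact hcd l (Finset.mem_range.mp hl)
      · refine (Finset.card_image_of_injOn ?_).trans (Finset.card_range _)
        intro l hl l' hl' e
        have hl := Finset.mem_range.mp hl
        have hl' := Finset.mem_range.mp hl'
        have := hinj _ _ (by simp only [c]; split_ifs <;> omega) (by simp only [c]; split_ifs <;> omega) e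
        simp only [c] at this
        split_ifs at this <;> omega
    have hr2 : r = 2 := by
      have := Finset.card_le_card hcard.1
      rw [hcard.2, hd.2.1.2] at this
      omega
    have hdeq : d.support = (Finset.range (2 * r)).image (fun l => pt (c l)) :=
      (Finset.eq_of_subset_of_card_le hcard.1 (by rw [hcard.2, hd.2.1.2]; omega)).symm
    set U : Finset (Fin n) := (Finset.range 8).image pt with hU
    have hptU : ∀ i, i < 8 → pt i ∈ U := fun i hi => Finset.mem_image_of_mem _ (Finset.mem_range.mpr hi)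
    have hUmem : ∀ y ∈ U, ∃ l, l < 2 * r ∧ (y = pt (2 * l) ∨ y = pt (2 * l + 1)) := by
      intro y hy
      obtain ⟨i, hi, rfl⟩ := Finset.mem_image.mp hy
      have := Finset.mem_range.mp hi
      refine ⟨i / 2, by omega, ?_⟩
      rcases (show i = 2 * (i / 2) ∨ i = 2 * (i / 2) + 1 by omega) with h | h
      · left; rw [← h]
      · right; rw [← h]
    -- no point of the blocks lies in `M`
    have hnM : ∀ i, i < 8 → pt i ∉ M H := by
      intro i hi hiM
      have h0 := (hMblk (i / 4) (by omega) (i % 4) (by omega)).mp (by rwa [← show i = 4 * (i / 4) + i % 4 by omega])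
      have hc := hcd (2 * (i / 4)) (by omega)
      refine hd.2.2 _ hc ?_
      have hlt : c (2 * (i / 4)) - 4 * (i / 4) < 4 ∧ c (2 * (i / 4)) = 4 * (i / 4) + (c (2 * (i / 4)) - 4 * (i / 4)) := by
        simp only [c]; split_ifs <;> omega
      rw [hlt.2]
      exact (hMblk (i / 4) (by omega) _ hlt.1).mpr h0
    have huD' : ∀ j l, j ≠ l → j < 2 * r → l < 2 * r →
        swap (pt (2 * j)) (pt (2 * j + 1)) * swap (pt (2 * l)) (pt (2 * l + 1)) ∈ DS H := by
      intro j l hjl hj hl
      refine ⟨hu j l hjl hj hl, (hudt j l hjl hj hl).1, fun y hy => ?_⟩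
      rw [(hudt j l hjl hj hl).2] at hy
      simp only [Finset.mem_insert, Finset.mem_singleton] at hy
      rcases hy with rfl | rfl | rfl | rfl <;> exact hnM _ (by omega)
    -- each support is a union of pairs or a transversal
    have hdich : ∀ d' ∈ DS H, d'.support ⊆ U ∧
        ((∀ l, l < 2 * r → (pt (2 * l) ∈ d'.support ↔ pt (2 * l + 1) ∈ d'.support)) ∨
         (∀ l, l < 2 * r → (pt (2 * l) ∈ d'.support ↔ pt (2 * l + 1) ∉ d'.support))) := by
      intro d' hd'
      by_cases hev : ∀ l, l < 2 * r → (pt (2 * l) ∈ d'.support ↔ pt (2 * l + 1) ∈ d'.support)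
      · refine ⟨?_, Or.inl hev⟩
        by_contra hsub
        obtain ⟨y, hy, hyU⟩ := Finset.not_subset.mp hsub
        -- at least one pair
        obtain ⟨l₀, hl₀, hl₀'⟩ : ∃ l, l < 2 * r ∧ pt (2 * l) ∈ d'.support := by
          by_contra hno
          push Not at hno
          have hs : d'.support ⊆ Finset.univ \ U := fun z hz => Finset.mem_sdiff.mpr ⟨Finset.mem_univ _, fun hzU => by
            obtain ⟨l, hl, rfl | rfl⟩ := hUmem z hzU
            · exact hno l hl hz
            · exact hno l hl ((hev l hl).mpr hz)⟩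
          have := Finset.card_le_card hs
          rw [Finset.card_sdiff_of_subset (Finset.subset_univ U), hd'.2.1.2, Finset.card_univ, Fintype.card_fin, hU,
            Finset.card_image_of_injOn, Finset.card_range] at this
          · omega
          · intro i hi i' hi' e
            exact hinj i i' (by have := Finset.mem_range.mp hi; omega) (by have := Finset.mem_range.mp hi'; omega) e
        have hl₁ := (hev l₀ hl₀).mp hl₀'
        have hne : pt (2 * l₀) ≠ pt (2 * l₀ + 1) := fun e => by have := hinj _ _ (by omega) (by omega) e; omega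
        refine hd.2.2 _ (hcd l₀ hl₀) (one_point hd.2.1 hd.1 hd'.2.1 hd'.1 (p := pt (c l₀)) ?_)
        refine Finset.eq_singleton_iff_unique_mem.mpr ⟨Finset.mem_inter.mpr ⟨hcd l₀ hl₀, ?_⟩, fun z hz => ?_⟩
        · simp only [c]; split_ifs
          exacts [hl₀', hl₁]
        · obtain ⟨hz1, hz2⟩ := Finset.mem_inter.mp hz
          rw [hdeq] at hz1
          obtain ⟨l, hl, rfl⟩ := Finset.mem_image.mp hz1
          have hl := Finset.mem_range.mp hl
          by_contra hll
          have hll' : l ≠ l₀ := fun e => hll (by rw [e])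
          have hb2 : pt (2 * l) ∈ d'.support ∧ pt (2 * l + 1) ∈ d'.support := by
            simp only [c] at hz2
            split_ifs at hz2
            · exact ⟨hz2, (hev l hl).mp hz2⟩
            · exact ⟨(hev l hl).mpr hz2, hz2⟩
          obtain ⟨hA, hAs⟩ := hudt l l₀ hll' hl hl₀
          have hsub4 : ({pt (2 * l), pt (2 * l + 1), pt (2 * l₀), pt (2 * l₀ + 1)} : Finset (Fin n)) ⊆ d'.support := by
            intro w hw
            simp only [Finset.mem_insert, Finset.mem_singleton] at hw
            rcases hw with rfl | rfl | rfl | rfl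
            exacts [hb2.1, hb2.2, hl₀', hl₁]
          have he4 := Finset.eq_of_subset_of_card_le hsub4 (by rw [← hAs, hA.2, hd'.2.1.2])
          refine hyU ?_
          rw [← he4] at hy
          simp only [Finset.mem_insert, Finset.mem_singleton] at hy
          rcases hy with rfl | rfl | rfl | rfl <;> exact hptU _ (by omega)
      · push Not at hev
        obtain ⟨l₁, hl₁, hl₁'⟩ := hev
        have hh : ∀ l, l < 2 * r → pt (2 * l) ∈ d'.support ∨ pt (2 * l + 1) ∈ d'.support := by
          rcases hl₁' with ⟨hA, hB⟩ | ⟨hA, hB⟩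
          · exact hhit d' hd' l₁ hl₁ _ _ (Or.inl ⟨rfl, rfl⟩) hA hB
          · exact hhit d' hd' l₁ hl₁ _ _ (Or.inr ⟨rfl, rfl⟩) hB hA
        let c' : ℕ → ℕ := fun l => if pt (2 * l) ∈ d'.support then 2 * l else 2 * l + 1
        have hsub' : (Finset.range (2 * r)).image (fun l => pt (c' l)) ⊆ d'.support := fun z hz => by
          obtain ⟨l, hl, rfl⟩ := Finset.mem_image.mp hz
          simp only [c']; split_ifs with h
          · exact h
          · exact (hh l (Finset.mem_range.mp hl)).resolve_left h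
        have hcard' : ((Finset.range (2 * r)).image (fun l => pt (c' l))).card = 2 * r := by
          refine (Finset.card_image_of_injOn ?_).trans (Finset.card_range _)
          intro l hl l' hl' e
          have hl := Finset.mem_range.mp hl
          have hl' := Finset.mem_range.mp hl'
          have := hinj _ _ (by simp only [c']; split_ifs <;> omega) (by simp only [c']; split_ifs <;> omega) e
          simp only [c'] at this
          split_ifs at this <;> omega
        have heq' := Finset.eq_of_subset_of_card_le hsub' (by rw [hcard', hd'.2.1.2]; omega)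
        refine ⟨?_, Or.inr fun l hl => ⟨fun h h' => ?_, fun h => (hh l hl).resolve_right h⟩⟩
        · rw [← heq']
          intro z hz
          obtain ⟨l, hl, rfl⟩ := Finset.mem_image.mp hz
          have := Finset.mem_range.mp hl
          exact hptU _ (by simp only [c']; split_ifs <;> omega)
        · rw [← heq'] at h'
          obtain ⟨l', hl', e⟩ := Finset.mem_image.mp h'
          have hl' := Finset.mem_range.mp hl'
          have := hinj _ _ (by simp only [c']; split_ifs <;> omega) (by omega) e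
          simp only [c'] at this
          split_ifs at this with hh' <;> first | omega | (exact hh' (by rwa [show l' = l by omega]))
    have hUinv : ∀ h ∈ H, ∀ y, y ∈ U → h y ∈ U := by
      intro h hh y hy
      obtain ⟨l, hl, hyl⟩ := hUmem y hy
      obtain ⟨l', hl', hll⟩ : ∃ l', l' < 2 * r ∧ l ≠ l' := ⟨if l = 0 then 1 else 0, by split_ifs <;> omega, by split_ifs <;> omega⟩
      have hD := DS_conj (huD' l l' hll hl hl') hh
      refine (hdich _ hD).1 ?_
      rw [support_conj]
      refine Finset.mem_map_of_mem _ ?_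
      rw [(hudt l l' hll hl hl').2]
      rcases hyl with rfl | rfl <;> simp
    have hUiff : ∀ h ∈ H, ∀ y, (h y ∈ U ↔ y ∈ U) := fun h hh y =>
      ⟨fun hy => by simpa [Perm.inv_def] using hUinv _ (H.inv_mem hh) _ hy, hUinv h hh y⟩
    let T : Set ↥H := {t | (∀ y, y ∉ U → (t : Perm (Fin n)) y = y) ∧ ∀ d' ∈ DS H,
      (∀ y ∈ U, ((t : Perm (Fin n)) y ∈ d'.support ↔ y ∈ d'.support)) ∨
      (∀ y ∈ U, ((t : Perm (Fin n)) y ∈ d'.support ↔ y ∉ d'.support))}
    obtain ⟨hdt01, hs01⟩ := hudt 0 1 (by omega) (by omega) (by omega)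
    obtain ⟨hdt02, hs02⟩ := hudt 0 2 (by omega) (by omega) (by omega)
    have hsep : ∀ y ∈ U, ∀ z ∈ U,
        (y ∈ (swap (pt (2 * 0)) (pt (2 * 0 + 1)) * swap (pt (2 * 1)) (pt (2 * 1 + 1))).support ↔
          z ∈ (swap (pt (2 * 0)) (pt (2 * 0 + 1)) * swap (pt (2 * 1)) (pt (2 * 1 + 1))).support) →
        (y ∈ (swap (pt (2 * 0)) (pt (2 * 0 + 1)) * swap (pt (2 * 2)) (pt (2 * 2 + 1))).support ↔
          z ∈ (swap (pt (2 * 0)) (pt (2 * 0 + 1)) * swap (pt (2 * 2)) (pt (2 * 2 + 1))).support) →
        (y ∈ d.support ↔ z ∈ d.support) → y = z := by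
      have hcases : ∀ y ∈ U, ∃ l, l < 4 ∧ (y = pt (2 * l) ∨ y = pt (2 * l + 1)) := fun y hy => by
        obtain ⟨l, hl, h⟩ := hUmem y hy
        exact ⟨l, by omega, h⟩
      have hmem : ∀ (i : ℕ), i < 8 → ∀ p q s t : ℕ, p < 8 → q < 8 → s < 8 → t < 8 →
          (pt i ∈ ({pt p, pt q, pt s, pt t} : Finset (Fin n)) ↔ (i = p ∨ i = q ∨ i = s ∨ i = t)) := by
        intro i hi p q s t hp hq hs ht
        simp only [Finset.mem_insert, Finset.mem_singleton]
        have inj8 : ∀ a, a < 8 → (pt i = pt a ↔ i = a) := fun a ha =>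
          ⟨fun e => hinj i a (by omega) (by omega) e, fun e => by rw [e]⟩
        rw [inj8 p hp, inj8 q hq, inj8 s hs, inj8 t ht]
      intro y hy z hz
      obtain ⟨i, hi, rfl⟩ := Finset.mem_image.mp hy
      obtain ⟨i', hi', rfl⟩ := Finset.mem_image.mp hz
      have hi := Finset.mem_range.mp hi
      have hi' := Finset.mem_range.mp hi'
      rw [hs01, hs02, hmem i hi _ _ _ _ (by norm_num) (by norm_num) (by norm_num) (by norm_num),
        hmem i' hi' _ _ _ _ (by norm_num) (by norm_num) (by norm_num) (by norm_num),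
        hmem i hi _ _ _ _ (by norm_num) (by norm_num) (by norm_num) (by norm_num),
        hmem i' hi' _ _ _ _ (by norm_num) (by norm_num) (by norm_num) (by norm_num)]
      intro e1 e2 e3
      have hpair : i / 2 = i' / 2 := pair_eq hi hi' e1 e2
      by_contra hne
      have hne' : i ≠ i' := fun e => hne (by rw [e])
      obtain ⟨hdd, hodd⟩ : (∀ l, l < 2 * r → (pt (2 * l) ∈ d.support ↔ pt (2 * l + 1) ∉ d.support)) ∧ True := by
        refine ⟨?_, trivial⟩
        rcases (hdich d hd).2 with h | h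
        · exfalso
          rcases hab with ⟨rfl, rfl⟩ | ⟨rfl, rfl⟩
          · exact hux ((h j hj).mp hxd)
          · exact hux ((h j hj).mpr hxd)
        · exact h
      rcases (show (i = 2 * (i / 2) ∧ i' = 2 * (i / 2) + 1) ∨ (i' = 2 * (i / 2) ∧ i = 2 * (i / 2) + 1) by clear e1 e2 hab; omega) with ⟨h1, h2⟩ | ⟨h1, h2⟩
      · rw [h1, h2] at e3
        exact iff_not_self (e3.symm.trans (hdd (i / 2) (by clear e3 hab; omega)))
      · generalize hl2 : i / 2 = l at h1 h2
        rw [h1, h2] at e3
        exact iff_not_self (e3.trans (hdd l (by clear e3 hab; omega)))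
    -- the product of all four pairs
    have hw01 := hu 0 1 (by omega) (by omega) (by omega)
    have hw23 := hu 2 3 (by omega) (by omega) (by omega)
    obtain ⟨w, hw⟩ : ∃ w : ↥H, w = ⟨_, hw01⟩ * ⟨_, hw23⟩ := ⟨_, rfl⟩
    have hwl : ∀ l, l < 4 → (w : Perm (Fin n)) (pt (2 * l)) = pt (2 * l + 1) ∧
        (w : Perm (Fin n)) (pt (2 * l + 1)) = pt (2 * l) := by
      intro l hl
      have ne8 : ∀ p q : ℕ, p < 8 → q < 8 → p ≠ q → pt p ≠ pt q := fun p q hp hq hpq e =>
        hpq (hinj p q (by omega) (by omega) e)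
      rw [hw]
      simp only [Subgroup.coe_mul, Perm.mul_apply]
      rcases (show l = 0 ∨ l = 1 ∨ l = 2 ∨ l = 3 by omega) with rfl | rfl | rfl | rfl <;>
        simp only [Nat.mul_zero, Nat.zero_add, Nat.mul_one, Nat.reduceMul, Nat.reduceAdd] <;>
        constructor <;>
        simp (disch := first | assumption | exact ne8 _ _ (by norm_num) (by norm_num) (by norm_num))
          [swap_apply_of_ne_of_ne, swap_apply_left, swap_apply_right]
    have hwT : w ∈ T := by
      refine ⟨fun y hy => ?_, fun d' hd' => ?_⟩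
      · have hout8 : ∀ p, p < 8 → y ≠ pt p := fun p hp e => hy (e ▸ hptU p hp)
        rw [hw]
        simp only [Subgroup.coe_mul, Perm.mul_apply]
        simp (disch := first | assumption | exact hout8 _ (by norm_num)) [swap_apply_of_ne_of_ne]
      · rcases (hdich d' hd').2 with h | h
        · left
          intro y hy
          obtain ⟨l, hl, rfl | rfl⟩ := hUmem y hy
          · rw [(hwl l (by omega)).1]; exact (h l hl).symm
          · rw [(hwl l (by omega)).2]; exact h l hl
        · right
          intro y hy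
          obtain ⟨l, hl, rfl | rfl⟩ := hUmem y hy
          · rw [(hwl l (by omega)).1]
            exact ⟨fun hb ha => (h l hl).mp ha hb, fun hna => by_contra fun hb => hna ((h l hl).mpr hb)⟩
          · rw [(hwl l (by omega)).2]; exact h l hl
    have hTc : ∀ s ∈ T, ∀ t ∈ T, s * t = t * s := by
      rintro s ⟨hs1, hs2⟩ t ⟨ht1, ht2⟩
      refine Subtype.ext (Equiv.ext fun y => ?_)
      show (s : Perm (Fin n)) ((t : Perm (Fin n)) y) = (t : Perm (Fin n)) ((s : Perm (Fin n)) y)
      by_cases hy : y ∈ U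
      · have hty := hUinv _ t.2 y hy
        have hsy := hUinv _ s.2 y hy
        have key : ∀ d' ∈ DS H, ((s : Perm (Fin n)) ((t : Perm (Fin n)) y) ∈ d'.support ↔
            (t : Perm (Fin n)) ((s : Perm (Fin n)) y) ∈ d'.support) := by
          intro d' hd'
          rcases hs2 d' hd' with hA | hA <;> rcases ht2 d' hd' with hB | hB <;>
            rw [hA _ hty, hB _ hsy, hA _ hy, hB _ hy]
        exact hsep _ (hUinv _ s.2 _ hty) _ (hUinv _ t.2 _ hsy) (key _ (huD' 0 1 (by omega) (by omega) (by omega)))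
          (key _ (huD' 0 2 (by omega) (by omega) (by omega))) (key d hd)
      · rw [ht1 y hy, hs1 y hy, ht1 y hy]
    have hTi : ∀ t ∈ T, ∀ h : ↥H, h * t * h⁻¹ ∈ T := by
      rintro t ⟨ht1, ht2⟩ h
      have hconj : ∀ y, ((h * t * h⁻¹ : ↥H) : Perm (Fin n)) y =
          (h : Perm (Fin n)) ((t : Perm (Fin n)) ((h : Perm (Fin n))⁻¹ y)) := fun y => rfl
      refine ⟨fun y hy => ?_, fun d' hd' => ?_⟩
      · rw [hconj, ht1 _ fun hc => hy ((hUiff _ (H.inv_mem h.2) y).mp hc)]
        simp [Perm.inv_def]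
      · have hd'' := DS_conj hd' (H.inv_mem h.2)
        have hs'' : ∀ z, z ∈ ((h : Perm (Fin n))⁻¹ * d' * ((h : Perm (Fin n))⁻¹)⁻¹).support ↔ (h : Perm (Fin n)) z ∈ d'.support := by
          intro z
          rw [support_conj, Finset.mem_map_equiv]
          simp [Perm.inv_def]
        have hinv' : ∀ y, (h : Perm (Fin n)) ((h : Perm (Fin n))⁻¹ y) = y := fun y => by simp [Perm.inv_def]
        rcases ht2 _ hd'' with hA | hA
        · left
          intro y hy
          rw [hconj, ← hs'', hA _ ((hUiff _ (H.inv_mem h.2) y).mpr hy), hs'', hinv']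
        · right
          intro y hy
          rw [hconj, ← hs'', hA _ ((hUiff _ (H.inv_mem h.2) y).mpr hy), hs'', hinv']
    have hcw : ∀ e ∈ E, ∀ y, (e : Perm (Fin n)) ((w : Perm (Fin n)) y) = (w : Perm (Fin n)) ((e : Perm (Fin n)) y) :=
      fun e he y => congrArg (fun σ : Perm (Fin n) => σ y) (commutes_F hF T hTc hTi hwT he)
    have hww : ∀ y ∈ U, (w : Perm (Fin n)) ((w : Perm (Fin n)) y) = y := by
      intro y hy
      obtain ⟨l, hl, rfl | rfl⟩ := hUmem y hy
      · rw [(hwl l (by omega)).1, (hwl l (by omega)).2]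
      · rw [(hwl l (by omega)).2, (hwl l (by omega)).1]
    -- `E` fixes the pairs
    set Ps : Finset (Finset (Fin n)) := (Finset.range 4).image fun l => {pt (2 * l), pt (2 * l + 1)} with hPs
    have hPmem : ∀ y ∈ U, ({y, (w : Perm (Fin n)) y} : Finset (Fin n)) ∈ Ps := by
      intro y hy
      obtain ⟨l, hl, rfl | rfl⟩ := hUmem y hy
      · rw [(hwl l (by omega)).1]; exact Finset.mem_image_of_mem _ (Finset.mem_range.mpr (by omega))
      · rw [(hwl l (by omega)).2, Finset.pair_comm]; exact Finset.mem_image_of_mem _ (Finset.mem_range.mpr (by omega))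
    have hPim : ∀ e ∈ E, ∀ s ∈ Ps, s.image (e : Perm (Fin n)) ∈ Ps := by
      intro e he s hs
      obtain ⟨l, hl, rfl⟩ := Finset.mem_image.mp hs
      have hl := Finset.mem_range.mp hl
      rw [Finset.image_insert, Finset.image_singleton, ← (hwl l hl).1, hcw e he]
      exact hPmem _ (hUinv _ e.2 _ (hptU _ (by omega)))
    let p1 : ↥E → {s // s ∈ Ps} → {s // s ∈ Ps} := fun e s =>
      ⟨s.1.image ((e : ↥H) : Perm (Fin n)), hPim _ e.2 _ s.2⟩
    have hp1 : ∀ (a b : ↥E) s, p1 (a * b) s = p1 a (p1 b s) := fun a b s => Subtype.ext (by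
      simp only [p1, Finset.image_image]; rfl)
    have hp0 : ∀ s, p1 1 s = s := fun s => Subtype.ext (by simp [p1])
    let φ : ↥E →* Perm {s // s ∈ Ps} := {
      toFun := fun a => ⟨p1 a, p1 a⁻¹, fun s => by rw [← hp1, inv_mul_cancel, hp0],
        fun s => by rw [← hp1, mul_inv_cancel, hp0]⟩
      map_one' := Equiv.ext hp0
      map_mul' := fun a b => Equiv.ext (hp1 a b) }
    have hsol : Group.IsSolvable (Perm {s // s ∈ Ps}) := by
      haveI := ZasFC.isSolvable_perm_four
      let ι : {s // s ∈ Ps} ↪ Fin 4 := (Classical.choice (Function.Embedding.nonempty_of_card_le (by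
        rw [Fintype.card_coe, Fintype.card_fin]; exact Finset.card_image_le.trans (Finset.card_range 4).le)))
      exact Group.isSolvable_of_isSolvable_injective (f := Perm.viaEmbeddingHom ι) (Perm.viaEmbeddingHom_injective ι)
    have hkerP : ∀ e ∈ E, ∀ y ∈ U, (e : Perm (Fin n)) y = y ∨ (e : Perm (Fin n)) y = (w : Perm (Fin n)) y := by
      intro e he y hy
      have := congrArg Subtype.val (congrArg (fun σ : Perm {s // s ∈ Ps} => σ ⟨_, hPmem y hy⟩)
        (perfect_hom hF.1 hsol φ ⟨e, he⟩))
      change ({y, (w : Perm (Fin n)) y} : Finset (Fin n)).image (e : Perm (Fin n)) = {y, (w : Perm (Fin n)) y} at this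
      have h3 : (e : Perm (Fin n)) y ∈ ({y, (w : Perm (Fin n)) y} : Finset (Fin n)) :=
        this ▸ Finset.mem_image_of_mem _ (Finset.mem_insert_self _ _)
      simpa using h3
    have hcomm : ∀ a ∈ E, ∀ b ∈ E, ∀ y ∈ U,
        (a : Perm (Fin n)) ((b : Perm (Fin n)) y) = (b : Perm (Fin n)) ((a : Perm (Fin n)) y) := by
      intro a ha b hb y hy
      rcases hkerP a ha y hy with e1 | e1 <;> rcases hkerP b hb y hy with e2 | e2 <;>
        simp only [e1, e2, hcw a ha, hcw b hb, hww y hy]
    let f : ↥E →* Perm {y // y ∈ U} := {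
      toFun := fun e => ((e : ↥H) : Perm (Fin n)).subtypePerm fun y => hUiff _ (e : ↥H).2 y
      map_one' := Equiv.ext fun y => Subtype.ext rfl
      map_mul' := fun a b => Equiv.ext fun y => Subtype.ext rfl }
    have hfc : ∀ a b : ↥E, f a * f b = f b * f a := fun a b =>
      Equiv.ext fun y => Subtype.ext (hcomm _ a.2 _ b.2 y.1 y.2)
    have := congrArg (fun σ : Perm {y // y ∈ U} => (σ ⟨pt i, hptU i (by omega)⟩ : Fin n))
      (Comp.hom_component_trivial hEc hfc ⟨e, he⟩)
    exact this
  -- at most three points are left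
  set R : Finset (Fin n) := Finset.univ \ (Finset.range (4 * r)).image pt with hRdef
  have hR : R.card ≤ 4 := by
    rw [hRdef, Finset.card_sdiff_of_subset (Finset.subset_univ _), Finset.card_univ, Fintype.card_fin,
      Finset.card_image_of_injOn, Finset.card_range]
    · omega
    · intro i hi j hj e
      exact hinj i j (Finset.mem_range.mp hi) (Finset.mem_range.mp hj) e
  have hfixR : ∀ e ∈ E, ∀ y, y ∉ R → (e : Perm (Fin n)) y = y := by
    intro e he y hy
    rw [hRdef, Finset.mem_sdiff, not_and, not_not] at hy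
    obtain ⟨i, hi, rfl⟩ := Finset.mem_image.mp (hy (Finset.mem_univ _))
    exact hall i (Finset.mem_range.mp hi) e he
  have htriv : ∀ e ∈ E, e = 1 := by
    intro e he
    refine Subtype.ext (Equiv.ext fun y => ?_)
    by_cases hy : y ∈ R
    · refine perfect_fix hF.1 (H.subtype.comp E.subtype) R hR ?_ ⟨e, he⟩ hy
      intro x z
      show ((x : ↥H) : Perm (Fin n)) z ∈ R ↔ z ∈ R
      by_cases hz : ((x : ↥H) : Perm (Fin n)) z = z
      · rw [hz]
      · refine iff_of_true (by_contra fun h => hz ?_) (by_contra fun h => hz (hfixR _ x.2 z h))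
        exact ((x : ↥H) : Perm (Fin n)).injective (hfixR _ x.2 _ h)
    · exact hfixR e he y hy
  refine component_not_le_of_isSolvable hEc (N := (⊥ : Subgroup ↥H)) inferInstance fun e he => ?_
  exact Subgroup.mem_bot.mpr (htriv e he)

/-- Let n ≥ 8 and let H be a subgroup of the symmetric group of degree n whose generalized Fitting subgroup F*(H) is quasisimple. If H contains a Sylow 2-subgroup of the alternating group of degree n, then F*(H) is isomorphic to an alternating group of degree m for some m ∈ {n − 3, n − 2, n − 1, n}. -/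
theorem result (n : ℕ) (hn : 8 ≤ n) (H : Subgroup (Equiv.Perm (Fin n))) (hF : Cfsg.IsQuasisimple ↥(Cfsg.generalizedFittingSubgroup ↥H)) (hS : ∃ P : Sylow 2 ↥(alternatingGroup (Fin n)), ((P : Subgroup ↥(alternatingGroup (Fin n))).map (alternatingGroup (Fin n)).subtype) ≤ H) : ∃ m : ℕ, (m = n - 3 ∨ m = n - 2 ∨ m = n - 1 ∨ m = n) ∧ Nonempty (↥(Cfsg.generalizedFittingSubgroup ↥H) ≃* ↥(alternatingGroup (Fin m))) := by
  obtain ⟨P, hP⟩ := hS
  obtain ⟨S, hS, he⟩ := main hn H hF P hP
  refine ⟨S.card, ?_, he⟩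
  have : S.card ≤ n := by simpa using S.card_le_univ
  omega

end Cfsg.Agent.S2928
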