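import Cfsg.Statements.S2930
import Cfsg.Agent.S2929
import Cfsg.Agent.Lib.Perm.AutAltGen
import Cfsg.Agent.Lib.Comp.Layer

set_option autoImplicit false
set_option linter.unusedVariables false
open Cfsg
open scoped commutatorElement

namespace Cfsg.Agent.S2930

open Equiv Equiv.Perm MulAction CfsgLib CfsgLib.AutAlt Cfsg.Agent.S2929

variable {n : ℕ}

/-- Even permutations preserving the partition into the classes of `f`. -/
def FA {ι : Type} (f : Fin n → ι) : Subgroup (Perm (Fin n)) where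
  carrier := {g | g ∈ alternatingGroup (Fin n) ∧ ∀ x y, f x = f y ↔ f (g x) = f (g y)}
  one_mem' := ⟨Subgroup.one_mem _, fun _ _ => Iff.rfl⟩
  mul_mem' := fun {a b} ha hb => ⟨Subgroup.mul_mem _ ha.1 hb.1, fun x y => (hb.2 x y).trans (ha.2 (b x) (b y))⟩
  inv_mem' := fun {a} ha => ⟨Subgroup.inv_mem _ ha.1, fun x y => by
    have := ha.2 (a⁻¹ x) (a⁻¹ y)
    simp [Perm.inv_def] at this ⊢
    exact this.symm⟩

theorem card_mul_centre {R : Type*} [Group R] [Finite R] (hR : IsPGroup 3 R) (N : Subgroup R) [N.Normal] (hN : N ≠ ⊥) :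
    ∃ z ∈ N, z ≠ 1 ∧ ∀ s : R, s * z = z * s := by
  haveI : Fact (Nat.Prime 3) := ⟨Nat.prime_three⟩
  letI : MulAction R ↥N := MulAction.compHom ↥N (MulAut.conjNormal (H := N))
  have hd : 3 ∣ Nat.card ↥N := by
    haveI : Nontrivial ↥N := (Subgroup.nontrivial_iff_ne_bot N).mpr hN
    obtain ⟨k, hk, hc⟩ := (hR.to_subgroup N).nontrivial_iff_card.mp inferInstance
    rw [hc]; exact dvd_pow_self 3 (by omega)
  have h1 : (1 : ↥N) ∈ MulAction.fixedPoints R ↥N := fun r => map_one (MulAut.conjNormal (H := N) r)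
  obtain ⟨z, hz, hz1⟩ := hR.exists_fixed_point_of_prime_dvd_card_of_fixed_point ↥N hd h1
  refine ⟨z, z.2, fun e => hz1 (Subtype.ext e.symm), fun s => ?_⟩
  have := congrArg Subtype.val (hz s)
  change ((MulAut.conjNormal (H := N) s z : ↥N) : R) = z at this
  rw [MulAut.conjNormal_apply] at this
  exact mul_inv_eq_iff_eq_mul.mp this

/-- A central element of order three acting freely on an orbit. -/
theorem central_free {S : Subgroup (Perm (Fin n))} (hS : IsPGroup 3 ↥S) (N : Subgroup ↥S) [N.Normal] (x : Fin n)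
    (hN : ∃ a ∈ N, (a : Perm (Fin n)) x ≠ x) :
    ∃ z ∈ N, ∀ y ∈ orbit ↥S x, (z : Perm (Fin n)) y ∈ orbit ↥S x ∧ (z : Perm (Fin n)) y ≠ y ∧
      (z : Perm (Fin n)) ((z : Perm (Fin n)) ((z : Perm (Fin n)) y)) = y ∧
      ∀ s : ↥S, (s : Perm (Fin n)) ((z : Perm (Fin n)) y) = (z : Perm (Fin n)) ((s : Perm (Fin n)) y) := by
  haveI : Fact (Nat.Prime 3) := ⟨Nat.prime_three⟩
  let ρ : ↥S →* Perm ↥(orbit ↥S x) := MulAction.toPermHom ↥S ↥(orbit ↥S x)
  haveI hNn : (N.map ρ.rangeRestrict).Normal := Subgroup.Normal.map inferInstance _ ρ.rangeRestrict_surjective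
  have hρp : IsPGroup 3 ↥ρ.range := hS.of_surjective _ ρ.rangeRestrict_surjective
  obtain ⟨a, ha, hax⟩ := hN
  have hne : N.map ρ.rangeRestrict ≠ ⊥ := by
    intro e
    have h1 : ρ.rangeRestrict a = 1 := Subgroup.mem_bot.mp (e ▸ Subgroup.mem_map_of_mem _ ha)
    exact hax (congrArg Subtype.val (congrArg (fun σ : Perm ↥(orbit ↥S x) => σ ⟨x, mem_orbit_self x⟩)
      (congrArg Subtype.val h1)))
  obtain ⟨c, hc, hc1, hcc⟩ := card_mul_centre hρp _ hne
  -- a power of order three
  obtain ⟨k, hk⟩ := IsPGroup.iff_orderOf.mp hρp c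
  have hk0 : k ≠ 0 := fun e => hc1 (orderOf_eq_one_iff.mp (by rw [hk, e, pow_zero]))
  obtain ⟨m, rfl⟩ := Nat.exists_eq_succ_of_ne_zero hk0
  obtain ⟨b, hb, hbc⟩ := hc
  refine ⟨b ^ 3 ^ m, N.pow_mem hb _, fun y hy => ?_⟩
  set d := c ^ 3 ^ m with hd
  have hd3 : d ^ 3 = 1 := by rw [hd, ← pow_mul, ← pow_succ, ← hk, pow_orderOf_eq_one]
  have hd1 : d ≠ 1 := by
    intro e
    have := orderOf_dvd_of_pow_eq_one e
    rw [hk] at this
    have := Nat.le_of_dvd (pow_pos (by norm_num) m) this
    rw [pow_succ] at this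
    have : 0 < 3 ^ m := pow_pos (by norm_num) m
    omega
  have hdc : ∀ s, s * d = d * s := fun s => (show Commute s c from hcc s).pow_right _
  have hbd : ρ.rangeRestrict (b ^ 3 ^ m) = d := by rw [map_pow, hbc]
  have hbv : ∀ u : ↥(orbit ↥S x), (((d : Perm ↥(orbit ↥S x)) u : ↥(orbit ↥S x)) : Fin n) =
      ((b ^ 3 ^ m : ↥S) : Perm (Fin n)) u := fun u => by rw [← hbd]; rfl
  have hcomm : ∀ (s : ↥S) (u : ↥(orbit ↥S x)), (d : Perm ↥(orbit ↥S x)) (s • u) = s • (d : Perm ↥(orbit ↥S x)) u :=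
    fun s u => (congrArg (fun σ : Perm ↥(orbit ↥S x) => σ u) (congrArg Subtype.val (hdc (ρ.rangeRestrict s)))).symm
  set u : ↥(orbit ↥S x) := ⟨y, hy⟩
  refine ⟨?_, ?_, ?_, fun s => ?_⟩
  · rw [← hbv u]; exact Subtype.coe_prop _
  · intro e
    have hfu : (d : Perm ↥(orbit ↥S x)) u = u := Subtype.ext ((hbv u).trans e)
    refine hd1 (Subtype.ext (Equiv.ext fun v => ?_))
    obtain ⟨s, hs⟩ := MulAction.exists_smul_eq ↥S u v
    rw [← hs, hcomm, hfu]
    rfl
  · rw [← hbv u, ← hbv, ← hbv]
    exact congrArg Subtype.val (congrArg (fun σ : Perm ↥(orbit ↥S x) => σ u)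
      (congrArg Subtype.val (show d * (d * d) = 1 by rw [← hd3, pow_succ', pow_two])))
  · have h1 := congrArg Subtype.val (hcomm s u)
    rw [hbv] at h1
    have h2 : ((s • (d : Perm ↥(orbit ↥S x)) u : ↥(orbit ↥S x)) : Fin n) = (s : Perm (Fin n)) ((d : Perm ↥(orbit ↥S x)) u : _) := rfl
    rw [h2, hbv] at h1
    exact h1.symm

variable {S M : Subgroup (Perm (Fin n))}

/-- Linked points. -/
def Link (M : Subgroup (Perm (Fin n))) (a b : Fin n) : Prop := ∃ x ∈ M, IsThreeCycle x ∧ x a ≠ a ∧ x b ≠ b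

theorem link_of_cyc {a b c : Fin n} (hab : a ≠ b) (hac : a ≠ c) (hbc : b ≠ c) (h : cyc a b c ∈ M) :
    Link M a b ∧ Link M a c ∧ Link M b c := by
  have h3 := isThreeCycle_cyc hab hac hbc
  have e1 : cyc a b c a ≠ a := by rw [cyc_a hab hac]; exact hab.symm
  have e2 : cyc a b c b ≠ b := by rw [cyc_b hac hbc]; exact hbc.symm
  have e3 : cyc a b c c ≠ c := by rw [cyc_c]; exact hac
  exact ⟨⟨_, h, h3, e1, e2⟩, ⟨_, h, h3, e1, e3⟩, ⟨_, h, h3, e2, e3⟩⟩

/-- Everything linked gives the whole alternating group. -/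
theorem alt_le_of_linked (hn : 3 ≤ n) (h : ∀ a b : Fin n, a ≠ b → ∀ D, Closed M D → a ∈ D → b ∈ D)
    (h0 : ∃ x ∈ M, IsThreeCycle x) : alternatingGroup (Fin n) ≤ M := by
  classical
  obtain ⟨x, hx, hx3⟩ := h0
  obtain ⟨D, hD, hxD⟩ := exists_closed hx hx3
  obtain ⟨a, ha⟩ := Finset.card_pos.mp (show 0 < D.card by have := hD.1.1; omega)
  have hall : ∀ b, b ∈ D := fun b => by
    by_cases e : a = b
    · exact e ▸ ha
    · exact h a b e D hD ha
  rw [← closure_three_cycles_eq_alternating, Subgroup.closure_le]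
  intro y hy
  obtain ⟨p, hp⟩ : ∃ p, y p ≠ p := by
    by_contra hh
    push Not at hh
    have h1 := (hy : IsThreeCycle y).card_support
    rw [show y = 1 from Equiv.ext hh, support_one] at h1
    simp at h1
  obtain ⟨h1, h2, h3, -, hye⟩ := exists_cyc hy hp
  rw [SetLike.mem_coe, hye]
  exact hD.1.2 _ (hall _) _ (hall _) _ (hall _) h1 h2 h3

theorem closed_link {D : Finset (Fin n)} (hD : Closed M D) {a b : Fin n} (hl : Link M a b) (ha : a ∈ D) : b ∈ D := by
  obtain ⟨x, hx, hx3, hxa, hxb⟩ := hl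
  exact hD.2 x hx hx3 a ha hxa (mem_support.mpr hxb)

/-- The key case: a large class containing two triples. -/
theorem triple_case {ι : Type} (f : Fin n → ι) (ζ : Fin n → Fin n) (hn : 3 ≤ n) (x₀ : Fin n)
    (hfM : FA f ≤ M) (hζM : FA (fun y => ({y, ζ y, ζ (ζ y)} : Finset (Fin n))) ≤ M)
    (hfree : ∀ y, ζ y ≠ y) (h3 : ∀ y, ζ (ζ (ζ y)) = y) (hζf : ∀ y, f y = f x₀ → f (ζ y) = f x₀)
    (hr : ∃ r, f r = f x₀ ∧ r ≠ x₀ ∧ r ≠ ζ x₀ ∧ r ≠ ζ (ζ x₀)) :
    alternatingGroup (Fin n) ≤ M := by
  classical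
  have hfree2 : ∀ y, ζ (ζ y) ≠ y := fun y e => hfree y (by have := congrArg ζ e; rw [h3] at this; exact this.symm)
  have hinj : Function.Injective ζ := fun a b e => by rw [← h3 a, ← h3 b, e]
  -- three-cycles inside the class
  have hin : ∀ a b c, f a = f x₀ → f b = f x₀ → f c = f x₀ → a ≠ b → a ≠ c → b ≠ c → cyc a b c ∈ M := by
    intro a b c ha hb hc hab hac hbc
    refine hfM ⟨(isThreeCycle_cyc hab hac hbc).mem_alternatingGroup, fun u v => ?_⟩
    have key : ∀ u, f (cyc a b c u) = f u := by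
      intro u
      by_cases e1 : u = a
      · rw [e1, cyc_a hab hac, ha, hb]
      by_cases e2 : u = b
      · rw [e2, cyc_b hac hbc, hb, hc]
      by_cases e3 : u = c
      · rw [e3, cyc_c, hc, ha]
      rw [cyc_fix e1 e2 e3]
    rw [key, key]
  obtain ⟨r, hr0, hr1, hr2, hr3⟩ := hr
  have hTlink : ∀ a b, f a = f x₀ → f b = f x₀ → a ≠ b → Link M a b := by
    intro a b ha hb hab
    obtain ⟨c, hc, hca, hcb⟩ : ∃ c, f c = f x₀ ∧ c ≠ a ∧ c ≠ b := by
      by_cases h : x₀ ≠ a ∧ x₀ ≠ b
      · exact ⟨x₀, rfl, h⟩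
      by_cases h' : ζ x₀ ≠ a ∧ ζ x₀ ≠ b
      · exact ⟨ζ x₀, hζf _ rfl, h'⟩
      refine ⟨r, hr0, ?_, ?_⟩
      all_goals
        intro e; subst e
        rw [not_and_or, not_not, not_not] at h h'
        rcases h with h | h <;> rcases h' with h' | h' <;>
          first
            | exact hr1 h.symm
            | exact hr2 h'.symm
            | exact hfree x₀ (h'.trans h.symm)
    exact (link_of_cyc hab hca.symm hcb.symm (hin a b c ha hb hc hab hca.symm hcb.symm)).1
  -- outside points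
  have hout : ∀ q, f q ≠ f x₀ → ∃ t, f t = f x₀ ∧ Link M q t := by
    intro q hq
    set p := x₀ with hp
    have hcls : ∀ y, f y = f p → y ≠ q ∧ y ≠ ζ q ∧ y ≠ ζ (ζ q) := by
      intro y hy
      refine ⟨fun e => hq (e ▸ hy), fun e => hq ?_, fun e => hq ?_⟩
      · have := hζf _ (hζf _ hy); rwa [e, h3] at this
      · have := hζf _ hy; rwa [e, h3] at this
    let g : Perm (Fin n) := (swap p q * swap (ζ p) (ζ q) * swap (ζ (ζ p)) (ζ (ζ q))) * swap r (ζ r)
    obtain ⟨q0, q1, q2⟩ := hcls p rfl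
    obtain ⟨q3, q4, q5⟩ := hcls (ζ p) (hζf _ rfl)
    obtain ⟨q6, q7, q8⟩ := hcls (ζ (ζ p)) (hζf _ (hζf _ rfl))
    obtain ⟨q9, q10, q11⟩ := hcls r hr0
    obtain ⟨q12, q13, q14⟩ := hcls (ζ r) (hζf _ hr0)
    set A := swap p q * swap (ζ p) (ζ q) * swap (ζ (ζ p)) (ζ (ζ q)) with hA
    have A1 : A p = q := by
      simp (disch := first | assumption | exact (hfree _).symm | exact (hfree2 _).symm | exact Ne.symm (by assumption))
        [hA, swap_apply_of_ne_of_ne, swap_apply_left, swap_apply_right]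
    have A2 : A (ζ p) = ζ q := by
      simp (disch := first | assumption | exact hfree _ | exact (hfree _).symm | exact hinj.ne q0 | exact Ne.symm (by assumption))
        [hA, swap_apply_of_ne_of_ne, swap_apply_left, swap_apply_right]
    have A3 : A (ζ (ζ p)) = ζ (ζ q) := by
      simp (disch := first | assumption | exact hfree _ | exact hfree2 _ | exact (hfree _).symm | exact (hfree2 _).symm | exact Ne.symm (by assumption))
        [hA, swap_apply_of_ne_of_ne, swap_apply_left, swap_apply_right]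
    have A4 : A q = p := by
      simp (disch := first | assumption | exact (hfree _).symm | exact (hfree2 _).symm | exact Ne.symm (by assumption))
        [hA, swap_apply_of_ne_of_ne, swap_apply_left, swap_apply_right]
    have A5 : A (ζ q) = ζ p := by
      simp (disch := first | assumption | exact hfree _ | exact (hfree _).symm | exact Ne.symm (by assumption))
        [hA, swap_apply_of_ne_of_ne, swap_apply_left, swap_apply_right]
    have A6 : A (ζ (ζ q)) = ζ (ζ p) := by
      simp (disch := first | assumption | exact hfree _ | exact hfree2 _ | exact (hfree _).symm | exact (hfree2 _).symm | exact Ne.symm (by assumption))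
        [hA, swap_apply_of_ne_of_ne, swap_apply_left, swap_apply_right]
    have A0 : ∀ y, y ≠ p → y ≠ ζ p → y ≠ ζ (ζ p) → y ≠ q → y ≠ ζ q → y ≠ ζ (ζ q) → A y = y := by
      intro y h1 h2 h3 h4 h5 h6
      simp (disch := assumption) [hA, swap_apply_of_ne_of_ne]
    have Acomm : ∀ y, A (ζ y) = ζ (A y) := by
      intro y
      by_cases h1 : y = p
      · rw [h1, A1, A2]
      by_cases h2 : y = ζ p
      · rw [h2, A2, A3]
      by_cases h3' : y = ζ (ζ p)
      · rw [h3', h3, A3, h3, A1]
      by_cases h4 : y = q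
      · rw [h4, A4, A5]
      by_cases h5 : y = ζ q
      · rw [h5, A5, A6]
      by_cases h6 : y = ζ (ζ q)
      · rw [h6, h3, A6, h3, A4]
      rw [A0 y h1 h2 h3' h4 h5 h6, A0]
      · exact fun e => h3' (by rw [← e, h3])
      · exact fun e => h1 (hinj e)
      · exact fun e => h2 (hinj e)
      · exact fun e => h6 (by rw [← e, h3])
      · exact fun e => h4 (hinj e)
      · exact fun e => h5 (hinj e)
    let t : Fin n → Finset (Fin n) := fun y => {y, ζ y, ζ (ζ y)}
    have htζ : ∀ y, t (ζ y) = t y := by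
      intro y
      ext z
      simp only [t, Finset.mem_insert, Finset.mem_singleton, h3]
      tauto
    have htself : ∀ y, y ∈ t y := fun y => Finset.mem_insert_self _ _
    have htA : ∀ y, t (A y) = (t y).image A := fun y => by
      simp only [t, Finset.image_insert, Finset.image_singleton, Acomm]
    have hB : ∀ y, t (swap r (ζ r) y) = t y := by
      intro y
      by_cases h1 : y = r
      · rw [h1, swap_apply_left, htζ]
      by_cases h2 : y = ζ r
      · rw [h2, swap_apply_right, htζ]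
      rw [swap_apply_of_ne_of_ne h1 h2]
    have hgM : g ∈ M := by
      refine hζM ⟨?_, fun u v => ?_⟩
      · show A * swap r (ζ r) ∈ alternatingGroup (Fin n)
        rw [mem_alternatingGroup, hA, map_mul, map_mul, map_mul, sign_swap q0, sign_swap q4, sign_swap q8,
          sign_swap (hfree r).symm]
        rfl
      · show t u = t v ↔ t (A (swap r (ζ r) u)) = t (A (swap r (ζ r) v))
        rw [htA, htA, hB, hB]
        exact ⟨fun e => by rw [e], fun e => Finset.image_injective A.injective e⟩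
    have r1 : r ≠ ζ (ζ r) := (hfree2 r).symm
    have gp : g p = q := by
      show A (swap r (ζ r) p) = q
      rw [swap_apply_of_ne_of_ne hr1.symm (fun e => hr3 (by rw [e, h3])), A1]
    have rA : ∀ y, f y = f p → y ≠ p → y ≠ ζ p → y ≠ ζ (ζ p) → A y = y := fun y hy a b c =>
      A0 y a b c (hcls y hy).1 (hcls y hy).2.1 (hcls y hy).2.2
    have gr : g r = ζ r := by
      show A (swap r (ζ r) r) = ζ r
      rw [swap_apply_left]
      exact rA _ (hζf _ hr0) (fun e => hr3 (by rw [← e, h3])) (fun e => hr1 (hinj e)) (fun e => hr2 (hinj e))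
    have gr2 : g (ζ r) = r := by
      show A (swap r (ζ r) (ζ r)) = r
      rw [swap_apply_right]
      exact rA _ hr0 hr1 hr2 hr3
    have hp_r : p ≠ r := hr1.symm
    have hp_zr : p ≠ ζ r := fun e => hr3 (by rw [e, h3])
    have hx := hin p r (ζ r) rfl hr0 (hζf _ hr0) hp_r hp_zr (hfree r).symm
    have hy := M.mul_mem (M.mul_mem hgM hx) (M.inv_mem hgM)
    rw [conj_cyc, gp, gr, gr2] at hy
    exact ⟨ζ r, hζf _ hr0, (link_of_cyc q12.symm q9.symm (hfree r) hy).1⟩
  refine alt_le_of_linked hn (fun a b hab D hD ha => ?_)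
    ⟨_, hin x₀ (ζ x₀) (ζ (ζ x₀)) rfl (hζf _ rfl) (hζf _ (hζf _ rfl)) (hfree x₀).symm (hfree2 x₀).symm (hfree (ζ x₀)).symm,
      isThreeCycle_cyc (hfree x₀).symm (hfree2 x₀).symm (hfree (ζ x₀)).symm⟩
  -- move into the class and back
  have hsymm : ∀ {a b}, Link M a b → Link M b a := fun ⟨x, h1, h2, h3, h4⟩ => ⟨x, h1, h2, h4, h3⟩
  have into : ∀ a ∈ D, ∃ a', f a' = f x₀ ∧ a' ∈ D := by
    intro a ha
    by_cases h : f a = f x₀
    · exact ⟨a, h, ha⟩
    · obtain ⟨t, ht, hl⟩ := hout a h
      exact ⟨t, ht, closed_link hD hl ha⟩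
  obtain ⟨a', ha', haD⟩ := into a ha
  have hT : ∀ c, f c = f x₀ → c ∈ D := fun c hc => by
    by_cases e : a' = c
    · exact e ▸ haD
    · exact closed_link hD (hTlink a' c ha' hc e) haD
  by_cases hb : f b = f x₀
  · exact hT b hb
  · obtain ⟨t, ht, hl⟩ := hout b hb
    exact closed_link hD (hsymm hl) (hT t ht)

/-- The heart of the matter. -/
theorem combinatorics (hn : 5 ≤ n) (hS : IsPGroup 3 ↥S) (hSA : S ≤ alternatingGroup (Fin n))
    (hM : ¬ alternatingGroup (Fin n) ≤ M)
    (huniq : ∀ F : Subgroup (Perm (Fin n)), S ≤ F → F ≤ alternatingGroup (Fin n) → F ≠ alternatingGroup (Fin n) → F ≤ M) :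
    n = 6 ∨ n = 9 ∨ ∃ a : ℕ, 2 ≤ a ∧ n = 3 ^ a + 1 := by
  classical
  haveI : Fact (Nat.Prime 3) := ⟨Nat.prime_three⟩
  -- invariant partitions give subgroups of `M`
  have hF : ∀ {ι : Type} (f : Fin n → ι), (∀ s ∈ S, ∀ x y, f x = f y ↔ f (s x) = f (s y)) →
      (∃ a b c, a ≠ b ∧ f a = f b ∧ f c ≠ f a) → FA f ≤ M := by
    intro ι f hf ⟨a, b, c, hab, hfab, hfc⟩
    refine huniq _ (fun s hs => ⟨hSA hs, hf s hs⟩) (fun g hg => hg.1) fun e => ?_
    have hac : a ≠ c := fun e => hfc (by rw [e])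
    have hbc : b ≠ c := fun e => hfc (by rw [hfab, e])
    have h1 : cyc a b c ∈ FA f := e ▸ (isThreeCycle_cyc hab hac hbc).mem_alternatingGroup
    have h2 := (h1.2 a b).mp hfab
    rw [cyc_a hab hac, cyc_b hac hbc] at h2
    exact hfc (h2.symm.trans hfab.symm)
  let O : Fin n → Finset (Fin n) := fun x => Finset.univ.filter fun y => y ∈ orbit ↥S x
  have hOm : ∀ x y, y ∈ O x ↔ y ∈ orbit ↥S x := fun x y => by simp [O]
  have hOs : ∀ x, x ∈ O x := fun x => (hOm x x).mpr (mem_orbit_self x)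
  have hOeq : ∀ x y, y ∈ O x → O y = O x := fun x y h => by
    simp only [O, orbit_eq_iff.mpr ((hOm x y).mp h)]
  have hOinv : ∀ s ∈ S, ∀ x y, (s y ∈ O x ↔ y ∈ O x) := fun s hs x y => by
    rw [hOm, hOm]
    show (⟨s, hs⟩ : ↥S) • y ∈ orbit ↥S x ↔ _
    exact ⟨fun h => by rw [← orbit_eq_iff.mpr h, orbit_smul]; exact mem_orbit_self _, fun h =>
      by rw [← orbit_eq_iff.mpr h]; exact mem_orbit _ _⟩
  have hOcard : ∀ x, ∃ k, (O x).card = 3 ^ k := fun x => by
    obtain ⟨k, hk⟩ := hS.card_orbit x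
    refine ⟨k, ?_⟩
    rw [← hk]
    simp only [O]
    rw [← Set.ncard_coe_finset, ← Nat.card_coe_set_eq]
    simp
  have hOmove : ∀ x, 1 < (O x).card → ∃ a ∈ (⊤ : Subgroup ↥S), (a : Perm (Fin n)) x ≠ x := by
    intro x hx
    obtain ⟨y, hy, hyx⟩ := Finset.exists_mem_ne hx x
    obtain ⟨a, ha⟩ := (hOm x y).mp hy
    exact ⟨a, Subgroup.mem_top _, fun e => hyx (ha.symm.trans e)⟩
  -- the union of orbits
  have hind : ∀ T : Finset (Fin n), (∀ s ∈ S, ∀ y, (s y ∈ T ↔ y ∈ T)) → 3 ≤ T.card → T ≠ Finset.univ →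
      ∀ a ∈ T, ∀ b ∈ T, a ≠ b → Link M a b := by
    intro T hT h3 hne a ha b hb hab
    obtain ⟨c, hc⟩ : ∃ c, c ∉ T := by
      by_contra h; push Not at h; exact hne (Finset.eq_univ_iff_forall.mpr h)
    obtain ⟨d, hd, hd'⟩ : ∃ d ∈ T, d ∉ ({a, b} : Finset (Fin n)) :=
      Finset.exists_mem_notMem_of_card_lt_card (lt_of_le_of_lt Finset.card_le_two (by omega))
    simp only [Finset.mem_insert, Finset.mem_singleton, not_or] at hd'
    have hle := hF (fun y => decide (y ∈ T)) (fun s hs x y => by simp [hT s hs])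
      ⟨a, b, c, hab, by simp [ha, hb], by simp [ha, hc]⟩
    refine (link_of_cyc hab (Ne.symm hd'.1) (Ne.symm hd'.2) (hle ⟨(isThreeCycle_cyc hab (Ne.symm hd'.1) (Ne.symm hd'.2)).mem_alternatingGroup, fun u v => ?_⟩)).1
    have key : ∀ u, (cyc a b d u ∈ T ↔ u ∈ T) := by
      intro u
      by_cases e1 : u = a
      · rw [e1, cyc_a hab (Ne.symm hd'.1)]; exact iff_of_true hb ha
      by_cases e2 : u = b
      · rw [e2, cyc_b (Ne.symm hd'.1) (Ne.symm hd'.2)]; exact iff_of_true hd hb
      by_cases e3 : u = d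
      · rw [e3, cyc_c]; exact iff_of_true ha hd
      rw [cyc_fix e1 e2 e3]
    simp [key]
  set x : Fin n := ⟨0, by omega⟩
  by_cases h1 : O x = Finset.univ
  · -- transitive
    obtain ⟨k, hk⟩ := hOcard x
    rw [h1, Finset.card_univ, Fintype.card_fin] at hk
    by_contra hcon
    push Not at hcon
    have htr : ∀ y, y ∈ orbit ↥S x := fun y => (hOm x y).mp (h1 ▸ Finset.mem_univ y)
    set St := stabilizer ↥S x with hSt
    have hSti : St.index = n := by
      rw [hSt, index_stabilizer, ← Nat.card_coe_set_eq, show (orbit ↥S x) = Set.univ from Set.eq_univ_of_forall htr]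
      simp
    have hStne : St ≠ ⊤ := fun e => by rw [e, Subgroup.index_top] at hSti; omega
    obtain ⟨H, hHc, hHle⟩ := (eq_top_or_exists_le_coatom St).resolve_left hStne
    haveI : Group.IsNilpotent ↥S := hS.isNilpotent
    haveI hHn : H.Normal := Subgroup.NormalizerCondition.normal_of_coatom H normalizerCondition_of_isNilpotent hHc
    have hH3 : H.index = 3 := by
      haveI : Nontrivial (↥S ⧸ H) := QuotientGroup.nontrivial_iff.mpr hHc.1
      obtain ⟨j, hj, hjc⟩ := (hS.to_quotient H).nontrivial_iff_card.mp inferInstance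
      obtain ⟨z, hz⟩ := exists_prime_orderOf_dvd_card' (G := ↥S ⧸ H) 3 (hjc ▸ dvd_pow_self 3 (by omega))
      have htop : (Subgroup.zpowers z).comap (QuotientGroup.mk' H) = ⊤ := by
        refine hHc.2 _ (lt_of_le_of_ne ?_ fun e => ?_)
        · intro h hh
          show QuotientGroup.mk' H h ∈ Subgroup.zpowers z
          rw [show QuotientGroup.mk' H h = 1 from (QuotientGroup.eq_one_iff h).mpr hh]
          exact one_mem _
        · obtain ⟨w, hw⟩ := QuotientGroup.mk'_surjective H z
          have : w ∈ H := e ▸ (show QuotientGroup.mk' H w ∈ Subgroup.zpowers z from hw ▸ Subgroup.mem_zpowers z)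
          rw [← hw, show QuotientGroup.mk' H w = 1 from (QuotientGroup.eq_one_iff w).mpr this, orderOf_one] at hz
          omega
      have h2 := congrArg (Subgroup.map (QuotientGroup.mk' H)) htop
      rw [Subgroup.map_comap_eq_self_of_surjective (QuotientGroup.mk'_surjective H),
        Subgroup.map_top_of_surjective _ (QuotientGroup.mk'_surjective H)] at h2
      rw [Subgroup.index, ← Subgroup.card_top, ← h2, Nat.card_zpowers, hz]
    have hTcard : Nat.card (orbit ↥H x) * 3 = n := by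
      have h := Subgroup.relIndex_mul_index hHle
      rw [hH3, hSti] at h
      rw [Nat.card_coe_set_eq, ← index_stabilizer, show stabilizer ↥H x = St.subgroupOf H from by ext; rfl]
      exact h
    have h27 : 9 ≤ Nat.card (orbit ↥H x) := by
      have : 3 ≤ k := by
        by_contra h
        push Not at h
        interval_cases k <;> omega
      have : 27 ≤ 3 ^ k := Nat.pow_le_pow_right (by norm_num : 0 < 3) this
      omega
    obtain ⟨a, ha, hax⟩ : ∃ a ∈ H, (a : Perm (Fin n)) x ≠ x := by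
      by_contra h
      push Not at h
      have : orbit ↥H x = {x} := Set.eq_singleton_iff_unique_mem.mpr ⟨mem_orbit_self x, by
        rintro y ⟨h', rfl⟩; exact h h' h'.2⟩
      rw [this] at h27
      simp at h27
    obtain ⟨z, hz, hzO⟩ := central_free hS H x ⟨a, ha, hax⟩
    let ζ : Fin n → Fin n := fun y => (z : Perm (Fin n)) y
    have hζM : FA (fun y => ({y, ζ y, ζ (ζ y)} : Finset (Fin n))) ≤ M := by
      refine hF _ (fun s hs u v => ?_) ?_
      · have e : ∀ y, ({s y, ζ (s y), ζ (ζ (s y))} : Finset (Fin n)) = ({y, ζ y, ζ (ζ y)} : Finset (Fin n)).image s := by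
          intro y
          simp only [Finset.image_insert, Finset.image_singleton]
          rw [show ζ (s y) = s (ζ y) from ((hzO y (htr y)).2.2.2 ⟨s, hs⟩).symm,
            show ζ (s (ζ y)) = s (ζ (ζ y)) from ((hzO _ (htr _)).2.2.2 ⟨s, hs⟩).symm]
        rw [e, e]
        exact ⟨fun h => by rw [h], fun h => Finset.image_injective s.injective h⟩
      · obtain ⟨c, -, hc⟩ := Finset.exists_mem_notMem_of_card_lt_card (s := ({x, ζ x, ζ (ζ x)} : Finset (Fin n)))
          (t := Finset.univ) (lt_of_le_of_lt Finset.card_le_three (by simp; omega))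
        refine ⟨x, ζ x, c, (hzO x (htr x)).2.1.symm, ?_, fun e => hc (e ▸ Finset.mem_insert_self _ _)⟩
        ext u
        simp only [Finset.mem_insert, Finset.mem_singleton, ζ, (hzO x (htr x)).2.2.1]
        tauto
    let f : Fin n → Finset (Fin n) := fun y => Finset.univ.filter fun u => u ∈ orbit ↥H y
    have hfe : ∀ y y', f y = f y' ↔ y ∈ orbit ↥H y' := by
      intro y y'
      constructor
      · intro e
        have : y ∈ f y' := e ▸ (by simp [f, mem_orbit_self])
        simpa [f] using this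
      · intro h
        simp only [f, orbit_eq_iff.mpr h]
    have hfs : ∀ s : ↥S, ∀ y y', y ∈ orbit ↥H y' → (s : Perm (Fin n)) y ∈ orbit ↥H ((s : Perm (Fin n)) y') := by
      rintro s y y' ⟨h, rfl⟩
      refine ⟨⟨s * h * s⁻¹, hHn.conj_mem _ h.2 s⟩, ?_⟩
      show ((s : Perm (Fin n)) * ((h : ↥S) : Perm (Fin n)) * (s : Perm (Fin n))⁻¹) ((s : Perm (Fin n)) y') = _
      simp [Perm.inv_def]
      rfl
    have hfM : FA f ≤ M := by
      refine hF f (fun s hs u v => ?_) ⟨x, (a : Perm (Fin n)) x, ?_⟩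
      · rw [hfe, hfe]
        refine ⟨hfs ⟨s, hs⟩ u v, fun h => ?_⟩
        have := hfs ⟨s, hs⟩⁻¹ _ _ h
        simpa [Perm.inv_def] using this
      · obtain ⟨s, hs⟩ := SetLike.exists_of_lt (lt_top_iff_ne_top.mpr hHc.1)
        refine ⟨(s : Perm (Fin n)) x, hax.symm, ((hfe _ _).mpr ⟨⟨a, ha⟩, rfl⟩).symm, fun e => hs.2 ?_⟩
        obtain ⟨h, hh⟩ := (hfe _ _).mp e
        have : (h : ↥S)⁻¹ * s ∈ St := by
          rw [hSt, mem_stabilizer_iff, mul_smul, inv_smul_eq_iff]
          exact hh.symm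
        simpa using H.mul_mem h.2 (hHle this)
    refine hM (triple_case f ζ (by omega) x hfM hζM (fun y => (hzO y (htr y)).2.1) (fun y => (hzO y (htr y)).2.2.1)
      (fun y hy => ?_) ?_)
    · exact (((hfe (ζ y) y).mpr ⟨⟨z, hz⟩, rfl⟩)).trans hy
    · obtain ⟨r, hr, hr'⟩ := Finset.exists_mem_notMem_of_card_lt_card (s := ({x, ζ x, ζ (ζ x)} : Finset (Fin n)))
        (t := f x) (lt_of_le_of_lt Finset.card_le_three (by
          have : (f x).card = Nat.card (orbit ↥H x) := by
            simp only [f]; rw [← Set.ncard_coe_finset, ← Nat.card_coe_set_eq]; simp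
          omega))
      simp only [Finset.mem_insert, Finset.mem_singleton, not_or] at hr'
      exact ⟨r, (hfe r x).mpr (by simpa [f] using hr), hr'⟩
  obtain ⟨y, hy⟩ : ∃ y, y ∉ O x := by
    by_contra h; push Not at h; exact h1 (Finset.eq_univ_iff_forall.mpr h)
  have hxy : x ≠ y := fun e => hy (e ▸ hOs x)
  have hdisj : ∀ u ∈ O y, u ∉ O x := fun u hu hux => hy (by rw [← hOeq x u hux, hOeq y u hu]; exact hOs y)
  by_cases h2 : O x ∪ O y = Finset.univ
  · -- two orbits
    have hsum : (O x).card + (O y).card = n := by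
      rw [← Finset.card_union_of_disjoint (Finset.disjoint_left.mpr fun u hu hu' => hdisj u hu' hu), h2,
        Finset.card_univ, Fintype.card_fin]
    obtain ⟨i, hi⟩ := hOcard x
    obtain ⟨j, hj⟩ := hOcard y
    rw [hi, hj] at hsum
    by_cases hi0 : i = 0
    · subst hi0
      refine Or.inr (Or.inr ⟨j, ?_, by simp at hsum; omega⟩)
      by_contra h; push Not at h; interval_cases j <;> simp at hsum <;> omega
    by_cases hj0 : j = 0
    · subst hj0
      refine Or.inr (Or.inr ⟨i, ?_, by simp at hsum; omega⟩)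
      by_contra h; push Not at h; interval_cases i <;> simp at hsum <;> omega
    by_cases h6 : i = 1 ∧ j = 1
    · left; rw [h6.1, h6.2] at hsum; omega
    exfalso
    have h3i : 1 < (O x).card := hi ▸ Nat.one_lt_pow hi0 (by norm_num)
    have h3j : 1 < (O y).card := hj ▸ Nat.one_lt_pow hj0 (by norm_num)
    obtain ⟨z₁, -, hz₁⟩ := central_free hS ⊤ x (hOmove x h3i)
    obtain ⟨z₂, -, hz₂⟩ := central_free hS ⊤ y (hOmove y h3j)
    let ζ : Fin n → Fin n := fun u => if u ∈ O x then (z₁ : Perm (Fin n)) u else (z₂ : Perm (Fin n)) u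
    have hin : ∀ u, u ∈ O x ∨ u ∈ O y := fun u => Finset.mem_union.mp (h2 ▸ Finset.mem_univ u)
    have hp : ∀ u, (u ∈ O x → ζ u = (z₁ : Perm (Fin n)) u ∧ ζ u ∈ O x) ∧
        (u ∈ O y → ζ u = (z₂ : Perm (Fin n)) u ∧ ζ u ∈ O y) := fun u =>
      ⟨fun h => by
        have e : ζ u = (z₁ : Perm (Fin n)) u := if_pos h
        exact ⟨e, by rw [e, hOm]; exact (hz₁ u ((hOm x u).mp h)).1⟩,
       fun h => by
        have e : ζ u = (z₂ : Perm (Fin n)) u := if_neg (hdisj u h)
        exact ⟨e, by rw [e, hOm]; exact (hz₂ u ((hOm y u).mp h)).1⟩⟩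
    have hfree : ∀ u, ζ u ≠ u := by
      intro u
      rcases hin u with h | h
      · rw [((hp u).1 h).1]; exact (hz₁ u ((hOm x u).mp h)).2.1
      · rw [((hp u).2 h).1]; exact (hz₂ u ((hOm y u).mp h)).2.1
    have h3 : ∀ u, ζ (ζ (ζ u)) = u := by
      intro u
      rcases hin u with h | h
      · obtain ⟨e1, m1⟩ := (hp u).1 h
        obtain ⟨e2, m2⟩ := (hp _).1 m1
        rw [((hp _).1 m2).1, e2, e1]; exact (hz₁ u ((hOm x u).mp h)).2.2.1
      · obtain ⟨e1, m1⟩ := (hp u).2 h
        obtain ⟨e2, m2⟩ := (hp _).2 m1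
        rw [((hp _).2 m2).1, e2, e1]; exact (hz₂ u ((hOm y u).mp h)).2.2.1
    have hcomm : ∀ s : ↥S, ∀ u, ζ ((s : Perm (Fin n)) u) = (s : Perm (Fin n)) (ζ u) := by
      intro s u
      rcases hin u with h | h
      · rw [((hp u).1 h).1, ((hp _).1 ((hOinv s s.2 x u).mpr h)).1]
        exact ((hz₁ u ((hOm x u).mp h)).2.2.2 s).symm
      · rw [((hp u).2 h).1, ((hp _).2 ((hOinv s s.2 y u).mpr h)).1]
        exact ((hz₂ u ((hOm y u).mp h)).2.2.2 s).symm
    have hζM : FA (fun u => ({u, ζ u, ζ (ζ u)} : Finset (Fin n))) ≤ M := by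
      refine hF _ (fun s hs u v => ?_) ⟨x, ζ x, y, (hfree x).symm, ?_, fun e => ?_⟩
      · have e : ∀ w, ({s w, ζ (s w), ζ (ζ (s w))} : Finset (Fin n)) = ({w, ζ w, ζ (ζ w)} : Finset (Fin n)).image s := by
          intro w
          simp only [Finset.image_insert, Finset.image_singleton, hcomm ⟨s, hs⟩]
        rw [e, e]
        exact ⟨fun h => by rw [h], fun h => Finset.image_injective s.injective h⟩
      · ext u
        simp only [Finset.mem_insert, Finset.mem_singleton, h3]
        tauto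
      · have hyin : y ∈ ({x, ζ x, ζ (ζ x)} : Finset (Fin n)) := e ▸ Finset.mem_insert_self _ _
        simp only [Finset.mem_insert, Finset.mem_singleton] at hyin
        rcases hyin with rfl | rfl | rfl
        · exact hy (hOs _)
        · exact hy ((hp x).1 (hOs x)).2
        · exact hy ((hp _).1 ((hp x).1 (hOs x)).2).2
    -- the larger orbit
    obtain ⟨w, hw6⟩ : ∃ w, 3 < (O w).card := by
      rcases (show 2 ≤ i ∨ 2 ≤ j by omega) with h | h
      · exact ⟨x, hi ▸ lt_of_lt_of_le (by norm_num) (Nat.pow_le_pow_right (by norm_num : 0 < 3) h)⟩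
      · exact ⟨y, hj ▸ lt_of_lt_of_le (by norm_num) (Nat.pow_le_pow_right (by norm_num : 0 < 3) h)⟩
    have hwinv : ∀ u ∈ O w, ζ u ∈ O w := by
      intro u hu
      rcases hin u with h | h
      · rw [← hOeq w u hu, hOeq x u h]; exact ((hp u).1 h).2
      · rw [← hOeq w u hu, hOeq y u h]; exact ((hp u).2 h).2
    have hwne : ∃ c, c ∉ O w := by
      by_contra h
      push Not at h
      exact hy (by rw [hOeq w x (h x)]; exact h y)
    obtain ⟨c, hc⟩ := hwne
    have hfM : FA (fun u => decide (u ∈ O w)) ≤ M := by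
      obtain ⟨b, hb, hbw⟩ := Finset.exists_mem_ne (lt_trans (by norm_num) hw6) w
      exact hF _ (fun s hs u v => by simp [hOinv s hs]) ⟨w, b, c, hbw.symm, by simp [hOs, hb], by simp [hOs, hc]⟩
    refine hM (triple_case _ ζ (by omega) w hfM hζM hfree h3 (fun u hu => ?_) ?_)
    · simp only [hOs, decide_true, decide_eq_true_eq] at hu ⊢
      exact hwinv u hu
    · obtain ⟨r, hr, hr'⟩ := Finset.exists_mem_notMem_of_card_lt_card (s := ({w, ζ w, ζ (ζ w)} : Finset (Fin n)))
        (t := O w) (lt_of_le_of_lt Finset.card_le_three hw6)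
      simp only [Finset.mem_insert, Finset.mem_singleton, not_or] at hr'
      exact ⟨r, by simp [hOs, hr], hr'⟩
  -- at least three orbits
  exfalso
  refine hM (alt_le_of_linked (by omega) ?_ ?_)
  rotate_left
  · obtain ⟨w, hw⟩ : ∃ w, w ∉ O x ∪ O y := by
      by_contra h; push Not at h; exact h2 (Finset.eq_univ_iff_forall.mpr h)
    set T := Finset.univ \ O w with hT
    have hTinv : ∀ s ∈ S, ∀ u, (s u ∈ T ↔ u ∈ T) := fun s hs u => by simp [hT, hOinv s hs]
    have hxT : x ∈ T := by
      simp only [hT, Finset.mem_sdiff, Finset.mem_univ, true_and]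
      exact fun h => hw (Finset.mem_union_left _ (by rw [hOeq w x h]; exact hOs w))
    have hyT : y ∈ T := by
      simp only [hT, Finset.mem_sdiff, Finset.mem_univ, true_and]
      exact fun h => hw (Finset.mem_union_right _ (by rw [hOeq w y h]; exact hOs w))
    by_cases h3T : 3 ≤ T.card
    · obtain ⟨z, hz, hz3, -⟩ := hind T hTinv h3T (fun e => by
        have := e ▸ Finset.mem_univ w
        simp [hT, hOs] at this) x hxT y hyT hxy
      exact ⟨z, hz, hz3⟩
    · -- the orbit of `w` is large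
      have hTx : O x ⊆ T := fun u hu => by
        simp only [hT, Finset.mem_sdiff, Finset.mem_univ, true_and]
        exact fun h => hw (Finset.mem_union_left _ (by rw [← hOeq x u hu, hOeq w u h]; exact hOs w))
      have hw3 : 3 ≤ (O w).card := by
        have := Finset.card_sdiff_of_subset (Finset.subset_univ (O w))
        rw [← hT, Finset.card_univ, Fintype.card_fin] at this
        omega
      obtain ⟨u, hu, huw⟩ := Finset.exists_mem_ne (show 1 < (O w).card by omega) w
      obtain ⟨z, hz, hz3, -⟩ := hind (O w) (fun s hs => hOinv s hs w) hw3 (fun e => by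
        have := e ▸ Finset.mem_univ x
        exact hw (Finset.mem_union_left _ (by rw [hOeq w x this]; exact hOs w))) w (hOs w) u hu huw.symm
      exact ⟨z, hz, hz3⟩
  intro a b hab D hD ha
  have hUinv : ∀ u v, ∀ s ∈ S, ∀ t, (s t ∈ O u ∪ O v ↔ t ∈ O u ∪ O v) := fun u v s hs t => by
    simp [Finset.mem_union, hOinv s hs]
  have hUne : ∀ u v, O u ∪ O v ≠ Finset.univ := by
    intro u v e
    have hx' := Finset.mem_union.mp (e ▸ Finset.mem_univ x)
    have hy' := Finset.mem_union.mp (e ▸ Finset.mem_univ y)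
    refine h2 ?_
    rcases hx' with hx' | hx' <;> rcases hy' with hy' | hy'
    · exact absurd (by rw [hOeq u x hx']; exact hy') hy
    · rw [hOeq u x hx', hOeq v y hy']; exact e
    · rw [hOeq v x hx', hOeq u y hy', Finset.union_comm]; exact e
    · exact absurd (by rw [hOeq v x hx']; exact hy') hy
  by_cases hbig : 3 ≤ (O a ∪ O b).card
  · exact closed_link hD (hind _ (hUinv a b) hbig (hUne a b) a (Finset.mem_union_left _ (hOs a)) b
      (Finset.mem_union_right _ (hOs b)) hab) ha
  -- both fixed: go through a third point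
  have hca : ∀ u v : Fin n, u ≠ v → u ∈ O v → 3 ≤ (O v).card := fun u v huv hu => by
    obtain ⟨k, hk⟩ := hOcard v
    have : 1 < (O v).card := Finset.one_lt_card.mpr ⟨u, hu, v, hOs v, huv⟩
    rw [hk] at this ⊢
    have : k ≠ 0 := fun e => by rw [e] at this; simp at this
    exact le_trans (by norm_num) (Nat.pow_le_pow_right (by norm_num : 0 < 3) (Nat.one_le_iff_ne_zero.mpr this))
  obtain ⟨c, -, hc⟩ := Finset.exists_mem_notMem_of_card_lt_card (s := ({a, b} : Finset (Fin n))) (t := Finset.univ)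
    (lt_of_le_of_lt Finset.card_le_two (by simp; omega))
  simp only [Finset.mem_insert, Finset.mem_singleton, not_or] at hc
  have hOa : O a = {a} := by
    refine Finset.eq_singleton_iff_unique_mem.mpr ⟨hOs a, fun u hu => by_contra fun h => hbig ?_⟩
    exact (hca u a h hu).trans (Finset.card_le_card Finset.subset_union_left)
  have hOb : O b = {b} := by
    refine Finset.eq_singleton_iff_unique_mem.mpr ⟨hOs b, fun u hu => by_contra fun h => hbig ?_⟩
    exact (hca u b h hu).trans (Finset.card_le_card Finset.subset_union_right)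
  by_cases hcb : 3 ≤ (O c).card + 1
  · have k1 : 3 ≤ (O a ∪ O c).card := by
      rw [hOa, Finset.card_union_of_disjoint (Finset.disjoint_singleton_left.mpr fun h => hc.1 ?_), Finset.card_singleton]
      · omega
      · have := hOeq c a h; rw [hOa] at this
        exact Finset.mem_singleton.mp (this ▸ hOs c)
    have k2 : 3 ≤ (O c ∪ O b).card := by
      rw [hOb, Finset.card_union_of_disjoint (Finset.disjoint_singleton_right.mpr fun h => hc.2 ?_), Finset.card_singleton]
      · omega
      · have := hOeq c b h; rw [hOb] at this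
        exact Finset.mem_singleton.mp (this ▸ hOs c)
    have hcD := closed_link hD (hind _ (hUinv a c) k1 (hUne a c) a (Finset.mem_union_left _ (hOs a)) c
      (Finset.mem_union_right _ (hOs c)) (Ne.symm hc.1)) ha
    exact closed_link hD (hind _ (hUinv c b) k2 (hUne c b) c (Finset.mem_union_left _ (hOs c)) b
      (Finset.mem_union_right _ (hOs b)) hc.2) hcD
  · have hOc : O c = {c} := by
      refine Finset.eq_singleton_iff_unique_mem.mpr ⟨hOs c, fun u hu => by_contra fun h => hcb ?_⟩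
      have := hca u c h hu
      omega
    have hT : ∀ s ∈ S, ∀ t, (s t ∈ ({a, b, c} : Finset (Fin n)) ↔ t ∈ ({a, b, c} : Finset (Fin n))) := by
      intro s hs t
      have e : ({a, b, c} : Finset (Fin n)) = O a ∪ O b ∪ O c := by
        rw [hOa, hOb, hOc]; ext v; simp [or_assoc]
      rw [e]
      simp [Finset.mem_union, hOinv s hs]
    exact closed_link hD (hind _ hT (by
      rw [Finset.card_insert_of_notMem (by simp [hab, Ne.symm hc.1]), Finset.card_insert_of_notMem (by simp [Ne.symm hc.2]),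
        Finset.card_singleton]) (fun e => by
        have := congrArg Finset.card e
        rw [Finset.card_univ, Fintype.card_fin] at this
        have := (Finset.card_le_three (a := a) (b := b) (c := c))
        omega) a (by simp) b (by simp) hab) ha

/-- The three-cycles of `A₆` are preserved by automorphisms of `3`-power order. -/
theorem aut_three (hn : 5 ≤ n) (φ : MulAut ↥(alternatingGroup (Fin n))) (hφ : ∃ k, φ ^ 3 ^ k = 1)
    (x : ↥(alternatingGroup (Fin n))) (hx : IsThreeCycle (x : Perm (Fin n))) : IsThreeCycle (φ x : Perm (Fin n)) := by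
  classical
  by_cases h6 : n ≠ 6
  · exact image_isThreeCycle (by rw [Fintype.card_fin]; omega) (by rw [Fintype.card_fin]; exact h6) φ x hx
  push Not at h6
  subst h6
  let D : ↥(alternatingGroup (Fin 6)) → Prop := fun y => y ^ 3 = 1 ∧ y ≠ 1 ∧ (y : Perm (Fin 6)).support.card ≠ 3
  have hC : ∀ y : ↥(alternatingGroup (Fin 6)), IsThreeCycle (y : Perm (Fin 6)) ↔ (y : Perm (Fin 6)).support.card = 3 :=
    fun y => card_support_eq_three_iff.symm
  have ord : ∀ (ψ : MulAut ↥(alternatingGroup (Fin 6))) (y : ↥(alternatingGroup (Fin 6))), IsThreeCycle (y : Perm (Fin 6)) →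
      IsThreeCycle (ψ y : Perm (Fin 6)) ∨ D (ψ y) := by
    intro ψ y hy
    by_cases h : IsThreeCycle (ψ y : Perm (Fin 6))
    · exact Or.inl h
    refine Or.inr ⟨?_, fun e => ?_, fun e => h ((hC _).mpr e)⟩
    · rw [← map_pow, show y ^ 3 = 1 from Subtype.ext (by
        rw [Subgroup.coe_pow, ← hy.orderOf, pow_orderOf_eq_one]; rfl), map_one]
    · have := ψ.injective (e.trans (map_one ψ).symm)
      rw [this] at hy
      exact absurd ((hC 1).mp hy) (by simp)
  have hconj : ∀ (ψ : MulAut ↥(alternatingGroup (Fin 6))) (y y' : ↥(alternatingGroup (Fin 6))),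
      IsThreeCycle (y : Perm (Fin 6)) → IsThreeCycle (y' : Perm (Fin 6)) →
      (IsThreeCycle (ψ y : Perm (Fin 6)) ↔ IsThreeCycle (ψ y' : Perm (Fin 6))) := by
    intro ψ y y' hy hy'
    obtain ⟨g, hg⟩ := isConj_iff.mp (alternatingGroup.isThreeCycle_isConj (α := Fin 6) (by simp) hy hy')
    have e : (ψ y' : Perm (Fin 6)) = (ψ g : Perm (Fin 6)) * ψ y * (ψ g : Perm (Fin 6))⁻¹ := by
      rw [← hg, map_mul, map_mul, map_inv]; rfl
    show cycleType _ = {3} ↔ cycleType _ = {3}
    rw [e, cycleType_conj]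
  have hcardCD : (Finset.univ.filter fun y : ↥(alternatingGroup (Fin 6)) => (y : Perm (Fin 6)).support.card = 3).card =
      (Finset.univ.filter D).card := by
    decide +kernel
  by_contra hbad
  have hswap : ∀ y : ↥(alternatingGroup (Fin 6)), D y → IsThreeCycle (φ y : Perm (Fin 6)) := by
    intro y hy
    by_contra hny
    have hsub : ((Finset.univ.filter fun y : ↥(alternatingGroup (Fin 6)) => (y : Perm (Fin 6)).support.card = 3).image φ) ⊆
        Finset.univ.filter D := by
      intro v hv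
      obtain ⟨u, hu, rfl⟩ := Finset.mem_image.mp hv
      have hu' := (hC u).mpr (Finset.mem_filter.mp hu).2
      exact Finset.mem_filter.mpr ⟨Finset.mem_univ _, (ord φ u hu').resolve_left fun h => hbad ((hconj φ u x hu' hx).mp h)⟩
    have heq := Finset.eq_of_subset_of_card_le hsub (by rw [Finset.card_image_of_injective _ φ.injective, hcardCD])
    have hDy : D (φ y) := by
      refine ⟨by rw [← map_pow, hy.1, map_one], fun e => hy.2.1 (φ.injective (e.trans (map_one φ).symm)),
        fun e => hny ((hC _).mpr e)⟩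
    have : φ y ∈ Finset.univ.filter D := Finset.mem_filter.mpr ⟨Finset.mem_univ _, hDy⟩
    rw [← heq, Finset.mem_image] at this
    obtain ⟨u, hu, e⟩ := this
    rw [φ.injective e] at hu
    exact hy.2.2 (Finset.mem_filter.mp hu).2
  have key : ∀ m : ℕ, if Even m then IsThreeCycle ((φ ^ m) x : Perm (Fin 6)) else D ((φ ^ m) x) := by
    intro m
    induction m with
    | zero => simpa using hx
    | succ m ih =>
      rw [pow_succ', MulAut.mul_apply]
      by_cases hm : Even m
      · rw [if_pos hm] at ih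
        rw [if_neg (Nat.even_add_one.not.mpr (not_not.mpr hm))]
        exact (ord φ _ ih).resolve_left fun h => hbad ((hconj φ _ x ih hx).mp h)
      · rw [if_neg hm] at ih
        rw [if_pos (Nat.even_add_one.mpr hm)]
        exact hswap _ ih
  obtain ⟨k, hk⟩ := hφ
  have := key (3 ^ k)
  rw [if_neg (Nat.not_even_iff_odd.mpr ((by decide : Odd 3).pow)), hk] at this
  exact this.2.2 ((hC x).mp hx)

/-- Let X be a finite 3-minimal group (a Sylow 3-subgroup is not normal and lies in a unique maximal subgroup) whose generalized Fitting subgroup is isomorphic to an alternating group of degree n ≥ 5. Then X = F*(X), and n = 6, n = 9, or n = 3ᵃ + 1 for some a ≥ 2. -/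
theorem result {X : Type*} [Group X] [Finite X] (hX : Cfsg.IsPMinimal 3 X) (n : ℕ) (hn : 5 ≤ n) (hF : Nonempty (↥(Cfsg.generalizedFittingSubgroup X) ≃* ↥(alternatingGroup (Fin n)))) : Cfsg.generalizedFittingSubgroup X = ⊤ ∧ (n = 6 ∨ n = 9 ∨ ∃ a : ℕ, 2 ≤ a ∧ n = 3 ^ a + 1) := by
  haveI : Fact (Nat.Prime 3) := ⟨Nat.prime_three⟩
  obtain ⟨e⟩ := hF
  set E := Cfsg.generalizedFittingSubgroup X with hE
  have hA : IsSimpleGroup ↥(alternatingGroup (Fin n)) := alternatingGroup.isSimpleGroup (by simpa using hn)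
  have hcenA : Subgroup.center ↥(alternatingGroup (Fin n)) = ⊥ := alternatingGroup.center_eq_bot (by simp; omega)
  obtain ⟨P⟩ := (inferInstance : Nonempty (Sylow 3 X))
  obtain ⟨hPn, M, ⟨hMc, hPM⟩, hMu⟩ := hX P
  have hover : ∀ F : Subgroup X, (P : Subgroup X) ≤ F → F ≠ ⊤ → F ≤ M := by
    intro F hPF hF'
    obtain ⟨C, hC, hFC⟩ := (eq_top_or_exists_le_coatom F).resolve_left hF'
    exact (hMu C ⟨hC, hPF.trans hFC⟩) ▸ hFC
  -- the Sylow lies in `E`
  have hPE : (P : Subgroup X) ≤ E := by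
    intro s hs
    let ψ : X →* MulAut ↥(alternatingGroup (Fin n)) := (MulAut.congr e).toMonoidHom.comp (MulAut.conjNormal (H := E))
    obtain ⟨k, hk⟩ := P.2 ⟨s, hs⟩
    have hk' : ψ s ^ 3 ^ k = 1 := by rw [← map_pow, show s ^ 3 ^ k = 1 from congrArg Subtype.val hk, map_one]
    obtain ⟨σ, hσ⟩ := AutAltGen.exists_conjNormal n (by omega) (ψ s) (aut_three hn (ψ s) ⟨k, hk'⟩)
    have hσA : σ ∈ alternatingGroup (Fin n) := by
      have h1 : σ ^ 3 ^ k = 1 := by
        apply AutAltGen.conjNormal_injective n (by omega)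
        rw [map_pow, hσ, hk', map_one]
      rw [Equiv.Perm.mem_alternatingGroup]
      have h2 : Equiv.Perm.sign σ ^ 3 ^ k = 1 := by rw [← map_pow, h1, map_one]
      rcases Int.units_eq_one_or (Equiv.Perm.sign σ) with h | h
      · exact h
      · rw [h, ((by decide : Odd 3).pow).neg_one_pow] at h2
        exact absurd h2 (by decide)
    obtain ⟨t, ht⟩ := e.surjective ⟨σ, hσA⟩
    have hst : ∀ u ∈ E, u * ((t : X)⁻¹ * s) = (t : X)⁻¹ * s * u := by
      intro u hu
      have h3 : ψ s (e ⟨u, hu⟩) = e (t * ⟨u, hu⟩ * t⁻¹) := by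
        rw [← hσ, map_mul, map_mul, map_inv, ht]
        exact Subtype.ext (MulAut.conjNormal_apply _ _)
      simp only [ψ, MonoidHom.comp_apply, MulEquiv.coe_toMonoidHom, MulAut.congr_apply, MulEquiv.trans_apply,
        MulEquiv.symm_apply_apply] at h3
      have h4 := congrArg Subtype.val (e.injective h3)
      rw [MulAut.conjNormal_apply, Subgroup.coe_mul, Subgroup.coe_mul, Subgroup.coe_inv] at h4
      change s * u * s⁻¹ = (t : X) * u * (t : X)⁻¹ at h4
      have h5 := congrArg (fun w => (t : X)⁻¹ * w * s) h4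
      simp only [mul_assoc, inv_mul_cancel, mul_one, inv_mul_cancel_left] at h5
      simp only [mul_assoc]
      exact h5.symm
    have h6 : (t : X)⁻¹ * s ∈ E :=
      CfsgLib.centralizer_generalizedFitting_le (Subgroup.mem_centralizer_iff.mpr hst)
    simpa using E.mul_mem t.2 h6
  have hEtop : E = ⊤ := by
    by_contra hne
    have hEM : E ≤ M := hover E hPE hne
    haveI : E.Normal := inferInstance
    have hN : Subgroup.normalizer ((P : Subgroup X) : Set X) ≤ M := hover _ Subgroup.le_normalizer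
      (fun h => hPn (Subgroup.normalizer_eq_top_iff.mp h))
    apply hMc.1
    rw [eq_top_iff, ← Sylow.normalizer_sup_eq_top (P.subtype hPE)]
    refine sup_le ?_ hEM
    rw [Sylow.coe_subtype, Subgroup.map_subgroupOf_eq_of_le hPE]
    exact hN
  refine ⟨hEtop, ?_⟩
  let e' : X ≃* ↥(alternatingGroup (Fin n)) := ((MulEquiv.subgroupCongr hEtop).trans Subgroup.topEquiv).symm.trans e
  let j : X →* Equiv.Perm (Fin n) := (alternatingGroup (Fin n)).subtype.comp e'.toMonoidHom
  have hj : Function.Injective j := Subtype.val_injective.comp e'.injective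
  refine combinatorics (S := (P : Subgroup X).map j) (M := M.map j) hn (P.2.map j)
    (fun _ ⟨x, _, hx⟩ => hx ▸ (e' x).2) (fun h => hMc.1 ?_) (fun F hSF hFA hFne => ?_)
  · refine (Subgroup.eq_top_iff' _).mpr fun x => ?_
    obtain ⟨m, hm, hmx⟩ := h (e' x).2
    rwa [hj (hmx : j m = j x)] at hm
  · have hFM : F.comap j ≤ M := by
      refine hover _ (fun x hx => hSF ⟨x, hx, rfl⟩) fun h => hFne (le_antisymm hFA fun a ha => ?_)
      have : e'.symm ⟨a, ha⟩ ∈ F.comap j := h ▸ Subgroup.mem_top _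
      simpa [j] using this
    intro a ha
    exact ⟨e'.symm ⟨a, hFA ha⟩, hFM (by simpa [j] using ha), by simp [j]⟩

end Cfsg.Agent.S2930
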