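import Cfsg.Statements.S2932
import Cfsg.Agent.Lib.SpeFF.Main
import Cfsg.Agent.Lib.SL2Max.Four

set_option autoImplicit false
set_option maxHeartbeats 1000000
set_option linter.unusedVariables false
set_option linter.style.haveILetI false
open Cfsg CfsgLib CfsgLib.Local CfsgLib.SpeFF CfsgLib.SL2Max
open CfsgLib.SL2Pair (up lo)

namespace Cfsg.Agent.S2932

/-- Let p be a prime. Inside a finite ambient group let V be an elementary abelian p-subgroup and G a subgroup normalizing V and acting faithfully on it (G ∩ C(V) = 1), and let L ≤ G act on V as SL₂(F) on its natural module, F a finite field of characteristic p, with L ≅ SL₂(F). If every Sylow p-subgroup of N_G(L) is a Sylow p-subgroup of G, then either L is normal in G, or F has 4 elements and G is isomorphic to the alternating group of degree 7. -/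
theorem result {X : Type*} [Group X] [Finite X] {p : ℕ} [Fact p.Prime] (F : Type) [Field F] [Fintype F] [CharP F p] (V G L : Subgroup X) (hV : Cfsg.IsElementaryAbelian p V) (hGV : G ≤ Subgroup.normalizer (V : Set X)) (hfaith : G ⊓ Subgroup.centralizer (V : Set X) = ⊥) (hLG : L ≤ G) (hnat : Cfsg.IsNaturalSL2Module F V L) (hLiso : Nonempty (↥L ≃* Matrix.SpecialLinearGroup (Fin 2) F)) (hSyl : ∀ S : Sylow p ↥(G ⊓ Subgroup.normalizer (L : Set X)), ∀ P : Sylow p ↥G, Nat.card S = Nat.card P) : (L.subgroupOf G).Normal ∨ (Fintype.card F = 4 ∧ Nonempty (↥G ≃* ↥(alternatingGroup (Fin 7)))) := by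
  classical
  obtain ⟨hLV, ρ₀, ψ, hρs, hρk, hψ⟩ := hnat
  have hGn : ∀ g ∈ G, ∀ v ∈ V, g * v * g⁻¹ ∈ V := fun g hg v hv =>
    (Subgroup.mem_normalizer_iff.mp (hGV hg) v).mp hv
  have hfaith' : ∀ g ∈ G, (∀ v ∈ V, g * v * g⁻¹ = v) → g = 1 := fun g hg h =>
    Subgroup.mem_bot.mp (hfaith ▸ Subgroup.mem_inf.mpr ⟨hg, Subgroup.mem_centralizer_iff.mpr fun v hv =>
      (mul_inv_eq_iff_eq_mul.mp (h v hv)).symm⟩)
  -- the action in coordinates
  let u : (Fin 2 → F) → ↥V := fun w => Additive.toMul (ψ.symm w)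
  let ac : ↥G → (Fin 2 → F) → (Fin 2 → F) := fun g w =>
    ψ (Additive.ofMul ⟨(g : X) * u w * (g : X)⁻¹, hGn g g.2 _ (u w).2⟩)
  have hu : ∀ g w, (u (ac g w) : X) = (g : X) * u w * (g : X)⁻¹ := fun g w => by
    simp only [u, ac, AddEquiv.symm_apply_apply, toMul_ofMul]
  have huinj : ∀ a b, (u a : X) = u b → a = b := fun a b h =>
    ψ.symm.injective (Additive.toMul.injective (Subtype.ext h))
  have hac1 : ∀ w, ac 1 w = w := fun w => huinj _ _ (by rw [hu]; simp)
  have hacm : ∀ g h w, ac (g * h) w = ac g (ac h w) := fun g h w => huinj _ _ (by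
    rw [hu, hu, hu, Subgroup.coe_mul]; group)
  have huadd : ∀ a b, (u (a + b) : X) = u a * u b := fun a b => by
    simp only [u, map_add]; rfl
  let φ : ↥G →* Equiv.Perm (Fin 2 → F) :=
    { toFun := fun g => ⟨ac g, ac g⁻¹, fun w => by rw [← hacm, inv_mul_cancel, hac1],
        fun w => by rw [← hacm, mul_inv_cancel, hac1]⟩
      map_one' := Equiv.ext hac1
      map_mul' := fun g h => Equiv.ext (hacm g h) }
  have hφinj : Function.Injective φ := (injective_iff_map_eq_one φ).mpr fun g hg => Subtype.ext (hfaith' g g.2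
    fun v hv => by
      have h1 : ac g (ψ (Additive.ofMul ⟨v, hv⟩)) = ψ (Additive.ofMul ⟨v, hv⟩) := Equiv.ext_iff.mp hg _
      have h2 := hu g (ψ (Additive.ofMul ⟨v, hv⟩))
      rw [h1] at h2
      simpa [u] using h2.symm)
  have hρi : Function.Injective ρ₀ := (injective_iff_map_eq_one ρ₀).mpr fun l hl => by
    have := hρk ▸ MonoidHom.mem_ker.mpr hl
    exact Subtype.ext (hfaith' l (hLG l.2) fun v hv => by
      rw [← Subgroup.mem_centralizer_iff.mp (Subgroup.mem_subgroupOf.mp this) v hv, mul_inv_cancel_right])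
  let A : Nat2 ↥G F :=
    { φ := φ
      add := fun g a b => huinj _ _ (by
        show (u (ac g (a + b)) : X) = u (ac g a + ac g b)
        rw [hu, huadd, huadd, hu, hu]; group)
      inj := hφinj
      L := L.subgroupOf G
      ρ := (Subgroup.subgroupOfEquivOfLe hLG).trans (MulEquiv.ofBijective ρ₀ ⟨hρi, hρs⟩)
      act := fun l w => by
        obtain ⟨w', hw', e⟩ := hψ ⟨((l : ↥G) : X), l.2⟩ (u w)
        show ac (l : ↥G) w = (ρ₀ ⟨((l : ↥G) : X), l.2⟩).1.mulVec w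
        rw [show Additive.ofMul (u w) = ψ.symm w from rfl, AddEquiv.apply_symm_apply] at e
        rw [← e]
        exact congrArg ψ (congrArg Additive.ofMul (Subtype.ext hw'.symm)) }
  have hu' : ∀ (g : ↥G) w, (u (A.φ g w) : X) = (g : X) * u w * (g : X)⁻¹ := hu
  have memL : ∀ g : ↥G, g ∈ A.L ↔ (g : X) ∈ L := fun g => Subgroup.mem_subgroupOf
  have hu1 : ∀ v ∈ V, ∃ w, (u w : X) = v := fun v hv => ⟨ψ (Additive.ofMul ⟨v, hv⟩), by simp [u]⟩
  have hAL : A.L = L.subgroupOf G := rfl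
  clear_value A u
  clear hu
  have hnormL : ∀ g : ↥G, (g : X) ∈ Subgroup.normalizer (L : Set X) → g ∈ Subgroup.normalizer (A.L : Set ↥G) := fun g hg => by
    rw [Subgroup.mem_normalizer_iff] at hg ⊢
    exact fun h => by rw [memL, memL]; exact hg h
  have hnormal : ∀ (_ : ∀ g : ↥G, ∀ l ∈ A.L, g * l * g⁻¹ ∈ A.L), (L.subgroupOf G).Normal :=
    fun h => hAL ▸ ⟨fun l hl g => h g l hl⟩
  -- a Sylow subgroup inside the normalizer
  set Nn := G ⊓ Subgroup.normalizer (L : Set X)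
  set T₀ : Subgroup X := (A.K ⊓ A.L).map G.subtype
  have hT₀ : T₀ ≤ Nn := by
    rintro _ ⟨g, hg, rfl⟩
    exact ⟨g.2, Subgroup.le_normalizer ((memL g).mp hg.2)⟩
  have hT₀p : IsPGroup p ↥(T₀.subgroupOf Nn) :=
    (((A.K_pGroup (p := p)).to_le inf_le_left : IsPGroup p ↥(A.K ⊓ A.L)).map _).comap_subtype
  obtain ⟨S, hS⟩ := hT₀p.exists_le_sylow
  set S₁ := (S : Subgroup ↥Nn).map Nn.subtype
  have hS₁G : S₁ ≤ G := (Subgroup.map_subtype_le _).trans inf_le_left
  set S₀ := S₁.subgroupOf G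
  have hS₀p : IsPGroup p S₀ := (S.2.map Nn.subtype).comap_subtype
  have hsyl : A.Syl p S₀ := by
    refine ⟨hS₀p, fun g hg => hnormL g (Subgroup.map_subtype_le _ hg).2, fun g hg => ?_, fun P hP => ?_⟩
    · exact ⟨⟨g, hT₀ ⟨g, hg, rfl⟩⟩, hS ⟨g, hg, rfl⟩, rfl⟩
    · obtain ⟨Q, hQ⟩ := hP.exists_le_sylow
      obtain ⟨R, hR⟩ := hS₀p.exists_le_sylow
      have hRS : S₀ = (R : Subgroup ↥G) := Subgroup.eq_of_le_of_card_ge hR (by
        rw [Nat.card_congr (Subgroup.subgroupOfEquivOfLe hS₁G).toEquiv,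
          Subgroup.card_map_of_injective Nn.subtype_injective, hSyl S R])
      obtain ⟨γ, rfl⟩ := MulAction.exists_smul_eq ↥G R Q
      refine ⟨γ, fun x hx => ?_⟩
      have := hQ hx
      rw [Sylow.coe_subgroup_smul] at this
      obtain ⟨r, hr, rfl⟩ := this
      rw [hRS]
      have e : γ⁻¹ * (γ * r * γ⁻¹) * γ = r := by group
      exact e.symm ▸ hr
  by_cases hfused : ∃ g k : ↥G, k ∈ A.K ∧ k ≠ 1 ∧ g * k * g⁻¹ ∈ Subgroup.normalizer (A.K : Set ↥G) ∧
      g ∉ Subgroup.normalizer (A.K : Set ↥G)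
  · obtain ⟨g, k, hk, hk1, hx, hg⟩ := hfused
    obtain ⟨rfl, h4⟩ := hsyl.fused hk hk1 hx hg
    exact (hsyl.four h4).imp (fun h => hAL ▸ h) fun h => ⟨h4, h⟩
  push Not at hfused
  refine Or.inl (hnormal ?_)
  -- the spread
  set AX := A.K.map G.subtype
  set MX := (Subgroup.normalizer (A.K : Set ↥G)).map G.subtype
  have memAX : ∀ k : ↥G, (k : X) ∈ AX ↔ k ∈ A.K := fun k => Subgroup.mem_map_iff_mem G.subtype_injective
  have memMX : ∀ k : ↥G, (k : X) ∈ MX ↔ k ∈ Subgroup.normalizer (A.K : Set ↥G) := fun k =>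
    Subgroup.mem_map_iff_mem G.subtype_injective
  have hVc : ∀ v ∈ V, ∀ w ∈ V, v * w = w * v := fun v hv w hw =>
    congrArg Subtype.val (hV.1.is_comm.comm ⟨v, hv⟩ ⟨w, hw⟩)
  have hlo : A.el (lo 1) ∉ Subgroup.normalizer (A.K : Set ↥G) := fun h => by
    have := A.line_of_normalizes h 1
    rw [A.el_act, lo_mulVec] at this
    simp at this
  have hAne : AX ≠ ⊥ := fun e => by
    have := (memAX _).mpr (A.up_mem_K (1 : F))
    rw [e, Subgroup.mem_bot] at this
    have h1 := congrArg (fun g : ↥G => A.φ g ![0, 1] 0) (Subtype.ext this : A.el (up 1) = 1)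
    simp only [A.el_act, up_mulVec, map_one] at h1
    simp at h1
  have hbig : Nat.card V ≤ Nat.card AX * Nat.card (cv V AX) := by
    have h1 : Fintype.card F ≤ Nat.card AX := A.card_le_K.trans ((Subgroup.card_le_of_le inf_le_left).trans
      (Subgroup.card_map_of_injective G.subtype_injective).ge)
    have h2 : Fintype.card F ≤ Nat.card (cv V AX) := by
      rw [← Nat.card_eq_fintype_card]
      refine Nat.card_le_card_of_injective (fun c => (⟨u ![c, 0], mem_cv (u _).2 ?_⟩ : ↥(cv V AX))) fun a b e => ?_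
      · rintro _ ⟨k, hk, rfl⟩
        show (k : X) * u ![c, 0] * (k : X)⁻¹ = u ![c, 0]
        rw [← hu', hk.1 c]
      · have := congrFun (huinj _ _ (congrArg (fun z : ↥(cv V AX) => (z : X)) e)) 0
        simpa using this
    refine le_trans (le_of_eq ?_) (Nat.mul_le_mul h1 h2)
    rw [show Nat.card V = Nat.card (Fin 2 → F) from
      (Nat.card_congr Additive.ofMul).trans (Nat.card_congr ψ.toEquiv), Nat.card_fun, Nat.card_fin,
      Nat.card_eq_fintype_card, pow_two]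
  have s : Setup p V G MX AX := by
    refine ⟨hVc, hGn, hfaith', Subgroup.map_subtype_le _, Subgroup.map_mono Subgroup.le_normalizer,
      (A.K_pGroup (p := p)).map _, ?_, hAne, ?_, hbig, ?_⟩
    · rintro _ ⟨a, ha, rfl⟩ _ ⟨b, hb, rfl⟩
      rw [← map_mul, ← map_mul, A.K_comm ha hb]
    · rintro g hg _ ⟨a, ha, rfl⟩ ha1 hm
      exact (memMX ⟨g, hg⟩).mpr (hfused ⟨g, hg⟩ a ha (fun e => ha1 (by rw [e, map_one]))
        ((memMX (⟨g, hg⟩ * a * (⟨g, hg⟩ : ↥G)⁻¹)).mp hm))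
    · rintro v hv _ ⟨b, hb, rfl⟩ _ ⟨c, hc, rfl⟩
      obtain ⟨w, rfl⟩ := hu1 v hv
      show (c : X) * ((b : X) * u w * (b : X)⁻¹ * (u w : X)⁻¹) * (c : X)⁻¹ = (b : X) * u w * (b : X)⁻¹ * (u w : X)⁻¹
      have e : ((b : X) * u w * (b : X)⁻¹ * (u w : X)⁻¹) = u (A.φ b w - w) := by
        rw [← hu']
        refine mul_inv_eq_of_eq_mul ?_
        rw [← huadd, sub_add_cancel]
      rw [e, ← hu']
      refine congrArg (fun z => (u z : X)) ?_
      rw [show A.φ b w - w = ![(A.φ b w - w) 0, 0] from line_eq (by simp [hb.2 w])]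
      exact hc.1 _
  obtain ⟨L', hL', hL'L⟩ := exists_min (H := G) (M := MX) (A := AX) (K := L) hLG
    (by rintro _ ⟨k, hk, rfl⟩; exact (memL k).mp (hsyl.K_le hk))
    (fun h => hlo ((memMX _).mp (h ((memL _).mp (A.el_mem (lo 1))))))
  obtain ⟨h, hh, hhM⟩ := SetLike.not_le_iff_exists.mp hL'.not
  have hdec : ∀ y : ↥G, ∃ l ∈ A.L, ∃ m ∈ Subgroup.normalizer (A.K : Set ↥G), y = l * m := by
    intro y
    by_cases hy : y ∈ Subgroup.normalizer (A.K : Set ↥G)
    · exact ⟨1, one_mem _, y, hy, (one_mul y).symm⟩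
    obtain ⟨a, ha, hm⟩ := s.cosets hL' hh hhM y.2 (fun hyM => hy ((memMX y).mp hyM))
    have hah : a * h ∈ L := L.mul_mem (hL'L (hL'.le ha)) (hL'L hh)
    exact ⟨⟨a * h, hLG hah⟩, (memL _).mpr hah, (⟨a * h, hLG hah⟩ : ↥G)⁻¹ * y, (memMX _).mp hm, by group⟩
  have hconjK : ∀ y : ↥G, ∀ k ∈ A.K, y * k * y⁻¹ ∈ A.L := by
    intro y k hk
    obtain ⟨l, hl, m, hm, rfl⟩ := hdec y
    rw [show l * m * k * (l * m)⁻¹ = l * (m * k * m⁻¹) * l⁻¹ by group]
    exact A.L.mul_mem (A.L.mul_mem hl (hsyl.K_le ((Subgroup.mem_normalizer_iff.mp hm k).mp hk))) (A.L.inv_mem hl)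
  -- generation by two root groups
  intro g l hl
  obtain ⟨M, rfl⟩ := A.exists_el hl
  let P : Subgroup (Matrix.SpecialLinearGroup (Fin 2) F) :=
    (A.L.comap ((MulAut.conj g).toMonoidHom.comp (A.L.subtype.comp A.ρ.symm.toMonoidHom)))
  have hP : P = ⊤ := by
    refine SL2Pair.eq_top_of_up_lo P (fun a => hconjK g _ (A.up_mem_K a)) fun a => ?_
    let w₀ : Matrix.SpecialLinearGroup (Fin 2) F := ⟨!![0, 1; -1, 0], by simp [Matrix.det_fin_two]⟩
    have e : A.el w₀ * A.el (up (-a)) * (A.el w₀)⁻¹ = A.el (lo a) := by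
      refine mul_inv_eq_of_eq_mul (A.ext fun w => ?_)
      rw [A.mul_apply, A.mul_apply, A.el_act, A.el_act, A.el_act, A.el_act, up_mulVec, lo_mulVec]
      funext i
      fin_cases i <;> simp [w₀, Matrix.mulVec, dotProduct, Fin.sum_univ_two] <;> ring
    show g * A.el (lo a) * g⁻¹ ∈ A.L
    rw [← e, show g * (A.el w₀ * A.el (up (-a)) * (A.el w₀)⁻¹) * g⁻¹ =
      g * A.el w₀ * A.el (up (-a)) * (g * A.el w₀)⁻¹ by group]
    exact hconjK _ _ (A.up_mem_K _)
  exact (hP ▸ Subgroup.mem_top M : M ∈ P)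

end Cfsg.Agent.S2932
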