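import Cfsg.Statements.S2933
import Cfsg.Agent.Lib.FpfTwo.Main
import Cfsg.Agent.Lib.SuzukiTwo.RankTwo
import Cfsg.Agent.Lib.SuzukiTwo.RankTwoAbelian
import Cfsg.Agent.Lib.SuzukiTwo.SixtyFourIso
import Cfsg.Agent.Lib.SuzukiTwo.UnitarySixty
import Mathlib.FieldTheory.Finite.GaloisField
-- import your own Cfsg.Agent.* helpers here

set_option autoImplicit false
open Cfsg

namespace Cfsg.Agent.S2933

/-- Let T be a 2-subgroup of a finite group G, V ≤ Z(T) a four-group, and t, ρ ∈ N_G(V) ∩ N_G(T) elements of order 2 and 3 with t commuting with ρ and with V. If [V, ρ] = V and C_T(t) = V, then T is elementary abelian of order 16, or homocyclic of rank 2 (ℤ/2ⁿ × ℤ/2ⁿ for some n ≥ 1), or isomorphic to a Sylow 2-subgroup of PSL₃(4) or of PSU₃(4). -/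
theorem result {G : Type*} [Group G] [Finite G] (T V : Subgroup G) (hT : IsPGroup 2 ↥T) (hVT : V ≤ T ⊓ Subgroup.centralizer (T : Set G)) (hV : Nat.card ↥V = 4 ∧ ∀ v ∈ V, v ^ 2 = 1) (t ρ : G) (ht : orderOf t = 2) (hρ : orderOf ρ = 3) (htn : t ∈ Subgroup.normalizer (V : Set G) ⊓ Subgroup.normalizer (T : Set G)) (hρn : ρ ∈ Subgroup.normalizer (V : Set G) ⊓ Subgroup.normalizer (T : Set G)) (htρ : t * ρ = ρ * t) (htV : t ∈ Subgroup.centralizer (V : Set G)) (hVρ : ⁅V, Subgroup.zpowers ρ⁆ = V) (hCt : T ⊓ Subgroup.centralizer ({t} : Set G) = V) : (Nat.card ↥T = 16 ∧ ∀ x ∈ T, x ^ 2 = 1) ∨ (∃ n : ℕ, 1 ≤ n ∧ Nonempty (↥T ≃* Multiplicative (ZMod (2 ^ n)) × Multiplicative (ZMod (2 ^ n)))) ∨ (∃ (F : Type) (_ : Field F) (_ : Fintype F), Fintype.card F = 4 ∧ ∀ P : Sylow 2 (Matrix.ProjectiveSpecialLinearGroup (Fin 3) F), Nonempty (↥T ≃* ↥(P : Subgroup (Matrix.ProjectiveSpecialLinearGroup (Fin 3) F)))) ∨ (∃ (F : Type) (_ : Field F) (_ : Fintype F), Fintype.card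 F = 16 ∧ ∀ P : Sylow 2 (Cfsg.PSU 3 F 4), Nonempty (↥T ≃* ↥(P : Subgroup (Cfsg.PSU 3 F 4)))) := by
  classical
  haveI : Fact (Nat.Prime 2) := ⟨Nat.prime_two⟩
  obtain ⟨hVT', hVC⟩ := le_inf_iff.mp hVT
  let act : ∀ g : G, g ∈ Subgroup.normalizer (T : Set G) → MulAut T := fun g hg =>
    { toFun := fun x => ⟨g * x * g⁻¹, (Subgroup.mem_normalizer_iff.mp hg x).mp x.2⟩
      invFun := fun x => ⟨g⁻¹ * x * g, by
        have h := (Subgroup.mem_normalizer_iff.mp (inv_mem hg) x).mp x.2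
        rwa [inv_inv] at h⟩
      left_inv := fun x => Subtype.ext (by simp [mul_assoc])
      right_inv := fun x => Subtype.ext (by simp [mul_assoc])
      map_mul' := fun x y => Subtype.ext (by simp [mul_assoc]) }
  let τ := act t htn.2
  let r := act ρ hρn.2
  have hτ : ∀ x : T, ((τ x : T) : G) = t * x * t⁻¹ := fun x => rfl
  have hr : ∀ x : T, ((r x : T) : G) = ρ * x * ρ⁻¹ := fun x => rfl
  have ht2 : t * t = 1 := by rw [← pow_two, ← ht, pow_orderOf_eq_one]
  have hρ3 : ρ * ρ * ρ = 1 := by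
    rw [← pow_two, ← pow_succ, show 2 + 1 = orderOf ρ by omega, pow_orderOf_eq_one]
  have hfix : ∀ x : T, τ x = x ↔ x ∈ V.subgroupOf T := by
    intro x
    rw [Subtype.ext_iff, hτ, Subgroup.mem_subgroupOf, ← hCt, Subgroup.mem_inf,
      Subgroup.mem_centralizer_singleton_iff]
    constructor
    · intro h
      exact ⟨x.2, (mul_inv_eq_iff_eq_mul.mp h).symm⟩
    · intro h
      rw [mul_inv_eq_iff_eq_mul, h.2]
  have hcentral : V.subgroupOf T ≤ Subgroup.center T := fun v hv =>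
    Subgroup.mem_center_iff.mpr fun g => Subtype.ext (Subgroup.mem_centralizer_iff.mp (hVC hv) g g.2)
  have hrfix : ∀ v ∈ V.subgroupOf T, r v = v → v = 1 := by
    intro v hv hfx
    by_contra hne
    have hvρ : ρ * (v : G) * ρ⁻¹ = v := by rw [← hr, hfx]
    have hv1 : (v : G) ≠ 1 := fun h => hne (Subtype.ext h)
    have hvV : (v : G) ∈ V := hv
    have hVn : ∀ a ∈ V, ρ * a * ρ⁻¹ ∈ V := fun a ha => (Subgroup.mem_normalizer_iff.mp hρn.1 a).mp ha
    have hfour : ∀ a ∈ V, a ≠ 1 → a ≠ v → ∀ b ∈ V, b = 1 ∨ b = v ∨ b = a ∨ b = a * v := by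
      intro a ha ha1 hav b hb
      have hsub : ({1, (v : G), a, a * v} : Set G) ⊆ (V : Set G) := by
        intro x hx
        simp only [Set.mem_insert_iff, Set.mem_singleton_iff] at hx
        rcases hx with rfl | rfl | rfl | rfl
        exacts [V.one_mem, hvV, ha, V.mul_mem ha hvV]
      have hne' : a * v ≠ 1 := fun h => hav (by
        rw [eq_inv_of_mul_eq_one_left h]
        exact inv_eq_of_mul_eq_one_right (by rw [← pow_two]; exact hV.2 _ hvV))
      have hc : ({1, (v : G), a, a * v} : Set G).ncard = 4 := by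
        rw [Set.ncard_insert_of_notMem, Set.ncard_insert_of_notMem, Set.ncard_insert_of_notMem,
          Set.ncard_singleton] <;>
          simp [Ne.symm hv1, Ne.symm ha1, Ne.symm hne', Ne.symm hav, hv1, ha1]
      have heq := Set.eq_of_subset_of_ncard_le hsub (le_of_eq (by
        rw [hc, ← Nat.card_coe_set_eq]; exact hV.1)) (Set.toFinite _)
      have : b ∈ ({1, (v : G), a, a * v} : Set G) := by rw [heq]; exact hb
      simpa using this
    have hall : ∀ a ∈ V, ρ * a * ρ⁻¹ = a := by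
      intro a ha
      rcases eq_or_ne a 1 with rfl | ha1
      · group
      rcases eq_or_ne a v with rfl | hav
      · exact hvρ
      rcases hfour a ha ha1 hav _ (hVn a ha) with h | h | h | h
      · exact absurd (conj_eq_one_iff.mp h) ha1
      · exact absurd (mul_left_cancel (mul_right_cancel (h.trans hvρ.symm))) hav
      · exact h
      · exfalso
        have h2 : ρ * (ρ * a * ρ⁻¹) * ρ⁻¹ = a := by
          rw [h, show ρ * (a * v) * ρ⁻¹ = (ρ * a * ρ⁻¹) * (ρ * v * ρ⁻¹) by group, h, hvρ, mul_assoc,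
            show (v : G) * v = 1 by rw [← pow_two]; exact hV.2 _ hvV, mul_one]
        have h3 : ρ * (ρ * (ρ * a * ρ⁻¹) * ρ⁻¹) * ρ⁻¹ = a := by
          rw [show ρ * (ρ * (ρ * a * ρ⁻¹) * ρ⁻¹) * ρ⁻¹ = (ρ * ρ * ρ) * a * (ρ * ρ * ρ)⁻¹ by group, hρ3]
          group
        rw [h2, h] at h3
        exact hv1 (mul_eq_left.mp h3)
    have hbot : ⁅V, Subgroup.zpowers ρ⁆ = ⊥ := by
      rw [Subgroup.commutator_eq_bot_iff_le_centralizer]
      intro a ha
      rw [Subgroup.mem_centralizer_iff]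
      intro z hz
      obtain ⟨k, rfl⟩ := hz
      exact (Commute.zpow_left (show Commute ρ a from mul_inv_eq_iff_eq_mul.mp (hall a ha)) k).eq
    have h4 := hV.1
    rw [← hVρ, hbot, Subgroup.card_bot] at h4
    omega
  have hcardV : Nat.card (V.subgroupOf T) = 4 :=
    (Nat.card_congr (Subgroup.subgroupOfEquivOfLe hVT').toEquiv).trans hV.1
  have D : CfsgLib.FpfTwo.Data T (V.subgroupOf T) τ r :=
    { pgroup := hT
      central := hcentral
      cardV := hcardV
      sqV := fun v hv => Subtype.ext (by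
        show (v : G) * v = 1
        rw [← pow_two]; exact hV.2 _ hv)
      t2 := fun x => Subtype.ext (by
        rw [hτ, hτ, show t * (t * (x : G) * t⁻¹) * t⁻¹ = (t * t) * x * (t * t)⁻¹ by group, ht2]
        group)
      r3 := fun x => Subtype.ext (by
        rw [hr, hr, hr, show ρ * (ρ * (ρ * (x : G) * ρ⁻¹) * ρ⁻¹) * ρ⁻¹ = (ρ * ρ * ρ) * x * (ρ * ρ * ρ)⁻¹ by group, hρ3]
        group)
      comm := fun x => Subtype.ext (by
        rw [hτ, hr, hr, hτ, show t * (ρ * (x : G) * ρ⁻¹) * t⁻¹ = (t * ρ) * x * (t * ρ)⁻¹ by group, htρ]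
        group)
      fix := hfix
      rfix := hrfix }
  obtain ⟨F, iF, iFt, hF, hchar⟩ : ∃ (F : Type) (_ : Field F) (_ : Fintype F), Fintype.card F = 4 ∧ CharP F 2 := by
    haveI := Fintype.ofFinite (GaloisField 2 2)
    refine ⟨GaloisField 2 2, inferInstance, inferInstance, ?_, inferInstance⟩
    rw [← Nat.card_eq_fintype_card, GaloisField.card 2 2 two_ne_zero]; norm_num
  by_cases hout : ∃ e : T, e * e = 1 ∧ e ∉ V.subgroupOf T
  · obtain ⟨e, he, heV⟩ := hout
    by_cases hd : (open scoped commutatorElement in ⁅e, τ e⁆) = 1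
    · obtain ⟨hc, hsq⟩ := D.elementary hF he heV hd
      exact Or.inl ⟨hc, fun x hx => by rw [pow_two]; exact congrArg Subtype.val (hsq ⟨x, hx⟩)⟩
    · refine Or.inr (Or.inr (Or.inl ⟨F, iF, iFt, hF, fun P => ?_⟩))
      obtain ⟨e1⟩ := D.heisenberg hF he hd
      let U := CfsgLib.PSLn.upperSylow (F := F) (n := 3) 2
      exact ⟨e1.symm.trans ((MonoidHom.ofInjective (CfsgLib.PSLn.upperHom_injective (F := F) (n := 3))).trans
        ((MulEquiv.subgroupCongr (CfsgLib.PSLn.coe_upperSylow (F := F) (n := 3) 2).symm).trans (U.equiv P)))⟩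
  · push Not at hout
    have hsqV : ∀ x : T, x * x = 1 ↔ x ∈ V.subgroupOf T := fun x => ⟨hout x, D.sqV x⟩
    have hfour : Nat.card {x : T // x * x = 1} = 4 :=
      (Nat.card_congr (Equiv.subtypeEquivRight hsqV)).trans hcardV
    obtain ⟨⟨v, hv⟩, hv1⟩ : ∃ v : V.subgroupOf T, v ≠ 1 := by
      haveI : Nontrivial (V.subgroupOf T) := Finite.one_lt_card_iff_nontrivial.mp (by omega)
      exact exists_ne 1
    have hv1' : v ≠ 1 := fun h => hv1 (Subtype.ext h)
    have hr1 : ∀ {x : T}, x ≠ 1 → r x ≠ 1 := fun hx h => hx (r.map_eq_one_iff.mp h)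
    have hrV : ∀ x ∈ V.subgroupOf T, ∀ y ∈ V.subgroupOf T, x ≠ 1 → y ≠ 1 →
        y = x ∨ y = r x ∨ y = r (r x) := by
      intro x hx y hy hx1 hy1
      have a1 : r x ≠ x := fun h => hx1 (hrfix x hx h)
      have a2 : r (r x) ≠ r x := fun h => a1 (r.injective h)
      have a3 : r (r x) ≠ x := fun h => a1 (by
        have := congrArg r h
        rw [D.r3] at this
        exact this.symm)
      have hsub : ({1, x, r x, r (r x)} : Set T) ⊆ (V.subgroupOf T : Set T) := by
        intro z hz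
        simp only [Set.mem_insert_iff, Set.mem_singleton_iff] at hz
        rcases hz with rfl | rfl | rfl | rfl
        exacts [Subgroup.one_mem _, hx, D.mem_of_r hx, D.mem_of_r (D.mem_of_r hx)]
      have hc : ({1, x, r x, r (r x)} : Set T).ncard = 4 := by
        rw [Set.ncard_insert_of_notMem, Set.ncard_insert_of_notMem, Set.ncard_insert_of_notMem,
          Set.ncard_singleton] <;>
          simp [Ne.symm hx1, Ne.symm (hr1 hx1), Ne.symm (hr1 (hr1 hx1)), Ne.symm a1, Ne.symm a2, Ne.symm a3]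
      have heq := Set.eq_of_subset_of_ncard_le hsub (le_of_eq (by
        rw [hc, ← Nat.card_coe_set_eq]; exact hcardV)) (Set.toFinite _)
      have : y ∈ ({1, x, r x, r (r x)} : Set T) := by rw [heq]; exact hy
      simpa [hy1] using this
    have H : CfsgLib.SuzukiTwo.Hyp T r :=
      ⟨hT, fun x y hx1 hx hy1 hy => by
        rcases hrV x ((hsqV x).mp hx) y ((hsqV y).mp hy) hx1 hy1 with h | h | h
        · exact ⟨0, by simp [h]⟩
        · exact ⟨1, by simp [h]⟩
        · exact ⟨2, by simp [h, pow_two]⟩,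
      ⟨v, r v, fun h => hv1' (hrfix v hv h.symm), hv1', D.sqV v hv, hr1 hv1', D.sqV _ (D.mem_of_r hv)⟩⟩
    by_cases hne : ∃ x y : T, x * y ≠ y * x
    · obtain ⟨K, iK, iKt, hK⟩ : ∃ (K : Type) (_ : Field K) (_ : Fintype K), Fintype.card K = 16 := by
        haveI := Fintype.ofFinite (GaloisField 2 4)
        refine ⟨GaloisField 2 4, inferInstance, inferInstance, ?_⟩
        rw [← Nat.card_eq_fintype_card, GaloisField.card 2 4 (by norm_num)]; norm_num
      exact Or.inr (Or.inr (Or.inr ⟨K, iK, iKt, hK, fun P =>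
        (H.sixty (CfsgLib.SuzukiTwo.good T r H hne) hne hfour).iso (CfsgLib.SuzukiTwo.sixty hK P)⟩))
    · push Not at hne
      obtain ⟨n, hn, ⟨e⟩⟩ := H.homocyclic hne hfour
      exact Or.inr (Or.inl ⟨n, hn, ⟨e.trans (MulEquiv.prodMultiplicative _ _)⟩⟩)

end Cfsg.Agent.S2933
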