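import Cfsg.Statements.S2934
import Cfsg.Agent.Lib.CoprimeGen
import Cfsg.Agent.Lib.Elementary
import Cfsg.Agent.Lib.RankFrattini
import Cfsg.Agent.Lib.ExtraspecialIndexP
import Cfsg.Agent.Lib.Basic
import Cfsg.Agent.Lib.SmallElements
import Cfsg.Agent.Lib.ZJ.Replacement

set_option autoImplicit false
set_option linter.unusedVariables false
open Cfsg
open scoped commutatorElement

namespace Cfsg.Agent.S2934

universe u

section Ambient

variable {G : Type u} [Group G] [Finite G]

/-- `K` has at most one involution. -/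
def OneInv (K : Subgroup G) : Prop :=
  ∀ x ∈ K, ∀ y ∈ K, orderOf x = 2 → orderOf y = 2 → x = y

theorem OneInv.mono {K L : Subgroup G} (h : OneInv K) (hle : L ≤ K) : OneInv L :=
  fun x hx y hy => h x (hle hx) y (hle hy)

theorem orderOf_two {x : G} (h : x ^ 2 = 1) (h1 : x ≠ 1) : orderOf x = 2 :=
  orderOf_eq_prime h h1

/-- An element of odd order centralizes a normalized abelian two-group with one involution. -/
theorem fix_cyclic {A : Subgroup G} (hA : IsPGroup 2 A) (hone : OneInv A)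
    (hcomm : ∀ x ∈ A, ∀ y ∈ A, x * y = y * x) {a : G} (hodd : Odd (orderOf a))
    (ha : a ∈ Subgroup.normalizer (A : Set G)) : ∀ x ∈ A, a * x = x * a := by
  suffices ∀ n : ℕ, ∀ x ∈ A, x ^ 2 ^ n = 1 → a * x = x * a by
    intro x hx
    obtain ⟨n, hn⟩ := hA ⟨x, hx⟩
    exact this n x hx (congrArg Subtype.val hn)
  intro n
  induction n with
  | zero =>
    intro x _ h
    rw [pow_zero, pow_one] at h
    rw [h, mul_one, one_mul]
  | succ n ih =>
    intro x hx h
    have hax : a * x * a⁻¹ ∈ A := (Subgroup.mem_normalizer_iff.mp ha x).mp hx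
    have h2 : a * x ^ 2 * a⁻¹ = x ^ 2 := by
      rw [ih (x ^ 2) (pow_mem hx 2) (by rw [← pow_mul, ← pow_succ']; exact h), mul_inv_cancel_right]
    set d := x⁻¹ * (a * x * a⁻¹) with hd
    have hdA : d ∈ A := mul_mem (inv_mem hx) hax
    have hd2 : d ^ 2 = 1 := by
      rw [hd, (show Commute x⁻¹ (a * x * a⁻¹) from hcomm _ (inv_mem hx) _ hax).mul_pow, inv_pow,
        conj_pow, h2, inv_mul_cancel]
    have had : a * d * a⁻¹ = d := by
      by_cases h1 : d = 1
      · rw [h1]; group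
      refine hone _ ((Subgroup.mem_normalizer_iff.mp ha d).mp hdA) d hdA
        (orderOf_two (by rw [conj_pow, hd2]; group) (fun e => h1 ?_)) (orderOf_two hd2 h1)
      calc d = a⁻¹ * (a * d * a⁻¹) * a := by group
        _ = 1 := by rw [e]; group
    have key : ∀ k : ℕ, a ^ k * x * (a ^ k)⁻¹ = x * d ^ k := by
      intro k
      induction k with
      | zero => simp
      | succ k ihk =>
        have h3 : a * d ^ k * a⁻¹ = d ^ k := by rw [← conj_pow, had]
        calc a ^ (k + 1) * x * (a ^ (k + 1))⁻¹ = a * (a ^ k * x * (a ^ k)⁻¹) * a⁻¹ := by rw [pow_succ']; group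
          _ = (a * x * a⁻¹) * (a * d ^ k * a⁻¹) := by rw [ihk]; group
          _ = x * d * d ^ k := by rw [h3, hd]; group
          _ = x * d ^ (k + 1) := by rw [pow_succ' d, mul_assoc]
    have hk := key (orderOf a)
    rw [pow_orderOf_eq_one, inv_one, mul_one, one_mul, left_eq_mul] at hk
    obtain ⟨m, hm⟩ := hodd
    rw [hm, pow_succ, pow_mul, hd2, one_pow, one_mul] at hk
    calc a * x = x * (x⁻¹ * (a * x * a⁻¹)) * a := by group
      _ = x * a := by rw [← hd, hk, mul_one]

variable {E X : Subgroup G}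

theorem commutator_centralizes {A : Subgroup G} (hX : ⁅X, E⁆ = X) (hXA : X ≤ Subgroup.normalizer (A : Set G))
    (hEA : ∀ a ∈ E, ∀ y ∈ A, a * y = y * a) : ∀ x ∈ X, ∀ y ∈ A, x * y = y * x := by
  have h1 : ⁅⁅E, A⁆, X⁆ = ⊥ := by
    have : ⁅E, A⁆ = ⊥ := by
      rw [Subgroup.commutator_eq_bot_iff_le_centralizer]
      exact fun a ha => Subgroup.mem_centralizer_iff.mpr fun y hy => (hEA a ha y hy).symm
    rw [this, Subgroup.commutator_bot_left]
  have h2 : ⁅⁅A, X⁆, E⁆ = ⊥ := by
    rw [Subgroup.commutator_eq_bot_iff_le_centralizer]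
    refine (CfsgLib.commutator_le_of_le_normalizer hXA).trans ?_
    exact fun y hy => Subgroup.mem_centralizer_iff.mpr fun a ha => hEA a ha y hy
  have h3 : ⁅⁅X, E⁆, A⁆ = ⊥ := Subgroup.commutator_commutator_eq_bot_of_rotate h1 h2
  rw [hX, Subgroup.commutator_eq_bot_iff_le_centralizer] at h3
  exact fun x hx y hy => (Subgroup.mem_centralizer_iff.mp (h3 hx) y hy).symm

theorem normalizes_closure {X : Subgroup G} {S : Set G} {g : G} (h : ∀ h ∈ ({g, g⁻¹} : Set G), ∀ s ∈ S, h * s * h⁻¹ ∈ S) :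
    g ∈ Subgroup.normalizer ((Subgroup.closure S : Subgroup G) : Set G) := by
  have key : ∀ h ∈ ({g, g⁻¹} : Set G), ∀ x ∈ Subgroup.closure S, h * x * h⁻¹ ∈ Subgroup.closure S := by
    intro k hk x hx
    have : (Subgroup.closure S).map (MulAut.conj k).toMonoidHom ≤ Subgroup.closure S := by
      rw [MonoidHom.map_closure, Subgroup.closure_le]
      rintro _ ⟨s, hs, rfl⟩
      exact Subgroup.subset_closure (by simpa using h k hk s hs)
    simpa using this ⟨x, hx, rfl⟩
  refine Subgroup.mem_normalizer_iff.mpr fun x => ⟨key g (by simp) x, fun hx => ?_⟩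
  simpa [mul_assoc] using key g⁻¹ (by simp) _ hx

/-- The structure of `X = [X, E]` when invariant abelian subgroups are centralized. -/
structure Str (E X : Subgroup G) (z : G) : Prop where
  zX : z ∈ X
  gen : ⁅X, E⁆ = X
  zfix : ∀ a ∈ E, a * z = z * a
  z2 : orderOf z = 2
  central : ∀ x ∈ X, z * x = x * z
  comm : ∀ x ∈ X, ∀ y ∈ X, ⁅x, y⁆ = 1 ∨ ⁅x, y⁆ = z
  sq : ∀ x ∈ X, x ^ 2 = 1 ∨ x ^ 2 = z
  center : ∀ x ∈ X, (∀ y ∈ X, x * y = y * x) → x = 1 ∨ x = z
  fixed : ∀ x ∈ X, (∀ a ∈ E, ⁅x, a⁆ ∈ Subgroup.zpowers z) → x = 1 ∨ x = z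

theorem mem_zpowers_two {z : G} (hz : z ^ 2 = 1) {g : G} (h : g ∈ Subgroup.zpowers z) : g = 1 ∨ g = z := by
  obtain ⟨n, rfl⟩ := Subgroup.mem_zpowers_iff.mp h
  obtain ⟨k, rfl | rfl⟩ := Int.even_or_odd' n
  · left; rw [zpow_mul, zpow_ofNat, hz, one_zpow]
  · right; rw [zpow_add_one, zpow_mul, zpow_ofNat, hz, one_zpow, one_mul]

theorem exists_str (hX2 : IsPGroup 2 X) (hEodd : Odd (Nat.card E)) (hEX : E ≤ Subgroup.normalizer (X : Set G))
    (hX : ⁅X, E⁆ = X)
    (hfix : ∀ A : Subgroup G, A ≤ X → E ≤ Subgroup.normalizer (A : Set G) →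
      (∀ x ∈ A, ∀ y ∈ A, x * y = y * x) → ∀ a ∈ E, ∀ x ∈ A, a * x = x * a)
    (hone : OneInv (X ⊓ Subgroup.centralizer (E : Set G))) (hne : X ≠ ⊥) : ∃ z, Str E X z := by
  haveI : Fact (Nat.Prime 2) := ⟨Nat.prime_two⟩
  haveI hnil : Group.IsNilpotent ↥X := hX2.isNilpotent
  -- characteristic abelian subgroups are central
  have hchar : ∀ C : Subgroup ↥X, C.Characteristic → (∀ x ∈ C, ∀ y ∈ C, x * y = y * x) → C ≤ Subgroup.center ↥X := by
    intro C hC hCc x hx
    obtain ⟨hEC, hXC⟩ := CfsgLib.le_normalizer_map_characteristic hEX C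
    have h1 := hfix (C.map X.subtype) (Subgroup.map_subtype_le C) hEC (by
      rintro _ ⟨u, hu, rfl⟩ _ ⟨v, hv, rfl⟩
      rw [← map_mul, ← map_mul, hCc u hu v hv])
    refine Subgroup.mem_center_iff.mpr fun y => Subtype.ext ?_
    exact commutator_centralizes hX hXC h1 y y.2 x ⟨x, hx, rfl⟩
  -- class two
  have hclass : commutator ↥X ≤ Subgroup.center ↥X := by
    let Z := Subgroup.center ↥X
    let f := QuotientGroup.mk' Z
    let Z2 := (Subgroup.center (↥X ⧸ Z)).comap f
    haveI : Z2.Characteristic := by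
      rw [Subgroup.characteristic_iff_map_le]
      rintro φ _ ⟨x, hx, rfl⟩
      show f (φ x) ∈ Subgroup.center _
      refine Subgroup.mem_center_iff.mpr fun y => ?_
      obtain ⟨y, rfl⟩ := QuotientGroup.mk'_surjective Z y
      rw [← map_mul, ← map_mul, QuotientGroup.mk'_apply, QuotientGroup.mk'_apply, QuotientGroup.eq]
      have h1 : f (φ.symm y) * f x = f x * f (φ.symm y) := Subgroup.mem_center_iff.mp hx _
      rw [← map_mul, ← map_mul, QuotientGroup.mk'_apply, QuotientGroup.mk'_apply, QuotientGroup.eq] at h1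
      have h2 := CfsgLib.Small.apply_mem_of_char (C := Z) φ h1
      simpa using h2
    have hcomm2 : ∀ c ∈ commutator ↥X, ∀ w ∈ Z2, c * w = w * c := by
      have h1 : ⁅⁅(⊤ : Subgroup ↥X), Z2⁆, (⊤ : Subgroup ↥X)⁆ = ⊥ := by
        rw [Subgroup.commutator_eq_bot_iff_le_centralizer, Subgroup.commutator_le]
        intro g _ w hw
        have : ⁅g, w⁆ ∈ Z := by
          refine (QuotientGroup.eq_one_iff _).mp ((map_commutatorElement f g w).trans ?_)
          rw [commutatorElement_eq_one_iff_mul_comm]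
          exact Subgroup.mem_center_iff.mp hw _
        exact Subgroup.mem_centralizer_iff.mpr fun y _ => Subgroup.mem_center_iff.mp this y
      have h2 : ⁅⁅Z2, (⊤ : Subgroup ↥X)⁆, (⊤ : Subgroup ↥X)⁆ = ⊥ := by rw [Subgroup.commutator_comm Z2]; exact h1
      have h3 : ⁅⁅(⊤ : Subgroup ↥X), ⊤⁆, Z2⁆ = ⊥ := Subgroup.commutator_commutator_eq_bot_of_rotate h1 h2
      rw [← commutator_def, Subgroup.commutator_eq_bot_iff_le_centralizer] at h3
      exact fun c hc w hw => (Subgroup.mem_centralizer_iff.mp (h3 hc) w hw).symm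
    have hsub : commutator ↥X ⊓ Z2 ≤ Z :=
      hchar _ inferInstance fun x hx y hy => hcomm2 x hx.1 y hy.2
    show commutator ↥X ≤ Z
    rw [← QuotientGroup.ker_mk' Z, ← Subgroup.map_eq_bot_iff]
    by_contra hb
    haveI : ((commutator ↥X).map f).Normal := Subgroup.Normal.map inferInstance f (QuotientGroup.mk'_surjective Z)
    haveI : Group.IsNilpotent (↥X ⧸ Z) := inferInstance
    refine CfsgLib.inf_center_ne_bot_of_nilpotent hb (eq_bot_iff.mpr ?_)
    rintro _ ⟨⟨x, hx, rfl⟩, hxc⟩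
    exact (QuotientGroup.eq_one_iff x).mpr (hsub ⟨hx, hxc⟩)
  have hcen : ∀ c : ↥X, c ∈ commutator ↥X → ∀ y : ↥X, y * c = c * y := fun c hc y =>
    Subgroup.mem_center_iff.mp (hclass hc) y
  have hEcomm : ∀ c : ↥X, c ∈ commutator ↥X → ∀ a ∈ E, a * (c : G) = c * a := by
    intro c hc a ha
    obtain ⟨hEC, -⟩ := CfsgLib.le_normalizer_map_characteristic hEX (commutator ↥X)
    exact hfix _ (Subgroup.map_subtype_le _) hEC (by
      rintro _ ⟨u, hu, rfl⟩ _ ⟨v, hv, rfl⟩
      rw [← map_mul, ← map_mul, hcen v hv u]) a ha _ ⟨c, hc, rfl⟩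
  have hmem : ∀ x y : ↥X, ⁅x, y⁆ ∈ commutator ↥X := fun x y => by
    rw [commutator_def]; exact Subgroup.commutator_mem_commutator (Subgroup.mem_top x) (Subgroup.mem_top y)
  have hmulL : ∀ x x' y : ↥X, ⁅x * x', y⁆ = ⁅x, y⁆ * ⁅x', y⁆ := by
    intro x x' y
    calc ⁅x * x', y⁆ = x * ⁅x', y⁆ * x⁻¹ * ⁅x, y⁆ := by simp only [commutatorElement_def]; group
      _ = ⁅x', y⁆ * ⁅x, y⁆ := by rw [hcen _ (hmem x' y) x]; group
      _ = _ := hcen _ (hmem x y) _
  have hpowL : ∀ (x y : ↥X) (n : ℕ), ⁅x ^ n, y⁆ = ⁅x, y⁆ ^ n := by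
    intro x y n
    induction n with
    | zero => simp [commutatorElement_def]
    | succ n ih => rw [pow_succ, hmulL, ih, ← pow_succ]
  have hpowR : ∀ (x y : ↥X) (n : ℕ), ⁅x, y ^ n⁆ = ⁅x, y⁆ ^ n := by
    intro x y n
    rw [← inv_inj, commutatorElement_inv, hpowL, ← commutatorElement_inv x y, inv_pow]
  -- commutators have order two
  have hex : ∃ k, ∀ x y : ↥X, ⁅x, y⁆ ^ 2 ^ k = 1 := by
    obtain ⟨k, hk⟩ := IsPGroup.iff_card.mp hX2
    exact ⟨k, fun x y => by rw [← hk, pow_card_eq_one']⟩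
  have hk1 : ∀ x y : ↥X, ⁅x, y⁆ ^ 2 = 1 := by
    classical
    have hspec := Nat.find_spec hex
    rcases Nat.lt_or_ge (Nat.find hex) 2 with h | h
    · intro x y
      obtain ⟨d, hd⟩ : 2 ^ Nat.find hex ∣ 2 ^ 1 := pow_dvd_pow 2 (by omega)
      rw [pow_one] at hd
      rw [hd, pow_mul, hspec, one_pow]
    · exfalso
      obtain ⟨j, hj⟩ : ∃ j, Nat.find hex = j + 2 := ⟨Nat.find hex - 2, by omega⟩
      rw [hj] at hspec
      set S : Set G := {g | ∃ x : ↥X, g = ((x ^ 2 ^ (j + 1) : ↥X) : G)} with hS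
      have hcc : ∀ s ∈ S, ∀ t ∈ S, s * t = t * s := by
        rintro _ ⟨x, rfl⟩ _ ⟨y, rfl⟩
        have h1 : ⁅x ^ 2 ^ (j + 1), y ^ 2 ^ (j + 1)⁆ = 1 := by
          rw [hpowL, hpowR, ← pow_mul, show 2 ^ (j + 1) * 2 ^ (j + 1) = 2 ^ (j + 2) * 2 ^ j by ring,
            pow_mul, hspec, one_pow]
        exact congrArg Subtype.val (commutatorElement_eq_one_iff_mul_comm.mp h1)
      have hnorm : ∀ g ∈ Subgroup.normalizer (X : Set G), ∀ s ∈ S, g * s * g⁻¹ ∈ S := by
        rintro g hg _ ⟨x, rfl⟩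
        exact ⟨⟨g * x * g⁻¹, (Subgroup.mem_normalizer_iff.mp hg _).mp x.2⟩, by
          simp only [SubmonoidClass.coe_pow]; rw [conj_pow]⟩
      have hN : Subgroup.normalizer (X : Set G) ≤ Subgroup.normalizer ((Subgroup.closure S : Subgroup G) : Set G) :=
        fun g hg => normalizes_closure (X := X) fun h hh => by
          rcases hh with rfl | rfl
          · exact hnorm _ hg
          · exact hnorm _ (inv_mem hg)
      haveI := Subgroup.isMulCommutative_closure hcc
      have hfixS := hfix (Subgroup.closure S) ((Subgroup.closure_le X).mpr (by rintro _ ⟨x, rfl⟩; exact SetLike.coe_mem _))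
        (hEX.trans hN) (fun x hx y hy => Subgroup.mul_comm_of_mem_isMulCommutative (Subgroup.closure S) hx hy)
      have hc := commutator_centralizes hX (Subgroup.le_normalizer.trans hN) hfixS
      refine Nat.find_min hex (show j + 1 < Nat.find hex by omega) fun x y => ?_
      rw [← hpowL, commutatorElement_eq_one_iff_mul_comm]
      exact Subtype.ext (hc y y.2 _ (Subgroup.subset_closure ⟨x, rfl⟩)).symm
  have hsqc : ∀ x y : ↥X, y * x ^ 2 = x ^ 2 * y := fun x y => by
    refine (commutatorElement_eq_one_iff_mul_comm.mp ?_).symm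
    rw [hpowL, hk1]
  have hexp : ∀ c ∈ commutator ↥X, c ^ 2 = 1 := by
    intro c hc
    rw [commutator_eq_closure] at hc
    induction hc using Subgroup.closure_induction with
    | mem c hc => obtain ⟨x, y, rfl⟩ := hc; exact hk1 x y
    | one => exact one_pow 2
    | mul a b ha hb iha ihb =>
      rw [(show Commute a b from hcen b (by rw [commutator_eq_closure]; exact hb) a).mul_pow, iha, ihb, one_mul]
    | inv a _ iha => rw [inv_pow, iha, inv_one]
  have hCone : ∀ c ∈ commutator ↥X, c ≠ 1 → ∀ d ∈ commutator ↥X, d ≠ 1 → c = d := by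
    intro c hc hc1 d hd hd1
    refine Subtype.ext (hone _ ⟨c.2, Subgroup.mem_centralizer_iff.mpr fun a ha => hEcomm c hc a ha⟩
      _ ⟨d.2, Subgroup.mem_centralizer_iff.mpr fun a ha => hEcomm d hd a ha⟩ ?_ ?_)
    · rw [Subgroup.orderOf_coe]; exact orderOf_eq_prime (hexp c hc) hc1
    · rw [Subgroup.orderOf_coe]; exact orderOf_eq_prime (hexp d hd) hd1
  -- a nontrivial commutator
  obtain ⟨z, hzc, hz1⟩ : ∃ z ∈ commutator ↥X, z ≠ 1 := by
    by_contra hcon
    push Not at hcon
    refine hne ?_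
    rw [← hX, Subgroup.commutator_eq_bot_iff_le_centralizer]
    intro x hx
    refine Subgroup.mem_centralizer_iff.mpr fun a ha => hfix X le_rfl hEX (fun u hu v hv => ?_) a ha x hx
    exact congrArg Subtype.val (commutatorElement_eq_one_iff_mul_comm.mp (hcon _ (hmem ⟨u, hu⟩ ⟨v, hv⟩)))
  have hz2 : orderOf ((z : G)) = 2 := by
    rw [Subgroup.orderOf_coe]; exact orderOf_eq_prime (hexp z hzc) hz1
  have hzz : (z : G) ^ 2 = 1 := by rw [← hz2]; exact pow_orderOf_eq_one _
  have hfixed : ∀ x ∈ X, (∀ a ∈ E, ⁅x, a⁆ ∈ Subgroup.zpowers (z : G)) → x = 1 ∨ x = (z : G) := by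
    intro x hx hxa
    classical
    letI := Fintype.ofFinite ↥E
    let q : ↥X →* Abelianization ↥X := Abelianization.of
    let cj : ↥E → ↥X →* ↥X := fun a =>
      { toFun := fun u => ⟨(a : G) * u * (a : G)⁻¹, (Subgroup.mem_normalizer_iff.mp (hEX a.2) _).mp u.2⟩
        map_one' := Subtype.ext (by simp)
        map_mul' := fun u v => Subtype.ext (by simp [mul_assoc]) }
    let N : ↥X →* Abelianization ↥X :=
      { toFun := fun u => ∏ a : ↥E, q (cj a u)
        map_one' := Finset.prod_eq_one fun a _ => by rw [map_one, map_one]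
        map_mul' := fun u v => by rw [← Finset.prod_mul_distrib]; exact Finset.prod_congr rfl fun a _ => by rw [map_mul, map_mul] }
    have hkill : ∀ u : ↥X, N u = 1 := by
      have hle : ⁅X, E⁆ ≤ N.ker.map X.subtype := by
        rw [Subgroup.commutator_le]
        intro k hk b hb
        refine ⟨⟨k, hk⟩ * (cj ⟨b, hb⟩ ⟨k, hk⟩)⁻¹, ?_, by simp [cj, commutatorElement_def, mul_assoc]⟩
        rw [SetLike.mem_coe, MonoidHom.mem_ker, map_mul, map_inv, mul_inv_eq_one]
        refine (Fintype.prod_equiv (Equiv.mulRight (⟨b, hb⟩ : ↥E)) _ _ fun a => congrArg q (Subtype.ext ?_)).symm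
        simp [cj, mul_assoc]
      intro u
      obtain ⟨v, hv, hvu⟩ := hle (show (u : G) ∈ ⁅X, E⁆ by rw [hX]; exact u.2)
      rw [← show v = u from Subtype.ext hvu]
      exact hv
    have hqz : q z = 1 := by
      rw [← MonoidHom.mem_ker, Abelianization.ker_of]; exact hzc
    have hqa : ∀ a : ↥E, q (cj a ⟨x, hx⟩) = q ⟨x, hx⟩ := by
      intro a
      have h1 : ⁅x, (a : G)⁆ = x * ((cj a ⟨x, hx⟩ : ↥X) : G)⁻¹ := by simp [cj, commutatorElement_def, mul_assoc]
      rcases mem_zpowers_two hzz (hxa a a.2) with h | h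
      · rw [h1, mul_inv_eq_one] at h
        exact congrArg q (Subtype.ext h.symm)
      · rw [h1] at h
        have h' : (⟨x, hx⟩ : ↥X) * (cj a ⟨x, hx⟩)⁻¹ = z := Subtype.ext (by simpa using h)
        have := congrArg q h'
        rw [map_mul, map_inv, hqz, mul_inv_eq_one] at this
        exact this.symm
    have h1 : q ⟨x, hx⟩ ^ Nat.card ↥E = 1 := by
      have := hkill ⟨x, hx⟩
      rw [show N ⟨x, hx⟩ = ∏ a : ↥E, q (cj a ⟨x, hx⟩) from rfl, Finset.prod_congr rfl (fun a _ => hqa a),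
        Finset.prod_const, Finset.card_univ, ← Nat.card_eq_fintype_card] at this
      exact this
    obtain ⟨k, hk⟩ := hX2 ⟨x, hx⟩
    have h2 : q ⟨x, hx⟩ ^ 2 ^ k = 1 := by rw [← map_pow, hk, map_one]
    have h3 : orderOf (q ⟨x, hx⟩) = 1 := Nat.eq_one_of_dvd_coprimes
      (Nat.Coprime.pow_right k (Nat.coprime_two_right.mpr hEodd))
      (orderOf_dvd_of_pow_eq_one h1) (orderOf_dvd_of_pow_eq_one h2)
    rw [orderOf_eq_one_iff, ← MonoidHom.mem_ker, Abelianization.ker_of] at h3
    by_cases h4 : (⟨x, hx⟩ : ↥X) = 1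
    · exact Or.inl (congrArg Subtype.val h4)
    · exact Or.inr (congrArg Subtype.val (hCone _ h3 h4 z hzc hz1))
  -- the centre
  have hZfix : ∀ c : ↥X, (∀ y : ↥X, y * c = c * y) → ∀ a ∈ E, a * (c : G) = c * a := by
    intro c hc a ha
    obtain ⟨hEC, -⟩ := CfsgLib.le_normalizer_map_characteristic hEX (Subgroup.center ↥X)
    exact hfix _ (Subgroup.map_subtype_le _) hEC (by
      rintro _ ⟨u, hu, rfl⟩ _ ⟨v, -, rfl⟩
      rw [← map_mul, ← map_mul, Subgroup.mem_center_iff.mp hu v]) a ha _ ⟨c, Subgroup.mem_center_iff.mpr hc, rfl⟩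
  have hcenter : ∀ c : ↥X, (∀ y : ↥X, y * c = c * y) → (c : G) = 1 ∨ (c : G) = z := fun c hc =>
    hfixed _ c.2 fun a ha => by
      rw [commutatorElement_eq_one_iff_mul_comm.mpr (hZfix c hc a ha).symm]; exact one_mem _
  refine ⟨z, z.2, hX, fun a ha => hEcomm z hzc a ha, hz2, fun x hx => congrArg Subtype.val (hcen z hzc ⟨x, hx⟩).symm, fun x hx y hy => ?_,
    fun x hx => ?_, fun x hx h => hcenter ⟨x, hx⟩ fun y => Subtype.ext (h y y.2).symm, hfixed⟩
  · by_cases h : ⁅(⟨x, hx⟩ : ↥X), (⟨y, hy⟩ : ↥X)⁆ = 1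
    · exact Or.inl (congrArg Subtype.val h)
    · exact Or.inr (congrArg Subtype.val (hCone _ (hmem _ _) h z hzc hz1))
  · exact hcenter (⟨x, hx⟩ ^ 2) fun y => hsqc _ y

/-- A structure with one involution has order eight. -/
theorem Str.card_eight {z : G} (h : Str E X z) (hX2 : IsPGroup 2 X) (hone : OneInv X) : Nat.card X = 8 := by
  haveI : Fact (Nat.Prime 2) := ⟨Nat.prime_two⟩
  have hz1 : z ≠ 1 := fun e => by have := h.z2; rw [e, orderOf_one] at this; omega
  have hzz : z ^ 2 = 1 := by rw [← h.z2]; exact pow_orderOf_eq_one _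
  have hsq : ∀ x ∈ X, x ≠ 1 → x ≠ z → x ^ 2 = z := fun x hx h1 h2 => (h.sq x hx).resolve_left fun e =>
    h2 (hone x hx z h.zX (orderOf_two e h1) h.z2)
  obtain ⟨x, hx, y, hy, hxy⟩ : ∃ x ∈ X, ∃ y ∈ X, x * y ≠ y * x := by
    by_contra hcon
    push Not at hcon
    have hall : ∀ x ∈ X, x = 1 ∨ x = z := fun x hx => h.center x hx fun y hy => hcon x hx y hy
    have hbot : ⁅X, E⁆ = ⊥ := by
      rw [Subgroup.commutator_eq_bot_iff_le_centralizer]
      intro x hx
      refine Subgroup.mem_centralizer_iff.mpr fun a ha => ?_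
      rcases hall x hx with e | e <;> rw [e]
      · rw [mul_one, one_mul]
      · exact h.zfix a ha
    rw [h.gen] at hbot
    have := h.zX
    rw [hbot, Subgroup.mem_bot] at this
    exact hz1 this
  have hx1 : x ≠ 1 := fun e => hxy (by rw [e, one_mul, mul_one])
  have hxz : x ≠ z := fun e => hxy (by rw [e]; exact h.central y hy)
  have hcl : ∀ c ∈ X, c * x = x * c → c ∈ Subgroup.zpowers x := by
    intro c hc hcx
    have hzx : z ∈ Subgroup.zpowers x := by rw [← hsq x hx hx1 hxz]; exact pow_mem (Subgroup.mem_zpowers x) 2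
    by_cases hc1 : c = 1
    · rw [hc1]; exact one_mem _
    by_cases hcz : c = z
    · rw [hcz]; exact hzx
    have h2 : (c * x) ^ 2 = 1 := by
      rw [(show Commute c x from hcx).mul_pow, hsq c hc hc1 hcz, hsq x hx hx1 hxz, ← pow_two, hzz]
    have h3 : c * x ∈ Subgroup.zpowers x := by
      by_cases h4 : c * x = 1
      · rw [h4]; exact one_mem _
      · rw [hone _ (mul_mem hc hx) z h.zX (orderOf_two h2 h4) h.z2]; exact hzx
    simpa using mul_mem h3 (inv_mem (Subgroup.mem_zpowers x))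
  have hord : orderOf x = 4 := by
    have := orderOf_eq_prime_pow (p := 2) (n := 1) (x := x) (by rw [pow_one, hsq x hx hx1 hxz]; exact hz1)
      (by rw [show (2 : ℕ) ^ (1 + 1) = 2 * 2 by norm_num, pow_mul, hsq x hx hx1 hxz, hzz])
    simpa using this
  let f : ↥X →* ↥(Subgroup.zpowers z) := MonoidHom.mk' (fun g => ⟨⁅(g : G), x⁆, by
      rcases h.comm g g.2 x hx with e | e <;> rw [e]
      · exact one_mem _
      · exact Subgroup.mem_zpowers z⟩) fun g g' => by
    refine Subtype.ext ?_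
    show ⁅(g : G) * g', x⁆ = ⁅(g : G), x⁆ * ⁅(g' : G), x⁆
    have hc : (g : G) * ⁅(g' : G), x⁆ = ⁅(g' : G), x⁆ * g := by
      rcases h.comm _ g'.2 x hx with e | e <;> rw [e]
      · rw [mul_one, one_mul]
      · exact (h.central g g.2).symm
    have hc' : ⁅(g' : G), x⁆ * ⁅(g : G), x⁆ = ⁅(g : G), x⁆ * ⁅(g' : G), x⁆ := by
      rcases h.comm _ g'.2 x hx with e | e <;> rcases h.comm _ g.2 x hx with e' | e' <;> rw [e, e'] <;> simp
    calc ⁅(g : G) * g', x⁆ = (g : G) * ⁅(g' : G), x⁆ * (g : G)⁻¹ * ⁅(g : G), x⁆ := by simp only [commutatorElement_def]; group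
      _ = _ := by rw [hc, mul_inv_cancel_right, hc']
  have hker : Nat.card f.ker ≤ 4 := by
    rw [← hord, ← Nat.card_zpowers]
    refine Nat.card_le_card_of_injective (fun g => (⟨((g : ↥X) : G), hcl _ (g : ↥X).2 ?_⟩ : Subgroup.zpowers x))
      fun a b e => Subtype.ext (Subtype.ext (congrArg (fun w : Subgroup.zpowers x => (w : G)) e))
    exact commutatorElement_eq_one_iff_mul_comm.mp (congrArg Subtype.val g.2)
  have hidx : f.ker.index ≤ 2 := by
    rw [Subgroup.index_ker, ← h.z2, ← Nat.card_zpowers]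
    exact Subgroup.card_le_card_group _
  have hle : Nat.card X ≤ 8 := by
    rw [← Subgroup.card_mul_index f.ker]
    calc _ ≤ 4 * 2 := Nat.mul_le_mul hker hidx
      _ = 8 := rfl
  have hnc : ¬ IsMulCommutative ↥X := fun hc => hxy (congrArg Subtype.val (hc.is_comm.comm ⟨x, hx⟩ ⟨y, hy⟩))
  obtain ⟨m, hm⟩ := IsPGroup.iff_card.mp hX2
  rcases le_or_gt m 2 with hm2 | hm2
  · refine absurd ?_ hnc
    interval_cases m
    · have := (Nat.card_eq_one_iff_unique.mp (by rw [hm, pow_zero] : Nat.card ↥X = 1)).1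
      exact ⟨⟨fun a b => Subsingleton.elim _ _⟩⟩
    · haveI : IsCyclic ↥X := isCyclic_of_prime_card (p := 2) (by rw [hm, pow_one])
      infer_instance
    · exact IsPGroup.isMulCommutative_of_card_eq_prime_sq hm
  · have h8 : 2 ^ m ≤ 2 ^ 3 := by rw [← hm]; exact hle
    have : m ≤ 3 := (Nat.pow_le_pow_iff_right (by norm_num : 1 < 2)).mp h8
    rw [hm, show m = 3 by omega]; norm_num

theorem Str.ne_one {z : G} (h : Str E X z) : z ≠ 1 := fun e => by
  have := h.z2; rw [e, orderOf_one] at this; omega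

theorem Str.normalizes {z : G} (h : Str E X z) {S : Subgroup G} (hS : S ≤ X) (hz : z ∈ S) :
    X ≤ Subgroup.normalizer (S : Set G) := by
  suffices ∀ g ∈ X, ∀ x ∈ S, g * x * g⁻¹ ∈ S by
    intro g hg
    refine Subgroup.mem_normalizer_iff.mpr fun x => ⟨this g hg x, fun hx => ?_⟩
    simpa [mul_assoc] using this g⁻¹ (inv_mem hg) _ hx
  intro g hg x hx
  have e : g * x * g⁻¹ = ⁅g, x⁆ * x := by rw [commutatorElement_def]; group
  rw [e]
  rcases h.comm g hg x (hS hx) with e | e <;> rw [e]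
  · rwa [one_mul]
  · exact mul_mem hz hx

/-- A two-element commuting with `E` and normalizing a structure of order eight acts trivially modulo the centre. -/
theorem trivial_of_key {z c : G} (h : Str E X z) (hcE : ∀ a ∈ E, a * c = c * a) (hcX : c ∈ Subgroup.normalizer (X : Set G))
    (hcz : c * z = z * c) (htriv : ∀ x ∈ X, c * x * c⁻¹ * x⁻¹ = 1 ∨ c * x * c⁻¹ * x⁻¹ = z) :
    ∀ x ∈ X, c * x = x * c := by
  let K : Subgroup G :=
    { carrier := {x | x ∈ X ∧ c * x = x * c}
      one_mem' := ⟨one_mem _, by rw [mul_one, one_mul]⟩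
      mul_mem' := fun {a b} ha hb => ⟨mul_mem ha.1 hb.1, by rw [← mul_assoc, ha.2, mul_assoc, hb.2, mul_assoc]⟩
      inv_mem' := fun {a} ha => ⟨inv_mem ha.1, (show Commute c a from ha.2).inv_right.eq⟩ }
  suffices hle : ⁅X, E⁆ ≤ K by
    rw [h.gen] at hle
    exact fun x hx => (hle hx).2
  rw [Subgroup.commutator_le]
  intro x hx a ha
  have hmem : ⁅x, a⁆ ∈ X := by
    have := Subgroup.commutator_mem_commutator hx ha
    rwa [h.gen] at this
  refine ⟨hmem, ?_⟩
  have h1 : c * x * c⁻¹ = (c * x * c⁻¹ * x⁻¹) * x := by group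
  have h2 : c * a * c⁻¹ = a := by rw [← hcE a ha, mul_inv_cancel_right]
  have h3 : c * ⁅x, a⁆ * c⁻¹ = ⁅c * x * c⁻¹, a⁆ := by
    conv_rhs => rw [← h2]
    simp only [commutatorElement_def]; group
  have h4 : ⁅c * x * c⁻¹, a⁆ = ⁅x, a⁆ := by
    rw [h1]
    rcases htriv x hx with e | e <;> rw [e]
    · rw [one_mul]
    · have hza : a * z * a⁻¹ = z := by rw [h.zfix a ha, mul_inv_cancel_right]
      calc ⁅z * x, a⁆ = z * ⁅x, a⁆ * (a * z * a⁻¹)⁻¹ := by simp only [commutatorElement_def]; group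
        _ = ⁅x, a⁆ := by rw [hza, h.central _ hmem, mul_inv_cancel_right]
  calc c * ⁅x, a⁆ = (c * ⁅x, a⁆ * c⁻¹) * c := by group
    _ = ⁅x, a⁆ * c := by rw [h3, h4]

theorem eq_bot_of_le_commutator {W X : Subgroup G} [Group.IsNilpotent ↥W] (hXW : X ≤ W) (h : X ≤ ⁅X, W⁆) : X = ⊥ := by
  obtain ⟨n, hn⟩ := Subgroup.nilpotent_iff_lowerCentralSeries.mp (inferInstance : Group.IsNilpotent ↥W)
  have key : ∀ k, X ≤ ((⊤ : Subgroup ↥W).lowerCentralSeries k).map W.subtype := by
    intro k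
    induction k with
    | zero => rwa [Subgroup.lowerCentralSeries_zero, ← MonoidHom.range_eq_map, Subgroup.range_subtype]
    | succ k ih =>
      rw [Subgroup.lowerCentralSeries_succ, Subgroup.map_commutator, ← MonoidHom.range_eq_map, Subgroup.range_subtype]
      exact h.trans (Subgroup.commutator_mono ih le_rfl)
  have := key n
  rwa [hn, Subgroup.map_bot, le_bot_iff] at this

/-- In a structure of order eight an invariant subgroup over the centre is the centre or everything. -/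
theorem Str.inv_subgroup {z : G} (h : Str E X z) (hX2 : IsPGroup 2 X) (hone : OneInv X) (hcard : Nat.card X = 8)
    (hEodd : Odd (Nat.card E)) {S : Subgroup G} (hS : S ≤ X) (hz : z ∈ S) (hinv : E ≤ Subgroup.normalizer (S : Set G)) :
    (∀ x ∈ S, x = 1 ∨ x = z) ∨ S = X := by
  haveI : Fact (Nat.Prime 2) := ⟨Nat.prime_two⟩
  by_cases hc : ∀ x ∈ S, ∀ y ∈ S, x * y = y * x
  · refine Or.inl fun x hx => h.fixed x (hS hx) fun a ha => ?_
    have hodd : Odd (orderOf a) := Odd.of_dvd_nat hEodd (by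
      simpa [Subgroup.orderOf_mk] using orderOf_dvd_natCard (⟨a, ha⟩ : E))
    have := fix_cyclic (hX2.to_le hS) (hone.mono hS) hc hodd (hinv ha) x hx
    rw [commutatorElement_eq_one_iff_mul_comm.mpr this.symm]
    exact one_mem _
  · refine Or.inr (Subgroup.eq_of_le_of_card_ge hS ?_)
    obtain ⟨m, hm⟩ := IsPGroup.iff_card.mp (hX2.to_le hS)
    by_contra hlt
    rw [not_le, hcard, hm, show 8 = 2 ^ 3 from rfl, Nat.pow_lt_pow_iff_right (by norm_num : 1 < 2)] at hlt
    refine hc fun x hx y hy => ?_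
    have hcomm : IsMulCommutative ↥S := by
      interval_cases m
      · have := (Nat.card_eq_one_iff_unique.mp (by rw [hm, pow_zero] : Nat.card ↥S = 1)).1
        exact ⟨⟨fun a b => Subsingleton.elim _ _⟩⟩
      · haveI : IsCyclic ↥S := isCyclic_of_prime_card (p := 2) (by rw [hm, pow_one])
        infer_instance
      · exact IsPGroup.isMulCommutative_of_card_eq_prime_sq hm
    exact congrArg Subtype.val (hcomm.is_comm.comm ⟨x, hx⟩ ⟨y, hy⟩)

/-- An element commuting with `E` and fixing a non-central coset of the centre centralizes the structure. -/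
theorem Str.centralize_of_fix {z c x0 : G} (h : Str E X z) (hX2 : IsPGroup 2 X) (hone : OneInv X)
    (hcard : Nat.card X = 8) (hEodd : Odd (Nat.card E)) (hcE : ∀ a ∈ E, a * c = c * a)
    (hcX : c ∈ Subgroup.normalizer (X : Set G)) (hcz : c * z = z * c) (hEX : E ≤ Subgroup.normalizer (X : Set G))
    (hx0 : x0 ∈ X) (h1 : x0 ≠ 1) (h2 : x0 ≠ z) (hfix0 : c * x0 * c⁻¹ * x0⁻¹ = 1 ∨ c * x0 * c⁻¹ * x0⁻¹ = z) :
    ∀ x ∈ X, c * x = x * c := by
  have hzz : z * z = 1 := by rw [← pow_two, ← h.z2]; exact pow_orderOf_eq_one _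
  let F : Subgroup G :=
    { carrier := {x | x ∈ X ∧ (c * x * c⁻¹ * x⁻¹ = 1 ∨ c * x * c⁻¹ * x⁻¹ = z)}
      one_mem' := ⟨one_mem _, Or.inl (by group)⟩
      mul_mem' := fun {a b} ha hb => ⟨mul_mem ha.1 hb.1, by
        have e : c * (a * b) * c⁻¹ * (a * b)⁻¹ = (c * a * c⁻¹) * (c * b * c⁻¹ * b⁻¹) * a⁻¹ := by group
        rw [e]
        rcases hb.2 with e' | e' <;> rw [e']
        · rw [mul_one]; exact ha.2
        · rw [mul_assoc _ z, h.central _ (inv_mem ha.1), ← mul_assoc]
          rcases ha.2 with e'' | e'' <;> rw [e'']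
          · exact Or.inr (one_mul z)
          · exact Or.inl hzz⟩
      inv_mem' := fun {a} ha => ⟨inv_mem ha.1, by
        have e : c * a⁻¹ * c⁻¹ * a⁻¹⁻¹ = a⁻¹ * (c * a * c⁻¹ * a⁻¹)⁻¹ * a := by group
        rw [e]
        rcases ha.2 with e' | e' <;> rw [e']
        · exact Or.inl (by group)
        · refine Or.inr ?_
          rw [inv_eq_of_mul_eq_one_right hzz, mul_assoc, h.central a ha.1, ← mul_assoc, inv_mul_cancel, one_mul]⟩ }
  have hzF : z ∈ F := ⟨h.zX, Or.inl (by rw [hcz, mul_inv_cancel_right, mul_inv_cancel])⟩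
  have hEF : E ≤ Subgroup.normalizer (F : Set G) := by
    suffices ∀ a ∈ E, ∀ x ∈ F, a * x * a⁻¹ ∈ F by
      intro a ha
      refine Subgroup.mem_normalizer_iff.mpr fun x => ⟨this a ha x, fun hx => ?_⟩
      simpa [mul_assoc] using this a⁻¹ (inv_mem ha) _ hx
    intro a ha x hx
    refine ⟨(Subgroup.mem_normalizer_iff.mp (hEX ha) x).mp hx.1, ?_⟩
    have h1 : a⁻¹ * c = c * a⁻¹ := hcE _ (inv_mem ha)
    have h2 : c * a = a * c := (hcE a ha).symm
    have h3 : a * c⁻¹ = c⁻¹ * a := ((show Commute a c from hcE a ha).inv_right).eq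
    have e : c * (a * x * a⁻¹) * c⁻¹ * (a * x * a⁻¹)⁻¹ = a * (c * x * c⁻¹ * x⁻¹) * a⁻¹ := by
      calc c * (a * x * a⁻¹) * c⁻¹ * (a * x * a⁻¹)⁻¹ = (c * a) * x * (a⁻¹ * c⁻¹ * a) * x⁻¹ * a⁻¹ := by group
        _ = _ := by rw [h2, mul_assoc a⁻¹, ← h3, inv_mul_cancel_left]; group
    rw [e]
    rcases hx.2 with e' | e' <;> rw [e']
    · exact Or.inl (by group)
    · exact Or.inr (by rw [h.zfix a ha, mul_inv_cancel_right])
  rcases h.inv_subgroup hX2 hone hcard hEodd (S := F) (fun x hx => hx.1) hzF hEF with hF | hF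
  · exact absurd (hF x0 ⟨hx0, hfix0⟩) (fun e => e.elim h1 h2)
  · exact trivial_of_key h hcE hcX hcz fun x hx => (hF.ge hx).2

theorem mem_normalizer_sup {A B : Subgroup G} {g : G} (hA : g ∈ Subgroup.normalizer (A : Set G))
    (hB : g ∈ Subgroup.normalizer (B : Set G)) : g ∈ Subgroup.normalizer ((A ⊔ B : Subgroup G) : Set G) := by
  have key : ∀ h ∈ Subgroup.normalizer (A : Set G) ⊓ Subgroup.normalizer (B : Set G), ∀ x ∈ A ⊔ B, h * x * h⁻¹ ∈ A ⊔ B := by
    intro h hh x hx
    have hle : (A ⊔ B).map (MulAut.conj h).toMonoidHom ≤ A ⊔ B := by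
      rw [Subgroup.map_sup]
      refine sup_le_sup ?_ ?_
      · rintro _ ⟨y, hy, rfl⟩; exact (Subgroup.mem_normalizer_iff.mp hh.1 y).mp hy
      · rintro _ ⟨y, hy, rfl⟩; exact (Subgroup.mem_normalizer_iff.mp hh.2 y).mp hy
    simpa using hle ⟨x, hx, rfl⟩
  refine Subgroup.mem_normalizer_iff.mpr fun x => ⟨key g ⟨hA, hB⟩ x, fun hx => ?_⟩
  simpa [mul_assoc] using key g⁻¹ (inv_mem (show g ∈ Subgroup.normalizer (A : Set G) ⊓ Subgroup.normalizer (B : Set G) from ⟨hA, hB⟩)) _ hx

theorem card_join_le {W Z : Subgroup G} (hWZ : W ≤ Subgroup.normalizer (Z : Set G)) (hZW : Z ≤ W) (hZ : Nat.card Z ≤ 2) (s : Finset (Subgroup G))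
    (hs : ∀ Y ∈ s, Z ≤ Y ∧ Y ≤ W ∧ W ≤ Subgroup.normalizer (Y : Set G) ∧ Nat.card Y ≤ 4 * Nat.card Z) :
    W ≤ Subgroup.normalizer (((Z ⊔ s.sup id : Subgroup G)) : Set G) ∧ Nat.card ↥(Z ⊔ s.sup id) ≤ 2 * 4 ^ s.card := by
  classical
  induction s using Finset.induction_on with
  | empty => rw [Finset.sup_empty, sup_bot_eq, Finset.card_empty, pow_zero, mul_one]; exact ⟨hWZ, hZ⟩
  | insert Y t hY ih =>
    obtain ⟨hn, hc⟩ := ih fun K hK => hs K (Finset.mem_insert_of_mem hK)
    obtain ⟨hZY, hYW, hYn, hYc⟩ := hs Y (Finset.mem_insert_self Y t)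
    rw [Finset.sup_insert, show Z ⊔ (id Y ⊔ t.sup id) = Y ⊔ (Z ⊔ t.sup id) from sup_left_comm _ _ _,
      Finset.card_insert_of_notMem hY]
    refine ⟨?_, ?_⟩
    · intro g hg
      exact mem_normalizer_sup (hYn hg) (hn hg)
    · have hK : (Z ⊔ t.sup id) ≤ Subgroup.normalizer (Y : Set G) := (sup_le hZW (Finset.sup_le fun K hK => (hs K (Finset.mem_insert_of_mem hK)).2.1)).trans hYn
      have h1 := CfsgLib.ZJ.card_mul_eq_of_le_normalizer hK
      have h2 : Nat.card Z ≤ Nat.card ↥(Y ⊓ (Z ⊔ t.sup id)) := Subgroup.card_le_of_le (le_inf hZY le_sup_left)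
      refine Nat.le_of_mul_le_mul_right (c := Nat.card Z) ?_ Nat.card_pos
      calc _ ≤ Nat.card ↥(Y ⊔ (Z ⊔ t.sup id)) * Nat.card ↥(Y ⊓ (Z ⊔ t.sup id)) := Nat.mul_le_mul_left _ h2
        _ = Nat.card Y * Nat.card ↥(Z ⊔ t.sup id) := h1.symm
        _ ≤ (4 * Nat.card Z) * (2 * 4 ^ t.card) := Nat.mul_le_mul hYc hc
        _ = 2 * 4 ^ (t.card + 1) * Nat.card Z := by ring

theorem sup_centralizers {W E : Subgroup G} [IsMulCommutative E] (hE : ¬ IsCyclic E)
    (hEW : E ≤ Subgroup.normalizer (W : Set G)) (hcop : (Nat.card E).Coprime (Nat.card W)) {K : Subgroup G}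
    (h : ∀ a ∈ E, a ≠ 1 → W ⊓ Subgroup.centralizer {a} ≤ K) : W ≤ K := by
  rw [← CfsgLib.coprime_generated_by_centralizers hE hEW hcop]
  exact iSup₂_le fun a ha => h a ha.1 ha.2

theorem ambient {W E : Subgroup G} (hW : IsPGroup 2 W) {p : ℕ} [Fact p.Prime] (hp : p ≠ 2) (hEp : IsPGroup p E)
    (hab : IsMulCommutative E) (hnc : ¬ IsCyclic E) (hEW : E ≤ Subgroup.normalizer (W : Set G))
    (hfaith : E ⊓ Subgroup.centralizer (W : Set G) = ⊥)
    (hfix : ∀ e ∈ E, e ≠ 1 → OneInv (W ⊓ Subgroup.centralizer {e})) :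
    Nat.card E = 9 ∧ ∃ z : G, Str E W z ∧ 32 ≤ Nat.card W ∧ Nat.card W ≤ 512 := by
  classical
  haveI := hab
  haveI : Fact (Nat.Prime 2) := ⟨Nat.prime_two⟩
  haveI hWnil : Group.IsNilpotent ↥W := hW.isNilpotent
  obtain ⟨k, hk⟩ := IsPGroup.iff_card.mp hEp
  have hEodd : Odd (Nat.card E) := by rw [hk]; exact ((Fact.out : p.Prime).odd_of_ne_two hp).pow
  have hcop : (Nat.card E).Coprime (Nat.card W) := by
    obtain ⟨m, hm⟩ := IsPGroup.iff_card.mp hW
    rw [hm]; exact Nat.Coprime.pow_right m (Nat.coprime_two_right.mpr hEodd)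
  have hEc : ∀ a ∈ E, ∀ b ∈ E, a * b = b * a := fun a ha b hb => Subgroup.mul_comm_of_mem_isMulCommutative E ha hb
  haveI hEs : Group.IsSolvable ↥E := Group.isSolvable_of_comm fun a b => Subtype.ext (hEc a a.2 b b.2)
  have hsolv : Group.IsSolvable ↥E ∨ Group.IsSolvable ↥W := Or.inl inferInstance
  obtain ⟨e1, he1, he1'⟩ : ∃ e ∈ E, e ≠ 1 := by
    by_contra hcon
    push Not at hcon
    refine hnc ?_
    haveI : Subsingleton ↥E := ⟨fun a b => Subtype.ext ((hcon a a.2).trans (hcon b b.2).symm)⟩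
    infer_instance
  set C := W ⊓ Subgroup.centralizer (E : Set G) with hC
  have hCle : ∀ e ∈ E, C ≤ W ⊓ Subgroup.centralizer {e} := fun e he =>
    inf_le_inf_left W (Subgroup.centralizer_le (by simpa using he))
  have hCone : OneInv C := (hfix e1 he1 he1').mono (hCle e1 he1)
  have hNinv : ∀ e ∈ E, E ≤ Subgroup.normalizer ((W ⊓ Subgroup.centralizer {e} : Subgroup G) : Set G) := by
    intro e he a ha
    suffices ∀ b ∈ E, ∀ x ∈ W ⊓ Subgroup.centralizer {e}, b * x * b⁻¹ ∈ W ⊓ Subgroup.centralizer {e} by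
      refine Subgroup.mem_normalizer_iff.mpr fun x => ⟨this a ha x, fun hx => ?_⟩
      simpa [mul_assoc] using this a⁻¹ (inv_mem ha) _ hx
    rintro b hb x ⟨hxW, hxe⟩
    refine ⟨(Subgroup.mem_normalizer_iff.mp (hEW hb) x).mp hxW, Subgroup.mem_centralizer_singleton_iff.mpr ?_⟩
    have h1 : Commute x e := Subgroup.mem_centralizer_singleton_iff.mp hxe
    have h2 : Commute b e := hEc b hb e he
    exact ((h2.mul_left h1).mul_left h2.inv_left).eq
  have hodd : ∀ a ∈ E, Odd (orderOf a) := fun a ha => Odd.of_dvd_nat hEodd (by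
    simpa [Subgroup.orderOf_mk] using orderOf_dvd_natCard (⟨a, ha⟩ : E))
  have hfixW : ∀ A : Subgroup G, A ≤ W → E ≤ Subgroup.normalizer (A : Set G) →
      (∀ x ∈ A, ∀ y ∈ A, x * y = y * x) → ∀ a ∈ E, ∀ x ∈ A, a * x = x * a := by
    intro A hAW hEA hAc a ha x hx
    have hle : A ≤ Subgroup.centralizer {a} := by
      refine sup_centralizers hnc hEA (hcop.coprime_dvd_right (Subgroup.card_dvd_of_le hAW)) fun b hb hb1 y hy =>
        Subgroup.mem_centralizer_singleton_iff.mpr ?_
      refine (fix_cyclic (A := A ⊓ Subgroup.centralizer {b}) ((hW.to_le hAW).to_le inf_le_left)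
        ((hfix b hb hb1).mono (inf_le_inf_right _ hAW)) (fun u hu v hv => hAc u hu.1 v hv.1) (hodd a ha) ?_ y hy).symm
      exact Subgroup.inf_normalizer_le_normalizer_inf ⟨hEA ha, by
        suffices ∀ c ∈ E, ∀ u ∈ Subgroup.centralizer ({b} : Set G), c * u * c⁻¹ ∈ Subgroup.centralizer ({b} : Set G) by
          refine Subgroup.mem_normalizer_iff.mpr fun u => ⟨this a ha u, fun hu => ?_⟩
          simpa [mul_assoc] using this a⁻¹ (inv_mem ha) _ hu
        intro c hc u hu
        have h1 : Commute u b := Subgroup.mem_centralizer_singleton_iff.mp hu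
        have h2 : Commute c b := hEc c hc b hb
        exact Subgroup.mem_centralizer_singleton_iff.mpr ((h2.mul_left h1).mul_left h2.inv_left).eq⟩
    exact (Subgroup.mem_centralizer_singleton_iff.mp (hle hx)).symm
  set X := ⁅W, E⁆ with hX
  have hXW : X ≤ W := CfsgLib.commutator_le_of_le_normalizer hEW
  have hEX : E ≤ Subgroup.normalizer (X : Set G) := CfsgLib.right_le_normalizer_commutator E W
  have hXne : X ≠ ⊥ := by
    intro h0
    rw [hX, Subgroup.commutator_eq_bot_iff_le_centralizer] at h0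
    have : e1 ∈ E ⊓ Subgroup.centralizer (W : Set G) :=
      ⟨he1, Subgroup.mem_centralizer_iff.mpr fun w hw => (Subgroup.mem_centralizer_iff.mp (h0 hw) e1 he1).symm⟩
    rw [hfaith, Subgroup.mem_bot] at this
    exact he1' this
  obtain ⟨z, hz⟩ := exists_str (hW.to_le hXW) hEodd hEX
    (CfsgLib.coprime_commutator_commutator hEW hcop hsolv)
    (fun A hA => hfixW A (hA.trans hXW)) (hCone.mono (inf_le_inf_right _ hXW)) hXne
  have hzC : z ∈ C := ⟨hXW hz.zX, Subgroup.mem_centralizer_iff.mpr fun a ha => hz.zfix a ha⟩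
  have hzz : z ^ 2 = 1 := by rw [← hz.z2]; exact pow_orderOf_eq_one _
  -- the pieces
  set Ye : G → Subgroup G := fun e => ⁅W ⊓ Subgroup.centralizer {e}, E⁆ with hYe
  have hYN : ∀ e ∈ E, Ye e ≤ W ⊓ Subgroup.centralizer {e} := fun e he =>
    CfsgLib.commutator_le_of_le_normalizer (hNinv e he)
  have hY : ∀ e ∈ E, e ≠ 1 → Ye e ≠ ⊥ → Str E (Ye e) z ∧ Nat.card (Ye e) = 8 := by
    intro e he he' hne
    have hY2 : IsPGroup 2 (Ye e) := hW.to_le ((hYN e he).trans inf_le_left)
    have hYone : OneInv (Ye e) := (hfix e he he').mono (hYN e he)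
    obtain ⟨z', hz'⟩ := exists_str hY2 hEodd (CfsgLib.right_le_normalizer_commutator E _)
      (CfsgLib.coprime_commutator_commutator (hNinv e he) (hcop.coprime_dvd_right (Subgroup.card_dvd_of_le inf_le_left)) (Or.inl inferInstance))
      (fun A hA hEA hAc a ha x hx => fix_cyclic (hY2.to_le hA) (hYone.mono hA) hAc (hodd a ha) (hEA ha) x hx)
      (hYone.mono inf_le_left) hne
    have : z' = z := hCone z' ⟨(hYN e he hz'.zX).1, Subgroup.mem_centralizer_iff.mpr fun a ha => hz'.zfix a ha⟩ z hzC hz'.z2 hz.z2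
    subst this
    exact ⟨hz', hz'.card_eight hY2 hYone⟩
  have hNY : ∀ e ∈ E, ∀ x ∈ W ⊓ Subgroup.centralizer {e}, ∃ y ∈ Ye e, ∃ c ∈ C, x = y * c := by
    intro e he x hx
    obtain ⟨y, hy, c, hc, e'⟩ := CfsgLib.coprime_decomp (hNinv e he)
      (hcop.coprime_dvd_right (Subgroup.card_dvd_of_le inf_le_left)) (Or.inl inferInstance) hx
    exact ⟨y, hy, c, ⟨hc.1.1, hc.2⟩, e'⟩
  -- some piece is nontrivial
  obtain ⟨e2, he2, he2', hY2ne⟩ : ∃ e ∈ E, e ≠ 1 ∧ Ye e ≠ ⊥ := by
    by_contra hcon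
    push Not at hcon
    refine hXne ?_
    have hWC : W ≤ C := sup_centralizers hnc hEW hcop fun a ha ha' x hx => by
      obtain ⟨y, hy, c, hc, rfl⟩ := hNY a ha x hx
      rw [hcon a ha ha', Subgroup.mem_bot] at hy
      rw [hy, one_mul]; exact hc
    rw [hX, Subgroup.commutator_eq_bot_iff_le_centralizer]
    exact hWC.trans inf_le_right
  -- the fixed points are `{1, z}`
  have hCz : ∀ c ∈ C, c = 1 ∨ c = z := by
    by_contra hcon
    push Not at hcon
    obtain ⟨c, hc, hc1, hcz⟩ := hcon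
    obtain ⟨n, hn⟩ : ∃ n, orderOf c = 2 ^ n := by
      obtain ⟨n, hn⟩ := hW ⟨c, hc.1⟩
      obtain ⟨i, -, hi⟩ := (Nat.dvd_prime_pow Nat.prime_two).mp
        (orderOf_dvd_of_pow_eq_one (show c ^ 2 ^ n = 1 from congrArg Subtype.val hn))
      exact ⟨i, hi⟩
    have hn2 : 2 ≤ n := by
      rcases n with _ | _ | n
      · exact absurd (orderOf_eq_one_iff.mp (by rw [hn, pow_zero])) hc1
      · exact absurd (hCone c hc z hzC (by rw [hn, pow_one]) hz.z2) hcz
      · omega
    set d := c ^ 2 ^ (n - 2) with hd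
    have hdord : orderOf d = 4 := by
      rw [hd, orderOf_pow_of_dvd (pow_ne_zero _ two_ne_zero) (hn ▸ pow_dvd_pow 2 (by omega)), hn,
        Nat.pow_div (by omega) two_pos, show n - (n - 2) = 2 by omega]
      norm_num
    have hdC : d ∈ C := pow_mem hc _
    have hd2 : d ^ 2 = z := by
      refine hCone _ (pow_mem hdC 2) z hzC ?_ hz.z2
      rw [orderOf_pow_of_dvd two_ne_zero (by rw [hdord]; norm_num), hdord]
    obtain ⟨hstr, hcard⟩ := hY e2 he2 he2' hY2ne
    have hY2 : IsPGroup 2 (Ye e2) := hW.to_le ((hYN e2 he2).trans inf_le_left)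
    have hYone : OneInv (Ye e2) := (hfix e2 he2 he2').mono (hYN e2 he2)
    have hEY : E ≤ Subgroup.normalizer (Ye e2 : Set G) := CfsgLib.right_le_normalizer_commutator E _
    -- `d` normalizes the piece
    have hdE : ∀ a ∈ E, a * d = d * a := fun a ha => Subgroup.mem_centralizer_iff.mp hdC.2 a ha
    have hdY : ∀ u ∈ C, ∀ y ∈ Ye e2, u * y * u⁻¹ ∈ Ye e2 := by
      intro u hu y hy
      have : (Ye e2).map (MulAut.conj u).toMonoidHom ≤ Ye e2 := by
        simp only [hYe]
        rw [Subgroup.map_commutator]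
        refine Subgroup.commutator_mono ?_ ?_
        · rintro _ ⟨w, hw, rfl⟩
          have hu' := hCle e2 he2 hu
          exact mul_mem (mul_mem hu' hw) (inv_mem hu')
        · rintro _ ⟨a, ha, rfl⟩
          show u * a * u⁻¹ ∈ E
          rw [← Subgroup.mem_centralizer_iff.mp hu.2 a ha, mul_inv_cancel_right]; exact ha
      simpa using this ⟨y, hy, rfl⟩
    have hdN : d ∈ Subgroup.normalizer (Ye e2 : Set G) :=
      Subgroup.mem_normalizer_iff.mpr fun y => ⟨hdY d hdC y, fun hy => by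
        simpa [mul_assoc] using hdY d⁻¹ (inv_mem hdC) _ hy⟩
    have hdz : d * z = z * d := by rw [← hd2]; group
    have hcentr : ∀ y ∈ Ye e2, d * y = y * d := by
      refine trivial_of_key hstr hdE hdN hdz fun y hy => ?_
      let L := ⁅Ye e2, Subgroup.zpowers d⁆ ⊔ Subgroup.zpowers z
      have hdzp : Subgroup.zpowers d ≤ Subgroup.normalizer (Ye e2 : Set G) := Subgroup.zpowers_le.mpr hdN
      have hLY : L ≤ Ye e2 := sup_le (CfsgLib.commutator_le_of_le_normalizer hdzp) (Subgroup.zpowers_le.mpr hstr.zX)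
      have hLE : E ≤ Subgroup.normalizer (L : Set G) := by
        intro a ha
        refine mem_normalizer_sup ?_ (Subgroup.mem_normalizer_iff.mpr fun w => ?_)
        · have key : ∀ b ∈ E, (⁅Ye e2, Subgroup.zpowers d⁆).map (MulAut.conj b).toMonoidHom ≤ ⁅Ye e2, Subgroup.zpowers d⁆ := by
            intro b hb
            rw [Subgroup.map_commutator]
            refine Subgroup.commutator_mono ?_ ?_
            · rintro _ ⟨w, hw, rfl⟩
              exact (Subgroup.mem_normalizer_iff.mp (hEY hb) w).mp hw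
            · rw [MonoidHom.map_zpowers, Subgroup.zpowers_le]
              show b * d * b⁻¹ ∈ _
              rw [hdE b hb, mul_inv_cancel_right]; exact Subgroup.mem_zpowers d
          refine Subgroup.mem_normalizer_iff.mpr fun w => ⟨fun hw => by simpa using key a ha ⟨w, hw, rfl⟩, fun hw => ?_⟩
          simpa [mul_assoc] using key a⁻¹ (inv_mem ha) ⟨_, hw, rfl⟩
        · have haz : ∀ i : ℤ, a * z ^ i * a⁻¹ = z ^ i := fun i => by
            rw [← conj_zpow, hz.zfix a ha, mul_inv_cancel_right]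
          constructor
          · rintro ⟨i, rfl⟩; exact ⟨i, (haz i).symm⟩
          · rintro ⟨i, hi⟩
            refine ⟨i, ?_⟩
            have h1 := haz i
            rw [show z ^ i = a * w * a⁻¹ from hi] at h1
            show z ^ i = w
            rw [show z ^ i = a * w * a⁻¹ from hi]
            calc a * w * a⁻¹ = a⁻¹ * (a * (a * w * a⁻¹) * a⁻¹) * a := by group
              _ = w := by rw [h1]; group
      rcases hstr.inv_subgroup hY2 hYone hcard hEodd hLY (Subgroup.mem_sup_right (Subgroup.mem_zpowers z)) hLE with h | h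
      · have hmem : ⁅y, d⁆⁻¹ ∈ L := inv_mem (Subgroup.mem_sup_left (Subgroup.commutator_mem_commutator hy (Subgroup.mem_zpowers d)))
        have e : d * y * d⁻¹ * y⁻¹ = ⁅y, d⁆⁻¹ := by rw [commutatorElement_def]; group
        rw [e]; exact h _ hmem
      · exfalso
        refine hY2ne (eq_bot_of_le_commutator ((hYN e2 he2).trans inf_le_left) ?_)
        have hzle : Subgroup.zpowers z ≤ ⁅Ye e2, W⁆ := by
          rw [Subgroup.zpowers_le]
          obtain ⟨u, hu, v, hv, huv⟩ : ∃ u ∈ Ye e2, ∃ v ∈ Ye e2, ⁅u, v⁆ = z := by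
            by_contra hcon'
            push Not at hcon'
            refine hY2ne (eq_bot_iff.mpr fun u hu => ?_)
            have hall : ∀ u ∈ Ye e2, u = 1 ∨ u = z := fun u hu => hstr.center u hu fun v hv =>
              commutatorElement_eq_one_iff_mul_comm.mp ((hstr.comm u hu v hv).resolve_right (hcon' u hu v hv))
            have hle2 : Ye e2 ≤ Subgroup.zpowers z := fun u hu => by
              rcases hall u hu with e | e <;> rw [e]
              · exact one_mem _
              · exact Subgroup.mem_zpowers z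
            have := Subgroup.card_le_of_le hle2
            rw [hcard, Nat.card_zpowers, hz.z2] at this
            omega
          rw [← huv]
          exact Subgroup.commutator_mem_commutator hu (hYN e2 he2 hv).1
        exact h.ge.trans (sup_le (Subgroup.commutator_mono le_rfl (Subgroup.zpowers_le.mpr hdC.1)) hzle)
    obtain ⟨y, hy, hy1, hyz⟩ : ∃ y ∈ Ye e2, y ≠ 1 ∧ y ≠ z := by
      by_contra hcon'
      push Not at hcon'
      have hle2 : Ye e2 ≤ Subgroup.zpowers z := fun u hu => by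
        by_cases h : u = 1
        · rw [h]; exact one_mem _
        · rw [hcon' u hu h]; exact Subgroup.mem_zpowers z
      have := Subgroup.card_le_of_le hle2
      rw [hcard, Nat.card_zpowers, hz.z2] at this
      omega
    have hysq : y ^ 2 = z := (hstr.sq y hy).resolve_left fun e => hyz (hYone y hy z hstr.zX (orderOf_two e hy1) hz.z2)
    have hdy : (d * y) ^ 2 = 1 := by
      rw [(show Commute d y from hcentr y hy).mul_pow, hd2, hysq, ← pow_two, hzz]
    have hdyz : d * y = 1 ∨ d * y = z := by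
      by_cases h : d * y = 1
      · exact Or.inl h
      · exact Or.inr (hfix e2 he2 he2' _ (mul_mem (hCle e2 he2 hdC) (hYN e2 he2 hy)) z (hCle e2 he2 hzC) (orderOf_two hdy h) hz.z2)
    have hyC : y ∈ C := by
      have : y = d⁻¹ * (d * y) := by group
      rw [this]
      rcases hdyz with e | e <;> rw [e]
      · exact mul_mem (inv_mem hdC) (one_mem _)
      · exact mul_mem (inv_mem hdC) hzC
    rcases hstr.fixed y hy (fun a ha => by
      rw [commutatorElement_eq_one_iff_mul_comm.mpr (Subgroup.mem_centralizer_iff.mp hyC.2 a ha).symm]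
      exact one_mem _) with e | e
    · exact hy1 e
    · exact hyz e
  have hWX : W = X := by
    refine le_antisymm (fun w hw => ?_) hXW
    obtain ⟨x, hx, c, hc, rfl⟩ := CfsgLib.coprime_decomp hEW hcop hsolv hw
    refine mul_mem hx ?_
    rcases hCz c hc with e | e <;> rw [e]
    · exact one_mem _
    · exact hz.zX
  -- kernels
  set Ke : G → Subgroup G := fun e => E ⊓ Subgroup.centralizer (Ye e : Set G) with hKe
  have hidx : ∀ e ∈ E, e ≠ 1 → Ye e ≠ ⊥ → (Ke e).relIndex E = 3 := by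
    intro e he he' hne
    obtain ⟨hstr, hcard⟩ := hY e he he' hne
    have hY2 : IsPGroup 2 (Ye e) := hW.to_le ((hYN e he).trans inf_le_left)
    have hYone : OneInv (Ye e) := (hfix e he he').mono (hYN e he)
    have hEY : E ≤ Subgroup.normalizer (Ye e : Set G) := CfsgLib.right_le_normalizer_commutator E _
    obtain ⟨y, hy, hy1, hyz⟩ : ∃ y ∈ Ye e, y ≠ 1 ∧ y ≠ z := by
      by_contra hcon'
      push Not at hcon'
      have hle2 : Ye e ≤ Subgroup.zpowers z := fun u hu => by
        by_cases h : u = 1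
        · rw [h]; exact one_mem _
        · rw [hcon' u hu h]; exact Subgroup.mem_zpowers z
      have := Subgroup.card_le_of_le hle2
      rw [hcard, Nat.card_zpowers, hz.z2] at this
      omega
    set K := (Ke e).subgroupOf E with hK
    have hne1 : K.index ≠ 1 := by
      intro h1
      rw [Subgroup.index_eq_one, hK, Subgroup.subgroupOf_eq_top] at h1
      refine hne ?_
      have : ⁅Ye e, E⁆ = ⊥ := Subgroup.commutator_eq_bot_iff_le_centralizer.mpr
        (Subgroup.le_centralizer_iff.mp (h1.trans inf_le_right))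
      rwa [hstr.gen] at this
    have hle : 2 * K.index ≤ 6 := by
      have hz1 : z ≠ 1 := hstr.ne_one
      let f : (↥E ⧸ K) × Bool → {u : G // u ∈ Ye e ∧ u ≠ 1 ∧ u ≠ z} := fun w =>
        ⟨(w.1.out : G) * y * (w.1.out : G)⁻¹ * (bif w.2 then z else 1), by
          have hm : (w.1.out : G) * y * (w.1.out : G)⁻¹ ∈ Ye e := (Subgroup.mem_normalizer_iff.mp (hEY w.1.out.2) y).mp hy
          have hfz := hz.zfix _ w.1.out.2
          have hn1 : (w.1.out : G) * y * (w.1.out : G)⁻¹ ≠ 1 := fun h => hy1 (conj_eq_one_iff.mp h)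
          have hnz : (w.1.out : G) * y * (w.1.out : G)⁻¹ ≠ z := fun h => hyz (by
            calc y = (w.1.out : G)⁻¹ * ((w.1.out : G) * y * (w.1.out : G)⁻¹) * w.1.out := by group
              _ = (w.1.out : G)⁻¹ * (z * w.1.out) := by rw [h]; group
              _ = z := by rw [← hfz, inv_mul_cancel_left])
          cases w.2
          · refine ⟨?_, ?_, ?_⟩ <;> simp only [cond_false, mul_one]
            exacts [hm, hn1, hnz]
          · refine ⟨mul_mem hm hstr.zX, fun h => hnz ?_, fun h => hn1 (mul_eq_right.mp h)⟩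
            simp only [cond_true] at h
            rw [eq_inv_of_mul_eq_one_left h, inv_eq_of_mul_eq_one_right (show z * z = 1 by rw [← pow_two, hzz])]⟩
      have hf : Function.Injective f := by
        rintro ⟨g, i⟩ ⟨h', j⟩ hgh
        have hgh' : (g.out : G) * y * (g.out : G)⁻¹ * (bif i then z else 1) = (h'.out : G) * y * (h'.out : G)⁻¹ * (bif j then z else 1) := congrArg Subtype.val hgh
        set a : G := (h'.out : G)⁻¹ * g.out with ha
        have haE : a ∈ E := mul_mem (inv_mem h'.out.2) g.out.2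
        have hfix0 : a * y * a⁻¹ * y⁻¹ = 1 ∨ a * y * a⁻¹ * y⁻¹ = z := by
          have hzy : z * y = y * z := hstr.central y hy
          have hzh : (h'.out : G)⁻¹ * z * h'.out = z := by rw [mul_assoc, ← hz.zfix _ h'.out.2, inv_mul_cancel_left]
          have hzi : z⁻¹ = z := inv_eq_of_mul_eq_one_right (by rw [← pow_two, hzz])
          have e0 : a * y * a⁻¹ * y⁻¹ = (h'.out : G)⁻¹ * ((g.out : G) * y * (g.out : G)⁻¹) * h'.out * y⁻¹ := by rw [ha]; group
          rw [e0, eq_mul_inv_of_mul_eq hgh']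
          cases i <;> cases j <;> simp only [cond_true, cond_false, mul_one, inv_one]
          · exact Or.inl (by group)
          · refine Or.inr ?_
            calc (h'.out : G)⁻¹ * ((h'.out : G) * y * (h'.out : G)⁻¹ * z) * h'.out * y⁻¹ = y * ((h'.out : G)⁻¹ * z * h'.out) * y⁻¹ := by group
              _ = z := by rw [hzh, ← hzy, mul_inv_cancel_right]
          · refine Or.inr ?_
            rw [hzi]
            calc (h'.out : G)⁻¹ * ((h'.out : G) * y * (h'.out : G)⁻¹ * z) * h'.out * y⁻¹ = y * ((h'.out : G)⁻¹ * z * h'.out) * y⁻¹ := by group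
              _ = z := by rw [hzh, ← hzy, mul_inv_cancel_right]
          · exact Or.inl (by rw [mul_inv_cancel_right]; group)
        have hcent := hstr.centralize_of_fix hY2 hYone hcard hEodd (fun b hb => hEc b hb a haE) (hEY haE)
          (hz.zfix a haE) hEY hy hy1 hyz hfix0
        have hgeq : g = h' := by
          rw [← QuotientGroup.out_eq' g, ← QuotientGroup.out_eq' h', eq_comm, QuotientGroup.eq]
          refine ⟨haE, Subgroup.mem_centralizer_iff.mpr fun u hu => (hcent u hu).symm⟩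
        subst hgeq
        refine Prod.ext rfl ?_
        have := mul_left_cancel hgh'
        cases i <;> cases j <;> first | rfl | exact absurd this hz1 | exact absurd this.symm hz1
      have h6 : Nat.card {u : G // u ∈ Ye e ∧ u ≠ 1 ∧ u ≠ z} + 2 ≤ 8 := by
        rw [← hcard]
        have e8 : Nat.card (Ye e) = Nat.card ↥(Ye e : Set G) := rfl
        rw [e8, Nat.card_coe_set_eq, show Nat.card {u : G // u ∈ Ye e ∧ u ≠ 1 ∧ u ≠ z} = ({u : G | u ∈ Ye e ∧ u ≠ 1 ∧ u ≠ z}).ncard from Nat.card_coe_set_eq _,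
          ← Set.ncard_pair hstr.ne_one.symm, ← Set.ncard_union_eq (by
            rw [Set.disjoint_left]; rintro u ⟨-, h1, h2⟩ (rfl | rfl)
            · exact h1 rfl
            · exact h2 rfl)]
        refine Set.ncard_le_ncard ?_
        rintro u (⟨hu, -⟩ | rfl | rfl)
        · exact hu
        · exact one_mem _
        · exact hstr.zX
      have := Nat.card_le_card_of_injective f hf
      rw [Nat.card_prod, ← Subgroup.index_eq_card, Nat.card_eq_fintype_card (α := Bool), Fintype.card_bool] at this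
      omega
    have hoddK : Odd K.index := Odd.of_dvd_nat hEodd (Subgroup.index_dvd_card K)
    show K.index = 3
    obtain ⟨j, hj⟩ := hoddK
    omega
  have hp3 : p = 3 := by
    have h3 : 3 ∣ Nat.card E := by rw [← hidx e2 he2 he2' hY2ne]; exact Subgroup.relIndex_dvd_card _ _
    rw [hk] at h3
    exact ((Nat.prime_dvd_prime_iff_eq Nat.prime_three Fact.out).mp (Nat.prime_three.dvd_of_dvd_pow h3)).symm
  -- equal pieces
  have heq : ∀ e ∈ E, e ≠ 1 → ∀ e' ∈ E, e' ≠ 1 → Ye e ≠ ⊥ → Ye e' ≠ ⊥ → ∀ g ∈ Ke e, g ∈ Ke e' → g ≠ 1 → Ye e = Ye e' := by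
    intro e he he' f hf hf' hne hnf g hg hg' hg1
    have hle : ∀ u ∈ E, u ≠ 1 → Ye u ≠ ⊥ → g ∈ Ke u → Ye u ≤ Ye g := by
      intro u hu hu' hune hgu
      have hle' : Ye u ≤ W ⊓ Subgroup.centralizer {g} := fun x hx => ⟨(hYN u hu hx).1,
        Subgroup.mem_centralizer_singleton_iff.mpr (Subgroup.mem_centralizer_iff.mp hgu.2 x hx)⟩
      calc Ye u = ⁅Ye u, E⁆ := ((hY u hu hu' hune).1.gen).symm
        _ ≤ Ye g := Subgroup.commutator_mono hle' le_rfl
    have h1 := hle e he he' hne hg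
    have h2 := hle f hf hf' hnf hg'
    have hgne : Ye g ≠ ⊥ := fun h0 => hne (le_bot_iff.mp (h0 ▸ h1))
    have c1 : Ye e = Ye g := Subgroup.eq_of_le_of_card_ge h1 (by rw [(hY g hg.1 hg1 hgne).2, (hY e he he' hne).2])
    have c2 : Ye f = Ye g := Subgroup.eq_of_le_of_card_ge h2 (by rw [(hY g hg.1 hg1 hgne).2, (hY f hf hf' hnf).2])
    rw [c1, c2]
  have hge9 : 9 ≤ Nat.card E := by
    rw [hk, hp3]
    rcases k with _ | _ | k
    · exfalso
      refine hnc ?_
      have := (Nat.card_eq_one_iff_unique.mp (by rw [hk, pow_zero] : Nat.card ↥E = 1)).1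
      exact isCyclic_of_subsingleton
    · exact absurd (isCyclic_of_prime_card (p := p) (by rw [hk, pow_one])) hnc
    · calc 9 = 3 ^ 2 := rfl
        _ ≤ _ := Nat.pow_le_pow_right (by norm_num) (by omega)
  obtain ⟨e3, he3, he3', hY3ne, hY23⟩ : ∃ e ∈ E, e ≠ 1 ∧ Ye e ≠ ⊥ ∧ Ye e ≠ Ye e2 := by
    by_contra hcon
    push Not at hcon
    have hWY : W ≤ Ye e2 := sup_centralizers hnc hEW hcop fun a ha ha' x hx => by
      obtain ⟨y, hy, c, hc, rfl⟩ := hNY a ha x hx
      refine mul_mem ?_ ?_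
      · by_cases h0 : Ye a = ⊥
        · rw [h0, Subgroup.mem_bot] at hy; rw [hy]; exact one_mem _
        · rwa [← hcon a ha ha' h0]
      · rcases hCz c hc with e | e <;> rw [e]
        · exact one_mem _
        · exact (hY e2 he2 he2' hY2ne).1.zX
    have hKbot : Ke e2 = ⊥ := by
      rw [← le_bot_iff, ← hfaith]
      exact inf_le_inf_left E (Subgroup.centralizer_le hWY)
    have := hidx e2 he2 he2' hY2ne
    rw [hKbot, Subgroup.relIndex_bot_left] at this
    omega
  have hKK : Ke e3 ⊓ Ke e2 = ⊥ := by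
    rw [eq_bot_iff]
    intro g hg
    by_contra hg1
    exact hY23 (heq e3 he3 he3' e2 he2 he2' hY3ne hY2ne g hg.1 hg.2 (fun h => hg1 (Subgroup.mem_bot.mpr h)))
  have hE9 : Nat.card E = 9 := by
    refine le_antisymm ?_ hge9
    calc Nat.card E = (Ke e3 ⊓ Ke e2).relIndex E := by rw [hKK, Subgroup.relIndex_bot_left]
      _ ≤ (Ke e3).relIndex E * (Ke e2).relIndex E := Subgroup.relIndex_inf_le
      _ = 9 := by rw [hidx e3 he3 he3' hY3ne, hidx e2 he2 he2' hY2ne]
  -- the family of pieces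
  let S : Finset (Subgroup G) := ((Set.toFinite {Y : Subgroup G | ∃ e ∈ E, e ≠ 1 ∧ Ye e ≠ ⊥ ∧ Ye e = Y}).toFinset)
  have hSmem : ∀ Y, Y ∈ S ↔ ∃ e ∈ E, e ≠ 1 ∧ Ye e ≠ ⊥ ∧ Ye e = Y := fun Y => Set.Finite.mem_toFinset _
  have hrep : ∀ Y : S, ∃ g : G, g ∈ E ∧ g ≠ 1 ∧ g ∈ Subgroup.centralizer ((Y : Subgroup G) : Set G) := by
    rintro ⟨Y, hYS⟩
    obtain ⟨e, he, he', -, rfl⟩ := (hSmem Y).mp hYS
    exact ⟨e, he, he', Subgroup.mem_centralizer_iff.mpr fun x hx =>
      Subgroup.mem_centralizer_singleton_iff.mp (hYN e he hx).2⟩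
  choose rep hrE hr1 hrC using hrep
  have hScard : S.card ≤ 4 := by
    let f : ↥S × Bool → {g : ↥E // g ≠ 1} := fun w =>
      ⟨⟨bif w.2 then rep w.1 else (rep w.1)⁻¹, by cases w.2 <;> simp [hrE]⟩, fun h => hr1 w.1 (by
        have := congrArg Subtype.val h
        cases h2 : w.2 <;> rw [h2] at this <;> simpa using this)⟩
    have hf : Function.Injective f := by
      rintro ⟨Y, i⟩ ⟨Y', j⟩ hh
      have hh' : (bif i then rep Y else (rep Y)⁻¹) = (bif j then rep Y' else (rep Y')⁻¹) :=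
        congrArg (fun w : {g : ↥E // g ≠ 1} => ((w : ↥E) : G)) hh
      have hYY : Y = Y' := by
        obtain ⟨e, he, he', hne, hYe1⟩ := (hSmem _).mp Y.2
        obtain ⟨f, hf, hf', hnf, hYe2⟩ := (hSmem _).mp Y'.2
        refine Subtype.ext ?_
        rw [← hYe1, ← hYe2]
        refine heq e he he' f hf hf' hne hnf (rep Y) ⟨hrE Y, by rw [hYe1]; exact hrC Y⟩ ⟨hrE Y, ?_⟩ (hr1 Y)
        show rep Y ∈ Subgroup.centralizer (Ye f : Set G)
        rw [hYe2]
        have hm := hrC Y'
        cases i <;> cases j <;> simp only [cond_true, cond_false] at hh'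
        · rwa [inv_inj.mp hh']
        · rw [← inv_inv (rep Y), hh']; exact inv_mem hm
        · rw [hh']; exact inv_mem hm
        · rwa [hh']
      subst hYY
      refine Prod.ext rfl ?_
      have hne : rep Y ≠ (rep Y)⁻¹ := fun h => by
        have h2 : rep Y ^ 2 = 1 := by rw [pow_two]; nth_rw 2 [h]; exact mul_inv_cancel _
        obtain ⟨m, hm⟩ := hodd _ (hrE Y)
        have h3 := pow_orderOf_eq_one (rep Y)
        rw [hm, pow_succ, pow_mul, h2, one_pow, one_mul] at h3
        exact hr1 Y h3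
      cases i <;> cases j <;> first | rfl | exact absurd hh' hne | exact absurd hh'.symm hne
    have h8 := Nat.card_le_card_of_injective f hf
    letI := Fintype.ofFinite ↥E
    have e1 : Nat.card {g : ↥E // g ≠ 1} = Nat.card ↥E - 1 := by
      rw [Nat.card_eq_fintype_card, Fintype.card_subtype_compl, Fintype.card_subtype_eq, Nat.card_eq_fintype_card]
    rw [Nat.card_prod, Nat.card_eq_fintype_card (α := Bool), Fintype.card_bool, e1, hE9, Nat.card_eq_fintype_card (α := ↥S), Fintype.card_coe] at h8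
    omega
  have hz2c : Nat.card (Subgroup.zpowers z) = 2 := by rw [Nat.card_zpowers, hz.z2]
  rw [hWX]
  refine ⟨hE9, z, hz, ?_, ?_⟩
  · obtain ⟨h2s, h2c⟩ := hY e2 he2 he2' hY2ne
    obtain ⟨h3s, h3c⟩ := hY e3 he3 he3' hY3ne
    have hYX : ∀ e ∈ E, Ye e ≤ X := fun e he => hWX ▸ (hYN e he).trans inf_le_left
    have hnorm : Ye e3 ≤ Subgroup.normalizer (Ye e2 : Set G) := (hYX e3 he3).trans (hz.normalizes (hYX e2 he2) h2s.zX)
    have h1 := CfsgLib.ZJ.card_mul_eq_of_le_normalizer hnorm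
    have hinf : Nat.card ↥(Ye e2 ⊓ Ye e3) ≤ 2 := by
      rw [← hz2c]
      refine Subgroup.card_le_of_le fun x hx => ?_
      rcases h2s.inv_subgroup (hW.to_le ((hYN e2 he2).trans inf_le_left)) ((hfix e2 he2 he2').mono (hYN e2 he2)) h2c hEodd
        (S := Ye e2 ⊓ Ye e3) inf_le_left ⟨h2s.zX, h3s.zX⟩
        (fun a ha => Subgroup.inf_normalizer_le_normalizer_inf ⟨CfsgLib.right_le_normalizer_commutator E _ ha, CfsgLib.right_le_normalizer_commutator E _ ha⟩) with h | h
      · rcases h x hx with e | e <;> rw [e]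
        · exact one_mem _
        · exact Subgroup.mem_zpowers z
      · exfalso
        exact hY23 (Subgroup.eq_of_le_of_card_ge (h ▸ inf_le_right) (by rw [h2c, h3c])).symm
    rw [h2c, h3c] at h1
    have h4 : Nat.card ↥(Ye e2 ⊔ Ye e3) ≤ Nat.card X := Subgroup.card_le_of_le (sup_le (hYX e2 he2) (hYX e3 he3))
    have h5 := Nat.mul_le_mul_left (Nat.card ↥(Ye e2 ⊔ Ye e3)) hinf
    omega
  · have hjoin : X ≤ Subgroup.zpowers z ⊔ S.sup id := by
      refine hWX ▸ sup_centralizers hnc hEW hcop fun a ha ha' x hx => ?_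
      obtain ⟨y, hy, c, hc, rfl⟩ := hNY a ha x hx
      refine mul_mem ?_ (Subgroup.mem_sup_left ?_)
      · by_cases h0 : Ye a = ⊥
        · rw [h0, Subgroup.mem_bot] at hy; rw [hy]; exact one_mem _
        · exact Subgroup.mem_sup_right (Finset.le_sup (f := id) ((hSmem _).mpr ⟨a, ha, ha', h0, rfl⟩) hy)
      · rcases hCz c hc with e | e <;> rw [e]
        · exact one_mem _
        · exact Subgroup.mem_zpowers z
    have hb := card_join_le (W := X) (Z := Subgroup.zpowers z)
      (hz.normalizes (Subgroup.zpowers_le.mpr hz.zX) (Subgroup.mem_zpowers z)) (Subgroup.zpowers_le.mpr hz.zX) hz2c.le S (fun Y hYS => by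
        obtain ⟨e, he, he', hne, rfl⟩ := (hSmem Y).mp hYS
        obtain ⟨hs', hc'⟩ := hY e he he' hne
        have hle : Ye e ≤ X := hWX ▸ (hYN e he).trans inf_le_left
        exact ⟨Subgroup.zpowers_le.mpr hs'.zX, hle, hz.normalizes hle hs'.zX, by rw [hc', hz2c]⟩)
    calc Nat.card X ≤ Nat.card ↥(Subgroup.zpowers z ⊔ S.sup id) := Subgroup.card_le_of_le hjoin
      _ ≤ 2 * 4 ^ S.card := hb.2
      _ ≤ 2 * 4 ^ 4 := Nat.mul_le_mul_left 2 (Nat.pow_le_pow_right (by norm_num) hScard)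
      _ = 512 := rfl

end Ambient

/-- Let p be an odd prime, W a finite 2-group and E a non-cyclic abelian p-subgroup of Aut(W) such that, for every nontrivial e ∈ E, the fixed points of e in W contain at most one involution. Then E has order 9, W is extraspecial of order 2⁵, 2⁷ or 2⁹, and the common fixed points of E in W form exactly the centre Z(W). -/
theorem result {W : Type*} [Group W] [Finite W] (hW : IsPGroup 2 W) {p : ℕ} [Fact p.Prime] (hp : p ≠ 2) (E : Subgroup (MulAut W)) (hE : IsPGroup p ↥E) (hab : IsMulCommutative ↥E) (hnc : ¬ IsCyclic ↥E) (hfix : ∀ e ∈ E, e ≠ 1 → ∀ x y : W, orderOf x = 2 → orderOf y = 2 → e x = x → e y = y → x = y) : Nat.card ↥E = 9 ∧ Cfsg.IsExtraspecial 2 W ∧ (Nat.card W = 2 ^ 5 ∨ Nat.card W = 2 ^ 7 ∨ Nat.card W = 2 ^ 9) ∧ {x : W | ∀ e ∈ E, e x = x} = (Subgroup.center W : Set W) := by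
  let Γ := W ⋊[E.subtype] ↥E
  let i : W →* Γ := SemidirectProduct.inl
  let j : ↥E →* Γ := SemidirectProduct.inr
  haveI : Finite Γ := Finite.of_equiv _ SemidirectProduct.equivProd.symm
  set W' := i.range with hW'
  set E' := j.range with hE'
  have hi : Function.Injective i := SemidirectProduct.inl_injective
  have hj : Function.Injective j := SemidirectProduct.inr_injective
  have hconj : ∀ (a : ↥E) (x : W), j a * i x * (j a)⁻¹ = i ((a : MulAut W) x) := fun a x => by
    rw [← map_inv]; exact (SemidirectProduct.inl_aut a x).symm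
  have hord : ∀ x : W, orderOf (i x) = orderOf x := fun x => orderOf_injective i hi x
  have hmem : ∀ (a : ↥E) (x : W), i x ∈ Subgroup.centralizer ({j a} : Set Γ) ↔ (a : MulAut W) x = x := by
    intro a x
    rw [Subgroup.mem_centralizer_singleton_iff]
    constructor
    · intro h
      apply hi
      rw [← hconj a x, ← h, mul_inv_cancel_right]
    · intro h
      have := hconj a x
      rw [h, mul_inv_eq_iff_eq_mul] at this
      exact this.symm
  have habE : IsMulCommutative ↥E' := ⟨⟨by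
    rintro ⟨_, a, rfl⟩ ⟨_, b, rfl⟩
    exact Subtype.ext (show j a * j b = j b * j a by rw [← map_mul, ← map_mul, hab.is_comm.comm a b])⟩⟩
  have hEW : E' ≤ Subgroup.normalizer (W' : Set Γ) := by
    rintro _ ⟨a, rfl⟩
    refine Subgroup.mem_normalizer_iff.mpr fun y => ⟨?_, ?_⟩
    · rintro ⟨x, rfl⟩; exact ⟨_, (hconj a x).symm⟩
    · rintro ⟨x, hx⟩
      refine ⟨((a⁻¹ : ↥E) : MulAut W) x, ?_⟩
      rw [← hconj a⁻¹ x, hx, map_inv]; simp only [mul_assoc]
      rw [inv_mul_cancel_left]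
      conv_lhs => rw [mul_inv_cancel]
      rw [mul_one]
  have hfaith : E' ⊓ Subgroup.centralizer (W' : Set Γ) = ⊥ := by
    rw [eq_bot_iff]
    rintro _ ⟨⟨a, rfl⟩, ha⟩
    refine Subgroup.mem_bot.mpr ?_
    have : (a : MulAut W) = 1 := MulEquiv.ext fun x =>
      (hmem a x).mp (Subgroup.mem_centralizer_singleton_iff.mpr (Subgroup.mem_centralizer_iff.mp ha (i x) ⟨x, rfl⟩))
    rw [show a = 1 from Subtype.ext this, map_one]
  have hone : ∀ e ∈ E', e ≠ 1 → OneInv (W' ⊓ Subgroup.centralizer ({e} : Set Γ)) := by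
    rintro _ ⟨a, rfl⟩ hne x ⟨⟨x, rfl⟩, hx⟩ y ⟨⟨y, rfl⟩, hy⟩ ox oy
    refine congrArg i (hfix a a.2 (fun h => hne ?_) x y (by rwa [← hord]) (by rwa [← hord]) ((hmem a x).mp hx) ((hmem a y).mp hy))
    rw [show a = 1 from Subtype.ext h, map_one]
  obtain ⟨h9, z, hz, hlo, hhi⟩ := ambient (p := p) (hW.of_equiv (MonoidHom.ofInjective hi))
    hp (hE.of_equiv (MonoidHom.ofInjective hj)) habE
    (fun h => hnc ((MonoidHom.ofInjective hj).isCyclic.mpr h)) hEW hfaith hone
  have hcW : Nat.card ↥W' = Nat.card W := (Nat.card_congr (MonoidHom.ofInjective hi).toEquiv).symm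
  have hcE : Nat.card ↥E' = Nat.card ↥E := (Nat.card_congr (MonoidHom.ofInjective hj).toEquiv).symm
  obtain ⟨z₀, hz₀⟩ := hz.zX
  have hz2 : orderOf z₀ = 2 := by rw [← hord, hz₀]; exact hz.z2
  have hzc : ∀ x : W, z₀ * x = x * z₀ := fun x => hi (by rw [map_mul, map_mul, hz₀]; exact hz.central _ ⟨x, rfl⟩)
  have hcent : Subgroup.center W = Subgroup.zpowers z₀ := by
    refine le_antisymm (fun x hx => ?_) (Subgroup.zpowers_le.mpr (Subgroup.mem_center_iff.mpr fun x => (hzc x).symm))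
    rcases hz.center (i x) ⟨x, rfl⟩ (by
      rintro _ ⟨y, rfl⟩
      rw [← map_mul, ← map_mul, (Subgroup.mem_center_iff.mp hx y).symm]) with h | h
    · rw [hi (h.trans (map_one i).symm)]; exact one_mem _
    · rw [hi (h.trans hz₀.symm)]; exact Subgroup.mem_zpowers _
  have hcard2 : Nat.card ↥(Subgroup.center W) = 2 := by rw [hcent, Nat.card_zpowers, hz2]
  have hcomm' : ∀ x y : W, ⁅x, y⁆ ∈ Subgroup.center W := by
    intro x y
    rw [hcent]
    rcases hz.comm (i x) ⟨x, rfl⟩ (i y) ⟨y, rfl⟩ with h | h <;> rw [← map_commutatorElement] at h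
    · rw [hi (h.trans (map_one i).symm)]; exact one_mem _
    · rw [hi (h.trans hz₀.symm)]; exact Subgroup.mem_zpowers _
  have hsq : ∀ x : W, x ^ 2 ∈ Subgroup.center W := by
    intro x
    rw [hcent]
    rcases hz.sq (i x) ⟨x, rfl⟩ with h | h <;> rw [← map_pow] at h
    · rw [hi (h.trans (map_one i).symm)]; exact one_mem _
    · rw [hi (h.trans hz₀.symm)]; exact Subgroup.mem_zpowers _
  haveI : Fact (Nat.Prime 2) := ⟨Nat.prime_two⟩
  have hne : commutator W ≠ ⊥ := by
    intro h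
    have hWa : ∀ x y : W, x * y = y * x := fun x y => commutatorElement_eq_one_iff_mul_comm.mp (by
      have : ⁅x, y⁆ ∈ commutator W := by
        rw [commutator_def]; exact Subgroup.commutator_mem_commutator (Subgroup.mem_top x) (Subgroup.mem_top y)
      rwa [h, Subgroup.mem_bot] at this)
    have htop : Subgroup.center W = ⊤ := eq_top_iff.mpr fun x _ => Subgroup.mem_center_iff.mpr fun y => (hWa x y).symm
    rw [htop, Subgroup.card_top] at hcard2
    have := hcW.trans hcard2
    linarith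
  have hcc : commutator W = Subgroup.center W := by
    have hle : commutator W ≤ Subgroup.center W := by
      rw [commutator_def, Subgroup.commutator_le]; exact fun x _ y _ => hcomm' x y
    refine Subgroup.eq_of_le_of_card_ge hle ?_
    rw [hcard2]
    have := (Subgroup.one_lt_card_iff_ne_bot (commutator W)).mpr hne
    omega
  have hfrat : frattini W = Subgroup.center W := by
    refine le_antisymm (CfsgLib.RankFrattini.frattini_le_of_elementary hW _ hcomm' hsq) ?_
    rw [← hcc]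
    exact CfsgLib.commutator_le_frattini_pGroup hW
  have hext : Cfsg.IsExtraspecial 2 W := ⟨⟨hW, hfrat, hcc⟩, hcard2⟩
  refine ⟨hcE ▸ h9, hext, ?_, ?_⟩
  · obtain ⟨n, -, hn⟩ := CfsgLib.ExtraspecialIndexP.exists_card hext
    rw [hcW, hn] at hlo hhi
    have h1 : 2 ≤ n := by
      by_contra h
      have : 2 ^ (2 * n + 1) ≤ 2 ^ 3 := Nat.pow_le_pow_right (by norm_num) (by omega)
      omega
    have h2 : n ≤ 4 := by
      by_contra h
      have : 2 ^ 11 ≤ 2 ^ (2 * n + 1) := Nat.pow_le_pow_right (by norm_num) (by omega)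
      omega
    rw [hn]
    interval_cases n
    · exact Or.inl rfl
    · exact Or.inr (Or.inl rfl)
    · exact Or.inr (Or.inr rfl)
  · ext x
    constructor
    · intro hx
      rcases hz.fixed (i x) ⟨x, rfl⟩ (by
        rintro _ ⟨a, rfl⟩
        rw [commutatorElement_eq_one_iff_mul_comm.mpr (Subgroup.mem_centralizer_singleton_iff.mp ((hmem a x).mpr (hx a a.2)))]
        exact one_mem _) with h | h
      · rw [hi (h.trans (map_one i).symm)]; exact one_mem _
      · rw [hi (h.trans hz₀.symm), SetLike.mem_coe, hcent]; exact Subgroup.mem_zpowers _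
    · intro hx e he
      have hx' : x ∈ Subgroup.zpowers z₀ := hcent ▸ hx
      have hez : e z₀ = z₀ := (hmem ⟨e, he⟩ z₀).mp (Subgroup.mem_centralizer_singleton_iff.mpr (by
        rw [hz₀]; exact (hz.zfix _ ⟨⟨e, he⟩, rfl⟩).symm))
      obtain ⟨n, rfl⟩ := Subgroup.mem_zpowers_iff.mp hx'
      rw [map_zpow, hez]

end Cfsg.Agent.S2934
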