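import Cfsg.Statements.S2937
import Cfsg.Agent.Lib.PMinimalLie.All
import Cfsg.Agent.Lib.PMinimalLie.Linear
import Cfsg.Agent.Lib.PMinimalLie.Twisted
import Cfsg.Agent.Lib.PMinimalLie.Small
import Cfsg.Agent.Lib.PMinimalLie.U33
import Cfsg.Agent.Lib.Components
import Cfsg.Agent.Lib.Lagrangian
import Cfsg.Agent.Lib.PGO.Proper
import Cfsg.Agent.Lib.LieRigid.SimpleChar
import Cfsg.Agent.S2936

set_option autoImplicit false
open Cfsg

namespace Cfsg.Agent.S2937

/-- Let X be a finite p-minimal group whose generalized Fitting subgroup K = F*(X) is a simple group of Lie type in characteristic p, and let U be a Sylow p-subgroup of K. Then N_X(U) is a maximal subgroup of X, and either K has Lie rank one (K ≅ PSL₂(pᵉ), PSU₃(pᵉ), a Suzuki group for p = 2, or a Ree group or PSL₂(8) for p = 3), or p = 2, K ≠ X and K is isomorphic to PSL₃(2ᵉ) or to PSp₄(2ᵉ) (e ≥ 2) or to the alternating group of degree 6. -/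
theorem result {X : Type*} [Group X] [Finite X] {p : ℕ} [Fact p.Prime] (hX : Cfsg.IsPMinimal p X) (hK : Cfsg.IsChevSimple p ↥(Cfsg.generalizedFittingSubgroup X)) (U : Sylow p ↥(Cfsg.generalizedFittingSubgroup X)) : IsCoatom (Subgroup.normalizer (((U : Subgroup ↥(Cfsg.generalizedFittingSubgroup X)).map (Cfsg.generalizedFittingSubgroup X).subtype : Subgroup X) : Set X)) ∧ (Cfsg.IsLieRankOneChar p ↥(Cfsg.generalizedFittingSubgroup X) ∨ (p = 2 ∧ Cfsg.generalizedFittingSubgroup X ≠ ⊤ ∧ ((∃ (F : Type) (_ : Field F) (_ : Fintype F) (_ : CharP F 2), Nonempty (↥(Cfsg.generalizedFittingSubgroup X) ≃* Matrix.ProjectiveSpecialLinearGroup (Fin 3) F)) ∨ (∃ (F : Type) (_ : Field F) (_ : Fintype F) (_ : CharP F 2), 4 ≤ Fintype.card F ∧ Nonempty (↥(Cfsg.generalizedFittingSubgroup X) ≃* Cfsg.PSp 2 F)) ∨ Nonempty (↥(Cfsg.generalizedFittingSubgroup X) ≃* ↥(alternatingGroup (Fin 6)))))) := by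
  haveI : (Cfsg.generalizedFittingSubgroup X).Normal := inferInstance
  -- the socle is simple
  haveI : IsSimpleGroup ↥(Cfsg.generalizedFittingSubgroup X) := CfsgLib.PMinimalLie.isSimpleGroup_chevSimple hK
  have hnp : ¬ IsPGroup p ↥(Cfsg.generalizedFittingSubgroup X) := CfsgLib.PMinimalLie.not_isPGroup_socle hX rfl
  have hU : (U : Subgroup ↥(Cfsg.generalizedFittingSubgroup X)) ≠ ⊥ := CfsgLib.PMinimalLie.sylow_ne_bot hK U
  rcases CfsgLib.PMinimalLie.cases_chevSimple hK hnp with h | ⟨h, hr⟩ | ⟨rfl, h, hr⟩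
  · exact (CfsgLib.PMinimalLie.false_of_split2 hX (Cfsg.generalizedFittingSubgroup X) hnp U hU h).elim
  · exact ⟨CfsgLib.PMinimalLie.coatom_of_rankOne hX (Cfsg.generalizedFittingSubgroup X) hnp U hU h, Or.inl hr⟩
  · obtain ⟨h1, h2⟩ := CfsgLib.PMinimalLie.coatom_of_max2 hX (Cfsg.generalizedFittingSubgroup X) hnp U hU h
    exact ⟨h1, Or.inr ⟨rfl, h2, hr⟩⟩

end Cfsg.Agent.S2937
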