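import Cfsg.Statements.S2939
import Mathlib

set_option autoImplicit false
set_option linter.unusedVariables false
open Cfsg
open scoped commutatorElement

namespace Cfsg.Agent.S2939


theorem members_conj {G : Type*} [Group G] [Finite G] {p : ℕ} [Fact p.Prime] {𝓕 : Set (Subgroup G)}
    (h𝓕 : Cfsg.IsNormalSet 𝓕) {S Y : Subgroup G} (hY : Y ∈ Cfsg.sylowMembers p 𝓕 S) (v : G) :
    Y.map (MulAut.conj v).toMonoidHom ∈ Cfsg.sylowMembers p 𝓕 (S.map (MulAut.conj v).toMonoidHom) := by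
  obtain ⟨hYF, P, hP⟩ := hY
  refine ⟨by simpa [Cfsg.subgroupConjRight] using h𝓕 Y hYF v⁻¹, ?_⟩
  set e := Y.equivMapOfInjective (MulAut.conj v).toMonoidHom (MulEquiv.injective (MulAut.conj v)) with he
  refine ⟨P.mapSurjective (f := e.toMonoidHom) e.surjective, ?_⟩
  show ((P : Subgroup ↥Y).map e.toMonoidHom).map _ = _
  rw [← Subgroup.map_inf _ _ _ (MulEquiv.injective (MulAut.conj v)), ← hP, Subgroup.map_map, Subgroup.map_map]
  congr 1

theorem prefix_succ {G : Type*} [Group G] {n : ℕ} (y : Fin n → G) (i : ℕ) (h : i < n) :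
    ((List.ofFn y).take (i + 1)).prod = ((List.ofFn y).take i).prod * y ⟨i, h⟩ := by
  rw [List.prod_take_succ _ _ (by rwa [List.length_ofFn]), List.getElem_ofFn]

theorem map_conj_conj {G : Type*} [Group G] (a b : G) (H : Subgroup G) :
    (H.map (MulAut.conj b).toMonoidHom).map (MulAut.conj a).toMonoidHom = H.map (MulAut.conj (a * b)).toMonoidHom := by
  rw [Subgroup.map_map]; congr 1; ext z; simp [mul_assoc]

theorem fusion_of_controls {G : Type*} [Group G] [Finite G] {p : ℕ} [Fact p.Prime] {𝓕 : Set (Subgroup G)}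
    (h𝓕 : Cfsg.IsNormalSet 𝓕) (hc : Cfsg.ControlsSylowIntersections p 𝓕) :
    Cfsg.FamilyStronglyControlsFusion p 𝓕 := by
  intro S A g hA ⟨a, ha, ha1⟩ hAg
  set T : Sylow p G := g • S with hT
  have hTeq : (T : Subgroup G) = (S : Subgroup G).map (MulAut.conj g).toMonoidHom := by
    rw [hT, Sylow.coe_subgroup_smul]; rfl
  have hAT : ∀ b ∈ A, b ∈ (T : Subgroup G) := fun b hb => by
    rw [hTeq, Subgroup.mem_map_equiv, MulAut.conj_symm_apply]
    exact hAg ⟨b, hb, rfl⟩
  by_cases hST : S = T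
  · refine ⟨0, Fin.elim0, Fin.elim0, g, ?_, fun i => i.elim0, by simp, fun i => i.elim0⟩
    exact Sylow.smul_eq_iff_mem_normalizer.mp hST.symm
  obtain ⟨n, c, X, x, hc0, hcn, hstep⟩ := hc S T hST (fun h => ha1 (Subgroup.mem_bot.mp (h ▸ Subgroup.mem_inf.mpr ⟨hA ha, hAT a ha⟩)))
  let u : ℕ → G := fun i => Nat.rec (1 : G) (fun i ui => if h : i < n then x ⟨i, h⟩ * ui else ui) i
  have hu1 : ∀ i (h : i < n), u (i + 1) = x ⟨i, h⟩ * u i := fun i h => by
    show (if h : i < n then x ⟨i, h⟩ * u i else u i) = _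
    rw [dif_pos h]
  let y : Fin n → G := fun i => (u i)⁻¹ * x i * u i
  have hpre : ∀ i ≤ n, ((List.ofFn y).take i).prod = u i := by
    intro i
    induction i with
    | zero => intro _; simp [u]
    | succ i ih =>
      intro h
      rw [prefix_succ y i h, ih (Nat.le_of_succ_le h), hu1 i h]
      simp [y, mul_assoc]
  have hci : ∀ i (h : i < n + 1), (c ⟨i, h⟩ : Subgroup G) = (S : Subgroup G).map (MulAut.conj (u i)).toMonoidHom := by
    intro i
    induction i with
    | zero =>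
      intro h
      rw [show (⟨0, h⟩ : Fin (n + 1)) = 0 from rfl, hc0]
      ext z; simp [u]
    | succ i ih =>
      intro h
      have h' : i < n := Nat.lt_of_succ_lt_succ h
      have e := (hstep ⟨i, h'⟩).2.2.2.1
      rw [show (⟨i, h'⟩ : Fin n).castSucc = ⟨i, Nat.lt_succ_of_lt h'⟩ from rfl, ih] at e
      have e2 := congrArg (fun H => H.map (MulAut.conj (x ⟨i, h'⟩)).toMonoidHom) e
      simp only [Cfsg.subgroupConjRight, map_conj_conj, mul_inv_cancel] at e2
      rw [← hu1 i h'] at e2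
      rw [← e2]
      ext z; simp
  refine ⟨n, fun i => (X i).map (MulAut.conj (u i)⁻¹).toMonoidHom, y, (u n)⁻¹ * g, ?_, fun i => ⟨?_, ?_⟩, ?_, fun i => ?_⟩
  · refine Sylow.smul_eq_iff_mem_normalizer.mp (Sylow.ext ?_)
    have e := hci n (Nat.lt_succ_self n)
    rw [show (⟨n, Nat.lt_succ_self n⟩ : Fin (n + 1)) = Fin.last n from rfl, hcn, hTeq] at e
    rw [Sylow.coe_subgroup_smul]
    show (S : Subgroup G).map (MulAut.conj ((u n)⁻¹ * g)).toMonoidHom = S
    rw [← map_conj_conj, e, map_conj_conj, inv_mul_cancel]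
    ext z; simp
  · have h1 := members_conj h𝓕 (hstep i).1 (u i)⁻¹
    rw [show i.castSucc = ⟨i.val, Nat.lt_succ_of_lt i.2⟩ from rfl, hci, map_conj_conj, inv_mul_cancel] at h1
    convert h1 using 2
    ext z; simp
  · exact ⟨x i, (hstep i).2.2.1, by simp [y]⟩
  · rw [show (List.ofFn y).prod = ((List.ofFn y).take n).prod by rw [List.take_of_length_le (by simp)], hpre n le_rfl,
      mul_inv_cancel_left]
  · rintro _ ⟨b, hb, rfl⟩
    rw [hpre _ i.2]
    have h1 := Subgroup.mem_inf.mp ((hstep i).2.2.2.2 (Subgroup.mem_inf.mpr ⟨hA hb, hAT b hb⟩))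
    rw [show i.succ = ⟨i.val + 1, Nat.succ_lt_succ i.2⟩ from rfl, hci, Subgroup.mem_map_equiv, MulAut.conj_symm_apply] at h1
    refine ⟨h1.1, ?_⟩
    rw [hu1 _ i.2]
    refine ⟨(x i)⁻¹ * b * x i, (X i).mul_mem ((X i).mul_mem ((X i).inv_mem (hstep i).2.2.1) h1.2) (hstep i).2.2.1, ?_⟩
    simp [mul_assoc]

/-- Let p be a prime dividing the order of the finite group G and 𝓕 a family of subgroups of G closed under conjugation, with conjugates taken as X^g = g⁻¹Xg. Then 𝓕 controls Sylow p-intersections in G (any two distinct Sylow p-subgroups S and T with S ∩ T ≠ 1 are joined by a chain S = S₀, S₁, …, Sₙ = T of Sylow p-subgroups where, for each i, some member Xᵢ of 𝓕 meets both S_{i-1} and Sᵢ in Sylow p-subgroups of Xᵢ, satisfies S ∩ T ≤ Sᵢ ∩ Xᵢ, and contains an element xᵢ with Sᵢ^{xᵢ} = S_{i-1}) if and only if 𝓕 strongly controls p-fusion in G (whenever A is a subset of a Sylow p-subgroup S, A contains an element other than 1, and A^g ⊆ S, the element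 g factorises as g = y₁⋯yₙy with y ∈ N_G(S) and each yᵢ in a member Yᵢ of 𝓕 that meets S in a Sylow p-subgroup of Yᵢ, with A^{y₁⋯yᵢ} ⊆ S ∩ Yᵢ for each i). -/
theorem result {G : Type*} [Group G] [Finite G] {p : ℕ} [Fact p.Prime] (hdiv : p ∣ Nat.card G) (𝓕 : Set (Subgroup G)) (h𝓕 : Cfsg.IsNormalSet 𝓕) : Cfsg.ControlsSylowIntersections p 𝓕 ↔ Cfsg.FamilyStronglyControlsFusion p 𝓕 := by
  refine ⟨fusion_of_controls h𝓕, fun hf S T hST hD => ?_⟩
  obtain ⟨g, hg⟩ := MulAction.exists_smul_eq G S T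
  have hTeq : (T : Subgroup G) = (S : Subgroup G).map (MulAut.conj g).toMonoidHom := by
    rw [← hg, Sylow.coe_subgroup_smul]; rfl
  obtain ⟨d, hd, hd1⟩ : ∃ d ∈ (S : Subgroup G) ⊓ (T : Subgroup G), d ≠ 1 := by
    by_contra h
    push Not at h
    exact hD ((Subgroup.eq_bot_iff_forall _).mpr h)
  obtain ⟨n, Y, y, y₀, hy₀, hY, hgeq, hA⟩ := hf S (((S : Subgroup G) ⊓ (T : Subgroup G) : Subgroup G) : Set G) g
    (fun b hb => (Subgroup.mem_inf.mp hb).1) ⟨d, hd, hd1⟩ (by
      rintro _ ⟨b, hb, rfl⟩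
      have h1 := (Subgroup.mem_inf.mp hb).2
      rw [hTeq, Subgroup.mem_map_equiv, MulAut.conj_symm_apply] at h1
      exact h1)
  let v : ℕ → G := fun i => ((List.ofFn y).take i).prod
  have hv : ∀ i (h : i < n), v (i + 1) = v i * y ⟨i, h⟩ := prefix_succ y
  have hc : ∀ i : Fin (n + 1), ((v i) • S : Sylow p G).toSubgroup = (S : Subgroup G).map (MulAut.conj (v i)).toMonoidHom := fun i => by
    rw [Sylow.coe_subgroup_smul]; rfl
  have hYy : ∀ i : Fin n, (Y i).map (MulAut.conj (v (i + 1))).toMonoidHom = (Y i).map (MulAut.conj (v i)).toMonoidHom := fun i => by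
    rw [hv i i.2, ← map_conj_conj]
    congr 1
    refine Subgroup.eq_of_le_of_card_ge ?_ (Subgroup.card_map_of_injective (MulEquiv.injective (MulAut.conj _))).ge
    rintro _ ⟨w, hw, rfl⟩
    exact (Y i).mul_mem ((Y i).mul_mem (hY i).2 hw) ((Y i).inv_mem (hY i).2)
  refine ⟨n, fun i => (v i) • S, fun i => (Y i).map (MulAut.conj (v i)).toMonoidHom, fun i => v i * y i * (v i)⁻¹,
    by simp [v], ?_, fun i => ⟨?_, ?_, ?_, ?_, ?_⟩⟩
  · refine Sylow.ext ?_
    rw [hc, hTeq, hgeq]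
    have : v n = (List.ofFn y).prod := by show ((List.ofFn y).take n).prod = _; rw [List.take_of_length_le (by simp)]
    rw [show ((Fin.last n : Fin (n + 1)) : ℕ) = n from rfl, this, ← map_conj_conj]
    congr 1
    refine (Subgroup.eq_of_le_of_card_ge ?_ (Subgroup.card_map_of_injective (MulEquiv.injective (MulAut.conj _))).ge).symm
    rintro _ ⟨w, hw, rfl⟩
    exact (Subgroup.mem_normalizer_iff.mp hy₀ w).mp hw
  · rw [hc]
    exact members_conj h𝓕 (hY i).1 _
  · rw [hc]
    dsimp only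
    rw [← hYy i]
    exact members_conj h𝓕 (hY i).1 _
  · exact ⟨y i, (hY i).2, rfl⟩
  · rw [hc, hc, Cfsg.subgroupConjRight, map_conj_conj]
    congr 3
    show (v i * y i * (v i)⁻¹)⁻¹ * v (i + 1) = v i
    rw [hv i i.2]; group
  · intro b hb
    have h1 := hA i ⟨b, hb, rfl⟩
    rw [hc]
    refine Subgroup.mem_inf.mpr ⟨?_, ?_⟩
    · rw [Subgroup.mem_map_equiv, MulAut.conj_symm_apply]; exact h1.1
    · dsimp only
      rw [← hYy i, Subgroup.mem_map_equiv, MulAut.conj_symm_apply]; exact h1.2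

end Cfsg.Agent.S2939
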