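import Cfsg.Statements.S2940
import Cfsg.Agent.Lib.Local

set_option autoImplicit false
set_option linter.unusedVariables false
open Cfsg
open scoped commutatorElement

namespace Cfsg.Agent.S2940

open CfsgLib.Local

/-- Let S be a Sylow p-subgroup of the finite group G and G₁, G₂ subgroups containing S with G = G₁G₂. Then for every g ∈ G there is a Sylow p-subgroup U of G with S ∩ S^g ≤ U ≤ G₁ ∩ G₂^g (conjugates taken as X^g = g⁻¹Xg). -/
theorem result {G : Type*} [Group G] [Finite G] {p : ℕ} [Fact p.Prime] (S : Sylow p G) (G₁ G₂ : Subgroup G) (h1 : (S : Subgroup G) ≤ G₁) (h2 : (S : Subgroup G) ≤ G₂) (hfact : ∀ g : G, ∃ g₁ ∈ G₁, ∃ g₂ ∈ G₂, g = g₁ * g₂) (g : G) : ∃ U : Sylow p G, (S : Subgroup G) ⊓ Cfsg.subgroupConjRight g (S : Subgroup G) ≤ (U : Subgroup G) ∧ (U : Subgroup G) ≤ G₁ ⊓ Cfsg.subgroupConjRight g G₂ := by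
  obtain ⟨a, ha, b, hb, hab⟩ := hfact g⁻¹
  set C := G₁ ⊓ subgroupConjRight g G₂ with hC
  have hSC : (S : Subgroup G).map (MulAut.conj a).toMonoidHom ≤ C := by
    refine le_inf (map_conj_le fun x hx => G₁.mul_mem (G₁.mul_mem ha (h1 hx)) (G₁.inv_mem ha)) ?_
    refine map_conj_le fun x hx => mem_map_conj.2 ?_
    have : g = b⁻¹ * a⁻¹ := by rw [← inv_inv g, hab]; group
    rw [this]
    simpa [mul_assoc] using G₂.mul_mem (G₂.mul_mem (G₂.inv_mem hb) (h2 hx)) hb
  have hAC : (S : Subgroup G) ⊓ subgroupConjRight g (S : Subgroup G) ≤ C :=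
    inf_le_inf h1 (Subgroup.map_mono h2)
  obtain ⟨c, -, Q, hQ, hQC, hAQ, hBQ⟩ := exists_conj_isPGroup (isPGroup_of_le inf_le_left S.2)
    (S.2.map (MulAut.conj a).toMonoidHom) hAC hSC
  rw [map_conj_mul] at hBQ
  have hcard : Nat.card Q ≤ Nat.card ↥((S : Subgroup G).map (MulAut.conj (c * a)).toMonoidHom) := by
    obtain ⟨T, hT⟩ := hQ.exists_le_sylow
    rw [← Nat.card_congr (Subgroup.equivMapOfInjective _ _ (MulAut.conj (c * a)).injective).toEquiv]
    exact (Subgroup.card_le_of_le hT).trans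
      (Nat.le_of_eq (T.card_eq_multiplicity.trans S.card_eq_multiplicity.symm))
  have hQeq := Subgroup.eq_of_le_of_card_ge hBQ hcard
  refine ⟨(c * a) • S, ?_, ?_⟩
  all_goals
    rw [show (((c * a) • S : Sylow p G) : Subgroup G) =
      (S : Subgroup G).map (MulAut.conj (c * a)).toMonoidHom from rfl, hQeq]
  · exact hAQ
  · exact hQC

end Cfsg.Agent.S2940
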