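import Cfsg.Statements.S2943
import Mathlib
import Cfsg.Agent.Lib.JComp.Bridge

set_option autoImplicit false
set_option linter.unusedVariables false
open Cfsg
open scoped commutatorElement

namespace Cfsg.Agent.S2943

/-- Let G be a finite group of characteristic 2 type in which every 2-local subgroup is solvable and the centralizer of Ω₁(Z(S)) lies in N_G(S) for every Sylow 2-subgroup S, and let T be a nontrivial 2-subgroup (below, J is the Thompson subgroup generated by the elementary abelian 2-subgroups of largest order), L a subgroup in which T is a Sylow 2-subgroup with J(T) not contained in O₂(L) and C_G(O₂(L)) ≤ O₂(L), and K a J(T)-component contained in L. If Z(T) meets W_K = [Ω₁(Z(O₂(K))), K] nontrivially, then T normalizes K. -/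
theorem result {G : Type*} [Group G] [Finite G] (hL : Cfsg.IsCharacteristicTwoType G) (hN : ∀ N : Subgroup G, Cfsg.IsTwoLocal N → Group.IsSolvable ↥N)
    (hZ : ∀ S : Sylow 2 G, Subgroup.centralizer (Cfsg.omegaCenterOf (S : Subgroup G) : Set G) ≤ Subgroup.normalizer ((S : Subgroup G) : Set G)) (T : Subgroup G) (hT : IsPGroup 2 ↥T) (hT1 : T ≠ ⊥) (L : Subgroup G) (hLT : L ∈ Cfsg.jOvergroups T)
    (K : Subgroup G) (hK : Cfsg.IsJComponent T K) (hKL : K ≤ L)
    (hZW : T ⊓ Subgroup.centralizer (T : Set G) ⊓ Cfsg.wOf K ≠ ⊥) : T ≤ Subgroup.normalizer (K : Set G) := by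
  have hT' := hLT.1
  obtain ⟨P, hP⟩ := CfsgLib.JComp.exists_sylowOf hT'
  have hM := CfsgLib.JComp.over_of_core hN hZ hLT.2.2
  have hc := CfsgLib.JComp.isComp_subgroupOf hT'.1 hKL (CfsgLib.JComp.isComp_of_isJComponent hK)
  rw [← hP] at hc
  have h := hM.comp_sylow_le_normalizer P hc (by
    obtain ⟨⟨w, hw⟩, hw1⟩ := Subgroup.ne_bot_iff_exists_ne_one.mp hZW
    intro e
    obtain ⟨u, hu, hue⟩ := (CfsgLib.JComp.wOf_subgroupOf hKL).ge hw.2
    have hmem : u ∈ (P : Subgroup ↥L) ⊓ Subgroup.centralizer ((P : Subgroup ↥L) : Set ↥L) ⊓ Cfsg.wOf (K.subgroupOf L) := by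
      refine ⟨⟨?_, ?_⟩, hu⟩
      · rw [hP]; show (u : G) ∈ T; rw [show (u : G) = w from hue]; exact hw.1.1
      · intro t ht
        rw [hP] at ht
        refine Subtype.ext ?_
        show (t : G) * (u : G) = (u : G) * (t : G)
        rw [show (u : G) = w from hue]
        exact hw.1.2 t ht
    rw [e, Subgroup.mem_bot] at hmem
    refine hw1 (Subtype.ext ?_)
    show w = 1
    rw [← hue, hmem]
    rfl)
  intro t ht
  refine CfsgLib.JComp.mem_normalizer_of_conj_mem fun k hk => ?_
  exact (Subgroup.mem_normalizer_iff.mp (h (show (⟨t, hT'.1 ht⟩ : ↥L) ∈ (P : Subgroup ↥L) by rw [hP]; exact ht))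
    ⟨k, hKL hk⟩).mp hk

end Cfsg.Agent.S2943
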