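import Cfsg.Statements.S2951
import Cfsg.Agent.Lib.JComp.Pair

set_option autoImplicit false
set_option linter.unusedVariables false
open Cfsg
open scoped commutatorElement

namespace Cfsg.Agent.S2951

universe u
open CfsgLib.JComp CfsgLib.PLocal
variable {G : Type u} [Group G] [Finite G]

theorem not_fused (hZ : ∀ S : Sylow 2 G, Subgroup.centralizer (Cfsg.omegaCenterOf (S : Subgroup G) : Set G) ≤
    Subgroup.normalizer ((S : Subgroup G) : Set G)) (S : Sylow 2 G) {T K : Subgroup G} (hT : IsPGroup 2 ↥T)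
    (hK : IsJComponent T K) (hΩ : Nat.card ↥(omegaCenterOf (S : Subgroup G)) = 2) {z v g : G}
    (hz : z ∈ omegaCenterOf (S : Subgroup G)) (hz1 : z ≠ 1) (hv : v ∈ cof T K) (hg : g * v * g⁻¹ = z) : False := by
  have hC : ∀ y : G, y * v = v * y → g * y * g⁻¹ ∈ Subgroup.normalizer ((S : Subgroup G) : Set G) := fun y hy => by
    refine hZ S ?_
    rw [centralizer_eq_of_card_two hΩ hz hz1, Subgroup.mem_centralizer_singleton_iff, ← hg]
    calc g * y * g⁻¹ * (g * v * g⁻¹) = g * (y * v) * g⁻¹ := by group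
      _ = g * (v * y) * g⁻¹ := by rw [hy]
      _ = g * v * g⁻¹ * (g * y * g⁻¹) := by group
  set J' := (thompsonSubgroupOf 2 T).map (MulAut.conj g).toMonoidHom with hJ'
  have hJN : J' ≤ Subgroup.normalizer ((S : Subgroup G) : Set G) := by
    rintro _ ⟨j, hj, rfl⟩; exact hC j (zJ_comm T hv.1 j hj)
  have hJS : J' ≤ (S : Subgroup G) :=
    le_sup_left.trans (sylow_in_max (sylow_in_of_le S Subgroup.le_normalizer)
      (((hT.to_le (thompsonOf_le' T)).map _).to_sup_of_normal_right' S.isPGroup' hJN) le_sup_right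
      (sup_le hJN Subgroup.le_normalizer))
  have hle : K ≤ (S : Subgroup G).map (MulAut.conj g⁻¹).toMonoidHom := by
    refine hK.2.1.ge.trans ?_
    rw [Subgroup.commutator_le]
    intro k hk j hj
    refine ⟨g * ⁅k, j⁆ * g⁻¹, ?_, by simp [mul_assoc]⟩
    rw [commutatorElement_def, show g * (k * j * k⁻¹ * j⁻¹) * g⁻¹ =
      (g * k * g⁻¹) * (g * j * g⁻¹) * (g * k * g⁻¹)⁻¹ * (g * j * g⁻¹)⁻¹ by group]
    exact (S : Subgroup G).mul_mem (conj_mem' (hC k (hv.2 k hk)) (hJS ⟨j, hj, rfl⟩))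
      ((S : Subgroup G).inv_mem (hJS ⟨j, hj, rfl⟩))
  exact comp_not_le hK (S.isPGroup'.map _) hle

/-- Let G be a finite group of characteristic 2 type in which every 2-local subgroup is solvable and the centralizer of Ω₁(Z(S)) lies in N_G(S) for every Sylow 2-subgroup S; suppose O₂(G) = 1, fix a Sylow 2-subgroup S and a 2-local subgroup M containing N_G(J(S)) (J the Thompson subgroup generated by the elementary abelian 2-subgroups of largest order), and put Z = Ω₁(Z(S)). Let T ≤ S be maximal (for the order of a largest elementary abelian subgroup, then the order of J(T), then the order of T) among the nontrivial 2-subgroups of M lying in a 2-local subgroup not inside M, K a J(T)-component not contained in M with J(T) the Thompson subgroup of every Sylow 2-subgroup of N_G(W_K) containing J(T), and O₂(⟨K, T⟩) ≠ 1, L a maximal 2-local subgroup containing ⟨K, J(T)⟩ (there is only one), and Z₀ = Ω₁(Z(J(T))). Then Z₀ ∩ W_K ≠ 1, and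 one of: Z = Z₀ has order 2; Z = Z₀ has order 4 and T = S; Ω₁(Z(T)) = Z₀ has order 4 and C_L(Z₀) has index 2 in N_G(Z₀). -/
theorem result {G : Type*} [Group G] [Finite G] (hL : Cfsg.IsCharacteristicTwoType G) (hN : ∀ N : Subgroup G, Cfsg.IsTwoLocal N → Group.IsSolvable ↥N)
    (hZ : ∀ S : Sylow 2 G, Subgroup.centralizer (Cfsg.omegaCenterOf (S : Subgroup G) : Set G) ≤ Subgroup.normalizer ((S : Subgroup G) : Set G)) (hO : Cfsg.pCore 2 G = ⊥) (S : Sylow 2 G) (M : Subgroup G) (hM : Cfsg.IsTwoLocal M)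
    (hMJ : Subgroup.normalizer (Cfsg.thompsonSubgroupOf 2 (S : Subgroup G) : Set G) ≤ M) (T : Subgroup G) (hT : T ∈ Cfsg.maxStraddlingTwoSubgroups M)
    (hTS : T ≤ (S : Subgroup G)) (K : Subgroup G) (hK : K ∈ Cfsg.jComponentsOutside M T)
    (L : Subgroup G) (hLmax : Cfsg.IsMaximalTwoLocal L) (hKL : K ⊔ Cfsg.thompsonSubgroupOf 2 T ≤ L)
    (Z Z₀ : Subgroup G) (hZdef : Z = Cfsg.omegaCenterOf (S : Subgroup G)) (hZ₀ : Z₀ = Cfsg.omegaCenterOf (Cfsg.thompsonSubgroupOf 2 T)) :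
    Z₀ ⊓ Cfsg.wOf K ≠ ⊥ ∧
      ((Z = Z₀ ∧ Nat.card ↥Z₀ = 2) ∨ (Z = Z₀ ∧ Nat.card ↥Z₀ = 4 ∧ T = (S : Subgroup G)) ∨
        (Cfsg.omegaCenterOf T = Z₀ ∧ Nat.card ↥Z₀ = 4 ∧
          (L ⊓ Subgroup.centralizer (Z₀ : Set G)).relIndex (Subgroup.normalizer (Z₀ : Set G)) = 2)) := by
  obtain ⟨Φ, K₂, hD⟩ := exists_duo hL hN hZ hO S hMJ hT hK
  have hF := hD.fam
  have hTp := hF.p2
  have hjc : IsJComponent T K := hF.comp K hD.solo1.phi
  have hω : omegaCenterOf T = zJ T := hD.solo1.omega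
  subst hZdef hZ₀
  change zJ T ⊓ wOf K ≠ ⊥ ∧ ((omegaCenterOf (S : Subgroup G) = zJ T ∧ Nat.card ↥(zJ T) = 2) ∨
    (omegaCenterOf (S : Subgroup G) = zJ T ∧ Nat.card ↥(zJ T) = 4 ∧ T = (S : Subgroup G)) ∨
    (omegaCenterOf T = zJ T ∧ Nat.card ↥(zJ T) = 4 ∧
      (L ⊓ Subgroup.centralizer (zJ T : Set G)).relIndex (Subgroup.normalizer (zJ T : Set G)) = 2))
  refine ⟨fun e => ?_, ?_⟩
  · have h := lab_card hTp hjc
    rw [show lab T K = zJ T ⊓ wOf K from rfl, e, Subgroup.card_bot] at h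
    omega
  have hz := card_zJ hTp hjc
  have hsm := hD.solo1.small
  rcases hTS.lt_or_eq with hlt | heq
  swap
  · rcases (show Nat.card ↥(cof T K) = 1 ∨ Nat.card ↥(cof T K) = 2 by
      have := Nat.card_pos (α := ↥(cof T K))
      omega) with e | e
    · exact Or.inl ⟨by rw [← heq]; exact hω, by omega⟩
    · exact Or.inr (Or.inl ⟨by rw [← heq]; exact hω, by omega, heq⟩)
  obtain ⟨q, h⟩ := exists_split hL hN hZ hF hD.solo1.phi hD.solo1.syl S hlt
  rcases (show Nat.card ↥(cof T K) = 1 ∨ Nat.card ↥(cof T K) = 2 by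
      have := Nat.card_pos (α := ↥(cof T K))
      omega) with e | e
  · refine Or.inl ⟨Subgroup.eq_of_le_of_card_ge h.omegaLe ?_, by omega⟩
    rw [h.omegaP]; omega
  refine Or.inr (Or.inr ⟨hω, by omega, ?_⟩)
  have hU2 := (hF.uloc_local hL hN hZ hD.solo1.phi).1
  have hLU : uloc T K = L := hLmax.2 _ hU2 (hF.le_uloc hL hN hZ hD.solo1.phi hLmax.1 hKL)
  have hp := hD.solo1.par hL hN hZ hF
  obtain ⟨x, hxK, hx3T, hx3, hsum, hdec⟩ := hp.data
  obtain ⟨w, hw, hw1, -⟩ := hp.lab_elt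
  have hTC : T ≤ Subgroup.centralizer (zJ T : Set G) := fun t ht u hu =>
    ((omegaCenterOf_le_centralizer T (hω.ge hu)) t ht).symm
  have hCT : L ⊓ Subgroup.centralizer (zJ T : Set G) = T := by
    rw [← hLU, uloc_eq_sup hL hN hZ hF hD.solo1 hD.qd1]
    refine le_antisymm ?_ (le_inf le_sup_right hTC)
    rintro g ⟨hg, hgc⟩
    obtain ⟨i, t, ht, rfl⟩ := hdec g hg
    have hwi : CfsgLib.JComp.cj (x ^ i) w = w := by
      have h1 : CfsgLib.JComp.cj (x ^ i * t) w = w := by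
        show x ^ i * t * w * (x ^ i * t)⁻¹ = w
        rw [← hgc w (omega_le_zJ T hw.1), mul_inv_cancel_right]
      rwa [CfsgLib.JComp.cj_comp, hp.fix_lab ht hw.1] at h1
    have hi := hp.gen_fix hx3 hsum hxK hw.2 hw1 i hwi
    rw [show i = 3 * (i / 3) by omega, pow_mul]
    exact T.mul_mem (T.pow_mem hx3T _) ht
  rw [hCT]
  have hqJ := normalizer_le_normalizer_thompson T h.qN
  have hqN : q ∈ Subgroup.normalizer (zJ T : Set G) := omegaCenterOf_conj hqJ
  obtain ⟨v, hv, hv1⟩ := exists_gen_two e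
  obtain ⟨z, hzS, hz1⟩ := exists_gen_two h.omegaP
  have hzT : z ∈ zJ T := h.omegaLe hzS
  have hzfix : q * z * q⁻¹ = z := by rw [(omegaCenterOf_le_centralizer _ hzS) q h.qP, mul_inv_cancel_right]
  set v' := q * v * q⁻¹ with hv'
  have hv'K : v' ∈ cof T (K.map (MulAut.conj q).toMonoidHom) := by rw [cof_map hqJ]; exact ⟨v, hv, rfl⟩
  have hv'1 : v' ≠ 1 := fun e' => hv1 (conj_eq_one_iff.mp e')
  have hi : cof T K ⊓ omegaCenterOf (S : Subgroup G) = ⊥ := by rw [inf_comm]; exact h.sep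
  have h4 : Nat.card ↥(zJ T) = 4 := by omega
  have hlist := four_list (zJ_elem T) h4 inf_le_left h.omegaLe e h.omegaP hi hv hv1 hzS hz1
  have hall : ∀ u ∈ zJ T, u ≠ 1 → u = v ∨ u = z ∨ u = v' := by
    have hv'eq : v' = v * z := by
      refine hlist hv'K.1 (fun hm => hv'1 (Subgroup.mem_bot.mp (h.inf ▸ ⟨hm, hv'K⟩ : v' ∈ (⊥ : Subgroup G)))) ?_
      intro hm
      have : v' = z := (card_two_mem h.omegaP hzS hz1 _ hm).resolve_left hv'1
      exact hz1 (Subgroup.mem_bot.mp (hi ▸ ⟨(MulAut.conj q).injective (this.trans hzfix.symm) ▸ hv, hzS⟩ : z ∈ (⊥ : Subgroup G)))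
    intro u hu hu1
    by_cases huK : u ∈ cof T K
    · exact Or.inl ((card_two_mem e hv hv1 u huK).resolve_left hu1)
    by_cases huS : u ∈ omegaCenterOf (S : Subgroup G)
    · exact Or.inr (Or.inl ((card_two_mem h.omegaP hzS hz1 u huS).resolve_left hu1))
    exact Or.inr (Or.inr ((hlist hu huK huS).trans hv'eq.symm))
  have hfixz : ∀ b ∈ Subgroup.normalizer (zJ T : Set G), b * z * b⁻¹ = z := by
    intro b hb
    rcases hall _ (conj_mem' hb hzT) (fun e' => hz1 (conj_eq_one_iff.mp e')) with e' | e' | e'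
    · exact (not_fused hZ S hTp hjc h.omegaP hzS hz1 hv (g := b⁻¹) (by rw [← e']; group)).elim
    · exact e'
    · exact (not_fused hZ S hTp hjc h.omegaP hzS hz1 hv (g := b⁻¹ * q) (by
        calc b⁻¹ * q * v * (b⁻¹ * q)⁻¹ = b⁻¹ * (q * v * q⁻¹) * b := by group
          _ = z := by rw [← hv', ← e']; group)).elim
  have hfix : ∀ b ∈ Subgroup.normalizer (zJ T : Set G), b * v * b⁻¹ = v → b ∈ T := by
    intro b hb hbv
    refine hCT.le ⟨hLU ▸ hF.centralizer_le_uloc hL hN hZ hD.solo1.phi hv hv1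
      (Subgroup.mem_centralizer_singleton_iff.mpr (mul_inv_eq_iff_eq_mul.mp hbv)), fun u hu => ?_⟩
    have hv'eq : ∀ u ∈ zJ T, b * u * b⁻¹ = u := by
      intro u hu
      by_cases hu1 : u = 1
      · subst hu1; group
      rcases hall u hu hu1 with rfl | rfl | rfl
      · exact hbv
      · exact hfixz b hb
      · have hm := conj_mem' hb hu
        rcases hall _ hm (fun e' => hu1 (conj_eq_one_iff.mp e')) with e' | e' | e'
        · exact absurd ((MulAut.conj b).injective (e'.trans hbv.symm)) (fun e'' => hv'1 (Subgroup.mem_bot.mp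
            (h.inf ▸ ⟨e''.symm ▸ hv, hv'K⟩ : v' ∈ (⊥ : Subgroup G))))
        · exact absurd ((MulAut.conj b).injective (e'.trans (hfixz b hb).symm)) (fun e'' => hv1 (Subgroup.mem_bot.mp
            (hi ▸ ⟨hv, (MulAut.conj q).injective (e''.trans hzfix.symm) ▸ hzS⟩ : v ∈ (⊥ : Subgroup G))))
        · exact e'
    exact (mul_inv_eq_iff_eq_mul.mp (hv'eq u hu)).symm
  rw [Subgroup.relIndex_eq_two_iff_exists_notMem_and']
  refine ⟨q⁻¹, Subgroup.inv_mem _ hqN, fun e' => h.qT (by simpa using T.inv_mem e'), fun b hb => ?_⟩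
  rcases hall _ (conj_mem' hb hv.1) (fun e' => hv1 (conj_eq_one_iff.mp e')) with e' | e' | e'
  · exact Or.inr (hfix b hb e')
  · exact absurd ((MulAut.conj b).injective (e'.trans (hfixz b hb).symm)) (fun e'' => hv1 (Subgroup.mem_bot.mp
      (hi ▸ ⟨hv, e''.symm ▸ hzS⟩ : v ∈ (⊥ : Subgroup G))))
  · refine Or.inl (hfix _ (Subgroup.mul_mem _ (Subgroup.inv_mem _ hqN) hb) ?_)
    calc q⁻¹ * b * v * (q⁻¹ * b)⁻¹ = q⁻¹ * (b * v * b⁻¹) * q := by group
      _ = v := by rw [e', hv']; group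

end Cfsg.Agent.S2951
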