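import Cfsg.Statements.S2953
import Cfsg.Agent.Lib.JComp.Pair

set_option autoImplicit false
set_option linter.unusedVariables false
open Cfsg
open scoped commutatorElement

namespace Cfsg.Agent.S2953

open CfsgLib.JComp

/-- Let G be a finite group of characteristic 2 type in which every 2-local subgroup is solvable and the centralizer of Ω₁(Z(S)) lies in N_G(S) for every Sylow 2-subgroup S; suppose O₂(G) = 1, fix a Sylow 2-subgroup S and a 2-local subgroup M containing N_G(J(S)) (J the Thompson subgroup generated by the elementary abelian 2-subgroups of largest order). Let T be maximal (for the order of a largest elementary abelian subgroup, then the order of J(T), then the order of T) among the nontrivial 2-subgroups of M lying in a 2-local subgroup not inside M. Then there are two distinct J(T)-components K₁, K₂ such that, with Pᵢ = ⟨Kᵢ, T⟩: C_G(O₂(Pᵢ)) ≤ O₂(Pᵢ), T is a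 Sylow 2-subgroup of Pᵢ, O₂(Pᵢ) has index 6 in Pᵢ with Pᵢ/O₂(Pᵢ) non-abelian, [Ω₁(Z(T)), Pᵢ] ≠ 1, O₂(⟨P₁, P₂⟩) = 1, and each Pᵢ lies in exactly one maximal 2-local subgroup Lᵢ of G, in which T is a Sylow 2-subgroup. -/
theorem result {G : Type*} [Group G] [Finite G] (hL : Cfsg.IsCharacteristicTwoType G) (hN : ∀ N : Subgroup G, Cfsg.IsTwoLocal N → Group.IsSolvable ↥N)
    (hZ : ∀ S : Sylow 2 G, Subgroup.centralizer (Cfsg.omegaCenterOf (S : Subgroup G) : Set G) ≤ Subgroup.normalizer ((S : Subgroup G) : Set G)) (hO : Cfsg.pCore 2 G = ⊥) (S : Sylow 2 G) (M : Subgroup G) (hM : Cfsg.IsTwoLocal M)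
    (hMJ : Subgroup.normalizer (Cfsg.thompsonSubgroupOf 2 (S : Subgroup G) : Set G) ≤ M) (T : Subgroup G) (hT : T ∈ Cfsg.maxStraddlingTwoSubgroups M) :
    ∃ K₁ K₂ : Subgroup G, K₁ ≠ K₂ ∧ Cfsg.IsJComponent T K₁ ∧ Cfsg.IsJComponent T K₂ ∧
      Cfsg.pCoreOf 2 ((K₁ ⊔ T) ⊔ (K₂ ⊔ T)) = ⊥ ∧
      ∀ P ∈ [K₁ ⊔ T, K₂ ⊔ T],
        Subgroup.centralizer (Cfsg.pCoreOf 2 P : Set G) ≤ Cfsg.pCoreOf 2 P ∧ Cfsg.IsSylowTwoIn T P ∧
        (Cfsg.pCoreOf 2 P).relIndex P = 6 ∧ ¬ ⁅P, P⁆ ≤ Cfsg.pCoreOf 2 P ∧ ⁅Cfsg.omegaCenterOf T, P⁆ ≠ ⊥ ∧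
        ∃ L : Subgroup G, Cfsg.IsMaximalTwoLocal L ∧ P ≤ L ∧ Cfsg.IsSylowTwoIn T L ∧
          ∀ L' : Subgroup G, Cfsg.IsMaximalTwoLocal L' → P ≤ L' → L' = L := by
  obtain ⟨K, hK⟩ := outside_nonempty hL hN hZ S hMJ hT
  obtain ⟨Φ, K₂, hD⟩ := exists_duo hL hN hZ hO S hMJ hT hK
  have hF := hD.fam
  refine ⟨K, K₂, fun e => hD.ne (by rw [e]), hF.comp _ hD.solo1.phi, hF.comp _ hD.solo2.phi, ?_, ?_⟩
  · by_contra hne
    have h2 := isTwoLocal_normalizer (isPGroup_pCoreOf ((K ⊔ T) ⊔ (K₂ ⊔ T))) hne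
    have hle := le_normalizer_pCoreOf' ((K ⊔ T) ⊔ (K₂ ⊔ T))
    exact hD.ne (hF.uloc_eq hL hN hZ hD.solo1.phi hD.solo2.phi h2 ((le_sup_left.trans le_sup_left).trans hle)
      ((le_sup_left.trans le_sup_right).trans hle) ((thompsonOf_le' T).trans ((le_sup_right.trans le_sup_left).trans hle)))
  have key : ∀ A, Solo T Φ A → CfsgLib.JComp.qd T A = CfsgLib.JComp.vd T A →
      Subgroup.centralizer (pCoreOf 2 (A ⊔ T) : Set G) ≤ pCoreOf 2 (A ⊔ T) ∧ IsSylowTwoIn T (A ⊔ T) ∧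
        (pCoreOf 2 (A ⊔ T)).relIndex (A ⊔ T) = 6 ∧ ¬ ⁅A ⊔ T, A ⊔ T⁆ ≤ pCoreOf 2 (A ⊔ T) ∧
        ⁅omegaCenterOf T, A ⊔ T⁆ ≠ ⊥ ∧
        ∃ L : Subgroup G, IsMaximalTwoLocal L ∧ A ⊔ T ≤ L ∧ IsSylowTwoIn T L ∧
          ∀ L' : Subgroup G, IsMaximalTwoLocal L' → A ⊔ T ≤ L' → L' = L := by
    intro A hS hq
    have hp := hS.par hL hN hZ hF
    rw [hp.core_eq]
    refine ⟨?_, hp.syl, hp.relIndex_six, hp.not_comm, hp.bracket, uloc T A, hF.uloc_max hL hN hZ hS.phi,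
      (uloc_eq_sup hL hN hZ hF hS hq).ge, hS.syl, fun L' hL' hle => ?_⟩
    · rw [hq]; exact (cent_vd_le hL hN hZ hF hS hq).1
    · exact (hL'.2 _ (hF.uloc_local hL hN hZ hS.phi).1
        (hF.le_uloc hL hN hZ hS.phi hL'.1 ((sup_le_sup le_rfl (thompsonOf_le' T)).trans hle))).symm
  intro A hA
  rcases List.mem_cons.mp hA with rfl | hA
  · exact key _ hD.solo1 hD.qd1
  · rw [List.mem_singleton.mp hA]; exact key _ hD.solo2 hD.qd2

end Cfsg.Agent.S2953
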