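import Cfsg.Statements.S2955
import Cfsg.Agent.S2939

set_option autoImplicit false
set_option linter.unusedVariables false
open Cfsg
open scoped commutatorElement

namespace Cfsg.Agent.S2955

/-- Let p be a prime dividing the order of the finite group G and 𝓕 a conjugation-closed family of subgroups that controls Sylow p-intersections in G. Suppose the Sylow p-subgroups of G are chain-connected: any two of them are joined by a chain of Sylow p-subgroups, consecutive ones distinct with nontrivial intersection, all containing the intersection of the two ends (equivalently, the graph on the Sylow p-subgroups whose edges are the distinct pairs meeting nontrivially is connected). Then for every Sylow p-subgroup S, G is generated by N_G(S) together with the members of 𝓕 that meet S in a Sylow p-subgroup of themselves. -/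
theorem result {G : Type*} [Group G] [Finite G] (p : ℕ) [Fact p.Prime] (hdiv : p ∣ Nat.card G)
    (𝓕 : Set (Subgroup G)) (h𝓕 : Cfsg.IsNormalSet 𝓕) (hc : Cfsg.ControlsSylowIntersections p 𝓕)
    (hconn : Cfsg.IsSylowChainConnected p G) (S : Sylow p G) :
    (⨆ X ∈ Cfsg.sylowMembers p 𝓕 (S : Subgroup G), X) ⊔ Subgroup.normalizer ((S : Subgroup G) : Set G) = ⊤ := by
  have hf := Cfsg.Agent.S2939.fusion_of_controls h𝓕 hc
  set M := (⨆ X ∈ Cfsg.sylowMembers p 𝓕 (S : Subgroup G), X) ⊔ Subgroup.normalizer ((S : Subgroup G) : Set G) with hM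
  have hNM : ∀ h ∈ Subgroup.normalizer ((S : Subgroup G) : Set G), h ∈ M := fun h hh => Subgroup.mem_sup_right hh
  refine eq_top_iff.mpr fun g _ => ?_
  obtain ⟨n, c, hc0, hcn, -, hstep⟩ := hconn S (g • S)
  have key : ∀ i (h : i < n + 1), ∃ u ∈ M, c ⟨i, h⟩ = u • S := by
    intro i
    induction i with
    | zero => intro h; exact ⟨1, M.one_mem, by rw [one_smul]; exact hc0⟩
    | succ i ih =>
      intro h
      have h' : i < n := Nat.lt_of_succ_lt_succ h
      obtain ⟨u, hu, e⟩ := ih (Nat.lt_succ_of_lt h')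
      obtain ⟨w, hw⟩ := MulAction.exists_smul_eq G S (u⁻¹ • c ⟨i + 1, h⟩)
      obtain ⟨-, hne⟩ := hstep ⟨i, h'⟩
      rw [show (⟨i, h'⟩ : Fin n).castSucc = ⟨i, Nat.lt_succ_of_lt h'⟩ from rfl, e,
        show (⟨i, h'⟩ : Fin n).succ = ⟨i + 1, h⟩ from rfl] at hne
      obtain ⟨d, hd, hd1⟩ : ∃ d ∈ ((u • S : Sylow p G) : Subgroup G) ⊓ (c ⟨i + 1, h⟩ : Subgroup G), d ≠ 1 := by
        by_contra hh
        push Not at hh
        exact hne ((Subgroup.eq_bot_iff_forall _).mpr hh)
      have hd' := Subgroup.mem_inf.mp hd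
      have h1 : u⁻¹ * d * u ∈ (S : Subgroup G) := by
        have := hd'.1
        rw [Sylow.coe_subgroup_smul, Subgroup.mem_pointwise_smul_iff_inv_smul_mem] at this
        simpa [MulAut.smul_def] using this
      have h2 : u⁻¹ * d * u ∈ ((w • S : Sylow p G) : Subgroup G) := by
        rw [hw, Sylow.coe_subgroup_smul, Subgroup.mem_pointwise_smul_iff_inv_smul_mem]
        simpa [MulAut.smul_def, mul_assoc] using hd'.2
      rw [Sylow.coe_subgroup_smul, Subgroup.mem_pointwise_smul_iff_inv_smul_mem] at h2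
      obtain ⟨m, Y, y, y₀, hy₀, hY, hweq, -⟩ := hf S {u⁻¹ * d * u} w (by rintro _ rfl; exact h1)
        ⟨_, rfl, fun e1 => hd1 (by
          calc d = u * (u⁻¹ * d * u) * u⁻¹ := by group
            _ = 1 := by rw [e1]; group)⟩ (by
          rintro _ ⟨_, rfl, rfl⟩
          show w⁻¹ * (u⁻¹ * d * u) * w ∈ (S : Subgroup G)
          simpa [MulAut.smul_def, mul_assoc] using h2)
      refine ⟨u * w, M.mul_mem hu ?_, by rw [mul_smul, hw, smul_inv_smul]⟩
      rw [hweq]
      refine M.mul_mem (Subgroup.list_prod_mem _ fun z hz => ?_) (hNM _ hy₀)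
      obtain ⟨j, rfl⟩ := List.mem_ofFn.mp hz
      exact Subgroup.mem_sup_left (Subgroup.mem_iSup_of_mem (Y j) (Subgroup.mem_iSup_of_mem (hY j).1 (hY j).2))
  obtain ⟨u, hu, e⟩ := key n (Nat.lt_succ_self n)
  have e' : g • S = u • S := hcn.symm.trans e
  have h1 : u⁻¹ * g ∈ Subgroup.normalizer ((S : Subgroup G) : Set G) := Sylow.smul_eq_iff_mem_normalizer.mp (by rw [mul_smul, e', inv_smul_smul])
  have := M.mul_mem hu (hNM _ h1)
  rwa [mul_inv_cancel_left] at this

end Cfsg.Agent.S2955
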