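import Cfsg.Statements.S2956
import Mathlib
import Cfsg.Agent.Lib.SylowChains

set_option autoImplicit false
set_option linter.unusedVariables false
open Cfsg
open scoped commutatorElement

namespace Cfsg.Agent.S2956

open CfsgLib CfsgLib.SylowChains

theorem exists_maximal_above {G : Type*} [Group G] [Finite G] {p : ℕ} {X : Subgroup G} (h : Cfsg.IsPLocal p X) :
    ∃ M, Cfsg.IsMaximalPLocal p M ∧ X ≤ M := by
  obtain ⟨M, hle, hM⟩ := Finite.exists_le_maximal (p := fun N : Subgroup G => Cfsg.IsPLocal p N) h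
  exact ⟨M, ⟨hM.prop, fun N hN hle' => le_antisymm (hM.le_of_ge hN hle') hle'⟩, hle⟩

theorem inner {G : Type*} [Group G] [Finite G] {p : ℕ} [Fact p.Prime] {f : Subgroup G → Set (Subgroup G)}
    (hf : Cfsg.IsNormalizerFunctor p f) (hf1 : ∀ P : Subgroup G, IsPGroup p ↥P → P ≠ ⊥ → ∀ F ∈ f P, F ≠ ⊥)
    {fam : Set (Subgroup G)} (hfam : Cfsg.functorFamily p f ⊤ ⊆ fam)
    (hsing : ∀ M, Cfsg.IsMaximalPLocal p M → ¬ Cfsg.IsFunctorRegular p f M → M ∈ fam)
    {D : Subgroup G} (hD : D ≠ ⊥)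
    (hIH : ∀ A : Subgroup G, D < A → ∀ S T : Sylow p G, A ≤ (S : Subgroup G) → A ≤ (T : Subgroup G) → Conn p fam D S T)
    (k : ℕ) : ∀ (M : Subgroup G) (S T : Sylow p G), Cfsg.IsMaximalPLocal p M →
      Nat.card G - Nat.card ↥((S : Subgroup G) ⊓ M : Subgroup G) ≤ k →
      SylIn p ((S : Subgroup G) ⊓ M) M → SylIn p ((T : Subgroup G) ⊓ M) M → D < (S : Subgroup G) ⊓ M →
      D ≤ (T : Subgroup G) ⊓ M → Conn p fam D S T := by
  induction k using Nat.strong_induction_on with
  | h k ih =>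
    intro M S T hM hk hSM hTM hDS hDT
    by_cases hreg : Cfsg.IsFunctorRegular p f M
    swap
    · obtain ⟨P, hP⟩ := hSM
      obtain ⟨Q, hQ⟩ := hTM
      obtain ⟨c, hc⟩ := MulAction.exists_smul_eq ↥M Q P
      have hcoe : (((c : G) • T : Sylow p G) : Subgroup G) = (T : Subgroup G).map (MulAut.conj (c : G)).toMonoidHom := by
        rw [Sylow.coe_subgroup_smul]; rfl
      have hcM : (((c : G) • T : Sylow p G) : Subgroup G) ⊓ M = (S : Subgroup G) ⊓ M := by
        rw [hcoe]
        have eM : M.map (MulAut.conj (c : G)).toMonoidHom = M :=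
          Local.map_conj_eq_of_mem_normalizer (Subgroup.le_normalizer c.2)
        refine Eq.trans (b := ((T : Subgroup G) ⊓ M).map (MulAut.conj (c : G)).toMonoidHom) ?_ ?_
        · rw [Subgroup.map_inf _ _ _ (MulEquiv.injective (MulAut.conj (c : G))), eM]
        rw [← hQ, ← hP, ← hc, Sylow.coe_subgroup_smul,
          Subgroup.map_map]
        show _ = ((Q : Subgroup ↥M).map (MulAut.conj c).toMonoidHom).map M.subtype
        rw [Subgroup.map_map]
        congr 1
      refine (hIH _ hDS S ((c : G) • T) inf_le_left (hcM.ge.trans inf_le_left)).trans (Relation.ReflTransGen.single ?_)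
      exact ⟨M, (c : G)⁻¹, ⟨hsing M hM hreg, P, by rw [hcM, hP]⟩, ⟨hsing M hM hreg, Q, hQ⟩, M.inv_mem c.2,
        by rw [Cfsg.subgroupConjRight, inv_inv, hcoe], hDT⟩
    suffices h : ∀ A : Subgroup G, Relation.ReflTransGen (StepIn p f D M) ((S : Subgroup G) ⊓ M) A →
        ∀ SA : Sylow p G, A ≤ (SA : Subgroup G) → Conn p fam D S SA from
      h _ (stepIn_of_regular hf hreg hSM hTM hD hDS.le hDT) T inf_le_left
    intro A hA
    induction hA with
    | refl => exact fun SA hle => hIH _ hDS S SA inf_le_left hle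
    | @tail a b _ hab ihc =>
      intro SB hb
      obtain ⟨SA, hSA⟩ := hab.1.isPGroup.exists_le_sylow
      refine (ihc SA hSA).trans ?_
      by_cases hfull : Nat.card ↥(S : Subgroup G) ≤ Nat.card ↥((S : Subgroup G) ⊓ M : Subgroup G)
      · have e := Subgroup.eq_of_le_of_card_ge (inf_le_left : (S : Subgroup G) ⊓ M ≤ S) hfull
        exact Relation.ReflTransGen.single (step_of_stepIn hfam hab (U := S) (e ▸ hSM) SA SB hSA hb)
      obtain ⟨haM, hbM, hDa, hDb, P, F, x, hP, hF, haF, hbF, -, -⟩ := hab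
      have hlt : ∀ C, SylIn p C M → D ≤ C → D < C := fun C hC hle => lt_of_le_of_ne hle fun e => by
        subst e
        exact hDS.ne (Subgroup.eq_of_le_of_card_ge hDS.le (by rw [hSM.card, hC.card]))
      have hP0 : P ≠ ⊥ := fun h => hD (le_bot_iff.mp (hDa.trans (by
        rw [Subgroup.eq_bot_of_card_eq a (by rw [haM.card, ← hP.card, h, Subgroup.card_bot])])))
      have hFP := (hf P hP.isPGroup).1 F hF
      have hFloc : Cfsg.IsPLocal p (Subgroup.normalizer (F : Set G)) :=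
        ⟨F, hP.isPGroup.to_le hFP.1, hf1 P hP.isPGroup hP0 F hF, rfl⟩
      obtain ⟨M', hM', hle⟩ := exists_maximal_above hFloc
      obtain ⟨SP, hSP⟩ := hP.isPGroup.exists_le_sylow
      have hne : P ≠ (SP : Subgroup G) := fun e => hfull (by
        rw [hSM.card, ← hP.card, e, SP.card_eq_multiplicity, S.card_eq_multiplicity])
      have hbig := CfsgLib.StrongFusion.lt_inf_normalizer SP hSP hne
      obtain ⟨R₁, hR₁, haR₁⟩ := exists_sylIn_ge haM.isPGroup (haF.trans hle)
      obtain ⟨R₂, hR₂, hbR₂⟩ := exists_sylIn_ge hbM.isPGroup (hbF.trans hle)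
      obtain ⟨S₁, hS₁⟩ := hR₁.isPGroup.exists_le_sylow
      obtain ⟨S₂, hS₂⟩ := hR₂.isPGroup.exists_le_sylow
      have e₁ := hR₁.inf_eq S₁ hS₁
      have e₂ := hR₂.inf_eq S₂ hS₂
      have hcard : Nat.card ↥((S : Subgroup G) ⊓ M : Subgroup G) < Nat.card ↥R₁ := by
        rw [hSM.card, ← hP.card]
        refine lt_of_lt_of_le ?_ (card_le_sylIn (SP.2.to_le inf_le_left) ((inf_le_right.trans hFP.2).trans hle) hR₁)
        exact lt_of_le_of_ne (Subgroup.card_le_of_le hbig.le) fun e => hbig.ne (Subgroup.eq_of_le_of_card_ge hbig.le e.ge)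
      refine (hIH a (hlt a haM hDa) SA S₁ hSA (haR₁.trans hS₁)).trans ((ih _ ?_ M' S₁ S₂ hM' le_rfl (by rw [e₁]; exact hR₁)
        (by rw [e₂]; exact hR₂) (by rw [e₁]; exact (hlt a haM hDa).trans_le haR₁) (by rw [e₂]; exact hDb.trans hbR₂)).trans
        (hIH b (hlt b hbM hDb) S₂ SB (hbR₂.trans hS₂) hb))
      rw [e₁]
      have := Subgroup.card_le_card_group R₁
      omega

theorem main {G : Type*} [Group G] [Finite G] {p : ℕ} [Fact p.Prime] {f : Subgroup G → Set (Subgroup G)}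
    (hf : Cfsg.IsNormalizerFunctor p f) (hf1 : ∀ P : Subgroup G, IsPGroup p ↥P → P ≠ ⊥ → ∀ F ∈ f P, F ≠ ⊥)
    {fam : Set (Subgroup G)} (hfam : Cfsg.functorFamily p f ⊤ ⊆ fam)
    (hsing : ∀ M, Cfsg.IsMaximalPLocal p M → ¬ Cfsg.IsFunctorRegular p f M → M ∈ fam) (k : ℕ) :
    ∀ D : Subgroup G, Nat.card G - Nat.card ↥D ≤ k → D ≠ ⊥ → ∀ S T : Sylow p G, D ≤ (S : Subgroup G) →
      D ≤ (T : Subgroup G) → Conn p fam D S T := by
  induction k using Nat.strong_induction_on with
  | h k ih =>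
    intro D hk hD S T hDS hDT
    have hIH : ∀ A : Subgroup G, D < A → ∀ S T : Sylow p G, A ≤ (S : Subgroup G) → A ≤ (T : Subgroup G) → Conn p fam D S T := by
      intro A hA S' T' h1 h2
      have h3 : Nat.card ↥D < Nat.card ↥A := lt_of_le_of_ne (Subgroup.card_le_of_le hA.le) fun e =>
        hA.ne (Subgroup.eq_of_le_of_card_ge hA.le e.ge)
      refine (ih (Nat.card G - Nat.card ↥A) ?_ A le_rfl (ne_bot_of_gt hA) S' T' h1 h2).mono hA.le
      have := Subgroup.card_le_card_group A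
      omega
    by_cases hST : S = T
    · rw [hST]
    rcases (le_inf hDS hDT).eq_or_lt with e | hlt
    swap
    · exact hIH _ hlt S T inf_le_left inf_le_right
    have hneS : D ≠ (S : Subgroup G) := fun h => hST (Sylow.ext (Subgroup.eq_of_le_of_card_ge (h ▸ hDT)
      (le_of_eq (by rw [S.card_eq_multiplicity, T.card_eq_multiplicity]))))
    have hneT : D ≠ (T : Subgroup G) := fun h => hST (Sylow.ext (Subgroup.eq_of_le_of_card_ge (h ▸ hDS)
      (le_of_eq (by rw [S.card_eq_multiplicity, T.card_eq_multiplicity]))).symm)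
    obtain ⟨M, hM, hle⟩ := exists_maximal_above (show Cfsg.IsPLocal p (Subgroup.normalizer (D : Set G)) from ⟨D, S.2.to_le hDS, hD, rfl⟩)
    have hP := CfsgLib.StrongFusion.lt_inf_normalizer S hDS hneS
    have hQ := CfsgLib.StrongFusion.lt_inf_normalizer T hDT hneT
    obtain ⟨R, hR, hPR⟩ := exists_sylIn_ge (S.2.to_le (inf_le_left : (S : Subgroup G) ⊓ Subgroup.normalizer (D : Set G) ≤ _)) (inf_le_right.trans hle)
    obtain ⟨R', hR', hQR⟩ := exists_sylIn_ge (T.2.to_le (inf_le_left : (T : Subgroup G) ⊓ Subgroup.normalizer (D : Set G) ≤ _)) (inf_le_right.trans hle)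
    obtain ⟨S₁, hS₁⟩ := hR.isPGroup.exists_le_sylow
    obtain ⟨T₁, hT₁⟩ := hR'.isPGroup.exists_le_sylow
    have e₁ := hR.inf_eq S₁ hS₁
    have e₂ := hR'.inf_eq T₁ hT₁
    refine (hIH _ hP S S₁ inf_le_left (hPR.trans hS₁)).trans (?_ : Conn p fam D S₁ T)
    refine (inner hf hf1 hfam hsing hD hIH _ M S₁ T₁ hM le_rfl (e₁ ▸ hR) (e₂ ▸ hR') (e₁ ▸ hP.trans_le hPR)
      (e₂ ▸ (hQ.le.trans hQR))).trans (hIH _ hQ T₁ T (hQR.trans hT₁) inf_le_left)

/-- Let p be a prime dividing the order of the finite group G, and f an assignment to every p-subgroup P of a set f(P) of subgroups of P, each normalized by N_G(P), compatible with conjugation, such that for P ≠ 1 the members of f(P) are nontrivial. Let 𝓕 be the family of the normalizers N_G(F) of the members F of f(S) over the Sylow p-subgroups S of G, and 𝓕' the family of the maximal p-local subgroups M of G that are singular for f (the corresponding family of normalizers inside M does not control Sylow p-intersections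 in M). Then 𝓕 ∪ 𝓕' controls Sylow p-intersections in G. -/
theorem result {G : Type*} [Group G] [Finite G] (p : ℕ) [Fact p.Prime] (hdiv : p ∣ Nat.card G)
    (f : Subgroup G → Set (Subgroup G)) (hf : Cfsg.IsNormalizerFunctor p f)
    (hf1 : ∀ P : Subgroup G, IsPGroup p ↥P → P ≠ ⊥ → ∀ F ∈ f P, F ≠ ⊥)
    (𝓕 𝓕' : Set (Subgroup G)) (h𝓕 : 𝓕 = Cfsg.functorFamily p f ⊤)
    (h𝓕' : 𝓕' = {M | Cfsg.IsMaximalPLocal p M ∧ ¬ Cfsg.IsFunctorRegular p f M}) :
    Cfsg.ControlsSylowIntersections p (𝓕 ∪ 𝓕') := by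
  subst h𝓕 h𝓕'
  exact controls_of_conn fun S T hD => main hf hf1
    (fam := Cfsg.functorFamily p f ⊤ ∪ {M | Cfsg.IsMaximalPLocal p M ∧ ¬ Cfsg.IsFunctorRegular p f M}) Set.subset_union_left
    (fun M hM hr => Or.inr ⟨hM, hr⟩) _ _ le_rfl hD S T inf_le_left inf_le_right

end Cfsg.Agent.S2956
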