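import Cfsg.Statements.S2957
import Mathlib
import Cfsg.Agent.Lib.SylowChains

set_option autoImplicit false
set_option linter.unusedVariables false
open Cfsg
open scoped commutatorElement

namespace Cfsg.Agent.S2957

open CfsgLib CfsgLib.SylowChains

theorem coe_smul_sylow {G : Type*} [Group G] {p : ℕ} (g : G) (S : Sylow p G) :
    ((g • S : Sylow p G) : Subgroup G) = (S : Subgroup G).map (MulAut.conj g).toMonoidHom := by
  rw [Sylow.coe_subgroup_smul]; rfl

theorem conn_conj {G : Type*} [Group G] [Finite G] {p : ℕ} [Fact p.Prime] {fam : Set (Subgroup G)}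
    (hfam : Cfsg.IsNormalSet fam) {D : Subgroup G} {A B : Sylow p G} (h : Conn p fam D A B) (g : G) :
    Conn p fam (D.map (MulAut.conj g).toMonoidHom) (g • A) (g • B) := by
  induction h with
  | refl => exact Relation.ReflTransGen.refl
  | tail _ hab ih => exact ih.tail (hab.conj hfam g)

/-- Let p be a prime dividing the order of the finite group G, f an equivariant assignment of a set of subgroups f(P) of P to every p-subgroup P, each normalized by N_G(P), and S a Sylow p-subgroup. If G = G₁G₂ for subgroups G₁, G₂ both containing S and both regular for f (in each Gᵢ, the family of normalizers in Gᵢ of the members of f(P), P a Sylow p-subgroup of Gᵢ, controls Sylow p-intersections), then G itself is regular for f. -/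
theorem result {G : Type*} [Group G] [Finite G] (p : ℕ) [Fact p.Prime] (hdiv : p ∣ Nat.card G)
    (f : Subgroup G → Set (Subgroup G)) (hf : Cfsg.IsNormalizerFunctor p f) (S : Sylow p G)
    (G₁ G₂ : Subgroup G) (h₁ : (S : Subgroup G) ≤ G₁) (h₂ : (S : Subgroup G) ≤ G₂)
    (hprod : ∀ g : G, ∃ g₁ ∈ G₁, ∃ g₂ ∈ G₂, g = g₁ * g₂)
    (hr₁ : Cfsg.IsFunctorRegular p f G₁) (hr₂ : Cfsg.IsFunctorRegular p f G₂) :
    Cfsg.IsFunctorRegular p f ⊤ := by
  set fam := Cfsg.functorFamily p f ⊤ with hfamd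
  have hnorm : Cfsg.IsNormalSet fam := functorFamily_top_conj hf
  have base : ∀ (D : Subgroup G) (g : G), D ≠ ⊥ → D ≤ (S : Subgroup G) → D ≤ ((g • S : Sylow p G) : Subgroup G) →
      Conn p fam D S (g • S) := by
    intro D g hD hDS hDg
    obtain ⟨g₁, hg₁, g₂, hg₂, rfl⟩ := hprod g
    set D' := D.map (MulAut.conj g₁⁻¹).toMonoidHom with hD'
    have hD'1 : D' ≤ G₁ := Local.map_conj_le fun d hd => by
      simpa using G₁.mul_mem (G₁.mul_mem (G₁.inv_mem hg₁) (h₁ (hDS hd))) hg₁
    have hD'g : D' ≤ ((g₂ • S : Sylow p G) : Subgroup G) := by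
      rw [coe_smul_sylow, hD']
      refine (Subgroup.map_mono hDg).trans (le_of_eq ?_)
      rw [coe_smul_sylow, Local.map_conj_mul, inv_mul_cancel_left]
    have hg2S : ((g₂ • S : Sylow p G) : Subgroup G) ≤ G₂ := by
      rw [coe_smul_sylow]
      exact Local.map_conj_le fun s hs => G₂.mul_mem (G₂.mul_mem hg₂ (h₂ hs)) (G₂.inv_mem hg₂)
    obtain ⟨R, hR, hDR⟩ := exists_sylIn_ge (p := p) (M := G₁ ⊓ G₂) ((S.2.to_le hDS).map _)
      (le_inf hD'1 (hD'g.trans hg2S))
    obtain ⟨P, hP⟩ := hR.isPGroup.exists_le_sylow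
    have hRP : R = P := Subgroup.eq_of_le_of_card_ge hP (le_of_eq (by
      rw [hR.card, ← (sylIn_inf_of_le S (le_inf h₁ h₂)).card, inf_eq_left.mpr (le_inf h₁ h₂),
        S.card_eq_multiplicity, P.card_eq_multiplicity]))
    subst hRP
    have hD'0 : D' ≠ ⊥ := fun h => hD ((Subgroup.map_eq_bot_iff_of_injective _ (MulEquiv.injective (MulAut.conj g₁⁻¹))).mp h)
    have hback : D'.map (MulAut.conj g₁).toMonoidHom = D := by
      rw [hD', Local.map_conj_mul, mul_inv_cancel]; ext z; simp
    have c2 := conn_conj hnorm (conn_of_regular_full hf (subset_refl fam) hr₂ hD'0 P (g₂ • S) (hR.le.trans inf_le_right) hg2S hDR hD'g) g₁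
    rw [hback, smul_smul] at c2
    refine Relation.ReflTransGen.trans (conn_of_regular_full hf (subset_refl fam) hr₁ hD S (g₁ • P) h₁ ?_ hDS ?_) c2
    · rw [coe_smul_sylow]
      exact Local.map_conj_le fun s hs => G₁.mul_mem (G₁.mul_mem hg₁ (hR.le hs).1) (G₁.inv_mem hg₁)
    · rw [coe_smul_sylow, ← hback]
      exact Subgroup.map_mono hDR
  have hall : Cfsg.ControlsSylowIntersections p fam := controls_of_conn fun A B hD => by
    obtain ⟨a, rfl⟩ := MulAction.exists_smul_eq G S A
    obtain ⟨g, rfl⟩ := MulAction.exists_smul_eq G (a • S) B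
    set D := ((a • S : Sylow p G) : Subgroup G) ⊓ ((g • a • S : Sylow p G) : Subgroup G) with hDd
    have h := conn_conj hnorm (base (D.map (MulAut.conj a⁻¹).toMonoidHom) (a⁻¹ * g * a)
      (fun h => hD ((Subgroup.map_eq_bot_iff_of_injective _ (MulEquiv.injective (MulAut.conj a⁻¹))).mp h)) ?_ ?_) a
    · rw [Local.map_conj_mul, mul_inv_cancel, smul_smul, show a * (a⁻¹ * g * a) = g * a by group, ← smul_smul] at h
      exact h.mono (le_of_eq (by ext z; simp))
    · refine (Subgroup.map_mono inf_le_left).trans (le_of_eq ?_)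
      rw [coe_smul_sylow, Local.map_conj_mul, inv_mul_cancel]; ext z; simp
    · refine (Subgroup.map_mono inf_le_right).trans (le_of_eq ?_)
      rw [smul_smul, coe_smul_sylow, coe_smul_sylow, Local.map_conj_mul, mul_assoc]
  intro S' T' hne hD
  let A : Sylow p G := S'.mapSurjective (f := (⊤ : Subgroup G).subtype) (fun x => ⟨⟨x, trivial⟩, rfl⟩)
  let B : Sylow p G := T'.mapSurjective (f := (⊤ : Subgroup G).subtype) (fun x => ⟨⟨x, trivial⟩, rfl⟩)
  have hA : A.subtype le_top = S' := Sylow.ext (Subgroup.comap_map_eq_self_of_injective (⊤ : Subgroup G).subtype_injective _)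
  have hB : B.subtype le_top = T' := Sylow.ext (Subgroup.comap_map_eq_self_of_injective (⊤ : Subgroup G).subtype_injective _)
  have hAB : A ≠ B := fun h => hne (by rw [← hA, ← hB]; simp only [h])
  have hDAB : (A : Subgroup G) ⊓ (B : Subgroup G) = ((S' : Subgroup ↥(⊤ : Subgroup G)) ⊓ (T' : Subgroup ↥(⊤ : Subgroup G))).map (⊤ : Subgroup G).subtype :=
    (Subgroup.map_inf _ _ _ (⊤ : Subgroup G).subtype_injective).symm
  obtain ⟨n, c, X, x, h0, hn, hs⟩ := hall A B hAB (by
    rw [hDAB]
    exact fun h => hD ((Subgroup.map_eq_bot_iff_of_injective _ (⊤ : Subgroup G).subtype_injective).mp h))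
  have hmem : ∀ (Y : Subgroup G) (C : Sylow p G), Y ∈ Cfsg.sylowMembers p fam (C : Subgroup G) → Y.subgroupOf ⊤ ∈
      Cfsg.sylowMembers p ((fun X : Subgroup G => X.subgroupOf ⊤) '' fam) ((C.subtype le_top : Sylow p ↥(⊤ : Subgroup G)) : Subgroup ↥(⊤ : Subgroup G)) := by
    rintro Y C ⟨hY, P, hP⟩
    set φ := (Subgroup.subgroupOfEquivOfLe (le_top : Y ≤ ⊤)).symm
    refine ⟨⟨Y, hY, rfl⟩, P.mapSurjective (f := φ.toMonoidHom) φ.surjective, ?_⟩
    show ((P : Subgroup ↥Y).map φ.toMonoidHom).map _ = _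
    apply Subgroup.map_injective (⊤ : Subgroup G).subtype_injective
    rw [Subgroup.map_inf _ _ _ (⊤ : Subgroup G).subtype_injective, Sylow.coe_subtype, Subgroup.map_subgroupOf_eq_of_le le_top,
      Subgroup.map_subgroupOf_eq_of_le le_top, ← hP, Subgroup.map_map, Subgroup.map_map]
    congr 1
  refine ⟨n, fun i => (c i).subtype le_top, fun i => (X i).subgroupOf ⊤, fun i => ⟨x i, trivial⟩, by simp only [h0, hA],
    by simp only [hn, hB], fun i => ⟨hmem _ _ (hs i).1, hmem _ _ (hs i).2.1, (hs i).2.2.1, ?_, ?_⟩⟩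
  · have h4 := (hs i).2.2.2.1
    apply Subgroup.map_injective (⊤ : Subgroup G).subtype_injective
    simp only [Cfsg.subgroupConjRight, Sylow.coe_subtype, Subgroup.map_subgroupOf_eq_of_le le_top] at h4 ⊢
    rw [Subgroup.map_map]
    show ((c i.succ : Subgroup G).subgroupOf ⊤).map ((MulAut.conj (x i)⁻¹).toMonoidHom.comp (⊤ : Subgroup G).subtype) = _
    rw [← Subgroup.map_map, Subgroup.map_subgroupOf_eq_of_le le_top]
    exact h4
  · intro z hz
    have h5 := (hs i).2.2.2.2 (hDAB.ge ⟨z, hz, rfl⟩)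
    exact ⟨h5.1, h5.2⟩

end Cfsg.Agent.S2957
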