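import Cfsg.Statements.S2958
import Cfsg.Agent.Lib.Local

set_option autoImplicit false
open Cfsg

namespace Cfsg.Agent.S2958

open CfsgLib.Local

/-- Let X, A, B be subgroups of a group G such that G is generated by the conjugates of X and every conjugate of X is contained in A or in B. Then A = G or B = G. -/
theorem result {G : Type*} [Group G] (X A B : Subgroup G) (hgen : (⨆ g : G, X.map (MulAut.conj g).toMonoidHom) = ⊤) (hcover : ∀ g : G, X.map (MulAut.conj g).toMonoidHom ≤ A ∨ X.map (MulAut.conj g).toMonoidHom ≤ B) : A = ⊤ ∨ B = ⊤ := by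
  classical
  by_contra h
  push Not at h
  obtain ⟨hA, hB⟩ := h
  obtain ⟨g₀, hg₀⟩ : ∃ g : G, ¬ X.map (MulAut.conj g).toMonoidHom ≤ B := by
    by_contra h'
    push Not at h'
    exact hB (top_le_iff.1 (hgen ▸ iSup_le h'))
  set K : Subgroup G := ⨆ g : {g : G // ¬ X.map (MulAut.conj g).toMonoidHom ≤ B},
    X.map (MulAut.conj (g : G)).toMonoidHom with hK
  have hKA : K ≤ A := iSup_le fun g => (hcover g).resolve_right g.2
  -- conjugating by an element of `B` preserves being outside `B`
  have hstab : ∀ b ∈ B, K.map (MulAut.conj b).toMonoidHom ≤ K := by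
    intro b hb
    rw [hK, Subgroup.map_iSup]
    refine iSup_le fun g => ?_
    rw [map_conj_mul]
    refine le_iSup_of_le ⟨b * g, fun hle => g.2 ?_⟩ le_rfl
    intro x hx
    have h1 : b * x * b⁻¹ ∈ B := by
      apply hle
      rw [← map_conj_mul]
      exact mem_map_conj.2 (by simpa [mul_assoc] using hx)
    have h2 := B.mul_mem (B.mul_mem (B.inv_mem hb) h1) hb
    simpa [mul_assoc] using h2
  have hmem : ∀ b ∈ B, b ∈ Subgroup.normalizer (K : Set G) := by
    intro b hb
    refine mem_normalizer_of_map_conj_eq (le_antisymm (hstab b hb) fun x hx => ?_)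
    exact mem_map_conj.2 (by simpa using hstab b⁻¹ (B.inv_mem hb) (mem_map_conj.2 (by
      simpa [mul_assoc] using hx) : b⁻¹ * x * b ∈ _))
  have hn : K.Normal := by
    refine normal_of_closure_le_normalizer hgen (iSup_le fun g => ?_)
    by_cases hgB : X.map (MulAut.conj g).toMonoidHom ≤ B
    · exact fun x hx => hmem x (hgB hx)
    · exact le_trans (le_iSup_of_le ⟨g, hgB⟩ le_rfl) Subgroup.le_normalizer
  refine hA (top_le_iff.1 (hgen ▸ iSup_le fun g => le_trans ?_ hKA))
  intro x hx
  have h1 : g₀ * (g⁻¹ * x * g) * g₀⁻¹ ∈ K :=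
    (le_iSup (fun g : {g : G // ¬ X.map (MulAut.conj g).toMonoidHom ≤ B} => X.map (MulAut.conj (g : G)).toMonoidHom) ⟨g₀, hg₀⟩) (mem_map_conj.2 (by
      simpa [mul_assoc] using mem_map_conj.1 hx) : g₀ * (g⁻¹ * x * g) * g₀⁻¹ ∈ X.map (MulAut.conj g₀).toMonoidHom)
  have h2 := hn.conj_mem _ h1 (g * g₀⁻¹)
  simpa [mul_assoc] using h2

end Cfsg.Agent.S2958
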