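import Cfsg.Statements.S2963
import Mathlib

set_option autoImplicit false
set_option linter.unusedVariables false
open Cfsg
open scoped commutatorElement

namespace Cfsg.Agent.S2963

open scoped Pointwise

/-- Let n be odd. If the symmetric group of degree n is a minimal parabolic group for the prime 2, that is, a Sylow 2-subgroup is not normal and lies in exactly one maximal subgroup, then n = 2^m + 1 for some natural number m. -/
theorem result (n : ℕ) (hn : Odd n) (h : Cfsg.IsPMinimal 2 (Equiv.Perm (Fin n))) : ∃ m : ℕ, n = 2 ^ m + 1 := by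
  classical
  obtain S : Sylow 2 (Equiv.Perm (Fin n)) := default
  obtain ⟨-, M, hM, huniq⟩ := h S
  have h2 : ¬ 2 ∣ Nat.card (Fin n) := by rw [Nat.card_fin]; exact hn.not_two_dvd_nat
  obtain ⟨x, hx⟩ := S.2.nonempty_fixed_point_of_prime_not_dvd_card (Fin n) h2
  have hunder : ∀ H : Subgroup (Equiv.Perm (Fin n)), (S : Subgroup (Equiv.Perm (Fin n))) ≤ H → H ≠ ⊤ → H ≤ M := by
    intro H hH hne
    obtain ⟨M', hM', hle⟩ := (eq_top_or_exists_le_coatom H).resolve_left hne
    rwa [huniq M' ⟨hM', hH.trans hle⟩] at hle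
  by_cases hall : ∀ y : Fin n, y = x
  · exfalso
    haveI : Subsingleton (Fin n) := ⟨fun a b => (hall a).trans (hall b).symm⟩
    haveI : Subsingleton (Subgroup (Equiv.Perm (Fin n))) :=
      ⟨fun A B => Subgroup.ext fun g => by rw [Subsingleton.elim g 1]; simp⟩
    exact hM.1.1 (Subsingleton.elim _ _)
  push Not at hall
  obtain ⟨y, hy⟩ := hall
  set O := MulAction.orbit ↥(S : Subgroup (Equiv.Perm (Fin n))) y with hO
  have hxO : x ∉ O := by
    rintro ⟨s, hs⟩
    have h1 : s • y = x := hs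
    exact hy (by rw [← inv_smul_smul s y, h1]; exact hx s⁻¹)
  have hSx : MulAction.stabilizer (Equiv.Perm (Fin n)) x ≤ M := hunder _ (fun s hs => hx ⟨s, hs⟩) fun e =>
    hy (by
      have h1 : Equiv.swap x y ∈ MulAction.stabilizer (Equiv.Perm (Fin n)) x := e ▸ Subgroup.mem_top _
      simpa using h1)
  have hSO : MulAction.stabilizer (Equiv.Perm (Fin n)) O ≤ M := hunder _ (fun s hs => by
      rw [MulAction.mem_stabilizer_iff]
      exact MulAction.smul_orbit (⟨s, hs⟩ : ↥(S : Subgroup (Equiv.Perm (Fin n)))) y) fun e => hxO (by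
    have h1 : Equiv.swap x y ∈ MulAction.stabilizer (Equiv.Perm (Fin n)) O := e ▸ Subgroup.mem_top _
    rw [← MulAction.mem_stabilizer_iff.mp h1]
    exact ⟨y, MulAction.mem_orbit_self y, Equiv.swap_apply_right x y⟩)
  have hcov : ∀ z, z ≠ x → z ∈ O := by
    intro z hz
    by_contra hzO
    have hsw : Equiv.swap x z ∈ M := hSO (by
      rw [MulAction.mem_stabilizer_iff]
      have hfix : ∀ w ∈ O, Equiv.swap x z w = w := fun w hw =>
        Equiv.swap_apply_of_ne_of_ne (fun e => hxO (e ▸ hw)) (fun e => hzO (e ▸ hw))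
      ext w
      exact ⟨fun ⟨v, hv, e⟩ => by
        have e' : Equiv.swap x z v = w := e
        rw [hfix v hv] at e'; exact e' ▸ hv, fun hw => ⟨w, hw, hfix w hw⟩⟩)
    refine hM.1.1 (eq_top_iff.mpr fun g _ => ?_)
    by_cases hgx : g x = x
    · exact hSx hgx
    have h1 : Equiv.swap z (g x) ∈ M := hSx (by
      rw [MulAction.mem_stabilizer_iff]
      exact Equiv.swap_apply_of_ne_of_ne hz.symm (Ne.symm hgx))
    have h2' : (Equiv.swap z (g x) * Equiv.swap x z)⁻¹ * g ∈ M := hSx (by
      rw [MulAction.mem_stabilizer_iff, mul_smul, inv_smul_eq_iff, mul_smul]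
      show g x = Equiv.swap z (g x) (Equiv.swap x z x)
      rw [Equiv.swap_apply_left, Equiv.swap_apply_left])
    have h3 := M.mul_mem (M.mul_mem h1 hsw) h2'
    rwa [mul_inv_cancel_left] at h3
  obtain ⟨m, hm⟩ := S.2.card_orbit y
  refine ⟨m, ?_⟩
  have hO2 : O = ({x}ᶜ : Set (Fin n)) := Set.ext fun z => ⟨fun hz e => hxO (e ▸ hz), hcov z⟩
  have h3 : Nat.card ↥O = n - 1 := by
    rw [hO2, Nat.card_coe_set_eq, Set.ncard_compl, Set.ncard_singleton, Nat.card_fin]
  rw [← hm]
  change n = Nat.card ↥O + 1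
  rw [h3]
  have := hn.pos
  omega

end Cfsg.Agent.S2963
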