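import Cfsg.Statements.S2968
import Cfsg.Agent.Lib.Isolated
import Cfsg.Agent.S1939

set_option autoImplicit false
set_option linter.unusedVariables false
open Cfsg
open scoped commutatorElement

namespace Cfsg.Agent.S2968

open CfsgLib.Local

/-- Let G be a finite group, p a prime, P a Sylow p-subgroup of G and x ∈ P an element of p-power order which is isolated in G (the only conjugate of x commuting with x is x itself). Then x lies in the centre of P, and the subgroup generated by x is both strongly closed and weakly closed in P with respect to G. -/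
theorem result {G : Type*} [Group G] [Finite G] {p : ℕ} [Fact p.Prime] (P : Sylow p G) (x : G) (hxP : x ∈ (P : Subgroup G)) (hx : ∃ k : ℕ, orderOf x = p ^ k) (hiso : Cfsg.IsIsolated x) : x ∈ (P : Subgroup G) ⊓ Subgroup.centralizer ((P : Subgroup G) : Set G) ∧ Cfsg.IsStronglyClosed (Subgroup.zpowers x) (P : Subgroup G) ∧ Cfsg.IsWeaklyClosed (Subgroup.zpowers x) (P : Subgroup G) := by
  have h1 : ∀ g : G, g * x * g⁻¹ ∈ (P : Subgroup G) → g * x * g⁻¹ = x := fun g hg =>
    isolated_unique P.2 hxP hiso hg
  have hs : IsStronglyClosed (Subgroup.zpowers x) (P : Subgroup G) := by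
    refine ⟨Subgroup.zpowers_le.2 hxP, fun y hy g hg => ?_⟩
    obtain ⟨n, rfl⟩ := (mem_powers_iff_mem_zpowers (x := x)).2 hy
    simp only at hg ⊢
    rw [S1939.result P x hxP h1 n g hg]
    exact Subgroup.npow_mem_zpowers x n
  refine ⟨⟨hxP, fun q hq => isolated_central P.2 hxP hiso q hq⟩, hs, hs.1, fun g hg => ?_⟩
  refine Subgroup.eq_of_le_of_card_ge ?_ (Nat.card_congr (Subgroup.equivMapOfInjective _ _
    (MulAut.conj g).injective).toEquiv).le
  rintro _ ⟨y, hy, rfl⟩
  exact hs.2 y hy g (hg ⟨y, hy, rfl⟩)

end Cfsg.Agent.S2968
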