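import Cfsg.Statements.S2970
import Cfsg.Agent.Lib.Isolated
import Cfsg.Agent.Lib.PComplement

set_option autoImplicit false
set_option linter.unusedVariables false
open Cfsg
open scoped commutatorElement

namespace Cfsg.Agent.S2970

/-- Let G be a finite group, p a prime and x ∈ G an element of p-power order which is isolated in G. Then the image of x in any quotient G ⧸ N is isolated in G ⧸ N; and if x ≠ 1 and the Sylow p-subgroups of G are cyclic, then G has a normal p-complement. -/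
theorem result {G : Type*} [Group G] [Finite G] {p : ℕ} [Fact p.Prime] (x : G) (hx : ∃ k : ℕ, orderOf x = p ^ k) (hiso : Cfsg.IsIsolated x) : (∀ (N : Subgroup G) [N.Normal], Cfsg.IsIsolated (QuotientGroup.mk x : G ⧸ N)) ∧ (x ≠ 1 → (∀ P : Sylow p G, IsCyclic ↥(P : Subgroup G)) → Cfsg.HasNormalPComplement p G) := by
  obtain ⟨e, he⟩ := hx
  have hxp : IsPGroup p ↥(Subgroup.zpowers x) := IsPGroup.of_card (n := e) ((Nat.card_zpowers x).trans he)
  constructor
  · intro N hN
    rintro z hz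
    obtain ⟨g, rfl⟩ := QuotientGroup.mk_surjective z
    set y := g * x * g⁻¹ with hy
    set L := (Subgroup.centralizer ({(x : G ⧸ N)} : Set (G ⧸ N))).comap (QuotientGroup.mk' N) with hL
    have hxL : x ∈ L := by
      show (x : G ⧸ N) ∈ Subgroup.centralizer _
      rw [Subgroup.mem_centralizer_singleton_iff]
    have hyL : y ∈ L := by
      show ((y : G) : G ⧸ N) ∈ Subgroup.centralizer _
      rw [Subgroup.mem_centralizer_singleton_iff]
      exact hz.symm
    have hyp : IsPGroup p ↥(Subgroup.zpowers y) := by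
      refine IsPGroup.of_card (n := e) ?_
      rw [Nat.card_zpowers, ← he]
      exact MulEquiv.orderOf_eq (MulAut.conj g) x
    obtain ⟨c, hc, T, hT, -, hxT, hyT⟩ := CfsgLib.Local.exists_conj_isPGroup hxp hyp
      (Subgroup.zpowers_le.mpr hxL) (Subgroup.zpowers_le.mpr hyL)
    have h1 := CfsgLib.Local.isolated_unique hT (hxT (Subgroup.mem_zpowers x)) hiso (g := c * g) (by
      have : c * y * c⁻¹ ∈ T := hyT ⟨y, Subgroup.mem_zpowers y, rfl⟩
      rw [hy] at this
      simpa [mul_assoc] using this)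
    have hcx : (c : G ⧸ N) * (x : G ⧸ N) = (x : G ⧸ N) * c := Subgroup.mem_centralizer_singleton_iff.mp hc
    have h2 := congrArg (fun w : G => (w : G ⧸ N)) h1
    simp only [QuotientGroup.mk_mul, QuotientGroup.mk_inv] at h2
    calc (g : G ⧸ N) * x * (g : G ⧸ N)⁻¹ = (c : G ⧸ N)⁻¹ * (c * g * x * (c * g : G ⧸ N)⁻¹) * c := by group
      _ = x := by rw [h2]; rw [mul_assoc, ← hcx, inv_mul_cancel_left]
  intro hx1 hcyc
  obtain ⟨P, hP⟩ := hxp.exists_le_sylow
  have hxP : x ∈ (P : Subgroup G) := hP (Subgroup.mem_zpowers x)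
  haveI := hcyc P
  obtain ⟨a, ha⟩ := IsCyclic.exists_zpow_surjective (G := ↥(P : Subgroup G))
  have hp : p.Prime := Fact.out
  have hx_ord : (p : ℤ) ∣ (orderOf x : ℤ) := by
    rw [he]
    rcases e with _ | e
    · exact absurd (orderOf_eq_one_iff.mp (by simpa using he)) hx1
    · exact_mod_cast dvd_pow_self p (Nat.succ_ne_zero e)
  refine CfsgLib.hasNormalPComplement_of_normalizer_le_centralizer P fun n hn => ?_
  obtain ⟨k, hk⟩ := ha ⟨n * a * n⁻¹, (Subgroup.mem_normalizer_iff.mp hn a).mp a.2⟩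
  have hk' : n * (a : G) * n⁻¹ = (a : G) ^ k := by simpa using (congrArg Subtype.val hk).symm
  obtain ⟨j, hj⟩ := ha ⟨x, hxP⟩
  have hj' : (a : G) ^ j = x := by simpa using congrArg Subtype.val hj
  have hfix : n * x * n⁻¹ = x := CfsgLib.Local.isolated_unique P.2 hxP hiso
    ((Subgroup.mem_normalizer_iff.mp hn x).mp hxP)
  have hk1 : (p : ℤ) ∣ k - 1 := by
    refine hx_ord.trans (orderOf_dvd_iff_zpow_eq_one.mpr ?_)
    have h1 : x ^ k = x := by
      calc x ^ k = ((a : G) ^ k) ^ j := by rw [← hj', ← zpow_mul, ← zpow_mul, mul_comm]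
        _ = n * x * n⁻¹ := by rw [← hk', conj_zpow, hj']
        _ = x := hfix
    rw [zpow_sub_one, h1, mul_inv_cancel]
  have hit : ∀ i : ℕ, n ^ i * (a : G) * (n ^ i)⁻¹ = (a : G) ^ (k ^ i) := by
    intro i
    induction i with
    | zero => simp
    | succ i ih =>
      calc n ^ (i + 1) * (a : G) * (n ^ (i + 1))⁻¹ = n * (n ^ i * (a : G) * (n ^ i)⁻¹) * n⁻¹ := by
            rw [pow_succ']; group
        _ = ((a : G) ^ k) ^ (k ^ i) := by rw [ih, ← conj_zpow, hk']
        _ = (a : G) ^ (k ^ (i + 1)) := by rw [← zpow_mul, pow_succ']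
  obtain ⟨m, hm⟩ := P.2 a
  have hm' : orderOf (a : G) ∣ p ^ m := orderOf_dvd_of_pow_eq_one (congrArg Subtype.val hm)
  have hcent : n ^ p ^ m ∈ Subgroup.centralizer ((P : Subgroup G) : Set G) := by
    intro q hq
    obtain ⟨i, hi⟩ := ha ⟨q, hq⟩
    have hi' : (a : G) ^ i = q := by simpa using congrArg Subtype.val hi
    have h1 : (a : G) ^ (k ^ p ^ m - 1) = 1 := by
      refine orderOf_dvd_iff_zpow_eq_one.mp ((Int.natCast_dvd_natCast.mpr hm').trans ?_)
      have := dvd_sub_pow_of_dvd_sub (R := ℤ) (p := p) (a := k) (b := 1) hk1 m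
      rw [one_pow] at this
      push_cast
      exact (pow_dvd_pow _ (Nat.le_succ m)).trans this
    have h2 : Commute (n ^ p ^ m) (a : G) := by
      have h3 := hit (p ^ m)
      rw [zpow_sub_one, mul_inv_eq_one] at h1
      rw [h1] at h3
      exact mul_inv_eq_iff_eq_mul.mp h3
    rw [← hi']
    exact (h2.zpow_right i).symm
  set C := Subgroup.centralizer ((P : Subgroup G) : Set G) with hC
  set M := Subgroup.normalizer ((P : Subgroup G) : Set G) with hM
  have hPC : (P : Subgroup G) ≤ C := fun u hu q hq => by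
    haveI : IsMulCommutative ↥(P : Subgroup G) := IsCyclic.isMulCommutative
    exact congrArg Subtype.val (mul_comm' (⟨q, hq⟩ : ↥(P : Subgroup G)) ⟨u, hu⟩)
  haveI : (C.subgroupOf M).Normal := ⟨fun y hy g => by
    rw [Subgroup.mem_subgroupOf] at hy ⊢
    intro r hr
    obtain ⟨g, hg⟩ := g
    obtain ⟨y, hy'⟩ := y
    push_cast
    have h1 := hy _ ((Subgroup.mem_normalizer_iff''.mp hg r).mp hr)
    calc r * (g * y * g⁻¹) = g * ((g⁻¹ * r * g) * y) * g⁻¹ := by group
      _ = g * y * g⁻¹ * r := by rw [h1]; group⟩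
  have hcop : (C.relIndex M).Coprime p := (hp.coprime_iff_not_dvd.mpr fun h => P.not_dvd_index
    ((h.trans (Subgroup.relIndex_dvd_index_of_le (Subgroup.centralizer_le_normalizer _))).trans
      (Subgroup.index_dvd_of_le hPC))).symm
  have h1 : n ^ C.relIndex M ∈ C := Subgroup.pow_index_mem (H := C.subgroupOf M) (⟨n, hn⟩ : ↥M)
  have h2 : n ^ p ^ m ∈ C := hcent
  have h3 : (n ^ C.relIndex M) ^ (C.relIndex M).gcdA (p ^ m) * (n ^ p ^ m) ^ (C.relIndex M).gcdB (p ^ m) ∈ C :=
    C.mul_mem (Subgroup.zpow_mem _ h1 _) (Subgroup.zpow_mem _ h2 _)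
  rwa [← zpow_natCast, ← zpow_mul, ← zpow_natCast n (p ^ m), ← zpow_mul, ← zpow_add, ← Nat.gcd_eq_gcd_ab,
    (hcop.pow_right m).gcd_eq_one, Nat.cast_one, zpow_one] at h3

end Cfsg.Agent.S2970
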