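import Cfsg.Statements.S2971
import Mathlib
import Cfsg.Agent.Lib.Basic
import Cfsg.Agent.Lib.Frobenius.UniqueSubgroup
import Cfsg.Agent.Lib.OddLocal.NarrowAut

set_option autoImplicit false
set_option linter.unusedVariables false
open Cfsg
open scoped commutatorElement

namespace Cfsg.Agent.S2971

open CfsgLib

/-- Let G be a finite group and p an odd prime such that G has p-rank at most 1 (no elementary abelian subgroup of order p²). If x ∈ G is an isolated element of order p, then x is central modulo the largest normal subgroup of G of order prime to p. -/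
theorem result {G : Type*} [Group G] [Finite G] {p : ℕ} [Fact p.Prime] (hp : p ≠ 2) (hrk : Cfsg.PRankLE p 1 G) (x : G) (hx : orderOf x = p) (hiso : Cfsg.IsIsolated x) : Cfsg.InZStar p x := by
  classical
  have hpp := (Fact.out : p.Prime)
  obtain ⟨P, hP⟩ : ∃ P : Sylow p G, x ∈ P := by
    obtain ⟨P, hP⟩ := (IsPGroup.of_card (n := 1) (G := ↥(Subgroup.zpowers x)) (by rw [Nat.card_zpowers, hx, pow_one])).exists_le_sylow
    exact ⟨P, hP (Subgroup.mem_zpowers x)⟩
  have huniq : ∀ y : G, y ∈ P → y ^ p = 1 → ∀ z : G, z ∈ P → orderOf z = p → y * z = z * y → y ∈ Subgroup.zpowers z := by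
    intro y _ hy z _ hz hyz
    have hcomm : IsMulCommutative ↥(Subgroup.closure ({y, z} : Set G)) :=
      Subgroup.isMulCommutative_closure fun a ha b hb => by
        rcases ha with rfl | rfl <;> rcases hb with rfl | rfl <;> first | rfl | exact hyz | exact hyz.symm
    have hexp : ∀ a ∈ Subgroup.closure ({y, z} : Set G), a ^ p = 1 := by
      intro a ha
      induction ha using Subgroup.closure_induction with
      | mem a ha => rcases ha with rfl | rfl; exacts [hy, by rw [← hz]; exact pow_orderOf_eq_one _]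
      | one => exact one_pow p
      | mul a b ha hb e1 e2 =>
        have hc : Commute a b := congrArg Subtype.val (hcomm.is_comm.comm (⟨a, ha⟩ : ↥(Subgroup.closure ({y, z} : Set G))) ⟨b, hb⟩)
        rw [hc.mul_pow, e1, e2, one_mul]
      | inv a ha e => rw [inv_pow, e, inv_one]
    have hle : Subgroup.zpowers z ≤ Subgroup.closure ({y, z} : Set G) :=
      Subgroup.zpowers_le.mpr (Subgroup.subset_closure (by simp))
    rw [Subgroup.eq_of_le_of_card_ge hle (by rw [Nat.card_zpowers, hz]; simpa using hrk _ hcomm hexp)]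
    exact Subgroup.subset_closure (by simp)
  haveI hcyc : IsCyclic ↥(P : Subgroup G) := by
    refine CfsgLib.Frob.isCyclic_of_uniq_odd hp P.2 ?_
    obtain ⟨c, hc, hcp⟩ : ∃ c ∈ Subgroup.center ↥(P : Subgroup G), orderOf c = p := by
      haveI : Nontrivial ↥(P : Subgroup G) := ⟨⟨x, hP⟩, 1, fun e => hpp.ne_one (hx ▸ orderOf_eq_one_iff.mpr (congrArg Subtype.val e))⟩
      haveI := P.2.center_nontrivial
      obtain ⟨k, hk⟩ := IsPGroup.iff_card.mp (P.2.to_subgroup (Subgroup.center ↥(P : Subgroup G)))
      have hd : p ∣ Nat.card ↥(Subgroup.center ↥(P : Subgroup G)) := by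
        rw [hk]; exact dvd_pow_self p (fun e => by rw [e, pow_zero] at hk; exact absurd hk (Finite.one_lt_card).ne')
      obtain ⟨c, hc⟩ := exists_prime_orderOf_dvd_card' p hd
      exact ⟨c, c.2, by rw [Subgroup.orderOf_coe, hc]⟩
    intro A B hA hB
    have key : ∀ A : Subgroup ↥(P : Subgroup G), Nat.card ↥A = p → A = Subgroup.zpowers c := by
      intro A hA
      refine Subgroup.eq_of_le_of_card_ge (fun a ha => ?_) (by rw [Nat.card_zpowers, hcp, hA])
      have h1 : a ^ p = 1 := by
        have h := pow_card_eq_one' (x := (⟨a, ha⟩ : A))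
        rw [hA] at h
        exact congrArg Subtype.val h
      have h2 := huniq (a : G) a.2 (by exact_mod_cast congrArg Subtype.val h1) (c : G) c.2
        (by rw [Subgroup.orderOf_coe, hcp]) (congrArg Subtype.val (Subgroup.mem_center_iff.mp hc a))
      obtain ⟨i, hi⟩ := h2
      exact ⟨i, Subtype.ext (by simpa using hi)⟩
    rw [key A hA, key B hB]
  have hcomm : ∀ a ∈ (P : Subgroup G), ∀ b ∈ (P : Subgroup G), a * b = b * a := by
    obtain ⟨g, hg⟩ := (inferInstance : IsCyclic ↥(P : Subgroup G)).exists_generator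
    intro a ha b hb
    obtain ⟨i, hi⟩ := hg ⟨a, ha⟩
    obtain ⟨j, hj⟩ := hg ⟨b, hb⟩
    have e : (⟨a, ha⟩ : ↥(P : Subgroup G)) * ⟨b, hb⟩ = ⟨b, hb⟩ * ⟨a, ha⟩ := by
      rw [← hi, ← hj]; exact ((Commute.refl g).zpow_zpow i j).eq
    exact congrArg Subtype.val e
  have hburn : Subgroup.normalizer ((P : Subgroup G) : Set G) ≤ Subgroup.centralizer ((P : Subgroup G) : Set G) := by
    intro n hn
    obtain ⟨α, hα⟩ : ∃ α : MulAut ↥(P : Subgroup G), ∀ a, (α a : G) = n * a * n⁻¹ :=
      ⟨{ toFun := fun a => ⟨n * a * n⁻¹, (Subgroup.mem_normalizer_iff.mp hn _).mp a.2⟩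
         invFun := fun a => ⟨n⁻¹ * a * n, (Subgroup.mem_normalizer_iff''.mp hn _).mp a.2⟩
         left_inv := fun a => Subtype.ext (by simp [mul_assoc])
         right_inv := fun a => Subtype.ext (by simp [mul_assoc])
         map_mul' := fun a b => Subtype.ext (by simp [mul_assoc]) }, fun a => rfl⟩
    have hfixx : ∀ a : ↥(P : Subgroup G), a ^ p = 1 → α a = a := by
      intro a ha
      have h2 := huniq (a : G) a.2 (by exact_mod_cast congrArg Subtype.val ha) x hP hx (hcomm _ a.2 _ hP)
      obtain ⟨i, hi⟩ := h2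
      have h3 : n * x * n⁻¹ = x := hiso n (hcomm _ hP _ ((Subgroup.mem_normalizer_iff.mp hn _).mp hP))
      refine Subtype.ext ?_
      rw [hα, ← (show x ^ i = (a : G) from hi), ← MulAut.conj_apply, map_zpow, MulAut.conj_apply, h3]
    obtain ⟨k, m, hm, he⟩ := Nat.exists_eq_pow_mul_and_not_dvd (orderOf_pos n).ne' p hpp.ne_one
    have hcop : Nat.Coprime (p ^ k) m := Nat.Coprime.pow_left k (hpp.coprime_iff_not_dvd.mpr hm)
    have hnP : n ^ m ∈ (P : Subgroup G) := by
      have hp2 : IsPGroup p ↥(Subgroup.zpowers (n ^ m)) := by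
        obtain ⟨j, -, hj⟩ := (Nat.dvd_prime_pow hpp).mp (orderOf_dvd_of_pow_eq_one
          (by rw [← pow_mul, mul_comm, ← he, pow_orderOf_eq_one] : (n ^ m) ^ (p ^ k) = 1))
        exact IsPGroup.of_card (by rw [Nat.card_zpowers, hj])
      have hle := IsPGroup.to_sup_of_normal_right' hp2 P.2 (Subgroup.zpowers_le.mpr (Subgroup.pow_mem _ hn m))
      rw [← P.3 hle le_sup_right]
      exact Subgroup.mem_sup_left (Subgroup.mem_zpowers _)
    have hpart : ∀ a ∈ (P : Subgroup G), n ^ p ^ k * a = a * n ^ p ^ k := by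
      intro a ha
      have hord : (orderOf (α ^ p ^ k)).Coprime p := by
        have hd : orderOf (α ^ p ^ k) ∣ m := by
          refine orderOf_dvd_of_pow_eq_one ?_
          rw [← pow_mul, ← he]
          have key : ∀ (j : ℕ) (b : ↥(P : Subgroup G)), (((α ^ j) b) : G) = n ^ j * b * (n ^ j)⁻¹ := by
            intro j
            induction j with
            | zero => intro b; simp
            | succ j ih => intro b; rw [pow_succ, MulAut.mul_apply, ih, hα, pow_succ]; group
          ext b
          rw [key, pow_orderOf_eq_one]; simp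
        exact Nat.Coprime.coprime_dvd_left hd ((hpp.coprime_iff_not_dvd.mpr hm).symm)
      haveI : IsCyclic ↥(⊤ : Subgroup ↥(P : Subgroup G)) := Subgroup.isCyclic _
      have h5 := CfsgLib.NarrowAut.fix_cyclic P.2 (C := (⊤ : Subgroup ↥(P : Subgroup G))) hord (fun c _ => trivial)
        (fun c _ hc => by
          have : ∀ j : ℕ, (α ^ j) c = c := by
            intro j
            induction j with
            | zero => simp
            | succ j ih => rw [pow_succ, MulAut.mul_apply, hfixx c hc, ih]
          exact this _) ⟨a, ha⟩ trivial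
      have key : ∀ (j : ℕ) (b : ↥(P : Subgroup G)), (((α ^ j) b) : G) = n ^ j * b * (n ^ j)⁻¹ := by
        intro j
        induction j with
        | zero => intro b; simp
        | succ j ih => intro b; rw [pow_succ, MulAut.mul_apply, ih, hα, pow_succ]; group
      have h6 := congrArg Subtype.val h5
      rw [key] at h6
      exact mul_inv_eq_iff_eq_mul.mp h6
    rw [Subgroup.mem_centralizer_iff]
    intro a ha
    have h1 : Commute a (n ^ m) := hcomm a ha _ hnP
    have h2 : Commute a (n ^ p ^ k) := (hpart a ha).symm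
    have e : n = (n ^ (p ^ k)) ^ (Nat.gcdA (p ^ k) m) * (n ^ m) ^ (Nat.gcdB (p ^ k) m) := by
      rw [← zpow_natCast n (p ^ k), ← zpow_natCast n m, ← zpow_mul, ← zpow_mul, ← zpow_add, ← Nat.gcd_eq_gcd_ab,
        hcop.gcd_eq_one, Nat.cast_one, zpow_one]
    rw [e]
    exact ((h2.zpow_right _).mul_right (h1.zpow_right _)).eq
  set τ := MonoidHom.transferSylow P hburn
  have hK := MonoidHom.ker_transferSylow_isComplement' P hburn
  have hcop : (Nat.card ↥τ.ker).Coprime p := by
    rw [← hK.index_eq_card]
    exact (hpp.coprime_iff_not_dvd.mpr P.not_dvd_index).symm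
  intro g
  refine le_pPrimeCore hcop (MonoidHom.mem_ker.mpr ?_)
  simp only [map_mul, map_inv]
  have := hcomm (τ g : G) (τ g).2 (τ x : G) (τ x).2
  rw [mul_inv_eq_one, mul_inv_eq_iff_eq_mul]
  exact Subtype.ext this

end Cfsg.Agent.S2971
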