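import Cfsg.Statements.S2975
import Cfsg.Agent.Lib.Components
import Cfsg.Agent.Lib.Isolated
import Cfsg.Agent.Lib.Coprime
import Cfsg.Agent.Lib.PSolvable

set_option autoImplicit false
set_option linter.unusedVariables false
open Cfsg
open scoped commutatorElement

namespace Cfsg.Agent.S2975

/-- Let G be a finite group, p a prime and x ∈ G an isolated element of order p (the only conjugate of x commuting with x is x) which is not central modulo the largest normal subgroup of order prime to p, while x is central modulo the largest normal subgroup of order prime to p in every proper subgroup containing x, and the image of x is so in every quotient of G by a nontrivial normal subgroup (a minimal counterexample to the Z*_p statement). Then for every prime q, every q-subgroup of G that is normalized by x and maximal among the q-subgroups normalized by x is either trivial or a Sylow q-subgroup of G; and C_G(x) permutes the x-invariant Sylow q-subgroups of G transitively by conjugation. -/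
theorem result {G : Type*} [Group G] [Finite G] {p : ℕ} [Fact p.Prime] (x : G) (hx : orderOf x = p) (hiso : Cfsg.IsIsolated x) (hnz : ¬ Cfsg.InZStar p x) (hmin : ∀ (H : Subgroup G) (hxH : x ∈ H), H ≠ ⊤ → Cfsg.InZStar p (⟨x, hxH⟩ : ↥H)) (hquot : ∀ (N : Subgroup G) [N.Normal], N ≠ ⊥ → Cfsg.InZStar p (QuotientGroup.mk x : G ⧸ N)) (q : ℕ) [Fact q.Prime] : (∀ Q : Subgroup G, IsPGroup q ↥Q → x ∈ Subgroup.normalizer (Q : Set G) → (∀ R : Subgroup G, IsPGroup q ↥R → x ∈ Subgroup.normalizer (R : Set G) → Q ≤ R → R = Q) → Q = ⊥ ∨ ∃ S : Sylow q G, (S : Subgroup G) = Q) ∧ (∀ S₁ S₂ : Sylow q G, x ∈ Subgroup.normalizer ((S₁ : Subgroup G) : Set G) → x ∈ Subgroup.normalizer ((S₂ : Subgroup G) : Set G) → ∃ c ∈ Subgroup.centralizer ({x} : Set G), (S₁ : Subgroup G).map (MulAut.conj c).toMonoidHom = (S₂ : Subgroup G)) := by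
    classical
    have hxp : IsPGroup p (Subgroup.zpowers x) :=
      IsPGroup.of_card (n := 1) (by rw [Nat.card_zpowers, hx, pow_one])
    have hcore : pPrimeCore p G = ⊥ := by
      by_contra hne
      refine hnz fun g => ?_
      have h := hquot (pPrimeCore p G) hne (g : G)
      rw [CfsgLib.pPrimeCore_quotient_eq_bot p, Subgroup.mem_bot] at h
      rw [← QuotientGroup.eq_one_iff]
      exact h
    constructor
    · intro Q hQ hxQ hmax
      by_cases hQ1 : Q = ⊥
      · exact Or.inl hQ1
      right
      by_cases hqp : q = p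
      · subst hqp
        have h1 : Q ⊔ Subgroup.zpowers x = Q :=
          hmax _ (hQ.to_sup_of_normal_left' hxp (Subgroup.zpowers_le.mpr hxQ))
            (Subgroup.le_normalizer (Subgroup.mem_sup_right (Subgroup.mem_zpowers x))) le_sup_left
        obtain ⟨S, hS⟩ := hQ.exists_le_sylow
        exact ⟨S, hmax S S.2 (Subgroup.le_normalizer
          (hS (h1 ▸ Subgroup.mem_sup_right (Subgroup.mem_zpowers x)))) hS⟩
      set N := Subgroup.normalizer (Q : Set G) with hN
      have hNne : N ≠ ⊤ := fun h => by
        haveI : Q.Normal := Subgroup.normalizer_eq_top_iff.mp h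
        exact hQ1 (le_bot_iff.mp (hcore ▸ (CfsgLib.le_pCore hQ).trans
          (CfsgLib.pCore_le_pPrimeCore_of_ne Fact.out Fact.out (Ne.symm hqp))))
      have hz := hmin N hxQ hNne
      obtain ⟨T⟩ : Nonempty (Sylow q N) := inferInstance
      set M := pPrimeCore p N with hM
      set K := M ⊔ (T : Subgroup N) with hK
      set x' : N := ⟨x, hxQ⟩ with hx'
      have hxK : Subgroup.zpowers x' ≤ Subgroup.normalizer (K : Set N) := by
        rw [Subgroup.zpowers_le, Subgroup.mem_normalizer_iff_map_conj_eq]
        refine Subgroup.eq_of_le_of_card_ge ?_ (le_of_eq (Subgroup.card_map_of_injective (MulAut.conj x').injective).symm)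
        rw [hK, Subgroup.map_sup]
        refine sup_le ?_ ?_
        · rintro _ ⟨m, hm, rfl⟩
          exact Subgroup.mem_sup_left ((inferInstance : M.Normal).conj_mem m hm x')
        · rintro _ ⟨t, ht, rfl⟩
          show x' * t * x'⁻¹ ∈ K
          have h1 : (t * x' * t⁻¹ * x'⁻¹)⁻¹ ∈ M := inv_mem (hz t)
          rw [show x' * t * x'⁻¹ = (t * x' * t⁻¹ * x'⁻¹)⁻¹ * t by group]
          exact mul_mem (Subgroup.mem_sup_left h1) (Subgroup.mem_sup_right ht)
      have hKp : ¬ p ∣ Nat.card K := by
        intro hd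
        obtain ⟨y, hy⟩ := exists_prime_orderOf_dvd_card' (G := K) p hd
        have hyT : ((y : N) : N ⧸ M) ∈ (T : Subgroup N).map (QuotientGroup.mk' M) := by
          have h1 : ((y : N) : N ⧸ M) ∈ K.map (QuotientGroup.mk' M) := ⟨y, y.2, rfl⟩
          simpa only [hK, Subgroup.map_sup, QuotientGroup.map_mk'_self, bot_sup_eq] using h1
        obtain ⟨k, hk⟩ := (T.2.map (QuotientGroup.mk' M)) ⟨_, hyT⟩
        have hk' : ((y : N) : N ⧸ M) ^ q ^ k = 1 := congrArg Subtype.val hk
        have hy' : orderOf (y : N) = p := by rw [Subgroup.orderOf_coe, hy]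
        have h2 : ((y : N) : N ⧸ M) = 1 := orderOf_eq_one_iff.mp (Nat.eq_one_of_dvd_coprimes
          (((Nat.coprime_primes (Fact.out : q.Prime) (Fact.out : p.Prime)).mpr hqp).pow_left k).symm
          ((orderOf_map_dvd (QuotientGroup.mk' M) (y : N)).trans (dvd_of_eq hy')) (orderOf_dvd_of_pow_eq_one hk'))
        refine CfsgLib.not_dvd_card_pPrimeCore (G := N) (Fact.out : p.Prime) ?_
        exact (dvd_of_eq hy'.symm).trans (Subgroup.orderOf_dvd_natCard _ ((QuotientGroup.eq_one_iff (y : N)).mp h2))
      have hcop : (Nat.card (Subgroup.zpowers x')).Coprime (Nat.card K) := by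
        rw [Nat.card_zpowers, show orderOf x' = p from (Subgroup.orderOf_mk _ _).trans hx]
        exact (Fact.out : p.Prime).coprime_iff_not_dvd.mpr hKp
      haveI : Group.IsSolvable (Subgroup.zpowers x') := by
        letI : CommGroup (Subgroup.zpowers x') := IsCyclic.commGroup
        infer_instance
      obtain ⟨P, hP⟩ := CfsgLib.coprime_exists_invariant_sylow hxK hcop (Or.inl inferInstance) q
      set R := (P : Subgroup K).map K.subtype with hR
      have hRidx : ¬ q ∣ R.index := by
        have h1 : R.index = (P : Subgroup K).index * K.index := by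
          rw [hR, Subgroup.index_map_subtype]
        rw [h1, (Fact.out : q.Prime).dvd_mul]
        rintro (h | h)
        · exact P.not_dvd_index h
        · exact T.not_dvd_index (h.trans (Subgroup.index_dvd_of_le le_sup_right))
      have hRp : IsPGroup q R := P.2.map _
      have hQR : Q.subgroupOf N ≤ R :=
        (CfsgLib.le_pCore (hQ.of_equiv (Subgroup.subgroupOfEquivOfLe Subgroup.le_normalizer).symm)).trans
          (CfsgLib.pCore_le_sylow (hRp.toSylow hRidx))
      have hxR : x ∈ Subgroup.normalizer ((R.map N.subtype : Subgroup G) : Set G) := by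
        rw [Subgroup.mem_normalizer_iff_map_conj_eq, Subgroup.map_map]
        have h1 := Subgroup.mem_normalizer_iff_map_conj_eq.mp (hP (Subgroup.mem_zpowers x'))
        conv_rhs => rw [← h1, Subgroup.map_map]
        rfl
      have hQle : Q ≤ R.map N.subtype := fun u hu =>
        ⟨⟨u, Subgroup.le_normalizer hu⟩, hQR (Subgroup.mem_subgroupOf.mpr hu), rfl⟩
      have heq : R.map N.subtype = Q := hmax _ (hRp.map _) hxR hQle
      obtain ⟨S, hS⟩ := hQ.exists_le_sylow
      refine ⟨S, le_antisymm ?_ hS⟩
      by_contra hne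
      have hlt : Q.subgroupOf (S : Subgroup G) < ⊤ := lt_top_iff_ne_top.mpr fun h =>
        hne (Subgroup.subgroupOf_eq_top.mp h)
      haveI := S.2.isNilpotent
      obtain ⟨u, hu, huQ⟩ := SetLike.exists_of_lt (Group.normalizerCondition_of_isNilpotent _ hlt)
      have huN : (u : G) ∈ N := by
        refine Subgroup.mem_normalizer_iff.mpr fun v => ⟨fun hv => ?_, fun hv => ?_⟩
        · simpa [Subgroup.mem_subgroupOf] using (Subgroup.mem_normalizer_iff.mp hu ⟨v, hS hv⟩).mp hv
        · have hv' : (v : G) ∈ (S : Subgroup G) := by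
            simpa [mul_assoc] using mul_mem (mul_mem (inv_mem u.2) (hS hv)) u.2
          simpa [Subgroup.mem_subgroupOf] using (Subgroup.mem_normalizer_iff.mp hu ⟨v, hv'⟩).mpr hv
      set U := ((S : Subgroup G) ⊓ N).subgroupOf N with hU
      have hUp : IsPGroup q U := (S.2.to_le inf_le_left).of_equiv (Subgroup.subgroupOfEquivOfLe inf_le_right).symm
      have hRU : R ≤ U := fun r hr => by
        have h1 : (r : G) ∈ Q := heq ▸ ⟨r, hr, rfl⟩
        exact ⟨hS h1, r.2⟩
      have h2 : (⟨u, huN⟩ : N) ∈ R := by
        have h3 : U = R := (hRp.toSylow hRidx).3 hUp hRU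
        rw [← h3]
        exact ⟨u.2, huN⟩
      exact huQ (Subgroup.mem_subgroupOf.mpr (heq ▸ ⟨_, h2, rfl⟩))
    · intro S₁ S₂ h1 h2
      obtain ⟨g, hg⟩ := MulAction.exists_smul_eq G S₁ S₂
      have hgS : (S₁ : Subgroup G).map (MulAut.conj g).toMonoidHom = (S₂ : Subgroup G) := by
        rw [← hg]; rfl
      have hy : g * x * g⁻¹ ∈ Subgroup.normalizer ((S₂ : Subgroup G) : Set G) := by
        rw [Subgroup.mem_normalizer_iff_map_conj_eq] at h1 ⊢
        rw [← hgS, Subgroup.map_map]
        conv_rhs => rw [← h1, Subgroup.map_map]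
        congr 1
        ext w
        show g * x * g⁻¹ * (g * w * g⁻¹) * (g * x * g⁻¹)⁻¹ = g * (x * w * x⁻¹) * g⁻¹
        group
      have hyp : IsPGroup p (Subgroup.zpowers (g * x * g⁻¹)) := by
        have e : Subgroup.zpowers (g * x * g⁻¹) = (Subgroup.zpowers x).map (MulAut.conj g).toMonoidHom := by
          rw [MonoidHom.map_zpowers]; simp
        rw [e]; exact hxp.map _
      obtain ⟨c, hc, R, hR, -, hxR, hcR⟩ := CfsgLib.Local.exists_conj_isPGroup hxp hyp
        (Subgroup.zpowers_le.2 h2) (Subgroup.zpowers_le.2 hy)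
      have h3 : (c * g) * x * (c * g)⁻¹ = x := by
        refine CfsgLib.Local.isolated_unique hR (hxR (Subgroup.mem_zpowers x)) hiso (hcR ⟨_, Subgroup.mem_zpowers _, ?_⟩)
        simp [mul_assoc]
      refine ⟨c * g, Subgroup.mem_centralizer_singleton_iff.2 (mul_inv_eq_iff_eq_mul.1 h3), ?_⟩
      rw [show (MulAut.conj (c * g)).toMonoidHom = (MulAut.conj c).toMonoidHom.comp (MulAut.conj g).toMonoidHom by
        ext w; simp [mul_assoc], ← Subgroup.map_map, hgS]
      exact Subgroup.mem_normalizer_iff_map_conj_eq.mp hc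

end Cfsg.Agent.S2975
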