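import Cfsg.Statements.S2988
import Cfsg.Agent.Lib.PushPair.Joins

set_option autoImplicit false
universe u
open scoped Pointwise
open Cfsg CfsgLib.PushPair

namespace Cfsg.Agent.S2988

/-- Let p be a prime and S a nontrivial finite p-group. Write J(S) for the subgroup generated by the abelian subgroups of S of largest order (the large abelian subgroups) and J̃(S) = C_S(Z(J(S))). Unless S satisfies all of the following conditions — S is non-abelian; J(S) = S; Z(S) and Φ(S) are elementary abelian; Φ(S) ≤ Z(S) if p = 2, Φ(S) ≤ Z₂(S) if p = 3, and Φ(S) ≤ Z(S) with S of exponent p if p > 3; some large abelian subgroup is elementary abelian; and for all large abelian subgroups A, B and all subgroups Q of S one has |A|² = |S|·|Z(S)| ≥ |Q|·|Z(Q)| and ⟨A, B⟩ = AB = C_S(A ∩ B) — there exist nontrivial characteristic subgroups S₁ ≤ Z(S) and S₂ ≤ J̃(S) of S, S₂ characteristic in J̃(S), such that whenever S is embedded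 as a Sylow p-subgroup of a finite group G in the basic pushing-up situation, the image of S₁ or of S₂ is normal in G. -/
theorem result {p : ℕ} [Fact p.Prime] (S : Type u) [Group S] [Finite S] [Nontrivial S] (hS : IsPGroup p S) (hexc : ¬ (¬ IsMulCommutative S ∧ Cfsg.thompsonSubgroupA S = ⊤ ∧ Cfsg.IsElementaryAbelian p (Subgroup.center S) ∧ Cfsg.IsElementaryAbelian p (frattini S) ∧ (p = 2 → frattini S ≤ Subgroup.center S) ∧ (p = 3 → frattini S ≤ Subgroup.upperCentralSeries S 2) ∧ (3 < p → frattini S ≤ Subgroup.center S ∧ Monoid.exponent S = p) ∧ (∃ A ∈ Cfsg.maxAbelianSubgroups S, Cfsg.IsElementaryAbelian p A) ∧ (∀ A ∈ Cfsg.maxAbelianSubgroups S, ∀ B ∈ Cfsg.maxAbelianSubgroups S, ∀ Q : Subgroup S, Nat.card ↥A ^ 2 = Nat.card S * Nat.card ↥(Subgroup.center S) ∧ Nat.card ↥Q * Nat.card ↥(Subgroup.center ↥Q) ≤ Nat.card S * Nat.card ↥(Subgroup.center S) ∧ ((A ⊔ B : Subgroup S) : Set S) = (A : Set S) * (B :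 Set S) ∧ A ⊔ B = Subgroup.centralizer ((A ⊓ B : Subgroup S) : Set S)))) : ∃ S₁ S₂ : Subgroup S, S₁ ≠ ⊥ ∧ S₂ ≠ ⊥ ∧ S₁.Characteristic ∧ S₂.Characteristic ∧ S₁ ≤ Subgroup.center S ∧ S₂ ≤ Subgroup.centralizer ((Cfsg.thompsonSubgroupA S ⊓ Subgroup.centralizer (Cfsg.thompsonSubgroupA S : Set S) : Subgroup S) : Set S) ∧ (S₂.subgroupOf (Subgroup.centralizer ((Cfsg.thompsonSubgroupA S ⊓ Subgroup.centralizer (Cfsg.thompsonSubgroupA S : Set S) : Subgroup S) : Set S))).Characteristic ∧ ∀ (G : Type u) [Group G] [Finite G] (P : Subgroup G) (e : S ≃* ↥P), Cfsg.IsPushingUpSituation p P → ((S₁).map ((P.subtype).comp (e : S ≃* ↥P).toMonoidHom)).Normal ∨ ((S₂).map ((P.subtype).comp (e : S ≃* ↥P).toMonoidHom)).Normal := by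
  suffices key : (∃ S₁ S₂ : Subgroup S, S₁ ≠ ⊥ ∧ S₂ ≠ ⊥ ∧ S₁.Characteristic ∧ S₂.Characteristic ∧
      S₁ ≤ Subgroup.center S ∧ S₂ ≤ jt S ∧ (S₂.subgroupOf (jt S)).Characteristic ∧
      ∀ s : Sit p S, (S₁.map s.τ).Normal ∨ (S₂.map s.τ).Normal) by
    obtain ⟨S₁, S₂, h₁, h₂, c₁, c₂, hle, hJt, hc, hall⟩ := key
    exact ⟨S₁, S₂, h₁, h₂, c₁, c₂, hle, hJt, hc, fun G _ _ P e hG => normal_of_situation e hG hall⟩
  have weaken : PairSit p S → _ := fun ⟨S₁, S₂, h₁, h₂, c₁, c₂, hle, hJt, hc, _, hall⟩ =>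
    (⟨S₁, S₂, h₁, h₂, c₁, c₂, hle, hJt, hc, hall⟩ : ∃ S₁ S₂ : Subgroup S, S₁ ≠ ⊥ ∧ S₂ ≠ ⊥ ∧ S₁.Characteristic ∧
      S₂.Characteristic ∧ S₁ ≤ Subgroup.center S ∧ S₂ ≤ jt S ∧ (S₂.subgroupOf (jt S)).Characteristic ∧
      ∀ s : Sit p S, (S₁.map s.τ).Normal ∨ (S₂.map s.τ).Normal)
  by_cases hzj : ⁅zjS S, (⊤ : Subgroup S)⁆ = ⊥
  swap
  · exact weaken (pairSit_of_jt hS hzj)
  have h := jt_eq_top hzj
  by_cases hab : IsMulCommutative S
  · exact weaken (pairSit_abelian hab h)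
  by_cases hΦ : Cfsg.frattiniOfMinimalCLJoin p S = ⊥
  swap
  · haveI := hS.center_nontrivial
    exact ⟨Subgroup.center S, _, (Subgroup.nontrivial_iff_ne_bot _).mp inferInstance, hΦ, inferInstance,
      frattiniJoin_char, le_rfl, h ▸ le_top, char_subgroupOf_top h frattiniJoin_char, pairSit_frattini hS h hΦ⟩
  obtain ⟨hiff, A, hA, hAel⟩ := CfsgLib.PushRankOne.frattini_trivial hS hΦ
  rcases pairSit_or_conds hS h with hp | ⟨hel, hC⟩
  · exact weaken hp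
  obtain ⟨e1, e2, e3, e4, e5⟩ := exceptional hS hab hel hC
  obtain ⟨hJ, hfacts⟩ := lattice_facts h hiff
  exact absurd ⟨hab, hJ, e1, e2, e3, e4, e5, ⟨A, hA, hAel⟩, hfacts⟩ hexc

end Cfsg.Agent.S2988
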